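import Cfsg.Statements.S3277
import Cfsg.Agent.Lib.Involutions.ElemCentralizer
import Cfsg.Agent.Lib.Involutions.Dihedral
import Cfsg.Agent.Lib.Transfer.Fusion
import Mathlib.GroupTheory.SpecificGroups.Alternating

set_option autoImplicit false
open Cfsg

namespace Cfsg.Agent.S3277

open Pointwise in
/-- If `C(x)` has order four then it is a Sylow subgroup, unless a small normal subgroup exists. -/
lemma card_sylow_eq_four {G : Type*} [Group G] [Finite G] (x : G) (hx : orderOf x = 2)
    (hC4 : Nat.card ↥(Subgroup.centralizer ({x} : Set G)) = 4)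
    (hne : ∀ E : Subgroup G, E.Normal → Cfsg.IsElementaryAbelian 2 E → Nat.card ↥E ≠ 2 ∧ Nat.card ↥E ≠ 4)
    (S : Sylow 2 G) (hCS : Subgroup.centralizer ({x} : Set G) ≤ S) :
    (S : Subgroup G) = Subgroup.centralizer ({x} : Set G) := by
  haveI : Fact (Nat.Prime 2) := ⟨Nat.prime_two⟩
  classical
  set C := Subgroup.centralizer ({x} : Set G) with hC
  by_contra hSC
  have hlt : C < (S : Subgroup G) := lt_of_le_of_ne hCS (Ne.symm hSC)
  have hSnt : Nontrivial (S : Subgroup G) := by
    rw [Subgroup.nontrivial_iff_ne_bot]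
    intro h
    exact not_lt_bot (h ▸ hlt)
  obtain ⟨k, hk⟩ := IsPGroup.iff_card.mp (S.2.to_subgroup (Subgroup.center (S : Subgroup G)))
  have := S.2.center_nontrivial
  have h1 : 1 < Nat.card (Subgroup.center (S : Subgroup G)) := Finite.one_lt_card
  obtain ⟨z', hz'⟩ := exists_prime_orderOf_dvd_card' (p := 2)
    (show 2 ∣ Nat.card (Subgroup.center (S : Subgroup G)) by
      rw [hk] at h1 ⊢
      exact dvd_pow_self 2 (by rintro rfl; simp at h1))
  set z : G := ((z' : (S : Subgroup G)) : G) with hzdef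
  have hzo : orderOf z = 2 := by rw [hzdef, Subgroup.orderOf_coe, Subgroup.orderOf_coe, hz']
  have hzc : ∀ y ∈ (S : Subgroup G), y * z = z * y := fun y hy =>
    congrArg Subtype.val (Subgroup.mem_center_iff.mp z'.2 ⟨y, hy⟩)
  have hxC : x ∈ C := Subgroup.mem_centralizer_singleton_iff.2 rfl
  have hzC : z ∈ C := Subgroup.mem_centralizer_singleton_iff.2 (hzc x (hCS hxC)).symm
  have hxz : x ≠ z := fun h => hlt.not_ge fun s hs =>
    Subgroup.mem_centralizer_singleton_iff.2 (h ▸ hzc s hs)
  have hx1 : x ≠ 1 := Invol.ne_one hx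
  have hz1 : z ≠ 1 := Invol.ne_one hzo
  have hxz1 : x * z ≠ 1 := fun h => hxz (by
    rw [mul_eq_one_iff_eq_inv, Invol.inv_self hzo] at h; exact h)
  have memC : ∀ c, c * x = x * c → c = 1 ∨ c = x ∨ c = z ∨ c = x * z := by
    intro c hc
    haveI := Fintype.ofFinite G
    let T : Finset G := {1, x, z, x * z}
    have hT : T.card = 4 := by
      simp [T, Finset.card_insert_of_notMem, hx1.symm, hz1.symm, hxz1.symm, hxz, hz1, hx1]
    have hsub : T ⊆ (C : Set G).toFinset := by
      intro t ht
      simp only [T, Finset.mem_insert, Finset.mem_singleton] at ht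
      rw [Set.mem_toFinset, SetLike.mem_coe]
      rcases ht with rfl | rfl | rfl | rfl
      · exact one_mem _
      · exact hxC
      · exact hzC
      · exact mul_mem hxC hzC
    have heq := Finset.eq_of_subset_of_card_le hsub (by
      rw [hT, Set.toFinset_card, Fintype.card_eq_nat_card]; exact hC4.le)
    have : c ∈ T := by
      rw [heq, Set.mem_toFinset, SetLike.mem_coe, hC, Subgroup.mem_centralizer_singleton_iff]; exact hc
    simpa [T] using this
  -- `x z` is conjugate to `x` in `S`
  obtain ⟨s, hsS, hsx⟩ : ∃ s ∈ (S : Subgroup G), s * x * s⁻¹ = x * z := by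
    haveI : Group.IsNilpotent (S : Subgroup G) := S.2.isNilpotent
    have htop : C.subgroupOf (S : Subgroup G) < ⊤ :=
      lt_top_iff_ne_top.2 fun h => hlt.not_ge (Subgroup.subgroupOf_eq_top.1 h)
    obtain ⟨⟨s, hs⟩, hsN, hsC⟩ := SetLike.exists_of_lt
      (Group.normalizerCondition_of_isNilpotent (G := (S : Subgroup G)) _ htop)
    refine ⟨s, hs, ?_⟩
    have h2 : s * x * s⁻¹ ∈ C := by
      simpa [Subgroup.mem_subgroupOf] using
        (Subgroup.mem_normalizer_iff.1 hsN ⟨x, hCS hxC⟩).1 (Subgroup.mem_subgroupOf.2 hxC)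
    rw [hC, Subgroup.mem_centralizer_singleton_iff] at h2
    rcases memC _ h2 with h | h | h | h
    · exact absurd (conj_eq_one_iff.1 h) hx1
    · exact absurd (Subgroup.mem_subgroupOf.2 (Subgroup.mem_centralizer_singleton_iff.2 (mul_inv_eq_iff_eq_mul.1 h))) hsC
    · refine absurd ?_ hxz
      calc x = s⁻¹ * (s * x * s⁻¹) * s := by group
        _ = s⁻¹ * (z * s) := by rw [h]; group
        _ = z := by rw [← hzc s hs, inv_mul_cancel_left]
    · exact h
  -- `x` and `z` are not conjugate
  have hnconj : ∀ g : G, g * x * g⁻¹ ≠ z := by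
    intro g hg
    have hle : (S : Subgroup G) ≤ Subgroup.centralizer ({z} : Set G) := fun y hy =>
      Subgroup.mem_centralizer_singleton_iff.2 (hzc y hy)
    have hcard : Nat.card ↥(Subgroup.centralizer ({z} : Set G)) ≤ 4 := by
      rw [← hC4]
      refine Nat.card_le_card_of_injective (fun y => (⟨g⁻¹ * (y : G) * g, ?_⟩ : C)) ?_
      · rw [hC, Subgroup.mem_centralizer_singleton_iff]
        have := Subgroup.mem_centralizer_singleton_iff.1 y.2
        rw [show x = g⁻¹ * z * g by rw [← hg]; group]
        calc g⁻¹ * (y : G) * g * (g⁻¹ * z * g) = g⁻¹ * ((y : G) * z) * g := by group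
          _ = g⁻¹ * (z * (y : G)) * g := by rw [this]
          _ = _ := by group
      · intro a b hab
        exact Subtype.ext (by simpa using hab)
    have h4 : Nat.card (S : Subgroup G) ≤ 4 :=
      (Nat.card_le_card_of_injective _ (Subgroup.inclusion_injective hle)).trans hcard
    exact hSC ((Subgroup.eq_of_le_of_card_ge hCS (h4.trans hC4.ge)).symm)
  -- conjugates of `z` commute
  have key : ∀ g v : G, (∃ h, h * z * h⁻¹ = v) → Commute (g * z * g⁻¹) v := by
    rintro g v ⟨h, hv⟩
    set u := g * x * g⁻¹ with hu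
    have huo : orderOf u = 2 := by rw [hu, Invol.order_conj, hx]
    have hvo : orderOf v = 2 := by rw [← hv, Invol.order_conj, hzo]
    have heven : Even (orderOf (u * v)) := by
      rw [← Nat.not_odd_iff_even]
      intro hodd
      obtain ⟨d, -, hd⟩ := Invol.conj_of_odd huo hvo hodd
      refine hnconj (h⁻¹ * d * g) ?_
      calc h⁻¹ * d * g * x * (h⁻¹ * d * g)⁻¹ = h⁻¹ * (d * (g * x * g⁻¹) * d⁻¹) * h := by group
        _ = z := by rw [← hu, hd, ← hv]; group
    set w := (u * v) ^ (orderOf (u * v) / 2) with hw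
    have hwu : w * u = u * w := (Invol.half_commute huo hvo heven).1.eq
    have hwv : w * v = v * w := (Invol.half_commute huo hvo heven).2.eq
    have hw1 : w ≠ 1 := Invol.ne_one (Invol.half_order huo hvo heven (orderOf_pos _))
    have huv : u ≠ v := fun e => hnconj (h⁻¹ * g) (by
      calc h⁻¹ * g * x * (h⁻¹ * g)⁻¹ = h⁻¹ * u * h := by rw [hu]; group
        _ = z := by rw [e, ← hv]; group)
    have hwc : g⁻¹ * w * g * x = x * (g⁻¹ * w * g) := by
      calc g⁻¹ * w * g * x = g⁻¹ * (w * u) * g := by rw [hu]; group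
        _ = g⁻¹ * (u * w) * g := by rw [hwu]
        _ = _ := by rw [hu]; group
    have hback : ∀ c, g⁻¹ * w * g = c → w = g * c * g⁻¹ := fun c hc => by rw [← hc]; group
    rcases memC _ hwc with e | e | e | e
    · exact absurd (by rw [hback _ e]; group) hw1
    · exfalso
      refine Invol.not_mem_zpowers huo hvo huv ?_
      have huw : w = u := hback _ e
      have hm : w ∈ Subgroup.zpowers (u * v) := Subgroup.npow_mem_zpowers _ _
      exact Eq.subst (motive := fun t => t ∈ Subgroup.zpowers (u * v)) huw hm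
    · rw [← hback _ e]
      exact hwv
    · -- `v` commutes with `g (x z) g⁻¹`
      have hwv' : (g * (x * z) * g⁻¹) * v = v * (g * (x * z) * g⁻¹) := by rw [← hback _ e]; exact hwv
      set v' := g⁻¹ * v * g with hv'
      have h1 : (x * z) * v' = v' * (x * z) := by
        calc (x * z) * v' = g⁻¹ * ((g * (x * z) * g⁻¹) * v) * g := by rw [hv']; group
          _ = g⁻¹ * (v * (g * (x * z) * g⁻¹)) * g := by rw [hwv']
          _ = _ := by rw [hv']; group
      have h2 : s⁻¹ * v' * s * x = x * (s⁻¹ * v' * s) := by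
        calc s⁻¹ * v' * s * x = s⁻¹ * (v' * (s * x * s⁻¹)) * s := by group
          _ = s⁻¹ * ((s * x * s⁻¹) * v') * s := by rw [hsx, h1]
          _ = _ := by group
      have hv'z : ∀ c, s⁻¹ * v' * s = c → v' = s * c * s⁻¹ := fun c hc => by rw [← hc]; group
      rcases memC _ h2 with e2 | e2 | e2 | e2
      · refine absurd ?_ (Invol.ne_one hvo)
        have := hv'z _ e2
        rw [hv', mul_one, mul_inv_cancel] at this
        calc v = g * (g⁻¹ * v * g) * g⁻¹ := by group
          _ = 1 := by rw [this]; group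
      · exfalso
        refine hnconj (h⁻¹ * g * s) ?_
        calc h⁻¹ * g * s * x * (h⁻¹ * g * s)⁻¹ = h⁻¹ * g * (s * x * s⁻¹) * (h⁻¹ * g)⁻¹ := by group
          _ = h⁻¹ * g * v' * (h⁻¹ * g)⁻¹ := by rw [← hv'z _ e2]
          _ = z := by rw [hv', ← hv]; group
      · have : v' = z := by rw [hv'z _ e2, hzc s hsS, mul_inv_cancel_right]
        have hvv : v = g * z * g⁻¹ := by rw [← this, hv']; group
        rw [hvv]
      · exfalso
        have h3 : v' = x := by
          rw [hv'z _ e2]
          calc s * (x * z) * s⁻¹ = (s * x * s⁻¹) * (s * z * s⁻¹) := by group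
            _ = x * z * z := by rw [hsx, hzc s hsS, mul_inv_cancel_right]
            _ = x := by rw [mul_assoc, Invol.mul_self hzo, mul_one]
        refine hnconj (h⁻¹ * g) ?_
        calc h⁻¹ * g * x * (h⁻¹ * g)⁻¹ = h⁻¹ * (g * v' * g⁻¹) * h := by rw [h3]; group
          _ = z := by rw [hv', ← hv]; group
  -- the normal closure of `z`
  set E := Subgroup.normalClosure ({z} : Set G) with hE
  have hconj : ∀ a ∈ Group.conjugatesOfSet ({z} : Set G), ∃ g, g * z * g⁻¹ = a := by
    intro a ha
    obtain ⟨b, hb, hc⟩ := Group.mem_conjugatesOfSet_iff.1 ha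
    rw [Set.mem_singleton_iff] at hb
    subst hb
    exact isConj_iff.1 hc
  have hEab : IsMulCommutative ↥E := by
    rw [hE, Subgroup.normalClosure]
    refine Subgroup.isMulCommutative_closure fun a ha b hb => ?_
    obtain ⟨g, rfl⟩ := hconj a ha
    exact (key g b (hconj b hb)).eq
  haveI := hEab
  have hE2 : ∀ a ∈ E, a ^ 2 = 1 := by
    intro a ha
    induction ha using Subgroup.closure_induction with
    | mem a ha =>
      obtain ⟨g, rfl⟩ := hconj a ha
      rw [conj_pow, pow_two, Invol.mul_self hzo, mul_one, mul_inv_cancel]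
    | one => exact one_pow 2
    | mul a b ha hb iha ihb =>
      rw [(show Commute a b from setLike_mul_comm (s := E) ha hb).mul_pow, iha, ihb, one_mul]
    | inv a _ iha => rw [inv_pow, iha, inv_one]
  have hEn : E.Normal := Subgroup.normalClosure_normal
  have hzE : z ∈ E := Subgroup.subset_normalClosure rfl
  have hE2' : IsPGroup 2 E := fun a => ⟨1, Subtype.ext (by simpa using hE2 a a.2)⟩
  obtain ⟨j, hj⟩ := IsPGroup.iff_card.1 hE2'
  have hEC4 : Nat.card E ≤ 4 := by
    by_cases hxE : x ∈ E
    · rw [← hC4]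
      exact Nat.card_le_card_of_injective _ (Subgroup.inclusion_injective
        (fun a ha => Subgroup.mem_centralizer_singleton_iff.2 (setLike_mul_comm (s := E) ha hxE) : E ≤ C))
    · let φ : E →* E := MonoidHom.mk' (fun a => ⟨(a : G) * (x * a * x⁻¹), mul_mem a.2 (hEn.conj_mem _ a.2 x)⟩)
        (by
          intro a b
          apply Subtype.ext
          show (a : G) * b * (x * ((a : G) * b) * x⁻¹) = (a : G) * (x * a * x⁻¹) * ((b : G) * (x * b * x⁻¹))
          calc (a : G) * b * (x * ((a : G) * b) * x⁻¹)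
              = (a : G) * ((b : G) * (x * a * x⁻¹)) * (x * b * x⁻¹) := by group
            _ = (a : G) * ((x * a * x⁻¹) * (b : G)) * (x * b * x⁻¹) := by
              rw [setLike_mul_comm (s := E) b.2 (hEn.conj_mem _ a.2 x)]
            _ = _ := by group)
      have hsub : ∀ a : E, (a : G) * x = x * (a : G) → a ∈ Subgroup.zpowers (⟨z, hzE⟩ : E) := by
        intro a ha
        rcases memC _ ha with e | e | e | e
        · rw [show a = 1 from Subtype.ext e]; exact one_mem _
        · exact absurd (e ▸ a.2) hxE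
        · rw [show a = ⟨z, hzE⟩ from Subtype.ext e]; exact Subgroup.mem_zpowers _
        · exfalso
          refine hxE ?_
          have := mul_mem (e ▸ a.2) hzE
          rwa [mul_assoc, Invol.mul_self hzo, mul_one] at this
      have hker : φ.ker ≤ Subgroup.zpowers (⟨z, hzE⟩ : E) := by
        intro a ha
        refine hsub a ?_
        have h := congrArg Subtype.val (MonoidHom.mem_ker.1 ha)
        have h' : (a : G) * (x * a * x⁻¹) = 1 := h
        rw [mul_eq_one_iff_inv_eq, inv_eq_of_mul_eq_one_right (by rw [← pow_two]; exact hE2 _ a.2),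
          eq_comm, mul_inv_eq_iff_eq_mul] at h'
        exact h'.symm
      have hrange : φ.range ≤ Subgroup.zpowers (⟨z, hzE⟩ : E) := by
        rintro _ ⟨a, rfl⟩
        refine hsub _ ?_
        show (a : G) * (x * a * x⁻¹) * x = x * ((a : G) * (x * a * x⁻¹))
        have hxi : x⁻¹ = x := Invol.inv_self hx
        have hc' := setLike_mul_comm (s := E) (hEn.conj_mem _ a.2 x) a.2
        rw [hxi] at hc' ⊢
        calc (a : G) * (x * a * x) * x = (a : G) * (x * a) * (x * x) := by group
          _ = (x * x) * (a : G) * (x * a) := by rw [Invol.mul_self hx, mul_one, one_mul]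
          _ = x * ((x * a * x) * (a : G)) := by group
          _ = _ := by rw [hc']
      have h2 : Nat.card (Subgroup.zpowers (⟨z, hzE⟩ : E)) = 2 := by
        rw [Nat.card_zpowers, Subgroup.orderOf_mk, hzo]
      rw [← φ.ker.card_mul_index, Subgroup.index_ker]
      calc _ ≤ 2 * 2 := Nat.mul_le_mul (h2 ▸ Nat.card_le_card_of_injective _ (Subgroup.inclusion_injective hker))
            (h2 ▸ Nat.card_le_card_of_injective _ (Subgroup.inclusion_injective hrange))
        _ = 4 := rfl
  have hj2 : j = 1 ∨ j = 2 := by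
    have : j ≤ 2 := (Nat.pow_le_pow_iff_right (by norm_num : 1 < 2)).1 (hj ▸ hEC4)
    have : j ≠ 0 := by
      rintro rfl
      rw [pow_zero, Subgroup.card_eq_one] at hj
      exact hz1 (Subgroup.mem_bot.1 (hj ▸ hzE))
    omega
  rcases hj2 with rfl | rfl
  · exact (hne E hEn ⟨hEab, hE2⟩).1 (by rw [hj, pow_one])
  · exact (hne E hEn ⟨hEab, hE2⟩).2 (by rw [hj]; norm_num)


/-- Let G be a finite group containing an involution whose centralizer is elementary abelian of order 4. If G has no normal 2-complement and no normal elementary abelian 2-subgroup of order 2 or 4, then G is isomorphic to the alternating group of degree 5 (that is, to PSL(2, 5)). -/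
theorem result {G : Type*} [Group G] [Finite G] (x : G) (hx : orderOf x = 2)
    (hC4 : Nat.card ↥(Subgroup.centralizer ({x} : Set G)) = 4) (hCe : ∀ c ∈ Subgroup.centralizer ({x} : Set G), c ^ 2 = 1)
    (hnc : ¬ Cfsg.HasNormalPComplement 2 G)
    (hne : ∀ E : Subgroup G, E.Normal → Cfsg.IsElementaryAbelian 2 E → Nat.card ↥E ≠ 2 ∧ Nat.card ↥E ≠ 4) :
    Nonempty (G ≃* ↥(alternatingGroup (Fin 5))) := by
  haveI : Fact (Nat.Prime 2) := ⟨Nat.prime_two⟩
  classical
  set C := Subgroup.centralizer ({x} : Set G) with hC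
  have hCp : IsPGroup 2 C := IsPGroup.of_card (n := 2) (by rw [hC4]; norm_num)
  obtain ⟨S, hCS⟩ := hCp.exists_le_sylow
  have hSC := card_sylow_eq_four x hx hC4 hne S hCS
  have hS4 : Nat.card (S : Subgroup G) = 4 := by rw [hSC]; exact hC4
  have hxS : x ∈ (S : Subgroup G) := hCS (Subgroup.mem_centralizer_singleton_iff.2 rfl)
  have hsq : ∀ a ∈ (S : Subgroup G), a * a = 1 := fun a ha => by
    rw [← pow_two]; exact hCe a (hSC.le ha)
  have hSab : ∀ a ∈ (S : Subgroup G), ∀ b ∈ (S : Subgroup G), a * b = b * a := by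
    intro a ha b hb
    calc a * b = a * (a * b * (a * b)) * b := by rw [hsq _ (mul_mem ha hb), mul_one]
      _ = (a * a) * (b * a) * (b * b) := by group
      _ = b * a := by rw [hsq a ha, hsq b hb, one_mul, mul_one]
  set N := Subgroup.normalizer ((S : Subgroup G) : Set G) with hN
  -- all involutions of `S` are conjugate
  have hconjS : ∀ y ∈ (S : Subgroup G), y ≠ 1 → ∃ g : G, g * x * g⁻¹ = y := by
    have hnle : ¬ N ≤ (S : Subgroup G) := by
      intro h
      refine hnc (Fusion.hasNormalPComplement_of_normalizer_le_centralizer S fun g hg => ?_)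
      exact Subgroup.mem_centralizer_iff.2 fun a ha => hSab a ha g (h hg)
    obtain ⟨g, hg, hgS⟩ := SetLike.not_le_iff_exists.1 hnle
    have hconjmem : ∀ m ∈ N, ∀ a ∈ (S : Subgroup G), m * a * m⁻¹ ∈ (S : Subgroup G) := fun m hm a ha =>
      (Subgroup.mem_normalizer_iff.1 hm a).1 ha
    -- elements of `N` fixing `x` lie in `S`
    have hfix : ∀ m : G, m * x * m⁻¹ = x → m ∈ (S : Subgroup G) := fun m hm =>
      hCS (Subgroup.mem_centralizer_singleton_iff.2 (mul_inv_eq_iff_eq_mul.1 hm))
    set x₁ := g * x * g⁻¹ with hx₁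
    set x₂ := g * x₁ * g⁻¹ with hx₂
    have hx₁S : x₁ ∈ (S : Subgroup G) := hconjmem g hg x hxS
    have hx₂S : x₂ ∈ (S : Subgroup G) := hconjmem g hg _ hx₁S
    have h01 : x₁ ≠ x := fun e => hgS (hfix g e)
    have h12 : x₂ ≠ x₁ := fun e => h01 (by simpa [hx₂, hx₁] using e)
    have h02 : x₂ ≠ x := by
      intro e
      -- then `g ^ 2` lies in `S`, forcing `g` into `S`
      have hg2 : g * g ∈ (S : Subgroup G) := hfix _ (by
        calc g * g * x * (g * g)⁻¹ = g * (g * x * g⁻¹) * g⁻¹ := by group
          _ = x := e)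
      have hp : IsPGroup 2 (Subgroup.zpowers g) := by
        have h4 : g ^ 4 = 1 := by
          rw [show 4 = 2 * 2 from rfl, pow_mul, pow_two g, pow_two]; exact hsq _ hg2
        obtain ⟨i, -, hi⟩ := (Nat.dvd_prime_pow Nat.prime_two).1
          (show orderOf g ∣ 2 ^ 2 from orderOf_dvd_of_pow_eq_one h4)
        exact IsPGroup.of_card (n := i) (by rw [Nat.card_zpowers, hi])
      have h := hp.inf_normalizer_sylow S
      exact hgS ((le_inf le_rfl (Subgroup.zpowers_le.mpr hg)).trans (h.le.trans inf_le_right)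
        (Subgroup.mem_zpowers g))
    intro y hy hy1
    by_contra hno
    push Not at hno
    haveI := Fintype.ofFinite G
    let T : Finset G := {1, x, x₁, x₂, y}
    have hx₁1 : x₁ ≠ 1 := fun e => Invol.ne_one hx (conj_eq_one_iff.1 e)
    have hx₂1 : x₂ ≠ 1 := fun e => hx₁1 (conj_eq_one_iff.1 e)
    have hy0 : x ≠ y := by simpa using hno 1
    have hy1' : x₁ ≠ y := hno g
    have hy2 : x₂ ≠ y := fun e => hno (g * g) (by rw [← e, hx₂, hx₁]; group)
    have hT : T.card = 5 := by
      simp [T, Finset.card_insert_of_notMem, (Invol.ne_one hx).symm, hx₁1.symm, hx₂1.symm,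
        Ne.symm hy1, Ne.symm h01, Ne.symm h02, Ne.symm h12, hy0, hy1', hy2]
    have hsub : T ⊆ ((S : Subgroup G) : Set G).toFinset := by
      intro t ht
      simp only [T, Finset.mem_insert, Finset.mem_singleton] at ht
      rw [Set.mem_toFinset, SetLike.mem_coe]
      rcases ht with rfl | rfl | rfl | rfl | rfl
      exacts [one_mem _, hxS, hx₁S, hx₂S, hy]
    have := Finset.card_le_card hsub
    rw [hT, Set.toFinset_card, Fintype.card_eq_nat_card] at this
    exact absurd this (by rw [show Nat.card ((S : Subgroup G) : Set G) = 4 from hS4]; norm_num)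
  have hcase : Invol.ElemCase S := by
    refine ⟨?_, ?_, ?_⟩
    · intro hcyc
      obtain ⟨a, ha⟩ := hcyc.exists_generator
      have h1 : orderOf a ∣ 2 := orderOf_dvd_of_pow_eq_one (Subtype.ext (by rw [pow_two]; exact hsq _ a.2))
      have h2 := Nat.le_of_dvd two_pos h1
      rw [orderOf_eq_card_of_forall_mem_zpowers ha, hS4] at h2
      omega
    · intro hn
      exact (hne _ hn ⟨.of_setLike_mul_comm fun a ha b hb => hSab a ha b hb,
        fun a ha => by rw [pow_two]; exact hsq a ha⟩).2 hS4
    · intro t ht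
      -- a conjugate of `t` lies in `S`
      have hp : IsPGroup 2 (Subgroup.zpowers t) :=
        IsPGroup.of_card (n := 1) (by rw [Nat.card_zpowers, ht, pow_one])
      obtain ⟨R, hR⟩ := hp.exists_le_sylow
      obtain ⟨h, hh⟩ := MulAction.exists_smul_eq G R S
      have htS : h * t * h⁻¹ ∈ (S : Subgroup G) := by
        rw [← hh, Sylow.coe_subgroup_smul, Subgroup.mem_pointwise_smul_iff_inv_smul_mem, ← map_inv,
          MulAut.smul_def, MulAut.conj_apply]
        simpa [mul_assoc] using hR (Subgroup.mem_zpowers t)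
      obtain ⟨g, hg⟩ := hconjS _ htS (fun e => Invol.ne_one ht (conj_eq_one_iff.1 e))
      have hmem : ∀ c ∈ Subgroup.centralizer ({t} : Set G), (h⁻¹ * g)⁻¹ * c * (h⁻¹ * g) ∈ (S : Subgroup G) := by
        intro c hc
        rw [Subgroup.mem_centralizer_singleton_iff] at hc
        refine hCS (Subgroup.mem_centralizer_singleton_iff.2 ?_)
        have e : h⁻¹ * g * x * (h⁻¹ * g)⁻¹ = t := by
          calc h⁻¹ * g * x * (h⁻¹ * g)⁻¹ = h⁻¹ * (g * x * g⁻¹) * h := by group
            _ = t := by rw [hg]; group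
        calc (h⁻¹ * g)⁻¹ * c * (h⁻¹ * g) * x = (h⁻¹ * g)⁻¹ * (c * t) * (h⁻¹ * g) := by rw [← e]; group
          _ = (h⁻¹ * g)⁻¹ * (t * c) * (h⁻¹ * g) := by rw [hc]
          _ = _ := by rw [← e]; group
      refine ⟨.of_setLike_mul_comm fun a ha b hb => ?_, fun c hc => ?_⟩
      · apply (MulAut.conj (h⁻¹ * g)⁻¹).injective
        simp only [map_mul, MulAut.conj_apply, inv_inv]
        exact hSab _ (hmem a ha) _ (hmem b hb)
      · apply (MulAut.conj (h⁻¹ * g)⁻¹).injective
        rw [map_pow, map_one, pow_two, MulAut.conj_apply, inv_inv]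
        exact hsq _ (hmem c hc)
  obtain ⟨y, hy⟩ := hcase.exists_ne_base
  have hN12 : Nat.card hcase.N = 12 := by rw [hcase.card_N hy, hS4]
  have hX : Nat.card (G ⧸ hcase.N) = 5 := by
    have hbij : Nat.card {a : G ⧸ hcase.N // a ≠ hcase.base} = 4 := by
      rw [← hS4]
      refine (Nat.card_congr (Equiv.ofBijective
        (fun t : (S : Subgroup G) => (⟨t.1 • y, fun e => hy (smul_left_cancel t.1
          (e.trans (hcase.smul_T t.2).symm))⟩ : {a : G ⧸ hcase.N // a ≠ hcase.base})) ⟨?_, ?_⟩)).symm
      · intro a b hab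
        have h' : (a : G) • y = (b : G) • y := congrArg Subtype.val hab
        have h2 : ((b : G)⁻¹ * a) • y = y := by rw [mul_smul, h', inv_smul_smul]
        exact Subtype.ext (inv_mul_eq_one.mp (hcase.T_free hy (mul_mem (inv_mem b.2) a.2) h2)).symm
      · rintro ⟨a, ha⟩
        obtain ⟨t, ht, hta⟩ := hcase.T_trans hy ha
        exact ⟨⟨t, ht⟩, Subtype.ext hta⟩
    haveI := Fintype.ofFinite (G ⧸ hcase.N)
    rw [Nat.card_eq_fintype_card, Fintype.card_subtype_compl, Fintype.card_subtype_eq,
      Fintype.card_eq_nat_card] at hbij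
    omega
  have hG : Nat.card G = 60 := by
    rw [hcase.N.card_eq_card_quotient_mul_card_subgroup, hX, hN12]
  set φ := MulAction.toPermHom G (G ⧸ hcase.N) with hφ
  have hinj : Function.Injective φ := by
    rw [injective_iff_map_eq_one]
    intro g hg
    have hfix : ∀ a : G ⧸ hcase.N, g • a = a := fun a =>
      congrArg (fun e : Equiv.Perm (G ⧸ hcase.N) => e a) hg
    obtain ⟨t, ht, ht1⟩ := (S : Subgroup G).bot_or_exists_ne_one.resolve_left
      (fun e => by rw [e, Subgroup.card_bot] at hS4; norm_num at hS4)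
    exact hcase.fix_two (a := t • y) hy.symm (fun e => hy (smul_left_cancel t
      (e.symm.trans (hcase.smul_T ht).symm))) (fun e => ht1 (hcase.T_free hy ht e.symm))
      ⟨hfix _, hfix _⟩ (hfix _)
  obtain ⟨eX⟩ : Nonempty (G ⧸ hcase.N ≃ Fin 5) := ⟨(Finite.equivFinOfCardEq hX)⟩
  set ψ := (eX.permCongrHom.toMonoidHom).comp φ with hψ
  have hψinj : Function.Injective ψ := eX.permCongrHom.injective.comp hinj
  have hrange : ψ.range = alternatingGroup (Fin 5) := by
    apply Equiv.Perm.eq_alternatingGroup_of_index_eq_two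
    have h := ψ.range.card_mul_index
    rw [← Nat.card_congr (MonoidHom.ofInjective hψinj).toEquiv, hG, Nat.card_perm, Nat.card_fin] at h
    norm_num [Nat.factorial] at h
    omega
  exact ⟨(MonoidHom.ofInjective hψinj).trans (MulEquiv.subgroupCongr hrange)⟩

end Cfsg.Agent.S3277
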