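import Cfsg.Statements.S0494
import Cfsg.Agent.Lib.Recog.OrderSixty


set_option autoImplicit false
open Cfsg

namespace Cfsg.Agent.S0494



/-- A simple group of order 60 is isomorphic to the alternating group of degree 5. -/
theorem result {G : Type*} [Group G] [Finite G] [IsSimpleGroup G]
    (h : Nat.card G = 60) : Nonempty (G ≃* alternatingGroup (Fin 5)) := by
  haveI : Fact (Nat.Prime 5) := ⟨by norm_num⟩
  refine OrderSixty.equiv_A5 h ((OrderSixty.sylow_card_cases h).resolve_left fun h1 => ?_)
  obtain ⟨P⟩ : Nonempty (Sylow 5 G) := inferInstance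
  haveI : Subsingleton (Sylow 5 G) := (Nat.card_eq_one_iff_unique.1 h1).1
  have hP := OrderSixty.card_sylow_five h P
  rcases (P.normal_of_subsingleton).eq_bot_or_eq_top with e | e
  · rw [e, Subgroup.card_bot] at hP
    omega
  · rw [e, Subgroup.card_top, h] at hP
    omega

end Cfsg.Agent.S0494
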