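import Cfsg.Statements.S0514
import Cfsg.Agent.Lib.Transfer.Fusion
import Mathlib.GroupTheory.SpecificGroups.Dihedral


set_option autoImplicit false
open Cfsg

namespace Cfsg.Agent.S0514

variable {X : Type*} [Group X] [Finite X]

theorem not_rot_mul_self {n : ℕ} {x : DihedralGroup n}
    (hx : x ∉ Subgroup.zpowers (DihedralGroup.r (1 : ZMod n))) : x * x = 1 := by
  rcases x with i | i
  · exfalso
    obtain ⟨k, rfl⟩ := ZMod.intCast_surjective i
    exact hx ⟨k, DihedralGroup.r_one_zpow k⟩
  · exact DihedralGroup.sr_mul_self i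

theorem not_rot_mul {n : ℕ} {x y : DihedralGroup n}
    (hx : x ∉ Subgroup.zpowers (DihedralGroup.r (1 : ZMod n)))
    (hy : y ∉ Subgroup.zpowers (DihedralGroup.r (1 : ZMod n))) :
    x * y ∈ Subgroup.zpowers (DihedralGroup.r (1 : ZMod n)) := by
  rcases x with i | i
  · obtain ⟨k, rfl⟩ := ZMod.intCast_surjective i
    exact absurd ⟨k, DihedralGroup.r_one_zpow k⟩ hx
  rcases y with j | j
  · obtain ⟨k, rfl⟩ := ZMod.intCast_surjective j
    exact absurd ⟨k, DihedralGroup.r_one_zpow k⟩ hy
  obtain ⟨k, hk⟩ := ZMod.intCast_surjective (j - i)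
  exact ⟨k, by rw [DihedralGroup.sr_mul_sr, ← hk]; exact DihedralGroup.r_one_zpow k⟩

theorem conj_pow_apply {g s c : X} (h : g * s * g⁻¹ = s * c) (hc : g * c = c * g) :
    ∀ k : ℕ, g ^ k * s * (g ^ k)⁻¹ = s * c ^ k := fun k => by
  induction k with
  | zero => simp
  | succ k ih =>
    calc g ^ (k + 1) * s * (g ^ (k + 1))⁻¹ = g ^ k * (g * s * g⁻¹) * (g ^ k)⁻¹ := by
          rw [pow_succ]; group
      _ = (g ^ k * s * (g ^ k)⁻¹) * (g ^ k * c * (g ^ k)⁻¹) := by rw [h]; group
      _ = (g ^ k * s * (g ^ k)⁻¹) * c := by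
          rw [(show Commute (g ^ k) c from (show Commute g c from hc).pow_left k).eq,
            mul_inv_cancel_right]
      _ = s * c ^ (k + 1) := by rw [ih, mul_assoc, ← pow_succ]

theorem key {n : ℕ} {E : Subgroup X} (hE : IsPGroup 2 E) {f : E →* DihedralGroup n}
    (hf : Function.Injective f) {t : X} (htE : t ∈ E) (ht : t ≠ 1) {g : X}
    (hg : g ∈ Subgroup.normalizer (E : Set X)) (hgt : g * t = t * g)
    (hodd : (orderOf g).Coprime 2) : ∀ x ∈ E, g * x = x * g := by
  haveI : Fact (Nat.Prime 2) := ⟨Nat.prime_two⟩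
  have hconj : ∀ x ∈ E, g * x * g⁻¹ ∈ E := fun x hx => (Subgroup.mem_normalizer_iff.1 hg x).1 hx
  set Rot := Subgroup.zpowers (DihedralGroup.r (1 : ZMod n))
  set R : Subgroup E := Rot.comap f with hR
  haveI hRc : IsCyclic R := by
    let φ : R →* Rot := (f.comp R.subtype).codRestrict Rot fun x => x.2
    exact isCyclic_of_injective φ fun a b h =>
      Subtype.ext (hf (congrArg (fun y : Rot => (y : DihedralGroup n)) h))
  have hout : ∀ x : E, x ∉ R → x * x = 1 := fun x hx => hf (by
    rw [map_mul, map_one]; exact not_rot_mul_self hx)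
  have hprod : ∀ x y : E, x ∉ R → y ∉ R → x * y ∈ R := fun x y hx hy => by
    show f (x * y) ∈ Rot
    rw [map_mul]; exact not_rot_mul hx hy
  by_cases hA : ∀ x : E, x * x = 1
  · -- exponent two: at most four elements
    intro x hx
    have hR2 : ∀ a b : E, a ∈ R → b ∈ R → a ≠ 1 → b ≠ 1 → a = b := by
      intro a b ha hb ha1 hb1
      obtain ⟨u, hu⟩ := hRc.exists_generator
      have hu2 : u * u = 1 := Subtype.ext (hA u)
      have hall : ∀ v : R, v = 1 ∨ v = u := fun v => by
        obtain ⟨k, rfl⟩ := Subgroup.mem_zpowers_iff.1 (hu v)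
        rcases Int.even_or_odd' k with ⟨l, rfl | rfl⟩
        · left; rw [zpow_mul, zpow_two, hu2, one_zpow]
        · right; rw [zpow_add, zpow_mul, zpow_two, hu2, one_zpow, one_mul, zpow_one]
      rcases hall ⟨a, ha⟩ with h | h
      · exact absurd (congrArg (Subtype.val (p := fun y => y ∈ R)) h) ha1
      rcases hall ⟨b, hb⟩ with h' | h'
      · exact absurd (congrArg (Subtype.val (p := fun y => y ∈ R)) h') hb1
      exact congrArg (Subtype.val (p := fun y => y ∈ R)) (h.trans h'.symm)
    have hinv : ∀ a : E, a⁻¹ = a := fun a => inv_eq_of_mul_eq_one_right (hA a)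
    have hfour : ∀ a b : E, a ∉ R → b ∉ R → a = b ∨ ∀ c : E, c ∈ R → c ≠ 1 → b = a * c := by
      intro a b ha hb
      by_cases hab : a * b = 1
      · left; rw [← hinv b]; exact eq_inv_of_mul_eq_one_left hab
      · right
        intro c hc hc1
        rw [← hR2 _ c (hprod a b ha hb) hc hab hc1, ← mul_assoc, hA, one_mul]
    set te : E := ⟨t, htE⟩
    have hte : te ≠ 1 := fun h => ht (congrArg Subtype.val h)
    -- every element outside the group generated by t is moved to itself or to its translate by t
    have hmove : g * x * g⁻¹ = x ∨ g * x * g⁻¹ = x * t := by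
      set xe : E := ⟨x, hx⟩
      set ye : E := ⟨g * x * g⁻¹, hconj x hx⟩
      rcases eq_or_ne ye xe with h | h
      · exact Or.inl (congrArg Subtype.val h)
      right
      have hye : ye ≠ te := fun h' => h (by
        have h'' : g * x * g⁻¹ = t := congrArg Subtype.val h'
        apply Subtype.ext
        show g * x * g⁻¹ = x
        rw [h'']
        calc t = g⁻¹ * (g * x * g⁻¹) * g := by rw [h'', mul_assoc, ← hgt, inv_mul_cancel_left]
          _ = x := by group)
      have hxe : xe ≠ te := fun h' => by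
        have h'' : x = t := congrArg Subtype.val h'
        exact h (Subtype.ext (show g * x * g⁻¹ = x by rw [h'', hgt, mul_inv_cancel_right]))
      have hxe1 : xe ≠ 1 := fun h' => by
        have h'' : x = 1 := congrArg Subtype.val h'
        exact h (Subtype.ext (show g * x * g⁻¹ = x by rw [h'', mul_one, mul_inv_cancel]))
      have hye1 : ye ≠ 1 := fun h' => by
        have h'' : g * x * g⁻¹ = 1 := congrArg Subtype.val h'
        rw [mul_inv_eq_one, mul_eq_left] at h''
        exact hxe1 (Subtype.ext h'')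
      have goal : ye = xe * te := by
        by_cases htR : te ∈ R
        · have hxR : xe ∉ R := fun h' => hxe (hR2 _ _ h' htR hxe1 hte)
          have hyR : ye ∉ R := fun h' => hye (hR2 _ _ h' htR hye1 hte)
          exact ((hfour xe ye hxR hyR).resolve_left (Ne.symm h)) te htR hte
        · by_cases hxR : xe ∈ R
          · have hyR : ye ∉ R := fun h' => h (hR2 _ _ h' hxR hye1 hxe1)
            have := ((hfour te ye htR hyR).resolve_left (Ne.symm hye)) xe hxR hxe1
            rw [this, ← hinv (te * xe), mul_inv_rev, hinv, hinv]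
          · have hxt := ((hfour te xe htR hxR).resolve_left (Ne.symm hxe))
            by_cases hyR : ye ∈ R
            · rw [hxt ye hyR hye1]
              calc ye = (te * te) * ye := by rw [hA, one_mul]
                _ = te * (te * ye) := mul_assoc _ _ _
                _ = te * (te * ye)⁻¹ := by rw [hinv]
                _ = _ := by rw [mul_inv_rev, hinv, hinv, ← mul_assoc, ← hinv (te * ye * te),
                      mul_inv_rev, mul_inv_rev, hinv, hinv, ← mul_assoc]
            · have hyt := ((hfour te ye htR hyR).resolve_left (Ne.symm hye))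
              exact absurd ((hyt _ (hprod te xe htR hxR) (fun e => hxe ((hinv xe) ▸
                (eq_inv_of_mul_eq_one_left e).symm))).trans
                (by rw [← mul_assoc, hA, one_mul])) h
      exact congrArg Subtype.val goal
    rcases hmove with h | h
    · exact mul_inv_eq_iff_eq_mul.1 h
    · have htm : t ^ orderOf g = 1 := by
        have := conj_pow_apply h hgt (orderOf g)
        rw [pow_orderOf_eq_one, one_mul, inv_one, mul_one] at this
        exact mul_eq_left.1 this.symm
      exfalso
      obtain ⟨k, hk⟩ := Nat.coprime_two_right.1 hodd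
      have ht2 : t * t = 1 := congrArg Subtype.val (hA ⟨t, htE⟩)
      rw [hk, pow_add, pow_mul, pow_two, ht2, one_pow, one_mul, pow_one] at htm
      exact ht htm
  · push Not at hA
    obtain ⟨u, hu⟩ := hRc.exists_generator
    have hmemR : ∀ x : E, x * x ≠ 1 → x ∈ R := fun x hx => by_contra fun h => hx (hout x h)
    have hu2 : (u : E) * u ≠ 1 := by
      obtain ⟨w, hw⟩ := hA
      intro h
      apply hw
      obtain ⟨k, hk⟩ := Subgroup.mem_zpowers_iff.1 (hu ⟨w, hmemR w hw⟩)
      have h' : (u : E) ^ k = w := congrArg (Subtype.val (p := fun y => y ∈ R)) hk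
      rw [← h', ← (Commute.refl (u : E)).mul_zpow, h, one_zpow]
    set U : Subgroup X := Subgroup.zpowers ((u : E) : X) with hU
    have hRU : ∀ x : E, x ∈ R → (x : X) ∈ U := fun x hx => by
      obtain ⟨k, hk⟩ := Subgroup.mem_zpowers_iff.1 (hu ⟨x, hx⟩)
      exact Subgroup.mem_zpowers_iff.2 ⟨k, congrArg (fun y : R => ((y : E) : X)) hk⟩
    have hgu : g * (u : E) * g⁻¹ ∈ U := by
      refine hRU ⟨_, hconj _ (u : E).2⟩ (hmemR _ fun h => hu2 (Subtype.ext ?_))
      have h' : g * ((u : E) : X) * g⁻¹ * (g * (u : E) * g⁻¹) = 1 := congrArg Subtype.val h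
      show ((u : E) : X) * (u : E) = 1
      calc ((u : E) : X) * (u : E) = g⁻¹ * (g * ((u : E) : X) * g⁻¹ * (g * (u : E) * g⁻¹)) * g := by group
        _ = 1 := by rw [h']; group
    have hgU : g ∈ Subgroup.normalizer (U : Set X) := by
      have hmap : U.map (MulAut.conj g).toMonoidHom = U := by
        refine Subgroup.eq_of_le_of_card_ge ?_ ?_
        · rw [hU, MonoidHom.map_zpowers, Subgroup.zpowers_le]
          exact hgu
        · rw [Subgroup.card_map_of_injective (MulAut.conj g).injective]
      rw [Subgroup.mem_normalizer_iff]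
      intro y
      constructor
      · intro hy
        exact hmap ▸ Subgroup.mem_map_of_mem (MulAut.conj g).toMonoidHom hy
      · intro hy
        rw [← hmap] at hy
        obtain ⟨z, hz, hze⟩ := hy
        have hze' : g * z * g⁻¹ = g * y * g⁻¹ := hze
        rwa [← mul_left_cancel (mul_right_cancel hze')]
    have hUp : IsPGroup 2 U := hE.to_le (Subgroup.zpowers_le.2 (u : E).2)
    have hgfix : g * (u : E) = (u : E) * g := by
      have hcyc : IsCyclic U := Subgroup.isCyclic_zpowers _
      obtain ⟨r, hr⟩ := IsPGroup.iff_card.1 hUp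
      have h1 : orderOf (U.normalizerMonoidHom ⟨g, hgU⟩) ∣ orderOf g :=
        (orderOf_map_dvd _ _).trans (by rw [Subgroup.orderOf_mk])
      have h2 : orderOf (U.normalizerMonoidHom ⟨g, hgU⟩) ∣ Nat.totient (2 ^ r) := by
        rw [← hr, ← hcyc.card_mulAut]
        exact orderOf_dvd_natCard _
      have h3 : Nat.totient (2 ^ r) ∣ 2 ^ r := by
        rcases r with _ | r
        · simp
        · rw [Nat.totient_prime_pow_succ Nat.prime_two, show 2 - 1 = 1 from rfl, mul_one]
          exact pow_dvd_pow 2 (Nat.le_succ r)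
      have h4 : U.normalizerMonoidHom ⟨g, hgU⟩ = 1 := orderOf_eq_one_iff.1
        (Nat.eq_one_of_dvd_coprimes (Nat.Coprime.pow_right r hodd) h1 (h2.trans h3))
      have h5 : (⟨g, hgU⟩ : Subgroup.normalizer (U : Set X)) ∈ U.normalizerMonoidHom.ker := h4
      rw [Subgroup.normalizerMonoidHom_ker] at h5
      exact (Subgroup.mem_centralizer_iff.1 h5 _ (Subgroup.mem_zpowers _)).symm
    have hRfix : ∀ x : E, x ∈ R → g * (x : X) = x * g := fun x hx => by
      obtain ⟨k, hk⟩ := Subgroup.mem_zpowers_iff.1 (hRU x hx)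
      rw [← hk]
      exact (show Commute g ((u : E) : X) from hgfix).zpow_right k
    intro s hs
    by_cases hsR : (⟨s, hs⟩ : E) ∈ R
    · exact hRfix _ hsR
    set s' : E := ⟨g * s * g⁻¹, hconj s hs⟩
    have hs'R : s' ∉ R := fun h => by
      have h' : g * (g * s * g⁻¹) = (g * s * g⁻¹) * g := hRfix s' h
      rw [inv_mul_cancel_right] at h'
      have h'' : g * s * g⁻¹ = s := mul_left_cancel h'
      exact hsR ((Subtype.ext h'' : s' = ⟨s, hs⟩) ▸ h)
    have hcR : (⟨s, hs⟩ : E)⁻¹ * s' ∈ R := hprod _ _ (fun h => hsR (R.inv_mem_iff.1 h)) hs'R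
    set c : X := s⁻¹ * (g * s * g⁻¹) with hc
    have hce : g * s * g⁻¹ = s * c := by rw [hc, mul_inv_cancel_left]
    have hgc : g * c = c * g := hRfix _ hcR
    have := conj_pow_apply hce hgc (orderOf g)
    rw [pow_orderOf_eq_one, one_mul, inv_one, mul_one] at this
    have hck : c ^ orderOf g = 1 := mul_eq_left.1 this.symm
    obtain ⟨m, hm⟩ := hE ⟨c, mul_mem (inv_mem hs) (hconj s hs)⟩
    have hm' : c ^ 2 ^ m = 1 := congrArg Subtype.val hm
    have hc1 : c = 1 := orderOf_eq_one_iff.1 (Nat.eq_one_of_dvd_coprimes (Nat.Coprime.pow_right m hodd)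
      (orderOf_dvd_of_pow_eq_one hck) (orderOf_dvd_of_pow_eq_one hm'))
    rw [hc1, mul_one] at hce
    exact mul_inv_eq_iff_eq_mul.1 hce


/-- In a finite group whose Sylow 2-subgroups are dihedral of order at least 4, the centralizer of any involution has a
normal subgroup of odd order whose index in the centralizer is a power of 2. -/
theorem result {X : Type*} [Group X] [Finite X]
    (S : Sylow 2 X) (n : ℕ) (hn : 2 ≤ n) (hS : Nonempty ((S : Subgroup X) ≃* DihedralGroup n)) (t : X)
    (ht : orderOf t = 2) :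
    ∃ N : Subgroup (Subgroup.centralizer ({t} : Set X)), N.Normal ∧ Odd (Nat.card N) ∧ ∃ k : ℕ, N.index = 2 ^ k := by
  haveI : Fact (Nat.Prime 2) := ⟨Nat.prime_two⟩
  obtain ⟨eS⟩ := hS
  set C := Subgroup.centralizer ({t} : Set X) with hC
  have hNPC : Cfsg.HasNormalPComplement 2 C := by
    refine Fusion.hasNormalPComplement_of_frobenius fun D hD g hg hgo => ?_
    set D' : Subgroup X := D.map C.subtype with hD'
    set E : Subgroup X := D' ⊔ Subgroup.zpowers t with hE
    have htc : ∀ c : C, (c : X) * t = t * c := fun c => Subgroup.mem_centralizer_singleton_iff.1 c.2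
    have htn : Subgroup.zpowers t ≤ Subgroup.normalizer (D' : Set X) := by
      refine (Subgroup.zpowers_le.2 ?_).trans (Subgroup.centralizer_le_normalizer (D' : Set X))
      exact Subgroup.mem_centralizer_iff.2 fun y ⟨d, _, hde⟩ => hde ▸ htc d
    have hEp : IsPGroup 2 E := (hD.map C.subtype).to_sup_of_normal_left'
      (IsPGroup.of_card (n := 1) (by rw [Nat.card_zpowers, ht, pow_one])) htn
    obtain ⟨P, hP⟩ := hEp.exists_le_sylow
    let f : E →* DihedralGroup n :=
      ((P.equiv S).trans eS).toMonoidHom.comp (Subgroup.inclusion hP)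
    have hf : Function.Injective f :=
      ((P.equiv S).trans eS).injective.comp (Subgroup.inclusion_injective hP)
    have hgN : (g : X) ∈ Subgroup.normalizer (E : Set X) := by
      have hg1 : (g : X) ∈ Subgroup.normalizer (D' : Set X) := by
        rw [Subgroup.mem_normalizer_iff]
        intro y
        constructor
        · rintro ⟨d, hd, rfl⟩
          exact ⟨g * d * g⁻¹, (Subgroup.mem_normalizer_iff.1 hg d).1 hd, rfl⟩
        · rintro ⟨d, hd, hde⟩
          have hde' : (d : X) = g * y * (g : X)⁻¹ := hde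
          refine ⟨g⁻¹ * d * g, (Subgroup.mem_normalizer_iff.1 hg _).2 (by simpa [mul_assoc] using hd), ?_⟩
          show (g : X)⁻¹ * d * g = y
          rw [hde']; group
      have hmap : ∀ a ∈ Subgroup.zpowers t, (g : X) * a = a * g := fun a ha => by
        obtain ⟨k, rfl⟩ := Subgroup.mem_zpowers_iff.1 ha
        exact (show Commute (g : X) t from htc g).zpow_right k
      have hg2 : (g : X) ∈ Subgroup.normalizer (Subgroup.zpowers t : Set X) :=
        Subgroup.centralizer_le_normalizer (Subgroup.zpowers t : Set X)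
          (Subgroup.mem_centralizer_iff.2 fun a ha => (hmap a ha).symm)
      rw [Subgroup.mem_normalizer_iff_map_conj_eq] at hg1 hg2 ⊢
      rw [hE, Subgroup.map_sup, hg1, hg2]
    have hkey := key hEp hf (le_sup_right (a := D') (Subgroup.mem_zpowers t))
      (fun h => by rw [h, orderOf_one] at ht; omega) hgN (htc g)
      (by rwa [Subgroup.orderOf_coe])
    rw [Subgroup.mem_centralizer_iff]
    intro d hd
    exact Subtype.ext (hkey _ (le_sup_left (b := Subgroup.zpowers t) ⟨d, hd, rfl⟩)).symm
  obtain ⟨N, hN, hNc, k, hk⟩ := PBasic.hasNormalPComplement_iff.1 hNPC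
  exact ⟨N, hN, Nat.coprime_two_right.1 hNc, k, hk⟩

end Cfsg.Agent.S0514
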