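import Cfsg.Statements.S0496
import Cfsg.Agent.Lib.Small.OrderFilter
import Cfsg.Agent.Lib.Small.Orders1092Data
import Cfsg.Agent.Lib.Small.Order720
import Cfsg.Agent.Lib.Small.Order756
import Cfsg.Agent.Lib.Char.Burnside

set_option autoImplicit false
set_option maxRecDepth 20000
open Cfsg

namespace Cfsg.Agent.S0496

/-- The orders that remain. -/
def rest : List ℕ := [0, 1, 60, 168, 360, 504, 660, 1092, 420, 480, 612, 720, 756, 840, 900, 960, 1008, 1040, 1080]

/-- The check of one witness. -/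
def check (n : ℕ) (w : ℕ × ℕ × ℕ × ℕ × ℕ) : Bool :=
  match w.1 with
  | 0 => decide (Nat.Prime w.2.1) && Small.excl n w.2.1 w.2.2.1
  | 1 => decide (Nat.Prime w.2.1) && OrdersExcl.succOK n w.2.1
  | 2 => decide (Nat.Prime w.2.1) && decide (Nat.Prime w.2.2.2.1) &&
      decide (n = w.2.1 ^ w.2.2.1 * w.2.2.2.1 ^ w.2.2.2.2)
  | _ => decide (n ∈ rest)

theorem cert0_ok : ∀ i < 100, check (0 + i) (Orders1092.cert0.getD i (0, 0, 0, 0, 0)) = true := by
  decide +kernel

theorem cert1_ok : ∀ i < 100, check (100 + i) (Orders1092.cert1.getD i (0, 0, 0, 0, 0)) = true := by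
  decide +kernel

theorem cert2_ok : ∀ i < 100, check (200 + i) (Orders1092.cert2.getD i (0, 0, 0, 0, 0)) = true := by
  decide +kernel

theorem cert3_ok : ∀ i < 100, check (300 + i) (Orders1092.cert3.getD i (0, 0, 0, 0, 0)) = true := by
  decide +kernel

theorem cert4_ok : ∀ i < 100, check (400 + i) (Orders1092.cert4.getD i (0, 0, 0, 0, 0)) = true := by
  decide +kernel

theorem cert5_ok : ∀ i < 100, check (500 + i) (Orders1092.cert5.getD i (0, 0, 0, 0, 0)) = true := by
  decide +kernel

theorem cert6_ok : ∀ i < 100, check (600 + i) (Orders1092.cert6.getD i (0, 0, 0, 0, 0)) = true := by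
  decide +kernel

theorem cert7_ok : ∀ i < 100, check (700 + i) (Orders1092.cert7.getD i (0, 0, 0, 0, 0)) = true := by
  decide +kernel

theorem cert8_ok : ∀ i < 100, check (800 + i) (Orders1092.cert8.getD i (0, 0, 0, 0, 0)) = true := by
  decide +kernel

theorem cert9_ok : ∀ i < 100, check (900 + i) (Orders1092.cert9.getD i (0, 0, 0, 0, 0)) = true := by
  decide +kernel

theorem cert10_ok : ∀ i < 93, check (1000 + i) (Orders1092.cert10.getD i (0, 0, 0, 0, 0)) = true := by
  decide +kernel

theorem exists_witness {n : ℕ} (h : n ≤ 1092) : ∃ w, check n w = true := by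
  by_cases h0 : n < 100
  · exact ⟨_, (Nat.add_sub_cancel' (show 0 ≤ n by omega)) ▸ cert0_ok (n - 0) (by omega)⟩
  by_cases h1 : n < 200
  · exact ⟨_, (Nat.add_sub_cancel' (show 100 ≤ n by omega)) ▸ cert1_ok (n - 100) (by omega)⟩
  by_cases h2 : n < 300
  · exact ⟨_, (Nat.add_sub_cancel' (show 200 ≤ n by omega)) ▸ cert2_ok (n - 200) (by omega)⟩
  by_cases h3 : n < 400
  · exact ⟨_, (Nat.add_sub_cancel' (show 300 ≤ n by omega)) ▸ cert3_ok (n - 300) (by omega)⟩
  by_cases h4 : n < 500
  · exact ⟨_, (Nat.add_sub_cancel' (show 400 ≤ n by omega)) ▸ cert4_ok (n - 400) (by omega)⟩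
  by_cases h5 : n < 600
  · exact ⟨_, (Nat.add_sub_cancel' (show 500 ≤ n by omega)) ▸ cert5_ok (n - 500) (by omega)⟩
  by_cases h6 : n < 700
  · exact ⟨_, (Nat.add_sub_cancel' (show 600 ≤ n by omega)) ▸ cert6_ok (n - 600) (by omega)⟩
  by_cases h7 : n < 800
  · exact ⟨_, (Nat.add_sub_cancel' (show 700 ≤ n by omega)) ▸ cert7_ok (n - 700) (by omega)⟩
  by_cases h8 : n < 900
  · exact ⟨_, (Nat.add_sub_cancel' (show 800 ≤ n by omega)) ▸ cert8_ok (n - 800) (by omega)⟩
  by_cases h9 : n < 1000
  · exact ⟨_, (Nat.add_sub_cancel' (show 900 ≤ n by omega)) ▸ cert9_ok (n - 900) (by omega)⟩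
  by_cases h10 : n < 1093
  · exact ⟨_, (Nat.add_sub_cancel' (show 1000 ≤ n by omega)) ▸ cert10_ok (n - 1000) (by omega)⟩
  omega

/-- A non-abelian finite simple group of order at most 1092 has order 60, 168, 360, 504, 660 or 1092. -/
theorem result {G : Type*} [Group G] [Finite G] [IsSimpleGroup G]
    (hG : ¬ IsMulCommutative G) (h : Nat.card G ≤ 1092) :
    Nat.card G = 60 ∨ Nat.card G = 168 ∨ Nat.card G = 360 ∨ Nat.card G = 504 ∨ Nat.card G = 660 ∨
      Nat.card G = 1092 := by
  obtain ⟨⟨kind, p, a, q, b⟩, hw⟩ := exists_witness h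
  have hnp : ¬ (Nat.card G).Prime := fun hpr => hG (by
    haveI := Fact.mk hpr
    exact @IsCyclic.isMulCommutative G _ (isCyclic_of_prime_card (p := Nat.card G) rfl))
  match kind, hw with
  | 0, hw =>
    simp only [check, Bool.and_eq_true, decide_eq_true_eq] at hw
    exact absurd rfl (Small.card_ne_of_excl hG hw.1 hw.2)
  | 1, hw =>
    simp only [check, Bool.and_eq_true, decide_eq_true_eq] at hw
    exact absurd rfl (OrdersExcl.card_ne_of_succ hG hw.1 hw.2)
  | 2, hw =>
    simp only [check, Bool.and_eq_true, decide_eq_true_eq] at hw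
    have hs := Cfsg.Agent.Char.isSolvable_of_card_pq p q hw.1.1 hw.1.2 _ G rfl ⟨a, b, hw.2⟩
    exact absurd ⟨⟨fun x y => IsSimpleGroup.comm_iff_isSolvable.2 hs x y⟩⟩ hG
  | n + 3, hw =>
    simp only [check, decide_eq_true_eq, rest, List.mem_cons, List.not_mem_nil, or_false] at hw
    have h1 : 1 < Nat.card G := Finite.one_lt_card
    rcases hw with e | e | e | e | e | e | e | e | e | e | e | e | e | e | e | e | e | e | e
    · omega
    · omega
    · omega
    · omega
    · omega
    · omega
    · omega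
    · omega
    · exact absurd e (OrdersExcl.card_ne_420)
    · exact absurd (by omega) (OrdersExcl.card_ne_two_pow_mul_fifteen (a := 5) le_rfl)
    · exact absurd e (OrdersExcl.card_ne_612)
    · exact absurd e (Order720.card_ne_720)
    · exact absurd e (Order756.card_ne_756)
    · exact absurd e (OrdersExcl.card_ne_840)
    · exact absurd e (OrdersExcl.card_ne_900)
    · exact absurd (by omega) (OrdersExcl.card_ne_two_pow_mul_fifteen (a := 6) (by norm_num))
    · exact absurd e (OrdersExcl.card_ne_1008)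
    · exact absurd e (OrdersExcl.card_ne_1040)
    · exact absurd e (OrdersExcl.card_ne_1080)

end Cfsg.Agent.S0496
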