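import Cfsg.Statements.S3189
import Cfsg.Agent.Lib.EightAut.Aut
import Cfsg.Agent.Lib.EightAut.Quot
import Cfsg.Agent.Lib.EightAut.Contra

set_option autoImplicit false
set_option linter.style.haveILetI false
open Cfsg

namespace Cfsg.Agent.S3189

/-- Let G be a non-abelian finite simple group whose Sylow 2-subgroup S is elementary abelian of order 8, and suppose the centralizer of every involution of G is solvable. Then the normalizer of S modulo the centralizer of S has order 7. -/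
theorem result {G : Type*} [Group G] [Finite G]
    [IsSimpleGroup G] (hG : ¬ IsMulCommutative G) (S : Sylow 2 G)
    (hS : Cfsg.IsElementaryAbelian 2 (S : Subgroup G)) (hS8 : Nat.card ↥(S : Subgroup G) = 8)
    (hC : ∀ t : G, orderOf t = 2 → Group.IsSolvable ↥(Subgroup.centralizer ({t} : Set G))) :
    (Subgroup.centralizer ((S : Subgroup G) : Set G)).relIndex (Subgroup.normalizer ((S : Subgroup G) : Set G)) = 7 := by
  classical
  haveI := Fintype.ofFinite G
  haveI : Fact (Nat.Prime 2) := ⟨Nat.prime_two⟩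
  set S0 : Subgroup G := (S : Subgroup G) with hS0
  set N := Subgroup.normalizer (S0 : Set G) with hN
  set K := Subgroup.centralizer (S0 : Set G) with hK
  haveI := hS.1
  have hab : ∀ a ∈ S0, ∀ b ∈ S0, a * b = b * a := fun a ha b hb =>
    congrArg Subtype.val (hS.1.is_comm.comm (⟨a, ha⟩ : S0) ⟨b, hb⟩)
  let f : N →* MulAut S0 := Subgroup.normalizerMonoidHom S0
  have hsmul : ∀ (n : N) (a : S0),
      (((⟨f n, n, rfl⟩ : f.range) • a : S0) : G) = (n : G) * (a : G) * (n : G)⁻¹ :=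
    fun n a => rfl
  have hsq : ∀ a : S0, a * a = 1 := fun a => Subtype.ext (by
    rw [Subgroup.coe_mul, Subgroup.coe_one, ← sq]; exact hS.2 _ a.2)
  have hKN : K ≤ N := fun g hg => Subgroup.mem_normalizer_iff.2 fun h => by
    refine ⟨fun hh => ?_, fun hh => ?_⟩
    · rwa [← Subgroup.mem_centralizer_iff.1 hg h hh, mul_inv_cancel_right]
    · have e := Subgroup.mem_centralizer_iff.1 hg _ hh
      rw [inv_mul_cancel_right] at e
      rwa [← mul_left_cancel e] at hh
  have hcard : Nat.card f.range = K.relIndex N := by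
    rw [← Subgroup.index_ker, Subgroup.normalizerMonoidHom_ker]
    rfl
  have hodd : Odd (Nat.card f.range) := by
    rw [hcard, Nat.odd_iff, ← Nat.two_dvd_ne_zero]
    intro h
    exact S.not_dvd_index (h.trans ((dvd_mul_right _ _).trans
      ((Subgroup.relIndex_mul_index hKN).dvd.trans
        (Subgroup.index_dvd_of_le (fun a ha => Subgroup.mem_centralizer_iff.2 fun b hb =>
          hab b hb a ha)))))
  have hfaith : ∀ r : f.range, (∀ a : S0, r • a = a) → r = 1 := fun r h =>
    Subtype.ext (MulEquiv.ext h)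
  -- transfer: no fixed point
  have hfix : ∀ a : S0, a ≠ 1 → ∃ r : f.range, r • a ≠ a := by
    intro a ha
    by_contra hall
    push Not at hall
    have hcen : ∀ n ∈ N, n * (a : G) * n⁻¹ = a := fun n hn => by
      rw [← hsmul ⟨n, hn⟩ a, hall]
    have hao : (a : G) ^ 2 = 1 := hS.2 _ a.2
    have hkey : ∀ (k : ℕ) (g₀ : G), g₀⁻¹ * (a : G) ^ k * g₀ ∈ S0 →
        g₀⁻¹ * (a : G) ^ k * g₀ = (a : G) ^ k := by
      intro k g₀ hk
      obtain ⟨n, hn, he⟩ :=
        Sylow.conj_eq_normalizer_conj_of_mem S ((a : G) ^ k) g₀ (S0.pow_mem a.2 k) hk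
      rw [he]
      have h1 := hcen n⁻¹ (N.inv_mem hn)
      rw [inv_inv] at h1
      calc n⁻¹ * (a : G) ^ k * n = (MulAut.conj n⁻¹) ((a : G) ^ k) := by
            rw [MulAut.conj_apply, inv_inv]
        _ = ((MulAut.conj n⁻¹) (a : G)) ^ k := map_pow _ _ _
        _ = _ := by rw [MulAut.conj_apply, inv_inv, h1]
    open scoped IsMulCommutative in
    let φ : G →* S0 := MonoidHom.transfer (MonoidHom.id S0)
    have htr : ((φ (a : G) : S0) : G) = (a : G) ^ S0.index := by
      open scoped IsMulCommutative in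
      exact congrArg Subtype.val (MonoidHom.transfer_eq_pow (MonoidHom.id S0) (a : G) hkey)
    have hidx : (a : G) ^ S0.index = a := by
      obtain ⟨k, hk⟩ : Odd S0.index :=
        Nat.odd_iff.2 (Nat.two_dvd_ne_zero.1 S.not_dvd_index)
      rw [hk, pow_add, pow_mul, hao, one_pow, one_mul, pow_one]
    rcases φ.normal_ker.eq_bot_or_eq_top with h | h
    · refine hG ⟨⟨fun u v => ?_⟩⟩
      apply (MonoidHom.ker_eq_bot_iff φ).1 h
      rw [map_mul, map_mul]
      exact Subtype.ext (hab _ (φ u).2 _ (φ v).2)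
    · refine ha (Subtype.ext ?_)
      have h1 : φ (a : G) = 1 := MonoidHom.mem_ker.1 (h ▸ Subgroup.mem_top _)
      rw [← hidx, ← htr, h1]
  rcases EightAut.eight_cases hS8 hsq hodd hfaith hfix with h7 | ⟨htrans, hstab⟩
  · rw [← h7, hcard]
  exfalso
  obtain ⟨a0, ha0⟩ : ∃ a : S0, a ≠ 1 := by
    haveI : Nontrivial S0 := Finite.one_lt_card_iff_nontrivial.1 (by omega)
    exact exists_ne 1
  set t : G := (a0 : G) with ht
  have ht1 : t ≠ 1 := fun h => ha0 (Subtype.ext h)
  have hto : orderOf t = 2 := orderOf_eq_prime (hS.2 _ a0.2) ht1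
  have hone : ∀ s ∈ S0, s ≠ 1 → IsConj t s := by
    intro s hs hs1
    obtain ⟨⟨_, n, rfl⟩, hr⟩ := htrans a0 ⟨s, hs⟩ ha0 (fun h => hs1 (congrArg Subtype.val h))
    exact isConj_iff.2 ⟨(n : G), by rw [← hsmul n a0, hr]⟩
  have h2 : ∀ n ∈ N, n * t = t * n → ∀ s ∈ S0, s ≠ 1 → s ≠ t → n * s = s * n → n ∈ K := by
    intro n hn hnt s hs hs1 hst hns
    have key := EightAut.eq_one_of_two_fixed hS8 hsq hodd hfaith
      (r := ⟨f ⟨n, hn⟩, ⟨n, hn⟩, rfl⟩) (x := a0) (y := ⟨s, hs⟩) ha0
      (fun h => hs1 (congrArg Subtype.val h)) (fun h => hst (congrArg Subtype.val h))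
      (Subtype.ext (by rw [hsmul]; exact mul_inv_eq_iff_eq_mul.2 hnt))
      (Subtype.ext (by rw [hsmul]; exact mul_inv_eq_iff_eq_mul.2 hns))
    refine Subgroup.mem_centralizer_iff.2 fun b hb => ?_
    have h := hsmul ⟨n, hn⟩ ⟨b, hb⟩
    rw [key, one_smul] at h
    exact eq_mul_inv_iff_mul_eq.1 h
  have h3 : K.relIndex (N ⊓ Subgroup.centralizer ({t} : Set G)) = 3 := by
    let g : ↥(N ⊓ Subgroup.centralizer ({t} : Set G)) →* MulAut S0 :=
      f.comp (Subgroup.inclusion inf_le_left)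
    have hker : g.ker = K.subgroupOf (N ⊓ Subgroup.centralizer ({t} : Set G)) := by
      ext ⟨n, hn⟩
      rw [MonoidHom.mem_ker, Subgroup.mem_subgroupOf]
      have : f ⟨n, (Subgroup.mem_inf.1 hn).1⟩ = 1 ↔ (⟨n, (Subgroup.mem_inf.1 hn).1⟩ : N) ∈
          K.subgroupOf N := by
        rw [← MonoidHom.mem_ker, Subgroup.normalizerMonoidHom_ker]
      exact this.trans Subgroup.mem_subgroupOf
    have hrange : g.range = (MulAction.stabilizer f.range a0).map f.range.subtype := by
      ext r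
      constructor
      · rintro ⟨⟨n, hn⟩, rfl⟩
        refine ⟨⟨f ⟨n, (Subgroup.mem_inf.1 hn).1⟩, ⟨n, _⟩, rfl⟩, ?_, rfl⟩
        refine Subtype.ext ?_
        rw [hsmul]
        exact mul_inv_eq_iff_eq_mul.2
          (Subgroup.mem_centralizer_singleton_iff.1 (Subgroup.mem_inf.1 hn).2)
      · rintro ⟨⟨_, n, rfl⟩, hr, rfl⟩
        refine ⟨⟨(n : G), Subgroup.mem_inf.2 ⟨n.2,
          Subgroup.mem_centralizer_singleton_iff.2 ?_⟩⟩, rfl⟩
        have h := congrArg Subtype.val (show (⟨f n, n, rfl⟩ : f.range) • a0 = a0 from hr)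
        rw [hsmul] at h
        exact mul_inv_eq_iff_eq_mul.1 h
    rw [Subgroup.relIndex, ← hker, Subgroup.index_ker, hrange,
      Subgroup.card_map_of_injective Subtype.val_injective]
    exact hstab a0 ha0
  obtain ⟨O, hOn, hO, Sb, y, tC, htC, hSbn, hSp, hSc, h24, hy6, hy3, hy2, hcy, hnc⟩ :=
    EightAut.exists_quot S hS8 hab a0.2 hto (hC t hto) h2 h3
  haveI := hOn
  haveI := hSbn
  haveI : Fintype ↥(Subgroup.centralizer ({t} : Set G)) := Fintype.ofFinite _
  exact EightAut.no_shape S hS8 hto hone rfl O hO Sb hSp hSc y tC htC h24 hy6 hy3 hy2 hcy hnc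

end Cfsg.Agent.S3189
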