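import Cfsg.Statements.S0111
import Mathlib.GroupTheory.Transfer
import Mathlib.GroupTheory.Sylow
import Mathlib.GroupTheory.IndexNormal

set_option autoImplicit false
set_option linter.style.haveILetI false
open Cfsg

namespace Cfsg.Agent.S0111
open scoped Pointwise commutatorElement
open Cfsg.Agent

/-- The Thompson transfer lemma states that an involution of a Sylow 2-subgroup P lying outside a subgroup Q of index 2 in P either lies outside some normal subgroup of index 2 in G or is conjugate to an element of Q. -/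
theorem result {G : Type*} [Group G] [Finite G] (P : Sylow 2 G) (Q : Subgroup G) (hQP : Q ≤ (P : Subgroup G)) (hQi : Q.relIndex (P : Subgroup G) = 2) (u : G) (hu : orderOf u = 2) (huP : u ∈ (P : Subgroup G)) (huQ : u ∉ Q) : (∃ M : Subgroup G, M.Normal ∧ M.index = 2 ∧ u ∉ M) ∨ ∃ g : G, g * u * g⁻¹ ∈ Q := by
  classical
  by_cases hconj : ∃ g : G, g * u * g⁻¹ ∈ Q
  · exact Or.inr hconj
  left
  push Not at hconj
  have hi2 : (Q.subgroupOf (P : Subgroup G)).index = 2 := hQi
  haveI : (Q.subgroupOf (P : Subgroup G)).Normal := Subgroup.normal_of_index_eq_two hi2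
  set A := (P : Subgroup G) ⧸ Q.subgroupOf (P : Subgroup G)
  have hA2 : Nat.card A = 2 := hi2
  haveI : IsCyclic A := isCyclic_of_prime_card (p := 2) hA2
  letI : CommGroup A := IsCyclic.commGroup
  let φ : (P : Subgroup G) →* A := QuotientGroup.mk' _
  let V : G →* A := MonoidHom.transfer φ
  have hz : φ ⟨u, huP⟩ ≠ 1 := fun h => huQ
    ((QuotientGroup.eq_one_iff (N := Q.subgroupOf (P : Subgroup G)) ⟨u, huP⟩).1 h)
  have hz2 : φ ⟨u, huP⟩ ^ 2 = 1 := by
    have h := pow_card_eq_one' (x := φ ⟨u, huP⟩)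
    rwa [hA2] at h
  have hnz : ∀ x : A, x ≠ 1 → x = φ ⟨u, huP⟩ := by
    intro x hx
    by_contra hne
    haveI : Fintype A := Fintype.ofFinite A
    have h3 : ({1, x, φ ⟨u, huP⟩} : Finset A).card ≤ 2 := by
      refine (Finset.card_le_univ _).trans ?_
      rw [← Nat.card_eq_fintype_card, hA2]
    rw [Finset.card_insert_of_notMem (by simp [hx.symm, hz.symm]),
      Finset.card_insert_of_notMem (by simp [hne]), Finset.card_singleton] at h3
    omega
  haveI : Fintype (Quotient (MulAction.orbitRel (Subgroup.zpowers u) (G ⧸ (P : Subgroup G)))) :=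
    Fintype.ofFinite _
  have hu2 : u ^ 2 = 1 := hu ▸ pow_orderOf_eq_one u
  have hVu : V u = φ ⟨u, huP⟩ ^ (P : Subgroup G).index := by
    rw [Subgroup.index_eq_sum_minimalPeriod (P : Subgroup G) u, ← Finset.prod_pow_eq_pow_sum]
    simp only [V]
    rw [MonoidHom.transfer_eq_prod_quotient_orbitRel_zpowers_quot]
    refine Finset.prod_congr rfl fun q _ => ?_
    have hk : ∀ k, Function.minimalPeriod (u • ·) q.out = k → k ∣ 2 := by
      rintro k rfl
      apply Function.IsPeriodicPt.minimalPeriod_dvd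
      have : (fun x : G ⧸ (P : Subgroup G) => u • x)^[2] q.out = q.out := by
        simp only [Function.iterate_succ, Function.iterate_zero, Function.comp_apply, id_eq]
        rw [smul_smul, ← pow_two, hu2, one_smul]
      exact this
    suffices hgen : ∀ (k : ℕ) (hmem : q.out.out⁻¹ * u ^ k * q.out.out ∈ (P : Subgroup G)), k ∣ 2 →
        φ ⟨_, hmem⟩ = φ ⟨u, huP⟩ ^ k from hgen _ _ (hk _ rfl)
    intro k hmem hk2
    rcases (Nat.dvd_prime Nat.prime_two).1 hk2 with rfl | rfl
    · rw [pow_one (φ ⟨u, huP⟩)]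
      apply hnz
      intro h1
      apply hconj (q.out.out)⁻¹
      have := (QuotientGroup.eq_one_iff _).1 h1
      simpa [Subgroup.mem_subgroupOf] using this
    · rw [hz2]
      convert φ.map_one
      simp [hu2]
  have hodd : φ ⟨u, huP⟩ ^ (P : Subgroup G).index = φ ⟨u, huP⟩ := by
    obtain ⟨k, hk⟩ : Odd (P : Subgroup G).index :=
      Nat.not_even_iff_odd.1 (fun h => P.not_dvd_index h.two_dvd)
    rw [hk, pow_succ, pow_mul, hz2,
      one_pow, one_mul]
  rw [hodd] at hVu
  refine ⟨V.ker, inferInstance, ?_, fun h => hz (hVu ▸ h)⟩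
  rw [Subgroup.index_ker]
  have hsurj : Function.Surjective V := by
    intro a
    by_cases ha : a = 1
    · exact ⟨1, by rw [map_one, ha]⟩
    · exact ⟨u, by rw [hVu, hnz a ha]⟩
  rw [MonoidHom.range_eq_top.2 hsurj, Subgroup.card_top, hA2]


end Cfsg.Agent.S0111
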