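import Cfsg.Statements.S1018
import Cfsg.Agent.Lib.Involutions.Basic
import Mathlib.GroupTheory.Sylow
import Mathlib.GroupTheory.GroupAction.Quotient

set_option autoImplicit false
open Cfsg

namespace Cfsg.Agent.S1018

theorem one_coset {G : Type*} [Group G] [Finite G] {p : ℕ} [Fact p.Prime] (P : Sylow p G)
    (hP : Nat.card ↥(P : Subgroup G) = p) {y : G} (hy : orderOf y = p) (g g' : G)
    (hg : g⁻¹ * y * g ∈ Subgroup.normalizer ((P : Subgroup G) : Set G))
    (hg' : g'⁻¹ * y * g' ∈ Subgroup.normalizer ((P : Subgroup G) : Set G)) :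
    g⁻¹ * g' ∈ Subgroup.normalizer ((P : Subgroup G) : Set G) := by
  have hin : ∀ g : G, g⁻¹ * y * g ∈ Subgroup.normalizer ((P : Subgroup G) : Set G) →
      (Subgroup.zpowers y).map (MulAut.conj g⁻¹).toMonoidHom = (P : Subgroup G) := by
    intro g hg
    have ho : orderOf (g⁻¹ * y * g) = p := by
      rw [show g⁻¹ * y * g = MulAut.conj g⁻¹ y by simp, MulEquiv.orderOf_eq, hy]
    have hpz : IsPGroup p (Subgroup.zpowers (g⁻¹ * y * g)) :=
      IsPGroup.of_card (n := 1) (by rw [Nat.card_zpowers, ho, pow_one])
    have h := hpz.inf_normalizer_sylow P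
    have hle : Subgroup.zpowers (g⁻¹ * y * g) ≤ (P : Subgroup G) :=
      (le_inf le_rfl (Subgroup.zpowers_le.mpr hg)).trans (h.le.trans inf_le_right)
    rw [MonoidHom.map_zpowers]
    have : (MulAut.conj g⁻¹).toMonoidHom y = g⁻¹ * y * g := by simp
    rw [this]
    exact Subgroup.eq_of_le_of_card_ge hle (by rw [Nat.card_zpowers, ho, hP])
  refine inv_inv (g⁻¹ * g') ▸ inv_mem ?_
  refine Subgroup.mem_normalizer_fintype fun x hx => ?_
  rw [SetLike.mem_coe, ← hin g hg] at hx
  obtain ⟨w, hw, rfl⟩ := hx
  rw [SetLike.mem_coe, ← hin g' hg']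
  exact ⟨w, hw, by simp [mul_assoc]⟩

/-- Let P be a Sylow p-subgroup of order p of a finite group G, and consider the action of G on the left cosets of the normalizer N of P. Then every element of order p fixes exactly one coset, and an element of N that does not centralize P fixes at most as many cosets as there are orbits of P. -/
theorem result {G : Type*} [Group G] [Finite G] (p : ℕ) [Fact p.Prime] (P : Sylow p G) (hP : Nat.card ↥(P : Subgroup G) = p) : (∀ y : G, orderOf y = p → Nat.card (MulAction.fixedBy (G ⧸ Subgroup.normalizer ((P : Subgroup G) : Set G)) y) = 1) ∧ ∀ x : G, x ∈ Subgroup.normalizer ((P : Subgroup G) : Set G) → x ∉ Subgroup.centralizer ((P : Subgroup G) : Set G) → Nat.card (MulAction.fixedBy (G ⧸ Subgroup.normalizer ((P : Subgroup G) : Set G)) x) ≤ Nat.card (MulAction.orbitRel.Quotient ↥(P : Subgroup G) (G ⧸ Subgroup.normalizer ((P : Subgroup G) : Set G))) := by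
  set N := Subgroup.normalizer ((P : Subgroup G) : Set G) with hN
  have fix_iff : ∀ x g : G, (QuotientGroup.mk g : G ⧸ N) ∈ MulAction.fixedBy (G ⧸ N) x ↔
      g⁻¹ * x * g ∈ N := by
    intro x g
    rw [MulAction.mem_fixedBy, MulAction.Quotient.smul_mk, QuotientGroup.eq, smul_eq_mul, mul_inv_rev,
      ← inv_mem_iff (x := g⁻¹ * x * g)]
    simp [mul_assoc]
  constructor
  · intro y hy
    obtain ⟨Q, hQ⟩ := (IsPGroup.of_card (n := 1)
      (by rw [Nat.card_zpowers, hy, pow_one]) : IsPGroup p (Subgroup.zpowers y)).exists_le_sylow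
    obtain ⟨c, rfl⟩ := MulAction.exists_smul_eq G P Q
    have hm := hQ (Subgroup.mem_zpowers y)
    rw [Sylow.smul_def, Sylow.pointwise_smul_def, Subgroup.mem_pointwise_smul_iff_inv_smul_mem,
      ← map_inv, MulAut.smul_def, MulAut.conj_apply, inv_inv] at hm
    have hc : c⁻¹ * y * c ∈ N := Subgroup.le_normalizer hm
    rw [Nat.card_eq_one_iff_unique]
    refine ⟨⟨?_⟩, ⟨⟨(c : G ⧸ N), (fix_iff y c).mpr hc⟩⟩⟩
    rintro ⟨a, ha⟩ ⟨b, hb⟩
    induction a using QuotientGroup.induction_on with
    | _ g =>
      induction b using QuotientGroup.induction_on with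
      | _ g' => exact Subtype.ext (QuotientGroup.eq.mpr
          (one_coset P hP hy g g' ((fix_iff y g).mp ha) ((fix_iff y g').mp hb)))
  · intro x hxN hxC
    refine Nat.card_le_card_of_injective
      (fun c => (⟦c.1⟧ : MulAction.orbitRel.Quotient ↥(P : Subgroup G) (G ⧸ N))) ?_
    rintro ⟨a, ha⟩ ⟨b, hb⟩ h
    obtain ⟨⟨u, hu⟩, hub⟩ := Quotient.exact h
    induction b using QuotientGroup.induction_on with
    | _ g =>
      apply Subtype.ext
      change u • ((g : G) : G ⧸ N) = a at hub
      have hgx := (fix_iff x g).mp hb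
      rw [← hub, MulAction.Quotient.smul_mk, smul_eq_mul] at ha
      have hugx := (fix_iff x (u * g)).mp ha
      show a = _
      rw [← hub, MulAction.Quotient.smul_mk, smul_eq_mul]
      set w := x⁻¹ * u⁻¹ * x * u with hw
      have hwP : w ∈ (P : Subgroup G) := by
        have := (Subgroup.mem_normalizer_iff.mp (inv_mem hxN) u⁻¹).mp (inv_mem hu)
        rw [inv_inv] at this
        exact mul_mem this hu
      by_cases hw1 : w = 1
      · have hux : Commute u x := by
          calc u * x = x * (x⁻¹ * u * x) := by group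
            _ = x * ((x⁻¹ * u * x) * w) := by rw [hw1, mul_one]
            _ = x * u := by rw [hw]; group
        by_cases hu1 : u = 1
        · rw [hu1, one_mul]
        · exfalso
          apply hxC
          haveI : IsCyclic (P : Subgroup G) := isCyclic_of_prime_card hP
          have htop : Subgroup.zpowers (⟨u, hu⟩ : (P : Subgroup G)) = ⊤ :=
            zpowers_eq_top_of_prime_card hP (fun h => hu1 (congrArg Subtype.val h))
          rw [Subgroup.mem_centralizer_iff]
          intro v hv
          obtain ⟨j, hj⟩ := Subgroup.mem_zpowers_iff.mp (htop ▸ Subgroup.mem_top (⟨v, hv⟩ : (P : Subgroup G)))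
          have : u ^ j = v := congrArg Subtype.val hj
          rw [← this]
          exact (hux.zpow_left j).eq
      · have hwo : orderOf w = p := by
          have hd : orderOf (⟨w, hwP⟩ : (P : Subgroup G)) ∣ p :=
            (orderOf_dvd_natCard _).trans (by rw [hP])
          rw [Subgroup.orderOf_mk] at hd
          rcases (Nat.dvd_prime Fact.out).mp hd with h1 | h1
          · exact absurd (orderOf_eq_one_iff.mp h1) hw1
          · exact h1
        have hgw : g⁻¹ * w * g ∈ N := by
          have := mul_mem (inv_mem hgx) hugx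
          rwa [show (g⁻¹ * x * g)⁻¹ * ((u * g)⁻¹ * x * (u * g)) = g⁻¹ * w * g by rw [hw]; group] at this
        have h1w : (1 : G)⁻¹ * w * 1 ∈ N := by rw [inv_one, one_mul, mul_one]; exact Subgroup.le_normalizer hwP
        have hgN := one_coset P hP hwo 1 g h1w hgw
        rw [inv_one, one_mul] at hgN
        rw [QuotientGroup.eq, mul_inv_rev]
        exact mul_mem (mul_mem (inv_mem hgN) (inv_mem (Subgroup.le_normalizer hu))) hgN

end Cfsg.Agent.S1018
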