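import Cfsg.Statements.S1012
import Cfsg.Agent.Lib.Small.SylowToolkit

set_option autoImplicit false
open Cfsg

namespace Cfsg.Agent.S1012

/-- A group of order 24 containing no element of order 6 is isomorphic to the symmetric group of degree 4. -/
theorem result {G : Type*} [Group G] [Finite G] (h : Nat.card G = 24) (h6 : ∀ g : G, orderOf g ≠ 6) : Nonempty (G ≃* Equiv.Perm (Fin 4)) := by
  haveI : Fact (Nat.Prime 3) := ⟨Nat.prime_three⟩
  haveI : Fact (Nat.Prime 2) := ⟨Nat.prime_two⟩
  have hk : Nat.card G = 3 ^ 1 * 8 := by rw [h]; norm_num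
  have hn := Small.sylow_number_mem hk (by norm_num)
  rw [show (Nat.divisors 8).filter (fun d => d % 3 = 1) = {1, 4} by decide +kernel] at hn
  simp only [Finset.mem_insert, Finset.mem_singleton] at hn
  obtain ⟨P⟩ : Nonempty (Sylow 3 G) := inferInstance
  have hP : Nat.card (P : Subgroup G) = 3 := (Small.sylow_card hk (by norm_num) P).trans (pow_one 3)
  have h6' : ∀ a b : G, orderOf a = 2 → orderOf b = 3 → a * b ≠ b * a := by
    intro a b ha hb hab
    exact h6 (a * b) (by
      rw [(show Commute a b from hab).orderOf_mul_eq_mul_orderOf_of_coprime (by rw [ha, hb]; norm_num), ha, hb])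
  obtain ⟨v, hv⟩ := exists_prime_orderOf_dvd_card' (G := (P : Subgroup G)) 3 (by rw [hP])
  have hvG : orderOf (v : G) = 3 := by rw [Subgroup.orderOf_coe, hv]
  set N := Subgroup.normalizer ((P : Subgroup G) : Set G) with hNdef
  have hN : Nat.card N * Nat.card (Sylow 3 G) = 24 := by rw [Small.card_normalizer_mul P, h]
  have hne1 : Nat.card (Sylow 3 G) ≠ 1 := by
    intro h1
    rw [h1, mul_one] at hN
    have hd := Small.card_normalizer_dvd (P : Subgroup G) hP
    rw [← hNdef, hN] at hd
    have h2C : 2 ∣ Nat.card (Subgroup.centralizer ((P : Subgroup G) : Set G)) := by omega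
    obtain ⟨w, hw⟩ := exists_prime_orderOf_dvd_card' 2 h2C
    exact h6' w v (by rw [Subgroup.orderOf_coe, hw]) hvG
      (Subgroup.mem_centralizer_iff.mp w.2 v v.2).symm
  have hn4 : Nat.card (Sylow 3 G) = 4 := hn.resolve_left hne1
  set K := N.normalCore with hK
  have hKn : K.Normal := Subgroup.normalCore_normal N
  have h3K : ¬ 3 ∣ Nat.card K := by
    intro hd
    obtain ⟨y, hy⟩ := exists_prime_orderOf_dvd_card' 3 hd
    have hyG : orderOf (y : G) = 3 := by rw [Subgroup.orderOf_coe, hy]
    have hin : ∀ z : G, orderOf z = 3 → z ∈ N → z ∈ (P : Subgroup G) := by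
      intro z hz hzN
      have := (IsPGroup.of_card (n := 1) (by rw [Nat.card_zpowers, hz, pow_one]) :
        IsPGroup 3 (Subgroup.zpowers z)).inf_normalizer_sylow P
      exact (this.le ⟨Subgroup.mem_zpowers z, hzN⟩).2
    have hyP := hin y hyG (Subgroup.normalCore_le N y.2)
    have hgen : (P : Subgroup G) = Subgroup.zpowers (y : G) :=
      (Subgroup.eq_of_le_of_card_ge (Subgroup.zpowers_le.mpr hyP) (by rw [hP, Nat.card_zpowers, hyG])).symm
    refine hne1 ?_
    rw [Small.card_eq_index P, Subgroup.index_eq_one, eq_top_iff]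
    intro g _
    refine Subgroup.mem_normalizer_fintype fun z hz => ?_
    rw [SetLike.mem_coe, hgen] at hz
    obtain ⟨j, rfl⟩ := hz
    show g * (y : G) ^ j * g⁻¹ ∈ (P : Subgroup G)
    rw [← conj_zpow]
    exact zpow_mem (hin _ (((MulAut.conj g).orderOf_eq (y : G)).trans hyG)
      (Subgroup.normalCore_le N (hKn.conj_mem _ y.2 g))) j
  have hK1 : K = ⊥ := by
    by_contra hne
    have hd := Subgroup.card_dvd_of_le (Subgroup.normalCore_le N)
    rw [hn4] at hN
    rw [← hK, show Nat.card N = 6 by omega] at hd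
    have hK2 : Nat.card K = 2 := by
      have h1 : Nat.card K ≠ 1 := fun e => hne (Subgroup.eq_bot_of_card_eq _ e)
      have hle := Nat.le_of_dvd (by norm_num) hd
      interval_cases hc : Nat.card K <;> omega
    obtain ⟨w, hw⟩ := exists_prime_orderOf_dvd_card' (G := K) 2 (by rw [hK2])
    have hwG : orderOf (w : G) = 2 := by rw [Subgroup.orderOf_coe, hw]
    have hgen : Subgroup.zpowers w = ⊤ := Subgroup.eq_top_of_card_eq _ (by rw [Nat.card_zpowers, hw, hK2])
    obtain ⟨j, hj⟩ := Subgroup.mem_zpowers_iff.mp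
      (hgen ▸ Subgroup.mem_top (⟨(v : G) * w * (v : G)⁻¹, hKn.conj_mem _ w.2 _⟩ : K))
    have hj' : (w : G) ^ j = (v : G) * w * (v : G)⁻¹ := congrArg Subtype.val hj
    rcases Int.even_or_odd' j with ⟨i, hi | hi⟩
    · have hone : (v : G) * w * (v : G)⁻¹ = 1 := by
        rw [← hj', hi, zpow_mul, zpow_two, ← pow_two, ← hwG, pow_orderOf_eq_one, one_zpow]
      rw [conj_eq_one_iff] at hone
      rw [hone, orderOf_one] at hwG
      exact absurd hwG (by norm_num)
    · refine h6' _ _ hwG hvG (Eq.symm (mul_inv_eq_iff_eq_mul.mp ?_))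
      rw [← hj', hi, zpow_add, zpow_mul, zpow_two, ← pow_two, ← hwG, pow_orderOf_eq_one, one_zpow,
        one_mul, zpow_one]
  have hinj : Function.Injective (MulAction.toPermHom G (G ⧸ N)) := by
    rw [← MonoidHom.ker_eq_bot_iff, ← Subgroup.normalCore_eq_ker]; exact hK1
  have e : G ⧸ N ≃ Fin 4 := (Finite.equivFin _).trans (finCongr (by
    rw [← Subgroup.index, ← Small.card_eq_index P, hn4]))
  let f : G →* Equiv.Perm (Fin 4) := (Equiv.permCongrHom e).toMonoidHom.comp (MulAction.toPermHom G (G ⧸ N))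
  have hf : Function.Injective f := (Equiv.permCongrHom e).injective.comp hinj
  refine ⟨MulEquiv.ofBijective f ((Nat.bijective_iff_injective_and_card f).mpr ⟨hf, ?_⟩)⟩
  rw [h, Nat.card_perm, Nat.card_fin]
  rfl

end Cfsg.Agent.S1012
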