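import Cfsg.Statements.S3961
import Cfsg.Agent.Lib.Schur.Extra

set_option autoImplicit false
universe u v
open Cfsg

namespace Cfsg.Agent.S3961

open scoped commutatorElement

/-- Let `π : G →* Q` be a surjective homomorphism with central kernel from a finite perfect group `G` (a perfect cover of `Q`). Then `π` is universal, in the sense that every surjective homomorphism `ξ : X →* Q` with central kernel from a group `X` in the universe of `G` admits a homomorphism `η : G →* X` with `ξ ∘ η = π`, if and only if `G` has trivial Schur multiplier. -/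
theorem result {G : Type u} {Q : Type v} [Group G] [Group Q] [Finite G] (hG : Group.IsPerfect G) (π : G →* Q) (hπ : Function.Surjective π) (hker : π.ker ≤ Subgroup.center G) : (∀ (X : Type u) [Group X] (ξ : X →* Q), Function.Surjective ξ → ξ.ker ≤ Subgroup.center X → ∃ η : G →* X, ξ.comp η = π) ↔ Cfsg.HasCyclicSchurMultiplier G 1 := by
  constructor
  · intro huniv
    refine Schur.hasCyclicSchurMultiplier_one_of fun X _ ξ hs hc => ?_
    let D := commutator X
    have hmapD : D.map ξ = ⊤ := by
      show (commutator X).map ξ = ⊤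
      rw [commutator_def, Subgroup.map_commutator, Subgroup.map_top_of_surjective _ hs,
        ← commutator_def, hG.commutator_eq_top]
    have hlift : ∀ x : X, ∃ d : D, ((d : X))⁻¹ * x ∈ Subgroup.center X := fun x => by
      obtain ⟨d, hd, hdx⟩ := (hmapD.symm ▸ Subgroup.mem_top (ξ x) : ξ x ∈ D.map ξ)
      exact ⟨⟨d, hd⟩, hc (by simp [MonoidHom.mem_ker, hdx])⟩
    have hDD : ⁅D, D⁆ = D := by
      refine le_antisymm (Subgroup.commutator_mono le_top le_top) ?_
      refine le_of_eq_of_le (commutator_def X) ?_
      rw [Subgroup.commutator_le]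
      intro x _ y _
      obtain ⟨x', hx⟩ := hlift x
      obtain ⟨y', hy⟩ := hlift y
      have h := Schur.commutator_mul_central (x' : X) y' _ _ hx hy
      rw [mul_inv_cancel_left, mul_inv_cancel_left] at h
      rw [h]
      exact Subgroup.commutator_mem_commutator x'.2 y'.2
    let ξD : D →* G := ξ.comp D.subtype
    have hξDs : Function.Surjective ξD := fun g => by
      obtain ⟨d, hd, rfl⟩ := (hmapD.symm ▸ Subgroup.mem_top g : g ∈ D.map ξ)
      exact ⟨⟨d, hd⟩, rfl⟩
    have hK : ∀ d : D, π (ξD d) = 1 → (d : X) ∈ Subgroup.centralizer (D : Set X) := by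
      intro d hd
      let C := (Subgroup.center G).comap ξ
      have hC : (d : X) ∈ C := hker hd
      have h1 : ⁅⁅D, C⁆, (⊤ : Subgroup X)⁆ = ⊥ := by
        rw [Subgroup.commutator_eq_bot_iff_le_centralizer, Subgroup.coe_top,
          Subgroup.centralizer_univ]
        refine le_trans ?_ hc
        rw [Subgroup.commutator_le]
        intro u _ k hk
        rw [MonoidHom.mem_ker, map_commutatorElement, commutatorElement_eq_one_iff_mul_comm]
        exact Subgroup.mem_center_iff.1 hk (ξ u)
      have h1' : ⁅⁅D, C⁆, D⁆ = ⊥ :=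
        le_bot_iff.1 (h1 ▸ Subgroup.commutator_mono le_rfl le_top)
      have h2' : ⁅⁅C, D⁆, D⁆ = ⊥ := by rw [Subgroup.commutator_comm C]; exact h1'
      have h3 : ⁅⁅D, D⁆, C⁆ = ⊥ := Subgroup.commutator_commutator_eq_bot_of_rotate h1' h2'
      rw [hDD, Subgroup.commutator_comm, Subgroup.commutator_eq_bot_iff_le_centralizer] at h3
      exact h3 hC
    obtain ⟨η, hη⟩ := huniv D (π.comp ξD) (hπ.comp hξDs) (fun d hd => by
      rw [Subgroup.mem_center_iff]
      intro u
      exact Subtype.ext (Subgroup.mem_centralizer_iff.1 (hK d hd) u u.2))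
    let ζ : G →* X := D.subtype.comp η
    have hid : ∀ g : G, ξ (ζ g) = g := fun g =>
      Schur.eq_on_commutator π hker (ξD.comp η) (MonoidHom.id G) (by
        rw [← MonoidHom.comp_assoc, hη]; rfl) g (hG.commutator_eq_top ▸ Subgroup.mem_top g)
    have hDle : D ≤ ζ.range := by
      refine le_of_eq_of_le (commutator_def X) ?_
      rw [Subgroup.commutator_le]
      intro x _ y _
      have hx : (ζ (ξ x))⁻¹ * x ∈ Subgroup.center X := hc (by simp [MonoidHom.mem_ker, hid])
      have hy : (ζ (ξ y))⁻¹ * y ∈ Subgroup.center X := hc (by simp [MonoidHom.mem_ker, hid])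
      have h := Schur.commutator_mul_central (ζ (ξ x)) (ζ (ξ y)) _ _ hx hy
      rw [mul_inv_cancel_left, mul_inv_cancel_left] at h
      rw [h, ← map_commutatorElement]
      exact ⟨_, rfl⟩
    rw [eq_bot_iff]
    rintro x ⟨hx1, hx2⟩
    obtain ⟨g, rfl⟩ := hDle hx2
    have hg : g = 1 := by rw [← hid g]; exact hx1
    simp [hg]
  · intro htriv X _ ξ hs hc
    obtain ⟨η, hη, -⟩ := Schur.exists_commutator_lift π ξ htriv hs hc
    let ι : G →* commutator G := (MonoidHom.id G).codRestrict _
      (fun g => hG.commutator_eq_top ▸ Subgroup.mem_top g)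
    refine ⟨(Schur.pbSnd π ξ).comp (η.comp ι), MonoidHom.ext fun g => ?_⟩
    show ξ (Schur.pbSnd π ξ (η (ι g))) = π g
    rw [← Schur.pb_comm, hη]
    rfl

end Cfsg.Agent.S3961
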