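import Cfsg.Statements.S3963
import Cfsg.Agent.Lib.Schur.Extra

set_option autoImplicit false
open Cfsg

namespace Cfsg.Agent.S3963

open scoped commutatorElement

/-- For every `n ≥ 1` the dicyclic (generalized quaternion) group of order `4 n` has trivial Schur multiplier. -/
theorem result (n : ℕ) [NeZero n] : Cfsg.HasCyclicSchurMultiplier (QuaternionGroup n) 1 := by
  refine Schur.hasCyclicSchurMultiplier_one_of fun X _ ξ hs hc => ?_
  obtain ⟨a, ha⟩ := hs (QuaternionGroup.a 1)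
  obtain ⟨b, hb⟩ := hs (QuaternionGroup.xa 0)
  have hcen : ∀ z ∈ ξ.ker, ∀ g : X, g * z = z * g := fun z hz g =>
    Subgroup.mem_center_iff.1 (hc hz) g
  have e1 : ξ (b * a * b⁻¹ * a) = 1 := by
    simp only [map_mul, map_inv, ha, hb]
    rw [show (QuaternionGroup.xa (0 : ZMod (2 * n)))⁻¹ = QuaternionGroup.xa ((n : ZMod (2 * n)) + 0) from rfl]
    simp only [QuaternionGroup.xa_mul_a, QuaternionGroup.xa_mul_xa, QuaternionGroup.a_mul_a,
      QuaternionGroup.one_def]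
    congr 1
    ring_nf; have h2n := ZMod.natCast_self (2 * n); push_cast at h2n; linear_combination h2n
  obtain ⟨z, hz, hba⟩ : ∃ z ∈ ξ.ker, b * a * b⁻¹ = a⁻¹ * z :=
    ⟨a * (b * a * b⁻¹), by
      rw [MonoidHom.mem_ker, map_mul]
      rw [map_mul] at e1
      calc ξ a * ξ (b * a * b⁻¹) = (ξ a * (ξ (b * a * b⁻¹) * ξ a)) * (ξ a)⁻¹ := by group
        _ = 1 := by rw [e1]; group, by group⟩
  obtain ⟨w, hw, hbb⟩ : ∃ w ∈ ξ.ker, b * b = a ^ n * w := by
    refine ⟨(a ^ n)⁻¹ * (b * b), ?_, by group⟩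
    have : ξ (b * b) = ξ (a ^ n) := by
      rw [map_mul, map_pow, ha, hb, QuaternionGroup.xa_mul_xa, QuaternionGroup.a_one_pow]
      simp
    rw [MonoidHom.mem_ker, map_mul, map_inv, this]
    group
  have hza : Commute a⁻¹ z := hcen z hz a⁻¹
  have hpow : b * a ^ n * b⁻¹ = (a⁻¹) ^ n * z ^ n := by
    rw [← conj_pow, hba, hza.mul_pow]
  have hfix : b * a ^ n * b⁻¹ = a ^ n := by
    have h1 : a ^ n = b * b * w⁻¹ := by rw [hbb]; group
    have h2 : w⁻¹ * b⁻¹ = b⁻¹ * w⁻¹ := (hcen _ (inv_mem hw) b⁻¹).symm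
    rw [h1]
    calc b * (b * b * w⁻¹) * b⁻¹ = b * b * b * (w⁻¹ * b⁻¹) := by group
      _ = b * b * w⁻¹ := by rw [h2]; group
  have hzn : a ^ n * a ^ n = z ^ n := by
    calc a ^ n * a ^ n = a ^ n * (b * a ^ n * b⁻¹) := by rw [hfix]
      _ = z ^ n := by rw [hpow, inv_pow]; group
  have hcab : ⁅b, a⁆ = a⁻¹ * a⁻¹ * z := by
    rw [commutatorElement_def, hba]
    calc a⁻¹ * z * a⁻¹ = a⁻¹ * (z * a⁻¹) := by group
      _ = a⁻¹ * a⁻¹ * z := by rw [← hcen z hz a⁻¹]; group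
  have hcn : ⁅b, a⁆ ^ n = 1 := by
    rw [hcab, ((hza.mul_left hza)).mul_pow, (Commute.refl a⁻¹).mul_pow, inv_pow, ← hzn]
    group
  have hgen : Subgroup.closure {ξ b, ξ a} = ⊤ := by
    rw [eq_top_iff]
    rintro g -
    rw [ha, hb]
    have ha' : ∀ i : ZMod (2 * n), QuaternionGroup.a i ∈ Subgroup.closure
        ({QuaternionGroup.xa 0, QuaternionGroup.a 1} : Set (QuaternionGroup n)) := by
      intro i
      have h2 := Subgroup.pow_mem _ (Subgroup.subset_closure (Set.mem_insert_of_mem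
        (QuaternionGroup.xa (0 : ZMod (2 * n))) (Set.mem_singleton (QuaternionGroup.a 1)))) i.val
      rwa [QuaternionGroup.a_one_pow, ZMod.natCast_val, ZMod.cast_id] at h2
    cases g with
    | a i => exact ha' i
    | xa i =>
      have : QuaternionGroup.xa i = QuaternionGroup.xa 0 * QuaternionGroup.a i := by simp
      rw [this]
      exact Subgroup.mul_mem _ (Subgroup.subset_closure (Set.mem_insert _ _)) (ha' i)
  have hinv : (⁅b, a⁆)⁻¹ = b * ⁅b, a⁆ * b⁻¹ := by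
    have hbz : b * z * b⁻¹ = z := by rw [hcen z hz b]; group
    have hza' : Commute z⁻¹ a := by simpa using hza.inv_inv.symm
    rw [hcab]
    symm
    calc b * (a⁻¹ * a⁻¹ * z) * b⁻¹ = (b * a * b⁻¹)⁻¹ * (b * a * b⁻¹)⁻¹ * (b * z * b⁻¹) := by group
      _ = z⁻¹ * a * (z⁻¹ * a) * z := by rw [hba, hbz]; group
      _ = (a * z⁻¹) * (a * z⁻¹) * z := by rw [hza'.eq]
      _ = a * (z⁻¹ * a) := by group
      _ = (a * z⁻¹) * a := by group
      _ = (z⁻¹ * a) * a := by rw [hza'.eq]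
      _ = (a⁻¹ * a⁻¹ * z)⁻¹ := by simp [mul_assoc]
  have hN : (Subgroup.zpowers ⁅b, a⁆).Normal := by
    rw [← Subgroup.normalizer_eq_top_iff, eq_top_iff, ← Subgroup.comap_top ξ, ← hgen,
      show ({ξ b, ξ a} : Set _) = ξ '' {b, a} from Set.image_pair ξ b a ▸ rfl,
      ← MonoidHom.map_closure, Subgroup.comap_map_eq]
    refine sup_le ((Subgroup.closure_le _).2 ?_) (hc.trans (Subgroup.center_le_normalizer _))
    intro y hy
    rw [SetLike.mem_coe, Subgroup.mem_normalizer_iff]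
    have hmap : (Subgroup.zpowers ⁅b, a⁆).map (MulAut.conj y).toMonoidHom = Subgroup.zpowers ⁅b, a⁆ := by
      rw [MonoidHom.map_zpowers]
      rcases hy with rfl | hy
      · show Subgroup.zpowers (y * ⁅y, a⁆ * y⁻¹) = _
        rw [← hinv, Subgroup.zpowers_inv]
      · rw [Set.mem_singleton_iff] at hy
        subst hy
        have hc' : Commute y ⁅b, y⁆ := by
          rw [hcab]
          exact ((Commute.refl y).inv_right.mul_right (Commute.refl y).inv_right).mul_right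
            (hcen z hz y)
        show Subgroup.zpowers (y * ⁅b, y⁆ * y⁻¹) = _
        rw [hc'.eq, mul_inv_cancel_right]
    intro x
    conv_rhs => rw [← hmap]
    rw [Subgroup.mem_map_equiv]
    simp [MulAut.conj_symm_apply, mul_assoc]
  have hle := Schur.commutator_le_of_pair ξ hc b a hgen _ (Subgroup.mem_zpowers _)
  rw [eq_bot_iff]
  rintro x ⟨hx1, hx2⟩
  obtain ⟨k, rfl⟩ := hle hx2
  have h0 : ξ ⁅b, a⁆ ^ k = 1 := by rw [← map_zpow]; exact hx1
  have horder : orderOf (ξ ⁅b, a⁆) = n := by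
    have h1 : ξ ⁅b, a⁆ = ((QuaternionGroup.a 1 : QuaternionGroup n) ^ 2)⁻¹ := by
      rw [hcab, map_mul, MonoidHom.mem_ker.1 hz, mul_one, map_mul, map_inv, ha, sq, mul_inv_rev]
    rw [h1, orderOf_inv, orderOf_pow, QuaternionGroup.orderOf_a_one]
    simp
  have hdvd : (n : ℤ) ∣ k := by
    rw [← horder]; exact orderOf_dvd_iff_zpow_eq_one.2 h0
  obtain ⟨j, rfl⟩ := hdvd
  rw [Subgroup.mem_bot]
  show ⁅b, a⁆ ^ ((n : ℤ) * j) = 1
  rw [zpow_mul, zpow_natCast, hcn, one_zpow]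

end Cfsg.Agent.S3963
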