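import Cfsg.Statements.S3979
import Cfsg.Agent.Lib.Schur.Basic

set_option autoImplicit false
set_option linter.style.haveILetI false

set_option autoImplicit false
open Cfsg

namespace Cfsg.Agent.S3979

/-- A finite cyclic group has trivial Schur multiplier: every finite stem extension of it is an isomorphism, said through `HasCyclicSchurMultiplier G 1`. -/
theorem result {G : Type*} [Group G] [Finite G] [IsCyclic G] : Cfsg.HasCyclicSchurMultiplier G 1 := by
  refine Cfsg.Agent.Schur.hasCyclicSchurMultiplier_one_of fun X _ ξ hs hc => ?_
  have : commutator X = ⊥ := by
    rw [commutator_def, Subgroup.commutator_eq_bot_iff_le_centralizer]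
    intro a _
    rw [Subgroup.mem_centralizer_iff]
    intro b _
    exact commutative_of_cyclic_center_quotient ξ hc b a
  rw [this, inf_bot_eq]

end Cfsg.Agent.S3979
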