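import Cfsg.Statements.S2117
import Cfsg.Agent.Lib.Schur.SL2Root
import Cfsg.Agent.Lib.Schur.Congr
import Cfsg.Agent.Lib.Classical.SL2Sylow
import Cfsg.Agent.Lib.Classical.GL2
import Cfsg.Agent.S3963
import Cfsg.Agent.S3979
-- import your own Cfsg.Agent.* helpers here

set_option autoImplicit false
open Cfsg

namespace Cfsg.Agent.S2117

/-- For a finite field with q elements, q ≠ 4 and q ≠ 9, the special linear group SL₂ has trivial Schur multiplier (here the Schur multiplier is described through stem extensions, as in the definitions). -/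
theorem result {F : Type*} [Field F] [Fintype F] (h4 : Fintype.card F ≠ 4) (h9 : Fintype.card F ≠ 9) : Cfsg.HasCyclicSchurMultiplier (Matrix.SpecialLinearGroup (Fin 2) F) 1 := by
  classical
  obtain ⟨p, hchar⟩ := CharP.exists F
  obtain ⟨⟨e, he⟩, hp, hcard⟩ := FiniteField.card F p
  haveI := Fact.mk hp
  simp only [PNat.mk_coe] at hcard
  have hcardSL : Nat.card (Matrix.SpecialLinearGroup (Fin 2) F) =
      (p ^ e + 1) * (p ^ e * (p ^ e - 1)) := by
    have hF : Nat.card F = p ^ e := by rw [Nat.card_eq_fintype_card, hcard]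
    have h := ClassicalSL.card_sl_mul (ι := Fin 2) (F := F)
    rw [ClassicalGL2.card_gl2, hF, pow_two] at h
    have hpos : 0 < p ^ e - 1 := by
      have := Nat.one_lt_pow he.ne' hp.one_lt
      omega
    exact Nat.eq_of_mul_eq_mul_left hpos (h.trans (by ring))
  refine Schur.hasCyclicSchurMultiplier_one_of_primes fun r hr => ?_
  haveI := Fact.mk hr
  rcases eq_or_ne r p with rfl | hrp
  · refine ⟨SL2Root.rootSub, ?_, ?_⟩
    · have h := Subgroup.card_mul_index (SL2Root.rootSub (F := F))
      rw [SL2Root.card_rootSub, Nat.card_eq_fintype_card, hcard, hcardSL] at h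
      rw [Nat.eq_of_mul_eq_mul_left (pow_pos hp.pos e)
        (h.trans (show _ = r ^ e * ((r ^ e + 1) * (r ^ e - 1)) by ring))]
      intro hd
      have h1 : r ∣ r ^ e := dvd_pow_self r he.ne'
      have h2 : 1 ≤ r ^ e := Nat.one_le_pow _ _ hp.pos
      rcases (Nat.Prime.dvd_mul hr).1 hd with h3 | h3
      · exact hr.not_dvd_one ((Nat.dvd_add_right h1).1 h3)
      · exact hr.not_dvd_one (by simpa [Nat.sub_sub_self h2] using Nat.dvd_sub h1 h3)
    · rcases (show e = 1 ∨ 2 ≤ e by omega) with rfl | he2
      · have hc : Nat.card (SL2Root.rootSub (F := F)) = r := by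
          rw [SL2Root.card_rootSub, Nat.card_eq_fintype_card, hcard, pow_one]
        haveI : IsCyclic (SL2Root.rootSub (F := F)) := isCyclic_of_prime_card hc
        exact fun X _ ξ hs hc' => Schur.eq_one_of_trivial _ S3979.result ξ hs hc'
      · intro X _ ξ hs hc z _ hz hzc
        have hcomm := SL2Root.lift_commute (p := r) he2 hcard (hcard ▸ h4) (hcard ▸ h9) ξ hs hc
        have hbot : commutator ((SL2Root.rootSub (F := F)).comap ξ) = ⊥ := by
          rw [commutator_def, Subgroup.commutator_eq_bot_iff_le_centralizer]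
          intro a _
          rw [Subgroup.mem_centralizer_iff]
          intro b _
          exact Subtype.ext (commutatorElement_eq_one_iff_mul_comm.1 (hcomm b b.2 a a.2))
        rw [hbot, Subgroup.mem_bot] at hzc
        exact congrArg Subtype.val hzc
  · obtain ⟨S⟩ : Nonempty (Sylow r (Matrix.SpecialLinearGroup (Fin 2) F)) := inferInstance
    refine ⟨S, S.not_dvd_index, fun X _ ξ hs hc => Schur.eq_one_of_trivial _ ?_ ξ hs hc⟩
    by_cases hr2 : r = 2
    · subst hr2
      by_cases hnc : ∃ x ∈ (S : Subgroup (Matrix.SpecialLinearGroup (Fin 2) F)), ∃ y ∈ (S : Subgroup (Matrix.SpecialLinearGroup (Fin 2) F)), x * y ≠ y * x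
      · obtain ⟨k, -, ⟨E⟩⟩ := SL2Sylow.quaternion_of_twoGroup p (Ne.symm hrp) _ S.isPGroup' hnc
        haveI : NeZero (2 ^ k) := ⟨pow_ne_zero _ two_ne_zero⟩
        exact Schur.hasCyclicSchurMultiplier_of_mulEquiv E.symm (S3963.result (2 ^ k))
      · push Not at hnc
        haveI : IsMulCommutative (S : Subgroup (Matrix.SpecialLinearGroup (Fin 2) F)) :=
          ⟨⟨fun a b => Subtype.ext (hnc a a.2 b b.2)⟩⟩
        haveI : IsCyclic (S : Subgroup (Matrix.SpecialLinearGroup (Fin 2) F)) := by
          obtain ⟨k, hk⟩ := IsPGroup.iff_card.1 S.isPGroup'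
          refine SL2Sylow.isCyclic_of_isMulCommutative p _ ?_
          rw [hk]
          exact ((Nat.coprime_primes Nat.prime_two hp).2 hrp).pow_left k
        exact S3979.result
    · haveI := SL2Sylow.sylow_odd_cyclic (F := F) p r hr2 hrp _ S.isPGroup'
      exact S3979.result

end Cfsg.Agent.S2117
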