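import Cfsg.Statements.S2086
import Cfsg.Agent.Lib.SLPres.Central
import Cfsg.Agent.Lib.Schur.PerfectQuot
import Cfsg.Agent.S2117
-- import your own Cfsg.Agent.* helpers here

set_option autoImplicit false
open Cfsg

namespace Cfsg.Agent.S2086

/-- Schur multipliers of the linear groups: for n ≥ 2 and a field F with q elements (q ≥ 4 when n = 2), apart from the five exceptional pairs (n, q) = (2, 4), (2, 9), (3, 2), (3, 4), (4, 2), the Schur multiplier of PSL_n(F) is cyclic of order gcd(n, q − 1); here the Schur multiplier is described through stem extensions, as in the definitions. -/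
theorem result {F : Type*} [Field F] [Fintype F] {q : ℕ} (hF : Fintype.card F = q) (n : ℕ) (hn : 2 ≤ n) (h2 : n = 2 → 4 ≤ q) (hexc : (n, q) ∉ ({(2, 4), (2, 9), (3, 2), (3, 4), (4, 2)} : Set (ℕ × ℕ))) : Cfsg.HasCyclicSchurMultiplier (Matrix.ProjectiveSpecialLinearGroup (Fin n) F) (Nat.gcd n (q - 1)) := by
  classical
  subst hF
  haveI : NeZero n := ⟨by omega⟩
  haveI : Nonempty (Fin n) := ⟨0⟩
  have hq : Nat.card F = Fintype.card F := Nat.card_eq_fintype_card
  simp only [Set.mem_insert_iff, Set.mem_singleton_iff, Prod.mk.injEq, not_or] at hexc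
  have hperf : commutator (Matrix.SpecialLinearGroup (Fin n) F) = ⊤ := by
    rcases eq_or_ne n 2 with rfl | hn2
    · obtain ⟨a, ha⟩ : ∃ a : Fˣ, a ^ 2 ≠ 1 := by
        have := h2 rfl
        exact SLPres.exists_unit_sq_ne_one (by omega) (by omega)
      exact Matrix.SL2.commutator_eq_top (a := (a : F)) a.ne_zero fun h => ha (Units.ext (by simpa using h))
    · exact ClassicalSL.isPerfect_sl (by rw [Fintype.card_fin]; omega)
  have htriv : Cfsg.HasCyclicSchurMultiplier (Matrix.SpecialLinearGroup (Fin n) F) 1 := by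
    rcases eq_or_ne n 2 with rfl | hn2
    · exact S2117.result (by omega) (by omega)
    · exact SLPres.multiplier_sl (by omega) (fun h3 => by omega) (fun h4 => by omega)
  set π := QuotientGroup.mk' (Subgroup.center (Matrix.SpecialLinearGroup (Fin n) F)) with hπ
  have hker : π.ker = Subgroup.center (Matrix.SpecialLinearGroup (Fin n) F) :=
    QuotientGroup.ker_mk' _
  have hcard : Nat.card π.ker = Nat.gcd n (Fintype.card F - 1) := by
    rw [hker, ClassicalSL.card_center_sl, Fintype.card_fin, hq]
  haveI : IsCyclic (Subgroup.center (Matrix.SpecialLinearGroup (Fin n) F)) :=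
    isCyclic_of_injective (Matrix.SpecialLinearGroup.center_equiv_rootsOfUnity' (R := F) (0 : Fin n)).toMonoidHom
      (MulEquiv.injective _)
  haveI : IsCyclic π.ker := by rw [hker]; infer_instance
  haveI : NeZero (Nat.gcd n (Fintype.card F - 1)) := ⟨(Nat.gcd_pos_of_pos_left _ (by omega)).ne'⟩
  exact Schur.hasSchurMultiplier_of_perfect hperf htriv π (QuotientGroup.mk'_surjective _) hker.le
    (mulEquivOfCyclicCardEq (by rw [hcard]; simp))

end Cfsg.Agent.S2086
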