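import Cfsg.Statements.S3634
import Cfsg.Agent.Lib.Recog.NormTrick
import Mathlib.GroupTheory.Sylow
import Mathlib.GroupTheory.GroupAction.ConjAct
import Mathlib.GroupTheory.Perm.Cycle.Type

set_option autoImplicit false
open Cfsg

namespace Cfsg.Agent.S3634

theorem mixed {G : Type*} [Group G] [Finite G] {p q : ℕ} (hp : p.Prime) (hq : q.Prime) (hpq : p ≠ q)
    {u v : G} (h : Commute u v) (hu : p ∣ orderOf u) (hv : q ∣ orderOf v) :
    ∃ x : G, orderOf x = p * q := by
  refine ⟨u ^ (orderOf u / p) * v ^ (orderOf v / q), ?_⟩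
  have h1 := orderOf_pow_orderOf_div (orderOf_pos u).ne' hu
  have h2 := orderOf_pow_orderOf_div (orderOf_pos v).ne' hv
  rw [(h.pow_pow _ _).orderOf_mul_eq_mul_orderOf_of_coprime
    (by rw [h1, h2]; exact (Nat.coprime_primes hp hq).2 hpq), h1, h2]

/-- The main case: the smallest prime step is a normal `p`-subgroup. -/
theorem core {L : Type*} [Group L] [Finite L] (p q r : ℕ) (hp : p.Prime) (hq : q.Prime) (hr : r.Prime)
    (hpq : p ≠ q) (hpr : p ≠ r) (hqr : q ≠ r)
    (P : Subgroup L) [hPn : P.Normal] (hP : IsPGroup p P) (hP1 : P ≠ ⊥)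
    (M : Subgroup L) [M.Normal] (hqM : q ∣ Nat.card M) (hrM : r ∣ M.index) :
    (∃ x : L, orderOf x = p * q) ∨ (∃ x : L, orderOf x = p * r) ∨ (∃ x : L, orderOf x = q * r) := by
  classical
  have : Fact p.Prime := ⟨hp⟩
  have : Fact q.Prime := ⟨hq⟩
  have : Fact r.Prime := ⟨hr⟩
  by_contra hcon
  rw [not_or, not_or] at hcon
  obtain ⟨npq, npr, nqr⟩ := hcon
  let Z : Subgroup L := (Subgroup.center P).map P.subtype
  have hZn : Z.Normal := ConjAct.normal_of_characteristic_of_normal
  let cg : CommGroup Z := { (inferInstance : Group Z) with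
    mul_comm := by
      rintro ⟨a, a', ha, rfl⟩ ⟨b, b', hb, rfl⟩
      exact Subtype.ext (congrArg P.subtype ((Subgroup.mem_center_iff.1 hb) a')) }
  have : Nontrivial P := P.nontrivial_iff_ne_bot.2 hP1
  have hZ1 : Z ≠ ⊥ := by
    rw [Ne, Subgroup.map_eq_bot_iff_of_injective _ P.subtype_injective,
      ← Ne, ← Subgroup.nontrivial_iff_ne_bot]
    exact hP.center_nontrivial
  have hZp : ∀ z ∈ Z, z ≠ 1 → p ∣ orderOf z := by
    rintro - ⟨z, -, rfl⟩ hz
    obtain ⟨k, hk⟩ := IsPGroup.iff_orderOf.1 hP z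
    rw [show orderOf (P.subtype z) = orderOf z from Subgroup.orderOf_coe z, hk]
    rcases k with _ | k
    · rw [pow_zero, orderOf_eq_one_iff] at hk
      exact absurd (by rw [hk]; rfl) hz
    · exact dvd_pow_self p k.succ_ne_zero
  obtain ⟨Q₀⟩ : Nonempty (Sylow q M) := inferInstance
  let Q : Subgroup L := (Q₀ : Subgroup M).map M.subtype
  have hQq : IsPGroup q Q := Q₀.isPGroup'.map M.subtype
  have hQ1 : Q ≠ ⊥ := by
    rw [Ne, Subgroup.map_eq_bot_iff_of_injective _ M.subtype_injective]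
    exact Q₀.ne_bot_of_dvd_card hqM
  have hfrat : Subgroup.normalizer (Q : Set L) ⊔ M = ⊤ := Sylow.normalizer_sup_eq_top Q₀
  have hr' : r ∣ Nat.card (Subgroup.normalizer (Q : Set L)) := by
    refine hrM.trans (Subgroup.card_dvd_of_surjective
      ((QuotientGroup.mk' M).comp (Subgroup.normalizer (Q : Set L)).subtype) fun x => ?_)
    obtain ⟨l, rfl⟩ := QuotientGroup.mk'_surjective M x
    have hl : l ∈ Subgroup.normalizer (Q : Set L) ⊔ M := hfrat ▸ Subgroup.mem_top l
    rw [Subgroup.mem_sup_of_normal_right] at hl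
    obtain ⟨a, ha, b, hb, rfl⟩ := hl
    refine ⟨⟨a, ha⟩, QuotientGroup.eq.2 ?_⟩
    simpa using hb
  obtain ⟨y, hy⟩ := exists_prime_orderOf_dvd_card' r hr'
  have hy' : orderOf (y : L) = r := by rw [Subgroup.orderOf_coe, hy]
  let φ : L →* MulAut Z := MulAut.conjNormal
  have hord : ∀ u ∈ Q, u ≠ 1 → q ∣ orderOf u := by
    intro u hu hu1
    obtain ⟨k, hk⟩ := IsPGroup.iff_orderOf.1 hQq ⟨u, hu⟩
    rw [← Subgroup.orderOf_coe] at hk
    rw [hk]
    rcases k with _ | k
    · rw [pow_zero, orderOf_eq_one_iff] at hk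
      exact absurd hk hu1
    · exact dvd_pow_self q k.succ_ne_zero
  have := Fintype.ofFinite Q
  obtain ⟨a, ha⟩ := IsPGroup.iff_card.1 hQq
  have hcopZ : (Nat.card Z).Coprime (Nat.card Q) := by
    have hZP : IsPGroup p Z := (hP.to_subgroup (Subgroup.center P)).map P.subtype
    obtain ⟨b, hb⟩ := IsPGroup.iff_card.1 hZP
    rw [ha, hb]
    exact Nat.Coprime.pow _ _ ((Nat.coprime_primes hp hq).2 hpq)
  have key := Cfsg.Agent.NormTrick.smul_eq φ Q (y : L) r hr.pos
    (fun u hu => (Subgroup.mem_normalizer_iff.1 y.2 u).1 hu)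
    (fun i hi0 hir u hu hc => by
      by_contra hu1
      apply nqr
      refine mixed hq hr hqr (hc : Commute u ((y : L) ^ i)) (hord u hu hu1) ?_
      rw [Nat.Coprime.orderOf_pow (by
        rw [hy']; exact (hr.coprime_iff_not_dvd).2 fun hd => by
          have := Nat.le_of_dvd hi0 hd; omega), hy'])
    (fun v => by
      have hfix : φ (y : L) (∏ i ∈ Finset.range r, φ ((y : L) ^ i) v) =
          ∏ i ∈ Finset.range r, φ ((y : L) ^ i) v := by
        rw [map_prod]
        have e1 := Finset.prod_range_succ (fun i => φ ((y : L) ^ i) v) r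
        rw [Finset.prod_range_succ'] at e1
        have hlast : φ ((y : L) ^ r) v = φ ((y : L) ^ 0) v := by
          rw [← hy', pow_orderOf_eq_one, pow_zero]
        rw [hlast] at e1
        refine Eq.trans (Finset.prod_congr rfl fun i _ => ?_) (mul_right_cancel e1)
        rw [pow_succ', map_mul, MulAut.mul_apply]
      by_contra hne
      apply npr
      set w := ∏ i ∈ Finset.range r, φ ((y : L) ^ i) v
      refine mixed hp hr hpr (u := (w : L)) (v := (y : L)) ?_ (hZp _ w.2 fun h => hne (Subtype.ext h))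
        (by rw [hy'])
      have h := congrArg Subtype.val hfix
      simp only [φ, MulAut.conjNormal_apply] at h
      exact (eq_mul_inv_iff_mul_eq.1 h.symm))
    hcopZ
  obtain ⟨v, hv, hv1⟩ := Z.bot_or_exists_ne_one.resolve_left hZ1
  obtain ⟨u, hu, hu1⟩ := Q.bot_or_exists_ne_one.resolve_left hQ1
  apply npq
  refine mixed hp hq hpq (u := v) (v := u) ?_ (hZp v hv hv1) (hord u hu hu1)
  have h := congrArg Subtype.val (key ⟨u, hu⟩ ⟨v, hv⟩)
  simp only [φ, MulAut.conjNormal_apply] at h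
  exact (eq_mul_inv_iff_mul_eq.1 h.symm)

theorem three_primes {G : Type*} [Group G] [Finite G] (K M : Subgroup G) [K.Normal] [M.Normal]
    (hKM : K ≤ M) (p q r : ℕ) (hp : p.Prime) (hq : q.Prime) (hr : r.Prime) (hpq : p ≠ q) (hpr : p ≠ r)
    (hqr : q ≠ r) (hpK : p ∣ Nat.card K) (hqM : q ∣ Nat.card M / Nat.card K) (hrG : r ∣ M.index) :
    (∃ x : G, orderOf x = p * q) ∨ (∃ x : G, orderOf x = p * r) ∨ (∃ x : G, orderOf x = q * r) := by
  have : Fact p.Prime := ⟨hp⟩
  obtain ⟨P₀⟩ : Nonempty (Sylow p K) := inferInstance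
  let P : Subgroup G := (P₀ : Subgroup K).map K.subtype
  let L := Subgroup.normalizer (P : Set G)
  have hfrat : L ⊔ K = ⊤ := Sylow.normalizer_sup_eq_top P₀
  have hmem : ∀ g : G, ∃ l : L, ∃ k ∈ K, g = l * k := fun g => by
    have hg : g ∈ L ⊔ K := hfrat ▸ Subgroup.mem_top g
    rw [Subgroup.mem_sup_of_normal_right] at hg
    obtain ⟨a, ha, b, hb, h⟩ := hg
    exact ⟨⟨a, ha⟩, b, hb, h.symm⟩
  have hPn : (P.subgroupOf L).Normal := Subgroup.normal_in_normalizer
  have hP1 : P.subgroupOf L ≠ ⊥ := by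
    rw [Ne, Subgroup.subgroupOf_eq_bot, disjoint_iff, inf_eq_left.2 Subgroup.le_normalizer,
      Subgroup.map_eq_bot_iff_of_injective _ K.subtype_injective]
    exact P₀.ne_bot_of_dvd_card hpK
  have hMn : (M.subgroupOf L).Normal := Subgroup.Normal.subgroupOf inferInstance L
  have hqL : q ∣ Nat.card (M.subgroupOf L) := by
    have h1 : Nat.card M / Nat.card K = Nat.card (M ⧸ K.subgroupOf M) := by
      rw [(K.subgroupOf M).card_eq_card_quotient_mul_card_subgroup,
        Nat.card_congr (Subgroup.subgroupOfEquivOfLe hKM).toEquiv, Nat.mul_div_cancel _ Nat.card_pos]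
    rw [h1] at hqM
    refine hqM.trans (Subgroup.card_dvd_of_surjective ((QuotientGroup.mk' (K.subgroupOf M)).comp
      ((L.subtype.comp (M.subgroupOf L).subtype).codRestrict M fun x => x.2)) fun x => ?_)
    obtain ⟨m, rfl⟩ := QuotientGroup.mk'_surjective _ x
    obtain ⟨l, k, hk, hm⟩ := hmem m
    have hl : l ∈ M.subgroupOf L := by
      rw [Subgroup.mem_subgroupOf, show (l : G) = m * k⁻¹ by rw [hm, mul_inv_cancel_right]]
      exact M.mul_mem m.2 (M.inv_mem (hKM hk))
    refine ⟨⟨l, hl⟩, QuotientGroup.eq.2 ?_⟩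
    rw [Subgroup.mem_subgroupOf]
    show (l : G)⁻¹ * (m : G) ∈ K
    rw [hm, inv_mul_cancel_left]
    exact hk
  have hrL : r ∣ (M.subgroupOf L).index := by
    have : M.relIndex L = M.index := by
      rw [← Subgroup.relIndex_sup_left, sup_comm, show L ⊔ M = ⊤ from top_le_iff.1
        (hfrat.ge.trans (sup_le_sup_left hKM L)), Subgroup.relIndex_top_right]
    rw [show (M.subgroupOf L).index = M.index from this]
    exact hrG
  have hres := core p q r hp hq hr hpq hpr hqr (P.subgroupOf L)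
    ((P₀.isPGroup'.map K.subtype).comap_of_injective L.subtype L.subtype_injective) hP1
    (M.subgroupOf L) hqL hrL
  rcases hres with ⟨x, hx⟩ | ⟨x, hx⟩ | ⟨x, hx⟩
  · exact Or.inl ⟨x, by rw [Subgroup.orderOf_coe, hx]⟩
  · exact Or.inr (Or.inl ⟨x, by rw [Subgroup.orderOf_coe, hx]⟩)
  · exact Or.inr (Or.inr ⟨x, by rw [Subgroup.orderOf_coe, hx]⟩)

/-- Let G be a finite group with normal subgroups K ≤ M, and let p, q, r be distinct primes with p dividing the order of K, q dividing the order of M/K and r dividing the order of G/M. Then p, q, r are not pairwise non-adjacent in the prime graph of G: G has an element of order pq, pr or qr. -/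
theorem result {G : Type*} [Group G] [Finite G] (K M : Subgroup G) [K.Normal] [M.Normal] (hKM : K ≤ M)
    (p q r : ℕ) (hp : p.Prime) (hq : q.Prime) (hr : r.Prime) (hpq : p ≠ q) (hpr : p ≠ r) (hqr : q ≠ r)
    (hpK : p ∣ Nat.card ↥K) (hqM : q ∣ Nat.card ↥M / Nat.card ↥K) (hrG : r ∣ Nat.card G / Nat.card ↥M) :
    (∃ x : G, orderOf x = p * q) ∨ (∃ x : G, orderOf x = p * r) ∨ (∃ x : G, orderOf x = q * r) := by
  refine three_primes K M hKM p q r hp hq hr hpq hpr hqr hpK hqM ?_
  rwa [← M.card_mul_index, Nat.mul_div_cancel_left _ Nat.card_pos] at hrG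

end Cfsg.Agent.S3634
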