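import Cfsg.Statements.S3633
import Cfsg.Agent.S3634
import Mathlib.GroupTheory.Solvable

set_option autoImplicit false
open Cfsg

namespace Cfsg.Agent.S3633

open scoped commutatorElement

/-- Two primes of a coclique cannot both divide a normal solvable subgroup when a third exists. -/
theorem aux {G : Type*} [Group G] [Finite G] (ρ : Finset ℕ) (hρ : 3 ≤ ρ.card)
    (hc : (∀ r ∈ ρ, r.Prime ∧ r ∣ Nat.card G) ∧
      (∀ r ∈ ρ, ∀ s ∈ ρ, r ≠ s → ¬ ∃ x : G, orderOf x = r * s)) (n : ℕ) :
    ∀ (K : Subgroup G), K.Normal → Group.IsSolvable K → Nat.card K = n →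
      ∀ r ∈ ρ, ∀ s ∈ ρ, r ∣ Nat.card K → s ∣ Nat.card K → r = s := by
  induction n using Nat.strong_induction_on with
  | _ n ih =>
    intro K hKn hKs hn r hr s hs hrK hsK
    subst hn
    by_contra hne
    have hK1 : K ≠ ⊥ := by
      rintro rfl
      rw [Subgroup.card_bot] at hrK
      exact (hc.1 r hr).1.ne_one (Nat.dvd_one.1 hrK)
    classical
    -- a maximal proper normal subgroup below `K` containing the derived subgroup
    have : Nontrivial K := K.nontrivial_iff_ne_bot.2 hK1
    have hder : commutator K < ⊤ := Group.IsSolvable.commutator_lt_top_of_nontrivial K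
    let D : Subgroup G := (commutator K).map K.subtype
    have hDn : D.Normal := ConjAct.normal_of_characteristic_of_normal
    have := Fintype.ofFinite (Subgroup G)
    have hDlt : D < K := by
      refine lt_of_le_of_ne (Subgroup.map_subtype_le _) fun h => hder.ne ?_
      apply Subgroup.map_injective K.subtype_injective
      exact h.trans (by rw [← MonoidHom.range_eq_map, Subgroup.range_subtype])
    obtain ⟨N, hN, hmax⟩ := Finset.exists_max_image
      ((Finset.univ : Finset (Subgroup G)).filter fun N => N.Normal ∧ D ≤ N ∧ N < K)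
      (fun N => Nat.card N) ⟨D, by simp [hDn, hDlt]⟩
    simp only [Finset.mem_filter, Finset.mem_univ, true_and] at hN hmax
    obtain ⟨hNn, hDN, hNK⟩ := hN
    have hsolN : Group.IsSolvable N := Group.isSolvable_of_isSolvable_injective
      (f := Subgroup.inclusion hNK.le) (Subgroup.inclusion_injective _)
    have hlt : Nat.card N < Nat.card K := lt_of_le_of_ne (Subgroup.card_le_of_le hNK.le)
      fun h => hNK.ne (Subgroup.eq_of_le_of_card_ge hNK.le h.ge)
    have hone := ih _ hlt N hNn hsolN rfl
    -- `K/N` has prime power order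
    have hdiv : ∃ u : ℕ, ∀ v : ℕ, v.Prime → v ∣ Nat.card K → v ∣ Nat.card N ∨ v = u := by
      obtain ⟨u, hu, hud⟩ := Nat.exists_prime_and_dvd (show Nat.card K / Nat.card N ≠ 1 from fun h => by
        have h2 := Nat.div_mul_cancel (Subgroup.card_dvd_of_le hNK.le)
        rw [h, one_mul] at h2
        omega)
      have : Fact u.Prime := ⟨hu⟩
      refine ⟨u, fun v hv hvK => or_iff_not_imp_right.2 fun hvu => ?_⟩
      by_contra hvN
      have hcomm : ∀ a ∈ K, ∀ b ∈ K, a * b * a⁻¹ * b⁻¹ ∈ N := fun a ha b hb =>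
        hDN ⟨⁅(⟨a, ha⟩ : K), ⟨b, hb⟩⁆,
          Subgroup.commutator_mem_commutator (Subgroup.mem_top _) (Subgroup.mem_top _), rfl⟩
      -- the preimage of the `u`-part
      have hx : ∀ e : ℕ, ∀ a ∈ K, ∀ b ∈ K,
          (a * b) ^ e * ((a ^ e * b ^ e))⁻¹ ∈ N := by
        intro e a ha b hb
        let K' := K
        have hq : ((⟨a, ha⟩ : K) : K ⧸ N.subgroupOf K) * (⟨b, hb⟩ : K) =
            ((⟨b, hb⟩ : K) : K ⧸ N.subgroupOf K) * (⟨a, ha⟩ : K) := by
          rw [← QuotientGroup.mk_mul, ← QuotientGroup.mk_mul, QuotientGroup.eq, Subgroup.mem_subgroupOf]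
          simpa [mul_assoc] using hcomm b⁻¹ (K.inv_mem hb) a⁻¹ (K.inv_mem ha)
        have h2 := Commute.mul_pow (show Commute _ _ from hq) e
        rw [← QuotientGroup.mk_mul, ← QuotientGroup.mk_pow, ← QuotientGroup.mk_pow,
          ← QuotientGroup.mk_pow, ← QuotientGroup.mk_mul, QuotientGroup.eq,
          Subgroup.mem_subgroupOf] at h2
        simp only [Subgroup.coe_mul, Subgroup.coe_inv, Subgroup.coe_pow] at h2
        have h3 := hNn.conj_mem _ h2 ((a * b) ^ e)
        rw [← N.inv_mem_iff] at h3
        simpa [mul_assoc] using h3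
      let U : Subgroup G :=
        { carrier := {x | x ∈ K ∧ ∃ e, x ^ (u ^ e) ∈ N}
          one_mem' := ⟨K.one_mem, 0, by simp⟩
          mul_mem' := by
            rintro a b ⟨ha, e, he⟩ ⟨hb, f, hf⟩
            refine ⟨K.mul_mem ha hb, e + f, ?_⟩
            have h1 := hx (u ^ (e + f)) a ha b hb
            have ha' : a ^ u ^ (e + f) ∈ N := by rw [pow_add, pow_mul]; exact N.pow_mem he _
            have hb' : b ^ u ^ (e + f) ∈ N := by
              rw [pow_add, mul_comm, pow_mul]; exact N.pow_mem hf _
            simpa [mul_assoc] using N.mul_mem h1 (N.mul_mem ha' hb')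
          inv_mem' := by
            rintro a ⟨ha, e, he⟩
            exact ⟨K.inv_mem ha, e, by rw [inv_pow]; exact N.inv_mem he⟩ }
      have hUn : U.Normal := ⟨fun x ⟨hxK, e, he⟩ g =>
        ⟨hKn.conj_mem x hxK g, e, by rw [conj_pow]; exact hNn.conj_mem _ he g⟩⟩
      have hNU : N ≤ U := fun x hx => ⟨hNK.le hx, 0, by simpa using hx⟩
      have hUK : U ≤ K := fun x hx => hx.1
      have hcard : Nat.card K / Nat.card N = Nat.card (K ⧸ N.subgroupOf K) := by
        rw [(N.subgroupOf K).card_eq_card_quotient_mul_card_subgroup,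
          Nat.card_congr (Subgroup.subgroupOfEquivOfLe hNK.le).toEquiv,
          Nat.mul_div_cancel _ Nat.card_pos]
      rw [hcard] at hud
      obtain ⟨z, hz⟩ := exists_prime_orderOf_dvd_card' u hud
      obtain ⟨z, rfl⟩ := QuotientGroup.mk_surjective z
      have hzU : (z : G) ∈ U := by
        refine ⟨z.2, 1, ?_⟩
        have h := pow_orderOf_eq_one (z : K ⧸ N.subgroupOf K)
        rw [hz, ← QuotientGroup.mk_pow, QuotientGroup.eq_one_iff, Subgroup.mem_subgroupOf] at h
        simpa using h
      have hzN : (z : G) ∉ N := fun h => by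
        rw [show (z : K ⧸ N.subgroupOf K) = 1 from (QuotientGroup.eq_one_iff z).2 h, orderOf_one] at hz
        exact hu.ne_one hz.symm
      have hUK' : U = K := by
        by_contra hne'
        have hcmp := hmax U ⟨hUn, hDN.trans hNU, lt_of_le_of_ne hUK hne'⟩
        exact hzN ((Subgroup.eq_of_le_of_card_ge hNU hcmp) ▸ hzU)
      have : Fact v.Prime := ⟨hv⟩
      obtain ⟨w, hw⟩ := exists_prime_orderOf_dvd_card' v hvK
      obtain ⟨-, e, he⟩ : (w : G) ∈ U := by rw [hUK']; exact w.2
      have hwN : (w : G) ∈ N := by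
        have hcop : (orderOf (w : G)).Coprime (u ^ e) := by
          rw [Subgroup.orderOf_coe, hw]
          exact ((Nat.coprime_primes hv hu).2 hvu).pow_right e
        obtain ⟨m, hm⟩ := exists_pow_eq_self_of_coprime hcop.symm
        rw [← hm]
        exact N.pow_mem he m
      apply hvN
      have h3 := orderOf_dvd_natCard (⟨(w : G), hwN⟩ : N)
      rwa [Subgroup.orderOf_mk, Subgroup.orderOf_coe, hw] at h3
    obtain ⟨u, hu⟩ := hdiv
    -- one of `r, s` divides `N`, the other is `u`
    have key : ∀ a ∈ ρ, ∀ b ∈ ρ, a ≠ b → a ∣ Nat.card N → b ∣ Nat.card K → False := by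
      intro a ha b hb hab haN hbK
      have hbN : ¬ b ∣ Nat.card N := fun h => hab (hone a ha b hb haN h)
      have hbu := (hu b (hc.1 b hb).1 hbK).resolve_left hbN
      obtain ⟨t, ht, hta, htb⟩ : ∃ t ∈ ρ, t ≠ a ∧ t ≠ b := by
        have hne : ((ρ.erase a).erase b).Nonempty := by
          rw [← Finset.card_pos]
          have := Finset.pred_card_le_card_erase (s := ρ.erase a) (a := b)
          have := Finset.pred_card_le_card_erase (s := ρ) (a := a)
          omega
        obtain ⟨t, ht⟩ := hne
        simp only [Finset.mem_erase] at ht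
        exact ⟨t, ht.2.2, ht.2.1, ht.1⟩
      have htK : ¬ t ∣ Nat.card K := fun h => by
        rcases hu t (hc.1 t ht).1 h with h' | h'
        · exact hta (hone t ht a ha h' haN)
        · exact htb (h'.trans hbu.symm)
      have htidx : t ∣ K.index := by
        have h := (hc.1 t ht).2
        rw [← K.card_mul_index] at h
        exact ((hc.1 t ht).1.dvd_mul.1 h).resolve_left htK
      have hbq : b ∣ Nat.card K / Nat.card N := by
        have h2 := Nat.div_mul_cancel (Subgroup.card_dvd_of_le hNK.le)
        rw [← h2] at hbK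
        exact ((hc.1 b hb).1.dvd_mul.1 hbK).resolve_right hbN
      rcases Cfsg.Agent.S3634.three_primes N K hNK.le a b t (hc.1 a ha).1 (hc.1 b hb).1 (hc.1 t ht).1
        hab hta.symm htb.symm haN hbq htidx with h | h | h
      · exact hc.2 a ha b hb hab h
      · exact hc.2 a ha t ht hta.symm h
      · exact hc.2 b hb t ht htb.symm h
    rcases hu r (hc.1 r hr).1 hrK with h | h
    · exact key r hr s hs hne h hsK
    · rcases hu s (hc.1 s hs).1 hsK with h' | h'
      · exact key s hs r hr (Ne.symm hne) h' hrK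
      · exact hne (h.trans h'.symm)

/-- Let G be a finite group and ρ a set of at least three prime divisors of the order of G that are pairwise non-adjacent in the prime graph (no element of order rs for distinct r, s ∈ ρ). Then at most one prime of ρ divides the order of any given solvable normal subgroup of G; in particular G is not solvable. -/
theorem result {G : Type*} [Group G] [Finite G] (ρ : Finset ℕ) (hρ : 3 ≤ ρ.card) (hc : ((∀ r ∈ ρ, r.Prime ∧ r ∣ Nat.card G) ∧ (∀ r ∈ ρ, ∀ s ∈ ρ, r ≠ s → ¬ ∃ x : G, orderOf x = r * s)))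
    (K : Subgroup G) [K.Normal] (hK : Group.IsSolvable ↥K) :
    (∀ r ∈ ρ, ∀ s ∈ ρ, r ∣ Nat.card ↥K → s ∣ Nat.card ↥K → r = s) ∧ ¬ Group.IsSolvable G := by
  refine ⟨aux ρ hρ hc _ K inferInstance hK rfl, fun hG => ?_⟩
  obtain ⟨r, hr, s, hs, hrs⟩ := Finset.one_lt_card.1 (by omega : 1 < ρ.card)
  have htop : Group.IsSolvable (⊤ : Subgroup G) := Group.isSolvable_of_isSolvable_injective
    (f := (⊤ : Subgroup G).subtype) (Subgroup.subtype_injective _)
  apply hrs
  refine aux ρ hρ hc _ ⊤ inferInstance htop rfl r hr s hs ?_ ?_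
  · rw [Subgroup.card_top]; exact (hc.1 r hr).2
  · rw [Subgroup.card_top]; exact (hc.1 s hs).2

end Cfsg.Agent.S3633
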