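import Cfsg.Statements.S0636
import Cfsg.Agent.Lib.Solvable.Structure
import Cfsg.Agent.Lib.Solvable.Coprime
import Cfsg.Agent.Lib.LocalEven.OmegaOne
import Cfsg.Agent.Lib.PLocal.OmegaOne
import Mathlib.NumberTheory.Multiplicity

set_option autoImplicit false
set_option linter.style.haveILetI false
open Cfsg

namespace Cfsg.Agent.S0636
open scoped Pointwise commutatorElement
open Cfsg.Agent
open Cfsg.Agent
open scoped commutatorElement

theorem exists_step {R : Type*} [Group R] [Finite R] {p : ℕ} [hp : Fact p.Prime]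
    (hR : IsPGroup p R) (M N : Subgroup R) [M.Normal] [N.Normal] (hlt : M < N) :
    ∃ B : Subgroup R, B.Normal ∧ M ≤ B ∧ B ≤ N ∧ Nat.card B = p * Nat.card M := by
  set f := QuotientGroup.mk' M with hf
  haveI := (hR.to_quotient M).isNilpotent
  haveI : (N.map f).Normal := ‹N.Normal›.map _ (QuotientGroup.mk'_surjective M)
  have hne : N.map f ≠ ⊥ := fun h => by
    rw [Subgroup.map_eq_bot_iff, hf, QuotientGroup.ker_mk'] at h
    exact hlt.not_ge h
  have h1 := SolvStruct.inf_center_ne_bot hne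
  haveI := (Subgroup.nontrivial_iff_ne_bot _).2 h1
  obtain ⟨m, hm0, hm⟩ := (IsPGroup.nontrivial_iff_card
    ((hR.to_quotient M).to_subgroup (N.map f ⊓ Subgroup.center _))).1 inferInstance
  obtain ⟨z, hz⟩ := exists_prime_orderOf_dvd_card'
    (G := ↥(N.map f ⊓ Subgroup.center (R ⧸ M))) p (hm ▸ dvd_pow_self p hm0.ne')
  set Z := Subgroup.zpowers (z : R ⧸ M) with hZ
  have hZc : Z ≤ N.map f ⊓ Subgroup.center (R ⧸ M) := Subgroup.zpowers_le.2 z.2
  haveI : Z.Normal := ⟨fun a ha g => by
    rw [Subgroup.mem_center_iff.1 (hZc ha).2 g, mul_inv_cancel_right]; exact ha⟩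
  refine ⟨Z.comap f, inferInstance, fun x hx => ?_, fun x hx => ?_, ?_⟩
  · rw [Subgroup.mem_comap, hf, QuotientGroup.mk'_apply, (QuotientGroup.eq_one_iff x).2 hx]
    exact one_mem _
  · obtain ⟨y, hy, hxy⟩ := (hZc hx).1
    have hmem : y⁻¹ * x ∈ M := QuotientGroup.eq.1 hxy
    rw [show x = y * (y⁻¹ * x) by group]
    exact N.mul_mem hy (hlt.le hmem)
  · have e1 := (Z.comap f).card_mul_index
    rw [Subgroup.index_comap_of_surjective _ (QuotientGroup.mk'_surjective M)] at e1
    have e2 := M.card_eq_card_quotient_mul_card_subgroup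
    have e3 := Z.card_mul_index
    have e4 : Nat.card Z = p := by rw [hZ, Nat.card_zpowers, Subgroup.orderOf_coe, hz]
    refine Nat.eq_of_mul_eq_mul_right (Nat.pos_of_ne_zero (Subgroup.index_ne_zero_of_finite (H := Z))) ?_
    rw [e1, e2, ← e3, e4]
    ring

theorem card_le_of_inf {R : Type*} [Group R] [Finite R] {p : ℕ} [Fact p.Prime] (A : Subgroup R)
    [IsCyclic A] (K : Subgroup R) (hK : ∀ x ∈ K, x ^ p = 1) :
    Nat.card (A ⊓ K : Subgroup R) ≤ p := by
  classical
  haveI := Fintype.ofFinite A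
  have h1 := IsCyclic.card_pow_eq_one_le (α := A) (n := p) (Fact.out : p.Prime).pos
  have h2 : Nat.card (A ⊓ K : Subgroup R) ≤ Nat.card {a : A // a ^ p = 1} :=
    Nat.card_le_card_of_injective
      (fun x : (A ⊓ K : Subgroup R) => (⟨⟨x, x.2.1⟩, Subtype.ext (hK x x.2.2)⟩ : {a : A // a ^ p = 1}))
      (fun x y h => Subtype.ext (congrArg (fun t : {a : A // a ^ p = 1} => ((t : A) : R)) h))
  refine h2.trans ?_
  rw [Nat.card_eq_fintype_card, Fintype.card_subtype]
  exact h1


/-- For odd p, every non-cyclic normal subgroup of a p-group contains a normal elementary abelian subgroup of the whole group of order p². -/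
theorem result {R : Type*} [Group R] [Finite R] {p : ℕ} [Fact p.Prime] (hp : p ≠ 2) (hR : IsPGroup p R) (S : Subgroup R) [S.Normal] (hS : ¬ IsCyclic S) : ∃ A : Subgroup R, A ≤ S ∧ A.Normal ∧ Cfsg.IsElementaryAbelian p A ∧ Nat.card A = p ^ 2 := by
  classical
  obtain ⟨A, ⟨hAn, hAS, hAc⟩, hmax⟩ := Set.exists_max_image
    {A : Subgroup R | A.Normal ∧ A ≤ S ∧ IsMulCommutative A} (fun A => Nat.card A) (Set.toFinite _)
    ⟨⊥, inferInstance, bot_le, inferInstance⟩
  haveI := hAn
  by_cases hcyc : IsCyclic A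
  swap
  · haveI := hAc
    obtain ⟨q, E, hq, hE, hexp⟩ := CoprimeAct.exists_elementary_of_not_isCyclic hcyc
    have hqp : q = p := by
      obtain ⟨k, hk⟩ := IsPGroup.iff_card.1 ((hR.to_subgroup A).to_subgroup E)
      have : q ∣ p ^ k := hk ▸ hE ▸ dvd_pow_self q two_ne_zero
      exact (Nat.prime_dvd_prime_iff_eq hq Fact.out).1 (hq.dvd_of_dvd_pow this)
    subst hqp
    have hcA : ∀ a ∈ A, ∀ b ∈ A, a * b = b * a := fun a ha b hb =>
      congrArg Subtype.val (hAc.is_comm.comm ⟨a, ha⟩ ⟨b, hb⟩)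
    set W := Cfsg.omegaOne q A with hW
    haveI hWn : W.Normal := ⟨fun x hx g => by
      have hle : W.map (MulAut.conj g).toMonoidHom ≤ W := by
        rw [hW, OmegaOne.map _ (MulEquiv.injective _).injOn]
        exact le_of_eq (congrArg _ (Subgroup.normalizer_eq_top_iff.2 hAn ▸
          Subgroup.mem_top g |> Subgroup.mem_normalizer_iff_map_conj_eq.1))
      exact hle ⟨x, hx, rfl⟩⟩
    have hWcard : q ^ 2 ≤ Nat.card W := by
      rw [← hE, ← Subgroup.card_map_of_injective (f := A.subtype) Subtype.coe_injective]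
      refine Nat.le_of_dvd Nat.card_pos (Subgroup.card_dvd_of_le ?_)
      rintro _ ⟨e, he, rfl⟩
      exact OmegaOne.mem e.2 (congrArg Subtype.val (congrArg Subtype.val (hexp ⟨e, he⟩)))
    obtain ⟨B₁, hB₁n, -, hB₁W, hB₁c⟩ := exists_step hR ⊥ W (bot_lt_iff_ne_bot.2 fun h => by
      rw [h, Subgroup.card_bot] at hWcard
      exact absurd hWcard (not_le.2 (Nat.one_lt_pow two_ne_zero hq.one_lt)))
    rw [Subgroup.card_bot, mul_one] at hB₁c
    obtain ⟨B₂, hB₂n, -, hB₂W, hB₂c⟩ := exists_step hR B₁ W (lt_of_le_of_ne hB₁W fun h => by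
      rw [← h, hB₁c] at hWcard
      have := hq.two_le
      nlinarith)
    have hWA : W ≤ A := OmegaOne.le q A
    refine ⟨B₂, (hB₂W.trans hWA).trans hAS, hB₂n, ⟨⟨⟨fun a b =>
      Subtype.ext (hcA a (hWA (hB₂W a.2)) b (hWA (hB₂W b.2)))⟩⟩, fun b hb =>
        OmegaOne.pow_eq_one hcA (hB₂W hb)⟩, ?_⟩
    rw [hB₂c, hB₁c, sq]
  · haveI := hcyc
    have hlt : A < S := lt_of_le_of_ne hAS fun h => hS (h ▸ hcyc)
    set C := S ⊓ Subgroup.centralizer (A : Set R) with hC
    have hAC : A ≤ C := le_inf hAS fun a ha b hb => congrArg Subtype.val (hAc.is_comm.comm ⟨b, hb⟩ ⟨a, ha⟩)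
    haveI hCn : C.Normal := inferInstance
    have hCA : C = A := by
      by_contra hne
      obtain ⟨B, hBn, hAB, hBC, hBc⟩ := exists_step hR A C (lt_of_le_of_ne hAC (Ne.symm hne))
      have hBab : IsMulCommutative B := by
        have hcen : A.subgroupOf B ≤ Subgroup.center B := fun a ha => Subgroup.mem_center_iff.2
          fun b => Subtype.ext ((hBC b.2).2 a ha).symm
        haveI : IsCyclic (B ⧸ A.subgroupOf B) := isCyclic_of_prime_card (p := p) (by
          have h3 := (A.subgroupOf B).card_eq_card_quotient_mul_card_subgroup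
          rw [hBc, Nat.card_congr (Subgroup.subgroupOfEquivOfLe hAB).toEquiv] at h3
          exact (Nat.eq_of_mul_eq_mul_right Nat.card_pos h3).symm)
        exact ⟨⟨commutative_of_cyclic_center_quotient (QuotientGroup.mk' (A.subgroupOf B))
          (by rwa [QuotientGroup.ker_mk'])⟩⟩
      have h5 := hmax B ⟨hBn, hBC.trans inf_le_left, hBab⟩
      simp only [hBc] at h5
      exact absurd h5 (not_le.2 (lt_mul_of_one_lt_left Nat.card_pos (Fact.out : p.Prime).one_lt))
    obtain ⟨B, hBn, hAB, hBS, hBc⟩ := exists_step hR A S hlt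
    obtain ⟨b, hbB, hbA⟩ : ∃ b ∈ B, b ∉ A := by
      by_contra h
      push Not at h
      rw [le_antisymm h hAB] at hBc
      have := (Fact.out : p.Prime).two_le
      have hpos : 0 < Nat.card A := Nat.card_pos
      nlinarith
    have hBp : ∀ x ∈ B, x ^ p ∈ A := by
      intro x hx
      have h1 : (⟨x, hx⟩ : B) ^ (A.subgroupOf B).index ∈ A.subgroupOf B :=
        Subgroup.pow_index_mem _ _
      have h2 : (A.subgroupOf B).index = p := by
        have h3 := (A.subgroupOf B).card_mul_index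
        rw [hBc, Nat.card_congr (Subgroup.subgroupOfEquivOfLe hAB).toEquiv, mul_comm p] at h3
        exact Nat.eq_of_mul_eq_mul_left Nat.card_pos h3
      rw [h2] at h1
      exact h1
    obtain ⟨⟨a, haA⟩, hagen⟩ := IsCyclic.exists_generator (α := A)
    have hgenA : A = Subgroup.zpowers a := by
      refine le_antisymm (fun x hx => ?_) (Subgroup.zpowers_le.2 haA)
      obtain ⟨i, hi⟩ := Subgroup.mem_zpowers_iff.1 (hagen ⟨x, hx⟩)
      exact ⟨i, congrArg Subtype.val hi⟩
    obtain ⟨n, hn⟩ := IsPGroup.iff_orderOf.1 hR a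
    have hconj : b * a * b⁻¹ ∈ Submonoid.powers a :=
      mem_powers_iff_mem_zpowers.2 (hgenA ▸ hAn.conj_mem a haA b)
    obtain ⟨k, hk⟩ := hconj
    simp only at hk
    have hkpow : ∀ i : ℕ, b ^ i * a * (b ^ i)⁻¹ = a ^ (k ^ i) := by
      intro i
      induction i with
      | zero => simp
      | succ i ih =>
        rw [pow_succ', pow_succ', mul_inv_rev,
          show b * b ^ i * a * ((b ^ i)⁻¹ * b⁻¹) = b * (b ^ i * a * (b ^ i)⁻¹) * b⁻¹ by group,
          ih, ← conj_pow, ← hk, ← pow_mul]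
    have hbp : a ^ (k ^ p) = a := by
      rw [← hkpow p, (hAC (hBp b hbB)).2 a haA |>.symm, mul_inv_cancel_right]
    have hbA' : b * a * b⁻¹ ≠ a := by
      intro h
      apply hbA
      rw [← hCA]
      refine ⟨hBS hbB, fun y hy => ?_⟩
      rw [SetLike.mem_coe, hgenA] at hy
      obtain ⟨i, rfl⟩ := hy
      exact (Commute.zpow_left (mul_inv_eq_iff_eq_mul.1 h).symm i).eq
    have hn1 : 1 ≤ n := by
      by_contra h
      interval_cases n
      rw [pow_zero, orderOf_eq_one_iff] at hn
      exact hbA' (by rw [hn]; group)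
    have hmod : k ^ p ≡ 1 [MOD p ^ n] := by
      rw [← hn, ← pow_eq_pow_iff_modEq, hbp, pow_one]
    have hpk : p ∣ k ^ p - 1 := (dvd_pow_self p (Nat.one_le_iff_ne_zero.1 hn1)).trans
      ((Nat.modEq_iff_dvd' (by
        rcases Nat.eq_zero_or_pos (k ^ p) with h | h
        · exfalso
          rw [h] at hmod
          have h6 : p ^ n ∣ 1 := Nat.modEq_zero_iff_dvd.1 hmod.symm
          exact (Nat.one_lt_pow (Nat.one_le_iff_ne_zero.1 hn1) (Fact.out : p.Prime).one_lt).ne'
            (Nat.dvd_one.1 h6)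
        · exact h)).1 hmod.symm)
    have hk1 : 1 ≤ k := by
      rcases Nat.eq_zero_or_pos k with rfl | h
      · exfalso
        rw [zero_pow (Fact.out : p.Prime).ne_zero] at hmod
        exact (Nat.one_lt_pow (Nat.one_le_iff_ne_zero.1 hn1) (Fact.out : p.Prime).one_lt).ne'
          (Nat.dvd_one.1 (Nat.modEq_zero_iff_dvd.1 hmod.symm))
      · exact h
    have hpk1 : p ∣ k - 1 := by
      have h6 : ((k : ZMod p)) ^ p = 1 := by
        have h7 : ((k ^ p : ℕ) : ZMod p) = ((1 : ℕ) : ZMod p) :=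
          ((ZMod.natCast_eq_natCast_iff' _ _ p).2
            ((hmod.of_dvd (dvd_pow_self p (Nat.one_le_iff_ne_zero.1 hn1)))))
        simpa using h7
      rw [ZMod.pow_card] at h6
      exact (Nat.modEq_iff_dvd' hk1).1
        ((ZMod.natCast_eq_natCast_iff k 1 p).1 (by simpa using h6)).symm
    have hdvd : p ^ n ∣ p * (k - 1) := by
      have h6 : p ^ n ∣ k ^ p - 1 ^ p := by
        rw [one_pow]; exact (Nat.modEq_iff_dvd' (Nat.one_le_pow _ _ hk1)).1 hmod.symm
      have hpo : Odd p := (Fact.out : p.Prime).odd_of_ne_two hp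
      have hnk : ¬ p ∣ k := fun h => (Fact.out : p.Prime).not_dvd_one (by
        have := Nat.dvd_sub h hpk1
        rwa [Nat.sub_sub_self hk1] at this)
      rw [pow_dvd_iff_le_emultiplicity] at h6 ⊢
      rw [Nat.emultiplicity_pow_sub_pow (Fact.out : p.Prime) hpo hpk1 hnk p] at h6
      rw [emultiplicity_mul (Nat.prime_iff.1 (Fact.out : p.Prime))]
      rwa [add_comm]
    set z := a ^ (k - 1) with hz
    have hzp : z ^ p = 1 := by
      rw [hz, ← pow_mul, mul_comm, ← orderOf_dvd_iff_pow_eq_one, hn]; exact hdvd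
    have hkz : b * a * b⁻¹ = a * z := by
      rw [hz, ← pow_succ', Nat.sub_add_cancel hk1, hk]
    have hzb : b * z * b⁻¹ = z := by
      have h8 : a ^ ((k - 1) * (k - 1)) = 1 := by
        rw [← orderOf_dvd_iff_pow_eq_one, hn]
        exact hdvd.trans (mul_dvd_mul_right hpk1 _)
      calc b * z * b⁻¹ = (b * a * b⁻¹) ^ (k - 1) := by rw [hz, conj_pow]
        _ = a ^ (k - 1) * z ^ (k - 1) := by
          rw [hkz, (Commute.pow_right (Commute.refl a) (k - 1)).mul_pow]
        _ = z := by rw [hz, ← pow_mul a (k - 1) (k - 1), h8, mul_one]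
    have hgenB : B ≤ A ⊔ Subgroup.zpowers b := by
      intro x hx
      set D := (A ⊔ Subgroup.zpowers b) with hD
      have hDB : D ≤ B := sup_le hAB (Subgroup.zpowers_le.2 hbB)
      have hAD : A < D := lt_of_le_of_ne le_sup_left fun h =>
        hbA (h ▸ Subgroup.mem_sup_right (Subgroup.mem_zpowers b))
      obtain ⟨i, hi⟩ := IsPGroup.iff_card.1 (hR.to_subgroup A)
      obtain ⟨j, hj⟩ := IsPGroup.iff_card.1 (hR.to_subgroup D)
      have h9 : Nat.card A < Nat.card D :=
        Set.ncard_lt_ncard (SetLike.coe_ssubset_coe.2 hAD) (Set.toFinite _)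
      have h10 : p * Nat.card A ≤ Nat.card D := by
        rw [hi, hj] at h9 ⊢
        have hij := (Nat.pow_lt_pow_iff_right (Fact.out : p.Prime).one_lt).1 h9
        calc p * p ^ i = p ^ (i + 1) := (pow_succ' p i).symm
          _ ≤ p ^ j := Nat.pow_le_pow_right (Fact.out : p.Prime).pos hij
      rwa [Subgroup.eq_of_le_of_card_ge hDB (hBc ▸ h10)]
    -- the derived subgroup of B is in ⟨z⟩, which is central in B
    set Z := Subgroup.zpowers z with hZ
    have hzA : z ∈ A := A.pow_mem haA _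
    have hzc : ∀ x ∈ B, x * z = z * x := by
      intro x hx
      have hle : A ⊔ Subgroup.zpowers b ≤ Subgroup.centralizer {z} := by
        refine sup_le (fun y hy => ?_) (Subgroup.zpowers_le.2 ?_)
        · rw [Subgroup.mem_centralizer_singleton_iff]
          exact congrArg Subtype.val (hAc.is_comm.comm ⟨y, hy⟩ ⟨z, hzA⟩)
        · rw [Subgroup.mem_centralizer_singleton_iff]
          exact (mul_inv_eq_iff_eq_mul.1 hzb)
      exact Subgroup.mem_centralizer_singleton_iff.1 (hle (hgenB hx))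
    haveI : (Z.subgroupOf B).Normal := ⟨fun w hw g => by
      have hwZ : (w : R) ∈ Z := hw
      obtain ⟨i, hi⟩ := hwZ
      have hi' : z ^ i = (w : R) := hi
      rw [Subgroup.mem_subgroupOf, Subgroup.coe_mul, Subgroup.coe_mul, ← hi',
        (Commute.zpow_right (hzc g g.2) i).eq, Subgroup.coe_inv, mul_inv_cancel_right]
      exact ⟨i, rfl⟩⟩
    have hder : ∀ x ∈ B, ∀ y ∈ B, ⁅x, y⁆ ∈ Z := by
      set q := QuotientGroup.mk' (Z.subgroupOf B) with hq
      have hab : q ⟨a, hAB haA⟩ * q ⟨b, hbB⟩ = q ⟨b, hbB⟩ * q ⟨a, hAB haA⟩ := by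
        rw [← map_mul, ← map_mul, hq, QuotientGroup.mk'_apply, QuotientGroup.mk'_apply,
          QuotientGroup.eq, Subgroup.mem_subgroupOf]
        show (a * b)⁻¹ * (b * a) ∈ Z
        have : (a * b)⁻¹ * (b * a) = b⁻¹ * z * b := by
          calc (a * b)⁻¹ * (b * a) = b⁻¹ * a⁻¹ * (b * a * b⁻¹) * b := by group
            _ = _ := by rw [hkz]; group
        rw [this, mul_assoc, ← hzc b hbB, inv_mul_cancel_left]
        exact Subgroup.mem_zpowers z
      have hle : ∀ x : B, q x ∈ Subgroup.closure ({q ⟨a, hAB haA⟩, q ⟨b, hbB⟩} : Set _) := by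
        intro x
        set T := (Subgroup.closure ({q ⟨a, hAB haA⟩, q ⟨b, hbB⟩} : Set _)).comap q with hT
        have hsub : A ⊔ Subgroup.zpowers b ≤ T.map B.subtype := by
          refine sup_le ?_ (Subgroup.zpowers_le.2 ?_)
          · rw [hgenA, Subgroup.zpowers_le]
            exact ⟨⟨a, hAB haA⟩, Subgroup.subset_closure (Or.inl rfl), rfl⟩
          · exact ⟨⟨b, hbB⟩, Subgroup.subset_closure (Or.inr rfl), rfl⟩
        obtain ⟨y, hy, hyx⟩ := hsub (hgenB x.2)
        rw [← Subtype.ext hyx]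
        exact hy
      have hC9 : IsMulCommutative (Subgroup.closure ({q ⟨a, hAB haA⟩, q ⟨b, hbB⟩} : Set _)) := by
        refine Subgroup.isMulCommutative_closure ?_
        rintro x (rfl | rfl) y (rfl | rfl)
        · rfl
        · exact hab
        · exact hab.symm
        · rfl
      intro x hx y hy
      have h11 : q ⁅(⟨x, hx⟩ : B), ⟨y, hy⟩⁆ = 1 := by
        rw [map_commutatorElement, commutatorElement_eq_one_iff_mul_comm]
        exact congrArg Subtype.val (hC9.is_comm.comm ⟨_, hle ⟨x, hx⟩⟩ ⟨_, hle ⟨y, hy⟩⟩)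
      exact (QuotientGroup.eq_one_iff (N := Z.subgroupOf B) ⁅(⟨x, hx⟩ : B), ⟨y, hy⟩⁆).1 h11
    have hZp : ∀ w ∈ Z, w ^ p = 1 := by
      rintro _ ⟨i, rfl⟩
      simp only
      rw [← zpow_natCast, ← zpow_mul, mul_comm, zpow_mul, zpow_natCast, hzp, one_zpow]
    have hmul : ∀ x ∈ B, ∀ y ∈ B, (x * y) ^ p = x ^ p * y ^ p := by
      intro x hx y hy
      set w := (x * y)⁻¹ * (y * x) with hw
      have hwZ : w ∈ Z := by
        have : w = ⁅y⁻¹, x⁻¹⁆ := by rw [hw, commutatorElement_def]; group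
        rw [this]; exact hder _ (B.inv_mem hy) _ (B.inv_mem hx)
      obtain ⟨i, hi⟩ := hwZ
      have hi' : z ^ i = w := hi
      have hcw : ∀ u ∈ B, Commute w u := fun u hu => hi' ▸ (Commute.zpow_right (hzc u hu) i).symm
      rw [LEOmega.mul_pow_class_two (z := w) (by rw [hw]; group) (hcw x hx) (hcw y hy)]
      obtain ⟨d, hd⟩ := (Fact.out : p.Prime).dvd_choose_self two_ne_zero
        (lt_of_le_of_ne (Fact.out : p.Prime).two_le (Ne.symm hp))
      rw [hd, pow_mul, hZp w ⟨i, hi⟩, one_pow, mul_one]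
    let φ : B →* R := MonoidHom.mk' (fun x => (x : R) ^ p) fun x y => hmul x x.2 y y.2
    set K := φ.ker.map B.subtype with hK
    have hKm : ∀ x, x ∈ K ↔ x ∈ B ∧ x ^ p = 1 := fun x =>
      ⟨by rintro ⟨y, hy, rfl⟩; exact ⟨y.2, hy⟩, fun h => ⟨⟨x, h.1⟩, h.2, rfl⟩⟩
    have hrange : φ.range < A := by
      refine lt_of_le_of_ne (by rintro _ ⟨x, rfl⟩; exact hBp x x.2) fun h => ?_
      obtain ⟨x, hx⟩ : a ∈ φ.range := by rw [h]; exact haA
      have hx' : (x : R) ^ p = a := hx
      apply hbA'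
      have hcomm : ∀ u ∈ B, Commute u a := by
        intro u hu
        have hle : A ⊔ Subgroup.zpowers (x : R) ≤ Subgroup.centralizer {a} := by
          refine sup_le (fun y hy => ?_) (Subgroup.zpowers_le.2 ?_)
          · rw [Subgroup.mem_centralizer_singleton_iff]
            exact congrArg Subtype.val (hAc.is_comm.comm ⟨y, hy⟩ ⟨a, haA⟩)
          · rw [Subgroup.mem_centralizer_singleton_iff, ← hx']
            exact ((Commute.refl (x : R)).pow_right p).eq
        have hxA : (x : R) ∉ A := by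
          intro hxA
          rw [hgenA] at hxA
          have h12 := orderOf_dvd_of_mem_zpowers hxA
          have h14 : orderOf ((x : R) ^ p) ∣ p ^ (n - 1) := by
            rw [orderOf_dvd_iff_pow_eq_one, ← pow_mul, ← orderOf_dvd_iff_pow_eq_one,
              ← pow_succ', Nat.sub_add_cancel hn1, ← hn]
            exact h12
          rw [hx', hn] at h14
          have := (Nat.pow_dvd_pow_iff_le_right (Fact.out : p.Prime).one_lt).1 h14
          omega
        set D := A ⊔ Subgroup.zpowers (x : R) with hD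
        have hDB : D ≤ B := sup_le hAB (Subgroup.zpowers_le.2 x.2)
        have hAD : A < D := lt_of_le_of_ne le_sup_left fun h =>
          hxA (h ▸ Subgroup.mem_sup_right (Subgroup.mem_zpowers _))
        obtain ⟨i, hi⟩ := IsPGroup.iff_card.1 (hR.to_subgroup A)
        obtain ⟨j, hj⟩ := IsPGroup.iff_card.1 (hR.to_subgroup D)
        have h9 : Nat.card A < Nat.card D :=
          Set.ncard_lt_ncard (SetLike.coe_ssubset_coe.2 hAD) (Set.toFinite _)
        have h10 : p * Nat.card A ≤ Nat.card D := by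
          rw [hi, hj] at h9 ⊢
          have hij := (Nat.pow_lt_pow_iff_right (Fact.out : p.Prime).one_lt).1 h9
          calc p * p ^ i = p ^ (i + 1) := (pow_succ' p i).symm
            _ ≤ p ^ j := Nat.pow_le_pow_right (Fact.out : p.Prime).pos hij
        rw [← Subgroup.eq_of_le_of_card_ge hDB (hBc ▸ h10)] at hu
        exact Subgroup.mem_centralizer_singleton_iff.1 (hle hu)
      rw [(hcomm b hbB).eq, mul_inv_cancel_right]
    have hKcard : Nat.card K = p ^ 2 := by
      have h1 := φ.ker.card_mul_index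
      rw [Subgroup.index_ker, hBc] at h1
      obtain ⟨i, hi⟩ := IsPGroup.iff_card.1 (hR.to_subgroup A)
      obtain ⟨j, hj⟩ := IsPGroup.iff_card.1 (hR.to_subgroup φ.range)
      obtain ⟨l, hl⟩ := IsPGroup.iff_card.1 ((hR.to_subgroup B).to_subgroup φ.ker)
      have hji : j < i := by
        have h2 : Nat.card φ.range < Nat.card A :=
          Set.ncard_lt_ncard (SetLike.coe_ssubset_coe.2 hrange) (Set.toFinite _)
        rw [hi, hj] at h2
        exact (Nat.pow_lt_pow_iff_right (Fact.out : p.Prime).one_lt).1 h2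
      rw [hi, hj, hl, ← pow_succ', ← pow_add] at h1
      have h3 := Nat.pow_right_injective (Fact.out : p.Prime).two_le h1
      have hKl : Nat.card K = p ^ l := by
        rw [hK, Subgroup.card_map_of_injective Subtype.coe_injective, hl]
      have hKle : Nat.card K ≤ p ^ 2 := by
        have h4 := card_le_of_inf A K fun x hx => ((hKm x).1 hx).2
        have h5 := SolvBasic.card_sup_mul_card_inf (N := A) (H := K)
          (le_top.trans (Subgroup.normalizer_eq_top_iff.2 hAn).ge)
        have h6 : Nat.card ↥(A ⊔ K) ≤ p * Nat.card A := hBc ▸ Nat.le_of_dvd Nat.card_pos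
          (Subgroup.card_dvd_of_le (sup_le hAB (Subgroup.map_subtype_le _)))
        refine Nat.le_of_mul_le_mul_left (h5.ge.trans ((Nat.mul_le_mul h6 h4).trans
          (le_of_eq ?_))) (Nat.card_pos (α := A))
        ring
      rw [hKl] at hKle ⊢
      have := (Nat.pow_le_pow_iff_right (Fact.out : p.Prime).one_lt).1 hKle
      rw [show l = 2 by omega]
    refine ⟨K, (Subgroup.map_subtype_le _).trans hBS, ⟨fun x hx g => ?_⟩,
      ⟨⟨⟨IsPGroup.commutative_of_card_eq_prime_sq hKcard⟩⟩, fun x hx => ((hKm x).1 hx).2⟩, hKcard⟩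
    obtain ⟨hxB, hxp⟩ := (hKm x).1 hx
    exact (hKm _).2 ⟨hBn.conj_mem x hxB g, by rw [conj_pow, hxp, mul_one, mul_inv_cancel]⟩


end Cfsg.Agent.S0636
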