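import Cfsg.Statements.S1463
import Cfsg.Agent.Lib.OddOrder.SL2Odd
import Mathlib.FieldTheory.IsAlgClosed.AlgebraicClosure

set_option autoImplicit false
open scoped MatrixGroups
open Cfsg

namespace Cfsg.Agent.S1463

/-- Let F be a field of odd characteristic p and H a finite subgroup of odd order of GL(2, F) that leaves no 1-dimensional subspace of F² invariant. Then p does not divide the order of H. -/
theorem result {F : Type*} [Field F] (p : ℕ) [Fact p.Prime] [CharP F p] (hp : p ≠ 2)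
    (H : Subgroup (GL (Fin 2) F)) [Finite H] (hodd : Odd (Nat.card H))
    (hirr : ∀ v : Fin 2 → F, v ≠ 0 → ∃ g ∈ H, (g : Matrix (Fin 2) (Fin 2) F).mulVec v ∉ Submodule.span F {v}) :
    ¬ p ∣ Nat.card H := by
  intro hdvd
  have hp' : p.Prime := Fact.out
  obtain ⟨⟨z, hzH⟩, hz⟩ := exists_prime_orderOf_dvd_card' p hdvd
  rw [Subgroup.orderOf_mk] at hz
  have hzp : z ^ p = 1 := hz ▸ pow_orderOf_eq_one z
  have hdet : (z : Matrix (Fin 2) (Fin 2) F).det = 1 := by
    have h : (z : Matrix (Fin 2) (Fin 2) F).det ^ p = 1 := by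
      rw [← Matrix.det_pow, ← Units.val_pow_eq_pow_val, hzp, Units.val_one, Matrix.det_one]
    haveI : ExpChar F p := ExpChar.prime hp'
    exact frobenius_inj F p (by simpa [frobenius_def] using h)
  set z₁ : Matrix.SpecialLinearGroup (Fin 2) F := ⟨(z : Matrix (Fin 2) (Fin 2) F), hdet⟩ with hz₁
  have hz1 : (z : Matrix (Fin 2) (Fin 2) F) ≠ 1 := fun h => hp'.ne_one (by
    rw [← hz, orderOf_eq_one_iff]; exact Units.ext h)
  obtain ⟨v, hv, hzv⟩ : ∃ v : Fin 2 → F, v ≠ 0 ∧ (z : Matrix (Fin 2) (Fin 2) F).mulVec v = v := by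
    have h0 : ((z : Matrix (Fin 2) (Fin 2) F) - 1).det = 0 := by
      have h : ((z : Matrix (Fin 2) (Fin 2) F) - 1) ^ p = 0 := by
        rw [sub_pow_char_of_commute p (Commute.one_right _), one_pow, ← Units.val_pow_eq_pow_val, hzp,
          Units.val_one, sub_self]
      have := congrArg Matrix.det h
      rw [Matrix.det_pow, Matrix.det_zero] at this
      exact pow_eq_zero_iff hp'.ne_zero |>.1 this
    obtain ⟨v, hv, h⟩ := Matrix.exists_mulVec_eq_zero_iff.2 h0
    exact ⟨v, hv, by rwa [Matrix.sub_mulVec, Matrix.one_mulVec, sub_eq_zero] at h⟩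
  obtain ⟨h, hhH, hh⟩ := hirr v hv
  apply hh
  set K := AlgebraicClosure F
  set ι : Matrix.SpecialLinearGroup (Fin 2) F →* Matrix.SpecialLinearGroup (Fin 2) K :=
    Matrix.SpecialLinearGroup.map (algebraMap F K) with hι
  set H₁ : Subgroup (Matrix.SpecialLinearGroup (Fin 2) F) := H.comap Matrix.SpecialLinearGroup.toGL with hH₁
  haveI : Finite H₁ := Finite.of_injective (fun g : H₁ => (⟨Matrix.SpecialLinearGroup.toGL g.1, g.2⟩ : H))
    (fun a b hab => Subtype.ext (Matrix.SpecialLinearGroup.toGL_injective (congrArg Subtype.val hab)))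
  have hcard : Nat.card H₁ ∣ Nat.card H :=
    Subgroup.card_dvd_of_injective
      ((Matrix.SpecialLinearGroup.toGL.comp H₁.subtype).codRestrict H fun g => g.2)
      (fun a b hab => Subtype.ext (Matrix.SpecialLinearGroup.toGL_injective (congrArg Subtype.val hab)))
  set S := H₁.map ι with hS
  haveI : Finite S := Finite.of_surjective (fun g : H₁ => (⟨ι g.1, g.1, g.2, rfl⟩ : S))
    (by rintro ⟨_, g, hg, rfl⟩; exact ⟨⟨g, hg⟩, rfl⟩)
  have hSodd : Odd (Nat.card S) := (hodd.of_dvd_nat ((Subgroup.card_map_dvd _ _).trans hcard))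
  haveI : CharP K p := charP_of_injective_algebraMap (algebraMap F K).injective p
  have hιinj : Function.Injective ι := fun a b hab => by
    apply Subtype.ext
    ext i j
    exact (algebraMap F K).injective (congrFun (congrFun (congrArg Subtype.val hab) i) j)
  have hmem : ∀ g : Matrix.SpecialLinearGroup (Fin 2) F, g ∈ H₁ → ι g ∈ S := fun g hg => ⟨g, hg, rfl⟩
  have hz₁H : z₁ ∈ H₁ := by
    show Matrix.SpecialLinearGroup.toGL z₁ ∈ H
    convert hzH
    exact Units.ext rfl
  have hz₁o : orderOf z₁ = p := by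
    rw [← orderOf_injective _ Matrix.SpecialLinearGroup.toGL_injective, ← hz]
    congr 1
    exact Units.ext rfl
  have hdvdS : p ∣ Nat.card S := by
    rw [← hz₁o, ← orderOf_injective _ hιinj]
    exact Subgroup.orderOf_dvd_natCard S (hmem _ hz₁H)
  obtain ⟨x, hx⟩ := Cfsg.Agent.OddOrder.SL2Odd.exists_fixed_point hSodd hp hdvdS
  -- vectors over the two fields
  set vK : Fin 2 → K := fun i => algebraMap F K (v i) with hvK
  have hvK0 : vK ≠ 0 := fun h0 => hv (funext fun i => (algebraMap F K).injective (by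
    simpa [hvK] using congrFun h0 i))
  have hmv : ∀ (g : Matrix.SpecialLinearGroup (Fin 2) F) (u : Fin 2 → F),
      ((ι g : Matrix.SpecialLinearGroup (Fin 2) K) : Matrix (Fin 2) (Fin 2) K).mulVec (fun i => algebraMap F K (u i)) =
        fun i => algebraMap F K ((g : Matrix (Fin 2) (Fin 2) F).mulVec u i) := by
    intro g u
    funext i
    exact (RingHom.map_mulVec (algebraMap F K) (g : Matrix (Fin 2) (Fin 2) F) u i).symm
  -- the fixed point is the line of `v`
  have hxv : x = Projectivization.mk K vK hvK0 := by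
    have hg1 : (⟨ι z₁, hmem _ hz₁H⟩ : S) ≠ 1 := fun e => hp'.ne_one (by
      rw [← hz₁o, orderOf_eq_one_iff]
      exact hιinj ((congrArg Subtype.val e).trans (map_one ι).symm))
    obtain ⟨w, hw⟩ := (Cfsg.Agent.OddOrder.SL2Odd.card_fixed hSodd hp (p := p) hg1).1 (by
      apply Subtype.ext
      rw [SubmonoidClass.coe_pow, OneMemClass.coe_one]
      show ι z₁ ^ p = 1
      rw [← map_pow, ← hz₁o, pow_orderOf_eq_one, map_one])
    have e1 : x = w := (hw.le (hx _) : _)
    have e2 : Projectivization.mk K vK hvK0 = w := by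
      refine (hw.le ?_ : _)
      refine (Cfsg.Agent.OddOrder.SL2Odd.smul_eq_iff (ι z₁) hvK0).2 ⟨1, ?_⟩
      show _ = (1 : K) • vK
      rw [one_smul, hmv]
      funext i
      show algebraMap F K ((z : Matrix (Fin 2) (Fin 2) F).mulVec v i) = _
      rw [hzv]
    exact e1.trans e2.symm
  -- conjugate of `z`
  have hdet' : ((h * z * h⁻¹ : GL (Fin 2) F) : Matrix (Fin 2) (Fin 2) F).det = 1 := by
    rw [Units.val_mul, Units.val_mul, Matrix.det_mul, Matrix.det_mul, hdet, mul_one, ← Matrix.det_mul,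
      ← Units.val_mul, mul_inv_cancel, Units.val_one, Matrix.det_one]
  set z₂ : Matrix.SpecialLinearGroup (Fin 2) F := ⟨_, hdet'⟩ with hz₂
  have hz₂GL : Matrix.SpecialLinearGroup.toGL z₂ = h * z * h⁻¹ := Units.ext rfl
  have hz₂H : z₂ ∈ H₁ := by
    show Matrix.SpecialLinearGroup.toGL z₂ ∈ H
    rw [hz₂GL]
    exact mul_mem (mul_mem hhH hzH) (inv_mem hhH)
  have hz₂p : (⟨ι z₂, hmem _ hz₂H⟩ : S) ^ p = 1 := by
    apply Subtype.ext
    rw [SubmonoidClass.coe_pow, OneMemClass.coe_one]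
    show ι z₂ ^ p = 1
    rw [← map_pow, show z₂ ^ p = 1 from Matrix.SpecialLinearGroup.toGL_injective (by
      rw [map_pow, hz₂GL, conj_pow, hzp, mul_one, mul_inv_cancel, map_one]), map_one]
  obtain ⟨a, ha⟩ := (Cfsg.Agent.OddOrder.SL2Odd.smul_eq_iff (ι z₂) hvK0).1
    (hxv ▸ hx ⟨ι z₂, hmem _ hz₂H⟩)
  obtain rfl := (Cfsg.Agent.OddOrder.SL2Odd.pow_p_of_eig hSodd hp (g := ⟨ι z₂, hmem _ hz₂H⟩) hvK0 ha).2.1 hz₂p
  have ha' : Cfsg.Agent.OddOrder.SL2Odd.Eig z₂ v 1 := by
    show _ = (1 : F) • v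
    rw [one_smul]
    funext i
    refine (algebraMap F K).injective ?_
    have := congrFun ((hmv z₂ v).symm.trans (show _ = (1 : K) • vK from ha)) i
    rw [one_smul] at this
    exact this
  have hhv : Cfsg.Agent.OddOrder.SL2Odd.Eig z₂ ((h : Matrix (Fin 2) (Fin 2) F).mulVec v) 1 := by
    show ((h * z * h⁻¹ : GL (Fin 2) F) : Matrix (Fin 2) (Fin 2) F).mulVec _ = (1 : F) • _
    rw [one_smul, Matrix.mulVec_mulVec, ← Units.val_mul, inv_mul_cancel_right, Units.val_mul,
      ← Matrix.mulVec_mulVec, hzv]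
  have hhv0 : (h : Matrix (Fin 2) (Fin 2) F).mulVec v ≠ 0 := by
    intro h0
    have := congrArg ((h⁻¹ : GL (Fin 2) F) : Matrix (Fin 2) (Fin 2) F).mulVec h0
    rw [Matrix.mulVec_mulVec, ← Units.val_mul, inv_mul_cancel, Units.val_one, Matrix.one_mulVec,
      Matrix.mulVec_zero] at this
    exact hv this
  have hne : (z₂ : Matrix (Fin 2) (Fin 2) F) ≠ (1 : F) • 1 := by
    rw [one_smul]
    intro e
    have e' : h * z * h⁻¹ = 1 := hz₂GL ▸ Units.ext e
    rw [mul_inv_eq_one, mul_eq_left] at e'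
    exact hz1 (by rw [e', Units.val_one])
  obtain ⟨c, hc⟩ := (Projectivization.mk_eq_mk_iff' F _ _ hhv0 hv).1
    (Cfsg.Agent.OddOrder.SL2Odd.eig_unique hhv0 hv hhv ha' hne)
  exact Submodule.mem_span_singleton.2 ⟨c, hc⟩

end Cfsg.Agent.S1463
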