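import Cfsg.Statements.S3771
import Cfsg.Agent.Lib.OddOrder.Nilpotent
import Cfsg.Agent.Lib.Solvable.Structure
import Mathlib

set_option autoImplicit false
open Cfsg

namespace Cfsg.Agent.S3771

open Subgroup

/-- Let p be a prime and R a finite p-group of p-rank at most 2 (no elementary abelian subgroup of order p³) in which every element has order dividing p. Then R has order at most p³. -/
theorem result {R : Type*} [Group R] [Finite R] {p : ℕ} [Fact p.Prime] (hR : IsPGroup p R) (hrank : Cfsg.PRankLE p 2 R) (hexp : ∀ x : R, x ^ p = 1) : Nat.card R ≤ p ^ 3 := by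
  classical
  have hp : p.Prime := Fact.out
  haveI := hR.isNilpotent
  obtain ⟨A, hAn, hAc, hC⟩ := Cfsg.Agent.OddOrder.Nilp.exists_normal_abelian_self_centralizing (G := R)
  have hA2 : Nat.card A ≤ p ^ 2 := hrank A hAc fun a _ => hexp a
  have hle3 : p ^ 2 ≤ p ^ 3 := Nat.pow_le_pow_right hp.pos (by omega)
  by_cases hAZ : A ≤ center R
  · have htop : A = ⊤ := by
      rw [← hC, eq_top_iff]
      exact fun x _ => mem_centralizer_iff.2 fun a ha => (mem_center_iff.1 (hAZ ha) x).symm
    rw [htop, card_top] at hA2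
    omega
  obtain ⟨a, ha, haZ⟩ := SetLike.not_le_iff_exists.1 hAZ
  set C := centralizer ({a} : Set R) with hCdef
  -- the class of `a` lies in `A \ {1}`
  have hcls : C.index < p ^ 2 := by
    have h1 : C.index = Nat.card (MulAction.orbit (ConjAct R) a) := by
      have h2 : Nat.card (MulAction.orbit (ConjAct R) a) = (MulAction.stabilizer (ConjAct R) a).index := by
        rw [MulAction.index_stabilizer]; exact (Nat.card_coe_set_eq _)
      rw [h2, ConjAct.stabilizer_eq_centralizer]
      rfl
    rw [h1]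
    refine lt_of_lt_of_le ?_ hA2
    let φ : MulAction.orbit (ConjAct R) a → A := fun y => ⟨y, by
      obtain ⟨g, hg⟩ := y.2
      rw [← hg]
      show ConjAct.ofConjAct g * a * (ConjAct.ofConjAct g)⁻¹ ∈ A
      exact hAn.conj_mem a ha _⟩
    haveI := Fintype.ofFinite (MulAction.orbit (ConjAct R) a)
    haveI := Fintype.ofFinite A
    rw [Nat.card_eq_fintype_card, Nat.card_eq_fintype_card]
    refine Fintype.card_lt_of_injective_of_notMem φ (fun x y h => Subtype.ext (congrArg Subtype.val h :))
      (b := 1) ?_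
    rintro ⟨y, hy⟩
    have hy1 : (y : R) = 1 := congrArg Subtype.val hy
    obtain ⟨g, hg⟩ := y.2
    rw [hy1] at hg
    have hg' : ConjAct.ofConjAct g * a * (ConjAct.ofConjAct g)⁻¹ = 1 := hg
    rw [mul_inv_eq_one, mul_eq_left] at hg'
    exact haZ (hg' ▸ one_mem _)
  have hidx : C.index ≤ p := by
    obtain ⟨k, hk⟩ := hR.index C
    rw [hk] at hcls ⊢
    rcases k with _ | _ | k
    · simpa using hp.one_lt.le
    · simp
    · exact absurd hcls (not_lt.2 (Nat.pow_le_pow_right hp.pos (by omega)))
  -- the centraliser of `a` centralises `A`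
  have hCA : C ≤ A := by
    intro c hc
    rw [← hC]
    set D := A ⊓ centralizer ({c} : Set R) with hD
    have haD : a ∈ D := ⟨ha, mem_centralizer_singleton_iff.2 (mem_centralizer_singleton_iff.1 hc).symm⟩
    have hlt : A ⊓ center R < D := by
      refine lt_of_le_of_ne (fun x hx => ⟨hx.1, mem_centralizer_singleton_iff.2
        (mem_center_iff.1 hx.2 c).symm⟩) fun h => haZ (h ▸ haD : a ∈ A ⊓ center R).2
    have hAb : A ≠ ⊥ := fun h => haZ (by rw [h, mem_bot] at ha; rw [ha]; exact one_mem _)
    have hne : A ⊓ center R ≠ ⊥ := Cfsg.Agent.SolvStruct.inf_center_ne_bot hAb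
    have e : ∀ K L : Subgroup R, K < L → p * Nat.card K ≤ Nat.card L := by
      intro K L h
      obtain ⟨i, hi⟩ := IsPGroup.iff_card.1 (hR.to_subgroup K)
      obtain ⟨j, hj⟩ := IsPGroup.iff_card.1 (hR.to_subgroup L)
      have hij : i < j := by
        refine (Nat.pow_lt_pow_iff_right hp.one_lt).1 ?_
        rw [← hi, ← hj]
        exact lt_of_le_of_ne (card_le_of_le h.le) fun he => h.ne (eq_of_le_of_card_ge h.le he.ge)
      rw [hi, hj, ← pow_succ']
      exact Nat.pow_le_pow_right hp.pos hij
    have h2 := e _ _ hlt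
    have h3 := e ⊥ _ (bot_lt_iff_ne_bot.2 hne)
    rw [card_bot, mul_one] at h3
    have hDA : D = A := eq_of_le_of_card_ge inf_le_left (by nlinarith)
    exact mem_centralizer_iff.2 fun x hx => mem_centralizer_singleton_iff.1 (hDA ▸ hx : x ∈ D).2
  calc Nat.card R = Nat.card C * C.index := (card_mul_index C).symm
    _ ≤ p ^ 2 * p := Nat.mul_le_mul ((card_le_of_le hCA).trans hA2) hidx
    _ = p ^ 3 := by ring

end Cfsg.Agent.S3771
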