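import Cfsg.Statements.S5236
import Cfsg.Agent.Lib.Fusion.Normal
import Cfsg.Agent.Lib.PLocal.OmegaOne

set_option autoImplicit false
open Cfsg

namespace Cfsg.Agent.S5236

open Cfsg.Agent.FusionSys

/-- Let p be an odd prime, F a saturated fusion system over a finite p-group S and P a subgroup of S strongly closed in F. Then P is normal in F if and only if Ω₁(P) (the subgroup generated by the elements of order p of P) has a chain of subgroups 1 = Q₀ ≤ Q₁ ≤ ⋯ ≤ Qₙ = Ω₁(P), each strongly closed in F, with [Qᵢ₊₁, P] ≤ Qᵢ for all i. -/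
theorem result {Ω : Type*} [Group Ω] {S : Subgroup Ω} [Finite S] (p : ℕ) [Fact p.Prime] (hS : IsPGroup p S) (F : Cfsg.FusionSystem S) (hF : F.IsSaturated p) (hp : p ≠ 2) (P : Subgroup Ω) (hP : F.StronglyClosed P) : F.IsNormal P ↔ ∃ (n : ℕ) (Q : Fin (n + 1) → Subgroup Ω), Q 0 = ⊥ ∧ Q (Fin.last n) = Cfsg.omegaOne p P ∧ Monotone Q ∧ (∀ i : Fin (n + 1), F.StronglyClosed (Q i)) ∧ ∀ i : Fin n, ⁅Q i.succ, P⁆ ≤ Q i.castSucc := by
  have hOle : Cfsg.omegaOne p P ≤ P := Cfsg.Agent.OmegaOne.le p P
  constructor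
  · intro h
    obtain ⟨n, C, h0, hl, hm, hc, hsc⟩ := isNormal_exists_series hS h
    have hOsc : F.StronglyClosed (Cfsg.omegaOne p P) := by
      refine ⟨hOle.trans hP.1, fun R hR φ hφ x => ?_⟩
      obtain ⟨α, -, he⟩ := exists_aut_of_isNormal h (hR.trans hOle) hφ
      rw [← he x]
      have hle : Cfsg.omegaOne p P ≤ ((Cfsg.omegaOne p P).comap (P.subtype.comp α.toMonoidHom)).map P.subtype := by
        refine (Subgroup.closure_le _).2 fun y hy => ⟨⟨y, hy.1⟩, ?_, rfl⟩
        refine Cfsg.Agent.OmegaOne.mem (α _).2 ?_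
        show ((α ⟨y, hy.1⟩ : P) : Ω) ^ p = 1
        rw [← SubmonoidClass.coe_pow, ← map_pow, show (⟨y, hy.1⟩ : P) ^ p = 1 from Subtype.ext hy.2, map_one]
        rfl
      obtain ⟨z, hz, hzx⟩ := hle (hR x.2)
      rw [show Subgroup.inclusion (hR.trans hOle) x = z from Subtype.ext hzx.symm]
      exact hz
    have hOn : P ≤ Subgroup.normalizer (Cfsg.omegaOne p P : Set Ω) :=
      hP.1.trans (stronglyClosed_le_normalizer hOsc)
    refine ⟨n, fun i => Cfsg.omegaOne p P ⊓ C i, by simp [h0], by simp only [hl]; exact inf_eq_left.2 hOle,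
      fun a b hab => inf_le_inf le_rfl (hm hab), fun i => stronglyClosed_inf hOsc (hsc i), fun i => le_inf ?_ ?_⟩
    · refine (Subgroup.commutator_mono inf_le_left le_rfl).trans ?_
      rw [Subgroup.commutator_le]
      intro a ha b hb
      rw [commutatorElement_def, show a * b * a⁻¹ * b⁻¹ = a * (b * a⁻¹ * b⁻¹) by group]
      exact Subgroup.mul_mem _ ha ((Subgroup.mem_normalizer_iff.1 (hOn hb) _).1 (Subgroup.inv_mem _ ha))
    · exact (Subgroup.commutator_mono inf_le_right le_rfl).trans (hc i)
  · rintro ⟨n, Q, h0, hl, hm, hsc, hcomm⟩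
    refine isNormal_of_le_centricRadical hS hF hP fun R hc hr => ?_
    have hR := hc.1
    have := finite_of_le hR
    have hRp := hS.to_le hR
    have hPn := stronglyClosed_le_normalizer hP
    refine le_of_normalizer_le hS hR hP.1 hPn fun x hx hxN => ?_
    refine mem_of_stabilizer hS hc hr (ι := Unit ⊕ Fin n) (Sum.elim (fun _ => ⊤) fun j => Q j.succ)
      (Sum.elim (fun _ => P) fun j => Q j.castSucc) ?_ ?_ ?_ (hP.1 hx) hxN ?_
    · rintro (_ | j) α hα y hy
      · exact Subgroup.mem_top _
      · exact stronglyClosed_autGroup_mem (hsc _) hR hα y hy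
    · rintro (_ | j) α hα y hy
      · exact stronglyClosed_autGroup_mem hP hR hα y hy
      · exact stronglyClosed_autGroup_mem (hsc _) hR hα y hy
    · intro α hα hco hst
      have hfix : ∀ j : Fin (n + 1), ∀ y : R, (y : Ω) ∈ Q j → α y = y := by
        intro j
        induction j using Fin.induction with
        | zero =>
          intro y hy
          rw [h0, Subgroup.mem_bot] at hy
          rw [show y = 1 from Subtype.ext hy, map_one]
        | succ j ih => exact fun y hy => fix_of_step hRp hco (ih _ (by simpa using hst (Sum.inr j) y hy))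
      have hPfix : ∀ y : R, (y : Ω) ∈ P → α y = y := fix_of_omega hp hRp hco (P.subgroupOf R)
        (fun y hy => stronglyClosed_autGroup_mem hP hR hα y hy) fun y hy hyp => hfix (Fin.last n) y (by
          rw [hl]
          exact Cfsg.Agent.OmegaOne.mem hy (congrArg Subtype.val hyp))
      exact MulEquiv.ext fun y => fix_of_step hRp hco
        (hPfix _ (by simpa using hst (Sum.inl ()) y (Subgroup.mem_top _)))
    · rintro (_ | j) y hyR hy
      · exact conj_commutator_mem hPn (hR hyR) hx
      · exact commutator_conj_mem (hcomm j) hy hx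

end Cfsg.Agent.S5236
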