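import Cfsg.Statements.S1395
import Cfsg.Agent.Lib.OddOrder.TransHyp

set_option autoImplicit false
open Cfsg

namespace Cfsg.Agent.S1395

open scoped commutatorElement Pointwise
open OddOrder OddOrder.MinSimple

theorem centralizer_normalized {G : Type*} [Group G] (H : Subgroup G) :
    Subgroup.normalizer (H : Set G) ≤ Subgroup.normalizer (Subgroup.centralizer (H : Set G) : Set G) := by
  intro g hg
  have key : ∀ g ∈ Subgroup.normalizer (H : Set G), ∀ c ∈ Subgroup.centralizer (H : Set G),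
      g * c * g⁻¹ ∈ Subgroup.centralizer (H : Set G) := fun g hg c hc =>
    Subgroup.mem_centralizer_iff.2 fun h hh => by
      have h' := Subgroup.mem_centralizer_iff.1 hc _ ((Subgroup.mem_normalizer_iff''.1 hg h).1 hh)
      calc h * (g * c * g⁻¹) = g * ((g⁻¹ * h * g) * c) * g⁻¹ := by group
        _ = g * (c * (g⁻¹ * h * g)) * g⁻¹ := by rw [h']
        _ = _ := by group
  refine Subgroup.mem_normalizer_iff.2 fun c => ⟨key g hg c, fun h => ?_⟩
  simpa [mul_assoc] using key g⁻¹ (inv_mem hg) _ h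

/-- The property carried along a subnormal chain. -/
def Good {G : Type*} [Group G] (A : Subgroup G) (q : ℕ) (X : Subgroup G) : Prop :=
  (∀ Q₁ ∈ Cfsg.maxInvSubgroups ⊤ X {q}, ∀ Q₂ ∈ Cfsg.maxInvSubgroups ⊤ X {q},
    ∃ k ∈ Cfsg.piCoreOf (Cfsg.primesNotDvd (Nat.card A)) (Subgroup.centralizer (X : Set G)),
      Q₂ = Q₁.map (MulAut.conj k).toMonoidHom) ∧
  Cfsg.maxInvSubgroups ⊤ X {q} ⊆ Cfsg.maxInvSubgroups ⊤ A {q}

variable {G : Type*} [Group G] [Finite G] {A : Subgroup G} {q : ℕ} [hq : Fact q.Prime]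

omit hq in
theorem core_eq (hG : Cfsg.IsMinSimpleOddOrder G) (hA : Cfsg.TransitivityHypothesis A) {X : Subgroup G}
    (hAX : A ≤ X) :
    Cfsg.piCoreOf (Cfsg.primesNotDvd (Nat.card A)) (Subgroup.centralizer (A : Set G)) ⊓
        Subgroup.centralizer (X : Set G) =
      Cfsg.piCoreOf (Cfsg.primesNotDvd (Nat.card A)) (Subgroup.centralizer (X : Set G)) :=
  le_antisymm
    (le_piCoreOf inf_le_right ((le_inf ((Subgroup.centralizer_le hAX).trans
      (Subgroup.le_normalizer.trans (normalizer_le (X := Subgroup.centralizer (A : Set G)))))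
      Subgroup.le_normalizer).trans Subgroup.inf_normalizer_le_normalizer_inf)
      (isPi_of_dvd (Subgroup.card_dvd_of_le inf_le_left) isPi_piCoreOf))
    (le_inf (TransHyp.le_K hG hA (piCoreOf_le.trans (Subgroup.centralizer_le hAX)) isPi_piCoreOf)
      piCoreOf_le)

theorem good_step (hG : Cfsg.IsMinSimpleOddOrder G) (hA : Cfsg.TransitivityHypothesis A)
    (hqA : ¬ q ∣ Nat.card A) {H X : Subgroup G} (hX : X ≠ ⊤) (hAH : A ≤ H) (hHX : H ≤ X)
    (hXπ : ∀ r : ℕ, r.Prime → r ∣ Nat.card X → r ∣ Nat.card A)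
    (hn : X ≤ Subgroup.normalizer (H : Set G)) (hgood : Good A q H) : Good A q X := by
  set π := Cfsg.primesNotDvd (Nat.card A) with hπ
  have hsX : Group.IsSolvable X := MinSimple.isSolvable hG hX
  have hcop : ∀ {L : Subgroup G}, IsPi π (Nat.card L) → (Nat.card X).Coprime (Nat.card L) :=
    fun {L} hL => Nat.coprime_of_dvd fun r hr hrX hrL => (hL r hr hrL).2 (hXπ r hr hrX)
  set K := Cfsg.piCoreOf π (Subgroup.centralizer (H : Set G)) with hK
  have hXK : X ≤ Subgroup.normalizer (K : Set G) :=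
    hn.trans ((centralizer_normalized H).trans normalizer_le)
  letI : MulAction G (Subgroup G) := MulAction.compHom (Subgroup G) MulAut.conj
  have hsmul : ∀ (g : G) (S : Subgroup G), g • S = S.map (MulAut.conj g).toMonoidHom := fun _ _ => rfl
  obtain ⟨Q₀, hQ₀, -⟩ := Inv.exists_max (H := ⊤) (A := H) (π := {q})
    (Inv.mem_inv_iff.2 ⟨(IsPGroup.of_bot : IsPGroup q (⊥ : Subgroup G)),
      Subgroup.le_normalizer_of_normal⟩)
  obtain ⟨hfix, hconj⟩ := SchurZ.glauberman hXK (hcop isPi_piCoreOf) (Or.inl hsX)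
    (Cfsg.maxInvSubgroups ⊤ H {q}) ⟨Q₀, hQ₀⟩
    (fun a ha y hy => TransHyp.map_conj_mem_max (hn ha) hy)
    (fun k hk y hy => TransHyp.map_conj_mem_max
      (Subgroup.centralizer_le_normalizer _ (piCoreOf_le hk)) hy)
    (fun x hx y hy => by
      obtain ⟨k, hk, hke⟩ := hgood.1 x hx y hy
      exact ⟨k, hk, hke.symm⟩)
  have hinv : ∀ {Q : Subgroup G}, (∀ a ∈ X, a • Q = Q) ↔ X ≤ Subgroup.normalizer (Q : Set G) :=
    fun {Q} => ⟨fun h a ha => Subgroup.mem_normalizer_iff_map_conj_eq.2 (h a ha),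
      fun h a ha => Subgroup.mem_normalizer_iff_map_conj_eq.1 (h ha)⟩
  have hsub : Cfsg.maxInvSubgroups ⊤ X {q} ⊆ Cfsg.maxInvSubgroups ⊤ A {q} := by
    intro R hR
    obtain ⟨pR, nR, mR⟩ := Inv.mem_max_iff.1 hR
    by_cases hR0 : R = ⊥
    · obtain ⟨Q₁, hQ₁, hQ₁X⟩ := hfix
      have h := mR Q₁ (Inv.mem_max_iff.1 hQ₁).1 (hinv.1 hQ₁X) (hR0 ▸ bot_le)
      exact h ▸ hgood.2 hQ₁
    have hAX := hAH.trans hHX
    obtain ⟨Q, hQ, hRQ⟩ := Inv.exists_max (Inv.mem_inv_iff.2 ⟨pR, hAX.trans nR⟩)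
    obtain ⟨pQ, nQ, -⟩ := Inv.mem_max_iff.1 hQ
    set N := Subgroup.normalizer (R : Set G) with hN
    have hNtop : N ≠ ⊤ := normalizer_ne_top hG hR0 (pSubgroup_ne_top hG pR)
    set L := Cfsg.piCoreOf π N with hL
    have hXL : X ≤ Subgroup.normalizer (L : Set G) := nR.trans (Subgroup.le_normalizer.trans normalizer_le)
    have hRL : R ≤ L := TransHyp.le_core hA hNtop (hAX.trans nR) Subgroup.le_normalizer
      (TransHyp.isPi_of_isPGroup hqA pR) (hAX.trans nR)
    obtain ⟨S, hS, hSX⟩ := CoprimeAct.exists_invariant_sylow_ge hXL (hcop isPi_piCoreOf) (Or.inl hsX)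
      hRL pR nR
    have hSR : (S : Subgroup L).map L.subtype = R := mR _ (S.isPGroup'.map _) hSX hS
    have hTL : N ⊓ Q ≤ L := TransHyp.le_core hA hNtop (hAX.trans nR) inf_le_left
      (TransHyp.isPi_of_isPGroup hqA (pQ.to_le inf_le_right))
      ((le_inf ((hAX.trans nR).trans Subgroup.le_normalizer) nQ).trans
        Subgroup.inf_normalizer_le_normalizer_inf)
    have hT : N ⊓ Q ≤ R := by
      intro x hx
      have h := (S.3 (Q := (N ⊓ Q).subgroupOf L) ((pQ.to_le inf_le_right).comap_subtype) ?_)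
      · rw [← hSR]
        exact ⟨⟨x, hTL hx⟩, h ▸ hx, rfl⟩
      · intro y hy
        have : (y : G) ∈ R := hSR ▸ Subgroup.mem_map_of_mem L.subtype hy
        exact Subgroup.mem_inf.2 ⟨Subgroup.le_normalizer this, hRQ this⟩
    suffices h : R = Q from h ▸ hQ
    by_contra hne
    have := pQ.isNilpotent
    have hlt : R.subgroupOf Q < ⊤ := lt_top_iff_ne_top.2 fun h =>
      hne (le_antisymm hRQ (Subgroup.subgroupOf_eq_top.1 h))
    obtain ⟨x, hx, hxR⟩ := SetLike.exists_of_lt (Group.normalizerCondition_of_isNilpotent _ hlt)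
    refine hxR (hT (Subgroup.mem_inf.2 ⟨?_, x.2⟩))
    rw [hN, Subgroup.mem_normalizer_iff]
    intro r
    constructor
    · intro hr
      exact (Subgroup.mem_normalizer_iff.1 hx ⟨r, hRQ hr⟩).1 hr
    · intro hr
      have hrQ : r ∈ Q := by
        simpa [mul_assoc] using mul_mem (mul_mem (inv_mem x.2) (hRQ hr)) x.2
      exact (Subgroup.mem_normalizer_iff.1 hx ⟨r, hrQ⟩).2 hr
  refine ⟨fun Q₁ h₁ Q₂ h₂ => ?_, hsub⟩
  have down : ∀ Q ∈ Cfsg.maxInvSubgroups ⊤ X {q}, Q ∈ Cfsg.maxInvSubgroups ⊤ H {q} := fun Q hQ => by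
    obtain ⟨pQ, nQ, -⟩ := Inv.mem_max_iff.1 hQ
    exact Inv.mem_max_iff.2 ⟨pQ, hHX.trans nQ,
      fun R h1 h2 h3 => (Inv.mem_max_iff.1 (hsub hQ)).2.2 R h1 (hAH.trans h2) h3⟩
  obtain ⟨c, hc, hcQ⟩ := hconj Q₁ (down _ h₁) Q₂ (down _ h₂)
    (hinv.2 (Inv.mem_max_iff.1 h₁).2.1) (hinv.2 (Inv.mem_max_iff.1 h₂).2.1)
  refine ⟨c, le_piCoreOf inf_le_right ((le_inf ((Subgroup.centralizer_le hHX).trans
    (Subgroup.le_normalizer.trans (normalizer_le (X := Subgroup.centralizer (H : Set G)))))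
    Subgroup.le_normalizer).trans Subgroup.inf_normalizer_le_normalizer_inf)
    (isPi_of_dvd (Subgroup.card_dvd_of_le inf_le_left) isPi_piCoreOf) hc, ?_⟩
  rw [← hcQ, hsmul]

/-- Let G be a minimal simple group of odd order, A a subgroup satisfying the transitivity hypothesis with K = O_{π(A)'}(C_G(A)), q a prime not dividing the order of A, and P a proper subgroup all of whose prime divisors divide the order of A, containing A as a subnormal subgroup, such that any two maximal A-invariant q-subgroups are conjugate under K. Then (a) K ∩ C_G(P) = O_{π(A)'}(C_G(P)); (b) any two maximal P-invariant q-subgroups are conjugate under O_{π(A)'}(C_G(P)); (c) every maximal P-invariant q-subgroup is a maximal A-invariant q-subgroup; (d) for every maximal P-invariant q-subgroup Q, P ∩ N_G(P)' ≤ N_G(Q)' and N_G(P) is generated by O_{π(A)'}(C_G(P)) and N_G(P) ∩ N_G(Q). -/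
theorem result {G : Type*} [Group G] [Finite G] (hG : Cfsg.IsMinSimpleOddOrder G)
    (A : Subgroup G) (hA : Cfsg.TransitivityHypothesis A) (q : ℕ) (hq : q.Prime) (hqA : ¬ q ∣ Nat.card A)
    (P : Subgroup G) (hP : P ≠ ⊤) (hPπ : (∀ r : ℕ, r.Prime → r ∣ Nat.card P → r ∣ Nat.card A)) (hAP : A ≤ P) (hsn : (A.subgroupOf P).IsSubnormal)
    (htr : ∀ Q₁ ∈ Cfsg.maxInvSubgroups ⊤ A {q}, ∀ Q₂ ∈ Cfsg.maxInvSubgroups ⊤ A {q}, ∃ k ∈ Cfsg.piCoreOf (Cfsg.primesNotDvd (Nat.card A)) (Subgroup.centralizer (A : Set G)), Q₂ = Q₁.map (MulAut.conj k).toMonoidHom) :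
    Cfsg.piCoreOf (Cfsg.primesNotDvd (Nat.card A)) (Subgroup.centralizer (A : Set G)) ⊓ Subgroup.centralizer (P : Set G) = Cfsg.piCoreOf (Cfsg.primesNotDvd (Nat.card A)) (Subgroup.centralizer (P : Set G)) ∧
      (∀ Q₁ ∈ Cfsg.maxInvSubgroups ⊤ P {q}, ∀ Q₂ ∈ Cfsg.maxInvSubgroups ⊤ P {q}, ∃ k ∈ Cfsg.piCoreOf (Cfsg.primesNotDvd (Nat.card A)) (Subgroup.centralizer (P : Set G)), Q₂ = Q₁.map (MulAut.conj k).toMonoidHom) ∧
      Cfsg.maxInvSubgroups ⊤ P {q} ⊆ Cfsg.maxInvSubgroups ⊤ A {q} ∧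
      ∀ Q ∈ Cfsg.maxInvSubgroups ⊤ P {q},
        P ⊓ ⁅Subgroup.normalizer (P : Set G), Subgroup.normalizer (P : Set G)⁆ ≤ ⁅Subgroup.normalizer (Q : Set G), Subgroup.normalizer (Q : Set G)⁆ ∧
        Subgroup.normalizer (P : Set G) = Cfsg.piCoreOf (Cfsg.primesNotDvd (Nat.card A)) (Subgroup.centralizer (P : Set G)) ⊔ (Subgroup.normalizer (P : Set G) ⊓ Subgroup.normalizer (Q : Set G)) := by
  haveI : Fact q.Prime := ⟨hq⟩
  have hgood : Good A q P := by
    have key : ∀ S : Subgroup P, S.IsSubnormal → A ≤ S.map P.subtype →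
        Good A q (S.map P.subtype) → Good A q P := by
      intro S hS
      induction hS with
      | top =>
        intro _ h
        rwa [← MonoidHom.range_eq_map, Subgroup.range_subtype] at h
      | step H K hle _ hN ih =>
        intro hAH h
        refine ih (hAH.trans (Subgroup.map_mono hle)) (good_step hG hA hqA ?_ hAH
          (Subgroup.map_mono hle) ?_ ?_ h)
        · exact fun h' => hP (top_unique (h'.ge.trans (Subgroup.map_subtype_le K)))
        · exact fun r hr hd => hPπ r hr (hd.trans (Subgroup.card_dvd_of_le (Subgroup.map_subtype_le K)))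
        · exact (Subgroup.map_mono
            ((Subgroup.normal_subgroupOf_iff_le_normalizer hle).1 hN)).trans (Subgroup.le_normalizer_map _)
    have e := Subgroup.map_subgroupOf_eq_of_le hAP
    refine key _ hsn e.ge ?_
    rw [e]
    exact ⟨htr, le_rfl⟩
  set π := Cfsg.primesNotDvd (Nat.card A) with hπ
  refine ⟨core_eq hG hA hAP, hgood.1, hgood.2, fun Q hQ => ?_⟩
  set K := Cfsg.piCoreOf π (Subgroup.centralizer (P : Set G)) with hK
  set M := Subgroup.normalizer (P : Set G) ⊓ Subgroup.normalizer (Q : Set G) with hM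
  have hKN : K ≤ Subgroup.normalizer (P : Set G) := piCoreOf_le.trans (Subgroup.centralizer_le_normalizer _)
  have hfac : ∀ g ∈ Subgroup.normalizer (P : Set G), ∃ k ∈ K, ∃ m ∈ M, g = k * m := by
    intro g hg
    obtain ⟨k, hk, hkQ⟩ := hgood.1 Q hQ _ (TransHyp.map_conj_mem_max hg hQ)
    refine ⟨k, hk, k⁻¹ * g, Subgroup.mem_inf.2 ⟨mul_mem (inv_mem (hKN hk)) hg, ?_⟩, by group⟩
    rw [Subgroup.mem_normalizer_iff_map_conj_eq]
    calc Q.map (MulAut.conj (k⁻¹ * g)).toMonoidHom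
        = (Q.map (MulAut.conj g).toMonoidHom).map (MulAut.conj k⁻¹).toMonoidHom := by
          rw [Subgroup.map_map]
          congr 1
          ext x
          simp [mul_assoc]
      _ = Q := by
          rw [hkQ, Subgroup.map_map]
          ext x
          simp [mul_assoc]
  refine ⟨?_, le_antisymm (fun g hg => ?_) (sup_le hKN inf_le_left)⟩
  swap
  · obtain ⟨k, hk, m, hm, rfl⟩ := hfac g hg
    exact mul_mem (Subgroup.mem_sup_left hk) (Subgroup.mem_sup_right hm)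
  have hMK : M ≤ Subgroup.normalizer (K : Set G) :=
    inf_le_left.trans ((centralizer_normalized P).trans normalizer_le)
  have hM'K : ⁅M, M⁆ ≤ Subgroup.normalizer (K : Set G) :=
    (Subgroup.le_normalizer_iff_commutator_le_left.1 Subgroup.le_normalizer).trans hMK
  have hcomm : ⁅Subgroup.normalizer (P : Set G), Subgroup.normalizer (P : Set G)⁆ ≤ K ⊔ ⁅M, M⁆ := by
    rw [Subgroup.commutator_le]
    intro g hg h hh
    obtain ⟨k, hk, m, hm, rfl⟩ := hfac g hg
    obtain ⟨k', hk', m', hm', rfl⟩ := hfac h hh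
    have e : ⁅k * m, k' * m'⁆ = k * (m * k' * m⁻¹) * ⁅m, m'⁆ * (m' * k⁻¹ * m'⁻¹) * k'⁻¹ := by
      simp only [commutatorElement_def]; group
    rw [e]
    have hKs : ∀ {x : G}, x ∈ K → x ∈ K ⊔ ⁅M, M⁆ := fun h => Subgroup.mem_sup_left h
    exact mul_mem (mul_mem (mul_mem (mul_mem (hKs hk)
      (hKs ((Subgroup.mem_normalizer_iff.1 (hMK hm) k').1 hk')))
      (Subgroup.mem_sup_right (Subgroup.commutator_mem_commutator hm hm')))
      (hKs ((Subgroup.mem_normalizer_iff.1 (hMK hm') k⁻¹).1 (inv_mem hk)))) (hKs (inv_mem hk'))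
  intro x hx
  obtain ⟨hxP, hxN⟩ := Subgroup.mem_inf.1 hx
  have hx' := hcomm hxN
  rw [← SetLike.mem_coe, Subgroup.coe_mul_of_right_le_normalizer_left _ _ hM'K] at hx'
  obtain ⟨k, hk, m, hm, rfl⟩ := hx'
  have hM'M : ⁅M, M⁆ ≤ M := Subgroup.le_normalizer_iff_commutator_le_left.1 Subgroup.le_normalizer
  have hPM : P ≤ M := le_inf Subgroup.le_normalizer (Inv.mem_max_iff.1 hQ).2.1
  have hkM : k ∈ M := by simpa using mul_mem (hPM hxP) (inv_mem (hM'M hm))
  refine Subgroup.commutator_mono (inf_le_right : M ≤ _) (inf_le_right : M ≤ _) (?_ : k * m ∈ ⁅M, M⁆)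
  haveI hn : (⁅M, M⁆.subgroupOf M).Normal := Subgroup.normal_subgroupOf_of_le_normalizer
    (Subgroup.le_normalizer_iff_commutator_le_left.2 (Subgroup.commutator_mono hM'M le_rfl))
  set f := QuotientGroup.mk' (⁅M, M⁆.subgroupOf M) with hf
  have hfm : f ⟨m, hM'M hm⟩ = 1 := (QuotientGroup.eq_one_iff _).2 hm
  have hfx : f ⟨k * m, hPM hxP⟩ = f ⟨k, hkM⟩ := by
    rw [show (⟨k * m, hPM hxP⟩ : M) = ⟨k, hkM⟩ * ⟨m, hM'M hm⟩ from rfl, map_mul, hfm, mul_one]
  have h1 : f ⟨k * m, hPM hxP⟩ = 1 := by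
    rw [← orderOf_eq_one_iff]
    have d1 : orderOf (f ⟨k * m, hPM hxP⟩) ∣ Nat.card P := (orderOf_map_dvd f _).trans
      (by rw [Subgroup.orderOf_mk]; exact Subgroup.orderOf_dvd_natCard P hxP)
    have d2 : orderOf (f ⟨k * m, hPM hxP⟩) ∣ Nat.card K := hfx ▸ (orderOf_map_dvd f _).trans
      (by rw [Subgroup.orderOf_mk]; exact Subgroup.orderOf_dvd_natCard K hk)
    refine Nat.eq_one_of_dvd_coprimes ?_ d1 d2
    exact Nat.coprime_of_dvd fun r hr hrP hrK => (isPi_piCoreOf r hr hrK).2 (hPπ r hr hrP)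
  have h2 : (⟨k * m, hPM hxP⟩ : M) ∈ ⁅M, M⁆.subgroupOf M := (QuotientGroup.eq_one_iff _).1 h1
  exact h2

end Cfsg.Agent.S1395
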