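import Cfsg.Statements.S1396
import Cfsg.Agent.Lib.OddOrder.TransHyp
import Cfsg.Agent.Lib.OddOrder.PLengthOne

set_option autoImplicit false
open Cfsg

namespace Cfsg.Agent.S1396

open scoped Pointwise
open OddOrder OddOrder.MinSimple

theorem mem_of_scn {G : Type*} [Group G] [Finite G] {p : ℕ} [Fact p.Prime] {A : Subgroup G} {P : Sylow p G}
    (h : Cfsg.IsSCN (P : Subgroup G) A) :
    ∀ y ∈ Subgroup.centralizer (A : Set G), (∃ k, orderOf y = p ^ k) → y ∈ A := by
  intro y hy hyp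
  obtain ⟨-, hPN, hPC⟩ := h
  set N := Subgroup.normalizer (A : Set G)
  have hyN : y ∈ N := Subgroup.centralizer_le_normalizer _ hy
  obtain ⟨k, hk⟩ := hyp
  have hZ : IsPGroup p (Subgroup.zpowers (⟨y, hyN⟩ : N)) :=
    IsPGroup.of_card (n := k) (by rw [Nat.card_zpowers, Subgroup.orderOf_mk, hk])
  obtain ⟨S, hS⟩ := hZ.exists_le_sylow
  obtain ⟨g, hg⟩ := MulAction.exists_smul_eq N S (P.subtype hPN)
  have hmem : ((MulAut.conj g • (⟨y, hyN⟩ : N) : N)) ∈ ((P.subtype hPN : Sylow p N) : Subgroup N) := by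
    rw [← hg]
    exact Subgroup.smul_mem_pointwise_smul _ _ (S : Subgroup N) (hS (Subgroup.mem_zpowers _))
  have hmemP : (g : G) * y * (g : G)⁻¹ ∈ (P : Subgroup G) := hmem
  have hC : (g : G) * y * (g : G)⁻¹ ∈ Subgroup.centralizer (A : Set G) := by
    rw [Subgroup.mem_centralizer_iff]
    intro a ha
    have h' := Subgroup.mem_centralizer_iff.1 hy _ ((Subgroup.mem_normalizer_iff''.1 g.2 a).1 ha)
    calc a * ((g : G) * y * (g : G)⁻¹) = (g : G) * (((g : G)⁻¹ * a * g) * y) * (g : G)⁻¹ := by group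
      _ = (g : G) * (y * ((g : G)⁻¹ * a * g)) * (g : G)⁻¹ := by rw [h']
      _ = _ := by group
  have hA : (g : G) * y * (g : G)⁻¹ ∈ A := hPC ▸ Subgroup.mem_inf.2 ⟨hmemP, hC⟩
  exact (Subgroup.mem_normalizer_iff.1 g.2 y).2 hA

/-- Let G be a minimal simple group of odd order, p a prime dividing the order of G and A an abelian p-subgroup. Suppose either (1) A consists exactly of the elements x of C_G(A) with x^p = 1, and every proper subgroup of G has p-length at most one, or (2) A is normal and self-centralizing in some Sylow p-subgroup of G and has rank at least 2. Then A satisfies the transitivity hypothesis. -/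
theorem result {G : Type*} [Group G] [Finite G] (hG : Cfsg.IsMinSimpleOddOrder G)
    (p : ℕ) [Fact p.Prime] (hp : p ∣ Nat.card G) (A : Subgroup G) (hAp : IsPGroup p A) (hAc : IsMulCommutative A)
    (h : (∀ x ∈ Subgroup.centralizer (A : Set G), x ^ p = 1 ↔ x ∈ A) ∧ (∀ H : Subgroup G, H ≠ ⊤ → Cfsg.PLengthLE p 1 H) ∨
      ∃ P : Sylow p G, Cfsg.IsSCN (P : Subgroup G) A ∧ ¬ Cfsg.PRankLE p 1 A) :
    Cfsg.TransitivityHypothesis A := by
  have hpp : p.Prime := Fact.out
  have hp2 : p ≠ 2 := by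
    rintro rfl
    exact Nat.not_even_iff_odd.2 hG.1 (even_iff_two_dvd.2 hp)
  have hAne : A ≠ ⊥ := by
    rintro rfl
    rcases h with ⟨h1, -⟩ | ⟨P, hP, hr⟩
    · obtain ⟨x, hx⟩ := exists_prime_orderOf_dvd_card' p hp
      have hmem := (h1 x (Subgroup.mem_centralizer_iff.2 fun a ha => by
        rw [Subgroup.mem_bot.1 ha, one_mul, mul_one])).1 (hx ▸ pow_orderOf_eq_one x)
      rw [Subgroup.mem_bot.1 hmem, orderOf_one] at hx
      exact hpp.ne_one hx.symm
    · refine hr fun B _ _ => ?_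
      exact (Subgroup.card_le_card_group B).trans (by rw [Subgroup.card_bot, pow_one]; exact hpp.one_le)
  have hAtop : A ≠ ⊤ := pSubgroup_ne_top hG hAp
  have hπ : ∀ r, r ∈ Cfsg.primesNotDvd (Nat.card A) → r ≠ p := by
    rintro r ⟨-, hr⟩ rfl
    exact hr (hAp.card_eq_or_dvd.resolve_left fun h1 => hAne (Subgroup.card_eq_one.1 h1))
  have hπ' : ∀ r, r.Prime → r ≠ p → r ∈ Cfsg.primesNotDvd (Nat.card A) := by
    intro r hr hne
    refine ⟨hr, fun hd => hne ?_⟩
    obtain ⟨k, hk⟩ := IsPGroup.iff_card.1 hAp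
    exact (Nat.prime_dvd_prime_iff_eq hr hpp).1 (hr.dvd_of_dvd_pow (hk ▸ hd))
  refine ⟨hAne, hAtop, fun X hX hAX => le_antisymm (sSup_le fun Y hY => ?_)
    (le_sSup (piCoreOf_mem_inv hAX))⟩
  obtain ⟨hYX, hYπ, hAY⟩ := hY
  haveI := MinSimple.isSolvable hG hX
  have hYc : (Nat.card (Y.subgroupOf X)).Coprime p := by
    rw [Nat.card_congr (Subgroup.subgroupOfEquivOfLe hYX).toEquiv]
    exact ((Nat.Prime.coprime_iff_not_dvd hpp).2 fun hd => hπ p (hYπ p hpp hd) rfl).symm
  have hAp' : IsPGroup p (A.subgroupOf X) := hAp.comap_subtype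
  have hn : A.subgroupOf X ≤ Subgroup.normalizer ((Y.subgroupOf X : Subgroup X) : Set X) := fun a ha => by
    rw [Subgroup.mem_normalizer_iff]
    intro y
    exact Subgroup.mem_normalizer_iff.1 (hAY ha) (y : G)
  have hcX : ∀ y : X, y ∈ Subgroup.centralizer ((A.subgroupOf X : Subgroup X) : Set X) →
      (y : G) ∈ Subgroup.centralizer (A : Set G) := fun y hy => Subgroup.mem_centralizer_iff.2 fun a ha =>
    congrArg Subtype.val (Subgroup.mem_centralizer_iff.1 hy ⟨a, hAX ha⟩ ha)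
  have hle : Y.subgroupOf X ≤ Cfsg.pPrimeCore p X := by
    rcases h with ⟨h1, hl⟩ | ⟨P, hP, -⟩
    · exact PLengthOne.le_pPrimeCore hp2 (hl X hX) hAp'
        (fun y hy hyp => (h1 y (hcX y hy)).1 (by rw [← Subgroup.coe_pow, hyp, Subgroup.coe_one])) hYc hn
    · exact CTransitivity.le_pPrimeCore_of_invariant hp2 hAp'
        (fun y hy ⟨k, hk⟩ => mem_of_scn hP y (hcX y hy) ⟨k, by rw [Subgroup.orderOf_coe, hk]⟩) hYc hn
  rw [← Subgroup.map_subgroupOf_eq_of_le hYX]
  refine Subgroup.map_mono (hle.trans (le_sSup ⟨FittingCores.pPrimeCore_normal p, fun r hr hd =>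
    hπ' r hr fun e => ?_⟩))
  exact (Nat.Prime.coprime_iff_not_dvd hpp).1 (FittingCores.pPrimeCore_coprime p).symm (e ▸ hd)

end Cfsg.Agent.S1396
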