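import Cfsg.Statements.S1894
import Cfsg.Agent.Lib.OddOrder.Nilpotent

set_option autoImplicit false
set_option linter.style.haveILetI false
set_option linter.unusedVariables false
open Cfsg

namespace Cfsg.Agent.S1894
open scoped commutatorElement

/-- Let P be a finite p-group, A a normal subgroup of P and B an abelian subgroup of A that is normal in P. Then some subgroup C of A containing B is normal in P and is self-centralizing and normal in A (C ∈ SCN(A)). -/
theorem result {P : Type*} [Group P] [Finite P] {p : ℕ} [Fact p.Prime] (hP : IsPGroup p P)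
    (A : Subgroup P) [A.Normal] (B : Subgroup P) [B.Normal] (hBA : B ≤ A) (hB : IsMulCommutative B) :
    ∃ C : Subgroup P, C.Normal ∧ B ≤ C ∧ Cfsg.IsSCN A C := by
  haveI := hP.isNilpotent
  obtain ⟨C, ⟨hCn, hBC, hCA, hCc⟩, hmax⟩ :=
    (Set.toFinite {C : Subgroup P | C.Normal ∧ B ≤ C ∧ C ≤ A ∧ IsMulCommutative C}).exists_maximal
      ⟨B, inferInstance, le_rfl, hBA, hB⟩
  haveI := hCn
  haveI := hCc
  refine ⟨C, hCn, hBC, hCA, by rw [Subgroup.normalizer_eq_top]; exact le_top, ?_⟩
  by_contra hne
  have hCD : C ≤ A ⊓ Subgroup.centralizer (C : Set P) := le_inf hCA (Subgroup.le_centralizer C)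
  obtain ⟨x, hx, hxC, hxy⟩ := OddOrder.Nilp.exists_mem_commutator_le (A := C)
    (C := A ⊓ Subgroup.centralizer (C : Set P)) (fun h => hne (le_antisymm h hCD))
  obtain ⟨hxA, hxcent⟩ := Subgroup.mem_inf.1 hx
  have hC' : C ⊔ Subgroup.zpowers x ≤ C := by
    refine hmax ⟨?_, hBC.trans le_sup_left, sup_le hCA (Subgroup.zpowers_le.2 hxA), ?_⟩ le_sup_left
    · refine Subgroup.normalizer_eq_top_iff.1 (top_le_iff.1
        (Subgroup.le_normalizer_iff.2 fun g _ y hy => ?_))
      have : (MulAut.conj g).toMonoidHom y ∈ (C ⊔ Subgroup.zpowers x).map (MulAut.conj g).toMonoidHom :=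
        Subgroup.mem_map_of_mem _ hy
      refine (?_ : (C ⊔ Subgroup.zpowers x).map (MulAut.conj g).toMonoidHom ≤ C ⊔ Subgroup.zpowers x) this
      rw [Subgroup.map_sup, MonoidHom.map_zpowers]
      refine sup_le ?_ (Subgroup.zpowers_le.2 ?_)
      · rintro _ ⟨c, hc, rfl⟩
        exact Subgroup.mem_sup_left (hCn.conj_mem c hc g)
      · have h1 : g * x * g⁻¹ = ⁅x, g⁆⁻¹ * x := by rw [commutatorElement_def]; group
        change g * x * g⁻¹ ∈ _
        rw [h1]
        exact mul_mem (Subgroup.mem_sup_left (inv_mem (hxy g)))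
          (Subgroup.mem_sup_right (Subgroup.mem_zpowers x))
    · have hcl : C ⊔ Subgroup.zpowers x = Subgroup.closure ((C : Set P) ∪ {x}) := by
        rw [Subgroup.closure_union, Subgroup.closure_eq, Subgroup.zpowers_eq_closure]
      rw [hcl]
      refine Subgroup.isMulCommutative_closure ?_
      rintro a (ha | ha) b (hb | hb)
      · exact congrArg Subtype.val (mul_comm' (⟨a, ha⟩ : C) ⟨b, hb⟩)
      · rw [Set.mem_singleton_iff] at hb
        subst hb
        exact Subgroup.mem_centralizer_iff.1 hxcent a ha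
      · rw [Set.mem_singleton_iff] at ha
        subst ha
        exact (Subgroup.mem_centralizer_iff.1 hxcent b hb).symm
      · rw [Set.mem_singleton_iff] at ha hb
        rw [ha, hb]
  exact hxC (hC' (Subgroup.mem_sup_right (Subgroup.mem_zpowers x)))

end Cfsg.Agent.S1894
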