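import Cfsg.Statements.S1399
import Cfsg.Agent.Lib.OddOrder.Uniqueness

set_option autoImplicit false
open Cfsg

namespace Cfsg.Agent.S1399

/-- Let G be a minimal simple group of odd order, L a subgroup contained in exactly one maximal subgroup of G, and K a subgroup of C_G(L) having, for some prime p, an elementary abelian subgroup of order p ^ 2. Then K is contained in exactly one maximal subgroup of G. -/
theorem result {G : Type*} [Group G] [Finite G] (hG : Cfsg.IsMinSimpleOddOrder G)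
    (L K : Subgroup G) (hL : Cfsg.InUniqueMaximal L) (hK : K ≤ Subgroup.centralizer (L : Set G)) (hKr : ¬ Cfsg.RankLE 1 K) :
    Cfsg.InUniqueMaximal K := by
  obtain ⟨M, ⟨hM, hLM⟩, huniq⟩ := hL
  simp only [Cfsg.RankLE, Cfsg.PRankLE, not_forall] at hKr
  obtain ⟨p, hp, B₀, hBc, hBexp, hBcard⟩ := hKr
  haveI := Fact.mk hp
  haveI := hBc
  rw [not_le, pow_one] at hBcard
  have hmax : ∀ X : Subgroup G, L ≤ X → X ≠ ⊤ → X ≤ M := fun X hLX hX => by
    obtain ⟨N, hN, hXN⟩ := OddOrder.Uniq.exists_maximal_ge hX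
    exact hXN.trans (huniq N ⟨hN, hLX.trans hXN⟩).le
  have hL1 : L ≠ ⊥ := by
    intro h
    obtain ⟨g, hg⟩ : ∃ g : G, g ∉ M := by
      by_contra h'
      push Not at h'
      exact hM.1 (eq_top_iff.2 fun x _ => h' x)
    have htop : Subgroup.zpowers g = ⊤ := by
      by_contra h'
      exact hg (hmax _ (h ▸ bot_le) h' (Subgroup.mem_zpowers g))
    refine hG.2.2.1 ⟨⟨fun a b => ?_⟩⟩
    obtain ⟨i, rfl⟩ := htop.ge (Subgroup.mem_top a)
    obtain ⟨j, rfl⟩ := htop.ge (Subgroup.mem_top b)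
    exact zpow_mul_comm g i j
  have hCM : Subgroup.centralizer (L : Set G) ≤ M := (Subgroup.centralizer_le_normalizer _).trans
    (hmax _ Subgroup.le_normalizer (OddOrder.MinSimple.normalizer_ne_top hG hL1
      fun h => hM.1 (top_le_iff.1 (h ▸ hLM))))
  set B := B₀.map K.subtype with hB
  have hBK : B ≤ K := Subgroup.map_subtype_le _
  have hBe : Cfsg.IsElementaryAbelian p B := ⟨inferInstance, by
    rintro _ ⟨b, hb, rfl⟩
    rw [← map_pow, hBexp b hb, map_one]⟩
  have hBp : IsPGroup p B := fun a => ⟨1, Subtype.ext (by simpa using hBe.2 a a.2)⟩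
  have hBcard' : p < Nat.card B := by rwa [hB, Subgroup.card_map_of_injective K.subtype_injective]
  have hBnc : ¬ IsCyclic B := fun hc => by
    haveI := hc
    have := Nat.le_of_dvd hp.pos ((IsCyclic.exponent_eq_card (α := B)).symm ▸
      Monoid.exponent_dvd_of_forall_pow_eq_one fun a => Subtype.ext (by simpa using hBe.2 a a.2))
    exact absurd this (not_le.2 hBcard')
  have hB1 : B ≠ ⊥ := fun h => by rw [h, Subgroup.card_bot] at hBcard'; exact absurd hBcard' (not_lt.2 hp.one_le)
  obtain ⟨N, ⟨hN, hBN⟩, hNu⟩ := OddOrder.Uniq.unique_of_invariant hG hM ((hBK.trans hK).trans hCM) hBp hB1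
    fun Y hY hBY => OddOrder.Uniq.invariant_of_centralizers hBe hBnc (fun b hb hb1 =>
      hmax _ (fun l hl => Subgroup.mem_centralizer_singleton_iff.2
        (Subgroup.mem_centralizer_iff.1 (hK (hBK hb)) l hl)) (OddOrder.MinSimple.centralizer_singleton_ne_top hG hb1)) hY hBY
  have hNM : N = M := (hNu M ⟨hM, (hBK.trans hK).trans hCM⟩).symm
  exact ⟨M, ⟨hM, hK.trans hCM⟩, fun X hX => (hNu X ⟨hX.1, hBK.trans hX.2⟩).trans hNM⟩

end Cfsg.Agent.S1399
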