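import Cfsg.Statements.S1407
import Cfsg.Agent.Lib.OddOrder.SigmaCent

set_option autoImplicit false
open Cfsg

namespace Cfsg.Agent.S1407

/-- Let G be a minimal simple group of odd order, M a maximal subgroup with M_α ≠ 1, p a prime dividing the order of M but not in σ(M), and P a Sylow p-subgroup of M. Then there is an element x of order p in the centre of P such that M_α ∩ C_G(x) has all Sylow subgroups cyclic and M is not the unique maximal subgroup of G containing C_G(x). -/
theorem result {G : Type*} [Group G] [Finite G] (hG : Cfsg.IsMinSimpleOddOrder G)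
    (M : Subgroup G) (hM : IsCoatom M) (hMα : Cfsg.alphaCore M ≠ ⊥) (p : ℕ) [Fact p.Prime] (hpM : p ∣ Nat.card M) (hp : p ∉ Cfsg.sigma M) (P : Sylow p M) :
    ∃ x : G, x ∈ ((Subgroup.center ↥(P : Subgroup M)).map (P : Subgroup M).subtype).map M.subtype ∧ orderOf x = p ∧
        IsZGroup ↥(Cfsg.alphaCore M ⊓ Subgroup.centralizer ({x} : Set G)) ∧
        ¬ (Subgroup.centralizer ({x} : Set G) ≤ M ∧ ∀ L : Subgroup G, IsCoatom L → Subgroup.centralizer ({x} : Set G) ≤ L → L = M) := by
  classical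
  have hp' : p.Prime := Fact.out
  set P' := (P : Subgroup M).map M.subtype with hP'
  set Z := ((Subgroup.center ↥(P : Subgroup M)).map (P : Subgroup M).subtype).map M.subtype with hZ
  obtain ⟨x₀, hx₀, hx₀o⟩ : ∃ x ∈ Z, orderOf x = p := by
    haveI : Nontrivial (P : Subgroup M) := (Subgroup.nontrivial_iff_ne_bot _).2 (P.ne_bot_of_dvd_card hpM)
    haveI := P.isPGroup'.center_nontrivial
    obtain ⟨k, hk, hk'⟩ := (P.isPGroup'.to_subgroup (Subgroup.center _)).nontrivial_iff_card.1 inferInstance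
    obtain ⟨c, hc⟩ := exists_prime_orderOf_dvd_card' (G := Subgroup.center (P : Subgroup M)) p (hk' ▸ dvd_pow_self p hk.ne')
    refine ⟨((c : (P : Subgroup M)) : M), ⟨_, ⟨c, c.2, rfl⟩, rfl⟩, ?_⟩
    rw [Subgroup.orderOf_coe, Subgroup.orderOf_coe, Subgroup.orderOf_coe, hc]
  have hcz : ∀ x : G, Subgroup.centralizer ((Subgroup.zpowers x : Subgroup G) : Set G) = Subgroup.centralizer ({x} : Set G) := by
    intro x
    rw [Subgroup.zpowers_eq_closure, Subgroup.centralizer_closure]
  by_contra hcon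
  push Not at hcon
  have huniq : ∀ x ∈ Z, orderOf x = p → (Subgroup.centralizer ({x} : Set G) ≤ M ∧
      ∀ L : Subgroup G, IsCoatom L → Subgroup.centralizer ({x} : Set G) ≤ L → L = M) := by
    intro x hx hxo
    by_cases hZg : IsZGroup ↥(Cfsg.alphaCore M ⊓ Subgroup.centralizer ({x} : Set G))
    · exact hcon x hx hxo hZg
    have hx1 : x ≠ 1 := fun h => by rw [h, orderOf_one] at hxo; exact hp'.one_lt.ne hxo
    have hxM : x ∈ M := Subgroup.map_subtype_le _ hx
    have hU : Cfsg.InUniqueMaximal (M ⊓ Subgroup.centralizer ((Subgroup.zpowers x : Subgroup G) : Set G)) := by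
      refine OddOrder.Sigma.alphaCore_centralizer_uniq hG hM (Subgroup.zpowers_le.2 hxM) (fun r hr hd => ?_) ?_
      · rw [Nat.card_zpowers, hxo] at hd
        rw [(Nat.prime_dvd_prime_iff_eq hr hp').1 hd]
        exact fun h => hp (OddOrder.Sigma.alpha_subset_sigma hG hM h)
      · rw [hcz]
        intro hr
        refine hZg ⟨fun r hr' S => ?_⟩
        haveI := Fact.mk hr'
        by_contra hnc
        rcases eq_or_ne r 2 with rfl | hr2
        · refine hnc ?_
          have h1 : (S : Subgroup ↥(Cfsg.alphaCore M ⊓ Subgroup.centralizer ({x} : Set G))) = ⊥ := by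
            obtain ⟨j, hj⟩ := IsPGroup.iff_card.1 S.isPGroup'
            rcases Nat.eq_zero_or_pos j with rfl | hj0
            · exact Subgroup.card_eq_one.1 (by rw [hj, pow_zero])
            · exact absurd rfl (OddOrder.Uniq.ne_two_of_dvd hG (((hj ▸ dvd_pow_self 2 hj0.ne').trans
                (Subgroup.card_subgroup_dvd_card (S : Subgroup ↥(Cfsg.alphaCore M ⊓ Subgroup.centralizer ({x} : Set G))))).trans (Subgroup.card_subgroup_dvd_card _)))
          show IsCyclic ↥(S : Subgroup ↥(Cfsg.alphaCore M ⊓ Subgroup.centralizer ({x} : Set G)))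
          rw [h1]; infer_instance
        obtain ⟨E, -, hEe, hE2⟩ := S0126.result hr2 S.isPGroup' hnc
        haveI := hEe.1
        have := hr r hr' (E.map (S : Subgroup ↥(Cfsg.alphaCore M ⊓ Subgroup.centralizer ({x} : Set G))).subtype) inferInstance (by
          rintro _ ⟨a, ha, rfl⟩
          rw [← map_pow, hEe.2 a ha, map_one])
        rw [Subgroup.card_map_of_injective (Subgroup.subtype_injective _), hE2, pow_one, pow_two] at this
        exact absurd this (not_le.2 (lt_mul_of_one_lt_left hr'.pos hr'.one_lt))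
    rw [hcz] at hU
    have hCM := OddOrder.ScnBasics.le_of_uniq hU hM inf_le_left inf_le_right
      (OddOrder.MinSimple.centralizer_singleton_ne_top hG hx1)
    exact ⟨hCM, fun L hL hCL => OddOrder.ScnBasics.eq_of_uniq hU hM hL inf_le_left (inf_le_right.trans hCL)⟩
  refine hp ⟨hp', hpM, P, fun n hn => ?_⟩
  have hMN : Subgroup.normalizer (M : Set G) = M := by
    refine (hM.le_iff.1 Subgroup.le_normalizer).resolve_left (OddOrder.MinSimple.normalizer_ne_top hG (fun h => ?_) hM.1)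
    rw [h, Subgroup.card_bot] at hpM
    exact hp'.not_dvd_one hpM
  have hy : n * x₀ * n⁻¹ ∈ Z := by
    obtain ⟨_, ⟨c, hc, rfl⟩, hcx⟩ := hx₀
    have hxP : x₀ ∈ P' := hcx ▸ ⟨_, c.2, rfl⟩
    obtain ⟨d, hd, hdy⟩ := (Subgroup.mem_normalizer_iff.1 hn x₀).1 hxP
    refine ⟨d, ⟨⟨d, hd⟩, Subgroup.mem_center_iff.2 fun e => ?_, rfl⟩, hdy⟩
    have heP : n⁻¹ * ((e : M) : G) * n ∈ P' :=
      (Subgroup.mem_normalizer_iff.1 hn _).2 (by simpa [mul_assoc] using (⟨_, e.2, rfl⟩ : ((e : M) : G) ∈ P'))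
    obtain ⟨f, hf, hfe⟩ := heP
    have h1 : (f : G) * x₀ = x₀ * (f : G) := by
      rw [← hcx]
      exact congrArg (fun u : (P : Subgroup M) => ((u : M) : G)) (Subgroup.mem_center_iff.1 hc ⟨f, hf⟩)
    rw [show (f : G) = n⁻¹ * ((e : M) : G) * n from hfe] at h1
    apply Subtype.ext; apply Subtype.ext
    show ((e : M) : G) * (d : G) = (d : G) * ((e : M) : G)
    rw [show (d : G) = n * x₀ * n⁻¹ from hdy]
    calc ((e : M) : G) * (n * x₀ * n⁻¹) = n * (n⁻¹ * ((e : M) : G) * n * x₀) * n⁻¹ := by group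
      _ = n * (x₀ * (n⁻¹ * ((e : M) : G) * n)) * n⁻¹ := by rw [h1]
      _ = n * x₀ * n⁻¹ * ((e : M) : G) := by group
  have hyo : orderOf (n * x₀ * n⁻¹) = p := by
    rw [← hx₀o, show n * x₀ * n⁻¹ = MulAut.conj n x₀ from rfl, MulEquiv.orderOf_eq]
  obtain ⟨-, huy⟩ := huniq _ hy hyo
  obtain ⟨hC0, -⟩ := huniq x₀ hx₀ hx₀o
  have hcoat : IsCoatom (M.map (MulAut.conj n).toMonoidHom) :=
    (OrderIso.isCoatom_iff (MulEquiv.mapSubgroup (MulAut.conj n)) M).2 hM
  rw [← hMN, Subgroup.mem_normalizer_iff_map_conj_eq]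
  refine huy _ hcoat fun u hu => ⟨n⁻¹ * u * n, hC0 (Subgroup.mem_centralizer_singleton_iff.2 ?_), by simp [mul_assoc]⟩
  have := Subgroup.mem_centralizer_singleton_iff.1 hu
  calc n⁻¹ * u * n * x₀ = n⁻¹ * (u * (n * x₀ * n⁻¹)) * n := by group
    _ = n⁻¹ * ((n * x₀ * n⁻¹) * u) * n := by rw [this]
    _ = x₀ * (n⁻¹ * u * n) := by group

end Cfsg.Agent.S1407
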