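import Cfsg.Statements.S1459
import Cfsg.Agent.Lib.Solvable.Coprime
import Cfsg.Agent.Lib.CharP.AxB
import Cfsg.Agent.Lib.Transfer.Basic

set_option autoImplicit false
open Cfsg

namespace Cfsg.Agent.S1459

open scoped commutatorElement Pointwise

variable {G : Type*} [Group G] [Finite G]

theorem le_normalizer_of_map_le {S N : Subgroup G}
    (h : ∀ s ∈ S, N.map (MulAut.conj s).toMonoidHom ≤ N) : S ≤ Subgroup.normalizer (N : Set G) := by
  intro s hs
  rw [Subgroup.mem_normalizer_iff_map_conj_eq]
  exact le_antisymm (h s hs) fun x hx => ⟨s⁻¹ * x * s,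
    h s⁻¹ (inv_mem hs) ⟨x, hx, by simp⟩, by simp [mul_assoc]⟩

theorem partA [Group.IsSolvable G] (H K : Subgroup G) (hn : H.Normal) (hcop : (Nat.card H).Coprime H.index)
    (hK : Subgroup.IsComplement' H K) (hH : H ≤ commutator G) :
    H = ⁅H, K⁆ ∧ H ⊓ Subgroup.centralizer (K : Set G) ≤ ⁅H, H⁆ := by
  haveI := hn
  have hcard : Nat.card K = H.index := hK.symm.index_eq_card.symm
  have hKH : K ≤ Subgroup.normalizer (H : Set G) := Subgroup.le_normalizer_of_normal
  have hco : (Nat.card K).Coprime (Nat.card H) := hcard ▸ hcop.symm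
  set N := ⁅H, K⁆ with hN
  have hNH : N ≤ H := CoprimeAct.commutator_le_left hKH
  have htop : H ⊔ K = ⊤ := hK.sup_eq_top
  have hHN : H ≤ Subgroup.normalizer (N : Set G) := by
    refine le_normalizer_of_map_le fun h₁ hh₁ => ?_
    rw [Subgroup.map_le_iff_le_comap, hN, Subgroup.commutator_le]
    intro h hh k hk
    rw [Subgroup.mem_comap]
    have e : (MulAut.conj h₁).toMonoidHom ⁅h, k⁆ = ⁅h₁ * h, k⁆ * ⁅h₁, k⁆⁻¹ := by
      simp only [MulEquiv.coe_toMonoidHom, MulAut.conj_apply, commutatorElement_def]; group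
    rw [e]
    exact mul_mem (Subgroup.commutator_mem_commutator (mul_mem hh₁ hh) hk)
      (inv_mem (Subgroup.commutator_mem_commutator hh₁ hk))
  haveI : N.Normal := by
    rw [← Subgroup.normalizer_eq_top_iff, eq_top_iff, ← htop]
    exact sup_le hHN (AxB.le_normalizer_commutator_right hKH)
  set M := N ⊔ ⁅H, H⁆ with hM
  have hH'H : ⁅H, H⁆ ≤ H := Subgroup.le_normalizer_iff_commutator_le_left.1 Subgroup.le_normalizer
  have hMH : M ≤ H := sup_le hNH hH'H
  haveI hMn : M.Normal := Subgroup.sup_normal _ _
  haveI hD : (M ⊔ K).Normal := by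
    rw [← Subgroup.normalizer_eq_top_iff, eq_top_iff, ← htop]
    refine sup_le (le_normalizer_of_map_le fun h hh => ?_) (le_sup_right.trans Subgroup.le_normalizer)
    rw [Subgroup.map_sup]
    refine sup_le ((Subgroup.mem_normalizer_iff_map_conj_eq.1
      (Subgroup.le_normalizer_of_normal (Subgroup.mem_top h))).le.trans le_sup_left) ?_
    rintro _ ⟨k, hk, rfl⟩
    have e : (MulAut.conj h).toMonoidHom k = ⁅h, k⁆ * k := by
      simp only [MulEquiv.coe_toMonoidHom, MulAut.conj_apply, commutatorElement_def]; group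
    rw [e]
    exact mul_mem (Subgroup.mem_sup_left (Subgroup.mem_sup_left (Subgroup.commutator_mem_commutator hh hk)))
      (Subgroup.mem_sup_right hk)
  have hD' : commutator G ≤ M ⊔ K := by
    set f := QuotientGroup.mk' (M ⊔ K)
    have hker : f.ker = M ⊔ K := QuotientGroup.ker_mk' _
    have hmap : (⊤ : Subgroup G).map f = H.map f := by
      rw [Subgroup.map_eq_map_iff, hker, top_sup_eq, eq_comm, eq_top_iff, ← htop]
      exact sup_le le_sup_left (le_sup_right.trans le_sup_right)
    rw [commutator_def, ← hker, ← Subgroup.map_eq_bot_iff, Subgroup.map_commutator, hmap,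
      ← Subgroup.map_commutator, Subgroup.map_eq_bot_iff, hker]
    exact le_sup_right.trans le_sup_left
  have hHM : H ≤ M := by
    intro h hh
    have h' : h ∈ ((M ⊔ K : Subgroup G) : Set G) := hD' (hH hh)
    rw [Subgroup.normal_mul] at h'
    obtain ⟨m, hm, k, hk, rfl⟩ := h'
    have hkH : k ∈ H := by simpa using mul_mem (inv_mem (hMH hm)) hh
    have hk1 : k = 1 := Subgroup.mem_bot.1 (hK.disjoint.le_bot (Subgroup.mem_inf.2 ⟨hkH, hk⟩))
    simpa [hk1] using hm
  have hHN' : H ≤ N := by
    set f := QuotientGroup.mk' N with hf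
    have e : H.map f = ⁅H.map f, H.map f⁆ := by
      rw [← Subgroup.map_commutator]
      refine le_antisymm ?_ (Subgroup.map_mono hH'H)
      refine (Subgroup.map_mono hHM).trans (le_of_eq ?_)
      rw [hM, Subgroup.map_sup, QuotientGroup.map_mk'_self, bot_sup_eq]
    suffices h : H.map f = ⊥ by rwa [Subgroup.map_eq_bot_iff, QuotientGroup.ker_mk'] at h
    by_contra hne
    haveI := (Subgroup.nontrivial_iff_ne_bot _).2 hne
    refine (Group.IsSolvable.commutator_lt_top_of_nontrivial (H.map f)).ne
      (Subgroup.map_injective (Subgroup.subtype_injective (H.map f)) ?_)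
    rw [Subgroup.map_subtype_commutator, ← MonoidHom.range_eq_map, Subgroup.range_subtype, ← e]
  refine ⟨le_antisymm hHN' hNH, fun c hc => ?_⟩
  obtain ⟨hcH, hcK⟩ := Subgroup.mem_inf.1 hc
  set f := QuotientGroup.mk' ⁅H, H⁆ with hf
  set V := H.map f with hV
  haveI : IsMulCommutative V := by
    rw [← Subgroup.le_centralizer_iff_isMulCommutative, ← Subgroup.commutator_eq_bot_iff_le_centralizer,
      hV, ← Subgroup.map_commutator, Subgroup.map_eq_bot_iff, QuotientGroup.ker_mk']
  have h0 := CoprimeAct.centralizer_inf_commutator_eq_bot (A := K.map f) (V := V)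
    ((Subgroup.map_mono hKH).trans (Subgroup.le_normalizer_map f))
    ((hco.coprime_dvd_left (Subgroup.card_map_dvd _ _)).coprime_dvd_right (Subgroup.card_map_dvd _ _))
  have hmem : f c ∈ (V ⊓ Subgroup.centralizer ((K.map f : Subgroup _) : Set _)) ⊓ ⁅V, K.map f⁆ := by
    refine Subgroup.mem_inf.2 ⟨Subgroup.mem_inf.2 ⟨⟨c, hcH, rfl⟩, ?_⟩, ?_⟩
    · rw [Subgroup.mem_centralizer_iff]
      rintro _ ⟨k, hk, rfl⟩
      rw [← map_mul, ← map_mul, Subgroup.mem_centralizer_iff.1 hcK k hk]
    · rw [hV, ← Subgroup.map_commutator]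
      exact ⟨c, hHN' hcH, rfl⟩
  rw [h0, Subgroup.mem_bot] at hmem
  exact (QuotientGroup.eq_one_iff c).1 hmem

theorem commutator_eq_bot_of_index {P : Type*} [Group P] [Finite P] {q : ℕ} (hq : q.Prime)
    (hP : IsPGroup q P) (hidx : (commutator P).index = q) : commutator P = ⊥ := by
  haveI := Fact.mk hq
  obtain ⟨x, hx⟩ : ∃ x, x ∉ commutator P := by
    by_contra h
    push Not at h
    rw [(eq_top_iff.2 fun a _ => h a : commutator P = ⊤), Subgroup.index_top] at hidx
    exact hq.ne_one hidx.symm
  have hcyc : Subgroup.zpowers x = ⊤ := by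
    by_contra hne
    obtain ⟨M, hM, hxM⟩ := (eq_top_or_exists_le_coatom (Subgroup.zpowers x)).resolve_left hne
    haveI := hP.isNilpotent
    haveI hMn : M.Normal := Subgroup.NormalizerCondition.normal_of_coatom M Group.normalizerCondition_of_isNilpotent hM
    haveI : Nontrivial (P ⧸ M) := by
      rw [← Finite.one_lt_card_iff_nontrivial, ← Subgroup.index_eq_card]
      exact Subgroup.one_lt_index_of_ne_top hM.1
    have hcen := (hP.to_quotient M).center_nontrivial
    have hZ : (Subgroup.center (P ⧸ M)).comap (QuotientGroup.mk' M) = ⊤ := by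
      refine hM.2 _ (lt_of_le_of_ne (fun m hm => ?_) fun h => ?_)
      · rw [Subgroup.mem_comap, QuotientGroup.mk'_apply, (QuotientGroup.eq_one_iff m).2 hm]
        exact one_mem _
      · have h' := congrArg (Subgroup.map (QuotientGroup.mk' M)) h
        rw [Subgroup.map_comap_eq_self_of_surjective (QuotientGroup.mk'_surjective M),
          QuotientGroup.map_mk'_self] at h'
        exact (Subgroup.nontrivial_iff_ne_bot _).1 hcen h'.symm
    have hle : commutator P ≤ M := by
      rw [commutator_def, Subgroup.commutator_le]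
      intro a _ b _
      rw [← QuotientGroup.eq_one_iff, ← QuotientGroup.mk'_apply, map_commutatorElement,
        commutatorElement_eq_one_iff_mul_comm]
      have ha : QuotientGroup.mk' M a ∈ Subgroup.center _ := by
        rw [← Subgroup.mem_comap, hZ]; trivial
      exact (Subgroup.mem_center_iff.1 ha _).symm
    have h1 : M.index = q := ((Nat.dvd_prime hq).1 (hidx ▸ Subgroup.index_dvd_of_le hle)).resolve_left
      fun h => hM.1 (Subgroup.index_eq_one.1 h)
    have e1 := Subgroup.relIndex_mul_index hle
    rw [h1, hidx] at e1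
    exact hx (Subgroup.relIndex_eq_one.1 ((Nat.mul_eq_right hq.ne_zero).1 e1)
      (hxM (Subgroup.mem_zpowers x)))
  rw [commutator_def, Subgroup.commutator_eq_bot_iff_le_centralizer]
  intro a _
  rw [Subgroup.mem_centralizer_iff]
  intro b _
  obtain ⟨i, rfl⟩ := Subgroup.mem_zpowers_iff.1 (hcyc ▸ Subgroup.mem_top a : a ∈ Subgroup.zpowers x)
  obtain ⟨j, rfl⟩ := Subgroup.mem_zpowers_iff.1 (hcyc ▸ Subgroup.mem_top b : b ∈ Subgroup.zpowers x)
  exact (Commute.refl x).zpow_zpow j i

theorem coprime_of_nilpotent (hnil : Group.IsNilpotent ↥(commutator G)) (hq : (commutator G).index.Prime) :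
    (Nat.card ↥(commutator G)).Coprime (commutator G).index := by
  set C := commutator G with hC
  set q := C.index with hqd
  haveI := Fact.mk hq
  rw [Nat.coprime_comm, hq.coprime_iff_not_dvd]
  intro hdvd
  haveI := hnil
  haveI := PBasic.pPrimeCore_characteristic q C
  set N := (Cfsg.pPrimeCore q C).map C.subtype with hN
  have hNc : (Nat.card N).Coprime q :=
    Nat.Coprime.coprime_dvd_left (Subgroup.card_map_dvd _ _) (PBasic.pPrimeCore_coprime q C)
  haveI : N.Normal := inferInstance
  set f := QuotientGroup.mk' N with hf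
  have hfs : Function.Surjective f := QuotientGroup.mk'_surjective N
  have hP : IsPGroup q (G ⧸ N) := by
    refine IsPGroup.of_card (Nat.eq_prime_pow_of_unique_prime_dvd Nat.card_pos.ne' fun {r} hr hd => ?_)
    by_contra hne
    haveI := Fact.mk hr
    have hidx : Nat.card (G ⧸ N) = C.index * (Cfsg.pPrimeCore q C).index := by
      rw [← Subgroup.index_eq_card, hN, Subgroup.index_map_subtype, mul_comm]
    rw [hidx] at hd
    rcases hr.dvd_mul.1 hd with h | h
    · exact hne ((Nat.prime_dvd_prime_iff_eq hr hq).1 h)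
    · obtain ⟨R⟩ : Nonempty (Sylow r C) := inferInstance
      haveI hRn : (R : Subgroup C).Normal :=
        Sylow.normal_of_normalizerCondition Group.normalizerCondition_of_isNilpotent R
      have hle : (R : Subgroup C) ≤ Cfsg.pPrimeCore q C := by
        refine AxB.le_pPrimeCore hRn ?_
        obtain ⟨k, hk⟩ := IsPGroup.iff_card.1 R.isPGroup'
        rw [hk]
        exact Nat.Coprime.pow_left k ((Nat.coprime_primes hr hq).2 hne)
      exact R.not_dvd_index (h.trans (Subgroup.index_dvd_of_le hle))
  have hCf : commutator (G ⧸ N) = C.map f := by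
    rw [commutator_def, hC, commutator_def, Subgroup.map_commutator, Subgroup.map_top_of_surjective f hfs]
  have hNC : N ≤ C := Subgroup.map_subtype_le _
  have hbot := commutator_eq_bot_of_index hq hP (by
    rw [hCf, Subgroup.index_map, QuotientGroup.ker_mk', sup_eq_left.2 hNC,
      MonoidHom.range_eq_top.2 hfs, Subgroup.index_top, mul_one])
  rw [hCf, Subgroup.map_eq_bot_iff, QuotientGroup.ker_mk'] at hbot
  exact hq.not_dvd_one (hNc ▸ Nat.dvd_gcd (hdvd.trans (Subgroup.card_dvd_of_le hbot)) dvd_rfl)

/-- Let G be a finite solvable group. (a) If H is a normal subgroup of order coprime to its index, K is a complement to H, and H ≤ G', then H = [H, K] and H ∩ C_G(K) ≤ [H, H]. (b) If G' is nilpotent and has prime index in G, then the order of G' is coprime to its index and G' = [G, K] (the subgroup generated by commutators of elements of G with elements of K) for every complement K of G'. -/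
theorem result {G : Type*} [Group G] [Finite G] [Group.IsSolvable G] :
    (∀ (H K : Subgroup G), H.Normal → (Nat.card H).Coprime H.index → Subgroup.IsComplement' H K → H ≤ commutator G →
        H = ⁅H, K⁆ ∧ H ⊓ Subgroup.centralizer (K : Set G) ≤ ⁅H, H⁆) ∧
      (Group.IsNilpotent ↥(commutator G) → (commutator G).index.Prime →
        (Nat.card ↥(commutator G)).Coprime (commutator G).index ∧
        ∀ K : Subgroup G, Subgroup.IsComplement' (commutator G) K → commutator G = ⁅(⊤ : Subgroup G), K⁆) := by
  refine ⟨partA, fun hnil hq => ?_⟩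
  have hc := coprime_of_nilpotent hnil hq
  refine ⟨hc, fun K hK => ?_⟩
  obtain ⟨h1, -⟩ := partA (commutator G) K inferInstance hc hK le_rfl
  refine le_antisymm (h1.le.trans (Subgroup.commutator_mono le_top le_rfl)) ?_
  rw [commutator_def]
  exact Subgroup.commutator_mono le_rfl le_top

end Cfsg.Agent.S1459
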