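import Cfsg.Statements.S1405
import Cfsg.Agent.Lib.OddOrder.Sigma

set_option autoImplicit false
open Cfsg

namespace Cfsg.Agent.S1405

/-- Let G be a minimal simple group of odd order and M a maximal subgroup, α(M) the set of primes p with M of p-rank at least 3, and M_α = O_{α(M)}(M). Then M_α is a Hall α(M)-subgroup of M and of G, M_α ≤ M_σ, the quotient M/M_α has no elementary abelian subgroup of order p ^ 3 for any prime p, and the image of M' in M/M_α is nilpotent. -/
theorem result {G : Type*} [Group G] [Finite G] (hG : Cfsg.IsMinSimpleOddOrder G)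
    (M : Subgroup G) (hM : IsCoatom M) :
    Cfsg.IsPiHallOf (Cfsg.alpha M) (Cfsg.alphaCore M) M ∧ Cfsg.IsPiHall (Cfsg.alpha M) (Cfsg.alphaCore M) ∧
      Cfsg.alphaCore M ≤ Cfsg.sigmaCore M ∧ Cfsg.RankLE 2 (↥M ⧸ Cfsg.piCore (Cfsg.alpha M) ↥M) ∧
      Group.IsNilpotent ↥((commutator ↥M).map (QuotientGroup.mk' (Cfsg.piCore (Cfsg.alpha M) ↥M))) := by
  have hsub : Cfsg.alpha M ⊆ Cfsg.sigma M := fun q hq => OddOrder.Sigma.alpha_subset_sigma hG hM hq
  obtain ⟨h1, h2⟩ := OddOrder.Sigma.hall hG hM subset_rfl hsub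
  refine ⟨h1, h2, Subgroup.map_mono (sSup_le fun N hN => le_sSup
    ⟨hN.1, fun r hr hd => hsub (hN.2 r hr hd)⟩), fun q hq => ?_, ?_⟩
  · haveI := Fact.mk hq
    by_cases hα : q ∈ Cfsg.alpha M
    · intro B hB hBp
      obtain ⟨k, hk⟩ := IsPGroup.iff_card.1 (show IsPGroup q B from fun x => ⟨1, Subtype.ext (by simpa using hBp x x.2)⟩)
      rcases Nat.eq_zero_or_pos k with rfl | hk0
      · rw [hk, pow_zero]; exact Nat.one_le_pow _ _ hq.pos
      · refine absurd ?_ (h1.2.2 q hq hα)
        have hd := (hk ▸ dvd_pow_self q hk0.ne').trans B.card_subgroup_dvd_card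
        rw [← Subgroup.index_eq_card] at hd
        rwa [Cfsg.piCoreOf, Subgroup.relIndex, Subgroup.subgroupOf, Subgroup.comap_map_eq_self_of_injective M.subtype_injective]
    · exact OddOrder.Sigma.rank_quotient_of_not_alpha hq hα
  · haveI := FittingCores.fitting_nilpotent (G := M ⧸ Cfsg.piCore (Cfsg.alpha M) M)
    have hle : (commutator M).map (QuotientGroup.mk' (Cfsg.piCore (Cfsg.alpha M) M)) ≤
        Cfsg.fittingSubgroup (M ⧸ Cfsg.piCore (Cfsg.alpha M) M) := by
      refine le_trans ?_ (OddOrder.Sigma.commutator_le_fitting_quotient hG hM)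
      rw [commutator_def, Subgroup.map_commutator]
      exact Subgroup.commutator_mono le_top le_top
    exact (Group.isNilpotent_congr (Subgroup.subgroupOfEquivOfLe hle)).1 inferInstance

end Cfsg.Agent.S1405
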