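import Cfsg.Statements.S1408
import Cfsg.Agent.Lib.OddOrder.Sigma

set_option autoImplicit false
open Cfsg

namespace Cfsg.Agent.S1408

/-- Let G be a minimal simple group of odd order, M a maximal subgroup, and p a prime not in σ(M) such that M has p-rank exactly 2. Then p is not an ideal prime for G, and every elementary abelian subgroup of M of order p ^ 2 is maximal among elementary abelian p-subgroups of G. -/
theorem result {G : Type*} [Group G] [Finite G] (hG : Cfsg.IsMinSimpleOddOrder G)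
    (M : Subgroup G) (hM : IsCoatom M) (p : ℕ) [Fact p.Prime] (hp : p ∉ Cfsg.sigma M) (hr2 : Cfsg.PRankLE p 2 M) (hr1 : ¬ Cfsg.PRankLE p 1 M) :
    ¬ Cfsg.IsIdealPrime p G ∧ ∀ A : Subgroup G, A ≤ M → Cfsg.IsElementaryAbelian p A → Nat.card A = p ^ 2 →
        ∀ B : Subgroup G, Cfsg.IsElementaryAbelian p B → A ≤ B → B = A := by
  classical
  have hp' : p.Prime := Fact.out
  have key : ∀ A : Subgroup G, A ≤ M → Cfsg.IsElementaryAbelian p A → Nat.card A = p ^ 2 →
      ∀ B : Subgroup G, Cfsg.IsElementaryAbelian p B → A ≤ B → B = A := by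
    intro A hAM hAe hA2 B hBe hAB
    by_contra hne
    have hlt : Nat.card A < Nat.card B := lt_of_le_of_ne (Subgroup.card_le_of_le hAB)
      fun h => hne (Subgroup.eq_of_le_of_card_ge hAB h.ge).symm
    obtain ⟨k, hk⟩ := IsPGroup.iff_card.1 (OddOrder.UniqProp.isPGroup_of_elementary hBe)
    have hB3 : p ^ 3 ≤ Nat.card B := by
      rw [hA2, hk] at hlt
      rw [hk]
      exact Nat.pow_le_pow_right hp'.pos ((Nat.pow_lt_pow_iff_right hp'.one_lt).1 hlt)
    have hAp : p < Nat.card A := by rw [hA2, pow_two]; exact lt_mul_of_one_lt_left hp'.pos hp'.one_lt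
    haveI := hBe.1
    have hAU : Cfsg.InUniqueMaximal A := OddOrder.UniqProp.pass hG (OddOrder.ScnUniq.allUniq_of_rank hG hBe hB3 B hBe hB3)
      (hAB.trans (Subgroup.le_centralizer B)) le_rfl hAe hAp
    obtain ⟨S, hS⟩ := ((OddOrder.UniqProp.isPGroup_of_elementary hAe).comap_subtype (K := M)).exists_le_sylow
    have hAS : A ≤ (S : Subgroup M).map M.subtype := fun a ha => ⟨⟨a, hAM ha⟩, hS ha, rfl⟩
    refine hp ⟨hp', ?_, S, OddOrder.ScnBasics.le_of_uniq hAU hM hAM (hAS.trans Subgroup.le_normalizer)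
      (OddOrder.MinSimple.normalizer_ne_top hG (fun h => ?_) (OddOrder.MinSimple.pSubgroup_ne_top hG (S.isPGroup'.map _)))⟩
    · exact (hA2 ▸ dvd_pow_self p two_ne_zero).trans (Subgroup.card_dvd_of_le hAM)
    · rw [h, le_bot_iff] at hAS
      rw [hAS, Subgroup.card_bot] at hAp
      exact absurd hAp (not_lt.2 hp'.one_le)
  refine ⟨fun hI => ?_, key⟩
  unfold Cfsg.PRankLE at hr1
  push Not at hr1
  obtain ⟨A₀, hA₀c, hA₀p, hA₀⟩ := hr1
  haveI := hA₀c
  set A := A₀.map M.subtype with hA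
  have hAe : Cfsg.IsElementaryAbelian p A := ⟨inferInstance, by
    rintro _ ⟨a, ha, rfl⟩
    rw [← map_pow, hA₀p a ha, map_one]⟩
  have hAc : Nat.card A = Nat.card A₀ := Subgroup.card_map_of_injective M.subtype_injective
  have hA2 : Nat.card A = p ^ 2 := by
    rw [pow_one] at hA₀
    obtain ⟨k, hk⟩ := IsPGroup.iff_card.1 (OddOrder.UniqProp.isPGroup_of_elementary hAe)
    have hle := hr2 A₀ hA₀c hA₀p
    rw [← hAc, hk] at hle hA₀
    have h1 := (Nat.pow_le_pow_iff_right hp'.one_lt).1 hle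
    have h2 : 1 < k := (Nat.pow_lt_pow_iff_right hp'.one_lt).1 (by rwa [pow_one])
    rw [hk, show k = 2 by omega]
  obtain ⟨P, hP⟩ := (OddOrder.UniqProp.isPGroup_of_elementary hAe).exists_le_sylow
  obtain ⟨B, -, hBe, hAB⟩ := hI.2.2 P A hP hAe hA2
  exact hAB.ne (key A (Subgroup.map_subtype_le _) hAe hA2 B hBe hAB.le).symm

end Cfsg.Agent.S1408
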