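import Cfsg.Statements.S1409
import Cfsg.Agent.S1408

set_option autoImplicit false
open Cfsg

namespace Cfsg.Agent.S1409

/-- Let G be a minimal simple group of odd order, M a maximal subgroup, p a prime not in σ(M), and X a subgroup of order p with N_G(X) ≤ M. Then M has p-rank exactly 2, p is not an ideal prime for G, and X is contained in some elementary abelian subgroup of G of order p ^ 2. -/
theorem result {G : Type*} [Group G] [Finite G] (hG : Cfsg.IsMinSimpleOddOrder G)
    (M : Subgroup G) (hM : IsCoatom M) (p : ℕ) [Fact p.Prime] (hp : p ∉ Cfsg.sigma M) (X : Subgroup G) (hX : Nat.card X = p)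
    (hNX : Subgroup.normalizer (X : Set G) ≤ M) :
    (Cfsg.PRankLE p 2 M ∧ ¬ Cfsg.PRankLE p 1 M) ∧ ¬ Cfsg.IsIdealPrime p G ∧
      ∃ A : Subgroup G, Cfsg.IsElementaryAbelian p A ∧ Nat.card A = p ^ 2 ∧ X ≤ A := by
  classical
  have hp' : p.Prime := Fact.out
  have hX1 : X ≠ ⊥ := fun h => by rw [h, Subgroup.card_bot] at hX; exact hp'.one_lt.ne hX
  have hXM : X ≤ M := Subgroup.le_normalizer.trans hNX
  have hXp : IsPGroup p X := IsPGroup.of_card (n := 1) (by rw [hX, pow_one])
  have hpM : p ∣ Nat.card M := hX ▸ Subgroup.card_dvd_of_le hXM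
  have hr2 : Cfsg.PRankLE p 2 M := by
    by_contra h
    exact hp (OddOrder.Sigma.alpha_subset_sigma hG hM ⟨hp', h⟩)
  have hp2 : p ≠ 2 := OddOrder.Uniq.ne_two_of_dvd hG (hpM.trans M.card_subgroup_dvd_card)
  obtain ⟨S, hS⟩ := (hXp.comap_subtype (K := M)).exists_le_sylow
  set P := (S : Subgroup M).map M.subtype with hP
  have hXP : X ≤ P := fun x hx => ⟨⟨x, hXM hx⟩, hS hx, rfl⟩
  have hnc : ¬ IsCyclic (S : Subgroup M) := by
    intro hc
    haveI : IsCyclic P := isCyclic_of_surjective
      ((S : Subgroup M).equivMapOfInjective M.subtype M.subtype_injective).toMonoidHom (MulEquiv.surjective _)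
    refine hp ⟨hp', hpM, S, fun n hn => hNX ?_⟩
    set c := X.map (MulAut.conj n).toMonoidHom with hc'
    have hcP : c ≤ P := (Subgroup.map_mono hXP).trans (Subgroup.mem_normalizer_iff_map_conj_eq.1 hn).le
    have hPc : IsMulCommutative P := ⟨⟨fun a b => (IsCyclic.commGroup).mul_comm a b⟩⟩
    set O := OddOrder.ScnBasics.omega p P hPc with hO
    haveI : IsCyclic O := isCyclic_of_injective (Subgroup.inclusion (OddOrder.ScnBasics.omega_le p P hPc))
      (Subgroup.inclusion_injective _)
    have hOle : Nat.card O ≤ p := by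
      by_contra hh
      exact OddOrder.ScnBasics.not_isCyclic_of_elementary (OddOrder.ScnBasics.omega_elementary P hPc) (not_le.1 hh) inferInstance
    have hin : ∀ Y : Subgroup G, Y ≤ P → Nat.card Y = p → Y = O := fun Y hY hYc => by
      refine Subgroup.eq_of_le_of_card_ge (fun y hy => ⟨hY hy, ?_⟩) (hYc.symm ▸ hOle)
      have := congrArg Subtype.val (pow_card_eq_one' (G := Y) (x := ⟨y, hy⟩))
      rwa [hYc] at this
    rw [Subgroup.mem_normalizer_iff_map_conj_eq]
    exact (hin c hcP (by rw [hc', Subgroup.card_map_of_injective (MulAut.conj n).injective, hX])).trans (hin X hXP hX).symm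
  obtain ⟨W, hWn, hWe, hW2⟩ := S0126.result hp2 S.isPGroup' hnc
  haveI := hWe.1
  set W' := (W.map (S : Subgroup M).subtype).map M.subtype with hW'
  have hW'e : Cfsg.IsElementaryAbelian p W' := ⟨inferInstance, by
    rintro _ ⟨_, ⟨a, ha, rfl⟩, rfl⟩
    rw [← map_pow, ← map_pow, hWe.2 a ha, map_one, map_one]⟩
  have hW'2 : Nat.card W' = p ^ 2 := by
    rw [hW', Subgroup.card_map_of_injective M.subtype_injective,
      Subgroup.card_map_of_injective (Subgroup.subtype_injective _), hW2]
  have hW'M : W' ≤ M := Subgroup.map_subtype_le _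
  have hr1 : ¬ Cfsg.PRankLE p 1 M := by
    intro h
    have := h (W.map (S : Subgroup M).subtype) inferInstance (by
      rintro _ ⟨a, ha, rfl⟩
      rw [← map_pow, hWe.2 a ha, map_one])
    rw [Subgroup.card_map_of_injective (Subgroup.subtype_injective _), hW2, pow_one, pow_two] at this
    exact absurd this (not_le.2 (lt_mul_of_one_lt_left hp'.pos hp'.one_lt))
  refine ⟨⟨hr2, hr1⟩, (S1408.result hG M hM p hp hr2 hr1).1, ?_⟩
  by_cases hXW : X ≤ W'
  · exact ⟨W', hW'e, hW'2, hXW⟩
  haveI := hWn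
  haveI : Group.IsNilpotent (S : Subgroup M) := S.isPGroup'.isNilpotent
  have hWne : W ≠ ⊥ := fun h => by
    rw [h, Subgroup.card_bot] at hW2
    exact absurd hW2.symm (Nat.one_lt_pow two_ne_zero hp'.one_lt).ne'
  obtain ⟨w, hw, hw1⟩ := ((W ⊓ Subgroup.center _).bot_or_exists_ne_one).resolve_left
    (SolvStruct.inf_center_ne_bot hWne)
  set w' : G := ((w : M) : G) with hw'
  have hw'W : w' ∈ W' := ⟨_, ⟨w, hw.1, rfl⟩, rfl⟩
  have hw'o : orderOf w' = p := by
    rw [hw', Subgroup.orderOf_coe, Subgroup.orderOf_coe]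
    exact orderOf_eq_prime (hWe.2 w hw.1) hw1
  have hwc : ∀ x ∈ X, x * w' = w' * x := by
    intro x hx
    exact congrArg (fun u : (S : Subgroup M) => ((u : M) : G))
      (Subgroup.mem_center_iff.1 hw.2 ⟨⟨x, hXM hx⟩, hS hx⟩)
  have hXc : IsMulCommutative X := by
    haveI := isCyclic_of_prime_card hX
    exact ⟨⟨fun a b => (IsCyclic.commGroup).mul_comm a b⟩⟩
  set A := X ⊔ Subgroup.zpowers w' with hA
  have h1 : Subgroup.zpowers w' ≤ Subgroup.centralizer (X : Set G) :=
    Subgroup.zpowers_le.2 (Subgroup.mem_centralizer_iff.2 hwc)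
  have hcomm : A ≤ Subgroup.centralizer (A : Set G) := by
    haveI := hXc
    exact sup_le (Subgroup.le_centralizer_iff.1 (sup_le (Subgroup.le_centralizer X) h1))
      (Subgroup.le_centralizer_iff.1 (sup_le (Subgroup.le_centralizer_iff.1 h1) (Subgroup.le_centralizer _)))
  have hAc : IsMulCommutative A :=
    .of_setLike_mul_comm fun u hu v hv => Subgroup.mem_centralizer_iff.1 (hcomm hv) u hu
  have hle : A ≤ OddOrder.ScnBasics.omega p A hAc :=
    sup_le (fun x hx => ⟨Subgroup.mem_sup_left hx, by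
        have := congrArg Subtype.val (pow_card_eq_one' (G := X) (x := ⟨x, hx⟩))
        rwa [hX] at this⟩)
      (Subgroup.zpowers_le.2 ⟨Subgroup.mem_sup_right (Subgroup.mem_zpowers w'), hw'o ▸ pow_orderOf_eq_one w'⟩)
  have hAe : Cfsg.IsElementaryAbelian p A := ⟨hAc, fun u hu => (hle hu).2⟩
  have hlt : p < Nat.card A := by
    refine hX ▸ lt_of_le_of_ne (Subgroup.card_le_of_le le_sup_left) fun h => hXW ?_
    have hwX : w' ∈ X := (Subgroup.eq_of_le_of_card_ge le_sup_left h.ge).ge
      (Subgroup.mem_sup_right (Subgroup.mem_zpowers w'))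
    have : Subgroup.zpowers w' = X := Subgroup.eq_of_le_of_card_ge (Subgroup.zpowers_le.2 hwX)
      (by rw [Nat.card_zpowers, hw'o, hX])
    exact this ▸ Subgroup.zpowers_le.2 hw'W
  refine ⟨A, hAe, ?_, le_sup_left⟩
  have hle2 : Nat.card A ≤ p * p := by
    refine (TI.card_sup_le_of_le_normalizer ((Subgroup.le_centralizer_iff.1 h1).trans
      (Subgroup.centralizer_le_normalizer _))).trans ?_
    rw [hX, Nat.card_zpowers, hw'o]
  obtain ⟨k, hk⟩ := IsPGroup.iff_card.1 (OddOrder.UniqProp.isPGroup_of_elementary hAe)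
  rw [hk] at hlt hle2
  rw [← pow_two] at hle2
  have h2 := (Nat.pow_le_pow_iff_right hp'.one_lt).1 hle2
  have h3 : 1 < k := (Nat.pow_lt_pow_iff_right hp'.one_lt).1 (by rwa [pow_one])
  rw [hk, show k = 2 by omega]

end Cfsg.Agent.S1409
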