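import Cfsg.Statements.S1451
import Cfsg.Agent.Lib.OddOrder.DerivedNilpotent
import Cfsg.Agent.Lib.OddOrder.MinSimple

set_option autoImplicit false
open Cfsg

namespace Cfsg.Agent.S1451

open scoped commutatorElement

/-- Let G be a solvable group of odd order such that G, or its Fitting subgroup, has no elementary abelian subgroup of order q ^ 3 for any prime q. Then G' is nilpotent; for every Sylow subgroup S of G, every characteristic subgroup T of S with T ≤ [S, S] is normal in G; and for every prime p, G has a characteristic subgroup that is a Hall subgroup for the set of primes greater than p. -/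
theorem result {G : Type*} [Group G] [Finite G] [Group.IsSolvable G] (hodd : Odd (Nat.card G)) (hr : Cfsg.RankLE 2 G ∨ Cfsg.RankLE 2 (Cfsg.fittingSubgroup G)) :
    Group.IsNilpotent ↥(commutator G) ∧
      (∀ (q : ℕ) [Fact q.Prime] (S : Sylow q G) (T : Subgroup ↥(S : Subgroup G)), T.Characteristic → T.map (S : Subgroup G).subtype ≤ ⁅(S : Subgroup G), (S : Subgroup G)⁆ →
        (T.map (S : Subgroup G).subtype).Normal) ∧
      ∀ p : ℕ, ∃ N : Subgroup G, N.Characteristic ∧ Cfsg.IsPiHall {q | q.Prime ∧ p < q} N := by
  classical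
  have hF : ∀ r : ℕ, r.Prime → Cfsg.PRankLE r 2 ↥(Cfsg.fittingSubgroup G) := by
    intro r hr'
    haveI := Fact.mk hr'
    rcases hr with h | h
    · exact OddOrder.RankTwo.prankLE_mono (h r hr')
    · exact h r hr'
  have hcore : ∀ r : ℕ, r.Prime → Cfsg.PRankLE r 2 ↥(Cfsg.pCore r G) := by
    intro r hr' B hB hBp
    haveI := hB
    have hle := FittingCores.pCore_le_fitting (G := G) hr'
    have := hF r hr' (B.map (Subgroup.inclusion hle)) inferInstance (by
      rintro _ ⟨b, hb, rfl⟩
      rw [← map_pow, hBp b hb, map_one])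
    rwa [Subgroup.card_map_of_injective (Subgroup.inclusion_injective hle)] at this
  have hDF := OddOrder.DerivedNil.commutator_le_fitting hodd hF
  haveI hnil := OddOrder.DerivedNil.isNilpotent_commutator hodd hF
  have hFi := FittingCores.fitting_eq_iSup_pCore (G := G)
  refine ⟨hnil, fun q _ S T hT hle => ?_, fun p => ?_⟩
  · -- characteristic subgroups of `S` inside `S'` are normal
    set T' := T.map (S : Subgroup G).subtype with hT'
    have hSD : ⁅(S : Subgroup G), (S : Subgroup G)⁆ ≤ commutator G :=
      Subgroup.commutator_mono le_top le_top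
    have hTq : IsPGroup q T' := (S.isPGroup'.to_subgroup T).map _
    have hTO : T' ≤ Cfsg.pCore q G := by
      obtain ⟨W, hW⟩ := (hTq.comap_subtype (K := commutator G)).exists_le_sylow
      intro t ht
      exact FittingCores.sylow_le_pCore_of_nilpotent inferInstance q W
        ⟨⟨t, hSD (hle ht)⟩, hW ht, rfl⟩
    have hN : Subgroup.normalizer ((S : Subgroup G) : Set G) ≤ Subgroup.normalizer (T' : Set G) := by
      have key : ∀ g ∈ Subgroup.normalizer ((S : Subgroup G) : Set G), ∀ t ∈ T', g * t * g⁻¹ ∈ T' := by
        intro g hg t ht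
        obtain ⟨s, hs, rfl⟩ := ht
        let φ : (S : Subgroup G) ≃* (S : Subgroup G) :=
          ((MulAut.conj g).subgroupMap (S : Subgroup G)).trans
            (MulEquiv.subgroupCongr (AxB.map_conj_eq_of_mem_normalizer hg))
        have h1 : φ s ∈ T := by
          rw [← hT.fixed φ] at hs
          exact hs
        exact ⟨φ s, h1, rfl⟩
      intro g hg
      refine Subgroup.mem_normalizer_iff.2 fun t => ⟨key g hg t, fun h => ?_⟩
      simpa [mul_assoc] using key g⁻¹ (inv_mem hg) _ h
    have hFN : Cfsg.fittingSubgroup G ≤ Subgroup.normalizer (T' : Set G) := by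
      rw [hFi]
      refine iSup_le fun r => ?_
      by_cases hrq : (r : ℕ) = q
      · rw [hrq]
        exact (FittingCores.pCore_le_sylow S).trans (Subgroup.le_normalizer.trans hN)
      · refine le_trans (fun x hx => Subgroup.mem_centralizer_iff.2 fun y hy => ?_)
          ((Subgroup.centralizer_le hTO).trans (Subgroup.centralizer_le_normalizer _))
        haveI := Fact.mk r.2
        haveI := FittingCores.pCore_normal (G := G) q
        haveI := FittingCores.pCore_normal (G := G) (r : ℕ)
        exact (AxB.commute_of_coprime Subgroup.le_normalizer_of_normal Subgroup.le_normalizer_of_normal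
          (IsPGroup.coprime_card_of_ne (r : ℕ) q hrq _ _ (FittingCores.pCore_isPGroup (r : ℕ))
            (FittingCores.pCore_isPGroup q)) hx hy).symm
    rw [← Subgroup.normalizer_eq_top_iff]
    set H := (S : Subgroup G) ⊔ commutator G with hH
    haveI : H.Normal := Subgroup.Normal.of_commutator_le G le_sup_right
    have h1 := Sylow.normalizer_sup_eq_top (S.subtype (le_sup_left : (S : Subgroup G) ≤ H))
    rw [Sylow.coe_subtype, Subgroup.map_subgroupOf_eq_of_le le_sup_left] at h1
    exact top_unique (h1.ge.trans (sup_le hN (sup_le (Subgroup.le_normalizer.trans hN) (hDF.trans hFN))))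
  · -- the Hall subgroup for the primes greater than `p`
    set π : Set ℕ := {q | q.Prime ∧ p < q} with hπ
    set N := Cfsg.piCore π G with hN
    have hchar : N.Characteristic := Subgroup.characteristic_iff_map_le.2 fun φ => by
      refine le_sSup ⟨Subgroup.Normal.map (Cfsg.piCore_normal π G) _ φ.surjective, fun r hr' hd => ?_⟩
      exact OddOrder.MinSimple.isPi_piCore π G r hr' (hd.trans (Subgroup.card_map_dvd _ _))
    refine ⟨N, hchar, OddOrder.MinSimple.isPi_piCore π G, fun q hq hqπ hdiv => ?_⟩
    haveI := Fact.mk hq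
    obtain ⟨S⟩ : Nonempty (Sylow q G) := inferInstance
    have hpq : p < q := hqπ.2
    suffices hSN : (S : Subgroup G) ≤ N from
      S.not_dvd_index (hdiv.trans (Subgroup.index_dvd_of_le hSN))
    set K := ⨆ (r : Nat.Primes) (_ : (r : ℕ) ∉ π), Cfsg.pCore r G with hK
    -- `S` centralizes the Fitting components of the small primes
    have hSC : ∀ x ∈ (S : Subgroup G), ∀ b ∈ K, x * b = b * x := by
      intro x hx b hb
      have hle : K ≤ Subgroup.centralizer ({x} : Set G) := by
        refine iSup₂_le fun r hrπ y hy => Subgroup.mem_centralizer_singleton_iff.2 ?_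
        have hrp : (r : ℕ) ≤ p := by
          by_contra h
          exact hrπ ⟨r.2, by omega⟩
        haveI := Fact.mk r.2
        haveI := FittingCores.pCore_normal (G := G) (r : ℕ)
        rcases eq_or_ne (r : ℕ) 2 with hr2 | hr2
        · obtain ⟨k, hk⟩ := IsPGroup.iff_card.1 (FittingCores.pCore_isPGroup (G := G) (r : ℕ))
          have hk0 : k = 0 := by
            by_contra hk0
            have h2 := (hk ▸ dvd_pow_self (r : ℕ) hk0).trans (Subgroup.card_subgroup_dvd_card _)
            exact Nat.not_even_iff_odd.2 hodd (even_iff_two_dvd.2 (hr2 ▸ h2))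
          rw [hk0, pow_zero, Subgroup.card_eq_one] at hk
          rw [hk, Subgroup.mem_bot] at hy
          rw [hy, one_mul, mul_one]
        set f := MulAut.conjNormal (H := Cfsg.pCore r G) with hf
        have hfx : f x = 1 := by
          by_contra hne
          obtain ⟨j, hj⟩ := IsPGroup.iff_orderOf.1 S.isPGroup' ⟨x, hx⟩
          rw [Subgroup.orderOf_mk] at hj
          obtain ⟨i, -, hi⟩ := (Nat.dvd_prime_pow hq).1 (hj ▸ orderOf_map_dvd f x)
          have hi0 : i ≠ 0 := fun h => hne (orderOf_eq_one_iff.1 (by rw [hi, h, pow_zero]))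
          obtain ⟨i', rfl⟩ := Nat.exists_eq_succ_of_ne_zero hi0
          have hord : orderOf (f x ^ q ^ i') = q := by
            rw [orderOf_pow_of_dvd (pow_ne_zero _ hq.ne_zero) (hi ▸ pow_dvd_pow q (Nat.le_succ i')), hi,
              pow_succ, Nat.mul_div_cancel_left _ (pow_pos hq.pos i')]
          have := (OddOrder.RankTwoAut.aut_prime hr2 (FittingCores.pCore_isPGroup (r : ℕ)) (hcore r r.2) hq
            (by omega) hord).2
          omega
        have h2 := congrArg Subtype.val (DFunLike.congr_fun hfx ⟨y, hy⟩)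
        rw [MulAut.conjNormal_apply, MulAut.one_apply] at h2
        calc y * x = x * y * x⁻¹ * x := by rw [h2]
          _ = x * y := inv_mul_cancel_right _ _
      exact (Subgroup.mem_centralizer_singleton_iff.1 (hle hb)).symm
    haveI : K.Normal := by
      have := fun r : Nat.Primes => FittingCores.pCore_normal (G := G) r
      exact Subgroup.iSup_normal _
    haveI : N.Normal := Cfsg.piCore_normal π G
    have hKq : K ≤ Cfsg.pPrimeCore q G :=
      iSup₂_le fun r hrπ => FittingCores.pCore_le_pPrimeCore hq r.2 fun h => hrπ (h ▸ hqπ)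
    have hFK : Cfsg.fittingSubgroup G ≤ N ⊔ K := by
      rw [hFi]
      refine iSup_le fun r => ?_
      by_cases hrπ : (r : ℕ) ∈ π
      · refine le_sup_of_le_left (le_sSup ⟨FittingCores.pCore_normal _, fun s hs hd => ?_⟩)
        haveI := Fact.mk r.2
        obtain ⟨k, hk⟩ := IsPGroup.iff_card.1 (FittingCores.pCore_isPGroup (G := G) (r : ℕ))
        exact ((Nat.prime_dvd_prime_iff_eq hs r.2).1 (hs.dvd_of_dvd_pow (hk ▸ hd))).symm ▸ hrπ
      · exact le_sup_of_le_right (le_iSup₂_of_le r hrπ le_rfl)
    set f := QuotientGroup.mk' N with hf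
    haveI : ((S : Subgroup G) ⊔ N).Normal := by
      refine ⟨fun w hw g => ?_⟩
      obtain ⟨x, hx, n, hn, rfl⟩ := Subgroup.mem_sup_of_normal_right.1 hw
      rw [show g * (x * n) * g⁻¹ = g * x * g⁻¹ * (g * n * g⁻¹) by group]
      refine mul_mem ?_ (Subgroup.mem_sup_right (Subgroup.Normal.conj_mem inferInstance n hn g))
      have hc : ⁅g, x⁆ ∈ N ⊔ K :=
        hFK (hDF (Subgroup.commutator_mem_commutator (Subgroup.mem_top g) (Subgroup.mem_top x)))
      obtain ⟨a, ha, b, hb, hab⟩ := Subgroup.mem_sup_of_normal_left.1 hc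
      have hy : g * x * g⁻¹ = a * (b * x) := by
        rw [← mul_assoc, hab, commutatorElement_def]; group
      obtain ⟨j, hj⟩ := IsPGroup.iff_orderOf.1 S.isPGroup' ⟨x, hx⟩
      rw [Subgroup.orderOf_mk] at hj
      have hfy : f (g * x * g⁻¹) = f b * f x := by
        rw [hy, map_mul, map_mul, show f a = 1 from (QuotientGroup.eq_one_iff a).2 ha, one_mul]
      have hcomm : Commute (f b) (f x) := Commute.map (hSC x hx b hb).symm f
      have hfb : f b = 1 := by
        refine orderOf_eq_one_iff.1 (Nat.eq_one_of_dvd_coprimes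
          (Nat.Coprime.pow_right j (PBasic.coprime_orderOf_of_mem (FittingCores.pPrimeCore_coprime q) (hKq hb)))
          (orderOf_map_dvd f b) (orderOf_dvd_of_pow_eq_one ?_))
        have h1 : f (g * x * g⁻¹) ^ q ^ j = 1 := by
          rw [← map_pow, conj_pow, ← hj, pow_orderOf_eq_one, mul_one, mul_inv_cancel, map_one]
        rwa [hfy, hcomm.mul_pow, ← map_pow f x, ← hj, pow_orderOf_eq_one, map_one, mul_one, hj] at h1
      rw [hy]
      exact mul_mem (Subgroup.mem_sup_right ha)
        (mul_mem (Subgroup.mem_sup_right ((QuotientGroup.eq_one_iff b).1 hfb)) (Subgroup.mem_sup_left hx))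
    refine le_trans (le_sup_left (b := N)) (le_sSup ⟨inferInstance, fun s hs hd => ?_⟩)
    rcases hs.dvd_mul.1 (hd.trans (AxB.card_sup_dvd (S : Subgroup G) N)) with h | h
    · obtain ⟨k, hk⟩ := IsPGroup.iff_card.1 S.isPGroup'
      exact ((Nat.prime_dvd_prime_iff_eq hs hq).1 (hs.dvd_of_dvd_pow (hk ▸ h))).symm ▸ hqπ
    · exact OddOrder.MinSimple.isPi_piCore π G s hs h

end Cfsg.Agent.S1451
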