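import Cfsg.Statements.S1411
import Cfsg.Agent.Lib.OddOrder.PLengthFusion
import Cfsg.Agent.S1459

set_option autoImplicit false
open Cfsg

namespace Cfsg.Agent.S1411

/-- Let G be a minimal simple group of odd order, p a prime, P a Sylow p-subgroup of G and V a complement to P in its normalizer N_G(P). Then P equals the commutator subgroup [P, V], and P is contained in the derived subgroup of N_G(P). -/
theorem result {G : Type*} [Group G] [Finite G] (hG : Cfsg.IsMinSimpleOddOrder G) (p : ℕ) [Fact p.Prime] (P : Sylow p G)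
    (V : Subgroup G) (hV : Cfsg.IsComplIn (P : Subgroup G) V (Subgroup.normalizer ((P : Subgroup G) : Set G))) :
    (P : Subgroup G) = ⁅(P : Subgroup G), V⁆ ∧
      (P : Subgroup G) ≤ ⁅Subgroup.normalizer ((P : Subgroup G) : Set G), Subgroup.normalizer ((P : Subgroup G) : Set G)⁆ := by
  have hder := OddOrder.PLengthFusion.sylow_le_derived hG P
  refine ⟨?_, hder⟩
  set N := Subgroup.normalizer ((P : Subgroup G) : Set G) with hN
  obtain ⟨hPN, hVN, hPV, hmul⟩ := hV
  rcases eq_or_ne (P : Subgroup G) ⊥ with h | hP1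
  · rw [h, Subgroup.commutator_bot_left]
  have hNne : N ≠ ⊤ :=
    OddOrder.MinSimple.normalizer_ne_top hG hP1 (OddOrder.MinSimple.pSubgroup_ne_top hG P.isPGroup')
  haveI := OddOrder.MinSimple.isSolvable hG hNne
  set H := (P : Subgroup G).subgroupOf N with hH
  set K := V.subgroupOf N with hK
  have hn : H.Normal := Subgroup.normal_subgroupOf_of_le_normalizer le_rfl
  have hcop : (Nat.card H).Coprime H.index := by
    rw [Nat.card_congr (Subgroup.subgroupOfEquivOfLe hPN).toEquiv]
    obtain ⟨k, hk⟩ := P.isPGroup'.exists_card_eq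
    rw [hk]
    exact (((Fact.out : p.Prime).coprime_iff_not_dvd).2 (P.subtype hPN).not_dvd_index).pow_left k
  have hc : Subgroup.IsComplement' H K := by
    refine Subgroup.isComplement'_of_disjoint_and_mul_eq_univ ?_ ?_
    · rw [disjoint_iff, eq_bot_iff]
      rintro x ⟨hx1, hx2⟩
      exact Subgroup.mem_bot.2 (Subtype.ext (Subgroup.mem_bot.1
        (hPV ▸ (⟨hx1, hx2⟩ : (x : G) ∈ (P : Subgroup G) ⊓ V))))
    · refine Set.eq_univ_of_forall fun x => ?_
      obtain ⟨a, ha, b, hb, h⟩ := hmul x x.2
      exact ⟨⟨a, hPN ha⟩, ha, ⟨b, hVN hb⟩, hb, Subtype.ext h.symm⟩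
  have hle : H ≤ commutator N := by
    intro x hx
    have := hder hx
    rw [← Subgroup.map_subtype_commutator] at this
    obtain ⟨y, hy, hyx⟩ := this
    rwa [← Subtype.ext hyx]
  have h := congrArg (Subgroup.map N.subtype) (S1459.partA H K hn hcop hc hle).1
  rwa [Subgroup.map_commutator, Subgroup.map_subgroupOf_eq_of_le hPN,
    Subgroup.map_subgroupOf_eq_of_le hVN] at h

end Cfsg.Agent.S1411
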