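import Cfsg.Statements.S1448
import Cfsg.Agent.Lib.OddOrder.Blackburn

set_option autoImplicit false
open Cfsg

namespace Cfsg.Agent.S1448

/-- Let G be a finite group, p an odd prime, R a nontrivial p-subgroup with no elementary abelian subgroup of order p ^ 3, and A a subgroup of odd order coprime to p normalizing R with [R, A] = R. Then 3 < p, and either R is abelian or R is generated by two elementwise-commuting subgroups R₁, R₂ with R₁ non-abelian of order p ^ 3 and exponent p, R₂ cyclic, and the elements of R₂ of order dividing p generating exactly [R₁, R₁]. -/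
theorem result {G : Type*} [Group G] [Finite G] (p : ℕ) [Fact p.Prime] (hp : p ≠ 2) (R A : Subgroup G) (hR : IsPGroup p R) (hR1 : R ≠ ⊥) (hr : Cfsg.PRankLE p 2 R)
    (hA : (A ≤ Subgroup.normalizer (R : Set G))) (hcop : (Nat.card A).Coprime p) (hAodd : Odd (Nat.card A)) (hRA : ⁅R, A⁆ = R) :
    3 < p ∧ (IsMulCommutative R ∨ ∃ R₁ R₂ : Subgroup G, R₁ ⊔ R₂ = R ∧ (∀ a ∈ R₁, ∀ b ∈ R₂, a * b = b * a) ∧
        ¬ IsMulCommutative R₁ ∧ Nat.card R₁ = p ^ 3 ∧ Monoid.exponent R₁ = p ∧ IsCyclic R₂ ∧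
        Subgroup.closure {x : G | x ∈ R₂ ∧ x ^ p = 1} = ⁅R₁, R₁⁆) := by
  obtain ⟨h3, hc⟩ := OddOrder.Blackburn.main hp R A hR hR1 hr hA hcop hAodd hRA
  refine ⟨h3, hc.imp id ?_⟩
  rintro ⟨R₁, R₂, hm, hcard, hsup, hcomm, hnab, hcyc, hcl⟩
  haveI := hcyc
  refine ⟨R₁.map R.subtype, R₂.map R.subtype, ?_, ?_, ?_, ?_, ?_, ?_, ?_⟩
  · rw [← Subgroup.map_sup, hsup, ← MonoidHom.range_eq_map, Subgroup.range_subtype]
  · rintro _ ⟨a, ha, rfl⟩ _ ⟨b, hb, rfl⟩
    rw [← map_mul, hcomm a ha b hb, map_mul]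
  · intro h
    refine hnab (.of_setLike_mul_comm fun a ha b hb => R.subtype_injective ?_)
    rw [map_mul, map_mul]
    exact congrArg Subtype.val (mul_comm' (⟨_, a, ha, rfl⟩ : R₁.map R.subtype) ⟨_, b, hb, rfl⟩)
  · rw [Subgroup.card_map_of_injective R.subtype_injective, hcard]
  · rw [← Monoid.exponent_eq_of_mulEquiv (R₁.equivMapOfInjective R.subtype R.subtype_injective)]
    have hdvd : Monoid.exponent R₁ ∣ p :=
      Monoid.exponent_dvd_of_forall_pow_eq_one fun x => Subtype.ext ((hm x).1 x.2)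
    rcases (Nat.dvd_prime Fact.out).1 hdvd with h | h
    · exfalso
      haveI : Subsingleton R₁ := Monoid.exp_eq_one_iff.1 h
      rw [Nat.card_of_subsingleton (1 : R₁)] at hcard
      have : 1 < p ^ 3 := Nat.one_lt_pow (by norm_num) (Fact.out : p.Prime).one_lt
      omega
    · exact h
  · exact isCyclic_of_surjective _ (R₂.equivMapOfInjective R.subtype R.subtype_injective).surjective
  · rw [← Subgroup.map_commutator, ← hcl, MonoidHom.map_closure]
    congr 1
    ext x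
    constructor
    · rintro ⟨⟨y, hy, rfl⟩, hp'⟩
      exact ⟨y, ⟨hy, R.subtype_injective (by rw [map_pow, map_one]; exact hp')⟩, rfl⟩
    · rintro ⟨y, ⟨hy, hyp⟩, rfl⟩
      exact ⟨⟨y, hy, rfl⟩, by rw [← map_pow, hyp, map_one]⟩

end Cfsg.Agent.S1448
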