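import Cfsg.Statements.S1412
import Cfsg.Agent.S1411
import Cfsg.Agent.S1448
import Cfsg.Agent.Lib.OddOrder.MinSimple

set_option autoImplicit false
open Cfsg

namespace Cfsg.Agent.S1412

open scoped commutatorElement

/-- Let G be a minimal simple group of odd order, p a prime and P a Sylow p-subgroup of G with no elementary abelian subgroup of order p ^ 3. Then either P is abelian, or P is generated by two elementwise-commuting subgroups P₁, P₂ with P₁ nonabelian of order p ^ 3 and exponent p, P₂ cyclic, and the elements of P₂ of order dividing p generating exactly the centre of P₁. -/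
theorem result {G : Type*} [Group G] [Finite G] (hG : Cfsg.IsMinSimpleOddOrder G) (p : ℕ) [Fact p.Prime] (P : Sylow p G) (hr : Cfsg.PRankLE p 2 (P : Subgroup G)) :
    IsMulCommutative (P : Subgroup G) ∨ ∃ P₁ P₂ : Subgroup G, P₁ ⊔ P₂ = (P : Subgroup G) ∧ (∀ a ∈ P₁, ∀ b ∈ P₂, a * b = b * a) ∧
        ¬ IsMulCommutative P₁ ∧ Nat.card P₁ = p ^ 3 ∧ Monoid.exponent P₁ = p ∧ IsCyclic P₂ ∧
        Subgroup.closure {x : G | x ∈ P₂ ∧ x ^ p = 1} = P₁ ⊓ Subgroup.centralizer (P₁ : Set G) := by
  classical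
  have hpp : p.Prime := Fact.out
  by_cases hP1 : (P : Subgroup G) = ⊥
  · left
    rw [hP1]
    exact .of_setLike_mul_comm fun a ha b hb => by
      rw [Subgroup.mem_bot.1 ha, Subgroup.mem_bot.1 hb]
  have hp2 : p ≠ 2 := by
    rintro rfl
    obtain ⟨k, hk⟩ := IsPGroup.iff_card.1 P.isPGroup'
    have hk0 : k ≠ 0 := fun h => hP1 (Subgroup.card_eq_one.1 (by rw [hk, h, pow_zero]))
    have h2 : 2 ∣ Nat.card G := (hk ▸ dvd_pow_self 2 hk0).trans (P : Subgroup G).card_subgroup_dvd_card
    exact (Nat.not_even_iff_odd.2 hG.1) (even_iff_two_dvd.2 h2)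
  set N := Subgroup.normalizer ((P : Subgroup G) : Set G) with hN
  have hPN : (P : Subgroup G) ≤ N := Subgroup.le_normalizer
  haveI : ((P : Subgroup G).subgroupOf N).Normal := Subgroup.normal_in_normalizer
  have hcop : (Nat.card ((P : Subgroup G).subgroupOf N)).Coprime ((P : Subgroup G).subgroupOf N).index := by
    rw [Nat.card_congr (Subgroup.subgroupOfEquivOfLe hPN).toEquiv, (P.card_eq_multiplicity)]
    refine Nat.Coprime.pow_left _ (hpp.coprime_iff_not_dvd.2 fun h => P.not_dvd_index ?_)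
    exact h.trans ((P : Subgroup G).relIndex_dvd_index_of_le hPN)
  obtain ⟨K, hK⟩ := Subgroup.exists_right_complement'_of_coprime hcop
  have hV : Cfsg.IsComplIn (P : Subgroup G) (K.map N.subtype) N := by
    refine ⟨hPN, Subgroup.map_subtype_le _, ?_, fun m hm => ?_⟩
    · rw [Subgroup.eq_bot_iff_forall]
      rintro g ⟨hgP, k, hk, rfl⟩
      have : k ∈ (P : Subgroup G).subgroupOf N ⊓ K := ⟨Subgroup.mem_subgroupOf.2 hgP, hk⟩
      rw [hK.disjoint.eq_bot, Subgroup.mem_bot] at this
      rw [this, map_one]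
    · obtain ⟨⟨a, b⟩, hab⟩ := hK.2 ⟨m, hm⟩
      exact ⟨(a.1 : G), Subgroup.mem_subgroupOf.1 a.2, (b.1 : G), ⟨b.1, b.2, rfl⟩,
        (congrArg Subtype.val hab).symm⟩
  have hVp : (Nat.card (K.map N.subtype)).Coprime p := by
    rw [Subgroup.card_map_of_injective N.subtype_injective]
    have hKi : Nat.card K = ((P : Subgroup G).subgroupOf N).index := by
      rw [← hK.symm.index_eq_card]
    rw [hKi]
    refine Nat.Coprime.symm (hpp.coprime_iff_not_dvd.2 fun h => P.not_dvd_index ?_)
    exact h.trans ((P : Subgroup G).relIndex_dvd_index_of_le hPN)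
  have hVodd : Odd (Nat.card (K.map N.subtype)) :=
    hG.1.of_dvd_nat (K.map N.subtype).card_subgroup_dvd_card
  obtain ⟨-, hab | ⟨R₁, R₂, hsup, hcomm, hnab, hcard, hexp, hcyc, hcl⟩⟩ :=
    Cfsg.Agent.S1448.result p hp2 (P : Subgroup G) (K.map N.subtype) P.isPGroup' hP1 hr
      (Subgroup.map_subtype_le _) hVp hVodd (Cfsg.Agent.S1411.result hG p P _ hV).1.symm
  · exact Or.inl hab
  refine Or.inr ⟨R₁, R₂, hsup, hcomm, hnab, hcard, hexp, hcyc, ?_⟩
  rw [hcl]
  -- the derived group of a non-abelian group of order `p ^ 3` is its centre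
  haveI hPR : IsPGroup p R₁ := IsPGroup.of_card hcard
  haveI : Nontrivial R₁ := by
    rw [← Finite.one_lt_card_iff_nontrivial, hcard]
    exact Nat.one_lt_pow (by norm_num) hpp.one_lt
  have hnc : ¬ IsMulCommutative R₁ := hnab
  set Z := Subgroup.center R₁ with hZ
  have hZcard : Nat.card Z = p := by
    obtain ⟨i, hi, hZi⟩ := (Nat.dvd_prime_pow hpp).1 (hcard ▸ Z.card_subgroup_dvd_card)
    have h1 : i ≠ 0 := fun h => by
      have := hPR.center_nontrivial
      rw [← Finite.one_lt_card_iff_nontrivial, hZi, h] at this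
      simp at this
    have h2 : i ≤ 1 := by
      by_contra h
      refine hnc ?_
      have hq : Nat.card (R₁ ⧸ Z) ≤ p := by
        have h0 := Z.card_eq_card_quotient_mul_card_subgroup
        rw [hcard, hZi] at h0
        have hpow : p ^ 2 ≤ p ^ i := Nat.pow_le_pow_right hpp.pos (by omega)
        nlinarith [Nat.one_le_pow 2 p hpp.pos]
      have hcyc' : IsCyclic (R₁ ⧸ Z) := by
        rcases Nat.eq_or_lt_of_le hq with h' | h'
        · exact isCyclic_of_prime_card h'
        · obtain ⟨j, hj⟩ := IsPGroup.iff_card.1 (hPR.to_quotient Z)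
          have : j = 0 := by
            by_contra hj0
            exact absurd (Nat.le_of_dvd Nat.card_pos (hj ▸ dvd_pow_self p hj0)) (by omega)
          haveI : Subsingleton (R₁ ⧸ Z) := (Nat.card_eq_one_iff_unique.1 (by rw [hj, this, pow_zero])).1
          exact isCyclic_of_subsingleton
      haveI := hcyc'
      exact ⟨⟨fun a b => commutative_of_cyclic_center_quotient (QuotientGroup.mk' Z)
        (by rw [QuotientGroup.ker_mk']) a b⟩⟩
    rw [hZi, show i = 1 by omega, pow_one]
  have hcomm2 : ∀ a b : R₁ ⧸ Z, a * b = b * a := by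
    have hq : Nat.card (R₁ ⧸ Z) = p ^ 2 := by
      have h0 := Z.card_eq_card_quotient_mul_card_subgroup
      rw [hcard, hZcard, pow_succ] at h0
      exact (Nat.eq_of_mul_eq_mul_right hpp.pos h0).symm
    intro a b
    exact IsPGroup.commutative_of_card_eq_prime_sq hq a b
  have hle : commutator R₁ ≤ Z := by
    rw [commutator_def, Subgroup.commutator_le]
    intro a _ b _
    rw [← QuotientGroup.eq_one_iff (N := Z)]
    have := hcomm2 (a : R₁ ⧸ Z) (b : R₁ ⧸ Z)
    rw [show ((⁅a, b⁆ : R₁) : R₁ ⧸ Z) = ⁅(a : R₁ ⧸ Z), (b : R₁ ⧸ Z)⁆ from map_commutatorElement (QuotientGroup.mk' Z) a b,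
      commutatorElement_eq_one_iff_mul_comm]
    exact this
  have hne : commutator R₁ ≠ ⊥ := fun h => hnc ⟨⟨fun a b => by
    have hm : ⁅a, b⁆ ∈ commutator R₁ := Subgroup.commutator_mem_commutator (Subgroup.mem_top a) (Subgroup.mem_top b)
    rw [h, Subgroup.mem_bot] at hm
    exact commutatorElement_eq_one_iff_mul_comm.1 hm⟩⟩
  have heq : commutator R₁ = Z := by
    refine Subgroup.eq_of_le_of_card_ge hle ?_
    rcases (Nat.dvd_prime hpp).1 (hZcard ▸ Subgroup.card_dvd_of_le hle) with h | h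
    · exact absurd (Subgroup.card_eq_one.1 h) hne
    · rw [hZcard, h]
  rw [← Subgroup.map_subtype_commutator, heq, hZ]
  ext g
  constructor
  · rintro ⟨z, hz, rfl⟩
    exact ⟨z.2, Subgroup.mem_centralizer_iff.2 fun h hh =>
      congrArg Subtype.val (Subgroup.mem_center_iff.1 hz ⟨h, hh⟩)⟩
  · rintro ⟨hg, hgc⟩
    exact ⟨⟨g, hg⟩, Subgroup.mem_center_iff.2 fun h =>
      Subtype.ext (Subgroup.mem_centralizer_iff.1 hgc h h.2), rfl⟩

end Cfsg.Agent.S1412
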