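import Cfsg.Statements.S1403
import Cfsg.Agent.Lib.OddOrder.ScnUniq

set_option autoImplicit false
open Cfsg

namespace Cfsg.Agent.S1403

/-- Let G be a minimal simple group of odd order and K a proper subgroup having an elementary abelian subgroup of order p ^ 2 for some prime p. If K, or its centralizer C_G(K), has an elementary abelian subgroup of order q ^ 3 for some prime q, then K lies in exactly one maximal subgroup of G. -/
theorem result {G : Type*} [Group G] [Finite G] (hG : Cfsg.IsMinSimpleOddOrder G)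
    (K : Subgroup G) (hK : K ≠ ⊤) (hK2 : ¬ Cfsg.RankLE 1 K)
    (hK3 : ¬ Cfsg.RankLE 2 K ∨ ¬ Cfsg.RankLE 2 (Subgroup.centralizer (K : Set G))) :
    Cfsg.InUniqueMaximal K := by
  have key : ∀ H : Subgroup G, ¬ Cfsg.RankLE 2 H → ∃ E : Subgroup G, E ≤ H ∧ Cfsg.InUniqueMaximal E := by
    intro H h
    simp only [Cfsg.RankLE, not_forall] at h
    obtain ⟨r, hr, h⟩ := h
    haveI := Fact.mk hr
    obtain ⟨E, hEH, hEe, hE3⟩ := OddOrder.UniqProp.exists_elementary h
    exact ⟨E, hEH, OddOrder.ScnUniq.allUniq_of_rank hG hEe hE3 E hEe hE3⟩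
  rcases hK3 with h | h
  · obtain ⟨E, hEK, hE⟩ := key K h
    exact OddOrder.UniqProp.mono hE hEK hK
  · obtain ⟨E, hEC, hE⟩ := key _ h
    simp only [Cfsg.RankLE, Cfsg.PRankLE, not_forall] at hK2
    obtain ⟨s, hs, B, hBc, hBp, hB⟩ := hK2
    haveI := Fact.mk hs
    haveI := hBc
    refine OddOrder.UniqProp.pass (p := s) hG hE (Subgroup.le_centralizer_iff.1 hEC)
      (Subgroup.map_subtype_le B) ⟨inferInstance, ?_⟩ ?_
    · rintro _ ⟨b, hb, rfl⟩
      rw [← map_pow, hBp b hb, map_one]
    · rw [Subgroup.card_map_of_injective K.subtype_injective]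
      rw [pow_one] at hB
      exact not_le.1 hB

end Cfsg.Agent.S1403
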