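import Cfsg.Statements.S1418
import Cfsg.Agent.Lib.OddOrder.PlaneUnique

set_option autoImplicit false
open Cfsg

namespace Cfsg.Agent.S1418

/-- Let G be a minimal simple group of odd order, M a maximal subgroup, E a complement to M_σ in M, p ∈ τ₂(M), and A ≤ E elementary abelian of order p ^ 2. Then A is normal in E and contains every subgroup of E of order p; C_G(A) ≤ M ∩ N_G(A) = E and N_G(A) is not contained in M; and for every subgroup X ≤ A of order p centralizing a non-identity element of M_σ, C_G(X) ≤ M and M is the unique maximal subgroup containing C_G(X). -/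
theorem result {G : Type*} [Group G] [Finite G] (hG : Cfsg.IsMinSimpleOddOrder G)
    (M : Subgroup G) (hM : IsCoatom M) (E : Subgroup G) (hE : Cfsg.IsComplIn E (Cfsg.sigmaCore M) M) (p : ℕ) [Fact p.Prime] (hp : p ∈ Cfsg.tau2 M) (A : Subgroup G) (hA : (A ≤ E ∧ Cfsg.IsElementaryAbelian p A ∧ Nat.card A = p ^ 2)) :
    (E ≤ Subgroup.normalizer (A : Set G) ∧ ∀ X : Subgroup G, X ≤ E → Nat.card X = p → X ≤ A) ∧
      (Subgroup.centralizer (A : Set G) ≤ M ⊓ Subgroup.normalizer (A : Set G) ∧ M ⊓ Subgroup.normalizer (A : Set G) = E ∧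
        ¬ Subgroup.normalizer (A : Set G) ≤ M) ∧
      ∀ X : Subgroup G, X ≤ A → Nat.card X = p → Cfsg.sigmaCore M ⊓ Subgroup.centralizer (X : Set G) ≠ ⊥ → (Subgroup.centralizer (X : Set G) ≤ M ∧ ∀ L : Subgroup G, IsCoatom L → Subgroup.centralizer (X : Set G) ≤ L → L = M) := by
  obtain ⟨hAE, hAe, hA2⟩ := hA
  obtain ⟨-, hpσ, -, -⟩ := hp
  have hAM : A ≤ M := hAE.trans hE.1
  obtain ⟨A₀, h, -⟩ := OddOrder.PlaneUnique.exists_exc hG hM hAM hAe hA2 hpσ
  have hEN := h.compl_normalizes hE hAE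
  haveI := hAe.1
  refine ⟨⟨hEN, fun X hXE hX => ?_⟩, ⟨le_inf h.centralizer_le (Subgroup.centralizer_le_normalizer _), ?_, ?_⟩,
    fun X hXA hX hne => ?_⟩
  · -- every Sylow `p`-subgroup of `E` contains `A`
    obtain ⟨S, hS⟩ := ((IsPGroup.of_card (n := 1) (by rw [hX, pow_one]) : IsPGroup p X).comap_subtype (K := E)).exists_le_sylow
    haveI : (A.subgroupOf E).Normal := Subgroup.normal_subgroupOf_of_le_normalizer hEN
    have hAS : A.subgroupOf E ≤ (S : Subgroup E) :=
      IsPGroup.le_sylow_of_normal (N := A.subgroupOf E) ((OddOrder.Plane.isPGroup hA2).comap_subtype (K := E)) S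
    obtain ⟨P, hP⟩ := ((S.isPGroup'.map E.subtype).comap_subtype (K := M)).exists_le_sylow
    have hSP : (S : Subgroup E).map E.subtype ≤ (P : Subgroup M).map M.subtype := fun x hx =>
      ⟨⟨x, (Subgroup.map_subtype_le _).trans hE.1 hx⟩, hP hx, rfl⟩
    intro x hx
    refine (h.sylow_central P (fun a ha => hSP ⟨⟨a, hAE ha⟩, hAS ha, rfl⟩)).2 x
      (hSP ⟨⟨x, hXE hx⟩, hS hx, rfl⟩) ?_
    have := Subgroup.orderOf_dvd_natCard X hx
    rw [hX] at this
    exact orderOf_dvd_iff_pow_eq_one.1 this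
  · refine le_antisymm ?_ (le_inf hE.1 hEN)
    rintro x ⟨hxM, hxN⟩
    obtain ⟨e, he, s, hs, rfl⟩ := hE.2.2.2 x hxM
    have hsN : s ∈ Subgroup.normalizer (A : Set G) := by
      have := mul_mem (inv_mem (hEN he)) hxN
      rwa [inv_mul_cancel_left] at this
    have hs1 : s = 1 := by
      refine Subgroup.mem_bot.1 (h.inf_centralizer_eq_bot ▸ ⟨hs, Subgroup.mem_centralizer_iff.2 fun a ha => ?_⟩)
      have h1 : s * a * s⁻¹ * a⁻¹ ∈ A := A.mul_mem ((Subgroup.mem_normalizer_iff.1 hsN a).1 ha) (A.inv_mem ha)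
      have h2 : s * a * s⁻¹ * a⁻¹ ∈ Cfsg.sigmaCore M := by
        have := (Cfsg.sigmaCore M).mul_mem hs ((Subgroup.mem_normalizer_iff.1
          (OddOrder.Exceptional.le_normalizer_sigmaCore M (hAM ha)) _).1 ((Cfsg.sigmaCore M).inv_mem hs))
        simpa [mul_assoc] using this
      have hbot : Cfsg.sigmaCore M ⊓ A = ⊥ :=
        SchurZ.inf_eq_bot (by first | exact (OddOrder.Exceptional.coprime_sigmaCore hA2 hpσ) | exact (OddOrder.Exceptional.coprime_sigmaCore hA2 hpσ).symm)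
      have h3 : s * a * s⁻¹ * a⁻¹ = 1 := Subgroup.mem_bot.1 (hbot ▸ ⟨h2, h1⟩)
      exact (mul_inv_eq_iff_eq_mul.1 (mul_inv_eq_one.1 h3)).symm
    rw [hs1, mul_one]
    exact he
  · obtain ⟨y, hy, hyM⟩ := h.normalizer_not_le
    exact fun hle => hyM (hle hy)
  · obtain ⟨a, ha, ha1⟩ := OddOrder.Plane.exists_ne_one hX
    have hCa : Subgroup.centralizer (X : Set G) ≠ ⊤ := fun e => by
      refine OddOrder.MinSimple.centralizer_singleton_ne_top hG ha1 (top_le_iff.1 ?_)
      rw [← e]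
      exact Subgroup.centralizer_le (by simpa using ha)
    have key : ∀ L : Subgroup G, IsCoatom L → Subgroup.centralizer (X : Set G) ≤ L → L = M := fun L hL hle => by
      by_contra hne'
      have hbot := OddOrder.PlaneUnique.inf_eq_bot hG hM hAM hAe hA2 hpσ hL
        (((Subgroup.le_centralizer A).trans (Subgroup.centralizer_le hXA)).trans hle) hne'
      exact hne (le_bot_iff.1 ((inf_le_inf_left _ hle).trans hbot.le))
    obtain ⟨L, hL, hle⟩ := OddOrder.Uniq.exists_maximal_ge hCa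
    exact ⟨key L hL hle ▸ hle, key⟩

end Cfsg.Agent.S1418
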