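import Cfsg.Statements.S1415
import Cfsg.Agent.Lib.OddOrder.Sigma
import Cfsg.Agent.Lib.OddOrder.CyclicSylow
import Cfsg.Agent.Lib.OddOrder.Compl

set_option autoImplicit false
open Cfsg

namespace Cfsg.Agent.S1415

open scoped commutatorElement

/-- Let G be a minimal simple group of odd order, M a maximal subgroup and E a complement to M_σ in M. Then the derived subgroup E' is nilpotent; every Hall τ₁(M)-subgroup of E is cyclic; and every Hall τ₃(M)-subgroup E₃ of E is cyclic, contained in E' and normal in E. -/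
theorem result {G : Type*} [Group G] [Finite G] (hG : Cfsg.IsMinSimpleOddOrder G)
    (M : Subgroup G) (hM : IsCoatom M) (E : Subgroup G) (hE : Cfsg.IsComplIn E (Cfsg.sigmaCore M) M) :
    Group.IsNilpotent ↥⁅E, E⁆ ∧
      (∀ E₁ : Subgroup G, Cfsg.IsPiHallOf (Cfsg.tau1 M) E₁ E → IsCyclic E₁) ∧
      ∀ E₃ : Subgroup G, Cfsg.IsPiHallOf (Cfsg.tau3 M) E₃ E → IsCyclic E₃ ∧ E₃ ≤ ⁅E, E⁆ ∧ E ≤ Subgroup.normalizer (E₃ : Set G) := by
  classical
  obtain ⟨hEM, -, hEσ0, hEcov⟩ := id hE
  have hsub : Cfsg.alpha M ⊆ Cfsg.sigma M := fun q hq => OddOrder.Sigma.alpha_subset_sigma hG hM hq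
  obtain ⟨hHall, -⟩ := OddOrder.Sigma.hall hG hM hsub subset_rfl
  have hcardE : (Cfsg.sigmaCore M).relIndex M = Nat.card E := OddOrder.Compl.relIndex_right hE
  have hEσ : ∀ p : ℕ, p.Prime → p ∣ Nat.card E → p ∉ Cfsg.sigma M := fun p hp hd hσ =>
    hHall.2.2 p hp hσ ((hcardE ▸ hd : p ∣ (Cfsg.sigmaCore M).relIndex M))
  have hodd : ∀ X : Subgroup G, Odd (Nat.card X) := fun X => hG.1.of_dvd_nat X.card_subgroup_dvd_card
  -- `E'` is nilpotent
  set A := Cfsg.piCore (Cfsg.alpha M) M with hA
  haveI : A.Normal := Cfsg.piCore_normal _ _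
  set f := (QuotientGroup.mk' A).comp (Subgroup.inclusion hEM) with hf
  have hfinj : Function.Injective f := by
    rw [injective_iff_map_eq_one]
    intro e he
    have h1 : (e : G) ∈ Cfsg.alphaCore M := ⟨_, (QuotientGroup.eq_one_iff _).1 he, rfl⟩
    have h2 : Cfsg.alphaCore M ≤ Cfsg.sigmaCore M := Subgroup.map_mono (sSup_le fun N hN => le_sSup
      ⟨hN.1, fun r hr hd => hsub (hN.2 r hr hd)⟩)
    exact Subtype.ext (Subgroup.mem_bot.1 (hEσ0 ▸ (⟨e.2, h2 h1⟩ : (e : G) ∈ E ⊓ Cfsg.sigmaCore M)))
  have hnilD : Group.IsNilpotent ↥(commutator E) := by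
    haveI := FittingCores.fitting_nilpotent (G := M ⧸ A)
    have hle : (commutator E).map f ≤ Cfsg.fittingSubgroup (M ⧸ A) := by
      refine le_trans ?_ (OddOrder.Sigma.commutator_le_fitting_quotient hG hM)
      rw [commutator_def, Subgroup.map_commutator]
      exact Subgroup.commutator_mono le_top le_top
    haveI : Group.IsNilpotent ↥((commutator E).map f) :=
      (Group.isNilpotent_congr (Subgroup.subgroupOfEquivOfLe hle)).1 inferInstance
    exact (Group.isNilpotent_congr ((commutator E).equivMapOfInjective f hfinj)).2 inferInstance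
  have hDmap : (commutator E).map E.subtype = ⁅E, E⁆ := Subgroup.map_subtype_commutator E
  have hnil : Group.IsNilpotent ↥⁅E, E⁆ := by
    rw [← hDmap]
    exact (Group.isNilpotent_congr ((commutator E).equivMapOfInjective E.subtype E.subtype_injective)).1 hnilD
  refine ⟨hnil, fun E₁ hE₁ => ?_, fun E₃ hE₃ => ?_⟩
  · obtain ⟨hle, hπ, -⟩ := hE₁
    have hbot : ∀ x ∈ E₁, x ∈ ⁅M, M⁆ → x = 1 := by
      intro x hx hxd
      refine orderOf_eq_one_iff.1 (not_not.1 fun hne => ?_)
      obtain ⟨r, hr, hrd⟩ := Nat.exists_prime_and_dvd hne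
      exact (hπ r hr (hrd.trans (Subgroup.orderOf_dvd_natCard E₁ hx))).2.2.2.1
        (hrd.trans (Subgroup.orderOf_dvd_natCard _ hxd))
    haveI hc : IsMulCommutative E₁ := .of_setLike_mul_comm fun a ha b hb =>
      commutatorElement_eq_one_iff_mul_comm.1 (hbot _
        (by rw [commutatorElement_def]; exact mul_mem (mul_mem (mul_mem ha hb) (inv_mem ha)) (inv_mem hb))
        (Subgroup.commutator_mem_commutator (hEM (hle ha)) (hEM (hle hb))))
    haveI : IsZGroup E₁ := OddOrder.CyclicSylow.isZGroup (hodd E₁) fun r hr hd => by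
      intro B hB hBp
      haveI := hB
      have := (hπ r hr hd).2.2.2.2 (B.map (Subgroup.inclusion (hle.trans hEM))) inferInstance (by
        rintro _ ⟨b, hb, rfl⟩
        rw [← map_pow, hBp b hb, map_one])
      rwa [Subgroup.card_map_of_injective (Subgroup.inclusion_injective _)] at this
    haveI : Group.IsNilpotent E₁ := by
      letI : CommGroup E₁ := { (inferInstance : Group E₁) with mul_comm := fun a b => mul_comm' a b }
      exact CommGroup.isNilpotent
    infer_instance
  · obtain ⟨hle, hπ, hidx⟩ := hE₃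
    have hrk : ∀ p : ℕ, p ∈ Cfsg.tau3 M → Cfsg.PRankLE p 1 E := by
      intro p hp B hB hBp
      haveI := hB
      have := hp.2.2.2 (B.map (Subgroup.inclusion hEM)) inferInstance (by
        rintro _ ⟨b, hb, rfl⟩
        rw [← map_pow, hBp b hb, map_one])
      rwa [Subgroup.card_map_of_injective (Subgroup.inclusion_injective _)] at this
    -- Sylow subgroups for primes of `τ₃` lie in `E'`
    have hsyl : ∀ p : ℕ, p ∈ Cfsg.tau3 M → ∀ S : Sylow p E, (S : Subgroup E) ≤ commutator E := by
      intro p hp S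
      haveI := Fact.mk hp.1
      haveI := OddOrder.CyclicSylow.isCyclic_sylow (hodd E) (hrk p hp) S
      rcases Sylow.not_dvd_card_commutator_or_not_dvd_index_commutator S with h | h
      · exfalso
        apply h
        set K := Cfsg.piCore (Cfsg.sigma M) M with hK
        haveI : K.Normal := Cfsg.piCore_normal _ _
        set q := QuotientGroup.mk' K with hq
        set g := q.comp (Subgroup.inclusion hEM) with hg
        have hgs : Function.Surjective g := by
          intro y
          obtain ⟨⟨m, hm⟩, rfl⟩ := QuotientGroup.mk'_surjective K y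
          obtain ⟨a, ha, b, hb, rfl⟩ := hEcov m hm
          refine ⟨⟨a, ha⟩, ?_⟩
          obtain ⟨b', hb', hbb⟩ := hb
          show q ⟨a, hEM ha⟩ = q ⟨a * b, hm⟩
          rw [show (⟨a * b, hm⟩ : M) = ⟨a, hEM ha⟩ * b' from Subtype.ext (by simp [← hbb]), map_mul,
            show q b' = 1 from (QuotientGroup.eq_one_iff b').2 hb', mul_one]
        have hpM' : p ∣ Nat.card (commutator M) := by
          rw [← Subgroup.card_map_of_injective (K := commutator M) M.subtype_injective,
            Subgroup.map_subtype_commutator]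
          exact hp.2.2.1
        set r := q.comp (commutator M).subtype with hr
        have h1 : Nat.card (commutator M) = Nat.card r.range * Nat.card r.ker := by
          rw [← Subgroup.index_ker, mul_comm, Subgroup.card_mul_index]
        have hrange : r.range = (commutator E).map g := by
          rw [hr, MonoidHom.range_comp, Subgroup.range_subtype, commutator_def, commutator_def,
            Subgroup.map_commutator, Subgroup.map_commutator,
            Subgroup.map_top_of_surjective q (QuotientGroup.mk'_surjective _),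
            Subgroup.map_top_of_surjective g hgs]
        have hker : Nat.card r.ker ∣ Nat.card K := by
          rw [← Subgroup.card_map_of_injective (K := r.ker) (commutator M).subtype_injective]
          refine Subgroup.card_dvd_of_le ?_
          rintro _ ⟨n, hn, rfl⟩
          exact (QuotientGroup.eq_one_iff _).1 hn
        rw [h1] at hpM'
        rcases hp.1.dvd_mul.1 hpM' with h' | h'
        · rw [hrange] at h'
          exact h'.trans (Subgroup.card_map_dvd _ _)
        · exact absurd (OddOrder.MinSimple.isPi_piCore _ _ p hp.1 (h'.trans hker)) hp.2.1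
      · intro x hx
        rw [← QuotientGroup.eq_one_iff]
        refine PBasic.eq_one_of_isPGroup_of_coprime (S.isPGroup'.map (QuotientGroup.mk' (commutator E)))
          ⟨x, hx, rfl⟩ ?_
        refine Nat.Coprime.coprime_dvd_left (orderOf_dvd_natCard _) ?_
        rw [← Subgroup.index_eq_card]
        exact ((hp.1.coprime_iff_not_dvd).2 h).symm
    have hE₃D : E₃ ≤ ⁅E, E⁆ := by
      rw [← Subgroup.subgroupOf_eq_top]
      refine FittingCores.eq_top_of_forall_sylow_le fun p hp => ?_
      haveI := Fact.mk hp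
      obtain ⟨T⟩ : Nonempty (Sylow p E₃) := inferInstance
      refine ⟨T, fun x hx => Subgroup.mem_subgroupOf.2 ?_⟩
      by_cases h1 : x = 1
      · rw [h1]; exact one_mem _
      obtain ⟨k, hk⟩ := IsPGroup.iff_orderOf.1 T.isPGroup' ⟨x, hx⟩
      rw [Subgroup.orderOf_mk] at hk
      have hk0 : k ≠ 0 := fun h => h1 (orderOf_eq_one_iff.1 (by rw [hk, h, pow_zero]))
      have hpτ := hπ p hp ((hk ▸ dvd_pow_self p hk0).trans (orderOf_dvd_natCard x))
      obtain ⟨S, hS⟩ := ((T.isPGroup'.map E₃.subtype).comap_subtype (K := E)).exists_le_sylow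
      rw [← hDmap]
      exact ⟨⟨x, hle x.2⟩, hsyl p hpτ S (hS (Subgroup.mem_comap.2 (Subgroup.mem_map_of_mem E₃.subtype hx))), rfl⟩
    haveI := hnil
    haveI : Group.IsNilpotent E₃ := (Group.isNilpotent_congr (Subgroup.subgroupOfEquivOfLe hE₃D)).1 inferInstance
    haveI : IsZGroup E₃ := OddOrder.CyclicSylow.isZGroup (hodd E₃) fun r hr hd => by
      intro B hB hBp
      haveI := hB
      have := hrk r (hπ r hr hd) (B.map (Subgroup.inclusion hle)) inferInstance (by
        rintro _ ⟨b, hb, rfl⟩
        rw [← map_pow, hBp b hb, map_one])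
      rwa [Subgroup.card_map_of_injective (Subgroup.inclusion_injective _)] at this
    refine ⟨inferInstance, hE₃D, ?_⟩
    -- normality: `E₃` is the Hall part of the nilpotent group `E'`
    set N := Cfsg.piCoreOf (Cfsg.tau3 M) ⁅E, E⁆ with hN
    have hEN : E ≤ Subgroup.normalizer (N : Set G) := by
      refine le_trans ?_ OddOrder.MinSimple.normalizer_le
      rw [← hDmap]
      exact AxB.le_normalizer_map_subtype inferInstance
    have hle3 : E₃ ≤ N := by
      rw [← Subgroup.map_subgroupOf_eq_of_le hE₃D]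
      refine Subgroup.map_mono ?_
      rw [← Subgroup.subgroupOf_eq_top]
      refine FittingCores.eq_top_of_forall_sylow_le fun p hp => ?_
      haveI := Fact.mk hp
      obtain ⟨T⟩ : Nonempty (Sylow p (E₃.subgroupOf ⁅E, E⁆)) := inferInstance
      refine ⟨T, fun x hx => Subgroup.mem_subgroupOf.2 ?_⟩
      by_cases h1 : x = 1
      · rw [h1]; exact one_mem _
      obtain ⟨k, hk⟩ := IsPGroup.iff_orderOf.1 T.isPGroup' ⟨x, hx⟩
      rw [Subgroup.orderOf_mk] at hk
      have hk0 : k ≠ 0 := fun h => h1 (orderOf_eq_one_iff.1 (by rw [hk, h, pow_zero]))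
      have hd : p ∣ Nat.card E₃ := by
        rw [← Nat.card_congr (Subgroup.subgroupOfEquivOfLe hE₃D).toEquiv]
        exact (hk ▸ dvd_pow_self p hk0).trans (orderOf_dvd_natCard x)
      obtain ⟨S, hS⟩ := (T.isPGroup'.map (E₃.subgroupOf ⁅E, E⁆).subtype).exists_le_sylow
      haveI : (⊤ : Subgroup ↥⁅E, E⁆).Normal := inferInstance
      haveI : Group.IsNilpotent (⊤ : Subgroup ↥⁅E, E⁆) :=
        (Group.isNilpotent_congr Subgroup.topEquiv).2 hnil
      obtain ⟨W, hW⟩ := ((T.isPGroup'.map (E₃.subgroupOf ⁅E, E⁆).subtype).comap_subtype (K := (⊤ : Subgroup ↥⁅E, E⁆))).exists_le_sylow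
      refine (le_sSup ⟨FittingCores.pCore_normal p, fun r hr hrd => ?_⟩ :
        Cfsg.pCore p ↥⁅E, E⁆ ≤ Cfsg.piCore (Cfsg.tau3 M) ↥⁅E, E⁆)
        (FittingCores.sylow_le_pCore_of_nilpotent inferInstance p W ⟨⟨x, Subgroup.mem_top _⟩,
          hW (Subgroup.mem_comap.2 (Subgroup.mem_map_of_mem (E₃.subgroupOf ⁅E, E⁆).subtype hx)), rfl⟩)
      obtain ⟨j, hj⟩ := IsPGroup.iff_card.1 (FittingCores.pCore_isPGroup (G := ↥⁅E, E⁆) p)
      exact ((Nat.prime_dvd_prime_iff_eq hr hp).1 (hr.dvd_of_dvd_pow (hj ▸ hrd))).symm ▸ hπ p hp hd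
    have hNE : N ≤ E := OddOrder.MinSimple.piCoreOf_le.trans (Subgroup.commutator_le_self E)
    have hcard : Nat.card N ∣ Nat.card E₃ := by
      have h1 : Nat.card E₃ * E₃.relIndex E = Nat.card E := by
        rw [← Subgroup.relIndex_bot_left E₃, ← Subgroup.relIndex_bot_left E]
        exact Subgroup.relIndex_mul_relIndex ⊥ E₃ E bot_le hle
      refine Nat.Coprime.dvd_of_dvd_mul_right ?_ (h1 ▸ Subgroup.card_dvd_of_le hNE)
      exact Nat.coprime_of_dvd fun r hr h2 h3 => hidx r hr (OddOrder.MinSimple.isPi_piCoreOf r hr h2) h3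
    rw [Subgroup.eq_of_le_of_card_ge hle3 (Nat.le_of_dvd Nat.card_pos hcard)]
    exact hEN

end Cfsg.Agent.S1415
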