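import Cfsg.Statements.S1417
import Cfsg.Agent.Lib.OddOrder.PlaneUnique

set_option autoImplicit false
open Cfsg

namespace Cfsg.Agent.S1417

/-- Let G be a minimal simple group of odd order, M a maximal subgroup, p ∈ τ₂(M) and A ≤ M elementary abelian of order p ^ 2. Then (a) M_σ is nilpotent; (b) every Sylow p-subgroup P of M is abelian, and if A ≤ P then the elements of P of order dividing p are exactly those of A and N_G(P) is not contained in M; (c) M normalizes M_σA; (d) M_σ ∩ C_G(A) = 1; (e) M_σ ∩ M* = 1 for every maximal subgroup M* ≠ M containing A; (f) M_σ ∩ C_G(A₁) = 1 for some subgroup A₁ ≤ A of order p. -/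
theorem result {G : Type*} [Group G] [Finite G] (hG : Cfsg.IsMinSimpleOddOrder G)
    (M : Subgroup G) (hM : IsCoatom M) (p : ℕ) [Fact p.Prime] (hp : p ∈ Cfsg.tau2 M) (A : Subgroup G) (hA : (A ≤ M ∧ Cfsg.IsElementaryAbelian p A ∧ Nat.card A = p ^ 2)) :
    Group.IsNilpotent (Cfsg.sigmaCore M) ∧
      (∀ P : Sylow p M, IsMulCommutative (P : Subgroup M) ∧
        (A ≤ (P : Subgroup M).map M.subtype →
          (∀ x ∈ (P : Subgroup M).map M.subtype, x ^ p = 1 ↔ x ∈ A) ∧
          ¬ Subgroup.normalizer ((((P : Subgroup M).map M.subtype : Subgroup G)) : Set G) ≤ M)) ∧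
      M ≤ Subgroup.normalizer ((Cfsg.sigmaCore M ⊔ A : Subgroup G) : Set G) ∧
      Cfsg.sigmaCore M ⊓ Subgroup.centralizer (A : Set G) = ⊥ ∧
      (∀ Mstar : Subgroup G, IsCoatom Mstar → Mstar ≠ M → A ≤ Mstar → Cfsg.sigmaCore M ⊓ Mstar = ⊥) ∧
      ∃ A₁ : Subgroup G, A₁ ≤ A ∧ Nat.card A₁ = p ∧ Cfsg.sigmaCore M ⊓ Subgroup.centralizer (A₁ : Set G) = ⊥ := by
  obtain ⟨hAM, hAe, hA2⟩ := hA
  obtain ⟨-, hpσ, hr2, hr1⟩ := hp
  have hp' : p.Prime := Fact.out
  obtain ⟨A₀, h, -⟩ := OddOrder.PlaneUnique.exists_exc hG hM hAM hAe hA2 hpσ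
  refine ⟨h.isNilpotent, fun P => ⟨?_, fun hAP => ⟨fun x hx => ⟨fun hxp => (h.sylow_central P hAP).2 x hx hxp,
      fun hxA => hAe.2 x hxA⟩, ?_⟩⟩, h.normalizes_sup, h.inf_centralizer_eq_bot,
    fun L hL hne hAL => OddOrder.PlaneUnique.inf_eq_bot hG hM hAM hAe hA2 hpσ hL hAL hne, ?_⟩
  · -- a plane inside `P`
    have hP1 : ¬ Cfsg.PRankLE p 1 (P : Subgroup M) := fun h' => hr1 (OddOrder.LocalFactor.prankLE_of_sylow P h')
    unfold Cfsg.PRankLE at hP1
    push Not at hP1
    obtain ⟨B, hBc, hBp, hB⟩ := hP1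
    haveI := hBc
    set B' := (B.map (P : Subgroup M).subtype).map M.subtype with hB'
    have hBe : Cfsg.IsElementaryAbelian p B' := by
      refine ⟨inferInstance, ?_⟩
      rintro _ ⟨_, ⟨b, hb, rfl⟩, rfl⟩
      rw [← map_pow, ← map_pow, hBp b hb, map_one, map_one]
    have hB'P : B' ≤ (P : Subgroup M).map M.subtype := Subgroup.map_mono (Subgroup.map_subtype_le _)
    have hcard : Nat.card B' = Nat.card B := by
      rw [hB', Subgroup.card_map_of_injective M.subtype_injective,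
        Subgroup.card_map_of_injective (P : Subgroup M).subtype_injective]
    have hB2 : Nat.card B' = p ^ 2 := by
      obtain ⟨k, hk⟩ := IsPGroup.iff_card.1 (OddOrder.UniqProp.isPGroup_of_elementary hBe)
      have hle : Nat.card B' ≤ p ^ 2 := by
        have h' := hr2 (B.map (P : Subgroup M).subtype) inferInstance (by
          rintro _ ⟨b, hb, rfl⟩
          rw [← map_pow, hBp b hb, map_one])
        rwa [hB', Subgroup.card_map_of_injective M.subtype_injective]
      rw [← hcard, hk, pow_one] at hB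
      rw [hk] at hle ⊢
      have h1 := (Nat.pow_le_pow_iff_right hp'.one_lt).1 hle
      have h2 : 1 < k := (Nat.pow_lt_pow_iff_right hp'.one_lt).1 (by rwa [pow_one])
      rw [show k = 2 by omega]
    obtain ⟨B₀, hB₀, -⟩ := OddOrder.PlaneUnique.exists_exc hG hM (hB'P.trans (Subgroup.map_subtype_le _)) hBe hB2 hpσ
    exact hB₀.sylow_abelian P hB'P
  · intro hle
    obtain ⟨g, hg, hgM⟩ := h.normalizer_sylow_not_le P
    exact hgM (hle hg)
  · obtain ⟨B₁, B₂, hB, hc1, -, hf1, -⟩ := h.exists_fpf_pair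
    exact ⟨B₁, hB ▸ le_sup_left, hc1, hf1⟩

end Cfsg.Agent.S1417
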