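import Cfsg.Statements.S1423
import Cfsg.Agent.Lib.OddOrder.DerivedRank

set_option autoImplicit false
open Cfsg

namespace Cfsg.Agent.S1423

/-- Let G be a minimal simple group of odd order, M a maximal subgroup, p ∈ σ(M), X ≤ M a subgroup of order p and P a Sylow p-subgroup of M_σ. If p ∈ β(M) or X ≤ (M_σ)', then C_G(X) ≤ M, M is the unique maximal subgroup containing C_G(X), and M is the unique maximal subgroup containing P. -/
theorem result {G : Type*} [Group G] [Finite G] (hG : Cfsg.IsMinSimpleOddOrder G)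
    (M : Subgroup G) (hM : IsCoatom M) (p : ℕ) [Fact p.Prime] (hp : p ∈ Cfsg.sigma M) (X : Subgroup G) (hXM : X ≤ M) (hX : Nat.card X = p)
    (P : Sylow p ↥(Cfsg.sigmaCore M)) (h : p ∈ Cfsg.beta M ∨ X ≤ ⁅Cfsg.sigmaCore M, Cfsg.sigmaCore M⁆) :
    (Subgroup.centralizer (X : Set G) ≤ M ∧ ∀ L : Subgroup G, IsCoatom L → Subgroup.centralizer (X : Set G) ≤ L → L = M) ∧ Cfsg.InUniqueMaximal ((P : Subgroup ↥(Cfsg.sigmaCore M)).map (Cfsg.sigmaCore M).subtype) ∧
      (P : Subgroup ↥(Cfsg.sigmaCore M)).map (Cfsg.sigmaCore M).subtype ≤ M := by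
  obtain ⟨hpr, hd, hσ⟩ := hp
  have hp' : p ∈ Cfsg.sigma M := ⟨hpr, hd, hσ⟩
  have hKM : (Cfsg.sigmaCore M) ≤ M := OddOrder.Exceptional.sigmaCore_le M
  set Pm := (P : Subgroup ↥(Cfsg.sigmaCore M)).map (Cfsg.sigmaCore M).subtype with hPm
  have hPK : Pm ≤ (Cfsg.sigmaCore M) := Subgroup.map_subtype_le _
  -- the Sylow subgroup of `G` above `P`
  obtain ⟨T, hT⟩ : ∃ T : Sylow p G, (T : Subgroup G) = Pm := by
    obtain ⟨S, hS⟩ := ((P.isPGroup'.map (Cfsg.sigmaCore M).subtype).comap_subtype (K := M)).exists_le_sylow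
    obtain ⟨T, hT⟩ := OddOrder.Sigma.sigma_sylow hp' S
    refine ⟨T, ?_⟩
    have hTK : (T : Subgroup G) ≤ (Cfsg.sigmaCore M) := OddOrder.Exceptional.le_sigmaCore hG hM hp' T.isPGroup' (hT.le.trans (Subgroup.map_subtype_le _))
    have hle : Pm ≤ (T : Subgroup G) := hT ▸ fun y hy => ⟨⟨y, hKM (hPK hy)⟩, hS hy, rfl⟩
    have he := P.is_maximal' (T.isPGroup'.comap_subtype (K := Cfsg.sigmaCore M)) (fun y hy => hle ⟨y, hy, rfl⟩)
    refine le_antisymm (fun y hy => ⟨⟨y, hTK hy⟩, ?_, rfl⟩) hle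
    exact he.le hy
  have hTM : (T : Subgroup G) ≤ M := hT.le.trans (hPK.trans hKM)
  have hX0 : X ≠ ⊥ := fun hb => hpr.ne_one (by rw [← hX, hb, Subgroup.card_bot])
  obtain ⟨x, hx, hx1⟩ := OddOrder.Plane.exists_ne_one hX
  have hxp : orderOf x = p := by
    rw [← Nat.card_zpowers, OddOrder.Plane.zpowers_eq hX hx hx1, hX]
  -- a Sylow subgroup containing `X`
  obtain ⟨S, hS⟩ := ((IsPGroup.of_card (n := 1) (by rw [hX, pow_one] : Nat.card X = p ^ 1)).comap_subtype (K := M)).exists_le_sylow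
  obtain ⟨T', hT'⟩ := OddOrder.Sigma.sigma_sylow hp' S
  have hxT' : x ∈ (T' : Subgroup G) := hT' ▸ ⟨⟨x, hXM hx⟩, hS hx, rfl⟩
  have hT'M : (T' : Subgroup G) ≤ M := hT'.le.trans (Subgroup.map_subtype_le _)
  have hT'K : (T' : Subgroup G) ≤ (Cfsg.sigmaCore M) := OddOrder.Exceptional.le_sigmaCore hG hM hp' T'.isPGroup' hT'M
  have h' : Cfsg.IsIdealPrime p G ∨ x ∈ ⁅(T' : Subgroup G), (T' : Subgroup G)⁆ := by
    by_cases hβ : p ∈ Cfsg.beta M
    · exact Or.inl hβ.2
    · exact Or.inr (OddOrder.DerivedRank.mem_derived_sylow hG hM hp' hβ T'.isPGroup' hT'K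
        (fun hd => T'.not_dvd_index (hd.trans ((T' : Subgroup G).relIndex_dvd_index_of_le hT'K))) hxT' ((h.resolve_left hβ) hx))
  obtain ⟨E, hET, hEx, hEu⟩ := OddOrder.DerivedRank.exists_unique_centralizing hG T' hxT' hxp h'
  have key : ∀ L : Subgroup G, IsCoatom L → Subgroup.centralizer (X : Set G) ≤ L → L = M := fun L hL hle => by
    obtain ⟨N, -, hN⟩ := hEu
    rw [← OddOrder.Plane.zpowers_eq hX hx hx1, OddOrder.Plane.centralizer_zpowers] at hle
    exact (hN L ⟨hL, hEx.trans hle⟩).trans (hN M ⟨hM, hET.trans hT'M⟩).symm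
  refine ⟨⟨?_, key⟩, ?_, hPK.trans hKM⟩
  · obtain ⟨L, hL, hle⟩ := OddOrder.Uniq.exists_maximal_ge (X := Subgroup.centralizer (X : Set G)) (by
      rw [← OddOrder.Plane.zpowers_eq hX hx hx1, OddOrder.Plane.centralizer_zpowers]
      exact OddOrder.MinSimple.centralizer_singleton_ne_top hG hx1)
    exact key L hL hle ▸ hle
  · rw [← hT]
    by_cases hr : Cfsg.PRankLE p 2 (T : Subgroup G)
    · refine OddOrder.NonabelianUnique.inUniqueMaximal hG T.isPGroup' fun hc => ?_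
      have hd' := h'.resolve_left fun hI => hI.2.1 (OddOrder.LocalFactor.prankLE_of_sylow T hr)
      obtain ⟨g, hg⟩ := MulAction.exists_smul_eq G T T'
      haveI := hc
      haveI : IsMulCommutative (T' : Subgroup G) := by
        rw [← hg, Sylow.coe_subgroup_smul]
        change IsMulCommutative ((T : Subgroup G).map (MulAut.conj g).toMonoidHom)
        infer_instance
      rw [Subgroup.commutator_eq_bot_iff_le_centralizer.2 (Subgroup.le_centralizer (T' : Subgroup G)), Subgroup.mem_bot] at hd'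
      exact hx1 hd'
    · exact OddOrder.DerivedRank.inUniqueMaximal_of_rank hG T hr

end Cfsg.Agent.S1423
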