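import Cfsg.Statements.S1350
import Cfsg.Agent.Lib.OddOrder.SigmaCent

set_option autoImplicit false
open Cfsg

namespace Cfsg.Agent.S1350

/-- Let G be a minimal simple group of odd order and M a maximal subgroup. Then M_σ (the largest normal σ(M)-subgroup of M) is a Hall σ(M)-subgroup of M and also of G, and every Hall σ(M)-subgroup of M that is normal in M equals M_σ. -/
theorem result {G : Type*} [Group G] [Finite G] (hG : Cfsg.IsMinSimpleOddOrder G)
    (M : Subgroup G) (hM : IsCoatom M) :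
    Cfsg.IsPiHallOf (Cfsg.sigma M) (Cfsg.sigmaCore M) M ∧ Cfsg.IsPiHall (Cfsg.sigma M) (Cfsg.sigmaCore M) ∧
      ∀ N : Subgroup G, M ≤ Subgroup.normalizer (N : Set G) → Cfsg.IsPiHallOf (Cfsg.sigma M) N M →
        N = Cfsg.sigmaCore M := by
  have hασ : Cfsg.alpha M ⊆ Cfsg.sigma M := fun q hq => by
    haveI := Fact.mk hq.1
    exact OddOrder.Sigma.alpha_subset_sigma hG hM hq
  obtain ⟨h1, h2⟩ := OddOrder.Sigma.hall hG hM hασ (le_refl (Cfsg.sigma M))
  refine ⟨h1, h2, fun N hN ⟨hNM, hNπ, hNidx⟩ => ?_⟩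
  have hle : N ≤ Cfsg.sigmaCore M := OddOrder.MinSimple.le_piCoreOf hNM hN hNπ
  refine Subgroup.eq_of_le_of_card_ge hle ?_
  have hdiv : Nat.card ↥(Cfsg.sigmaCore M) ∣ Nat.card M := Subgroup.card_dvd_of_le h1.1
  have hmul : Nat.card N * N.relIndex M = Nat.card M := by
    rw [← Nat.card_congr (Subgroup.subgroupOfEquivOfLe hNM).toEquiv, Subgroup.relIndex]
    exact Subgroup.card_mul_index _
  rw [← hmul] at hdiv
  refine Nat.le_of_dvd Nat.card_pos (Nat.Coprime.dvd_of_dvd_mul_right ?_ hdiv)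
  exact Nat.coprime_of_dvd fun q hq hd hd' => hNidx q hq (h1.2.1 q hq hd) hd'

end Cfsg.Agent.S1350
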