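import Cfsg.Statements.S1431
import Cfsg.Agent.Lib.OddOrder.KappaUnique

set_option autoImplicit false
open Cfsg

namespace Cfsg.Agent.S1431

/-- Let G be a minimal simple group of odd order, M a maximal subgroup, K ≠ 1 a Hall κ(M)-subgroup of M and K* = M_σ ∩ C_G(K). Then K* ∩ gMg⁻¹ = 1 for g ∉ M; K ∩ gKg⁻¹ = 1 for g ∈ M outside K K*; for every prime p dividing the order of K* and every Sylow p-subgroup S of M_σ, M is the unique maximal subgroup containing S, and S is not contained in K*; and every subgroup Y of G whose prime divisors lie in σ(M) and with Y ∩ K* ≠ 1 is contained in M_σ. -/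
theorem result {G : Type*} [Group G] [Finite G] (hG : Cfsg.IsMinSimpleOddOrder G)
    (M : Subgroup G) (hM : IsCoatom M) (K : Subgroup G) (hK : Cfsg.IsPiHallOf (Cfsg.kappa M) K M) (hK1 : K ≠ ⊥) :
    (∀ g : G, g ∉ M → (Cfsg.sigmaCore M ⊓ Subgroup.centralizer (K : Set G)) ⊓ M.map (MulAut.conj g).toMonoidHom = ⊥) ∧
      (∀ g ∈ M, g ∉ K ⊔ (Cfsg.sigmaCore M ⊓ Subgroup.centralizer (K : Set G)) → K ⊓ K.map (MulAut.conj g).toMonoidHom = ⊥) ∧
      (∀ (p : ℕ), p.Prime → p ∣ Nat.card ↥(Cfsg.sigmaCore M ⊓ Subgroup.centralizer (K : Set G)) → ∀ S : Sylow p ↥(Cfsg.sigmaCore M),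
        Cfsg.InUniqueMaximal ((S : Subgroup ↥(Cfsg.sigmaCore M)).map (Cfsg.sigmaCore M).subtype) ∧
        (S : Subgroup ↥(Cfsg.sigmaCore M)).map (Cfsg.sigmaCore M).subtype ≤ M ∧
        ¬ (S : Subgroup ↥(Cfsg.sigmaCore M)).map (Cfsg.sigmaCore M).subtype ≤ (Cfsg.sigmaCore M ⊓ Subgroup.centralizer (K : Set G))) ∧
      ∀ Y : Subgroup G, (∀ p : ℕ, p.Prime → p ∣ Nat.card Y → p ∈ Cfsg.sigma M) → Y ⊓ (Cfsg.sigmaCore M ⊓ Subgroup.centralizer (K : Set G)) ≠ ⊥ → Y ≤ Cfsg.sigmaCore M := by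
  obtain ⟨E, hE, hKE⟩ := OddOrder.Kappa.exists_compl_ge hG hM hK
  obtain ⟨U, F⟩ := OddOrder.Kappa.exists_factor hG hM hE hKE hK hK1
  set D := Cfsg.sigmaCore M ⊓ Subgroup.centralizer (K : Set G) with hD
  refine ⟨fun g hg => ?_, fun g hgM hg => ?_, fun p hp hpd S => ?_, fun Y hY hYD => ?_⟩
  · by_contra hne
    obtain ⟨p, hp, hpd⟩ := Nat.exists_prime_and_dvd fun e => hne (Subgroup.card_eq_one.1 e)
    haveI := Fact.mk hp
    obtain ⟨X, hXI, hX⟩ := OddOrder.Kappa.exists_line_of_dvd hp hpd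
    refine hg (inv_mem_iff.1 (F.mem_of_conj_le hG hM hE hK hK1 hX (hXI.trans inf_le_left) (g := g⁻¹) ?_))
    refine (Subgroup.map_mono (hXI.trans inf_le_right)).trans ?_
    rw [OddOrder.Sigma.map_conj_map, inv_mul_cancel, OddOrder.Sigma.map_conj_one]
  · by_contra hne
    obtain ⟨p, hp, hpd⟩ := Nat.exists_prime_and_dvd fun e => hne (Subgroup.card_eq_one.1 e)
    haveI := Fact.mk hp
    obtain ⟨X, hXI, hX⟩ := OddOrder.Kappa.exists_line_of_dvd hp hpd
    have hXK : X ≤ K := hXI.trans inf_le_left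
    set Y := X.map (MulAut.conj g⁻¹).toMonoidHom with hY
    have hYc : Nat.card Y = p := by rw [hY, Subgroup.card_map_of_injective (MulAut.conj g⁻¹).injective, hX]
    have hYK : Y ≤ K := by
      refine (Subgroup.map_mono (hXI.trans inf_le_right)).trans ?_
      rw [OddOrder.Sigma.map_conj_map, inv_mul_cancel, OddOrder.Sigma.map_conj_one]
    have hgX : g⁻¹ ∈ M ⊓ Subgroup.normalizer (X : Set G) :=
      ⟨M.inv_mem hgM, Subgroup.mem_normalizer_iff_map_conj_eq.2 (F.cyclic_lines hG hK hYc hYK hX hXK)⟩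
    rw [F.normalizer_of_subgroup hXK (OddOrder.Tau3.line_ne_bot hX) (F.line X hXK (hX.symm ▸ hp)) hE] at hgX
    exact hg (inv_mem_iff.1 hgX)
  · haveI := Fact.mk hp
    obtain ⟨X, hXD, hX⟩ := OddOrder.Kappa.exists_line_of_dvd hp hpd
    obtain ⟨-, hu⟩ := F.line_unique hG hM hE hK hK1 hX hXD S
    have hSM : (S : Subgroup ↥(Cfsg.sigmaCore M)).map (Cfsg.sigmaCore M).subtype ≤ M :=
      (Subgroup.map_subtype_le _).trans (OddOrder.Exceptional.sigmaCore_le M)
    refine ⟨hu, hSM, fun hSD => ?_⟩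
    obtain ⟨t, P, ht, hP, hPK, -⟩ := F.exists_tau1_line hG hM hE hK hK1
    haveI := Fact.mk ht.1
    obtain ⟨N, hN, hPN⟩ := OddOrder.Uniq.exists_maximal_ge (OddOrder.MinSimple.normalizer_ne_top hG
      (OddOrder.Tau3.line_ne_bot hP) (OddOrder.MinSimple.pSubgroup_ne_top hG (OddOrder.Tau3.line_pgroup hP)))
    obtain ⟨L, -, hL⟩ := hu
    have hSN := hSD.trans (inf_le_right.trans (((Subgroup.centralizer_le hPK).trans
      (Subgroup.centralizer_le_normalizer _)).trans hPN))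
    have hNM : N = M := (hL N ⟨hN, hSN⟩).trans (hL M ⟨hM, hSM⟩).symm
    have hPσ := F.sigma P hPK (hP.symm ▸ ht.1) N hN hPN
    rw [hNM] at hPσ
    exact ht.2.1 (OddOrder.Exceptional.mem_sigma_of_dvd ht.1 (hP ▸ Subgroup.card_dvd_of_le hPσ))
  · obtain ⟨p, hp, hpd⟩ := Nat.exists_prime_and_dvd fun e => hYD (Subgroup.card_eq_one.1 e)
    haveI := Fact.mk hp
    obtain ⟨X, hXI, hX⟩ := OddOrder.Kappa.exists_line_of_dvd hp hpd
    obtain ⟨g, hg⟩ := S1425.result hG M hM Y (fun e => hYD (by rw [e, bot_inf_eq])) hY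
    have hgM : g ∈ M := F.mem_of_conj_le hG hM hE hK hK1 hX (hXI.trans inf_le_right)
      ((Subgroup.map_mono (hXI.trans inf_le_left)).trans (hg.trans (OddOrder.Exceptional.sigmaCore_le M)))
    intro y hy
    exact (Subgroup.mem_normalizer_iff.1 (OddOrder.Exceptional.le_normalizer_sigmaCore M hgM) y).2 (hg ⟨y, hy, rfl⟩)

end Cfsg.Agent.S1431
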