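import Cfsg.Statements.S1432
import Cfsg.Agent.Lib.OddOrder.KappaElements
import Cfsg.Agent.S1420

set_option autoImplicit false
open Cfsg

namespace Cfsg.Agent.S1432

/-- Let G be a minimal simple group of odd order, M a maximal subgroup, x a non-identity element of M_σ and x' a non-identity element of C_M(x) no prime divisor of whose order lies in σ(M). Then either all prime divisors of the order of x' lie in κ(M) and C_G(x) ≤ M; or all of them lie in τ₂(M), they all lie in σ(L) for a single maximal subgroup L, and C_G(x') ≤ M with M the unique maximal subgroup containing C_G(x'). -/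
theorem result {G : Type*} [Group G] [Finite G] (hG : Cfsg.IsMinSimpleOddOrder G)
    (M : Subgroup G) (hM : IsCoatom M) (x : G) (hx : x ∈ Cfsg.sigmaCore M) (hx1 : x ≠ 1) (x' : G) (hx' : x' ∈ M ⊓ Subgroup.centralizer ({x} : Set G)) (hx'1 : x' ≠ 1)
    (hσ : ∀ p : ℕ, p.Prime → p ∣ orderOf x' → p ∉ Cfsg.sigma M) :
    ((∀ p : ℕ, p.Prime → p ∣ orderOf x' → p ∈ Cfsg.kappa M) ∧ Subgroup.centralizer ({x} : Set G) ≤ M) ∨
      ((∀ p : ℕ, p.Prime → p ∣ orderOf x' → p ∈ Cfsg.tau2 M) ∧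
        (∃ L : Subgroup G, IsCoatom L ∧ ∀ p : ℕ, p.Prime → p ∣ orderOf x' → p ∈ Cfsg.sigma L) ∧
        (Subgroup.centralizer ({x'} : Set G) ≤ M ∧ ∀ L : Subgroup G, IsCoatom L → Subgroup.centralizer ({x'} : Set G) ≤ L → L = M)) := by
  obtain ⟨hx'M, hx'C⟩ := hx'
  have hcomm : x' * x = x * x' := Subgroup.mem_centralizer_singleton_iff.1 hx'C
  have hline : ∀ r : ℕ, r.Prime → r ∣ orderOf x' → ∃ X : Subgroup G, Nat.card X = r ∧ X ≤ Subgroup.zpowers x' :=
    fun r hr hd => by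
      obtain ⟨X, hX, hXc⟩ := OddOrder.Kappa.exists_line_of_dvd hr (X := Subgroup.zpowers x') (by rwa [Nat.card_zpowers])
      exact ⟨X, hXc, hX⟩
  have hxX : ∀ X : Subgroup G, X ≤ Subgroup.zpowers x' → x ∈ Subgroup.centralizer (X : Set G) := fun X hX => by
    refine OddOrder.Kappa.centralizer_singleton_le hX ?_
    exact Subgroup.mem_centralizer_singleton_iff.2 hcomm.symm
  have hcase : ∀ r : ℕ, r.Prime → r ∣ orderOf x' → r ∈ Cfsg.kappa M ∨ r ∈ Cfsg.tau2 M := by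
    intro r hr hd
    haveI := Fact.mk hr
    obtain ⟨X, hX, hXx⟩ := hline r hr hd
    rcases OddOrder.Kappa.rank_one_or_tau2 hG hM hr (hσ r hr hd) with h1 | h2
    · exact Or.inl (OddOrder.Kappa.kappa_of_line hG (hσ r hr hd) h1 hX (hXx.trans (Subgroup.zpowers_le.2 hx'M))
        fun e => hx1 (Subgroup.mem_bot.1 (e.le ⟨hx, hxX X hXx⟩)))
    · exact Or.inr h2
  by_cases hκ : ∃ r : ℕ, r.Prime ∧ r ∣ orderOf x' ∧ r ∈ Cfsg.kappa M
  · obtain ⟨r, hr, hd, hrκ⟩ := hκ
    haveI := Fact.mk hr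
    obtain ⟨X, hX, hXx⟩ := hline r hr hd
    have hXM : X ≤ M := hXx.trans (Subgroup.zpowers_le.2 hx'M)
    refine Or.inl ⟨fun t ht htd => (hcase t ht htd).resolve_right fun h2 => ?_,
      OddOrder.Kappa.centralizer_le_of_kappa hG hM hrκ hX hXM hx hx1 (hxX X hXx)⟩
    haveI := Fact.mk ht
    obtain ⟨Y, hY, hYx⟩ := hline t ht htd
    refine OddOrder.Kappa.kappa_tau2_false hG hM hrκ hX hXM (fun e => hx1 (Subgroup.mem_bot.1 (e.le ⟨hx, hxX X hXx⟩)))
      h2 hY (hYx.trans (Subgroup.zpowers_le.2 hx'M)) (hYx.trans ?_)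
    exact (Subgroup.le_centralizer (Subgroup.zpowers x')).trans (Subgroup.centralizer_le hXx)
  · have hτ : ∀ r : ℕ, r.Prime → r ∣ orderOf x' → r ∈ Cfsg.tau2 M := fun r hr hd =>
      (hcase r hr hd).resolve_left fun h => hκ ⟨r, hr, hd, h⟩
    obtain ⟨r, hr, hd⟩ := Nat.exists_prime_and_dvd fun e => hx'1 (orderOf_eq_one_iff.1 e)
    haveI := Fact.mk hr
    obtain ⟨L, hL, hall⟩ := OddOrder.Kappa.exists_sigma_tau2 hG hM (hτ r hr hd)
    exact Or.inr ⟨hτ, ⟨L, hL, fun t ht htd => hall t (hτ t ht htd)⟩,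
      (S1420.result hG M hM (OddOrder.Exceptional.exists_complement hG hM).choose
        (OddOrder.Exceptional.exists_complement hG hM).choose_spec).2.2.2 x' hx'M hx'1 hτ ⟨hx'M, x, hx, hx1, hcomm⟩⟩

end Cfsg.Agent.S1432
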