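import Cfsg.Statements.S1429
import Cfsg.Agent.Lib.OddOrder.KappaFactor

set_option autoImplicit false
open Cfsg

namespace Cfsg.Agent.S1429

/-- Let G be a minimal simple group of odd order and M a maximal subgroup such that κ(M) is not the whole of the primes of M outside σ(M) (M is not of type P₁). Let p divide the order of M with p ∉ σ(M) ∪ κ(M), S a Sylow p-subgroup of M, and A the subgroup generated by the elements of S of order dividing p. Then A has order at most p ^ 2, M_σ ∩ C_G(A) = 1, and M_σ is nilpotent. -/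
theorem result {G : Type*} [Group G] [Finite G] (hG : Cfsg.IsMinSimpleOddOrder G)
    (M : Subgroup G) (hM : IsCoatom M) (hP1 : ¬ (∀ q : ℕ, q.Prime → q ∣ Nat.card M → q ∉ Cfsg.sigma M → q ∈ Cfsg.kappa M))
    (p : ℕ) [Fact p.Prime] (hpM : p ∣ Nat.card M) (hp : p ∉ Cfsg.sigma M ∪ Cfsg.kappa M) (S : Sylow p M) :
    Nat.card ↥(Subgroup.closure {x : G | x ∈ (S : Subgroup M).map M.subtype ∧ x ^ p = 1}) ≤ p ^ 2 ∧
      Cfsg.sigmaCore M ⊓ Subgroup.centralizer ((Subgroup.closure {x : G | x ∈ (S : Subgroup M).map M.subtype ∧ x ^ p = 1} : Subgroup G) : Set G) = ⊥ ∧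
      Group.IsNilpotent (Cfsg.sigmaCore M) := by
  have hpσ : p ∉ Cfsg.sigma M := fun h => hp (Or.inl h)
  have hpκ : p ∉ Cfsg.kappa M := fun h => hp (Or.inr h)
  have hpp : p.Prime := Fact.out
  set Sm := (S : Subgroup M).map M.subtype with hSm
  set Ω := Subgroup.closure {x : G | x ∈ Sm ∧ x ^ p = 1} with hΩ
  rcases OddOrder.Kappa.rank_one_or_tau2 hG hM hpp hpσ with h1 | h2
  · have hSm1 : Sm ≠ ⊥ := fun e => S.ne_bot_of_dvd_card hpM
      ((Subgroup.map_eq_bot_iff_of_injective _ M.subtype_injective).1 e)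
    obtain ⟨X, hXS, hX⟩ := OddOrder.Tau3.exists_line (S.isPGroup'.map M.subtype) hSm1
    have hXM : X ≤ M := hXS.trans (Subgroup.map_subtype_le _)
    have hcyc := OddOrder.TauOne.isCyclic_of_rank_one hG h1 (S.isPGroup'.map M.subtype) (Subgroup.map_subtype_le _)
    have hΩX : Ω = X := by
      refine le_antisymm ((Subgroup.closure_le _).2 fun x hx => ?_) fun x hx => ?_
      · by_cases hx1 : x = 1
        · rw [hx1]; exact X.one_mem
        obtain ⟨w, hw, hw1⟩ := (Subgroup.bot_or_exists_ne_one _).resolve_left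
          (OddOrder.Exceptional.inf_ne_bot_of_cyclic hcyc (S.isPGroup'.map M.subtype) (Subgroup.zpowers_le.2 hx.1) hXS
            (fun e => hx1 (Subgroup.zpowers_eq_bot.1 e)) (OddOrder.Tau3.line_ne_bot hX))
        have hxc : Nat.card (Subgroup.zpowers x) = p := by rw [Nat.card_zpowers]; exact orderOf_eq_prime hx.2 hx1
        rw [SetLike.mem_coe, ← OddOrder.Plane.zpowers_eq hX hw.2 hw1, OddOrder.Plane.zpowers_eq hxc hw.1 hw1]
        exact Subgroup.mem_zpowers x
      · refine Subgroup.subset_closure ⟨hXS hx, ?_⟩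
        have := pow_card_eq_one' (G := X) (x := ⟨x, hx⟩)
        rw [hX] at this
        exact congrArg Subtype.val this
    have hreg : Cfsg.sigmaCore M ⊓ Subgroup.centralizer (X : Set G) = ⊥ := by
      by_contra hne
      exact hpκ (OddOrder.Kappa.kappa_of_line hG hpσ h1 hX hXM hne)
    refine ⟨?_, ?_, ?_⟩
    · rw [hΩX, hX, pow_two]
      exact Nat.le_mul_self p
    · rw [hΩX, hreg]
    · obtain ⟨x, hx, hx1⟩ := OddOrder.Plane.exists_ne_one hX
      haveI := Cfsg.piCore_normal (Cfsg.sigma M) M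
      haveI : Group.IsNilpotent (Cfsg.piCore (Cfsg.sigma M) M) :=
        FixedPointFreeThompson.isNilpotent_of_conj _ hpp (⟨x, hXM hx⟩ : M) (by
          have := pow_card_eq_one' (G := X) (x := ⟨x, hx⟩)
          rw [hX] at this
          exact Subtype.ext (congrArg Subtype.val this :)) fun y hy hxy => by
          refine Subtype.ext (Subgroup.mem_bot.1 (hreg.le ⟨⟨y, hy, rfl⟩, ?_⟩))
          rw [← OddOrder.Plane.zpowers_eq hX hx hx1, OddOrder.Plane.centralizer_zpowers]
          exact Subgroup.mem_centralizer_singleton_iff.2 (congrArg Subtype.val hxy).symm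
      exact Group.nilpotent_of_mulEquiv ((Cfsg.piCore (Cfsg.sigma M) M).equivMapOfInjective M.subtype M.subtype_injective)
  · obtain ⟨A, hAS, hAe, hA⟩ := OddOrder.ComplBasics.exists_plane_sylow h2 S
    obtain ⟨hnil, hsyl, -, hbot, -, -⟩ := S1417.result hG M hM p h2 A ⟨hAS.trans (Subgroup.map_subtype_le _), hAe, hA⟩
    obtain ⟨hiff, -⟩ := (hsyl S).2 hAS
    have hΩA : Ω = A := le_antisymm ((Subgroup.closure_le _).2 fun x hx => (hiff x hx.1).1 hx.2)
      fun x hx => Subgroup.subset_closure ⟨hAS hx, hAe.2 x hx⟩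
    exact ⟨hΩA ▸ hA.le, hΩA ▸ hbot, hnil⟩

end Cfsg.Agent.S1429
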