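import Cfsg.Statements.S1446
import Cfsg.Agent.Lib.Solvable.FrobeniusModuleGroup

set_option autoImplicit false
open Cfsg

open scoped Pointwise commutatorElement

namespace Cfsg.Agent.S1446

/-- Let X be a finite group with subgroups K, R, M such that: K and R are nontrivial, K ∩ R = 1, R normalizes K, no non-identity element of R centralizes a non-identity element of K, K ⊔ R is solvable of odd order; M is nilpotent and nontrivial, normalized by K and by R, with order coprime to that of K ⊔ R, M ∩ C(K) = 1, and M ∩ C(x) = M ∩ C(R) for all non-identity x ∈ R. Then R has prime order p, #M = #(M ∩ C(R)) ^ p, and if M ∩ C(R) is cyclic then [K, K] centralizes M. -/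
theorem result {X : Type*} [Group X] [Finite X] (K R M : Subgroup X) (hK1 : K ≠ ⊥) (hR1 : R ≠ ⊥) (hKR : K ⊓ R = ⊥)
    (hRK : R ≤ Subgroup.normalizer (K : Set X)) (hfrob : ∀ r ∈ R, r ≠ 1 → K ⊓ Subgroup.centralizer ({r} : Set X) = ⊥)
    (hsolv : Group.IsSolvable ↥(K ⊔ R)) (hodd : Odd (Nat.card ↥(K ⊔ R)))
    (hM1 : M ≠ ⊥) (hMn : Group.IsNilpotent M) (hKM : K ≤ Subgroup.normalizer (M : Set X)) (hRM : R ≤ Subgroup.normalizer (M : Set X))
    (hcop : (Nat.card ↥(K ⊔ R)).Coprime (Nat.card M)) (hCK : M ⊓ Subgroup.centralizer (K : Set X) = ⊥)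
    (hpr : ∀ x ∈ R, x ≠ 1 → M ⊓ Subgroup.centralizer ({x} : Set X) = M ⊓ Subgroup.centralizer (R : Set X)) :
    (Nat.card R).Prime ∧ Nat.card M = Nat.card ↥(M ⊓ Subgroup.centralizer (R : Set X)) ^ Nat.card R ∧
      (IsCyclic ↥(M ⊓ Subgroup.centralizer (R : Set X)) → ⁅K, K⁆ ≤ Subgroup.centralizer (M : Set X)) := by
  have hKM : K ⊔ R ≤ Subgroup.normalizer (M : Set X) := sup_le hKM hRM
  have hKs : Group.IsSolvable K := have := hsolv
    Group.isSolvable_of_isSolvable_injective (Subgroup.inclusion_injective (le_sup_left : K ≤ K ⊔ R))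
  have hcK : (Nat.card K).Coprime (Nat.card M) := hcop.coprime_dvd_left (Subgroup.card_dvd_of_le le_sup_left)
  -- the main count for each element of `R`
  have key : ∀ x ∈ R, x ≠ 1 →
      Nat.card M = Nat.card ↥(M ⊓ Subgroup.centralizer (R : Set X)) ^ orderOf x ∧
      ((orderOf x).Prime → IsCyclic ↥(M ⊓ Subgroup.centralizer (R : Set X)) →
        ⁅K, K⁆ ≤ Subgroup.centralizer (M : Set X)) := by
    intro x hx hx1
    set N := Subgroup.normalizer (M : Set X) with hN
    have hKN : K ≤ N := le_sup_left.trans hKM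
    have hMN : M ≤ N := Subgroup.le_normalizer
    have hxN : x ∈ N := hRM hx
    set K' := K.subgroupOf N with hK'
    set M' := M.subgroupOf N with hM'
    have hM'n : M'.Normal := Subgroup.normal_subgroupOf_of_le_normalizer le_rfl
    have e1 : Nat.card K' = Nat.card K := Nat.card_congr (Subgroup.subgroupOfEquivOfLe hKN).toEquiv
    have e2 : Nat.card M' = Nat.card M := Nat.card_congr (Subgroup.subgroupOfEquivOfLe hMN).toEquiv
    have hord : orderOf (⟨x, hxN⟩ : N) = orderOf x := Subgroup.orderOf_mk x hxN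
    have hK's : Group.IsSolvable K' := Group.isSolvable_of_isSolvable_injective
      (f := (Subgroup.subgroupOfEquivOfLe hKN).toMonoidHom) (Subgroup.subgroupOfEquivOfLe hKN).injective
    have hxK : (⟨x, hxN⟩ : N) ∈ Subgroup.normalizer (K' : Set N) :=
      Subgroup.mem_normalizer_iff.2 fun t => Subgroup.mem_normalizer_iff.1 (hRK hx) (t : X)
    obtain ⟨h1, h2⟩ := FrobeniusModule.count_nilpotent _ N K' M' ⟨x, hxN⟩ rfl hK's
      (Group.nilpotent_of_mulEquiv (Subgroup.subgroupOfEquivOfLe hMN).symm)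
      (by rw [e1, e2]; exact hcK)
      (by
        rw [hord, e2]
        exact hcop.coprime_dvd_left ((Subgroup.orderOf_dvd_natCard R hx).trans
          (Subgroup.card_dvd_of_le le_sup_right)))
      hxK
      (fun i hi hin t ht h => by
        rw [hord] at hin
        have hne : x ^ i ≠ 1 := fun h1 => absurd (Nat.le_of_dvd hi (orderOf_dvd_of_pow_eq_one h1)) (not_le.2 hin)
        exact Subtype.ext ((Subgroup.eq_bot_iff_forall _).1 (hfrob (x ^ i) (R.pow_mem hx i) hne) t
          ⟨ht, Subgroup.mem_centralizer_iff.2 fun y hy => by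
            rw [Set.mem_singleton_iff.1 hy]
            exact congrArg Subtype.val h⟩))
      (by
        rw [eq_bot_iff]
        rintro ⟨m, hm⟩ ⟨h3, h4⟩
        refine Subgroup.mem_bot.2 (Subtype.ext ((Subgroup.eq_bot_iff_forall _).1 hCK m ⟨h3, ?_⟩))
        exact Subgroup.mem_centralizer_iff.2 fun t ht =>
          congrArg Subtype.val (Subgroup.mem_centralizer_iff.1 h4 ⟨t, hKN ht⟩ ht))
    have hC : M' ⊓ Subgroup.centralizer ({(⟨x, hxN⟩ : N)} : Set N) =
        (M ⊓ Subgroup.centralizer (R : Set X)).subgroupOf N := by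
      rw [← hpr x hx hx1]
      ext m
      refine ⟨fun ⟨h3, h4⟩ => ⟨h3, Subgroup.mem_centralizer_iff.2 fun y hy => ?_⟩,
        fun ⟨h3, h4⟩ => ⟨h3, Subgroup.mem_centralizer_iff.2 fun y hy => ?_⟩⟩
      · rw [Set.mem_singleton_iff.1 hy]
        exact congrArg Subtype.val (Subgroup.mem_centralizer_iff.1 h4 _ rfl)
      · rw [Set.mem_singleton_iff.1 hy]
        exact Subtype.ext (Subgroup.mem_centralizer_iff.1 h4 x rfl)
    have hle : M ⊓ Subgroup.centralizer (R : Set X) ≤ N := inf_le_left.trans hMN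
    rw [hC, hord] at h1 h2
    rw [Nat.card_congr (Subgroup.subgroupOfEquivOfLe hle).toEquiv, e2] at h1
    refine ⟨h1, fun hp hcyc => ?_⟩
    have := hcyc
    have hcen := h2 hp (isCyclic_of_injective (Subgroup.subgroupOfEquivOfLe hle).toMonoidHom
      (Subgroup.subgroupOfEquivOfLe hle).injective)
    rw [Subgroup.commutator_le]
    intro a ha b hb
    have h5 := hcen (Subgroup.commutator_mem_commutator
      (show (⟨a, hKN ha⟩ : N) ∈ K' from ha) (show (⟨b, hKN hb⟩ : N) ∈ K' from hb))
    exact Subgroup.mem_centralizer_iff.2 fun m hm =>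
      congrArg Subtype.val (Subgroup.mem_centralizer_iff.1 h5 ⟨m, hMN hm⟩ hm)
  have hRn : Nontrivial R := (Subgroup.nontrivial_iff_ne_bot R).2 hR1
  obtain ⟨p, hp, hpd⟩ := Nat.exists_prime_and_dvd (Finite.one_lt_card (α := R)).ne'
  have := Fact.mk hp
  obtain ⟨x, hx⟩ := exists_prime_orderOf_dvd_card' p hpd
  have hxp : orderOf (x : X) = p := by rw [Subgroup.orderOf_coe, hx]
  have hx1 : (x : X) ≠ 1 := fun h => by rw [h, orderOf_one] at hxp; exact hp.ne_one hxp.symm
  obtain ⟨hM, hcyc⟩ := key x x.2 hx1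
  rw [hxp] at hM hcyc
  have hC2 : 2 ≤ Nat.card ↥(M ⊓ Subgroup.centralizer (R : Set X)) := by
    rcases Nat.lt_or_ge (Nat.card ↥(M ⊓ Subgroup.centralizer (R : Set X))) 2 with h | h
    · exfalso
      have h1 : Nat.card ↥(M ⊓ Subgroup.centralizer (R : Set X)) = 1 := by
        have := Nat.card_pos (α := ↥(M ⊓ Subgroup.centralizer (R : Set X))); omega
      rw [h1, one_pow] at hM
      exact hM1 (Subgroup.card_eq_one.1 hM)
    · exact h
  have hexp : ∀ y ∈ R, y ≠ 1 → orderOf y = p := fun y hy hy1 =>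
    Nat.pow_right_injective hC2 ((key y hy hy1).1.symm.trans hM)
  have hRp : IsPGroup p R := fun y => by
    refine ⟨1, Subtype.ext ?_⟩
    rcases eq_or_ne (y : X) 1 with h | h
    · simp [h]
    · rw [pow_one, Subgroup.coe_pow, Subgroup.coe_one, ← hexp _ y.2 h, pow_orderOf_eq_one]
  have hcard : Nat.card R = p := by
    have := hRp.center_nontrivial
    obtain ⟨⟨z, hz⟩, hz1⟩ := exists_ne (1 : Subgroup.center R)
    have hzX : (z : X) ≠ 1 := fun h => hz1 (Subtype.ext (Subtype.ext h))
    by_contra hne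
    obtain ⟨y, hy, hyz⟩ : ∃ y ∈ R, y ∉ Subgroup.zpowers (z : X) := by
      by_contra hc
      push Not at hc
      have hle : R = Subgroup.zpowers (z : X) := le_antisymm hc (Subgroup.zpowers_le.2 z.2)
      exact hne (by rw [hle, Nat.card_zpowers, hexp _ z.2 hzX])
    set E := Subgroup.closure ({(z : X), y} : Set X) with hE
    have hER : E ≤ R := (Subgroup.closure_le _).2 (by
      rintro a (rfl | rfl)
      · exact z.2
      · exact hy)
    have hzy : (z : X) * y = y * z := (congrArg Subtype.val (Subgroup.mem_center_iff.1 hz ⟨y, hy⟩)).symm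
    have : IsMulCommutative E := Subgroup.isMulCommutative_closure (by
      rintro a (rfl | rfl) b (rfl | rfl) <;> first | rfl | exact hzy | exact hzy.symm)
    have hncyc : ¬ IsCyclic E := fun hc => by
      have hdvd : Nat.card E ∣ p := by
        rw [← IsCyclic.exponent_eq_card, Monoid.exponent_dvd_iff_forall_pow_eq_one]
        intro g
        refine Subtype.ext ?_
        rcases eq_or_ne (g : X) 1 with h | h
        · simp [h]
        · rw [Subgroup.coe_pow, Subgroup.coe_one, ← hexp _ (hER g.2) h, pow_orderOf_eq_one]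
      have hzE : Subgroup.zpowers (z : X) = E := Subgroup.eq_of_le_of_card_ge
        (Subgroup.zpowers_le.2 (Subgroup.subset_closure (Or.inl rfl)))
        (by rw [Nat.card_zpowers, hexp _ z.2 hzX]; exact Nat.le_of_dvd hp.pos hdvd)
      exact hyz (hzE ▸ Subgroup.subset_closure (Or.inr rfl))
    have hEK : E ≤ Subgroup.normalizer (K : Set X) := hER.trans hRK
    have hcopRK : (Nat.card E).Coprime (Nat.card K) := by
      obtain ⟨b, hb⟩ := (hRp.to_le hER).exists_card_eq
      rw [hb]
      refine Nat.Coprime.pow_left b ((hp.coprime_iff_not_dvd).2 fun hpK => ?_)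
      -- `x` would fix an element of order `p` of `K`
      have hXK : Subgroup.zpowers (x : X) ≤ Subgroup.normalizer (K : Set X) :=
        Subgroup.zpowers_le.2 (hRK x.2)
      let θ : MulAut K := K.normalizerMonoidHom ⟨x, hRK x.2⟩
      have hθ : θ ^ p = 1 := by
        rw [← map_pow, show (⟨(x : X), hRK x.2⟩ : Subgroup.normalizer (K : Set X)) ^ p = 1 from
          Subtype.ext (hxp ▸ pow_orderOf_eq_one _), map_one]
      classical
      have := Fintype.ofFinite K
      let F : Function.End K := (θ : K → K)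
      have hFk : ∀ k : ℕ, F ^ k = ((θ ^ k : MulAut K) : K → K) := by
        intro k
        induction k with
        | zero => rfl
        | succ k ih => rw [pow_succ', ih, pow_succ']; rfl
      have hmod := Equiv.Perm.card_fixedPoints_modEq (f := F) (p := p) (n := 1)
        (by rw [pow_one, hFk, hθ]; rfl)
      have hfp : Fintype.card (Function.fixedPoints F) = 1 := by
        rw [Fintype.card_eq_one_iff]
        refine ⟨⟨1, map_one θ⟩, fun ⟨a, ha⟩ => Subtype.ext (Subtype.ext ?_)⟩
        refine (Subgroup.eq_bot_iff_forall _).1 (hfrob x x.2 hx1) (a : X)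
          ⟨a.2, Subgroup.mem_centralizer_iff.2 fun t ht => ?_⟩
        rw [Set.mem_singleton_iff.1 ht]
        have h : (x : X) * (a : X) * (x : X)⁻¹ = a := congrArg Subtype.val ha
        exact mul_inv_eq_iff_eq_mul.1 h
      rw [hfp, ← Nat.card_eq_fintype_card] at hmod
      have h0 := (Nat.modEq_zero_iff_dvd.2 hpK).symm.trans hmod
      exact hp.not_dvd_one (Nat.modEq_zero_iff_dvd.1 h0.symm)
    refine hK1 ?_
    rw [← CoprimeAct.generated_by_centralizers hncyc hEK hcopRK, eq_bot_iff]
    exact iSup₂_le fun a ha => (hfrob a (hER ha.1) ha.2).le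
  rw [hcard]
  exact ⟨hp, hM, hcyc hp⟩

end Cfsg.Agent.S1446
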