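import Cfsg.Statements.S1352
import Cfsg.Agent.Lib.OddOrder.KappaDecomp

set_option autoImplicit false
open Cfsg

namespace Cfsg.Agent.S1352

open scoped Pointwise

/-- Let G be a minimal simple group of odd order, M a maximal subgroup and K a cyclic Hall κ(M)-subgroup of M. Then there is a subgroup U of M, normalized by K, with U ∩ K M_σ = 1 and M = U K M_σ; moreover U M_σ is normal in M for any such U. -/
theorem result {G : Type*} [Group G] [Finite G] (hG : Cfsg.IsMinSimpleOddOrder G)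
    (M : Subgroup G) (hM : IsCoatom M) (K : Subgroup G)
    (hKc : IsCyclic K) (hK : Cfsg.IsPiHallOf (Cfsg.kappa M) K M) :
    (∃ U : Subgroup G, Cfsg.IsSigmaDecomposition M K U) ∧
      ∀ U : Subgroup G, Cfsg.IsSigmaDecomposition M K U → M ≤ Subgroup.normalizer ((U ⊔ Cfsg.sigmaCore M : Subgroup G) : Set G) := by
  obtain ⟨E, hE, hKE⟩ := OddOrder.Kappa.exists_compl_ge hG hM hK
  refine ⟨?_, fun U hKU => ?_⟩
  · by_cases hK1 : K = ⊥
    · subst hK1
      refine ⟨E, hKc, hK, ?_, bot_le⟩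
      rw [bot_sup_eq]
      exact hE
    obtain ⟨U, F⟩ := OddOrder.Kappa.exists_factor hG hM hE hKE hK hK1
    refine ⟨U, hKc, hK, ⟨F.U_le.trans hE.1, sup_le hK.1 (OddOrder.Exceptional.sigmaCore_le M), ?_, fun m hm => ?_⟩,
      hKE.trans F.norm⟩
    · rw [Subgroup.eq_bot_iff_forall]
      rintro x ⟨hxU, hx⟩
      have hx' : x ∈ (K : Set G) * (Cfsg.sigmaCore M : Set G) := by
        rw [← Subgroup.coe_mul_of_left_le_normalizer_right _ _
          (hK.1.trans (OddOrder.Exceptional.le_normalizer_sigmaCore M))]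
        exact hx
      obtain ⟨k, hk, s, hs, rfl⟩ := hx'
      have hs1 : s = 1 := Subgroup.mem_bot.1 (hE.2.2.1.le ⟨by
        have := E.mul_mem (E.inv_mem (hKE hk)) (F.U_le hxU)
        simpa using this, hs⟩)
      subst hs1
      simp only [mul_one] at hxU ⊢
      exact Subgroup.mem_bot.1 (F.inf_eq_bot.le ⟨hxU, hk⟩)
    · obtain ⟨e, he, s, hs, rfl⟩ := hE.2.2.2 m hm
      obtain ⟨u, hu, k, hk, rfl⟩ := F.sup e he
      exact ⟨u, hu, k * s, mul_mem (Subgroup.mem_sup_left hk) (Subgroup.mem_sup_right hs), mul_assoc _ _ _⟩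
  · have hUK : U ⊔ K ≤ Subgroup.normalizer (U : Set G) := sup_le Subgroup.le_normalizer hKU.normal
    have hc := OddOrder.Kappa.decomp_compl hKU
    intro m hm
    obtain ⟨e, he, s, hs, rfl⟩ := hc.2.2.2 m hm
    refine mul_mem ?_ (Subgroup.le_normalizer (Subgroup.mem_sup_right hs))
    rw [Subgroup.mem_normalizer_iff_map_conj_eq, Subgroup.map_sup, Subgroup.mem_normalizer_iff_map_conj_eq.1 (hUK he),
      Subgroup.mem_normalizer_iff_map_conj_eq.1 (OddOrder.Exceptional.le_normalizer_sigmaCore M (hc.1 he))]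

end Cfsg.Agent.S1352
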