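import Cfsg.Statements.S1374
import Cfsg.Agent.Lib.OddOrder.SigmaSupportR

set_option autoImplicit false
open Cfsg

namespace Cfsg.Agent.S1374

/-- Let G be a minimal simple group of odd order, M a maximal subgroup and x a non-identity element of M_σ. Then C_M(x) has order coprime to its index in C_G(x), and C_G(x) has a normal subgroup R complementing C_M(x) such that for every conjugate gMg⁻¹ containing x there is exactly one r ∈ R with rMr⁻¹ = gMg⁻¹. -/
theorem result {G : Type*} [Group G] [Finite G] (hG : Cfsg.IsMinSimpleOddOrder G)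
    (M : Subgroup G) (hM : IsCoatom M) (x : G) (hx : x ∈ Cfsg.sigmaCore M) (hx1 : x ≠ 1) :
    (Nat.card ↥(M ⊓ Subgroup.centralizer ({x} : Set G))).Coprime ((M ⊓ Subgroup.centralizer ({x} : Set G)).relIndex (Subgroup.centralizer ({x} : Set G))) ∧
      ∃ R : Subgroup G, Subgroup.centralizer ({x} : Set G) ≤ Subgroup.normalizer (R : Set G) ∧ Cfsg.IsComplIn (M ⊓ Subgroup.centralizer ({x} : Set G)) R (Subgroup.centralizer ({x} : Set G)) ∧
        ∀ g : G, x ∈ M.map (MulAut.conj g).toMonoidHom → ∃! r : G, r ∈ R ∧ M.map (MulAut.conj r).toMonoidHom = M.map (MulAut.conj g).toMonoidHom := by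
  set C := Subgroup.centralizer ({x} : Set G) with hC
  by_cases hxM : C ≤ M
  · refine ⟨by rw [inf_eq_right.2 hxM, Subgroup.relIndex_self]; exact Nat.coprime_one_right _, ⊥, fun c _ => ?_,
      ⟨inf_le_right, bot_le, inf_bot_eq _, fun c hc => ⟨c, ⟨hxM hc, hc⟩, 1, one_mem _, (mul_one c).symm⟩⟩, fun g hg => ?_⟩
    · refine OddOrder.ComplAbelian.mem_normalizer_of_map_le fun y hy => ?_
      rw [Subgroup.mem_bot.1 hy, mul_one, mul_inv_cancel]
      exact one_mem _
    · obtain ⟨c, hc, hcg⟩ := OddOrder.Support.conj_eq hG hM hx hx1 hg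
      refine ⟨1, ⟨one_mem _, ?_⟩, fun r hr => Subgroup.mem_bot.1 hr.1⟩
      rw [← hcg, OddOrder.Support.map_conj_of_mem (hxM hc), OddOrder.Support.map_conj_of_mem M.one_mem]
  obtain ⟨N, hN, hCN, -, -, -, hbot, hcompl, -⟩ := OddOrder.Support.exists_support hG hM hx hx1 hxM
  have hxN : x ∈ N := hCN (Subgroup.mem_centralizer_singleton_iff.2 rfl)
  have hxM' : x ∈ M := OddOrder.Exceptional.sigmaCore_le M hx
  have hsplit := OddOrder.Support.centralizer_compl hcompl hxM' hxN hCN
  set R := Cfsg.sigmaCore N ⊓ C with hR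
  refine ⟨?_, R, OddOrder.Support.centralizer_le_normalizer_core hCN, hsplit, fun g hg => ?_⟩
  · have h1 : Nat.card (M ⊓ C : Subgroup G) * (M ⊓ C).relIndex C = Nat.card C := by
      have := Subgroup.relIndex_mul_relIndex ⊥ (M ⊓ C) C bot_le inf_le_right
      rwa [Subgroup.relIndex_bot_left, Subgroup.relIndex_bot_left] at this
    have hsup : R ⊔ (M ⊓ C) = C := le_antisymm (sup_le inf_le_right inf_le_right) fun c hc => by
      obtain ⟨a, ha, b, hb, rfl⟩ := hsplit.2.2.2 c hc
      exact mul_mem (Subgroup.mem_sup_right ha) (Subgroup.mem_sup_left hb)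
    have hn : M ⊓ C ≤ Subgroup.normalizer (R : Set G) :=
      inf_le_right.trans (OddOrder.Support.centralizer_le_normalizer_core hCN)
    have hd : Nat.card (R ⊔ (M ⊓ C) : Subgroup G) ∣ Nat.card R * Nat.card (M ⊓ C : Subgroup G) :=
      Dvd.intro _ (SolvBasic.card_sup_mul_card_inf hn)
    rw [hsup] at hd
    rw [← h1, mul_comm (Nat.card R)] at hd
    refine Nat.Coprime.coprime_dvd_right (Nat.dvd_of_mul_dvd_mul_left Nat.card_pos hd) ?_
    exact ((OddOrder.ComplBasics.coprime_card hG hN hcompl).coprime_dvd_left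
      (Subgroup.card_dvd_of_le (le_inf inf_le_left (inf_le_right.trans hCN)))).coprime_dvd_right
      (Subgroup.card_dvd_of_le inf_le_left)
  · obtain ⟨c, hc, hcg⟩ := OddOrder.Support.conj_eq hG hM hx hx1 hg
    obtain ⟨a, ha, r, hr, har⟩ := hsplit.2.2.2 c⁻¹ (inv_mem hc)
    have hgr : M.map (MulAut.conj r⁻¹).toMonoidHom = M.map (MulAut.conj g).toMonoidHom := by
      rw [← hcg, ← inv_inv c, har, mul_inv_rev, ← OddOrder.Sigma.map_conj_map,
        OddOrder.Support.map_conj_of_mem (M.inv_mem ha.1)]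
    refine ⟨r⁻¹, ⟨inv_mem hr, hgr⟩, fun s ⟨hs, hsg⟩ => ?_⟩
    have hmem : r * s ∈ M := by
      refine OddOrder.Support.mem_of_map_conj hG hM ?_
      rw [← OddOrder.Sigma.map_conj_map, hsg, ← hgr, OddOrder.Sigma.map_conj_map, mul_inv_cancel,
        OddOrder.Sigma.map_conj_one]
    exact eq_inv_of_mul_eq_one_right (Subgroup.mem_bot.1 (hbot.le ⟨mul_mem hr.1 hs.1, hmem⟩))

end Cfsg.Agent.S1374
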