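import Cfsg.Statements.S1414
import Cfsg.Agent.Lib.OddOrder.BetaCore

set_option autoImplicit false
open Cfsg

namespace Cfsg.Agent.S1414

open scoped commutatorElement

/-- Let G be a minimal simple group of odd order, M a maximal subgroup, β(M) the set of ideal primes in α(M), and M_β = O_{β(M)}(M). Then M_β is a Hall β(M)-subgroup of M and of G; M' and M_σ each have a nilpotent Hall β(M)'-subgroup; and for each prime p dividing the order of M with p ∉ β(M), both M' and M_σ have normal p-complements and every prime dividing the index of O_{p'}(M) in M is at most p. -/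
theorem result {G : Type*} [Group G] [Finite G] (hG : Cfsg.IsMinSimpleOddOrder G)
    (M : Subgroup G) (hM : IsCoatom M) :
    Cfsg.IsPiHallOf (Cfsg.beta M) (Cfsg.piCoreOf (Cfsg.beta M) M) M ∧ Cfsg.IsPiHall (Cfsg.beta M) (Cfsg.piCoreOf (Cfsg.beta M) M) ∧
      (∃ H : Subgroup G, Cfsg.IsPiHallOf {q | q.Prime ∧ q ∉ Cfsg.beta M} H ⁅M, M⁆ ∧ Group.IsNilpotent H) ∧
      (∃ H : Subgroup G, Cfsg.IsPiHallOf {q | q.Prime ∧ q ∉ Cfsg.beta M} H (Cfsg.sigmaCore M) ∧ Group.IsNilpotent H) ∧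
      ∀ p : ℕ, p.Prime → p ∣ Nat.card M → p ∉ Cfsg.beta M →
        Cfsg.HasNormalPComplement p ↥⁅M, M⁆ ∧ Cfsg.HasNormalPComplement p ↥(Cfsg.sigmaCore M) ∧
        ∀ q : ℕ, q.Prime → q ∣ (Cfsg.pPrimeCore p ↥M).index → q ≤ p := by
  have hall := Cfsg.Agent.OddOrder.BetaCore.hall hG hM
  have hβσ := Cfsg.Agent.OddOrder.BetaCore.beta_subset_sigma hG hM
  have hσder : Cfsg.sigmaCore M ≤ ⁅M, M⁆ :=
    Cfsg.Agent.OddOrder.Sigma.piCoreOf_le_derived hG hM (le_refl (Cfsg.sigma M))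
  have hσM : Cfsg.sigmaCore M ≤ M := Subgroup.map_subtype_le _
  have hMM : ⁅M, M⁆ ≤ M := Subgroup.commutator_le.2 fun a ha b hb => by
    rw [commutatorElement_def]
    exact M.mul_mem (M.mul_mem (M.mul_mem ha hb) (M.inv_mem ha)) (M.inv_mem hb)
  have hβσcore : Cfsg.piCoreOf (Cfsg.beta M) M ≤ Cfsg.sigmaCore M :=
    Subgroup.map_mono (sSup_le_sSup fun N hN => ⟨hN.1, fun r hr hd => hβσ (hN.2 r hr hd)⟩)
  refine ⟨hall.1, hall.2,
    Cfsg.Agent.OddOrder.BetaCore.exists_nilpotent_hall hG hM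
      (Cfsg.Agent.OddOrder.Sigma.piCoreOf_le_derived hG hM hβσ) le_rfl,
    Cfsg.Agent.OddOrder.BetaCore.exists_nilpotent_hall hG hM hβσcore hσder, fun p hp hpM hβ => ?_⟩
  haveI := Fact.mk hp
  exact ⟨Cfsg.Agent.OddOrder.BetaCore.hasNormalPComplement hG hM hpM hβ le_rfl hMM,
    Cfsg.Agent.OddOrder.BetaCore.hasNormalPComplement hG hM hpM hβ hσder hσM,
    (Cfsg.Agent.OddOrder.BetaCore.structure_notBeta hG hM hpM hβ).1⟩

end Cfsg.Agent.S1414
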