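import Cfsg.Statements.S1445
import Cfsg.Agent.Lib.Solvable.FpfFitting

set_option autoImplicit false
open Cfsg

open scoped Pointwise commutatorElement

namespace Cfsg.Agent.S1445

/-- Let G be a solvable group of odd order, K a normal subgroup and R a subgroup with G = KR and the orders of K and R coprime. Suppose K ∩ C_G(x) = K ∩ C_G(R) for every non-identity x ∈ R, and F(K) ∩ C_G(R) = 1. Then [K, R] is contained in the Fitting subgroup of K. -/
theorem result {G : Type*} [Group G] [Finite G] [Group.IsSolvable G] (hodd : Odd (Nat.card G)) (K R : Subgroup G) [K.Normal] (hKR : K ⊔ R = ⊤) (hcop : (Nat.card K).Coprime (Nat.card R))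
    (hprime : ∀ x ∈ R, x ≠ 1 → K ⊓ Subgroup.centralizer ({x} : Set G) = (K ⊓ Subgroup.centralizer (R : Set G)))
    (hF : Cfsg.fittingOf K ⊓ Subgroup.centralizer (R : Set G) = ⊥) :
    ⁅K, R⁆ ≤ Cfsg.fittingOf K := by
  rcases eq_or_ne R ⊥ with rfl | hR
  · rw [Subgroup.commutator_bot_right]; exact bot_le
  have : Nontrivial R := (Subgroup.nontrivial_iff_ne_bot R).2 hR
  obtain ⟨r, hr, hrd⟩ := Nat.exists_prime_and_dvd (Finite.one_lt_card (α := R)).ne'
  have := Fact.mk hr
  obtain ⟨x, hx⟩ := exists_prime_orderOf_dvd_card' r hrd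
  have hx' : orderOf (x : G) = r := by rw [Subgroup.orderOf_coe, hx]
  have hx1 : (x : G) ≠ 1 := fun h => by rw [h, orderOf_one] at hx'; exact hr.ne_one hx'.symm
  set F := Cfsg.fittingOf K with hFdef
  have hFn : F.Normal :=
    FittingCores.normal_map_of_characteristic inferInstance FittingCores.fitting_characteristic
  have hcx : r.Coprime (Nat.card K) := (hcop.coprime_dvd_right hrd).symm
  have hCx : F ⊓ Subgroup.centralizer ({(x : G)} : Set G) = ⊥ := by
    rw [eq_bot_iff, ← hF]
    refine le_inf inf_le_left ?_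
    intro y hy
    have : y ∈ K ⊓ Subgroup.centralizer ({(x : G)} : Set G) :=
      ⟨OddOrder.FitOf.fittingOf_le K hy.1, hy.2⟩
    rw [hprime _ x.2 hx1] at this
    exact this.2
  have hle := FpfFitting.fpf_fitting hodd K hx' hcx hCx
  have hK : K ≤ F ⊔ (K ⊓ Subgroup.centralizer (R : Set G)) := by
    conv_lhs => rw [← CoprimeAct.commutator_sup_centralizer (A := Subgroup.zpowers (x : G)) (K := K)
      (by rw [Subgroup.normalizer_eq_top]; exact le_top)
      (by rw [Nat.card_zpowers, hx']; exact hcx) (Or.inr inferInstance),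
      FpfFitting.centralizer_zpowers, hprime _ x.2 hx1]
    exact sup_le (hle.trans le_sup_left) le_sup_right
  rw [Subgroup.commutator_le]
  intro k hk y hy
  have hk' := hK hk
  rw [← SetLike.mem_coe, Subgroup.normal_mul] at hk'
  obtain ⟨f, hf, c, hc, rfl⟩ := hk'
  have hcy : c * y = y * c := (Subgroup.mem_centralizer_iff.1 hc.2 y hy).symm
  rw [show ⁅f * c, y⁆ = f * (c * y) * c⁻¹ * f⁻¹ * y⁻¹ by rw [commutatorElement_def]; group, hcy,
    show f * (y * c) * c⁻¹ * f⁻¹ * y⁻¹ = f * (y * f⁻¹ * y⁻¹) by group]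
  exact F.mul_mem hf (hFn.conj_mem _ (F.inv_mem hf) y)

end Cfsg.Agent.S1445
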