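import Cfsg.Statements.S1351
import Cfsg.Agent.Lib.OddOrder.PartnerPair

set_option autoImplicit false
open Cfsg

namespace Cfsg.Agent.S1351

/-- Let G be a minimal simple group of odd order and M a maximal subgroup. Then M possesses a Hall κ(M)-subgroup, and every Hall κ(M)-subgroup of M is cyclic. -/
theorem result {G : Type*} [Group G] [Finite G] (hG : Cfsg.IsMinSimpleOddOrder G)
    (M : Subgroup G) (hM : IsCoatom M) :
    (∃ K : Subgroup G, Cfsg.IsPiHallOf (Cfsg.kappa M) K M) ∧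
      ∀ K : Subgroup G, Cfsg.IsPiHallOf (Cfsg.kappa M) K M → IsCyclic K := by
  obtain ⟨K, hK, -⟩ : ∃ K : Subgroup G, Cfsg.IsPiHallOf (Cfsg.kappa M) K M ∧ ⊥ ≤ K := by
    haveI := OddOrder.MinSimple.isSolvable hG hM.1
    exact OddOrder.Pairing.exists_piHall (Cfsg.kappa M) (bot_le : (⊥ : Subgroup G) ≤ M)
      fun r hr hd => absurd (Nat.dvd_one.1 (by rwa [Subgroup.card_bot] at hd)) hr.ne_one
  refine ⟨⟨K, hK⟩, fun K' hK' => ?_⟩
  by_cases hK1 : K' = ⊥
  · subst hK1
    infer_instance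
  exact (OddOrder.Pairing.Member.of_hall hM hK' hK1).cyclic hG

end Cfsg.Agent.S1351
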