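import Cfsg.Statements.S1354
import Cfsg.Agent.Lib.OddOrder.KappaFactor

set_option autoImplicit false
open Cfsg

namespace Cfsg.Agent.S1354

/-- Let G be a minimal simple group of odd order, M a maximal subgroup and K a cyclic Hall κ(M)-subgroup of M, and put K* = M_σ ∩ C_G(K). Then K* ≠ 1, and if K ≠ 1 then for every non-identity k ∈ K the centralizer C_M(k) is the subgroup generated by K and K* (an internal direct product, as K ∩ M_σ = 1 and K* centralizes K). -/
theorem result {G : Type*} [Group G] [Finite G] (hG : Cfsg.IsMinSimpleOddOrder G)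
    (M : Subgroup G) (hM : IsCoatom M) (K : Subgroup G)
    (hKc : IsCyclic K) (hK : Cfsg.IsPiHallOf (Cfsg.kappa M) K M) :
    Cfsg.sigmaCore M ⊓ Subgroup.centralizer (K : Set G) ≠ ⊥ ∧
      (K ≠ ⊥ → ∀ k ∈ K, k ≠ 1 →
        M ⊓ Subgroup.centralizer ({k} : Set G) = K ⊔ (Cfsg.sigmaCore M ⊓ Subgroup.centralizer (K : Set G))) := by
  haveI := hKc
  by_cases hK1 : K = ⊥
  · refine ⟨fun e => OddOrder.Kappa.sigmaCore_ne_bot hG hM (le_bot_iff.1 (e ▸ le_inf le_rfl ?_)), fun h => absurd hK1 h⟩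
    rw [hK1, Subgroup.le_centralizer_iff]
    exact bot_le
  obtain ⟨E, hE, hKE⟩ := OddOrder.Kappa.exists_compl_ge hG hM hK
  obtain ⟨U, F⟩ := OddOrder.Kappa.exists_factor hG hM hE hKE hK hK1
  exact ⟨F.fixed_ne, fun _ k hk hk1 => F.centralizer_of_mem hE inferInstance hk hk1⟩

end Cfsg.Agent.S1354
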