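import Cfsg.Statements.S1366
import Cfsg.Agent.Lib.OddOrder.PartnerPair

set_option autoImplicit false
open Cfsg

namespace Cfsg.Agent.S1366

/-- Let G be a minimal simple group of odd order, M a maximal subgroup with standard factorisation M = K U M_σ, K ≠ 1, and K* = M_σ ∩ C_G(K). Then there is exactly one maximal subgroup M* of G such that K = M*_σ ∩ C_G(K*) and K* is a Hall κ(M*)-subgroup of M* (in particular κ(M*) is nonempty). -/
theorem result {G : Type*} [Group G] [Finite G] (hG : Cfsg.IsMinSimpleOddOrder G)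
    (M : Subgroup G) (hM : IsCoatom M) (K U : Subgroup G) (hKU : Cfsg.IsSigmaDecomposition M K U) (hK1 : K ≠ ⊥) :
    ∃! Mstar : Subgroup G, IsCoatom Mstar ∧ K = Cfsg.sigmaCore Mstar ⊓ Subgroup.centralizer ((Cfsg.sigmaCore M ⊓ Subgroup.centralizer (K : Set G)) : Set G) ∧
        Cfsg.IsPiHallOf (Cfsg.kappa Mstar) (Cfsg.sigmaCore M ⊓ Subgroup.centralizer (K : Set G)) Mstar := by
  have m := OddOrder.Pairing.Member.of_hall hM hKU.hall hK1
  obtain ⟨N, D, P⟩ := m.exists_pair hG
  refine ⟨N, ⟨P.right.coatom, ?_, P.D_eq.symm ▸ P.right.hall⟩, fun N' hN' => ?_⟩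
  · show K = Cfsg.sigmaCore N ⊓ Subgroup.centralizer
      ((Cfsg.sigmaCore M ⊓ Subgroup.centralizer (K : Set G) : Subgroup G) : Set G)
    rw [P.D_eq, P.symm.D_eq]
  · obtain ⟨hc, h1, h2⟩ := hN'
    have P' := OddOrder.Pairing.pair_of_data hG hM hKU.hall hK1 hc h1 h2
    exact (P.only N' _ P'.right).resolve_left P'.ne

end Cfsg.Agent.S1366
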