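import Cfsg.Statements.S1363
import Cfsg.Agent.Lib.OddOrder.SignalizerP2
import Cfsg.Agent.S1366

set_option autoImplicit false
open Cfsg

namespace Cfsg.Agent.S1363

/-- Let G be a minimal simple group of odd order and M a maximal subgroup with standard factorisation M = K U M_σ and K ≠ 1. Then U is abelian and the normalizer of U in G is not contained in M. -/
theorem result {G : Type*} [Group G] [Finite G] (hG : Cfsg.IsMinSimpleOddOrder G)
    (M : Subgroup G) (hM : IsCoatom M) (K U : Subgroup G) (hKU : Cfsg.IsSigmaDecomposition M K U) (hK1 : K ≠ ⊥) :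
    IsMulCommutative U ∧ ¬ Subgroup.normalizer (U : Set G) ≤ M := by
  have F := OddOrder.Kappa.decomp_factor hG hM hKU hK1
  refine ⟨F.comm, ?_⟩
  by_cases hU1 : U = ⊥
  · rw [hU1, Subgroup.normalizer_eq_top_iff.2 inferInstance]
    exact fun h => hM.1 (top_le_iff.1 h)
  obtain ⟨r, hr, hrd⟩ := Nat.exists_prime_and_dvd fun e => hU1 (Subgroup.card_eq_one.1 e)
  haveI := Fact.mk hr
  obtain ⟨R⟩ : Nonempty (Sylow r U) := inferInstance
  have hR1 : (R : Subgroup U).map U.subtype ≠ ⊥ := fun e =>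
    R.ne_bot_of_dvd_card hrd ((Subgroup.map_eq_bot_iff_of_injective _ U.subtype_injective).1 e)
  obtain ⟨H, hH, hNR⟩ := OddOrder.Uniq.exists_maximal_ge (OddOrder.MinSimple.normalizer_ne_top hG hR1
    (OddOrder.MinSimple.pSubgroup_ne_top hG (R.isPGroup'.map U.subtype)))
  obtain ⟨Ms, ⟨hMs, hKst, hKstH⟩, -⟩ := S1366.result hG M hM K U hKU hK1
  have P := OddOrder.Pairing.pair_of_data hG hM hKU.hall hK1 hMs hKst hKstH
  exact fun h => (OddOrder.Sig.main hG hKU hU1 P hrd R hH hNR).2.2.2.1 (inf_le_right.trans h)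

end Cfsg.Agent.S1363
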