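import Cfsg.Statements.S1500
import Cfsg.Agent.Lib.Char.Dade
-- import your own Cfsg.Agent.* helpers here

set_option autoImplicit false
open Cfsg

namespace Cfsg.Agent.S1500

/-- Under the Dade hypothesis for (A, L, H), let α be a class function of L vanishing outside A. Then (i) for every class function β of L vanishing outside A, the inner product over G of the Dade images of α and β equals the inner product of α and β over L; and (ii) for every class function χ of G and every function ψ on L whose value at each a ∈ A is the average of χ over the coset a·H(a), the inner product over G of the Dade image of α with χ equals the inner product over L of α with ψ. -/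
theorem result {G : Type*} [Group G] [Fintype G] (A : Set G) (L : Subgroup G) [Fintype L] (H : G → Subgroup G) (hD : Cfsg.DadeHypothesis A L H) (α : L → ℂ) (hα : Cfsg.IsClassFunction L α) (hαA : ∀ x : L, (x : G) ∉ A → α x = 0) : (∀ β : L → ℂ, Cfsg.IsClassFunction L β → (∀ x : L, (x : G) ∉ A → β x = 0) → Cfsg.classInner (Cfsg.dadeIsometry A L H α) (Cfsg.dadeIsometry A L H β) = Cfsg.classInner α β) ∧ (∀ (χ : G → ℂ) (ψ : L → ℂ), Cfsg.IsClassFunction G χ → (∀ a : L, (a : G) ∈ A → ψ a = (Nat.card (H a) : ℂ)⁻¹ * ∑ᶠ u ∈ (H a : Set G), χ (a * u)) → Cfsg.classInner (Cfsg.dadeIsometry A L H α) χ = Cfsg.classInner α ψ) := by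
  classical
  have conv : ∀ (a : G) (F : G → ℂ), (∑ᶠ u ∈ (H a : Set G), F u) = ∑ u ∈ Cfsg.Agent.Char.Dade.fin (H a), F u := fun a F => by
    rw [finsum_mem_eq_sum_of_inter_support_eq]
    ext x
    simp
  constructor
  · intro β hβ hβA
    refine Cfsg.Agent.Char.Dade.classInner_dade_avg hD hα hαA (Cfsg.Agent.Char.Dade.isClassFunction_dade hD hβ) (fun a ha => ?_)
    rw [Finset.sum_congr rfl (fun u hu => Cfsg.Agent.Char.Dade.dadeIsometry_coset hD hβ ha (Cfsg.Agent.Char.Dade.mem_fin.mp hu)),
      Finset.sum_const, Cfsg.Agent.Char.Dade.card_fin, nsmul_eq_mul, inv_mul_cancel_left₀]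
    exact Nat.cast_ne_zero.mpr Nat.card_pos.ne'
  · intro χ ψ hχ hψ
    refine Cfsg.Agent.Char.Dade.classInner_dade_avg hD hα hαA hχ (fun a ha => ?_)
    rw [hψ a ha, conv]


end Cfsg.Agent.S1500
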