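import Cfsg.Statements.S1537
import Cfsg.Agent.Lib.OddOrder.TypeA

set_option autoImplicit false
open Cfsg

namespace Cfsg.Agent.S1537

/-- Let G be a minimal simple group of odd order and M a maximal subgroup. For A equal to A₁(M), A(M) or A₀(M): the set normaliser of A is M, and the Dade hypothesis holds for A, M and the function a ↦ R(a). -/
theorem result {G : Type*} [Group G] [Finite G] (hG : Cfsg.IsMinSimpleOddOrder G) (M : Subgroup G) (hM : IsCoatom M) (A : Set G) (hA : A = Cfsg.typeA1 M ∨ A = Cfsg.typeA M ∨ A = Cfsg.typeA0 M) : Subgroup.normalizer A = M ∧ Cfsg.DadeHypothesis A M (Cfsg.supportR M) := by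
  have h0 : Cfsg.typeA M ⊆ Cfsg.typeA0 M := fun a ha => Or.inl ha
  have h1 : Cfsg.typeA1 M ⊆ Cfsg.typeA0 M := (OddOrder.TypeA.typeA1_sub hG hM).trans h0
  have hne := OddOrder.TypeA.typeA1_nonempty hG hM
  rcases hA with rfl | rfl | rfl
  · exact ⟨OddOrder.TypeA.normalizer_eq hG hM _ hne h1 fun y hy a ha => OddOrder.TypeA.typeA1_conj hG hM hy ha,
      OddOrder.TypeA.hypothesis hG hM _ h1 fun y hy a ha => OddOrder.TypeA.typeA1_conj hG hM hy ha⟩
  · have hn := hne.mono (OddOrder.TypeA.typeA1_sub hG hM)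
    exact ⟨OddOrder.TypeA.normalizer_eq hG hM _ hn h0 fun y hy a ha => OddOrder.TypeA.typeA_conj hG hM hy ha,
      OddOrder.TypeA.hypothesis hG hM _ h0 fun y hy a ha => OddOrder.TypeA.typeA_conj hG hM hy ha⟩
  · exact ⟨OddOrder.TypeA.normalizer_eq hG hM _ (hne.mono h1) subset_rfl fun y hy a ha => OddOrder.TypeA.typeA0_conj hG hM hy ha,
      OddOrder.TypeA.hypothesis hG hM _ subset_rfl fun y hy a ha => OddOrder.TypeA.typeA0_conj hG hM hy ha⟩

end Cfsg.Agent.S1537
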