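import Cfsg.Statements.S1538
import Cfsg.Agent.Lib.OddOrder.TypeA
import Cfsg.Agent.S1372

set_option autoImplicit false
open Cfsg

namespace Cfsg.Agent.S1538

/-- Let G be a minimal simple group of odd order and M a maximal subgroup of Type II. Then each of A₀(M), A(M), A₁(M) is a TI-subset of G whose set normaliser is M. -/
theorem result {G : Type*} [Group G] [Finite G] (hG : Cfsg.IsMinSimpleOddOrder G) (M : Subgroup G) (hM : IsCoatom M) (hII : Cfsg.IsOfTypeII M) : (Cfsg.IsTISubset (Cfsg.typeA0 M) ∧ Subgroup.normalizer (Cfsg.typeA0 M) = M) ∧ (Cfsg.IsTISubset (Cfsg.typeA M) ∧ Subgroup.normalizer (Cfsg.typeA M) = M) ∧ (Cfsg.IsTISubset (Cfsg.typeA1 M) ∧ Subgroup.normalizer (Cfsg.typeA1 M) = M) := by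
  obtain ⟨K, U, hKU⟩ := OddOrder.FStruct.exists_decomp hG hM
  obtain ⟨hK1, hU1⟩ := (OddOrder.Types.typeII_iff hG hM hKU).1 hII
  obtain ⟨-, hTI, hSF⟩ := S1372.result hG M hM K U hKU hK1 hU1
  have hC : ∀ v ∈ Cfsg.typeA0 M, Subgroup.centralizer ({v} : Set G) ≤ M := by
    intro v hv
    by_contra hno
    obtain ⟨hvσ, hv1⟩ := OddOrder.TypeA.mem_sigma_of_large hG hM hv hno
    refine hno fun c hc => ?_
    by_contra hcM
    refine hv1 (hTI c (fun h => hcM ?_) v (hSF hvσ) ?_)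
    · rwa [OddOrder.FTI.normalizer_of_normal hG hM (OddOrder.FitOf.fittingOf_le M)
        (fun e => hv1 (Subgroup.mem_bot.1 (e.le (hSF hvσ)))) (OddOrder.FitOf.le_normalizer_fittingOf M)] at h
    · rw [Subgroup.mem_centralizer_singleton_iff.1 hc, mul_inv_cancel_right]
      exact hSF hvσ
  have main : ∀ A : Set G, A.Nonempty → A ⊆ Cfsg.typeA0 M → (∀ y ∈ M, ∀ a ∈ A, y * a * y⁻¹ ∈ A) →
      Cfsg.IsTISubset A ∧ Subgroup.normalizer A = M := by
    intro A hne hA hconj
    have hN := OddOrder.TypeA.normalizer_eq hG hM A hne hA hconj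
    refine ⟨fun g hg x hx hgx => ?_, hN⟩
    rw [hN] at hg
    obtain ⟨m, hm, he⟩ := OddOrder.TypeA.fusion hG hM (hA hx) (hA hgx)
    refine absurd ?_ hg
    have h : m⁻¹ * g ∈ Subgroup.centralizer ({x} : Set G) := Subgroup.mem_centralizer_singleton_iff.2 (by
      calc m⁻¹ * g * x = m⁻¹ * (g * x * g⁻¹) * g := by group
        _ = m⁻¹ * (m * x * m⁻¹) * g := by rw [he]
        _ = x * (m⁻¹ * g) := by group)
    simpa using M.mul_mem hm (hC x (hA hx) h)
  have h0 : Cfsg.typeA M ⊆ Cfsg.typeA0 M := fun a ha => Or.inl ha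
  have hne := OddOrder.TypeA.typeA1_nonempty hG hM
  have hs := OddOrder.TypeA.typeA1_sub hG hM
  exact ⟨main _ ((hne.mono hs).mono h0) subset_rfl fun y hy a ha => OddOrder.TypeA.typeA0_conj hG hM hy ha,
    main _ (hne.mono hs) h0 fun y hy a ha => OddOrder.TypeA.typeA_conj hG hM hy ha,
    main _ hne (hs.trans h0) fun y hy a ha => OddOrder.TypeA.typeA1_conj hG hM hy ha⟩

end Cfsg.Agent.S1538
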