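import Cfsg.Statements.S1388
import Cfsg.Agent.Lib.OddOrder.TypeP

set_option autoImplicit false
open Cfsg

namespace Cfsg.Agent.S1388

/-- Let M be a subgroup of a finite group G with type-P data (W₁, U, W₂) and H = M_F. Then the derived subgroup of U centralizes H, and if U ≠ 1 then U does not centralize H. -/
theorem result {G : Type*} [Group G] [Finite G] (M W₁ U W₂ : Subgroup G) (hP : Cfsg.IsTypePWith M W₁ U W₂) :
    ⁅U, U⁆ ≤ Subgroup.centralizer (Cfsg.fittingHallOf M : Set G) ∧ (U ≠ ⊥ → ¬ U ≤ Subgroup.centralizer (Cfsg.fittingHallOf M : Set G)) := by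
  have hUd : U ≤ ⁅M, M⁆ := hP.U_compl.2.1
  constructor
  · intro u hu
    refine Cfsg.Agent.OddOrder.TypeP.mem_centralizer_of_mem_U hP
      ((Subgroup.commutator_le_self U) hu) ?_
    exact hP.derived_two_le (Subgroup.commutator_mono hUd hUd hu)
  · intro hne hUC
    have hM := Cfsg.Agent.OddOrder.Compl.sup_eq hP.W₁_compl
    have hM' := Cfsg.Agent.OddOrder.Compl.sup_eq hP.U_compl
    have hnorm : M ≤ Subgroup.normalizer (U : Set G) := by
      rw [← hM]
      refine sup_le ?_ hP.U_normal
      rw [← hM']
      refine sup_le ?_ Subgroup.le_normalizer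
      intro h hh
      rw [Subgroup.mem_normalizer_iff]
      intro x
      have hcomm : ∀ y ∈ U, h * y = y * h := fun y hy => Subgroup.mem_centralizer_iff.mp (hUC hy) h hh
      constructor
      · intro hx
        rw [hcomm x hx]
        simpa using hx
      · intro hx
        have := hcomm _ hx
        have h2 : h * x * h⁻¹ = x := by
          calc h * x * h⁻¹ = h⁻¹ * (h * (h * x * h⁻¹)) := by group
            _ = h⁻¹ * ((h * x * h⁻¹) * h) := by rw [this]
            _ = x := by group
        rwa [h2] at hx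
    have hidx : U.relIndex M = Nat.card ↥(Cfsg.fittingHallOf M) * Nat.card W₁ := by
      rw [← Subgroup.relIndex_mul_relIndex _ _ _ hUd hP.W₁_compl.1,
        Cfsg.Agent.OddOrder.Compl.relIndex_right hP.U_compl,
        Cfsg.Agent.OddOrder.Compl.relIndex_left hP.W₁_compl]
    have hcopW : (Nat.card U).Coprime (Nat.card W₁) := by
      have h := hP.W₁_hall
      rw [Cfsg.Agent.OddOrder.Compl.relIndex_right hP.W₁_compl,
        Cfsg.Agent.OddOrder.Compl.card_eq hP.U_compl] at h
      exact (Nat.Coprime.coprime_mul_left_right h).symm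
    have hle : U ≤ Cfsg.fittingHallOf M :=
      Cfsg.Agent.OddOrder.FHall.le_fittingHallOf (hUd.trans hP.W₁_compl.1) hnorm hP.U_nilpotent
        (hidx ▸ Nat.Coprime.mul_right (Cfsg.Agent.OddOrder.TypeP.coprime_H_U hP).symm hcopW)
    have h0 := hP.U_compl.2.2.1
    rw [inf_eq_right.mpr hle] at h0
    exact hne h0

end Cfsg.Agent.S1388
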