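import Cfsg.Statements.S0039
import Cfsg.Agent.Lib.Solvable.Basic

set_option autoImplicit false
open scoped Pointwise commutatorElement
open Cfsg

namespace Cfsg.Agent.S0039

/-- In a finite group that is a semidirect product of a normal subgroup K by a nontrivial subgroup H, H is a Frobenius complement exactly when each nonidentity element of H acts without nonidentity fixed points on K by conjugation. -/
theorem result {G : Type*} [Group G] [Finite G] (K H : Subgroup G) [K.Normal]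
    (hc : Subgroup.IsComplement' K H) (hK : K ≠ ⊥) (hH : H ≠ ⊥) :
    Cfsg.IsFrobeniusComplement H ↔ ∀ h ∈ H, h ≠ 1 → K ⊓ Subgroup.centralizer {h} = ⊥ := by
  have hKH : K ⊓ H = ⊥ := hc.disjoint.eq_bot
  constructor
  · intro hF h hh h1
    rw [eq_bot_iff]
    intro k hk
    obtain ⟨hkK, hkC⟩ := Subgroup.mem_inf.1 hk
    rw [Subgroup.mem_centralizer_singleton_iff] at hkC
    by_contra hk1
    rw [Subgroup.mem_bot] at hk1
    have hkH : k ∉ H := fun h' => hk1 (by
      have h2 : k ∈ K ⊓ H := Subgroup.mem_inf.2 ⟨hkK, h'⟩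
      rwa [hKH, Subgroup.mem_bot] at h2)
    have h3 : h ∈ H ⊓ MulAut.conj k • H := by
      refine Subgroup.mem_inf.2 ⟨hh, ?_⟩
      rw [Cfsg.Agent.SolvBasic.mem_conjSmul, mul_assoc, ← hkC, inv_mul_cancel_left]
      exact hh
    rw [hF.2.2 k hkH, Subgroup.mem_bot] at h3
    exact h1 h3
  · intro hfpf
    refine ⟨hH, fun htop => hK ?_, fun g hg => ?_⟩
    · rw [htop] at hKH
      simpa using hKH
    rw [eq_bot_iff]
    intro x hx
    obtain ⟨hxH, hxg⟩ := Subgroup.mem_inf.1 hx
    obtain ⟨k, hk, h, hh, rfl⟩ : ∃ k ∈ K, ∃ h ∈ H, g = k * h := by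
      have := hc.sup_eq_top ▸ Subgroup.mem_top g
      rwa [Cfsg.Agent.SolvBasic.mem_sup_iff_of_le_normalizer Subgroup.le_normalizer_of_normal] at this
    rw [Cfsg.Agent.SolvBasic.mem_conjSmul] at hxg
    have hxk : k⁻¹ * x * k ∈ H := by
      have := H.mul_mem (H.mul_mem hh hxg) (H.inv_mem hh)
      simpa [mul_assoc] using this
    have h1 : x⁻¹ * (k⁻¹ * x * k) ∈ K ⊓ H := by
      refine Subgroup.mem_inf.2 ⟨?_, H.mul_mem (H.inv_mem hxH) hxk⟩
      simpa [mul_assoc] using K.mul_mem (‹K.Normal›.conj_mem _ (K.inv_mem hk) x⁻¹) hk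
    rw [hKH, Subgroup.mem_bot, inv_mul_eq_one] at h1
    by_contra hx1
    rw [Subgroup.mem_bot] at hx1
    have hk1 : k ∈ K ⊓ Subgroup.centralizer {x} := by
      refine Subgroup.mem_inf.2 ⟨hk, ?_⟩
      rw [Subgroup.mem_centralizer_singleton_iff]
      calc k * x = k * (k⁻¹ * x * k) := by rw [← h1]
        _ = x * k := by simp [mul_assoc]
    rw [hfpf x hxH hx1, Subgroup.mem_bot] at hk1
    exact hg (by rwa [hk1, one_mul])

end Cfsg.Agent.S0039
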