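import Cfsg.Statements.S1385
import Cfsg.Agent.Lib.OddOrder.TypeOne
import Cfsg.Agent.Lib.OddOrder.Types
import Cfsg.Agent.Lib.OddOrder.PartnerPair
import Cfsg.Agent.S1352
import Cfsg.Agent.S1355

set_option autoImplicit false
open Cfsg

namespace Cfsg.Agent.S1385

/-- Let G be a minimal simple group of odd order. Then either every maximal subgroup of G is of Type I, or there are nontrivial subgroups W₁, W₂ generating a cyclic group W that is the normalizer of every nonempty subset of W outside W₁ ∪ W₂, and maximal subgroups S, T with W₁ a complement to S' in S, W₂ a complement to T' in T, S ∩ T = W, S or T of Type II, each of S, T of Type II, III, IV or V, and every maximal subgroup of G of Type I or conjugate to S or to T. -/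
theorem result {G : Type*} [Group G] [Finite G] (hG : Cfsg.IsMinSimpleOddOrder G) :
    (∀ M : Subgroup G, IsCoatom M → Cfsg.IsOfTypeI M) ∨
      ∃ W₁ W₂ S T : Subgroup G, Cfsg.IsSelfNormalizingCyclic W₁ W₂ ∧ IsCoatom S ∧ IsCoatom T ∧
        Cfsg.IsComplIn ⁅S, S⁆ W₁ S ∧ Cfsg.IsComplIn ⁅T, T⁆ W₂ T ∧ S ⊓ T = W₁ ⊔ W₂ ∧
        (Cfsg.IsOfTypeII S ∨ Cfsg.IsOfTypeII T) ∧
        (Cfsg.IsOfTypeII S ∨ Cfsg.IsOfTypeIII S ∨ Cfsg.IsOfTypeIV S ∨ Cfsg.IsOfTypeV S) ∧
        (Cfsg.IsOfTypeII T ∨ Cfsg.IsOfTypeIII T ∨ Cfsg.IsOfTypeIV T ∨ Cfsg.IsOfTypeV T) ∧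
        ∀ M : Subgroup G, IsCoatom M → Cfsg.IsOfTypeI M ∨ ∃ g : G, M = S.map (MulAut.conj g).toMonoidHom ∨ M = T.map (MulAut.conj g).toMonoidHom := by
  have typeI : ∀ M : Subgroup G, IsCoatom M → Cfsg.kappa M = ∅ → Cfsg.IsOfTypeI M := by
    intro M hM hκ
    obtain ⟨K, U, hKU⟩ := OddOrder.FStruct.exists_decomp hG hM
    have hK : K = ⊥ := by
      by_contra hK
      obtain ⟨r, hr⟩ := OddOrder.Types.kappa_nonempty hKU hK
      rw [hκ] at hr
      exact hr
    subst hK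
    refine OddOrder.TypeOne.typeI hG hM hKU fun hU => ?_
    obtain ⟨-, -, hSd, hlt, -⟩ := S1355.result hG M hM
    refine hlt.not_ge fun m hm => hSd ?_
    obtain ⟨u, hu, w, hw, rfl⟩ := hKU.compl.2.2.2 m hm
    rw [hU, Subgroup.mem_bot] at hu
    rw [bot_sup_eq] at hw
    rwa [hu, one_mul]
  have types : ∀ (M K U : Subgroup G), IsCoatom M → Cfsg.IsSigmaDecomposition M K U → K ≠ ⊥ →
      Cfsg.IsOfTypeII M ∨ Cfsg.IsOfTypeIII M ∨ Cfsg.IsOfTypeIV M ∨ Cfsg.IsOfTypeV M := by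
    intro M K U hM hKU hK
    by_cases hU : U = ⊥
    · by_cases he : Cfsg.fittingHallOf M = Cfsg.sigmaCore M
      · exact Or.inr (Or.inr (Or.inr ((OddOrder.Types.typeV_iff hG hM hKU).2 ⟨hK, hU, he⟩)))
      · rcases (OddOrder.Types.typeIII_IV_iff hG hM hKU).2 ⟨hK, hU, he⟩ with h | h
        exacts [Or.inr (Or.inl h), Or.inr (Or.inr (Or.inl h))]
    · exact Or.inl ((OddOrder.Types.typeII_iff hG hM hKU).2 ⟨hK, hU⟩)
  by_cases hall : ∀ M : Subgroup G, IsCoatom M → Cfsg.kappa M = ∅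
  · exact Or.inl fun M hM => typeI M hM (hall M hM)
  push Not at hall
  obtain ⟨M, hM, hne⟩ := hall
  obtain ⟨K, U, hKU⟩ := OddOrder.FStruct.exists_decomp hG hM
  have hK1 := OddOrder.Types.K_ne hKU hne
  obtain ⟨N, D, P⟩ := (OddOrder.Pairing.Member.of_hall hM hKU.hall hK1).exists_pair hG
  have hN := P.right.coatom
  obtain ⟨⟨V, hV⟩, -⟩ := S1352.result hG N hN D (P.right.cyclic hG) P.right.hall
  refine Or.inr ⟨K, D, M, N, ?_, hM, hN, OddOrder.Types.compl_derived hG hM hKU hK1,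
    OddOrder.Types.compl_derived hG hN hV P.right.ne, ?_, ?_, types M K U hM hKU hK1,
    types N D V hN hV P.right.ne, fun H hH => ?_⟩
  · have := OddOrder.Types.self_normalizing hG hM hKU hK1
    rwa [P.D_eq] at this
  · rw [P.inter hG, P.sup_eq]
  · rcases P.large with h | h
    · exact Or.inl ((OddOrder.Types.typeII_iff hG hM hKU).2 ⟨hK1, (OddOrder.Pairing.large_iff hKU).1 h⟩)
    · exact Or.inr ((OddOrder.Types.typeII_iff hG hN hV).2 ⟨P.right.ne, (OddOrder.Pairing.large_iff hV).1 h⟩)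
  · rcases Set.eq_empty_or_nonempty (Cfsg.kappa H) with h | h
    exacts [Or.inl (typeI H hH h), Or.inr (P.conj_of_kappa hG hH h)]

end Cfsg.Agent.S1385
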