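import Cfsg.Statements.S1472
import Cfsg.Agent.Lib.OddOrder.FinalConfig
import Cfsg.Agent.Lib.OddOrder.GaloisNorm
import Cfsg.Agent.Lib.OddOrder.NormCount

set_option autoImplicit false
open Cfsg

namespace Cfsg.Agent.S1472

/-- Let p, q be primes with (p^q − 1)/(p − 1) coprime to p − 1, G a finite group, F a field with p ^ q elements, and P, U, Q subgroups of G with: f : G → F bijective from P onto F and additive on P; U normalizing P and acting through ψ : G → F, injective and multiplicative on U with ψ(u) ≠ 0 and f(uxu⁻¹) = ψ(u) f(x); #U · (p − 1) = p^q − 1; Q abelian of order coprime to p, normalized by every x ∈ P with f(x) in the prime field; and some y ∈ Q such that y x y⁻¹ normalizes U for every such x. Then p ≤ q. -/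
theorem result {G : Type*} [Group G] [Finite G] (p q : ℕ) [Fact p.Prime] [Fact q.Prime] (hA : Nat.Coprime ((p ^ q - 1) / (p - 1)) (p - 1))
    (F : Type*) [Field F] [Fintype F] (hF : Fintype.card F = p ^ q) (P U Q : Subgroup G) (f ψ : G → F)
    (hf : Set.BijOn f (P : Set G) Set.univ) (hfadd : ∀ x ∈ P, ∀ z ∈ P, f (x * z) = f x + f z)
    (hUP : U ≤ Subgroup.normalizer (P : Set G)) (hψ : ∀ u ∈ U, ψ u ≠ 0 ∧ ∀ x ∈ P, f (u * x * u⁻¹) = ψ u * f x)
    (hψmul : ∀ u ∈ U, ∀ v ∈ U, ψ (u * v) = ψ u * ψ v) (hψinj : Set.InjOn ψ (U : Set G)) (hUcard : Nat.card U * (p - 1) = p ^ q - 1)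
    (hQ : IsMulCommutative Q) (hQp : (Nat.card Q).Coprime p) (hP0Q : ∀ x ∈ P, f x ^ p = f x → x ∈ Subgroup.normalizer (Q : Set G))
    (y : G) (hy : y ∈ Q) (hP0U : ∀ x ∈ P, f x ^ p = f x → y * x * y⁻¹ ∈ Subgroup.normalizer (U : Set G)) :
    p ≤ q := by
  classical
  by_contra hlt
  push Not at hlt
  have hpp : p.Prime := Fact.out
  have hqq : q.Prime := Fact.out
  have hq0 : 0 < q := hqq.pos
  have hp2 : p ≠ 2 := by have := hqq.two_le; omega
  have hgeom : (p ^ q - 1) / (p - 1) = ∑ i ∈ Finset.range q, p ^ i := (Nat.geomSum_eq hpp.two_le q).symm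
  have hq2 : q ≠ 2 := by
    rintro rfl
    rw [hgeom, Finset.sum_range_succ, Finset.sum_range_one, pow_zero, pow_one] at hA
    have hodd := hpp.odd_of_ne_two hp2
    obtain ⟨m, hm⟩ := hodd
    have h2 : 2 ∣ Nat.gcd (1 + p) (p - 1) := Nat.dvd_gcd ⟨m + 1, by omega⟩ ⟨m, by omega⟩
    rw [hA.gcd_eq_one] at h2
    omega
  have hp5 : 5 ≤ p := by
    have := hqq.two_le
    have h4 : p ≠ 4 := by rintro rfl; norm_num at hpp
    omega
  haveI : CharP F p := charP_of_card_eq_prime_pow hF
  -- the inverse of `f`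
  set x : F → G := fun r => Function.invFunOn f (P : Set G) r with hxdef
  have hx : ∀ r, x r ∈ P ∧ f (x r) = r := fun r =>
    ⟨Function.invFunOn_mem (hf.surjOn (Set.mem_univ r)), Function.invFunOn_eq (hf.surjOn (Set.mem_univ r))⟩
  have hxf : ∀ g ∈ P, x (f g) = g := fun g hg => hf.injOn (hx _).1 hg (hx _).2
  have hint : ∀ n : ℤ, f (x (n : F)) ^ p = f (x (n : F)) := fun n => by
    rw [(hx _).2, ← frobenius_def, map_intCast]
  have hψ1 : ψ 1 = 1 := by
    have h := hψmul 1 U.one_mem 1 U.one_mem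
    rw [mul_one] at h
    exact mul_left_cancel₀ (hψ 1 U.one_mem).1 (h.symm.trans (mul_one _).symm)
  have hcardU : Nat.card U = ∑ i ∈ Finset.range q, p ^ i := by
    rw [← hgeom, ← hUcard, Nat.mul_div_cancel _ (by omega)]
  have hnrm : ∀ u ∈ U, Cfsg.Agent.OddOrder.AppC.nrm p q (ψ u) = 1 := by
    intro u hu
    have hpow : ∀ n : ℕ, ψ (u ^ n) = ψ u ^ n := by
      intro n
      induction n with
      | zero => rw [pow_zero, pow_zero, hψ1]
      | succ n ih => rw [pow_succ, pow_succ, hψmul _ (U.pow_mem hu n) _ hu, ih]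
    rw [Cfsg.Agent.OddOrder.AppC.nrm_eq_pow, ← hcardU, ← hpow,
      show u ^ Nat.card U = 1 from congrArg Subtype.val (pow_card_eq_one' (x := (⟨u, hu⟩ : U))), hψ1]
  have hsurj : ∀ e, Cfsg.Agent.OddOrder.AppC.nrm p q e = 1 → ∃ u ∈ U, ψ u = e := by
    intro e he
    haveI := Fintype.ofFinite U
    set A := ∑ i ∈ Finset.range q, p ^ i with hAdef
    have hApos : 0 < A := hcardU ▸ Nat.card_pos
    set R := (Finset.univ : Finset U).image fun u : U => ψ (u : G) with hR
    have hRcard : R.card = A := by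
      rw [hR, Finset.card_image_of_injective (f := fun u : U => ψ (u : G)) _ fun a b h => Subtype.ext (hψinj a.2 b.2 h),
        Finset.card_univ, ← Nat.card_eq_fintype_card, hcardU]
    have hne : (Polynomial.X ^ A - Polynomial.C 1 : Polynomial F) ≠ 0 := Polynomial.X_pow_sub_C_ne_zero hApos 1
    have hsub : R ⊆ (Polynomial.X ^ A - Polynomial.C 1 : Polynomial F).roots.toFinset := fun a ha => by
      obtain ⟨u, -, rfl⟩ := Finset.mem_image.1 ha
      rw [Multiset.mem_toFinset, Polynomial.mem_roots hne]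
      simp [hAdef, ← Cfsg.Agent.OddOrder.AppC.nrm_eq_pow, hnrm u u.2]
    have heq := Finset.eq_of_subset_of_card_le hsub (by
      rw [hRcard]
      refine (Multiset.toFinset_card_le _).trans ((Polynomial.card_roots' _).trans ?_)
      rw [Polynomial.natDegree_X_pow_sub_C])
    have heR : e ∈ R := by
      rw [heq, Multiset.mem_toFinset, Polynomial.mem_roots hne]
      simp [hAdef, ← Cfsg.Agent.OddOrder.AppC.nrm_eq_pow, he]
    obtain ⟨u, -, hu⟩ := Finset.mem_image.1 heR
    exact ⟨u, u.2, hu⟩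
  let C : Cfsg.Agent.OddOrder.AppC.Conf G F p q :=
    { x := x
      x_add := fun a b => hf.injOn (hx _).1 (P.mul_mem (hx a).1 (hx b).1) (by
        rw [(hx _).2, hfadd _ (hx a).1 _ (hx b).1, (hx a).2, (hx b).2])
      x_inj := fun a b h => by rw [← (hx a).2, h, (hx b).2]
      U := U
      Q := Q
      ψ := ψ
      ψ_mul := hψmul
      ψ_inj := hψinj
      ψ_nrm := hnrm
      ψ_surj := hsurj
      conj_x := fun u hu r => by
        have hmem : u * x r * u⁻¹ ∈ P := (Subgroup.mem_normalizer_iff.1 (hUP hu) _).1 (hx r).1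
        rw [← hxf _ hmem, (hψ u hu).2 _ (hx r).1, (hx r).2]
      card_U := hcardU
      q_comm := fun a ha b hb => congrArg Subtype.val (hQ.is_comm.comm (⟨a, ha⟩ : Q) ⟨b, hb⟩)
      q_coprime := hQp
      s_normQ := fun n => hP0Q _ (hx _).1 (hint n)
      y := y
      y_mem := hy
      t_normU := fun n => hP0U _ (hx _).1 (hint n) }
  -- a norm one pair
  letI : Algebra (ZMod p) F := ZMod.algebra F p
  haveI := Fintype.ofFinite (GaloisField p q)
  have hcard : Fintype.card (GaloisField p q) = Fintype.card F := by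
    rw [hF, ← Nat.card_eq_fintype_card, GaloisField.card p q hq0.ne']
  let e : GaloisField p q ≃ₐ[ZMod p] F := FiniteField.algEquivOfCardEq p hcard
  have hcop := Cfsg.Agent.OddOrder.AppC.coprime_q hpp.two_le hA
  obtain ⟨a, ha, ha1⟩ := Set.exists_ne_of_one_lt_ncard
    (Cfsg.Agent.OddOrder.NormCount.two_le_ncard (p := p) (q := q) hp2 hq2 hcop) 1
  rw [Cfsg.Agent.OddOrder.AppC.galois_mem_iff p hq0] at ha
  have hea : e a ∈ Cfsg.Agent.OddOrder.AppC.eset (F := F) p q := by
    obtain ⟨h1, h2⟩ := ha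
    refine ⟨?_, ?_⟩
    · rw [Cfsg.Agent.OddOrder.AppC.nrm_eq_pow, ← map_pow, ← Cfsg.Agent.OddOrder.AppC.nrm_eq_pow, h1, map_one]
    · rw [show (2 : F) - e a = e (2 - a) by rw [map_sub, map_ofNat],
        Cfsg.Agent.OddOrder.AppC.nrm_eq_pow, ← map_pow, ← Cfsg.Agent.OddOrder.AppC.nrm_eq_pow, h2, map_one]
  have hea1 : e a ≠ 1 := fun h => ha1 (e.injective (h.trans (map_one e).symm))
  exact absurd (Cfsg.Agent.OddOrder.AppC.p_le_q hq0 hA
    (fun b hb => C.inv_mem_eset hlt hp5 hF hA hb) hea hea1) (by omega)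

end Cfsg.Agent.S1472
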