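import Cfsg.Statements.S1526
import Cfsg.Agent.Lib.Char.FHT.Main

set_option autoImplicit false
open Cfsg

namespace Cfsg.Agent.S1526

/-- Let G be a finite group of odd order and (L i, H i), i in a finite index type with at least two elements, pairs of subgroups with H i a nontrivial proper normal subgroup of L i such that every non-identity element of H i has its centraliser within L i contained in H i (L i is a Frobenius group with kernel H i), the orders of the H i pairwise coprime, and the underlying set of each H i a TI-subset of G with normaliser L i. If every non-identity element of G is conjugate to an element of some H i, we reach a contradiction. -/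
theorem result {G : Type*} [Group G] [Finite G] (hodd : Odd (Nat.card G)) {ι : Type*} [Fintype ι] (hι : 2 ≤ Fintype.card ι) (L H : ι → Subgroup G) (hHL : ∀ i, H i < L i) (hH1 : ∀ i, H i ≠ ⊥) (hHn : ∀ i, ∀ x ∈ L i, ∀ h ∈ H i, x * h * x⁻¹ ∈ H i) (hfrob : ∀ i, ∀ h ∈ H i, h ≠ 1 → L i ⊓ Subgroup.centralizer ({h} : Set G) ≤ H i) (hcop : ∀ i j, i ≠ j → Nat.Coprime (Nat.card (H i)) (Nat.card (H j))) (hTI : ∀ i, Cfsg.IsTISubset (H i : Set G) ∧ Subgroup.normalizer (H i : Set G) = L i) (hcover : ∀ g : G, g ≠ 1 → ∃ i, ∃ x : G, x * g * x⁻¹ ∈ H i) : False := by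
  haveI : Fintype G := Fintype.ofFinite G
  haveI : Nonempty ι := Fintype.card_pos_iff.mp (by omega)
  have hlt : ∀ i, H i < Subgroup.normalizer (H i : Set G) := fun i => by
    rw [(hTI i).2]; exact hHL i
  have hC : ∀ i, ∀ h ∈ H i, h ≠ 1 → Subgroup.centralizer ({h} : Set G) ≤ H i := by
    intro i h hh h1 c hc
    refine hfrob i h hh h1 ⟨?_, hc⟩
    by_contra hcL
    refine h1 ((hTI i).1 c (fun hn => hcL (by rw [← (hTI i).2]; exact hn)) h hh ?_)
    rw [Subgroup.mem_centralizer_singleton_iff.mp hc, mul_inv_cancel_right]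
    exact hh
  refine Cfsg.Agent.Char.FHT.contra H (fun i => ⟨hodd, (hTI i).1, hC i, hlt i,
    Cfsg.Agent.Char.FHT.exists_lin (hH1 i) (hlt i) (hC i)⟩) ?_ hcop hcover
  intro i j hij x y hy hxy
  have h1 : orderOf y ∣ Nat.card (H i) := by
    rw [← MulEquiv.orderOf_eq (MulAut.conj x) y]
    exact Subgroup.orderOf_dvd_natCard _ hxy
  exact orderOf_eq_one_iff.mp (Nat.eq_one_of_dvd_coprimes (hcop i j hij) h1
    (Subgroup.orderOf_dvd_natCard _ hy))

end Cfsg.Agent.S1526
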