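import Cfsg.Statements.S1527
-- import your own Cfsg.Agent.* helpers here

set_option autoImplicit false
open Cfsg

namespace Cfsg.Agent.S1527

/-- Let G be a finite group and H i (i in a finite index type) subgroups of pairwise coprime orders, each of whose underlying sets is a TI-subset of G, such that every non-identity element of G is conjugate to an element of some H i. Then Nat.card G − 1 = Σ_i [G : N_G(H i)] · (Nat.card (H i) − 1). -/
theorem result {G : Type*} [Group G] [Finite G] {ι : Type*} [Fintype ι] (H : ι → Subgroup G) (hcop : ∀ i j, i ≠ j → Nat.Coprime (Nat.card (H i)) (Nat.card (H j))) (hTI : ∀ i, Cfsg.IsTISubset (H i : Set G)) (hcover : ∀ g : G, g ≠ 1 → ∃ i, ∃ x : G, x * g * x⁻¹ ∈ H i) : Nat.card G - 1 = ∑ i, (Subgroup.normalizer (H i : Set G)).index * (Nat.card (H i) - 1) := by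
  classical
  haveI : Fintype G := Fintype.ofFinite G
  set T : ι → Finset G := fun i => Finset.univ.filter fun g => g ≠ 1 ∧ ∃ x : G, x * g * x⁻¹ ∈ H i with hT
  have hdisj : Set.PairwiseDisjoint (↑(Finset.univ : Finset ι)) T := by
    intro i _ j _ hij
    rw [Function.onFun, Finset.disjoint_left]
    intro g hg hg'
    simp only [hT, Finset.mem_filter, Finset.mem_univ, true_and] at hg hg'
    obtain ⟨hg1, x, hx⟩ := hg
    obtain ⟨-, y, hy⟩ := hg'
    have e : ∀ z : G, orderOf (z * g * z⁻¹) = orderOf g := fun z => MulEquiv.orderOf_eq (MulAut.conj z) g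
    have h1 := Subgroup.orderOf_dvd_natCard _ hx
    have h2 := Subgroup.orderOf_dvd_natCard _ hy
    rw [e] at h1 h2
    exact hg1 (orderOf_eq_one_iff.mp (Nat.dvd_one.mp (hcop i j hij ▸ Nat.dvd_gcd h1 h2)))
  have hU : Finset.univ.biUnion T = Finset.univ.erase (1 : G) := by
    ext g
    simp only [hT, Finset.mem_biUnion, Finset.mem_univ, true_and, Finset.mem_filter, Finset.mem_erase, and_true]
    exact ⟨fun ⟨i, h, _⟩ => h, fun h => (hcover g h).imp fun i hi => ⟨h, hi⟩⟩
  have hcard : ∀ i, (T i).card = (Subgroup.normalizer (H i : Set G)).index * (Nat.card (H i) - 1) := by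
    intro i
    have e1 : Nat.card {h : H i // h ≠ 1} = Nat.card (H i) - 1 := by
      rw [Nat.card_eq_fintype_card, Nat.card_eq_fintype_card, Fintype.card_subtype_compl, Fintype.card_subtype_eq]
    rw [← e1, Subgroup.index, ← Nat.card_prod, ← Nat.card_eq_finsetCard]
    refine (Nat.card_eq_of_bijective (fun p : (G ⧸ Subgroup.normalizer (H i : Set G)) × {h : H i // h ≠ 1} =>
      (⟨p.1.out * (p.2.1 : G) * p.1.out⁻¹, ?_⟩ : T i)) ⟨?_, ?_⟩).symm
    · simp only [hT, Finset.mem_filter, Finset.mem_univ, true_and]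
      refine ⟨fun h => p.2.2 (Subtype.ext (conj_eq_one_iff.mp h)), p.1.out⁻¹, ?_⟩
      simp [mul_assoc]
    · rintro ⟨c, h, hh⟩ ⟨d, h', hh'⟩ e
      have e' : c.out * (h : G) * c.out⁻¹ = d.out * (h' : G) * d.out⁻¹ := congrArg Subtype.val e
      have hN : d.out⁻¹ * c.out ∈ Subgroup.normalizer (H i : Set G) := by
        by_contra hc
        refine hh (Subtype.ext (hTI i _ hc (h : G) h.2 ?_))
        rw [show d.out⁻¹ * c.out * (h : G) * (d.out⁻¹ * c.out)⁻¹ = d.out⁻¹ * (c.out * (h : G) * c.out⁻¹) * d.out by group, e']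
        simp [mul_assoc]
      have hcd : d = c := by
        rw [← Quotient.out_eq d, ← Quotient.out_eq c]
        exact QuotientGroup.eq.mpr hN
      subst hcd
      simp only [mul_left_inj, mul_right_inj, Subtype.coe_inj] at e'
      subst e'
      rfl
    · rintro ⟨g, hg⟩
      simp only [hT, Finset.mem_filter, Finset.mem_univ, true_and] at hg
      obtain ⟨hg1, x, hx⟩ := hg
      set c : G ⧸ Subgroup.normalizer (H i : Set G) := QuotientGroup.mk x⁻¹ with hc
      have hN : x * c.out ∈ Subgroup.normalizer (H i : Set G) := by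
        have := QuotientGroup.eq.mp (Quotient.out_eq c : QuotientGroup.mk c.out = QuotientGroup.mk x⁻¹)
        simpa using Subgroup.inv_mem _ this
      have hmem : c.out⁻¹ * g * c.out ∈ H i := by
        have := (Subgroup.mem_set_normalizer_iff.mp (Subgroup.inv_mem _ hN) _).mp hx
        simpa [mul_assoc] using this
      refine ⟨(c, ⟨⟨_, hmem⟩, fun h => hg1 ?_⟩), Subtype.ext (by simp [mul_assoc])⟩
      have h1 := congrArg Subtype.val h
      simpa using (show g = c.out * (c.out⁻¹ * g * c.out) * c.out⁻¹ by group).trans (by rw [show c.out⁻¹ * g * c.out = 1 from h1]; simp)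
  rw [Nat.card_eq_fintype_card, ← Finset.card_univ, ← Finset.card_erase_of_mem (Finset.mem_univ (1 : G)), ← hU,
    Finset.card_biUnion hdisj]
  exact Finset.sum_congr rfl fun i _ => hcard i


end Cfsg.Agent.S1527
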