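import Cfsg.Statements.S1375
import Cfsg.Agent.Lib.OddOrder.SigmaSupportR
import Cfsg.Agent.Lib.OddOrder.KappaDecomp

set_option autoImplicit false
open Cfsg

namespace Cfsg.Agent.S1375

/-- Let G be a minimal simple group of odd order, M a maximal subgroup, x ≠ 1 in M_σ with C_G(x) not contained in M. Then exactly one maximal subgroup N contains C_G(x); for it N_σ = N_F, C_{N_σ}(x) is a normal subgroup of C_G(x) complementing C_M(x), M ∩ N is a complement to N_σ in N, and for every standard factorisation N = K' U' N_σ one has U' ≠ 1 and x ∈ A(N) with x ∉ N_σ. -/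
theorem result {G : Type*} [Group G] [Finite G] (hG : Cfsg.IsMinSimpleOddOrder G)
    (M : Subgroup G) (hM : IsCoatom M) (x : G) (hx : x ∈ Cfsg.sigmaCore M) (hx1 : x ≠ 1) (hxM : ¬ Subgroup.centralizer ({x} : Set G) ≤ M) :
    ∃ N : Subgroup G, (IsCoatom N ∧ Subgroup.centralizer ({x} : Set G) ≤ N) ∧ (∀ L : Subgroup G, IsCoatom L → Subgroup.centralizer ({x} : Set G) ≤ L → L = N) ∧
        Cfsg.sigmaCore N = Cfsg.fittingHallOf N ∧
        Subgroup.centralizer ({x} : Set G) ≤ Subgroup.normalizer ((Cfsg.sigmaCore N ⊓ Subgroup.centralizer ({x} : Set G) : Subgroup G) : Set G) ∧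
        Cfsg.IsComplIn (M ⊓ Subgroup.centralizer ({x} : Set G)) (Cfsg.sigmaCore N ⊓ Subgroup.centralizer ({x} : Set G)) (Subgroup.centralizer ({x} : Set G)) ∧
        Cfsg.IsComplIn (M ⊓ N) (Cfsg.sigmaCore N) N ∧
        ∀ K' U' : Subgroup G, Cfsg.IsSigmaDecomposition N K' U' → U' ≠ ⊥ ∧ x ∈ Cfsg.sigmaA N U' ∧ x ∉ Cfsg.sigmaCore N := by
  obtain ⟨N, hN, hCN, hu, hτ, hnil, hbot, hcompl, hR⟩ := OddOrder.Support.exists_support hG hM hx hx1 hxM
  have hxM' : x ∈ M := OddOrder.Exceptional.sigmaCore_le M hx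
  have hxN : x ∈ N := hCN (Subgroup.mem_centralizer_singleton_iff.2 rfl)
  have hxnσ : x ∉ Cfsg.sigmaCore N := fun h => hx1 (Subgroup.mem_bot.1 (hbot.le ⟨h, hxM'⟩))
  refine ⟨N, ⟨hN, hCN⟩, hu, (OddOrder.Support.fittingHall_eq hG hN hnil).symm,
    OddOrder.Support.centralizer_le_normalizer_core hCN, OddOrder.Support.centralizer_compl hcompl hxM' hxN hCN,
    hcompl, fun K' U' hKU => ?_⟩
  obtain ⟨r, hr, hrd⟩ := Nat.exists_prime_and_dvd fun e => hx1 (orderOf_eq_one_iff.1 e)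
  haveI := Fact.mk hr
  have hr2 := hτ r hr hrd
  have hnotκ : ∀ t : ℕ, t.Prime → t ∣ orderOf x → t ∉ Cfsg.kappa N := fun t ht htd hκ => by
    haveI := Fact.mk ht
    exact (hτ t ht htd).2.2.2 (OddOrder.Kappa.rank_one_of_kappa hκ)
  have hc := OddOrder.Kappa.decomp_compl hKU
  have hW : x ∈ U' ⊔ Cfsg.sigmaCore N := by
    set W := U' ⊔ Cfsg.sigmaCore N with hWdef
    have hUK : U' ⊔ K' ≤ Subgroup.normalizer (U' : Set G) := sup_le Subgroup.le_normalizer hKU.normal
    have hNW : N ≤ Subgroup.normalizer (W : Set G) := fun m hm => by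
      obtain ⟨e, he, s, hs, rfl⟩ := hc.2.2.2 m hm
      refine mul_mem ?_ (Subgroup.le_normalizer (Subgroup.mem_sup_right hs))
      rw [Subgroup.mem_normalizer_iff_map_conj_eq, Subgroup.map_sup,
        Subgroup.mem_normalizer_iff_map_conj_eq.1 (hUK he), Subgroup.mem_normalizer_iff_map_conj_eq.1
          (OddOrder.Exceptional.le_normalizer_sigmaCore N (hc.1 he))]
    have hsup : W ⊔ K' = N := le_antisymm (sup_le (sup_le hKU.compl.1 (OddOrder.Exceptional.sigmaCore_le N)) hKU.hall.1)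
      fun m hm => by
        obtain ⟨u, hu, y, hy, rfl⟩ := hKU.compl.2.2.2 m hm
        exact mul_mem (Subgroup.mem_sup_left (Subgroup.mem_sup_left hu))
          ((sup_le le_sup_right (le_sup_right.trans le_sup_left) : K' ⊔ Cfsg.sigmaCore N ≤ W ⊔ K') hy)
    have hWN : W ≤ N := le_sup_left.trans hsup.le
    have h1 : Nat.card W * W.relIndex N = Nat.card N := by
      have := Subgroup.relIndex_mul_relIndex ⊥ W N bot_le hWN
      rwa [Subgroup.relIndex_bot_left, Subgroup.relIndex_bot_left] at this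
    have hd : Nat.card N ∣ Nat.card W * Nat.card K' :=
      hsup ▸ Dvd.intro _ (SolvBasic.card_sup_mul_card_inf (hKU.hall.1.trans hNW))
    rw [← h1] at hd
    have hidx : W.relIndex N ∣ Nat.card K' := Nat.dvd_of_mul_dvd_mul_left Nat.card_pos hd
    haveI : (W.subgroupOf N).Normal := Subgroup.normal_subgroupOf_of_le_normalizer hNW
    refine Subgroup.mem_subgroupOf.1 (OddOrder.Exceptional.le_of_coprime_index (N := W.subgroupOf N)
      (X := Subgroup.zpowers (⟨x, hxN⟩ : N)) ?_ (Subgroup.mem_zpowers _))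
    refine Nat.coprime_of_dvd fun t ht h2 h3 => ?_
    rw [Nat.card_zpowers, Subgroup.orderOf_mk] at h2
    exact hnotκ t ht h2 (hKU.hall.2.1 t ht (h3.trans hidx))
  obtain ⟨y, hy, hy1⟩ := (Subgroup.bot_or_exists_ne_one _).resolve_left hR
  refine ⟨fun hU' => ?_, ⟨⟨hxN, y, hy.1, hy1, (Subgroup.mem_centralizer_singleton_iff.1 hy.2).symm⟩, hW⟩, hxnσ⟩
  rw [hU', bot_sup_eq] at hW
  exact hxnσ hW

end Cfsg.Agent.S1375
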