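import Cfsg.Statements.S1525
import Cfsg.Agent.Lib.Char.Dade
-- import your own Cfsg.Agent.* helpers here

set_option autoImplicit false
open Cfsg

namespace Cfsg.Agent.S1525

/-- Under the Dade hypothesis for (A, L, H), let χ be a class function of G and let ψ be a function on L whose value at each a ∈ A is the average of χ over the coset a·H(a). Then (1/|G|) Σ |χ g|² over the elements g of G conjugate into some coset a·H(a) with a ∈ A is at least (1/|L|) Σ_{a ∈ A ∩ L} |ψ a|². -/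
theorem result {G : Type*} [Group G] [Fintype G] (A : Set G) (L : Subgroup G) [Fintype L] (H : G → Subgroup G) (hD : Cfsg.DadeHypothesis A L H) (χ : G → ℂ) (hχ : Cfsg.IsClassFunction G χ) (ψ : L → ℂ) (hψ : ∀ a : L, (a : G) ∈ A → ψ a = (Nat.card (H a) : ℂ)⁻¹ * ∑ᶠ u ∈ (H a : Set G), χ (a * u)) : (Nat.card L : ℝ)⁻¹ * ∑ᶠ a ∈ {a : L | (a : G) ∈ A}, ‖ψ a‖ ^ 2 ≤ (Nat.card G : ℝ)⁻¹ * ∑ᶠ g ∈ {g : G | ∃ a ∈ A, ∃ u ∈ H a, ∃ x : G, x * g * x⁻¹ = a * u}, ‖χ g‖ ^ 2 := by
  classical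
  have hset : {g : G | ∃ a ∈ A, ∃ u ∈ H a, ∃ x : G, x * g * x⁻¹ = a * u} =
      ↑(Finset.univ.filter fun g : G => ∃ a ∈ A, g ∈ Cfsg.Agent.Char.Dade.coset H a) := by
    ext g; simp [Cfsg.Agent.Char.Dade.mem_coset]
  rw [hset, finsum_mem_coe_finset, ← Cfsg.Agent.Char.Dade.master hD (f := fun g => ‖χ g‖ ^ 2)
    (fun g x => by simp only [hχ g x])]
  refine mul_le_mul_of_nonneg_left ?_ (by positivity)
  rw [show {a : L | (a : G) ∈ A} = ↑(Finset.univ.filter fun a : L => (a : G) ∈ A) by ext; simp,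
    finsum_mem_coe_finset]
  refine le_of_le_of_eq (Finset.sum_le_sum (g := fun a : L => (Nat.card (H (a : G)) : ℝ)⁻¹ *
    ∑ u ∈ Cfsg.Agent.Char.Dade.fin (H (a : G)), ‖χ (a * u)‖ ^ 2) fun a ha => ?_) ?_
  · rw [Finset.mem_filter] at ha
    rw [hψ a ha.2, finsum_mem_eq_sum_of_inter_support_eq (t := Cfsg.Agent.Char.Dade.fin (H (a : G))) _ (by ext x; simp),
      norm_mul, norm_inv, Complex.norm_natCast, mul_pow, inv_pow]
    have hn : (0 : ℝ) < Nat.card (H (a : G)) := Nat.cast_pos.mpr Nat.card_pos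
    have h1 := norm_sum_le (Cfsg.Agent.Char.Dade.fin (H (a : G))) (fun u => χ ((a : G) * u))
    have h2 := sq_sum_le_card_mul_sum_sq (s := Cfsg.Agent.Char.Dade.fin (H (a : G))) (f := fun u => ‖χ ((a : G) * u)‖)
    rw [Cfsg.Agent.Char.Dade.card_fin] at h2
    have h3 := (pow_le_pow_left₀ (norm_nonneg _) h1 2).trans h2
    rw [sq (Nat.card (H (a : G)) : ℝ), mul_inv, mul_assoc]
    refine mul_le_mul_of_nonneg_left ?_ (by positivity)
    rw [inv_mul_le_iff₀ hn]
    exact h3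
  · refine Finset.sum_nbij (fun x : L => (x : G)) (fun x hx => by simpa using hx) Subtype.val_injective.injOn
      (fun a ha => ?_) (fun x _ => rfl)
    simp only [Finset.mem_coe, Set.mem_toFinset] at ha
    exact ⟨⟨a, hD.subset ha⟩, by simpa using ha, rfl⟩


end Cfsg.Agent.S1525
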