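import Cfsg.Statements.S1518
import Cfsg.Agent.Lib.Char.DadeVirtual
-- import your own Cfsg.Agent.* helpers here

set_option autoImplicit false
open Cfsg

namespace Cfsg.Agent.S1518

/-- Under the Dade hypothesis for (A, L, H): if χ is an irreducible character of L vanishing at every non-identity element of L outside A, then the Dade image of χ − conj χ equals μ − conj μ for some irreducible character μ of G. -/
theorem result {G : Type*} [Group G] [Fintype G] (A : Set G) (L : Subgroup G) [Fintype L] (H : G → Subgroup G) (hD : Cfsg.DadeHypothesis A L H) (χ : L → ℂ) (hχ : Cfsg.IsIrrCharacter L χ) (hsupp : ∀ x : L, x ≠ 1 → (x : G) ∉ A → χ x = 0) : ∃ μ : G → ℂ, Cfsg.IsIrrCharacter G μ ∧ Cfsg.dadeIsometry A L H (χ - Cfsg.conjFun χ) = μ - Cfsg.conjFun μ := by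
  classical
  obtain ⟨d, -, hd⟩ := Cfsg.Agent.Char.IsIrrCharacter.exists_degree hχ
  set α := χ - Cfsg.conjFun χ with hα
  have hχ' : Cfsg.IsIrrCharacter L (Cfsg.conjFun χ) := Cfsg.Agent.Char.IsIrrCharacter.conj hχ
  have hgen : Cfsg.IsGeneralizedCharacter L α :=
    ⟨χ, _, Cfsg.Agent.Char.IsIrrCharacter.isCharacter hχ, Cfsg.Agent.Char.IsIrrCharacter.isCharacter hχ', rfl⟩
  have hαA : ∀ x : L, (x : G) ∉ A → α x = 0 := by
    intro x hx
    by_cases h1 : x = 1
    · subst h1; simp [hα, Cfsg.conjFun, hd]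
    · simp [hα, Cfsg.conjFun, hsupp x h1 hx]
  have hαc := Cfsg.Agent.Char.IsGeneralizedCharacter.isClassFunction hgen
  set τ := Cfsg.dadeIsometry A L H α with hτ
  have hτg : Cfsg.IsGeneralizedCharacter G τ :=
    Cfsg.Agent.Char.Dade.isGeneralizedCharacter_dade hD hgen hαA
  have hconj : Cfsg.conjFun τ = -τ := by
    funext g
    by_cases h : ∃ a ∈ A, g ∈ Cfsg.Agent.Char.Dade.coset H a
    · obtain ⟨a, ha, hg⟩ := h
      show (starRingEnd ℂ) (τ g) = -(τ g)
      rw [hτ, Cfsg.Agent.Char.Dade.dadeIsometry_eq hD hαc ha hg]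
      simp [hα, Cfsg.conjFun]
    · push Not at h
      simp [hτ, Cfsg.conjFun, Cfsg.Agent.Char.Dade.dadeIsometry_zero hD h]
  by_cases hreal : Cfsg.conjFun χ = χ
  · refine ⟨fun _ => 1, Cfsg.Agent.Char.isIrrCharacter_one, ?_⟩
    funext g
    by_cases h : ∃ a ∈ A, g ∈ Cfsg.Agent.Char.Dade.coset H a
    · obtain ⟨a, ha, hg⟩ := h
      rw [hτ, Cfsg.Agent.Char.Dade.dadeIsometry_eq hD hαc ha hg, hα, hreal]
      simp [Cfsg.conjFun]
    · push Not at h
      simp [hτ, Cfsg.conjFun, Cfsg.Agent.Char.Dade.dadeIsometry_zero hD h]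
  · have hnorm : Cfsg.classInner τ τ = 2 := by
      have h1 : Cfsg.classInner τ τ = Cfsg.classInner α α := by
        refine Cfsg.Agent.Char.Dade.classInner_dade_avg hD hαc hαA (Cfsg.Agent.Char.Dade.isClassFunction_dade hD hαc) (fun a ha => ?_)
        rw [Finset.sum_congr rfl (fun u hu => Cfsg.Agent.Char.Dade.dadeIsometry_coset hD hαc ha (Cfsg.Agent.Char.Dade.mem_fin.mp hu)),
          Finset.sum_const, Cfsg.Agent.Char.Dade.card_fin, nsmul_eq_mul, inv_mul_cancel_left₀]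
        exact Nat.cast_ne_zero.mpr Nat.card_pos.ne'
      rw [h1, hα, Cfsg.Agent.Char.classInner_sub_left, Cfsg.Agent.Char.classInner_sub_right, Cfsg.Agent.Char.classInner_sub_right,
        Cfsg.Agent.Char.classInner_self_irr hχ, Cfsg.Agent.Char.classInner_self_irr hχ',
        Cfsg.Agent.Char.classInner_irr_of_ne hχ hχ' (Ne.symm hreal), Cfsg.Agent.Char.classInner_irr_of_ne hχ' hχ hreal]
      norm_num
    have hone : τ 1 = 0 := by
      rw [hτ]
      refine Cfsg.Agent.Char.Dade.dadeIsometry_zero hD fun a ha hg => hD.one_not_mem ?_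
      obtain ⟨u, hu, x, hx⟩ := Cfsg.Agent.Char.Dade.mem_coset.mp hg
      rw [mul_one, mul_inv_cancel] at hx
      have hmem : a ∈ H a ⊓ (L ⊓ Subgroup.centralizer ({a} : Set G)) :=
        ⟨eq_inv_of_mul_eq_one_left hx.symm ▸ (H a).inv_mem hu, Cfsg.Agent.Char.Dade.mem_CL hD ha⟩
      rw [hD.inf_eq_bot a ha, Subgroup.mem_bot] at hmem
      exact hmem ▸ ha
    obtain ⟨μ, ν, hne, he⟩ := Cfsg.Agent.Char.IsGeneralizedCharacter.of_norm_two hτg hnorm hone
    refine ⟨μ, μ.2, ?_⟩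
    have hμ' : Cfsg.IsIrrCharacter G (Cfsg.conjFun (μ : G → ℂ)) := Cfsg.Agent.Char.IsIrrCharacter.conj μ.2
    have hν' : Cfsg.IsIrrCharacter G (Cfsg.conjFun (ν : G → ℂ)) := Cfsg.Agent.Char.IsIrrCharacter.conj ν.2
    have key : Cfsg.conjFun (μ : G → ℂ) - Cfsg.conjFun (ν : G → ℂ) = (ν : G → ℂ) - (μ : G → ℂ) := by
      rw [← neg_sub (μ : G → ℂ) (ν : G → ℂ), ← he, ← hconj, he]
      funext g
      simp [Cfsg.conjFun]
    have hνμ : (ν : G → ℂ) = Cfsg.conjFun (μ : G → ℂ) := by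
      by_contra hc
      have := congrArg (fun f => Cfsg.classInner f (ν : G → ℂ)) key
      simp only [Cfsg.Agent.Char.classInner_sub_left, Cfsg.Agent.Char.classInner_self_irr ν.2,
        Cfsg.Agent.Char.classInner_irr_of_ne μ.2 ν.2 (fun e => hne (Subtype.ext e)),
        Cfsg.Agent.Char.classInner_irr_of_ne hμ' ν.2 (Ne.symm hc),
        Cfsg.Agent.Char.classInner_irr hν' ν.2] at this
      split_ifs at this <;> norm_num at this
    rw [← hνμ]
    exact he


end Cfsg.Agent.S1518
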