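import Cfsg.Statements.S1386
import Mathlib.GroupTheory.SpecificGroups.Cyclic
import Mathlib.Algebra.Group.Subgroup.Pointwise

set_option autoImplicit false
open Cfsg

namespace Cfsg.Agent.S1386

theorem card_sup_of_commute {G : Type*} [Group G] (H K : Subgroup G)
    (hd : H ⊓ K = ⊥) (hc : ∀ a ∈ H, ∀ b ∈ K, a * b = b * a) :
    Nat.card ↥(H ⊔ K) = Nat.card H * Nat.card K := by
  have hcm : ∀ (a : ↥H) (b : ↥K), Commute (H.subtype a) (K.subtype b) := fun a b => hc a a.2 b b.2
  let f : ↥H × ↥K →* G := MonoidHom.noncommCoprod H.subtype K.subtype hcm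
  have hinj : Function.Injective f :=
    (MonoidHom.noncommCoprod_injective _ _ _).mpr ⟨H.subtype_injective, K.subtype_injective,
      by simpa [disjoint_iff] using hd⟩
  have hr : f.range = H ⊔ K := by
    show (MonoidHom.noncommCoprod H.subtype K.subtype _).range = _
    rw [MonoidHom.noncommCoprod_range, Subgroup.range_subtype, Subgroup.range_subtype]
  rw [← hr, ← Nat.card_congr (f.ofInjective hinj).toEquiv, Nat.card_prod]

theorem eq_of_card_eq_of_cyclic {G : Type*} [Group G] [Finite G] (H K W : Subgroup G)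
    (hH : H ≤ W) (hK : K ≤ W) (hW : IsCyclic W) (hc : Nat.card H = Nat.card K) : H = K := by
  classical
  have : Fintype W := Fintype.ofFinite _
  let n := Nat.card K
  have hpos : 0 < n := Nat.card_pos
  let s : Finset W := {x : W | x ^ n = 1}
  have hs : s.card ≤ n := IsCyclic.card_pow_eq_one_le hpos
  have key : ∀ L : Subgroup G, L ≤ W → Nat.card L = n → (fun x : W => (x : G)) '' (s : Set W) = L := by
    intro L hL hcard
    symm
    refine Set.eq_of_subset_of_ncard_le ?_ ?_ (Set.toFinite _)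
    · intro x hx
      refine ⟨⟨x, hL hx⟩, ?_, rfl⟩
      simp only [s, Finset.coe_filter, Finset.mem_univ, true_and, Set.mem_setOf_eq]
      apply Subtype.ext
      have : (⟨x, hx⟩ : L) ^ n = 1 := hcard ▸ pow_card_eq_one'
      simpa using congrArg Subtype.val this
    · calc ((fun x : W => (x : G)) '' (s : Set W)).ncard ≤ (s : Set W).ncard := Set.ncard_image_le (Set.toFinite _)
        _ = s.card := Set.ncard_coe_finset s
        _ ≤ n := hs
        _ = (L : Set G).ncard := by rw [← hcard]; rfl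
  exact SetLike.coe_injective ((key H hH hc).symm.trans (key K hK rfl))

/-- Let G be a finite group, W₁, W₂ subgroups forming a self-normalizing cyclic pair, S a subgroup with W₂ ≤ S and W₁ a complement to S' in S, and (W₁, U, W₂') type-P data for S. Then W₂' = W₂ (that is, C_{S'}(W₁) = W₂). -/
theorem result {G : Type*} [Group G] [Finite G] (W₁ W₂ S U W₂' : Subgroup G) (hW : Cfsg.IsSelfNormalizingCyclic W₁ W₂)
    (hSW : Cfsg.IsComplIn ⁅S, S⁆ W₁ S) (hW₂S : W₂ ≤ S) (hP : Cfsg.IsTypePWith S W₁ U W₂') :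
    W₂' = W₂ := by
  obtain ⟨h1, h2, hd, hc, hcyc, hN⟩ := hW
  obtain ⟨-, -, hd', hc', hcyc', -⟩ := hP.selfNormalizing
  obtain ⟨x, hx, hx1⟩ := (Subgroup.bot_or_exists_ne_one W₁).resolve_left h1
  obtain ⟨y, hy, hy1⟩ := (Subgroup.bot_or_exists_ne_one W₂).resolve_left h2
  -- W₂ lies in W₁ ⊔ W₂'
  have hle : W₂ ≤ W₁ ⊔ W₂' := by
    intro w hw
    obtain ⟨a, ha, b, hb, rfl⟩ := hSW.2.2.2 w (hW₂S hw)
    have hab : Commute x (a * b) := hc x hx _ hw
    have hxb : Commute x b := by
      have : IsCyclic W₁ := hP.W₁_cyclic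
      exact congrArg Subtype.val (IsCyclic.commGroup.mul_comm (⟨x, hx⟩ : W₁) ⟨b, hb⟩)
    have hxa : Commute x a := by
      have := hab.mul_right hxb.inv_right
      simpa using this
    have : a ∈ W₂' := by
      rw [← hP.W₂_centralizer x hx hx1]
      exact ⟨ha, Subgroup.mem_centralizer_iff.mpr fun z hz => by rw [Set.mem_singleton_iff] at hz; subst hz; exact hxa.eq⟩
    exact mul_mem (Subgroup.mem_sup_right this) (Subgroup.mem_sup_left hb)
  have hWW : W₁ ⊔ W₂ = W₁ ⊔ W₂' := by
    refine le_antisymm (sup_le le_sup_left hle) ?_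
    have hx2 : x ∉ W₂ := fun h => hx1 (by
      have : x ∈ W₁ ⊓ W₂ := ⟨hx, h⟩
      simpa [hd] using this)
    have hy2 : y ∉ W₁ := fun h => hy1 (by
      have : y ∈ W₁ ⊓ W₂ := ⟨h, hy⟩
      simpa [hd] using this)
    have hX : ({x * y} : Set G) ⊆ (↑(W₁ ⊔ W₂) : Set G) \ (↑W₁ ∪ ↑W₂) := by
      rintro z rfl
      refine ⟨mul_mem (Subgroup.mem_sup_left hx) (Subgroup.mem_sup_right hy), ?_⟩
      rintro (h | h)
      · exact hy2 (by simpa using mul_mem (inv_mem hx) h)
      · exact hx2 (by simpa using mul_mem h (inv_mem hy))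
    rw [← hN {x * y} hX ⟨_, rfl⟩]
    intro g hg
    have hmem : x * y ∈ W₁ ⊔ W₂' := mul_mem (Subgroup.mem_sup_left hx) (hle hy)
    have : IsCyclic ↥(W₁ ⊔ W₂') := hcyc'
    have hcomm : g * (x * y) = (x * y) * g :=
      congrArg Subtype.val (IsCyclic.commGroup.mul_comm (⟨g, hg⟩ : ↥(W₁ ⊔ W₂')) ⟨_, hmem⟩)
    rw [Subgroup.mem_set_normalizer_iff]
    intro z
    simp only [Set.mem_singleton_iff]
    constructor
    · rintro rfl; rw [hcomm]; group
    · intro h
      calc z = g⁻¹ * (g * z * g⁻¹) * g := by group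
        _ = g⁻¹ * ((x * y) * g) := by rw [h]; group
        _ = x * y := by rw [← hcomm]; group
  refine eq_of_card_eq_of_cyclic W₂' W₂ (W₁ ⊔ W₂) (hWW ▸ le_sup_right) le_sup_right hcyc ?_
  have h := card_sup_of_commute W₁ W₂ hd hc
  rw [hWW, card_sup_of_commute W₁ W₂' hd' hc'] at h
  exact Nat.eq_of_mul_eq_mul_left Nat.card_pos h

end Cfsg.Agent.S1386
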