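import Cfsg.Statements.S0948
import Cfsg.Agent.Lib.Blocks.KleinFour

set_option autoImplicit false
open Cfsg

namespace Cfsg.Agent.S0948

/-- Let the finite group G have a Sylow 2-subgroup P that is a Klein four-group, suppose all involutions of G are conjugate, and fix a maximal ideal M of the algebraic integers containing 2. Then the principal block consists of exactly four irreducible characters, the principal character and ζ₂, ζ₃, ζ₄, and there is a sign ε such that for every involution z: ζ₂ z = 1, ζ₃ z = ε, ζ₄ z = -1; moreover ζ₂ 1 ≡ 1, ζ₃ 1 ≡ ε, ζ₄ 1 ≡ -1 (mod 4), and 1 + ζ₂ y + ε ζ₃ y - ζ₄ y = 0 for every y of odd order. -/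
theorem result {G : Type*} [Group G] [Finite G] (M : Ideal Cfsg.AlgInt) (hM : Cfsg.IsPModular 2 M) (P : Sylow 2 G) (hP : IsKleinFour (P : Subgroup G)) (hone : ∀ s t : G, orderOf s = 2 → orderOf t = 2 → IsConj s t) : ∃ ζ₂ ζ₃ ζ₄ : Cfsg.IrrCharacter G, ∃ ε : ℤ, (ε = 1 ∨ ε = -1) ∧ (ζ₂ : G → ℂ) ≠ (fun _ => 1) ∧ (ζ₃ : G → ℂ) ≠ (fun _ => 1) ∧ ζ₂ ≠ ζ₃ ∧ ζ₂ ≠ ζ₄ ∧ ζ₃ ≠ ζ₄ ∧ Cfsg.principalBlock M G = {χ : Cfsg.IrrCharacter G | (χ : G → ℂ) = (fun _ => 1) ∨ χ = ζ₂ ∨ χ = ζ₃ ∨ χ = ζ₄} ∧ (∀ z : G, orderOf z = 2 → (ζ₂ : G → ℂ) z = 1 ∧ (ζ₃ : G → ℂ) z = (ε : ℂ) ∧ (ζ₄ : G → ℂ) z = -1) ∧ (4 : ℤ) ∣ (Cfsg.charDegree (ζ₂ : G → ℂ) : ℤ) - 1 ∧ (4 : ℤ) ∣ (Cfsg.charDegree (ζ₃ : G → ℂ) : ℤ) - ε ∧ (4 : ℤ) ∣ (Cfsg.charDegree (ζ₄ : G → ℂ) : ℤ) + 1 ∧ ∀ y : G, Odd (orderOf y) → 1 + (ζ₂ : G → ℂ) y + (ε : ℂ) * (ζ₃ : G → ℂ) y - (ζ₄ : G → ℂ) y = 0 := by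
  classical
  haveI : Fintype G := Fintype.ofFinite _
  haveI : M.IsPrime := hM.2.1.isPrime
  have h := Blocks.Klein.IsV4.of_klein hP
  haveI := Finite.one_lt_card_iff_nontrivial.1
    (show 1 < Nat.card (P : Subgroup G) by rw [h.card]; norm_num)
  obtain ⟨x, hx1⟩ : ∃ x : (P : Subgroup G), x ≠ 1 := exists_ne 1
  have hz : orderOf (x : G) = 2 := orderOf_eq_prime (by rw [pow_two]; exact h.sq x x.2)
    fun e => hx1 (Subtype.ext e)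
  obtain ⟨a, b, c, ε, hε, ha1, hb1, hab, hac, hbc, hB, ⟨ha, hb, hc⟩, hrel⟩ :=
    Blocks.Klein.exists_principal_list h hone hz hM
  have hdiv : ∀ ζ : IrrCharacter G, ζ ∈ Cfsg.principalBlock M G → ∀ n : ℤ,
      (ζ : G → ℂ) x = (n : ℂ) → (4 : ℤ) ∣ (charDegree (ζ : G → ℂ) : ℤ) - n := by
    intro ζ hζ n hn
    obtain ⟨m, hm, -, hd⟩ := Blocks.Klein.exists_value h hone hz hM hζ
    rw [hn, Int.cast_inj] at hm
    rwa [hm]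
  refine ⟨a, b, c, ε, hε, ha1, hb1, hab, hac, hbc, hB, fun z hz' => ?_, ?_, ?_, ?_,
    fun y hy => hrel y hy.not_two_dvd_nat⟩
  · exact ⟨(Blocks.irr_isConj a (hone x z hz hz')).trans ha,
      (Blocks.irr_isConj b (hone x z hz hz')).trans hb,
      (Blocks.irr_isConj c (hone x z hz hz')).trans hc⟩
  · exact hdiv a (hB ▸ Or.inr (Or.inl rfl)) 1 (by simpa using ha)
  · exact hdiv b (hB ▸ Or.inr (Or.inr (Or.inl rfl))) ε hb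
  · simpa using hdiv c (hB ▸ Or.inr (Or.inr (Or.inr rfl))) (-1) (by simpa using hc)

end Cfsg.Agent.S0948
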