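import Cfsg.Statements.S4482
import Cfsg.Agent.Lib.Blocks.DihedralCount

set_option autoImplicit false
open Cfsg

namespace Cfsg.Agent.S4482

/-- An order formula for groups with dihedral Sylow 2-subgroups and one class of involutions. Let G be a finite group whose Sylow 2-subgroup P = ⟨σ, τ⟩ is dihedral of order 2^n ≥ 8 (σ of order 2^(n−1), τ an involution inverting σ), let J be the central involution σ^(2^(n−2)), and suppose J, τ and στ are conjugate in G. Fix M over 2 and let χ₁ be an irreducible character in the principal 2-block taking one constant value δ₁ = ±1 at every non-identity power of σ, with χ₁ ≠ 1. Then, with x₁ = χ₁(1) and c(·) denoting orders of centralizers, x₁ ≠ δ₁ and #G · (x₁ − δ₁)² = 2·x₁(x₁ + δ₁)·c(J)³·(1/c(J, τ) + 1/c(J, στ))², where c(J, y) is the order of the joint centralizer of J and y. -/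
theorem result {G : Type*} [Group G] [Finite G] (M : Ideal Cfsg.AlgInt) (hM : Cfsg.IsPModular 2 M) (n : ℕ) (hn : 3 ≤ n) (P : Sylow 2 G) (σ τ : G) (hσ : σ ∈ (P : Subgroup G)) (hτ : τ ∈ (P : Subgroup G)) (hσo : orderOf σ = 2 ^ (n - 1)) (hτo : orderOf τ = 2) (hrel : τ * σ * τ⁻¹ = σ⁻¹) (hgen : Subgroup.closure ({σ, τ} : Set G) = (P : Subgroup G)) (hconj : IsConj (σ ^ (2 ^ (n - 2))) τ ∧ IsConj (σ ^ (2 ^ (n - 2))) (σ * τ)) (χ₁ : Cfsg.IrrCharacter G) (hχ₁ : χ₁ ∈ Cfsg.principalBlock M G) (h1 : (χ₁ : G → ℂ) ≠ (fun _ => 1)) (δ₁ : ℤ) (hδ₁ : δ₁ = 1 ∨ δ₁ = -1) (hval : ∀ l : ℕ, 0 < l → l < 2 ^ (n - 1) → (χ₁ : G → ℂ) (σ ^ l) = δ₁) : (Cfsg.charDegree (χ₁ : G → ℂ) : ℤ) ≠ δ₁ ∧ (Nat.card G : ℚ) * ((Cfsg.charDegree (χ₁ : G → ℂ) : ℚ) - δ₁) ^ 2 = 2 * (Cfsg.charDegree (χ₁ : G → ℂ) : ℚ) * ((Cfsg.charDegree (χ₁ : G → ℂ) : ℚ) + δ₁) * (Nat.card (Subgroup.centralizer ({σ ^ (2 ^ (n - 2))} : Set G)) : ℚ) ^ 3 * (1 / (Nat.card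 (Subgroup.centralizer ({σ ^ (2 ^ (n - 2)), τ} : Set G)) : ℚ) + 1 / (Nat.card (Subgroup.centralizer ({σ ^ (2 ^ (n - 2)), σ * τ} : Set G)) : ℚ)) ^ 2 := by
  classical
  haveI : Fintype G := Fintype.ofFinite G
  haveI : M.IsPrime := hM.2.1.isPrime
  have h2pow : 2 ^ (n - 1) = 2 * 2 ^ (n - 2) := by rw [← pow_succ', show n - 2 + 1 = n - 1 by omega]
  have h2 : 2 ≤ 2 ^ (n - 2) := le_self_pow₀ (by norm_num) (by omega)
  have hττ : τ * τ = 1 := by rw [← pow_two, ← hτo, pow_orderOf_eq_one]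
  have hτmem : τ ∉ Subgroup.zpowers σ := by
    rintro ⟨i, rfl⟩
    rw [show σ ^ i * σ * (σ ^ i)⁻¹ = σ by group] at hrel
    have h4 := orderOf_dvd_of_pow_eq_one (x := σ) (n := 2)
      (by rw [pow_two]; nth_rewrite 1 [hrel]; exact inv_mul_cancel σ)
    rw [hσo] at h4
    have := Nat.le_of_dvd two_pos h4
    omega
  have e : Nonempty ((P : Subgroup G) ≃* DihedralGroup (2 ^ (n - 1))) :=
    TwoLift.dihedral_equiv hσo hττ hrel hτmem hgen.symm
  obtain ⟨d₀, hdm, hdx⟩ := DihBlock.exists_dih_gen e (by omega) hσ hσo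
  obtain ⟨i, hi⟩ : ∃ i : ℤ, τ = d₀.x ^ i * d₀.y := by
    rcases d₀.cases τ hτ with h | h
    · exact absurd (by obtain ⟨i, rfl⟩ := h; rw [hdx]; exact Subgroup.zpow_mem_zpowers σ i) hτmem
    · exact h
  let d : TwoFus.Dih (P : Subgroup G) :=
    { d₀ with
      y := τ
      hy := hτ
      yy := hττ
      inv := by rw [hdx]; exact hrel
      ynot := by rw [hdx]; exact hτmem
      cases := fun a ha => by
        rcases d₀.cases a ha with h | ⟨k, rfl⟩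
        · exact Or.inl h
        · exact Or.inr ⟨k - i, by rw [hi, ← mul_assoc, ← zpow_add, sub_add_cancel]⟩ }
  have hdm' : d.m = 2 ^ (n - 1) := hdm
  have hdx' : d.x = σ := hdx
  have hdy' : d.y = τ := rfl
  have hh : d.m = 2 * 2 ^ (n - 2) := hdm'.trans h2pow
  have hJ : d.z = σ ^ (2 ^ (n - 2)) := by rw [DihBlock.z_eq d hh, hdx']
  have hζ := Complex.isPrimitiveRoot_exp d.m (by omega)
  have hne : χ₁ ≠ Cfsg.Agent.Char.principal G := fun h => h1 (by rw [h]; rfl)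
  have main := DihBlock.order_formula d hM hζ hh h2 (dvd_pow_self 2 (by omega))
    (by rw [hJ, hdy']; exact hconj.1) (by rw [hJ, hdx', hdy']; exact hconj.2) χ₁ hχ₁ hne δ₁ hδ₁
    (by rw [hdm', hdx']; exact hval)
  rw [hJ, hdx', hdy'] at main
  exact main

end Cfsg.Agent.S4482
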