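import Cfsg.Statements.S1141
import Cfsg.Agent.Lib.SU3Sylow.Embed

set_option autoImplicit false
open Cfsg

namespace Cfsg.Agent.S1141

open Cfsg.Agent.SU3Sylow

/-- Let `q = 2^n ≥ 4` and `|F| = q²`. A Sylow 2-subgroup `S` of `PSU₃(q)` has order `q³`, its centre has order `q`, and `S` is a Suzuki 2-group. -/
theorem result {F : Type*} [Field F] [Fintype F] {n : ℕ} (hn : 2 ≤ n)
    (hF : Fintype.card F = (2 ^ n) ^ 2) (S : Sylow 2 (Cfsg.PSU 3 F (2 ^ n))) :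
    Nat.card S = (2 ^ n) ^ 3 ∧ Nat.card (Subgroup.center ↥(S : Subgroup (Cfsg.PSU 3 F (2 ^ n)))) = 2 ^ n ∧
      Cfsg.IsSuzukiTwoGroup ↥(S : Subgroup (Cfsg.PSU 3 F (2 ^ n))) := by
  obtain ⟨_, σ, _, hne, hσ, hq⟩ := setup (by omega) hF
  obtain ⟨e⟩ := sylow_PSU_equiv hne (by omega) hσ hq S
  refine ⟨by rw [Nat.card_congr e.toEquiv, Heis.card_eq hne hq], ?_, suzuki_of_equiv e.symm
    (Heis.isSuzukiTwoGroup hne ?_)⟩
  · rw [Nat.card_congr (Subgroup.centerCongr e).toEquiv, Heis.card_center hne hq]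
  · rw [hq]
    calc 2 < 2 ^ 2 := by norm_num
      _ ≤ 2 ^ n := Nat.pow_le_pow_right (by norm_num) hn

end Cfsg.Agent.S1141
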