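import Cfsg.Statements.S1213
import Cfsg.Agent.Lib.TwoGroups.InvolCentralizer

set_option autoImplicit false
open Cfsg

namespace Cfsg.Agent.S1213

theorem qd_transport {A B : Type*} [Group A] [Group B] (e : A ≃* B) (h : Cfsg.IsQuasiDihedral A) :
    Cfsg.IsQuasiDihedral B := by
  obtain ⟨n, hn, hc, x, y, hx, hy, hxy⟩ := h
  exact ⟨n, hn, (Nat.card_congr e.toEquiv).symm.trans hc, e x, e y, by rw [e.orderOf_eq, hx],
    by rw [e.orderOf_eq, hy], by rw [← map_inv, ← map_mul, ← map_mul, hxy, map_pow]⟩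

theorem wr_transport {A B : Type*} [Group A] [Group B] (e : A ≃* B) (h : Cfsg.IsWreathed A) :
    Cfsg.IsWreathed B := by
  obtain ⟨n, hn, hc, x, y, z, hx, hxy, hd, hz, hzx⟩ := h
  refine ⟨n, hn, (Nat.card_congr e.toEquiv).symm.trans hc, e x, e y, e z, by rw [e.orderOf_eq, hx],
    by rw [← map_mul, hxy, map_mul], ?_, by rw [e.orderOf_eq, hz],
    by rw [← map_inv, ← map_mul, ← map_mul, hzx]⟩
  rw [← MulEquiv.coe_toMonoidHom e, ← MonoidHom.map_zpowers, ← MonoidHom.map_zpowers,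
    ← Subgroup.map_inf _ _ _ e.injective, hd, Subgroup.map_bot]

/-- Let G be a finite group with quasi-dihedral or wreathed Sylow 2-subgroups and no subgroup of index 2, and let x be an involution with centralizer C. Then C has a Sylow 2-subgroup R which is a Sylow 2-subgroup of G; C has a normal subgroup K of index a power of 2 which has no subgroup of index 2 and whose Sylow 2-subgroups are generalized quaternion; and every subgroup of the centre of R is weakly closed in R with respect to C. -/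
theorem result {G : Type*} [Group G] [Finite G] (S : Sylow 2 G) (hS : Cfsg.IsQuasiDihedral (S : Subgroup G) ∨ Cfsg.IsWreathed (S : Subgroup G)) (hG : ∀ H : Subgroup G, H.index ≠ 2) (x : G) (hx : orderOf x = 2) : ∃ R : Sylow 2 ↥(Subgroup.centralizer ({x} : Set G)), Nat.card R = Nat.card S ∧ (∃ K : Subgroup ↥(Subgroup.centralizer ({x} : Set G)), K.Normal ∧ (∃ a : ℕ, K.index = 2 ^ a) ∧ (∀ H : Subgroup ↥K, H.index ≠ 2) ∧ (∀ P : Sylow 2 ↥K, ∃ m : ℕ, 1 ≤ m ∧ Nonempty ((P : Subgroup ↥K) ≃* QuaternionGroup (2 ^ m)))) ∧ (∀ Z₀ : Subgroup ↥(Subgroup.centralizer ({x} : Set G)), Z₀ ≤ ((Subgroup.center (R : Subgroup ↥(Subgroup.centralizer ({x} : Set G)))).map (R : Subgroup ↥(Subgroup.centralizer ({x} : Set G))).subtype) → Cfsg.IsWeaklyClosed Z₀ (R : Subgroup ↥(Subgroup.centralizer ({x} : Set G)))) := by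
  haveI : Fact (Nat.Prime 2) := ⟨Nat.prime_two⟩
  have hreduce : ∀ T : Sylow 2 G, x ∈ (T : Subgroup G) → ∀ hT : (T : Subgroup G) ≤
      Subgroup.centralizer ({x} : Set G),
      Nat.card (T.subtype hT : Subgroup (Subgroup.centralizer ({x} : Set G))) = Nat.card S ∧
      ((T.subtype hT : Subgroup (Subgroup.centralizer ({x} : Set G))).map
        (Subgroup.centralizer ({x} : Set G)).subtype = (T : Subgroup G)) := by
    intro T _ hT
    refine ⟨?_, Subgroup.map_subgroupOf_eq_of_le hT⟩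
    rw [Sylow.coe_subtype, Nat.card_congr (Subgroup.subgroupOfEquivOfLe hT).toEquiv]
    exact Nat.card_congr (T.equiv S).toEquiv
  rcases hS with hS | hS
  · obtain ⟨d, -⟩ := QD.exists_pres hS
    obtain ⟨hF, hQ⟩ := InvCent.qd_full S d hG
    obtain ⟨T, hxT, hT, ⟨eT⟩⟩ := InvCent.exists_sylow_centralizing S
      (fun s hs => congrArg Subtype.val (d.z_central ⟨s, hs⟩)) d.z.2 (InvCent.qd_one_class S d hF hx)
    obtain ⟨hcard, hmap⟩ := hreduce T hxT hT
    obtain ⟨dT, -⟩ := QD.exists_pres (qd_transport eT hS)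
    set R := T.subtype hT with hR
    obtain ⟨d', -⟩ : ∃ _d : QD.Pres (R : Subgroup (Subgroup.centralizer ({x} : Set G))), True :=
      QD.exists_pres (qd_transport
      (eT.trans (Subgroup.subgroupOfEquivOfLe hT).symm) hS :
        Cfsg.IsQuasiDihedral ((T : Subgroup G).subgroupOf (Subgroup.centralizer ({x} : Set G))))
    have hQT := (InvCent.qd_full T dT hG).2
    obtain ⟨h4, h8⟩ := InvCent.qd_centralizer T dT hx hQT hxT hT rfl R hmap d'
    obtain ⟨K, k1, k2, k3, k4⟩ := QDFus.quaternion_K R d' h4 h8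
    refine ⟨R, hcard, ⟨K, k1, ⟨1, by rw [k2, pow_one]⟩, k4,
      fun P => ⟨_, Nat.le_add_left 1 _, k3 P⟩⟩, fun Z₀ hZ => ?_⟩
    refine ⟨hZ.trans (Subgroup.map_subtype_le _), fun g hg => ?_⟩
    have hfix : ∀ v ∈ Z₀, g * v * g⁻¹ = v := by
      intro v hv
      have hcases : v = 1 ∨ v = (d'.z : Subgroup.centralizer ({x} : Set G)) := by
        obtain ⟨w, hw, hwv⟩ := hZ hv
        rw [SetLike.mem_coe, d'.center_eq] at hw
        obtain ⟨k, hk⟩ := hw
        have hk' : d'.z ^ k = w := hk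
        rcases Int.even_or_odd' k with ⟨i, rfl | rfl⟩
        · rw [zpow_mul, zpow_two, d'.zz, one_zpow] at hk'
          exact Or.inl (by rw [← hwv, ← hk']; rfl)
        · rw [zpow_add_one, zpow_mul, zpow_two, d'.zz, one_zpow, one_mul] at hk'
          exact Or.inr (by rw [← hwv, ← hk']; rfl)
      rcases hcases with e | e <;> subst e
      · group
      · exact QDFus.z_fixed R d' h4 (hg ⟨_, hv, rfl⟩)
    refine le_antisymm ?_ fun v hv => ⟨v, hv, hfix v hv⟩
    rintro _ ⟨v, hv, rfl⟩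
    show g * v * g⁻¹ ∈ Z₀
    rw [hfix v hv]; exact hv
  · obtain ⟨d, -⟩ := Wreath.exists_pres hS
    obtain ⟨hU, hV⟩ := InvCent.wr_full S d hG
    obtain ⟨T, hxT, hT, ⟨eT⟩⟩ := InvCent.exists_sylow_centralizing S
      (fun s hs => congrArg Subtype.val (Subgroup.mem_center_iff.mp d.z_central ⟨s, hs⟩))
      (d.u d.h d.h).2 (InvCent.wr_one_class S d hU hV hx)
    obtain ⟨hcard, hmap⟩ := hreduce T hxT hT
    obtain ⟨dT, -⟩ := Wreath.exists_pres (wr_transport eT hS)
    set R := T.subtype hT with hR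
    obtain ⟨d', -⟩ : ∃ _d : Wreath.Pres (R : Subgroup (Subgroup.centralizer ({x} : Set G))), True :=
      Wreath.exists_pres (wr_transport
      (eT.trans (Subgroup.subgroupOfEquivOfLe hT).symm) hS :
        Cfsg.IsWreathed ((T : Subgroup G).subgroupOf (Subgroup.centralizer ({x} : Set G))))
    obtain ⟨hU', hV'⟩ := InvCent.wr_centralizer T dT hx (InvCent.wr_full T dT hG).2 hxT rfl R hmap d'
    obtain ⟨K, k1, k2, k3, k4⟩ := WrFus.exists_K_V R d' hU' hV'
    exact ⟨R, hcard, ⟨K, k1, ⟨_, k2⟩, k4, fun P => ⟨_, Nat.le_add_left 1 _, k3 P⟩⟩,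
      fun Z₀ hZ => WrFus.center_weaklyClosed R d' hU' hZ⟩

end Cfsg.Agent.S1213
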