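import Cfsg.Statements.S1225
import Cfsg.Agent.Lib.Involutions.SwapCount

set_option autoImplicit false
open Cfsg

namespace Cfsg.Agent.S1225

/-- Let H be a strongly embedded subgroup of the finite group G, u an involution outside H and D = H ∩ uHu⁻¹. Then any two involutions of H are conjugate by an element of D, and any two involutions of G are conjugate in G. -/
theorem result {G : Type*} [Group G] [Finite G] (H : Subgroup G) (hH : Cfsg.IsStronglyEmbedded H) (u : G) (hu : orderOf u = 2) (huH : u ∉ H) (s t : G) (hs : orderOf s = 2) (hsH : s ∈ H) (ht : orderOf t = 2) (htH : t ∈ H) : (∃ d ∈ (H ⊓ H.map (MulAut.conj u).toMonoidHom), d * s * d⁻¹ = t) ∧ ∀ a b : G, orderOf a = 2 → orderOf b = 2 → IsConj a b := by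
  refine ⟨?_, fun a b ha hb => Invol.se_isConj hH ha hb⟩
  have hxy : ((1 : G) : G ⧸ H) ≠ (u : G ⧸ H) := by
    rw [Ne, QuotientGroup.eq, inv_one, one_mul]; exact huH
  have hfix : ∀ v : G, orderOf v = 2 → v ∈ H → v • ((1 : G) : G ⧸ H) = ((1 : G) : G ⧸ H) := by
    intro v hv hvH
    rw [MulAction.Quotient.smul_mk, QuotientGroup.eq, smul_eq_mul, mul_one, mul_one]
    exact inv_mem hvH
  set x : G ⧸ H := ((1 : G) : G ⧸ H) with hx
  have huu : u • (u : G ⧸ H) = x := by
    rw [MulAction.Quotient.smul_mk, smul_eq_mul, Invol.mul_self hu]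
  have hux : u • x = (u : G ⧸ H) := by
    rw [hx, MulAction.Quotient.smul_mk, smul_eq_mul, mul_one]
  obtain ⟨⟨w, hwo, hwx⟩, hw⟩ := (Invol.swap_conj_bijective hH hxy ⟨s, hs, hfix s hs hsH⟩).2
    ⟨u * t * u⁻¹, by rw [Invol.order_conj, ht], by
      rw [Invol.inv_self hu, mul_smul, mul_smul, huu, hfix t ht htH, hux]⟩
  have hw' : w * s * w⁻¹ = u * t * u⁻¹ := Subtype.ext_iff.mp hw
  refine ⟨u * w, ?_, ?_⟩
  · constructor
    · have h : (u * w) • x = x := by rw [mul_smul, hwx, huu]
      rw [hx, MulAction.Quotient.smul_mk, QuotientGroup.eq, smul_eq_mul, mul_one, mul_one] at h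
      simpa using inv_mem h
    · apply Invol.mem_conj_map.mpr
      have hwy : w • (u : G ⧸ H) = x := by
        rw [← hwx, ← mul_smul, Invol.mul_self hwo, one_smul]
      have h : (u⁻¹ * (u * w) * u) • x = x := by
        rw [mul_smul, mul_smul, hux, mul_smul, hwy, hux, Invol.inv_self hu, huu]
      rw [hx, MulAction.Quotient.smul_mk, QuotientGroup.eq, smul_eq_mul, mul_one, mul_one] at h
      simpa using inv_mem h
  · rw [show u * w * s * (u * w)⁻¹ = u * (w * s * w⁻¹) * u⁻¹ by group, hw', Invol.inv_self hu,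
      show u * (u * t * u) * u = (u * u) * t * (u * u) by group, Invol.mul_self hu, one_mul, mul_one]

end Cfsg.Agent.S1225
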