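import Cfsg.Statements.S1230
import Cfsg.Agent.Lib.Involutions.ElemField
import Cfsg.Agent.Lib.Classical.SL
import Mathlib.Topology.Compactification.OnePoint.ProjectiveLine

set_option autoImplicit false
open Cfsg

namespace Cfsg.Agent.S1230

open Matrix Cfsg.Agent.Invol in
theorem key {G : Type*} [Group G] [Finite G] {T : Sylow 2 G} (hT : ElemCase T) :
    ∃ (F : Type) (_ : Field F) (_ : Fintype F), Fintype.card F = Nat.card T ∧
      Nonempty (G ≃* Matrix.ProjectiveSpecialLinearGroup (Fin 2) F) := by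
  classical
  obtain ⟨y₁, hy₁⟩ := hT.exists_ne_base
  obtain ⟨u, hu, huy⟩ := hT.exists_swap hy₁.symm
  set y₀ := u • hT.base with hy₀def
  have hy₀ : y₀ ≠ hT.base := by rw [huy]; exact hy₁
  have huu : u • y₀ = hT.base := by rw [hy₀def, ← mul_smul, mul_self hu, one_smul]
  obtain ⟨z, hz⟩ := se_exists_fix hT.stronglyEmbedded hu
  have hz0 : z ≠ hT.base := fun h => hy₀ (by rw [hy₀def, ← h, hz])
  have hzy : z ≠ y₀ := fun h => hy₀ (by rw [← huu, ← h, hz])
  obtain ⟨v, hv, hvz⟩ := hT.T_trans hy₀ hz0
  have hv1 : v ≠ 1 := by rintro rfl; rw [one_smul] at hvz; exact hzy hvz.symm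
  obtain ⟨k, θ, hcard, hθ1, hθT, hθinj, hθsurj, hθadd, hθmul⟩ := hT.exists_field hy₀ hv hv1
  let F := GaloisField 2 k
  haveI : Fintype F := Fintype.ofFinite F
  have hθ0 : θ 0 = 1 := by
    have := hθadd 0 0
    rwa [add_zero, left_eq_mul] at this
  let ι : OnePoint F → G ⧸ hT.N := fun p => Option.elim p hT.base (fun a => θ a • y₀)
  have hι_inf : ι OnePoint.infty = hT.base := rfl
  have hι_some : ∀ a : F, ι (a : OnePoint F) = θ a • y₀ := fun _ => rfl
  have hι_surj : Function.Surjective ι := by
    intro x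
    by_cases hx : x = hT.base
    · exact ⟨OnePoint.infty, hx.symm⟩
    · obtain ⟨t, ht, htx⟩ := hT.T_trans hy₀ hx
      obtain ⟨a, rfl⟩ := hθsurj t ht
      exact ⟨(a : OnePoint F), htx⟩
  have hne_inf : ∀ a : F, θ a • y₀ ≠ hT.base := fun a h =>
    hy₀ (smul_left_cancel (θ a) (h.trans (hT.smul_T (hθT a)).symm))
  have hι_inj : Function.Injective ι := by
    intro p q h
    rcases p with _ | a <;> rcases q with _ | b
    · rfl
    · exact absurd h.symm (hne_inf b)
    · exact absurd h (hne_inf a)
    · have h' : θ a • y₀ = θ b • y₀ := h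
      have h2 : ((θ b)⁻¹ * θ a) • y₀ = y₀ := by rw [mul_smul, h', inv_smul_smul]
      have := hθinj (inv_mul_eq_one.mp (hT.T_free hy₀ (mul_mem (inv_mem (hθT b)) (hθT a)) h2)).symm
      rw [this]
  have hfaith : ∀ g : G, (∀ x : G ⧸ hT.N, g • x = x) → g = 1 := by
    intro g hg
    exact hT.fix_two hy₀.symm hz0.symm hzy.symm ⟨hg _, hg _⟩ (hg _)
  let match' : SpecialLinearGroup (Fin 2) F → G → Prop := fun A g =>
    ∀ p : OnePoint F, g • ι p = ι (SpecialLinearGroup.toGL A • p)
  have huniq : ∀ A g g', match' A g → match' A g' → g = g' := by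
    intro A g g' h h'
    refine (inv_mul_eq_one.mp (hfaith (g'⁻¹ * g) fun x => ?_)).symm
    obtain ⟨p, rfl⟩ := hι_surj x
    rw [mul_smul, h p, ← h' p, inv_smul_smul]
  have hmul : ∀ A B g h, match' A g → match' B h → match' (A * B) (g * h) := by
    intro A B g h hg hh p
    rw [mul_smul, hh p, hg, map_mul, mul_smul]
  have hone : match' 1 1 := fun p => by rw [one_smul, map_one, one_smul]
  have hinv : ∀ A g, match' A g → match' A⁻¹ g⁻¹ := by
    intro A g h p
    rw [inv_smul_eq_iff, h, map_inv, smul_inv_smul]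
  have toGLe : ∀ (A : SpecialLinearGroup (Fin 2) F) (i j : Fin 2),
      (SpecialLinearGroup.toGL A) i j = A i j := fun _ _ _ => rfl
  -- translations
  have htrans : ∀ c : F, match' (SpecialLinearGroup.transvection (zero_ne_one : (0 : Fin 2) ≠ 1) c) (θ c) := by
    intro c p
    cases p with
    | infty =>
      rw [OnePoint.smul_infty_eq_ite]
      simp [toGLe, SpecialLinearGroup.transvection_coe, Matrix.single, hι_inf, hT.smul_T (hθT c)]
    | coe a =>
      rw [OnePoint.smul_some_eq_ite, hι_some, ← mul_smul, ← hθadd, add_comm c a]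
      simp [toGLe, SpecialLinearGroup.transvection_coe, Matrix.single, hι_some]
  have hchar : ∀ x : F, -x = x := fun x => CharTwo.neg_eq x
  -- the interchanging involution
  let W : SpecialLinearGroup (Fin 2) F := ⟨!![0, 1; 1, 0], by simp [Matrix.det_fin_two, hchar]⟩
  have hWe : ∀ i j : Fin 2, (SpecialLinearGroup.toGL W) i j = (!![0, 1; 1, 0] : Matrix (Fin 2) (Fin 2) F) i j :=
    fun _ _ => rfl
  have hW : match' W u := by
    intro p
    cases p with
    | infty =>
      rw [OnePoint.smul_infty_eq_ite, hι_inf]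
      simp [hWe, hι_some, hθ0, hy₀def]
    | coe a =>
      rw [OnePoint.smul_some_eq_ite, hι_some]
      by_cases ha : a = 0
      · simp [hWe, ha, hθ0, hι_inf, huu]
      · obtain ⟨d, hd, hdmul⟩ := hθmul a ha
        have h1 : θ a = d * v * d⁻¹ := by rw [← hθ1, ← hdmul, mul_one]
        have hdy : d • y₀ = y₀ := hd.2
        have hdy' : d⁻¹ • y₀ = y₀ := inv_smul_eq_iff.mpr hdy.symm
        have h2 : θ a • y₀ = d • z := by rw [h1, mul_smul, mul_smul, hdy', hvz]
        have hdu : u * d * u⁻¹ = d⁻¹ := hT.inverts hy₀.symm ⟨u, hu, rfl⟩ hd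
        have h3 : u • d • z = d⁻¹ • z := by
          rw [← hdu, mul_smul, mul_smul, inv_smul_eq_iff.mpr hz.symm]
        have hv' : θ (a⁻¹) = d⁻¹ * v * d := by
          have h := hdmul a⁻¹
          rw [mul_inv_cancel₀ ha, hθ1] at h
          rw [h]; group
        have h4 : θ (a⁻¹) • y₀ = d⁻¹ • z := by rw [hv', mul_smul, mul_smul, hdy, hvz]
        rw [h2, h3, ← h4]
        simp [hWe, ha, hι_some]
  -- diagonal elements
  have hdiag : ∀ d ∈ hT.Stab2 hT.base y₀, ∃ A, match' A d := by
    intro d hd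
    obtain ⟨a, ha⟩ := hθsurj (d * v * d⁻¹) (hT.conj_mem (hT.stab2_le_N hd) hv)
    have ha0 : a ≠ 0 := by
      rintro rfl
      rw [hθ0] at ha
      exact hv1 (conj_eq_one_iff.mp ha.symm)
    obtain ⟨e, he, hemul⟩ := hθmul a ha0
    have hde : e = d := by
      have h1 : e * v * e⁻¹ = d * v * d⁻¹ := by rw [← ha, ← hθ1, ← hemul, mul_one]
      refine (inv_mul_eq_one.mp (hT.stab_free (t := v) hy₀.symm (mul_mem (inv_mem hd) he) (hT.order_T hv hv1) ?_)).symm
      show _ = _
      calc d⁻¹ * e * v = d⁻¹ * (e * v * e⁻¹) * e := by group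
        _ = d⁻¹ * (d * v * d⁻¹) * e := by rw [h1]
        _ = v * (d⁻¹ * e) := by group
    subst hde
    obtain ⟨r, hr⟩ := isSquare_iff_exists_sq a |>.mp (FiniteField.isSquare_of_char_two (ringChar.eq F 2) a)
    have hr0 : r ≠ 0 := by rintro rfl; exact ha0 (by simpa using hr)
    refine ⟨SpecialLinearGroup.diag2n (zero_ne_one : (0 : Fin 2) ≠ 1) r hr0, fun p => ?_⟩
    cases p with
    | infty =>
      rw [OnePoint.smul_infty_eq_ite, hι_inf]
      simp [toGLe, SpecialLinearGroup.diag2n_coe, hι_inf, show e • hT.base = hT.base from hd.1]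
    | coe b =>
      rw [OnePoint.smul_some_eq_ite, hι_some]
      have : e • θ b • y₀ = θ (a * b) • y₀ := by
        rw [hemul, mul_smul, mul_smul, inv_smul_eq_iff.mpr (show y₀ = e • y₀ from hd.2.symm)]
      rw [this, hr]
      simp [toGLe, SpecialLinearGroup.diag2n_coe, hr0, hι_some, pow_two, mul_comm, mul_left_comm, mul_assoc]
  have hall : ∀ A, ∃ g, match' A g := by
    intro A
    have hA : A ∈ Subgroup.closure (ClassicalSL.elemTransvections (Fin 2) F) := by
      rw [ClassicalSL.closure_elemTransvections]; exact Subgroup.mem_top A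
    induction hA using Subgroup.closure_induction with
    | mem x hx =>
      obtain ⟨i, j, hij, c, rfl⟩ := hx
      fin_cases i <;> fin_cases j
      · exact absurd rfl hij
      · exact ⟨_, htrans c⟩
      · refine ⟨u * θ c * u, ?_⟩
        have h := hmul _ _ _ _ (hmul _ _ _ _ hW (htrans c)) hW
        convert h using 1
        refine Subtype.ext ?_
        have hWW : (W : Matrix (Fin 2) (Fin 2) F) = !![0, 1; 1, 0] := rfl
        rw [Matrix.SpecialLinearGroup.coe_mul, Matrix.SpecialLinearGroup.coe_mul, hWW]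
        ext i j
        fin_cases i <;> fin_cases j <;>
          simp [SpecialLinearGroup.transvection_coe, Matrix.single, Matrix.mul_apply, Matrix.vecMul, dotProduct, Fin.sum_univ_two]
      · exact absurd rfl hij
    | one => exact ⟨1, hone⟩
    | mul a b _ _ ha hb =>
      obtain ⟨g, hg⟩ := ha
      obtain ⟨h, hh⟩ := hb
      exact ⟨_, hmul _ _ _ _ hg hh⟩
    | inv a _ ha =>
      obtain ⟨g, hg⟩ := ha
      exact ⟨_, hinv _ _ hg⟩
  choose Φ hΦ using hall
  let φ : SpecialLinearGroup (Fin 2) F →* G :=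
    MonoidHom.mk' Φ fun A B => huniq _ _ _ (hΦ _) (hmul _ _ _ _ (hΦ A) (hΦ B))
  have hrange : φ.range = ⊤ := by
    rw [eq_top_iff]
    have hu' : u ∈ φ.range := ⟨W, huniq _ _ _ (hΦ W) hW⟩
    have hN : ∀ h ∈ hT.N, h ∈ φ.range := by
      intro h hh
      obtain ⟨d, hd, hdT⟩ := hT.factor hy₀ hh
      obtain ⟨A, hA⟩ := hdiag d hd
      obtain ⟨c, hc⟩ := hθsurj _ hdT
      rw [← mul_inv_cancel_left d h]
      exact mul_mem ⟨A, huniq _ _ _ (hΦ A) hA⟩ (hc ▸ ⟨_, huniq _ _ _ (hΦ _) (htrans c)⟩)
    intro g _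
    by_cases hg : g ∈ hT.N
    · exact hN g hg
    · have hgx : g • hT.base ≠ hT.base := fun h => hg (hT.smul_base.mp h)
      obtain ⟨t, ht, htg⟩ := hT.T_trans hy₀ hgx
      have hm : (t * u)⁻¹ * g ∈ hT.N := by
        rw [← hT.smul_base, mul_smul, inv_smul_eq_iff, mul_smul, ← hy₀def, htg]
      have := mul_mem (mul_mem (hN t (Subgroup.le_normalizer ht)) hu') (hN _ hm)
      rwa [mul_inv_cancel_left] at this
  have hker : φ.ker = Subgroup.center (SpecialLinearGroup (Fin 2) F) := by
    ext A
    constructor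
    · intro hA
      have h : ∀ p : OnePoint F, SpecialLinearGroup.toGL A • p = p := by
        intro p
        have h1 := hΦ A p
        rw [show Φ A = 1 from hA, one_smul] at h1
        exact (hι_inj h1).symm
      have h10 : A 1 0 = 0 := by
        have := h OnePoint.infty
        rw [OnePoint.smul_infty_eq_self_iff] at this
        simpa [toGLe] using this
      have hdet : A 0 0 * A 1 1 = 1 := by
        have := A.2
        rw [Matrix.det_fin_two] at this
        simpa [h10] using this
      have h11 : A 1 1 ≠ 0 := fun e => by simp [e] at hdet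
      have h01 : A 0 1 = 0 := by
        have := h ((0 : F) : OnePoint F)
        rw [OnePoint.smul_some_eq_ite] at this
        simpa [toGLe, h10, h11] using this
      have h00 : A 0 0 = A 1 1 := by
        have := h ((1 : F) : OnePoint F)
        rw [OnePoint.smul_some_eq_ite] at this
        simpa [toGLe, h10, h11, h01, div_eq_iff h11] using this
      rw [Matrix.SpecialLinearGroup.mem_center_iff]
      refine ⟨A 0 0, by rw [Fintype.card_fin, pow_two]; nth_rewrite 2 [h00]; exact hdet, ?_⟩
      ext i j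
      fin_cases i <;> fin_cases j <;> simp [h10, h01, h00]
    · intro hA
      obtain ⟨r, hr, hrA⟩ := Matrix.SpecialLinearGroup.mem_center_iff.mp hA
      have hr0 : r ≠ 0 := by rintro rfl; simp at hr
      have : match' A 1 := by
        intro p
        have e : ∀ i j, (SpecialLinearGroup.toGL A : Matrix (Fin 2) (Fin 2) F) i j =
            Matrix.scalar (Fin 2) r i j := fun i j => (congrFun (congrFun hrA i) j).symm
        cases p with
        | infty => rw [one_smul, OnePoint.smul_infty_eq_ite]; simp [e, hr0]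
        | coe b => rw [one_smul, OnePoint.smul_some_eq_ite]; simp [e, hr0]
      exact huniq _ _ _ (hΦ A) this
  refine ⟨F, inferInstance, inferInstance, ?_, ⟨MulEquiv.symm ?_⟩⟩
  · rw [← Nat.card_eq_fintype_card]; exact hcard
  · exact (QuotientGroup.quotientMulEquivOfEq hker.symm).trans
      (QuotientGroup.quotientKerEquivOfSurjective φ (MonoidHom.range_eq_top.mp hrange))

/-- Let G be a finite group with a Sylow 2-subgroup T that is neither cyclic nor normal, such that the centralizer of every involution is an elementary abelian 2-group. Then G ≅ PSL(2,F) for a finite field F with |F| = |T|. -/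
theorem result {G : Type*} [Group G] [Finite G] (T : Sylow 2 G) (hnc : ¬ IsCyclic (T : Subgroup G)) (hnn : ¬ (T : Subgroup G).Normal) (hC : ∀ t : G, orderOf t = 2 → IsMulCommutative (Subgroup.centralizer ({t} : Set G)) ∧ ∀ c ∈ Subgroup.centralizer ({t} : Set G), c ^ 2 = 1) : ∃ (F : Type) (_ : Field F) (_ : Fintype F), Fintype.card F = Nat.card T ∧ Nonempty (G ≃* Matrix.ProjectiveSpecialLinearGroup (Fin 2) F) := by
  exact key ⟨hnc, hnn, hC⟩

end Cfsg.Agent.S1230
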