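import Cfsg.Statements.S0253
import Cfsg.Agent.Lib.Classical.ProjLine

set_option autoImplicit false
open Cfsg

namespace Cfsg.Agent.S0253

/-- PSL_2(5) is isomorphic to A_5. -/
theorem result {F : Type*} [Field F] [Fintype F] (hF : Fintype.card F = 5) : Nonempty (Matrix.ProjectiveSpecialLinearGroup (Fin 2) F ≃* alternatingGroup (Fin 5)) := by
  classical
  have hN : Nat.card F = 5 := by rw [Nat.card_eq_fintype_card, hF]
  let G := Matrix.ProjectiveSpecialLinearGroup (Fin 2) F
  have hG : Nat.card G = 60 := by
    have h := ProjLine.two_mul_card_psl (F := F)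
    rw [hN, show Nat.gcd 2 (5 - 1) = 2 from rfl] at h
    show Nat.card (Matrix.ProjectiveSpecialLinearGroup (Fin 2) F) = 60
    omega
  haveI hs : IsSimpleGroup G :=
    Matrix.ProjectiveSpecialLinearGroup.rank_two_simple (by omega)
  haveI : Finite G := Nat.finite_of_card_ne_zero (by omega)
  have hX : Nat.card (Projectivization F (Fin 2 → F)) = 6 := by rw [ProjLine.card_eq, hN]
  haveI : Finite (Projectivization F (Fin 2 → F)) := Nat.finite_of_card_ne_zero (by omega)
  haveI := Fintype.ofFinite (Projectivization F (Fin 2 → F))
  let f : G →* Equiv.Perm (Projectivization F (Fin 2 → F)) := Projectivization.PSLAction.toPermHom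
  have hf : Function.Injective f := Matrix.ProjectiveSpecialLinearGroup.toPermHom_injective
  have hA : ∀ g, f g ∈ alternatingGroup (Projectivization F (Fin 2 → F)) := fun g => by
    rw [Equiv.Perm.mem_alternatingGroup]
    rcases (Equiv.Perm.sign.comp f).normal_ker.eq_bot_or_eq_top with h | h
    · exfalso
      have := Nat.card_le_card_of_injective _ ((MonoidHom.ker_eq_bot_iff _).1 h)
      rw [hG, Nat.card_eq_fintype_card] at this
      exact absurd this (by decide)
    · exact MonoidHom.mem_ker.1 (show g ∈ (Equiv.Perm.sign.comp f).ker by rw [h]; trivial)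
  let f' := f.codRestrict _ hA
  have hf' : Function.Injective f' := (MonoidHom.injective_codRestrict f _ hA).2 hf
  haveI := alternatingGroup.isSimpleGroup (α := Projectivization F (Fin 2 → F)) (by omega)
  haveI : Nontrivial (Projectivization F (Fin 2 → F)) :=
    Finite.one_lt_card_iff_nontrivial.1 (by omega)
  have hidx : f'.range.index = 6 := by
    have h1 := Subgroup.card_mul_index f'.range
    have h2 := Subgroup.card_mul_index (alternatingGroup (Projectivization F (Fin 2 → F)))
    rw [alternatingGroup.index_eq_two, Nat.card_perm, hX] at h2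
    rw [← Nat.card_congr (MonoidHom.ofInjective hf').toEquiv, hG] at h1
    rw [show Nat.factorial 6 = 720 from rfl] at h2
    omega
  obtain ⟨φ, hφ⟩ := ProjLine.exists_hom_other_cosets f'.range (fun h => by
    rw [h, Subgroup.index_top] at hidx
    omega)
  refine ProjLine.equiv_alternating (n := 5) (f := φ.comp (MonoidHom.ofInjective hf').toMonoidHom)
    ?_ (hφ.comp (MonoidHom.ofInjective hf').injective) (by rw [hG]; rfl)
  haveI := Fintype.ofFinite (↥(alternatingGroup (Projectivization F (Fin 2 → F))) ⧸ f'.range)
  rw [Nat.card_eq_fintype_card, Fintype.card_subtype_compl, Fintype.card_subtype_eq,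
    ← Nat.card_eq_fintype_card, ← Subgroup.index_eq_card, hidx]

end Cfsg.Agent.S0253
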