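import Cfsg.Statements.S0343
import Cfsg.Agent.Lib.JanThom.Main
import Cfsg.Agent.Lib.JanThom.Fixed
import Cfsg.Agent.Lib.JanThom.TorusFns
import Cfsg.Agent.Lib.JanThom.RowsEight

set_option autoImplicit false
open Cfsg

namespace Cfsg.Agent.S0343

/-- If a finite simple group has abelian Sylow `2`-subgroups and an involution whose centraliser is isomorphic to
`Z₂ × PSL₂(F)` with `|F| = q ≥ 3`, then either `q = 3^(2m+1)` with `m ≥ 1` and the group has the small-Ree order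
`q³(q³+1)(q-1)`, or `q = 4` or `q = 5` and the group is simple of the order of the smallest Janko group. -/
theorem result {G : Type*} [Group G] [Finite G]
    [IsSimpleGroup G] (hab : ∀ P : Sylow 2 G, ∀ a b : P, a * b = b * a)
    {F : Type*} [Field F] [Fintype F] (hq : 3 ≤ Fintype.card F) (t : G) (ht : orderOf t = 2)
    (hC : Nonempty (Subgroup.centralizer ({t} : Set G) ≃* Multiplicative (ZMod 2) × Matrix.ProjectiveSpecialLinearGroup (Fin 2) F)) :
    (∃ m : ℕ, 1 ≤ m ∧ Fintype.card F = 3 ^ (2 * m + 1) ∧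
        Nat.card G = (3 ^ (2 * m + 1)) ^ 3 * ((3 ^ (2 * m + 1)) ^ 3 + 1) * (3 ^ (2 * m + 1) - 1)) ∨
      ((Fintype.card F = 4 ∨ Fintype.card F = 5) ∧ Cfsg.IsJ1 G) := by
  obtain ⟨e⟩ := hC
  rcases JanThom.reduce hab hq t ht ⟨e⟩ with h | ⟨h8, h11⟩
  · exact Or.inr h
  haveI := Fintype.ofFinite G
  obtain ⟨Q, hQ, ⟨E⟩⟩ := JanThom.exists_setup hab ht h8 h11 e
  haveI := E.finite_L
  haveI := Fintype.ofFinite (Matrix.ProjectiveSpecialLinearGroup (Fin 2) F)
  obtain ⟨y, u, hy, hu2, hu1, huτ, huσ, huinv, hyu⟩ := E.exists_isY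
  obtain ⟨T⟩ := E.exists_tfam hy hu2 huτ huσ huinv
    (JanThom.Setup.free_of_setup E hy hu2 hu1 huτ huσ huinv hyu)
  obtain ⟨m, hm, hq', hcard⟩ := T.order_formula
  exact Or.inl ⟨m, hm, by rw [← hQ, hq'], hcard⟩

end Cfsg.Agent.S0343
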