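import Cfsg.Statements.S4593
import Cfsg.Agent.Lib.AbelianSylowAut.Central

set_option autoImplicit false
open Cfsg

namespace Cfsg.Agent.S4593

/-- Symmetrisation over `N(T)/T` of an element of an abelian subgroup `T`. -/
theorem exists_fixed_pow {X : Type*} [Group X] [Finite X] (T : Subgroup X) [IsMulCommutative T]
    {A : Type*} [CommGroup A] (r : X →* A) {a : X} (ha : a ∈ T) :
    ∃ b ∈ T, (∀ n ∈ Subgroup.normalizer (T : Set X), n * b * n⁻¹ = b) ∧
      r b = r a ^ T.relIndex (Subgroup.normalizer (T : Set X)) := by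
  classical
  set N := Subgroup.normalizer (T : Set X) with hN
  letI : CommGroup T := { (inferInstance : Group T) with mul_comm := fun x y => mul_comm' x y }
  letI : Fintype (N ⧸ T.subgroupOf N) := Fintype.ofFinite _
  have hmem : ∀ (n : N) (t : X), t ∈ T → (n : X) * t * (n : X)⁻¹ ∈ T :=
    fun n t ht => (Subgroup.mem_normalizer_iff.1 n.2 t).1 ht
  let conj : N → (T →* T) := fun n =>
    MonoidHom.mk' (fun t => ⟨(n : X) * t * (n : X)⁻¹, hmem n t t.2⟩) (fun x y => Subtype.ext (by
      simp [mul_assoc]))
  let F : N ⧸ T.subgroupOf N → T := fun q => Quotient.liftOn' q (fun n => conj n ⟨a, ha⟩) (by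
    intro x y hxy
    rw [QuotientGroup.leftRel_apply, Subgroup.mem_subgroupOf] at hxy
    apply Subtype.ext
    show (x : X) * a * (x : X)⁻¹ = (y : X) * a * (y : X)⁻¹
    have h := congrArg Subtype.val (mul_comm' (⟨_, hxy⟩ : T) ⟨a, ha⟩)
    simp only [Subgroup.coe_mul, InvMemClass.coe_inv] at h
    calc (x : X) * a * (x : X)⁻¹
        = x * (a * ((x : X)⁻¹ * y)) * (y : X)⁻¹ := by group
      _ = x * ((x : X)⁻¹ * y * a) * (y : X)⁻¹ := by rw [h]
      _ = y * a * (y : X)⁻¹ := by group)
  refine ⟨(∏ q, F q : T), SetLike.coe_mem _, ?_, ?_⟩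
  · intro n hn
    have h : conj ⟨n, hn⟩ (∏ q, F q) = ∏ q, F q := by
      rw [map_prod]
      refine Fintype.prod_equiv (MulAction.toPerm (⟨n, hn⟩ : N)) _ _ ?_
      intro q
      induction q using QuotientGroup.induction_on with
      | _ m =>
        apply Subtype.ext
        show n * ((m : X) * a * (m : X)⁻¹) * n⁻¹ = (n * (m : X)) * a * (n * (m : X))⁻¹
        group
    exact congrArg Subtype.val h
  · show (r.comp T.subtype) (∏ q, F q) = _
    rw [map_prod]
    have h : ∀ q, (r.comp T.subtype) (F q) = r a := by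
      intro q
      induction q using QuotientGroup.induction_on with
      | _ m =>
        show r ((m : X) * a * (m : X)⁻¹) = r a
        rw [map_mul, map_mul, mul_comm (r m), mul_assoc, ← map_mul, mul_inv_cancel, map_one,
          mul_one]
    rw [Finset.prod_congr rfl (fun q _ => h q), Finset.prod_const, Finset.card_univ,
      ← Nat.card_eq_fintype_card]
    rfl

/-- Let G be a finite group with trivial centre and no nontrivial normal subgroup of odd order, whose Sylow 2-subgroups are abelian, and let P be a Sylow 2-subgroup. Every automorphism of G of 2-power order that fixes P elementwise is inner. -/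
theorem result {G : Type*} [Group G] [Finite G] (hZ : Subgroup.center G = ⊥) (hcore : Cfsg.pPrimeCore 2 G = ⊥) (P : Sylow 2 G) (hab : IsMulCommutative (P : Subgroup G))
    (α : MulAut G) (h2 : ∃ j : ℕ, orderOf α = 2 ^ j) (hfix : ∀ x ∈ (P : Subgroup G), α x = x) :
    ∃ g : G, ∀ x : G, α x = g * x * g⁻¹ := by
  classical
  obtain ⟨j, hj⟩ := h2
  haveI : Fact (Nat.Prime 2) := ⟨Nat.prime_two⟩
  set A := Subgroup.zpowers α with hA
  have hcardA : Nat.card A = 2 ^ j := by rw [hA, Nat.card_zpowers, hj]
  haveI : IsMulCommutative A := by rw [hA]; infer_instance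
  have hAfix : ∀ a : A, ∀ x ∈ (P : Subgroup G), (a : MulAut G) x = x := by
    rintro ⟨a, ha⟩ x hx
    obtain ⟨k, rfl⟩ := Subgroup.mem_zpowers_iff.1 ha
    exact (MulAction.fixedBy_subset_fixedBy_zpow G α k) (hfix x hx)
  let X := G ⋊[A.subtype] A
  haveI : Finite X := Finite.of_equiv _ SemidirectProduct.equivProd.symm
  let T0 : Subgroup X :=
    { carrier := {x | x.left ∈ (P : Subgroup G)}
      one_mem' := one_mem (P : Subgroup G)
      mul_mem' := fun {x y} hx hy => by
        show x.left * (x.right : MulAut G) y.left ∈ (P : Subgroup G)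
        rw [hAfix x.right _ hy]; exact mul_mem hx hy
      inv_mem' := fun {x} hx => by
        show ((x.right⁻¹ : A) : MulAut G) x.left⁻¹ ∈ (P : Subgroup G)
        rw [hAfix _ _ (inv_mem hx)]; exact inv_mem hx }
  haveI hT0ab : IsMulCommutative T0 := by
    refine ⟨⟨fun x y => ?_⟩⟩
    apply Subtype.ext
    apply SemidirectProduct.ext
    · show x.1.left * (x.1.right : MulAut G) y.1.left = y.1.left * (y.1.right : MulAut G) x.1.left
      rw [hAfix _ _ y.2, hAfix _ _ x.2]
      exact congrArg Subtype.val (mul_comm' (⟨_, x.2⟩ : (P : Subgroup G)) ⟨_, y.2⟩)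
    · exact mul_comm' x.1.right y.1.right
  have hcardT : Nat.card T0 = Nat.card (P : Subgroup G) * Nat.card A := by
    rw [← Nat.card_prod]
    exact Nat.card_congr
      { toFun := fun x => (⟨x.1.left, x.2⟩, x.1.right)
        invFun := fun q => ⟨⟨q.1.1, q.2⟩, q.1.2⟩
        left_inv := fun x => rfl
        right_inv := fun q => rfl }
  have hidx : T0.index = (P : Subgroup G).index := by
    have h1 := T0.card_mul_index
    have h2 : Nat.card X = Nat.card G * Nat.card A := SemidirectProduct.card
    rw [hcardT, h2, ← (P : Subgroup G).card_mul_index, mul_right_comm] at h1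
    exact Nat.eq_of_mul_eq_mul_right Nat.card_pos
      (Nat.eq_of_mul_eq_mul_left (Nat.card_pos (α := (P : Subgroup G)))
        (by rw [← mul_assoc, ← mul_assoc]; exact h1))
  have hTp : IsPGroup 2 T0 := by
    obtain ⟨e, he⟩ := IsPGroup.iff_card.1 P.2
    exact IsPGroup.of_card (n := e + j) (by rw [hcardT, he, hcardA, pow_add])
  let T : Sylow 2 X := hTp.toSylow (by rw [hidx]; exact P.not_dvd_index)
  have hOX : Cfsg.pPrimeCore 2 X = ⊥ := by
    set M := Cfsg.pPrimeCore 2 X
    have hMc : (Nat.card M).Coprime 2 := Cfsg.Agent.PBasic.pPrimeCore_coprime 2 X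
    haveI : M.Normal := Cfsg.Agent.FittingCores.pPrimeCore_normal 2
    have hr : ∀ x ∈ M, x.right = 1 := by
      intro x hx
      rw [← orderOf_eq_one_iff]
      refine Nat.eq_one_of_dvd_coprimes (hMc.pow_right j) ?_ (hcardA ▸ orderOf_dvd_natCard x.right)
      exact dvd_trans (orderOf_map_dvd SemidirectProduct.rightHom x)
        (Subgroup.orderOf_dvd_natCard M hx)
    set M' := M.comap (SemidirectProduct.inl : G →* X)
    have hM' : M' ≤ Cfsg.pPrimeCore 2 G := by
      refine Cfsg.Agent.PBasic.le_pPrimeCore (Subgroup.Normal.comap inferInstance _) ?_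
      refine Nat.Coprime.coprime_dvd_left ?_ hMc
      exact Subgroup.card_comap_dvd_of_injective _ _ SemidirectProduct.inl_injective
    rw [hcore] at hM'
    rw [eq_bot_iff]
    intro x hx
    have e : x = SemidirectProduct.inl x.left := by
      apply SemidirectProduct.ext
      · rfl
      · exact hr x hx
    have h1 : x.left ∈ M' := by
      show SemidirectProduct.inl x.left ∈ M
      rw [← e]; exact hx
    rw [Subgroup.mem_bot, e, Subgroup.mem_bot.1 (hM' h1), map_one]
  let aX : X := SemidirectProduct.inr ⟨α, Subgroup.mem_zpowers α⟩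
  letI : CommGroup A := { (inferInstance : Group A) with mul_comm := fun x y => mul_comm' x y }
  obtain ⟨b, hbT, hbfix, hbr⟩ := exists_fixed_pow T0 (A := A) SemidirectProduct.rightHom
    (a := aX) (one_mem (P : Subgroup G))
  set m := T0.relIndex (Subgroup.normalizer (T0 : Set X))
  have hm : m.Coprime 2 := by
    rw [Nat.coprime_comm, Nat.prime_two.coprime_iff_not_dvd]
    intro h
    exact P.not_dvd_index (hidx ▸ dvd_trans h (Subgroup.relIndex_dvd_index_of_le
      Subgroup.le_normalizer))
  obtain ⟨k, hk⟩ := exists_pow_eq_self_of_coprime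
    (x := SemidirectProduct.rightHom aX) (n := m) ((hm.pow_right j).coprime_dvd_right (by
      rw [← hcardA]; exact orderOf_dvd_natCard _))
  have hc : b ^ k ∈ Subgroup.center X :=
    Cfsg.Agent.AbelianSylowAut.mem_center_of_fixed X hOX T hT0ab (b ^ k) (pow_mem hbT k)
      (fun n hn => by rw [← conj_pow, hbfix n hn])
  have hright : (b ^ k).right = ⟨α, Subgroup.mem_zpowers α⟩ := by
    have h := map_pow (SemidirectProduct.rightHom : X →* A) b k
    rw [hbr, hk] at h
    exact h
  refine ⟨(b ^ k).left⁻¹, fun x => ?_⟩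
  have h := congrArg SemidirectProduct.left
    (Subgroup.mem_center_iff.1 hc (SemidirectProduct.inl x))
  have h' : x * (b ^ k).left = (b ^ k).left * α x := by
    rw [SemidirectProduct.mul_left, SemidirectProduct.mul_left, hright] at h
    simpa [MulAut.one_apply] using h
  rw [inv_inv, mul_assoc, h', inv_mul_cancel_left]

end Cfsg.Agent.S4593
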