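import Cfsg.Statements.S3704
import Mathlib.GroupTheory.GroupAction.MultipleTransitivity
import Mathlib.LinearAlgebra.Matrix.NonsingularInverse
import Mathlib.GroupTheory.GroupAction.Quotient
import Mathlib.Data.Set.Card

set_option autoImplicit false
open Cfsg

namespace Cfsg.Agent.S3704

open MulAction Matrix

/-- Let G be a finite group acting faithfully and 2-transitively on a finite set Ω of size n, and let H be a subgroup of index n in G which is not transitive on Ω and fixes no point of Ω. Then H has exactly two orbits on Ω. -/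
theorem result {G Ω : Type*} [Group G] [Finite G] [MulAction G Ω] [FaithfulSMul G Ω] [Finite Ω] (h2 : MulAction.IsMultiplyPretransitive G Ω 2) (H : Subgroup G) (hidx : H.index = Nat.card Ω) (hnt : ¬ MulAction.IsPretransitive H Ω) (hfix : ∀ a : Ω, ∃ h : H, h • a ≠ a) : Nat.card (MulAction.orbitRel.Quotient H Ω) = 2 := by
  classical
  have := Fintype.ofFinite Ω
  have := Fintype.ofFinite G
  set k := Nat.card (orbitRel.Quotient H Ω) with hk
  have hk2 : 2 ≤ k := by
    by_contra h
    apply hnt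
    have hsub : Subsingleton (orbitRel.Quotient H Ω) := Finite.card_le_one_iff_subsingleton.1 (by omega)
    refine ⟨fun x y => ?_⟩
    have h2 : (Quotient.mk'' y : orbitRel.Quotient H Ω) = Quotient.mk'' x := Subsingleton.elim _ _
    exact Quotient.exact' h2
  by_contra hne
  have hk3 : 2 < Fintype.card (orbitRel.Quotient H Ω) := by
    rw [← Nat.card_eq_fintype_card]; omega
  obtain ⟨q₁, q₂, q₃, h12, h13, h23⟩ := Fintype.two_lt_card_iff.1 hk3
  have h2t : ∀ {a b c d : Ω}, a ≠ b → c ≠ d → ∃ g : G, g • a = c ∧ g • b = d :=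
    fun ha hc => is_two_pretransitive_iff.1 h2 ha hc
  have hpre : IsPretransitive G Ω := by
    have := h2
    exact isPretransitive_of_is_two_pretransitive
  obtain ⟨e⟩ : Nonempty (Ω ≃ G ⧸ H) := by
    refine Fintype.card_eq.1 ?_
    rw [← Nat.card_eq_fintype_card, ← Nat.card_eq_fintype_card, ← hidx]
    rfl
  -- the orbit of `g⁻¹ • x` for the coset `g H`
  let cls : Ω → G ⧸ H → orbitRel.Quotient H Ω := fun x c =>
    Quotient.liftOn' c (fun g => (Quotient.mk'' (g⁻¹ • x) : orbitRel.Quotient H Ω)) (by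
      intro g g' h
      rw [QuotientGroup.leftRel_apply] at h
      refine Quotient.sound' ⟨⟨g⁻¹ * g', h⟩, ?_⟩
      show (g⁻¹ * g') • g'⁻¹ • x = g⁻¹ • x
      rw [smul_smul, mul_inv_cancel_right])
  have hcls : ∀ (g : G) (x : Ω) (c : G ⧸ H), cls (g • x) (g • c) = cls x c := by
    intro g x c
    induction c using QuotientGroup.induction_on with
    | H a =>
      show (Quotient.mk'' ((g * a)⁻¹ • g • x) : orbitRel.Quotient H Ω) = Quotient.mk'' (a⁻¹ • x)
      rw [smul_smul, _root_.mul_inv_rev, inv_mul_cancel_right]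
  let A : orbitRel.Quotient H Ω → Matrix Ω Ω ℚ := fun q =>
    Matrix.of fun x d => if cls x (e d) = q then 1 else 0
  -- pair counts
  let cnt : orbitRel.Quotient H Ω → orbitRel.Quotient H Ω → Ω → Ω → ℕ := fun q q' x y =>
    (Finset.univ.filter fun c : G ⧸ H => cls x c = q ∧ cls y c = q').card
  have hcnt : ∀ (q q' : orbitRel.Quotient H Ω) (g : G) (x y : Ω),
      cnt q q' (g • x) (g • y) = cnt q q' x y := by
    intro q q' g x y
    refine (Finset.card_equiv (MulAction.toPerm g) fun c => ?_).symm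
    simp [hcls]
  have hmul : ∀ q q' x y, (A q * (A q')ᵀ) x y = (cnt q q' x y : ℚ) := by
    intro q q' x y
    simp only [Matrix.mul_apply, Matrix.transpose_apply, A, Matrix.of_apply, cnt]
    rw [Finset.natCast_card_filter]
    rw [← e.sum_comp]
    refine Finset.sum_congr rfl fun d _ => ?_
    split_ifs <;> simp_all
  obtain ⟨b₀, c₀, hbc⟩ : ∃ b c : Ω, b ≠ c := by
    obtain ⟨x₁, rfl⟩ := Quotient.mk''_surjective q₁
    obtain ⟨x₂, rfl⟩ := Quotient.mk''_surjective q₂
    exact ⟨x₁, x₂, fun h => h12 (by rw [h])⟩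
  let J : Matrix Ω Ω ℚ := Matrix.of fun _ _ => 1
  have hform : ∀ q q', A q * (A q')ᵀ = ((cnt q q' b₀ b₀ : ℚ) - (cnt q q' b₀ c₀ : ℚ)) • (1 : Matrix Ω Ω ℚ)
      + (cnt q q' b₀ c₀ : ℚ) • J := by
    intro q q'
    ext x y
    rw [hmul]
    simp only [Matrix.add_apply, Matrix.smul_apply, J, Matrix.of_apply, smul_eq_mul, mul_one]
    rcases eq_or_ne x y with rfl | hxy
    · rw [Matrix.one_apply_eq, mul_one, sub_add_cancel]
      obtain ⟨g, rfl⟩ := exists_smul_eq G b₀ x
      rw [hcnt]
    · rw [Matrix.one_apply_ne hxy, mul_zero, zero_add]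
      obtain ⟨g, h1, h2'⟩ := h2t hbc hxy
      rw [← h1, ← h2', hcnt]
  -- column sums of `A q` are the orbit size
  let osize : orbitRel.Quotient H Ω → ℕ := fun q =>
    (Finset.univ.filter fun x : Ω => (Quotient.mk'' x : orbitRel.Quotient H Ω) = q).card
  have hcol : ∀ (q : orbitRel.Quotient H Ω) (c : G ⧸ H),
      (Finset.univ.filter fun x : Ω => cls x c = q).card = osize q := by
    intro q c
    induction c using QuotientGroup.induction_on with
    | H a =>
      refine Finset.card_equiv (MulAction.toPerm a⁻¹) fun x => ?_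
      simp only [Finset.mem_filter, Finset.mem_univ, true_and, MulAction.toPerm_apply]
      rfl
  have hpos : ∀ q, 0 < osize q := by
    intro q
    obtain ⟨x, rfl⟩ := Quotient.mk''_surjective q
    exact Finset.card_pos.2 ⟨x, by simp⟩
  have hlt : ∀ q, osize q < Fintype.card Ω := by
    intro q
    obtain ⟨q', hq'⟩ : ∃ q', q' ≠ q := by
      rcases eq_or_ne q₁ q with h | h
      · exact ⟨q₂, fun h' => h12 (h.trans h'.symm)⟩
      · exact ⟨q₁, h⟩
    obtain ⟨x, rfl⟩ := Quotient.mk''_surjective q'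
    exact Finset.card_lt_univ_of_notMem (x := x) (by simp [hq'])
  have hsum : ∀ q, ∑ x : Ω, cnt q q x x = Fintype.card Ω * osize q := by
    intro q
    calc ∑ x : Ω, cnt q q x x
        = ∑ x : Ω, ∑ c : G ⧸ H, if cls x c = q then 1 else 0 := by
          refine Finset.sum_congr rfl fun x _ => ?_
          simp only [cnt, and_self]
          rw [Finset.card_filter]
      _ = ∑ c : G ⧸ H, ∑ x : Ω, if cls x c = q then 1 else 0 := Finset.sum_comm
      _ = ∑ c : G ⧸ H, osize q := Finset.sum_congr rfl fun c _ => by rw [← hcol q c, Finset.card_filter]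
      _ = Fintype.card Ω * osize q := by
          rw [Finset.sum_const, Finset.card_univ, smul_eq_mul, Fintype.card_congr e.symm]
  -- no point pair lies together in all blocks
  have hlam : ∀ q, cnt q q b₀ c₀ < cnt q q b₀ b₀ := by
    intro q
    refine lt_of_le_of_ne ?_ fun heq => ?_
    · apply Finset.card_le_card
      intro c
      simp only [Finset.mem_filter, Finset.mem_univ, true_and]
      exact fun h => ⟨h.1, h.1⟩
    have hall : ∀ x y, cnt q q x y = cnt q q b₀ b₀ := by
      intro x y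
      rcases eq_or_ne x y with rfl | hxy
      · obtain ⟨g, rfl⟩ := exists_smul_eq G b₀ x
        rw [hcnt]
      · obtain ⟨g, h1, h2'⟩ := h2t hbc hxy
        rw [← h1, ← h2', hcnt, heq]
    obtain ⟨x, hx⟩ := Quotient.mk''_surjective q
    have hxq : cls x (QuotientGroup.mk (1 : G)) = q := by
      show (Quotient.mk'' ((1 : G)⁻¹ • x) : orbitRel.Quotient H Ω) = q
      rw [inv_one, one_smul, hx]
    have hfull : ∀ y, cls y (QuotientGroup.mk (1 : G)) = q := by
      intro y
      have hsub : (Finset.univ.filter fun c : G ⧸ H => cls x c = q ∧ cls y c = q) =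
          Finset.univ.filter fun c : G ⧸ H => cls x c = q ∧ cls x c = q := by
        apply Finset.eq_of_subset_of_card_le
        · intro c
          simp only [Finset.mem_filter, Finset.mem_univ, true_and]
          exact fun h => ⟨h.1, h.1⟩
        · exact ((hall x x).trans (hall x y).symm).le
      have hm : QuotientGroup.mk (1 : G) ∈ Finset.univ.filter fun c : G ⧸ H => cls x c = q ∧ cls x c = q := by
        simp [hxq]
      rw [← hsub] at hm
      exact (Finset.mem_filter.1 hm).2.2
    have := hcol q (QuotientGroup.mk (1 : G))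
    rw [Finset.filter_eq_self.2 (fun y _ => hfull y), Finset.card_univ] at this
    exact absurd this (hlt q).ne'
  have hdiag0 : cnt q₁ q₂ b₀ b₀ = 0 := by
    rw [Finset.card_eq_zero, Finset.filter_eq_empty_iff]
    rintro c - ⟨h1, h2'⟩
    exact h12 (h1 ▸ h2')
  have hAJ : A q₁ * J = (osize q₁ : ℚ) • J := by
    ext x y
    simp only [Matrix.mul_apply, J, Matrix.of_apply, mul_one, Matrix.smul_apply, smul_eq_mul, A]
    rw [← e.symm.sum_comp]
    simp only [Equiv.apply_symm_apply]
    rw [Finset.sum_boole]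
    have hd : cnt q₁ q₁ x x = osize q₁ := by
      have hconst : ∀ z, cnt q₁ q₁ z z = cnt q₁ q₁ x x := fun z => by
        obtain ⟨g, rfl⟩ := exists_smul_eq G x z
        rw [hcnt]
      have h := hsum q₁
      simp only [hconst, Finset.sum_const, Finset.card_univ, smul_eq_mul] at h
      exact Nat.eq_of_mul_eq_mul_left (Fintype.card_pos_iff.2 ⟨x⟩) h
    rw [← hd]
    simp [cnt]
  have hf1 := hform q₁ q₁
  have hf2 := hform q₁ q₂
  rw [hdiag0, Nat.cast_zero, zero_sub] at hf2
  set a : ℚ := (osize q₁ : ℚ) with ha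
  set c : ℚ := (cnt q₁ q₁ b₀ b₀ : ℚ) - (cnt q₁ q₁ b₀ c₀ : ℚ) with hc
  set l : ℚ := (cnt q₁ q₁ b₀ c₀ : ℚ) with hl
  set μ : ℚ := (cnt q₁ q₂ b₀ c₀ : ℚ) with hμ
  have hc0 : c ≠ 0 := by
    rw [hc, sub_ne_zero, hl]
    exact_mod_cast (hlam q₁).ne'
  have ha0 : a ≠ 0 := by
    rw [ha]
    exact_mod_cast (hpos q₁).ne'
  -- `A q₁` is invertible
  have hinv : A q₁ * (c⁻¹ • ((A q₁)ᵀ - (l / a) • J)) = 1 := by
    rw [Matrix.mul_smul, Matrix.mul_sub, Matrix.mul_smul, hAJ, hf1, smul_smul, div_mul_cancel₀ _ ha0,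
      add_sub_cancel_right, smul_smul, inv_mul_cancel₀ hc0, one_smul]
  have hleft := mul_eq_one_comm.1 hinv
  have hlin : A q₁ * (c • (A q₂)ᵀ + μ • (A q₁)ᵀ - ((μ * (c + l)) / a) • J) = 0 := by
    rw [Matrix.mul_sub, Matrix.mul_add, Matrix.mul_smul, Matrix.mul_smul, Matrix.mul_smul, hAJ, hf1,
      hf2, smul_smul, div_mul_cancel₀ _ ha0]
    ext x y
    simp only [Matrix.add_apply, Matrix.sub_apply, Matrix.smul_apply, Matrix.zero_apply, smul_eq_mul,
      Matrix.neg_apply]
    ring
  have hzero := congrArg ((c⁻¹ • ((A q₁)ᵀ - (l / a) • J)) * ·) hlin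
  simp only [← Matrix.mul_assoc, hleft, Matrix.one_mul, Matrix.mul_zero] at hzero
  -- a position in each of the three orbits
  have hentry : ∀ q, ∃ d x, cls x (e d) = q := by
    intro q
    obtain ⟨x, hx⟩ := Quotient.mk''_surjective q
    refine ⟨e.symm (QuotientGroup.mk (1 : G)), x, ?_⟩
    rw [e.apply_symm_apply]
    show (Quotient.mk'' ((1 : G)⁻¹ • x) : orbitRel.Quotient H Ω) = q
    rw [inv_one, one_smul, hx]
  obtain ⟨d, x, hdx⟩ := hentry q₃
  have h3 := congrFun (congrFun hzero d) x
  simp [A, J, hdx, h13.symm, h23.symm] at h3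
  obtain ⟨d', x', hdx'⟩ := hentry q₂
  have h4 := congrFun (congrFun hzero d') x'
  simp [A, J, hdx', h12.symm] at h4
  rcases h3 with (h3 | h3) | h3
  · simp [h3, hc0] at h4
  · simp [h3, hc0] at h4
  · exact ha0 h3

end Cfsg.Agent.S3704
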