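import Cfsg.Statements.S0502
import Cfsg.Agent.Lib.Classification.ElemAb


set_option autoImplicit false
open Cfsg

namespace Cfsg.Agent.S0502

/-- the adjacency relation -/
abbrev Adj {P : Type*} [Group P] (A B : Subgroup P) : Prop :=
  IsKleinFour A ∧ IsKleinFour B ∧ ∀ a ∈ A, ∀ b ∈ B, a * b = b * a

theorem path_to_normal {P : Type*} [Group P] [Finite P] (E : Subgroup P) [E.Normal]
    (hE : IsElementaryAbelian 2 E) (hE8 : 8 ≤ Nat.card E) {U : Subgroup P} (hU : IsKleinFour U) :
    ∃ V, V ≤ E ∧ IsKleinFour V ∧ Relation.ReflTransGen Adj U V := by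
  obtain ⟨hUe, hUc⟩ := ElemAb.isKleinFour_iff.1 hU
  by_cases hUE : U ≤ E
  · exact ⟨U, hUE, hU, .refl⟩
  obtain ⟨u, hu, huE⟩ := SetLike.not_le_iff_exists.1 hUE
  have hu1 : u ≠ 1 := fun h => huE (h ▸ one_mem E)
  set K := E ⊓ Subgroup.centralizer {u} with hK
  have hKe : IsElementaryAbelian 2 K := ElemAb.of_le hE inf_le_left
  have hu2 : u ^ 2 = 1 := hUe.2 u hu
  have hEK := ElemAb.card_le_sq_fixed hE (v := u) (by rw [Subgroup.normalizer_eq_top]; trivial)
    (by rw [← sq, hu2]; exact one_mem _)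
  rw [← hK] at hEK
  have hK3 : 3 ≤ Nat.card K := by nlinarith
  obtain ⟨hzu, hzu2⟩ := ElemAb.zpowers_inv hu2 hu1
  obtain ⟨w, hw, hwu⟩ := ElemAb.exists_mem_not_mem_of_card_lt (E := U) (V := Subgroup.zpowers u) (by omega)
  have hwcomm : w * u = u * w := ElemAb.comm hUe hw hu
  have hKL := ElemAb.card_le_sq_fixed hKe (v := w) (ElemAb.le_normalizer_centralizer_inf hwcomm)
    (by rw [← sq, hUe.2 w hw]; exact one_mem _)
  obtain ⟨e, ⟨heK, hew⟩, he1⟩ := ElemAb.exists_mem_not_mem_of_card_lt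
    (E := K ⊓ Subgroup.centralizer {w}) (V := (⊥ : Subgroup P)) (by rw [Subgroup.card_bot]; nlinarith)
  have he1' : e ≠ 1 := fun h => he1 (Subgroup.mem_bot.2 h)
  have heE : e ∈ E := heK.1
  have heu : e * u = u * e := Subgroup.mem_centralizer_singleton_iff.1 heK.2
  have hew' : e * w = w * e := Subgroup.mem_centralizer_singleton_iff.1 hew
  have hze := ElemAb.zpowers_inv (hE.2 e heE) he1'
  have hue : u ∉ Subgroup.zpowers e := fun h => huE ((Subgroup.zpowers_le.2 heE) h)
  have hU' := ElemAb.adjoin hze.1 hu2 (ElemAb.le_centralizer_singleton (e := u) (fun x hx => by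
    obtain ⟨n, rfl⟩ := Subgroup.mem_zpowers_iff.1 hx
    exact Commute.zpow_left heu n) |> fun h x hx => Subgroup.mem_centralizer_singleton_iff.1 (h hx)) hue
  set U' := Subgroup.zpowers e ⊔ Subgroup.zpowers u with hU'def
  have hU'4 : IsKleinFour U' := ElemAb.isKleinFour_iff.2 ⟨hU'.1, by rw [hU'.2, hze.2]⟩
  have hUgen : U ≤ Subgroup.centralizer (U' : Set P) := by
    intro x hx
    refine Subgroup.mem_centralizer_iff.2 fun y hy => ?_
    have hle : U' ≤ Subgroup.centralizer {x} := by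
      refine sup_le (Subgroup.zpowers_le.2 ?_) (Subgroup.zpowers_le.2 ?_)
      · refine Subgroup.mem_centralizer_singleton_iff.2 ?_
        obtain ⟨hzw, hzw2⟩ := ElemAb.adjoin hzu (hUe.2 w hw)
          (fun a ha => ElemAb.comm hUe (Subgroup.zpowers_le.2 hu ha) hw) hwu
        have heq : Subgroup.zpowers u ⊔ Subgroup.zpowers w = U :=
          Subgroup.eq_of_le_of_card_ge (sup_le (Subgroup.zpowers_le.2 hu) (Subgroup.zpowers_le.2 hw))
            (by rw [hzw2, hzu2, hUc])
        have : U ≤ Subgroup.centralizer {e} := heq ▸ sup_le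
          (Subgroup.zpowers_le.2 (Subgroup.mem_centralizer_singleton_iff.2 heu.symm))
          (Subgroup.zpowers_le.2 (Subgroup.mem_centralizer_singleton_iff.2 hew'.symm))
        exact (Subgroup.mem_centralizer_singleton_iff.1 (this hx)).symm
      · exact Subgroup.mem_centralizer_singleton_iff.2 (ElemAb.comm hUe hu hx)
    exact Subgroup.mem_centralizer_singleton_iff.1 (hle hy)
  obtain ⟨V, heV, hVK, hVc⟩ := ElemAb.exists_le_card hKe (Subgroup.zpowers_le.2 heK) 2
    (by rw [hze.2]; norm_num) (by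
      obtain ⟨n, hn⟩ := ElemAb.card_eq_pow hKe
      rw [hn] at hK3 ⊢
      rcases n with - | - | n
      · omega
      · omega
      · exact Nat.pow_le_pow_right (by norm_num) (by omega))
  have hV4 : IsKleinFour V := ElemAb.isKleinFour_iff.2 ⟨ElemAb.of_le hKe hVK, hVc⟩
  refine ⟨V, hVK.trans inf_le_left, hV4, .head ⟨hU, hU'4, fun a ha b hb => ?_⟩ (.single ⟨hU'4, hV4, ?_⟩)⟩
  · exact (Subgroup.mem_centralizer_iff.1 (hUgen ha) b hb).symm
  · have hle : U' ≤ Subgroup.centralizer (V : Set P) := by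
      refine ElemAb.le_centralizer_sup ?_ fun d hd => Subgroup.mem_centralizer_singleton_iff.1 (hVK hd).2
      exact Subgroup.zpowers_le.2 (Subgroup.mem_centralizer_iff.2 fun d hd => ElemAb.comm hE (hVK hd).1 heE)
    intro a ha b hb
    exact (Subgroup.mem_centralizer_iff.1 (hle ha) b hb).symm


/-- If a finite 2-group has a normal elementary abelian subgroup of order at least 8, then any two of its Klein
four-subgroups are joined by a chain of Klein four-subgroups with consecutive members commuting elementwise. -/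
theorem result {P : Type*} [Group P] [Finite P] (hP : IsPGroup 2 P)
    (E : Subgroup P) [E.Normal] (hE : IsMulCommutative E) (hE2 : ∀ e ∈ E, e ^ 2 = 1) (hE8 : 8 ≤ Nat.card E) :
    Cfsg.IsFourConnected P := by
  intro U V hU hV
  have hEe : IsElementaryAbelian 2 E := ⟨hE, hE2⟩
  obtain ⟨A, hAE, hA, pU⟩ := path_to_normal E hEe hE8 hU
  obtain ⟨B, hBE, hB, pV⟩ := path_to_normal E hEe hE8 hV
  haveI : Std.Symm (Adj (P := P)) := ⟨fun _ _ h => ⟨h.2.1, h.1, fun a ha b hb => (h.2.2 b hb a ha).symm⟩⟩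
  refine (pU.trans (.single ⟨hA, hB, fun a ha b hb => ElemAb.comm hEe (hAE ha) (hBE hb)⟩)).trans ?_
  exact Std.Symm.symm _ _ pV

end Cfsg.Agent.S0502
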