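import Cfsg.Statements.S1059
import Cfsg.Agent.Lib.Lie.OrderG2
-- import your own Cfsg.Agent.* helpers here

set_option autoImplicit false
open Cfsg

namespace Cfsg.Agent.S1059

/-- `|G₂(q)| = q⁶ (q² - 1)(q⁶ - 1)`. -/
theorem result {F : Type*} [Field F] [Fintype F] {q : ℕ} (hq : Fintype.card F = q) : Nat.card ↥(Cfsg.Lie.chevG2.group F) = q ^ 6 * (q ^ 2 - 1) * (q ^ 6 - 1) := by
  have h := Chev.Tab.card_group_formula (F := F) (T := Chev.G2Data.tab) ⟨Chev.G2Data.good, by decide +kernel⟩ hq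
    Chev.G2Data.torOK Chev.G2Data.chainOK Chev.G2Data.polyOK
  simp only [Chev.G2Data.cert, List.map_cons, List.map_nil, List.prod_cons, List.prod_nil, mul_one,
    pow_zero, pow_one, one_mul, ← mul_assoc] at h
  exact h

end Cfsg.Agent.S1059
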