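import Cfsg.Statements.S2475
import Cfsg.Agent.Lib.Recog.SL2Orders
-- import your own Cfsg.Agent.* helpers here

set_option autoImplicit false
open Cfsg

namespace Cfsg.Agent.S2475

/-- The set of element orders of PSL(2,q): let F be a finite field of characteristic p with q ≥ 4 elements and d = gcd(2, q − 1). The orders of elements of PSL(2,F) are exactly the divisors of p, of (q − 1)/d and of (q + 1)/d. -/
theorem result {F : Type*} [Field F] [Fintype F] (p : ℕ) [Fact p.Prime] [CharP F p] (h4 : 4 ≤ Fintype.card F) :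
    Set.range (orderOf : Matrix.ProjectiveSpecialLinearGroup (Fin 2) F → ℕ) =
      {m : ℕ | m ∣ p ∨ m ∣ (Fintype.card F - 1) / Nat.gcd 2 (Fintype.card F - 1) ∨ m ∣ (Fintype.card F + 1) / Nat.gcd 2 (Fintype.card F - 1)} := by
  have hp := (Fact.out : p.Prime)
  have e1 : Cfsg.Agent.SL2Orders.halfPred (Fintype.card F) =
      (Fintype.card F - 1) / Nat.gcd 2 (Fintype.card F - 1) := by
    rw [Cfsg.Agent.SL2Orders.halfPred, Nat.gcd_comm]
  have e2 : Cfsg.Agent.SL2Orders.halfSucc (Fintype.card F) =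
      (Fintype.card F + 1) / Nat.gcd 2 (Fintype.card F - 1) := by
    rw [Cfsg.Agent.SL2Orders.halfSucc, Nat.gcd_comm (Fintype.card F + 1)]
    congr 1
    rw [show Fintype.card F + 1 = (Fintype.card F - 1) + 2 by omega, Nat.gcd_add_self_right]
  rw [← e1, ← e2]
  ext m
  constructor
  · rintro ⟨g, rfl⟩
    rcases Cfsg.Agent.SL2Orders.psl_cases p g with h | h | h
    · exact Or.inl (orderOf_dvd_of_pow_eq_one h)
    · exact Or.inr (Or.inl (orderOf_dvd_of_pow_eq_one h))
    · exact Or.inr (Or.inr (orderOf_dvd_of_pow_eq_one h))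
  · have key : ∀ g : Matrix.ProjectiveSpecialLinearGroup (Fin 2) F, m ∣ orderOf g →
        m ∈ Set.range (orderOf : Matrix.ProjectiveSpecialLinearGroup (Fin 2) F → ℕ) := fun g hm =>
      ⟨g ^ (orderOf g / m), orderOf_pow_orderOf_div (orderOf_pos g).ne' hm⟩
    rintro (h | h | h)
    · obtain ⟨g, hg⟩ := Cfsg.Agent.SL2Orders.exists_orderOf_char (F := F) p
      exact key g (hg ▸ h)
    · obtain ⟨g, hg⟩ := Cfsg.Agent.SL2Orders.exists_orderOf_split (F := F) (by omega)
      exact key g (hg ▸ h)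
    · obtain ⟨g, hg⟩ := Cfsg.Agent.SL2Orders.exists_orderOf_nonsplit (F := F) p
      exact key g (hg ▸ h)

end Cfsg.Agent.S2475
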