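import Cfsg.Statements.S2518
import Cfsg.Agent.Lib.PrimeGraphG2.Model
import Cfsg.Agent.S2475
import Mathlib.FieldTheory.Finite.GaloisField
-- import your own Cfsg.Agent.* helpers here

set_option autoImplicit false
open Cfsg

namespace Cfsg.Agent.S2518

open Cfsg.Lie Cfsg.Agent Matrix

theorem group_equiv (D : ChevalleyDatum) {F K : Type*} [Field F] [Field K] (f : F ≃+* K) :
    Nonempty (↥(D.group F) ≃* ↥(D.group K)) := by
  have hmap : ∀ (r : Fin D.nroots) (t : F), (D.xMat F r t).map f = D.xMat K r (f t) := by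
    intro r t
    ext a b
    rcases b with b | b <;> rcases a with a | a <;>
      simp only [Matrix.map_apply, ChevalleyDatum.xMat, Matrix.of_apply] <;>
      (repeat' split) <;> simp [map_list_sum, List.map_map, Function.comp_def]
  let φ : GL D.Idx F ≃* GL D.Idx K :=
    Units.mapEquiv (f.mapMatrix : Matrix D.Idx D.Idx F ≃+* _).toMulEquiv
  have hφ : (D.group F).map φ.toMonoidHom = D.group K := by
    refine le_antisymm (Subgroup.map_le_iff_le_comap.2 ((Subgroup.closure_le _).2 ?_))
      ((Subgroup.closure_le _).2 ?_)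
    · rintro x ⟨r, t, hx⟩
      refine Subgroup.subset_closure ⟨r, f t, ?_⟩
      show (x : Matrix D.Idx D.Idx F).map f = _
      rw [hx, hmap]
    · rintro x ⟨r, t, hx⟩
      refine ⟨φ.symm x, Subgroup.subset_closure ⟨r, f.symm t, ?_⟩, φ.apply_symm_apply x⟩
      show (x : Matrix D.Idx D.Idx K).map f.symm = _
      rw [hx, show D.xMat K r t = (D.xMat F r (f.symm t)).map f by
        rw [hmap, RingEquiv.apply_symm_apply]]
      ext a b
      simp
  exact ⟨(φ.subgroupMap (D.group F)).trans (MulEquiv.subgroupCongr hφ)⟩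

/-- Let F₃ be the field with 3 elements and F₁₃ the field with 13 elements. The Chevalley group G₂(F₃) and PSL(2, F₁₃) have the same prime graph: the same prime divisors of their orders, and for distinct primes r, s an element of order rs in one iff in the other. -/
theorem result {F : Type*} [Field F] [Fintype F] (hF : Fintype.card F = 3) {E : Type*} [Field E] [Fintype E] (hE : Fintype.card E = 13) :
    ((∀ r : ℕ, r.Prime → (r ∣ Nat.card ↥(Cfsg.Lie.chevG2.group F) ↔ r ∣ Nat.card (Matrix.ProjectiveSpecialLinearGroup (Fin 2) E))) ∧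
      (∀ r s : ℕ, r.Prime → s.Prime → r ≠ s → ((∃ x : ↥(Cfsg.Lie.chevG2.group F), orderOf x = r * s) ↔ (∃ y : (Matrix.ProjectiveSpecialLinearGroup (Fin 2) E), orderOf y = r * s)))) := by
  classical
  haveI : Fact (Nat.Prime 3) := ⟨by norm_num⟩
  haveI : Fact (Nat.Prime 13) := ⟨by norm_num⟩
  obtain ⟨φ⟩ := group_equiv chevG2
    (FiniteField.ringEquivOfCardEq (K := F) (K' := ZMod 3) (by rw [hF, ZMod.card]))
  have hord : ∀ m : ℕ, (∃ x : ↥(chevG2.group F), orderOf x = m) ↔ ∃ x : G23.G3, orderOf x = m :=
    fun m => ⟨fun ⟨x, hx⟩ => ⟨φ x, by rw [MulEquiv.orderOf_eq, hx]⟩,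
      fun ⟨x, hx⟩ => ⟨φ.symm x, by rw [MulEquiv.orderOf_eq, hx]⟩⟩
  haveI : CharP E 13 := charP_of_card_eq_prime hE
  have hrange := Cfsg.Agent.S2475.result (F := E) 13 (by omega)
  rw [hE] at hrange
  norm_num at hrange
  have hP : ∀ m : ℕ, (∃ y : Matrix.ProjectiveSpecialLinearGroup (Fin 2) E, orderOf y = m) ↔
      (m ∣ 13 ∨ m ∣ 6 ∨ m ∣ 7) := fun m => by
    have h := Set.ext_iff.1 hrange m
    simpa using h
  have hdiv : ∀ r : ℕ, r.Prime → (r ∣ 4245696 ↔ r = 2 ∨ r = 3 ∨ r = 7 ∨ r = 13) := by
    intro r hr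
    constructor
    · intro h
      rw [show (4245696 : ℕ) = 2 ^ 6 * (3 ^ 6 * (7 * 13)) by norm_num] at h
      rcases hr.dvd_mul.1 h with h | h
      · exact Or.inl ((Nat.prime_dvd_prime_iff_eq hr Nat.prime_two).1 (hr.dvd_of_dvd_pow h))
      rcases hr.dvd_mul.1 h with h | h
      · exact Or.inr (Or.inl
          ((Nat.prime_dvd_prime_iff_eq hr Nat.prime_three).1 (hr.dvd_of_dvd_pow h)))
      rcases hr.dvd_mul.1 h with h | h
      · exact Or.inr (Or.inr (Or.inl ((Nat.prime_dvd_prime_iff_eq hr (by norm_num)).1 h)))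
      · exact Or.inr (Or.inr (Or.inr ((Nat.prime_dvd_prime_iff_eq hr (by norm_num)).1 h)))
    · rintro (rfl | rfl | rfl | rfl) <;> norm_num
  have hPd : ∀ r : ℕ, r.Prime → ((r ∣ 13 ∨ r ∣ 6 ∨ r ∣ 7) ↔ r = 2 ∨ r = 3 ∨ r = 7 ∨ r = 13) := by
    intro r hr
    constructor
    · rintro (h | h | h)
      · exact Or.inr (Or.inr (Or.inr ((Nat.prime_dvd_prime_iff_eq hr (by norm_num)).1 h)))
      · rcases hr.dvd_mul.1 (show r ∣ 2 * 3 from h) with h | h
        · exact Or.inl ((Nat.prime_dvd_prime_iff_eq hr Nat.prime_two).1 h)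
        · exact Or.inr (Or.inl ((Nat.prime_dvd_prime_iff_eq hr Nat.prime_three).1 h))
      · exact Or.inr (Or.inr (Or.inl ((Nat.prime_dvd_prime_iff_eq hr (by norm_num)).1 h)))
    · rintro (rfl | rfl | rfl | rfl) <;> norm_num
  haveI : Finite G23.G3 := inferInstance
  refine ⟨fun r hr => ?_, fun r s hr hs hrs => ?_⟩
  · rw [Nat.card_congr φ.toEquiv, G23.card_G3, hdiv r hr, ← hPd r hr, ← hP r]
    refine ⟨fun ⟨y, hy⟩ => hy ▸ orderOf_dvd_natCard y, fun h => ?_⟩
    haveI := Fact.mk hr
    exact exists_prime_orderOf_dvd_card' r h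
  · rw [hord, hP]
    constructor
    · rintro ⟨x, hx⟩
      have hd := hx ▸ orderOf_dvd_natCard x
      rw [G23.card_G3] at hd
      have hr' := (hdiv r hr).1 ((dvd_mul_right r s).trans hd)
      have hs' := (hdiv s hs).1 ((dvd_mul_left s r).trans hd)
      obtain ⟨y, hy, hyC⟩ := G23.exists_seven
      obtain ⟨z, hz, hzC⟩ := G23.exists_thirteen
      have f7 : Nat.factorization 4245696 7 = 1 := by
        rw [show (4245696 : ℕ) = 7 * 606528 by norm_num, Nat.factorization_mul (by norm_num)
          (by norm_num), Finsupp.add_apply, Nat.Prime.factorization_self (by norm_num),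
          Nat.factorization_eq_zero_of_not_dvd (by norm_num : ¬ 7 ∣ 606528)]
      have f13 : Nat.factorization 4245696 13 = 1 := by
        rw [show (4245696 : ℕ) = 13 * 326592 by norm_num, Nat.factorization_mul (by norm_num)
          (by norm_num), Finsupp.add_apply, Nat.Prime.factorization_self (by norm_num),
          Nat.factorization_eq_zero_of_not_dvd (by norm_num : ¬ 13 ∣ 326592)]
      have h7 : r = 7 ∨ s = 7 → False := by
        rintro (rfl | rfl)
        · exact G23.not_orderOf_mul hr hs.one_lt f7 hy hyC x hx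
        · exact G23.not_orderOf_mul hs hr.one_lt f7 hy hyC x (hx.trans (mul_comm _ _))
      have h13 : r = 13 ∨ s = 13 → False := by
        rintro (rfl | rfl)
        · exact G23.not_orderOf_mul hr hs.one_lt f13 hz hzC x hx
        · exact G23.not_orderOf_mul hs hr.one_lt f13 hz hzC x (hx.trans (mul_comm _ _))
      rcases hr' with rfl | rfl | rfl | rfl <;> rcases hs' with rfl | rfl | rfl | rfl
      all_goals first
        | exact absurd rfl hrs
        | (refine Or.inr (Or.inl ?_); norm_num; done)
        | exact (h7 (Or.inl rfl)).elim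
        | exact (h7 (Or.inr rfl)).elim
        | exact (h13 (Or.inl rfl)).elim
        | exact (h13 (Or.inr rfl)).elim
    · intro h
      have hle : r * s = 6 := by
        rcases h with h | h | h
        · exfalso
          have := (Nat.dvd_prime (by norm_num : Nat.Prime 13)).1 h
          rcases this with h1 | h1
          · exact hr.ne_one (Nat.eq_one_of_mul_eq_one_right h1)
          · have := hr.two_le
            have := hs.two_le
            have h2 := (Nat.prime_mul_iff (a := r) (b := s)).1 (h1 ▸ (by norm_num : Nat.Prime 13))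
            omega
        · have h6 := Nat.le_of_dvd (by norm_num) h
          have := Nat.mul_le_mul hr.two_le hs.two_le
          rcases Nat.lt_or_ge (r * s) 6 with h5 | h5
          · exfalso
            have h4 : r * s = 4 ∨ r * s = 5 := by omega
            rcases h4 with h4 | h4 <;> rw [h4] at h <;> norm_num at h
          · omega
        · exfalso
          rcases (Nat.dvd_prime (by norm_num : Nat.Prime 7)).1 h with h1 | h1
          · exact hr.ne_one (Nat.eq_one_of_mul_eq_one_right h1)
          · have h2 := (Nat.prime_mul_iff (a := r) (b := s)).1 (h1 ▸ (by norm_num : Nat.Prime 7))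
            have := hr.two_le
            have := hs.two_le
            omega
      rw [hle]
      exact G23.exists_order_six

end Cfsg.Agent.S2518
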