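import Cfsg.Statements.S1057
import Cfsg.Agent.Lib.G22.Iso
import Cfsg.Agent.S2518
import Mathlib.FieldTheory.Finite.GaloisField
-- import your own Cfsg.Agent.* helpers here

set_option autoImplicit false
open Cfsg Cfsg.Agent

namespace Cfsg.Agent.S1057

/-- G₂(2)′ ≅ PSU₃(3). -/
theorem result {F K : Type*} [Field F] [Fintype F] [Field K] [Fintype K] (hF : Fintype.card F = 2) (hK : Fintype.card K = 9) :
    Nonempty (↥(commutator ↥(Cfsg.Lie.chevG2.group F)) ≃* Cfsg.PSU 3 K 3) := by
  obtain ⟨eF⟩ := S2518.group_equiv Cfsg.Lie.chevG2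
    (FiniteField.ringEquivOfCardEq (K := F) (K' := G22.F2) (by rw [hF, ZMod.card]))
  obtain ⟨f⟩ := G22.derived_equiv
  have eK : K ≃+* J2.F9 := FiniteField.ringEquivOfCardEq (by rw [hK, J2.F9.card])
  let su : Cfsg.SU 3 K 3 ≃* J2.SU9 :=
    { toFun := fun A => ⟨Matrix.SpecialLinearGroup.map (eK : K →+* J2.F9) A.1, fun u v => by
        have h := congrArg eK (A.2 (eK.symm ∘ u) (eK.symm ∘ v))
        simpa [Cfsg.hermForm, Cfsg.slToMat, Matrix.mulVec, dotProduct, map_sum, Function.comp] using h⟩
      invFun := fun A => ⟨Matrix.SpecialLinearGroup.map (eK.symm : J2.F9 →+* K) A.1, fun u v => by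
        have h := congrArg eK.symm (A.2 (eK ∘ u) (eK ∘ v))
        simpa [Cfsg.hermForm, Cfsg.slToMat, Matrix.mulVec, dotProduct, map_sum, Function.comp] using h⟩
      left_inv := fun A => Subtype.ext (Subtype.ext (by ext i j; simp))
      right_inv := fun A => Subtype.ext (Subtype.ext (by ext i j; simp))
      map_mul' := fun A B => Subtype.ext (by simp) }
  have hc : Subgroup.center (Cfsg.SU 3 K 3) = ⊥ := by
    rw [eq_bot_iff]
    intro z hz
    have h1 : su z ∈ Subgroup.center J2.SU9 := by
      rw [Subgroup.mem_center_iff]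
      intro g
      obtain ⟨y, rfl⟩ := su.surjective g
      rw [← map_mul, ← map_mul, Subgroup.mem_center_iff.1 hz y]
    rw [J2.center_SU9, Subgroup.mem_bot] at h1
    exact su.injective (h1.trans (map_one _).symm)
  let iso : Cfsg.PSU 3 K 3 ≃* J2.K63 :=
    (((QuotientGroup.quotientMulEquivOfEq hc).trans QuotientGroup.quotientBot).trans su).trans J2.suEquivK
  have hmap : (commutator ↥(Cfsg.Lie.chevG2.group F)).map eF.toMonoidHom =
      commutator ↥(Cfsg.Lie.chevG2.group G22.F2) := by
    rw [commutator_def, commutator_def, Subgroup.map_commutator, ← MonoidHom.range_eq_map,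
      MonoidHom.range_eq_top.2 eF.surjective]
  exact ⟨(((eF.subgroupMap _).trans (MulEquiv.subgroupCongr hmap)).trans f).trans iso.symm⟩

end Cfsg.Agent.S1057
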