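import Cfsg.Statements.S0294
import Cfsg.Agent.Lib.Orthogonal.POmega

set_option autoImplicit false
open Cfsg

namespace Cfsg.Agent.S0294

/-- gcd(4, q^m + 1) |PΩ^-_{2m}(q)| = q^(m(m-1)) (q^m + 1) prod_{i=1}^{m-1} (q^(2i) - 1), m at least 4 (type ²D_m). -/
theorem result {F : Type*} [Field F] [Fintype F] {q : ℕ} (hF : Fintype.card F = q) (m : ℕ) (hm : 4 ≤ m) (a b : F) (hab : ∀ z₁ z₂ : F, z₁ ^ 2 + a * z₁ * z₂ + b * z₂ ^ 2 = 0 → z₁ = 0 ∧ z₂ = 0) : Nat.gcd 4 (q ^ m + 1) * Nat.card (Cfsg.POmega F (Cfsg.quadFormMinus (m - 1) F a b)) = q ^ (m * (m - 1)) * (q ^ m + 1) * ∏ i ∈ Finset.range (m - 1), (q ^ (2 * (i + 1)) - 1) := by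
  subst hF
  obtain ⟨j, rfl⟩ : ∃ j, m = j + 1 := ⟨m - 1, by omega⟩
  have hQ := Orth.qMinus_nondeg hab j
  have hn : 7 ≤ Fintype.card ((Fin j ⊕ Fin j) ⊕ Fin 2) := by simp; omega
  have h := Orth.card_pomega hQ hn
  rw [Orth.card_isometryGroup (Orth.qMinus F j a b) rfl, Orth.card_oGroup_qMinus hab,
    Nat.card_eq_fintype_card (α := F)] at h
  show _ * Nat.card (Cfsg.POmega F (Cfsg.quadFormMinus j F a b)) = _
  rw [Nat.add_sub_cancel]
  generalize hX : Fintype.card F ^ ((j + 1) * j) * (Fintype.card F ^ (j + 1) + 1) *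
    ∏ i ∈ Finset.range j, (Fintype.card F ^ (2 * (i + 1)) - 1) = X
  rw [mul_assoc 2, mul_assoc 2, hX] at h
  rw [← Orth.coe_qMinus]
  rcases eq_or_ne (2 : F) 0 with h2 | h2
  · rw [Orth.card_center_one hQ hn (Or.inl h2), Orth.card_spinVal.2 h2] at h
    obtain ⟨i, hi⟩ : Even (Fintype.card F) := by
      haveI : CharP F 2 := CharTwo.of_one_ne_zero_of_two_eq_zero one_ne_zero h2
      exact Nat.even_iff.2 (FiniteField.even_card_of_char_two (ringChar.eq F 2))
    have hg : Nat.gcd 4 (Fintype.card F ^ (j + 1) + 1) = 1 := by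
      have hev : Fintype.card F ^ (j + 1) % 2 = 0 :=
        Nat.even_iff.1 (Nat.even_pow.2 ⟨⟨i, hi⟩, by omega⟩)
      have hc : Nat.Coprime 2 (Fintype.card F ^ (j + 1) + 1) :=
        (Nat.Prime.coprime_iff_not_dvd Nat.prime_two).2 (by omega)
      exact hc.pow_left 2
    rw [hg]; omega
  · have hodd : Odd (Fintype.card F) := Nat.odd_iff.2 (FiniteField.odd_card_of_char_ne_two fun h => h2 (by
      haveI := ringChar.of_eq h; exact CharTwo.two_eq_zero))
    have hiff := Orth.neg_one_minus hodd j hab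
    have hp : Fintype.card F ^ (j + 1) % 2 = 1 := Nat.odd_iff.1 hodd.pow
    rw [Orth.card_spinVal.1 h2] at h
    by_cases h4 : Fintype.card F ^ (j + 1) % 4 = 3
    · rw [(Orth.card_center_two hQ hn h2).1 (hiff.2 h4)] at h
      rw [Nat.gcd_eq_left (Nat.dvd_of_mod_eq_zero (by omega))]
      omega
    · rw [(Orth.card_center_two hQ hn h2).2 (fun hh => h4 (hiff.1 hh))] at h
      have hg : Nat.gcd 4 (Fintype.card F ^ (j + 1) + 1) = 2 := by
        rw [Nat.gcd_rec, show (Fintype.card F ^ (j + 1) + 1) % 4 = 2 by omega]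
        rfl
      rw [hg]; omega

end Cfsg.Agent.S0294
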