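import Cfsg.Statements.S1163
import Cfsg.Agent.Lib.Suzuki.Minor
import Cfsg.Agent.Lib.Suzuki.Structure
import Mathlib.GroupTheory.GroupAction.MultipleTransitivity
-- import your own Cfsg.Agent.* helpers here

set_option autoImplicit false
open Cfsg

namespace Cfsg.Agent.S1163

open Cfsg.Agent.Suzuki

/-- For the Suzuki group Sz(q), q = 2^(2m+1) ≥ 8, realised as the elements g of Sp₄(F) with g* = g^θ (θ the 2^(m+1)-th power map, so that θ² is squaring): `|Sz(q)| = q² (q - 1) (q² + 1)`, and there is a Sylow 2-subgroup `S` whose normaliser `H` has order `q²(q-1)` and index `q² + 1`, the action of `Sz(q)` on the cosets of `H` is doubly transitive, and `S` acts regularly on the cosets other than `H` itself. -/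
theorem result {F : Type*} [Field F] [Fintype F] {m : ℕ} (hm : 1 ≤ m) (hF : Fintype.card F = 2 ^ (2 * m + 1)) :
    Nat.card ↥(Cfsg.Lie.Sz F (2 ^ (m + 1))) = (2 ^ (2 * m + 1)) ^ 2 * (2 ^ (2 * m + 1) - 1) * ((2 ^ (2 * m + 1)) ^ 2 + 1) ∧
    ∃ S : Sylow 2 ↥(Cfsg.Lie.Sz F (2 ^ (m + 1))),
      Nat.card (Subgroup.normalizer ((S : Subgroup ↥(Cfsg.Lie.Sz F (2 ^ (m + 1)))) : Set ↥(Cfsg.Lie.Sz F (2 ^ (m + 1))))) = (2 ^ (2 * m + 1)) ^ 2 * (2 ^ (2 * m + 1) - 1) ∧
      (Subgroup.normalizer ((S : Subgroup ↥(Cfsg.Lie.Sz F (2 ^ (m + 1)))) : Set ↥(Cfsg.Lie.Sz F (2 ^ (m + 1))))).index = (2 ^ (2 * m + 1)) ^ 2 + 1 ∧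
      MulAction.IsMultiplyPretransitive ↥(Cfsg.Lie.Sz F (2 ^ (m + 1))) (↥(Cfsg.Lie.Sz F (2 ^ (m + 1))) ⧸ Subgroup.normalizer ((S : Subgroup ↥(Cfsg.Lie.Sz F (2 ^ (m + 1)))) : Set ↥(Cfsg.Lie.Sz F (2 ^ (m + 1))))) 2 ∧
      ∀ x y : ↥(Cfsg.Lie.Sz F (2 ^ (m + 1))) ⧸ Subgroup.normalizer ((S : Subgroup ↥(Cfsg.Lie.Sz F (2 ^ (m + 1)))) : Set ↥(Cfsg.Lie.Sz F (2 ^ (m + 1)))),
        x ≠ (QuotientGroup.mk 1) → y ≠ (QuotientGroup.mk 1) → ∃! s : ↥(S : Subgroup ↥(Cfsg.Lie.Sz F (2 ^ (m + 1)))), (s : ↥(Cfsg.Lie.Sz F (2 ^ (m + 1)))) • x = y := by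
  have h : SzField F m := ⟨hm, hF⟩
  let L := Cfsg.Lie.Sz F (2 ^ (m + 1))
  let e : Cfsg.Sz F m ≃* L := minorEquiv h
  have hcL : Nat.card L = (2 ^ (2 * m + 1)) ^ 2 * (2 ^ (2 * m + 1) - 1) * ((2 ^ (2 * m + 1)) ^ 2 + 1) := by
    rw [← Nat.card_congr e.toEquiv, card_Sz h]; ring
  refine ⟨hcL, ?_⟩
  let R' : Subgroup L := (rootGroup h).map e.toMonoidHom
  have hR'i : ¬ 2 ∣ R'.index := by
    rw [show R'.index = (rootGroup h).index from Subgroup.index_map_equiv (rootGroup h) e]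
    exact odd_index_rootGroup h
  let S : Sylow 2 L := ((isPGroup_rootGroup h).map e.toMonoidHom).toSylow hR'i
  refine ⟨S, ?_⟩
  have hN : Subgroup.normalizer ((S : Subgroup L) : Set L) = (borel F m).map e.toMonoidHom := by
    show Subgroup.normalizer (R' : Set L) = _
    rw [← normalizer_rootGroup h]
    exact (Subgroup.map_normalizer_eq_of_bijective (rootGroup h) (f := e.toMonoidHom) e.bijective).symm
  rw [hN]
  have hmem : ∀ a b : L, (QuotientGroup.mk a : L ⧸ (borel F m).map e.toMonoidHom) = QuotientGroup.mk b ↔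
      e.symm a • Cfsg.suzukiPointInfinity F = e.symm b • Cfsg.suzukiPointInfinity F := by
    intro a b
    rw [QuotientGroup.eq, Subgroup.mem_map_equiv, map_mul, map_inv, MulAction.mem_stabilizer_iff,
      mul_smul, inv_smul_eq_iff]
    exact eq_comm
  refine ⟨?_, ?_, ?_, ?_⟩
  · rw [Subgroup.card_map_of_injective e.injective, card_borel h]
  · rw [show ((borel F m).map e.toMonoidHom).index = (borel F m).index from Subgroup.index_map_equiv _ e,
      index_borel h]
  · rw [MulAction.is_two_pretransitive_iff]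
    intro a b c d hab hcd
    induction a using QuotientGroup.induction_on with | _ a => ?_
    induction b using QuotientGroup.induction_on with | _ b => ?_
    induction c using QuotientGroup.induction_on with | _ c => ?_
    induction d using QuotientGroup.induction_on with | _ d => ?_
    rw [Ne, hmem] at hab hcd
    obtain ⟨u, hu1, hu2⟩ := exists_smul_pair h (smul_mem_ovoid (e.symm a) pinf_mem)
      (smul_mem_ovoid (e.symm b) pinf_mem) hab
    obtain ⟨u', hu1', hu2'⟩ := exists_smul_pair h (smul_mem_ovoid (e.symm c) pinf_mem)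
      (smul_mem_ovoid (e.symm d) pinf_mem) hcd
    refine ⟨e (u' * u⁻¹), ?_, ?_⟩
    · show (QuotientGroup.mk (e (u' * u⁻¹) * a) : L ⧸ _) = QuotientGroup.mk c
      rw [hmem, map_mul, MulEquiv.symm_apply_apply, mul_smul, ← hu1, mul_smul, inv_smul_smul, hu1']
    · show (QuotientGroup.mk (e (u' * u⁻¹) * b) : L ⧸ _) = QuotientGroup.mk d
      rw [hmem, map_mul, MulEquiv.symm_apply_apply, mul_smul, ← hu2, mul_smul, inv_smul_smul, hu2']
  · intro x y hx hy
    induction x using QuotientGroup.induction_on with | _ x => ?_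
    induction y using QuotientGroup.induction_on with | _ y => ?_
    rw [Ne, hmem, map_one, one_smul] at hx hy
    obtain ⟨p1, p2, hp⟩ := (mem_ovoid.mp (smul_mem_ovoid (e.symm x) (pinf_mem (F := F) (m := m)))).resolve_left hx
    obtain ⟨q1, q2, hq⟩ := (mem_ovoid.mp (smul_mem_ovoid (e.symm y) (pinf_mem (F := F) (m := m)))).resolve_left hy
    refine ⟨⟨e (T h (p1 + q1) (p2 + q2 + θ m (p1 + q1) * p1)), ?_⟩, ?_, ?_⟩
    · show _ ∈ R'
      exact Subgroup.mem_map_of_mem _ ⟨_, _, rfl⟩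
    · show (QuotientGroup.mk (e _ * x) : L ⧸ _) = QuotientGroup.mk y
      rw [hmem, map_mul, MulEquiv.symm_apply_apply, mul_smul, hp, hq, T_smul_pt]
      congr 1
      · linear_combination p1 * h.two_eq_zero
      · linear_combination (p2 + θ m (p1 + q1) * p1) * h.two_eq_zero
    · rintro ⟨s, hs⟩ hsx
      obtain ⟨_, ⟨a, b, rfl⟩, rfl⟩ := (hs : s ∈ R')
      replace hsx : (QuotientGroup.mk (e (T h a b) * x) : L ⧸ (borel F m).map e.toMonoidHom) = QuotientGroup.mk y := hsx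
      rw [hmem, map_mul, MulEquiv.symm_apply_apply, mul_smul, hp, hq, T_smul_pt] at hsx
      obtain ⟨h1, h2⟩ := pt_inj hsx
      have ha : a = p1 + q1 := by linear_combination h1 - p1 * h.two_eq_zero
      subst ha
      have hb : b = p2 + q2 + θ m (p1 + q1) * p1 := by
        linear_combination h2 - (p2 + θ m (p1 + q1) * p1) * h.two_eq_zero
      subst hb
      rfl

end Cfsg.Agent.S1163
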