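import Cfsg.Statements.S4625
import Cfsg.Agent.Lib.SylowSquares.Twisted
import Cfsg.Agent.Lib.Lie.OrderG2
import Cfsg.Agent.Lib.Lie.OrderF4
import Cfsg.Agent.Lib.Lie.OrderE6
import Cfsg.Agent.Lib.Lie.OrderE7
import Cfsg.Agent.Lib.Lie.OrderE8

set_option autoImplicit false
open Cfsg

namespace Cfsg.Agent.S4625

/-- Let G be a finite simple group of Lie type in characteristic 2, not counting the Tits group ²F₄(2)′. Then a Sylow 2-subgroup P of G has P/P' elementary abelian: the square of every element of P lies in the derived subgroup of P. -/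
theorem result {G : Type*} [Group G] [Finite G] [IsSimpleGroup G] (hG : Cfsg.IsLieTypeChar 2 G) (P : Sylow 2 G) :
    ∀ x : (P : Subgroup G), x ^ 2 ∈ commutator (P : Subgroup G) := by
  suffices h : SylowSquares.SylowSq G from SylowSquares.sqDer_commutator (h P)
  clear P
  haveI : Fact (Nat.Prime 2) := ⟨Nat.prime_two⟩
  rcases hG with h | h | h | h | h | h | h | h | ⟨-, h⟩ | ⟨-, h⟩ | ⟨h3, -⟩
  · obtain ⟨F, _, _, _, n, -, -, ⟨e⟩⟩ := h
    exact ((SylowSquares.sylowSq_sl n).quot _).of_equiv e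
  · obtain ⟨F, _, _, _, m, -, -, ⟨e⟩⟩ := h
    haveI : Finite (Matrix.symplecticGroup (Fin m) F) := Finite.of_injective _ Subtype.val_injective
    exact ((SylowSquares.sylowSq_sp m).quot _).of_equiv e
  · obtain ⟨F, _, _, _, n, q, hq, -, -, ⟨e⟩⟩ := h
    exact ((SylowSquares.sylowSq_su hq).quot _).of_equiv e
  · obtain ⟨F, _, _, _, m, -, hodd, -⟩ := h
    have h2 := FiniteField.even_card_of_char_two (F := F) (ringChar.eq F 2)
    have h1 := Nat.odd_iff.1 hodd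
    omega
  · obtain ⟨F, _, _, _, m, hm, ⟨e⟩⟩ := h
    have h := SylowSquares.sylowSq_omega _ (Orth.qPlus_nondeg (F := F) m) (by simp; omega)
    rw [Orth.coe_qPlus] at h
    exact (h.quot _).of_equiv e
  · obtain ⟨F, _, _, _, m, a, b, hm, hab, ⟨e⟩⟩ := h
    have h := SylowSquares.sylowSq_omega _ (Orth.qMinus_nondeg hab (m - 1)) (by simp; omega)
    rw [Orth.coe_qMinus] at h
    exact (h.quot _).of_equiv e
  · obtain ⟨F, _, _, _, h⟩ := h
    rcases h with ⟨-, ⟨e⟩⟩ | ⟨⟨e⟩⟩ | ⟨⟨e⟩⟩ | ⟨⟨e⟩⟩ | ⟨⟨e⟩⟩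
    · exact (SylowSquares.sylowSq_chev (T := Chev.G2Data.tab) (F := F) ⟨Chev.G2Data.good, by decide +kernel⟩).of_equiv e
    · exact (SylowSquares.sylowSq_chev (T := Chev.F4Data.tab) (F := F) ⟨Chev.F4Data.good, by decide +kernel⟩).of_equiv e
    · exact (SylowSquares.sylowSq_chev (T := Chev.E6Data.tab) (F := F) ⟨Chev.E6Data.good, by decide +kernel⟩).of_equiv e
    · exact (SylowSquares.sylowSq_chev (T := Chev.E7Data.tab) (F := F) ⟨Chev.E7Data.good, by decide +kernel⟩).of_equiv e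
    · exact (SylowSquares.sylowSq_chev (T := Chev.E8Data.tab) (F := F) ⟨Chev.E8Data.good, by decide +kernel⟩).of_equiv e
  · obtain ⟨F, _, _, _, q, hq, ⟨hK, ⟨e⟩⟩ | ⟨hK, ⟨e⟩⟩⟩ := h
    · exact (SylowSquares.sylowSq_E6 hq hK).of_equiv e
    · exact (SylowSquares.sylowSq_D4 hq hK).of_equiv e
  · obtain ⟨F, _, _, m, hm, hF, ⟨e⟩⟩ := h
    exact (SylowSquares.sylowSq_suzuki ⟨hm, hF⟩).of_equiv e
  · obtain ⟨F, _, _, m, hm, hF, ⟨e⟩⟩ := h
    haveI : CharP F 2 := charP_of_card_eq_prime_pow (f := 2 * m + 1) hF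
    exact (SylowSquares.sylowSq_F4 hm hF).of_equiv e
  · omega

end Cfsg.Agent.S4625
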