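import Cfsg.Statements.S2131
import Cfsg.Agent.Lib.J1.Extra
import Mathlib.GroupTheory.SpecificGroups.Alternating
import Mathlib.GroupTheory.NoncommCoprod

set_option autoImplicit false
open Cfsg

namespace Cfsg.Agent.S2131

open Cfsg.Agent.J1 Cfsg.Spor Cfsg.Agent.J1Cert Cfsg.Agent.J1Mat

/-- The centraliser of the involution. -/
abbrev C : Subgroup ↥J1 := Subgroup.centralizer ({T} : Set ↥J1)

theorem not_dvd {q : ℕ} (hq : q = 7 ∨ q = 11 ∨ q = 19) : ¬ q ∣ Nat.card C := by
  intro h
  have hqp : q.Prime := by rcases hq with rfl | rfl | rfl <;> norm_num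
  have : Fact q.Prime := ⟨hqp⟩
  obtain ⟨x, hx⟩ := exists_prime_orderOf_dvd_card' q h
  rw [← Subgroup.orderOf_coe] at hx
  have hc : (x : ↥J1) * T = T * x := Subgroup.mem_centralizer_singleton_iff.mp x.2
  have hm : T ∈ Subgroup.centralizer ({(x : ↥J1)} : Set ↥J1) := Subgroup.mem_centralizer_singleton_iff.mpr hc.symm
  rw [centralizer_eq hq hx] at hm
  have := orderOf_dvd_of_mem_zpowers hm
  rw [orderOf_T, hx] at this
  rcases hq with rfl | rfl | rfl <;> norm_num at this

theorem card_C_le : Nat.card C ≤ 120 := by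
  have h : Nat.card C ∣ 120 * 7 * 11 * 19 := by
    have := C.card_subgroup_dvd_card
    rw [card_J1] at this
    exact this
  have c : ∀ q, (q = 7 ∨ q = 11 ∨ q = 19) → (Nat.card C).Coprime q := fun q hq => by
    rw [Nat.coprime_comm, Nat.Prime.coprime_iff_not_dvd (by rcases hq with rfl | rfl | rfl <;> norm_num)]
    exact not_dvd hq
  exact Nat.le_of_dvd (by norm_num) ((c 7 (by simp)).dvd_of_dvd_mul_right ((c 11 (by simp)).dvd_of_dvd_mul_right
    ((c 19 (by simp)).dvd_of_dvd_mul_right h)))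

/-- The image list of a permutation. -/
def pl (σ : Equiv.Perm (Fin 5)) : List ℕ := List.ofFn fun i => (σ i : ℕ)

theorem pl_injective : Function.Injective pl := fun _ _ h =>
  Equiv.ext fun i => Fin.ext (congrFun (List.ofFn_injective h) i)

def pa : Equiv.Perm (Fin 5) := Equiv.swap 1 2 * Equiv.swap 3 4
def pb : Equiv.Perm (Fin 5) := Equiv.swap 0 1 * Equiv.swap 1 3

/-- Composition on image lists. -/
def act (σ : Equiv.Perm (Fin 5)) (l : List ℕ) : List ℕ := l.map fun v => (σ (Fin.ofNat 5 v) : ℕ)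

theorem pl_mul (σ τ : Equiv.Perm (Fin 5)) : pl (σ * τ) = act σ (pl τ) := by
  simp [pl, act, List.map_ofFn, Function.comp_def]

theorem perm_tables : allFrom (fun n x => List.length x == 5 &&
      act pa x == a5Perm.getD (a5A.getD n 60) [] && act pb x == a5Perm.getD (a5B.getD n 60) []) a5Perm 0 = true ∧
    allFrom (fun n x => if n = 0 then x == pl 1 else
      x == act (if (a5Par.getD n (2, n)).1 = 0 then pa else pb) (a5Perm.getD (a5Par.getD n (2, n)).2 [])) a5Perm 0 = true ∧
    Equiv.Perm.sign pa = 1 ∧ Equiv.Perm.sign pb = 1 ∧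
    ∀ σ : Equiv.Perm (Fin 5), Equiv.Perm.sign σ = 1 → pl σ ∈ a5Perm := by
  decide +kernel

theorem a5_facts : a5Code.length = 60 ∧ a5Perm.length = 60 ∧ a5Perm.Nodup ∧ a5Code.Nodup ∧ tCode ∉ a5Code := by
  have h := a5_ok
  simp only [a5Ok, Bool.and_eq_true, decide_eq_true_eq, Bool.not_eq_true', List.contains_eq_mem,
    decide_eq_false_iff_not] at h
  exact ⟨h.1.1.1.1.1.1.1.1, h.1.1.1.1.1.1.1.2, h.1.1.1.1.1.1.2, h.1.1.1.1.1.2, h.1.1.1.1.2⟩

/-- The generators of a subgroup isomorphic to the alternating group of degree five. -/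
def GA : ↥J1 := el gaWord
def GB : ↥J1 := el gbWord

theorem cd_GA : cd GA = gaCode := (cd_el _).trans word_ga
theorem cd_GB : cd GB = gbCode := (cd_el _).trans word_gb

theorem comm_T : Commute GA T ∧ Commute GB T := by
  have h := a5_ok
  simp only [a5Ok, Bool.and_eq_true] at h
  refine ⟨cd_injective ?_, cd_injective ?_⟩ <;> simp only [cd_mul, cd_GA, cd_GB, cd_T]
  exacts [Nat.eq_of_beq_eq_true h.1.1.1.2, Nat.eq_of_beq_eq_true h.1.1.2]

/-- The graph of the embedding. -/
def K : Subgroup (Equiv.Perm (Fin 5) × ↥J1) := Subgroup.closure {(pa, GA), (pb, GB)}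

theorem exists_mem : ∀ n < 60, ∃ p ∈ K, pl p.1 = a5Perm.getD n [] ∧ cd p.2 = a5Code.getD n 0 := by
  intro n
  induction n using Nat.strong_induction_on with
  | _ n ih =>
    intro hn
    have h := a5_ok
    simp only [a5Ok, Bool.and_eq_true] at h
    have e1 := allFrom_spec (d := 0) h.1.2 n (by rw [a5_facts.1]; exact hn)
    have e2 := allFrom_spec (d := []) perm_tables.2.1 n (by rw [a5_facts.2.1]; exact hn)
    rw [zero_add] at e1 e2
    by_cases h0 : n = 0
    · rw [if_pos h0] at e1 e2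
      exact ⟨1, K.one_mem, (beq_iff_eq.mp e2).symm, cd_one.trans (Nat.eq_of_beq_eq_true e1).symm⟩
    · rw [if_neg h0] at e1 e2
      simp only [Bool.and_eq_true, decide_eq_true_eq] at e1
      obtain ⟨p, hp, hp1, hp2⟩ := ih _ e1.1.2 (e1.1.2.trans hn)
      refine ⟨(if (a5Par.getD n (2, n)).1 = 0 then (pa, GA) else (pb, GB)) * p,
        K.mul_mem (by split <;> exact Subgroup.subset_closure (by simp)) hp, ?_, ?_⟩
      · rw [beq_iff_eq.mp e2, ← hp1]
        split <;> exact pl_mul _ _
      · rw [Nat.eq_of_beq_eq_true e1.2, ← hp2]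
        split
        · exact (cd_mul _ _).trans (by rw [cd_GA])
        · exact (cd_mul _ _).trans (by rw [cd_GB])

theorem exists_index {p : Equiv.Perm (Fin 5) × ↥J1} (hp : p ∈ K) :
    ∃ n < 60, pl p.1 = a5Perm.getD n [] ∧ cd p.2 = a5Code.getD n 0 := by
  have hp' : p ∈ Submonoid.closure ({(pa, GA), (pb, GB)} : Set _) := by
    rw [K, ← Subgroup.mem_toSubmonoid,
      Subgroup.closure_toSubmonoid_of_isOfFinOrder (fun x _ => isOfFinOrder_of_finite x)] at hp
    exact hp
  induction hp' using Submonoid.closure_induction_left with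
  | one =>
    obtain ⟨q, -, -, -⟩ := exists_mem 0 (by norm_num)
    refine ⟨0, by norm_num, ?_, ?_⟩
    · have e := allFrom_spec (d := []) perm_tables.2.1 0 (by rw [a5_facts.2.1]; norm_num)
      rw [zero_add, if_pos rfl] at e
      exact (beq_iff_eq.mp e).symm
    · have h := a5_ok
      simp only [a5Ok, Bool.and_eq_true] at h
      have e := allFrom_spec (d := 0) h.1.2 0 (by rw [a5_facts.1]; norm_num)
      rw [zero_add, if_pos rfl] at e
      exact cd_one.trans (Nat.eq_of_beq_eq_true e).symm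
  | mul_left x hx y hy ih =>
    obtain ⟨n, hn, h1, h2⟩ := ih (by
      rw [K]; exact (Submonoid.closure_le.mpr Subgroup.subset_closure) hy)
    have h := a5_ok
    simp only [a5Ok, Bool.and_eq_true] at h
    have e1 := allFrom_spec (d := 0) h.2 n (by rw [a5_facts.1]; exact hn)
    have e2 := allFrom_spec (d := []) perm_tables.1 n (by rw [a5_facts.2.1]; exact hn)
    simp only [zero_add, Bool.and_eq_true, decide_eq_true_eq] at e1 e2
    rcases hx with rfl | rfl
    · refine ⟨_, e1.1.1.1, ?_, ?_⟩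
      · rw [Prod.fst_mul, pl_mul, h1]
        exact beq_iff_eq.mp e2.1.2
      · rw [Prod.snd_mul, cd_mul, h2, cd_GA]
        exact Nat.eq_of_beq_eq_true e1.1.2
    · refine ⟨_, e1.1.1.2, ?_, ?_⟩
      · rw [Prod.fst_mul, pl_mul, h1]
        exact beq_iff_eq.mp e2.2
      · rw [Prod.snd_mul, cd_mul, h2, cd_GB]
        exact Nat.eq_of_beq_eq_true e1.2

theorem K_fun {σ : Equiv.Perm (Fin 5)} {g g' : ↥J1} (h : (σ, g) ∈ K) (h' : (σ, g') ∈ K) : g = g' := by
  obtain ⟨n, hn, h1, h2⟩ := exists_index h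
  obtain ⟨n', hn', h1', h2'⟩ := exists_index h'
  have e : n = n' := by
    rw [List.getD_eq_getElem _ _ (by rw [a5_facts.2.1]; exact hn)] at h1
    rw [List.getD_eq_getElem _ _ (by rw [a5_facts.2.1]; exact hn')] at h1'
    exact (a5_facts.2.2.1.getElem_inj_iff).mp (h1.symm.trans h1')
  exact cd_injective (h2.trans (e ▸ h2'.symm))

theorem K_total (σ : alternatingGroup (Fin 5)) : ∃ g : ↥J1, ((σ : Equiv.Perm (Fin 5)), g) ∈ K := by
  have h := perm_tables.2.2.2.2 σ (Equiv.Perm.mem_alternatingGroup.mp σ.2)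
  obtain ⟨n, hn, e⟩ := List.getElem_of_mem h
  obtain ⟨p, hp, h1, -⟩ := exists_mem n (a5_facts.2.1 ▸ hn)
  rw [List.getD_eq_getElem _ _ hn, e] at h1
  exact ⟨p.2, by rw [← pl_injective h1]; exact hp⟩

/-- The embedding of the alternating group of degree five. -/
noncomputable def φ : alternatingGroup (Fin 5) →* ↥J1 where
  toFun σ := (K_total σ).choose
  map_one' := K_fun (K_total 1).choose_spec K.one_mem
  map_mul' σ τ := K_fun (K_total (σ * τ)).choose_spec (K.mul_mem (K_total σ).choose_spec (K_total τ).choose_spec)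

theorem φ_mem (σ : alternatingGroup (Fin 5)) : ((σ : Equiv.Perm (Fin 5)), φ σ) ∈ K := (K_total σ).choose_spec

theorem φ_injective : Function.Injective φ := by
  intro σ τ e
  obtain ⟨n, hn, h1, h2⟩ := exists_index (φ_mem σ)
  obtain ⟨n', hn', h1', h2'⟩ := exists_index (φ_mem τ)
  have en : n = n' := by
    rw [e] at h2
    rw [List.getD_eq_getElem _ _ (by rw [a5_facts.1]; exact hn)] at h2
    rw [List.getD_eq_getElem _ _ (by rw [a5_facts.1]; exact hn')] at h2'
    exact (a5_facts.2.2.2.1.getElem_inj_iff).mp (h2.symm.trans h2')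
  exact Subtype.ext (pl_injective (h1.trans (en ▸ h1'.symm)))

theorem φ_comm (σ : alternatingGroup (Fin 5)) : Commute T (φ σ) := by
  have h : K ≤ (Subgroup.centralizer ({T} : Set ↥J1)).comap (MonoidHom.snd _ _) := by
    rw [K, Subgroup.closure_le]
    rintro p (rfl | rfl) <;> refine Subgroup.mem_comap.mpr (Subgroup.mem_centralizer_singleton_iff.mpr ?_)
    exacts [comm_T.1.eq, comm_T.2.eq]
  exact (Subgroup.mem_centralizer_singleton_iff.mp (h (φ_mem σ))).symm

theorem T_not_range (σ : alternatingGroup (Fin 5)) : φ σ ≠ T := by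
  intro e
  obtain ⟨n, hn, -, h2⟩ := exists_index (φ_mem σ)
  have hn' : n < a5Code.length := by rw [a5_facts.1]; exact hn
  rw [e, cd_T, List.getD_eq_getElem _ _ hn'] at h2
  exact a5_facts.2.2.2.2 (h2 ▸ List.getElem_mem hn')


/-- The Janko group J₁ (the group generated by two explicit 7 × 7 matrices over the integers modulo 11) has an involution whose centraliser is isomorphic to the direct product of a group of order 2 with the alternating group of degree 5. -/
theorem result : ∃ t : ↥Cfsg.Spor.J1, orderOf t = 2 ∧ Nonempty (↥(Subgroup.centralizer ({t} : Set ↥Cfsg.Spor.J1)) ≃* Multiplicative (ZMod 2) × ↥(alternatingGroup (Fin 5))) := by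
  refine ⟨T, orderOf_T, ?_⟩
  obtain ⟨e⟩ : Nonempty (Multiplicative (ZMod 2) ≃* Subgroup.zpowers T) :=
    ⟨mulEquivOfCyclicCardEq (by rw [Nat.card_zpowers, orderOf_T]; simp)⟩
  let ι : Multiplicative (ZMod 2) →* ↥J1 := (Subgroup.zpowers T).subtype.comp e.toMonoidHom
  have hι : ∀ i, ι i = 1 ∨ ι i = T := fun i => by
    obtain ⟨k, hk⟩ := Subgroup.mem_zpowers_iff.mp (e i).2
    show ((e i : Subgroup.zpowers T) : ↥J1) = 1 ∨ ((e i : Subgroup.zpowers T) : ↥J1) = T
    rw [← hk, ← zpow_mod_orderOf, orderOf_T]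
    rcases Int.emod_two_eq k with h | h <;> simp [h]
  have comm : ∀ i σ, Commute (ι i) (φ σ) := fun i σ => by
    rcases hι i with h | h <;> rw [h]
    exacts [Commute.one_left _, φ_comm σ]
  let ψ := MonoidHom.noncommCoprod ι φ comm
  have hψ : Function.Injective ψ := by
    rw [injective_iff_map_eq_one]
    rintro ⟨i, σ⟩ h
    rw [MonoidHom.noncommCoprod_apply] at h
    rcases hι i with h' | h'
    · simp only [h', one_mul] at h
      have h1 : (e i : Subgroup.zpowers T) = 1 := Subtype.ext h'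
      exact Prod.ext (e.injective (h1.trans (map_one e).symm)) (φ_injective (h.trans (map_one φ).symm))
    · simp only [h'] at h
      exact absurd (by rw [← mul_one (φ σ), ← T_sq, ← mul_assoc, ← (φ_comm σ).eq, h, one_mul]) (T_not_range σ)
  have hmem : ∀ p, ψ p ∈ C := fun p => by
    rw [Subgroup.mem_centralizer_singleton_iff, MonoidHom.noncommCoprod_apply]
    refine ((Commute.mul_left ?_ (φ_comm p.2).symm) : Commute (ι p.1 * φ p.2) T).eq
    rcases hι p.1 with h | h <;> rw [h]
    exacts [Commute.one_left _, Commute.refl T]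
  refine ⟨(MulEquiv.ofBijective (ψ.codRestrict C hmem) ?_).symm⟩
  have hi : Function.Injective (ψ.codRestrict C hmem) := fun a b h => hψ (congrArg Subtype.val h)
  refine Function.Injective.bijective_of_nat_card_le hi (card_C_le.trans_eq ?_)
  rw [Nat.card_prod, show Nat.card (Multiplicative (ZMod 2)) = 2 by simp, nat_card_alternatingGroup, Nat.card_fin]
  rfl

end Cfsg.Agent.S2131
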