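import Cfsg.Statements.S3315
import Cfsg.Agent.Lib.SU3Sylow.Embed
import Cfsg.Agent.Lib.SU3Sylow.Auto

set_option autoImplicit false
open Cfsg

namespace Cfsg.Agent.S3315

open Cfsg.Agent.SU3Sylow

theorem key {F : Type*} [Field F] [CharP F 2] [Finite F] {σ : F →+* F} [Inv2 σ]
    (hne : σ ≠ RingHom.id F) {R : Type*} [Group R] {S' : Subgroup R} (hidx : S'.index = 2)
    (e : ↥S' ≃* Heis σ) : (Subgroup.center ↥S').map S'.subtype ≤ Subgroup.center R := by
  haveI := Subgroup.normal_of_index_eq_two hidx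
  rintro _ ⟨z, hz, rfl⟩
  rw [Subgroup.mem_center_iff]
  intro g
  by_cases hg : g ∈ S'
  · exact congrArg Subtype.val (Subgroup.mem_center_iff.1 hz ⟨g, hg⟩)
  let φ : MulAut (Heis σ) := MulAut.congr e (MulAut.conjNormal g)
  have hsq : g * g ∈ S' := Subgroup.mul_self_mem_of_index_two hidx g
  have hφ : ∀ x, (φ (φ x)).a = x.a := fun x => by
    have h1 : φ (φ x) = e ⟨g * g, hsq⟩ * x * (e ⟨g * g, hsq⟩)⁻¹ := by
      show e (MulAut.conjNormal g (e.symm (e (MulAut.conjNormal g (e.symm x))))) = _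
      rw [e.symm_apply_apply]
      have h2 : MulAut.conjNormal g (MulAut.conjNormal g (e.symm x)) =
          (⟨g * g, hsq⟩ : ↥S') * e.symm x * (⟨g * g, hsq⟩ : ↥S')⁻¹ := Subtype.ext (by
        simp [mul_assoc])
      rw [h2, map_mul, map_mul, map_inv, e.apply_symm_apply]
    rw [h1, Heis.mul_a, Heis.mul_a, Heis.inv_a]
    linear_combination (e ⟨g * g, hsq⟩).a * (CharTwo.two_eq_zero (R := F))
  have hez : e z ∈ Subgroup.center (Heis σ) := (Subgroup.centerCongr e ⟨z, hz⟩).2
  have h := Heis.fix_center_of_sq hne φ hφ hez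
  have h' : MulAut.conjNormal g z = z := e.injective (by
    have h3 : e (MulAut.conjNormal g (e.symm (e z))) = e z := h
    rwa [e.symm_apply_apply] at h3)
  have h4 : g * (z : R) * g⁻¹ = z := by
    rw [← MulAut.conjNormal_apply, h']
  exact mul_inv_eq_iff_eq_mul.1 h4

/-- Let S be a Sylow 2-subgroup of SU₃(2ⁿ), n ≥ 2 (realised over the field with 4ⁿ elements). If a finite 2-group R contains a subgroup S' of index 2 isomorphic to S, then the centre of S' is contained in the centre of R. -/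
theorem result {R : Type*} [Group R] [Finite R]
    (hR : IsPGroup 2 R) (n : ℕ) (hn : 2 ≤ n) {F : Type*} [Field F] [Fintype F] (hF : Fintype.card F = 4 ^ n)
    (P : Sylow 2 ↥(Cfsg.SU 3 F (2 ^ n))) (S' : Subgroup R) (hS : Nonempty (↥S' ≃* ↥(P : Subgroup ↥(Cfsg.SU 3 F (2 ^ n)))))
    (hidx : S'.index = 2) :
    (Subgroup.center ↥S').map S'.subtype ≤ Subgroup.center R := by
  obtain ⟨_, σ, _, hne, hσ, hq⟩ := setup (n := n) (by omega)
    (by rw [hF, ← pow_mul, mul_comm, pow_mul]; norm_num)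
  obtain ⟨e⟩ := sylow_SU_equiv hne (by omega) hσ hq P
  obtain ⟨e'⟩ := hS
  exact key hne hidx (e'.trans e)

end Cfsg.Agent.S3315
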