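import Cfsg.Statements.S2735
import Cfsg.Agent.Lib.AutPOmega.Field
import Cfsg.Agent.Lib.AutPOmega.Descent
import Cfsg.Agent.Lib.LinearBlock.QuadClass

set_option autoImplicit false
open Cfsg

namespace Cfsg.Agent.S2735

open Cfsg.Agent.AutPOmega Cfsg.Agent.Transvec Cfsg.Agent.Transvec.Orth Matrix

/-- An element of the coset of the order of the field automorphism is conjugate to it. -/
theorem conj_of_pow {F : Type*} [Field F] [Fintype F] (h2 : (2 : F) ≠ 0) {m : ℕ} (hm : 3 ≤ m)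
    (g : Cfsg.specialIsometryGL F (Cfsg.quadFormOdd m F)) (σ : F ≃+* F)
    (h : (sa g σ : MulAut (Cfsg.POmega F (Cfsg.quadFormOdd m F))) ^ orderOf σ = 1) :
    ∃ Q : Cfsg.specialIsometryGL F (Cfsg.quadFormOdd m F),
      sa Q 1 * sa 1 σ * (sa Q 1)⁻¹ = (sa g σ : MulAut (Cfsg.POmega F (Cfsg.quadFormOdd m F))) := by
  obtain ⟨c, hc⟩ := tw_scalar (geo_odd h2 m) (card_iv7 h2 hm) (semi_so g σ) h
  obtain ⟨P, t, hP⟩ := exists_descent_scal σ _ hc
  obtain ⟨K, hK, -⟩ := AutPSL.exists_fixed_field σ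
  haveI : Finite K := Subtype.finite
  have hiso := mem_isometry.1 (so_le g.2)
  obtain ⟨b, q', hb0, hq', hb⟩ := exists_form_descent hK (Cfsg.Agent.Orth.qOdd_nondeg h2 m)
    (fun v => by rw [Cfsg.Agent.Orth.coe_qOdd]; exact quad_map σ.toRingHom v) one_ne_zero
    (μ := 1) (g := (g : GL (Unit ⊕ (Fin m ⊕ Fin m)) F)) (fun v => by rw [one_mul, Cfsg.Agent.Orth.coe_qOdd]; exact hiso v) hP
  obtain ⟨d, hd0, φ, hφ⟩ := Cfsg.Agent.LBQuad.classify_odd hq' (m := m)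
    (by rw [Module.finrank_fintype_fun_eq_card, card_iv])
  obtain ⟨D, hD⟩ : ∃ D : (Unit ⊕ (Fin m ⊕ Fin m) → K) ≃ₗ[K] (Unit ⊕ (Fin m ⊕ Fin m) → K),
      ∀ u i, D u i = Sum.elim (fun _ => (1 : K)) (Sum.elim (fun _ => d) (fun _ => 1)) i * u i :=
    ⟨LinearEquiv.piCongrRight fun i => LinearEquiv.smulOfNeZero K K
      (Sum.elim (fun _ => (1 : K)) (Sum.elim (fun _ => d) (fun _ => 1)) i)
        (by rcases i with i | i | i <;> simp [hd0]), fun u i => rfl⟩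
  obtain ⟨N, hN, hNq⟩ := exists_sim_of_descent (q₀ := Cfsg.Agent.Orth.qOdd F m) hK hP hb
    (D.trans φ.symm) (d : F) fun u => by
      rw [hφ]
      simp only [LinearEquiv.trans_apply, LinearEquiv.apply_symm_apply, hD, Sum.elim_inl, Sum.elim_inr,
        Cfsg.Agent.Orth.coe_qOdd, Cfsg.quadFormOdd, incK_apply]
      push_cast
      rw [one_mul, mul_add, Finset.mul_sum]
      refine congrArg₂ (· + ·) rfl (Finset.sum_congr rfl fun i _ => ?_)
      ring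
  have hd' : (d : F) ≠ 0 := fun e => hd0 (Subtype.ext e)
  obtain ⟨Q, a, rfl⟩ := exists_so h2 (τ := 1) (g := N)
    ⟨Units.mk0 _ (mul_ne_zero hb0 hd'), fun v => by
      have := hNq v
      rw [Cfsg.Agent.Orth.coe_qOdd] at this
      simpa [mv] using this⟩
  obtain ⟨s, hs⟩ : ∃ s : Fˣ, scal s = (g : GL (Unit ⊕ (Fin m ⊕ Fin m)) F) * mapGL σ (Q : GL (Unit ⊕ (Fin m ⊕ Fin m)) F) * (Q : GL (Unit ⊕ (Fin m ⊕ Fin m)) F)⁻¹ := by
    refine ⟨(Units.map σ.toMonoidHom a)⁻¹ * t * a, ?_⟩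
    rw [map_mul, mapGL_scal, ← mul_assoc, ← scal_mul_comm, mul_assoc] at hN
    rw [eq_inv_mul_iff_mul_eq.2 (show scal (Units.map σ.toMonoidHom a) *
      ((g : GL (Unit ⊕ (Fin m ⊕ Fin m)) F) * mapGL σ (Q : GL (Unit ⊕ (Fin m ⊕ Fin m)) F)) = scal t * (scal a * (Q : GL (Unit ⊕ (Fin m ⊕ Fin m)) F)) from hN)]
    simp only [map_mul, map_inv, mul_assoc, mul_inv_cancel_right, mul_inv_cancel, mul_one]
  have hs1 : s = 1 := scal_mem_so (m := m) (by
    rw [hs]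
    exact mul_mem (mul_mem g.2 (mapSO σ Q).2) (inv_mem Q.2))
  rw [hs1, show (scal (1 : Fˣ) : GL (Unit ⊕ (Fin m ⊕ Fin m)) F) = 1 from map_one _, eq_comm,
    mul_inv_eq_one] at hs
  refine ⟨Q, ?_⟩
  rw [← conjSO_apply, ← map_inv, conjSO_apply, conjSO_apply, sa_mul, sa_mul]
  simp only [map_one, mul_one, one_mul]
  congr 1
  rw [map_inv, mul_inv_eq_iff_eq_mul]
  exact Subtype.ext hs.symm

/-- Let T = Ω_{2m+1}(F) (m ≥ 3, |F| odd) and x a field automorphism of T of prime order r. Then an element y of the coset Inndiag(T)·x (y = δ x with δ induced by a similarity of the form) has order r if and only if y is conjugate to x by an element of Inndiag(T). (T has no graph or graph-field automorphisms.) -/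
theorem result {F : Type*} [Field F] [Fintype F] (hodd : Odd (Fintype.card F)) {m : ℕ} (hm : 3 ≤ m) (x δ : MulAut (Cfsg.POmega F (Cfsg.quadFormOdd m F))) (hx : Cfsg.IsFieldAutClassPOmega (Cfsg.quadFormOdd m F) x) {r : ℕ} (hr : r.Prime) (hxr : orderOf x = r) (hδ : δ ∈ Cfsg.inndiagPOmegaOdd m F) :
    orderOf (δ * x) = r ↔ Cfsg.IsConjUnder (Cfsg.inndiagPOmegaOdd m F) x (δ * x) := by
  have h2 := two_ne_zero_of_odd hodd
  rw [← range_conjSO h2 hm] at hδ ⊢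
  obtain ⟨d, rfl⟩ := hδ
  obtain ⟨σ, P, -, ho, rfl⟩ := exists_conj_field h2 hm hx
  constructor
  · intro hord
    obtain ⟨g, hg⟩ : ∃ g, conjHom _ so_le d * (sa P 1 * sa 1 σ * (sa P 1)⁻¹ :
        MulAut (Cfsg.POmega F (Cfsg.quadFormOdd m F))) = sa g σ := by
      refine ⟨d * (P * mapSO σ P⁻¹), ?_⟩
      rw [← conjSO_apply P, ← map_inv, conjSO_apply, conjSO_apply, conjSO_apply, sa_mul, sa_mul, sa_mul]
      simp only [map_one, mul_one, one_mul, mapSO_one]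
    obtain ⟨Q, hQ⟩ := conj_of_pow h2 hm g σ (by rw [← hg, ← ho, hxr, ← hord, pow_orderOf_eq_one])
    refine ⟨sa Q 1 * (sa P 1)⁻¹, Subgroup.mul_mem _ ⟨Q, rfl⟩ (Subgroup.inv_mem _ ⟨P, rfl⟩), ?_⟩
    rw [hg, ← hQ]
    group
  · rintro ⟨h, -, hy⟩
    rw [hy, ← hxr]
    exact (MulAut.conj h).orderOf_eq _

end Cfsg.Agent.S2735
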