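import Cfsg.Statements.S0247
import Cfsg.Agent.S0826
import Cfsg.Agent.Lib.Classical.Symplectic

set_option autoImplicit false
open Cfsg

namespace Cfsg.Agent.S0247

/-- Sp_4(2) is isomorphic to the symmetric group S_6. -/
theorem result {F : Type*} [Field F] [Fintype F] (hF : Fintype.card F = 2) : Nonempty (Matrix.symplecticGroup (Fin 2) F ≃* Equiv.Perm (Fin 6)) := by
  classical
  obtain ⟨f, hf⟩ := S0826.result 3 le_rfl
  have hcardF : Nat.card F = 2 := by rw [Nat.card_eq_fintype_card, hF]
  let e : ZMod 2 ≃+* F := ZMod.ringEquivOfPrime F Nat.prime_two hF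
  have h2F : (2 : F) = 0 := by
    rw [← map_ofNat e 2, show (2 : ZMod 2) = 0 by decide, map_zero]
  have hmem : ∀ A : Matrix.symplecticGroup (Fin 2) (ZMod 2),
      e.toRingHom.mapMatrix A.1 ∈ Matrix.symplecticGroup (Fin 2) F := fun A => by
    have h : e.toRingHom.mapMatrix (A.1 * Matrix.J (Fin 2) (ZMod 2) * A.1.transpose) =
        e.toRingHom.mapMatrix (Matrix.J (Fin 2) (ZMod 2)) := congrArg _ A.2
    rw [map_mul, map_mul] at h
    have hJ : e.toRingHom.mapMatrix (Matrix.J (Fin 2) (ZMod 2)) = Matrix.J (Fin 2) F := by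
      ext i j
      rcases i with i | i <;> rcases j with j | j <;> simp [Matrix.J, Matrix.one_apply, apply_ite e]
      all_goals (split_ifs <;> first | rfl | (simp; done) | linear_combination h2F)
    rw [hJ, show e.toRingHom.mapMatrix A.1.transpose = (e.toRingHom.mapMatrix A.1).transpose from
      (Matrix.transpose_map).symm] at h
    exact h
  let φ : Matrix.symplecticGroup (Fin 2) (ZMod 2) →* Matrix.symplecticGroup (Fin 2) F :=
    MonoidHom.mk' (fun A => ⟨_, hmem A⟩) fun A B => Subtype.ext (map_mul e.toRingHom.mapMatrix A.1 B.1)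
  have hφ : Function.Injective φ := fun A B h =>
    Subtype.ext (Matrix.map_injective e.injective (congrArg Subtype.val h))
  let f' : Equiv.Perm (Fin 6) →* Matrix.symplecticGroup (Fin 2) F := φ.comp f
  have hinj : Function.Injective f' := hφ.comp hf
  refine ⟨(MulEquiv.ofBijective f' ((Nat.bijective_iff_injective_and_card f').2 ⟨hinj, ?_⟩)).symm⟩
  rw [Nat.card_perm, Nat.card_fin, ClassicalSp.card_sp, hcardF]
  simp [Finset.prod_range_succ, Nat.factorial]

end Cfsg.Agent.S0247

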