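import Cfsg.Statements.S0282
import Cfsg.Agent.Lib.Classical.HermSU
import Cfsg.Agent.Lib.Char.Burnside

set_option autoImplicit false
open Cfsg

namespace Cfsg.Agent.S0282

/-- PSU_3(2) is a solvable group of order 72. -/
theorem result {F : Type*} [Field F] [Fintype F] (hF : Fintype.card F = 4) : Nat.card (Cfsg.PSU 3 F 2) = 72 ∧ Group.IsSolvable (Cfsg.PSU 3 F 2) := by
  have hF' : Fintype.card F = 2 ^ 2 := by rw [hF]; norm_num
  obtain ⟨σ, hσ, hne, hinv, hq, hq2⟩ := HermStd.exists_sigma hF'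
  have h := HermSU.card_PSU_mul hne hinv hσ (n := 3) (by norm_num) hq
  rw [HermStd.card_GU hne hinv hσ 3 hq, Finset.prod_range_succ, Finset.prod_range_succ,
    Finset.prod_range_succ, Finset.prod_range_zero, if_pos (by decide), if_neg (by decide),
    if_pos (by decide)] at h
  norm_num at h
  have h72 : Nat.card (Cfsg.PSU 3 F 2) = 72 := by omega
  haveI : Finite (Cfsg.PSU 3 F 2) := Nat.finite_of_card_ne_zero (by omega)
  exact ⟨h72, Cfsg.Agent.Char.isSolvable_of_card_pq 2 3 Nat.prime_two Nat.prime_three _ _ h72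
    ⟨3, 2, rfl⟩⟩

end Cfsg.Agent.S0282
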