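import Cfsg.Statements.S2159
import Cfsg.Agent.Lib.ChevAut.AutData
import Cfsg.Agent.Lib.ChevAut.AutPerm

set_option autoImplicit false
set_option maxRecDepth 8000
open Cfsg

namespace Cfsg.Agent.S2159

open Cfsg.Agent.Chev Cfsg.Agent.ChevAut in
/-- In type D₄ all six symmetries of the diagram are realised. -/
theorem range_D4 {F : Type*} [Field F] [Finite F] :
    ∃ a b : ↥(normAut autOK_D4.good.toGood F),
      piHom autOK_D4 F a * piHom autOK_D4 F b ≠ piHom autOK_D4 F b * piHom autOK_D4 F a ∧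
      Nat.card ↥(piHom autOK_D4 F).range = 6 := by
  have h := autOK_D4
  have hg := h.good.toGood
  have mk : ∀ (S : Chev.Sym), D4Data.tab.checkSym S = true → ∀ ρ : Equiv.Perm (Fin D4Data.tab.l),
      (∀ i : Fin D4Data.tab.l, S.ρ.getD (i : ℕ) 0 = (ρ i : ℕ)) → ρ ∈ (piHom h F).range := by
    intro S hS ρ hρ
    obtain ⟨α, hα⟩ := Chev.Tab.exists_aut (F := F) hg hS
    refine mem_range_of_aut h ρ (fun _ => 1) (fun i => ?_) (aut_images hg (α := α) fun x i t => ?_)
    · rw [exC, if_neg]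
      simp [expFlag]
    · have := hα x i t (hg.rank_eq.symm ▸ i.2)
      rw [hρ] at this
      simpa using this
  let ρA : Equiv.Perm (Fin D4Data.tab.l) :=
    (⟨![2, 1, 3, 0], ![3, 1, 0, 2], by decide, by decide⟩ : Equiv.Perm (Fin 4))
  let ρC : Equiv.Perm (Fin D4Data.tab.l) :=
    (⟨![2, 1, 0, 3], ![2, 1, 0, 3], by decide, by decide⟩ : Equiv.Perm (Fin 4))
  have hA : ρA ∈ (piHom h F).range := mk _ D4Data.symA_ok ρA (by decide)
  have hC : ρC ∈ (piHom h F).range := mk _ D4Data.symC_ok ρC (by decide)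
  obtain ⟨a, ha⟩ := hA
  obtain ⟨b, hb⟩ := hC
  refine ⟨a, b, by rw [ha, hb]; decide, le_antisymm ?_ ?_⟩
  · exact (card_range_le h).trans (le_of_eq (by decide +kernel))
  · have hA' : ρA ∈ (piHom h F).range := ⟨a, ha⟩
    have hC' : ρC ∈ (piHom h F).range := ⟨b, hb⟩
    have hsub : ∀ x ∈ ({1, ρA, ρA * ρA, ρC, ρA * ρC, ρC * ρA} : Finset (Equiv.Perm (Fin D4Data.tab.l))),
        x ∈ (piHom h F).range := by
      intro x hx
      simp only [Finset.mem_insert, Finset.mem_singleton] at hx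
      rcases hx with rfl | rfl | rfl | rfl | rfl | rfl
      exacts [one_mem _, hA', mul_mem hA' hA', hC', mul_mem hA' hC', mul_mem hC' hA']
    have h6 := Nat.card_le_card_of_injective
      (fun x : {x // x ∈ ({1, ρA, ρA * ρA, ρC, ρA * ρC, ρC * ρA} : Finset (Equiv.Perm (Fin D4Data.tab.l)))} =>
        (⟨x.1, hsub x.1 x.2⟩ : ↥(piHom h F).range))
      (fun x y e => Subtype.ext (congrArg (fun z : ↥(piHom h F).range => z.1) e))
    rw [Nat.card_eq_finsetCard] at h6
    exact (le_of_eq (by decide +kernel)).trans h6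

/-- Structure of the outer automorphism group of the Chevalley group `G` of type G₂, B₂, D₄, F₄, E₆, E₇ or E₈ over a finite field. Let `D̄` be the image in `Out(G)` of the subgroup generated by the diagonal automorphisms and `F̄` the image of the subgroup generated by the field automorphisms. Then `D̄` is a normal abelian subgroup of `Out(G)`, `F̄` is cyclic, `D̄F̄` is a normal subgroup, and the quotient of `Out(G)` by `D̄F̄` is trivial, of order 2, or non-abelian of order 6 (so isomorphic to the symmetric group on three letters): its index is 1 or 2, or it is 6 with the commutator subgroup of `Out(G)` not inside `D̄F̄`. -/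
theorem result {F : Type*} [Field F] [Finite F] (D : Cfsg.Lie.ChevalleyDatum) (hD : D ∈ [Cfsg.Lie.chevG2, Cfsg.Lie.chevB2, Cfsg.Lie.chevD4, Cfsg.Lie.chevF4, Cfsg.Lie.chevE6, Cfsg.Lie.chevE7, Cfsg.Lie.chevE8])
    (Dbar Fbar : Subgroup (Cfsg.Out ↥(D.group F)))
    (hDbar : Dbar = (Subgroup.closure {φ : MulAut ↥(D.group F) | D.IsDiagonalAut φ}).map (QuotientGroup.mk' (Cfsg.Inn ↥(D.group F))))
    (hFbar : Fbar = (Subgroup.closure {φ : MulAut ↥(D.group F) | D.IsFieldAut φ}).map (QuotientGroup.mk' (Cfsg.Inn ↥(D.group F)))) :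
    Dbar.Normal ∧ IsMulCommutative ↥Dbar ∧ IsCyclic ↥Fbar ∧ (Dbar ⊔ Fbar).Normal ∧
      ((Dbar ⊔ Fbar).index = 1 ∨ (Dbar ⊔ Fbar).index = 2 ∨
        ((Dbar ⊔ Fbar).index = 6 ∧ ¬ commutator (Cfsg.Out ↥(D.group F)) ≤ Dbar ⊔ Fbar)) := by
  have small : ∀ {T : Chev.Tab} {K : List (List ℕ)} {Ls : List Bool} (h : ChevAut.AutOK T K Ls),
      T.D = D → (ChevAut.symList T T.l).length ≤ 2 →
      Dbar.Normal ∧ IsMulCommutative ↥Dbar ∧ IsCyclic ↥Fbar ∧ (Dbar ⊔ Fbar).Normal ∧
      ((Dbar ⊔ Fbar).index = 1 ∨ (Dbar ⊔ Fbar).index = 2 ∨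
        ((Dbar ⊔ Fbar).index = 6 ∧ ¬ commutator (Cfsg.Out ↥(D.group F)) ≤ Dbar ⊔ Fbar)) := by
    intro T K Ls h hTD hlen
    subst hTD
    obtain ⟨h1, h2, h3, h4, h5, -⟩ := ChevAut.out_structure h hD Dbar Fbar hDbar hFbar
    refine ⟨h1, h2, h3, h4, ?_⟩
    have hc := (ChevAut.card_range_le (F := F) h).trans hlen
    have hp : 0 < Nat.card ↥(ChevAut.piHom h F).range := Nat.card_pos
    rw [h5]
    omega
  simp only [List.mem_cons, List.not_mem_nil, or_false] at hD
  rcases hD with hD' | hD' | hD' | hD' | hD' | hD' | hD' <;> subst hD'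
  · exact small ChevAut.autOK_G2 rfl (by decide +kernel)
  · exact small ChevAut.autOK_B2 rfl (by decide +kernel)
  · obtain ⟨a, b, hab, hcard⟩ := range_D4 (F := F)
    have hmem : (Chev.D4Data.tab).D ∈ [Cfsg.Lie.chevG2, Cfsg.Lie.chevB2, Cfsg.Lie.chevD4, Cfsg.Lie.chevF4,
        Cfsg.Lie.chevE6, Cfsg.Lie.chevE7, Cfsg.Lie.chevE8] := by
      show Cfsg.Lie.chevD4 ∈ _
      simp
    obtain ⟨h1, h2, h3, h4, h5, h6⟩ := ChevAut.out_structure ChevAut.autOK_D4 hmem Dbar Fbar hDbar hFbar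
    exact ⟨h1, h2, h3, h4, Or.inr (Or.inr ⟨h5.trans hcard, fun hc => hab (h6 hc a b)⟩)⟩
  · exact small ChevAut.autOK_F4 rfl (by decide +kernel)
  · exact small ChevAut.autOK_E6 rfl (by decide +kernel)
  · exact small ChevAut.autOK_E7 rfl (by decide +kernel)
  · exact small ChevAut.autOK_E8 rfl (by decide +kernel)

end Cfsg.Agent.S2159
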