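import Cfsg.Statements.S1093
import Cfsg.Agent.Lib.Lie.ChevCoxeter
import Cfsg.Agent.Lib.Lie.OrderE6
import Cfsg.Agent.Lib.Lie.OrderE7
import Cfsg.Agent.Lib.Lie.OrderE8
-- import your own Cfsg.Agent.* helpers here

set_option autoImplicit false
open Cfsg

namespace Cfsg.Agent.S1093

/-- `|W(E₆)| = 51840`, `|W(E₇)| = 2903040`, `|W(E₈)| = 696729600` for Mathlib's presented Coxeter groups. -/
theorem result (p : (Σ n : ℕ, CoxeterMatrix (Fin n)) × ℕ)
    (hp : p ∈ [(⟨6, CoxeterMatrix.E₆⟩, 51840), (⟨7, CoxeterMatrix.E₇⟩, 2903040), (⟨8, CoxeterMatrix.E₈⟩, 696729600)]) :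
    Nat.card p.1.2.Group = p.2 := by
  simp only [List.mem_cons, List.not_mem_nil, or_false] at hp
  rcases hp with rfl | rfl | rfl
  · obtain ⟨J, hJ, e⟩ := Chev.Tab.checkChain_spec (T := Chev.E6Data.tab) Chev.E6Data.good 1 Chev.E6Data.steps [] Chev.E6Data.chainOK
    rw [Chev.Tab.poinc_nil, Nat.cast_one, mul_one] at e
    refine (Chev.Tab.card_coxGroup (T := Chev.E6Data.tab) ⟨Chev.E6Data.good, by decide +kernel⟩ (by decide +kernel) hJ).trans (Int.ofNat.inj ?_)
    refine e.trans ?_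
    decide +kernel
  · obtain ⟨J, hJ, e⟩ := Chev.Tab.checkChain_spec (T := Chev.E7Data.tab) Chev.E7Data.good 1 Chev.E7Data.steps [] Chev.E7Data.chainOK
    rw [Chev.Tab.poinc_nil, Nat.cast_one, mul_one] at e
    refine (Chev.Tab.card_coxGroup (T := Chev.E7Data.tab) ⟨Chev.E7Data.good, by decide +kernel⟩ (by decide +kernel) hJ).trans (Int.ofNat.inj ?_)
    refine e.trans ?_
    decide +kernel
  · obtain ⟨J, hJ, e⟩ := Chev.Tab.checkChain_spec (T := Chev.E8Data.tab) Chev.E8Data.good 1 Chev.E8Data.steps [] Chev.E8Data.chainOK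
    rw [Chev.Tab.poinc_nil, Nat.cast_one, mul_one] at e
    refine (Chev.Tab.card_coxGroup (T := Chev.E8Data.tab) ⟨Chev.E8Data.good, by decide +kernel⟩ (by decide +kernel) hJ).trans (Int.ofNat.inj ?_)
    refine e.trans ?_
    decide +kernel

end Cfsg.Agent.S1093
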