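import Cfsg.Statements.S1340
import Cfsg.Agent.Lib.Components.Basic
import Cfsg.Agent.Lib.Classical.SL
import Cfsg.Agent.Lib.Techniques.CharP
import Cfsg.Agent.Lib.Components.Local
import Mathlib.LinearAlgebra.Projectivization.PSL.PSL2
-- import your own Cfsg.Agent.* helpers here

set_option autoImplicit false
set_option linter.style.haveILetI false
open Cfsg

namespace Cfsg.Agent.S1340


open Matrix

theorem sl_quasisimple {F : Type*} [Field F] [Fintype F] (m : ℕ) (hm : 2 ≤ m)
    (h : m = 2 → 4 ≤ Fintype.card F) : Cfsg.IsQuasisimple (SpecialLinearGroup (Fin m) F) := by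
  rcases Nat.lt_or_ge m 3 with hlt | hge
  · obtain rfl : m = 2 := by omega
    have h4 : 4 ≤ Nat.card F := by rw [Nat.card_eq_fintype_card]; exact h rfl
    obtain ⟨x, hx⟩ : IsCyclic Fˣ := inferInstance
    have hsq : (x : F) ^ 2 ≠ 1 := fun h2 => by
      have h3 := orderOf_le_of_pow_eq_one zero_lt_two (Units.ext h2 : x ^ 2 = 1)
      rw [orderOf_eq_card_of_forall_mem_zpowers hx, Nat.card_units] at h3
      omega
    exact ⟨⟨SL2.commutator_eq_top (Units.ne_zero x) hsq⟩,
      ProjectiveSpecialLinearGroup.rank_two_simple h4⟩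
  · have h3 : 3 ≤ Fintype.card (Fin m) := by rw [Fintype.card_fin]; exact hge
    exact ⟨⟨ClassicalSL.isPerfect_sl h3⟩, ClassicalSL.isSimpleGroup_psl h3⟩


/-- Let F be a finite field of odd order and n ≥ 3 with (n, |F|) ≠ (3, 3). Then GL(n, F) has a non-central involution t such that C(t) / O(C(t)) has a component. -/
theorem result {F : Type*} [Field F] [Fintype F] [DecidableEq F] (hF : Odd (Fintype.card F)) (n : ℕ) (hn : 3 ≤ n) (h33 : ¬ (n = 3 ∧ Fintype.card F = 3)) : ∃ t : Matrix.GeneralLinearGroup (Fin n) F, orderOf t = 2 ∧ t ∉ Subgroup.center (Matrix.GeneralLinearGroup (Fin n) F) ∧ Cfsg.HasComponent (↥(Subgroup.centralizer ({t} : Set (Matrix.GeneralLinearGroup (Fin n) F))) ⧸ Cfsg.oddCore ↥(Subgroup.centralizer ({t} : Set (Matrix.GeneralLinearGroup (Fin n) F)))) := by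
  classical
  obtain ⟨m, rfl⟩ : ∃ m, n = 1 + m := ⟨n - 1, by omega⟩
  have hm : 2 ≤ m := by omega
  have hq2 : (2 : F) ≠ 0 := by
    intro h2
    haveI : CharP F 2 := CharTwo.of_one_ne_zero_of_two_eq_zero one_ne_zero h2
    obtain ⟨k, -, hk⟩ := FiniteField.card F 2
    rw [hk] at hF
    exact Nat.not_even_iff_odd.2 hF ((Nat.even_pow' k.ne_zero).2 even_two)
  have hq : m = 2 → 4 ≤ Fintype.card F := fun h => by
    have h1 : 1 < Fintype.card F := Fintype.one_lt_card
    have h3 : Fintype.card F ≠ 3 := fun h3 => h33 ⟨by omega, h3⟩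
    obtain ⟨k, hk⟩ := hF
    omega
  have hqs := sl_quasisimple (F := F) m hm hq
  let e : Fin 1 ⊕ Fin m ≃ Fin (1 + m) := finSumFinEquiv
  let E : Matrix (Fin 1 ⊕ Fin m) (Fin 1 ⊕ Fin m) F ≃ₐ[F] Matrix (Fin (1 + m)) (Fin (1 + m)) F :=
    Matrix.reindexAlgEquiv F F e
  let D0 : Matrix (Fin 1 ⊕ Fin m) (Fin 1 ⊕ Fin m) F := Matrix.fromBlocks (-1) 0 0 1
  have hD0 : D0 * D0 = 1 := by
    simp [D0, Matrix.fromBlocks_multiply, Matrix.fromBlocks_one]
  let t : Matrix.GeneralLinearGroup (Fin (1 + m)) F :=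
    ⟨E D0, E D0, by rw [← map_mul, hD0, map_one], by rw [← map_mul, hD0, map_one]⟩
  let blk : Matrix.SpecialLinearGroup (Fin m) F →* Matrix (Fin (1 + m)) (Fin (1 + m)) F :=
    { toFun := fun A => E (Matrix.fromBlocks (1 : Matrix (Fin 1) (Fin 1) F) 0 0 (A : Matrix (Fin m) (Fin m) F))
      map_one' := by rw [Matrix.SpecialLinearGroup.coe_one, Matrix.fromBlocks_one, map_one]
      map_mul' := fun A B => by rw [← map_mul, Matrix.fromBlocks_multiply]; simp }
  let φ : Matrix.SpecialLinearGroup (Fin m) F →* Matrix.GeneralLinearGroup (Fin (1 + m)) F := blk.toHomUnits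
  have hφv : ∀ A, (φ A : Matrix (Fin (1 + m)) (Fin (1 + m)) F) =
      E (Matrix.fromBlocks 1 0 0 (A : Matrix (Fin m) (Fin m) F)) := fun A => rfl
  have hφinj : Function.Injective φ := fun A B h => by
    have h1 := E.injective (congrArg Units.val h :)
    exact Subtype.ext (Matrix.fromBlocks_inj.1 h1).2.2.2
  have hφC : ∀ A, φ A ∈ Subgroup.centralizer ({t} : Set (Matrix.GeneralLinearGroup (Fin (1 + m)) F)) := fun A => by
    rw [Subgroup.mem_centralizer_singleton_iff]
    refine Units.ext ?_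
    rw [Units.val_mul, Units.val_mul, hφv, show (t : Matrix (Fin (1 + m)) (Fin (1 + m)) F) = E D0 from rfl,
      ← map_mul, ← map_mul]
    simp [D0, Matrix.fromBlocks_multiply]
  have ht1 : t ≠ 1 := by
    intro h
    have h1 : E D0 = E 1 := (congrArg Units.val h :).trans (map_one E).symm
    have h2 := congrFun (congrFun (E.injective h1) (Sum.inl 0)) (Sum.inl 0)
    simp [D0] at h2
    exact hq2 (by linear_combination -h2)
  have ht : orderOf t = 2 := orderOf_eq_prime (Units.ext (by rw [pow_two, Units.val_mul, Units.val_one]; exact t.val_inv)) ht1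
  refine ⟨t, ht, ?_, ?_⟩
  · intro hc
    rw [Subgroup.mem_center_iff] at hc
    let W : Matrix (Fin 1) (Fin m) F := Matrix.of fun _ _ => 1
    let T : Matrix (Fin 1 ⊕ Fin m) (Fin 1 ⊕ Fin m) F := Matrix.fromBlocks 1 W 0 1
    let T' : Matrix (Fin 1 ⊕ Fin m) (Fin 1 ⊕ Fin m) F := Matrix.fromBlocks 1 (-W) 0 1
    let u : Matrix.GeneralLinearGroup (Fin (1 + m)) F :=
      ⟨E T, E T', by rw [← map_mul, Matrix.fromBlocks_multiply]; simp [Matrix.fromBlocks_one],
        by rw [← map_mul, Matrix.fromBlocks_multiply]; simp [Matrix.fromBlocks_one]⟩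
    have h1 : E (T * D0) = E (D0 * T) := by
      rw [map_mul, map_mul]
      exact (congrArg Units.val (hc u) :)
    have h2 := congrFun (congrFun (E.injective h1) (Sum.inl 0)) (Sum.inr ⟨0, by omega⟩)
    simp [T, W, D0, Matrix.fromBlocks_multiply] at h2
    exact hq2 (by linear_combination h2)
  set C := Subgroup.centralizer ({t} : Set (Matrix.GeneralLinearGroup (Fin (1 + m)) F)) with hC
  let φ' : Matrix.SpecialLinearGroup (Fin m) F →* C := φ.codRestrict C hφC
  have hφ'inj : Function.Injective φ' := fun A B h => hφinj (congrArg Subtype.val h :)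
  haveI hKn : φ'.range.Normal := by
    refine ⟨?_⟩
    rintro _ ⟨A, rfl⟩ g
    have blockdiag : ∀ g : C, ∃ a D, ((g : Matrix.GeneralLinearGroup (Fin (1 + m)) F) : Matrix (Fin (1 + m)) (Fin (1 + m)) F) =
        E (Matrix.fromBlocks a 0 0 D) := by
      intro g
      obtain ⟨M, hM⟩ := E.surjective ((g : Matrix.GeneralLinearGroup (Fin (1 + m)) F) : Matrix (Fin (1 + m)) (Fin (1 + m)) F)
      have h1 := (congrArg Units.val (Subgroup.mem_centralizer_singleton_iff.1 g.2) :)
      rw [Units.val_mul, Units.val_mul, ← hM, show (t : Matrix (Fin (1 + m)) (Fin (1 + m)) F) = E D0 from rfl,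
        ← map_mul, ← map_mul] at h1
      have h2 := E.injective h1
      rw [← Matrix.fromBlocks_toBlocks M] at h2 hM
      simp only [D0, Matrix.fromBlocks_multiply, Matrix.fromBlocks_inj, mul_zero, zero_mul, Matrix.mul_zero, Matrix.zero_mul, Matrix.mul_one, Matrix.one_mul, Matrix.mul_neg, Matrix.neg_mul, mul_neg, neg_mul,
        mul_one, one_mul, add_zero, zero_add] at h2
      refine ⟨M.toBlocks₁₁, M.toBlocks₂₂, hM.symm.trans ?_⟩
      have z1 : M.toBlocks₁₂ = 0 := Matrix.ext fun i j => by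
        have h3 := congrFun (congrFun h2.2.1 i) j
        try simp only [Matrix.neg_apply] at h3
        rw [Matrix.zero_apply]; exact mul_left_cancel₀ hq2 (by rw [mul_zero]; linear_combination h3)
      have z2 : M.toBlocks₂₁ = 0 := Matrix.ext fun i j => by
        have h3 := congrFun (congrFun h2.2.2.1 i) j
        try simp only [Matrix.neg_apply] at h3
        rw [Matrix.zero_apply]; exact mul_left_cancel₀ hq2 (by rw [mul_zero]; linear_combination -h3)
      rw [z1, z2]
    obtain ⟨a, D, hg⟩ := blockdiag g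
    obtain ⟨a', D', hg'⟩ := blockdiag g⁻¹
    have hDD : a * a' = 1 ∧ D * D' = 1 := by
      have h1 : ((g * g⁻¹ : C) : Matrix.GeneralLinearGroup (Fin (1 + m)) F) = 1 := by rw [mul_inv_cancel]; rfl
      have h2 := (congrArg Units.val h1 :)
      rw [Subgroup.coe_mul, Units.val_mul, hg, hg', ← map_mul, Units.val_one, ← map_one E] at h2
      have h3 := E.injective h2
      simp only [Matrix.fromBlocks_multiply, ← Matrix.fromBlocks_one, Matrix.fromBlocks_inj, mul_zero, zero_mul, Matrix.mul_zero, Matrix.zero_mul, Matrix.mul_one, Matrix.one_mul, Matrix.mul_neg, Matrix.neg_mul,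
        add_zero, zero_add] at h3
      exact ⟨h3.1, h3.2.2.2⟩
    refine ⟨⟨D * (A : Matrix (Fin m) (Fin m) F) * D', ?_⟩, Subtype.ext (Units.ext ?_)⟩
    · rw [Matrix.det_mul, Matrix.det_mul, A.2, mul_one, ← Matrix.det_mul, hDD.2, Matrix.det_one]
    · show E (Matrix.fromBlocks 1 0 0 (D * (A : Matrix (Fin m) (Fin m) F) * D')) = _
      rw [Subgroup.coe_mul, Subgroup.coe_mul, Units.val_mul, Units.val_mul, hg, hg']
      show _ = _ * E _ * _
      rw [← map_mul, ← map_mul]
      congr 1
      simp [Matrix.fromBlocks_multiply, hDD.1]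
  haveI hOn : (Cfsg.oddCore ↥C).Normal := FittingCores.pPrimeCore_normal 2
  let π := QuotientGroup.mk' (Cfsg.oddCore ↥C)
  let f : Matrix.SpecialLinearGroup (Fin m) F →* (φ'.range.map π : Subgroup (↥C ⧸ Cfsg.oddCore ↥C)) :=
    (π.comp φ').codRestrict _ fun A => ⟨φ' A, ⟨A, rfl⟩, rfl⟩
  have hfs : Function.Surjective f := by
    rintro ⟨_, _, ⟨A, rfl⟩, rfl⟩
    exact ⟨A, rfl⟩
  have hne : φ'.range.map π ≠ ⊥ := by
    intro h
    rw [Subgroup.map_eq_bot_iff, QuotientGroup.ker_mk'] at h
    let d : Fin m → F := fun i => if (i : ℕ) < 2 then -1 else 1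
    have hd : (Matrix.diagonal d).det = 1 := by
      obtain ⟨k, rfl⟩ : ∃ k, m = k + 2 := ⟨m - 2, by omega⟩
      simp [d, Matrix.det_diagonal, Fin.prod_univ_succ]
    let A : Matrix.SpecialLinearGroup (Fin m) F := ⟨Matrix.diagonal d, hd⟩
    have hA : orderOf A = 2 := by
      refine orderOf_eq_prime (Subtype.ext ?_) fun hA => ?_
      · rw [Matrix.SpecialLinearGroup.coe_pow, pow_two, Matrix.SpecialLinearGroup.coe_one]
        show Matrix.diagonal d * Matrix.diagonal d = 1
        rw [Matrix.diagonal_mul_diagonal, ← Matrix.diagonal_one]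
        congr 1
        funext i
        show d i * d i = 1
        simp only [d]
        split_ifs <;> ring
      · have h1 := congrFun (congrFun (congrArg Subtype.val hA :) (⟨0, by omega⟩ : Fin m)) ⟨0, by omega⟩
        simp [A, d] at h1
        exact hq2 (by linear_combination -h1)
    have h1 := (FittingCores.pPrimeCore_coprime (G := ↥C) 2).coprime_dvd_left
      (Subgroup.orderOf_dvd_natCard _ (h ⟨A, rfl⟩))
    rw [orderOf_injective φ' hφ'inj, hA] at h1
    exact absurd h1 (by decide)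
  haveI : Nontrivial ↥(φ'.range.map π) := (Subgroup.nontrivial_iff_ne_bot _).2 hne
  refine ⟨φ'.range.map π, ?_, Components.quasisimple_of_surjective hqs f hfs⟩
  exact Subgroup.Normal.isSubnormal (Subgroup.Normal.map hKn π (QuotientGroup.mk'_surjective _))

end Cfsg.Agent.S1340
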