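import Cfsg.Statements.S5737
import Cfsg.Agent.Lib.SzBinary.Main
import Cfsg.Agent.Lib.Suzuki.Minor

set_option autoImplicit false
open Cfsg

namespace Cfsg.Agent.S5737

open Cfsg.Agent

theorem binaryOn_map {G G' : Type*} [Group G] [Group G'] (e : G ≃* G') {K : Subgroup G}
    (hb : SzBinary.BinaryOn K) : SzBinary.BinaryOn (K.map e.toMonoidHom) := by
  intro n I J hn hp
  choose x hx using fun i => QuotientGroup.mk_surjective (I i)
  choose y hy using fun i => QuotientGroup.mk_surjective (J i)
  have key : ∀ g i, g • I i = J i ↔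
      e.symm g • ((e.symm (x i) : G) : G ⧸ K) = ((e.symm (y i) : G) : G ⧸ K) := fun g i => by
    rw [← hx i, ← hy i, MulAction.Quotient.smul_coe, MulAction.Quotient.smul_coe, QuotientGroup.eq,
      QuotientGroup.eq, Subgroup.mem_map_equiv]
    simp
  obtain ⟨g, hg⟩ := hb n (fun i => ((e.symm (x i) : G) : G ⧸ K)) (fun i => ((e.symm (y i) : G) : G ⧸ K)) hn
    fun i j hij => by
      obtain ⟨g, h1, h2⟩ := hp i j hij
      exact ⟨e.symm g, (key g i).1 h1, (key g j).1 h2⟩
  exact ⟨e g, fun i => (key _ i).2 (by simpa using hg i)⟩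

theorem center_map_eq {G : Type*} [Group G] (P : Subgroup G) :
    (Subgroup.center P).map P.subtype = P ⊓ Subgroup.centralizer (P : Set G) := by
  ext x
  constructor
  · rintro ⟨z, hz, rfl⟩
    exact ⟨z.2, fun y hy => congrArg Subtype.val (Subgroup.mem_center_iff.1 hz ⟨y, hy⟩)⟩
  · rintro ⟨hx, hc⟩
    exact ⟨⟨x, hx⟩, Subgroup.mem_center_iff.2 fun y => Subtype.ext (hc y y.2), rfl⟩

theorem inf_centralizer_map {G G' : Type*} [Group G] [Group G'] (e : G ≃* G') (R : Subgroup G) :
    (R.map e.toMonoidHom) ⊓ Subgroup.centralizer ((R.map e.toMonoidHom : Subgroup G') : Set G') =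
      (R ⊓ Subgroup.centralizer (R : Set G)).map e.toMonoidHom := by
  ext x
  simp only [Subgroup.mem_inf, Subgroup.mem_map_equiv, Subgroup.mem_centralizer_iff, SetLike.mem_coe]
  refine and_congr_right fun _ => ⟨fun hx y hy => ?_, fun hx y hy => ?_⟩
  · have := congrArg e.symm (hx (e y) (by simpa using hy))
    simpa using this
  · exact e.symm.injective (by simpa using hx _ hy)


/-- Let G = Sz(q) be a Suzuki group, q = 2^(2a+1) with a ≥ 1 (realised inside Sp₄ over the field with q elements), and let H be a proper subgroup of G. Then the action of G on the cosets of H is binary if and only if H is trivial or H is the centre of a Sylow 2-subgroup of G. Here an action is binary (relational complexity 2) when, for every n ≥ 2 and all n-tuples I, J of points, if for every pair of positions some group element carries the corresponding pair of entries of I to those of J, then a single group element carries I to J. -/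
theorem result {F : Type*} [Field F] [Fintype F] (a : ℕ) (ha : 1 ≤ a) (hF : Fintype.card F = 2 ^ (2 * a + 1))
    (H : Subgroup (Cfsg.Lie.Sz F (2 ^ (a + 1)))) (hH : H ≠ ⊤) :
    (∀ (n : ℕ) (I J : Fin n → (Cfsg.Lie.Sz F (2 ^ (a + 1))) ⧸ H), 2 ≤ n →
        (∀ i j : Fin n, i ≠ j → ∃ g : (Cfsg.Lie.Sz F (2 ^ (a + 1))), g • I i = J i ∧ g • I j = J j) → ∃ g : (Cfsg.Lie.Sz F (2 ^ (a + 1))), ∀ i, g • I i = J i) ↔
      (H = ⊥ ∨ ∃ P : Sylow 2 (Cfsg.Lie.Sz F (2 ^ (a + 1))), H = (Subgroup.center (P : Subgroup (Cfsg.Lie.Sz F (2 ^ (a + 1))))).map (P : Subgroup (Cfsg.Lie.Sz F (2 ^ (a + 1)))).subtype) := by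
  have h : Suzuki.SzField F a := ⟨ha, hF⟩
  set e := Suzuki.minorEquiv h with he
  have hes : Function.Surjective e.toMonoidHom := e.surjective
  haveI : Fact (Nat.Prime 2) := ⟨Nat.prime_two⟩
  have hcenR : Suzuki.rootGroup h ⊓ Subgroup.centralizer ((Suzuki.rootGroup h : Subgroup (Cfsg.Sz F a)) :
      Set (Cfsg.Sz F a)) = Suzuki.zGroup h := by
    rw [← center_map_eq, Suzuki.center_rootGroup h, Subgroup.map_subgroupOf_eq_of_le (Suzuki.zGroup_le h)]
  constructor
  · intro hb
    rcases eq_or_ne H ⊥ with hbot | hbot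
    · exact Or.inl hbot
    right
    set K := H.comap e.toMonoidHom with hK
    have hHK : K.map e.toMonoidHom = H := Subgroup.map_comap_eq_self_of_surjective e.surjective H
    have hcrit : SzBinary.Crit K :=
      SzBinary.crit_map e (fun x => Iff.rfl) (SzBinary.crit_of_binary hb)
    have hKbot : K ≠ ⊥ := fun e0 => hbot (by rw [← hHK, e0, Subgroup.map_bot])
    have hKtop : K ≠ ⊤ := fun e0 => hH (by rw [← hHK, e0, Subgroup.map_top_of_surjective e.toMonoidHom e.surjective])
    obtain ⟨c, hc⟩ := SzBinary.eq_zGroup_of_crit h hcrit hKbot hKtop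
    refine ⟨(c⁻¹ • Suzuki.rootSylow h).mapSurjective (f := e.toMonoidHom) hes, ?_⟩
    set ψ := (MulAut.conj c⁻¹).trans e with hψ
    have hP : (((c⁻¹ • Suzuki.rootSylow h).mapSurjective (f := e.toMonoidHom) hes : Sylow 2 _) :
        Subgroup (Cfsg.Lie.Sz F (2 ^ (a + 1)))) = (Suzuki.rootGroup h).map ψ.toMonoidHom := by
      rw [Sylow.coe_mapSurjective]
      show ((Suzuki.rootGroup h).map (MulAut.conj c⁻¹).toMonoidHom).map e.toMonoidHom = _
      rw [Subgroup.map_map]
      rfl
    rw [center_map_eq, hP, inf_centralizer_map, hcenR, ← hc, ← hHK]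
    show _ = Subgroup.map ψ.toMonoidHom (K.map (MulAut.conj c).toMonoidHom)
    rw [Subgroup.map_map]
    congr 1
    ext x
    simp [hψ, mul_assoc]
  · rintro (rfl | ⟨P, rfl⟩)
    · exact SzBinary.binary_bot
    obtain ⟨x, hx⟩ := MulAction.exists_smul_eq (Cfsg.Lie.Sz F (2 ^ (a + 1)))
      ((Suzuki.rootSylow h).mapSurjective (f := e.toMonoidHom) hes) P
    subst hx
    set ψ := e.trans (MulAut.conj x) with hψ
    have hP : ((x • (Suzuki.rootSylow h).mapSurjective (f := e.toMonoidHom) hes : Sylow 2 _) :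
        Subgroup (Cfsg.Lie.Sz F (2 ^ (a + 1)))) = (Suzuki.rootGroup h).map ψ.toMonoidHom := by
      show (((Suzuki.rootSylow h).mapSurjective (f := e.toMonoidHom) hes : Sylow 2 _) :
        Subgroup (Cfsg.Lie.Sz F (2 ^ (a + 1)))).map (MulAut.conj x).toMonoidHom = _
      rw [Sylow.coe_mapSurjective, Subgroup.map_map]
      rfl
    rw [center_map_eq, hP, inf_centralizer_map, hcenR]
    exact binaryOn_map ψ (SzBinary.binary_zGroup h)

end Cfsg.Agent.S5737
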