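import Cfsg.Statements.S4646
import Cfsg.Agent.Lib.BrauerPairs.Main
import Cfsg.Agent.Lib.Blocks.Subsections

set_option autoImplicit false
open Cfsg

namespace Cfsg.Agent.S4646

open Cfsg Cfsg.Agent.BrauerPairs Cfsg.Agent.Blocks Cfsg.Agent.Char

/-- For a finite group G, a prime p and a maximal ideal M of the algebraic integers containing p: the principal block of G is nilpotent if and only if its p-regular rank is 1 (the trivial Brauer character is its only irreducible Brauer character). -/
theorem result {G : Type*} [Group G] [Finite G] (p : ℕ) [Fact p.Prime] (M : Ideal Cfsg.AlgInt) (hM : Cfsg.IsPModular p M) : Cfsg.IsNilpotentBlock p M (Cfsg.principalBlock M G) ↔ Cfsg.blockRank p (Cfsg.principalBlock M G) = 1 := by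
  classical
  haveI := IsPModular.isPrime hM
  haveI : Fintype G := Fintype.ofFinite G
  rw [← pNilpotent_iff_nilpotent_principal hM]
  have hp : p.Prime := Fact.out
  set B := principalBlock M G with hBdef
  have hB : IsPBlock M B := isPBlock_principalBlock M G
  constructor
  · intro h
    obtain ⟨N, hN, hc, hk⟩ := PBasic.hasNormalPComplement_iff.1 h
    have hN' : ¬ p ∣ Nat.card N := (hp.coprime_iff_not_dvd).1 (Nat.coprime_comm.1 hc)
    haveI := hN
    rw [hBdef, principalBlock_eq_trivialOn hM N hN' hk] at *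
    set e : G → ℂ := pRegularPart p (fun _ => (1 : ℂ)) with he
    have hne : e ≠ 0 := fun h0 => by
      have := congrFun h0 1
      simp [he, pRegularPart, IsPRegular, hp.ne_one] at this
    have hreg : ∀ s : G, IsPRegular p s → s ∈ N := by
      intro s hs
      obtain ⟨k, hk⟩ := hk
      rw [← QuotientGroup.eq_one_iff]
      have h1 : orderOf (s : G ⧸ N) ∣ orderOf s := orderOf_map_dvd (QuotientGroup.mk' N) s
      have h2 : orderOf (s : G ⧸ N) ∣ p ^ k := hk ▸ orderOf_dvd_natCard _
      obtain ⟨i, -, hi⟩ := (Nat.dvd_prime_pow hp).1 h2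
      rcases Nat.eq_zero_or_pos i with rfl | hi0
      · exact orderOf_eq_one_iff.1 (by simpa using hi)
      · exact absurd ((dvd_pow_self p hi0.ne').trans (hi ▸ h1)) hs
    have hspan : Submodule.span ℂ ((fun χ : IrrCharacter G => pRegularPart p (χ : G → ℂ)) ''
        {χ : IrrCharacter G | ∀ n ∈ N, (χ : G → ℂ) n = (χ : G → ℂ) 1}) = ℂ ∙ e := by
      refine le_antisymm (Submodule.span_le.2 ?_) (Submodule.span_le.2 ?_)
      · rintro _ ⟨χ, hχ, rfl⟩
        refine Submodule.mem_span_singleton.2 ⟨(χ : G → ℂ) 1, funext fun s => ?_⟩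
        by_cases hs : IsPRegular p s
        · simp [he, pRegularPart, hs, hχ s (hreg s hs)]
        · simp [he, pRegularPart, hs]
      · rw [Set.singleton_subset_iff]
        exact Submodule.subset_span ⟨principal G, fun _ _ => rfl, rfl⟩
    rw [blockRank, hspan, finrank_span_singleton hne]
  · intro h1
    have hval : ∀ χ ∈ B, ∀ s : G, IsPRegular p s → (χ : G → ℂ) s = (χ : G → ℂ) 1 := by
      intro χ hχ s hs
      set S := Submodule.span ℂ ((fun χ : IrrCharacter G => pRegularPart p (χ : G → ℂ)) '' B)
      have m1 : pRegularPart p (χ : G → ℂ) ∈ S := Submodule.subset_span ⟨χ, hχ, rfl⟩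
      have m2 : pRegularPart p (principal G : G → ℂ) ∈ S :=
        Submodule.subset_span ⟨_, principal_mem_principalBlock, rfl⟩
      have hne : (⟨_, m2⟩ : S) ≠ 0 := fun h0 => by
        have := congrFun (congrArg Subtype.val h0) 1
        simp [pRegularPart, IsPRegular, hp.ne_one] at this
        exact irr_one_ne_zero _ this
      obtain ⟨c, hc⟩ := exists_smul_eq_of_finrank_eq_one h1 hne ⟨_, m1⟩
      have hc' : ∀ g : G, IsPRegular p g → c = (χ : G → ℂ) g := fun g hg => by
        have h2 := congrFun (congrArg Subtype.val hc) g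
        simpa [pRegularPart, hg, Char.principal] using h2
      rw [← hc' s hs, ← hc' 1 (by simp [IsPRegular, hp.ne_one])]
    choose K hKn hK hKmul using fun χ : IrrCharacter G =>
      Char.IsCharacter.exists_kernel (irr_isCharacter χ)
    set N : Subgroup G := ⨅ χ ∈ B, K χ with hN
    have hNn : N.Normal := Subgroup.normal_iInf_normal fun χ =>
      Subgroup.normal_iInf_normal fun _ => hKn χ
    have hmem : ∀ g, g ∈ N ↔ ∀ χ ∈ B, (χ : G → ℂ) g = (χ : G → ℂ) 1 := fun g => by
      simp [hN, Subgroup.mem_iInf, hK]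
    haveI := hNn
    refine PBasic.hasNormalPComplement_iff.2 ⟨N, hNn, ?_, ?_⟩
    · rw [Nat.coprime_comm, hp.coprime_iff_not_dvd]
      intro hdvd
      obtain ⟨x, hx⟩ := exists_prime_orderOf_dvd_card' p hdvd
      have hxo : orderOf (x : G) = p ^ 1 := by rw [Subgroup.orderOf_coe, hx, pow_one]
      have hne : (x : G) ≠ 1 := fun h => hp.ne_one (by rw [h, orderOf_one] at hxo; simpa using hxo.symm)
      have h0 := blockPair_eq_zero_of_pPart hM hB
        (g := (x : G)) (h := 1) (x := (x : G)) (y := 1)
        ⟨1, by simp, by simp, ⟨1, hxo⟩, by simp [hp.ne_one]⟩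
        ⟨1, by simp, by simp, ⟨0, by simp⟩, by simp [hp.ne_one]⟩
        (fun h => hne (isConj_one_left.1 h))
      unfold blockPair at h0
      rw [Finset.sum_congr rfl (g := fun χ : IrrCharacter G =>
        ((charDegree (χ : G → ℂ) ^ 2 : ℕ) : ℂ)) fun χ hχ => by
          rw [(hmem x).1 x.2 χ (Finset.mem_filter.1 hχ).2, conj_irr_one, irr_one_eq_charDegree,
            Nat.cast_pow, pow_two],
        ← Nat.cast_sum, Nat.cast_eq_zero, Finset.sum_eq_zero_iff] at h0
      exact (charDegree_pos (principal G)).ne' (pow_eq_zero_iff two_ne_zero |>.1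
        (h0 _ (Finset.mem_filter.2 ⟨Finset.mem_univ _, principal_mem_principalBlock⟩)))
    · refine IsPGroup.iff_card.1 (?_ : IsPGroup p (G ⧸ N))
      intro q
      obtain ⟨g, rfl⟩ := QuotientGroup.mk_surjective q
      refine ⟨(orderOf g).factorization p, ?_⟩
      rw [← QuotientGroup.mk_pow, QuotientGroup.eq_one_iff]
      refine (hmem _).2 fun χ hχ => hval χ hχ _ ?_
      rw [IsPRegular, orderOf_pow' g (pow_ne_zero _ hp.ne_zero),
        Nat.gcd_eq_right (Nat.ordProj_dvd _ _)]
      exact Nat.not_dvd_ordCompl hp (orderOf_pos g).ne'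

end Cfsg.Agent.S4646
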