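import Cfsg.Statements.S0867
import Cfsg.Agent.Lib.Char.ExtensionChar
-- import your own Cfsg.Agent.* helpers here

set_option autoImplicit false
open Cfsg

namespace Cfsg.Agent.S0867

/-- Let N be a normal subgroup of the finite group G and ϑ an irreducible character of N of degree d, invariant under conjugation by G, such that the index of N is coprime to the product of d and the determinantal order of ϑ. Then there is an irreducible character χ of G restricting to ϑ whose determinantal order equals that of ϑ, and χ is the only irreducible character of G restricting to ϑ whose determinantal order is coprime to the index of N. -/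
theorem result {G : Type*} [Group G] [Finite G] (N : Subgroup G) [hN : N.Normal] (ϑ : N → ℂ) (hϑ : Cfsg.IsIrrCharacter N ϑ) (hinv : ∀ (g : G) (n : N), ϑ ⟨g * n * g⁻¹, hN.conj_mem (n : G) n.2 g⟩ = ϑ n) (d : ℕ) (hd : ϑ 1 = d) (hcop : Nat.Coprime N.index (Cfsg.detOrder ϑ * d)) : ∃ χ : G → ℂ, (Cfsg.IsIrrCharacter G χ ∧ (∀ n : N, χ n = ϑ n) ∧ Cfsg.detOrder χ = Cfsg.detOrder ϑ) ∧ ∀ χ' : G → ℂ, Cfsg.IsIrrCharacter G χ' → (∀ n : N, χ' n = ϑ n) → Nat.Coprime N.index (Cfsg.detOrder χ') → χ' = χ := by
  obtain ⟨m, σ, hσ, rfl, hm, hi⟩ := Cfsg.Agent.CharExtend.exists_setup hϑ hinv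
  have hdm : d = m := Nat.cast_injective (hd.symm.trans hm)
  subst hdm
  rw [Cfsg.Agent.CharExtend.detOrder_eq] at hcop ⊢
  obtain ⟨hco, hcd⟩ := Nat.coprime_mul_iff_right.mp hcop
  have hdinv : ∀ (g : G) (n : N), Cfsg.Agent.CharExtend.detHom σ (Cfsg.Agent.Char.conjHom N g n) =
      Cfsg.Agent.CharExtend.detHom σ n := fun g n => by
    obtain ⟨e, he⟩ := Cfsg.Agent.CharExtend.proj_surjective σ hi g
    subst he
    apply Units.ext
    have h := congrArg LinearMap.det (e.2 n)
    rw [map_mul, map_mul, mul_comm] at h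
    exact (mul_right_cancel₀ (LinearMap.isUnit_det _ (e : G × (Module.End ℂ (Fin d → ℂ))ˣ).2.isUnit).ne_zero h).symm
  obtain ⟨μ, hμ, hμo⟩ := Cfsg.Agent.CharExtend.exists_linear_extension _ hdinv hco
  obtain ⟨χ₁, hχ₁, hres₁⟩ := Cfsg.Agent.CharExtend.exists_extension_det hϑ hinv hd hcd μ
    (fun n => by rw [Cfsg.Agent.CharExtend.detChar_eq, hμ n])
  obtain ⟨η, hη, -⟩ := Cfsg.Agent.CharExtend.exists_rep_of_char σ
    (Cfsg.Agent.Char.IsIrrCharacter.isCharacter hχ₁) hres₁
  have hc : ∀ n : N, (μ / Cfsg.Agent.CharExtend.detHom η) (n : G) = 1 := fun n => by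
    rw [MonoidHom.div_apply, div_eq_one, hμ]
    exact Units.ext (show LinearMap.det (σ n) = LinearMap.det (η n) by rw [hη])
  obtain ⟨c, hc2⟩ := exists_pow_eq_self_of_coprime
    (Nat.Coprime.coprime_dvd_right (Cfsg.Agent.CharExtend.orderOf_dvd_index _ hc) hcd.symm)
  set lam := (μ / Cfsg.Agent.CharExtend.detHom η) ^ c with hlam
  let η' : Representation ℂ G (Fin d → ℂ) :=
    { toFun := fun g => (lam g : ℂ) • η g
      map_one' := by simp
      map_mul' := fun a b => by rw [map_mul, map_mul, Units.val_mul, smul_mul_smul_comm] }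
  have hη' : ∀ n : N, η' n = σ n := fun n => by
    show (lam n : ℂ) • η n = σ n
    rw [hlam, MonoidHom.pow_apply, hc, one_pow, Units.val_one, one_smul, hη]
  have hdet : Cfsg.Agent.CharExtend.detHom η' = μ := by
    rw [Cfsg.Agent.CharExtend.det_smul_rep η η' lam fun g => rfl, Module.finrank_fin_fun]
    refine MonoidHom.ext fun g => ?_
    have e := DFunLike.congr_fun hc2 g
    simp only [hlam, MonoidHom.mul_apply, MonoidHom.pow_apply, MonoidHom.div_apply] at e ⊢
    rw [← pow_mul, mul_comm c d, pow_mul, e, div_mul_cancel]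
  refine ⟨η'.character, ⟨(Cfsg.Agent.CharExtend.exists_char_of_rep hη').1,
    (Cfsg.Agent.CharExtend.exists_char_of_rep hη').2,
    by rw [Cfsg.Agent.CharExtend.detOrder_eq, hdet, hμo]⟩, ?_⟩
  intro χ hχ hχres hχcop
  obtain ⟨η'', hη'', rfl⟩ := Cfsg.Agent.CharExtend.exists_rep_of_char σ
    (Cfsg.Agent.Char.IsIrrCharacter.isCharacter hχ) hχres
  obtain ⟨k, hkN, hk⟩ := Cfsg.Agent.CharExtend.exists_linear_of_extensions σ η' η'' hη' hη''
  rw [Cfsg.Agent.CharExtend.detOrder_eq] at hχcop
  have e : Cfsg.Agent.CharExtend.detHom η'' = μ :=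
    Cfsg.Agent.CharExtend.linear_unique (N := N) μ _ (fun n => by
      rw [hμ]
      exact Units.ext (show LinearMap.det (σ n) = LinearMap.det (η'' n) by rw [hη'']))
      (by rw [hμo]; exact hco) hχcop
  rw [Cfsg.Agent.CharExtend.det_smul_rep η' η'' k hk, hdet, Module.finrank_fin_fun] at e
  have e1 : k ^ d = 1 := MonoidHom.ext fun g => by simpa using DFunLike.congr_fun e g
  have hk1 := Cfsg.Agent.CharExtend.linear_eq_one k hkN
    (fun g => by simpa using DFunLike.congr_fun e1 g) hcd.symm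
  funext g
  simp only [Representation.character, hk g, hk1 g, Units.val_one, one_smul]

end Cfsg.Agent.S0867
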