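import Cfsg.Statements.S0862
import Cfsg.Agent.Lib.Char.ExtensionChar
-- import your own Cfsg.Agent.* helpers here

set_option autoImplicit false
open Cfsg

namespace Cfsg.Agent.S0862

/-- Let N be a normal subgroup of the finite group G and ϑ an irreducible character of N of degree d coprime to the index of N, which is the restriction of some irreducible character of G. Let μ be a character of G of degree 1 whose restriction to N is the determinantal character of ϑ. Then there is exactly one irreducible character χ of G restricting to ϑ whose determinantal character is μ. -/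
theorem result {G : Type*} [Group G] [Finite G] (N : Subgroup G) [N.Normal] (ϑ : N → ℂ) (hϑ : Cfsg.IsIrrCharacter N ϑ) (d : ℕ) (hd : ϑ 1 = d) (hcop : Nat.Coprime N.index d) (hext : ∃ η : G → ℂ, Cfsg.IsIrrCharacter G η ∧ (∀ n : N, η n = ϑ n)) (μ : G → ℂ) (hμ : Cfsg.IsCharacter G μ ∧ μ 1 = 1) (hμN : ∀ n : N, μ n = Cfsg.detChar ϑ n) : ∃! χ : G → ℂ, Cfsg.IsIrrCharacter G χ ∧ (∀ n : N, χ n = ϑ n) ∧ Cfsg.detChar χ = μ := by
  classical
  obtain ⟨η₀, hη₀, hres⟩ := hext
  have hinv : ∀ (g : G) (n : N), ϑ ⟨g * n * g⁻¹, ‹N.Normal›.conj_mem (n : G) n.2 g⟩ = ϑ n := fun g n => by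
    rw [← hres, ← hres]
    exact Cfsg.Agent.Char.IsCharacter.isClassFunction (Cfsg.Agent.Char.IsIrrCharacter.isCharacter hη₀) n g
  obtain ⟨m, σ, hσ, rfl, hm, hi⟩ := Cfsg.Agent.CharExtend.exists_setup hϑ hinv
  have hdm : d = m := Nat.cast_injective (hd.symm.trans hm)
  subst hdm
  obtain ⟨η, hη, -⟩ := Cfsg.Agent.CharExtend.exists_rep_of_char σ
    (Cfsg.Agent.Char.IsIrrCharacter.isCharacter hη₀) hres
  obtain ⟨f, rfl⟩ := Cfsg.Agent.Char.exists_hom_of_degree_one hμ.1 hμ.2
  have hc : ∀ n : N, (f / Cfsg.Agent.CharExtend.detHom η) (n : G) = 1 := fun n => by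
    have e := hμN n
    rw [Cfsg.Agent.CharExtend.detChar_eq] at e
    rw [MonoidHom.div_apply, div_eq_one]
    exact Units.ext (e.trans (show LinearMap.det (σ n) = LinearMap.det (η n) by rw [hη]))
  obtain ⟨c, hc2⟩ := exists_pow_eq_self_of_coprime
    (Nat.Coprime.coprime_dvd_right (Cfsg.Agent.CharExtend.orderOf_dvd_index _ hc) hcop.symm)
  set lam := (f / Cfsg.Agent.CharExtend.detHom η) ^ c with hlam
  have hlamN : ∀ n : N, lam n = 1 := fun n => by
    rw [hlam, MonoidHom.pow_apply, hc, one_pow]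
  let η' : Representation ℂ G (Fin d → ℂ) :=
    { toFun := fun g => (lam g : ℂ) • η g
      map_one' := by simp
      map_mul' := fun a b => by rw [map_mul, map_mul, Units.val_mul, smul_mul_smul_comm] }
  have hη' : ∀ n : N, η' n = σ n := fun n => by
    show (lam n : ℂ) • η n = σ n
    rw [hlamN, Units.val_one, one_smul, hη]
  have hdet : Cfsg.Agent.CharExtend.detHom η' = f := by
    rw [Cfsg.Agent.CharExtend.det_smul_rep η η' lam fun g => rfl, Module.finrank_fin_fun]
    refine MonoidHom.ext fun g => ?_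
    have e := DFunLike.congr_fun hc2 g
    simp only [hlam, MonoidHom.mul_apply, MonoidHom.pow_apply, MonoidHom.div_apply] at e ⊢
    rw [← pow_mul, mul_comm c d, pow_mul, e, div_mul_cancel]
  refine ⟨η'.character, ⟨(Cfsg.Agent.CharExtend.exists_char_of_rep hη').1,
    (Cfsg.Agent.CharExtend.exists_char_of_rep hη').2, by rw [Cfsg.Agent.CharExtend.detChar_eq, hdet]⟩, ?_⟩
  rintro χ ⟨hχ, hχres, hχdet⟩
  obtain ⟨η'', hη'', rfl⟩ := Cfsg.Agent.CharExtend.exists_rep_of_char σ
    (Cfsg.Agent.Char.IsIrrCharacter.isCharacter hχ) hχres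
  obtain ⟨k, hkN, hk⟩ := Cfsg.Agent.CharExtend.exists_linear_of_extensions σ η' η'' hη' hη''
  rw [Cfsg.Agent.CharExtend.detChar_eq] at hχdet
  have e := Cfsg.Agent.CharExtend.detHom_unique hχdet
  rw [Cfsg.Agent.CharExtend.det_smul_rep η' η'' k hk, hdet, Module.finrank_fin_fun] at e
  have e1 : k ^ d = 1 := MonoidHom.ext fun g => by simpa using DFunLike.congr_fun e g
  have hk1 := Cfsg.Agent.CharExtend.linear_eq_one k hkN
    (fun g => by simpa using DFunLike.congr_fun e1 g) hcop.symm
  funext g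
  simp only [Representation.character, hk g, hk1 g, Units.val_one, one_smul]

end Cfsg.Agent.S0862
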