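import Cfsg.Statements.S4455
import Cfsg.Agent.Lib.Char.ThompsonComplement
import Cfsg.Agent.Lib.Char.Degree
import Cfsg.Agent.Lib.Char.Gallagher
import Cfsg.Agent.Lib.Char.Multiplicity
import Cfsg.Agent.Lib.Transfer.Basic
import Cfsg.Agent.S0862

set_option autoImplicit false
set_option linter.style.haveILetI false
open Cfsg

namespace Cfsg.Agent.S4455

open Cfsg.Agent.Char

variable {G : Type*} [Group G] [Finite G]

/-- A linear character of the `p`-residual has order prime to `p`. -/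
theorem not_dvd_orderOf {p : ℕ} [hp : Fact p.Prime] (c : Cfsg.pResidual p G →* ℂˣ) :
    ¬ p ∣ orderOf c := by
  have hpos : orderOf c ≠ 0 := by
    intro h
    rw [orderOf_eq_zero_iff'] at h
    refine h (Nat.card (Cfsg.pResidual p G)) Nat.card_pos (MonoidHom.ext fun y => ?_)
    rw [MonoidHom.pow_apply, ← map_pow, pow_card_eq_one', map_one, MonoidHom.one_apply]
  set q := orderOf c with hq
  set m := q / p ^ q.factorization p with hm
  have hcm : c ^ m = 1 := by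
    have hle : (⊤ : Subgroup (Cfsg.pResidual p G)) ≤ (c ^ m).ker := by
      rw [← Cfsg.Agent.PBasic.pResidual_idem p G]
      refine (Subgroup.closure_le _).2 ?_
      intro y hy
      rw [SetLike.mem_coe, MonoidHom.mem_ker, MonoidHom.pow_apply]
      refine Cfsg.Agent.CharExtend.eq_one_of_pow_coprime (a := p ^ q.factorization p)
        (b := orderOf y) ?_ ?_ ((Nat.Coprime.symm hy).pow_left _)
      · rw [← pow_mul, hm, Nat.div_mul_cancel (Nat.ordProj_dvd q p), hq, ← MonoidHom.pow_apply,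
          pow_orderOf_eq_one, MonoidHom.one_apply]
      · rw [← pow_mul, mul_comm, pow_mul, ← map_pow, pow_orderOf_eq_one, map_one, one_pow]
    exact MonoidHom.ext fun y => hle (Subgroup.mem_top y)
  exact fun h => Nat.not_dvd_ordCompl hp.out hpos (h.trans (orderOf_dvd_of_pow_eq_one hcm))

theorem index_pow {p : ℕ} [hp : Fact p.Prime] {d : ℕ} (h : ¬ p ∣ d) :
    (Cfsg.pResidual p G).index.Coprime d := by
  obtain ⟨k, hk⟩ := Cfsg.Agent.PBasic.exists_index_pow_of_isPGroup_quotient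
    (Cfsg.Agent.PBasic.quotient_pResidual_isPGroup p G)
  rw [hk]
  exact (hp.out.coprime_iff_not_dvd.2 h).pow_left k


/-- Fix a prime p and a finite group G. Let s be the sum of χ(1)² over the irreducible characters χ of G whose degree is not divisible by p and whose determinantal order o(χ) is not divisible by p. Then the order of O^p(G), the subgroup generated by the elements of order prime to p, is congruent to s modulo p. -/
theorem result {G : Type*} [Group G] [Finite G] (p : ℕ) (hp : p.Prime) : (Nat.card (Cfsg.pResidual p G) : ℤ) ≡ (∑ᶠ χ ∈ {χ : Cfsg.IrrCharacter G | ¬ p ∣ Cfsg.charDegree (χ : G → ℂ) ∧ ¬ p ∣ Cfsg.detOrder (χ : G → ℂ)}, (Cfsg.charDegree (χ : G → ℂ) : ℤ) ^ 2) [ZMOD p] := by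
  classical
  haveI : Fact p.Prime := ⟨hp⟩
  haveI : Fintype G := Fintype.ofFinite G
  set K := Cfsg.pResidual p G with hKdef
  haveI : K.Normal := Cfsg.Agent.PBasic.pResidual_normal_inst p G
  haveI : Fintype K := Fintype.ofFinite K
  haveI : Fintype (Cfsg.IrrCharacter G) := Fintype.ofFinite _
  haveI : Fintype (Cfsg.IrrCharacter K) := Fintype.ofFinite _
  let dG : Cfsg.IrrCharacter G → ℕ := fun χ => Cfsg.charDegree (χ : G → ℂ)
  let dK : Cfsg.IrrCharacter K → ℕ := fun θ => Cfsg.charDegree (θ : K → ℂ)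
  let X : Finset (Cfsg.IrrCharacter G) := Finset.univ.filter fun χ =>
    ¬ p ∣ dG χ ∧ ¬ p ∣ Cfsg.detOrder (χ : G → ℂ)
  -- the action on the characters of the residual
  obtain ⟨P⟩ : Nonempty (Sylow p G) := inferInstance
  letI : MulAction P (Cfsg.IrrCharacter K) :=
    { smul := fun g θ => ⟨conjChar K ((g : G)⁻¹) θ, isIrrCharacter_conjChar K θ.2 _⟩
      one_smul := fun θ => Subtype.ext (by
        show conjChar K (((1 : P) : G)⁻¹) (θ : K → ℂ) = θ
        rw [OneMemClass.coe_one, inv_one, conjChar_one])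
      mul_smul := fun a b θ => Subtype.ext (by
        show conjChar K (((a * b : P) : G)⁻¹) (θ : K → ℂ) =
          conjChar K ((a : G)⁻¹) (conjChar K ((b : G)⁻¹) (θ : K → ℂ))
        rw [← conjChar_mul, Subgroup.coe_mul, mul_inv_rev]) }
  have hfix : ∀ θ : Cfsg.IrrCharacter K, θ ∈ MulAction.fixedPoints P (Cfsg.IrrCharacter K) ↔
      ∀ g : G, conjChar K g (θ : K → ℂ) = θ := by
    intro θ
    constructor
    · intro h g
      obtain ⟨a, ha, b, hb, rfl⟩ := Subgroup.mem_sup_of_normal_right.1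
        ((Cfsg.Agent.PBasic.sylow_sup_pResidual P).ge (Subgroup.mem_top g))
      have h1 : conjChar K a (θ : K → ℂ) = θ := by
        have := congrArg Subtype.val (h (⟨a, ha⟩⁻¹ : P))
        have e : conjChar K ((a⁻¹)⁻¹) (θ : K → ℂ) = θ := this
        rwa [inv_inv] at e
      rw [conjChar_mul, h1, conjChar_of_mem K
        (IsCharacter.isClassFunction (IsIrrCharacter.isCharacter θ.2)) hb]
    · exact fun h q => Subtype.ext (h _)
  have hwd : ∀ (g : P) (θ : Cfsg.IrrCharacter K), dK (g • θ) ^ 2 = dK θ ^ 2 := fun g θ => by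
    congr 1
    apply Nat.cast_injective (R := ℂ)
    show (Cfsg.charDegree ((g • θ : Cfsg.IrrCharacter K) : K → ℂ) : ℂ) = Cfsg.charDegree (θ : K → ℂ)
    rw [← Cfsg.Agent.CharX.irr_deg, ← Cfsg.Agent.CharX.irr_deg]
    show (θ : K → ℂ) (conjHom K _ 1) = _
    rw [map_one]
  let Y : Finset (Cfsg.IrrCharacter K) := Finset.univ.filter fun θ =>
    (∀ g : G, conjChar K g (θ : K → ℂ) = θ) ∧ ¬ p ∣ dK θ
  -- the correspondence
  have hres : ∀ χ ∈ X, ∃ θ ∈ Y, ∀ n : K, (χ : G → ℂ) n = (θ : K → ℂ) n := by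
    intro χ hχ
    obtain ⟨hd, -⟩ := (Finset.mem_filter.1 hχ).2
    obtain ⟨θ, hθ⟩ := exists_restrict_constituent χ.2 K
    obtain ⟨e, he, hed⟩ := exists_ratio_dvd_index K χ.2 θ.2 hθ
    have hdeg : dG χ = e * dK θ := by
      apply Nat.cast_injective (R := ℂ)
      show (Cfsg.charDegree (χ : G → ℂ) : ℂ) = _
      rw [Nat.cast_mul, ← Cfsg.Agent.CharX.irr_deg, he]
      show _ = (e : ℂ) * (Cfsg.charDegree (θ : K → ℂ) : ℂ)
      rw [← Cfsg.Agent.CharX.irr_deg]
    have he1 : e = 1 := Nat.dvd_one.1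
      ((index_pow hd : K.index.Coprime (dG χ)) ▸ Nat.dvd_gcd hed ⟨_, hdeg⟩)
    rw [he1, Nat.cast_one, one_mul] at he
    have hrt : (fun n : K => (χ : G → ℂ) n) = (θ : K → ℂ) :=
      eq_of_constituent_degree (IsCharacter.restrict (IsIrrCharacter.isCharacter χ.2) K) θ.2 hθ
        (by simpa using he)
    refine ⟨θ, Finset.mem_filter.2 ⟨Finset.mem_univ _, conjChar_restrict K
      (IsCharacter.isClassFunction (IsIrrCharacter.isCharacter χ.2)) (congrFun hrt), ?_⟩, congrFun hrt⟩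
    rwa [hdeg, he1, one_mul] at hd
  choose r hrY hr using hres
  have huniq : ∀ χ ∈ X, ∀ χ' ∈ X, ∀ θ : Cfsg.IrrCharacter K,
      (∀ n : K, (χ : G → ℂ) n = (θ : K → ℂ) n) → (∀ n : K, (χ' : G → ℂ) n = (θ : K → ℂ) n) →
        χ = χ' := by
    intro χ hχ χ' hχ' θ h h'
    obtain ⟨hd, ho⟩ := (Finset.mem_filter.1 hχ).2
    obtain ⟨-, ho'⟩ := (Finset.mem_filter.1 hχ').2
    obtain ⟨m, σ, hσ, hσc⟩ := θ.2
    haveI := hσ
    obtain ⟨η, hη, hηc⟩ := Cfsg.Agent.CharExtend.exists_rep_of_char σ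
      (IsIrrCharacter.isCharacter χ.2) (fun n => (h n).trans (congrFun hσc n).symm)
    obtain ⟨η', hη', hηc'⟩ := Cfsg.Agent.CharExtend.exists_rep_of_char σ
      (IsIrrCharacter.isCharacter χ'.2) (fun n => (h' n).trans (congrFun hσc n).symm)
    have e := Cfsg.Agent.CharExtend.linear_unique (N := K) (Cfsg.Agent.CharExtend.detHom η)
      (Cfsg.Agent.CharExtend.detHom η') (fun n => Units.ext (by
        rw [Cfsg.Agent.CharExtend.detHom_apply, Cfsg.Agent.CharExtend.detHom_apply, hη, hη']))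
      (index_pow (by rwa [← Cfsg.Agent.CharExtend.detOrder_eq, hηc]))
      (index_pow (by rwa [← Cfsg.Agent.CharExtend.detOrder_eq, hηc']))
    have hdθ : Cfsg.charDegree (θ : K → ℂ) = dG χ := by
      apply Nat.cast_injective (R := ℂ)
      show _ = (Cfsg.charDegree (χ : G → ℂ) : ℂ)
      rw [← Cfsg.Agent.CharX.irr_deg, ← Cfsg.Agent.CharX.irr_deg, ← h 1, OneMemClass.coe_one]
    have hμ : Cfsg.IsCharacter G (fun g => (Cfsg.Agent.CharExtend.detHom η g : ℂ)) :=
      IsIrrCharacter.isCharacter (isIrrCharacter_linear _)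
    obtain ⟨ξ, -, hu⟩ := Cfsg.Agent.S0862.result K (θ : K → ℂ) θ.2 (dG χ)
      (by rw [Cfsg.Agent.CharX.irr_deg, hdθ]) (index_pow hd) ⟨χ, χ.2, h⟩ _ ⟨hμ, by simp⟩ (fun n => by
        rw [← hσc, Cfsg.Agent.CharExtend.detChar_eq]
        show (Cfsg.Agent.CharExtend.detHom η (n : G) : ℂ) = (Cfsg.Agent.CharExtend.detHom σ n : ℂ)
        rw [Cfsg.Agent.CharExtend.detHom_apply, Cfsg.Agent.CharExtend.detHom_apply, hη])
    refine Subtype.ext ((hu _ ⟨χ.2, h, ?_⟩).trans (hu _ ⟨χ'.2, h', ?_⟩).symm)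
    · rw [← hηc, Cfsg.Agent.CharExtend.detChar_eq]
    · rw [← hηc', Cfsg.Agent.CharExtend.detChar_eq, e]
  have hsurj : ∀ θ ∈ Y, ∃ χ ∈ X, ∀ n : K, (χ : G → ℂ) n = (θ : K → ℂ) n := by
    intro θ hθ
    obtain ⟨hinv, hd⟩ := (Finset.mem_filter.1 hθ).2
    obtain ⟨m, σ, hσ, hσc⟩ := θ.2
    haveI := hσ
    let f := Cfsg.Agent.CharExtend.detHom σ
    have hf : ∀ (g : G) (n : K), f (conjHom K g n) = f n := by
      intro g n
      obtain ⟨eqv⟩ := nonempty_equiv_of_char_eq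
        (σ.comp (conjHom K g) : Representation ℂ K (Fin m → ℂ)) σ (funext fun k => by
          have := congrFun (hinv g) k
          rw [← hσc] at this
          exact this)
      exact Units.ext (Cfsg.Agent.CharExtend.det_eq_of_equiv eqv n).symm
    obtain ⟨μ, hμ, hμo⟩ := Cfsg.Agent.CharExtend.exists_linear_extension f hf
      (index_pow (not_dvd_orderOf f))
    have hμN : ∀ n : K, (μ n : ℂ) = Cfsg.detChar (θ : K → ℂ) n := fun n => by
      rw [hμ, ← hσc, Cfsg.Agent.CharExtend.detChar_eq]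
    have hinv' : ∀ (g : G) (n : K), (θ : K → ℂ) (conjHom K g n) = (θ : K → ℂ) n :=
      fun g n => congrFun (hinv g) n
    obtain ⟨η, hη, hηres⟩ := Cfsg.Agent.CharExtend.exists_extension_det θ.2 hinv' (Cfsg.Agent.CharX.irr_deg θ)
      (index_pow hd) μ hμN
    obtain ⟨χ, ⟨hχ, hχres, hχdet⟩, -⟩ := Cfsg.Agent.S0862.result K (θ : K → ℂ) θ.2 (dK θ)
      (Cfsg.Agent.CharX.irr_deg θ) (index_pow hd) ⟨η, hη, hηres⟩ (fun g => (μ g : ℂ))
      ⟨IsIrrCharacter.isCharacter (isIrrCharacter_linear μ), by simp⟩ hμN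
    refine ⟨⟨χ, hχ⟩, Finset.mem_filter.2 ⟨Finset.mem_univ _, ?_, ?_⟩, hχres⟩
    · have : dG ⟨χ, hχ⟩ = dK θ := by
        apply Nat.cast_injective (R := ℂ)
        show (Cfsg.charDegree ((⟨χ, hχ⟩ : Cfsg.IrrCharacter G) : G → ℂ) : ℂ) =
          Cfsg.charDegree (θ : K → ℂ)
        rw [← Cfsg.Agent.CharX.irr_deg, ← Cfsg.Agent.CharX.irr_deg, ← hχres 1, OneMemClass.coe_one]
      rw [this]; exact hd
    · show ¬ p ∣ orderOf (Cfsg.detChar χ)
      rw [hχdet, Cfsg.Agent.CharExtend.orderOf_coe, hμo]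
      exact not_dvd_orderOf f
  have hXY : ∑ χ ∈ X, dG χ ^ 2 = ∑ θ ∈ Y, dK θ ^ 2 := by
    refine Finset.sum_bij r (fun χ hχ => hrY χ hχ) (fun χ hχ χ' hχ' e => ?_) (fun θ hθ => ?_)
      (fun χ hχ => ?_)
    · exact huniq χ hχ χ' hχ' _ (hr χ hχ) (e ▸ hr χ' hχ')
    · obtain ⟨χ, hχ, h⟩ := hsurj θ hθ
      exact ⟨χ, hχ, Subtype.ext (funext fun n => ((hr χ hχ) n).symm.trans (h n))⟩
    · congr 1
      apply Nat.cast_injective (R := ℂ)
      show (Cfsg.charDegree (χ : G → ℂ) : ℂ) = Cfsg.charDegree ((r χ hχ) : K → ℂ)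
      rw [← Cfsg.Agent.CharX.irr_deg, ← Cfsg.Agent.CharX.irr_deg, ← hr χ hχ 1, OneMemClass.coe_one]
  have hK : ∑ θ : Cfsg.IrrCharacter K, dK θ ^ 2 = Nat.card K := by
    apply Nat.cast_injective (R := ℂ)
    rw [Nat.cast_sum, ← sum_sq_degree (G := K)]
    exact Finset.sum_congr (by ext; simp) fun θ _ => by rw [Nat.cast_pow, Cfsg.Agent.CharX.irr_deg]
  have hmod : Nat.card K ≡ ∑ θ ∈ Y, dK θ ^ 2 [MOD p] := by
    rw [← hK]
    refine (TC.sum_modEq_fixed P.isPGroup' (fun θ => dK θ ^ 2) hwd).trans ?_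
    rw [← Finset.sum_filter_add_sum_filter_not _ (fun θ => p ∣ dK θ) (fun θ => dK θ ^ 2)]
    have hY : (Finset.univ.filter fun θ => θ ∈ MulAction.fixedPoints P (Cfsg.IrrCharacter K)).filter
        (fun θ => ¬ p ∣ dK θ) = Y := by
      rw [Finset.filter_filter]
      exact Finset.filter_congr fun θ _ => and_congr_left' (hfix θ)
    rw [hY]
    conv_rhs => rw [← zero_add (∑ θ ∈ Y, dK θ ^ 2)]
    refine Nat.ModEq.add_right _ (Nat.modEq_zero_iff_dvd.2 (Finset.dvd_sum fun θ hθ => ?_))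
    exact Dvd.dvd.pow (Finset.mem_filter.1 hθ).2 two_ne_zero
  have hsum : (∑ᶠ χ ∈ {χ : Cfsg.IrrCharacter G | ¬ p ∣ Cfsg.charDegree (χ : G → ℂ) ∧
      ¬ p ∣ Cfsg.detOrder (χ : G → ℂ)}, (Cfsg.charDegree (χ : G → ℂ) : ℤ) ^ 2) =
      ((∑ χ ∈ X, dG χ ^ 2 : ℕ) : ℤ) := by
    rw [finsum_mem_eq_finite_toFinset_sum _ (Set.toFinite _), Nat.cast_sum]
    refine Finset.sum_congr ?_ fun χ _ => by rw [Nat.cast_pow]
    ext χ
    simp [X, dG]
  rw [hsum, hXY]
  exact Int.natCast_modEq_iff.2 hmod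

end Cfsg.Agent.S4455
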