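import Cfsg.Statements.S0223
import Cfsg.Agent.Lib.Involutions.StronglyEmbedded

set_option autoImplicit false
open Cfsg

namespace Cfsg.Agent.S0223

/-- Let H be a proper subgroup of even order of the finite group G. Then H is strongly embedded if and only if (i) C_G(t) ≤ H for every involution t of H and (ii) H controls fusion of its involutions: involutions of H conjugate in G are conjugate in H. -/
theorem result {G : Type*} [Group G] [Finite G] (H : Subgroup G) (hH : H ≠ ⊤) (heven : Even (Nat.card H)) : Cfsg.IsStronglyEmbedded H ↔ ((∀ t ∈ H, orderOf t = 2 → Subgroup.centralizer ({t} : Set G) ≤ H) ∧ (∀ t ∈ H, ∀ s ∈ H, orderOf t = 2 → orderOf s = 2 → IsConj t s → ∃ h ∈ H, h * t * h⁻¹ = s)) := by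
  constructor
  · intro hSE
    refine ⟨fun t ht hto => Invol.se_centralizer_le hSE hto ht, ?_⟩
    intro t ht s hs hto _ hc
    obtain ⟨g, hg⟩ := isConj_iff.mp hc
    exact ⟨g, Invol.se_mem_of_conj hSE hto ht (hg ▸ hs), hg⟩
  · rintro ⟨hC, hfus⟩
    obtain ⟨T⟩ : Nonempty (Sylow 2 H) := inferInstance
    refine Invol.se_of_centralizers hH T heven ?_ hC
    intro g hg
    have hT2 : 2 ∣ Nat.card T := T.dvd_card_of_dvd_card heven.two_dvd
    haveI : Nontrivial T := Finite.one_lt_card_iff_nontrivial.mp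
      (lt_of_lt_of_le one_lt_two (Nat.le_of_dvd Nat.card_pos hT2))
    haveI := T.2.center_nontrivial
    have hZ : 2 ∣ Nat.card (Subgroup.center T) := by
      obtain ⟨k, hk⟩ := IsPGroup.iff_card.mp (T.2.to_subgroup (Subgroup.center T))
      have h1 : 1 < Nat.card (Subgroup.center T) := Finite.one_lt_card
      rw [hk] at h1 ⊢
      exact dvd_pow_self 2 (by rintro rfl; simp at h1)
    obtain ⟨z, hz⟩ := exists_prime_orderOf_dvd_card' (p := 2) hZ
    set z' : G := (((z : T) : H) : G) with hz'
    have hzo : orderOf z' = 2 := by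
      rw [hz', Subgroup.orderOf_coe, Subgroup.orderOf_coe, Subgroup.orderOf_coe, hz]
    have hzT : z' ∈ (T : Subgroup H).map H.subtype := ⟨((z : T) : H), (z : T).2, rfl⟩
    have hconj := (Subgroup.mem_normalizer_iff.mp hg z').mp hzT
    have hgH : g * z' * g⁻¹ ∈ H := Subgroup.map_subtype_le _ hconj
    obtain ⟨h, hh, heq⟩ := hfus z' (((z : T) : H)).2 _ hgH hzo (by rw [Invol.order_conj, hzo])
      (isConj_iff.mpr ⟨g, rfl⟩)
    have hmem : h⁻¹ * g ∈ Subgroup.centralizer ({z'} : Set G) := by
      rw [Subgroup.mem_centralizer_singleton_iff]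
      calc h⁻¹ * g * z' = h⁻¹ * (g * z' * g⁻¹) * g := by group
        _ = h⁻¹ * (h * z' * h⁻¹) * g := by rw [heq]
        _ = z' * (h⁻¹ * g) := by group
    have := mul_mem hh (hC z' (((z : T) : H)).2 hzo hmem)
    rwa [mul_inv_cancel_left] at this

end Cfsg.Agent.S0223
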