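import Cfsg.Statements.S0261
import Cfsg.Agent.Lib.Classical.SL2Sylow
import Mathlib.FieldTheory.Finite.Basic

set_option autoImplicit false
open Cfsg

namespace Cfsg.Agent.S0261

/-- For q odd, the Sylow 2-subgroups of SL_2(q) are generalised quaternion. -/
theorem result {F : Type*} [Field F] [Fintype F] (hF : Odd (Fintype.card F)) (P : Sylow 2 (Matrix.SpecialLinearGroup (Fin 2) F)) : ∃ k : ℕ, 1 ≤ k ∧ Nonempty ((P : Subgroup (Matrix.SpecialLinearGroup (Fin 2) F)) ≃* QuaternionGroup (2 ^ k)) := by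
  obtain ⟨p, hcp⟩ := CharP.exists F
  obtain ⟨n, hp, hcard⟩ := FiniteField.card F p
  haveI := Fact.mk hp
  have hp2 : p ≠ 2 := by
    rintro rfl
    rw [hcard] at hF
    exact absurd hF (by simp [Nat.even_pow, parity_simps])
  obtain ⟨Q, hQ, x, hx, y, hy, hxy⟩ := SL2Sylow.exists_noncomm_twoGroup (F := F) p hp2
  obtain ⟨P', hP'⟩ := hQ.exists_le_sylow
  obtain ⟨g, rfl⟩ := MulAction.exists_smul_eq (Matrix.SpecialLinearGroup (Fin 2) F) P' P
  refine SL2Sylow.quaternion_of_twoGroup p hp2 _ (g • P').isPGroup'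
    ⟨g * x * g⁻¹, ?_, g * y * g⁻¹, ?_, ?_⟩
  · rw [Sylow.coe_subgroup_smul]
    exact Subgroup.mem_pointwise_smul_iff_inv_smul_mem.2 (by
      simpa [← map_inv, mul_assoc] using hP' hx)
  · rw [Sylow.coe_subgroup_smul]
    exact Subgroup.mem_pointwise_smul_iff_inv_smul_mem.2 (by
      simpa [← map_inv, mul_assoc] using hP' hy)
  · intro h
    apply hxy
    rw [conj_mul, conj_mul] at h
    exact mul_left_cancel (mul_right_cancel h)

end Cfsg.Agent.S0261
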