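import Cfsg.Statements.S4623
import Mathlib.GroupTheory.RegularWreathProduct
import Mathlib.GroupTheory.Perm.Cycle.Type

set_option autoImplicit false
set_option linter.style.haveILetI false
open Cfsg

namespace Cfsg.Agent.S4623

open Equiv Equiv.Perm

/-- Elements of order dividing `p` which are even or transpositions. -/
def Gd (p : ℕ) {α : Type*} [Fintype α] [DecidableEq α] (x : Perm α) : Prop :=
  x ^ p = 1 ∧ (sign x = 1 ∨ x.IsSwap)

def Good (p : ℕ) {α : Type*} [Fintype α] [DecidableEq α] (H : Subgroup (Perm α)) : Prop :=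
  H ≤ Subgroup.closure {x | x ∈ H ∧ Gd p x}

variable {p : ℕ}

theorem good_map {α β : Type*} [Fintype α] [DecidableEq α] [Fintype β] [DecidableEq β]
    (f : Perm α →* Perm β) (hf : ∀ x, Gd p x → Gd p (f x)) {H : Subgroup (Perm α)}
    (h : Good p H) : Good p (H.map f) := by
  refine (Subgroup.map_mono h).trans ?_
  rw [MonoidHom.map_closure]
  refine Subgroup.closure_mono ?_
  rintro _ ⟨x, ⟨hx, hg⟩, rfl⟩
  exact ⟨⟨x, hx, rfl⟩, hf x hg⟩

theorem gd_permCongr {α β : Type*} [Fintype α] [DecidableEq α] [Fintype β] [DecidableEq β]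
    (e : α ≃ β) (x : Perm α) (hx : Gd p x) : Gd p (e.permCongrHom x) := by
  refine ⟨by rw [← map_pow, hx.1, map_one], ?_⟩
  rcases hx.2 with h | ⟨a, b, hab, rfl⟩
  · exact Or.inl ((sign_permCongr e x).trans h)
  · refine Or.inr ⟨e a, e b, e.injective.ne hab, ?_⟩
    ext y
    show e (swap a b (e.symm y)) = swap (e a) (e b) y
    rw [e.injective.map_swap, Equiv.apply_symm_apply]

theorem gd_of_odd [hp : Fact p.Prime] (h2 : p ≠ 2) {α : Type*} [Fintype α] [DecidableEq α]
    {x : Perm α} (hx : x ^ p = 1) : Gd p x := by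
  refine ⟨hx, Or.inl ?_⟩
  have h : sign x ^ p = 1 := by rw [← map_pow, hx, map_one]
  rwa [Int.units_pow_eq_pow_mod_two, Nat.odd_iff.1 (hp.out.odd_of_ne_two h2), pow_one] at h

theorem gd_of_card_two {α : Type*} [Fintype α] [DecidableEq α] (h : Fintype.card α = 2)
    {x : Perm α} (hx : x ^ p = 1) : Gd p x := by
  refine ⟨hx, ?_⟩
  by_cases h1 : x = 1
  · exact Or.inl (by rw [h1, map_one])
  · refine Or.inr (card_support_eq_two.1 (le_antisymm ?_ (two_le_card_support_of_ne_one h1)))
    exact h ▸ Finset.card_le_univ _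

/-- A permutation of the fibre over `q`. -/
def fibreHom (Λ G : Type*) [DecidableEq G] (q : G) : Perm Λ →* Perm (Λ × G) where
  toFun σ := prodCongrLeft (Pi.mulSingle q σ)
  map_one' := by ext ⟨y, b⟩ <;> simp
  map_mul' σ τ := by
    refine Equiv.ext fun ⟨y, b⟩ => ?_
    rcases eq_or_ne b q with rfl | h
    · simp [Perm.mul_apply]
    · simp [Perm.mul_apply, h]

theorem gd_fibre {Λ G : Type*} [Fintype Λ] [DecidableEq Λ] [Fintype G] [DecidableEq G] (q : G)
    (x : Perm Λ) (hx : Gd p x) : Gd p (fibreHom Λ G q x) := by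
  refine ⟨by rw [← map_pow, hx.1, map_one], ?_⟩
  rcases hx.2 with h | ⟨a, b, hab, rfl⟩
  · refine Or.inl ?_
    show sign (prodCongrLeft (Pi.mulSingle q x)) = 1
    rw [sign_prodCongrLeft]
    refine Finset.prod_eq_one fun k _ => ?_
    rcases eq_or_ne k q with rfl | h'
    · rw [Pi.mulSingle_eq_same, h]
    · rw [Pi.mulSingle_eq_of_ne h', map_one]
  · refine Or.inr ⟨(a, q), (b, q), fun h => hab (Prod.mk.inj h).1, ?_⟩
    refine Equiv.ext fun ⟨y, k⟩ => ?_
    show ((Pi.mulSingle q (swap a b) : G → Perm Λ) k y, k) = _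
    rcases eq_or_ne k q with rfl | h'
    · rcases eq_or_ne y a with rfl | ha
      · simp
      rcases eq_or_ne y b with rfl | hb
      · simp
      rw [Pi.mulSingle_eq_same, swap_apply_of_ne_of_ne ha hb,
        swap_apply_of_ne_of_ne (by simp [ha]) (by simp [hb])]
    · rw [Pi.mulSingle_eq_of_ne h', swap_apply_of_ne_of_ne (by simp [h']) (by simp [h'])]
      rfl

def baseHom (D Q : Type*) [Group D] [Group Q] : (Q → D) →* RegularWreathProduct D Q where
  toFun l := ⟨l, 1⟩
  map_one' := rfl
  map_mul' a b := by ext <;> simp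

theorem good_iterated [hp : Fact p.Prime] (G : Type) [Group G] [Fintype G] [DecidableEq G]
    (hG : Nat.card G = p) : ∀ n : ℕ, Good p (iteratedWreathToPermHom G n).range
  | 0 => by
    rintro x ⟨w, rfl⟩
    exact Subgroup.one_mem _
  | n + 1 => by
    letI : MulAction (IteratedWreathProduct G n) (Fin n → G) :=
      MulAction.compHom (Fin n → G) (iteratedWreathToPermHom G n)
    let F := RegularWreathProduct.toPerm (IteratedWreathProduct G n) G (Fin n → G)
    have ih := good_iterated G hG n
    have hF : Good p F.range := by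
      let C := Subgroup.closure {x | x ∈ F.range ∧ Gd p x}
      rintro _ ⟨w, rfl⟩
      have hw : w = baseHom _ _ w.left * RegularWreathProduct.inl w.right := by
        ext <;> simp [baseHom]
      rw [hw, map_mul]
      refine mul_mem ?_ ?_
      · refine (Subgroup.pi_mem_of_mulSingle_mem (H := C.comap (F.comp (baseHom _ _))) w.left
          fun q => ?_ : w.left ∈ C.comap (F.comp (baseHom _ _)))
        have e : ∀ v : IteratedWreathProduct G n,
            F (baseHom _ _ (Pi.mulSingle q v)) =
              fibreHom (Fin n → G) G q (iteratedWreathToPermHom G n v) := by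
          intro v
          refine Equiv.ext fun ⟨y, b⟩ => ?_
          show ((Pi.mulSingle q v : G → IteratedWreathProduct G n) (1 * b) • y, 1 * b) =
            ((Pi.mulSingle q (iteratedWreathToPermHom G n v) : G → Perm (Fin n → G)) b y, b)
          rw [one_mul]
          rcases eq_or_ne b q with rfl | h
          · rw [Pi.mulSingle_eq_same, Pi.mulSingle_eq_same]; rfl
          · rw [Pi.mulSingle_eq_of_ne h, Pi.mulSingle_eq_of_ne h, one_smul]; rfl
        show F (baseHom _ _ (Pi.mulSingle q (w.left q))) ∈ C
        rw [e]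
        have h2 : (iteratedWreathToPermHom G n).range.map (fibreHom (Fin n → G) G q) ≤ F.range := by
          rintro _ ⟨_, ⟨v, rfl⟩, rfl⟩
          exact ⟨_, e v⟩
        refine Subgroup.closure_mono (fun x hx => ?_)
          (good_map _ (gd_fibre q) ih ⟨_, ⟨_, rfl⟩, rfl⟩)
        exact ⟨h2 hx.1, hx.2⟩
      · refine Subgroup.subset_closure ⟨⟨_, rfl⟩, ?_⟩
        have hq : (F (RegularWreathProduct.inl w.right)) ^ p = 1 := by
          rw [← map_pow, ← map_pow, ← hG, pow_card_eq_one', map_one, map_one]
        by_cases h2 : p = 2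
        · rcases n with _ | n
          · refine gd_of_card_two ?_ hq
            rw [← Nat.card_eq_fintype_card, Nat.card_prod, Nat.card_fun, hG, h2]
            simp
          · refine ⟨hq, Or.inl ?_⟩
            have e : F (RegularWreathProduct.inl w.right) =
                prodCongrRight fun _ : Fin (n + 1) → G => Equiv.mulLeft w.right := by
              refine Equiv.ext fun ⟨y, b⟩ => ?_
              show ((1 : IteratedWreathProduct G (n + 1)) • y, w.right * b) = _
              rw [one_smul]; rfl
            rw [e, sign_prodCongrRight, Finset.prod_const, Finset.card_univ, Int.units_pow_eq_pow_mod_two,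
              ← Nat.card_eq_fintype_card, Nat.card_fun, hG, h2, Nat.card_fin, pow_succ]
            simp
        · exact gd_of_odd h2 hq
    have e : (iteratedWreathToPermHom G (n + 1)).range =
        F.range.map (Fin.succFunEquiv G n).symm.permCongrHom.toMonoidHom := by
      rw [MonoidHom.map_range]; rfl
    rw [e]
    exact good_map _ (fun x hx => gd_permCongr _ x hx) hF

theorem good_conj {α : Type*} [Fintype α] [DecidableEq α] (g : Perm α) {H : Subgroup (Perm α)}
    (h : Good p H) : Good p (H.map (MulAut.conj g).toMonoidHom) := by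
  refine good_map _ (fun x hx => ⟨by rw [← map_pow, hx.1, map_one], ?_⟩) h
  rcases hx.2 with h | ⟨a, b, hab, rfl⟩
  · exact Or.inl (by simp [h])
  · refine Or.inr ⟨g a, g b, g.injective.ne hab, ?_⟩
    exact (Equiv.swap_apply_apply g a b).symm

theorem good_sylow [hp : Fact p.Prime] : ∀ (m : ℕ) (α : Type) [Fintype α] [DecidableEq α],
    Fintype.card α = m → ∀ P : Sylow p (Perm α), Good p (P : Subgroup (Perm α)) := by
  intro m
  induction m using Nat.strong_induction_on with
  | _ m ih =>
  intro α _ _ hm P
  by_cases hinv : ∃ A : α → Prop, (∃ a, A a) ∧ (∃ a, ¬ A a) ∧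
      ∀ x ∈ (P : Subgroup (Perm α)), ∀ a, A (x a) ↔ A a
  · obtain ⟨A, ⟨a, ha⟩, ⟨b, hb⟩, hA⟩ := hinv
    classical
    let ι := Equiv.Perm.subtypeCongrHom A
    have hle : (P : Subgroup (Perm α)) ≤ ι.range := fun x hx =>
      ⟨(x.subtypePerm (fun y => hA x hx y), x.subtypePerm (fun y => not_congr (hA x hx y))), by
        refine Equiv.ext fun y => ?_
        by_cases hy : A y <;> simp [ι, Perm.subtypeCongr.apply, hy]⟩
    let K := (P : Subgroup (Perm α)).comap ι
    have hK : IsPGroup p K := P.isPGroup'.comap_of_injective ι (subtypeCongrHom_injective A)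
    let P1 := K.map (MonoidHom.fst _ _)
    let P2 := K.map (MonoidHom.snd _ _)
    have hmax : ∀ (R1 : Subgroup (Perm {a // A a})) (R2 : Subgroup (Perm {a // ¬ A a})),
        IsPGroup p R1 → IsPGroup p R2 → P1 ≤ R1 → P2 ≤ R2 →
        (R1.prod R2).map ι = (P : Subgroup (Perm α)) := by
      intro R1 R2 h1 h2 hl1 hl2
      refine P.is_maximal' ((?_ : IsPGroup p (R1.prod R2)).map ι) ?_
      · obtain ⟨i, hi⟩ := h1.exists_card_eq
        obtain ⟨j, hj⟩ := h2.exists_card_eq
        refine IsPGroup.of_card (n := i + j) ?_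
        rw [Nat.card_congr (Subgroup.prodEquiv R1 R2).toEquiv, Nat.card_prod, hi, hj, pow_add]
      · intro x hx
        obtain ⟨k, rfl⟩ := hle hx
        exact ⟨k, ⟨hl1 ⟨k, hx, rfl⟩, hl2 ⟨k, hx, rfl⟩⟩, rfl⟩
    have hP1 : IsPGroup p P1 := hK.map _
    have hP2 : IsPGroup p P2 := hK.map _
    have heq := hmax P1 P2 hP1 hP2 le_rfl le_rfl
    let S1 : Sylow p (Perm {a // A a}) := ⟨P1, hP1, fun {R} hR hle' => le_antisymm (fun x hx => by
      refine ⟨(x, 1), ?_, rfl⟩
      show ι (x, 1) ∈ (P : Subgroup (Perm α))
      rw [← hmax R P2 hR hP2 hle' le_rfl]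
      exact ⟨_, ⟨hx, one_mem _⟩, rfl⟩) hle'⟩
    let S2 : Sylow p (Perm {a // ¬ A a}) := ⟨P2, hP2, fun {R} hR hle' => le_antisymm (fun x hx => by
      refine ⟨(1, x), ?_, rfl⟩
      show ι (1, x) ∈ (P : Subgroup (Perm α))
      rw [← hmax P1 R hP1 hR le_rfl hle']
      exact ⟨_, ⟨one_mem _, hx⟩, rfl⟩) hle'⟩
    have hg1 : Good p P1 := ih _ (hm ▸ Fintype.card_subtype_lt (p := A) hb) _ rfl S1
    have hg2 : Good p P2 := ih _ (hm ▸ Fintype.card_subtype_lt (p := fun a => ¬ A a)
      (x := a) (not_not.2 ha)) _ rfl S2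
    intro x hx
    rw [← heq] at hx
    obtain ⟨⟨x1, x2⟩, ⟨hx1, hx2⟩, rfl⟩ := hx
    rw [show ((x1, x2) : Perm {a // A a} × Perm {a // ¬ A a}) = (x1, 1) * (1, x2) by simp, map_mul]
    have key : ∀ (s : Perm {a // A a} × Perm {a // ¬ A a}), s ∈ P1.prod P2 → s ^ p = 1 →
        (sign s.1 * sign s.2 = 1 ∨ (ι s).IsSwap) →
        ι s ∈ Subgroup.closure {x | x ∈ (P : Subgroup (Perm α)) ∧ Gd p x} := fun s hs h1 h2 =>
      Subgroup.subset_closure ⟨heq.le ⟨s, hs, rfl⟩, by rw [← map_pow, h1, map_one],
        h2.imp_left (fun h => (sign_subtypeCongr _ _).trans h)⟩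
    refine mul_mem ?_ ?_
    · have h : x1 ∈ (Subgroup.closure {x | x ∈ (P : Subgroup (Perm α)) ∧ Gd p x}).comap
          (ι.comp (MonoidHom.inl _ _)) := by
        refine (Subgroup.closure_le _).2 ?_ (hg1 hx1)
        rintro y ⟨hy, hy1, hy2⟩
        refine key (y, 1) ⟨hy, one_mem _⟩ (by simp [hy1]) ?_
        refine hy2.imp (fun h => by simp [h]) fun h => ?_
        rw [show ι (y, 1) = ofSubtype y from Equiv.ext fun z => by
          by_cases hz : A z <;>
            simp [ι, Perm.subtypeCongr.apply, hz, ofSubtype_apply_of_mem, ofSubtype_apply_of_not_mem]]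
        exact h.of_subtype_isSwap
      exact h
    · have h : x2 ∈ (Subgroup.closure {x | x ∈ (P : Subgroup (Perm α)) ∧ Gd p x}).comap
          (ι.comp (MonoidHom.inr _ _)) := by
        refine (Subgroup.closure_le _).2 ?_ (hg2 hx2)
        rintro y ⟨hy, hy1, hy2⟩
        refine key (1, y) ⟨one_mem _, hy⟩ (by simp [hy1]) ?_
        refine hy2.imp (fun h => by simp [h]) fun h => ?_
        rw [show ι (1, y) = ofSubtype y from Equiv.ext fun z => by
          by_cases hz : A z <;>
            simp [ι, Perm.subtypeCongr.apply, hz, ofSubtype_apply_of_mem, ofSubtype_apply_of_not_mem]]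
        exact h.of_subtype_isSwap
      exact h
  · rcases isEmpty_or_nonempty α with hem | ⟨⟨a⟩⟩
    · intro x _
      rw [Subsingleton.elim x 1]; exact one_mem _
    have htrans : MulAction.orbit (P : Subgroup (Perm α)) a = Set.univ := by
      by_contra h
      obtain ⟨b, hb⟩ := (Set.ne_univ_iff_exists_notMem _).1 h
      refine hinv ⟨(· ∈ MulAction.orbit (P : Subgroup (Perm α)) a), ⟨a, MulAction.mem_orbit_self a⟩,
        ⟨b, hb⟩, fun x hx c => ?_⟩
      simp only [← MulAction.orbit_eq_iff]
      show MulAction.orbit _ ((⟨x, hx⟩ : (P : Subgroup (Perm α))) • c) = _ ↔ _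
      rw [MulAction.orbit_smul]
    obtain ⟨k, hk⟩ := P.isPGroup'.card_orbit a
    rw [htrans, Nat.card_univ] at hk
    let G := Multiplicative (ZMod p)
    have hG : Nat.card G = p := (Nat.card_congr Multiplicative.toAdd).trans (Nat.card_zmod p)
    let e1 : α ≃ (Fin k → G) := (Finite.equivFinOfCardEq hk).trans
      (Finite.equivFinOfCardEq (by rw [Nat.card_fun, Nat.card_fin, hG])).symm
    let f := e1.symm.permCongrHom.toMonoidHom.comp (iteratedWreathToPermHom G k)
    have hf : Function.Injective f :=
      (e1.symm.permCongrHom.toEquiv.comp_injective _).2 (iteratedWreathToPermHomInj G k)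
    have hgood : Good p f.range := by
      rw [MonoidHom.range_comp]
      exact good_map _ (fun x hx => gd_permCongr _ x hx) (good_iterated G hG k)
    let P' : Sylow p (Perm α) := Sylow.ofCard f.range (by
      rw [← Nat.card_congr (MonoidHom.ofInjective hf).toEquiv, IteratedWreathProduct.card, hG,
        Nat.card_perm, hk, ← Nat.multiplicity_eq_factorization hp.out (p ^ k).factorial_ne_zero,
        Nat.Prime.multiplicity_factorial_pow hp.out])
    obtain ⟨g, hg⟩ := MulAction.exists_smul_eq (Perm α) P' P
    rw [← hg]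
    exact good_conj g hgood

theorem pow_mem_commutator {K : Type*} [Group K] (H : Subgroup K)
    (h : H ≤ Subgroup.closure {x | x ∈ H ∧ x ^ p = 1}) (x : H) : x ^ p ∈ commutator H := by
  rw [← Abelianization.ker_of, MonoidHom.mem_ker, map_pow]
  let S := ((powMonoidHom p).comp (Abelianization.of : H →* Abelianization H)).ker
  have h1 : H ≤ S.map H.subtype := by
    refine h.trans ((Subgroup.closure_le _).2 ?_)
    rintro y ⟨hy, hy1⟩
    refine ⟨⟨y, hy⟩, ?_, rfl⟩
    show Abelianization.of (⟨y, hy⟩ : H) ^ p = 1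
    rw [← map_pow, show (⟨y, hy⟩ : H) ^ p = 1 from Subtype.ext hy1, map_one]
  obtain ⟨z, hz, hzx⟩ := h1 x.2
  rw [← H.subtype_injective hzx]
  exact hz

/-- Two transpositions generating a `p`-group commute. -/
theorem swaps_commute {α : Type*} [Fintype α] [DecidableEq α] {H : Subgroup (Perm α)}
    (hH : IsPGroup 2 H) {s t : Perm α} (hs : s ∈ H) (ht : t ∈ H) (hs1 : s.IsSwap)
    (ht1 : t.IsSwap) : s * t = t * s := by
  have key : ∀ a b c : α, a ≠ b → a ≠ c → b ≠ c → swap a b ∈ H → swap a c ∈ H → False := by
    intro a b c hab hac hbc h1 h2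
    have h3 := (isThreeCycle_swap_mul_swap_same hab hac hbc).orderOf
    obtain ⟨k, hk⟩ := hH ⟨_, mul_mem h1 h2⟩
    have h4 : (swap a b * swap a c) ^ 2 ^ k = 1 := congrArg Subtype.val hk
    have h5 := orderOf_dvd_of_pow_eq_one h4
    rw [h3] at h5
    exact absurd (Nat.prime_three.dvd_of_dvd_pow h5) (by decide)
  obtain ⟨a, b, hab, rfl⟩ := hs1
  obtain ⟨c, d, hcd, rfl⟩ := ht1
  by_cases hac : a = c
  · subst hac
    by_cases hbd : b = d
    · subst hbd; rfl
    · exact (key a b d hab hcd hbd hs ht).elim
  by_cases had : a = d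
  · subst had
    by_cases hbc : b = c
    · subst hbc; rw [swap_comm b a]
    · exact (key a b c hab (Ne.symm hcd) hbc hs (swap_comm c a ▸ ht)).elim
  by_cases hbc : b = c
  · subst hbc
    exact (key b a d (Ne.symm hab) hcd had (swap_comm a b ▸ hs) ht).elim
  by_cases hbd : b = d
  · subst hbd
    exact (key b a c (Ne.symm hab) (Ne.symm hcd) hac (swap_comm a b ▸ hs)
      (swap_comm c b ▸ ht)).elim
  refine Equiv.ext fun x => ?_
  simp only [Perm.mul_apply, swap_apply_def]
  grind

/-- For every prime p and every n, a Sylow p-subgroup P of the symmetric group on n letters has P/P' elementary abelian (the p-th power of every element of P lies in the derived subgroup of P), and the same holds for a Sylow p-subgroup of the alternating group on n letters. -/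
theorem result (p : ℕ) [Fact p.Prime] (n : ℕ) (P : Sylow p (Equiv.Perm (Fin n))) (Q : Sylow p (alternatingGroup (Fin n))) :
    (∀ x : (P : Subgroup (Equiv.Perm (Fin n))), x ^ p ∈ commutator (P : Subgroup (Equiv.Perm (Fin n)))) ∧
    (∀ x : (Q : Subgroup (alternatingGroup (Fin n))), x ^ p ∈ commutator (Q : Subgroup (alternatingGroup (Fin n)))) := by
  classical
  have hp : p.Prime := Fact.out
  have hgen : ∀ P : Sylow p (Perm (Fin n)),
      (P : Subgroup (Perm (Fin n))) ≤
        Subgroup.closure {x | x ∈ (P : Subgroup (Perm (Fin n))) ∧ x ^ p = 1} := fun P =>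
    (good_sylow n (Fin n) (Fintype.card_fin n) P).trans
      (Subgroup.closure_mono fun x hx => ⟨hx.1, hx.2.1⟩)
  refine ⟨pow_mem_commutator _ (hgen P), pow_mem_commutator _ ?_⟩
  let A := alternatingGroup (Fin n)
  let Q' := (Q : Subgroup A).map A.subtype
  have hQ' : IsPGroup p Q' := Q.isPGroup'.map _
  obtain ⟨P0, hP0⟩ := hQ'.exists_le_sylow
  have heq : (P0 : Subgroup (Perm (Fin n))).subgroupOf A = (Q : Subgroup A) :=
    Q.is_maximal' (P0.isPGroup'.comap_of_injective A.subtype A.subtype_injective)
      fun x hx => hP0 ⟨x, hx, rfl⟩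
  let T : Set (Perm (Fin n)) := {x | x ∈ (P0 : Subgroup (Perm (Fin n))) ∧ sign x = 1 ∧ x ^ p = 1}
  let K := Subgroup.closure T
  have hgoal : ∀ x ∈ (P0 : Subgroup (Perm (Fin n))), sign x = 1 → x ∈ K := by
    have hg := good_sylow n (Fin n) (Fintype.card_fin n) P0
    by_cases hodd : ∃ t ∈ (P0 : Subgroup (Perm (Fin n))), Gd p t ∧ sign t ≠ 1
    · obtain ⟨t, ht, ⟨htp, htc⟩, hts⟩ := hodd
      have htswap : t.IsSwap := htc.resolve_left hts
      have hp2 : p = 2 := by
        by_contra h
        exact hts ((gd_of_odd (p := p) h htp).2.elim id fun hs => by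
          exfalso
          have h1 : sign t ^ p = 1 := by rw [← map_pow, htp, map_one]
          rw [Int.units_pow_eq_pow_mod_two, Nat.odd_iff.1 (hp.odd_of_ne_two h), pow_one] at h1
          exact hts h1)
      subst hp2
      have htt : t * t = 1 := by rw [← pow_two]; exact htp
      have hnorm : ∀ k ∈ K, t * k * t ∈ K := by
        intro k hk
        induction hk using Subgroup.closure_induction with
        | mem y hy =>
          refine Subgroup.subset_closure ⟨mul_mem (mul_mem ht hy.1) ht, ?_, ?_⟩
          · rw [map_mul, map_mul, hy.2.1, mul_one, ← map_mul, htt, map_one]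
          · rw [pow_two, show t * y * t * (t * y * t) = t * (y * (t * t) * y) * t by group, htt,
              mul_one, ← pow_two y, hy.2.2, mul_one, htt]
        | one => rw [mul_one, htt]; exact one_mem _
        | mul y z _ _ hy hz =>
          have := mul_mem hy hz
          rwa [show t * y * t * (t * z * t) = t * y * (t * t) * z * t by group, htt, mul_one,
            show t * y * z * t = t * (y * z) * t by group] at this
        | inv y _ hy =>
          have := inv_mem hy
          rwa [mul_inv_rev, mul_inv_rev, inv_eq_of_mul_eq_one_right htt, ← mul_assoc] at this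
      have hmove : ∀ k ∈ K, t * k = (t * k * t) * t := fun k _ => by
        rw [mul_assoc (t * k), htt, mul_one]
      let M : Subgroup (Perm (Fin n)) :=
        { carrier := {x | x ∈ K ∨ x * t ∈ K}
          one_mem' := Or.inl (one_mem _)
          inv_mem' := fun {x} hx => by
            rcases hx with h | h
            · exact Or.inl (inv_mem h)
            · refine Or.inr ?_
              have := hnorm _ (inv_mem h)
              rwa [mul_inv_rev, inv_eq_of_mul_eq_one_right htt, ← mul_assoc, htt, one_mul] at this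
          mul_mem' := fun {x y} hx hy => by
            rcases hx with h | h <;> rcases hy with h' | h'
            · exact Or.inl (mul_mem h h')
            · exact Or.inr (by rw [mul_assoc]; exact mul_mem h h')
            · refine Or.inr ?_
              have := mul_mem h (hnorm _ h')
              rwa [show x * t * (t * y * t) = x * (t * t) * (y * t) by group, htt, mul_one,
                ← mul_assoc] at this
            · refine Or.inl ?_
              have := mul_mem h (hnorm _ h')
              rwa [show x * t * (t * (y * t) * t) = x * (t * t) * y * (t * t) by group, htt, mul_one,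
                mul_one] at this }
      have hM : (P0 : Subgroup (Perm (Fin n))) ≤ M := by
        refine hg.trans ((Subgroup.closure_le M).2 ?_)
        rintro y ⟨hy, hy1, hy2⟩
        by_cases hys : sign y = 1
        · exact Or.inl (Subgroup.subset_closure ⟨hy, hys, hy1⟩)
        · refine Or.inr (Subgroup.subset_closure ⟨mul_mem hy ht, ?_, ?_⟩)
          · rw [map_mul, (hy2.resolve_left hys).sign_eq, htswap.sign_eq]
            rfl
          · rw [pow_two, show y * t * (y * t) = y * (t * y) * t by group,
              ← swaps_commute P0.isPGroup' hy ht (hy2.resolve_left hys) htswap,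
              show y * (y * t) * t = y * y * (t * t) by group, htt, mul_one, ← pow_two, hy1]
      intro x hx hxs
      rcases hM hx with h | h
      · exact h
      · exfalso
        have h1 : sign (x * t) = 1 := by
          have hle : K ≤ (sign : Perm (Fin n) →* ℤˣ).ker :=
            (Subgroup.closure_le _).2 fun y hy => hy.2.1
          exact hle h
        rw [map_mul, hxs, one_mul] at h1
        exact hts h1
    · push Not at hodd
      intro x hx _
      refine Subgroup.closure_mono (fun y hy => ?_) (hg hx)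
      exact ⟨hy.1, hodd y hy.1 hy.2, hy.2.1⟩
  intro x hx
  have hxK : (x : Perm (Fin n)) ∈ K := hgoal _ (hP0 ⟨x, hx, rfl⟩) x.2
  have hK : K ≤ (Subgroup.closure {y : A | y ∈ (Q : Subgroup A) ∧ y ^ p = 1}).map A.subtype := by
    rw [MonoidHom.map_closure]
    refine Subgroup.closure_mono ?_
    rintro y ⟨hy, hys, hyp⟩
    refine ⟨⟨y, hys⟩, ⟨?_, Subtype.ext hyp⟩, rfl⟩
    rw [← heq]; exact hy
  obtain ⟨z, hz, hzx⟩ := hK hxK
  rwa [A.subtype_injective hzx] at hz

end Cfsg.Agent.S4623
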