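import Cfsg.Statements.S0068
import Mathlib.Tactic.NormNum
import Mathlib.GroupTheory.Perm.Cycle.Type

set_option autoImplicit false
open scoped Pointwise commutatorElement
open Cfsg

namespace Cfsg.Agent.S0068

/-- Frobenius complements of even order: if H complements a nontrivial normal subgroup K, each nonidentity element of H has trivial centraliser in K, and H has even order, then H contains a unique involution s, K is abelian, and s inverts every element of K. -/
theorem result {G : Type*} [Group G] [Finite G] (K H : Subgroup G) [K.Normal]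
    (hc : Subgroup.IsComplement' K H) (hK : K ≠ ⊥) (hfpf : ∀ h ∈ H, h ≠ 1 → K ⊓ Subgroup.centralizer {h} = ⊥)
    (heven : 2 ∣ Nat.card H) :
    (∃ s ∈ H, orderOf s = 2 ∧ (∀ t ∈ H, orderOf t = 2 → t = s) ∧ ∀ k ∈ K, s * k * s⁻¹ = k⁻¹) ∧ IsMulCommutative K := by
  have : Fact (Nat.Prime 2) := ⟨Nat.prime_two⟩
  obtain ⟨⟨s, hsH⟩, hs⟩ := exists_prime_orderOf_dvd_card' (G := H) 2 heven
  rw [Subgroup.orderOf_mk] at hs
  have hinvol : ∀ t ∈ H, orderOf t = 2 → ∀ k ∈ K, t * k * t⁻¹ = k⁻¹ := by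
    intro t htH ht k hk
    have htt : t⁻¹ = t := by
      rw [inv_eq_iff_mul_eq_one, ← sq, ← ht, pow_orderOf_eq_one]
    have ht1 : t ≠ 1 := fun h => by rw [h, orderOf_one] at ht; norm_num at ht
    let φ : K → K := fun x => ⟨t * x * t⁻¹ * (x : G)⁻¹,
      K.mul_mem ((inferInstance : K.Normal).conj_mem x x.2 t) (K.inv_mem x.2)⟩
    have hφ : Function.Injective φ := by
      intro x y hxy
      have h1 : t * x * t⁻¹ * (x : G)⁻¹ = t * y * t⁻¹ * (y : G)⁻¹ := congrArg Subtype.val hxy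
      have h2 : ((y : G)⁻¹ * x) ∈ K ⊓ Subgroup.centralizer {t} := by
        refine Subgroup.mem_inf.2 ⟨K.mul_mem (K.inv_mem y.2) x.2, ?_⟩
        rw [Subgroup.mem_centralizer_singleton_iff]
        have h3 := congrArg (fun u => t * (y : G)⁻¹ * t⁻¹ * u * (x : G) * t) h1
        simpa [mul_assoc] using h3.symm
      rw [hfpf t htH ht1, Subgroup.mem_bot, inv_mul_eq_one] at h2
      exact Subtype.ext h2.symm
    obtain ⟨x, hx⟩ := (Finite.injective_iff_surjective.1 hφ) ⟨k, hk⟩
    have hx' : t * x * t⁻¹ * (x : G)⁻¹ = k := congrArg Subtype.val hx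
    have h2t : t * t = 1 := by rw [← sq, ← ht, pow_orderOf_eq_one]
    rw [← hx', mul_inv_rev, mul_inv_rev, mul_inv_rev, inv_inv, inv_inv, htt]
    simp [← mul_assoc, h2t]
  have hsK := hinvol s hsH hs
  have hKab : IsMulCommutative K := .of_setLike_mul_comm fun a ha b hb => by
    have h1 := hsK _ (K.mul_mem ha hb)
    have h2 : s * (a * b) * s⁻¹ = (s * a * s⁻¹) * (s * b * s⁻¹) := by simp [mul_assoc]
    rw [h2, hsK a ha, hsK b hb, mul_inv_rev] at h1
    exact inv_injective (by rw [mul_inv_rev, mul_inv_rev]; exact h1.symm)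
  refine ⟨⟨s, hsH, hs, fun t htH ht => ?_, hsK⟩, hKab⟩
  by_contra hne
  have h1 : t⁻¹ * s ≠ 1 := fun h => hne (inv_mul_eq_one.1 h)
  apply hK
  rw [eq_bot_iff, ← hfpf _ (H.mul_mem (H.inv_mem htH) hsH) h1]
  intro k hk
  refine Subgroup.mem_inf.2 ⟨hk, ?_⟩
  rw [Subgroup.mem_centralizer_singleton_iff]
  have h2 : s * k * s⁻¹ = t * k * t⁻¹ := (hsK k hk).trans (hinvol t htH ht k hk).symm
  have h3 := congrArg (fun u => t⁻¹ * u * s) h2
  simpa [mul_assoc] using h3.symm

end Cfsg.Agent.S0068
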