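import Cfsg.Statements.S0069
import Cfsg.Agent.S0068
import Cfsg.Agent.Lib.Solvable.FixedPointFree
import Cfsg.Agent.Lib.Solvable.SchurZassenhaus
import Cfsg.Agent.Lib.Solvable.Structure
import Mathlib.GroupTheory.SpecificGroups.ZGroup

set_option autoImplicit false
open scoped Pointwise commutatorElement
open Cfsg

namespace Cfsg.Agent.S0069

/-- A Frobenius complement has nontrivial centre: if H ≠ 1 complements a nontrivial normal subgroup K and every nonidentity element of H has trivial centraliser in K, then the centre of H is nontrivial. -/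
theorem result {G : Type*} [Group G] [Finite G] (K H : Subgroup G) [K.Normal]
    (hc : Subgroup.IsComplement' K H) (hK : K ≠ ⊥) (hH : H ≠ ⊥) (hfpf : ∀ h ∈ H, h ≠ 1 → K ⊓ Subgroup.centralizer {h} = ⊥) :
    Subgroup.center H ≠ ⊥ := by
  have hHK : ∀ X : Subgroup G, X ≤ Subgroup.normalizer (K : Set G) := fun X => by
    rw [Subgroup.normalizer_eq_top]; exact le_top
  by_cases heven : 2 ∣ Nat.card H
  · obtain ⟨⟨s, hsH, hs, huniq, -⟩, -⟩ := Cfsg.Agent.S0068.result K H hc hK hfpf heven
    have hmem : (⟨s, hsH⟩ : H) ∈ Subgroup.center H := by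
      rw [Subgroup.mem_center_iff]
      rintro ⟨x, hx⟩
      apply Subtype.ext
      have h1 := huniq (x * s * x⁻¹) (H.mul_mem (H.mul_mem hx hsH) (H.inv_mem hx))
        (by rw [← hs]; exact orderOf_injective (MulAut.conj x).toMonoidHom (MulAut.conj x).injective s)
      exact mul_inv_eq_iff_eq_mul.1 h1
    intro h
    rw [h, Subgroup.mem_bot] at hmem
    rw [show s = 1 from congrArg Subtype.val hmem, orderOf_one] at hs
    norm_num at hs
  have hab := Cfsg.Agent.FpfStruct.abCyclic hK (hHK H) hfpf
  have hZ : IsZGroup H := ⟨fun p hp P => by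
    have : Fact p.Prime := ⟨hp⟩
    rcases Cfsg.Agent.FpfStruct.cyclic_or_quaternion P.isPGroup' (hab.subgroup _) with h | ⟨rfl, n, ⟨e⟩⟩
    · exact h
    · exfalso
      apply heven
      refine dvd_trans ?_ (P : Subgroup H).card_subgroup_dvd_card
      have : NeZero (2 ^ n) := ⟨pow_ne_zero n two_ne_zero⟩
      rw [Nat.card_congr e.toEquiv, Nat.card_eq_fintype_card, QuaternionGroup.card]
      exact Dvd.intro (2 * 2 ^ n) (by ring)⟩
  set A := commutator H with hA
  obtain ⟨B, hB⟩ := Subgroup.exists_right_complement'_of_coprime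
    (IsZGroup.coprime_commutator_index H)
  have hBab : ∀ x ∈ B, ∀ y ∈ B, x * y = y * x := by
    intro x hx y hy
    have h1 : ⁅x, y⁆ ∈ A ⊓ B := Subgroup.mem_inf.2
      ⟨Subgroup.commutator_mem_commutator (Subgroup.mem_top x) (Subgroup.mem_top y), by
        rw [commutatorElement_def]
        exact B.mul_mem (B.mul_mem (B.mul_mem hx hy) (B.inv_mem hx)) (B.inv_mem hy)⟩
    rw [hB.disjoint.eq_bot, Subgroup.mem_bot] at h1
    exact commutatorElement_eq_one_iff_commute.1 h1
  have hAcyc : IsCyclic A := IsZGroup.isCyclic_commutator H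
  have hBne : B ≠ ⊥ := by
    intro h
    have : Nontrivial H := Subgroup.nontrivial_iff_ne_bot _ |>.2 hH
    subst h
    have h1 := hB.sup_eq_top
    rw [sup_bot_eq] at h1
    exact (IsZGroup.commutator_lt (G := H)).ne h1
  have hBnt : Nontrivial B := Subgroup.nontrivial_iff_ne_bot _ |>.2 hBne
  obtain ⟨p, hp, hpd⟩ := Nat.exists_prime_and_dvd (Finite.one_lt_card (α := B)).ne'
  have : Fact p.Prime := ⟨hp⟩
  obtain ⟨⟨b, hbB⟩, hb⟩ := exists_prime_orderOf_dvd_card' (G := B) p hpd
  rw [Subgroup.orderOf_mk] at hb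
  set Z := (Subgroup.center K).map K.subtype with hZdef
  have hKnil : Group.IsNilpotent K := Cfsg.Agent.FrobeniusStruct.nilpotent_of_fpf hH hfpf
  have hKnt : Nontrivial K := Subgroup.nontrivial_iff_ne_bot _ |>.2 hK
  have hZ0 : Z ≠ ⊥ := fun h => by
    rw [hZdef, Subgroup.map_eq_bot_iff_of_injective _ K.subtype_injective] at h
    exact Cfsg.Agent.SolvStruct.inf_center_ne_bot (G := K) (N := ⊤) top_ne_bot (by rw [h, inf_bot_eq])
  have hZn : Z.Normal :=
    Cfsg.Agent.FittingCores.normal_map_of_characteristic (inferInstance : K.Normal) inferInstance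
  have hZab : IsMulCommutative Z := by
    refine .of_setLike_mul_comm ?_
    rintro _ ⟨x, hx, rfl⟩ _ ⟨y, -, rfl⟩
    rw [← map_mul, ← map_mul]
    exact congrArg _ (Subgroup.mem_center_iff.1 hx y).symm
  have hbA : Subgroup.zpowers b ≤ Subgroup.centralizer (A : Set H) := by
    refine Cfsg.Agent.CoprimeAct.le_centralizer_of_fix_prime (V := A)
      (by rw [Subgroup.normalizer_eq_top]; exact le_top) ?_ ?_
    · rw [Nat.card_zpowers, hb]
      refine Nat.Coprime.coprime_dvd_left ?_ (IsZGroup.coprime_commutator_index H).symm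
      rw [hB.symm.index_eq_card, ← hb, ← Subgroup.orderOf_mk b hbB]
      exact orderOf_dvd_natCard _
    · intro v hv hvord a ha
      obtain ⟨q, hq⟩ : ∃ q, q = orderOf v := ⟨_, rfl⟩
      have hqp : q.Prime := by rw [hq]; simpa using hvord
      have hVn : (Subgroup.zpowers v).Normal := by
        refine ⟨fun y hy g => ?_⟩
        obtain ⟨m, hm⟩ := MonoidHom.map_cyclic (MulAut.conjNormal (H := A) g).toMonoidHom
        obtain ⟨i, rfl⟩ := Subgroup.mem_zpowers_iff.1 hy
        refine Subgroup.mem_zpowers_iff.2 ⟨m * i, ?_⟩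
        have h1 : g * v * g⁻¹ = v ^ m := congrArg Subtype.val (hm ⟨v, hv⟩)
        rw [zpow_mul, ← h1, conj_zpow]
      set E := Subgroup.zpowers v ⊔ Subgroup.zpowers b with hE
      have hEc : Nat.card E = q * p := by
        rw [hE, Cfsg.Agent.SolvBasic.card_sup_of_inf_eq_bot
          (by rw [Subgroup.normalizer_eq_top]; exact le_top) (le_bot_iff.1 ((inf_le_inf
            (Subgroup.zpowers_le.2 hv) (Subgroup.zpowers_le.2 hbB)).trans hB.disjoint.eq_bot.le)),
          Nat.card_zpowers, Nat.card_zpowers, hb, hq]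
      have hcyc : IsCyclic (E.map H.subtype : Subgroup G) := by
        refine Cfsg.Agent.FpfStruct.pq_cyclic (V := Z) hZ0
          (by rw [Subgroup.normalizer_eq_top]; exact le_top) (fun e he he1 => ?_) hqp hp
          (by
            rw [← hEc]
            exact Nat.card_congr (E.equivMapOfInjective _ H.subtype_injective).toEquiv.symm)
        exact le_bot_iff.1 ((inf_le_inf_right _ (Subgroup.map_subtype_le _)).trans
          (hfpf e (Subgroup.map_subtype_le _ he) he1).le)
      have hm : IsMulCommutative (E.map H.subtype : Subgroup G) := IsCyclic.isMulCommutative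
      exact H.subtype_injective (by
        rw [map_mul, map_mul]
        exact setLike_mul_comm (s := E.map H.subtype)
          (Subgroup.mem_map_of_mem _ (Subgroup.mem_sup_right ha))
          (Subgroup.mem_map_of_mem _ (Subgroup.mem_sup_left (Subgroup.mem_zpowers v))))
  have hmem : b ∈ Subgroup.center H := by
    rw [Subgroup.mem_center_iff]
    intro x
    obtain ⟨⟨⟨a, ha⟩, ⟨c, hc'⟩⟩, rfl⟩ := hB.2 x
    have h1 := Subgroup.mem_centralizer_iff.1 (hbA (Subgroup.mem_zpowers b)) a ha
    change a * c * b = b * (a * c)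
    rw [mul_assoc, hBab c hc' b hbB, ← mul_assoc, h1, mul_assoc]
  intro h
  rw [h, Subgroup.mem_bot] at hmem
  rw [hmem, orderOf_one] at hb
  exact hp.one_lt.ne hb

end Cfsg.Agent.S0069
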