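import Cfsg.Statements.S1475
import Mathlib
import Cfsg.Agent.Lib.Solvable.Basic

set_option autoImplicit false
open Cfsg

namespace Cfsg.Agent.S1475


open scoped Pointwise
open Cfsg.Agent.SolvBasic

universe u

theorem no_fpf {G : Type u} [Group G] [Finite G] (N Q : Subgroup G) [N.Normal]
    (hNc : IsMulCommutative N) (hQc : IsMulCommutative Q) (y : G) (r : ℕ) (hr : r.Prime)
    (hy : orderOf y = r) (hyQ : y ∈ Subgroup.normalizer (Q : Set G)) (hQ : Q ≠ ⊥)
    (hco : (Nat.card Q).Coprime (Nat.card N))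
    (hQN : ∀ a ∈ Q, ∀ n ∈ N, Commute a n → a = 1 ∨ n = 1)
    (hyN : ∀ n ∈ N, Commute y n → n = 1) (hyQ' : ∀ a ∈ Q, Commute y a → a = 1) :
    N = ⊥ := by
  classical
  letI : CommGroup N := { (inferInstance : Group N) with mul_comm := fun a b => Subtype.ext (setLike_mul_comm a.2 b.2) }
  have : Fintype Q := Fintype.ofFinite Q
  rw [Subgroup.eq_bot_iff_forall]
  intro n0 hn0
  set n : N := ⟨n0, hn0⟩ with hn
  let φ : G →* MulAut N := MulAut.conjNormal
  have hcom : ∀ (g : G) (m : N), φ g m = m → Commute g (m : G) := by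
    intro g m h
    have h' : g * (m : G) * g⁻¹ = (m : G) := by
      have := congrArg Subtype.val h
      simpa [φ] using this
    exact mul_inv_eq_iff_eq_mul.1 h'
  have hrot : ∀ (z : G) (m : N), z ^ r = 1 →
      φ z (∏ j ∈ Finset.range r, φ (z ^ j) m) = ∏ j ∈ Finset.range r, φ (z ^ j) m := by
    intro z m hz
    have h1 := Finset.prod_range_succ' (fun j => φ (z ^ j) m) r
    rw [Finset.prod_range_succ, hz] at h1
    simp only [pow_zero, mul_left_inj] at h1
    rw [map_prod]
    conv_rhs => rw [h1]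
    refine Finset.prod_congr rfl fun j _ => ?_
    rw [pow_succ', map_mul, MulAut.mul_apply]
  have hyr : y ^ r = 1 := hy ▸ pow_orderOf_eq_one y
  have hT : ∀ l : Q, ∏ j ∈ Finset.range r, φ (((l : G) * y * (l : G)⁻¹) ^ j) n = 1 := by
    intro l
    set z := (l : G) * y * (l : G)⁻¹ with hz
    have hzr : z ^ r = 1 := by rw [hz, conj_pow, hyr, mul_one, mul_inv_cancel]
    have h := hrot z n hzr
    set m := ∏ j ∈ Finset.range r, φ (z ^ j) n
    have h' : φ y (φ (l : G)⁻¹ m) = φ (l : G)⁻¹ m := by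
      have := congrArg (fun a => φ (l : G)⁻¹ a) h
      simp only [← MulAut.mul_apply, ← map_mul] at this ⊢
      rwa [show (l : G)⁻¹ * z = y * (l : G)⁻¹ by rw [hz]; group] at this
    have h'' := hyN _ (φ (l : G)⁻¹ m).2 (hcom _ _ h')
    have h3 : φ (l : G)⁻¹ m = 1 := Subtype.ext h''
    exact (map_eq_one_iff (φ (l : G)⁻¹) (φ (l : G)⁻¹).injective).1 h3
  have hsum : ∀ m : N, ∏ l : Q, φ (l : G) m = 1 := by
    intro m
    obtain ⟨a, haQ, ha⟩ := Subgroup.bot_or_exists_ne_one Q |>.resolve_left hQ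
    set M := ∏ l : Q, φ (l : G) m
    have hfix : φ a M = M := by
      rw [map_prod]
      exact Fintype.prod_equiv (Equiv.mulLeft (⟨a, haQ⟩ : Q)) _ _ fun l => by
        simp only [Equiv.coe_mulLeft, Subgroup.coe_mul, map_mul, MulAut.mul_apply]
    exact Subtype.ext ((hQN a haQ M M.2 (hcom _ _ hfix)).resolve_left ha)
  have hj : ∀ j ∈ Finset.range r, j ≠ 0 → ∏ l : Q, φ (((l : G) * y * (l : G)⁻¹) ^ j) n = 1 := by
    intro j hj hj0
    have hyjQ : y ^ j ∈ Subgroup.normalizer (Q : Set G) := pow_mem hyQ j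
    let σ : Q → Q := fun l => l * ⟨y ^ j * (l : G)⁻¹ * (y ^ j)⁻¹,
      (Subgroup.mem_normalizer_iff.1 hyjQ _).1 (inv_mem l.2)⟩
    have hinj : Function.Injective σ := by
      intro l l' h
      have h0 : (l : G) * (y ^ j * (l : G)⁻¹ * (y ^ j)⁻¹) = (l' : G) * (y ^ j * (l' : G)⁻¹ * (y ^ j)⁻¹) :=
        congrArg Subtype.val h
      have ha : (l : G)⁻¹ * (l' : G) ∈ Q := mul_mem (inv_mem l.2) l'.2
      have hc : Commute (y ^ j) ((l : G)⁻¹ * (l' : G)) := by
        have hq : y ^ j * (l : G)⁻¹ * (y ^ j)⁻¹ = (l : G)⁻¹ * (l' : G) * (y ^ j * (l' : G)⁻¹ * (y ^ j)⁻¹) := by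
          rw [mul_assoc ((l : G)⁻¹), ← h0, inv_mul_cancel_left]
        have hd : y ^ j * ((l : G)⁻¹ * (l' : G)) * (y ^ j)⁻¹ = (l : G)⁻¹ * (l' : G) := by
          have := congrArg (fun t => t * (y ^ j * (l' : G) * (y ^ j)⁻¹)) hq
          simpa [mul_assoc] using this
        exact mul_inv_eq_iff_eq_mul.1 hd
      have hco' : (orderOf y).Coprime j := by
        rw [hy, Nat.coprime_comm]
        exact Nat.Coprime.symm (hr.coprime_iff_not_dvd.2 (Nat.not_dvd_of_pos_of_lt (Nat.pos_of_ne_zero hj0) (Finset.mem_range.1 hj)))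
      obtain ⟨m, hm⟩ := exists_pow_eq_self_of_coprime hco'.symm
      have hc' : Commute y ((l : G)⁻¹ * (l' : G)) := by
        have := hc.pow_left m
        rwa [hm] at this
      exact Subtype.ext (inv_mul_eq_one.1 (hyQ' _ ha hc'))
    have hb : Function.Bijective σ := Finite.injective_iff_bijective.1 hinj
    rw [← hsum (φ (y ^ j) n)]
    refine Fintype.prod_equiv (Equiv.ofBijective σ hb) _ _ fun l => ?_
    rw [← MulAut.mul_apply, ← map_mul, conj_pow]
    congr 2
    simp only [Equiv.ofBijective_apply, σ, Subgroup.coe_mul]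
    group
  have htot : ∏ j ∈ Finset.range r, ∏ l : Q, φ (((l : G) * y * (l : G)⁻¹) ^ j) n = 1 := by
    rw [Finset.prod_comm]; exact Finset.prod_eq_one fun l _ => hT l
  rw [Finset.prod_eq_single_of_mem 0 (Finset.mem_range.2 hr.pos) hj] at htot
  simp only [pow_zero, map_one, MulAut.one_apply, Finset.prod_const, Finset.card_univ,
    ← Nat.card_eq_fintype_card] at htot
  have : orderOf n = 1 := Nat.eq_one_of_dvd_coprimes hco (orderOf_dvd_of_pow_eq_one htot) (orderOf_dvd_natCard n)
  exact congrArg Subtype.val (orderOf_eq_one_iff.1 this)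

theorem no_comm {G : Type u} [Group G] [Finite G] (h : ∀ g : G, IsPrimePow (orderOf g) ∨ g = 1)
    {a b : G} (hc : Commute a b) (hco : (orderOf a).Coprime (orderOf b)) : a = 1 ∨ b = 1 := by
  by_contra hh
  push Not at hh
  have ha : orderOf a ≠ 1 := mt orderOf_eq_one_iff.1 hh.1
  have hb : orderOf b ≠ 1 := mt orderOf_eq_one_iff.1 hh.2
  have ho := hc.orderOf_mul_eq_mul_orderOf_of_coprime hco
  obtain hp | h1 := h (a * b)
  · obtain ⟨p, hp, huniq⟩ := isPrimePow_iff_unique_prime_dvd.1 hp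
    obtain ⟨p1, hp1, hd1⟩ := Nat.exists_prime_and_dvd ha
    obtain ⟨p2, hp2, hd2⟩ := Nat.exists_prime_and_dvd hb
    have e1 := huniq p1 ⟨hp1, ho ▸ hd1.mul_right _⟩
    have e2 := huniq p2 ⟨hp2, ho ▸ hd2.mul_left _⟩
    exact hp1.not_dvd_one (hco ▸ Nat.dvd_gcd hd1 (e1.trans e2.symm ▸ hd2))
  · rw [h1, orderOf_one] at ho
    exact ha (Nat.eq_one_of_mul_eq_one_right ho.symm)

theorem two_primes : ∀ n : ℕ, ∀ (G : Type u) [Group G] [Finite G] [Group.IsSolvable G],
    Nat.card G = n → (∀ g : G, IsPrimePow (orderOf g) ∨ g = 1) →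
    (Nat.card G).primeFactors.card ≤ 2 := by
  intro n
  induction n using Nat.strong_induction_on with
  | _ n ih =>
    intro G _ _ _ hn h
    by_contra hcard
    have hG : (⊤ : Subgroup G) ≠ ⊥ := by
      intro e
      have : Nat.card G = 1 := by rw [← Subgroup.card_top, e, Subgroup.card_bot]
      rw [this] at hcard; simp at hcard
    obtain ⟨N, p, hp, hNn, hN, -, hNc, -, hNp, -⟩ :=
      exists_minimal_normal_abelian (N := (⊤ : Subgroup G)) inferInstance hG
    have : Fact p.Prime := ⟨hp⟩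
    obtain ⟨a, ha⟩ := IsPGroup.iff_card.1 hNp
    have ha0 : a ≠ 0 := by
      rintro rfl; exact hN (Subgroup.card_eq_one.1 (by simpa using ha))
    have hGcard : Nat.card G = Nat.card (G ⧸ N) * Nat.card N := Subgroup.card_eq_card_quotient_mul_card_subgroup N
    have hquot : ∀ g : G ⧸ N, IsPrimePow (orderOf g) ∨ g = 1 := by
      intro g
      induction g using QuotientGroup.induction_on with | H g => ?_
      have hd : orderOf (g : G ⧸ N) ∣ orderOf g := orderOf_map_dvd (QuotientGroup.mk' N) g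
      by_cases h1 : (g : G ⧸ N) = 1
      · exact Or.inr h1
      obtain h2 | rfl := h g
      · exact Or.inl (h2.dvd hd (mt orderOf_eq_one_iff.1 h1))
      · exact absurd rfl h1
    have hlt : Nat.card (G ⧸ N) < n := by
      rw [← hn, hGcard]
      refine lt_mul_of_one_lt_right Nat.card_pos ?_
      rw [ha]; exact Nat.one_lt_pow ha0 hp.one_lt
    have hq2 := ih _ hlt (G ⧸ N) rfl hquot
    have hpf : (Nat.card G).primeFactors = (Nat.card (G ⧸ N)).primeFactors ∪ {p} := by
      rw [hGcard, Nat.primeFactors_mul Nat.card_pos.ne' Nat.card_pos.ne', ha, Nat.primeFactors_prime_pow ha0 hp]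
    rw [hpf] at hcard
    have hp_not : p ∉ (Nat.card (G ⧸ N)).primeFactors := by
      intro hmem
      rw [Finset.union_eq_left.2 (Finset.singleton_subset_iff.2 hmem)] at hcard
      exact hcard hq2
    rw [Finset.card_union_of_disjoint (Finset.disjoint_singleton_right.2 hp_not), Finset.card_singleton] at hcard
    have hcard2 : (Nat.card (G ⧸ N)).primeFactors.card = 2 := by omega
    have hQ : (⊤ : Subgroup (G ⧸ N)) ≠ ⊥ := by
      intro e
      have : Nat.card (G ⧸ N) = 1 := by rw [← Subgroup.card_top, e, Subgroup.card_bot]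
      rw [this] at hcard2; simp at hcard2
    obtain ⟨M, s, hs, hMn, hM, -, hMc, -, hMs, -⟩ :=
      exists_minimal_normal_abelian (N := (⊤ : Subgroup (G ⧸ N))) inferInstance hQ
    have : Fact s.Prime := ⟨hs⟩
    obtain ⟨b, hb⟩ := IsPGroup.iff_card.1 hMs
    have hb0 : b ≠ 0 := by
      rintro rfl; exact hM (Subgroup.card_eq_one.1 (by simpa using hb))
    have hsmem : s ∈ (Nat.card (G ⧸ N)).primeFactors := Nat.mem_primeFactors.2
      ⟨hs, ((hb ▸ dvd_pow_self s hb0 : s ∣ Nat.card M).trans M.card_subgroup_dvd_card), Nat.card_pos.ne'⟩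
    obtain ⟨r, hrmem, hrs⟩ := Finset.exists_mem_ne (by omega : 1 < (Nat.card (G ⧸ N)).primeFactors.card) s
    have hr := Nat.prime_of_mem_primeFactors hrmem
    have hps : p ≠ s := fun e => hp_not (e ▸ hsmem)
    have hpr : p ≠ r := fun e => hp_not (e ▸ hrmem)
    set L := M.comap (QuotientGroup.mk' N) with hL
    have : L.Normal := hMn.comap _
    have hLcard : Nat.card L = Nat.card M * Nat.card N := by
      have h1 := Subgroup.card_eq_card_quotient_mul_card_subgroup L
      have h2 : L.index = M.index := Subgroup.index_comap_of_surjective M (QuotientGroup.mk'_surjective N)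
      have h3 := M.card_mul_index
      have h4 := L.card_mul_index
      have h5 : 0 < M.index := Nat.pos_of_ne_zero Subgroup.index_ne_zero_of_finite
      refine Nat.eq_of_mul_eq_mul_right h5 ?_
      calc Nat.card L * M.index = Nat.card G := by rw [← h2]; exact h4
        _ = Nat.card (G ⧸ N) * Nat.card N := hGcard
        _ = _ := by rw [← h3]; ring
    obtain ⟨P⟩ := (inferInstance : Nonempty (Sylow s L))
    set Q := (P : Subgroup L).map L.subtype with hQdef
    have hQs : IsPGroup s Q := P.isPGroup'.map _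
    have hQL : Q ≤ L := Subgroup.map_subtype_le _
    have hQne : Q ≠ ⊥ := by
      intro e
      have h1 : (P : Subgroup L) = ⊥ := (Subgroup.map_eq_bot_iff_of_injective _ L.subtype_injective).1 e
      exact P.ne_bot_of_dvd_card (hLcard ▸ ((hb ▸ dvd_pow_self s hb0 : s ∣ Nat.card M).mul_right _)) h1
    have hQN : Q ⊓ N = ⊥ := disjoint_iff.1 (IsPGroup.disjoint_of_ne s p hps.symm _ _ hQs hNp)
    have hQc : IsMulCommutative Q := by
      refine .of_setLike_mul_comm fun x hx z hz => ?_
      have hm : ∀ w ∈ Q, QuotientGroup.mk' N w ∈ M := fun w hw => hQL hw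
      have h1 := setLike_mul_comm (hm x hx) (hm z hz)
      rw [← map_mul, ← map_mul, QuotientGroup.mk'_eq_mk'] at h1
      obtain ⟨w, hw, hxz⟩ := h1
      have : w ∈ Q ⊓ N := ⟨by
        have e : w = (x * z)⁻¹ * (z * x) := by rw [← hxz]; group
        rw [e]; exact Q.mul_mem (Q.inv_mem (Q.mul_mem hx hz)) (Q.mul_mem hz hx), hw⟩
      rw [hQN, Subgroup.mem_bot] at this
      rw [this, mul_one] at hxz; exact hxz
    have hfr : Subgroup.normalizer (Q : Set G) ⊔ L = ⊤ := Sylow.normalizer_sup_eq_top P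
    have hrL : ¬ r ∣ Nat.card L := by
      rw [hLcard, hb, ha]
      intro hd
      obtain hd | hd := (Nat.Prime.dvd_mul hr).1 hd
      · exact hrs ((Nat.prime_dvd_prime_iff_eq hr hs).1 (hr.dvd_of_dvd_pow hd))
      · exact hpr ((Nat.prime_dvd_prime_iff_eq hr hp).1 (hr.dvd_of_dvd_pow hd)).symm
    have hrN : r ∣ Nat.card (Subgroup.normalizer (Q : Set G)) := by
      have h1 := card_sup_mul_card_inf (N := L) (H := Subgroup.normalizer (Q : Set G))
        Subgroup.le_normalizer_of_normal
      rw [sup_comm, hfr, Subgroup.card_top] at h1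
      have h2 : r ∣ Nat.card L * Nat.card (Subgroup.normalizer (Q : Set G)) := h1 ▸
        ((Nat.dvd_of_mem_primeFactors hrmem).trans N.card_quotient_dvd_card).mul_right _
      exact ((Nat.Prime.dvd_mul hr).1 h2).resolve_left hrL
    have : Fact r.Prime := ⟨hr⟩
    obtain ⟨⟨y, hyQ⟩, hy⟩ := exists_prime_orderOf_dvd_card' r hrN
    have hy' : orderOf y = r := by rw [← hy, Subgroup.orderOf_mk]
    have hy1 : y ≠ 1 := by rintro rfl; rw [orderOf_one] at hy'; exact hr.ne_one hy'.symm
    have hcoQN : (Nat.card Q).Coprime (Nat.card N) := IsPGroup.coprime_card_of_ne s p hps.symm _ _ hQs hNp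
    have hoN : ∀ n ∈ N, orderOf n ∣ Nat.card N := fun n hn => N.orderOf_dvd_natCard hn
    have hoQ : ∀ n ∈ Q, orderOf n ∣ Nat.card Q := fun n hn => Q.orderOf_dvd_natCard hn
    have hrN' : r.Coprime (Nat.card N) := by
      rw [ha]; exact Nat.Coprime.pow_right _ ((Nat.coprime_primes hr hp).2 hpr.symm)
    have hrQ' : r.Coprime (Nat.card Q) := by
      obtain ⟨c, hc⟩ := IsPGroup.iff_card.1 hQs
      rw [hc]; exact Nat.Coprime.pow_right _ ((Nat.coprime_primes hr hs).2 hrs)
    refine hN (no_fpf N Q hNc hQc y r hr hy' hyQ hQne hcoQN ?_ ?_ ?_)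
    · intro a ha n hn hc
      exact no_comm h hc (Nat.Coprime.coprime_dvd_right (hoN n hn) (Nat.Coprime.coprime_dvd_left (hoQ a ha) hcoQN))
    · intro n hn hc
      exact (no_comm h hc (hy' ▸ Nat.Coprime.coprime_dvd_right (hoN n hn) hrN')).resolve_left hy1
    · intro a ha hc
      exact (no_comm h hc (hy' ▸ Nat.Coprime.coprime_dvd_right (hoQ a ha) hrQ')).resolve_left hy1

/-- Let G be a finite solvable group such that the order of every element is a prime power (1 included). Then at most two distinct primes divide the order of G. -/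
theorem result {G : Type*} [Group G] [Finite G] [Group.IsSolvable G] (h : ∀ g : G, IsPrimePow (orderOf g) ∨ g = 1) :
    (Nat.card G).primeFactors.card ≤ 2 := by
  exact two_primes _ G rfl h

end Cfsg.Agent.S1475
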