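import Cfsg.Statements.S0213
import Cfsg.Agent.Lib.Involutions.Counting
import Mathlib.GroupTheory.SpecificGroups.Cyclic

set_option autoImplicit false
open Cfsg

namespace Cfsg.Agent.S0213

open Classical in
theorem class_card {G : Type*} [Group G] [Finite G] (x : G) :
    Nat.card (Subgroup.centralizer ({x} : Set G)) * Nat.card {v : G // IsConj x v} = Nat.card G := by
  rw [← Subgroup.card_mul_index (Subgroup.centralizer ({x} : Set G))]
  congr 1
  refine (Nat.card_congr (Equiv.ofBijective (fun q : G ⧸ Subgroup.centralizer ({x} : Set G) =>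
    (⟨q.out * x * q.out⁻¹, isConj_iff.mpr ⟨q.out, rfl⟩⟩ : {v : G // IsConj x v})) ⟨?_, ?_⟩)).symm
  · intro a b h
    rw [← QuotientGroup.out_eq' a, ← QuotientGroup.out_eq' b, QuotientGroup.eq,
      Subgroup.mem_centralizer_singleton_iff]
    have h' : a.out * x * a.out⁻¹ = b.out * x * b.out⁻¹ := Subtype.ext_iff.mp h
    calc a.out⁻¹ * b.out * x = a.out⁻¹ * (b.out * x * b.out⁻¹) * b.out := by group
      _ = a.out⁻¹ * (a.out * x * a.out⁻¹) * b.out := by rw [h']
      _ = x * (a.out⁻¹ * b.out) := by group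
  · rintro ⟨v, hv⟩
    obtain ⟨g, hg⟩ := isConj_iff.mp hv
    refine ⟨QuotientGroup.mk g, Subtype.ext ?_⟩
    obtain ⟨h, hh⟩ := QuotientGroup.mk_out_eq_mul (Subgroup.centralizer ({x} : Set G)) g
    have hc := Subgroup.mem_centralizer_singleton_iff.mp h.2
    show (QuotientGroup.mk g : G ⧸ _).out * x * _ = v
    rw [hh, ← hg, mul_assoc g, hc, mul_inv_rev]
    group

/-- Pairs whose product powers to a given involution. -/
abbrev Above {G : Type*} [Group G] (x₁ x₂ z : G) : Type _ :=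
  {p : G × G // IsConj x₁ p.1 ∧ IsConj x₂ p.2 ∧ z ∈ Subgroup.zpowers (p.1 * p.2)}

theorem card_above {G : Type*} [Group G] [Finite G] (x₁ x₂ z g : G) :
    Nat.card (Above x₁ x₂ (g * z * g⁻¹)) = Nat.card (Above x₁ x₂ z) := by
  symm
  refine Nat.card_congr (Equiv.subtypeEquiv
    ((MulAut.conj g).toEquiv.prodCongr (MulAut.conj g).toEquiv) fun p => ?_)
  have hconj : ∀ x v : G, IsConj x v ↔ IsConj x (MulAut.conj g v) := fun x v =>
    ⟨fun h => h.trans (isConj_iff.mpr ⟨g, rfl⟩),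
      fun h => h.trans (isConj_iff.mpr ⟨g, rfl⟩ : IsConj v (MulAut.conj g v)).symm⟩
  refine and_congr (hconj _ _) (and_congr (hconj _ _) ?_)
  change z ∈ Subgroup.zpowers (p.1 * p.2) ↔
    MulAut.conj g z ∈ Subgroup.zpowers (MulAut.conj g p.1 * MulAut.conj g p.2)
  rw [← map_mul]
  constructor
  · rintro ⟨k, rfl⟩; exact ⟨k, (map_zpow (MulAut.conj g) _ k).symm⟩
  · rintro ⟨k, hk⟩
    exact ⟨k, (MulAut.conj g).injective ((map_zpow (MulAut.conj g) _ k).trans hk)⟩

/-- Thompson Order Formula, two-class case: if every involution of the finite group G is conjugate to exactly one of the non-conjugate involutions x₁, x₂, and nᵢ is the number of pairs (u, v) with u conjugate to x₁, v conjugate to x₂ and xᵢ in the cyclic group generated by uv, then |G| = |C(x₂)| n₁ + |C(x₁)| n₂. -/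
theorem result {G : Type*} [Group G] [Finite G] (x₁ x₂ : G) (h₁ : orderOf x₁ = 2) (h₂ : orderOf x₂ = 2) (hnc : ¬ IsConj x₁ x₂) (hall : ∀ t : G, orderOf t = 2 → IsConj x₁ t ∨ IsConj x₂ t) : Nat.card G = Nat.card (Subgroup.centralizer ({x₂} : Set G)) * Nat.card {p : G × G // IsConj x₁ p.1 ∧ IsConj x₂ p.2 ∧ x₁ ∈ Subgroup.zpowers (p.1 * p.2)} + Nat.card (Subgroup.centralizer ({x₁} : Set G)) * Nat.card {p : G × G // IsConj x₁ p.1 ∧ IsConj x₂ p.2 ∧ x₂ ∈ Subgroup.zpowers (p.1 * p.2)} := by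
  classical
  have := Fintype.ofFinite G
  have ho : ∀ {x v : G}, orderOf x = 2 → IsConj x v → orderOf v = 2 := by
    intro x v hx h
    obtain ⟨g, rfl⟩ := isConj_iff.mp h
    rw [Invol.order_conj, hx]
  have heven : ∀ p : {v : G // IsConj x₁ v} × {v : G // IsConj x₂ v},
      Even (orderOf (p.1.1 * p.2.1)) := by
    intro p
    by_contra h
    obtain ⟨d, -, hd⟩ := Invol.conj_of_odd (ho h₁ p.1.2) (ho h₂ p.2.2) (Nat.not_even_iff_odd.mp h)
    exact hnc ((p.1.2.trans (isConj_iff.mpr ⟨d, hd⟩)).trans p.2.2.symm)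
  let e : ({v : G // IsConj x₁ v} × {v : G // IsConj x₂ v}) ≃
      (Σ z : {z : G // orderOf z = 2}, Above x₁ x₂ z.1) :=
    { toFun := fun p => ⟨⟨(p.1.1 * p.2.1) ^ (orderOf (p.1.1 * p.2.1) / 2),
          Invol.half_order (ho h₁ p.1.2) (ho h₂ p.2.2) (heven p) (orderOf_pos _)⟩,
        ⟨(p.1.1, p.2.1), p.1.2, p.2.2, pow_mem (Subgroup.mem_zpowers _) _⟩⟩
      invFun := fun s => (⟨s.2.1.1, s.2.2.1⟩, ⟨s.2.1.2, s.2.2.2.1⟩)
      left_inv := fun _ => rfl
      right_inv := by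
        rintro ⟨⟨z, hz⟩, ⟨⟨u, v⟩, hu, hv, hmem⟩⟩
        obtain ⟨-, rfl⟩ := Invol.eq_half hz hmem
        rfl }
  have hcount := Nat.card_congr e
  rw [Nat.card_prod, Nat.card_sigma] at hcount
  set N₁ := Nat.card {p : G × G // IsConj x₁ p.1 ∧ IsConj x₂ p.2 ∧ x₁ ∈ Subgroup.zpowers (p.1 * p.2)}
  set N₂ := Nat.card {p : G × G // IsConj x₁ p.1 ∧ IsConj x₂ p.2 ∧ x₂ ∈ Subgroup.zpowers (p.1 * p.2)}
  have hval : ∀ z : {z : G // orderOf z = 2}, Nat.card (Above x₁ x₂ z.1) =
      if IsConj x₁ z.1 then N₁ else N₂ := by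
    intro z
    split_ifs with h
    · obtain ⟨g, hg⟩ := isConj_iff.mp h
      rw [← hg]; exact card_above x₁ x₂ x₁ g
    · obtain ⟨g, hg⟩ := isConj_iff.mp ((hall z.1 z.2).resolve_left h)
      rw [← hg]; exact card_above x₁ x₂ x₂ g
  simp only [hval, Finset.sum_ite, Finset.sum_const, smul_eq_mul] at hcount
  have hk1 : (Finset.univ.filter fun z : {z : G // orderOf z = 2} => IsConj x₁ z.1).card =
      Nat.card {v : G // IsConj x₁ v} := by
    rw [← Fintype.card_subtype, ← Nat.card_eq_fintype_card]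
    exact Nat.card_congr
      { toFun := fun z => ⟨z.1.1, z.2⟩
        invFun := fun v => ⟨⟨v.1, ho h₁ v.2⟩, v.2⟩
        left_inv := fun _ => rfl
        right_inv := fun _ => rfl }
  have hk2 : (Finset.univ.filter fun z : {z : G // orderOf z = 2} => ¬ IsConj x₁ z.1).card =
      Nat.card {v : G // IsConj x₂ v} := by
    rw [← Fintype.card_subtype, ← Nat.card_eq_fintype_card]
    exact Nat.card_congr
      { toFun := fun z => ⟨z.1.1, (hall z.1.1 z.1.2).resolve_left z.2⟩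
        invFun := fun v => ⟨⟨v.1, ho h₂ v.2⟩, fun h => hnc (h.trans v.2.symm)⟩
        left_inv := fun _ => rfl
        right_inv := fun _ => rfl }
  rw [hk1, hk2] at hcount
  have e1 := class_card x₁
  have e2 := class_card x₂
  set c₁ := Nat.card (Subgroup.centralizer ({x₁} : Set G))
  set c₂ := Nat.card (Subgroup.centralizer ({x₂} : Set G))
  set g := Nat.card G
  set k₁ := Nat.card {v : G // IsConj x₁ v}
  set k₂ := Nat.card {v : G // IsConj x₂ v}
  have hg : 0 < g := Nat.card_pos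
  refine Nat.eq_of_mul_eq_mul_left hg ?_
  calc g * g = (c₁ * k₁) * (c₂ * k₂) := by rw [e1, e2]
    _ = (c₁ * c₂) * (k₁ * k₂) := by ring
    _ = (c₁ * c₂) * (k₁ * N₁ + k₂ * N₂) := by rw [hcount]
    _ = (c₁ * k₁) * (c₂ * N₁) + (c₂ * k₂) * (c₁ * N₂) := by ring
    _ = g * (c₂ * N₁ + c₁ * N₂) := by rw [e1, e2]; ring

end Cfsg.Agent.S0213
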