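import Cfsg.Statements.S1019
import Cfsg.Agent.S0213

set_option autoImplicit false
open Cfsg

namespace Cfsg.Agent.S1019

/-- Let H be a subgroup of a finite group G and x an element of H. In the action of G on the left cosets of H, the number of cosets fixed by x, multiplied by the size of the conjugacy class of x, equals the index of H multiplied by the number of conjugates of x that lie in H. -/
theorem result {G : Type*} [Group G] [Finite G] (H : Subgroup G) (x : G) (hx : x ∈ H) : Nat.card (MulAction.fixedBy (G ⧸ H) x) * Nat.card {g : G // IsConj x g} = H.index * Nat.card {g : G // IsConj x g ∧ g ∈ H} := by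
  have h1 : Nat.card {g : G // g⁻¹ * x * g ∈ H} = Nat.card (MulAction.fixedBy (G ⧸ H) x) * Nat.card H := by
    have hiff : ∀ g : G, g⁻¹ * x * g ∈ H ↔ (QuotientGroup.mk g : G ⧸ H) ∈ MulAction.fixedBy (G ⧸ H) x := by
      intro g
      rw [MulAction.mem_fixedBy, MulAction.Quotient.smul_mk, QuotientGroup.eq, smul_eq_mul, mul_inv_rev,
        ← inv_mem_iff (x := g⁻¹ * x⁻¹ * g)]
      simp [mul_assoc]
    rw [Nat.card_congr (Equiv.subtypeEquivRight hiff), mul_comm, ← Nat.card_prod]
    exact Nat.card_congr (QuotientGroup.preimageMkEquivSubgroupProdSet H (MulAction.fixedBy (G ⧸ H) x))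
  have h2 : Nat.card {g : G // g⁻¹ * x * g ∈ H} =
      Nat.card (Subgroup.centralizer ({x} : Set G)) * Nat.card {g : G // IsConj x g ∧ g ∈ H} := by
    classical
    choose φ hφ using fun v : {g : G // IsConj x g ∧ g ∈ H} => isConj_iff.mp v.2.1
    rw [← Nat.card_prod]
    refine (Nat.card_congr (Equiv.ofBijective
      (fun cv : Subgroup.centralizer ({x} : Set G) × {g : G // IsConj x g ∧ g ∈ H} =>
        (⟨(cv.1 : G) * (φ cv.2)⁻¹, ?_⟩ : {g : G // g⁻¹ * x * g ∈ H})) ⟨?_, ?_⟩)).symm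
    · have h := Subgroup.mem_centralizer_singleton_iff.mp cv.1.2
      have : ((cv.1 : G) * (φ cv.2)⁻¹)⁻¹ * x * ((cv.1 : G) * (φ cv.2)⁻¹) = cv.2.1 := by
        rw [mul_inv_rev, inv_inv, ← hφ cv.2]
        calc φ cv.2 * (cv.1 : G)⁻¹ * x * ((cv.1 : G) * (φ cv.2)⁻¹)
            = φ cv.2 * (cv.1 : G)⁻¹ * (x * cv.1) * (φ cv.2)⁻¹ := by group
          _ = φ cv.2 * (cv.1 : G)⁻¹ * (cv.1 * x) * (φ cv.2)⁻¹ := by rw [h]
          _ = φ cv.2 * x * (φ cv.2)⁻¹ := by group
      rw [this]; exact cv.2.2.2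
    · rintro ⟨c, v⟩ ⟨c', v'⟩ h
      have h' : (c : G) * (φ v)⁻¹ = (c' : G) * (φ v')⁻¹ := Subtype.ext_iff.mp h
      have e : ∀ (c : Subgroup.centralizer ({x} : Set G)) (v : {g : G // IsConj x g ∧ g ∈ H}),
          ((c : G) * (φ v)⁻¹)⁻¹ * x * ((c : G) * (φ v)⁻¹) = v.1 := by
        intro c v
        have h := Subgroup.mem_centralizer_singleton_iff.mp c.2
        rw [mul_inv_rev, inv_inv]
        calc φ v * (c : G)⁻¹ * x * ((c : G) * (φ v)⁻¹) = φ v * (c : G)⁻¹ * (x * c) * (φ v)⁻¹ := by group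
          _ = φ v * (c : G)⁻¹ * (c * x) * (φ v)⁻¹ := by rw [h]
          _ = φ v * x * (φ v)⁻¹ := by group
          _ = v.1 := hφ v
      have hv : v = v' := Subtype.ext (by rw [← e c v, h', e c' v'])
      subst hv
      exact Prod.ext (Subtype.ext (mul_right_cancel h')) rfl
    · rintro ⟨g, hg⟩
      let v : {g : G // IsConj x g ∧ g ∈ H} :=
        ⟨g⁻¹ * x * g, isConj_iff.mpr ⟨g⁻¹, by rw [inv_inv]⟩, hg⟩
      refine ⟨(⟨g * φ v, ?_⟩, v), Subtype.ext (mul_inv_cancel_right _ _)⟩
      rw [Subgroup.mem_centralizer_singleton_iff]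
      calc g * φ v * x = g * (φ v * x * (φ v)⁻¹) * φ v := by group
        _ = g * (g⁻¹ * x * g) * φ v := by rw [hφ v]
        _ = x * (g * φ v) := by group
  have h3 := S0213.class_card x
  have hH := H.card_mul_index
  rw [h1] at h2
  refine Nat.eq_of_mul_eq_mul_right (Nat.card_pos (α := H)) ?_
  calc Nat.card (MulAction.fixedBy (G ⧸ H) x) * Nat.card {g : G // IsConj x g} * Nat.card H
      = Nat.card (MulAction.fixedBy (G ⧸ H) x) * Nat.card H * Nat.card {g : G // IsConj x g} := by ring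
    _ = Nat.card (Subgroup.centralizer ({x} : Set G)) * Nat.card {g : G // IsConj x g} *
        Nat.card {g : G // IsConj x g ∧ g ∈ H} := by rw [h2]; ring
    _ = H.index * Nat.card {g : G // IsConj x g ∧ g ∈ H} * Nat.card H := by rw [h3, ← hH]; ring

end Cfsg.Agent.S1019
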