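import Cfsg.Statements.S0254
import Cfsg.Agent.Lib.Classical.IcosahedralRep
import Cfsg.Agent.Lib.Classical.ProjLine
-- import your own Cfsg.Agent.* helpers here

set_option autoImplicit false
open Cfsg

namespace Cfsg.Agent.S0254

/-- PSL_2(9) is isomorphic to A_6. -/
theorem result {F : Type*} [Field F] [Fintype F] (hF : Fintype.card F = 9) : Nonempty (Matrix.ProjectiveSpecialLinearGroup (Fin 2) F ≃* alternatingGroup (Fin 6)) := by
  classical
  have hF' : Nat.card F = 9 := by rw [Nat.card_eq_fintype_card, hF]
  haveI : IsSimpleGroup (Matrix.ProjectiveSpecialLinearGroup (Fin 2) F) :=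
    Matrix.ProjectiveSpecialLinearGroup.rank_two_simple (by omega)
  have hc : Nat.card (Matrix.ProjectiveSpecialLinearGroup (Fin 2) F) = 360 := by
    have h := ProjLine.two_mul_card_psl (F := F)
    rw [hF', show Nat.gcd 2 (9 - 1) = 2 from rfl] at h
    omega
  have h9 : ((9 : ℕ) : F) = 0 := hF ▸ Nat.cast_card_eq_zero F
  have h3 : (3 : F) = 0 := by
    have h' : (3 : F) * 3 = 0 := by norm_num; exact_mod_cast h9
    simpa using h'
  have h2 : (2 : F) ≠ 0 := fun h => one_ne_zero (α := F) (by linear_combination h3 - h)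
  have h5 : (5 : F) ≠ 0 := fun h => one_ne_zero (α := F) (by linear_combination 2 * h3 - h)
  have hd : 5 ∣ Nat.card (Matrix.SpecialLinearGroup (Fin 2) F) :=
    (show 5 ∣ Nat.card (Matrix.ProjectiveSpecialLinearGroup (Fin 2) F) by rw [hc]; norm_num).trans
      (Subgroup.card_quotient_dvd_card _)
  obtain ⟨f, hf⟩ := Icosahedral.exists_alternating_five h2 h5 hd
  have hcH : Nat.card f.range = 60 := by
    rw [← Nat.card_congr (MonoidHom.ofInjective hf).toEquiv]
    have h := two_mul_card_alternatingGroup (α := Fin 5)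
    rw [Fintype.card_perm, Fintype.card_fin, show Nat.factorial 5 = 120 from rfl] at h
    rw [Nat.card_eq_fintype_card]
    omega
  have hidx : f.range.index = 6 := by
    have h := Subgroup.card_mul_index f.range
    rw [hcH, hc] at h
    omega
  have hne : f.range ≠ ⊤ := fun h => by
    rw [h, Subgroup.index_top] at hidx
    omega
  let act := MulAction.toPermHom (Matrix.ProjectiveSpecialLinearGroup (Fin 2) F)
    (Matrix.ProjectiveSpecialLinearGroup (Fin 2) F ⧸ f.range)
  refine ProjLine.equiv_alternating (n := 6) ?_ act ?_ ?_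
  · rw [← Subgroup.index_eq_card, hidx]
  · rw [← MonoidHom.ker_eq_bot_iff, ← Subgroup.normalCore_eq_ker]
    refine ((inferInstance : f.range.normalCore.Normal).eq_bot_or_eq_top).resolve_right fun h => ?_
    exact hne (top_le_iff.1 (h ▸ f.range.normalCore_le))
  · rw [hc]
    decide

end Cfsg.Agent.S0254
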