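import Cfsg.Statements.S0256
import Cfsg.Agent.Lib.GLFourTwo.Heptads
-- import your own Cfsg.Agent.* helpers here

set_option autoImplicit false
open Cfsg

namespace Cfsg.Agent.S0256

/-- PSL_4(2) is isomorphic to A_8. -/
theorem result {F : Type*} [Field F] [Fintype F] (hF : Fintype.card F = 2) : Nonempty (Matrix.ProjectiveSpecialLinearGroup (Fin 4) F ≃* alternatingGroup (Fin 8)) := by
  classical
  let e : ZMod 2 ≃+* F := ZMod.ringEquivOfPrime F Nat.prime_two hF
  let E : Matrix.SpecialLinearGroup (Fin 4) (ZMod 2) ≃* Matrix.SpecialLinearGroup (Fin 4) F :=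
    { toFun := Matrix.SpecialLinearGroup.map e.toRingHom
      invFun := Matrix.SpecialLinearGroup.map e.symm.toRingHom
      left_inv := fun A => Subtype.ext (by ext i j; simp)
      right_inv := fun A => Subtype.ext (by ext i j; simp)
      map_mul' := map_mul _ }
  have hc : Subgroup.center (Matrix.SpecialLinearGroup (Fin 4) F) = ⊥ := by
    rw [Subgroup.eq_bot_iff_card, ClassicalSL.card_center_sl, Nat.card_eq_fintype_card (α := F), hF]
    simp
  exact ⟨(QuotientGroup.quotientMulEquivOfEq hc).trans
    (QuotientGroup.quotientBot.trans (E.symm.trans GLFourTwo.slEquivAlt))⟩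

end Cfsg.Agent.S0256
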