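import Cfsg.Statements.S0892
import Cfsg.Agent.Lib.AltMult.Count

set_option autoImplicit false
open Cfsg

namespace Cfsg.Agent.S0892

/-- Let n ≥ 4 with n ≠ 6 and n ≠ 7, and let Γ be a finite group with a subgroup Z contained in both the centre and the commutator subgroup of Γ such that Γ / Z is isomorphic to the alternating group on n letters. Then Z has order at most 2. -/
theorem result (n : ℕ) (hn : 4 ≤ n) (h6 : n ≠ 6) (h7 : n ≠ 7) {Γ : Type*} [Group Γ] [Finite Γ] (Z : Subgroup Γ) [Z.Normal] (hZc : Z ≤ Subgroup.center Γ) (hZd : Z ≤ commutator Γ) (e : Γ ⧸ Z ≃* alternatingGroup (Fin n)) : Nat.card Z ≤ 2 := by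
  let f : Γ →* Equiv.Perm (Fin n) :=
    ((alternatingGroup (Fin n)).subtype.comp e.toMonoidHom).comp (QuotientGroup.mk' Z)
  have hker : f.ker = Z := by
    ext x
    rw [MonoidHom.mem_ker]
    show ((e (QuotientGroup.mk x) : alternatingGroup (Fin n)) : Equiv.Perm (Fin n)) = 1 ↔ _
    rw [OneMemClass.coe_eq_one, MulEquiv.map_eq_one_iff, QuotientGroup.eq_one_iff]
  have E : Cfsg.Agent.AltMult.Ext f := by
    refine ⟨hker ▸ hZc, hker ▸ hZd, fun σ hσ => ?_, fun x => ?_⟩
    · obtain ⟨x, hx⟩ := QuotientGroup.mk_surjective (e.symm ⟨σ, Equiv.Perm.mem_alternatingGroup.mpr hσ⟩)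
      refine ⟨x, ?_⟩
      show ((e (QuotientGroup.mk x) : alternatingGroup (Fin n)) : Equiv.Perm (Fin n)) = σ
      rw [hx, MulEquiv.apply_symm_apply]
    · exact Equiv.Perm.mem_alternatingGroup.mp (e (QuotientGroup.mk x)).2
  have h := Cfsg.Agent.AltMult.card_ker_le_two E hn ⟨h6, h7⟩
  rwa [hker] at h

end Cfsg.Agent.S0892
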