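import Cfsg.Statements.S2088
import Cfsg.Agent.Lib.SchurMult.Surj
import Cfsg.Agent.Lib.SchurMult.MathieuHom
import Cfsg.Agent.Lib.Compute.IndSpec
import Cfsg.Agent.Lib.Steiner.PlanePSL
import Cfsg.Agent.Lib.Schur.Congr
import Cfsg.Agent.Lib.SchurMult.M21I2Cert
import Cfsg.Agent.Lib.SchurMult.M21I3Cert
import Cfsg.Agent.Lib.SchurMult.M21P2Cert
import Cfsg.Agent.Lib.SchurMult.M21P3Cert
import Cfsg.Agent.Lib.SchurMult.M21P5Cert
import Cfsg.Agent.Lib.SchurMult.M21P7Cert
-- import your own Cfsg.Agent.* helpers here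

set_option autoImplicit false
open Cfsg

namespace Cfsg.Agent.S2088

/-- Exceptional Schur multiplier: over the field with 4 elements, PSL₃ has Schur multiplier isomorphic to the product of cyclic groups of orders 3, 4 and 4 (order 48, not cyclic; here the Schur multiplier is described through stem extensions, as in the definitions). -/
theorem result {F : Type*} [Field F] [Fintype F] (hF : Fintype.card F = 4) : Cfsg.HasSchurMultiplier (Matrix.ProjectiveSpecialLinearGroup (Fin 3) F) (Multiplicative (ZMod 3 × ZMod 4 × ZMod 4)) := by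
  obtain ⟨e0⟩ := PlanePSL.nonempty_equiv F hF
  have hc : PermCert.checkCert 5 24 Golay.Cert.m21Gens Golay.Cert.m21Derived Golay.Cert.m21Levels = true := by
    have h := Golay.m21_ok
    simp only [Golay.stabCertOK, Bool.and_eq_true] at h
    exact h.1.1.1
  have hM : Golay.genPerm Golay.Cert.m21Gens = PlanePSL.M21 :=
    (Golay.stabCert_spec Golay.m21_ok).1.trans Golay.stabIn_m21
  set Q := ↥PlanePSL.M21
  have hle : Nat.card (Schur.Multiplier Q) ≤ 48 := by
    refine (SchurMult.card_le (SchurMult.ptHom _) (SchurMult.ptHom_injective _) (SchurMult.ptHom_range hM)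
      [(315, 16), (2240, 3), (4032, 1), (2880, 1)] ?_ (by decide)).trans (by decide)
    intro i hi
    simp only [List.mem_cons, List.not_mem_nil, or_false] at hi
    rcases hi with rfl | rfl | rfl | rfl
    · exact SchurMult.certified_of hc SchurMult.m21P2_base SchurMult.m21P2_rows SchurMult.m21P2_rels
        SchurMult.m21P2_derived SchurMult.m21P2_orders SchurMult.m21P2_ext
    · exact SchurMult.certified_of hc SchurMult.m21P3_base SchurMult.m21P3_rows SchurMult.m21P3_rels
        SchurMult.m21P3_derived SchurMult.m21P3_orders SchurMult.m21P3_ext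
    · exact SchurMult.certified_of hc SchurMult.m21P5_base SchurMult.m21P5_rows SchurMult.m21P5_rels
        SchurMult.m21P5_derived SchurMult.m21P5_orders SchurMult.m21P5_ext
    · exact SchurMult.certified_of hc SchurMult.m21P7_base SchurMult.m21P7_rows SchurMult.m21P7_rels
        SchurMult.m21P7_derived SchurMult.m21P7_orders SchurMult.m21P7_ext
  let e : PermCert.genGroup 5 24 Golay.Cert.m21Gens ≃* Q :=
    ((PermCert.genGroup 5 24 Golay.Cert.m21Gens).equivMapOfInjective Golay.phi.toMonoidHom
      Golay.phi.injective).trans (MulEquiv.subgroupCongr hM)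
  have hk : ∀ {X : Type} [Group X] (σ : X →* PermCert.genGroup 5 24 Golay.Cert.m21Gens), Function.Surjective σ →
      σ.ker ≤ Subgroup.center X → ∀ {A : Type} [Group A],
      (∃ v : ↥(σ.ker ⊓ commutator X) →* A, Function.Surjective v) →
        ∃ f : Schur.Multiplier Q →* A, Function.Surjective f := by
    intro X _ σ hs hcen A _ ⟨v, hv⟩
    have hker : (e.toMonoidHom.comp σ).ker = σ.ker := MonoidHom.ker_mulEquiv_comp σ e
    exact SchurMult.exists_surj (e.toMonoidHom.comp σ) (e.surjective.comp hs) (hker.le.trans hcen)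
      (v.comp (Subgroup.inclusion (inf_le_inf_right _ hker.le)))
      (hv.comp fun z => ⟨⟨z, hker.ge z.2.1, z.2.2⟩, rfl⟩)
  obtain ⟨X, _, σ, hs, hcen, hv⟩ := PermInd.exists_extension hc SchurMult.m21I2_base
    SchurMult.m21I2_cosets SchurMult.m21I2_wits SchurMult.m21I2_words SchurMult.m21I2_span
  obtain ⟨f2, hf2⟩ : ∃ f : Schur.Multiplier Q →* Multiplicative (ZMod 4 × ZMod 4), Function.Surjective f :=
    hk σ hs hcen hv
  obtain ⟨Y, _, τ, ht, hd, hw⟩ := PermInd.exists_extension hc SchurMult.m21I3_base
    SchurMult.m21I3_cosets SchurMult.m21I3_wits SchurMult.m21I3_words SchurMult.m21I3_span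
  obtain ⟨f3, hf3⟩ : ∃ f : Schur.Multiplier Q →* Multiplicative (ZMod 3 × ZMod 1), Function.Surjective f :=
    hk τ ht hd hw
  let π : Multiplicative (ZMod 3 × ZMod 1) × Multiplicative (ZMod 4 × ZMod 4) →*
      Multiplicative (ZMod 3 × ZMod 4 × ZMod 4) :=
    { toFun := fun p => Multiplicative.ofAdd ((Multiplicative.toAdd p.1).1, Multiplicative.toAdd p.2)
      map_one' := rfl
      map_mul' := fun _ _ => rfl }
  have hπ : Function.Surjective π := fun c =>
    ⟨(Multiplicative.ofAdd ((Multiplicative.toAdd c).1, 0), Multiplicative.ofAdd (Multiplicative.toAdd c).2), rfl⟩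
  have hf : Function.Surjective (π.comp (f3.prod f2)) :=
    hπ.comp (SchurMult.surj_prod hf3 hf2 (by simp; decide))
  have h := SchurMult.hasSchurMultiplier_of_surj hf (hle.trans (by simp))
  exact Schur.hasSchurMultiplier_iff.2 (by
    obtain ⟨a⟩ := Schur.multiplierEquiv h
    obtain ⟨b⟩ := Schur.multiplierEquiv_of_mulEquiv e0
    exact ⟨b.symm.trans a⟩)

end Cfsg.Agent.S2088
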