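import Cfsg.Statements.S2090
import Cfsg.Agent.Lib.SchurMult.Surj
import Cfsg.Agent.Lib.SchurMult.Bound
import Cfsg.Agent.Lib.SchurMult.U43Hom
import Cfsg.Agent.Lib.Compute.IndSpec
import Cfsg.Agent.Lib.SchurMult.U43I3Cert
import Cfsg.Agent.Lib.SchurMult.U43P2Cert
import Cfsg.Agent.Lib.SchurMult.U43P3Cert
import Cfsg.Agent.Lib.SchurMult.U43P5Cert
import Cfsg.Agent.Lib.SchurMult.U43P7Cert

-- import your own Cfsg.Agent.* helpers here

set_option autoImplicit false
open Cfsg

namespace Cfsg.Agent.S2090

/-- Exceptional Schur multiplier: PSU₄(3), realised over the field with 9 elements, has Schur multiplier isomorphic to the product of cyclic groups of orders 4, 3 and 3 (order 36, not cyclic; here the Schur multiplier is described through stem extensions, as in the definitions). -/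
theorem result {F : Type*} [Field F] [Fintype F] (hF : Fintype.card F = 9) : Cfsg.HasSchurMultiplier (Cfsg.PSU 4 F 3) (Multiplicative (ZMod 4 × ZMod 3 × ZMod 3)) := by
  obtain ⟨φ0, hr0, hk, z, hzc, hzZ, hzo⟩ := SchurMult.exists_u43_hom hF
  set Q := Cfsg.PSU 4 F 3
  let φ : Q →* Equiv.Perm (Fin 112) := QuotientGroup.lift _ φ0 hk.ge
  have hφ : Function.Injective φ := (injective_iff_map_eq_one φ).2 fun x => by
    induction x using QuotientGroup.induction_on with
    | H g =>
      intro h
      exact (QuotientGroup.eq_one_iff g).2 (hk.le (MonoidHom.mem_ker.2 h))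
  have hr : φ.range = PermCert.genGroup 7 112 SchurMult.u43Gens := by
    rw [← hr0]
    ext σ
    exact ⟨fun ⟨x, hx⟩ => Quotient.inductionOn' x (fun g h => ⟨g, h⟩) hx, fun ⟨g, hg⟩ => ⟨QuotientGroup.mk g, hg⟩⟩
  have : Finite Q := Finite.of_injective φ hφ
  have hle : Nat.card (Schur.Multiplier Q) ≤ 36 := by
    refine (SchurMult.card_le φ hφ hr [(25515, 4), (4480, 9), (653184, 1), (466560, 1)] ?_ (by decide)).trans (by decide)
    intro i hi
    simp only [List.mem_cons, List.not_mem_nil, or_false] at hi
    rcases hi with rfl | rfl | rfl | rfl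
    · exact SchurMult.certified_of SchurMult.u43_cert SchurMult.u43P2_base SchurMult.u43P2_rows SchurMult.u43P2_rels
        SchurMult.u43P2_derived SchurMult.u43P2_orders SchurMult.u43P2_ext
    · exact SchurMult.certified_of SchurMult.u43_cert SchurMult.u43P3_base SchurMult.u43P3_rows SchurMult.u43P3_rels
        SchurMult.u43P3_derived SchurMult.u43P3_orders SchurMult.u43P3_ext
    · exact SchurMult.certified_of SchurMult.u43_cert SchurMult.u43P5_base SchurMult.u43P5_rows SchurMult.u43P5_rels
        SchurMult.u43P5_derived SchurMult.u43P5_orders SchurMult.u43P5_ext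
    · exact SchurMult.certified_of SchurMult.u43_cert SchurMult.u43P7_base SchurMult.u43P7_rows SchurMult.u43P7_rels
        SchurMult.u43P7_derived SchurMult.u43P7_orders SchurMult.u43P7_ext
  -- the part of order four from the special unitary group
  let π : Cfsg.SU 4 F 3 →* Q := QuotientGroup.mk' _
  have hπk : π.ker = Subgroup.center (Cfsg.SU 4 F 3) := QuotientGroup.ker_mk' _
  have hzp : Subgroup.center (Cfsg.SU 4 F 3) = Subgroup.zpowers z := by
    have hc := SchurMult.u43_center_card hF
    have : Finite (Subgroup.center (Cfsg.SU 4 F 3)) := Nat.finite_of_card_ne_zero (by rw [hc]; norm_num)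
    exact (Subgroup.eq_of_le_of_card_ge (Subgroup.zpowers_le.2 hzZ) (by rw [Nat.card_zpowers, hzo, hc])).symm
  have he : π.ker ⊓ commutator (Cfsg.SU 4 F 3) = Subgroup.zpowers z := by
    rw [hπk, hzp]
    exact inf_eq_left.2 (Subgroup.zpowers_le.2 hzc)
  let e4 : ↥(Subgroup.zpowers z) ≃* Multiplicative (ZMod 4) :=
    mulEquivOfCyclicCardEq (by rw [Nat.card_zpowers, hzo]; simp)
  obtain ⟨f4, hf4⟩ : ∃ f : Schur.Multiplier Q →* Multiplicative (ZMod 4), Function.Surjective f :=
    SchurMult.exists_surj π (QuotientGroup.mk'_surjective _) hπk.le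
      (e4.toMonoidHom.comp (MulEquiv.subgroupCongr he).toMonoidHom)
      (e4.surjective.comp (MulEquiv.subgroupCongr he).surjective)
  -- the part of order nine
  have e : Q ≃* PermCert.genGroup 7 112 SchurMult.u43Gens :=
    (MonoidHom.ofInjective hφ).trans (MulEquiv.subgroupCongr hr)
  obtain ⟨X, _, σ, hs, hcen, v, hv⟩ := PermInd.exists_extension SchurMult.u43_cert SchurMult.u43I3_base
    SchurMult.u43I3_cosets SchurMult.u43I3_wits SchurMult.u43I3_words SchurMult.u43I3_span
  have hker : (e.symm.toMonoidHom.comp σ).ker = σ.ker := MonoidHom.ker_mulEquiv_comp σ e.symm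
  obtain ⟨f3, hf3⟩ : ∃ f : Schur.Multiplier Q →* Multiplicative (ZMod 3 × ZMod 3), Function.Surjective f :=
    SchurMult.exists_surj (e.symm.toMonoidHom.comp σ) (e.symm.surjective.comp hs) (hker.le.trans hcen)
      (v.comp (Subgroup.inclusion (inf_le_inf_right _ hker.le)))
      (hv.comp fun z => ⟨⟨z, hker.ge z.2.1, z.2.2⟩, rfl⟩)
  let j : Multiplicative (ZMod 4) × Multiplicative (ZMod 3 × ZMod 3) →*
      Multiplicative (ZMod 4 × ZMod 3 × ZMod 3) :=
    { toFun := fun p => Multiplicative.ofAdd (Multiplicative.toAdd p.1, Multiplicative.toAdd p.2)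
      map_one' := rfl
      map_mul' := fun _ _ => rfl }
  have hj : Function.Surjective j := fun c =>
    ⟨(Multiplicative.ofAdd (Multiplicative.toAdd c).1, Multiplicative.ofAdd (Multiplicative.toAdd c).2), rfl⟩
  exact SchurMult.hasSchurMultiplier_of_surj (f := j.comp (f4.prod f3))
    (hj.comp (SchurMult.surj_prod hf4 hf3 (by simp; decide))) (hle.trans (by simp))

end Cfsg.Agent.S2090
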