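import Cfsg.Statements.S2092
import Cfsg.Agent.Lib.SpMult.TwoMain

set_option autoImplicit false
open Cfsg

namespace Cfsg.Agent.S2092

/-- Schur multipliers of the symplectic groups: for m ≥ 2 and a field F with q elements (q ≥ 3 when m = 2), with (m, q) ≠ (3, 2), the Schur multiplier of PSp_2m(F) is cyclic of order gcd(2, q − 1); here the Schur multiplier is described through stem extensions, as in the definitions. -/
theorem result {F : Type*} [Field F] [Fintype F] {q : ℕ} (hF : Fintype.card F = q) (m : ℕ) (hm : 2 ≤ m) (h2 : m = 2 → 3 ≤ q) (hexc : ¬ (m = 3 ∧ q = 2)) : Cfsg.HasCyclicSchurMultiplier (Cfsg.PSp m F) (Nat.gcd 2 (q - 1)) := by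
  classical
  subst hF
  by_cases hq : 3 ≤ Fintype.card F
  · exact SpMult.multiplier_psp_large hm hq
  have hc2 : Fintype.card F = 2 := by have := Fintype.one_lt_card (α := F); omega
  have hm4 : 4 ≤ m := by
    rcases (show m = 2 ∨ m = 3 ∨ 4 ≤ m by omega) with h | h | h
    · exact absurd (h2 h) hq
    · exact absurd ⟨h, hc2⟩ hexc
    · exact h
  have : SpMult.IsF2 F := ⟨fun x => by
    have hu : ({0, 1} : Finset F) = Finset.univ :=
      Finset.eq_univ_of_card _ (by rw [hc2, Finset.card_pair zero_ne_one])
    simpa using hu.ge (Finset.mem_univ x)⟩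
  exact SpMult.multiplier_psp_of (by omega) (ClassicalSp.commutator_sp (Or.inl (by omega)))
    fun X _ π hπ hc => SpMult.exists_lift_two hm4 π hπ hc

end Cfsg.Agent.S2092
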