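import Cfsg.Statements.S2550
import Cfsg.Agent.Lib.LinearBlock.PSL34
import Cfsg.Agent.Lib.Classical.SL

set_option autoImplicit false
open Cfsg Matrix

namespace Cfsg.Agent.S2550

/-- Let F be a field with 2 elements and K a field with 4 elements. PSL_4(F) and PSL_3(K) have the same order (20160) but are not isomorphic. -/
theorem result {F K : Type*} [Field F] [Fintype F] [Field K] [Fintype K] (hF : Fintype.card F = 2) (hK : Fintype.card K = 4) : Nat.card (Matrix.ProjectiveSpecialLinearGroup (Fin 4) F) = Nat.card (Matrix.ProjectiveSpecialLinearGroup (Fin 3) K) ∧ ¬ Nonempty (Matrix.ProjectiveSpecialLinearGroup (Fin 4) F ≃* Matrix.ProjectiveSpecialLinearGroup (Fin 3) K) := by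
  classical
  have h1 := ClassicalSL.card_psl_mul (ι := Fin 4) (F := F)
  have h2 := ClassicalSL.card_psl_mul (ι := Fin 3) (F := K)
  rw [ClassicalSL.card_gl_fin (q := 2) (by rw [Nat.card_eq_fintype_card, hF]), Nat.card_eq_fintype_card, hF, Fintype.card_fin] at h1
  rw [ClassicalSL.card_gl_fin (q := 4) (by rw [Nat.card_eq_fintype_card, hK]), Nat.card_eq_fintype_card (α := K), hK, Fintype.card_fin] at h2
  norm_num [Fin.prod_univ_four] at h1
  norm_num [Fin.prod_univ_three] at h2
  refine ⟨by rw [Nat.card_eq_fintype_card, Nat.card_eq_fintype_card]; omega, ?_⟩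
  rintro ⟨f⟩
  have two : (2 : F) = 0 := by
    have h : ((2 : ℕ) : F) = 0 := hF ▸ FiniteField.cast_card_eq_zero F
    exact_mod_cast h
  let a : Matrix.SpecialLinearGroup (Fin 4) F :=
    ⟨!![0, 1, 0, 0; 1, 1, 0, 0; 0, 0, 1, 0; 0, 0, 0, 1], by
      simp [Matrix.det_succ_row_zero, Fin.sum_univ_succ, Fin.succAbove]; linear_combination -two⟩
  let b : Matrix.SpecialLinearGroup (Fin 4) F :=
    ⟨!![0, 1, 0, 0; 1, 1, 0, 0; 0, 0, 0, 1; 0, 0, 1, 1], by
      simp [Matrix.det_succ_row_zero, Fin.sum_univ_succ, Fin.succAbove]⟩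
  have hcen : ∀ g : Matrix.SpecialLinearGroup (Fin 4) F, g ∈ Subgroup.center _ → g = 1 := by
    intro g hg
    have hc : Nat.card (Subgroup.center (Matrix.SpecialLinearGroup (Fin 4) F)) = 1 := by
      rw [ClassicalSL.card_center_sl, Fintype.card_fin, Nat.card_eq_fintype_card, hF]; rfl
    rwa [Subgroup.card_eq_one.1 hc, Subgroup.mem_bot] at hg
  have hord : ∀ g : Matrix.SpecialLinearGroup (Fin 4) F, g.1 ^ 3 = 1 → g ≠ 1 →
      orderOf (QuotientGroup.mk g : Matrix.ProjectiveSpecialLinearGroup (Fin 4) F) = 3 := by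
    intro g h hg
    haveI : Fact (Nat.Prime 3) := ⟨Nat.prime_three⟩
    refine orderOf_eq_prime ?_ fun e => hg (hcen g ((QuotientGroup.eq_one_iff g).1 e))
    rw [← QuotientGroup.mk_pow, show g ^ 3 = 1 from Subtype.ext h]
    rfl
  have ha3 : a.1 ^ 3 = 1 := by
    ext i j
    fin_cases i <;> fin_cases j <;> simp [a, pow_three, Matrix.mul_apply, Fin.sum_univ_succ] <;>
      linear_combination two
  have hb3 : b.1 ^ 3 = 1 := by
    ext i j
    fin_cases i <;> fin_cases j <;> simp [b, pow_three, Matrix.mul_apply, Fin.sum_univ_succ] <;>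
      linear_combination two
  have ha1 : a ≠ 1 := fun e => by simpa [a] using congrFun₂ (congrArg Subtype.val e) 0 0
  have hb1 : b ≠ 1 := fun e => by simpa [b] using congrFun₂ (congrArg Subtype.val e) 0 0
  have hc := LinearBlock.PSL34.isConj_order_three hK (f (QuotientGroup.mk a)) (f (QuotientGroup.mk b))
    (by rw [f.orderOf_eq]; exact hord a ha3 ha1) (by rw [f.orderOf_eq]; exact hord b hb3 hb1)
  have hc' : IsConj (QuotientGroup.mk a : Matrix.ProjectiveSpecialLinearGroup (Fin 4) F) (QuotientGroup.mk b) := by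
    simpa using (f.symm.toMonoidHom).map_isConj hc
  obtain ⟨w, hw⟩ := isConj_iff.1 hc'
  obtain ⟨g, rfl⟩ := QuotientGroup.mk_surjective w
  rw [← QuotientGroup.mk_mul, ← QuotientGroup.mk_inv, ← QuotientGroup.mk_mul, QuotientGroup.eq] at hw
  have hgab : g * a * g⁻¹ = b := inv_mul_eq_one.1 (hcen _ hw)
  let v : Fin 4 → F := ![0, 0, 1, 0]
  have hav : a.1 *ᵥ v = v := by
    funext i
    fin_cases i <;> simp [a, v, Matrix.mulVec, dotProduct, Fin.sum_univ_succ]
  have hb0 : ∀ w : Fin 4 → F, b.1 *ᵥ w = w → w = 0 := by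
    intro w hw
    have e0 := congrFun hw 0
    have e1 := congrFun hw 1
    have e2 := congrFun hw 2
    have e3 := congrFun hw 3
    simp [b, Matrix.mulVec, dotProduct, Fin.sum_univ_succ] at e0 e1 e2 e3
    have w0 : w 0 = 0 := by linear_combination e1
    have w1 : w 1 = 0 := by linear_combination e0 + w0
    have w2 : w 2 = 0 := by linear_combination e3
    have w3 : w 3 = 0 := by linear_combination e2 + w2
    funext i
    fin_cases i
    exacts [w0, w1, w2, w3]
  have e : g * a = b * g := by rw [← hgab, inv_mul_cancel_right]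
  have hgv : g.1 *ᵥ v = 0 := by
    refine hb0 _ ?_
    rw [Matrix.mulVec_mulVec, ← Matrix.SpecialLinearGroup.coe_mul, ← e, Matrix.SpecialLinearGroup.coe_mul,
      ← Matrix.mulVec_mulVec, hav]
  have hv : v = 0 := by
    have h := congrArg (fun w => (g⁻¹).1 *ᵥ w) hgv
    rw [Matrix.mulVec_mulVec, ← Matrix.SpecialLinearGroup.coe_mul, inv_mul_cancel, Matrix.SpecialLinearGroup.coe_one, Matrix.one_mulVec, Matrix.mulVec_zero] at h
    exact h
  simpa [v] using congrFun hv 2

end Cfsg.Agent.S2550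

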