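import Cfsg.Statements.S0102
import Cfsg.Agent.Lib.Transfer.Hall

set_option autoImplicit false
set_option linter.style.haveILetI false
open Cfsg

namespace Cfsg.Agent.S0102
open scoped Pointwise commutatorElement
open Cfsg.Agent

/-- A finite perfect group with cyclic Sylow p-subgroups has no perfect central extension whose kernel has order divisible by p. -/
theorem result {G : Type*} {H : Type*} [Group G] [Group H] [Finite G] [Finite H] (hG : commutator G = ⊤) {p : ℕ} [Fact p.Prime] (hcyc : ∀ P : Sylow p G, IsCyclic P) (σ : H →* G) (hσ : Function.Surjective σ) (hz : σ.ker ≤ Subgroup.center H) (hH : commutator H = ⊤) : ¬ p ∣ Nat.card σ.ker := by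
  intro hd
  have hzc : σ.ker ≤ Subgroup.center H := hz
  clear hz
  obtain ⟨z, hz⟩ := exists_prime_orderOf_dvd_card' p hd
  rw [← Subgroup.orderOf_coe] at hz
  obtain ⟨P, hP⟩ := (IsPGroup.of_card (G := Subgroup.zpowers (z : H)) (n := 1) (p := p)
    (by rw [Nat.card_zpowers, hz, pow_one])).exists_le_sylow
  have hcy := hcyc (P.mapSurjective hσ)
  haveI : IsCyclic ((σ.comp (P : Subgroup H).subtype).range) := by
    have : (σ.comp (P : Subgroup H).subtype).range = ((P.mapSurjective hσ : Sylow p G) : Subgroup G) := by
      rw [MonoidHom.range_comp, Subgroup.range_subtype, Sylow.coe_mapSurjective]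
    rw [this]
    exact hcy
  have hcomm : IsMulCommutative (P : Subgroup H) := ⟨⟨commutative_of_cyclic_center_quotient
    (σ.comp (P : Subgroup H).subtype).rangeRestrict (by
      intro x hx
      rw [MonoidHom.mem_ker] at hx
      have h1 : σ (x : H) = 1 := congrArg Subtype.val hx
      rw [Subgroup.mem_center_iff]
      intro g
      exact Subtype.ext (Subgroup.mem_center_iff.1 (hzc h1) g))⟩⟩
  have h1 := TransferHall.inf_commutator_inf_center (P : Subgroup H) hcomm P.card_coprime_index
  have h2 : (z : H) ∈ (P : Subgroup H) ⊓ commutator H ⊓ Subgroup.center H :=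
    ⟨⟨hP (Subgroup.mem_zpowers _), hH ▸ Subgroup.mem_top _⟩, hzc z.2⟩
  rw [h1, Subgroup.mem_bot] at h2
  rw [h2, orderOf_one] at hz
  exact (Fact.out : p.Prime).ne_one hz.symm


end Cfsg.Agent.S0102
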