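import Cfsg.Statements.S1644
import Cfsg.Agent.Lib.JankoOne.Unique.Main
import Cfsg.Agent.Lib.J1.Simple
import Cfsg.Agent.S2131

set_option autoImplicit false
open Cfsg

namespace Cfsg.Agent.S1644

/-- The first Janko group recognised by an involution centraliser, at the level of isomorphism: a finite simple group with abelian Sylow 2-subgroups of order 8 and an involution whose centraliser is isomorphic to Z/2 × A₅ is isomorphic to the subgroup of GL(7, 11) generated by the two explicit Janko matrices. -/
theorem result {G : Type*} [Group G] [Finite G] [IsSimpleGroup G] (S : Sylow 2 G) (hS : IsMulCommutative (S : Subgroup G)) (h8 : Nat.card S = 8) (t : G) (ht : orderOf t = 2) (e : (Subgroup.centralizer ({t} : Set G)) ≃* Multiplicative (ZMod 2) × alternatingGroup (Fin 5)) : Cfsg.Spor.IsoJ1 G := by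
  haveI : Fact (Nat.Prime 2) := ⟨Nat.prime_two⟩
  haveI := Cfsg.Agent.J1.isSimple_J1
  have h16 : ∀ n : ℕ, n.factorization 2 = 3 → ¬ 16 ∣ n := fun n hn h => by
    rcases eq_or_ne n 0 with rfl | h0
    · simp at hn
    · have := (Nat.prime_two.pow_dvd_iff_le_factorization (k := 4) h0).1 h
      omega
  have hG : (Nat.card G).factorization 2 = 3 := by
    have h := S.card_eq_multiplicity
    rw [h8] at h
    exact (Nat.pow_right_injective (le_refl 2) (a₁ := 3) h).symm
  obtain ⟨u, hu, ⟨f⟩⟩ := Cfsg.Agent.S2131.result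
  obtain ⟨eG⟩ := Cfsg.Agent.JankoOne.iso_tableGroup_of_centralizer t
    (Cfsg.Agent.JankoOne.twoCentral_of_two t ht (h16 _ hG) e) e
  obtain ⟨eJ⟩ := Cfsg.Agent.JankoOne.iso_tableGroup_of_centralizer u
    (Cfsg.Agent.JankoOne.twoCentral_of_two u hu (by rw [Cfsg.Agent.J1.card_J1]; norm_num) f) f
  exact ⟨eG.trans eJ.symm⟩

end Cfsg.Agent.S1644
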