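import Cfsg.Statements.S0813
import Cfsg.Agent.Lib.AutPSL.Outer

set_option autoImplicit false
open Cfsg

namespace Cfsg.Agent.S0813

/-- |Aut(PSL_n(q))|, q = p^f: for n ≥ 3 it is 2 f |PGL_n(q)|, and for n = 2 (q ≥ 4) it is f |PGL_2(q)|. -/
theorem result {F : Type*} [Field F] [Fintype F] (p f : ℕ) [Fact p.Prime] (hf : 1 ≤ f) (hF : Fintype.card F = p ^ f) (n : ℕ) (hn : 2 ≤ n) (h2 : n = 2 → 4 ≤ p ^ f) : Nat.card (MulAut (Matrix.ProjectiveSpecialLinearGroup (Fin n) F)) = (if n = 2 then 1 else 2) * f * Nat.card (Matrix.ProjGenLinGroup (Fin n) F) := by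
  classical
  have : Nonempty (Fin n) := ⟨⟨0, by omega⟩⟩
  obtain ⟨φ, h1, h3, h4, ⟨e⟩⟩ := AutPSL.exists_outer_hom (F := F) hn
  obtain ⟨E⟩ := AutPSL.exists_ringAut_equiv (F := F) p f hF
  let G := Matrix.ProjectiveSpecialLinearGroup (Fin n) F
  have hinj : Function.Injective (MulAut.conj : G →* MulAut G) := by
    rw [injective_iff_map_eq_one]
    intro x hx
    obtain ⟨s, rfl⟩ := QuotientGroup.mk_surjective x
    rw [AutPSL.inner_eq_semi] at hx
    obtain ⟨c, hc⟩ := (AutPSL.semi_eq_one hn hx).2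
    rw [QuotientGroup.eq_one_iff, Matrix.SpecialLinearGroup.mem_center_iff]
    have hc' : (s : Matrix (Fin n) (Fin n) F) = Matrix.scalar (Fin n) c := hc
    refine ⟨c, ?_, hc'.symm⟩
    have h := s.2
    rw [hc'] at h
    simpa using h
  have hinn : Nat.card (Cfsg.Inn G) = Nat.card G :=
    (Nat.card_congr (MonoidHom.ofInjective hinj).toEquiv).symm
  have hrange : Nat.card φ.range = (if n = 2 then 1 else 2) * f := by
    have hf' : Nat.card (F ≃+* F) = f := by
      rw [Nat.card_congr E.toEquiv, Nat.card_congr Multiplicative.toAdd, Nat.card_zmod]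
    by_cases hn2 : n = 2
    · have heq : φ.range = (MonoidHom.inl (F ≃+* F) (Multiplicative (ZMod 2))).range := by
        apply le_antisymm
        · rintro _ ⟨x, rfl⟩
          exact ⟨(φ x).1, Prod.ext rfl (h4 hn2 x).symm⟩
        · rintro _ ⟨σ, rfl⟩
          exact h1 σ
      have hi : Function.Injective (MonoidHom.inl (F ≃+* F) (Multiplicative (ZMod 2))) :=
        fun a b h => congrArg Prod.fst h
      rw [heq, ← Nat.card_congr (MonoidHom.ofInjective hi).toEquiv, hf', if_pos hn2, one_mul]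
    · have heq : φ.range = ⊤ := by
        rw [eq_top_iff]
        rintro ⟨σ, x⟩ -
        have hx : x = 1 ∨ x = Multiplicative.ofAdd (1 : ZMod 2) := by revert x; decide
        rcases hx with rfl | rfl
        · exact h1 σ
        · have := φ.range.mul_mem (h1 σ) (h3 (by omega))
          simpa using this
      rw [heq, Subgroup.card_top, Nat.card_prod, hf', Nat.card_congr Multiplicative.toAdd,
        Nat.card_zmod, if_neg hn2, mul_comm]
  have hout : Nat.card (MulAut G ⧸ Cfsg.Inn G) = Nat.gcd n (p ^ f - 1) * ((if n = 2 then 1 else 2) * f) := by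
    rw [← Subgroup.card_mul_index φ.ker, Subgroup.index_ker, hrange, Nat.card_congr e.toEquiv,
      AutPSL.card_quotient_powMonoidHom hF]
  have hpgl : Nat.card (Matrix.ProjGenLinGroup (Fin n) F) = Nat.gcd n (p ^ f - 1) * Nat.card G := by
    rw [ClassicalSL.card_pgl, Subgroup.card_eq_card_quotient_mul_card_subgroup
      (Subgroup.center (Matrix.SpecialLinearGroup (Fin n) F)), ClassicalSL.card_center_sl,
      Fintype.card_fin, Nat.card_eq_fintype_card (α := F), hF, mul_comm]
  rw [show Nat.card (MulAut G) = Nat.card (MulAut G ⧸ Cfsg.Inn G) * Nat.card (Cfsg.Inn G) from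
    Subgroup.card_eq_card_quotient_mul_card_subgroup _, hinn, hout, hpgl]
  ring

end Cfsg.Agent.S0813
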