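import Cfsg.Statements.S3183
import Mathlib.GroupTheory.Nilpotent

set_option autoImplicit false
open Cfsg

namespace Cfsg.Agent.S3183

theorem mem_center_of_inter {G : Type*} [Group G] [Finite G]
    (hCI : ∀ S T : Sylow 2 G, S ≠ T → ∃ U : Sylow 2 G,
      (S : Subgroup G) ⊓ (T : Subgroup G) ≤ (Subgroup.center ↥(U : Subgroup G)).map (U : Subgroup G).subtype)
    (S T : Sylow 2 G) (hne : S ≠ T) :
    ∀ x ∈ (S : Subgroup G) ⊓ (T : Subgroup G), ∀ s ∈ (S : Subgroup G), x * s = s * x := by
  have : Fact (Nat.Prime 2) := ⟨Nat.prime_two⟩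
  have hcomm : ∀ (U : Sylow 2 G), ∀ y ∈ (Subgroup.center ↥(U : Subgroup G)).map (U : Subgroup G).subtype,
      y ∈ (U : Subgroup G) ∧ ∀ u ∈ (U : Subgroup G), y * u = u * y := by
    rintro U _ ⟨z, hz, rfl⟩
    exact ⟨z.2, fun u hu => (congrArg Subtype.val (Subgroup.mem_center_iff.mp hz ⟨u, hu⟩)).symm⟩
  intro x hx
  obtain ⟨U, hU⟩ := hCI S T hne
  obtain ⟨-, hxU⟩ := hcomm U x (hU hx)
  set C := Subgroup.centralizer ({x} : Set G) with hCdef
  set D := (S : Subgroup G) ⊓ C with hD
  by_cases hDS : (S : Subgroup G) ≤ D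
  · exact fun s hs => (Subgroup.mem_centralizer_singleton_iff.mp (hDS hs).2).symm
  exfalso
  -- a Sylow of G containing D and centralising x
  have hUC : (U : Subgroup G) ≤ C := fun u hu => Subgroup.mem_centralizer_singleton_iff.mpr (hxU u hu).symm
  obtain ⟨R, hR⟩ := ((S.2.to_inf_left (K := C)).comap_subtype (K := C)).exists_le_sylow
  obtain ⟨h, hh⟩ := MulAction.exists_smul_eq ↥C (U.subtype hUC) R
  set V : Sylow 2 G := (h : G) • U with hV
  have hDV : D ≤ (V : Subgroup G) := by
    intro d hd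
    have hd' : (⟨d, hd.2⟩ : ↥C) ∈ (R : Subgroup ↥C) := hR hd
    rw [← hh, Sylow.smul_def, Sylow.pointwise_smul_def, Subgroup.mem_pointwise_smul_iff_inv_smul_mem] at hd'
    rw [hV, Sylow.smul_def, Sylow.pointwise_smul_def, Subgroup.mem_pointwise_smul_iff_inv_smul_mem]
    exact hd'
  have hVC : (V : Subgroup G) ≤ C := Sylow.smul_le hUC h
  have hVS : S ≠ V := fun e => hDS (le_inf le_rfl (e ▸ hVC))
  obtain ⟨W, hW⟩ := hCI S V hVS
  have hWD : ∀ w ∈ (W : Subgroup G), ∀ d ∈ D, d * w = w * d :=
    fun w hw d hd => (hcomm W d (hW ⟨hd.1, hDV hd⟩)).2 w hw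
  set K := Subgroup.centralizer (D : Set G)
  have hWK : (W : Subgroup G) ≤ K := fun w hw => Subgroup.mem_centralizer_iff.mpr fun d hd => hWD w hw d hd
  have hKodd : ¬ 2 ∣ (K.subgroupOf (Subgroup.normalizer (D : Set G))).index := by
    intro h2
    have h3 : K.relIndex (Subgroup.normalizer (D : Set G)) * (Subgroup.normalizer (D : Set G)).index = K.index :=
      Subgroup.relIndex_mul_index (Subgroup.centralizer_le_normalizer _)
    exact W.not_dvd_index ((h2.trans (Dvd.intro _ h3)).trans (Subgroup.index_dvd_of_le hWK))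
  -- the normaliser of D in S is D
  have htop : D.subgroupOf (S : Subgroup G) = ⊤ := by
    haveI : Group.IsNilpotent ↥(S : Subgroup G) := S.2.isNilpotent
    refine normalizerCondition_iff_only_full_group_self_normalizing.mp normalizerCondition_of_isNilpotent _ ?_
    refine le_antisymm (fun s hs => ?_) Subgroup.le_normalizer
    rw [← Subgroup.subgroupOf_normalizer_eq inf_le_left] at hs
    haveI : (K.subgroupOf (Subgroup.normalizer (D : Set G))).Normal := inferInstance
    let s' : ↥(Subgroup.normalizer (D : Set G)) := ⟨(s : G), hs⟩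
    obtain ⟨k, hk⟩ := S.2 s
    have hsK : s' ∈ K.subgroupOf (Subgroup.normalizer (D : Set G)) := by
      rw [← QuotientGroup.eq_one_iff, ← orderOf_eq_one_iff]
      have h1 : orderOf (QuotientGroup.mk s' : ↥(Subgroup.normalizer (D : Set G)) ⧸ K.subgroupOf _) ∣ 2 ^ k := by
        refine (orderOf_map_dvd (QuotientGroup.mk' _) s').trans ?_
        rw [orderOf_dvd_iff_pow_eq_one]
        exact Subtype.ext (by simpa [s'] using congrArg Subtype.val hk)
      have h2 : orderOf (QuotientGroup.mk s' : ↥(Subgroup.normalizer (D : Set G)) ⧸ K.subgroupOf _) ∣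
          (K.subgroupOf (Subgroup.normalizer (D : Set G))).index := orderOf_dvd_natCard _
      exact Nat.eq_one_of_dvd_coprimes (((Nat.prime_two.coprime_iff_not_dvd).mpr hKodd).pow_left k) h1 h2
    have hxD : x ∈ D := ⟨hx.1, Subgroup.mem_centralizer_singleton_iff.mpr rfl⟩
    exact ⟨s.2, Subgroup.mem_centralizer_singleton_iff.mpr (Subgroup.mem_centralizer_iff.mp hsK x hxD).symm⟩
  exact hDS (fun s hs => (htop ▸ Subgroup.mem_top _ : (⟨s, hs⟩ : ↥(S : Subgroup G)) ∈ D.subgroupOf (S : Subgroup G)))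


/-- Let G be a finite group in which the intersection of any two distinct Sylow 2-subgroups is contained in the centre of some Sylow 2-subgroup, and let S be a Sylow 2-subgroup. Then for every x in S the centralizer of x in S is a Sylow 2-subgroup of the centralizer of x in G (no 2-subgroup centralizing x is larger), and for every other Sylow 2-subgroup T the intersection S ∩ T lies in both the centre of S and the centre of T. -/
theorem result {G : Type*} [Group G] [Finite G]
    (hCI : ∀ S T : Sylow 2 G, S ≠ T → ∃ U : Sylow 2 G,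
      (S : Subgroup G) ⊓ (T : Subgroup G) ≤ (Subgroup.center ↥(U : Subgroup G)).map (U : Subgroup G).subtype)
    (S : Sylow 2 G) :
    (∀ x ∈ (S : Subgroup G), ∀ P : Subgroup G, IsPGroup 2 ↥P → P ≤ Subgroup.centralizer ({x} : Set G) →
        Nat.card ↥P ≤ Nat.card ↥((S : Subgroup G) ⊓ Subgroup.centralizer ({x} : Set G))) ∧
    (∀ T : Sylow 2 G, T ≠ S →
        (S : Subgroup G) ⊓ (T : Subgroup G) ≤
          (Subgroup.center ↥(S : Subgroup G)).map (S : Subgroup G).subtype ⊓
            (Subgroup.center ↥(T : Subgroup G)).map (T : Subgroup G).subtype) := by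
  have : Fact (Nat.Prime 2) := ⟨Nat.prime_two⟩
  constructor
  · intro x hx P hP hPC
    have hxC : x ∈ Subgroup.centralizer ({x} : Set G) := Subgroup.mem_centralizer_singleton_iff.mpr rfl
    have hPx : IsPGroup 2 ↥(P ⊔ Subgroup.zpowers x) := by
      refine IsPGroup.to_sup_of_normal_right' hP (S.2.to_le (Subgroup.zpowers_le.mpr hx)) ?_
      intro p hp
      rw [Subgroup.mem_normalizer_iff]
      intro y
      have hc : Commute p x := Subgroup.mem_centralizer_singleton_iff.mp (hPC hp)
      constructor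
      · rintro ⟨i, rfl⟩; exact ⟨i, by simp [(hc.zpow_right i).eq]⟩
      · rintro ⟨i, hi⟩
        refine ⟨i, ?_⟩
        have hi' : x ^ i = p * y * p⁻¹ := hi
        calc x ^ i = p⁻¹ * (p * x ^ i) := by simp
          _ = p⁻¹ * (x ^ i * p) := by rw [(hc.zpow_right i).eq]
          _ = y := by rw [hi']; simp [mul_assoc]
    obtain ⟨T, hT⟩ := hPx.exists_le_sylow
    by_cases hTS : T = S
    · subst hTS
      exact Subgroup.card_le_of_le (le_inf (le_sup_left.trans hT) hPC)
    · have hxT : x ∈ (T : Subgroup G) := hT (Subgroup.mem_sup_right (Subgroup.mem_zpowers x))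
      have hc := mem_center_of_inter hCI S T (fun e => hTS e.symm) x ⟨hx, hxT⟩
      have hS : (S : Subgroup G) ⊓ Subgroup.centralizer ({x} : Set G) = (S : Subgroup G) :=
        inf_eq_left.mpr fun s hs => Subgroup.mem_centralizer_singleton_iff.mpr (hc s hs).symm
      rw [hS, Nat.card_congr (T.equiv S).symm.toEquiv]
      exact Subgroup.card_le_of_le (le_sup_left.trans hT)
  · intro T hT x hx
    refine ⟨⟨⟨x, hx.1⟩, Subgroup.mem_center_iff.mpr fun s => Subtype.ext ?_, rfl⟩,
      ⟨⟨x, hx.2⟩, Subgroup.mem_center_iff.mpr fun s => Subtype.ext ?_, rfl⟩⟩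
    · exact (mem_center_of_inter hCI S T (fun e => hT e.symm) x hx s s.2).symm
    · exact (mem_center_of_inter hCI T S hT x ⟨hx.2, hx.1⟩ s s.2).symm

end Cfsg.Agent.S3183
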