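import Cfsg.Statements.S0231
import Cfsg.Agent.Lib.Involutions.Basic
import Mathlib.GroupTheory.Sylow

set_option autoImplicit false
open scoped Pointwise
open Cfsg

namespace Cfsg.Agent.S0231

theorem same_sylow {G : Type*} [Group G] [Finite G] (T : Sylow 2 G)
    (hTI : ∀ g : G, MulAut.conj g • (T : Subgroup G) ≠ T → MulAut.conj g • (T : Subgroup G) ⊓ T = ⊥)
    (P Q : Sylow 2 G) (z : G) (hz : z ≠ 1) (hP : z ∈ P) (hQ : z ∈ Q) : P = Q := by
  obtain ⟨a, rfl⟩ := MulAction.exists_smul_eq G T P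
  obtain ⟨b, rfl⟩ := MulAction.exists_smul_eq G T Q
  by_contra hne
  have h1 : MulAut.conj (a⁻¹ * b) • (T : Subgroup G) ≠ T := by
    intro h
    apply hne
    have h' : (a⁻¹ * b) • T = T := Sylow.ext h
    rw [mul_smul, inv_smul_eq_iff] at h'
    exact h'.symm
  have h2 := hTI _ h1
  have hm : (MulAut.conj a)⁻¹ • z ∈ MulAut.conj (a⁻¹ * b) • (T : Subgroup G) ⊓ (T : Subgroup G) := by
    refine ⟨?_, Subgroup.mem_pointwise_smul_iff_inv_smul_mem.mp hP⟩
    rw [SetLike.mem_coe, map_mul, map_inv, mul_smul]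
    exact Subgroup.smul_mem_pointwise_smul _ _ _ hQ
  rw [h2, Subgroup.mem_bot] at hm
  exact hz (smul_left_cancel (MulAut.conj a)⁻¹ (hm.trans (smul_one _).symm))

theorem commuting_pair {G : Type*} [Group G] [Finite G] {u v : G} (hu : orderOf u = 2)
    (hv : orderOf v = 2) (hc : Commute u v) : ∃ P : Sylow 2 G, u ∈ P ∧ v ∈ P := by
  have h2 : (u * v) ^ 2 = 1 := by
    rw [hc.mul_pow, ← hu, pow_orderOf_eq_one, hu, ← hv, pow_orderOf_eq_one, mul_one]
  have hcomm : ∀ x ∈ Subgroup.closure ({u, v} : Set G), x ^ 2 = 1 := by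
    intro x hx
    obtain ⟨k, hk⟩ := Invol.mem_closure_pair hu hv hx
    have h3 : ((u * v) ^ k) ^ 2 = 1 := by
      rw [← zpow_natCast ((u * v) ^ k) 2, ← zpow_mul, mul_comm, zpow_mul, zpow_natCast, h2, one_zpow]
    rcases hk with rfl | rfl
    · exact h3
    · rw [pow_two]; exact Invol.inverted_mul_invol hu (Invol.conj_mul hu hv) k
  have hp : IsPGroup 2 (Subgroup.closure ({u, v} : Set G)) :=
    fun x => ⟨1, Subtype.ext (by simpa using hcomm x.1 x.2)⟩
  obtain ⟨P, hP⟩ := hp.exists_le_sylow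
  exact ⟨P, hP (Subgroup.subset_closure (by simp)), hP (Subgroup.subset_closure (by simp))⟩

theorem nonconj_same_sylow {G : Type*} [Group G] [Finite G] (T : Sylow 2 G)
    (hTI : ∀ g : G, MulAut.conj g • (T : Subgroup G) ≠ T → MulAut.conj g • (T : Subgroup G) ⊓ T = ⊥)
    {u v : G} (hu : orderOf u = 2) (hv : orderOf v = 2) (hne : ¬ IsConj u v) :
    ∃ P : Sylow 2 G, u ∈ P ∧ v ∈ P := by
  have heven : Even (orderOf (u * v)) := by
    by_contra h
    obtain ⟨d, -, hd⟩ := Invol.conj_of_odd hu hv (Nat.not_even_iff_odd.mp h)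
    exact hne (isConj_iff.mpr ⟨d, hd⟩)
  have hz := Invol.half_order hu hv heven (orderOf_pos _)
  have hc := Invol.half_commute hu hv heven
  obtain ⟨P, hP1, hP2⟩ := commuting_pair hz hu hc.1
  obtain ⟨Q, hQ1, hQ2⟩ := commuting_pair hz hv hc.2
  obtain rfl := same_sylow T hTI P Q _ (Invol.ne_one hz) hP1 hQ1
  exact ⟨P, hP2, hQ2⟩

/-- Let T be a Sylow 2-subgroup of the finite group G which is not normal and which intersects every other Sylow 2-subgroup trivially. Then G has a single conjugacy class of involutions. -/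
theorem result {G : Type*} [Group G] [Finite G] (T : Sylow 2 G) (hnn : ¬ (T : Subgroup G).Normal) (hTI : ∀ g : G, MulAut.conj g • (T : Subgroup G) ≠ T → MulAut.conj g • (T : Subgroup G) ⊓ T = ⊥) (s t : G) (hs : orderOf s = 2) (ht : orderOf t = 2) : IsConj s t := by
  by_contra hne
  obtain ⟨P, hsP, htP⟩ := nonconj_same_sylow T hTI hs ht hne
  -- all involutions lie in one Sylow subgroup
  have hall : ∀ u : G, orderOf u = 2 → u ∈ P := by
    intro u hu
    by_cases h : IsConj s u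
    · obtain ⟨Q, hQ1, hQ2⟩ := nonconj_same_sylow T hTI ht hu (fun h' => hne (h.trans h'.symm))
      obtain rfl := same_sylow T hTI P Q t (Invol.ne_one ht) htP hQ1
      exact hQ2
    · obtain ⟨Q, hQ1, hQ2⟩ := nonconj_same_sylow T hTI hs hu h
      obtain rfl := same_sylow T hTI P Q s (Invol.ne_one hs) hsP hQ1
      exact hQ2
  have heven : 2 ∣ Nat.card G := hs ▸ orderOf_dvd_natCard s
  have hsub : ∀ Q : Sylow 2 G, Q = P := by
    intro Q
    have h2 := Q.dvd_card_of_dvd_card heven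
    obtain ⟨u, hu⟩ := exists_prime_orderOf_dvd_card' (p := 2) h2
    have hu' : orderOf (u : G) = 2 := by rw [Subgroup.orderOf_coe, hu]
    exact same_sylow T hTI Q P u (Invol.ne_one hu') u.2 (hall u hu')
  haveI : Subsingleton (Sylow 2 G) := ⟨fun a b => (hsub a).trans (hsub b).symm⟩
  exact hnn T.normal_of_subsingleton

end Cfsg.Agent.S0231
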