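import Cfsg.Statements.S0330
import Cfsg.Agent.Lib.Suzuki.Structure
-- import your own Cfsg.Agent.* helpers here

set_option autoImplicit false
open Cfsg

namespace Cfsg.Agent.S0330

open Cfsg.Agent.Suzuki

theorem equiv_center {A B : Type*} [Group A] [Group B] (e : A ≃* B) :
    (Subgroup.center A).map e.toMonoidHom = Subgroup.center B := by
  ext b
  simp only [Subgroup.mem_map, Subgroup.mem_center_iff, MulEquiv.coe_toMonoidHom]
  constructor
  · rintro ⟨a, ha, rfl⟩ y
    obtain ⟨x, rfl⟩ := e.surjective y
    rw [← map_mul, ha, map_mul]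
  · intro hb
    refine ⟨e.symm b, fun x => e.injective ?_, e.apply_symm_apply b⟩
    rw [map_mul, map_mul, e.apply_symm_apply, hb]

theorem equiv_commutator {A B : Type*} [Group A] [Group B] (e : A ≃* B) :
    (commutator A).map e.toMonoidHom = commutator B := by
  rw [commutator_def, commutator_def, Subgroup.map_commutator, Subgroup.map_top_of_surjective _ e.surjective]

/-- A Sylow 2-subgroup `P` of the Suzuki group (field with `q = 2^(2m+1)` elements, `m ≥ 1`) has order `q²` and
exponent `4`; its centre coincides with its commutator subgroup and has order `q`. -/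
theorem result {F : Type*} [Field F] [Fintype F] {m : ℕ} (hm : 1 ≤ m)
    (hF : Fintype.card F = 2 ^ (2 * m + 1)) (P : Sylow 2 (Cfsg.Sz F m)) :
    Nat.card P = (2 ^ (2 * m + 1)) ^ 2 ∧ Monoid.exponent P = 4 ∧
      Subgroup.center P = commutator P ∧ Nat.card (Subgroup.center P) = 2 ^ (2 * m + 1) := by
  have h : SzField F m := ⟨hm, hF⟩
  have : Fact (Nat.Prime 2) := ⟨Nat.prime_two⟩
  let e : rootGroup h ≃* (P : Subgroup (Cfsg.Sz F m)) := (rootSylow h).equiv P
  refine ⟨?_, ?_, ?_, ?_⟩
  · rw [← Nat.card_congr e.toEquiv, card_rootGroup]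
  · rw [← Monoid.exponent_eq_of_mulEquiv e, exponent_rootGroup]
  · rw [← equiv_center e, ← equiv_commutator e, center_rootGroup, commutator_rootGroup]
  · rw [← equiv_center e, Subgroup.card_map_of_injective e.injective, center_rootGroup,
      Nat.card_congr (Subgroup.subgroupOfEquivOfLe (zGroup_le h)).toEquiv, card_zGroup]

end Cfsg.Agent.S0330
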