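import Cfsg.Statements.S0168
import Cfsg.Agent.Lib.Char.Complete
import Cfsg.Agent.Lib.Char.Integral
-- import your own Cfsg.Agent.* helpers here

set_option autoImplicit false
open Cfsg

namespace Cfsg.Agent.S0168

/-- The Burnside–Brauer Theorem. Let χ be the character of a faithful complex representation of a finite group, taking m distinct values. Then every irreducible character has nonzero inner product with χ ^ i for some i < m. -/
theorem result {G : Type*} [Group G] [Fintype G] {V : Type*} [AddCommGroup V] [Module ℂ V] [FiniteDimensional ℂ V] (ρ : Representation ℂ G V) (hfaithful : Function.Injective ρ) (ψ : G → ℂ) (hψ : Cfsg.IsIrrCharacter G ψ) : ∃ i : ℕ, i < Nat.card (Set.range ρ.character) ∧ Cfsg.classInner (fun g => ρ.character g ^ i) ψ ≠ 0 := by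
  classical
  have hχ := Cfsg.Agent.Char.isCharacter_of_rep ρ
  set χ := ρ.character with hχdef
  obtain ⟨d, hd0, hd⟩ := Cfsg.Agent.Char.IsIrrCharacter.exists_degree hψ
  by_contra hc
  push Not at hc
  set s : Finset ℂ := (Finset.univ.image χ).erase (χ 1) with hs
  set q : Polynomial ℂ := ∏ b ∈ s, (Polynomial.X - Polynomial.C b) with hq
  have hcard : Nat.card (Set.range χ) = s.card + 1 := by
    rw [hs, Finset.card_erase_add_one (Finset.mem_image_of_mem χ (Finset.mem_univ 1)), Nat.card_coe_set_eq,
      ← Set.ncard_coe_finset, Finset.coe_image, Finset.coe_univ, Set.image_univ]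
  have hdeg : q.natDegree = s.card := by rw [hq, Polynomial.natDegree_finsetProd_X_sub_C_eq_card]
  have hzero : ∑ g : G, q.eval (χ g) * (starRingEnd ℂ) (ψ g) = 0 := by
    simp only [Polynomial.eval_eq_sum_range, Finset.sum_mul]
    rw [Finset.sum_comm]
    refine Finset.sum_eq_zero fun i hi => ?_
    have h := hc i (by rw [hcard]; rw [hdeg] at hi; exact Finset.mem_range.mp hi)
    simp only [Cfsg.classInner, mul_eq_zero, inv_eq_zero, Nat.cast_eq_zero, Nat.card_pos.ne', false_or] at h
    simp only [mul_assoc, ← Finset.mul_sum, h, mul_zero]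
  rw [Finset.sum_eq_single (1 : G)] at hzero
  · rw [mul_eq_zero] at hzero
    rcases hzero with h | h
    · rw [hq, Polynomial.eval_prod, Finset.prod_eq_zero_iff] at h
      obtain ⟨b, hb, hb'⟩ := h
      simp only [Polynomial.eval_sub, Polynomial.eval_X, Polynomial.eval_C, sub_eq_zero] at hb'
      exact (Finset.mem_erase.mp hb).1 hb'.symm
    · rw [hd, map_natCast, Nat.cast_eq_zero] at h
      omega
  · intro g _ hg
    have hne : χ g ≠ χ 1 := by
      intro e
      rw [hχdef, Representation.char_one, Cfsg.Agent.Char.char_eq_degree_iff, ← Module.End.one_eq_id, ← map_one ρ] at e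
      exact hg (hfaithful e)
    refine mul_eq_zero_of_left ?_ _
    rw [hq, Polynomial.eval_prod]
    exact Finset.prod_eq_zero (i := χ g) (Finset.mem_erase.mpr ⟨hne, Finset.mem_image_of_mem χ (Finset.mem_univ g)⟩) (by simp)
  · exact fun h => absurd (Finset.mem_univ _) h


end Cfsg.Agent.S0168
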