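import Cfsg.Statements.S0200
import Cfsg.Agent.Lib.Involutions.BaerSuzuki
import Cfsg.Agent.Lib.Involutions.Basic

set_option autoImplicit false
open Cfsg

namespace Cfsg.Agent.S0200

/-- An involution lying in no normal 2-subgroup of a finite group inverts a nontrivial element of odd order (a consequence of the Baer–Suzuki Theorem). -/
theorem result {G : Type*} [Group G] [Finite G] (t : G) (ht : orderOf t = 2) (hO : ∀ N : Subgroup G, N.Normal → IsPGroup 2 N → t ∉ N) : ∃ h : G, h ≠ 1 ∧ Odd (orderOf h) ∧ t * h * t⁻¹ = h⁻¹ := by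
  by_contra hno
  push Not at hno
  set X := Subgroup.zpowers t with hX
  have hXp : IsPGroup 2 X := IsPGroup.of_card (n := 1) (by rw [hX, Nat.card_zpowers, ht, pow_one])
  have h : ∀ g : G, IsPGroup 2 ↥(X ⊔ X.map (MulAut.conj g).toMonoidHom) := by
    intro g
    have hv : orderOf (g * t * g⁻¹) = 2 := by rw [Invol.order_conj, ht]
    have hle : X ⊔ X.map (MulAut.conj g).toMonoidHom ≤
        Subgroup.closure ({t, g * t * g⁻¹} : Set G) := by
      rw [hX, MonoidHom.map_zpowers, sup_le_iff, Subgroup.zpowers_le, Subgroup.zpowers_le]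
      exact ⟨Subgroup.subset_closure (Set.mem_insert _ _),
        Subgroup.subset_closure (Set.mem_insert_of_mem _ (Set.mem_singleton _))⟩
    set a := t * (g * t * g⁻¹) with ha
    obtain ⟨k, m, hm, hkm⟩ := Nat.exists_eq_two_pow_mul_odd (orderOf_pos a).ne'
    -- the odd part is inverted, hence trivial
    have hm1 : m = 1 := by
      by_contra hne
      have ho : orderOf (a ^ 2 ^ k) = m := by
        rw [orderOf_pow' _ (pow_ne_zero _ two_ne_zero), hkm, Nat.gcd_mul_right_left,
          Nat.mul_div_cancel_left _ (pow_pos two_pos k)]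
      exact hno (a ^ 2 ^ k) (fun e => hne (by rw [← ho, e, orderOf_one])) (ho.symm ▸ hm)
        (Invol.conj_pow (Invol.conj_mul ht hv) _)
    rw [hm1, mul_one] at hkm
    refine IsPGroup.to_le ?_ hle
    intro x
    refine ⟨k + 1, Subtype.ext ?_⟩
    obtain ⟨j, hj⟩ := Invol.mem_closure_pair ht hv x.2
    rw [SubgroupClass.coe_pow, OneMemClass.coe_one]
    rw [pow_succ]
    rcases hj with hj | hj <;> rw [hj]
    · have h2 : a ^ 2 ^ k = 1 := hkm ▸ pow_orderOf_eq_one a
      have h3 : (a ^ j) ^ (2 ^ k) = 1 := by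
        rw [← zpow_natCast (a ^ j), ← zpow_mul, mul_comm j, zpow_mul, zpow_natCast, h2, one_zpow]
      rw [← ha, pow_mul, h3, one_pow]
    · rw [mul_comm, pow_mul, pow_two, Invol.inverted_mul_invol ht (Invol.conj_mul ht hv) j, one_pow]
  obtain ⟨N, hN, hp, hle⟩ := BaerSuzuki.baerSuzuki X hXp h
  exact hO N hN hp (hle (Subgroup.mem_zpowers t))

end Cfsg.Agent.S0200
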