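import Cfsg.Statements.S2157
-- import your own Cfsg.Agent.* helpers here

set_option autoImplicit false
open Cfsg

namespace Cfsg.Agent.S2157

/-- The listed chain `[r+s, 2r+s, …]` through `s` follows the table's own successor map. -/
def okPath (D : Cfsg.Lie.ChevalleyDatum) (r : ℕ) : ℕ → List (ℕ × ℤ) → Bool
  | _, [] => true
  | prev, e :: rest => (D.chainRoot r prev 1 == some e.1) && decide (e.1 < D.nroots) && okPath D r e.1 rest

/-- Every table entry of every root follows the successor map. -/
def okTable (D : Cfsg.Lie.ChevalleyDatum) : Bool :=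
  (List.range D.nroots).all fun r =>
    (D.chain.getD r #[]).toList.all fun e => decide (e.1 < D.nroots) && okPath D r e.1 e.2.toList

theorem weight_path {F : Type*} [Field F] (D : Cfsg.Lie.ChevalleyDatum) (χ : ℕ → Fˣ)
    (hχ : D.IsRootCharacter χ) (r : ℕ) (hr : r < D.nroots) :
    ∀ (l : List (ℕ × ℤ)) (prev : ℕ), prev < D.nroots → okPath D r prev l = true →
      ∀ (i : ℕ) (u : ℕ) (c : ℤ), l[i]? = some (u, c) → χ u = χ r ^ (i + 1) * χ prev := by
  intro l
  induction l with
  | nil => intro _ _ _ i u c h; simp at h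
  | cons e rest ih =>
    intro prev hprev hok i u c h
    simp only [okPath, Bool.and_eq_true, beq_iff_eq, decide_eq_true_eq] at hok
    obtain ⟨⟨h1, h2⟩, h3⟩ := hok
    have hstep := hχ.2 r prev e.1 hr hprev h1
    cases i with
    | zero =>
      simp at h
      rw [zero_add, pow_one]
      rw [← hstep, h]
    | succ j =>
      simp at h
      rw [ih e.1 h2 h3 j u c h, hstep, pow_succ (χ r) (j + 1), mul_assoc]

theorem weight_coeff {F : Type*} [Field F] (D : Cfsg.Lie.ChevalleyDatum) (hok : okTable D = true)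
    (χ : ℕ → Fˣ) (hχ : D.IsRootCharacter χ) (r s u : ℕ) (hr : r < D.nroots) (km : ℕ × ℤ)
    (h : km ∈ D.chainCoeff r s u) : χ u = χ r ^ km.1 * χ s := by
  simp only [Cfsg.Lie.ChevalleyDatum.chainCoeff, List.mem_flatMap, List.mem_filter, List.mem_map,
    decide_eq_true_eq] at h
  obtain ⟨e, ⟨he, hes⟩, ⟨⟨uc, i⟩, ⟨hq, hu⟩, hkm⟩⟩ := h
  subst hkm
  simp only [okTable, List.all_eq_true, List.mem_range, Bool.and_eq_true, decide_eq_true_eq] at hok
  obtain ⟨hs, hp⟩ := hok r hr e he
  rw [List.mem_zipIdx_iff_getElem?] at hq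
  obtain ⟨v, c⟩ := uc
  have := weight_path D χ hχ r hr e.2.toList e.1 hs hp i v c hq
  subst hu; subst hes
  exact this

theorem charDiag_conj {F : Type*} [Field F] (D : Cfsg.Lie.ChevalleyDatum) (hok : okTable D = true)
    (χ : ℕ → Fˣ) (hχ : D.IsRootCharacter χ) (r : ℕ) (hr : r < D.nroots) (t : F) :
    D.charDiag F χ * D.x F r t * D.charDiag F (fun s => (χ s)⁻¹) = D.x F r ((χ r : F) * t) := by
  have hneg := hχ.1
  simp only [Cfsg.Lie.ChevalleyDatum.x, dif_pos hr, Cfsg.Lie.ChevalleyDatum.charDiag]
  ext row col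
  rw [Matrix.mul_diagonal, Matrix.diagonal_mul]
  rcases col with i | s
  · rcases row with i' | u
    · simp [Cfsg.Lie.ChevalleyDatum.xMat]
    · simp only [Cfsg.Lie.ChevalleyDatum.xMat, Matrix.of_apply, Sum.elim_inl, Sum.elim_inr, mul_one]
      split_ifs with h
      · subst h; simp; ring
      · simp
  · simp only [Cfsg.Lie.ChevalleyDatum.xMat, Matrix.of_apply, Sum.elim_inr]
    split_ifs with h1 h2
    · subst h1
      rcases row with i' | u
      · simp
      · by_cases hu : u = ⟨r, hr⟩
        · subst hu; simp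
        · simp [hu]
    · have hs : χ s.val = (χ r)⁻¹ := by
        rw [h2]; exact hneg r hr
      rcases row with i' | u
      · simp [hs]; ring
      · simp only [Sum.elim_inr]
        split_ifs with a b
        · subst a; simp
        · subst b; simp [hs]; ring
        · simp
    · rcases row with i' | u
      · simp
      · simp only [Sum.elim_inr]
        by_cases hus : u = s
        · subst hus
          rw [if_pos rfl]
          have hL : ∀ km ∈ D.chainCoeff r u.val u.val, (χ r : F) ^ km.1 = 1 := fun km hk => by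
            have := weight_coeff D hok χ hχ r u.val u.val hr km hk
            have h1' : χ r ^ km.1 = 1 := mul_right_cancel (b := χ u.val) (by rw [one_mul]; exact this.symm)
            rw [← Units.val_pow_eq_pow_val, h1', Units.val_one]
          rw [mul_add, add_mul, mul_one, Units.mul_inv, ← List.sum_map_mul_left, ← List.sum_map_mul_right]
          congr 2
          refine List.map_congr_left fun km hk => ?_
          rw [mul_pow, hL km hk, one_mul, mul_comm (χ u.val : F), mul_assoc, Units.mul_inv, mul_one]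
        · rw [if_neg hus, zero_add, zero_add, ← List.sum_map_mul_left, ← List.sum_map_mul_right]
          congr 1
          refine List.map_congr_left fun km hk => ?_
          have := weight_coeff D hok χ hχ r s.val u.val hr km hk
          rw [this, Units.val_mul, Units.val_pow_eq_pow_val, mul_pow]
          calc (χ r : F) ^ km.1 * (χ s.val : F) * ((km.2 : F) * t ^ km.1) * ((χ s.val)⁻¹ : Fˣ)
              = (km.2 : F) * ((χ r : F) ^ km.1 * t ^ km.1) * ((χ s.val : F) * ((χ s.val)⁻¹ : Fˣ)) := by ring
            _ = _ := by rw [Units.mul_inv, mul_one]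

theorem ok_G2 : okTable Cfsg.Lie.chevG2 = true := by decide +kernel
theorem ok_B2 : okTable Cfsg.Lie.chevB2 = true := by decide +kernel
theorem ok_D4 : okTable Cfsg.Lie.chevD4 = true := by decide +kernel
theorem ok_F4 : okTable Cfsg.Lie.chevF4 = true := by decide +kernel
theorem ok_E6 : okTable Cfsg.Lie.chevE6 = true := by decide +kernel
theorem ok_E7 : okTable Cfsg.Lie.chevE7 = true := by decide +kernel
theorem ok_E8 : okTable Cfsg.Lie.chevE8 = true := by decide +kernel

/-- In a Chevalley group of type G₂, B₂, D₄, F₄, E₆, E₇ or E₈, for every character `χ` of the root lattice with values in `Fˣ` the diagonal matrix `ĥ(χ)` (identity on the coroot coordinates, `χ(s)` on the coordinate of `e_s`) conjugates each root element `x_r(t)` to `x_r(χ(r) t)`: `ĥ(χ) x_r(t) ĥ(χ)⁻¹ = x_r(χ(r) t)` as matrices, with `ĥ(χ)⁻¹` written as `ĥ(χ⁻¹)`. -/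
theorem result {F : Type*} [Field F] (D : Cfsg.Lie.ChevalleyDatum) (hD : D ∈ [Cfsg.Lie.chevG2, Cfsg.Lie.chevB2, Cfsg.Lie.chevD4, Cfsg.Lie.chevF4, Cfsg.Lie.chevE6, Cfsg.Lie.chevE7, Cfsg.Lie.chevE8]) (χ : ℕ → Fˣ) (hχ : D.IsRootCharacter χ) (r : ℕ) (hr : r < D.nroots) (t : F) :
    D.charDiag F χ * D.x F r t * D.charDiag F (fun s => (χ s)⁻¹) = D.x F r ((χ r : F) * t) := by
  have hok : okTable D = true := by
    simp only [List.mem_cons, List.not_mem_nil, or_false] at hD
    rcases hD with rfl | rfl | rfl | rfl | rfl | rfl | rfl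
    exacts [ok_G2, ok_B2, ok_D4, ok_F4, ok_E6, ok_E7, ok_E8]
  exact charDiag_conj D hok χ hχ r hr t

end Cfsg.Agent.S2157
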