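import Cfsg.Statements.S4134
import Mathlib
import Cfsg.Agent.Lib.FGStruct.CoprimeFixBound
import Cfsg.Agent.Lib.Solvable.Basic

set_option autoImplicit false
set_option linter.style.haveILetI false

namespace Cfsg.Agent.S4134

open scoped Classical Pointwise

variable {G : Type*} [Group G] [Finite G]

/-- A subgroup containing all prime-power elements of `H` contains `H`. -/
lemma le_of_primePow {H K : Subgroup G}
    (h : ∀ r : ℕ, r.Prime → ∀ x ∈ H, (∃ k, orderOf x = r ^ k) → x ∈ K) : H ≤ K := by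
  have hdvd : Nat.card H ∣ Nat.card (H ⊓ K : Subgroup G) := by
    rw [← Nat.factorization_le_iff_dvd Nat.card_pos.ne' Nat.card_pos.ne', Finsupp.le_iff]
    intro r hr
    have hrp : r.Prime := Nat.prime_of_mem_primeFactors (Nat.support_factorization _ ▸ hr)
    haveI := Fact.mk hrp
    obtain ⟨S⟩ := (inferInstance : Nonempty (Sylow r H))
    refine (hrp.pow_dvd_iff_le_factorization Nat.card_pos.ne').1 ?_
    rw [← S.card_eq_multiplicity, ← Subgroup.card_map_of_injective H.subtype_injective]
    refine Subgroup.card_dvd_of_le ?_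
    rintro _ ⟨s, hs, rfl⟩
    refine ⟨s.2, h r hrp _ s.2 ?_⟩
    obtain ⟨k, hk⟩ := IsPGroup.iff_orderOf.1 S.isPGroup' ⟨s, hs⟩
    exact ⟨k, by rw [Subgroup.orderOf_mk] at hk; rw [← hk]; exact Subgroup.orderOf_coe s⟩
  have := Subgroup.eq_of_le_of_card_ge (inf_le_left : H ⊓ K ≤ H) (Nat.le_of_dvd Nat.card_pos hdvd)
  exact this ▸ inf_le_right

lemma centralizer_inf_le {g a b : G} (ha : a ∈ Subgroup.zpowers g) :
    Subgroup.centralizer ({g} : Set G) ≤ Subgroup.centralizer ({a} : Set G) := by
  intro w hw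
  rw [Subgroup.mem_centralizer_singleton_iff] at hw ⊢
  obtain ⟨i, rfl⟩ := ha
  exact ((show Commute g w from hw.symm).zpow_left i).eq.symm

variable {n : ℕ}

/-- Class sizes are one or `n`. -/
def TwoSizes (G : Type*) [Group G] (n : ℕ) : Prop :=
  ∀ x : G, x ∉ Subgroup.center G → (Subgroup.centralizer ({x} : Set G)).index = n

lemma cent_eq (h : TwoSizes G n) {x y : G} (hx : x ∉ Subgroup.center G) (hy : y ∉ Subgroup.center G)
    (hle : Subgroup.centralizer ({x} : Set G) ≤ Subgroup.centralizer ({y} : Set G)) :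
    Subgroup.centralizer ({x} : Set G) = Subgroup.centralizer ({y} : Set G) := by
  refine Subgroup.eq_of_le_of_card_ge hle (le_of_eq ?_)
  have h1 := (Subgroup.centralizer ({x} : Set G)).card_mul_index
  have h2 := (Subgroup.centralizer ({y} : Set G)).card_mul_index
  rw [h x hx] at h1
  rw [h y hy] at h2
  have hn : n ≠ 0 := fun hn0 => Subgroup.index_ne_zero_of_finite ((h x hx).trans hn0)
  exact Nat.eq_of_mul_eq_mul_right (Nat.pos_of_ne_zero hn) (h2.trans h1.symm)

lemma cent_eq_of_coprime (h : TwoSizes G n) {x y : G} (hx : x ∉ Subgroup.center G)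
    (hy : y ∉ Subgroup.center G) (hc : Commute x y) (hcop : (orderOf x).Coprime (orderOf y)) :
    Subgroup.centralizer ({x} : Set G) = Subgroup.centralizer ({y} : Set G) := by
  have hmem : ∀ a b : G, Commute a b → (orderOf a).Coprime (orderOf b) → a ∈ Subgroup.zpowers (a * b) := by
    intro a b hab hco
    obtain ⟨i, hi1, hi0⟩ := Nat.chineseRemainder hco 1 0
    refine ⟨(i : ℤ), ?_⟩
    show (a * b) ^ (i : ℤ) = a
    rw [zpow_natCast, hab.mul_pow, (pow_eq_pow_iff_modEq).2 hi1, (pow_eq_pow_iff_modEq).2 hi0, pow_one,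
      pow_zero, mul_one]
  have h1 : Subgroup.centralizer ({x * y} : Set G) ≤ Subgroup.centralizer ({x} : Set G) :=
    centralizer_inf_le (b := y) (hmem x y hc hcop)
  have h2 : Subgroup.centralizer ({x * y} : Set G) ≤ Subgroup.centralizer ({y} : Set G) :=
    centralizer_inf_le (b := x) (hc.eq ▸ hmem y x hc.symm hcop.symm)
  have hxy : x * y ∉ Subgroup.center G := fun hz => hx (Subgroup.zpowers_le.2 hz (hmem x y hc hcop))
  rw [← cent_eq h hxy hx h1, ← cent_eq h hxy hy h2]

variable (G) in
/-- Some element of `r`-power order is not central. -/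
def NC (r : ℕ) : Prop := ∃ x : G, (∃ k, orderOf x = r ^ k) ∧ x ∉ Subgroup.center G

lemma exists_nc_mem (h : TwoSizes G n) {r : ℕ} [hr : Fact r.Prime] (hnc : NC G r) {g : G}
    (hg : g ∉ Subgroup.center G) :
    ∃ x ∈ Subgroup.centralizer ({g} : Set G), (∃ k, orderOf x = r ^ k) ∧ x ∉ Subgroup.center G := by
  by_contra hcon
  push Not at hcon
  obtain ⟨y, ⟨k, hk⟩, hy⟩ := hnc
  set Z := Subgroup.center G
  set C := Subgroup.centralizer ({g} : Set G)
  set D := Subgroup.centralizer ({y} : Set G)
  have hcard : Nat.card C = Nat.card D := by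
    have h1 := C.card_mul_index
    have h2 := D.card_mul_index
    rw [h g hg] at h1
    rw [h y hy] at h2
    have hn : n ≠ 0 := fun hn0 => Subgroup.index_ne_zero_of_finite ((h g hg).trans hn0)
    exact Nat.eq_of_mul_eq_mul_right (Nat.pos_of_ne_zero hn) (h1.trans h2.symm)
  obtain ⟨S⟩ := (inferInstance : Nonempty (Sylow r C))
  have hS : r ^ (Nat.card C).factorization r ∣ Nat.card Z := by
    rw [← S.card_eq_multiplicity, ← Subgroup.card_map_of_injective C.subtype_injective]
    refine Subgroup.card_dvd_of_le ?_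
    rintro _ ⟨s, hs, rfl⟩
    obtain ⟨j, hj⟩ := IsPGroup.iff_orderOf.1 S.isPGroup' ⟨s, hs⟩
    refine hcon _ s.2 ⟨j, ?_⟩
    rw [Subgroup.orderOf_mk] at hj; rw [← hj]; exact Subgroup.orderOf_coe s
  set H := Z ⊔ Subgroup.zpowers y
  have hHD : H ≤ D := sup_le (Subgroup.center_le_centralizer _)
    (Subgroup.zpowers_le.2 (Subgroup.mem_centralizer_singleton_iff.2 rfl))
  have hidx : Z.relIndex H = Z.relIndex (Subgroup.zpowers y) := Subgroup.relIndex_sup_left ..
  have hrp : Z.relIndex (Subgroup.zpowers y) ∣ r ^ k := by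
    rw [← hk, ← Nat.card_zpowers]; exact Subgroup.relIndex_dvd_card _ _
  obtain ⟨i, -, hi⟩ := (Nat.dvd_prime_pow hr.out).1 hrp
  have hi0 : i ≠ 0 := by
    rintro rfl
    rw [pow_zero, Subgroup.relIndex_eq_one] at hi
    exact hy (hi (Subgroup.mem_zpowers y))
  have hH : Nat.card H = Nat.card Z * r ^ i := by
    rw [← hi, ← hidx, ← Nat.card_congr (Subgroup.subgroupOfEquivOfLe (le_sup_left : Z ≤ H)).toEquiv]
    exact ((Z.subgroupOf H).card_mul_index).symm
  have hdvd : Nat.card Z * r ^ i ∣ Nat.card C := hcard ▸ hH ▸ Subgroup.card_dvd_of_le hHD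
  have h1 := (hr.out.pow_dvd_iff_le_factorization Nat.card_pos.ne').1 hS
  have h2 := (Nat.factorization_le_iff_dvd (mul_ne_zero Nat.card_pos.ne' (pow_ne_zero _ hr.out.ne_zero))
    Nat.card_pos.ne').2 hdvd r
  rw [Nat.factorization_mul Nat.card_pos.ne' (pow_ne_zero _ hr.out.ne_zero), Finsupp.add_apply,
    hr.out.factorization_pow, Finsupp.single_eq_same] at h2
  omega

/-- With two relevant primes all proper centralizers are abelian. -/
lemma abelian_centralizer (h : TwoSizes G n) {p q : ℕ} [Fact p.Prime] [Fact q.Prime] (hpq : p ≠ q)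
    (hp : NC G p) (hq : NC G q) {g : G} (hg : g ∉ Subgroup.center G) {a b : G}
    (ha : a ∈ Subgroup.centralizer ({g} : Set G)) (hb : b ∈ Subgroup.centralizer ({g} : Set G)) :
    a * b = b * a := by
  obtain ⟨x, hxg, ⟨k, hk⟩, hx⟩ := exists_nc_mem h hp hg
  obtain ⟨y, hyx, ⟨l, hl⟩, hy⟩ := exists_nc_mem h hq hx
  set C := Subgroup.centralizer ({x} : Set G)
  have hcoprime : ∀ {r s i j : ℕ}, r.Prime → s.Prime → r ≠ s → (r ^ i).Coprime (s ^ j) :=
    fun hr hs hrs => ((Nat.coprime_primes hr hs).2 hrs).pow _ _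
  have hp' := (Fact.out : p.Prime)
  have hq' := (Fact.out : q.Prime)
  have hCy : C = Subgroup.centralizer ({y} : Set G) :=
    cent_eq_of_coprime h hx hy (Subgroup.mem_centralizer_singleton_iff.1 hyx).symm
      (by rw [hk, hl]; exact hcoprime hp' hq' hpq)
  have hCle : C ≤ Subgroup.centralizer (C : Set G) := by
    refine le_of_primePow fun r hr z hz ⟨j, hj⟩ => ?_
    refine Subgroup.mem_centralizer_iff.2 fun c hc => ?_
    by_cases hzc : z ∈ Subgroup.center G
    · exact Subgroup.mem_center_iff.1 hzc c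
    have hCz : C = Subgroup.centralizer ({z} : Set G) := by
      by_cases hrp : r = p
      · rw [hCy]
        refine cent_eq_of_coprime h hy hzc ?_ (by rw [hj, hl, hrp]; exact hcoprime hq' hp' hpq.symm)
        exact (Subgroup.mem_centralizer_singleton_iff.1 (hCy ▸ hz)).symm
      · exact cent_eq_of_coprime h hx hzc (Subgroup.mem_centralizer_singleton_iff.1 hz).symm
          (by rw [hj, hk]; exact hcoprime hp' hr (Ne.symm hrp))
    exact Subgroup.mem_centralizer_singleton_iff.1 (hCz ▸ hc)
  have hgC : g ∈ C := Subgroup.mem_centralizer_singleton_iff.2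
    (Subgroup.mem_centralizer_singleton_iff.1 hxg).symm
  have hle : C ≤ Subgroup.centralizer ({g} : Set G) := fun c hc =>
    Subgroup.mem_centralizer_singleton_iff.2 (Subgroup.mem_centralizer_iff.1 (hCle hgC) c hc)
  have heq := cent_eq h hx hg hle
  rw [← heq] at ha hb
  exact Subgroup.mem_centralizer_iff.1 (hCle hb) a ha

/-- There is at most one relevant prime. -/
theorem nc_unique (h : TwoSizes G n) (hn : 1 < n) {p q : ℕ} (hp : p.Prime) (hq : q.Prime)
    (hpN : NC G p) (hqN : NC G q) : p = q := by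
  by_contra hpq
  haveI := Fact.mk hp
  haveI := Fact.mk hq
  obtain ⟨x₀, -, hx₀⟩ := id hpN
  have hcomm := fun {g : G} (hg : g ∉ Subgroup.center G) {a b : G} =>
    abelian_centralizer h hpq hpN hqN (g := g) hg (a := a) (b := b)
  set Z := Subgroup.center G with hZ
  set π := QuotientGroup.mk' Z
  set C₀ := Subgroup.centralizer ({x₀} : Set G)
  set cb := Nat.card (C₀.map π) with hcb
  have hcent : ∀ g, g ∉ Z → ∀ y ∈ Subgroup.centralizer ({g} : Set G), y ∉ Z →
      Subgroup.centralizer ({g} : Set G) = Subgroup.centralizer ({y} : Set G) := fun g hg y hy hyz =>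
    cent_eq h hg hyz fun c hc => Subgroup.mem_centralizer_singleton_iff.2 (hcomm hg hc hy)
  have hcardC : ∀ g, g ∉ Z → Nat.card (Subgroup.centralizer ({g} : Set G)) = Nat.card Z * cb := by
    intro g hg
    have h1 := CoprimeFixBound.card_inf_eq_mul π C₀
    rw [QuotientGroup.ker_mk', inf_eq_left.2 (Subgroup.center_le_centralizer _)] at h1
    rw [hcb, ← h1]
    have h2 := (Subgroup.centralizer ({g} : Set G)).card_mul_index
    have h3 := C₀.card_mul_index
    rw [h g hg] at h2
    rw [h x₀ hx₀] at h3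
    exact Nat.eq_of_mul_eq_mul_right (by omega) (h2.trans h3.symm)
  have hcbd : ∀ g, g ∉ Z → Nat.card ((Subgroup.centralizer ({g} : Set G)).map π) = cb := by
    intro g hg
    have h1 := CoprimeFixBound.card_inf_eq_mul π (Subgroup.centralizer ({g} : Set G))
    rw [QuotientGroup.ker_mk', inf_eq_left.2 (Subgroup.center_le_centralizer _), hcardC g hg] at h1
    exact (Nat.eq_of_mul_eq_mul_left Nat.card_pos h1).symm
  have hcb1 : 1 < cb := by
    rw [hcb, Subgroup.one_lt_card_iff_ne_bot, Ne, Subgroup.map_eq_bot_iff, QuotientGroup.ker_mk']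
    exact fun hle => hx₀ (hle (Subgroup.mem_centralizer_singleton_iff.2 rfl))
  -- the partition bound
  have hbound : cb ≤ n := by
    letI := Fintype.ofFinite G
    set U : Finset G := Finset.univ.filter (fun g => g ∉ Z)
    set f : G → Subgroup G := fun g => Subgroup.centralizer ({g} : Set G)
    have hfib : ∀ C ∈ U.image f, (U.filter fun g => f g = C).card = Nat.card Z * cb - Nat.card Z := by
      intro C hC
      obtain ⟨g, hg, rfl⟩ := Finset.mem_image.1 hC
      have hg' : g ∉ Z := (Finset.mem_filter.1 hg).2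
      have e : U.filter (fun y => f y = f g) =
          (Finset.univ.filter fun y => y ∈ f g) \ (Finset.univ.filter fun y => y ∈ Z) := by
        ext y
        simp only [U, Finset.mem_filter, Finset.mem_univ, true_and, Finset.mem_sdiff]
        constructor
        · rintro ⟨hy, hfy⟩
          exact ⟨hfy ▸ Subgroup.mem_centralizer_singleton_iff.2 rfl, hy⟩
        · rintro ⟨hy, hyz⟩
          exact ⟨hyz, (hcent g hg' y hy hyz).symm⟩
      rw [e, Finset.card_sdiff_of_subset (fun y hy => by
        simp only [Finset.mem_filter, Finset.mem_univ, true_and] at hy ⊢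
        exact Subgroup.center_le_centralizer _ hy), ← Fintype.card_subtype, ← Fintype.card_subtype,
        ← Nat.card_eq_fintype_card, ← Nat.card_eq_fintype_card, hcardC g hg']
    have hU : U.card = Nat.card G - Nat.card Z := by
      rw [show U = Finset.univ \ (Finset.univ.filter fun y => y ∈ Z) by ext y; simp [U],
        Finset.card_sdiff_of_subset (Finset.subset_univ _), Finset.card_univ, ← Fintype.card_subtype,
        ← Nat.card_eq_fintype_card, ← Nat.card_eq_fintype_card]
    have hsum := Finset.card_eq_sum_card_image f U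
    rw [Finset.sum_congr rfl hfib, Finset.sum_const, smul_eq_mul, hU] at hsum
    have hG : Nat.card G = Nat.card Z * cb * n := by
      rw [← hcardC x₀ hx₀, ← h x₀ hx₀, Subgroup.card_mul_index]
    obtain ⟨d, hd⟩ : ∃ d, cb = d + 1 := ⟨cb - 1, by omega⟩
    obtain ⟨m, hm⟩ : ∃ m, n = m + 1 := ⟨n - 1, by omega⟩
    have e1 : Nat.card Z * cb - Nat.card Z = Nat.card Z * d := by rw [hd, mul_add, mul_one]; omega
    have e2 : Nat.card Z * cb * n - Nat.card Z = Nat.card Z * (d * (m + 1) + m) := by
      rw [hd, hm, show Nat.card Z * (d + 1) * (m + 1) = Nat.card Z * (d * (m + 1) + m) + Nat.card Z by ring,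
        Nat.add_sub_cancel]
    rw [hG, e1, e2, mul_left_comm] at hsum
    have h4 := Nat.eq_of_mul_eq_mul_left Nat.card_pos hsum
    have h5 : d ∣ m := (Nat.dvd_add_right (dvd_mul_right d (m + 1))).1 ⟨_, h4.trans (mul_comm _ _)⟩
    rcases Nat.eq_zero_or_pos m with hm0 | hm0
    · omega
    · have := Nat.le_of_dvd hm0 h5
      omega
  -- every relevant prime has its part of `n` below every other part of `cb`
  have hpos : ∀ r, r.Prime → NC G r → 1 < r ^ cb.factorization r := by
    intro r hr hrN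
    haveI := Fact.mk hr
    obtain ⟨y, ⟨k, hk⟩, hy⟩ := hrN
    refine Nat.one_lt_pow (fun hz => ?_) hr.one_lt
    have hd : orderOf (π y) ∣ cb := by
      rw [← hcbd y hy, ← Subgroup.orderOf_mk (π y) (Subgroup.mem_map_of_mem π
        (Subgroup.mem_centralizer_singleton_iff.2 rfl : y ∈ Subgroup.centralizer ({y} : Set G)))]
      exact orderOf_dvd_natCard _
    obtain ⟨i, -, hi⟩ := (Nat.dvd_prime_pow hr).1 (hk ▸ orderOf_map_dvd π y)
    rw [hi] at hd
    have := (hr.pow_dvd_iff_le_factorization (by omega)).1 hd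
    rw [hz, Nat.le_zero] at this
    rw [this, pow_zero, orderOf_eq_one_iff] at hi
    exact hy ((QuotientGroup.eq_one_iff y).1 hi)
  have hNC : ∀ r, r.Prime → r ∣ n → NC G r := by
    intro r hr hrn
    haveI := Fact.mk hr
    by_contra hnc
    unfold NC at hnc
    push Not at hnc
    obtain ⟨P⟩ := (inferInstance : Nonempty (Sylow r G))
    have hle : (P : Subgroup G) ≤ C₀ := fun y hy => by
      obtain ⟨j, hj⟩ := IsPGroup.iff_orderOf.1 P.isPGroup' ⟨y, hy⟩
      exact Subgroup.center_le_centralizer _ (hnc y ⟨j, by rwa [Subgroup.orderOf_mk] at hj⟩)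
    exact P.not_dvd_index (hrn.trans (h x₀ hx₀ ▸ Subgroup.index_dvd_of_le hle))
  have hlt : ∀ r s, r.Prime → s.Prime → r ≠ s → NC G r → NC G s →
      r ^ n.factorization r < s ^ cb.factorization s := by
    intro r s hr hs hrs hrN hsN
    by_cases hrn : ¬ r ∣ n
    · rw [Nat.factorization_eq_zero_of_not_dvd hrn, pow_zero]; exact hpos s hs hsN
    haveI := Fact.mk hr
    haveI := Fact.mk hs
    obtain ⟨P⟩ := (inferInstance : Nonempty (Sylow r G))
    haveI hPb : Nontrivial ((P : Subgroup G).map π) := by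
      rw [Subgroup.nontrivial_iff_ne_bot, Ne, Subgroup.map_eq_bot_iff, QuotientGroup.ker_mk']
      intro hle
      exact P.not_dvd_index ((not_not.1 hrn).trans (h x₀ hx₀ ▸ Subgroup.index_dvd_of_le
        (hle.trans (Subgroup.center_le_centralizer _))))
    haveI := (P.isPGroup'.map π).center_nontrivial
    obtain ⟨⟨zb, hzc⟩, hzb⟩ := exists_ne (1 : Subgroup.center ((P : Subgroup G).map π))
    obtain ⟨z, hz, hze⟩ := zb.2
    have hzZ : z ∉ Z := fun hzz => hzb (Subtype.ext (Subtype.ext (by
      rw [← hze]; exact (QuotientGroup.eq_one_iff z).2 hzz)))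
    set C := Subgroup.centralizer ({z} : Set G) with hC
    have hnorm : ∀ g ∈ (P : Subgroup G), ∀ d ∈ C, g * d * g⁻¹ ∈ C := by
      intro g hg d hd
      have h1 := congrArg Subtype.val (Subgroup.mem_center_iff.1 hzc ⟨π g, g, hg, rfl⟩)
      change π g * (zb : G ⧸ Z) = (zb : G ⧸ Z) * π g at h1
      rw [← hze, ← map_mul, ← map_mul] at h1
      have h2 : (z * g)⁻¹ * (g * z) ∈ Z := QuotientGroup.eq.1 h1.symm
      set ζ := (z * g)⁻¹ * (g * z)
      have hcζ := Subgroup.mem_center_iff.1 h2
      have h3 : g * z * g⁻¹ = z * ζ := by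
        calc g * z * g⁻¹ = z * g * ζ * g⁻¹ := by
              rw [show z * g * ζ = g * z from mul_inv_cancel_left _ _]
          _ = z * (g * ζ * g⁻¹) := by group
          _ = z * ζ := by rw [hcζ g, mul_inv_cancel_right]
      rw [hC, Subgroup.mem_centralizer_singleton_iff] at hd ⊢
      have h4 : g * d * g⁻¹ * (z * ζ) = z * ζ * (g * d * g⁻¹) := by
        rw [← h3]
        calc g * d * g⁻¹ * (g * z * g⁻¹) = g * (d * z) * g⁻¹ := by group
          _ = g * (z * d) * g⁻¹ := by rw [hd]
          _ = _ := by group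
      rw [mul_assoc z ζ, ← hcζ (g * d * g⁻¹)] at h4
      exact mul_right_cancel (b := ζ) (by simpa only [mul_assoc] using h4)
    have hPN : (P : Subgroup G) ≤ Subgroup.normalizer (C : Set G) := by
      intro g hg
      rw [Subgroup.mem_normalizer_iff]
      intro d
      refine ⟨hnorm g hg d, fun hd => ?_⟩
      have := hnorm g⁻¹ (inv_mem hg) _ hd
      simpa [mul_assoc] using this
    -- the `r`-part of `n`
    have hrel : r ^ n.factorization r = C.relIndex (P : Subgroup G) := by
      haveI : (C.subgroupOf ((P : Subgroup G) ⊔ C)).Normal :=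
        (Subgroup.normal_subgroupOf_iff_le_normalizer le_sup_right).2 (sup_le hPN Subgroup.le_normalizer)
      have h1 : C.relIndex ((P : Subgroup G) ⊔ C) = C.relIndex (P : Subgroup G) := by
        refine Nat.eq_of_mul_eq_mul_left (Nat.card_pos (α := (C ⊓ (P : Subgroup G) : Subgroup G))) ?_
        have hsup := SolvBasic.card_sup_mul_card_inf (N := C) hPN
        have h2 : Nat.card ((P : Subgroup G) ⊔ C : Subgroup G) = Nat.card C * C.relIndex ((P : Subgroup G) ⊔ C) := by
          rw [← (C.subgroupOf ((P : Subgroup G) ⊔ C)).card_mul_index,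
            Nat.card_congr (Subgroup.subgroupOfEquivOfLe le_sup_right).toEquiv]
          rfl
        have h3 : Nat.card (P : Subgroup G) =
            Nat.card (C ⊓ (P : Subgroup G) : Subgroup G) * C.relIndex (P : Subgroup G) := by
          rw [← Subgroup.inf_relIndex_right, ← (((C ⊓ (P : Subgroup G))).subgroupOf P).card_mul_index,
            Nat.card_congr (Subgroup.subgroupOfEquivOfLe inf_le_right).toEquiv]
          rfl
        rw [sup_comm C, h2, mul_assoc, h3] at hsup
        rw [mul_comm]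
        exact Nat.eq_of_mul_eq_mul_left Nat.card_pos hsup
      have h2 : n = C.relIndex (P : Subgroup G) * ((P : Subgroup G) ⊔ C).index := by
        rw [← h1, Subgroup.relIndex_mul_index le_sup_right, h z hzZ]
      have h3 : ¬ r ∣ ((P : Subgroup G) ⊔ C).index := fun hd =>
        P.not_dvd_index (hd.trans (Subgroup.index_dvd_of_le le_sup_left))
      obtain ⟨j, -, hj⟩ := (Nat.dvd_prime_pow hr).1 (P.card_eq_multiplicity ▸ Subgroup.relIndex_dvd_card C (P : Subgroup G))
      rw [h2, Nat.factorization_mul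
        (Nat.pos_of_dvd_of_pos (Subgroup.relIndex_dvd_card C (P : Subgroup G)) Nat.card_pos).ne'
        Subgroup.index_ne_zero_of_finite, Finsupp.add_apply,
        Nat.factorization_eq_zero_of_not_dvd h3, hj, hr.factorization_pow, Finsupp.single_eq_same, add_zero]
    -- semiregular action
    set T := {v : G ⧸ Z // v ∈ C.map π ∧ v ≠ 1 ∧ ∃ j, orderOf v = s ^ j}
    have hTcard : Nat.card T = s ^ cb.factorization s - 1 := by
      obtain ⟨S⟩ := (inferInstance : Nonempty (Sylow s (C.map π)))
      haveI : IsMulCommutative (C.map π) := .of_setLike_mul_comm (by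
        rintro _ ⟨a, ha, rfl⟩ _ ⟨b, hb, rfl⟩
        rw [← map_mul, ← map_mul, hcomm hzZ ha hb])
      haveI hSn : (S : Subgroup (C.map π)).Normal := ⟨fun x hx g => by
        rw [mul_comm' g x, mul_inv_cancel_right]; exact hx⟩
      have e : {v : (S : Subgroup (C.map π)) // v ≠ 1} ≃ T :=
        { toFun := fun v => ⟨((v.1 : C.map π) : G ⧸ Z), (v.1 : C.map π).2,
            fun hv => v.2 (Subtype.ext (Subtype.ext hv)), by
              obtain ⟨j, hj⟩ := IsPGroup.iff_orderOf.1 S.isPGroup' v.1
              exact ⟨j, by rw [Subgroup.orderOf_coe, Subgroup.orderOf_coe]; exact hj⟩⟩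
          invFun := fun v => ⟨⟨⟨v.1, v.2.1⟩, by
              obtain ⟨j, hj⟩ := v.2.2.2
              have hz' : IsPGroup s (Subgroup.zpowers (⟨v.1, v.2.1⟩ : C.map π)) :=
                IsPGroup.of_card (n := j) (by rw [Nat.card_zpowers, Subgroup.orderOf_mk, hj])
              exact (S.is_maximal' (hz'.to_sup_of_normal_right S.isPGroup') le_sup_right).le
                (Subgroup.mem_sup_left (Subgroup.mem_zpowers _))⟩,
            fun hv => v.2.2.1 (congrArg (fun w : (S : Subgroup (C.map π)) => ((w : C.map π) : G ⧸ Z)) hv)⟩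
          left_inv := fun v => rfl
          right_inv := fun v => rfl }
      letI := Fintype.ofFinite (S : Subgroup (C.map π))
      rw [← Nat.card_congr e, Nat.card_eq_fintype_card, Fintype.card_subtype_compl,
        Fintype.card_subtype_eq, ← Nat.card_eq_fintype_card, S.card_eq_multiplicity, hcbd z hzZ]
    let act : MulAction (P : Subgroup G) T :=
      { smul := fun g v => ⟨π g * v.1 * (π g)⁻¹, by
          obtain ⟨d, hd, he⟩ := v.2.1
          refine ⟨(g : G) * d * (g : G)⁻¹, hnorm g g.2 d hd, ?_⟩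
          rw [map_mul, map_mul, map_inv, he], fun hv => v.2.2.1 (conj_eq_one_iff.1 hv), by
          obtain ⟨j, hj⟩ := v.2.2.2
          exact ⟨j, by rw [show π g * v.1 * (π g)⁻¹ = MulAut.conj (π g) v.1 from rfl, MulEquiv.orderOf_eq, hj]⟩⟩
        one_smul := fun v => Subtype.ext (by
          show π ((1 : (P : Subgroup G)) : G) * v.1 * _⁻¹ = v.1
          simp)
        mul_smul := fun a b v => Subtype.ext (by
          show π ((a * b : (P : Subgroup G)) : G) * v.1 * _⁻¹ = π a * (π b * v.1 * (π b)⁻¹) * (π a)⁻¹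
          rw [Subgroup.coe_mul, map_mul]; group) }
    letI := act
    have hstab : ∀ v : T, MulAction.stabilizer (P : Subgroup G) v = C.subgroupOf (P : Subgroup G) := by
      intro v
      obtain ⟨d, hd, he⟩ := v.2.1
      ext g
      rw [MulAction.mem_stabilizer_iff, Subgroup.mem_subgroupOf]
      constructor
      · intro hg
        have h1 : π g * v.1 * (π g)⁻¹ = v.1 := congrArg Subtype.val hg
        rw [mul_inv_eq_iff_eq_mul, ← he, ← map_mul, ← map_mul] at h1
        have h2 : (d * g)⁻¹ * ((g : G) * d) ∈ Z := QuotientGroup.eq.1 h1.symm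
        set ζ := (d * (g : G))⁻¹ * ((g : G) * d) with hζ
        have hcζ := Subgroup.mem_center_iff.1 h2
        obtain ⟨j, hj⟩ := v.2.2.2
        -- a representative of `s`-power order
        obtain ⟨e, f, hf, hef⟩ := Nat.exists_eq_pow_mul_and_not_dvd (orderOf_pos d).ne' s hs.ne_one
        have hf0 : f ≠ 0 := fun h0 => hf (h0 ▸ dvd_zero s)
        have hd' : d ^ f ∉ Z := by
          intro hdz
          have h5 : v.1 ^ f = 1 := by rw [← he, ← map_pow]; exact (QuotientGroup.eq_one_iff _).2 hdz
          have h6 := orderOf_dvd_of_pow_eq_one h5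
          rw [hj] at h6
          rcases Nat.eq_zero_or_pos j with hj0 | hj0
          · exact v.2.2.1 (orderOf_eq_one_iff.1 (by rw [hj, hj0, pow_zero]))
          · exact hf ((dvd_pow_self s hj0.ne').trans h6)
        have hord : orderOf (d ^ f) = s ^ e := by
          rw [orderOf_pow_of_dvd hf0 (hef ▸ dvd_mul_left f _), hef, Nat.mul_div_cancel _ (Nat.pos_of_ne_zero hf0)]
        have h7 : (g : G) * d * (g : G)⁻¹ = d * ζ := by
          calc (g : G) * d * (g : G)⁻¹ = d * g * ζ * (g : G)⁻¹ := by
                rw [hζ, mul_inv_cancel_left]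
            _ = d * ((g : G) * ζ * (g : G)⁻¹) := by group
            _ = d * ζ := by rw [hcζ g, mul_inv_cancel_right]
        have h8 : (g : G) * d ^ f * (g : G)⁻¹ = d ^ f * ζ ^ f := by
          rw [← conj_pow, h7, (show Commute d ζ from hcζ d).mul_pow]
        obtain ⟨i, hi⟩ := IsPGroup.iff_orderOf.1 P.isPGroup' g
        have h9 : ∀ m : ℕ, (g : G) ^ m * d ^ f * ((g : G) ^ m)⁻¹ = d ^ f * (ζ ^ f) ^ m := by
          intro m
          induction m with
          | zero => simp
          | succ m ihm =>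
            calc (g : G) ^ (m + 1) * d ^ f * ((g : G) ^ (m + 1))⁻¹
                = (g : G) * ((g : G) ^ m * d ^ f * ((g : G) ^ m)⁻¹) * (g : G)⁻¹ := by group
              _ = (g : G) * (d ^ f * (ζ ^ f) ^ m) * (g : G)⁻¹ := by rw [ihm]
              _ = ((g : G) * d ^ f * (g : G)⁻¹) * ((g : G) * (ζ ^ f) ^ m * (g : G)⁻¹) := by group
              _ = d ^ f * (ζ ^ f) ^ (m + 1) := by
                rw [h8, Subgroup.mem_center_iff.1 (pow_mem (pow_mem h2 f) m) (g : G), mul_inv_cancel_right,
                  mul_assoc, ← pow_succ']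
        have h10 : (ζ ^ f) ^ r ^ i = 1 := by
          have := h9 (r ^ i)
          rw [← hi, ← Subgroup.orderOf_coe, pow_orderOf_eq_one, one_mul, inv_one, mul_one] at this
          rw [← hi, ← Subgroup.orderOf_coe]
          exact left_eq_mul.1 this
        have h11 : (ζ ^ f) ^ s ^ e = 1 := by
          have h12 := congrArg (· ^ s ^ e) h8
          rw [(show Commute (d ^ f) (ζ ^ f) from Subgroup.mem_center_iff.1 (pow_mem h2 f) _).mul_pow,
            conj_pow, ← hord, pow_orderOf_eq_one, mul_one, mul_inv_cancel, one_mul, hord] at h12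
          exact h12.symm
        have h13 : ζ ^ f = 1 := orderOf_eq_one_iff.1 (Nat.eq_one_of_dvd_coprimes
          (((Nat.coprime_primes hr hs).2 hrs).pow _ _) (orderOf_dvd_of_pow_eq_one h10)
          (orderOf_dvd_of_pow_eq_one h11))
        rw [h13, mul_one] at h8
        show (g : G) ∈ Subgroup.centralizer ({z} : Set G)
        rw [hcent z hzZ (d ^ f) (pow_mem hd f) hd']
        exact Subgroup.mem_centralizer_singleton_iff.2 (mul_inv_eq_iff_eq_mul.1 h8)
      · intro hg
        refine Subtype.ext ?_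
        show π g * v.1 * (π g)⁻¹ = v.1
        rw [← he, ← map_inv, ← map_mul, ← map_mul, hcomm hzZ hg hd, mul_inv_cancel_right]
    have hdvd : r ^ n.factorization r ∣ Nat.card T := by
      letI := Fintype.ofFinite (MulAction.orbitRel.Quotient (P : Subgroup G) T)
      rw [hrel, Nat.card_congr (MulAction.selfEquivSigmaOrbits (P : Subgroup G) T), Nat.card_sigma]
      refine Finset.dvd_sum fun o _ => ?_
      have h14 : Nat.card (MulAction.orbit (P : Subgroup G) o.out) = (MulAction.stabilizer (P : Subgroup G) o.out).index :=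
        (MulAction.index_stabilizer _ _).symm
      rw [hstab o.out] at h14
      exact dvd_of_eq h14.symm
    rw [hTcard] at hdvd
    have hs1 := hpos s hs hsN
    have := Nat.le_of_dvd (by omega) hdvd
    omega
  -- conclude
  have hn0 : n ≠ 0 := by omega
  obtain ⟨r₁, hr₁, hmax⟩ := Finset.exists_max_image (insert p (insert q n.primeFactors))
    (fun r => r ^ n.factorization r) ⟨p, Finset.mem_insert_self _ _⟩
  set B := insert p (insert q n.primeFactors) with hB
  have hBprop : ∀ r ∈ B, r.Prime ∧ NC G r := by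
    intro r hr
    simp only [hB, Finset.mem_insert] at hr
    rcases hr with rfl | rfl | hr
    · exact ⟨hp, hpN⟩
    · exact ⟨hq, hqN⟩
    · exact ⟨Nat.prime_of_mem_primeFactors hr, hNC r (Nat.prime_of_mem_primeFactors hr) (Nat.dvd_of_mem_primeFactors hr)⟩
  obtain ⟨r₂, hr₂, h12⟩ : ∃ r₂ ∈ B, r₂ ≠ r₁ := by
    by_cases h1 : r₁ = p
    · exact ⟨q, by simp [hB], h1 ▸ Ne.symm hpq⟩
    · exact ⟨p, by simp [hB], Ne.symm h1⟩
  have hltB : ∀ r ∈ B, r ^ n.factorization r < (Equiv.swap r₁ r₂ r) ^ cb.factorization (Equiv.swap r₁ r₂ r) := by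
    intro r hr
    by_cases h1 : r = r₁
    · subst h1
      rw [Equiv.swap_apply_left]
      exact hlt r r₂ (hBprop r hr).1 (hBprop r₂ hr₂).1 h12.symm (hBprop r hr).2 (hBprop r₂ hr₂).2
    by_cases h2 : r = r₂
    · subst h2
      rw [Equiv.swap_apply_right]
      exact hlt r r₁ (hBprop r hr).1 (hBprop r₁ hr₁).1 h12 (hBprop r hr).2 (hBprop r₁ hr₁).2
    rw [Equiv.swap_apply_of_ne_of_ne h1 h2]
    exact lt_of_le_of_lt (hmax r hr)
      (hlt r₁ r (hBprop r₁ hr₁).1 (hBprop r hr).1 (Ne.symm h1) (hBprop r₁ hr₁).2 (hBprop r hr).2)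
  have hprod : ∏ r ∈ B, r ^ n.factorization r < ∏ r ∈ B, r ^ cb.factorization r := by
    rw [← Finset.prod_nbij' (Equiv.swap r₁ r₂) (Equiv.swap r₁ r₂)
      (s := B) (t := B) (f := fun r => (Equiv.swap r₁ r₂ r) ^ cb.factorization (Equiv.swap r₁ r₂ r))
      (g := fun r => r ^ cb.factorization r)
      (fun r hr => ?_) (fun r hr => ?_) (fun r _ => Equiv.swap_apply_self _ _ _)
      (fun r _ => Equiv.swap_apply_self _ _ _) (fun r _ => rfl)]
    · exact Finset.prod_lt_prod_of_nonempty (fun r hr => pow_pos (hBprop r hr).1.pos _) hltB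
        ⟨p, Finset.mem_insert_self _ _⟩
    all_goals
      by_cases h1 : r = r₁
      · subst h1; rwa [Equiv.swap_apply_left]
      by_cases h2 : r = r₂
      · subst h2; rwa [Equiv.swap_apply_right]
      rwa [Equiv.swap_apply_of_ne_of_ne h1 h2]
  have hL : ∏ r ∈ B, r ^ n.factorization r = n := by
    conv_rhs => rw [Nat.prod_primeFactors_pow_factorization hn0]
    refine (Finset.prod_subset (fun r hr => ?_) fun r hr hr' => ?_).symm
    · simp [hB, hr]
    · rw [Nat.factorization_eq_zero_of_not_dvd (fun hd => hr' (Nat.mem_primeFactors.2 ⟨(hBprop r hr).1, hd, hn0⟩)),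
        pow_zero]
  have hR : ∏ r ∈ B, r ^ cb.factorization r ∣ cb := by
    conv_rhs => rw [Nat.prod_primeFactors_pow_factorization (n := cb) (by omega)]
    refine (dvd_of_eq ?_).trans (Finset.prod_dvd_prod_of_subset (B.filter (fun r => r ∣ cb)) _ _ fun r hr => ?_)
    · refine (Finset.prod_subset (Finset.filter_subset _ _) fun r hr hr' => ?_).symm
      rw [Nat.factorization_eq_zero_of_not_dvd (fun hd => hr' (Finset.mem_filter.2 ⟨hr, hd⟩)), pow_zero]
    · rw [Finset.mem_filter] at hr
      exact Nat.mem_primeFactors.2 ⟨(hBprop r hr.1).1, hr.2, by omega⟩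
  have := Nat.le_of_dvd (by omega) hR
  omega

theorem main (hn : 1 < n)
    (h : ∀ x : G, (Subgroup.centralizer ({x} : Set G)).index = 1 ∨ (Subgroup.centralizer ({x} : Set G)).index = n)
    (hex : ∃ x : G, (Subgroup.centralizer ({x} : Set G)).index = n) :
    ∃ (p : ℕ) (_ : Fact p.Prime) (a : ℕ), n = p ^ a ∧ ∀ P : Sylow p G, (P : Subgroup G).Normal ∧
      (∃ N : Subgroup G, N.Normal ∧ N.IsComplement' (P : Subgroup G) ∧ IsMulCommutative N ∧
        ∀ x ∈ N, ∀ y ∈ (P : Subgroup G), x * y = y * x) ∧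
      ∃ A : Subgroup (P : Subgroup G), A.Normal ∧ IsMulCommutative A ∧ ∀ y : (P : Subgroup G), y ^ p ∈ A := by
  have h2 : TwoSizes G n := fun x hx => (h x).resolve_left fun h1 => hx (by
    rw [Subgroup.index_eq_one, Subgroup.centralizer_eq_top_iff_subset, Set.singleton_subset_iff] at h1
    exact h1)
  obtain ⟨x, hx⟩ := hex
  have hxZ : x ∉ Subgroup.center G := fun hc => by
    have h3 : Subgroup.centralizer ({x} : Set G) = ⊤ :=
      Subgroup.centralizer_eq_top_iff_subset.2 (Set.singleton_subset_iff.2 hc)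
    rw [h3, Subgroup.index_top] at hx
    omega
  obtain ⟨p, hp, hpN⟩ : ∃ p, p.Prime ∧ NC G p := by
    by_contra hcon
    push Not at hcon
    refine hxZ (le_of_primePow (H := (⊤ : Subgroup G)) (fun r hr y _ hy => ?_) (Subgroup.mem_top x))
    by_contra hyZ
    exact hcon r hr ⟨y, hy, hyZ⟩
  haveI := Fact.mk hp
  have hcentral : ∀ r, r.Prime → r ≠ p → ∀ y : G, (∃ k, orderOf y = r ^ k) → y ∈ Subgroup.center G := by
    intro r hr hrp y hy
    by_contra hyZ
    exact hrp (nc_unique h2 hn hr hp ⟨y, hy, hyZ⟩ hpN)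
  have honly : ∀ r, r.Prime → r ∣ (Subgroup.center G).index → r = p := by
    intro r hr hrd
    by_contra hrp
    haveI := Fact.mk hr
    obtain ⟨R⟩ := (inferInstance : Nonempty (Sylow r G))
    exact R.not_dvd_index (hrd.trans (Subgroup.index_dvd_of_le fun y hy => by
      obtain ⟨k, hk⟩ := IsPGroup.iff_orderOf.1 R.isPGroup' ⟨y, hy⟩
      exact hcentral r hr hrp y ⟨k, by rwa [Subgroup.orderOf_mk] at hk⟩))
  obtain ⟨a, ha⟩ : ∃ a, (Subgroup.center G).index = p ^ a :=
    ⟨_, Nat.eq_prime_pow_of_unique_prime_dvd Subgroup.index_ne_zero_of_finite fun hd hdd => honly _ hd hdd⟩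
  obtain ⟨b, -, hb⟩ := (Nat.dvd_prime_pow hp).1 (ha ▸ hx ▸
    Subgroup.index_dvd_of_le (Subgroup.center_le_centralizer ({x} : Set G)))
  refine ⟨p, ⟨hp⟩, b, hb, fun P => ?_⟩
  have hsup : (P : Subgroup G) ⊔ Subgroup.center G = ⊤ := by
    rw [← Subgroup.index_eq_one]
    refine Nat.eq_one_of_dvd_coprimes ((hp.coprime_iff_not_dvd.2 P.not_dvd_index).pow_left a) ?_
      (Subgroup.index_dvd_of_le le_sup_left)
    exact ha ▸ Subgroup.index_dvd_of_le le_sup_right
  have hPn : (P : Subgroup G).Normal := by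
    rw [← Subgroup.normalizer_eq_top_iff, eq_top_iff, ← hsup]
    exact sup_le Subgroup.le_normalizer ((Subgroup.center_le_centralizer _).trans
      (Subgroup.centralizer_le_normalizer _))
  refine ⟨hPn, ?_, ?_⟩
  · let N : Subgroup G :=
      { carrier := {y | y ∈ Subgroup.center G ∧ ¬ p ∣ orderOf y}
        one_mem' := ⟨one_mem _, by rw [orderOf_one]; exact hp.not_dvd_one⟩
        mul_mem' := fun {u v} hu hv => ⟨mul_mem hu.1 hv.1, fun hd => by
          have hc : Commute u v := Subgroup.mem_center_iff.1 hv.1 u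
          rcases hp.dvd_mul.1 (hd.trans hc.orderOf_mul_dvd_mul_orderOf) with h1 | h1
          exacts [hu.2 h1, hv.2 h1]⟩
        inv_mem' := fun {u} hu => ⟨inv_mem hu.1, by rw [orderOf_inv]; exact hu.2⟩ }
    have hNn : N.Normal := ⟨fun y hy g => by
      rw [Subgroup.mem_center_iff.1 hy.1 g, mul_inv_cancel_right]; exact hy⟩
    refine ⟨N, hNn, ?_, .of_setLike_mul_comm fun u hu v hv => Subgroup.mem_center_iff.1 hv.1 u,
      fun u hu v _ => (Subgroup.mem_center_iff.1 hu.1 v).symm⟩
    haveI := hPn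
    refine Subgroup.isComplement'_of_disjoint_and_mul_eq_univ ?_ ?_
    · rw [Subgroup.disjoint_def]
      intro y hyN hyP
      obtain ⟨k, hk⟩ := IsPGroup.iff_orderOf.1 P.isPGroup' ⟨y, hyP⟩
      rw [Subgroup.orderOf_mk] at hk
      rcases Nat.eq_zero_or_pos k with rfl | hk0
      · exact orderOf_eq_one_iff.1 (hk.trans (pow_zero p))
      · exact absurd (hk ▸ dvd_pow_self p hk0.ne') hyN.2
    · rw [← Subgroup.mul_normal, Subgroup.coe_eq_univ, eq_top_iff]
      refine le_of_primePow fun r hr y _ ⟨k, hk⟩ => ?_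
      by_cases hrp : r = p
      · refine Subgroup.mem_sup_right ?_
        have hz : IsPGroup p (Subgroup.zpowers y) := IsPGroup.of_card (n := k) (by rw [Nat.card_zpowers, hk, hrp])
        exact (P.is_maximal' (hz.to_sup_of_normal_right P.isPGroup') le_sup_right).le
          (Subgroup.mem_sup_left (Subgroup.mem_zpowers y))
      · refine Subgroup.mem_sup_left ⟨hcentral r hr hrp y ⟨k, hk⟩, ?_⟩
        rw [hk]
        exact fun hd => hrp ((Nat.prime_dvd_prime_iff_eq hp hr).1 (hp.dvd_of_dvd_pow hd)).symm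
  · set Z := Subgroup.center G
    haveI : Nontrivial (G ⧸ Z) := by
      rw [← Finite.one_lt_card_iff_nontrivial, ← Subgroup.index_eq_card]
      exact (Nat.one_lt_iff_ne_zero_and_ne_one).2 ⟨Subgroup.index_ne_zero_of_finite,
        fun h1 => hxZ (Subgroup.index_eq_one.1 h1 ▸ Subgroup.mem_top x)⟩
    have hGp : IsPGroup p (G ⧸ Z) := IsPGroup.of_card (n := a) (by rw [← Subgroup.index_eq_card, ha])
    haveI := hGp.center_nontrivial
    obtain ⟨i, hi⟩ := IsPGroup.iff_card.1 (hGp.to_subgroup (Subgroup.center (G ⧸ Z)))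
    have hi0 : i ≠ 0 := fun h0 => by
      have := Finite.one_lt_card (α := Subgroup.center (G ⧸ Z)); rw [hi, h0, pow_zero] at this; omega
    obtain ⟨zb, hzb⟩ := exists_prime_orderOf_dvd_card' (G := Subgroup.center (G ⧸ Z)) p
      (hi ▸ dvd_pow_self p hi0)
    rw [← Subgroup.orderOf_coe] at hzb
    obtain ⟨z, hz⟩ := QuotientGroup.mk'_surjective Z (zb : G ⧸ Z)
    have hzZ : z ∉ Z := fun hc => by
      rw [← hz, QuotientGroup.mk'_apply, (QuotientGroup.eq_one_iff z).2 hc, orderOf_one] at hzb
      exact hp.ne_one hzb.symm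
    set C := Subgroup.centralizer ({z} : Set G) with hC
    set A := Subgroup.centralizer (C : Set G) with hA
    have hAC : A ≤ C := fun u hu => Subgroup.mem_centralizer_singleton_iff.2
      (Subgroup.mem_centralizer_iff.1 hu z (Subgroup.mem_centralizer_singleton_iff.2 rfl)).symm
    have hzg : ∀ g : G, ∃ ζ ∈ Z, g * z * g⁻¹ = z * ζ := by
      intro g
      refine ⟨z⁻¹ * (g * z * g⁻¹), ?_, (mul_inv_cancel_left _ _).symm⟩
      refine QuotientGroup.eq.1 ?_
      rw [QuotientGroup.mk_mul, QuotientGroup.mk_mul, QuotientGroup.mk_inv]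
      have h1 := Subgroup.mem_center_iff.1 zb.2 (g : G ⧸ Z)
      rw [← hz] at h1
      change (g : G ⧸ Z) * (z : G ⧸ Z) = (z : G ⧸ Z) * (g : G ⧸ Z) at h1
      rw [h1, mul_inv_cancel_right]
    have hconjC : ∀ g c, c ∈ C → g * c * g⁻¹ ∈ C := by
      intro g c hc
      obtain ⟨ζ, hζ, hgz⟩ := hzg g⁻¹
      rw [inv_inv] at hgz
      rw [hC, Subgroup.mem_centralizer_singleton_iff] at hc ⊢
      have h3 : c * (g⁻¹ * z * g) = g⁻¹ * z * g * c := by
        rw [hgz, ← mul_assoc, hc, mul_assoc, Subgroup.mem_center_iff.1 hζ c, mul_assoc]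
      calc g * c * g⁻¹ * z = g * (c * (g⁻¹ * z * g)) * g⁻¹ := by group
        _ = g * (g⁻¹ * z * g * c) * g⁻¹ := by rw [h3]
        _ = z * (g * c * g⁻¹) := by group
    have hAn : A.Normal := ⟨fun u hu g => by
      rw [hA, Subgroup.mem_centralizer_iff] at hu ⊢
      intro c hc
      have h4 := hu (g⁻¹ * c * g) (by simpa using hconjC g⁻¹ c hc)
      calc c * (g * u * g⁻¹) = g * (g⁻¹ * c * g * u) * g⁻¹ := by group
        _ = g * (u * (g⁻¹ * c * g)) * g⁻¹ := by rw [h4]
        _ = g * u * g⁻¹ * c := by group⟩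
    haveI := hAn
    refine ⟨A.subgroupOf (P : Subgroup G), inferInstance, ⟨⟨fun u v => ?_⟩⟩, fun y => ?_⟩
    · refine Subtype.ext (Subtype.ext ?_)
      exact (Subgroup.mem_centralizer_iff.1 u.2 _ (hAC v.2)).symm
    · rw [Subgroup.mem_subgroupOf, Subgroup.coe_pow]
      by_cases hyp : (y : G) ^ p ∈ Z
      · exact Subgroup.center_le_centralizer _ hyp
      · refine pow_mem ?_ p
        set w : G := (y : G) with hw
        have hwZ : w ∉ Z := fun hc => hyp (pow_mem hc p)
        have hzp : z ^ p ∈ Z := by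
          rw [← QuotientGroup.eq_one_iff, QuotientGroup.mk_pow,
            show (z : G ⧸ Z) = (zb : G ⧸ Z) from hz, ← hzb, pow_orderOf_eq_one]
        have hmod : ((z * w) ^ p)⁻¹ * w ^ p ∈ Z := by
          refine QuotientGroup.eq.1 ?_
          rw [QuotientGroup.mk_pow, QuotientGroup.mk_mul, QuotientGroup.mk_pow]
          have hc : Commute (z : G ⧸ Z) (w : G ⧸ Z) := by
            rw [show (z : G ⧸ Z) = (zb : G ⧸ Z) from hz]
            exact (Subgroup.mem_center_iff.1 zb.2 _).symm
          rw [hc.mul_pow, ← QuotientGroup.mk_pow Z z, (QuotientGroup.eq_one_iff _).2 hzp, one_mul]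
        have hzwp : (z * w) ^ p ∉ Z := fun hc => hyp (by
          have := mul_mem hc hmod; rwa [mul_inv_cancel_left] at this)
        have hzwZ : z * w ∉ Z := fun hc => hzwp (pow_mem hc p)
        have e1 := cent_eq h2 hwZ hyp (centralizer_inf_le (b := w) (pow_mem (Subgroup.mem_zpowers w) p))
        have e2 := cent_eq h2 hzwZ hzwp (centralizer_inf_le (b := w) (pow_mem (Subgroup.mem_zpowers (z * w)) p))
        have e3 : Subgroup.centralizer ({(z * w) ^ p} : Set G) ≤ Subgroup.centralizer ({w ^ p} : Set G) := by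
          intro u hu
          rw [Subgroup.mem_centralizer_singleton_iff] at hu ⊢
          have h5 : w ^ p = (z * w) ^ p * (((z * w) ^ p)⁻¹ * w ^ p) := (mul_inv_cancel_left _ _).symm
          have h6 := Subgroup.mem_center_iff.1 hmod u
          generalize ((z * w) ^ p)⁻¹ * w ^ p = ζ at h5 h6
          rw [h5, ← mul_assoc, hu, mul_assoc, h6, ← mul_assoc]
        have e4 := cent_eq h2 hzwp hyp e3
        have hCw : Subgroup.centralizer ({w} : Set G) ≤ C := by
          intro u hu
          have hu' : u ∈ Subgroup.centralizer ({z * w} : Set G) := by rwa [e2, e4, ← e1]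
          rw [Subgroup.mem_centralizer_singleton_iff] at hu hu'
          rw [hC, Subgroup.mem_centralizer_singleton_iff]
          calc u * z = u * (z * w) * w⁻¹ := by group
            _ = z * w * u * w⁻¹ := by rw [hu']
            _ = z * (u * w) * w⁻¹ := by rw [hu]; group
            _ = z * u := by group
        have e5 := cent_eq h2 hwZ hzZ hCw
        refine Subgroup.mem_centralizer_iff.2 fun c hc => ?_
        have hc' : c ∈ Subgroup.centralizer ({w} : Set G) := by rw [e5]; exact hc
        exact Subgroup.mem_centralizer_singleton_iff.1 hc'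

end Cfsg.Agent.S4134


set_option autoImplicit false
open Cfsg

namespace Cfsg.Agent.S4134

/-- Let G be a finite group whose conjugacy classes have exactly two sizes, 1 and n > 1. Then n is a power of a prime p and G is the direct product of a p-group and an abelian group of order prime to p: its Sylow p-subgroup P is normal with an abelian normal complement centralizing it; moreover P has an abelian normal subgroup A with P/A of exponent dividing p. -/
theorem result {G : Type*} [Group G] [Finite G] (n : ℕ) (hn : 1 < n)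
    (h : ∀ x : G, (Subgroup.centralizer ({x} : Set G)).index = 1 ∨ (Subgroup.centralizer ({x} : Set G)).index = n) (hex : ∃ x : G, (Subgroup.centralizer ({x} : Set G)).index = n) :
    ∃ (p : ℕ) (_ : Fact p.Prime) (a : ℕ), n = p ^ a ∧ ∀ P : Sylow p G, (P : Subgroup G).Normal ∧
      (∃ N : Subgroup G, N.Normal ∧ N.IsComplement' (P : Subgroup G) ∧ IsMulCommutative N ∧
        ∀ x ∈ N, ∀ y ∈ (P : Subgroup G), x * y = y * x) ∧
      ∃ A : Subgroup (P : Subgroup G), A.Normal ∧ IsMulCommutative A ∧ ∀ y : (P : Subgroup G), y ^ p ∈ A := by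
  exact S4134.main hn h hex

end Cfsg.Agent.S4134
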