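import Cfsg.Statements.S4037
import Cfsg.Agent.Lib.FiniteGroup.Kazarin

set_option autoImplicit false
open Cfsg

namespace Cfsg.Agent.S4037

/-- If an element x of a finite group G has a conjugacy class of prime-power size, then the normal closure of x in G (the subgroup generated by the conjugacy class of x) is solvable. -/
theorem result {G : Type*} [Group G] [Finite G]
    (x : G) {p : ℕ} (hp : p.Prime) (k : ℕ) (hx : (ConjClasses.mk x).carrier.ncard = p ^ k) :
    Group.IsSolvable ↥(Subgroup.normalClosure ({x} : Set G)) := by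
  haveI : Fact p.Prime := ⟨hp⟩
  have hidx : (Subgroup.centralizer ({x} : Set G)).index = p ^ k := by
    have h1 : (MulAction.orbit (ConjAct G) x).ncard = p ^ k := by
      rw [ConjAct.orbit_eq_carrier_conjClasses]; exact hx
    rw [← MulAction.index_stabilizer] at h1
    have h2 := (MulAction.stabilizer (ConjAct G) x).card_mul_index
    rw [← Subgroup.nat_card_centralizer_nat_card_stabilizer, h1] at h2
    have h3 := (Subgroup.centralizer ({x} : Set G)).card_mul_index
    have h4 : Nat.card (ConjAct G) = Nat.card G := rfl
    rw [h4, ← h3] at h2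
    exact (mul_left_cancel₀ Nat.card_pos.ne' h2).symm
  haveI := Cfsg.Agent.FittingCores.pCore_normal (G := G) p
  set K := Cfsg.pCore p G with hK
  set N := Subgroup.normalClosure ({x} : Set G) with hN
  set f := QuotientGroup.mk' K with hf
  obtain ⟨b, -, hb⟩ := (Nat.dvd_prime_pow hp).1
    (hidx ▸ Cfsg.Agent.Kazarin.index_centralizer_map_dvd f (QuotientGroup.mk'_surjective _) x)
  have hc := Cfsg.Agent.Kazarin.normalClosure_commutative
    (Cfsg.Agent.PBasic.pCore_quotient_pCore p G) (f x) hb
  have him : ∀ n : N, f n ∈ Subgroup.normalClosure ({f x} : Set (G ⧸ K)) := fun n =>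
    (Subgroup.normalClosure_le_normal (N := (Subgroup.normalClosure ({f x} : Set (G ⧸ K))).comap f)
      (Set.singleton_subset_iff.mpr (Subgroup.subset_normalClosure (Set.mem_singleton _)))) n.2
  let g := (f.comp N.subtype).rangeRestrict
  haveI : Group.IsSolvable (f.comp N.subtype).range := Group.isSolvable_of_comm fun a b => by
    obtain ⟨⟨_, u, rfl⟩, ⟨_, v, rfl⟩⟩ := a, b
    exact Subtype.ext (Subgroup.mem_centralizer_iff.1 (hc (him v)) _ (him u))
  haveI : Group.IsNilpotent K := (Cfsg.Agent.PBasic.pCore_isPGroup p G).isNilpotent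
  haveI : Group.IsSolvable K := inferInstance
  haveI : Group.IsSolvable (K.subgroupOf N) :=
    Group.isSolvable_of_isSolvable_injective (f := N.subtype.subgroupComap K)
      (fun a b h => Subtype.ext (Subtype.ext (congrArg (fun z : K => (z : G)) h)))
  refine Group.isSolvable_of_ker_le_range (K.subgroupOf N).subtype g fun n hn => ?_
  rw [Subgroup.range_subtype, Subgroup.mem_subgroupOf]
  have h1 : f n = 1 := congrArg Subtype.val (MonoidHom.mem_ker.mp hn)
  exact (QuotientGroup.eq_one_iff _).mp h1

end Cfsg.Agent.S4037
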