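import Cfsg.Statements.S4035
import Cfsg.Agent.Lib.FGStruct.Counting
import Mathlib.GroupTheory.SchurZassenhaus

set_option autoImplicit false
set_option linter.style.haveILetI false

set_option autoImplicit false
open Cfsg

namespace Cfsg.Agent.S4035

/-- Let G be a finite group and p a prime such that p divides the size of no conjugacy class of p-regular elements (elements of order prime to p). Then G is the internal direct product of a Sylow p-subgroup P and a normal subgroup H of order prime to p: P is normal, P ⊓ H = 1 and PH = G. -/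
theorem result {G : Type*} [Group G] [Finite G] {p : ℕ} [Fact p.Prime]
    (h : ∀ x : G, (orderOf x).Coprime p → ¬ p ∣ (ConjClasses.mk x).carrier.ncard) (P : Sylow p G) :
    (P : Subgroup G).Normal ∧ ∃ H : Subgroup G, H.Normal ∧ ¬ p ∣ Nat.card H ∧
      (P : Subgroup G) ⊓ H = ⊥ ∧ (P : Subgroup G) ⊔ H = ⊤ := by
  classical
  have hp : p.Prime := Fact.out
  -- every element is conjugate into `P ⊔ C(P)`
  set S : Subgroup G := (P : Subgroup G) ⊔ Subgroup.centralizer ((P : Subgroup G) : Set G) with hS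
  have hcover : ∀ g : G, ∃ y : G, y⁻¹ * g * y ∈ S := by
    intro g
    obtain ⟨j, r, hr, ho⟩ := Nat.exists_eq_pow_mul_and_not_dvd (orderOf_pos g).ne' p hp.ne_one
    obtain ⟨c, t, hc⟩ := Cfsg.Agent.Counting.exists_part_exponent
      (P := p ^ (j + 1)) (r := r) (Nat.one_lt_pow (by omega) hp.one_lt)
      ((hp.coprime_iff_not_dvd.2 hr).pow_left _)
    obtain ⟨hu, hv, huv⟩ := Cfsg.Agent.Counting.split (g := g) hc (by
      rw [show p ^ (j + 1) * r = p ^ j * r * p by ring, pow_mul, ← ho, pow_orderOf_eq_one, one_pow])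
    set u := g ^ (r * c)
    set v := g⁻¹ ^ (p ^ (j + 1) * t)
    have hcomm : Commute u v := ((Commute.refl g).inv_right).pow_pow _ _
    have hcop : (orderOf v).Coprime p := (Nat.Coprime.coprime_dvd_left (orderOf_dvd_of_pow_eq_one hv)
      (hp.coprime_iff_not_dvd.2 hr).symm)
    have hcls := h v hcop
    have hmul := Cfsg.Agent.Counting.card_carrier_mul v
    rw [Nat.card_coe_set_eq] at hmul
    set C := Subgroup.centralizer ({v} : Set G)
    have huC : u ∈ C := Cfsg.Agent.Counting.mem_centralizer_singleton.2 hcomm.eq.symm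
    have hpu : IsPGroup p (Subgroup.zpowers (⟨u, huC⟩ : C)) := by
      refine IsPGroup.of_card_dvd_pow (n := j + 1) ?_
      rw [Nat.card_zpowers, Subgroup.orderOf_mk]
      exact orderOf_dvd_of_pow_eq_one hu
    obtain ⟨Q, hQ⟩ := hpu.exists_le_sylow
    have hcard : Nat.card (Q.1.map C.subtype) = Nat.card (P : Subgroup G) := by
      rw [Subgroup.card_map_of_injective C.subtype_injective, Q.card_eq_multiplicity,
        P.card_eq_multiplicity]
      congr 1
      rw [← hmul, Nat.factorization_mul (by intro h0; exact hcls (h0 ▸ dvd_zero p)) Nat.card_pos.ne',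
        Finsupp.add_apply, Nat.factorization_eq_zero_of_not_dvd hcls, zero_add]
    let Q' : Sylow p G := Sylow.ofCard (Q.1.map C.subtype) (by rw [hcard, P.card_eq_multiplicity])
    obtain ⟨y, hy⟩ := MulAction.exists_smul_eq G P Q'
    have hmem : ∀ z : G, z ∈ Q.1.map C.subtype → y⁻¹ * z * y ∈ (P : Subgroup G) := by
      intro z hz
      have hz' : z ∈ ((y • P : Sylow p G) : Subgroup G) := by rw [hy]; exact hz
      rw [Sylow.coe_subgroup_smul, Subgroup.mem_pointwise_smul_iff_inv_smul_mem] at hz'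
      simpa [MulAut.smul_def, mul_assoc] using hz'
    have hPQ : ∀ x ∈ (P : Subgroup G), y * x * y⁻¹ ∈ C := by
      intro x hx
      have hx' : y * x * y⁻¹ ∈ ((y • P : Sylow p G) : Subgroup G) := by
        rw [Sylow.coe_subgroup_smul, Subgroup.mem_pointwise_smul_iff_inv_smul_mem]
        simpa [MulAut.smul_def, mul_assoc] using hx
      rw [hy] at hx'
      obtain ⟨w, -, hw⟩ := Subgroup.mem_map.1 (show y * x * y⁻¹ ∈ Q.1.map C.subtype from hx')
      exact hw ▸ w.2
    refine ⟨y, ?_⟩
    rw [← huv, show y⁻¹ * (u * v) * y = y⁻¹ * u * y * (y⁻¹ * v * y) by group]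
    refine S.mul_mem (Subgroup.mem_sup_left (hmem u ?_)) (Subgroup.mem_sup_right ?_)
    · exact Subgroup.mem_map.2 ⟨⟨u, huC⟩, hQ (Subgroup.mem_zpowers _), rfl⟩
    · rw [Subgroup.mem_centralizer_iff]
      intro x hx
      have h1 := Cfsg.Agent.Counting.mem_centralizer_singleton.1 (hPQ x hx)
      calc x * (y⁻¹ * v * y) = y⁻¹ * ((y * x * y⁻¹) * v) * y := by group
        _ = y⁻¹ * (v * (y * x * y⁻¹)) * y := by rw [h1]
        _ = y⁻¹ * v * y * x := by group
  have htop : S = ⊤ := Cfsg.Agent.Counting.eq_top_of_conj_cover S hcover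
  have hnorm : (P : Subgroup G).Normal := by
    rw [← Subgroup.normalizer_eq_top_iff, eq_top_iff, ← htop]
    exact sup_le Subgroup.le_normalizer (Subgroup.centralizer_le_normalizer _)
  haveI := hnorm
  refine ⟨hnorm, ?_⟩
  have hcopP : Nat.Coprime (Nat.card (P : Subgroup G)) (P : Subgroup G).index := by
    obtain ⟨n, hn⟩ := IsPGroup.iff_card.1 P.isPGroup'
    rw [hn]
    exact (hp.coprime_iff_not_dvd.2 (Sylow.not_dvd_index P)).pow_left _
  obtain ⟨H, hH⟩ := Subgroup.exists_right_complement'_of_coprime hcopP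
  have hHcard : Nat.card H = (P : Subgroup G).index := hH.symm.index_eq_card.symm
  have hHC : H ≤ Subgroup.centralizer ((P : Subgroup G) : Set G) := by
    intro k hk
    have hk' : k ∈ S := htop ▸ Subgroup.mem_top k
    obtain ⟨u, hu, c, hc, rfl⟩ := Subgroup.mem_sup_of_normal_left.1 hk'
    obtain ⟨n, hn⟩ := P.isPGroup' ⟨u, hu⟩
    have hn' : u ^ p ^ n = 1 := by simpa using congrArg Subtype.val hn
    have hco : Nat.Coprime (p ^ n) (orderOf (u * c)) := by
      refine (hp.coprime_iff_not_dvd.2 fun hd => Sylow.not_dvd_index P ?_).pow_left n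
      rw [← hHcard]
      exact hd.trans ((Subgroup.orderOf_mk (u * c) hk) ▸ orderOf_dvd_natCard (⟨u * c, hk⟩ : H))
    have hpow : (u * c) ^ p ^ n ∈ Subgroup.centralizer ((P : Subgroup G) : Set G) := by
      rw [(show Commute u c from Subgroup.mem_centralizer_iff.1 hc u hu).mul_pow, hn', one_mul]
      exact Subgroup.pow_mem _ hc _
    obtain ⟨m, hm⟩ := exists_pow_eq_self_of_coprime hco
    rw [← hm]
    exact Subgroup.pow_mem _ hpow m
  refine ⟨H, ?_, ?_, hH.disjoint.eq_bot, hH.sup_eq_top⟩
  · rw [← Subgroup.normalizer_eq_top_iff, eq_top_iff, ← hH.sup_eq_top]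
    refine sup_le (fun x hx => ?_) Subgroup.le_normalizer
    refine Subgroup.centralizer_le_normalizer _ ?_
    rw [Subgroup.mem_centralizer_iff]
    intro k hk
    exact (Subgroup.mem_centralizer_iff.1 (hHC hk) x hx).symm
  · rw [hHcard]
    exact Sylow.not_dvd_index P

end Cfsg.Agent.S4035
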