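import Cfsg.Statements.S0802
import Cfsg.Agent.Lib.Classical.PSL2Subfield

set_option autoImplicit false
open Cfsg

namespace Cfsg.Agent.S0802

/-- PSL_2(p^n) has a subgroup isomorphic to A_4 if and only if it is not the case that p = 2 and n is odd. -/
theorem result {F : Type*} [Field F] [Fintype F] (p n : ℕ) [Fact p.Prime] [CharP F p] (hF : Fintype.card F = p ^ n) : (∃ H : Subgroup (Matrix.ProjectiveSpecialLinearGroup (Fin 2) F), Nonempty (H ≃* alternatingGroup (Fin 4))) ↔ ¬ (p = 2 ∧ Odd n) := by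
  have hN : Nat.card F = p ^ n := by rw [Nat.card_eq_fintype_card, hF]
  have hn : n ≠ 0 := by
    rintro rfl
    exact Fintype.one_lt_card.ne' (hF.trans (pow_zero p))
  by_cases hp : p = 2
  · subst hp
    have hbij : Function.Bijective
        (PSL2Inv.pr : Matrix.SpecialLinearGroup (Fin 2) F →* _) := by
      refine ⟨(injective_iff_map_eq_one _).2 fun x hx => ?_, PSL2Inv.pr_surjective⟩
      have : x ∈ Subgroup.center (Matrix.SpecialLinearGroup (Fin 2) F) :=
        (QuotientGroup.eq_one_iff x).1 hx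
      rwa [SL2Orders.center_eq_bot, Subgroup.mem_bot] at this
    let e := MulEquiv.ofBijective _ hbij
    simp only [true_and]
    constructor
    · rintro ⟨H, ⟨f⟩⟩ hodd
      refine PSL2Field.not_alternating_four (fun h3 => ?_) (H.map e.symm.toMonoidHom)
        ⟨(e.symm.subgroupMap H).symm.trans f⟩
      obtain ⟨k, rfl⟩ := hodd
      rw [hN] at h3
      have h4 : 4 ^ k % 3 = 1 := by rw [Nat.pow_mod]; norm_num
      have hpos : 0 < 4 ^ k := by positivity
      rw [show 2 ^ (2 * k + 1) = 2 * 4 ^ k by rw [pow_succ, pow_mul]; ring] at h3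
      omega
    · intro hodd
      obtain ⟨k, rfl⟩ := Nat.not_odd_iff_even.1 hodd
      have h3 : 3 ∣ Nat.card Fˣ := by
        rw [Nat.card_units, hN, ← two_mul, pow_mul]
        exact Nat.sub_one_dvd_pow_sub_one (2 ^ 2) k
      haveI : Fact (Nat.Prime 3) := ⟨Nat.prime_three⟩
      obtain ⟨u, hu⟩ := exists_prime_orderOf_dvd_card' 3 h3
      have hu3 : (u : F) ^ 3 = 1 := by
        rw [← Units.val_pow_eq_pow_val, ← hu, pow_orderOf_eq_one, Units.val_one]
      have hu1 : (u : F) ≠ 1 := fun h => by
        rw [Units.val_eq_one.1 h, orderOf_one] at hu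
        norm_num at hu
      have hω : (u : F) * u + u + 1 = 0 :=
        (mul_eq_zero.1 (show ((u : F) - 1) * (u * u + u + 1) = 0 by
          linear_combination hu3)).resolve_left (sub_ne_zero.2 hu1)
      obtain ⟨H, ⟨f⟩⟩ := PSL2Field.exists_alternating_four_of_omega hω
      exact ⟨H.map e.toMonoidHom, ⟨(e.subgroupMap H).symm.trans f⟩⟩
  · refine iff_of_true (PSL2Sub.exists_alternating_four (PSL2Sub.two_ne_zero_of_odd ?_))
      (fun h => hp h.1)
    rw [hN]
    exact ((Fact.out : p.Prime).odd_of_ne_two hp).pow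

end Cfsg.Agent.S0802
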