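import Cfsg.Statements.S0803
import Cfsg.Agent.Lib.Classical.PSL2Subgroups

set_option autoImplicit false
open Cfsg

namespace Cfsg.Agent.S0803

/-- PSL_2(q) has a subgroup isomorphic to S_4 iff q² ≡ 1 (mod 16). -/
theorem result {F : Type*} [Field F] [Fintype F] {q : ℕ} (hF : Fintype.card F = q) : (∃ H : Subgroup (Matrix.ProjectiveSpecialLinearGroup (Fin 2) F), Nonempty (H ≃* Equiv.Perm (Fin 4))) ↔ q ^ 2 % 16 = 1 := by
  have hN : Nat.card F = q := by rw [Nat.card_eq_fintype_card, hF]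
  constructor
  · rintro ⟨H, ⟨e⟩⟩
    let x : Matrix.ProjectiveSpecialLinearGroup (Fin 2) F := (e.symm (finRotate 4)).1
    have hx : orderOf x = 4 := by
      rw [Subgroup.orderOf_coe, e.symm.orderOf_eq]
      exact orderOf_eq_prime_pow (p := 2) (n := 1) (hp := ⟨Nat.prime_two⟩) (by decide) (by decide)
    rw [← hN]
    exact PSL2Sub.sq_mod_of_orderOf_four hx
  · intro h
    have h8 := PSL2Sub.mod_eight_of_sq h
    have h2 : (2 : F) ≠ 0 := PSL2Sub.two_ne_zero_of_odd (by
      rw [hN, Nat.odd_iff]; omega)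
    exact PSL2Sub.exists_perm_four h2 ((PSL2Inv.four_dvd_card_C h2).2.2 (by rw [hN]; exact h8))

end Cfsg.Agent.S0803
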