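import Cfsg.Statements.S0804
import Cfsg.Agent.Lib.Classical.IcosahedralRep
import Cfsg.Agent.Lib.Classical.PSL2Subfield
import Cfsg.Agent.S0252

set_option autoImplicit false
open Cfsg

namespace Cfsg.Agent.S0804

/-- PSL_2(q) has a subgroup isomorphic to A_5 iff 5 ∣ q(q² − 1). -/
theorem result {F : Type*} [Field F] [Fintype F] {q : ℕ} (hF : Fintype.card F = q) : (∃ H : Subgroup (Matrix.ProjectiveSpecialLinearGroup (Fin 2) F), Nonempty (H ≃* alternatingGroup (Fin 5))) ↔ 5 ∣ q * (q ^ 2 - 1) := by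
  classical
  have hq : Nat.card F = q := by rw [Nat.card_eq_fintype_card, hF]
  have h60 : Nat.card (alternatingGroup (Fin 5)) = 60 := by
    rw [nat_card_alternatingGroup, Nat.card_fin]; rfl
  have hsl : Nat.card (Matrix.SpecialLinearGroup (Fin 2) F) = q * (q ^ 2 - 1) := by
    rw [SL2Inv.card_sl2, hq, ← one_pow (M := ℕ) 2, Nat.sq_sub_sq, one_pow, mul_comm (q + 1), mul_assoc]
  constructor
  · rintro ⟨H, ⟨e⟩⟩
    rw [← hsl]
    refine (dvd_trans (by rw [Nat.card_congr e.toEquiv, h60]; norm_num) H.card_subgroup_dvd_card).trans ?_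
    exact Subgroup.card_quotient_dvd_card (Subgroup.center _)
  intro h5
  haveI : Fact (Nat.Prime 5) := ⟨Nat.prime_five⟩
  haveI : Fact (Nat.Prime 2) := ⟨Nat.prime_two⟩
  suffices h : ∃ f : alternatingGroup (Fin 5) →* Matrix.ProjectiveSpecialLinearGroup (Fin 2) F,
      Function.Injective f by
    obtain ⟨f, hf⟩ := h
    exact ⟨f.range, ⟨(MonoidHom.ofInjective hf).symm⟩⟩
  obtain ⟨p, hp⟩ := CharP.exists F
  obtain ⟨n, hpp, hn⟩ := FiniteField.card F p
  haveI := Fact.mk hpp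
  have hqp : q = p ^ (n : ℕ) := hF.symm.trans hn
  by_cases hp5 : p = 5
  · subst hp5
    obtain ⟨φ, hφ⟩ := PSL2Field.exists_psl_hom (ZMod.castHom dvd_rfl F)
    obtain ⟨e⟩ := S0253.result (F := ZMod 5) (ZMod.card 5)
    exact ⟨φ.comp e.symm.toMonoidHom, hφ.comp e.symm.injective⟩
  have h5F : (5 : F) ≠ 0 := fun h => hp5
    (((Nat.prime_dvd_prime_iff_eq hpp Nat.prime_five).1 ((CharP.cast_eq_zero_iff F p 5).1 (by exact_mod_cast h))))
  by_cases hp2 : p = 2
  · subst hp2
    have heven : Even (n : ℕ) := by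
      by_contra ho
      obtain ⟨k, hk⟩ := Nat.not_even_iff_odd.1 ho
      rw [hqp, hk] at h5
      have h5q : 5 ∣ (2 ^ (2 * k + 1)) ^ 2 - 1 :=
        ((Nat.Prime.dvd_mul Nat.prime_five).1 h5).resolve_left fun h =>
          absurd ((Nat.prime_dvd_prime_iff_eq Nat.prime_five Nat.prime_two).1 (Nat.prime_five.dvd_of_dvd_pow h))
            (by norm_num)
      have hm : (2 ^ (2 * k + 1)) ^ 2 % 5 = 4 := by
        rw [← pow_mul, show (2 * k + 1) * 2 = 4 * k + 2 by ring, pow_add, pow_mul, Nat.mul_mod, Nat.pow_mod]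
        norm_num
      omega
    obtain ⟨k, hk⟩ := heven
    haveI := Fintype.ofFinite (GaloisField 2 2)
    have h4 : Fintype.card (GaloisField 2 2) = 4 := by
      rw [← Nat.card_eq_fintype_card, GaloisField.card 2 2 two_ne_zero]
      norm_num
    obtain ⟨f⟩ := PSL2Field.exists_ringHom (K := GaloisField 2 2) (F := F) (m := k) (by
      rw [Nat.card_eq_fintype_card, h4, hq, hqp, hk, pow_add, ← mul_pow]; norm_num)
    obtain ⟨φ, hφ⟩ := PSL2Field.exists_psl_hom f
    obtain ⟨e⟩ := S0252.result (F := GaloisField 2 2) h4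
    exact ⟨φ.comp e.symm.toMonoidHom, hφ.comp e.symm.injective⟩
  exact Icosahedral.exists_alternating_five (PStable.two_ne_zero' (p := p) hp2) h5F (hsl ▸ h5)

end Cfsg.Agent.S0804
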