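import Cfsg.Statements.S3803
import Cfsg.Agent.Lib.Solvable.Coprime
import Cfsg.Agent.Lib.LocalEven.Basic
import Mathlib

set_option autoImplicit false
open Cfsg

namespace Cfsg.Agent.S3803

open Cfsg.Agent
open scoped commutatorElement

variable {X : Type*} [Group X] [Finite X]

lemma mem_normalizer_of_conj_mem {K : Subgroup X} {a : X} (h : ∀ k ∈ K, a * k * a⁻¹ ∈ K) :
    a ∈ Subgroup.normalizer (K : Set X) := by
  refine LEBasic.map_conj_eq_iff_mem_normalizer.1 (Subgroup.eq_of_le_of_card_ge ?_ (LEBasic.card_map_conj K a).ge)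
  rintro _ ⟨k, hk, rfl⟩
  exact h k hk

/-- A noncyclic subgroup all of whose maximal subgroups are invariant is centralized. -/
lemma centralize_noncyclic {T : Subgroup X} {a : X} (hT : IsPGroup 2 ↥T) (ha : Odd (orderOf a))
    (hnc : ¬ IsCyclic ↥T)
    (h : ∀ M : Subgroup X, M ≤ T → 2 * Nat.card ↥M = Nat.card ↥T → a ∈ Subgroup.normalizer (M : Set X)) :
    ∀ t ∈ T, a * t = t * a := by
  have : Fact (Nat.Prime 2) := ⟨Nat.prime_two⟩
  haveI : Group.IsNilpotent ↥T := hT.isNilpotent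
  set A := Subgroup.zpowers a with hA
  have hidx : ∀ M : Subgroup ↥T, IsCoatom M → M.index = 2 := by
    intro M hM
    haveI : M.Normal := Subgroup.NormalizerCondition.normal_of_coatom M Group.normalizerCondition_of_isNilpotent hM
    obtain ⟨k, hk⟩ := hT.index M
    rcases k with _ | _ | k
    · exact absurd (Subgroup.index_eq_one.1 (by simpa using hk)) hM.1
    · simpa using hk
    · exfalso
      obtain ⟨e, he⟩ := hT.exists_card_eq
      obtain ⟨d, hd⟩ := (hT.to_subgroup M).exists_card_eq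
      have h1 := M.card_mul_index
      rw [hd, hk, he, ← pow_add] at h1
      have h2 := Nat.pow_right_injective (le_refl 2) h1
      obtain ⟨K, hK, hMK⟩ := Sylow.exists_subgroup_card_pow_succ (p := 2) (n := d)
        (he ▸ pow_dvd_pow 2 (by omega)) hd
      have hne : K ≠ M := fun h => by
        rw [h, hd] at hK
        exact absurd (Nat.pow_right_injective (le_refl 2) hK) (by omega)
      have := hM.2 K (lt_of_le_of_ne hMK hne.symm)
      rw [this, Subgroup.card_top, he] at hK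
      exact absurd (Nat.pow_right_injective (le_refl 2) hK) (by omega)
  have hMn : ∀ M : Subgroup ↥T, IsCoatom M → a ∈ Subgroup.normalizer ((M.map T.subtype : Subgroup X) : Set X) := by
    intro M hM
    refine h _ (Subgroup.map_subtype_le M) ?_
    rw [Subgroup.card_map_of_injective T.subtype_injective, ← M.card_mul_index, hidx M hM, mul_comm]
  -- two maximal subgroups generate `T`
  obtain ⟨M₁, hM₁, M₂, hM₂, hne⟩ : ∃ M₁, IsCoatom M₁ ∧ ∃ M₂ : Subgroup ↥T, IsCoatom M₂ ∧ M₁ ≠ M₂ := by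
    by_contra hc
    push_neg at hc
    refine hnc ?_
    rcases eq_top_or_exists_le_coatom (⊥ : Subgroup ↥T) with hb | ⟨M, hM, -⟩
    · exact isCyclic_iff_exists_zpowers_eq_top.2 ⟨1, by rw [Subgroup.zpowers_one_eq_bot, hb]⟩
    · obtain ⟨t, ht⟩ : ∃ t, t ∉ M := by
        by_contra hall
        push_neg at hall
        exact hM.1 ((Subgroup.eq_top_iff' _).2 hall)
      refine isCyclic_iff_exists_zpowers_eq_top.2 ⟨t, ?_⟩
      rcases eq_top_or_exists_le_coatom (Subgroup.zpowers t) with h1 | ⟨M', hM', hle⟩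
      · exact h1
      · exact absurd (hc M' hM' M hM ▸ hle (Subgroup.mem_zpowers t)) ht
  have hTn : a ∈ Subgroup.normalizer (T : Set X) := by
    refine mem_normalizer_of_conj_mem fun k hk => ?_
    have hsup : M₁ ⊔ M₂ = ⊤ := hM₁.2 _ (lt_of_le_of_ne le_sup_left fun he =>
      hne ((hM₂.le_iff.1 (he ▸ le_sup_right)).resolve_left hM₁.1))
    have h1 : T = M₁.map T.subtype ⊔ M₂.map T.subtype := by
      rw [← Subgroup.map_sup, hsup, ← MonoidHom.range_eq_map, Subgroup.range_subtype]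
    have hle : T ≤ T.comap (MulAut.conj a).toMonoidHom :=
      h1.le.trans (sup_le
        (fun m hm => show a * m * a⁻¹ ∈ T from
          Subgroup.map_subtype_le M₁ ((Subgroup.mem_normalizer_iff.1 (hMn M₁ hM₁) m).1 hm))
        (fun m hm => show a * m * a⁻¹ ∈ T from
          Subgroup.map_subtype_le M₂ ((Subgroup.mem_normalizer_iff.1 (hMn M₂ hM₂) m).1 hm)))
    exact hle hk
  have hAT : A ≤ Subgroup.normalizer (T : Set X) := Subgroup.zpowers_le.2 hTn
  have hcomm : (⁅T, A⁆).subgroupOf T ≤ frattini ↥T := by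
    refine le_iInf₂ fun M hM => ?_
    have hAM : A ≤ Subgroup.normalizer ((M.map T.subtype : Subgroup X) : Set X) :=
      Subgroup.zpowers_le.2 (hMn M hM)
    have hle : ⁅T, A⁆ ≤ M.map T.subtype := by
      rw [Subgroup.commutator_le]
      intro t ht b hb
      have hbt : b * t⁻¹ * b⁻¹ ∈ T := (Subgroup.mem_normalizer_iff.1 (hAT hb) _).1 (inv_mem ht)
      have key := Subgroup.mem_normalizer_iff.1 (hAM hb) t⁻¹
      refine ⟨⟨t, ht⟩ * ⟨_, hbt⟩, ?_, by simp [commutatorElement_def, mul_assoc]⟩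
      show _ ∈ M
      rw [Subgroup.mul_mem_iff_of_index_two (hidx M hM)]
      constructor
      · intro h1
        obtain ⟨z, hz, hz'⟩ := key.1 ⟨⟨t, ht⟩⁻¹, inv_mem h1, rfl⟩
        exact (Subtype.ext hz' : z = ⟨_, hbt⟩) ▸ hz
      · intro h1
        obtain ⟨z, hz, hz'⟩ := key.2 ⟨⟨_, hbt⟩, h1, rfl⟩
        have : z = ⟨t, ht⟩⁻¹ := Subtype.ext hz'
        exact inv_mem_iff.1 (this ▸ hz)
    intro x hx
    obtain ⟨z, hz, hzx⟩ := hle hx
    exact T.subtype_injective hzx ▸ hz
  have hcop : (Nat.card A).Coprime (Nat.card T) := by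
    obtain ⟨e, he⟩ := hT.exists_card_eq
    rw [hA, Nat.card_zpowers, he]
    exact (Nat.coprime_two_right.2 ha).pow_right e
  have hsup := CoprimeAct.commutator_sup_centralizer (A := A) (K := T) hAT hcop (Or.inr inferInstance)
  have hleT : ⁅T, A⁆ ≤ T := le_sup_left.trans hsup.le
  have htop : (T ⊓ Subgroup.centralizer (A : Set X)).subgroupOf T = ⊤ := by
    refine frattini_nongenerating ?_
    rw [eq_top_iff]
    have h1 : (⁅T, A⁆ ⊔ (T ⊓ Subgroup.centralizer (A : Set X))).subgroupOf T = ⊤ := by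
      rw [hsup, Subgroup.subgroupOf_self]
    rw [Subgroup.subgroupOf_sup hleT inf_le_left] at h1
    rw [← h1]
    exact sup_le (hcomm.trans le_sup_right) le_sup_left
  intro t ht
  have := ((Subgroup.eq_top_iff' _).1 htop ⟨t, ht⟩).2
  exact Subgroup.mem_centralizer_iff.1 this a (Subgroup.mem_zpowers a)

lemma inv_pow_conj {a x u : X} (hu : a * u = u * a) (hx : a * x * a⁻¹ = x * u) :
    ∀ k : ℕ, a ^ k * x * (a ^ k)⁻¹ = x * u ^ k := by
  intro k
  induction k with
  | zero => simp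
  | succ k ih =>
    calc a ^ (k + 1) * x * (a ^ (k + 1))⁻¹ = a * (a ^ k * x * (a ^ k)⁻¹) * a⁻¹ := by
          rw [pow_succ']; group
      _ = a * x * a⁻¹ * (a * u ^ k * a⁻¹) := by rw [ih]; group
      _ = x * u * u ^ k := by rw [hx, (Commute.pow_right hu k).eq]; group
      _ = x * u ^ (k + 1) := by rw [pow_succ', mul_assoc]

lemma fixed_of_two_group {a u : X} {P : Subgroup X} (hP : IsPGroup 2 ↥P) (ha : Odd (orderOf a))
    (hu : u ∈ P) (h : u ^ orderOf a = 1) : u = 1 := by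
  obtain ⟨k, hk⟩ := IsPGroup.iff_orderOf.1 hP ⟨u, hu⟩
  rw [Subgroup.orderOf_mk] at hk
  have h2 := orderOf_dvd_of_pow_eq_one h
  rw [hk] at h2
  rcases k with _ | k
  · exact orderOf_eq_one_iff.1 (hk.trans (pow_zero 2))
  · exact absurd ((dvd_pow_self 2 (Nat.succ_ne_zero k)).trans h2) ha.not_two_dvd_nat

theorem main {P : Subgroup X} (hP : IsPGroup 2 ↥P) {a : X} (ha : Odd (orderOf a))
    (haP : a ∈ Subgroup.normalizer (P : Set X)) {e : ℕ} (he : 1 ≤ e) (hlt : 2 ^ e < Nat.card ↥P)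
    (h : ∀ E : Subgroup X, E ≤ P → (Nat.card E = 2 ^ e ∨ (e = 1 ∧ Nat.card E = 4)) →
      a ∈ Subgroup.normalizer (E : Set X)) :
    ∀ x ∈ P, a * x = x * a := by
  classical
  have : Fact (Nat.Prime 2) := ⟨Nat.prime_two⟩
  by_contra hbad
  push_neg at hbad
  obtain ⟨Q, hQmin⟩ := (Set.toFinite {Q : Subgroup X | Q ≤ P ∧ a ∈ Subgroup.normalizer (Q : Set X) ∧
    ∃ x ∈ Q, a * x ≠ x * a}).exists_minimal ⟨P, le_rfl, haP, hbad⟩
  obtain ⟨⟨hQP, haQ, x₀, hx₀, hx₀a⟩, hmin⟩ := hQmin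
  have hQ : IsPGroup 2 ↥Q := hP.to_le hQP
  have hfix : ∀ K : Subgroup X, K ≤ Q → a ∈ Subgroup.normalizer (K : Set X) → K ≠ Q →
      ∀ x ∈ K, a * x = x * a := by
    intro K hKQ haK hne x hx
    by_contra hc
    exact hne (le_antisymm hKQ (hmin ⟨hKQ.trans hQP, haK, x, hx, hc⟩ hKQ))
  have hconj : ∀ {z : X}, z ∈ Q → a * z * a⁻¹ ∈ Q := fun hz =>
    (Subgroup.mem_normalizer_iff.1 haQ _).1 hz
  -- squares are fixed
  set S := Subgroup.closure {z : X | ∃ x ∈ Q, x ^ 2 = z} with hS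
  have hSQ : S ≤ Q := (Subgroup.closure_le _).2 (by rintro _ ⟨x, hx, rfl⟩; exact pow_mem hx 2)
  have hSa : a ∈ Subgroup.normalizer (S : Set X) := by
    refine mem_normalizer_of_conj_mem fun k hk => ?_
    have h1 : S.map (MulAut.conj a).toMonoidHom ≤ S := by
      rw [hS, MonoidHom.map_closure, Subgroup.closure_le]
      rintro _ ⟨_, ⟨x, hx, rfl⟩, rfl⟩
      exact Subgroup.subset_closure ⟨a * x * a⁻¹, hconj hx, (map_pow (MulAut.conj a) x 2).symm⟩
    exact h1 ⟨k, hk, rfl⟩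
  have hSne : S ≠ Q := by
    intro hSQ'
    obtain ⟨x, hx, hx1⟩ : ∃ x ∈ Q, x ≠ 1 := ⟨x₀, hx₀, fun h => hx₀a (by simp [h])⟩
    haveI : Group.IsNilpotent ↥Q := hQ.isNilpotent
    have htop : (⊥ : Subgroup ↥Q) ≠ ⊤ := fun hb => hx1 (congrArg Subtype.val
      (Subgroup.mem_bot.1 (hb ▸ Subgroup.mem_top (⟨x, hx⟩ : ↥Q)) : (⟨x, hx⟩ : ↥Q) = 1))
    obtain ⟨M, hM, -⟩ := (eq_top_or_exists_le_coatom _).resolve_left htop
    haveI : M.Normal := Subgroup.NormalizerCondition.normal_of_coatom M Group.normalizerCondition_of_isNilpotent hM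
    obtain ⟨k, hk⟩ := (hQ.index M)
    -- the quotient has no proper nontrivial subgroup, so its order is `2`
    have h2 : ∀ q : ↥Q ⧸ M, q ^ 2 = 1 := by
      intro q
      by_contra hq
      have hle : M < (Subgroup.zpowers (q ^ 2)).comap (QuotientGroup.mk' M) := by
        refine lt_of_le_of_ne (QuotientGroup.le_comap_mk' M _) fun he => hq ?_
        obtain ⟨z, hz⟩ := QuotientGroup.mk'_surjective M (q ^ 2)
        have hzM : z ∈ M := by rw [he, Subgroup.mem_comap, hz]; exact Subgroup.mem_zpowers _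
        rw [← hz]; exact (QuotientGroup.eq_one_iff z).2 hzM
      have h3 : q ∈ Subgroup.zpowers (q ^ 2) := by
        obtain ⟨z, rfl⟩ := QuotientGroup.mk'_surjective M q
        exact Subgroup.mem_comap.1 (hM.2 _ hle ▸ Subgroup.mem_top z)
      obtain ⟨j, hj⟩ := hQ.to_quotient M q
      obtain ⟨i, hi⟩ := h3
      -- `q = q ^ (2 * i)` forces `q = 1`
      have h4 : q ^ (2 * i - 1 : ℤ) = 1 := by
        have hi' : (q ^ 2) ^ i = q := hi
        rw [zpow_sub, zpow_one, zpow_mul, zpow_two, ← sq, hi', mul_inv_cancel]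
      have h5 : orderOf q ∣ 2 ^ j := orderOf_dvd_of_pow_eq_one hj
      have h6 : (orderOf q : ℤ) ∣ (2 * i - 1 : ℤ) := orderOf_dvd_iff_zpow_eq_one.2 h4
      obtain ⟨l, -, hl⟩ := (Nat.dvd_prime_pow Nat.prime_two).1 h5
      rcases l with _ | l
      · exact hq (by rw [orderOf_eq_one_iff.1 (hl.trans (pow_zero 2)), one_pow])
      · have h7 : (2 : ℤ) ∣ 2 * i - 1 :=
          dvd_trans (by rw [hl]; push_cast; exact dvd_pow_self _ (Nat.succ_ne_zero l)) h6
        omega
    have : ∀ z : ↥Q, z ∈ M := fun z => by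
      have hz : (z : X) ∈ S := by rw [hSQ']; exact z.2
      have h1 : S ≤ M.map Q.subtype := (Subgroup.closure_le _).2 (by
        rintro _ ⟨w, hw, hw2⟩
        rw [← hw2]
        refine ⟨⟨w, hw⟩ ^ 2, ?_, by simp⟩
        exact (QuotientGroup.eq_one_iff _).1 (h2 (QuotientGroup.mk' M ⟨w, hw⟩)))
      obtain ⟨w, hw, hwz⟩ := h1 hz
      exact Q.subtype_injective hwz ▸ hw
    exact hM.1 ((Subgroup.eq_top_iff' _).2 this)
  have hsq : ∀ x ∈ Q, a * x ^ 2 = x ^ 2 * a := fun x hx =>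
    hfix S hSQ hSa hSne _ (Subgroup.subset_closure ⟨x, hx, rfl⟩)
  -- it suffices that all `u = x⁻¹ x^a` are fixed
  obtain ⟨x, hx, hu⟩ : ∃ x ∈ Q, a * (x⁻¹ * (a * x * a⁻¹)) ≠ (x⁻¹ * (a * x * a⁻¹)) * a := by
    by_contra hc
    push_neg at hc
    set u := x₀⁻¹ * (a * x₀ * a⁻¹) with hu
    have h1 := inv_pow_conj (x := x₀) (hc x₀ hx₀) (by group) (orderOf a)
    rw [pow_orderOf_eq_one, one_mul, inv_one, mul_one, left_eq_mul] at h1
    have h2 := fixed_of_two_group hQ ha (mul_mem (inv_mem hx₀) (hconj hx₀)) h1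
    rw [inv_mul_eq_one] at h2
    exact hx₀a (calc a * x₀ = (a * x₀ * a⁻¹) * a := by group
      _ = x₀ * a := by rw [← h2])
  set u := x⁻¹ * (a * x * a⁻¹) with hudef
  have huQ : u ∈ Q := mul_mem (inv_mem hx) (hconj hx)
  -- squares are central in `Q`
  have hsqa : ∀ f ∈ Q, a * f ^ 2 * a⁻¹ = f ^ 2 := fun f hf => by rw [hsq f hf, mul_inv_cancel_right]
  set K := Q ⊓ Subgroup.centralizer {z : X | ∃ y ∈ Q, y ^ 2 = z} with hK
  have hKa : a ∈ Subgroup.normalizer (K : Set X) := by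
    refine mem_normalizer_of_conj_mem fun k hk => ⟨hconj hk.1, Subgroup.mem_centralizer_iff.2 ?_⟩
    rintro _ ⟨y, hy, rfl⟩
    have h1 : y ^ 2 * k = k * y ^ 2 := Subgroup.mem_centralizer_iff.1 hk.2 _ ⟨y, hy, rfl⟩
    calc y ^ 2 * (a * k * a⁻¹) = (a * y ^ 2 * a⁻¹) * (a * k * a⁻¹) := by rw [hsqa y hy]
      _ = a * (y ^ 2 * k) * a⁻¹ := by group
      _ = a * (k * y ^ 2) * a⁻¹ := by rw [h1]
      _ = (a * k * a⁻¹) * (a * y ^ 2 * a⁻¹) := by group
      _ = a * k * a⁻¹ * y ^ 2 := by rw [hsqa y hy]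
  have huK : u ∈ K := by
    refine ⟨huQ, Subgroup.mem_centralizer_iff.2 ?_⟩
    rintro _ ⟨y, hy, rfl⟩
    have h1 : a * (x * y ^ 2 * x⁻¹) * a⁻¹ = x * y ^ 2 * x⁻¹ := by
      rw [← conj_pow]; exact hsqa _ (mul_mem (mul_mem hx hy) (inv_mem hx))
    have h2 : a * x * a⁻¹ * y ^ 2 * (a * x * a⁻¹)⁻¹ = x * y ^ 2 * x⁻¹ := by
      rw [← h1]
      conv_lhs => rw [← hsqa y hy]
      group
    calc y ^ 2 * u = x⁻¹ * (x * y ^ 2 * x⁻¹) * (a * x * a⁻¹) := by rw [hudef]; group
      _ = x⁻¹ * (a * x * a⁻¹ * y ^ 2 * (a * x * a⁻¹)⁻¹) * (a * x * a⁻¹) := by rw [h2]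
      _ = u * y ^ 2 := by rw [hudef]; group
  have hKQ : K = Q := by
    by_contra hne
    exact hu (hfix K inf_le_left hKa hne u huK)
  have hcent : ∀ y ∈ Q, ∀ z ∈ Q, y ^ 2 * z = z * y ^ 2 := fun y hy z hz =>
    Subgroup.mem_centralizer_iff.1 (hKQ.ge hz).2 _ ⟨y, hy, rfl⟩
  -- hence `u ^ 4 = 1`
  set y := a * x * a⁻¹ with hy
  have hyQ : y ∈ Q := hconj hx
  have hy2 : y ^ 2 = x ^ 2 := by rw [hy, conj_pow, hsqa x hx]
  have hu4 : u ^ 4 = 1 := by
    have hcx : ∀ z ∈ Q, Commute (x ^ 2) z := fun z hz => hcent x hx z hz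
    have e0 : u = (x ^ 2)⁻¹ * (x * y) := by rw [hudef]; group
    have hxy : x * y ∈ Q := mul_mem hx hyQ
    have hyx : (y * x) ^ 2 = (x * y) ^ 2 := by
      calc (y * x) ^ 2 = y * (x * y) ^ 2 * y⁻¹ := by simp only [pow_two]; group
        _ = (x * y) ^ 2 := by rw [← hcent _ hxy y hyQ, mul_inv_cancel_right]
    have e1 : (x * y) ^ 4 = (x ^ 2) ^ 4 := by
      calc (x * y) ^ 4 = (x * y) ^ 2 * (y * x) ^ 2 := by rw [hyx, ← pow_add]
        _ = x * y * x * y ^ 2 * x * y * x := by simp only [pow_two]; group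
        _ = x * y * x * x ^ 2 * x * y * x := by rw [hy2]
        _ = x * y * (x ^ 2 * x ^ 2) * (y * x) := by simp only [pow_two]; group
        _ = x * (x ^ 2 * x ^ 2) * (y * y * x) := by
          have hc : Commute (x ^ 2 * x ^ 2) y := (hcx y hyQ).mul_left (hcx y hyQ)
          rw [mul_assoc x y (x ^ 2 * x ^ 2), ← hc.eq]; group
        _ = x * (x ^ 2 * x ^ 2) * (y ^ 2 * x) := by rw [pow_two y]
        _ = x * (x ^ 2 * x ^ 2) * (x ^ 2 * x) := by rw [hy2]
        _ = (x ^ 2) ^ 4 := by simp only [pow_succ, pow_zero, one_mul, mul_assoc]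
    rw [e0, ((hcx _ hxy).inv_left).mul_pow, e1, inv_pow, inv_mul_cancel]
  -- elements with fourth power `1` are fixed
  refine hu ?_
  clear_value u
  by_contra hua
  have hu1 : u ≠ 1 := fun h1 => hua (by simp [h1])
  have hord : orderOf u ∣ 4 := orderOf_dvd_of_pow_eq_one hu4
  have hordle : orderOf u ≤ 4 := Nat.le_of_dvd (by norm_num) hord
  by_cases hcycQ : IsCyclic ↥Q
  · -- in a cyclic group `u` is the unique involution
    have h2 : u ^ 2 = 1 := by
      obtain ⟨g, hg⟩ := hcycQ.exists_generator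
      obtain ⟨i, hi⟩ := hg ⟨x, hx⟩
      obtain ⟨j, hj⟩ := hg ⟨y, hyQ⟩
      have hc : Commute x y := by
        rw [← show ((g : X) ^ i = x) from congrArg Subtype.val hi,
          ← show ((g : X) ^ j = y) from congrArg Subtype.val hj]
        exact Commute.zpow_zpow_self _ i j
      rw [hudef, hc.inv_left.mul_pow, inv_pow, hy2, inv_mul_cancel]
    have huord : orderOf u = 2 := orderOf_eq_prime h2 hu1
    have hvord : orderOf (a * u * a⁻¹) = 2 := by
      rw [show a * u * a⁻¹ = MulAut.conj a u by simp, MulEquiv.orderOf_eq, huord]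
    haveI := hcycQ
    haveI := Fintype.ofFinite ↥Q
    have hd2 : 2 ∣ Fintype.card ↥Q := by
      rw [← Nat.card_eq_fintype_card, ← huord, ← Subgroup.orderOf_mk (ha := huQ)]
      exact orderOf_dvd_natCard _
    have hone := IsCyclic.card_orderOf_eq_totient (α := ↥Q) hd2
    rw [Nat.totient_two] at hone
    have heq : (⟨u, huQ⟩ : ↥Q) = ⟨a * u * a⁻¹, hconj huQ⟩ :=
      Finset.card_le_one.1 hone.le _ (by simp [Subgroup.orderOf_mk, huord]) _
        (by simp [Subgroup.orderOf_mk, hvord])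
    have hi' : u = a * u * a⁻¹ := congrArg Subtype.val heq
    exact hua (calc a * u = (a * u * a⁻¹) * a := by group
      _ = u * a := by rw [← hi'])
  obtain ⟨d, hd⟩ := hP.exists_card_eq
  have hed : e + 1 ≤ d := (Nat.pow_lt_pow_iff_right Nat.one_lt_two).1 (hd ▸ hlt)
  have hle2 : orderOf u ≤ 2 ^ (e + 1) :=
    hordle.trans (Nat.pow_le_pow_right two_pos (show 2 ≤ e + 1 by omega))
  rcases hle2.lt_or_eq with hlt2 | heq
  · -- `u` lies in a noncyclic subgroup of order `2 ^ (e + 1)`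
    obtain ⟨q, hq⟩ := hQ.exists_card_eq
    obtain ⟨T, hTc, huT, hTP, hTnc⟩ : ∃ T : Subgroup X, Nat.card ↥T = 2 ^ (e + 1) ∧ u ∈ T ∧ T ≤ P ∧
        ¬ IsCyclic ↥T := by
      by_cases hq2 : q ≤ e + 1
      · -- enlarge `Q`
        obtain ⟨K', hK'c, hK'⟩ := Sylow.exists_subgroup_card_pow_prime_le (G := ↥P) 2 (n := q) (m := e + 1)
          (hd ▸ pow_dvd_pow 2 hed) (Q.subgroupOf P)
          (by rw [Nat.card_congr (Subgroup.subgroupOfEquivOfLe hQP).toEquiv, hq]) hq2
        refine ⟨K'.map P.subtype, by rw [Subgroup.card_map_of_injective P.subtype_injective, hK'c],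
          ⟨⟨u, hQP huQ⟩, hK' huQ, rfl⟩, Subgroup.map_subtype_le _, fun hc => hcycQ ?_⟩
        haveI := hc
        have hle : Q ≤ K'.map P.subtype := fun z hz => ⟨⟨z, hQP hz⟩, hK' hz, rfl⟩
        exact isCyclic_of_injective (Subgroup.inclusion hle) (Subgroup.inclusion_injective hle)
      · obtain ⟨l, -, hl⟩ := (Nat.dvd_prime_pow Nat.prime_two).1
          (show orderOf u ∣ 2 ^ 2 by simpa using hord)
        have hl' : l ≤ e + 1 := (Nat.pow_le_pow_iff_right (le_refl 2)).1 (hl ▸ hle2)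
        obtain ⟨K', hK'c, hK'⟩ := Sylow.exists_subgroup_card_pow_prime_le (G := ↥Q) 2 (n := l) (m := e + 1)
          (hq ▸ pow_dvd_pow 2 (by omega)) (Subgroup.zpowers ⟨u, huQ⟩)
          (by rw [Nat.card_zpowers, Subgroup.orderOf_mk, hl]) hl'
        have hTcard : Nat.card ↥(K'.map Q.subtype) = 2 ^ (e + 1) := by
          rw [Subgroup.card_map_of_injective Q.subtype_injective, hK'c]
        have huT : u ∈ K'.map Q.subtype := ⟨⟨u, huQ⟩, hK' (Subgroup.mem_zpowers _), rfl⟩
        refine ⟨_, hTcard, huT, (Subgroup.map_subtype_le _).trans hQP, fun hc => hua ?_⟩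
        obtain ⟨t, ht⟩ := hc.exists_ofOrder_eq_natCard
        obtain ⟨i, hi⟩ : (⟨u, huT⟩ : ↥(K'.map Q.subtype)) ∈ Subgroup.zpowers t := by
          rw [Subgroup.eq_top_of_card_eq (Subgroup.zpowers t) (by rw [Nat.card_zpowers, ht])]
          exact Subgroup.mem_top _
        have hi' : (t : X) ^ i = u := congrArg Subtype.val hi
        rcases Int.even_or_odd i with ⟨m, hm⟩ | hodd
        · have : u = ((t : X) ^ m) ^ 2 := by
            rw [← hi', hm, ← two_mul, mul_comm, zpow_mul, zpow_two, ← pow_two]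
          rw [this]
          exact hsq _ (zpow_mem (Subgroup.map_subtype_le _ t.2) m)
        · exfalso
          -- an odd power of a generator is a generator
          have h1 : t ^ (i * (orderOf u : ℤ)) = 1 := by
            have hit : t ^ i = ⟨u, huT⟩ := hi
            rw [zpow_mul, hit, zpow_natCast]
            exact Subtype.ext (by simp [pow_orderOf_eq_one])
          have h2 := orderOf_dvd_iff_zpow_eq_one.2 h1
          rw [ht, hTcard] at h2
          have hco : IsCoprime ((2 ^ (e + 1) : ℕ) : ℤ) i := by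
            rw [Int.isCoprime_iff_nat_coprime, Int.natAbs_natCast]
            exact Nat.Coprime.pow_left _ (Nat.coprime_two_left.2 (Int.natAbs_odd.2 hodd))
          have h3 := hco.dvd_of_dvd_mul_left h2
          exact absurd (Nat.le_of_dvd (orderOf_pos u) (Int.natCast_dvd_natCast.1 h3)) (not_le.2 hlt2)
    refine hua (centralize_noncyclic (hP.to_le hTP) ha hTnc (fun M hMT hM => ?_) u huT)
    refine h M (hMT.trans hTP) (Or.inl ?_)
    rw [hTc, pow_succ, mul_comm _ 2] at hM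
    exact Nat.eq_of_mul_eq_mul_left two_pos hM
  · -- `e = 1` and `u` has order `4`
    have he1 : e = 1 := by
      have h1 : 2 ^ (e + 1) ≤ 2 ^ 2 := heq ▸ hordle
      have h2 := (Nat.pow_le_pow_iff_right (le_refl 2)).1 h1
      omega
    subst he1
    have huord : orderOf u = 4 := by simpa using heq
    have haN := h (Subgroup.zpowers u) (Subgroup.zpowers_le.2 (hQP huQ))
      (Or.inr ⟨rfl, by rw [Nat.card_zpowers, huord]⟩)
    obtain ⟨i, hi⟩ : a * u * a⁻¹ ∈ Subgroup.zpowers u :=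
      (Subgroup.mem_normalizer_iff.1 haN u).1 (Subgroup.mem_zpowers u)
    have hi' : u ^ i = a * u * a⁻¹ := hi
    rcases Int.even_or_odd i with ⟨m, hm⟩ | hodd
    · have hv : (a * u * a⁻¹) ^ 2 = 1 := by
        rw [← hi', hm, ← zpow_natCast, ← zpow_mul,
          show (m + m) * ((2 : ℕ) : ℤ) = (4 : ℕ) * m by push_cast; ring, zpow_mul, zpow_natCast, hu4, one_zpow]
      have h2 : u ^ 2 = 1 := by
        rw [conj_pow] at hv
        exact conj_eq_one_iff.1 hv
      have := Nat.le_of_dvd two_pos (orderOf_dvd_of_pow_eq_one h2)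
      omega
    · have hii : ∃ k : ℤ, i * i = 4 * k + 1 := by
        obtain ⟨m, rfl⟩ := hodd
        exact ⟨m * m + m, by ring⟩
      obtain ⟨k, hk⟩ := hii
      have haa : (a * a) * u = u * (a * a) := by
        have h1 : a * (a * u * a⁻¹) * a⁻¹ = u := by
          conv_lhs => rw [← hi', ← conj_zpow, ← hi', ← zpow_mul, hk, zpow_add, zpow_mul]
          rw [show u ^ (4 : ℤ) = 1 by exact_mod_cast hu4]
          simp
        calc (a * a) * u = (a * (a * u * a⁻¹) * a⁻¹) * (a * a) := by group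
          _ = u * (a * a) := by rw [h1]
      obtain ⟨m, hm⟩ := ha
      refine hua ?_
      have hc : Commute ((a * a) ^ (m + 1)) u := Commute.pow_left haa _
      have hpow : (a * a) ^ (m + 1) = a := by
        rw [← pow_two, ← pow_mul, show 2 * (m + 1) = orderOf a + 1 by omega, pow_succ,
          pow_orderOf_eq_one, one_mul]
      rw [hpow] at hc
      exact hc.eq

/-- Let P be a 2-subgroup and A a subgroup of odd order of a finite group, with A normalizing P. Let D ≤ P with 1 < |D| < |P|. If every subgroup of P of order |D|, and also every subgroup of P of order 4 in case |D| = 2, is normalized by A, then A centralizes P. -/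
theorem result {X : Type*} [Group X] [Finite X] (P A D : Subgroup X) (hP : IsPGroup 2 P) (hA : Odd (Nat.card A))
    (hAP : A ≤ Subgroup.normalizer (P : Set X)) (hDP : D ≤ P) (hD1 : 1 < Nat.card D) (hD2 : Nat.card D < Nat.card P)
    (hinv : ∀ E : Subgroup X, E ≤ P → (Nat.card E = Nat.card D ∨ (Nat.card D = 2 ∧ Nat.card E = 4)) → A ≤ Subgroup.normalizer (E : Set X)) :
    A ≤ Subgroup.centralizer (P : Set X) := by
  have : Fact (Nat.Prime 2) := ⟨Nat.prime_two⟩
  intro a ha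
  rw [Subgroup.mem_centralizer_iff]
  intro x hx
  obtain ⟨e, he⟩ := (hP.to_le hDP).exists_card_eq
  refine (main hP ?_ (hAP ha) (e := e) ?_ (he ▸ hD2) ?_ x hx).symm
  · have h1 : orderOf a ∣ Nat.card A := Subgroup.orderOf_dvd_natCard _ ha
    exact Odd.of_dvd_nat hA h1
  · rcases e with _ | e
    · rw [he] at hD1; simp at hD1
    · omega
  · intro E hE hc
    refine hinv E hE ?_ ha
    rcases hc with h | ⟨h1, h2⟩
    · exact Or.inl (h.trans he.symm)
    · exact Or.inr ⟨by rw [he, h1, pow_one], h2⟩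

end Cfsg.Agent.S3803
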