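import Cfsg.Statements.S3863
import Mathlib

set_option autoImplicit false
open Cfsg

namespace Cfsg.Agent.S3863

/-- Let x be an element of the finite group G that is conjugate to its inverse. Then some 2-element conjugates x to its inverse; if the conjugacy class of x has odd size then x ^ 2 = 1; and x lies in, and is conjugate to its inverse inside, every normal subgroup of odd index. -/
theorem result {G : Type*} [Group G] [Finite G] (x : G) (hx : IsConj x x⁻¹) : (∃ t : G, (∃ j : ℕ, orderOf t = 2 ^ j) ∧ t * x * t⁻¹ = x⁻¹) ∧ (Odd (Subgroup.centralizer ({x} : Set G)).index → x ^ 2 = 1) ∧ ∀ (N : Subgroup G) [N.Normal], Odd N.index → ∃ hxN : x ∈ N, IsConj (⟨x, hxN⟩ : N) (⟨x, hxN⟩ : N)⁻¹ := by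
  obtain ⟨g, hg⟩ := isConj_iff.1 hx
  obtain ⟨j, m, hm, hord⟩ := Nat.exists_eq_two_pow_mul_odd (orderOf_pos g).ne'
  have hinv : ∀ y : G, g * y * g⁻¹ = x → g * y⁻¹ * g⁻¹ = x⁻¹ := fun y h => by
    rw [← h]; group
  have hg' : g * x⁻¹ * g⁻¹ = x := by
    have := congrArg (·⁻¹) hg
    simpa [mul_assoc] using this
  have heven : ∀ c : ℕ, g ^ (2 * c) * x * (g ^ (2 * c))⁻¹ = x := by
    intro c
    induction c with
    | zero => simp
    | succ c ih =>
      rw [show 2 * (c + 1) = 1 + (1 + 2 * c) by ring, pow_add, pow_one, pow_add, pow_one]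
      calc g * (g * g ^ (2 * c)) * x * (g * (g * g ^ (2 * c)))⁻¹
          = g * (g * (g ^ (2 * c) * x * (g ^ (2 * c))⁻¹) * g⁻¹) * g⁻¹ := by group
        _ = x := by rw [ih, hg, hg']
  have ht : g ^ m * x * (g ^ m)⁻¹ = x⁻¹ := by
    obtain ⟨c, rfl⟩ := hm
    rw [pow_succ']
    calc g * g ^ (2 * c) * x * (g * g ^ (2 * c))⁻¹
        = g * (g ^ (2 * c) * x * (g ^ (2 * c))⁻¹) * g⁻¹ := by group
      _ = x⁻¹ := by rw [heven, hg]
  have hto : orderOf (g ^ m) = 2 ^ j := by
    have hm0 : 0 < m := hm.pos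
    rw [orderOf_pow' _ hm0.ne', hord, Nat.gcd_eq_right (Dvd.intro_left _ rfl),
      Nat.mul_div_cancel _ hm0]
  refine ⟨⟨g ^ m, ⟨j, hto⟩, ht⟩, ?_, ?_⟩
  · intro hodd
    classical
    haveI := Fintype.ofFinite G
    have hcard : Nat.card (MulAction.orbit (ConjAct G) x) = (Subgroup.centralizer ({x} : Set G)).index := by
      have h2 : Nat.card (MulAction.orbit (ConjAct G) x) = (MulAction.stabilizer (ConjAct G) x).index := by
        rw [MulAction.index_stabilizer]; exact (Nat.card_coe_set_eq _)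
      rw [h2, ConjAct.stabilizer_eq_centralizer]
      rfl
    have hcl : ∀ y ∈ MulAction.orbit (ConjAct G) x, y⁻¹ ∈ MulAction.orbit (ConjAct G) x := by
      intro y hy
      rw [ConjAct.mem_orbit_conjAct] at hy ⊢
      refine (IsConj.trans ?_ hx.symm)
      obtain ⟨u, rfl⟩ := isConj_iff.1 hy.symm
      exact isConj_iff.2 ⟨u⁻¹, by group⟩
    let σ : Equiv.Perm (MulAction.orbit (ConjAct G) x) :=
      Function.Involutive.toPerm (fun y => ⟨(y : G)⁻¹, hcl y y.2⟩) (fun y => by simp)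
    have hσ : σ ^ 2 ^ 1 = 1 := by
      ext y; simp [σ, pow_two, Function.Involutive.toPerm]
    obtain ⟨y, hy⟩ := Equiv.Perm.exists_fixed_point_of_prime (p := 2) (n := 1)
      (by rw [← Nat.card_eq_fintype_card, hcard]; exact hodd.not_two_dvd_nat) hσ
    have hy' : ((y : G))⁻¹ = y := congrArg Subtype.val hy
    have hyc := y.2
    rw [ConjAct.mem_orbit_conjAct] at hyc
    obtain ⟨u, hu⟩ := isConj_iff.1 hyc
    rw [← hu, pow_two]
    rw [inv_eq_iff_mul_eq_one] at hy'
    calc u * (y : G) * u⁻¹ * (u * (y : G) * u⁻¹) = u * ((y : G) * y) * u⁻¹ := by group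
      _ = 1 := by rw [hy']; group
  · intro N _ hN
    have hodd : ∀ z : G, z ^ 2 ^ j ∈ N → z ∈ N := by
      intro z hz
      have h1 : (QuotientGroup.mk z : G ⧸ N) ^ 2 ^ j = 1 := by
        rw [← QuotientGroup.mk_pow, QuotientGroup.eq_one_iff]; exact hz
      have h2 : orderOf (QuotientGroup.mk z : G ⧸ N) ∣ N.index := orderOf_dvd_natCard _
      rw [← QuotientGroup.eq_one_iff, ← orderOf_eq_one_iff]
      exact Nat.eq_one_of_dvd_coprimes (Nat.Coprime.pow_left j (Nat.coprime_two_left.2 hN))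
        (orderOf_dvd_of_pow_eq_one h1) h2
    have htN : g ^ m ∈ N := hodd _ (by rw [← hto, pow_orderOf_eq_one]; exact one_mem N)
    have hx2 : x⁻¹ * x⁻¹ ∈ N := by
      have h1 := mul_mem htN ((inferInstance : N.Normal).conj_mem _ (inv_mem htN) x)
      rwa [show g ^ m * (x * (g ^ m)⁻¹ * x⁻¹) = (g ^ m * x * (g ^ m)⁻¹) * x⁻¹ by group, ht] at h1
    have hxN : x ∈ N := by
      have h2 : (QuotientGroup.mk x : G ⧸ N) ^ 2 = 1 := by
        rw [← inv_eq_one, ← inv_pow, ← QuotientGroup.mk_inv, ← QuotientGroup.mk_pow, QuotientGroup.eq_one_iff, pow_two]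
        exact hx2
      rw [← QuotientGroup.eq_one_iff, ← orderOf_eq_one_iff]
      exact Nat.eq_one_of_dvd_coprimes (Nat.coprime_two_left.2 hN)
        (orderOf_dvd_of_pow_eq_one h2) (orderOf_dvd_natCard _)
    exact ⟨hxN, isConj_iff.2 ⟨⟨g ^ m, htN⟩, Subtype.ext ht⟩⟩

end Cfsg.Agent.S3863
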