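import Cfsg.Statements.S3861
import Cfsg.Agent.S3863
import Cfsg.Agent.Lib.Involutions.BaerSuzuki
import Cfsg.Agent.Lib.Involutions.Basic
import Cfsg.Agent.Lib.Transfer.Basic
import Cfsg.Agent.Lib.Solvable.SchurZassenhaus
import Mathlib

set_option autoImplicit false
open Cfsg

namespace Cfsg.Agent.S3861

open Subgroup
open scoped Pointwise

/-- Every involution lies in the `2`-core when no non-trivial element of odd order is real. -/
lemma involution_mem {G : Type*} [Group G] [Finite G]
    (h : ∀ x : G, x ≠ 1 → Odd (orderOf x) → ¬ IsConj x x⁻¹) (t : G) (ht : orderOf t = 2) :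
    t ∈ Cfsg.pCore 2 G := by
  haveI : Fact (Nat.Prime 2) := ⟨Nat.prime_two⟩
  have htt := Cfsg.Agent.Invol.mul_self ht
  have key : ∀ g : G, IsPGroup 2 ↥(zpowers t ⊔ (zpowers t).map (MulAut.conj g).toMonoidHom) := by
    intro g
    set u := g * t * g⁻¹
    have hu : orderOf u = 2 := by rw [Cfsg.Agent.Invol.order_conj, ht]
    have hle : zpowers t ⊔ (zpowers t).map (MulAut.conj g).toMonoidHom = closure ({t, u} : Set G) := by
      rw [MonoidHom.map_zpowers, zpowers_eq_closure, zpowers_eq_closure, ← Subgroup.closure_union]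
      congr 1
    rw [hle]
    have hinv := Cfsg.Agent.Invol.conj_mul ht hu
    obtain ⟨j, m, hm, hord⟩ := Nat.exists_eq_two_pow_mul_odd (orderOf_pos (t * u)).ne'
    have ha : (t * u) ^ 2 ^ j = 1 := by
      by_contra hne
      refine h _ hne ?_ (isConj_iff.2 ⟨t, by rw [Cfsg.Agent.Invol.conj_pow hinv]⟩)
      rw [orderOf_pow_of_dvd (pow_ne_zero _ two_ne_zero) (hord ▸ dvd_mul_right _ _), hord,
        Nat.mul_div_cancel_left _ (Nat.two_pow_pos j)]
      exact hm
    intro d
    obtain ⟨k, hk | hk⟩ := Cfsg.Agent.Invol.mem_closure_pair ht hu d.2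
    · refine ⟨j, Subtype.ext ?_⟩
      rw [Subgroup.coe_pow, hk, ← zpow_natCast ((t * u) ^ k), ← zpow_mul, mul_comm, zpow_mul,
        zpow_natCast, ha, one_zpow]
      rfl
    · refine ⟨1, Subtype.ext ?_⟩
      rw [Subgroup.coe_pow, hk, pow_one, pow_two, Cfsg.Agent.Invol.inverted_mul_invol ht hinv]
      rfl
  obtain ⟨N, hN, hN2, hle⟩ := Cfsg.Agent.BaerSuzuki.baerSuzuki (zpowers t)
    (IsPGroup.of_card (n := 1) (by rw [Nat.card_zpowers, ht, pow_one])) key
  exact Cfsg.Agent.PBasic.le_pCore hN hN2 (hle (mem_zpowers t))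

lemma eq_one_of_coprime {G : Type*} [Group G] {x : G} {a b : ℕ} (h : Nat.Coprime a b)
    (ha : x ^ a = 1) (hb : x ^ b = 1) : x = 1 := by
  rw [← orderOf_eq_one_iff]
  exact Nat.eq_one_of_dvd_coprimes h (orderOf_dvd_of_pow_eq_one ha) (orderOf_dvd_of_pow_eq_one hb)

/-- A finite group G has no non-identity element of odd order that is conjugate to its inverse if and only if the Sylow 2-subgroups of G are normal. -/
theorem result {G : Type*} [Group G] [Finite G] (P : Sylow 2 G) : (∀ x : G, x ≠ 1 → Odd (orderOf x) → ¬ IsConj x x⁻¹) ↔ (P : Subgroup G).Normal := by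
  haveI : Fact (Nat.Prime 2) := ⟨Nat.prime_two⟩
  constructor
  · intro h
    set O := Cfsg.pCore 2 G with hO
    let π := QuotientGroup.mk' O
    have hQ : ∀ q : G ⧸ O, q ≠ 1 → Odd (orderOf q) → ¬ IsConj q q⁻¹ := by
      intro q hq1 hqo hc
      obtain ⟨x₀, rfl⟩ := QuotientGroup.mk'_surjective O q
      obtain ⟨t', ht'⟩ := isConj_iff.1 hc
      obtain ⟨t, rfl⟩ := QuotientGroup.mk'_surjective O t'
      -- a lift of odd order
      obtain ⟨j, m, hm, hord⟩ := Nat.exists_eq_two_pow_mul_odd (orderOf_pos x₀).ne'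
      obtain ⟨c, hc'⟩ := exists_pow_eq_self_of_coprime
        (x := π x₀) (n := 2 ^ j) (Nat.Coprime.pow_left _ (Nat.coprime_two_left.2 hqo))
      set x := (x₀ ^ 2 ^ j) ^ c with hx
      have hπx : π x = π x₀ := by rw [hx, map_pow, map_pow, hc']
      have hxodd : Odd (orderOf x) := by
        refine hm.of_dvd_nat ((orderOf_pow_dvd _).trans (orderOf_dvd_of_pow_eq_one ?_))
        rw [← pow_mul, ← hord, pow_orderOf_eq_one]
      rw [← hπx] at ht' hq1
      obtain ⟨e, he⟩ := IsPGroup.iff_card.1 (Cfsg.Agent.PBasic.pCore_isPGroup 2 G)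
      have hcop : (Nat.card (zpowers x)).Coprime (Nat.card O) := by
        rw [Nat.card_zpowers, he]
        exact Nat.Coprime.pow_right _ (Nat.coprime_two_right.2 hxodd)
      have hB : (zpowers x).map (MulAut.conj t).toMonoidHom ≤ O ⊔ zpowers x := by
        rw [MonoidHom.map_zpowers, zpowers_le]
        have hmem : t * x * t⁻¹ * x ∈ O := by
          rw [← QuotientGroup.eq_one_iff]
          show π (t * x * t⁻¹ * x) = 1
          rw [map_mul, map_mul, map_mul, map_inv, ht', inv_mul_cancel]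
        have := mul_mem (mem_sup_left (T := zpowers x) hmem) (inv_mem (mem_sup_right (mem_zpowers x)))
        simpa using this
      obtain ⟨k, hk, hke⟩ := Cfsg.Agent.SchurZ.conj_in (A := zpowers x) (K := O)
        (fun a _ => by rw [normalizer_eq_top_iff.2 (inferInstance : O.Normal)]; exact mem_top a) hcop
        (Or.inl inferInstance) hB (card_map_of_injective (MulEquiv.injective _))
      have hmem2 : k⁻¹ * (t * x * t⁻¹) * k ∈ zpowers x := by
        have h1 : t * x * t⁻¹ ∈ (zpowers x).map (MulAut.conj t).toMonoidHom := ⟨x, mem_zpowers x, rfl⟩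
        rw [← hke, mem_pointwise_smul_iff_inv_smul_mem] at h1
        rwa [← map_inv, MulAut.smul_def, MulAut.conj_apply, inv_inv] at h1
      have hkey : k⁻¹ * (t * x * t⁻¹) * k * x = 1 := by
        have h1 : k⁻¹ * (t * x * t⁻¹) * k * x ∈ O ⊓ zpowers x := by
          refine ⟨?_, mul_mem hmem2 (mem_zpowers x)⟩
          show _ ∈ O
          rw [← QuotientGroup.eq_one_iff]
          show π (k⁻¹ * (t * x * t⁻¹) * k * x) = 1
          rw [map_mul, map_mul, map_mul, map_inv, show π k = 1 from (QuotientGroup.eq_one_iff k).2 hk,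
            map_mul, map_mul, map_inv, ht']
          group
        rwa [Cfsg.Agent.SchurZ.inf_eq_bot hcop, mem_bot] at h1
      refine h x (fun h1 => hq1 (by rw [h1, map_one])) hxodd (isConj_iff.2 ⟨k⁻¹ * t, ?_⟩)
      rw [eq_inv_iff_mul_eq_one, ← hkey]
      group
    have hodd : Odd (Nat.card (G ⧸ O)) := by
      by_contra hev
      obtain ⟨q, hq⟩ := exists_prime_orderOf_dvd_card' (G := G ⧸ O) 2
        (even_iff_two_dvd.1 (Nat.not_odd_iff_even.1 hev))
      have := involution_mem hQ q hq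
      have h1 : q = 1 := mem_bot.1 ((Cfsg.Agent.PBasic.pCore_quotient_pCore 2 G).le this)
      rw [h1, orderOf_one] at hq
      omega
    have hPO : (P : Subgroup G) = O := by
      refine (P.3 (Cfsg.Agent.PBasic.pCore_isPGroup 2 G) fun x hx => ?_).symm
      obtain ⟨k, hk⟩ := P.isPGroup' ⟨x, hx⟩
      rw [← QuotientGroup.eq_one_iff]
      refine eq_one_of_coprime (Nat.Coprime.pow_left k (Nat.coprime_two_left.2 hodd)) ?_ pow_card_eq_one'
      rw [← QuotientGroup.mk_pow, show x ^ 2 ^ k = 1 from congrArg Subtype.val hk, QuotientGroup.mk_one]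
    rw [hPO]
    infer_instance
  · intro hP x hx1 hxo hc
    obtain ⟨g, hg⟩ := isConj_iff.1 hc
    haveI := hP
    obtain ⟨⟨t, ⟨j, hj⟩, ht⟩, -⟩ := Cfsg.Agent.S3863.result x hc
    have hidx : Nat.Coprime 2 (P : Subgroup G).index :=
      Nat.prime_two.coprime_iff_not_dvd.2 P.not_dvd_index
    have htP : t ∈ (P : Subgroup G) := by
      rw [← QuotientGroup.eq_one_iff]
      exact eq_one_of_coprime (hidx.pow_left j)
        (by rw [← QuotientGroup.mk_pow, ← hj, pow_orderOf_eq_one, QuotientGroup.mk_one]) pow_card_eq_one'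
    have h2 : x⁻¹ * x⁻¹ ∈ (P : Subgroup G) := by
      have := mul_mem htP (hP.conj_mem _ (inv_mem htP) x)
      rwa [show t * (x * t⁻¹ * x⁻¹) = (t * x * t⁻¹) * x⁻¹ by group, ht] at this
    have hxP : x ∈ (P : Subgroup G) := by
      rw [← QuotientGroup.eq_one_iff]
      refine eq_one_of_coprime hidx ?_ pow_card_eq_one'
      rw [← QuotientGroup.mk_pow, QuotientGroup.eq_one_iff, pow_two]
      simpa using inv_mem h2
    obtain ⟨k, hk⟩ := P.isPGroup' ⟨x, hxP⟩
    exact hx1 (eq_one_of_coprime (Nat.Coprime.pow_left k (Nat.coprime_two_left.2 hxo))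
      (congrArg Subtype.val hk :) (pow_orderOf_eq_one x))

end Cfsg.Agent.S3861
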