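import Cfsg.Statements.S5395
import Mathlib.GroupTheory.Abelianization.Defs
import Mathlib.SetTheory.Cardinal.Finite

set_option autoImplicit false
open Cfsg

namespace Cfsg.Agent.S5395

open scoped commutatorElement


/-- For a finite extraspecial 2-group E, an automorphism of E that induces the identity on E modulo its centre is inner (so these automorphisms form exactly the inner automorphism group, an elementary abelian 2-group of order |E|/2). -/
theorem result {E : Type*} [Group E] [Finite E] (hE : Cfsg.IsExtraspecial 2 E) (φ : E ≃* E) (hφ : ∀ x : E, φ x * x⁻¹ ∈ Subgroup.center E) : ∃ g : E, ∀ x : E, φ x = g * x * g⁻¹ := by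
  classical
  obtain ⟨⟨-, -, hder⟩, hZ⟩ := hE
  set Z := Subgroup.center E
  -- a small generating set of `E` modulo `Z`
  have hgen : ∃ S : Finset E, Subgroup.closure (↑S ∪ (Z : Set E)) = ⊤ ∧
      2 ^ S.card * Nat.card ↥Z ≤ Nat.card E := by
    have key : ∀ S : Finset E, 2 ^ S.card * Nat.card ↥Z ≤ Nat.card ↥(Subgroup.closure (↑S ∪ (Z : Set E))) →
        ∃ T : Finset E, Subgroup.closure (↑T ∪ (Z : Set E)) = ⊤ ∧ 2 ^ T.card * Nat.card ↥Z ≤ Nat.card E := by
      intro S
      induction hn : Nat.card E - Nat.card ↥(Subgroup.closure (↑S ∪ (Z : Set E))) using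
        Nat.strong_induction_on generalizing S with
      | _ n ih =>
        intro hS
        by_cases htop : Subgroup.closure (↑S ∪ (Z : Set E)) = ⊤
        · exact ⟨S, htop, hS.trans (by rw [htop, Subgroup.card_top])⟩
        obtain ⟨x, -, hx⟩ := SetLike.exists_of_lt (lt_top_iff_ne_top.2 htop)
        set A := Subgroup.closure (↑S ∪ (Z : Set E))
        set B := Subgroup.closure (↑(insert x S) ∪ (Z : Set E)) with hB
        have hle : A ≤ B := Subgroup.closure_mono (by
          rintro y (hy | hy)
          exacts [Or.inl (Finset.mem_insert_of_mem hy), Or.inr hy])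
        have hxB : x ∈ B := Subgroup.subset_closure (Or.inl (Finset.mem_insert_self _ _))
        have h2 : 2 * Nat.card ↥A ≤ Nat.card ↥B := by
          obtain ⟨k, hk⟩ := Subgroup.card_dvd_of_le hle
          have h1 : Nat.card ↥A ≠ Nat.card ↥B := fun e =>
            hx (Subgroup.eq_of_le_of_card_ge hle e.symm.le ▸ hxB)
          have hpos : 0 < Nat.card ↥B := Nat.card_pos
          rcases k with _ | _ | k
          · rw [mul_zero] at hk; omega
          · simp only [zero_add, mul_one] at hk; omega
          · rw [hk, mul_comm 2]; exact Nat.mul_le_mul_left _ (by omega)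
        have hxS : x ∉ S := fun h => hx (Subgroup.subset_closure (Or.inl h))
        refine ih _ ?_ (insert x S) rfl ?_
        · change Nat.card E - Nat.card ↥B < n
          have := Subgroup.card_le_card_group B
          have : 0 < Nat.card ↥A := Nat.card_pos
          omega
        · rw [Finset.card_insert_of_notMem hxS, pow_succ]
          calc 2 ^ S.card * 2 * Nat.card ↥Z = 2 * (2 ^ S.card * Nat.card ↥Z) := by ring
            _ ≤ 2 * Nat.card ↥A := Nat.mul_le_mul_left 2 hS
            _ ≤ _ := h2
    refine key ∅ ?_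
    simp
  obtain ⟨S, hS, hSc⟩ := hgen
  have hcomm : ∀ g x : E, g * x * g⁻¹ * x⁻¹ ∈ Z := fun g x => by
    rw [← hder]; exact Subgroup.commutator_mem_commutator (Subgroup.mem_top g) (Subgroup.mem_top x)
  -- inner automorphisms as homomorphisms into the centre
  let c : E → (E →* ↥Z) := fun g => MonoidHom.mk' (fun x => ⟨g * x * g⁻¹ * x⁻¹, hcomm g x⟩) fun x y => by
    refine Subtype.ext ?_
    have h := Subgroup.mem_center_iff.1 (hcomm g y) x⁻¹
    show g * (x * y) * g⁻¹ * (x * y)⁻¹ = g * x * g⁻¹ * x⁻¹ * (g * y * g⁻¹ * y⁻¹)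
    calc g * (x * y) * g⁻¹ * (x * y)⁻¹ = g * x * g⁻¹ * ((g * y * g⁻¹ * y⁻¹) * x⁻¹) := by group
      _ = g * x * g⁻¹ * (x⁻¹ * (g * y * g⁻¹ * y⁻¹)) := by rw [← h]
      _ = _ := by group
  have htriv : ∀ f : E →* ↥Z, ∀ x ∈ Z, f x = 1 := by
    intro f x hx
    rw [← hder] at hx
    have h := Subgroup.mem_map_of_mem f hx
    rw [commutator_def, Subgroup.map_commutator] at h
    have : ⁅(⊤ : Subgroup E).map f, (⊤ : Subgroup E).map f⁆ = ⊥ := by
      rw [Subgroup.commutator_eq_bot_iff_le_centralizer]
      intro y _ w _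
      exact Subtype.ext (Subgroup.mem_center_iff.1 y.2 w)
    rw [this, Subgroup.mem_bot] at h
    exact h
  have hinj : Function.Injective fun f : E →* ↥Z => fun s : ↥S => f s := by
    intro f f' h
    refine MonoidHom.eq_of_eqOn_dense hS ?_
    rintro x (hx | hx)
    · exact congrFun h ⟨x, hx⟩
    · rw [htriv f x hx, htriv f' x hx]
  haveI : Finite (E →* ↥Z) := Finite.of_injective _ hinj
  have hHom : Nat.card (E →* ↥Z) * Nat.card ↥Z ≤ Nat.card E := by
    refine le_trans (Nat.mul_le_mul_right _ (Nat.card_le_card_of_injective _ hinj)) ?_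
    rw [Nat.card_fun, hZ]
    simpa [hZ] using hSc
  -- the map on cosets of the centre
  let cq : E ⧸ Z → (E →* ↥Z) := Quotient.lift c fun g g' h => by
    replace h : g⁻¹ * g' ∈ Z := QuotientGroup.leftRel_apply.1 h
    ext x
    have e := Subgroup.mem_center_iff.1 h x
    show g * x * g⁻¹ * x⁻¹ = g' * x * g'⁻¹ * x⁻¹
    congr 1
    calc g * x * g⁻¹ = g * (x * (g⁻¹ * g')) * g'⁻¹ := by group
      _ = g * ((g⁻¹ * g') * x) * g'⁻¹ := by rw [e]
      _ = _ := by group
  have hcq : Function.Injective cq := by
    intro a b h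
    induction a using QuotientGroup.induction_on with
    | H g =>
      induction b using QuotientGroup.induction_on with
      | H g' =>
        refine QuotientGroup.eq.2 (Subgroup.mem_center_iff.2 fun x => ?_)
        have e : g * x * g⁻¹ * x⁻¹ = g' * x * g'⁻¹ * x⁻¹ :=
          congrArg Subtype.val (DFunLike.congr_fun h x)
        have e' := mul_right_cancel e
        calc x * (g⁻¹ * g') = g⁻¹ * (g * x * g⁻¹) * g' := by group
          _ = g⁻¹ * (g' * x * g'⁻¹) * g' := by rw [e']
          _ = _ := by group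
  haveI : Fintype (E →* ↥Z) := Fintype.ofFinite _
  haveI : Fintype (E ⧸ Z) := Fintype.ofFinite _
  have hb : Function.Bijective cq := by
    rw [Fintype.bijective_iff_injective_and_card]
    refine ⟨hcq, le_antisymm (Fintype.card_le_of_injective _ hcq) ?_⟩
    rw [← Nat.card_eq_fintype_card, ← Nat.card_eq_fintype_card]
    rw [Subgroup.card_eq_card_quotient_mul_card_subgroup Z] at hHom
    exact Nat.le_of_mul_le_mul_right hHom Nat.card_pos
  obtain ⟨q, hq⟩ := hb.2 (MonoidHom.mk' (fun x => ⟨φ x * x⁻¹, hφ x⟩) fun x y => by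
    refine Subtype.ext ?_
    have h := Subgroup.mem_center_iff.1 (hφ y) x⁻¹
    show φ (x * y) * (x * y)⁻¹ = φ x * x⁻¹ * (φ y * y⁻¹)
    rw [map_mul, mul_inv_rev, mul_assoc (φ x) x⁻¹, h]
    group)
  induction q using QuotientGroup.induction_on with
  | H g =>
    refine ⟨g, fun x => ?_⟩
    have h : g * x * g⁻¹ * x⁻¹ = φ x * x⁻¹ := congrArg Subtype.val (DFunLike.congr_fun hq x)
    exact (mul_right_cancel h).symm

end Cfsg.Agent.S5395
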