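import Cfsg.Statements.S5432
import Cfsg.Agent.Lib.LargeExtra.OuterAut
import Cfsg.Agent.Lib.Transfer.ExtraspecialUnique

set_option autoImplicit false
set_option linter.style.haveILetI false
open Cfsg

namespace Cfsg.Agent.S5432
open Cfsg.Agent Cfsg.Agent.LargeExtra Matrix

local notation "F" => ZMod 2

/-- Transport to the extension of another space. -/
noncomputable def transport {ι : Type} [Fintype ι] [DecidableEq ι] {e : F} {m : ℕ} (β : OuterAut.Cocycle ι)
    (T : Models.V m ≃+ (ι → F)) (h : ∀ u v, β (T u) (T v) = Models.beta e u v) : Models.E e m ≃* OuterAut.M β where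
  toFun x := ⟨T x.v, x.c⟩
  invFun x := ⟨T.symm x.v, x.c⟩
  left_inv x := by simp
  right_inv x := by simp
  map_mul' x y := OuterAut.M.ext (T.map_add x.v y.v) (by
    show x.c + y.c + Models.beta e x.v y.v = x.c + y.c + β (T x.v) (T y.v)
    rw [h])

/-- Cocycle of the hyperbolic form. -/
def betaP (m : ℕ) : OuterAut.Cocycle (Fin (m + 1) ⊕ Fin (m + 1)) :=
  LinearMap.mk₂ F (fun u v => ∑ i, u (.inl i) * v (.inr i))
    (by intros; simp [add_mul, Finset.sum_add_distrib]) (by intros; simp [mul_assoc, Finset.mul_sum])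
    (by intros; simp [mul_add, Finset.sum_add_distrib]) (by intros; simp [mul_left_comm, Finset.mul_sum])

/-- Coordinates. -/
def coordP (m : ℕ) : Models.V m ≃+ (Fin (m + 1) ⊕ Fin (m + 1) → F) where
  toFun v := Sum.elim (Fin.cons v.1.1 v.2.1) (Fin.cons v.1.2 v.2.2)
  invFun w := ((w (.inl 0), w (.inr 0)), (fun i => w (.inl i.succ), fun i => w (.inr i.succ)))
  left_inv v := by simp
  right_inv w := by ext (i | i) <;> refine Fin.cases ?_ ?_ i <;> simp
  map_add' u v := by ext (i | i) <;> refine Fin.cases ?_ ?_ i <;> simp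

theorem coordP_beta (m : ℕ) (u v : Models.V m) : betaP m (coordP m u) (coordP m v) = Models.beta 0 u v := by
  show (∑ i, (Sum.elim (Fin.cons u.1.1 u.2.1) (Fin.cons u.1.2 u.2.2) : _ → F) (.inl i) *
    (Sum.elim (Fin.cons v.1.1 v.2.1) (Fin.cons v.1.2 v.2.2) : _ → F) (.inr i)) = _
  simp [Fin.sum_univ_succ, Models.beta]

/-- Cocycle of the elliptic form. -/
def betaM (m : ℕ) : OuterAut.Cocycle ((Fin m ⊕ Fin m) ⊕ Fin 2) :=
  LinearMap.mk₂ F (fun u v => (∑ i, u (.inl (.inl i)) * v (.inl (.inr i))) +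
      (u (.inr 0) * v (.inr 1) + (u (.inr 0) * v (.inr 0) + u (.inr 1) * v (.inr 1))))
    (by intros; simp [add_mul, Finset.sum_add_distrib]; ring)
    (by intros; simp [mul_assoc, mul_add, Finset.mul_sum])
    (by intros; simp [mul_add, Finset.sum_add_distrib]; ring)
    (by intros; simp [mul_left_comm, mul_add, Finset.mul_sum])

/-- Coordinates. -/
def coordM (m : ℕ) : Models.V m ≃+ ((Fin m ⊕ Fin m) ⊕ Fin 2 → F) where
  toFun v := Sum.elim (Sum.elim v.2.1 v.2.2) ![v.1.1, v.1.2]
  invFun w := ((w (.inr 0), w (.inr 1)), (fun i => w (.inl (.inl i)), fun i => w (.inl (.inr i))))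
  left_inv v := by simp
  right_inv w := by
    ext ((i | i) | i)
    · simp
    · simp
    · fin_cases i <;> simp
  map_add' u v := by
    ext ((i | i) | i)
    · simp
    · simp
    · fin_cases i <;> simp

theorem coordM_beta (m : ℕ) (u v : Models.V m) : betaM m (coordM m u) (coordM m v) = Models.beta 1 u v := by
  show (∑ i, u.2.1 i * v.2.2 i) + (u.1.1 * v.1.2 + (u.1.1 * v.1.1 + u.1.2 * v.1.2)) = _
  simp [Models.beta]
  ring

theorem elementary_map {A : Type*} {B : Type*} [Group A] [Group B] (e : A ≃* B) {K : Subgroup A}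
    (h : Cfsg.IsElementaryAbelian 2 K) :
    Cfsg.IsElementaryAbelian 2 (K.map e.toMonoidHom) ∧ Nat.card (K.map e.toMonoidHom) = Nat.card K := by
  refine ⟨⟨?_, ?_⟩, (Nat.card_congr (K.equivMapOfInjective _ e.injective).toEquiv).symm⟩
  · haveI := h.1
    infer_instance
  · rintro _ ⟨x, hx, rfl⟩
    rw [← map_pow, h.2 x hx, map_one]

theorem extraspecial_model {ι : Type} [Fintype ι] [DecidableEq ι] {e : F} {m : ℕ} (β : OuterAut.Cocycle ι)
    (T : Models.E e m ≃* OuterAut.M β) : Cfsg.IsExtraspecial 2 (OuterAut.M β) :=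
  Qd.isExtraspecial_congr T.symm Models.isExtraspecial

/-- Let E be an extraspecial 2-group of order 2^(2n+1), n ≥ 1. If E contains an elementary abelian subgroup of order 2^(n+1) (plus type), then its outer automorphism group is isomorphic to the full isometry group of the hyperbolic quadratic form in dimension 2n over the field with two elements; otherwise (minus type) it is isomorphic to the full isometry group of the elliptic quadratic form in dimension 2n over that field. -/
theorem result {E : Type*} [Group E] [Finite E] (hE : Cfsg.IsExtraspecial 2 E) (n : ℕ) (hn : 1 ≤ n) (hcard : Nat.card E = 2 ^ (2 * n + 1)) : ((∃ A : Subgroup E, Cfsg.IsElementaryAbelian 2 A ∧ Nat.card ↥A = 2 ^ (n + 1)) → Nonempty (Cfsg.Out E ≃* Cfsg.isometryGroup (ZMod 2) (Cfsg.quadFormPlus n (ZMod 2)))) ∧ ((¬ ∃ A : Subgroup E, Cfsg.IsElementaryAbelian 2 A ∧ Nat.card ↥A = 2 ^ (n + 1)) → Nonempty (Cfsg.Out E ≃* Cfsg.isometryGroup (ZMod 2) (Cfsg.quadFormMinus (n - 1) (ZMod 2) 1 1))) := by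
  haveI : Fact (Nat.Prime 2) := ⟨Nat.prime_two⟩
  obtain ⟨m, rfl⟩ : ∃ m, n = m + 1 := ⟨n - 1, by omega⟩
  obtain ⟨z, x⟩ := XSUnique.exists_xs hE
  obtain ⟨z₀, x₀⟩ := XSUnique.exists_xs (Models.isExtraspecial (e := (0 : F)) (m := m))
  obtain ⟨z₁, x₁⟩ := XSUnique.exists_xs (Models.isExtraspecial (e := (1 : F)) (m := m))
  have hne : ¬ Nonempty (Models.E (0 : F) m ≃* Models.E (1 : F) m) := by
    rintro ⟨e⟩
    obtain ⟨h1, h2⟩ := elementary_map e (Models.sing_elementary (e := (0 : F)) (m := m))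
    have h3 := Models.card_le_minus _ h1
    rw [h2, Models.card_sing_zero] at h3
    exact absurd ((Nat.pow_le_pow_iff_right one_lt_two).1 h3) (by omega)
  have hcases : Nonempty (E ≃* Models.E (0 : F) m) ∨ Nonempty (E ≃* Models.E (1 : F) m) := by
    rcases XSUnique.two_classes _ E (Models.E (0 : F) m) (Models.E (1 : F) m) z z₀ z₁ x x₀ x₁ rfl
        (Models.natCard.trans hcard.symm) (Models.natCard.trans hcard.symm) with ⟨φ, -⟩ | ⟨φ, -⟩ | ⟨φ, -⟩
    · exact Or.inl ⟨φ⟩
    · exact absurd ⟨φ⟩ hne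
    · exact Or.inr ⟨φ⟩
  have hplus : (∃ A : Subgroup E, Cfsg.IsElementaryAbelian 2 A ∧ Nat.card ↥A = 2 ^ (m + 1 + 1)) ↔
      Nonempty (E ≃* Models.E (0 : F) m) := by
    constructor
    · rintro ⟨A, hA, hc⟩
      refine hcases.resolve_right ?_
      rintro ⟨e⟩
      obtain ⟨h1, h2⟩ := elementary_map e hA
      have h3 := Models.card_le_minus _ h1
      rw [h2, hc] at h3
      exact absurd ((Nat.pow_le_pow_iff_right one_lt_two).1 h3) (by omega)
    · rintro ⟨e⟩
      obtain ⟨h1, h2⟩ := elementary_map e.symm (Models.sing_elementary (e := (0 : F)) (m := m))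
      exact ⟨_, h1, h2.trans Models.card_sing_zero⟩
  refine ⟨fun h => ?_, fun h => ?_⟩
  · obtain ⟨e⟩ := hplus.1 h
    let T := transport (betaP m) (coordP m) (coordP_beta m)
    exact OuterAut.out_equiv _ (extraspecial_model _ T) (fun v => rfl) (e.trans T)
  · obtain ⟨e⟩ := hcases.resolve_left fun h' => h (hplus.2 h')
    let T := transport (betaM m) (coordM m) (coordM_beta m)
    refine OuterAut.out_equiv (Cfsg.quadFormMinus m F 1 1) (extraspecial_model _ T) (fun v => ?_) (e.trans T)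
    show _ = (∑ i, v (.inl (.inl i)) * v (.inl (.inr i))) +
      (v (.inr 0) * v (.inr 1) + (v (.inr 0) * v (.inr 0) + v (.inr 1) * v (.inr 1)))
    simp only [Cfsg.quadFormMinus]
    ring

end Cfsg.Agent.S5432
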