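import Cfsg.Statements.S0433
import Cfsg.Agent.Lib.Leech.Basic
-- import your own Cfsg.Agent.* helpers here

set_option autoImplicit false
open Cfsg

namespace Cfsg.Agent.S0433

open Cfsg.Agent.Leech
open Cfsg.Agent.Golay

/-- Sign changes on the support of a codeword preserve the lattice. -/
theorem result (c : Finset Cfsg.GolayPt) (hc : c ∈ Cfsg.supports (Cfsg.golayCode : Set (Cfsg.GolayPt → ZMod 2))) (x : Cfsg.GolayPt → ℤ) (hx : x ∈ Cfsg.leechLattice) : (fun i => if i ∈ c then -x i else x i) ∈ Cfsg.leechLattice := by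
  obtain ⟨m, hm⟩ := mem_leech.1 hx
  obtain ⟨w, hw, rfl⟩ := hc
  have hq : ∀ i, ∃ q, x i = m + 2 * q := fun i => ⟨(x i - m) / 2, by have := hm.1 i; omega⟩
  choose q hq using hq
  have hh : ∀ i, hword m x i = (q i : ZMod 2) := fun i => by
    simp only [hword]; congr 1; have := hq i; omega
  have hw' : ∀ i, i ∈ Cfsg.support₂ w ↔ w i = 1 := fun i => by
    rcases zmod2_cases (w i) with h | h <;> simp [Cfsg.support₂, h]
  refine mem_leech.2 ⟨m, fun i => ?_, ?_, ?_⟩
  · have := hm.1 i
    beta_reduce
    split_ifs <;> omega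
  · have h2 : (2 : ℤ) ∣ ∑ i ∈ Cfsg.support₂ w, q i := by
      refine (ZMod.intCast_zmod_eq_zero_iff_dvd _ 2).1 ?_
      rw [Int.cast_sum, ← self_orthogonal hw hm.2.2, Cfsg.support₂, Finset.sum_filter]
      refine Finset.sum_congr rfl fun i _ => ?_
      rcases zmod2_cases (w i) with h | h <;> simp [h, hh]
    have h4 : (4 : ℤ) ∣ ((Cfsg.support₂ w).card : ℤ) := by exact_mod_cast card_support_mod4 hw
    have hsum : ∑ i, (if i ∈ Cfsg.support₂ w then -x i else x i)
        = ∑ i, x i - 2 * ∑ i ∈ Cfsg.support₂ w, x i := by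
      rw [← Finset.sum_filter_add_sum_filter_not Finset.univ (fun i => i ∈ Cfsg.support₂ w) x,
        Finset.sum_ite, Finset.filter_univ_mem, Finset.sum_neg_distrib]
      ring
    have hs : ∑ i ∈ Cfsg.support₂ w, x i
        = (Cfsg.support₂ w).card * m + 2 * ∑ i ∈ Cfsg.support₂ w, q i := by
      simp_rw [hq]
      rw [Finset.sum_add_distrib, Finset.sum_const, Finset.mul_sum, nsmul_eq_mul]
    obtain ⟨a, ha⟩ := h4
    obtain ⟨b, hb⟩ := h2
    rw [hsum, hs, ha, hb]
    have := hm.2.1
    obtain ⟨c, hc⟩ := this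
    exact ⟨c - a * m - b, by linear_combination hc⟩
  · have he : hword m (fun i => if i ∈ Cfsg.support₂ w then -x i else x i)
        = hword m x + (m : ZMod 2) • w := by
      funext i
      rw [Pi.add_apply, Pi.smul_apply, smul_eq_mul, hh]
      rcases zmod2_cases (w i) with h | h
      · have hi : i ∉ Cfsg.support₂ w := fun hi => by rw [hw', h] at hi; exact absurd hi (by decide)
        simp only [hword, if_neg hi, h, mul_zero, add_zero]
        congr 1; have := hq i; omega
      · simp only [hword, if_pos ((hw' i).2 h), h, mul_one]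
        rw [show (-x i - m) / 2 = -q i - m by have := hq i; omega]
        simp [sub_eq_add_neg, ZMod.neg_eq_self_mod_two]
    rw [he]
    exact Cfsg.golayCode.add_mem hm.2.2 (Cfsg.golayCode.smul_mem _ hw)

end Cfsg.Agent.S0433
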