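import Cfsg.Statements.S2231
import Mathlib
-- import your own Cfsg.Agent.* helpers here

set_option autoImplicit false
open Cfsg

namespace Cfsg.Agent.S2231

theorem scalar_or_rank_one {F : Type*} [Field F] (g : Matrix.SpecialLinearGroup (Fin 2) F) (v : Fin 2 → F)
    (hv : v ≠ 0) (hg : Matrix.mulVec (g : Matrix (Fin 2) (Fin 2) F) v = v) :
    ∃ c : F, (g : Matrix (Fin 2) (Fin 2) F) =
      1 + c • !![v 0 * v 1, -(v 0 * v 0); v 1 * v 1, -(v 1 * v 0)] := by
  have g1 := congrFun hg 0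
  have g2 := congrFun hg 1
  have gd := g.prop
  simp [Matrix.mulVec, dotProduct, Fin.sum_univ_two] at g1 g2
  rw [Matrix.det_fin_two] at gd
  set G := (g : Matrix (Fin 2) (Fin 2) F)
  by_cases h0 : v 0 = 0
  · have h1 : v 1 ≠ 0 := fun h => hv (funext fun i => by fin_cases i <;> simp [h0, h])
    have e01 : G 0 1 = 0 := by simpa [h0, h1] using g1
    have e11 : G 1 1 = 1 := by
      apply mul_right_cancel₀ h1
      rw [h0] at g2; linear_combination g2
    have e00 : G 0 0 = 1 := by rw [e01, e11] at gd; simpa using gd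
    refine ⟨G 1 0 / (v 1 * v 1), ?_⟩
    ext i j
    fin_cases i <;> fin_cases j <;> simp [e00, e01, e11, h0, h1]
  · -- v 0 ≠ 0
    have e00 : G 0 0 = 1 - G 0 1 * v 1 / v 0 := by field_simp; linear_combination g1
    have e10 : G 1 0 = (v 1 - G 1 1 * v 1) / v 0 := by field_simp; linear_combination g2
    have e11 : G 1 1 = 1 + G 0 1 * v 1 / v 0 := by
      rw [e00, e10] at gd
      field_simp at gd ⊢
      linear_combination gd
    refine ⟨-(G 0 1 / (v 0 * v 0)), ?_⟩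
    ext i j
    fin_cases i <;> fin_cases j <;> simp
    · rw [e00]; field_simp; ring
    · field_simp
    · rw [e10, e11]; field_simp; ring
    · rw [e11]; field_simp

theorem upper_comm {F : Type*} [Field F] (g h : Matrix.SpecialLinearGroup (Fin 2) F) (v : Fin 2 → F)
    (hv : v ≠ 0) (hg : Matrix.mulVec (g : Matrix (Fin 2) (Fin 2) F) v = v)
    (hh : Matrix.mulVec (h : Matrix (Fin 2) (Fin 2) F) v = v) : g * h = h * g := by
  obtain ⟨c, hc⟩ := scalar_or_rank_one g v hv hg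
  obtain ⟨e, he⟩ := scalar_or_rank_one h v hv hh
  apply Subtype.ext
  rw [Matrix.SpecialLinearGroup.coe_mul, Matrix.SpecialLinearGroup.coe_mul, hc, he]
  simp only [add_mul, mul_add, one_mul, mul_one, Matrix.smul_mul, Matrix.mul_smul, smul_smul, mul_comm c e]
  abel

theorem pgroup_comm_sl2 {p : ℕ} [Fact p.Prime] {F : Type*} [Field F] [Fintype F] [CharP F p]
    (P : Subgroup (Matrix.SpecialLinearGroup (Fin 2) F)) (hP : IsPGroup p P) :
    ∀ g ∈ P, ∀ h ∈ P, g * h = h * g := by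
  let act : MulAction P (Fin 2 → F) :=
    { smul := fun g v => Matrix.mulVec ((g : Matrix.SpecialLinearGroup (Fin 2) F) : Matrix (Fin 2) (Fin 2) F) v
      one_smul := fun v => Matrix.one_mulVec v
      mul_smul := fun g h v => (Matrix.mulVec_mulVec v _ _).symm }
  have hdvd : p ∣ Nat.card (Fin 2 → F) := by
    rw [Nat.card_fun, Nat.card_eq_fintype_card]
    obtain ⟨n, _, hn⟩ := FiniteField.card F p
    rw [hn]
    exact dvd_pow (dvd_pow_self p n.pos.ne') (by simp)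
  have h0 : (0 : Fin 2 → F) ∈ MulAction.fixedPoints P (Fin 2 → F) := fun g => Matrix.mulVec_zero _
  obtain ⟨v, hv, hne⟩ := hP.exists_fixed_point_of_prime_dvd_card_of_fixed_point _ hdvd h0
  exact fun g hg h hh => upper_comm g h v (Ne.symm hne) (hv ⟨g, hg⟩) (hv ⟨h, hh⟩)

theorem pgroup_comm_psl2 {p : ℕ} [Fact p.Prime] {F : Type*} [Field F] [Fintype F] [CharP F p]
    (P : Subgroup (Matrix.ProjectiveSpecialLinearGroup (Fin 2) F)) (hP : IsPGroup p P) :
    ∀ g ∈ P, ∀ h ∈ P, g * h = h * g := by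
  obtain ⟨Q, hQ⟩ := hP.exists_le_sylow
  obtain ⟨R, hR⟩ := Sylow.mapSurjective_surjective
    (f := QuotientGroup.mk' (Subgroup.center (Matrix.SpecialLinearGroup (Fin 2) F)))
    (QuotientGroup.mk'_surjective _) p Q
  intro g hg h hh
  have hg' : g ∈ (Q : Subgroup _) := hQ hg
  have hh' : h ∈ (Q : Subgroup _) := hQ hh
  rw [← hR] at hg' hh'
  obtain ⟨a, ha, rfl⟩ := hg'
  obtain ⟨b, hb, rfl⟩ := hh'
  rw [← map_mul, ← map_mul, pgroup_comm_sl2 _ R.isPGroup' a ha b hb]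

/-- The upper unitriangular subgroup of `SL₃(ZMod p)`. -/
def unitri (p : ℕ) [Fact p.Prime] : Subgroup (Matrix.SpecialLinearGroup (Fin 3) (ZMod p)) where
  carrier := {M | M.1 0 0 = 1 ∧ M.1 1 1 = 1 ∧ M.1 2 2 = 1 ∧ M.1 1 0 = 0 ∧ M.1 2 0 = 0 ∧ M.1 2 1 = 0}
  one_mem' := by simp
  mul_mem' {a b} := by
    rintro ⟨a0, a1, a2, a10, a20, a21⟩ ⟨b0, b1, b2, b10, b20, b21⟩
    simp [Matrix.mul_apply, Fin.sum_univ_three, *]
  inv_mem' {a} := by
    rintro ⟨a0, a1, a2, a10, a20, a21⟩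
    simp only [Set.mem_ofPred_eq]
    rw [Matrix.SpecialLinearGroup.coe_inv, Matrix.adjugate_fin_three]
    simp [*]

theorem unitri_isPGroup (p : ℕ) [Fact p.Prime] (hp : p ≠ 2) : IsPGroup p (unitri p) := by
  rintro ⟨M, a0, a1, a2, a10, a20, a21⟩
  refine ⟨1, Subtype.ext (Subtype.ext ?_)⟩
  set A : Matrix (Fin 3) (Fin 3) (ZMod p) := (M : Matrix (Fin 3) (Fin 3) (ZMod p))
  have h3 : (A - 1) ^ 3 = 0 := by
    ext i j
    fin_cases i <;> fin_cases j <;>
      simp [pow_succ, Matrix.mul_apply, Fin.sum_univ_three, A, *]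
  have hp3 : 3 ≤ p := by
    have := (Fact.out : p.Prime).two_le
    omega
  have h := sub_pow_char_pow_of_commute (p := p) (n := 1) (Commute.one_right A)
  rw [pow_one, one_pow, pow_eq_zero_of_le hp3 h3] at h
  show A ^ (p ^ 1) = 1
  rw [pow_one]
  exact (sub_eq_zero.mp h.symm)

/-- Let p be an odd prime and K a finite field of characteristic p. Then Qd(p) (the natural semidirect product of an elementary abelian group of order p² by SL₂(p)) is not involved in the projective special linear group PSL₂(K). -/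
theorem result {p : ℕ} [Fact p.Prime] (hp : p ≠ 2) {K : Type*} [Field K] [Fintype K] [CharP K p] : ¬ Cfsg.Involves ↥(Cfsg.qd p) (Matrix.ProjectiveSpecialLinearGroup (Fin 2) K) := by
  rintro ⟨K', R, hR, ⟨e⟩⟩
  let f : ↥K' →* ↥(Cfsg.qd p) := e.toMonoidHom.comp (QuotientGroup.mk' _)
  have hf : Function.Surjective f := e.surjective.comp (QuotientGroup.mk'_surjective _)
  have hU : unitri p ≤ Cfsg.qd p := by
    rintro M ⟨_, _, h22, _, h20, h21⟩
    exact Subgroup.subset_closure ⟨h20, h21, h22⟩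
  let U : Subgroup ↥(Cfsg.qd p) := (unitri p).subgroupOf (Cfsg.qd p)
  have hUp : IsPGroup p U := by
    rintro ⟨⟨x, hx⟩, hxU⟩
    obtain ⟨k, hk⟩ := unitri_isPGroup p hp ⟨x, hxU⟩
    exact ⟨k, Subtype.ext (Subtype.ext (congrArg Subtype.val hk :))⟩
  obtain ⟨Q, hQ⟩ := hUp.exists_le_sylow
  obtain ⟨S, hS⟩ := Sylow.mapSurjective_surjective hf p Q
  have hScomm : ∀ a ∈ (S : Subgroup ↥K'), ∀ b ∈ (S : Subgroup ↥K'), a * b = b * a := by
    intro a ha b hb
    have := pgroup_comm_psl2 ((S : Subgroup ↥K').map K'.subtype) (S.isPGroup'.map _) a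
      ⟨a, ha, rfl⟩ b ⟨b, hb, rfl⟩
    exact Subtype.ext this
  have key : ∀ x ∈ U, ∀ y ∈ U, x * y = y * x := by
    intro x hx y hy
    have hx' : x ∈ (Q : Subgroup _) := hQ hx
    have hy' : y ∈ (Q : Subgroup _) := hQ hy
    rw [← hS] at hx' hy'
    obtain ⟨a, ha, rfl⟩ := hx'
    obtain ⟨b, hb, rfl⟩ := hy'
    rw [← map_mul, ← map_mul, hScomm a ha b hb]
  let X : Matrix.SpecialLinearGroup (Fin 3) (ZMod p) :=
    ⟨!![1, 1, 0; 0, 1, 0; 0, 0, 1], by simp [Matrix.det_fin_three]⟩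
  let Y : Matrix.SpecialLinearGroup (Fin 3) (ZMod p) :=
    ⟨!![1, 0, 0; 0, 1, 1; 0, 0, 1], by simp [Matrix.det_fin_three]⟩
  have hX : X ∈ unitri p := ⟨rfl, rfl, rfl, rfl, rfl, rfl⟩
  have hY : Y ∈ unitri p := ⟨rfl, rfl, rfl, rfl, rfl, rfl⟩
  have h := key ⟨X, hU hX⟩ hX ⟨Y, hU hY⟩ hY
  have h2 : (X * Y : Matrix.SpecialLinearGroup (Fin 3) (ZMod p)) = Y * X := congrArg Subtype.val h
  have h' : ((X.1 * Y.1) 0 2 : ZMod p) = (Y.1 * X.1) 0 2 :=
    congrArg (fun z : Matrix.SpecialLinearGroup (Fin 3) (ZMod p) => z.1 0 2) h2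
  simp [Matrix.mul_apply, Fin.sum_univ_three, X, Y] at h'

end Cfsg.Agent.S2231
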