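import Cfsg.Statements.S0358
import Cfsg.Agent.Lib.Golay.Basic
-- import your own Cfsg.Agent.* helpers here

set_option autoImplicit false
open Cfsg

namespace Cfsg.Agent.S0358

open Cfsg.Agent.Golay
open scoped Pointwise

/-- The length-24 code built from the squares modulo 23 has dimension 12 over the field with two elements. -/
theorem result : Module.finrank (ZMod 2) Cfsg.golayCode = 12 := by
  have hcard : Nat.card Cfsg.golayCode = 4096 := by
    have h : (Cfsg.golayCode : Set (Cfsg.GolayPt → ZMod 2)) = ↑(codeList.toFinset.image ofMask) := by
      ext w; simp [mem_golayCode]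
    show Nat.card (Cfsg.golayCode : Set (Cfsg.GolayPt → ZMod 2)) = _
    rw [Nat.card_coe_set_eq, h, Set.ncard_coe_finset, Finset.card_image_of_injOn,
      List.toFinset_card_of_nodup codeList_nodup]
    · rw [← List.length_map (fun x => x >>> 12), codeList_top, List.length_range]
    · intro a ha b hb hab
      simp at ha hb
      exact ofMask_inj (lt_of_mem_codeList ha) (lt_of_mem_codeList hb) hab
  have h := Module.natCard_eq_pow_finrank (K := ZMod 2) (V := Cfsg.golayCode)
  rw [hcard, Nat.card_zmod] at h
  exact (Nat.pow_right_injective (le_refl 2) (show (2:ℕ) ^ 12 = _ from h)).symm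

end Cfsg.Agent.S0358
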