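import Cfsg.Statements.S0561
import Cfsg.Agent.Lib.Solvable.Products
import Cfsg.Agent.Lib.Solvable.Hall

set_option autoImplicit false
open scoped Pointwise commutatorElement
open Pointwise
open Cfsg

namespace Cfsg.Agent.S0561

/-- Let the finite solvable group G be the product HK of subgroups, and let A be normal in H and B normal in K, where A and B are Hall subgroups of G (order coprime to index). Then for all x, y the product set of xAx⁻¹ and yBy⁻¹ is a subgroup of G. -/
theorem result {G : Type*} [Group G] [Finite G] [Group.IsSolvable G] (H K A B : Subgroup G) (hHK : ∀ g : G, ∃ h ∈ H, ∃ k ∈ K, g = h * k) (hA : A ≤ H) (hAn : (A.subgroupOf H).Normal) (hB : B ≤ K) (hBn : (B.subgroupOf K).Normal) (hAh : (Nat.card A).Coprime A.index) (hBh : (Nat.card B).Coprime B.index) (x y : G) : ∃ S : Subgroup G, (S : Set G) = ((MulAut.conj x • A : Subgroup G) : Set G) * ((MulAut.conj y • B : Subgroup G) : Set G) := by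
  classical
  obtain ⟨L, hL⟩ := Cfsg.Agent.HallSolv.exists_complementSystem (G := G)
  have hidx : ∀ X : Subgroup G, (Nat.card X).Coprime X.index →
      (⨅ p ∈ Cfsg.Agent.HallSolv.primeSet X.index, L p).index = X.index := by
    intro X hX
    have hX0 : X.index ≠ 0 := Subgroup.index_ne_zero_of_finite
    rw [Cfsg.Agent.HallSolv.index_iInf_complementSystem hL]
    conv_rhs => rw [← Cfsg.Agent.HallSolv.prod_primeSet hX0]
    refine Finset.prod_congr rfl fun p hp => ?_
    rw [← X.card_mul_index, Nat.factorization_mul Nat.card_pos.ne' hX0, Finsupp.add_apply,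
      Nat.factorization_eq_zero_of_not_dvd (n := Nat.card X) fun hd => p.2.one_lt.ne'
        (Nat.eq_one_of_dvd_coprimes hX hd
          (Nat.dvd_of_mem_primeFactors (Cfsg.Agent.HallSolv.mem_primeSet.1 hp))), zero_add]
  have hconj : ∀ X : Subgroup G, (Nat.card X).Coprime X.index →
      ∃ g : G, MulAut.conj g • X = ⨅ p ∈ Cfsg.Agent.HallSolv.primeSet X.index, L p := by
    intro X hX
    refine Cfsg.Agent.HallSolv.hall_conj X.card_mul_index.symm hX rfl ?_
    have h1 := (⨅ p ∈ Cfsg.Agent.HallSolv.primeSet X.index, L p).card_mul_index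
    rw [hidx X hX, ← X.card_mul_index] at h1
    exact Nat.eq_of_mul_eq_mul_right (Nat.pos_of_ne_zero Subgroup.index_ne_zero_of_finite) h1
  obtain ⟨u, hu⟩ := hconj A hAh
  obtain ⟨v, hv⟩ := hconj B hBh
  set S := Cfsg.Agent.HallSolv.primeSet A.index with hS
  set T := Cfsg.Agent.HallSolv.primeSet B.index with hT
  set A' := ⨅ p ∈ S, L p with hA'
  set B' := ⨅ p ∈ T, L p with hB'
  set W := ⨅ p ∈ S ∩ T, L p with hW
  have hAW : A' ≤ W := biInf_mono fun p hp => (Finset.mem_inter.1 hp).1
  have hBW : B' ≤ W := biInf_mono fun p hp => (Finset.mem_inter.1 hp).2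
  have hrel : ∀ R : Finset Nat.Primes, S ∩ T ⊆ R → (⨅ p ∈ R, L p) ≤ W →
      (⨅ p ∈ R, L p).relIndex W = ∏ p ∈ R \ (S ∩ T), (p : ℕ) ^ (Nat.card G).factorization p := by
    intro R hR hle
    have h1 := Subgroup.relIndex_mul_index hle
    rw [hW, Cfsg.Agent.HallSolv.index_iInf_complementSystem hL,
      Cfsg.Agent.HallSolv.index_iInf_complementSystem hL, ← Finset.prod_sdiff hR] at h1
    exact Nat.eq_of_mul_eq_mul_right (Finset.prod_pos fun p _ => pow_pos p.2.pos _) h1
  have hP : Cfsg.Agent.Products.Perm A' B' := by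
    intro a ha b hb
    have hcop : (A'.subgroupOf W).index.Coprime (B'.subgroupOf W).index := by
      change (A'.relIndex W).Coprime (B'.relIndex W)
      rw [hA', hB', hrel S Finset.inter_subset_left hAW, hrel T Finset.inter_subset_right hBW]
      refine Nat.Coprime.prod_left fun p hp => Nat.Coprime.prod_right fun q hq => Nat.Coprime.pow _ _ ?_
      refine (Nat.coprime_primes p.2 q.2).2 fun h => ?_
      rw [Finset.mem_sdiff, Finset.mem_inter] at hp hq
      exact hp.2 ⟨hp.1, (Subtype.ext h : p = q) ▸ hq.1⟩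
    obtain ⟨a', ha', b', hb', e⟩ := Cfsg.Agent.HallSolv.exists_mul_of_coprime_index hcop
      (⟨b, hBW hb⟩ * ⟨a, hAW ha⟩ : W)
    exact ⟨a', ha', b', hb', congrArg Subtype.val e⟩
  have hred : ∀ x y : G, ∃ g : G,
      (MulAut.conj g • A : Subgroup G) = MulAut.conj x • A ∧
        (MulAut.conj g • B : Subgroup G) = MulAut.conj y • B := by
    intro x y
    obtain ⟨h, hh, k, hk, e⟩ := hHK (x⁻¹ * y)
    refine ⟨x * h, ?_, ?_⟩
    · rw [← Cfsg.Agent.SolvBasic.conjSmul_conjSmul,
        Cfsg.Agent.SolvBasic.conjSmul_eq_self_of_mem_normalizer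
          ((Subgroup.normal_subgroupOf_iff_le_normalizer hA).1 hAn hh)]
    · rw [show y = x * h * k by rw [mul_assoc, ← e, mul_inv_cancel_left],
        ← Cfsg.Agent.SolvBasic.conjSmul_conjSmul (x * h) k,
        Cfsg.Agent.SolvBasic.conjSmul_eq_self_of_mem_normalizer
          ((Subgroup.normal_subgroupOf_iff_le_normalizer hB).1 hBn hk)]
  obtain ⟨g, hgA, hgB⟩ := hred u v
  obtain ⟨g', hgA', hgB'⟩ := hred x y
  have h1 := hP.conj (g' * g⁻¹)
  rw [← hu, ← hv, ← hgA, ← hgB, Cfsg.Agent.SolvBasic.conjSmul_conjSmul,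
    Cfsg.Agent.SolvBasic.conjSmul_conjSmul, inv_mul_cancel_right, hgA', hgB'] at h1
  exact ⟨_, h1.coe_sup⟩

end Cfsg.Agent.S0561
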