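import Cfsg.Statements.S0046
import Cfsg.Agent.Lib.Solvable.Frobenius

set_option autoImplicit false
open scoped Pointwise commutatorElement
open Cfsg

namespace Cfsg.Agent.S0046

/-- Schmidt's Theorem on minimal non-nilpotent groups: a finite group in which every maximal subgroup is nilpotent is solvable. -/
theorem result {G : Type*} [Group G] [Finite G]
    (h : ∀ M : Subgroup G, IsCoatom M → Group.IsNilpotent M) : Group.IsSolvable G := by
  induction hc : Nat.card G using Nat.strong_induction_on generalizing G with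
  | _ n ih =>
  subst hc
  rcases subsingleton_or_nontrivial G with hG | hG
  · infer_instance
  have hnilsub : ∀ H : Subgroup G, H ≠ ⊤ → Group.IsNilpotent H := fun H hH => by
    obtain ⟨M, hM, hHM⟩ := (eq_top_or_exists_le_coatom H).resolve_left hH
    have := h M hM
    exact Group.nilpotent_of_mulEquiv (Subgroup.subgroupOfEquivOfLe hHM)
  by_cases hex : ∃ N : Subgroup G, N.Normal ∧ N ≠ ⊥ ∧ N ≠ ⊤
  · obtain ⟨N, hNn, hN, hNtop⟩ := hex
    have := hnilsub N hNtop
    have hsur := QuotientGroup.mk'_surjective N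
    have hlt : Nat.card (G ⧸ N) < Nat.card G := by
      have h1 := N.card_eq_card_quotient_mul_card_subgroup
      have h2 := Subgroup.one_lt_card_iff_ne_bot N |>.2 hN
      have h3 := Nat.card_pos (α := G ⧸ N)
      nlinarith
    have hq : Group.IsSolvable (G ⧸ N) := ih _ hlt (fun M hM => by
      have hne : M.comap (QuotientGroup.mk' N) ≠ ⊤ := fun h0 => hM.1
        (Subgroup.comap_injective hsur (h0.trans (Subgroup.comap_top _).symm))
      have := hnilsub _ hne
      exact Group.nilpotent_of_surjective ((QuotientGroup.mk' N).subgroupComap M)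
        ((QuotientGroup.mk' N).subgroupComap_surjective_of_surjective M hsur)) rfl
    exact Group.isSolvable_of_ker_le_range N.subtype (QuotientGroup.mk' N)
      (by rw [QuotientGroup.ker_mk', Subgroup.range_subtype])
  push_neg at hex
  obtain ⟨M, hM, -⟩ := (eq_top_or_exists_le_coatom (⊥ : Subgroup G)).resolve_left bot_ne_top
  by_cases hM0 : M = ⊥
  · subst hM0
    obtain ⟨p, hp, hpd⟩ := Nat.exists_prime_and_dvd (Finite.one_lt_card (α := G)).ne'
    have : Fact p.Prime := ⟨hp⟩
    obtain ⟨x, hx⟩ := exists_prime_orderOf_dvd_card' (G := G) p hpd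
    have htop := hM.2 (Subgroup.zpowers x) (bot_lt_iff_ne_bot.2 fun h0 => hp.one_lt.ne' (by
      rw [← hx, Subgroup.zpowers_eq_bot.1 h0, orderOf_one]))
    have hcyc : IsCyclic G := ⟨⟨x, fun y => by
      have : y ∈ Subgroup.zpowers x := by rw [htop]; exact Subgroup.mem_top y
      exact this⟩⟩
    have hm : IsMulCommutative G := IsCyclic.isMulCommutative
    exact Group.isSolvable_of_comm fun a b => hm.is_comm.comm a b
  have hMn : ¬ M.Normal := fun h0 => hM.1 (hex M h0 hM0)
  have main : ∀ n : ℕ, ∀ M₁ M₂ : Subgroup G, IsCoatom M₁ → IsCoatom M₂ → M₁ ≠ M₂ →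
      Nat.card G ≤ Nat.card (M₁ ⊓ M₂ : Subgroup G) + n → M₁ ⊓ M₂ = ⊥ := by
    intro n
    induction n with
    | zero =>
      intro M₁ M₂ h₁ _ _ hle
      exact absurd (Subgroup.eq_top_of_card_eq _ (le_antisymm (Subgroup.card_le_card_group _)
        (by simpa using hle))) fun h0 => h₁.1 (top_le_iff.1 (h0 ▸ inf_le_left))
    | succ n ihn =>
      intro M₁ M₂ h₁ h₂ hne hle
      by_contra hI
      set I := M₁ ⊓ M₂ with hIdef
      have hstep : ∀ Mi : Subgroup G, IsCoatom Mi → I < Mi →
          Nat.card I < Nat.card (Mi ⊓ Subgroup.normalizer (I : Set G) : Subgroup G) := by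
        intro Mi hi hlt
        have := h Mi hi
        obtain ⟨x, hx, hxI⟩ := SetLike.exists_of_lt (Group.normalizerCondition_of_isNilpotent
          (I.subgroupOf Mi) (lt_top_iff_ne_top.2 fun h0 => hlt.not_ge (Subgroup.subgroupOf_eq_top.1 h0)))
        rw [← Subgroup.subgroupOf_normalizer_eq hlt.le] at hx
        have hlt' : I < Mi ⊓ Subgroup.normalizer (I : Set G) :=
          lt_of_le_of_ne (le_inf hlt.le Subgroup.le_normalizer) fun h0 =>
            hxI (show (x : G) ∈ I by rw [h0]; exact Subgroup.mem_inf.2 ⟨x.2, hx⟩)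
        exact Nat.lt_of_le_of_ne (Subgroup.card_le_of_le hlt'.le) fun h0 =>
          hlt'.ne (Subgroup.eq_of_le_of_card_ge hlt'.le h0.ge)
      have hI1 : I < M₁ := lt_of_le_of_ne inf_le_left fun h0 =>
        hne ((h₁.le_iff.1 (inf_eq_left.1 h0)).resolve_left h₂.1).symm
      have hI2 : I < M₂ := lt_of_le_of_ne inf_le_right fun h0 =>
        hne ((h₂.le_iff.1 (inf_eq_right.1 h0)).resolve_left h₁.1)
      have hNtop : Subgroup.normalizer (I : Set G) ≠ ⊤ := fun h0 =>
        h₁.1 (top_le_iff.1 ((hex I (Subgroup.normalizer_eq_top_iff.1 h0) hI).ge.trans inf_le_left))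
      obtain ⟨M₃, h₃, hN₃⟩ := (eq_top_or_exists_le_coatom _).resolve_left hNtop
      have key : ∀ Mi : Subgroup G, IsCoatom Mi → I < Mi → Mi = M₃ := by
        intro Mi hi hlt
        by_contra hne'
        have h4 : Nat.card I < Nat.card (Mi ⊓ M₃ : Subgroup G) :=
          (hstep Mi hi hlt).trans_le (Subgroup.card_le_of_le (inf_le_inf_left _ hN₃))
        have h5 := ihn Mi M₃ hi h₃ hne' (by omega)
        rw [h5, Subgroup.card_bot] at h4
        have := Nat.card_pos (α := I)
        omega
      exact hne ((key M₁ h₁ hI1).trans (key M₂ h₂ hI2).symm)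
  have hF : Cfsg.IsFrobeniusComplement M := by
    refine ⟨hM0, hM.1, fun g hg => main (Nat.card G) M _ hM ?_ ?_ (Nat.le_add_left _ _)⟩
    · refine ⟨fun h0 => hM.1 (Subgroup.eq_top_of_card_eq _ ?_), fun B hB => ?_⟩
      · rw [← Cfsg.Agent.SolvBasic.card_conjSmul g M, h0, Subgroup.card_top]
      · have h1 := hM.2 (MulAut.conj g⁻¹ • B) ?_
        · rw [← Cfsg.Agent.SolvBasic.conjSmul_inv_conjSmul g⁻¹ B, inv_inv, h1]
          exact Subgroup.map_top_of_surjective _ (MulAut.conj g).surjective
        · rw [← Cfsg.Agent.SolvBasic.conjSmul_inv_conjSmul g M]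
          exact lt_of_le_of_ne (Subgroup.pointwise_smul_le_pointwise_smul_iff.2 hB.le)
            fun h0 => hB.ne (smul_left_cancel _ h0)
    · intro h0
      rcases hM.le_iff.1 (Subgroup.le_normalizer (H := M)) with h' | h'
      · exact hMn (Subgroup.normalizer_eq_top_iff.1 h')
      · exact hg (h' ▸ Cfsg.Agent.SolvBasic.mem_normalizer_iff_conjSmul.2 h0.symm)
  obtain ⟨N, -, hNn, hN, hNc, -, -, -, -⟩ := Cfsg.Agent.FrobeniusStruct.exists_kernel hF
  exfalso
  have h0 := hNc.disjoint.eq_bot
  rw [hex N hNn hN, top_inf_eq] at h0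
  exact hM0 h0

end Cfsg.Agent.S0046
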