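import Cfsg.Statements.S0581
import Cfsg.Agent.S0046
import Cfsg.Agent.Lib.Solvable.Fitting
import Cfsg.Agent.Lib.Solvable.Basic

set_option autoImplicit false
open scoped Pointwise commutatorElement
open Pointwise
open Cfsg

namespace Cfsg.Agent.S0581

/-- Let H be a nilpotent subgroup of a finite group G whose order is coprime to its index, and K a subgroup every prime divisor of whose order divides the order of H. Then K lies in some conjugate of H. -/
theorem result {G : Type*} [Group G] [Finite G] (H K : Subgroup G) (hH : Group.IsNilpotent H) (hHall : (Nat.card H).Coprime H.index) (hK : ∀ p : ℕ, p.Prime → p ∣ Nat.card K → p ∣ Nat.card H) : ∃ x : G, K ≤ MulAut.conj x • H := by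
  induction hc : Nat.card K using Nat.strong_induction_on generalizing K with
  | _ n ih =>
  subst hc
  by_cases hK0 : K = ⊥
  · exact ⟨1, hK0 ▸ bot_le⟩
  have hKnt : Nontrivial K := (Subgroup.nontrivial_iff_ne_bot K).2 hK0
  have hsub : ∀ M : Subgroup K, M ≠ ⊤ → ∃ x : G, M.map K.subtype ≤ MulAut.conj x • H := by
    intro M hM
    have hc' : Nat.card (M.map K.subtype : Subgroup G) = Nat.card M :=
      Nat.card_congr (M.equivMapOfInjective _ K.subtype_injective).toEquiv.symm
    refine ih _ ?_ _ (fun p hp hpd => hK p hp ((hc' ▸ hpd).trans M.card_subgroup_dvd_card)) rfl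
    rw [hc']
    exact lt_of_le_of_ne (Subgroup.card_le_card_group M) fun h0 => hM (Subgroup.eq_top_of_card_eq M h0)
  have hsolv : Group.IsSolvable K := Cfsg.Agent.S0046.result fun M hM => by
    obtain ⟨x, hx⟩ := hsub M hM.1
    have := hH
    have : Group.IsNilpotent (MulAut.conj x • H : Subgroup G) :=
      Group.nilpotent_of_mulEquiv (Subgroup.equivSMul (MulAut.conj x) H)
    have : Group.IsNilpotent (M.map K.subtype : Subgroup G) :=
      Group.nilpotent_of_mulEquiv (Subgroup.subgroupOfEquivOfLe hx)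
    exact Group.nilpotent_of_mulEquiv (M.equivMapOfInjective _ K.subtype_injective).symm
  -- a maximal normal subgroup has prime index
  obtain ⟨M₀, r, hr, hM₀n, hM₀i⟩ : ∃ (M₀ : Subgroup K) (r : ℕ), r.Prime ∧ M₀.Normal ∧ M₀.index = r := by
    have hlt := Group.IsSolvable.commutator_lt_top_of_nontrivial K
    obtain ⟨M₀, hM₀, hle⟩ := (eq_top_or_exists_le_coatom (commutator K)).resolve_left hlt.ne
    have hn : M₀.Normal := ⟨fun x hx g => by
      have h1 : g * x * g⁻¹ * x⁻¹ ∈ M₀ :=
        hle (Subgroup.commutator_mem_commutator (Subgroup.mem_top g) (Subgroup.mem_top x))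
      simpa using M₀.mul_mem h1 hx⟩
    obtain ⟨r, hr, hrd⟩ := Nat.exists_prime_and_dvd (fun h0 => hM₀.1 (Subgroup.index_eq_one.1 h0))
    have : Fact r.Prime := ⟨hr⟩
    obtain ⟨y, hy⟩ := exists_prime_orderOf_dvd_card' (G := K ⧸ M₀) r hrd
    refine ⟨M₀, r, hr, hn, ?_⟩
    obtain ⟨x, rfl⟩ := QuotientGroup.mk'_surjective M₀ y
    have htop : M₀ ⊔ Subgroup.zpowers x = ⊤ := hM₀.2 _ (left_lt_sup.2 fun h0 => hr.one_lt.ne' (by
      rw [← hy, show QuotientGroup.mk' M₀ x = 1 from
        (QuotientGroup.eq_one_iff x).2 (h0 (Subgroup.mem_zpowers x)), orderOf_one]))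
    have h2 := congrArg (Subgroup.map (QuotientGroup.mk' M₀)) htop
    rw [Subgroup.map_sup, QuotientGroup.map_mk'_self, bot_sup_eq, MonoidHom.map_zpowers,
      Subgroup.map_top_of_surjective _ (QuotientGroup.mk'_surjective M₀)] at h2
    rw [Subgroup.index_eq_card, ← hy, ← Nat.card_zpowers, h2, Subgroup.card_top]
  have : Fact r.Prime := ⟨hr⟩
  obtain ⟨x, hx⟩ := hsub M₀ (fun h0 => hr.one_lt.ne (by rw [← hM₀i, h0, Subgroup.index_top]))
  set H' := MulAut.conj x • H with hH'
  have hH'nil : Group.IsNilpotent H' := by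
    have := hH
    exact Group.nilpotent_of_mulEquiv (Subgroup.equivSMul (MulAut.conj x) H)
  have hH'c : Nat.card H' = Nat.card H := Cfsg.Agent.SolvBasic.card_conjSmul x H
  have hH'i : H'.index = H.index := Cfsg.Agent.SolvBasic.index_conjSmul x H
  -- the `r'`-part of `M₀`
  set M' := M₀.map K.subtype with hM'
  have hM₀nil : Group.IsNilpotent M₀ := by
    have := hH'nil
    have : Group.IsNilpotent M' := Group.nilpotent_of_mulEquiv (Subgroup.subgroupOfEquivOfLe hx)
    exact Group.nilpotent_of_mulEquiv (M₀.equivMapOfInjective _ K.subtype_injective).symm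
  have hsplit : ∀ (N : Type _) [Group N] [Finite N], Group.IsNilpotent N →
      Cfsg.pCore r N ⊔ Cfsg.pPrimeCore r N = ⊤ := by
    intro N _ _ hN
    refine top_le_iff.1 (le_trans ?_ (Cfsg.Agent.FittingCores.fitting_le_pCore_sup_pPrimeCore hr))
    have := hN
    exact Cfsg.Agent.FittingCores.le_fitting inferInstance inferInstance
  set C₀ := (Cfsg.pPrimeCore r M₀).map M₀.subtype with hC₀
  have hC₀n : C₀.Normal := Cfsg.Agent.FittingCores.normal_map_of_characteristic hM₀n
    (Cfsg.Agent.FittingCores.pPrimeCore_characteristic r)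
  set C := C₀.map K.subtype with hC
  have hCc : (Nat.card C).Coprime r := by
    rw [hC, hC₀, Subgroup.map_map, Subgroup.card_map_of_injective
      (Subtype.val_injective.comp Subtype.val_injective)]
    exact Cfsg.Agent.FittingCores.pPrimeCore_coprime r
  have hCH : C ≤ H' := (Subgroup.map_mono (Subgroup.map_subtype_le _)).trans hx
  have hKC : K ≤ Subgroup.normalizer (C : Set G) := by
    intro k hk
    rw [Cfsg.Agent.SolvBasic.mem_normalizer_iff_conjSmul, hC,
      ← Cfsg.Agent.SolvBasic.map_subtype_conjSmul (⟨k, hk⟩ : K),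
      Cfsg.Agent.SolvBasic.conjSmul_eq_self_of_mem_normalizer
        (show (⟨k, hk⟩ : K) ∈ Subgroup.normalizer (C₀ : Set K) by
          rw [Subgroup.normalizer_eq_top]; trivial)]
  have hCle : C.subgroupOf H' ≤ Cfsg.pPrimeCore r H' := by
    intro y hy
    have := Cfsg.Agent.FittingCores.pPrimeCore_normal (G := H') r
    rw [← QuotientGroup.eq_one_iff, ← orderOf_eq_one_iff]
    set f := QuotientGroup.mk' (Cfsg.pPrimeCore r H')
    have h1 : IsPGroup r (H' ⧸ Cfsg.pPrimeCore r H') := by
      have h2 := congrArg (Subgroup.map f) (hsplit H' hH'nil)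
      rw [Subgroup.map_sup, QuotientGroup.map_mk'_self, sup_bot_eq,
        Subgroup.map_top_of_surjective _ (QuotientGroup.mk'_surjective _)] at h2
      intro z
      obtain ⟨k, hk⟩ := ((Cfsg.Agent.FittingCores.pCore_isPGroup (G := H') r).map f)
        ⟨z, h2.symm ▸ Subgroup.mem_top z⟩
      exact ⟨k, congrArg Subtype.val hk⟩
    obtain ⟨k, hk⟩ := h1 (f y)
    refine Nat.eq_one_of_dvd_coprimes (hCc.pow_right k) ?_ (orderOf_dvd_of_pow_eq_one hk)
    refine (orderOf_map_dvd f y).trans ?_
    rw [← Subgroup.orderOf_coe, ← Subgroup.orderOf_mk (y : G) (show (y : G) ∈ C from hy)]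
    exact orderOf_dvd_natCard _
  obtain ⟨R⟩ := (inferInstance : Nonempty (Sylow r K))
  set S := (Cfsg.pCore r H').map H'.subtype with hSdef
  have hSg : IsPGroup r S := (Cfsg.Agent.FittingCores.pCore_isPGroup r).map _
  have hSi : ¬ r ∣ S.index := by
    have hrH : r ∣ Nat.card H' := hH'c ▸ hK r hr (by rw [← hM₀i]; exact M₀.index_dvd_card)
    rw [hSdef, Subgroup.index_map_subtype]
    intro hd
    rcases hr.dvd_mul.1 hd with hd | hd
    · have h3 := Cfsg.Agent.SolvBasic.card_sup_mul_card_inf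
        (N := Cfsg.pPrimeCore r H') (H := Cfsg.pCore r H') (by
          have := Cfsg.Agent.FittingCores.pPrimeCore_normal (G := H') r
          rw [Subgroup.normalizer_eq_top]; exact le_top)
      rw [sup_comm, hsplit H' hH'nil, Subgroup.card_top, ← (Cfsg.pCore r H').index_mul_card] at h3
      have h4 : (Cfsg.pCore r H').index * Nat.card (Cfsg.pPrimeCore r H' ⊓ Cfsg.pCore r H' : Subgroup H') =
          Nat.card (Cfsg.pPrimeCore r H') :=
        Nat.eq_of_mul_eq_mul_right (Nat.card_pos (α := Cfsg.pCore r H')) (by rw [← h3]; ring)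
      exact hr.one_lt.ne' (Nat.eq_one_of_dvd_coprimes
        (Cfsg.Agent.FittingCores.pPrimeCore_coprime (G := H') r) (h4 ▸ hd.mul_right _) dvd_rfl)
    · exact hr.one_lt.ne' (Nat.eq_one_of_dvd_coprimes (hHall.coprime_dvd_left (hH'c ▸ hrH))
        dvd_rfl (hH'i ▸ hd))
  have hSL : S ≤ Subgroup.normalizer (C : Set G) := by
    refine le_trans (fun s hs => ?_) (Subgroup.centralizer_le_normalizer _)
    obtain ⟨s, hs', rfl⟩ := hs
    rw [Subgroup.mem_centralizer_iff]
    intro y hy
    have h1 := Subgroup.commute_of_normal_of_disjoint _ _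
      (Cfsg.Agent.FittingCores.pCore_normal (G := H') r)
      (Cfsg.Agent.FittingCores.pPrimeCore_normal (G := H') r) (by
        obtain ⟨k, hk⟩ := (Cfsg.Agent.FittingCores.pCore_isPGroup (G := H') r).exists_card_eq
        exact disjoint_iff.2 (Subgroup.eq_bot_of_card_eq _ (Nat.eq_one_of_dvd_coprimes
          ((Cfsg.Agent.FittingCores.pPrimeCore_coprime (G := H') r).symm.pow_left k)
          (hk ▸ Subgroup.card_dvd_of_le inf_le_left) (Subgroup.card_dvd_of_le inf_le_right))))
      _ _ hs' (hCle (show (⟨y, hCH hy⟩ : H') ∈ C.subgroupOf H' from hy))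
    exact (congrArg Subtype.val h1.eq).symm
  set L := Subgroup.normalizer (C : Set G) with hLdef
  let PS : Sylow r L := (hSg.comap_subtype (K := L)).toSylow (fun hd => hSi (hd.trans (by
    change (S.subgroupOf L).index ∣ S.index
    exact Dvd.intro _ (Subgroup.relIndex_mul_index hSL))))
  obtain ⟨Q, hQ⟩ := ((R.isPGroup'.map K.subtype).comap_subtype (K := L)).exists_le_sylow
  obtain ⟨l, hl⟩ := MulAction.exists_smul_eq L PS Q
  have hRm : (R : Subgroup K).map K.subtype ≤ MulAut.conj (l : G) • H' := by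
    intro y hy
    have hyL : y ∈ L := hKC (Subgroup.map_subtype_le _ hy)
    have h1 := hQ (show (⟨y, hyL⟩ : L) ∈ ((R : Subgroup K).map K.subtype).subgroupOf L from hy)
    rw [← hl, Sylow.coe_subgroup_smul, Cfsg.Agent.SolvBasic.mem_conjSmul] at h1
    rw [Cfsg.Agent.SolvBasic.mem_conjSmul]
    exact Subgroup.map_subtype_le _ (show _ ∈ S from h1)
  have hCl : C ≤ MulAut.conj (l : G) • H' :=
    (Cfsg.Agent.SolvBasic.conjSmul_eq_self_of_mem_normalizer l.2).ge.trans
      (Subgroup.pointwise_smul_le_pointwise_smul_iff.2 hCH)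
  have htop : C₀ ⊔ (R : Subgroup K) = ⊤ := by
    have h1 : M₀ ⊔ (R : Subgroup K) = ⊤ := by
      rw [← Subgroup.index_eq_one]
      refine Nat.eq_one_of_dvd_coprimes ((hr.coprime_iff_not_dvd.2 R.not_dvd_index)) ?_
        (Subgroup.index_dvd_of_le le_sup_right)
      conv_rhs => rw [← hM₀i]
      exact Subgroup.index_dvd_of_le le_sup_left
    rw [← top_le_iff, ← h1]
    refine sup_le ?_ le_sup_right
    calc M₀ = (⊤ : Subgroup M₀).map M₀.subtype := by
          rw [← MonoidHom.range_eq_map, Subgroup.range_subtype]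
      _ = (Cfsg.pCore r M₀).map M₀.subtype ⊔ C₀ := by
          rw [← hsplit M₀ hM₀nil, Subgroup.map_sup]
      _ ≤ _ := sup_le (le_trans ?_ le_sup_right) le_sup_left
    exact (Cfsg.Agent.FittingCores.pCore_map_subtype_le r hM₀n).trans
      (Cfsg.Agent.FittingCores.pCore_le_sylow R)
  refine ⟨(l : G) * x, ?_⟩
  rw [← Cfsg.Agent.SolvBasic.conjSmul_conjSmul, ← hH']
  calc K = (⊤ : Subgroup K).map K.subtype := by rw [← MonoidHom.range_eq_map, Subgroup.range_subtype]
    _ = C ⊔ (R : Subgroup K).map K.subtype := by rw [← htop, Subgroup.map_sup]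
    _ ≤ _ := sup_le hCl hRm

end Cfsg.Agent.S0581
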