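import Cfsg.Statements.S3341
import Cfsg.Agent.Lib.Recog.NineA6
-- import your own Cfsg.Agent.* helpers here

set_option autoImplicit false
open Cfsg

namespace Cfsg.Agent.S3341

/-- Let G be a finite simple group whose Sylow 3-subgroup S is elementary abelian of order 9, such that G has more than one conjugacy class of elements of order 3 and C_G(s) = S for every non-identity s in S. Then G is isomorphic to the alternating group of degree 6. -/
theorem result {G : Type*} [Group G] [Finite G] [IsSimpleGroup G]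
    (P : Sylow 3 G) (S : Subgroup G) (hSP : S = P) (hcomm : IsMulCommutative S) (hexp : ∀ a ∈ S, a ^ 3 = 1)
    (hcard : Nat.card S = 9)
    (hclasses : ∃ a b : G, orderOf a = 3 ∧ orderOf b = 3 ∧ ∀ g : G, g * a * g⁻¹ ≠ b)
    (hcent : ∀ s ∈ S, s ≠ 1 → Subgroup.centralizer ({s} : Set G) = S) :
    Nonempty (G ≃* alternatingGroup (Fin 6)) := by
  haveI : Fact (Nat.Prime 3) := ⟨Nat.prime_three⟩
  refine Cfsg.Agent.NineA6.main P hSP ⟨hcard, hexp, hcent, fun a ha => ?_⟩ hclasses
  obtain ⟨U, hU⟩ := (IsPGroup.of_card (p := 3) (n := 1) (by rw [Nat.card_zpowers, ha, pow_one]) :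
    IsPGroup 3 (Subgroup.zpowers a)).exists_le_sylow
  obtain ⟨g, hg⟩ := MulAction.exists_smul_eq G U P
  refine ⟨g, ?_⟩
  rw [hSP, ← hg, Sylow.coe_subgroup_smul]
  exact ⟨a, hU (Subgroup.mem_zpowers a), rfl⟩

end Cfsg.Agent.S3341
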