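import Cfsg.Statements.S2093
import Cfsg.Agent.Lib.SchurMult.Surj
import Cfsg.Agent.Lib.SchurMult.Bound
import Cfsg.Agent.Lib.SchurMult.Sp62Hom
import Cfsg.Agent.Lib.Compute.IndSpec
import Cfsg.Agent.Lib.Schur.Congr
import Cfsg.Agent.Lib.SchurMult.SP62I2Cert
import Cfsg.Agent.Lib.SchurMult.SP62P2Cert
import Cfsg.Agent.Lib.SchurMult.SP62P3Cert
import Cfsg.Agent.Lib.SchurMult.SP62P5Cert
import Cfsg.Agent.Lib.SchurMult.SP62P7Cert

-- import your own Cfsg.Agent.* helpers here

set_option autoImplicit false
open Cfsg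

namespace Cfsg.Agent.S2093

/-- Exceptional Schur multiplier: over the field with 2 elements, PSp₆ has Schur multiplier cyclic of order 2 (here the Schur multiplier is described through stem extensions, as in the definitions). -/
theorem result {F : Type*} [Field F] [Fintype F] (hF : Fintype.card F = 2) : Cfsg.HasCyclicSchurMultiplier (Cfsg.PSp 3 F) 2 := by
  obtain ⟨φ, hφ, hr⟩ := SchurMult.exists_sp62_hom hF
  set Q := ↥(Matrix.symplecticGroup (Fin 3) F)
  have e : Q ≃* PermCert.genGroup 6 63 SchurMult.sp62Gens :=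
    (MonoidHom.ofInjective hφ).trans (MulEquiv.subgroupCongr hr)
  have : Finite Q := Finite.of_injective φ hφ
  have hle : Nat.card (Schur.Multiplier Q) ≤ 2 := by
    refine (SchurMult.card_le φ hφ hr [(2835, 2), (17920, 1), (290304, 1), (207360, 1)] ?_ (by decide)).trans (by decide)
    intro i hi
    simp only [List.mem_cons, List.not_mem_nil, or_false] at hi
    rcases hi with rfl | rfl | rfl | rfl
    · exact SchurMult.certified_of SchurMult.sp62_cert SchurMult.sp62P2_base SchurMult.sp62P2_rows SchurMult.sp62P2_rels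
        SchurMult.sp62P2_derived SchurMult.sp62P2_orders SchurMult.sp62P2_ext
    · exact SchurMult.certified_of SchurMult.sp62_cert SchurMult.sp62P3_base SchurMult.sp62P3_rows SchurMult.sp62P3_rels
        SchurMult.sp62P3_derived SchurMult.sp62P3_orders SchurMult.sp62P3_ext
    · exact SchurMult.certified_of SchurMult.sp62_cert SchurMult.sp62P5_base SchurMult.sp62P5_rows SchurMult.sp62P5_rels
        SchurMult.sp62P5_derived SchurMult.sp62P5_orders SchurMult.sp62P5_ext
    · exact SchurMult.certified_of SchurMult.sp62_cert SchurMult.sp62P7_base SchurMult.sp62P7_rows SchurMult.sp62P7_rels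
        SchurMult.sp62P7_derived SchurMult.sp62P7_orders SchurMult.sp62P7_ext
  obtain ⟨X, _, σ, hs, hcen, v, hv⟩ := PermInd.exists_extension SchurMult.sp62_cert SchurMult.sp62I2_base
    SchurMult.sp62I2_cosets SchurMult.sp62I2_wits SchurMult.sp62I2_words SchurMult.sp62I2_span
  have hker : (e.symm.toMonoidHom.comp σ).ker = σ.ker := MonoidHom.ker_mulEquiv_comp σ e.symm
  obtain ⟨f, hf⟩ : ∃ f : Schur.Multiplier Q →* Multiplicative (ZMod 2 × ZMod 1), Function.Surjective f :=
    SchurMult.exists_surj (e.symm.toMonoidHom.comp σ) (e.symm.surjective.comp hs) (hker.le.trans hcen)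
      (v.comp (Subgroup.inclusion (inf_le_inf_right _ hker.le)))
      (hv.comp fun z => ⟨⟨z, hker.ge z.2.1, z.2.2⟩, rfl⟩)
  have hc : Subgroup.center Q = ⊥ := Subgroup.eq_bot_of_card_eq _ (by
    rw [ClassicalSp.card_center_sp (by norm_num), Nat.card_eq_fintype_card, hF]; rfl)
  let g : Multiplicative (ZMod 2 × ZMod 1) →* Multiplicative (ZMod 2) :=
    AddMonoidHom.toMultiplicative (AddMonoidHom.fst _ _)
  have hg : Function.Surjective g := fun c => ⟨Multiplicative.ofAdd (Multiplicative.toAdd c, 0), rfl⟩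
  have hm2 := SchurMult.hasSchurMultiplier_of_surj (f := g.comp f) (hg.comp hf) (hle.trans (by simp))
  refine Schur.hasSchurMultiplier_iff.2 ?_
  obtain ⟨a⟩ := Schur.multiplierEquiv hm2
  obtain ⟨b⟩ := Schur.multiplierEquiv_of_mulEquiv
    ((QuotientGroup.quotientMulEquivOfEq hc).trans QuotientGroup.quotientBot).symm
  exact ⟨b.symm.trans a⟩

end Cfsg.Agent.S2093
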