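import Cfsg.Statements.S1678
import Cfsg.Agent.Lib.CoThreeSp6.Complete
import Cfsg.Agent.Lib.CoThreeSp6.Fusion
import Cfsg.Agent.Lib.CoThreeInvol.Finish

set_option autoImplicit false
open Cfsg

namespace Cfsg.Agent.S1678

/-- The third Conway group from an involution centraliser: let G be a finite group with no non-trivial normal subgroup of odd order and trivial centre, having an involution t whose centraliser is a non-split double cover of the symplectic group Sp(6, 2). Then G is isomorphic to the third Conway group (the stabiliser in the Leech lattice automorphism group of a vector of the second shortest length). -/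
theorem result {G : Type*} [Group G] [Finite G] (hO : Cfsg.oddCore G = ⊥) (hZ : Subgroup.center G = ⊥) (t : G) (ht : orderOf t = 2) (hC : Cfsg.IsNonsplitDoubleCover (Subgroup.centralizer ({t} : Set G)) (Matrix.symplecticGroup (Fin 3) (ZMod 2))) : Cfsg.Spor.IsoCo3 G := by
  obtain ⟨φ, s, ct, cu, hct, hφt, hφu, hs, hst⟩ := CoThreeSp6.exists_swap t ht hC hO hZ
  obtain ⟨S, -, hrel⟩ := CoThreeSp6.exists_relators t CoThreeSp6.card_modelC φ s ct cu hct hφt hφu hs hst
  obtain ⟨H, hle, ⟨e⟩⟩ := CoThreeSp6.complete S hrel CoThreeSp6.card_modelC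
  have hcard : Nat.card (Subgroup.centralizer ({t} : Set G)) = 2903040 :=
    (Nat.card_congr φ.toEquiv).trans CoThreeSp6.card_modelC
  have htop : H = ⊤ := CoThreeInvol.eq_top_of_co3 t ht H hle e hcard
  obtain ⟨f⟩ := SporPerm.co3_equiv
  exact ⟨((MulEquiv.subgroupCongr htop).trans Subgroup.topEquiv).symm.trans (e.trans f.symm)⟩

end Cfsg.Agent.S1678
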