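import Cfsg.Statements.S1620
import Cfsg.Agent.Lib.J2.Rank3
import Cfsg.Agent.Lib.J2.Group

set_option autoImplicit false
open Quaternion
open Cfsg

namespace Cfsg.Agent.S1620

/-- The Hall–Janko group is simple and non-abelian. -/
theorem result : IsSimpleGroup Cfsg.Spor.J2 ∧ ∃ a b : Cfsg.Spor.J2, a * b ≠ b * a := by
  haveI := J2.isSimple_P100
  refine ⟨J2.j2Equiv.isSimpleGroup, ?_⟩
  by_contra hc
  simp only [not_exists, not_not] at hc
  have hcomm : ∀ a b : J2.P100, a * b = b * a := fun a b =>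
    J2.j2Equiv.symm.injective (by rw [map_mul, map_mul]; exact hc _ _)
  have hbot : J2.H100 = ⊥ := by
    rw [Subgroup.eq_bot_iff_forall]
    intro h hh
    obtain ⟨hP, h0⟩ := (J2.mem_H100 h).1 hh
    refine Equiv.ext fun x => ?_
    obtain ⟨g, hg, rfl⟩ := J2.transitive x
    have e := congrArg (fun z : J2.P100 => (z : Equiv.Perm (Fin 100)) 0) (hcomm ⟨h, hP⟩ ⟨g, hg⟩)
    simpa [h0] using e
  have := J2.card_H100
  rw [hbot, Subgroup.card_bot] at this
  norm_num at this

end Cfsg.Agent.S1620
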