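import Cfsg.Statements.S5433
import Mathlib.GroupTheory.Sylow

set_option autoImplicit false
open Cfsg

namespace Cfsg.Agent.S5433

/-- Let Q be a large extraspecial 2-subgroup of the finite group G (extraspecial; centralizer equal to its centre; normal in the centralizer of its centre; normalizing no non-trivial subgroup of odd order), and L a normal subgroup of G containing Q. Then G is the product of L and the normalizer of Q. -/
theorem result {G : Type*} [Group G] [Finite G] (Q : Subgroup G) (hQ : Cfsg.IsLargeExtraspecial Q) (L : Subgroup G) [L.Normal] (hQL : Q ≤ L) : L ⊔ Subgroup.normalizer (Q : Set G) = ⊤ := by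
  haveI : Fact (Nat.Prime 2) := ⟨Nat.prime_two⟩
  obtain ⟨hE, hC, hN, -⟩ := hQ
  have hQp : IsPGroup 2 ↥(Q.subgroupOf L) := hE.1.1.of_equiv (Subgroup.subgroupOfEquivOfLe hQL).symm
  obtain ⟨P, hP⟩ := hQp.exists_le_sylow
  have hQP : Q ≤ (P : Subgroup ↥L).map L.subtype := fun q hq =>
    ⟨⟨q, hQL hq⟩, hP hq, rfl⟩
  rw [eq_top_iff, ← Sylow.normalizer_sup_eq_top P, sup_comm]
  refine sup_le_sup le_rfl fun g hg => hN ?_
  -- the centre of P is the centre of Q
  intro z hz
  have hz2 : Nat.card ↥((Subgroup.center ↥Q).map Q.subtype) = 2 := by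
    rw [Subgroup.card_map_of_injective Q.subtype_injective]; exact hE.2
  set S := (P : Subgroup ↥L).map L.subtype with hS
  have hSp : IsPGroup 2 ↥S := P.isPGroup'.map _
  haveI : Nontrivial ↥S := by
    have h2 := Subgroup.card_le_of_le (Subgroup.map_subtype_le (H := Q) (Subgroup.center ↥Q) |>.trans hQP)
    rw [hz2] at h2
    exact Finite.one_lt_card_iff_nontrivial.1 h2
  haveI := hSp.center_nontrivial
  have hle : (Subgroup.center ↥S).map S.subtype ≤ (Subgroup.center ↥Q).map Q.subtype := by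
    rw [← hC]
    rintro _ ⟨⟨x, hx⟩, hxc, rfl⟩ q hq
    exact congrArg Subtype.val (Subgroup.mem_center_iff.1 hxc ⟨q, hQP hq⟩)
  have heq : (Subgroup.center ↥S).map S.subtype = (Subgroup.center ↥Q).map Q.subtype := by
    refine Subgroup.eq_of_le_of_card_ge hle ?_
    rw [hz2, Subgroup.card_map_of_injective S.subtype_injective]
    exact Finite.one_lt_card_iff_nontrivial.2 inferInstance
  have hsq : ∀ x, x ∈ (Subgroup.center ↥Q).map Q.subtype → x = 1 ∨ x = z ∨ z = 1 := by
    intro x hx
    by_contra hne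
    push Not at hne
    have : ({1, x, z} : Set G).ncard ≤ Nat.card ↥((Subgroup.center ↥Q).map Q.subtype) := by
      rw [← SetLike.coe_sort_coe, Nat.card_coe_set_eq]
      refine Set.ncard_le_ncard ?_ (Set.toFinite _)
      intro y hy
      rcases hy with rfl | rfl | rfl
      exacts [one_mem _, hx, hz]
    rw [hz2, Set.ncard_insert_of_notMem (by simp [Ne.symm hne.1, Ne.symm hne.2.2]) (Set.toFinite _),
      Set.ncard_pair hne.2.1] at this
    omega
  have hconj : g * z * g⁻¹ ∈ (Subgroup.center ↥Q).map Q.subtype := by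
    have hgS : ∀ y, y ∈ S ↔ g * y * g⁻¹ ∈ S := Subgroup.mem_normalizer_iff.1 hg
    rw [← heq] at hz ⊢
    obtain ⟨⟨x, hx⟩, hxc, rfl⟩ := hz
    refine ⟨⟨g * x * g⁻¹, (hgS x).1 hx⟩, Subgroup.mem_center_iff.2 fun ⟨y, hy⟩ => Subtype.ext ?_, rfl⟩
    have hy' : g⁻¹ * y * g ∈ S := (hgS _).2 (by simpa [mul_assoc] using hy)
    have h := congrArg Subtype.val (Subgroup.mem_center_iff.1 hxc ⟨_, hy'⟩)
    simp only [Subgroup.coe_mul, Subgroup.coe_subtype] at h ⊢
    calc y * (g * x * g⁻¹) = g * ((g⁻¹ * y * g) * x) * g⁻¹ := by group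
      _ = g * (x * (g⁻¹ * y * g)) * g⁻¹ := by rw [h]
      _ = g * x * g⁻¹ * y := by group
  show z * g = g * z
  rcases hsq _ hconj with h | h | h
  · rw [mul_inv_eq_one, mul_eq_left] at h; simp [h]
  · rw [mul_inv_eq_iff_eq_mul] at h; exact h.symm
  · simp [h]

end Cfsg.Agent.S5433
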