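import Cfsg.Statements.S5436
import Cfsg.Agent.Lib.LargeExtra.Pair
import Cfsg.Agent.S5433

set_option autoImplicit false
open Cfsg

namespace Cfsg.Agent.S5436
open Cfsg.Agent.LargeExtra Subgroup

/-- Let z be an involution of the finite group G with centralizer H whose generalized Fitting subgroup Q is extraspecial of width at least 2 (order 2^(2w+1), w ≥ 2); suppose some conjugate of z other than z lies in Q, H/Q is a non-abelian simple group, H acts irreducibly by conjugation on Q modulo the subgroup generated by z (the only H-invariant subgroups of Q containing z are that subgroup and Q), and Q is not the subgroup generated by the conjugates of z lying in H. Then G is simple. -/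
theorem result {G : Type*} [Group G] [Finite G] (z : G) (hz : orderOf z = 2) (Q : Subgroup (Subgroup.centralizer ({z} : Set G))) [Q.Normal] (hF : Cfsg.generalizedFittingSubgroup ↥(Subgroup.centralizer ({z} : Set G)) = Q) (hQ : Cfsg.IsExtraspecial 2 ↥Q) (w : ℕ) (hw : 2 ≤ w) (hcard : Nat.card ↥Q = 2 ^ (2 * w + 1)) (hnwc : ∃ g : G, (∃ hq : g * z * g⁻¹ ∈ Subgroup.centralizer ({z} : Set G), (⟨g * z * g⁻¹, hq⟩ : Subgroup.centralizer ({z} : Set G)) ∈ Q) ∧ g * z * g⁻¹ ≠ z) (hsimp : IsSimpleGroup (↥(Subgroup.centralizer ({z} : Set G)) ⧸ Q)) (hna : ¬ IsMulCommutative (↥(Subgroup.centralizer ({z} : Set G)) ⧸ Q)) (hirr : ∀ W : Subgroup (Subgroup.centralizer ({z} : Set G)), W.Normal → W ≤ Q → (W = Q ∨ ∀ x ∈ W, (x : G) ∈ Subgroup.zpowers z)) (hwcl : Subgroup.closure {x : Subgroup.centralizer ({z} : Set G) | IsConj z (x : G)} ≠ Q) : IsSimpleGroup G := by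
  let e : Q ≃* Q.map (centralizer ({z} : Set G)).subtype := Q.equivMapOfInjective _ (Subgroup.subtype_injective _)
  haveI : Fact (Nat.Prime 2) := ⟨Nat.prime_two⟩
  have h : XSLocal (Q.map (centralizer ({z} : Set G)).subtype) z :=
    XSLocal.of_fstar hz (by rw [hF]) (Qd.isExtraspecial_congr e.symm hQ)
  obtain ⟨g, ⟨hq, hgQ⟩, hne⟩ := hnwc
  have P : Pair (Q.map (centralizer ({z} : Set G)).subtype) z g := ⟨h, by
    rw [Nat.card_congr e.symm.toEquiv, hcard]
    exact le_trans (by norm_num) (Nat.pow_le_pow_right two_pos (show 5 ≤ 2 * w + 1 by omega)), ⟨_, hgQ, rfl⟩, hne⟩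
  have hL := P.large
  haveI : Nontrivial G := ⟨⟨z, 1, h.ne_one⟩⟩
  refine ⟨fun N hN => ?_⟩
  rw [or_iff_not_imp_left]
  intro hbot
  have hzN : z ∈ N := h.mem_of_normal hL le_normalizer_of_normal hbot
  set W := N.subgroupOf (centralizer ({z} : Set G)) with hW
  haveI : W.Normal := Normal.subgroupOf hN (centralizer ({z} : Set G))
  have hxW : (⟨g * z * g⁻¹, hq⟩ : (centralizer ({z} : Set G))) ∈ W := hN.conj_mem z hzN g
  have hQW : Q ≤ W := by
    rcases hirr (W ⊓ Q) inferInstance inf_le_right with e1 | e1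
    · exact inf_eq_right.1 e1
    · rcases h.mem_zpowers_iff.1 (e1 _ ⟨hxW, hgQ⟩) with e2 | e2
      · exact absurd e2 P.h'.ne_one
      · exact absurd e2 hne
  have hWT : W = ⊤ := by
    haveI := hsimp
    have hn : (W.map (QuotientGroup.mk' Q)).Normal :=
      Normal.map inferInstance _ (QuotientGroup.mk'_surjective Q)
    rcases hn.eq_bot_or_eq_top with e1 | e1
    · exfalso
      have hWQ : W = Q := le_antisymm (fun a ha => (QuotientGroup.eq_one_iff a).1 <| by
        have : QuotientGroup.mk' Q a ∈ W.map (QuotientGroup.mk' Q) := mem_map_of_mem _ ha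
        rwa [e1, mem_bot] at this) hQW
      apply hwcl
      set D := closure {x : (centralizer ({z} : Set G)) | IsConj z (x : G)} with hD
      have hDW : D ≤ W := (closure_le _).2 fun x hx => by
        obtain ⟨c, hc⟩ := isConj_iff.1 hx
        show (x : G) ∈ N
        exact hc ▸ hN.conj_mem z hzN c
      refine le_antisymm (hWQ ▸ hDW) ?_
      have hDn : D.Normal := by
        refine ⟨fun d hd c => ?_⟩
        have hle : D ≤ D.comap (MulAut.conj c).toMonoidHom :=
          (closure_le _).2 fun x hx => subset_closure (IsConj.trans hx (isConj_iff.2 ⟨c, rfl⟩))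
        exact hle hd
      rcases hirr D hDn (hWQ ▸ hDW) with e2 | e2
      · exact e2.ge
      · exfalso
        rcases h.mem_zpowers_iff.1 (e2 _ (subset_closure (show IsConj z ((⟨g * z * g⁻¹, hq⟩ : (centralizer ({z} : Set G))) : G) from
          isConj_iff.2 ⟨g, rfl⟩))) with e3 | e3
        · exact P.h'.ne_one e3
        · exact hne e3
    · refine eq_top_iff.2 fun a _ => ?_
      obtain ⟨b, hb, hba⟩ : QuotientGroup.mk' Q a ∈ W.map (QuotientGroup.mk' Q) := e1 ▸ mem_top _
      have h2 := QuotientGroup.eq.1 hba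
      simpa using mul_mem hb (hQW h2)
  have hCN : (centralizer ({z} : Set G)) ≤ N := subgroupOf_eq_top.1 hWT
  have hfr := Cfsg.Agent.S5433.result (Q.map (centralizer ({z} : Set G)).subtype) hL N ((map_subtype_le Q).trans hCN)
  rwa [sup_eq_left.2 (h.normalizer_le.trans hCN)] at hfr

end Cfsg.Agent.S5436
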