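import Cfsg.Statements.S0938
import Cfsg.Agent.Lib.Blocks.KernelBlock
import Cfsg.Agent.Lib.Blocks.Section

set_option autoImplicit false
open Cfsg

namespace Cfsg.Agent.S0938

/-- Let B be a block of the finite group G relative to a maximal ideal M of the algebraic integers containing the prime p, and let χ ∈ B. Then the kernel of B (the set of g with ψ g = ψ 1 for all ψ ∈ B) is a normal subgroup of order prime to p contained in the kernel of χ, and it contains every normal subgroup of order prime to p on which χ takes the value χ(1); that is, it is O_p' of the kernel of χ. -/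
theorem result {G : Type*} [Group G] [Finite G] (p : ℕ) [Fact p.Prime] (M : Ideal Cfsg.AlgInt) (hM : Cfsg.IsPModular p M) (B : Set (Cfsg.IrrCharacter G)) (hB : Cfsg.IsPBlock M B) (χ : Cfsg.IrrCharacter G) (hχ : χ ∈ B) : ∃ K : Subgroup G, K.Normal ∧ (K : Set G) = Cfsg.blockKer B ∧ ¬ p ∣ Nat.card K ∧ (∀ g ∈ K, (χ : G → ℂ) g = (χ : G → ℂ) 1) ∧ ∀ N : Subgroup G, N.Normal → ¬ p ∣ Nat.card N → (∀ g ∈ N, (χ : G → ℂ) g = (χ : G → ℂ) 1) → N ≤ K := by
  classical
  haveI : Fintype G := Fintype.ofFinite _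
  haveI : M.IsPrime := hM.2.1.isPrime
  haveI := Fact.mk hM.1
  choose K hKn hKm hK using fun ψ : Cfsg.IrrCharacter G => Cfsg.Agent.CharX.exists_ker ψ
  let L : Subgroup G := ⨅ ψ ∈ B, K ψ
  have hL : ∀ g : G, g ∈ L ↔ g ∈ Cfsg.blockKer B := fun g => by
    simp only [L, Subgroup.mem_iInf, hKm, Cfsg.blockKer, Set.mem_setOf_eq]
  have hLn : L.Normal := ⟨fun n hn c => by
    simp only [L, Subgroup.mem_iInf] at hn ⊢
    exact fun ψ hψ => (hKn ψ).conj_mem n (hn ψ hψ) c⟩
  refine ⟨L, hLn, Set.ext hL, ?_, fun g hg => (hL g).1 hg χ hχ, ?_⟩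
  · intro hdvd
    obtain ⟨⟨x, hxL⟩, hx⟩ := exists_prime_orderOf_dvd_card' (G := L) p hdvd
    rw [Subgroup.orderOf_mk] at hx
    have hx1 : x ≠ 1 := fun e => hM.1.ne_one (by rw [← hx, e, orderOf_one])
    have h0 : Cfsg.Agent.Blocks.blockPair B x 1 = 0 := by
      refine Cfsg.Agent.Blocks.blockPair_eq_zero_of_pPart hM hB (g := x) (x := x) ?_
        ((Cfsg.Agent.Blocks.isPPart_one_iff hM.1).2 (by simpa using hM.1.ne_one))
        fun h => hx1 (isConj_one_left.1 h)
      exact ⟨1, mul_one _, Commute.one_right _, ⟨1, by rw [hx, pow_one]⟩, by simpa using hM.1.ne_one⟩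
    have h1 : Cfsg.Agent.Blocks.blockPair B x 1 =
        ((∑ ψ ∈ Finset.univ.filter (· ∈ B),
          Cfsg.charDegree (ψ : G → ℂ) * Cfsg.charDegree (ψ : G → ℂ) : ℕ) : ℂ) := by
      unfold Cfsg.Agent.Blocks.blockPair
      rw [Nat.cast_sum]
      refine Finset.sum_congr (by congr) fun ψ hψ => ?_
      rw [(hL x).1 hxL ψ (Finset.mem_filter.1 hψ).2, Cfsg.Agent.Blocks.irr_one_eq_charDegree ψ,
        map_natCast, Nat.cast_mul]
    rw [h1, Nat.cast_eq_zero, Finset.sum_eq_zero_iff] at h0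
    have := h0 χ (Finset.mem_filter.2 ⟨Finset.mem_univ _, hχ⟩)
    exact (Nat.mul_pos (Cfsg.Agent.Blocks.charDegree_pos χ) (Cfsg.Agent.Blocks.charDegree_pos χ)).ne' this
  · intro N hN hNp hker n hn
    haveI := hN
    refine (hL n).2 fun ψ hψ => ?_
    exact Cfsg.Agent.Blocks.trivialOn_of_sameBlock hM N hNp
      (Cfsg.Agent.Blocks.isPBlock_sameBlock hB hχ hψ) hker n hn

end Cfsg.Agent.S0938
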