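import Cfsg.Statements.S1968
import Cfsg.Agent.Lib.Functors.Families

set_option autoImplicit false
set_option linter.style.haveILetI false
set_option linter.unusedVariables false
open Cfsg

namespace Cfsg.Agent.S1968

/-- Let p be a prime, G a finite group with Sylow p-subgroup S and W a conjugacy functor for p on G with Z(P) ≤ W(P) for every p-subgroup P. Let A be a subgroup of Z(S) normalized by N_G(W(S)) that is not weakly closed in S with respect to G. Then there is a subgroup T of S, well placed in S with respect to W, such that: A ≤ T; N_G(W(N_S(T))) normalizes A; N_S(T) is a Sylow p-subgroup of N_G(T); A ≤ Z(N_S(T)); and A is not weakly closed in N_S(T) with respect to N_G(T), that is, some N_G(T)-conjugate of A other than A lies in N_S(T). -/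
theorem result {G : Type*} [Group G] [Finite G] {p : ℕ} [Fact p.Prime] (S : Sylow p G) (W : Subgroup G → Subgroup G) (hW : Cfsg.IsConjugacyFunctor p W) (hWZ : ∀ P : Subgroup G, IsPGroup p ↥P → P ⊓ Subgroup.centralizer (P : Set G) ≤ W P) (A : Subgroup G) (hAZ : A ≤ (S : Subgroup G) ⊓ Subgroup.centralizer ((S : Subgroup G) : Set G)) (hAN : Subgroup.normalizer ((W (S : Subgroup G) : Subgroup G) : Set G) ≤ Subgroup.normalizer ((A : Subgroup G) : Set G)) (hnwc : ¬ Cfsg.IsWeaklyClosed A (S : Subgroup G)) : ∃ T : Subgroup G, Cfsg.IsWellPlaced p W (S : Subgroup G) T ∧ A ≤ T ∧ Subgroup.normalizer ((W ((S : Subgroup G) ⊓ Subgroup.normalizer ((T : Subgroup G) : Set G)) : Subgroup G) : Set G) ≤ Subgroup.normalizer ((A : Subgroup G) : Set G) ∧ ¬ p ∣ ((S : Subgroup G) ⊓ Subgroup.normalizer ((T : Subgroup G) : Set G)).relIndex (Subgroup.normalizer ((T : Subgroup G) : Set G)) ∧ A ≤ Subgroup.centralizer (((S : Subgroup G) ⊓ Subgroup.normalizer ((T : Subgroup G) : Set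 G) : Subgroup G) : Set G) ∧ ∃ g ∈ Subgroup.normalizer ((T : Subgroup G) : Set G), A.map (MulAut.conj g).toMonoidHom ≤ (S : Subgroup G) ⊓ Subgroup.normalizer ((T : Subgroup G) : Set G) ∧ A.map (MulAut.conj g).toMonoidHom ≠ A := by
  classical
  have hP : ∀ T : Subgroup G, IsPGroup p ↥((S : Subgroup G) ⊓ Subgroup.normalizer (T : Set G)) :=
    fun T => S.isPGroup'.to_le inf_le_left
  obtain ⟨hAS, hAC⟩ := le_inf_iff.1 hAZ
  obtain ⟨g, hgS, hgne⟩ : ∃ g : G, A.map (Cfsg.Agent.Functors.cj g) ≤ (S : Subgroup G) ∧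
      A.map (Cfsg.Agent.Functors.cj g) ≠ A := by
    by_contra hc
    exact hnwc ⟨hAS, fun g hg => by_contra fun hne => hc ⟨g, hg, hne⟩⟩
  set 𝒯 := {T : Subgroup G | Cfsg.IsWellPlaced p W (S : Subgroup G) T ∧ A ≤ T ∧
    ¬ Subgroup.normalizer (T : Set G) ≤ Subgroup.normalizer (A : Set G)} with h𝒯
  have hne : 𝒯.Nonempty := by
    have hch := Cfsg.Agent.Functors.chain_of_extremal
      (𝓕 := {T : Subgroup G | Cfsg.IsWellPlaced p W (S : Subgroup G) T}) S (fun U hU => hU.1)
      (fun T hT => by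
        obtain ⟨k, hk, -⟩ := Cfsg.Agent.Functors.exists_wellPlaced S hW hT
        exact ⟨_, hk, ⟨k, rfl⟩, Cfsg.Agent.Functors.IsWellPlaced.extremal S.isPGroup' hk⟩)
      (A := (A : Set G)) (g := g⁻¹) hAS
      (by rintro _ ⟨a, ha, rfl⟩; exact hgS ⟨a, ha, by simp [Cfsg.Agent.Functors.cj_apply]⟩)
    rcases hch.exists_moving with h | ⟨T, hT, hAT, x, hx, hxA⟩
    · rw [inv_inv, Cfsg.Agent.Functors.cj_image_coe, SetLike.coe_set_eq] at h
      exact absurd h hgne
    · refine ⟨T, hT, hAT, fun hle => hxA ?_⟩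
      rw [Cfsg.Agent.Functors.cj_image_coe, Cfsg.Agent.Functors.map_cj_eq_iff.2 (hle hx)]
  obtain ⟨T, ⟨hTwp, hAT, hTmove⟩, hmax⟩ := (Set.toFinite 𝒯).exists_maximalFor
    (fun T : Subgroup G => Nat.card ↥((S : Subgroup G) ⊓ Subgroup.normalizer (T : Set G))) 𝒯 hne
  have hAP : A ≤ Subgroup.centralizer (((S : Subgroup G) ⊓ Subgroup.normalizer (T : Set G) : Subgroup G) : Set G) :=
    hAC.trans (Subgroup.centralizer_le (fun x hx => (Subgroup.mem_inf.1 hx).1))
  refine ⟨T, hTwp, hAT, ?_, hTwp.2 0, hAP, ?_⟩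
  · by_contra hbad
    have hwp1 : Cfsg.IsWellPlaced p W (S : Subgroup G)
        (W ((S : Subgroup G) ⊓ Subgroup.normalizer (T : Set G))) :=
      Cfsg.Agent.Functors.IsWellPlaced.shift hW S.isPGroup' hTwp
    have hA1 : A ≤ W ((S : Subgroup G) ⊓ Subgroup.normalizer (T : Set G)) :=
      (le_inf (le_inf hAS (hAT.trans Subgroup.le_normalizer)) hAP).trans (hWZ _ (hP T))
    have hmono := Cfsg.Agent.Functors.towerNorm_mono hW S.isPGroup' T 0
    have heq : Cfsg.Agent.Functors.towerNorm W (S : Subgroup G) T (0 + 1) =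
        Cfsg.Agent.Functors.towerNorm W (S : Subgroup G) T 0 :=
      (Subgroup.eq_of_le_of_card_ge hmono (hmax ⟨hwp1, hA1, hbad⟩ (Subgroup.card_le_of_le hmono))).symm
    have hS : (S : Subgroup G) ⊓ Subgroup.normalizer (T : Set G) = (S : Subgroup G) :=
      Cfsg.Agent.Functors.towerNorm_eq_of_stationary hW S.isPGroup' heq
    rw [hS] at hbad
    exact hbad hAN
  · obtain ⟨x, hx, hxA⟩ := SetLike.not_le_iff_exists.1 hTmove
    refine ⟨x, hx, le_inf ?_ ?_, fun he => hxA (Cfsg.Agent.Functors.map_cj_eq_iff.1 he)⟩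
    · exact ((Subgroup.map_mono hAT).trans (Cfsg.Agent.Functors.map_cj_eq_iff.2 hx).le).trans hTwp.1
    · exact ((Subgroup.map_mono hAT).trans (Cfsg.Agent.Functors.map_cj_eq_iff.2 hx).le).trans
        Subgroup.le_normalizer

end Cfsg.Agent.S1968
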