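import Cfsg.Statements.S2799
import Cfsg.Agent.Lib.Functors.Offender2

set_option autoImplicit false
set_option linter.style.haveILetI false
set_option linter.unusedVariables false
open Cfsg

namespace Cfsg.Agent.S2799

/-- Let S be a Sylow p-subgroup of the finite group G, J(S) the subgroup generated by the abelian subgroups of S of largest order, and x an element of S lying in the centre of N_G(J(S)). Assume that p is odd, or that x is a p-th power of an element of Z(S), or that the symmetric group of degree 4 is not involved in G. Then x is weakly closed in S with respect to G: every G-conjugate of x that lies in S equals x. -/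
theorem result {G : Type*} [Group G] [Finite G] {p : ℕ} [Fact p.Prime] (S : Sylow p G) (x : G) (hxS : x ∈ (S : Subgroup G)) (hxZ : x ∈ (Subgroup.center ↥(Subgroup.normalizer ((Cfsg.thompsonSubgroupAOf (S : Subgroup G)) : Set G))).map (Subgroup.normalizer ((Cfsg.thompsonSubgroupAOf (S : Subgroup G)) : Set G)).subtype) (h : p ≠ 2 ∨ (∃ z ∈ (S : Subgroup G) ⊓ Subgroup.centralizer ((S : Subgroup G) : Set G), z ^ p = x) ∨ ¬ Cfsg.Involves (Equiv.Perm (Fin 4)) G) : ∀ g : G, g * x * g⁻¹ ∈ (S : Subgroup G) → g * x * g⁻¹ = x := by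
  set N := Subgroup.normalizer ((Cfsg.thompsonSubgroupAOf (S : Subgroup G)) : Set G) with hN
  obtain ⟨y, hy, hyx⟩ := hxZ
  have hNC : N ≤ Subgroup.centralizer ({x} : Set G) := fun n hn => by
    rw [Cfsg.Agent.Functors.mem_centralizer_singleton, mul_inv_eq_iff_eq_mul]
    have h1 := congrArg Subtype.val (Subgroup.mem_center_iff.1 hy ⟨n, hn⟩)
    rw [← hyx]
    exact h1
  have hN' : Subgroup.normalizer ((Cfsg.Agent.ZJ.jSub p False (S : Subgroup G)) : Set G) = N := by
    rw [hN, Cfsg.Agent.JQuad.thompsonSubgroupAOf_eq (p := p)]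
  intro g hg
  have key : Cfsg.Agent.Functors.LocCentral p (fun P : Subgroup G => Cfsg.Agent.ZJ.jSub p False P) →
      g * x * g⁻¹ = x := fun hloc =>
    Cfsg.Agent.Functors.weakClosureElem_of_central Cfsg.Agent.JQuad.isConjugacyFunctor_J
      (fun P _ => Cfsg.Agent.JQuad.center_le_J P) hloc ⊤ (S : Subgroup G)
      (Cfsg.Agent.Functors.isSylowIn_sylow S) x hxS (by rw [hN']; exact inf_le_right.trans hNC)
      g (Subgroup.mem_top g) hg
  by_cases hp : p = 2
  swap
  · exact key (Cfsg.Agent.Functors.locCentral_of_locKill (Cfsg.Agent.JQuad.locKill_J hp))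
  rcases h with h | ⟨z, hz, hzx⟩ | h
  · exact absurd hp h
  · refine (Cfsg.Agent.Functors.zPow_conclusions Cfsg.Agent.JQuad.isConjugacyFunctor_J
      (fun P _ => Cfsg.Agent.JQuad.center_le_J P) Cfsg.Agent.JQuad.locQuad_J S).1 x
      (Subgroup.mem_inf.2 ⟨Subgroup.subset_closure ⟨z, hz, hzx⟩, Subgroup.mem_centralizer_iff.2 fun n hn => ?_⟩) g hg
    have hn' : n ∈ N := hN' ▸ hn
    exact mul_inv_eq_iff_eq_mul.1 (Cfsg.Agent.Functors.mem_centralizer_singleton.1 (hNC hn'))
  · subst hp
    exact key (Cfsg.Agent.Offender2.locCentral_J h)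

end Cfsg.Agent.S2799
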