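import Cfsg.Statements.S0077
import Cfsg.Agent.Lib.Transfer.Fusion

set_option autoImplicit false
set_option linter.style.haveILetI false
open Cfsg

namespace Cfsg.Agent.S0077
open scoped Pointwise commutatorElement
open Cfsg.Agent
theorem weakly_closed_fusion {G : Type*} [Group G] [Finite G] {p : ℕ} [Fact p.Prime] (P : Sylow p G)
    (Z : Subgroup G) (hZ : Z ≤ Subgroup.centralizer (P : Set G)) (hW : Cfsg.IsWeaklyClosed Z P)
    (x : G) (hx : x ∈ P) (g : G) (hy : g * x * g⁻¹ ∈ P) :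
    ∃ v ∈ Subgroup.normalizer (Z : Set G), v * x * v⁻¹ = g * x * g⁻¹ := by
  set y := g * x * g⁻¹ with hy'
  set C := Subgroup.centralizer ({y} : Set G) with hC
  have hZC : Z ≤ C := by
    intro z hz w hw
    rw [Set.mem_singleton_iff.1 hw]
    exact hZ hz y hy
  have hgZC : Z.map (MulAut.conj g).toMonoidHom ≤ C := by
    rintro _ ⟨z, hz, rfl⟩ w hw
    rw [Set.mem_singleton_iff.1 hw]
    have := hZ hz x hx
    simp only [MulEquiv.coe_toMonoidHom, MulAut.conj_apply, hy']
    calc g * x * g⁻¹ * (g * z * g⁻¹) = g * (x * z) * g⁻¹ := by group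
      _ = g * (z * x) * g⁻¹ := by rw [this]
      _ = g * z * g⁻¹ * (g * x * g⁻¹) := by group
  have hZp : IsPGroup p Z := P.isPGroup'.to_le hW.1
  obtain ⟨S, hS⟩ := (hZp.comap_subtype (K := C)).exists_le_sylow
  obtain ⟨T, hT⟩ := ((hZp.map (MulAut.conj g).toMonoidHom).comap_subtype (K := C)).exists_le_sylow
  obtain ⟨c, rfl⟩ := MulAction.exists_smul_eq C S T
  obtain ⟨R, hR⟩ := S.exists_comap_subtype_eq
  obtain ⟨h, rfl⟩ := MulAction.exists_smul_eq G P R
  set a := (c : G) * h with ha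
  have hmem : ∀ u : G, u ∈ C → (MulAut.conj (c : G))⁻¹ u ∈ ((h • P : Sylow p G) : Subgroup G) →
      u ∈ ((a • P : Sylow p G) : Subgroup G) := by
    intro u _ hu
    rw [ha, mul_smul, Sylow.coe_subgroup_smul, Subgroup.mem_pointwise_smul_iff_inv_smul_mem]
    exact hu
  have hZh : Z ≤ ((h • P : Sylow p G) : Subgroup G) := fun z hz => by
    have : (⟨z, hZC hz⟩ : C) ∈ ((h • P : Sylow p G) : Subgroup G).comap C.subtype := by
      rw [hR]; exact hS (show (⟨z, hZC hz⟩ : C) ∈ Z.subgroupOf C from hz)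
    exact this
  have hgZ : Z.map (MulAut.conj g).toMonoidHom ≤ ((a • P : Sylow p G) : Subgroup G) := by
    intro u hu
    apply hmem u (hgZC hu)
    have h1 : (⟨u, hgZC hu⟩ : C) ∈ ((c • S : Sylow p C) : Subgroup C) :=
      hT (show (⟨u, hgZC hu⟩ : C) ∈ (Z.map _).subgroupOf C from hu)
    rw [Sylow.coe_subgroup_smul, Subgroup.mem_pointwise_smul_iff_inv_smul_mem, ← hR] at h1
    rw [← map_inv]
    rw [← map_inv] at h1
    exact h1
  have key : ∀ k b : G, Z.map (MulAut.conj k).toMonoidHom ≤ ((b • P : Sylow p G) : Subgroup G) →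
      b⁻¹ * k ∈ Subgroup.normalizer (Z : Set G) := by
    intro k b hkb
    rw [Subgroup.mem_normalizer_iff_map_conj_eq]
    apply hW.2
    rintro _ ⟨z, hz, rfl⟩
    have h1 := hkb ⟨z, hz, rfl⟩
    rw [Sylow.coe_subgroup_smul, Subgroup.mem_pointwise_smul_iff_inv_smul_mem, ← map_inv] at h1
    simpa [mul_assoc] using h1
  have h1 : h⁻¹ * 1 ∈ Subgroup.normalizer (Z : Set G) := key 1 h (by
    rintro _ ⟨z, hz, rfl⟩
    simpa using hZh hz)
  have h2 : a⁻¹ * g ∈ Subgroup.normalizer (Z : Set G) := key g a hgZ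
  refine ⟨(c : G)⁻¹ * g, ?_, ?_⟩
  · have h3 := mul_mem (inv_mem h1) h2
    simpa [ha, mul_assoc] using h3
  · have hc : y * (c : G) = (c : G) * y := c.2 y rfl
    calc (c : G)⁻¹ * g * x * ((c : G)⁻¹ * g)⁻¹ = (c : G)⁻¹ * (y * (c : G)) := by rw [hy']; group
      _ = y := by rw [hc]; group

/-- If a subgroup Z of the centre of a Sylow p-subgroup P is weakly closed in P, then P meets the derived subgroup of G exactly where it meets the derived subgroup of the normalizer of Z. -/
theorem result {G : Type*} [Group G] [Finite G] {p : ℕ} [Fact p.Prime] (P : Sylow p G) (Z : Subgroup G) (hZ : Z ≤ Subgroup.centralizer (P : Set G)) (hW : Cfsg.IsWeaklyClosed Z P) : commutator G ⊓ (P : Subgroup G) = ⁅Subgroup.normalizer (Z : Set G), Subgroup.normalizer (Z : Set G)⁆ ⊓ (P : Subgroup G) := by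
  refine Fusion.commutator_inf_eq_of_controlsFusion P _ ?_ fun x hx g hy =>
    weakly_closed_fusion P Z hZ hW x hx g hy
  intro x hx
  rw [Subgroup.mem_normalizer_iff]
  intro z
  constructor
  · intro hz
    rw [hZ hz x hx]
    simpa using hz
  · intro hz
    have := hZ hz x hx
    have h2 : x * (x * z * x⁻¹) * x⁻¹ = x * z * x⁻¹ := by rw [this]; group
    have h3 : x * z * x⁻¹ = z := mul_left_cancel (mul_right_cancel h2)
    rwa [h3] at hz


end Cfsg.Agent.S0077
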