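import Cfsg.Statements.S0732
import Cfsg.Agent.Lib.Perm.DegreePrimeRegular
import Cfsg.Agent.Lib.Small.SharpEven
import Cfsg.Agent.Lib.Small.SharpOdd
import Cfsg.Agent.Lib.Small.DegreePrimeSuccData
import Cfsg.Agent.Lib.Classical.ProjLine

set_option autoImplicit false
open Cfsg

namespace Cfsg.Agent.S0732

/-- A transitive permutation group on `p + 1` points (`p` prime) of order `(p+1) p d` with `d < p` is isomorphic to `PGL(2,p)` with `d = p - 1`, or to `PSL(2,p)` with `2d = p - 1`, or else `p + 1 = 2^q` for a prime `q`, `d = 1` or `d = q`, and the group is permutation-isomorphic to a group of semi-affine maps `x ↦ a φ(x) + b` of the field with `2^q` elements. -/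
theorem result {α : Type*} [Fintype α] [DecidableEq α] {p d : ℕ} (hp : p.Prime) (hα : Fintype.card α = p + 1) (G : Subgroup (Equiv.Perm α)) [MulAction.IsPretransitive G α] (hG : Nat.card G = (p + 1) * p * d) (hd : d < p) : (d = p - 1 ∧ Nonempty (G ≃* Matrix.ProjGenLinGroup (Fin 2) (ZMod p))) ∨ (2 * d = p - 1 ∧ Nonempty (G ≃* Matrix.ProjectiveSpecialLinearGroup (Fin 2) (ZMod p))) ∨ (∃ q : ℕ, q.Prime ∧ p + 1 = 2 ^ q ∧ (d = 1 ∨ d = q) ∧ ∃ e : α ≃ GaloisField 2 q, ∀ g : G, (e.symm.trans (((g : Equiv.Perm α)).trans e)) ∈ Cfsg.semiaffineGroup (GaloisField 2 q)) := by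
  classical
  have : Fact p.Prime := ⟨hp⟩
  have hαn : Nat.card α = p + 1 := by rw [Nat.card_eq_fintype_card, hα]
  have hd0 : 0 < d := by
    rcases Nat.eq_zero_or_pos d with rfl | h
    · rw [mul_zero] at hG; exact absurd hG Nat.card_pos.ne'
    · exact h
  by_cases hp2 : p = 2
  · subst hp2
    have hd1 : d = 1 := by omega
    subst hd1
    left
    refine ⟨rfl, ?_⟩
    have htop : G = ⊤ := Subgroup.eq_top_of_card_eq _ (by
      rw [hG, Nat.card_perm, hαn]; rfl)
    have h3 : MulAction.IsMultiplyPretransitive G α 3 := by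
      refine ⟨fun x y => ?_⟩
      have hx := (Fintype.bijective_iff_injective_and_card x).2 ⟨x.injective, by rw [Fintype.card_fin, hα]⟩
      have hy := (Fintype.bijective_iff_injective_and_card y).2 ⟨y.injective, by rw [Fintype.card_fin, hα]⟩
      refine ⟨⟨(Equiv.ofBijective x hx).symm.trans (Equiv.ofBijective y hy), by rw [htop]; trivial⟩,
        Function.Embedding.ext fun i => ?_⟩
      show (Equiv.ofBijective y hy) ((Equiv.ofBijective x hx).symm (x i)) = y i
      rw [Equiv.ofBijective_symm_apply_apply x hx i]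
      rfl
    have hs : ∀ x : Fin 3 ↪ α, MulAction.stabilizer G x = ⊥ := fun x => by
      rw [Subgroup.eq_bot_iff_forall]
      intro g hg
      have hx := (Fintype.bijective_iff_injective_and_card x).2 ⟨x.injective, by rw [Fintype.card_fin, hα]⟩
      refine Subtype.ext (Equiv.ext fun b => ?_)
      obtain ⟨i, rfl⟩ := hx.2 b
      exact congrArg (fun y : Fin 3 ↪ α => y i) (MulAction.mem_stabilizer_iff.1 hg)
    obtain ⟨e⟩ := Cfsg.Agent.SharpEven.equiv_pgl (G := G) (α := α) (f := 1) le_rfl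
      (by rw [hαn]; rfl) (Cfsg.Agent.SharpEven.sharp3_of_pretransitive h3 hs)
    obtain ⟨e'⟩ := Cfsg.Agent.SharpEven.pgl_congr (GaloisField.equivZmodP 2).toRingEquiv
    exact ⟨e.trans e'⟩
  obtain ⟨S⟩ := Cfsg.Agent.DegPlusOne.exists_base (G := G) hp hαn hG hd
  by_cases hR : ∃ N : Subgroup G, N.Normal ∧ ∀ x y : α, ∃! n, n ∈ N ∧ n • x = y
  · obtain ⟨N, hN, hreg⟩ := hR
    obtain ⟨q, h1, h2, h3, e, he⟩ := Cfsg.Agent.DegPlusOne.regular_case S hp2 hαn hd0 N hN hreg
    exact Or.inr (Or.inr ⟨q, h1, h2, h3, e, he⟩)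
  have hodd : p % 2 = 1 := Nat.odd_iff.1 (hp.odd_of_ne_two hp2)
  have h3 : 3 ≤ p := by have := hp.two_le; omega
  have h2t := S.two_transitive
  have hd2 : 2 ≤ d := by
    by_contra h
    obtain rfl : d = 1 := by omega
    have hS : Cfsg.Agent.SharpFour.SharpK G α 2 := by
      refine ⟨h2t, fun x => ?_⟩
      have hbij : Function.Bijective (fun g : G => g • x) := by
        refine (Nat.bijective_iff_surjective_and_card _).2 ⟨fun y => h2t.exists_smul_eq x y, ?_⟩
        rw [hG, mul_one, Nat.card_eq_fintype_card, Fintype.card_embedding_eq, Fintype.card_fin, hα,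
          Nat.descFactorial_succ, Nat.descFactorial_one, Nat.add_sub_cancel, mul_comm]
      rw [Subgroup.eq_bot_iff_forall]
      exact fun g hg => hbij.1 (hg.trans (one_smul G x).symm)
    obtain ⟨r, j, N, -, -, -, hN, -, -, -, -, -, hreg⟩ := Cfsg.Agent.PermSharp.exists_regular_normal
      h2t (by omega) (Cfsg.Agent.PermSharp.sharp_of_stabilizer G hS.sharp)
    exact hR ⟨N, hN, hreg⟩
  have hZ : Cfsg.IsZassenhausGroup G α := by
    refine ⟨inferInstance, h2t, fun g a b c hab hbc hac ha hb hc =>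
      S.three_fixed g a b c hab hbc hac ha hb hc, ?_, fun N hN htr => ?_⟩
    · obtain ⟨b, hb⟩ : ∃ b : α, b ≠ S.a := by
        have : Nontrivial α := Finite.one_lt_card_iff_nontrivial.1 (by omega)
        exact exists_ne S.a
      let D := MulAction.stabilizer (MulAction.stabilizer G S.a) b
      have hD : D ≠ ⊥ := by
        intro hbot
        have h := D.card_mul_index
        rw [hbot, Subgroup.card_bot, one_mul, S.card_stab, ← hbot, MulAction.index_stabilizer] at h
        have hle : (MulAction.orbit (MulAction.stabilizer G S.a) b).ncard ≤ p + 1 :=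
          hαn ▸ Set.ncard_le_card _
        have h2 : 3 * 2 ≤ p * d := Nat.mul_le_mul h3 hd2
        have h4 : p * 2 ≤ p * d := Nat.mul_le_mul_left p hd2
        omega
      obtain ⟨⟨x, hx⟩, hx1⟩ := Subgroup.ne_bot_iff_exists_ne_one.1 hD
      exact ⟨(x : G), fun e => hx1 (Subtype.ext (Subtype.ext e)), S.a, b, hb.symm, x.2, hx⟩
    · by_contra hc
      push Not at hc
      refine hR ⟨N, hN, fun x y => ?_⟩
      obtain ⟨n, hn⟩ := htr.exists_smul_eq x y
      refine ⟨n, ⟨n.2, hn⟩, fun m hm => ?_⟩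
      have hmem : (⟨m, hm.1⟩⁻¹ * n : N) ∈ MulAction.stabilizer N x := by
        rw [MulAction.mem_stabilizer_iff, mul_smul, hn, inv_smul_eq_iff]
        exact hm.2.symm
      rw [hc x, Subgroup.mem_bot, inv_mul_eq_one] at hmem
      exact congrArg Subtype.val hmem
  have hU : Subgroup.zpowers S.g ≤ MulAction.stabilizer G S.a :=
    Subgroup.zpowers_le.2 S.g_fix
  rcases Cfsg.Agent.S0731.result hZ S.a (Subgroup.zpowers S.g) hU
      ⟨fun u hu x => S.normal x x.2 u hu⟩ inferInstance (fun y z hy hz => by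
        obtain ⟨u, ⟨hu, he⟩, huniq⟩ := S.trans y z hy hz
        exact ⟨⟨u, hu⟩, he, fun v hv => Subtype.ext (huniq v ⟨v.2, hv⟩)⟩) with ⟨h3t, hsh⟩ | ⟨K, _, _, hK2, ⟨eK⟩⟩
  · left
    have hcard := (⟨h3t, hsh⟩ : Cfsg.Agent.SharpFour.SharpK G α 3).card_eq (by omega)
    rw [hG, hαn, Nat.descFactorial_succ, Nat.descFactorial_succ, Nat.descFactorial_one] at hcard
    have hd' : d = p - 1 := by
      have h1 : (p + 1) * p * d = (p + 1) * p * (p - 1) := by
        rw [hcard, show p + 1 - 2 = p - 1 by omega, show p + 1 - 1 = p by omega]; ring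
      exact Nat.eq_of_mul_eq_mul_left (Nat.mul_pos (Nat.succ_pos p) hp.pos) h1
    refine ⟨hd', ?_⟩
    obtain ⟨e⟩ := Cfsg.Agent.SharpOdd.equiv_pgl (G := G) (α := α) hp2 (f := 1) odd_one
      (by rw [hαn, pow_one]) (Cfsg.Agent.SharpEven.sharp3_of_pretransitive h3t hsh)
    obtain ⟨e'⟩ := Cfsg.Agent.SharpEven.pgl_congr (GaloisField.equivZmodP p).toRingEquiv
    exact ⟨e.trans e'⟩
  · right; left
    have hKc := Cfsg.Agent.ProjLine.two_mul_card_psl (F := K)
    rw [← Nat.card_congr eK.toEquiv, hG] at hKc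
    set q := Nat.card K with hqdef
    have hq1 : 1 < q := Finite.one_lt_card
    have hqodd : q % 2 = 1 := by
      rw [hqdef, Nat.card_eq_fintype_card]
      exact FiniteField.odd_card_of_char_ne_two hK2
    have hgcd : Nat.gcd 2 (q - 1) = 2 := Nat.gcd_eq_left (Nat.dvd_of_mod_eq_zero (by omega))
    rw [hgcd] at hKc
    have hkey : 2 * ((p + 1) * p * d) = q * (q - 1) * (q + 1) := by
      refine Nat.eq_of_mul_eq_mul_right (show 0 < q - 1 by omega) ?_
      rw [hKc]; ring
    clear_value q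
    have hqp : q = p := by
      have hdvd : p ∣ q * (q - 1) * (q + 1) := hkey ▸ ⟨2 * ((p + 1) * d), by ring⟩
      have hdle : d * (p + 1) * p ≤ (p - 1) * (p + 1) * p := by
        gcongr; omega
      obtain ⟨m, rfl⟩ : ∃ m, q = 2 * m + 1 := ⟨q / 2, by omega⟩
      obtain ⟨t, rfl⟩ : ∃ t, p = 2 * t + 1 := ⟨p / 2, by omega⟩
      rw [show 2 * m + 1 - 1 = 2 * m by omega] at hdvd hkey
      rw [show 2 * t + 1 - 1 = 2 * t by omega] at hdle
      have key : 2 * t ≤ m → False := fun h => by
        have h5 := Nat.mul_le_mul (Nat.mul_le_mul (show 4 * t + 1 ≤ 2 * m + 1 by omega)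
          (show 4 * t ≤ 2 * m by omega)) (show 4 * t + 2 ≤ 2 * m + 1 + 1 by omega)
        have ht : 1 ≤ t := by omega
        have h6 : (4 * t + 1) * (4 * t) * (4 * t + 2) ≤ 2 * (2 * t * (2 * t + 1 + 1) * (2 * t + 1)) :=
          calc _ ≤ _ := h5
            _ = 2 * (d * (2 * t + 1 + 1) * (2 * t + 1)) := by rw [← hkey]; ring
            _ ≤ _ := Nat.mul_le_mul_left 2 hdle
        nlinarith [h6, Nat.mul_le_mul ht ht]
      rcases hp.dvd_mul.1 hdvd with h | h
      · rcases hp.dvd_mul.1 h with h | h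
        · obtain ⟨r, hr⟩ := h
          rcases Nat.lt_or_ge r 2 with hr2 | hr2
          · interval_cases r <;> omega
          · exfalso
            have : 2 * (2 * t + 1) ≤ 2 * m + 1 := by rw [hr]; nlinarith
            exact key (by omega)
        · exfalso
          have hp' : 2 * t + 1 ∣ m := (hp.dvd_mul.1 h).resolve_left fun h2 => by
            have := Nat.le_of_dvd (by norm_num) h2; omega
          have := Nat.le_of_dvd (by omega) hp'
          exact key (by omega)
      · exfalso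
        have hp' : 2 * t + 1 ∣ m + 1 := (hp.dvd_mul.1 (show 2 * t + 1 ∣ 2 * (m + 1) by
          rwa [show 2 * (m + 1) = 2 * m + 1 + 1 by ring])).resolve_left fun h2 => by
            have := Nat.le_of_dvd (by norm_num) h2; omega
        have := Nat.le_of_dvd (by omega) hp'
        exact key (by omega)
    rw [hqp] at hkey
    have hd' : 2 * d = p - 1 := by
      have h1 : (2 * d) * ((p + 1) * p) = (p - 1) * ((p + 1) * p) := by
        calc (2 * d) * ((p + 1) * p) = 2 * ((p + 1) * p * d) := by ring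
          _ = _ := by rw [hkey]; ring
      exact Nat.eq_of_mul_eq_mul_right (Nat.mul_pos (Nat.succ_pos p) hp.pos) h1
    refine ⟨hd', ?_⟩
    have hcK : Fintype.card K = Fintype.card (ZMod p) := by
      rw [ZMod.card, ← Nat.card_eq_fintype_card, ← hqdef, hqp]
    obtain ⟨e'⟩ := Cfsg.Agent.PSucc.psl_congr (FiniteField.ringEquivOfCardEq hcK)
    exact ⟨eK.trans e'⟩

end Cfsg.Agent.S0732
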