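import Cfsg.Statements.S3972
import Mathlib
import Cfsg.Agent.Lib.Recog.SchurRing

set_option autoImplicit false
set_option linter.style.haveILetI false

set_option autoImplicit false
open Cfsg

namespace Cfsg.Agent.S3972

/-- Let `p` be a prime, `m ≥ 2`, and `G` a transitive but not doubly transitive permutation group on `p ^ m` points containing a permutation of order `p ^ m` (necessarily a full cycle). Then `G` is imprimitive, and the normal closure in `G` of the `p ^ (m - 1)`-th power of that permutation is an intransitive normal subgroup. -/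
theorem result {Ω : Type*} [Fintype Ω] [DecidableEq Ω] (p m : ℕ) (hp : p.Prime) (hm : 2 ≤ m) (hΩ : Fintype.card Ω = p ^ m) (G : Subgroup (Equiv.Perm Ω)) (htr : MulAction.IsPretransitive G Ω) (h2 : ¬ MulAction.IsMultiplyPretransitive G Ω 2) (g : G) (hg : orderOf g = p ^ m) : ¬ MulAction.IsPreprimitive G Ω ∧ ¬ MulAction.IsPretransitive (Subgroup.normalClosure ({g ^ (p ^ (m - 1))} : Set G)) Ω := by
  classical
  haveI := Fact.mk hp
  haveI := htr
  have hnat : Nat.card Ω = p ^ m := by rw [Nat.card_eq_fintype_card, hΩ]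
  haveI : Nonempty Ω := Fintype.card_pos_iff.1 (by rw [hΩ]; exact pow_pos hp.pos m)
  have hm1 : p ^ (m - 1) * p = p ^ m := by rw [← pow_succ]; congr 1; omega
  set C := Subgroup.zpowers g with hC
  have hgc : ∀ c : C, ∀ x : Ω, (c : G) • x = c • x := fun _ _ => rfl
  -- some orbit has full length
  obtain ⟨a, ha⟩ : ∃ a : Ω, g ^ p ^ (m - 1) • a ≠ a := by
    by_contra hne
    push Not at hne
    have h1 : g ^ p ^ (m - 1) = 1 := Subtype.ext (Equiv.ext fun x => hne x)
    have h2 := Nat.le_of_dvd (pow_pos hp.pos _) (hg ▸ orderOf_dvd_of_pow_eq_one h1)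
    have h3 : p ^ (m - 1) < p ^ m := Nat.pow_lt_pow_right hp.one_lt (by omega)
    omega
  have hCc : Nat.card C = p ^ m := by rw [Nat.card_zpowers, hg]
  have hstab : MulAction.stabilizer C a = ⊥ := by
    rw [Subgroup.eq_bot_iff_forall]
    rintro ⟨c, hc⟩ hca
    obtain ⟨i, rfl⟩ : ∃ i : ℕ, g ^ i = c := by
      have := mem_powers_iff_mem_zpowers.2 hc
      exact this
    have hi : g ^ i • a = a := hca
    by_contra hne
    have hgi : g ^ i ≠ 1 := fun e => hne (Subtype.ext e)
    obtain ⟨e, f, hf, hef⟩ := Nat.exists_eq_pow_mul_and_not_dvd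
      (fun h0 : i = 0 => hgi (by rw [h0, pow_zero])) p hp.ne_one
    have he : e ≤ m - 1 := by
      by_contra hlt
      refine hgi (orderOf_dvd_iff_pow_eq_one.1 ?_)
      rw [hg, hef]
      exact Dvd.dvd.mul_right (pow_dvd_pow p (by omega)) f
    refine ha ?_
    -- `g ^ p ^ (m - 1)` is a power of `g ^ i`
    obtain ⟨j, hj⟩ : g ^ p ^ (m - 1) ∈ Subgroup.zpowers (g ^ i) := by
      obtain ⟨n, hn⟩ := exists_pow_eq_self_of_coprime (x := g ^ p ^ e) (n := f) (by
        refine Nat.Coprime.coprime_dvd_right (orderOf_pow_dvd (p ^ e)) ?_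
        rw [hg]
        exact Nat.Coprime.pow_right m (Nat.Coprime.symm (hp.coprime_iff_not_dvd.2 hf)))
      have : g ^ p ^ (m - 1) = ((g ^ i) ^ n) ^ p ^ (m - 1 - e) := by
        rw [hef, pow_mul g (p ^ e) f, hn, ← pow_mul, ← pow_add]; congr 2; omega
      rw [this]
      exact pow_mem (pow_mem (Subgroup.mem_zpowers _) _) _
    rw [← hj]
    have : g ^ i ∈ MulAction.stabilizer G a := hi
    exact Subgroup.zpow_mem _ this j
  have hfull : MulAction.orbit C a = Set.univ := by
    refine Set.eq_of_subset_of_ncard_le (Set.subset_univ _) ?_ (Set.toFinite _)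
    rw [← MulAction.index_stabilizer, hstab, Subgroup.index_bot, hCc, Set.ncard_univ, hnat]
  haveI hCtr : MulAction.IsPretransitive C Ω := ⟨fun x y => by
    obtain ⟨c, hc⟩ := (hfull ▸ Set.mem_univ x : x ∈ MulAction.orbit C a)
    obtain ⟨d, hd⟩ := (hfull ▸ Set.mem_univ y : y ∈ MulAction.orbit C a)
    refine ⟨d * c⁻¹, ?_⟩
    rw [← hd, ← hc, mul_smul, inv_smul_smul]⟩
  have hfree : ∀ x : Ω, MulAction.stabilizer C x = ⊥ := by
    intro x
    obtain ⟨c, rfl⟩ := MulAction.exists_smul_eq C a x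
    rw [Subgroup.eq_bot_iff_forall]
    intro d hd
    have hd' : d • c • a = c • a := hd
    rw [smul_smul, mul_comm' d c, ← smul_smul] at hd'
    have : d ∈ MulAction.stabilizer C a := (MulAction.injective c) hd'
    rwa [hstab, Subgroup.mem_bot] at this
  have hnp : ¬ MulAction.IsPreprimitive G Ω := fun hprim => h2 <|
    SchurRing.two_transitive_of_regular_cyclic hprim C hCtr hfree (by
      rw [hnat]; exact Nat.Prime.not_prime_pow hm)
  refine ⟨hnp, fun hN => ?_⟩
  haveI : Nontrivial Ω := Fintype.one_lt_card_iff_nontrivial.1 (by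
    rw [hΩ]; exact Nat.one_lt_pow (by omega) hp.one_lt)
  set S := MulAction.stabilizer G a with hS
  have hncoat : ¬ IsCoatom S := fun h => hnp ((MulAction.isCoatom_stabilizer_iff_preprimitive G a).1 h)
  have hStop : S ≠ ⊤ := fun e => ha (MulAction.mem_stabilizer_iff.1 (e ▸ Subgroup.mem_top (g ^ p ^ (m - 1)) :
    g ^ p ^ (m - 1) ∈ S))
  obtain ⟨H, hSH, hHtop⟩ : ∃ H : Subgroup G, S < H ∧ H ≠ ⊤ := by
    by_contra hne
    exact hncoat ⟨hStop, fun H hH => not_not.1 fun h' => hne ⟨H, hH, h'⟩⟩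
  -- `g` permutes the cosets of `H` transitively
  have hdec : ∀ x : G, ∃ i : ℤ, (g ^ i)⁻¹ * x ∈ S := by
    intro x
    obtain ⟨⟨c, i, rfl⟩, hc⟩ := MulAction.exists_smul_eq C a (x • a)
    refine ⟨i, ?_⟩
    show ((g ^ i)⁻¹ * x) • a = a
    rw [mul_smul, ← hc]
    exact inv_smul_smul (g ^ i) a
  obtain ⟨b, hb, hbi⟩ : ∃ b, b ≤ m - 1 ∧ H.index = p ^ b := by
    have hSi : S.index = p ^ m := by rw [hS, MulAction.index_stabilizer_of_transitive, hnat]
    have hmul := Subgroup.relIndex_mul_index hSH.le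
    rw [hSi] at hmul
    obtain ⟨b, hbm, hb⟩ := (Nat.dvd_prime_pow hp).1 (Dvd.intro_left _ hmul : H.index ∣ p ^ m)
    refine ⟨b, ?_, hb⟩
    by_contra hlt
    have hbeq : b = m := by omega
    rw [hb, hbeq] at hmul
    have h1 : S.relIndex H = 1 := Nat.eq_of_mul_eq_mul_right (pow_pos hp.pos m) (hmul.trans (one_mul _).symm)
    exact hSH.not_ge (Subgroup.relIndex_eq_one.1 h1)
  have hcore : g ^ p ^ (m - 1) ∈ H.normalCore := by
    rw [Subgroup.normalCore_eq_ker]
    let π := MulAction.toPermHom G (G ⧸ H)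
    have horb : ∀ q : G ⧸ H, ∃ c : C, c • ((1 : G) : G ⧸ H) = q := by
      intro q
      obtain ⟨x, rfl⟩ := QuotientGroup.mk_surjective q
      obtain ⟨i, hi⟩ := hdec x
      refine ⟨⟨g ^ i, i, rfl⟩, ?_⟩
      show ((g ^ i * 1 : G) : G ⧸ H) = (x : G ⧸ H)
      rw [mul_one]
      exact QuotientGroup.eq.2 (hSH.le hi)
    haveI : MulAction.IsPretransitive C (G ⧸ H) := ⟨fun x y => by
      obtain ⟨c, hc⟩ := horb x
      obtain ⟨d, hd⟩ := horb y
      refine ⟨d * c⁻¹, ?_⟩
      rw [← hd, ← hc, mul_smul, inv_smul_smul]⟩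
    have hidx : (MulAction.stabilizer C ((1 : G) : G ⧸ H)).index = p ^ b := by
      rw [MulAction.index_stabilizer_of_transitive, ← Subgroup.index_eq_card, hbi]
    let gC : C := ⟨g, Subgroup.mem_zpowers g⟩
    haveI : (MulAction.stabilizer C ((1 : G) : G ⧸ H)).Normal := inferInstance
    have hfix0 : gC ^ p ^ (m - 1) ∈ MulAction.stabilizer C ((1 : G) : G ⧸ H) := by
      have h0 := (MulAction.stabilizer C ((1 : G) : G ⧸ H)).pow_index_mem gC
      rw [hidx] at h0
      obtain ⟨k, hk⟩ := pow_dvd_pow p hb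
      rw [hk, pow_mul]
      exact pow_mem h0 k
    refine MonoidHom.mem_ker.2 (Equiv.ext fun q => ?_)
    obtain ⟨c, rfl⟩ := MulAction.exists_smul_eq C ((1 : G) : G ⧸ H) q
    show (gC ^ p ^ (m - 1)) • c • ((1 : G) : G ⧸ H) = c • ((1 : G) : G ⧸ H)
    rw [smul_smul, mul_comm', ← smul_smul, MulAction.mem_stabilizer_iff.1 hfix0]
  have hle : Subgroup.normalClosure ({g ^ p ^ (m - 1)} : Set G) ≤ H :=
    (Subgroup.normalClosure_le_normal (Set.singleton_subset_iff.2 hcore)).trans (Subgroup.normalCore_le H)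
  refine hHtop (eq_top_iff.2 fun x _ => ?_)
  obtain ⟨⟨n, hn⟩, hna⟩ := hN.exists_smul_eq a (x • a)
  have : n⁻¹ * x ∈ S := by
    show (n⁻¹ * x) • a = a
    rw [mul_smul, ← hna]
    exact inv_smul_smul n a
  have := H.mul_mem (hle hn) (hSH.le this)
  rwa [mul_inv_cancel_left] at this

end Cfsg.Agent.S3972
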