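import Cfsg.Statements.S0572
import Mathlib.Algebra.Group.Commute.Hom

set_option autoImplicit false
open scoped Pointwise commutatorElement
open Cfsg

namespace Cfsg.Agent.S0572

/-- Itô's Theorem: if a group G is the product AB of two abelian subgroups, then the commutator subgroup of G is abelian, i.e. the second term of the derived series is trivial. -/
theorem result {G : Type*} [Group G] (A B : Subgroup G) [IsMulCommutative A] [IsMulCommutative B] (hAB : ∀ g : G, ∃ a ∈ A, ∃ b ∈ B, g = a * b) : derivedSeries G 2 = ⊥ := by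
  have key : ∀ a₁ ∈ A, ∀ b₁ ∈ B, ∀ a ∈ A, ∀ b ∈ B, ⁅a₁, b₁⁆ * ⁅a, b⁆ = ⁅a, b⁆ * ⁅a₁, b₁⁆ := by
    intro a₁ ha₁ b₁ hb₁ a ha b hb
    have cA : ∀ u ∈ A, ∀ v ∈ A, u * v = v * u := fun u hu v hv => setLike_mul_comm hu hv
    have cB : ∀ u ∈ B, ∀ v ∈ B, u * v = v * u := fun u hu v hv => setLike_mul_comm hu hv
    obtain ⟨a₂, ha₂, b₂, hb₂, e₁⟩ := hAB (b⁻¹ * a₁ * b)
    obtain ⟨a₃, ha₃, b₃, hb₃, e₂⟩ := hAB (a⁻¹ * b₁ * a)⁻¹
    have e₂' : a⁻¹ * b₁ * a = b₃⁻¹ * a₃⁻¹ := by rw [← mul_inv_rev, ← e₂, inv_inv]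
    have conjc : ∀ (g u v : G), g⁻¹ * ⁅u, v⁆ * g = ⁅g⁻¹ * u * g, g⁻¹ * v * g⁆ := fun g u v => by
      simp [commutatorElement_def, mul_assoc]
    have fixc : ∀ u v : G, u * v = v * u → u⁻¹ * v * u = v := fun u v h => by
      rw [mul_assoc, ← h, inv_mul_cancel_left]
    have right_drop : ∀ u v w : G, v * w = w * v → ⁅u * v, w⁆ = ⁅u, w⁆ := fun u v w h => by
      simp only [commutatorElement_def, mul_inv_rev, mul_assoc]
      rw [← mul_assoc v w, h, mul_assoc, mul_inv_cancel_left]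
    have right_drop' : ∀ u v w : G, u * w = w * u → ⁅u, v * w⁆ = ⁅u, v⁆ := fun u v w h => by
      simp only [commutatorElement_def, mul_inv_rev, mul_assoc]
      rw [← mul_assoc w u⁻¹]
      have : w * u⁻¹ = u⁻¹ * w := by
        rw [eq_inv_mul_iff_mul_eq, ← mul_assoc, h, mul_inv_cancel_right]
      rw [this, mul_assoc, mul_inv_cancel_left]
    have hb₂' : ∀ x ∈ A, a⁻¹ * x * a = x := fun x hx => fixc a x (cA a ha x hx)
    have hb' : ∀ y ∈ B, b⁻¹ * y * b = y := fun y hy => fixc b y (cB b hb y hy)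
    have first : a⁻¹ * (b⁻¹ * ⁅a₁, b₁⁆ * b) * a = ⁅a₂, b₃⁻¹⁆ := by
      rw [conjc b, hb' b₁ hb₁, e₁, right_drop _ _ _ (cB b₂ hb₂ b₁ hb₁), conjc a, hb₂' a₂ ha₂, e₂',
        right_drop' _ _ _ (cA a₂ ha₂ _ (inv_mem ha₃))]
    have second : b⁻¹ * (a⁻¹ * ⁅a₁, b₁⁆ * a) * b = ⁅a₂, b₃⁻¹⁆ := by
      rw [conjc a, hb₂' a₁ ha₁, e₂', right_drop' _ _ _ (cA a₁ ha₁ _ (inv_mem ha₃)), conjc b,
        hb' _ (inv_mem hb₃), e₁, right_drop _ _ _ (cB b₂ hb₂ _ (inv_mem hb₃))]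
    generalize ⁅a₁, b₁⁆ = x at first second ⊢
    rw [← second] at first
    have h : x * (b * a * b⁻¹ * a⁻¹) = (b * a * b⁻¹ * a⁻¹) * x := by
      have h1 := congrArg (fun t => b * a * t * b⁻¹ * a⁻¹) first
      simp only [mul_assoc, mul_inv_cancel_left, inv_mul_cancel_left, mul_inv_cancel,
        inv_mul_cancel, mul_one] at h1 ⊢
      exact h1
    have hinv : ⁅a, b⁆ = (b * a * b⁻¹ * a⁻¹)⁻¹ := by simp [commutatorElement_def, mul_assoc]
    rw [hinv]
    exact mul_inv_eq_iff_eq_mul.2 (by rw [mul_assoc, h, inv_mul_cancel_left])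
  have hgen : IsMulCommutative (⁅A, B⁆ : Subgroup G) := by
    rw [Subgroup.commutator_def]
    refine Subgroup.isMulCommutative_closure ?_
    rintro _ ⟨a₁, ha₁, b₁, hb₁, rfl⟩ _ ⟨a, ha, b, hb, rfl⟩
    exact key a₁ ha₁ b₁ hb₁ a ha b hb
  have hn : (⁅A, B⁆ : Subgroup G).Normal := by
    rw [← Subgroup.normalizer_eq_top_iff, eq_top_iff]
    intro g _
    obtain ⟨a, ha, b, hb, rfl⟩ := hAB g
    exact mul_mem (Subgroup.normalizer_commutator_ge_left A B ha)
      (Subgroup.normalizer_commutator_ge_right A B hb)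
  have hle : commutator G ≤ ⁅A, B⁆ := by
    set C := (⁅A, B⁆ : Subgroup G) with hC
    have hq : ∀ a ∈ A, ∀ b ∈ B,
        Commute (QuotientGroup.mk' C a) (QuotientGroup.mk' C b) := fun a ha b hb => by
      rw [commute_iff_eq, ← commutatorElement_eq_one_iff_mul_comm, ← map_commutatorElement,
        QuotientGroup.mk'_apply, QuotientGroup.eq_one_iff]
      exact Subgroup.commutator_mem_commutator ha hb
    rw [commutator_def, Subgroup.commutator_le]
    intro g₁ _ g₂ _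
    rw [← QuotientGroup.eq_one_iff, ← QuotientGroup.mk'_apply, map_commutatorElement,
      commutatorElement_eq_one_iff_mul_comm]
    obtain ⟨a₁, ha₁, b₁, hb₁, rfl⟩ := hAB g₁
    obtain ⟨a₂, ha₂, b₂, hb₂, rfl⟩ := hAB g₂
    rw [map_mul _ a₁, map_mul _ a₂]
    have c1 : Commute (QuotientGroup.mk' C a₁) (QuotientGroup.mk' C a₂) :=
      Commute.map (show Commute a₁ a₂ from setLike_mul_comm ha₁ ha₂) _
    have c2 : Commute (QuotientGroup.mk' C b₁) (QuotientGroup.mk' C b₂) :=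
      Commute.map (show Commute b₁ b₂ from setLike_mul_comm hb₁ hb₂) _
    exact ((c1.mul_right (hq a₁ ha₁ b₂ hb₂)).mul_left
      ((hq a₂ ha₂ b₁ hb₁).symm.mul_right c2)).eq
  rw [derivedSeries_succ, derivedSeries_one, ← le_bot_iff]
  refine (Subgroup.commutator_mono hle hle).trans (le_bot_iff.2 ?_)
  rw [Subgroup.commutator_eq_bot_iff_le_centralizer, Subgroup.le_centralizer_iff_isMulCommutative]
  exact hgen

end Cfsg.Agent.S0572
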