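import Cfsg.Statements.S0914
import Cfsg.Agent.Lib.Blocks.Degree

set_option autoImplicit false
open Cfsg

namespace Cfsg.Agent.S0914

/-- Let χ be an irreducible character of the finite group G, p a prime and M a maximal ideal of the algebraic integers containing p. Then p does not divide the integer (Nat.card G) / χ(1) if and only if the block of χ relative to M consists of χ alone. -/
theorem result {G : Type*} [Group G] [Finite G] (p : ℕ) [Fact p.Prime] (M : Ideal Cfsg.AlgInt) (hM : Cfsg.IsPModular p M) (χ : Cfsg.IrrCharacter G) : ¬ p ∣ Nat.card G / Cfsg.charDegree (χ : G → ℂ) ↔ Cfsg.blockOf M (χ : G → ℂ) = {χ} := by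
  haveI := Fintype.ofFinite G
  haveI := Cfsg.Agent.Blocks.IsPModular.isPrime hM
  have hp : p.Prime := Fact.out
  have hd := Cfsg.Agent.Blocks.charDegree_dvd_card χ
  have hd0 := (Cfsg.Agent.Blocks.charDegree_pos χ).ne'
  have hle := Cfsg.Agent.Blocks.degExp_le_card (p := p) χ
  have hq : Nat.card G / Cfsg.charDegree (χ : G → ℂ) ≠ 0 :=
    Nat.div_ne_zero_iff.2 ⟨hd0, Nat.le_of_dvd Nat.card_pos hd⟩
  have key : ¬ p ∣ Nat.card G / Cfsg.charDegree (χ : G → ℂ) ↔
      (Cfsg.charDegree (χ : G → ℂ)).factorization p = (Nat.card G).factorization p := by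
    rw [hp.dvd_iff_one_le_factorization hq, Nat.factorization_div hd]
    simp only [Finsupp.coe_tsub, Pi.sub_apply]
    omega
  rw [key]
  exact ⟨Cfsg.Agent.Blocks.blockOf_eq_singleton hM χ, Cfsg.Agent.Blocks.degExp_of_singleton hM χ⟩

end Cfsg.Agent.S0914
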