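import Cfsg.Statements.S0203
import Cfsg.Agent.Lib.Small.KleinFour

set_option autoImplicit false
open Cfsg

namespace Cfsg.Agent.S0203

open Classical in
/-- Either all involutions are conjugate, or the Sylow subgroup is central in its normalizer
and there are three classes. -/
theorem dichotomy {G : Type*} [Group G] [Finite G] (P : Sylow 2 G) (hP : IsKleinFour (P : Subgroup G)) :
    (Nat.card {C : ConjClasses G // ∃ t : G, orderOf t = 2 ∧ ConjClasses.mk t = C} = 1 ∧
      ¬ Subgroup.normalizer ((P : Subgroup G) : Set G) ≤ Subgroup.centralizer (P : Set G)) ∨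
    (Nat.card {C : ConjClasses G // ∃ t : G, orderOf t = 2 ∧ ConjClasses.mk t = C} = 3 ∧
      Subgroup.normalizer ((P : Subgroup G) : Set G) ≤ Subgroup.centralizer (P : Set G)) := by
  haveI : IsKleinFour (P : Subgroup G) := hP
  -- every involution is conjugate into P
  have hinto : ∀ t : G, orderOf t = 2 → ∃ a, a ∈ (P : Subgroup G) ∧ a ≠ 1 ∧ IsConj a t := by
    intro t ht
    obtain ⟨Q, hQ⟩ := (IsPGroup.of_card (n := 1)
      (by rw [Nat.card_zpowers, ht, pow_one]) : IsPGroup 2 (Subgroup.zpowers t)).exists_le_sylow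
    obtain ⟨x, rfl⟩ := MulAction.exists_smul_eq G P Q
    have := hQ (Subgroup.mem_zpowers t)
    rw [Sylow.smul_def, Sylow.pointwise_smul_def, Subgroup.mem_pointwise_smul_iff_inv_smul_mem] at this
    refine ⟨_, this, ?_, isConj_iff.mpr ⟨x, ?_⟩⟩
    · exact fun h => Invol.ne_one ht (smul_left_cancel (MulAut.conj x)⁻¹ (h.trans (smul_one _).symm))
    · simp [mul_assoc]
  have hord : ∀ a ∈ (P : Subgroup G), a ≠ 1 → orderOf a = 2 := fun a ha h1 =>
    Invol.order_two_of_sq (Small.klein_mul_self hP ha) h1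
  let f : {a : (P : Subgroup G) // a ≠ 1} →
      {C : ConjClasses G // ∃ t : G, orderOf t = 2 ∧ ConjClasses.mk t = C} :=
    fun a => ⟨ConjClasses.mk (a.1 : G), (a.1 : G),
      hord _ a.1.2 (fun h => a.2 (Subtype.ext h)), rfl⟩
  have hfs : Function.Surjective f := by
    rintro ⟨C, t, ht, rfl⟩
    obtain ⟨a, ha, ha1, hc⟩ := hinto t ht
    exact ⟨⟨⟨a, ha⟩, fun h => ha1 (congrArg Subtype.val h)⟩,
      Subtype.ext (ConjClasses.mk_eq_mk_iff_isConj.mpr hc)⟩
  have hcard : Nat.card {a : (P : Subgroup G) // a ≠ 1} = 3 := by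
    have := Fintype.ofFinite (P : Subgroup G)
    rw [Nat.card_eq_fintype_card, Fintype.card_subtype_compl, Fintype.card_subtype_eq,
      ← Nat.card_eq_fintype_card, IsKleinFour.card_four]
  by_cases hcen : Subgroup.normalizer ((P : Subgroup G) : Set G) ≤ Subgroup.centralizer (P : Set G)
  · refine Or.inr ⟨?_, hcen⟩
    rw [← hcard]
    refine (Nat.card_congr (Equiv.ofBijective f ⟨fun a b h => ?_, hfs⟩)).symm
    obtain ⟨x, hx⟩ := isConj_iff.mp (ConjClasses.mk_eq_mk_iff_isConj.mp (Subtype.ext_iff.mp h))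
    have hcm : ∀ y ∈ (P : Subgroup G), y ∈ Subgroup.centralizer ((P : Subgroup G) : Set G) :=
      fun y hy => Subgroup.mem_centralizer_iff.mpr fun z hz => (Small.klein_commute hP hz hy).eq
    obtain ⟨n, hn, hn2⟩ := P.conj_eq_normalizer_conj_of_mem_centralizer (a.1 : G) x⁻¹
      (hcm _ a.1.2) (by rw [inv_inv, hx]; exact hcm _ b.1.2)
    refine Subtype.ext (Subtype.ext ?_)
    rw [inv_inv, hx] at hn2
    rw [hn2, (Subgroup.mem_centralizer_iff.mp (hcen (inv_mem hn)) _ a.1.2).symm,
      mul_assoc, inv_mul_cancel, mul_one]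
  · refine Or.inl ⟨?_, hcen⟩
    obtain ⟨g, hg, hgc⟩ := SetLike.not_le_iff_exists.mp hcen
    rw [Subgroup.mem_centralizer_iff] at hgc
    push Not at hgc
    obtain ⟨a, ha, hne⟩ := hgc
    have ha1 : a ≠ 1 := by rintro rfl; simp at hne
    have hne' : g * a * g⁻¹ ≠ a := fun h => hne (mul_inv_eq_iff_eq_mul.mp h).symm
    rw [Nat.card_eq_one_iff_unique]
    refine ⟨⟨fun C D => ?_⟩, ⟨f ⟨⟨a, ha⟩, fun h => ha1 (congrArg Subtype.val h)⟩⟩⟩
    obtain ⟨⟨u, hu⟩, rfl⟩ := hfs C
    obtain ⟨⟨v, hv⟩, rfl⟩ := hfs D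
    refine Subtype.ext (ConjClasses.mk_eq_mk_iff_isConj.mpr ?_)
    exact (Small.transitive_of_moved hP hg ha ha1 hne' u.2 (fun h => hu (Subtype.ext h))).symm.trans
      (Small.transitive_of_moved hP hg ha ha1 hne' v.2 (fun h => hv (Subtype.ext h)))

/-- If a Sylow 2-subgroup P of a finite group G is a Klein four-group, then G has three classes of involutions if and only if P has a normal complement in G. -/
theorem result {G : Type*} [Group G] [Finite G] (P : Sylow 2 G) (hP : IsKleinFour (P : Subgroup G)) : Nat.card {C : ConjClasses G // ∃ t : G, orderOf t = 2 ∧ ConjClasses.mk t = C} = 3 ↔ ∃ N : Subgroup G, N.Normal ∧ Subgroup.IsComplement' N (P : Subgroup G) := by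
  rcases dichotomy P hP with ⟨h1, hnc⟩ | ⟨h3, hc⟩
  · refine iff_of_false (by omega) ?_
    rintro ⟨N, hN, hcomp⟩
    apply hnc
    intro g hg
    rw [Subgroup.mem_centralizer_iff]
    intro a ha
    have hmem : g * a * g⁻¹ * a⁻¹ ∈ N := by
      have hcq : Commute (QuotientGroup.mk' N g) (QuotientGroup.mk' N a) := by
        obtain ⟨⟨u, p⟩, hup⟩ := hcomp.2 g
        simp only at hup
        have hu : QuotientGroup.mk' N (u : G) = 1 := (QuotientGroup.eq_one_iff _).mpr u.2
        rw [← hup, map_mul, hu, one_mul]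
        exact (Small.klein_commute hP p.2 ha).map _
      rw [← QuotientGroup.eq_one_iff]
      change QuotientGroup.mk' N (g * a * g⁻¹ * a⁻¹) = 1
      rw [map_mul, map_mul, map_mul, map_inv, map_inv, hcq.eq, mul_inv_cancel_right, mul_inv_cancel]
    have hmemP : g * a * g⁻¹ * a⁻¹ ∈ (P : Subgroup G) :=
      mul_mem (Small.klein_conj_mem hg ha) (inv_mem ha)
    have := Subgroup.mem_bot.mp (hcomp.disjoint.le_bot ⟨hmem, hmemP⟩)
    exact (mul_inv_eq_iff_eq_mul.mp (mul_inv_eq_one.mp this)).symm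
  · exact iff_of_true h3 ⟨_, MonoidHom.normal_ker _, MonoidHom.ker_transferSylow_isComplement' P hc⟩

end Cfsg.Agent.S0203
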