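import Cfsg.Statements.S0992
import Cfsg.Agent.Lib.Small.KleinFour
import Cfsg.Agent.Lib.Small.Embedding
import Cfsg.Agent.S0203

set_option autoImplicit false
open Cfsg

namespace Cfsg.Agent.S0992

theorem klein_aut_range {G : Type*} [Group G] [Finite G] (T : Sylow 2 G) (hT : IsKleinFour (T : Subgroup G))
    (hnc : ¬ Subgroup.normalizer ((T : Subgroup G) : Set G) ≤ Subgroup.centralizer (T : Set G)) :
    (Subgroup.centralizer ((T : Subgroup G) : Set G)).relIndex
      (Subgroup.normalizer ((T : Subgroup G) : Set G)) = 3 := by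
  classical
  haveI : IsKleinFour (T : Subgroup G) := hT
  set f := (T : Subgroup G).normalizerMonoidHom with hf
  have hrel : (Subgroup.centralizer ((T : Subgroup G) : Set G)).relIndex
      (Subgroup.normalizer ((T : Subgroup G) : Set G)) = Nat.card f.range := by
    rw [← Subgroup.index_ker, Subgroup.normalizerMonoidHom_ker]; rfl
  rw [hrel]
  -- automorphisms permute the three involutions faithfully
  have hsix : Nat.card f.range ∣ 6 := by
    let X := {a : (T : Subgroup G) // a ≠ 1}
    let ψ : MulAut (T : Subgroup G) →* Equiv.Perm X :=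
      { toFun := fun φ => φ.toEquiv.subtypeEquiv (fun a => by simp)
        map_one' := by ext; rfl
        map_mul' := fun _ _ => by ext; rfl }
    have hψ : Function.Injective ψ := by
      intro a b h
      ext x
      by_cases hx : x = 1
      · subst hx; simp
      · exact congrArg (fun σ : Equiv.Perm X => ((σ ⟨x, hx⟩).1 : G)) h
    have h3 : Nat.card X = 3 := by
      have := Fintype.ofFinite (T : Subgroup G)
      rw [Nat.card_eq_fintype_card, Fintype.card_subtype_compl, Fintype.card_subtype_eq,
        ← Nat.card_eq_fintype_card, IsKleinFour.card_four]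
    have h := Subgroup.card_dvd_of_injective (ψ.comp f.range.subtype)
      (hψ.comp Subtype.val_injective)
    rwa [Nat.card_perm, h3] at h
  have hodd : Odd (Nat.card f.range) := by
    have hle : (T : Subgroup G).subgroupOf (Subgroup.normalizer ((T : Subgroup G) : Set G)) ≤ f.ker := by
      intro x hx
      rw [Subgroup.normalizerMonoidHom_ker, Subgroup.mem_subgroupOf, Subgroup.mem_centralizer_iff]
      exact fun y hy => Small.klein_commute hT hy hx
    rw [← Subgroup.index_ker, ← Nat.not_even_iff_odd, even_iff_two_dvd]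
    exact fun h => T.not_dvd_index ((h.trans (Subgroup.index_dvd_of_le hle)).trans
      (Subgroup.relIndex_dvd_index_of_le (Subgroup.le_normalizer (H := (T : Subgroup G)))))
  have hne : Nat.card f.range ≠ 1 := by
    rw [← hrel, Ne, Subgroup.relIndex_eq_one]
    exact hnc
  have hle := Nat.le_of_dvd (by norm_num) hsix
  obtain ⟨k, hk⟩ := hodd
  have hk2 : k ≤ 2 := by omega
  interval_cases k
  · omega
  · omega
  · rw [hk] at hsix; norm_num at hsix

/-- Let G be a non-abelian finite simple group of even order not divisible by 8, and T a Sylow 2-subgroup. Then T is a Klein four-group and the centralizer of T has index 3 in the normalizer of T. -/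
theorem result {G : Type*} [Group G] [Finite G] [IsSimpleGroup G] (hG : ¬ IsMulCommutative G) (h2 : Even (Nat.card G)) (h8 : ¬ 8 ∣ Nat.card G) (T : Sylow 2 G) : IsKleinFour ↥(T : Subgroup G) ∧ (Subgroup.centralizer ((T : Subgroup G) : Set G)).relIndex (Subgroup.normalizer ((T : Subgroup G) : Set G)) = 3 := by
  haveI : Fact (Nat.Prime 2) := ⟨Nat.prime_two⟩
  obtain ⟨k, hk⟩ := IsPGroup.iff_card.mp T.2
  have hk3 : k ≤ 2 := by
    by_contra h
    exact h8 ((pow_dvd_pow 2 (show 3 ≤ k by omega)).trans
      (hk ▸ (T : Subgroup G).card_subgroup_dvd_card))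
  have hnocyc : ¬ IsCyclic (T : Subgroup G) := by
    intro hc
    obtain ⟨H, hH⟩ := Small.exists_index_two_of_cyclic h2 T hc
    have := Small.five_le_index hG (H := H) (by intro e; rw [e] at hH; simp at hH)
    omega
  have hk2 : k = 2 := by
    by_contra hne
    have h1 := Small.one_lt_card_sylow h2.two_dvd T
    have hk1 : k = 1 := by
      rcases k with _ | _ | k
      · rw [hk] at h1; simp at h1
      · rfl
      · omega
    exact hnocyc (isCyclic_of_prime_card (p := 2) (by rw [hk, hk1, pow_one]))
  have h4 : Nat.card (T : Subgroup G) = 4 := by rw [hk, hk2]; norm_num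
  have hexp : ∀ x : (T : Subgroup G), x ^ 2 = 1 := by
    intro x
    have hd : orderOf x ∣ 2 ^ 2 := by
      rw [show (2:ℕ) ^ 2 = 4 by norm_num, ← h4]; exact orderOf_dvd_natCard x
    obtain ⟨j, hj, hjo⟩ := (Nat.dvd_prime_pow Nat.prime_two).mp hd
    rw [← orderOf_dvd_iff_pow_eq_one]
    interval_cases j
    · rw [hjo]; norm_num
    · rw [hjo]; norm_num
    · exact absurd (isCyclic_of_orderOf_eq_card x (by rw [hjo, h4]; norm_num)) hnocyc
  have hK : IsKleinFour (T : Subgroup G) := by
    refine ⟨h4, ?_⟩
    rcases (Nat.dvd_prime Nat.prime_two).mp (Monoid.exponent_dvd_of_forall_pow_eq_one hexp) with h | h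
    · exfalso
      haveI := Monoid.exp_eq_one_iff.mp h
      simp [Nat.card_unique] at h4
    · exact h
  refine ⟨hK, klein_aut_range T hK ?_⟩
  intro hc
  have hp := Small.card_eq_prime_of_central h2.two_dvd T hc
  obtain ⟨c, hc'⟩ := (T : Subgroup G).card_subgroup_dvd_card
  rw [h4, hp] at hc'
  omega

end Cfsg.Agent.S0992
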