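import Cfsg.Statements.S0975
import Cfsg.Agent.Lib.Small.SelfCentral

set_option autoImplicit false
open Cfsg

namespace Cfsg.Agent.S0975

/-- No finite simple group has order 3744 = 2^5 * 3^2 * 13. -/
theorem result {G : Type*} [Group G] [Finite G] [IsSimpleGroup G] : Nat.card G ≠ 3744 := by
  intro hcard
  haveI : Fact (Nat.Prime 13) := ⟨by norm_num⟩
  have hnp : ¬ (Nat.card G).Prime := by rw [hcard]; norm_num
  have hG := Small.not_comm_of_card hnp
  have hd : 13 ∣ Nat.card G := by rw [hcard]; norm_num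
  have hk : Nat.card G = 13 ^ 1 * 288 := by rw [hcard]; norm_num
  have hn := Small.sylow_number_mem hk (by norm_num)
  rw [show (Nat.divisors 288).filter (fun d => d % 13 = 1) = {1, 144} by decide +kernel] at hn
  simp only [Finset.mem_insert, Finset.mem_singleton] at hn
  have hn' : Nat.card (Sylow 13 G) = 144 := hn.resolve_left (Small.sylow_number_ne_one hG hd)
  obtain ⟨P⟩ : Nonempty (Sylow 13 G) := inferInstance
  have hP : Nat.card (P : Subgroup G) = 13 := (Small.sylow_card hk (by norm_num) P).trans (pow_one 13)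
  have hN := Small.card_normalizer_mul P
  rw [hn', hcard] at hN
  obtain ⟨h, f, hh, hf, hhd, hfd, hc⟩ := SelfCentral.degrees_two hnp P (by norm_num) hP
    (show _ = 13 * 2 by omega) (m := 288) (by rw [hcard])
  have key : ∀ h ∈ Nat.divisors 288, ∀ f ∈ Nat.divisors 288, 2 ≤ h → 2 ≤ f →
      ¬ ((h % 13 = 1 ∧ f = h + 1) ∨ (h % 13 = 13 - 1 ∧ f + 1 = h)) := by decide +kernel
  exact key h (Nat.mem_divisors.2 ⟨hhd, by norm_num⟩) f (Nat.mem_divisors.2 ⟨hfd, by norm_num⟩) hh hf hc

end Cfsg.Agent.S0975
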