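import Cfsg.Statements.S0976
import Cfsg.Agent.Lib.Small.CommFixed
import Cfsg.Agent.Lib.Small.SelfCentral

set_option autoImplicit false
open Cfsg

namespace Cfsg.Agent.S0976

open Cfsg.Agent in
theorem case64 {G : Type*} [Group G] [Finite G] [IsSimpleGroup G] [Fact (Nat.Prime 7)]
    (hcard : Nat.card G = 4032) (P : Sylow 7 G) (hP : Nat.card (P : Subgroup G) = 7)
    (h64 : Nat.card (Sylow 7 G) = 64) : False := by
  haveI : Fact (Nat.Prime 3) := ⟨Nat.prime_three⟩
  haveI : Fact (Nat.Prime 2) := ⟨Nat.prime_two⟩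
  have hnp : ¬ (Nat.card G).Prime := by rw [hcard]; norm_num
  have hG := Small.not_comm_of_card hnp
  have hd : 7 ∣ Nat.card G := by rw [hcard]; norm_num
  have hidx := Small.card_eq_index P
  have hNne := Small.normalizer_ne_top hG hd P
  set N := Subgroup.normalizer ((P : Subgroup G) : Set G) with hNdef
  set C := Subgroup.centralizer ((P : Subgroup G) : Set G) with hCdef
  have hN : Nat.card N = 63 := by
    have := Small.card_normalizer_mul P; rw [← hNdef, h64, hcard] at this; omega
  have hC := CommFix.card_centralizer_cases hnp P hP (by norm_num) hN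
  rw [show (Nat.divisors 63).filter (fun c => 7 ∣ c ∧ c ≠ 63 ∧ 63 ∣ c * (7 - 1)) = {21} by decide +kernel,
    Finset.mem_singleton, ← hCdef] at hC
  have hCN : C ≤ N := Small.centralizer_le_normalizer _
  obtain ⟨y', hy'⟩ := exists_prime_orderOf_dvd_card' 3 (G := C) (by rw [hC]; norm_num)
  set y : G := (y' : G) with hydef
  have hyC : y ∈ C := y'.2
  have hy3 : orderOf y = 3 := by rw [hydef, Subgroup.orderOf_coe, hy']
  have hy1 : y ≠ 1 := fun e => by rw [e, orderOf_one] at hy3; omega
  set Cy := Subgroup.centralizer ({y} : Set G) with hCy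
  -- `P` and a Sylow 3-subgroup lie in `C(y)`
  have hPCy : (P : Subgroup G) ≤ Cy := fun v hv =>
    Subgroup.mem_centralizer_singleton_iff.2 (Subgroup.mem_centralizer_iff.1 hyC v hv)
  obtain ⟨Q, hyQ⟩ := (IsPGroup.of_card (p := 3) (n := 1)
    (by rw [Nat.card_zpowers, hy3, pow_one]) : IsPGroup 3 (Subgroup.zpowers y)).exists_le_sylow
  have hQ : Nat.card (Q : Subgroup G) = 9 :=
    (Small.sylow_card (k := 2) (m := 448) (by rw [hcard]; norm_num) (by norm_num) Q).trans (by norm_num)
  have hQab : ∀ a ∈ (Q : Subgroup G), ∀ b ∈ (Q : Subgroup G), a * b = b * a := by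
    intro a ha b hb
    haveI := IsPGroup.isMulCommutative_of_card_eq_prime_sq (p := 3) (G := (Q : Subgroup G)) (by rw [hQ]; norm_num)
    exact congrArg Subtype.val (mul_comm' (⟨a, ha⟩ : (Q : Subgroup G)) ⟨b, hb⟩)
  have hQCy : (Q : Subgroup G) ≤ Cy := fun w hw =>
    Subgroup.mem_centralizer_singleton_iff.2 (hQab w hw y (hyQ (Subgroup.mem_zpowers y)))
  have h63 : 63 ∣ Nat.card Cy := by
    refine (show 63 = 7 * 9 by norm_num) ▸ Nat.Coprime.mul_dvd_of_dvd_of_dvd (by norm_num) ?_ ?_
    · have := Subgroup.card_dvd_of_le hPCy; rwa [hP] at this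
    · have := Subgroup.card_dvd_of_le hQCy; rwa [hQ] at this
  have hdvd : Nat.card Cy ∣ 4032 := hcard ▸ Subgroup.card_subgroup_dvd_card _
  have hover := CommFix.card_overgroup P hPCy
  rw [← hNdef] at hover
  have hC' : C ≤ Cy ⊓ N := by
    refine le_inf (fun v hv => Subgroup.mem_centralizer_singleton_iff.2 ?_) hCN
    have hab : ∀ a ∈ C, ∀ b ∈ C, a * b = b * a := by
      haveI : IsCyclic C := by
        have hc : (C : Subgroup G) ≤ Subgroup.centralizer ((P : Subgroup G) : Set G) := le_rfl
        haveI : ((P : Subgroup G).subgroupOf C).Normal := ⟨fun a ha g => by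
          rw [Subgroup.mem_subgroupOf] at ha ⊢
          simp only [Subgroup.coe_mul, Subgroup.coe_inv]
          rw [← Subgroup.mem_centralizer_iff.1 g.2 _ ha, mul_inv_cancel_right]
          exact ha⟩
        refine isCyclic_of_orderOf_eq_card (⟨y, hyC⟩ * ⟨(Classical.choose (exists_prime_orderOf_dvd_card'
          7 (G := (P : Subgroup G)) (by rw [hP])) : (P : Subgroup G)), Small.le_centralizer_self _ hP
            (Classical.choose (exists_prime_orderOf_dvd_card' 7 (G := (P : Subgroup G)) (by rw [hP]))).2⟩) ?_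
        generalize hw : Classical.choose (exists_prime_orderOf_dvd_card' 7 (G := (P : Subgroup G)) (by rw [hP])) = w
        have hwo : orderOf (w : G) = 7 := by
          rw [Subgroup.orderOf_coe, ← hw]
          exact Classical.choose_spec (exists_prime_orderOf_dvd_card' 7 (G := (P : Subgroup G)) (by rw [hP]))
        rw [← Subgroup.orderOf_coe, Subgroup.coe_mul, hC]
        have hcomm : Commute y (w : G) := (Subgroup.mem_centralizer_iff.1 hyC _ w.2).symm
        rw [hcomm.orderOf_mul_eq_mul_orderOf_of_coprime (by rw [hy3, hwo]; norm_num), hy3, hwo]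
      intro a ha b hb
      letI := IsCyclic.commGroup (α := C)
      exact congrArg Subtype.val (mul_comm (⟨a, ha⟩ : C) ⟨b, hb⟩)
    exact hab v hv y hyC
  have hD : Nat.card (Cy ⊓ N : Subgroup G) = 21 ∨ Nat.card (Cy ⊓ N : Subgroup G) = 63 := by
    have h1 := Subgroup.card_dvd_of_le hC'
    have h2 := Subgroup.card_dvd_of_le (inf_le_right : Cy ⊓ N ≤ N)
    rw [hC] at h1; rw [hN] at h2
    have h3 := Nat.le_of_dvd (by norm_num) h2
    have h4 := Nat.le_of_dvd Nat.card_pos h1
    obtain ⟨k, hk⟩ := h1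
    have : k ∣ 3 := Nat.dvd_of_mul_dvd_mul_left (by norm_num : 0 < 21) (hk ▸ h2)
    rcases (Nat.dvd_prime Nat.prime_three).1 this with rfl | rfl
    · exact Or.inl (by omega)
    · exact Or.inr (by omega)
  have hmod7 : Nat.card (Sylow 7 Cy) % 7 = 1 :=
    Eq.trans (card_sylow_modEq_one 7 Cy) (Nat.one_mod_eq_one.2 (by norm_num))
  have hCy63 : Nat.card Cy = 63 ∧ Nat.card (Cy ⊓ N : Subgroup G) = 63 ∨ Nat.card Cy = 504 := by
    have key : ∀ c ∈ Nat.divisors 4032, 63 ∣ c → c ≠ 4032 →
        ((c % 21 = 0 ∧ (c / 21) % 7 = 1 → c = 504) ∧ (c % 63 = 0 ∧ (c / 63) % 7 = 1 → c = 63 ∨ c = 504)) := by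
      decide +kernel
    have hne : Nat.card Cy ≠ 4032 := by
      intro he
      have htop : Cy = ⊤ := Subgroup.eq_top_of_card_eq _ (by rw [he, hcard])
      have hyc : y ∈ Subgroup.center G := Subgroup.mem_center_iff.2 fun g =>
        Subgroup.mem_centralizer_singleton_iff.1 ((hCy ▸ htop).symm ▸ Subgroup.mem_top g)
      rcases (inferInstance : (Subgroup.center G).Normal).eq_bot_or_eq_top with e | e
      · exact hy1 (Subgroup.mem_bot.1 (e ▸ hyc))
      · exact hG ⟨⟨fun a b => Subgroup.mem_center_iff.1 (e ▸ Subgroup.mem_top b) a⟩⟩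
    obtain ⟨k21, k63⟩ := key _ (Nat.mem_divisors.2 ⟨hdvd, by norm_num⟩) h63 hne
    rcases hD with e | e
    · refine Or.inr (k21 ⟨?_, ?_⟩)
      · omega
      · rw [hover, e, Nat.mul_div_cancel _ (by norm_num)]; exact hmod7
    · rcases k63 ⟨by omega, by rw [hover, e, Nat.mul_div_cancel _ (by norm_num)]; exact hmod7⟩ with h | h
      · exact Or.inl ⟨h, e⟩
      · exact Or.inr h
  rcases hCy63 with ⟨h63', hD'⟩ | h504
  swap
  · -- index 8
    have hi : Cy.index = 8 := by
      have := Cy.card_mul_index; rw [h504, hcard] at this; omega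
    have hne : Cy ≠ ⊤ := fun h => by rw [h, Subgroup.index_top] at hi; omega
    obtain ⟨v, hv⟩ := exists_prime_orderOf_dvd_card' 7 (G := (P : Subgroup G)) (by rw [hP])
    have hvo : orderOf (v : G) = 7 := by rw [Subgroup.orderOf_coe, hv]
    have hc : Commute y (v : G) := (Subgroup.mem_centralizer_iff.1 hyC _ v.2).symm
    have e1 := CommFix.modEq_prime (by norm_num) Cy hvo
    have e2 := CommFix.fix_lt hne (x := (v : G)) (fun h => by rw [h, orderOf_one] at hvo; omega)
    have e3 := CommFix.modEq_prime Nat.prime_three Cy hy3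
    have e4 := CommFix.fix_lt hne hy1
    have e5 := CommFix.fix_common (by norm_num : Nat.Prime 7) Cy hvo hc
    have hle : Nat.card {q : G ⧸ Cy // y • q = q ∧ (v : G) • q = q} ≤ CommFix.fix Cy (v : G) :=
      Nat.card_le_card_of_injective
        (fun q => (⟨q.1, MulAction.mem_fixedBy.2 q.2.2⟩ : MulAction.fixedBy (G ⧸ Cy) (v : G)))
        (fun a b hab => Subtype.ext (congrArg (fun w : MulAction.fixedBy (G ⧸ Cy) (v : G) => w.1) hab))
    have hpos : 0 < Nat.card {q : G ⧸ Cy // y • q = q ∧ (v : G) • q = q} := by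
      haveI : Nonempty {q : G ⧸ Cy // y • q = q ∧ (v : G) • q = q} :=
        ⟨⟨((1 : G) : G ⧸ Cy), CommFix.one_mem_fix (Subgroup.mem_centralizer_singleton_iff.2 rfl),
          CommFix.one_mem_fix (hPCy v.2)⟩⟩
      exact Nat.card_pos
    rw [hi] at e1 e2 e3 e4
    omega
  -- now `C(y) = N`
  have hNCy : N = Cy := by
    have h1 : Cy ⊓ N = N := Subgroup.eq_of_le_of_card_ge inf_le_right (by rw [hD', hN])
    exact Subgroup.eq_of_le_of_card_ge (h1 ▸ inf_le_left) (by rw [h63', hN])
  have hnotreal : ∀ g : G, g * y * g⁻¹ ≠ y⁻¹ := by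
    intro g hg
    have hyinv : y⁻¹ ≠ y := fun e => by
      have : y ^ 2 = 1 := by rw [sq]; nth_rewrite 1 [← e]; exact inv_mul_cancel y
      have := orderOf_eq_prime this hy1
      omega
    have hgN : g ∈ N := by
      refine Subgroup.mem_normalizer_iff_map_conj_eq.2 ?_
      have hle : (P : Subgroup G).map (MulAut.conj g).toMonoidHom ≤ N := by
        rintro _ ⟨v, hv, rfl⟩
        rw [hNCy]
        refine Subgroup.mem_centralizer_singleton_iff.2 ?_
        have hvy := Subgroup.mem_centralizer_iff.1 hyC v hv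
        show g * v * g⁻¹ * y = y * (g * v * g⁻¹)
        have hy' : y = g * y⁻¹ * g⁻¹ := by
          calc y = (y⁻¹)⁻¹ := (inv_inv y).symm
            _ = (g * y * g⁻¹)⁻¹ := by rw [hg]
            _ = _ := by group
        have hv' : v * y⁻¹ = y⁻¹ * v := (Commute.inv_right (show Commute v y from hvy)).eq
        conv_lhs => rw [hy']
        conv_rhs => rw [hy']
        calc g * v * g⁻¹ * (g * y⁻¹ * g⁻¹) = g * (v * y⁻¹) * g⁻¹ := by group
          _ = g * y⁻¹ * g⁻¹ * (g * v * g⁻¹) := by rw [hv']; group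
      haveI : ((P : Subgroup G).subgroupOf N).Normal :=
        (Subgroup.normal_subgroupOf_iff_le_normalizer Subgroup.le_normalizer).2 le_rfl
      set Pg := (P : Subgroup G).map (MulAut.conj g).toMonoidHom
      have hPg : Nat.card Pg = 7 := by
        rw [← Nat.card_congr (Subgroup.equivMapOfInjective _ _ (MulAut.conj g).injective).toEquiv, hP]
      have hpg : IsPGroup 7 Pg := IsPGroup.of_card (n := 1) (by rw [hPg, pow_one])
      have hsup := hpg.inf_normalizer_sylow P
      have hPgP : Pg ≤ (P : Subgroup G) :=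
        (le_inf le_rfl hle).trans ((le_of_eq hsup).trans inf_le_right)
      exact Subgroup.eq_of_le_of_card_ge hPgP (le_of_eq (hP.trans hPg.symm))
    rw [hNCy] at hgN
    apply hyinv
    rw [← hg, Subgroup.mem_centralizer_singleton_iff.1 hgN, mul_inv_cancel_right]
  set NQ := Subgroup.normalizer ((Q : Subgroup G) : Set G) with hNQ
  have hodd : ∀ w ∈ Cy, orderOf w ≠ 2 := fun w hw h2 => by
    have := Subgroup.orderOf_dvd_natCard Cy hw
    rw [h2, h63'] at this; omega
  -- the Sylow 2-subgroup of `N(Q)` has order at least 4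
  have hCQ : Subgroup.centralizer ((Q : Subgroup G) : Set G) ≤ Cy := fun w hw =>
    Subgroup.mem_centralizer_singleton_iff.2
      (Subgroup.mem_centralizer_iff.1 hw y (hyQ (Subgroup.mem_zpowers y))).symm
  have h7 : ¬ 7 ∣ Nat.card NQ := by
    intro h
    obtain ⟨g, hg⟩ := exists_prime_orderOf_dvd_card' 7 (G := NQ) h
    have hker : g ∈ (Subgroup.normalizerMonoidHom (Q : Subgroup G)).ker := by
      rw [MonoidHom.mem_ker, ← orderOf_eq_one_iff]
      have h1 := orderOf_map_dvd (Subgroup.normalizerMonoidHom (Q : Subgroup G)) g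
      rw [hg] at h1
      refine ((Nat.dvd_prime (by norm_num)).1 h1).resolve_right fun e7 => ?_
      set α := Subgroup.normalizerMonoidHom (Q : Subgroup G) g
      let β : Equiv.Perm (Q : Subgroup G) := MulAut.toPerm (Q : Subgroup G) α
      have hβ : β ^ 7 = 1 := by
        rw [← map_pow, show α ^ 7 = 1 by rw [← e7]; exact pow_orderOf_eq_one α, map_one]
      have hpgrp : IsPGroup 7 (Subgroup.zpowers α) :=
        IsPGroup.of_card (n := 1) (by rw [Nat.card_zpowers, e7, pow_one])
      have hfix := hpgrp.card_modEq_card_fixedPoints (Q : Subgroup G)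
      rw [hQ] at hfix
      have hFix : Nat.card (MulAction.fixedPoints (Subgroup.zpowers α) (Q : Subgroup G)) ∣ 9 := by
        let F : Subgroup (Q : Subgroup G) :=
          { carrier := MulAction.fixedPoints (Subgroup.zpowers α) (Q : Subgroup G)
            one_mem' := fun a => map_one (a : MulAut (Q : Subgroup G))
            mul_mem' := fun {a b} ha hb c => by
              show (c : MulAut (Q : Subgroup G)) (a * b) = a * b
              rw [map_mul]; exact congrArg₂ (· * ·) (ha c) (hb c)
            inv_mem' := fun {a} ha c => by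
              show (c : MulAut (Q : Subgroup G)) a⁻¹ = a⁻¹
              rw [map_inv]; exact congrArg _ (ha c) }
        exact hQ ▸ (show Nat.card F ∣ _ from F.card_subgroup_dvd_card)
      have hdiv : Nat.card (MulAction.fixedPoints (Subgroup.zpowers α) (Q : Subgroup G)) ∈ Nat.divisors 9 :=
        Nat.mem_divisors.2 ⟨hFix, by norm_num⟩
      have h9 : ∀ d ∈ Nat.divisors 9, 9 % 7 = d % 7 → d = 9 := by decide +kernel
      have hall := h9 _ hdiv hfix
      have huniv : MulAction.fixedPoints (Subgroup.zpowers α) (Q : Subgroup G) = Set.univ :=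
        Set.eq_univ_of_forall fun q => by
          by_contra hq
          have := Finite.card_subtype_lt (p := fun q => q ∈ MulAction.fixedPoints (Subgroup.zpowers α) (Q : Subgroup G)) hq
          rw [hQ] at this
          exact absurd hall (ne_of_lt this)
      have h1' : α = 1 := MulEquiv.ext fun q =>
        (huniv ▸ Set.mem_univ q : q ∈ MulAction.fixedPoints (Subgroup.zpowers α) (Q : Subgroup G))
          ⟨α, Subgroup.mem_zpowers α⟩
      rw [h1', orderOf_one] at e7
      omega
    rw [Subgroup.normalizerMonoidHom_ker] at hker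
    have hgc : (g : G) ∈ Subgroup.centralizer ((Q : Subgroup G) : Set G) := hker
    have h7C : 7 ∣ Nat.card (Subgroup.centralizer ((Q : Subgroup G) : Set G)) := by
      have := Subgroup.orderOf_dvd_natCard _ hgc
      rwa [Subgroup.orderOf_coe, hg] at this
    have h9C : 9 ∣ Nat.card (Subgroup.centralizer ((Q : Subgroup G) : Set G)) := by
      have := Subgroup.card_dvd_of_le (show (Q : Subgroup G) ≤ Subgroup.centralizer ((Q : Subgroup G) : Set G)
        from fun a ha => Subgroup.mem_centralizer_iff.2 fun b hb => hQab b hb a ha)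
      rwa [hQ] at this
    have hCQN : Subgroup.centralizer ((Q : Subgroup G) : Set G) = N := by
      refine Subgroup.eq_of_le_of_card_ge (hNCy ▸ hCQ) ?_
      rw [hN]
      exact Nat.le_of_dvd Nat.card_pos (Nat.Coprime.mul_dvd_of_dvd_of_dvd (by norm_num : Nat.Coprime 7 9) h7C h9C)
    -- then `Q` centralizes `P`
    have hQC : (Q : Subgroup G) ≤ C := fun a ha => Subgroup.mem_centralizer_iff.2 fun b hb => by
      have hbN : b ∈ Subgroup.centralizer ((Q : Subgroup G) : Set G) := hCQN ▸ Subgroup.le_normalizer hb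
      exact (Subgroup.mem_centralizer_iff.1 hbN a ha).symm
    have := Subgroup.card_dvd_of_le hQC
    rw [hQ, hC] at this
    omega
  have hne : Nat.card NQ ≠ 9 := by
    intro h9
    have hQN : NQ = (Q : Subgroup G) :=
      (Subgroup.eq_of_le_of_card_ge Subgroup.le_normalizer (by rw [hQ]; exact h9.le)).symm
    refine Small.centralizer_ne_normalizer hnp (by rw [hcard]; norm_num) Q ?_
    refine le_antisymm (Subgroup.card_le_of_le (Small.centralizer_le_normalizer _)) ?_
    rw [← hNQ, hQN]
    exact Subgroup.card_le_of_le fun a ha => Subgroup.mem_centralizer_iff.2 fun b hb => hQab b hb a ha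
  have h4 : 4 ∣ Nat.card NQ := by
    have hmul := Small.card_normalizer_mul Q
    have hmod : Nat.card (Sylow 3 G) % 3 = 1 :=
      Eq.trans (card_sylow_modEq_one 3 G) (Nat.one_mod_eq_one.2 (by norm_num))
    have h9 : 9 ∣ Nat.card NQ := hQ ▸ Subgroup.card_dvd_of_le Subgroup.le_normalizer
    have key : ∀ d ∈ Nat.divisors 4032, 9 ∣ d → ¬ 7 ∣ d → d ≠ 9 → (4032 / d) % 3 = 1 → 4 ∣ d := by
      decide +kernel
    refine key _ (Nat.mem_divisors.2 ⟨hcard ▸ Subgroup.card_subgroup_dvd_card _, by norm_num⟩) h9 h7 hne ?_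
    rw [← hcard, ← hmul, ← hNQ, Nat.mul_div_cancel_left _ Nat.card_pos, hmod]
  obtain ⟨T, hT⟩ := Sylow.exists_subgroup_card_pow_prime 2 (n := 2) (G := NQ) (by simpa using h4)
  norm_num at hT
  have hQn : ∀ g : NQ, (g : G) * y * (g : G)⁻¹ ∈ (Q : Subgroup G) := fun g =>
    (Subgroup.mem_normalizer_iff.1 g.2 y).1 (hyQ (Subgroup.mem_zpowers y))
  obtain ⟨s, hs⟩ := exists_prime_orderOf_dvd_card' 2 (G := T) (by rw [hT]; norm_num)
  set σ : G := ((s : NQ) : G) with hσ
  have hσo : orderOf σ = 2 := by rw [hσ, Subgroup.orderOf_coe, Subgroup.orderOf_coe, hs]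
  set O := Set.range (fun t : T => ((t : NQ) : G) * y * ((t : NQ) : G)⁻¹) with hO
  have hinj : Function.Injective (fun t : T => ((t : NQ) : G) * y * ((t : NQ) : G)⁻¹) := by
    intro a b hab
    simp only at hab
    by_contra hne'
    obtain ⟨c, hc⟩ : ∃ c : T, c = b⁻¹ * a := ⟨_, rfl⟩
    have hcy : ((c : NQ) : G) ∈ Cy := Subgroup.mem_centralizer_singleton_iff.2 (by
      rw [hc]
      push_cast
      calc ((b : NQ) : G)⁻¹ * ((a : NQ) : G) * y
          = ((b : NQ) : G)⁻¹ * (((a : NQ) : G) * y * ((a : NQ) : G)⁻¹) * ((a : NQ) : G) := by group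
        _ = y * (((b : NQ) : G)⁻¹ * ((a : NQ) : G)) := by rw [hab]; group)
    have hco : orderOf ((c : NQ) : G) ∣ 4 := by
      rw [Subgroup.orderOf_coe, Subgroup.orderOf_coe, ← hT]; exact orderOf_dvd_natCard c
    have hco2 := Subgroup.orderOf_dvd_natCard Cy hcy
    rw [h63'] at hco2
    have : ((c : NQ) : G) = 1 := orderOf_eq_one_iff.1
      (Nat.eq_one_of_dvd_coprimes (by norm_num : Nat.Coprime 4 63) hco hco2)
    have hc1 : c = 1 := Subtype.ext (Subtype.ext this)
    exact hne' (inv_mul_eq_one.1 (hc1 ▸ hc.symm)).symm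
  -- the orbit and its inverse cover `Q \ 1`
  have hOcard : O.ncard = 4 := by
    rw [hO, ← Set.image_univ, Set.ncard_image_of_injective _ hinj, Set.ncard_univ, hT]
  have hOQ : ∀ w ∈ O, w ∈ (Q : Subgroup G) ∧ w ≠ 1 ∧ IsConj y w := by
    rintro _ ⟨t, rfl⟩
    exact ⟨hQn _, fun e => hy1 (conj_eq_one_iff.1 e),
      isConj_iff.2 ⟨_, rfl⟩⟩
  set w := y * (σ * y * σ⁻¹) with hw
  have hwQ : w ∈ (Q : Subgroup G) := mul_mem (hyQ (Subgroup.mem_zpowers y)) (hQn s)
  have hw1 : w ≠ 1 := fun e => hnotreal σ (eq_inv_of_mul_eq_one_right e)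
  have hσw : Commute σ w := by
    show σ * w = w * σ
    have h1 := hQab _ (hyQ (Subgroup.mem_zpowers y)) _ (hQn s)
    rw [← hσ] at h1
    rw [hw]
    calc σ * (y * (σ * y * σ⁻¹)) = σ * y * σ⁻¹ * (σ * σ) * y * σ⁻¹ := by group
      _ = (σ * y * σ⁻¹) * y * σ⁻¹ := by rw [Invol.mul_self hσo, mul_one]
      _ = y * (σ * y * σ⁻¹) * σ⁻¹ := by rw [h1]
      _ = y * (σ * y * σ⁻¹) * σ := by rw [Invol.inv_self hσo]
  have hcover : w ∈ O ∨ w⁻¹ ∈ O := by
    by_contra hno
    push Not at hno
    have hOinv : Disjoint O (Inv.inv '' O) := by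
      rw [Set.disjoint_left]
      rintro a ha ⟨b, hb, rfl⟩
      obtain ⟨c, hc⟩ := isConj_iff.1 (hOQ b hb).2.2
      obtain ⟨d, hd⟩ := isConj_iff.1 (hOQ _ ha).2.2
      apply hnotreal (c⁻¹ * d)
      calc c⁻¹ * d * y * (c⁻¹ * d)⁻¹ = c⁻¹ * (d * y * d⁻¹) * c := by group
        _ = c⁻¹ * b⁻¹ * c := by rw [hd]
        _ = (c⁻¹ * b * c)⁻¹ := by group
        _ = y⁻¹ := by rw [← hc]; group
    have hsub : insert w (O ∪ Inv.inv '' O) ⊆ ((Q : Subgroup G) : Set G) \ {1} := by
      rintro a (rfl | ha | ⟨b, hb, rfl⟩)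
      · exact ⟨hwQ, hw1⟩
      · exact ⟨(hOQ a ha).1, (hOQ a ha).2.1⟩
      · exact ⟨inv_mem (hOQ b hb).1, fun e => (hOQ b hb).2.1 (inv_eq_one.1 e)⟩
    have hnm : w ∉ O ∪ Inv.inv '' O := by
      rintro (h | ⟨b, hb, hbw⟩)
      · exact hno.1 h
      · exact hno.2 (by rw [← hbw, inv_inv]; exact hb)
    have h1 := Set.ncard_le_ncard hsub (Set.toFinite _)
    rw [Set.ncard_insert_of_notMem hnm (Set.toFinite _), Set.ncard_union_eq hOinv (Set.toFinite _)
      (Set.toFinite _), Set.ncard_image_of_injective _ inv_injective, hOcard,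
      Set.ncard_sdiff_singleton_of_mem (one_mem (Q : Subgroup G)), ← Nat.card_coe_set_eq] at h1
    rw [show Nat.card ↥((Q : Subgroup G) : Set G) = 9 from hQ] at h1
    omega
  have hconj : ∀ a : G, IsConj y a → Commute σ a → False := by
    intro a ha hca
    have := CommFix.card_centralizer_conj ha
    rw [← hCy, h63'] at this
    have h2 := Subgroup.orderOf_dvd_natCard _ (Subgroup.mem_centralizer_singleton_iff.2 hca.eq :
      σ ∈ Subgroup.centralizer ({a} : Set G))
    rw [hσo, ← this] at h2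
    omega
  rcases hcover with h | h
  · exact hconj w (hOQ w h).2.2 hσw
  · exact hconj w⁻¹ (hOQ _ h).2.2 hσw.inv_right

/-- No finite simple group has order 4032 = 2^6 * 3^2 * 7. -/
theorem result {G : Type*} [Group G] [Finite G] [IsSimpleGroup G] : Nat.card G ≠ 4032 := by
  intro hcard
  haveI : Fact (Nat.Prime 7) := ⟨by norm_num⟩
  haveI : Fact (Nat.Prime 2) := ⟨Nat.prime_two⟩
  have hnp : ¬ (Nat.card G).Prime := by rw [hcard]; norm_num
  have hG := Small.not_comm_of_card hnp
  have hd : 7 ∣ Nat.card G := by rw [hcard]; norm_num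
  have hk : Nat.card G = 7 ^ 1 * 576 := by rw [hcard]; norm_num
  have hn := Small.sylow_number_mem hk (by norm_num)
  rw [show (Nat.divisors 576).filter (fun d => d % 7 = 1) = {1, 8, 36, 64, 288} by decide +kernel] at hn
  simp only [Finset.mem_insert, Finset.mem_singleton] at hn
  have hn' := hn.resolve_left (Small.sylow_number_ne_one hG hd)
  obtain ⟨P⟩ : Nonempty (Sylow 7 G) := inferInstance
  have hP : Nat.card (P : Subgroup G) = 7 := (Small.sylow_card hk (by norm_num) P).trans (pow_one 7)
  have hidx := Small.card_eq_index P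
  have hNne := Small.normalizer_ne_top hG hd P
  rcases hn' with h8 | h36 | h64 | h288
  · have hN : Nat.card (Subgroup.normalizer ((P : Subgroup G) : Set G)) = 504 := by
      have := Small.card_normalizer_mul P; rw [h8, hcard] at this; omega
    have hC := (Finset.mem_filter.1 (CommFix.card_centralizer_cases hnp P hP (by norm_num) hN)).2.2.2
    obtain ⟨z, hz⟩ := exists_prime_orderOf_dvd_card' 2
      (G := Subgroup.centralizer ((P : Subgroup G) : Set G)) (by omega)
    have hzo : orderOf (z : G) = 2 := by rw [Subgroup.orderOf_coe, hz]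
    have hmod := CommFix.fix_mod P hP z.2
    have hlt := CommFix.fix_lt hNne (Invol.ne_one hzo)
    have h4 := CommFix.four_dvd hG hNne hzo
    rw [← hidx, h8] at hlt h4
    omega
  · have hN : Nat.card (Subgroup.normalizer ((P : Subgroup G) : Set G)) = 112 := by
      have := Small.card_normalizer_mul P; rw [h36, hcard] at this; omega
    have hC := CommFix.card_centralizer_cases hnp P hP (by norm_num) hN
    rw [show (Nat.divisors 112).filter (fun c => 7 ∣ c ∧ c ≠ 112 ∧ 112 ∣ c * (7 - 1)) = {56} by decide +kernel,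
      Finset.mem_singleton] at hC
    obtain ⟨z, hzC, hzo, hle⟩ := CommFix.exists_central_invol P hP (by norm_num) (k := 3) (by norm_num)
      (by rw [hC]; norm_num)
    have hmod := CommFix.fix_mod P hP hzC
    have hlt := CommFix.fix_lt hNne (Invol.ne_one hzo)
    have h4 := CommFix.four_dvd hG hNne hzo
    rw [← hidx, h36] at hlt h4
    have hf : CommFix.fix (Subgroup.normalizer ((P : Subgroup G) : Set G)) z = 8 := by omega
    obtain ⟨m, hm1, hm2, hm3⟩ := CommFix.invol_count P hP (by norm_num) hzC hzo (by rw [hf, h36]; norm_num)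
    rw [hf, hN] at hm3
    have hm7 : m ≤ 7 := by omega
    have key : ∀ c ∈ Nat.divisors 4032, ∀ m ≤ 7, c * m = 8 * 112 → c = 448 ∨ c = 224 := by decide +kernel
    obtain ⟨v, hv⟩ := exists_prime_orderOf_dvd_card' 7 (G := (P : Subgroup G)) (by rw [hP])
    rcases key _ (Nat.mem_divisors.2 ⟨hcard ▸ Subgroup.card_subgroup_dvd_card _, by norm_num⟩) m hm7 hm3
      with h448 | h224
    · have hi : (Subgroup.centralizer ({z} : Set G)).index = 9 := by
        have := (Subgroup.centralizer ({z} : Set G)).card_mul_index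
        rw [h448, hcard] at this; omega
      have hc : Commute z (v : G) := (Subgroup.mem_centralizer_iff.1 hzC _ v.2).symm
      exact CommFix.no_index_nine hG hi hzo (by rw [Subgroup.orderOf_coe, hv]) hc
        (Subgroup.mem_centralizer_singleton_iff.2 rfl) (Subgroup.mem_centralizer_singleton_iff.2 hc.symm.eq)
    · have hover := CommFix.card_overgroup P ((Small.le_centralizer_self _ hP).trans hle)
      have h1 := Subgroup.card_dvd_of_le
        (le_inf hle (Small.centralizer_le_normalizer (P : Subgroup G)))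
      have h2 := Subgroup.card_dvd_of_le
        (inf_le_right : Subgroup.centralizer ({z} : Set G) ⊓ Subgroup.normalizer ((P : Subgroup G) : Set G) ≤ _)
      rw [hN] at h2; rw [hC] at h1
      rw [h224] at hover
      have hm : Nat.card (Sylow 7 (Subgroup.centralizer ({z} : Set G))) % 7 = 1 :=
        Eq.trans (card_sylow_modEq_one 7 _) (Nat.one_mod_eq_one.2 (by norm_num))
      have key2 : ∀ d ∈ Nat.divisors 112, 56 ∣ d → (224 / d) % 7 ≠ 1 := by decide +kernel
      exact key2 _ (Nat.mem_divisors.2 ⟨h2, by norm_num⟩) h1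
        (by rw [hover, Nat.mul_div_cancel _ Nat.card_pos]; exact hm)
  · exact case64 hcard P hP h64
  · have hN : Nat.card (Subgroup.normalizer ((P : Subgroup G) : Set G)) = 7 * 2 := by
      have := Small.card_normalizer_mul P; rw [h288, hcard] at this; omega
    have hm : Nat.card G = 7 * 576 := by rw [hcard]
    obtain ⟨t, ht, h64t⟩ := CommFix.exists_invol_full (k := 6) (m := 63) (by norm_num)
      (by rw [hcard]; norm_num) (by norm_num)
    have hb := SelfCentral.card_centralizer_bound hnp P (by norm_num) hP hN hm ht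
    rw [h288] at hb
    have h64 : Nat.card (Subgroup.centralizer ({t} : Set G)) = 64 := by
      norm_num at h64t
      obtain ⟨j, hj⟩ := h64t
      rw [hj] at hb ⊢
      have : 0 < 64 * j := hj ▸ Nat.card_pos
      omega
    obtain ⟨h, f, hh, hf, hhd, hfd, hc, hall⟩ := SelfCentral.involutions_two hnp P (by norm_num) hP hN hm
    obtain ⟨-, u, hu, heq⟩ := hall t ht
    rw [h64, hcard] at heq
    have key : ∀ h ∈ Nat.divisors 576, ∀ f ∈ Nat.divisors 576, 2 ≤ h → 2 ≤ f →
        ((h % 7 = 1 ∧ f = h + 1) ∨ (h % 7 = 7 - 1 ∧ f + 1 = h)) → h = 8 ∧ f = 9 := by decide +kernel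
    obtain ⟨rfl, rfl⟩ := key h (Nat.mem_divisors.2 ⟨hhd, by norm_num⟩) f
      (Nat.mem_divisors.2 ⟨hfd, by norm_num⟩) hh hf hc
    norm_num at heq
    have hlo : -8 ≤ u := by omega
    have hhi : u ≤ 8 := by omega
    interval_cases u <;> norm_num at heq

end Cfsg.Agent.S0976
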