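import Cfsg.Statements.S1001
import Cfsg.Agent.Lib.Blocks.SelfCentralPQR

set_option autoImplicit false
open Cfsg

namespace Cfsg.Agent.S1001

/-- In a finite simple group whose order has the form p * 3^a * 2^b with p prime, the centralizer of any element of order p is the cyclic group it generates. -/
theorem result {G : Type*} [Group G] [Finite G] [IsSimpleGroup G] (p a b : ℕ) (hp : p.Prime) (hG : Nat.card G = p * 3 ^ a * 2 ^ b) (x : G) (hx : orderOf x = p) : Subgroup.centralizer ({x} : Set G) = Subgroup.zpowers x := by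
  haveI : Fact p.Prime := ⟨hp⟩
  have hxne : x ≠ 1 := by rintro rfl; rw [orderOf_one] at hx; exact hp.ne_one hx.symm
  by_cases hcomm : IsMulCommutative G
  · -- an abelian simple group is generated by `x`
    haveI := hcomm
    letI : CommGroup G := { (inferInstance : Group G) with mul_comm := hcomm.is_comm.comm }
    have htop : Subgroup.zpowers x = ⊤ :=
      ((Subgroup.zpowers x).normal_of_isMulCommutative.eq_bot_or_eq_top).resolve_left
        (by rwa [Subgroup.zpowers_eq_bot])
    rw [htop]
    exact Subgroup.eq_top_iff' _ |>.2 fun g =>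
      Subgroup.mem_centralizer_singleton_iff.2 (mul_comm g x)
  have h23 : 2 ≠ p ∧ 3 ≠ p := by
    have hns : ¬ Group.IsSolvable G := fun hs => hcomm ⟨⟨fun u v => IsSimpleGroup.comm_iff_isSolvable.2 hs u v⟩⟩
    constructor <;> rintro rfl
    · exact hns (Cfsg.Agent.Char.isSolvable_of_card_pq 2 3 Nat.prime_two Nat.prime_three _ G
        rfl ⟨b + 1, a, hG.trans (by ring)⟩)
    · exact hns (Cfsg.Agent.Char.isSolvable_of_card_pq 2 3 Nat.prime_two Nat.prime_three _ G
        rfl ⟨b, a + 1, hG.trans (by ring)⟩)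
  obtain ⟨S, hxS⟩ : ∃ S : Sylow p G, Subgroup.zpowers x ≤ (S : Subgroup G) :=
    (IsPGroup.of_card (p := p) (n := 1) (by rw [Nat.card_zpowers, hx, pow_one])).exists_le_sylow
  have hS : (S : Subgroup G) = Subgroup.zpowers x := by
    refine (Subgroup.eq_of_le_of_card_ge hxS ?_).symm
    rw [Nat.card_zpowers, hx, Sylow.card_eq_multiplicity, hG]
    have hnd : ¬ p ∣ 3 ^ a * 2 ^ b := fun h => (hp.dvd_mul.1 h).elim
      (fun h1 => h23.2 ((Nat.prime_dvd_prime_iff_eq hp Nat.prime_three).1 (hp.dvd_of_dvd_pow h1)).symm)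
      (fun h1 => h23.1 ((Nat.prime_dvd_prime_iff_eq hp Nat.prime_two).1 (hp.dvd_of_dvd_pow h1)).symm)
    rw [mul_assoc, Nat.factorization_mul hp.ne_zero (by simp), Finsupp.add_apply,
      hp.factorization_self, Nat.factorization_eq_zero_of_not_dvd hnd, add_zero, pow_one]
  have h := Cfsg.Agent.SelfCentralPQR.centralizer_eq Nat.prime_two Nat.prime_three (by norm_num)
    h23.1 h23.2 (hG.trans (by ring : p * 3 ^ a * 2 ^ b = 2 ^ b * 3 ^ a * p)) S
  have e : ((S : Subgroup G) : Set G) = (Subgroup.zpowers x : Set G) := by rw [hS]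
  rw [← hS, ← h, ← Subgroup.centralizer_closure ({x} : Set G), ← Subgroup.zpowers_eq_closure]
  exact congrArg Subgroup.centralizer e.symm

end Cfsg.Agent.S1001
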