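import Cfsg.Statements.S0989
import Cfsg.Agent.Lib.Small.SylowToolkit
import Mathlib.GroupTheory.Perm.Centralizer

set_option autoImplicit false
open Cfsg

namespace Cfsg.Agent.S0989



/-- In the symmetric group on p or p + 1 letters, p a prime, the normalizer of a Sylow p-subgroup has order p * (p - 1). -/
theorem result {α : Type*} [Fintype α] [DecidableEq α] (p : ℕ) [Fact p.Prime] (hα : Fintype.card α = p ∨ Fintype.card α = p + 1) (P : Sylow p (Equiv.Perm α)) : Nat.card ↥(Subgroup.normalizer ((P : Subgroup (Equiv.Perm α)) : Set (Equiv.Perm α))) = p * (p - 1) := by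
  classical
  have hp := (Fact.out : p.Prime)
  have hn2 : Fintype.card α < 2 * p := by have := hp.two_le; omega
  have hpn : p ≤ Fintype.card α := by omega
  have hcardS : Nat.card (Equiv.Perm α) = (Fintype.card α).factorial := by
    rw [Nat.card_perm, Nat.card_eq_fintype_card]
  have hdvd : p ∣ Nat.card (Equiv.Perm α) := by rw [hcardS]; exact Nat.dvd_factorial hp.pos hpn
  obtain ⟨y, hy⟩ := exists_prime_orderOf_dvd_card' p hdvd
  have hct : ∀ σ : Equiv.Perm α, orderOf σ = p → σ.cycleType = {p} := by
    intro σ hσ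
    obtain ⟨k, hk⟩ := Equiv.Perm.cycleType_prime_order (hσ ▸ hp : (orderOf σ).Prime)
    rw [hσ] at hk
    have hs := σ.sum_cycleType
    rw [hk, Multiset.sum_replicate, smul_eq_mul] at hs
    have hle := σ.support.card_le_univ
    have hk0 : k = 0 := by
      by_contra hne
      have := Nat.mul_le_mul_right p (show 2 ≤ k + 1 by omega)
      omega
    rw [hk, hk0, zero_add, Multiset.replicate_one]
  have hCy : Nat.card (Subgroup.centralizer ({y} : Set (Equiv.Perm α))) = p := by
    have h := Equiv.Perm.nat_card_centralizer y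
    rw [hct y hy] at h
    simp only [Multiset.sum_singleton, Multiset.prod_singleton, Multiset.toFinset_singleton,
      Finset.prod_singleton, Multiset.count_singleton_self, Nat.factorial_one, mul_one] at h
    rw [h, Nat.factorial_eq_one.mpr (by omega), one_mul]
  have hP : ∀ R : Sylow p (Equiv.Perm α), Nat.card (R : Subgroup (Equiv.Perm α)) = p := by
    have hex : ∃ R : Sylow p (Equiv.Perm α), Nat.card (R : Subgroup (Equiv.Perm α)) = p := by
      obtain ⟨R, hR⟩ := (IsPGroup.of_card (n := 1) (by rw [Nat.card_zpowers, hy, pow_one]) :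
        IsPGroup p (Subgroup.zpowers y)).exists_le_sylow
      refine ⟨R, ?_⟩
      haveI : Nontrivial (R : Subgroup (Equiv.Perm α)) :=
        ⟨⟨⟨y, hR (Subgroup.mem_zpowers y)⟩, 1, fun e => by
          have e1 : y = 1 := congrArg Subtype.val e
          rw [e1, orderOf_one] at hy
          exact hp.ne_one hy.symm⟩⟩
      obtain ⟨k, hk⟩ := IsPGroup.iff_card.mp R.isPGroup'
      have hd : Nat.card (R : Subgroup (Equiv.Perm α)) ∣ (Fintype.card α).factorial :=
        hcardS ▸ Subgroup.card_subgroup_dvd_card _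
      rcases k with _ | _ | k
      · exact absurd hk (by rw [pow_zero]; exact (Finite.one_lt_card).ne')
      · rw [hk, zero_add, pow_one]
      · exfalso
        rw [hk] at hd
        have h2 := (pow_dvd_pow p (show 2 ≤ k + 1 + 1 by omega)).trans hd
        rcases hα with hα | hα
        · rw [hα] at h2
          obtain ⟨q, hq⟩ : ∃ q, p = q + 1 := ⟨p - 1, (Nat.succ_pred_eq_of_pos hp.pos).symm⟩
          rw [hq, Nat.factorial_succ, pow_two, Nat.mul_dvd_mul_iff_left (Nat.succ_pos q), ← hq] at h2
          have := (Nat.Prime.dvd_factorial hp).mp h2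
          omega
        · rw [hα, Nat.factorial_succ] at h2
          have h3 : p ^ 2 ∣ p.factorial :=
            (Nat.Coprime.dvd_of_dvd_mul_left ((hp.coprime_iff_not_dvd.mpr (fun h => by
              have := Nat.le_of_dvd (by omega) ((Nat.dvd_add_right dvd_rfl).mp h)
              have := hp.two_le
              omega)).pow_left 2) h2)
          obtain ⟨q, hq⟩ : ∃ q, p = q + 1 := ⟨p - 1, (Nat.succ_pred_eq_of_pos hp.pos).symm⟩
          rw [hq, Nat.factorial_succ, pow_two, Nat.mul_dvd_mul_iff_left (Nat.succ_pos q), ← hq] at h3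
          have := (Nat.Prime.dvd_factorial hp).mp h3
          omega
    obtain ⟨R, hR⟩ := hex
    exact fun R' => (Nat.card_congr (Sylow.equiv R' R).toEquiv).trans hR
  set N := Subgroup.normalizer ((P : Subgroup (Equiv.Perm α)) : Set (Equiv.Perm α))
  have hup : Nat.card N ≤ p * (p - 1) := by
    have hd := Cfsg.Agent.Small.card_normalizer_dvd (P : Subgroup (Equiv.Perm α)) (hP P)
    refine Nat.le_of_dvd (Nat.mul_pos hp.pos (by have := hp.two_le; omega)) ?_
    refine hd.trans (Nat.mul_dvd_mul_right (dvd_of_eq ?_) _)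
    obtain ⟨v, hv⟩ := exists_prime_orderOf_dvd_card' (G := (P : Subgroup (Equiv.Perm α))) p (by rw [hP P])
    have hvo : orderOf (v : Equiv.Perm α) = p := by rw [Subgroup.orderOf_coe, hv]
    refine le_antisymm ?_ ((hP P).ge.trans (Subgroup.card_le_of_le (Cfsg.Agent.Small.le_centralizer_self _ (hP P))))
    refine (Subgroup.card_le_of_le (show Subgroup.centralizer ((P : Subgroup (Equiv.Perm α)) : Set (Equiv.Perm α)) ≤
      Subgroup.centralizer ({(v : Equiv.Perm α)} : Set (Equiv.Perm α)) from
        Subgroup.centralizer_le (Set.singleton_subset_iff.mpr v.2))).trans ?_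
    have h := Equiv.Perm.nat_card_centralizer (v : Equiv.Perm α)
    rw [hct _ hvo] at h
    simp only [Multiset.sum_singleton, Multiset.prod_singleton, Multiset.toFinset_singleton,
      Finset.prod_singleton, Multiset.count_singleton_self, Nat.factorial_one, mul_one] at h
    rw [h, Nat.factorial_eq_one.mpr (by omega), one_mul]
  refine le_antisymm hup ?_
  have hcount : Nat.card {g : Equiv.Perm α // orderOf g = p} ≤
      (Subgroup.centralizer ({y} : Set (Equiv.Perm α))).index := by
    refine Nat.card_le_card_of_surjective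
      (fun q : Equiv.Perm α ⧸ Subgroup.centralizer ({y} : Set (Equiv.Perm α)) =>
        (⟨q.out * y * q.out⁻¹, ((MulAut.conj q.out).orderOf_eq y).trans hy⟩ :
          {g : Equiv.Perm α // orderOf g = p})) ?_
    rintro ⟨g, hg⟩
    obtain ⟨c, hc⟩ := isConj_iff.mp (Equiv.Perm.isConj_iff_cycleType_eq.mpr ((hct y hy).trans (hct g hg).symm))
    refine ⟨QuotientGroup.mk c, Subtype.ext ?_⟩
    obtain ⟨d, hd⟩ := QuotientGroup.mk_out_eq_mul (Subgroup.centralizer ({y} : Set (Equiv.Perm α))) c
    show (QuotientGroup.mk c : Equiv.Perm α ⧸ _).out * y * _⁻¹ = g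
    rw [hd, ← hc]
    have hdy := Subgroup.mem_centralizer_singleton_iff.mp d.2
    calc c * (d : Equiv.Perm α) * y * (c * d)⁻¹ = c * ((d : Equiv.Perm α) * y) * (d : Equiv.Perm α)⁻¹ * c⁻¹ := by group
      _ = c * y * c⁻¹ := by rw [hdy]; group
  have h1 := (Cfsg.Agent.Small.card_orderOf_ge (p := p) (G := Equiv.Perm α) hP).trans hcount
  have h2 := Subgroup.card_mul_index (Subgroup.centralizer ({y} : Set (Equiv.Perm α)))
  rw [hCy] at h2
  have h3 := Cfsg.Agent.Small.card_normalizer_mul P
  have hpos : 0 < Nat.card (Sylow p (Equiv.Perm α)) := Nat.card_pos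
  refine Nat.le_of_mul_le_mul_right ?_ hpos
  rw [h3, ← h2, mul_assoc, mul_comm (p - 1)]
  exact Nat.mul_le_mul_left _ h1

end Cfsg.Agent.S0989
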