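import Cfsg.Statements.S0990
import Mathlib.GroupTheory.Sylow
import Mathlib.GroupTheory.SpecificGroups.Alternating

set_option autoImplicit false
open Cfsg

namespace Cfsg.Agent.S0990



/-- Let p be an odd prime and P a Sylow p-subgroup of the symmetric group on a finite set with at least two elements. Then P is contained in the alternating group, and twice the order of the normalizer of P inside the alternating group equals the order of the normalizer of P in the symmetric group. -/
theorem result {α : Type*} [Fintype α] [DecidableEq α] (hα : 2 ≤ Fintype.card α) (p : ℕ) [Fact p.Prime] (hp : p ≠ 2) (P : Sylow p (Equiv.Perm α)) : (P : Subgroup (Equiv.Perm α)) ≤ alternatingGroup α ∧ 2 * Nat.card ↥(Subgroup.normalizer ((((P : Subgroup (Equiv.Perm α)).subgroupOf (alternatingGroup α) : Subgroup ↥(alternatingGroup α)) : Set ↥(alternatingGroup α)))) = Nat.card ↥(Subgroup.normalizer ((P : Subgroup (Equiv.Perm α)) : Set (Equiv.Perm α))) := by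
  classical
  haveI : Nontrivial α := Fintype.one_lt_card_iff_nontrivial.mp hα
  have hp' := (Fact.out : p.Prime)
  have hPA : (P : Subgroup (Equiv.Perm α)) ≤ alternatingGroup α := by
    intro x hx
    rw [Equiv.Perm.mem_alternatingGroup]
    obtain ⟨k, hk⟩ := IsPGroup.iff_orderOf.mp P.isPGroup' ⟨x, hx⟩
    rw [← Subgroup.orderOf_coe] at hk
    have h1 : (Equiv.Perm.sign x) ^ p ^ k = 1 := by
      rw [← map_pow, ← hk]
      exact (congrArg _ (pow_orderOf_eq_one x)).trans (map_one _)
    rcases Int.units_eq_one_or (Equiv.Perm.sign x) with h | h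
    · exact h
    · exfalso
      rw [h, ((hp'.odd_of_ne_two hp).pow).neg_one_pow] at h1
      exact absurd h1 (by decide)
  refine ⟨hPA, ?_⟩
  set N := Subgroup.normalizer ((P : Subgroup (Equiv.Perm α)) : Set (Equiv.Perm α)) with hN
  have hi : ((alternatingGroup α).subgroupOf N).index = 2 := by
    have hsup : N ⊔ alternatingGroup α = ⊤ := Sylow.normalizer_sup_eq_top' P hPA
    show (alternatingGroup α).relIndex N = 2
    rw [← Subgroup.relIndex_sup_right, hsup, Subgroup.relIndex_top_right]
    exact alternatingGroup.index_eq_two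
  have h := Subgroup.card_mul_index ((alternatingGroup α).subgroupOf N)
  rw [hi] at h
  rw [← Subgroup.subgroupOf_normalizer_eq hPA, ← hN, mul_comm, ← h]
  congr 1
  refine Nat.card_congr
    { toFun := fun a => ⟨⟨(a.1 : Equiv.Perm α), a.2⟩, a.1.2⟩
      invFun := fun b => ⟨⟨(b.1 : Equiv.Perm α), b.2⟩, b.1.2⟩
      left_inv := fun a => rfl
      right_inv := fun b => rfl }

end Cfsg.Agent.S0990
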