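import Cfsg.Statements.S0980
import Cfsg.Agent.Lib.Small.SelfCentral
import Cfsg.Agent.Lib.Small.CommFixed
import Cfsg.Agent.Lib.Char.Burnside

set_option autoImplicit false
set_option linter.style.haveILetI false

set_option autoImplicit false
open Cfsg

namespace Cfsg.Agent.S0980

/-- No finite simple group has order 5760 = 2^7 * 3^2 * 5. -/
theorem result {G : Type*} [Group G] [Finite G] [IsSimpleGroup G] : Nat.card G ≠ 5760 := by
  intro hcard
  haveI : Fact (Nat.Prime 5) := ⟨by norm_num⟩
  haveI : Fact (Nat.Prime 3) := ⟨by norm_num⟩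
  have hnp : ¬ (Nat.card G).Prime := by rw [hcard]; norm_num
  have hG := Small.not_comm_of_card hnp
  have hd : 5 ∣ Nat.card G := by rw [hcard]; norm_num
  have hk : Nat.card G = 5 ^ 1 * 1152 := by rw [hcard]; norm_num
  have hn := Small.sylow_number_mem hk (by norm_num)
  rw [show (Nat.divisors 1152).filter (fun d => d % 5 = 1) = {1, 6, 16, 36, 96, 576} by decide +kernel] at hn
  simp only [Finset.mem_insert, Finset.mem_singleton] at hn
  have hn' := hn.resolve_left (Small.sylow_number_ne_one hG hd)
  obtain ⟨P⟩ : Nonempty (Sylow 5 G) := inferInstance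
  have hP : Nat.card (P : Subgroup G) = 5 := (Small.sylow_card hk (by norm_num) P).trans (pow_one 5)
  have hN := Small.card_normalizer_mul P
  have hidx := (Small.card_eq_index P).symm
  have hne := Small.normalizer_ne_top hG hd P
  rw [hcard] at hN
  -- an element of order three centralizing `P` would have a class of prime power size
  have three : 3 ∣ Nat.card (Subgroup.centralizer ((P : Subgroup G) : Set G)) → False := by
    intro h3
    obtain ⟨y, hy⟩ := exists_prime_orderOf_dvd_card' 3 h3
    have hy3 : orderOf (y : G) = 3 := by rw [Subgroup.orderOf_coe, hy]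
    set C := Subgroup.centralizer ({(y : G)} : Set G) with hC
    have hPC : (P : Subgroup G) ≤ C := fun v hv =>
      Subgroup.mem_centralizer_singleton_iff.2 (Subgroup.mem_centralizer_iff.1 y.2 v hv)
    have h5 : 5 ∣ Nat.card C := hP ▸ Subgroup.card_dvd_of_le hPC
    have hpg : IsPGroup 3 (Subgroup.zpowers (y : G)) :=
      IsPGroup.of_card (n := 1) (by rw [Nat.card_zpowers, hy3, pow_one])
    obtain ⟨T, hT⟩ := hpg.exists_le_sylow
    have hTc : Nat.card (T : Subgroup G) = 3 ^ 2 :=
      Small.sylow_card (k := 2) (m := 640) (by rw [hcard]; norm_num) (by norm_num) T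
    have hTab := IsPGroup.commutative_of_card_eq_prime_sq hTc
    have hTC : (T : Subgroup G) ≤ C := fun v hv =>
      Subgroup.mem_centralizer_singleton_iff.2
        (congrArg Subtype.val (hTab ⟨v, hv⟩ ⟨(y : G), hT (Subgroup.mem_zpowers _)⟩))
    have h9 : 9 ∣ Nat.card C := by simpa [hTc] using Subgroup.card_dvd_of_le hTC
    have h45 : 45 ∣ Nat.card C := Nat.Coprime.mul_dvd_of_dvd_of_dvd (by norm_num) h5 h9
    obtain ⟨l, hl⟩ := h45
    have hmul := C.card_mul_index
    rw [hl, hcard] at hmul
    have hd128 : C.index ∣ 2 ^ 7 := ⟨l, by nlinarith⟩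
    obtain ⟨k, -, hk⟩ := (Nat.dvd_prime_pow Nat.prime_two).1 hd128
    exact hnp (Char.prime_card_of_class_prime_pow Nat.prime_two (y : G)
      (fun e => by rw [e, orderOf_one] at hy3; omega) hk)
  rcases hn' with h | h | h | h | h <;> rw [h] at hN hidx
  · have := Small.factorial_bound (p := 5) hG hd
    rw [h, hcard] at this
    norm_num [Nat.factorial] at this
  · have hC := CommFix.card_centralizer_cases hnp P hP (n := 360) (by norm_num) (by omega)
    rw [show (Nat.divisors 360).filter (fun c => 5 ∣ c ∧ c ≠ 360 ∧ 360 ∣ c * (5 - 1)) = {90, 180} by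
      decide +kernel, Finset.mem_insert, Finset.mem_singleton] at hC
    rcases hC with e | e <;> exact three (by rw [e]; norm_num)
  · have hN' : Nat.card (Subgroup.normalizer ((P : Subgroup G) : Set G)) = 160 := by omega
    have hC := CommFix.card_centralizer_cases hnp P hP (n := 160) (by norm_num) hN'
    rw [show (Nat.divisors 160).filter (fun c => 5 ∣ c ∧ c ≠ 160 ∧ 160 ∣ c * (5 - 1)) = {40, 80} by
      decide +kernel, Finset.mem_insert, Finset.mem_singleton] at hC
    obtain ⟨z, hzC, hzo, hzle⟩ : ∃ z ∈ Subgroup.centralizer ((P : Subgroup G) : Set G), orderOf z = 2 ∧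
        Subgroup.centralizer ((P : Subgroup G) : Set G) ≤ Subgroup.centralizer ({z} : Set G) := by
      rcases hC with e | e
      · exact CommFix.exists_central_invol P hP (by norm_num) (k := 3) (by norm_num) (by rw [e]; norm_num)
      · exact CommFix.exists_central_invol P hP (by norm_num) (k := 4) (by norm_num) (by rw [e]; norm_num)
    have hmod := CommFix.fix_mod P hP hzC
    have hlt := CommFix.fix_lt hne (Invol.ne_one hzo)
    have h4 := CommFix.four_dvd hG hne hzo
    rw [hidx] at hlt h4
    have hfix : CommFix.fix (Subgroup.normalizer ((P : Subgroup G) : Set G)) z = 16 := by omega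
    obtain ⟨m, hm1, hm2, hm3⟩ := CommFix.invol_count P hP (by norm_num) hzC hzo (by rw [hfix, h]; norm_num)
    rw [hfix, hN'] at hm3
    set D := Subgroup.centralizer ({z} : Set G) with hDdef
    have hd1 : Nat.card D ∣ 5760 := hcard ▸ Subgroup.card_subgroup_dvd_card _
    have hd2 : 5 ∣ Nat.card D := by
      have h0 := Subgroup.card_dvd_of_le ((Small.le_centralizer_self (P : Subgroup G) hP).trans hzle)
      rwa [hP] at h0
    have hm15 : m < 16 := by rcases hC with e | e <;> rw [e] at hm2 <;> omega
    have hcase : m = 8 ∨ (m = 4 ∧ Nat.card D = 640) := by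
      have key : ∀ c ∈ Nat.divisors 5760, ∀ m < 16, c * m = 16 * 160 → 5 ∣ c →
          m = 8 ∨ (m = 4 ∧ c = 640) := by decide +kernel
      exact key _ (Nat.mem_divisors.2 ⟨hd1, by norm_num⟩) m hm15 hm3 hd2
    rcases hcase with rfl | ⟨rfl, e⟩
    swap
    · have hDne : D ≠ ⊤ := fun hh => by rw [hh, Subgroup.card_top, hcard] at e; norm_num at e
      have hi : D.index = 9 := by
        have := D.card_mul_index
        rw [e, hcard] at this
        omega
      have := Small.card_two_mul_dvd_factorial hG hDne
      rw [hi, hcard] at this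
      norm_num [Nat.factorial] at this
    rcases hC with e | e <;> rw [e] at hm2
    · omega
    have hPD : (P : Subgroup G) ≤ D := (Small.le_centralizer_self (P : Subgroup G) hP).trans hzle
    have hov := CommFix.card_overgroup P hPD
    set K := (D ⊓ Subgroup.normalizer ((P : Subgroup G) : Set G) : Subgroup G) with hK
    have hK1 : Nat.card K ∣ 160 := hN' ▸ Subgroup.card_dvd_of_le inf_le_right
    have hK2 : 80 ∣ Nat.card K := e ▸ Subgroup.card_dvd_of_le (le_inf hzle (Small.centralizer_le_normalizer _))
    have hs := card_sylow_modEq_one 5 D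
    rw [Nat.ModEq] at hs
    have hD : Nat.card D = 320 := by omega
    rw [hD] at hov
    obtain ⟨a, ha⟩ := hK2
    have hale : a ≤ 2 := by
      have := Nat.le_of_dvd (by norm_num) hK1
      omega
    rw [ha] at hov
    interval_cases a <;> omega
  · have hC := CommFix.card_centralizer_cases hnp P hP (n := 60) (by norm_num) (by omega)
    rw [show (Nat.divisors 60).filter (fun c => 5 ∣ c ∧ c ≠ 60 ∧ 60 ∣ c * (5 - 1)) = {15, 30} by
      decide +kernel, Finset.mem_insert, Finset.mem_singleton] at hC
    rcases hC with e | e <;> exact three (by rw [e]; norm_num)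
  · obtain ⟨a, f, ha2, hf2, -, -, hrel, hall⟩ :=
      SelfCentral.involutions_two hnp P (by norm_num) hP (by omega) (m := 1152) (by rw [hcard])
    obtain ⟨t, ht, htc⟩ := CommFix.exists_invol_full (G := G) (k := 7) (m := 45) (by norm_num)
      (by rw [hcard]; norm_num) (by norm_num)
    obtain ⟨-, u, hu, heq⟩ := hall t ht
    set c := Nat.card (Subgroup.centralizer ({t} : Set G)) with hcdef
    have hc : 128 ≤ c := Nat.le_of_dvd Nat.card_pos htc
    rw [hcard] at heq
    have hfa : (a : ℤ) ≤ f + 1 := by omega
    have hsq : ((a : ℤ) - u) ^ 2 ≤ 4 * (a : ℤ) ^ 2 := by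
      have h1 : (u : ℤ) ≤ a ∧ -(a : ℤ) ≤ u := by omega
      nlinarith [h1.1, h1.2]
    have hcz : (128 : ℤ) ≤ c := by exact_mod_cast hc
    have h2 : (5 : ℤ) * 128 ^ 2 * f * a ≤ 5760 * (4 * (a : ℤ) ^ 2) := by
      have h3 : (128 : ℤ) ^ 2 ≤ (c : ℤ) ^ 2 := by nlinarith
      have h4 : (0 : ℤ) ≤ (f : ℤ) * a := by positivity
      push_cast at heq
      nlinarith [mul_le_mul_of_nonneg_left h3 h4]
    have ha0 : (2 : ℤ) ≤ a := by exact_mod_cast ha2
    have hf0 : (2 : ℤ) ≤ f := by exact_mod_cast hf2
    nlinarith

end Cfsg.Agent.S0980
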