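import Cfsg.Statements.S0999
import Cfsg.Agent.Lib.SmallN.CentV

set_option autoImplicit false
set_option linter.style.haveILetI false

set_option autoImplicit false
open Cfsg

namespace Cfsg.Agent.S0999

/-- Let G be a non-cyclic finite simple group and p a prime divisor of its order with p^3 > |G|. Then p > 3 and G is isomorphic to the projective special linear group of dimension 2 over the field with p elements, or p - 1 is a power of 2 and G is isomorphic to that group over the field with p - 1 elements. -/
theorem result {G : Type*} [Group G] [Finite G] [IsSimpleGroup G] (hG : ¬ IsCyclic G) (p : ℕ) (hp : p.Prime) (hdvd : p ∣ Nat.card G) (hbig : Nat.card G < p ^ 3) : (∃ (F : Type) (_ : Field F) (_ : Fintype F), Fintype.card F = p ∧ 3 < p ∧ Nonempty (G ≃* Matrix.ProjectiveSpecialLinearGroup (Fin 2) F)) ∨ (∃ (m : ℕ) (F : Type) (_ : Field F) (_ : Fintype F), Fintype.card F = 2 ^ m ∧ p = 2 ^ m + 1 ∧ 3 < p ∧ Nonempty (G ≃* Matrix.ProjectiveSpecialLinearGroup (Fin 2) F)) := by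
  haveI := Fintype.ofFinite G
  haveI : Fact p.Prime := ⟨hp⟩
  haveI : Nontrivial G := IsSimpleGroup.toNontrivial
  have hperf : commutator G = ⊤ := by
    rcases (inferInstance : (commutator G).Normal).eq_bot_or_eq_top with h | h
    · exfalso
      apply hG
      have hcomm : ∀ a b : G, a * b = b * a := fun a b => by
        rw [commutator_def, Subgroup.commutator_eq_bot_iff_le_centralizer] at h
        exact (Subgroup.mem_centralizer_iff.1 (h (Subgroup.mem_top a)) b (Subgroup.mem_top b)).symm
      letI : CommGroup G := { (inferInstance : Group G) with mul_comm := hcomm }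
      exact inferInstance
    · exact h
  obtain ⟨S⟩ : Nonempty (Sylow p G) := inferInstance
  have hnotn : ¬ (S : Subgroup G).Normal := by
    intro h
    rcases h.eq_bot_or_eq_top with h1 | h1
    · have h2 := S.dvd_card_of_dvd_card hdvd
      rw [h1, Subgroup.card_bot] at h2
      exact hp.not_dvd_one h2
    · refine hG ?_
      haveI : Group.IsNilpotent (S : Subgroup G) := S.2.isNilpotent
      obtain ⟨k, hk⟩ := IsPGroup.iff_card.1 S.2
      by_contra hnc
      have hGp : IsPGroup p G := by
        refine IsPGroup.of_card (n := k) ?_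
        rw [← hk, h1, Subgroup.card_top]
      haveI := hGp.center_nontrivial
      rcases (inferInstance : (Subgroup.center G).Normal).eq_bot_or_eq_top with h3 | h3
      · exact not_nontrivial (⊥ : Subgroup G) (h3 ▸ (inferInstance : Nontrivial (Subgroup.center G)))
      · exact hnc (by
          letI : CommGroup G := { (inferInstance : Group G) with
            mul_comm := fun a b => (Subgroup.mem_center_iff.1 (h3 ▸ Subgroup.mem_top b) a) }
          exact inferInstance)
  -- the number of conjugates
  have hnp := card_sylow_modEq_one p G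
  obtain ⟨n, hn⟩ : ∃ n, Nat.card (Sylow p G) = n * p + 1 := by
    refine ⟨Nat.card (Sylow p G) / p, ?_⟩
    have h1 := Nat.mod_add_div (Nat.card (Sylow p G)) p
    rw [hnp, Nat.mod_eq_of_lt hp.one_lt] at h1
    rw [mul_comm]
    omega
  have hn0 : n ≠ 0 := by
    rintro rfl
    rw [zero_mul, zero_add] at hn
    haveI : Subsingleton (Sylow p G) := (Nat.card_eq_one_iff_unique.1 hn).1
    exact hnotn S.normal_of_subsingleton
  have hidx := (Subgroup.normalizer ((S : Subgroup G) : Set G)).card_mul_index
  have hidx' : (Subgroup.normalizer ((S : Subgroup G) : Set G)).index = n * p + 1 :=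
    (S.card_eq_index_normalizer).symm.trans hn
  rw [hidx'] at hidx
  have hdvdN := Subgroup.card_dvd_of_le (Subgroup.le_normalizer (H := (S : Subgroup G)))
  have hS : Nat.card (S : Subgroup G) = p := by
    obtain ⟨k, hk⟩ := IsPGroup.iff_card.1 S.2
    have h1 := S.dvd_card_of_dvd_card hdvd
    rw [hk] at h1 hdvdN
    rcases k with _ | _ | k
    · simp at h1
      exact absurd h1 hp.ne_one
    · rw [hk, pow_one]
    · exfalso
      have h2 := Nat.le_of_dvd Nat.card_pos ((pow_dvd_pow p (show 2 ≤ k + 2 by omega)).trans hdvdN)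
      have h3 : p ^ 2 * (n * p + 1) ≤ Nat.card G := hidx ▸ Nat.mul_le_mul_right _ h2
      have h4 : p * 1 ≤ p * n := Nat.mul_le_mul_left p (Nat.pos_of_ne_zero hn0)
      rw [pow_succ p 2] at hbig
      have h5 := Nat.lt_of_mul_lt_mul_left (lt_of_le_of_lt h3 hbig)
      rw [mul_comm p n] at h4
      omega
  have hne : Subgroup.normalizer ((S : Subgroup G) : Set G) ≠
      Subgroup.centralizer ((S : Subgroup G) : Set G) := by
    intro h
    obtain ⟨K, hKn, hK⟩ := Cfsg.Agent.Small.exists_normal_index_of_central hdvd S h.le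
    rcases hKn.eq_bot_or_eq_top with h1 | h1
    · rw [h1, Subgroup.index_bot] at hK
      haveI : IsCyclic G := isCyclic_of_prime_card hK
      exact hG inferInstance
    · rw [h1, Subgroup.index_top] at hK
      exact hp.ne_one hK.symm
  have hC : Subgroup.centralizer ((S : Subgroup G) : Set G) = (S : Subgroup G) := by
    rcases (show n = 1 ∨ 2 ≤ n by omega) with h | h
    · exact Cfsg.Agent.SmallN.centralizer_eq_of_few S hS (by rw [hn, h, one_mul])
    · exact Cfsg.Agent.SmallN.centralizer_eq_of_many S hS hbig hperf hne hn h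
  refine Cfsg.Agent.SmallN.main hperf S hS hC ?_
  rw [hn]
  obtain ⟨d, hd⟩ := hdvdN
  rw [hS] at hd
  have hd2 : 2 ≤ d := by
    rcases (show d = 0 ∨ d = 1 ∨ 2 ≤ d by omega) with h | h | h
    · rw [h, mul_zero] at hd; exact absurd hd Nat.card_pos.ne'
    · refine absurd ?_ hne
      rw [hC]
      exact (Subgroup.eq_of_le_of_card_ge Subgroup.le_normalizer (le_of_eq (by rw [hd, h, mul_one, hS]))).symm
    · exact h
  rw [hd] at hidx
  have h1 : p * (2 * (n * p + 1)) ≤ Nat.card G := by
    rw [← hidx, mul_assoc]
    exact Nat.mul_le_mul_left p (Nat.mul_le_mul_right _ hd2)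
  rw [pow_succ' p 2] at hbig
  have h2 := Nat.lt_of_mul_lt_mul_left (lt_of_le_of_lt h1 hbig)
  have h3 : p ^ 2 ≤ (p + 1) * (p + 2) := by rw [pow_two]; exact Nat.mul_le_mul (by omega) (by omega)
  omega

end Cfsg.Agent.S0999
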