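import Cfsg.Statements.S0997
import Cfsg.Agent.S0999
import Cfsg.Agent.Lib.SmallDim.Tuan

set_option autoImplicit false
set_option linter.style.haveILetI false

set_option autoImplicit false
open Cfsg

namespace Cfsg.Agent.S0997

/-- Let G be a non-cyclic finite simple group of order p * q^b * g₀, where p and q are distinct primes and g₀ < p - 1. Then either p has the form 2^m + 1 or 2^m - 1 and G is isomorphic to the projective special linear group of dimension 2 over the field with p elements, or p = 2^m + 1 > 3 and G is isomorphic to that group over the field with 2^m elements. -/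
theorem result {G : Type*} [Group G] [Finite G] [IsSimpleGroup G] (hG : ¬ IsCyclic G) (p q b g₀ : ℕ) (hp : p.Prime) (hq : q.Prime) (hpq : p ≠ q) (hG' : Nat.card G = p * q ^ b * g₀) (hg : g₀ < p - 1) : (∃ (m : ℕ) (F : Type) (_ : Field F) (_ : Fintype F), Fintype.card F = p ∧ (p = 2 ^ m + 1 ∨ p = 2 ^ m - 1) ∧ Nonempty (G ≃* Matrix.ProjectiveSpecialLinearGroup (Fin 2) F)) ∨ (∃ (m : ℕ) (F : Type) (_ : Field F) (_ : Fintype F), Fintype.card F = 2 ^ m ∧ p = 2 ^ m + 1 ∧ 3 < p ∧ Nonempty (G ≃* Matrix.ProjectiveSpecialLinearGroup (Fin 2) F)) := by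
  haveI := Fintype.ofFinite G
  haveI : Fact p.Prime := ⟨hp⟩
  have hperf : commutator G = ⊤ := by
    rcases (inferInstance : (commutator G).Normal).eq_bot_or_eq_top with h | h
    · exfalso
      apply hG
      have hcomm : ∀ a b : G, a * b = b * a := fun a b => by
        rw [commutator_def, Subgroup.commutator_eq_bot_iff_le_centralizer] at h
        exact (Subgroup.mem_centralizer_iff.1 (h (Subgroup.mem_top a)) b (Subgroup.mem_top b)).symm
      letI : CommGroup G := { (inferInstance : Group G) with mul_comm := hcomm }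
      exact inferInstance
    · exact h
  have hg0 : g₀ ≠ 0 := by
    rintro rfl
    rw [mul_zero] at hG'
    exact Nat.card_pos.ne' hG'
  obtain ⟨c, g, hqg, rfl⟩ := Nat.exists_eq_pow_mul_and_not_dvd hg0 q hq.ne_one
  have hle : g ≤ q ^ c * g := Nat.le_mul_of_pos_left g (pow_pos hq.pos c)
  rcases SmallDim.brauer_tuan (b := b + c) (g₀ := g) hG hperf hp hq hpq
      (by rw [hG', pow_add]; ring) (by omega) hqg with ⟨⟨m, hm⟩, E⟩ | ⟨⟨j, hj⟩, hlt⟩
  · exact Or.inl ⟨m, ZMod p, inferInstance, inferInstance, ZMod.card p, hm, E⟩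
  · rcases Cfsg.Agent.S0999.result hG p hp ⟨q ^ b * (q ^ c * g), by rw [hG', mul_assoc]⟩ hlt with
      ⟨F, iF, iF', hF, -, E⟩ | ⟨m, F, iF, iF', hF, hm, h3, E⟩
    · exact Or.inl ⟨j, F, iF, iF', hF, Or.inl hj, E⟩
    · exact Or.inr ⟨m, F, iF, iF', hF, hm, h3, E⟩

end Cfsg.Agent.S0997
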