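import Cfsg.Statements.S0998
import Cfsg.Agent.Lib.SmallN.ThreePrimes.Main
import Cfsg.Agent.S0494
import Cfsg.Agent.S0253
import Cfsg.Agent.S0999

set_option autoImplicit false
set_option linter.style.haveILetI false

set_option autoImplicit false
open Cfsg

namespace Cfsg.Agent.S0998

/-- A non-cyclic finite simple group whose order has the form p * r * q^b for distinct primes p, q, r is isomorphic to the projective special linear group of dimension 2 over the field with 5 or with 7 elements. -/
theorem result {G : Type*} [Group G] [Finite G] [IsSimpleGroup G] (hG : ¬ IsCyclic G) (p q r b : ℕ) (hp : p.Prime) (hq : q.Prime) (hr : r.Prime) (hpq : p ≠ q) (hpr : p ≠ r) (hqr : q ≠ r) (hG' : Nat.card G = p * r * q ^ b) : (∃ (F : Type) (_ : Field F) (_ : Fintype F), Fintype.card F = 5 ∧ Nonempty (G ≃* Matrix.ProjectiveSpecialLinearGroup (Fin 2) F)) ∨ (∃ (F : Type) (_ : Field F) (_ : Fintype F), Fintype.card F = 7 ∧ Nonempty (G ≃* Matrix.ProjectiveSpecialLinearGroup (Fin 2) F)) := by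
  classical
  haveI := Fintype.ofFinite G
  have hperf : commutator G = ⊤ := by
    rcases (inferInstance : (commutator G).Normal).eq_bot_or_eq_top with h | h
    · exfalso
      apply hG
      have hcomm : ∀ a b : G, a * b = b * a := fun a b => by
        rw [commutator_def, Subgroup.commutator_eq_bot_iff_le_centralizer] at h
        exact (Subgroup.mem_centralizer_iff.1 (h (Subgroup.mem_top a)) b (Subgroup.mem_top b)).symm
      letI : CommGroup G := { (inferInstance : Group G) with mul_comm := hcomm }
      exact inferInstance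
    · exact h
  suffices key : ∀ p r : ℕ, p.Prime → r.Prime → r < p → p ≠ q → q ≠ r →
      Nat.card G = p * r * q ^ b → _ by
    rcases Nat.lt_or_gt_of_ne hpr with h | h
    · exact key r p hr hp h (Ne.symm hqr) (Ne.symm hpq) (by rw [hG']; ring)
    · exact key p r hp hr h hpq hqr hG'
  intro p r hp hr hrp hpq hqr hG'
  rcases Cfsg.Agent.SmallN.three_primes hperf hp hq hr hrp hpq hqr hG' with h | ⟨hp7, h⟩
  · left
    obtain ⟨e⟩ := Cfsg.Agent.S0494.result h
    haveI : Fact (Nat.Prime 5) := ⟨by norm_num⟩
    obtain ⟨f⟩ := Cfsg.Agent.S0253.result (F := ZMod 5) (ZMod.card 5)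
    exact ⟨ZMod 5, inferInstance, inferInstance, ZMod.card 5, ⟨e.trans f.symm⟩⟩
  · right
    subst hp7
    rcases Cfsg.Agent.S0999.result hG 7 hp (by rw [hG']; exact dvd_mul_of_dvd_left (dvd_mul_right 7 r) _)
        (lt_of_lt_of_le h (by norm_num)) with ⟨F, i1, i2, hF, -, e⟩ | ⟨m, F, i1, i2, -, h7, -, -⟩
    · exact ⟨F, i1, i2, hF, e⟩
    · exfalso
      rcases m with _ | _ | _ | m
      · norm_num at h7
      · norm_num at h7
      · norm_num at h7
      · have := Nat.one_le_two_pow (n := m)
        rw [pow_succ, pow_succ, pow_succ] at h7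
        omega

end Cfsg.Agent.S0998
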