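import Cfsg.Statements.S0983
import Cfsg.Agent.Lib.Small.Orders6232.Cert
import Cfsg.Agent.Lib.Small.Orders6232.CasesA
import Cfsg.Agent.Lib.Small.Orders6232.CasesB
import Cfsg.Agent.Lib.Small.Orders6232.CasesD
import Cfsg.Agent.Lib.Classical.DicksonProper
import Cfsg.Agent.Lib.Char.Burnside
import Cfsg.Agent.S0975
import Cfsg.Agent.S0976
import Cfsg.Agent.S0977
import Cfsg.Agent.S0978
import Cfsg.Agent.S0980
import Cfsg.Agent.S0992
import Cfsg.Agent.S0997
import Cfsg.Agent.S0998
import Cfsg.Agent.S0999

set_option autoImplicit false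
set_option maxRecDepth 20000
open Cfsg

namespace Cfsg.Agent.S0983

/-- The order of a two-dimensional projective special linear group. -/
theorem two_mul_card_psl {F : Type} [Field F] [Fintype F] {q : ℕ} (h : Fintype.card F = q) :
    Nat.gcd 2 (q - 1) * Nat.card (Matrix.ProjectiveSpecialLinearGroup (Fin 2) F) = q * (q ^ 2 - 1) := by
  have := Dickson.gcd_mul_card_psl (K := F)
  rwa [Nat.card_eq_fintype_card (α := F), h] at this

/-- A non-abelian finite simple group of order greater than 3640 and at most 6232 has order 4080, 5616, 6048 or 6072. -/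
theorem result {G : Type*} [Group G] [Finite G] [IsSimpleGroup G] (hG : ¬ IsMulCommutative G) (h1 : 3640 < Nat.card G) (h2 : Nat.card G ≤ 6232) : Nat.card G = 4080 ∨ Nat.card G = 5616 ∨ Nat.card G = 6048 ∨ Nat.card G = 6072 := by
  have hcyc : ¬ IsCyclic G := fun h => hG (@IsCyclic.isMulCommutative G _ h)
  obtain ⟨⟨kind, p, a, q, b⟩, hw⟩ := Ord6232.exists_witness h1 h2
  -- orders of the two-dimensional groups
  have hB : ∀ {m : ℕ} {F : Type} [Field F] [Fintype F], Fintype.card F = 2 ^ m →
      Nonempty (G ≃* Matrix.ProjectiveSpecialLinearGroup (Fin 2) F) → Nat.card G = 4080 := by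
    intro m F _ _ hF ⟨e⟩
    have hc := two_mul_card_psl hF
    rw [← Nat.card_congr e.toEquiv] at hc
    rcases Nat.eq_zero_or_pos m with rfl | hm
    · norm_num at hc
      omega
    have hodd : Nat.gcd 2 (2 ^ m - 1) = 1 := by
      have h2m : 2 ∣ 2 ^ m := dvd_pow_self 2 hm.ne'
      have hp : 0 < 2 ^ m := pow_pos (by norm_num) m
      exact (Nat.prime_two.coprime_iff_not_dvd.2 (by omega) : Nat.Coprime 2 (2 ^ m - 1))
    rw [hodd, one_mul] at hc
    have hm4 : m ≤ 4 := by
      by_contra hlt
      have h32 : 32 ≤ 2 ^ m := (by norm_num : (32 : ℕ) = 2 ^ 5) ▸ Nat.pow_le_pow_right (by norm_num) (by omega)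
      have : 32 * (32 ^ 2 - 1) ≤ 2 ^ m * ((2 ^ m) ^ 2 - 1) :=
        Nat.mul_le_mul h32 (Nat.sub_le_sub_right (Nat.pow_le_pow_left h32 2) 1)
      omega
    interval_cases m <;> norm_num at hc <;> omega
  have hA : ∀ {r : ℕ} {F : Type} [Field F] [Fintype F], r.Prime → Fintype.card F = r →
      Nonempty (G ≃* Matrix.ProjectiveSpecialLinearGroup (Fin 2) F) → Nat.card G = 6072 := by
    intro r F _ _ hr hF ⟨e⟩
    have hc := two_mul_card_psl hF
    rw [← Nat.card_congr e.toEquiv] at hc
    have hg : Nat.gcd 2 (r - 1) ≤ 2 := Nat.gcd_le_left _ (by norm_num)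
    have hr25 : r < 25 := by
      by_contra hlt
      have : 25 * (25 ^ 2 - 1) ≤ r * (r ^ 2 - 1) :=
        Nat.mul_le_mul (by omega) (Nat.sub_le_sub_right (Nat.pow_le_pow_left (by omega) 2) 1)
      have : Nat.gcd 2 (r - 1) * Nat.card G ≤ 2 * 6232 := Nat.mul_le_mul hg h2
      omega
    interval_cases r <;> first
      | (norm_num at hr; done)
      | (norm_num at hc; done)
      | (norm_num at hc; omega)
  match kind, hw with
  | 0, hw =>
    simp only [Ord6232.check, Bool.and_eq_true, decide_eq_true_eq] at hw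
    exact absurd rfl (Small.card_ne_of_excl hG (Ord6232.prime_of_primeB hw.1) hw.2)
  | 1, hw =>
    simp only [Ord6232.check, Bool.and_eq_true, decide_eq_true_eq] at hw
    exact absurd rfl (OrdersExcl.card_ne_of_succ hG (Ord6232.prime_of_primeB hw.1) hw.2)
  | 2, hw =>
    simp only [Ord6232.check, Bool.and_eq_true, decide_eq_true_eq] at hw
    have hs := Cfsg.Agent.Char.isSolvable_of_card_pq p q (Ord6232.prime_of_primeB hw.1.1) (Ord6232.prime_of_primeB hw.1.2) _ G rfl ⟨a, b, hw.2⟩
    exact absurd ⟨⟨fun x y => IsSimpleGroup.comm_iff_isSolvable.2 hs x y⟩⟩ hG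
  | 3, hw =>
    simp only [Ord6232.check, Bool.and_eq_true, decide_eq_true_eq] at hw
    rcases S0999.result hcyc p (Ord6232.prime_of_primeB hw.1.1) (Nat.dvd_of_mod_eq_zero hw.1.2) hw.2 with
      ⟨F, i1, i2, hF, -, he⟩ | ⟨m, F, i1, i2, hF, -, -, he⟩
    · exact Or.inr (Or.inr (Or.inr (hA (Ord6232.prime_of_primeB hw.1.1) hF he)))
    · exact Or.inl (hB hF he)
  | 4, hw =>
    simp only [Ord6232.check, Ord6232.exclSucc, Bool.and_eq_true, decide_eq_true_eq] at hw
    obtain ⟨hp', ⟨⟨hdvd, hnd⟩, h3⟩, hall⟩ := hw
    have hp := Ord6232.prime_of_primeB hp'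
    haveI := Fact.mk hp
    exfalso
    have hk : Nat.card G = p ^ 1 * (Nat.card G / p) := by
      rw [pow_one, Nat.mul_div_cancel' (Nat.dvd_of_mod_eq_zero hdvd)]
    have hm : ¬ p ∣ Nat.card G / p := fun h => hnd (Nat.mod_eq_zero_of_dvd h)
    obtain ⟨P, hP, hmem, -, hN, -⟩ := OrdersExcl.setup hG _ rfl hk hm
    have hNP := Small.card_normalizer_mul P
    rcases hall _ hmem with hg | ⟨he, hne⟩
    · have hd : Nat.card (Subgroup.centralizer ((P : Subgroup G) : Set G)) ≠
          Nat.card (Subgroup.normalizer ((P : Subgroup G) : Set G)) :=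
        Small.centralizer_ne_normalizer (fun h => hcyc (@isCyclic_of_prime_card G _ _ ⟨h⟩ rfl))
          (Nat.dvd_of_mod_eq_zero hdvd) P
      have h1 := Small.card_normalizer_dvd _ hP
      obtain ⟨c, hc⟩ := Subgroup.card_dvd_of_le
        (Small.centralizer_le_normalizer ((P : Subgroup G)))
      obtain ⟨l, hl⟩ : p ∣ Nat.card (Subgroup.centralizer ((P : Subgroup G) : Set G)) := by
        have := Subgroup.card_dvd_of_le (Small.le_centralizer_self _ hP)
        rwa [hP] at this
      have hcp : c ∣ p - 1 := by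
        rw [hc] at h1
        exact Nat.dvd_of_mul_dvd_mul_left Nat.card_pos h1
      have hcm : c ∣ Nat.card G / p / Nat.card (Sylow p G) := by
        refine ⟨l, ?_⟩
        have e : Nat.card G / p = c * l * Nat.card (Sylow p G) := by
          rw [← hN, hc, hl, show p * l * c * Nat.card (Sylow p G) = p * (c * l * Nat.card (Sylow p G)) by ring,
            Nat.mul_div_cancel_left _ hp.pos]
        rw [e, Nat.mul_div_cancel _ Nat.card_pos]
      have hc1 : c = 1 := Nat.eq_one_of_dvd_one (hg ▸ Nat.dvd_gcd hcm hcp)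
      rw [hc, hc1, mul_one] at hd
      exact hd rfl
    · have h2' := OrderTools.two_mul_card_normalizer_dvd hG h3 P hP he
      rw [he] at hN
      apply hne
      rw [show Nat.card G / (p + 1) = Nat.card (Subgroup.normalizer ((P : Subgroup G) : Set G)) by
        conv_lhs => rw [← hN]
        rw [Nat.mul_div_cancel _ (Nat.succ_pos p)]]
      exact Nat.mod_eq_zero_of_dvd h2'
  | n + 5, hw =>
    simp only [Ord6232.check, decide_eq_true_eq, Ord6232.rest, List.mem_cons, List.not_mem_nil, or_false] at hw
    have h998 : ∀ p r q b : ℕ, p.Prime → q.Prime → r.Prime → p ≠ q → p ≠ r → q ≠ r →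
        Nat.card G ≠ p * r * q ^ b := by
      intro p r q b hp hq hr hpq hpr hqr hG'
      rcases S0998.result hcyc p q r b hp hq hr hpq hpr hqr hG' with ⟨F, i1, i2, hF, he⟩ | ⟨F, i1, i2, hF, he⟩ <;>
        obtain ⟨e⟩ := he <;>
        · have hc := two_mul_card_psl hF
          rw [← Nat.card_congr e.toEquiv] at hc
          norm_num at hc
          omega
    have h992 : 4 ∣ Nat.card G → ¬ 8 ∣ Nat.card G → ¬ 3 ∣ Nat.card G → False := by
      intro h4 h8 h3
      haveI : Fact (Nat.Prime 2) := ⟨Nat.prime_two⟩
      obtain ⟨T⟩ : Nonempty (Sylow 2 G) := inferInstance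
      have h := (S0992.result hG (even_iff_two_dvd.2 (dvd_trans (by norm_num) h4)) h8 T).2
      exact h3 (h ▸ (Subgroup.relIndex_dvd_card _ _).trans (Subgroup.card_subgroup_dvd_card _))
    rcases hw with e | e | e | e | e | e | e | e | e | e | e | e | e | e | e | e | e | e | e | e | e | e | e | e | e |
      e | e | e | e | e | e | e | e | e | e | e | e | e | e
    · exact absurd e Ord6232.card_ne_3696
    · exact absurd e S0975.result
    · exact absurd e Ord6232.card_ne_3780
    · exact absurd (by omega) (OrdersExcl.card_ne_two_pow_mul_fifteen (G := G) (a := 8) (by norm_num))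
    · exact absurd e Ord6232.card_ne_3960
    · exact absurd e S0976.result
    · exact absurd (by omega) (h998 5 13 2 6 (by norm_num) (by norm_num) (by norm_num) (by norm_num) (by norm_num) (by norm_num))
    · exact absurd e Ord6232.card_ne_4200
    · exfalso
      rcases S0997.result hcyc 13 3 4 4 (by norm_num) (by norm_num) (by norm_num) (by omega) (by norm_num) with
        ⟨m, F, i1, i2, hF, -, he⟩ | ⟨m, F, i1, i2, hF, -, -, he⟩
      · have := hA (by norm_num : Nat.Prime 13) hF he
        omega
      · have := hB hF he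
        omega
    · exact absurd e S0977.result
    · exact absurd e Ord6232.card_ne_4356
    · exact absurd e Ord6232.card_ne_4400
    · exact absurd (by omega) (h998 5 7 2 7 (by norm_num) (by norm_num) (by norm_num) (by norm_num) (by norm_num) (by norm_num))
    · exact absurd e Ord6232.card_ne_4500
    · exact absurd e Ord6232.card_ne_4536
    · exact absurd e Ord6232.card_ne_4620
    · exact absurd e Ord6232.card_ne_4680
    · exact absurd e Ord6232.card_ne_4725
    · exact (h992 (by omega) (by omega) (by omega)).elim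
    · exact absurd e Ord6232.card_ne_4800
    · exact (h992 (by omega) (by omega) (by omega)).elim
    · exact absurd (by omega) (h998 7 11 2 6 (by norm_num) (by norm_num) (by norm_num) (by norm_num) (by norm_num) (by norm_num))
    · exact absurd e S0978.result
    · exact absurd e Ord6232.card_ne_5148
    · exact absurd e Ord6232.card_ne_5200
    · exact (h992 (by omega) (by omega) (by omega)).elim
    · exact absurd e Ord6232.card_ne_5292
    · exact absurd (by omega) (h998 3 7 2 8 (by norm_num) (by norm_num) (by norm_num) (by norm_num) (by norm_num) (by norm_num))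
    · exact absurd e Ord6232.card_ne_5400
    · exact absurd e Ord6232.card_ne_5460
    · exact absurd e Ord6232.card_ne_5600
    · exact Or.inr (Or.inl e)
    · exact absurd e S0980.result
    · exact absurd e Ord6232.card_ne_5808
    · exact absurd e Ord6232.card_ne_5880
    · exact absurd e Ord6232.card_ne_5940
    · exact absurd e Ord6232.card_ne_6000
    · exact Or.inr (Or.inr (Or.inl e))
    · exact absurd e Ord6232.card_ne_6160

end Cfsg.Agent.S0983
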