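import Cfsg.Statements.S1015
import Cfsg.Agent.Lib.Small.SylowToolkit
import Mathlib.GroupTheory.PGroup

set_option autoImplicit false
open Cfsg

namespace Cfsg.Agent.S1015

/-- No finite simple group has order 1200 = 2^4 * 3 * 5^2. -/
theorem result {G : Type*} [Group G] [Finite G] [IsSimpleGroup G] : Nat.card G ≠ 1200 := by
  intro hcard
  haveI : Fact (Nat.Prime 5) := ⟨by norm_num⟩
  have hnp : ¬ (Nat.card G).Prime := by rw [hcard]; norm_num
  have hG := Small.not_comm_of_card hnp
  have hd : 5 ∣ Nat.card G := by rw [hcard]; norm_num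
  have hk : Nat.card G = 5 ^ 2 * 48 := by rw [hcard]; norm_num
  have hn := Small.sylow_number_mem hk (by norm_num)
  rw [show (Nat.divisors 48).filter (fun d => d % 5 = 1) = {1, 6, 16} by decide +kernel] at hn
  simp only [Finset.mem_insert, Finset.mem_singleton] at hn
  have hne := Small.sylow_number_ne_one (p := 5) hG hd
  have hfac := Small.factorial_bound (p := 5) hG hd
  have hn6 : Nat.card (Sylow 5 G) ≠ 6 := by
    intro h; rw [h, hcard] at hfac; norm_num [Nat.factorial] at hfac
  have hn16 : Nat.card (Sylow 5 G) = 16 := by omega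
  obtain ⟨P⟩ : Nonempty (Sylow 5 G) := inferInstance
  have hPc : ∀ R : Sylow 5 G, Nat.card (R : Subgroup G) = 5 ^ 2 := Small.sylow_card hk (by norm_num)
  obtain ⟨Q, hQ, hQr⟩ := Small.exists_big_inter P (j := 2) (by rw [hn16]; norm_num)
  have hab : ∀ R : Sylow 5 G, ∀ a ∈ R, ∀ b ∈ R, a * b = b * a := by
    intro R a ha b hb
    letI := IsPGroup.commGroupOfCardEqPrimeSq (hPc R)
    exact congrArg Subtype.val (mul_comm (⟨a, ha⟩ : (R : Subgroup G)) ⟨b, hb⟩)
  have hD : (P : Subgroup G) ⊓ (Q : Subgroup G) ≠ ⊥ := by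
    intro e
    rw [e, Subgroup.relIndex_bot_left, hPc P] at hQr
    omega
  obtain ⟨M, hM, hPM, hnM⟩ := Small.exists_overgroup hG P Q hQ (hab P) (hab Q) hD
  have hMdvd := Subgroup.card_subgroup_dvd_card M
  have hPMd := Subgroup.card_dvd_of_le hPM
  rw [hPc P] at hPMd
  obtain ⟨l, hl⟩ := hPMd
  rw [hl, hcard] at hMdvd
  have hl48 : l ∣ 48 := (Nat.mul_dvd_mul_iff_left (show 0 < 5 ^ 2 by norm_num)).mp (by simpa using hMdvd)
  have hl5 : ¬ 5 ∣ l := fun h => by have := h.trans hl48; omega
  have hn2 := Small.sylow_number_mem hl hl5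
  have hl6 : 6 ≤ l := by
    have hl0 : 0 < l := Nat.pos_of_ne_zero (fun e => hl5 (e ▸ dvd_zero 5))
    rw [Finset.mem_filter, Nat.mem_divisors] at hn2
    have := Nat.le_of_dvd hl0 hn2.1.1
    omega
  have hmul := M.card_mul_index
  rw [hl, hcard] at hmul
  have h1 : l * M.index = 48 := by
    have : 5 ^ 2 * (l * M.index) = 5 ^ 2 * 48 := by rw [← mul_assoc, hmul]; norm_num
    exact Nat.eq_of_mul_eq_mul_left (by norm_num) this
  have h8 : M.index ≤ 8 := by
    have := Nat.mul_le_mul_right M.index hl6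
    omega
  have h2 := (Small.card_two_mul_dvd_factorial hG hM).trans (Nat.factorial_dvd_factorial h8)
  rw [hcard] at h2
  norm_num [Nat.factorial] at h2

end Cfsg.Agent.S1015
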