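import Cfsg.Statements.S1016
import Cfsg.Agent.Lib.Small.CommFixed

set_option autoImplicit false
open Cfsg

namespace Cfsg.Agent.S1016

/-- No finite simple group has order 1440 = 2^5 * 3^2 * 5. -/
theorem result {G : Type*} [Group G] [Finite G] [IsSimpleGroup G] : Nat.card G ≠ 1440 := by
  intro hcard
  haveI : Fact (Nat.Prime 5) := ⟨by norm_num⟩
  have hnp : ¬ (Nat.card G).Prime := by rw [hcard]; norm_num
  have hG := Small.not_comm_of_card hnp
  have hd : 5 ∣ Nat.card G := by rw [hcard]; norm_num
  have hk : Nat.card G = 5 ^ 1 * 288 := by rw [hcard]; norm_num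
  have hn := Small.sylow_number_mem hk (by norm_num)
  rw [show (Nat.divisors 288).filter (fun d => d % 5 = 1) = {1, 6, 16, 36, 96} by decide +kernel] at hn
  simp only [Finset.mem_insert, Finset.mem_singleton] at hn
  have hn' := hn.resolve_left (Small.sylow_number_ne_one hG hd)
  obtain ⟨P⟩ : Nonempty (Sylow 5 G) := inferInstance
  have hP : Nat.card (P : Subgroup G) = 5 := (Small.sylow_card hk (by norm_num) P).trans (pow_one 5)
  have hidx := Small.card_eq_index P
  have hNne := Small.normalizer_ne_top hG hd P
  rcases hn' with h6 | h16 | h36 | h96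
  · have := Small.factorial_bound (p := 5) hG hd
    rw [h6, hcard] at this
    norm_num [Nat.factorial] at this
  · have hN : Nat.card (Subgroup.normalizer ((P : Subgroup G) : Set G)) = 90 := by
      have := Small.card_normalizer_mul P; rw [h16, hcard] at this; omega
    have hC := CommFix.card_centralizer_cases hnp P hP (by norm_num) hN
    rw [show (Nat.divisors 90).filter (fun c => 5 ∣ c ∧ c ≠ 90 ∧ 90 ∣ c * (5 - 1)) = {45} by decide +kernel,
      Finset.mem_singleton] at hC
    haveI : Fact (Nat.Prime 3) := ⟨Nat.prime_three⟩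
    obtain ⟨Q, hQ⟩ := Sylow.exists_subgroup_card_pow_prime 3 (n := 2)
      (G := Subgroup.centralizer ((P : Subgroup G) : Set G)) (by rw [hC]; norm_num)
    have hQ' : Nat.card (Q.map (Subgroup.centralizer ((P : Subgroup G) : Set G)).subtype) = 9 := by
      rw [← Nat.card_congr (Subgroup.equivMapOfInjective Q _ (Subgroup.subtype_injective _)).toEquiv, hQ]
      norm_num
    have hdvd := CommFix.dvd_of_fix_one (H := Subgroup.normalizer ((P : Subgroup G) : Set G))
      (Q.map (Subgroup.centralizer ((P : Subgroup G) : Set G)).subtype) fun q hq hq1 => by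
        have hqC := Subgroup.map_subtype_le Q hq
        have hq9 : orderOf q ∣ 9 := hQ' ▸ Subgroup.orderOf_dvd_natCard _ hq
        obtain ⟨y, hyq, hy3⟩ : ∃ y, (∃ j : ℕ, q ^ j = y) ∧ orderOf y = 3 := by
          rcases (Nat.dvd_prime_pow Nat.prime_three).1 (show orderOf q ∣ 3 ^ 2 by norm_num [hq9]) with ⟨i, hi, he⟩
          interval_cases i
          · exact absurd (orderOf_eq_one_iff.1 he) hq1
          · exact ⟨q, ⟨1, pow_one q⟩, by norm_num [he]⟩
          · exact ⟨q ^ 3, ⟨3, rfl⟩, by rw [orderOf_pow' q (by norm_num), he]; norm_num⟩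
        have hyC : y ∈ Subgroup.centralizer ((P : Subgroup G) : Set G) := by
          obtain ⟨j, rfl⟩ := hyq; exact pow_mem hqC j
        have hmod := CommFix.fix_mod P hP hyC
        have hy1 : y ≠ 1 := fun e => by rw [e, orderOf_one] at hy3; omega
        have hlt := CommFix.fix_lt hNne hy1
        have h3 := CommFix.modEq_prime Nat.prime_three (Subgroup.normalizer ((P : Subgroup G) : Set G)) hy3
        rw [← hidx, h16] at hlt h3
        have hmodq := CommFix.fix_mod P hP hqC
        have hle : CommFix.fix (Subgroup.normalizer ((P : Subgroup G) : Set G)) q ≤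
            CommFix.fix (Subgroup.normalizer ((P : Subgroup G) : Set G)) y := by
          obtain ⟨j, rfl⟩ := hyq
          exact Nat.card_le_card_of_injective
            (fun w => (⟨w.1, by simpa using MulAction.mem_fixedBy_zpow w.2 (j : ℤ)⟩ : MulAction.fixedBy _ (q ^ j)))
            (fun a b hab => Subtype.ext (congrArg
              (fun w : MulAction.fixedBy (G ⧸ Subgroup.normalizer ((P : Subgroup G) : Set G)) (q ^ j) => w.1) hab))
        omega
    rw [hQ', ← hidx, h16] at hdvd
    norm_num at hdvd
  · have hN : Nat.card (Subgroup.normalizer ((P : Subgroup G) : Set G)) = 40 := by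
      have := Small.card_normalizer_mul P; rw [h36, hcard] at this; omega
    have hC := CommFix.card_centralizer_cases hnp P hP (by norm_num) hN
    rw [show (Nat.divisors 40).filter (fun c => 5 ∣ c ∧ c ≠ 40 ∧ 40 ∣ c * (5 - 1)) = {10, 20} by decide +kernel] at hC
    simp only [Finset.mem_insert, Finset.mem_singleton] at hC
    haveI : Fact (Nat.Prime 2) := ⟨Nat.prime_two⟩
    obtain ⟨z, hz⟩ := exists_prime_orderOf_dvd_card' 2
      (G := Subgroup.centralizer ((P : Subgroup G) : Set G)) (by rcases hC with h | h <;> rw [h] <;> norm_num)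
    have hzo : orderOf (z : G) = 2 := by rw [Subgroup.orderOf_coe, hz]
    have hmod := CommFix.fix_mod P hP z.2
    have hlt := CommFix.fix_lt hNne (Invol.ne_one hzo)
    have h4 := CommFix.four_dvd hG hNne hzo
    rw [← hidx, h36] at hlt h4
    have hf : CommFix.fix (Subgroup.normalizer ((P : Subgroup G) : Set G)) (z : G) = 16 := by omega
    obtain ⟨m, hm1, hm2, hm3⟩ := CommFix.invol_count P hP (by norm_num) z.2 hzo (by rw [hf, h36]; norm_num)
    rw [hf, hN] at hm3
    have hdz : Nat.card (Subgroup.centralizer ({(z : G)} : Set G)) ∈ Nat.divisors 1440 :=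
      Nat.mem_divisors.2 ⟨hcard ▸ Subgroup.card_subgroup_dvd_card _, by norm_num⟩
    have key : ∀ c ∈ Nat.divisors 1440, c * 1 ≠ 640 ∧ c * 2 ≠ 640 ∧ c * 3 ≠ 640 := by decide +kernel
    obtain ⟨k1, k2, k3⟩ := key _ hdz
    have : m ≤ 3 := by rcases hC with h | h <;> omega
    interval_cases m <;> omega
  · have hN : Nat.card (Subgroup.normalizer ((P : Subgroup G) : Set G)) = 15 := by
      have := Small.card_normalizer_mul P; rw [h96, hcard] at this; omega
    have hC := CommFix.card_centralizer_cases hnp P hP (by norm_num) hN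
    rw [show (Nat.divisors 15).filter (fun c => 5 ∣ c ∧ c ≠ 15 ∧ 15 ∣ c * (5 - 1)) = ∅ by decide +kernel] at hC
    simp at hC

end Cfsg.Agent.S1016
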