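import Cfsg.Statements.S1017
import Cfsg.Agent.Lib.Small.CommFixed

set_option autoImplicit false
open Cfsg

namespace Cfsg.Agent.S1017

/-- No finite simple group has order 2016 = 2^5 * 3^2 * 7. -/
theorem result {G : Type*} [Group G] [Finite G] [IsSimpleGroup G] : Nat.card G ≠ 2016 := by
  intro hcard
  haveI : Fact (Nat.Prime 7) := ⟨by norm_num⟩
  haveI : Fact (Nat.Prime 2) := ⟨Nat.prime_two⟩
  have hnp : ¬ (Nat.card G).Prime := by rw [hcard]; norm_num
  have hG := Small.not_comm_of_card hnp
  have hd : 7 ∣ Nat.card G := by rw [hcard]; norm_num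
  have hk : Nat.card G = 7 ^ 1 * 288 := by rw [hcard]; norm_num
  have hn := Small.sylow_number_mem hk (by norm_num)
  rw [show (Nat.divisors 288).filter (fun d => d % 7 = 1) = {1, 8, 36, 288} by decide +kernel] at hn
  simp only [Finset.mem_insert, Finset.mem_singleton] at hn
  have hn' := hn.resolve_left (Small.sylow_number_ne_one hG hd)
  obtain ⟨P⟩ : Nonempty (Sylow 7 G) := inferInstance
  have hP : Nat.card (P : Subgroup G) = 7 := (Small.sylow_card hk (by norm_num) P).trans (pow_one 7)
  have hidx := Small.card_eq_index P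
  have hNne := Small.normalizer_ne_top hG hd P
  rcases hn' with h8 | h36 | h288
  · have hN : Nat.card (Subgroup.normalizer ((P : Subgroup G) : Set G)) = 252 := by
      have := Small.card_normalizer_mul P; rw [h8, hcard] at this; omega
    have hC := (Finset.mem_filter.1 (CommFix.card_centralizer_cases hnp P hP (by norm_num) hN)).2.2.2
    obtain ⟨z, hz⟩ := exists_prime_orderOf_dvd_card' 2
      (G := Subgroup.centralizer ((P : Subgroup G) : Set G)) (by omega)
    have hzo : orderOf (z : G) = 2 := by rw [Subgroup.orderOf_coe, hz]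
    have hmod := CommFix.fix_mod P hP z.2
    have hlt := CommFix.fix_lt hNne (Invol.ne_one hzo)
    have h4 := CommFix.four_dvd hG hNne hzo
    rw [← hidx, h8] at hlt h4
    omega
  · have hN : Nat.card (Subgroup.normalizer ((P : Subgroup G) : Set G)) = 56 := by
      have := Small.card_normalizer_mul P; rw [h36, hcard] at this; omega
    have hC := CommFix.card_centralizer_cases hnp P hP (by norm_num) hN
    rw [show (Nat.divisors 56).filter (fun c => 7 ∣ c ∧ c ≠ 56 ∧ 56 ∣ c * (7 - 1)) = {28} by decide +kernel,
      Finset.mem_singleton] at hC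
    obtain ⟨z, hz⟩ := exists_prime_orderOf_dvd_card' 2
      (G := Subgroup.centralizer ((P : Subgroup G) : Set G)) (by rw [hC]; norm_num)
    have hzo : orderOf (z : G) = 2 := by rw [Subgroup.orderOf_coe, hz]
    have hmod := CommFix.fix_mod P hP z.2
    have hlt := CommFix.fix_lt hNne (Invol.ne_one hzo)
    have h4 := CommFix.four_dvd hG hNne hzo
    rw [← hidx, h36] at hlt h4
    have hf : CommFix.fix (Subgroup.normalizer ((P : Subgroup G) : Set G)) (z : G) = 8 := by omega
    obtain ⟨m, hm1, hm2, hm3⟩ := CommFix.invol_count P hP (by norm_num) z.2 hzo (by rw [hf, h36]; norm_num)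
    rw [hf, hN] at hm3
    have hdz : Nat.card (Subgroup.centralizer ({(z : G)} : Set G)) ∈ Nat.divisors 2016 :=
      Nat.mem_divisors.2 ⟨hcard ▸ Subgroup.card_subgroup_dvd_card _, by norm_num⟩
    have key : ∀ c ∈ Nat.divisors 2016, c * 1 ≠ 448 ∧ (c * 2 = 448 → c = 224) ∧ c * 3 ≠ 448 := by
      decide +kernel
    obtain ⟨k1, k2, k3⟩ := key _ hdz
    have : m ≤ 3 := by omega
    interval_cases m
    · omega
    · obtain ⟨v, hv⟩ := exists_prime_orderOf_dvd_card' 7 (G := (P : Subgroup G)) (by rw [hP])
      have h224 := k2 hm3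
      have hi : (Subgroup.centralizer ({(z : G)} : Set G)).index = 9 := by
        have := (Subgroup.centralizer ({(z : G)} : Set G)).card_mul_index
        rw [h224, hcard] at this; omega
      have hc : Commute (z : G) (v : G) := (Subgroup.mem_centralizer_iff.1 z.2 _ v.2).symm
      exact CommFix.no_index_nine hG hi hzo (by rw [Subgroup.orderOf_coe, hv]) hc
        (Subgroup.mem_centralizer_singleton_iff.2 rfl) (Subgroup.mem_centralizer_singleton_iff.2 hc.symm.eq)
    · omega
  · have hN : Nat.card (Subgroup.normalizer ((P : Subgroup G) : Set G)) = 7 := by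
      have := Small.card_normalizer_mul P; rw [h288, hcard] at this; omega
    have hC := CommFix.card_centralizer_cases hnp P hP (by norm_num) hN
    rw [show (Nat.divisors 7).filter (fun c => 7 ∣ c ∧ c ≠ 7 ∧ 7 ∣ c * (7 - 1)) = ∅ by decide +kernel] at hC
    simp at hC

end Cfsg.Agent.S1017
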