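import Cfsg.Statements.S0981
import Cfsg.Agent.Lib.Small.SL2Even

set_option autoImplicit false
open Cfsg

namespace Cfsg.Agent.S0981

/-- A simple group of order 4080 is isomorphic to the projective special linear group of dimension 2 over the field with 16 elements. -/
theorem result {G : Type*} [Group G] [Finite G] [IsSimpleGroup G] (h : Nat.card G = 4080) {F : Type*} [Field F] [Fintype F] (hF : Fintype.card F = 16) : Nonempty (G ≃* Matrix.ProjectiveSpecialLinearGroup (Fin 2) F) := by
  classical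
  letI := Fintype.ofFinite G
  haveI : Fact (Nat.Prime 2) := ⟨Nat.prime_two⟩
  haveI : Fact (Nat.Prime 3) := ⟨Nat.prime_three⟩
  haveI : Fact (Nat.Prime 5) := ⟨by norm_num⟩
  haveI : Fact (Nat.Prime 17) := ⟨by norm_num⟩
  have hnp : ¬ (Nat.card G).Prime := by rw [h]; norm_num
  have hG := Small.not_comm_of_card hnp
  have hk : Nat.card G = 17 ^ 1 * 240 := by rw [h]; norm_num
  have hn := Small.sylow_number_mem hk (by norm_num)
  rw [show (Nat.divisors 240).filter (fun d => d % 17 = 1) = {1, 120} by decide +kernel] at hn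
  simp only [Finset.mem_insert, Finset.mem_singleton] at hn
  have h120 : Nat.card (Sylow 17 G) = 120 := hn.resolve_left (Small.sylow_number_ne_one hG (by rw [h]; norm_num))
  obtain ⟨P⟩ : Nonempty (Sylow 17 G) := inferInstance
  have hP : Nat.card (P : Subgroup G) = 17 := (Small.sylow_card hk (by norm_num) P).trans (pow_one 17)
  have hidx := Small.card_eq_index P
  have hN : Nat.card (Subgroup.normalizer ((P : Subgroup G) : Set G)) = 17 * 2 := by
    have := Small.card_normalizer_mul P; rw [h120, h] at this; omega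
  have hm : Nat.card G = 17 * 240 := by rw [h]
  have hclass : ∀ t u : G, orderOf t = 2 → orderOf u = 2 → IsConj t u := fun t u ht hu =>
    SL2Even.one_class hnp P (by norm_num) hP hN hm ht hu
  obtain ⟨t0, ht0, h16t⟩ := CommFix.exists_invol_full (k := 4) (m := 255) (by norm_num)
    (by rw [h]; norm_num) (by norm_num)
  have hb := SelfCentral.card_centralizer_bound hnp P (by norm_num) hP hN hm ht0
  rw [h120] at hb
  have hC0 : Nat.card (Subgroup.centralizer ({t0} : Set G)) = 2 ^ 4 := by
    obtain ⟨j, hj⟩ := h16t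
    rw [hj] at hb ⊢
    have : 0 < 2 ^ 4 * j := hj ▸ Nat.card_pos
    norm_num at *
    omega
  have hC : ∀ t : G, orderOf t = 2 → Nat.card (Subgroup.centralizer ({t} : Set G)) = 2 ^ 4 := fun t ht =>
    (CommFix.card_centralizer_conj (hclass t t0 ht ht0)).trans hC0
  have hCP := SelfCentral.centralizer_le hnp P hP Nat.prime_two hN
  have hPab : ∀ a ∈ (P : Subgroup G), ∀ b ∈ (P : Subgroup G), a * b = b * a := fun a ha b hb =>
    congrArg Subtype.val (Exc.comm_K (p := 17) hP ⟨a, ha⟩ ⟨b, hb⟩)
  have hPC : ∀ g ∈ (P : Subgroup G), g ≠ 1 → Subgroup.centralizer ({g} : Set G) ≤ (P : Subgroup G) := by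
    intro g hg hg1 c hc
    refine hCP (Subgroup.mem_centralizer_iff.2 fun w hw => ?_)
    have htop : Subgroup.zpowers (⟨g, hg⟩ : (P : Subgroup G)) = ⊤ :=
      zpowers_eq_top_of_prime_card hP (fun e => hg1 (congrArg Subtype.val e))
    obtain ⟨j, hj⟩ := Subgroup.mem_zpowers_iff.1 (htop ▸ Subgroup.mem_top (⟨w, hw⟩ : (P : Subgroup G)))
    have : g ^ j = w := congrArg Subtype.val hj
    rw [← this]
    exact ((show Commute c g from Subgroup.mem_centralizer_singleton_iff.1 hc).zpow_right j).eq.symm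
  -- centralizers of elements whose order divides 15
  have hodd : ∀ g : G, orderOf g ∣ 15 → g ≠ 1 → Nat.card (Subgroup.centralizer ({g} : Set G)) ∣ 15 := by
    intro g hgo hg1
    have hgne : orderOf g ≠ 1 := fun e => hg1 (orderOf_eq_one_iff.1 e)
    have h2 : ¬ 2 ∣ Nat.card (Subgroup.centralizer ({g} : Set G)) := fun hd => by
      obtain ⟨w, hw⟩ := exists_prime_orderOf_dvd_card' 2 hd
      have hwo : orderOf (w : G) = 2 := by rw [Subgroup.orderOf_coe, hw]
      have := Subgroup.orderOf_dvd_natCard (Subgroup.centralizer ({(w : G)} : Set G))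
        (Subgroup.mem_centralizer_singleton_iff.2 (Subgroup.mem_centralizer_singleton_iff.1 w.2).symm : g ∈ _)
      rw [hC _ hwo] at this
      exact hgne (Nat.eq_one_of_dvd_coprimes (by norm_num) hgo this)
    have h17 : ¬ 17 ∣ Nat.card (Subgroup.centralizer ({g} : Set G)) := fun hd => by
      obtain ⟨w, hw⟩ := exists_prime_orderOf_dvd_card' 17 hd
      have hwo : orderOf (w : G) = 17 := by rw [Subgroup.orderOf_coe, hw]
      obtain ⟨P', hP'⟩ := (IsPGroup.of_card (p := 17) (n := 1)
        (by rw [Nat.card_zpowers, hwo, pow_one]) : IsPGroup 17 (Subgroup.zpowers (w : G))).exists_le_sylow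
      obtain ⟨c, hc⟩ := MulAction.exists_smul_eq G P' P
      have hcw : c * (w : G) * c⁻¹ ∈ (P : Subgroup G) := by
        rw [← hc, Sylow.coe_subgroup_smul]
        exact Subgroup.smul_mem_pointwise_smul _ _ _ (hP' (Subgroup.mem_zpowers _))
      have hcg : c * g * c⁻¹ ∈ (P : Subgroup G) := by
        refine hPC _ hcw (fun e => ?_) (Subgroup.mem_centralizer_singleton_iff.2 ?_)
        · rw [conj_eq_one_iff.1 e, orderOf_one] at hwo; omega
        · calc c * g * c⁻¹ * (c * (w : G) * c⁻¹) = c * (g * w) * c⁻¹ := by group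
            _ = c * ((w : G) * g) * c⁻¹ := by rw [(Subgroup.mem_centralizer_singleton_iff.1 w.2).symm]
            _ = _ := by group
      have := Subgroup.orderOf_dvd_natCard (P : Subgroup G) hcg
      rw [hP, Invol.order_conj] at this
      exact hgne (Nat.eq_one_of_dvd_coprimes (by norm_num) hgo this)
    have key : ∀ d ∈ Nat.divisors 4080, ¬ 2 ∣ d → ¬ 17 ∣ d → d ∣ 15 := by decide +kernel
    exact key _ (Nat.mem_divisors.2 ⟨h ▸ Subgroup.card_subgroup_dvd_card _, by norm_num⟩) h2 h17
  obtain ⟨Q⟩ : Nonempty (Sylow 3 G) := inferInstance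
  have hQ : Nat.card (Q : Subgroup G) = 3 :=
    (Small.sylow_card (k := 1) (m := 1360) (by rw [h]; norm_num) (by norm_num) Q).trans (pow_one 3)
  obtain ⟨y, hy⟩ := exists_prime_orderOf_dvd_card' 3 (G := (Q : Subgroup G)) (by rw [hQ])
  have hyo : orderOf (y : G) = 3 := by rw [Subgroup.orderOf_coe, hy]
  set R := Subgroup.centralizer ((Q : Subgroup G) : Set G) with hRdef
  have hRdvd : Nat.card R ∣ 15 := by
    refine (Subgroup.card_dvd_of_le (fun c hc => Subgroup.mem_centralizer_singleton_iff.2
      (Subgroup.mem_centralizer_iff.1 hc _ y.2).symm : R ≤ Subgroup.centralizer ({(y : G)} : Set G))).trans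
      (hodd _ (by rw [hyo]; norm_num) (fun e => by rw [e, orderOf_one] at hyo; omega))
  have hNQdvd := Small.card_normalizer_dvd (p := 3) (Q : Subgroup G) hQ
  have hNQne := Small.centralizer_ne_normalizer (p := 3) hnp (by rw [h]; norm_num) Q
  rw [← hRdef] at hNQdvd hNQne
  have hQR : (Q : Subgroup G) ≤ R := Small.le_centralizer_self _ hQ
  have h3R : 3 ∣ Nat.card R := by
    have := Subgroup.card_dvd_of_le hQR; rwa [hQ] at this
  have hmulQ := Small.card_normalizer_mul Q
  have hmodQ : Nat.card (Sylow 3 G) % 3 = 1 :=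
    Eq.trans (card_sylow_modEq_one 3 G) (Nat.one_mod_eq_one.2 (by norm_num))
  have hRNQ := Subgroup.card_dvd_of_le (Small.centralizer_le_normalizer (Q : Subgroup G))
  rw [← hRdef] at hRNQ
  obtain ⟨hR, hNQ⟩ : Nat.card R = 15 ∧ Nat.card (Subgroup.normalizer ((Q : Subgroup G) : Set G)) = 30 := by
    have key : ∀ r ∈ Nat.divisors 15, ∀ n ∈ Nat.divisors (r * 2), 3 ∣ r → r ∣ n → r ≠ n →
        (4080 / n) % 3 = 1 → r = 15 ∧ n = 30 := by decide +kernel
    refine key _ (Nat.mem_divisors.2 ⟨hRdvd, by norm_num⟩) _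
      (Nat.mem_divisors.2 ⟨hNQdvd, ?_⟩) h3R hRNQ hNQne ?_
    · have : 0 < Nat.card R := Nat.card_pos
      omega
    · rw [← h, ← hmulQ, Nat.mul_div_cancel_left _ Nat.card_pos, hmodQ]
  have hRab : ∀ a ∈ R, ∀ b ∈ R, a * b = b * a := by
    obtain ⟨w, hw⟩ := exists_prime_orderOf_dvd_card' 5 (G := R) (by rw [hR]; norm_num)
    have hyR : (y : G) ∈ R := hQR y.2
    have hc : Commute (⟨(y : G), hyR⟩ : R) w :=
      Subtype.ext (Subgroup.mem_centralizer_iff.1 w.2 _ y.2)
    haveI : IsCyclic R := isCyclic_of_orderOf_eq_card ((⟨(y : G), hyR⟩ : R) * w) (by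
      rw [hc.orderOf_mul_eq_mul_orderOf_of_coprime (by rw [Subgroup.orderOf_mk, hyo, hw]; norm_num),
        Subgroup.orderOf_mk, hyo, hw, hR])
    letI := IsCyclic.commGroup (α := R)
    exact fun a ha b hb => congrArg Subtype.val (mul_comm (⟨a, ha⟩ : R) ⟨b, hb⟩)
  have hRC : ∀ g ∈ R, g ≠ 1 → Subgroup.centralizer ({g} : Set G) ≤ R := by
    intro g hg hg1
    refine (Subgroup.eq_of_le_of_card_ge
      (fun a ha => Subgroup.mem_centralizer_singleton_iff.2 (hRab a ha g hg)) ?_).ge
    rw [hR]
    exact Nat.le_of_dvd (by norm_num) (hodd g (hR ▸ Subgroup.orderOf_dvd_natCard R hg) hg1)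
  have hNR : Subgroup.normalizer (R : Set G) ≤ Subgroup.normalizer ((Q : Subgroup G) : Set G) := by
    intro g hg
    refine Subgroup.mem_normalizer_iff_map_conj_eq.2 (Subgroup.eq_of_le_of_card_ge ?_ (by
      rw [← Nat.card_congr (Subgroup.equivMapOfInjective _ _ (MulAut.conj g).injective).toEquiv]))
    have hle : (Q : Subgroup G).map (MulAut.conj g).toMonoidHom ≤
        Subgroup.normalizer ((Q : Subgroup G) : Set G) := by
      refine le_trans ?_ (Small.centralizer_le_normalizer (Q : Subgroup G))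
      rw [← hRdef, ← Subgroup.mem_normalizer_iff_map_conj_eq.1 hg]
      exact Subgroup.map_mono hQR
    have hpg : IsPGroup 3 ((Q : Subgroup G).map (MulAut.conj g).toMonoidHom) := Q.isPGroup'.map _
    exact (le_inf le_rfl hle).trans ((le_of_eq (hpg.inf_normalizer_sylow Q)).trans inf_le_right)
  have hidxR : 136 ≤ (Subgroup.normalizer (R : Set G)).index := by
    have h1 := Subgroup.card_le_of_le hNR
    rw [hNQ] at h1
    have h2 := (Subgroup.normalizer (R : Set G)).card_mul_index
    rw [h] at h2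
    by_contra hlt
    have := Nat.mul_le_mul h1 (show (Subgroup.normalizer (R : Set G)).index ≤ 135 by omega)
    omega
  set U := SL2Even.conjSet (P : Subgroup G)
  set V := SL2Even.conjSet R
  set I := {g : G | orderOf g = 2}
  have hU : 1920 ≤ U.ncard := by
    have := SL2Even.card_conjSet (P : Subgroup G) hPab hPC
    rw [← hidx, h120, hP] at this
    simpa using this
  have hV : 1904 ≤ V.ncard := by
    have h1 := SL2Even.card_conjSet R hRab hRC
    rw [hR] at h1
    have h2 := Nat.mul_le_mul_right 14 hidxR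
    norm_num at h1
    exact le_trans h2 h1
  have hI : I.ncard * 16 = 4080 := by
    have := SL2Even.ncard_invol ht0 (fun u hu => hclass t0 u ht0 hu) hC0
    rw [h] at this; simpa using this
  have hexp : ∀ g : G, (∃ k : ℕ, orderOf g = 2 ^ k) → g * g = 1 := by
    rintro g ⟨k, hk⟩
    refine SL2Even.sq_eq_one_of_count U V I ?_ ?_ ?_ (fun g hg => Invol.mul_self hg) ?_ (by rw [h]; omega) hk
    · rintro ((h1 | h1) | h1)
      · exact h1.1 rfl
      · exact h1.1 rfl
      · exact absurd (h1.symm.trans orderOf_one) (by norm_num)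
    · rw [Set.disjoint_left]
      intro x hx hx'
      have e1 := SL2Even.orderOf_dvd_of_conjSet hx
      have e2 := SL2Even.orderOf_dvd_of_conjSet hx'
      rw [hP] at e1; rw [hR] at e2
      exact hx.1 (orderOf_eq_one_iff.1 (Nat.eq_one_of_dvd_coprimes (by norm_num) e1 e2))
    · rw [Set.disjoint_left]
      rintro x (hx | hx) (hx' : orderOf x = 2)
      · have e1 := SL2Even.orderOf_dvd_of_conjSet hx; rw [hP, hx'] at e1; omega
      · have e1 := SL2Even.orderOf_dvd_of_conjSet hx; rw [hR, hx'] at e1; omega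
    · rintro x (hx | hx)
      · exact Odd.of_dvd_nat (by decide) (hP ▸ SL2Even.orderOf_dvd_of_conjSet hx : orderOf x ∣ 17)
      · exact Odd.of_dvd_nat (by decide) (hR ▸ SL2Even.orderOf_dvd_of_conjSet hx : orderOf x ∣ 15)
  exact SL2Even.psl_of_pgl (f := 4) (by norm_num) (by rw [hF]; norm_num)
    (SL2Even.recognise hG (by norm_num) (by rw [h]; norm_num) hclass hC hexp)

end Cfsg.Agent.S0981
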