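import Cfsg.Statements.S1011
import Cfsg.Agent.Lib.Small.SL2Even

set_option autoImplicit false
open Cfsg

namespace Cfsg.Agent.S1011

/-- A simple group of order 504 is isomorphic to the projective special linear group of dimension 2 over the field with 8 elements. -/
theorem result {G : Type*} [Group G] [Finite G] [IsSimpleGroup G] (h : Nat.card G = 504) {F : Type*} [Field F] [Fintype F] (hF : Fintype.card F = 8) : Nonempty (G ≃* Matrix.ProjectiveSpecialLinearGroup (Fin 2) F) := by
  classical
  letI := Fintype.ofFinite G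
  haveI : Fact (Nat.Prime 2) := ⟨Nat.prime_two⟩
  haveI : Fact (Nat.Prime 3) := ⟨Nat.prime_three⟩
  haveI : Fact (Nat.Prime 7) := ⟨by norm_num⟩
  have hnp : ¬ (Nat.card G).Prime := by rw [h]; norm_num
  have hG := Small.not_comm_of_card hnp
  have hk : Nat.card G = 7 ^ 1 * 72 := by rw [h]; norm_num
  have hn := Small.sylow_number_mem hk (by norm_num)
  rw [show (Nat.divisors 72).filter (fun d => d % 7 = 1) = {1, 8, 36} by decide +kernel] at hn
  simp only [Finset.mem_insert, Finset.mem_singleton] at hn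
  have hn' := hn.resolve_left (Small.sylow_number_ne_one hG (by rw [h]; norm_num))
  obtain ⟨P⟩ : Nonempty (Sylow 7 G) := inferInstance
  have hP : Nat.card (P : Subgroup G) = 7 := (Small.sylow_card hk (by norm_num) P).trans (pow_one 7)
  have hidx := Small.card_eq_index P
  have hNne := Small.normalizer_ne_top hG (p := 7) (by rw [h]; norm_num) P
  have h36 : Nat.card (Sylow 7 G) = 36 := by
    rcases hn' with h8 | h36
    swap
    · exact h36
    exfalso
    have hN : Nat.card (Subgroup.normalizer ((P : Subgroup G) : Set G)) = 63 := by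
      have := Small.card_normalizer_mul P; rw [h8, h] at this; omega
    have hC := CommFix.card_centralizer_cases hnp P hP (by norm_num) hN
    rw [show (Nat.divisors 63).filter (fun c => 7 ∣ c ∧ c ≠ 63 ∧ 63 ∣ c * (7 - 1)) = {21} by decide +kernel,
      Finset.mem_singleton] at hC
    obtain ⟨y, hy⟩ := exists_prime_orderOf_dvd_card' 3
      (G := Subgroup.centralizer ((P : Subgroup G) : Set G)) (by rw [hC]; norm_num)
    have hyo : orderOf (y : G) = 3 := by rw [Subgroup.orderOf_coe, hy]
    have h1 := CommFix.fix_mod P hP y.2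
    have h2 := CommFix.modEq_prime Nat.prime_three (Subgroup.normalizer ((P : Subgroup G) : Set G)) hyo
    have h3 := CommFix.fix_lt hNne (x := (y : G)) (fun e => by rw [e, orderOf_one] at hyo; omega)
    rw [← hidx, h8] at h2 h3
    omega
  have hN : Nat.card (Subgroup.normalizer ((P : Subgroup G) : Set G)) = 7 * 2 := by
    have := Small.card_normalizer_mul P; rw [h36, h] at this; omega
  have hm : Nat.card G = 7 * 72 := by rw [h]
  have hclass : ∀ t u : G, orderOf t = 2 → orderOf u = 2 → IsConj t u := fun t u ht hu =>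
    SL2Even.one_class hnp P (by norm_num) hP hN hm ht hu
  obtain ⟨t0, ht0, h8t⟩ := CommFix.exists_invol_full (k := 3) (m := 63) (by norm_num)
    (by rw [h]; norm_num) (by norm_num)
  have hb := SelfCentral.card_centralizer_bound hnp P (by norm_num) hP hN hm ht0
  rw [h36] at hb
  have hC0 : Nat.card (Subgroup.centralizer ({t0} : Set G)) = 2 ^ 3 := by
    obtain ⟨j, hj⟩ := h8t
    rw [hj] at hb ⊢
    have : 0 < 2 ^ 3 * j := hj ▸ Nat.card_pos
    norm_num at *
    omega
  have hC : ∀ t : G, orderOf t = 2 → Nat.card (Subgroup.centralizer ({t} : Set G)) = 2 ^ 3 := fun t ht =>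
    (CommFix.card_centralizer_conj (hclass t t0 ht ht0)).trans hC0
  have hCP := SelfCentral.centralizer_le hnp P hP Nat.prime_two hN
  have hPab : ∀ a ∈ (P : Subgroup G), ∀ b ∈ (P : Subgroup G), a * b = b * a := fun a ha b hb =>
    congrArg Subtype.val (Exc.comm_K (p := 7) hP ⟨a, ha⟩ ⟨b, hb⟩)
  have hPC : ∀ g ∈ (P : Subgroup G), g ≠ 1 → Subgroup.centralizer ({g} : Set G) ≤ (P : Subgroup G) := by
    intro g hg hg1 c hc
    refine hCP (Subgroup.mem_centralizer_iff.2 fun w hw => ?_)
    have htop : Subgroup.zpowers (⟨g, hg⟩ : (P : Subgroup G)) = ⊤ :=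
      zpowers_eq_top_of_prime_card hP (fun e => hg1 (congrArg Subtype.val e))
    obtain ⟨j, hj⟩ := Subgroup.mem_zpowers_iff.1 (htop ▸ Subgroup.mem_top (⟨w, hw⟩ : (P : Subgroup G)))
    have : g ^ j = w := congrArg Subtype.val hj
    rw [← this]
    exact ((show Commute c g from Subgroup.mem_centralizer_singleton_iff.1 hc).zpow_right j).eq.symm
  obtain ⟨Q⟩ : Nonempty (Sylow 3 G) := inferInstance
  have hQ : Nat.card (Q : Subgroup G) = 9 :=
    (Small.sylow_card (k := 2) (m := 56) (by rw [h]; norm_num) (by norm_num) Q).trans (by norm_num)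
  have hQab : ∀ (R : Sylow 3 G), ∀ a ∈ (R : Subgroup G), ∀ b ∈ (R : Subgroup G), a * b = b * a := by
    intro R a ha b hb
    have hR : Nat.card (R : Subgroup G) = 3 ^ 2 :=
      Small.sylow_card (k := 2) (m := 56) (by rw [h]; norm_num) (by norm_num) R
    haveI := IsPGroup.isMulCommutative_of_card_eq_prime_sq (p := 3) (G := (R : Subgroup G)) hR
    exact congrArg Subtype.val (mul_comm' (⟨a, ha⟩ : (R : Subgroup G)) ⟨b, hb⟩)
  have hQC : ∀ (R : Sylow 3 G), ∀ g ∈ (R : Subgroup G), g ≠ 1 →
      Subgroup.centralizer ({g} : Set G) = (R : Subgroup G) := by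
    intro R g hg hg1
    have hR : Nat.card (R : Subgroup G) = 3 ^ 2 :=
      Small.sylow_card (k := 2) (m := 56) (by rw [h]; norm_num) (by norm_num) R
    refine (Subgroup.eq_of_le_of_card_ge
      (fun a ha => Subgroup.mem_centralizer_singleton_iff.2 (hQab R a ha g hg)) ?_).symm
    rw [hR]
    have hgo : orderOf g ∣ 3 ^ 2 := hR ▸ Subgroup.orderOf_dvd_natCard _ hg
    have hgne : orderOf g ≠ 1 := fun e => hg1 (orderOf_eq_one_iff.1 e)
    have h2 : ¬ 2 ∣ Nat.card (Subgroup.centralizer ({g} : Set G)) := fun hd => by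
      obtain ⟨w, hw⟩ := exists_prime_orderOf_dvd_card' 2 hd
      have hwo : orderOf (w : G) = 2 := by rw [Subgroup.orderOf_coe, hw]
      have := Subgroup.orderOf_dvd_natCard (Subgroup.centralizer ({(w : G)} : Set G))
        (Subgroup.mem_centralizer_singleton_iff.2 (Subgroup.mem_centralizer_singleton_iff.1 w.2).symm : g ∈ _)
      rw [hC _ hwo] at this
      exact hgne (Nat.eq_one_of_dvd_coprimes (by norm_num) hgo this)
    have h7 : ¬ 7 ∣ Nat.card (Subgroup.centralizer ({g} : Set G)) := fun hd => by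
      obtain ⟨w, hw⟩ := exists_prime_orderOf_dvd_card' 7 hd
      have hwo : orderOf (w : G) = 7 := by rw [Subgroup.orderOf_coe, hw]
      obtain ⟨P', hP'⟩ := (IsPGroup.of_card (p := 7) (n := 1)
        (by rw [Nat.card_zpowers, hwo, pow_one]) : IsPGroup 7 (Subgroup.zpowers (w : G))).exists_le_sylow
      obtain ⟨c, hc⟩ := MulAction.exists_smul_eq G P' P
      have hcw : c * (w : G) * c⁻¹ ∈ (P : Subgroup G) := by
        rw [← hc, Sylow.coe_subgroup_smul]
        exact Subgroup.smul_mem_pointwise_smul _ _ _ (hP' (Subgroup.mem_zpowers _))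
      have hcg : c * g * c⁻¹ ∈ (P : Subgroup G) := by
        refine hPC _ hcw (fun e => ?_) (Subgroup.mem_centralizer_singleton_iff.2 ?_)
        · rw [conj_eq_one_iff.1 e, orderOf_one] at hwo; omega
        · calc c * g * c⁻¹ * (c * (w : G) * c⁻¹) = c * (g * w) * c⁻¹ := by group
            _ = c * ((w : G) * g) * c⁻¹ := by rw [(Subgroup.mem_centralizer_singleton_iff.1 w.2).symm]
            _ = _ := by group
      have := Subgroup.orderOf_dvd_natCard (P : Subgroup G) hcg
      rw [hP, Invol.order_conj] at this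
      exact hgne (Nat.eq_one_of_dvd_coprimes (by norm_num) hgo this)
    have key : ∀ d ∈ Nat.divisors 504, ¬ 2 ∣ d → ¬ 7 ∣ d → d ≤ 3 ^ 2 := by decide +kernel
    exact key _ (Nat.mem_divisors.2 ⟨h ▸ Subgroup.card_subgroup_dvd_card _, by norm_num⟩) h2 h7
  have hn3 : Nat.card (Sylow 3 G) = 28 := by
    have hmem := Small.sylow_number_mem (p := 3) (k := 2) (m := 56) (G := G) (by rw [h]; norm_num) (by norm_num)
    have h9 : Nat.card (Sylow 3 G) % 3 ^ 2 = 1 % 3 ^ 2 := by
      by_contra hne
      obtain ⟨R, hR, hlt⟩ := Small.exists_big_inter Q hne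
      obtain ⟨g, hg, hg1⟩ : ∃ g ∈ (Q : Subgroup G) ⊓ (R : Subgroup G), g ≠ 1 := by
        by_contra hcon
        push Not at hcon
        rw [show (Q : Subgroup G) ⊓ (R : Subgroup G) = ⊥ from (Subgroup.eq_bot_iff_forall _).2 hcon,
          Subgroup.relIndex_bot_left, hQ] at hlt
        norm_num at hlt
      exact hR (Sylow.ext ((hQC R g hg.2 hg1).symm.trans (hQC Q g hg.1 hg1)))
    have key : ∀ d ∈ (Nat.divisors 56).filter (fun d => d % 3 = 1), d % 3 ^ 2 = 1 % 3 ^ 2 → d ≠ 1 → d = 28 := by
      decide +kernel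
    exact key _ hmem h9 (Small.sylow_number_ne_one hG (by rw [h]; norm_num))
  set U := SL2Even.conjSet (P : Subgroup G)
  set V := SL2Even.conjSet (Q : Subgroup G)
  set I := {g : G | orderOf g = 2}
  have hU : 216 ≤ U.ncard := by
    have := SL2Even.card_conjSet (P : Subgroup G) hPab hPC
    rw [← hidx, h36, hP] at this
    simpa using this
  have hV : 224 ≤ V.ncard := by
    have := SL2Even.card_conjSet (Q : Subgroup G) (hQab Q) (fun g hg h1 => (hQC Q g hg h1).le)
    rw [← Small.card_eq_index Q, hn3, hQ] at this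
    simpa using this
  have hI : I.ncard * 8 = 504 := by
    have := SL2Even.ncard_invol ht0 (fun u hu => hclass t0 u ht0 hu) hC0
    rw [h] at this; simpa using this
  have hexp : ∀ g : G, (∃ k : ℕ, orderOf g = 2 ^ k) → g * g = 1 := by
    rintro g ⟨k, hk⟩
    refine SL2Even.sq_eq_one_of_count U V I ?_ ?_ ?_ (fun g hg => Invol.mul_self hg) ?_ (by rw [h]; omega) hk
    · rintro ((h1 | h1) | h1)
      · exact h1.1 rfl
      · exact h1.1 rfl
      · exact absurd (h1.symm.trans orderOf_one) (by norm_num)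
    · rw [Set.disjoint_left]
      intro x hx hx'
      have e1 := SL2Even.orderOf_dvd_of_conjSet hx
      have e2 := SL2Even.orderOf_dvd_of_conjSet hx'
      rw [hP] at e1; rw [hQ] at e2
      exact hx.1 (orderOf_eq_one_iff.1 (Nat.eq_one_of_dvd_coprimes (by norm_num) e1 e2))
    · rw [Set.disjoint_left]
      rintro x (hx | hx) (hx' : orderOf x = 2)
      · have e1 := SL2Even.orderOf_dvd_of_conjSet hx; rw [hP, hx'] at e1; omega
      · have e1 := SL2Even.orderOf_dvd_of_conjSet hx; rw [hQ, hx'] at e1; omega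
    · rintro x (hx | hx)
      · exact Odd.of_dvd_nat (by decide) (hP ▸ SL2Even.orderOf_dvd_of_conjSet hx : orderOf x ∣ 7)
      · exact Odd.of_dvd_nat (by decide) (hQ ▸ SL2Even.orderOf_dvd_of_conjSet hx : orderOf x ∣ 9)
  exact SL2Even.psl_of_pgl (f := 3) (by norm_num) (by rw [hF]; norm_num)
    (SL2Even.recognise hG (by norm_num) (by rw [h]; norm_num) hclass hC hexp)

end Cfsg.Agent.S1011
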