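import Cfsg.Statements.S4812
import Cfsg.Agent.Lib.Classical.SL2TableValues
import Cfsg.Agent.Lib.Char.Degree
import Cfsg.Prelude.Def_DegreeGraph
-- import your own Cfsg.Agent.* helpers here

set_option autoImplicit false
open Cfsg

namespace Cfsg.Agent.S4812

open Cfsg.Agent.Char Cfsg.Agent.CharTools Cfsg.Agent.SL2Principal Cfsg.Agent.SL2Tori
  Cfsg.Agent.SL2Cuspidal Cfsg.Agent.SL2Table Cfsg.Agent.SL2TableValues

variable {F : Type*} [Field F] [Fintype F]

theorem center_trivial [CharP F 2] {z : Matrix.SpecialLinearGroup (Fin 2) F}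
    (hz : z ∈ Subgroup.center (Matrix.SpecialLinearGroup (Fin 2) F)) : z = 1 := by
  classical
  obtain ⟨a, ha, rfl⟩ := exists_sm_scalar (isScalar_of_mem_center hz)
  rcases (inv_eq_self_iff a).1 ha with rfl | rfl
  · exact sm_one
  · rw [show (-1 : Fˣ) = 1 from Units.ext (by simp [CharTwo.neg_eq]), sm_one]

theorem exists_alpha (h2 : Even (Fintype.card F)) (h4 : 4 ≤ Fintype.card F) :
    ∃ α : MulChar F ℂ, α ^ 2 ≠ 1 := by
  classical
  obtain ⟨g, hg⟩ := IsCyclic.exists_generator (α := Fˣ)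
  have hg2 : g ^ 2 ≠ 1 := by
    intro h
    have h1 := Nat.le_of_dvd (by norm_num) (orderOf_dvd_of_pow_eq_one h)
    rw [orderOf_eq_card_of_forall_mem_zpowers hg, Nat.card_units, Nat.card_eq_fintype_card] at h1
    omega
  obtain ⟨f, hf⟩ := exists_hom_ne hg2
  refine ⟨MulChar.ofUnitHom f, fun h => hf ?_⟩
  have h1 := congrArg (fun β : MulChar F ℂ => β (g : F)) h
  simp only [MulChar.pow_apply_coe, MulChar.ofUnitHom_coe, MulChar.one_apply_coe] at h1
  exact Units.ext (by rw [map_pow, Units.val_pow_eq_pow_val, h1, Units.val_one])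

theorem sl_degrees (h2 : Even (Fintype.card F)) {χ : Matrix.SpecialLinearGroup (Fin 2) F → ℂ}
    (hχ : Cfsg.IsIrrCharacter (Matrix.SpecialLinearGroup (Fin 2) F) χ) :
    ∃ d : ℕ, χ 1 = (d : ℂ) ∧
      (d ∣ Fintype.card F ∨ d ∣ Fintype.card F + 1 ∨ d ∣ Fintype.card F - 1) := by
  classical
  obtain ⟨g₀, hg₀⟩ := exists_noEigen (F := F)
  rcases cases_even hg₀ h2 hχ with ⟨h, -⟩ | ⟨h, -⟩ | ⟨h, -⟩ | ⟨h, -⟩
  · exact ⟨_, h, Or.inl (one_dvd _)⟩
  · exact ⟨_, h, Or.inl dvd_rfl⟩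
  · exact ⟨_, h, Or.inr (Or.inl dvd_rfl)⟩
  · exact ⟨_, h, Or.inr (Or.inr dvd_rfl)⟩

/-- Let F be a finite field of characteristic 2 with q ≥ 4 elements and let S be isomorphic to PSL(2,F) or to SL(2,F). Then the vertices of the character degree graph of S are the primes dividing q(q²−1), and two distinct primes are adjacent exactly when both divide q + 1 or both divide q − 1; so the graph has the three connected components {2}, the primes dividing q + 1 and the primes dividing q − 1, each complete. -/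
theorem result (F : Type*) [Field F] [Fintype F] [CharP F 2] (q : ℕ) (hq : Fintype.card F = q) (h4 : 4 ≤ q) {S : Type*} [Group S] [Finite S] (hS : Nonempty (S ≃* Matrix.ProjectiveSpecialLinearGroup (Fin 2) F) ∨ Nonempty (S ≃* Matrix.SpecialLinearGroup (Fin 2) F)) : Cfsg.degreePrimes S = {r : ℕ | r.Prime ∧ r ∣ q * (q ^ 2 - 1)} ∧ ∀ r s : ℕ, (Cfsg.degreeGraph S).Adj r s ↔ (r ≠ s ∧ r.Prime ∧ s.Prime ∧ ((r ∣ q + 1 ∧ s ∣ q + 1) ∨ (r ∣ q - 1 ∧ s ∣ q - 1))) := by
  classical
  subst hq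
  obtain ⟨n, -, hn⟩ := FiniteField.card F 2
  have h2e : Even (Fintype.card F) := by
    rw [hn]; exact Nat.even_pow.2 ⟨even_two, n.ne_zero⟩
  have hdeg : ∀ {H : Type _} [Group H] [Finite H] (χ : Cfsg.IrrCharacter H) (m : ℕ),
      (χ : H → ℂ) 1 = (m : ℂ) → Cfsg.charDegree (χ : H → ℂ) = m := fun χ m h => by
    rw [Cfsg.Agent.CharX.irr_deg] at h
    exact_mod_cast h
  -- the degrees of `S`
  obtain ⟨hsome, hall⟩ : (∀ m : ℕ, (m = Fintype.card F ∨ m = Fintype.card F + 1 ∨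
        m = Fintype.card F - 1) → m ∈ Cfsg.charDegrees S) ∧
      ∀ d ∈ Cfsg.charDegrees S,
        d ∣ Fintype.card F ∨ d ∣ Fintype.card F + 1 ∨ d ∣ Fintype.card F - 1 := by
    have hbuild : ∀ (π : Matrix.SpecialLinearGroup (Fin 2) F →* S), Function.Surjective π →
        (∀ χ : Matrix.SpecialLinearGroup (Fin 2) F → ℂ,
          Cfsg.IsIrrCharacter (Matrix.SpecialLinearGroup (Fin 2) F) χ →
          (∀ z ∈ Subgroup.center (Matrix.SpecialLinearGroup (Fin 2) F), χ z = χ 1) →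
          ∃ ψ : Cfsg.IrrCharacter S, (ψ : S → ℂ) 1 = χ 1) →
        (∀ m : ℕ, (m = Fintype.card F ∨ m = Fintype.card F + 1 ∨
          m = Fintype.card F - 1) → m ∈ Cfsg.charDegrees S) ∧
        ∀ d ∈ Cfsg.charDegrees S,
          d ∣ Fintype.card F ∨ d ∣ Fintype.card F + 1 ∨ d ∣ Fintype.card F - 1 := by
      intro π hπ hdown
      constructor
      · intro m hm
        have : ∃ χ : Matrix.SpecialLinearGroup (Fin 2) F → ℂ,
            Cfsg.IsIrrCharacter (Matrix.SpecialLinearGroup (Fin 2) F) χ ∧ χ 1 = (m : ℂ) ∧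
            ∀ z ∈ Subgroup.center (Matrix.SpecialLinearGroup (Fin 2) F), χ z = χ 1 := by
          rcases hm with rfl | rfl | rfl
          · exact ⟨_, SL2Principal.St_irr, St_one, fun z hz => by rw [center_trivial hz]⟩
          · obtain ⟨α, hα⟩ := exists_alpha h2e h4
            exact ⟨R α, (R_irr_iff α).2 hα, by rw [R_one, deg_add],
              fun z hz => by rw [center_trivial hz]⟩
          · obtain ⟨g₀, hg₀⟩ := exists_noEigen (F := F)
            obtain ⟨θ, hθ⟩ := exists_theta hg₀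
            exact ⟨cusp θ, cusp_irr hg₀ hθ, by rw [cusp_one hg₀, deg_sub],
              fun z hz => by rw [center_trivial hz]⟩
        obtain ⟨χ, hχ, h1, hz⟩ := this
        obtain ⟨ψ, hψ⟩ := hdown χ hχ hz
        exact ⟨ψ, hdeg ψ m (hψ.trans h1)⟩
      · rintro d ⟨ψ, rfl⟩
        obtain ⟨d, hd, h⟩ := sl_degrees h2e (IsIrrCharacter.comp ψ.2 π hπ)
        rw [map_one] at hd
        rwa [hdeg ψ d hd]
    rcases hS with ⟨⟨e⟩⟩ | ⟨⟨e⟩⟩
    · refine hbuild (e.symm.toMonoidHom.comp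
        (QuotientGroup.mk' (Subgroup.center (Matrix.SpecialLinearGroup (Fin 2) F))))
        (e.symm.surjective.comp (QuotientGroup.mk'_surjective _)) fun χ hχ hz => ?_
      obtain ⟨χ', -, hval, hirr⟩ := IsCharacter.deflate (IsIrrCharacter.isCharacter hχ) _ hz
      refine ⟨⟨_, IsIrrCharacter.comp (hirr hχ) e.toMonoidHom e.surjective⟩, ?_⟩
      show χ' (e 1) = χ 1
      rw [map_one]
      exact hval 1
    · refine hbuild e.symm.toMonoidHom e.symm.surjective fun χ hχ _ => ?_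
      exact ⟨⟨_, IsIrrCharacter.comp hχ e.toMonoidHom e.surjective⟩, by
        show χ (e 1) = χ 1
        rw [map_one]⟩
  have hq2 : Fintype.card F ^ 2 - 1 = (Fintype.card F + 1) * (Fintype.card F - 1) := by
    simpa using Nat.sq_sub_sq (Fintype.card F) 1
  constructor
  · ext r
    constructor
    · rintro ⟨hr, d, hd, hrd⟩
      refine ⟨hr, ?_⟩
      rw [hq2]
      rcases hall d hd with h | h | h
      · exact dvd_mul_of_dvd_left (hrd.trans h) _
      · exact dvd_mul_of_dvd_right (dvd_mul_of_dvd_left (hrd.trans h) _) _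
      · exact dvd_mul_of_dvd_right (dvd_mul_of_dvd_right (hrd.trans h) _) _
    · rintro ⟨hr, h⟩
      refine ⟨hr, ?_⟩
      rw [hq2] at h
      rcases hr.dvd_mul.1 h with h | h
      · exact ⟨_, hsome _ (Or.inl rfl), h⟩
      · rcases hr.dvd_mul.1 h with h | h
        · exact ⟨_, hsome _ (Or.inr (Or.inl rfl)), h⟩
        · exact ⟨_, hsome _ (Or.inr (Or.inr rfl)), h⟩
  · intro r s
    constructor
    · rintro ⟨hne, hr, hs, d, hd, hrs⟩
      have hrd : r ∣ d := (dvd_mul_right r s).trans hrs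
      have hsd : s ∣ d := (dvd_mul_left s r).trans hrs
      rcases hall d hd with h | h | h
      · exfalso
        rw [hn] at h
        have h1 := (Nat.prime_dvd_prime_iff_eq hr Nat.prime_two).1 (hr.dvd_of_dvd_pow (hrd.trans h))
        have h2 := (Nat.prime_dvd_prime_iff_eq hs Nat.prime_two).1 (hs.dvd_of_dvd_pow (hsd.trans h))
        exact hne (h1.trans h2.symm)
      · exact ⟨hne, hr, hs, Or.inl ⟨hrd.trans h, hsd.trans h⟩⟩
      · exact ⟨hne, hr, hs, Or.inr ⟨hrd.trans h, hsd.trans h⟩⟩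
    · rintro ⟨hne, hr, hs, hcase⟩
      refine ⟨hne, hr, hs, ?_⟩
      have hmul : ∀ {m : ℕ}, r ∣ m → s ∣ m → r * s ∣ m := fun {m} a b =>
        Nat.Coprime.mul_dvd_of_dvd_of_dvd ((Nat.coprime_primes hr hs).2 hne) a b
      rcases hcase with ⟨a, b⟩ | ⟨a, b⟩
      · exact ⟨_, hsome _ (Or.inr (Or.inl rfl)), hmul a b⟩
      · exact ⟨_, hsome _ (Or.inr (Or.inr rfl)), hmul a b⟩

end Cfsg.Agent.S4812
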