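import Cfsg.Statements.S4702
import Cfsg.Agent.Lib.Small.SharpEven
import Cfsg.Agent.Lib.Perm.Sharp
import Mathlib.GroupTheory.GroupAction.MultipleTransitivity

set_option autoImplicit false
open Cfsg

namespace Cfsg.Agent.S4702

/-- Let G be a triply transitive permutation group on a finite set of odd size m ≥ 3 in which only the identity fixes three or more points. Then m = 2^a + 1 for some a ≥ 1 and G is isomorphic to SL(2, 2^a). -/
theorem result {α : Type*} [Fintype α] [DecidableEq α] (hm : 3 ≤ Fintype.card α) (hodd : Odd (Fintype.card α)) (G : Subgroup (Equiv.Perm α)) (h3 : MulAction.IsMultiplyPretransitive G α 3) (hfix : ∀ g : G, 3 ≤ Nat.card (MulAction.fixedBy α g) → g = 1) : ∃ a : ℕ, 1 ≤ a ∧ Fintype.card α = 2 ^ a + 1 ∧ ∃ (F : Type) (_ : Field F) (_ : Fintype F), Fintype.card F = 2 ^ a ∧ Nonempty (G ≃* Matrix.SpecialLinearGroup (Fin 2) F) := by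
  classical
  have hsharp : ∀ x : Fin 3 ↪ α, MulAction.stabilizer G x = ⊥ := by
    intro x
    rw [Subgroup.eq_bot_iff_forall]
    intro g hg
    refine hfix g ?_
    have hsub : ∀ k : Fin 3, x k ∈ MulAction.fixedBy α g := fun k => by
      have h := congrArg (fun e : Fin 3 ↪ α => e k) hg
      exact h
    have hcard := Nat.card_le_card_of_injective (fun k : Fin 3 => (⟨x k, hsub k⟩ : MulAction.fixedBy α g))
      (fun i j h => x.injective (congrArg Subtype.val h))
    rwa [Nat.card_fin] at hcard
  have S3 : Cfsg.Agent.SharpEven.Sharp3 G α :=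
    Cfsg.Agent.SharpEven.sharp3_of_pretransitive h3 hsharp
  obtain ⟨a⟩ : Nonempty α := Fintype.card_pos_iff.mp (by omega)
  haveI : MulAction.IsMultiplyPretransitive G α 3 := h3
  haveI : MulAction.IsPretransitive G α := by
    haveI : MulAction.IsMultiplyPretransitive G α 1 :=
      MulAction.isMultiplyPretransitive_of_le (n := 3) (by norm_num)
        (by rw [Nat.card_eq_fintype_card]; exact hm)
    exact MulAction.is_one_pretransitive_iff.mp inferInstance
  have h2 : MulAction.IsMultiplyPretransitive (MulAction.stabilizer G a)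
      (SubMulAction.ofStabilizer G a) 2 :=
    (SubMulAction.ofStabilizer.isMultiplyPretransitive (n := 2)).mp h3
  have hcard : Nat.card (SubMulAction.ofStabilizer G a) + 1 = Fintype.card α := by
    rw [SubMulAction.nat_card_ofStabilizer_add_one_eq, Nat.card_eq_fintype_card]
  obtain ⟨p, j, N, hp, hj, hpj, -⟩ := Cfsg.Agent.PermSharp.exists_regular_normal h2 (by omega)
    (fun g u v huv hu hv => Subtype.ext (S3.sharp (g : G) a u v
      (Ne.symm (SubMulAction.neq_of_mem_ofStabilizer G a))
      (Ne.symm (SubMulAction.neq_of_mem_ofStabilizer G a))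
      (fun e => huv (Subtype.ext e)) g.2 (congrArg Subtype.val hu) (congrArg Subtype.val hv)))
  have hp2 : p = 2 := by
    have h1 : Even (p ^ j) := by
      rw [← hpj]
      obtain ⟨k, hk⟩ := hodd
      exact ⟨k, by omega⟩
    exact (hp.even_iff).mp (Nat.even_pow.mp h1).1
  subst hp2
  refine ⟨j, hj, by omega, GaloisField 2 j, inferInstance, Fintype.ofFinite _, ?_, ?_⟩
  · rw [Fintype.card_eq_nat_card, GaloisField.card 2 j (by omega)]
  letI : Fintype (GaloisField 2 j) := Fintype.ofFinite _
  have hF : Fintype.card (GaloisField 2 j) = 2 ^ j := by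
    rw [Fintype.card_eq_nat_card, GaloisField.card 2 j (by omega)]
  obtain ⟨e₁⟩ := Cfsg.Agent.SharpEven.equiv_pgl (G := G) hj
    (by rw [Nat.card_eq_fintype_card]; omega) S3
  obtain ⟨e₂⟩ := Cfsg.Agent.SharpEven.psl_equiv_pgl hF
  have hbot : Subgroup.center (Matrix.SpecialLinearGroup (Fin 2) (GaloisField 2 j)) = ⊥ := by
    rw [Subgroup.eq_bot_iff_forall]
    intro A hA
    obtain ⟨r, hr, hrA⟩ := Matrix.SpecialLinearGroup.mem_center_iff.mp hA
    rw [Fintype.card_fin] at hr
    have hr1 : r = 1 := by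
      have h : (r - 1) ^ 2 = 0 := by rw [CharTwo.sub_eq_add, CharTwo.add_sq, hr, one_pow, CharTwo.add_self_eq_zero]
      exact sub_eq_zero.mp (pow_eq_zero_iff two_ne_zero |>.mp h)
    refine Subtype.ext ?_
    rw [← hrA, hr1, map_one]
    rfl
  exact ⟨e₁.trans (e₂.symm.trans ((QuotientGroup.quotientMulEquivOfEq hbot).trans
    QuotientGroup.quotientBot))⟩

end Cfsg.Agent.S4702
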