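import Cfsg.Statements.S4706
import Cfsg.Agent.Lib.DegreePTwo.Geometry
import Cfsg.Agent.S4702

set_option autoImplicit false
set_option linter.style.haveILetI false
open Cfsg

namespace Cfsg.Agent.S4706

open MulAction

/-- A solvable transitive group of prime degree has a normal Sylow subgroup. -/
theorem sylow_normal_of_solvable {H : Type*} [Group H] [Finite H] {Ω : Type*} [MulAction H Ω]
    [FaithfulSMul H Ω] [IsPretransitive H Ω] {p : ℕ} [Fact p.Prime] (hΩ : Nat.card Ω = p)
    (hs : Group.IsSolvable H) (P : Sylow p H) : (P : Subgroup H).Normal := by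
  classical
  have hp := (Fact.out : p.Prime)
  haveI : Finite Ω := Nat.finite_of_card_ne_zero (hΩ ▸ hp.ne_zero)
  have hex := hs.solvable
  obtain ⟨k, hk⟩ : ∃ k, Nat.find hex = k + 1 := by
    refine ⟨Nat.find hex - 1, ?_⟩
    rcases Nat.eq_zero_or_pos (Nat.find hex) with h0 | h0
    · exfalso
      have := Nat.find_spec hex
      rw [h0, derivedSeries_zero] at this
      have hd := PermPrime.dvd_card_of_transitive (G := H) hΩ
      rw [← Subgroup.card_top, this, Subgroup.card_bot] at hd
      exact hp.not_dvd_one hd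
    · omega
  set A : Subgroup H := derivedSeries H k with hA
  have hAne : A ≠ ⊥ := Nat.find_min hex (by omega)
  have hAc : ⁅A, A⁆ = ⊥ := by
    rw [hA, ← derivedSeries_succ, ← hk]
    exact Nat.find_spec hex
  haveI hAn : A.Normal := derivedSeries_normal H k
  haveI : IsPreprimitive H Ω := IsPreprimitive.of_prime_card (hΩ ▸ hp)
  have hfix : fixedPoints A Ω ≠ Set.univ := by
    intro h
    refine hAne ((Subgroup.eq_bot_iff_forall _).2 fun g hg => ?_)
    refine FaithfulSMul.eq_of_smul_eq_smul (α := Ω) fun x => ?_
    have hx : x ∈ fixedPoints A Ω := h ▸ Set.mem_univ x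
    rw [one_smul]
    exact hx ⟨g, hg⟩
  haveI : IsPretransitive A Ω := IsQuasiPreprimitive.isPretransitive_of_normal (G := H) hfix
  obtain ⟨a⟩ : Nonempty Ω := (Nat.card_pos_iff.1 (hΩ ▸ hp.pos)).1
  have hdA : p ∣ Nat.card A := by
    rw [← hΩ, ← index_stabilizer_of_transitive A a]
    exact Subgroup.index_dvd_card _
  obtain ⟨R⟩ : Nonempty (Sylow p A) := inferInstance
  haveI : (R : Subgroup A).Normal :=
    ⟨fun n hn g => by
      have h : g * n = n * g := by
        apply Subtype.ext
        have h1 := Subgroup.commutator_mem_commutator g.2 n.2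
        rw [hAc, Subgroup.mem_bot] at h1
        exact commutatorElement_eq_one_iff_mul_comm.1 h1
      rwa [h, mul_inv_cancel_right]⟩
  haveI := R.characteristic_of_normal inferInstance
  have hn : ((R : Subgroup A).map A.subtype).Normal := inferInstance
  have hpR : IsPGroup p ((R : Subgroup A).map A.subtype) := R.2.map _
  obtain ⟨Q, hQ⟩ := hpR.exists_le_sylow
  have hcR : p ≤ Nat.card ((R : Subgroup A).map A.subtype) := by
    rw [Subgroup.card_map_of_injective A.subtype_injective, R.card_eq_multiplicity]
    exact Nat.le_self_pow (by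
      have := (hp.dvd_iff_one_le_factorization Nat.card_pos.ne').1 hdA
      omega) p
  have hQR : (R : Subgroup A).map A.subtype = (Q : Subgroup H) :=
    Subgroup.eq_of_le_of_card_ge hQ (by rw [PermPrime.sylow_card hΩ Q]; exact hcR)
  have hQn : (Q : Subgroup H).Normal := hQR ▸ hn
  haveI := Sylow.unique_of_normal Q hQn
  rwa [Subsingleton.elim P Q]

/-- Let p > 2 be a prime and G a permutation group on p letters whose Sylow p-subgroup P has normalizer of order 2p. Then either P is normal in G, or p − 1 = 2^a for some a and G is isomorphic to SL(2, 2^a). -/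
theorem result {α : Type*} [Fintype α] [DecidableEq α] {p : ℕ} [Fact p.Prime] (hp : 2 < p) (hα : Fintype.card α = p) (G : Subgroup (Equiv.Perm α)) (P : Sylow p G) (hN : Nat.card (Subgroup.normalizer ((P : Subgroup G) : Set G)) = 2 * p) : (P : Subgroup G).Normal ∨ ∃ (a : ℕ) (F : Type) (_ : Field F) (_ : Fintype F), p = 2 ^ a + 1 ∧ Fintype.card F = 2 ^ a ∧ Nonempty (G ≃* Matrix.SpecialLinearGroup (Fin 2) F) := by
  classical
  have hpp := (Fact.out : p.Prime)
  have hcard : Nat.card α = p := by rw [Nat.card_eq_fintype_card, hα]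
  have hd : p ∣ Nat.card G := by
    have h1 : (Subgroup.normalizer ((P : Subgroup G) : Set G)).index * (2 * p) = Nat.card G := by
      rw [← hN, Subgroup.index_mul_card]
    exact ⟨(Subgroup.normalizer ((P : Subgroup G) : Set G)).index * 2, by rw [← h1]; ring⟩
  obtain ⟨x, hx⟩ := exists_prime_orderOf_dvd_card' (G := G) p hd
  haveI : IsPretransitive G α := by
    have hσ : orderOf (x : Equiv.Perm α) = p := by rw [Subgroup.orderOf_coe, hx]
    have hcyc : (x : Equiv.Perm α).IsCycle :=
      Equiv.Perm.isCycle_of_prime_order'' (hα ▸ hpp) (hσ.trans hα.symm)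
    have hsupp : (x : Equiv.Perm α).support = Finset.univ := by
      apply Finset.eq_univ_of_card
      rw [← hcyc.orderOf, hσ, hα]
    refine ⟨fun a b => ?_⟩
    obtain ⟨i, hi⟩ := hcyc.exists_zpow_eq
      (Equiv.Perm.mem_support.1 (hsupp ▸ Finset.mem_univ a))
      (Equiv.Perm.mem_support.1 (hsupp ▸ Finset.mem_univ b))
    exact ⟨x ^ i, hi⟩
  by_cases hG : Group.IsSolvable G
  · exact Or.inl (sylow_normal_of_solvable hcard hG P)
  right
  obtain ⟨τ, e, -⟩ := PermPrime.exists_coord (G := G) hcard
  have hp5 := (PermPrime.not_solvable_not_affine hG e).2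
  have hsyl : ∀ Q : Sylow p G, Nat.card (Q : Subgroup G) = p := PermPrime.sylow_card hcard
  have hnor : ∀ Q : Sylow p G,
      Nat.card (Subgroup.normalizer ((Q : Subgroup G) : Set G)) = 2 * p := by
    intro Q
    rw [← hN]
    have e1 : Nat.card (Sylow p G) = (Subgroup.normalizer ((P : Subgroup G) : Set G)).index :=
      Sylow.card_eq_index_normalizer P
    have e2 : Nat.card (Sylow p G) = (Subgroup.normalizer ((Q : Subgroup G) : Set G)).index :=
      Sylow.card_eq_index_normalizer Q
    have h1 := Subgroup.index_mul_card (Subgroup.normalizer ((P : Subgroup G) : Set G))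
    have h2 := Subgroup.index_mul_card (Subgroup.normalizer ((Q : Subgroup G) : Set G))
    rw [← e1] at h1
    rw [← e2] at h2
    exact Nat.eq_of_mul_eq_mul_left Nat.card_pos (h2.trans h1.symm)
  have h3 : IsMultiplyPretransitive G α 3 :=
    PermThree.three_transitive_prime hcard hG P (by rw [hN]; exact even_two_mul p)
  have S : DegreePTwo.Setup G α p :=
    { prime := hpp
      five := hp5
      faithful := inferInstance
      card := hcard
      trans := inferInstance
      three := h3
      sylow := hsyl
      normalizer := hnor }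
  obtain ⟨a, -, ha, F, iF, iFt, hF, hiso⟩ := Cfsg.Agent.S4702.result
    (by omega) (hα ▸ hpp.odd_of_ne_two (by omega)) G h3 S.fix_three_eq_one
  exact ⟨a, F, iF, iFt, hα ▸ ha, hF, hiso⟩

end Cfsg.Agent.S4706
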