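import Cfsg.Statements.S4441
import Cfsg.Agent.Lib.DefOne.Principal

set_option autoImplicit false
open Cfsg

namespace Cfsg.Agent.S4441

/-- Let p be an odd prime and G a finite group whose Sylow p-subgroup P has order p; let C = C_G(P), N = N_G(P), e the index of C in N and t = (p − 1)/e; fix a maximal ideal M of the algebraic integers containing p and let B₀ be the principal block. Then B₀ is the disjoint union of a set X of e characters and a set Y of t characters such that: each χ ∈ X has a sign ε_χ with χ(1) ≡ ε_χ (mod p) and χ(x y) = ε_χ for every non-identity x ∈ P and every p-regular y ∈ C; all members of Y agree on the p-regular elements of G; there is one sign ε with θ(1) ≡ ε e (mod p) for every θ ∈ Y; and for every θ ∈ Y and every p-regular g, ε θ(g) = Σ_{χ ∈ X} ε_χ χ(g). -/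
theorem result {G : Type*} [Group G] [Fintype G] (p : ℕ) [Fact p.Prime] (M : Ideal Cfsg.AlgInt) (hM : Cfsg.IsPModular p M) (hodd : p ≠ 2) (P : Sylow p G) (hP : Nat.card P = p) (e : ℕ) (he : (Subgroup.centralizer ((P : Subgroup G) : Set G)).relIndex (Subgroup.normalizer ((P : Subgroup G) : Set G)) = e) : ∃ X Y : Set (Cfsg.IrrCharacter G), Cfsg.principalBlock M G = X ∪ Y ∧ Disjoint X Y ∧ Nat.card X = e ∧ Nat.card Y = (p - 1) / e ∧ ∃ (εX : Cfsg.IrrCharacter G → ℤ) (ε : ℤ), (∀ χ ∈ X, (εX χ = 1 ∨ εX χ = -1) ∧ (Cfsg.charDegree (χ : G → ℂ) : ℤ) ≡ εX χ [ZMOD p] ∧ ∀ x : G, x ∈ (P : Subgroup G) → x ≠ 1 → ∀ y : G, y ∈ Subgroup.centralizer ((P : Subgroup G) : Set G) → ¬ p ∣ orderOf y → (χ : G → ℂ) (x * y) = (εX χ : ℂ)) ∧ (ε = 1 ∨ ε = -1) ∧ (∀ θ ∈ Y, (Cfsg.charDegree (θ : G → ℂ) : ℤ) ≡ ε * (e : ℤ) [ZMOD p]) ∧ (∀ θ ∈ Y, ∀ θ' ∈ Y, ∀ g : G, ¬ p ∣ orderOf g → (θ : G → ℂ) g = (θ' : G → ℂ) g) ∧ ∀ θ ∈ Y, ∀ g : G, ¬ p ∣ orderOf g → (ε : ℂ) * (θ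 : G → ℂ) g = ∑ᶠ χ ∈ X, (εX χ : ℂ) * (χ : G → ℂ) g := by
  classical
  have hp : p.Prime := Fact.out
  haveI := Agent.Blocks.IsPModular.isPrime hM
  obtain ⟨V, e', K, he'⟩ := Agent.DefOne.exists_conf hp P hP
  have hee : e' = e := he'.trans he
  haveI : Fintype (P : Subgroup G) := Fintype.ofFinite _
  haveI : Fintype V := Fintype.ofFinite _
  haveI : Fintype (Subgroup.normalizer ((P : Subgroup G) : Set G)) := Fintype.ofFinite _
  haveI : Fintype ((P : Subgroup G) →* ℂˣ) := Fintype.ofFinite _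
  obtain ⟨eb, X, Y, δ, sg, F⟩ := Agent.DefOne.exists_families K hM (Agent.DefOne.trivB V)
  have heb : eb = e := (Agent.DefOne.eb_triv K F).trans hee
  have hB := Agent.DefOne.principal_eq K hM F
  have hmemX : ∀ χ, χ ∈ X → χ ∈ principalBlock M G := fun χ h => by rw [hB]; exact Or.inl h
  have hmemY : ∀ χ, χ ∈ Y → χ ∈ principalBlock M G := fun χ h => by rw [hB]; exact Or.inr h
  refine ⟨↑X, ↑Y, hB, Finset.disjoint_coe.2 F.disj, ?_, ?_, sg, -δ, fun χ hχ => ⟨F.signX χ hχ, ?_, ?_⟩,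
    ?_, fun θ hθ => ?_, fun θ hθ θ' hθ' g hg => Agent.DefOne.Families.agree K F hθ hθ' hg, fun θ hθ g hg => ?_⟩
  · simp [F.cardX, heb]
  · simp [Agent.DefOne.Families.card_Y K F, heb]
  · refine (Agent.DefOne.degree_congr K hM (hmemX χ hχ)).trans ?_
    rw [Agent.DefOne.Families.sum_X K F hχ]
    exact Int.modEq_iff_dvd.2 ⟨sg χ, by ring⟩
  · intro x hx hx1 y hy hreg
    have hy' := Agent.DefOne.mem_V_of_regular K hy hreg
    rw [Agent.DefOne.section_const K hM (hmemX χ hχ) hx hx1 hy',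
      ← Agent.DefOne.phi_principal K hM (hmemX χ hχ) (y := ⟨x, hx⟩) fun h => hx1 (congrArg Subtype.val h),
      Agent.DefOne.Families.phi_X K F hχ fun h => hx1 (congrArg Subtype.val h)]
  · have := F.sign
    omega
  · refine (Agent.DefOne.degree_congr K hM (hmemY θ hθ)).trans ?_
    rw [F.sumY θ hθ, heb, neg_mul]
  · have h := Agent.DefOne.Families.relation K F (θ := θ) hθ hg
    rw [finsum_mem_coe_finset]
    push_cast
    linear_combination -h

end Cfsg.Agent.S4441
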