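import Cfsg.Statements.S0157
import Cfsg.Agent.Lib.Char.TwoTrans
-- import your own Cfsg.Agent.* helpers here

set_option autoImplicit false
open Cfsg

namespace Cfsg.Agent.S0157

/-- For a transitive action of a finite group on a finite set with at least two points: the action is 2-transitive if and only if the function sending g to (number of fixed points of g) − 1 is an irreducible character. -/
theorem result {G : Type*} [Group G] [Finite G] (X : Type*) [MulAction G X] [Finite X] [MulAction.IsPretransitive G X] (hX : 2 ≤ Nat.card X) : Cfsg.IsIrrCharacter G (fun g => (Nat.card (MulAction.fixedBy X g) : ℂ) - 1) ↔ MulAction.IsMultiplyPretransitive G X 2 := by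
  classical
  haveI : Fintype G := Fintype.ofFinite G
  haveI : Fintype X := Fintype.ofFinite X
  haveI : Nonempty X := (Nat.card_pos_iff.mp (by omega)).1
  obtain ⟨a, b, hab⟩ := Fintype.exists_pair_of_one_lt_card (α := X) (by rw [← Nat.card_eq_fintype_card]; omega)
  set π : G → ℂ := fun g => (Nat.card (MulAction.fixedBy X g) : ℂ) with hπ
  have hfd : FiniteDimensional ℂ (MonoidAlgebra ℂ X) := Module.Finite.of_basis (MonoidAlgebra.basis X ℂ)
  have hπchar : Cfsg.IsCharacter G π := by
    have h : (Representation.ofMulAction ℂ G X).character = π := funext fun g => Cfsg.Agent.Char.character_ofMulAction X g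
    exact h ▸ Cfsg.Agent.Char.isCharacter_of_rep _
  have hgen : Cfsg.IsGeneralizedCharacter G (fun g => π g - 1) :=
    ⟨π, fun _ => 1, hπchar, Cfsg.Agent.Char.isCharacter_one, rfl⟩
  have hone : Cfsg.classInner π (fun _ => 1) = 1 := by
    have h := Cfsg.Agent.Char.sum_natCard_fixedBy (G := G) X
    have : Nat.card (Quotient (MulAction.orbitRel G X)) = 1 := by
      rw [Nat.card_eq_one_iff_unique]
      exact ⟨⟨fun x y => Quotient.inductionOn₂ x y fun u v => Quotient.sound (MulAction.orbitRel_apply.mpr (MulAction.exists_smul_eq G v u))⟩,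
        ⟨Quotient.mk _ a⟩⟩
    rw [this, one_mul] at h
    simp only [Cfsg.classInner, hπ, map_one, mul_one]
    rw [← Nat.cast_sum, h, inv_mul_cancel₀ (Nat.cast_ne_zero.mpr Nat.card_pos.ne')]
  have hsq : Cfsg.classInner π π = (Nat.card (Quotient (MulAction.orbitRel G (X × X))) : ℂ) := by
    have h := Cfsg.Agent.Char.sum_natCard_fixedBy (G := G) (X × X)
    have e : ∀ g : G, Nat.card (MulAction.fixedBy (X × X) g) = Nat.card (MulAction.fixedBy X g) * Nat.card (MulAction.fixedBy X g) := by
      intro g
      rw [← Nat.card_prod]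
      exact Nat.card_congr ((Equiv.subtypeEquivRight fun x => by simp [MulAction.fixedBy, Prod.ext_iff]).trans (Equiv.subtypeProdEquivProd (p := fun x : X => g • x = x) (q := fun x : X => g • x = x)))
    simp only [e] at h
    simp only [Cfsg.classInner, hπ, map_natCast, ← Nat.cast_mul, ← Nat.cast_sum, h]
    rw [Nat.cast_mul, mul_comm ((Nat.card (Quotient (MulAction.orbitRel G (X × X))) : ℕ) : ℂ), inv_mul_cancel_left₀]
    exact Nat.cast_ne_zero.mpr Nat.card_pos.ne'
  have hnorm : Cfsg.classInner (fun g => π g - 1) (fun g => π g - 1) = (Nat.card (Quotient (MulAction.orbitRel G (X × X))) : ℂ) - 1 := by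
    have e : (fun g => π g - 1) = π - (fun _ => (1 : ℂ)) := rfl
    rw [e, Cfsg.Agent.Char.classInner_sub_left, Cfsg.Agent.Char.classInner_sub_right, Cfsg.Agent.Char.classInner_sub_right, hsq, hone,
      ← Cfsg.Agent.Char.classInner_conj_symm π (fun _ => 1), hone, map_one, Cfsg.Agent.Char.classInner_self_irr Cfsg.Agent.Char.isIrrCharacter_one]
    ring
  have hiff : Cfsg.IsIrrCharacter G (fun g => π g - 1) ↔ Nat.card (Quotient (MulAction.orbitRel G (X × X))) = 2 := by
    constructor
    · intro h
      have := Cfsg.Agent.Char.classInner_self_irr h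
      rw [hnorm, sub_eq_iff_eq_add, one_add_one_eq_two] at this
      exact_mod_cast this
    · intro h
      refine (Cfsg.Agent.Char.IsGeneralizedCharacter.of_norm_one hgen (by rw [hnorm, h]; norm_num)).resolve_right fun hneg => ?_
      obtain ⟨d, hd, hd'⟩ := Cfsg.Agent.Char.IsIrrCharacter.exists_degree hneg
      have h1 : (Nat.card (MulAction.fixedBy X (1 : G))) = Nat.card X :=
        Nat.card_congr ((Equiv.subtypeEquivRight fun x => by simp).trans (Equiv.subtypeUnivEquiv fun _ => trivial))
      simp only [Pi.neg_apply, hπ, h1, neg_sub] at hd'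
      have h2 : ((d + Nat.card X : ℕ) : ℂ) = ((1 : ℕ) : ℂ) := by push_cast; rw [← hd']; ring
      have := Nat.cast_injective h2
      omega
  refine hiff.trans ?_
  rw [Cfsg.Agent.Char.card_orbits_eq_two (fun p : X × X => p.1 = p.2) (fun g p => by simp) (a := (a, a)) (b := (a, b)) rfl hab,
    MulAction.is_two_pretransitive_iff]
  constructor
  · intro h p q r s hpq hrs
    obtain ⟨g, hg⟩ := h (p, q) (r, s) (by simp [hpq, hrs])
    exact ⟨g, (Prod.ext_iff.mp hg).1, (Prod.ext_iff.mp hg).2⟩
  · rintro h ⟨p, q⟩ ⟨r, s⟩ hiff'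
    simp only at hiff'
    by_cases e : p = q
    · have e' := hiff'.mp e
      subst e e'
      obtain ⟨g, hg⟩ := MulAction.exists_smul_eq G p r
      exact ⟨g, by simp [hg]⟩
    · obtain ⟨g, h1, h2⟩ := h e (fun e' => e (hiff'.mpr e'))
      exact ⟨g, Prod.ext h1 h2⟩


end Cfsg.Agent.S0157
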