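import Cfsg.Statements.S3377
import Cfsg.Agent.Lib.Compute.TableCert
import Mathlib.GroupTheory.PresentedGroup
import Mathlib.GroupTheory.SpecificGroups.Alternating.Simple

set_option autoImplicit false
open Cfsg

namespace Cfsg.Agent.S3377

/-- The coset table of `⟨y⟩`. -/
def cert : TableCert.Cert where
  n := 12
  tab := [[1, 2, 0, 5, 3, 4, 8, 6, 7, 10, 11, 9],
    [2, 0, 1, 4, 5, 3, 7, 8, 6, 11, 9, 10],
    [0, 2, 4, 1, 6, 7, 3, 9, 5, 10, 8, 11],
    [0, 3, 1, 6, 2, 8, 4, 5, 10, 7, 9, 11]]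
  tree := [(0, 0), (0, 1), (1, 3), (2, 2), (3, 0), (3, 3), (5, 2), (5, 3), (7, 2), (8, 3), (9, 1)]
  rels := [[0, 0, 0], [2, 2, 2, 2, 2], [0, 2, 0, 2]]
  sub := [2]
  steps := [(0, 0, 1), (0, 2, 1), (1, 1, 2), (1, 2, 2), (3, 0, 1), (3, 2, 2), (5, 1, 2), (5, 2, 2), (6, 0, 1), (8, 2, 2), (9, 0, 1), (10, 2, 1)]

/-- The defining relations. -/
abbrev Rels : Set (FreeGroup (Fin 2)) :=
  {FreeGroup.of (0 : Fin 2) ^ 3, FreeGroup.of (1 : Fin 2) ^ 5,
    (FreeGroup.of (0 : Fin 2) * FreeGroup.of 1) ^ 2}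

/-- The images of the generators. -/
def img : Fin 2 → alternatingGroup (Fin 5) :=
  ![⟨Equiv.swap 0 2 * Equiv.swap 0 1, Equiv.Perm.mem_alternatingGroup.mpr (by decide)⟩,
    ⟨Equiv.swap 0 3 * Equiv.swap 0 1 * Equiv.swap 0 4 * Equiv.swap 0 2, Equiv.Perm.mem_alternatingGroup.mpr (by decide)⟩]

theorem img_rels : ∀ r ∈ Rels, FreeGroup.lift img r = 1 := by
  intro r hr
  simp only [Rels, Set.mem_insert_iff, Set.mem_singleton_iff] at hr
  rcases hr with rfl | rfl | rfl <;> simp only [map_pow, map_mul, FreeGroup.lift_apply_of] <;> decide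

theorem closure_img : Subgroup.closure (Set.range img) = ⊤ := by
  have hA : Nat.card (alternatingGroup (Fin 5)) = 60 := by
    rw [nat_card_alternatingGroup, Nat.card_fin]; rfl
  set R := Subgroup.closure (Set.range img) with hR
  have hmem : ∀ i, img i ∈ R := fun i => Subgroup.subset_closure ⟨i, rfl⟩
  have hd : ∀ (g : alternatingGroup (Fin 5)) (n : ℕ), g ∈ R → orderOf g = n →
      n ∣ Nat.card R := fun g n hg hn => by
    rw [← hn, ← Subgroup.orderOf_mk g hg]; exact orderOf_dvd_natCard _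
  haveI : Fact (Nat.Prime 2) := ⟨Nat.prime_two⟩
  haveI : Fact (Nat.Prime 3) := ⟨Nat.prime_three⟩
  haveI : Fact (Nat.Prime 5) := ⟨by norm_num⟩
  have d2 := hd _ 2 (mul_mem (hmem 0) (hmem 1)) (orderOf_eq_prime (by decide) (by decide))
  have d3 := hd _ 3 (hmem 0) (orderOf_eq_prime (by decide) (by decide))
  have d5 := hd _ 5 (hmem 1) (orderOf_eq_prime (by decide) (by decide))
  by_contra htop
  have hi1 : R.index ≠ 1 := fun h => htop (Subgroup.index_eq_one.mp h)
  have hmul := R.card_mul_index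
  rw [hA] at hmul
  have h30 : 30 ∣ Nat.card R :=
    Nat.Coprime.mul_dvd_of_dvd_of_dvd (m := 6) (n := 5) (by norm_num)
      (Nat.Coprime.mul_dvd_of_dvd_of_dvd (m := 2) (n := 3) (by norm_num) d2 d3) d5
  have h2 : R.index = 2 := by
    obtain ⟨k, hk⟩ := h30
    rw [hk] at hmul
    have hk0 : k ≠ 0 := by rintro rfl; omega
    have hi0 := R.index_ne_zero_of_finite
    have : k * R.index = 2 := by rw [mul_assoc] at hmul; omega
    have : R.index ∣ 2 := ⟨k, by rw [mul_comm]; exact this.symm⟩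
    exact ((Nat.dvd_prime Nat.prime_two).mp this).resolve_left hi1
  haveI := Subgroup.normal_of_index_eq_two h2
  rcases alternatingGroup.isSimpleGroup_five.eq_bot_or_eq_top_of_normal R inferInstance with h | h
  · rw [h, Subgroup.card_bot] at d2
    exact absurd (Nat.eq_one_of_dvd_one d2) (by norm_num)
  · exact htop h

theorem rel_eq_one {r : FreeGroup (Fin 2)} (hr : r ∈ Rels) : PresentedGroup.mk Rels r = 1 :=
  (QuotientGroup.eq_one_iff _).mpr (Subgroup.subset_normalClosure hr)

theorem card_le : Finite (PresentedGroup Rels) ∧ Nat.card (PresentedGroup Rels) ≤ 60 := by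
  set x : PresentedGroup Rels := PresentedGroup.of 0 with hx
  set y : PresentedGroup Rels := PresentedGroup.of 1 with hy
  have e3 : x ^ 3 = 1 := by
    rw [hx, PresentedGroup.of, ← map_pow]; exact rel_eq_one (by simp [Rels])
  have e5 : y ^ 5 = 1 := by
    rw [hy, PresentedGroup.of, ← map_pow]; exact rel_eq_one (by simp [Rels])
  have e2 : (x * y) ^ 2 = 1 := by
    rw [hx, hy, PresentedGroup.of, PresentedGroup.of, ← map_mul, ← map_pow]
    exact rel_eq_one (by simp [Rels])
  have hgen : Subgroup.closure {a | a ∈ [x, y]} = ⊤ := by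
    rw [eq_top_iff, ← PresentedGroup.closure_range_of, Subgroup.closure_le]
    rintro _ ⟨i, rfl⟩
    apply Subgroup.subset_closure
    fin_cases i <;> simp [hx, hy]
  have hfin : IsOfFinOrder y := isOfFinOrder_iff_pow_eq_one.mpr ⟨5, by norm_num, e5⟩
  haveI : Finite (Subgroup.zpowers y) := hfin.finite_zpowers.to_subtype
  obtain ⟨hf, hle⟩ := TableCert.card_le [x, y] cert (Subgroup.zpowers y) hgen (by decide)
    (by
      intro r hr
      simp only [cert, List.mem_cons, List.not_mem_nil, or_false] at hr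
      rcases hr with rfl | rfl | rfl
      · simpa [TableCert.wval, TableCert.letter, pow_succ, mul_assoc] using e3
      · simpa [TableCert.wval, TableCert.letter, pow_succ, mul_assoc] using e5
      · simpa [TableCert.wval, TableCert.letter, pow_succ, mul_assoc] using e2)
    (by simp [cert, TableCert.letter]) (by decide +kernel)
  have hy5 : Nat.card (Subgroup.zpowers y) ≤ 5 := by
    rw [Nat.card_zpowers]
    exact Nat.le_of_dvd (by norm_num) (orderOf_dvd_of_pow_eq_one e5)
  exact ⟨hf, hle.trans (by have : cert.n = 12 := rfl; rw [this]; omega)⟩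

/-- Alt(5) has the presentation `⟨x, y | x³, y⁵, (xy)²⟩`. -/
theorem result :
    Nonempty (PresentedGroup ({FreeGroup.of (0 : Fin 2) ^ 3, FreeGroup.of (1 : Fin 2) ^ 5,
        (FreeGroup.of (0 : Fin 2) * FreeGroup.of 1) ^ 2} : Set (FreeGroup (Fin 2))) ≃* alternatingGroup (Fin 5)) := by
  let φ : PresentedGroup Rels →* alternatingGroup (Fin 5) :=
    PresentedGroup.toGroup (f := img) img_rels
  have hA : Nat.card (alternatingGroup (Fin 5)) = 60 := by
    rw [nat_card_alternatingGroup, Nat.card_fin]; rfl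
  have hsurj : Function.Surjective φ := by
    rw [← MonoidHom.range_eq_top, eq_top_iff, ← closure_img, Subgroup.closure_le]
    rintro _ ⟨i, rfl⟩
    exact ⟨PresentedGroup.of i, PresentedGroup.toGroup.of img_rels⟩
  obtain ⟨hf, hle⟩ := card_le
  refine ⟨MulEquiv.ofBijective φ ⟨?_, hsurj⟩⟩
  haveI := hf
  exact ((Nat.bijective_iff_surjective_and_card φ).mpr ⟨hsurj,
    le_antisymm (hA ▸ hle) (Nat.card_le_card_of_surjective φ hsurj)⟩).injective

end Cfsg.Agent.S3377
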