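import Cfsg.Statements.S3378
import Cfsg.Agent.S3377
import Cfsg.Agent.Lib.Recog.OrderSixty
import Cfsg.Agent.Lib.Char.Burnside
import Cfsg.Agent.Lib.Small.Burnside
import Cfsg.Agent.Lib.Classical.SL
import Mathlib.GroupTheory.Solvable
import Mathlib.GroupTheory.SpecificGroups.Quaternion

set_option autoImplicit false
open Cfsg

namespace Cfsg.Agent.S3378

/-- The coset table of `⟨y, z⟩`. -/
def cert : TableCert.Cert where
  n := 12
  tab := [[1, 2, 0, 5, 3, 4, 8, 6, 7, 10, 11, 9],
    [2, 0, 1, 4, 5, 3, 7, 8, 6, 11, 9, 10],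
    [0, 2, 4, 1, 6, 7, 3, 9, 5, 10, 8, 11],
    [0, 3, 1, 6, 2, 8, 4, 5, 10, 7, 9, 11],
    [0, 1, 2, 3, 4, 5, 6, 7, 8, 9, 10, 11],
    [0, 1, 2, 3, 4, 5, 6, 7, 8, 9, 10, 11]]
  tree := [(0, 0), (0, 1), (1, 3), (2, 2), (3, 0), (3, 3), (5, 2), (5, 3), (7, 2), (8, 3), (9, 1)]
  rels := [[0, 0, 0], [2, 2, 2, 2, 2], [4, 4], [5, 0, 4, 1], [5, 2, 4, 3], [0, 2, 0, 2, 5]]
  sub := [2, 4]
  steps := [(0, 0, 1), (0, 3, 2), (0, 5, 1), (1, 1, 2), (1, 3, 2), (1, 5, 2), (2, 4, 2), (3, 0, 1), (3, 4, 0), (3, 5, 2), (4, 4, 2), (5, 1, 2), (5, 3, 0), (5, 4, 2), (5, 5, 2), (6, 0, 1), (6, 3, 2), (7, 4, 2), (8, 5, 2), (9, 0, 1), (9, 3, 2), (10, 3, 2), (10, 5, 1)]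

/-- The defining relations. -/
abbrev Rels : Set (FreeGroup (Fin 3)) :=
  {FreeGroup.of (0 : Fin 3) ^ 3, FreeGroup.of (1 : Fin 3) ^ 5, FreeGroup.of (2 : Fin 3) ^ 2,
    (FreeGroup.of (2 : Fin 3))⁻¹ * FreeGroup.of 0 * FreeGroup.of 2 * (FreeGroup.of (0 : Fin 3))⁻¹,
    (FreeGroup.of (2 : Fin 3))⁻¹ * FreeGroup.of 1 * FreeGroup.of 2 * (FreeGroup.of (1 : Fin 3))⁻¹,
    (FreeGroup.of (0 : Fin 3) * FreeGroup.of 1) ^ 2 * (FreeGroup.of (2 : Fin 3))⁻¹}

theorem rel_eq_one {r : FreeGroup (Fin 3)} (hr : r ∈ Rels) : PresentedGroup.mk Rels r = 1 :=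
  (QuotientGroup.eq_one_iff _).mpr (Subgroup.subset_normalClosure hr)

theorem card_le : Finite (PresentedGroup Rels) ∧ Nat.card (PresentedGroup Rels) ≤ 120 := by
  set x : PresentedGroup Rels := PresentedGroup.of 0 with hx
  set y : PresentedGroup Rels := PresentedGroup.of 1 with hy
  set z : PresentedGroup Rels := PresentedGroup.of 2 with hz
  have e3 : x ^ 3 = 1 := by
    rw [hx, PresentedGroup.of, ← map_pow]; exact rel_eq_one (by simp [Rels])
  have e5 : y ^ 5 = 1 := by
    rw [hy, PresentedGroup.of, ← map_pow]; exact rel_eq_one (by simp [Rels])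
  have ez : z ^ 2 = 1 := by
    rw [hz, PresentedGroup.of, ← map_pow]; exact rel_eq_one (by simp [Rels])
  have ezx : z⁻¹ * x * z * x⁻¹ = 1 := by
    simp only [hx, hz, PresentedGroup.of, ← map_inv, ← map_mul]; exact rel_eq_one (by simp [Rels])
  have ezy : z⁻¹ * y * z * y⁻¹ = 1 := by
    simp only [hy, hz, PresentedGroup.of, ← map_inv, ← map_mul]; exact rel_eq_one (by simp [Rels])
  have e2 : (x * y) ^ 2 * z⁻¹ = 1 := by
    simp only [hx, hy, hz, PresentedGroup.of, ← map_inv, ← map_mul, ← map_pow]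
    exact rel_eq_one (by simp [Rels])
  have hgen : Subgroup.closure {a | a ∈ [x, y, z]} = ⊤ := by
    rw [eq_top_iff, ← PresentedGroup.closure_range_of, Subgroup.closure_le]
    rintro _ ⟨i, rfl⟩
    apply Subgroup.subset_closure
    fin_cases i <;> simp [hx, hy, hz]
  have hc : Commute y z := by
    have h := mul_inv_eq_one.mp ezy
    calc y * z = z * (z⁻¹ * y * z) := by group
      _ = z * y := by rw [h]
  have hw : (y * z) ^ 10 = 1 := by
    rw [hc.mul_pow, show (10 : ℕ) = 5 * 2 from rfl, pow_mul, e5, one_pow,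
      show 5 * 2 = 2 * 5 from rfl, pow_mul, ez, one_pow, one_mul]
  have hym : y ∈ Subgroup.zpowers (y * z) := ⟨6, by
    show (y * z) ^ (6 : ℤ) = y
    rw [zpow_ofNat, hc.mul_pow, show z ^ 6 = 1 by rw [show 6 = 2 * 3 from rfl, pow_mul, ez, one_pow],
      mul_one, pow_succ, e5, one_mul]⟩
  have hzm : z ∈ Subgroup.zpowers (y * z) := ⟨5, by
    show (y * z) ^ (5 : ℤ) = z
    rw [zpow_ofNat, hc.mul_pow, e5, one_mul, show 5 = 2 * 2 + 1 from rfl, pow_succ, pow_mul, ez,
      one_pow, one_mul]⟩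
  have hfin : IsOfFinOrder (y * z) := isOfFinOrder_iff_pow_eq_one.mpr ⟨10, by norm_num, hw⟩
  haveI : Finite (Subgroup.zpowers (y * z)) := hfin.finite_zpowers.to_subtype
  obtain ⟨hf, hle⟩ := TableCert.card_le [x, y, z] cert (Subgroup.zpowers (y * z)) hgen (by decide)
    (by
      intro r hr
      simp only [cert, List.mem_cons, List.not_mem_nil, or_false] at hr
      rcases hr with rfl | rfl | rfl | rfl | rfl | rfl
      · simpa [TableCert.wval, TableCert.letter, pow_succ, mul_assoc] using e3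
      · simpa [TableCert.wval, TableCert.letter, pow_succ, mul_assoc] using e5
      · simpa [TableCert.wval, TableCert.letter, pow_succ, mul_assoc] using ez
      · simpa [TableCert.wval, TableCert.letter, pow_succ, mul_assoc] using ezx
      · simpa [TableCert.wval, TableCert.letter, pow_succ, mul_assoc] using ezy
      · simpa [TableCert.wval, TableCert.letter, pow_succ, mul_assoc] using e2)
    (by simp [cert, TableCert.letter, hym, hzm]) (by decide +kernel)
  have hy10 : Nat.card (Subgroup.zpowers (y * z)) ≤ 10 := by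
    rw [Nat.card_zpowers]
    exact Nat.le_of_dvd (by norm_num) (orderOf_dvd_of_pow_eq_one hw)
  exact ⟨hf, hle.trans (by have : cert.n = 12 := rfl; rw [this]; omega)⟩

/-- A group of order 120 generated by a triple satisfying the relations is the presented group. -/
theorem equiv_of_triple {G : Type*} [Group G] [Finite G] (hG : Nat.card G = 120) (a b t : G)
    (h3 : a ^ 3 = 1) (h5 : b ^ 5 = 1) (ht : t ^ 2 = 1) (hta : Commute t a) (htb : Commute t b)
    (h2 : (a * b) ^ 2 = t) (hgen : Subgroup.closure {a, b, t} = ⊤) :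
    Nonempty (PresentedGroup Rels ≃* G) := by
  have hrels : ∀ r ∈ Rels, FreeGroup.lift ![a, b, t] r = 1 := by
    intro r hr
    simp only [Rels, Set.mem_insert_iff, Set.mem_singleton_iff] at hr
    rcases hr with rfl | rfl | rfl | rfl | rfl | rfl <;>
      simp only [map_pow, map_mul, map_inv, FreeGroup.lift_apply_of] <;> simp
    · exact h3
    · exact h5
    · exact ht
    · rw [mul_assoc t⁻¹, ← hta.eq, ← mul_assoc, inv_mul_cancel, one_mul, mul_inv_cancel]
    · rw [mul_assoc t⁻¹, ← htb.eq, ← mul_assoc, inv_mul_cancel, one_mul, mul_inv_cancel]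
    · rw [h2, mul_inv_cancel]
  let φ : PresentedGroup Rels →* G := PresentedGroup.toGroup hrels
  have hsurj : Function.Surjective φ := by
    rw [← MonoidHom.range_eq_top, eq_top_iff, ← hgen, Subgroup.closure_le]
    rintro g (rfl | rfl | rfl)
    · exact ⟨PresentedGroup.of 0, PresentedGroup.toGroup.of hrels⟩
    · exact ⟨PresentedGroup.of 1, PresentedGroup.toGroup.of hrels⟩
    · exact ⟨PresentedGroup.of 2, PresentedGroup.toGroup.of hrels⟩
  obtain ⟨hf, hle⟩ := card_le
  haveI := hf
  exact ⟨MulEquiv.ofBijective φ ((Nat.bijective_iff_surjective_and_card φ).mpr ⟨hsurj,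
    le_antisymm (hG ▸ hle) (Nat.card_le_card_of_surjective φ hsurj)⟩)⟩

theorem isSolvable_of_card_thirty (G : Type*) [Group G] [Finite G] (hG : Nat.card G = 30) :
    Group.IsSolvable G := by
  haveI : Fact (Nat.Prime 2) := ⟨Nat.prime_two⟩
  obtain ⟨T⟩ : Nonempty (Sylow 2 G) := inferInstance
  have hT : Nat.card (T : Subgroup G) = 2 := by
    rw [T.card_eq_multiplicity, hG, show (30 : ℕ) = 2 * 15 from rfl,
      Nat.factorization_mul (by norm_num) (by norm_num)]
    simp [Nat.prime_two.factorization_self,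
      Nat.factorization_eq_zero_of_not_dvd (show ¬ 2 ∣ 15 by norm_num)]
  obtain ⟨H, hH⟩ := Small.exists_index_two_of_cyclic (by rw [hG]; decide) T
    (isCyclic_of_prime_card hT)
  haveI := Subgroup.normal_of_index_eq_two hH
  have hc : Nat.card H = 15 := by
    have := H.card_mul_index
    rw [hG, hH] at this
    omega
  haveI : Group.IsSolvable H :=
    Char.isSolvable_of_card_pq 3 5 Nat.prime_three (by norm_num) _ H hc ⟨1, 1, rfl⟩
  haveI : Group.IsSolvable (G ⧸ H) :=
    Char.isSolvable_of_card_pq 2 5 Nat.prime_two (by norm_num) _ (G ⧸ H)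
      ((Subgroup.index_eq_card H).symm.trans hH) ⟨1, 0, rfl⟩
  exact solvable_of_ker_le_range H.subtype (QuotientGroup.mk' H) (by simp)

theorem quaternion_unique : ∀ a b : QuaternionGroup 2, a * a = 1 → a ≠ 1 → b * b = 1 → b ≠ 1 → a = b := by
  decide

/-- Nonsolvable groups of order 120 with quaternion Sylow 2-subgroups satisfy the presentation. -/
theorem equiv_pres {G : Type*} [Group G] [Finite G] (hG : Nat.card G = 120)
    (hns : ¬ Group.IsSolvable G)
    (hQ : ∀ P : Sylow 2 G, Nonempty ((P : Subgroup G) ≃* QuaternionGroup 2)) :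
    Nonempty (PresentedGroup Rels ≃* G) := by
  haveI : Fact (Nat.Prime 2) := ⟨Nat.prime_two⟩
  haveI : Fact (Nat.Prime 5) := ⟨by norm_num⟩
  have pq : ∀ (p q a b : ℕ), p.Prime → q.Prime → ∀ (X : Type _) [Group X] [Finite X],
      Nat.card X = p ^ a * q ^ b → Group.IsSolvable X := fun p q a b hp hq X _ _ h =>
    Char.isSolvable_of_card_pq p q hp hq _ X h ⟨a, b, rfl⟩
  have ext : ∀ (N : Subgroup G) [N.Normal], Group.IsSolvable N → ¬ Group.IsSolvable (G ⧸ N) := by
    intro N _ h1 h2
    exact hns (solvable_of_ker_le_range N.subtype (QuotientGroup.mk' N) (by simp))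
  obtain ⟨P⟩ : Nonempty (Sylow 5 G) := inferInstance
  have hP : Nat.card P = 5 := by
    rw [P.card_eq_multiplicity, hG, show (120 : ℕ) = 5 * 24 by rfl,
      Nat.factorization_mul (by norm_num) (by norm_num)]
    simp [(show Nat.Prime 5 by norm_num).factorization_self,
      Nat.factorization_eq_zero_of_not_dvd (show ¬ 5 ∣ 24 by norm_num)]
  have hPi : (P : Subgroup G).index = 24 := by
    have h := (P : Subgroup G).card_mul_index
    rw [hP, hG] at h
    omega
  have h6 : Nat.card (Sylow 5 G) = 6 := by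
    have h1 := card_sylow_modEq_one 5 G
    have h2 := P.card_dvd_index
    rw [hPi] at h2
    have h3 := Nat.le_of_dvd (by norm_num) h2
    have hne : Nat.card (Sylow 5 G) ≠ 1 := by
      intro h
      haveI : Subsingleton (Sylow 5 G) := (Nat.card_eq_one_iff_unique.1 h).1
      haveI := P.normal_of_subsingleton
      exact ext (P : Subgroup G) (pq 5 2 1 0 (by norm_num) Nat.prime_two _ hP)
        (pq 2 3 3 1 Nat.prime_two Nat.prime_three _ ((Subgroup.index_eq_card _).symm.trans hPi))
    unfold Nat.ModEq at h1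
    interval_cases hn : Nat.card (Sylow 5 G) <;> omega
  set N := Subgroup.normalizer ((P : Subgroup G) : Set G) with hN
  have hNi : N.index = 6 := P.card_eq_index_normalizer.symm.trans h6
  have hNc : Nat.card N = 20 := by
    have h := N.card_mul_index
    rw [hNi, hG] at h
    omega
  set K := (MulAction.toPermHom G (Sylow 5 G)).ker with hK
  have hKN : K ≤ N := fun g hg => Sylow.smul_eq_iff_mem_normalizer.1
    (congrArg (fun e : Equiv.Perm (Sylow 5 G) => e P) (MonoidHom.mem_ker.1 hg))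
  obtain ⟨t, hto⟩ := exists_prime_orderOf_dvd_card' (G := G) 2 (by rw [hG]; norm_num)
  have ht1 : t ≠ 1 := fun h => by rw [h, orderOf_one] at hto; norm_num at hto
  have htt : t ^ 2 = 1 := hto ▸ pow_orderOf_eq_one t
  have hinv : ∀ t : G, orderOf t = 2 → t ∈ K := by
    intro t hto
    have ht1 : t ≠ 1 := fun h => by rw [h, orderOf_one] at hto; norm_num at hto
    have htt : t ^ 2 = 1 := hto ▸ pow_orderOf_eq_one t
    have htp : IsPGroup 2 (Subgroup.zpowers t) :=
      IsPGroup.of_card (n := 1) (by rw [Nat.card_zpowers, hto, pow_one])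
    obtain ⟨T, hT⟩ := htp.exists_le_sylow
    obtain ⟨e⟩ := hQ T
    have htT : t ∈ T := hT (Subgroup.mem_zpowers t)
    have hT8 : Nat.card (T : Subgroup G) = 8 := by
      rw [show Nat.card (T : Subgroup G) = Nat.card (QuaternionGroup 2) from
        Nat.card_congr e.toEquiv, Nat.card_eq_fintype_card]
      rfl
    refine MonoidHom.mem_ker.2 (Equiv.ext fun S => ?_)
    show t • S = S
    have ho : Nat.card (MulAction.orbit (T : Subgroup G) S) *
        Nat.card (MulAction.stabilizer (T : Subgroup G) S) = Nat.card (T : Subgroup G) := by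
      rw [Nat.card_coe_set_eq, ← MulAction.index_stabilizer, Subgroup.index_mul_card]
    have hle : Nat.card (MulAction.orbit (T : Subgroup G) S) ≤ 6 :=
      h6 ▸ Nat.card_le_card_of_injective Subtype.val Subtype.val_injective
    have hdvd : 2 ∣ Nat.card (MulAction.stabilizer (T : Subgroup G) S) := by
      have hd : Nat.card (MulAction.stabilizer (T : Subgroup G) S) ∣ 2 ^ 3 :=
        ⟨_, (show (2 : ℕ) ^ 3 = _ from hT8.symm.trans ho.symm).trans (mul_comm _ _)⟩
      obtain ⟨k, -, hk⟩ := (Nat.dvd_prime_pow Nat.prime_two).1 hd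
      rcases k with _ | k
      · rw [hk, pow_zero, mul_one, hT8] at ho
        omega
      · exact ⟨2 ^ k, by rw [hk, pow_succ']⟩
    obtain ⟨⟨s, hs⟩, hso⟩ := exists_prime_orderOf_dvd_card' 2 hdvd
    have hse : orderOf s = 2 := (Subgroup.orderOf_coe ⟨s, hs⟩).trans hso
    have hst : s = ⟨t, htT⟩ := e.injective (quaternion_unique (e s) (e ⟨t, htT⟩)
      (by rw [← map_mul, ← pow_two, orderOf_dvd_iff_pow_eq_one.1 hse.dvd, map_one])
      (fun h => by
        rw [e.injective (h.trans (map_one e).symm), orderOf_one] at hse; norm_num at hse)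
      (by rw [← map_mul, ← pow_two, ← map_one e]; exact congrArg e (Subtype.ext htt))
      (fun h => ht1 (congrArg Subtype.val (e.injective (h.trans (map_one e).symm)))))
    rw [hst] at hs
    exact hs
  have htK : t ∈ K := hinv t hto
  have hK2 : Nat.card K = 2 := by
    have h2 : 2 ∣ Nat.card K := hto ▸ Subgroup.orderOf_mk t htK ▸ orderOf_dvd_natCard _
    have h20 : Nat.card K ∣ 20 := hNc ▸ Subgroup.card_dvd_of_le hKN
    have hmul := K.card_mul_index
    rw [hG] at hmul
    have hKs : Group.IsSolvable K := by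
      obtain ⟨c, hc⟩ := h20
      have hle := Nat.le_of_dvd (by norm_num) (Dvd.intro c hc.symm)
      generalize hk : Nat.card K = k at *
      interval_cases k <;> first
        | omega
        | exact pq 2 5 1 0 Nat.prime_two (by norm_num) _ hk
        | exact pq 2 5 2 0 Nat.prime_two (by norm_num) _ hk
        | exact pq 2 5 1 1 Nat.prime_two (by norm_num) _ hk
        | exact pq 2 5 2 1 Nat.prime_two (by norm_num) _ hk
    have hQs := ext K hKs
    have hQc : Nat.card (G ⧸ K) = K.index := (Subgroup.index_eq_card K).symm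
    have hle := Nat.le_of_dvd (by norm_num) h20
    obtain ⟨c, hc⟩ := h20
    generalize hk : Nat.card K = k at *
    interval_cases k <;> first
      | omega
      | exact absurd (pq 2 3 2 1 Nat.prime_two Nat.prime_three _ (hQc.trans (by omega))) hQs
      | exact absurd (pq 2 3 1 1 Nat.prime_two Nat.prime_three _ (hQc.trans (by omega))) hQs
      | exact absurd (isSolvable_of_card_thirty _ (hQc.trans (by omega))) hQs
  have hKmem : ∀ g ∈ K, g = 1 ∨ g = t := by
    intro g hg
    by_contra hne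
    push Not at hne
    obtain ⟨u, -, huniq⟩ := (Nat.card_eq_two_iff' (⟨1, one_mem _⟩ : K)).1 hK2
    exact hne.2 (congrArg Subtype.val ((huniq ⟨g, hg⟩ (fun h => hne.1 (congrArg Subtype.val h))).trans
      (huniq ⟨t, htK⟩ (fun h => ht1 (congrArg Subtype.val h))).symm))
  have htc : ∀ g, Commute t g := by
    intro g
    have h := (hKmem _ ((MonoidHom.normal_ker _).conj_mem t htK g)).resolve_left
      (fun h => ht1 (by simpa using h))
    show t * g = g * t
    calc t * g = g * t * g⁻¹ * g := by rw [h]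
      _ = g * t := by group
  have hQ60 : Nat.card (G ⧸ K) = 60 := by
    have hmul := K.card_mul_index
    rw [hG, hK2] at hmul
    rw [← Subgroup.index_eq_card]
    omega
  have hQ6 : Nat.card (Sylow 5 (G ⧸ K)) = 6 := by
    refine (OrderSixty.sylow_card_cases hQ60).resolve_left fun h => ?_
    haveI : Subsingleton (Sylow 5 (G ⧸ K)) := (Nat.card_eq_one_iff_unique.1 h).1
    obtain ⟨R⟩ : Nonempty (Sylow 5 (G ⧸ K)) := inferInstance
    haveI := R.normal_of_subsingleton
    have hR := OrderSixty.card_sylow_five hQ60 R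
    have hRi : (R : Subgroup (G ⧸ K)).index = 12 := by
      have h := (R : Subgroup (G ⧸ K)).card_mul_index
      rw [hR, hQ60] at h
      omega
    haveI := pq 5 2 1 0 (by norm_num) Nat.prime_two _ hR
    haveI := pq 2 3 2 1 Nat.prime_two Nat.prime_three _ ((Subgroup.index_eq_card _).symm.trans hRi)
    exact ext K (pq 2 5 1 0 Nat.prime_two (by norm_num) _ hK2)
      (solvable_of_ker_le_range (R : Subgroup (G ⧸ K)).subtype
        (QuotientGroup.mk' (R : Subgroup (G ⧸ K))) (by simp))
  obtain ⟨e⟩ := OrderSixty.equiv_A5 hQ60 hQ6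
  let π : G →* alternatingGroup (Fin 5) := e.toMonoidHom.comp (QuotientGroup.mk' K)
  have hπ : Function.Surjective π := e.surjective.comp (QuotientGroup.mk'_surjective K)
  have hπk : ∀ g, π g = 1 ↔ g ∈ K := fun g =>
    (map_eq_one_iff e e.injective).trans (QuotientGroup.eq_one_iff g)
  have lift : ∀ (n : ℕ) (v : alternatingGroup (Fin 5)), Odd n → v ^ n = 1 →
      ∃ g, g ^ n = 1 ∧ π g = v := by
    intro n v hn hv
    obtain ⟨g, rfl⟩ := hπ v
    rw [← map_pow, hπk] at hv
    rcases hKmem _ hv with h | h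
    · exact ⟨g, h, rfl⟩
    · obtain ⟨m, rfl⟩ := hn
      refine ⟨g * t, ?_, by rw [map_mul, (hπk t).2 htK, mul_one]⟩
      rw [(htc g).symm.mul_pow, h, pow_succ t, pow_mul, htt, one_pow, one_mul, ← pow_two, htt]
  obtain ⟨a, ha, ha'⟩ := lift 3 (S3377.img 0) (by decide) (by decide)
  obtain ⟨b, hb, hb'⟩ := lift 5 (S3377.img 1) (by decide) (by decide)
  have h2 : (a * b) ^ 2 = t := by
    have hm : (a * b) ^ 2 ∈ K := by
      rw [← hπk, map_pow, map_mul, ha', hb']; decide
    refine (hKmem _ hm).resolve_left fun h => ?_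
    have : a * b ∈ K := by
      rcases eq_or_ne (a * b) 1 with h1 | h1
      · rw [h1]; exact one_mem _
      · exact hinv _ (orderOf_eq_prime h h1)
    have h1 := (hπk _).2 this
    rw [map_mul, ha', hb'] at h1
    exact absurd h1 (by decide)
  refine equiv_of_triple hG a b t ha hb htt (htc a) (htc b) h2 ?_
  set R := Subgroup.closure {a, b, t} with hR
  have haR : a ∈ R := Subgroup.subset_closure (by simp)
  have hbR : b ∈ R := Subgroup.subset_closure (by simp)
  have htR : t ∈ R := Subgroup.subset_closure (by simp)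
  have hmap : R.map π = ⊤ := by
    rw [eq_top_iff, ← S3377.closure_img, Subgroup.closure_le]
    rintro _ ⟨i, rfl⟩
    fin_cases i
    · exact ⟨a, haR, ha'⟩
    · exact ⟨b, hbR, hb'⟩
  rw [eq_top_iff]
  intro g _
  obtain ⟨r, hr, hrg⟩ := hmap ▸ Subgroup.mem_top (π g)
  have : r⁻¹ * g ∈ K := by rw [← hπk, map_mul, map_inv, hrg, inv_mul_cancel]
  rcases hKmem _ this with h | h
  · rw [inv_mul_eq_one] at h; exact h ▸ hr
  · rw [inv_mul_eq_iff_eq_mul] at h; exact h ▸ mul_mem hr htR

/-- The generators of SL(2,5). -/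
def sX : Matrix.SpecialLinearGroup (Fin 2) (ZMod 5) := ⟨!![0, -1; 1, -1], by decide⟩

/-- The generators of SL(2,5). -/
def sY : Matrix.SpecialLinearGroup (Fin 2) (ZMod 5) := ⟨!![1, 1; 0, 1], by decide⟩

theorem sl_card : Nat.card (Matrix.SpecialLinearGroup (Fin 2) (ZMod 5)) = 120 := by
  haveI : Fact (Nat.Prime 5) := ⟨by norm_num⟩
  have h := ClassicalSL.card_sl_mul (ι := Fin 2) (F := ZMod 5)
  rw [ClassicalSL.card_gl_fin (Nat.card_zmod 5), Nat.card_zmod, Fin.prod_univ_two] at h
  norm_num at h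
  rw [Nat.card_eq_fintype_card]
  omega

theorem hsq : ∀ (i j : Fin 2) (hij : i ≠ j) (c : ZMod 5),
    Matrix.SpecialLinearGroup.transvection hij (3 * c) ^ 2 =
      Matrix.SpecialLinearGroup.transvection hij c := by
  decide +kernel

theorem equiv_sl : Nonempty (PresentedGroup Rels ≃* Matrix.SpecialLinearGroup (Fin 2) (ZMod 5)) := by
  haveI : Fact (Nat.Prime 5) := ⟨by norm_num⟩
  haveI : Fact (Nat.Prime 3) := ⟨Nat.prime_three⟩
  refine equiv_of_triple sl_card sX sY (-1) (by decide) (by decide) (by decide) (by simp [Commute, SemiconjBy])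
    (by simp [Commute, SemiconjBy]) (by decide) ?_
  set R := Subgroup.closure {sX, sY, -1} with hR
  have hd : ∀ (g : Matrix.SpecialLinearGroup (Fin 2) (ZMod 5)) (n : ℕ), g ∈ R → orderOf g = n →
      n ∣ Nat.card R := fun g n hg hn => by
    rw [← hn, ← Subgroup.orderOf_mk g hg]; exact orderOf_dvd_natCard _
  have hx : sX ∈ R := Subgroup.subset_closure (by simp)
  have hy : sY ∈ R := Subgroup.subset_closure (by simp)
  have d3 := hd _ 3 hx (orderOf_eq_prime (by decide) (by decide))
  have d5 := hd _ 5 hy (orderOf_eq_prime (by decide) (by decide))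
  have d4 := hd _ (2 ^ 2) (mul_mem hx hy)
    (orderOf_eq_prime_pow (n := 1) (p := 2) (by decide) (by decide))
  have hmul := R.card_mul_index
  rw [sl_card] at hmul
  have h60 : 60 ∣ Nat.card R :=
    Nat.Coprime.mul_dvd_of_dvd_of_dvd (m := 12) (n := 5) (by norm_num)
      (Nat.Coprime.mul_dvd_of_dvd_of_dvd (m := 4) (n := 3) (by norm_num) d4 d3) d5
  obtain ⟨k, hk⟩ := h60
  rw [hk, mul_assoc] at hmul
  have hi : R.index = 1 ∨ R.index = 2 :=
    (Nat.dvd_prime Nat.prime_two).mp ⟨k, by rw [mul_comm]; omega⟩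
  rcases hi with h | h
  · exact Subgroup.index_eq_one.mp h
  · rw [eq_top_iff, ← ClassicalSL.closure_elemTransvections, Subgroup.closure_le]
    rintro _ ⟨i, j, hij, c, rfl⟩
    rw [← hsq i j hij c]
    exact Subgroup.sq_mem_of_index_two h _

/-- Nonsolvable groups of order 120 with quaternion Sylow 2-subgroups are SL(2,5). -/
theorem result :
    (∀ (G : Type*) [Group G] [Finite G], Nat.card G = 120 → ¬ Group.IsSolvable G →
      (∀ P : Sylow 2 G, Nonempty ((P : Subgroup G) ≃* QuaternionGroup 2)) →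
      Nonempty (G ≃* Matrix.SpecialLinearGroup (Fin 2) (ZMod 5))) ∧
    Nonempty (PresentedGroup ({FreeGroup.of (0 : Fin 3) ^ 3, FreeGroup.of (1 : Fin 3) ^ 5, FreeGroup.of (2 : Fin 3) ^ 2,
        (FreeGroup.of (2 : Fin 3))⁻¹ * FreeGroup.of 0 * FreeGroup.of 2 * (FreeGroup.of (0 : Fin 3))⁻¹,
        (FreeGroup.of (2 : Fin 3))⁻¹ * FreeGroup.of 1 * FreeGroup.of 2 * (FreeGroup.of (1 : Fin 3))⁻¹,
        (FreeGroup.of (0 : Fin 3) * FreeGroup.of 1) ^ 2 * (FreeGroup.of (2 : Fin 3))⁻¹} : Set (FreeGroup (Fin 3)))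
      ≃* Matrix.SpecialLinearGroup (Fin 2) (ZMod 5)) := by
  obtain ⟨s⟩ := equiv_sl
  refine ⟨fun G _ _ hG hns hQ => ?_, ⟨s⟩⟩
  obtain ⟨p⟩ := equiv_pres hG hns hQ
  exact ⟨p.symm.trans s⟩

end Cfsg.Agent.S3378
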