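import Cfsg.Statements.S0054
import Cfsg.Agent.Lib.Solvable.Basic

set_option autoImplicit false
open scoped Pointwise commutatorElement
open Cfsg

namespace Cfsg.Agent.S0054

/-- A regular normal subgroup of a finite 2-transitive group is elementary abelian: it is commutative and all its elements have order dividing one prime. -/
theorem result {G : Type*} [Group G] [Finite G]
    {X : Type*} [Nonempty X] [MulAction G X] (h2 : MulAction.IsMultiplyPretransitive G X 2)
    (N : Subgroup G) [N.Normal] (htrans : MulAction.IsPretransitive N X) (hreg : ∀ x : X, MulAction.stabilizer N x = ⊥) :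
    IsMulCommutative N ∧ ∃ p : ℕ, p.Prime ∧ ∀ n ∈ N, n ^ p = 1 := by
  rw [MulAction.is_two_pretransitive_iff] at h2
  obtain ⟨x₀⟩ := (inferInstance : Nonempty X)
  have hinj : ∀ a ∈ N, ∀ b ∈ N, a • x₀ = b • x₀ → a = b := by
    intro a ha b hb hab
    have h1 : (⟨b, hb⟩⁻¹ * ⟨a, ha⟩ : N) ∈ MulAction.stabilizer N x₀ := by
      rw [MulAction.mem_stabilizer_iff]
      change (b⁻¹ * a) • x₀ = x₀
      rw [mul_smul, hab, inv_smul_smul]
    rw [hreg x₀, Subgroup.mem_bot] at h1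
    exact (inv_mul_eq_one.1 (congrArg Subtype.val h1)).symm
  have hconj : ∀ a ∈ N, a ≠ 1 → ∀ b ∈ N, b ≠ 1 → ∃ g : G, g * a * g⁻¹ = b := by
    intro a ha ha1 b hb hb1
    have hna : ∀ c ∈ N, c ≠ 1 → x₀ ≠ c • x₀ := fun c hc hc1 h0 =>
      hc1 (hinj c hc 1 (one_mem N) (by rw [one_smul]; exact h0.symm))
    obtain ⟨g, hg0, hga⟩ := h2 (hna a ha ha1) (hna b hb hb1)
    refine ⟨g, hinj _ (‹N.Normal›.conj_mem a ha g) b hb ?_⟩
    rw [mul_smul, mul_smul, inv_smul_eq_iff.2 hg0.symm, hga]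
  by_cases hN : N = ⊥
  · subst hN
    refine ⟨inferInstance, 2, Nat.prime_two, fun n hn => ?_⟩
    rw [Subgroup.mem_bot.1 hn, one_pow]
  obtain ⟨p, hp, hdvd⟩ := Nat.exists_prime_and_dvd
    (fun h => hN (Subgroup.card_eq_one.1 h) : Nat.card N ≠ 1)
  have := Fact.mk hp
  obtain ⟨a, ha⟩ := exists_prime_orderOf_dvd_card' (G := N) p hdvd
  have ha1 : (a : G) ≠ 1 := fun h => by
    rw [show a = 1 from Subtype.ext h, orderOf_one] at ha
    exact hp.ne_one ha.symm
  have hexp : ∀ n ∈ N, n ^ p = 1 := by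
    intro n hn
    by_cases hn1 : n = 1
    · rw [hn1, one_pow]
    · obtain ⟨g, rfl⟩ := hconj a a.2 ha1 n hn hn1
      rw [conj_pow, ← Subgroup.coe_pow, ← ha, pow_orderOf_eq_one, Subgroup.coe_one, mul_one,
        mul_inv_cancel]
  have hpN : IsPGroup p N := fun n => ⟨1, Subtype.ext (by simpa using hexp n n.2)⟩
  refine ⟨?_, p, hp, hexp⟩
  have : Nontrivial N := (Subgroup.nontrivial_iff_ne_bot N).2 hN
  have := hpN.center_nontrivial
  obtain ⟨z, hz⟩ := exists_ne (1 : Subgroup.center N)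
  have hz1 : ((z : N) : G) ≠ 1 := fun h => hz (Subtype.ext (Subtype.ext h))
  refine ⟨⟨fun u v => ?_⟩⟩
  by_cases hu : (u : G) = 1
  · rw [show u = 1 from Subtype.ext hu, one_mul, mul_one]
  obtain ⟨g, hg⟩ := hconj (z : N) (z : N).2 hz1 u u.2 hu
  set w : N := ⟨g⁻¹ * v * g, by simpa using ‹N.Normal›.conj_mem (v : G) v.2 g⁻¹⟩ with hw
  have h3 := congrArg Subtype.val (Subgroup.mem_center_iff.1 z.2 w)
  simp only [Subgroup.coe_mul, hw] at h3
  refine Subtype.ext ?_
  rw [Subgroup.coe_mul, Subgroup.coe_mul, ← hg]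
  have h4 := congrArg (fun t => g * t * g⁻¹) h3
  simp only [mul_assoc, mul_inv_cancel_left, mul_inv_cancel, mul_one] at h4
  simpa [mul_assoc] using h4.symm

end Cfsg.Agent.S0054
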