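import Cfsg.Statements.S0741
import Mathlib.GroupTheory.GroupAction.MultipleTransitivity
import Mathlib.GroupTheory.Perm.Cycle.Type
-- import your own Cfsg.Agent.* helpers here

set_option autoImplicit false
set_option linter.style.haveILetI false
open Cfsg

namespace Cfsg.Agent.S0741

/-- If the two-point stabilisers of a finite Zassenhaus group of degree `n + 1` have even order `d`, then `2d ≥ n - 1`. -/
theorem result {G Ω : Type*} [Group G] [Finite G] [MulAction G Ω] [Fintype Ω] (hZ : Cfsg.IsZassenhausGroup G Ω) {a b : Ω} (hab : a ≠ b) (heven : Even (Nat.card ↥(MulAction.stabilizer G a ⊓ MulAction.stabilizer G b))) : Fintype.card Ω - 2 ≤ 2 * Nat.card ↥(MulAction.stabilizer G a ⊓ MulAction.stabilizer G b) := by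
  classical
  haveI : Fintype G := Fintype.ofFinite G
  haveI := Fact.mk Nat.prime_two
  obtain ⟨hfaith, h2, h3, -, -⟩ := hZ
  set H := MulAction.stabilizer G a ⊓ MulAction.stabilizer G b with hH
  obtain ⟨⟨z, hza, hzb⟩, hz⟩ := exists_prime_orderOf_dvd_card' (G := ↥H) 2 (even_iff_two_dvd.1 heven)
  rw [← Subgroup.orderOf_coe] at hz
  simp only at hz
  have hz2 : z * z = 1 := by rw [← pow_two, ← hz]; exact pow_orderOf_eq_one z
  have hz1 : z ≠ 1 := fun h => by simp [h] at hz
  have hzz : ∀ x : Ω, z • z • x = x := fun x => by rw [← mul_smul, hz2, one_smul]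
  have hfix : ∀ x : Ω, z • x = x → x = a ∨ x = b := by
    intro x hx
    by_contra hno
    rw [not_or] at hno
    exact hz1 (h3 z a b x hab (Ne.symm hno.2) (Ne.symm hno.1) hza hzb hx)
  have hex : ∀ c : Ω, c ≠ a → c ≠ b →
      ∃ t : G, t ≠ 1 ∧ t • c = c ∧ t • (z • c) = z • c ∧ t • a = b ∧ t • b = a := by
    intro c hca hcb
    have hdc : c ≠ z • c := fun h => (hfix c h.symm).elim hca hcb
    obtain ⟨g, hga, hgb⟩ := (MulAction.is_two_pretransitive_iff.1 h2) hab hdc
    set K := MulAction.stabilizer G c ⊓ MulAction.stabilizer G (z • c) with hK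
    have hKc : Nat.card ↥K = Nat.card ↥H := by
      rw [← Subgroup.card_map_of_injective (f := (MulAut.conj g).toMonoidHom) (MulAut.conj g).injective (K := H)]
      refine congrArg (fun S : Subgroup G => Nat.card ↥S) ?_
      rw [hK, hH, Subgroup.map_inf_eq _ _ _ (MulAut.conj g).injective, ← hgb, ← hga,
        MulAction.stabilizer_smul_eq_stabilizer_map_conj, MulAction.stabilizer_smul_eq_stabilizer_map_conj]
    -- the elements of square one of `K` form a set of even size
    let σ : Equiv.Perm ↥K := Equiv.inv ↥K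
    have hσ : σ ^ 2 ^ 1 = 1 := by ext x; simp [σ, pow_two]
    have heK : 2 ∣ Fintype.card ↥K := by
      rw [← Nat.card_eq_fintype_card, hKc]; exact even_iff_two_dvd.1 heven
    let X := {x : ↥K // x * x = 1}
    have hX : 2 ∣ Fintype.card X := by
      have h := Equiv.Perm.card_compl_support_modEq hσ
      have hcard : σ.supportᶜ.card = Fintype.card X := by
        rw [Fintype.card_subtype]
        congr 1
        ext x
        simp [σ, mul_eq_one_iff_eq_inv, eq_comm]
      rw [hcard] at h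
      exact (Nat.ModEq.dvd_iff h (dvd_refl 2)).2 heK
    have hconj : ∀ x : ↥K, z * (x : G) * z⁻¹ ∈ K := by
      intro x
      have hzi : z⁻¹ = z := inv_eq_of_mul_eq_one_left hz2
      rw [hzi]
      refine ⟨?_, ?_⟩
      · show (z * (x : G) * z) • c = c
        rw [mul_smul, mul_smul, show (x : G) • z • c = z • c from x.2.2, hzz]
      · show (z * (x : G) * z) • z • c = z • c
        rw [mul_smul, mul_smul, hzz, show (x : G) • c = c from x.2.1]
    let τ : Equiv.Perm X := Function.Involutive.toPerm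
      (fun x => ⟨⟨z * ((x : ↥K) : G) * z⁻¹, hconj x⟩, Subtype.ext (by
        show z * ((x : ↥K) : G) * z⁻¹ * (z * ((x : ↥K) : G) * z⁻¹) = 1
        rw [show z * ((x : ↥K) : G) * z⁻¹ * (z * ((x : ↥K) : G) * z⁻¹) = z * (((x : ↥K) : G) * ((x : ↥K) : G)) * z⁻¹ by group,
          show ((x : ↥K) : G) * ((x : ↥K) : G) = 1 from congrArg Subtype.val x.2, mul_one, mul_inv_cancel])⟩)
      (fun x => Subtype.ext (Subtype.ext (by
        show z * (z * ((x : ↥K) : G) * z⁻¹) * z⁻¹ = _
        rw [show z * (z * ((x : ↥K) : G) * z⁻¹) * z⁻¹ = (z * z) * ((x : ↥K) : G) * (z * z)⁻¹ by group,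
          hz2, one_mul, inv_one, mul_one])))
    have hτ : τ ^ 2 ^ 1 = 1 := by
      rw [pow_one, pow_two]
      exact Equiv.ext fun x => Function.Involutive.toPerm_involutive _ x
    obtain ⟨x, hx, hx1⟩ := Equiv.Perm.exists_fixed_point_of_prime' hX hτ (a := ⟨1, mul_one 1⟩)
      (Subtype.ext (Subtype.ext (by show z * 1 * z⁻¹ = 1; rw [mul_one, mul_inv_cancel])))
    set t : G := ((x : ↥K) : G)
    have ht1 : t ≠ 1 := fun h => hx1 (Subtype.ext (Subtype.ext h))
    have hcomm : z * t = t * z := mul_inv_eq_iff_eq_mul.1 (congrArg (fun y : X => ((y : ↥K) : G)) hx)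
    have hswap : ∀ p : Ω, z • p = p → p ≠ c → p ≠ z • c → t • p ≠ p ∧ (t • p = a ∨ t • p = b) := by
      intro p hp hpc hpd
      refine ⟨fun h => ht1 (h3 t c (z • c) p hdc (Ne.symm hpd) (Ne.symm hpc) (x : ↥K).2.1 (x : ↥K).2.2 h), hfix _ ?_⟩
      rw [← mul_smul, hcomm, mul_smul, hp]
    have had : a ≠ z • c := fun h => hca (by rw [← hzz c, ← h]; exact hza)
    have hbd : b ≠ z • c := fun h => hcb (by rw [← hzz c, ← h]; exact hzb)
    obtain ⟨ha1, ha2⟩ := hswap a hza (Ne.symm hca) had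
    obtain ⟨hb1, hb2⟩ := hswap b hzb (Ne.symm hcb) hbd
    exact ⟨t, ht1, (x : ↥K).2.1, (x : ↥K).2.2, ha2.resolve_left ha1, hb2.resolve_right hb1⟩
  choose! f hf using hex
  let P : Finset Ω := (Finset.univ.erase a).erase b
  have hP : P.card = Fintype.card Ω - 2 := by
    rw [Finset.card_erase_of_mem (Finset.mem_erase.2 ⟨Ne.symm hab, Finset.mem_univ b⟩),
      Finset.card_erase_of_mem (Finset.mem_univ a), Finset.card_univ]
    omega
  have hPm : ∀ c ∈ P, c ≠ a ∧ c ≠ b := fun c hc => by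
    simp only [P, Finset.mem_erase] at hc
    exact ⟨hc.2.1, hc.1⟩
  have h1 : P.card ≤ 2 * (P.image f).card := by
    refine Finset.card_le_mul_card_image P 2 fun s hs => ?_
    obtain ⟨c, hc, rfl⟩ := Finset.mem_image.1 hs
    refine le_trans (Finset.card_le_card ?_) (Finset.card_le_two (a := c) (b := z • c))
    intro c' hc'
    rw [Finset.mem_filter] at hc'
    obtain ⟨f1, f2, f3, -, -⟩ := hf c (hPm c hc).1 (hPm c hc).2
    obtain ⟨-, g2, -, -, -⟩ := hf c' (hPm c' hc'.1).1 (hPm c' hc'.1).2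
    rw [hc'.2] at g2
    rw [Finset.mem_insert, Finset.mem_singleton]
    by_contra hno
    rw [not_or] at hno
    refine f1 (h3 _ c (z • c) c' ?_ (Ne.symm hno.2) (Ne.symm hno.1) f2 f3 g2)
    exact fun h => (hfix c h.symm).elim (hPm c hc).1 (hPm c hc).2
  have h2' : (P.image f).card ≤ Nat.card ↥H := by
    rcases P.eq_empty_or_nonempty with he | ⟨c₀, hc₀⟩
    · simp [he]
    obtain ⟨-, -, -, s1, s2⟩ := hf c₀ (hPm c₀ hc₀).1 (hPm c₀ hc₀).2
    rw [Nat.card_eq_fintype_card, ← Finset.card_univ, ← Finset.card_map (Function.Embedding.subtype _)]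
    refine Finset.card_le_card_of_injOn (fun t => (f c₀)⁻¹ * t) (fun t ht => ?_) (fun u _ v _ huv => mul_left_cancel huv)
    obtain ⟨c, hc, rfl⟩ := Finset.mem_image.1 (Finset.mem_coe.1 ht)
    obtain ⟨-, -, -, e1, e2⟩ := hf c (hPm c hc).1 (hPm c hc).2
    refine Finset.mem_coe.2 (Finset.mem_map.2 ⟨⟨(f c₀)⁻¹ * f c, ?_, ?_⟩, Finset.mem_univ _, rfl⟩)
    · show ((f c₀)⁻¹ * f c) • a = a
      rw [mul_smul, e1, inv_smul_eq_iff, s1]
    · show ((f c₀)⁻¹ * f c) • b = b
      rw [mul_smul, e2, inv_smul_eq_iff, s2]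
  omega

end Cfsg.Agent.S0741
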