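import Cfsg.Statements.S0018
import Cfsg.Agent.Lib.Solvable.Fitting

set_option autoImplicit false
open Cfsg

namespace Cfsg.Agent.S0018

/-- A finite solvable group whose Sylow p-subgroups are abelian has p-length one: a Sylow p-subgroup together with the largest normal subgroup of order prime to p generates a normal subgroup. -/
theorem result {G : Type*} [Group G] [Finite G] [Group.IsSolvable G]
    (p : ℕ) [Fact p.Prime] (P : Sylow p G) (hP : IsMulCommutative P) :
    ((P : Subgroup G) ⊔ Cfsg.pPrimeCore p G).Normal := by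
  set O := Cfsg.pPrimeCore p G with hO
  have hOn : O.Normal := Cfsg.Agent.FittingCores.pPrimeCore_normal p
  have hp : p.Prime := Fact.out
  set P' := P.mapSurjective (QuotientGroup.mk'_surjective O) with hP'
  have hc : ∀ x ∈ (P' : Subgroup (G ⧸ O)),
      x ∈ Subgroup.centralizer (Cfsg.pCore p (G ⧸ O) : Set (G ⧸ O)) := by
    intro x hx
    rw [Subgroup.mem_centralizer_iff]
    intro y hy
    have hy' := Cfsg.Agent.FittingCores.pCore_le_sylow P' hy
    rw [hP', Sylow.coe_mapSurjective] at hx hy'
    obtain ⟨a, ha, rfl⟩ := hx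
    obtain ⟨b, hb, rfl⟩ := hy'
    rw [← map_mul, ← map_mul, setLike_mul_comm (s := (P : Subgroup G)) hb ha]
  have hle : (P' : Subgroup (G ⧸ O)) ≤ Cfsg.pCore p (G ⧸ O) := fun x hx =>
    Cfsg.Agent.FittingCores.centralizer_pCore_le hp
      (Cfsg.Agent.FittingCores.pPrimeCore_quotient_eq_bot p O hO) (hc x hx)
  have heq := le_antisymm hle (Cfsg.Agent.FittingCores.pCore_le_sylow P')
  have h1 : ((P' : Subgroup (G ⧸ O)).comap (QuotientGroup.mk' O)).Normal := by
    rw [heq]
    exact (Cfsg.Agent.FittingCores.pCore_normal p).comap _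
  rwa [hP', Sylow.coe_mapSurjective, Subgroup.comap_map_eq, QuotientGroup.ker_mk'] at h1

end Cfsg.Agent.S0018
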