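import Cfsg.Statements.S2065
import Cfsg.Agent.Lib.J1.Extra

set_option autoImplicit false
open Cfsg

namespace Cfsg.Agent.S2065

open Cfsg.Agent.J1 Cfsg.Spor Cfsg.Agent.J1Cert Cfsg.Agent.J1Mat

/-- The value of a word in an element of order seven and an involution. -/
def wv (r : ↥J1) : List ℕ → ↥J1
  | [] => 1
  | a :: l => X' ^ a * r * wv r l

theorem cd_wv (r : ↥J1) : ∀ l : List ℕ, (∀ a ∈ l, a < 7) → cd (wv r l) = letVal (cd r) l := by
  intro l
  induction l with
  | nil => intro _; exact cd_one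
  | cons a l ih =>
    intro h
    have ha : a < 7 := h a (by simp)
    rw [wv, cd_mul, cd_mul, ih (fun b hb => h b (by simp [hb])), cd_X_pow (ha.trans (by norm_num))]
    rfl

theorem map_wv (φ : MulAut ↥J1) (hX : φ X' = X') (r : ↥J1) (l : List ℕ) : φ (wv r l) = wv (φ r) l := by
  induction l with
  | nil => exact map_one φ
  | cons a l ih => rw [wv, map_mul, map_mul, map_pow, hX, ih, wv]

theorem Y_eq : Y' = wv T yLetters * X' ^ yTail := by
  obtain ⟨h1, h2, h3⟩ := yLetters_ok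
  rw [List.all_eq_true] at h1
  refine cd_injective ?_
  rw [cd_mul, cd_wv T _ (fun a ha => of_decide_eq_true (h1 a ha)), cd_X_pow (h2.trans (by norm_num)), cd_T, h3]
  exact cd_Y

theorem fix_T {φ : MulAut ↥J1} (hX : φ X' = X') {k : ℕ} (hk : k < 209)
    (hr : cd (φ T) = cjReps.getD k 0) : φ = 1 := by
  by_cases h0 : k = 0
  · subst h0
    rw [cjReps_zero.1, ← cd_T] at hr
    have hT : φ T = T := cd_injective hr
    have h : φ.toMonoidHom = MonoidHom.id ↥J1 := by
      refine MonoidHom.eq_of_eqOn_dense closure_gens ?_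
      rintro x (rfl | rfl)
      · exact hX
      · show φ Y' = Y'
        rw [Y_eq, map_mul, map_pow, hX, map_wv φ hX, hT]
    exact MulEquiv.ext fun x => DFunLike.congr_fun h x
  · exfalso
    have e := allFrom_spec (d := 0) cjTest_ok k (by rw [cjReps_zero.2]; exact hk)
    rw [zero_add, Bool.or_eq_true] at e
    rcases e with e | e
    · exact h0 (beq_iff_eq.mp e)
    rcases hl : cjTests.getD k ([], 0) with ⟨l, n⟩
    rw [hl] at e
    simp only [Bool.and_eq_true, List.all_eq_true, decide_eq_true_eq, bne_iff_ne] at e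
    obtain ⟨hl', hne⟩ := e
    apply hne
    have key : wv (φ T) l ^ n = 1 ↔ wv T l ^ n = 1 := by
      rw [← map_wv φ hX, ← map_pow, MulEquiv.map_eq_one_iff]
    have conv : ∀ r : ↥J1, Nat.beq (powN (letVal (cd r) l) n) idCode = true ↔ wv r l ^ n = 1 := fun r => by
      rw [← cd_wv r l hl', ← cd_pow, ← cd_one, Nat.beq_eq]
      exact cd_injective.eq_iff
    rw [← hr, ← cd_T]
    exact Bool.eq_iff_iff.mpr ((conv _).trans (key.trans (conv _).symm))

theorem X_pow_conj {j : ℕ} (hj : j % 7 ≠ 0) : ∃ g : ↥J1, X' ^ j = g * X' * g⁻¹ := by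
  have hn : el nWord * X' * (el nWord)⁻¹ = X' ^ 3 := by
    rw [mul_inv_eq_iff_eq_mul]
    refine cd_injective ?_
    simp only [cd_mul, cd_el, cd_X, cd_X_pow (show 3 < 8 by norm_num)]
    exact word_n
  have hit : ∀ i : ℕ, el nWord ^ i * X' * (el nWord ^ i)⁻¹ = X' ^ (3 ^ i) := by
    intro i
    induction i with
    | zero => simp
    | succ i ih =>
      rw [show el nWord ^ (i + 1) * X' * (el nWord ^ (i + 1))⁻¹ =
        el nWord * (el nWord ^ i * X' * (el nWord ^ i)⁻¹) * (el nWord)⁻¹ by rw [pow_succ']; group,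
        ih, ← conj_pow, hn, ← pow_mul, pow_succ']
  obtain ⟨i, hi⟩ : ∃ i < 6, 3 ^ i % 7 = j % 7 := by
    have : ∀ m < 7, m ≠ 0 → ∃ i < 6, 3 ^ i % 7 = m := by decide
    exact this _ (Nat.mod_lt _ (by norm_num)) hj
  refine ⟨el nWord ^ i, ?_⟩
  rw [hit i]
  exact pow_eq_pow_iff_modEq.mpr (orderOf_X'.symm ▸ hi.2.symm)

theorem orderOf_conj_X (φ : MulAut ↥J1) : ∃ g : ↥J1, φ X' = g * X' * g⁻¹ := by
  have : Fact (Nat.Prime 7) := ⟨by norm_num⟩
  have ho : orderOf (φ X') = 7 := by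
    rw [MulEquiv.orderOf_eq, orderOf_X']
  have hu : IsPGroup 7 (Subgroup.zpowers (φ X')) := by
    rw [IsPGroup.iff_card]
    exact ⟨1, by rw [Nat.card_zpowers, ho, pow_one]⟩
  obtain ⟨P, hP⟩ := hu.exists_le_sylow
  let Q : Sylow 7 ↥J1 := Sylow.ofCard (Subgroup.zpowers X') (by
    rw [Nat.card_zpowers, orderOf_X', card_J1, show (175560 : ℕ) = 7 ^ 1 * 25080 by norm_num,
      Nat.factorization_mul (by norm_num) (by norm_num), Finsupp.add_apply,
      Nat.Prime.factorization_pow (by norm_num : Nat.Prime 7), Finsupp.single_eq_same,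
      Nat.factorization_eq_zero_of_not_dvd (by norm_num : ¬ 7 ∣ 25080)]
    rfl)
  obtain ⟨g, hg⟩ := MulAction.exists_smul_eq ↥J1 Q P
  have hu' : φ X' ∈ (P : Subgroup ↥J1) := hP (Subgroup.mem_zpowers _)
  rw [← hg, Sylow.coe_subgroup_smul, Subgroup.mem_pointwise_smul_iff_inv_smul_mem] at hu'
  simp only [← map_inv, MulAut.smul_def, MulAut.conj_apply, inv_inv] at hu'
  have hm : g⁻¹ * φ X' * g ∈ Subgroup.zpowers X' := hu'
  rw [← mem_powers_iff_mem_zpowers, Submonoid.mem_powers_iff] at hm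
  obtain ⟨j, hj⟩ := hm
  have e : φ X' = g * X' ^ j * g⁻¹ := by rw [hj]; group
  have hj0 : j % 7 ≠ 0 := by
    intro h
    rw [← Nat.mod_add_div j 7, h, zero_add, pow_mul, X'_pow, one_pow, mul_one, mul_inv_cancel] at e
    rw [e, orderOf_one] at ho
    norm_num at ho
  obtain ⟨k, hk⟩ := X_pow_conj hj0
  exact ⟨g * k, by rw [e, hk]; group⟩


/-- The outer automorphism group of the Janko group J₁ (the group generated by two explicit 7 × 7 matrices over the integers modulo 11) is trivial: every automorphism is inner. -/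
theorem result : Nat.card (Cfsg.Out ↥Cfsg.Spor.J1) = 1 := by
  have h : Inn ↥J1 = ⊤ := by
    rw [eq_top_iff]
    intro φ _
    obtain ⟨g, hg⟩ := orderOf_conj_X φ
    let φ₁ : MulAut ↥J1 := (MulAut.conj g)⁻¹ * φ
    have h1 : φ₁ X' = X' := by
      show (MulAut.conj g)⁻¹ (φ X') = X'
      rw [hg, ← map_inv, MulAut.conj_apply]
      group
    have hT1 : φ₁ T ≠ 1 := fun e => T_ne_one ((MulEquiv.map_eq_one_iff φ₁).mp e)
    have hT2 : φ₁ T * φ₁ T = 1 := by rw [← map_mul, T_sq, map_one]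
    obtain ⟨u, hu⟩ := involution_conj hT1 hT2
    obtain ⟨k, hk, i, -, r, hr, hui⟩ := inList_conj u
    let φ₂ : MulAut ↥J1 := (MulAut.conj (X' ^ i))⁻¹ * φ₁
    have h2 : φ₂ X' = X' := by
      show (MulAut.conj (X' ^ i))⁻¹ (φ₁ X') = X'
      rw [h1, ← map_inv, MulAut.conj_apply]
      group
    have h3 : φ₂ T = r := by
      show (MulAut.conj (X' ^ i))⁻¹ (φ₁ T) = r
      rw [hu, hui, ← map_inv, MulAut.conj_apply]
      group
    have h4 : φ₂ = 1 := fix_T h2 hk (by rw [h3, hr])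
    refine ⟨g * X' ^ i, ?_⟩
    rw [map_mul, show φ = MulAut.conj g * (MulAut.conj (X' ^ i) * φ₂) by
      simp only [φ₂, φ₁]; group, h4, mul_one]
  show Nat.card (MulAut ↥J1 ⧸ Inn ↥J1) = 1
  rw [← Subgroup.index_eq_card, h, Subgroup.index_top]

end Cfsg.Agent.S2065
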