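import Cfsg.Statements.S2037
import Cfsg.Agent.Lib.SchurMult.MathieuHom
import Cfsg.Agent.Lib.SchurMult.M23P2Cert
import Cfsg.Agent.Lib.SchurMult.M23P3Cert
import Cfsg.Agent.Lib.SchurMult.M23P5Cert
import Cfsg.Agent.Lib.SchurMult.M23P7Cert
import Cfsg.Agent.Lib.SchurMult.M23P11Cert
import Cfsg.Agent.Lib.SchurMult.M23P23Cert
-- import your own Cfsg.Agent.* helpers here

set_option autoImplicit false
open Cfsg

namespace Cfsg.Agent.S2037

/-- The Schur multiplier of the Mathieu group M₂₃ (the stabiliser of a point in the automorphism group of the length-24 binary code) is trivial; here the Schur multiplier is described through stem extensions, as in the definitions: surjective homomorphisms onto the group from a finite group, whose kernel is central in that finite group and contained in that finite group's commutator subgroup. -/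
theorem result : Cfsg.HasCyclicSchurMultiplier ↥Cfsg.Spor.M23 1 := by
  have hc : PermCert.checkCert 5 24 Golay.Cert.m23Gens Golay.Cert.m23Derived Golay.Cert.m23Levels = true := by
    have h := Golay.m23_ok
    simp only [Golay.stabCertOK, Bool.and_eq_true] at h
    exact h.1.1.1
  refine SchurMult.trivial_of (SchurMult.ptHom _) (SchurMult.ptHom_injective _) (SchurMult.ptHom_range ((Golay.stabCert_spec Golay.m23_ok).1.trans (Golay.stabIn_m23.trans Golay.sporM23_eq.symm)))
    [(79695, 1), (1133440, 1), (2040192, 1), (1457280, 1), (927360, 1), (443520, 1)] ?_ (by decide) (by decide)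
  intro i hi
  simp only [List.mem_cons, List.not_mem_nil, or_false] at hi
  rcases hi with rfl | rfl | rfl | rfl | rfl | rfl
  · exact SchurMult.certified_of hc SchurMult.m23P2_base SchurMult.m23P2_rows SchurMult.m23P2_rels SchurMult.m23P2_derived SchurMult.m23P2_orders SchurMult.m23P2_ext
  · exact SchurMult.certified_of hc SchurMult.m23P3_base SchurMult.m23P3_rows SchurMult.m23P3_rels SchurMult.m23P3_derived SchurMult.m23P3_orders SchurMult.m23P3_ext
  · exact SchurMult.certified_of hc SchurMult.m23P5_base SchurMult.m23P5_rows SchurMult.m23P5_rels SchurMult.m23P5_derived SchurMult.m23P5_orders SchurMult.m23P5_ext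
  · exact SchurMult.certified_of hc SchurMult.m23P7_base SchurMult.m23P7_rows SchurMult.m23P7_rels SchurMult.m23P7_derived SchurMult.m23P7_orders SchurMult.m23P7_ext
  · exact SchurMult.certified_of hc SchurMult.m23P11_base SchurMult.m23P11_rows SchurMult.m23P11_rels SchurMult.m23P11_derived SchurMult.m23P11_orders SchurMult.m23P11_ext
  · exact SchurMult.certified_of hc SchurMult.m23P23_base SchurMult.m23P23_rows SchurMult.m23P23_rels SchurMult.m23P23_derived SchurMult.m23P23_orders SchurMult.m23P23_ext

end Cfsg.Agent.S2037
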