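import Cfsg.Statements.S4690
import Cfsg.Agent.Lib.BrauerPairs.NilpotentMain

set_option autoImplicit false
open Cfsg

namespace Cfsg.Agent.S4690

/-- Fix a prime p and a maximal ideal M of the algebraic integers containing p, and a nilpotent p-block B of the finite group G with defect group P. Then there is a bijection from B onto the irreducible characters of P carrying the height of each χ ∈ B to the exponent of p in the degree of its image. -/
theorem result {G : Type*} [Group G] [Fintype G] (p : ℕ) [Fact p.Prime] (M : Ideal Cfsg.AlgInt) (hM : Cfsg.IsPModular p M) (B : Set (Cfsg.IrrCharacter G)) (hnil : Cfsg.IsNilpotentBlock p M B) (P : Subgroup G) (hP : Cfsg.IsDefectGroup p M B P) : ∃ Φ : B ≃ Cfsg.IrrCharacter P, ∀ χ : B, Cfsg.blockHeight p B ((χ : Cfsg.IrrCharacter G) : G → ℂ) = (Cfsg.charDegree ((Φ χ : Cfsg.IrrCharacter P) : P → ℂ)).factorization p := by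
  classical
  haveI := Cfsg.Agent.Blocks.IsPModular.isPrime hM
  haveI : CharP (Cfsg.Agent.Blocks.resField M) p := Cfsg.Agent.Blocks.resField_charP hM
  obtain ⟨hB, -⟩ := (Cfsg.Agent.BrauerPairs.isNilpotentBlock_iff hM).1 hnil
  have hD := (Cfsg.Agent.BrauerPairs.isDefectGroup_iff hB P).1 hP
  obtain ⟨e, he⟩ := Cfsg.Agent.BrauerPairs.exists_pairOf_defGrp
    (Cfsg.Agent.BrauerPairs.isBlk_Ek hB) hD
  obtain ⟨χ₀, hχ₀, h0, Φ, hΦB, hinj, hreg, hsurj⟩ :=
    Cfsg.Agent.NilpotentMain.exists_nilpotent_structure hM hnil (a := (P, e)) ⟨he, hD⟩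
  refine ⟨(Equiv.ofBijective (fun θ => (⟨Φ θ, hΦB θ⟩ : B))
    ⟨fun θ θ' h => hinj (congrArg Subtype.val h), fun χ => ?_⟩).symm, fun χ => ?_⟩
  · obtain ⟨θ, hθ⟩ := hsurj χ.1 χ.2
    exact ⟨θ, Subtype.ext hθ⟩
  · obtain ⟨θ, rfl⟩ := (Equiv.ofBijective (fun θ => (⟨Φ θ, hΦB θ⟩ : B))
      ⟨fun θ θ' h => hinj (congrArg Subtype.val h), fun χ => by
        obtain ⟨θ, hθ⟩ := hsurj χ.1 χ.2
        exact ⟨θ, Subtype.ext hθ⟩⟩).surjective χ
    rw [Equiv.symm_apply_apply]
    exact Cfsg.Agent.NilpotentMain.height_eq hM hB hχ₀ (hΦB θ) h0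
      (hreg θ 1 (by simp [(Fact.out : p.Prime).ne_one]))

end Cfsg.Agent.S4690
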