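import Cfsg.Statements.S0606
import Cfsg.Agent.Lib.PLocal.OmegaOne
import Cfsg.Agent.Lib.Solvable.Basic

set_option autoImplicit false
set_option linter.style.haveILetI false
open Cfsg

namespace Cfsg.Agent.S0606
open scoped Pointwise commutatorElement
open Cfsg.Agent
open Cfsg.Agent

/-- Elementary abelian p-subgroups of maximal order are best offenders on any normal elementary abelian p-subgroup. -/
theorem result {G : Type*} [Group G] [Finite G] {p : ℕ} [Fact p.Prime] (V : Subgroup G) [V.Normal] (hV : Cfsg.IsElementaryAbelian p V) (A : Subgroup G) (hA : A ∈ Cfsg.maxElementaryAbelianSubgroups p G) : Cfsg.IsBestOffenderOn p V A := by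
  obtain ⟨hAe, hAmax⟩ := hA
  refine ⟨fun B hB => ?_, ?_, fun a ha => by rw [hAe.2 a ha]; exact Subgroup.one_mem _⟩
  · set CB := V ⊓ Subgroup.centralizer (B : Set G) with hCB
    have hBe := Thompson.isElementaryAbelian_mono hB hAe
    have hCe : Cfsg.IsElementaryAbelian p CB := Thompson.isElementaryAbelian_mono inf_le_left hV
    have hBC : B ≤ Subgroup.centralizer (CB : Set G) := fun b hb c hc => (hc.2 b hb).symm
    have hEA : Cfsg.IsElementaryAbelian p (CB ⊔ B) := by
      have hc : ∀ a ∈ CB ⊔ B, ∀ b ∈ CB ⊔ B, a * b = b * a := by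
        have h : IsMulCommutative (Subgroup.closure ((CB : Set G) ∪ (B : Set G))) := by
          refine Subgroup.isMulCommutative_closure ?_
          rintro a (ha | ha) b (hb | hb)
          · exact Thompson.commute_of_isElementaryAbelian hCe ha hb
          · exact hBC hb a ha
          · exact (hBC ha b hb).symm
          · exact Thompson.commute_of_isElementaryAbelian hBe ha hb
        rw [Subgroup.closure_union, Subgroup.closure_eq, Subgroup.closure_eq] at h
        exact fun a ha b hb => congrArg Subtype.val (h.is_comm.comm ⟨a, ha⟩ ⟨b, hb⟩)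
      refine ⟨⟨⟨fun a b => Subtype.ext (hc a a.2 b b.2)⟩⟩, fun x hx => ?_⟩
      have hle : CB ⊔ B ≤ Cfsg.omegaOne p (CB ⊔ B) := sup_le
        (fun a ha => OmegaOne.mem (Subgroup.mem_sup_left ha) (hCe.2 a ha))
        (fun a ha => OmegaOne.mem (Subgroup.mem_sup_right ha) (hBe.2 a ha))
      exact OmegaOne.pow_eq_one hc (hle hx)
    have hI : CB ⊓ B ≤ V ⊓ Subgroup.centralizer (A : Set G) := fun x hx =>
      ⟨hx.1.1, fun a ha => Thompson.commute_of_isElementaryAbelian hAe ha (hB hx.2)⟩
    have hcard := SolvBasic.card_sup_mul_card_inf (H := B) (N := CB)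
      (hBC.trans (Subgroup.centralizer_le_normalizer _))
    calc Nat.card B * Nat.card CB = _ := (Nat.mul_comm _ _).trans hcard.symm
      _ ≤ _ := Nat.mul_le_mul (hAmax _ hEA)
        (Nat.le_of_dvd Nat.card_pos (Subgroup.card_dvd_of_le hI))
  · rw [Subgroup.commutator_le]
    intro a ha b hb
    rw [commutatorElement_eq_one_iff_mul_comm.2 (Thompson.commute_of_isElementaryAbelian hAe ha hb)]
    exact Subgroup.one_mem _


end Cfsg.Agent.S0606
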