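import Cfsg.Statements.S0608
import Cfsg.Agent.Lib.PLocal.OmegaOne
import Cfsg.Agent.Lib.Transfer.Fusion

set_option autoImplicit false
set_option linter.style.haveILetI false
open Cfsg

namespace Cfsg.Agent.S0608
open scoped Pointwise commutatorElement
open Cfsg.Agent
open Cfsg.Agent
open scoped Pointwise

theorem normal_iSup {G : Type*} [Group G] [Finite G] {p : ℕ} [Fact p.Prime] :
    (⨆ S : Sylow p G, Cfsg.omegaOne p ((S : Subgroup G) ⊓
      Subgroup.centralizer ((S : Subgroup G) : Set G))).Normal := by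
  refine ⟨fun x hx g => ?_⟩
  have hmap : (⨆ S : Sylow p G, Cfsg.omegaOne p ((S : Subgroup G) ⊓
      Subgroup.centralizer ((S : Subgroup G) : Set G))).map (MulAut.conj g).toMonoidHom ≤
      ⨆ S : Sylow p G, Cfsg.omegaOne p ((S : Subgroup G) ⊓
        Subgroup.centralizer ((S : Subgroup G) : Set G)) := by
    rw [Subgroup.map_iSup]
    refine iSup_le fun S => ?_
    rw [OmegaOne.map_center _ (MulEquiv.injective _).injOn]
    refine le_trans (le_of_eq ?_) (le_iSup _ (g • S))
    rfl
  exact hmap ⟨x, hx, rfl⟩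


/-- With trivial p'-core, Thompson factorizability is equivalent to J(G) centralizing the subgroup generated by all Ω₁(Z(S)), S Sylow. -/
theorem result {G : Type*} [Group G] [Finite G] {p : ℕ} [Fact p.Prime] (hO : Cfsg.pPrimeCore p G = ⊥) : Cfsg.IsThompsonFactorizable p G ↔ Cfsg.thompsonSubgroup p G ≤ Subgroup.centralizer ((⨆ S : Sylow p G, Cfsg.omegaOne p (((S : Subgroup G)) ⊓ Subgroup.centralizer ((S : Subgroup G) : Set G)) : Subgroup G) : Set G) := by
  haveI := normal_iSup (G := G) (p := p)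
  set V := ⨆ S : Sylow p G, Cfsg.omegaOne p ((S : Subgroup G) ⊓
    Subgroup.centralizer ((S : Subgroup G) : Set G)) with hV
  constructor
  · intro hf
    rw [OmegaOne.thompsonSubgroup_eq_iSup]
    refine iSup_le fun S => ?_
    rw [Subgroup.le_centralizer_iff]
    refine iSup_le fun T => ?_
    obtain ⟨g, rfl⟩ := MulAction.exists_smul_eq G S T
    obtain ⟨x, hx, c, hc, n, hn, he⟩ := hf S g⁻¹
    rw [hO, Subgroup.mem_bot] at hx
    rw [hx, one_mul] at he
    set Z := Cfsg.omegaOne p ((S : Subgroup G) ⊓ Subgroup.centralizer ((S : Subgroup G) : Set G))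
    have hJZ : Cfsg.thompsonSubgroupOf p (S : Subgroup G) ≤ Subgroup.centralizer (Z : Set G) :=
      (Thompson.thompsonSubgroupOf_le p _).trans
        (Subgroup.le_centralizer_iff.1 (OmegaOne.le_centralizer_center p _))
    intro z hz j hj
    have hz' : z ∈ Z.map (MulAut.conj g).toMonoidHom := by
      rw [OmegaOne.map_center _ (MulEquiv.injective _).injOn]
      exact hz
    obtain ⟨w, hw, rfl⟩ := hz'
    have h1 : n * j * n⁻¹ ∈ Cfsg.thompsonSubgroupOf p (S : Subgroup G) :=
      (Subgroup.mem_normalizer_iff.1 hn j).1 hj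
    have h2 : w * (n * j * n⁻¹) = n * j * n⁻¹ * w := hJZ h1 w hw
    have h3 : c⁻¹ * w * c = w := by
      rw [mul_assoc, hc w hw, inv_mul_cancel_left]
    have hg : g = n⁻¹ * c⁻¹ := by rw [← inv_inv g, he, mul_inv_rev]
    simp only [MulEquiv.coe_toMonoidHom, MulAut.conj_apply, hg]
    calc j * (n⁻¹ * c⁻¹ * w * (n⁻¹ * c⁻¹)⁻¹) = j * (n⁻¹ * (c⁻¹ * w * c) * n) := by group
      _ = n⁻¹ * ((n * j * n⁻¹) * w) * n := by rw [h3]; group
      _ = n⁻¹ * (w * (n * j * n⁻¹)) * n := by rw [h2]
      _ = n⁻¹ * w * n * j := by group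
      _ = _ := by conv_lhs => rw [← h3]
                  group
  · intro hJ S g
    refine ⟨1, Subgroup.one_mem _, ?_⟩
    set C := Subgroup.centralizer (V : Set G) with hC
    haveI : C.Normal := Subgroup.normal_centralizer
    obtain ⟨R, hR⟩ := PBasic.exists_sylow_subgroupOf S C
    have hRmap : (R : Subgroup C).map C.subtype = (S : Subgroup G) ⊓ C := by
      rw [hR, Subgroup.subgroupOf_map_subtype]
    have hJS : Cfsg.thompsonSubgroupOf p (S : Subgroup G) ≤ C :=
      le_trans (le_trans (le_iSup (fun S : Sylow p G => Cfsg.thompsonSubgroupOf p (S : Subgroup G)) S)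
        OmegaOne.thompsonSubgroup_eq_iSup.ge) hJ
    have hJeq := Thompson.thompsonSubgroupOf_eq_of_le
      (le_inf (Thompson.thompsonSubgroupOf_le p _) hJS) (inf_le_left : (S : Subgroup G) ⊓ C ≤ _)
    have hfr := Sylow.normalizer_sup_eq_top R
    rw [hRmap] at hfr
    have hg : g ∈ C ⊔ Subgroup.normalizer ((((S : Subgroup G) ⊓ C : Subgroup G)) : Set G) := by
      rw [sup_comm, hfr]; exact Subgroup.mem_top g
    rw [← SetLike.mem_coe, Subgroup.normal_mul] at hg
    obtain ⟨c, hc, n, hn, rfl⟩ := Set.mem_mul.1 hg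
    refine ⟨c, Subgroup.centralizer_le (le_iSup (fun S : Sylow p G => Cfsg.omegaOne p
      ((S : Subgroup G) ⊓ Subgroup.centralizer ((S : Subgroup G) : Set G))) S) hc, n, ?_, by rw [one_mul]⟩
    rw [← hJeq]
    exact Thompson.normalizer_le_normalizer_thompsonSubgroupOf p _ hn


end Cfsg.Agent.S0608
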