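import Cfsg.Statements.S4014
import Mathlib

set_option autoImplicit false
set_option linter.style.haveILetI false

namespace Cfsg.Agent.S4014

open scoped commutatorElement

variable {G : Type*} [Group G]

lemma succ_le_map {K : Subgroup G} (hK : commutator G ≤ K) : ∀ j,
    derivedSeries G (j + 1) ≤ (derivedSeries K j).map K.subtype := by
  intro j
  induction j with
  | zero =>
    rw [derivedSeries_zero, ← MonoidHom.range_eq_map, Subgroup.range_subtype]
    simpa [commutator_def] using hK
  | succ j ih =>
    rw [derivedSeries_succ, derivedSeries_succ K j, Subgroup.map_commutator]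
    exact Subgroup.commutator_mono ih ih

lemma map_le_succ {K : Subgroup G} (hK : K ≤ commutator G) : ∀ j,
    (derivedSeries K j).map K.subtype ≤ derivedSeries G (j + 1) := by
  intro j
  induction j with
  | zero =>
    rw [derivedSeries_zero, ← MonoidHom.range_eq_map, Subgroup.range_subtype]
    simpa [commutator_def] using hK
  | succ j ih =>
    rw [derivedSeries_succ, derivedSeries_succ, Subgroup.map_commutator]
    exact Subgroup.commutator_mono ih ih

/-- A subgroup of index `p ^ b` of a `p`-group contains the `b`-th derived subgroup. -/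
lemma derived_le (p : ℕ) [hp : Fact p.Prime] : ∀ (b : ℕ) {G : Type*} [Group G] [Finite G],
    IsPGroup p G → ∀ H : Subgroup G, H.index = p ^ b → derivedSeries G b ≤ H := by
  intro b
  induction b with
  | zero =>
    intro G _ _ _ H hH
    rw [pow_zero, Subgroup.index_eq_one] at hH
    rw [hH]; exact le_top
  | succ b ih =>
    intro G _ _ hG H hH
    obtain ⟨n, hn⟩ := IsPGroup.iff_card.1 hG
    obtain ⟨a, ha⟩ := IsPGroup.iff_card.1 (hG.to_subgroup H)
    have hna : n = a + (b + 1) := by
      have h1 := H.card_mul_index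
      rw [ha, hH, hn, ← pow_add] at h1
      exact (Nat.pow_right_injective hp.out.two_le h1).symm
    obtain ⟨M, hM, hHM⟩ := Sylow.exists_subgroup_card_pow_prime_le (G := G) p (n := a) (m := n - 1)
      (hn ▸ pow_dvd_pow p (Nat.sub_le n 1)) H ha (by omega)
    have hMi : M.index = p := by
      have h1 := M.card_mul_index
      rw [hM, hn] at h1
      have h2 : p ^ n = p ^ (n - 1) * p := by rw [← pow_succ]; congr 1; omega
      exact Nat.eq_of_mul_eq_mul_left (pow_pos hp.out.pos _) (h1.trans h2)
    haveI hMn : M.Normal := by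
      refine Subgroup.normal_of_index_eq_minFac_card ?_
      rw [hMi, hn, Nat.pow_minFac (by omega), hp.out.minFac_eq]
    have hcomm : commutator G ≤ M := by
      haveI : IsCyclic (G ⧸ M) := isCyclic_of_prime_card (p := p) (by rw [← Subgroup.index_eq_card, hMi])
      rw [commutator_def, Subgroup.commutator_le]
      intro u _ v _
      rw [← QuotientGroup.eq_one_iff, ← QuotientGroup.mk'_apply, map_commutatorElement]
      exact commutatorElement_eq_one_iff_mul_comm.2 (IsCyclic.commGroup.mul_comm _ _)
    refine (succ_le_map hcomm b).trans ?_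
    have hidx : (H.subgroupOf M).index = p ^ b := by
      have h1 : H.relIndex M * M.index = H.index := Subgroup.relIndex_mul_index hHM
      rw [hMi, hH, pow_succ] at h1
      exact Nat.eq_of_mul_eq_mul_right hp.out.pos h1
    refine (Subgroup.map_mono (ih (hG.to_subgroup M) _ hidx)).trans ?_
    rw [Subgroup.subgroupOf_map_subtype]
    exact inf_le_left

lemma derived_bot (p : ℕ) [hp : Fact p.Prime] {n : ℕ}
    (P : Subgroup (Equiv.Perm (Fin n))) (hP : IsPGroup p P) :
    derivedSeries P (Nat.log p n) = ⊥ := by
  rw [eq_bot_iff]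
  intro g hg
  refine Subgroup.mem_bot.2 (Subtype.ext (Equiv.ext fun x => ?_))
  obtain ⟨b, hb⟩ := hP.card_orbit x
  have h1 : p ^ b ≤ n := by
    rw [← hb]
    exact (Nat.card_le_card_of_injective _ Subtype.val_injective).trans_eq (Nat.card_fin n)
  have h2 : (MulAction.stabilizer P x).index = p ^ b := by
    rw [MulAction.index_stabilizer, ← Nat.card_coe_set_eq, hb]
  have h3 : g ∈ MulAction.stabilizer P x :=
    derived_le p b hP _ h2 (derivedSeries_antitone P (Nat.le_log_of_pow_le hp.out.one_lt h1) hg)
  exact h3

lemma comm_left {D Q : Type*} [Group D] [Group Q] (g : Q → D) (q : Q) :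
    (⁅(⟨g, 1⟩ : D ≀ᵣ Q), (RegularWreathProduct.inl q : D ≀ᵣ Q)⁆).left 1 = g 1 * (g q⁻¹)⁻¹ := by
  simp [commutatorElement_def]

lemma wreath_ne_bot (Q : Type) [Group Q] [Finite Q] [Nontrivial Q] (hQ : ∀ a b : Q, a * b = b * a) :
    ∀ k, derivedSeries (IteratedWreathProduct Q (k + 1)) k ≠ ⊥ := by
  intro k
  induction k with
  | zero =>
    rw [derivedSeries_zero]
    change (⊤ : Subgroup (IteratedWreathProduct Q 0 ≀ᵣ Q)) ≠ ⊥
    intro h
    obtain ⟨q, hq⟩ := exists_ne (1 : Q)
    have h1 : (RegularWreathProduct.inl q : IteratedWreathProduct Q 0 ≀ᵣ Q) ∈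
        (⊤ : Subgroup (IteratedWreathProduct Q 0 ≀ᵣ Q)) := Subgroup.mem_top _
    rw [h, Subgroup.mem_bot] at h1
    exact hq (congrArg RegularWreathProduct.right h1)
  | succ k ih =>
    set D := IteratedWreathProduct Q (k + 1) with hD
    set W := (D ≀ᵣ Q) with hW
    change derivedSeries W (k + 1) ≠ ⊥
    set K := commutator W with hK
    have hright : ∀ w ∈ K, RegularWreathProduct.right w = 1 := by
      intro w hw
      have : K ≤ (RegularWreathProduct.rightHom : W →* Q).ker := by
        rw [hK, commutator_def, Subgroup.commutator_le]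
        intro u _ v _
        rw [MonoidHom.mem_ker, map_commutatorElement]
        exact commutatorElement_eq_one_iff_mul_comm.2 (hQ _ _)
      exact this hw
    let ev : K →* D :=
      { toFun := fun w => (w : W).left 1
        map_one' := rfl
        map_mul' := fun a b => by
          show ((a : W) * (b : W)).left 1 = _
          rw [RegularWreathProduct.mul_left, Pi.mul_apply, hright _ a.2, inv_one, one_mul] }
    have hsur : Function.Surjective ev := by
      classical
      intro d
      obtain ⟨q, hq⟩ := exists_ne (1 : Q)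
      let f : W := ⟨Function.update 1 1 d, 1⟩
      refine ⟨⟨⁅f, (RegularWreathProduct.inl q : W)⁆,
        Subgroup.commutator_mem_commutator (Subgroup.mem_top _) (Subgroup.mem_top _)⟩, ?_⟩
      show (⁅f, (RegularWreathProduct.inl q : W)⁆).left 1 = d
      refine (comm_left (Function.update (1 : Q → D) 1 d) q).trans ?_
      rw [Function.update_self, Function.update_of_ne (inv_ne_one.2 hq), Pi.one_apply, inv_one, mul_one]
    intro hbot
    apply ih
    rw [← map_derivedSeries_eq hsur k]
    have h2 : derivedSeries K k = ⊥ := by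
      have h3 := map_le_succ (le_refl (commutator W)) k
      rw [hbot, le_bot_iff] at h3
      exact (Subgroup.map_eq_bot_iff_of_injective _ K.subtype_injective).1 h3
    rw [h2, Subgroup.map_bot]

end Cfsg.Agent.S4014


set_option autoImplicit false
open Cfsg

namespace Cfsg.Agent.S4014

/-- Let p be a prime, n ≥ 1, and P a Sylow p-subgroup of the symmetric group on n letters. Then the derived length of P is exactly k = ⌊log_p n⌋ (the largest k with p^k ≤ n): the k-th derived subgroup of P is trivial and, when k ≥ 1, the (k−1)-st is not. -/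
theorem result (p : ℕ) [Fact p.Prime] (n : ℕ) (hn : 1 ≤ n) (P : Sylow p (Equiv.Perm (Fin n))) : derivedSeries ↥(P : Subgroup (Equiv.Perm (Fin n))) (Nat.log p n) = ⊥ ∧ (1 ≤ Nat.log p n → derivedSeries ↥(P : Subgroup (Equiv.Perm (Fin n))) (Nat.log p n - 1) ≠ ⊥) := by
  classical
  refine ⟨derived_bot p _ P.isPGroup', fun hk => ?_⟩
  obtain ⟨k, hk'⟩ : ∃ k, Nat.log p n = k + 1 := ⟨Nat.log p n - 1, by omega⟩
  rw [hk', Nat.add_sub_cancel]
  set Q := Multiplicative (ZMod p)
  haveI : Nontrivial Q := inferInstanceAs (Nontrivial (ZMod p))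
  have hne := wreath_ne_bot Q (fun a b => mul_comm a b) k
  have hQc : Nat.card Q = p := by
    show Nat.card (ZMod p) = p
    exact Nat.card_zmod p
  have hcard : Nat.card (Fin (k + 1) → Q) = p ^ (k + 1) := by rw [Nat.card_fun, Nat.card_fin, hQc]
  have hle : p ^ (k + 1) ≤ n := hk' ▸ Nat.pow_log_le_self p (by omega)
  let ι : (Fin (k + 1) → Q) ↪ Fin n :=
    (Finite.equivFinOfCardEq hcard).toEmbedding.trans (Fin.castLEEmb hle)
  let F : IteratedWreathProduct Q (k + 1) →* Equiv.Perm (Fin n) :=
    (Equiv.Perm.viaEmbeddingHom ι).comp (iteratedWreathToPermHom Q (k + 1))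
  have hF : Function.Injective F :=
    (Equiv.Perm.viaEmbeddingHom_injective ι).comp (iteratedWreathToPermHomInj Q (k + 1))
  have hWp : IsPGroup p (IteratedWreathProduct Q (k + 1)) :=
    IsPGroup.of_card (n := ∑ i ∈ Finset.range (k + 1), p ^ i) (by rw [IteratedWreathProduct.card, hQc])
  obtain ⟨R, hR⟩ := (hWp.of_equiv (MonoidHom.ofInjective hF)).exists_le_sylow
  intro hbot
  apply hne
  set e := Sylow.equiv R P
  let F' : IteratedWreathProduct Q (k + 1) →* (P : Subgroup (Equiv.Perm (Fin n))) :=
    e.toMonoidHom.comp ((Subgroup.inclusion hR).comp (MonoidHom.ofInjective hF).toMonoidHom)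
  have hF' : Function.Injective F' := e.injective.comp
    ((Subgroup.inclusion_injective hR).comp (MonoidHom.ofInjective hF).injective)
  have h := map_derivedSeries_le_derivedSeries F' k
  rw [hbot, le_bot_iff] at h
  exact (Subgroup.map_eq_bot_iff_of_injective _ hF').1 h

end Cfsg.Agent.S4014
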