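import Cfsg.Statements.S0132
import Cfsg.Agent.Lib.Transfer.Fusion
import Cfsg.Agent.Lib.Transfer.Hall
import Cfsg.Agent.Lib.PLocal.FixedPointFree

set_option autoImplicit false
set_option linter.style.haveILetI false
open Cfsg

namespace Cfsg.Agent.S0132
open scoped Pointwise commutatorElement
open Cfsg.Agent
open Cfsg.Agent
open scoped Pointwise commutatorElement

theorem exists_bad {G : Type*} [Group G] [Finite G] {p : ℕ} [hp : Fact p.Prime]
    (h1 : ¬ Cfsg.HasNormalPComplement p G) :
    ∃ (D : Subgroup G) (g : G) (q k : ℕ), IsPGroup p D ∧ g ∈ Subgroup.normalizer (D : Set G) ∧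
      q.Prime ∧ q ≠ p ∧ orderOf g = q ^ k ∧ g ∉ Subgroup.centralizer (D : Set G) := by
  classical
  by_contra hcon
  push Not at hcon
  refine h1 (Fusion.hasNormalPComplement_of_frobenius fun D hD g hg hgo => ?_)
  -- reduce to the primary parts
  suffices h : ∀ m : ℕ, ∀ x : G, orderOf x = m → x ∈ Subgroup.normalizer (D : Set G) → m.Coprime p →
      x ∈ Subgroup.centralizer (D : Set G) from h _ g rfl hg hgo
  intro m
  induction m using Nat.recOnPosPrimePosCoprime with
  | prime_pow q k hq hk =>
    intro x hx hxn hxc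
    refine hcon D x q k hD hxn hq (fun h => ?_) hx
    rw [h, Nat.coprime_pow_left_iff hk, Nat.coprime_self] at hxc
    exact hp.out.ne_one hxc
  | zero => intro x hx; exact absurd hx (orderOf_pos x).ne'
  | one =>
    intro x hx _ _
    rw [orderOf_eq_one_iff] at hx
    rw [hx]; exact one_mem _
  | coprime a b ha hb hab iha ihb =>
    intro x hx hxn hxc
    obtain ⟨h3, h4⟩ := (Nat.coprime_mul_iff_left.1 hxc)
    have e : x = (x ^ b) ^ (Nat.gcdA b a) * (x ^ a) ^ (Nat.gcdB b a) := by
      rw [← zpow_natCast, ← zpow_natCast, ← zpow_mul, ← zpow_mul, ← zpow_add, ← Nat.gcd_eq_gcd_ab,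
        Nat.Coprime.gcd_eq_one hab.symm, Nat.cast_one, zpow_one]
    rw [e]
    refine Subgroup.mul_mem _ (Subgroup.zpow_mem _ (iha _ ?_ (Subgroup.pow_mem _ hxn b) h3) _)
      (Subgroup.zpow_mem _ (ihb _ ?_ (Subgroup.pow_mem _ hxn a) h4) _)
    · rw [orderOf_pow' x (by omega : b ≠ 0), hx, Nat.gcd_mul_left_left, Nat.mul_div_cancel _ (by omega)]
    · rw [orderOf_pow' x (by omega : a ≠ 0), hx, Nat.gcd_mul_right_left, Nat.mul_div_cancel_left _ (by omega)]


/-- A minimal non-p-nilpotent finite group is a minimal non-nilpotent group with a normal Sylow p-subgroup. -/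
theorem result {G : Type*} [Group G] [Finite G] {p : ℕ} [Fact p.Prime] (h1 : ¬ Cfsg.HasNormalPComplement p G) (h2 : ∀ H : Subgroup G, H ≠ ⊤ → Cfsg.HasNormalPComplement p H) : (∀ H : Subgroup G, H ≠ ⊤ → Group.IsNilpotent H) ∧ ¬ Group.IsNilpotent G ∧ ∀ P : Sylow p G, (P : Subgroup G).Normal := by
  have hpr := (Fact.out : p.Prime)
  obtain ⟨D, g, q, k, hD, hgn, hq, hqp, hgq, hgc⟩ := exists_bad h1
  haveI := Fact.mk hq
  have hgco : (orderOf g).Coprime p := by
    rw [hgq]; exact Nat.Coprime.pow_left k ((Nat.coprime_primes hq hpr).2 hqp)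
  set M := D ⊔ Subgroup.zpowers g with hM
  have hMtop : M = ⊤ := by
    by_contra hne
    have hnpc := h2 M hne
    apply hgc
    have hsub : (D.subgroupOf M) ≤ ⊤ := le_top
    rw [Subgroup.mem_centralizer_iff]
    intro d hd
    have hgM : g ∈ M := Subgroup.mem_sup_right (Subgroup.mem_zpowers g)
    have := Fusion.mem_centralizer_of_hasNormalPComplement (Q := D.subgroupOf M)
      (hD.comap_subtype) (PBasic.hasNormalPComplement_subgroup _ hnpc) (g := (⟨g, hgM⟩ : M))
      (by
        rw [← Subgroup.subgroupOf_normalizer_eq le_sup_left]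
        exact hgn)
      (by rwa [Subgroup.orderOf_mk])
    exact congrArg Subtype.val (this ⟨d, Subgroup.mem_sup_left hd⟩ hd)
  haveI hDn : D.Normal := Subgroup.normalizer_eq_top_iff.1 (top_le_iff.1
    (hMtop ▸ sup_le Subgroup.le_normalizer (Subgroup.zpowers_le.2 hgn)))
  have hidx : D.index ∣ q ^ k := by
    rw [← Subgroup.relIndex_top_right, ← hMtop, hM, sup_comm, Subgroup.relIndex_sup_right, ← hgq,
      ← Nat.card_zpowers]
    exact Subgroup.relIndex_dvd_card _ _
  have hPD : ∀ P : Sylow p G, (P : Subgroup G) = D := by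
    intro P
    have hnd : ¬ p ∣ D.index := fun h => by
      exact hqp ((Nat.prime_dvd_prime_iff_eq hpr hq).1 (hpr.dvd_of_dvd_pow (h.trans hidx))).symm
    have hDP : D ≤ (P : Subgroup G) := (PBasic.le_pCore hDn hD).trans (PBasic.pCore_le_sylow P)
    refine (Subgroup.eq_of_le_of_card_ge hDP ?_).symm
    rw [P.card_eq_multiplicity]
    refine Nat.le_of_dvd Nat.card_pos ?_
    have hco : Nat.Coprime (p ^ (Nat.card G).factorization p) D.index :=
      Nat.Coprime.pow_left _ (hpr.coprime_iff_not_dvd.2 hnd)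
    refine hco.dvd_of_dvd_mul_right ?_
    rw [D.card_mul_index]
    exact Nat.ordProj_dvd _ p
  refine ⟨?_, ?_, fun P => (hPD P).symm ▸ hDn⟩
  · intro H hH
    have hnpc := h2 H hH
    obtain ⟨N, hNn, hNc, j, hNi⟩ := PBasic.hasNormalPComplement_iff.1 hnpc
    refine ((Group.isNilpotent_of_finite_tfae (G := H)).out 0 3 rfl rfl).2 ?_
    intro r hr S
    have hDH : (D.subgroupOf H).Normal := inferInstance
    by_cases hrp : r = p
    · subst hrp
      obtain ⟨P, hP⟩ := (S.isPGroup'.map H.subtype).exists_le_sylow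
      rw [hPD P] at hP
      have hle : (S : Subgroup H) ≤ D.subgroupOf H := fun x hx => hP ⟨x, hx, rfl⟩
      have heq := S.is_maximal' (hD.comap_subtype (K := H)) hle
      exact heq ▸ hDH
    · -- `S` is contained in the complement, whose order is a power of `q`
      have hSN : (S : Subgroup H) ≤ N := by
        intro x hx
        rw [← QuotientGroup.eq_one_iff]
        haveI := hNn
        have h5 : IsPGroup p (H ⧸ N) := IsPGroup.of_card hNi
        obtain ⟨i, hi⟩ := IsPGroup.iff_orderOf.1 h5 (x : H ⧸ N)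
        obtain ⟨l, hl⟩ := IsPGroup.iff_orderOf.1 S.isPGroup' ⟨x, hx⟩
        rw [Subgroup.orderOf_mk] at hl
        have h6 : orderOf (x : H ⧸ N) ∣ r ^ l := hl ▸ orderOf_map_dvd (QuotientGroup.mk' N) x
        rw [hi] at h6
        rw [← orderOf_eq_one_iff, hi]
        exact Nat.eq_one_of_dvd_coprimes
          (Nat.Coprime.pow i l ((Nat.coprime_primes hpr hr.out).2 (Ne.symm hrp))) dvd_rfl h6
      have hNq : IsPGroup q N := by
        intro x
        have h7 : (orderOf (x : H)).Coprime p :=
          hNc.coprime_dvd_left (N.orderOf_dvd_natCard x.2)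
        have h8 : orderOf (x : H) ∣ Nat.card G := by
          rw [← Subgroup.orderOf_coe]
          exact orderOf_dvd_natCard _
        obtain ⟨i, hi⟩ := IsPGroup.iff_card.1 hD
        rw [← D.card_mul_index, hi] at h8
        have h9 := ((Nat.Coprime.pow_right i h7).dvd_of_dvd_mul_left h8).trans hidx
        refine ⟨k, ?_⟩
        rw [← orderOf_dvd_iff_pow_eq_one, ← Subgroup.orderOf_coe]
        exact h9
      by_cases hrq : r = q
      · subst hrq
        have heq := S.is_maximal' hNq hSN
        exact heq ▸ hNn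
      · have hb : (S : Subgroup H) = ⊥ := by
          rw [Subgroup.eq_bot_iff_forall]
          intro x hx
          obtain ⟨i, hi⟩ := IsPGroup.iff_orderOf.1 S.isPGroup' ⟨x, hx⟩
          obtain ⟨l, hl⟩ := IsPGroup.iff_orderOf.1 hNq ⟨x, hSN hx⟩
          rw [Subgroup.orderOf_mk] at hi hl
          rw [← orderOf_eq_one_iff, hi]
          exact Nat.eq_one_of_dvd_coprimes
            (Nat.Coprime.pow i l ((Nat.coprime_primes hr.out hq).2 hrq)) dvd_rfl
            (by rw [← hi, hl])
        rw [hb]
        infer_instance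
  · intro hnil
    apply hgc
    rw [Subgroup.mem_centralizer_iff]
    intro d hd
    obtain ⟨i, hi⟩ := IsPGroup.iff_orderOf.1 hD ⟨d, hd⟩
    rw [Subgroup.orderOf_mk] at hi
    exact (FixedPointFreeThompson.commute_of_nilpotent (hG := hnil) hi hgco).symm


end Cfsg.Agent.S0132
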