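import Cfsg.Statements.S4115
import Cfsg.Agent.Lib.Char.TIComplement
import Cfsg.Agent.Lib.Char.TIComplementFpf
import Cfsg.Agent.Lib.Char.PiPart

set_option autoImplicit false
universe u
open Cfsg

namespace Cfsg.Agent.S4115

open Cfsg.Agent

/-- A TI subgroup whose order is coprime to its index in its normaliser is a Hall subgroup. -/
theorem coprime_index {G : Type*} [Group G] [Finite G] (H : Subgroup G)
    (hTI : Cfsg.IsTISubset (H : Set G))
    (hHall : (Nat.card H).Coprime (H.subgroupOf (Subgroup.normalizer (H : Set G))).index) :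
    (Nat.card H).Coprime H.index := by
  refine Nat.coprime_of_dvd' fun p hp hpH hpi => ?_
  exfalso
  haveI := Fact.mk hp
  obtain ⟨Q⟩ : Nonempty (Sylow p H) := inferInstance
  obtain ⟨S, hS⟩ := (Q.isPGroup'.map H.subtype).exists_le_sylow
  set Q₀ : Subgroup G := (Q : Subgroup H).map H.subtype with hQ₀
  have hQcard : Nat.card Q₀ = p ^ (Nat.card H).factorization p := by
    rw [hQ₀, Subgroup.card_map_of_injective H.subtype_injective, Q.card_eq_multiplicity]
  obtain ⟨z, hzQ, hz1⟩ : ∃ z ∈ Q₀, z ≠ 1 := by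
    refine (Subgroup.bot_or_exists_ne_one Q₀).resolve_left fun e => ?_
    rw [e, Subgroup.card_bot] at hQcard
    have h1 := hp.factorization_pos_of_dvd Nat.card_pos.ne' hpH
    have h2 := Nat.one_lt_pow h1.ne' hp.one_lt
    omega
  have hne : Q₀ ≠ (S : Subgroup G) := by
    intro e
    apply S.not_dvd_index
    rw [← e]
    exact hpi.trans (Subgroup.index_dvd_of_le (Subgroup.map_subtype_le _))
  haveI : Group.IsNilpotent (S : Subgroup G) := S.isPGroup'.isNilpotent
  have hlt : Q₀.subgroupOf (S : Subgroup G) < ⊤ := by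
    rw [lt_top_iff_ne_top, Ne, Subgroup.subgroupOf_eq_top]
    exact fun h => hne (le_antisymm hS h)
  obtain ⟨y, hy, hyQ⟩ := SetLike.exists_of_lt
    (Group.normalizerCondition_of_isNilpotent (Q₀.subgroupOf (S : Subgroup G)) hlt)
  have hyN : (y : G) ∈ Subgroup.normalizer (H : Set G) := by
    by_contra h
    have h1 := (Subgroup.mem_normalizer_iff.mp hy ⟨z, hS hzQ⟩).mp (Subgroup.mem_subgroupOf.mpr hzQ)
    rw [Subgroup.mem_subgroupOf] at h1
    exact hz1 (hTI y h z (Subgroup.map_subtype_le _ hzQ) (Subgroup.map_subtype_le _ h1))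
  have hHn : (H.subgroupOf (Subgroup.normalizer (H : Set G))).Normal := Subgroup.normal_in_normalizer
  obtain ⟨i, hi⟩ := S.isPGroup' y
  have hyH : (y : G) ∈ H := by
    haveI := hHn
    set q : Subgroup.normalizer (H : Set G) ⧸ H.subgroupOf (Subgroup.normalizer (H : Set G)) :=
      QuotientGroup.mk (⟨y, hyN⟩ : Subgroup.normalizer (H : Set G)) with hq
    have h1 : orderOf q ∣ p ^ i := by
      refine orderOf_dvd_of_pow_eq_one ?_
      rw [hq, ← QuotientGroup.mk_pow, QuotientGroup.eq_one_iff, Subgroup.mem_subgroupOf]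
      have : (y : G) ^ p ^ i = 1 := congrArg Subtype.val hi
      simp [this]
    have h2 : orderOf q ∣ (H.subgroupOf (Subgroup.normalizer (H : Set G))).index := by
      rw [Subgroup.index_eq_card]
      exact orderOf_dvd_natCard q
    have h3 := Nat.eq_one_of_dvd_coprimes
      (((hHall.coprime_dvd_left hpH)).pow_left i) h1 h2
    rw [orderOf_eq_one_iff, hq, QuotientGroup.eq_one_iff] at h3
    exact h3
  have hJ : IsPGroup p ↥((Q₀ ⊔ Subgroup.zpowers (y : G)).subgroupOf H) :=
    (S.isPGroup'.to_le (sup_le hS (Subgroup.zpowers_le.mpr y.2))).comap_subtype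
  have hle : (Q : Subgroup H) ≤ (Q₀ ⊔ Subgroup.zpowers (y : G)).subgroupOf H := fun x hx =>
    Subgroup.mem_subgroupOf.mpr (Subgroup.mem_sup_left (Subgroup.mem_map_of_mem _ hx))
  have heq := Q.is_maximal' hJ hle
  have hy0 : (⟨(y : G), hyH⟩ : H) ∈ (Q₀ ⊔ Subgroup.zpowers (y : G)).subgroupOf H :=
    Subgroup.mem_subgroupOf.mpr (Subgroup.mem_sup_right (Subgroup.mem_zpowers _))
  rw [heq] at hy0
  exact hyQ (Subgroup.mem_subgroupOf.mpr (Subgroup.mem_map_of_mem H.subtype hy0))

/-- Let G be a finite group and H a subgroup that meets each of its conjugates by elements outside N_G(H) trivially and whose order is coprime to its index in N_G(H). Then H has a normal complement in N_G(H) if and only if H has a normal complement in G. Moreover, if H is not normal in G and has a normal complement in N_G(H), then H is isomorphic to a Frobenius complement of some finite Frobenius group. -/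
theorem result {G : Type u} [Group G] [Finite G] (H : Subgroup G)
    (hTI : Cfsg.IsTISubset (H : Set G)) (hHall : (Nat.card H).Coprime (H.subgroupOf (Subgroup.normalizer (H : Set G))).index) :
    ((∃ K : Subgroup (Subgroup.normalizer (H : Set G)), K.Normal ∧ K.IsComplement' (H.subgroupOf (Subgroup.normalizer (H : Set G)))) ↔
      (∃ N : Subgroup G, N.Normal ∧ N.IsComplement' H)) ∧
    (¬ H.Normal → (∃ K : Subgroup (Subgroup.normalizer (H : Set G)), K.Normal ∧ K.IsComplement' (H.subgroupOf (Subgroup.normalizer (H : Set G)))) →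
      ∃ (F : Type u) (_ : Group F) (_ : Finite F) (C : Subgroup F), Cfsg.IsFrobeniusComplement C ∧ Nonempty (H ≃* C)) := by
  classical
  haveI : Fintype G := Fintype.ofFinite G
  set X := Subgroup.normalizer (H : Set G) with hX
  have hHX : H ≤ X := Subgroup.le_normalizer
  have hHn : (H.subgroupOf X).Normal := Subgroup.normal_in_normalizer
  have hHc : Nat.card (H.subgroupOf X) = Nat.card H :=
    Nat.card_congr (Subgroup.subgroupOfEquivOfLe hHX).toEquiv
  -- from the normaliser to the group
  have hup : (∃ K : Subgroup X, K.Normal ∧ K.IsComplement' (H.subgroupOf X)) →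
      ∃ N : Subgroup G, N.Normal ∧ N.IsComplement' H := by
    rintro ⟨K, hKn, hKc⟩
    have hcomm : ∀ k ∈ K, ∀ h ∈ H.subgroupOf X, Commute k h := fun k hk h hh =>
      Subgroup.commute_of_normal_of_disjoint K _ hKn hHn hKc.disjoint k h hk hh
    set X₀ : Subgroup G := K.map X.subtype with hX₀
    have hX₀X : X₀ ≤ X := Subgroup.map_subtype_le _
    have hX₀c : Nat.card X₀ = Nat.card K := Subgroup.card_map_of_injective X.subtype_injective
    have hidx : (H.subgroupOf X).index = Nat.card K := hKc.index_eq_card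
    have hcop : Nat.Coprime (Nat.card H) (Nat.card K) := hidx ▸ hHall
    have hX₀s : X₀.subgroupOf X = K := Subgroup.comap_map_eq_self_of_injective X.subtype_injective K
    have hdisj : X₀ ⊓ H = ⊥ := by
      apply Subgroup.inf_eq_bot_of_coprime
      rw [hX₀c]
      exact hcop.symm
    have hrel : Char.RelFrob.RelMalnormal X X₀ := by
      intro g hg x hx hgx
      obtain ⟨⟨⟨k, hk⟩, ⟨h, hh⟩⟩, hkh⟩ := hKc.2 ⟨x, hx⟩
      obtain ⟨⟨⟨k', hk'⟩, ⟨h', hh'⟩⟩, hkh'⟩ := hKc.2 ⟨_, hgx⟩
      have hkh1 : k * h = ⟨x, hx⟩ := hkh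
      have hkh2 : k' * h' = ⟨_, hgx⟩ := hkh'
      set e := (Nat.chineseRemainder hcop 1 0).1 with he
      have he1 : e ≡ 1 [MOD Nat.card H] := (Nat.chineseRemainder hcop 1 0).2.1
      have he0 : e ≡ 0 [MOD Nat.card K] := (Nat.chineseRemainder hcop 1 0).2.2
      have key : ∀ a ∈ K, ∀ b ∈ H.subgroupOf X, (a * b) ^ e = b := by
        intro a ha b hb
        rw [(hcomm a ha b hb).mul_pow]
        have h1 : a ^ e = 1 := by
          apply orderOf_dvd_iff_pow_eq_one.mp
          exact (Subgroup.orderOf_dvd_natCard K ha).trans (Nat.modEq_zero_iff_dvd.mp he0)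
        have h2 : b ^ e = b := by
          conv_rhs => rw [← pow_one b]
          rw [pow_eq_pow_iff_modEq]
          exact he1.of_dvd (hHc ▸ Subgroup.orderOf_dvd_natCard (H.subgroupOf X) hb)
        rw [h1, h2, one_mul]
      have h1 := congrArg Subtype.val (key k hk h hh)
      have h2 := congrArg Subtype.val (key k' hk' h' hh')
      rw [hkh1, Subgroup.coe_pow] at h1
      rw [hkh2, Subgroup.coe_pow] at h2
      simp only [conj_pow] at h2
      rw [h1] at h2
      have hgh : g * (h : G) * g⁻¹ ∈ H := h2 ▸ Subgroup.mem_subgroupOf.mp hh'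
      have h3 : (h : G) = 1 := hTI g hg h (Subgroup.mem_subgroupOf.mp hh) hgh
      have h4 : (⟨x, hx⟩ : X) = k := by rw [← hkh1, show h = 1 from Subtype.ext h3, mul_one]
      exact ⟨k, hk, congrArg Subtype.val h4.symm⟩
    refine Char.RelFrob.exists_normal_complement hrel H hHX hX₀X (by rw [hX₀s]; exact hKn) hdisj ?_
    rw [hX₀c, ← hKc.card_mul, hHc]
  refine ⟨⟨hup, ?_⟩, ?_⟩
  · rintro ⟨N, hNn, hNc⟩
    refine ⟨N.subgroupOf X, inferInstance, ?_⟩
    refine Subgroup.isComplement'_of_disjoint_and_mul_eq_univ ?_ ?_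
    · rw [disjoint_iff, Subgroup.eq_bot_iff_forall]
      rintro x ⟨hx1, hx2⟩
      exact Subtype.ext ((Subgroup.eq_bot_iff_forall _).mp (disjoint_iff.mp hNc.disjoint) _ ⟨hx1, hx2⟩)
    · refine Set.eq_univ_of_forall fun g => ?_
      obtain ⟨⟨a, b⟩, hab⟩ := hNc.2 (g : G)
      have haX : (a : G) ∈ X := by
        have := X.mul_mem g.2 (X.inv_mem (hHX b.2))
        rwa [← hab, mul_inv_cancel_right] at this
      exact ⟨⟨a, haX⟩, a.2, ⟨b, hHX b.2⟩, b.2, Subtype.ext hab⟩
  · intro hHnn hK
    obtain ⟨N, hNn, hNc⟩ := hup hK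
    haveI := hNn
    have hHne : H ≠ ⊥ := fun e => hHnn (e ▸ inferInstance)
    have hcop : (Nat.card N).Coprime (Nat.card H) := by
      rw [← hNc.index_eq_card]
      exact (coprime_index H hTI hHall).symm
    have hd : N ⊓ H = ⊥ := disjoint_iff.mp hNc.disjoint
    have hcent : ∀ x ∈ N, x ∈ X → x ∈ Subgroup.centralizer (H : Set G) := by
      intro x hx hxX
      refine Subgroup.mem_centralizer_iff.mpr fun h hh => ?_
      have h1 : x * h * x⁻¹ * h⁻¹ ∈ N ⊓ H := by
        refine ⟨?_, H.mul_mem ((Subgroup.mem_normalizer_iff.mp hxX h).mp hh) (H.inv_mem hh)⟩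
        rw [show x * h * x⁻¹ * h⁻¹ = x * (h * x⁻¹ * h⁻¹) by group]
        exact N.mul_mem hx (hNn.conj_mem _ (N.inv_mem hx) h)
      rw [hd, Subgroup.mem_bot] at h1
      exact (mul_inv_eq_iff_eq_mul.mp (mul_inv_eq_one.mp h1)).symm
    refine Char.RelFrob.exists_frobenius (Nat.card G) G N H rfl hNn hNc hcop hHne ?_ ?_
    · intro h hh hh1 x hx hhx
      refine hcent x hx ?_
      by_contra hxX
      refine hh1 (hTI x hxX h hh ?_)
      rw [← hhx, mul_inv_cancel_right]
      exact hh
    · intro hc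
      refine hHnn (Subgroup.normalizer_eq_top_iff.mp (top_le_iff.mp ?_))
      rw [← hNc.sup_eq_top]
      exact sup_le (hc.trans (Subgroup.centralizer_le_normalizer _)) Subgroup.le_normalizer

end Cfsg.Agent.S4115
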