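import Cfsg.Statements.S4116
import Mathlib

set_option autoImplicit false
set_option linter.style.haveILetI false

set_option autoImplicit false
open Cfsg
open scoped Pointwise

namespace Cfsg.Agent.S4116

/-- Let G be a finite group with a subgroup H whose order is coprime to its index (a Hall subgroup) and which meets each of its conjugates by elements outside N_G(H) trivially. Then every subgroup of G whose order is divisible only by primes dividing the order of H lies in a conjugate of H. -/
theorem result {G : Type*} [Group G] [Finite G] (H : Subgroup G)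
    (hHall : (Nat.card H).Coprime H.index) (hTI : Cfsg.IsTISubset (H : Set G))
    (K : Subgroup G) (hK : ∀ q : ℕ, q.Prime → q ∣ Nat.card K → q ∣ Nat.card H) :
    ∃ g : G, K ≤ H.map (MulAut.conj g).toMonoidHom := by
  classical
  have hHn : ∀ g : G, g ∈ Subgroup.normalizer (H : Set G) → (∀ q : ℕ, q.Prime → q ∣ orderOf g → q ∣ Nat.card H) → g ∈ H := by
    intro g hg hgo
    set N := Subgroup.normalizer (H : Set G) with hN
    have h1 : orderOf ((⟨g, hg⟩ : N) : N ⧸ H.subgroupOf N) = 1 := by
      by_contra hne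
      obtain ⟨q, hq, hqd⟩ := Nat.exists_prime_and_dvd hne
      have h2 : q ∣ Nat.card H := hgo q hq
        ((hqd.trans (orderOf_map_dvd (QuotientGroup.mk' _) _)).trans (by rw [Subgroup.orderOf_mk]))
      have h3 : q ∣ H.index :=
        hqd.trans ((orderOf_dvd_natCard _).trans (Subgroup.relIndex_dvd_index_of_le Subgroup.le_normalizer))
      exact hq.not_dvd_one (hHall ▸ Nat.dvd_gcd h2 h3)
    rwa [orderOf_eq_one_iff, QuotientGroup.eq_one_iff] at h1
  -- the intersections `K ∩ Hᵍ`, as subgroups of `K`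
  let D : G → Subgroup K := fun g => (H.map (MulAut.conj g).toMonoidHom).subgroupOf K
  have hDmem : ∀ (g : G) (x : K), x ∈ D g ↔ g⁻¹ * (x : G) * g ∈ H := fun g x => by
    rw [Subgroup.mem_subgroupOf]
    constructor
    · rintro ⟨y, hy, hyx⟩
      rw [← hyx]
      simpa [mul_assoc] using hy
    · intro h
      exact ⟨_, h, by simp [mul_assoc]⟩
  -- two of them sharing a non-identity element are conjugate by the relevant element
  have hTI' : ∀ g g' : G, ∀ x : K, x ≠ 1 → x ∈ D g → x ∈ D g' → D g = D g' := by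
    intro g g' x hx1 hx hx'
    rw [hDmem] at hx hx'
    have hn : g'⁻¹ * g ∈ Subgroup.normalizer (H : Set G) := by
      by_contra hn
      have := hTI _ hn (g⁻¹ * (x : G) * g) hx (by simpa [mul_assoc] using hx')
      apply hx1
      apply Subtype.ext
      have h1 := congrArg (fun y => g * y * g⁻¹) this
      simpa [mul_assoc] using h1
    ext y
    rw [hDmem, hDmem]
    constructor
    · intro hy
      have := (Subgroup.mem_normalizer_iff.1 hn _).1 hy
      simpa [mul_assoc] using this
    · intro hy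
      apply (Subgroup.mem_normalizer_iff.1 hn _).2
      simpa [mul_assoc] using hy
  -- each one is a self-normalizing TI-subgroup of `K`
  have hself : ∀ g : G, ∀ k : K, ∀ x : K, x ≠ 1 → x ∈ D g → k * x * k⁻¹ ∈ D g → k ∈ D g := by
    intro g k x hx1 hx hkx
    rw [hDmem] at hx hkx ⊢
    apply hHn
    · by_contra hn
      have := hTI _ hn _ hx (by simpa [mul_assoc] using hkx)
      apply hx1
      apply Subtype.ext
      have h1 := congrArg (fun y => g * y * g⁻¹) this
      simpa [mul_assoc] using h1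
    · intro q hq hqd
      refine hK q hq (hqd.trans ?_)
      have : orderOf (g⁻¹ * (k : G) * g) = orderOf (k : G) := by
        rw [← orderOf_injective (MulAut.conj g).toMonoidHom (MulAut.conj g).injective (g⁻¹ * (k : G) * g)]
        congr 1
        simp [mul_assoc]
      rw [this]
      exact Subgroup.orderOf_dvd_natCard K k.2
  -- every Sylow subgroup of `K` lies in one of them
  have hsyl : ∀ q : ℕ, ∀ (_ : Fact q.Prime), q ∣ Nat.card K → ∀ Q : Sylow q K, ∃ g : G, (Q : Subgroup K) ≤ D g := by
    intro q hq hqK Q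
    obtain ⟨R, hR⟩ := (Q.isPGroup'.map K.subtype).exists_le_sylow
    obtain ⟨S⟩ : Nonempty (Sylow q H) := inferInstance
    have hS : ¬ q ∣ ((S : Subgroup H).map H.subtype).index := by
      rw [Subgroup.index_map_subtype]
      intro h
      rcases hq.out.dvd_mul.1 h with h | h
      · exact S.not_dvd_index h
      · exact hq.out.not_dvd_one (hHall ▸ Nat.dvd_gcd (hK q hq.out hqK) h)
    obtain ⟨g, hg⟩ := MulAction.exists_smul_eq G ((S.isPGroup'.map H.subtype).toSylow hS) R
    refine ⟨g, fun x hx => ?_⟩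
    have h1 : (x : G) ∈ (R : Subgroup G) := hR ⟨x, hx, rfl⟩
    rw [← hg, Sylow.coe_subgroup_smul] at h1
    obtain ⟨y, hy, hyx⟩ := h1
    rw [hDmem]
    obtain ⟨z, -, rfl⟩ := hy
    have hyx' : g * (z : G) * g⁻¹ = (x : G) := hyx
    rw [← hyx']
    simp [mul_assoc]
  -- counting conjugates
  let F : ∀ g : G, (Σ _ : K ⧸ D g, {x : D g // x ≠ 1}) → {x : K // x ≠ 1} := fun g z =>
    ⟨z.1.out * (z.2.1 : K) * z.1.out⁻¹, fun h => z.2.2 (Subtype.ext (conj_eq_one_iff.1 h))⟩
  have hFinj : ∀ g, Function.Injective (F g) := by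
    rintro g ⟨c, x, hx⟩ ⟨c', x', hx'⟩ h
    have h' : c.out * (x : K) * c.out⁻¹ = c'.out * (x' : K) * c'.out⁻¹ := congrArg Subtype.val h
    have hk : c'.out⁻¹ * c.out ∈ D g := by
      refine hself g _ x (fun e => hx (Subtype.ext e)) x.2 ?_
      rw [show c'.out⁻¹ * c.out * (x : K) * (c'.out⁻¹ * c.out)⁻¹
        = c'.out⁻¹ * (c.out * (x : K) * c.out⁻¹) * c'.out by group, h']
      simp [mul_assoc]
    have hcc : c' = c := by
      rw [← QuotientGroup.out_eq' c', ← QuotientGroup.out_eq' c, QuotientGroup.eq]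
      exact hk
    subst hcc
    have : (x : K) = x' := by simpa using h'
    obtain rfl : x = x' := Subtype.ext this
    rfl
  have hcount : ∀ g, 2 ≤ Nat.card (D g) →
      Nat.card K ≤ 2 * Nat.card (Σ _ : K ⧸ D g, {x : D g // x ≠ 1}) := by
    intro g h2
    haveI := Fintype.ofFinite (K ⧸ D g)
    haveI := Fintype.ofFinite (D g)
    have hc : Nat.card {x : D g // x ≠ 1} = Nat.card (D g) - 1 := by
      simp [Nat.card_eq_fintype_card, Fintype.card_subtype_compl]
    rw [Nat.card_sigma]
    simp only [hc, Finset.sum_const, Finset.card_univ, smul_eq_mul, ← Nat.card_eq_fintype_card]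
    rw [← Subgroup.card_mul_index (D g), Subgroup.index_eq_card] at *
    calc Nat.card (D g) * Nat.card (K ⧸ D g)
        ≤ (2 * (Nat.card (D g) - 1)) * Nat.card (K ⧸ D g) := Nat.mul_le_mul_right _ (by omega)
      _ = 2 * (Nat.card (K ⧸ D g) * (Nat.card (D g) - 1)) := by ring
  rcases eq_or_ne K ⊥ with hK0 | hK0
  · exact ⟨1, hK0 ▸ bot_le⟩
  have hK1 : Nat.card K ≠ 1 := fun h => hK0 (Subgroup.card_eq_one.1 h)
  obtain ⟨q₀, hq₀, hq₀K⟩ := Nat.exists_prime_and_dvd hK1
  haveI := Fact.mk hq₀
  obtain ⟨g, hg⟩ := hsyl q₀ ⟨hq₀⟩ hq₀K default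
  refine ⟨g, ?_⟩
  have hg2 : 2 ≤ Nat.card (D g) := by
    refine le_trans hq₀.two_le (Nat.le_of_dvd Nat.card_pos ?_)
    exact ((Sylow.dvd_card_of_dvd_card _ hq₀K)).trans (Subgroup.card_dvd_of_le hg)
  have hdvd : Nat.card K ∣ Nat.card (D g) := by
    rw [← Nat.factorization_le_iff_dvd Nat.card_pos.ne' Nat.card_pos.ne']
    intro q
    by_cases hqp : q.Prime
    swap
    · simp [Nat.factorization_eq_zero_of_not_prime _ hqp]
    by_cases hqK : q ∣ Nat.card K
    swap
    · simp [Nat.factorization_eq_zero_of_not_dvd hqK]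
    haveI := Fact.mk hqp
    obtain ⟨Q⟩ : Nonempty (Sylow q K) := inferInstance
    obtain ⟨g', hg'⟩ := hsyl q ⟨hqp⟩ hqK Q
    have hg'2 : 2 ≤ Nat.card (D g') := by
      refine le_trans hqp.two_le (Nat.le_of_dvd Nat.card_pos ?_)
      exact (Q.dvd_card_of_dvd_card hqK).trans (Subgroup.card_dvd_of_le hg')
    by_cases hconj : ∃ c c' : K, ∃ x : D g, ∃ x' : D g', x ≠ 1 ∧
        c * (x : K) * c⁻¹ = c' * (x' : K) * c'⁻¹
    · obtain ⟨c, c', x, x', hx, he⟩ := hconj
      have hx'1 : (x' : K) ≠ 1 := fun e => hx (Subtype.ext (by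
        rw [e, mul_one, mul_inv_cancel] at he
        exact conj_eq_one_iff.1 he))
      -- translate `D g'` by `d = c⁻¹ c'`
      set d := c⁻¹ * c' with hd
      have hDd : ∀ y : K, y ∈ D ((d : G) * g') ↔ d⁻¹ * y * d ∈ D g' := fun y => by
        rw [hDmem, hDmem]
        simp [mul_assoc]
      have hx'2 : (x : K) = d * x' * d⁻¹ := by
        rw [hd, show c⁻¹ * c' * (x' : K) * (c⁻¹ * c')⁻¹ = c⁻¹ * (c' * (x' : K) * c'⁻¹) * c by group, ← he]
        group
      have heq : D g = D ((d : G) * g') := hTI' _ _ x (fun e => hx (Subtype.ext e)) x.2 (by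
        rw [hDd, hx'2]; simp [mul_assoc])
      have hcardg : Nat.card (D g') ∣ Nat.card (D g) := by
        have : (D g').map (MulAut.conj d).toMonoidHom ≤ D g := by
          rintro _ ⟨y, hy, rfl⟩
          show d * y * d⁻¹ ∈ D g
          rw [heq, hDd]
          simpa [mul_assoc] using hy
        have h1 := Subgroup.card_map_of_injective (K := D g') (f := (MulAut.conj d).toMonoidHom) (MulAut.conj d).injective
        exact h1 ▸ Subgroup.card_dvd_of_le this
      have h2 : q ^ (Nat.card K).factorization q ∣ Nat.card (D g) := by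
        rw [← Q.card_eq_multiplicity]
        exact (Subgroup.card_dvd_of_le hg').trans hcardg
      exact (hqp.pow_dvd_iff_le_factorization Nat.card_pos.ne').1 h2
    · exfalso
      have hinj : Function.Injective (Sum.elim (F g) (F g')) := by
        refine (hFinj g).sumElim (hFinj g') fun a b h => hconj ?_
        exact ⟨a.1.out, b.1.out, a.2.1, b.2.1, a.2.2, congrArg Subtype.val h⟩
      have h1 := Nat.card_le_card_of_injective _ hinj
      haveI := Fintype.ofFinite K
      rw [Nat.card_sum] at h1
      have h2 : Nat.card {x : K // x ≠ 1} = Nat.card K - 1 := by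
        simp [Nat.card_eq_fintype_card, Fintype.card_subtype_compl]
      have := hcount g hg2
      have := hcount g' hg'2
      have : 0 < Nat.card K := Nat.card_pos
      omega
  have htop : D g = ⊤ :=
    Subgroup.eq_top_of_le_card _ (Nat.le_of_dvd Nat.card_pos hdvd)
  exact Subgroup.subgroupOf_eq_top.1 htop

end Cfsg.Agent.S4116
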