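import Cfsg.Statements.S3780
import Mathlib

set_option autoImplicit false
open Cfsg

namespace Cfsg.Agent.S3780

lemma exists_gen {V : Type*} [CommGroup V] [Finite V] {p : ℕ} [hp : Fact p.Prime] (hV : IsPGroup p V) :
    ∀ (k : ℕ) (W : Subgroup V), W.index ≤ p ^ k →
      ∃ S : Finset V, S.card ≤ k ∧ Subgroup.closure (S : Set V) ⊔ W = ⊤ := by
  classical
  intro k
  induction k with
  | zero =>
    intro W hW
    refine ⟨∅, le_rfl, ?_⟩
    have h1 : W.index = 1 := le_antisymm (by simpa using hW) (Nat.pos_of_ne_zero W.index_ne_zero_of_finite)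
    rw [Subgroup.index_eq_one.1 h1, sup_top_eq]
  | succ k ih =>
    intro W hW
    by_cases hWtop : W = ⊤
    · exact ⟨∅, Nat.zero_le _, by rw [hWtop, sup_top_eq]⟩
    obtain ⟨x, hx⟩ : ∃ x, x ∉ W := by
      by_contra hc
      push Not at hc
      exact hWtop ((Subgroup.eq_top_iff' _).2 hc)
    set W' := W ⊔ Subgroup.zpowers x with hW'
    have hlt : W < W' := lt_of_le_of_ne le_sup_left fun he =>
      hx (he ▸ Subgroup.mem_sup_right (Subgroup.mem_zpowers x))
    obtain ⟨a, ha⟩ := hV.index W
    obtain ⟨b, hb⟩ := hV.index W'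
    have hidx := Subgroup.index_strictAnti hlt
    rw [ha, hb] at hidx
    have hba : b < a := (Nat.pow_lt_pow_iff_right hp.out.one_lt).1 hidx
    rw [ha] at hW
    have hak := (Nat.pow_le_pow_iff_right hp.out.two_le).1 hW
    obtain ⟨S, hS, hgen⟩ := ih W' (hb ▸ Nat.pow_le_pow_right hp.out.pos (by omega))
    refine ⟨insert x S, (Finset.card_insert_le _ _).trans (Nat.succ_le_succ hS), ?_⟩
    rw [eq_top_iff, ← hgen]
    refine sup_le ((Subgroup.closure_mono (Finset.coe_subset.2 (Finset.subset_insert _ _))).trans le_sup_left)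
      (sup_le le_sup_right (Subgroup.zpowers_le.2 (Subgroup.mem_sup_left (Subgroup.subset_closure ?_))))
    simp

lemma card_ker_pow_le {A : Type*} [AddCommGroup A] [Finite A] (f : AddMonoid.End A) (k : ℕ) :
    Nat.card ↥(AddMonoidHom.ker (f ^ k : AddMonoid.End A)) ≤ Nat.card ↥(AddMonoidHom.ker f) ^ k := by
  induction k with
  | zero =>
    haveI : Subsingleton ↥(AddMonoidHom.ker (f ^ 0 : AddMonoid.End A)) :=
      ⟨fun a b => Subtype.ext ((show (a : A) = 0 from a.2).trans (show (b : A) = 0 from b.2).symm)⟩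
    rw [pow_zero (Nat.card ↥(AddMonoidHom.ker f)),
      Nat.card_of_subsingleton (⟨0, zero_mem _⟩ : ↥(AddMonoidHom.ker (f ^ 0 : AddMonoid.End A)))]
  | succ k ih =>
    set B := AddMonoidHom.ker (f ^ (k + 1) : AddMonoid.End A)
    let g : ↥B →+ ↥(AddMonoidHom.ker (f ^ k : AddMonoid.End A)) :=
      ((f : A →+ A).comp B.subtype).codRestrict _ fun b => by
        show (f ^ k : AddMonoid.End A) (f (b : A)) = 0
        have h : (f ^ (k + 1) : AddMonoid.End A) (b : A) = 0 := b.2
        rw [pow_succ] at h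
        exact h
    have hker : Nat.card ↥g.ker ≤ Nat.card ↥(AddMonoidHom.ker f) := by
      refine Nat.card_le_card_of_injective
        (fun b => ⟨((b : ↥B) : A), (congrArg Subtype.val (AddMonoidHom.mem_ker.1 b.2) : f ((b : ↥B) : A) = 0)⟩) ?_
      intro a b h
      exact Subtype.ext (Subtype.ext (congrArg (fun x : ↥(AddMonoidHom.ker f) => (x : A)) h))
    rw [← AddSubgroup.card_mul_index g.ker, AddSubgroup.index_ker, pow_succ, mul_comm (Nat.card _ ^ k)]
    exact Nat.mul_le_mul hker ((AddSubgroup.card_le_card_addGroup _).trans ih)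

/-- Let V be a finite abelian p-group and α an automorphism of V of order p whose fixed-point subgroup has order p^n. Then V can be generated by pn elements: some subset of V with at most pn elements generates V. -/
theorem result {V : Type*} [CommGroup V] [Finite V] {p : ℕ} [Fact p.Prime] (hV : IsPGroup p V) (α : MulAut V) (hα : orderOf α = p) (n : ℕ) (hfix : Nat.card {v : V // α v = v} = p ^ n) : ∃ S : Finset V, S.card ≤ p * n ∧ Subgroup.closure (S : Set V) = ⊤ := by
  classical
  have hp : p.Prime := Fact.out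
  set π : V →* V := powMonoidHom p with hπ
  set Ω := π.ker with hΩ
  have hmem : ∀ v : V, v ∈ Ω ↔ v ^ p = 1 := fun v => Iff.rfl
  let β : AddMonoid.End (Additive ↥Ω) := MonoidHom.toAdditive
    ((α.toMonoidHom.comp Ω.subtype).codRestrict Ω fun v => (hmem _).2 (by
      show (α (v : V)) ^ p = 1
      rw [← map_pow, (hmem _).1 v.2, map_one]))
  have hβ : ∀ (k : ℕ) (w : Additive ↥Ω),
      ((Additive.toMul ((β ^ k : AddMonoid.End (Additive ↥Ω)) w) : ↥Ω) : V) = (α ^ k) (Additive.toMul w : ↥Ω) := by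
    intro k
    induction k with
    | zero => intro w; rfl
    | succ k ih => intro w; rw [pow_succ, pow_succ]; exact ih (β w)
  have hβp : β ^ p = 1 := by
    refine AddMonoidHom.ext fun w => Additive.toMul.injective (Subtype.ext ?_)
    refine (hβ p w).trans ?_
    rw [← hα, pow_orderOf_eq_one]; rfl
  have hp0 : ∀ (w : Additive ↥Ω), p • w = 0 := fun w =>
    Additive.toMul.injective (Subtype.ext ((hmem _).1 (Additive.toMul w).2))
  have hf : (β - 1) ^ p = 0 := by
    obtain ⟨r, hr⟩ := ((Commute.one_right (β - 1))).exists_add_pow_prime_eq hp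
    rw [sub_add_cancel, hβp, one_pow] at hr
    have hz : ((p : AddMonoid.End (Additive ↥Ω))) = 0 := by
      refine AddMonoidHom.ext fun w => ?_
      exact (AddMonoid.End.natCast_apply p w).trans (hp0 w)
    rw [hz, zero_mul, zero_mul, zero_mul, add_zero] at hr
    exact add_right_cancel (hr.symm.trans (zero_add (1 : AddMonoid.End (Additive ↥Ω))).symm)
  have hcard : Nat.card ↥Ω ≤ p ^ (p * n) := by
    have h1 := card_ker_pow_le (β - 1) p
    have h2 : Nat.card ↥(AddMonoidHom.ker ((β - 1) ^ p : AddMonoid.End (Additive ↥Ω))) = Nat.card ↥Ω := by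
      rw [hf]
      exact Nat.card_congr ((Equiv.subtypeUnivEquiv fun _ => rfl).trans Additive.toMul)
    have h3 : Nat.card ↥(AddMonoidHom.ker (β - 1)) ≤ p ^ n := by
      rw [← hfix]
      refine Nat.card_le_card_of_injective (fun w => ⟨((Additive.toMul (w : Additive ↥Ω) : ↥Ω) : V), ?_⟩) ?_
      · have h : β (w : Additive ↥Ω) = w := sub_eq_zero.1 (AddMonoidHom.mem_ker.1 w.2)
        exact congrArg (fun x : Additive ↥Ω => ((Additive.toMul x : ↥Ω) : V)) h
      · intro a b h
        exact Subtype.ext (Additive.toMul.injective (Subtype.ext (congrArg (fun x : {v : V // α v = v} => (x : V)) h)))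
    calc Nat.card ↥Ω ≤ (p ^ n) ^ p := h2 ▸ h1.trans (Nat.pow_le_pow_left h3 p)
      _ = _ := by rw [← pow_mul, mul_comm]
  have hrange : π.range.index ≤ p ^ (p * n) := by
    refine le_trans (le_of_eq ?_) hcard
    have h1 := π.range.card_mul_index
    rw [← Subgroup.index_ker, ← π.ker.card_mul_index, mul_comm (Nat.card ↥π.ker)] at h1
    exact Nat.eq_of_mul_eq_mul_left (Nat.pos_of_ne_zero Subgroup.index_ne_zero_of_finite) h1
  obtain ⟨S, hS, hgen⟩ := exists_gen hV (p * n) π.range hrange
  refine ⟨S, hS, ?_⟩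
  set H := Subgroup.closure (S : Set V)
  by_contra hH
  have hsurj : Function.Surjective (fun q : V ⧸ H => q ^ p) := by
    intro q
    obtain ⟨v, rfl⟩ := QuotientGroup.mk'_surjective H q
    obtain ⟨h, hh, _, ⟨w, rfl⟩, hv⟩ := Subgroup.mem_sup.1 (hgen ▸ Subgroup.mem_top v : v ∈ H ⊔ π.range)
    refine ⟨QuotientGroup.mk' H w, ?_⟩
    show (QuotientGroup.mk' H w) ^ p = QuotientGroup.mk' H v
    rw [← hv, map_mul, show QuotientGroup.mk' H h = 1 from (QuotientGroup.eq_one_iff h).2 hh, one_mul]
    rfl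
  have hinj := Finite.injective_iff_surjective.2 hsurj
  obtain ⟨k, hk⟩ := hV.index H
  have hk0 : k ≠ 0 := fun h0 => hH (Subgroup.index_eq_one.1 (by rw [hk, h0, pow_zero]))
  obtain ⟨q, hq⟩ := exists_prime_orderOf_dvd_card' (G := V ⧸ H) p
    (by rw [← Subgroup.index_eq_card, hk]; exact dvd_pow_self p hk0)
  have : q = 1 := hinj (show q ^ p = (1 : V ⧸ H) ^ p by rw [← hq, pow_orderOf_eq_one, one_pow])
  rw [this, orderOf_one] at hq
  exact hp.one_lt.ne hq

end Cfsg.Agent.S3780
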