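import Cfsg.Statements.S2607
import Cfsg.Agent.Lib.AutPOmega.OutPlus
import Cfsg.Agent.Lib.AutPOmega.D4Out
-- import your own Cfsg.Agent.* helpers here

set_option autoImplicit false
open Cfsg

namespace Cfsg.Agent.S2607

open Cfsg.Agent Matrix

set_option maxHeartbeats 1600000 in
/-- Outer automorphism group of PΩ⁺_2m(q), q = 2^f: for m ≥ 5 it is the direct product of a group of order 2 (graph automorphism, an orthogonal transvection) and a cyclic group of order f (field automorphisms); for m = 4 triality enlarges it to S_3 × C_f. -/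
theorem result {F : Type*} [Field F] [Fintype F] {f m : ℕ} (hf : 1 ≤ f) (hF : Fintype.card F = 2 ^ f) (hm : 4 ≤ m) : if m = 4 then Nonempty (Cfsg.Out (Cfsg.POmega F (Cfsg.quadFormPlus m F)) ≃* Equiv.Perm (Fin 3) × Multiplicative (ZMod f)) else Nonempty (Cfsg.Out (Cfsg.POmega F (Cfsg.quadFormPlus m F)) ≃* Multiplicative (ZMod 2 × ZMod f)) := by
  haveI : Fact (Nat.Prime 2) := ⟨Nat.prime_two⟩
  haveI : CharP F 2 := charP_of_card_eq_prime_pow (R := F) hF
  by_cases h4 : m = 4
  · subst h4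
    rw [if_pos rfl]
    obtain ⟨E, -⟩ := AutPOmega.D4.exists_bridge F
    obtain ⟨e1⟩ := AutPOmega.D4.out_congr E.symm
    obtain ⟨e2⟩ := AutPOmega.D4.out_char_two (F := F) (ringChar.eq F 2)
    obtain ⟨e3⟩ := AutPSL.exists_ringAut_equiv (F := F) 2 f hF
    exact ⟨e1.trans (e2.trans ((MulEquiv.refl _).prodCongr e3))⟩
  · rw [if_neg h4]
    obtain ⟨e⟩ := AutPOmega.out_plus_char_two (m := m) (by omega) hF
    exact ⟨e.trans (MulEquiv.prodMultiplicative (ZMod 2) (ZMod f)).symm⟩

end Cfsg.Agent.S2607
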