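import Cfsg.Statements.S1714
import Cfsg.Agent.Lib.FischerM23Recog.Main
-- import your own Cfsg.Agent.* helpers here

set_option autoImplicit false
open Cfsg

namespace Cfsg.Agent.S1714

/-- The Fischer group Fi₂₃ from a transposition centraliser: let G be a finite group with an involution d such that the centraliser C of d is quasisimple, C modulo the subgroup generated by d is isomorphic to the presented Fischer group Fi₂₂, and some conjugate of d different from d commutes with d. Then G is isomorphic to the presented Fischer group Fi₂₃. -/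
theorem result {G : Type*} [Group G] [Finite G] (d : G) (hd : orderOf d = 2) (hq : Cfsg.IsQuasisimple (Subgroup.centralizer ({d} : Set G))) [((Subgroup.zpowers d).subgroupOf (Subgroup.centralizer ({d} : Set G))).Normal] (e : Cfsg.Spor.IsoFi22 ((Subgroup.centralizer ({d} : Set G)) ⧸ (Subgroup.zpowers d).subgroupOf (Subgroup.centralizer ({d} : Set G)))) (hnwc : ∃ g : G, g * d * g⁻¹ ∈ Subgroup.centralizer ({d} : Set G) ∧ g * d * g⁻¹ ≠ d) : Cfsg.Spor.IsoFi23 G := by
  obtain ⟨e⟩ := e
  set C := Subgroup.centralizer ({d} : Set G)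
  set N := (Subgroup.zpowers d).subgroupOf C
  have hd2 : d * d = 1 := by rw [← sq, ← hd, pow_orderOf_eq_one]
  let σ : ↥C →* _ := e.toMonoidHom.comp (QuotientGroup.mk' N)
  have hσ : ∀ x : ↥C, σ x = 1 ↔ x ∈ N := fun x => by
    rw [← QuotientGroup.eq_one_iff (N := N)]
    exact ⟨fun h => e.injective (h.trans (map_one _).symm), fun h => (congrArg e h).trans (map_one _)⟩
  obtain ⟨Ψ, -⟩ := Cfsg.Agent.FischerM23Recog.exists_mulEquiv σ (e.surjective.comp (QuotientGroup.mk'_surjective N)) hd
    (fun x hx => (hσ x).2 (Subgroup.mem_subgroupOf.2 (hx ▸ Subgroup.mem_zpowers d)))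
    (fun x hx => by
      obtain ⟨k, hk⟩ := Subgroup.mem_zpowers_iff.1 (Subgroup.mem_subgroupOf.1 ((hσ x).1 hx))
      rw [← hk]
      rcases Int.even_or_odd' k with ⟨m, rfl | rfl⟩
      · left; rw [zpow_mul, zpow_two, hd2, one_zpow]
      · right; rw [zpow_add_one, zpow_mul, zpow_two, hd2, one_zpow, one_mul])
    (by haveI := hq.1; exact Group.IsPerfect.commutator_eq_top) hnwc
  exact ⟨Ψ.symm⟩

end Cfsg.Agent.S1714
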