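import Cfsg.Statements.S5357
import Cfsg.Agent.Lib.Fischer.ReflectMod3

set_option autoImplicit false
open scoped MatrixGroups
open Cfsg

namespace Cfsg.Agent.S5357

open Cfsg.Agent.Fischer.Mod3


/-- Let Q be a non-degenerate quadratic form on the n-dimensional coordinate space over the field with three elements, n ≥ 5, and c a non-zero scalar. In the subgroup of the isometry group of Q generated by the reflections in vectors v with Q(v) = c, these reflections form a single conjugacy class of 3-transpositions generating that subgroup. -/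
theorem result (n : ℕ) (hn : 5 ≤ n) (Q : QuadraticForm (ZMod 3) (Fin n → ZMod 3)) (hQ : (QuadraticMap.polarBilin Q).Nondegenerate) (c : ZMod 3) (hc : c ≠ 0) : Cfsg.IsThreeTranspositionClass {g : ↥(Cfsg.reflectionSubgroup (⇑Q) c) | (g : ↥(Cfsg.isometryGroup (ZMod 3) (⇑Q))) ∈ Cfsg.reflectionsOfNorm (⇑Q) c} := by
  have hts := threeTransposition (Q := Q) hc
  refine ⟨⟨fun g hg => ?_, fun g hg h hh => ?_⟩, ?_, ?_⟩
  · rw [← Subgroup.orderOf_coe]; exact hts.1 _ hg
  · refine (hts.2 _ hg _ hh).imp (fun e => Subtype.ext ?_) (fun e => Subtype.ext ?_) <;>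
    · simpa using e
  · obtain ⟨v, hv⟩ := exists_norm hQ (by omega) hc
    refine ⟨⟨_, refl_mem hc hv⟩, ⟨v, hv, rfl⟩, Set.ext fun g => ⟨fun hg => ?_, fun hg => ?_⟩⟩
    · obtain ⟨w, hw, hgw⟩ := (mem_reflections_iff hc _).1 hg
      obtain ⟨x, hx, hxe⟩ := exists_conj hQ (by omega) hc hv hw
      exact isConj_iff.2 ⟨⟨x, hx⟩, Subtype.ext (hxe.trans hgw.symm)⟩
    · obtain ⟨x, rfl⟩ := isConj_iff.1 (show IsConj _ g from hg)
      show (x : isometryGroup (ZMod 3) (⇑Q)) * refl hc v hv *
        (x : isometryGroup (ZMod 3) (⇑Q))⁻¹ ∈ reflectionsOfNorm (⇑Q) c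
      rw [conj_refl]
      exact (mem_reflections_iff hc _).2 ⟨_, _, rfl⟩
  · exact Subgroup.closure_closure_coe_preimage

end Cfsg.Agent.S5357
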