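import Cfsg.Statements.S5361
import Cfsg.Agent.Lib.Fischer.Classes

set_option autoImplicit false
open Cfsg

namespace Cfsg.Agent.S5361

open Cfsg.Agent.Fischer Cfsg.Agent


/-- Let D be a conjugacy class of 3-transpositions generating the finite group G, and suppose the centre of G is trivial and some two different members of D commute. Then the following are equivalent: (1) the commutator subgroup of G is simple (possibly of prime order); (2) G acts primitively on D by conjugation; (3) the largest normal 2-subgroup and the largest normal 3-subgroup of G are trivial and the commuting graph of D is connected. -/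
theorem result {G : Type*} [Group G] [Finite G] {D : Set G} (hD : Cfsg.IsThreeTranspositionClass D) (hZ : Subgroup.center G = ⊥) (hw : ∃ a ∈ D, ∃ b ∈ D, a ≠ b ∧ Commute a b) : (IsSimpleGroup (commutator G) ↔ Cfsg.IsPrimitiveUnderConj D) ∧ (Cfsg.IsPrimitiveUnderConj D ↔ (Cfsg.pCore 2 G = ⊥ ∧ Cfsg.pCore 3 G = ⊥ ∧ (Cfsg.commutingGraph D).Connected)) := by
  have hT := TClass.toGroup hD
  have hD2 : ∃ a ∈ D, ∃ b ∈ D, a ≠ b := by
    obtain ⟨a, ha, b, hb, h, -⟩ := hw; exact ⟨a, ha, b, hb, h⟩
  have fwd : IsPrimitiveUnderConj D → IsSimpleGroup (commutator G) ∧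
      pCore 2 G = ⊥ ∧ pCore 3 G = ⊥ ∧ (commutingGraph D).Connected := by
    intro hprim
    have h2 := prim_pCore_two hT hprim
    have h3 := prim_pCore_three hT hprim hw
    obtain ⟨L, hL⟩ := TClass.exists_component hD hD2 h2 h3
    haveI := component_normal hT hL
    have hidx := TClass.index_le_two_of_connected hD hL (prim_connected hT hprim hw)
    have hcZ : Subgroup.center L = ⊥ := by
      rw [← Subgroup.map_eq_bot_iff_of_injective _ L.subtype_injective, ← le_bot_iff, ← hZ]
      refine le_trans ?_ (fitting_le_center hT h2 h3)
      refine Components.le_fittingSubgroup inferInstance ?_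
      refine Components.isNilpotent_of_commutator_le_center fun x _ =>
        Subgroup.mem_center_iff.2 fun y => Subtype.ext ?_
      obtain ⟨a, ha, hax⟩ := x.2
      obtain ⟨b, hb, hby⟩ := y.2
      show (y : G) * x = x * y
      rw [← hax, ← hby, ← map_mul, Subgroup.mem_center_iff.1 ha b, map_mul]
    have hsimple : IsSimpleGroup L := by
      haveI : Nontrivial L := Components.quasisimple_nontrivial hL.2
      refine ⟨fun N hN => ?_⟩
      rcases Components.quasisimple_normal hL.2 N with h | h
      · exact Or.inr h
      · rw [hcZ, le_bot_iff] at h; exact Or.inl h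
    have hcomm : commutator G = L := by
      refine le_antisymm ?_ ?_
      · rw [commutator_def, Subgroup.commutator_le]
        intro x _ y _
        rw [← QuotientGroup.eq_one_iff]
        have hc : ∀ u v : G ⧸ L, u * v = v * u := by
          have : Nat.card (G ⧸ L) ≤ 2 := hidx
          intro u v
          by_cases hu : u = 1
          · simp [hu]
          by_cases hv : v = 1
          · simp [hv]
          by_cases huv : u = v
          · rw [huv]
          exfalso
          have : ({1, u, v} : Set (G ⧸ L)).ncard ≤ Nat.card (G ⧸ L) := by
            rw [← Set.ncard_univ]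
            exact Set.ncard_le_ncard (Set.subset_univ _) Set.finite_univ
          rw [Set.ncard_insert_of_notMem (by simp [Ne.symm hu, Ne.symm hv]) (Set.toFinite _),
            Set.ncard_pair huv] at this
          omega
        show (QuotientGroup.mk' L) (x * y * x⁻¹ * y⁻¹) = 1
        simp only [map_mul, map_inv]
        rw [hc ((QuotientGroup.mk' L) x), mul_inv_cancel_right, mul_inv_cancel]
      · rw [← Components.component_commutator_eq hL, commutator_def]
        exact Subgroup.commutator_mono le_top le_top
    refine ⟨?_, ?_, ?_, prim_connected hT hprim hw⟩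
    · rw [hcomm]; exact hsimple
    · rwa [hZ, le_bot_iff] at h2
    · rwa [hZ, le_bot_iff] at h3
  refine ⟨⟨fun hs => ?_, fun h => (fwd h).1⟩, fun h => (fwd h).2, fun ⟨h2, h3, hconn⟩ => ?_⟩
  · obtain ⟨d, hd, -⟩ := id hD2
    haveI := hs
    have hdc : ∀ e ∈ D, d * e ∈ commutator G := by
      intro e he
      obtain ⟨g, rfl⟩ := TClass.transitive hD d hd e he
      have h1 : d * (g * d * g⁻¹) = d * g * d⁻¹ * g⁻¹ := by
        rw [TSet.inv hD.1 hd]; group
      rw [h1, commutator_def]
      exact Subgroup.commutator_mem_commutator (Subgroup.mem_top _) (Subgroup.mem_top _)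
    -- a simple derived group of prime order is impossible
    have hna : ¬ IsMulCommutative (commutator G) := by
      intro hab
      obtain ⟨a, ha, b, hb, hne, hc⟩ := hw
      have hmem : a * b ∈ commutator G := by
        have := mul_mem (inv_mem (hdc a ha)) (hdc b hb)
        rwa [mul_inv_rev, TSet.inv hD.1 ha, TSet.inv hD.1 hd, mul_assoc, ← mul_assoc d d,
          TSet.sq hD.1 hd, one_mul] at this
      have hne1 : a * b ≠ 1 := fun h => hne (by
        rw [mul_eq_one_iff_eq_inv, TSet.inv hD.1 hb] at h; exact h)
      have h2 : (a * b) ^ 2 = 1 :=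
        (commute_iff_sq_eq_one (TSet.sq hD.1 ha) (TSet.sq hD.1 hb)).1 hc
      have hprime : (Nat.card (commutator G)).Prime := by
        letI : CommGroup (commutator G) :=
          { (inferInstance : Group (commutator G)) with mul_comm := hab.1.1 }
        exact IsSimpleGroup.prime_card
      have ho : orderOf (⟨a * b, hmem⟩ : commutator G) = 2 :=
        orderOf_eq_prime (Subtype.ext h2) fun h => hne1 (congrArg Subtype.val h)
      have hd2 : Nat.card (commutator G) = 2 :=
        ((Nat.prime_dvd_prime_iff_eq Nat.prime_two hprime).1 (ho ▸ orderOf_dvd_natCard _)).symm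
      have hc0 : (⟨a * b, hmem⟩ : commutator G) ≠ 1 := fun h => hne1 (congrArg Subtype.val h)
      obtain ⟨x, -, hxu⟩ := (Nat.card_eq_two_iff' (1 : commutator G)).1 hd2
      refine hne1 ?_
      have hz : a * b ∈ Subgroup.center G := by
        rw [Subgroup.mem_center_iff]
        intro g
        have hconj : g * (a * b) * g⁻¹ ∈ commutator G :=
          Subgroup.Normal.conj_mem inferInstance _ hmem g
        have h1 : (⟨g * (a * b) * g⁻¹, hconj⟩ : commutator G) ≠ 1 := fun h => hne1 (by
          have := congrArg Subtype.val h
          simp only [Subgroup.coe_one] at this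
          rw [mul_inv_eq_one] at this
          simpa using this)
        have := congrArg Subtype.val ((hxu _ h1).trans (hxu _ hc0).symm)
        exact mul_inv_eq_iff_eq_mul.1 this
      rwa [hZ, Subgroup.mem_bot] at hz
    have hperf : ⁅commutator G, commutator G⁆ = commutator G := by
      have : commutator (commutator G) = ⊤ := by
        rcases (inferInstance : (commutator (commutator G)).Normal).eq_bot_or_eq_top with h | h
        · refine absurd ?_ hna
          exact (commutator_eq_bot_iff _).1 h
        · exact h
      rw [← Subgroup.map_subtype_commutator, this, ← MonoidHom.range_eq_map, Subgroup.range_subtype]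
    have hcore : ∀ p, p = 2 ∨ p = 3 → pCore p G = ⊥ := by
      intro p hp
      haveI : Fact p.Prime := ⟨by rcases hp with rfl | rfl; exacts [Nat.prime_two, Nat.prime_three]⟩
      haveI := Cfsg.pCore_normal p G
      rcases (Subgroup.Normal.subgroupOf (inferInstance : (pCore p G).Normal)
        (commutator G)).eq_bot_or_eq_top with h | h
      · rw [← le_bot_iff, ← hZ]
        intro x hx
        rw [Subgroup.mem_center_iff]
        intro g
        have h1 : g * x * g⁻¹ * x⁻¹ ∈ pCore p G ⊓ commutator G := by
          refine Subgroup.mem_inf.2 ⟨mul_mem (Subgroup.Normal.conj_mem inferInstance _ hx g) (inv_mem hx), ?_⟩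
          rw [commutator_def]
          exact Subgroup.commutator_mem_commutator (Subgroup.mem_top _) (Subgroup.mem_top _)
        have h2 : (⟨_, h1.2⟩ : commutator G) ∈ (pCore p G).subgroupOf (commutator G) := h1.1
        rw [h, Subgroup.mem_bot] at h2
        have := congrArg Subtype.val h2
        exact mul_inv_eq_iff_eq_mul.1 (mul_inv_eq_one.1 this)
      · exfalso
        haveI : Group.IsNilpotent (pCore p G) := (PBasic.pCore_isPGroup p G).isNilpotent
        haveI : Group.IsSolvable (commutator G) :=
          Components.isSolvable_mono (Subgroup.subgroupOf_eq_top.1 h)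
        haveI : Group.IsPerfect (commutator G) := Subgroup.isPerfect_iff.2 hperf
        exact Group.IsPerfect.not_isSolvable (commutator G) inferInstance
    exact TClass.primitive_of_perfect hD hD2 ((hcore 2 (Or.inl rfl)).le.trans bot_le)
      ((hcore 3 (Or.inr rfl)).le.trans bot_le) hperf
  · obtain ⟨L, hL⟩ := TClass.exists_component hD hD2 (h2.le.trans bot_le) (h3.le.trans bot_le)
    exact TClass.primitive_of_index hD hD2 (h2.le.trans bot_le) (h3.le.trans bot_le) hL
      (TClass.index_le_two_of_connected hD hL hconn)

end Cfsg.Agent.S5361
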