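import Cfsg.Statements.S5344
import Cfsg.Agent.Lib.Fischer.Basic

set_option autoImplicit false
open Cfsg

namespace Cfsg.Agent.S5344

open Cfsg.Agent.Fischer

/-- The three generating transpositions. -/
def sw : Fin 3 → Equiv.Perm (Fin 4)
  | 0 => Equiv.swap 0 1
  | 1 => Equiv.swap 1 2
  | 2 => Equiv.swap 2 3

/-- Canonical word by the images of 0, 1, 2. -/
def tbl : Fin 4 → Fin 4 → Fin 4 → List (Fin 3)
  | 0, 1, 2 => []
  | 0, 1, 3 => [2]
  | 0, 2, 1 => [1]
  | 0, 2, 3 => [1, 2]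
  | 0, 3, 1 => [2, 1]
  | 0, 3, 2 => [1, 2, 1]
  | 1, 0, 2 => [0]
  | 1, 0, 3 => [0, 2]
  | 1, 2, 0 => [0, 1]
  | 1, 2, 3 => [0, 1, 2]
  | 1, 3, 0 => [0, 2, 1]
  | 1, 3, 2 => [0, 1, 2, 1]
  | 2, 0, 1 => [1, 0]
  | 2, 0, 3 => [1, 0, 2]
  | 2, 1, 0 => [0, 1, 0]
  | 2, 1, 3 => [0, 1, 0, 2]
  | 2, 3, 0 => [1, 0, 2, 1]
  | 2, 3, 1 => [0, 1, 0, 2, 1]
  | 3, 0, 1 => [2, 1, 0]
  | 3, 0, 2 => [1, 2, 1, 0]
  | 3, 1, 0 => [0, 2, 1, 0]
  | 3, 1, 2 => [0, 1, 2, 1, 0]
  | 3, 2, 0 => [1, 0, 2, 1, 0]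
  | 3, 2, 1 => [0, 1, 0, 2, 1, 0]
  | _, _, _ => []

/-- Canonical word of a permutation. -/
def word (σ : Equiv.Perm (Fin 4)) : List (Fin 3) := tbl (σ 0) (σ 1) (σ 2)

/-- Evaluation of a word. -/
def ev {M : Type*} [Mul M] [One M] (g : Fin 3 → M) : List (Fin 3) → M
  | [] => 1
  | i :: l => g i * ev g l

theorem ev_append {M : Type*} [Monoid M] (g : Fin 3 → M) (l m : List (Fin 3)) :
    ev g (l ++ m) = ev g l * ev g m := by
  induction l with
  | nil => simp [ev]
  | cons i l ih => simp [ev, ih, mul_assoc]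

theorem sv_word : ∀ σ : Equiv.Perm (Fin 4), ev sw (word σ) = σ := by decide

/-- All canonical words. -/
def allWords : List (List (Fin 3)) :=
  [[], [2], [1], [1, 2], [2, 1], [1, 2, 1], [0], [0, 2], [0, 1], [0, 1, 2], [0, 2, 1], [0, 1, 2, 1], [1, 0], [1, 0, 2], [0, 1, 0], [0, 1, 0, 2], [1, 0, 2, 1], [0, 1, 0, 2, 1], [2, 1, 0], [1, 2, 1, 0], [0, 2, 1, 0], [0, 1, 2, 1, 0], [1, 0, 2, 1, 0], [0, 1, 0, 2, 1, 0]]

theorem word_mem : ∀ σ : Equiv.Perm (Fin 4), word σ ∈ allWords := by decide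

theorem step {G : Type*} [Group G] {a b c : G} (ha : a * a = 1) (hb : b * b = 1) (hc : c * c = 1)
    (hac : c * a = a * c) (hab : b * a * b = a * b * a) (hbc : c * b * c = b * c * b) :
    ∀ w ∈ allWords, ∀ i : Fin 3,
      ev ![a, b, c] w * ![a, b, c] i = ev ![a, b, c] (word (ev sw w * sw i)) := by
  have ra : ∀ x, a * (a * x) = x := fun x => by rw [← mul_assoc, ha, one_mul]
  have rb : ∀ x, b * (b * x) = x := fun x => by rw [← mul_assoc, hb, one_mul]
  have rc : ∀ x, c * (c * x) = x := fun x => by rw [← mul_assoc, hc, one_mul]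
  have rac : ∀ x, c * (a * x) = a * (c * x) := fun x => by rw [← mul_assoc, hac, mul_assoc]
  have rab : ∀ x, b * (a * (b * x)) = a * (b * (a * x)) := fun x => by
    simp only [← mul_assoc, hab]
  have rbc : ∀ x, c * (b * (c * x)) = b * (c * (b * x)) := fun x => by
    simp only [← mul_assoc, hbc]
  have rcb : ∀ x, c * (b * (a * (c * x))) = b * (c * (b * (a * x))) := fun x => by
    rw [← rac x, rbc]
  have r3 : b * (a * b) = a * (b * a) := by simp only [← mul_assoc, hab]
  have r4 : c * (b * c) = b * (c * b) := by simp only [← mul_assoc, hbc]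
  have r5 : c * (b * (a * c)) = b * (c * (b * a)) := by simpa using rcb 1
  suffices h : ∀ i : Fin 3, allWords.Forall fun w =>
      ev ![a, b, c] (w ++ [i]) = ev ![a, b, c] (word (ev sw w * sw i)) by
    intro w hw i
    have := List.forall_iff_forall_mem.1 (h i) w hw
    simpa [ev_append, ev] using this
  intro i
  fin_cases i <;>
    simp (config := { decide := true }) only [allWords, List.Forall, List.cons_append, List.nil_append] <;>
    refine ⟨?_, ?_, ?_, ?_, ?_, ?_, ?_, ?_, ?_, ?_, ?_, ?_, ?_, ?_, ?_, ?_, ?_, ?_, ?_, ?_, ?_, ?_, ?_, ?_⟩ <;>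
    (simp only [word, tbl, ev, sw, Fin.isValue]
     simp [Equiv.swap_apply_def, ra, rb, rc, rac, rab, rbc, rcb, ev, ha, hb, hc, hac, r3, r4, r5])

theorem word_one : word 1 = [] := by decide

/-- Fixed-point-free of order dividing two. -/
def IsDouble (x : Equiv.Perm (Fin 4)) : Prop := x * x = 1 ∧ ∀ i, x i ≠ i

instance decIsDouble (x : Equiv.Perm (Fin 4)) : Decidable (IsDouble x) := by
  unfold IsDouble; infer_instance

theorem kernel_trick : ∀ k : Equiv.Perm (Fin 4), k ≠ 1 →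
    ∃ g : Equiv.Perm (Fin 4), IsDouble k ∨ IsDouble (k * (g * k * g⁻¹)) := by
  decide +kernel

theorem double_conj : ∀ x : Equiv.Perm (Fin 4), IsDouble x →
    ∃ h : Equiv.Perm (Fin 4), h * x * h⁻¹ = Equiv.swap 0 1 * Equiv.swap 2 3 := by
  decide +kernel

/-- In a set of 3-transpositions, let a, b, c be members with a and c different and commuting, while neither a nor c commutes with b (a 3-string). Then there is an injective homomorphism from the symmetric group of degree 4 into the ambient group sending the transpositions (0 1), (1 2), (2 3) to a, b, c; so a, b, c generate a copy of the symmetric group of degree 4 in which they are transpositions. -/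
theorem result {G : Type*} [Group G] {D : Set G} (hD : Cfsg.IsThreeTranspositionSet D) {a b c : G} (ha : a ∈ D) (hb : b ∈ D) (hc : c ∈ D) (hac : a ≠ c) (hac' : Commute a c) (hab : ¬ Commute a b) (hbc : ¬ Commute b c) : ∃ φ : Equiv.Perm (Fin 4) →* G, Function.Injective φ ∧ φ (Equiv.swap 0 1) = a ∧ φ (Equiv.swap 1 2) = b ∧ φ (Equiv.swap 2 3) = c := by
  have bq : ∀ {x : G}, x ∈ D → x * x = 1 := fun h => TSet.sq hD h
  have st : ∀ σ i, ev ![a, b, c] (word σ) * ![a, b, c] i = ev ![a, b, c] (word (σ * sw i)) := by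
    intro σ i
    have := step (bq ha) (bq hb) (bq hc) hac'.symm.eq (TSet.braid hD hb ha (fun h => hab h.symm))
      (TSet.braid hD hc hb (fun h => hbc h.symm)) (word σ) (word_mem σ) i
    rwa [sv_word σ] at this
  have key : ∀ l σ, ev ![a, b, c] (word σ) * ev ![a, b, c] l
      = ev ![a, b, c] (word (σ * ev sw l)) := by
    intro l
    induction l with
    | nil => intro σ; simp [ev]
    | cons i l ih =>
      intro σ
      simp only [ev, ← mul_assoc]
      rw [st, ih]
  let φ : Equiv.Perm (Fin 4) →* G :=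
    MonoidHom.mk' (fun σ => ev ![a, b, c] (word σ)) fun σ τ => by
      rw [key, sv_word]
  have h0 : φ (Equiv.swap 0 1) = a := by
    have := st 1 0
    simp [ev, word_one, sw] at this
    exact this.symm
  have h1 : φ (Equiv.swap 1 2) = b := by
    have := st 1 1
    simp [ev, word_one, sw] at this
    exact this.symm
  have h2 : φ (Equiv.swap 2 3) = c := by
    have := st 1 2
    simp [ev, word_one, sw] at this
    exact this.symm
  refine ⟨φ, ?_, h0, h1, h2⟩
  rw [injective_iff_map_eq_one]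
  intro k hk
  by_contra hk1
  obtain ⟨g, hg⟩ := kernel_trick k hk1
  obtain ⟨x, hx, hx1⟩ : ∃ x, IsDouble x ∧ φ x = 1 := by
    rcases hg with h | h
    · exact ⟨k, h, hk⟩
    · exact ⟨_, h, by simp [hk]⟩
  obtain ⟨h, hh⟩ := double_conj x hx
  have hac2 : a * c ≠ 1 := fun h => hac (by rw [← mul_left_inj c, h, bq hc])
  apply hac2
  rw [← h0, ← h2, ← map_mul]
  rw [← hh]; simp [hx1]

end Cfsg.Agent.S5344
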