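import Cfsg.Statements.S5908
import Cfsg.Agent.S0282

set_option autoImplicit false
open Cfsg

namespace Cfsg.Agent.S5908

open Matrix

section
variable {F : Type*} [Field F]

/-- Monomiality: at most one non-zero entry in each row. -/
def IsMon (g : Matrix (Fin 3) (Fin 3) F) : Prop := ∀ i j k, j ≠ k → g i j * g i k = 0

lemma isMon_mul {g h : Matrix (Fin 3) (Fin 3) F} (hg : IsMon g) (hh : IsMon h) : IsMon (g * h) := by
  intro i j k hjk
  rw [Matrix.mul_apply, Matrix.mul_apply, Finset.sum_mul_sum]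
  refine Finset.sum_eq_zero fun a _ => Finset.sum_eq_zero fun b _ => ?_
  by_cases hab : a = b
  · subst hab
    linear_combination (g i a * g i a) * hh a j k hjk
  · linear_combination (h a j * h b k) * hg i a b hab

lemma isMon_one : IsMon (1 : Matrix (Fin 3) (Fin 3) F) := by
  intro i j k hjk
  by_cases h : i = j
  · subst h; rw [Matrix.one_apply_ne hjk, mul_zero]
  · rw [Matrix.one_apply_ne h, zero_mul]

lemma isMon_of_diag {g : Matrix (Fin 3) (Fin 3) F} (hg : ∀ i j, i ≠ j → g i j = 0) : IsMon g := by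
  intro i j k hjk
  by_cases h : i = j
  · subst h; rw [hg _ _ hjk, mul_zero]
  · rw [hg _ _ h, zero_mul]

/-- The field of four elements. -/
structure Four (F : Type*) [Field F] : Prop where
  two : (2 : F) = 0
  cube : ∀ a : F, a ≠ 0 → a ^ 3 = 1

variable (hF : Four F)
include hF

lemma sum_three {a b c : F} (h : a ^ 3 + b ^ 3 + c ^ 3 = 1) :
    (a ≠ 0 ∧ b ≠ 0 ∧ c ≠ 0) ∨ (a ≠ 0 ∧ b = 0 ∧ c = 0) ∨ (a = 0 ∧ b ≠ 0 ∧ c = 0) ∨
      (a = 0 ∧ b = 0 ∧ c ≠ 0) := by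
  by_cases ha : a = 0 <;> by_cases hb : b = 0 <;> by_cases hc : c = 0 <;> simp [ha, hb, hc] at h ⊢
  all_goals
    exfalso
    try rw [hF.cube a ha] at h
    try rw [hF.cube b hb] at h
    try rw [hF.cube c hc] at h
    exact one_ne_zero (by linear_combination (-1 : F) * h + hF.two)

/-- The unitary relations by columns and by rows. -/
lemma full_or_mon {g : Matrix (Fin 3) (Fin 3) F}
    (hrow : ∀ i j, g i 0 * g j 0 ^ 2 + g i 1 * g j 1 ^ 2 + g i 2 * g j 2 ^ 2 = if i = j then 1 else 0) :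
    IsMon g ∨ ∀ i j, g i j ≠ 0 := by
  by_contra hcon
  rw [not_or] at hcon
  obtain ⟨h1, h2⟩ := hcon
  have hthree : ∀ i, (g i 0 ≠ 0 ∧ g i 1 ≠ 0 ∧ g i 2 ≠ 0) ∨ (g i 0 ≠ 0 ∧ g i 1 = 0 ∧ g i 2 = 0) ∨
      (g i 0 = 0 ∧ g i 1 ≠ 0 ∧ g i 2 = 0) ∨ (g i 0 = 0 ∧ g i 1 = 0 ∧ g i 2 ≠ 0) := fun i => by
    refine sum_three hF ?_
    have h := hrow i i
    rw [if_pos rfl] at h
    linear_combination h
  obtain ⟨i, hi⟩ : ∃ i, g i 0 ≠ 0 ∧ g i 1 ≠ 0 ∧ g i 2 ≠ 0 := by
    by_contra hno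
    push Not at hno
    refine h1 fun i j k hjk => ?_
    rcases hthree i with h | h | h | h
    · exact absurd (hno i h.1 h.2.1) h.2.2
    all_goals fin_cases j <;> fin_cases k <;> simp_all
  refine h2 fun j k => ?_
  rcases hthree j with h | h | h | h
  · fin_cases k
    · exact h.1
    · exact h.2.1
    · exact h.2.2
  all_goals
    exfalso
    have hij : j ≠ i := by rintro rfl; tauto
    have h' := hrow j i
    rw [if_neg hij] at h'
    simp [h.1, h.2.1, h.2.2, hi.1, hi.2.1, hi.2.2] at h'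

/-- The square of a matrix without zero entry. -/
lemma sq_of_full {g : Matrix (Fin 3) (Fin 3) F} (hg : ∀ i j, g i j ≠ 0)
    (hrow : ∀ i j, g i 0 * g j 0 ^ 2 + g i 1 * g j 1 ^ 2 + g i 2 * g j 2 ^ 2 = if i = j then 1 else 0)
    (hcol : ∀ i j, g 0 i * g 0 j ^ 2 + g 1 i * g 1 j ^ 2 + g 2 i * g 2 j ^ 2 = if i = j then 1 else 0)
    (hdet : g.det = 1) :
    (g * g) 0 0 = 0 ∨ ((g * g) 0 1 = 0 ∧ (g * g) 1 1 = 0) := by
  have h2 := hF.two
  have ha := hF.cube _ (hg 0 0)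
  have hb := hF.cube _ (hg 0 1)
  have hc := hF.cube _ (hg 0 2)
  have hd := hF.cube _ (hg 1 0)
  have he := hF.cube _ (hg 2 0)
  obtain ⟨a, ea⟩ : ∃ a, g 0 0 = a := ⟨_, rfl⟩
  obtain ⟨b, eb⟩ : ∃ b, g 0 1 = b := ⟨_, rfl⟩
  obtain ⟨c, ec⟩ : ∃ c, g 0 2 = c := ⟨_, rfl⟩
  obtain ⟨d, ed⟩ : ∃ d, g 1 0 = d := ⟨_, rfl⟩
  obtain ⟨e, ee⟩ : ∃ e, g 2 0 = e := ⟨_, rfl⟩
  rw [ea] at ha; rw [eb] at hb; rw [ec] at hc; rw [ed] at hd; rw [ee] at he
  obtain ⟨u, hu⟩ : ∃ u, u = g 1 1 * a * b ^ 2 * d ^ 2 := ⟨_, rfl⟩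
  have g11 : g 1 1 = b * d * u * a ^ 2 := by
    rw [hu]; linear_combination (-g 1 1 * b ^ 3 * d ^ 3) * ha + (-g 1 1 * d ^ 3) * hb + (-g 1 1) * hd
  have r01 := hrow 1 0
  rw [if_neg (by decide), ea, eb, ec, ed, g11] at r01
  have g12 : g 1 2 = c * d * a ^ 2 * (1 + u) := by
    linear_combination c * r01 - g 1 2 * hc - d * u * a ^ 2 * c * hb
      - (c * d * a ^ 2 * (1 + u)) * h2
  have hu0 : u ≠ 0 := fun h => hg 1 1 (by rw [g11, h]; ring)
  have hu1 : u ≠ 1 := fun h => hg 1 2 (by rw [g12, h]; linear_combination c * d * a ^ 2 * h2)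
  have hu3 : u ^ 3 = 1 := hF.cube _ hu0
  have hq : u ^ 2 + u + 1 = 0 := by
    refine (mul_eq_zero.1 (show (u - 1) * (u ^ 2 + u + 1) = 0 by linear_combination hu3)).resolve_left ?_
    exact sub_ne_zero.2 hu1
  have g12' : g 1 2 = c * d * a ^ 2 * u ^ 2 := by
    rw [g12]; linear_combination (-(c * d * a ^ 2)) * hq + c * d * a ^ 2 * (1 + u) * h2
  have c01 := hcol 0 1
  rw [if_neg (by decide), ea, eb, ed, ee, g11] at c01
  have g21s : g 2 1 ^ 2 = e ^ 2 * a * b ^ 2 * u := by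
    linear_combination e ^ 2 * c01 - g 2 1 ^ 2 * he - e ^ 2 * b ^ 2 * u ^ 2 * a ^ 4 * hd
      - e ^ 2 * b ^ 2 * u ^ 2 * a * ha - e ^ 2 * a * b ^ 2 * hq
  have g21 : g 2 1 = e * a ^ 2 * b * u ^ 2 := by
    have h3 := hF.cube _ (hg 2 1)
    calc g 2 1 = (g 2 1 ^ 2) ^ 2 := by linear_combination (-g 2 1) * h3
      _ = e * a ^ 2 * b * u ^ 2 := by
        rw [g21s]; linear_combination (a ^ 2 * b ^ 4 * u ^ 2 * e) * he + (a ^ 2 * b * u ^ 2 * e) * hb
  have r02 := hrow 2 0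
  rw [if_neg (by decide), ea, eb, ec, ee, g21] at r02
  have g22 : g 2 2 = c * e * a ^ 2 * u := by
    linear_combination c * r02 - g 2 2 * hc - e * a ^ 2 * u ^ 2 * c * hb
      - c * e * a ^ 2 * hq
  have hbcde : b * c * d * e * a ^ 2 = 1 := by
    rw [Matrix.det_fin_three, ea, eb, ec, ed, ee, g11, g12', g21, g22] at hdet
    linear_combination hdet + (b * c * d * e * a ^ 2) * hq - (2 * b * c * d * e * a ^ 2 * u ^ 2) * h2
      - (b * c * d * e * a ^ 2 * u ^ 2) * ha + (b * c * d * e * a ^ 2 * u ^ 4) * ha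
      + (b * c * d * e * a ^ 2 * u) * hu3 + (b * c * d * e * a ^ 2 * u) * h2
  obtain ⟨x, hx⟩ : ∃ x, x = b * d * a := ⟨_, rfl⟩
  have hx3 : x ^ 3 = 1 := by
    rw [hx]; linear_combination d ^ 3 * a ^ 3 * hb + a ^ 3 * hd + ha
  have hy : c * e * a = x ^ 2 := by
    rw [hx]
    linear_combination (-(c * e * a)) * hx3 + (c * e * a) * (hx ▸ rfl : x ^ 3 = (b * d * a) ^ 3)
      + (b * d * a) ^ 2 * hbcde
  by_cases hx1 : x = 1
  · refine .inr ⟨?_, ?_⟩
    · rw [Matrix.mul_apply, Fin.sum_univ_three, ea, eb, ec, g11, g21]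
      rw [hx1] at hx hy
      linear_combination (-(a * b * u)) * hx + (a * b * u ^ 2) * hy + (a * b) * hq
    · rw [Matrix.mul_apply, Fin.sum_univ_three, eb, ed, g11, g12', g21]
      rw [hx1] at hx hy
      linear_combination (-(a ^ 2 + u * a ^ 2 + u ^ 2 * a ^ 2 * (b * d * a + 1))) * hx
        + (u * a ^ 2 * (b * d * a)) * hy + (u * a ^ 2 * (b * d * a) * (c * e * a)) * hu3
        - (d * b) * ha + (a ^ 2) * hq
  · refine .inl ?_
    rw [Matrix.mul_apply, Fin.sum_univ_three, ea, eb, ec, ed, ee]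
    have hxq : x ^ 2 + x + 1 = 0 := by
      refine (mul_eq_zero.1 (show (x - 1) * (x ^ 2 + x + 1) = 0 by linear_combination hx3)).resolve_left ?_
      exact sub_ne_zero.2 hx1
    linear_combination (a ^ 2) * hxq - (b * d + c * e) * ha - a ^ 2 * hx + a ^ 2 * hy

end


/-- The subgroup lattice of PSU₃(2) (the solvable group of order 72, realised over the field with 4 elements) is not complemented: some subgroup H has no subgroup X with H ⊔ X = ⊤ and H ⊓ X = ⊥. -/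
theorem result {F : Type*} [Field F] [Fintype F] (hF : Fintype.card F = 4) :
    ¬ ComplementedLattice (Subgroup (Cfsg.PSU 3 F 2)) := by
  classical
  have hF' : Fintype.card F = 2 ^ 2 := by rw [hF]; norm_num
  haveI : Fact (Nat.Prime 2) := ⟨Nat.prime_two⟩
  haveI : CharP F 2 := charP_of_card_eq_prime_pow hF'
  have h4 : Four F := ⟨CharTwo.two_eq_zero, fun a ha => by
    have := FiniteField.pow_card_sub_one_eq_one a ha
    rwa [hF] at this⟩
  have h72 := (Cfsg.Agent.S0282.result hF).1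
  haveI : Finite (Cfsg.PSU 3 F 2) := Nat.finite_of_card_ne_zero (by omega)
  -- the relations
  have hrel : ∀ g : Cfsg.SU 3 F 2, (∀ i j : Fin 3, (g.1.1) i 0 * (g.1.1) j 0 ^ 2 +
        (g.1.1) i 1 * (g.1.1) j 1 ^ 2 + (g.1.1) i 2 * (g.1.1) j 2 ^ 2 = if i = j then 1 else 0) ∧
      ∀ i j : Fin 3, (g.1.1) 0 i * (g.1.1) 0 j ^ 2 + (g.1.1) 1 i * (g.1.1) 1 j ^ 2 +
        (g.1.1) 2 i * (g.1.1) 2 j ^ 2 = if i = j then 1 else 0 := by
    intro g
    have hc : ∀ i j : Fin 3, (g.1.1) 0 i * (g.1.1) 0 j ^ 2 + (g.1.1) 1 i * (g.1.1) 1 j ^ 2 +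
        (g.1.1) 2 i * (g.1.1) 2 j ^ 2 = if i = j then 1 else 0 := by
      intro i j
      have h := g.2 (Pi.single i 1) (Pi.single j 1)
      change Cfsg.hermForm 3 F 2 (g.1.1 *ᵥ Pi.single i 1) (g.1.1 *ᵥ Pi.single j 1) = _ at h
      rw [Matrix.mulVec_single_one, Matrix.mulVec_single_one] at h
      simp only [Cfsg.hermForm, Fin.sum_univ_three, Matrix.col_apply] at h
      rw [h]
      fin_cases i <;> fin_cases j <;> simp
    refine ⟨fun i j => ?_, hc⟩
    have hm : (g.1.1)ᵀ * (g.1.1).map (fun a => a ^ 2) = 1 := by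
      ext i j
      simp only [Matrix.mul_apply, Fin.sum_univ_three, Matrix.transpose_apply, Matrix.map_apply,
        Matrix.one_apply, hc]
    have hm' : (g.1.1).map (fun a => a ^ 2) * (g.1.1)ᵀ = 1 := mul_eq_one_comm.1 hm
    have h := congrFun (congrFun hm' j) i
    simp only [Matrix.mul_apply, Fin.sum_univ_three, Matrix.transpose_apply, Matrix.map_apply,
      Matrix.one_apply] at h
    rw [show (if i = j then (1 : F) else 0) = if j = i then 1 else 0 by simp [eq_comm], ← h]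
    ring
  obtain ⟨u, hu⟩ : ∃ u : F, u ^ 2 + u + 1 = 0 := by
    obtain ⟨u, hu⟩ := Finset.exists_mem_notMem_of_card_lt_card
      (s := ({0, 1} : Finset F)) (t := Finset.univ) (by
        rw [Finset.card_univ, hF]
        exact lt_of_le_of_lt (Finset.card_insert_le _ _) (by simp))
    simp only [Finset.mem_insert, Finset.mem_singleton, not_or] at hu
    refine ⟨u, (mul_eq_zero.1 (show (u - 1) * (u ^ 2 + u + 1) = 0 by
      linear_combination h4.cube u hu.2.1)).resolve_left (sub_ne_zero.2 hu.2.2)⟩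
  have hu3 : u ^ 3 = 1 := by linear_combination (u - 1) * hu
  have hu0 : u ≠ 0 := fun h => by rw [h] at hu3; simp at hu3
  have hu1 : u ≠ 1 := fun h => by
    rw [h] at hu; exact one_ne_zero (by linear_combination hu - h4.two)
  -- central elements are diagonal
  let Dm : Matrix.SpecialLinearGroup (Fin 3) F := ⟨Matrix.diagonal ![u, u ^ 2, 1], by
    simp [Matrix.det_diagonal, Fin.prod_univ_three]; linear_combination hu3⟩
  have hD : Dm ∈ Cfsg.SU 3 F 2 := by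
    intro v w
    show Cfsg.hermForm 3 F 2 (Matrix.diagonal ![u, u ^ 2, 1] *ᵥ v)
      (Matrix.diagonal ![u, u ^ 2, 1] *ᵥ w) = _
    simp [Cfsg.hermForm, Fin.sum_univ_three, Matrix.mulVec_diagonal]
    linear_combination (v 0 * w 0 ^ 2 + v 1 * w 1 ^ 2 * (u ^ 3 + 1)) * hu3
  have hdiag : ∀ z : Cfsg.SU 3 F 2, z ∈ Subgroup.center (Cfsg.SU 3 F 2) →
      ∀ i j, i ≠ j → (z.1.1) i j = 0 := by
    intro z hz i j hij
    have h := congrArg (fun g : Cfsg.SU 3 F 2 => (g.1.1) i j) (Subgroup.mem_center_iff.1 hz ⟨Dm, hD⟩)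
    change (Matrix.diagonal ![u, u ^ 2, 1] * z.1.1) i j = (z.1.1 * Matrix.diagonal ![u, u ^ 2, 1]) i j at h
    rw [Matrix.diagonal_mul, Matrix.mul_diagonal] at h
    have hne : ![u, u ^ 2, 1] i ≠ ![u, u ^ 2, 1] j := by
      have n1 : u ≠ u ^ 2 := fun e => hu1 (mul_left_cancel₀ hu0 (by linear_combination e)).symm
      have n2 : u ^ 2 ≠ 1 := fun e => hu1 (by linear_combination hu3 - u * e)
      fin_cases i <;> fin_cases j <;> simp_all [eq_comm]
    by_contra h0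
    exact hne (mul_right_cancel₀ h0 (h.trans (mul_comm _ _)))
  have hsq : ∀ g : Cfsg.SU 3 F 2, ¬ IsMon g.1.1 →
      IsMon (g * g).1.1 ∧ g * g ∉ Subgroup.center (Cfsg.SU 3 F 2) := by
    intro g hg
    obtain ⟨hr, hc⟩ := hrel g
    have hfull := (full_or_mon h4 hr).resolve_left hg
    have h := sq_of_full h4 hfull hr hc g.1.2
    have h' : (g * g).1.1 0 0 = 0 ∨ ((g * g).1.1 0 1 = 0 ∧ (g * g).1.1 1 1 = 0) := h
    refine ⟨(full_or_mon h4 (hrel (g * g)).1).resolve_right fun hf => ?_, fun hz => ?_⟩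
    · rcases h' with h | h
      · exact hf _ _ h
      · exact hf _ _ h.1
    · obtain ⟨i, hi⟩ : ∃ i, (g * g).1.1 i i = 0 := by
        rcases h' with h | h
        · exact ⟨0, h⟩
        · exact ⟨1, h.2⟩
      have hd := (g * g).1.2
      rw [Matrix.det_fin_three, hdiag _ hz 0 1 (by decide), hdiag _ hz 0 2 (by decide),
        hdiag _ hz 1 0 (by decide), hdiag _ hz 1 2 (by decide), hdiag _ hz 2 0 (by decide),
        hdiag _ hz 2 1 (by decide)] at hd
      fin_cases i <;> simp_all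
  -- the monomial subgroup
  let M0 : Submonoid (Cfsg.SU 3 F 2) :=
    { carrier := {g | IsMon g.1.1}
      one_mem' := isMon_one
      mul_mem' := fun ha hb => isMon_mul ha hb }
  let M : Subgroup (Cfsg.SU 3 F 2) :=
    { M0 with
      inv_mem' := fun {g} hg => by
        have h := pow_mem (show g ∈ M0 from hg) (orderOf g - 1)
        have e : g ^ (orderOf g - 1) = g⁻¹ := eq_inv_of_mul_eq_one_left (by
          rw [← pow_succ, Nat.sub_add_cancel (orderOf_pos g), pow_orderOf_eq_one])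
        exact e ▸ h }
  have hM : ∀ g, g ∈ M ↔ IsMon g.1.1 := fun g => Iff.rfl
  set π := QuotientGroup.mk' (Subgroup.center (Cfsg.SU 3 F 2)) with hπ
  intro hlat
  obtain ⟨X, hX⟩ := hlat.exists_isCompl (M.map π)
  have hker : π.ker ≤ M := fun z hz => by
    rw [hπ, QuotientGroup.ker_mk'] at hz
    exact (hM z).2 (isMon_of_diag (hdiag z hz))
  have htorsion : ∀ x : Cfsg.PSU 3 F 2, (x ^ 2 = 1 ∨ x ^ 3 = 1) → x ∈ M.map π := by
    intro x hx
    obtain ⟨g, rfl⟩ := QuotientGroup.mk'_surjective _ x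
    refine ⟨g, (hM g).2 ?_, rfl⟩
    by_contra hg
    obtain ⟨h2, hn⟩ := hsq g hg
    rcases hx with hx | hx <;> rw [← map_pow, ← MonoidHom.mem_ker, QuotientGroup.ker_mk'] at hx
    · exact hn (by rwa [sq] at hx)
    · have e : g = (g * g)⁻¹ * g ^ 3 := by group
      exact hg ((hM g).1 (e ▸ M.mul_mem (M.inv_mem ((hM _).2 h2)) (hker (by
        rw [hπ, QuotientGroup.ker_mk']; exact hx))))
  have hXbot : X = ⊥ := by
    by_contra hne
    haveI : Nontrivial X := X.nontrivial_iff_ne_bot.2 hne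
    have hdvd : Nat.card X ∣ 2 ^ 3 * 3 ^ 2 := by
      have := Subgroup.card_subgroup_dvd_card X
      rw [h72] at this
      exact this
    obtain ⟨p, hp, hpd⟩ := Nat.exists_prime_and_dvd (Finite.one_lt_card (α := X)).ne'
    haveI : Fact p.Prime := ⟨hp⟩
    obtain ⟨y, hy⟩ := exists_prime_orderOf_dvd_card' p hpd
    have hp23 : p = 2 ∨ p = 3 := ((Nat.Prime.dvd_mul hp).1 (hpd.trans hdvd)).imp
      (fun h => (Nat.prime_dvd_prime_iff_eq hp Nat.prime_two).1 (hp.dvd_of_dvd_pow h))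
      (fun h => (Nat.prime_dvd_prime_iff_eq hp Nat.prime_three).1 (hp.dvd_of_dvd_pow h))
    have hyp : (y : Cfsg.PSU 3 F 2) ^ p = 1 := by
      rw [← hy, ← Subgroup.orderOf_coe]; exact pow_orderOf_eq_one _
    have hmem := htorsion y (by rcases hp23 with rfl | rfl <;> simp [hyp])
    have h1 : (y : Cfsg.PSU 3 F 2) = 1 := Subgroup.mem_bot.1 (hX.inf_eq_bot ▸ ⟨hmem, y.2⟩)
    rw [← Subgroup.orderOf_coe, h1, orderOf_one] at hy
    exact hp.ne_one hy.symm
  -- a matrix outside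
  let V : Matrix.SpecialLinearGroup (Fin 3) F := ⟨!![1, 1, 1; 1, u, u ^ 2; 1, u ^ 2, u], by
    simp [Matrix.det_fin_three]
    linear_combination (-u) * hu3 + (3 : F) * hu - (3 * u + 2) * h4.two⟩
  have hV : V ∈ Cfsg.SU 3 F 2 := by
    intro v w
    show Cfsg.hermForm 3 F 2 (!![1, 1, 1; 1, u, u ^ 2; 1, u ^ 2, u] *ᵥ v)
      (!![1, 1, 1; 1, u, u ^ 2; 1, u ^ 2, u] *ᵥ w) = _
    simp [Cfsg.hermForm, Fin.sum_univ_three, Matrix.mulVec, dotProduct, CharTwo.add_sq]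
    linear_combination (v 0 * w 0 ^ 2 + v 1 * w 1 ^ 2 + v 2 * w 2 ^ 2) * h4.two
      + (v 0 * w 1 ^ 2 + v 0 * w 2 ^ 2 + v 1 * w 0 ^ 2 + v 1 * w 2 ^ 2 + v 2 * w 0 ^ 2
        + v 2 * w 1 ^ 2) * hu
      + ((v 0 * w 1 ^ 2 + v 0 * w 2 ^ 2) * u + (v 1 * w 1 ^ 2 + v 2 * w 2 ^ 2) * (u ^ 3 + 2)
        + (v 1 * w 2 ^ 2 + v 2 * w 1 ^ 2) * (u + u ^ 2)) * hu3
  have htop : M.map π = ⊤ := by
    have := hX.sup_eq_top
    rwa [hXbot, sup_bot_eq] at this
  have hVM : (⟨V, hV⟩ : Cfsg.SU 3 F 2) ∈ M := by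
    have h : π ⟨V, hV⟩ ∈ M.map π := by rw [htop]; exact Subgroup.mem_top _
    have h' : (⟨V, hV⟩ : Cfsg.SU 3 F 2) ∈ (M.map π).comap π := h
    rwa [Subgroup.comap_map_eq, sup_eq_left.2 hker] at h'
  have := (hM _).1 hVM 0 0 1 (by decide)
  simp [V] at this

end Cfsg.Agent.S5908
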