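import Cfsg.Statements.S0827
import Cfsg.Agent.S0282
import Cfsg.Agent.S5908
import Cfsg.Agent.Lib.LinearBlock.MonThree

set_option autoImplicit false
open Cfsg Matrix

namespace Cfsg.Agent.S0827

/-- U_3(2) ≅ 3².Q_8: PSU_3(2) (form over the field with 4 elements) has a normal subgroup N which is elementary abelian of order 9 such that the quotient by N is isomorphic to the quaternion group of order 8. -/
theorem result {F : Type*} [Field F] [Fintype F] (hF : Fintype.card F = 4) : ∃ (N : Subgroup (Cfsg.PSU 3 F 2)) (_ : N.Normal), Nat.card N = 9 ∧ (∀ x ∈ N, x ^ 3 = 1) ∧ Nonempty (Cfsg.PSU 3 F 2 ⧸ N ≃* QuaternionGroup 2) := by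
  classical
  have hF' : Fintype.card F = 2 ^ 2 := by rw [hF]; norm_num
  haveI : Fact (Nat.Prime 2) := ⟨Nat.prime_two⟩
  haveI : CharP F 2 := charP_of_card_eq_prime_pow hF'
  have h4 : Cfsg.Agent.S5908.Four F := ⟨CharTwo.two_eq_zero, fun a ha => by
    have := FiniteField.pow_card_sub_one_eq_one a ha
    rwa [hF] at this⟩
  have h72 := (Cfsg.Agent.S0282.result hF).1
  haveI : Finite (Cfsg.PSU 3 F 2) := Nat.finite_of_card_ne_zero (by omega)
  -- the relations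
  have hrel : ∀ g : Cfsg.SU 3 F 2, (∀ i j : Fin 3, (g.1.1) i 0 * (g.1.1) j 0 ^ 2 +
        (g.1.1) i 1 * (g.1.1) j 1 ^ 2 + (g.1.1) i 2 * (g.1.1) j 2 ^ 2 = if i = j then 1 else 0) ∧
      ∀ i j : Fin 3, (g.1.1) 0 i * (g.1.1) 0 j ^ 2 + (g.1.1) 1 i * (g.1.1) 1 j ^ 2 +
        (g.1.1) 2 i * (g.1.1) 2 j ^ 2 = if i = j then 1 else 0 := by
    intro g
    have hc : ∀ i j : Fin 3, (g.1.1) 0 i * (g.1.1) 0 j ^ 2 + (g.1.1) 1 i * (g.1.1) 1 j ^ 2 +
        (g.1.1) 2 i * (g.1.1) 2 j ^ 2 = if i = j then 1 else 0 := by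
      intro i j
      have h := g.2 (Pi.single i 1) (Pi.single j 1)
      change Cfsg.hermForm 3 F 2 (g.1.1 *ᵥ Pi.single i 1) (g.1.1 *ᵥ Pi.single j 1) = _ at h
      rw [Matrix.mulVec_single_one, Matrix.mulVec_single_one] at h
      simp only [Cfsg.hermForm, Fin.sum_univ_three, Matrix.col_apply] at h
      rw [h]
      fin_cases i <;> fin_cases j <;> simp
    refine ⟨fun i j => ?_, hc⟩
    have hm : (g.1.1)ᵀ * (g.1.1).map (fun a => a ^ 2) = 1 := by
      ext i j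
      simp only [Matrix.mul_apply, Fin.sum_univ_three, Matrix.transpose_apply, Matrix.map_apply,
        Matrix.one_apply, hc]
    have hm' : (g.1.1).map (fun a => a ^ 2) * (g.1.1)ᵀ = 1 := mul_eq_one_comm.1 hm
    have h := congrFun (congrFun hm' j) i
    simp only [Matrix.mul_apply, Fin.sum_univ_three, Matrix.transpose_apply, Matrix.map_apply,
      Matrix.one_apply] at h
    rw [show (if i = j then (1 : F) else 0) = if j = i then 1 else 0 by simp [eq_comm], ← h]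
    ring
  obtain ⟨u, hu⟩ : ∃ u : F, u ^ 2 + u + 1 = 0 := by
    obtain ⟨u, hu⟩ := Finset.exists_mem_notMem_of_card_lt_card
      (s := ({0, 1} : Finset F)) (t := Finset.univ) (by
        rw [Finset.card_univ, hF]
        exact lt_of_le_of_lt (Finset.card_insert_le _ _) (by simp))
    simp only [Finset.mem_insert, Finset.mem_singleton, not_or] at hu
    refine ⟨u, (mul_eq_zero.1 (show (u - 1) * (u ^ 2 + u + 1) = 0 by
      linear_combination h4.cube u hu.2.1)).resolve_left (sub_ne_zero.2 hu.2.2)⟩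
  have hu3 : u ^ 3 = 1 := by linear_combination (u - 1) * hu
  have hu0 : u ≠ 0 := fun h => by rw [h] at hu3; simp at hu3
  have hu1 : u ≠ 1 := fun h => by
    rw [h] at hu; exact one_ne_zero (by linear_combination hu - h4.two)
  -- central elements are diagonal
  let Dm : Matrix.SpecialLinearGroup (Fin 3) F := ⟨Matrix.diagonal ![u, u ^ 2, 1], by
    simp [Matrix.det_diagonal, Fin.prod_univ_three]; linear_combination hu3⟩
  have hD : Dm ∈ Cfsg.SU 3 F 2 := by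
    intro v w
    show Cfsg.hermForm 3 F 2 (Matrix.diagonal ![u, u ^ 2, 1] *ᵥ v)
      (Matrix.diagonal ![u, u ^ 2, 1] *ᵥ w) = _
    simp [Cfsg.hermForm, Fin.sum_univ_three, Matrix.mulVec_diagonal]
    linear_combination (v 0 * w 0 ^ 2 + v 1 * w 1 ^ 2 * (u ^ 3 + 1)) * hu3
  have hdiag : ∀ z : Cfsg.SU 3 F 2, z ∈ Subgroup.center (Cfsg.SU 3 F 2) →
      ∀ i j, i ≠ j → (z.1.1) i j = 0 := by
    intro z hz i j hij
    have h := congrArg (fun g : Cfsg.SU 3 F 2 => (g.1.1) i j) (Subgroup.mem_center_iff.1 hz ⟨Dm, hD⟩)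
    change (Matrix.diagonal ![u, u ^ 2, 1] * z.1.1) i j = (z.1.1 * Matrix.diagonal ![u, u ^ 2, 1]) i j at h
    rw [Matrix.diagonal_mul, Matrix.mul_diagonal] at h
    have hne : ![u, u ^ 2, 1] i ≠ ![u, u ^ 2, 1] j := by
      have n1 : u ≠ u ^ 2 := fun e => hu1 (mul_left_cancel₀ hu0 (by linear_combination e)).symm
      have n2 : u ^ 2 ≠ 1 := fun e => hu1 (by linear_combination hu3 - u * e)
      fin_cases i <;> fin_cases j <;> simp_all [eq_comm]
    by_contra h0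
    exact hne (mul_right_cancel₀ h0 (h.trans (mul_comm _ _)))
  have hsq : ∀ g : Cfsg.SU 3 F 2, ¬ Cfsg.Agent.S5908.IsMon g.1.1 →
      Cfsg.Agent.S5908.IsMon (g * g).1.1 ∧ g * g ∉ Subgroup.center (Cfsg.SU 3 F 2) := by
    intro g hg
    obtain ⟨hr, hc⟩ := hrel g
    have hfull := (Cfsg.Agent.S5908.full_or_mon h4 hr).resolve_left hg
    have h := Cfsg.Agent.S5908.sq_of_full h4 hfull hr hc g.1.2
    have h' : (g * g).1.1 0 0 = 0 ∨ ((g * g).1.1 0 1 = 0 ∧ (g * g).1.1 1 1 = 0) := h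
    refine ⟨(Cfsg.Agent.S5908.full_or_mon h4 (hrel (g * g)).1).resolve_right fun hf => ?_, fun hz => ?_⟩
    · rcases h' with h | h
      · exact hf _ _ h
      · exact hf _ _ h.1
    · obtain ⟨i, hi⟩ : ∃ i, (g * g).1.1 i i = 0 := by
        rcases h' with h | h
        · exact ⟨0, h⟩
        · exact ⟨1, h.2⟩
      have hd := (g * g).1.2
      rw [Matrix.det_fin_three, hdiag _ hz 0 1 (by decide), hdiag _ hz 0 2 (by decide),
        hdiag _ hz 1 0 (by decide), hdiag _ hz 1 2 (by decide), hdiag _ hz 2 0 (by decide),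
        hdiag _ hz 2 1 (by decide)] at hd
      fin_cases i <;> simp_all
  set π := QuotientGroup.mk' (Subgroup.center (Cfsg.SU 3 F 2)) with hπ
  haveI : Finite (Cfsg.SU 3 F 2) := inferInstance
  have hker : ∀ g : Cfsg.SU 3 F 2, π g = 1 ↔ g ∈ Subgroup.center (Cfsg.SU 3 F 2) := fun g => by
    rw [hπ, ← MonoidHom.mem_ker, QuotientGroup.ker_mk']
  -- the shape of a monomial element
  have hshape : ∀ g : Cfsg.SU 3 F 2, Cfsg.Agent.S5908.IsMon g.1.1 →
      ∃ σ c, Cfsg.Agent.LBMon.Shape g.1.1 σ c ∧ ∀ i, c i ^ 3 = 1 := by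
    intro g hg
    have hex : ∀ i, ∃ j, g.1.1 i j ≠ 0 := fun i => by
      by_contra! h
      have := (hrel g).1 i i
      simp [h] at this
    choose s hs using hex
    have hz : ∀ i j, j ≠ s i → g.1.1 i j = 0 := fun i j hj =>
      (mul_eq_zero.1 (hg i j (s i) hj)).resolve_right (hs i)
    have hinj : Function.Injective s := fun i k hik => by
      by_contra hne
      have h := (hrel g).1 i k
      rw [if_neg hne] at h
      have hsum : ∀ l, g.1.1 i l * g.1.1 k l ^ 2 = if l = s i then g.1.1 i (s i) * g.1.1 k (s i) ^ 2 else 0 :=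
        fun l => by
          rcases eq_or_ne l (s i) with rfl | hl
          · rw [if_pos rfl]
          · rw [if_neg hl, hz i l hl, zero_mul]
      rw [hsum 0, hsum 1, hsum 2] at h
      have hne' : g.1.1 i (s i) * g.1.1 k (s i) ^ 2 ≠ 0 := mul_ne_zero (hs i) (pow_ne_zero 2 (hik ▸ hs k))
      generalize g.1.1 i (s i) * g.1.1 k (s i) ^ 2 = y at h hne'
      generalize s i = t at h
      fin_cases t <;> simp at h <;> exact hne' h
    refine ⟨Equiv.ofBijective s (Finite.injective_iff_bijective.1 hinj), fun i => g.1.1 i (s i), ?_, fun i =>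
      h4.cube _ (hs i)⟩
    intro i j
    show g.1.1 i j = if j = s i then g.1.1 i (s i) else 0
    rcases eq_or_ne j (s i) with rfl | hj
    · rw [if_pos rfl]
    · rw [if_neg hj, hz i j hj]
  have hdet : ∀ g : Cfsg.SU 3 F 2, g.1.1.det = 1 := fun g => g.1.2
  let Ev : Cfsg.PSU 3 F 2 → Prop := fun x => ∃ (g : Cfsg.SU 3 F 2) (σ : Equiv.Perm (Fin 3)) (c : Fin 3 → F),
    Cfsg.Agent.LBMon.Shape g.1.1 σ c ∧ (∀ i, c i ^ 3 = 1) ∧ σ * σ * σ = 1 ∧ π g = x
  have hEv : ∀ x, Ev x → x ^ 3 = 1 := by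
    rintro _ ⟨g, σ, c, hg, hc, hσ, rfl⟩
    have e : g * g * g = 1 := Subtype.ext (Subtype.ext (hg.cube (hdet g) hc hσ))
    rw [← map_pow, pow_succ, sq, e, map_one]
  have hmono : ∀ g : Cfsg.SU 3 F 2, Cfsg.Agent.S5908.IsMon (g * g).1.1 := fun g => by
    by_cases hg : Cfsg.Agent.S5908.IsMon g.1.1
    · exact Cfsg.Agent.S5908.isMon_mul hg hg
    · exact (hsq g hg).1
  have hsqsq : ∀ x : Cfsg.PSU 3 F 2, Ev ((x ^ 2) ^ 2) := fun x => by
    obtain ⟨g, rfl⟩ := QuotientGroup.mk'_surjective _ x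
    obtain ⟨σ, c, hg, hc⟩ := hshape _ (hmono g)
    refine ⟨(g * g) * (g * g), σ * σ, fun i => c i * c (σ i), hg.mul hg, fun i => ?_,
      (by decide +kernel : ∀ σ : Equiv.Perm (Fin 3), σ * σ * (σ * σ) * (σ * σ) = 1) σ, ?_⟩
    · rw [mul_pow, hc, hc, one_mul]
    · rw [map_mul, map_mul]; rw [sq, sq]
  have h3iff : ∀ x : Cfsg.PSU 3 F 2, x ^ 3 = 1 ↔ Ev x := fun x => by
    refine ⟨fun h => ?_, hEv x⟩
    have : (x ^ 2) ^ 2 = x := by rw [← pow_mul, show 2 * 2 = 3 + 1 from rfl, pow_succ, h, one_mul]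
    exact this ▸ hsqsq x
  let N : Subgroup (Cfsg.PSU 3 F 2) :=
    { carrier := {x | x ^ 3 = 1}
      one_mem' := one_pow 3
      inv_mem' := fun {x} hx => by
        show x⁻¹ ^ 3 = 1
        rw [inv_pow, show x ^ 3 = 1 from hx, inv_one]
      mul_mem' := fun {x y} hx hy => by
        obtain ⟨g, σ, c, hg, hc, hσ, rfl⟩ := (h3iff x).1 hx
        obtain ⟨k, τ, d, hk, hd, hτ, rfl⟩ := (h3iff y).1 hy
        refine hEv _ ⟨g * k, τ * σ, fun i => c i * d (σ i), hg.mul hk, fun i => by rw [mul_pow, hc, hd, one_mul],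
          (by decide +kernel : ∀ σ τ : Equiv.Perm (Fin 3), σ * σ * σ = 1 → τ * τ * τ = 1 →
            τ * σ * (τ * σ) * (τ * σ) = 1) σ τ hσ hτ, map_mul π g k⟩ }
  have hNmem : ∀ x, x ∈ N ↔ x ^ 3 = 1 := fun x => Iff.rfl
  haveI hNn : N.Normal := ⟨fun n hn g => by rw [hNmem, conj_pow, (hNmem n).1 hn]; simp⟩
  haveI : Fact (Nat.Prime 3) := ⟨Nat.prime_three⟩
  obtain ⟨P, hP⟩ := Sylow.exists_subgroup_card_pow_prime (G := Cfsg.PSU 3 F 2) (n := 2) 3 (by rw [h72]; norm_num)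
  obtain ⟨S, hS⟩ := Sylow.exists_subgroup_card_pow_prime (G := Cfsg.PSU 3 F 2) (n := 3) 2 (by rw [h72]; norm_num)
  have hPN : P ≤ N := fun x hx => by
    have h9 : x ^ 9 = 1 := by
      have h := pow_card_eq_one' (x := (⟨x, hx⟩ : P))
      rw [hP] at h
      exact congrArg Subtype.val h
    have hx28 : ((x ^ 7) ^ 2) ^ 2 = x := by
      rw [← pow_mul, ← pow_mul, show 7 * 2 * 2 = 9 * 3 + 1 from rfl, pow_succ, pow_mul, h9, one_pow, one_mul]
    exact (hNmem x).2 (hEv x (hx28 ▸ hsqsq (x ^ 7)))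
  have hN9 : Nat.card N = 9 := by
    have hp : IsPGroup 3 N := fun x => ⟨1, Subtype.ext (by simpa using (hNmem x.1).1 x.2)⟩
    obtain ⟨k, hk⟩ := hp.exists_card_eq
    have h1 := Subgroup.card_le_of_le hPN
    have h2 := Subgroup.card_subgroup_dvd_card N
    rw [h72, hk] at h2
    rw [hP, hk] at h1
    have h3 : k ≤ 2 := by
      by_contra h
      have := (pow_dvd_pow 3 (show 3 ≤ k by omega)).trans h2
      norm_num at this
    interval_cases k <;> simp_all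
  refine ⟨N, hNn, hN9, fun x hx => (hNmem x).1 hx, ?_⟩
  have hc : Subgroup.IsComplement' S N :=
    Subgroup.isComplement'_of_coprime (by rw [hS, hN9, h72]; norm_num) (by rw [hS, hN9]; norm_num)
  have h8 : ∀ x : S, (x : Cfsg.PSU 3 F 2) ^ 8 = 1 := fun x => by
    have h := pow_card_eq_one' (x := x)
    rw [hS] at h
    exact congrArg Subtype.val h
  have hS3 : ∀ x : Cfsg.PSU 3 F 2, x ^ 8 = 1 → x ^ 3 = 1 → x = 1 := fun x a b => by
    have h9 : x ^ 9 = 1 := by rw [show 9 = 3 * 3 from rfl, pow_mul, b, one_pow]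
    rwa [pow_succ, a, one_mul] at h9
  have hinvol : ∀ x : Cfsg.PSU 3 F 2, x ≠ 1 → x ^ 2 = 1 → ∃ (g : Cfsg.SU 3 F 2) (σ : Equiv.Perm (Fin 3))
      (c : Fin 3 → F), Cfsg.Agent.LBMon.Shape g.1.1 σ c ∧ (∀ i, c i ^ 3 = 1) ∧ σ * σ = 1 ∧ σ ≠ 1 ∧ π g = x := by
    intro x hx1 hx2
    obtain ⟨g, rfl⟩ := QuotientGroup.mk'_surjective _ x
    have hg : Cfsg.Agent.S5908.IsMon g.1.1 := by
      by_contra hg
      exact (hsq g hg).2 ((hker _).1 (by rw [map_mul, ← sq]; exact hx2))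
    obtain ⟨σ, c, hs, hc⟩ := hshape g hg
    rcases (by decide +kernel : ∀ σ : Equiv.Perm (Fin 3), σ * σ * σ = 1 ∨ (σ * σ = 1 ∧ σ ≠ 1)) σ with h | ⟨h, h'⟩
    · refine absurd ?_ hx1
      have h3 := hEv _ ⟨g, σ, c, hs, hc, h, rfl⟩
      rwa [pow_succ, hx2, one_mul] at h3
    · exact ⟨g, σ, c, hs, hc, h, h', rfl⟩
  refine ⟨hc.QuotientMulEquiv.trans (Cfsg.Agent.LBMon.q8_of_unique hS (fun x => Subtype.ext ?_) ?_).some⟩
  · show (x : Cfsg.PSU 3 F 2) ^ 4 = 1
    obtain ⟨g, hgx⟩ := QuotientGroup.mk'_surjective _ (x : Cfsg.PSU 3 F 2)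
    obtain ⟨σ, c, hs, hc⟩ := hshape _ (hmono g)
    have hx2 : π (g * g) = (x : Cfsg.PSU 3 F 2) ^ 2 := by rw [map_mul, sq]; rw [← hgx]
    rcases (by decide +kernel : ∀ σ : Equiv.Perm (Fin 3), σ * σ * σ = 1 ∨ (σ * σ = 1 ∧ σ ≠ 1)) σ with h | ⟨h, h'⟩
    · have h3 := hEv _ ⟨g * g, σ, c, hs, hc, h, hx2⟩
      have : (x : Cfsg.PSU 3 F 2) ^ 2 = 1 := hS3 _ (by rw [← pow_mul, mul_comm, pow_mul, h8, one_pow]) h3
      rw [show 4 = 2 * 2 from rfl, pow_mul, this, one_pow]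
    · obtain ⟨t, ht⟩ := hs.sq (hdet _) hc h h'
      have hz : π (g * g * (g * g)) = 1 := (hker _).2 (Subgroup.mem_center_iff.2 fun y =>
        Subtype.ext (Subtype.ext (by
          show y.1.1 * ((g * g).1.1 * (g * g).1.1) = ((g * g).1.1 * (g * g).1.1) * y.1.1
          rw [ht, mul_smul_comm, smul_mul_assoc, mul_one, one_mul])))
      rw [map_mul, hx2, ← sq, ← pow_mul] at hz
      exact hz
  · intro x y hx hy hx2 hy2
    obtain ⟨g, σ, c, hg, hc', hσ, hσ', hgx⟩ := hinvol x (fun h => hx (Subtype.ext h)) (congrArg Subtype.val hx2)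
    obtain ⟨k, τ, d, hk, hd, hτ, hτ', hky⟩ := hinvol y (fun h => hy (Subtype.ext h)) (congrArg Subtype.val hy2)
    have h3 := hEv ((x : Cfsg.PSU 3 F 2) * y) ⟨g * k, τ * σ, fun i => c i * d (σ i), hg.mul hk,
      fun i => by rw [mul_pow, hc', hd, one_mul],
      (by decide +kernel : ∀ σ τ : Equiv.Perm (Fin 3), σ * σ = 1 → σ ≠ 1 → τ * τ = 1 → τ ≠ 1 →
        τ * σ * (τ * σ) * (τ * σ) = 1) σ τ hσ hσ' hτ hτ', by rw [map_mul, hgx, hky]⟩
    have he : (x : Cfsg.PSU 3 F 2) * y = 1 := hS3 _ (h8 (x * y)) h3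
    have hx' : (x : Cfsg.PSU 3 F 2) * x = 1 := by rw [← sq]; exact congrArg Subtype.val hx2
    exact Subtype.ext (mul_left_cancel (hx'.trans he.symm))

end Cfsg.Agent.S0827

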