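import Cfsg.Statements.S5347
import Cfsg.Agent.Lib.Fischer.Basic

set_option autoImplicit false
open Cfsg

namespace Cfsg.Agent.S5347

open Cfsg.Agent.Fischer


/-- Let D be a conjugation-invariant generating set of 3-transpositions of a finite group G, p a prime bigger than 3, and P a p-subgroup of G. If a member d of D normalizes P then d centralizes P. -/
theorem result {G : Type*} [Group G] [Finite G] {D : Set G} (hD : Cfsg.IsThreeTranspositionGroup D) {p : ℕ} (hp : p.Prime) (hp3 : 3 < p) (P : Subgroup G) (hP : IsPGroup p P) {d : G} (hd : d ∈ D) (hnorm : d ∈ Subgroup.normalizer (P : Set G)) : ∀ x ∈ P, Commute d x := by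
  intro x hx
  have hdd : d * d = 1 := mul_self_of_orderOf_two (hD.1.1 d hd)
  have hinv : d⁻¹ = d := inv_eq_self_of_orderOf_two (hD.1.1 d hd)
  have he : x * d * x⁻¹ ∈ D := hD.2.1 x d hd
  have hr : d * (x * d * x⁻¹) ∈ P := by
    have h1 : d * x * d⁻¹ ∈ P := (Subgroup.mem_normalizer_iff.1 hnorm x).1 hx
    rw [hinv] at h1
    have : d * (x * d * x⁻¹) = d * x * d * x⁻¹ := by simp only [mul_assoc]
    rw [this]
    exact P.mul_mem h1 (P.inv_mem hx)
  haveI := Fact.mk hp
  obtain ⟨k, hk⟩ := hP ⟨_, hr⟩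
  have hk' : (d * (x * d * x⁻¹)) ^ p ^ k = 1 := by simpa using congrArg Subtype.val hk
  have h1 : d * (x * d * x⁻¹) = 1 := by
    rw [← orderOf_eq_one_iff]
    rcases hD.1.2 d hd _ he with h | h
    · exact Nat.eq_one_of_dvd_coprimes
        (Nat.Coprime.pow_left k ((Nat.coprime_primes hp Nat.prime_two).2 (by omega)))
        (orderOf_dvd_of_pow_eq_one hk') (orderOf_dvd_of_pow_eq_one h)
    · exact Nat.eq_one_of_dvd_coprimes
        (Nat.Coprime.pow_left k ((Nat.coprime_primes hp Nat.prime_three).2 (by omega)))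
        (orderOf_dvd_of_pow_eq_one hk') (orderOf_dvd_of_pow_eq_one h)
  have h2 : x * d * x⁻¹ = d := by
    rw [← hinv]; rw [eq_inv_iff_mul_eq_one, hinv]
    rw [mul_eq_one_comm]; exact h1
  exact (mul_inv_eq_iff_eq_mul.1 h2).symm

end Cfsg.Agent.S5347
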