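import Cfsg.Statements.S5348
import Cfsg.Agent.Lib.Fischer.Basic

set_option autoImplicit false
open Cfsg

namespace Cfsg.Agent.S5348

/-- Let D be a conjugation-invariant generating set of 3-transpositions of a finite group G and d a member of D. Let V be the set of members of D commuting with exactly the same members of D as d, and W the set of members w of D such that the members of D other than w commuting with w are precisely the members of D other than d commuting with d. Then V = {d} or W = {d}. -/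
theorem result {G : Type*} [Group G] [Finite G] {D : Set G} (hD : Cfsg.IsThreeTranspositionGroup D) {d : G} (hd : d ∈ D) : {v : G | v ∈ D ∧ ∀ e ∈ D, Commute v e ↔ Commute d e} = {d} ∨ {w : G | w ∈ D ∧ {y : G | y ∈ D ∧ y ≠ d ∧ Commute d y} = {y : G | y ∈ D ∧ y ≠ w ∧ Commute w y}} = {d} := by
  classical
  by_contra h
  obtain ⟨hV, hW⟩ := not_or.1 h
  have hdV : d ∈ {v : G | v ∈ D ∧ ∀ e ∈ D, Commute v e ↔ Commute d e} := ⟨hd, fun _ _ => Iff.rfl⟩
  obtain ⟨v, ⟨hv, hve⟩, hvd⟩ : ∃ v, v ∈ {v : G | v ∈ D ∧ ∀ e ∈ D, Commute v e ↔ Commute d e} ∧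
      v ≠ d := by
    by_contra hne
    exact hV (Set.eq_singleton_iff_unique_mem.2 ⟨hdV, fun v hv => by_contra fun hn => hne ⟨v, hv, hn⟩⟩)
  obtain ⟨w, ⟨hw, hwe⟩, hwd⟩ : ∃ w, w ∈ {w : G | w ∈ D ∧ {y : G | y ∈ D ∧ y ≠ d ∧ Commute d y} =
      {y : G | y ∈ D ∧ y ≠ w ∧ Commute w y}} ∧ w ≠ d := by
    by_contra hne
    exact hW (Set.eq_singleton_iff_unique_mem.2 ⟨⟨hd, rfl⟩,
      fun w hw => by_contra fun hn => hne ⟨w, hw, hn⟩⟩)
  have hwe' := fun y => Set.ext_iff.1 hwe y
  simp only [Set.mem_setOf_eq] at hwe'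
  have hncw : ¬ Commute d w := fun hc => ((hwe' w).1 ⟨hw, hwd, hc⟩).2.1 rfl
  have hdv : Commute d v := (hve v hv).1 (Commute.refl v)
  have hwv : Commute w v := ((hwe' v).1 ⟨hv, hvd, hdv⟩).2.2
  exact hncw ((hve w hw).1 hwv.symm)

end Cfsg.Agent.S5348
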