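import Cfsg.Statements.S5359
import Cfsg.Agent.Lib.Fischer.ReflectMod3
import Cfsg.Agent.Lib.Orthogonal.OmegaIndex
import Cfsg.Agent.Lib.Orthogonal.Generation

set_option autoImplicit false
open scoped MatrixGroups
open Cfsg

namespace Cfsg.Agent.S5359
open Cfsg.Agent Cfsg.Agent.Fischer Cfsg.Agent.Fischer.Mod3 QuadraticMap Matrix

variable {n : ℕ} {Q : QuadraticForm (ZMod 3) (Fin n → ZMod 3)}

theorem select : ∀ d qd f₁ f₂ f₃ f₄ : ZMod 3, d ≠ 0 → qd ≠ 0 →
    ∃ a₁ a₂ a₃ a₄ : ZMod 3, a₁ * f₁ + a₂ * f₂ + a₃ * f₃ + a₄ * f₄ = 0 ∧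
      a₁ * a₁ * d + a₂ * a₂ * d + a₃ * a₃ * d + a₄ * a₄ * qd = d := by
  decide

/-- Two vectors have a common orthogonal vector of the norm of the first. -/
theorem common (hn : 5 ≤ n) (hQ : (QuadraticMap.polarBilin Q).Nondegenerate) {d : ZMod 3} (hd : d ≠ 0)
    {u : Fin n → ZMod 3} (hu : Q u = d) (v : Fin n → ZMod 3) :
    ∃ x, Q x = d ∧ polar (⇑Q) u x = 0 ∧ polar (⇑Q) v x = 0 := by
  obtain ⟨a, ha, qa⟩ := exists_value_perp hQ ![u] (by omega) (by intro i; fin_cases i; simp [hu, hd])
    (by intro i j hij; fin_cases i; fin_cases j; simp at hij) hd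
  obtain ⟨b, hb, qb⟩ := exists_value_perp hQ ![u, a] (by omega)
    (by intro i; fin_cases i <;> simp [hu, qa, hd])
    (by
      intro i j hij
      have h1 : polar (⇑Q) u a = 0 := by simpa using ha 0
      fin_cases i <;> fin_cases j <;> simp [h1, polar_comm (⇑Q) a u] at hij ⊢) hd
  have hua : polar (⇑Q) u a = 0 := by simpa using ha 0
  have hub : polar (⇑Q) u b = 0 := by simpa using hb 0
  have hab : polar (⇑Q) a b = 0 := by simpa using hb 1
  obtain ⟨e, he, qe⟩ := exists_value_perp hQ ![u, a, b] (by omega)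
    (by intro i; fin_cases i <;> simp [hu, qa, qb, hd])
    (by
      intro i j hij
      fin_cases i <;> fin_cases j <;>
        simp [hua, hub, hab, polar_comm (⇑Q) a u, polar_comm (⇑Q) b u, polar_comm (⇑Q) b a] at hij ⊢) hd
  have hue : polar (⇑Q) u e = 0 := by simpa using he 0
  have hae : polar (⇑Q) a e = 0 := by simpa using he 1
  have hbe : polar (⇑Q) b e = 0 := by simpa using he 2
  obtain ⟨g, hg, qg⟩ := exists_anisotropic_perp hQ ![u, a, b, e] (by omega)
    (by intro i; fin_cases i <;> simp [hu, qa, qb, qe, hd])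
    (by
      intro i j hij
      fin_cases i <;> fin_cases j <;>
        simp [hua, hub, hab, hue, hae, hbe, polar_comm (⇑Q) a u, polar_comm (⇑Q) b u, polar_comm (⇑Q) b a,
          polar_comm (⇑Q) e u, polar_comm (⇑Q) e a, polar_comm (⇑Q) e b] at hij ⊢)
  have hug : polar (⇑Q) u g = 0 := by simpa using hg 0
  have hag : polar (⇑Q) a g = 0 := by simpa using hg 1
  have hbg : polar (⇑Q) b g = 0 := by simpa using hg 2
  have heg : polar (⇑Q) e g = 0 := by simpa using hg 3
  obtain ⟨a₁, a₂, a₃, a₄, h1, h2⟩ :=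
    select d (Q g) (polar (⇑Q) v a) (polar (⇑Q) v b) (polar (⇑Q) v e) (polar (⇑Q) v g) hd qg
  refine ⟨a₁ • a + a₂ • b + a₃ • e + a₄ • g, ?_, ?_, ?_⟩
  · rw [QuadraticMap.map_add (⇑Q), QuadraticMap.map_add (⇑Q), QuadraticMap.map_add (⇑Q)]
    simp only [QuadraticMap.map_smul, polar_add_left, polar_smul_left, polar_smul_right, hab, hae, hbe, hag, hbg, heg,
      qa, qb, qe, smul_eq_mul, smul_zero, mul_zero, add_zero]
    exact h2
  · simp only [polar_add_right, polar_smul_right, hua, hub, hue, hug, smul_eq_mul, mul_zero, add_zero]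
  · simp only [polar_add_right, polar_smul_right, smul_eq_mul]
    exact h1

/-- Two orthogonal reflections of one norm are two of the other norm. -/
theorem pair_mem {c d : ZMod 3} (hc : c ≠ 0) (hd : d ≠ 0) (hcd : d + d = c) {u x : Fin n → ZMod 3}
    (hu : Q u = d) (hx : Q x = d) (hB : polar (⇑Q) u x = 0) :
    refl hd u hu * refl hd x hx ∈ Cfsg.reflectionSubgroup (⇑Q) c := by
  have h1 : Q (u + x) = c := by rw [QuadraticMap.map_add (⇑Q), hu, hx, hB, add_zero, hcd]
  have h2 : Q (u - x) = c := by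
    rw [sub_eq_add_neg, QuadraticMap.map_add (⇑Q), QuadraticMap.map_neg, polar_neg_right, hu, hx, hB, neg_zero,
      add_zero, hcd]
  have e : refl hd u hu * refl hd x hx = refl hc (u + x) h1 * refl hc (u - x) h2 := by
    refine Subtype.ext (Units.ext (matrix_ext fun w => ?_))
    show (Cfsg.reflectionMatrix (⇑Q) u * Cfsg.reflectionMatrix (⇑Q) x) *ᵥ w =
      (Cfsg.reflectionMatrix (⇑Q) (u + x) * Cfsg.reflectionMatrix (⇑Q) (u - x)) *ᵥ w
    rw [← mulVec_mulVec, ← mulVec_mulVec]
    simp only [refl_mulVec, hu, hx, h1, h2, inv_eq_self, polar_add_left, polar_sub_left, polar_sub_right,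
      polar_smul_right, polar_self, hB, polar_comm (⇑Q) x u, two_nsmul, smul_eq_mul, mul_zero, sub_zero, add_zero,
      zero_add]
    subst hcd
    ext i
    simp only [Pi.sub_apply, Pi.smul_apply, Pi.add_apply, smul_eq_mul]
    generalize polar (⇑Q) u w = p
    generalize polar (⇑Q) x w = r
    generalize w i = wi
    generalize u i = ui
    generalize x i = xi
    revert d
    intro d hd
    rcases (by decide : ∀ d : ZMod 3, d ≠ 0 → d = 1 ∨ d = 2) d hd with rfl | rfl <;> intros <;>
      revert p r wi ui xi <;> decide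
  rw [e]
  exact mul_mem (refl_mem hc h1) (refl_mem hc h2)

/-- Let Q be a non-degenerate quadratic form on the n-dimensional coordinate space over the field with three elements, n odd and at least 5, and c a non-zero scalar. Then the subgroup of the isometry group of Q generated by the reflections in vectors of norm c has index 2 in the isometry group. -/
theorem result (n : ℕ) (hn : 5 ≤ n) (hodd : Odd n) (Q : QuadraticForm (ZMod 3) (Fin n → ZMod 3)) (hQ : (QuadraticMap.polarBilin Q).Nondegenerate) (c : ZMod 3) (hc : c ≠ 0) : (Cfsg.reflectionSubgroup (⇑Q) c).index = 2 := by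
  set H := Cfsg.reflectionSubgroup (⇑Q) c with hH
  have hd : -c ≠ 0 := neg_ne_zero.2 hc
  have hdd : -c + -c = c := (by decide : ∀ a : ZMod 3, -a + -a = a) c
  have hnorm : ∀ v : Fin n → ZMod 3, Q v ≠ 0 → Q v = c ∨ Q v = -c := fun v hv =>
    (by decide : ∀ a b : ZMod 3, a ≠ 0 → b ≠ 0 → a = b ∨ a = -b) _ _ hv hc
  have hinv : ∀ {d : ZMod 3} (hd : d ≠ 0) {v} (hv : Q v = d), (refl hd v hv)⁻¹ = refl hd v hv :=
    fun hd _ hv => inv_eq_of_mul_eq_one_right (refl_mul_self hd hv)
  have hHn : H.Normal := ⟨fun h hh g => by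
    have hle : H ≤ H.comap (MulAut.conj g).toMonoidHom := by
      refine (Subgroup.closure_le _).2 fun r hr => ?_
      obtain ⟨v, hv, rfl⟩ := (mem_reflections_iff hc r).1 hr
      show g * refl hc v hv * g⁻¹ ∈ H
      rw [conj_refl hc g hv]
      exact refl_mem hc _
    exact hle hh⟩
  obtain ⟨u₀, hu₀⟩ := exists_norm hQ (by omega) hd
  set r0 := refl hd u₀ hu₀ with hr0
  have hr00 : r0 * r0 = 1 := refl_mul_self hd hu₀
  have hpair : ∀ u (hu : Q u = -c), refl hd u hu * r0 ∈ H := by
    intro u hu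
    obtain ⟨x, hx, hux, hvx⟩ := common hn hQ hd hu u₀
    have h1 := pair_mem hc hd hdd hu hx hux
    have h2 := pair_mem hc hd hdd hx hu₀ (by rw [polar_comm, hvx])
    have h3 := mul_mem h1 h2
    rwa [mul_assoc, ← mul_assoc (refl hd x hx), refl_mul_self hd hx, one_mul] at h3
  have hall : ∀ g, g ∈ H ∨ g * r0 ∈ H := by
    intro g
    have hg : g ∈ (⊤ : Subgroup ↥(Cfsg.isometryGroup (ZMod 3) (⇑Q))) := Subgroup.mem_top g
    rw [← Orth.closure_reflections_eq_top Q hQ (Or.inl (by simp))] at hg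
    have step : ∀ (v : Fin n → ZMod 3) (r g : ↥(Cfsg.isometryGroup (ZMod 3) (⇑Q))), Q v ≠ 0 →
        ((r : GL (Fin n) (ZMod 3)) : Matrix (Fin n) (Fin n) (ZMod 3)) = Cfsg.reflectionMatrix (⇑Q) v →
        (g ∈ H ∨ g * r0 ∈ H) → (r * g ∈ H ∨ r * g * r0 ∈ H) := by
      intro v r g hv hr ih
      rcases hnorm v hv with hvc | hvd
      · have hrH : r ∈ H := Subgroup.subset_closure ⟨v, hvc, hr⟩
        exact ih.imp (mul_mem hrH) fun h => by rw [mul_assoc]; exact mul_mem hrH h
      · obtain rfl : r = refl hd v hvd := Subtype.ext (Units.ext hr)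
        have hrr := hpair v hvd
        rcases ih with h | h
        · right
          rw [show refl hd v hvd * g * r0 = refl hd v hvd * r0 * (r0⁻¹ * g * r0⁻¹⁻¹) by group]
          exact mul_mem hrr (hHn.conj_mem g h _)
        · left
          rw [show refl hd v hvd * g = refl hd v hvd * r0 * (r0⁻¹ * (g * r0) * r0⁻¹) by group]
          refine mul_mem hrr ?_
          have := hHn.conj_mem _ h r0⁻¹
          have e0 : r0⁻¹ = r0 := hinv hd hu₀
          simpa only [e0, inv_inv] using this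
    induction hg using Subgroup.closure_induction_left with
    | one => exact Or.inl (one_mem H)
    | mul_left r hr g _ ih =>
      obtain ⟨v, hv, hr⟩ := hr
      exact step v r g hv hr ih
    | inv_mul_cancel r hr g _ ih =>
      obtain ⟨v, hv, hr⟩ := hr
      have hri : r⁻¹ = r := by
        rcases hnorm v hv with hvc | hvd
        · obtain rfl : r = refl hc v hvc := Subtype.ext (Units.ext hr)
          exact hinv hc hvc
        · obtain rfl : r = refl hd v hvd := Subtype.ext (Units.ext hr)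
          exact hinv hd hvd
      rw [hri]
      exact step v r g hv hr ih
  -- the spinor invariant separates
  obtain ⟨χ, -, -, hχ⟩ := Orth.exists_matrix_spinor Q hQ (by simp; omega) (Or.inl (by simp))
  obtain ⟨w, hw⟩ := exists_norm hQ (by omega) hc
  set e := Orth.reflVal Q w
  have hnot : r0 ∉ H := by
    intro h
    have hle : H ≤ (Subgroup.zpowers e).comap χ := by
      refine (Subgroup.closure_le _).2 ?_
      rintro r ⟨v, hv, hr⟩
      show χ r ∈ Subgroup.zpowers e
      rw [hχ r v (hv ▸ hc) hr, show Orth.reflVal Q v = e by simp only [e, Orth.reflVal, hv, hw]]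
      exact Subgroup.mem_zpowers e
    obtain ⟨k, hk⟩ := hle h
    have hk' : e ^ k = Orth.reflVal Q u₀ := hk.trans (hχ r0 u₀ (hu₀ ▸ hd) rfl)
    have he2 : e * e = 1 := Orth.reflVal_mul_self (hw ▸ hc)
    rcases Int.even_or_odd k with ⟨j, rfl⟩ | ⟨j, rfl⟩
    · rw [← two_mul, _root_.zpow_mul, show e ^ (2 : ℤ) = 1 by rw [zpow_two, he2], _root_.one_zpow] at hk'
      exact absurd (congrArg Prod.fst hk') (show (1 : Multiplicative (ZMod 2)) ≠ Multiplicative.ofAdd 1 by decide)
    · rw [_root_.zpow_add, _root_.zpow_mul, show e ^ (2 : ℤ) = 1 by rw [zpow_two, he2], _root_.one_zpow, one_mul, zpow_one] at hk'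
      have h1 := congrArg Prod.snd hk'
      simp only [e, Orth.reflVal, hw, hu₀] at h1
      have h2 := congrArg (fun a => Orth.sqc (ZMod 3) c * a) h1
      rw [Orth.sqc_mul_self hc, ← Orth.sqc_mul hc hd, eq_comm, Orth.sqc_eq_one_iff (mul_ne_zero hc hd)] at h2
      obtain ⟨s, hs⟩ := h2
      exact (by decide : ∀ c s : ZMod 3, c ≠ 0 → c * -c ≠ s * s) c s hc hs
  rw [Subgroup.index_eq_two_iff]
  refine ⟨r0, fun b => ?_⟩
  rcases hall b with h | h
  · exact Or.inr ⟨h, fun h' => hnot (by simpa using mul_mem (inv_mem h) h')⟩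
  · exact Or.inl ⟨h, fun h' => hnot (by simpa using mul_mem (inv_mem h') h)⟩

end Cfsg.Agent.S5359
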