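import Cfsg.Statements.S5360
import Cfsg.Agent.Lib.Fischer.Classes
import Cfsg.Agent.S5357

set_option autoImplicit false
open scoped MatrixGroups
open Cfsg

namespace Cfsg.Agent.S5360

open Cfsg.Agent.Fischer Cfsg.Agent.Fischer.Mod3 Cfsg.Agent QuadraticMap
open scoped Matrix commutatorElement


/-- Let Q be a non-degenerate quadratic form on the n-dimensional coordinate space over the field with three elements, n ≥ 5, c a non-zero scalar, and R the subgroup of the isometry group generated by the reflections of norm c. Then the commutator subgroup of R is quasisimple of index at most 2, the generalized Fitting subgroup of R is the product of the centre and the commutator subgroup, and R acts primitively by conjugation on its reflections of norm c. -/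
theorem result (n : ℕ) (hn : 5 ≤ n) (Q : QuadraticForm (ZMod 3) (Fin n → ZMod 3)) (hQ : (QuadraticMap.polarBilin Q).Nondegenerate) (c : ZMod 3) (hc : c ≠ 0) : Cfsg.IsQuasisimple (commutator ↥(Cfsg.reflectionSubgroup (⇑Q) c)) ∧ (commutator ↥(Cfsg.reflectionSubgroup (⇑Q) c)).index ≤ 2 ∧ Cfsg.generalizedFittingSubgroup ↥(Cfsg.reflectionSubgroup (⇑Q) c) = Subgroup.center ↥(Cfsg.reflectionSubgroup (⇑Q) c) ⊔ commutator ↥(Cfsg.reflectionSubgroup (⇑Q) c) ∧ Cfsg.IsPrimitiveUnderConj {g : ↥(Cfsg.reflectionSubgroup (⇑Q) c) | (g : ↥(Cfsg.isometryGroup (ZMod 3) (⇑Q))) ∈ Cfsg.reflectionsOfNorm (⇑Q) c} := by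
  haveI : Finite (Fin n → ZMod 3) := inferInstance
  haveI : Finite ↥(reflectionSubgroup (⇑Q) c) := inferInstance
  set D := {g : ↥(reflectionSubgroup (⇑Q) c) |
    (g : ↥(isometryGroup (ZMod 3) (⇑Q))) ∈ reflectionsOfNorm (⇑Q) c} with hDdef
  have hD : IsThreeTranspositionClass D := S5357.result n hn Q hQ c hc
  have hT := TClass.toGroup hD
  let ρ : ∀ v, Q v = c → ↥(reflectionSubgroup (⇑Q) c) := fun v hv => ⟨refl hc v hv, refl_mem hc hv⟩
  have hρD : ∀ v (hv : Q v = c), ρ v hv ∈ D := fun v hv => ⟨v, hv, rfl⟩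
  have hrep : ∀ g ∈ D, ∃ v, ∃ hv : Q v = c, g = ρ v hv := fun g hg => by
    obtain ⟨v, hv, h⟩ := (mem_reflections_iff hc _).1 hg
    exact ⟨v, hv, Subtype.ext h⟩
  have hcomm : ∀ u v (hu : Q u = c) (hv : Q v = c),
      Commute (ρ u hu) (ρ v hv) ↔ (v = u ∨ v = -u ∨ polar (⇑Q) u v = 0) := by
    intro u v hu hv
    have e : Commute (ρ u hu) (ρ v hv) ↔ Commute (refl hc u hu) (refl hc v hv) :=
      ⟨fun h => congrArg Subtype.val h.eq, fun h => Subtype.ext h.eq⟩
    rw [e]
    by_cases h1 : v = u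
    · subst h1; simp
    by_cases h2 : v = -u
    · rw [refl_congr hc hv hu (Or.inr h2)]
      simp [h2]
    rw [commute_refl_iff hc hu hv h1 h2]
    simp [h1, h2]
  have heq : ∀ u v (hu : Q u = c) (hv : Q v = c), polar (⇑Q) u v = 0 → ρ u hu ≠ ρ v hv := by
    intro u v hu hv hB h
    have h1 := congrArg (fun g : ↥(isometryGroup (ZMod 3) (⇑Q)) =>
      ((g : GL (Fin n) (ZMod 3)) : Matrix (Fin n) (Fin n) (ZMod 3)) *ᵥ v) (congrArg Subtype.val h)
    change reflectionMatrix (⇑Q) u *ᵥ v = reflectionMatrix (⇑Q) v *ᵥ v at h1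
    rw [refl_self (hv ▸ hc), refl_mulVec, hB, mul_zero, zero_smul, sub_zero] at h1
    have : v = 0 := funext fun i => by
      have := congrFun h1 i
      simp only [Pi.neg_apply] at this
      exact (by decide : ∀ a : ZMod 3, a = -a → a = 0) _ this
    rw [this, QuadraticMap.map_zero] at hv
    exact hc hv.symm
  have h2c : c + c ≠ 0 := (by decide : ∀ a : ZMod 3, a ≠ 0 → a + a ≠ 0) _ hc
  -- for non-orthogonal vectors of norm c: an isotropic part and a dual vector
  have hdual : ∀ u v, Q u = c → Q v = c → polar (⇑Q) u v ≠ 0 → v ≠ u → v ≠ -u →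
      ∃ a : ZMod 3, ∃ w t, a ≠ 0 ∧ v = a • u + w ∧ Q w = 0 ∧ polar (⇑Q) u w = 0 ∧
        polar (⇑Q) u t = 0 ∧ polar (⇑Q) w t ≠ 0 := by
    intro u v hu hv hB h1 h2
    set a := (c + c)⁻¹ * polar (⇑Q) u v with ha
    have ha0 : a ≠ 0 := mul_ne_zero (inv_ne_zero h2c) hB
    have hself : polar (⇑Q) u u = c + c := by rw [polar_self, hu, two_nsmul]
    have huw : polar (⇑Q) u (v - a • u) = 0 := by
      rw [polar_sub_right, polar_smul_right, hself, smul_eq_mul, ha,
        mul_comm, ← mul_assoc, mul_inv_cancel₀ h2c, one_mul, sub_self]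
    have hw0 : v - a • u ≠ 0 := fun h => by
      rw [sub_eq_zero] at h
      rcases (by decide : ∀ a : ZMod 3, a ≠ 0 → a = 1 ∨ a = -1) a ha0 with e | e <;> rw [e] at h
      · exact h1 (by simpa using h)
      · exact h2 (by simpa using h)
    have hQw : Q (v - a • u) = 0 := by
      rw [map_sub_smul, hu, hv, ha]
      exact (by decide : ∀ c B : ZMod 3, c ≠ 0 → B ≠ 0 →
        c + (c + c) * B * ((c + c) * B) * c - (c + c) * B * B = 0) c _ hc hB |> fun h => by
          rwa [inv_eq_self]
    obtain ⟨y, hy⟩ : ∃ y, polar (⇑Q) (v - a • u) y ≠ 0 := by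
      by_contra h
      push Not at h
      exact hw0 (hQ.1 _ h)
    refine ⟨a, v - a • u, y - ((c + c)⁻¹ * polar (⇑Q) u y) • u, ha0, (add_sub_cancel _ _).symm,
      hQw, huw, ?_, ?_⟩
    · rw [polar_sub_right, polar_smul_right, hself, smul_eq_mul, mul_comm, ← mul_assoc,
        mul_inv_cancel₀ h2c, one_mul, sub_self]
    · rw [polar_sub_right, polar_smul_right, polar_comm (⇑Q) _ u, huw]
      simpa using hy
  obtain ⟨u₀, hu₀⟩ := exists_norm hQ (by omega) hc
  obtain ⟨v₀, hv₀', hv₀⟩ := exists_value_perp hQ ![u₀] (by omega)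
    (by intro i; fin_cases i; simp [hu₀, hc]) (by intro i j hij; fin_cases i; fin_cases j; simp at hij)
    hc
  have hB₀ : polar (⇑Q) u₀ v₀ = 0 := by simpa using hv₀' 0
  have hD2 : ∃ a ∈ D, ∃ b ∈ D, a ≠ b := ⟨_, hρD u₀ hu₀, _, hρD v₀ hv₀, heq _ _ hu₀ hv₀ hB₀⟩
  have h2 : pCore 2 ↥(reflectionSubgroup (⇑Q) c) ≤ Subgroup.center _ := by
    haveI := Cfsg.pCore_normal 2 ↥(reflectionSubgroup (⇑Q) c)
    intro g hg
    refine mem_center_of_commute_gen hD.2.2 fun d hd => ?_
    have h := mul_conj_mem (d := d) hg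
    rw [TSet.inv hD.1 hd] at h
    refine mul_inv_eq_iff_eq_mul.1 (?_ : g * d * g⁻¹ = d)
    have hS := (sameComm_iff hT hd).2 ⟨hT.2.1 g d hd, h⟩
    by_contra hne
    obtain ⟨u, hu, rfl⟩ := hrep d hd
    obtain ⟨v, hv, hve⟩ := hrep _ hS.1
    rw [hve] at hS hne
    have hB : polar (⇑Q) u v = 0 := by
      rcases (hcomm u v hu hv).1 hS.commute with e | e | e
      · subst e; exact absurd rfl hne
      · exact absurd (Subtype.ext (refl_congr hc hv hu (Or.inr e))) hne
      · exact e
    obtain ⟨z₁, hz₁, hq₁⟩ := exists_value_perp hQ ![u, v] (by omega)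
      (by intro i; fin_cases i <;> simp [hu, hv, hc])
      (by intro i j hij; fin_cases i <;> fin_cases j <;> simp [hB, polar_comm (⇑Q) v u] at hij ⊢) hc
    have a1 : polar (⇑Q) u z₁ = 0 := by simpa using hz₁ 0
    have a2 : polar (⇑Q) v z₁ = 0 := by simpa using hz₁ 1
    obtain ⟨z₂, hz₂, hq₂⟩ := exists_value_perp hQ ![u, v, z₁] (by omega)
      (by intro i; fin_cases i <;> simp [hu, hv, hq₁, hc])
      (by
        intro i j hij
        fin_cases i <;> fin_cases j <;>
          simp [hB, polar_comm (⇑Q) v u, a1, a2, polar_comm (⇑Q) z₁ u, polar_comm (⇑Q) z₁ v]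
            at hij ⊢)
      (neg_ne_zero.2 hc)
    have b1 : polar (⇑Q) u z₂ = 0 := by simpa using hz₂ 0
    have b2 : polar (⇑Q) v z₂ = 0 := by simpa using hz₂ 1
    have b3 : polar (⇑Q) z₁ z₂ = 0 := by simpa using hz₂ 2
    set e := u + (z₁ + z₂) with hedef
    have he : Q e = c := by
      rw [hedef, QuadraticMap.map_add (⇑Q), QuadraticMap.map_add (⇑Q) z₁, polar_add_right, a1, b1, b3, hu, hq₁, hq₂]
      ring
    have hve' : polar (⇑Q) v e = 0 := by
      rw [hedef, polar_add_right, polar_add_right, polar_comm (⇑Q) v u, hB, a2, b2]; ring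
    have hnu : ¬ Commute (ρ u hu) (ρ e he) := by
      rw [hcomm]
      rintro (h | h | h)
      · have := congrArg (polar (⇑Q) z₁) h
        rw [hedef, polar_add_right, polar_add_right, polar_comm (⇑Q) z₁ u, a1, polar_self, b3, hq₁,
          two_nsmul] at this
        simp [h2c] at this
      · have := congrArg (polar (⇑Q) z₁) h
        rw [hedef, polar_neg_right, polar_add_right, polar_add_right, polar_comm (⇑Q) z₁ u, a1,
          polar_self, b3, hq₁, two_nsmul] at this
        simp [h2c] at this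
      · rw [hedef, polar_add_right, polar_add_right, a1, b1, polar_self, hu, two_nsmul] at h
        simp [h2c] at h
    exact hnu ((hS.2 _ (hρD e he)).1 ((hcomm v e hv he).2 (Or.inr (Or.inr hve'))))
  have h3 : pCore 3 ↥(reflectionSubgroup (⇑Q) c) ≤ Subgroup.center _ := by
    haveI := Cfsg.pCore_normal 3 ↥(reflectionSubgroup (⇑Q) c)
    intro g hg
    refine mem_center_of_commute_gen hD.2.2 fun d hd => ?_
    have h := mul_conj_mem (d := d) hg
    rw [TSet.inv hD.1 hd] at h
    refine mul_inv_eq_iff_eq_mul.1 (?_ : g * d * g⁻¹ = d)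
    have hW := (sameNbr_iff hT hd).2 ⟨hT.2.1 g d hd, h⟩
    by_contra hne
    obtain ⟨u, hu, rfl⟩ := hrep d hd
    obtain ⟨v, hv, hve⟩ := hrep _ hW.1
    rw [hve] at hW hne
    have hnc := hW.not_commute hne
    rw [hcomm] at hnc
    push Not at hnc
    obtain ⟨a, w, t, ha, hvw, hQw, huw, hut, hwt⟩ := hdual u v hu hv hnc.2.2 hnc.1 hnc.2.1
    set y := t - ((polar (⇑Q) w t)⁻¹ * (Q t - c)) • w with hy
    have hQy : Q y = c := by
      rw [hy, map_sub_smul, hQw]
      field_simp
      ring
    have huy : polar (⇑Q) u y = 0 := by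
      rw [hy, polar_sub_right, polar_smul_right, hut, huw]; simp
    have hww : polar (⇑Q) w w = 0 := by rw [polar_self, hQw]; simp
    have hwy : polar (⇑Q) w y ≠ 0 := by
      rw [hy, polar_sub_right, polar_smul_right, hww]
      simpa using hwt
    have h1 := ((hW.2 _ (hρD y hQy)).1 ⟨(heq u y hu hQy huy).symm,
      (hcomm u y hu hQy).2 (Or.inr (Or.inr huy))⟩).2
    rcases (hcomm v y hv hQy).1 h1 with e | e | e
    · rw [e] at huy; exact hnc.2.2 huy
    · rw [e, polar_neg_right, neg_eq_zero] at huy; exact hnc.2.2 huy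
    · rw [hvw, polar_add_left, polar_smul_left, huy, smul_zero, zero_add] at e
      exact hwy e
  have hconn : (commutingGraph D).Connected := by
    haveI : Nonempty D := ⟨⟨_, hρD u₀ hu₀⟩⟩
    refine ⟨fun ⟨x, hx⟩ ⟨y, hy⟩ => ?_⟩
    obtain ⟨u, hu, rfl⟩ := hrep x hx
    obtain ⟨v, hv, rfl⟩ := hrep y hy
    have adj : ∀ p q (hp : Q p = c) (hq : Q q = c), polar (⇑Q) p q = 0 →
        (commutingGraph D).Adj ⟨ρ p hp, hρD p hp⟩ ⟨ρ q hq, hρD q hq⟩ := by
      intro p q hp hq hB
      rw [commutingGraph, SimpleGraph.fromRel_adj]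
      exact ⟨fun h => heq p q hp hq hB (congrArg Subtype.val h),
        Or.inl ((hcomm p q hp hq).2 (Or.inr (Or.inr hB)))⟩
    by_cases h12 : v = u ∨ v = -u
    · have : ρ v hv = ρ u hu := Subtype.ext (refl_congr hc hv hu h12)
      simp only [this]
      exact SimpleGraph.Reachable.refl _
    by_cases hB : polar (⇑Q) u v = 0
    · exact (adj u v hu hv hB).reachable
    push Not at h12
    obtain ⟨a, w, t, ha, hvw, hQw, huw, hut, hwt⟩ := hdual u v hu hv hB h12.1 h12.2
    set h := t - ((polar (⇑Q) w t)⁻¹ * Q t) • w with hh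
    have hww : polar (⇑Q) w w = 0 := by rw [polar_self, hQw]; simp
    have hQh : Q h = 0 := by
      rw [hh, map_sub_smul, hQw]
      field_simp
      ring
    have huh : polar (⇑Q) u h = 0 := by
      rw [hh, polar_sub_right, polar_smul_right, hut, huw]; simp
    have hwh : polar (⇑Q) w h ≠ 0 := by
      rw [hh, polar_sub_right, polar_smul_right, hww]; simpa using hwt
    clear_value h
    clear hh
    have q1 : Q (h + w) = polar (⇑Q) w h := by
      rw [QuadraticMap.map_add (⇑Q), hQh, hQw, polar_comm (⇑Q) h w]; ring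
    have q2 : Q (h - w) = -polar (⇑Q) w h := by
      rw [sub_eq_add_neg, QuadraticMap.map_add (⇑Q), QuadraticMap.map_neg, hQh, hQw,
        polar_neg_right, polar_comm (⇑Q) h w]; ring
    have p12 : polar (⇑Q) (h + w) (h - w) = 0 := by
      rw [polar_add_left, polar_sub_right, polar_sub_right, polar_self, hQh, hww,
        polar_comm (⇑Q) h w]; simp
    have p01 : polar (⇑Q) u (h + w) = 0 := by rw [polar_add_right, huh, huw, add_zero]
    have p02 : polar (⇑Q) u (h - w) = 0 := by rw [polar_sub_right, huh, huw, sub_zero]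
    obtain ⟨y, hy, hQy⟩ := exists_value_perp hQ ![u, h + w, h - w] (by omega)
      (by intro i; fin_cases i <;> simp [hu, hc, q1, q2, hwh])
      (by
        intro i j hij
        fin_cases i <;> fin_cases j <;> simp [p01, p02, p12, polar_comm (⇑Q) (h + w) u,
          polar_comm (⇑Q) (h - w) u, polar_comm (⇑Q) (h - w) (h + w)] at hij ⊢)
      hc
    have e0 : polar (⇑Q) u y = 0 := by simpa using hy 0
    have e1 : polar (⇑Q) (h + w) y = 0 := by simpa using hy 1
    have e2 : polar (⇑Q) (h - w) y = 0 := by simpa using hy 2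
    have ew : polar (⇑Q) w y = 0 := by
      rw [polar_add_left] at e1
      rw [polar_sub_left] at e2
      exact (by decide : ∀ p q : ZMod 3, p + q = 0 → p - q = 0 → q = 0) _ _ e1 e2
    have evy : polar (⇑Q) y v = 0 := by
      rw [polar_comm (⇑Q) y v, hvw, polar_add_left, polar_smul_left, e0, ew]; simp
    exact (adj u y hu hQy e0).reachable.trans (adj y v hQy hv evy).reachable
  obtain ⟨L, hL⟩ := TClass.exists_component hD hD2 h2 h3
  have hidx := TClass.index_le_two_of_connected hD hL hconn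
  haveI := component_normal hT hL
  have hcommL : commutator ↥(reflectionSubgroup (⇑Q) c) = L := by
    refine le_antisymm ?_ ?_
    · rw [commutator_def, Subgroup.commutator_le]
      intro x _ y _
      rw [← QuotientGroup.eq_one_iff]
      have hcm : ∀ p q : ↥(reflectionSubgroup (⇑Q) c) ⧸ L, p * q = q * p := by
        have : Nat.card (↥(reflectionSubgroup (⇑Q) c) ⧸ L) ≤ 2 := hidx
        intro p q
        by_cases hp : p = 1
        · simp [hp]
        by_cases hq : q = 1
        · simp [hq]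
        by_cases hpq : p = q
        · rw [hpq]
        exfalso
        have : ({1, p, q} : Set (↥(reflectionSubgroup (⇑Q) c) ⧸ L)).ncard ≤
            Nat.card (↥(reflectionSubgroup (⇑Q) c) ⧸ L) := by
          rw [← Set.ncard_univ]
          exact Set.ncard_le_ncard (Set.subset_univ _) Set.finite_univ
        rw [Set.ncard_insert_of_notMem (by simp [Ne.symm hp, Ne.symm hq]) (Set.toFinite _),
          Set.ncard_pair hpq] at this
        omega
      show (QuotientGroup.mk' L) (x * y * x⁻¹ * y⁻¹) = 1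
      simp only [map_mul, map_inv]
      rw [hcm ((QuotientGroup.mk' L) x), mul_inv_cancel_right, mul_inv_cancel]
    · rw [← Components.component_commutator_eq hL, commutator_def]
      exact Subgroup.commutator_mono le_top le_top
  rw [hcommL]
  exact ⟨hL.2, hidx, by rw [sup_comm]; exact TClass.generalizedFitting_eq hD h2 h3 hL,
    TClass.primitive_of_index hD hD2 h2 h3 hL hidx⟩

end Cfsg.Agent.S5360
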