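import Cfsg.Statements.S0817
import Cfsg.Agent.Lib.AutBalance.FieldBase
import Cfsg.Agent.Lib.AutPOmega.OutPlus
import Cfsg.Agent.Lib.AutPOmega.D4Out
import Cfsg.Agent.Lib.AutPOmega.PlusDiag
-- import your own Cfsg.Agent.* helpers here

set_option autoImplicit false
open Cfsg

namespace Cfsg.Agent.S0817


open Cfsg.Agent Matrix

set_option maxHeartbeats 1600000 in
/-- |Aut(PΩ⁺_2m(q))| for q = p^f, m ≥ 4: |PΩ⁺_2m(q)| times f, times 3 when m = 4, times 2 if p = 2, and times 8 or 4 if p is odd according as m(q−1)/2 is even or odd. -/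
theorem result {F : Type*} [Field F] [Fintype F] (p f : ℕ) [Fact p.Prime] (hf : 1 ≤ f) (hF : Fintype.card F = p ^ f) (m : ℕ) (hm : 4 ≤ m) : Nat.card (MulAut (Cfsg.POmega F (Cfsg.quadFormPlus m F))) = (if m = 4 then 3 else 1) * (if p = 2 then 2 else (if Even (m * (p ^ f - 1) / 2) then 8 else 4)) * f * Nat.card (Cfsg.POmega F (Cfsg.quadFormPlus m F)) := by
  have hZ : Subgroup.center (Cfsg.POmega F (Cfsg.quadFormPlus m F)) = ⊥ := by
    have h := AutBalance.center_eq_bot_par (AutPOmega.par_plus (F := F) hm)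
    rwa [Orth.coe_qPlus] at h
  have hinn : Nat.card ↥(Cfsg.Inn (Cfsg.POmega F (Cfsg.quadFormPlus m F))) =
      Nat.card (Cfsg.POmega F (Cfsg.quadFormPlus m F)) := by
    refine (Nat.card_congr (MonoidHom.ofInjective
      (f := (MulAut.conj : Cfsg.POmega F (Cfsg.quadFormPlus m F) →* MulAut _)) fun a b h => ?_).toEquiv).symm
    have hz : b⁻¹ * a ∈ Subgroup.center (Cfsg.POmega F (Cfsg.quadFormPlus m F)) := by
      rw [Subgroup.mem_center_iff]
      intro g
      have := DFunLike.congr_fun h g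
      simp only [MulAut.conj_apply] at this
      calc g * (b⁻¹ * a) = b⁻¹ * (b * g * b⁻¹) * a := by group
        _ = b⁻¹ * (a * g * a⁻¹) * a := by rw [this]
        _ = b⁻¹ * a * g := by group
    rw [hZ, Subgroup.mem_bot, inv_mul_eq_one] at hz
    exact hz.symm
  obtain ⟨hp2⟩ := ‹Fact p.Prime›
  obtain ⟨eF⟩ := AutPSL.exists_ringAut_equiv (F := F) p f hF
  haveI : NeZero f := ⟨by omega⟩
  have hcf : Nat.card (F ≃+* F) = f := by
    rw [Nat.card_congr eF.toEquiv, Nat.card_eq_fintype_card, Fintype.card_multiplicative, ZMod.card]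
  have hout : Nat.card (Cfsg.Out (Cfsg.POmega F (Cfsg.quadFormPlus m F))) = (if m = 4 then 3 else 1) *
      (if p = 2 then 2 else (if Even (m * (p ^ f - 1) / 2) then 8 else 4)) * f := by
    by_cases h4 : m = 4
    · subst h4
      rw [if_pos rfl]
      obtain ⟨E, -⟩ := AutPOmega.D4.exists_bridge F
      obtain ⟨e1⟩ := AutPOmega.D4.out_congr E.symm
      rw [Nat.card_congr e1.toEquiv]
      by_cases hp : p = 2
      · subst hp
        haveI : CharP F 2 := charP_of_card_eq_prime_pow (R := F) hF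
        obtain ⟨e2⟩ := AutPOmega.D4.out_char_two (F := F) (ringChar.eq F 2)
        rw [if_pos rfl, Nat.card_congr e2.toEquiv, Nat.card_prod, hcf, Nat.card_perm, Nat.card_fin]
        rfl
      · obtain ⟨e2⟩ := AutPOmega.D4.out_odd (F := F)
          (Agent.Orth.two_ne_zero_of_odd (hF ▸ (hp2.odd_of_ne_two hp).pow))
        rw [if_neg hp, if_pos (by rw [show 4 * (p ^ f - 1) / 2 = 2 * (p ^ f - 1) by omega]; exact even_two_mul _),
          Nat.card_congr e2.toEquiv, Nat.card_prod, hcf, Nat.card_perm, Nat.card_fin]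
        rfl
    · rw [if_neg h4, one_mul]
      by_cases hp : p = 2
      · subst hp
        obtain ⟨e⟩ := AutPOmega.out_plus_char_two (F := F) (m := m) (by omega) hF
        rw [if_pos rfl, Nat.card_congr e.toEquiv]
        simp [Nat.card_prod, Nat.card_eq_fintype_card, Fintype.card_multiplicative]
      · obtain ⟨hA, hB⟩ := AutPOmega.out_plus_odd (F := F) (m := m) (by omega) hp hF
        obtain ⟨t, ht⟩ : Odd (p ^ f) := (hp2.odd_of_ne_two hp).pow
        have e : m * (p ^ f - 1) / 2 = m * t := by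
          rw [ht, Nat.add_sub_cancel, Nat.mul_left_comm]; omega
        have hpar : Even (m * (p ^ f - 1) / 2) ↔ ¬ (p ^ f % 4 = 3 ∧ Odd m) := by
          rw [e, Nat.even_mul, Nat.even_iff, Nat.even_iff, Nat.odd_iff]
          omega
        rw [if_neg hp]
        by_cases hc : p ^ f % 4 = 3 ∧ Odd m
        · obtain ⟨e⟩ := hA hc
          rw [if_neg (fun h => hpar.1 h hc), Nat.card_congr e.toEquiv]
          simp [Nat.card_prod, Nat.card_eq_fintype_card, Fintype.card_multiplicative]
        · obtain ⟨e⟩ := hB hc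
          rw [if_pos (hpar.2 hc), Nat.card_congr e.toEquiv]
          simp [Nat.card_prod, Nat.card_eq_fintype_card, Fintype.card_multiplicative, DihedralGroup.card]
  rw [Subgroup.card_eq_card_quotient_mul_card_subgroup (Cfsg.Inn (Cfsg.POmega F (Cfsg.quadFormPlus m F))),
    hinn]
  rw [← hout]

end Cfsg.Agent.S0817
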