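import Cfsg.Statements.S5354
import Cfsg.Agent.Lib.Fischer.Classes

set_option autoImplicit false
open Cfsg

namespace Cfsg.Agent.S5354

open Cfsg.Agent.Fischer Cfsg.Agent


/-- Let D be a conjugation-invariant generating set of 3-transpositions of the finite group G on which G acts primitively by conjugation, and suppose two different members of D commute (width at least 2). Then G has a quasisimple normal subgroup L of index at most 2 with the generalized Fitting subgroup of G equal to L times the centre, the commuting graph of D is connected, and for d in D the subgroup generated by the members of D commuting with d is a maximal D-subgroup: it is proper, and every subgroup generated by members of D that contains it is either it or G. -/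
theorem result {G : Type*} [Group G] [Finite G] {D : Set G} (hD : Cfsg.IsThreeTranspositionGroup D) (hprim : Cfsg.IsPrimitiveUnderConj D) (hw : ∃ a ∈ D, ∃ b ∈ D, a ≠ b ∧ Commute a b) : (∃ L : Subgroup G, L.Normal ∧ Cfsg.IsQuasisimple L ∧ L.index ≤ 2 ∧ Cfsg.generalizedFittingSubgroup G = L ⊔ Subgroup.center G) ∧ (Cfsg.commutingGraph D).Connected ∧ ∀ d ∈ D, Subgroup.closure {y : G | y ∈ D ∧ Commute d y} ≠ ⊤ ∧ ∀ H : Subgroup G, Cfsg.IsDSubgroup D H → Subgroup.closure {y : G | y ∈ D ∧ Commute d y} ≤ H → H = Subgroup.closure {y : G | y ∈ D ∧ Commute d y} ∨ H = ⊤ := by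
  have hC := toClass hD hprim
  have h2 := prim_pCore_two hD hprim
  have h3 := prim_pCore_three hD hprim hw
  have hconn := prim_connected hD hprim hw
  obtain ⟨L, hL⟩ := TClass.exists_component hC hprim.2.1 h2 h3
  refine ⟨⟨L, component_normal hD hL, hL.2, TClass.index_le_two_of_connected hC hL hconn,
    TClass.generalizedFitting_eq hC h2 h3 hL⟩, hconn, fun d hd => ⟨fun htop => ?_, fun H hH hle => ?_⟩⟩
  · obtain ⟨c, hc, hdc⟩ := TClass.exists_not_commute hC hprim.2.1 hd
    refine hdc (commute_of_mem_commClosure (D := D) (d := d) ?_).symm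
    show c ∈ Subgroup.closure _
    rw [htop]; trivial
  by_cases hall : ∀ y ∈ D, y ∈ H → Commute d y
  · left
    refine le_antisymm ?_ hle
    rw [← hH]
    exact Subgroup.closure_mono fun y hy => ⟨hy.1, hall y hy.1 hy.2⟩
  · right
    push Not at hall
    obtain ⟨c, hc, hcH, hdc⟩ := hall
    rw [eq_top_iff, ← hD.2.2, Subgroup.closure_le]
    intro x hx
    by_cases hdx : Commute d x
    · exact hle (Subgroup.subset_closure ⟨hx, hdx⟩)
    · obtain ⟨m, hm, rfl⟩ := prim_trans_noncommuting hD hprim hw hd c hc x hx hdc hdx
      exact mul_mem (mul_mem (hle hm) hcH) (inv_mem (hle hm))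

end Cfsg.Agent.S5354
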