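import Cfsg.Statements.S5515
import Cfsg.Agent.Lib.AutBalance.FieldBase
import Cfsg.Agent.Lib.AutPOmega.D4Out
import Cfsg.Agent.Lib.AutPOmega.PlusDiag
import Cfsg.Agent.Lib.Components.FStar
import Mathlib
-- import your own Cfsg.Agent.* helpers here

set_option autoImplicit false
open Cfsg

namespace Cfsg.Agent.S5515

/-- An element of order 3 of `S₄` normalised by `τ`: `τ` fixes its fixed point. -/
theorem perm_fix : ∀ σ τ : Equiv.Perm (Fin 4), σ ^ 3 = 1 → σ ≠ 1 →
    τ * σ * τ⁻¹ = σ ∨ τ * σ * τ⁻¹ = σ⁻¹ → ∀ x, σ x = x → τ x = x := by decide +kernel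

theorem perm_exists_fix : ∀ σ : Equiv.Perm (Fin 4), σ ^ 3 = 1 → ∃ x, σ x = x := by decide +kernel

/-- A subgroup of order six of `S₄` is a point stabiliser. -/
theorem exists_stab (A : Subgroup (Equiv.Perm (Fin 4))) (hA : Nat.card A = 6) :
    ∃ x : Fin 4, A = MulAction.stabilizer (Equiv.Perm (Fin 4)) x := by
  haveI : Fact (Nat.Prime 3) := ⟨Nat.prime_three⟩
  obtain ⟨s, hs⟩ := exists_prime_orderOf_dvd_card' (G := A) 3 (by rw [hA]; norm_num)
  have hs' : orderOf (s : Equiv.Perm (Fin 4)) = 3 := by rw [Subgroup.orderOf_coe, hs]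
  have h3 : (s : Equiv.Perm (Fin 4)) ^ 3 = 1 := by rw [← hs', pow_orderOf_eq_one]
  have h1 : (s : Equiv.Perm (Fin 4)) ≠ 1 := fun h => by rw [h, orderOf_one] at hs'; omega
  obtain ⟨x, hx⟩ := perm_exists_fix _ h3
  have hn : (Subgroup.zpowers s).Normal := by
    refine Subgroup.normal_of_index_eq_two ?_
    have := Subgroup.card_mul_index (Subgroup.zpowers s)
    rw [Nat.card_zpowers, hs, hA] at this
    omega
  refine ⟨x, Subgroup.eq_of_le_of_card_ge (fun t ht => ?_) ?_⟩
  · rw [MulAction.mem_stabilizer_iff, Equiv.Perm.smul_def]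
    refine perm_fix _ t h3 h1 ?_ x hx
    have hm := hn.conj_mem s (Subgroup.mem_zpowers s) ⟨t, ht⟩
    rw [mem_zpowers_iff_mem_range_orderOf, hs] at hm
    simp only [Finset.mem_image, Finset.mem_range] at hm
    obtain ⟨k, hk, he⟩ := hm
    have he' : (s : Equiv.Perm (Fin 4)) ^ k = t * s * t⁻¹ := by
      have := congrArg Subtype.val he
      simpa using this
    interval_cases k
    · exfalso
      rw [pow_zero] at he'
      exact h1 (by simpa using he'.symm)
    · left; rw [← he', pow_one]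
    · right
      rw [← he']
      refine (inv_eq_of_mul_eq_one_right ?_).symm
      rw [← pow_succ', h3]
  · rw [hA, Nat.card_eq_fintype_card]
    have : ∀ y : Fin 4, Fintype.card (MulAction.stabilizer (Equiv.Perm (Fin 4)) y) = 6 := by decide +kernel
    rw [this]

theorem six_conj (A B : Subgroup (Equiv.Perm (Fin 4))) (hA : Nat.card A = 6) (hB : Nat.card B = 6) :
    ∃ g : Equiv.Perm (Fin 4), B = A.map (MulAut.conj g).toMonoidHom := by
  obtain ⟨x, rfl⟩ := exists_stab A hA
  obtain ⟨y, rfl⟩ := exists_stab B hB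
  refine ⟨Equiv.swap x y, ?_⟩
  rw [← MulAction.stabilizer_smul_eq_stabilizer_map_conj, Equiv.Perm.smul_def, Equiv.swap_apply_left]

/-- An embedding into the automorphism group of the socle, with its image. -/
theorem exists_embed {G S : Type*} [Group G] [Finite G] [Group S] (hZ : Subgroup.center S = ⊥)
    [hn : (Cfsg.generalizedFittingSubgroup G).Normal]
    (e : ↥(Cfsg.generalizedFittingSubgroup G) ≃* S)
    (hq : Nonempty (G ⧸ Cfsg.generalizedFittingSubgroup G ≃* Equiv.Perm (Fin 3))) :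
    ∃ I : Subgroup (MulAut S), Nonempty (G ≃* I) ∧ Cfsg.Inn S ≤ I ∧
      Nat.card (I.map (QuotientGroup.mk' (Cfsg.Inn S))) = 6 := by
  obtain ⟨q⟩ := hq
  set F := Cfsg.generalizedFittingSubgroup G with hF
  let φ : G →* MulAut S := (MulAut.congr e).toMonoidHom.comp (MulAut.conjNormal (H := F))
  have hker : ∀ g, φ g = 1 → g = 1 := fun g hg => by
    have hg' : (MulAut.conjNormal (H := F) g) = 1 :=
      (MulAut.congr e).injective (hg.trans (map_one _).symm)
    have hc : g ∈ Subgroup.centralizer (F : Set G) := by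
      refine Subgroup.mem_centralizer_iff.2 fun x hx => ?_
      have h := congrArg Subtype.val (DFunLike.congr_fun hg' ⟨x, hx⟩)
      rw [MulAut.conjNormal_apply, MulAut.one_apply] at h
      calc x * g = g * x * g⁻¹ * g := by rw [h]
        _ = g * x := by group
    have hgF := Cfsg.Agent.Components.centralizer_generalizedFitting_le hc
    have hz : e ⟨g, hgF⟩ ∈ Subgroup.center S := by
      rw [Subgroup.mem_center_iff]
      intro y
      obtain ⟨z, rfl⟩ := e.surjective y
      rw [← map_mul, ← map_mul]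
      exact congrArg e (Subtype.ext (Subgroup.mem_centralizer_iff.1 hc z z.2))
    rw [hZ, Subgroup.mem_bot, MulEquiv.map_eq_one_iff] at hz
    exact congrArg Subtype.val hz
  have hinj : Function.Injective φ := (injective_iff_map_eq_one φ).2 hker
  have hinn : ∀ x : F, φ x = MulAut.conj (e x) := fun x => MulEquiv.ext fun y => by
    obtain ⟨z, rfl⟩ := e.surjective y
    show e (MulAut.conjNormal (x : G) (e.symm (e z))) = e x * e z * (e x)⁻¹
    rw [e.symm_apply_apply, ← map_inv e, ← map_mul, ← map_mul]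
    exact congrArg e (Subtype.ext rfl)
  refine ⟨φ.range, ⟨MonoidHom.ofInjective hinj⟩, ?_, ?_⟩
  · rintro _ ⟨y, rfl⟩
    exact ⟨(e.symm y : G), by rw [hinn, e.apply_symm_apply]⟩
  · have hk : ((QuotientGroup.mk' (Cfsg.Inn S)).comp φ).ker = F := by
      ext g
      rw [MonoidHom.mem_ker, MonoidHom.comp_apply, QuotientGroup.mk'_apply, QuotientGroup.eq_one_iff]
      constructor
      · rintro ⟨y, hy⟩
        have : φ ((e.symm y : G)⁻¹ * g) = 1 := by
          rw [map_mul, map_inv, hinn, e.apply_symm_apply, ← hy, inv_mul_cancel]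
        rw [← inv_mul_eq_one.1 (hker _ this)]
        exact (e.symm y).2
      · intro hg
        exact ⟨e ⟨g, hg⟩, (hinn ⟨g, hg⟩).symm⟩
    rw [MonoidHom.map_range, ← Subgroup.index_ker, hk, Subgroup.index_eq_card, Nat.card_congr q.toEquiv,
      Nat.card_perm, Nat.card_fin]
    rfl


/-- Two overgroups of the inner automorphisms with images of order six are conjugate, when the
outer automorphism group is `S₄`. -/
theorem conj_of_six {S : Type*} [Group S] (f : Cfsg.Out S →* Equiv.Perm (Fin 4))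
    (hf : Function.Injective f) (hsur : Function.Surjective f) (I I' : Subgroup (MulAut S))
    (hI : Cfsg.Inn S ≤ I) (hI' : Cfsg.Inn S ≤ I')
    (hIc : Nat.card (I.map (QuotientGroup.mk' (Cfsg.Inn S))) = 6)
    (hIc' : Nat.card (I'.map (QuotientGroup.mk' (Cfsg.Inn S))) = 6) :
    ∃ β : MulAut S, I' = I.map (MulAut.conj β).toMonoidHom := by
  obtain ⟨g, hg⟩ := six_conj ((I.map (QuotientGroup.mk' (Cfsg.Inn S))).map f)
    ((I'.map (QuotientGroup.mk' (Cfsg.Inn S))).map f)
    (by rw [Subgroup.card_map_of_injective hf, hIc]) (by rw [Subgroup.card_map_of_injective hf, hIc'])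
  obtain ⟨o, rfl⟩ := hsur g
  obtain ⟨β, rfl⟩ := QuotientGroup.mk'_surjective _ o
  refine ⟨β, ?_⟩
  have hmap : I'.map (QuotientGroup.mk' (Cfsg.Inn S)) =
      (I.map (MulAut.conj β).toMonoidHom).map (QuotientGroup.mk' (Cfsg.Inn S)) := by
    refine Subgroup.map_injective hf ?_
    rw [hg, Subgroup.map_map, Subgroup.map_map, Subgroup.map_map, Subgroup.map_map]
    congr 1
    ext x
    simp [MulAut.conj_apply]
  have hI2 : Cfsg.Inn S ≤ I.map (MulAut.conj β).toMonoidHom := fun y hy =>
    ⟨β⁻¹ * y * β, hI (by simpa using (inferInstance : (Cfsg.Inn S).Normal).conj_mem y hy β⁻¹),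
      by simp [mul_assoc]⟩
  rw [← Subgroup.comap_map_eq_self (f := QuotientGroup.mk' (Cfsg.Inn S)) (H := I')
      (by rwa [QuotientGroup.ker_mk']), hmap,
    Subgroup.comap_map_eq_self (f := QuotientGroup.mk' (Cfsg.Inn S)) (by rwa [QuotientGroup.ker_mk'])]

theorem two_ne_zero_three : (2 : ZMod 3) ≠ 0 := by decide

/-- The statement over an odd field without automorphisms. -/
theorem result_gen {F : Type*} [Field F] [Fintype F] (h2 : (2 : F) ≠ 0) [Subsingleton (F ≃+* F)]
    {G G' : Type*} [Group G] [Finite G] [Group G'] [Finite G']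
    (eG : ↥(Cfsg.generalizedFittingSubgroup G) ≃* Cfsg.POmega F (Cfsg.quadFormPlus 4 F))
    (eG' : ↥(Cfsg.generalizedFittingSubgroup G') ≃* Cfsg.POmega F (Cfsg.quadFormPlus 4 F))
    [(Cfsg.generalizedFittingSubgroup G).Normal] [(Cfsg.generalizedFittingSubgroup G').Normal]
    (hq : Nonempty (G ⧸ Cfsg.generalizedFittingSubgroup G ≃* Equiv.Perm (Fin 3)))
    (hq' : Nonempty (G' ⧸ Cfsg.generalizedFittingSubgroup G' ≃* Equiv.Perm (Fin 3))) :
    Nonempty (G ≃* G') := by
  obtain ⟨E, -⟩ := AutPOmega.D4.exists_bridge F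
  obtain ⟨e1⟩ := AutPOmega.D4.out_congr E.symm
  obtain ⟨e2⟩ := AutPOmega.D4.out_odd (F := F) h2
  have hZ : Subgroup.center (Cfsg.POmega F (Cfsg.quadFormPlus 4 F)) = ⊥ := by
    have h := AutBalance.center_eq_bot_par (AutPOmega.par_plus (F := F) (le_refl 4))
    rwa [Orth.coe_qPlus] at h
  obtain ⟨I, ⟨eI⟩, hI, hIc⟩ := exists_embed hZ eG hq
  obtain ⟨I', ⟨eI'⟩, hI', hIc'⟩ := exists_embed hZ eG' hq'
  obtain ⟨β, heq⟩ := conj_of_six ((MonoidHom.fst _ _).comp (e1.trans e2).toMonoidHom)
    (fun a b h => (e1.trans e2).injective (Prod.ext h (Subsingleton.elim _ _)))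
    (fun x => ⟨(e1.trans e2).symm (x, RingEquiv.refl _),
      congrArg Prod.fst ((e1.trans e2).apply_symm_apply (x, RingEquiv.refl _))⟩)
    I I' hI hI' hIc hIc'
  exact ⟨eI.trans ((Subgroup.equivMapOfInjective I _ (MulAut.conj β).injective).trans
    ((MulEquiv.subgroupCongr heq.symm).trans eI'.symm))⟩

/-- Let G and G′ be finite groups whose generalized Fitting subgroups are isomorphic to PΩ⁺(8, 3) (the commutator subgroup of the isometry group of the hyperbolic quadratic form in dimension 8 over the field with three elements, modulo its centre) with quotients isomorphic to the symmetric group of degree 3. Then G and G′ are isomorphic. -/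
theorem result {G G' : Type*} [Group G] [Finite G] [Group G'] [Finite G'] (hF : Nonempty (↥(Cfsg.generalizedFittingSubgroup G) ≃* Cfsg.POmega (ZMod 3) (Cfsg.quadFormPlus 4 (ZMod 3)))) (hF' : Nonempty (↥(Cfsg.generalizedFittingSubgroup G') ≃* Cfsg.POmega (ZMod 3) (Cfsg.quadFormPlus 4 (ZMod 3)))) [hn : (Cfsg.generalizedFittingSubgroup G).Normal] [hn' : (Cfsg.generalizedFittingSubgroup G').Normal] (hq : Nonempty (G ⧸ Cfsg.generalizedFittingSubgroup G ≃* Equiv.Perm (Fin 3))) (hq' : Nonempty (G' ⧸ Cfsg.generalizedFittingSubgroup G' ≃* Equiv.Perm (Fin 3))) : Nonempty (G ≃* G') := by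
  obtain ⟨eG⟩ := hF
  obtain ⟨eG'⟩ := hF'
  haveI : Fact (Nat.Prime 3) := ⟨Nat.prime_three⟩
  haveI : Subsingleton (ZMod 3 ≃+* ZMod 3) :=
    ⟨fun a b => RingEquiv.toRingHom_injective (Subsingleton.elim _ _)⟩
  exact result_gen (F := ZMod 3) two_ne_zero_three eG eG' hq hq'

end Cfsg.Agent.S5515
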