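import Cfsg.Statements.S2755
import Cfsg.Agent.Lib.GoldGroups.Ree
import Cfsg.Agent.Lib.GoldGroups.PSU3
import Cfsg.Agent.S1163
import Cfsg.Agent.S2131

set_option autoImplicit false
open Cfsg

namespace Cfsg.Agent.S2755

open Cfsg.Agent.GoldGroups

theorem suzuki_not_three {G : Type*} [Group G] [Finite G] (h : Cfsg.Lie.IsoSuzuki G) : ¬ 3 ∣ Nat.card G := by
  obtain ⟨F, _, _, m, hm, hF, ⟨e⟩⟩ := h
  rw [Nat.card_congr e.toEquiv, (Cfsg.Agent.S1163.result hm hF).1]
  have hq : 2 ^ (2 * m + 1) % 3 = 2 := by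
    rw [pow_succ, pow_mul, Nat.mul_mod, Nat.pow_mod]
    norm_num
  have hpos : 0 < 2 ^ (2 * m + 1) := by positivity
  intro h3
  rcases Nat.prime_three.dvd_mul.1 h3 with h3 | h3
  · rcases Nat.prime_three.dvd_mul.1 h3 with h3 | h3
    · have := Nat.prime_three.dvd_of_dvd_pow h3
      omega
    · omega
  · rw [Nat.dvd_iff_mod_eq_zero, Nat.add_mod, Nat.pow_mod, hq] at h3
    norm_num at h3

theorem not_sym3_of_target {G : Type*} [Group G] [Finite G] (h : Cfsg.IsSuzukiOrPSL2OddPowerThree G) :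
    ¬ Cfsg.Involves Sym3 G := by
  rcases h with h | ⟨F, _, _, n, hF, ⟨e⟩⟩
  · exact not_sym3_of_not_three (suzuki_not_three h)
  · exact fun h3 => psl2_not_sym3 hF (sym3_congr e h3)

theorem j1_facts : (∀ P : Sylow 2 ↥Cfsg.Spor.J1, ∀ a b : P, a * b = b * a) ∧
    Cfsg.Involves Sym3 ↥Cfsg.Spor.J1 := by
  haveI : Fact (Nat.Prime 2) := ⟨Nat.prime_two⟩
  obtain ⟨t, -, ⟨e⟩⟩ := Cfsg.Agent.S2131.result
  have hA : Nat.card ↥(alternatingGroup (Fin 5)) = 60 := by
    rw [nat_card_alternatingGroup, Nat.card_fin]; rfl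
  constructor
  · refine sylow_comm_of_product e ?_ fun P => ?_
    · have h := (Subgroup.centralizer ({t} : Set ↥Cfsg.Spor.J1)).card_mul_index
      rw [Cfsg.Agent.J1.card_J1, Nat.card_congr e.toEquiv, Nat.card_prod,
        Nat.card_congr Multiplicative.toAdd, Nat.card_zmod, hA] at h
      exact ⟨731, by linarith⟩
    · have hP : Nat.card P = 2 ^ 2 := by
        rw [P.card_eq_multiplicity, hA, show (60 : ℕ) = 2 ^ 2 * 15 by norm_num,
          Nat.factorization_mul (by norm_num) (by norm_num), Nat.Prime.factorization_pow Nat.prime_two]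
        simp [Nat.factorization_eq_zero_of_not_dvd (show ¬ 2 ∣ 15 by norm_num)]
      exact IsPGroup.commutative_of_card_eq_prime_sq hP
  · let x : alternatingGroup (Fin 5) := ⟨Equiv.swap 0 1 * Equiv.swap 1 2, Equiv.Perm.mem_alternatingGroup.2 (by decide +kernel)⟩
    let w : alternatingGroup (Fin 5) := ⟨Equiv.swap 0 1 * Equiv.swap 3 4, Equiv.Perm.mem_alternatingGroup.2 (by decide +kernel)⟩
    have hf : x ^ 3 = 1 ∧ x ≠ 1 ∧ w * w = 1 ∧ w * x * w⁻¹ = x⁻¹ := by
      refine ⟨?_, ?_, ?_, ?_⟩ <;> decide +kernel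
    let ι : alternatingGroup (Fin 5) →* ↥Cfsg.Spor.J1 :=
      ((Subgroup.centralizer ({t} : Set ↥Cfsg.Spor.J1)).subtype.comp e.symm.toMonoidHom).comp
        (MonoidHom.inr (Multiplicative (ZMod 2)) ↥(alternatingGroup (Fin 5)))
    have hι : Function.Injective ι := fun a b hab =>
      congrArg Prod.snd (e.symm.injective (Subtype.ext hab))
    refine sym3_of_inverted (x := ι x) (w := ι w) ?_ ?_ ?_ ?_
    · rw [← map_pow, hf.1, map_one]
    · exact fun h => hf.2.1 (hι (h.trans (map_one ι).symm))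
    · rw [← map_mul, hf.2.2.1, map_one]
    · rw [← map_inv, ← map_inv, ← map_mul, ← map_mul, hf.2.2.2]

theorem comm_congr {G H : Type*} [Group G] [Finite G] [Group H] [Finite H] (e : H ≃* G)
    (hH : ∀ P : Sylow 2 H, ∀ a b : P, a * b = b * a) : ∀ P : Sylow 2 G, ∀ a b : P, a * b = b * a :=
  sylow_comm_map (f := e.toMonoidHom) e.surjective hH

/-- Every finite Goldschmidt group is S₄-free (the symmetric group of degree 4 is not involved in it); and for a finite Goldschmidt group G, the symmetric group of degree 3 is not involved in G exactly when G is a Suzuki group or PSL₂ over a field with 3^(2n+1) elements. -/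
theorem result {G : Type*} [Group G] [Finite G] (hG : Cfsg.IsGoldschmidtGroup G) : ¬ Cfsg.Involves (Equiv.Perm (Fin 4)) G ∧ (¬ Cfsg.Involves (Equiv.Perm (Fin 3)) G ↔ Cfsg.IsSuzukiOrPSL2OddPowerThree G) := by
  suffices key : ¬ Cfsg.Involves Sym4 G ∧ (¬ Cfsg.Involves Sym3 G → Cfsg.IsSuzukiOrPSL2OddPowerThree G) from
    ⟨key.1, key.2, not_sym3_of_target⟩
  rcases hG with h | ⟨F, _, _, n, hn, hF, ⟨e⟩⟩ | h | ⟨F, _, _, n, hn, hF, ⟨e⟩⟩ |
    ⟨F, _, _, q, hF, hq5, hq8, ⟨e⟩⟩ | ⟨⟨e⟩⟩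
  · exact ⟨not_sym4_of_comm (ree_sylow_comm h), fun h3 => absurd (ree_sym3 h) h3⟩
  · haveI : Fact (Nat.Prime 2) := ⟨Nat.prime_two⟩
    haveI : CharP F 2 := charP_of_card_eq_prime_pow (p := 2) (f := n) hF
    have h4 : 4 < Fintype.card F := by
      rw [hF]
      calc 4 < 2 ^ 3 := by norm_num
        _ ≤ 2 ^ n := Nat.pow_le_pow_right (by norm_num) hn
    have h3' : (3 : F) ≠ 0 := fun h0 => by
      have h2 : (2 : F) = 0 := by exact_mod_cast CharP.cast_eq_zero F 2
      exact one_ne_zero (show (1 : F) = 0 by linear_combination h0 - h2)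
    exact ⟨not_sym4_of_comm (comm_congr e.symm (psl2_sylow_comm_two h4)),
      fun h3 => absurd (sym3_congr e.symm (psl2_sym3 h3')) h3⟩
  · exact ⟨not_sym4_of_not_three (suzuki_not_three h), fun _ => Or.inl h⟩
  · haveI : Fact (Nat.Prime 2) := ⟨Nat.prime_two⟩
    have hF' : Fintype.card F = (2 ^ n) ^ 2 := by rw [hF, ← pow_mul, mul_comm, pow_mul]; rfl
    haveI : CharP F 2 := charP_of_card_eq_prime_pow (p := 2) (f := n * 2) (by rw [hF', ← pow_mul])
    exact ⟨fun h => psu3_not_sym4 (by omega) hF' (sym4_congr e h),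
      fun h3 => absurd (sym3_congr e.symm (psu3_sym3 hF')) h3⟩
  · refine ⟨not_sym4_of_comm (comm_congr e.symm (psl2_sylow_comm_odd (hF ▸ hq8))), fun h3 => ?_⟩
    by_cases h30 : (3 : F) = 0
    · refine Or.inr ?_
      haveI : CharP F 3 := CharP.charP_iff_prime_eq_zero Nat.prime_three |>.2 (by exact_mod_cast h30)
      obtain ⟨⟨m, hm⟩, -, hc⟩ := FiniteField.card F 3
      simp only [PNat.mk_coe] at hc
      rcases Nat.even_or_odd m with ⟨l, hl⟩ | ⟨l, hl⟩
      · exfalso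
        rw [← hF, hc, hl, ← two_mul, pow_mul, Nat.pow_mod] at hq8
        norm_num at hq8
      · exact ⟨F, _, _, l, by rw [hc, hl], ⟨e⟩⟩
    · exact absurd (sym3_congr e.symm (psl2_sym3 h30)) h3
  · exact ⟨not_sym4_of_comm (comm_congr e.symm j1_facts.1),
      fun h3 => absurd (sym3_congr e.symm j1_facts.2) h3⟩

end Cfsg.Agent.S2755
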