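import Cfsg.Statements.S2758
import Cfsg.Agent.Lib.TwoGroups.Lifts
import Cfsg.Agent.Lib.LocalEven.SylowAux

set_option autoImplicit false
open Cfsg

namespace Cfsg.Agent.S2758

/-- For an odd prime p and a finite group G the following are equivalent: the dihedral group of order 2p is involved in G; some element of 2-power order normalizes but does not centralize some p-subgroup of G; some element of 2-power order inverts some nonidentity element of p-power order. -/
theorem result {G : Type*} [Group G] [Finite G] {p : ℕ} [Fact p.Prime] (hp : p ≠ 2) : (Cfsg.Involves (DihedralGroup p) G ↔ ∃ (x : G) (P : Subgroup G), (∃ k : ℕ, orderOf x = 2 ^ k) ∧ IsPGroup p ↥P ∧ x ∈ Subgroup.normalizer (P : Set G) ∧ x ∉ Subgroup.centralizer (P : Set G)) ∧ (Cfsg.Involves (DihedralGroup p) G ↔ ∃ x y : G, (∃ k : ℕ, orderOf x = 2 ^ k) ∧ (∃ k : ℕ, orderOf y = p ^ k) ∧ y ≠ 1 ∧ x * y * x⁻¹ = y⁻¹) := by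
  classical
  have hp' : p.Prime := Fact.out
  -- an inverted element from a dihedral section
  have AB : Cfsg.Involves (DihedralGroup p) G → ∃ (x : G) (P : Subgroup G), (∃ k : ℕ, orderOf x = 2 ^ k) ∧ IsPGroup p ↥P ∧
      x ∈ Subgroup.normalizer (P : Set G) ∧ x ∉ Subgroup.centralizer (P : Set G) := by
    rintro ⟨K, R, hR, ⟨e⟩⟩
    haveI := hR
    let π : ↥K →* DihedralGroup p := e.toMonoidHom.comp (QuotientGroup.mk' (R.subgroupOf K))
    have hπ : Function.Surjective π := e.surjective.comp (QuotientGroup.mk'_surjective _)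
    set rot := Subgroup.zpowers (DihedralGroup.r 1 : DihedralGroup p) with hrot
    have hrmem : ∀ d : DihedralGroup p, d ∈ rot ↔ ∃ i, d = DihedralGroup.r i := by
      intro d
      constructor
      · rintro ⟨k, rfl⟩; exact ⟨_, DihedralGroup.r_one_zpow k⟩
      · rintro ⟨i, rfl⟩
        obtain ⟨k, rfl⟩ := ZMod.intCast_surjective i
        exact ⟨k, DihedralGroup.r_one_zpow k⟩
    haveI : rot.Normal := ⟨fun d hd g => by
      obtain ⟨i, rfl⟩ := (hrmem d).1 hd
      rw [hrmem]
      rcases g with j | j <;> simp⟩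
    set N := rot.comap π with hN
    haveI : N.Normal := inferInstance
    let P : Sylow p ↥N := Classical.arbitrary _
    set PK := (P : Subgroup ↥N).map N.subtype with hPK
    have hF : Subgroup.normalizer (PK : Set ↥K) ⊔ N = ⊤ := Sylow.normalizer_sup_eq_top P
    obtain ⟨k, hkP, hkN⟩ : ∃ k ∈ Subgroup.normalizer (PK : Set ↥K), k ∉ N := by
      by_contra hall
      push Not at hall
      have htop : N = ⊤ := top_le_iff.1 (hF ▸ sup_le (fun x hx => hall x hx) le_rfl)
      obtain ⟨k, hk⟩ := hπ (DihedralGroup.sr 0)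
      have : π k ∈ rot := (htop ▸ Subgroup.mem_top k : k ∈ N)
      rw [hk, hrmem] at this
      obtain ⟨i, hi⟩ := this
      simp at hi
    -- the image of `P` is not trivial
    obtain ⟨y, hy, hy1⟩ : ∃ y ∈ PK, π y ≠ 1 := by
      by_contra hall
      push Not at hall
      let f := π.comp N.subtype
      have hPf : (P : Subgroup ↥N) ≤ f.ker := fun y hy => hall y ⟨y, hy, rfl⟩
      have hrange : f.range = rot := by
        rw [MonoidHom.range_comp, Subgroup.range_subtype, hN, Subgroup.map_comap_eq_self_of_surjective hπ]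
      have hidx : f.ker.index = p := by
        rw [Subgroup.index_ker, hrange, hrot, Nat.card_zpowers, DihedralGroup.orderOf_r_one]
      exact P.not_dvd_index (hidx.symm.dvd.trans (Subgroup.index_dvd_of_le hPf))
    haveI : Fact (Nat.Prime 2) := ⟨Nat.prime_two⟩
    obtain ⟨a, b, hab, ⟨l, hl⟩, hb, haz, hbz⟩ := Cfsg.Agent.LEBasic.exists_p_part (p := 2) k
    have hπk : ∃ i, π k = DihedralGroup.sr i := by
      rcases hd : π k with i | i
      · exact absurd (show π k ∈ rot from (hrmem _).2 ⟨i, hd⟩) hkN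
      · exact ⟨i, rfl⟩
    obtain ⟨i, hi⟩ := hπk
    have hπb : π b = 1 := by
      obtain ⟨j, hj⟩ := Subgroup.mem_zpowers_iff.1 hbz
      have h1 : orderOf (π b) ∣ 2 := by
        rw [← hj, map_zpow, ← DihedralGroup.orderOf_sr i, ← hi]
        exact orderOf_dvd_of_mem_zpowers (Subgroup.zpow_mem_zpowers _ j)
      exact orderOf_eq_one_iff.1 (Nat.eq_one_of_dvd_coprimes hb.symm h1 (orderOf_map_dvd π b))
    have hπa : π a = DihedralGroup.sr i := by rw [← hi, hab, map_mul, hπb, mul_one]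
    refine ⟨a, PK.map K.subtype, ⟨l, by rw [Subgroup.orderOf_coe]; exact hl⟩, (P.2.map _).map _,
      Subgroup.le_normalizer_map _ ⟨a, Subgroup.zpowers_le.2 hkP haz, rfl⟩, fun hc => ?_⟩
    have hcomm : a * y = y * a := Subtype.ext (Subgroup.mem_centralizer_iff.1 hc (y : G) ⟨y, hy, rfl⟩).symm
    have hcomm' := congrArg π hcomm
    obtain ⟨j, hj⟩ : ∃ j, π y = DihedralGroup.r j := by
      have : π y ∈ rot := by
        obtain ⟨z, -, rfl⟩ := hy
        exact z.2
      exact (hrmem _).1 this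
    rw [map_mul, map_mul, hπa, hj, DihedralGroup.sr_mul_r, DihedralGroup.r_mul_sr, DihedralGroup.sr.injEq] at hcomm'
    have h2j : (2 : ZMod p) * j = 0 := by linear_combination hcomm'
    have h2 : (2 : ZMod p) ≠ 0 := by
      intro h
      have h' : ((2 : ℕ) : ZMod p) = 0 := by exact_mod_cast h
      rw [ZMod.natCast_eq_zero_iff] at h'
      exact hp ((Nat.prime_dvd_prime_iff_eq hp' Nat.prime_two).1 h')
    rcases mul_eq_zero.1 h2j with h | h
    · exact h2 h
    · exact hy1 (by rw [hj, h, DihedralGroup.r_zero])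
  have BC : (∃ (x : G) (P : Subgroup G), (∃ k : ℕ, orderOf x = 2 ^ k) ∧ IsPGroup p ↥P ∧
      x ∈ Subgroup.normalizer (P : Set G) ∧ x ∉ Subgroup.centralizer (P : Set G)) →
      ∃ x y : G, (∃ k : ℕ, orderOf x = 2 ^ k) ∧ (∃ k : ℕ, orderOf y = p ^ k) ∧ y ≠ 1 ∧ x * y * x⁻¹ = y⁻¹ := by
    rintro ⟨x, P, ⟨l, hl⟩, hP, hxN, hxC⟩
    have hex : ∃ j, x ^ 2 ^ j ∈ Subgroup.centralizer (P : Set G) :=
      ⟨l, by rw [← hl, pow_orderOf_eq_one]; exact one_mem _⟩
    have hj0 : Nat.find hex ≠ 0 := fun h => hxC (by simpa [h] using Nat.find_spec hex)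
    obtain ⟨j, hj⟩ := Nat.exists_eq_succ_of_ne_zero hj0
    set x' := x ^ 2 ^ j with hx'
    have hx'N : x' ∈ Subgroup.normalizer (P : Set G) := pow_mem hxN _
    have hx'C : x' ∉ Subgroup.centralizer (P : Set G) := Nat.find_min hex (show j < Nat.find hex by omega)
    have hx'2 : x' * x' ∈ Subgroup.centralizer (P : Set G) := by
      have h := Nat.find_spec hex
      rwa [hj, pow_succ, pow_mul, pow_two] at h
    obtain ⟨y, hy, hyx⟩ : ∃ y ∈ P, y * x' ≠ x' * y := by
      by_contra hall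
      push Not at hall
      exact hx'C (Subgroup.mem_centralizer_iff.2 hall)
    refine ⟨x', y * (x' * y⁻¹ * x'⁻¹), ?_, ?_, ?_, ?_⟩
    · obtain ⟨m, -, hm⟩ := (Nat.dvd_prime_pow Nat.prime_two).1
        ((orderOf_pow_dvd (x := x) (2 ^ j)).trans hl.dvd)
      exact ⟨m, hm⟩
    · have hmem : y * (x' * y⁻¹ * x'⁻¹) ∈ P :=
        mul_mem hy ((Subgroup.mem_normalizer_iff.1 hx'N _).1 (inv_mem hy))
      obtain ⟨m, hm⟩ := IsPGroup.iff_orderOf.1 hP ⟨_, hmem⟩
      exact ⟨m, by rw [← hm, Subgroup.orderOf_mk]⟩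
    · intro h
      apply hyx
      calc y * x' = y * (x' * y⁻¹ * x'⁻¹) * (x' * y) := by simp [mul_assoc]
        _ = x' * y := by rw [h, one_mul]
    · have h2 : y⁻¹ * (x' * x') = x' * x' * y⁻¹ := Subgroup.mem_centralizer_iff.1 hx'2 y⁻¹ (inv_mem hy)
      calc x' * (y * (x' * y⁻¹ * x'⁻¹)) * x'⁻¹ = x' * y * x'⁻¹ * (x' * x' * y⁻¹) * x'⁻¹ * x'⁻¹ := by simp [mul_assoc]
        _ = (y * (x' * y⁻¹ * x'⁻¹))⁻¹ := by rw [← h2]; simp [mul_assoc]
  have CA : (∃ x y : G, (∃ k : ℕ, orderOf x = 2 ^ k) ∧ (∃ k : ℕ, orderOf y = p ^ k) ∧ y ≠ 1 ∧ x * y * x⁻¹ = y⁻¹) →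
      Cfsg.Involves (DihedralGroup p) G := by
    rintro ⟨x, y, ⟨l, hl⟩, ⟨k, hk⟩, hy1, hxy⟩
    obtain ⟨k, rfl⟩ : ∃ k', k = k' + 1 := ⟨k - 1, by
      rcases k with _ | k
      · rw [pow_zero, orderOf_eq_one_iff] at hk; exact absurd hk hy1
      · rfl⟩
    set z := y ^ p ^ k with hz
    have hzo : orderOf z = p := by
      rw [hz, orderOf_pow_of_dvd (pow_ne_zero _ hp'.ne_zero) (hk ▸ pow_dvd_pow p (by omega)), hk,
        pow_succ, Nat.mul_div_cancel_left _ (pow_pos hp'.pos _)]
    have hxz : x * z * x⁻¹ = z⁻¹ := by rw [hz, ← conj_pow, hxy, inv_pow]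
    set H := Subgroup.closure ({z, x} : Set G) with hH
    set R := Subgroup.zpowers (x * x) with hR
    have hxH : x ∈ H := Subgroup.subset_closure (by simp)
    have hzH : z ∈ H := Subgroup.subset_closure (by simp)
    have hRH : R ≤ H := Subgroup.zpowers_le.2 (mul_mem hxH hxH)
    have hcz : (x * x) * z = z * (x * x) := by
      calc (x * x) * z = x * (x * z * x⁻¹) * x := by simp [mul_assoc]
        _ = x * z⁻¹ * x := by rw [hxz]
        _ = (x * z * x⁻¹)⁻¹ * (x * x) := by simp [mul_assoc]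
        _ = z * (x * x) := by rw [hxz, inv_inv]
    have hHn : H ≤ Subgroup.normalizer (R : Set G) := by
      rw [hH, Subgroup.closure_le]
      have hc : ∀ g : G, (x * x) * g = g * (x * x) → g ∈ Subgroup.normalizer (R : Set G) := fun g hg =>
        Subgroup.centralizer_le_normalizer _ (Subgroup.mem_centralizer_iff.2 fun r hr => by
          obtain ⟨i, rfl⟩ := Subgroup.mem_zpowers_iff.1 hr
          exact (show Commute (x * x) g from hg).zpow_left i)
      rintro g (rfl | rfl)
      · exact hc _ hcz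
      · exact hc _ (by simp [mul_assoc])
    haveI : (R.subgroupOf H).Normal := (Subgroup.normal_subgroupOf_iff_le_normalizer hRH).2 hHn
    let q := QuotientGroup.mk' (R.subgroupOf H)
    have hR2 : IsPGroup 2 ↥R := by
      have hd : orderOf (x * x) ∣ 2 ^ l := by
        rw [← hl, ← pow_two]; exact orderOf_pow_dvd 2
      obtain ⟨m, -, hm⟩ := (Nat.dvd_prime_pow Nat.prime_two).1 hd
      exact IsPGroup.of_card (n := m) (by rw [hR, Nat.card_zpowers, hm])
    have hzR : z ∉ R := fun h => by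
      obtain ⟨m, hm⟩ := IsPGroup.iff_orderOf.1 hR2 ⟨z, h⟩
      rw [Subgroup.orderOf_mk, hzo] at hm
      rcases m with _ | m
      · exact hp'.one_lt.ne' (by simpa using hm)
      · exact hp ((Nat.prime_dvd_prime_iff_eq Nat.prime_two hp').1 (hm ▸ dvd_pow_self 2 m.succ_ne_zero)).symm
    set a := q ⟨z, hzH⟩ with ha
    set g := q ⟨x, hxH⟩ with hg
    have hao : orderOf a = p := orderOf_eq_prime (by
        rw [ha, ← map_pow, show (⟨z, hzH⟩ : ↥H) ^ p = 1 from Subtype.ext (by rw [SubmonoidClass.coe_pow, ← hzo]; exact pow_orderOf_eq_one z),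
          map_one])
      (fun h => hzR ((QuotientGroup.eq_one_iff (⟨z, hzH⟩ : ↥H)).1 h))
    have hgg : g * g = 1 := by
      rw [hg, ← map_mul]
      exact (QuotientGroup.eq_one_iff _).2 (Subgroup.mem_zpowers (x * x))
    have hga : g * a * g⁻¹ = a⁻¹ := by
      rw [hg, ha, ← map_inv, ← map_mul, ← map_mul, ← map_inv]
      exact congrArg q (Subtype.ext hxz)
    have hmem : g ∉ Subgroup.zpowers a := by
      intro h
      obtain ⟨i, hi⟩ := Subgroup.mem_zpowers_iff.1 h
      have hc : g * a * g⁻¹ = a := by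
        rw [← hi, (Commute.zpow_self a i).eq, mul_inv_cancel_right]
      rw [hga] at hc
      have h2 : a ^ 2 = 1 := by rw [pow_two]; nth_rw 1 [← hc]; exact inv_mul_cancel a
      have h3 := orderOf_dvd_of_pow_eq_one h2
      rw [hao] at h3
      exact hp ((Nat.prime_dvd_prime_iff_eq hp' Nat.prime_two).1 h3)
    have htop : (⊤ : Subgroup (↥H ⧸ R.subgroupOf H)) = Subgroup.closure ({a, g} : Set _) := by
      refine le_antisymm ?_ le_top
      rintro w -
      obtain ⟨⟨w, hw⟩, rfl⟩ := QuotientGroup.mk'_surjective _ w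
      induction hw using Subgroup.closure_induction with
      | mem w hw =>
        rcases hw with rfl | rfl
        · exact Subgroup.subset_closure (Or.inl rfl)
        · exact Subgroup.subset_closure (Or.inr rfl)
      | one => exact (map_one q).symm ▸ one_mem _
      | mul u v hu hv hu' hv' => exact (map_mul q ⟨u, hu⟩ ⟨v, hv⟩).symm ▸ mul_mem hu' hv'
      | inv u hu hu' => exact (map_inv q ⟨u, hu⟩).symm ▸ inv_mem hu'
    obtain ⟨e⟩ := Cfsg.Agent.TwoLift.dihedral_equiv hao hgg hga hmem htop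
    exact ⟨H, R, inferInstance, ⟨(Subgroup.topEquiv.symm).trans e⟩⟩
  exact ⟨⟨AB, CA ∘ BC⟩, ⟨BC ∘ AB, CA⟩⟩

end Cfsg.Agent.S2758

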