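import Cfsg.Statements.S5110
import Cfsg.Agent.Lib.Fusion.GeneratedCriterion

set_option autoImplicit false
open Cfsg

namespace Cfsg.Agent.S5110

open Cfsg.Agent.FusionSys

/-- Saturation criterion: let F be a fusion system over a finite p-group S and H a family of subgroups of S closed under conjugacy in F, such that every conjugacy class inside H contains a fully automized receptive member, F is the smallest fusion system over S containing all its maps with source in H, and every centric subgroup outside H is conjugate in F to some P for which Aut_S(P) ∩ O_p(Aut_F(P)) is not contained in Inn(P). Then F is saturated. -/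
theorem result {Ω : Type*} [Group Ω] {S : Subgroup Ω} [Finite S] (p : ℕ) [Fact p.Prime] (hS : IsPGroup p S) (F : Cfsg.FusionSystem S) (ℋ : Set (Subgroup Ω)) (hℋS : ∀ P ∈ ℋ, P ≤ S) (hℋconj : ∀ P ∈ ℋ, ∀ Q, F.IsConj P Q → Q ∈ ℋ) (hsat : ∀ P ∈ ℋ, ∃ Q, F.IsConj P Q ∧ F.IsFullyAutomized p Q ∧ F.IsReceptive Q) (hgen : ∀ E : Cfsg.FusionSystem S, (∀ P ∈ ℋ, F.Hom P ⊆ E.Hom P) → F ≤ E) (hstar : ∀ P : Subgroup Ω, F.IsCentric P → P ∉ ℋ → ∃ Q, F.IsConj P Q ∧ ¬ (Cfsg.autInducedBy S Q ⊓ (Cfsg.pCore p ↥(F.autGroup Q)).map (F.autGroup Q).subtype ≤ Cfsg.Inn Q)) : F.IsSaturated p := by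
  have hSℋ : S ∈ ℋ := by
    by_contra h
    have hS' : ∀ Q, F.IsConj S Q → Q = S := fun Q hQ =>
      Subgroup.eq_of_le_of_card_ge (isConj_le_right hQ) (isConj_card hQ).le
    obtain ⟨Q, hQ, hn⟩ := hstar S ⟨le_rfl, fun Q hQ => (centralizerIn_le S Q).trans (hS' Q hQ).ge⟩ h
    rw [hS' Q hQ] at hn
    refine hn (inf_le_left.trans ?_)
    rw [inn_eq_autInducedBy_self]
  intro P hP
  induction hk : Nat.card S - Nat.card P using Nat.strong_induction_on generalizing P with
  | _ n ih =>
  by_cases hPℋ : P ∈ ℋ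
  · exact hsat P hPℋ
  obtain ⟨a, ha, hafn⟩ := exists_fullyNormalized F hP
  have hc := isConj_card ha
  have hlarge : ∀ R ≤ S, Nat.card a < Nat.card R → SatClass F p R := fun R hR hlt => by
    have := Subgroup.card_le_of_le hR
    exact ih _ (by omega) R hR rfl
  have han : a ∉ ℋ := fun h => hPℋ (hℋconj a h P (isConj_symm ha))
  obtain ⟨Q, hQ, h1, h2⟩ := satClass_of_larger hS hlarge hafn ℋ hℋconj hgen han hSℋ fun hcen => hstar a hcen han
  exact ⟨Q, isConj_trans ha hQ, h1, h2⟩

end Cfsg.Agent.S5110
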