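import Cfsg.Statements.S3116
import Mathlib.Data.ZMod.Units
import Mathlib.GroupTheory.SpecificGroups.Dihedral
import Mathlib.GroupTheory.PGroup
import Mathlib.FieldTheory.Finite.Basic

set_option autoImplicit false
open Cfsg

namespace Cfsg.Agent.S3116

theorem aut_two_group {X : Type*} [Group X] [Finite X] (n : ℕ) (hn : 1 ≤ n) (x y : X) (hx : orderOf x = 2 ^ n)
    (hi : (Subgroup.zpowers x).index = 2) (hy : y ∉ Subgroup.zpowers x)
    (hmem : ∀ z : X, orderOf z = 2 ^ n → z ∈ Subgroup.zpowers x) : IsPGroup 2 (MulAut X) := by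
  intro φ
  refine ⟨(n - 1) + n, ?_⟩
  rw [pow_add, pow_mul]
  have hpowx : ∀ ψ : MulAut X, (ψ ^ 2 ^ (n - 1)) x = x := by
    intro ψ
    have hox : orderOf (ψ x) = 2 ^ n := (ψ.orderOf_eq x).trans hx
    obtain ⟨i, hi'⟩ : ∃ i : ℕ, x ^ i = ψ x := by
      classical
      obtain ⟨i, -, hi'⟩ := Finset.mem_image.mp (mem_zpowers_iff_mem_range_orderOf.mp (hmem _ hox))
      exact ⟨i, hi'⟩
    have hit : ∀ k : ℕ, (ψ ^ k) x = x ^ (i ^ k) := by
      intro k
      induction k with
      | zero => simp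
      | succ k ih => rw [pow_succ', MulAut.mul_apply, ih, map_pow, ← hi', ← pow_mul, pow_succ']
    have hcop : Nat.Coprime i (2 ^ n) := by
      have h := orderOf_pow (x := x) (n := i)
      rw [hi', hox, hx] at h
      have hd : Nat.gcd (2 ^ n) i ∣ 2 ^ n := Nat.gcd_dvd_left _ _
      have := Nat.div_mul_cancel hd
      rw [← h] at this
      have : Nat.gcd (2 ^ n) i = 1 := by
        have hp : 0 < 2 ^ n := by positivity
        exact (mul_eq_left₀ hp.ne').mp this
      exact Nat.Coprime.symm this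
    have hmod : i ^ 2 ^ (n - 1) ≡ 1 [MOD 2 ^ n] := by
      have := Nat.ModEq.pow_totient hcop
      rwa [Nat.totient_prime_pow Nat.prime_two hn, show (2 : ℕ) - 1 = 1 from rfl, Nat.mul_one] at this
    rw [hit]
    exact (pow_eq_pow_iff_modEq.mpr (hx ▸ hmod)).trans (pow_one x)
  set ψ := φ ^ 2 ^ (n - 1)
  have hfix : ψ x = x := hpowx φ
  have hψy : ∃ j : ℕ, ψ y = x ^ j * y := by
    classical
    have hne : ψ y ∉ Subgroup.zpowers x := by
      rintro ⟨k, hk⟩
      exact hy ⟨k, ψ.injective (by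
        show ψ (x ^ k) = ψ y
        rw [map_zpow, hfix]
        exact hk)⟩
    have : ψ y * y⁻¹ ∈ Subgroup.zpowers x := by
      rw [Subgroup.mul_mem_iff_of_index_two hi, inv_mem_iff]
      exact iff_of_false hne hy
    obtain ⟨j, -, hj⟩ := Finset.mem_image.mp (mem_zpowers_iff_mem_range_orderOf.mp this)
    exact ⟨j, by rw [hj]; simp⟩
  obtain ⟨j, hj⟩ := hψy
  have hfixk : ∀ k : ℕ, (ψ ^ k) x = x := by
    intro k
    induction k with
    | zero => simp
    | succ k ih => rw [pow_succ', MulAut.mul_apply, ih, hfix]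
  have hitk : ∀ k : ℕ, (ψ ^ k) y = x ^ (j * k) * y := by
    intro k
    induction k with
    | zero => simp
    | succ k ih => rw [pow_succ', MulAut.mul_apply, ih, map_mul, map_pow, hfix, hj, ← mul_assoc, ← pow_add, Nat.mul_succ]
  refine MulEquiv.ext fun z => ?_
  rw [MulAut.one_apply]
  by_cases hz : z ∈ Subgroup.zpowers x
  · obtain ⟨k, rfl⟩ := hz; rw [map_zpow, hfixk]
  · have hzy : z * y⁻¹ ∈ Subgroup.zpowers x := by
      rw [Subgroup.mul_mem_iff_of_index_two hi, inv_mem_iff]; exact iff_of_false hz hy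
    obtain ⟨k, hk⟩ := hzy
    have hz' : z = x ^ k * y := by
      have hk' : x ^ k = z * y⁻¹ := hk
      rw [hk']; simp
    rw [hz', map_mul, map_zpow, hfixk, hitk, pow_mul', ← hx, pow_orderOf_eq_one, one_pow, one_mul]


/-- The automorphism group of a dihedral 2-group of order at least 8, or of a quasi-dihedral (semidihedral) 2-group of order at least 16, is a 2-group. -/
theorem result {X : Type*} [Group X] [Finite X] (h2 : IsPGroup 2 X)
    (h : (∃ n : ℕ, 4 ≤ n ∧ Nonempty (X ≃* DihedralGroup n)) ∨ Cfsg.IsQuasiDihedral X) : IsPGroup 2 (MulAut X) := by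
  rcases h with ⟨N, hN, ⟨e⟩⟩ | ⟨n, hn, hcard, x, y, hx, hy, hxy⟩
  · have : Fact (Nat.Prime 2) := ⟨Nat.prime_two⟩
    haveI : NeZero N := ⟨by omega⟩
    obtain ⟨n, hn⟩ := IsPGroup.iff_orderOf.mp h2 (e.symm (DihedralGroup.r 1))
    rw [MulEquiv.orderOf_eq, DihedralGroup.orderOf_r_one] at hn
    have hn1 : 1 ≤ n := by
      rcases Nat.eq_zero_or_pos n with rfl | h
      · simp at hn; omega
      · exact h
    have hx : orderOf (e.symm (DihedralGroup.r 1)) = 2 ^ n := by rw [MulEquiv.orderOf_eq, DihedralGroup.orderOf_r_one, hn]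
    refine aut_two_group n hn1 (e.symm (DihedralGroup.r 1)) (e.symm (DihedralGroup.sr 0)) hx ?_ ?_ ?_
    · have h1 := (Subgroup.zpowers (e.symm (DihedralGroup.r 1))).index_mul_card
      rw [Nat.card_zpowers, hx, Nat.card_congr e.toEquiv, DihedralGroup.nat_card] at h1
      replace h1 : (Subgroup.zpowers (e.symm (DihedralGroup.r 1))).index * 2 ^ n = 2 * 2 ^ n := h1.trans (congrArg (2 * ·) hn)
      exact Nat.eq_of_mul_eq_mul_right (by positivity) h1
    · rintro ⟨k, hk⟩
      have := congrArg e hk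
      simp only [map_zpow, MulEquiv.apply_symm_apply, DihedralGroup.r_one_zpow] at this
      cases this
    · intro z hz
      rw [← MulEquiv.orderOf_eq e] at hz
      rcases hez : e z with i | i
      · refine ⟨(i.val : ℤ), e.injective ?_⟩
        show e (e.symm (DihedralGroup.r 1) ^ (i.val : ℤ)) = e z
        rw [map_zpow, MulEquiv.apply_symm_apply, zpow_natCast, DihedralGroup.r_one_pow, ZMod.natCast_zmod_val, hez]
      · rw [hez, DihedralGroup.orderOf_sr] at hz; omega
  · have hh : 2 ^ (n - 1) * 2 = 2 ^ n := by rw [← pow_succ]; congr 1; omega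
    have hi : (Subgroup.zpowers x).index = 2 := by
      have h1 := (Subgroup.zpowers x).index_mul_card
      rw [Nat.card_zpowers, hx, hcard, pow_succ'] at h1
      exact Nat.eq_of_mul_eq_mul_right (by positivity) h1
    have h4 : 4 ≤ 2 ^ (n - 1) := by
      calc 4 = 2 ^ 2 := rfl
        _ ≤ _ := Nat.pow_le_pow_right (by norm_num) (by omega)
    have hyn : y ∉ Subgroup.zpowers x := by
      rintro ⟨k, rfl⟩
      have h1 : x = x ^ (2 ^ (n - 1) - 1) := by
        have hxy' : x ^ k * x * (x ^ k)⁻¹ = x ^ (2 ^ (n - 1) - 1) := hxy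
        rwa [((Commute.refl x).zpow_left k).eq, mul_inv_cancel_right] at hxy'
      have h2 : x ^ (2 ^ (n - 1) - 2) = 1 := by
        have : x ^ (2 ^ (n - 1) - 2) * x = x := by rw [← pow_succ, show 2 ^ (n - 1) - 2 + 1 = 2 ^ (n - 1) - 1 by omega]; exact h1.symm
        simpa using this
      have := orderOf_le_of_pow_eq_one (by omega) h2
      omega
    refine aut_two_group n (by omega) x y hx hi hyn ?_
    intro z hz
    by_contra hzn
    have hzy : z * y⁻¹ ∈ Subgroup.zpowers x := by
      rw [Subgroup.mul_mem_iff_of_index_two hi, inv_mem_iff]; exact iff_of_false hzn hyn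
    classical
    obtain ⟨i, -, hi'⟩ := Finset.mem_image.mp (mem_zpowers_iff_mem_range_orderOf.mp hzy)
    have hz' : z = x ^ i * y := by rw [hi']; simp
    have hy2 : y * y = 1 := by rw [← pow_two, ← hy, pow_orderOf_eq_one]
    have hsq : z * z = x ^ (2 ^ (n - 1) * i) := by
      have h3 : y * x ^ i * y⁻¹ = x ^ ((2 ^ (n - 1) - 1) * i) := by rw [← conj_pow, hxy, ← pow_mul]
      rw [inv_eq_of_mul_eq_one_right hy2] at h3
      rw [hz', mul_assoc, ← mul_assoc y, h3, ← pow_add]
      congr 1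
      obtain ⟨c, hc⟩ : ∃ c, 2 ^ (n - 1) = c + 1 := ⟨_, (Nat.succ_pred_eq_of_pos (by omega)).symm⟩
      rw [hc]; simp; ring
    have : z ^ 4 = 1 := by
      rw [show 4 = 2 * 2 from rfl, pow_mul, pow_two z, hsq, ← pow_mul,
        show 2 ^ (n - 1) * i * 2 = 2 ^ n * i by rw [← hh]; ring, pow_mul, ← hx, pow_orderOf_eq_one, one_pow]
    have := orderOf_le_of_pow_eq_one (by omega) this
    omega

end Cfsg.Agent.S3116
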