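import Cfsg.Statements.S4143
import Mathlib

set_option autoImplicit false
set_option linter.style.haveILetI false

namespace Cfsg.Agent.S4143Aux

variable {p : ℕ} [hp : Fact p.Prime]

lemma card_le_mul_ker {G H : Type*} [Group G] [Group H] [Finite H] [Finite G] (f : G →* H) :
    Nat.card G ≤ Nat.card H * Nat.card f.ker := by
  rw [← Subgroup.card_mul_index f.ker, Subgroup.index_ker, mul_comm]
  exact Nat.mul_le_mul_right _ (Nat.card_le_card_of_injective _ Subtype.coe_injective)

lemma card_comap_mk {G : Type*} [Group G] [Finite G] (N : Subgroup G) [N.Normal] (S : Subgroup (G ⧸ N)) :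
    Nat.card (S.comap (QuotientGroup.mk' N)) = Nat.card N * Nat.card S := by
  have h1 := (S.comap (QuotientGroup.mk' N)).card_mul_index
  rw [Subgroup.index_comap_of_surjective _ (QuotientGroup.mk'_surjective N), ← N.card_mul_index,
    Subgroup.index_eq_card N, ← S.card_mul_index, ← mul_assoc] at h1
  exact Nat.eq_of_mul_eq_mul_right (Nat.pos_of_ne_zero Subgroup.index_ne_zero_of_finite) h1

lemma exists_two_le {X : Type*} [Group X] [Finite X] {n : ℕ} (hX : Nat.card X = p ^ n) (x : X)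
    (hx : Nat.card (Subgroup.centralizer ({x} : Set X)) = p ^ 2) : 2 ≤ n := by
  have h := (Subgroup.centralizer ({x} : Set X)).card_subgroup_dvd_card
  rw [hx, hX] at h
  exact (Nat.pow_dvd_pow_iff_le_right hp.out.one_lt).1 h

lemma class_of_centralizer : ∀ (n : ℕ) (X : Type*) [Group X] [Finite X], Nat.card X = p ^ n →
    ∀ x : X, Nat.card (Subgroup.centralizer ({x} : Set X)) = p ^ 2 → Group.nilpotencyClass X = n - 1 := by
  intro n
  induction n using Nat.strong_induction_on with
  | _ n ih =>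
  intro X _ _ hX x hx
  have h2 : 2 ≤ n := exists_two_le hX x hx
  have hp' := hp.out
  haveI : Nontrivial X := Finite.one_lt_card_iff_nontrivial.1 (by rw [hX]; exact Nat.one_lt_pow (by omega) hp'.one_lt)
  haveI : Group.IsNilpotent X := (IsPGroup.of_card hX).isNilpotent
  rw [Group.nilpotencyClass_eq_quotient_center_plus_one]
  set Z := Subgroup.center X with hZ
  have hZne : Z ≠ ⊥ := by
    have h := (IsPGroup.of_card hX).bot_lt_center
    exact h.ne'
  have hZC : Z ≤ Subgroup.centralizer ({x} : Set X) := Subgroup.center_le_centralizer _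
  obtain ⟨j, hj⟩ := IsPGroup.iff_card.1 ((IsPGroup.of_card hX).to_subgroup Z)
  rcases eq_or_lt_of_le h2 with h2 | h2
  · subst h2
    have hZtop : Z = ⊤ := by
      rw [eq_top_iff]
      intro g _
      letI := IsPGroup.commGroupOfCardEqPrimeSq hX
      exact Subgroup.mem_center_iff.2 fun h => mul_comm h g
    have : Subsingleton (X ⧸ Z) := by
      rw [← Finite.card_le_one_iff_subsingleton, ← Subgroup.index_eq_card, hZtop, Subgroup.index_top]
    rw [Group.nilpotencyClass_zero_iff_subsingleton.2 this]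
  have hxZ : x ∉ Z := by
    intro h
    have : Subgroup.centralizer ({x} : Set X) = ⊤ := by
      rw [Subgroup.centralizer_eq_top_iff_subset]; simpa using h
    rw [this, Subgroup.card_top, hX] at hx
    exact absurd (Nat.pow_right_injective hp'.two_le hx) h2.ne'
  have hZp : Nat.card Z = p := by
    have hlt : Nat.card Z < p ^ 2 := by
      rw [← hx]
      refine lt_of_le_of_ne (Nat.le_of_dvd Nat.card_pos (Subgroup.card_dvd_of_le hZC)) fun h => hxZ ?_
      rw [Subgroup.eq_of_le_of_card_ge hZC h.ge]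
      exact Subgroup.mem_centralizer_singleton_iff.2 rfl
    rw [hj] at hlt ⊢
    have hj2 : j < 2 := (Nat.pow_lt_pow_iff_right hp'.one_lt).1 hlt
    have hj0 : j ≠ 0 := fun h => hZne (Subgroup.card_eq_one.1 (by rw [hj, h, pow_zero]))
    rw [show j = 1 by omega, pow_one]
  have hXb : Nat.card (X ⧸ Z) = p ^ (n - 1) := by
    refine Nat.eq_of_mul_eq_mul_right hp'.pos ?_
    conv_lhs => rw [← hZp, ← Subgroup.card_eq_card_quotient_mul_card_subgroup Z, hX]
    rw [← pow_succ]
    congr 1
    omega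
  set Cb := Subgroup.centralizer ({(x : X ⧸ Z)} : Set (X ⧸ Z)) with hCb
  let D := Cb.comap (QuotientGroup.mk' Z)
  have hD : ∀ g : D, (g : X) * x * (g : X)⁻¹ * x⁻¹ ∈ Z := by
    intro g
    have h := Subgroup.mem_centralizer_singleton_iff.1 g.2
    rw [← QuotientGroup.eq_one_iff]
    simp only [QuotientGroup.mk'_apply] at h
    simp only [QuotientGroup.mk_mul, QuotientGroup.mk_inv, h]
    simp [mul_assoc]
  let φ : D →* Z :=
    MonoidHom.mk' (fun g => ⟨(g : X) * x * (g : X)⁻¹ * x⁻¹, hD g⟩) fun a b => by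
      apply Subtype.ext
      show (a : X) * (b : X) * x * ((a : X) * (b : X))⁻¹ * x⁻¹ = _
      have hc := Subgroup.mem_center_iff.1 (hD b)
      calc (a : X) * (b : X) * x * ((a : X) * (b : X))⁻¹ * x⁻¹
          = (a : X) * ((b : X) * x * (b : X)⁻¹ * x⁻¹) * x * (a : X)⁻¹ * x⁻¹ := by group
        _ = ((b : X) * x * (b : X)⁻¹ * x⁻¹) * (a : X) * x * (a : X)⁻¹ * x⁻¹ := by rw [hc (a : X)]
        _ = ((b : X) * x * (b : X)⁻¹ * x⁻¹) * ((a : X) * x * (a : X)⁻¹ * x⁻¹) := by group
        _ = _ := (hc _).symm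
  have hker : Nat.card φ.ker ≤ p ^ 2 := by
    rw [← hx, ← Subgroup.card_map_of_injective (f := D.subtype) D.subtype_injective]
    refine Subgroup.card_le_of_le ?_
    rintro _ ⟨g, hg, rfl⟩
    have hg' : (g : X) * x * (g : X)⁻¹ * x⁻¹ = 1 := congrArg Subtype.val hg
    rw [Subgroup.mem_centralizer_singleton_iff]
    exact mul_inv_eq_iff_eq_mul.1 (mul_inv_eq_one.1 hg')
  have hle : Nat.card Cb ≤ p ^ 2 := by
    have h1 : Nat.card D = Nat.card Cb * p := by
      rw [← hZp]
      show Nat.card (Cb.comap (QuotientGroup.mk' Z)) = _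
      rw [card_comap_mk, mul_comm]
    have h2 := card_le_mul_ker φ
    rw [h1, hZp] at h2
    rw [mul_comm] at h2
    exact le_trans (Nat.le_of_mul_le_mul_left h2 hp'.pos) hker
  obtain ⟨c, hc⟩ := IsPGroup.iff_card.1 ((IsPGroup.of_card hXb).to_subgroup Cb)
  have hc2 : c = 2 := by
    have hcle : c ≤ 2 := by rw [hc] at hle; exact (Nat.pow_le_pow_iff_right hp'.one_lt).1 hle
    have hxC : (x : X ⧸ Z) ∈ Cb := Subgroup.mem_centralizer_singleton_iff.2 rfl
    rcases Nat.lt_or_ge c 2 with hlt | hge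
    swap
    · omega
    exfalso
    have hx1 : (x : X ⧸ Z) ≠ 1 := fun h => hxZ ((QuotientGroup.eq_one_iff x).1 h)
    have hc1 : Nat.card Cb = p := by
      rw [hc]
      have : c ≠ 0 := by
        intro h
        rw [h, pow_zero] at hc
        exact hx1 (Subgroup.mem_bot.1 (Subgroup.card_eq_one.1 hc ▸ hxC))
      rw [show c = 1 by omega, pow_one]
    haveI : Nontrivial (X ⧸ Z) := ⟨⟨_, _, hx1⟩⟩
    have hcen := (IsPGroup.of_card hXb).bot_lt_center
    have hzC : Subgroup.center (X ⧸ Z) ≤ Cb := Subgroup.center_le_centralizer _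
    have heq : Subgroup.center (X ⧸ Z) = Cb := by
      obtain ⟨i, hi⟩ := IsPGroup.iff_card.1 ((IsPGroup.of_card hXb).to_subgroup (Subgroup.center (X ⧸ Z)))
      refine Subgroup.eq_of_le_of_card_ge hzC ?_
      rw [hc1, hi]
      refine Nat.le_self_pow ?_ p
      intro h
      exact hcen.ne' (Subgroup.card_eq_one.1 (by rw [hi, h, pow_zero]))
    have htop : Cb = ⊤ := by
      rw [hCb, Subgroup.centralizer_eq_top_iff_subset]
      simpa [heq] using hxC
    rw [htop, Subgroup.card_top, hXb] at hc1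
    have := Nat.pow_right_injective hp'.two_le (hc1.trans (pow_one p).symm)
    omega
  rw [ih (n - 1) (by omega) (X ⧸ Z) hXb (x : X ⧸ Z) (by rw [hc, hc2])]
  omega

end Cfsg.Agent.S4143Aux


set_option autoImplicit false
open Cfsg

namespace Cfsg.Agent.S4143

/-- Let X be a finite p-group of order p^n containing a non-abelian subgroup B of order p³ with C_X(B) ≤ B. Then X has nilpotency class n − 1 (maximal class). -/
theorem result {X : Type*} [Group X] [Finite X] {p : ℕ} [Fact p.Prime] (n : ℕ) (hX : Nat.card X = p ^ n)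
    (B : Subgroup X) (hB : Nat.card B = p ^ 3) (hBna : ¬ IsMulCommutative B) (hC : Subgroup.centralizer (B : Set X) ≤ B) :
    Group.nilpotencyClass X = n - 1 := by
  classical
  have hp : p.Prime := Fact.out
  have hn3 : 3 ≤ n := by
    have h := B.card_subgroup_dvd_card
    rw [hB, hX] at h
    exact (Nat.pow_dvd_pow_iff_le_right hp.one_lt).1 h
  haveI : Nontrivial X := Finite.one_lt_card_iff_nontrivial.1 (by rw [hX]; exact Nat.one_lt_pow (by omega) hp.one_lt)
  haveI : Group.IsNilpotent X := (IsPGroup.of_card hX).isNilpotent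
  rw [Group.nilpotencyClass_eq_quotient_center_plus_one]
  set Z := Subgroup.center X with hZ
  have hZB : Z ≤ B := (Subgroup.center_le_centralizer _).trans hC
  obtain ⟨a, ha, b, hb, hab⟩ : ∃ a ∈ B, ∃ b ∈ B, a * b ≠ b * a := by
    by_contra hcon
    push Not at hcon
    exact hBna ⟨⟨fun u v => Subtype.ext (hcon u u.2 v v.2)⟩⟩
  obtain ⟨j, hj⟩ := IsPGroup.iff_card.1 ((IsPGroup.of_card hX).to_subgroup Z)
  have hj0 : j ≠ 0 := fun h =>
    ((IsPGroup.of_card hX).bot_lt_center).ne' (Subgroup.card_eq_one.1 (by rw [← hZ, hj, h, pow_zero]))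
  -- `Z < C_B(a) < B`
  set A := B ⊓ Subgroup.centralizer ({a} : Set X) with hA
  have hZA : Z < A := by
    refine lt_of_le_of_ne (le_inf hZB (Subgroup.center_le_centralizer _)) fun h => hab ?_
    have : a ∈ Z := h ▸ ⟨ha, Subgroup.mem_centralizer_singleton_iff.2 rfl⟩
    exact (Subgroup.mem_center_iff.1 this b).symm
  have hAB : A < B := lt_of_le_of_ne inf_le_left fun h => hab
    (Subgroup.mem_centralizer_singleton_iff.1 (h ▸ hb : b ∈ A).2).symm
  have hlt : ∀ {S T : Subgroup X}, S < T → Nat.card S < Nat.card T := fun {S T} h =>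
    lt_of_le_of_ne (Subgroup.card_le_of_le h.le) fun e => h.ne (Subgroup.eq_of_le_of_card_ge h.le e.ge)
  obtain ⟨i, hi⟩ := IsPGroup.iff_card.1 ((IsPGroup.of_card hX).to_subgroup A)
  have h12 : j = 1 ∧ i = 2 := by
    have h1 := hlt hZA
    have h2 := hlt hAB
    rw [hj, hi] at h1
    rw [hi, hB] at h2
    have := (Nat.pow_lt_pow_iff_right hp.one_lt).1 h1
    have := (Nat.pow_lt_pow_iff_right hp.one_lt).1 h2
    omega
  obtain ⟨rfl, rfl⟩ := h12
  rw [pow_one] at hj
  have hclosure : ∀ S : Subgroup X, a ∈ S → b ∈ S → Z ≤ S → B ≤ S := by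
    intro S haS hbS hZS
    have hlt1 : Z < B ⊓ S ⊓ Subgroup.centralizer ({a} : Set X) := by
      refine lt_of_le_of_ne (le_inf (le_inf hZB hZS) (Subgroup.center_le_centralizer _)) fun h => hab ?_
      have : a ∈ Z := h ▸ ⟨⟨ha, haS⟩, Subgroup.mem_centralizer_singleton_iff.2 rfl⟩
      exact (Subgroup.mem_center_iff.1 this b).symm
    have hlt2 : B ⊓ S ⊓ Subgroup.centralizer ({a} : Set X) < B ⊓ S := lt_of_le_of_ne inf_le_left fun h =>
      hab (Subgroup.mem_centralizer_singleton_iff.1 (h.ge ⟨hb, hbS⟩).2).symm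
    obtain ⟨u, hu⟩ := IsPGroup.iff_card.1 ((IsPGroup.of_card hX).to_subgroup (B ⊓ S ⊓ Subgroup.centralizer ({a} : Set X)))
    obtain ⟨v, hv⟩ := IsPGroup.iff_card.1 ((IsPGroup.of_card hX).to_subgroup (B ⊓ S))
    have h1 := hlt hlt1
    have h2 := hlt hlt2
    rw [hj, hu] at h1
    rw [hu, hv] at h2
    have := (Nat.pow_lt_pow_iff_right hp.one_lt).1 h2
    have : 1 < u := by
      rcases Nat.lt_or_ge 1 u with h | h
      · exact h
      · exact absurd h1 (not_lt.2 ((Nat.pow_le_pow_right hp.pos h).trans_eq (pow_one p)))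
    refine le_trans (le_of_eq ?_) (inf_le_right : B ⊓ S ≤ S)
    refine (Subgroup.eq_of_le_of_card_ge inf_le_left ?_).symm
    rw [hB, hv]
    exact Nat.pow_le_pow_right hp.pos (by omega)
  have hXb : Nat.card (X ⧸ Z) = p ^ (n - 1) := by
    refine Nat.eq_of_mul_eq_mul_right hp.pos ?_
    conv_lhs => rw [← hj, ← Subgroup.card_eq_card_quotient_mul_card_subgroup Z, hX]
    rw [← pow_succ]
    congr 1
    omega
  set Bb := B.map (QuotientGroup.mk' Z) with hBb
  have hBbc : Nat.card Bb = p ^ 2 := by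
    refine Nat.eq_of_mul_eq_mul_left hp.pos ?_
    rw [← pow_succ']
    have h : Nat.card (Bb.comap (QuotientGroup.mk' Z)) = p * Nat.card Bb := by
      rw [← hj, S4143Aux.card_comap_mk]
    rw [← h, hBb, Subgroup.comap_map_eq_self (by rw [QuotientGroup.ker_mk']; exact hZB), hB]
  letI := IsPGroup.commGroupOfCardEqPrimeSq hBbc
  set Cb := Subgroup.centralizer (Bb : Set (X ⧸ Z)) with hCb
  let D := Cb.comap (QuotientGroup.mk' Z)
  have hD : ∀ y ∈ B, ∀ g : D, (g : X) * y * (g : X)⁻¹ * y⁻¹ ∈ Z := by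
    intro y hy g
    have h := Subgroup.mem_centralizer_iff.1 g.2 _ (Subgroup.mem_map_of_mem (QuotientGroup.mk' Z) hy)
    rw [← QuotientGroup.eq_one_iff]
    simp only [QuotientGroup.mk'_apply] at h
    simp only [QuotientGroup.mk_mul, QuotientGroup.mk_inv, ← h]
    simp [mul_assoc]
  let φ : ∀ y ∈ B, D →* Z := fun y hy =>
    MonoidHom.mk' (fun g => ⟨(g : X) * y * (g : X)⁻¹ * y⁻¹, hD y hy g⟩) fun u v => by
      apply Subtype.ext
      show (u : X) * (v : X) * y * ((u : X) * (v : X))⁻¹ * y⁻¹ = _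
      have hc := Subgroup.mem_center_iff.1 (hD y hy v)
      calc (u : X) * (v : X) * y * ((u : X) * (v : X))⁻¹ * y⁻¹
          = (u : X) * ((v : X) * y * (v : X)⁻¹ * y⁻¹) * y * (u : X)⁻¹ * y⁻¹ := by group
        _ = ((v : X) * y * (v : X)⁻¹ * y⁻¹) * (u : X) * y * (u : X)⁻¹ * y⁻¹ := by rw [hc (u : X)]
        _ = ((v : X) * y * (v : X)⁻¹ * y⁻¹) * ((u : X) * y * (u : X)⁻¹ * y⁻¹) := by group
        _ = _ := (hc _).symm
  let ψ : D →* Z × Z := (φ a ha).prod (φ b hb)
  have hker : Nat.card ψ.ker ≤ p := by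
    rw [← hj, ← Subgroup.card_map_of_injective (f := D.subtype) D.subtype_injective]
    refine Subgroup.card_le_of_le ?_
    rintro _ ⟨g, hg, rfl⟩
    have hg1 : (g : X) * a * (g : X)⁻¹ * a⁻¹ = 1 := congrArg (fun z => (z.1 : X)) hg
    have hg2 : (g : X) * b * (g : X)⁻¹ * b⁻¹ = 1 := congrArg (fun z => (z.2 : X)) hg
    have hS := hclosure (Subgroup.centralizer ({(g : X)} : Set X))
      (Subgroup.mem_centralizer_singleton_iff.2 (mul_inv_eq_iff_eq_mul.1 (mul_inv_eq_one.1 hg1)).symm)
      (Subgroup.mem_centralizer_singleton_iff.2 (mul_inv_eq_iff_eq_mul.1 (mul_inv_eq_one.1 hg2)).symm)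
      (Subgroup.center_le_centralizer _)
    have hgB : (g : X) ∈ B := hC (Subgroup.mem_centralizer_iff.2 fun y hy =>
      Subgroup.mem_centralizer_singleton_iff.1 (hS hy))
    have hgZ : (g : X) ∈ B ⊓ Subgroup.centralizer (B : Set X) := ⟨hgB, Subgroup.mem_centralizer_iff.2 fun y hy =>
      Subgroup.mem_centralizer_singleton_iff.1 (hS hy)⟩
    -- `Z(B) = Z`
    set W := B ⊓ Subgroup.centralizer (B : Set X) with hW
    have hZW : Z ≤ W := le_inf hZB (Subgroup.center_le_centralizer _)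
    have hWA : W < A := by
      refine lt_of_le_of_ne (le_inf inf_le_left (inf_le_right.trans
        (Subgroup.centralizer_le (Set.singleton_subset_iff.2 ha)))) fun h => hab ?_
      have haW : a ∈ W := h.symm ▸ ⟨ha, Subgroup.mem_centralizer_singleton_iff.2 rfl⟩
      exact (Subgroup.mem_centralizer_iff.1 haW.2 b hb).symm
    obtain ⟨w, hw⟩ := IsPGroup.iff_card.1 ((IsPGroup.of_card hX).to_subgroup W)
    have h3 := hlt hWA
    rw [hw, hi] at h3
    have hw1 : Nat.card W ≤ Nat.card Z := by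
      rw [hw, hj]
      calc p ^ w ≤ p ^ 1 := Nat.pow_le_pow_right hp.pos
            (Nat.lt_succ_iff.1 ((Nat.pow_lt_pow_iff_right hp.one_lt).1 h3))
        _ = p := pow_one p
    exact (Subgroup.eq_of_le_of_card_ge hZW hw1).symm ▸ hgZ
  have hDc : Nat.card D = Nat.card Cb * p := by
    rw [← hj]
    show Nat.card (Cb.comap (QuotientGroup.mk' Z)) = _
    rw [S4143Aux.card_comap_mk, mul_comm]
  have hCle : Nat.card Cb ≤ p ^ 2 := by
    have h2 := S4143Aux.card_le_mul_ker ψ
    rw [hDc, Nat.card_prod, hj] at h2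
    have h3 : Nat.card Cb * p ≤ p ^ 2 * p := h2.trans (by
      rw [← sq]; exact Nat.mul_le_mul_left _ hker)
    exact Nat.le_of_mul_le_mul_right h3 hp.pos
  have hBC : Bb ≤ Cb := by
    intro u hu
    rw [hCb, Subgroup.mem_centralizer_iff]
    intro v hv
    exact congrArg Subtype.val (mul_comm (⟨v, hv⟩ : Bb) ⟨u, hu⟩)
  have hBCeq : Bb = Cb := Subgroup.eq_of_le_of_card_ge hBC (by rw [hBbc]; exact hCle)
  obtain ⟨x, hxB, hxc⟩ : ∃ x ∈ Bb, Nat.card (Subgroup.centralizer ({x} : Set (X ⧸ Z))) = p ^ 2 := by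
    by_cases hBZ : Bb ≤ Subgroup.center (X ⧸ Z)
    · have htop : Bb = ⊤ := by
        rw [hBCeq, hCb, Subgroup.centralizer_eq_top_iff_subset]
        exact hBZ
      refine ⟨1, one_mem _, ?_⟩
      rw [show Subgroup.centralizer ({(1 : X ⧸ Z)} : Set (X ⧸ Z)) = ⊤ by
        rw [Subgroup.centralizer_eq_top_iff_subset]; simp, ← htop, hBbc]
    · obtain ⟨x, hx, hxZ⟩ := SetLike.not_le_iff_exists.1 hBZ
      refine ⟨x, hx, le_antisymm ?_ ?_⟩
      · rw [← hBbc]
        refine Subgroup.card_le_of_le ?_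
        rw [hBCeq, hCb]
        intro g hg
        rw [Subgroup.mem_centralizer_singleton_iff] at hg
        rw [Subgroup.mem_centralizer_iff]
        intro y hy
        -- `Bb` is generated by `x` and the centre
        have hS : Bb ≤ Bb ⊓ Subgroup.centralizer ({g} : Set (X ⧸ Z)) := by
          set S := Bb ⊓ Subgroup.centralizer ({g} : Set (X ⧸ Z)) with hSdef
          haveI : Nontrivial (X ⧸ Z) := ⟨⟨x, 1, fun h => hxZ (h ▸ one_mem _)⟩⟩
          have hzS : Subgroup.center (X ⧸ Z) ≤ S :=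
            le_inf (hBCeq.symm ▸ Subgroup.center_le_centralizer _) (Subgroup.center_le_centralizer _)
          have hlt' : Subgroup.center (X ⧸ Z) < S := lt_of_le_of_ne hzS fun h => hxZ (h.symm ▸
            (⟨hx, Subgroup.mem_centralizer_singleton_iff.2 hg.symm⟩ : x ∈ S))
          obtain ⟨s, hs⟩ := IsPGroup.iff_card.1 ((IsPGroup.of_card hXb).to_subgroup S)
          obtain ⟨t, ht⟩ := IsPGroup.iff_card.1 ((IsPGroup.of_card hXb).to_subgroup (Subgroup.center (X ⧸ Z)))
          have ht0 : t ≠ 0 := fun h => ((IsPGroup.of_card hXb).bot_lt_center).ne'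
            (Subgroup.card_eq_one.1 (by rw [ht, h, pow_zero]))
          have hst : t < s := (Nat.pow_lt_pow_iff_right hp.one_lt).1 (by
            rw [← hs, ← ht]
            exact lt_of_le_of_ne (Subgroup.card_le_of_le hlt'.le) fun e => hlt'.ne (Subgroup.eq_of_le_of_card_ge hlt'.le e.ge))
          exact (Subgroup.eq_of_le_of_card_ge (inf_le_left : S ≤ Bb) (by
            rw [hBbc, hs]; exact Nat.pow_le_pow_right hp.pos (by omega))).ge
        exact Subgroup.mem_centralizer_singleton_iff.1 (hS hy).2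
      · rw [← hBbc]
        refine Subgroup.card_le_of_le ?_
        rw [hBCeq, hCb]
        exact Subgroup.centralizer_le (Set.singleton_subset_iff.2 hx)
  rw [S4143Aux.class_of_centralizer (n - 1) (X ⧸ Z) hXb x hxc]
  omega

end Cfsg.Agent.S4143
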