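import Cfsg.Statements.S4278
import Cfsg.Agent.Lib.ChevOdd.ChecksG2

set_option autoImplicit false
open Cfsg Cfsg.Agent

namespace Cfsg.Agent.S4278

/-- In the Chevalley group of type G₂ over a finite field of odd order, any two involutions are conjugate. -/
theorem result {F : Type*} [Field F] [Fintype F] (hF : Odd (Fintype.card F)) (s t : ↥(Cfsg.Lie.chevG2.group F)) (hs : orderOf s = 2) (ht : orderOf t = 2) : IsConj s t := by
  obtain ⟨r, hr, -, -⟩ := ChevOdd.exists_rep (F := F) ChevOdd.G2.oka (by decide) (ChevOdd.two_ne hF)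
    ChevOdd.G2.card_diag
  have h : ∀ u : ↥(Chev.G2Data.tab.D.group F), orderOf u = 2 → IsConj u r := fun u hu =>
    (ChevOdd.classes ChevOdd.G2.oka ChevOdd.G2.oka ChevOdd.G2.pairs hF ChevOdd.G2.cover hr hr hu).elim id id
  exact (h s hs).trans (h t ht).symm

end Cfsg.Agent.S4278
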