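import Cfsg.Statements.S5892
import Cfsg.Agent.Lib.Classical.DicksonMaxArith

set_option autoImplicit false
open Cfsg

namespace Cfsg.Agent.S5892

/-- Let F be a finite field of odd order q ≥ 5 and characteristic p, and let M be a maximal subgroup of PSL₂(F). Then one of the following holds: |M| = q(q − 1)/2 (the stabiliser of a point of the projective line); q ≥ 13 and M is dihedral of order q − 1; q ∉ {7, 9} and M is dihedral of order q + 1; q = q₀² and M ≅ PGL₂(F₀) with |F₀| = q₀; q = q₀^r for an odd prime r and M ≅ PSL₂(F₀) with |F₀| = q₀; q ≡ ±1 (mod 10) with q = p or q = p², p ≡ ±3 (mod 10), and M ≅ A₅; q = p ≡ ±3 (mod 8), q ≢ ±1 (mod 10), and M ≅ A₄; or q = p ≡ ±1 (mod 8) and M ≅ S₄. -/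
theorem result {F : Type*} [Field F] [Fintype F] (p : ℕ)
    [Fact p.Prime] [CharP F p] (hodd : Odd (Fintype.card F)) (h5 : 5 ≤ Fintype.card F)
    (M : Subgroup (Matrix.ProjectiveSpecialLinearGroup (Fin 2) F)) (hM : IsCoatom M) :
    2 * Nat.card M = Fintype.card F * (Fintype.card F - 1) ∨
    (13 ≤ Fintype.card F ∧ (∃ k : ℕ, 2 * k = Fintype.card F - 1 ∧ Nonempty (M ≃* DihedralGroup k))) ∨
    (Fintype.card F ≠ 7 ∧ Fintype.card F ≠ 9 ∧ (∃ k : ℕ, 2 * k = Fintype.card F + 1 ∧ Nonempty (M ≃* DihedralGroup k))) ∨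
    (∃ (F₀ : Type) (_ : Field F₀) (_ : Fintype F₀), Fintype.card F = Fintype.card F₀ ^ 2 ∧
        Nonempty (M ≃* Matrix.ProjGenLinGroup (Fin 2) F₀)) ∨
    (∃ (F₀ : Type) (_ : Field F₀) (_ : Fintype F₀) (r : ℕ), r.Prime ∧ Odd r ∧ Fintype.card F = Fintype.card F₀ ^ r ∧
        Nonempty (M ≃* Matrix.ProjectiveSpecialLinearGroup (Fin 2) F₀)) ∨
    ((Fintype.card F % 10 = 1 ∨ Fintype.card F % 10 = 9) ∧
        (Fintype.card F = p ∨ (Fintype.card F = p ^ 2 ∧ (p % 10 = 3 ∨ p % 10 = 7))) ∧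
        Nonempty (M ≃* alternatingGroup (Fin 5))) ∨
    (Fintype.card F = p ∧ (p % 8 = 3 ∨ p % 8 = 5) ∧ ¬ (p % 10 = 1 ∨ p % 10 = 9) ∧
        Nonempty (M ≃* alternatingGroup (Fin 4))) ∨
    (Fintype.card F = p ∧ (p % 8 = 1 ∨ p % 8 = 7) ∧ Nonempty (M ≃* Equiv.Perm (Fin 4))) := by
  classical
  have hq : Nat.card F = Fintype.card F := Nat.card_eq_fintype_card
  have hodd' : Fintype.card F % 2 = 1 := Nat.odd_iff.1 hodd
  have hz : Nat.card (Subgroup.center (Matrix.SpecialLinearGroup (Fin 2) F)) = 2 := by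
    rw [Dickson.card_center, hq]
    exact Nat.gcd_eq_left (by omega)
  have h4 : 4 ≤ Nat.card F := by omega
  have hp2 : p ≠ 2 := by
    rintro rfl
    obtain ⟨n, -, hn⟩ := FiniteField.card F 2
    have : 2 ∣ 2 ^ (n : ℕ) := dvd_pow_self 2 n.ne_zero
    omega
  rcases Dickson.maximal_cases p h4 hM with h | ⟨k, hk, hk2, ⟨e⟩⟩ | ⟨-, h3, ⟨e⟩⟩ | ⟨-, h3, ⟨e⟩⟩ | ⟨-, hp5, ⟨e⟩⟩ |
    ⟨K, i1, i2, m, hm, hKm, -, hA, hB⟩
  · left
    rwa [hz, hq] at h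
  · rw [hz, hq] at hk
    rcases hk with hk | hk
    · refine Or.inr (Or.inr (Or.inl ⟨fun h7 => ?_, fun h9 => ?_, k, hk, ⟨e⟩⟩))
      · exact Dickson.dihedral_small h4 hM e (Or.inr (Or.inl ⟨by omega, Or.inr (by omega)⟩))
      · exact Dickson.dihedral_small h4 hM e (Or.inr (Or.inr (Or.inl ⟨by omega, Or.inr (by omega)⟩)))
    · refine Or.inr (Or.inl ⟨?_, k, hk, ⟨e⟩⟩)
      by_contra h13
      refine Dickson.dihedral_small h4 hM e ?_
      omega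
  · obtain ⟨h, h8, h10⟩ := Dickson.a4_conditions p hp2 h3 h4 hM e
    exact Or.inr (Or.inr (Or.inr (Or.inr (Or.inr (Or.inr (Or.inl ⟨hq.symm.trans h, h8, h10, ⟨e⟩⟩))))))
  · obtain ⟨h, h8⟩ := Dickson.s4_conditions p hp2 h3 h4 hM e
    exact Or.inr (Or.inr (Or.inr (Or.inr (Or.inr (Or.inr (Or.inr ⟨hq.symm.trans h, h8, ⟨e⟩⟩))))))
  · obtain ⟨h10, h⟩ := Dickson.a5_conditions p hp2 hp5 hM e
    rw [hq] at h10 h
    exact Or.inr (Or.inr (Or.inr (Or.inr (Or.inr (Or.inl ⟨h10, h, ⟨e⟩⟩)))))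
  · rw [hq] at hKm
    rcases eq_or_ne m 2 with rfl | hm2
    · exact Or.inr (Or.inr (Or.inr (Or.inl ⟨K, i1, i2, hKm.symm, hB hp2 rfl⟩)))
    · exact Or.inr (Or.inr (Or.inr (Or.inr (Or.inl ⟨K, i1, i2, m, hm, hm.odd_of_ne_two hm2, hKm.symm, hA (Or.inr hm2)⟩))))

end Cfsg.Agent.S5892
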