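import Cfsg.Statements.S0255
import Cfsg.Agent.S0495
import Cfsg.Agent.Lib.Classical.SL
-- import your own Cfsg.Agent.* helpers here

set_option autoImplicit false
open Cfsg

namespace Cfsg.Agent.S0255

/-- PSL_2(7) is isomorphic to PSL_3(2). -/
theorem result {F K : Type*} [Field F] [Fintype F] [Field K] [Fintype K] (hF : Fintype.card F = 7) (hK : Fintype.card K = 2) : Nonempty (Matrix.ProjectiveSpecialLinearGroup (Fin 2) F ≃* Matrix.ProjectiveSpecialLinearGroup (Fin 3) K) := by
  haveI : IsSimpleGroup (Matrix.ProjectiveSpecialLinearGroup (Fin 3) K) :=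
    ClassicalSL.isSimpleGroup_psl (by simp)
  have hc : Nat.card (Matrix.ProjectiveSpecialLinearGroup (Fin 3) K) = 168 := by
    have hK' : Nat.card K = 2 := by rw [Nat.card_eq_fintype_card, hK]
    have h := ClassicalSL.card_psl_mul (ι := Fin 3) (F := K)
    rw [ClassicalSL.card_gl_fin hK' 3, hK', Fintype.card_fin] at h
    rw [show (∏ i : Fin 3, (2 ^ 3 - 2 ^ (i : ℕ))) = 168 by decide] at h
    simpa using h
  obtain ⟨e⟩ := S0495.result hc hF
  exact ⟨e.symm⟩

end Cfsg.Agent.S0255
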