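import Cfsg.Statements.S0811
import Cfsg.Agent.Lib.Classical.DicksonMaximal

set_option autoImplicit false
open Cfsg

namespace Cfsg.Agent.S0811

/-- For q ∉ {2, 7, 9}, PSL_2(q) has a maximal subgroup isomorphic to the dihedral group of order 2(q + 1)/d, d = gcd(2, q − 1). -/
theorem result {F : Type*} [Field F] [Fintype F] {q : ℕ} (hF : Fintype.card F = q) (hq : q ∉ ({2, 7, 9} : Finset ℕ)) : ∃ H : Subgroup (Matrix.ProjectiveSpecialLinearGroup (Fin 2) F), IsCoatom H ∧ Nonempty (H ≃* DihedralGroup ((q + 1) / Nat.gcd 2 (q - 1))) := by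
  classical
  have hq' : Nat.card F = q := by rw [Nat.card_eq_fintype_card, hF]
  obtain ⟨p, hp⟩ := CharP.exists F
  obtain ⟨n, hpp, hn⟩ := FiniteField.card F p
  haveI := Fact.mk hpp
  have hqp : q = p ^ (n : ℕ) := hF.symm.trans hn
  simp only [Finset.mem_insert, Finset.mem_singleton, not_or] at hq
  have hq2 : 1 < q := hq' ▸ Finite.one_lt_card
  have h6 : q ≠ 6 := fun h => by
    have h25 : 2 ∣ p ^ (n : ℕ) ∧ 3 ∣ p ^ (n : ℕ) := by rw [← hqp, h]; norm_num
    have e1 := (Nat.prime_dvd_prime_iff_eq Nat.prime_two hpp).1 (Nat.prime_two.dvd_of_dvd_pow h25.1)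
    have e2 := (Nat.prime_dvd_prime_iff_eq Nat.prime_three hpp).1 (Nat.prime_three.dvd_of_dvd_pow h25.2)
    omega
  obtain ⟨z, hz⟩ : ∃ z, Nat.card (Subgroup.center (Matrix.SpecialLinearGroup (Fin 2) F)) = z := ⟨_, rfl⟩
  have hzg : z = Nat.gcd 2 (q - 1) := by rw [← hz, Dickson.card_center, hq']
  have hP := Dickson.zz_mul_card (F := F)
  rw [hz, hq'] at hP
  have hzc : (z = 1 ∧ q % 2 = 0) ∨ (z = 2 ∧ q % 2 = 1) := by
    rcases Nat.mod_two_eq_zero_or_one q with h | h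
    · left
      refine ⟨?_, h⟩
      rw [hzg, Nat.gcd_comm]
      exact (Nat.coprime_two_right.2 (Nat.odd_iff.2 (by omega)) : Nat.Coprime (q - 1) 2)
    · right
      exact ⟨by rw [hzg]; exact Nat.gcd_eq_left (by omega), h⟩
  obtain ⟨D, ⟨e⟩, hD⟩ := Dickson.exists_dihedral_plus (F := F)
  rw [hz, hq'] at e hD
  have hk' : (q + 1) / Nat.gcd 2 (q - 1) = (q + 1) / z := by rw [hzg]
  rw [hk']
  obtain ⟨k, hkdef⟩ : ∃ k, (q + 1) / z = k := ⟨_, rfl⟩
  rw [hkdef] at e hD ⊢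
  have hzk : z * k = q + 1 := by rcases hzc with ⟨rfl, h⟩ | ⟨rfl, h⟩ <;> omega
  refine ⟨D, ⟨fun h => ?_, fun G hG => ?_⟩, ⟨e⟩⟩
  · rw [h, Subgroup.card_top] at hD
    rw [hD, mul_left_comm, hzk] at hP
    have h2 : q ^ 2 - 1 = (q + 1) * (q - 1) := by simpa using Nat.sq_sub_sq q 1
    have h3 : 3 * 2 ≤ q * (q - 1) := Nat.mul_le_mul (by omega) (by omega)
    rw [h2] at hP
    nlinarith
  by_contra hne
  have hk2 : 2 ≤ k := by rcases hzc with ⟨rfl, h⟩ | ⟨rfl, h⟩ <;> omega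
  have hdvdP := G.card_subgroup_dvd_card
  rcases Dickson.dihedral_overgroup p hk2 e hG hne with ⟨k', hle, -, hlt⟩ | ⟨S, hS⟩ | ⟨hk, hc⟩ | ⟨hk, hc⟩ | ⟨hk, hc⟩ | ⟨r, m, hr, hm, hrq, hk, -⟩
  · rw [hz, hq'] at hle
    rcases hzc with ⟨rfl, h⟩ | ⟨rfl, h⟩ <;> omega
  · have h1 := Dickson.card_normalizer_sylow p S
    have h2 := Nat.mul_dvd_mul_left z (Subgroup.card_dvd_of_le (hG.le.trans hS))
    rw [hD, ← hz, h1, hz, hq', mul_left_comm, hzk] at h2
    have h3 : q * (q - 1) + 2 * q + 2 = (q + 1) * q + 2 := by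
      obtain ⟨j, rfl⟩ := Nat.exists_eq_add_of_le (show 1 ≤ q by omega)
      rw [Nat.add_sub_cancel_left]; ring
    have h4 : q + 1 ∣ q * (q - 1) + 2 * q + 2 := by
      rw [add_assoc]
      exact dvd_add (dvd_trans (dvd_mul_left _ _) h2) ⟨2, by ring⟩
    rw [h3] at h4
    have := Nat.le_of_dvd (by norm_num) ((Nat.dvd_add_right (dvd_mul_right (q + 1) q)).1 h4)
    omega
  · have : q ≤ 3 := by rcases hzc with ⟨rfl, h⟩ | ⟨rfl, h⟩ <;> omega
    interval_cases q
    · omega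
    · rcases hzc with ⟨rfl, h⟩ | ⟨rfl, h⟩
      · omega
      · simp only [Nat.reducePow, Nat.reduceSub, Nat.reduceMul, one_mul] at hP
        exact hne (Subgroup.eq_top_of_card_eq _ (by omega))
  all_goals rcases hzc with ⟨rfl, h⟩ | ⟨rfl, h⟩
  · have hq4 : q = 2 := by omega
    omega
  · have hq35 : q = 3 ∨ q = 5 := by omega
    rw [hc] at hdvdP
    rcases hq35 with rfl | rfl <;> simp only [Nat.reducePow, Nat.reduceSub, Nat.reduceMul, one_mul] at hP <;> obtain ⟨c, hc'⟩ := hdvdP <;> omega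
  · have hq4 : q = 4 := by omega
    subst hq4
    simp only [Nat.reducePow, Nat.reduceSub, Nat.reduceMul, one_mul] at hP
    exact hne (Subgroup.eq_top_of_card_eq _ (by omega))
  · have hq35 : q = 3 ∨ q = 5 := by omega
    rw [hc] at hdvdP
    rcases hq35 with rfl | rfl
    · simp only [Nat.reducePow, Nat.reduceSub, Nat.reduceMul, one_mul] at hP
      obtain ⟨c, hc'⟩ := hdvdP
      omega
    · simp only [Nat.reducePow, Nat.reduceSub, Nat.reduceMul, one_mul] at hP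
      exact hne (Subgroup.eq_top_of_card_eq _ (by omega))
  · rw [hq'] at hrq
    have h2 : r ^ 2 ≤ q := hrq ▸ Nat.pow_le_pow_right (by omega) hm
    nlinarith
  · rw [hq'] at hrq
    have h2 : r ^ 2 ≤ q := hrq ▸ Nat.pow_le_pow_right (by omega) hm
    have hr3 : 3 ≤ r := by
      by_contra h3
      have : r = 2 := by omega
      subst this
      rw [← hrq, Nat.pow_mod, Nat.mod_self, zero_pow (by omega), Nat.zero_mod] at h
      omega
    nlinarith

end Cfsg.Agent.S0811
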