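import Cfsg.Statements.S0812
import Cfsg.Agent.Lib.Classical.DicksonMaximal

set_option autoImplicit false
open Cfsg

namespace Cfsg.Agent.S0812

/-- For q ∉ {2, 3, 5, 7, 9, 11}, PSL_2(q) has a maximal subgroup isomorphic to the dihedral group of order 2(q − 1)/d, d = gcd(2, q − 1). -/
theorem result {F : Type*} [Field F] [Fintype F] {q : ℕ} (hF : Fintype.card F = q) (hq : q ∉ ({2, 3, 5, 7, 9, 11} : Finset ℕ)) : ∃ H : Subgroup (Matrix.ProjectiveSpecialLinearGroup (Fin 2) F), IsCoatom H ∧ Nonempty (H ≃* DihedralGroup ((q - 1) / Nat.gcd 2 (q - 1))) := by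
  classical
  have hq' : Nat.card F = q := by rw [Nat.card_eq_fintype_card, hF]
  obtain ⟨p, hp⟩ := CharP.exists F
  obtain ⟨n, hpp, hn⟩ := FiniteField.card F p
  haveI := Fact.mk hpp
  have hqp : q = p ^ (n : ℕ) := hF.symm.trans hn
  simp only [Finset.mem_insert, Finset.mem_singleton, not_or] at hq
  have hq2 : 1 < q := hq' ▸ Finite.one_lt_card
  have h6 : q ≠ 6 := fun h => by
    have h25 : 2 ∣ p ^ (n : ℕ) ∧ 3 ∣ p ^ (n : ℕ) := by rw [← hqp, h]; norm_num
    have e1 := (Nat.prime_dvd_prime_iff_eq Nat.prime_two hpp).1 (Nat.prime_two.dvd_of_dvd_pow h25.1)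
    have e2 := (Nat.prime_dvd_prime_iff_eq Nat.prime_three hpp).1 (Nat.prime_three.dvd_of_dvd_pow h25.2)
    omega
  obtain ⟨z, hz⟩ : ∃ z, Nat.card (Subgroup.center (Matrix.SpecialLinearGroup (Fin 2) F)) = z := ⟨_, rfl⟩
  have hzg : z = Nat.gcd 2 (q - 1) := by rw [← hz, Dickson.card_center, hq']
  have hP := Dickson.zz_mul_card (F := F)
  rw [hz, hq'] at hP
  have hzc : (z = 1 ∧ q % 2 = 0) ∨ (z = 2 ∧ q % 2 = 1) := by
    rcases Nat.mod_two_eq_zero_or_one q with h | h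
    · left
      refine ⟨?_, h⟩
      rw [hzg, Nat.gcd_comm]
      exact (Nat.coprime_two_right.2 (Nat.odd_iff.2 (by omega)) : Nat.Coprime (q - 1) 2)
    · right
      exact ⟨by rw [hzg]; exact Nat.gcd_eq_left (by omega), h⟩
  have hq4 : 4 ≤ q := by omega
  obtain ⟨D, ⟨e⟩, hD⟩ := Dickson.exists_dihedral_minus (F := F) (hq'.symm ▸ hq4)
  rw [hz, hq'] at e hD
  have hk' : (q - 1) / Nat.gcd 2 (q - 1) = (q - 1) / z := by rw [hzg]
  rw [hk']
  obtain ⟨k, hkdef⟩ : ∃ k, (q - 1) / z = k := ⟨_, rfl⟩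
  rw [hkdef] at e hD ⊢
  have hzk : z * k + 1 = q := by rcases hzc with ⟨rfl, h⟩ | ⟨rfl, h⟩ <;> omega
  refine ⟨D, ⟨fun h => ?_, fun G hG => ?_⟩, ⟨e⟩⟩
  · rw [h, Subgroup.card_top] at hD
    rw [hD, mul_left_comm] at hP
    have h2 : 16 ≤ q ^ 2 := by nlinarith
    have h3 : q * 15 ≤ q * (q ^ 2 - 1) := Nat.mul_le_mul_left _ (by omega)
    omega
  by_contra hne
  have hk2 : 3 ≤ k := by rcases hzc with ⟨rfl, h⟩ | ⟨rfl, h⟩ <;> omega
  have hdvdP := G.card_subgroup_dvd_card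
  have hGD : 2 * k < Nat.card G := hD ▸ Set.ncard_lt_ncard (SetLike.coe_ssubset_coe.2 hG) (Set.toFinite _)
  rcases Dickson.dihedral_overgroup p (by omega) e hG hne with ⟨k', hle, hd, hlt⟩ | ⟨S, hS⟩ | ⟨hk, hc⟩ | ⟨hk, hc⟩ | ⟨hk, hc⟩ | ⟨r, m, hr, hm, hrq, hk, hGb⟩
  · rw [hz, hq'] at hle
    obtain ⟨c, hc⟩ := hd
    have hc2 : 2 ≤ c := by
      by_contra h
      rcases Nat.lt_or_ge c 1 with h' | h' <;> nlinarith
    have h2 : 2 * k * 2 ≤ 2 * k' := hc ▸ Nat.mul_le_mul_left _ hc2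
    rcases hzc with ⟨rfl, h⟩ | ⟨rfl, h⟩ <;> omega
  · have h1 := Dickson.card_normalizer_sylow p S
    have h2 := Nat.mul_dvd_mul_left z (Subgroup.card_dvd_of_le (hG.le.trans hS))
    rw [hD, ← hz, h1, hz, hq', mul_left_comm, show z * k = q - 1 by omega] at h2
    have h3 : 2 ∣ q := (Nat.mul_dvd_mul_iff_right (show 0 < q - 1 by omega)).1 h2
    have hp2 : p = 2 :=
      ((Nat.prime_dvd_prime_iff_eq Nat.prime_two hpp).1 (Nat.prime_two.dvd_of_dvd_pow (hqp ▸ h3))).symm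
    subst hp2
    have hz1 : z = 1 := by rcases hzc with ⟨rfl, h⟩ | ⟨rfl, h⟩ <;> omega
    subst hz1
    have hle : D ≤ Subgroup.normalizer ((S : Subgroup (Matrix.ProjectiveSpecialLinearGroup (Fin 2) F)) :
        Set (Matrix.ProjectiveSpecialLinearGroup (Fin 2) F)) := hG.le.trans hS
    have hsr : ∀ i : ZMod k, ((e.symm (DihedralGroup.sr i) : D) : Matrix.ProjectiveSpecialLinearGroup (Fin 2) F) ∈
        (S : Subgroup (Matrix.ProjectiveSpecialLinearGroup (Fin 2) F)) := by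
      intro i
      set t := ((e.symm (DihedralGroup.sr i) : D) : Matrix.ProjectiveSpecialLinearGroup (Fin 2) F) with ht
      have hpow : t ^ 2 ^ 1 = 1 := by
        rw [pow_one, ht, pow_two, ← Subgroup.coe_mul, ← map_mul, DihedralGroup.sr_mul_self, map_one,
          Subgroup.coe_one]
      have hpg : IsPGroup 2 (Subgroup.zpowers t) := fun x => by
        obtain ⟨j, hj⟩ := x.2
        refine ⟨1, Subtype.ext ?_⟩
        rw [SubmonoidClass.coe_pow, ← hj, Subgroup.coe_one, ← zpow_natCast, ← zpow_mul, mul_comm, zpow_mul,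
          zpow_natCast, hpow, one_zpow]
      exact (hpg.inf_normalizer_sylow S).le ⟨Subgroup.mem_zpowers t, hle (e.symm (DihedralGroup.sr i)).2⟩ |>.2
    have hr1 : ((e.symm (DihedralGroup.r 1) : D) : Matrix.ProjectiveSpecialLinearGroup (Fin 2) F) ∈
        (S : Subgroup (Matrix.ProjectiveSpecialLinearGroup (Fin 2) F)) := by
      have : (DihedralGroup.r 1 : DihedralGroup k) = DihedralGroup.sr 0 * DihedralGroup.sr 1 := by
        rw [DihedralGroup.sr_mul_sr, sub_zero]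
      rw [this, map_mul, Subgroup.coe_mul]
      exact mul_mem (hsr 0) (hsr 1)
    obtain ⟨j, hj⟩ := IsPGroup.iff_card.1 S.2
    have h4 := Subgroup.orderOf_dvd_natCard _ hr1
    rw [hj, Subgroup.orderOf_coe, e.symm.orderOf_eq, DihedralGroup.orderOf_r_one] at h4
    obtain ⟨i, -, hi⟩ := (Nat.dvd_prime_pow Nat.prime_two).1 h4
    rcases Nat.eq_zero_or_pos i with rfl | hi0
    · omega
    · have : 2 ∣ k := hi ▸ dvd_pow_self 2 (by omega)
      omega
  · omega
  all_goals rcases hzc with ⟨rfl, h⟩ | ⟨rfl, h⟩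
  · have hq4' : q = 4 := by omega
    subst hq4'
    rw [hc] at hdvdP
    simp only [Nat.reducePow, Nat.reduceSub, Nat.reduceMul, one_mul] at hP
    obtain ⟨c, hc'⟩ := hdvdP
    omega
  · omega
  · have hq4' : q = 4 := by omega
    subst hq4'
    simp only [Nat.reducePow, Nat.reduceSub, Nat.reduceMul, one_mul] at hP
    exact hne (Subgroup.eq_top_of_card_eq _ (by omega))
  · omega
  · rw [hq'] at hrq
    have h2 : r ^ 2 ≤ q := hrq ▸ Nat.pow_le_pow_right (by omega) hm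
    have hr2 : r = 2 := by nlinarith
    subst hr2
    omega
  · rw [hq'] at hrq
    have h2 : r ^ 2 ≤ q := hrq ▸ Nat.pow_le_pow_right (by omega) hm
    have hr3 : r ≤ 3 := by nlinarith
    interval_cases r <;> omega

end Cfsg.Agent.S0812
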