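import Cfsg.Statements.S4145
import Cfsg.Agent.Lib.Transfer.Fusion
import Cfsg.Agent.Lib.Solvable.Coprime
import Cfsg.Agent.Lib.PLocal.PSolvable

set_option autoImplicit false
set_option linter.style.haveILetI false

namespace Cfsg.Agent.S4145Aux

open Cfsg.Agent
open scoped Pointwise

variable {G : Type*} [Group G] [Finite G] {p : ℕ} [hp : Fact p.Prime]

lemma centralizer_of_cyclic {P : Subgroup G} (hP : IsPGroup p P) (hc : IsCyclic P) {y z : G}
    (hy : y ∈ Subgroup.normalizer (P : Set G)) (hyo : (orderOf y).Coprime p)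
    (hz : z ∈ P) (hz1 : z ≠ 1) (hyz : y * z = z * y) :
    y ∈ Subgroup.centralizer (P : Set G) := by
  classical
  haveI : IsMulCommutative P := hc.isMulCommutative
  have hAV : Subgroup.zpowers y ≤ Subgroup.normalizer (P : Set G) := Subgroup.zpowers_le.2 hy
  obtain ⟨n, hn⟩ := IsPGroup.iff_card.1 hP
  have hcop : (Nat.card (Subgroup.zpowers y)).Coprime (Nat.card P) := by
    rw [Nat.card_zpowers, hn]; exact hyo.pow_right n
  refine CoprimeAct.le_centralizer_of_fix_prime hAV hcop ?_ (Subgroup.mem_zpowers y)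
  intro v hv hvo a ha
  obtain ⟨j, hj⟩ := IsPGroup.iff_orderOf.1 hP ⟨v, hv⟩
  rw [Subgroup.orderOf_mk] at hj
  have hvp : orderOf v = p := by
    rw [hj] at hvo ⊢
    rw [Nat.Prime.eq_one_of_pow hvo, pow_one]
  obtain ⟨i, hi⟩ := IsPGroup.iff_orderOf.1 hP ⟨z, hz⟩
  rw [Subgroup.orderOf_mk] at hi
  have hi0 : i ≠ 0 := fun h => hz1 (orderOf_eq_one_iff.1 (by rw [hi, h, pow_zero]))
  obtain ⟨i', rfl⟩ := Nat.exists_eq_succ_of_ne_zero hi0
  set w := z ^ p ^ i' with hw
  have hwo : orderOf w = p := by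
    rw [hw, orderOf_pow_of_dvd (pow_ne_zero _ hp.out.ne_zero) (hi ▸ pow_dvd_pow p (Nat.le_succ _)),
      hi, pow_succ, Nat.mul_div_cancel_left _ (pow_pos hp.out.pos _)]
  have hwP : w ∈ P := pow_mem hz _
  have hyw : Commute y w := (show Commute y z from hyz).pow_right _
  haveI := Fintype.ofFinite P
  let W : Subgroup P := Subgroup.zpowers ⟨w, hwP⟩
  have hvW : (⟨v, hv⟩ : P) ∈ W := by
    have hwp : (⟨w, hwP⟩ : P) ^ p = 1 := Subtype.ext (by simpa [← hwo] using pow_orderOf_eq_one w)
    have h1 : Finset.univ.filter (fun x : P => x ∈ W) ⊆ Finset.univ.filter (fun x : P => x ^ p = 1) := by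
      intro x hx
      simp only [Finset.mem_filter, Finset.mem_univ, true_and] at hx ⊢
      obtain ⟨k, rfl⟩ := hx
      change ((⟨w, hwP⟩ : P) ^ k) ^ p = 1
      rw [← zpow_natCast, ← zpow_mul, mul_comm, zpow_mul, zpow_natCast, hwp, one_zpow]
    have h2 := Finset.eq_of_subset_of_card_le h1 ((IsCyclic.card_pow_eq_one_le hp.out.pos).trans (by
      rw [← Fintype.card_subtype, ← Nat.card_eq_fintype_card]
      show p ≤ Nat.card W
      rw [Nat.card_zpowers, Subgroup.orderOf_mk, hwo]))
    have h3 : (⟨v, hv⟩ : P) ∈ Finset.univ.filter (fun x : P => x ^ p = 1) := by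
      simp only [Finset.mem_filter, Finset.mem_univ, true_and]
      exact Subtype.ext (by simpa [← hvp] using pow_orderOf_eq_one v)
    rw [← h2] at h3
    simpa using h3
  obtain ⟨k, hk⟩ := hvW
  have hv' : v = w ^ k := (congrArg Subtype.val hk).symm
  obtain ⟨m, rfl⟩ := ha
  rw [hv']
  exact (hyw.zpow_zpow m k).eq

lemma normalizer_le (P : Sylow p G) (hc : IsCyclic (P : Subgroup G))
    (h : ∀ y ∈ Subgroup.normalizer ((P : Subgroup G) : Set G), (orderOf y).Coprime p →
      ∃ z ∈ (P : Subgroup G), z ≠ 1 ∧ y * z = z * y) :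
    Subgroup.normalizer ((P : Subgroup G) : Set G) ≤ Subgroup.centralizer ((P : Subgroup G) : Set G) := by
  intro g hg
  obtain ⟨u, v, huv, hu, hv, ⟨k, hk⟩, hvo⟩ := PBasic.exists_pPart_mul (p := p) g
  have hun := Subgroup.zpowers_le.2 hg hu
  have hvn := Subgroup.zpowers_le.2 hg hv
  have huP : u ∈ (P : Subgroup G) := by
    have hzp : IsPGroup p (Subgroup.zpowers u) :=
      IsPGroup.of_card (n := k) (by rw [Nat.card_zpowers, hk])
    have h1 : IsPGroup p ((P : Subgroup G) ⊔ Subgroup.zpowers u : Subgroup G) :=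
      P.isPGroup'.to_sup_of_normal_left' hzp (Subgroup.zpowers_le.2 hun)
    exact P.is_maximal' h1 le_sup_left ▸ Subgroup.mem_sup_right (Subgroup.mem_zpowers u)
  obtain ⟨z, hz, hz1, hvz⟩ := h v hvn hvo
  haveI : IsMulCommutative (P : Subgroup G) := hc.isMulCommutative
  rw [← huv]
  refine mul_mem ?_ (centralizer_of_cyclic P.isPGroup' hc hvn hvo hz hz1 hvz)
  rw [Subgroup.mem_centralizer_iff]
  intro x hx
  exact congrArg Subtype.val (mul_comm' (⟨x, hx⟩ : (P : Subgroup G)) ⟨u, huP⟩)

end Cfsg.Agent.S4145Aux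


set_option autoImplicit false
open Cfsg
open scoped Pointwise commutatorElement

namespace Cfsg.Agent.S4145

/-- Let G be a finite group with a cyclic Sylow p-subgroup and H a normal subgroup such that p divides both the order of H and the index of H. Then H has a normal p-complement and G is p-solvable. -/
theorem result {G : Type*} [Group G] [Finite G] (p : ℕ) [Fact p.Prime]
    (P : Sylow p G) (hP : IsCyclic (P : Subgroup G)) (H : Subgroup G) [H.Normal] (h1 : p ∣ Nat.card H) (h2 : p ∣ H.index) :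
    Cfsg.HasNormalPComplement p H ∧ Cfsg.IsPSolvable p G := by
  classical
  haveI : IsMulCommutative (P : Subgroup G) := hP.isMulCommutative
  have hpp : p.Prime := Fact.out
  set M := H ⊔ (P : Subgroup G) with hM
  let PM : Sylow p M := P.subtype le_sup_right
  have hPMc : IsCyclic (PM : Subgroup M) :=
    (Subgroup.subgroupOfEquivOfLe (le_sup_right : (P : Subgroup G) ≤ M)).isCyclic.2 hP
  have hMnpc : Cfsg.HasNormalPComplement p M := by
    refine Fusion.hasNormalPComplement_of_normalizer_le_centralizer PM (S4145Aux.normalizer_le PM hPMc ?_)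
    intro y hy hyo
    have hyP : (y : G) ∈ Subgroup.normalizer ((P : Subgroup G) : Set G) := by
      rw [Subgroup.mem_normalizer_iff]
      intro x
      constructor
      · intro hx
        exact (Subgroup.mem_normalizer_iff.1 hy ⟨x, Subgroup.mem_sup_right hx⟩).1 hx
      · intro hx
        have hxM : x ∈ M := by
          have := mul_mem (mul_mem (inv_mem y.2) (Subgroup.mem_sup_right hx : _ ∈ M)) y.2
          simpa [mul_assoc] using this
        exact (Subgroup.mem_normalizer_iff.1 hy ⟨x, hxM⟩).2 hx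
    have hAV : Subgroup.zpowers (y : G) ≤ Subgroup.normalizer ((P : Subgroup G) : Set G) :=
      Subgroup.zpowers_le.2 hyP
    obtain ⟨n, hn⟩ := IsPGroup.iff_card.1 P.isPGroup'
    have hcop : (Nat.card (Subgroup.zpowers (y : G))).Coprime (Nat.card (P : Subgroup G)) := by
      rw [Nat.card_zpowers, Subgroup.orderOf_coe]
      exact hn ▸ hyo.pow_right n
    have hle : ⁅(P : Subgroup G), Subgroup.zpowers (y : G)⁆ ≤ H := by
      rw [Subgroup.commutator_le]
      intro x hx a ha
      have hcm : ∀ u ∈ M, ∀ v ∈ M, (u : G ⧸ H) * v = v * u := by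
        intro u hu v hv
        obtain ⟨h, hh, u', hu', rfl⟩ := Subgroup.mem_sup_of_normal_left.1 hu
        obtain ⟨h', hh', v', hv', rfl⟩ := Subgroup.mem_sup_of_normal_left.1 hv
        simp only [QuotientGroup.mk_mul, (QuotientGroup.eq_one_iff h).2 hh,
          (QuotientGroup.eq_one_iff h').2 hh', one_mul]
        rw [← QuotientGroup.mk_mul, ← QuotientGroup.mk_mul]
        exact congrArg (QuotientGroup.mk (s := H))
          (congrArg Subtype.val (mul_comm' (⟨u', hu'⟩ : (P : Subgroup G)) ⟨v', hv'⟩))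
      rw [← QuotientGroup.eq_one_iff, commutatorElement_def]
      simp only [QuotientGroup.mk_mul, QuotientGroup.mk_inv]
      rw [hcm x (Subgroup.mem_sup_right hx) a ((Subgroup.zpowers_le.2 y.2) ha)]
      simp [mul_assoc]
    have hne : (P : Subgroup G) ⊓ Subgroup.centralizer ((Subgroup.zpowers (y : G) : Subgroup G) : Set G) ≠ ⊥ := by
      intro hb
      have hs := CoprimeAct.commutator_sup_centralizer hAV hcop
        (Or.inr (Group.isSolvable_of_comm fun a b => mul_comm' a b))
      rw [hb, sup_bot_eq] at hs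
      exact P.not_dvd_index (h2.trans (Subgroup.index_dvd_of_le (hs.ge.trans hle)))
    obtain ⟨⟨z, hz⟩, hz1⟩ := Subgroup.ne_bot_iff_exists_ne_one.1 hne
    refine ⟨⟨z, Subgroup.mem_sup_right hz.1⟩, hz.1, fun e => hz1 (Subtype.ext (Subtype.ext_iff.1 e :)), ?_⟩
    exact Subtype.ext (Subgroup.mem_centralizer_iff.1 hz.2 _ (Subgroup.mem_zpowers _))
  have hHnpc : Cfsg.HasNormalPComplement p H :=
    PBasic.hasNormalPComplement_of_injective (Subgroup.inclusion (le_sup_left : H ≤ M))
      (Subgroup.inclusion_injective _) hMnpc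
  refine ⟨hHnpc, ?_⟩
  haveI := PBasic.pResidual_characteristic p H
  set K := (Cfsg.pResidual p H).map H.subtype with hK
  have hKH : K ≤ H := Subgroup.map_subtype_le _
  have hKc : (Nat.card K).Coprime p := by
    rw [hK, Subgroup.card_map_of_injective H.subtype_injective]
    exact PBasic.hasNormalPComplement_iff_pResidual.1 hHnpc
  haveI hKn : K.Normal := inferInstance
  refine PSolvable.of_quotient K (Or.inr hKc) ?_
  have hsurj := QuotientGroup.mk'_surjective K
  set Q := H.map (QuotientGroup.mk' K) with hQ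
  haveI : Q.Normal := (inferInstance : H.Normal).map _ hsurj
  have hQp : IsPGroup p Q := by
    rintro ⟨_, x, hx, rfl⟩
    obtain ⟨j, hj⟩ := PBasic.quotient_pResidual_isPGroup p H (QuotientGroup.mk ⟨x, hx⟩)
    refine ⟨j, Subtype.ext ?_⟩
    rw [← QuotientGroup.mk_pow, QuotientGroup.eq_one_iff] at hj
    show QuotientGroup.mk' K x ^ p ^ j = 1
    rw [← map_pow, QuotientGroup.mk'_apply, QuotientGroup.eq_one_iff]
    exact ⟨_, hj, rfl⟩
  have hQne : Q ≠ ⊥ := by
    intro hb
    rw [hQ, Subgroup.map_eq_bot_iff, QuotientGroup.ker_mk'] at hb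
    exact hpp.not_dvd_one (hKc ▸ Nat.dvd_gcd (h1.trans (Subgroup.card_dvd_of_le hb)) dvd_rfl)
  set Pb : Sylow p (G ⧸ K) := P.mapSurjective hsurj
  have hPbc : IsCyclic (Pb : Subgroup (G ⧸ K)) :=
    isCyclic_of_surjective ((QuotientGroup.mk' K).subgroupMap (P : Subgroup G))
      (MonoidHom.subgroupMap_surjective _ _)
  haveI : IsMulCommutative (Pb : Subgroup (G ⧸ K)) := hPbc.isMulCommutative
  have hQle : Q ≤ (Pb : Subgroup (G ⧸ K)) := by
    have hsup : IsPGroup p (Q ⊔ (Pb : Subgroup (G ⧸ K)) : Subgroup (G ⧸ K)) :=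
      hQp.to_sup_of_normal_left Pb.isPGroup'
    exact (Pb.is_maximal' hsup le_sup_right).le.trans' le_sup_left
  set C := Subgroup.centralizer (Q : Set (G ⧸ K)) with hC
  have hPC : (Pb : Subgroup (G ⧸ K)) ≤ C := by
    intro x hx
    rw [hC, Subgroup.mem_centralizer_iff]
    intro q hq
    exact congrArg Subtype.val (mul_comm' (⟨q, hQle hq⟩ : (Pb : Subgroup (G ⧸ K))) ⟨x, hx⟩)
  haveI : C.Normal := inferInstance
  let PC : Sylow p C := Pb.subtype hPC
  have hPCc : IsCyclic (PC : Subgroup C) :=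
    (Subgroup.subgroupOfEquivOfLe hPC).isCyclic.2 hPbc
  obtain ⟨⟨z, hz⟩, hz1⟩ := Subgroup.ne_bot_iff_exists_ne_one.1 hQne
  have hCnpc : Cfsg.HasNormalPComplement p C := by
    refine Fusion.hasNormalPComplement_of_normalizer_le_centralizer PC (S4145Aux.normalizer_le PC hPCc ?_)
    intro y _ _
    refine ⟨⟨z, hPC (hQle hz)⟩, hQle hz, fun e => hz1 (Subtype.ext (Subtype.ext_iff.1 e :)), ?_⟩
    exact Subtype.ext (Subgroup.mem_centralizer_iff.1 y.2 z hz).symm
  haveI := PBasic.pResidual_characteristic p C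
  set R := (Cfsg.pResidual p C).map C.subtype with hR
  have hRC : R ≤ C := Subgroup.map_subtype_le _
  refine ⟨3, ![⊥, R, C, ⊤], rfl, rfl, ?_, ?_, ?_⟩
  · rw [Fin.monotone_iff_le_succ]
    intro i
    fin_cases i <;> simp [hRC]
  · intro i
    fin_cases i
    · exact (inferInstance : (⊥ : Subgroup (G ⧸ K)).Normal)
    · exact (inferInstance : R.Normal)
    · exact (inferInstance : C.Normal)
    · exact (inferInstance : (⊤ : Subgroup (G ⧸ K)).Normal)
  · intro i
    fin_cases i
    · right
      show ((⊥ : Subgroup (G ⧸ K)).relIndex R).Coprime p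
      rw [Subgroup.relIndex_bot_left, hR, Subgroup.card_map_of_injective C.subtype_injective]
      exact PBasic.hasNormalPComplement_iff_pResidual.1 hCnpc
    · left
      show ∃ m, R.relIndex C = p ^ m
      rw [Subgroup.relIndex, hR, Subgroup.subgroupOf,
        Subgroup.comap_map_eq_self_of_injective C.subtype_injective]
      exact PBasic.exists_index_pow_of_isPGroup_quotient (PBasic.quotient_pResidual_isPGroup p C)
    · right
      show (C.relIndex ⊤).Coprime p
      rw [Subgroup.relIndex_top_right, Nat.coprime_comm, hpp.coprime_iff_not_dvd]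
      exact fun h => Pb.not_dvd_index (h.trans (Subgroup.index_dvd_of_le hPC))

end Cfsg.Agent.S4145
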