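import Cfsg.Agent.Lib.Components.FStar
import Cfsg.Agent.Lib.Transfer.Hall
import Cfsg.Agent.Lib.Solvable.Fitting
import Cfsg.Agent.Lib.FGStruct.AbelianCyclic
import Cfsg.Agent.S4145
import Mathlib.RingTheory.ZMod.UnitsCyclic

set_option autoImplicit false
set_option linter.style.haveILetI false

namespace Cfsg.Agent.S4403

open Cfsg.Agent
open scoped Pointwise

variable {K : Type*} [Group K] [Finite K] {p : ℕ} [hp : Fact p.Prime]

/-- commuting elements of order `p` generate the same subgroup -/
private theorem mem_zpowers_of_commute (P : Sylow p K) (hP : IsCyclic (P : Subgroup K)) {x y : K}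
    (hxy : Commute x y) (hx : orderOf x = p) (hy : orderOf y = p) : y ∈ Subgroup.zpowers x := by
  have hA : IsPGroup p ↥(Subgroup.zpowers x ⊔ Subgroup.zpowers y) := by
    have hc : ∀ (a : Subgroup.zpowers x) (b : Subgroup.zpowers y), Commute (a : K) (b : K) := by
      intro a b
      obtain ⟨i, hi⟩ := Subgroup.mem_zpowers_iff.1 a.2
      obtain ⟨j, hj⟩ := Subgroup.mem_zpowers_iff.1 b.2
      rw [← hi, ← hj]
      exact hxy.zpow_zpow i j
    let f := MonoidHom.noncommCoprod (Subgroup.zpowers x).subtype (Subgroup.zpowers y).subtype hc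
    have hprod : IsPGroup p (Subgroup.zpowers x × Subgroup.zpowers y) :=
      IsPGroup.of_card (n := 2) (by rw [Nat.card_prod, Nat.card_zpowers, Nat.card_zpowers, hx, hy, sq])
    have h1 : IsPGroup p f.range := hprod.of_surjective f.rangeRestrict f.rangeRestrict_surjective
    refine h1.to_le (sup_le (fun a ha => ⟨(⟨a, ha⟩, 1), mul_one a⟩) fun a ha => ⟨(1, ⟨a, ha⟩), one_mul a⟩)
  obtain ⟨Q, hQ⟩ := hA.exists_le_sylow
  have hQc : IsCyclic (Q : Subgroup K) := (P.equiv Q).isCyclic.1 hP
  have hab : AbCyc.AbCyclic (Q : Subgroup K) := fun A _ => inferInstance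
  have hxQ : x ∈ (Q : Subgroup K) := hQ (Subgroup.mem_sup_left (Subgroup.mem_zpowers x))
  have hyQ : y ∈ (Q : Subgroup K) := hQ (Subgroup.mem_sup_right (Subgroup.mem_zpowers y))
  obtain ⟨i, hi⟩ := AbCyc.mem_zpowers_of_commute hab (a := ⟨x, hxQ⟩) (b := ⟨y, hyQ⟩) (r := p)
    (Subtype.ext hxy) hp.out (by rwa [Subgroup.orderOf_mk]) (by rwa [Subgroup.orderOf_mk])
  exact ⟨i, congrArg Subtype.val hi⟩

private theorem false_of_disjoint (P : Sylow p K) (hP : IsCyclic (P : Subgroup K)) {A B : Subgroup K}
    (hAB : ∀ a ∈ A, ∀ b ∈ B, Commute a b) (hA : p ∣ Nat.card A) (hB : p ∣ Nat.card B)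
    (hint : A ⊓ B = ⊥) : False := by
  obtain ⟨a, ha⟩ := exists_prime_orderOf_dvd_card' (G := A) p hA
  obtain ⟨b, hb⟩ := exists_prime_orderOf_dvd_card' (G := B) p hB
  rw [← Subgroup.orderOf_coe] at ha hb
  have hm := mem_zpowers_of_commute P hP (hAB _ a.2 _ b.2) ha hb
  have : (b : K) ∈ A ⊓ B := ⟨Subgroup.zpowers_le.2 a.2 hm, b.2⟩
  rw [hint, Subgroup.mem_bot] at this
  rw [this, orderOf_one] at hb
  exact hp.out.ne_one hb.symm

private theorem fitting_eq (hO : Cfsg.pPrimeCore p K = ⊥) :
    Cfsg.fittingSubgroup K = Cfsg.pCore p K := by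
  refine le_antisymm ?_ (FittingCores.pCore_le_fitting hp.out)
  rw [FittingCores.fitting_eq_iSup_pCore]
  refine iSup_le fun r => ?_
  by_cases h : (r : ℕ) = p
  · rw [h]
  · haveI : Fact (r : ℕ).Prime := ⟨r.2⟩
    have hle : Cfsg.pCore r K ≤ Cfsg.pPrimeCore p K := by
      haveI := PBasic.pCore_characteristic r K
      refine PBasic.le_pPrimeCore inferInstance ?_
      obtain ⟨i, hi⟩ := IsPGroup.iff_card.1 (PBasic.pCore_isPGroup r K)
      rw [hi]
      exact Nat.Coprime.pow_left i ((Nat.coprime_primes r.2 hp.out).2 h)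
    rw [hO] at hle
    exact hle.trans bot_le

private theorem index_dvd (P : Sylow p K) (hP : IsCyclic (P : Subgroup K))
    (hn : (P : Subgroup K).Normal) (hC : Subgroup.centralizer ((P : Subgroup K) : Set K) = (P : Subgroup K)) :
    (∀ (_ : (P : Subgroup K).Normal), IsCyclic (K ⧸ (P : Subgroup K))) ∧
      (P : Subgroup K).index ∣ p - 1 := by
  haveI := hn
  let φ : K →* MulAut (P : Subgroup K) := MulAut.conjNormal
  have hker : φ.ker = (P : Subgroup K) := by
    conv_rhs => rw [← hC]
    ext g
    rw [MonoidHom.mem_ker, Subgroup.mem_centralizer_iff]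
    constructor
    · intro h x hx
      have h1 : g * x * g⁻¹ = x := by
        have := congrArg (fun f : MulAut (P : Subgroup K) => ((f ⟨x, hx⟩ : (P : Subgroup K)) : K)) h
        simpa [φ, MulAut.conjNormal_apply] using this
      calc x * g = g * x * g⁻¹ * g := by rw [h1]
        _ = g * x := inv_mul_cancel_right _ _
    · intro h
      refine MulEquiv.ext fun x => Subtype.ext ?_
      show ((MulAut.conjNormal g x : (P : Subgroup K)) : K) = x
      rw [MulAut.conjNormal_apply, ← h x x.2, mul_inv_cancel_right]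
  have hidxeq : (P : Subgroup K).index = Nat.card φ.range := by rw [← Subgroup.index_ker, hker]
  obtain ⟨a, ha⟩ := IsPGroup.iff_card.1 P.isPGroup'
  have hdvd : (P : Subgroup K).index ∣ p - 1 := by
    rcases a with _ | a
    · have hb : (P : Subgroup K) = ⊥ := Subgroup.eq_bot_of_card_eq _ (by rw [ha, pow_zero])
      have ht : Subgroup.centralizer ((P : Subgroup K) : Set K) = ⊤ := by
        rw [eq_top_iff]
        intro g _
        rw [Subgroup.mem_centralizer_iff]
        intro x hx
        rw [SetLike.mem_coe, hb, Subgroup.mem_bot] at hx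
        rw [hx, one_mul, mul_one]
      rw [hC] at ht
      rw [ht, Subgroup.index_top]
      exact one_dvd _
    · have h1 : (P : Subgroup K).index ∣ p ^ a * (p - 1) := by
        rw [hidxeq, ← Nat.totient_prime_pow_succ hp.out a, ← ha, ← IsCyclic.card_mulAut]
        exact Subgroup.card_subgroup_dvd_card _
      exact Nat.Coprime.dvd_of_dvd_mul_left
        (Nat.Coprime.pow_right _ ((hp.out.coprime_iff_not_dvd.2 P.not_dvd_index).symm)) h1
  refine ⟨fun _ => ?_, hdvd⟩
  rcases eq_or_ne p 2 with rfl | hp2
  · have hidx : (P : Subgroup K).index = 1 := Nat.dvd_one.1 hdvd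
    haveI : Subsingleton (K ⧸ (P : Subgroup K)) := (Nat.card_eq_one_iff_unique.1 hidx).1
    exact isCyclic_of_subsingleton
  · haveI : IsCyclic (MulAut (P : Subgroup K)) := by
      haveI : IsCyclic (ZMod (Nat.card (P : Subgroup K)))ˣ := by
        rw [ha]
        exact ZMod.isCyclic_units_of_prime_pow p hp.out hp2 a
      exact isCyclic_of_surjective (IsCyclic.mulAutMulEquiv (P : Subgroup K)).symm
        (IsCyclic.mulAutMulEquiv (P : Subgroup K)).symm.surjective
    refine isCyclic_of_injective
      ((QuotientGroup.kerLift φ).comp (QuotientGroup.quotientMulEquivOfEq hker.symm).toMonoidHom) ?_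
    exact (QuotientGroup.kerLift_injective φ).comp (MulEquiv.injective _)

theorem result {K : Type*} [Group K] [Finite K] (p : ℕ) [Fact p.Prime] (hp : p ∣ Nat.card K) (hO : Cfsg.pPrimeCore p K = ⊥)
    (P : Sylow p K) (hP : IsCyclic ↥(P : Subgroup K)) :
    ((P : Subgroup K).Normal ∧ Subgroup.centralizer ((P : Subgroup K) : Set K) = (P : Subgroup K) ∧
      (∀ (_ : (P : Subgroup K).Normal), IsCyclic (K ⧸ (P : Subgroup K))) ∧ (P : Subgroup K).index ∣ p - 1) ∨
    (IsSimpleGroup ↥(Cfsg.generalizedFittingSubgroup K) ∧ ¬ IsMulCommutative ↥(Cfsg.generalizedFittingSubgroup K) ∧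
      ¬ p ∣ (Cfsg.generalizedFittingSubgroup K).index) := by
  have hpp : p.Prime := Fact.out
  have hPcomm : IsMulCommutative (P : Subgroup K) :=
    ⟨⟨fun a b => (IsCyclic.commGroup (α := (P : Subgroup K))).mul_comm a b⟩⟩
  have hFN := fitting_eq (p := p) hO
  haveI := PBasic.pCore_characteristic p K
  haveI := PBasic.pPrimeCore_characteristic p ↥(Cfsg.layer K)
  haveI : (Cfsg.layer K).Characteristic := Components.layer_characteristic
  -- every nontrivial normal subgroup has order divisible by `p`
  have hnorm : ∀ (M : Subgroup K), M.Normal → M ≠ ⊥ → p ∣ Nat.card M := by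
    intro M hM hne
    by_contra hd
    have h1 := PBasic.le_pPrimeCore hM ((hpp.coprime_iff_not_dvd.2 hd).symm)
    rw [hO, le_bot_iff] at h1
    exact hne h1
  by_cases hN : Cfsg.pCore p K = ⊥
  · right
    have hFS : Cfsg.generalizedFittingSubgroup K = Cfsg.layer K := by
      rw [Cfsg.generalizedFittingSubgroup, hFN, hN, sup_bot_eq]
    rw [hFS]
    have hEne : Cfsg.layer K ≠ ⊥ := by
      intro h
      have h1 := Components.centralizer_generalizedFitting_le (G := K)
      rw [hFS, h] at h1
      have h2 : (⊤ : Subgroup K) ≤ ⊥ := by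
        refine le_trans ?_ h1
        intro g _
        rw [Subgroup.mem_centralizer_iff]
        intro x hx
        rw [SetLike.mem_coe, Subgroup.mem_bot] at hx
        rw [hx, one_mul, mul_one]
      have hK1 : Nat.card K = 1 := by
        rw [← Subgroup.card_top (G := K), le_bot_iff.1 h2, Subgroup.card_bot]
      rw [hK1] at hp
      exact hpp.not_dvd_one hp
    obtain ⟨L, hL⟩ : ∃ L : Subgroup K, Cfsg.IsComponent L := by
      by_contra h
      push Not at h
      exact hEne (le_bot_iff.1 (Components.layer_le_iff.2 fun L hL => absurd hL (h L)))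
    have hcompp : ∀ L : Subgroup K, Cfsg.IsComponent L → p ∣ Nat.card L := by
      intro L hL
      by_contra hd
      have h1 : L.subgroupOf (Cfsg.layer K) ≤ Cfsg.pPrimeCore p ↥(Cfsg.layer K) :=
        PBasic.le_pPrimeCore (Components.component_normal_layer hL) (by
          rw [Nat.card_congr (Subgroup.subgroupOfEquivOfLe (Components.component_le_layer hL)).toEquiv]
          exact (hpp.coprime_iff_not_dvd.2 hd).symm)
      have h2 : (Cfsg.pPrimeCore p ↥(Cfsg.layer K)).map (Cfsg.layer K).subtype ≤ ⊥ :=
        hO ▸ PBasic.map_pPrimeCore_le_of_normal (Cfsg.layer K)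
      have h3 : L ≤ ⊥ := fun x hx =>
        h2 ⟨⟨x, Components.component_le_layer hL hx⟩, h1 hx, rfl⟩
      exact Components.component_ne_bot hL (le_bot_iff.1 h3)
    have hcenter : Cfsg.layer K ⊓ Subgroup.centralizer (Cfsg.layer K : Set K) = ⊥ := by
      rw [Components.center_layer_eq, hFN, hN, bot_inf_eq]
    have huniq : ∀ M : Subgroup K, Cfsg.IsComponent M → M = L := by
      intro M hM
      by_contra hne
      have hcm := Subgroup.commutator_eq_bot_iff_le_centralizer.1 (Components.components_commute hL hM (Ne.symm hne))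
      refine false_of_disjoint P hP (A := L) (B := M) (fun a ha b hb => ((hcm ha) b hb).symm)
        (hcompp L hL) (hcompp M hM) ?_
      rw [eq_bot_iff, ← hcenter]
      rintro x ⟨hxL, hxM⟩
      refine ⟨Components.component_le_layer hL hxL, ?_⟩
      have hle : Cfsg.layer K ≤ Subgroup.centralizer ({x} : Set K) := by
        rw [Components.layer_le_iff]
        intro X hX
        intro y hy
        rw [Subgroup.mem_centralizer_singleton_iff]
        by_cases hXL : X = L
        · subst hXL
          exact ((hcm hy) x hxM).symm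
        · have hcX := Subgroup.commutator_eq_bot_iff_le_centralizer.1 (Components.components_commute hX hL hXL)
          exact ((hcX hy) x hxL).symm
      show x ∈ Subgroup.centralizer (Cfsg.layer K : Set K)
      rw [Subgroup.mem_centralizer_iff]
      intro y hy
      exact Subgroup.mem_centralizer_singleton_iff.1 (hle hy)
    have hLE : Cfsg.layer K = L := le_antisymm
      (Components.layer_le_iff.2 fun M hM => (huniq M hM).le) (Components.component_le_layer hL)
    rw [hLE] at hcenter ⊢
    have hc : Subgroup.center ↥L = ⊥ := by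
      rw [eq_bot_iff]
      intro x hx
      have : (x : K) ∈ L ⊓ Subgroup.centralizer (L : Set K) :=
        ⟨x.2, fun y hy => congrArg Subtype.val (Subgroup.mem_center_iff.1 hx ⟨y, hy⟩)⟩
      rw [hcenter, Subgroup.mem_bot] at this
      exact Subgroup.mem_bot.2 (Subtype.ext this)
    have hsimple : IsSimpleGroup ↥L := by
      haveI := hL.2.2
      haveI : Nontrivial ↥L := Components.quasisimple_nontrivial hL.2
      exact IsSimpleGroup.isSimpleGroup_of_surjective
        ((QuotientGroup.quotientMulEquivOfEq hc).trans QuotientGroup.quotientBot).toMonoidHom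
        (MulEquiv.surjective _)
    refine ⟨hsimple, Components.quasisimple_not_commutative hL.2, fun hd => ?_⟩
    haveI hLn : L.Normal := hLE ▸ Components.layer_normal
    obtain ⟨T, N, hNn, hcompl⟩ := (S4145.result p P hP L (hcompp L hL) hd).1
    haveI := hsimple
    haveI := hNn
    have hTne : ¬ p ∣ Nat.card N := by
      rw [← hcompl.index_eq_card]; exact T.not_dvd_index
    rcases hNn.eq_bot_or_eq_top with h | h
    · subst h
      have hT : (T : Subgroup L) = ⊤ := Subgroup.isComplement'_bot_left.1 hcompl |> fun e => e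
      haveI : Group.IsNilpotent ↥L := by
        refine (IsPGroup.of_equiv (hT ▸ T.isPGroup' : IsPGroup p (⊤ : Subgroup L)) Subgroup.topEquiv).isNilpotent
      exact Components.quasisimple_not_solvable hL.2 inferInstance
    · rw [h, Subgroup.card_top] at hTne
      exact hTne (hcompp L hL)
  · left
    set N := Cfsg.pCore p K with hNdef
    have hE : Cfsg.layer K = ⊥ := by
      by_contra hne
      refine false_of_disjoint P hP (A := Cfsg.layer K) (B := N)
        (fun a ha b hb => ?_) (hnorm _ Components.layer_normal hne) (hnorm _ inferInstance hN) ?_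
      · exact ((Components.layer_le_centralizer_fitting ha) b (hFN.symm ▸ hb)).symm
      · rw [Subgroup.eq_bot_iff_forall]
        rintro x ⟨hxE, hxN⟩
        haveI := Components.layer_isPerfect (G := K)
        obtain ⟨T, hT⟩ := IsPGroup.exists_le_sylow (P := (N.subgroupOf (Cfsg.layer K)))
          ((PBasic.pCore_isPGroup p K).comap_subtype)
        have hTc : IsMulCommutative (T : Subgroup ↥(Cfsg.layer K)) := by
          obtain ⟨Q, hQ⟩ := (T.isPGroup'.map (Cfsg.layer K).subtype).exists_le_sylow
          haveI : IsCyclic (Q : Subgroup K) := (P.equiv Q).isCyclic.1 hP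
          refine ⟨⟨fun a b => Subtype.ext (Subtype.ext ?_)⟩⟩
          have h := congrArg Subtype.val ((IsCyclic.commGroup (α := (Q : Subgroup K))).mul_comm
            ⟨((a : Cfsg.layer K) : K), hQ (Subgroup.mem_map_of_mem _ a.2)⟩
            ⟨((b : Cfsg.layer K) : K), hQ (Subgroup.mem_map_of_mem _ b.2)⟩)
          exact h
        have h1 := TransferHall.inf_commutator_inf_center (T : Subgroup ↥(Cfsg.layer K)) hTc
          (Sylow.card_coprime_index T)
        have h2 : (⟨x, hxE⟩ : Cfsg.layer K) ∈
            (T : Subgroup ↥(Cfsg.layer K)) ⊓ commutator ↥(Cfsg.layer K) ⊓ Subgroup.center ↥(Cfsg.layer K) := by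
          refine ⟨⟨hT hxN, ?_⟩, Subgroup.mem_center_iff.2 fun y => Subtype.ext ?_⟩
          · rw [Group.IsPerfect.commutator_eq_top]; exact Subgroup.mem_top _
          · exact ((Components.layer_le_centralizer_fitting y.2) x (hFN.symm ▸ hxN)).symm
        rw [h1, Subgroup.mem_bot] at h2
        exact congrArg Subtype.val h2
    have hC : Subgroup.centralizer (N : Set K) ≤ N := by
      have h1 := Components.centralizer_generalizedFitting_le (G := K)
      rwa [Cfsg.generalizedFittingSubgroup, hE, bot_sup_eq, hFN] at h1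
    have hNP : N ≤ (P : Subgroup K) := PBasic.pCore_le_sylow P
    have hPN : (P : Subgroup K) ≤ N := fun x hx => hC fun y hy =>
      congrArg Subtype.val (hPcomm.is_comm.comm ⟨y, hNP hy⟩ ⟨x, hx⟩)
    have hPeq : (P : Subgroup K) = N := le_antisymm hPN hNP
    have hn : (P : Subgroup K).Normal := hPeq ▸ (inferInstance : N.Normal)
    have hCP : Subgroup.centralizer ((P : Subgroup K) : Set K) = (P : Subgroup K) := by
      refine le_antisymm (by rw [hPeq]; exact hC) fun x hx y hy => ?_
      exact congrArg Subtype.val (hPcomm.is_comm.comm ⟨y, hy⟩ ⟨x, hx⟩)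
    exact ⟨hn, hCP, index_dvd P hP hn hCP⟩

end Cfsg.Agent.S4403
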