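import Cfsg.Statements.S1312
import Cfsg.Agent.Lib.Components.BenderMaximal
-- import your own Cfsg.Agent.* helpers here

set_option autoImplicit false
set_option linter.style.haveILetI false
open Cfsg

namespace Cfsg.Agent.S1312

/-- Let G be a non-abelian finite simple group and M ≠ N maximal subgroups of G with F*(M) ≤ N and F*(N) ≤ M. Then there is a prime p such that F*(M) and F*(N) are both p-groups. -/
theorem result {G : Type*} [Group G] [Finite G] [IsSimpleGroup G] (hna : ¬ IsMulCommutative G) (M N : Subgroup G) (hM : IsCoatom M) (hN : IsCoatom N) (hMN : M ≠ N) (h1 : (Cfsg.generalizedFittingSubgroup ↥M).map M.subtype ≤ N) (h2 : (Cfsg.generalizedFittingSubgroup ↥N).map N.subtype ≤ M) : ∃ p : ℕ, p.Prime ∧ IsPGroup p ↥(Cfsg.generalizedFittingSubgroup ↥M) ∧ IsPGroup p ↥(Cfsg.generalizedFittingSubgroup ↥N) := by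
  classical
  -- no components
  have hlayEq : (layer ↥M).map M.subtype = (layer ↥N).map N.subtype := by
    refine le_antisymm ?_ ?_
    · rw [Subgroup.map_le_iff_le_comap, Components.layer_le_iff]
      intro K hK
      obtain ⟨L, hL, hLK⟩ := BenderMax.component_eq h2 h1 hK
      rw [← Subgroup.map_le_iff_le_comap, ← hLK]
      exact Subgroup.map_mono (Components.component_le_layer hL)
    · rw [Subgroup.map_le_iff_le_comap, Components.layer_le_iff]
      intro K hK
      obtain ⟨L, hL, hLK⟩ := BenderMax.component_eq h1 h2 hK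
      rw [← Subgroup.map_le_iff_le_comap, ← hLK]
      exact Subgroup.map_mono (Components.component_le_layer hL)
  haveI := Components.layer_normal (G := ↥M)
  haveI := Components.layer_normal (G := ↥N)
  have hlay : layer ↥M = ⊥ := by
    by_contra hne
    have hne' : (layer ↥M).map M.subtype ≠ ⊥ := fun h =>
      hne ((Subgroup.map_eq_bot_iff_of_injective _ M.subtype_injective).1 h)
    refine hMN ((BenderMax.normalizer_eq hM (Subgroup.map_subtype_le _) hne' (BenderMax.le_normalizer_map _)).symm.trans ?_)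
    rw [hlayEq]
    exact BenderMax.normalizer_eq hN (Subgroup.map_subtype_le _) (hlayEq ▸ hne') (BenderMax.le_normalizer_map _)
  have hlay' : layer ↥N = ⊥ := by
    rw [hlay, Subgroup.map_bot] at hlayEq
    exact (Subgroup.map_eq_bot_iff_of_injective _ N.subtype_injective).1 hlayEq.symm
  have hFM : generalizedFittingSubgroup ↥M = fittingSubgroup ↥M := by
    rw [generalizedFittingSubgroup, hlay, bot_sup_eq]
  have hFN : generalizedFittingSubgroup ↥N = fittingSubgroup ↥N := by
    rw [generalizedFittingSubgroup, hlay', bot_sup_eq]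
  rw [hFM] at h1
  rw [hFN] at h2
  rw [hFM, hFN]
  have hCM : Subgroup.centralizer (fittingSubgroup ↥M : Set ↥M) ≤ fittingSubgroup ↥M := by
    rw [← hFM]; exact Components.centralizer_generalizedFitting_le
  have hCN : Subgroup.centralizer (fittingSubgroup ↥N : Set ↥N) ≤ fittingSubgroup ↥N := by
    rw [← hFN]; exact Components.centralizer_generalizedFitting_le
  -- the Fitting subgroups are nontrivial
  have hne : ∀ {P : Subgroup G}, IsCoatom P →
      Subgroup.centralizer (fittingSubgroup ↥P : Set ↥P) ≤ fittingSubgroup ↥P → fittingSubgroup ↥P ≠ ⊥ := by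
    intro P hP hC h
    rw [h] at hC
    have hPb : P = ⊥ := by
      rw [eq_bot_iff]
      intro x hx
      have := hC (show (⟨x, hx⟩ : P) ∈ Subgroup.centralizer ((⊥ : Subgroup P) : Set P) from
        Subgroup.mem_centralizer_iff.2 fun y hy => by
          rw [Subgroup.mem_bot.1 hy, one_mul, mul_one])
      exact congrArg Subtype.val (Subgroup.mem_bot.1 this)
    -- a simple group with trivial maximal subgroup is cyclic
    refine hna ⟨⟨fun a b => ?_⟩⟩
    by_cases ha : a = 1
    · simp [ha]
    have hz : Subgroup.zpowers a = ⊤ := hP.2 _ (hPb ▸ bot_lt_iff_ne_bot.2 (by simpa using ha))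
    obtain ⟨i, rfl⟩ := Subgroup.mem_zpowers_iff.1 (hz ▸ Subgroup.mem_top b)
    exact (Commute.refl a).zpow_right i
  have hex : ∀ {P : Subgroup G}, fittingSubgroup ↥P ≠ ⊥ → ∃ p : ℕ, p.Prime ∧ pCore p ↥P ≠ ⊥ := by
    intro P h
    by_contra hno
    refine h ?_
    rw [FittingCores.fitting_eq_iSup_pCore, iSup_eq_bot]
    exact fun s => by_contra fun hs => hno ⟨s, s.2, hs⟩
  have hsingle : ∀ {P Q : Subgroup G}, IsCoatom P → IsCoatom Q → P ≠ Q →
      Subgroup.centralizer (fittingSubgroup ↥P : Set ↥P) ≤ fittingSubgroup ↥P →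
      Subgroup.centralizer (fittingSubgroup ↥Q : Set ↥Q) ≤ fittingSubgroup ↥Q →
      (fittingSubgroup ↥P).map P.subtype ≤ Q → (fittingSubgroup ↥Q).map Q.subtype ≤ P →
      ∀ q : ℕ, q.Prime → pCore q ↥P ≠ ⊥ → IsPGroup q ↥(fittingSubgroup ↥P) := by
    intro P Q hP hQ hPQ hCP hCQ hPQ' hQP q hq hqne
    haveI := Fact.mk hq
    suffices hall : ∀ r : Nat.Primes, (r : ℕ) ≠ q → pCore (r : ℕ) ↥P = ⊥ by
      refine (FittingCores.pCore_isPGroup q).to_le ?_
      rw [FittingCores.fitting_eq_iSup_pCore]
      refine iSup_le fun s => ?_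
      by_cases hs : (s : ℕ) = q
      · rw [hs]
      · rw [hall s hs]; exact bot_le
    intro r hr
    by_contra hrne
    haveI := Fact.mk r.2
    have hle : ∀ {P Q : Subgroup G}, IsCoatom P →
        Subgroup.centralizer (fittingSubgroup ↥Q : Set ↥Q) ≤ fittingSubgroup ↥Q →
        (fittingSubgroup ↥P).map P.subtype ≤ Q → (fittingSubgroup ↥Q).map Q.subtype ≤ P →
        pCore q ↥P ≠ ⊥ → pCore (r : ℕ) ↥P ≠ ⊥ →
        (fittingSubgroup ↥P).map P.subtype ≤ (fittingSubgroup ↥Q).map Q.subtype := by
      intro P Q hP hCQ hPQ' hQP hqne hrne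
      rw [FittingCores.fitting_eq_iSup_pCore (G := ↥P), Subgroup.map_iSup]
      refine iSup_le fun s => ?_
      haveI := Fact.mk s.2
      by_cases hs : (s : ℕ) = q
      · exact (BenderMax.pCore_le hP hCQ hPQ' hQP (q := r) (r := s) (hs ▸ Ne.symm hr) hrne).trans
          (Subgroup.map_mono (FittingCores.pCore_le_fitting s.2))
      · exact (BenderMax.pCore_le hP hCQ hPQ' hQP (q := q) (r := s) hs hqne).trans
          (Subgroup.map_mono (FittingCores.pCore_le_fitting s.2))
    have hne1 : ∀ (a b : ℕ) [Fact a.Prime] [Fact b.Prime], a ≠ b → pCore b ↥P ≠ ⊥ → pCore a ↥P ≠ ⊥ →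
        pCore a ↥Q ≠ ⊥ := by
      intro a b _ _ hab hb ha h
      have := BenderMax.pCore_le hP hCQ hPQ' hQP (q := b) (r := a) hab hb
      rw [h, Subgroup.map_bot, le_bot_iff, Subgroup.map_eq_bot_iff_of_injective _ P.subtype_injective] at this
      exact ha this
    have heq := le_antisymm (hle hP hCQ hPQ' hQP hqne hrne)
      (hle hQ hCP hQP hPQ' (hne1 q r (Ne.symm hr) hrne hqne) (hne1 r q hr hqne hrne))
    haveI := FittingCores.fitting_normal (G := ↥P)
    haveI := FittingCores.fitting_normal (G := ↥Q)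
    have hne' : (fittingSubgroup ↥P).map P.subtype ≠ ⊥ := fun h =>
      hne hP hCP ((Subgroup.map_eq_bot_iff_of_injective _ P.subtype_injective).1 h)
    refine hPQ ((BenderMax.normalizer_eq hP (Subgroup.map_subtype_le _) hne' (BenderMax.le_normalizer_map _)).symm.trans ?_)
    rw [heq]
    exact BenderMax.normalizer_eq hQ (Subgroup.map_subtype_le _) (heq ▸ hne') (BenderMax.le_normalizer_map _)
  obtain ⟨p, hp, hpne⟩ := hex (hne hM hCM)
  obtain ⟨r, hr, hrne⟩ := hex (hne hN hCN)
  have hMp := hsingle hM hN hMN hCM hCN h1 h2 p hp hpne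
  have hNr := hsingle hN hM hMN.symm hCN hCM h2 h1 r hr hrne
  suffices hrp : r = p by subst hrp; exact ⟨r, hr, hMp, hNr⟩
  by_contra hrp
  haveI := Fact.mk hp
  haveI := Fact.mk hr
  haveI := FittingCores.fitting_normal (G := ↥M)
  haveI := FittingCores.fitting_normal (G := ↥N)
  set X := (fittingSubgroup ↥M).map M.subtype with hX
  set Y := (fittingSubgroup ↥N).map N.subtype with hY
  have hXY : ⁅X, Y⁆ = ⊥ := by
    rw [eq_bot_iff]
    refine (Components.commutator_le_inf_of_normalizer (h2.trans (BenderMax.le_normalizer_map _))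
      (h1.trans (BenderMax.le_normalizer_map _))).trans (le_of_eq ?_)
    exact disjoint_iff.1 (IsPGroup.disjoint_of_ne p r (Ne.symm hrp) _ _ (hMp.map _) (hNr.map _))
  have hle : X.subgroupOf N ≤ fittingSubgroup ↥N := by
    refine le_trans (fun x hx => Subgroup.mem_centralizer_iff.2 fun y hy => Subtype.ext ?_) hCN
    exact (BenderMax.commute_elems hXY hx ⟨y, hy, rfl⟩).eq.symm
  refine hne hM hCM ((Subgroup.map_eq_bot_iff_of_injective _ M.subtype_injective).1 ?_)
  rw [eq_bot_iff]
  intro x hx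
  have h3 : x ∈ X ⊓ Y := ⟨hx, ⟨⟨x, h1 hx⟩, hle hx, rfl⟩⟩
  rwa [disjoint_iff.1 (IsPGroup.disjoint_of_ne p r (Ne.symm hrp) _ _ (hMp.map _) (hNr.map _))] at h3

end Cfsg.Agent.S1312
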