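import Cfsg.Statements.S1550
import Cfsg.Agent.Lib.Steiner.Triangles
import Cfsg.Agent.Lib.Golay.Basic
-- import your own Cfsg.Agent.* helpers here

set_option autoImplicit false
open scoped Pointwise
open Cfsg

namespace Cfsg.Agent.S1550

open Cfsg.Agent.Steiner Finset

theorem card24 : Fintype.card GolayPt = 24 := by simp [GolayPt]

/-- The sextet of a tetrad. -/
noncomputable def canon (t : Finset GolayPt) : Finset (Finset GolayPt) :=
  insert t (((blocks octads).filter fun o => t ⊆ o).image fun o => o \ t)

theorem canon_mem {t : Finset GolayPt} (ht : t.card = 4) : canon t ∈ sextets ∧ t ∈ canon t := by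
  have hB := Cfsg.Agent.Golay.isSteinerSystem_octads
  have h5 := lam_eq hB (i := 4) (lam := 5) (by norm_num) (by decide) (by rw [card24]; decide) t ht
  have hin : ∀ o ∈ (blocks octads).filter (fun o => t ⊆ o), o ∈ octads ∧ t ⊆ o := fun o ho =>
    ⟨mem_blocks.1 (mem_filter.1 ho).1, (mem_filter.1 ho).2⟩
  have hne : t ∉ ((blocks octads).filter fun o => t ⊆ o).image fun o => o \ t := by
    intro h
    obtain ⟨o, -, e⟩ := mem_image.1 h
    have h0 : (o \ t) ∩ t = ∅ := sdiff_inter_self _ _
    rw [e, inter_self] at h0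
    rw [h0] at ht; simp at ht
  refine ⟨⟨?_, fun u hu => ?_, fun u hu w hw huw => ?_⟩, mem_insert_self _ _⟩
  · rw [canon, card_insert_of_notMem hne, card_image_of_injOn, h5]
    intro o ho o' ho' e
    have := congrArg (· ∪ t) e
    simpa [sdiff_union_of_subset (hin o ho).2, sdiff_union_of_subset (hin o' ho').2] using this
  · rcases mem_insert.1 hu with rfl | h
    · exact ht
    · obtain ⟨o, ho, rfl⟩ := mem_image.1 h
      rw [card_sdiff_of_subset (hin o ho).2, card_of_mem hB (hin o ho).1, ht]
  · rcases mem_insert.1 hu with rfl | h <;> rcases mem_insert.1 hw with rfl | h'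
    · exact absurd rfl huw
    · obtain ⟨o, ho, rfl⟩ := mem_image.1 h'
      rw [union_sdiff_of_subset (hin o ho).2]; exact (hin o ho).1
    · obtain ⟨o, ho, rfl⟩ := mem_image.1 h
      rw [sdiff_union_of_subset (hin o ho).2]; exact (hin o ho).1
    · obtain ⟨o, ho, rfl⟩ := mem_image.1 h
      obtain ⟨o', ho', rfl⟩ := mem_image.1 h'
      have hoo : o ≠ o' := fun e => huw (by rw [e])
      have ht' : t ⊆ o ∩ o' := subset_inter (hin o ho).2 (hin o' ho').2
      have h4 : (o ∩ o').card = 4 := by
        have := card_le_card ht'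
        have := inter24 card24 hB (hin o ho).1 (hin o' ho').1 hoo
        omega
      have e : t = o ∩ o' := eq_of_subset_of_card_le ht' (by rw [h4, ht])
      have := symmDiff_mem card24 hB (hin o ho).1 (hin o' ho').1 h4
      convert this using 1
      ext x
      simp only [e, mem_union, mem_sdiff, mem_inter, mem_symmDiff]
      tauto

theorem eq_canon {t : Finset GolayPt} {S : Finset (Finset GolayPt)} (hS : S ∈ sextets)
    (ht : t ∈ S) : S = canon t := by
  have hB := Cfsg.Agent.Golay.isSteinerSystem_octads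
  refine eq_of_subset_of_card_le (fun u hu => ?_) (by rw [(canon_mem (hS.2.1 t ht)).1.1, hS.1])
  by_cases e : u = t
  · rw [e]; exact mem_insert_self _ _
  · have ho := hS.2.2 t ht u hu (Ne.symm e)
    have h8 := card_of_mem hB ho
    have := card_union_add_card_inter t u
    rw [hS.2.1 t ht, hS.2.1 u hu, h8] at this
    refine mem_insert_of_mem (mem_image.2 ⟨t ∪ u, mem_filter.2 ⟨mem_blocks.2 ho, subset_union_left⟩, ?_⟩)
    rw [union_sdiff_cancel_left]
    rw [disjoint_iff_inter_eq_empty, ← card_eq_zero]; omega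

/-- Every 4-element set of the 24 points is a tetrad of exactly one sextet, and the sextets number 1771. -/
theorem result : (∀ t : Finset Cfsg.GolayPt, t.card = 4 → ∃! S : Finset (Finset Cfsg.GolayPt), S ∈ Cfsg.sextets ∧ t ∈ S) ∧ Cfsg.sextets.ncard = 1771 := by
  refine ⟨fun t ht => ⟨canon t, canon_mem ht, fun S hS => eq_canon hS.1 hS.2⟩, ?_⟩
  classical
  rw [Set.ncard_eq_toFinset_card Cfsg.sextets]
  set Q := (Set.toFinite Cfsg.sextets).toFinset with hQ
  have hQm : ∀ S, S ∈ Q ↔ S ∈ Cfsg.sextets := fun S => by simp [hQ]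
  have h := card_eq_sum_card_fiberwise (s := (univ : Finset Cfsg.GolayPt).powersetCard 4) (t := Q)
    (f := canon) (fun t ht => (hQm _).2 (canon_mem (mem_powersetCard.1 ht).2).1)
  have hfib : ∀ S ∈ Q, (((univ : Finset Cfsg.GolayPt).powersetCard 4).filter fun t => canon t = S).card = 6 := by
    intro S hS
    have hS' := (hQm S).1 hS
    rw [show (((univ : Finset Cfsg.GolayPt).powersetCard 4).filter fun t => canon t = S) = S from ?_]
    · exact hS'.1
    · ext t
      simp only [mem_filter, mem_powersetCard, subset_univ, true_and]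
      exact ⟨fun h => h.2 ▸ (canon_mem h.1).2, fun h => ⟨hS'.2.1 t h, (eq_canon hS' h).symm⟩⟩
  rw [card_powersetCard, card_univ, card24, sum_congr rfl hfib, sum_const, smul_eq_mul] at h
  norm_num [Nat.choose] at h
  omega

end Cfsg.Agent.S1550
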