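import Cfsg.Statements.S1249
import Mathlib.GroupTheory.Sylow

set_option autoImplicit false
open Cfsg

namespace Cfsg.Agent.S1249

/-- Let P and Q be Sylow p-subgroups of the finite group G both containing the subgroup A. If A is strongly closed in P, then A is strongly closed in Q. -/
theorem result {G : Type*} [Group G] [Finite G] {p : ℕ} [Fact p.Prime] (P Q : Sylow p G) (A : Subgroup G) (hAQ : A ≤ Q) (hA : Cfsg.IsStronglyClosed A (P : Subgroup G)) : Cfsg.IsStronglyClosed A (Q : Subgroup G) := by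
  obtain ⟨c, rfl⟩ := MulAction.exists_smul_eq G P Q
  have mem : ∀ x : G, x ∈ ((c • P : Sylow p G) : Subgroup G) → c⁻¹ * x * c ∈ (P : Subgroup G) := by
    intro x hx
    rw [Sylow.smul_def, Sylow.pointwise_smul_def, Subgroup.mem_pointwise_smul_iff_inv_smul_mem,
      ← map_inv, MulAut.smul_def, MulAut.conj_apply, inv_inv] at hx
    exact hx
  have hsub : ∀ x ∈ A, c⁻¹ * x * c ∈ A := by
    intro x hx
    have := hA.2 x hx c⁻¹ (by rw [inv_inv]; exact mem x (hAQ hx))
    rwa [inv_inv] at this
  have hfwd : ∀ x, c⁻¹ * x * c ∈ A → x ∈ A := by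
    intro x hx
    have hinj : Function.Injective (fun y : A => (⟨c⁻¹ * y.1 * c, hsub _ y.2⟩ : A)) := by
      intro a b h
      exact Subtype.ext (mul_left_cancel (mul_right_cancel (Subtype.ext_iff.mp h)))
    obtain ⟨y, hy⟩ := (Finite.injective_iff_surjective.mp hinj) ⟨_, hx⟩
    have : y.1 = x := mul_left_cancel (mul_right_cancel (Subtype.ext_iff.mp hy))
    rw [← this]; exact y.2
  refine ⟨hAQ, fun x hx g hg => hfwd _ ?_⟩
  have h := hA.2 x hx (c⁻¹ * g) (by simpa [mul_assoc] using mem _ hg)
  simpa [mul_assoc] using h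

end Cfsg.Agent.S1249
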