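import Cfsg.Statements.S3806
import Cfsg.Agent.Lib.PLocal.MaxClass
import Cfsg.Agent.Lib.FiniteGroup.PolySeq
import Mathlib

set_option autoImplicit false
open Cfsg

namespace Cfsg.Agent.S3806

open Cfsg.Agent Cfsg.Agent.PolySeq
open scoped commutatorElement

section
variable {G : Type*} [Group G] {p : ℕ}

lemma gam_succ {i : ℕ} (hi : 1 ≤ i) : gam G (i + 1) = ⁅gam G i, (⊤ : Subgroup G)⁆ := by
  obtain ⟨j, rfl⟩ := Nat.exists_eq_add_of_le' hi
  rfl

lemma mem_gam_one (x : G) : x ∈ gam G 1 := Subgroup.mem_top x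

lemma gam_map {H : Type*} [Group H] (f : G →* H) (hf : Function.Surjective f) (i : ℕ) :
    (gam G i).map f = gam H i := by
  unfold gam
  rw [Subgroup.map_lowerCentralSeries, Subgroup.map_top_of_surjective f hf]

/-- `p`-th powers are multiplicative when the derived part has exponent `p`. -/
lemma pow_mul_eq (hp : p.Prime) {N₀ : ℕ} (hN : gam G N₀ = ⊥) {u v : G} {i : ℕ} (huv : ⁅u, v⁆ ∈ gam G i)
    (hi1 : 1 ≤ i) (hcl : N₀ ≤ i + (p - 2)) (hz : ∀ z ∈ gam G i, z ^ p = 1) :
    (u * v) ^ p = u ^ p * v ^ p := by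
  set K := Subgroup.closure ({u, v} : Set G) with hK
  set f := QuotientGroup.mk' (gam G i) with hf
  have hcomm : ∀ a ∈ K, ∀ b ∈ K, ⁅a, b⁆ ∈ gam G i := by
    have h1 : f u * f v = f v * f u := by
      rw [← commutatorElement_eq_one_iff_mul_comm, ← map_commutatorElement]
      exact (QuotientGroup.eq_one_iff _).2 huv
    have hstep : ∀ w ∈ ({u, v} : Set G), K ≤ (Subgroup.centralizer ({f w} : Set (G ⧸ gam G i))).comap f := by
      intro w hw
      rw [hK, Subgroup.closure_le]
      intro y hy
      show f y ∈ Subgroup.centralizer _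
      rw [Subgroup.mem_centralizer_singleton_iff]
      rcases hy with rfl | rfl <;> rcases hw with rfl | rfl
      · rfl
      · exact h1
      · exact h1.symm
      · rfl
    intro a ha b hb
    have h2 : K ≤ (Subgroup.centralizer ({f a} : Set (G ⧸ gam G i))).comap f := by
      rw [hK, Subgroup.closure_le]
      intro y hy
      show f y ∈ Subgroup.centralizer _
      rw [Subgroup.mem_centralizer_singleton_iff]
      exact (Subgroup.mem_centralizer_singleton_iff.1 (hstep y hy ha)).symm
    refine (QuotientGroup.eq_one_iff _).1 ?_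
    rw [← QuotientGroup.mk'_apply (gam G i), ← hf, map_commutatorElement, commutatorElement_eq_one_iff_mul_comm]
    exact (Subgroup.mem_centralizer_singleton_iff.1 (h2 hb)).symm
  have hlev : ∀ m, (gam ↥K (m + 2)).map K.subtype ≤ gam G (i + m) := by
    intro m
    induction m with
    | zero =>
      rw [gam_succ (le_refl 1), Subgroup.map_commutator, Subgroup.commutator_le, Nat.add_zero]
      rintro _ ⟨a, -, rfl⟩ _ ⟨b, -, rfl⟩
      exact hcomm a a.2 b b.2
    | succ m ih =>
      rw [show m + 1 + 2 = (m + 2) + 1 by ring, gam_succ (by omega : 1 ≤ m + 2), Subgroup.map_commutator,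
        ← Nat.add_assoc i, gam_succ (by omega : 1 ≤ i + m)]
      exact Subgroup.commutator_mono ih le_top
  have hKp : gam ↥K p = ⊥ := by
    have h3 := hlev (p - 2)
    rw [Nat.sub_add_cancel hp.two_le] at h3
    rw [← Subgroup.map_eq_bot_iff_of_injective _ K.subtype_injective, eq_bot_iff, ← hN]
    exact h3.trans (gam_anti hcl)
  obtain ⟨c, hc, heq⟩ := hall_petrescu hp hKp (⟨u, Subgroup.subset_closure (by simp)⟩ : ↥K)
    ⟨v, Subgroup.subset_closure (by simp)⟩ 1
  have hc1 : c = 1 := by
    rw [← Subgroup.mem_bot]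
    refine (Subgroup.closure_le _).2 ?_ hc
    rintro _ ⟨d, hd, rfl⟩
    rw [SetLike.mem_coe, Subgroup.mem_bot, pow_one]
    refine Subtype.ext ?_
    have h4 : (d : G) ∈ gam G i := by
      have := hlev 0 ⟨d, hd, rfl⟩
      rwa [Nat.add_zero] at this
    simpa using hz _ h4
  rw [hc1, mul_one, pow_one] at heq
  simpa using congrArg Subtype.val heq

/-- A criterion for a term of the lower central series to have exponent `p`. -/
lemma exp_p (hp : p.Prime) {N₀ : ℕ} (hN : gam G N₀ = ⊥) {i₀ : ℕ} (hi₀ : 2 ≤ i₀) (hcl : N₀ ≤ i₀ + (p - 1))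
    (hc : ∀ x ∈ gam G (i₀ - 1), ∀ g : G, Commute x (g ^ p)) : ∀ z ∈ gam G i₀, z ^ p = 1 := by
  suffices h : ∀ d i, i₀ ≤ i → N₀ ≤ i + d → ∀ z ∈ gam G i, z ^ p = 1 from h N₀ i₀ le_rfl (Nat.le_add_left _ _)
  intro d
  induction d with
  | zero =>
    intro i _ hN' z hz
    have := gam_anti (G := G) (show N₀ ≤ i by omega) hz
    rw [hN, Subgroup.mem_bot] at this
    rw [this, one_pow]
  | succ d ih =>
    intro i hi hN' z hz
    have ih' := ih (i + 1) (by omega) (by omega)
    have hmul : ∀ u ∈ gam G i, ∀ v ∈ gam G i, (u * v) ^ p = u ^ p * v ^ p := fun u hu v hv =>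
      pow_mul_eq hp hN (gam_anti (show i + 1 ≤ i + i by omega) (gam_commutator hu hv)) (by omega)
        (by have := hp.two_le; omega) ih'
    obtain ⟨j, rfl⟩ : ∃ j, i = j + 1 := ⟨i - 1, by omega⟩
    have hsub : gam G (j + 1) ≤ Subgroup.closure {c | ∃ g₁ ∈ gam G j, ∃ g₂ ∈ (⊤ : Subgroup G), ⁅g₁, g₂⁆ = c} := by
      rw [gam_succ (by omega : 1 ≤ j), Subgroup.commutator_def]
    have hcl2 : ∀ y ∈ Subgroup.closure {c | ∃ g₁ ∈ gam G j, ∃ g₂ ∈ (⊤ : Subgroup G), ⁅g₁, g₂⁆ = c},
        y ∈ gam G (j + 1) ∧ y ^ p = 1 := by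
      intro y hy
      induction hy using Subgroup.closure_induction with
      | mem c hc' =>
        obtain ⟨x, hx, g, -, rfl⟩ := hc'
        have hcm : ⁅x, g⁆ ∈ gam G (j + 1) := by
          rw [gam_succ (by omega : 1 ≤ j)]
          exact Subgroup.commutator_mem_commutator hx (Subgroup.mem_top g)
        refine ⟨hcm, ?_⟩
        have h1 := pow_mul_eq hp hN (u := ⁅x, g⁆) (v := g) (i := j + 1 + 1) (gam_commutator (i := j + 1) (j := 1) hcm
          (mem_gam_one _)) (by omega) (by have := hp.two_le; omega) ih'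
        have h2 : ⁅x, g⁆ * g = x * g * x⁻¹ := by rw [commutatorElement_def]; group
        rw [h2, conj_pow] at h1
        have h3 : Commute x (g ^ p) := hc x (gam_anti (by omega) hx) g
        rw [h3.eq, mul_inv_cancel_right] at h1
        exact mul_eq_right.1 h1.symm
      | one => exact ⟨one_mem _, one_pow p⟩
      | mul a b _ _ ha hb => exact ⟨mul_mem ha.1 hb.1, by rw [hmul a ha.1 b hb.1, ha.2, hb.2, one_mul]⟩
      | inv a _ ha => exact ⟨inv_mem ha.1, by rw [inv_pow, ha.2, inv_one]⟩
    exact (hcl2 z (hsub hz)).2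

end

section
variable {S : Type*} [Group S] [Finite S] {p n : ℕ} [hp : Fact p.Prime] (hn : Nat.card S = p ^ n) (h3 : 3 ≤ n)
  (hcl : Group.nilpotencyClass S = n - 1)
include hn h3 hcl

lemma card_gam {i : ℕ} (hi : 2 ≤ i) (hin : i ≤ n) : Nat.card ↥(gam S i) = p ^ (n - i) := by
  have := MaxClass.card_lcs_eq hn h3 hcl (k := i - 2) (by omega)
  rw [show i - 2 + 1 = i - 1 by omega, show n - 2 - (i - 2) = n - i by omega] at this
  exact this

lemma gam_gen {i : ℕ} (hi : 2 ≤ i) (hin : i < n) {y : S} (hy : y ∈ gam S i) (hy' : y ∉ gam S (i + 1)) :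
    gam S i ≤ Subgroup.zpowers y ⊔ gam S (i + 1) := by
  have hle : Subgroup.zpowers y ⊔ gam S (i + 1) ≤ gam S i :=
    sup_le (Subgroup.zpowers_le.2 hy) (gam_anti (Nat.le_succ i))
  refine (Subgroup.eq_of_le_of_card_ge hle ?_).ge
  obtain ⟨a, ha⟩ := IsPGroup.iff_card.1 ((IsPGroup.of_card hn).to_subgroup (Subgroup.zpowers y ⊔ gam S (i + 1)))
  rw [card_gam hn h3 hcl hi hin.le, ha]
  refine Nat.pow_le_pow_right hp.out.pos ?_
  have hlt : p ^ (n - (i + 1)) < p ^ a := by
    rw [← ha, ← card_gam hn h3 hcl (by omega : 2 ≤ i + 1) hin]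
    refine lt_of_le_of_ne (Subgroup.card_le_of_le le_sup_right) fun he => hy' ?_
    rw [Subgroup.eq_of_le_of_card_ge (le_sup_right : gam S (i + 1) ≤ Subgroup.zpowers y ⊔ gam S (i + 1)) he.ge]
    exact Subgroup.mem_sup_left (Subgroup.mem_zpowers y)
  have := (Nat.pow_lt_pow_iff_right hp.out.one_lt).1 hlt
  omega

/-- `p`-th powers lie deep in the lower central series. -/
lemma pow_mem_gam {j : ℕ} (hj : 2 ≤ j) (hjp : j ≤ p) (hjn : j + 1 ≤ n) (x : S) : x ^ p ∈ gam S j := by
  induction j, hj using Nat.le_induction generalizing x with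
  | base =>
    have hc := MaxClass.commutator_ne_bot hn h3 hcl
    have h1 := MaxClass.pow_eq_one_of_index_sq (IsPGroup.of_card hn) hc (MaxClass.index_commutator_eq hn h3 hcl) (x : S ⧸ commutator S)
    rw [← QuotientGroup.mk_pow, QuotientGroup.eq_one_iff] at h1
    exact h1
  | succ j hj ih =>
    have hih : ∀ x : S, x ^ p ∈ gam S j := fun x => ih (by omega) (by omega) x
    set f := QuotientGroup.mk' (gam S (j + 1)) with hf
    have hfs : Function.Surjective f := QuotientGroup.mk'_surjective _
    have hT : gam (S ⧸ gam S (j + 1)) (j + 1) = ⊥ := by rw [← gam_map f hfs, hf, QuotientGroup.map_mk'_self]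
    have hcen : ∀ (a : S ⧸ gam S (j + 1)) (g : S ⧸ gam S (j + 1)), Commute a (g ^ p) := by
      intro a g
      obtain ⟨a, rfl⟩ := hfs a
      obtain ⟨g, rfl⟩ := hfs g
      rw [Commute, SemiconjBy, ← commutatorElement_eq_one_iff_mul_comm, ← map_pow, ← map_commutatorElement]
      refine (QuotientGroup.eq_one_iff _).2 ?_
      have := gam_commutator (i := 1) (j := j) (a := a) (mem_gam_one _) (hih g)
      rwa [Nat.add_comm] at this
    have hexp := exp_p hp.out hT (le_refl 2) (by omega) (fun a _ g => hcen a g)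
    have hmul : ∀ u v : S ⧸ gam S (j + 1), (u * v) ^ p = u ^ p * v ^ p := fun u v =>
      pow_mul_eq hp.out hT (gam_commutator (i := 1) (j := 1) (mem_gam_one _) (mem_gam_one _)) (by omega) (by omega) hexp
    let X : Subgroup S :=
      { carrier := {a | a ^ p ∈ gam S (j + 1)}
        one_mem' := by simp
        mul_mem' := fun {a b} ha hb => by
          show (a * b) ^ p ∈ gam S (j + 1)
          rw [← QuotientGroup.eq_one_iff, ← QuotientGroup.mk'_apply (gam S (j + 1)), ← hf, map_pow, map_mul, hmul,
            ← map_pow, ← map_pow, hf, QuotientGroup.mk'_apply, QuotientGroup.mk'_apply,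
            (QuotientGroup.eq_one_iff _).2 ha, (QuotientGroup.eq_one_iff _).2 hb, one_mul]
        inv_mem' := fun {a} ha => by
          show a⁻¹ ^ p ∈ gam S (j + 1)
          rw [inv_pow]; exact inv_mem ha }
    by_contra hx
    set g := QuotientGroup.mk' (gam S (j + 2)) with hg
    set C := (Subgroup.centralizer (((gam S j).map g : Subgroup (S ⧸ gam S (j + 2))) : Set (S ⧸ gam S (j + 2)))).comap g
      with hC
    have hXC : ∀ a : S, a ∉ X → a ∈ C := by
      intro a ha
      show g a ∈ Subgroup.centralizer _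
      rw [Subgroup.mem_centralizer_iff]
      rintro _ ⟨w, hw, rfl⟩
      have hle : gam S j ≤ (Subgroup.centralizer ({g a} : Set (S ⧸ gam S (j + 2)))).comap g := by
        refine (gam_gen hn h3 hcl hj (by omega) (hih a) ha).trans (sup_le (Subgroup.zpowers_le.2 ?_) ?_)
        · show g (a ^ p) ∈ Subgroup.centralizer _
          rw [Subgroup.mem_centralizer_singleton_iff, map_pow, (Commute.refl (g a)).pow_left p]
        · intro v hv
          show g v ∈ Subgroup.centralizer _
          rw [Subgroup.mem_centralizer_singleton_iff, ← commutatorElement_eq_one_iff_mul_comm, ← map_commutatorElement]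
          exact (QuotientGroup.eq_one_iff _).2 (gam_commutator (i := j + 1) (j := 1) hv (mem_gam_one _))
      exact Subgroup.mem_centralizer_singleton_iff.1 (hle hw)
    have htop : ∀ b : S, b ∈ C := by
      intro b
      by_cases hb : b ∈ X
      · have h1 : x * b ∉ X := fun h' => hx ((Subgroup.mul_mem_cancel_right X hb).1 h')
        simpa using mul_mem (inv_mem (hXC x hx)) (hXC _ h1)
      · exact hXC b hb
    have hle : gam S (j + 1) ≤ gam S (j + 2) := by
      rw [gam_succ (by omega : 1 ≤ j), Subgroup.commutator_le]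
      intro w hw b _
      refine (QuotientGroup.eq_one_iff _).1 ?_
      rw [← QuotientGroup.mk'_apply (gam S (j + 2)), ← hg, map_commutatorElement, commutatorElement_eq_one_iff_mul_comm]
      exact Subgroup.mem_centralizer_iff.1 (htop b) _ ⟨w, hw, rfl⟩
    have h5 := Subgroup.card_le_of_le hle
    rw [card_gam hn h3 hcl (by omega) (by omega), card_gam hn h3 hcl (by omega) (by omega)] at h5
    have h6 := (Nat.pow_le_pow_iff_right hp.out.one_lt).1 h5
    omega

/-- A large elementary abelian section. -/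
lemma exists_section {k : ℕ} (hk : 2 ≤ k) (hkn : 2 * k + 1 ≤ n) (hpk : k + 2 ≤ p) :
    ¬ Cfsg.SectionalPRankLE p k S := by
  intro hr
  set N := gam S (2 * k + 1) with hN
  set f := QuotientGroup.mk' N with hf
  have hfs : Function.Surjective f := QuotientGroup.mk'_surjective _
  have hQ : gam (S ⧸ N) (2 * k + 1) = ⊥ := by rw [← gam_map f hfs, hf, QuotientGroup.map_mk'_self]
  have hexp : ∀ z ∈ gam (S ⧸ N) k, z ^ p = 1 := by
    refine exp_p hp.out hQ hk (by omega) ?_
    intro a ha g
    rw [← gam_map f hfs] at ha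
    obtain ⟨a, ha, rfl⟩ := ha
    obtain ⟨g, rfl⟩ := hfs g
    rw [Commute, SemiconjBy, ← commutatorElement_eq_one_iff_mul_comm, ← map_pow, ← map_commutatorElement]
    refine (QuotientGroup.eq_one_iff _).2 ?_
    exact gam_anti (by omega) (gam_commutator ha (pow_mem_gam hn h3 hcl (j := k + 2) (by omega) hpk (by omega) g))
  obtain ⟨y, hy, hy'⟩ : ∃ y ∈ gam S k, y ∉ gam S (k + 1) := by
    by_contra hh
    push Not at hh
    have h5 := Subgroup.card_le_of_le (fun y hy => hh y hy : gam S k ≤ gam S (k + 1))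
    rw [card_gam hn h3 hcl hk (by omega), card_gam hn h3 hcl (by omega) (by omega)] at h5
    have h6 := (Nat.pow_le_pow_iff_right hp.out.one_lt).1 h5
    omega
  have hab : ∀ a ∈ gam S k, ∀ b ∈ gam S k, f a * f b = f b * f a := by
    have key : ∀ a ∈ gam S (k + 1), ∀ b ∈ gam S k, f a * f b = f b * f a := by
      intro a ha b hb
      rw [← commutatorElement_eq_one_iff_mul_comm, ← map_commutatorElement]
      exact (QuotientGroup.eq_one_iff _).2 (gam_anti (by omega) (gam_commutator ha hb))
    intro a ha b hb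
    have h7 : gam S k ≤ (Subgroup.centralizer ({f b} : Set (S ⧸ N))).comap f := by
      refine (gam_gen hn h3 hcl hk (by omega) hy hy').trans (sup_le (Subgroup.zpowers_le.2 ?_) ?_)
      · show f y ∈ Subgroup.centralizer _
        rw [Subgroup.mem_centralizer_singleton_iff]
        have h8 : gam S k ≤ (Subgroup.centralizer ({f y} : Set (S ⧸ N))).comap f := by
          refine (gam_gen hn h3 hcl hk (by omega) hy hy').trans (sup_le (Subgroup.zpowers_le.2 ?_) ?_)
          · show f y ∈ Subgroup.centralizer _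
            rw [Subgroup.mem_centralizer_singleton_iff]
          · intro v hv
            show f v ∈ Subgroup.centralizer _
            rw [Subgroup.mem_centralizer_singleton_iff]
            exact key v hv y hy
        exact (Subgroup.mem_centralizer_singleton_iff.1 (h8 hb)).symm
      · intro v hv
        show f v ∈ Subgroup.centralizer _
        rw [Subgroup.mem_centralizer_singleton_iff]
        exact key v hv b hb
    exact Subgroup.mem_centralizer_singleton_iff.1 (h7 ha)
  have hb := hr (gam S k) (N.subgroupOf (gam S k)) ⊤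
    ⟨⟨fun a b => Subtype.ext (by
      obtain ⟨a, -⟩ := a
      obtain ⟨b, -⟩ := b
      induction a using QuotientGroup.induction_on with
      | _ a => induction b using QuotientGroup.induction_on with
        | _ b =>
          show (QuotientGroup.mk (a * b) : _ ⧸ N.subgroupOf (gam S k)) = QuotientGroup.mk (b * a)
          rw [QuotientGroup.eq, Subgroup.mem_subgroupOf, Subgroup.coe_mul, Subgroup.coe_inv,
            ← QuotientGroup.eq, Subgroup.coe_mul, Subgroup.coe_mul]
          have h8 := hab a a.2 b b.2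
          rw [← map_mul, ← map_mul] at h8
          exact h8)⟩⟩ (fun a _ => by
      obtain ⟨a, rfl⟩ := QuotientGroup.mk'_surjective _ a
      rw [← map_pow, QuotientGroup.mk'_apply, QuotientGroup.eq_one_iff, Subgroup.mem_subgroupOf, Subgroup.coe_pow,
        ← QuotientGroup.eq_one_iff, ← QuotientGroup.mk'_apply N, ← hf, map_pow]
      exact hexp _ (gam_map f hfs k ▸ Subgroup.mem_map_of_mem f a.2))
  have h9 := (N.subgroupOf (gam S k)).card_eq_card_quotient_mul_card_subgroup
  rw [Nat.card_congr (Subgroup.subgroupOfEquivOfLe (gam_anti (by omega) : N ≤ gam S k)).toEquiv, hN,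
    card_gam hn h3 hcl hk (by omega), card_gam hn h3 hcl (by omega) hkn] at h9
  rw [Subgroup.card_top] at hb
  have h10 : p ^ (n - k) ≤ p ^ k * p ^ (n - (2 * k + 1)) := h9 ▸ Nat.mul_le_mul_right _ hb
  rw [← pow_add] at h10
  have h11 := (Nat.pow_le_pow_iff_right hp.out.one_lt).1 h10
  omega

end

/-- Let p be a prime and S a finite p-group of order pⁿ (n ≥ 2) of maximal nilpotency class n − 1 whose sectional p-rank is exactly k (every section has p-rank at most k, and some section has p-rank k). If p ≥ k + 2 then the order of S is at most p^(2k). -/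
theorem result {S : Type*} [Group S] [Finite S] (p : ℕ) [Fact p.Prime] (hS : IsPGroup p S) [Group.IsNilpotent S]
    (n : ℕ) (hn : 2 ≤ n) (hcard : Nat.card S = p ^ n) (hmax : Group.nilpotencyClass S = n - 1)
    (k : ℕ) (hk : 1 ≤ k) (hsr : Cfsg.SectionalPRankLE p k S ∧ ¬ Cfsg.SectionalPRankLE p (k - 1) S)
    (hpk : k + 2 ≤ p) : Nat.card S ≤ p ^ (2 * k) := by
  by_contra hcon
  rw [not_le, hcard] at hcon
  have hkn : 2 * k < n := (Nat.pow_lt_pow_iff_right (Fact.out : p.Prime).one_lt).1 hcon
  rcases Nat.lt_or_ge k 2 with hk1 | hk2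
  · obtain rfl : k = 1 := by omega
    have hc := Cfsg.Agent.MaxClass.commutator_ne_bot hcard (by omega) hmax
    have hi := Cfsg.Agent.MaxClass.index_commutator_eq hcard (by omega) hmax
    have hb := hsr.1 ⊤ ((commutator S).subgroupOf ⊤) ⊤ ⟨⟨fun a b => Subtype.ext (by
        obtain ⟨a, -⟩ := a
        obtain ⟨b, -⟩ := b
        induction a using QuotientGroup.induction_on with
        | _ a => induction b using QuotientGroup.induction_on with
          | _ b =>
            show (QuotientGroup.mk (a * b) : _ ⧸ (commutator S).subgroupOf ⊤) = QuotientGroup.mk (b * a)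
            rw [QuotientGroup.eq, Subgroup.mem_subgroupOf]
            have e : (((a * b)⁻¹ * (b * a) : ↥(⊤ : Subgroup S)) : S) = ⁅(b : S)⁻¹, (a : S)⁻¹⁆ := by
              simp [commutatorElement_def, mul_assoc]
            rw [e]
            exact Subgroup.commutator_mem_commutator (Subgroup.mem_top _) (Subgroup.mem_top _))⟩⟩
      (fun a _ => by
        induction a using QuotientGroup.induction_on with
        | _ a =>
          rw [← QuotientGroup.mk_pow, QuotientGroup.eq_one_iff, Subgroup.mem_subgroupOf, Subgroup.coe_pow,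
            ← QuotientGroup.eq_one_iff, QuotientGroup.mk_pow]
          exact Cfsg.Agent.MaxClass.pow_eq_one_of_index_sq hS hc hi _)
    rw [Subgroup.card_top, ← Subgroup.index_eq_card] at hb
    have h12 : ((commutator S).subgroupOf ⊤).index = p ^ 2 := by
      rw [← hi, ← Subgroup.relIndex_top_right (commutator S)]; rfl
    rw [h12] at hb
    exact absurd ((Nat.pow_le_pow_iff_right (Fact.out : p.Prime).one_lt).1 hb) (by omega)
  · exact exists_section hcard (by omega) hmax hk2 (by omega) hpk hsr.1

end Cfsg.Agent.S3806
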