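import Cfsg.Statements.S4144
import Cfsg.Agent.S3806
import Cfsg.Agent.Lib.PLocal.MaxClassLinear
import Cfsg.Agent.Lib.FiniteGroup.Regular

set_option autoImplicit false
set_option linter.style.haveILetI false
open Cfsg

namespace Cfsg.Agent.S4144

open Cfsg.Agent Cfsg.Agent.PolySeq
open scoped commutatorElement

section
variable {G : Type*} [Group G]

theorem mk_eq_one {N : Subgroup G} [N.Normal] {a : G} : QuotientGroup.mk' N a = 1 ↔ a ∈ N :=
  QuotientGroup.eq_one_iff a

theorem gam_quot_bot (m : ℕ) : gam (G ⧸ gam G m) m = ⊥ := by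
  rw [← MaxClassLinear.gam_map_eq _ (QuotientGroup.mk'_surjective (gam G m)), QuotientGroup.map_mk'_self]

theorem mk_mem_gam (N : Subgroup G) [N.Normal] {i : ℕ} {a : G} (ha : a ∈ gam G i) :
    QuotientGroup.mk' N a ∈ gam (G ⧸ N) i :=
  MaxClassLinear.gam_map_le _ i (Subgroup.mem_map_of_mem _ ha)

theorem exists_of_mem_gam (N : Subgroup G) [N.Normal] {i : ℕ} {q : G ⧸ N} (hq : q ∈ gam (G ⧸ N) i) :
    ∃ a ∈ gam G i, QuotientGroup.mk' N a = q := by
  rwa [← MaxClassLinear.gam_map_eq _ (QuotientGroup.mk'_surjective N)] at hq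

theorem gam_two_eq : gam G 2 = commutator G := by
  show (⊤ : Subgroup G).lowerCentralSeries 1 = _
  exact Subgroup.top_lowerCentralSeries_one

/-- the elements centralizing `γ_j` modulo `γ_{j+2}` -/
def twoStep (G : Type*) [Group G] (j : ℕ) : Subgroup G where
  carrier := {s | ∀ w ∈ gam G j, ⁅w, s⁆ ∈ gam G (j + 2)}
  one_mem' := fun w _ => by simp
  mul_mem' {a b} ha hb := fun w hw => by
    rw [show ⁅w, a * b⁆ = ⁅w, a⁆ * (a * ⁅w, b⁆ * a⁻¹) by simp only [commutatorElement_def]; group]
    exact mul_mem (ha w hw) ((gam_normal _).conj_mem _ (hb w hw) a)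
  inv_mem' {a} ha := fun w hw => by
    rw [show ⁅w, a⁻¹⁆ = a⁻¹ * ⁅w, a⁆⁻¹ * a⁻¹⁻¹ by simp only [commutatorElement_def]; group]
    exact (gam_normal _).conj_mem _ (inv_mem (ha w hw)) _

theorem gam_two_le (j : ℕ) : gam G 2 ≤ twoStep G j := fun _ hs _ hw => gam_commutator hw hs

theorem sum_weight (w : List Bool) :
    (w.map fun b => if b then 2 else 1).sum = w.length + w.count true := by
  induction w with
  | nil => rfl
  | cons b w ih => cases b <;> simp [ih] <;> omega

end

section
universe u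
variable {G : Type u} [Group G] [Finite G] {p n : ℕ} [hp : Fact p.Prime] (hn : Nat.card G = p ^ n)
  (hpn : p + 1 ≤ n) (hcl : Group.nilpotencyClass G = n - 1)
include hn hpn hcl

theorem three_le : 3 ≤ n := by
  have := hp.out.two_le
  omega

theorem card_gam' {i : ℕ} (hi : 2 ≤ i) (hin : i ≤ n) : Nat.card ↥(gam G i) = p ^ (n - i) :=
  S3806.card_gam hn (three_le hn hpn hcl) hcl hi hin

theorem gam_eq_bot {i : ℕ} (hi : n ≤ i) : gam G i = ⊥ := by
  have h := card_gam' hn hpn hcl (i := n) (by have := three_le hn hpn hcl; omega) le_rfl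
  rw [Nat.sub_self, pow_zero] at h
  exact le_bot_iff.1 ((gam_anti hi).trans (Subgroup.card_eq_one.1 h).le)

theorem not_gam_le {i : ℕ} (hi : 2 ≤ i) (hin : i < n) : ¬ gam G i ≤ gam G (i + 1) := fun h => by
  have h1 := Subgroup.card_le_of_le h
  rw [card_gam' hn hpn hcl hi hin.le, card_gam' hn hpn hcl (by omega) hin] at h1
  have := (Nat.pow_le_pow_iff_right hp.out.one_lt).1 h1
  omega

theorem gen {i : ℕ} (hi : 2 ≤ i) (hin : i < n) {y : G} (hy : y ∈ gam G i) (hy' : y ∉ gam G (i + 1))
    {T : Subgroup G} (hyT : y ∈ T) (hT : gam G (i + 1) ≤ T) : gam G i ≤ T :=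
  (S3806.gam_gen hn (three_le hn hpn hcl) hcl hi hin hy hy').trans
    (sup_le (Subgroup.zpowers_le.2 hyT) hT)

theorem pow_mem_p (g : G) : g ^ p ∈ gam G p :=
  S3806.pow_mem_gam hn (three_le hn hpn hcl) hcl hp.out.two_le le_rfl hpn g

theorem pow_le {i : ℕ} (hi : 2 ≤ i) {z : G} (hz : z ∈ gam G i) : z ^ p ∈ gam G (i + (p - 1)) := by
  rw [← mk_eq_one, map_pow]
  refine S3806.exp_p hp.out (gam_quot_bot _) hi le_rfl ?_ _ (mk_mem_gam _ hz)
  intro a ha g
  obtain ⟨a, ha', rfl⟩ := exists_of_mem_gam _ ha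
  obtain ⟨g, rfl⟩ := QuotientGroup.mk'_surjective _ g
  rw [Commute, SemiconjBy, ← commutatorElement_eq_one_iff_mul_comm, ← map_pow, ← map_commutatorElement,
    mk_eq_one]
  have := hp.out.two_le
  exact gam_anti (by omega) (gam_commutator ha' (pow_mem_p hn hpn hcl g))

theorem pow_mul_mod {i : ℕ} (hi : 2 ≤ i) {a b : G} (hab : ⁅a, b⁆ ∈ gam G (i + 2)) :
    ((a * b) ^ p)⁻¹ * (a ^ p * b ^ p) ∈ gam G (i + p) := by
  rw [← mk_eq_one, map_mul, map_inv, map_mul, map_pow, map_pow, map_pow, map_mul, inv_mul_eq_one]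
  have := hp.out.two_le
  refine S3806.pow_mul_eq hp.out (gam_quot_bot _) (i := i + 2)
    (by rw [← map_commutatorElement]; exact mk_mem_gam _ hab) (by omega) (by omega) fun z hz => ?_
  obtain ⟨z, hz', rfl⟩ := exists_of_mem_gam _ hz
  rw [← map_pow, mk_eq_one]
  exact gam_anti (by omega) (pow_le hn hpn hcl (by omega) hz')

theorem exists_avoid (J : Finset ℕ) (hJ : J.card < p) (hJ' : ∀ j ∈ J, 2 ≤ j ∧ j + 1 < n) :
    ∃ s, s ∉ gam G 2 ∧ ∀ j ∈ J, s ∉ twoStep G j := by
  classical
  haveI := Fintype.ofFinite G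
  by_contra! h
  have h2 := three_le hn hpn hcl
  have hcard : ∀ j ∈ J, ((twoStep G j : Set G).toFinset).card ≤ p ^ (n - 1) := by
    intro j hj
    rw [Set.toFinset_card, ← Nat.card_eq_fintype_card]
    change Nat.card ↥(twoStep G j) ≤ _
    obtain ⟨a, ha⟩ := IsPGroup.iff_card.1 ((IsPGroup.of_card hn).to_subgroup (twoStep G j))
    rw [ha]
    refine Nat.pow_le_pow_right hp.out.pos ?_
    have hle : p ^ a ≤ p ^ n := by rw [← ha, ← hn]; exact Subgroup.card_le_card_group _
    have ha' := (Nat.pow_le_pow_iff_right hp.out.one_lt).1 hle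
    rcases Nat.lt_or_eq_of_le ha' with h1 | rfl
    · exact Nat.le_sub_one_of_lt h1
    exfalso
    refine not_gam_le hn hpn hcl (i := j + 1) (by have := (hJ' j hj).1; omega) (hJ' j hj).2 ?_
    rw [MaxClassLinear.gam_step (by have := (hJ' j hj).1; omega), Subgroup.commutator_le]
    intro w hw s _
    have hs : s ∈ twoStep G j := by
      rw [Subgroup.eq_top_of_card_eq _ (ha.trans hn.symm)]
      exact Subgroup.mem_top s
    exact hs w hw
  have hsub : (Finset.univ : Finset G) ⊆
      (gam G 2 : Set G).toFinset ∪ J.biUnion fun j => (twoStep G j : Set G).toFinset := by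
    intro s _
    by_cases hs : s ∈ gam G 2
    · simp [hs]
    · obtain ⟨j, hj, hsj⟩ := h s hs
      simp only [Finset.mem_union, Finset.mem_biUnion, Set.mem_toFinset, SetLike.mem_coe]
      exact Or.inr ⟨j, hj, hsj⟩
  have h3 := (Finset.card_le_card hsub).trans ((Finset.card_union_le _ _).trans
    (Nat.add_le_add_left (Finset.card_biUnion_le.trans ((Finset.sum_le_card_nsmul _ _ _ hcard))) _))
  rw [Finset.card_univ, ← Nat.card_eq_fintype_card, hn, Set.toFinset_card, ← Nat.card_eq_fintype_card,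
    smul_eq_mul] at h3
  change p ^ n ≤ Nat.card ↥(gam G 2) + _ at h3
  rw [card_gam' hn hpn hcl le_rfl (by omega)] at h3
  have h4 : p ^ (n - 2) < p ^ (n - 1) := Nat.pow_lt_pow_right hp.out.one_lt (by omega)
  have h5 : J.card * p ^ (n - 1) + p ^ (n - 1) ≤ p ^ n := by
    conv_rhs => rw [show n = (n - 1) + 1 by omega, pow_succ']
    rw [← Nat.succ_mul]
    exact Nat.mul_le_mul_right _ hJ
  omega

theorem step {j : ℕ} (hj : 2 ≤ j) (hjn : j + 1 < n) {s w : G} (hs : s ∉ twoStep G j) (hw : w ∈ gam G j)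
    (hw' : w ∉ gam G (j + 1)) : ⁅w, s⁆ ∉ gam G (j + 2) := by
  intro h
  refine hs fun v hv => ?_
  have hle : gam G j ≤ ((Subgroup.centralizer {QuotientGroup.mk' (gam G (j + 2)) s}).comap
      (QuotientGroup.mk' (gam G (j + 2)))) := by
    refine gen hn hpn hcl hj (by omega) hw hw' ?_ fun v hv => ?_
    · rw [Subgroup.mem_comap, Subgroup.mem_centralizer_singleton_iff,
        ← commutatorElement_eq_one_iff_mul_comm, ← map_commutatorElement, mk_eq_one]
      exact h
    · rw [Subgroup.mem_comap, Subgroup.mem_centralizer_singleton_iff,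
        ← commutatorElement_eq_one_iff_mul_comm, ← map_commutatorElement, mk_eq_one]
      exact gam_commutator (j := 1) hv (Subgroup.mem_top s)
  have h1 := hle hv
  rwa [Subgroup.mem_comap, Subgroup.mem_centralizer_singleton_iff,
    ← commutatorElement_eq_one_iff_mul_comm, ← map_commutatorElement, mk_eq_one] at h1

theorem fold_level {s x : G} (k : ℕ) : ∀ {a : ℕ} {z : G}, 2 ≤ a → a + k < n →
    (∀ j, a ≤ j → j < a + k → s ∉ twoStep G j) → z ∈ gam G a → z ∉ gam G (a + 1) →
    MaxClassLinear.fold (MaxClassLinear.pair s x) z (List.replicate k false) ∈ gam G (a + k) ∧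
      MaxClassLinear.fold (MaxClassLinear.pair s x) z (List.replicate k false) ∉ gam G (a + k + 1) := by
  induction k with
  | zero => intro a z _ _ _ h h'; exact ⟨h, h'⟩
  | succ k ih =>
    intro a z ha hak hs hz hz'
    rw [List.replicate_succ, MaxClassLinear.fold_cons,
      show MaxClassLinear.pair s x false = s from rfl, show a + (k + 1) = a + 1 + k by omega]
    exact ih (by omega) (by omega) (fun j h1 h2 => hs j (by omega) (by omega))
      (gam_commutator (j := 1) hz (Subgroup.mem_top s))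
      (step hn hpn hcl ha (by omega) (hs a le_rfl (by omega)) hz hz')

theorem exists_comm {s : G} (hs : s ∉ gam G 2) : ∃ x : G, ⁅x, s⁆ ∉ gam G 3 := by
  have h3 := three_le hn hpn hcl
  haveI := (IsPGroup.of_card hn).isNilpotent
  by_contra! h
  have hne : Subgroup.zpowers s ⊔ gam G 2 ≠ ⊤ := by
    rw [gam_two_eq]
    intro he
    have h1 := RegularP.eq_top_of_sup_commutator he
    refine MaxClass.commutator_ne_bot hn h3 hcl ?_
    rw [commutator_def, ← h1, Subgroup.commutator_eq_bot_iff_le_centralizer]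
    intro a ha
    rw [Subgroup.mem_centralizer_iff]
    intro b hb
    obtain ⟨i, rfl⟩ := Subgroup.mem_zpowers_iff.1 ha
    obtain ⟨j, rfl⟩ := Subgroup.mem_zpowers_iff.1 hb
    exact ((Commute.refl s).zpow_zpow j i).eq
  obtain ⟨x, hx⟩ : ∃ x, x ∉ Subgroup.zpowers s ⊔ gam G 2 := by
    by_contra! hall
    exact hne (eq_top_iff.2 fun x _ => hall x)
  set M := Subgroup.zpowers s ⊔ gam G 2 with hM
  have hgen : Subgroup.closure (Set.range (MaxClassLinear.pair s x)) = ⊤ := by
    refine RegularP.eq_top_of_sup_commutator ?_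
    rw [← gam_two_eq]
    set A := Subgroup.closure (Set.range (MaxClassLinear.pair s x)) ⊔ gam G 2 with hA
    have hlt : M < A := by
      have hsA : s ∈ Subgroup.closure (Set.range (MaxClassLinear.pair s x)) :=
        Subgroup.subset_closure ⟨false, rfl⟩
      have hxA : x ∈ Subgroup.closure (Set.range (MaxClassLinear.pair s x)) :=
        Subgroup.subset_closure ⟨true, rfl⟩
      exact SetLike.lt_iff_le_and_exists.2 ⟨sup_le_sup_right (Subgroup.zpowers_le.2 hsA) _, x,
        Subgroup.mem_sup_left hxA, hx⟩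
    have hlt' : gam G 2 < M := SetLike.lt_iff_le_and_exists.2
      ⟨le_sup_right, s, Subgroup.mem_sup_left (Subgroup.mem_zpowers s), hs⟩
    obtain ⟨a, ha⟩ := IsPGroup.iff_card.1 ((IsPGroup.of_card hn).to_subgroup A)
    obtain ⟨b, hb⟩ := IsPGroup.iff_card.1 ((IsPGroup.of_card hn).to_subgroup M)
    have h1 : Nat.card ↥M < Nat.card ↥A :=
      Set.ncard_lt_ncard (SetLike.coe_ssubset_coe.2 hlt) (Set.toFinite _)
    have h2 : Nat.card ↥(gam G 2) < Nat.card ↥M :=
      Set.ncard_lt_ncard (SetLike.coe_ssubset_coe.2 hlt') (Set.toFinite _)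
    have h4 : Nat.card ↥A ≤ p ^ n := hn ▸ Subgroup.card_le_card_group A
    rw [card_gam' hn hpn hcl le_rfl (by omega), hb] at h2
    rw [ha, hb] at h1
    rw [ha] at h4
    have h1' := (Nat.pow_lt_pow_iff_right hp.out.one_lt).1 h1
    have h2' := (Nat.pow_lt_pow_iff_right hp.out.one_lt).1 h2
    have h4' := (Nat.pow_le_pow_iff_right hp.out.one_lt).1 h4
    exact Subgroup.eq_top_of_card_eq _ (by rw [ha, hn]; congr 1; omega)
  refine not_gam_le hn hpn hcl (i := 2) le_rfl (by omega)
    ((MaxClassLinear.gam_le_br hgen one_le_two).trans ((Subgroup.closure_le _).2 ?_))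
  rintro _ (⟨w, hw, rfl⟩ | h')
  · match w, hw with
    | [a, b], _ =>
      show ⁅MaxClassLinear.pair s x a, MaxClassLinear.pair s x b⁆ ∈ gam G 3
      cases a <;> cases b <;> simp [MaxClassLinear.pair, h x]
      rw [← inv_mem_iff, commutatorElement_inv]
      exact h x
  · exact h'

theorem exists_pow_not_mem : ∃ g : G, g ^ p ∉ gam G (p + 1) := by
  by_contra! h
  have h3 := three_le hn hpn hcl
  have h2 := hp.out.two_le
  obtain ⟨c, hw, e, hc, -, hlin, hpe, heq⟩ := MaxClassLinear.exists_universal.{u} p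
  obtain ⟨s, hs, hsJ⟩ := exists_avoid hn hpn hcl (Finset.Icc 2 (p - 1))
    (by rw [Nat.card_Icc]; omega) fun j hj => by rw [Finset.mem_Icc] at hj; omega
  obtain ⟨x, hx⟩ := exists_comm hn hpn hcl hs
  set f := QuotientGroup.mk' (gam G (p + 1)) with hf
  set E := MaxClassLinear.engel p s x with hE
  have hEmem : E ∈ gam G p ∧ E ∉ gam G (p + 1) := by
    have := fold_level hn hpn hcl (s := s) (x := x) (p - 2) (z := ⁅x, s⁆) le_rfl (by omega)
      (fun j h1 h2 => hsJ j (by rw [Finset.mem_Icc]; omega))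
      (gam_commutator (i := 1) (j := 1) (Subgroup.mem_top x) (Subgroup.mem_top s)) hx
    rw [show 2 + (p - 2) = p by omega] at this
    rw [hE, MaxClassLinear.engel, show p - 1 = (p - 2) + 1 by omega, List.replicate_succ,
      MaxClassLinear.fold_cons]
    exact this
  have hexp : ∀ q : G ⧸ gam G (p + 1), q ^ p = 1 := fun q => by
    obtain ⟨g, rfl⟩ := QuotientGroup.mk'_surjective _ q
    rw [← map_pow, mk_eq_one]
    exact h g
  have hne : f E ≠ 1 := fun h1 => hEmem.2 (mk_eq_one.1 h1)
  have hZ : gam (G ⧸ gam G (p + 1)) p ≤ Subgroup.zpowers (f E) := by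
    intro q hq
    obtain ⟨a, ha, rfl⟩ := exists_of_mem_gam _ hq
    refine (gen hn hpn hcl h2 (by omega) hEmem.1 hEmem.2
      (T := (Subgroup.zpowers (f E)).comap f) (Subgroup.mem_zpowers _) fun v hv => ?_) ha
    rw [Subgroup.mem_comap, mk_eq_one.2 hv]
    exact one_mem _
  haveI : NeZero p := ⟨hp.out.ne_zero⟩
  have hcZ : Nat.card ↥(Subgroup.zpowers (f E)) = p := by
    rw [Nat.card_zpowers, orderOf_eq_prime (hexp _) hne]
  let φ : ↥(Subgroup.zpowers (f E)) ≃* Multiplicative (ZMod p) :=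
    mulEquivOfPrimeCardEq hcZ (by simp)
  classical
  let χ : G ⧸ gam G (p + 1) → ZMod p := fun q =>
    if hq : q ∈ Subgroup.zpowers (f E) then (φ ⟨q, hq⟩).toAdd else 0
  have hχ : MaxClassLinear.IsChar p χ := fun a ha b hb => by
    simp only [χ, dif_pos (mul_mem (hZ ha) (hZ hb)), dif_pos (hZ ha), dif_pos (hZ hb)]
    rw [← toAdd_mul, ← map_mul]
    rfl
  have hχE : χ (f E) ≠ 0 := by
    intro h0
    simp only [χ, dif_pos (Subgroup.mem_zpowers (f E))] at h0
    have h1 : φ ⟨f E, Subgroup.mem_zpowers _⟩ = 1 := toAdd_eq_zero.1 h0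
    rw [← map_one φ] at h1
    exact hne (congrArg Subtype.val (φ.injective h1))
  obtain ⟨q, hq, hq1, hqe⟩ := (hlin _ (gam_quot_bot _) (f s) (f x)).2 χ hχ
  have hroot : ∀ k : ℕ, q.eval (k : ZMod p) = 0 := fun k => by
    rw [hqe]
    have h1 := congrArg (FreeGroup.lift (MaxClassLinear.pair (f s) (f x ^ k))) heq
    rw [map_mul, map_mul, map_mul, map_pow, map_pow, map_pow,
      MaxClassLinear.derPow_eq_one _ (fun d _ => hexp d) hc, hexp, hexp, hexp, one_mul, one_mul,
      one_mul] at h1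
    rw [← h1]
    exact hχ.one
  have hq0 : q = 0 := Polynomial.eq_zero_of_natDegree_lt_card_of_eval_eq_zero q
    (f := (id : ZMod p → ZMod p)) Function.injective_id
    (fun z => by have := hroot z.val; rwa [ZMod.natCast_zmod_val] at this)
    (by rwa [ZMod.card])
  have hE' : MaxClassLinear.engel p (f s) (f x) = f E := by
    rw [hE, MaxClassLinear.engel, MaxClassLinear.engel, MaxClassLinear.map_fold]
    exact congrArg (fun v => MaxClassLinear.fold v (f x) _) (funext fun b => by cases b <;> rfl)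
  rw [hq0, Polynomial.coeff_zero, hE'] at hq1
  rcases mul_eq_zero.1 hq1.symm with he | he
  · exact hpe ((ZMod.intCast_zmod_eq_zero_iff_dvd _ _).1 he)
  · exact hχE he

theorem exists_pow_two (hpn2 : p + 2 ≤ n) : ∃ y ∈ gam G 2, y ^ p ∉ gam G (p + 2) := by
  by_contra! h
  have h2 := hp.out.two_le
  obtain ⟨c, hw, e, hc, -, hlin, hpe, heq⟩ := MaxClassLinear.exists_universal.{u} p
  obtain ⟨s, hs, hsJ⟩ := exists_avoid hn hpn hcl (Finset.Icc 2 p)
    (by rw [Nat.card_Icc]; omega) fun j hj => by rw [Finset.mem_Icc] at hj; omega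
  obtain ⟨x, hx⟩ := exists_comm hn hpn hcl hs
  set u := ⁅s⁻¹, x⁆ with hu
  have hu2 : u ∈ gam G 2 := gam_commutator (i := 1) (j := 1) (Subgroup.mem_top _) (Subgroup.mem_top x)
  have hu3 : u ∉ gam G 3 := fun h1 => hx (by
    rw [show ⁅x, s⁆ = s * u * s⁻¹ by simp only [hu, commutatorElement_def]; group]
    exact (gam_normal 3).conj_mem _ h1 s)
  have hsp : s ^ p ∈ gam G (p + 1) := by
    by_contra h1
    refine step hn hpn hcl h2 (by omega) (hsJ p (by rw [Finset.mem_Icc]; omega))
      (pow_mem_p hn hpn hcl s) h1 ?_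
    rw [commutatorElement_eq_one_iff_mul_comm.2 ((Commute.refl s).pow_left p).eq]
    exact one_mem _
  set f := QuotientGroup.mk' (gam G (p + 2)) with hf
  set E := MaxClassLinear.engel p s u with hE
  have hEmem : E ∈ gam G (p + 1) ∧ E ∉ gam G (p + 2) := by
    have := fold_level hn hpn hcl (s := s) (x := u) (p - 1) (z := u) le_rfl (by omega)
      (fun j h1 h2 => hsJ j (by rw [Finset.mem_Icc]; omega)) hu2 hu3
    rwa [show 2 + (p - 1) = p + 1 by omega] at this
  set v := MaxClassLinear.pair (f s) (f u) with hv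
  set K := Subgroup.closure (Set.range v) with hK
  let a : ↥K := ⟨f s, Subgroup.subset_closure ⟨false, rfl⟩⟩
  let b : ↥K := ⟨f u, Subgroup.subset_closure ⟨true, rfl⟩⟩
  have hval : (fun c => K.subtype (MaxClassLinear.pair a b c)) = v := funext fun c => by
    cases c <;> rfl
  have hgenK : Subgroup.closure (Set.range (MaxClassLinear.pair a b)) = ⊤ := by
    refine Subgroup.map_injective K.subtype_injective ?_
    rw [MonoidHom.map_closure, ← MonoidHom.range_eq_map, Subgroup.range_subtype, ← Set.range_comp]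
    show Subgroup.closure (Set.range (fun c => K.subtype (MaxClassLinear.pair a b c))) = K
    rw [hval, hK]
  have hbr : ∀ w, K.subtype (MaxClassLinear.br (MaxClassLinear.pair a b) w) = MaxClassLinear.br v w :=
    fun w => by rw [MaxClassLinear.map_br, hval]
  have hvmem : ∀ c : Bool, v c ∈ gam (G ⧸ gam G (p + 2)) (if c then 2 else 1) := fun c => by
    cases c
    · exact Subgroup.mem_top _
    · exact mk_mem_gam _ hu2
  have hlev : ∀ l, 2 ≤ l → (gam ↥K l).map K.subtype ≤ gam (G ⧸ gam G (p + 2)) (l + 1) := by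
    intro l hl
    induction l, hl using Nat.le_induction with
    | base =>
      refine (Subgroup.map_mono (MaxClassLinear.gam_le_br hgenK one_le_two)).trans ?_
      rw [MonoidHom.map_closure, Subgroup.closure_le]
      rintro _ ⟨y, ⟨w, hw, rfl⟩ | hy, rfl⟩
      · rw [SetLike.mem_coe, hbr]
        match w, hw with
        | [c, d], _ =>
          show ⁅v c, v d⁆ ∈ _
          cases c <;> cases d
          · rw [commutatorElement_self]; exact one_mem _
          · exact gam_commutator (i := 1) (j := 2) (hvmem false) (hvmem true)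
          · exact gam_commutator (i := 2) (j := 1) (hvmem true) (hvmem false)
          · rw [commutatorElement_self]; exact one_mem _
      · exact MaxClassLinear.gam_map_le K.subtype 3 (Subgroup.mem_map_of_mem _ hy)
    | succ l hl ih =>
      rw [MaxClassLinear.gam_step (G := ↥K) (by omega),
        MaxClassLinear.gam_step (G := G ⧸ gam G (p + 2)) (by omega : 1 ≤ l + 1),
        Subgroup.map_commutator]
      exact Subgroup.commutator_mono ih le_top
  have hKp : gam ↥K (p + 1) = ⊥ := by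
    rw [← Subgroup.map_eq_bot_iff_of_injective _ K.subtype_injective, eq_bot_iff,
      ← gam_quot_bot (G := G) (p + 2)]
    exact hlev (p + 1) (by omega)
  have hexp : ∀ d ∈ gam (G ⧸ gam G (p + 2)) 2, d ^ p = 1 := fun d hd => by
    obtain ⟨d, hd', rfl⟩ := exists_of_mem_gam _ hd
    rw [← map_pow, mk_eq_one]
    exact h d hd'
  have hV : ∀ w : List Bool, w.length = p → 2 ≤ w.count true →
      MaxClassLinear.br (MaxClassLinear.pair a b) w = 1 := by
    intro w hw hw2
    refine K.subtype_injective ?_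
    rw [hbr, map_one, ← Subgroup.mem_bot, ← gam_quot_bot (G := G) (p + 2)]
    have h1 := MaxClassLinear.br_mem hvmem (w := w) (fun h1 => by simp [h1] at hw2)
    rw [sum_weight, hw] at h1
    exact gam_anti (by omega) h1
  have hsu : (a * b) ^ p = a ^ p := by
    refine Subtype.ext ?_
    show (f s * f u) ^ p = f s ^ p
    rw [← map_mul, ← map_pow, ← map_pow, show s * u = x * s * x⁻¹ by
      simp only [hu, commutatorElement_def]; group, conj_pow]
    refine inv_mul_eq_one.1 ?_
    rw [← map_inv, ← map_mul, mk_eq_one]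
    have h1 : ⁅x, (s ^ p)⁻¹⁆ ∈ gam G (p + 2) := by
      have := gam_commutator (i := 1) (Subgroup.mem_top x) (inv_mem hsp)
      rwa [Nat.add_comm] at this
    rw [show (x * s ^ p * x⁻¹)⁻¹ * s ^ p = ⁅x, (s ^ p)⁻¹⁆ by simp only [commutatorElement_def]; group]
    exact h1
  have hbp : b ^ p = 1 := Subtype.ext (hexp _ (mk_mem_gam _ hu2))
  have h1 := congrArg (FreeGroup.lift (MaxClassLinear.pair a b)) heq
  simp only [map_mul, map_pow, FreeGroup.lift_apply_of, (hlin _ hKp a b).1 hV] at h1
  rw [MaxClassLinear.derPow_eq_one _ (fun d hd => Subtype.ext (hexp _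
    (MaxClassLinear.gam_map_le K.subtype 2 (Subgroup.mem_map_of_mem _ hd)))) hc] at h1
  change (a * b) ^ p = a ^ p * b ^ p * 1 * MaxClassLinear.engel p a b ^ e at h1
  rw [hsu, hbp, mul_one, mul_one, left_eq_mul] at h1
  have hE' : K.subtype (MaxClassLinear.engel p a b) = f E := by
    rw [hE, MaxClassLinear.engel, MaxClassLinear.engel, MaxClassLinear.map_fold,
      MaxClassLinear.map_fold, hval]
    exact congrArg (fun v => MaxClassLinear.fold v (f u) _) (funext fun c => by cases c <;> rfl)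
  have h4 : f E ^ e = 1 := by rw [← hE', ← map_zpow, h1, map_one]
  rw [← orderOf_dvd_iff_zpow_eq_one, orderOf_eq_prime (hexp _ (mk_mem_gam _ (gam_anti (by omega) hEmem.1)))
    (fun h5 => hEmem.2 (mk_eq_one.1 h5))] at h4
  exact hpe h4

theorem pow_not_mem {i : ℕ} (hi : 2 ≤ i) (hin : i + p ≤ n) {z : G} (hz : z ∈ gam G i)
    (hz' : z ∉ gam G (i + 1)) : z ^ p ∉ gam G (i + p) := by
  have h2 := hp.out.two_le
  suffices hex : ∃ y ∈ gam G i, y ^ p ∉ gam G (i + p) by
    obtain ⟨y, hy, hy'⟩ := hex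
    intro hzp
    let T : Subgroup G :=
      { carrier := {a | a ∈ gam G i ∧ a ^ p ∈ gam G (i + p)}
        one_mem' := ⟨one_mem _, by simp⟩
        mul_mem' := fun {a b} ha hb => by
          refine ⟨mul_mem ha.1 hb.1, ?_⟩
          have h1 := pow_mul_mod hn hpn hcl hi (gam_anti (by omega) (gam_commutator ha.1 hb.1))
          have h2 := mul_mem (mul_mem ha.2 hb.2) (inv_mem h1)
          rwa [show a ^ p * b ^ p * (((a * b) ^ p)⁻¹ * (a ^ p * b ^ p))⁻¹ = (a * b) ^ p by group] at h2
        inv_mem' := fun {a} ha => ⟨inv_mem ha.1, by rw [inv_pow]; exact inv_mem ha.2⟩ }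
    exact hy' ((gen hn hpn hcl hi (by omega) hz hz' (T := T) ⟨hz, hzp⟩ (fun v hv =>
      ⟨gam_anti (Nat.le_succ i) hv, gam_anti (by omega) (pow_le hn hpn hcl (by omega) hv)⟩)) hy).2
  clear hz hz' z
  induction i, hi using Nat.le_induction with
  | base =>
    rw [Nat.add_comm] at hin ⊢
    exact exists_pow_two hn hpn hcl hin
  | succ i hi ih =>
    obtain ⟨y, hy, hy'⟩ := ih (by omega)
    have hu : y ^ p ∈ gam G (i + (p - 1)) := pow_le hn hpn hcl hi hy
    obtain ⟨t, -, ht⟩ := exists_avoid hn hpn hcl {i + (p - 1)} (by simp; omega)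
      (by simp; omega)
    have h1 := step hn hpn hcl (by omega) (by omega) (ht _ (Finset.mem_singleton_self _)) hu
      (by rwa [show i + (p - 1) + 1 = i + p by omega])
    rw [show i + (p - 1) + 2 = i + 1 + p by omega] at h1
    refine ⟨⁅t, y⁆, ?_, fun hzp => h1 ?_⟩
    · have := gam_commutator (i := 1) (Subgroup.mem_top t) hy
      rwa [Nat.add_comm] at this
    have hc : ⁅⁅t, y⁆, y⁆ ∈ gam G (i + 1 + 2) := by
      refine gam_anti ?_ (gam_commutator (gam_commutator (i := 1) (Subgroup.mem_top t) hy) hy)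
      omega
    have h3 := pow_mul_mod hn hpn hcl (by omega) hc
    have h4 := inv_mem (mul_mem hzp (mul_mem (show (1 : G) ∈ gam G (i + 1 + p) from one_mem _) (one_mem _)))
    rw [show ⁅t, y⁆ * y = t * y * t⁻¹ by simp only [commutatorElement_def]; group, conj_pow] at h3
    set z := ⁅t, y⁆ ^ p with hzdef
    rw [show ⁅y ^ p, t⁆ = y ^ p * ((t * y ^ p * t⁻¹)⁻¹ * (z * y ^ p)) * (y ^ p)⁻¹ * z⁻¹ by
      simp only [commutatorElement_def]; group]
    exact mul_mem ((gam_normal _).conj_mem _ h3 _) (inv_mem hzp)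

theorem card_le_powers {K : Subgroup G} (hK : K ≤ gam G 2) {U : Subgroup G} (hU : ∀ k ∈ K, k ^ p ∈ U) :
    Nat.card ↥K ≤ p ^ (p - 1) * Nat.card ↥U := by
  have h2 := hp.out.two_le
  suffices h : ∀ d j, 2 ≤ j → n ≤ j + d →
      Nat.card ↥(K ⊓ gam G j) ≤ p ^ (p - 1) * Nat.card ↥(U ⊓ gam G (j + (p - 1))) by
    have h1 := h n 2 le_rfl (by omega)
    rw [inf_eq_left.2 hK] at h1
    exact h1.trans (Nat.mul_le_mul_left _ (Subgroup.card_le_of_le inf_le_left))
  intro d
  induction d with
  | zero =>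
    intro j _ hj
    rw [gam_eq_bot hn hpn hcl (i := j) (by omega), inf_bot_eq, Subgroup.card_bot]
    exact Nat.one_le_iff_ne_zero.2 (mul_ne_zero (pow_ne_zero _ hp.out.ne_zero) Nat.card_pos.ne')
  | succ d ih =>
    intro j hj hjd
    rcases Nat.lt_or_ge (j + (p - 1)) n with hlt | hge
    swap
    · refine le_trans ?_ (Nat.le_mul_of_pos_right _ Nat.card_pos)
      refine (Subgroup.card_le_of_le inf_le_right).trans ?_
      rcases Nat.lt_or_ge j n with hjn | hjn
      · rw [card_gam' hn hpn hcl hj hjn.le]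
        exact Nat.pow_le_pow_right hp.out.pos (by omega)
      · rw [gam_eq_bot hn hpn hcl hjn, Subgroup.card_bot]
        exact Nat.one_le_pow _ _ hp.out.pos
    have ih' := ih (j + 1) (by omega) (by omega)
    rw [show j + 1 + (p - 1) = j + p by omega] at ih'
    by_cases hle : K ⊓ gam G j ≤ gam G (j + 1)
    · calc Nat.card ↥(K ⊓ gam G j) ≤ Nat.card ↥(K ⊓ gam G (j + 1)) :=
            Subgroup.card_le_of_le (le_inf inf_le_left hle)
        _ ≤ _ := ih'
        _ ≤ _ := Nat.mul_le_mul_left _ (Subgroup.card_le_of_le (inf_le_inf_left _ (gam_anti (by omega))))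
    obtain ⟨z, hz, hz'⟩ := SetLike.not_le_iff_exists.1 hle
    have hzU : z ^ p ∈ U ⊓ gam G (j + (p - 1)) := ⟨hU z hz.1, pow_le hn hpn hcl hj hz.2⟩
    have hzp := pow_not_mem hn hpn hcl hj (by omega) hz.2 hz'
    have hlt' : U ⊓ gam G (j + p) < U ⊓ gam G (j + (p - 1)) :=
      SetLike.lt_iff_le_and_exists.2 ⟨inf_le_inf_left _ (gam_anti (by omega)), z ^ p, hzU,
        fun h1 => hzp h1.2⟩
    obtain ⟨a, ha⟩ := IsPGroup.iff_card.1 ((IsPGroup.of_card hn).to_subgroup (U ⊓ gam G (j + p)))
    obtain ⟨b, hb⟩ := IsPGroup.iff_card.1 ((IsPGroup.of_card hn).to_subgroup (U ⊓ gam G (j + (p - 1))))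
    have hab : Nat.card ↥(U ⊓ gam G (j + p)) < Nat.card ↥(U ⊓ gam G (j + (p - 1))) :=
      Set.ncard_lt_ncard (SetLike.coe_ssubset_coe.2 hlt') (Set.toFinite _)
    rw [ha, hb] at hab
    have hab' := (Nat.pow_lt_pow_iff_right hp.out.one_lt).1 hab
    have hidx : Nat.card ↥(K ⊓ gam G j) ≤ p * Nat.card ↥(K ⊓ gam G (j + 1)) := by
      have h1 : (gam G (j + 1)).relIndex (K ⊓ gam G j) ≤ p := by
        have h3 : (gam G (j + 1)).relIndex (gam G j) = p := by
          have h5 := Subgroup.relIndex_mul_relIndex (H := (⊥ : Subgroup G)) (K := gam G (j + 1))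
            (L := gam G j) bot_le (gam_anti (Nat.le_succ j))
          rw [Subgroup.relIndex_bot_left, Subgroup.relIndex_bot_left, card_gam' hn hpn hcl hj (by omega),
            card_gam' hn hpn hcl (by omega) (by omega), show n - j = n - (j + 1) + 1 by omega,
            pow_succ] at h5
          exact Nat.eq_of_mul_eq_mul_left (pow_pos hp.out.pos _) h5
        calc _ ≤ (gam G (j + 1)).relIndex (gam G j) :=
              Subgroup.relIndex_le_of_le_right inf_le_right (by rw [h3]; exact hp.out.ne_zero)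
          _ = p := h3
      have e : K ⊓ gam G (j + 1) = gam G (j + 1) ⊓ (K ⊓ gam G j) := by
        refine le_antisymm (le_inf inf_le_right (le_inf inf_le_left ?_)) (le_inf ?_ inf_le_left)
        · exact inf_le_right.trans (gam_anti (Nat.le_succ j))
        · exact inf_le_right.trans inf_le_left
      have h5 := Subgroup.relIndex_mul_relIndex (H := (⊥ : Subgroup G)) (K := K ⊓ gam G (j + 1))
        (L := K ⊓ gam G j) bot_le (inf_le_inf_left _ (gam_anti (Nat.le_succ j)))
      rw [Subgroup.relIndex_bot_left, Subgroup.relIndex_bot_left] at h5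
      rw [← h5, mul_comm p, e, Subgroup.inf_relIndex_right]
      exact Nat.mul_le_mul_left _ h1
    refine hidx.trans ((Nat.mul_le_mul_left p ih').trans ?_)
    rw [ha, hb, ← mul_assoc, mul_comm p, mul_assoc, ← pow_succ']
    exact Nat.mul_le_mul_left _ (Nat.pow_le_pow_right hp.out.pos hab')

theorem relIndex_powers_le (H : Subgroup G) :
    (Subgroup.closure {y : G | ∃ h ∈ H, y = h ^ p}).relIndex H ≤ p ^ p := by
  have h3 := three_le hn hpn hcl
  set U := Subgroup.closure {y : G | ∃ h ∈ H, y = h ^ p} with hU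
  haveI := (IsPGroup.of_card hn).isNilpotent
  by_cases hH : H = ⊤
  · subst hH
    rw [Subgroup.relIndex_top_right]
    haveI hN : U.Normal := by
      refine ⟨fun y hy g => ?_⟩
      have hle : U ≤ U.comap (MulAut.conj g).toMonoidHom := by
        rw [hU, Subgroup.closure_le]
        rintro _ ⟨k, -, rfl⟩
        exact Subgroup.subset_closure ⟨g * k * g⁻¹, Subgroup.mem_top _, by simp [conj_pow]⟩
      exact hle hy
    obtain ⟨r, hr⟩ := (IsPGroup.of_card hn).index U
    rw [hr]
    refine Nat.pow_le_pow_right hp.out.pos ?_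
    by_contra hrp
    have h2 := hp.out.two_le
    obtain ⟨g, hg⟩ := exists_pow_not_mem hn hpn hcl
    have hgU : g ^ p ∈ U := Subgroup.subset_closure ⟨g, Subgroup.mem_top g, rfl⟩
    rw [MaxClass.eq_lcs_of_index hn h3 hcl U (r := r) (by omega) hr] at hgU
    exact hg (gam_anti (i := p + 1) (j := r) (by omega) hgU)
  have hUH : U ≤ H := by
    rw [hU, Subgroup.closure_le]
    rintro _ ⟨k, hk, rfl⟩
    exact pow_mem hk p
  have hK := card_le_powers hn hpn hcl (K := H ⊓ gam G 2) inf_le_right (U := U) fun k hk =>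
    Subgroup.subset_closure ⟨k, hk.1, rfl⟩
  have hidx : (gam G 2).relIndex H ≤ p := by
    rw [← Subgroup.relIndex_sup_right]
    set M := H ⊔ gam G 2 with hM
    obtain ⟨a, ha⟩ := IsPGroup.iff_card.1 ((IsPGroup.of_card hn).to_subgroup M)
    have h5 := Subgroup.relIndex_mul_relIndex (H := (⊥ : Subgroup G)) (K := gam G 2) (L := M) bot_le
      le_sup_right
    rw [Subgroup.relIndex_bot_left, Subgroup.relIndex_bot_left, card_gam' hn hpn hcl le_rfl (by omega),
      ha] at h5
    have hle : p ^ a ≤ p ^ n := by rw [← ha, ← hn]; exact Subgroup.card_le_card_group _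
    have hne : a ≠ n := fun he => hH (RegularP.eq_top_of_sup_commutator (by
      rw [← gam_two_eq]; exact Subgroup.eq_top_of_card_eq M (by rw [ha, hn, he])))
    have han := (Nat.pow_le_pow_iff_right hp.out.one_lt).1 hle
    have h6 : p ^ (n - 2) * (gam G 2).relIndex M ≤ p ^ (n - 2) * p := by
      rw [h5, ← pow_succ]
      exact Nat.pow_le_pow_right hp.out.pos (by omega)
    exact Nat.le_of_mul_le_mul_left h6 (pow_pos hp.out.pos _)
  have h5 := Subgroup.relIndex_mul_relIndex (H := (⊥ : Subgroup G)) (K := U) (L := H) bot_le hUH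
  have h6 := Subgroup.relIndex_mul_relIndex (H := (⊥ : Subgroup G)) (K := gam G 2 ⊓ H) (L := H) bot_le
    inf_le_right
  rw [Subgroup.relIndex_bot_left, Subgroup.relIndex_bot_left] at h5 h6
  rw [Subgroup.inf_relIndex_right, inf_comm] at h6
  have h7 : Nat.card ↥U * U.relIndex H ≤ Nat.card ↥U * p ^ p := by
    rw [h5, ← h6]
    refine (Nat.mul_le_mul hK hidx).trans (le_of_eq ?_)
    rw [mul_comm (p ^ (p - 1)), mul_assoc, ← pow_succ, Nat.sub_add_cancel hp.out.one_le]
  exact Nat.le_of_mul_le_mul_left h7 Nat.card_pos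

end

/-- Let X be a finite p-group of order p^n, n ≥ 2, of nilpotency class n − 1 (maximal class), and H any subgroup of X. Then the index in H of the subgroup generated by the p-th powers of elements of H is at most p^p. -/
theorem result {X : Type*} [Group X] [Finite X] {p : ℕ} [Fact p.Prime] (n : ℕ) (hn : 2 ≤ n) (hX : Nat.card X = p ^ n)
    (hmax : Group.nilpotencyClass X = n - 1) (H : Subgroup X) :
    (Subgroup.closure {y : X | ∃ h ∈ H, y = h ^ p}).relIndex H ≤ p ^ p := by
  rcases Nat.lt_or_ge n (p + 1) with hlt | hge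
  · refine le_trans (Nat.le_of_dvd Nat.card_pos (Subgroup.relIndex_dvd_card _ _)) ?_
    calc Nat.card ↥H ≤ Nat.card X := Subgroup.card_le_card_group H
      _ ≤ p ^ p := hX ▸ Nat.pow_le_pow_right (Fact.out : p.Prime).pos (by omega)
  · exact relIndex_powers_le hX hge hmax H

end Cfsg.Agent.S4144
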