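import Cfsg.Statements.S2910
import Cfsg.Agent.Lib.LocalEven.OmegaOne
import Cfsg.Agent.Lib.LocalEven.SylowAux
import Cfsg.Agent.Lib.Transfer.Fusion

set_option autoImplicit false
open Cfsg

namespace Cfsg.Agent.S2910

/-- Let p be an odd prime dividing the order of the finite group G and P a Sylow p-subgroup of G. If Ω₁(P) (generated by the elements of order dividing p) is contained in the centre of G, then G has a normal p-complement. In particular, if G is quasisimple then Ω₁(P) is not central in G. -/
theorem result {G : Type*} [Group G] [Finite G] {p : ℕ} [Fact p.Prime] (hp : p ≠ 2) (hdiv : p ∣ Nat.card G) (P : Sylow p G) (hZ : Cfsg.omegaOne p (P : Subgroup G) ≤ Subgroup.center G) : Cfsg.HasNormalPComplement p G ∧ ¬ Cfsg.IsQuasisimple G := by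
  have hN : Cfsg.HasNormalPComplement p G := by
    refine Cfsg.Agent.Fusion.hasNormalPComplement_of_frobenius fun D hD g hg hgc => ?_
    refine LEOmega.mem_centralizer_of_omega hp hgc hD hg fun a ha hap => ?_
    obtain ⟨Q, hQ⟩ := hD.exists_le_sylow
    obtain ⟨n, hn⟩ := LESylow.exists_conj_eq Q P
    have h1 : n * a * n⁻¹ ∈ Subgroup.center G :=
      hZ (Subgroup.subset_closure ⟨hn ▸ ⟨a, hQ ha, rfl⟩, by rw [conj_pow, hap]; simp⟩)
    have h2 : a ∈ Subgroup.center G := by
      have := (inferInstance : (Subgroup.center G).Normal).conj_mem _ h1 n⁻¹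
      simpa [mul_assoc] using this
    exact Subgroup.mem_center_iff.1 h2 g
  refine ⟨hN, fun ⟨hperf, _⟩ => ?_⟩
  haveI := PBasic.pResidual_normal_inst p G
  have hq : IsPGroup p (G ⧸ Cfsg.pResidual p G) := PBasic.quotient_pResidual_isPGroup p G
  have htop : Cfsg.pResidual p G = ⊤ := by
    by_contra hne
    haveI : Nontrivial (G ⧸ Cfsg.pResidual p G) := QuotientGroup.nontrivial_iff.2 hne
    haveI := hq.isNilpotent
    refine (Group.IsSolvable.commutator_lt_top_of_nontrivial (G ⧸ Cfsg.pResidual p G)).ne ?_
    rw [eq_top_iff]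
    intro y _
    obtain ⟨g, rfl⟩ := QuotientGroup.mk'_surjective _ y
    have hg : g ∈ commutator G := by rw [hperf.commutator_eq_top]; trivial
    have := Subgroup.mem_map_of_mem (QuotientGroup.mk' (Cfsg.pResidual p G)) hg
    rw [commutator_def, Subgroup.map_commutator] at this
    exact Subgroup.commutator_mono le_top le_top this
  have := PBasic.hasNormalPComplement_iff_pResidual.1 hN
  rw [htop, Subgroup.card_top] at this
  exact (Fact.out : p.Prime).ne_one (Nat.eq_one_of_dvd_coprimes this hdiv (dvd_refl p))

end Cfsg.Agent.S2910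

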