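import Cfsg.Statements.S2970
import Cfsg.Agent.Lib.Isolated.Basic
import Cfsg.Agent.Lib.Transfer.Fusion

set_option autoImplicit false
open Cfsg

namespace Cfsg.Agent.S2970

/-- Let G be a finite group, p a prime and x ∈ G an element of p-power order which is isolated in G. Then the image of x in any quotient G ⧸ N is isolated in G ⧸ N; and if x ≠ 1 and the Sylow p-subgroups of G are cyclic, then G has a normal p-complement. -/
theorem result {G : Type*} [Group G] [Finite G] {p : ℕ} [Fact p.Prime] (x : G) (hx : ∃ k : ℕ, orderOf x = p ^ k) (hiso : Cfsg.IsIsolated x) : (∀ (N : Subgroup G) [N.Normal], Cfsg.IsIsolated (QuotientGroup.mk x : G ⧸ N)) ∧ (x ≠ 1 → (∀ P : Sylow p G, IsCyclic ↥(P : Subgroup G)) → Cfsg.HasNormalPComplement p G) := by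
  refine ⟨fun N _ => IsolatedP.mk_isIsolated hx hiso N, fun hx1 hcyc => ?_⟩
  obtain ⟨P, hP⟩ := (IsolatedP.isPGroup_zpowers hx).exists_le_sylow
  have hxP : x ∈ (P : Subgroup G) := hP (Subgroup.mem_zpowers x)
  haveI := hcyc P
  refine Fusion.hasNormalPComplement_of_normalizer_le_centralizer P fun n hn u hu => ?_
  obtain ⟨a, b, rfl, ha, hb, hza, hzb⟩ := LEBasic.exists_p_part (p := p) n
  have hN : ∀ c ∈ Subgroup.zpowers (a * b), c ∈ Subgroup.normalizer ((P : Subgroup G) : Set G) :=
    fun c hc => (Subgroup.zpowers_le.2 hn) hc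
  have haP : a ∈ (P : Subgroup G) :=
    ((IsPGroup.inf_normalizer_sylow (IsolatedP.isPGroup_zpowers ha) P).le
      ⟨Subgroup.mem_zpowers a, hN a hza⟩).2
  have hbc : b * x = x * b := Subgroup.mem_centralizer_singleton_iff.1
    (IsolatedP.normalizer_le hiso P.isPGroup' hxP (hN b hzb))
  have h1 : b * u = u * b :=
    IsolatedP.commute_of_cyclic P.isPGroup' (hN b hzb) hb hxP hx1 hbc u hu
  have h2 : a * u = u * a := by
    letI := IsCyclic.commGroup (α := ↥(P : Subgroup G))
    exact congrArg Subtype.val (mul_comm (⟨a, haP⟩ : ↥(P : Subgroup G)) ⟨u, hu⟩)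
  rw [mul_assoc a b u, h1, ← mul_assoc a u b, h2, mul_assoc]

end Cfsg.Agent.S2970
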