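import Cfsg.Statements.S2971
import Cfsg.Agent.S2970
import Cfsg.Agent.Lib.Isolated.Basic
import Cfsg.Agent.Lib.Isolated.RankOne
import Cfsg.Agent.Lib.Transfer.Basic

set_option autoImplicit false
open Cfsg

namespace Cfsg.Agent.S2971

/-- Let G be a finite group and p an odd prime such that G has p-rank at most 1 (no elementary abelian subgroup of order p²). If x ∈ G is an isolated element of order p, then x is central modulo the largest normal subgroup of G of order prime to p. -/
theorem result {G : Type*} [Group G] [Finite G] {p : ℕ} [Fact p.Prime] (hp : p ≠ 2) (hrk : Cfsg.PRankLE p 1 G) (x : G) (hx : orderOf x = p) (hiso : Cfsg.IsIsolated x) : Cfsg.InZStar p x := by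
  have hpp : p.Prime := Fact.out
  have hxe : ∃ k : ℕ, orderOf x = p ^ k := ⟨1, by rw [hx, pow_one]⟩
  have hx1 : x ≠ 1 := by rintro rfl; rw [orderOf_one] at hx; exact hpp.ne_one hx.symm
  have hcyc : ∀ P : Sylow p G, x ∈ (P : Subgroup G) → IsCyclic ↥(P : Subgroup G) := by
    intro P hxP
    refine IsolatedP.isCyclic_of_odd_unique P.isPGroup' hp ⟨x, hxP⟩
      (Subtype.ext (by show x ^ p = 1; rw [← hx]; exact pow_orderOf_eq_one x)) fun y hy => ?_
    have hyp : (y : G) ^ p = 1 := congrArg Subtype.val hy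
    have hxy : Commute (y : G) x := IsolatedP.commute_of_mem hiso P.isPGroup' hxP y.2
    by_contra hne
    have hne' : (y : G) ∉ Subgroup.zpowers x := by
      rintro ⟨i, hi⟩
      exact hne ⟨i, Subtype.ext hi⟩
    set A := Subgroup.closure ({x, (y : G)} : Set G) with hA
    haveI hAc : IsMulCommutative A := Subgroup.isMulCommutative_closure (by
      rintro a (rfl | rfl) b (rfl | rfl) <;> first | rfl | exact hxy | exact hxy.symm)
    have hAp : ∀ a ∈ A, a ^ p = 1 := by
      intro a ha
      induction ha using Subgroup.closure_induction with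
      | mem b hb =>
        rcases hb with rfl | rfl
        · rw [← hx]; exact pow_orderOf_eq_one _
        · exact hyp
      | one => exact one_pow p
      | mul b c hb hc ihb ihc =>
        have hbc : Commute b c := congrArg Subtype.val (hAc.is_comm.comm (⟨b, hb⟩ : ↥A) ⟨c, hc⟩)
        rw [hbc.mul_pow, ihb, ihc, one_mul]
      | inv b _ ihb => rw [inv_pow, ihb, inv_one]
    have hle : Subgroup.zpowers x ≤ A := Subgroup.zpowers_le.2 (Subgroup.subset_closure (Or.inl rfl))
    have hcard := hrk A hAc hAp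
    rw [pow_one] at hcard
    have heq : Subgroup.zpowers x = A :=
      Subgroup.eq_of_le_of_card_ge hle (by rwa [Nat.card_zpowers, hx])
    exact hne' (heq ▸ Subgroup.subset_closure (Or.inr rfl))
  obtain ⟨P, hP⟩ := (IsolatedP.isPGroup_zpowers hxe).exists_le_sylow
  have hxP : x ∈ (P : Subgroup G) := hP (Subgroup.mem_zpowers x)
  haveI := hcyc P hxP
  have hall : ∀ Q : Sylow p G, IsCyclic ↥(Q : Subgroup G) := fun Q => (Sylow.equiv P Q).isCyclic.1 inferInstance
  have hnpc := (S2970.result x hxe hiso).2 hx1 hall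
  intro g
  haveI := Cfsg.pPrimeCore_normal p G
  have htop := PBasic.sylow_sup_eq_top P (PBasic.quotient_pPrimeCore_isPGroup hnpc)
  have hg : g ∈ (P : Subgroup G) ⊔ Cfsg.pPrimeCore p G := htop.symm ▸ Subgroup.mem_top g
  rw [← SetLike.mem_coe, Subgroup.mul_normal] at hg
  obtain ⟨u, hu, v, hv, rfl⟩ := hg
  have hux : u * x * u⁻¹ = x := by
    rw [IsolatedP.commute_of_mem hiso P.isPGroup' hxP hu, mul_inv_cancel_right]
  have e : u * v * x * (u * v)⁻¹ * x⁻¹ = u * (v * (x * v⁻¹ * x⁻¹)) * u⁻¹ * ((u * x * u⁻¹) * x⁻¹) := by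
    group
  rw [e, hux, mul_inv_cancel, mul_one]
  exact (Cfsg.pPrimeCore_normal p G).conj_mem _
    (mul_mem hv ((Cfsg.pPrimeCore_normal p G).conj_mem _ (inv_mem hv) x)) u

end Cfsg.Agent.S2971
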