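import Cfsg.Statements.S2602
import Cfsg.Agent.Lib.AutPSL.Outer

set_option autoImplicit false
open Cfsg

namespace Cfsg.Agent.S2602

/-- Structure of the outer automorphism group of PSL_2(q), q = p^f ≥ 4: it has a normal cyclic subgroup of order gcd(2, q − 1) (diagonal automorphisms) with cyclic quotient of order f (field automorphisms); there is no graph automorphism in dimension 2. -/
theorem result {F : Type*} [Field F] [Fintype F] {p f : ℕ} [Fact p.Prime] (hf : 1 ≤ f) (hF : Fintype.card F = p ^ f) (h4 : 4 ≤ p ^ f) : ∃ φ : Cfsg.Out (Matrix.ProjectiveSpecialLinearGroup (Fin 2) F) →* Multiplicative (ZMod f), Function.Surjective φ ∧ IsCyclic φ.ker ∧ Nat.card φ.ker = Nat.gcd 2 (p ^ f - 1) := by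
  classical
  obtain ⟨φ, h1, -, h3, ⟨e⟩⟩ := AutPSL.exists_outer_hom (F := F) (n := 2) le_rfl
  obtain ⟨E⟩ := AutPSL.exists_ringAut_equiv (F := F) p f hF
  refine ⟨E.toMonoidHom.comp ((MonoidHom.fst _ _).comp φ), fun x => ?_, ?_, ?_⟩
  · obtain ⟨a, ha⟩ := h1 (E.symm x)
    exact ⟨a, by show E (φ a).1 = x; rw [ha]; exact E.apply_symm_apply x⟩
  all_goals
    have hker : (E.toMonoidHom.comp ((MonoidHom.fst _ _).comp φ)).ker = φ.ker := by
      refine (MonoidHom.ker_mulEquiv_comp _ E).trans ?_
      ext x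
      simp only [MonoidHom.mem_ker, MonoidHom.comp_apply, MonoidHom.coe_fst]
      exact ⟨fun h => Prod.ext h (h3 rfl x), fun h => by rw [h]; rfl⟩
    rw [hker]
  · exact isCyclic_of_surjective _ e.symm.surjective
  · rw [Nat.card_congr e.toEquiv, AutPSL.card_quotient_powMonoidHom hF]

end Cfsg.Agent.S2602
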