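import Cfsg.Statements.S3794
import Cfsg.Agent.Lib.FiniteGroup.OpFpf.Four

set_option autoImplicit false
open Cfsg

namespace Cfsg.Agent.S3794

/-- Let G be a finite solvable group with an automorphism σ satisfying σ⁴ = 1 and fixing only the identity. Then the derived subgroup G' is nilpotent. -/
theorem result {G : Type*} [Group G] [Finite G] (hG : Group.IsSolvable G) (σ : MulAut G) (hσ : σ ^ 4 = 1) (hfpf : ∀ g : G, σ g = g → g = 1) : Group.IsNilpotent (commutator G) := by
  have := hG
  let A := Subgroup.zpowers σ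
  let s : A := ⟨σ, Subgroup.mem_zpowers σ⟩
  have hgen : ∀ a : A, a ∈ Subgroup.zpowers s := by
    rintro ⟨a, ha⟩
    obtain ⟨k, rfl⟩ := Subgroup.mem_zpowers_iff.1 ha
    exact Subgroup.mem_zpowers_iff.2 ⟨k, Subtype.ext (Subgroup.coe_zpow _ _ k)⟩
  obtain ⟨k, hk, h⟩ := OpFpf.nilLcs_four s hgen (Subtype.ext hσ) A.subtype
    (fun g hg => hfpf g (hg s))
  rw [Set.mem_singleton_iff] at hk
  subst hk
  rwa [Subgroup.top_lowerCentralSeries_one] at h

end Cfsg.Agent.S3794
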