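import Cfsg.Statements.S0031
import Cfsg.Agent.Lib.Solvable.Basic

set_option autoImplicit false
open Cfsg
open scoped Pointwise

namespace Cfsg.Agent.S0031

/-- A fixed-point-free automorphism of a finite group maps some Sylow p-subgroup to itself. -/
theorem result {G : Type*} [Group G] [Finite G] (φ : G ≃* G)
    (hφ : MonoidHom.FixedPointFree (φ : G →* G)) (p : ℕ) [Fact p.Prime] :
    ∃ P : Sylow p G, (P : Subgroup G).map (φ : G →* G) = P := by
  obtain ⟨P⟩ := (inferInstance : Nonempty (Sylow p G))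
  let f : G →* G := (φ : G →* G)
  obtain ⟨g, hg⟩ := MulAction.exists_smul_eq G P (P.mapSurjective (f := f) φ.surjective)
  obtain ⟨k, hk⟩ := MonoidHom.FixedPointFree.commutatorMap_surjective hφ g⁻¹
  refine ⟨k⁻¹ • P, ?_⟩
  have hg' : MulAut.conj g • (P : Subgroup G) = (P : Subgroup G).map f := by
    rw [← Sylow.coe_subgroup_smul, hg]
    rfl
  rw [Sylow.coe_subgroup_smul, Cfsg.Agent.SolvBasic.map_conjSmul]
  change MulAut.conj (f k⁻¹) • (P : Subgroup G).map f = _
  rw [← hg', Cfsg.Agent.SolvBasic.conjSmul_conjSmul]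
  have h1 : f k⁻¹ * g = k⁻¹ := by
    simp only [MonoidHom.commutatorMap] at hk
    have h2 : g = (k / f k)⁻¹ := by
      rw [← inv_inv g, ← hk]
    rw [h2, map_inv]
    simp [div_eq_mul_inv]
  rw [h1]

end Cfsg.Agent.S0031
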