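import Cfsg.Statements.S3035
import Cfsg.Agent.Lib.Involutions.CentralizerD8
import Cfsg.Agent.Lib.Recog.Simple168
import Cfsg.Agent.Lib.Small.Embedding
import Cfsg.Agent.Lib.Classical.SL
import Cfsg.Agent.Lib.Solvable.Fitting
import Cfsg.Agent.S0497
import Cfsg.Agent.Lib.Blocks.Center
import Cfsg.Agent.S3277
import Mathlib.GroupTheory.SpecificGroups.Alternating.Simple

set_option autoImplicit false
open Cfsg Cfsg.Agent.FittingCores

namespace Cfsg.Agent.S3035

theorem d8_no_root_outside : ∃ r : DihedralGroup 4, r * r = DihedralGroup.r 2 := ⟨DihedralGroup.r 1, by decide⟩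

/-- `SL(3,2)` is simple of order `168`. -/
theorem sl32 : IsSimpleGroup (Matrix.SpecialLinearGroup (Fin 3) (ZMod 2)) ∧
    Nat.card (Matrix.SpecialLinearGroup (Fin 3) (ZMod 2)) = 168 := by
  haveI : Fact (Nat.Prime 2) := ⟨Nat.prime_two⟩
  have h2 : Nat.card (ZMod 2) = 2 := by rw [Nat.card_eq_fintype_card, ZMod.card]
  refine ⟨?_, ?_⟩
  · haveI := ClassicalSL.isSimpleGroup_psl (ι := Fin 3) (F := ZMod 2) (by simp)
    have hc := ClassicalSL.card_center_sl (ι := Fin 3) (F := ZMod 2)
    rw [h2] at hc
    have hinj : Function.Injective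
        (QuotientGroup.mk' (Subgroup.center (Matrix.SpecialLinearGroup (Fin 3) (ZMod 2)))) := by
      rw [← MonoidHom.ker_eq_bot_iff, QuotientGroup.ker_mk']
      exact Subgroup.card_eq_one.1 (by rw [hc]; simp)
    exact (MulEquiv.ofBijective _ ⟨hinj, QuotientGroup.mk'_surjective _⟩ :
      Matrix.SpecialLinearGroup (Fin 3) (ZMod 2) ≃* Matrix.ProjectiveSpecialLinearGroup (Fin 3) (ZMod 2)).isSimpleGroup
  · have h := ClassicalSL.card_sl_mul (ι := Fin 3) (F := ZMod 2)
    rw [h2, ClassicalSL.card_gl_fin h2 3] at h
    simpa [Fin.prod_univ_three] using h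

variable {G : Type*} [Group G] [Finite G]

/-- A nontrivial central element of order two forces the whole group to be dihedral. -/
theorem card_of_central {z k : G} (hz : orderOf z = 2) (hk : orderOf k = 2)
    (e : ↥(Subgroup.centralizer ({z} : Set G)) ≃* DihedralGroup 4) (hc : k ∈ Subgroup.center G) :
    Nat.card G = 8 := by
  have hcz := Subgroup.mem_center_iff.1 hc
  have hkC : k ∈ Subgroup.centralizer ({z} : Set G) :=
    Subgroup.mem_centralizer_singleton_iff.2 (hcz z).symm
  have h1 := CentD8.d8_central (e ⟨k, hkC⟩)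
    (by rw [← map_mul, EmbeddingLike.map_eq_one_iff]; exact Subtype.ext (Invol.mul_self hk))
    (by rw [Ne, EmbeddingLike.map_eq_one_iff]
        exact fun h => Invol.ne_one hk (congrArg Subtype.val h))
    (fun x => by
      obtain ⟨y, rfl⟩ := e.surjective x
      rw [← map_mul, ← map_mul]
      exact congrArg e (Subtype.ext (hcz (y : G)).symm))
  rw [← CentD8.map_self hz e] at h1
  have hkz : k = z := congrArg Subtype.val (e.injective h1)
  have htop : Subgroup.centralizer ({z} : Set G) = ⊤ := (Subgroup.eq_top_iff' _).2 fun g =>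
    Subgroup.mem_centralizer_singleton_iff.2 (hkz ▸ hcz g)
  rw [← Subgroup.card_top (G := G), ← htop, Nat.card_congr e.toEquiv, DihedralGroup.nat_card]

/-- A normal subgroup of order at most two is trivial unless the group has order eight. -/
theorem normal_eq_bot {z : G} (hz : orderOf z = 2)
    (e : ↥(Subgroup.centralizer ({z} : Set G)) ≃* DihedralGroup 4) (hG : Nat.card G ≠ 8)
    (N : Subgroup G) (hN : N.Normal) (h2 : Nat.card N ≤ 2) : N = ⊥ := by
  rw [Subgroup.eq_bot_iff_forall]
  intro k hk
  by_contra h1
  have hd : orderOf k ∣ Nat.card N := Subgroup.orderOf_dvd_natCard _ hk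
  have hpos : 0 < Nat.card N := Nat.card_pos
  have ho1 : orderOf k ≠ 1 := fun h => h1 (orderOf_eq_one_iff.1 h)
  have hle := Nat.le_of_dvd hpos hd
  have hpos' := orderOf_pos k
  have ho : orderOf k = 2 := by omega
  refine hG (card_of_central hz ho e (Subgroup.mem_center_iff.2 fun g => ?_))
  have hconj := hN.conj_mem _ hk g
  by_contra hne
  have h3 : g * k * g⁻¹ ≠ k := fun h => hne (mul_inv_eq_iff_eq_mul.1 h)
  have h4 : g * k * g⁻¹ ≠ 1 := fun h => h1 (conj_eq_one_iff.1 h)
  haveI := Fintype.ofFinite N
  classical
  have : ({⟨1, one_mem N⟩, ⟨k, hk⟩, ⟨g * k * g⁻¹, hconj⟩} : Finset N).card = 3 := by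
    rw [Finset.card_insert_of_notMem, Finset.card_insert_of_notMem, Finset.card_singleton]
    · simpa [Subtype.ext_iff] using Ne.symm h3
    · simpa [Subtype.ext_iff] using ⟨Ne.symm h1, Ne.symm h4⟩
  have h5 := Finset.card_le_univ ({⟨1, one_mem N⟩, ⟨k, hk⟩, ⟨g * k * g⁻¹, hconj⟩} : Finset N)
  rw [this, Fintype.card_eq_nat_card] at h5
  omega

/-- Let G be a finite group with an involution z whose centralizer is dihedral of order 8. Then G = C_G(z) O(G) with O(G) the largest normal subgroup of odd order, or G is isomorphic to the symmetric group of degree 4, the symmetric group of degree 5, the group SL₃(2), or the alternating group of degree 6. -/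
theorem result {G : Type*} [Group G] [Finite G] (z : G) (hz : orderOf z = 2)
    (hC : Nonempty (↥(Subgroup.centralizer ({z} : Set G)) ≃* DihedralGroup 4)) :
    Subgroup.centralizer ({z} : Set G) ⊔ Cfsg.oddCore G = ⊤ ∨ Nonempty (G ≃* Equiv.Perm (Fin 4)) ∨ Nonempty (G ≃* Equiv.Perm (Fin 5)) ∨
      Nonempty (G ≃* Matrix.SpecialLinearGroup (Fin 3) (ZMod 2)) ∨ Nonempty (G ≃* ↥(alternatingGroup (Fin 6))) := by
  classical
  haveI : Fact (Nat.Prime 2) := ⟨Nat.prime_two⟩
  haveI : Fact (Nat.Prime 3) := ⟨Nat.prime_three⟩
  obtain ⟨e⟩ := hC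
  haveI := Fintype.ofFinite G
  by_cases hidx : ∀ H : Subgroup G, H.index ≠ 2
  · have hS := CentD8.Setup.of_centralizer z hz e hidx
    haveI := CentD8.isSimple hS
    rcases CentD8.card_eq hS with h | h
    · haveI := sl32.1
      exact Or.inr (Or.inr (Or.inr (Or.inl (Simple168.nonempty_equiv h sl32.2))))
    · exact Or.inr (Or.inr (Or.inr (Or.inr (S0497.result h))))
  push_neg at hidx
  obtain ⟨H, hH⟩ := hidx
  haveI hHn : H.Normal := Subgroup.normal_of_index_eq_two hH
  set C := Subgroup.centralizer ({z} : Set G) with hCdef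
  have hC8 : Nat.card C = 8 := by rw [Nat.card_congr e.toEquiv, DihedralGroup.nat_card]
  obtain ⟨S, hCS⟩ := (IsPGroup.of_card (n := 3) (by rw [hC8]; norm_num) : IsPGroup 2 C).exists_le_sylow
  have hSC : (S : Subgroup G) = C := by
    by_contra hne
    haveI : Nontrivial (S : Subgroup G) := by
      rw [Subgroup.nontrivial_iff_ne_bot]
      intro h
      rw [h, le_bot_iff] at hCS
      rw [hCS, Subgroup.card_bot] at hC8; omega
    haveI := S.2.center_nontrivial
    obtain ⟨k', hk'⟩ := IsPGroup.iff_card.1 (S.2.to_subgroup (Subgroup.center (S : Subgroup G)))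
    obtain ⟨w', hw'⟩ := exists_prime_orderOf_dvd_card' (p := 2)
      (show 2 ∣ Nat.card (Subgroup.center (S : Subgroup G)) by
        have h1 : 1 < Nat.card (Subgroup.center (S : Subgroup G)) := Finite.one_lt_card
        rw [hk'] at h1 ⊢
        exact dvd_pow_self 2 (by rintro rfl; simp at h1))
    set w : G := ((w' : (S : Subgroup G)) : G) with hwdef
    have hwo : orderOf w = 2 := by rw [hwdef, Subgroup.orderOf_coe, Subgroup.orderOf_coe, hw']
    have hwc : ∀ y ∈ (S : Subgroup G), y * w = w * y := fun y hy =>
      congrArg Subtype.val (Subgroup.mem_center_iff.1 w'.2 ⟨y, hy⟩)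
    have hzS : z ∈ (S : Subgroup G) := hCS (Subgroup.mem_centralizer_singleton_iff.2 rfl)
    have hwC : w ∈ C := Subgroup.mem_centralizer_singleton_iff.2 (hwc z hzS).symm
    have h1 := CentD8.d8_central (e ⟨w, hwC⟩)
      (by rw [← map_mul, EmbeddingLike.map_eq_one_iff]; exact Subtype.ext (Invol.mul_self hwo))
      (by rw [Ne, EmbeddingLike.map_eq_one_iff]
          exact fun h => Invol.ne_one hwo (congrArg Subtype.val h))
      (fun x => by
        obtain ⟨y, rfl⟩ := e.surjective x
        rw [← map_mul, ← map_mul]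
        exact congrArg e (Subtype.ext (hwc _ (hCS y.2)).symm))
    rw [← CentD8.map_self hz e] at h1
    have hwz : w = z := congrArg Subtype.val (e.injective h1)
    exact hne (le_antisymm (fun s hs => Subgroup.mem_centralizer_singleton_iff.2 (hwz ▸ hwc s hs)) hCS)
  have hS8 : Nat.card (S : Subgroup G) = 8 := by rw [hSC]; exact hC8
  have hGH := H.card_mul_index
  rw [hH] at hGH
  have hSH : ¬ (S : Subgroup G) ≤ H := by
    intro h
    have h1 : 8 ∣ Nat.card H := hS8 ▸ Subgroup.card_dvd_of_le h
    obtain ⟨m, hm⟩ := h1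
    have h2 : ¬ 2 ∣ (S : Subgroup G).index := S.not_dvd_index
    have h3 := (S : Subgroup G).card_mul_index
    rw [hS8, ← hGH, hm] at h3
    exact h2 ⟨m, by omega⟩
  set V := H.subgroupOf (S : Subgroup G) with hVdef
  have hVidx : V.index = 2 := by
    have h1 : V.index ∣ H.index := Subgroup.relIndex_dvd_index_of_normal H _
    rw [hH] at h1
    rcases (Nat.dvd_prime Nat.prime_two).1 h1 with h | h
    · exact absurd (Subgroup.subgroupOf_eq_top.1 (Subgroup.index_eq_one.1 h)) hSH
    · exact h
  have hV4 : Nat.card V = 4 := by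
    have h := V.card_mul_index
    rw [hVidx, hS8] at h; omega
  set W := (S : Subgroup G).subgroupOf H with hWdef
  have hW4 : Nat.card W = 4 := by
    have e1 : Nat.card W = Nat.card ↥((S : Subgroup G) ⊓ H) := by
      rw [hWdef, ← Subgroup.inf_subgroupOf_right,
        Nat.card_congr (Subgroup.subgroupOfEquivOfLe inf_le_right).toEquiv]
    have e2 : Nat.card V = Nat.card ↥((S : Subgroup G) ⊓ H) := by
      rw [hVdef, ← Subgroup.inf_subgroupOf_left,
        Nat.card_congr (Subgroup.subgroupOfEquivOfLe inf_le_left).toEquiv]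
    omega
  have hf2 : (Nat.card H).factorization 2 = 2 := by
    have h3 := (S : Subgroup G).card_mul_index
    rw [hS8, ← hGH] at h3
    have hH4 : Nat.card H = 2 ^ 2 * (S : Subgroup G).index := by omega
    rw [hH4, Nat.factorization_mul (by norm_num) (Subgroup.index_ne_zero_of_finite), Finsupp.add_apply,
      Nat.Prime.factorization_pow Nat.prime_two, Finsupp.single_eq_same,
      Nat.factorization_eq_zero_of_not_dvd S.not_dvd_index]
  let P : Sylow 2 H := Sylow.ofCard W (by rw [hW4, hf2]; norm_num)
  have hPW : (P : Subgroup H) = W := Sylow.coe_ofCard _ _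
  have hzH : z ∈ H := by
    obtain ⟨r, hr⟩ := d8_no_root_outside
    rw [← CentD8.map_self hz e] at hr
    have h : z = (e.symm r : G) ^ 2 := by
      have h' := congrArg e.symm hr
      rw [map_mul, e.symm_apply_apply] at h'
      rw [pow_two]; exact (congrArg Subtype.val h').symm
    rw [h]; exact Subgroup.sq_mem_of_index_two hH _
  -- a normal complement finishes
  by_cases hnc : HasNormalPComplement 2 H
  · refine Or.inl ?_
    obtain ⟨R, K, hK, hKR⟩ := hnc
    have hKc : (Nat.card K).Coprime 2 := by
      rw [Nat.coprime_comm, Nat.prime_two.coprime_iff_not_dvd, ← hKR.index_eq_card]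
      exact R.not_dvd_index
    have hmap : K.map H.subtype ≤ Cfsg.oddCore G :=
      (Subgroup.map_mono (le_pPrimeCore hK hKc)).trans (pPrimeCore_map_subtype_le 2 hHn)
    have hKG : Nat.card G = 8 * Nat.card K := by
      have h1 := hKR.card_mul
      rw [R.card_eq_multiplicity, hf2] at h1
      omega
    rw [← Subgroup.card_eq_iff_eq_top]
    refine le_antisymm (Subgroup.card_le_card_group _) ?_
    have d1 : 8 ∣ Nat.card ↥(C ⊔ Cfsg.oddCore G) := hC8 ▸ Subgroup.card_dvd_of_le le_sup_left
    have d2 : Nat.card K ∣ Nat.card ↥(C ⊔ Cfsg.oddCore G) := by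
      have := Subgroup.card_dvd_of_le (hmap.trans (le_sup_right : _ ≤ C ⊔ Cfsg.oddCore G))
      rwa [Subgroup.card_map_of_injective H.subtype_injective] at this
    rw [hKG]
    refine Nat.le_of_dvd Nat.card_pos (Nat.Coprime.mul_dvd_of_dvd_of_dvd ?_ d1 d2)
    exact (hKc.symm.pow_left 3 : Nat.Coprime (2 ^ 3) _)
  have hG8 : Nat.card G ≠ 8 := by
    intro h8
    refine hnc ⟨P, ⊥, inferInstance, ?_⟩
    have htop : (P : Subgroup H) = ⊤ := by
      rw [hPW, ← Subgroup.card_eq_iff_eq_top, hW4]; omega
    rw [htop]
    exact Subgroup.isComplement'_bot_left.2 rfl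
  -- order twenty four
  by_cases h24 : Nat.card G = 24
  · obtain ⟨Q⟩ : Nonempty (Sylow 3 G) := inferInstance
    have hQ : Nat.card (Q : Subgroup G) = 3 := by
      rw [Q.card_eq_multiplicity, h24, show (24 : ℕ) = 3 ^ 1 * 8 by norm_num,
        Nat.factorization_mul (by norm_num) (by norm_num), Finsupp.add_apply,
        Nat.Prime.factorization_pow Nat.prime_three, Finsupp.single_eq_same,
        Nat.factorization_eq_zero_of_not_dvd (by norm_num)]
      norm_num
    have hn : Nat.card (Sylow 3 G) = 1 ∨ Nat.card (Sylow 3 G) = 4 := by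
      have h1 := Q.card_dvd_index
      have h2 := (Q : Subgroup G).card_mul_index
      rw [hQ, h24] at h2
      rw [show (Q : Subgroup G).index = 8 by omega] at h1
      have h3 : Nat.card (Sylow 3 G) % 3 = 1 := card_sylow_modEq_one 3 G
      have h4 := Nat.le_of_dvd (by norm_num) h1
      interval_cases h : Nat.card (Sylow 3 G) <;> omega
    rcases hn with hn | hn
    · refine Or.inl ?_
      haveI := (Nat.card_eq_one_iff_unique.1 hn).1
      have hle : (Q : Subgroup G) ≤ Cfsg.oddCore G :=
        le_pPrimeCore Q.normal_of_subsingleton (by rw [hQ]; norm_num)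
      rw [← Subgroup.card_eq_iff_eq_top]
      refine le_antisymm (Subgroup.card_le_card_group _) ?_
      rw [h24]
      exact Nat.le_of_dvd Nat.card_pos ((Nat.Coprime.mul_dvd_of_dvd_of_dvd (by norm_num)
        (hC8 ▸ Subgroup.card_dvd_of_le le_sup_left)
        (hQ ▸ Subgroup.card_dvd_of_le (hle.trans le_sup_right))) : 8 * 3 ∣ _)
    · let f : G →* Equiv.Perm (Fin 4) :=
        (Finite.equivFinOfCardEq hn).permCongrHom.toMonoidHom.comp (MulAction.toPermHom G (Sylow 3 G))
      have hker : ∀ g ∈ f.ker, ∀ R : Sylow 3 G, g • R = R := fun g hg R => by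
        have h := Equiv.ext_iff.1 (MonoidHom.mem_ker.1 hg) (Finite.equivFinOfCardEq hn R)
        simpa [f] using h
      have h3 : ¬ 3 ∣ Nat.card f.ker := by
        intro h3
        obtain ⟨x', hx'⟩ := exists_prime_orderOf_dvd_card' (p := 3) h3
        have hxo : orderOf (x' : G) = 3 := by rw [Subgroup.orderOf_coe, hx']
        have hall : ∀ R : Sylow 3 G, (R : Subgroup G) = Subgroup.zpowers (x' : G) := by
          intro R
          have hp : IsPGroup 3 (Subgroup.zpowers (x' : G)) :=
            IsPGroup.of_card (n := 1) (by rw [Nat.card_zpowers, hxo, pow_one])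
          have h2 := hp.inf_normalizer_sylow R
          have h4 : Subgroup.zpowers (x' : G) ≤ Subgroup.normalizer (R : Set G) :=
            Subgroup.zpowers_le.2 (Sylow.smul_eq_iff_mem_normalizer.1 (hker _ x'.2 R))
          rw [inf_eq_left.2 h4] at h2
          refine (Subgroup.eq_of_le_of_card_ge (h2 ▸ inf_le_right) ?_).symm
          rw [Nat.card_zpowers, hxo, R.card_eq_multiplicity, ← Q.card_eq_multiplicity, hQ]
        haveI : Subsingleton (Sylow 3 G) := ⟨fun A B => Sylow.ext ((hall A).trans (hall B).symm)⟩
        have := Nat.card_of_subsingleton Q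
        omega
      have hk : f.ker = ⊥ := by
        refine normal_eq_bot hz e hG8 _ inferInstance ?_
        have hle : f.ker ≤ MulAction.stabilizer G Q := fun g hg => hker g hg Q
        have h6 : Nat.card (MulAction.stabilizer G Q) = 6 := by
          have h := Nat.card_congr (MulAction.orbitProdStabilizerEquivGroup G Q)
          rw [Nat.card_prod, MulAction.orbit_eq_univ, Nat.card_univ, hn, h24] at h
          omega
        have hd : Nat.card f.ker ∣ 6 := h6 ▸ Subgroup.card_dvd_of_le hle
        have hle6 := Nat.le_of_dvd (by norm_num) hd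
        interval_cases h : Nat.card f.ker <;> omega
      have hb : Function.Bijective f := (Nat.bijective_iff_injective_and_card f).2
        ⟨(MonoidHom.ker_eq_bot_iff f).1 hk, by rw [h24, Nat.card_perm, Nat.card_fin]; rfl⟩
      exact Or.inr (Or.inl ⟨MulEquiv.ofBijective f hb⟩)
  -- otherwise the subgroup of index two is alternating of degree five
  have hWcomm : IsMulCommutative W :=
    IsPGroup.isMulCommutative_of_card_eq_prime_sq (p := 2) (by rw [hW4]; norm_num)
  have hburn : Subgroup.normalizer (W : Set H) ≤ W → False := by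
    intro h
    have hP : Subgroup.normalizer ((P : Subgroup H) : Set H) ≤
        Subgroup.centralizer ((P : Subgroup H) : Set H) := by
      rw [hPW]
      intro n hn y hy
      exact congrArg Subtype.val (hWcomm.is_comm.comm ⟨y, hy⟩ ⟨n, h hn⟩)
    exact hnc ⟨P, _, inferInstance, MonoidHom.ker_transferSylow_isComplement' P hP⟩
  have hWsq : ∀ w ∈ W, w * w = 1 := by
    by_contra hex
    push_neg at hex
    obtain ⟨w, hw, hw2⟩ := hex
    have hd : orderOf w ∣ 2 ^ 2 := by
      rw [show (2 : ℕ) ^ 2 = 4 by norm_num, ← hW4]; exact Subgroup.orderOf_dvd_natCard _ hw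
    have ho : orderOf w = 4 := by
      have := orderOf_eq_prime_pow (p := 2) (n := 1) (x := w) (by simpa [pow_two] using hw2)
        (orderOf_dvd_iff_pow_eq_one.1 hd)
      simpa using this
    haveI : IsCyclic (P : Subgroup H) := by
      rw [hPW]
      exact isCyclic_of_orderOf_eq_card ⟨w, hw⟩ (by rw [← Subgroup.orderOf_coe, hW4]; exact ho)
    have hmin : (Nat.card H).minFac = 2 := by
      rw [Nat.minFac_eq_two_iff]
      exact (show 2 ∣ 4 by norm_num).trans (hW4 ▸ Subgroup.card_subgroup_dvd_card W)
    exact hnc ⟨P, _, inferInstance, IsCyclic.isComplement' (P := P) hmin inferInstance⟩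
  set zH : H := ⟨z, hzH⟩ with hzHdef
  have hzo : orderOf zH = 2 := by rw [← Subgroup.orderOf_coe]; exact hz
  have hcW : Subgroup.centralizer ({zH} : Set H) = W := by
    ext x
    rw [hWdef, Subgroup.mem_subgroupOf, hSC, hCdef, Subgroup.mem_centralizer_singleton_iff,
      Subgroup.mem_centralizer_singleton_iff, Subtype.ext_iff]
    rfl
  have hH60 : Nonempty (↥H ≃* ↥(alternatingGroup (Fin 5))) := by
    refine S3277.result zH hzo (by rw [hcW, hW4]) (fun c hc => by rw [pow_two]; exact hWsq c (hcW ▸ hc))
      hnc fun E hE hEa => ⟨fun h2 => ?_, fun h4 => ?_⟩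
    · -- a central involution of `H`
      obtain ⟨k', hk'⟩ := exists_prime_orderOf_dvd_card' (G := E) 2 (by rw [h2])
      have hko : orderOf (k' : H) = 2 := by rw [Subgroup.orderOf_coe, hk']
      have hkc : ∀ g : H, g * (k' : H) * g⁻¹ = k' := by
        intro g
        have hmem := hE.conj_mem _ k'.2 g
        haveI := Fintype.ofFinite E
        by_contra hne
        have hcard : ({1, k', ⟨g * (k' : H) * g⁻¹, hmem⟩} : Finset E).card = 3 := by
          rw [Finset.card_insert_of_notMem, Finset.card_insert_of_notMem, Finset.card_singleton]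
          · simp only [Finset.mem_singleton]
            exact fun h => hne (congrArg Subtype.val h).symm
          · simp only [Finset.mem_insert, Finset.mem_singleton]
            rintro (h | h)
            · exact Invol.ne_one hko (congrArg Subtype.val h).symm
            · exact Invol.ne_one hko (conj_eq_one_iff.1 (congrArg Subtype.val h).symm)
        have h5 := Finset.card_le_univ ({1, k', ⟨g * (k' : H) * g⁻¹, hmem⟩} : Finset E)
        rw [hcard, Fintype.card_eq_nat_card, h2] at h5
        omega
      set k : H := (k' : H) with hkdef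
      have hkW : k ∈ W := by
        rw [← hcW, Subgroup.mem_centralizer_singleton_iff]
        exact (mul_inv_eq_iff_eq_mul.1 (hkc zH)).symm
      by_cases hkz : k = zH
      · have htop : W = ⊤ := by
          rw [← hcW, Subgroup.eq_top_iff']
          intro g
          rw [Subgroup.mem_centralizer_singleton_iff, ← hkz]
          exact mul_inv_eq_iff_eq_mul.1 (hkc g)
        exact hburn (by rw [htop]; exact le_top)
      refine hburn fun n hn => ?_
      -- `n` permutes `z` and `k z`
      haveI := Fintype.ofFinite H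
      have hzW : zH ∈ W := by rw [← hcW]; exact Subgroup.mem_centralizer_singleton_iff.2 rfl
      have hmem4 : ∀ y ∈ W, y = 1 ∨ y = k ∨ y = zH ∨ y = k * zH := by
        intro y hy
        let T : Finset H := {1, k, zH, k * zH}
        have hT : T.card = 4 := by
          have h1 : k * zH ≠ 1 := fun h => hkz (by
            rw [mul_eq_one_iff_eq_inv, Invol.inv_self hzo] at h; exact h)
          simp [T, Finset.card_insert_of_notMem, (Invol.ne_one hko).symm, (Invol.ne_one hzo).symm,
            h1.symm, hkz, Invol.ne_one hko, Invol.ne_one hzo]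
        have hsub : T ⊆ (W : Set H).toFinset := by
          intro t ht
          simp only [T, Finset.mem_insert, Finset.mem_singleton] at ht
          rw [Set.mem_toFinset, SetLike.mem_coe]
          rcases ht with rfl | rfl | rfl | rfl
          exacts [one_mem _, hkW, hzW, mul_mem hkW hzW]
        have heq := Finset.eq_of_subset_of_card_le hsub (by
          rw [hT, Set.toFinset_card, Fintype.card_eq_nat_card]; exact hW4.le)
        have : y ∈ T := by rw [heq, Set.mem_toFinset]; exact hy
        simpa [T] using this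
      have hkn : n * k = k * n := mul_inv_eq_iff_eq_mul.1 (hkc n)
      have him : n * zH * n⁻¹ = zH ∨ n * zH * n⁻¹ = k * zH := by
        rcases hmem4 _ ((Subgroup.mem_normalizer_iff.1 hn zH).1 hzW) with h | h | h | h
        · exact absurd (conj_eq_one_iff.1 h) (Invol.ne_one hzo)
        · exfalso
          refine hkz ?_
          have h' : n * zH * n⁻¹ = n * k * n⁻¹ := by rw [h, hkc n]
          exact (mul_left_cancel (mul_right_cancel h')).symm
        · exact Or.inl h
        · exact Or.inr h
      have hn2 : n * n ∈ W := by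
        rw [← hcW, Subgroup.mem_centralizer_singleton_iff]
        rcases him with h | h
        · have hc : Commute n zH := mul_inv_eq_iff_eq_mul.1 h
          exact (hc.mul_left hc).eq
        · refine mul_inv_eq_iff_eq_mul.1 ?_
          calc n * n * zH * (n * n)⁻¹ = n * (n * zH * n⁻¹) * n⁻¹ := by group
            _ = n * (k * zH) * n⁻¹ := by rw [h]
            _ = (n * k * n⁻¹) * (n * zH * n⁻¹) := by group
            _ = k * (k * zH) := by rw [hkc n, h]
            _ = zH := by rw [← mul_assoc, Invol.mul_self hko, one_mul]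
      have hp : IsPGroup 2 (Subgroup.zpowers n) := by
        have hn8 : orderOf n ∣ 2 ^ 2 := by
          refine orderOf_dvd_of_pow_eq_one ?_
          rw [show 2 ^ 2 = 2 * 2 by norm_num, pow_mul, pow_two, pow_two, hWsq _ hn2]
        obtain ⟨i, -, hi⟩ := (Nat.dvd_prime_pow Nat.prime_two).1 hn8
        exact IsPGroup.of_card (n := i) (by rw [Nat.card_zpowers, hi])
      have h2 := hp.inf_normalizer_sylow P
      have h3 : Subgroup.zpowers n ≤ Subgroup.normalizer (P : Set H) := by
        show _ ≤ Subgroup.normalizer ((P : Subgroup H) : Set H)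
        rw [hPW]; exact Subgroup.zpowers_le.2 hn
      rw [inf_eq_left.2 h3, hPW] at h2
      have h4 : n ∈ Subgroup.zpowers n ⊓ W := h2 ▸ Subgroup.mem_zpowers n
      exact h4.2
    · -- a normal four-group is the Sylow subgroup
      apply h24
      have hEp : IsPGroup 2 E := IsPGroup.of_card (n := 2) (by rw [h4]; norm_num)
      obtain ⟨R, hR⟩ := hEp.exists_le_sylow
      obtain ⟨g, hg⟩ := MulAction.exists_smul_eq H R P
      have hEW : E ≤ W := by
        intro x hx
        rw [← hPW, ← hg, Sylow.coe_subgroup_smul]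
        have h' : g⁻¹ * x * g ∈ (R : Subgroup H) := hR (by simpa using hE.conj_mem _ hx g⁻¹)
        refine Subgroup.mem_pointwise_smul_iff_inv_smul_mem.2 ?_
        simpa [MulAut.smul_def] using h'
      have hEeq : E = W := Subgroup.eq_of_le_of_card_ge hEW (by rw [hW4, h4])
      subst hEeq
      haveI := Fintype.ofFinite H
      -- the orbit of `z` has at most three elements
      have hzW : zH ∈ W := by rw [← hcW]; exact Subgroup.mem_centralizer_singleton_iff.2 rfl
      have horb : Nat.card {y : H // IsConj zH y} ≤ 3 := by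
        let ι : {y : H // IsConj zH y} → {y : W // y ≠ 1} := fun y => ⟨⟨y.1, by
            obtain ⟨c, hc⟩ := isConj_iff.1 y.2
            rw [← hc]; exact hE.conj_mem _ hzW c⟩, fun h => by
            obtain ⟨c, hc⟩ := isConj_iff.1 y.2
            have : c * zH * c⁻¹ = 1 := hc.trans (congrArg Subtype.val h)
            exact Invol.ne_one hzo (conj_eq_one_iff.1 this)⟩
        have hι : Function.Injective ι := fun a b h =>
          Subtype.ext (congrArg (fun u => u.1.1) h)
        refine (Nat.card_le_card_of_injective ι hι).trans ?_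
        haveI := Fintype.ofFinite W
        rw [Nat.card_eq_fintype_card, Fintype.card_subtype_compl, Fintype.card_subtype_eq,
          ← Nat.card_eq_fintype_card, hW4]
      rw [Blocks.card_isConj_eq_index, hcW] at horb
      have h1 := W.card_mul_index
      rw [hW4] at h1
      have hodd : ¬ 2 ∣ W.index := hPW ▸ P.not_dvd_index
      have hne1 : W.index ≠ 1 := fun h => hburn (by rw [Subgroup.index_eq_one.1 h]; exact le_top)
      have h0 : W.index ≠ 0 := Subgroup.index_ne_zero_of_finite
      omega
  obtain ⟨φ⟩ := hH60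
  haveI : IsSimpleGroup (alternatingGroup (Fin 5)) := alternatingGroup.isSimpleGroup (by simp)
  haveI hHs : IsSimpleGroup H := φ.isSimpleGroup
  have hH' : Nat.card H = 60 := by
    rw [Nat.card_congr φ.toEquiv]
    have h2 := two_mul_nat_card_alternatingGroup (α := Fin 5)
    rw [Nat.card_perm, Nat.card_fin, show Nat.factorial 5 = 120 from rfl] at h2
    omega
  have hHnc : ¬ IsMulCommutative H := by
    intro h
    haveI : Fact (Nat.Prime 5) := ⟨by norm_num⟩
    obtain ⟨x, hx⟩ := exists_prime_orderOf_dvd_card' (G := H) 5 (by rw [hH']; norm_num)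
    have hn : (Subgroup.zpowers x).Normal := ⟨fun y hy g => by
      rw [h.is_comm.comm g y, mul_inv_cancel_right]; exact hy⟩
    rcases hn.eq_bot_or_eq_top with q | q <;>
      · have h1 : Nat.card (Subgroup.zpowers x) = 5 := by rw [Nat.card_zpowers, hx]
        rw [q] at h1
        first | (rw [Subgroup.card_bot] at h1; omega) | (rw [Subgroup.card_top, hH'] at h1; omega)
  have hWn : ¬ W.Normal := by
    intro h
    rcases h.eq_bot_or_eq_top with q | q
    · rw [q, Subgroup.card_bot] at hW4; omega
    · rw [q, Subgroup.card_top, hH'] at hW4; omega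
  have hN12 : 12 ∣ Nat.card ↥(Subgroup.normalizer (W : Set H)) := by
    set N := Subgroup.normalizer (W : Set H) with hN
    have h4 : 4 ∣ Nat.card N := hW4 ▸ Subgroup.card_dvd_of_le Subgroup.le_normalizer
    have hmul := N.card_mul_index
    rw [hH'] at hmul
    have h5 : 5 ≤ N.index := Small.five_le_index hHnc fun h => hWn (Subgroup.normalizer_eq_top_iff.1 h)
    obtain ⟨m, hm⟩ := h4
    rw [hm] at hmul
    have hm15 : m * N.index = 15 := by linarith
    have hm3 : m ≤ 3 := by nlinarith
    interval_cases m
    · omega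
    · exact absurd (hburn (Subgroup.eq_of_le_of_card_ge Subgroup.le_normalizer (by rw [hW4, hm])).ge) id
    · omega
    · exact ⟨1, hm⟩
  set D := W.map H.subtype with hD
  have hDeq : D = (S : Subgroup G) ⊓ H := Subgroup.subgroupOf_map_subtype _ _
  set M := Subgroup.normalizer (D : Set G) with hM
  have hSM : (S : Subgroup G) ≤ M := by
    intro s hs
    rw [hM, Subgroup.mem_normalizer_iff]
    intro y
    rw [hDeq, Subgroup.mem_inf, Subgroup.mem_inf]
    constructor
    · rintro ⟨h1, h2⟩
      exact ⟨mul_mem (mul_mem hs h1) (inv_mem hs), hHn.conj_mem _ h2 s⟩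
    · rintro ⟨h1, h2⟩
      have e1 := mul_mem (mul_mem (inv_mem hs) h1) hs
      have e2 := hHn.conj_mem _ h2 s⁻¹
      refine ⟨?_, ?_⟩
      · simpa [mul_assoc] using e1
      · simpa [mul_assoc] using e2
  have h12M : 12 ∣ Nat.card M := by
    have h := Subgroup.card_dvd_of_le (Subgroup.le_normalizer_map (H := W) H.subtype)
    rw [Subgroup.card_map_of_injective H.subtype_injective] at h
    exact hN12.trans h
  have h24M : 24 ∣ Nat.card M := by
    have h8 : 8 ∣ Nat.card M := hS8 ▸ Subgroup.card_dvd_of_le hSM
    omega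
  have hG120 : Nat.card G = 120 := by omega
  have hMtop : M ≠ ⊤ := by
    intro h
    apply hWn
    have hDn : D.Normal := Subgroup.normalizer_eq_top_iff.1 h
    have : W = D.comap H.subtype := (Subgroup.comap_map_eq_self_of_injective H.subtype_injective W).symm
    rw [this]
    exact hDn.comap _
  have hM5 : M.index = 5 := by
    have hmul := M.card_mul_index
    rw [hG120] at hmul
    obtain ⟨m, hm⟩ := h24M
    rw [hm] at hmul
    have h1 : m * M.index = 5 := by linarith
    rcases (Nat.dvd_prime (by norm_num : Nat.Prime 5)).1 (Dvd.intro_left m h1) with h | h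
    · exact absurd (Subgroup.index_eq_one.1 h) hMtop
    · exact h
  have hker : M.normalCore = ⊥ := by
    refine normal_eq_bot hz e hG8 _ inferInstance ?_
    have hbot : M.normalCore.subgroupOf H = ⊥ := by
      rcases (inferInstance : (M.normalCore.subgroupOf H).Normal).eq_bot_or_eq_top with q | q
      · exact q
      · exfalso
        have hHM : H ≤ M := (Subgroup.subgroupOf_eq_top.1 q).trans M.normalCore_le
        rcases Nat.lt_or_ge (Nat.card M) 60 with hlt | hge
        · have := Subgroup.card_dvd_of_le hHM
          rw [hH'] at this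
          have := Nat.le_of_dvd Nat.card_pos this
          omega
        · have hmul := M.card_mul_index
          rw [hG120, hM5] at hmul
          omega
    have h := Subgroup.relIndex_dvd_index_of_normal H M.normalCore
    rw [hH, Subgroup.relIndex] at h
    have h2 := (H.subgroupOf M.normalCore).card_mul_index
    have h3 : Nat.card (H.subgroupOf M.normalCore) = 1 := by
      rw [Subgroup.card_eq_one, Subgroup.subgroupOf_eq_bot]
      exact (Subgroup.subgroupOf_eq_bot.1 hbot).symm
    rw [h3, one_mul] at h2
    rw [← h2]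
    exact Nat.le_of_dvd (by norm_num) h
  let g : G →* Equiv.Perm (Fin 5) := ((Finite.equivFinOfCardEq (α := G ⧸ M)
    (by rw [← Subgroup.index, hM5])).permCongrHom).toMonoidHom.comp (MulAction.toPermHom G (G ⧸ M))
  have hginj : Function.Injective g := by
    have h1 : Function.Injective (MulAction.toPermHom G (G ⧸ M)) := by
      rw [← MonoidHom.ker_eq_bot_iff, ← Subgroup.normalCore_eq_ker, hker]
    intro a b h
    exact h1 ((Equiv.permCongrHom (Finite.equivFinOfCardEq (α := G ⧸ M) (by rw [← Subgroup.index, hM5]))).injective h)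
  exact Or.inr (Or.inr (Or.inl ⟨MulEquiv.ofBijective g ((Nat.bijective_iff_injective_and_card g).2
    ⟨hginj, by rw [hG120, Nat.card_perm, Nat.card_fin]; rfl⟩)⟩))

end Cfsg.Agent.S3035
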