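import Cfsg.Statements.S2046
import Cfsg.Agent.Lib.SchurMult.Bound
import Cfsg.Agent.Lib.SporPerm.HSModel
import Cfsg.Agent.Lib.SporPerm.HSP2Cert
import Cfsg.Agent.Lib.SporPerm.HSP3Cert
import Cfsg.Agent.Lib.SporPerm.HSP5Cert
import Cfsg.Agent.Lib.SporPerm.HSP7Cert
import Cfsg.Agent.Lib.SporPerm.HSP11Cert
import Cfsg.Agent.Lib.SporPerm.HSCoverCert
-- import your own Cfsg.Agent.* helpers here

set_option autoImplicit false
open Cfsg

namespace Cfsg.Agent.S2046

/-- The Schur multiplier of the Higman–Sims group (as a two-vector stabiliser in the automorphism group of the rank-24 lattice) is cyclic of order 2; here the Schur multiplier is described through stem extensions, as in the definitions: surjective homomorphisms onto the group from a finite group, whose kernel is central in that finite group and contained in that finite group's commutator subgroup. -/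
theorem result : Cfsg.HasCyclicSchurMultiplier ↥Cfsg.Spor.HS 2 := by
  obtain ⟨e⟩ := SporPerm.hs_equiv
  haveI : IsSimpleGroup Spor.HS := Leech.isHS_spor.1
  haveI : Finite Spor.HS := Nat.finite_of_card_ne_zero (by rw [Leech.isHS_spor.2]; norm_num)
  let φ : Spor.HS →* Equiv.Perm (Fin 100) :=
    (PermCert.genGroup 7 100 SporPerm.hsGens).subtype.comp e.toMonoidHom
  have hφ : Function.Injective φ := (Subgroup.subtype_injective _).comp e.injective
  have hr : φ.range = PermCert.genGroup 7 100 SporPerm.hsGens := by
    rw [MonoidHom.range_comp, MonoidHom.range_eq_top.2 e.surjective, ← MonoidHom.range_eq_map,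
      Subgroup.range_subtype]
  have hle : Nat.card (Schur.Multiplier Spor.HS) ≤ 2 := by
    refine (SchurMult.card_le φ hφ hr
      [(86625, 2), (4928000, 1), (354816, 1), (6336000, 1), (4032000, 1)] ?_ (by decide)).trans (by decide)
    intro i hi
    simp only [List.mem_cons, List.not_mem_nil, or_false] at hi
    rcases hi with rfl | rfl | rfl | rfl | rfl
    · exact SchurMult.certified_of SporPerm.hs_cert SporPerm.hsP2_base SporPerm.hsP2_rows SporPerm.hsP2_rels
        SporPerm.hsP2_derived SporPerm.hsP2_orders SporPerm.hsP2_ext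
    · exact SchurMult.certified_of SporPerm.hs_cert SporPerm.hsP3_base SporPerm.hsP3_rows SporPerm.hsP3_rels
        SporPerm.hsP3_derived SporPerm.hsP3_orders SporPerm.hsP3_ext
    · exact SchurMult.certified_of SporPerm.hs_cert SporPerm.hsP5_base SporPerm.hsP5_rows SporPerm.hsP5_rels
        SporPerm.hsP5_derived SporPerm.hsP5_orders SporPerm.hsP5_ext
    · exact SchurMult.certified_of SporPerm.hs_cert SporPerm.hsP7_base SporPerm.hsP7_rows SporPerm.hsP7_rels
        SporPerm.hsP7_derived SporPerm.hsP7_orders SporPerm.hsP7_ext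
    · exact SchurMult.certified_of SporPerm.hs_cert SporPerm.hsP11_base SporPerm.hsP11_rows
        SporPerm.hsP11_rels SporPerm.hsP11_derived SporPerm.hsP11_orders SporPerm.hsP11_ext
  have hperf : commutator (PermCert.genGroup 7 100 SporPerm.hsGens) = ⊤ := by
    haveI : IsSimpleGroup (PermCert.genGroup 7 100 SporPerm.hsGens) :=
      haveI : Nontrivial (PermCert.genGroup 7 100 SporPerm.hsGens) := e.symm.toEquiv.nontrivial
      IsSimpleGroup.isSimpleGroup_of_surjective e.toMonoidHom e.surjective
    refine (Subgroup.Normal.eq_bot_or_eq_top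
      (inferInstance : (commutator (PermCert.genGroup 7 100 SporPerm.hsGens)).Normal)).resolve_left fun h => ?_
    have hcomm : ∀ a b : PermCert.genGroup 7 100 SporPerm.hsGens, a * b = b * a := fun a b => by
      rw [← commutatorElement_eq_one_iff_mul_comm, ← Subgroup.mem_bot, ← h]
      exact Subgroup.commutator_mem_commutator (Subgroup.mem_top a) (Subgroup.mem_top b)
    letI : CommGroup (PermCert.genGroup 7 100 SporPerm.hsGens) :=
      { (inferInstance : Group _) with mul_comm := hcomm }
    have hp := IsSimpleGroup.prime_card (α := PermCert.genGroup 7 100 SporPerm.hsGens)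
    rw [PermCert.cert_card SporPerm.hs_cert, SporPerm.hs_order] at hp
    exact absurd hp (by norm_num)
  obtain ⟨X, iX, σ, hσ, hc, hne⟩ := SporPerm.exists_double_cover (N := 704) (W := 10) SporPerm.hs_cert
    SporPerm.hs2_sheet SporPerm.hs2_chain SporPerm.hs2_top
    (SporPerm.hs2_order.trans SporPerm.hs_order.symm) SporPerm.hs2_quad hperf
  let ξ : X →* Spor.HS := e.symm.toMonoidHom.comp σ
  have hk : ξ.ker = σ.ker := by
    ext x
    simp [ξ, MonoidHom.mem_ker]
  exact SchurMult.cyclic_two_of ξ (e.symm.surjective.comp hσ) (hk.le.trans hc) (hk ▸ hne) hle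

end Cfsg.Agent.S2046
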