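import Cfsg.Statements.S2072
import Cfsg.Agent.Lib.MathieuOut.Congr
import Cfsg.Agent.Lib.SporPerm.HSModel
import Cfsg.Agent.Lib.SporPerm.HSFrameCert
-- import your own Cfsg.Agent.* helpers here

set_option autoImplicit false
open Cfsg

namespace Cfsg.Agent.S2072

/-- The outer automorphism group of the Higman–Sims group (as a two-vector stabiliser in the automorphism group of the rank-24 lattice) has order 2. -/
theorem result : Nat.card (Cfsg.Out ↥Cfsg.Spor.HS) = 2 := by
  obtain ⟨e⟩ := SporPerm.hs_equiv
  obtain ⟨hc, heq⟩ := CentAut.cert_of_model SporPerm.hs_cert SporPerm.hsFr_light SporPerm.hsFr_sift SporPerm.hsFr_order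
  rw [MathieuOut.card_out_congr (e.trans (MulEquiv.subgroupCongr heq.symm))]
  exact CentAut.card_out_two hc SporPerm.hsFr_frame SporPerm.hsFr_centX SporPerm.hsFr_centN
    (by rw [show SporPerm.hsFrData.p = 11 from rfl]; norm_num) SporPerm.hsFr_cases SporPerm.hsFr_outer

end Cfsg.Agent.S2072
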