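import Cfsg.Statements.S3761
import Cfsg.Agent.Lib.TwoGroups.CentFour
import Cfsg.Agent.Lib.TwoGroups.Lifts
import Cfsg.Agent.Lib.LocalEven.OmegaOne
import Mathlib

set_option autoImplicit false
open Cfsg

namespace Cfsg.Agent.S3761

open scoped commutatorElement

section Aux

variable {G : Type*} [Group G] {u y : G} {p n : ℕ}

theorem zpow_iff (ho : orderOf u = p ^ n) (c : ℤ) : u ^ c = 1 ↔ (p : ℤ) ^ n ∣ c := by
  rw [← orderOf_dvd_iff_zpow_eq_one, ho]; push_cast; rfl

theorem zpow_congr (ho : orderOf u = p ^ n) {a b : ℤ} (h : (p : ℤ) ^ n ∣ a - b) : u ^ a = u ^ b := by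
  rw [← (zpow_iff ho _)] at h
  rw [zpow_sub, mul_inv_eq_one] at h
  exact h

theorem iter_conj (ho : orderOf u = p ^ n) (hn : 2 ≤ n) {b : ℤ}
    (h : y * u * y⁻¹ = u ^ (1 + (p : ℤ) ^ (n - 1) * b)) (j : ℕ) :
    y ^ j * u * (y ^ j)⁻¹ = u ^ (1 + (p : ℤ) ^ (n - 1) * b * j) := by
  induction j with
  | zero => simp
  | succ j ih =>
    calc y ^ (j + 1) * u * (y ^ (j + 1))⁻¹ = y * (y ^ j * u * (y ^ j)⁻¹) * y⁻¹ := by
          rw [pow_succ']; group
      _ = u ^ ((1 + (p : ℤ) ^ (n - 1) * b) * (1 + (p : ℤ) ^ (n - 1) * b * j)) := by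
          rw [ih, ← conj_zpow, h, ← zpow_mul]
      _ = _ := by
          refine zpow_congr ho ?_
          have hd : (p : ℤ) ^ n ∣ (p : ℤ) ^ (n - 1) * (p : ℤ) ^ (n - 1) := by
            rw [← pow_add]; exact pow_dvd_pow _ (by omega)
          obtain ⟨c, hc⟩ := hd
          refine ⟨c * (b * b * j), ?_⟩
          push_cast
          linear_combination (b * b * j) * hc

theorem twist_pow (ho : orderOf u = p ^ n) (hn : 2 ≤ n) {b : ℤ}
    (h : y * u * y⁻¹ = u ^ (1 + (p : ℤ) ^ (n - 1) * b)) (a r : ℤ)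
    (hr : (p : ℤ) ^ (n - 1) * ((p.choose 2 : ℕ) : ℤ) = p * r) :
    (u ^ a * y) ^ p = u ^ ((p : ℤ) * (a * (1 + b * r))) * y ^ p := by
  set P : ℤ := (p : ℤ) ^ (n - 1) with hP
  have hya : y * u ^ a * y⁻¹ = u ^ a * u ^ (a * P * b) := by
    rw [← conj_zpow, h, ← zpow_mul, ← zpow_add]; congr 1; ring
  have hzy : Commute (u ^ (a * P * b)) y := by
    have h1 : y * u ^ (a * P * b) * y⁻¹ = u ^ (a * P * b) := by
      rw [← conj_zpow, h, ← zpow_mul]
      refine zpow_congr ho ?_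
      have hd : (p : ℤ) ^ n ∣ P * P := by
        rw [hP, ← pow_add]; exact pow_dvd_pow _ (by omega)
      obtain ⟨c, hc⟩ := hd
      exact ⟨c * (a * b * b), by linear_combination (a * b * b) * hc⟩
    exact (mul_inv_eq_iff_eq_mul.1 h1).symm
  have hba : y * u ^ a = u ^ a * y * u ^ (a * P * b) := by
    rw [mul_inv_eq_iff_eq_mul] at hya
    rw [hya, mul_assoc (u ^ a) _ y, hzy.eq, ← mul_assoc]
  rw [Cfsg.Agent.LEOmega.mul_pow_class_two hba ((Commute.refl u).zpow_zpow _ _) hzy,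
    mul_assoc, ((hzy.symm.pow_left _).pow_right _).eq, ← mul_assoc, ← zpow_natCast (u ^ a), ← zpow_mul,
    ← zpow_natCast (u ^ (a * P * b)), ← zpow_mul, ← zpow_add]
  refine congrArg (fun w => w * y ^ p) (congrArg (fun e : ℤ => u ^ e) ?_)
  linear_combination (a * b) * hr

end Aux

/-- Let G be a finite non-abelian p-group with a cyclic normal subgroup U of order p^n such that C_G(U) = U. Then either p = 2 and G is dihedral, generalized quaternion or semidihedral of order 2^(n+1); or, writing U₁ for the subgroup generated by the p-th powers of elements of U and M = C_G(U₁), the subgroup U has index p in M and the subgroup Ω₁(M) generated by the elements of M of order dividing p is elementary abelian of order p² and characteristic in G. -/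
theorem result {G : Type*} [Group G] [Finite G] {p : ℕ} [Fact p.Prime] (hG : IsPGroup p G) (hna : ¬ IsMulCommutative G) (U : Subgroup G) [U.Normal] (hU : IsCyclic U) (n : ℕ) (hUn : Nat.card U = p ^ n) (hC : Subgroup.centralizer (U : Set G) = U) : (p = 2 ∧ Nat.card G = 2 ^ (n + 1) ∧ ((∃ m : ℕ, Nonempty (G ≃* DihedralGroup m)) ∨ (∃ m : ℕ, Nonempty (G ≃* QuaternionGroup m)) ∨ Cfsg.IsQuasiDihedral G)) ∨ (U.relIndex (Subgroup.centralizer (Cfsg.powerClosure p 1 U : Set G)) = p ∧ Cfsg.IsElementaryAbelian p (Cfsg.omegaOne p (Subgroup.centralizer (Cfsg.powerClosure p 1 U : Set G))) ∧ Nat.card ↥(Cfsg.omegaOne p (Subgroup.centralizer (Cfsg.powerClosure p 1 U : Set G))) = p ^ 2 ∧ (Cfsg.omegaOne p (Subgroup.centralizer (Cfsg.powerClosure p 1 U : Set G))).Characteristic) := by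
  classical
  have hp : p.Prime := Fact.out
  obtain ⟨u, hu⟩ := (Subgroup.isCyclic_iff_exists_zpowers_eq_top U).1 hU
  have huU : u ∈ U := hu ▸ Subgroup.mem_zpowers u
  have ho : orderOf u = p ^ n := by rw [← Nat.card_zpowers, hu, hUn]
  have hUn' : U.Normal := inferInstance
  have hconj : ∀ g : G, ∃ k : ℤ, g * u * g⁻¹ = u ^ k := fun g => by
    obtain ⟨k, hk⟩ := Subgroup.mem_zpowers_iff.1 (hu.symm ▸ hUn'.conj_mem u huU g : g * u * g⁻¹ ∈ Subgroup.zpowers u)
    exact ⟨k, hk.symm⟩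
  choose k hk using hconj
  have hcommU : ∀ g : G, g * u * g⁻¹ = u → g ∈ U := fun g hg => by
    rw [← hC, Subgroup.mem_centralizer_iff, ← hu]
    rintro _ ⟨i, rfl⟩
    exact (Commute.zpow_left (mul_inv_eq_iff_eq_mul.1 hg : Commute g u).symm i).eq
  have hkU : ∀ g : G, (p : ℤ) ^ n ∣ k g - 1 → g ∈ U := fun g hd => hcommU g (by
    rw [hk g, zpow_congr ho hd, zpow_one])
  have hkmul : ∀ g h : G, (p : ℤ) ^ n ∣ k (g * h) - k g * k h := fun g h => by
    rw [← zpow_iff ho, zpow_sub, mul_inv_eq_one, ← hk, zpow_mul, ← hk g, conj_zpow, ← hk h]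
    group
  have hkpow : ∀ (g : G) (j : ℕ), (p : ℤ) ^ n ∣ k (g ^ j) - k g ^ j := by
    intro g j
    induction j with
    | zero =>
      rw [← zpow_iff ho, zpow_sub, mul_inv_eq_one, ← hk, pow_zero, pow_zero, zpow_one, one_mul, inv_one, mul_one]
    | succ j ih =>
      obtain ⟨c, hc⟩ := ih
      obtain ⟨d, hd⟩ := hkmul (g ^ j) g
      exact ⟨c * k g + d, by rw [pow_succ, pow_succ]; linear_combination (k g) * hc + hd⟩
  have hkself : ∀ g : G, g ∈ U → (p : ℤ) ^ n ∣ k g - 1 := fun g hg => by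
    rw [← zpow_iff ho, zpow_sub, zpow_one, mul_inv_eq_one, ← hk]
    obtain ⟨i, rfl⟩ := Subgroup.mem_zpowers_iff.1 (hu.symm ▸ hg : g ∈ Subgroup.zpowers u)
    group
  have hGU : U ≠ ⊤ := fun h => hna ⟨⟨fun a b => by
    obtain ⟨i, rfl⟩ := Subgroup.mem_zpowers_iff.1 (hu.symm ▸ h.symm ▸ Subgroup.mem_top a : a ∈ Subgroup.zpowers u)
    obtain ⟨j, rfl⟩ := Subgroup.mem_zpowers_iff.1 (hu.symm ▸ h.symm ▸ Subgroup.mem_top b : b ∈ Subgroup.zpowers u)
    rw [← zpow_add, ← zpow_add, add_comm]⟩⟩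
  have hFermat : ∀ g : G, (p : ℤ) ^ n ∣ k g - 1 ∨ (p : ℤ) ∣ k g - 1 := fun g => by
    rcases Nat.eq_zero_or_pos n with h0 | h0
    · left; rw [h0, pow_zero]; exact one_dvd _
    obtain ⟨j, hj⟩ := hG g
    have h1 := hkpow g (p ^ j)
    rw [hj] at h1
    have h2 : (p : ℤ) ^ n ∣ k g ^ (p ^ j) - 1 := by
      obtain ⟨c, hc⟩ := h1
      obtain ⟨d, hd⟩ := hkself 1 (one_mem U)
      exact ⟨d - c, by linear_combination hd - hc⟩
    right
    have h3 := (dvd_pow_self (p : ℤ) h0.ne').trans h2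
    rw [← ZMod.intCast_zmod_eq_zero_iff_dvd] at h3 ⊢
    push_cast at h3 ⊢
    rwa [ZMod.pow_card_pow] at h3
  have hn : 2 ≤ n := by
    by_contra hlt
    refine hGU (eq_top_iff.2 fun g _ => hkU g ?_)
    rcases hFermat g with h | h
    · exact h
    · exact (pow_dvd_pow (p : ℤ) (by omega : n ≤ 1)).trans (by rwa [pow_one])
  have hkp : ∀ g : G, (p : ℤ) ∣ k g - 1 := fun g => by
    rcases hFermat g with h | h
    · exact (dvd_pow_self (p : ℤ) (by omega : n ≠ 0)).trans h
    · exact h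
  have hpn : (p : ℤ) * (p : ℤ) ^ (n - 1) = (p : ℤ) ^ n := by rw [← pow_succ']; congr 1; omega
  have hp0 : (p : ℤ) ≠ 0 := by exact_mod_cast hp.ne_zero
  set M := Subgroup.centralizer (Cfsg.powerClosure p 1 U : Set G) with hMdef
  have hM : ∀ g : G, g ∈ M ↔ (p : ℤ) ^ (n - 1) ∣ k g - 1 := by
    intro g
    have h1 : g * u ^ (p : ℤ) * g⁻¹ = u ^ (k g * (p : ℤ)) := by rw [← conj_zpow, hk, ← zpow_mul]
    constructor
    · intro hg
      have h2 : u ^ (p : ℤ) * g = g * u ^ (p : ℤ) := by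
        refine Subgroup.mem_centralizer_iff.1 hg _ (Subgroup.subset_closure ⟨u, huU, ?_⟩)
        rw [pow_one, zpow_natCast]
      rw [← h2, mul_inv_cancel_right] at h1
      have h3 : u ^ (k g * (p : ℤ) - p) = 1 := by rw [zpow_sub, ← h1, mul_inv_cancel]
      rw [zpow_iff ho, ← hpn, show k g * (p : ℤ) - p = p * (k g - 1) by ring,
        mul_dvd_mul_iff_left hp0] at h3
      exact h3
    · intro hd
      have h2 : g * u ^ (p : ℤ) * g⁻¹ = u ^ (p : ℤ) := by
        rw [h1]; refine zpow_congr ho ?_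
        rw [← hpn, show k g * (p : ℤ) - p = p * (k g - 1) by ring]
        exact mul_dvd_mul_left _ hd
      rw [Subgroup.mem_centralizer_iff]
      intro w hw
      have : Cfsg.powerClosure p 1 U ≤ Subgroup.centralizer ({g} : Set G) := by
        rw [Cfsg.powerClosure, Subgroup.closure_le]
        rintro _ ⟨x, hx, rfl⟩
        obtain ⟨i, rfl⟩ := Subgroup.mem_zpowers_iff.1 (hu.symm ▸ hx : x ∈ Subgroup.zpowers u)
        rw [SetLike.mem_coe, Subgroup.mem_centralizer_singleton_iff, pow_one, ← zpow_natCast, ← zpow_mul,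
          mul_comm i, zpow_mul]
        exact (Commute.zpow_left (mul_inv_eq_iff_eq_mul.1 h2 : Commute g (u ^ (p : ℤ))).symm i).eq
      exact Subgroup.mem_centralizer_singleton_iff.1 (this hw)
  have hUM : U ≤ M := fun g hg => (hM g).2 ((pow_dvd_pow _ (by omega)).trans (hkself g hg))
  -- an element of order `p` modulo `U`
  have hstep : ∀ g : G, g ∉ U → ∃ j : ℕ, g ^ (p ^ j) ∉ U ∧ (g ^ (p ^ j)) ^ p ∈ U := by
    intro g hg
    have hex : ∃ j : ℕ, g ^ (p ^ j) ∈ U := by
      obtain ⟨j, hj⟩ := hG g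
      exact ⟨j, hj ▸ one_mem U⟩
    have h0 : Nat.find hex ≠ 0 := fun h => hg (by
      have := Nat.find_spec hex; rwa [h, pow_zero, pow_one] at this)
    refine ⟨Nat.find hex - 1, Nat.find_min hex (by omega), ?_⟩
    rw [← pow_mul, ← pow_succ]
    have : Nat.find hex - 1 + 1 = Nat.find hex := by omega
    rw [this]
    exact Nat.find_spec hex
  have hkx : ∀ x : G, x ^ p ∈ U → (p : ℤ) ^ n ∣ k x ^ p - 1 := fun x hx => by
    obtain ⟨c, hc⟩ := hkpow x p
    obtain ⟨d, hd⟩ := hkself _ hx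
    exact ⟨d - c, by linear_combination hd - hc⟩
  have hodd : p ≠ 2 → ∀ x : G, x ^ p ∈ U → x ∈ M := by
    intro hp2 x hx
    obtain ⟨b, hb⟩ := hkp x
    have hk1 : k x = 1 + p * b := by linear_combination hb
    obtain ⟨c, hc⟩ := odd_sq_dvd_geom_sum₂_sub (R := ℤ) (a := 1) (b := b) (hp.odd_of_ne_two hp2)
    simp only [one_pow, mul_one] at hc
    have hgeo := geom_sum_mul (1 + (p : ℤ) * b) p
    have h2 := hkx x hx
    rw [hk1] at h2
    have h3 : (1 + (p : ℤ) * b) ^ p - 1 = p * ((1 + p * c) * (k x - 1)) := by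
      rw [hk1]
      linear_combination (p * b) * hc - hgeo
    rw [h3, ← hpn, mul_dvd_mul_iff_left hp0] at h2
    have hco : IsCoprime ((p : ℤ) ^ (n - 1)) (1 + p * c) := IsCoprime.pow_left ⟨-c, 1, by ring⟩
    exact (hM x).2 (hco.dvd_of_dvd_mul_left h2)
  obtain ⟨g₀, -, hg₀⟩ := SetLike.exists_of_lt (lt_top_iff_ne_top.2 hGU)
  obtain ⟨j₀, hx₀, hx₀'⟩ := hstep g₀ hg₀
  by_cases hB : (∃ x ∈ M, x ∉ U) ∧ (p = 2 → 3 ≤ n)
  · -- `U` has index `p` in `M`
    right
    obtain ⟨⟨x, hxM, hxU⟩, hp2n⟩ := hB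
    obtain ⟨b, hb⟩ := (hM x).1 hxM
    set P : ℤ := (p : ℤ) ^ (n - 1) with hPdef
    have hkx' : x * u * x⁻¹ = u ^ (1 + P * b) := by rw [hk x]; congr 1; linear_combination hb
    have hpb : ¬ (p : ℤ) ∣ b := fun hd => hxU (hkU x (by
      rw [hb, ← hpn, mul_comm (p : ℤ)]; exact mul_dvd_mul_left _ hd))
    obtain ⟨r, hr, hpr⟩ : ∃ r : ℤ, P * ((p.choose 2 : ℕ) : ℤ) = p * r ∧ (p : ℤ) ∣ r := by
      by_cases hp2 : p = 2
      · subst hp2
        have := hp2n rfl
        refine ⟨2 ^ (n - 2), ?_, dvd_pow_self _ (by omega)⟩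
        rw [hPdef, Nat.choose_self, Nat.cast_one, mul_one, Nat.cast_ofNat, ← pow_succ']
        congr 1; omega
      · obtain ⟨d, hd⟩ := hp.dvd_choose_self two_ne_zero (lt_of_le_of_ne hp.two_le (Ne.symm hp2))
        refine ⟨P * d, by rw [hd]; push_cast; ring, Dvd.dvd.mul_right (dvd_pow_self _ (by omega)) _⟩
    have hco : ∀ j : ℤ, IsCoprime P (1 + j * r) := fun j => by
      obtain ⟨e, he⟩ := hpr
      exact IsCoprime.pow_left ⟨-(j * e), 1, by rw [he]; ring⟩
    have hxp : x ^ p ∈ U := by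
      refine hkU _ ?_
      have h1 : x ^ p * u * (x ^ p)⁻¹ = u := by
        rw [iter_conj ho hn hkx' p]
        conv_rhs => rw [← zpow_one u]
        refine zpow_congr ho ⟨b, ?_⟩
        rw [← hpn, hPdef]; ring
      rw [hk] at h1
      rw [← zpow_iff ho, zpow_sub, zpow_one, mul_inv_eq_one]
      exact h1
    obtain ⟨i, hi⟩ := Subgroup.mem_zpowers_iff.1 (hu.symm ▸ hxp : x ^ p ∈ Subgroup.zpowers u)
    obtain ⟨i', rfl⟩ : (p : ℤ) ∣ i := by
      have h1 : x * u ^ i * x⁻¹ = u ^ i := by rw [hi, ← pow_succ', pow_succ, mul_inv_cancel_right]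
      rw [← conj_zpow, hkx', ← zpow_mul] at h1
      have h2 : u ^ ((1 + P * b) * i - i) = 1 := by rw [zpow_sub, h1, mul_inv_cancel]
      rw [zpow_iff ho, ← hpn, show (1 + P * b) * i - i = P * (b * i) by ring, mul_comm (p : ℤ),
        mul_dvd_mul_iff_left (pow_ne_zero _ hp0)] at h2
      exact ((Nat.prime_iff_prime_int.1 hp).dvd_or_dvd h2).resolve_left hpb
    obtain ⟨s, v, hsv⟩ := hco b
    set t := u ^ (-i' * v) * x with htdef
    have htp : t ^ p = 1 := by
      rw [htdef, twist_pow ho hn hkx' _ r hr, ← hi, ← zpow_add, zpow_iff ho, ← hpn,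
        show (p : ℤ) * (-i' * v * (1 + b * r)) + p * i' = p * (i' * (s * P)) by
          linear_combination ((p : ℤ) * i') * hsv.symm * (1 : ℤ) ]
      exact mul_dvd_mul_left _ (dvd_mul_of_dvd_right (dvd_mul_left _ _) _)
    have htU : t ∉ U := fun h => hxU (by
      have := U.mul_mem (U.inv_mem (zpow_mem huU (-i' * v))) h
      rwa [htdef, inv_mul_cancel_left] at this)
    have htu : t * u * t⁻¹ = u ^ (1 + P * b) := by
      rw [← hkx', htdef]
      calc u ^ (-i' * v) * x * u * (u ^ (-i' * v) * x)⁻¹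
          = u ^ (-i' * v) * (x * u * x⁻¹) * (u ^ (-i' * v))⁻¹ := by group
        _ = _ := by rw [hkx', ← zpow_add, ← zpow_neg, ← zpow_add]; congr 1; ring
    have htM : t ∈ M := mul_mem (hUM (zpow_mem huU _)) hxM
    have hgM : ∀ g ∈ M, ∃ (a : ℤ) (j : ℕ), g = u ^ a * t ^ j := by
      intro g hg
      obtain ⟨b', hb'⟩ := (hM g).1 hg
      obtain ⟨s', v', hsv'⟩ := (Nat.prime_iff_prime_int.1 hp).coprime_iff_not_dvd.2 hpb
      set j : ℕ := ((b' * v') % p).toNat with hj
      have hjd : (p : ℤ) ∣ b * j - b' := by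
        rw [hj, Int.toNat_of_nonneg (Int.emod_nonneg _ hp0), Int.emod_def]
        exact ⟨-(b * (b' * v' / p)) - b' * s', by linear_combination b' * hsv'⟩
      have hw : g * (t ^ j)⁻¹ ∈ U := by
        refine hcommU _ ?_
        have h1 := iter_conj ho hn htu j
        have h2 : (t ^ j)⁻¹ * u ^ (1 + P * b * j) * t ^ j = u := by rw [← h1]; group
        have h3 : g * u * g⁻¹ = u ^ (1 + P * b * j) := by
          rw [hk]; refine zpow_congr ho ?_
          obtain ⟨e, he⟩ := hjd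
          refine ⟨-e, ?_⟩
          rw [← hpn]
          linear_combination hb' - P * he
        calc g * (t ^ j)⁻¹ * u * (g * (t ^ j)⁻¹)⁻¹
            = g * (t ^ j)⁻¹ * u * t ^ j * g⁻¹ := by group
          _ = u := ?_
        have h4 : Commute (t ^ j) u → True := fun _ => trivial
        have e1 : (t ^ j)⁻¹ * u * t ^ j = u ^ (1 - P * b * j) := by
          have h5 : (t ^ j) * u ^ (1 - P * b * j) * (t ^ j)⁻¹ = u := by
            rw [← conj_zpow, h1, ← zpow_mul]
            conv_rhs => rw [← zpow_one u]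
            refine zpow_congr ho ?_
            have hd : (p : ℤ) ^ n ∣ P * P := by
              rw [hPdef, ← pow_add]; exact pow_dvd_pow _ (by omega)
            obtain ⟨c, hc⟩ := hd
            exact ⟨-(c * (b * b * j * j)), by linear_combination (-(b * b * j * j)) * hc⟩
          calc (t ^ j)⁻¹ * u * t ^ j
              = (t ^ j)⁻¹ * ((t ^ j) * u ^ (1 - P * b * j) * (t ^ j)⁻¹) * t ^ j := by rw [h5]
            _ = _ := by group
        rw [mul_assoc g, mul_assoc g, e1, ← conj_zpow, h3, ← zpow_mul]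
        conv_rhs => rw [← zpow_one u]
        refine zpow_congr ho ?_
        have hd : (p : ℤ) ^ n ∣ P * P := by
          rw [hPdef, ← pow_add]; exact pow_dvd_pow _ (by omega)
        obtain ⟨c, hc⟩ := hd
        exact ⟨-(c * (b * b * j * j)), by linear_combination (-(b * b * j * j)) * hc⟩
      obtain ⟨a, ha⟩ := Subgroup.mem_zpowers_iff.1 (hu.symm ▸ hw : g * (t ^ j)⁻¹ ∈ Subgroup.zpowers u)
      exact ⟨a, j, by rw [ha, inv_mul_cancel_right]⟩
    set Z := Subgroup.zpowers (u ^ P) with hZdef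
    set E := Z ⊔ Subgroup.zpowers t with hEdef
    haveI hZn : Z.Normal := ⟨fun w hw g => by
      obtain ⟨a, rfl⟩ := Subgroup.mem_zpowers_iff.1 hw
      rw [← zpow_mul, ← conj_zpow, hk, ← zpow_mul, show k g * (P * a) = P * (k g * a) by ring, zpow_mul]
      exact zpow_mem (Subgroup.mem_zpowers _) _⟩
    have hZp : ∀ w ∈ Z, w ^ p = 1 := by
      intro w hw
      obtain ⟨a, rfl⟩ := Subgroup.mem_zpowers_iff.1 hw
      rw [← zpow_natCast, ← zpow_mul, ← zpow_mul, zpow_iff ho, ← hpn]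
      exact ⟨a, by ring⟩
    have hzt : Commute (u ^ P) t := by
      have h1 : t * u ^ P * t⁻¹ = u ^ P := by
        rw [← conj_zpow, htu, ← zpow_mul]
        refine zpow_congr ho ?_
        have hd : (p : ℤ) ^ n ∣ P * P := by
          rw [hPdef, ← pow_add]; exact pow_dvd_pow _ (by omega)
        obtain ⟨c, hc⟩ := hd
        exact ⟨c * b, by linear_combination b * hc⟩
      exact (mul_inv_eq_iff_eq_mul.1 h1).symm
    have hmemE : ∀ g ∈ E, ∃ a c : ℤ, g = (u ^ P) ^ a * t ^ c := by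
      intro g hg
      rw [hEdef, ← SetLike.mem_coe, Subgroup.normal_mul] at hg
      obtain ⟨w, hw, w', hw', rfl⟩ := hg
      obtain ⟨a, rfl⟩ := Subgroup.mem_zpowers_iff.1 (SetLike.mem_coe.1 hw)
      obtain ⟨c, rfl⟩ := Subgroup.mem_zpowers_iff.1 (SetLike.mem_coe.1 hw')
      exact ⟨a, c, rfl⟩
    have hset : ∀ g : G, g ∈ E ↔ g ∈ M ∧ g ^ p = 1 := by
      intro g
      constructor
      · intro hg
        obtain ⟨a, c, rfl⟩ := hmemE g hg
        refine ⟨mul_mem (zpow_mem (hUM (zpow_mem huU _)) _) (zpow_mem htM _), ?_⟩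
        rw [(hzt.zpow_zpow a c).mul_pow, hZp _ (zpow_mem (Subgroup.mem_zpowers _) _), ← zpow_natCast,
          ← zpow_mul, mul_comm, zpow_mul, zpow_natCast, htp, one_zpow, one_mul]
      · rintro ⟨hgM', hgp⟩
        obtain ⟨a, j, rfl⟩ := hgM g hgM'
        have hy : t ^ j * u * (t ^ j)⁻¹ = u ^ (1 + P * (b * j)) := by
          rw [iter_conj ho hn htu j, mul_assoc]
        rw [twist_pow ho hn hy a r hr, ← pow_mul, mul_comm j, pow_mul, htp, one_pow, mul_one,
          zpow_iff ho, ← hpn, mul_dvd_mul_iff_left hp0] at hgp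
        obtain ⟨a', rfl⟩ := (hco (b * j)).dvd_of_dvd_mul_right hgp
        rw [zpow_mul]
        exact mul_mem ((le_sup_left : Z ≤ E) (zpow_mem (Subgroup.mem_zpowers _) _))
          ((le_sup_right : Subgroup.zpowers t ≤ E) (pow_mem (Subgroup.mem_zpowers t) _))
    have hom : Cfsg.omegaOne p M = E := by
      rw [Cfsg.omegaOne]
      exact le_antisymm ((Subgroup.closure_le _).2 fun g hg => (hset g).2 hg)
        (fun g hg => Subgroup.subset_closure ((hset g).1 hg))
    have htord : orderOf t = p := orderOf_eq_prime htp fun h => htU (h ▸ one_mem U)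
    have hdisj : ∀ N : Subgroup G, N.Normal → N ≤ U → N.relIndex (Subgroup.zpowers t) = p := by
      intro N _ hNU
      rw [← Subgroup.inf_relIndex_right, show N ⊓ Subgroup.zpowers t = ⊥ from ?_, Subgroup.relIndex_bot_left,
        Nat.card_zpowers, htord]
      rw [Subgroup.eq_bot_iff_forall]
      rintro w ⟨hw1, hw2⟩
      by_contra hw
      have hT : Nat.card (Subgroup.zpowers t) = p := by rw [Nat.card_zpowers, htord]
      haveI : Fact (Nat.Prime p) := ⟨hp⟩
      obtain ⟨e, he⟩ := mem_zpowers_of_prime_card (g := (⟨w, hw2⟩ : Subgroup.zpowers t))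
        (g' := ⟨t, Subgroup.mem_zpowers t⟩) hT (fun h => hw (congrArg Subtype.val h))
      refine htU ?_
      have he' : w ^ e = t := congrArg Subtype.val he
      rw [← he']
      exact zpow_mem (hNU hw1) e
    refine ⟨?_, ?_, ?_, ?_⟩
    · have hMeq : M = U ⊔ Subgroup.zpowers t := by
        refine le_antisymm (fun g hg => ?_) (sup_le hUM (Subgroup.zpowers_le.2 htM))
        obtain ⟨a, j, rfl⟩ := hgM g hg
        exact mul_mem ((le_sup_left : U ≤ U ⊔ _) (zpow_mem huU a))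
          ((le_sup_right : Subgroup.zpowers t ≤ U ⊔ _) (pow_mem (Subgroup.mem_zpowers t) j))
      rw [hMeq, Subgroup.relIndex_sup_left, hdisj U inferInstance le_rfl]
    · rw [hom]
      refine ⟨⟨⟨fun a c => Subtype.ext ?_⟩⟩, fun g hg => ((hset g).1 hg).2⟩
      obtain ⟨a1, a2, ha⟩ := hmemE _ a.2
      obtain ⟨c1, c2, hc⟩ := hmemE _ c.2
      show (a : G) * c = c * a
      rw [ha, hc]
      exact (((Commute.zpow_zpow_self _ a1 c1).mul_right (hzt.zpow_zpow a1 c2)).mul_left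
        ((hzt.symm.zpow_zpow a2 c1).mul_right (Commute.zpow_zpow_self _ a2 c2))).eq
    · rw [hom]
      have h1 : Z ≤ U := Subgroup.zpowers_le.2 (zpow_mem huU _)
      have hZcard : Nat.card Z = p := by
        rw [hZdef, Nat.card_zpowers]
        refine orderOf_eq_prime (hZp _ (Subgroup.mem_zpowers _)) fun h => ?_
        rw [zpow_iff ho, ← hpn] at h
        have h' : (p : ℤ) * P ∣ 1 * P := by rw [one_mul]; exact h
        rw [mul_dvd_mul_iff_right (pow_ne_zero _ hp0)] at h'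
        exact hp.one_lt.ne' (Nat.dvd_one.1 (Int.natCast_dvd_natCast.1 (by exact_mod_cast h')))
      rw [← Subgroup.relIndex_bot_left, ← Subgroup.relIndex_mul_relIndex ⊥ Z E bot_le le_sup_left,
        Subgroup.relIndex_bot_left, hZcard, hEdef, Subgroup.relIndex_sup_left, hdisj Z inferInstance h1, pow_two]
    · rw [hom]
      haveI hEn : E.Normal := ⟨fun g hg w => by
        obtain ⟨hgM', hgp⟩ := (hset g).1 hg
        refine (hset _).2 ⟨(hM _).2 ?_, by rw [conj_pow, hgp, mul_one, mul_inv_cancel]⟩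
        obtain ⟨c1, h1⟩ := hkmul (w * g) w⁻¹
        obtain ⟨c2, h2⟩ := hkmul w g
        obtain ⟨c3, h3⟩ := hkmul w w⁻¹
        obtain ⟨c4, h4⟩ := (hM g).1 hgM'
        rw [mul_inv_cancel] at h3
        obtain ⟨c5, h5⟩ := hkself 1 (one_mem U)
        exact ⟨(p : ℤ) * c1 + p * c2 * k w⁻¹ + c4 * k w * k w⁻¹ + (p * (c5 - c3)), by
          rw [← hpn] at h1 h2 h3 h5
          linear_combination h1 + (k w⁻¹) * h2 + (k w * k w⁻¹) * h4 + h5 - h3⟩⟩
      rw [Subgroup.characteristic_iff_le_comap]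
      intro φ g hg
      rw [Subgroup.mem_comap]
      refine (hset _).2 ⟨(hM _).2 ?_, by rw [← map_pow, ((hset g).1 hg).2, map_one]⟩
      have hcE : ⁅g, φ.symm u⁆ ∈ E :=
        Subgroup.commutator_le_left E ⊤ (Subgroup.commutator_mem_commutator hg (Subgroup.mem_top _))
      have h1 : φ ⁅g, φ.symm u⁆ = u ^ (k (φ g) - 1) := by
        rw [map_commutatorElement, MulEquiv.apply_symm_apply, commutatorElement_def, hk, zpow_sub, zpow_one]
      have h2 : (u ^ (k (φ g) - 1)) ^ p = 1 := by rw [← h1, ← map_pow, ((hset _).1 hcE).2, map_one]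
      rw [← zpow_natCast, ← zpow_mul, zpow_iff ho, ← hpn, mul_comm (k _ - 1), mul_dvd_mul_iff_left hp0] at h2
      exact h2
  · -- maximal class
    left
    have hp2 : p = 2 := by
      by_contra h
      exact hB ⟨⟨_, hodd h _ hx₀', hx₀⟩, fun e => absurd e h⟩
    subst hp2
    have hA1 : ∀ h : G, h ∉ U → h ^ 2 ∈ U → (2 : ℤ) ^ (n - 1) ∣ k h + 1 ∧ (n = 2 → (2 : ℤ) ^ n ∣ k h + 1) := by
      intro h hhU hh2
      have hn2 : n = 2 → (2 : ℤ) ^ n ∣ k h + 1 := by
        rintro rfl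
        have h1 := hkp h
        have h2 : ¬ ((2 : ℕ) : ℤ) ^ 2 ∣ k h - 1 := fun hd => hhU (hkU h hd)
        norm_num at h1 h2 ⊢
        omega
      refine ⟨?_, hn2⟩
      rcases Nat.lt_or_ge 2 n with hn3 | hn3
      · have h2 := hkx h hh2
        rw [pow_two, Nat.cast_ofNat] at h2
        rcases Cfsg.Agent.CentFour.modEq_of_sq_modEq_one (by omega) h2 with h3 | h3
        · exact absurd ⟨⟨h, (hM h).2 (by exact_mod_cast h3), hhU⟩, fun _ => hn3⟩ hB
        · exact h3
      · exact (pow_dvd_pow _ (by omega)).trans (hn2 (by omega))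
    have hsq : ∀ g : G, g ^ 2 ∈ U := by
      intro g
      by_contra hg
      obtain ⟨j, hj1, hj2⟩ := hstep _ hg
      rcases Nat.lt_or_ge 2 n with hn3 | hn3
      · obtain ⟨h1, -⟩ := hA1 _ hj1 hj2
        have hd4 : (4 : ℤ) ∣ k ((g ^ 2) ^ 2 ^ j) + 1 :=
          (show (4 : ℤ) ∣ 2 ^ (n - 1) from ⟨2 ^ (n - 3), by
            rw [show (4 : ℤ) = 2 ^ 2 by norm_num, ← pow_add]; congr 1; omega⟩).trans h1
        obtain ⟨c, hc⟩ := hkpow g (2 * 2 ^ j)
        rw [pow_mul] at hc
        obtain ⟨e, he⟩ := hkp g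
        norm_num at hc he
        have hsq4 : (4 : ℤ) ∣ k g ^ (2 * 2 ^ j) - 1 := by
          rw [pow_mul]
          have h5 : (4 : ℤ) ∣ k g ^ 2 - 1 := ⟨e * (e + 1), by
            rw [show k g = 1 + 2 * e by omega]; ring⟩
          exact h5.trans (sub_one_dvd_pow_sub_one _ _)
        have h6 : (4 : ℤ) ∣ 2 ^ n * c := Dvd.dvd.mul_right ⟨2 ^ (n - 2), by
            rw [show (4 : ℤ) = 2 ^ 2 by norm_num, ← pow_add]; congr 1; omega⟩ c
        rw [pow_mul] at hsq4
        have hd : (4 : ℤ) ∣ k ((g ^ 2) ^ 2 ^ j) - 1 := by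
          have h7 : k ((g ^ 2) ^ 2 ^ j) - 1 = 2 ^ n * c + ((k g ^ 2) ^ 2 ^ j - 1) := by
            linear_combination hc
          rw [h7]; exact dvd_add h6 hsq4
        omega
      · obtain rfl : n = 2 := by omega
        refine hg (hkU _ ?_)
        obtain ⟨c, hc⟩ := hkpow g 2
        obtain ⟨e, he⟩ := hkp g
        norm_num at hc he ⊢
        rw [show k g = 1 + 2 * e by omega] at hc
        exact ⟨c + e * (e + 1), by linear_combination hc⟩
    obtain ⟨y, hy⟩ : ∃ y, y ∉ U := ⟨g₀, hg₀⟩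
    obtain ⟨hy1, hy2⟩ := hA1 y hy (hsq y)
    have hprod : ∀ g : G, g ∉ U → g * y ∈ U := by
      intro g hg
      obtain ⟨hg1, hg2⟩ := hA1 g hg (hsq g)
      obtain ⟨c, hc⟩ := hkmul g y
      rcases Nat.lt_or_ge 2 n with hn3 | hn3
      · by_contra hgy
        obtain ⟨h3, -⟩ := hA1 _ hgy (hsq _)
        obtain ⟨c1, e1⟩ := hg1
        obtain ⟨c2, e2⟩ := hy1
        obtain ⟨c3, e3⟩ := h3
        have hkey : (2 : ℤ) ^ (n - 1) ∣ 2 := ⟨c3 - 2 * c - c1 * k y + c2, by
          rw [← hpn] at hc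
          norm_num at hc
          linear_combination e3 - hc - (k y) * e1 + e2⟩
        have := Int.le_of_dvd (by norm_num) hkey
        have h4 : (2 : ℤ) ^ 2 ≤ 2 ^ (n - 1) := pow_le_pow_right₀ (by norm_num) (by omega)
        linarith
      · obtain rfl : n = 2 := by omega
        refine hkU _ ?_
        obtain ⟨c1, e1⟩ := hg2 rfl
        obtain ⟨c2, e2⟩ := hy2 rfl
        norm_num at hc ⊢
        exact ⟨c + c1 * k y - c2, by linear_combination hc + (k y) * e1 - e2⟩
    have hidx : U.index = 2 := by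
      rw [Subgroup.index_eq_two_iff]
      refine ⟨y, fun b => ?_⟩
      by_cases hb : b ∈ U
      · exact Or.inr ⟨hb, fun h => hy ((U.mul_mem_cancel_left hb).1 h)⟩
      · exact Or.inl ⟨hprod b hb, hb⟩
    have hcard : Nat.card G = 2 ^ (n + 1) := by rw [← U.card_mul_index, hUn, hidx, pow_succ]
    refine ⟨rfl, hcard, ?_⟩
    have hclos : ∀ y' : G, y' ∉ U → (⊤ : Subgroup G) = Subgroup.closure ({u, y'} : Set G) := by
      intro y' hy'
      refine (eq_top_iff.2 fun g _ => ?_).symm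
      have hUle : U ≤ Subgroup.closure ({u, y'} : Set G) := by
        rw [← hu, Subgroup.zpowers_le]; exact Subgroup.subset_closure (by simp)
      have hyc : y' ∈ Subgroup.closure ({u, y'} : Set G) := Subgroup.subset_closure (by simp)
      by_cases hg : g ∈ U
      · exact hUle hg
      · have h1 : g * y' ∈ U := (Subgroup.mul_mem_iff_of_index_two hidx).2 (iff_of_false hg hy')
        have := mul_mem (hUle h1) (inv_mem hyc)
        rwa [mul_inv_cancel_right] at this
    have hnmem : y ∉ Subgroup.zpowers u := hu.symm ▸ hy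
    obtain ⟨i, hi⟩ := Subgroup.mem_zpowers_iff.1 (hu.symm ▸ hsq y : y ^ 2 ∈ Subgroup.zpowers u)
    have hfix : (2 : ℤ) ^ n ∣ i * (k y - 1) := by
      have h1 : y * u ^ i * y⁻¹ = u ^ i := by rw [hi]; group
      rw [← conj_zpow, hk, ← zpow_mul] at h1
      have h2 : u ^ (k y * i - i) = 1 := by rw [zpow_sub, h1, mul_inv_cancel]
      rw [zpow_iff ho, show k y * i - i = i * (k y - 1) by ring] at h2
      exact_mod_cast h2
    have hz2 : ∀ c : ℤ, (2 : ℤ) ^ n ∣ c → u ^ c = 1 := fun c hc => (zpow_iff ho c).2 (by exact_mod_cast hc)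
    have h2n : (2 : ℤ) * 2 ^ (n - 1) = 2 ^ n := by rw [← pow_succ']; congr 1; omega
    by_cases hinv : (2 : ℤ) ^ n ∣ k y + 1
    · have hyu : y * u * y⁻¹ = u⁻¹ := by
        rw [hk, ← zpow_neg_one]; exact zpow_congr ho (by simpa using hinv)
      obtain ⟨c, hc⟩ : (2 : ℤ) ^ (n - 1) ∣ i := by
        have h3 : (2 : ℤ) ^ n ∣ 2 * i := by
          obtain ⟨c1, e1⟩ := hfix
          obtain ⟨c2, e2⟩ := hinv
          exact ⟨i * c2 - c1, by linear_combination i * e2 - e1⟩
        rw [← h2n] at h3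
        exact (mul_dvd_mul_iff_left two_ne_zero).1 h3
      rcases Int.even_or_odd' c with ⟨d, hd | hd⟩
      · refine Or.inl ⟨2 ^ n, ?_⟩
        obtain ⟨e⟩ := Cfsg.Agent.TwoLift.dihedral_equiv ho (g := y) (by
          rw [← pow_two, ← hi, hc, hd]; exact hz2 _ ⟨d, by rw [← h2n]; ring⟩) hyu hnmem (hclos y hy)
        exact ⟨Subgroup.topEquiv.symm.trans e⟩
      · refine Or.inr (Or.inl ⟨2 ^ (n - 1), ?_⟩)
        obtain ⟨e⟩ := Cfsg.Agent.TwoLift.quaternion_equiv (k := 2 ^ (n - 1))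
          (show orderOf u = 2 * 2 ^ (n - 1) by rw [ho, ← pow_succ']; congr 1; omega) (g := y) (by
          rw [← pow_two, ← hi, hc, hd, ← zpow_natCast]
          refine zpow_congr ho ⟨d, ?_⟩
          push_cast; rw [← h2n]; ring) hyu hnmem (hclos y hy)
        exact ⟨Subgroup.topEquiv.symm.trans e⟩
    · have hn3 : 3 ≤ n := by
        by_contra h
        exact hinv (hy2 (by omega))
      obtain ⟨c, hc⟩ := hy1
      obtain ⟨c0, hc0⟩ : Odd c := by
        rcases Int.even_or_odd' c with ⟨d, hd | hd⟩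
        · exact absurd ⟨d, by rw [hc, hd, ← h2n]; ring⟩ hinv
        · exact ⟨d, hd⟩
      obtain ⟨d, hd⟩ : (2 : ℤ) ^ (n - 1) ∣ i := by
        have h22 : (2 : ℤ) * 2 ^ (n - 2) = 2 ^ (n - 1) := by rw [← pow_succ']; congr 1; omega
        have h3 : (2 : ℤ) ^ (n - 1) ∣ i * (2 ^ (n - 2) * c - 1) := by
          have h4 := hfix
          rw [show i * (k y - 1) = 2 * (i * (2 ^ (n - 2) * c - 1)) by
            linear_combination i * hc - (i * c) * h22, ← h2n] at h4
          exact (mul_dvd_mul_iff_left two_ne_zero).1 h4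
        have hco2 : IsCoprime ((2 : ℤ) ^ (n - 1)) (2 ^ (n - 2) * c - 1) := by
          refine IsCoprime.pow_left ⟨2 ^ (n - 3) * c, -1, ?_⟩
          have h23 : (2 : ℤ) * 2 ^ (n - 3) = 2 ^ (n - 2) := by rw [← pow_succ']; congr 1; omega
          linear_combination c * h23
        exact hco2.dvd_of_dvd_mul_right h3
      refine Or.inr (Or.inr ⟨n, hn3, hcard, ?_⟩)
      -- an involution outside `U`
      obtain ⟨e, he⟩ : ∃ e : ℤ, (2 : ℤ) ^ n ∣ e * (1 + k y) + i := by
        rcases Int.even_or_odd' d with ⟨d', h | h⟩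
        · exact ⟨0, d', by rw [hd, h, ← h2n]; ring⟩
        · exact ⟨1, c0 + d' + 1, by rw [hd, h, ← h2n]; linear_combination hc + (2 ^ (n - 1) : ℤ) * hc0⟩
      refine ⟨u, u ^ e * y, by rw [ho], orderOf_eq_prime ?_ ?_, ?_⟩
      · calc (u ^ e * y) ^ 2 = u ^ e * (y * u ^ e * y⁻¹) * y ^ 2 := by rw [pow_two, pow_two]; group
          _ = 1 := by
            rw [← conj_zpow, hk, ← zpow_mul, ← hi, ← zpow_add, ← zpow_add]
            exact hz2 _ (by rwa [show e + k y * e + i = e * (1 + k y) + i by ring])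
      · intro h
        exact hy (by rw [mul_eq_one_iff_inv_eq.1 h |>.symm]; exact inv_mem (zpow_mem huU e))
      · calc u ^ e * y * u * (u ^ e * y)⁻¹ = u ^ e * (y * u * y⁻¹) * (u ^ e)⁻¹ := by group
          _ = _ := by
            rw [hk, ← zpow_neg, ← zpow_add, ← zpow_add, ← zpow_natCast]
            refine zpow_congr ho ⟨c0, ?_⟩
            rw [Nat.cast_sub (Nat.one_le_two_pow)]
            push_cast
            rw [← h2n]
            linear_combination hc + (2 ^ (n - 1) : ℤ) * hc0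

end Cfsg.Agent.S3761
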