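import Cfsg.Statements.S0519
import Cfsg.Agent.S3761
import Cfsg.Agent.Lib.OddOrder.Nilpotent
-- import your own Cfsg.Agent.* helpers here

set_option autoImplicit false
open Cfsg

namespace Cfsg.Agent.S0519

open scoped commutatorElement

/-- Let P be a finite p-group in which every abelian normal subgroup is cyclic, but which has a non-cyclic abelian
subgroup. Then p = 2 and P is generalized quaternion, dihedral of order at least 16, or quasi-dihedral. -/
theorem result {P : Type*} [Group P] [Finite P] (p : ℕ) [Fact p.Prime]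
    (hP : IsPGroup p P) (hn : ∀ A : Subgroup P, A.Normal → IsMulCommutative A → IsCyclic A)
    (hm : ∃ B : Subgroup P, IsMulCommutative B ∧ ¬ IsCyclic B) :
    p = 2 ∧ ((∃ n : ℕ, Nonempty (P ≃* QuaternionGroup n)) ∨ (∃ n : ℕ, 8 ≤ n ∧ Nonempty (P ≃* DihedralGroup n)) ∨
      Cfsg.IsQuasiDihedral P) := by
  classical
  have hna : ¬ IsMulCommutative P := fun hab => by
    obtain ⟨B, -, hBn⟩ := hm
    haveI := hn ⊤ inferInstance (.of_setLike_mul_comm fun a _ b _ => hab.is_comm.comm a b)
    have hP' : IsCyclic P :=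
      isCyclic_of_surjective Subgroup.topEquiv.toMonoidHom Subgroup.topEquiv.surjective
    exact hBn inferInstance
  obtain ⟨U, -, hU⟩ := Finite.exists_le_maximal (a := (⊥ : Subgroup P))
    (p := fun U : Subgroup P => U.Normal ∧ IsMulCommutative ↥U)
    ⟨inferInstance, inferInstance⟩
  obtain ⟨⟨hUn, hUc⟩, hUmax⟩ := hU
  haveI := hUn
  have hcyc := hn U hUn hUc
  have hC : Subgroup.centralizer (U : Set P) = U := by
    haveI := hUc
    refine le_antisymm ?_ (Subgroup.le_centralizer U)
    haveI := hP.isNilpotent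
    by_contra hle
    obtain ⟨x, hxC, hxU, hx⟩ := Cfsg.Agent.OddOrder.Nilp.exists_mem_commutator_le hle
    have hn' : (U ⊔ Subgroup.zpowers x).Normal := by
      refine Subgroup.normalizer_eq_top_iff.1 (top_le_iff.1 (Subgroup.le_normalizer_iff.2 fun g _ y hy => ?_))
      have h1 : (MulAut.conj g).toMonoidHom y ∈ (U ⊔ Subgroup.zpowers x).map (MulAut.conj g).toMonoidHom :=
        Subgroup.mem_map_of_mem _ hy
      refine (?_ : (U ⊔ Subgroup.zpowers x).map (MulAut.conj g).toMonoidHom ≤ U ⊔ Subgroup.zpowers x) h1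
      rw [Subgroup.map_sup, MonoidHom.map_zpowers]
      refine sup_le ?_ (Subgroup.zpowers_le.2 ?_)
      · rintro _ ⟨c, hc, rfl⟩
        exact Subgroup.mem_sup_left (hUn.conj_mem c hc g)
      · have h2 : g * x * g⁻¹ = ⁅x, g⁆⁻¹ * x := by rw [commutatorElement_def]; group
        change g * x * g⁻¹ ∈ _
        rw [h2]
        exact mul_mem (Subgroup.mem_sup_left (inv_mem (hx g)))
          (Subgroup.mem_sup_right (Subgroup.mem_zpowers x))
    have hc' : IsMulCommutative ↥(U ⊔ Subgroup.zpowers x) := by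
      rw [show U ⊔ Subgroup.zpowers x = Subgroup.closure ((U : Set P) ∪ {x}) by
        rw [Subgroup.closure_union, Subgroup.closure_eq, Subgroup.zpowers_eq_closure]]
      refine Subgroup.isMulCommutative_closure ?_
      have hxU' : ∀ a ∈ U, a * x = x * a := fun a ha => Subgroup.mem_centralizer_iff.1 hxC a ha
      rintro a (ha | ha) b (hb | hb)
      · exact setLike_mul_comm ha hb
      · rw [Set.mem_singleton_iff.1 hb]; exact hxU' a ha
      · rw [Set.mem_singleton_iff.1 ha]; exact (hxU' b hb).symm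
      · rw [Set.mem_singleton_iff.1 ha, Set.mem_singleton_iff.1 hb]
    exact hxU (hUmax ⟨hn', hc'⟩ le_sup_left (Subgroup.mem_sup_right (Subgroup.mem_zpowers x)))
  obtain ⟨n, hn2⟩ := IsPGroup.iff_card.1 (hP.to_subgroup U)
  rcases Cfsg.Agent.S3761.result hP hna U hcyc n hn2 hC with ⟨hp2, hcard, h⟩ | ⟨-, hE, hEc, hchar⟩
  · refine ⟨hp2, ?_⟩
    rcases h with ⟨m, ⟨e⟩⟩ | ⟨m, ⟨e⟩⟩ | h
    · refine Or.inr (Or.inl ⟨m, ?_, ⟨e⟩⟩)
      by_contra hm8
      have hm1 : 2 * m = 2 ^ (n + 1) := by
        rw [← hcard, Nat.card_congr e.toEquiv, DihedralGroup.nat_card]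
      have hmn : m = 2 ^ n := by rw [pow_succ'] at hm1; omega
      subst hmn
      have hn3 : n < 3 := by
        by_contra h3
        exact hm8 (le_trans (by norm_num) (Nat.pow_le_pow_right (by norm_num) (Nat.le_of_not_lt h3)))
      have hcomm : n ≤ 1 → False := fun hn1 => hna ⟨⟨fun a b => e.injective (by
        rw [map_mul, map_mul]
        interval_cases n
        · generalize e a = x
          generalize e b = y
          revert x y
          decide
        · generalize e a = x
          generalize e b = y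
          revert x y
          decide)⟩⟩
      have hn4 : n = 2 := by
        by_contra h2
        exact hcomm (by omega)
      subst hn4
      let W : Subgroup (DihedralGroup (2 ^ 2)) :=
        { carrier := {x | x = 1 ∨ x = DihedralGroup.r 2 ∨ x = DihedralGroup.sr 0 ∨ x = DihedralGroup.sr 2}
          one_mem' := Or.inl rfl
          mul_mem' := by decide
          inv_mem' := by decide }
      have hW : ∀ x : DihedralGroup (2 ^ 2), x ∈ W ↔
          (x = 1 ∨ x = DihedralGroup.r 2 ∨ x = DihedralGroup.sr 0 ∨ x = DihedralGroup.sr 2) :=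
        fun x => Iff.rfl
      have hWn : ∀ g x : DihedralGroup (2 ^ 2),
          (x = 1 ∨ x = DihedralGroup.r 2 ∨ x = DihedralGroup.sr 0 ∨ x = DihedralGroup.sr 2) →
          (g * x * g⁻¹ = 1 ∨ g * x * g⁻¹ = DihedralGroup.r 2 ∨ g * x * g⁻¹ = DihedralGroup.sr 0 ∨
            g * x * g⁻¹ = DihedralGroup.sr 2) := by decide
      have hWc : ∀ x y : DihedralGroup (2 ^ 2),
          (x = 1 ∨ x = DihedralGroup.r 2 ∨ x = DihedralGroup.sr 0 ∨ x = DihedralGroup.sr 2) →
          (y = 1 ∨ y = DihedralGroup.r 2 ∨ y = DihedralGroup.sr 0 ∨ y = DihedralGroup.sr 2) →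
          x * y = y * x ∧ x * x = 1 := by decide
      have hsq : ∀ a ∈ W.comap e.toMonoidHom, a ^ 2 = 1 := fun a ha => e.injective (by
        rw [map_one, map_pow, pow_two (e a)]; exact (hWc _ _ ha ha).2)
      have := hn (W.comap e.toMonoidHom) ⟨fun a ha g => by
          show e (g * a * g⁻¹) ∈ W
          rw [map_mul, map_mul, map_inv]
          exact hWn _ _ ha⟩
        (.of_setLike_mul_comm fun a ha b hb => e.injective (by
          rw [map_mul, map_mul]; exact (hWc _ _ ha hb).1))
      obtain ⟨g, hg⟩ := IsCyclic.exists_generator (α := ↥(W.comap e.toMonoidHom))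
      have h4 : Nat.card ↥(W.comap e.toMonoidHom) ≤ 2 := by
        rw [← orderOf_eq_card_of_forall_mem_zpowers hg]
        exact Nat.le_of_dvd two_pos (orderOf_dvd_of_pow_eq_one (Subtype.ext (hsq g g.2)))
      have h5 : Nat.card ↥(W.comap e.toMonoidHom) = 4 := by
        rw [Nat.card_congr (e.toEquiv.subtypeEquiv (fun a => Iff.rfl) :
          ↥(W.comap e.toMonoidHom) ≃ ↥W)]
        rw [show Nat.card ↥W = Nat.card {x : DihedralGroup (2 ^ 2) //
          x = 1 ∨ x = DihedralGroup.r 2 ∨ x = DihedralGroup.sr 0 ∨ x = DihedralGroup.sr 2} from rfl,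
          Nat.card_eq_fintype_card]
        decide
      omega
    · exact Or.inl ⟨m, ⟨e⟩⟩
    · exact Or.inr (Or.inr h)
  · exfalso
    haveI := hchar
    set E := Cfsg.omegaOne p (Subgroup.centralizer (Cfsg.powerClosure p 1 U : Set P)) with hEdef
    haveI := hn E inferInstance hE.1
    obtain ⟨g, hg⟩ := IsCyclic.exists_generator (α := ↥E)
    have h1 : orderOf g ∣ p := orderOf_dvd_of_pow_eq_one (Subtype.ext (hE.2 g g.2))
    rw [orderOf_eq_card_of_forall_mem_zpowers hg, hEc] at h1
    have h2 := Nat.le_of_dvd (Fact.out : p.Prime).pos h1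
    nlinarith [(Fact.out : p.Prime).two_le]

end Cfsg.Agent.S0519
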