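import Cfsg.Statements.S0580
import Cfsg.Agent.Lib.Solvable.Fitting

set_option autoImplicit false
open scoped Pointwise commutatorElement
open Cfsg

namespace Cfsg.Agent.S0580

/-- If every maximal subgroup of a finite group has prime index, then the group is solvable. -/
theorem result {G : Type*} [Group G] [Finite G] (h : ∀ M : Subgroup G, IsCoatom M → M.index.Prime) : Group.IsSolvable G := by
  induction hc : Nat.card G using Nat.strong_induction_on generalizing G with
  | _ n ih =>
  subst hc
  rcases subsingleton_or_nontrivial G with hG | hG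
  · infer_instance
  have hne : (Nat.card G).primeFactors.Nonempty :=
    Nat.nonempty_primeFactors.2 Finite.one_lt_card
  set q := (Nat.card G).primeFactors.max' hne with hqdef
  obtain ⟨hq, hqd, -⟩ := Nat.mem_primeFactors.1 ((Nat.card G).primeFactors.max'_mem hne)
  have : Fact q.Prime := ⟨hq⟩
  obtain ⟨S⟩ := (inferInstance : Nonempty (Sylow q G))
  have hSn : (S : Subgroup G).Normal := by
    by_contra hnn
    obtain ⟨M, hM, hle⟩ := (eq_top_or_exists_le_coatom
      (Subgroup.normalizer ((S : Subgroup G) : Set G))).resolve_left
      (fun h => hnn (Subgroup.normalizer_eq_top_iff.1 h))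
    have hSM : (S : Subgroup G) ≤ M := Subgroup.le_normalizer.trans hle
    have hN := (Subgroup.normalizer ((S : Subgroup G) : Set G)).relIndex_mul_index hle
    replace hN := hN.trans S.card_eq_index_normalizer.symm
    have h1 : (Subgroup.normalizer ((S : Subgroup G) : Set G)).relIndex M =
        Nat.card (Sylow q M) := by
      rw [Sylow.card_eq_index_normalizer (S.subtype hSM)]
      change _ = (Subgroup.normalizer (((S : Subgroup G).subgroupOf M : Subgroup M) : Set M)).index
      rw [← Subgroup.subgroupOf_normalizer_eq hSM]
      rfl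
    have h2 := (card_sylow_modEq_one q G)
    rw [← hN, h1] at h2
    have h3 : M.index ≡ 1 [MOD q] := by
      have := (Nat.ModEq.mul_right M.index (card_sylow_modEq_one q M)).symm.trans h2
      rwa [one_mul] at this
    have hr := h M hM
    have hle : M.index ≤ q := Finset.le_max' _ _ (Nat.mem_primeFactors.2
      ⟨hr, M.index_dvd_card, Nat.card_pos.ne'⟩)
    rcases hle.lt_or_eq with hlt | heq
    · exact hr.one_lt.ne' (Nat.ModEq.eq_of_lt_of_lt h3 hlt hq.one_lt)
    · rw [heq, Nat.ModEq, Nat.mod_self, Nat.one_mod_eq_one.2 hq.one_lt.ne'] at h3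
      exact zero_ne_one h3
  have : Group.IsNilpotent (S : Subgroup G) := S.isPGroup'.isNilpotent
  have hS1 : 1 < Nat.card (S : Subgroup G) := by
    rw [S.card_eq_multiplicity]
    exact Nat.one_lt_pow (Nat.Prime.factorization_pos_of_dvd hq Nat.card_pos.ne' hqd).ne' hq.one_lt
  have hlt : Nat.card (G ⧸ (S : Subgroup G)) < Nat.card G := by
    have := (S : Subgroup G).card_eq_card_quotient_mul_card_subgroup
    have := Nat.card_pos (α := G ⧸ (S : Subgroup G))
    nlinarith
  have hsq : Group.IsSolvable (G ⧸ (S : Subgroup G)) := ih _ hlt (fun M hM => by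
    have hsur := QuotientGroup.mk'_surjective (S : Subgroup G)
    rw [← Subgroup.index_comap_of_surjective _ hsur]
    refine h _ ⟨fun hh => hM.1 (Subgroup.comap_injective hsur (hh.trans (Subgroup.comap_top _).symm)),
      fun B hB => ?_⟩
    have hker : (QuotientGroup.mk' (S : Subgroup G)).ker ≤ B :=
      le_trans (fun x hx => by rw [Subgroup.mem_comap]; exact (MonoidHom.mem_ker.1 hx).symm ▸ M.one_mem)
        hB.le
    have := hM.2 (B.map (QuotientGroup.mk' _)) (by
      rw [← Subgroup.comap_lt_comap_of_surjective hsur, Subgroup.comap_map_eq_self hker]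
      exact hB)
    rw [← Subgroup.comap_map_eq_self hker, this, Subgroup.comap_top]) rfl
  exact solvable_of_ker_le_range (S : Subgroup G).subtype (QuotientGroup.mk' (S : Subgroup G))
    (by rw [QuotientGroup.ker_mk', Subgroup.range_subtype])

end Cfsg.Agent.S0580
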