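import Cfsg.Statements.S3612
import Cfsg.Agent.Lib.HalfNorm.Netto

set_option autoImplicit false
set_option linter.style.haveILetI false
open Cfsg

namespace Cfsg.Agent.S3612

open MulAction
open scoped Pointwise

variable {G Ω : Type*} [Group G] [MulAction G Ω] (α : Ω)

theorem line_of_block (D : Cfsg.Agent.HalfNorm.Tri G Ω) (htr : IsPretransitive G Ω)
    {B : Set ↥(SubMulAction.ofStabilizer G α)} (hB : IsBlock ↥(stabilizer G α) B)
    {b c d : ↥(SubMulAction.ofStabilizer G α)} (hb : b ∈ B) (hc : c ∈ B) (hd : d ∉ B)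
    (hT : D.T α b c) : ∀ x y z w, D.T x y z → D.T x y w → z ≠ w → D.T x z w := by
  let X := ↥(SubMulAction.ofStabilizer G α)
  let E : X → X → Prop := fun x y => ∃ g : stabilizer G α, x ∈ g • B ∧ y ∈ g • B
  have Einv : ∀ (g : stabilizer G α) {x y : X}, E x y → E (g • x) (g • y) := by
    rintro g x y ⟨h, hx, hy⟩
    exact ⟨g * h, by rw [mul_smul]; exact Set.smul_mem_smul_set hx,
      by rw [mul_smul]; exact Set.smul_mem_smul_set hy⟩
  have Etrans : ∀ {x y z : X}, E x y → E x z → E y z := by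
    rintro x y z ⟨g, gx, gy⟩ ⟨h, hx, hz⟩
    rcases hB.smul_eq_smul_or_disjoint g h with e | e
    · exact ⟨g, gy, e ▸ hz⟩
    · exact absurd hx (Set.disjoint_left.1 e gx)
  have Ebc : E b c := ⟨1, by rwa [one_smul], by rwa [one_smul]⟩
  have Ebd : ¬ E b d := by
    rintro ⟨g, gb, gd⟩
    rcases hB.smul_eq_smul_or_disjoint g 1 with e | e
    · exact hd (by rw [e, one_smul] at gd; exact gd)
    · exact Set.disjoint_left.1 e gb (by rwa [one_smul])
  have mv : ∀ {x y x' y' : X}, (∃ g : G, g • α = α ∧ g • (x : Ω) = x' ∧ g • (y : Ω) = y') →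
      E x y → E x' y' := by
    rintro x y x' y' ⟨g, ga, gx, gy⟩ h
    have := Einv ⟨g, ga⟩ h
    rwa [show (⟨g, ga⟩ : stabilizer G α) • x = x' from Subtype.ext gx,
      show (⟨g, ga⟩ : stabilizer G α) • y = y' from Subtype.ext gy] at this
  have hne : ∀ x : X, α ≠ x := fun x => Ne.symm x.2
  have TE : ∀ {x y : X}, D.T α x y → E x y := fun h => mv (D.orbit hT h) Ebc
  have ET : ∀ {x y : X}, x ≠ y → E x y → D.T α x y := by
    intro x y hxy h
    by_contra hn
    by_cases hTd : D.T α b d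
    · exact Ebd (TE hTd)
    · refine Ebd (mv (D.orbit' (hne x) (hne y) (fun e => hxy (Subtype.ext e)) hn (hne b) (hne d)
        (fun e => hd ?_) hTd) h)
      rwa [← Subtype.ext e]
  intro x y z w h1 h2 hzw
  obtain ⟨g, hg⟩ := exists_smul_eq G x α
  have k1 := D.inv g h1
  have k2 := D.inv g h2
  rw [hg] at k1 k2
  let y' : X := ⟨g • y, (D.ne12 k1).symm⟩
  let z' : X := ⟨g • z, (D.ne13 k1).symm⟩
  let w' : X := ⟨g • w, (D.ne13 k2).symm⟩
  have h := ET (x := z') (y := w')
    (fun e => hzw (smul_left_cancel g (congrArg Subtype.val e)))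
    (Etrans (TE (x := y') k1) (TE (x := y') k2))
  refine (D.inv_iff g).1 ?_
  rw [hg]
  exact h

/-- Let G be an insoluble group acting faithfully and transitively on a finite set of prime size p, and suppose the normalizer of a Sylow p-subgroup of G has order p(p-1)/2. If p > 7, then the stabilizer of a point acts primitively on the remaining p - 1 points. -/
theorem result {G Ω : Type*} [Group G] [Finite G] [MulAction G Ω] [FaithfulSMul G Ω] [Finite Ω]
    (p : ℕ) (hp : p.Prime) (hΩ : Nat.card Ω = p) (htrans : MulAction.IsPretransitive G Ω)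
    (hins : ¬ Group.IsSolvable G) (P : Sylow p G)
    (hN : 2 * Nat.card ↥(Subgroup.normalizer ((P : Subgroup G) : Set G)) = p * (p - 1))
    (hp7 : 7 < p) (α : Ω) :
    MulAction.IsPreprimitive ↥(MulAction.stabilizer G α) ↥(SubMulAction.ofStabilizer G α) := by
  haveI : Fact p.Prime := ⟨hp⟩
  haveI := htrans
  have h2 : IsMultiplyPretransitive G Ω 2 := (Cfsg.Agent.PermPrime.burnside hΩ).resolve_left hins
  by_cases h3 : IsMultiplyPretransitive G Ω 3
  · exact isPreprimitive_of_is_two_pretransitive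
      (SubMulAction.ofStabilizer.isMultiplyPretransitive.1 h3)
  haveI : IsPretransitive ↥(stabilizer G α) ↥(SubMulAction.ofStabilizer G α) :=
    is_one_pretransitive_iff.1 (SubMulAction.ofStabilizer.isMultiplyPretransitive.1 h2)
  obtain ⟨⟨C⟩, -⟩ := Cfsg.Agent.HalfNorm.exists_coords hΩ P hN
  obtain ⟨D⟩ := Cfsg.Agent.HalfNorm.exists_tri hΩ hins C h3
  refine ⟨fun {B} hB => ?_⟩
  by_contra hne
  simp only [IsTrivialBlock, not_or] at hne
  obtain ⟨hs, hu⟩ := hne
  obtain ⟨b, hb, c, hc, hbc⟩ := Set.not_subsingleton_iff.1 hs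
  obtain ⟨d, hd⟩ := (Set.ne_univ_iff_exists_notMem B).1 hu
  by_cases hT : D.T α b c
  · exact absurd (Cfsg.Agent.HalfNorm.false_of_line hΩ hins P hN D
      (line_of_block α D htrans hB hb hc hd hT)) (by omega)
  · have hT' : D.compl.T α b c := ⟨Ne.symm b.2, Ne.symm c.2, fun e => hbc (Subtype.ext e), hT⟩
    exact absurd (Cfsg.Agent.HalfNorm.false_of_line hΩ hins P hN D.compl
      (line_of_block α D.compl htrans hB hb hc hd hT')) (by omega)

end Cfsg.Agent.S3612
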