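import Cfsg.Statements.S2064
import Cfsg.Agent.Lib.MathieuOut.Congr
import Cfsg.Agent.Lib.MathieuOut.M24Cert
import Cfsg.Agent.Lib.MathieuOut.M24Tab0
import Cfsg.Agent.Lib.MathieuOut.M24Tab1
import Cfsg.Agent.Lib.MathieuOut.M24Tab2
import Cfsg.Agent.Lib.MathieuOut.M24Tab3
-- import your own Cfsg.Agent.* helpers here

set_option autoImplicit false
open Cfsg

namespace Cfsg.Agent.S2064

/-- The outer automorphism group of the Mathieu group M₂₄ (the automorphism group of the length-24 binary code) is trivial: every automorphism is inner. -/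
theorem result : Nat.card (Cfsg.Out ↥Cfsg.M24) = 1 := by
  obtain ⟨e⟩ := MathieuOut.nonempty_equiv (d := MathieuOut.m24Aut) MathieuOut.m24_cert Golay.m24_ok
    (by decide +kernel) (by decide +kernel) (Golay.stabIn_nil.symm)
  rw [← MathieuOut.card_out_congr e]
  exact PermAut.card_out_one MathieuOut.m24_cert MathieuOut.m24_base
    (fun k (hk : k < 3933) => if h0 : k < 983 then ⟨0, 983, by omega, h0, MathieuOut.m24_closure0⟩ else if h1 : k < 1966 then ⟨983, 1966, by omega, h1, MathieuOut.m24_closure1⟩ else if h2 : k < 2949 then ⟨1966, 2949, by omega, h2, MathieuOut.m24_closure2⟩ else ⟨2949, 3933, by omega, hk, MathieuOut.m24_closure3⟩)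
    MathieuOut.m24_scert MathieuOut.m24_sylow (show Nat.Prime 11 by norm_num)
    (fun k (hk : k < 3933) => if h0 : k < 983 then ⟨0, 983, by omega, h0, MathieuOut.m24_classify0⟩ else if h1 : k < 1966 then ⟨983, 1966, by omega, h1, MathieuOut.m24_classify1⟩ else if h2 : k < 2949 then ⟨1966, 2949, by omega, h2, MathieuOut.m24_classify2⟩ else ⟨2949, 3933, by omega, hk, MathieuOut.m24_classify3⟩)

end Cfsg.Agent.S2064
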