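import Cfsg.Statements.S2038
import Cfsg.Agent.Lib.SchurMult.MathieuHom
import Cfsg.Agent.Lib.SchurMult.M24P2Cert
import Cfsg.Agent.Lib.SchurMult.M24P3Cert
import Cfsg.Agent.Lib.SchurMult.M24P5Cert
import Cfsg.Agent.Lib.SchurMult.M24P7Cert
import Cfsg.Agent.Lib.SchurMult.M24P11Cert
import Cfsg.Agent.Lib.SchurMult.M24P23Cert
import Cfsg.Agent.Lib.Golay.M24
-- import your own Cfsg.Agent.* helpers here

set_option autoImplicit false
open Cfsg

namespace Cfsg.Agent.S2038

/-- The Schur multiplier of the Mathieu group M₂₄ (the automorphism group of the length-24 binary code) is trivial; here the Schur multiplier is described through stem extensions, as in the definitions: surjective homomorphisms onto the group from a finite group, whose kernel is central in that finite group and contained in that finite group's commutator subgroup. -/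
theorem result : Cfsg.HasCyclicSchurMultiplier ↥Cfsg.M24 1 := by
  have hc := Golay.m24_cert
  refine SchurMult.trivial_of (SchurMult.ptHom _) (SchurMult.ptHom_injective _) (SchurMult.ptHom_range Golay.genPerm_M24)
    [(239085, 1), (9067520, 1), (48964608, 1), (34974720, 1), (22256640, 1), (10644480, 1)] ?_ (by decide) (by decide)
  intro i hi
  simp only [List.mem_cons, List.not_mem_nil, or_false] at hi
  rcases hi with rfl | rfl | rfl | rfl | rfl | rfl
  · exact SchurMult.certified_of hc SchurMult.m24P2_base SchurMult.m24P2_rows SchurMult.m24P2_rels SchurMult.m24P2_derived SchurMult.m24P2_orders SchurMult.m24P2_ext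
  · exact SchurMult.certified_of hc SchurMult.m24P3_base SchurMult.m24P3_rows SchurMult.m24P3_rels SchurMult.m24P3_derived SchurMult.m24P3_orders SchurMult.m24P3_ext
  · exact SchurMult.certified_of hc SchurMult.m24P5_base SchurMult.m24P5_rows SchurMult.m24P5_rels SchurMult.m24P5_derived SchurMult.m24P5_orders SchurMult.m24P5_ext
  · exact SchurMult.certified_of hc SchurMult.m24P7_base SchurMult.m24P7_rows SchurMult.m24P7_rels SchurMult.m24P7_derived SchurMult.m24P7_orders SchurMult.m24P7_ext
  · exact SchurMult.certified_of hc SchurMult.m24P11_base SchurMult.m24P11_rows SchurMult.m24P11_rels SchurMult.m24P11_derived SchurMult.m24P11_orders SchurMult.m24P11_ext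
  · exact SchurMult.certified_of hc SchurMult.m24P23_base SchurMult.m24P23_rows SchurMult.m24P23_rels SchurMult.m24P23_derived SchurMult.m24P23_orders SchurMult.m24P23_ext

end Cfsg.Agent.S2038
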