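import Cfsg.Statements.S0028
import Cfsg.Agent.Lib.CharP.AxB
import Cfsg.Agent.Lib.Solvable.Coprime

set_option autoImplicit false
open Cfsg

namespace Cfsg.Agent.S0028

/-- Thompson's P × Q Lemma: let a p-subgroup P and a subgroup Q of order prime to p centralise each other and normalise a p-subgroup U; if every element of U fixed by P is fixed by Q, then Q centralises U. -/
theorem result {G : Type*} [Group G] [Finite G] (p : ℕ) [Fact p.Prime]
    (P Q U : Subgroup G) (hP : IsPGroup p P) (hQ : (Nat.card Q).Coprime p) (hU : IsPGroup p U)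
    (hPQ : P ≤ Subgroup.centralizer (Q : Set G))
    (hPU : P ≤ Subgroup.normalizer (U : Set G)) (hQU : Q ≤ Subgroup.normalizer (U : Set G))
    (hC : U ⊓ Subgroup.centralizer (P : Set G) ≤ Subgroup.centralizer (Q : Set G)) :
    Q ≤ Subgroup.centralizer (U : Set G) := by
  intro x hx
  rw [Subgroup.mem_centralizer_iff]
  intro y hy
  refine (Cfsg.Agent.AxB.thompson (P := U) (A := P) (x := x) (n := Nat.card Q) hU hP hPU
    (fun z hz => Cfsg.Agent.CoprimeAct.conj_mem_of_mem_normalizer (hQU hx) hz)
    (fun a ha => (Subgroup.mem_centralizer_iff.1 (hPQ ha) x hx).symm) ?_ hQ.symm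
    (fun z hz hza => ?_) y hy).symm
  · have h1 : (⟨x, hx⟩ : Q) ^ Nat.card Q = 1 := pow_card_eq_one'
    exact congrArg Subtype.val h1
  · exact Subgroup.mem_centralizer_iff.1
      (hC (Subgroup.mem_inf.2 ⟨hz, Subgroup.mem_centralizer_iff.2 fun a ha => hza a ha⟩)) x hx

end Cfsg.Agent.S0028
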