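import Cfsg.Statements.S2941

set_option autoImplicit false
open Cfsg

namespace Cfsg.Agent.S2941

/-- Let G be a finite group of characteristic 2 type in which every 2-local subgroup is solvable and the centralizer of Ω₁(Z(S)) lies in N_G(S) for every Sylow 2-subgroup S, and let T be a nontrivial 2-subgroup and K a J(T)-component (J the Thompson subgroup generated by the elementary abelian 2-subgroups of largest order). If a subgroup Q is normalized by ⟨K, J(T)⟩ and normalizes J(T), then Q normalizes K. -/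
theorem result {G : Type*} [Group G] [Finite G] (hL : Cfsg.IsCharacteristicTwoType G) (hN : ∀ N : Subgroup G, Cfsg.IsTwoLocal N → Group.IsSolvable ↥N)
    (hZ : ∀ S : Sylow 2 G, Subgroup.centralizer (Cfsg.omegaCenterOf (S : Subgroup G) : Set G) ≤ Subgroup.normalizer ((S : Subgroup G) : Set G)) (T : Subgroup G) (hT : IsPGroup 2 ↥T) (hT1 : T ≠ ⊥) (K : Subgroup G) (hK : Cfsg.IsJComponent T K)
    (Q : Subgroup G) (hQ1 : K ⊔ Cfsg.thompsonSubgroupOf 2 T ≤ Subgroup.normalizer (Q : Set G)) (hQ2 : Q ≤ Subgroup.normalizer (Cfsg.thompsonSubgroupOf 2 T : Set G)) :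
    Q ≤ Subgroup.normalizer (K : Set G) := by
  obtain ⟨hgenK, hKJ, -⟩ := hK
  set J := Cfsg.thompsonSubgroupOf 2 T with hJ
  let W : Subgroup G := ⨆ k : K, J.map (MulAut.conj (k : G)).toMonoidHom
  have hJW : J ≤ W := by
    intro j hj
    exact le_iSup (fun k : K => J.map (MulAut.conj (k : G)).toMonoidHom) 1 ⟨j, hj, by simp⟩
  have hKW : K ≤ W := by
    rw [← hKJ, Subgroup.commutator_le]
    intro k hk j hj
    have h1 : k * j * k⁻¹ ∈ W :=
      le_iSup (fun k : K => J.map (MulAut.conj (k : G)).toMonoidHom) ⟨k, hk⟩ ⟨j, hj, by simp⟩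
    rw [commutatorElement_def]
    exact mul_mem h1 (inv_mem (hJW hj))
  have hWle : W ≤ K ⊔ J := by
    refine iSup_le fun k => ?_
    rintro _ ⟨j, hj, rfl⟩
    have hk : (k : G) ∈ K ⊔ J := Subgroup.mem_sup_left k.2
    simpa using mul_mem (mul_mem hk (Subgroup.mem_sup_right hj)) (inv_mem hk)
  have hKn : J ≤ Subgroup.normalizer (K : Set G) :=
    Subgroup.le_normalizer_iff_commutator_le_left.2 hKJ.le
  have hJ2 : IsPGroup 2 J := hT.to_le (Subgroup.map_subtype_le _)
  intro q hq
  have hconj : ∀ q ∈ Q, ∀ x ∈ K, q * x * q⁻¹ ∈ K := by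
    intro q hq x hx
    have hqW : W.map (MulAut.conj q).toMonoidHom ≤ W := by
      rw [Subgroup.map_iSup]
      refine iSup_le fun k => ?_
      rintro _ ⟨_, ⟨j, hj, rfl⟩, rfl⟩
      have hkq : (k : G)⁻¹ * q * k ∈ Q := by
        simpa using (Subgroup.mem_normalizer_iff.1 (hQ1 (Subgroup.mem_sup_left (inv_mem k.2))) q).1 hq
      refine le_iSup (fun k : K => J.map (MulAut.conj (k : G)).toMonoidHom) k
        ⟨((k : G)⁻¹ * q * k) * j * ((k : G)⁻¹ * q * k)⁻¹,
          (Subgroup.mem_normalizer_iff.1 (hQ2 hkq) j).1 hj, ?_⟩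
      simp [mul_assoc]
    have hle : K ≤ K.comap (MulAut.conj q).toMonoidHom := by
      conv_lhs => rw [← hgenK]
      rw [Subgroup.closure_le]
      rintro w ⟨hw, hodd⟩
      have h1 : q * w * q⁻¹ ∈ K ⊔ J := hWle (by simpa using hqW (Subgroup.mem_map_of_mem _ (hKW hw)))
      have h2 : Odd (orderOf (q * w * q⁻¹)) := by
        rw [← MulAut.conj_apply, MulEquiv.orderOf_eq]; exact hodd
      show q * w * q⁻¹ ∈ K
      set v := q * w * q⁻¹ with hv
      have h3 : v ∈ ((J ⊔ K : Subgroup G) : Set G) := by rw [sup_comm]; exact h1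
      rw [Subgroup.coe_mul_of_left_le_normalizer_right J K hKn] at h3
      obtain ⟨j, hj, k, hk, hjk⟩ := h3
      have key : ∀ n : ℕ, j ^ n * (v ^ n)⁻¹ ∈ K := by
        intro n
        induction n with
        | zero => simp
        | succ n ih =>
          have h4 : j * (j ^ n * (v ^ n)⁻¹) * k⁻¹ * j⁻¹ ∈ K := by
            have h5 := (Subgroup.mem_normalizer_iff.1 (hKn hj) _).1 (mul_mem ih (inv_mem hk))
            simpa [mul_assoc] using h5
          have h5 : (v ^ (n + 1))⁻¹ = (v ^ n)⁻¹ * k⁻¹ * j⁻¹ := by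
            rw [pow_succ' v n, mul_inv_rev]
            nth_rewrite 2 [← hjk]
            group
          convert h4 using 1
          rw [h5, pow_succ' j n]
          group
      have h6 : j ^ orderOf v ∈ K := by simpa [pow_orderOf_eq_one] using key (orderOf v)
      obtain ⟨i, hi⟩ := IsPGroup.iff_orderOf.1 hJ2 ⟨j, hj⟩
      rw [Subgroup.orderOf_mk] at hi
      have h7 : j ∈ K := by
        have hco : Nat.Coprime (orderOf v) (orderOf j) := by
          rw [hi]; exact Nat.Coprime.pow_right i (Nat.coprime_two_right.2 h2)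
        obtain ⟨m, hm⟩ := exists_pow_eq_self_of_coprime hco
        rw [← hm]
        exact pow_mem h6 m
      rw [← hjk]
      exact mul_mem h7 hk
    exact hle hx
  rw [Subgroup.mem_normalizer_iff]
  intro x
  refine ⟨hconj q hq x, fun h => ?_⟩
  have := hconj q⁻¹ (inv_mem hq) _ h
  simpa [mul_assoc] using this

end Cfsg.Agent.S2941
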