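import Cfsg.Statements.S0505
import Cfsg.Agent.Lib.Solvable.Fitting
import Cfsg.Agent.Lib.CharP.AxB
import Cfsg.Agent.Lib.Transfer.Basic


set_option autoImplicit false
open Cfsg

namespace Cfsg.Agent.S0505

variable {G : Type*} [Group G] [Finite G]

theorem exists_central_involution {T : Subgroup G} (hT : IsPGroup 2 T) (h : T ≠ ⊥) :
    ∃ t ∈ T, orderOf t = 2 ∧ ∀ x ∈ T, x * t = t * x := by
  haveI : Fact (Nat.Prime 2) := ⟨Nat.prime_two⟩
  haveI : Nontrivial T := (Subgroup.nontrivial_iff_ne_bot T).2 h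
  haveI := hT.center_nontrivial
  obtain ⟨n, hn, hc⟩ := ((hT.to_subgroup (Subgroup.center T)).nontrivial_iff_card (p := 2)).1 inferInstance
  obtain ⟨c, hc2⟩ := exists_prime_orderOf_dvd_card' 2 (hc ▸ dvd_pow_self 2 hn.ne')
  refine ⟨((c : T) : G), (c : T).2, by rw [Subgroup.orderOf_coe, Subgroup.orderOf_coe, hc2], fun x hx => ?_⟩
  exact congrArg Subtype.val (Subgroup.mem_center_iff.1 c.2 ⟨x, hx⟩)

theorem eq_one_of_two_odd {P K : Subgroup G} (hP : IsPGroup 2 P) (hK : (Nat.card K).Coprime 2)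
    {x : G} (h1 : x ∈ P) (h2 : x ∈ K) : x = 1 := by
  haveI : Fact (Nat.Prime 2) := ⟨Nat.prime_two⟩
  obtain ⟨n, hn⟩ := IsPGroup.iff_card.1 hP
  have a := orderOf_dvd_natCard (⟨x, h1⟩ : P)
  have b := orderOf_dvd_natCard (⟨x, h2⟩ : K)
  rw [Subgroup.orderOf_mk] at a b
  rw [hn] at a
  exact orderOf_eq_one_iff.1
    (Nat.eq_one_of_dvd_one ((Nat.Coprime.pow_left n hK.symm) ▸ Nat.dvd_gcd a b))


/-- Let G be a finite group of even order in which the centralizer of every involution is solvable and has trivial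
core (no nontrivial normal subgroup of odd order). Then G is of characteristic 2 type. -/
theorem result {G : Type*} [Group G] [Finite G]
    (h2 : Even (Nat.card G))
    (hs : ∀ t : G, orderOf t = 2 → Group.IsSolvable (Subgroup.centralizer ({t} : Set G)))
    (hc : ∀ t : G, orderOf t = 2 → Cfsg.oddCore (Subgroup.centralizer ({t} : Set G)) = ⊥) :
    Cfsg.IsCharacteristicTwoType G := by
  haveI : Fact (Nat.Prime 2) := ⟨Nat.prime_two⟩
  refine ⟨h2, fun T hT hT1 => ?_⟩
  obtain ⟨t, htT, ht2, htc⟩ := exists_central_involution hT hT1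
  have key : ∀ H : Subgroup G, H = Subgroup.normalizer (T : Set G) → Cfsg.IsOfCharacteristicTwo ↥H := by
    intro H hH
    have hTH : T ≤ H := hH ▸ Subgroup.le_normalizer
    have hTn : (T.subgroupOf H).Normal := by subst hH; exact Subgroup.normal_in_normalizer
    have hTQ : T.subgroupOf H ≤ Cfsg.pCore 2 H :=
      PBasic.le_pCore hTn (hT.of_equiv (Subgroup.subgroupOfEquivOfLe hTH).symm)
    intro c hcmem
    set C : Subgroup H := Subgroup.centralizer (Cfsg.pCore 2 H : Set H) with hCdef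
    haveI hCn : C.Normal := inferInstance
    have hCT : ∀ c ∈ C, ∀ a ∈ T, a * (c : G) = c * a := fun c hc a ha =>
      congrArg Subtype.val (Subgroup.mem_centralizer_iff.1 hc ⟨a, hTH ha⟩ (hTQ (Subgroup.mem_subgroupOf.2 ha)))
    set X : Subgroup G := Subgroup.centralizer ({t} : Set G) with hXdef
    have hCX : ∀ c ∈ C, (c : G) ∈ X := fun c hc =>
      Subgroup.mem_centralizer_singleton_iff.2 (hCT c hc t htT).symm
    haveI hXs : Group.IsSolvable X := hs t ht2
    let ι : C →* X :=
      { toFun := fun c => ⟨((c : H) : G), hCX c c.2⟩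
        map_one' := rfl
        map_mul' := fun _ _ => rfl }
    haveI hCs : Group.IsSolvable C := Group.isSolvable_of_isSolvable_injective (f := ι) (fun a b h => by
      exact Subtype.ext (Subtype.ext (congrArg (fun y : X => (y : G)) h)))
    haveI := PBasic.pPrimeCore_characteristic 2 ↥C
    set W : Subgroup G := (Cfsg.pCore 2 X).map X.subtype with hW
    have hWp : IsPGroup 2 W := (PBasic.pCore_isPGroup 2 X).map _
    have hWn : ∀ x ∈ X, ∀ y ∈ W, x * y * x⁻¹ ∈ W := by
      rintro x hx _ ⟨y, hy, rfl⟩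
      exact ⟨⟨x, hx⟩ * y * ⟨x, hx⟩⁻¹, Subgroup.Normal.conj_mem inferInstance y hy _, rfl⟩
    set K : Subgroup H := (Cfsg.pPrimeCore 2 C).map C.subtype with hK
    haveI hKn : K.Normal := inferInstance
    set KG : Subgroup G := K.map H.subtype with hKG
    have hKodd : (Nat.card KG).Coprime 2 := by
      rw [hKG, hK, Subgroup.map_map,
        ← Nat.card_congr ((Cfsg.pPrimeCore 2 C).equivMapOfInjective _
          (show Function.Injective (H.subtype.comp C.subtype) from
            H.subtype_injective.comp C.subtype_injective)).toEquiv]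
      exact PBasic.pPrimeCore_coprime 2 C
    have hKtriv : Cfsg.pPrimeCore 2 C = ⊥ := by
      rw [Subgroup.eq_bot_iff_forall]
      intro k hk
      have hxK : ((k : H) : G) ∈ KG := ⟨_, ⟨k, hk, rfl⟩, rfl⟩
      have hxX : ((k : H) : G) ∈ X := hCX k k.2
      have hxW : ∀ y ∈ W, ((k : H) : G) * y = y * ((k : H) : G) := by
        refine AxB.thompson hWp hT ?_ (hWn _ hxX) (hCT k k.2) (pow_orderOf_eq_one _) ?_ ?_
        · rw [Subgroup.le_normalizer_iff]
          intro a ha
          exact hWn a (Subgroup.mem_centralizer_singleton_iff.2 (htc a ha))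
        · have := orderOf_dvd_natCard (⟨_, hxK⟩ : KG)
          rw [Subgroup.orderOf_mk] at this
          exact (Nat.Coprime.coprime_dvd_left this hKodd).symm
        · intro y hy hyT
          have hyH : y ∈ H := hH ▸ Subgroup.centralizer_le_normalizer T
            (Subgroup.mem_centralizer_iff.2 fun a ha => hyT a ha)
          have h1 : ((k : H) : G) * y * ((k : H) : G)⁻¹ * y⁻¹ ∈ W :=
            mul_mem (hWn _ hxX y hy) (inv_mem hy)
          have h2' : ((k : H) : G) * y * ((k : H) : G)⁻¹ * y⁻¹ ∈ KG := by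
            refine ⟨(k : H) * (⟨y, hyH⟩ * (k : H)⁻¹ * ⟨y, hyH⟩⁻¹),
              mul_mem ⟨k, hk, rfl⟩ (hKn.conj_mem _ (inv_mem (⟨k, hk, rfl⟩ : (k : H) ∈ K)) _), ?_⟩
            simp [mul_assoc]
          have h3 := eq_one_of_two_odd hWp hKodd h1 h2'
          exact mul_inv_eq_iff_eq_mul.1 (mul_inv_eq_one.1 h3)
      have hcW : (⟨_, hxX⟩ : X) ∈ Cfsg.pCore 2 X := by
        refine FittingCores.centralizer_pCore_le Nat.prime_two (hc t ht2) ?_
        exact Subgroup.mem_centralizer_iff.2 fun y hy => Subtype.ext (hxW y ⟨y, hy, rfl⟩).symm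
      have := eq_one_of_two_odd hWp hKodd (x := ((k : H) : G)) ⟨_, hcW, rfl⟩ hxK
      exact Subtype.ext (Subtype.ext this)
    haveI := PBasic.pCore_characteristic 2 ↥C
    have hO2 : (Cfsg.pCore 2 C).map C.subtype ≤ Cfsg.pCore 2 H :=
      PBasic.le_pCore inferInstance ((PBasic.pCore_isPGroup 2 C).map _)
    have hcC : (⟨c, hcmem⟩ : C) ∈ Subgroup.centralizer (Cfsg.pCore 2 C : Set C) :=
      Subgroup.mem_centralizer_iff.2 fun y hy =>
        Subtype.ext (Subgroup.mem_centralizer_iff.1 hcmem y (hO2 ⟨y, hy, rfl⟩))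
    exact hO2 ⟨_, FittingCores.centralizer_pCore_le Nat.prime_two hKtriv hcC, rfl⟩
  exact key _ rfl

end Cfsg.Agent.S0505
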