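import Cfsg.Statements.S2947
import Cfsg.Agent.Lib.SylowChains.Basic
import Cfsg.Agent.Lib.LocalEven.StrongEmb

set_option autoImplicit false
open Cfsg

namespace Cfsg.Agent.S2947

/-- Let G be a finite group of characteristic 2 type in which every 2-local subgroup is solvable and the centralizer of Ω₁(Z(S)) lies in N_G(S) for every Sylow 2-subgroup S; suppose O₂(G) = 1, fix a Sylow 2-subgroup S and a 2-local subgroup M containing N_G(J(S)) (J the Thompson subgroup generated by the elementary abelian 2-subgroups of largest order). Then M is strongly embedded in G (a proper subgroup of even order whose intersection with each conjugate by an element outside M has odd order) if and only if no nontrivial 2-subgroup of M lies in a 2-local subgroup of G not contained in M. -/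
theorem result {G : Type*} [Group G] [Finite G] (hL : Cfsg.IsCharacteristicTwoType G) (hN : ∀ N : Subgroup G, Cfsg.IsTwoLocal N → Group.IsSolvable ↥N)
    (hZ : ∀ S : Sylow 2 G, Subgroup.centralizer (Cfsg.omegaCenterOf (S : Subgroup G) : Set G) ≤ Subgroup.normalizer ((S : Subgroup G) : Set G)) (hO : Cfsg.pCore 2 G = ⊥) (S : Sylow 2 G) (M : Subgroup G) (hM : Cfsg.IsTwoLocal M)
    (hMJ : Subgroup.normalizer (Cfsg.thompsonSubgroupOf 2 (S : Subgroup G) : Set G) ≤ M) :
    Cfsg.IsStronglyEmbedded M ↔ Cfsg.straddlingTwoSubgroups M = ∅ := by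
  haveI := Fact.mk Nat.prime_two
  obtain ⟨T0, hT0, hT01, hMeq⟩ := hM
  have hT0M : T0 ≤ M := hMeq ▸ Subgroup.le_normalizer
  constructor
  · rintro ⟨hne, heven, hodd⟩
    have hse : SylowConn.IsSE 2 M := ⟨hne, even_iff_two_dvd.1 heven, fun g hg h =>
      (Nat.not_even_iff_odd.2 (hodd g hg)) (even_iff_two_dvd.2 h)⟩
    rw [Set.eq_empty_iff_forall_notMem]
    rintro T ⟨hT, hT1, hTM, L, ⟨R, hR, hR1, rfl⟩, hTL, hLM⟩
    have hRT : R ⊔ T ≤ M := hse.le_of_inf_ne_bot (IsPGroup.to_sup_of_normal_left' hR hT hTL)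
      fun hb => hT1 (eq_bot_iff.2 (hb ▸ le_inf le_sup_right hTM))
    exact hLM (hse.normalizer_le (le_sup_left.trans hRT) hR hR1)
  · intro hempty
    have hne : M ≠ ⊤ := fun ht => hT01 (eq_bot_iff.2 (hO ▸ LEBasic.le_pCore
      (Subgroup.normalizer_eq_top_iff.1 (hMeq ▸ ht)) hT0))
    have heven : 2 ∣ Nat.card M :=
      (LESylow.dvd_card_of_ne_bot hT0 hT01).trans (Subgroup.card_dvd_of_le hT0M)
    have hse : Cfsg.IsStronglyPEmbedded 2 M := (LEStrongEmb.iff_normalizers M).2 ⟨hne, heven,
      fun A hAM hA hA1 => by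
        by_contra hN
        exact (Set.eq_empty_iff_forall_notMem.1 hempty A)
          ⟨hA, hA1, hAM, _, ⟨A, hA, hA1, rfl⟩, Subgroup.le_normalizer, hN⟩⟩
    refine ⟨hne, even_iff_two_dvd.2 heven, fun g hg => Nat.not_even_iff_odd.1 fun he => ?_⟩
    obtain ⟨a, ha, hao⟩ := LESylow.exists_orderOf_eq (p := 2) (even_iff_two_dvd.1 he)
    obtain ⟨ha1, ha2⟩ := Subgroup.mem_inf.1 ha
    rw [LEBasic.mem_map_conj] at ha2
    exact hg (inv_mem_iff.1 (LEStrongEmb.mem_of_conj_mem hse hao ha1 (g := g⁻¹) (by simpa using ha2)))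

end Cfsg.Agent.S2947
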