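import Cfsg.Statements.S0251
import Cfsg.Agent.Lib.Classical.ProjLine

set_option autoImplicit false
open Cfsg

namespace Cfsg.Agent.S0251

/-- PSL_2(3) is isomorphic to A_4. -/
theorem result {F : Type*} [Field F] [Fintype F] (hF : Fintype.card F = 3) : Nonempty (Matrix.ProjectiveSpecialLinearGroup (Fin 2) F ≃* alternatingGroup (Fin 4)) := by
  have hN : Nat.card F = 3 := by rw [Nat.card_eq_fintype_card, hF]
  refine ProjLine.equiv_alternating (by rw [ProjLine.card_eq, hN])
    Projectivization.PSLAction.toPermHom
    Matrix.ProjectiveSpecialLinearGroup.toPermHom_injective ?_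
  have h := ProjLine.two_mul_card_psl (F := F)
  rw [hN, show Nat.gcd 2 (3 - 1) = 2 from rfl] at h
  simp only [show Nat.factorial 4 = 24 from rfl, show Nat.factorial 5 = 120 from rfl]
  omega

end Cfsg.Agent.S0251
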