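import Cfsg.Statements.S5439
import Mathlib.GroupTheory.GroupAction.Quotient

set_option autoImplicit false
open Cfsg

namespace Cfsg.Agent.S5439

/-- Let I and J be two different conjugacy classes of involutions of the finite group G and H a subgroup such that every member of I ∪ J fixes exactly one coset in the action on the cosets of H, and such that for every a in I ∩ H and every b in (I ∪ J) ∩ H different from a and commuting with it, the centralizer of a b lies in H. Then H = G. -/
theorem result {G : Type*} [Group G] [Finite G] (I J : Set G) (a₀ b₀ : G) (ha₀ : orderOf a₀ = 2) (hb₀ : orderOf b₀ = 2) (hI : I = {x | IsConj a₀ x}) (hJ : J = {x | IsConj b₀ x}) (hIJ : I ≠ J) (H : Subgroup G) (hfix : ∀ x ∈ I ∪ J, ∃! c : G ⧸ H, x • c = c) (hcent : ∀ a ∈ I, a ∈ H → ∀ b ∈ I ∪ J, b ∈ H → a ≠ b → a * b = b * a → Subgroup.centralizer ({a * b} : Set G) ≤ H) : H = ⊤ := by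
  have hfix' : ∀ (g x : G), (x • ((g : G) : G ⧸ H) = ((g : G) : G ⧸ H)) ↔ g⁻¹ * x * g ∈ H := by
    intro g x
    rw [MulAction.Quotient.smul_coe, smul_eq_mul, eq_comm, QuotientGroup.eq, mul_assoc]
  have hIc : ∀ x ∈ I, ∀ g : G, g * x * g⁻¹ ∈ I := fun x hx g => by
    rw [hI] at hx ⊢; exact IsConj.trans hx (isConj_iff.2 ⟨g, rfl⟩)
  have hJc : ∀ x ∈ J, ∀ g : G, g * x * g⁻¹ ∈ J := fun x hx g => by
    rw [hJ] at hx ⊢; exact IsConj.trans hx (isConj_iff.2 ⟨g, rfl⟩)
  have hinv : ∀ x ∈ I ∪ J, x * x = 1 ∧ x ≠ 1 := by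
    intro x hx
    have h2 : orderOf x = 2 := by
      rcases hx with hx | hx
      · rw [hI] at hx
        obtain ⟨c, rfl⟩ := isConj_iff.1 hx
        exact (MulEquiv.orderOf_eq (MulAut.conj c) a₀).trans ha₀
      · rw [hJ] at hx
        obtain ⟨c, rfl⟩ := isConj_iff.1 hx
        exact (MulEquiv.orderOf_eq (MulAut.conj c) b₀).trans hb₀
    exact ⟨by rw [← pow_two, ← h2, pow_orderOf_eq_one], fun h => by simp [h] at h2⟩
  -- one member of `I` in `H`
  obtain ⟨a, ha, haH⟩ : ∃ a ∈ I, a ∈ H := by
    have hmem : a₀ ∈ I := by rw [hI]; exact IsConj.refl _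
    obtain ⟨c, hc, -⟩ := hfix a₀ (Or.inl hmem)
    induction c using QuotientGroup.induction_on with
    | H g =>
      refine ⟨g⁻¹ * a₀ * g, ?_, (hfix' g a₀).1 hc⟩
      simpa using hIc a₀ hmem g⁻¹
  have hua : ∀ g : G, g⁻¹ * a * g ∈ H → g ∈ H := by
    intro g hg
    obtain ⟨c, -, hu⟩ := hfix a (Or.inl ha)
    have h := (hu _ ((hfix' g a).2 hg)).trans (hu _ ((hfix' 1 a).2 (by simpa using haH))).symm
    rwa [QuotientGroup.eq, mul_one, inv_mem_iff] at h
  have hJH : ∀ b ∈ J, b ∈ H := by
    intro b hb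
    obtain ⟨haa, ha1⟩ := hinv a (Or.inl ha)
    obtain ⟨hbb, -⟩ := hinv b (Or.inr hb)
    have hainv : a⁻¹ = a := inv_eq_of_mul_eq_one_right haa
    have hbinv : b⁻¹ = b := inv_eq_of_mul_eq_one_right hbb
    set r := a * b with hr
    have hrinv : r⁻¹ = b * a := by rw [hr, mul_inv_rev, hainv, hbinv]
    have har : ∀ n : ℕ, a * r ^ n = (r⁻¹) ^ n * a := by
      intro n
      refine SemiconjBy.eq (SemiconjBy.pow_right ?_ n)
      show a * r = r⁻¹ * a
      rw [hrinv, hr, ← mul_assoc, haa, one_mul, mul_assoc, haa, mul_one]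
    have heven : Even (orderOf r) := by
      by_contra hodd
      rw [Nat.not_even_iff_odd] at hodd
      obtain ⟨m, hm⟩ := hodd
      refine hIJ ?_
      have hab : IsConj a b := isConj_iff.2 ⟨r ^ m, by
        have har' : ∀ n : ℕ, a * (r⁻¹) ^ n = r ^ n * a := by
          intro n
          refine SemiconjBy.eq (SemiconjBy.pow_right ?_ n)
          show a * r⁻¹ = r * a
          rw [hrinv, hr, mul_assoc]
        rw [mul_assoc, ← inv_pow, har', ← mul_assoc, ← pow_add]
        have e : r ^ (m + m) = r⁻¹ := by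
          rw [eq_inv_iff_mul_eq_one, ← pow_succ, show m + m + 1 = orderOf r by omega, pow_orderOf_eq_one]
        rw [e, hrinv, mul_assoc, haa, mul_one]⟩
      rw [hI] at ha; rw [hJ] at hb
      rw [hI, hJ]
      ext x
      exact ⟨fun h => hb.trans (hab.symm.trans (ha.symm.trans h)),
        fun h => ha.trans (hab.trans (hb.symm.trans h))⟩
    obtain ⟨k, hk⟩ := heven
    set u := r ^ k with hu'
    have hu2 : u⁻¹ = u := inv_eq_of_mul_eq_one_right (by
      rw [hu', ← pow_add, ← hk, pow_orderOf_eq_one])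
    have hau : a * u = u * a := by
      conv_rhs => rw [← hu2, hu', ← inv_pow]
      exact har k
    have hu1 : u ≠ 1 := by
      intro h
      have := orderOf_dvd_of_pow_eq_one h
      have hpos : 0 < orderOf r := orderOf_pos r
      have := Nat.le_of_dvd (by omega) this
      omega
    have hbu : b * u = u * b := by
      have h1 : b = a * r := by rw [hr, ← mul_assoc, haa, one_mul]
      rw [h1, mul_assoc, hu', ← pow_succ', pow_succ, ← mul_assoc, ← hu', hau, mul_assoc]
    have hw : a * u ∈ I ∪ J := by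
      rcases Nat.even_or_odd' k with ⟨i, rfl | rfl⟩
      · left
        rw [hu', two_mul, pow_add, ← mul_assoc, har, inv_pow]
        simpa using hIc a ha (r ^ i)⁻¹
      · right
        have h1 : a * u = (r ^ i)⁻¹ * (a * r) * r ^ i := by
          rw [hu', show 2 * i + 1 = i + (1 + i) by ring, pow_add, pow_add, pow_one, ← mul_assoc,
            har, inv_pow]
          group
        rw [h1, hr, ← mul_assoc a a b, haa, one_mul]
        simpa using hJc b hb (r ^ i)⁻¹
    have hwH : a * u ∈ H := by
      obtain ⟨c, hc, hu⟩ := hfix (a * u) hw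
      induction c using QuotientGroup.induction_on with
      | H g =>
        -- the fixed coset of `a * u` is fixed by `a`
        have h1 : a • ((g : G) : G ⧸ H) = ((g : G) : G ⧸ H) := hu _ (by
          show (a * u) • a • ((g : G) : G ⧸ H) = a • ((g : G) : G ⧸ H)
          rw [← mul_smul, show a * u * a = a * (a * u) by rw [mul_assoc a u a, hau], mul_smul]
          exact congrArg (a • ·) hc)
        have hg : g ∈ H := hua g ((hfix' g a).1 h1)
        have := (hfix' g _).1 hc
        have := mul_mem (mul_mem hg this) (inv_mem hg)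
        simpa [mul_assoc] using this
    have hne : a ≠ a * u := fun h => hu1 (by simpa using h.symm)
    have hcc : a * (a * u) = a * u * a := by rw [mul_assoc a u a, hau]
    have hC := hcent a ha haH (a * u) hw hwH hne hcc
    refine hC (Subgroup.mem_centralizer_singleton_iff.2 ?_)
    rw [show a * (a * u) = u by rw [← mul_assoc, haa, one_mul]]
    exact hbu
  have hb₀' : b₀ ∈ J := by rw [hJ]; exact IsConj.refl _
  rw [eq_top_iff]
  intro g _
  obtain ⟨c, -, hu⟩ := hfix b₀ (Or.inr hb₀')
  have e1 := hu _ ((hfix' g b₀).2 (hJH _ (by simpa using hJc b₀ hb₀' g⁻¹)))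
  have e2 := hu _ ((hfix' 1 b₀).2 (by simpa using hJH _ hb₀'))
  have e := e1.trans e2.symm
  rwa [QuotientGroup.eq, mul_one, inv_mem_iff] at e

end Cfsg.Agent.S5439
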