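import Cfsg.Statements.S0375
import Cfsg.Agent.Lib.Steiner.Uniq24
import Cfsg.Agent.Lib.Steiner.CodeSystem
import Cfsg.Agent.S0358
-- import your own Cfsg.Agent.* helpers here

set_option autoImplicit false
open Cfsg

namespace Cfsg.Agent.S0375

open Cfsg.Agent.Steiner

/-- A doubly even self-dual binary code of length 24 with no words of weight 4 is equivalent to the length-24 code built from the squares modulo 23. -/
theorem result (C : Submodule (ZMod 2) (Fin 24 → ZMod 2)) (hdim : Module.finrank (ZMod 2) C = 12) (horth : ∀ v ∈ C, ∀ w ∈ C, ∑ i, v i * w i = 0) (h4 : ∀ w ∈ C, 4 ∣ hammingNorm w) (hno4 : ∀ w ∈ C, hammingNorm w ≠ 4) : ∃ e : Fin 24 ≃ Cfsg.GolayPt, ∀ w : Cfsg.GolayPt → ZMod 2, w ∈ Cfsg.golayCode ↔ (fun i => w (e i)) ∈ C := by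
  classical
  have hcard : Nat.card C = 4096 := by
    rw [Module.natCard_eq_pow_finrank (K := ZMod 2), hdim, Nat.card_zmod]; norm_num
  have hmin : ∀ w ∈ C, w ≠ 0 → 8 ≤ hammingNorm w := by
    intro w hw h0
    obtain ⟨k, hk⟩ := h4 w hw
    have h1 : 0 < hammingNorm w := hammingNorm_pos_iff.2 h0
    have h2 := hno4 w hw
    omega
  obtain ⟨e, he⟩ := exists_iso_octads (Fintype.card_fin 24) (steiner_of_code (Fintype.card_fin 24) C hcard hmin)
  refine ⟨e.symm, ?_⟩
  let L : (Cfsg.GolayPt → ZMod 2) ≃ₗ[ZMod 2] (Fin 24 → ZMod 2) :=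
    LinearEquiv.funCongrLeft (ZMod 2) (ZMod 2) e.symm
  have hle : Cfsg.golayCode.map L.toLinearMap ≤ C := by
    rw [Submodule.map_le_iff_le_comap]
    intro w hw
    obtain ⟨m, hm, rfl⟩ := Cfsg.Agent.Golay.mem_golayCode.1 hw
    have hspan : (Cfsg.Agent.Golay.gBasis.map fun v => v.2).all
        (fun b => Cfsg.Agent.Golay.memB b (Cfsg.Agent.Golay.spanList
          (stdO :: (stdA ++ stdY ++ [16771936 ^^^ 1009728])))) = true := by decide +kernel
    have hoct : ∀ b ∈ stdO :: (stdA ++ stdY ++ [16771936 ^^^ 1009728]),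
        b ∈ Cfsg.Agent.Golay.octadList := fun b hb => Cfsg.Agent.Golay.memB_spec
      (List.all_eq_true.1 (show (stdO :: (stdA ++ stdY ++ [16771936 ^^^ 1009728])).all
        (fun b => Cfsg.Agent.Golay.memB b Cfsg.Agent.Golay.octadList) = true by decide +kernel) b hb)
    refine Cfsg.Agent.Golay.spanList_mem_submodule (M := C.comap L.toLinearMap) _ (fun b hb => ?_) m hm
    refine Cfsg.Agent.Golay.spanList_mem_submodule (M := C.comap L.toLinearMap) _ (fun c hc => ?_) b
      (Cfsg.Agent.Golay.memB_spec (List.all_eq_true.1 hspan b hb))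
    have hmem : (Cfsg.Agent.Golay.maskSet c).image e ∈ _ :=
      he.le ⟨_, Cfsg.Agent.Golay.mem_octads.2 ⟨c, hoct c hc, rfl⟩, rfl⟩
    have hw : L (Cfsg.Agent.Golay.ofMask c) = word ((Cfsg.Agent.Golay.maskSet c).image e) := by
      funext i
      obtain ⟨p, rfl⟩ := e.surjective i
      simp only [L, LinearEquiv.funCongrLeft_apply, LinearMap.funLeft_apply, e.symm_apply_apply, word,
        Finset.mem_image, e.injective.eq_iff, exists_eq_right, Cfsg.Agent.Golay.mem_maskSet,
        Cfsg.Agent.Golay.ofMask]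
    show L (Cfsg.Agent.Golay.ofMask c) ∈ C
    rw [hw]; exact hmem.2
  have heq : Cfsg.golayCode.map L.toLinearMap = C := by
    refine Submodule.eq_of_le_of_finrank_eq hle ?_
    rw [LinearEquiv.finrank_map_eq L, Cfsg.Agent.S0358.result, hdim]
  intro w
  rw [← heq]
  constructor
  · intro hw; exact ⟨w, hw, rfl⟩
  · rintro ⟨v, hv, hvw⟩
    have : L v = L w := hvw
    rwa [← L.injective this]

end Cfsg.Agent.S0375
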