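import Cfsg.Statements.S0369
import Cfsg.Agent.Lib.Golay.Aut
-- import your own Cfsg.Agent.* helpers here

set_option autoImplicit false
open Cfsg

namespace Cfsg.Agent.S0369

open Cfsg.Agent.Golay
open scoped Pointwise

/-- Twelve octads spanning the code. -/
def octBasis : List ℕ := [5279, 10558, 18147, 36294, 69395, 133817, 262637, 525274, 1050548, 2101096, 4196943, 8391797]


/-- The group of the length-24 code coincides with the automorphism group of its octad system. -/
theorem result : Cfsg.M24 = Cfsg.setSystemAut Cfsg.octads := by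
  ext σ
  rw [MulAction.mem_stabilizer_iff (a := Cfsg.octads)]
  constructor
  · intro hσ
    refine Set.eq_of_subset_of_ncard_le ?_ ?_ (Set.toFinite _)
    · rintro x ⟨s, hs, rfl⟩; exact smul_mem_octads hσ hs
    · exact (Set.ncard_image_of_injective _ (MulAction.injective σ)).ge
  · intro hσ
    obtain ⟨τ, hτ⟩ := phi.surjective σ
    rw [mem_M24_iff]
    have hlin : ∀ w : Cfsg.GolayPt → ZMod 2, w ∈ Cfsg.golayCode →
        (fun p => w (σ.symm p)) ∈ Cfsg.golayCode := by
      intro w hw
      obtain ⟨m, hm, rfl⟩ := mem_golayCode.1 hw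
      let L : (Cfsg.GolayPt → ZMod 2) →ₗ[ZMod 2] (Cfsg.GolayPt → ZMod 2) :=
        LinearMap.funLeft (ZMod 2) (ZMod 2) σ.symm
      have hgen : ∀ b ∈ octadList, ofMask b ∈ Cfsg.golayCode.comap L := by
        intro b hb
        have hoct : σ • maskSet b ∈ Cfsg.octads := by
          rw [← hσ]; exact Set.smul_mem_smul_set (mem_octads.2 ⟨b, hb, rfl⟩)
        obtain ⟨c, hc, hce⟩ := mem_octads.1 hoct
        refine mem_golayCode.2 ⟨c, (mem_octadList.1 hc).1, ?_⟩
        funext p
        have : (p ∈ maskSet c) ↔ σ.symm p ∈ maskSet b := by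
          rw [hce, ← Finset.inv_smul_mem_iff]; rfl
        simp only [mem_maskSet] at this
        show ofMask c p = ofMask b (σ.symm p)
        simp [ofMask, this]
      have hspan : (gBasis.map fun v => v.2).all
          (fun b => memB b (spanList octBasis)) = true := by decide +kernel
      have hob : ∀ b ∈ octBasis, b ∈ octadList := by
        intro b hb
        exact memB_spec (List.all_eq_true.1 (show octBasis.all (fun b => memB b octadList) = true by
          decide +kernel) b hb)
      exact spanList_mem_submodule (M := Cfsg.golayCode.comap L) _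
        (fun b hb => spanList_mem_submodule _ (fun c hc => hgen c (hob c hc)) b
          (memB_spec (List.all_eq_true.1 hspan b hb))) m hm
    rintro s ⟨w, hw, rfl⟩
    refine ⟨_, hlin w hw, ?_⟩
    ext p
    rw [← Finset.inv_smul_mem_iff]
    simp [Cfsg.support₂, Equiv.Perm.inv_def]

end Cfsg.Agent.S0369
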