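import Cfsg.Statements.S2581
import Cfsg.Prelude.Def_JordanBlocks

set_option autoImplicit false
open Cfsg

namespace Cfsg.Agent.S2581

open Matrix

variable {F : Type*} [Field F] [Fintype F] {t : ℕ} (d : Fin t → ℕ)

/-- The matrix indices. -/
abbrev Ix : Type := (k : Fin t) × Fin (d k)

/-- The parameters of a commuting matrix. -/
abbrev Par : Type := (p : Fin t × Fin t) × Fin (min (d p.1) (d p.2))

/-- The nilpotent part. -/
def nil (R : Type*) [Ring R] : Matrix (Ix d) (Ix d) R :=
  Matrix.of fun a b => if a.1 = b.1 ∧ (a.2 : ℕ) = (b.2 : ℕ) + 1 then 1 else 0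

omit [Fintype F] in
theorem jordanType_eq : Cfsg.jordanTypeMatrix d F = 1 + nil d F := by
  ext ⟨k, i⟩ ⟨l, j⟩
  rw [Cfsg.jordanTypeMatrix, Matrix.add_apply, Matrix.one_apply]
  by_cases h : k = l
  · subst h
    rw [Matrix.blockDiagonal'_apply_eq]
    simp only [Cfsg.jordanBlock, nil, Matrix.of_apply]
    by_cases h1 : i = j
    · subst h1; simp
    · have h2 : ¬ ((i : ℕ) = j) := fun e => h1 (Fin.ext e)
      have h3 : ¬ ((⟨k, i⟩ : Ix d) = ⟨k, j⟩) := by simp [h1]
      simp [h2, h3]
  · rw [Matrix.blockDiagonal'_apply_ne _ _ _ h]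
    have h3 : ¬ ((⟨k, i⟩ : Ix d) = ⟨l, j⟩) := by simp [h]
    simp [nil, h, h3]

theorem idx_val {k : Fin t} (i j : Fin (d k)) : ((⟨k, i⟩ : Ix d) = ⟨k, j⟩) ↔ (i : ℕ) = j := by
  simp [Fin.ext_iff]

omit [Fintype F] in
theorem mul_nil_apply (X : Matrix (Ix d) (Ix d) F) (a : Ix d) (l : Fin t) (j : Fin (d l)) :
    (X * nil d F) a ⟨l, j⟩ = if h : (j : ℕ) + 1 < d l then X a ⟨l, ⟨(j : ℕ) + 1, h⟩⟩ else 0 := by
  rw [Matrix.mul_apply]
  split_ifs with h
  · rw [Finset.sum_eq_single ⟨l, ⟨(j : ℕ) + 1, h⟩⟩]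
    · simp [nil]
    · rintro ⟨m, i⟩ - hne
      rw [nil, Matrix.of_apply, if_neg, mul_zero]
      rintro ⟨rfl, hi⟩
      exact hne ((idx_val d _ _).2 hi)
    · simp
  · refine Finset.sum_eq_zero fun b _ => ?_
    obtain ⟨m, i⟩ := b
    rw [nil, Matrix.of_apply, if_neg, mul_zero]
    rintro ⟨rfl, hi⟩
    exact h (hi ▸ i.2)

omit [Fintype F] in
theorem nil_mulVec (v : Ix d → F) (k : Fin t) (i : Fin (d k)) :
    (nil d F *ᵥ v) ⟨k, i⟩ = if (i : ℕ) = 0 then 0 else v ⟨k, ⟨(i : ℕ) - 1, by omega⟩⟩ := by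
  rw [Matrix.mulVec, dotProduct]
  split_ifs with h
  · refine Finset.sum_eq_zero fun b _ => ?_
    rw [nil, Matrix.of_apply, if_neg, zero_mul]
    rintro ⟨-, hi⟩
    simp only at hi
    omega
  · rw [Finset.sum_eq_single ⟨k, ⟨(i : ℕ) - 1, by omega⟩⟩]
    · rw [nil, Matrix.of_apply, if_pos ⟨rfl, by simp only; omega⟩, one_mul]
    · rintro ⟨m, j⟩ - hne
      rw [nil, Matrix.of_apply, if_neg, zero_mul]
      rintro ⟨rfl, hi⟩
      simp only at hi
      exact hne ((idx_val d _ _).2 (by simp only; omega))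
    · simp

omit [Fintype F] in
theorem nil_mul_apply (X : Matrix (Ix d) (Ix d) F) (k : Fin t) (i : Fin (d k)) (b : Ix d) :
    (nil d F * X) ⟨k, i⟩ b = if (i : ℕ) = 0 then 0 else X ⟨k, ⟨(i : ℕ) - 1, by omega⟩⟩ b := by
  rw [← nil_mulVec d (fun a => X a b) k i]
  rfl

/-- The matrix with given parameters. -/
def toMat (f : Par d → F) : Matrix (Ix d) (Ix d) F :=
  Matrix.of fun a b =>
    if h : (b.2 : ℕ) + (d a.1 - d b.1) ≤ (a.2 : ℕ) then
      f ⟨(a.1, b.1), ⟨(a.2 : ℕ) - (b.2 : ℕ) - (d a.1 - d b.1), by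
        have h1 := a.2.isLt; have h2 := b.2.isLt; show _ < min (d a.1) (d b.1); omega⟩⟩
    else 0

omit [Fintype F] in
theorem f_congr (f : Par d → F) {k l : Fin t} {x y : Fin (min (d k) (d l))} (h : (x : ℕ) = y) :
    f ⟨(k, l), x⟩ = f ⟨(k, l), y⟩ := by rw [Fin.ext h]

omit [Fintype F] in
theorem toMat_comm (f : Par d → F) : toMat d f * nil d F = nil d F * toMat d f := by
  ext ⟨k, i⟩ ⟨l, j⟩
  rw [mul_nil_apply, nil_mul_apply]
  have hi := i.isLt
  have hj := j.isLt
  simp only [toMat, Matrix.of_apply]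
  split_ifs with h1 h2 h3 h4 h5 <;> (try rfl) <;> (try (exfalso; omega))
  all_goals (refine f_congr d f ?_; simp only; omega)

omit [Fintype F] in
theorem col_shift {X : Matrix (Ix d) (Ix d) F} (hX : X * nil d F = nil d F * X) (k l : Fin t) :
    ∀ (j : ℕ) (hj : j < d l) (i : Fin (d k)),
      X ⟨k, i⟩ ⟨l, ⟨j, hj⟩⟩ =
        if (i : ℕ) < j then 0 else X ⟨k, ⟨(i : ℕ) - j, by omega⟩⟩ ⟨l, ⟨0, by omega⟩⟩ := by
  intro j
  induction j with
  | zero => intro hj i; simp
  | succ j ih =>
    intro hj i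
    have h := congrFun (congrFun hX ⟨k, i⟩) ⟨l, ⟨j, by omega⟩⟩
    rw [mul_nil_apply, nil_mul_apply, dif_pos hj] at h
    rw [h]
    by_cases hi : (i : ℕ) = 0
    · rw [if_pos hi, if_pos (by omega)]
    · rw [if_neg hi, ih]
      by_cases hlt : (i : ℕ) < j + 1
      · rw [if_pos hlt, if_pos (by simp only; omega)]
      · rw [if_neg hlt, if_neg (by simp only; omega)]
        congr 3
        simp only
        omega

omit [Fintype F] in
theorem col_zero {X : Matrix (Ix d) (Ix d) F} (hX : X * nil d F = nil d F * X) (k l : Fin t)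
    (s : ℕ) (hs : s + d l < d k) (hl : 0 < d l) :
    X ⟨k, ⟨s, by omega⟩⟩ ⟨l, ⟨0, hl⟩⟩ = 0 := by
  have h := congrFun (congrFun hX ⟨k, ⟨s + d l, hs⟩⟩) ⟨l, ⟨d l - 1, by omega⟩⟩
  rw [mul_nil_apply, nil_mul_apply, dif_neg (by simp only; omega), if_neg (by simp only; omega),
    col_shift d hX, if_neg (by simp only; omega)] at h
  rw [h]
  congr 3
  simp only
  omega

/-- The parameters of a commuting matrix. -/
def parEquiv : (Par d → F) ≃ {X : Matrix (Ix d) (Ix d) F // X * nil d F = nil d F * X} where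
  toFun f := ⟨toMat d f, toMat_comm d f⟩
  invFun X p := X.1 ⟨p.1.1, ⟨(p.2 : ℕ) + (d p.1.1 - d p.1.2), by have := p.2.isLt; omega⟩⟩
    ⟨p.1.2, ⟨0, by have := p.2.isLt; omega⟩⟩
  left_inv f := by
    funext p
    obtain ⟨⟨k, l⟩, s⟩ := p
    simp only [toMat, Matrix.of_apply]
    rw [dif_pos (by omega)]
    exact f_congr d f (by simp only; omega)
  right_inv X := by
    obtain ⟨X, hX⟩ := X
    refine Subtype.ext ?_
    ext ⟨k, i⟩ ⟨l, j⟩
    have hi := i.isLt
    have hj := j.isLt
    refine Eq.trans ?_ (col_shift d hX k l (j : ℕ) hj i).symm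
    simp only [toMat, Matrix.of_apply]
    by_cases hlt : (i : ℕ) < j
    · rw [if_pos hlt, dif_neg (by omega)]
    · rw [if_neg hlt]
      by_cases hle : (j : ℕ) + (d k - d l) ≤ i
      · rw [dif_pos hle]
        congr 3
        omega
      · rw [dif_neg hle, col_zero d hX k l ((i : ℕ) - j) (by omega) (by omega)]

variable (hd : ∀ k, 1 ≤ d k)

/-- The matrix of leading coefficients between blocks of equal size. -/
def lead (X : Matrix (Ix d) (Ix d) F) : Matrix (Fin t) (Fin t) F :=
  Matrix.of fun k l => if d k = d l then X ⟨k, ⟨0, hd k⟩⟩ ⟨l, ⟨0, hd l⟩⟩ else 0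

omit [Fintype F] in
theorem lead_apply_toMat (f : Par d → F) (k l : Fin t) :
    lead d hd (toMat d f) k l =
      if h : d k = d l then f ⟨(k, l), ⟨0, lt_min (hd k) (hd l)⟩⟩ else 0 := by
  simp only [lead, toMat, Matrix.of_apply]
  split_ifs with h1 h2
  · exact f_congr d f (by simp only; omega)
  · exfalso; omega
  · rfl

omit [Fintype F] in
theorem lead_mul (f g : Par d → F) :
    lead d hd (toMat d f * toMat d g) = lead d hd (toMat d f) * lead d hd (toMat d g) := by
  ext k l
  rw [Matrix.mul_apply]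
  by_cases hkl : d k = d l
  · rw [show lead d hd (toMat d f * toMat d g) k l = (toMat d f * toMat d g) ⟨k, ⟨0, hd k⟩⟩ ⟨l, ⟨0, hd l⟩⟩
      from if_pos hkl, Matrix.mul_apply, Fintype.sum_sigma]
    refine Finset.sum_congr rfl fun m _ => ?_
    rw [Finset.sum_eq_single ⟨0, hd m⟩]
    · simp only [lead, toMat, Matrix.of_apply]
      split_ifs <;> (try simp) <;> (try (exfalso; omega))
    · intro j _ hne
      have hj : (j : ℕ) ≠ 0 := fun e => hne (Fin.ext e)
      simp only [toMat, Matrix.of_apply]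
      rw [dif_neg (by omega), zero_mul]
    · simp
  · rw [show lead d hd (toMat d f * toMat d g) k l = 0 from if_neg hkl]
    refine (Finset.sum_eq_zero fun m _ => ?_).symm
    simp only [lead, Matrix.of_apply]
    split_ifs <;> (try simp) <;> (exfalso; omega)

omit [Fintype F] in
theorem lead_one : lead d hd (1 : Matrix (Ix d) (Ix d) F) = 1 := by
  ext k l
  by_cases h : k = l
  · subst h
    simp [lead]
  · have h3 : ¬ ((⟨k, ⟨0, hd k⟩⟩ : Ix d) = ⟨l, ⟨0, hd l⟩⟩) := by simp [h]
    simp [lead, h, h3]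

omit [Fintype F] in
theorem isUnit_toMat_iff (f : Par d → F) : IsUnit (toMat d f) ↔ IsUnit (lead d hd (toMat d f)) := by
  classical
  constructor
  · rintro ⟨u, hu⟩
    have hc : Commute (u : Matrix (Ix d) (Ix d) F) (nil d F) := by rw [hu]; exact toMat_comm d f
    obtain ⟨g, hg⟩ : ∃ g, toMat d g = (↑u⁻¹ : Matrix (Ix d) (Ix d) F) :=
      ⟨(parEquiv d).symm ⟨_, hc.units_inv_left.eq⟩,
        congrArg Subtype.val ((parEquiv d).apply_symm_apply ⟨_, hc.units_inv_left.eq⟩)⟩
    refine IsUnit.of_mul_eq_one (lead d hd (toMat d g)) ?_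
    rw [← lead_mul, hg, ← hu, Units.mul_inv, lead_one]
  · intro hP
    rw [← Matrix.mulVec_injective_iff_isUnit]
    have hinjP := Matrix.mulVec_injective_iff_isUnit.2 hP
    suffices h : ∀ (r : ℕ) (v : Ix d → F), (∀ k (i : Fin (d k)), v ⟨k, i⟩ ≠ 0 → d k ≤ (i : ℕ) + r) →
        toMat d f *ᵥ v = 0 → v = 0 by
      intro v w hvw
      refine sub_eq_zero.1 (h (Finset.univ.sup d) _ (fun k i _ => ?_) ?_)
      · exact le_add_left (Finset.le_sup (Finset.mem_univ k))
      · rw [Matrix.mulVec_sub]; exact sub_eq_zero.2 hvw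
    intro r
    induction r with
    | zero =>
      intro v hv _
      funext ⟨k, i⟩
      by_contra h
      have := hv k i h
      omega
    | succ r ih =>
      intro v hv hXv
      have hNv : nil d F *ᵥ v = 0 := by
        refine ih _ (fun k i hne => ?_) ?_
        · rw [nil_mulVec] at hne
          split_ifs at hne with h0
          · exact absurd rfl hne
          · have := hv k _ hne
            simp only at this
            omega
        · rw [Matrix.mulVec_mulVec, toMat_comm, ← Matrix.mulVec_mulVec, hXv, Matrix.mulVec_zero]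
      have hlow : ∀ (k : Fin t) (i : Fin (d k)), (i : ℕ) + 1 < d k → v ⟨k, i⟩ = 0 := by
        intro k i hi
        have h := congrFun hNv ⟨k, ⟨(i : ℕ) + 1, hi⟩⟩
        rw [nil_mulVec, if_neg (by simp)] at h
        simpa using h
      let a : Fin t → F := fun k => v ⟨k, ⟨d k - 1, by have := hd k; omega⟩⟩
      suffices ha : ∀ k, a k = 0 by
        funext ⟨k, i⟩
        by_cases hi : (i : ℕ) + 1 < d k
        · exact hlow k i hi
        · rw [show i = ⟨d k - 1, by have := i.isLt; omega⟩ from Fin.ext (by simp only; have := i.isLt; omega)]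
          exact ha k
      by_contra! hne
      obtain ⟨k₀, hk₀, hmin⟩ := Finset.exists_min_image (Finset.univ.filter fun k => a k ≠ 0) d
        (by obtain ⟨k, hk⟩ := hne; exact ⟨k, by simp [hk]⟩)
      rw [Finset.mem_filter] at hk₀
      let a' : Fin t → F := fun l => if d l = d k₀ then a l else 0
      have ha' : lead d hd (toMat d f) *ᵥ a' = 0 := by
        funext k
        rw [Matrix.mulVec, dotProduct, Pi.zero_apply]
        by_cases hk : d k = d k₀
        · have h := congrFun hXv ⟨k, ⟨d k - 1, by have := hd k; omega⟩⟩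
          rw [Matrix.mulVec, dotProduct, Pi.zero_apply, Fintype.sum_sigma] at h
          rw [← h]
          refine Finset.sum_congr rfl fun l _ => ?_
          rw [Finset.sum_eq_single (⟨d l - 1, by have := hd l; omega⟩ : Fin (d l))]
          · show _ = toMat d f _ _ * a l
            by_cases hl : d l = d k₀
            · have h1 := hd k
              rw [lead_apply_toMat, dif_pos (hk.trans hl.symm), show a' l = a l from if_pos hl]
              simp only [toMat, Matrix.of_apply]
              rw [dif_pos (by omega)]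
              congr 1
              exact f_congr d f (by simp only; omega)
            · rw [show a' l = 0 from if_neg hl, mul_zero]
              by_cases hal : a l = 0
              · rw [hal, mul_zero]
              · have h2 := hmin l (Finset.mem_filter.2 ⟨Finset.mem_univ _, hal⟩)
                have h1 := hd k
                simp only [toMat, Matrix.of_apply]
                rw [dif_neg (by omega), zero_mul]
          · intro i _ hne
            rw [hlow l i ?_, mul_zero]
            have hi := i.isLt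
            by_contra hc
            exact hne (Fin.ext (by simp only; omega))
          · simp
        · refine Finset.sum_eq_zero fun l _ => ?_
          rw [lead_apply_toMat]
          by_cases hl : d l = d k₀
          · rw [dif_neg (fun e => hk (e.trans hl)), zero_mul]
          · rw [show a' l = 0 from if_neg hl, mul_zero]
      have := congrFun (hinjP (ha'.trans (Matrix.mulVec_zero _).symm)) k₀
      rw [show a' k₀ = a k₀ from if_pos rfl] at this
      exact hk₀.2 this

/-- Pairs of blocks of equal size. -/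
abbrev Diag : Type := {p : Fin t × Fin t // d p.1 = d p.2}

/-- Blocks of size `i`. -/
abbrev Cls (i : Fin (Finset.univ.sup d + 1)) : Type := {k : Fin t // d k = (i : ℕ)}

/-- Block diagonal data as a matrix on `Fin t`. -/
def blkMat (g : Diag d → F) : Matrix (Fin t) (Fin t) F :=
  Matrix.of fun k l => if h : d k = d l then g ⟨(k, l), h⟩ else 0

/-- Sorting the blocks by size. -/
def clsEquiv : ((i : Fin (Finset.univ.sup d + 1)) × Cls d i) ≃ Fin t where
  toFun x := x.2.1
  invFun k := ⟨⟨d k, Nat.lt_succ_of_le (Finset.le_sup (Finset.mem_univ k))⟩, ⟨k, rfl⟩⟩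
  left_inv := by
    rintro ⟨i, ⟨k, hk⟩⟩
    obtain rfl : i = ⟨d k, Nat.lt_succ_of_le (Finset.le_sup (Finset.mem_univ k))⟩ := Fin.ext hk.symm
    rfl
  right_inv _ := rfl

/-- Block diagonal data as a family of matrices. -/
def diagEquiv : (Diag d → F) ≃ ((i : Fin (Finset.univ.sup d + 1)) → Matrix (Cls d i) (Cls d i) F) where
  toFun g i := Matrix.of fun k l => g ⟨(k.1, l.1), k.2.trans l.2.symm⟩
  invFun M p := M ⟨d p.1.1, Nat.lt_succ_of_le (Finset.le_sup (Finset.mem_univ _))⟩ ⟨p.1.1, rfl⟩ ⟨p.1.2, p.2.symm⟩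
  left_inv g := rfl
  right_inv M := by
    funext i
    ext ⟨k, hk⟩ ⟨l, hl⟩
    obtain rfl : i = ⟨d k, Nat.lt_succ_of_le (Finset.le_sup (Finset.mem_univ k))⟩ := Fin.ext hk.symm
    rfl

omit [Fintype F] in
theorem blkMat_eq (g : Diag d → F) :
    (blkMat d g).submatrix (clsEquiv d) (clsEquiv d) = Matrix.blockDiagonal' (diagEquiv d g) := by
  ext ⟨i, k, hk⟩ ⟨j, l, hl⟩
  rw [Matrix.submatrix_apply]
  by_cases h : i = j
  · subst h
    rw [Matrix.blockDiagonal'_apply_eq]
    simp only [blkMat, Matrix.of_apply, clsEquiv, Equiv.coe_fn_mk]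
    rw [dif_pos (hk.trans hl.symm)]
    rfl
  · rw [Matrix.blockDiagonal'_apply_ne _ _ _ h]
    simp only [blkMat, Matrix.of_apply, clsEquiv, Equiv.coe_fn_mk]
    rw [dif_neg]
    exact fun e => h (Fin.ext (hk.symm.trans (e.trans hl)))

omit [Fintype F] in
theorem isUnit_blockDiagonal'_iff {o : Type*} [Fintype o] [DecidableEq o] {m : o → Type*}
    [∀ i, Fintype (m i)] [∀ i, DecidableEq (m i)] (M : ∀ i, Matrix (m i) (m i) F) :
    IsUnit (Matrix.blockDiagonal' M) ↔ ∀ i, IsUnit (M i) := by
  simp only [← Matrix.mulVec_injective_iff_isUnit]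
  have key : ∀ (w : ∀ i, m i → F) (j : o) (k : m j),
      (Matrix.blockDiagonal' M *ᵥ fun x => w x.1 x.2) ⟨j, k⟩ = (M j *ᵥ w j) k := by
    intro w j k
    simp only [Matrix.mulVec, dotProduct]
    rw [Fintype.sum_sigma, Finset.sum_eq_single j]
    · simp only [Matrix.blockDiagonal'_apply_eq]
    · intro b _ hb
      exact Finset.sum_eq_zero fun y _ => by rw [Matrix.blockDiagonal'_apply_ne _ _ _ (Ne.symm hb), zero_mul]
    · simp
  constructor
  · intro h i u v huv
    have he : (fun x : (i : o) × m i => (Pi.single i u : ∀ j, m j → F) x.1 x.2) =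
        fun x => (Pi.single i v : ∀ j, m j → F) x.1 x.2 := by
      refine h (funext ?_)
      rintro ⟨j, k⟩
      rw [key, key]
      by_cases hj : j = i
      · subst hj; simp only [Pi.single_eq_same]; exact congrFun huv k
      · simp [Pi.single_eq_of_ne hj]
    funext k
    simpa using congrFun he ⟨i, k⟩
  · intro h u v huv
    funext ⟨j, k⟩
    refine congrFun (h j (a₁ := fun y => u ⟨j, y⟩) (a₂ := fun y => v ⟨j, y⟩) (funext fun y => ?_)) k
    exact ((key (fun i y => u ⟨i, y⟩) j y).symm.trans (congrFun huv ⟨j, y⟩)).trans (key (fun i y => v ⟨i, y⟩) j y)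

omit [Fintype F] in
theorem isUnit_blk_iff (g : Diag d → F) : IsUnit (blkMat d g) ↔ ∀ i, IsUnit (diagEquiv d g i) := by
  rw [← Matrix.isUnit_submatrix_equiv (clsEquiv d) (clsEquiv d), blkMat_eq, isUnit_blockDiagonal'_iff]

omit [Fintype F] in
theorem lead_eq_blk (f : Par d → F) :
    lead d hd (toMat d f) = blkMat d (fun p => f ⟨p.1, ⟨0, lt_min (hd _) (hd _)⟩⟩) := by
  ext k l
  rw [lead_apply_toMat]
  rfl

/-- The parameters of leading coefficients. -/
abbrev IsTop (x : Par d) : Prop := d x.1.1 = d x.1.2 ∧ (x.2 : ℕ) = 0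

/-- They are indexed by the pairs. -/
def topEquiv : {x : Par d // IsTop d x} ≃ Diag d where
  toFun x := ⟨x.1.1, x.2.1⟩
  invFun p := ⟨⟨p.1, ⟨0, lt_min (hd _) (hd _)⟩⟩, p.2, rfl⟩
  left_inv := by
    rintro ⟨⟨⟨k, l⟩, s⟩, h, hs⟩
    obtain rfl : s = ⟨0, lt_min (hd k) (hd l)⟩ := Fin.ext hs
    rfl
  right_inv _ := rfl

theorem card_units (n : Type*) [Fintype n] [DecidableEq n] :
    Nat.card {M : Matrix n n F // IsUnit M} =
      ∏ j : Fin (Fintype.card n), (Fintype.card F ^ Fintype.card n - Fintype.card F ^ (j : ℕ)) := by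
  rw [← Matrix.card_GL_field (𝔽 := F) (n := Fintype.card n)]
  refine Nat.card_congr (Equiv.trans ?_ (Units.mapEquiv
    (Matrix.reindexRingEquiv F (Fintype.equivFin n) : Matrix n n F ≃* _)).toEquiv)
  exact (Equiv.ofBijective (fun u : (Matrix n n F)ˣ => (⟨u, u.isUnit⟩ : {M : Matrix n n F // IsUnit M}))
    ⟨fun u v h => Units.ext (congrArg Subtype.val h), fun M => ⟨M.2.unit, rfl⟩⟩).symm

include hd in
theorem card_comm :
    Nat.card {f : Par d → F // IsUnit (toMat d f)} =
      Fintype.card F ^ Fintype.card {x : Par d // ¬ IsTop d x} *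
        ∏ i : Fin (Finset.univ.sup d + 1),
          ∏ j : Fin (Fintype.card (Cls d i)), (Fintype.card F ^ Fintype.card (Cls d i) - Fintype.card F ^ (j : ℕ)) := by
  let e := (Equiv.piEquivPiSubtypeProd (IsTop d) (fun _ => F)).trans
    (Equiv.prodCongr (Equiv.arrowCongr (topEquiv d hd) (Equiv.refl F)) (Equiv.refl _))
  have h1 : {f : Par d → F // IsUnit (toMat d f)} ≃
      {x : (Diag d → F) × ({x : Par d // ¬ IsTop d x} → F) // IsUnit (blkMat d x.1) ∧ True} :=
    e.subtypeEquiv fun f => by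
      rw [and_true, isUnit_toMat_iff d hd, lead_eq_blk d hd]
      exact Iff.rfl
  rw [Nat.card_congr (h1.trans ((Equiv.subtypeEquivRight fun _ => Iff.rfl).trans
      (Equiv.prodSubtypeFstEquivSubtypeProd (p := fun g : Diag d → F => IsUnit (blkMat d g)) |>
        fun q => (Equiv.subtypeEquivRight fun x => and_true _ |>.to_iff).trans q))),
    Nat.card_prod, Nat.card_fun, Nat.card_eq_fintype_card (α := F),
    Nat.card_eq_fintype_card (α := {x : Par d // ¬ IsTop d x}), mul_comm]
  congr 1
  rw [Nat.card_congr (((diagEquiv d).subtypeEquiv (isUnit_blk_iff d)).trans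
    (Equiv.subtypePiEquivPi (p := fun i (M : Matrix (Cls d i) (Cls d i) F) => IsUnit M))), Nat.card_pi]
  exact Finset.prod_congr rfl fun i _ => card_units _

include hd in
theorem card_rest :
    Fintype.card {x : Par d // ¬ IsTop d x} + Fintype.card (Diag d) = ∑ k, ∑ l, min (d k) (d l) := by
  rw [← Fintype.card_congr (topEquiv d hd), add_comm, ← Fintype.card_sum,
    Fintype.card_congr (Equiv.sumCompl (IsTop d)), Fintype.card_sigma, Fintype.sum_prod_type]
  simp

theorem sum_fibres (a : ℕ → ℕ) (N : ℕ) (ha : ∀ i ≤ N, a i = (Finset.univ.filter fun k => d k = i).card)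
    (hN : ∀ k, d k ≤ N) (h : ℕ → ℕ → ℕ) :
    ∑ k, ∑ l, h (d k) (d l) = ∑ i ∈ Finset.range (N + 1), ∑ j ∈ Finset.range (N + 1), a i * a j * h i j := by
  have key : ∀ g : ℕ → ℕ, ∑ k, g (d k) = ∑ i ∈ Finset.range (N + 1), a i * g i := by
    intro g
    rw [← Finset.sum_fiberwise_of_maps_to (g := d) (fun k _ => Finset.mem_range.2 (Nat.lt_succ_of_le (hN k)))]
    refine Finset.sum_congr rfl fun i hi => ?_
    rw [Finset.sum_congr rfl (g := fun _ => g i) (fun k hk => by rw [(Finset.mem_filter.1 hk).2]),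
      Finset.sum_const, smul_eq_mul, ha i (Nat.le_of_lt_succ (Finset.mem_range.1 hi))]
  rw [key (fun x => ∑ l, h x (d l))]
  refine Finset.sum_congr rfl fun i _ => ?_
  rw [key (h i), Finset.mul_sum]
  exact Finset.sum_congr rfl fun j _ => (mul_assoc _ _ _).symm

include hd in
theorem exponent :
    Fintype.card {x : Par d // ¬ IsTop d x} =
      2 * (∑ i ∈ Finset.range (Finset.univ.sup d + 1), ∑ j ∈ Finset.range (Finset.univ.sup d + 1),
        if i < j then i * (Finset.univ.filter (fun k : Fin t => d k = i)).card *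
          (Finset.univ.filter (fun k : Fin t => d k = j)).card else 0) +
      ∑ i ∈ Finset.range (Finset.univ.sup d + 1), (i - 1) * (Finset.univ.filter (fun k : Fin t => d k = i)).card ^ 2 := by
  let a : ℕ → ℕ := fun i => (Finset.univ.filter fun k => d k = i).card
  let R := Finset.range (Finset.univ.sup d + 1)
  have hN : ∀ k, d k ≤ Finset.univ.sup d := fun k => Finset.le_sup (Finset.mem_univ k)
  have h := card_rest d hd
  have hD : Fintype.card (Diag d) = ∑ k, ∑ l, if d k = d l then 1 else 0 := by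
    rw [Fintype.card_subtype, Finset.card_filter, Fintype.sum_prod_type]
  have hsplit : ∑ k, ∑ l, min (d k) (d l) =
      (∑ k, ∑ l, if d k = d l then d k - 1 else min (d k) (d l)) + Fintype.card (Diag d) := by
    rw [hD, ← Finset.sum_add_distrib]
    refine Finset.sum_congr rfl fun k _ => ?_
    rw [← Finset.sum_add_distrib]
    refine Finset.sum_congr rfl fun l _ => ?_
    have := hd k
    split_ifs <;> omega
  rw [hsplit, add_left_inj, sum_fibres d a _ (fun i _ => rfl) hN (fun x y => if x = y then x - 1 else min x y)] at h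
  rw [h]
  show ∑ i ∈ R, ∑ j ∈ R, _ = 2 * (∑ i ∈ R, ∑ j ∈ R, if i < j then i * a i * a j else 0) + ∑ i ∈ R, (i - 1) * a i ^ 2
  have hsym : (∑ i ∈ R, ∑ j ∈ R, if i < j then i * a i * a j else 0) =
      ∑ i ∈ R, ∑ j ∈ R, if j < i then j * a j * a i else 0 := Finset.sum_comm
  rw [two_mul]
  conv_rhs => arg 1; arg 2; rw [hsym]
  rw [← Finset.sum_add_distrib, ← Finset.sum_add_distrib]
  refine Finset.sum_congr rfl fun i hi => ?_
  rw [show (i - 1) * a i ^ 2 = ∑ j ∈ R, if i = j then (i - 1) * a i ^ 2 else 0 by rw [Finset.sum_ite_eq, if_pos hi],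
    ← Finset.sum_add_distrib, ← Finset.sum_add_distrib]
  refine Finset.sum_congr rfl fun j _ => ?_
  rcases lt_trichotomy i j with h1 | rfl | h1
  · simp [h1, h1.ne, h1.not_gt, h1.le, Nat.min_eq_left h1.le]; ring
  · simp; ring
  · simp [h1, h1.ne', h1.not_gt, h1.le, Nat.min_eq_right h1.le]; ring

/-- Order of the centraliser in GL of a unipotent matrix of given Jordan type over the field with q elements: if the type has a_i blocks of size i (all block sizes at least 1), the invertible matrices commuting with it number q^γ · Π_i |GL_(a_i)(q)| with γ = 2 Σ_(i<j) i a_i a_j + Σ_i (i − 1) a_i² (a group of order q^γ extended by Π GL_(a_i)(q)). -/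
theorem result {F : Type*} [Field F] [Fintype F] {q : ℕ} (hF : Fintype.card F = q) {t : ℕ} (d : Fin t → ℕ) (hd : ∀ k, 1 ≤ d k) : Nat.card {g : GL ((k : Fin t) × Fin (d k)) F // (g : Matrix ((k : Fin t) × Fin (d k)) ((k : Fin t) × Fin (d k)) F) * Cfsg.jordanTypeMatrix d F = Cfsg.jordanTypeMatrix d F * (g : Matrix ((k : Fin t) × Fin (d k)) ((k : Fin t) × Fin (d k)) F)} = q ^ (2 * (∑ i ∈ Finset.range (Finset.univ.sup d + 1), ∑ j ∈ Finset.range (Finset.univ.sup d + 1), if i < j then i * (Finset.univ.filter (fun k : Fin t => d k = i)).card * (Finset.univ.filter (fun k : Fin t => d k = j)).card else 0) + ∑ i ∈ Finset.range (Finset.univ.sup d + 1), (i - 1) * (Finset.univ.filter (fun k : Fin t => d k = i)).card ^ 2) * ∏ i ∈ Finset.range (Finset.univ.sup d + 1), ∏ j : Fin ((Finset.univ.filter (fun k : Fin t => d k = i)).card), (q ^ (Finset.univ.filter (fun k : Fin t => d k = i)).card - q ^ (j : ℕ)) := by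
  subst hF
  have hc : ∀ X : Matrix (Ix d) (Ix d) F, X * Cfsg.jordanTypeMatrix d F = Cfsg.jordanTypeMatrix d F * X ↔
      X * nil d F = nil d F * X := fun X => by
    rw [jordanType_eq, mul_add, add_mul, mul_one, one_mul, add_right_inj]
  have h1 : {g : GL ((k : Fin t) × Fin (d k)) F // (g : Matrix _ _ F) * Cfsg.jordanTypeMatrix d F =
      Cfsg.jordanTypeMatrix d F * (g : Matrix _ _ F)} ≃ {f : Par d → F // IsUnit (toMat d f)} :=
    { toFun := fun g => ⟨(parEquiv d).symm ⟨g.1.1, (hc _).1 g.2⟩, by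
          have h := congrArg Subtype.val ((parEquiv d).apply_symm_apply ⟨g.1.1, (hc _).1 g.2⟩)
          exact (congrArg IsUnit h).mpr g.1.isUnit⟩
      invFun := fun f => ⟨f.2.unit, (hc _).2 (toMat_comm d f.1)⟩
      left_inv := fun g => Subtype.ext (Units.ext (congrArg Subtype.val ((parEquiv d).apply_symm_apply ⟨g.1.1, _⟩)))
      right_inv := fun f => Subtype.ext ((parEquiv d).symm_apply_apply f.1) }
  rw [Nat.card_congr h1, card_comm d hd, exponent d hd]
  congr 1
  rw [← Fin.prod_univ_eq_prod_range]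
  refine Finset.prod_congr rfl fun i _ => ?_
  rw [Fintype.card_subtype]

end Cfsg.Agent.S2581
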