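import Cfsg.Statements.S2999
import Cfsg.Agent.Lib.FFEmbedded.Bridge
import Cfsg.Agent.Lib.FFEmbedded.PMinimalPair

set_option autoImplicit false
set_option linter.style.haveILetI false
open Cfsg

namespace Cfsg.Agent.S2999

open scoped commutatorElement IsMulCommutative

/-- In a `p`-minimal group the Sylow subgroup of a normal subgroup inside the maximal subgroup is normal. -/
theorem frattini {H : Type*} [Group H] [Finite H] {p : ℕ} [Fact p.Prime] (hmin : Cfsg.IsPMinimal p H) (T : Sylow p H)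
    {M : Subgroup H} (hM : IsCoatom M) (hTM : (T : Subgroup H) ≤ M) (N : Subgroup H) (hN : N.Normal) (hNM : N ≤ M) :
    ((T : Subgroup H) ⊓ N).Normal := by
  haveI := hN
  set X := (T : Subgroup H) ⊓ N with hX
  have hidx : ¬ p ∣ (X.subgroupOf N).index := by
    have h1 : (X.subgroupOf N).index ∣ (T : Subgroup H).index := by
      show X.relIndex N ∣ _
      have e1 := Subgroup.relIndex_mul_relIndex X N ((T : Subgroup H) ⊔ N) inf_le_right le_sup_right
      have e2 := Subgroup.relIndex_mul_relIndex X (T : Subgroup H) ((T : Subgroup H) ⊔ N) inf_le_left le_sup_left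
      rw [Subgroup.relIndex_sup_right, ← e2, hX, Subgroup.inf_relIndex_left, mul_comm (N.relIndex _)] at e1
      rw [hX, Nat.eq_of_mul_eq_mul_right (Nat.pos_of_ne_zero Subgroup.index_ne_zero_of_finite) e1]
      exact Subgroup.relIndex_dvd_index_of_le le_sup_left
    exact fun h => T.not_dvd_index (h.trans h1)
  have hp : IsPGroup p (X.subgroupOf N) :=
    (T.2.to_le inf_le_left).of_equiv (Subgroup.subgroupOfEquivOfLe (inf_le_right : X ≤ N)).symm
  have hfr := Sylow.normalizer_sup_eq_top (hp.toSylow hidx)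
  rw [IsPGroup.toSylow_coe, Subgroup.map_subgroupOf_eq_of_le (inf_le_right : X ≤ N)] at hfr
  rw [← Subgroup.normalizer_eq_top_iff]
  by_contra hne
  obtain ⟨M', hM', hle⟩ := (eq_top_or_exists_le_coatom (Subgroup.normalizer (X : Set H))).resolve_left hne
  have hT : (T : Subgroup H) ≤ Subgroup.normalizer (X : Set H) := fun t ht => by
    rw [Subgroup.mem_normalizer_iff]
    intro y
    constructor
    · exact fun hy => ⟨(T : Subgroup H).mul_mem ((T : Subgroup H).mul_mem ht hy.1) ((T : Subgroup H).inv_mem ht), hN.conj_mem y hy.2 t⟩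
    · intro hy
      have h1 := (T : Subgroup H).mul_mem ((T : Subgroup H).mul_mem ((T : Subgroup H).inv_mem ht) hy.1) ht
      have h2 := hN.conj_mem _ hy.2 t⁻¹
      simp only [mul_assoc, inv_mul_cancel_left, inv_mul_cancel, mul_one, inv_inv] at h1 h2
      exact ⟨h1, h2⟩
  obtain rfl : M' = M := (hmin T).2.unique ⟨hM', hT.trans hle⟩ ⟨hM, hTM⟩
  exact hM.1 (top_le_iff.1 (hfr.symm.le.trans (sup_le hle hNM)))

/-- Let p be a prime and let P and V be subgroups of a finite group with V elementary abelian, P normalizing V and acting faithfully on it (P ∩ C(V) = 1). Suppose P is p-minimal (a Sylow p-subgroup T of P is not normal and lies in a unique maximal subgroup M of P) and A ≤ T is an elementary abelian subgroup such that: |V/C_V(A)| ≤ |A| while |A₀|·|C_V(A₀)| < |A|·|C_V(A)| for every nontrivial proper subgroup A₀ of A; [C_V(T), P] ≠ 1; and P = ⟨A, xAx⁻¹⟩ for every x ∈ P outside M. Then, with q = |A|, there is a field F with q elements such that P ≅ SL₂(F), C_V(A) = [V, A]·C_V(P),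 and P acts on V/C_V(P) as SL₂(F) on its natural two-dimensional module. -/
theorem result {G : Type*} [Group G] [Finite G] {p : ℕ} [Fact p.Prime] (V P : Subgroup G) (hV : Cfsg.IsElementaryAbelian p V) (hPV : P ≤ Subgroup.normalizer (V : Set G)) (hfaith : P ⊓ Subgroup.centralizer (V : Set G) = ⊥) (hmin : Cfsg.IsPMinimal p ↥P) (T : Sylow p ↥P) (M : Subgroup ↥P) (hM : IsCoatom M) (hTM : (T : Subgroup ↥P) ≤ M) (A : Subgroup G) (hAT : A ≤ ((T : Subgroup ↥P).map P.subtype)) (hAel : Cfsg.IsElementaryAbelian p A) (hi : Nat.card ↥V ≤ Nat.card ↥A * Nat.card ↥(V ⊓ Subgroup.centralizer ((A : Subgroup G) : Set G)) ∧ ∀ A₀ : Subgroup G, A₀ ≤ A → A₀ ≠ ⊥ → A₀ ≠ A → Nat.card ↥A₀ * Nat.card ↥(V ⊓ Subgroup.centralizer ((A₀ : Subgroup G) : Set G)) < Nat.card ↥A * Nat.card ↥(V ⊓ Subgroup.centralizer ((A : Subgroup G) : Set G))) (hii : ⁅(V ⊓ Subgroup.centralizer ((((T : Subgroup ↥P).map P.subtype) : Subgroup G) : Set G)), P⁆ ≠ ⊥) (hiii : ∀ x : ↥P, x ∉ M → A ⊔ A.map (MulAut.conj (x : G)).toMonoidHom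 = P) : ∃ (F : Type) (_ : Field F) (_ : Fintype F), Fintype.card F = Nat.card ↥A ∧ Nonempty (↥P ≃* Matrix.SpecialLinearGroup (Fin 2) F) ∧ (V ⊓ Subgroup.centralizer ((A : Subgroup G) : Set G)) = ⁅V, A⁆ ⊔ (V ⊓ Subgroup.centralizer ((P : Subgroup G) : Set G)) ∧ Cfsg.ActsAsSL2OnSection F ⊤ P V (V ⊓ Subgroup.centralizer ((P : Subgroup G) : Set G)) := by
  haveI := hV.1
  have hVc : ∀ v ∈ V, ∀ w ∈ V, v * w = w * v := fun v hv w hw =>
    congrArg Subtype.val (mul_comm' (⟨v, hv⟩ : V) ⟨w, hw⟩)
  have hVp : IsPGroup p V := fun v => ⟨1, Subtype.ext (by rw [pow_one, SubmonoidClass.coe_pow]; exact hV.2 v v.2)⟩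
  have hAP : A ≤ P := hAT.trans (Subgroup.map_subtype_le _)
  obtain ⟨hb, hstrict⟩ := hi
  set A' : Subgroup P := A.subgroupOf P with hA'
  have hA'map : A'.map P.subtype = A := Subgroup.map_subgroupOf_eq_of_le hAP
  have hAne : A ≠ ⊥ := by
    intro h
    obtain ⟨x, hx⟩ : ∃ x : P, x ∉ M := by
      by_contra hc
      push Not at hc
      exact hM.1 (eq_top_iff.2 fun x _ => hc x)
    have h1 := hiii x hx
    rw [h, Subgroup.map_bot, bot_sup_eq] at h1
    exact hx (by
      have : (x : G) ∈ (⊥ : Subgroup G) := h1.symm ▸ x.2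
      rw [Subgroup.mem_bot] at this
      rw [show x = 1 from Subtype.ext this]
      exact one_mem M)
  -- quadratic action
  have hquad : ⁅V, A⁆ ≤ Subgroup.centralizer (A : Set G) := by
    haveI := hAel.1
    have hAV : A ≤ Subgroup.normalizer (V : Set G) := hAP.trans hPV
    have hab : ⁅A, A⁆ ≤ Subgroup.centralizer (V : Set G) := by
      rw [Subgroup.commutator_le]
      intro a ha b hb
      rw [commutatorElement_eq_one_iff_mul_comm.2 (congrArg Subtype.val (mul_comm' (⟨a, ha⟩ : A) ⟨b, hb⟩))]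
      exact one_mem _
    have hbest : ∀ C : Subgroup G, C ≤ A → Nat.card C * Nat.card (Replacement.cv V C) ≤
        Nat.card A * Nat.card (Replacement.cv V A) := by
      intro C hC
      rcases eq_or_ne C ⊥ with rfl | hC0
      · rw [Subgroup.card_bot, one_mul]
        exact (Nat.le_of_dvd Nat.card_pos (Subgroup.card_dvd_of_le inf_le_left)).trans hb
      rcases eq_or_ne C A with rfl | hCA
      · exact le_rfl
      exact (hstrict C hC hC0 hCA).le
    obtain ⟨h1, h2⟩ := Replacement.replacement hVc hAV hab hbest (S := (V : Set G)) subset_rfl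
    rw [Replacement.commSet_eq] at h1 h2
    have hC : A ⊓ Subgroup.centralizer ((⁅V, A⁆ : Subgroup G) : Set G) = A := by
      by_contra hne
      rcases eq_or_ne (A ⊓ Subgroup.centralizer ((⁅V, A⁆ : Subgroup G) : Set G)) ⊥ with hbot | hbot
      · refine hAne ?_
        have h3 : V ≤ ⁅V, A⁆ ⊔ Replacement.cv V A := by
          rw [← h1, hbot]
          exact le_inf le_rfl fun v _ => Subgroup.mem_centralizer_iff.2 fun b hb => by
            rw [Subgroup.mem_bot.1 hb, one_mul, mul_one]
        have h4 := Replacement.le_centralizer_of_le_sup hVp hVc hAV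
          (fun a ha => by rw [hAel.2 a ha]; exact one_mem _) h3
        rw [← le_bot_iff, ← hfaith]
        exact le_inf hAP (Subgroup.le_centralizer_iff.1 h4)
      · exact absurd h2 (ne_of_lt (hstrict _ inf_le_left hbot hne))
    exact Subgroup.le_centralizer_iff.1 (inf_eq_left.1 hC)
  letI := Cfsg.Agent.FFEmb.conjAct (V := V) hPV
  have hsmul : ∀ (h : P) (v : Additive V),
      ((Additive.toMul (h • v) : V) : G) = (h : G) * ((Additive.toMul v : V) : G) * (h : G)⁻¹ := fun _ _ => rfl
  have hfix : ∀ (h : P) (v : Additive V),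
      h • v = v ↔ (h : G) * ((Additive.toMul v : V) : G) = ((Additive.toMul v : V) : G) * (h : G) := by
    intro h v
    rw [← Additive.toMul.injective.eq_iff, Subtype.ext_iff, hsmul, mul_inv_eq_iff_eq_mul]
  have hfx : ∀ (B : Subgroup P) (v : Additive V), v ∈ FFEmb.fx (Additive V) B ↔
      ((Additive.toMul v : V) : G) ∈ Subgroup.centralizer ((B.map P.subtype : Subgroup G) : Set G) := fun B v =>
    ⟨fun h => by
      rintro _ ⟨b, hb, rfl⟩
      exact (hfix b v).1 (h b hb), fun h b hb => (hfix b v).2 (h b ⟨b, hb, rfl⟩)⟩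
  have hcfx : ∀ B : Subgroup P, Nat.card (FFEmb.fx (Additive V) B) =
      Nat.card ↥(V ⊓ Subgroup.centralizer ((B.map P.subtype : Subgroup G) : Set G)) := fun B => Nat.card_congr
    { toFun := fun v => ⟨((Additive.toMul (v : Additive V) : V) : G), (Additive.toMul (v : Additive V)).2,
        (hfx B _).1 v.2⟩
      invFun := fun v => ⟨Additive.ofMul ⟨(v : G), v.2.1⟩, (hfx B _).2 v.2.2⟩
      left_inv := fun _ => rfl
      right_inv := fun _ => rfl }
  have hcmap : ∀ B : Subgroup P, Nat.card B = Nat.card (B.map P.subtype) := fun B =>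
    Nat.card_congr (B.equivMapOfInjective _ P.subtype_injective).toEquiv
  obtain ⟨z, hzT, g, hgz⟩ : ∃ z : Additive V, (∀ t ∈ (T : Subgroup P), t • z = z) ∧ ∃ g : P, g • z ≠ z := by
    by_contra hc
    push Not at hc
    refine hii (Subgroup.commutator_eq_bot_iff_le_centralizer.2 fun w hw => ?_)
    intro g hg
    exact (hfix ⟨g, hg⟩ (Additive.ofMul ⟨w, hw.1⟩)).1
      (hc (Additive.ofMul ⟨w, hw.1⟩) (fun t ht => (hfix t (Additive.ofMul ⟨w, hw.1⟩)).2 (hw.2 (t : G) ⟨t, ht, rfl⟩)) ⟨g, hg⟩)
  have hd : PMinFF.Data p (Additive V) M A' T z := by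
    refine ⟨fun h hh => ?_, fun v => ⟨1, Additive.toMul.injective (Subtype.ext (by
      rw [pow_one, toMul_nsmul, SubmonoidClass.coe_pow, toMul_zero]; exact hV.2 _ (Additive.toMul v).2))⟩, ?_, hTM, hM.1,
      fun h => hAne ?_, ?_, fun B hB hB0 hB1 => ?_, fun a ha v => (hfx _ _).2 ?_, fun x hx => ?_, hzT,
      ⟨g, hgz⟩, frattini hmin T hM hTM⟩
    · have : (h : G) ∈ P ⊓ Subgroup.centralizer (V : Set G) :=
        ⟨h.2, fun v hv => ((hfix h (Additive.ofMul ⟨v, hv⟩)).1 (hh _)).symm⟩
      rw [hfaith, Subgroup.mem_bot] at this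
      exact Subtype.ext this
    · intro a ha
      obtain ⟨t, ht, he⟩ := hAT ha
      rwa [← Subtype.ext he]
    · rw [← hA'map, h, Subgroup.map_bot]
    · rw [hcfx, hcmap, hA'map]
      exact le_of_eq_of_le (Nat.card_congr Additive.toMul) hb
    · rw [hcfx, hcfx, hcmap B, hcmap A', hA'map]
      refine hstrict _ (hA'map ▸ Subgroup.map_mono hB) (fun h => hB0 ?_) fun h => hB1 ?_
      · exact (Subgroup.map_eq_bot_iff_of_injective B P.subtype_injective).1 h
      · exact Subgroup.map_injective P.subtype_injective (h.trans hA'map.symm)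
    · rw [toMul_sub, Subgroup.coe_div, hsmul, div_eq_mul_inv, hA'map, ← commutatorElement_def]
      refine hquad ?_
      rw [Subgroup.commutator_comm]
      exact Subgroup.commutator_mem_commutator ha (Additive.toMul v).2
    · refine Subgroup.map_injective P.subtype_injective ?_
      rw [Subgroup.map_sup, hA'map, ← MonoidHom.range_eq_map, Subgroup.range_subtype, FFEmb.conjS,
        Subgroup.map_map,
        show (P.subtype.comp (MulAut.conj x).toMonoidHom) = (MulAut.conj (x : G)).toMonoidHom.comp P.subtype from rfl,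
        ← Subgroup.map_map, hA'map]
      exact hiii x hx
  obtain ⟨F, hF1, hF2, ρ, ψ, hcard, hsurj, h0, hact, -⟩ := hd.natural
  have hP0 : ∀ v : Additive V, ψ v = 0 ↔ ((Additive.toMul v : V) : G) ∈ Subgroup.centralizer (P : Set G) := by
    intro v
    rw [h0]
    exact ⟨fun h g hg => (hfix ⟨g, hg⟩ v).1 (h ⟨g, hg⟩), fun h g => (hfix g v).2 (h g g.2)⟩
  refine ⟨F, hF1, hF2, ?_, ⟨ρ⟩, ?_, hPV, inf_le_left, ρ.toMonoidHom, AddMonoidHom.toMultiplicativeRight ψ,
    MonoidHom.range_eq_top.2 ρ.surjective, fun f => ?_, fun u => ?_, fun e u => ?_⟩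
  · rw [hcard, hcmap, hA'map]
  · refine le_antisymm (fun c hc => ?_) (sup_le (le_inf ?_ hquad)
      (inf_le_inf_left _ (Subgroup.centralizer_le hAP)))
    · obtain ⟨x, hx⟩ := hd.exists_not_mem
      obtain ⟨a, ha, u, hu, he⟩ := hd.exists_displacement hx (hd.smul_z_mem x) (hd.smul_z_not_Z x)
        (c := Additive.ofMul ⟨c, hc.1⟩) ((hfx _ _).2 (by rw [hA'map]; exact hc.2))
      have he' := congrArg (fun v : Additive V => ((Additive.toMul v : V) : G)) he
      simp only [toMul_add, toMul_ofMul, Subgroup.coe_mul] at he'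
      rw [← he']
      refine mul_mem (Subgroup.mem_sup_left ?_) (Subgroup.mem_sup_right ⟨(Additive.toMul u).2,
        fun g hg => (hfix ⟨g, hg⟩ u).1 (hu _ (Subgroup.mem_top _))⟩)
      rw [toMul_sub, Subgroup.coe_div, hsmul, div_eq_mul_inv, ← commutatorElement_def, Subgroup.commutator_comm]
      exact Subgroup.commutator_mem_commutator ha (Additive.toMul (x • z)).2
    · rw [Subgroup.commutator_le]
      exact fun v hv a ha => Replacement.commutator_mem (hAP.trans hPV) hv ha
  · obtain ⟨v, hv⟩ := hsurj (Multiplicative.toAdd f)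
    exact ⟨Additive.toMul v, congrArg Multiplicative.ofAdd hv⟩
  · show ψ (Additive.ofMul u) = 0 ↔ _
    rw [hP0]
    exact ⟨fun h => ⟨u.2, h⟩, fun h => h.2⟩
  · exact ⟨Additive.toMul (e • Additive.ofMul u), rfl, hact e (Additive.ofMul u)⟩

end Cfsg.Agent.S2999
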