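import Cfsg.Statements.S2981
import Cfsg.Agent.S0606
import Cfsg.Agent.S2999
import Cfsg.Agent.Lib.MinParFF.Quot
import Cfsg.Agent.Lib.PLocal.OmegaOne
import Cfsg.Agent.Lib.BaumannBlock.Module
-- import your own Cfsg.Agent.* helpers here

set_option autoImplicit false
open Cfsg

namespace Cfsg.Agent.S2981

open Cfsg.Agent.MinParFF Cfsg.Agent.FFEmb
open scoped IsMulCommutative

variable {G : Type*} [Group G] [Finite G] {p : ℕ} [Fact p.Prime]

theorem omega_normal : (Cfsg.omegaOneCenter p (Cfsg.pCore p G)).Normal := by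
  haveI := Cfsg.pCore_normal p G
  rw [← Subgroup.normalizer_eq_top_iff, eq_top_iff]
  exact (Subgroup.normalizer_eq_top_iff.2 inferInstance).ge.trans (BBlock.normalizer_le_omegaOneCenter _)

theorem omega_comm : IsMulCommutative ↥(Cfsg.omegaOneCenter p (Cfsg.pCore p G)) :=
  ⟨⟨fun a b => Subtype.ext ((Subgroup.mem_inf.1 (BBlock.omegaOneCenter_le p _ b.2)).2 a
    (Subgroup.mem_inf.1 (BBlock.omegaOneCenter_le p _ a.2)).1)⟩⟩

theorem pCore_le_cent :
    Cfsg.pCore p G ≤ Subgroup.centralizer (Cfsg.omegaOneCenter p (Cfsg.pCore p G) : Set G) :=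
  fun q hq v hv => ((Subgroup.mem_inf.1 (BBlock.omegaOneCenter_le p _ hv)).2 q hq).symm

theorem omegaSylow_le (hG : Subgroup.centralizer (Cfsg.pCore p G : Set G) ≤ Cfsg.pCore p G) (T : Sylow p G) :
    Cfsg.omegaOneCenter p (T : Subgroup G) ≤ Cfsg.omegaOneCenter p (Cfsg.pCore p G) := by
  rw [Cfsg.omegaOneCenter, Cfsg.omegaOne, Subgroup.closure_le]
  rintro x ⟨hx, hxp⟩
  obtain ⟨-, hxc⟩ := Subgroup.mem_inf.1 hx
  have hc : x ∈ Subgroup.centralizer (Cfsg.pCore p G : Set G) := fun q hq =>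
    hxc q (PBasic.pCore_le_sylow T hq)
  exact OmegaOne.mem (Subgroup.mem_inf.2 ⟨hG hc, hc⟩) hxp

theorem cent_le (hG : Subgroup.centralizer (Cfsg.pCore p G : Set G) ≤ Cfsg.pCore p G) (T : Sylow p G)
    (hne : Cfsg.cStarStarOf p (T : Subgroup G) ≠ ⊤) {S : Sylow p G} {M : Subgroup G} (hM : IsCoatom M)
    (hSM : (S : Subgroup G) ≤ M) (huniq : ∀ M' : Subgroup G, IsCoatom M' → (S : Subgroup G) ≤ M' → M' = M) :
    Subgroup.centralizer (Cfsg.omegaOneCenter p (Cfsg.pCore p G) : Set G) ≤ M := by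
  haveI := omega_normal (G := G) (p := p)
  set C := Subgroup.centralizer (Cfsg.omegaOneCenter p (Cfsg.pCore p G) : Set G)
  rcases eq_top_or_exists_le_coatom (C ⊔ (S : Subgroup G)) with h | ⟨M', hM', hle⟩
  · exfalso
    obtain ⟨g, hg⟩ := MulAction.exists_smul_eq G S T
    refine hne (top_le_iff.1 ?_)
    have h1 : C ⊔ (T : Subgroup G) = ⊤ := by
      have h2 := congrArg (Subgroup.map (MulAut.conj g).toMonoidHom) h
      rw [Subgroup.map_sup, show C.map (MulAut.conj g).toMonoidHom = C from Subgroup.Normal.map_conj_eq C g,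
        Subgroup.map_top_of_surjective _ (MulAut.conj g).surjective] at h2
      rwa [show (T : Subgroup G) = (S : Subgroup G).map (MulAut.conj g).toMonoidHom by rw [← hg]; rfl]
    refine h1.ge.trans (le_trans (sup_le (Subgroup.centralizer_le ?_) ?_) le_sup_left)
    · exact SetLike.coe_subset_coe.2 (omegaSylow_le hG T)
    · exact fun t ht x hx => ((Subgroup.mem_inf.1 (BBlock.omegaOneCenter_le p _ hx)).2 t ht).symm
  · rw [← huniq M' hM' (le_sup_right.trans hle)]
    exact le_sup_left.trans hle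

theorem exists_not_le (hmin : Cfsg.IsPMinimal p G) (T : Sylow p G)
    (hne : Cfsg.cStarStarOf p (T : Subgroup G) ≠ ⊤) {C M : Subgroup G} [C.Normal] (hM : IsCoatom M)
    (hTM : (T : Subgroup G) ≤ M) (hCM : C ≤ M) :
    ∃ A ∈ Cfsg.maxElementaryAbelianSubgroups p G, ¬ A ≤ C := by
  by_contra hcon
  push Not at hcon
  have hJ : Cfsg.thompsonSubgroupOf p (T : Subgroup G) ≤ C := by
    have h1 : Cfsg.thompsonSubgroupOf p (T : Subgroup G) ≤ Cfsg.thompsonSubgroup p G := by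
      rw [OmegaOne.thompsonSubgroup_eq_iSup]
      exact le_iSup (fun S : Sylow p G => Cfsg.thompsonSubgroupOf p (S : Subgroup G)) T
    exact h1.trans (sSup_le hcon)
  have hn : ((T : Subgroup G) ⊓ C).Normal := Cfsg.Agent.S2999.frattini hmin T hM hTM C inferInstance hCM
  refine hne (top_le_iff.1 (le_trans ?_ le_sup_right))
  rw [← Thompson.thompsonSubgroupOf_eq_of_le (le_inf (Thompson.thompsonSubgroupOf_le p _) hJ) inf_le_left]
  exact (Subgroup.normalizer_eq_top_iff.2 hn).ge.trans (Thompson.normalizer_le_normalizer_thompsonSubgroupOf p _)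

theorem elem_map {A : Subgroup G} (hA : Cfsg.IsElementaryAbelian p A) (C : Subgroup G) [C.Normal] :
    Elem p (A.map (QuotientGroup.mk' C)) :=
  have h := Thompson.isElementaryAbelian_map (QuotientGroup.mk' C) hA
  ⟨fun _ ha _ hb => Thompson.commute_of_isElementaryAbelian h ha hb, h.2⟩

theorem offender {V C : Subgroup G} [V.Normal] [IsMulCommutative V] [C.Normal]
    (hC : C ≤ Subgroup.centralizer (V : Set G)) (hV : Cfsg.IsElementaryAbelian p V) {A : Subgroup G}
    (hA : A ∈ Cfsg.maxElementaryAbelianSubgroups p G) :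
    letI := qAct hC
    Nat.card (Additive V) ≤ mu (Additive V) (A.map (QuotientGroup.mk' C)) := by
  letI := qAct hC
  obtain ⟨hbest, -, -⟩ := Cfsg.Agent.S0606.result V hV A hA
  have h0 := hbest (A ⊓ C) inf_le_left
  rw [show V ⊓ Subgroup.centralizer ((A ⊓ C : Subgroup G) : Set G) = V from inf_eq_left.2 fun v hv x hx =>
    (hC (Subgroup.mem_inf.1 hx).2 v hv).symm] at h0
  have e1 : Nat.card (Additive V) = Nat.card V := Nat.card_congr Additive.toMul
  have e3 : Nat.card (fx (Additive V) (A.map (QuotientGroup.mk' C))) =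
      Nat.card ↥(V ⊓ Subgroup.centralizer (A : Set G)) := by
    rw [← qfx_map hC, toG, Subgroup.card_subtype]
    exact Nat.card_congr (Equiv.subtypeEquiv Additive.toMul fun x => Iff.rfl)
  have e2 : Nat.card (A.map (QuotientGroup.mk' C)) * Nat.card ↥(A ⊓ C) = Nat.card A := by
    set f := (QuotientGroup.mk' C).comp A.subtype
    have hr : f.range = A.map (QuotientGroup.mk' C) := by
      rw [MonoidHom.range_comp, Subgroup.range_subtype]
    have hk : f.ker = C.subgroupOf A := by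
      rw [Subgroup.subgroupOf, ← MonoidHom.comap_ker, QuotientGroup.ker_mk']
    have h1 := Subgroup.card_mul_index f.ker
    rw [Subgroup.index_ker, hr, hk, mul_comm] at h1
    rwa [← Nat.card_congr (Subgroup.subgroupOfEquivOfLe (inf_le_left : A ⊓ C ≤ A)).toEquiv,
      Subgroup.inf_subgroupOf_left]
  rw [mu, e1, e3]
  refine Nat.le_of_mul_le_mul_left ?_ (Nat.card_pos (α := ↥(A ⊓ C)))
  rw [← mul_assoc, mul_comm (Nat.card ↥(A ⊓ C)) (Nat.card (A.map _)), e2]
  exact h0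

/-- The local C**(G,T)-Theorem for minimal parabolic groups. Let G be a finite p-minimal group (a Sylow p-subgroup T is not normal and lies in exactly one maximal subgroup) of characteristic p (C_G(O_p(G)) ≤ O_p(G)), and suppose G ≠ C**(G,T), the subgroup generated by C_G(Ω₁(Z(T))) and N_G(J(T)) (J(T) generated by the elementary abelian p-subgroups of T of largest order). Put V = Ω₁(Z(O_p(G))) and C = C_G(V). Then there are subgroups E₁, …, E_r of G containing C such that: J(G)TC = G and the E_i C/C form an internal direct product equal to J(G)C/C; any two of the E_i are conjugate by an element of T; V = C_V(⟨E_i⟩)·∏[V, E_i] with [V, E_i, E_j] = 1 for i ≠ j; for some n ≥ 1, each E_i/C is isomorphic to SL₂(pⁿ), or p = 2 and to the symmetric group of degree 2ⁿ + 1; and E_i acts on [V, E_i]/C_{[V,E_i]}(E_i) as the natural two-dimensional SL₂(pⁿ)-module, respectively as the symmetric group of degree 2ⁿ+1 on its even-weight permutation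 module. -/
theorem result {G : Type*} [Group G] [Finite G] {p : ℕ} [Fact p.Prime] (hmin : Cfsg.IsPMinimal p G) (hG : Subgroup.centralizer (Cfsg.pCore p G : Set G) ≤ Cfsg.pCore p G) (T : Sylow p G) (hne : Cfsg.cStarStarOf p (T : Subgroup G) ≠ ⊤) : ∃ (r : ℕ) (E : Fin r → Subgroup G), (∀ i, Subgroup.centralizer (Cfsg.omegaOneCenter p (Cfsg.pCore p G) : Set G) ≤ E i) ∧ Cfsg.thompsonSubgroup p G ⊔ (T : Subgroup G) ⊔ Subgroup.centralizer (Cfsg.omegaOneCenter p (Cfsg.pCore p G) : Set G) = ⊤ ∧ (⨆ i, E i) = Cfsg.thompsonSubgroup p G ⊔ Subgroup.centralizer (Cfsg.omegaOneCenter p (Cfsg.pCore p G) : Set G) ∧ (∀ i j, i ≠ j → ⁅E i, E j⁆ ≤ Subgroup.centralizer (Cfsg.omegaOneCenter p (Cfsg.pCore p G) : Set G)) ∧ (∀ i, E i ⊓ (⨆ j ∈ {j | j ≠ i}, E j) ≤ Subgroup.centralizer (Cfsg.omegaOneCenter p (Cfsg.pCore p G) : Set G)) ∧ (∀ i j, ∃ t ∈ (T : Subgroup G), (E i).map (MulAut.conj t).toMonoidHom = E j) ∧ (Cfsg.omegaOneCenter p (Cfsg.pCore p G) ⊓ Subgroup.centralizer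 ((⨆ i, E i : Subgroup G) : Set G)) ⊔ (⨆ i, ⁅Cfsg.omegaOneCenter p (Cfsg.pCore p G), E i⁆) = Cfsg.omegaOneCenter p (Cfsg.pCore p G) ∧ (∀ i j, i ≠ j → ⁅⁅Cfsg.omegaOneCenter p (Cfsg.pCore p G), E i⁆, E j⁆ = ⊥) ∧ ∀ i, ∃ n : ℕ, 1 ≤ n ∧ ((∃ (F : Type) (_ : Field F) (_ : Fintype F), Fintype.card F = p ^ n ∧ (∃ _ : ((Subgroup.centralizer (Cfsg.omegaOneCenter p (Cfsg.pCore p G) : Set G)).subgroupOf (E i)).Normal, Nonempty (↥(E i) ⧸ (Subgroup.centralizer (Cfsg.omegaOneCenter p (Cfsg.pCore p G) : Set G)).subgroupOf (E i) ≃* Matrix.SpecialLinearGroup (Fin 2) F)) ∧ Cfsg.ActsAsSL2OnSection F ⊤ (E i) ⁅Cfsg.omegaOneCenter p (Cfsg.pCore p G), E i⁆ (⁅Cfsg.omegaOneCenter p (Cfsg.pCore p G), E i⁆ ⊓ Subgroup.centralizer ((E i : Subgroup G) : Set G))) ∨ (p = 2 ∧ (∃ _ : ((Subgroup.centralizer (Cfsg.omegaOneCenter p (Cfsg.pCore p G) : Set G)).subgroupOf (E i)).Normal, Nonempty (↥(E i) ⧸ (Subgroup.centralizer (Cfsg.omegaOneCenter p (Cfsg.pCore p G) : Set G)).subgroupOf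 (E i) ≃* Equiv.Perm (Fin (2 ^ n + 1)))) ∧ Cfsg.ActsAsOddPermModuleOnSection (2 ^ n + 1) ⊤ (E i) ⁅Cfsg.omegaOneCenter p (Cfsg.pCore p G), E i⁆ (⁅Cfsg.omegaOneCenter p (Cfsg.pCore p G), E i⁆ ⊓ Subgroup.centralizer ((E i : Subgroup G) : Set G)))) := by
  obtain ⟨M, ⟨hM, hTM⟩, -⟩ := (hmin T).2
  haveI := omega_normal (G := G) (p := p)
  haveI := omega_comm (G := G) (p := p)
  set V := Cfsg.omegaOneCenter p (Cfsg.pCore p G) with hVdef
  set C := Subgroup.centralizer (V : Set G) with hCdef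
  have hC : C ≤ Subgroup.centralizer (V : Set G) := le_rfl
  have hVel : Cfsg.IsElementaryAbelian p V := ⟨inferInstance, fun a ha => BBlock.omegaOneCenter_pow ha⟩
  have hcl : ∀ (S : Sylow p G) (M : Subgroup G), IsCoatom M → (S : Subgroup G) ≤ M → C ≤ M :=
    fun S M hM hSM => cent_le hG T hne hM hSM fun M' h1 h2 => (hmin S).2.unique ⟨h1, h2⟩ ⟨hM, hSM⟩
  have hCM : C ≤ M := hcl T M hM hTM
  set φ := QuotientGroup.mk' C with hφ
  have hφs : Function.Surjective φ := QuotientGroup.mk'_surjective C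
  have hker : φ.ker = C := QuotientGroup.ker_mk' C
  have hminQ : Cfsg.IsPMinimal p (G ⧸ C) :=
    pmin_of_surjective hmin φ hφs fun S M hM hSM => hker.le.trans (hcl S M hM hSM)
  set T' : Sylow p (G ⧸ C) := Sylow.mapSurjective hφs T with hT'def
  have hT'c : (T' : Subgroup (G ⧸ C)) = (T : Subgroup G).map φ := Sylow.coe_mapSurjective hφs T
  obtain ⟨M', hM', hTM'⟩ := (hminQ T').2.exists
  letI := qAct hC
  haveI : Finite (Additive V) := Finite.of_equiv V Additive.ofMul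
  have hcore : ∀ N : Subgroup (G ⧸ C), N.Normal → IsPGroup p N → N = ⊥ := by
    intro N hN hNp
    set N' := N.comap φ with hN'
    haveI : N'.Normal := hN.comap φ
    have hle : N' ≤ C ⊔ (T : Subgroup G) := by
      rw [sup_comm, ← hker, ← Subgroup.comap_map_eq, ← hT'c]
      exact Subgroup.comap_mono (IsPGroup.le_sylow_of_normal hNp T')
    have hn : ((T : Subgroup G) ⊓ N').Normal :=
      Cfsg.Agent.S2999.frattini hmin T hM hTM N' inferInstance (hle.trans (sup_le hCM hTM))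
    have hQ : (T : Subgroup G) ⊓ N' ≤ C :=
      (PBasic.le_pCore hn (T.2.to_le inf_le_left)).trans pCore_le_cent
    rw [eq_bot_iff]
    intro q hq
    obtain ⟨g, rfl⟩ := hφs q
    have hg : g ∈ N' := hq
    obtain ⟨c, hc, t, ht, rfl⟩ := Subgroup.mem_sup_of_normal_left.1 (hle hg)
    have hcN : c ∈ N' := by
      show φ c ∈ N
      rw [show φ c = 1 from (QuotientGroup.eq_one_iff c).2 hc]
      exact N.one_mem
    have htN : t ∈ N' := by simpa using N'.mul_mem (N'.inv_mem hcN) hg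
    exact (QuotientGroup.eq_one_iff _).2 (C.mul_mem hc (hQ ⟨ht, htN⟩))
  obtain ⟨A₀, hA₀, hA₀C⟩ := exists_not_le hmin T hne hM hTM hCM
  have hA₀ne : A₀.map φ ≠ ⊥ := fun h => hA₀C (((Subgroup.map_eq_bot_iff A₀).1 h).trans hker.le)
  have hm : Mdl p (G ⧸ C) (Additive V) := ⟨qAct_faith hC le_rfl,
    fun v => Additive.toMul.injective (Subtype.ext (hVel.2 _ (Additive.toMul v).2)), hminQ, hcore,
    ⟨A₀.map φ, elem_map hA₀.1 C, hA₀ne, offender hC hVel hA₀⟩⟩
  obtain ⟨r, E, hr, hcomm, hinf, hgen, htrans, hsup, hcross, hnat, hle_prod, hprod_le⟩ :=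
    hm.hasFacStrong ⟨hM', T', hTM'⟩ hTM'
  set J := Cfsg.thompsonSubgroup p G with hJdef
  haveI hJn : J.Normal := by
    haveI := Thompson.thompsonSubgroup_characteristic p G
    infer_instance
  have hJmap : J.map φ = ⨆ i, E i := by
    refine le_antisymm ?_ (hprod_le _ (hJn.map φ hφs) _ (Subgroup.map_mono (le_sSup hA₀))
      (elem_map hA₀.1 C) hA₀ne (offender hC hVel hA₀))
    rw [Subgroup.map_le_iff_le_comap]
    refine sSup_le fun A hA => Subgroup.map_le_iff_le_comap.1 ?_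
    exact hle_prod _ (elem_map hA.1 C) (offender hC hVel hA)
  have hCE : ∀ i, C ≤ (E i).comap φ := fun i c hc => by
    show φ c ∈ E i
    rw [show φ c = 1 from (QuotientGroup.eq_one_iff c).2 hc]
    exact (E i).one_mem
  have hEJ : (⨆ i, (E i).comap φ) = J ⊔ C := by
    have h1 : (⨆ i, (E i).comap φ).map φ = ⨆ i, E i := by
      rw [Subgroup.map_iSup]
      exact iSup_congr fun i => Subgroup.map_comap_eq_self_of_surjective hφs _
    rw [← Subgroup.comap_map_eq_self (hker.le.trans ((hCE ⟨0, hr⟩).trans (le_iSup (fun i => (E i).comap φ) _))),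
      h1, ← hJmap, Subgroup.comap_map_eq, hker]
  have hEc : (⨆ i, (E i).comap φ) = (⨆ i, E i).comap φ := by
    rw [hEJ, ← hJmap, Subgroup.comap_map_eq, hker]
  refine ⟨r, fun i => (E i).comap φ, hCE, ?_, hEJ, fun i j hij => ?_, fun i => ?_, fun i j => ?_, ?_,
    fun i j hij => ?_, fun i => ?_⟩
  · rw [← hker, ← Subgroup.comap_map_eq, Subgroup.map_sup, hJmap, ← hT'c, hgen, Subgroup.comap_top]
  · rw [Subgroup.commutator_le]
    intro x hx y hy
    exact (QuotientGroup.eq_one_iff _).1 ((map_commutatorElement φ x y).trans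
      (commutatorElement_eq_one_iff_mul_comm.2 (hcomm i j hij _ hx _ hy)))
  · intro x hx
    obtain ⟨hx1, hx2⟩ := Subgroup.mem_inf.1 hx
    have hle : (⨆ j ∈ {j | j ≠ i}, (E j).comap φ) ≤ (⨆ j ∈ {j | j ≠ i}, E j).comap φ :=
      iSup₂_le fun j hj => Subgroup.comap_mono (le_iSup₂_of_le j hj le_rfl)
    have h3 : φ x ∈ (⊥ : Subgroup (G ⧸ C)) := hinf i ▸ Subgroup.mem_inf.2 ⟨hx1, hle hx2⟩
    exact (QuotientGroup.eq_one_iff x).1 h3
  · obtain ⟨t', ht', he⟩ := htrans i j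
    rw [hT'c] at ht'
    obtain ⟨t, ht, rfl⟩ := ht'
    refine ⟨t, ht, ?_⟩
    ext x
    show x ∈ conjS t ((E i).comap φ) ↔ φ x ∈ E j
    rw [← he, mem_conjS, mem_conjS, Subgroup.mem_comap, map_mul, map_mul, map_inv]
  · rw [hEc, ← qfx hC, show (⨆ i, ⁅V, (E i).comap φ⁆) = ⨆ i, toG (br (Additive V) (E i))
      from iSup_congr fun i => qbr hC (E i), ← toG_iSup, ← toG_sup, hsup, toG_top]
  · rw [Subgroup.commutator_eq_bot_iff_le_centralizer, qbr hC]
    intro x hx
    obtain ⟨h1, h2⟩ := mem_toG.1 hx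
    exact (Subgroup.mem_inf.1 ((qfx hC (E j)).le (mem_toG.2 ⟨h1, hcross i j hij h2⟩))).2
  · obtain ⟨n, hn, h⟩ := hnat i
    refine ⟨n, hn, ?_⟩
    rcases h with h | ⟨hp2, h⟩
    · exact Or.inl (qacts_sl hC h)
    · exact Or.inr ⟨hp2, qacts_perm hC h⟩

end Cfsg.Agent.S2981
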