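import Cfsg.Statements.S4006
import Mathlib
import Cfsg.Agent.Lib.Solvable.Basic
import Cfsg.Agent.Lib.Solvable.FixedPointFree
import Cfsg.Agent.Lib.Solvable.Fitting
import Cfsg.Agent.S0144

set_option autoImplicit false
set_option linter.style.haveILetI false

namespace Cfsg.Agent.S4006

open scoped commutatorElement Classical

section TwoEngel

/-- Operators with vanishing squares coming from a representation anticommute. -/
theorem ring_two_engel {H R : Type*} [Group H] [Ring R] (φ : H →* R)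
    (hsq : ∀ g, (φ g - 1) * (φ g - 1) = 0) (g h : H) :
    (φ g - 1) * (φ h - 1) + (φ h - 1) * (φ g - 1) = 0 ∧
      φ ⁅g, h⁆ - 1 = (φ g - 1) * (φ h - 1) + (φ g - 1) * (φ h - 1) := by
  obtain ⟨a, ha⟩ : ∃ a, a = φ g - 1 := ⟨_, rfl⟩
  obtain ⟨b, hb⟩ : ∃ b, b = φ h - 1 := ⟨_, rfl⟩
  have hag : φ g = 1 + a := by rw [ha]; abel
  have hbh : φ h = 1 + b := by rw [hb]; abel
  have a2 : a * a = 0 := by rw [ha]; exact hsq g
  have b2 : b * b = 0 := by rw [hb]; exact hsq h
  rw [← ha, ← hb]
  have e : (a + b + a * b) * (a + b + a * b) = 0 := by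
    have h1 := hsq (g * h)
    rw [map_mul, hag, hbh, show (1 + a) * (1 + b) - 1 = a + b + a * b by noncomm_ring] at h1
    exact h1
  have e1 : b * a + a * b + a * b * a + b * a * b + a * b * a * b = 0 := by
    have : (a + b + a * b) * (a + b + a * b) =
        a * a + b * b + (b * a + a * b + a * b * a + b * a * b + a * b * a * b) + (a * a) * b +
          a * (b * b) := by noncomm_ring
    rw [e, a2, b2, zero_mul, mul_zero] at this
    simpa using this.symm
  have unit : ∀ k : H, φ k * φ k⁻¹ = 1 := fun k => by rw [← map_mul, mul_inv_cancel, map_one]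
  have e3 : a * b * a = 0 := by
    have h' := congrArg (a * ·) e1
    simp only [mul_zero] at h'
    rw [show a * (b * a + a * b + a * b * a + b * a * b + a * b * a * b) = a * b * a * (1 + b) +
      (a * a) * (b + b * a + b * a * b) by noncomm_ring, a2, zero_mul, add_zero, ← hbh] at h'
    have h'' := congrArg (· * φ h⁻¹) h'
    simp only [zero_mul] at h''
    rwa [mul_assoc, unit, mul_one] at h''
  have e4 : b * a * b = 0 := by
    rw [e3, zero_mul, add_zero, add_zero] at e1
    have h' := congrArg (· * b) e1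
    simp only [zero_mul] at h'
    rw [show (b * a + a * b + b * a * b) * b = b * a * b + (a + b * a) * (b * b) by noncomm_ring, b2,
      mul_zero, add_zero] at h'
    exact h'
  rw [e3, e4, zero_mul, add_zero, add_zero, add_zero] at e1
  have hba : b * a = -(a * b) := eq_neg_of_add_eq_zero_left e1
  refine ⟨by rw [add_comm]; exact e1, ?_⟩
  have hinv : ∀ (k : H) (c : R), φ k = 1 + c → c * c = 0 → φ k⁻¹ = 1 - c := by
    intro k c hk hc
    have h2 : φ k⁻¹ * φ k = 1 := by rw [← map_mul, inv_mul_cancel, map_one]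
    have h3 : φ k * (1 - c) = 1 := by
      rw [hk, show (1 + c) * (1 - c) = 1 - c * c by noncomm_ring, hc, sub_zero]
    exact left_inv_eq_right_inv h2 h3
  rw [commutatorElement_def, map_mul, map_mul, map_mul, hag, hbh, hinv g a hag a2, hinv h b hbh b2,
    show (1 + a) * (1 + b) * (1 - a) * (1 - b) - 1 = a * b - b * a - (a * a + b * b) + (a * a) * b +
      b * a * b - a * b * a - a * (b * b) + (a * b * a) * b by noncomm_ring,
    a2, b2, e3, e4, hba, zero_mul, mul_zero]
  abel

variable {G : Type*} [Group G]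

/-- A group without elements of order three in which conjugates commute has class at most two. -/
theorem class_two (hconj : ∀ x y : G, Commute x (y * x * y⁻¹)) (h3 : ∀ g : G, g ^ 3 = 1 → g = 1)
    (x y z : G) : ⁅z, ⁅y, x⁆⁆ = 1 := by
  have hinv : ∀ g u : G, ⁅g, u⁻¹⁆ = ⁅g, u⁆⁻¹ := by
    intro g u
    have h := (hconj u g).inv_left
    rw [commutatorElement_def, commutatorElement_def]
    calc g * u⁻¹ * g⁻¹ * u⁻¹⁻¹ = (g * u * g⁻¹)⁻¹ * u := by group
      _ = u * (g * u * g⁻¹)⁻¹ := ((hconj u g).inv_right).eq.symm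
      _ = _ := by group
  -- the additive group of the normal closure of an element, as a module
  have key : ∀ a : G, (∀ g h : G, ⁅g, ⁅h, a⁆⁆ = ⁅h, ⁅g, a⁆⁆⁻¹) ∧
      ∀ g h : G, ⁅⁅g, h⁆, a⁆ = ⁅g, ⁅h, a⁆⁆ ^ 2 := by
    intro a
    set A := Subgroup.normalClosure ({a} : Set G) with hA
    haveI : IsMulCommutative A := by
      have hmem : ∀ v ∈ Group.conjugatesOfSet ({a} : Set G), ∃ g : G, g * a * g⁻¹ = v := fun v hv => by
        obtain ⟨b, hb, hbv⟩ := Group.mem_conjugatesOfSet_iff.1 hv
        rw [Set.mem_singleton_iff] at hb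
        exact isConj_iff.1 (hb ▸ hbv)
      refine Subgroup.isMulCommutative_closure fun v hv w hw => ?_
      obtain ⟨g, rfl⟩ := hmem v hv
      obtain ⟨k, rfl⟩ := hmem w hw
      have h := ((hconj a (g⁻¹ * k)).map (MulAut.conj g).toMonoidHom).eq
      simp only [MulEquiv.coe_toMonoidHom, MulAut.conj_apply] at h
      rwa [show g * (g⁻¹ * k * a * (g⁻¹ * k)⁻¹) * g⁻¹ = k * a * k⁻¹ by group] at h
    letI : CommGroup A := { (inferInstance : Group A) with mul_comm := fun u v => mul_comm' u v }
    let φ : G →* AddMonoid.End (Additive A) :=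
      { toFun := fun g => MonoidHom.toAdditive ((MulAut.conjNormal g : MulAut A).toMonoidHom)
        map_one' := by ext u; simp; rfl
        map_mul' := fun g h => by ext u; simp; rfl }
    let D : G → AddMonoid.End (Additive A) := fun g => φ g - 1
    have hD : ∀ (g : G) (u : A), ((Additive.toMul (D g (Additive.ofMul u)) : A) : G) = ⁅g, (u : G)⁆ := by
      intro g u
      show (((MulAut.conjNormal g u) / u : A) : G) = _
      rw [div_eq_mul_inv, Subgroup.coe_mul, MulAut.conjNormal_apply, Subgroup.coe_inv,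
        commutatorElement_def]
    have hsq : ∀ g, D g * D g = 0 := by
      intro g
      refine AddMonoidHom.ext fun u => ?_
      obtain ⟨u, rfl⟩ := Additive.ofMul.surjective u
      apply Additive.toMul.injective
      apply Subtype.ext
      show ((Additive.toMul (D g (Additive.ofMul (Additive.toMul (D g (Additive.ofMul u))))) : A) : G) = 1
      rw [hD, hD, commutatorElement_eq_one_iff_mul_comm]
      have hc : Commute g ⁅g, (u : G)⁆ := by
        rw [commutatorElement_def, mul_assoc, mul_assoc, ← mul_assoc (u : G)]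
        exact (Commute.refl g).mul_right ((hconj g (u : G)).inv_right |> fun h => by
          rwa [show ((u : G) * g * (u : G)⁻¹)⁻¹ = (u : G) * g⁻¹ * (u : G)⁻¹ by group] at h)
      exact hc.eq
    let a' : A := ⟨a, Subgroup.subset_normalClosure rfl⟩
    have hDD : ∀ g h : G,
        ((Additive.toMul ((D g * D h) (Additive.ofMul a')) : A) : G) = ⁅g, ⁅h, a⁆⁆ := by
      intro g h
      show ((Additive.toMul (D g (Additive.ofMul (Additive.toMul (D h (Additive.ofMul a'))))) : A) : G) = _
      rw [hD, hD]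
    refine ⟨fun g h => ?_, fun g h => ?_⟩
    · rw [← hDD g h, ← hDD h g, eq_neg_of_add_eq_zero_left (ring_two_engel φ hsq g h).1]
      rfl
    · have hc : D ⁅g, h⁆ = D g * D h + D g * D h := (ring_two_engel φ hsq g h).2
      have h1 := hD ⁅g, h⁆ a'
      rw [hc] at h1
      rw [← h1, pow_two, ← hDD g h]
      rfl
  have hswap : ∀ g u v : G, ⁅g, ⁅u, v⁆⁆ = ⁅g, ⁅v, u⁆⁆⁻¹ := fun g u v => by
    rw [← commutatorElement_inv v u, hinv]
  apply h3
  -- cyclic invariance
  have hcyc : ⁅y, ⁅x, z⁆⁆ = ⁅z, ⁅y, x⁆⁆ := by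
    rw [hswap y x z, (key x).1 y z, inv_inv]
  have h2 := (key z).2 y x
  rw [hcyc] at h2
  have h4 : ⁅⁅y, x⁆, z⁆ = ⁅z, ⁅y, x⁆⁆⁻¹ := (commutatorElement_inv _ _).symm
  rw [h4] at h2
  rw [pow_succ, ← h2, inv_mul_cancel]

end TwoEngel

section Elementary

variable {N : Type*} [Group N]

/-- The action of the symmetric group of degree three with all products of order at most four. -/
theorem elementary (U S : MulAut N) (hU : ∀ x, U (U x) = x) (hS : ∀ x, S (S (S x)) = x)
    (hrel : ∀ x, U (S x) = S (S (U x))) (hnorm : ∀ x, x * S x * S (S x) = 1)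
    (hfix : ∀ x, S x = x → x = 1) (h4 : ∀ x : N, x ^ 4 = 1) (h2 : ∀ x, (x * U x) ^ 2 = 1)
    (hcl : ∀ x y : N, ⁅x, y⁆ ∈ Subgroup.center N) :
    (∀ x y : N, x * y = y * x) ∧ ∀ x : N, x ^ 2 = 1 := by
  set V : N → N := fun x => S (U (S (S x))) with hV
  have hUV : ∀ x, U (V x) = S x := fun x => by
    show U (S (U (S (S x)))) = S x
    rw [hrel, hU, hS]
  have hUS2 : ∀ x, U (S (S x)) = S (U x) := fun x => by rw [hrel, hrel, hS]
  have hVU : ∀ x, V (U x) = S (S x) := fun x => by
    show S (U (S (S (U x)))) = S (S x)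
    rw [← hrel, hU]
  have hV2 : ∀ x, (x * V x) ^ 2 = 1 := fun x => by
    have := congrArg S (h2 (S (S x)))
    rwa [map_pow, map_mul, hS, map_one] at this
  have hUcen : ∀ (T : MulAut N), ∀ z ∈ Subgroup.center N, T z ∈ Subgroup.center N := fun T z hz => by
    rw [Subgroup.mem_center_iff] at hz ⊢
    intro g
    obtain ⟨g, rfl⟩ := T.surjective g
    rw [← map_mul, ← map_mul, hz g]
  -- central elements are involutions
  have hZ : ∀ z ∈ Subgroup.center N, z ^ 2 = 1 := by
    intro z hz
    have hsq : ∀ w : N, (z * w) ^ 2 = 1 → w ^ 2 = z ^ 2 := fun w h => by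
      have hc : Commute z w := (Subgroup.mem_center_iff.1 hz w).symm
      rw [hc.mul_pow] at h
      have : z ^ 2 * z ^ 2 = 1 := by rw [← pow_add]; exact h4 z
      rw [← this] at h
      exact mul_left_cancel h
    have hu : U (z ^ 2) = z ^ 2 := by rw [map_pow]; exact hsq _ (h2 z)
    have hv : V z ^ 2 = z ^ 2 := hsq _ (hV2 z)
    refine hfix _ ?_
    have := hUV z
    rw [map_pow, ← this, ← map_pow, hv, hu]
  set Z := Subgroup.center N
  have hc2 : ∀ x y : N, ⁅x, y⁆ ^ 2 = 1 := fun x y => hZ _ (hcl x y)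
  have hsqZ : ∀ x : N, x ^ 2 ∈ Z := by
    intro x
    rw [Subgroup.mem_center_iff]
    intro y
    set c := ⁅x, y⁆ with hc
    have hxy : x * y = c * y * x := by rw [hc, commutatorElement_def]; group
    have hcc := Subgroup.mem_center_iff.1 (hcl x y)
    symm
    calc x ^ 2 * y = x * (x * y) := by rw [pow_two, mul_assoc]
      _ = x * c * y * x := by rw [hxy]; group
      _ = c * (x * y) * x := by rw [show x * c = c * x from hcc x]; group
      _ = c ^ 2 * y * x ^ 2 := by rw [hxy, pow_two, pow_two]; group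
      _ = y * x ^ 2 := by rw [hc2, one_mul]
  -- reduction of commutation modulo the centre
  have hcomm_mod : ∀ {a b a' b' : N}, Commute a b → a⁻¹ * a' ∈ Z → b⁻¹ * b' ∈ Z → Commute a' b' := by
    intro a b a' b' hab ha hb
    have h1 : a' = a * (a⁻¹ * a') := by group
    have h2 : b' = b * (b⁻¹ * b') := by group
    rw [h1, h2]
    have hzc : ∀ z ∈ Z, ∀ w, Commute z w := fun z hz w => (Subgroup.mem_center_iff.1 hz w).symm
    exact ((hab.mul_right (hzc _ hb a).symm).mul_left (hzc _ ha _))
  have hinvol : ∀ {a b : N}, a ^ 2 = 1 → b ^ 2 = 1 → (a * b) ^ 2 = 1 → Commute a b := by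
    intro a b ha hb hab
    have e : ∀ u : N, u ^ 2 = 1 → u⁻¹ = u := fun u hu => inv_eq_of_mul_eq_one_left (by rw [← pow_two]; exact hu)
    show a * b = b * a
    rw [← e _ hab, mul_inv_rev, e a ha, e b hb]
  set g : N → N := fun y => y * U y with hg
  -- `g` is multiplicative modulo the centre
  have hgmul : ∀ y y', (g y * g y')⁻¹ * g (y * y') ∈ Z := by
    intro y y'
    have : (g y * g y')⁻¹ * g (y * y') = (U y')⁻¹ * ⁅y'⁻¹, (U y)⁻¹⁆ * U y' := by
      simp only [hg, map_mul, commutatorElement_def]; group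
    rw [this, mul_assoc, ← Subgroup.mem_center_iff.1 (hcl y'⁻¹ (U y)⁻¹), ← mul_assoc, inv_mul_cancel,
      one_mul]
    exact hcl _ _
  have hgsq : ∀ y, g y ^ 2 = 1 := h2
  have hWW : ∀ y y', Commute (g y) (g y') := by
    intro y y'
    refine hinvol (hgsq y) (hgsq y') ?_
    have h1 : g (y * y') = g y * g y' * ((g y * g y')⁻¹ * g (y * y')) := by group
    have hz := hgmul y y'
    have hc : Commute (g y * g y') ((g y * g y')⁻¹ * g (y * y')) := Subgroup.mem_center_iff.1 hz _
    have := hgsq (y * y')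
    rw [h1, hc.mul_pow, hZ _ hz, mul_one] at this
    exact this
  have hinvs : ∀ y, (g y)⁻¹ = g y := fun y =>
    inv_eq_of_mul_eq_one_left (by rw [← pow_two]; exact hgsq y)
  have hS2eq : ∀ x, S (S x) = (x * S x)⁻¹ := fun x => eq_inv_of_mul_eq_one_right (hnorm x)
  have hWS : ∀ y, Commute (g y) (S (g y)) := by
    intro y
    have hss : ∀ T : MulAut N, (T (g y)) ^ 2 = 1 := fun T => by rw [← map_pow, hgsq, map_one]
    refine hinvol (hgsq y) (hss S) ?_
    have h : g y * S (g y) = (S (S (g y)))⁻¹ := eq_inv_of_mul_eq_one_left (hnorm (g y))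
    rw [h, inv_pow, ← map_pow, ← map_pow, hgsq, map_one, map_one, inv_one]
  -- the pairing is symmetric, fixed by `S`, hence trivial
  have hcl' : ∀ a b c : N, ⁅a * b, c⁆ = ⁅a, c⁆ * ⁅b, c⁆ := fun a b c => by
    have h2 := Subgroup.mem_center_iff.1 (hcl b c)
    calc ⁅a * b, c⁆ = a * ⁅b, c⁆ * a⁻¹ * ⁅a, c⁆ := by simp only [commutatorElement_def]; group
      _ = ⁅b, c⁆ * ⁅a, c⁆ := by rw [h2 a, mul_inv_cancel_right]
      _ = ⁅a, c⁆ * ⁅b, c⁆ := (h2 _).symm
  have hcr : ∀ a b c : N, ⁅c, a * b⁆ = ⁅c, a⁆ * ⁅c, b⁆ := fun a b c => by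
    rw [← commutatorElement_inv, hcl', mul_inv_rev, commutatorElement_inv, commutatorElement_inv]
    exact Subgroup.mem_center_iff.1 (hcl c a) _
  have hWSW : ∀ y y', Commute (g y) (S (g y')) := by
    intro y y'
    have hinv2 : ∀ u v : N, ⁅u, v⁆⁻¹ = ⁅u, v⁆ := fun u v =>
      inv_eq_of_mul_eq_one_left (by rw [← pow_two]; exact hc2 u v)
    -- symmetry
    have hsym : ⁅g y, S (g y')⁆ = ⁅g y', S (g y)⁆ := by
      have hz := hgmul y y'
      have hcm : Commute (g y * g y') (S (g y * g y')) := by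
        refine hcomm_mod (hWS (y * y')) ?_ ?_
        · have := Z.inv_mem hz
          rwa [mul_inv_rev, inv_inv] at this
        · have h' := hUcen S _ (Z.inv_mem hz)
          rw [mul_inv_rev, inv_inv, map_mul, map_inv] at h'
          exact h'
      have h := commutatorElement_eq_one_iff_mul_comm.2 hcm.eq
      rw [map_mul, hcl', hcr, hcr, commutatorElement_eq_one_iff_mul_comm.2 (hWS y).eq,
        commutatorElement_eq_one_iff_mul_comm.2 (hWS y').eq, one_mul, mul_one] at h
      rw [eq_inv_of_mul_eq_one_left h, hinv2]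
    have hfixed : S ⁅g y, S (g y')⁆ = ⁅g y, S (g y')⁆ := by
      rw [map_commutatorElement, hS2eq (g y'), mul_inv_rev, hinvs,
        show (S (g y'))⁻¹ = S (g y') by rw [← map_inv, hinvs], hcr,
        ← map_commutatorElement S, commutatorElement_eq_one_iff_mul_comm.2 (hWW y y').eq, map_one,
        one_mul, ← commutatorElement_inv, hinv2, ← hsym]
    exact commutatorElement_eq_one_iff_mul_comm.1 (hfix _ hfixed)
  -- the centre and the two pieces generate
  set T : Set N := (Z : Set N) ∪ (Set.range g ∪ Set.range (fun y => S (g y))) with hT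
  have hTc : ∀ a ∈ T, ∀ b ∈ T, a * b = b * a := by
    rintro a (ha | ⟨y, rfl⟩ | ⟨y, rfl⟩) b hb
    · exact (Subgroup.mem_center_iff.1 ha b).symm
    · rcases hb with hb | ⟨y', rfl⟩ | ⟨y', rfl⟩
      · exact Subgroup.mem_center_iff.1 hb _
      · exact (hWW y y').eq
      · exact (hWSW y y').eq
    · rcases hb with hb | ⟨y', rfl⟩ | ⟨y', rfl⟩
      · exact Subgroup.mem_center_iff.1 hb _
      · exact (hWSW y' y).symm.eq
      · exact ((hWW y y').map S.toMonoidHom).eq
  have htop : Subgroup.closure T = ⊤ := by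
    rw [eq_top_iff]
    intro x _
    set w := S (S (x * U x)) with hw
    have hxmem : g (x * V x) * S (g w) ∈ Subgroup.closure T :=
      mul_mem (Subgroup.subset_closure (Or.inr (Or.inl ⟨_, rfl⟩)))
        (Subgroup.subset_closure (Or.inr (Or.inr ⟨w, rfl⟩)))
    let q := QuotientGroup.mk' Z
    have hqc : ∀ a b : N, q a * q b = q b * q a := fun a b => by
      rw [← commutatorElement_eq_one_iff_mul_comm, ← map_commutatorElement]
      exact (QuotientGroup.eq_one_iff _).2 (hcl a b)
    letI : CommGroup (N ⧸ Z) := { (inferInstance : Group (N ⧸ Z)) with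
      mul_comm := fun a b => by
        obtain ⟨a, rfl⟩ := QuotientGroup.mk'_surjective Z a
        obtain ⟨b, rfl⟩ := QuotientGroup.mk'_surjective Z b
        exact hqc a b }
    have hq2 : ∀ a : N, q a * q a = 1 := fun a => by
      rw [← map_mul, ← pow_two]; exact (QuotientGroup.eq_one_iff _).2 (hsqZ a)
    have heq : q (g (x * V x) * S (g w)) = q x := by
      have e1 : g (x * V x) * S (g w) = x * V x * (U x * U (V x)) * (x * U x * (V x * V (U x))) := by
        simp only [hg, hw, map_mul, hS]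
        rfl
      rw [e1, hUV, hVU]
      have h3 : q (S x) * q (S (S x)) = q x := by
        have := congrArg q (hnorm x)
        rw [map_mul, map_mul, map_one, mul_assoc] at this
        rw [eq_inv_of_mul_eq_one_right this, inv_eq_of_mul_eq_one_left (hq2 x)]
      simp only [map_mul]
      calc q x * q (V x) * (q (U x) * q (S x)) * (q x * q (U x) * (q (V x) * q (S (S x))))
          = (q x * q x) * (q (V x) * q (V x)) * (q (U x) * q (U x)) * (q (S x) * q (S (S x))) := by
            simp only [mul_comm, mul_assoc, mul_left_comm]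
        _ = q x := by rw [hq2, hq2, hq2, h3, one_mul, one_mul, one_mul]
    have hz : (g (x * V x) * S (g w))⁻¹ * x ∈ Z := QuotientGroup.eq.1 heq
    have := mul_mem hxmem (Subgroup.subset_closure (Or.inl hz) : _ ∈ Subgroup.closure T)
    rwa [mul_inv_cancel_left] at this
  have hab : ∀ x y : N, x * y = y * x := by
    haveI := Subgroup.isMulCommutative_closure (k := T) hTc
    intro x y
    exact setLike_mul_comm (s := Subgroup.closure T) (htop ▸ Subgroup.mem_top x) (htop ▸ Subgroup.mem_top y)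
  exact ⟨hab, fun x => hZ x (Subgroup.mem_center_iff.2 fun y => hab y x)⟩

end Elementary

section Spectrum

variable {G : Type*} [Group G]

variable (G) in
/-- All element orders are at most four. -/
def Small : Prop := ∀ g : G, orderOf g ≤ 4

omit [Group G] in
lemma pos_of_small [Group G] [Finite G] (g : G) : 0 < orderOf g := orderOf_pos g

variable [Finite G]

lemma no_six (h : Small G) {X : Type*} [Group X] (f : G →* X) {a b : G} (ha : orderOf (f a) = 2)
    (hb : orderOf (f b) = 3) (hab : f a * f b = f b * f a) : False := by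
  have h6 : orderOf (f a * f b) = 6 := by
    rw [Commute.orderOf_mul_eq_mul_orderOf_of_coprime hab (by rw [ha, hb]; norm_num), ha, hb]
  rw [← map_mul] at h6
  have hdvd := orderOf_map_dvd f (a * b)
  rw [h6] at hdvd
  have := Nat.le_of_dvd (orderOf_pos _) hdvd
  have := h (a * b)
  omega

lemma order_of_two_power (h : Small G) {g : G} {k : ℕ} (hg : g ^ 2 ^ k = 1) : g ^ 4 = 1 := by
  obtain ⟨i, -, hi⟩ := (Nat.dvd_prime_pow Nat.prime_two).1 (orderOf_dvd_of_pow_eq_one hg)
  refine orderOf_dvd_iff_pow_eq_one.1 ?_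
  rw [hi]
  refine (pow_dvd_pow 2 (?_ : i ≤ 2)).trans (by norm_num)
  by_contra hlt
  have h1 := h g
  rw [hi] at h1
  have : 2 ^ 3 ≤ 2 ^ i := Nat.pow_le_pow_right (by norm_num) (by omega)
  omega

lemma order_of_three_power (h : Small G) {g : G} {k : ℕ} (hg : g ^ 3 ^ k = 1) : g ^ 3 = 1 := by
  obtain ⟨i, -, hi⟩ := (Nat.dvd_prime_pow Nat.prime_three).1 (orderOf_dvd_of_pow_eq_one hg)
  refine orderOf_dvd_iff_pow_eq_one.1 ?_
  rw [hi]
  refine (pow_dvd_pow 3 (?_ : i ≤ 1)).trans (by norm_num)
  by_contra hlt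
  have h1 := h g
  rw [hi] at h1
  have : 3 ^ 2 ≤ 3 ^ i := Nat.pow_le_pow_right (by norm_num) (by omega)
  omega

lemma centralizer_le_core (h : Small G) {p q : ℕ} (hpq : (p = 2 ∧ q = 3) ∨ (p = 3 ∧ q = 2))
    (hG : ∀ r : ℕ, r.Prime → r ∣ Nat.card G → r = 2 ∨ r = 3)
    (hN : Cfsg.pCore p G ≠ ⊥) :
    Subgroup.centralizer (Cfsg.pCore p G : Set G) ≤ Cfsg.pCore p G := by
  haveI : (Cfsg.pCore p G).Normal := FittingCores.pCore_normal p
  set C := Subgroup.centralizer (Cfsg.pCore p G : Set G)
  haveI : C.Normal := inferInstance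
  have hp : p.Prime := by rcases hpq with ⟨rfl, rfl⟩ | ⟨rfl, rfl⟩ <;> norm_num
  haveI := Fact.mk hp
  refine FittingCores.le_pCore inferInstance ?_
  obtain ⟨w, hw⟩ : ∃ w : Cfsg.pCore p G, orderOf w = p := by
    obtain ⟨k, hk⟩ := IsPGroup.iff_card.1 (FittingCores.pCore_isPGroup (G := G) p)
    refine exists_prime_orderOf_dvd_card' p ?_
    rcases k with _ | k
    · exact absurd (Subgroup.card_eq_one.1 (by rw [hk, pow_zero])) hN
    · exact hk ▸ dvd_pow_self p (Nat.succ_ne_zero k)
  refine IsPGroup.of_card (n := (Nat.card C).primeFactorsList.length) ?_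
  refine Nat.eq_prime_pow_of_unique_prime_dvd Nat.card_pos.ne' fun {r} hr hrd => ?_
  by_contra hne
  haveI := Fact.mk hr
  obtain ⟨v, hv⟩ := exists_prime_orderOf_dvd_card' r hrd
  have hc : (w : G) * v = v * w := Subgroup.mem_centralizer_iff.1 v.2 w w.2
  have hr23 := hG r hr (hrd.trans (Subgroup.card_subgroup_dvd_card C))
  rcases hpq with ⟨rfl, rfl⟩ | ⟨rfl, rfl⟩
  · obtain rfl : r = 3 := hr23.resolve_left hne
    exact no_six h (MonoidHom.id G) (a := (w : G)) (b := (v : G))
      ((Subgroup.orderOf_coe w).trans hw) ((Subgroup.orderOf_coe v).trans hv) hc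
  · obtain rfl : r = 2 := hr23.resolve_right hne
    exact no_six h (MonoidHom.id G) (a := (v : G)) (b := (w : G))
      ((Subgroup.orderOf_coe v).trans hv) ((Subgroup.orderOf_coe w).trans hw) hc.symm

end Spectrum

end Cfsg.Agent.S4006


set_option autoImplicit false
open Cfsg
open scoped commutatorElement

namespace Cfsg.Agent.S4006

/-- A finite group whose set of element orders is exactly {1, 2, 3, 4} has a normal subgroup N such that either N is a 2-group of exponent 4 and nilpotency class at most 2 with G/N of order 3, or N is an elementary abelian 2-group with G/N isomorphic to the symmetric group of degree 3, or N is an elementary abelian 3-group with G/N cyclic of order 4 or quaternion of order 8. -/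
theorem result {G : Type*} [Group G] [Finite G] (h : Set.range (orderOf : G → ℕ) = {k : ℕ | 1 ≤ k ∧ k ≤ 4}) :
    ∃ (N : Subgroup G) (_ : N.Normal),
      (IsPGroup 2 ↥N ∧ Monoid.exponent ↥N = 4 ∧ Group.nilpotencyClass ↥N ≤ 2 ∧ N.index = 3) ∨
      (Cfsg.IsElementaryAbelian 2 N ∧ Nonempty (G ⧸ N ≃* Equiv.Perm (Fin 3))) ∨
      (Cfsg.IsElementaryAbelian 3 N ∧ ((IsCyclic (G ⧸ N) ∧ N.index = 4) ∨ Nonempty (G ⧸ N ≃* QuaternionGroup 2))) := by
  classical
  haveI h2F : Fact (Nat.Prime 2) := ⟨Nat.prime_two⟩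
  haveI h3F : Fact (Nat.Prime 3) := ⟨Nat.prime_three⟩
  have hsmall : Small G := fun g => ((Set.ext_iff.1 h (orderOf g)).1 ⟨g, rfl⟩).2
  obtain ⟨g3, hg3⟩ : ∃ g : G, orderOf g = 3 := (Set.ext_iff.1 h 3).2 (by norm_num)
  obtain ⟨g4, hg4⟩ : ∃ g : G, orderOf g = 4 := (Set.ext_iff.1 h 4).2 (by norm_num)
  have hG : ∀ r : ℕ, r.Prime → r ∣ Nat.card G → r = 2 ∨ r = 3 := by
    intro r hr hd
    haveI := Fact.mk hr
    obtain ⟨g, hg⟩ := exists_prime_orderOf_dvd_card' r hd
    have := hsmall g
    rw [hg] at this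
    interval_cases r <;> first | omega | exact absurd hr (by norm_num)
  haveI : Group.IsSolvable G := by
    obtain ⟨b, m, hm, hb⟩ := Nat.exists_eq_pow_mul_and_not_dvd (Nat.card_pos (α := G)).ne' 3 (by norm_num)
    have hm' : m = 2 ^ m.primeFactorsList.length := Nat.eq_prime_pow_of_unique_prime_dvd
      (by rintro rfl; exact hm (dvd_zero 3)) fun {r} hr hrd =>
        (hG r hr (hb ▸ hrd.trans (dvd_mul_left _ _))).resolve_right (by rintro rfl; exact hm hrd)
    exact S0144.result 3 2 b m.primeFactorsList.length Nat.prime_three Nat.prime_two (by rw [hb, ← hm'])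
  have hGnt : Nontrivial G := ⟨g3, 1, fun e => by rw [e, orderOf_one] at hg3; omega⟩
  obtain ⟨M0, p, hp, hM0n, hM0, -, -, -, hM0p, -⟩ :=
    SolvBasic.exists_minimal_normal_abelian (G := G) (N := ⊤) inferInstance top_ne_bot
  haveI := Fact.mk hp
  have hNne : Cfsg.pCore p G ≠ ⊥ := fun e => hM0 (le_bot_iff.1 (e ▸ FittingCores.le_pCore hM0n hM0p))
  have hp23 : p = 2 ∨ p = 3 := by
    refine hG p hp ?_
    obtain ⟨k, hk⟩ := IsPGroup.iff_card.1 hM0p
    rcases k with _ | k
    · exact absurd (Subgroup.card_eq_one.1 (by rw [hk, pow_zero])) hM0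
    · exact (hk ▸ dvd_pow_self p (Nat.succ_ne_zero k) : p ∣ Nat.card M0).trans
        (Subgroup.card_subgroup_dvd_card M0)
  haveI hNn : (Cfsg.pCore p G).Normal := FittingCores.pCore_normal p
  set N := Cfsg.pCore p G with hNdef
  refine ⟨N, hNn, ?_⟩
  have hNp : IsPGroup p N := FittingCores.pCore_isPGroup p
  set f := QuotientGroup.mk' N with hf
  have hf1 : ∀ x : G, f x = 1 ↔ x ∈ N := fun x => QuotientGroup.eq_one_iff x
  rcases hp23 with rfl | rfl
  swap
  · -- the core is a 3-group
    right; right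
    have hCN : Subgroup.centralizer (N : Set G) ≤ N :=
      centralizer_le_core hsmall (q := 2) (Or.inr ⟨rfl, rfl⟩) hG hNne
    have hN3 : ∀ a ∈ N, a ^ 3 = 1 := fun a ha => by
      obtain ⟨k, hk⟩ := hNp ⟨a, ha⟩
      exact order_of_three_power hsmall (k := k) (congrArg Subtype.val hk)
    have hinv : ∀ t : G, orderOf t = 2 → ∀ a ∈ N, t * a * t⁻¹ = a⁻¹ := by
      intro t ht
      have ht2 : t * t = 1 := by rw [← pow_two, ← ht]; exact pow_orderOf_eq_one t
      have htinv : t⁻¹ = t := inv_eq_of_mul_eq_one_left ht2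
      have hfpf : ∀ a ∈ N, t * a = a * t → a = 1 := by
        intro a ha hc
        by_contra ha1
        exact no_six hsmall (MonoidHom.id G) (a := t) (b := a) ht
          (orderOf_eq_prime (hN3 a ha) ha1) hc
      let φ : N → N := fun z => ⟨(z : G)⁻¹ * (t * z * t⁻¹), N.mul_mem (N.inv_mem z.2) (hNn.conj_mem _ z.2 t)⟩
      have hφ : Function.Injective φ := by
        intro a b hab
        have h0 : (a : G)⁻¹ * (t * a * t⁻¹) = (b : G)⁻¹ * (t * b * t⁻¹) := congrArg Subtype.val hab
        have h' : t * ((b : G) * (a : G)⁻¹) = (b : G) * (a : G)⁻¹ * t := by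
          calc t * ((b : G) * (a : G)⁻¹)
              = (b : G) * ((b : G)⁻¹ * (t * b * t⁻¹)) * (t * (a : G)⁻¹) := by group
            _ = (b : G) * ((a : G)⁻¹ * (t * a * t⁻¹)) * (t * (a : G)⁻¹) := by rw [h0]
            _ = (b : G) * (a : G)⁻¹ * t := by group
        exact Subtype.ext (mul_inv_eq_one.1 (hfpf _ (N.mul_mem b.2 (N.inv_mem a.2)) h')).symm
      intro a ha
      obtain ⟨⟨z, hz⟩, hzx⟩ := (Finite.injective_iff_surjective.1 hφ) ⟨a, ha⟩
      have hx' : z⁻¹ * (t * z * t⁻¹) = a := congrArg Subtype.val hzx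
      rw [← hx', htinv]
      calc t * (z⁻¹ * (t * z * t)) * t = t * z⁻¹ * t * z * (t * t) := by group
        _ = t * z⁻¹ * t⁻¹ * z := by rw [ht2, mul_one, htinv]
        _ = (z⁻¹ * (t * z * t⁻¹))⁻¹ := by group
        _ = _ := by rw [htinv]
    obtain ⟨t, ht⟩ : ∃ t : G, orderOf t = 2 := (Set.ext_iff.1 h 2).2 (by norm_num)
    have hNc : IsMulCommutative N := .of_setLike_mul_comm fun a ha b hb => by
      have h1 := hinv t ht (a * b) (N.mul_mem ha hb)
      rw [show t * (a * b) * t⁻¹ = (t * a * t⁻¹) * (t * b * t⁻¹) by group, hinv t ht a ha, hinv t ht b hb,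
        ← mul_inv_rev, inv_inj] at h1
      exact h1.symm
    -- the involution is central modulo `N`
    have hcen : ∀ g : G, f t * f g = f g * f t := by
      intro g
      have hc : ⁅t, g⁆ ∈ Subgroup.centralizer (N : Set G) := by
        refine Subgroup.mem_centralizer_iff.2 fun a ha => ?_
        have hb : g⁻¹ * a * g ∈ N := by simpa using hNn.conj_mem a ha g⁻¹
        have hfix : ⁅t, g⁆ * a * ⁅t, g⁆⁻¹ = a := by
          calc ⁅t, g⁆ * a * ⁅t, g⁆⁻¹ = t * (g * (t⁻¹ * (g⁻¹ * a * g) * t) * g⁻¹) * t⁻¹ := by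
                rw [commutatorElement_def]; group
            _ = t * (g * (g⁻¹ * a * g)⁻¹ * g⁻¹) * t⁻¹ := by
                congr 3
                have e : t⁻¹ = t := inv_eq_of_mul_eq_one_left (by rw [← pow_two, ← ht]; exact pow_orderOf_eq_one t)
                nth_rw 1 [e]
                rw [show t * (g⁻¹ * a * g) * t = t * (g⁻¹ * a * g) * t⁻¹ by rw [e], hinv t ht _ hb]
            _ = t * a⁻¹ * t⁻¹ := by group
            _ = a := by rw [hinv t ht _ (N.inv_mem ha), inv_inv]
        exact (mul_inv_eq_iff_eq_mul.1 hfix).symm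
      rw [← commutatorElement_eq_one_iff_mul_comm, ← map_commutatorElement, hf1]
      exact hCN hc
    have htN : t ∉ N := fun hh => by
      have := hN3 t hh
      rw [← orderOf_dvd_iff_pow_eq_one, ht] at this
      omega
    have hft : orderOf (f t) = 2 := orderOf_eq_prime (by rw [← map_pow, ← ht, pow_orderOf_eq_one, map_one])
      (fun e => htN ((hf1 t).1 e))
    obtain ⟨S⟩ : Nonempty (Sylow 2 G) := inferInstance
    have hX3 : ¬ 3 ∣ Nat.card (G ⧸ N) := by
      intro hd
      obtain ⟨w, hw⟩ := exists_prime_orderOf_dvd_card' 3 hd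
      obtain ⟨g, rfl⟩ := QuotientGroup.mk'_surjective N w
      exact no_six hsmall f hft hw (hcen g)
    have hSN : ∀ s ∈ (S : Subgroup G), s ∈ N → s = 1 := by
      intro s hs hsN
      have hd : Disjoint (S : Subgroup G) N := IsPGroup.disjoint_of_ne 2 3 (by norm_num) _ _ S.isPGroup' hNp
      exact Subgroup.mem_bot.1 (hd.le_bot ⟨hs, hsN⟩)
    let ψ : (S : Subgroup G) →* G ⧸ N := f.comp (S : Subgroup G).subtype
    have hψi : Function.Injective ψ := by
      rw [← MonoidHom.ker_eq_bot_iff, eq_bot_iff]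
      exact fun s hs => Subgroup.mem_bot.2 (Subtype.ext (hSN s s.2 ((hf1 _).1 hs)))
    have hψs : Function.Surjective ψ := by
      have hX : Nat.card (G ⧸ N) ∣ Nat.card (S : Subgroup G) := by
        have hm : Nat.card (G ⧸ N) = 2 ^ (Nat.card (G ⧸ N)).primeFactorsList.length :=
          Nat.eq_prime_pow_of_unique_prime_dvd Nat.card_pos.ne' fun {r} hr hrd =>
            (hG r hr (hrd.trans (Subgroup.card_quotient_dvd_card N))).resolve_right
              (by rintro rfl; exact hX3 hrd)
        rw [hm, S.card_eq_multiplicity]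
        exact pow_dvd_pow 2 ((Nat.prime_two.pow_dvd_iff_le_factorization Nat.card_pos.ne').1
          (hm ▸ Subgroup.card_quotient_dvd_card N))
      exact ((Nat.bijective_iff_injective_and_card ψ).2 ⟨hψi, le_antisymm
        (Nat.card_le_card_of_injective ψ hψi) (Nat.le_of_dvd Nat.card_pos hX)⟩).2
    let e : (S : Subgroup G) ≃* G ⧸ N := MulEquiv.ofBijective ψ ⟨hψi, hψs⟩
    have hSuniq : ∀ H K : Subgroup (S : Subgroup G), Nat.card H = 2 → Nat.card K = 2 → H = K := by
      have hu : ∀ u v : (S : Subgroup G), orderOf u = 2 → orderOf v = 2 → u = v := by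
        intro u v hu hv
        have hc : (u : G) * (v : G) ∈ Subgroup.centralizer (N : Set G) := by
          refine Subgroup.mem_centralizer_iff.2 fun a ha => ?_
          have h1 : (u : G) * (v : G) * a * ((u : G) * (v : G))⁻¹ = a := by
            calc (u : G) * (v : G) * a * ((u : G) * (v : G))⁻¹
                = (u : G) * ((v : G) * a * (v : G)⁻¹) * (u : G)⁻¹ := by group
              _ = a := by rw [hinv v ((Subgroup.orderOf_coe v).trans hv) a ha,
                hinv u ((Subgroup.orderOf_coe u).trans hu) _ (N.inv_mem ha), inv_inv]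
          exact (mul_inv_eq_iff_eq_mul.1 h1).symm
        have h1 := hSN _ (u * v).2 (hCN hc)
        have hv2 : v⁻¹ = v := inv_eq_of_mul_eq_one_left (by rw [← pow_two]; exact orderOf_dvd_iff_pow_eq_one.1 (dvd_of_eq hv))
        rw [← hv2]
        exact eq_inv_of_mul_eq_one_left (Subtype.ext h1)
      intro H K hH hK
      obtain ⟨a, ha⟩ := exists_prime_orderOf_dvd_card' (G := H) 2 (dvd_of_eq hH.symm)
      obtain ⟨b, hb⟩ := exists_prime_orderOf_dvd_card' (G := K) 2 (dvd_of_eq hK.symm)
      have ha' : orderOf (a : (S : Subgroup G)) = 2 := (Subgroup.orderOf_coe a).trans ha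
      have hb' : orderOf (b : (S : Subgroup G)) = 2 := (Subgroup.orderOf_coe b).trans hb
      have e1 : Subgroup.zpowers (a : (S : Subgroup G)) = H :=
        Subgroup.eq_of_le_of_card_ge (Subgroup.zpowers_le.2 a.2) (by rw [Nat.card_zpowers, ha', hH])
      have e2 : Subgroup.zpowers (b : (S : Subgroup G)) = K :=
        Subgroup.eq_of_le_of_card_ge (Subgroup.zpowers_le.2 b.2) (by rw [Nat.card_zpowers, hb', hK])
      rw [← e1, ← e2, hu _ _ ha' hb']
    have h4S : ∃ s : (S : Subgroup G), orderOf s = 4 := by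
      obtain ⟨R, hR⟩ := (IsPGroup.of_card (n := 2) (by rw [Nat.card_zpowers, hg4]; norm_num) :
        IsPGroup 2 (Subgroup.zpowers g4)).exists_le_sylow
      exact ⟨Sylow.equiv R S ⟨g4, hR (Subgroup.mem_zpowers g4)⟩, by
        rw [MulEquiv.orderOf_eq, Subgroup.orderOf_mk, hg4]⟩
    have hel : Cfsg.IsElementaryAbelian 3 N := ⟨hNc, hN3⟩
    refine ⟨hel, ?_⟩
    rcases FpfStruct.cyclic_or_quaternion S.isPGroup'
        (FpfStruct.abCyclic_of_unique S.isPGroup' hSuniq) with hc | ⟨-, n, ⟨eQ⟩⟩
    · left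
      haveI := hc
      refine ⟨isCyclic_of_surjective e.toMonoidHom e.surjective, ?_⟩
      rw [Subgroup.index_eq_card, ← Nat.card_congr e.toEquiv]
      obtain ⟨g, hg⟩ := IsCyclic.exists_ofOrder_eq_natCard (α := (S : Subgroup G))
      obtain ⟨s, hs⟩ := h4S
      have h1 := hsmall (g : G)
      rw [Subgroup.orderOf_coe, hg] at h1
      have h2 := Nat.le_of_dvd Nat.card_pos (hs ▸ orderOf_dvd_natCard s : 4 ∣ Nat.card (S : Subgroup G))
      omega
    · haveI : NeZero (2 ^ n) := ⟨by positivity⟩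
      have hn : 2 * 2 ^ n ≤ 4 := by
        have h1 := hsmall ((eQ.symm (QuaternionGroup.a 1) : (S : Subgroup G)) : G)
        rwa [Subgroup.orderOf_coe, MulEquiv.orderOf_eq, QuaternionGroup.orderOf_a_one] at h1
      have : n ≤ 1 := by
        by_contra hlt
        have : 2 ^ 2 ≤ 2 ^ n := Nat.pow_le_pow_right (by norm_num) (by omega)
        omega
      interval_cases n
      · left
        haveI : IsCyclic (QuaternionGroup (2 ^ 0)) := by
          rw [pow_zero]; exact QuaternionGroup.quaternionGroup_one_isCyclic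
        refine ⟨isCyclic_of_surjective (eQ.symm.trans e).toMonoidHom (eQ.symm.trans e).surjective, ?_⟩
        rw [Subgroup.index_eq_card, ← Nat.card_congr (eQ.symm.trans e).toEquiv, Nat.card_eq_fintype_card,
          QuaternionGroup.card]
        norm_num
      · exact Or.inr ⟨e.symm.trans eQ⟩
  -- the core is a 2-group
  have hCN : Subgroup.centralizer (N : Set G) ≤ N :=
    centralizer_le_core hsmall (q := 3) (Or.inl ⟨rfl, rfl⟩) hG hNne
  have hN4 : ∀ a ∈ N, a ^ 4 = 1 := fun a ha => by
    obtain ⟨k, hk⟩ := hNp ⟨a, ha⟩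
    exact order_of_two_power hsmall (k := k) (congrArg Subtype.val hk)
  have hN3 : ∀ a ∈ N, a ^ 3 = 1 → a = 1 := fun a ha h3 => by
    have h1 := orderOf_dvd_of_pow_eq_one h3
    have h2 := orderOf_dvd_of_pow_eq_one (hN4 a ha)
    exact orderOf_eq_one_iff.1 (Nat.eq_one_of_dvd_coprimes (by norm_num) h1 h2)
  -- no element of order three commutes with a non-identity element of `N`
  have hfix : ∀ s : G, orderOf s = 3 → ∀ a ∈ N, s * a = a * s → a = 1 := by
    intro s hs a ha hc
    by_contra ha1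
    have h2 : (a ^ 2) ^ 2 = 1 := by rw [← pow_mul]; exact hN4 a ha
    by_cases ha2 : a ^ 2 = 1
    · exact no_six hsmall (MonoidHom.id G) (a := a) (b := s) (orderOf_eq_prime ha2 ha1) hs hc.symm
    · exact no_six hsmall (MonoidHom.id G) (a := a ^ 2) (b := s) (orderOf_eq_prime h2 ha2) hs
        ((show Commute a s from hc.symm).pow_left 2).eq
  have hg3N : g3 ∉ N := fun hh => by
    have := hN3 g3 hh (by rw [← hg3]; exact pow_orderOf_eq_one g3)
    rw [this, orderOf_one] at hg3
    omega
  set X := G ⧸ N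
  haveI : Group.IsSolvable X := Group.isSolvable_of_surjective (QuotientGroup.mk'_surjective N)
  haveI : Nontrivial X := ⟨f g3, 1, fun e => hg3N ((hf1 g3).1 e)⟩
  have hX2 : ∀ M : Subgroup X, M.Normal → IsPGroup 2 M → M = ⊥ := by
    intro M hM hMp
    have hle : M.comap f ≤ N := by
      refine FittingCores.le_pCore (hM.comap f) ?_
      intro x
      obtain ⟨k, hk⟩ := hMp ⟨f x, x.2⟩
      have h1 : (x : G) ^ 2 ^ k ∈ N := (hf1 _).1 (by rw [map_pow]; exact congrArg Subtype.val hk)
      obtain ⟨j, hj⟩ := hNp ⟨_, h1⟩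
      refine ⟨k + j, Subtype.ext ?_⟩
      show (x : G) ^ 2 ^ (k + j) = 1
      rw [pow_add, pow_mul]
      exact congrArg Subtype.val hj
    rw [eq_bot_iff]
    intro w hw
    obtain ⟨x, rfl⟩ := QuotientGroup.mk'_surjective N w
    exact Subgroup.mem_bot.2 ((hf1 x).2 (hle hw))
  obtain ⟨M, r, hr, hMn, hM, -, hMc, hMe, hMp, -⟩ :=
    SolvBasic.exists_minimal_normal_abelian (G := X) (N := ⊤) inferInstance top_ne_bot
  haveI := Fact.mk hr
  have hXdvd : Nat.card X ∣ Nat.card G := Subgroup.card_quotient_dvd_card N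
  obtain rfl : r = 3 := by
    obtain ⟨k, hk⟩ := IsPGroup.iff_card.1 hMp
    rcases k with _ | k
    · exact absurd (Subgroup.card_eq_one.1 (by rw [hk, pow_zero])) hM
    · rcases hG r hr (((hk ▸ dvd_pow_self r (Nat.succ_ne_zero k) : r ∣ Nat.card M).trans
        (Subgroup.card_subgroup_dvd_card M)).trans hXdvd) with rfl | rfl
      · exact absurd (hX2 M hMn hMp) hM
      · rfl
  -- the Sylow 3-subgroups have order three
  have hR3 : ∀ R : Sylow 3 G, Nat.card R = 3 := by
    intro R
    have hab : AbCyc.AbCyclic (R : Subgroup G) := by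
      refine FpfStruct.abCyclic (K := N) hNne ?_ ?_
      · simp [Subgroup.normalizer_eq_top]
      · intro a ha ha1
        rw [eq_bot_iff]
        rintro b ⟨hb, hbc⟩
        obtain ⟨k, hk⟩ := R.isPGroup' ⟨a, ha⟩
        have ha3 := order_of_three_power hsmall (k := k) (congrArg Subtype.val hk)
        exact Subgroup.mem_bot.2 (hfix a (orderOf_eq_prime ha3 ha1) b hb
          (Subgroup.mem_centralizer_singleton_iff.1 hbc).symm)
    rcases FpfStruct.cyclic_or_quaternion R.isPGroup' hab with hc | ⟨h32, -⟩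
    · haveI := hc
      obtain ⟨g, hg⟩ := IsCyclic.exists_ofOrder_eq_natCard (α := (R : Subgroup G))
      obtain ⟨k, hk⟩ := R.isPGroup' g
      have h1 := orderOf_dvd_of_pow_eq_one (order_of_three_power hsmall (g := (g : G)) (k := k)
        (congrArg Subtype.val hk))
      rw [Subgroup.orderOf_coe, hg] at h1
      rcases (Nat.dvd_prime Nat.prime_three).1 h1 with h2 | h2
      · exfalso
        have h3 : 3 ∣ Nat.card (R : Subgroup G) :=
          R.dvd_card_of_dvd_card (hg3 ▸ orderOf_dvd_natCard g3)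
        rw [h2] at h3
        omega
      · exact h2
    · omega
  obtain ⟨R⟩ : Nonempty (Sylow 3 G) := inferInstance
  have hMcard : Nat.card M = 3 := by
    obtain ⟨k, hk⟩ := IsPGroup.iff_card.1 hMp
    have hd : 3 ^ k ∣ Nat.card G := hk ▸ (Subgroup.card_subgroup_dvd_card M).trans hXdvd
    have := (Nat.prime_three.pow_dvd_iff_le_factorization Nat.card_pos.ne').1 hd
    have hR := hR3 R
    rw [R.card_eq_multiplicity] at hR
    have : (Nat.card G).factorization 3 = 1 := Nat.pow_right_injective (by norm_num : 2 ≤ 3) (hR.trans (pow_one 3).symm)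
    rcases k with _ | _ | k
    · exact absurd (Subgroup.card_eq_one.1 (by rw [hk, pow_zero])) hM
    · rw [hk]; norm_num
    · omega
  have hselfM : Subgroup.centralizer (M : Set X) ≤ M := by
    intro w hw
    by_contra hwM
    obtain ⟨m0, hm0⟩ : ∃ m : M, orderOf m = 3 := exists_prime_orderOf_dvd_card' 3 (dvd_of_eq hMcard.symm)
    obtain ⟨b, hb⟩ := QuotientGroup.mk'_surjective N (m0 : X)
    have hbo : orderOf (f b) = 3 := by rw [show f b = (m0 : X) from hb, Subgroup.orderOf_coe, hm0]
    set C := Subgroup.centralizer (M : Set X)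
    have hMC : M ≤ C := fun a ha => Subgroup.mem_centralizer_iff.2 fun b hb => setLike_mul_comm (s := M) hb ha
    have hC2 : ¬ 2 ∣ Nat.card C := by
      intro hd
      obtain ⟨v, hv⟩ := exists_prime_orderOf_dvd_card' 2 hd
      obtain ⟨a, ha⟩ := QuotientGroup.mk'_surjective N (v : X)
      refine no_six hsmall f (a := a) (b := b) ?_ hbo ?_
      · rw [show f a = (v : X) from ha, Subgroup.orderOf_coe, hv]
      · rw [show f a = (v : X) from ha, show f b = (m0 : X) from hb]
        exact (Subgroup.mem_centralizer_iff.1 v.2 _ m0.2).symm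
    have hC : Nat.card C = 3 ^ (Nat.card C).primeFactorsList.length :=
      Nat.eq_prime_pow_of_unique_prime_dvd Nat.card_pos.ne' fun {r} hr hrd =>
        (hG r hr ((hrd.trans (Subgroup.card_subgroup_dvd_card C)).trans hXdvd)).resolve_left
          (by rintro rfl; exact hC2 hrd)
    have hd : 3 ^ (Nat.card C).primeFactorsList.length ∣ Nat.card G :=
      hC ▸ (Subgroup.card_subgroup_dvd_card C).trans hXdvd
    have h1 := (Nat.prime_three.pow_dvd_iff_le_factorization Nat.card_pos.ne').1 hd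
    have hR := hR3 R
    rw [R.card_eq_multiplicity] at hR
    have h2 : Nat.card C ≤ 3 := hC ▸ (Nat.pow_le_pow_right (by norm_num) h1).trans_eq hR
    have h3 := Subgroup.eq_of_le_of_card_ge hMC (by omega)
    exact hwM (h3.symm ▸ hw)
  have hXM : M.index ∣ 2 := by
    haveI := hMn
    have h1 := Subgroup.index_dvd_of_le (H := (MulAut.conjNormal (H := M) : X →* MulAut M).ker)
      (K := Subgroup.centralizer (M : Set X)) (fun x hx => Subgroup.mem_centralizer_iff.2 fun a ha => by
        have := congrArg Subtype.val (DFunLike.congr_fun hx ⟨a, ha⟩)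
        change x * a * x⁻¹ = a at this
        exact (mul_inv_eq_iff_eq_mul.1 this).symm)
    have h2 : (MulAut.conjNormal (H := M) : X →* MulAut M).ker.index ∣ 2 := by
      rw [Subgroup.index_ker]
      refine (Subgroup.card_subgroup_dvd_card _).trans ?_
      haveI : IsCyclic M := isCyclic_of_prime_card hMcard
      rw [IsCyclic.card_mulAut, hMcard]
      decide
    exact ((Subgroup.index_dvd_of_le hselfM).trans h1).trans h2
  have hcardX : Nat.card X = 3 * M.index := by rw [← hMcard, Subgroup.card_mul_index]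
  -- every element mapping onto a generator of `M` has order three
  obtain ⟨s, hs, hsN⟩ : ∃ s : G, orderOf s = 3 ∧ f s ∈ M := by
    refine ⟨g3, hg3, ?_⟩
    have h1 : orderOf (f g3) = 3 := orderOf_eq_prime (by rw [← map_pow, ← hg3, pow_orderOf_eq_one, map_one])
      (fun e => hg3N ((hf1 g3).1 e))
    have h2 : f g3 ^ M.index ∈ M := by haveI := hMn; exact M.pow_index_mem _
    rcases (Nat.dvd_prime Nat.prime_two).1 hXM with h3 | h3
    · rwa [h3, pow_one] at h2
    · rw [h3] at h2
      have : f g3 = (f g3 ^ 2) ^ 2 := by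
        rw [← pow_mul, show (2 * 2) = 3 + 1 by norm_num, pow_succ, ← h1, pow_orderOf_eq_one, one_mul]
      rw [this]; exact pow_mem h2 2
  have hsN' : s ∉ N := fun hh => by
    have := hN3 s hh (by rw [← hs]; exact pow_orderOf_eq_one s)
    rw [this, orderOf_one] at hs
    omega
  have hs3 : s ^ 3 = 1 := by rw [← hs]; exact pow_orderOf_eq_one s
  have hcube : ∀ c : G, f c = f s ∨ f c = f s⁻¹ → c ^ 3 = 1 := by
    intro c hc
    have hfc : orderOf (f c) = 3 := by
      have h1 : orderOf (f s) = 3 :=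
        orderOf_eq_prime (by rw [← map_pow, hs3, map_one]) (fun e => hsN' ((hf1 s).1 e))
      rcases hc with hc | hc
      · rw [hc, h1]
      · rw [hc, map_inv, orderOf_inv, h1]
    have hd := orderOf_map_dvd f c
    rw [hfc] at hd
    obtain ⟨k, hk⟩ := hd
    have := hsmall c
    have := orderOf_pos c
    have : k = 1 := by omega
    rw [← orderOf_dvd_iff_pow_eq_one, hk, this]
  -- norm identities
  have hnorm : ∀ c : G, (f c = f s ∨ f c = f s⁻¹) → ∀ a ∈ N, a * (c * a * c⁻¹) * (c * (c * a * c⁻¹) * c⁻¹) = 1 := by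
    intro c hc a ha
    have h1 : (a * c) ^ 3 = 1 := hcube (a * c) (by rwa [map_mul, (hf1 a).2 ha, one_mul])
    have h2 : c ^ 3 = 1 := hcube c hc
    calc a * (c * a * c⁻¹) * (c * (c * a * c⁻¹) * c⁻¹) = (a * c) ^ 3 * (c ^ 3)⁻¹ := by
          rw [pow_succ, pow_two, pow_succ, pow_two]; group
      _ = 1 := by rw [h1, h2, inv_one, mul_one]
  have hcomm1 : ∀ c : G, (f c = f s ∨ f c = f s⁻¹) → ∀ a ∈ N, Commute a (c * a * c⁻¹) := by
    intro c hc a ha
    have hc' : f c⁻¹ = f s ∨ f c⁻¹ = f s⁻¹ := by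
      rcases hc with h | h
      · right; rw [map_inv, map_inv, h]
      · left; rw [map_inv, h, map_inv, inv_inv]
    have hc3 : c * c = c⁻¹ := eq_inv_of_mul_eq_one_left (by rw [← pow_two, ← pow_succ]; exact hcube c hc)
    set b := c * a * c⁻¹
    set d := c⁻¹ * a * c
    have h1 : a * b * d = 1 := by
      have := hnorm c hc a ha
      rwa [show c * b * c⁻¹ = d by
        show c * (c * a * c⁻¹) * c⁻¹ = c⁻¹ * a * c
        calc c * (c * a * c⁻¹) * c⁻¹ = (c * c) * a * (c * c)⁻¹ := by group
          _ = _ := by rw [hc3]; group] at this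
    have h2 : a * d * b = 1 := by
      have hcc : c⁻¹ * c⁻¹ = c := by rw [← mul_inv_rev, hc3, inv_inv]
      have := hnorm c⁻¹ hc' a ha
      rw [inv_inv] at this
      rwa [show c⁻¹ * (c⁻¹ * a * c) * c = b by
        show _ = c * a * c⁻¹
        calc c⁻¹ * (c⁻¹ * a * c) * c = (c⁻¹ * c⁻¹) * a * (c⁻¹ * c⁻¹)⁻¹ := by
              simp only [mul_inv_rev, inv_inv, mul_assoc]
          _ = _ := by rw [hcc]] at this
    have hbd : b * d = d * b := mul_left_cancel (a := a) (by rw [← mul_assoc a b d, h1, ← mul_assoc a d b, h2])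
    have ha' : a = (b * d)⁻¹ := eq_inv_of_mul_eq_one_left (by rw [← mul_assoc]; exact h1)
    rw [ha']
    exact ((Commute.refl b).mul_left (show Commute d b from hbd.symm)).inv_left
  have hconjN : ∀ x y : N, Commute x (y * x * y⁻¹) := by
    rintro ⟨x, hx⟩ ⟨y, hy⟩
    have hfy : f y = 1 := (hf1 y).2 hy
    have key : ∀ c : G, (f c = f s ∨ f c = f s⁻¹) → Commute (c * x * c⁻¹) (y * x * y⁻¹) := by
      intro c hc
      have hc' : f (y * c⁻¹) = f s ∨ f (y * c⁻¹) = f s⁻¹ := by
        rw [map_mul, hfy, one_mul]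
        rcases hc with h | h
        · right; rw [map_inv, map_inv, h]
        · left; rw [map_inv, h, map_inv, inv_inv]
      have h1 := hcomm1 _ hc' _ (hNn.conj_mem x hx c)
      rwa [show y * c⁻¹ * (c * x * c⁻¹) * (y * c⁻¹)⁻¹ = y * x * y⁻¹ by group] at h1
    have hs' : s * s = s⁻¹ := eq_inv_of_mul_eq_one_left (by rw [← pow_two, ← pow_succ]; exact hs3)
    have h1 := hnorm s (Or.inl rfl) x hx
    have h2 : x = ((s * x * s⁻¹) * (s⁻¹ * x * s⁻¹⁻¹))⁻¹ := by
      refine eq_inv_of_mul_eq_one_left ?_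
      rw [show s * (s * x * s⁻¹) * s⁻¹ = s⁻¹ * x * s⁻¹⁻¹ by
        calc s * (s * x * s⁻¹) * s⁻¹ = (s * s) * x * (s * s)⁻¹ := by group
          _ = _ := by rw [hs']] at h1
      rw [← mul_assoc]; exact h1
    have h3 : Commute x (y * x * y⁻¹) := by
      rw [h2]
      nth_rw 2 [← h2]
      exact ((key s (Or.inl rfl)).mul_left (key s⁻¹ (Or.inr rfl))).inv_left
    exact Subtype.ext h3.eq
  have hcl : ∀ x y : N, ⁅x, y⁆ ∈ Subgroup.center N := by
    intro x y
    rw [Subgroup.mem_center_iff]
    intro z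
    have := class_two hconjN (fun g hg => Subtype.ext (hN3 g g.2 (congrArg Subtype.val hg))) y x z
    exact commutatorElement_eq_one_iff_mul_comm.1 this
  rcases (Nat.dvd_prime Nat.prime_two).1 hXM with hi | hi
  · left
    have hidx : N.index = 3 := by rw [Subgroup.index_eq_card]; rw [hi, mul_one] at hcardX; exact hcardX
    refine ⟨hNp, ?_, ?_, hidx⟩
    · refine Nat.dvd_antisymm (Monoid.exponent_dvd_of_forall_pow_eq_one fun a => Subtype.ext (hN4 a a.2)) ?_
      have h4N : g4 ∈ N := by
        rw [← hf1, ← orderOf_eq_one_iff]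
        refine Nat.eq_one_of_dvd_coprimes (show Nat.Coprime 4 3 by norm_num) (hg4 ▸ orderOf_map_dvd f g4) ?_
        rw [← hidx, Subgroup.index_eq_card]
        exact orderOf_dvd_natCard _
      have := Monoid.order_dvd_exponent (⟨g4, h4N⟩ : N)
      rwa [Subgroup.orderOf_mk, hg4] at this
    · haveI := hNp.isNilpotent
      rw [← upperCentralSeries_eq_top_iff_nilpotencyClass_le, eq_top_iff]
      intro x _
      rw [Subgroup.mem_upperCentralSeries_succ_iff]
      intro y
      rw [Subgroup.upperCentralSeries_one]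
      exact hcl x y
  right; left
  -- an involution inverting `s`
  set L := Subgroup.zpowers s
  have hLc : Nat.card L = 3 := by rw [Nat.card_zpowers, hs]
  haveI hMn' := hMn
  set H := M.comap f
  haveI : H.Normal := hMn.comap f
  have hLH : L ≤ H := Subgroup.zpowers_le.2 hsN
  have hHi : H.index = 2 := by
    rw [Subgroup.index_comap_of_surjective M (QuotientGroup.mk'_surjective N), hi]
  obtain ⟨P, hP⟩ : ∃ P : Sylow 3 H, (P : Subgroup H).map H.subtype = L := by
    have hp' : IsPGroup 3 (L.subgroupOf H) :=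
      (IsPGroup.of_card (n := 1) (by rw [hLc, pow_one]) : IsPGroup 3 L).comap_subtype
    obtain ⟨P, hP⟩ := hp'.exists_le_sylow
    refine ⟨P, (Subgroup.eq_of_le_of_card_ge ?_ ?_).symm⟩
    · rw [← inf_eq_left.2 hLH, ← Subgroup.subgroupOf_map_subtype]
      exact Subgroup.map_mono hP
    · obtain ⟨Q, hQ⟩ := (P.isPGroup'.map H.subtype).exists_le_sylow
      exact (Nat.le_of_dvd Nat.card_pos (Subgroup.card_dvd_of_le hQ)).trans_eq ((hR3 Q).trans hLc.symm)
  have hF := Sylow.normalizer_sup_eq_top P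
  rw [hP] at hF
  obtain ⟨v, hv, hvH⟩ : ∃ v ∈ Subgroup.normalizer (L : Set G), v ∉ H := by
    by_contra hc
    have hle : Subgroup.normalizer (L : Set G) ≤ H := fun v hv => not_not.1 fun h' => hc ⟨v, hv, h'⟩
    rw [sup_eq_right.2 hle] at hF
    rw [hF, Subgroup.index_top] at hHi
    omega
  have h2N : 2 ∣ Nat.card (Subgroup.normalizer (L : Set G)) := by
    by_contra hodd
    refine hvH ?_
    have h1 : orderOf v ∣ Nat.card (Subgroup.normalizer (L : Set G)) := Subgroup.orderOf_dvd_natCard _ hv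
    have h2 : orderOf (QuotientGroup.mk' H v) ∣ 2 := by
      rw [← hHi, Subgroup.index_eq_card]; exact orderOf_dvd_natCard _
    exact (QuotientGroup.eq_one_iff v).1 (orderOf_eq_one_iff.1 (Nat.eq_one_of_dvd_coprimes
      (show Nat.Coprime 2 (Nat.card (Subgroup.normalizer (L : Set G))) from
        (Nat.prime_two.coprime_iff_not_dvd).2 hodd) h2
      ((orderOf_map_dvd (QuotientGroup.mk' H) v).trans h1)))
  obtain ⟨⟨u, huL⟩, hu⟩ := exists_prime_orderOf_dvd_card' 2 h2N
  rw [Subgroup.orderOf_mk] at hu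
  have hu2 : u ^ 2 = 1 := by rw [← hu]; exact pow_orderOf_eq_one u
  have huinv : u⁻¹ = u := inv_eq_of_mul_eq_one_left (by rw [← pow_two]; exact hu2)
  have hns : ¬ u * s = s * u := fun hc => no_six hsmall (MonoidHom.id G) (a := u) (b := s) hu hs hc
  have hus : u * s * u⁻¹ = s⁻¹ := by
    have hm : u * s * u⁻¹ ∈ L := (Subgroup.mem_normalizer_iff.1 huL s).1 (Subgroup.mem_zpowers s)
    obtain ⟨j, hj⟩ := Subgroup.mem_zpowers_iff.1 hm
    have hj' : s ^ (j % 3) = u * s * u⁻¹ := by
      rw [show (3 : ℤ) = ((orderOf s : ℕ) : ℤ) by rw [hs]; rfl, zpow_mod_orderOf, hj]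
    have h0 : 0 ≤ j % 3 := Int.emod_nonneg _ (by norm_num)
    have h3 : j % 3 < 3 := Int.emod_lt_of_pos _ (by norm_num)
    obtain h | h | h : j % 3 = 0 ∨ j % 3 = 1 ∨ j % 3 = 2 := by omega
    · rw [h, zpow_zero] at hj'
      exact absurd (by rw [conj_eq_one_iff.1 hj'.symm]; group) hns
    · rw [h, zpow_one] at hj'
      exact absurd (mul_inv_eq_iff_eq_mul.1 hj'.symm) hns
    · rw [← hj', h]
      exact eq_inv_of_mul_eq_one_left (by
        rw [show (2 : ℤ) = ((2 : ℕ) : ℤ) from rfl, zpow_natCast, ← pow_succ]; exact hs3)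
  have huN : u ∉ N := fun hh => by
    refine hns ?_
    have h1 : u * s * u⁻¹ * s⁻¹ ∈ N := by
      have h0 := N.mul_mem hh (hNn.conj_mem _ (N.inv_mem hh) s)
      rwa [show u * (s * u⁻¹ * s⁻¹) = u * s * u⁻¹ * s⁻¹ by group] at h0
    rw [hus] at h1
    have h2 : (s⁻¹ * s⁻¹) ^ 3 = 1 := by
      rw [← pow_two, ← pow_mul, mul_comm, pow_mul, inv_pow, hs3, inv_one, one_pow]
    have h3 := hN3 _ h1 h2
    have h4 : s⁻¹ = s := by
      have := eq_inv_of_mul_eq_one_left h3
      rwa [inv_inv] at this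
    rw [mul_inv_eq_iff_eq_mul.1 hus, h4]
  have hfu : orderOf (f u) = 2 :=
    orderOf_eq_prime (by rw [← map_pow, hu2, map_one]) (fun e => huN ((hf1 u).1 e))
  -- the automorphisms of `N`
  let U : MulAut N := MulAut.conjNormal u
  let S : MulAut N := MulAut.conjNormal s
  have hUc : ∀ x : N, ((U x : N) : G) = u * x * u⁻¹ := fun x => MulAut.conjNormal_apply u x
  have hSc : ∀ x : N, ((S x : N) : G) = s * x * s⁻¹ := fun x => MulAut.conjNormal_apply s x
  have helem := elementary U S
    (fun x => Subtype.ext (by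
      rw [hUc, hUc, show u * (u * (x : G) * u⁻¹) * u⁻¹ = (u * u) * x * (u * u)⁻¹ by group, ← pow_two, hu2,
        one_mul, inv_one, mul_one]))
    (fun x => Subtype.ext (by
      rw [hSc, hSc, hSc, show s * (s * (s * (x : G) * s⁻¹) * s⁻¹) * s⁻¹ = (s * s * s) * x * (s * s * s)⁻¹ by group,
        ← pow_two, ← pow_succ, hs3, one_mul, inv_one, mul_one]))
    (fun x => Subtype.ext (by
      rw [hUc, hSc, hSc, hSc, hUc,
        show u * (s * (x : G) * s⁻¹) * u⁻¹ = (u * s * u⁻¹) * (u * x * u⁻¹) * (u * s * u⁻¹)⁻¹ by group, hus]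
      have e : s⁻¹ = s * s :=
        (eq_inv_of_mul_eq_one_left (by rw [← pow_two, ← pow_succ]; exact hs3)).symm
      calc s⁻¹ * (u * (x : G) * u⁻¹) * s⁻¹⁻¹ = (s * s) * (u * (x : G) * u⁻¹) * (s * s)⁻¹ := by rw [e]
        _ = _ := by simp only [mul_inv_rev, mul_assoc]))
    (fun x => Subtype.ext (by
      rw [Subgroup.coe_mul, Subgroup.coe_mul, hSc, hSc, hSc]; exact hnorm s (Or.inl rfl) x x.2))
    (fun x hx => Subtype.ext (hfix s hs x x.2 (by
      have h1 := congrArg Subtype.val hx
      rw [hSc] at h1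
      exact mul_inv_eq_iff_eq_mul.1 h1)))
    (fun x => Subtype.ext (hN4 x x.2))
    (fun x => Subtype.ext (by
      rw [Subgroup.coe_pow, Subgroup.coe_mul, hUc, Subgroup.coe_one]
      have h1 : ((x : G) * u) ^ 4 = 1 := by
        have hd := orderOf_map_dvd f ((x : G) * u)
        rw [map_mul, (hf1 x).2 x.2, one_mul, hfu] at hd
        have := hsmall ((x : G) * u)
        have := orderOf_pos ((x : G) * u)
        obtain ⟨k, hk⟩ := hd
        refine orderOf_dvd_iff_pow_eq_one.1 ?_
        obtain rfl | rfl : k = 1 ∨ k = 2 := by omega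
        · rw [hk]; norm_num
        · rw [hk]
      have e : (x : G) * (u * x * u⁻¹) = ((x : G) * u) ^ 2 := by
        nth_rw 1 [huinv]; rw [pow_two]; group
      rw [e, ← pow_mul]; exact h1))
    hcl
  refine ⟨⟨.of_setLike_mul_comm fun a ha b hb => congrArg Subtype.val (helem.1 ⟨a, ha⟩ ⟨b, hb⟩),
    fun a ha => congrArg Subtype.val (helem.2 ⟨a, ha⟩)⟩, ?_⟩
  -- the quotient is symmetric of degree three
  set T := Subgroup.zpowers (f u)
  have hTc : Nat.card T = 2 := by rw [Nat.card_zpowers, hfu]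
  have hTi : Nat.card (X ⧸ T) = 3 := by
    rw [← Subgroup.index_eq_card]
    have h1 := T.card_mul_index
    rw [hTc, hcardX] at h1
    omega
  have hker : (MulAction.toPermHom X (X ⧸ T)).ker = ⊥ := by
    rw [← Subgroup.normalCore_eq_ker]
    have hle : T.normalCore ≤ T := T.normalCore_le
    exact hX2 _ T.normalCore_normal ((IsPGroup.of_card (n := 1) (by rw [hTc, pow_one]) : IsPGroup 2 T).to_le hle)
  obtain ⟨e⟩ : Nonempty (X ⧸ T ≃ Fin 3) := ⟨Finite.equivFinOfCardEq hTi⟩
  refine ⟨MulEquiv.ofBijective (e.permCongrHom.toMonoidHom.comp (MulAction.toPermHom X (X ⧸ T)))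
    ((Nat.bijective_iff_injective_and_card _).2 ⟨?_, ?_⟩)⟩
  · exact e.permCongrHom.injective.comp ((MonoidHom.ker_eq_bot_iff _).1 hker)
  · rw [hcardX, hi, Nat.card_perm, Nat.card_fin]; rfl

end Cfsg.Agent.S4006
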