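import Cfsg.Statements.S1099
import Cfsg.Agent.Lib.Lie.ChevIsog
-- import your own Cfsg.Agent.* helpers here

set_option autoImplicit false
open Cfsg

namespace Cfsg.Agent.S1099

/-- Graph automorphism of G₂ in characteristic 3 (K perfect): `x_a(t) ↦ x_b(t³)`, `x_b(t) ↦ x_a(t)`, `x_{-a}(t) ↦ x_{-b}(t³)`, `x_{-b}(t) ↦ x_{-a}(t)` extend to an automorphism of the group. -/
theorem result {K : Type*} [Field K] [CharP K 3] (hperf : ∀ x : K, ∃ y : K, y ^ 3 = x) :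
    ∃ α : ↥(Cfsg.Lie.chevG2.group K) ≃* ↥(Cfsg.Lie.chevG2.group K), ∀ (g : ↥(Cfsg.Lie.chevG2.group K)) (t : K),
      (((g : GL Cfsg.Lie.chevG2.Idx K) : Matrix _ _ K) = Cfsg.Lie.chevG2.x K Cfsg.Lie.g2a t →
        ((α g : GL Cfsg.Lie.chevG2.Idx K) : Matrix _ _ K) = Cfsg.Lie.chevG2.x K Cfsg.Lie.g2b (t ^ 3)) ∧
      (((g : GL Cfsg.Lie.chevG2.Idx K) : Matrix _ _ K) = Cfsg.Lie.chevG2.x K Cfsg.Lie.g2b t →
        ((α g : GL Cfsg.Lie.chevG2.Idx K) : Matrix _ _ K) = Cfsg.Lie.chevG2.x K Cfsg.Lie.g2a t) ∧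
      (((g : GL Cfsg.Lie.chevG2.Idx K) : Matrix _ _ K) = Cfsg.Lie.chevG2.x K Cfsg.Lie.g2ma t →
        ((α g : GL Cfsg.Lie.chevG2.Idx K) : Matrix _ _ K) = Cfsg.Lie.chevG2.x K Cfsg.Lie.g2mb (t ^ 3)) ∧
      (((g : GL Cfsg.Lie.chevG2.Idx K) : Matrix _ _ K) = Cfsg.Lie.chevG2.x K Cfsg.Lie.g2mb t →
        ((α g : GL Cfsg.Lie.chevG2.Idx K) : Matrix _ _ K) = Cfsg.Lie.chevG2.x K Cfsg.Lie.g2ma t) := by
  haveI : Fact (Nat.Prime 3) := ⟨Nat.prime_three⟩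
  haveI : CharP K Chev.G2Data.isog.p := inferInstanceAs (CharP K 3)
  haveI : ExpChar K Chev.G2Data.isog.p := ExpChar.prime Nat.prime_three
  obtain ⟨K', W', g⟩ : ∃ K' W', Chev.G2Data.tab.GoodW K' W' :=
    ⟨[[2, 3], [1, 2]], [(0, 9, 1), (0, 8, 2)],
      ⟨⟨⟨Chev.G2Data.good, by decide +kernel⟩, by decide +kernel⟩, by decide +kernel⟩⟩
  obtain ⟨α, hα⟩ := Chev.Tab.exists_isog (F := K) g Chev.G2Data.isog_ok hperf
  refine ⟨α, fun x t => ?_⟩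
  obtain ⟨a1, a2⟩ := hα x 0 t (lt_of_lt_of_eq (by decide : 0 < 2) g.toGood.rank_eq.symm)
  obtain ⟨b1, b2⟩ := hα x 1 t (lt_of_lt_of_eq (by decide : 1 < 2) g.toGood.rank_eq.symm)
  have h0 : Cfsg.Lie.chevG2.simple 0 = Cfsg.Lie.g2a := by decide +kernel
  have h1 : Cfsg.Lie.chevG2.simple 1 = Cfsg.Lie.g2b := by decide +kernel
  have h2 : Cfsg.Lie.chevG2.neg Cfsg.Lie.g2a = Cfsg.Lie.g2ma := by decide +kernel
  have h3 : Cfsg.Lie.chevG2.neg Cfsg.Lie.g2b = Cfsg.Lie.g2mb := by decide +kernel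
  have e : Chev.G2Data.tab.D = Cfsg.Lie.chevG2 := rfl
  simp only [Chev.G2Data.isog, List.getD_cons_zero, List.getD_cons_succ, e, h0, h1, h2, h3, pow_one]
    at a1 a2 b1 b2
  exact ⟨a1, b1, a2, b2⟩

end Cfsg.Agent.S1099
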