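import Cfsg.Statements.S2121
import Cfsg.Agent.Lib.ChevAut.AutTypes
import Cfsg.Agent.S1099

set_option autoImplicit false
set_option maxRecDepth 8000
open Cfsg

namespace Cfsg.Agent.S2121

open Cfsg.Agent.Chev Cfsg.Agent.ChevAut in
/-- the symmetry of G₂ -/
def swap : Equiv.Perm (Fin G2Data.tab.l) :=
  (⟨![1, 0], ![1, 0], by decide, by decide⟩ : Equiv.Perm (Fin 2))

open Cfsg.Agent.Chev Cfsg.Agent.ChevAut in
theorem mem_swap {F : Type*} [Field F] [Finite F] [CharP F 3] : swap ∈ (piHom autOK_G2 F).range := by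
  have hg := autOK_G2.good.toGood
  haveI : Fact (Nat.Prime 3) := ⟨Nat.prime_three⟩
  obtain ⟨α, hα⟩ := S1099.result (K := F) (fun x => (frobeniusEquiv F 3).surjective x)
  refine mem_range_of_aut autOK_G2 swap (fun i => if (i : ℕ) = 0 then 3 else 1)
    (fun i => ?_) (aut_images hg (α := α) fun x i t => ?_)
  · rw [exC, ringChar.eq F 3]
    revert i; decide +kernel
  · obtain ⟨i, hi⟩ := i
    obtain ⟨ha, hb, ha', hb'⟩ := hα x t
    have h0 : Cfsg.Lie.chevG2.simple 0 = Cfsg.Lie.g2a := by decide +kernel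
    have h1 : Cfsg.Lie.chevG2.simple 1 = Cfsg.Lie.g2b := by decide +kernel
    have h2 : Cfsg.Lie.chevG2.neg Cfsg.Lie.g2a = Cfsg.Lie.g2ma := by decide +kernel
    have h3 : Cfsg.Lie.chevG2.neg Cfsg.Lie.g2b = Cfsg.Lie.g2mb := by decide +kernel
    have hs0 : (swap ⟨0, by decide⟩ : ℕ) = 1 := by decide
    have hs1 : (swap ⟨1, by decide⟩ : ℕ) = 0 := by decide
    have e : G2Data.tab.D = Cfsg.Lie.chevG2 := rfl
    have hi2 : i < 2 := hi
    rcases (by omega : i = 0 ∨ i = 1) with rfl | rfl
    · simp only [hs0, e, h0, h1, h2, h3, if_true]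
      exact ⟨ha, ha'⟩
    · simp only [hs1, e, h0, h1, h2, h3, if_neg one_ne_zero, pow_one]
      exact ⟨hb, hb'⟩

/-- Outer automorphisms of the Chevalley groups of type G₂: over a field with q = p^f (p prime) ≥ 3 elements, the outer automorphism group of G₂(q) has order f when p ≠ 3 and 2f when p = 3 (field automorphisms, and in characteristic 3 also the exceptional graph automorphism). -/
theorem result {F : Type*} [Field F] [Fintype F] (p f : ℕ) [Fact p.Prime] [CharP F p] (hF : Fintype.card F = p ^ f) (hq : 3 ≤ p ^ f) : Nat.card (Cfsg.Out ↥(Cfsg.Lie.chevG2.group F)) = (if p = 3 then 2 * f else f) := by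
  rw [ChevAut.out_count p f hF ChevAut.autOK_G2 (D := Cfsg.Lie.chevG2) (by simp) rfl
    (show ChevAut.checkCoker Chev.G2Data.tab 0 1 [1, 0] [[2, 3], [1, 2]] = true by decide +kernel),
    Nat.gcd_one_left, mul_one]
  have hp : p.Prime := Fact.out
  by_cases h3 : p = 3
  · subst h3
    rw [if_pos rfl, ChevAut.range_two _ (by decide +kernel) mem_swap (by decide)]
  · rw [if_neg h3]
    have hone : Nat.card ↥(ChevAut.piHom ChevAut.autOK_G2 F).range = 1 := by
      refine ChevAut.range_trivial _ (L := [1, 0]) (by decide +kernel) fun θ hθ => h3 ?_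
      have e1 := congrArg (fun L : List ℕ => L.getD 1 0) hθ
      have e0 := congrArg (fun L : List ℕ => L.getD 0 0) hθ
      refine ChevAut.char_of_flip ChevAut.autOK_G2 θ p (i := (⟨1, by decide⟩ : Fin Chev.G2Data.tab.l))
        (j := (⟨0, by decide⟩ : Fin Chev.G2Data.tab.l)) (Or.inr rfl) (by decide +kernel) ?_
        (Or.inr (by rw [Nat.card_eq_fintype_card, hF]; exact hq))
      have l0 : (0 : ℕ) < Chev.G2Data.tab.l := by decide
      have l1 : (1 : ℕ) < Chev.G2Data.tab.l := by decide
      simp [ChevAut.permList, List.getD_eq_getElem?_getD, l0, l1] at e0 e1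
      rw [e0, e1]
      decide +kernel
    rw [hone, one_mul]

end Cfsg.Agent.S2121
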