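import Cfsg.Statements.S3995
import Mathlib
import Cfsg.Agent.Lib.FGStruct.Counting
import Cfsg.Agent.Lib.Solvable.FixedPointFree
import Cfsg.Agent.Lib.Recog.AffineExt

set_option autoImplicit false
set_option linter.style.haveILetI false

namespace Cfsg.Agent.S3995

open Cfsg.Agent
open scoped Classical

variable {G : Type*} [Group G] [Finite G]

noncomputable local instance instFintypeOfFinite {α : Type*} [Finite α] : Fintype α :=
  Fintype.ofFinite α

/-- The number of elements of order `m`. -/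
noncomputable def cnt (G : Type*) [Group G] (m : ℕ) : ℕ := Nat.card {g : G // orderOf g = m}

lemma totient_dvd_cnt (m : ℕ) : Nat.totient m ∣ cnt G m := by
  rw [cnt, Nat.card_eq_fintype_card, Fintype.card_subtype,
    Finset.card_eq_sum_card_image (fun g : G => Subgroup.zpowers g)]
  refine Finset.dvd_sum fun C hC => ?_
  obtain ⟨g, hg, rfl⟩ := Finset.mem_image.1 hC
  have hgm : orderOf g = m := (Finset.mem_filter.1 hg).2
  refine dvd_of_eq ?_
  rw [← IsCyclic.card_orderOf_eq_totient (α := Subgroup.zpowers g) (d := m)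
    (by rw [← Nat.card_eq_fintype_card, Nat.card_zpowers, hgm])]
  refine Finset.card_bij (fun x _ => (x : G)) (fun x hx => ?_) (fun _ _ _ _ e => Subtype.ext e) ?_
  · simp only [Finset.mem_filter, Finset.mem_univ, true_and] at hx ⊢
    refine ⟨by rw [Subgroup.orderOf_coe, hx], ?_⟩
    refine Subgroup.eq_of_le_of_card_ge (Subgroup.zpowers_le.2 x.2) ?_
    rw [Nat.card_zpowers, Nat.card_zpowers, Subgroup.orderOf_coe, hx, hgm]
  · intro y hy
    simp only [Finset.mem_filter, Finset.mem_univ, true_and] at hy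
    refine ⟨⟨y, hy.2 ▸ Subgroup.mem_zpowers y⟩, ?_, rfl⟩
    simp only [Finset.mem_filter, Finset.mem_univ, true_and, Subgroup.orderOf_mk, hy.1]

lemma card_pow_eq_one (M : ℕ) (hM : M ≠ 0) :
    Nat.card {g : G // g ^ M = 1} = ∑ d ∈ M.divisors, cnt G d := by
  simp only [cnt, Nat.card_eq_fintype_card, Fintype.card_subtype]
  rw [Finset.card_eq_sum_card_fiberwise (f := orderOf) (t := M.divisors) (fun x hx => by
    simp only [Finset.coe_filter, Finset.mem_univ, true_and, Set.mem_setOf_eq] at hx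
    exact Nat.mem_divisors.2 ⟨orderOf_dvd_of_pow_eq_one hx, hM⟩)]
  refine Finset.sum_congr rfl fun d hd => congrArg Finset.card ?_
  ext x
  simp only [Finset.mem_filter, Finset.mem_univ, true_and, and_iff_right_iff_imp]
  intro hx
  exact orderOf_dvd_iff_pow_eq_one.1 (hx ▸ (Nat.mem_divisors.1 hd).1)

lemma exists_orderOf_of_dvd {g : G} {d : ℕ} (hd : d ∣ orderOf g) : ∃ x : G, orderOf x = d := by
  obtain ⟨e, he⟩ := hd
  have hpos : 0 < orderOf g := orderOf_pos g
  have he0 : e ≠ 0 := by rintro rfl; rw [he, Nat.mul_zero] at hpos; exact hpos.false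
  refine ⟨g ^ e, ?_⟩
  rw [orderOf_pow_of_dvd he0 (he ▸ dvd_mul_left e d), he, Nat.mul_div_cancel _ (Nat.pos_of_ne_zero he0)]

lemma cnt_pos {m : ℕ} (h : ∃ x : G, orderOf x = m) : 0 < cnt G m := by
  obtain ⟨x, hx⟩ := h
  exact Nat.card_pos_iff.2 ⟨⟨⟨x, hx⟩⟩, inferInstance⟩

lemma cnt_eq_zero {m : ℕ} (h : ¬ ∃ x : G, orderOf x = m) : cnt G m = 0 :=
  Nat.card_eq_zero.2 (Or.inl ⟨fun x => h ⟨x.1, x.2⟩⟩)

lemma cnt_one : cnt G 1 = 1 :=
  Nat.card_eq_one_iff_unique.2 ⟨⟨fun a b => Subtype.ext (by
    rw [orderOf_eq_one_iff.1 a.2, orderOf_eq_one_iff.1 b.2])⟩, ⟨⟨1, orderOf_one⟩⟩⟩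

lemma divisors_pq {p q : ℕ} (hp : p.Prime) (hq : q.Prime) (_hne : p ≠ q) :
    (p * q).divisors = {1, p, q, p * q} := by
  ext d
  simp only [Nat.mem_divisors, Finset.mem_insert, Finset.mem_singleton]
  constructor
  · rintro ⟨hd, -⟩
    obtain ⟨a, b, ha, hb, rfl⟩ := Nat.dvd_mul.1 hd
    rcases (Nat.dvd_prime hp).1 ha with rfl | rfl <;> rcases (Nat.dvd_prime hq).1 hb with rfl | rfl <;> simp
  · rintro (rfl | rfl | rfl | rfl) <;> simp [hp.ne_zero, hq.ne_zero]

lemma sum_pq {p q : ℕ} (hp : p.Prime) (hq : q.Prime) (hne : p ≠ q) {f : ℕ → ℕ} :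
    ∑ d ∈ ({1, p, q, p * q} : Finset ℕ), f d = f 1 + (f p + (f q + f (p * q))) := by
  have := hp.one_lt
  have := hq.one_lt
  have hpp : p < p * q := lt_mul_of_one_lt_right hp.pos hq.one_lt
  have hqq : q < p * q := lt_mul_of_one_lt_left hq.pos hp.one_lt
  rw [Finset.sum_insert (by simp; omega), Finset.sum_insert (by simp; omega), Finset.sum_pair hqq.ne]

lemma divisors_four {p : ℕ} (hp : p.Prime) (hp2 : p ≠ 2) :
    (4 * p).divisors = {1, 2, 4, p, 2 * p, 4 * p} := by
  ext d
  simp only [Nat.mem_divisors, Finset.mem_insert, Finset.mem_singleton]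
  constructor
  · rintro ⟨hd, -⟩
    obtain ⟨a, b, ha, hb, rfl⟩ := Nat.dvd_mul.1 hd
    have ha' : a ≤ 4 := Nat.le_of_dvd (by norm_num) ha
    rcases (Nat.dvd_prime hp).1 hb with rfl | rfl <;> interval_cases a <;> revert ha <;> norm_num
  · rintro (rfl | rfl | rfl | rfl | rfl | rfl) <;>
      refine ⟨?_, Nat.mul_ne_zero (by norm_num) hp.ne_zero⟩
    · exact one_dvd _
    · exact (show 2 ∣ 4 by norm_num).trans (dvd_mul_right 4 p)
    · exact dvd_mul_right 4 p
    · exact dvd_mul_left d 4
    · exact mul_dvd_mul_right (by norm_num) p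
    · exact dvd_rfl

lemma sum_four {p : ℕ} (hp : p.Prime) (hp2 : p ≠ 2) {f : ℕ → ℕ} :
    ∑ d ∈ ({1, 2, 4, p, 2 * p, 4 * p} : Finset ℕ), f d =
      f 1 + (f 2 + (f 4 + (f p + (f (2 * p) + f (4 * p))))) := by
  have := hp.two_le
  have h4 : p ≠ 4 := fun h => by rw [h] at hp; norm_num at hp
  rw [Finset.sum_insert (by simp; omega), Finset.sum_insert (by simp; omega),
    Finset.sum_insert (by simp; omega), Finset.sum_insert (by simp; omega),
    Finset.sum_pair (by omega)]

theorem main (n : ℕ) (hn : n ≠ 1)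
    (h : ((fun m : ℕ => Nat.card {g : G // orderOf g = m}) '' Set.range (orderOf : G → ℕ)) = {1, n}) :
    (∃ p : ℕ, p.Prime ∧ IsPGroup p G ∧ 3 ≤ Nat.card G ∧ Monoid.exponent G = p) ∨
      Nonempty (G ≃* QuaternionGroup 2) ∨ (IsCyclic G ∧ Nat.card G = 4) ∨
      (∃ (p : ℕ) (P : Type) (_ : Group P) (_ : Finite P), p.Prime ∧ p ≠ 2 ∧ IsPGroup p P ∧ Monoid.exponent P = p ∧
        Nonempty (G ≃* Multiplicative (ZMod 2) × P)) := by
  have hval : ∀ x : G, cnt G (orderOf x) = 1 ∨ cnt G (orderOf x) = n := fun x => by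
    have h1 : cnt G (orderOf x) ∈ ((fun m : ℕ => Nat.card {g : G // orderOf g = m}) ''
        Set.range (orderOf : G → ℕ)) := ⟨_, ⟨x, rfl⟩, rfl⟩
    rwa [h] at h1
  obtain ⟨x₀, hx₀⟩ : ∃ x : G, cnt G (orderOf x) = n := by
    have h1 : n ∈ ((fun m : ℕ => Nat.card {g : G // orderOf g = m}) ''
        Set.range (orderOf : G → ℕ)) := by rw [h]; exact Or.inr rfl
    obtain ⟨_, ⟨x, rfl⟩, hx⟩ := h1
    exact ⟨x, hx⟩
  have hn0 : 0 < n := hx₀ ▸ cnt_pos ⟨x₀, rfl⟩
  have hbig : ∀ m : ℕ, 3 ≤ m → (∃ x : G, orderOf x = m) → cnt G m = n := by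
    rintro m hm ⟨x, rfl⟩
    refine (hval x).resolve_left fun h1 => ?_
    have h2 := totient_dvd_cnt (G := G) (orderOf x)
    rw [h1, Nat.dvd_one, Nat.totient_eq_one_iff] at h2
    omega
  have hodd : ∀ p : ℕ, p.Prime → p ≠ 2 → p ∣ Nat.card G → cnt G p = n ∧ p ∣ n + 1 := by
    intro p hp hp2 hpd
    haveI := Fact.mk hp
    have he := exists_prime_orderOf_dvd_card' (G := G) p hpd
    have h1 : cnt G p = n := hbig p (by have := hp.two_le; omega) he
    refine ⟨h1, ?_⟩
    have h2 := Counting.dvd_card_pow_eq_one (G := G) p hpd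
    rw [card_pow_eq_one p hp.ne_zero, hp.divisors,
      Finset.sum_pair hp.one_lt.ne, cnt_one, h1] at h2
    rwa [add_comm] at h2
  have hsq : ∀ p : ℕ, p.Prime → p ≠ 2 → ∀ x : G, ¬ p ^ 2 ∣ orderOf x := by
    intro p hp hp2 x hx
    have hpd : p ∣ Nat.card G := ((dvd_pow_self p two_ne_zero).trans hx).trans (orderOf_dvd_natCard x)
    have h3 : 3 ≤ p ^ 2 := le_trans (by omega) (Nat.pow_le_pow_left hp.two_le 2)
    have h1 := totient_dvd_cnt (G := G) (p ^ 2)
    rw [hbig _ h3 (exists_orderOf_of_dvd hx), Nat.totient_prime_pow hp two_pos, show 2 - 1 = 1 from rfl, pow_one] at h1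
    have h2 := (Nat.dvd_add_right ((dvd_mul_right p _).trans h1)).1 (hodd p hp hp2 hpd).2
    exact hp.not_dvd_one h2
  have hsmall : ∀ x : G, orderOf x < 3 → orderOf x = 1 ∨ orderOf x = 2 := fun x hx => by
    have := orderOf_pos x; omega
  by_cases h2 : (2 ∣ Nat.card G) ∧ cnt G 2 ≠ 1
  · obtain ⟨h2d, h21⟩ := h2
    haveI := Fact.mk Nat.prime_two
    obtain ⟨z, hz⟩ := exists_prime_orderOf_dvd_card' (G := G) 2 h2d
    have hc2 : cnt G 2 = n := by
      have := (hval z).resolve_left (hz ▸ h21)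
      rwa [hz] at this
    have h1 := Counting.dvd_card_pow_eq_one (G := G) 2 h2d
    rw [card_pow_eq_one 2 two_ne_zero, Nat.prime_two.divisors,
      Finset.sum_pair (by norm_num : (1 : ℕ) ≠ 2), cnt_one, hc2] at h1
    have hexp : ∀ x : G, x ^ 2 = 1 := by
      intro x
      by_cases hx : orderOf x < 3
      · rcases hsmall x hx with h | h
        · rw [orderOf_eq_one_iff.1 h, one_pow]
        · exact h ▸ pow_orderOf_eq_one x
      · exfalso
        push Not at hx
        have h4 := hbig _ hx ⟨x, rfl⟩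
        have h5 := totient_dvd_cnt (G := G) (orderOf x)
        rw [h4] at h5
        have h6 : 2 ∣ n := (even_iff_two_dvd.1 (Nat.totient_even (by omega))).trans h5
        omega
    refine Or.inl ⟨2, Nat.prime_two, IsPGroup.iff_orderOf.2 fun x => ?_, ?_, ?_⟩
    · rcases (Nat.dvd_prime Nat.prime_two).1 (orderOf_dvd_of_pow_eq_one (hexp x)) with h | h
      · exact ⟨0, h⟩
      · exact ⟨1, h⟩
    · have h7 : n + 1 ≤ Nat.card G := by
        have h := card_pow_eq_one (G := G) 2 two_ne_zero
        rw [Nat.prime_two.divisors, Finset.sum_pair (by norm_num : (1 : ℕ) ≠ 2), cnt_one, hc2] at h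
        have := Nat.card_le_card_of_injective (fun g : {g : G // g ^ 2 = 1} => (g : G)) Subtype.val_injective
        omega
      omega
    · refine Nat.dvd_antisymm (Monoid.exponent_dvd_of_forall_pow_eq_one hexp) ?_
      rw [← hz]; exact Monoid.order_dvd_exponent z
  -- at most one involution
  have hc2 : 2 ∣ Nat.card G → cnt G 2 = 1 := fun hd => by
    by_contra hh; exact h2 ⟨hd, hh⟩
  have hone : ∀ p q : ℕ, p.Prime → q.Prime → p ≠ 2 → q ≠ 2 → p ∣ Nat.card G → q ∣ Nat.card G → p = q := by
    intro p q hp hq hp2 hq2 hpd hqd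
    by_contra hne
    have hcop := (Nat.coprime_primes hp hq).2 hne
    have h1 := Counting.dvd_card_pow_eq_one (G := G) (p * q) (hcop.mul_dvd_of_dvd_of_dvd hpd hqd)
    rw [card_pow_eq_one _ (Nat.mul_ne_zero hp.ne_zero hq.ne_zero), divisors_pq hp hq hne] at h1
    have hp1 := (hodd p hp hp2 hpd).2
    by_cases he : ∃ x : G, orderOf x = p * q
    · have h3 : p ∣ 3 * n + 1 := by
        refine (dvd_mul_right p q).trans (h1.trans (dvd_of_eq ?_))
        rw [sum_pq hp hq hne, (hodd p hp hp2 hpd).1, (hodd q hq hq2 hqd).1, hbig _ (by nlinarith [hp.two_le, hq.two_le]) he, cnt_one]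
        ring
      have h4 : p ∣ 2 := by
        have := Nat.dvd_sub (hp1.mul_left 3) h3
        rwa [show 3 * (n + 1) - (3 * n + 1) = 2 by omega] at this
      exact hp2 ((Nat.prime_dvd_prime_iff_eq hp Nat.prime_two).1 h4)
    · have h3 : p ∣ 2 * n + 1 := by
        refine (dvd_mul_right p q).trans (h1.trans (dvd_of_eq ?_))
        rw [sum_pq hp hq hne, (hodd p hp hp2 hpd).1, (hodd q hq hq2 hqd).1, cnt_eq_zero he, cnt_one]
        ring
      have h4 : p ∣ 1 := by
        have := Nat.dvd_sub (hp1.mul_left 2) h3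
        rwa [show 2 * (n + 1) - (2 * n + 1) = 1 by omega] at this
      exact hp.not_dvd_one h4
  by_cases hp' : ∃ p : ℕ, p.Prime ∧ p ≠ 2 ∧ p ∣ Nat.card G
  · obtain ⟨p, hp, hp2, hpd⟩ := hp'
    haveI := Fact.mk hp
    have hp3 : 3 ≤ p := by have := hp.two_le; omega
    obtain ⟨y, hy⟩ := exists_prime_orderOf_dvd_card' (G := G) p hpd
    by_cases h2d : 2 ∣ Nat.card G
    · haveI := Fact.mk Nat.prime_two
      obtain ⟨z, hz⟩ := exists_prime_orderOf_dvd_card' (G := G) 2 h2d
      have huniq : ∀ w : G, orderOf w = 2 → w = z := fun w hw => by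
        obtain ⟨hs, -⟩ := Nat.card_eq_one_iff_unique.1 (hc2 h2d)
        exact congrArg Subtype.val (Subsingleton.elim (⟨w, hw⟩ : {g : G // orderOf g = 2}) ⟨z, hz⟩)
      have hzc : ∀ g : G, g * z = z * g := fun g =>
        mul_inv_eq_iff_eq_mul.1 (huniq _ (by
          rw [show g * z * g⁻¹ = MulAut.conj g z from rfl, MulEquiv.orderOf_eq, hz]))
      have hno4 : ¬ ∃ x : G, orderOf x = 4 := by
        intro he
        have h4d : 4 ∣ Nat.card G := by obtain ⟨x, hx⟩ := he; exact hx ▸ orderOf_dvd_natCard x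
        have e4 := Counting.dvd_card_pow_eq_one (G := G) 4 h4d
        have hd4 : (4 : ℕ).divisors = {1, 2, 4} := by decide
        rw [card_pow_eq_one 4 (by norm_num), hd4, Finset.sum_insert (by decide),
          Finset.sum_pair (by decide), cnt_one, hc2 h2d, hbig 4 (by norm_num) he] at e4
        have hcop : Nat.Coprime 4 p := ((hp.coprime_iff_not_dvd).2 fun hd => by
          have := Nat.le_of_dvd (by norm_num) hd
          interval_cases p <;> norm_num at *).symm
        have e5 := Counting.dvd_card_pow_eq_one (G := G) (4 * p) (hcop.mul_dvd_of_dvd_of_dvd h4d hpd)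
        rw [card_pow_eq_one _ (Nat.mul_ne_zero (by norm_num) hp.ne_zero), divisors_four hp hp2] at e5
        have h4p : ¬ ∃ x : G, orderOf x = 4 * p := by
          intro hx
          have h6 := totient_dvd_cnt (G := G) (4 * p)
          rw [hbig _ (by omega) hx, Nat.totient_mul hcop, show Nat.totient 4 = 2 from rfl,
            Nat.totient_prime hp] at h6
          obtain ⟨k, hk⟩ := hp.odd_of_ne_two hp2
          have : 4 ∣ n := (show (4 : ℕ) ∣ 2 * (p - 1) from ⟨k, by omega⟩).trans h6
          omega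
        have h2p : cnt G (2 * p) = n := hbig _ (by omega) ⟨z * y, by
          rw [(show Commute z y from (hzc y).symm).orderOf_mul_eq_mul_orderOf_of_coprime, hz, hy]
          rw [hz, hy]
          exact (Nat.coprime_primes Nat.prime_two hp).2 (Ne.symm hp2)⟩
        have h7 : p ∣ 3 * n + 2 := by
          refine (dvd_mul_left p 4).trans (e5.trans (dvd_of_eq ?_))
          rw [sum_four hp hp2, cnt_one, hc2 h2d, hbig 4 (by norm_num) he, (hodd p hp hp2 hpd).1, h2p,
            cnt_eq_zero h4p]
          ring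
        have h8 : p ∣ 1 := by
          have := Nat.dvd_sub ((hodd p hp hp2 hpd).2.mul_left 3) h7
          rwa [show 3 * (n + 1) - (3 * n + 2) = 1 by omega] at this
        exact hp.not_dvd_one h8
      obtain ⟨P⟩ := (inferInstance : Nonempty (Sylow p G))
      have hPord : ∀ x : (P : Subgroup G), (x : G) ^ p = 1 := by
        intro x
        obtain ⟨k, hk⟩ := IsPGroup.iff_orderOf.1 P.isPGroup' x
        rw [← Subgroup.orderOf_coe] at hk
        refine orderOf_dvd_iff_pow_eq_one.1 (hk ▸ ?_)
        rcases Nat.lt_or_ge k 2 with hk2 | hk2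
        · exact (Nat.pow_dvd_pow p (by omega : k ≤ 1)).trans (pow_one p).dvd
        · exact absurd (hk ▸ Nat.pow_dvd_pow p hk2) (hsq p hp hp2 (x : G))
      obtain ⟨S⟩ := (inferInstance : Nonempty (Sylow 2 G))
      have hS : Nat.card (S : Subgroup G) ≤ 2 := by
        have hzc2 := (Nat.card_zpowers z).trans hz
        refine le_of_le_of_eq ?_ hzc2
        refine Subgroup.card_le_of_le fun s hs => ?_
        obtain ⟨k, hk⟩ := IsPGroup.iff_orderOf.1 S.isPGroup' ⟨s, hs⟩
        rw [Subgroup.orderOf_mk] at hk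
        rcases k with _ | _ | k
        · rw [pow_zero, orderOf_eq_one_iff] at hk
          rw [hk]; exact one_mem _
        · rw [huniq s (by rw [hk]; norm_num)]; exact Subgroup.mem_zpowers z
        · exact absurd (exists_orderOf_of_dvd (g := s) (d := 4)
            (by rw [hk]; exact (Nat.pow_dvd_pow 2 (by omega : 2 ≤ k + 1 + 1)))) hno4
      have hfac : ∀ r : ℕ, r.Prime → r ∣ Nat.card G → r = 2 ∨ r = p := fun r hr hrd => by
        by_cases hr2 : r = 2
        · exact Or.inl hr2
        · exact Or.inr (hone r p hr hp hr2 hp2 hrd hpd)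
      set φ : Multiplicative (ZMod 2) × (P : Subgroup G) →* G :=
        MonoidHom.noncommCoprod (AddMonoidHom.toMultiplicativeLeft (ZMod.lift 2
          ⟨zmultiplesHom (Additive G) (Additive.ofMul z), by
            simp only [zmultiplesHom_apply, natCast_zsmul, ← ofMul_pow]
            rw [← hz, pow_orderOf_eq_one]; rfl⟩)) (P : Subgroup G).subtype
          (fun i x => by
            obtain ⟨k, hk⟩ : ∃ k : ℤ, (AddMonoidHom.toMultiplicativeLeft (ZMod.lift 2
                ⟨zmultiplesHom (Additive G) (Additive.ofMul z), by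
                  simp only [zmultiplesHom_apply, natCast_zsmul, ← ofMul_pow]
                  rw [← hz, pow_orderOf_eq_one]; rfl⟩)) i = z ^ k := by
              obtain ⟨k, hk⟩ := ZMod.intCast_surjective (Multiplicative.toAdd i)
              refine ⟨k, ?_⟩
              rw [AddMonoidHom.toMultiplicativeLeft_apply_apply, ← hk, ZMod.lift_coe]
              rfl
            rw [hk]
            exact (Commute.zpow_left (hzc x : Commute (x : G) z).symm k)) with hφ
      have hcop : (Nat.card (Multiplicative (ZMod 2))).Coprime (Nat.card (P : Subgroup G)) := by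
        obtain ⟨k, hk⟩ := IsPGroup.iff_card.1 P.isPGroup'
        rw [hk, Nat.card_congr Multiplicative.toAdd, Nat.card_zmod]
        exact ((Nat.coprime_primes Nat.prime_two hp).2 (Ne.symm hp2)).pow_right k
      have hφsurj : Function.Surjective φ := by
        rw [← MonoidHom.range_eq_top]
        refine Subgroup.eq_top_of_card_eq _ (Nat.dvd_antisymm (Subgroup.card_subgroup_dvd_card _) ?_)
        rw [Nat.dvd_iff_prime_pow_dvd_dvd]
        intro r k hr hd
        rcases Nat.eq_zero_or_pos k with rfl | hk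
        · rw [pow_zero]; exact one_dvd _
        rcases hfac r hr ((dvd_pow_self r hk.ne').trans hd) with rfl | rfl
        · have h9 := Nat.le_of_dvd Nat.card_pos (S.pow_dvd_card_of_pow_dvd_card hd)
          have hk1 : k = 1 := by
            by_contra hne
            have : (2 : ℕ) ^ 2 ≤ 2 ^ k := Nat.pow_le_pow_right (by norm_num) (by omega)
            omega
          subst hk1
          rw [pow_one]
          refine ((Nat.card_zpowers z).trans hz).symm.dvd.trans ?_
          refine Subgroup.card_dvd_of_le (Subgroup.zpowers_le.2 ⟨(Multiplicative.ofAdd 1, 1), ?_⟩)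
          rw [hφ, MonoidHom.noncommCoprod_apply]
          show _ * (1 : G) = z
          rw [mul_one]
          show Additive.toMul (ZMod.lift 2 _ ((1 : ℤ) : ZMod 2)) = z
          exact (congrArg Additive.toMul (ZMod.lift_coe 2 _ 1)).trans (zpow_one z)
        · refine (P.pow_dvd_card_of_pow_dvd_card hd).trans (Subgroup.card_dvd_of_le fun x hx => ⟨(1, ⟨x, hx⟩), ?_⟩)
          rw [hφ, MonoidHom.noncommCoprod_apply, map_one, one_mul]
          rfl
      have hφbij : Function.Bijective φ := by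
        refine (Nat.bijective_iff_surjective_and_card φ).2 ⟨hφsurj, le_antisymm ?_ (Nat.card_le_card_of_surjective φ hφsurj)⟩
        rw [Nat.card_prod]
        refine Nat.le_of_dvd Nat.card_pos (hcop.mul_dvd_of_dvd_of_dvd ?_ (Subgroup.card_subgroup_dvd_card _))
        rw [Nat.card_congr Multiplicative.toAdd, Nat.card_zmod]; exact h2d
      obtain ⟨Q, hQg, hQf, ⟨e⟩⟩ := AffineExt.exists_small_copy (P : Subgroup G)
      refine Or.inr (Or.inr (Or.inr ⟨p, Q, hQg, Finite.of_fintype Q, hp, hp2,
        P.isPGroup'.of_equiv e.symm, ?_, ⟨(MulEquiv.ofBijective φ hφbij).symm.trans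
          (MulEquiv.prodCongr (MulEquiv.refl _) e.symm)⟩⟩))
      rw [Monoid.exponent_eq_of_mulEquiv e]
      refine Nat.dvd_antisymm (Monoid.exponent_dvd_of_forall_pow_eq_one fun x => Subtype.ext ?_) ?_
      · rw [SubmonoidClass.coe_pow, hPord]; rfl
      · obtain ⟨w, hw⟩ := exists_prime_orderOf_dvd_card' (G := (P : Subgroup G)) p (P.dvd_card_of_dvd_card hpd)
        exact hw.symm.dvd.trans (Monoid.order_dvd_exponent w)
    · -- a `p`-group of exponent `p`
      have hfac : ∀ r : ℕ, r.Prime → r ∣ Nat.card G → r = p := fun r hr hrd =>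
        hone r p hr hp (fun e => h2d (e ▸ hrd)) hp2 hrd hpd
      have hpg : IsPGroup p G := IsPGroup.of_card
        (Nat.eq_prime_pow_of_unique_prime_dvd Nat.card_pos.ne' fun {r} hr hrd => hfac r hr hrd)
      refine Or.inl ⟨p, hp, hpg, le_trans hp3 (Nat.le_of_dvd Nat.card_pos hpd), ?_⟩
      refine Nat.dvd_antisymm (Monoid.exponent_dvd_of_forall_pow_eq_one fun x => ?_) ?_
      · obtain ⟨k, hk⟩ := IsPGroup.iff_orderOf.1 hpg x
        refine orderOf_dvd_iff_pow_eq_one.1 (hk ▸ ?_)
        rcases Nat.lt_or_ge k 2 with hk2 | hk2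
        · exact (Nat.pow_dvd_pow p (by omega : k ≤ 1)).trans (pow_one p).dvd
        · exact absurd (hk ▸ Nat.pow_dvd_pow p hk2) (hsq p hp hp2 x)
      · rw [← hy]; exact Monoid.order_dvd_exponent y
  -- a `2`-group with one involution
  push Not at hp'
  haveI := Fact.mk Nat.prime_two
  have hfac : ∀ r : ℕ, r.Prime → r ∣ Nat.card G → r = 2 := fun r hr hrd => by
    by_contra hne; exact hp' r hr hne hrd
  have hpg : IsPGroup 2 G := IsPGroup.of_card
    (Nat.eq_prime_pow_of_unique_prime_dvd Nat.card_pos.ne' fun {r} hr hrd => hfac r hr hrd)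
  have h4 : ∃ x : G, orderOf x = 4 := by
    obtain ⟨k, hk⟩ := IsPGroup.iff_orderOf.1 hpg x₀
    rcases k with _ | _ | k
    · rw [hk, pow_zero, cnt_one] at hx₀; exact absurd hx₀.symm hn
    · rw [hk, zero_add, pow_one] at hx₀
      rw [hc2 (by rw [← pow_one 2, ← zero_add 1, ← hk]; exact orderOf_dvd_natCard x₀)] at hx₀
      exact absurd hx₀.symm hn
    · exact exists_orderOf_of_dvd (g := x₀) (by rw [hk]; exact Nat.pow_dvd_pow 2 (by omega : 2 ≤ k + 1 + 1))
  have h4d : 4 ∣ Nat.card G := by obtain ⟨x, hx⟩ := h4; exact hx ▸ orderOf_dvd_natCard x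
  have h2d : 2 ∣ Nat.card G := (show 2 ∣ 4 by norm_num).trans h4d
  have e4 := Counting.dvd_card_pow_eq_one (G := G) 4 h4d
  have hd4 : (4 : ℕ).divisors = {1, 2, 4} := by decide
  rw [card_pow_eq_one 4 (by norm_num), hd4, Finset.sum_insert (by decide),
    Finset.sum_pair (by decide), cnt_one, hc2 h2d, hbig 4 (by norm_num) h4] at e4
  have hexp : ∀ x : G, x ^ 4 = 1 := by
    intro x
    obtain ⟨k, hk⟩ := IsPGroup.iff_orderOf.1 hpg x
    refine orderOf_dvd_iff_pow_eq_one.1 (hk ▸ ?_)
    rcases Nat.lt_or_ge k 3 with hk3 | hk3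
    · exact Nat.pow_dvd_pow 2 (by omega : k ≤ 2)
    exfalso
    have h8 : ∃ w : G, orderOf w = 8 :=
      exists_orderOf_of_dvd (g := x) (hk ▸ Nat.pow_dvd_pow 2 hk3)
    have h9 := totient_dvd_cnt (G := G) 8
    rw [hbig 8 (by norm_num) h8, show Nat.totient 8 = 4 from rfl] at h9
    omega
  have hab : AbCyc.AbCyclic G := by
    intro A hA
    haveI := hA
    have hsq : ∀ a : A, (a : G) ^ 2 = 1 → (a : G) = 1 ∨ orderOf (a : G) = 2 := fun a ha => by
      rcases (Nat.dvd_prime Nat.prime_two).1 (orderOf_dvd_of_pow_eq_one ha) with h | h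
      · exact Or.inl (orderOf_eq_one_iff.1 h)
      · exact Or.inr h
    by_cases h4A : ∃ a : A, orderOf a = 4
    · obtain ⟨a, ha⟩ := h4A
      refine isCyclic_of_orderOf_eq_card a (le_antisymm (Nat.le_of_dvd Nat.card_pos (orderOf_dvd_natCard a)) ?_)
      rw [ha]
      letI : CommGroup A := { (inferInstance : Group A) with mul_comm := fun u v => mul_comm' u v }
      let f : A →* A := powMonoidHom 2
      have hker : Nat.card f.ker ≤ 2 := by
        obtain ⟨hs, -⟩ := Nat.card_eq_one_iff_unique.1 (hc2 h2d)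
        refine (Nat.card_le_card_of_injective (fun w : f.ker => if (w : A) = 1 then (0 : Fin 2) else 1) ?_).trans (Nat.card_fin 2).le
        intro u v huv
        dsimp only at huv
        by_cases hu : (u : A) = 1 <;> by_cases hv : (v : A) = 1 <;> simp [hu, hv] at huv
        · exact Subtype.ext (hu.trans hv.symm)
        · apply Subtype.ext
          have key : ∀ w : f.ker, (w : A) ≠ 1 → orderOf ((w : A) : G) = 2 := fun w hw =>
            (hsq w (congrArg Subtype.val (show (w : A) ^ 2 = 1 from w.2))).resolve_left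
              fun e => hw (Subtype.ext e)
          have e6 : ((u : A) : G) = ((v : A) : G) := congrArg (fun w : {g : G // orderOf g = 2} => (w : G))
            (Subsingleton.elim (⟨_, key u hu⟩ : {g : G // orderOf g = 2}) ⟨_, key v hv⟩)
          exact Subtype.ext e6
      have hrange : Nat.card f.range ≤ Nat.card f.ker := by
        refine Subgroup.card_le_of_le ?_
        rintro _ ⟨w, rfl⟩
        show (w ^ 2) ^ 2 = 1
        rw [← pow_mul]
        exact Subtype.ext (hexp w)
      have hmul := Subgroup.card_mul_index f.ker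
      rw [Subgroup.index_ker] at hmul
      nlinarith
    · refine isCyclic_of_card_pow_eq_one_le fun m hm => ?_
      have hall : ∀ a : A, (a : G) ^ 2 = 1 := fun a => by
        obtain ⟨k, hk⟩ := IsPGroup.iff_orderOf.1 (hpg.to_subgroup A) a
        rcases Nat.lt_or_ge k 2 with hk2 | hk2
        · refine congrArg Subtype.val (show a ^ 2 = 1 from orderOf_dvd_iff_pow_eq_one.1 (hk ▸ ?_))
          exact (Nat.pow_dvd_pow 2 (by omega : k ≤ 1)).trans (pow_one 2).dvd
        · refine absurd ⟨a ^ (2 ^ (k - 2)), ?_⟩ h4A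
          rw [orderOf_pow_of_dvd (by positivity) (hk ▸ Nat.pow_dvd_pow 2 (Nat.sub_le k 2)), hk,
            Nat.pow_div (Nat.sub_le k 2) two_pos, show k - (k - 2) = 2 by omega]
          norm_num
      by_cases hm1 : m = 1
      · subst hm1; simp [Finset.card_le_one]
      refine le_trans (Finset.card_le_univ _) ((show Fintype.card A ≤ 2 from ?_).trans (by omega))
      obtain ⟨hs, -⟩ := Nat.card_eq_one_iff_unique.1 (hc2 h2d)
      refine (Fintype.card_le_of_injective (fun w : A => if (w : G) = 1 then (0 : Fin 2) else 1) ?_).trans (Fintype.card_fin 2).le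
      intro u v huv
      dsimp only at huv
      by_cases hu : (u : G) = 1 <;> by_cases hv : (v : G) = 1 <;> simp [hu, hv] at huv
      · exact Subtype.ext (hu.trans hv.symm)
      · have e6 : (u : G) = (v : G) := congrArg (fun w : {g : G // orderOf g = 2} => (w : G)) (Subsingleton.elim
          (⟨_, (hsq u (hall u)).resolve_left hu⟩ : {g : G // orderOf g = 2}) ⟨_, (hsq v (hall v)).resolve_left hv⟩)
        exact Subtype.ext e6
  obtain ⟨y, hy⟩ := h4
  rcases FpfStruct.cyclic_or_quaternion hpg hab with hc | ⟨-, k, ⟨e⟩⟩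
  · refine Or.inr (Or.inr (Or.inl ⟨hc, ?_⟩))
    refine Nat.dvd_antisymm ?_ h4d
    obtain ⟨g, hg⟩ := hc.exists_generator
    rw [← orderOf_eq_card_of_forall_mem_zpowers hg]
    exact orderOf_dvd_of_pow_eq_one (hexp g)
  · have hk : k ≤ 1 := by
      by_contra hk
      push Not at hk
      have h1 : orderOf (e.symm (QuaternionGroup.a 1)) ∣ 4 := orderOf_dvd_of_pow_eq_one (hexp _)
      rw [MulEquiv.orderOf_eq, QuaternionGroup.orderOf_a_one] at h1
      have := Nat.le_of_dvd (by norm_num) h1
      have : (2 : ℕ) ^ 2 ≤ 2 ^ k := Nat.pow_le_pow_right (by norm_num) hk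
      omega
    rcases Nat.le_one_iff_eq_zero_or_eq_one.1 hk with rfl | rfl
    · refine Or.inr (Or.inr (Or.inl ⟨?_, ?_⟩))
      · haveI : IsCyclic (QuaternionGroup (2 ^ 0)) :=
          isCyclic_of_orderOf_eq_card (QuaternionGroup.xa 0 : QuaternionGroup (2 ^ 0)) (by
            rw [QuaternionGroup.orderOf_xa, Nat.card_eq_fintype_card, QuaternionGroup.card]; rfl)
        exact isCyclic_of_surjective e.symm.toMonoidHom e.symm.surjective
      · rw [Nat.card_congr e.toEquiv, Nat.card_eq_fintype_card, QuaternionGroup.card]; rfl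
    · exact Or.inr (Or.inl ⟨e⟩)

end Cfsg.Agent.S3995


set_option autoImplicit false
open Cfsg

namespace Cfsg.Agent.S3995

/-- Let G be a finite group such that the numbers of elements of each order that occurs in G (the numbers #{g : o(g) = m}, m ranging over the element orders of G) take exactly two values, 1 and some n ≠ 1. Then either G is a p-group of exponent p and order at least 3 for some prime p, or G is the quaternion group of order 8, or G is cyclic of order 4, or G ≅ Z₂ × P for a p-group P of exponent p with p an odd prime. -/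
theorem result {G : Type*} [Group G] [Finite G] (n : ℕ) (hn : n ≠ 1) (h : ((fun m : ℕ => Nat.card {g : G // orderOf g = m}) '' Set.range (orderOf : G → ℕ)) = {1, n}) :
    (∃ p : ℕ, p.Prime ∧ IsPGroup p G ∧ 3 ≤ Nat.card G ∧ Monoid.exponent G = p) ∨
      Nonempty (G ≃* QuaternionGroup 2) ∨ (IsCyclic G ∧ Nat.card G = 4) ∨
      (∃ (p : ℕ) (P : Type) (_ : Group P) (_ : Finite P), p.Prime ∧ p ≠ 2 ∧ IsPGroup p P ∧ Monoid.exponent P = p ∧
        Nonempty (G ≃* Multiplicative (ZMod 2) × P)) := by
  exact S3995.main n hn h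

end Cfsg.Agent.S3995
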