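import Cfsg.Statements.S0679
import Cfsg.Agent.Lib.M11Uniq.DegreeEleven
import Cfsg.Agent.S0498

set_option autoImplicit false
open Cfsg

namespace Cfsg.Agent.S0679

/-- A non-solvable transitive permutation group on 11 points that does not contain the alternating group is either sharply 4-transitive (of order 7920) or isomorphic to the projective special linear group of degree 2 over the field with 11 elements. -/
theorem result {α : Type*} [Fintype α] [DecidableEq α] (hα : Fintype.card α = 11) (G : Subgroup (Equiv.Perm α)) [MulAction.IsPretransitive G α] (hG : ¬ Group.IsSolvable G) (hA : ¬ alternatingGroup α ≤ G) : (MulAction.IsMultiplyPretransitive G α 4 ∧ ∀ x : Fin 4 ↪ α, MulAction.stabilizer G x = ⊥) ∨ Nonempty (G ≃* Matrix.ProjectiveSpecialLinearGroup (Fin 2) (ZMod 11)) := by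
  classical
  haveI : Fact (Nat.Prime 11) := ⟨by norm_num⟩
  have hd : 11 ∣ Nat.card G := by
    obtain ⟨a⟩ : Nonempty α := Fintype.card_pos_iff.1 (by rw [hα]; norm_num)
    have h := Subgroup.index_dvd_card (MulAction.stabilizer G a)
    rw [MulAction.index_stabilizer_of_transitive, Nat.card_eq_fintype_card, hα] at h
    exact h
  obtain ⟨g, hg⟩ := exists_prime_orderOf_dvd_card' 11 hd
  let e₀ : α ≃ Fin 11 := Fintype.equivFinOfCardEq hα
  have hg0 : orderOf (e₀.permCongr (g : Equiv.Perm α)) = 11 := by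
    show orderOf (e₀.permCongrHom.toMonoidHom (g : Equiv.Perm α)) = 11
    rw [orderOf_injective _ e₀.permCongrHom.injective, Subgroup.orderOf_coe, hg]
  obtain ⟨π, hπ⟩ := isConj_iff.1 (Equiv.Perm.isConj_iff_cycleType_eq.2
    (show (e₀.permCongr (g : Equiv.Perm α)).cycleType = M11Uniq.Eleven.sig.cycleType by
      rw [M11Uniq.Eleven.cycleType_of_order hg0,
        M11Uniq.Eleven.cycleType_of_order M11Uniq.Eleven.orderOf_sig]))
  let f : Equiv.Perm α ≃* Equiv.Perm (Fin 11) := e₀.permCongrHom.trans (MulAut.conj π)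
  set H : Subgroup (Equiv.Perm (Fin 11)) := G.map f.toMonoidHom with hH
  have iso : G ≃* H := G.equivMapOfInjective _ f.injective
  have hsig : M11Uniq.Eleven.sig ∈ H := ⟨g, g.2, hπ⟩
  have hns : ¬ Group.IsSolvable H := fun h => hG
    (Group.isSolvable_of_surjective (f := iso.symm.toMonoidHom) iso.symm.surjective)
  have hnA : ¬ alternatingGroup (Fin 11) ≤ H := fun h => hA fun x hx => by
    have hfx : f x ∈ H := h (Equiv.Perm.mem_alternatingGroup.2 (by
      show Equiv.Perm.sign (π * e₀.permCongr x * π⁻¹) = 1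
      rw [map_mul, map_mul, map_inv, Equiv.Perm.sign_permCongr, Equiv.Perm.mem_alternatingGroup.1 hx, mul_one,
        mul_inv_cancel]))
    obtain ⟨y, hy, hyx⟩ := hfx
    exact f.injective hyx ▸ hy
  obtain ⟨hsimple, hcard⟩ := M11Uniq.degree_eleven_std hsig hns hnA
  haveI := hsimple
  haveI : IsSimpleGroup G := iso.isSimpleGroup
  have hGH : Nat.card G = Nat.card H := Nat.card_congr iso.toEquiv
  rcases hcard with h | h
  · left
    haveI : Fintype H := Fintype.ofFinite _
    obtain ⟨σ, hσ⟩ := M11Uniq.exists_conj_std h (φ₀ := H.subtype) H.subtype_injective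
    rw [Subgroup.range_subtype] at hσ
    refine M11Uniq.sharp_four e₀.symm (π⁻¹ * σ) (hGH.trans h) fun x hx => ?_
    obtain ⟨y, hy, hyx⟩ := (hσ.le ⟨x, hx, rfl⟩ : σ * x * σ⁻¹ ∈ H)
    suffices e : e₀.symm.permCongr (π⁻¹ * σ * x * (π⁻¹ * σ)⁻¹) = y by rw [e]; exact hy
    refine f.injective (Eq.trans ?_ hyx.symm)
    show π * e₀.permCongr (e₀.symm.permCongr (π⁻¹ * σ * x * (π⁻¹ * σ)⁻¹)) * π⁻¹ = σ * x * σ⁻¹
    rw [show e₀.permCongr (e₀.symm.permCongr (π⁻¹ * σ * x * (π⁻¹ * σ)⁻¹)) = π⁻¹ * σ * x * (π⁻¹ * σ)⁻¹ from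
      Equiv.ext fun i => by simp [Equiv.permCongr_apply]]
    group
  · exact Or.inr (Cfsg.Agent.S0498.result 11 (Or.inl rfl) (by rw [hGH, h]; norm_num)
      (by rw [ZMod.card]))

end Cfsg.Agent.S0679
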