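import Cfsg.Statements.S4211
import Cfsg.Agent.Lib.FGBasics.Hamiltonian
open Subgroup

set_option autoImplicit false
open Cfsg

namespace Cfsg.Agent.S4211

theorem q8_central : ∀ t : QuaternionGroup 2,
    t * .a 1 = .a 1 * t → t * .xa 0 = .xa 0 * t → t = 1 ∨ t = .a 2 := by decide +kernel

theorem exists_decomp {S : Type*} [Group S] [Finite S] (hn : ∀ H : Subgroup S, H.Normal) {a b : S}
    (hab : a * b = b * a⁻¹) (hb2 : b ^ 2 = a ^ 2) (ha4 : a ^ 4 = 1) (ha2 : a ^ 2 ≠ 1) (hS : IsPGroup 2 S) :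
    ∃ Q E : Subgroup S, Nonempty (Q ≃* QuaternionGroup 2) ∧ Cfsg.IsElementaryAbelian 2 E ∧ Q ⊓ E = ⊥ ∧ Q ⊔ E = ⊤ := by
  -- the powers
  set pw : ZMod (2 * 2) → S := fun i => a ^ i.val with hpw
  have hadd : ∀ i j, pw (i + j) = pw i * pw j := fun i j => by
    simp only [hpw]
    rw [ZMod.val_add, ← pow_add, ← pow_eq_pow_mod _ ha4]
  have hpneg : ∀ i, pw (-i) = (pw i)⁻¹ := fun i => by
    refine eq_inv_of_mul_eq_one_left ?_
    rw [← hadd, neg_add_cancel]; simp [hpw]
  have hsub : ∀ i j, pw (i - j) = pw i * (pw j)⁻¹ := fun i j => by rw [sub_eq_add_neg, hadd, hpneg]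
  have hcomm : ∀ i j, pw i * pw j = pw j * pw i := fun i j => by rw [← hadd, ← hadd, add_comm]
  have hmove : ∀ i, pw i * b = b * (pw i)⁻¹ := fun i => by
    simp only [hpw]
    induction i.val with
    | zero => simp
    | succ n ih =>
      rw [pow_succ, mul_assoc, hab, ← mul_assoc, ih]
      group
  have h2 : pw 2 = a ^ 2 := rfl
  let f : QuaternionGroup 2 →* S :=
  { toFun := fun x => match x with
      | .a i => pw i
      | .xa i => b * pw i
    map_one' := by show pw 0 = 1; simp [hpw]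
    map_mul' := by
      rintro (i | i) (j | j) <;> simp only [QuaternionGroup.a_mul_a, QuaternionGroup.a_mul_xa,
        QuaternionGroup.xa_mul_a, QuaternionGroup.xa_mul_xa]
      · exact hadd i j
      · rw [hsub, ← mul_assoc (pw i), hmove, ← hpneg, hcomm j]; simp only [mul_assoc]
      · rw [hadd, mul_assoc]
      · rw [show ((2 : ℕ) : ZMod (2 * 2)) + j - i = (2 : ZMod (2 * 2)) + (j - i) from add_sub_assoc _ _ _, hadd,
          hsub, h2, ← hb2, pow_two, ← mul_assoc (b * pw i), mul_assoc b (pw i) b, hmove, ← hpneg, hcomm j]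
        simp only [mul_assoc] }
  have fa : f (.a 1) = a := by show a ^ (1 : ZMod (2 * 2)).val = a; exact pow_one a
  have fb : f (.xa 0) = b := by show b * a ^ (0 : ZMod (2 * 2)).val = b; simp
  have hnab : a * b ≠ b * a := fun h => ha2 (by
    rw [h] at hab
    rw [pow_two]; exact mul_eq_one_iff_eq_inv.2 (mul_left_cancel hab))
  have hinj : Function.Injective f := by
    refine (injective_iff_map_eq_one f).2 fun x hx => ?_
    rcases x with i | i
    · have h : a ^ i.val = 1 := hx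
      have ho : orderOf a = 4 := by
        rw [show (4 : ℕ) = 2 ^ (1 + 1) by norm_num]
        exact orderOf_eq_prime_pow (by simpa using ha2) (by norm_num [ha4])
      have h4 := orderOf_dvd_of_pow_eq_one h
      rw [ho] at h4
      have hlt : i.val < 4 := i.val_lt
      have : i.val = 0 := Nat.eq_zero_of_dvd_of_lt h4 hlt
      rw [show i = 0 from (ZMod.val_eq_zero i).1 this]
      rfl
    · have h : b * a ^ i.val = 1 := hx
      refine absurd ?_ hnab
      rw [mul_eq_one_iff_eq_inv] at h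
      rw [h]
      exact (((Commute.refl a).pow_right _).inv_right).eq
  set Q := f.range with hQ
  have haQ : a ∈ Q := ⟨_, fa⟩
  have hbQ : b ∈ Q := ⟨_, fb⟩
  set C := centralizer ({a, b} : Set S) with hC
  have hcc : a ^ 2 ∈ C := by
    rw [hC, mem_centralizer_iff]
    rintro x (rfl | rfl)
    · exact ((Commute.refl x).pow_right 2).eq
    · rw [← hb2]; exact ((Commute.refl x).pow_right 2).eq
  have hb4 : b ^ 4 = 1 := by rw [show 4 = 2 * 2 from rfl, pow_mul, hb2, ← pow_mul]; exact ha4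
  have hb2' : b ^ 2 ≠ 1 := hb2 ▸ ha2
  -- conjugation on a cyclic subgroup of order four
  have hflip : ∀ {x : S}, x ^ 4 = 1 → x ^ 2 ≠ 1 → ∀ g, g * x * g⁻¹ = x ∨ g * x * g⁻¹ = x⁻¹ := by
    intro x hx4 hx2 g
    obtain ⟨k, hk⟩ := mem_zpowers_iff.1 ((hn (zpowers x)).conj_mem x (mem_zpowers x) g)
    have hxz : x ^ (4 : ℤ) = 1 := mod_cast hx4
    rw [zpow_eq_zpow_emod k hxz] at hk
    have hj : k % 4 = 0 ∨ k % 4 = 1 ∨ k % 4 = 2 ∨ k % 4 = 3 := by omega
    rcases hj with h | h | h | h <;> rw [h] at hk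
    · rw [zpow_zero, eq_comm, conj_eq_one_iff] at hk
      exact absurd (by rw [hk, one_pow]) hx2
    · left; rw [← hk, zpow_one]
    · refine absurd ?_ hx2
      have h5 : (g * x * g⁻¹) ^ 2 = 1 := by
        rw [← hk, ← zpow_natCast, ← zpow_mul]; exact hxz
      rwa [conj_pow, conj_eq_one_iff] at h5
    · right
      rw [← hk]
      exact eq_inv_of_mul_eq_one_left (by rw [← zpow_add_one]; exact hxz)
  have hCexp : ∀ x ∈ C, x ^ 2 = 1 := by
    intro x hx
    by_contra hx2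
    obtain ⟨k, hk⟩ := IsPGroup.iff_orderOf.1 hS x
    obtain ⟨j, rfl⟩ : ∃ j, k = j + 2 := by
      refine ⟨k - 2, ?_⟩
      have : 2 ≤ k := by
        by_contra hlt
        exact hx2 (orderOf_dvd_iff_pow_eq_one.1 (hk ▸ (pow_dvd_pow 2 (show k ≤ 1 by omega))))
      omega
    set y := x ^ 2 ^ j with hy
    have hy4 : y ^ 4 = 1 := by
      rw [hy, ← pow_mul, show 2 ^ j * 4 = orderOf x by rw [hk, pow_add]; norm_num, pow_orderOf_eq_one]
    have hy2 : y ^ 2 ≠ 1 := fun h => by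
      rw [hy, ← pow_mul, ← pow_succ] at h
      have := Nat.le_of_dvd (pow_pos two_pos _) (hk ▸ orderOf_dvd_of_pow_eq_one h)
      have := Nat.pow_lt_pow_right (a := 2) one_lt_two (show j + 1 < j + 2 by omega)
      omega
    have hyC : y ∈ C := pow_mem hx _
    have hya : a * y = y * a := mem_centralizer_iff.1 hyC a (Set.mem_insert _ _)
    have hyb : b * y = y * b := mem_centralizer_iff.1 hyC b (Set.mem_insert_of_mem _ rfl)
    have hay4 : (a * y) ^ 4 = 1 := by rw [Commute.mul_pow hya, ha4, hy4, one_mul]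
    have hmem := (Cfsg.Agent.Hamiltonian.comm_mem hn (a * y) b)
    have hcm : b * (a * y) * b⁻¹ * (a * y)⁻¹ = a ^ 2 := by
      have hba : b * a * b⁻¹ = a⁻¹ := by
        rw [mul_inv_eq_iff_eq_mul]
        calc b * a = a⁻¹ * (a * b) * a := by group
          _ = a⁻¹ * (b * a⁻¹) * a := by rw [hab]
          _ = a⁻¹ * b := by group
      have hby : b * y * b⁻¹ = y := by rw [hyb, mul_inv_cancel_right]
      calc b * (a * y) * b⁻¹ * (a * y)⁻¹ = (b * a * b⁻¹) * (b * y * b⁻¹) * y⁻¹ * a⁻¹ := by group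
        _ = a⁻¹ * a⁻¹ := by rw [hba, hby, mul_inv_cancel_right]
        _ = a⁻¹ * a⁻¹ * a ^ 4 := by rw [ha4, mul_one]
        _ = a ^ 2 := by group
    obtain ⟨hm, -⟩ := mem_inf.1 hmem
    rw [hcm] at hm
    obtain ⟨k, hk'⟩ := mem_zpowers_iff.1 hm
    have hz : (a * y) ^ (4 : ℤ) = 1 := mod_cast hay4
    rw [zpow_eq_zpow_emod k hz] at hk'
    have hj : k % 4 = 0 ∨ k % 4 = 1 ∨ k % 4 = 2 ∨ k % 4 = 3 := by omega
    rcases hj with h | h | h | h <;> rw [h] at hk'
    · exact ha2 (by rw [← hk', zpow_zero])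
    · rw [zpow_one, pow_two] at hk'
      have : y = a := mul_left_cancel hk'
      exact hnab (by rw [← this]; exact hyb.symm)
    · rw [show (a * y) ^ (2 : ℤ) = (a * y) ^ 2 from mod_cast rfl, Commute.mul_pow hya] at hk'
      exact hy2 (mul_eq_left.1 hk')
    · rw [show (a * y) ^ (3 : ℤ) = (a * y) ^ 3 from mod_cast rfl, Commute.mul_pow hya] at hk'
      have h6 : a * y ^ 3 = 1 := by
        rw [pow_succ a 2, mul_assoc] at hk'
        exact mul_eq_left.1 hk'
      have : y = a := by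
        calc y = a * y ^ 3 * y := by rw [h6, one_mul]
          _ = a * y ^ 4 := by group
          _ = a := by rw [hy4, mul_one]
      exact hnab (by rw [← this]; exact hyb.symm)
  have hQC : Q ⊔ C = ⊤ := by
    refine (eq_top_iff' _).2 fun g => ?_
    obtain ⟨q, hq, hqa⟩ : ∃ q ∈ Q, q * g * a * (q * g)⁻¹ = a := by
      rcases hflip ha4 ha2 g with h | h
      · exact ⟨1, one_mem _, by rw [one_mul]; exact h⟩
      · refine ⟨b, hbQ, ?_⟩
        calc b * g * a * (b * g)⁻¹ = b * (g * a * g⁻¹) * b⁻¹ := by group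
          _ = b * a⁻¹ * b⁻¹ := by rw [h]
          _ = a * b * b⁻¹ := by rw [hab]
          _ = a := by group
    obtain ⟨q', hq', hq'a, hq'b⟩ : ∃ q' ∈ Q, q' * a * q'⁻¹ = a ∧ q' * (q * g * b * (q * g)⁻¹) * q'⁻¹ = b := by
      rcases hflip hb4 hb2' (q * g) with h | h
      · exact ⟨1, one_mem _, by simp, by simpa using h⟩
      · refine ⟨a, haQ, by group, ?_⟩
        rw [h]
        have : b * a⁻¹ * b⁻¹ = a := by rw [← hab, mul_inv_cancel_right]
        calc a * b⁻¹ * a⁻¹ = (b * a⁻¹ * b⁻¹) * b⁻¹ * a⁻¹ := by rw [this]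
          _ = b * a⁻¹ * (b ^ 2)⁻¹ * a⁻¹ := by group
          _ = b * a⁻¹ * (a ^ 2)⁻¹ * a⁻¹ := by rw [hb2]
          _ = b * (a ^ 4)⁻¹ := by group
          _ = b := by rw [ha4, inv_one, mul_one]
    have hc : q' * q * g ∈ C := by
      rw [hC, mem_centralizer_iff]
      rintro x (rfl | rfl)
      · have h7 : q' * q * g * x * (q' * q * g)⁻¹ = x := by
          calc q' * q * g * x * (q' * q * g)⁻¹ = q' * (q * g * x * (q * g)⁻¹) * q'⁻¹ := by group
            _ = x := by rw [hqa, hq'a]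
        exact (mul_inv_eq_iff_eq_mul.1 h7).symm
      · have h7 : q' * q * g * x * (q' * q * g)⁻¹ = x := by
          calc q' * q * g * x * (q' * q * g)⁻¹ = q' * (q * g * x * (q * g)⁻¹) * q'⁻¹ := by group
            _ = x := hq'b
        exact (mul_inv_eq_iff_eq_mul.1 h7).symm
    rw [show g = (q' * q)⁻¹ * (q' * q * g) by group]
    exact mul_mem_sup (inv_mem (mul_mem hq' hq)) hc
  obtain ⟨E, ⟨hEC, hcE⟩, hEmax⟩ := (Set.toFinite {E : Subgroup S | E ≤ C ∧ a ^ 2 ∉ E}).exists_maximal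
    ⟨⊥, bot_le, fun h => ha2 (mem_bot.1 h)⟩
  have hCcomm : ∀ u ∈ C, ∀ v ∈ C, u * v = v * u := fun u hu v hv => by
    have h1 := hCexp _ (mul_mem hu hv)
    have hu' : u⁻¹ = u := inv_eq_of_mul_eq_one_left (by rw [← pow_two]; exact hCexp u hu)
    have hv' : v⁻¹ = v := inv_eq_of_mul_eq_one_left (by rw [← pow_two]; exact hCexp v hv)
    rw [pow_two, mul_eq_one_iff_eq_inv, mul_inv_rev, hu', hv'] at h1
    exact h1
  refine ⟨Q, E, ⟨(MonoidHom.ofInjective hinj).symm⟩, ⟨⟨⟨fun u v => Subtype.ext (hCcomm _ (hEC u.2) _ (hEC v.2))⟩⟩,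
    fun u hu => hCexp u (hEC hu)⟩, ?_, ?_⟩
  · refine (eq_bot_iff_forall _).2 fun x hx => ?_
    obtain ⟨⟨t, rfl⟩, hxE⟩ := mem_inf.1 hx
    have hxC := mem_centralizer_iff.1 (hEC hxE)
    have h1 : t * .a 1 = .a 1 * t := hinj (by rw [map_mul, map_mul, fa]; exact (hxC a (Set.mem_insert _ _)).symm)
    have h2' : t * .xa 0 = .xa 0 * t := hinj (by rw [map_mul, map_mul, fb]; exact (hxC b (Set.mem_insert_of_mem _ rfl)).symm)
    rcases q8_central t h1 h2' with rfl | rfl
    · exact map_one f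
    · exact absurd hxE hcE
  · refine top_le_iff.1 (hQC.ge.trans (sup_le le_sup_left fun x hx => ?_))
    by_cases hxE : x ∈ E
    · exact mem_sup_right hxE
    have hsup : E ⊔ zpowers x ≤ C := sup_le hEC (zpowers_le.2 hx)
    have hmem : a ^ 2 ∈ E ⊔ zpowers x := by
      by_contra h
      exact hxE (hEmax ⟨hsup, h⟩ le_sup_left (mem_sup_right (mem_zpowers x)))
    haveI := hn E
    obtain ⟨e, he, w, hw, hew⟩ := mem_sup_of_normal_left.1 hmem
    obtain ⟨k, rfl⟩ := mem_zpowers_iff.1 hw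
    rcases Int.even_or_odd' k with ⟨m, rfl | rfl⟩
    · rw [zpow_mul, show x ^ (2 : ℤ) = 1 from mod_cast hCexp x hx, one_zpow, mul_one] at hew
      exact absurd (hew ▸ he) hcE
    · rw [zpow_add_one, zpow_mul, show x ^ (2 : ℤ) = 1 from mod_cast hCexp x hx, one_zpow, one_mul] at hew
      rw [show x = e⁻¹ * a ^ 2 by rw [← hew, inv_mul_cancel_left]]
      exact mul_mem (mem_sup_right (inv_mem he)) (mem_sup_left (pow_mem haQ 2))

/-- A finite non-abelian group in which every subgroup is normal is the internal direct product of a subgroup isomorphic to the quaternion group of order `8`, an elementary abelian `2`-subgroup and an abelian subgroup of odd order. -/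
theorem result {G : Type*} [Group G] [Finite G] (hna : ¬ IsMulCommutative G) (hn : ∀ H : Subgroup G, H.Normal) : ∃ Q E A : Subgroup G, Nonempty (Q ≃* QuaternionGroup 2) ∧ Cfsg.IsElementaryAbelian 2 E ∧ IsMulCommutative A ∧ Odd (Nat.card A) ∧ E ⊓ A = ⊥ ∧ Q ⊓ (E ⊔ A) = ⊥ ∧ Q ⊔ (E ⊔ A) = ⊤ := by
  obtain ⟨S⟩ := (inferInstance : Nonempty (Sylow 2 G))
  haveI := hn (S : Subgroup G)
  obtain ⟨A, hA⟩ := Subgroup.exists_right_complement'_of_coprime
    (N := (S : Subgroup G)) (Sylow.card_coprime_index S)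
  have hdis : Disjoint (S : Subgroup G) A := hA.disjoint
  have hsup : (S : Subgroup G) ⊔ A = ⊤ := hA.sup_eq_top
  have hAodd : Odd (Nat.card A) := by
    rw [Nat.not_even_iff_odd.symm, even_iff_two_dvd, ← hA.symm.index_eq_card]
    exact S.not_dvd_index
  have hAc := Cfsg.Agent.Hamiltonian.comm_of_odd_card hAodd (Cfsg.Agent.Hamiltonian.normal_subtype hn A)
  have hSA := Subgroup.commute_of_normal_of_disjoint (S : Subgroup G) A (hn _) (hn _) hdis
  obtain ⟨a, b, hab⟩ : ∃ a b : (S : Subgroup G), a * b ≠ b * a := by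
    by_contra h
    push Not at h
    refine hna ⟨⟨fun x y => ?_⟩⟩
    obtain ⟨s, hs, u, hu, rfl⟩ := Subgroup.mem_sup_of_normal_left.1 (hsup ▸ Subgroup.mem_top x)
    obtain ⟨t, ht, v, hv, rfl⟩ := Subgroup.mem_sup_of_normal_left.1 (hsup ▸ Subgroup.mem_top y)
    have c1 : Commute s t := congrArg Subtype.val (h ⟨s, hs⟩ ⟨t, ht⟩)
    have c2 : Commute u v := congrArg Subtype.val (hAc ⟨u, hu⟩ ⟨v, hv⟩)
    exact ((c1.mul_right (hSA s v hs hv)).mul_left ((hSA t u ht hu).symm.mul_right c2)).eq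
  haveI : Finite (S : Subgroup G) := inferInstance
  obtain ⟨-, a, b, hab, hb2, ha4, ha2⟩ := Cfsg.Agent.Hamiltonian.exists_pair S.2
    (Cfsg.Agent.Hamiltonian.normal_subtype hn _) ⟨a, b, hab⟩
  obtain ⟨Q, E, ⟨eQ⟩, ⟨hEc, hE2⟩, hQE, hQEtop⟩ :=
    exists_decomp (Cfsg.Agent.Hamiltonian.normal_subtype hn _) hab hb2 ha4 ha2 S.2
  have hinj := (S : Subgroup G).subtype_injective
  refine ⟨Q.map (S : Subgroup G).subtype, E.map (S : Subgroup G).subtype, A,
    ⟨(Q.equivMapOfInjective _ hinj).symm.trans eQ⟩, ⟨inferInstance, ?_⟩, ⟨⟨hAc⟩⟩, hAodd, ?_, ?_, ?_⟩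
  · rintro _ ⟨u, hu, rfl⟩
    rw [← map_pow, hE2 u hu, map_one]
  · exact le_bot_iff.1 ((inf_le_inf_right A (Subgroup.map_subtype_le E)).trans hdis.le_bot)
  · refine (Subgroup.eq_bot_iff_forall _).2 fun x hx => ?_
    obtain ⟨⟨q, hq, rfl⟩, hx2⟩ := Subgroup.mem_inf.1 hx
    haveI := hn (E.map (S : Subgroup G).subtype)
    obtain ⟨_, ⟨e, he, rfl⟩, u, hu, heu⟩ := Subgroup.mem_sup_of_normal_left.1 hx2
    have hu1 : u = 1 := by
      refine Subgroup.mem_bot.1 (hdis.le_bot (Subgroup.mem_inf.2 ⟨?_, hu⟩))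
      rw [← inv_mul_cancel_left ((S : Subgroup G).subtype e) u, heu]
      exact mul_mem (inv_mem e.2) q.2
    rw [hu1, mul_one] at heu
    have : q ∈ Q ⊓ E := ⟨hq, hinj heu ▸ he⟩
    rw [hQE, Subgroup.mem_bot] at this
    rw [this, map_one]
  · rw [← sup_assoc, ← Subgroup.map_sup, hQEtop, ← MonoidHom.range_eq_map, Subgroup.range_subtype]
    exact hsup

end Cfsg.Agent.S4211
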