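import Cfsg.Statements.S0276
import Cfsg.Agent.Lib.Classical.ProjLine
import Cfsg.Agent.Lib.Recog.SL2Orders
import Mathlib.GroupTheory.SpecificGroups.KleinFour
import Mathlib.GroupTheory.Perm.Cycle.Type

set_option autoImplicit false
open Cfsg

namespace Cfsg.Agent.S0276

/-- For q = 3 or 5 mod 8 the Sylow 2-subgroups of PSL_2(q) are elementary abelian of order 4. -/
theorem result {F : Type*} [Field F] [Fintype F] {q : ℕ} (hF : Fintype.card F = q) (hq : q % 8 = 3 ∨ q % 8 = 5) (P : Sylow 2 (Matrix.ProjectiveSpecialLinearGroup (Fin 2) F)) : IsKleinFour (P : Subgroup (Matrix.ProjectiveSpecialLinearGroup (Fin 2) F)) := by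
  classical
  obtain ⟨p, hcp⟩ := CharP.exists F
  obtain ⟨n, hp, hcard⟩ := FiniteField.card F p
  haveI := Fact.mk hp
  have hN : Nat.card F = q := by rw [Nat.card_eq_fintype_card, hF]
  haveI : Fact (Nat.Prime 2) := ⟨Nat.prime_two⟩
  have hp2 : ¬ 2 ∣ p := fun h => by
    rw [hF] at hcard
    have : 2 ∣ q := hcard ▸ h.trans (dvd_pow_self p n.ne_zero)
    omega
  have hexp : ∀ x : Matrix.ProjectiveSpecialLinearGroup (Fin 2) F, orderOf x ∣ 4 → x ^ 2 = 1 := by
    intro x hx
    rw [← orderOf_dvd_iff_pow_eq_one]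
    have hm : ∀ m : ℕ, x ^ m = 1 → ¬ 4 ∣ m → orderOf x ∣ 2 := by
      intro m hm hm4
      have hle := Nat.le_of_dvd (by norm_num) hx
      have hd := orderOf_dvd_of_pow_eq_one hm
      rcases (Nat.dvd_prime_pow Nat.prime_two).1 (show orderOf x ∣ 2 ^ 2 from hx) with ⟨k, hk, e⟩
      rw [e] at hd ⊢
      interval_cases k
      · simp
      · simp
      · exact absurd hd hm4
    rcases SL2Orders.psl_cases p x with h | h | h
    · exact hm _ h fun h4 => hp2 ((by norm_num : 2 ∣ 4).trans h4)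
    · refine hm _ h fun h4 => ?_
      have hg : (q - 1).gcd 2 = 2 := Nat.gcd_eq_right (by omega)
      rw [SL2Orders.halfPred, hF, hg] at h4
      omega
    · refine hm _ h fun h4 => ?_
      have hg : (q + 1).gcd 2 = 2 := Nat.gcd_eq_right (by omega)
      rw [SL2Orders.halfSucc, hF, hg] at h4
      omega
  haveI : Finite (Matrix.ProjectiveSpecialLinearGroup (Fin 2) F) := inferInstance
  have hcardP : Nat.card (P : Subgroup (Matrix.ProjectiveSpecialLinearGroup (Fin 2) F)) = 4 := by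
    have h := ProjLine.two_mul_card_psl (F := F)
    rw [hN] at h
    obtain ⟨k, hk⟩ : ∃ k, q = 8 * k + 3 ∨ q = 8 * k + 5 := ⟨q / 8, by omega⟩
    have key : ∃ m : ℕ, ¬ 2 ∣ m ∧ Nat.card (Matrix.ProjectiveSpecialLinearGroup (Fin 2) F) = 4 * m := by
      rcases hk with hk | hk
      · refine ⟨(8 * k + 3) * (4 * k + 1) * (2 * k + 1), ?_, ?_⟩
        · simp [Nat.prime_two.dvd_mul] <;> omega
        · rw [hk, show (8 * k + 3 - 1) = 2 * (4 * k + 1) by omega] at h
          rw [show Nat.gcd 2 (2 * (4 * k + 1)) = 2 from Nat.gcd_eq_left (dvd_mul_right 2 _)] at h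
          refine Nat.eq_of_mul_eq_mul_left (show 0 < 2 * (2 * (4 * k + 1)) by omega) ?_
          refine Eq.trans ?_ (h.trans ?_) <;> ring
      · refine ⟨(8 * k + 5) * (2 * k + 1) * (4 * k + 3), ?_, ?_⟩
        · simp [Nat.prime_two.dvd_mul] <;> omega
        · rw [hk, show (8 * k + 5 - 1) = 2 * (4 * k + 2) by omega] at h
          rw [show Nat.gcd 2 (2 * (4 * k + 2)) = 2 from Nat.gcd_eq_left (dvd_mul_right 2 _)] at h
          refine Nat.eq_of_mul_eq_mul_left (show 0 < 2 * (2 * (4 * k + 2)) by omega) ?_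
          refine Eq.trans ?_ (h.trans ?_) <;> ring
    obtain ⟨m, hm, hGm⟩ := key
    have hm0 : m ≠ 0 := by rintro rfl; exact hm (dvd_zero 2)
    rw [Sylow.card_eq_multiplicity, hGm, Nat.factorization_mul (by norm_num) hm0,
      show (4 : ℕ) = 2 ^ 2 by norm_num, Nat.prime_two.factorization_pow]
    simp [Nat.factorization_eq_zero_of_not_dvd hm]
  refine ⟨hcardP, Nat.dvd_antisymm (Monoid.exponent_dvd_of_forall_pow_eq_one fun x => ?_) ?_⟩
  · apply Subtype.ext
    rw [Subgroup.coe_pow, OneMemClass.coe_one]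
    exact hexp _ (by rw [Subgroup.orderOf_coe, ← hcardP]; exact orderOf_dvd_natCard x)
  · haveI : Nontrivial (P : Subgroup (Matrix.ProjectiveSpecialLinearGroup (Fin 2) F)) :=
      Finite.one_lt_card_iff_nontrivial.1 (by omega)
    obtain ⟨x, hx⟩ := exists_prime_orderOf_dvd_card' 2 (by rw [hcardP]; norm_num :
      2 ∣ Nat.card (P : Subgroup (Matrix.ProjectiveSpecialLinearGroup (Fin 2) F)))
    have h2 := Monoid.order_dvd_exponent x
    rwa [hx] at h2

end Cfsg.Agent.S0276
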