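import Cfsg.Statements.S5179
import Cfsg.Agent.Lib.Fusion.Alperin
import Cfsg.Agent.Lib.FGBasics.Extraspecial
import Cfsg.Agent.Lib.LocalEven.StrongEmb2

set_option autoImplicit false
universe u
open Cfsg

namespace Cfsg.Agent.S5179

open Cfsg.Agent Cfsg.Agent.FusionSys Cfsg.FusionSystem
open scoped commutatorElement

variable {G : Type*} [Group G] [Finite G] {p : ℕ} [hp : Fact p.Prime]

theorem spe_mem {M : Subgroup G} (hM : Cfsg.IsStronglyPEmbedded p M) {x g : G} (hx : x ∈ M)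
    (hgx : g * x * g⁻¹ ∈ M) (hx1 : x ≠ 1) (hxp : x ^ p = 1) : g ∈ M := by
  by_contra hg
  refine ((LEStrongEmb.iff_inter M).1 hM).2.2 g hg ?_
  have ho : orderOf (g * x * g⁻¹) = p :=
    orderOf_eq_prime (by simp [conj_pow, hxp]) (by simpa using hx1)
  have hle : Subgroup.zpowers (g * x * g⁻¹) ≤ M ⊓ M.map (MulAut.conj g).toMonoidHom :=
    le_inf (Subgroup.zpowers_le.2 hgx) (Subgroup.zpowers_le.2 ⟨x, hx, rfl⟩)
  rw [← ho, ← Nat.card_zpowers]
  exact Subgroup.card_dvd_of_le hle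

variable {E : Type*} [Group E] [Finite E]

/-- The automorphisms in `A` centralizing `Z` and moving every element inside its coset. -/
def stab (A : Subgroup (MulAut E)) (Z : Subgroup E) : Subgroup A where
  carrier := {α | (∀ x, (α : MulAut E) x * x⁻¹ ∈ Z) ∧ ∀ z ∈ Z, (α : MulAut E) z = z}
  one_mem' := ⟨fun x => by simp, fun z _ => rfl⟩
  mul_mem' := by
    intro a b ha hb
    refine ⟨fun x => ?_, fun z hz => ?_⟩
    · have h := mul_mem (ha.1 ((b : MulAut E) x)) (hb.1 x)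
      simpa [mul_assoc] using h
    · show (a : MulAut E) ((b : MulAut E) z) = z
      rw [hb.2 z hz, ha.2 z hz]
  inv_mem' := by
    intro a ha
    refine ⟨fun x => ?_, fun z hz => ?_⟩
    · have h := inv_mem (ha.1 (((a : MulAut E))⁻¹ x))
      simpa using h
    · show ((a : MulAut E))⁻¹ z = z
      conv_lhs => rw [← ha.2 z hz]
      exact MulAut.inv_apply_self E _ _

omit [Finite E] in
theorem stab_pow {A : Subgroup (MulAut E)} {Z : Subgroup E} (hZ : ∀ z ∈ Z, z ^ p = 1) {a : A}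
    (ha : a ∈ stab A Z) : a ^ p = 1 := by
  have key : ∀ (i : ℕ) (x : E), ((a : MulAut E) ^ i) x = ((a : MulAut E) x * x⁻¹) ^ i * x := by
    intro i
    induction i with
    | zero => simp
    | succ i ih =>
      intro x
      rw [pow_succ', MulAut.mul_apply, ih, map_mul, map_pow, ha.2 _ (ha.1 x)]
      simp [pow_succ, mul_assoc]
  refine Subtype.ext (MulEquiv.ext fun x => ?_)
  show ((a : MulAut E) ^ p) x = x
  rw [key, hZ _ (ha.1 x), one_mul]

theorem no_stab {A : Subgroup (MulAut E)} {N : Subgroup A} [N.Normal] {M : Subgroup (A ⧸ N)}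
    (hM : Cfsg.IsStronglyPEmbedded p M) {Z : Subgroup E} (hZ : ∀ z ∈ Z, z ^ p = 1)
    (h1 : ∃ a ∈ stab A Z, a ∉ N)
    (h2 : ∀ α : A, (¬ ∀ z, (α : MulAut E) z ∈ Z ↔ z ∈ Z) →
      ∃ a ∈ stab A Z, ∃ a' ∈ stab A Z, a ∉ N ∧ a' ∉ N ∧ (α * a' * α⁻¹) * a = a * (α * a' * α⁻¹)) :
    False := by
  have hT : IsPGroup p ↥((stab A Z).map (QuotientGroup.mk' N)) :=
    IsPGroup.map (fun a => ⟨1, Subtype.ext (by rw [pow_one]; exact stab_pow hZ a.2)⟩) _
  obtain ⟨R, hR⟩ := hT.exists_le_sylow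
  obtain ⟨T⟩ : Nonempty (Sylow p M) := inferInstance
  obtain ⟨T', hT'⟩ := LEStrongEmb.sylow_isSylow hM T
  obtain ⟨b, hb⟩ := LESylow.exists_conj_eq T' R
  let M' := M.map (MulAut.conj b).toMonoidHom
  have hM' : Cfsg.IsStronglyPEmbedded p M' := stronglyEmbedded_map_conj hM b
  have hRM : (R : Subgroup (A ⧸ N)) ≤ M' := by
    rw [← hb]
    exact Subgroup.map_mono (hT'.le.trans (Subgroup.map_subtype_le _))
  have hmem : ∀ a ∈ stab A Z, QuotientGroup.mk' N a ∈ M' := fun a ha => hRM (hR ⟨a, ha, rfl⟩)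
  have hne : ∀ a : A, a ∉ N → QuotientGroup.mk' N a ≠ 1 := fun a ha h =>
    ha ((QuotientGroup.eq_one_iff a).1 h)
  have hpow : ∀ a ∈ stab A Z, (QuotientGroup.mk' N a) ^ p = 1 := fun a ha => by
    rw [← map_pow, stab_pow hZ ha, map_one]
  refine ((LEStrongEmb.iff_normalizers M').1 hM').1 (eq_top_iff.2 fun y _ => ?_)
  obtain ⟨α, rfl⟩ := QuotientGroup.mk'_surjective N y
  by_cases hfix : ∀ z, (α : MulAut E) z ∈ Z ↔ z ∈ Z
  · obtain ⟨a, ha, haN⟩ := h1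
    refine spe_mem hM' (hmem a ha) ?_ (hne a haN) (hpow a ha)
    rw [← map_inv, ← map_mul, ← map_mul]
    refine hmem _ ⟨fun x => ?_, fun z hz => ?_⟩
    · have h := (hfix _).2 (ha.1 (((α : MulAut E))⁻¹ x))
      simpa [map_mul] using h
    · show (α : MulAut E) ((a : MulAut E) ((α : MulAut E)⁻¹ z)) = z
      rw [ha.2 _ ((hfix _).1 (by rw [MulAut.apply_inv_self]; exact hz)), MulAut.apply_inv_self]
  · obtain ⟨a, ha, a', ha', haN, ha'N, hcomm⟩ := h2 α hfix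
    have hb : QuotientGroup.mk' N (α * a' * α⁻¹) ∈ M' := by
      refine spe_mem hM' (hmem a ha) ?_ (hne a haN) (hpow a ha)
      rw [← map_inv, ← map_mul, ← map_mul, hcomm, mul_inv_cancel_right]
      exact hmem a ha
    refine spe_mem hM' (hmem a' ha') ?_ (hne a' ha'N) (hpow a' ha')
    rw [map_mul, map_mul, map_inv] at hb
    exact hb

/-- Let p be an odd prime, S a finite p-group of order at least p⁶ containing an extraspecial subgroup Q of index p, and F a saturated fusion system over S whose largest subgroup normal in F is trivial. Then no proper subgroup of Q is essential in F: an essential subgroup of F contained in Q equals Q. -/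
theorem result {Ω : Type u} [Group Ω] {S : Subgroup Ω} [Finite S] (p : ℕ) [Fact p.Prime] (hp : Odd p) (hS : IsPGroup p S)
    (Q : Subgroup Ω) (hQS : Q ≤ S) (hQ : Cfsg.IsExtraspecial p ↥Q) (hQi : (Q.subgroupOf S).index = p)
    (h6 : p ^ 6 ≤ Nat.card S)
    (F : Cfsg.FusionSystem S) (hF : F.IsSaturated p) (hO : F.core = ⊥)
    (E : Subgroup Ω) (hEQ : E ≤ Q) (hE : F.IsEssential p E) : E = Q := by
  have hES : E ≤ S := hEQ.trans hQS
  haveI := finite_of_le hES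
  haveI := finite_of_le hQS
  obtain ⟨hcen, hn, hN, M, hM⟩ := id hE
  have hC := centralizerIn_le_of_centric hcen
  obtain ⟨hcomm, -, -⟩ := PGroupBasics.special_center hQ.1
  by_contra hne
  -- the centre of `Q`
  have hZE : ∀ z : ↥Q, z ∈ Subgroup.center ↥Q → (z : Ω) ∈ E := fun z hz => hC ⟨hQS z.2,
    Subgroup.mem_centralizer_iff.2 fun x hx =>
      congrArg Subtype.val (Subgroup.mem_center_iff.1 hz ⟨x, hEQ hx⟩)⟩
  let Z : Subgroup ↥E := ((Subgroup.center ↥Q).map Q.subtype).subgroupOf E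
  have hZmem : ∀ x : ↥E, x ∈ Z ↔ (⟨x, hEQ x.2⟩ : ↥Q) ∈ Subgroup.center ↥Q := fun x =>
    ⟨fun h => by obtain ⟨z, hz, hzx⟩ := h; rwa [show (⟨x, hEQ x.2⟩ : ↥Q) = z from Subtype.ext hzx.symm],
      fun h => ⟨_, h, rfl⟩⟩
  have hZc : Nat.card Z = p := by
    rw [Nat.card_congr (Subgroup.subgroupOfEquivOfLe (by
      rintro _ ⟨z, hz, rfl⟩; exact hZE z hz)).toEquiv,
      Subgroup.card_map_of_injective Q.subtype_injective, hQ.2]
  have hZp : ∀ z ∈ Z, z ^ p = 1 := fun z hz =>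
    congrArg Subtype.val (show (⟨z, hz⟩ : ↥Z) ^ p = 1 by rw [← hZc]; exact pow_card_eq_one')
  have hcommE : ∀ q ∈ Q, ∀ (x : Ω) (hx : x ∈ E), ∃ h : q * x * q⁻¹ ∈ E, (⟨_, h⟩ : ↥E) * (⟨x, hx⟩ : ↥E)⁻¹ ∈ Z := by
    intro q hq x hx
    have hc : ⁅q, x⁆ ∈ E := hZE _ (hcomm ⟨q, hq⟩ ⟨x, hEQ hx⟩)
    have h : q * x * q⁻¹ ∈ E := by
      have h' := mul_mem hc hx
      rwa [commutatorElement_def, inv_mul_cancel_right] at h'
    exact ⟨h, ⁅(⟨q, hq⟩ : ↥Q), ⟨x, hEQ hx⟩⁆, hcomm _ _, rfl⟩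
  have hconjq : ∀ q ∈ Q, q ∉ E → ∃ a : F.autGroup E, a ∈ stab (F.autGroup E) Z ∧
      a ∉ (Cfsg.Inn E).subgroupOf (F.autGroup E) ∧
        ∀ x : ↥E, (((a : MulAut ↥E) x : ↥E) : Ω) = q * (x : Ω) * q⁻¹ := by
    intro q hq hqE
    have hqN : q ∈ Subgroup.normalizer (E : Set Ω) := by
      rw [Subgroup.mem_normalizer_iff]
      intro x
      refine ⟨fun hx => (hcommE q hq x hx).1, fun hx => ?_⟩
      have h := (hcommE q⁻¹ (inv_mem hq) _ hx).1
      simpa [mul_assoc] using h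
    obtain ⟨a, ha, hae⟩ := exists_conjAut (K := S) (P := E) (hQS hq) hqN
    refine ⟨⟨a, autInducedBy_le_autGroup F hES ha⟩, ⟨fun x => ?_, fun z hz => ?_⟩, ?_, hae⟩
    · obtain ⟨h, hm⟩ := hcommE q hq x x.2
      rwa [show a x = ⟨_, h⟩ from Subtype.ext (hae x)]
    · refine Subtype.ext ((hae z).trans ?_)
      have h : q * (z : Ω) = z * q :=
        congrArg Subtype.val (Subgroup.mem_center_iff.1 ((hZmem z).1 hz) ⟨q, hq⟩)
      rw [h, mul_inv_cancel_right]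
    · exact fun h => hqE (mem_of_conj_mem_inn (F := F) hC (hQS hq) hES hae (Subgroup.mem_subgroupOf.1 h))
  haveI := hN
  refine no_stab hM hZp ?_ fun α hα => ?_
  · obtain ⟨q, hq, hqE⟩ := SetLike.exists_of_lt (lt_of_le_of_ne hEQ hne)
    obtain ⟨a, ha, haN, -⟩ := hconjq q hq hqE
    exact ⟨a, ha, haN⟩
  -- `E` is abelian
  have hgen : ∀ z ∈ Z, z ≠ 1 → Subgroup.zpowers z = Z := fun z hz hz1 =>
    Subgroup.eq_of_le_of_card_ge (Subgroup.zpowers_le.2 hz) (by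
      rw [hZc, Nat.card_zpowers, orderOf_eq_prime (hZp z hz) hz1])
  have hmove : ∀ z ∈ Z, z ≠ 1 → (α : MulAut ↥E) z ∉ Z := by
    intro z hz hz1 hαz
    apply hα
    intro w
    have hmap : Z.map (α : MulAut ↥E).toMonoidHom = Z := by
      rw [← hgen z hz hz1, MonoidHom.map_zpowers]
      exact hgen _ hαz (fun h => hz1 ((α : MulAut ↥E).map_eq_one_iff.1 h))
        |>.trans (hgen z hz hz1).symm
    constructor
    · intro h
      rw [← hmap] at h
      obtain ⟨u, hu, hue⟩ := h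
      rwa [← (α : MulAut ↥E).injective hue]
    · exact fun h => hmap ▸ ⟨w, h, rfl⟩
  have hab : ∀ x y : ↥E, x * y = y * x := by
    intro x y
    have hin : ∀ x y : ↥E, ⁅x, y⁆ ∈ Z := fun x y =>
      ⟨⁅(⟨x, hEQ x.2⟩ : ↥Q), ⟨y, hEQ y.2⟩⁆, hcomm _ _, rfl⟩
    by_contra hxy
    refine hmove _ (hin x y) (fun h => hxy (commutatorElement_eq_one_iff_mul_comm.1 h)) ?_
    rw [map_commutatorElement]
    exact hin _ _
  haveI : Nontrivial ↥Z := Finite.one_lt_card_iff_nontrivial.1 (hZc ▸ (Fact.out : p.Prime).one_lt)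
  obtain ⟨⟨z₀, hz₀⟩, hz₀1⟩ := exists_ne (1 : ↥Z)
  have hz₀1 : z₀ ≠ 1 := fun h => hz₀1 (Subtype.ext h)
  have hq5 : p ^ 5 ≤ Nat.card ↥Q := by
    have h := Subgroup.card_mul_index (Q.subgroupOf S)
    rw [hQi, Nat.card_congr (Subgroup.subgroupOfEquivOfLe hQS).toEquiv] at h
    rw [← h, pow_succ] at h6
    exact Nat.le_of_mul_le_mul_right h6 (Fact.out : p.Prime).pos
  have hEsq : Nat.card ↥E * Nat.card ↥E ≤ Nat.card ↥Q * p := by
    have h := FGBasics.XS.card_abelian_sq_le hQ (E.subgroupOf Q) ⟨⟨fun a b => Subtype.ext (Subtype.ext (by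
      exact congrArg (fun e : ↥E => (e : Ω)) (hab ⟨((a : ↥Q) : Ω), a.2⟩ ⟨((b : ↥Q) : Ω), b.2⟩)))⟩⟩
    rwa [Nat.card_congr (Subgroup.subgroupOfEquivOfLe hEQ).toEquiv] at h
  have hfix : ∀ y : ↥E, ∃ q ∈ Q, q ∉ E ∧ q * (y : Ω) = y * q := by
    intro y
    by_contra hc
    push Not at hc
    have hle : Subgroup.centralizer {(⟨y, hEQ y.2⟩ : ↥Q)} ≤ E.subgroupOf Q := fun q hq => by
      by_contra hqE
      exact hc q q.2 hqE (congrArg Subtype.val (Subgroup.mem_centralizer_singleton_iff.1 hq))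
    have h1 := (Nat.le_of_dvd (Nat.pos_of_ne_zero Subgroup.index_ne_zero_of_finite)
      (Subgroup.index_dvd_of_le hle)).trans (FGBasics.XS.centralizer_index_le hQ _)
    have h2 := Subgroup.card_mul_index (E.subgroupOf Q)
    rw [Nat.card_congr (Subgroup.subgroupOfEquivOfLe hEQ).toEquiv] at h2
    have h3 : Nat.card ↥Q ≤ Nat.card ↥E * p := h2 ▸ Nat.mul_le_mul_left _ h1
    have h4 : Nat.card ↥Q * Nat.card ↥Q ≤ Nat.card ↥Q * p ^ 3 := calc
      _ ≤ (Nat.card ↥E * p) * (Nat.card ↥E * p) := Nat.mul_le_mul h3 h3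
      _ = (Nat.card ↥E * Nat.card ↥E) * (p * p) := by ring
      _ ≤ (Nat.card ↥Q * p) * (p * p) := Nat.mul_le_mul_right _ hEsq
      _ = _ := by ring
    have h5 := hq5.trans (Nat.le_of_mul_le_mul_left h4 Nat.card_pos)
    exact absurd h5 (not_le.2 (Nat.pow_lt_pow_right (Fact.out : p.Prime).one_lt (by omega)))
  let y := (α : MulAut ↥E) z₀
  let w := (α : MulAut ↥E)⁻¹ z₀
  obtain ⟨q, hq, hqE, hqy⟩ := hfix y
  obtain ⟨q', hq', hq'E, hq'w⟩ := hfix w
  obtain ⟨a, ha, haN, hae⟩ := hconjq q hq hqE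
  obtain ⟨a', ha', ha'N, ha'e⟩ := hconjq q' hq' hq'E
  refine ⟨a, ha, a', ha', haN, ha'N, Subtype.ext (MulEquiv.ext fun x => ?_)⟩
  have hay : (a : MulAut ↥E) y = y := Subtype.ext (by rw [hae, hqy, mul_inv_cancel_right])
  have haw : (a' : MulAut ↥E) w = w := Subtype.ext (by rw [ha'e, hq'w, mul_inv_cancel_right])
  let b : MulAut ↥E := (α : MulAut ↥E) * (a' : MulAut ↥E) * (α : MulAut ↥E)⁻¹
  have hbz : ∀ z ∈ Z, b z = z := by
    intro z hz
    rw [← hgen z₀ hz₀ hz₀1] at hz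
    obtain ⟨k, rfl⟩ := Subgroup.mem_zpowers_iff.1 hz
    rw [map_zpow]
    congr 1
    show (α : MulAut ↥E) ((a' : MulAut ↥E) w) = z₀
    rw [haw, MulAut.apply_inv_self]
  have hav : ∀ v ∈ Subgroup.zpowers y, (a : MulAut ↥E) v = v := by
    intro v hv
    obtain ⟨k, rfl⟩ := Subgroup.mem_zpowers_iff.1 hv
    rw [map_zpow, hay]
  obtain ⟨v, hv, hbx⟩ : ∃ v ∈ Subgroup.zpowers y, b x = v * x := by
    have h := ha'.1 ((α : MulAut ↥E)⁻¹ x)
    rw [← hgen z₀ hz₀ hz₀1] at h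
    obtain ⟨k, hk⟩ := Subgroup.mem_zpowers_iff.1 h
    refine ⟨y ^ k, Subgroup.zpow_mem_zpowers y k, ?_⟩
    show (α : MulAut ↥E) ((a' : MulAut ↥E) ((α : MulAut ↥E)⁻¹ x)) = y ^ k * x
    rw [show ((a' : MulAut ↥E) ((α : MulAut ↥E)⁻¹ x)) = z₀ ^ k * (α : MulAut ↥E)⁻¹ x from
        mul_inv_eq_iff_eq_mul.1 hk.symm, map_mul, map_zpow, MulAut.apply_inv_self]
  show b ((a : MulAut ↥E) x) = (a : MulAut ↥E) (b x)
  have hax : (a : MulAut ↥E) x = ((a : MulAut ↥E) x * x⁻¹) * x := by rw [inv_mul_cancel_right]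
  rw [hbx, map_mul, hav v hv, hax, map_mul, hbz _ (ha.1 x), hbx, ← mul_assoc, ← mul_assoc,
    hab v]

end Cfsg.Agent.S5179
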