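import Cfsg.Statements.S5186
import Cfsg.Agent.Lib.Fusion.SmallCentreOdd
import Cfsg.Agent.Lib.Fusion.SmallElements
import Cfsg.Agent.Lib.Fusion.Alperin
import Cfsg.Agent.Lib.Extraspecial.ExpSq
import Cfsg.Agent.Lib.LinearBlock.MonThree
import Cfsg.Agent.Lib.Fusion.EssentialSmall
open Cfsg.FusionSystem Cfsg.Agent.FusionSys
open scoped commutatorElement

set_option autoImplicit false
universe u
open Cfsg

namespace Cfsg.Agent.S5186

/-- The groups of order `p³` whose automorphism group has no normal Sylow subgroup. -/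
theorem classify {p : ℕ} [Fact p.Prime] {H : Type*} [Group H] [Finite H] (hcard : Nat.card H = p ^ 3)
    (hno : ¬ IsPGroup p (commutator (MulAut H))) :
    ((∀ a b : H, a * b = b * a) ∧ ∀ x : H, x ^ p = 1) ∨
    (Odd p ∧ Cfsg.IsExtraspecial p H ∧ ∀ x : H, x ^ p = 1) ∨
    (p = 2 ∧ Nonempty (H ≃* QuaternionGroup 2)) := by
  classical
  have hp : p.Prime := Fact.out
  have hH : IsPGroup p H := IsPGroup.of_card hcard
  -- no characteristic subgroups of orders `p` and `p²` one inside the other
  have hchain : ∀ A B : Subgroup H, A.Characteristic → B.Characteristic → A ≤ B → Nat.card A = p →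
      Nat.card B = p ^ 2 → False := fun A B hA hB hle h1 h2 =>
    hno (isPGroup_commutator_of_pair hH hcard A B hA hB hle h1 h2)
  by_cases hab : ∀ a b : H, a * b = b * a
  · refine Or.inl ⟨hab, ?_⟩
    by_contra hexp
    push Not at hexp
    obtain ⟨x₀, hx₀⟩ := hexp
    let φ : H →* H :=
      { toFun := fun x => x ^ p
        map_one' := one_pow p
        map_mul' := fun a b => Commute.mul_pow (hab a b) p }
    have hR : φ.range.Characteristic := Subgroup.characteristic_iff_le_comap.2 fun α x hx => by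
      obtain ⟨y, rfl⟩ := hx
      exact ⟨α y, (map_pow α y p).symm⟩
    have hK : φ.ker.Characteristic := Subgroup.characteristic_iff_le_comap.2 fun α x hx => by
      show (α x) ^ p = 1
      rw [← map_pow, show x ^ p = 1 from hx, map_one]
    have hmul : Nat.card φ.ker * Nat.card φ.range = p ^ 3 := by
      rw [← hcard, ← Subgroup.index_ker, Subgroup.card_mul_index]
    obtain ⟨k, hk3, hk⟩ := (Nat.dvd_prime_pow hp).1 (hcard ▸ φ.ker.card_subgroup_dvd_card)
    have hk0 : k ≠ 0 := by
      rintro rfl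
      obtain ⟨g, hg⟩ := exists_prime_orderOf_dvd_card' (G := H) p (hcard ▸ dvd_pow_self p (by norm_num))
      have hg' : g ∈ φ.ker := show g ^ p = 1 from hg ▸ pow_orderOf_eq_one g
      rw [Subgroup.eq_bot_of_card_eq _ (hk.trans (pow_zero p)), Subgroup.mem_bot] at hg'
      rw [hg', orderOf_one] at hg
      exact hp.ne_one hg.symm
    have hk' : k ≠ 3 := by
      rintro rfl
      exact hx₀ (show x₀ ∈ φ.ker from (Subgroup.eq_top_of_card_eq _ (hk.trans hcard.symm)).ge trivial)
    have hR' : Nat.card φ.range = p ^ (3 - k) := by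
      refine Nat.eq_of_mul_eq_mul_left (pow_pos hp.pos k) ?_
      rw [← pow_add, show k + (3 - k) = 3 by omega, ← hmul, hk]
    obtain rfl | rfl : k = 1 ∨ k = 2 := by omega
    · rw [pow_one] at hk
      refine hchain _ _ hK hR ?_ hk hR'
      haveI : Fact (Nat.card φ.ker).Prime := ⟨hk ▸ hp⟩
      obtain ⟨r, hr⟩ := exists_prime_orderOf_dvd_card' (G := φ.range) p (hR' ▸ dvd_pow_self p (by norm_num))
      have hrK : (r : H) ∈ φ.ker := show (r : H) ^ p = 1 by
        rw [← hr, ← Subgroup.orderOf_coe]; exact pow_orderOf_eq_one _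
      rcases (φ.range.subgroupOf φ.ker).eq_bot_or_eq_top_of_prime_card with h | h
      · exfalso
        have h1 : (⟨r, hrK⟩ : φ.ker) ∈ φ.range.subgroupOf φ.ker := r.2
        rw [h, Subgroup.mem_bot, Subtype.ext_iff] at h1
        rw [← Subgroup.orderOf_coe, show (r : H) = 1 from h1, orderOf_one] at hr
        exact hp.ne_one hr.symm
      · exact Subgroup.subgroupOf_eq_top.1 h
    · refine hchain _ _ hR hK ?_ (hR'.trans (pow_one p)) hk
      intro y hy
      show y ^ p = 1
      have h1 := pow_card_eq_one' (x := (⟨y, hy⟩ : φ.range))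
      rw [hR', pow_one] at h1
      exact congrArg Subtype.val h1
  -- the non-abelian case
  set Z := Subgroup.center H with hZdef
  have hnc : ¬ IsCyclic (H ⧸ Z) := fun h =>
    hab (commutative_of_cyclic_center_quotient (QuotientGroup.mk' Z) (QuotientGroup.ker_mk' Z).le)
  have hmul : Nat.card (H ⧸ Z) * Nat.card Z = p ^ 3 := hcard ▸ Z.card_eq_card_quotient_mul_card_subgroup.symm
  haveI : Nontrivial H := (IsPGroup.nontrivial_iff_card hH).2 ⟨3, by norm_num, hcard⟩
  haveI := hH.center_nontrivial
  have hZ : Nat.card Z = p := by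
    obtain ⟨k, hk3, hk⟩ := (Nat.dvd_prime_pow hp).1 (hcard ▸ Z.card_subgroup_dvd_card)
    have hk0 : k ≠ 0 := fun h0 => by
      have := Finite.one_lt_card (α := Z)
      rw [hk, h0, pow_zero] at this
      exact lt_irrefl _ this
    have hk1 : k < 2 := by
      by_contra hk2
      refine hnc ?_
      obtain rfl | rfl : k = 2 ∨ k = 3 := by omega
      · refine isCyclic_of_prime_card (p := p) (Nat.eq_of_mul_eq_mul_right (pow_pos hp.pos 2) ?_)
        rw [← pow_succ', ← hk, hmul]
      · haveI : Subsingleton (H ⧸ Z) := Finite.card_le_one_iff_subsingleton.1 (le_of_eq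
          (Nat.eq_of_mul_eq_mul_right (pow_pos hp.pos 3) ((congrArg (Nat.card (H ⧸ Z) * ·) hk.symm).trans (hmul.trans (one_mul _).symm))))
        infer_instance
    rw [hk, show k = 1 by omega, pow_one]
  have hQ : Nat.card (H ⧸ Z) = p ^ 2 := Nat.eq_of_mul_eq_mul_right hp.pos (by rw [← pow_succ, ← hmul, hZ])
  have hcl : ∀ a b : H, ⁅a, b⁆ ∈ Z := fun a b => by
    rw [← QuotientGroup.eq_one_iff]
    refine ((map_commutatorElement (QuotientGroup.mk' Z) a b)).trans (commutatorElement_eq_one_iff_mul_comm.2 ?_)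
    exact IsPGroup.commutative_of_card_eq_prime_sq hQ _ _
  have hpow : ∀ x : H, x ^ p ∈ Z := fun x => by
    rw [← QuotientGroup.eq_one_iff, QuotientGroup.mk_pow]
    by_contra hx
    refine hnc (isCyclic_of_orderOf_eq_card (x : H ⧸ Z) ?_)
    rw [hQ]
    refine orderOf_eq_prime_pow (p := p) (n := 1) (by rwa [pow_one]) ?_
    rw [← hQ]; exact pow_card_eq_one'
  have hZp : ∀ z ∈ Z, z ^ p = 1 := fun z hz => by
    have h1 := pow_card_eq_one' (x := (⟨z, hz⟩ : Z))
    rw [hZ] at h1
    exact congrArg Subtype.val h1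
  have hZchar : Z.Characteristic := Subgroup.centerCharacteristic
  rcases hp.eq_two_or_odd' with rfl | hodd
  · refine Or.inr (Or.inr ⟨rfl, ?_⟩)
    have h4 : ∀ x : H, x ^ 4 = 1 := fun x => by rw [show 4 = 2 * 2 from rfl, pow_mul]; exact hZp _ (hpow x)
    by_contra hq
    have hnu : ¬ ∀ x y : H, x ≠ 1 → y ≠ 1 → x ^ 2 = 1 → y ^ 2 = 1 → x = y := fun h =>
      hq (Cfsg.Agent.LBMon.q8_of_unique (by rw [hcard]; norm_num) h4 h)
    obtain ⟨z, hzne, hZz⟩ : ∃ z : H, z ≠ 1 ∧ ∀ w, w ∈ Z ↔ (w = 1 ∨ w = z) := by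
      obtain ⟨z, w, hzw, huniv⟩ := Nat.card_eq_two_iff.1 hZ
      have hall : ∀ u : Z, u = z ∨ u = w := fun u => by
        have : u ∈ ({z, w} : Set Z) := huniv ▸ Set.mem_univ u
        simpa using this
      rcases eq_or_ne z 1 with rfl | hz
      · refine ⟨w, fun h => hzw (Subtype.ext h.symm), fun u => ⟨fun hu => ?_, ?_⟩⟩
        · exact (hall ⟨u, hu⟩).imp (congrArg Subtype.val) (congrArg Subtype.val)
        · rintro (rfl | rfl)
          exacts [one_mem _, w.2]
      · have hw1 : w = 1 := ((hall 1).resolve_left (Ne.symm hz)).symm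
        refine ⟨z, fun h => hz (Subtype.ext h), fun u => ⟨fun hu => ?_, ?_⟩⟩
        · exact ((hall ⟨u, hu⟩).imp (congrArg Subtype.val) fun h => congrArg Subtype.val (h.trans hw1)).symm
        · rintro (rfl | rfl)
          exacts [one_mem _, z.2]
    -- some involution lies outside the centre
    obtain ⟨t, ht, htZ⟩ : ∃ t : H, t ^ 2 = 1 ∧ t ∉ Z := by
      by_contra! h
      refine hnu fun x y hx hy hx2 hy2 => ?_
      rw [((hZz x).1 (h x hx2)).resolve_left hx, ((hZz y).1 (h y hy2)).resolve_left hy]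
    obtain ⟨a, ha⟩ : ∃ a : H, a ^ 2 ≠ 1 := by
      by_contra! h
      refine hab fun a b => ?_
      have e : ∀ c : H, c⁻¹ = c := fun c => inv_eq_of_mul_eq_one_right (by rw [← sq]; exact h c)
      calc a * b = (a * b)⁻¹ := (e _).symm
        _ = b * a := by rw [mul_inv_rev, e, e]
    have hsq : ∀ x : H, x ^ 2 ≠ 1 → x ^ 2 = z := fun x hx => ((hZz _).1 (hpow x)).resolve_left hx
    have hoa : orderOf a = 2 ^ 2 := orderOf_eq_prime_pow (by simpa using ha) (h4 a)
    set A := Subgroup.zpowers a
    have hA : Nat.card A = 2 ^ 2 := by rw [Nat.card_zpowers, hoa]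
    have hAi : A.index = 2 := by
      have := A.card_mul_index
      rw [hA, hcard] at this
      omega
    have hZA : Z ≤ A := fun w hw => by
      rcases (hZz w).1 hw with rfl | rfl
      exacts [one_mem _, hsq a ha ▸ Subgroup.npow_mem_zpowers a 2]
    have hzc : ∀ u : H, u * z = z * u := Subgroup.mem_center_iff.1 ((hZz z).2 (Or.inr rfl))
    have hz2 : z * z = 1 := by rw [← sq]; exact hZp z ((hZz z).2 (Or.inr rfl))
    have hev : ∀ y ∈ A, y ∈ Z ∨ ∃ c ∈ Z, y = c * a := fun y hy => by
      obtain ⟨i, rfl⟩ := Subgroup.mem_zpowers_iff.1 hy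
      rcases Int.even_or_odd i with ⟨m, rfl⟩ | ⟨m, rfl⟩
      · left; rw [← two_mul, zpow_mul, zpow_ofNat]; exact zpow_mem (hpow a) m
      · right; exact ⟨a ^ (2 * m), by rw [zpow_mul, zpow_ofNat]; exact zpow_mem (hpow a) m, zpow_add_one a _⟩
    have hcsq : ∀ c ∈ Z, ∀ x : H, (c * x) ^ 2 = x ^ 2 := fun c hc x => by
      rw [Commute.mul_pow (show Commute c x from (Subgroup.mem_center_iff.1 hc x).symm), hZp c hc, one_mul]
    -- every element of order four lies in `A`
    have hkey : ∀ x : H, x ^ 2 ≠ 1 → x ∈ A := fun b hb => by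
      by_contra hbA
      have hne : a * b ≠ b * a := fun h => by
        have hall : ∀ g : H, g ∈ A ∨ g * b⁻¹ ∈ A := fun g => by
          by_cases hg : g ∈ A
          · exact Or.inl hg
          · exact Or.inr ((Subgroup.mul_mem_iff_of_index_two hAi).2
              (iff_of_false hg (fun hc => hbA (by simpa using A.inv_mem hc))))
        have hcb : ∀ g : H, g ∈ A → Commute g b := fun g hg => by
          obtain ⟨i, rfl⟩ := Subgroup.mem_zpowers_iff.1 hg
          exact Commute.zpow_left h i
        have hb' : b ∈ Z := Subgroup.mem_center_iff.2 fun g => by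
          rcases hall g with hg | hg
          · exact hcb g hg
          · have := hcb _ hg
            calc g * b = (g * b⁻¹ * b) * b := by group
              _ = b * (g * b⁻¹) * b := by rw [this.eq]
              _ = b * g := by group
        exact hbA (hZA hb')
      have hcz : ⁅b, a⁆ = z := ((hZz _).1 (hcl b a)).resolve_left fun h =>
        hne (commutatorElement_eq_one_iff_mul_comm.1 h).symm
      have hba : b * a = z * (a * b) := by rw [← hcz, commutatorElement_def]; group
      have hab2 : (a * b) ^ 2 = z := by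
        rw [Cfsg.Agent.ExpSq.mul_pow_of_central hba (hzc a).symm (hzc b).symm 2, hsq a ha, hsq b hb]
        simp [hz2]
      by_cases htA : t ∈ A
      · rcases hev t htA with h | ⟨c, hc, rfl⟩
        · exact htZ h
        · exact ha ((hcsq c hc a).symm.trans ht)
      · have h := (Subgroup.mul_mem_iff_of_index_two hAi).2
          (iff_of_false htA (fun hc => hbA (by simpa using A.inv_mem hc)) : t ∈ A ↔ b⁻¹ ∈ A)
        rcases hev _ h with h | ⟨c, hc, hce⟩
        · have := hcsq _ h b
          rw [inv_mul_cancel_right, ht, hsq b hb] at this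
          exact hzne this.symm
        · have := hcsq c hc (a * b)
          rw [← mul_assoc, ← hce, inv_mul_cancel_right, ht, hab2] at this
          exact hzne this.symm
    refine hchain Z A hZchar (Subgroup.characteristic_iff_le_comap.2 fun φ x hx => ?_) hZA hZ hA
    rcases hev x hx with h | ⟨c, hc, rfl⟩
    · exact hZA (Subgroup.characteristic_iff_le_comap.1 hZchar φ h)
    · refine hkey _ ?_
      rw [← map_pow, hcsq c hc a]
      exact fun h => ha (φ.injective (h.trans (map_one φ).symm))
  · refine Or.inr (Or.inl ⟨hodd, isExtraspecial_of_card_cube hH hcard hZ hcl, ?_⟩)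
    by_contra hexp
    push Not at hexp
    obtain ⟨x₀, hx₀⟩ := hexp
    have hp2 : p ≠ 2 := by rintro rfl; exact absurd hodd (by decide)
    let φ : H →* H :=
      { toFun := fun x => x ^ p
        map_one' := one_pow p
        map_mul' := fun a b => by
          have he : b * a = ⁅b, a⁆ * (a * b) := by rw [commutatorElement_def]; group
          have hc : ∀ g, Commute ⁅b, a⁆ g := fun g => (Subgroup.mem_center_iff.1 (hcl b a) g).symm
          rw [Cfsg.Agent.ExpSq.mul_pow_of_central he (hc a) (hc b)]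
          obtain ⟨m, hm⟩ := Cfsg.Agent.ExpSq.dvd_choose_two hp hp2
          rw [hm, pow_mul, hZp _ (hcl b a), one_pow, one_mul] }
    have hrange : φ.range = Z := by
      have hle : φ.range ≤ Z := by rintro _ ⟨y, rfl⟩; exact hpow y
      haveI : Fact (Nat.card Z).Prime := ⟨hZ ▸ hp⟩
      rcases (φ.range.subgroupOf Z).eq_bot_or_eq_top_of_prime_card with h | h
      · refine absurd ?_ hx₀
        have h1 : (⟨x₀ ^ p, hpow x₀⟩ : Z) ∈ φ.range.subgroupOf Z := ⟨x₀, rfl⟩
        rw [h, Subgroup.mem_bot, Subtype.ext_iff] at h1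
        exact h1
      · exact le_antisymm hle (Subgroup.subgroupOf_eq_top.1 h)
    refine hchain Z φ.ker hZchar (Subgroup.characteristic_iff_le_comap.2 fun α x hx => ?_)
      (fun z hz => hZp z hz) hZ ?_
    · show (α x) ^ p = 1
      rw [← map_pow, show x ^ p = 1 from hx, map_one]
    · have h := φ.ker.card_mul_index
      rw [Subgroup.index_ker, hrange, hZ, hcard, pow_succ] at h
      exact Nat.eq_of_mul_eq_mul_right hp.pos h

/-- Let F be a saturated fusion system over a finite p-group S and H an essential subgroup of order p³. Then H is elementary abelian, or p is odd and H is extraspecial of exponent p, or p = 2 and H is the quaternion group of order 8. -/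
theorem result {Ω : Type u} [Group Ω] {S : Subgroup Ω} [Finite S] (p : ℕ) [Fact p.Prime] (hS : IsPGroup p S)
    (F : Cfsg.FusionSystem S) (hF : F.IsSaturated p) (H : Subgroup Ω) (hH : F.IsEssential p H) (hcard : Nat.card H = p ^ 3) :
    Cfsg.IsElementaryAbelian p H ∨ (Odd p ∧ Cfsg.IsExtraspecial p ↥H ∧ ∀ x ∈ H, x ^ p = 1) ∨
      (p = 2 ∧ Nonempty (↥H ≃* QuaternionGroup 2)) := by
  haveI := finite_of_le hH.1.1
  rcases classify hcard (not_isPGroup_commutator_mulAut hS hF hH) with ⟨hc, hx⟩ | ⟨ho, he, hx⟩ | h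
  · exact Or.inl ⟨⟨⟨hc⟩⟩, fun a ha => congrArg Subtype.val (hx ⟨a, ha⟩)⟩
  · exact Or.inr (Or.inl ⟨ho, he, fun a ha => congrArg Subtype.val (hx ⟨a, ha⟩)⟩)
  · exact Or.inr (Or.inr h)

end Cfsg.Agent.S5186
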