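import Cfsg.Statements.S5270
import Cfsg.Agent.Lib.Fusion.Alperin
import Cfsg.Agent.Lib.Fusion.InnerCriterion
import Cfsg.Agent.Lib.PLocal.MaxClass

set_option autoImplicit false
open Cfsg

namespace Cfsg.Agent.S5270

open Cfsg.Agent
open scoped commutatorElement

variable {G : Type*} [Group G] [Finite G] {p : ℕ} [hp : Fact p.Prime] {n : ℕ}

theorem two_le_index_center (hn : Nat.card G = p ^ n) (h3 : 3 ≤ n)
    (hcl : Group.nilpotencyClass G = n - 1) {r : ℕ} (hr : (Subgroup.center G).index = p ^ r) : 2 ≤ r := by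
  by_contra h
  refine MaxClass.commutator_ne_bot hn h3 hcl ?_
  haveI : IsCyclic (G ⧸ Subgroup.center G) := by
    rcases (by omega : r = 0 ∨ r = 1) with rfl | rfl
    · haveI : Subsingleton (G ⧸ Subgroup.center G) := by
        rw [← Finite.card_le_one_iff_subsingleton, ← Subgroup.index_eq_card, hr, pow_zero]
      infer_instance
    · exact isCyclic_of_prime_card (p := p) (by rw [← Subgroup.index_eq_card, hr, pow_one])
  rw [commutator_def, Subgroup.commutator_eq_bot_iff_le_centralizer]
  exact fun x _ => Subgroup.mem_centralizer_iff.2 fun y _ =>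
    commutative_of_cyclic_center_quotient (QuotientGroup.mk' (Subgroup.center G))
      (by rw [QuotientGroup.ker_mk']) y x

theorem lcs_ne_bot (hn : Nat.card G = p ^ n) (h3 : 3 ≤ n) (hcl : Group.nilpotencyClass G = n - 1) :
    (⊤ : Subgroup G).lowerCentralSeries (n - 2) ≠ ⊥ := fun h => by
  haveI := (IsPGroup.of_card hn).isNilpotent
  rw [Subgroup.lowerCentralSeries_eq_bot_iff_nilpotencyClass_le, hcl] at h
  omega

theorem lcs_le_center (hn : Nat.card G = p ^ n) (h3 : 3 ≤ n) :
    (⊤ : Subgroup G).lowerCentralSeries (n - 2) ≤ Subgroup.center G := by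
  have h := MaxClass.lcs_eq_bot (IsPGroup.of_card hn) hn (by omega)
  rw [show n - 1 = n - 2 + 1 by omega, Subgroup.lowerCentralSeries_succ,
    Subgroup.commutator_eq_bot_iff_le_centralizer] at h
  exact h.trans_eq (by rw [Subgroup.coe_top, Subgroup.centralizer_univ])

theorem center_eq (hn : Nat.card G = p ^ n) (h3 : 3 ≤ n) (hcl : Group.nilpotencyClass G = n - 1) :
    Subgroup.center G = (⊤ : Subgroup G).lowerCentralSeries (n - 2) := by
  haveI := (IsPGroup.of_card hn).isNilpotent
  obtain ⟨r, hr⟩ := (IsPGroup.of_card hn).index (Subgroup.center G)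
  have h2 := two_le_index_center hn h3 hcl hr
  have he := MaxClass.eq_lcs_of_index hn h3 hcl _ h2 hr
  have hb : (⊤ : Subgroup G).lowerCentralSeries r = ⊥ := by
    rw [show r = r - 1 + 1 by omega, Subgroup.lowerCentralSeries_succ, ← he,
      Subgroup.commutator_eq_bot_iff_le_centralizer, Subgroup.coe_top, Subgroup.centralizer_univ]
  rw [Subgroup.lowerCentralSeries_eq_bot_iff_nilpotencyClass_le, hcl] at hb
  have hlt : r ≤ n - 1 := by
    by_contra h
    refine lcs_ne_bot hn h3 hcl ?_
    rw [eq_bot_iff, ← MaxClass.lcs_eq_bot (IsPGroup.of_card hn) hn (by omega)]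
    exact (lcs_le_center hn h3).trans (he.le.trans (Subgroup.lowerCentralSeries_antitone _ (by omega)))
  rw [he, show r - 1 = n - 2 by omega]

theorem card_center (hn : Nat.card G = p ^ n) (h3 : 3 ≤ n) (hcl : Group.nilpotencyClass G = n - 1) :
    Nat.card (Subgroup.center G) = p := by
  rw [center_eq hn h3 hcl, show n - 2 = (n - 3) + 1 by omega,
    MaxClass.card_lcs_eq hn h3 hcl (by omega), show n - 2 - (n - 3) = 1 by omega, pow_one]

theorem card_second (hn : Nat.card G = p ^ n) (h4 : 4 ≤ n) (hcl : Group.nilpotencyClass G = n - 1) :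
    Nat.card (Subgroup.upperCentralSeries G 2) = p ^ 2 := by
  haveI := (IsPGroup.of_card hn).isNilpotent
  have h3 : 3 ≤ n := by omega
  set W := Subgroup.upperCentralSeries G 2 with hW
  have hmem : ∀ x, x ∈ W ↔ ∀ y, ⁅x, y⁆ ∈ Subgroup.center G := fun x => by
    rw [hW, Subgroup.mem_upperCentralSeries_succ_iff, Subgroup.upperCentralSeries_one]
  have hge : (⊤ : Subgroup G).lowerCentralSeries (n - 3) ≤ W := fun x hx => (hmem x).2 fun y => by
    rw [center_eq hn h3 hcl, show n - 2 = n - 3 + 1 by omega, Subgroup.lowerCentralSeries_succ]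
    exact Subgroup.commutator_mem_commutator hx (Subgroup.mem_top y)
  obtain ⟨r, hr⟩ := (IsPGroup.of_card hn).index W
  have h2 : 2 ≤ r := by
    by_contra hlt
    have hne : W ≠ ⊤ := fun h => by
      have hb : (⊤ : Subgroup G).lowerCentralSeries 2 = ⊥ := by
        rw [Subgroup.lowerCentralSeries_succ, Subgroup.commutator_eq_bot_iff_le_centralizer,
          Subgroup.coe_top, Subgroup.centralizer_univ, Subgroup.top_lowerCentralSeries_one,
          commutator_def, Subgroup.commutator_le]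
        exact fun x _ y _ => (hmem x).1 (h ▸ Subgroup.mem_top x) y
      rw [Subgroup.lowerCentralSeries_eq_bot_iff_nilpotencyClass_le, hcl] at hb
      omega
    obtain ⟨g, -, hg⟩ := SetLike.exists_of_lt (lt_top_iff_ne_top.2 hne)
    refine hg ((hmem g).2 fun y => ?_)
    have htop : W ⊔ Subgroup.zpowers g = ⊤ := by
      have hd : (W ⊔ Subgroup.zpowers g).index ∣ p := by
        refine (Subgroup.index_dvd_of_le (le_sup_left : W ≤ _)).trans ?_
        rw [hr]
        exact (Nat.pow_dvd_pow p (by omega : r ≤ 1)).trans (pow_one p).dvd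
      rcases (Nat.dvd_prime hp.out).1 hd with h1 | h1
      · exact Subgroup.index_eq_one.1 h1
      · exfalso
        have hlt' : W < W ⊔ Subgroup.zpowers g := lt_of_le_of_ne le_sup_left fun he =>
          hg (he ▸ le_sup_right (a := W) (Subgroup.mem_zpowers g))
        have h3 := Subgroup.index_strictAnti hlt'
        rw [h1, hr] at h3
        have h4 : p ^ r ≤ p ^ 1 := Nat.pow_le_pow_right hp.out.pos (by omega : r ≤ 1)
        rw [pow_one] at h4
        omega
    set K := (Subgroup.centralizer {QuotientGroup.mk' (Subgroup.center G) g}).comap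
      (QuotientGroup.mk' (Subgroup.center G)) with hK
    have hKm : ∀ y, y ∈ K ↔ ⁅g, y⁆ ∈ Subgroup.center G := fun y => by
      rw [← QuotientGroup.eq_one_iff (N := Subgroup.center G), hK, Subgroup.mem_comap,
        Subgroup.mem_centralizer_singleton_iff]
      change _ ↔ QuotientGroup.mk' (Subgroup.center G) ⁅g, y⁆ = 1
      rw [map_commutatorElement, commutatorElement_eq_one_iff_mul_comm]
      exact eq_comm
    have hle : W ⊔ Subgroup.zpowers g ≤ K := by
      refine sup_le (fun w hw => (hKm w).2 ?_) (Subgroup.zpowers_le.2 ((hKm g).2 ?_))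
      · rw [← commutatorElement_inv]
        exact inv_mem ((hmem w).1 hw g)
      · rw [commutatorElement_self]
        exact one_mem _
    exact (hKm y).1 (hle (htop ▸ Subgroup.mem_top y))
  have he := MaxClass.eq_lcs_of_index hn h3 hcl _ h2 hr
  have hrn : r ≤ n := (Nat.pow_dvd_pow_iff_le_right hp.out.one_lt).1
    (hr ▸ hn ▸ W.index_dvd_card)
  have hb : (⊤ : Subgroup G).lowerCentralSeries (r + 1) = ⊥ := by
    rw [Subgroup.lowerCentralSeries_succ, Subgroup.commutator_eq_bot_iff_le_centralizer,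
      Subgroup.coe_top, Subgroup.centralizer_univ, show r = r - 1 + 1 by omega,
      Subgroup.lowerCentralSeries_succ, ← he, Subgroup.commutator_le]
    exact fun x hx y _ => (hmem x).1 hx y
  rw [Subgroup.lowerCentralSeries_eq_bot_iff_nilpotencyClass_le, hcl] at hb
  have h1 := Subgroup.card_le_of_le hge
  rw [he, show r - 1 = (r - 2) + 1 by omega, MaxClass.card_lcs_eq hn h3 hcl (by omega),
    show n - 3 = (n - 4) + 1 by omega, MaxClass.card_lcs_eq hn h3 hcl (by omega)] at h1
  have h5 := (Nat.pow_le_pow_iff_right hp.out.one_lt).1 h1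
  rw [he, show r - 1 = (r - 2) + 1 by omega, MaxClass.card_lcs_eq hn h3 hcl (by omega),
    show n - 2 - (r - 2) = 2 by omega]

/-- Let p ≥ 5 be a prime, S a finite p-group of maximal class of order p^n with n ≥ 4, and F a saturated fusion system over S. If some map of F defined on the second centre Z₂(S) with image Z₂(S) does not carry Z(S) into itself, then the centralizer C_S(Z₂(S)) is an F-essential subgroup. -/
theorem result {Ω : Type*} [Group Ω] {S : Subgroup Ω} [Finite S] (p : ℕ) [Fact p.Prime] (hS : IsPGroup p ↥S) (n : ℕ) (hn : Nat.card S = p ^ n) (h4 : 4 ≤ n) (hmax : Subgroup.lowerCentralSeries S (n - 2) ≠ ⊥) (F : Cfsg.FusionSystem S) (hF : F.IsSaturated p) (hp : 5 ≤ p) (φ : ↥((Subgroup.upperCentralSeries ↥S 2).map S.subtype) →* Ω) (hφ : φ ∈ F.Hom ((Subgroup.upperCentralSeries ↥S 2).map S.subtype)) (hφZ : φ.range = ((Subgroup.upperCentralSeries ↥S 2).map S.subtype)) (hmove : ∃ (z : Ω) (hz : z ∈ ((Subgroup.upperCentralSeries ↥S 2).map S.subtype)), z ∈ ((Subgroup.center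 ↥S).map S.subtype) ∧ φ ⟨z, hz⟩ ∉ ((Subgroup.center ↥S).map S.subtype)) : F.IsEssential p (S ⊓ Subgroup.centralizer (((Subgroup.upperCentralSeries ↥S 2).map S.subtype) : Set Ω)) := by
  have hpp : p.Prime := Fact.out
  have h3 : 3 ≤ n := by omega
  haveI := hS.isNilpotent
  have hcl : Group.nilpotencyClass ↥S = n - 1 := by
    refine le_antisymm (Subgroup.lowerCentralSeries_eq_bot_iff_nilpotencyClass_le.1
      (MaxClass.lcs_eq_bot hS hn (by omega))) ?_
    by_contra h
    refine hmax ?_
    have hb : (⊤ : Subgroup ↥S).lowerCentralSeries (n - 2) = ⊥ :=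
      Subgroup.lowerCentralSeries_eq_bot_iff_nilpotencyClass_le.2 (by omega)
    have hm := Subgroup.map_lowerCentralSeries (⊤ : Subgroup ↥S) S.subtype (n - 2)
    rw [hb, Subgroup.map_bot, ← MonoidHom.range_eq_map, Subgroup.range_subtype] at hm
    exact hm.symm
  let W := (Subgroup.upperCentralSeries ↥S 2).map S.subtype
  have hWdef : W = (Subgroup.upperCentralSeries ↥S 2).map S.subtype := rfl
  let Z := (Subgroup.center ↥S).map S.subtype
  have hZdef : Z = (Subgroup.center ↥S).map S.subtype := rfl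
  have hZm : ∀ x, x ∈ Z ↔ x ∈ S ∧ ∀ s ∈ S, s * x = x * s := by
    intro x
    constructor
    · rintro ⟨y, hy, rfl⟩
      exact ⟨y.2, fun s hs => congrArg Subtype.val (Subgroup.mem_center_iff.1 hy ⟨s, hs⟩)⟩
    · rintro ⟨hx, h⟩
      exact ⟨⟨x, hx⟩, Subgroup.mem_center_iff.2 fun s => Subtype.ext (h s s.2), rfl⟩
  have hWS : W ≤ S := Subgroup.map_subtype_le _
  have hWcard : Nat.card W = p ^ 2 := by
    rw [hWdef, Subgroup.card_map_of_injective S.subtype_injective, card_second hn h4 hcl]
  have hZcard : Nat.card Z = p := by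
    rw [hZdef, Subgroup.card_map_of_injective S.subtype_injective, card_center hn h3 hcl]
  have hcomm : ∀ s ∈ S, ∀ w ∈ W, ⁅w, s⁆ ∈ Z := by
    rintro s hs _ ⟨w, hw, rfl⟩
    have h := (Subgroup.mem_upperCentralSeries_succ_iff.1 hw) ⟨s, hs⟩
    rw [Subgroup.upperCentralSeries_one] at h
    exact ⟨_, h, rfl⟩
  have hZW : Z ≤ W := Subgroup.map_mono (by
    rw [← Subgroup.upperCentralSeries_one]
    exact Subgroup.upperCentralSeries_mono _ (by omega))
  have hWn : S ≤ Subgroup.normalizer (W : Set Ω) := fun s hs => by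
    rw [Subgroup.mem_normalizer_iff]
    have key : ∀ t ∈ S, ∀ w ∈ W, t * w * t⁻¹ ∈ W := by
      rintro t ht _ ⟨w, hw, rfl⟩
      exact ⟨_, (inferInstance : (Subgroup.upperCentralSeries ↥S 2).Normal).conj_mem w hw ⟨t, ht⟩, rfl⟩
    refine fun w => ⟨key s hs w, fun h => ?_⟩
    have := key s⁻¹ (inv_mem hs) _ h
    rwa [show s⁻¹ * (s * w * s⁻¹) * s⁻¹⁻¹ = w by group] at this
  haveI := Cfsg.Agent.FusionSys.finite_of_le hWS
  -- an element `w` generating `W` over `Z`
  obtain ⟨w, hwW, hwZ⟩ : ∃ w, w ∈ W ∧ w ∉ Z := by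
    by_contra h
    push_neg at h
    have h1 : Nat.card W ≤ Nat.card Z := by
      haveI := Cfsg.Agent.FusionSys.finite_of_le (hZW.trans hWS)
      exact Subgroup.card_le_of_le h
    rw [hWcard, hZcard, pow_two] at h1
    nlinarith [hpp.two_le]
  set C := S ⊓ Subgroup.centralizer (W : Set Ω) with hCdef
  have hCS : C ≤ S := inf_le_left
  haveI := Cfsg.Agent.FusionSys.finite_of_le hCS
  have hCw : ∀ s ∈ S, s * w = w * s → s ∈ C := by
    intro s hs hsw
    refine ⟨hs, Subgroup.mem_centralizer_iff.2 ?_⟩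
    set D := W ⊓ Subgroup.centralizer {s} with hD
    have hDm : ∀ x, x ∈ D ↔ x ∈ W ∧ x * s = s * x := fun x => by
      rw [hD, Subgroup.mem_inf, Subgroup.mem_centralizer_singleton_iff]
    have hDW : D = W := by
      refine Subgroup.eq_of_le_of_card_ge inf_le_left ?_
      haveI : Finite D := Finite.of_injective _ (Subgroup.inclusion_injective (inf_le_left : D ≤ W))
      have hdvd : Nat.card D ∣ p ^ 2 := hWcard ▸ Subgroup.card_dvd_of_le inf_le_left
      obtain ⟨i, hi, hDc⟩ := (Nat.dvd_prime_pow hpp).1 hdvd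
      rw [hWcard, hDc]
      refine Nat.pow_le_pow_right hpp.pos ?_
      by_contra hi2
      have hZD : Z ≤ D := fun x hx => (hDm x).2 ⟨hZW hx, (((hZm x).1 hx).2 s hs).symm⟩
      have : Z = D := Subgroup.eq_of_le_of_card_ge hZD (by
        rw [hDc, hZcard]
        exact (Nat.pow_le_pow_right hpp.pos (by omega : i ≤ 1)).trans (pow_one p).le)
      exact hwZ (this ▸ (hDm w).2 ⟨hwW, hsw.symm⟩)
    intro x hx
    exact ((hDm x).1 (hDW.symm ▸ hx)).2
  have hindex : (C.subgroupOf S).index = p := by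
    have hne : (C.subgroupOf S).index ≠ 1 := by
      rw [ne_eq, Subgroup.index_eq_one, Subgroup.subgroupOf_eq_top]
      intro h
      exact hwZ ((hZm w).2 ⟨hWS hwW, fun s hs => (Subgroup.mem_centralizer_iff.1 (h hs).2 w hwW).symm⟩)
    obtain ⟨i, hi⟩ := hS.index (C.subgroupOf S)
    have hle : (C.subgroupOf S).index ≤ p := by
      rw [Subgroup.index_eq_card, ← hZcard]
      haveI := Cfsg.Agent.FusionSys.finite_of_le (hZW.trans hWS)
      refine Nat.card_le_card_of_injective (fun a => (⟨⁅w, (a.out : Ω)⁆, hcomm _ a.out.2 w hwW⟩ : Z))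
        fun a b hab => ?_
      rw [← QuotientGroup.out_eq' a, ← QuotientGroup.out_eq' b, QuotientGroup.eq,
        Subgroup.mem_subgroupOf]
      have h1 : ⁅w, (a.out : Ω)⁆ = ⁅w, (b.out : Ω)⁆ := congrArg Subtype.val hab
      rw [commutatorElement_def, commutatorElement_def, mul_assoc, mul_assoc, mul_assoc, mul_assoc,
        mul_left_cancel_iff] at h1
      refine hCw _ (a.out⁻¹ * b.out).2 ?_
      push_cast
      calc (a.out : Ω)⁻¹ * b.out * w
          = (a.out : Ω)⁻¹ * ((b.out : Ω) * (w⁻¹ * (b.out : Ω)⁻¹))⁻¹ * b.out := by group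
        _ = (a.out : Ω)⁻¹ * ((a.out : Ω) * (w⁻¹ * (a.out : Ω)⁻¹))⁻¹ * b.out := by rw [h1]
        _ = w * ((a.out : Ω)⁻¹ * b.out) := by group
    rw [hi] at hne hle ⊢
    rcases i with _ | _ | i
    · exact absurd (pow_zero p) hne
    · rw [pow_one]
    · exfalso
      have : p ^ 2 ≤ p ^ (i + 1 + 1) := Nat.pow_le_pow_right hpp.pos (by omega)
      nlinarith [hpp.two_le]
  have hCn : S ≤ Subgroup.normalizer (C : Set Ω) := fun s hs => by
    rw [Subgroup.mem_normalizer_iff]
    have key : ∀ t ∈ S, ∀ c ∈ C, t * c * t⁻¹ ∈ C := by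
      intro t ht c hc
      refine ⟨S.mul_mem (S.mul_mem ht hc.1) (S.inv_mem ht), Subgroup.mem_centralizer_iff.2 fun x hx => ?_⟩
      have h' : t⁻¹ * x * t ∈ W := by
        have := (Subgroup.mem_normalizer_iff.1 (hWn (inv_mem ht)) x).1 hx
        rwa [inv_inv] at this
      have := Subgroup.mem_centralizer_iff.1 hc.2 _ h'
      calc x * (t * c * t⁻¹) = t * ((t⁻¹ * x * t) * c) * t⁻¹ := by group
        _ = t * (c * (t⁻¹ * x * t)) * t⁻¹ := by rw [this]
        _ = t * c * t⁻¹ * x := by group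
    refine fun c => ⟨key s hs c, fun h => ?_⟩
    have := key s⁻¹ (inv_mem hs) _ h
    rwa [show s⁻¹ * (s * c * s⁻¹) * s⁻¹⁻¹ = c by group] at this
  have hlt : C < S := lt_of_le_of_ne hCS fun h => by
    rw [h, Subgroup.subgroupOf_self, Subgroup.index_top] at hindex
    exact hpp.ne_one hindex.symm
  have hWC : W ≤ C := fun x hx => ⟨hWS hx, Subgroup.mem_centralizer_iff.2 fun y hy =>
    congrArg Subtype.val ((IsPGroup.isMulCommutative_of_card_eq_prime_sq hWcard).is_comm.comm ⟨y, hy⟩ ⟨x, hx⟩)⟩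
  have hCfn : F.IsFullyNormalized C := Cfsg.Agent.FusionSys.fullyNormalized_of_normal hCS hCn
  refine (Cfsg.Agent.FusionSys.stronglyEmbedded_of_extendable_ne hS hF hlt hCfn fun heq => ?_).1
  -- the automorphisms that extend to `S` fix `Z`
  let K : Subgroup (MulAut C) :=
    { carrier := {α | ∀ x : C, ((α x : C) : Ω) ∈ Z ↔ (x : Ω) ∈ Z}
      one_mem' := fun _ => Iff.rfl
      mul_mem' := fun {α β} hα hβ x => (hα (β x)).trans (hβ x)
      inv_mem' := fun {α} hα x => by
        have h := hα (α⁻¹ x)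
        rw [MulAut.inv_def, MulEquiv.apply_symm_apply] at h
        exact h.symm }
  have hK : Cfsg.Agent.FusionSys.extendableGroup F C ≤ K := by
    refine (Subgroup.closure_le _).2 ?_
    rintro α ⟨Q, hCQ, χ, hχ, he⟩
    have hQS := Cfsg.Agent.FusionSys.hom_le F hχ
    have hQ : Q = S := by
      refine le_antisymm hQS ?_
      rw [← Subgroup.subgroupOf_eq_top, ← Subgroup.index_eq_one]
      have hd := Subgroup.index_dvd_of_le
        (Subgroup.comap_mono (f := S.subtype) hCQ.le : C.subgroupOf S ≤ Q.subgroupOf S)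
      rw [show (Subgroup.comap S.subtype C).index = p from hindex] at hd
      rcases (Nat.dvd_prime hpp).1 hd with h1 | h1
      · exact h1
      · exfalso
        have hlt' : C.subgroupOf S < Q.subgroupOf S :=
          lt_of_le_of_ne (Subgroup.comap_mono hCQ.le) fun he' => by
            obtain ⟨x, hxQ, hxC⟩ := SetLike.exists_of_lt hCQ
            exact hxC (Subgroup.mem_subgroupOf.1 (he'.ge (show (⟨x, hQS hxQ⟩ : S) ∈ Q.subgroupOf S from hxQ)))
        have := Subgroup.index_strictAnti hlt'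
        rw [hindex, show (Q.subgroupOf S).index = p from h1] at this
        exact lt_irrefl _ this
    subst hQ
    have hinj := F.injective_of_mem hχ
    have hsur : ∀ s ∈ Q, ∃ t : Q, χ t = s := by
      intro s hs
      have hr : χ.range = Q := Subgroup.eq_of_le_of_card_ge (Cfsg.Agent.FusionSys.range_le F hχ)
        (Nat.card_congr (MonoidHom.ofInjective hinj).toEquiv).le
      exact MonoidHom.mem_range.1 (hr.symm ▸ hs)
    intro x
    rw [← he x, hZm, hZm]
    constructor
    · rintro ⟨-, h⟩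
      refine ⟨hCS x.2, fun s hs => congrArg Subtype.val (hinj (?_ : χ (⟨s, hs⟩ * Subgroup.inclusion hCQ.le x) =
        χ (Subgroup.inclusion hCQ.le x * ⟨s, hs⟩)))⟩
      rw [map_mul, map_mul]
      exact h _ (Cfsg.Agent.FusionSys.hom_apply_mem F hχ _)
    · rintro ⟨-, h⟩
      refine ⟨Cfsg.Agent.FusionSys.hom_apply_mem F hχ _, fun s hs => ?_⟩
      obtain ⟨t, rfl⟩ := hsur s hs
      rw [← map_mul, ← map_mul]
      exact congrArg χ (Subtype.ext (h t t.2))
  -- the extension of `φ` moves `Z`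
  obtain ⟨ψ, hψ, hag⟩ := (Cfsg.Agent.FusionSys.fullyNormalized_receptive hS hF
    (Cfsg.Agent.FusionSys.fullyNormalized_of_normal (F := F) hWS hWn)).2 W φ hφ hφZ
  have hCE : C ≤ Cfsg.FusionSystem.extender S W φ :=
    Cfsg.Agent.FusionSys.centralizerIn_le_extender (S := S) φ
  set χ := ψ.comp (Subgroup.inclusion hCE) with hχdef
  have hχ : χ ∈ F.Hom C := Cfsg.Agent.FusionSys.restrict_mem F hψ hCE
  have hχC : ∀ c : C, χ c ∈ C := fun c => by
    refine ⟨Cfsg.Agent.FusionSys.hom_apply_mem F hχ c, Subgroup.mem_centralizer_iff.2 fun y hy => ?_⟩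
    obtain ⟨u, rfl⟩ := MonoidHom.mem_range.1 (hφZ.ge hy)
    rw [← hag u u.2 (hCE (hWC u.2))]
    show ψ _ * ψ _ = ψ _ * ψ _
    rw [← map_mul, ← map_mul]
    exact congrArg ψ (Subtype.ext (Subgroup.mem_centralizer_iff.1 c.2.2 u u.2))
  have hbij : Function.Bijective (χ.codRestrict C hχC) := by
    refine Finite.injective_iff_bijective.1 fun a b hab => F.injective_of_mem hχ ?_
    exact congrArg Subtype.val hab
  let a : MulAut C := MulEquiv.ofBijective _ hbij
  have ha : a ∈ K := by
    refine hK (heq.ge (Subgroup.subset_closure ?_))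
    exact Cfsg.Agent.FusionSys.hom_congr F hχ fun _ => rfl
  obtain ⟨z, hzW, hzZ, hzm⟩ := hmove
  refine hzm ?_
  rw [← hag z hzW (hCE (hWC hzW))]
  exact (ha ⟨z, hWC hzW⟩).2 hzZ

end Cfsg.Agent.S5270
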