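import Cfsg.Statements.S5316
import Cfsg.Agent.S5186
import Cfsg.Agent.Lib.MaxEss.Extend

set_option autoImplicit false
open Cfsg Cfsg.FusionSystem Cfsg.Agent.FusionSys

namespace Cfsg.Agent.S5316

/-- The automorphisms of a cyclic group commute. -/
theorem mulAut_comm {H : Type*} [Group H] [IsCyclic H] (a b : MulAut H) : a * b = b * a := by
  obtain ⟨g, hg⟩ := IsCyclic.exists_generator (α := H)
  refine MulEquiv.ext fun x => ?_
  obtain ⟨k, rfl⟩ := Subgroup.mem_zpowers_iff.1 (hg x)
  obtain ⟨i, hi⟩ := Subgroup.mem_zpowers_iff.1 (hg (a g))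
  obtain ⟨j, hj⟩ := Subgroup.mem_zpowers_iff.1 (hg (b g))
  rw [MulAut.mul_apply, MulAut.mul_apply, map_zpow, map_zpow, map_zpow, map_zpow, ← hi, ← hj, map_zpow, map_zpow,
    ← hi, ← hj, ← zpow_mul, ← zpow_mul, ← zpow_mul, ← zpow_mul, mul_left_comm]

/-- An essential subgroup is not cyclic. -/
theorem not_cyclic {Ω : Type*} [Group Ω] {S : Subgroup Ω} [Finite S] {p : ℕ} [Fact p.Prime] (hS : IsPGroup p ↥S)
    {F : Cfsg.FusionSystem S} (hF : F.IsSaturated p) {E : Subgroup Ω} (hE : F.IsEssential p E) : ¬ IsCyclic E := by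
  intro hc
  refine not_isPGroup_commutator_mulAut hS hF hE ?_
  rw [show commutator (MulAut E) = ⊥ by
    rw [commutator_def, Subgroup.commutator_eq_bot_iff_le_centralizer]
    exact fun a _ => Subgroup.mem_centralizer_iff.2 fun b _ => mulAut_comm b a]
  exact IsPGroup.of_bot

/-- Let p ≥ 5 be a prime, S a finite p-group of maximal class of order p^n with n ≥ 5 (nilpotency class n − 1), F a saturated fusion system over S, and E an F-essential subgroup that is not a pearl (not elementary abelian of order p² and not extraspecial of order p³ and exponent p). Then E has order at least p⁴. -/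
theorem result {Ω : Type*} [Group Ω] {S : Subgroup Ω} [Finite S] (p : ℕ) [Fact p.Prime] (hp : 5 ≤ p) (hS : IsPGroup p ↥S) (n : ℕ) (hn : Nat.card S = p ^ n) (h5 : 5 ≤ n)
    (hmax : Subgroup.lowerCentralSeries S (n - 2) ≠ ⊥) (F : Cfsg.FusionSystem S) (hF : F.IsSaturated p)
    (E : Subgroup Ω) (hE : F.IsEssential p E)
    (hnp : ¬ ((Nat.card ↥E = p ^ 2 ∧ Cfsg.IsElementaryAbelian p E) ∨ (Nat.card ↥E = p ^ 3 ∧ Cfsg.IsExtraspecial p ↥E ∧ Monoid.exponent ↥E = p))) :
    p ^ 4 ≤ Nat.card ↥E := by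
  have hpp : p.Prime := Fact.out
  have hES : E ≤ S := hE.1.1
  haveI := finite_of_le hES
  haveI := hS.isNilpotent
  obtain ⟨k, hk⟩ := IsPGroup.iff_card.1 (isPGroup_of_le hS hES)
  have hnc := not_cyclic hS hF hE
  rw [hk]
  by_contra hlt
  have hk4 : k < 4 := by
    by_contra h
    exact hlt (Nat.pow_le_pow_right hpp.pos (by omega))
  interval_cases k
  · haveI : Subsingleton E := by
      rw [← Finite.card_le_one_iff_subsingleton, hk, pow_zero]
    exact hnc inferInstance
  · exact hnc (isCyclic_of_prime_card (p := p) (hk.trans (pow_one p)))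
  · refine hnp (Or.inl ⟨hk, IsPGroup.isMulCommutative_of_card_eq_prime_sq hk, fun a ha => ?_⟩)
    obtain ⟨i, hi, hoi⟩ := (Nat.dvd_prime_pow hpp).1 (hk ▸ orderOf_dvd_natCard (⟨a, ha⟩ : E))
    by_contra hne
    have hi2 : i = 2 := by
      by_contra hi2
      refine hne ?_
      have h1 : orderOf (⟨a, ha⟩ : E) ∣ p := by
        rw [hoi]; exact (Nat.pow_dvd_pow p (by omega : i ≤ 1)).trans (pow_one p).dvd
      exact congrArg Subtype.val (orderOf_dvd_iff_pow_eq_one.1 h1)
    subst hi2
    exact hnc (isCyclic_of_orderOf_eq_card _ (hoi.trans hk.symm))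
  · rcases S5186.result p hS F hF E hE hk with ⟨hcomm, hexp⟩ | ⟨-, hext, hx⟩ | ⟨h2, -⟩
    · obtain ⟨E₀, rfl⟩ := MaxEss.exists_om hES
      have hcl : Group.nilpotencyClass ↥S = n - 1 := by
        refine le_antisymm (Subgroup.lowerCentralSeries_eq_bot_iff_nilpotencyClass_le.1
          (MaxClass.lcs_eq_bot hS hn (by omega))) ?_
        by_contra h
        refine hmax ?_
        have hb : (⊤ : Subgroup ↥S).lowerCentralSeries (n - 2) = ⊥ :=
          Subgroup.lowerCentralSeries_eq_bot_iff_nilpotencyClass_le.2 (by omega)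
        have hm := Subgroup.map_lowerCentralSeries (⊤ : Subgroup ↥S) S.subtype (n - 2)
        rw [hb, Subgroup.map_bot, ← MonoidHom.range_eq_map, Subgroup.range_subtype] at hm
        exact hm.symm
      refine MaxEss.no_elementary_cube hS hF (⟨hn, h5, hcl⟩ : MaxEss.MC S p n) (by omega) hE
        ((MaxEss.card_om E₀).symm.trans hk) (fun a ha b hb => ?_) (fun a ha => ?_)
      · exact Subtype.ext (congrArg Subtype.val (hcomm.is_comm.comm ⟨a, a, ha, rfl⟩ ⟨b, b, hb, rfl⟩) :)
      · exact Subtype.ext (hexp a ⟨a, ha, rfl⟩)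
    · refine hnp (Or.inr ⟨hk, hext, ?_⟩)
      haveI : Nontrivial E := Finite.one_lt_card_iff_nontrivial.1 (by rw [hk]; exact Nat.one_lt_pow (by omega) hpp.one_lt)
      refine ((Nat.dvd_prime hpp).1 (Monoid.exponent_dvd_of_forall_pow_eq_one fun x : E =>
        Subtype.ext (hx x x.2))).resolve_left fun h1 => ?_
      obtain ⟨x, hx1⟩ := exists_ne (1 : E)
      have h := Monoid.pow_exponent_eq_one x
      rw [h1, pow_one] at h
      exact hx1 h
    · omega

end Cfsg.Agent.S5316
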