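import Cfsg.Statements.S2073
import Cfsg.Agent.Lib.MathieuOut.Congr
import Cfsg.Agent.Lib.SporPerm.McLModel
import Cfsg.Agent.Lib.SporPerm.McLFrameCert
-- import your own Cfsg.Agent.* helpers here

set_option autoImplicit false
open Cfsg

namespace Cfsg.Agent.S2073

/-- The outer automorphism group of the McLaughlin group (as a two-vector stabiliser in the automorphism group of the rank-24 lattice) has order 2. -/
theorem result : Nat.card (Cfsg.Out ↥Cfsg.Spor.McL) = 2 := by
  obtain ⟨e⟩ := SporPerm.mcl_equiv
  obtain ⟨hc, heq⟩ := CentAut.cert_of_model SporPerm.mcl_cert SporPerm.mclFr_light SporPerm.mclFr_sift SporPerm.mclFr_order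
  rw [MathieuOut.card_out_congr (e.trans (MulEquiv.subgroupCongr heq.symm))]
  exact CentAut.card_out_two hc SporPerm.mclFr_frame SporPerm.mclFr_centX SporPerm.mclFr_centN
    (by rw [show SporPerm.mclFrData.p = 11 from rfl]; norm_num) SporPerm.mclFr_cases SporPerm.mclFr_outer

end Cfsg.Agent.S2073
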