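import Cfsg.Statements.S2332
import Cfsg.Agent.Lib.MinDegree.Main
import Mathlib.Algebra.Field.Shrink
-- import your own Cfsg.Agent.* helpers here

set_option autoImplicit false
open Cfsg

namespace Cfsg.Agent.S2332

/-- Smallest degree of a non-linear irreducible complex representation of SL_n over a finite field with q elements, for n ≥ 3 and (n, q) not one of (3, 2), (3, 4), (4, 2), (4, 3): every irreducible complex representation of SL_n(F) of degree at least 2 has degree at least (q^n − q)/(q − 1), and there is an irreducible complex representation of exactly that degree. -/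
theorem result {F : Type*} [Field F] [Fintype F] [DecidableEq F] (n : ℕ) (hn : 3 ≤ n)
    (hex : (n, Fintype.card F) ≠ (3, 2) ∧ (n, Fintype.card F) ≠ (3, 4) ∧ (n, Fintype.card F) ≠ (4, 2) ∧ (n, Fintype.card F) ≠ (4, 3)) :
    (∀ (k : ℕ) (ρ : Representation ℂ (Matrix.SpecialLinearGroup (Fin n) F) (Fin k → ℂ)), ρ.IsIrreducible → 2 ≤ k → (Fintype.card F ^ n - Fintype.card F) / (Fintype.card F - 1) ≤ k) ∧
    (∃ ρ : Representation ℂ (Matrix.SpecialLinearGroup (Fin n) F) (Fin ((Fintype.card F ^ n - Fintype.card F) / (Fintype.card F - 1)) → ℂ), ρ.IsIrreducible) := by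
  classical
  let F' : Type := Shrink.{0} F
  haveI : Small.{0} F := inferInstance
  haveI : Fintype F' := Fintype.ofEquiv F (equivShrink.{0} F)
  let e : F ≃+* F' := (Shrink.ringEquiv.{0} F).symm
  have hc : Fintype.card F' = Fintype.card F := (Fintype.card_congr e.toEquiv).symm
  have h1 : Function.Surjective (Matrix.SpecialLinearGroup.map (n := Fin n) e.toRingHom) := fun b =>
    ⟨Matrix.SpecialLinearGroup.map e.symm.toRingHom b, Subtype.ext (Matrix.ext fun i j => by simp)⟩
  have h2 : Function.Surjective (Matrix.SpecialLinearGroup.map (n := Fin n) e.symm.toRingHom) := fun b =>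
    ⟨Matrix.SpecialLinearGroup.map e.toRingHom b, Subtype.ext (Matrix.ext fun i j => by simp)⟩
  have h := Cfsg.Agent.MinDegree.main (F := F') n hn (by rw [hc]; exact hex)
  rw [hc] at h
  obtain ⟨hlow, ρ, hρ⟩ := h
  exact ⟨fun k σ hσ hk =>
      hlow k (σ.comp (Matrix.SpecialLinearGroup.map (n := Fin n) e.symm.toRingHom))
        (Cfsg.Agent.MinDegree.isIrreducible_pullback h2 hσ _ fun _ => rfl) hk,
    ⟨ρ.comp (Matrix.SpecialLinearGroup.map (n := Fin n) e.toRingHom),
      Cfsg.Agent.MinDegree.isIrreducible_pullback h1 hρ _ fun _ => rfl⟩⟩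


end Cfsg.Agent.S2332
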