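import Cfsg.Statements.S1070
import Cfsg.Agent.Lib.Lie.TwE6
-- import your own Cfsg.Agent.* helpers here

set_option autoImplicit false
open Cfsg

namespace Cfsg.Agent.S1070

/-- ²E₆(q) is simple for every `q`. -/
theorem result {K : Type*} [Field K] [Fintype K] {q : ℕ} (hq : IsPrimePow q) (hK : Fintype.card K = q ^ 2) :
    IsSimpleGroup ↥(Cfsg.Lie.twistedE6 K q) ∧ ¬ IsMulCommutative ↥(Cfsg.Lie.twistedE6 K q) := by
  exact (Chev.TwE6.X hq hK).simple (Chev.TwE6.blocks hq hK) hq.one_lt (Chev.TwE6.hblk hq hK) Chev.TwE6.connOK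
    (Chev.TwE6.sep hq hK) (by decide : 0 < 4) (Chev.TwE6.derived hq hK)

end Cfsg.Agent.S1070
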