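import Cfsg.Statements.S5435
import Cfsg.Agent.Lib.ZStarApps.CommTwo

set_option autoImplicit false
open Cfsg

namespace Cfsg.Agent.S5435


/-- Let L be a finite non-abelian simple group with an involution z whose centralizer R is a Sylow 2-subgroup of L whose Frattini subgroup is the subgroup generated by z. Then R is dihedral of order 8. -/
theorem result {L : Type*} [Group L] [Finite L] [IsSimpleGroup L] (hL : ¬ IsMulCommutative L) (z : L) (hz : orderOf z = 2) (R : Sylow 2 L) (hR : (R : Subgroup L) = Subgroup.centralizer ({z} : Set L)) (hΦ : (frattini ↥(R : Subgroup L)).map (R : Subgroup L).subtype = Subgroup.zpowers z) : Nonempty (↥(R : Subgroup L) ≃* DihedralGroup 4) := by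
  classical
  haveI : Fact (Nat.Prime 2) := ⟨Nat.prime_two⟩
  have hmem : ∀ r : L, r ∈ (R : Subgroup L) ↔ Commute r z := fun r => by
    rw [hR, Subgroup.mem_centralizer_singleton_iff]; rfl
  have hz2 : z * z = 1 := by rw [← pow_two, ← hz]; exact pow_orderOf_eq_one z
  have hzR : z ∈ (R : Subgroup L) := (hmem z).2 (Commute.refl z)
  have hzc : ∀ r ∈ (R : Subgroup L), Commute r z := fun r hr => (hmem r).1 hr
  have hz12 : ∀ y : L, y ∈ Subgroup.zpowers z → y = 1 ∨ y = z := by
    intro y hy
    rw [(isOfFinOrder_of_finite z).mem_zpowers_iff_mem_range_orderOf, hz] at hy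
    obtain ⟨k, hk, rfl⟩ := Finset.mem_image.1 hy
    rw [Finset.mem_range] at hk
    interval_cases k
    · exact Or.inl (pow_zero z)
    · exact Or.inr (pow_one z)
  have hsq : ∀ a ∈ (R : Subgroup L), a * a = 1 ∨ a * a = z := by
    intro a ha
    refine hz12 _ (hΦ ▸ ?_)
    exact ⟨⟨a, ha⟩ ^ 2, Cfsg.Agent.PGroupBasics.pow_mem_frattini R.2 _, by simp [pow_two]⟩
  have hNR : ∀ x ∈ Subgroup.normalizer ((R : Subgroup L) : Set L), x ∈ (R : Subgroup L) := by
    intro x hx
    have hzΦ : z ∈ (frattini ↥(R : Subgroup L)).map (R : Subgroup L).subtype :=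
      hΦ ▸ Subgroup.mem_zpowers z
    obtain ⟨w, hw, hwe⟩ := hzΦ
    set φ := (R : Subgroup L).normalizerMonoidHom ⟨x, hx⟩ with hφ
    have h1 : φ w ∈ frattini ↥(R : Subgroup L) := by
      rw [← (frattini_characteristic (G := ↥(R : Subgroup L))).fixed φ]  at hw
      exact hw
    have h2 : x * z * x⁻¹ ∈ Subgroup.zpowers z := hΦ ▸ ⟨φ w, h1, by rw [← hwe]; rfl⟩
    rcases hz12 _ h2 with e | e
    · exfalso
      rw [mul_inv_eq_one, mul_eq_left] at e
      simp [e] at hz
    · exact (hmem x).2 (mul_inv_eq_iff_eq_mul.1 e)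
  have hWz : z ∈ Subgroup.closure {y : L | y ∈ (R : Subgroup L) ∧ IsConj z y} :=
    Subgroup.subset_closure ⟨hzR, IsConj.refl z⟩
  refine Cfsg.Agent.ZStarApps.dihedral_eight_of_squares hL R hz hzR hzc hsq ?_ ?_ ?_ ?_
  · by_contra h
    push_neg at h
    refine Cfsg.Agent.ZStarApps.no_two_complement hL R (fun e => ?_)
      (Fusion.hasNormalPComplement_of_normalizer_le_centralizer R
        (fun x hx => Subgroup.mem_centralizer_iff.2 fun y hy => (h y hy x (hNR x hx)).eq))
    rw [e, Subgroup.mem_bot] at hzR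
    simp [hzR] at hz
  · intro g hg hc
    have hle : (R : Subgroup L) ≤ (R : Subgroup L).map (MulAut.conj g).toMonoidHom := by
      intro r hr
      refine ⟨g⁻¹ * r * g, (hmem _).2 ?_, by simp [mul_assoc]⟩
      have := (hc r hr).map (MulAut.conj g⁻¹).toMonoidHom
      simpa [mul_assoc] using this
    have heq := Subgroup.eq_of_le_of_card_ge hle
      (le_of_eq (Subgroup.card_map_of_injective (MulAut.conj g).injective))
    have hg' : g ∈ (R : Subgroup L) := hNR g (Subgroup.mem_normalizer_iff.2 fun r => by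
      constructor
      · intro hr; rw [heq]; exact ⟨r, hr, rfl⟩
      · intro hr
        rw [heq] at hr
        obtain ⟨r', hr', e⟩ := hr
        simp only [MulEquiv.coe_toMonoidHom, MulAut.conj_apply] at e
        exact (mul_left_cancel (mul_right_cancel e)) ▸ hr')
    rw [((hmem g).1 hg').eq, mul_inv_cancel_right]
  · intro g hg hne x hx hc
    have h1 : g⁻¹ * x * g ∈ (R : Subgroup L) := (hmem _).2 (by
      have := hc.map (MulAut.conj g⁻¹).toMonoidHom
      simpa [mul_assoc] using this)
    rcases hsq x hx with e | e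
    · exact e
    exfalso
    rcases hsq _ h1 with e' | e'
    · have : x * x = 1 := by
        calc x * x = g * (g⁻¹ * x * g * (g⁻¹ * x * g)) * g⁻¹ := by group
          _ = 1 := by rw [e']; group
      rw [e] at this; simp [this] at hz
    · apply hne
      calc g * z * g⁻¹ = g * (g⁻¹ * x * g * (g⁻¹ * x * g)) * g⁻¹ := by rw [e']
        _ = x * x := by group
        _ = z := e
  · intro x hx a ha
    have hxR := hNR x hx
    have hz' : ∀ b ∈ (R : Subgroup L), b * b ∈ Subgroup.closure {y : L | y ∈ (R : Subgroup L) ∧ IsConj z y} := by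
      intro b hb; rcases hsq b hb with e | e <;> rw [e]
      exacts [one_mem _, hWz]
    have hc : Commute (x * x)⁻¹ a := by
      rcases hsq x hxR with e | e <;> rw [e]
      · simp
      · exact (hzc a ha).symm.inv_left
    have key : x * a * x⁻¹ * a⁻¹ = (x * a) * (x * a) * (x * x)⁻¹ * (a * a)⁻¹ := by
      calc x * a * x⁻¹ * a⁻¹ = (x * a) * (x * a) * (a⁻¹ * ((x * x)⁻¹ * a)) * (a * a)⁻¹ := by group
        _ = _ := by rw [hc.eq, inv_mul_cancel_left]
    rw [key]
    exact mul_mem (mul_mem (hz' _ (mul_mem hxR ha)) (inv_mem (hz' x hxR))) (inv_mem (hz' a ha))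

end Cfsg.Agent.S5435
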