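import Cfsg.Statements.S5418
import Cfsg.Agent.Lib.MonsterT.SevenOuter
-- import your own Cfsg.Agent.* helpers here

set_option autoImplicit false
open Cfsg

namespace Cfsg.Agent.S5418

/-- Let G be a finite group of Monster type at the involution z with Q the extraspecial normal subgroup of order 2^25 of C = C_G(z) (so C/Q is identified with the first Conway group with Q modulo its centre the Leech lattice modulo 2, and z is not weakly closed in Q). Let s be a conjugate of z in Q other than z and let B be a Sylow 7-subgroup of the joint centralizer of z and s. Then the centralizer of B has index 6 in the normalizer of B; and some involution inverting B induces, by conjugation, a non-inner automorphism of the layer of the centralizer of B. -/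
theorem result {G : Type*} [Group G] [Finite G] (z : G) (Q : Subgroup (Subgroup.centralizer ({z} : Set G))) [Q.Normal] (hM : Cfsg.IsOfMonsterType z Q) (s : G) (hsQ : ∃ hsc : s ∈ Subgroup.centralizer ({z} : Set G), (⟨s, hsc⟩ : Subgroup.centralizer ({z} : Set G)) ∈ Q) (hs : IsConj z s) (hs1 : s ≠ z) (B : Subgroup G) (hB : B ≤ Subgroup.centralizer ({z, s} : Set G)) (hBp : Nat.card B = 7 ^ (Nat.card ↥(Subgroup.centralizer ({z, s} : Set G))).factorization 7) : (Subgroup.centralizer (B : Set G)).relIndex (Subgroup.normalizer (B : Set G)) = 6 ∧ ∃ t : G, orderOf t = 2 ∧ (∀ b ∈ B, t * b * t⁻¹ = b⁻¹) ∧ (∀ x ∈ (Cfsg.layer ↥(Subgroup.centralizer (B : Set G))).map (Subgroup.centralizer (B : Set G)).subtype, t * x * t⁻¹ ∈ (Cfsg.layer ↥(Subgroup.centralizer (B : Set G))).map (Subgroup.centralizer (B : Set G)).subtype) ∧ ¬ ∃ l ∈ (Cfsg.layer ↥(Subgroup.centralizer (B : Set G))).map (Subgroup.centralizer (B : Set G)).subtype, ∀ x ∈ (Cfsg.layer ↥(Subgroup.centralizer (B : Set G))).map (Subgroup.centralizer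 (B : Set G)).subtype, t * x * t⁻¹ = l * x * l⁻¹ := by
  classical
  obtain ⟨hset, e, ψ, hiso⟩ := hM
  have H : MonsterT.MT z Q e ψ := ⟨hset, hiso⟩
  obtain ⟨hsc, hsq⟩ := hsQ
  haveI : Fact (Nat.Prime 7) := ⟨by norm_num⟩
  let q : Q := ⟨⟨s, hsc⟩, hsq⟩
  have hq : IsConj z (MonsterT.toG q) := hs
  have hne : MonsterT.toG q ≠ z := hs1
  obtain ⟨e', ψ', β, D, rfl⟩ := H.generator_of_sylow (by norm_num) (by norm_num) MonsterT.Seven.b7_pow
    MonsterT.Seven.b7_ne MonsterT.Seven.b7_mem (by norm_num) (q := q) rfl hq hne hB hBp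
  refine ⟨D.relIndex_six hq hne, ?_⟩
  obtain ⟨t, ht2, ht⟩ := D.exists_inverting hq hne
  have ht' : (t : G) * (β : G) * (t : G)⁻¹ = (β : G)⁻¹ := congrArg Subtype.val ht
  have hnorm : (t : G) ∈ Subgroup.normalizer (Subgroup.zpowers (β : G) : Set G) :=
    D.mem_normalizer_of_conj (a := 6) (by norm_num) (by
      rw [ht']
      refine inv_eq_of_mul_eq_one_right ?_
      rw [← pow_succ', show 6 + 1 = orderOf (β : G) from D.ord_coe.symm, pow_orderOf_eq_one])
  refine ⟨t, by rw [Subgroup.orderOf_coe, ht2], ?_, ?_, ?_⟩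
  · intro b hb
    obtain ⟨i, rfl⟩ := Subgroup.mem_zpowers_iff.1 hb
    rw [← conj_zpow, ht', inv_zpow]
  · have hC : ∀ x : G, x ∈ Subgroup.centralizer (Subgroup.zpowers (β : G) : Set G) ↔
        (t : G) * x * (t : G)⁻¹ ∈ Subgroup.centralizer (Subgroup.zpowers (β : G) : Set G) := by
      intro x
      have hc : ∀ u v : G, ((t : G) * u * (t : G)⁻¹ * ((t : G) * v * (t : G)⁻¹) =
          (t : G) * v * (t : G)⁻¹ * ((t : G) * u * (t : G)⁻¹)) ↔ u * v = v * u := fun u v => by
        rw [show (t : G) * u * (t : G)⁻¹ * ((t : G) * v * (t : G)⁻¹) = (t : G) * (u * v) * (t : G)⁻¹ by group,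
          show (t : G) * v * (t : G)⁻¹ * ((t : G) * u * (t : G)⁻¹) = (t : G) * (v * u) * (t : G)⁻¹ by group]
        exact ⟨fun h => mul_left_cancel (mul_right_cancel h), fun h => by rw [h]⟩
      rw [D.mem_cent_iff, D.mem_cent_iff, ← hc x β, ht']
      exact (show Commute ((t : G) * x * (t : G)⁻¹) (β : G)⁻¹ ↔ Commute ((t : G) * x * (t : G)⁻¹) (β : G) from
        Commute.inv_right_iff)
    let ec : ↥(Subgroup.centralizer (Subgroup.zpowers (β : G) : Set G)) ≃*
        ↥(Subgroup.centralizer (Subgroup.zpowers (β : G) : Set G)) :=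
      { toFun := fun x => ⟨(t : G) * x * (t : G)⁻¹, (hC x).1 x.2⟩
        invFun := fun x => ⟨(t : G)⁻¹ * x * (t : G), (hC _).2 (by
          rw [show (t : G) * ((t : G)⁻¹ * (x : G) * (t : G)) * (t : G)⁻¹ = (x : G) by group]; exact x.2)⟩
        left_inv := fun x => Subtype.ext (by
          show (t : G)⁻¹ * ((t : G) * (x : G) * (t : G)⁻¹) * (t : G) = x
          group)
        right_inv := fun x => Subtype.ext (by
          show (t : G) * ((t : G)⁻¹ * (x : G) * (t : G)) * (t : G)⁻¹ = x
          group)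
        map_mul' := fun x y => Subtype.ext (by
          show (t : G) * ((x : G) * (y : G)) * (t : G)⁻¹ = (t : G) * x * (t : G)⁻¹ * ((t : G) * y * (t : G)⁻¹)
          group) }
    rintro x ⟨y, hy, rfl⟩
    have hey : ec y ∈ (layer ↥(Subgroup.centralizer (Subgroup.zpowers (β : G) : Set G))).map ec.toMonoidHom :=
      ⟨y, hy, rfl⟩
    rw [Components.layer_map_equiv] at hey
    exact ⟨ec y, hey, rfl⟩
  · rintro ⟨l, ⟨l', hl', rfl⟩, hall⟩
    exact D.not_inner hq hne ht hl' fun x hx => hall _ ⟨x, hx, rfl⟩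

end Cfsg.Agent.S5418
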