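import Cfsg.Statements.S4726
import Cfsg.Agent.Lib.BrauerPairs.InducedPairs

set_option autoImplicit false
open Cfsg

namespace Cfsg.Agent.S4726

/-- Let p be a prime, M a maximal ideal of the algebraic integers containing p, H a subgroup of the finite group G and b a p-block of H with defect group D₀ such that C_G(D₀) ≤ H. Then b induces a block of G, and for every block B of G induced by b there is a defect group D of B with Z(D) ≤ Z(D₀) ≤ D₀ ≤ D (as subgroups of G). In particular, if the defect groups of B are abelian then D₀ is a defect group of B. -/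
theorem result {G : Type*} [Group G] [Finite G] (p : ℕ) [Fact p.Prime] (M : Ideal Cfsg.AlgInt) (hM : Cfsg.IsPModular p M) (H : Subgroup G) (b : Set (Cfsg.IrrCharacter ↥H)) (hb : Cfsg.IsPBlock M b) (D₀ : Subgroup ↥H) (hD₀ : Cfsg.IsDefectGroup p M b D₀) (hC : Subgroup.centralizer ((D₀.map H.subtype : Subgroup G) : Set G) ≤ H) : Cfsg.InducedBlockDefined M H b ∧ ∀ B : Set (Cfsg.IrrCharacter G), Cfsg.IsInducedBlock M H b B → (∃ D : Subgroup G, Cfsg.IsDefectGroup p M B D ∧ (Subgroup.center ↥D).map D.subtype ≤ ((Subgroup.center ↥D₀).map D₀.subtype).map H.subtype ∧ ((Subgroup.center ↥D₀).map D₀.subtype).map H.subtype ≤ D₀.map H.subtype ∧ D₀.map H.subtype ≤ D) ∧ (∀ D : Subgroup G, Cfsg.IsDefectGroup p M B D → IsMulCommutative ↥D → Cfsg.IsDefectGroup p M B (D₀.map H.subtype)) := by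
  classical
  haveI : Fintype G := Fintype.ofFinite G
  haveI : M.IsPrime := hM.2.1.isPrime
  haveI : CharP (Cfsg.Agent.Blocks.resField M) p := Cfsg.Agent.Blocks.resField_charP hM
  have hQ := (Cfsg.Agent.BrauerPairs.isDefectGroup_sub_iff hb D₀).1 hD₀
  obtain ⟨e, he⟩ := Cfsg.Agent.BrauerPairs.exists_pairOf_defGrp
    (Cfsg.Agent.BrauerPairs.isBlk_zB H hb) hQ
  obtain ⟨B₀, hB₀, -⟩ := Cfsg.Agent.BrauerPairs.exists_induced_of_pair hM hb he hC
  refine ⟨⟨B₀, hB₀⟩, fun B hind => ?_⟩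
  obtain ⟨D, hD, hle, hZ⟩ := Cfsg.Agent.BrauerPairs.exists_defect_above hM hind hQ hC
  refine ⟨⟨D, (Cfsg.Agent.BrauerPairs.isDefectGroup_iff hind.2.1 D).2 hD, ?_,
    Subgroup.map_mono (Subgroup.map_subtype_le _), hle⟩, fun D' hD' hcomm => ?_⟩
  · rintro _ ⟨z, hz, rfl⟩
    have hzC : (z : G) ∈ Subgroup.centralizer (D : Set G) := Subgroup.mem_centralizer_iff.2
      fun u hu => congrArg Subtype.val (Subgroup.mem_center_iff.1 hz ⟨u, hu⟩)
    obtain ⟨q, hq, hqz⟩ := hZ z z.2 hzC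
    refine ⟨q, ⟨⟨q, hq⟩, Subgroup.mem_center_iff.2 fun r => Subtype.ext (Subtype.ext ?_), rfl⟩,
      hqz⟩
    have h := Subgroup.mem_centralizer_iff.1 hzC ((r : H) : G)
      (hle ⟨(r : H), r.2, rfl⟩)
    rw [← hqz] at h
    exact h
  · obtain ⟨x, -, hx⟩ := ((Cfsg.Agent.BrauerPairs.isDefectGroup_iff hind.2.1 D').1 hD').exists_conj_eq
      hD (Cfsg.Agent.BrauerPairs.isBlk_Ek hind.2.1)
    have habel : ∀ u ∈ D, ∀ v ∈ D, u * v = v * u := by
      intro u hu v hv
      rw [hx] at hu hv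
      obtain ⟨a, ha, rfl⟩ := hu
      obtain ⟨c, hc, rfl⟩ := hv
      rw [← map_mul, ← map_mul]
      exact congrArg _ (congrArg Subtype.val
        (hcomm.is_comm.comm (⟨a, ha⟩ : D') ⟨c, hc⟩))
    have heq : D = D₀.map H.subtype := le_antisymm
      (fun u hu => hZ u hu (Subgroup.mem_centralizer_iff.2 fun v hv => habel v hv u hu)) hle
    rw [← heq]
    exact (Cfsg.Agent.BrauerPairs.isDefectGroup_iff hind.2.1 D).2 hD

end Cfsg.Agent.S4726
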