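import Cfsg.Statements.S1241
import Cfsg.Agent.Lib.Small.TransferHom

set_option autoImplicit false
open Cfsg

namespace Cfsg.Agent.S1241

/-- Let G be a finite group, p a prime, H a subgroup of index prime to p, K a subgroup of H normal in H with H/K commutative, and g ∈ H ∖ K an element of p-power order such that for all integers m and all a ∈ G with a g^m a⁻¹ ∈ H one has a g^m a⁻¹ ∈ g^m K. Then g ∉ G'. -/
theorem result {G : Type*} [Group G] [Finite G] {p : ℕ} [Fact p.Prime] (H K : Subgroup G) (hHK : K ≤ H) (hKn : (K.subgroupOf H).Normal) (hab : ∀ x ∈ H, ∀ y ∈ H, x * y * x⁻¹ * y⁻¹ ∈ K) (hidx : Nat.Coprime p H.index) (g : G) (hgH : g ∈ H) (hgK : g ∉ K) (hgp : ∃ k : ℕ, orderOf g = p ^ k) (hctrl : ∀ (m : ℤ) (a : G), a * g ^ m * a⁻¹ ∈ H → (a * g ^ m * a⁻¹) * (g ^ m)⁻¹ ∈ K) : g ∉ commutator G := by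
  classical
  haveI := hHK
  set K' := K.subgroupOf H with hK'
  haveI : K'.Normal := hKn
  haveI : IsMulCommutative (↥H ⧸ K') := ⟨⟨by
    intro u v
    obtain ⟨a, rfl⟩ := QuotientGroup.mk_surjective u
    obtain ⟨b, rfl⟩ := QuotientGroup.mk_surjective v
    rw [← mul_inv_eq_one, mul_inv_rev, ← mul_assoc]
    exact (QuotientGroup.eq_one_iff (a * b * a⁻¹ * b⁻¹)).mpr (hab _ a.2 _ b.2)⟩⟩
  letI : CommGroup (↥H ⧸ K') :=
    { (inferInstance : Group (↥H ⧸ K')) with mul_comm := fun a b => Std.Commutative.comm a b }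
  have h1 : (QuotientGroup.mk' K') ⟨g, hgH⟩ ≠ 1 := fun h =>
    hgK ((QuotientGroup.eq_one_iff (⟨g, hgH⟩ : H)).mp h)
  have h2 := Cfsg.Agent.Small.transfer_ne_one (QuotientGroup.mk' K') hidx hgH hgp h1 (by
    intro k a hk
    refine (QuotientGroup.eq_iff_div_mem).mpr ?_
    have := hctrl k a⁻¹ (by simpa using hk)
    show _ ∈ K
    simpa [div_eq_mul_inv] using this)
  exact fun h => h2 (Cfsg.Agent.Small.commutator_le_ker _ h)

end Cfsg.Agent.S1241
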