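import Cfsg.Statements.S0322
import Cfsg.Agent.Lib.Lie.BNPair
-- import your own Cfsg.Agent.* helpers here

set_option autoImplicit false
open Cfsg

namespace Cfsg.Agent.S0322

/-- A group with a (B,N)-pair of rank one acts doubly transitively on the left cosets of `B`. -/
theorem result {G : Type*} [Group G] (P : Cfsg.BNPair G) (h : P.rank = 1) : MulAction.IsMultiplyPretransitive G (G ⧸ P.B) 2 := by
  obtain ⟨⟨s, hsS⟩, hs1⟩ : ∃ s : P.S, ∀ t : P.S, t = s := by
    obtain ⟨hsub, ⟨s⟩⟩ := Nat.card_eq_one_iff_unique.1 h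
    exact ⟨s, fun t => Subsingleton.elim _ _⟩
  have hall : ∀ g : G, g ∈ P.B ∨ g ∈ BN.dc P s := by
    intro g
    obtain ⟨w, hw⟩ := BN.bruhat P g
    have hsub : P.S ⊆ {s} := fun t ht => by simpa using congrArg Subtype.val (hs1 ⟨t, ht⟩)
    obtain ⟨l, hlen, hl⟩ := BN.exists_reduced P w
    have : w = 1 ∨ w = BN.σ P ⟨s, hsS⟩ := by
      rw [← hl]
      clear hlen hl
      induction l with
      | nil => exact Or.inl rfl
      | cons t l ih =>
        rw [BN.wp_cons, hs1 t]
        rcases ih with e | e <;> rw [e] <;> simp [BN.σ_mul_self]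
    rcases this with rfl | rfl
    · exact Or.inl (by rwa [BN.cell_one] at hw)
    · exact Or.inr (by rwa [BN.cell_σ] at hw)
  rw [MulAction.is_two_pretransitive_iff]
  -- it suffices to move any pair to the base pair
  suffices key : ∀ a b : G ⧸ P.B, a ≠ b →
      ∃ g : G, g • a = (1 : G) ∧ g • b = ((s : G) : G ⧸ P.B) by
    intro a b c d hab hcd
    obtain ⟨g, hga, hgb⟩ := key a b hab
    obtain ⟨k, hkc, hkd⟩ := key c d hcd
    exact ⟨k⁻¹ * g, by rw [mul_smul, hga, ← hkc, inv_smul_smul],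
      by rw [mul_smul, hgb, ← hkd, inv_smul_smul]⟩
  intro a b hab
  obtain ⟨x, rfl⟩ := QuotientGroup.mk_surjective a
  obtain ⟨y, rfl⟩ := QuotientGroup.mk_surjective b
  rcases hall (x⁻¹ * y) with h' | h'
  · exact absurd ((QuotientGroup.eq).2 h') hab
  · obtain ⟨p, hp, q, hq, e⟩ := DoubleCoset.mem_doubleCoset.1 h'
    refine ⟨p⁻¹ * x⁻¹, ?_, ?_⟩
    · rw [MulAction.Quotient.smul_mk, QuotientGroup.eq]
      simpa [mul_assoc] using hp
    · rw [MulAction.Quotient.smul_mk, QuotientGroup.eq]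
      rw [smul_eq_mul, mul_assoc, e]
      simpa [mul_assoc] using inv_mem hq

end Cfsg.Agent.S0322
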