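import Cfsg.Statements.S4742
import Cfsg.Agent.Lib.BrauerPairs.ClassCount

set_option autoImplicit false
open Cfsg

namespace Cfsg.Agent.S4742

/-- Let p ≠ q be primes dividing the order of the finite group G, and suppose the centralizer of every non-identity p-element of G has order prime to q. Then either G has an irreducible character of p-defect zero, or for every non-identity q-element z of G there are conjugates g, h of z such that g h⁻¹ is a non-identity p-element. -/
theorem result {G : Type*} [Group G] [Finite G] (p q : ℕ) [Fact p.Prime] [Fact q.Prime] (hppq : p ≠ q) (hpG : p ∣ Nat.card G) (hqG : q ∣ Nat.card G) (hC : ∀ g : G, g ≠ 1 → (∃ k : ℕ, orderOf g = p ^ k) → ¬ q ∣ Nat.card ↥(Subgroup.centralizer ({g} : Set G))) : (∃ χ : Cfsg.IrrCharacter G, (Cfsg.charDegree (χ : G → ℂ)).factorization p = (Nat.card G).factorization p) ∨ ∀ z : G, z ≠ 1 → (∃ k : ℕ, orderOf z = q ^ k) → ∃ g h : G, IsConj z g ∧ IsConj z h ∧ g * h⁻¹ ≠ 1 ∧ ∃ k : ℕ, orderOf (g * h⁻¹) = p ^ k := by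
  haveI := Fintype.ofFinite G
  by_contra hcon
  push Not at hcon
  obtain ⟨hnd, z, hz1, ⟨k, hzk⟩, hzgh⟩ := hcon
  have hp : p.Prime := Fact.out
  have ha : (Nat.card (Subgroup.centralizer ({z} : Set G))).factorization p = 0 := by
    refine Nat.factorization_eq_zero_of_not_dvd fun hdvd => ?_
    obtain ⟨y, hy⟩ := exists_prime_orderOf_dvd_card' p hdvd
    have hy' : orderOf (y : G) = p := by rw [Subgroup.orderOf_coe]; exact hy
    have hy1 : (y : G) ≠ 1 := fun h => by rw [h, orderOf_one] at hy'; exact hp.ne_one hy'.symm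
    refine hC (y : G) hy1 ⟨1, by rw [pow_one, hy']⟩ ?_
    have hzy : z ∈ Subgroup.centralizer ({(y : G)} : Set G) :=
      Subgroup.mem_centralizer_singleton_iff.2
        (Subgroup.mem_centralizer_singleton_iff.1 y.2).symm
    refine (dvd_trans ?_ (Subgroup.orderOf_coe (⟨z, hzy⟩ : Subgroup.centralizer ({(y : G)} : Set G)) ▸
      orderOf_dvd_natCard (⟨z, hzy⟩ : Subgroup.centralizer ({(y : G)} : Set G))))
    rw [hzk]
    refine dvd_pow_self q ?_
    rintro rfl
    exact hz1 (orderOf_eq_one_iff.1 (by simpa using hzk))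
  obtain ⟨P⟩ : Nonempty (Sylow p G) := inferInstance
  obtain ⟨χ, hχ⟩ := Cfsg.Agent.BrauerPairs.exists_irr_pow_dvd hp z (P : Subgroup G)
    ((Nat.card G).factorization p) P.card_eq_multiplicity (fun g h hg hh hmem => by
      by_contra hne
      obtain ⟨j, hj⟩ := P.isPGroup' ⟨g * h⁻¹, hmem⟩
      obtain ⟨i, -, hi⟩ := (Nat.dvd_prime_pow hp).1
        (orderOf_dvd_of_pow_eq_one (congrArg Subtype.val hj))
      exact hzgh g h hg hh hne i hi)
  rw [ha, Nat.sub_zero] at hχ
  refine hnd χ (le_antisymm ?_ ?_)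
  · refine (Nat.factorization_le_iff_dvd (Cfsg.Agent.Blocks.charDegree_pos χ).ne'
      Nat.card_pos.ne').2 ?_ p
    exact Cfsg.Agent.Char.degree_dvd_card χ.2 (Cfsg.Agent.Blocks.irr_one_eq_charDegree χ)
  · exact (hp.pow_dvd_iff_le_factorization (Cfsg.Agent.Blocks.charDegree_pos χ).ne').1 hχ

end Cfsg.Agent.S4742
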