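import Cfsg.Statements.S4744
import Cfsg.Agent.S4742
import Cfsg.Agent.Lib.Solvable.Basic
import Mathlib.GroupTheory.FixedPointFree
import Mathlib.GroupTheory.Nilpotent

set_option autoImplicit false
set_option linter.style.haveILetI false
open Cfsg

namespace Cfsg.Agent.S4744

universe u
variable {G : Type u} [Group G] [Finite G] {p : ℕ} [hp : Fact p.Prime]

theorem exists_invariant_sylow (K : Subgroup G) (hK : Odd (Nat.card K)) {g : G} (hg : g * g = 1)
    (hn : ∀ k ∈ K, g * k * g⁻¹ ∈ K) :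
    ∃ S : Sylow p K, ∀ s ∈ (S : Subgroup K).map K.subtype,
      g * s * g⁻¹ ∈ (S : Subgroup K).map K.subtype := by
  classical
  haveI : Fintype (Sylow p K) := Fintype.ofFinite _
  have hinv : g⁻¹ = g := inv_eq_of_mul_eq_one_right hg
  let φ : K →* K :=
    { toFun := fun k => ⟨g * k * g⁻¹, hn k k.2⟩
      map_one' := Subtype.ext (by simp)
      map_mul' := fun a b => Subtype.ext (by simp [mul_assoc]) }
  have hφ : ∀ k, φ (φ k) = k := fun k => Subtype.ext (by
    show g * (g * (k : G) * g⁻¹) * g⁻¹ = k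
    rw [hinv, show g * (g * (k : G) * g) * g = (g * g) * (k : G) * (g * g) by group, hg]
    simp)
  have hinj : Function.Injective φ := Function.Involutive.injective hφ
  let F : Sylow p K → Sylow p K := fun S => Sylow.ofCard ((S : Subgroup K).map φ) (by
    rw [Subgroup.card_map_of_injective hinj, S.card_eq_multiplicity])
  have hF : ∀ S, F (F S) = S := fun S => Sylow.ext (by
    show ((S : Subgroup K).map φ).map φ = _
    rw [Subgroup.map_map, show φ.comp φ = MonoidHom.id K from MonoidHom.ext hφ, Subgroup.map_id])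
  have hodd : ¬ 2 ∣ Fintype.card (Sylow p K) := by
    rw [← Nat.card_eq_fintype_card]
    intro h
    obtain ⟨S0⟩ : Nonempty (Sylow p K) := inferInstance
    exact Nat.not_even_iff_odd.2 hK (even_iff_two_dvd.2
      ((h.trans S0.card_dvd_index).trans (Subgroup.index_dvd_card _)))
  obtain ⟨S, hS⟩ := Equiv.Perm.exists_fixed_point_of_prime (p := 2) (n := 1) hodd
    (σ := Function.Involutive.toPerm F hF) (Equiv.ext fun S => hF S)
  refine ⟨S, ?_⟩
  rintro s ⟨k, hk, rfl⟩
  refine ⟨φ k, ?_, rfl⟩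
  have h1 : ((S : Subgroup K).map φ) = (S : Subgroup K) := congrArg Sylow.toSubgroup hS
  rw [← h1]
  exact Subgroup.mem_map_of_mem φ hk

/-- A `p`-subgroup normalised by an involution with `p'`-centraliser is inverted. -/
theorem inverted (hC : ∀ y : G, y ≠ 1 → (∃ k : ℕ, orderOf y = p ^ k) →
      Odd (Nat.card ↥(Subgroup.centralizer ({y} : Set G))))
    {g : G} (hg : orderOf g = 2) (R : Subgroup G) (hR : IsPGroup p R)
    (hn : ∀ r ∈ R, g * r * g⁻¹ ∈ R) :
    (∀ a ∈ R, ∀ b ∈ R, a * b = b * a) ∧ ∀ r ∈ R, g * r * g⁻¹ = r⁻¹ := by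
  have hgg : g * g = 1 := by rw [← pow_two, ← hg]; exact pow_orderOf_eq_one g
  let φ : R →* R :=
    { toFun := fun k => ⟨g * k * g⁻¹, hn k k.2⟩
      map_one' := Subtype.ext (by simp)
      map_mul' := fun a b => Subtype.ext (by simp [mul_assoc]) }
  have h2 : Function.Involutive φ := fun k => Subtype.ext (by
    show g * (g * (k : G) * g⁻¹) * g⁻¹ = k
    rw [inv_eq_of_mul_eq_one_right hgg,
      show g * (g * (k : G) * g) * g = (g * g) * (k : G) * (g * g) by group, hgg]
    simp)
  have hfix : MonoidHom.FixedPointFree φ := by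
    intro r hr
    by_contra hne
    have he : g * (r : G) * g⁻¹ = r := congrArg Subtype.val hr
    have hne' : (r : G) ≠ 1 := fun h => hne (Subtype.ext h)
    obtain ⟨k, hk⟩ := hR r
    obtain ⟨j, -, hj⟩ := (Nat.dvd_prime_pow hp.out).1
      (orderOf_dvd_of_pow_eq_one (congrArg Subtype.val hk : (r : G) ^ p ^ k = 1))
    have hmem : g ∈ Subgroup.centralizer ({(r : G)} : Set G) :=
      Subgroup.mem_centralizer_singleton_iff.2 (mul_inv_eq_iff_eq_mul.1 he)
    have h3 := Subgroup.orderOf_dvd_natCard _ hmem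
    rw [hg] at h3
    exact Nat.not_even_iff_odd.2 (hC _ hne' ⟨j, hj⟩) (even_iff_two_dvd.2 h3)
  refine ⟨fun a ha b hb => congrArg Subtype.val
    (hfix.commute_all_of_involutive h2 ⟨a, ha⟩ ⟨b, hb⟩).eq, fun r hr => ?_⟩
  exact congrArg Subtype.val (congrFun (hfix.coe_eq_inv_of_involutive h2) ⟨r, hr⟩)

theorem sylow_structure (hC : ∀ y : G, y ≠ 1 → (∃ k : ℕ, orderOf y = p ^ k) →
      Odd (Nat.card ↥(Subgroup.centralizer ({y} : Set G))))
    {g x : G} (hg : orderOf g = 2) (hx : x ≠ 1) (hxp : ∃ k, orderOf x = p ^ k)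
    (hgx : g * x * g⁻¹ = x⁻¹) :
    ∃ P : Sylow p G, (∀ a ∈ (P : Subgroup G), g * a * g⁻¹ ∈ (P : Subgroup G)) ∧
      ∀ a ∈ (P : Subgroup G), ∀ b ∈ (P : Subgroup G), a * b = b * a := by
  classical
  have hgg : g * g = 1 := by rw [← pow_two, ← hg]; exact pow_orderOf_eq_one g
  have hgi : g⁻¹ = g := inv_eq_of_mul_eq_one_right hgg
  let C := Subgroup.centralizer ({x} : Set G)
  have hCn : ∀ k ∈ C, g * k * g⁻¹ ∈ C := by
    intro k hk
    rw [Subgroup.mem_centralizer_singleton_iff] at hk ⊢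
    have h1 : k * x⁻¹ = x⁻¹ * k := (Commute.inv_right hk : _)
    rw [show x = g * x⁻¹ * g⁻¹ from by
      rw [← hgx, hgi, show g * (g * x * g) * g = (g * g) * x * (g * g) by group, hgg]; simp]
    calc g * k * g⁻¹ * (g * x⁻¹ * g⁻¹) = g * (k * x⁻¹) * g⁻¹ := by group
      _ = g * (x⁻¹ * k) * g⁻¹ := by rw [h1]
      _ = _ := by group
  obtain ⟨S, hS⟩ := exists_invariant_sylow (p := p) C (hC x hx hxp) hgg hCn
  set R := (S : Subgroup C).map C.subtype with hRdef
  have hRp : IsPGroup p R := S.isPGroup'.map _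
  obtain ⟨hRab, hRinv⟩ := inverted hC hg R hRp hS
  have hmaxR : ∀ T : Subgroup G, IsPGroup p T → R ≤ T → T ≤ C → T = R := by
    intro T hT hRT hTC
    have h1 : T.subgroupOf C = (S : Subgroup C) := S.is_maximal' hT.comap_subtype
      fun k hk => hRT (Subgroup.mem_map_of_mem _ hk)
    rw [hRdef, ← h1, Subgroup.subgroupOf_map_subtype, inf_eq_left.2 hTC]
  obtain ⟨k, hk⟩ := hxp
  have hxR : x ∈ R := by
    have hxC : x ∈ C := Subgroup.mem_centralizer_singleton_iff.2 rfl
    have hZ : IsPGroup p (Subgroup.zpowers x) :=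
      IsPGroup.of_card (n := k) (by rw [Nat.card_zpowers, hk])
    have hn : Subgroup.zpowers x ≤ Subgroup.normalizer (R : Set G) := by
      rw [Subgroup.zpowers_le, Subgroup.mem_normalizer_iff]
      intro r
      constructor
      · intro hr
        obtain ⟨c, hc, rfl⟩ := hr
        have e : x * (c : G) = (c : G) * x :=
          (Subgroup.mem_centralizer_singleton_iff.1 c.2).symm
        rw [show x * C.subtype c * x⁻¹ = C.subtype c from mul_inv_eq_iff_eq_mul.2 e]
        exact ⟨c, hc, rfl⟩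
      · intro hr
        obtain ⟨c, hc, hce⟩ := hr
        have e : x * (c : G) = (c : G) * x :=
          (Subgroup.mem_centralizer_singleton_iff.1 c.2).symm
        have : r = (c : G) := by
          have h : (c : G) = x * r * x⁻¹ := hce
          calc r = x⁻¹ * (x * r * x⁻¹) * x := by group
            _ = x⁻¹ * ((c : G) * x) := by rw [← h]; group
            _ = (c : G) := by rw [← e]; group
        exact ⟨c, hc, this.symm⟩
    have hp2 : IsPGroup p ((R ⊔ Subgroup.zpowers x : Subgroup G)) :=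
      hRp.to_sup_of_normal_left' hZ hn
    rw [← hmaxR _ hp2 le_sup_left (sup_le (Subgroup.map_subtype_le _) (Subgroup.zpowers_le.2 hxC))]
    exact Subgroup.mem_sup_right (Subgroup.mem_zpowers x)
  obtain ⟨P, hP⟩ := hRp.exists_le_sylow
  suffices hPR : (P : Subgroup G) = R by
    exact ⟨P, by rw [hPR]; exact hS, by rw [hPR]; exact hRab⟩
  let D := Subgroup.centralizer (R : Set G)
  have hDC : D ≤ C := fun d hd => Subgroup.mem_centralizer_singleton_iff.2
    (Subgroup.mem_centralizer_iff.1 hd x hxR).symm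
  have hy : ∀ y ∈ (P : Subgroup G), y ∈ Subgroup.normalizer (R : Set G) → y ∈ R := by
    intro y hyP hyN
    suffices hyD : y ∈ D by
      rw [← hmaxR (R ⊔ Subgroup.zpowers y) (P.isPGroup'.to_le
        (sup_le hP (Subgroup.zpowers_le.2 hyP))) le_sup_left
        (sup_le (Subgroup.map_subtype_le _) (Subgroup.zpowers_le.2 (hDC hyD)))]
      exact Subgroup.mem_sup_right (Subgroup.mem_zpowers y)
    let K := D ⊔ Subgroup.zpowers y
    have hND : Subgroup.normalizer (R : Set G) ≤ Subgroup.normalizer (D : Set G) := by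
      have key : ∀ n ∈ Subgroup.normalizer (R : Set G), ∀ d ∈ D, n * d * n⁻¹ ∈ D := by
        intro n hn d hd
        rw [Subgroup.mem_centralizer_iff] at hd ⊢
        intro r hr
        have h1 : n⁻¹ * r * n ∈ R := (Subgroup.mem_normalizer_iff''.1 hn r).1 hr
        calc r * (n * d * n⁻¹) = n * ((n⁻¹ * r * n) * d) * n⁻¹ := by group
          _ = n * (d * (n⁻¹ * r * n)) * n⁻¹ := by rw [hd _ h1]
          _ = n * d * n⁻¹ * r := by group
      intro n hn
      rw [Subgroup.mem_normalizer_iff]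
      refine fun d => ⟨key n hn d, fun h => ?_⟩
      have := key n⁻¹ (inv_mem hn) _ h
      rwa [show n⁻¹ * (n * d * n⁻¹) * n⁻¹⁻¹ = d by group] at this
    have hKN : K ≤ Subgroup.normalizer (R : Set G) :=
      sup_le (fun d hd => by
        rw [Subgroup.mem_normalizer_iff]
        intro r
        constructor
        · intro hr
          rw [← Subgroup.mem_centralizer_iff.1 hd r hr, mul_inv_cancel_right]
          exact hr
        · intro hr
          have h := Subgroup.mem_centralizer_iff.1 hd _ hr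
          have : d * r * d⁻¹ = r := by
            have h2 : d⁻¹ * ((d * r * d⁻¹) * d) = d⁻¹ * (d * (d * r * d⁻¹)) := by rw [h]
            calc d * r * d⁻¹ = d⁻¹ * (d * (d * r * d⁻¹)) := by group
              _ = d⁻¹ * ((d * r * d⁻¹) * d) := h2.symm
              _ = r := by group
          rwa [this] at hr) (Subgroup.zpowers_le.2 hyN)
    have hKodd : Odd (Nat.card K) := by
      have h1 := Cfsg.Agent.SolvBasic.card_sup_mul_card_inf (N := D) (H := Subgroup.zpowers y)
        (Subgroup.zpowers_le.2 (hND hyN))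
      have hDodd : Odd (Nat.card D) :=
        Odd.of_dvd_nat (hC x hx ⟨k, hk⟩) (Subgroup.card_dvd_of_le hDC)
      have hyodd : Odd (Nat.card (Subgroup.zpowers y)) := by
        obtain ⟨j, hj⟩ := P.isPGroup' ⟨y, hyP⟩
        obtain ⟨i, -, hi⟩ := (Nat.dvd_prime_pow hp.out).1
          (orderOf_dvd_of_pow_eq_one (congrArg Subtype.val hj : y ^ p ^ j = 1))
        rw [Nat.card_zpowers, hi]
        refine (hp.out.eq_two_or_odd'.resolve_left ?_).pow
        rintro rfl
        obtain ⟨i', hi'⟩ : ∃ i', orderOf x = 2 ^ i' := ⟨k, hk⟩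
        have hxC : x ∈ C := Subgroup.mem_centralizer_singleton_iff.2 rfl
        have hd := Subgroup.orderOf_dvd_natCard C hxC
        rcases i' with _ | i'
        · exact hx (orderOf_eq_one_iff.1 (by rw [hi', pow_zero]))
        · rw [hi'] at hd
          exact Nat.not_even_iff_odd.2 (hC x hx ⟨k, hk⟩)
            (even_iff_two_dvd.2 ((dvd_pow_self 2 (Nat.succ_ne_zero i')).trans hd))
      exact (Nat.odd_mul.1 (h1 ▸ hDodd.mul hyodd :
        Odd (Nat.card K * Nat.card (D ⊓ Subgroup.zpowers y : Subgroup G)))).1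
    have hRn : ∀ r ∈ R, g * r * g⁻¹ ∈ R := hS
    have hgN : g ∈ Subgroup.normalizer (R : Set G) := by
      rw [Subgroup.mem_normalizer_iff]
      refine fun r => ⟨hRn r, fun hr => ?_⟩
      have := hRn _ hr
      rwa [hgi, show g * (g * r * g) * g = (g * g) * r * (g * g) by group, hgg, one_mul, mul_one] at this
    have hcomm : g * y * g⁻¹ * y⁻¹ ∈ D := by
      rw [Subgroup.mem_centralizer_iff]
      intro r hr
      have h1 : y⁻¹ * r * y ∈ R := (Subgroup.mem_normalizer_iff''.1 hyN r).1 hr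
      have e1 : g⁻¹ * (y⁻¹ * r * y) * g = y⁻¹ * r⁻¹ * y := by
        rw [hgi]
        have := hRinv _ h1
        rw [hgi] at this
        rw [this]; group
      have e2 : g * r⁻¹ * g⁻¹ = r := by rw [hRinv _ (inv_mem hr), inv_inv]
      symm
      calc g * y * g⁻¹ * y⁻¹ * r
          = g * y * (g⁻¹ * (y⁻¹ * r * y) * g) * g⁻¹ * y⁻¹ := by group
        _ = g * y * (y⁻¹ * r⁻¹ * y) * g⁻¹ * y⁻¹ := by rw [e1]
        _ = (g * r⁻¹ * g⁻¹) * (g * y * g⁻¹ * y⁻¹) := by group
        _ = r * (g * y * g⁻¹ * y⁻¹) := by rw [e2]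
    have hgK : ∀ k ∈ K, g * k * g⁻¹ ∈ K := by
      have hle : K ≤ K.comap (MulAut.conj g).toMonoidHom := by
        refine sup_le (fun d hd => ?_) (Subgroup.zpowers_le.2 ?_)
        · exact Subgroup.mem_sup_left ((Subgroup.mem_normalizer_iff.1 (hND hgN) d).1 hd)
        · show g * y * g⁻¹ ∈ K
          rw [show g * y * g⁻¹ = g * y * g⁻¹ * y⁻¹ * y by group]
          exact mul_mem (Subgroup.mem_sup_left hcomm) (Subgroup.mem_sup_right (Subgroup.mem_zpowers y))
      exact fun k hk => hle hk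
    obtain ⟨S2, hS2⟩ := exists_invariant_sylow (p := p) K hKodd hgg hgK
    obtain ⟨hab2, -⟩ := inverted hC hg _ (S2.isPGroup'.map K.subtype) hS2
    have hRK : R ≤ K := fun r hr => Subgroup.mem_sup_left
      (Subgroup.mem_centralizer_iff.2 fun r' hr' => hRab r' hr' r hr)
    have hRS : R.subgroupOf K ≤ (S2 : Subgroup K) := by
      haveI : (R.comap K.subtype).Normal := Subgroup.normal_subgroupOf_of_le_normalizer hKN
      exact hRp.comap_subtype.le_sylow_of_normal S2
    have hS2D : ∀ s ∈ (S2 : Subgroup K), (s : G) ∈ D := fun s hs =>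
      Subgroup.mem_centralizer_iff.2 fun r hr => hab2 r ⟨⟨r, hRK hr⟩, hRS hr, rfl⟩ _ ⟨s, hs, rfl⟩
    obtain ⟨j, hj⟩ := P.isPGroup' ⟨y, hyP⟩
    let yK : K := ⟨y, Subgroup.mem_sup_right (Subgroup.mem_zpowers y)⟩
    have hyp : IsPGroup p (Subgroup.zpowers yK) := by
      obtain ⟨i, -, hi⟩ := (Nat.dvd_prime_pow hp.out).1
        (orderOf_dvd_of_pow_eq_one (congrArg Subtype.val hj : y ^ p ^ j = 1))
      exact IsPGroup.of_card (n := i) (by rw [Nat.card_zpowers, ← hi, ← Subgroup.orderOf_coe])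
    obtain ⟨T, hT⟩ := hyp.exists_le_sylow
    obtain ⟨c, hc⟩ := MulAction.exists_smul_eq K S2 T
    have hyT : yK ∈ (T : Subgroup K) := hT (Subgroup.mem_zpowers _)
    rw [← hc, Sylow.coe_subgroup_smul] at hyT
    obtain ⟨s, hs, hse⟩ := hyT
    have e : (c : G) * (s : G) * (c : G)⁻¹ = y := congrArg Subtype.val hse
    rw [← e]
    exact (Subgroup.mem_normalizer_iff.1 (hND (hKN c.2)) _).1 (hS2D s hs)
  refine le_antisymm ?_ hP
  by_contra hne
  haveI : Group.IsNilpotent (P : Subgroup G) := P.isPGroup'.isNilpotent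
  have hlt : R.subgroupOf (P : Subgroup G) < ⊤ := lt_top_iff_ne_top.2 fun h =>
    hne (Subgroup.subgroupOf_eq_top.1 h)
  have h2 := Group.normalizerCondition_of_isNilpotent _ hlt
  refine h2.not_ge fun y hy' => hy y y.2 ?_
  rw [Subgroup.mem_normalizer_iff]
  intro r
  constructor
  · intro hr
    have := (Subgroup.mem_normalizer_iff.1 hy' ⟨r, hP hr⟩).1 hr
    exact this
  · intro hr
    have hrP : r ∈ (P : Subgroup G) := by
      have := mul_mem (mul_mem (inv_mem y.2) (hP hr)) y.2
      rwa [show (y : G)⁻¹ * ((y : G) * r * (y : G)⁻¹) * y = r by group] at this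
    exact (Subgroup.mem_normalizer_iff.1 hy' ⟨r, hrP⟩).2 hr

/-- Let p be an odd prime and G a finite group of even order divisible by p in which the centralizer of every non-identity p-element has odd order. Then either G has an irreducible character of p-defect zero, or the normalizer of every Sylow p-subgroup P of G has even order and P is abelian. -/
theorem result {G : Type*} [Group G] [Finite G] (p : ℕ) [Fact p.Prime] (hp2 : p ≠ 2) (hpG : p ∣ Nat.card G) (h2G : 2 ∣ Nat.card G) (hC : ∀ g : G, g ≠ 1 → (∃ k : ℕ, orderOf g = p ^ k) → Odd (Nat.card ↥(Subgroup.centralizer ({g} : Set G)))) : (∃ χ : Cfsg.IrrCharacter G, (Cfsg.charDegree (χ : G → ℂ)).factorization p = (Nat.card G).factorization p) ∨ ∀ P : Sylow p G, Even (Nat.card ↥(Subgroup.normalizer ((P : Subgroup G) : Set G))) ∧ IsMulCommutative ↥(P : Subgroup G) := by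
  haveI : Fact (Nat.Prime 2) := ⟨Nat.prime_two⟩
  rcases Cfsg.Agent.S4742.result p 2 hp2 hpG h2G
    (fun g hg hk h => Nat.not_even_iff_odd.2 (hC g hg hk) (even_iff_two_dvd.2 h)) with h | h
  · exact Or.inl h
  · right
    obtain ⟨z, hz⟩ := exists_prime_orderOf_dvd_card' (G := G) 2 h2G
    have hz1 : z ≠ 1 := fun e => by rw [e, orderOf_one] at hz; exact absurd hz (by norm_num)
    obtain ⟨g, h', hg, hh, hne, hord⟩ := h z hz1 ⟨1, by rw [hz, pow_one]⟩
    have hord2 : ∀ a : G, IsConj z a → orderOf a = 2 := by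
      intro a ha
      obtain ⟨c, rfl⟩ := isConj_iff.1 ha
      exact ((MulAut.conj c).orderOf_eq z).trans hz
    have hinv : ∀ a : G, IsConj z a → a⁻¹ = a := fun a ha =>
      inv_eq_of_mul_eq_one_right (by rw [← pow_two, ← hord2 a ha]; exact pow_orderOf_eq_one a)
    obtain ⟨P0, hn, hab⟩ := sylow_structure hC (hord2 g hg) hne hord (by
      rw [mul_inv_rev, inv_inv, hinv g hg, hinv h' hh,
        show g * (g * h') * g = (g * g) * h' * g by group]
      nth_rw 1 [← hinv g hg]
      rw [inv_mul_cancel, one_mul])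
    intro P
    obtain ⟨c, hc⟩ := MulAction.exists_smul_eq G P0 P
    have hmem : ∀ a, a ∈ (P : Subgroup G) ↔ c⁻¹ * a * c ∈ (P0 : Subgroup G) := fun a => by
      rw [← hc, Sylow.coe_subgroup_smul]
      constructor
      · rintro ⟨b, hb, rfl⟩
        show c⁻¹ * (c * b * c⁻¹) * c ∈ _
        rwa [show c⁻¹ * (c * b * c⁻¹) * c = b by group]
      · intro ha
        exact ⟨_, ha, show c * (c⁻¹ * a * c) * c⁻¹ = a by group⟩
    refine ⟨?_, ⟨⟨fun a b => Subtype.ext ?_⟩⟩⟩
    · have hfwd : ∀ a ∈ (P : Subgroup G), c * g * c⁻¹ * a * (c * g * c⁻¹)⁻¹ ∈ (P : Subgroup G) := by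
        intro a ha
        rw [hmem]
        have := hn _ ((hmem a).1 ha)
        rwa [show c⁻¹ * (c * g * c⁻¹ * a * (c * g * c⁻¹)⁻¹) * c = g * (c⁻¹ * a * c) * g⁻¹ by group]
      have hmemN : c * g * c⁻¹ ∈ Subgroup.normalizer ((P : Subgroup G) : Set G) := by
        rw [Subgroup.mem_normalizer_iff]
        refine fun a => ⟨hfwd a, fun ha => ?_⟩
        have h1 := hfwd _ ha
        have e : (c * g * c⁻¹) * (c * g * c⁻¹) = 1 := by
          rw [show c * g * c⁻¹ * (c * g * c⁻¹) = c * (g * g) * c⁻¹ by group]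
          nth_rw 1 [← hinv g hg]
          rw [inv_mul_cancel, mul_one, mul_inv_cancel]
        rwa [show c * g * c⁻¹ * (c * g * c⁻¹ * a * (c * g * c⁻¹)⁻¹) * (c * g * c⁻¹)⁻¹ =
          (c * g * c⁻¹ * (c * g * c⁻¹)) * a * ((c * g * c⁻¹) * (c * g * c⁻¹))⁻¹ by group, e,
          inv_one, one_mul, mul_one] at h1
      have := Subgroup.orderOf_dvd_natCard _ hmemN
      rw [hord2 _ (hg.trans (isConj_iff.2 ⟨c, rfl⟩))] at this
      exact even_iff_two_dvd.2 this
    · have h1 := hab _ ((hmem a).1 a.2) _ ((hmem b).1 b.2)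
      rw [show c⁻¹ * (a : G) * c * (c⁻¹ * b * c) = c⁻¹ * ((a : G) * b) * c by group,
        show c⁻¹ * (b : G) * c * (c⁻¹ * a * c) = c⁻¹ * ((b : G) * a) * c by group] at h1
      exact mul_left_cancel (mul_right_cancel h1)

end Cfsg.Agent.S4744
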