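import Cfsg.Statements.S5212
import Cfsg.Agent.Lib.Fusion.MetacyclicTwoAut

set_option autoImplicit false
open Cfsg

namespace Cfsg.Agent.S5212

open Cfsg.Agent in
theorem key {Ω : Type*} [Group Ω] {S : Subgroup Ω} [Finite S] (hS : IsPGroup 2 S) (F : Cfsg.FusionSystem S) (hF : F.IsSaturated 2) (hm : Cfsg.IsMetacyclic ↥S) (hex : ¬ MetaTwo.Exceptional ↥S) (hh : ¬ ∃ n k : ℕ, Nonempty (↥S ≃* Multiplicative (Fin k → ZMod (2 ^ n)))) : ∀ P : Subgroup Ω, F.Hom P = (Cfsg.innerFusionSystem S).Hom P := by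
  haveI : Fact (Nat.Prime 2) := ⟨Nat.prime_two⟩
  have hN : F.IsNormal S := FusionSys.metacyclic_two_normal hS hF (FusionSys.stronglyClosed_self F) hm hex
  have hinn := FusionSys.autGroup_top_eq_inn hS hF ((MetaTwo.isPGroup_mulAut hS hm hex hh).to_subgroup _)
  refine fun P => Set.Subset.antisymm (fun φ hφ => ?_) fun φ hφ => ?_
  · have hPS := (F.le_of_mem hφ).1
    obtain ⟨α, hα, hαe⟩ := FusionSys.exists_aut_of_isNormal hN hPS hφ
    rw [hinn, FusionSys.inn_eq_autInducedBy_self, FusionSys.mem_autInducedBy_iff] at hα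
    obtain ⟨g, hg, he⟩ := hα
    exact ⟨hPS, g, hg, fun x => by rw [← hαe x, he]; rfl⟩
  · obtain ⟨hPS, g, hg, he⟩ := hφ
    exact FusionSys.hom_congr F (F.conj_mem hPS hg) fun x => he x

/-- Let S be a finite metacyclic 2-group that is not homocyclic abelian (a direct product of cyclic groups of one common order), not dihedral, not semidihedral and not generalized quaternion. Then every saturated fusion system over S is the inner fusion system of S. -/
theorem result {Ω : Type*} [Group Ω] {S : Subgroup Ω} [Finite S] (hS : IsPGroup 2 S) (F : Cfsg.FusionSystem S) (hF : F.IsSaturated 2) (hm : Cfsg.IsMetacyclic ↥S) (hh : ¬ ∃ n k : ℕ, Nonempty (↥S ≃* Multiplicative (Fin k → ZMod (2 ^ n)))) (hd : ¬ ∃ m : ℕ, Nonempty (↥S ≃* DihedralGroup m)) (hq : ¬ ∃ m : ℕ, Nonempty (↥S ≃* QuaternionGroup m)) (hsd : ¬ Cfsg.IsQuasiDihedral ↥S) : ∀ P : Subgroup Ω, F.Hom P = (Cfsg.innerFusionSystem S).Hom P := by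
  refine key hS F hF hm ?_ hh
  rintro (h | h | h)
  exacts [hd h, hq h, hsd h]

end Cfsg.Agent.S5212
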