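import Cfsg.Statements.S0735
import Mathlib.GroupTheory.GroupAction.Primitive
import Mathlib.GroupTheory.GroupAction.SubMulAction.Combination
-- import your own Cfsg.Agent.* helpers here

set_option autoImplicit false
set_option linter.style.haveILetI false
open Cfsg
open scoped Pointwise

namespace Cfsg.Agent.S0735

/-- A 2-homogeneous permutation group (transitive on 2-subsets) of even order is doubly transitive; a non-trivial 2-homogeneous group is primitive. -/
theorem result {α : Type*} [Fintype α] [DecidableEq α] (G : Subgroup (Equiv.Perm α)) (h2 : MulAction.IsPretransitive G (Set.powersetCard α 2)) (hα : 3 ≤ Fintype.card α) : (Even (Nat.card G) → MulAction.IsMultiplyPretransitive G α 2) ∧ (G ≠ ⊥ → MulAction.IsPreprimitive G α) := by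
  have hpair : ∀ a b c d : α, a ≠ b → c ≠ d →
      ∃ g : G, (g • a = c ∧ g • b = d) ∨ (g • a = d ∧ g • b = c) := by
    intro a b c d hab hcd
    obtain ⟨g, hg⟩ := h2.exists_smul_eq ⟨{a, b}, Finset.card_pair hab⟩ ⟨{c, d}, Finset.card_pair hcd⟩
    have hg' : g • ({a, b} : Finset α) = {c, d} := by
      exact (Set.powersetCard.coe_smul (g := g) (s := ⟨{a, b}, Finset.card_pair hab⟩)).symm.trans
        (congrArg (fun s : Set.powersetCard α 2 => (s : Finset α)) hg)
    refine ⟨g, ?_⟩
    have ha : g • a ∈ ({c, d} : Finset α) := hg' ▸ Finset.smul_mem_smul_finset (by simp)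
    have hb : g • b ∈ ({c, d} : Finset α) := hg' ▸ Finset.smul_mem_smul_finset (by simp)
    simp only [Finset.mem_insert, Finset.mem_singleton] at ha hb
    have hne : g • a ≠ g • b := fun e => hab (smul_left_cancel g e)
    rcases ha with ha | ha <;> rcases hb with hb | hb
    · exact absurd (ha.trans hb.symm) hne
    · exact Or.inl ⟨ha, hb⟩
    · exact Or.inr ⟨ha, hb⟩
    · exact absurd (ha.trans hb.symm) hne
  have hT : MulAction.IsPretransitive G α := by
    refine ⟨fun a b => ?_⟩
    rcases eq_or_ne a b with rfl | hab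
    · exact ⟨1, one_smul _ _⟩
    obtain ⟨c, hca, hcb⟩ : ∃ c, c ≠ a ∧ c ≠ b := by
      by_contra hno
      have hle : Fintype.card α ≤ ({a, b} : Finset α).card :=
        Finset.card_le_card fun c _ => by
          by_contra hc
          simp only [Finset.mem_insert, Finset.mem_singleton, not_or] at hc
          exact hno ⟨c, hc.1, hc.2⟩
      have := Finset.card_le_two (a := a) (b := b)
      omega
    obtain ⟨g, h | h⟩ := hpair a c b c hca.symm hcb.symm
    · exact ⟨g, h.1⟩
    · exact ⟨g * g, by rw [mul_smul, h.1, h.2]⟩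
  refine ⟨fun heven => ?_, fun _ => ⟨fun {B} hB => ?_⟩⟩
  · rw [MulAction.is_two_pretransitive_iff]
    intro a b c d hab hcd
    haveI := Fact.mk Nat.prime_two
    obtain ⟨t, ht⟩ := exists_prime_orderOf_dvd_card' 2 (even_iff_two_dvd.1 heven)
    obtain ⟨x, hx⟩ : ∃ x, t • x ≠ x := by
      refine Classical.byContradiction fun hno => ?_
      rw [not_exists] at hno
      have ht1 : t = 1 := Subtype.ext (Equiv.ext fun x => not_not.1 (hno x))
      rw [ht1, orderOf_one] at ht
      omega
    have htt : t • t • x = x := by rw [← mul_smul, ← sq, ← ht, pow_orderOf_eq_one, one_smul]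
    obtain ⟨g, h | h⟩ := hpair a b c d hab hcd
    · exact ⟨g, h⟩
    obtain ⟨k, hk | hk⟩ := hpair x (t • x) c d hx.symm hcd
    · have hc : k⁻¹ • c = x := inv_smul_eq_iff.2 hk.1.symm
      have hd : k⁻¹ • d = t • x := inv_smul_eq_iff.2 hk.2.symm
      exact ⟨k * t * k⁻¹ * g, by rw [mul_smul, h.1, mul_smul, mul_smul, hd, htt, hk.1],
        by rw [mul_smul, h.2, mul_smul, mul_smul, hc, hk.2]⟩
    · have hd : k⁻¹ • d = x := inv_smul_eq_iff.2 hk.1.symm
      have hc : k⁻¹ • c = t • x := inv_smul_eq_iff.2 hk.2.symm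
      exact ⟨k * t * k⁻¹ * g, by rw [mul_smul, h.1, mul_smul, mul_smul, hd, hk.2],
        by rw [mul_smul, h.2, mul_smul, mul_smul, hc, htt, hk.1]⟩
  · by_cases hs : B.Subsingleton
    · exact Or.inl hs
    right
    obtain ⟨a, ha, b, hb, hab⟩ := (Set.not_subsingleton_iff.1 hs)
    refine Set.eq_univ_of_forall fun c => ?_
    rcases eq_or_ne a c with rfl | hac
    · exact ha
    have key := MulAction.isBlock_iff_smul_eq_of_mem.1 hB
    obtain ⟨g, h | h⟩ := hpair a b a c hab hac
    · rw [← key ha (h.1.symm ▸ ha : g • a ∈ B), ← h.2]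
      exact ⟨b, hb, rfl⟩
    · rw [← key hb (h.2.symm ▸ ha : g • b ∈ B), ← h.1]
      exact ⟨a, ha, rfl⟩

end Cfsg.Agent.S0735
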