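import Cfsg.Statements.S3820


set_option autoImplicit false
open Cfsg

namespace Cfsg.Agent.S3820

/-- Call a subgroup H of G pronormal if H and gHg⁻¹ are conjugate inside ⟨H, gHg⁻¹⟩ for every g ∈ G. Let S ≤ H ≤ G be subgroups of a finite group with S pronormal in G (for instance S a Sylow subgroup). Then H is pronormal in G if and only if H and gHg⁻¹ are conjugate inside ⟨H, gHg⁻¹⟩ for every g ∈ N_G(S). In particular H is pronormal whenever N_G(S) ≤ H. -/
theorem result {G : Type*} [Group G] [Finite G] (S H : Subgroup G) (hSH : S ≤ H)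
    (hS : Cfsg.IsPronormal S) :
    Cfsg.IsPronormal H ↔
      ∀ g ∈ Subgroup.normalizer (S : Set G), ∃ w ∈ H ⊔ H.map (MulAut.conj g).toMonoidHom,
        H.map (MulAut.conj g).toMonoidHom = H.map (MulAut.conj w).toMonoidHom := by
  refine ⟨fun h g _ => h g, fun h g => ?_⟩
  obtain ⟨w, hw, hwe⟩ := hS g
  have hJ : S ⊔ S.map (MulAut.conj g).toMonoidHom ≤ H ⊔ H.map (MulAut.conj g).toMonoidHom :=
    sup_le_sup hSH (Subgroup.map_mono hSH)
  have hn : w⁻¹ * g ∈ Subgroup.normalizer (S : Set G) := by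
    rw [Subgroup.mem_normalizer_iff_map_conj_eq]
    have h2 := congrArg (Subgroup.map (MulAut.conj w⁻¹).toMonoidHom) hwe
    rw [Subgroup.map_map, Subgroup.map_map] at h2
    convert h2 using 1
    · congr 1; ext y; simp [mul_assoc]
    · conv_lhs => rw [← Subgroup.map_id S]
      congr 1; ext y; simp [mul_assoc]
  obtain ⟨x, hx, hxe⟩ := h _ hn
  have hwg : H.map (MulAut.conj (w⁻¹ * g)).toMonoidHom ≤
      H ⊔ H.map (MulAut.conj g).toMonoidHom := by
    rintro _ ⟨y, hy, rfl⟩
    have hy' : g * y * g⁻¹ ∈ H ⊔ H.map (MulAut.conj g).toMonoidHom :=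
      Subgroup.mem_sup_right ⟨y, hy, rfl⟩
    have h3 := mul_mem (mul_mem (inv_mem (hJ hw)) hy') (hJ hw)
    simpa [mul_assoc] using h3
  refine ⟨w * x, mul_mem (hJ hw) (sup_le le_sup_left hwg hx), ?_⟩
  have h2 := congrArg (Subgroup.map (MulAut.conj w).toMonoidHom) hxe
  rw [Subgroup.map_map, Subgroup.map_map] at h2
  convert h2 using 1
  · congr 1; ext y; simp [mul_assoc]
  · congr 1; ext y; simp [mul_assoc]

end Cfsg.Agent.S3820
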