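import Cfsg.Statements.S2222
import Cfsg.Agent.S3820
import Cfsg.Agent.Lib.Perm.SylowTwoNormalizer

set_option autoImplicit false
open Cfsg

namespace Cfsg.Agent.S2222

theorem sylow_pronormal {G : Type*} [Group G] [Finite G] (S : Sylow 2 G) :
    Cfsg.IsPronormal (S : Subgroup G) := by
  have : Fact (Nat.Prime 2) := ⟨Nat.prime_two⟩
  intro g
  set K := (S : Subgroup G) ⊔ (S : Subgroup G).map (MulAut.conj g).toMonoidHom
  have hS : (S : Subgroup G) ≤ K := le_sup_left
  have hT : ((g • S : Sylow 2 G) : Subgroup G) ≤ K := le_sup_right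
  obtain ⟨x, hx⟩ := MulAction.exists_smul_eq K (S.subtype hS) ((g • S).subtype hT)
  rw [Sylow.smul_subtype hS x] at hx
  exact ⟨x, x.2, congrArg (fun P : Sylow 2 G => (P : Subgroup G)) (Sylow.subtype_injective hx).symm⟩

theorem pronormal_of_index_prime {G : Type*} [Group G] [Finite G] {H : Subgroup G}
    (hp : H.index = 1 ∨ H.index.Prime) : Cfsg.IsPronormal H := by
  intro g
  set K := H ⊔ H.map (MulAut.conj g).toMonoidHom
  have hle : H ≤ K := le_sup_left
  have hmul := Subgroup.relIndex_mul_index hle
  have h' : K = H ∨ K = ⊤ := by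
    rcases hp with h1 | h1
    · exact Or.inr (top_unique ((Subgroup.index_eq_one.mp h1).symm.le.trans hle))
    · rcases h1.eq_one_or_self_of_dvd K.index (Subgroup.index_dvd_of_le hle) with e | e
      · exact Or.inr (Subgroup.index_eq_one.mp e)
      · left
        rw [e] at hmul
        have : H.relIndex K = 1 := Nat.eq_of_mul_eq_mul_right h1.pos (hmul.trans (one_mul _).symm)
        exact le_antisymm (Subgroup.relIndex_eq_one.mp this) hle
  rcases h' with e | e
  · refine ⟨1, Subgroup.one_mem _, ?_⟩
    have hle' : H.map (MulAut.conj g).toMonoidHom ≤ H := le_sup_right.trans e.le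
    rw [Subgroup.eq_of_le_of_card_ge hle' (by rw [Subgroup.card_map_of_injective (MulAut.conj g).injective]),
      show (MulAut.conj (1 : G)).toMonoidHom = MonoidHom.id G by ext y; simp, Subgroup.map_id]
  · exact ⟨g, e ▸ Subgroup.mem_top g, rfl⟩


/-- In the alternating group of degree n ≥ 5 every subgroup H of odd index is pronormal: for every element g, the subgroups H and gHg⁻¹ are conjugate by an element of the subgroup they generate. -/
theorem result (n : ℕ) (hn : 5 ≤ n)
    (H : Subgroup (alternatingGroup (Fin n))) (hH : Odd H.index) : Cfsg.IsPronormal H := by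
  have : Fact (Nat.Prime 2) := ⟨Nat.prime_two⟩
  have : Nontrivial (Fin n) := Fin.nontrivial_iff_two_le.mpr (by omega)
  obtain ⟨S0, hS0⟩ := (IsPGroup.of_bot (p := 2) (G := ↥H)).exists_le_sylow
  obtain ⟨S, hS⟩ := (S0.isPGroup'.map H.subtype).exists_le_sylow
  have hSH : (S : Subgroup (alternatingGroup (Fin n))) ≤ H := by
    have hp : IsPGroup 2 ↥((S0 : Subgroup H).map H.subtype) := S0.isPGroup'.map H.subtype
    have hi : ¬ 2 ∣ ((S0 : Subgroup H).map H.subtype).index := by
      rw [Subgroup.index_map_subtype]
      intro hd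
      rcases Nat.prime_two.dvd_mul.mp hd with e | e
      · exact S0.not_dvd_index e
      · exact Nat.not_even_iff_odd.mpr hH (even_iff_two_dvd.mpr e)
    have := (hp.toSylow hi).3 S.isPGroup' hS
    exact this.le.trans (Subgroup.map_subtype_le _)
  rcases Nat.lt_or_ge n 6 with h6 | h6
  · obtain rfl : n = 5 := by omega
    have hcard : Nat.card (alternatingGroup (Fin 5)) = 60 := by
      rw [nat_card_alternatingGroup, Nat.card_fin]; rfl
    have hd : H.index ∣ 60 := hcard ▸ H.index_dvd_card
    have hcases : (H.index = 1 ∨ H.index.Prime) ∨ H.index = 15 := by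
      have hle : H.index ≤ 60 := Nat.le_of_dvd (by norm_num) hd
      obtain ⟨j, hj⟩ := hH
      rw [hj] at hd hle ⊢
      have : j ≤ 29 := by omega
      interval_cases j <;> first | (norm_num at hd; done) | norm_num
    rcases hcases with e | e
    · exact pronormal_of_index_prime e
    · suffices heq : (S : Subgroup (alternatingGroup (Fin 5))) = H from heq ▸ sylow_pronormal S
      refine Subgroup.eq_of_le_of_card_ge hSH ?_
      have h1 := H.card_mul_index
      rw [e, hcard] at h1
      have h2 : 4 ≤ Nat.card (S : Subgroup (alternatingGroup (Fin 5))) := by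
        have h4 : 2 ^ 2 ∣ Nat.card (S : Subgroup (alternatingGroup (Fin 5))) :=
          S.pow_dvd_card_of_pow_dvd_card (by rw [hcard]; norm_num)
        exact Nat.le_of_dvd Nat.card_pos h4
      omega
  · rw [Agent.S3820.result _ H hSH (sylow_pronormal S)]
    intro g hg
    rw [Agent.SylTwoNorm.normalizer_sylow_two_alternating h6 S] at hg
    exact ⟨g, Subgroup.mem_sup_left (hSH hg), rfl⟩

end Cfsg.Agent.S2222
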