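import Cfsg.Statements.S0633
import Cfsg.Agent.Lib.Solvable.HHThmB

set_option autoImplicit false
open Cfsg

namespace Cfsg.Agent.S0633

/-- Theorem B of Hall and Higman on the minimal polynomial of a p-element of order p^n in a p-solvable linear group on a nonzero vector space in characteristic p with no nontrivial normal p-subgroup: its degree is p^n, except when some p^n₀ - 1 (n₀ ≤ n) is a power of a prime q for which the Sylow q-subgroups are non-abelian, in which case the degree is at least p^(n-n₀)(p^n₀ - 1). -/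
theorem result {F : Type*} [Field F] {p : ℕ} [Fact p.Prime] [CharP F p] {V : Type*} [AddCommGroup V] [Module F V] [FiniteDimensional F V] [Nontrivial V] (H : Subgroup (V ≃ₗ[F] V)) [Finite H] (hsol : Cfsg.IsPSolvable p H) (hOp : Cfsg.pCore p H = ⊥) (x : V ≃ₗ[F] V) (hx : x ∈ H) (n : ℕ) (hn : orderOf x = p ^ n) (r : ℕ) (hr : minpoly F (x : Module.End F V) = (Polynomial.X - 1) ^ r) : r = p ^ n ∨ ∃ n₀ q m : ℕ, 1 ≤ n₀ ∧ n₀ ≤ n ∧ q.Prime ∧ 1 ≤ m ∧ p ^ n₀ - 1 = q ^ m ∧ (∀ Q : Sylow q H, ¬ IsMulCommutative Q) ∧ p ^ (n - n₀) * (p ^ n₀ - 1) ≤ r := by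
  let ρ : H →* Module.End F V :=
    (LinearEquiv.automorphismGroup.toLinearMapMonoidHom (R := F) (M := V)).comp H.subtype
  have hρ : Function.Injective ρ := fun a b h => Subtype.ext (LinearEquiv.toLinearMap_injective h)
  set T : Module.End F V := (x : Module.End F V) with hT
  have hρx : ρ ⟨x, hx⟩ = T := rfl
  have h0 : (T - 1) ^ r = 0 := by
    have := minpoly.aeval F T
    rw [hr] at this
    simpa using this
  have hxo : orderOf (⟨x, hx⟩ : H) = p ^ n := by rw [Subgroup.orderOf_mk, hn]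
  have hT1 : T ^ p ^ n = 1 := by
    rw [← hρx, ← map_pow, ← hxo, pow_orderOf_eq_one, map_one]
  have hle : r ≤ p ^ n := by
    have hann : Polynomial.aeval T (((Polynomial.X : Polynomial F) - 1) ^ p ^ n) = 0 := by
      rw [sub_pow_char_pow, one_pow]
      simp [hT1]
    have h1 := Polynomial.natDegree_le_of_dvd (minpoly.dvd F T hann)
      (pow_ne_zero _ (Polynomial.X_sub_C_ne_zero 1))
    rw [hr, Polynomial.natDegree_pow, Polynomial.natDegree_pow] at h1
    have hd : ((Polynomial.X : Polynomial F) - 1).natDegree = 1 := Polynomial.natDegree_X_sub_C 1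
    rwa [hd, mul_one, mul_one] at h1
  have hgt : ∀ k : ℕ, (T - 1) ^ k ≠ 0 → k + 1 ≤ r := by
    intro k hk
    by_contra hcon
    exact hk (by rw [← Nat.sub_add_cancel (show r ≤ k by omega), pow_add, h0, mul_zero])
  have hpos : 1 ≤ r := by
    have := hgt 0 (by rw [pow_zero]; exact one_ne_zero)
    omega
  rcases Nat.eq_zero_or_pos n with rfl | hn1
  · left
    rw [pow_zero] at hle ⊢
    omega
  rcases HHThmB.exists_bound ρ hρ hsol hOp ⟨x, hx⟩ n hn1 hxo with h | ⟨n₀, q, m, h1, h2, h3, h4, h5, h6, h7⟩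
  · left
    have := hgt _ (hρx ▸ h)
    omega
  · right
    refine ⟨n₀, q, m, h1, h2, h3, h4, h5, h6, ?_⟩
    have := hgt _ (hρx ▸ h7)
    omega

end Cfsg.Agent.S0633
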