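import Cfsg.Statements.S0824
import Cfsg.Agent.Lib.Orthogonal.Counts
import Cfsg.Agent.Lib.Orthogonal.Matrix

set_option autoImplicit false
open Cfsg Matrix

namespace Cfsg.Agent.S0824

/-- O⁻_4(2) ≅ S_5: the isometry group of the form x y + z_1² + z_1 z_2 + z_2² over the field with 2 elements is isomorphic to the symmetric group on 5 letters. -/
theorem result {F : Type*} [Field F] [Fintype F] (hF : Fintype.card F = 2) : Nonempty (↥(Cfsg.isometryGroup F (Cfsg.quadFormMinus 1 F 1 1)) ≃* Equiv.Perm (Fin 5)) := by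
  classical
  have hc : ∀ c : F, c = 0 ∨ c = 1 := by
    intro c
    by_contra h
    push Not at h
    have h3 : ({0, 1, c} : Finset F).card = 3 := by
      rw [Finset.card_insert_of_notMem (by simp [Ne.symm h.1]), Finset.card_insert_of_notMem (by simp [Ne.symm h.2]),
        Finset.card_singleton]
    have := Finset.card_le_univ ({0, 1, c} : Finset F)
    omega
  have h2 : (2 : F) = 0 := by
    rcases hc 2 with h | h
    · exact h
    · exfalso; exact one_ne_zero (show (1 : F) = 0 by linear_combination h)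
  have hab : ∀ z₁ z₂ : F, z₁ ^ 2 + 1 * z₁ * z₂ + 1 * z₂ ^ 2 = 0 → z₁ = 0 ∧ z₂ = 0 := by
    intro z₁ z₂ h
    rcases hc z₁ with rfl | rfl <;> rcases hc z₂ with rfl | rfl
    · exact ⟨rfl, rfl⟩
    · simp at h
    · simp at h
    · exfalso; exact one_ne_zero (show (1 : F) = 0 by linear_combination h - h2)
  have hF' : Nat.card F = 2 := by rw [Nat.card_eq_fintype_card, hF]
  have hG : Nat.card ↥(Cfsg.isometryGroup F (Cfsg.quadFormMinus 1 F 1 1)) = 120 := by
    rw [← Orth.coe_qMinus, Nat.card_congr (Orth.isoEquiv (Orth.qMinus F 1 1 1)).toEquiv,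
      Orth.card_oGroup_qMinus hab, hF']
    rfl
  set Q : ((Fin 1 ⊕ Fin 1) ⊕ Fin 2 → F) → F := Cfsg.quadFormMinus 1 F 1 1 with hQ
  let T := {v : (Fin 1 ⊕ Fin 1) ⊕ Fin 2 → F // Q v = 0 ∧ v ≠ 0}
  have hT : Nat.card T = 5 := by
    have hz := Orth.zeros_qMinus (F := F) hab 1
    rw [hF'] at hz
    have h0 : Q 0 = 0 := by simp [hQ, Cfsg.quadFormMinus]
    have e : {v : (Fin 1 ⊕ Fin 1) ⊕ Fin 2 → F // Q v = 0} ≃ Option T :=
      { toFun := fun v => if h : v.1 = 0 then none else some ⟨v.1, v.2, h⟩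
        invFun := fun o => o.elim ⟨0, h0⟩ fun t => ⟨t.1, t.2.1⟩
        left_inv := fun v => by
          by_cases h : v.1 = 0
          · simp [h]; exact Subtype.ext h.symm
          · simp [h]
        right_inv := fun o => by
          cases o with
          | none => simp
          | some t => simp [t.2.2] }
    have h := Nat.card_congr e
    rw [Finite.card_option] at h
    have hz' : Nat.card {v : (Fin 1 ⊕ Fin 1) ⊕ Fin 2 → F // Q v = 0} = Nat.card {v // Orth.qMinus F 1 1 1 v = 0} := by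
      rw [hQ, ← Orth.coe_qMinus]
    omega
  let act : ↥(Cfsg.isometryGroup F Q) → Equiv.Perm T := fun g =>
    { toFun := fun v => ⟨g.1.1 *ᵥ v.1, (g.2 v.1 v.1).trans v.2.1, fun e => v.2.2 (by
          have h := congrArg ((g⁻¹).1.1 *ᵥ ·) e
          simp only [Matrix.mulVec_mulVec, Matrix.mulVec_zero, ← Units.val_mul, ← Subgroup.coe_mul, inv_mul_cancel] at h
          simpa using h)⟩
      invFun := fun v => ⟨(g⁻¹).1.1 *ᵥ v.1, ((g⁻¹).2 v.1 v.1).trans v.2.1, fun e => v.2.2 (by
          have h := congrArg (g.1.1 *ᵥ ·) e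
          simp only [Matrix.mulVec_mulVec, Matrix.mulVec_zero, ← Units.val_mul, ← Subgroup.coe_mul, mul_inv_cancel] at h
          simpa using h)⟩
      left_inv := fun v => Subtype.ext (by
        show (g⁻¹).1.1 *ᵥ (g.1.1 *ᵥ v.1) = v.1
        rw [Matrix.mulVec_mulVec, ← Units.val_mul, ← Subgroup.coe_mul, inv_mul_cancel]; simp)
      right_inv := fun v => Subtype.ext (by
        show g.1.1 *ᵥ ((g⁻¹).1.1 *ᵥ v.1) = v.1
        rw [Matrix.mulVec_mulVec, ← Units.val_mul, ← Subgroup.coe_mul, mul_inv_cancel]; simp) }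
  let φ : ↥(Cfsg.isometryGroup F Q) →* Equiv.Perm T := MonoidHom.mk' act fun g h => Equiv.ext fun v =>
    Subtype.ext (Matrix.mulVec_mulVec v.1 g.1.1 h.1.1).symm
  have hφ : Function.Injective φ := by
    intro g h e
    apply Subtype.ext
    apply Units.ext
    have key : ∀ v, Q v = 0 → v ≠ 0 → g.1.1 *ᵥ v = h.1.1 *ᵥ v := fun v hv hv0 =>
      congrArg Subtype.val (Equiv.ext_iff.1 e ⟨v, hv, hv0⟩)
    let x : (Fin 1 ⊕ Fin 1) ⊕ Fin 2 → F := Pi.single (.inl (.inl 0)) 1
    let y : (Fin 1 ⊕ Fin 1) ⊕ Fin 2 → F := Pi.single (.inl (.inr 0)) 1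
    have hx := key x (by simp [hQ, x, Cfsg.quadFormMinus])
      (fun e0 => by simpa [x] using congrFun e0 (.inl (.inl 0)))
    have hy := key y (by simp [hQ, y, Cfsg.quadFormMinus])
      (fun e0 => by simpa [y] using congrFun e0 (.inl (.inr 0)))
    have hz : ∀ j : Fin 2, g.1.1 *ᵥ (x + y + Pi.single (.inr j) 1) = h.1.1 *ᵥ (x + y + Pi.single (.inr j) 1) := fun j =>
      key _ (by
          fin_cases j <;> simp [hQ, x, y, Cfsg.quadFormMinus] <;> linear_combination h2)
        (fun e0 => by simpa [x, y] using congrFun e0 (.inl (.inl 0)))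
    refine Matrix.ext_of_mulVec_single fun i => ?_
    rcases i with (i | i) | j
    · rw [Subsingleton.elim i 0]; exact hx
    · rw [Subsingleton.elim i 0]; exact hy
    · have h3 := hz j
      rw [Matrix.mulVec_add, Matrix.mulVec_add, Matrix.mulVec_add, Matrix.mulVec_add, hx, hy] at h3
      exact add_left_cancel h3
  have hbij : Function.Bijective φ := (Nat.bijective_iff_injective_and_card φ).2
    ⟨hφ, by rw [hG, Nat.card_perm, hT]; rfl⟩
  exact ⟨(MulEquiv.ofBijective φ hbij).trans (Finite.equivFinOfCardEq hT).permCongrHom⟩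

end Cfsg.Agent.S0824

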