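import Cfsg.Statements.S2545
import Mathlib
import Cfsg.Agent.Lib.Steinberg.FormTwist

set_option autoImplicit false
open Cfsg

namespace Cfsg.Agent.S2545


open Matrix Cfsg.Agent.SLPair

universe u

variable {m : ℕ} {F : Type u} [Field F]

/-- the index identification -/
def idx (m : ℕ) : Fin m ⊕ Fin m ≃ Fin (m + m) :=
  (Equiv.sumCongr (Equiv.refl (Fin m)) Fin.revPerm).trans finSumFinEquiv

/-- the signs -/
def sgnV (m : ℕ) (F : Type u) [Field F] (k : Fin (m + m)) : F := if (k : ℕ) < m then -1 else 1

theorem idx_inl (j : Fin m) : ((idx m (.inl j) : Fin (m + m)) : ℕ) = j := by simp [idx]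

theorem idx_inr (j : Fin m) : ((idx m (.inr j) : Fin (m + m)) : ℕ) = m + (m - 1 - j) := by
  have := j.2
  simp [idx, Fin.val_rev]
  omega

theorem J_reindex : (Matrix.J (Fin m) F).submatrix (idx m).symm (idx m).symm = antiJ (sgnV m F) := by
  ext a b
  obtain ⟨x, rfl⟩ := (idx m).surjective a
  obtain ⟨y, rfl⟩ := (idx m).surjective b
  simp only [Matrix.submatrix_apply, Equiv.symm_apply_apply, antiJ, Matrix.of_apply, sgnV]
  rcases x with j | j <;> rcases y with k | k <;> simp only [Matrix.J, Matrix.fromBlocks_apply₁₁,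
    Matrix.fromBlocks_apply₁₂, Matrix.fromBlocks_apply₂₁, Matrix.fromBlocks_apply₂₂, Matrix.zero_apply,
    Matrix.neg_apply, Matrix.one_apply, Fin.ext_iff, Fin.val_rev, idx_inl, idx_inr]
  all_goals have hj := j.2
  all_goals have hk := k.2
  all_goals split_ifs <;> first | rfl | omega | simp


/-- Let F be a finite field of characteristic p and consider the projective symplectic group PSp_{2m}(F) with m ≥ 1. This group has an irreducible complex character χ whose degree equals the order of a Sylow p-subgroup (namely q^(m²) when #F = q) and whose restriction to any Sylow p-subgroup P is the regular character of P: χ vanishes on the non-identity elements of P. (This is the Steinberg character.) -/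
theorem result {F : Type*} [Field F] [Fintype F] (p : ℕ) [Fact p.Prime] [CharP F p] (m : ℕ) (hm : 1 ≤ m) : ∃ χ : Cfsg.PSp m F → ℂ, Cfsg.IsIrrCharacter (Cfsg.PSp m F) χ ∧ ∀ P : Sylow p (Cfsg.PSp m F), χ 1 = Nat.card P ∧ ∀ x : Cfsg.PSp m F, x ∈ P → x ≠ 1 → χ x = 0 := by
  classical
  obtain ⟨hη, hsk⟩ : (∀ a : Fin (m + m), sgnV m F a.rev = (-1 : F) * sgnV m F a) ∧
      (∀ a : Fin (m + m), ∃ t : F, t ≠ 0 ∧ -((sgnV m F a.rev)⁻¹ * RingHom.id F t * sgnV m F a) = t) := by
    have h : ∀ a : Fin (m + m), sgnV m F a.rev = (-1 : F) * sgnV m F a := fun a => by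
      have := a.2
      simp only [sgnV, Fin.val_rev]
      split_ifs <;> first | omega | simp
    refine ⟨h, fun a => ⟨1, one_ne_zero, ?_⟩⟩
    rw [h a]
    simp only [sgnV]
    split_ifs <;> simp
  have he : ∀ a : Fin (m + m), sgnV m F a ≠ 0 := fun a => by
    simp only [sgnV]; split_ifs <;> simp
  let T : Twist (m + m) F := formTwist (sgnV m F) he (RingHom.id F) (-1) hη (fun a => rfl) hsk
  have hmem : ∀ g : Matrix.SpecialLinearGroup (Fin (m + m)) F,
      g ∈ T.G ↔ g.1.submatrix (idx m) (idx m) ∈ Matrix.symplecticGroup (Fin m) F := fun g => by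
    refine (mem_formTwist (sgnV m F) he (RingHom.id F) (-1) hη (fun a => rfl) (fun a => rfl) hsk g).trans ?_
    rw [SymplecticGroup.mem_iff', ← J_reindex, show g.1.map (RingHom.id F) = g.1 from rfl]
    constructor
    · intro h
      have := congrArg (fun M : Matrix (Fin (m + m)) (Fin (m + m)) F => M.submatrix (idx m) (idx m)) h
      simpa [← Matrix.submatrix_mul_equiv _ _ (idx m) (idx m) (idx m)] using this
    · intro h
      have := congrArg (fun M => Matrix.submatrix M (idx m).symm (idx m).symm) h
      simpa [← Matrix.submatrix_mul_equiv _ _ (idx m).symm (idx m).symm (idx m).symm] using this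
  let e : T.G ≃* Matrix.symplecticGroup (Fin m) F :=
    { toFun := fun g => ⟨g.1.1.submatrix (idx m) (idx m), (hmem g.1).1 g.2⟩
      invFun := fun s => ⟨⟨s.1.submatrix (idx m).symm (idx m).symm, by
          rw [Matrix.det_submatrix_equiv_self]; exact SymplecticGroup.det_eq_one s.2⟩, (hmem _).2 (by simp)⟩
      left_inv := fun g => by
        apply Subtype.ext; apply Subtype.ext
        simp
      right_inv := fun s => by
        apply Subtype.ext
        simp
      map_mul' := fun g h => Subtype.ext (Matrix.submatrix_mul_equiv g.1.1 h.1.1 (idx m) (idx m) (idx m)).symm }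
  exact T.steinberg e p

end Cfsg.Agent.S2545
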