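import Cfsg.Statements.S2546
import Mathlib
import Cfsg.Agent.Lib.Steinberg.FormTwist
import Cfsg.Agent.Lib.LinearBlock.UnitarySimilar

set_option autoImplicit false
open Cfsg

namespace Cfsg.Agent.S2546


open Matrix Cfsg.Agent.SLPair Cfsg.Agent.LBUnitary


/-- Let F be a finite field of characteristic p and consider the projective special unitary group PSU_n(q), n ≥ 2, realised over the field F with q² elements. This group has an irreducible complex character χ whose degree equals the order of a Sylow p-subgroup (namely q^(n(n−1)/2)) and whose restriction to any Sylow p-subgroup P is the regular character of P: χ vanishes on the non-identity elements of P. (This is the Steinberg character.) -/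
theorem result {F : Type*} [Field F] [Fintype F] (p : ℕ) [Fact p.Prime] [CharP F p] (n q : ℕ) (hn : 2 ≤ n) (hF : Fintype.card F = q ^ 2) : ∃ χ : Cfsg.PSU n F q → ℂ, Cfsg.IsIrrCharacter (Cfsg.PSU n F q) χ ∧ ∀ P : Sylow p (Cfsg.PSU n F q), χ 1 = Nat.card P ∧ ∀ x : Cfsg.PSU n F q, x ∈ P → x ≠ 1 → χ x = 0 := by
  classical
  obtain ⟨k, -, hk⟩ : ∃ k, k ≤ _ ∧ q = p ^ k := (Nat.dvd_prime_pow (Fact.out : p.Prime)).1
    (show q ∣ p ^ _ from ((dvd_mul_right q q).trans (dvd_of_eq (sq q ▸ hF).symm)).trans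
      (dvd_of_eq (FiniteField.card F p).choose_spec.2))
  obtain ⟨σ, hσ⟩ : ∃ σ : F →+* F, ∀ x, σ x = x ^ q :=
    ⟨iterateFrobenius F p k, fun x => by rw [iterateFrobenius_def, hk]⟩
  have hinv : ∀ a, σ (σ a) = a := fun a => by
    rw [hσ, hσ, ← pow_mul, ← sq, ← hF, FiniteField.pow_card]
  have hq2 : 2 ≤ q := by
    rcases q with - | - | q
    · have := Fintype.one_lt_card (α := F); simp [hF] at this
    · have := Fintype.one_lt_card (α := F); simp [hF] at this
    · omega
  obtain ⟨a₀, ha₀⟩ : ∃ a, σ a ≠ a := by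
    by_contra hcon
    push Not at hcon
    have hsub : (Finset.univ : Finset F).card ≤ (Polynomial.X ^ q - Polynomial.X : Polynomial F).natDegree := by
      refine Polynomial.card_le_degree_of_subset_roots (fun x _ => ?_)
      rw [Polynomial.mem_roots (FiniteField.X_pow_card_sub_X_ne_zero F hq2)]
      simp [← hσ, hcon x]
    rw [Finset.card_univ, hF, FiniteField.X_pow_card_sub_X_natDegree_eq F hq2] at hsub
    nlinarith [hsub]
  have hne : σ ≠ RingHom.id F := fun h => ha₀ (by rw [h]; rfl)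
  obtain ⟨C, hC⟩ := exists_sqrt hne hinv (n := n) (H := antiJ (fun _ => (1 : F))) (by
    have h : antiJ (fun _ : Fin n => (1 : F)) = (1 : Matrix (Fin n) (Fin n) F).submatrix Fin.revPerm id := by
      ext a b
      simp [antiJ, Matrix.one_apply, eq_comm]
    rw [h, Matrix.det_permute, Matrix.det_one, mul_one]
    rcases Int.units_eq_one_or (Equiv.Perm.sign (Fin.revPerm : Equiv.Perm (Fin n))) with h | h <;> simp [h]) (by
    ext a b
    simp only [star', antiJ, Matrix.transpose_apply, Matrix.map_apply, Matrix.of_apply, apply_ite σ, map_one,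
      map_zero]
    refine ite_congr ?_ (fun _ => rfl) (fun _ => rfl)
    exact propext ⟨fun h => by rw [h, Fin.rev_rev], fun h => by rw [h, Fin.rev_rev]⟩)
  let T : Twist n F := formTwist (fun _ => (1 : F)) (fun _ => one_ne_zero) σ 1 (fun a => (one_mul 1).symm)
    (fun a => map_one σ) (fun a => ⟨a₀ - σ a₀, sub_ne_zero.2 (Ne.symm ha₀), by
      rw [map_sub, hinv]; simp⟩)
  have hmem : ∀ g : Matrix.SpecialLinearGroup (Fin n) F,
      g ∈ T.G ↔ SLBlocks.cj C g ∈ Cfsg.SU n F q := fun g => by
    refine (mem_formTwist _ _ σ 1 _ hinv (fun a => map_one σ) _ g).trans ?_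
    have hgu : SLBlocks.cj C g ∈ Cfsg.SU n F q ↔
        Matrix.SpecialLinearGroup.toGL (SLBlocks.cj C g) ∈ Cfsg.GU n F q := Iff.rfl
    rw [hgu, mem_GU hσ hinv]
    show _ ↔ star' σ (C.1 * g.1 * (C⁻¹).1) * (C.1 * g.1 * (C⁻¹).1) = 1
    rw [← hC]
    have h1 : star' σ (C⁻¹).1 * star' σ C.1 = 1 := by rw [← LBUnitary.star_mul', Units.mul_inv, star_one']
    have h2 : star' σ C.1 * star' σ (C⁻¹).1 = 1 := by rw [← LBUnitary.star_mul', Units.inv_mul, star_one']
    constructor
    · intro h
      calc star' σ (C.1 * g.1 * (C⁻¹).1) * (C.1 * g.1 * (C⁻¹).1)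
          = star' σ (C⁻¹).1 * (star' σ g.1 * (star' σ C.1 * C.1) * g.1) * (C⁻¹).1 := by
            simp only [LBUnitary.star_mul', Matrix.mul_assoc]
        _ = star' σ (C⁻¹).1 * (star' σ C.1 * C.1) * (C⁻¹).1 := by rw [show star' σ g.1 * (star' σ C.1 * C.1) * g.1 = _ from h]
        _ = (star' σ (C⁻¹).1 * star' σ C.1) * (C.1 * (C⁻¹).1) := by simp only [Matrix.mul_assoc]
        _ = 1 := by rw [h1, Units.mul_inv, one_mul]
    · intro h
      show star' σ g.1 * (star' σ C.1 * C.1) * g.1 = star' σ C.1 * C.1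
      calc star' σ g.1 * (star' σ C.1 * C.1) * g.1
          = (star' σ C.1 * star' σ (C⁻¹).1) * (star' σ g.1 * (star' σ C.1 * C.1) * g.1) * ((C⁻¹).1 * C.1) := by
            rw [h2, Units.inv_mul, one_mul, mul_one]
        _ = star' σ C.1 * (star' σ (C.1 * g.1 * (C⁻¹).1) * (C.1 * g.1 * (C⁻¹).1)) * C.1 := by
            simp only [LBUnitary.star_mul', Matrix.mul_assoc]
        _ = star' σ C.1 * C.1 := by rw [h, mul_one]
  let e : T.G ≃* Cfsg.SU n F q :=
    { toFun := fun g => ⟨SLBlocks.cj C g, (hmem g).1 g.2⟩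
      invFun := fun s => ⟨(SLBlocks.cj C).symm s, (hmem _).2 (by rw [MulEquiv.apply_symm_apply]; exact s.2)⟩
      left_inv := fun g => Subtype.ext ((SLBlocks.cj C).symm_apply_apply _)
      right_inv := fun s => Subtype.ext ((SLBlocks.cj C).apply_symm_apply _)
      map_mul' := fun g h => Subtype.ext (map_mul (SLBlocks.cj C) _ _) }
  exact T.steinberg e p

end Cfsg.Agent.S2546
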