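import Cfsg.Statements.S2547
import Mathlib
import Cfsg.Agent.Lib.Steinberg.FormTwist
import Cfsg.Agent.Lib.Orthogonal.IndexTwo
import Cfsg.Agent.Lib.Orthogonal.Counts

set_option autoImplicit false
open Cfsg

namespace Cfsg.Agent.S2547


open Matrix Cfsg.Agent.SLPair
open Cfsg.Agent.SLBlocks (uniU isPGroup_uniU)

universe u

variable {m : ℕ} {F : Type u} [Field F]

/-- the index identification -/
def idxOdd (m : ℕ) : Unit ⊕ (Fin m ⊕ Fin m) ≃ Fin (2 * m + 1) where
  toFun x := match x with
    | .inl _ => ⟨m, by omega⟩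
    | .inr (.inl j) => ⟨j, by omega⟩
    | .inr (.inr j) => ⟨2 * m - j, by omega⟩
  invFun k := if h : (k : ℕ) < m then .inr (.inl ⟨k, h⟩)
    else if h2 : (k : ℕ) = m then .inl () else .inr (.inr ⟨2 * m - k, by omega⟩)
  left_inv x := by
    rcases x with ⟨⟩ | j | j
    · simp
    · simp [j.2]
    · have := j.2
      simp only [dif_neg (show ¬ 2 * m - (j : ℕ) < m by omega), dif_neg (show ¬ 2 * m - (j : ℕ) = m by omega)]
      congr
      omega
  right_inv k := by
    by_cases h : (k : ℕ) < m
    · simp [h]
    · by_cases h2 : (k : ℕ) = m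
      · simp only [dif_neg h, dif_pos h2]; exact Fin.ext h2.symm
      · simp only [dif_neg h, dif_neg h2]; apply Fin.ext; simp only; omega

/-- the entries of the polar form -/
def polV (m : ℕ) (F : Type u) [Field F] (k : Fin (2 * m + 1)) : F := if (k : ℕ) = m then 2 else 1

theorem polV_rev (k : Fin (2 * m + 1)) : polV m F k.rev = 1 * polV m F k := by
  have := k.2
  simp only [polV, Fin.val_rev, one_mul]
  split_ifs <;> first | rfl | omega

theorem polar_eq (u v : Unit ⊕ (Fin m ⊕ Fin m) → F) :
    u ⬝ᵥ ((antiJ (polV m F)).submatrix (idxOdd m) (idxOdd m) *ᵥ v) =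
      Cfsg.quadFormOdd m F (u + v) - Cfsg.quadFormOdd m F u - Cfsg.quadFormOdd m F v := by
  classical
  have hrow : ∀ x, ((antiJ (polV m F)).submatrix (idxOdd m) (idxOdd m) *ᵥ v) x =
      polV m F (idxOdd m x) * v ((idxOdd m).symm (idxOdd m x).rev) := by
    intro x
    rw [Matrix.mulVec, dotProduct, Finset.sum_eq_single ((idxOdd m).symm (idxOdd m x).rev)]
    · simp [antiJ]
    · intro b _ hb
      simp only [Matrix.submatrix_apply, antiJ, Matrix.of_apply]
      rw [if_neg (fun h => hb (by rw [← h, Equiv.symm_apply_apply])), zero_mul]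
    · simp
  have h0 : (idxOdd m).symm (idxOdd m (Sum.inl ())).rev = Sum.inl () := by
    rw [Equiv.symm_apply_eq]; apply Fin.ext; simp [idxOdd, Fin.val_rev]; omega
  have hl : ∀ j, (idxOdd m).symm (idxOdd m (Sum.inr (Sum.inl j))).rev = Sum.inr (Sum.inr j) := fun j => by
    rw [Equiv.symm_apply_eq]; apply Fin.ext; simp [idxOdd, Fin.val_rev]
  have hr : ∀ j : Fin m, (idxOdd m).symm (idxOdd m (Sum.inr (Sum.inr j))).rev = Sum.inr (Sum.inl j) := fun j => by
    have := j.2
    rw [Equiv.symm_apply_eq]; apply Fin.ext; simp [idxOdd, Fin.val_rev]; omega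
  have el : ∀ j : Fin m, polV m F (idxOdd m (Sum.inr (Sum.inl j))) = 1 := fun j => by
    have := j.2
    simp [polV, idxOdd, show (j : ℕ) ≠ m by omega]
  have er : ∀ j : Fin m, polV m F (idxOdd m (Sum.inr (Sum.inr j))) = 1 := fun j => by
    have := j.2
    simp [polV, idxOdd, show 2 * m - (j : ℕ) ≠ m by omega]
  have e0 : polV m F (idxOdd m (Sum.inl ())) = 2 := by simp [polV, idxOdd]
  rw [dotProduct, Fintype.sum_sum_type, Fintype.sum_sum_type]
  simp only [hrow, Finset.univ_unique, PUnit.default_eq_unit, Finset.sum_singleton, h0, hl, hr, el, er, e0,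
    one_mul, Cfsg.quadFormOdd, Pi.add_apply, add_mul, mul_add, Finset.sum_add_distrib]
  rw [Finset.sum_congr rfl fun j _ => mul_comm (u (Sum.inr (Sum.inr j))) (v (Sum.inr (Sum.inl j)))]
  ring

theorem mem_iso_iff (h2 : (2 : F) ≠ 0) (g : GL (Unit ⊕ (Fin m ⊕ Fin m)) F) :
    g ∈ Cfsg.isometryGroup F (Cfsg.quadFormOdd m F) ↔
      g.1.transpose * (antiJ (polV m F)).submatrix (idxOdd m) (idxOdd m) * g.1 =
        (antiJ (polV m F)).submatrix (idxOdd m) (idxOdd m) := by
  classical
  obtain ⟨M, hM⟩ : ∃ M, (antiJ (polV m F)).submatrix (idxOdd m) (idxOdd m) = M := ⟨_, rfl⟩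
  have hB : ∀ u v, u ⬝ᵥ ((g.1.transpose * M * g.1) *ᵥ v) =
      Cfsg.quadFormOdd m F (g.1 *ᵥ (u + v)) - Cfsg.quadFormOdd m F (g.1 *ᵥ u) - Cfsg.quadFormOdd m F (g.1 *ᵥ v) := by
    intro u v
    rw [Matrix.mulVec_add, ← polar_eq, hM, ← Matrix.mulVec_mulVec, ← Matrix.mulVec_mulVec, Matrix.dotProduct_mulVec,
      Matrix.vecMul_transpose]
  rw [hM]
  constructor
  · intro h
    ext a b
    have hq : ∀ v, Cfsg.quadFormOdd m F (g.1 *ᵥ v) = Cfsg.quadFormOdd m F v := fun v => h v v
    have h1 := hB (Pi.single a 1) (Pi.single b 1)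
    rw [hq, hq, hq, ← polar_eq, hM] at h1
    simpa [Matrix.mulVec_single_one] using h1
  · intro h v w
    show Cfsg.quadFormOdd m F (g.1 *ᵥ v) = Cfsg.quadFormOdd m F v
    have h1 := hB v v
    rw [h, ← hM, polar_eq] at h1
    have hdouble : ∀ z, Cfsg.quadFormOdd m F (z + z) = 4 * Cfsg.quadFormOdd m F z := fun z => by
      simp only [Cfsg.quadFormOdd, Pi.add_apply, Finset.mul_sum, mul_add]
      congr 1
      · ring
      · exact Finset.sum_congr rfl fun j _ => by ring
    rw [Matrix.mulVec_add, hdouble, hdouble] at h1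
    refine mul_left_cancel₀ h2 ?_
    linear_combination -h1

theorem lo_pow {n : ℕ} [Fintype F] (p : ℕ) [Fact p.Prime] [CharP F p] {g : SLn n F} (hg : g ∈ loU n F) :
    ∃ k, g ^ p ^ k = 1 := by
  obtain ⟨k, hk⟩ := isPGroup_uniU p ⟨g.transpose, hg⟩
  refine ⟨k, Subtype.ext ?_⟩
  have h : g.1ᵀ ^ p ^ k = 1 := congrArg Subtype.val (congrArg Subtype.val hk)
  show g.1 ^ p ^ k = 1
  exact Matrix.transpose_injective (by rw [Matrix.transpose_pow, h, Matrix.transpose_one])


/-- Let F be a finite field of characteristic p and consider the group PΩ_{2m+1}(F) of the quadratic form x₀² + Σ x_i y_i, where m ≥ 1 and #F is odd. This group has an irreducible complex character χ whose degree equals the order of a Sylow p-subgroup (namely q^(m²) when #F = q) and whose restriction to any Sylow p-subgroup P is the regular character of P: χ vanishes on the non-identity elements of P. (This is the Steinberg character.) -/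
theorem result {F : Type*} [Field F] [Fintype F] (p : ℕ) [Fact p.Prime] [CharP F p] (hodd : Odd (Fintype.card F)) (m : ℕ) (hm : 1 ≤ m) : ∃ χ : Cfsg.POmega F (Cfsg.quadFormOdd m F) → ℂ, Cfsg.IsIrrCharacter (Cfsg.POmega F (Cfsg.quadFormOdd m F)) χ ∧ ∀ P : Sylow p (Cfsg.POmega F (Cfsg.quadFormOdd m F)), χ 1 = Nat.card P ∧ ∀ x : Cfsg.POmega F (Cfsg.quadFormOdd m F), x ∈ P → x ≠ 1 → χ x = 0 := by
  classical
  have hp2 : p ≠ 2 := by
    rintro rfl
    have := FiniteField.even_card_of_char_two (F := F) (ringChar.eq F 2)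
    rw [Nat.odd_iff] at hodd; omega
  have h2 : (2 : F) ≠ 0 := Ring.two_ne_zero (by rwa [ringChar.eq F p])
  have he : ∀ k, polV m F k ≠ 0 := fun k => by
    simp only [polV]; split_ifs <;> first | exact h2 | exact one_ne_zero
  let Q := Orth.qOdd F m
  let O := Cfsg.isometryGroup F (Cfsg.quadFormOdd m F)
  let det₁ : O →* Fˣ := Matrix.GeneralLinearGroup.det.comp O.subtype
  let ι : Cfsg.Omega F (Cfsg.quadFormOdd m F) →* SLn (2 * m + 1) F :=
    MonoidHom.mk' (fun o => ⟨o.1.1.1.submatrix (idxOdd m).symm (idxOdd m).symm, by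
      rw [Matrix.det_submatrix_equiv_self]
      exact congrArg Units.val (show det₁ o.1 = 1 from Abelianization.commutator_subset_ker det₁ o.2)⟩)
      (fun a b => Subtype.ext (Matrix.submatrix_mul_equiv a.1.1.1 b.1.1.1 _ (idxOdd m).symm _).symm)
  have hι : Function.Injective ι := fun a b h => by
    refine Subtype.ext (Subtype.ext (Units.ext (Matrix.ext fun x y => ?_)))
    have h1 : a.1.1.1.submatrix (idxOdd m).symm (idxOdd m).symm = b.1.1.1.submatrix (idxOdd m).symm (idxOdd m).symm :=
      congrArg Subtype.val h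
    simpa using congrFun (congrFun h1 (idxOdd m x)) (idxOdd m y)
  have hiff : ∀ g : SLn (2 * m + 1) F, twHom (polV m F) he (RingHom.id F) g = g ↔
      g.1.transpose * antiJ (polV m F) * g.1 = antiJ (polV m F) := fun g => by
    rw [tw_fixed_iff (polV m F) he (RingHom.id F) (fun _ => rfl) (fun _ => rfl) g]
    rw [show g.1.map (RingHom.id F) = g.1 from rfl]
  have hfix : ∀ g ∈ ι.range, twHom (polV m F) he (RingHom.id F) g = g := by
    rintro _ ⟨o, rfl⟩
    refine (hiff _).2 ?_
    have hJ : antiJ (polV m F) =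
        ((antiJ (polV m F)).submatrix (idxOdd m) (idxOdd m)).submatrix (idxOdd m).symm (idxOdd m).symm := by
      ext a b; simp
    show (o.1.1.1.submatrix (idxOdd m).symm (idxOdd m).symm).transpose * antiJ (polV m F) *
      o.1.1.1.submatrix (idxOdd m).symm (idxOdd m).symm = antiJ (polV m F)
    conv_lhs => rw [hJ, Matrix.transpose_submatrix, Matrix.submatrix_mul_equiv, Matrix.submatrix_mul_equiv,
      (mem_iso_iff h2 o.1.1).1 o.1.2]
    exact hJ.symm
  have hpel : ∀ g : SLn (2 * m + 1) F, twHom (polV m F) he (RingHom.id F) g = g → (∃ k, g ^ p ^ k = 1) → g ∈ ι.range := by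
    rintro g hg ⟨k, hk⟩
    obtain ⟨x, hx⟩ : ∃ x : GL (Unit ⊕ (Fin m ⊕ Fin m)) F, x.1 = g.1.submatrix (idxOdd m) (idxOdd m) :=
      ⟨Matrix.GeneralLinearGroup.mkOfDetNeZero (g.1.submatrix (idxOdd m) (idxOdd m))
        (by rw [Matrix.det_submatrix_equiv_self, g.2]; exact one_ne_zero), rfl⟩
    have hxO : x ∈ O := (mem_iso_iff h2 x).2 (by
      rw [hx]
      rw [Matrix.transpose_submatrix, Matrix.submatrix_mul_equiv, Matrix.submatrix_mul_equiv, (hiff g).1 hg])
    have hxk : (⟨x, hxO⟩ : O) ^ p ^ k = 1 := by
      refine Subtype.ext (Units.ext ?_)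
      show x.1 ^ p ^ k = 1
      have hpow : ∀ j : ℕ, (g.1.submatrix (idxOdd m) (idxOdd m)) ^ j = (g.1 ^ j).submatrix (idxOdd m) (idxOdd m) := fun j => by
        induction j with
        | zero => simp
        | succ j ih => rw [pow_succ, pow_succ, ih, Matrix.submatrix_mul_equiv]
      rw [hx, hpow, show g.1 ^ p ^ k = 1 from congrArg Subtype.val hk, Matrix.submatrix_one_equiv]
    have hmem : (⟨x, hxO⟩ : O) ∈ Cfsg.Omega F (Cfsg.quadFormOdd m F) := by
      rw [← QuotientGroup.eq_one_iff, ← orderOf_eq_one_iff]
      refine Nat.eq_one_of_dvd_coprimes (a := p ^ k) (b := 4) ?_ ?_ ?_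
      · rw [show (4 : ℕ) = 2 ^ 2 by norm_num]
        exact ((Nat.coprime_primes Fact.out Nat.prime_two).2 hp2).pow _ _
      · refine orderOf_dvd_of_pow_eq_one ?_
        rw [← QuotientGroup.mk_pow, hxk, QuotientGroup.mk_one]
      · have hi : (Cfsg.Omega F (Cfsg.quadFormOdd m F)).index = 4 := by
          have hodd' : Fintype.card F ≠ 2 := by rw [Nat.odd_iff] at hodd; omega
          rw [← Orth.coe_qOdd, Orth.omega_index Q (Orth.qOdd_nondeg h2 m) (by simp; omega) (Or.inl hodd'),
            (Orth.card_spinVal (F := F)).1 h2]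
        rw [← hi, Subgroup.index_eq_card]
        exact orderOf_dvd_natCard _
    refine ⟨⟨_, hmem⟩, Subtype.ext ?_⟩
    show x.1.submatrix (idxOdd m).symm (idxOdd m).symm = g.1
    rw [hx]; simp
  let T : Twist (2 * m + 1) F :=
    { τ := twHom (polV m F) he (RingHom.id F)
      uni := tw_uni (polV m F) he (RingHom.id F)
      low := tw_low (polV m F) he (RingHom.id F)
      mono := tw_mono (polV m F) he (RingHom.id F)
      root := fun i => by
        by_cases hov : 2 * m + 1 ≤ 2 * (i : ℕ) + 3
        · have hi := i.2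
          let q : Fin (2 * m + 1) := ⟨i, by omega⟩
          let md : Fin (2 * m + 1) := ⟨m, by omega⟩
          have hmd : md.rev = md := Fin.ext (by simp only [Fin.val_rev, md]; omega)
          have hmq : md ≠ q := fun h => by have := congrArg Fin.val h; simp only [md, q] at this; omega
          have hpm : q.rev ≠ md := fun h => by
            have := congrArg Fin.val h; rw [Fin.val_rev] at this; simp only [md, q] at this; omega
          have hpq : q.rev ≠ q := fun h => by
            have := congrArg Fin.val h; rw [Fin.val_rev] at this; simp only [q] at this; omega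
          have hlo : ∀ {a b : Fin (2 * m + 1)} (h : a ≠ b) (t : F), b < a → xSL h t ∈ loU (2 * m + 1) F := by
            intro a b h t hlt
            refine mem_loU.2 ⟨fun x y hxy => ?_, fun x => ?_⟩
            · show transvection a b t x y = 0
              rw [transvection, Matrix.add_apply, Matrix.one_apply_ne hxy.ne, zero_add, Matrix.single_apply_of_ne]
              rintro ⟨rfl, rfl⟩
              exact lt_asymm hxy hlt
            · show transvection a b t x x = 1
              rw [transvection, Matrix.add_apply, Matrix.one_apply_eq, Matrix.single_apply_of_ne, add_zero]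
              rintro ⟨rfl, e0⟩
              exact h e0.symm
          refine ⟨xSL hmq (1 : F) * xSL hpm (-2) * xSL hpq (-1), mul_mem (mul_mem
            (hlo hmq _ (by rw [Fin.lt_def]; simp only [md, q]; omega))
            (hlo hpm _ (by rw [Fin.lt_def, Fin.val_rev]; simp only [md, q]; omega)))
            (hlo hpq _ (by rw [Fin.lt_def, Fin.val_rev]; simp only [q]; omega)), ?_, ?_, ?_⟩
          · have h1 : q.rev ≠ md.rev := by rw [hmd]; exact hpm
            have h2' : md.rev ≠ q.rev.rev := by rw [hmd, Fin.rev_rev]; exact hmq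
            have h3 : q.rev ≠ q.rev.rev := by rw [Fin.rev_rev]; exact hpq
            rw [map_mul, map_mul, twHom_xSL (polV m F) he _ hmq h1, twHom_xSL (polV m F) he _ hpm h2',
              twHom_xSL (polV m F) he _ hpq h3]
            have eq1 : polV m F q = 1 := by simp only [polV, q]; rw [if_neg]; omega
            have eq2 : polV m F md = 2 := by simp [polV, md]
            have eq3 : polV m F q.rev = 1 := by rw [polV_rev, eq1, one_mul]
            apply Subtype.ext
            show transvection q.rev md.rev _ * transvection md.rev q.rev.rev _ * transvection q.rev q.rev.rev _ =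
              transvection md q (1 : F) * transvection q.rev md (-2) * transvection q.rev q (-1)
            rw [Fin.rev_rev, hmd, eq1, eq2, eq3]
            simp only [RingHom.id_apply, inv_one, one_mul, mul_one, neg_neg, mul_neg, neg_mul]
            rw [inv_mul_cancel₀ h2]
            simp [transvection, Matrix.mul_add, Matrix.add_mul, hmq, hpm, hpq, hmq.symm, hpm.symm, hpq.symm]
            ext a b
            simp only [Matrix.add_apply, Matrix.single_apply, Matrix.neg_apply]
            split_ifs <;> ring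
          · intro h
            have h1 : (transvection md q (1 : F) * transvection q.rev md (-2) * transvection q.rev q (-1) : Matrix (Fin (2 * m + 1)) (Fin (2 * m + 1)) F) md q =
                (1 : Matrix (Fin (2 * m + 1)) (Fin (2 * m + 1)) F) md q :=
              congrFun (congrFun (congrArg Subtype.val h) md) q
            simp [transvection, Matrix.mul_add, Matrix.add_mul, Matrix.one_apply, hmq, hpm, hpq, hmq.symm, hpm.symm,
              hpq.symm, Matrix.single_apply] at h1
          · intro a b hab
            by_contra hne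
            refine hab ?_
            show (transvection md q (1 : F) * transvection q.rev md (-2) * transvection q.rev q (-1) : Matrix (Fin (2 * m + 1)) (Fin (2 * m + 1)) F) a b = 0
            have hb1 : blk i md = blk i q := by
              simp only [blk, blkN, md, q]; split_ifs <;> omega
            have hb2 : blk i q.rev = blk i q := by
              simp only [blk, blkN, Fin.val_rev, q]; split_ifs <;> omega
            have hn1 : ¬ (md = a ∧ q = b) := fun ⟨x, y⟩ => hne (by rw [← x, ← y, hb1])
            have hn2 : ¬ (q.rev = a ∧ md = b) := fun ⟨x, y⟩ => hne (by rw [← x, ← y, hb1, hb2])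
            have hn3 : ¬ (q.rev = a ∧ q = b) := fun ⟨x, y⟩ => hne (by rw [← x, ← y, hb2])
            simp [transvection, Matrix.mul_add, Matrix.add_mul, hmq, hpm, hpq, hmq.symm, hpm.symm, hpq.symm,
              Matrix.one_apply_ne (fun e0 : a = b => hne (by rw [e0])), Matrix.single_apply, hn1, hn2, hn3]
        · exact tw_root (polV m F) he (RingHom.id F) 1 polV_rev (fun _ => rfl) i (fun h => absurd h hov)
      G := ι.range
      fixed := hfix
      memU := fun g hg hf => hpel g hf (by
        obtain ⟨k, hk⟩ := isPGroup_uniU p ⟨g, hg⟩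
        exact ⟨k, congrArg Subtype.val hk⟩)
      memL := fun g hg hf => hpel g hf (lo_pow p hg) }
  exact T.steinberg (MonoidHom.ofInjective hι).symm p

end Cfsg.Agent.S2547
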