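import Cfsg.Statements.S0165
import Cfsg.Agent.Lib.Char.PiPart
-- import your own Cfsg.Agent.* helpers here

set_option autoImplicit false
open Cfsg

namespace Cfsg.Agent.S0165

/-- If p ^ n is the exact power of the prime p dividing the order of a finite group and p ^ n divides the degree of an irreducible complex representation, then its character vanishes at every element of order divisible by p. -/
theorem result {G : Type*} [Group G] [Finite G] {V : Type*} [AddCommGroup V] [Module ℂ V] [FiniteDimensional ℂ V] (ρ : Representation ℂ G V) [ρ.IsIrreducible] (p n : ℕ) (hp : p.Prime) (hn : p ^ n ∣ Nat.card G) (hn' : ¬ p ^ (n + 1) ∣ Nat.card G) (hdeg : p ^ n ∣ Module.finrank ℂ V) (x : G) (hx : p ∣ orderOf x) : ρ.character x = 0 := by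
  classical
  haveI : Fintype G := Fintype.ofFinite G
  haveI := Fact.mk hp
  set χ := ρ.character with hχdef
  have hχ : Cfsg.IsIrrCharacter G χ := Cfsg.Agent.Char.isIrrCharacter_of_rep ρ
  have hχc := Cfsg.Agent.Char.IsIrrCharacter.isCharacter hχ
  obtain ⟨r, hr⟩ := hn
  have hcop : Nat.Coprime (p ^ n) r := (hp.coprime_iff_not_dvd.mpr fun ⟨t, ht⟩ =>
    hn' ⟨t, by rw [hr, ht, pow_succ]; ring⟩).pow_left n
  have hdvd : Nat.card G ∣ p ^ n * r := hr ▸ dvd_rfl
  have hreg : ∀ y : G, ¬ p ∣ orderOf y ↔ y ^ r = 1 := fun y => by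
    refine ⟨fun h => Cfsg.Agent.Char.pow_eq_one_of_coprime (by rwa [mul_comm]) (((hp.coprime_iff_not_dvd.mpr h).symm.pow_right n)), ?_⟩
    intro h hdiv
    have h1 := hdiv.trans (orderOf_dvd_of_pow_eq_one h)
    exact hn' (by rw [hr, pow_succ]; exact mul_dvd_mul_left _ h1)
  let θ : G → ℂ := fun y => if p ∣ orderOf y then 0 else χ y
  have hθcl : Cfsg.IsClassFunction G θ := by
    intro s t
    have e : orderOf (t * s * t⁻¹) = orderOf s :=
      orderOf_injective (MulAut.conj t).toMonoidHom (MulAut.conj t).injective s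
    show (if p ∣ orderOf (t * s * t⁻¹) then 0 else χ (t * s * t⁻¹)) = _
    rw [e, Cfsg.Agent.Char.IsCharacter.isClassFunction hχc s t]
  -- the restriction to an elementary subgroup has integral coefficients
  have hgen : Cfsg.IsGeneralizedCharacter G θ := by
    refine Cfsg.Agent.Char.isGeneralizedCharacter_of_elementary hθcl fun E q hq hE => ?_
    haveI : Fintype E := Fintype.ofFinite E
    refine Cfsg.Agent.Char.isGeneralizedCharacter_of_classInner
      (fun a b => hθcl a b) fun φ => ?_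
    have hdvdE : Nat.card E ∣ p ^ n * r := hr ▸ Subgroup.card_subgroup_dvd_card E
    set π := Cfsg.Agent.Char.hallHom hq hE hcop hdvdE with hπ
    obtain ⟨N, hN⟩ := Cfsg.Agent.Char.IsCharacter.exists_classInner_nat
      (Cfsg.Agent.Char.IsCharacter.restrict (Cfsg.Agent.Char.IsCharacter.restrict hχc E) π.ker)
      (Cfsg.Agent.Char.IsCharacter.restrict (Cfsg.Agent.Char.IsIrrCharacter.isCharacter φ.2) π.ker)
    obtain ⟨s, hsn, hs⟩ :=
      (Nat.dvd_prime_pow hp).mp (Cfsg.Agent.Char.card_range_hallHom_dvd hq hE hcop hdvdE)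
    have hmem : ∀ y : E, y ∈ π.ker ↔ ¬ p ∣ orderOf (y : G) := fun y => by
      rw [MonoidHom.mem_ker, hπ, show (Cfsg.Agent.Char.hallHom hq hE hcop hdvdE) y =
          y ^ Cfsg.Agent.Char.hallExp hcop from rfl,
        Cfsg.Agent.Char.hallExp_eq_one_iff hcop (Cfsg.Agent.Char.pow_card_mul hdvdE y), hreg,
        ← SubgroupClass.coe_pow, OneMemClass.coe_eq_one]
    have hcard := Subgroup.card_mul_index π.ker
    rw [Subgroup.index_ker, hs] at hcard
    have hval : Cfsg.classInner (fun e : E => θ e) (φ : E → ℂ) = (N : ℂ) / (p : ℂ) ^ s := by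
      rw [← hN]
      simp only [Cfsg.classInner]
      rw [← hcard, Nat.cast_mul, Nat.cast_pow, mul_inv, div_eq_mul_inv, mul_right_comm]
      congr 2
      rw [← Finset.sum_subtype (Finset.univ.filter (· ∈ π.ker)) (p := (· ∈ π.ker)) (by simp)
        (fun y : E => χ y * starRingEnd ℂ ((φ : E → ℂ) y))]
      rw [Finset.sum_filter]
      refine Finset.sum_congr rfl fun y _ => ?_
      simp only [θ, hmem]
      split_ifs <;> simp
    have hint : ∀ y : E, y ∈ π.ker → IsIntegral ℤ (χ y / (p : ℂ) ^ s) := by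
      intro y hy
      have hyr : y ^ r = 1 := (Cfsg.Agent.Char.hallExp_eq_one_iff hcop
        (Cfsg.Agent.Char.pow_card_mul hdvdE y)).mp hy
      set C := Subgroup.centralizer ({(y : G)} : Set G) with hC
      have hle : π.range.map E.subtype ≤ C := by
        rintro _ ⟨_, ⟨w, rfl⟩, rfl⟩
        rw [hC, Subgroup.mem_centralizer_singleton_iff]
        exact congrArg Subtype.val (Cfsg.Agent.Char.hallHom_commute hq hE hcop hdvdE
          (Cfsg.Agent.Char.hallExp_pow_pow hcop (Cfsg.Agent.Char.pow_card_mul hdvdE w)) hyr)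
      have h1 : p ^ s * C.index ∣ Nat.card G := by
        rw [← Subgroup.card_mul_index C, ← hs]
        refine mul_dvd_mul_right ?_ _
        rw [Nat.card_congr (π.range.equivMapOfInjective E.subtype E.subtype_injective).toEquiv]
        exact Subgroup.card_dvd_of_le hle
      obtain ⟨t, r'', hr'', hidx⟩ :=
        Nat.exists_eq_pow_mul_and_not_dvd (n := C.index) Subgroup.index_ne_zero_of_finite p hp.ne_one
      have hts : s + t ≤ n := by
        by_contra hlt
        refine hn' (dvd_trans (pow_dvd_pow p (by omega : n + 1 ≤ s + t)) (dvd_trans ?_ h1))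
        rw [hidx, pow_add, ← mul_assoc]
        exact dvd_mul_right _ _
      obtain ⟨d', hd'⟩ := hdeg
      have hω := Cfsg.Agent.Char.IsIrrCharacter.isIntegral_centralChar hχ (y : G)
      have h2 : IsIntegral ℤ ((r'' : ℂ) * (χ y / (p : ℂ) ^ s)) := by
        have e : (r'' : ℂ) * (χ y / (p : ℂ) ^ s) =
            ((C.index : ℂ) * χ y / χ 1) * ((p ^ (n - s - t) * d' : ℕ) : ℂ) := by
          have hp0 : (p : ℂ) ≠ 0 := Nat.cast_ne_zero.mpr hp.ne_zero
          have hd0 : (d' : ℂ) ≠ 0 := by
            intro h0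
            exact Cfsg.Agent.Char.IsIrrCharacter.one_ne_zero hχ
              (by rw [hχdef, Representation.char_one, hd', Nat.cast_mul, h0, mul_zero])
          obtain ⟨u, hu⟩ : ∃ u, n = s + t + u := Nat.exists_eq_add_of_le hts
          rw [hχdef, Representation.char_one, hd', hidx, show n - s - t = u by omega, hu]
          push_cast
          field_simp
          ring
        rw [e]
        refine hω.mul ?_
        exact isIntegral_algebraMap (R := ℤ) (A := ℂ) (x := ((p ^ (n - s - t) * d' : ℕ) : ℤ)) |> fun h => by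
          simpa using h
      have h3 : IsIntegral ℤ (((p ^ s : ℕ) : ℂ) * (χ y / (p : ℂ) ^ s)) := by
        rw [Nat.cast_pow, mul_div_cancel₀ _ (pow_ne_zero _ (Nat.cast_ne_zero.mpr hp.ne_zero))]
        exact Cfsg.Agent.Char.IsCharacter.isIntegral hχc _
      have hb := Nat.gcd_eq_gcd_ab r'' (p ^ s)
      rw [((hp.coprime_iff_not_dvd.mpr hr'').symm.pow_right s).gcd_eq_one] at hb
      have hb' : (1 : ℂ) = (r'' : ℂ) * (Nat.gcdA r'' (p ^ s) : ℂ) +
          ((p ^ s : ℕ) : ℂ) * (Nat.gcdB r'' (p ^ s) : ℂ) := by exact_mod_cast hb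
      rw [show χ y / (p : ℂ) ^ s = (Nat.gcdA r'' (p ^ s) : ℂ) * ((r'' : ℂ) * (χ y / (p : ℂ) ^ s)) +
          (Nat.gcdB r'' (p ^ s) : ℂ) * (((p ^ s : ℕ) : ℂ) * (χ y / (p : ℂ) ^ s)) by
        linear_combination (χ y / (p : ℂ) ^ s) * hb']
      exact ((isIntegral_algebraMap (R := ℤ) (x := Nat.gcdA r'' (p ^ s))).mul h2).add
        ((isIntegral_algebraMap (R := ℤ) (x := Nat.gcdB r'' (p ^ s))).mul h3)
    have hNint : IsIntegral ℤ (((N * Nat.card π.ker : ℕ) : ℂ) / ((p ^ s : ℕ) : ℂ)) := by
      have e : ((N * Nat.card π.ker : ℕ) : ℂ) / ((p ^ s : ℕ) : ℂ) =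
          ∑ y : π.ker, χ (y : E) / (p : ℂ) ^ s * starRingEnd ℂ ((φ : E → ℂ) (y : E)) := by
        rw [Nat.cast_mul, ← hN, Cfsg.classInner, Nat.cast_pow]
        have h0 : (Nat.card π.ker : ℂ) ≠ 0 := Nat.cast_ne_zero.mpr Nat.card_pos.ne'
        rw [mul_right_comm, inv_mul_cancel₀ h0, one_mul, Finset.sum_div]
        exact Finset.sum_congr (Finset.ext (by simp)) fun y _ => by rw [div_mul_eq_mul_div]
      rw [e]
      refine IsIntegral.sum _ fun y _ => (hint y y.2).mul ?_
      exact Cfsg.Agent.Char.IsCharacter.isIntegral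
        (Cfsg.Agent.Char.IsCharacter.conj (Cfsg.Agent.Char.IsIrrCharacter.isCharacter φ.2)) (y : E)
    have hpN : p ^ s ∣ N := by
      have := Cfsg.Agent.Char.dvd_of_isIntegral_div (pow_ne_zero _ hp.ne_zero) hNint
      refine Nat.Coprime.dvd_of_dvd_mul_right ?_ this
      refine Nat.Coprime.pow_left s (hp.coprime_iff_not_dvd.mpr fun hdiv => ?_)
      obtain ⟨⟨w, hw⟩, hord⟩ := exists_prime_orderOf_dvd_card' p hdiv
      rw [← orderOf_injective _ (Subgroup.subtype_injective _),
        ← orderOf_injective _ (Subgroup.subtype_injective _)] at hord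
      exact (hmem w).mp hw (dvd_of_eq hord.symm)
    obtain ⟨t, rfl⟩ := hpN
    refine ⟨t, ?_⟩
    rw [hval, Nat.cast_mul, Nat.cast_pow,
      mul_div_cancel_left₀ _ (pow_ne_zero _ (Nat.cast_ne_zero.mpr hp.ne_zero)), Int.cast_natCast]
  obtain ⟨k, hk⟩ := Cfsg.Agent.Char.IsGeneralizedCharacter.exists_classInner_int hgen
    (Cfsg.Agent.Char.IsGeneralizedCharacter.of_isCharacter hχc)
  have h1 := Cfsg.Agent.Char.classInner_self_irr hχ
  rw [Cfsg.classInner, inv_mul_eq_one₀ (Nat.cast_ne_zero.mpr Nat.card_pos.ne')] at h1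
  have hsplit : ∀ y : G, θ y * starRingEnd ℂ (χ y) =
      ((if p ∣ orderOf y then 0 else Complex.normSq (χ y) : ℝ) : ℂ) := fun y => by
    simp only [θ]
    split_ifs
    · simp
    · rw [Complex.mul_conj]
  have hk' : (k : ℝ) * (Nat.card G : ℝ) = ∑ y : G, if p ∣ orderOf y then 0 else Complex.normSq (χ y) := by
    rw [← Complex.ofReal_inj, Complex.ofReal_mul, Complex.ofReal_intCast, Complex.ofReal_natCast, ← hk,
      Cfsg.classInner, Finset.sum_congr rfl fun y _ => hsplit y, Complex.ofReal_sum]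
    rw [mul_right_comm, inv_mul_cancel₀ (Nat.cast_ne_zero.mpr Nat.card_pos.ne'), one_mul]
  have htot : (Nat.card G : ℝ) = ∑ y : G, Complex.normSq (χ y) := by
    rw [← Complex.ofReal_inj, Complex.ofReal_sum, Complex.ofReal_natCast, h1]
    exact Finset.sum_congr rfl fun y _ => Complex.mul_conj _
  have hpos : 0 < ∑ y : G, if p ∣ orderOf y then 0 else Complex.normSq (χ y) := by
    refine lt_of_lt_of_le ?_ (Finset.single_le_sum (f := fun y : G =>
      if p ∣ orderOf y then 0 else Complex.normSq (χ y))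
      (fun y _ => by split_ifs <;> simp [Complex.normSq_nonneg]) (Finset.mem_univ (1 : G)))
    show 0 < if p ∣ orderOf (1 : G) then 0 else Complex.normSq (χ 1)
    rw [if_neg (by rw [orderOf_one]; exact hp.not_dvd_one), Complex.normSq_pos]
    exact Cfsg.Agent.Char.IsIrrCharacter.one_ne_zero hχ
  have hle : ∀ y : G, (if p ∣ orderOf y then 0 else Complex.normSq (χ y)) ≤ Complex.normSq (χ y) :=
    fun y => by split_ifs <;> simp [Complex.normSq_nonneg]
  have hk1 : k = 1 := by
    have a1 : (0 : ℝ) < Nat.card G := Nat.cast_pos.mpr Nat.card_pos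
    have a2 : 0 < (k : ℝ) := pos_of_mul_pos_left (hk' ▸ hpos) a1.le
    have a3 : (k : ℝ) * Nat.card G ≤ 1 * Nat.card G := by
      rw [hk', one_mul, htot]; exact Finset.sum_le_sum fun y _ => hle y
    have a4 : (k : ℝ) ≤ 1 := le_of_mul_le_mul_right a3 a1
    have a5 : (0 : ℤ) < k := by exact_mod_cast a2
    have a6 : k ≤ 1 := by exact_mod_cast a4
    omega
  have := (Finset.sum_eq_sum_iff_of_le fun y _ => hle y).mp
    (by rw [← hk', ← htot, hk1, Int.cast_one, one_mul]) x (Finset.mem_univ x)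
  rw [if_pos hx] at this
  exact Complex.normSq_eq_zero.mp this.symm


end Cfsg.Agent.S0165
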