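import Cfsg.Statements.S2548
import Cfsg.Agent.Lib.Steinberg.DWeyl
import Cfsg.Agent.Lib.Steinberg.OrthImage
import Cfsg.Agent.Lib.Steinberg.PlusFourTwo
-- import your own Cfsg.Agent.* helpers here

set_option autoImplicit false
open Cfsg

namespace Cfsg.Agent.S2548

open Matrix QuadraticMap Cfsg.Agent.SLPair Cfsg.Agent.DSplit

/-- the coordinates -/
def plusCoord (m : ℕ) (F : Type*) [Field F] : Coord m (Cfsg.Agent.Orth.qPlus F m) F where
  P := (1 : Matrix (Fin (2 * m)) (Fin (2 * m)) F).submatrix id (idxA m)
  Pi := (1 : Matrix (Fin (2 * m)) (Fin (2 * m)) F).submatrix (idxA m) id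
  mul_inv := by rw [Matrix.submatrix_mul_equiv, Matrix.one_mul, Matrix.submatrix_id_id]
  inv_mul := by
    rw [← Equiv.coe_refl, Matrix.submatrix_mul_equiv, Matrix.one_mul, Matrix.submatrix_one_equiv]
  hq x := by
    show Cfsg.Agent.Orth.qPlus F m (coordA m F _) = Cfsg.Agent.Orth.qPlus F m x
    congr 1
    ext i
    show ((1 : Matrix (Fin (2 * m)) (Fin (2 * m)) F).submatrix id (idxA m) *ᵥ x) (idxA m i) = x i
    simp [Matrix.mulVec, dotProduct, Matrix.submatrix, Matrix.one_apply]

/-- Let F be a finite field of characteristic p and consider the group PΩ⁺_{2m}(F) of the hyperbolic quadratic form Σ x_i y_i with m ≥ 1, where Ω denotes the commutator subgroup of the full isometry group. This group has an irreducible complex character χ whose degree equals the order of a Sylow p-subgroup (equal to q^(m(m−1)) when #F = q, except in the degenerate case m = 2, q = 2, where this commutator subgroup has order 18 and its Sylow 2-subgroups have order 2) and whose restriction to any Sylow p-subgroup P is the regular character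 of P: χ vanishes on the non-identity elements of P. (This is the Steinberg character.) -/
theorem result {F : Type*} [Field F] [Fintype F] (p : ℕ) [Fact p.Prime] [CharP F p] (m : ℕ) (hm : 1 ≤ m) : ∃ χ : Cfsg.POmega F (Cfsg.quadFormPlus m F) → ℂ, Cfsg.IsIrrCharacter (Cfsg.POmega F (Cfsg.quadFormPlus m F)) χ ∧ ∀ P : Sylow p (Cfsg.POmega F (Cfsg.quadFormPlus m F)), χ 1 = Nat.card P ∧ ∀ x : Cfsg.POmega F (Cfsg.quadFormPlus m F), x ∈ P → x ≠ 1 → χ x = 0 := by
  by_cases hex : Fintype.card F ≠ 2 ∨ m ≠ 2
  · rw [← Cfsg.Agent.Orth.coe_qPlus]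
    exact (plusSplit (plusCoord m F).img (plusCoord m F).img_spec fun g ht hg =>
      (plusCoord m F).mem_img_tri p (Cfsg.Agent.Orth.qPlus_nondeg m) (by simp; omega)
        (hex.imp_right fun h => by simp; omega) ht hg (fun i j => ⟨_, rfl⟩)).steinberg
      (MonoidHom.ofInjective (plusCoord m F).emb_inj).symm p
  · push Not at hex
    obtain ⟨hF, rfl⟩ := hex
    obtain rfl : p = 2 := by
      obtain ⟨⟨k, hk⟩, hpr, hk'⟩ := FiniteField.card F p
      rw [hF] at hk'
      exact (Nat.prime_dvd_prime_iff_eq hpr Nat.prime_two).1 (hk' ▸ dvd_pow_self p hk.ne')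
    exact PlusFourTwo.result hF

end Cfsg.Agent.S2548
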