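import Cfsg.Statements.S2544
import Mathlib
import Cfsg.Agent.Lib.Steinberg.SLPair
import Cfsg.Agent.S0165

set_option autoImplicit false
open Cfsg

namespace Cfsg.Agent.S2544


open Cfsg.Agent.SLPair
open Cfsg.Agent.SLBlocks (uniU sylU upper_mul_diag)

universe u

variable {n : ℕ} {F : Type u} [Field F] [Fintype F]

theorem uni_inf {g : SLn n F} (hg : g ∈ uniU n F) (h : Mono 1 g.1) : g = 1 := by
  refine Subtype.ext (Matrix.ext fun a b => ?_)
  show g.1 a b = (1 : Matrix (Fin n) (Fin n) F) a b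
  by_cases hab : a = b
  · subst hab; rw [Matrix.one_apply_eq]; exact hg.2 a
  · rw [Matrix.one_apply_ne hab]
    by_contra hne
    exact hab (h a b hne)

theorem relIndex_eq : (bSub n F ⊓ nSub n F).relIndex (bSub n F) = Nat.card (uniU n F) := by
  rw [Subgroup.relIndex, Subgroup.index]
  refine (Nat.card_eq_of_bijective (fun u : uniU n F =>
    ((⟨(u : SLn n F), u.2.1⟩ : bSub n F) : bSub n F ⧸ (bSub n F ⊓ nSub n F).subgroupOf (bSub n F))) ⟨?_, ?_⟩).symm
  · intro u v h
    have h' := Subgroup.mem_subgroupOf.1 (QuotientGroup.eq.1 h)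
    exact Subtype.ext (inv_mul_eq_one.1 (uni_inf (mul_mem (inv_mem u.2) v.2) (mem_inf h')))
  · intro q
    induction q using QuotientGroup.induction_on with | H b => ?_
    let t : SLn n F := ⟨Matrix.diagonal fun i => b.1.1 i i, by
      have hd : b.1.1.det = ∏ i, b.1.1 i i :=
        Matrix.det_of_upperTriangular (b.2 : b.1.1.IsUpperTriangular)
      rw [Matrix.det_diagonal, ← hd]; exact b.1.2⟩
    have ht : Mono 1 t.1 := fun x y h => by
      by_contra hne
      exact h (Matrix.diagonal_apply_ne _ hne)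
    have hu : (b : SLn n F) * t⁻¹ ∈ uniU n F := by
      have h2 : (t⁻¹).1.IsUpperTriangular := (inv_mem (mono_one_mem ht)).1
      refine ⟨mul_mem b.2 h2, fun i => ?_⟩
      have e : (t.1 * (t⁻¹).1) i i = (1 : Matrix (Fin n) (Fin n) F) i i :=
        congrFun (congrFun (congrArg Subtype.val (mul_inv_cancel t)) i) i
      rw [upper_mul_diag (mono_one_upper ht) h2, Matrix.one_apply_eq] at e
      show (b.1.1 * (t⁻¹).1) i i = 1
      rw [upper_mul_diag (M := b.1.1) b.2 h2]
      refine Eq.trans ?_ e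
      simp [t]
    refine ⟨⟨_, hu⟩, QuotientGroup.eq.2 (Subgroup.mem_subgroupOf.2 ?_)⟩
    show ((b : SLn n F) * t⁻¹)⁻¹ * b ∈ _
    rw [show ((b : SLn n F) * t⁻¹)⁻¹ * b = t by group]
    exact mono_one_mem ht


/-- Let F be a finite field of characteristic p and consider the projective special linear group PSL_n(F) with n ≥ 2. This group has an irreducible complex character χ whose degree equals the order of a Sylow p-subgroup (namely q^(n(n−1)/2) when #F = q) and whose restriction to any Sylow p-subgroup P is the regular character of P: χ vanishes on the non-identity elements of P. (This is the Steinberg character.) -/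
theorem result {F : Type*} [Field F] [Fintype F] (p : ℕ) [Fact p.Prime] [CharP F p] (n : ℕ) (hn : 2 ≤ n) : ∃ χ : Matrix.ProjectiveSpecialLinearGroup (Fin n) F → ℂ, Cfsg.IsIrrCharacter (Matrix.ProjectiveSpecialLinearGroup (Fin n) F) χ ∧ ∀ P : Sylow p (Matrix.ProjectiveSpecialLinearGroup (Fin n) F), χ 1 = Nat.card P ∧ ∀ x : Matrix.ProjectiveSpecialLinearGroup (Fin n) F, x ∈ P → x ≠ 1 → χ x = 0 := by
  classical
  have hsur : Function.Surjective (QuotientGroup.mk' (Subgroup.center (SLn n F))) :=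
    QuotientGroup.mk'_surjective _
  obtain ⟨π, hπ⟩ : ∃ π, QuotientGroup.mk' (Subgroup.center (SLn n F)) = π := ⟨_, rfl⟩
  rw [hπ] at hsur
  have hker : π.ker ≤ bSub n F ⊓ nSub n F := by
    rw [← hπ, QuotientGroup.ker_mk']; exact center_le
  let P := mapPair (slPair n F) π hsur hker
  haveI : Finite (Matrix.ProjectiveSpecialLinearGroup (Fin n) F) := Finite.of_surjective _ hsur
  haveI : Fintype P.S := Fintype.ofFinite _
  obtain ⟨c, hcS, hc⟩ := exists_mono (F := F) (Fin.revPerm : Equiv.Perm (Fin n))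
  have hcN : c ∈ nSub n F := ⟨_, hc⟩
  have hn0 : π c ∈ P.N := ⟨c, hcN, rfl⟩
  have htop : BN.Top P (BN.wmk P (π c) hn0) := by
    refine BN.top_of_witness P hn0 ?_
    rintro ⟨_, _, ⟨i, j, h, hij, rfl⟩, rfl⟩
    have hlt : i < j := by rw [Fin.lt_def]; omega
    refine ⟨π (xSL h 1), ⟨_, xSL_mem hlt 1, rfl⟩, ?_⟩
    obtain ⟨u, hu, e⟩ := wSL_xSL hlt (neg_ne_zero.2 (one_ne_zero (α := F)))
    have hx : xSL h (1 : F) = (xSL h (-1 : F))⁻¹ := eq_inv_of_mul_eq_one_left (Subtype.ext (by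
      show Matrix.transvection i j (1 : F) * Matrix.transvection i j (-1) = 1
      rw [Matrix.transvection_mul_transvection_same _ _ h, add_neg_cancel, Matrix.transvection_zero]))
    have hkey : xSL h (1 : F) * wSL h = (xSL h.symm (-1 : F)⁻¹)⁻¹ * (u⁻¹ * (wSL h * wSL h)) := by
      rw [hx]
      calc (xSL h (-1 : F))⁻¹ * wSL h = (wSL h * xSL h (-1 : F))⁻¹ * (wSL h * wSL h) := by group
        _ = _ := by rw [e]; group
    have hy : c * (xSL h.symm (-1 : F)⁻¹)⁻¹ * c⁻¹ ∈ bSub n F := by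
      have h1 := inv_mem (conj_x_mem hc.inv h.symm (by
        show ((Fin.revPerm : Equiv.Perm (Fin n))⁻¹)⁻¹ j < ((Fin.revPerm : Equiv.Perm (Fin n))⁻¹)⁻¹ i
        rw [inv_inv, Fin.revPerm_apply, Fin.revPerm_apply]
        exact Fin.rev_lt_rev.2 hlt) ((-1 : F)⁻¹))
      rw [show c * (xSL h.symm (-1 : F)⁻¹)⁻¹ * c⁻¹ = (c⁻¹⁻¹ * xSL h.symm (-1 : F)⁻¹ * c⁻¹)⁻¹ by group]
      exact h1
    refine DoubleCoset.mem_doubleCoset.2 ⟨_, ⟨_, hy, rfl⟩, _,
      ⟨_, mul_mem (inv_mem hu) (wSL_sq_mem h), rfl⟩, ?_⟩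
    simp only [← map_mul]
    rw [mul_assoc c (xSL h 1), hkey]
    congr 1
    group
  have hH : P.B ⊓ P.B.map (MulAut.conj (π c)).toMonoidHom = (bSub n F ⊓ nSub n F).map π := by
    refine le_antisymm ?_ ?_
    · rintro _ ⟨⟨b, hb, rfl⟩, hx⟩
      obtain ⟨_, ⟨b', hb', rfl⟩, e⟩ := hx
      have hk : b'⁻¹ * (c⁻¹ * b * c) ∈ π.ker := by
        have e' : π c * π b' * (π c)⁻¹ = π b := e
        rw [MonoidHom.mem_ker, map_mul, map_inv, map_mul, map_mul, map_inv, ← e']
        group
      have hcb : c⁻¹ * b * c ∈ bSub n F := by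
        have := (bSub n F).mul_mem hb' (hker hk).1
        rwa [mul_inv_cancel_left] at this
      refine ⟨b, mono_one_mem fun a d had => ?_, rfl⟩
      by_contra hne
      change a ≠ d at hne
      rcases lt_or_gt_of_ne hne with hlt | hlt
      · have h0 : ((c⁻¹).1 * b.1 * c.1) (Fin.revPerm⁻¹ a) (Fin.revPerm⁻¹ d) = 0 := hcb (by
          show Fin.revPerm⁻¹ d < Fin.revPerm⁻¹ a
          rw [Equiv.Perm.inv_def, Fin.revPerm_symm, Fin.revPerm_apply, Fin.revPerm_apply]
          exact Fin.rev_lt_rev.2 hlt)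
        rw [hc.mul_right_apply, hc.inv.mul_left_apply, mul_eq_zero, mul_eq_zero] at h0
        rcases h0 with (h0 | h0) | h0
        · exact hc.inv.apply_ne a h0
        · simp only [Equiv.Perm.inv_def, Equiv.apply_symm_apply] at h0
          exact had h0
        · exact hc.apply_ne _ h0
      · exact had (hb hlt)
    · rintro _ ⟨t, ht, rfl⟩
      refine ⟨⟨t, ht.1, rfl⟩, π (c⁻¹ * t * c), ⟨_, ?_, rfl⟩, ?_⟩
      · have := (slPair n F).conj_mem c⁻¹ (inv_mem hcN) t ht
        rwa [inv_inv] at this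
      · show π c * π (c⁻¹ * t * c) * (π c)⁻¹ = π t
        simp only [map_mul, map_inv]; group
  have hirr := BN.stChar_irr P
  have hone : BN.stChar P 1 = (Nat.card (uniU n F) : ℂ) := by
    rw [BN.stChar_borel P htop (one_mem _), ← OneMemClass.coe_one P.B, BN.fixCell_eq P hn0 _ hH]
    simp only [Cfsg.fixedPointCharacter, Nat.cast_inj]
    rw [Nat.card_congr ((Equiv.setCongr (show MulAction.fixedBy _ (1 : P.B) = Set.univ by
      ext x; simp [MulAction.mem_fixedBy])).trans (Equiv.Set.univ _)), ← Subgroup.index_eq_card]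
    show ((bSub n F ⊓ nSub n F).map π).relIndex ((bSub n F).map π) = _
    rw [← Subgroup.relIndex_comap, Subgroup.comap_map_eq, sup_eq_left.2 hker, relIndex_eq]
  refine ⟨BN.stChar P, hirr, fun Q => ?_⟩
  let U : Sylow p (Matrix.ProjectiveSpecialLinearGroup (Fin n) F) := (sylU n F p).mapSurjective hsur
  have hcard : Nat.card Q = Nat.card (uniU n F) := by
    rw [Q.card_eq_multiplicity, ← U.card_eq_multiplicity]
    show Nat.card ((uniU n F).map π) = _
    refine (Nat.card_congr (Equiv.ofBijective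
      (fun u : uniU n F => (⟨π u, u, u.2, rfl⟩ : (uniU n F).map π)) ⟨fun u v h => ?_, ?_⟩)).symm
    · have h1 : (u : SLn n F)⁻¹ * v ∈ π.ker := by
        rw [MonoidHom.mem_ker, map_mul, map_inv, show π u = π v from congrArg Subtype.val h, inv_mul_cancel]
      exact Subtype.ext (inv_mul_eq_one.1 (uni_inf (mul_mem (inv_mem u.2) v.2) (mem_inf (hker h1))))
    · rintro ⟨_, u, hu, rfl⟩
      exact ⟨⟨u, hu⟩, rfl⟩
  refine ⟨by rw [hone, hcard], fun x hx hx1 => ?_⟩
  obtain ⟨m, ρ, hρ, he⟩ := hirr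
  haveI := hρ
  have hd : Module.finrank ℂ (Fin m → ℂ) = Nat.card Q := by
    have h1 := congrFun he 1
    rw [Representation.char_one, hone, ← hcard] at h1
    exact_mod_cast h1
  have hp := (Fact.out : p.Prime)
  rw [← he]
  refine S0165.result ρ p _ hp (Nat.ordProj_dvd _ _) (Nat.pow_succ_factorization_not_dvd Nat.card_pos.ne' hp)
    (by rw [hd, Q.card_eq_multiplicity]) x ?_
  obtain ⟨k, hk⟩ := Q.isPGroup' ⟨x, hx⟩
  have hk' : x ^ p ^ k = 1 := congrArg Subtype.val hk
  obtain ⟨j, -, hj⟩ := (Nat.dvd_prime_pow hp).1 (orderOf_dvd_of_pow_eq_one hk')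
  rw [hj]
  exact dvd_pow_self p fun h0 => hx1 (orderOf_eq_one_iff.1 (by rw [hj, h0, pow_zero]))

end Cfsg.Agent.S2544
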