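import Cfsg.Statements.S2549
import Cfsg.Agent.Lib.Steinberg.DWeylMinus
import Cfsg.Agent.Lib.Steinberg.OrthImage
import Cfsg.Agent.Lib.AutPOmega.Inndiag
import Cfsg.Agent.Lib.Orthogonal.QuadExt
import Cfsg.Agent.Lib.Char.Basic
import Cfsg.Agent.S2544
import Cfsg.Agent.S0300
-- import your own Cfsg.Agent.* helpers here

set_option autoImplicit false
open Cfsg

namespace Cfsg.Agent.S2549

open Matrix QuadraticMap Cfsg.Agent.SLPair Cfsg.Agent.DSplit
open Cfsg.Agent.OrthLow (sig)

universe u v

/-- transport of the conclusion along an isomorphism -/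
theorem transfer {G : Type u} [Group G] {H : Type v} [Group H] (e : G ≃* H) (p : ℕ) [Fact p.Prime] [Finite G]
    (h : ∃ χ : H → ℂ, Cfsg.IsIrrCharacter H χ ∧
      ∀ P : Sylow p H, χ 1 = Nat.card P ∧ ∀ x : H, x ∈ P → x ≠ 1 → χ x = 0) :
    ∃ χ : G → ℂ, Cfsg.IsIrrCharacter G χ ∧
      ∀ P : Sylow p G, χ 1 = Nat.card P ∧ ∀ x : G, x ∈ P → x ≠ 1 → χ x = 0 := by
  obtain ⟨χ, hχ, hP⟩ := h
  haveI : Finite H := Finite.of_equiv _ e.toEquiv
  refine ⟨fun x => χ (e x), Cfsg.Agent.Char.IsIrrCharacter.comp hχ e.toMonoidHom e.surjective, fun P => ?_⟩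
  obtain ⟨R, hR⟩ : ∃ R : Sylow p H, (R : Subgroup H) = (P : Subgroup G).map e.toMonoidHom :=
    ⟨P.mapSurjective e.surjective, rfl⟩
  obtain ⟨h1, h2⟩ := hP R
  refine ⟨?_, fun x hx hx1 => h2 _ ?_ fun h => hx1 (e.injective (by rw [h, map_one]))⟩
  · show χ (e 1) = _
    rw [map_one, h1, P.card_eq_multiplicity, R.card_eq_multiplicity, Nat.card_congr e.toEquiv]
  · show e x ∈ (R : Subgroup H)
    rw [hR]
    exact ⟨x, hx, rfl⟩

section Coordinates

variable {m : ℕ} {F : Type u} [Field F] {K : Type v} [Field K] [Algebra F K]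

/-- the coordinate map -/
noncomputable def coordM (m : ℕ) {w w' : K} (hw : w ≠ w') :
    ((Fin m ⊕ Fin m) ⊕ Fin 2 → K) ≃ₗ[K] (Fin (m + 1) ⊕ Fin (m + 1) → K) where
  toFun x := Sum.elim (Fin.snoc (α := fun _ => K) (fun i => x (.inl (.inl i))) (x (.inr 0) - w * x (.inr 1)))
    (Fin.snoc (α := fun _ => K) (fun i => x (.inl (.inr i))) (x (.inr 0) - w' * x (.inr 1)))
  map_add' x y := by
    funext z
    rcases z with i | i <;> induction i using Fin.lastCases <;>
      simp only [Sum.elim_inl, Sum.elim_inr, Pi.add_apply, Fin.snoc_last, Fin.snoc_castSucc] <;> ring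
  map_smul' c x := by
    funext z
    rcases z with i | i <;> induction i using Fin.lastCases <;>
      simp only [Sum.elim_inl, Sum.elim_inr, Pi.smul_apply, smul_eq_mul, RingHom.id_apply, Fin.snoc_last,
        Fin.snoc_castSucc] <;> ring
  invFun y := Sum.elim (Sum.elim (fun i => y (.inl i.castSucc)) (fun i => y (.inr i.castSucc)))
    ![(w * y (.inr (Fin.last m)) - w' * y (.inl (Fin.last m))) / (w - w'),
      (y (.inr (Fin.last m)) - y (.inl (Fin.last m))) / (w - w')]
  left_inv x := by
    have h := sub_ne_zero.2 hw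
    funext z
    rcases z with (i | i) | k
    · simp
    · simp
    · fin_cases k <;> simp <;> field_simp <;> ring
  right_inv y := by
    have h := sub_ne_zero.2 hw
    funext z
    rcases z with i | i <;> induction i using Fin.lastCases <;> simp <;> field_simp <;> ring

theorem phi_coordM {w w' : K} (hw : w ≠ w') (φ : K →+* K) (h1 : φ w = w') (h2 : φ w' = w)
    (x : (Fin m ⊕ Fin m) ⊕ Fin 2 → K) (a : Fin (2 * (m + 1))) :
    φ ((coordA (m + 1) K).symm (coordM m hw x) (mid (m + 1) a)) =
      (coordA (m + 1) K).symm (coordM m hw (φ ∘ x)) a := by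
  obtain ⟨z, rfl⟩ := (idxA (m + 1)).surjective a
  have key : ∀ (f : Fin (m + 1) ⊕ Fin (m + 1) → K) (a : Fin (2 * (m + 1))),
      (coordA (m + 1) K).symm f a = f ((idxA (m + 1)).symm a) := fun _ _ => rfl
  have hcast : ∀ i : Fin m, mid (m + 1) (idxA (m + 1) (.inl i.castSucc)) = idxA (m + 1) (.inl i.castSucc) :=
    fun i => Fin.ext (by
      have := i.2
      rw [mid_val, idxA_inl]
      simp only [midN, Fin.val_castSucc]
      split_ifs <;> omega)
  have hlast : mid (m + 1) (idxA (m + 1) (.inl (Fin.last m))) = idxA (m + 1) (.inr (Fin.last m)) := Fin.ext (by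
    rw [mid_val, idxA_inr, idxA_inl, Fin.val_rev, idxA_inl]
    simp only [midN, Fin.val_last]
    split_ifs <;> omega)
  rw [key, key, Equiv.symm_apply_apply]
  rcases z with i | i <;> induction i using Fin.lastCases with
  | cast i =>
    first
      | (rw [hcast, Equiv.symm_apply_apply]; simp [coordM])
      | (rw [idxA_inr, mid_rev, hcast, ← idxA_inr, Equiv.symm_apply_apply]; simp [coordM])
  | last =>
    first
      | (rw [hlast, Equiv.symm_apply_apply]; simp [coordM, map_sub, map_mul, h2])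
      | (rw [idxA_inr, mid_rev, hlast, idxA_inr, Fin.rev_rev, Equiv.symm_apply_apply]
         simp [coordM, map_sub, map_mul, h1])

variable (Q : QuadraticForm F ((Fin m ⊕ Fin m) ⊕ Fin 2 → F))

/-- the coordinates of the minus form over the extension -/
noncomputable def minusCoord {w w' : K} (hw : w ≠ w')
    (hQ : ∀ x : (Fin m ⊕ Fin m) ⊕ Fin 2 → F,
      Orth.qPlus K (m + 1) (coordM m hw fun j => algebraMap F K (x j)) = algebraMap F K (Q x)) :
    Coord (m + 1) Q K where
  P := LinearMap.toMatrix' ((coordM m hw).trans (coordA (m + 1) K).symm).toLinearMap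
  Pi := LinearMap.toMatrix' ((coordM m hw).trans (coordA (m + 1) K).symm).symm.toLinearMap
  mul_inv := by
    rw [← LinearMap.toMatrix'_comp, LinearEquiv.comp_symm, LinearMap.toMatrix'_id]
  inv_mul := by
    rw [← LinearMap.toMatrix'_comp, LinearEquiv.symm_comp, LinearMap.toMatrix'_id]
  hq x := by
    rw [← Matrix.toLin'_apply, Matrix.toLin'_toMatrix']
    show Orth.qPlus K (m + 1) (coordA (m + 1) K ((coordA (m + 1) K).symm (coordM m hw _))) = _
    rw [LinearEquiv.apply_symm_apply]
    exact hQ x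

end Coordinates

/-- Let F be a finite field of characteristic p and consider the group PΩ⁻_{2m+2}(F) of the quadratic form Σ_{i<m} x_i y_i + (z₁² + a z₁ z₂ + b z₂²) with anisotropic binary part, m ≥ 0. This group has an irreducible complex character χ whose degree equals the order of a Sylow p-subgroup (namely q^(m(m+1)) when #F = q) and whose restriction to any Sylow p-subgroup P is the regular character of P: χ vanishes on the non-identity elements of P. (This is the Steinberg character.) -/
theorem result {F : Type*} [Field F] [Fintype F] (p : ℕ) [Fact p.Prime] [CharP F p] (m : ℕ) (a b : F) (hab : ∀ z₁ z₂ : F, z₁ ^ 2 + a * z₁ * z₂ + b * z₂ ^ 2 = 0 → z₁ = 0 ∧ z₂ = 0) : ∃ χ : Cfsg.POmega F (Cfsg.quadFormMinus m F a b) → ℂ, Cfsg.IsIrrCharacter (Cfsg.POmega F (Cfsg.quadFormMinus m F a b)) χ ∧ ∀ P : Sylow p (Cfsg.POmega F (Cfsg.quadFormMinus m F a b)), χ 1 = Nat.card P ∧ ∀ x : Cfsg.POmega F (Cfsg.quadFormMinus m F a b), x ∈ P → x ≠ 1 → χ x = 0 := by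
  classical
  obtain ⟨K, _, _, hfr, hfin⟩ := AutPOmega.exists_quad_ext (F := F)
  haveI : Fintype K := Fintype.ofFinite K
  haveI : CharP K p := charP_of_injective_algebraMap (algebraMap F K).injective p
  have hK : Nat.card K = Fintype.card F ^ 2 := by
    haveI : Module.Finite F K := Module.finite_of_finrank_pos (by omega)
    rw [Module.natCard_eq_pow_finrank (K := F) (V := K), hfr, Nat.card_eq_fintype_card]
  by_cases hex : Fintype.card F ≠ 2 ∨ m ≠ 1
  swap
  · push Not at hex
    obtain ⟨-, rfl⟩ := hex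
    obtain ⟨e⟩ := S0300.result (F := F) (K := K) rfl (by rw [← Nat.card_eq_fintype_card]; exact hK) a b hab
    haveI : Finite (Cfsg.POmega F (Cfsg.quadFormMinus 1 F a b)) := Finite.of_equiv _ e.symm.toEquiv
    exact transfer e p (S2544.result p 2 le_rfl)
  obtain ⟨w, hw⟩ := AutPOmega.exists_root_ext (K := K) hab (by rw [hfr])
  obtain ⟨h1, h2⟩ := AutPOmega.conj_root hab (s := sig F K) (map_add _) (map_mul _) OrthLow.sig_algebraMap
    (fun x => OrthLow.sig_fix) hw
  obtain ⟨φ, hφ⟩ : ∃ φ : K →+* K, (sig F K).toRingHom = φ := ⟨_, rfl⟩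
  have hφs : ∀ x, φ x = sig F K x := fun x => by rw [← hφ]; rfl
  have hww : w ≠ sig F K w := fun e => by
    obtain ⟨c, hc⟩ := OrthLow.sig_fix e.symm
    rw [← hc] at hw
    refine one_ne_zero (hab c 1 ((algebraMap F K).injective ?_)).2
    simp only [map_add, map_mul, map_pow, map_one, map_zero]
    linear_combination hw
  rw [← Cfsg.Agent.Orth.coe_qMinus]
  obtain ⟨C, hCP⟩ : ∃ C : Coord (m + 1) (Orth.qMinus F m a b) K,
      C.P = LinearMap.toMatrix' ((coordM m hww).trans (coordA (m + 1) K).symm).toLinearMap :=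
    ⟨minusCoord _ hww (fun x => by
      rw [Orth.coe_qPlus, Orth.coe_qMinus, Cfsg.quadFormPlus, Fin.sum_univ_castSucc, Cfsg.quadFormMinus]
      simp only [coordM, LinearEquiv.coe_mk, LinearMap.coe_mk, AddHom.coe_mk, Sum.elim_inl, Sum.elim_inr,
        Fin.snoc_castSucc, Fin.snoc_last, map_add, map_sum, map_mul, map_pow]
      linear_combination (-(algebraMap F K (x (.inr 0)) * algebraMap F K (x (.inr 1)))) * h1 +
        algebraMap F K (x (.inr 1)) ^ 2 * h2), rfl⟩
  have hP : C.P.map φ = C.P.submatrix (mid (m + 1)) id := by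
    refine Matrix.ext fun i j => ?_
    rw [Matrix.map_apply, Matrix.submatrix_apply, hCP, LinearMap.toMatrix'_apply, LinearMap.toMatrix'_apply]
    have h := phi_coordM hww φ (hφs w) (by rw [hφs, OrthLow.sig_sig hK])
      (fun k => if k = j then 1 else 0) (mid (m + 1) i)
    rw [mid_mid, show φ ∘ (fun k => if k = j then (1 : K) else 0) = fun k => if k = j then (1 : K) else 0 from
      funext fun k => by simp [apply_ite φ]] at h
    rw [show (fun k => if k = j then (1 : K) else 0) = Pi.single j 1 from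
      funext fun k => (Pi.single_apply j (1 : K) k).symm] at h
    exact h
  have hPi : C.Pi.map φ = C.Pi.submatrix id (mid (m + 1)) := by
    have e1 : C.Pi.map φ * C.P.map φ = 1 := by
      rw [← Matrix.map_mul, C.inv_mul, Matrix.map_one _ (map_zero _) (map_one _)]
    have e2 : C.P.submatrix (mid (m + 1)) id * C.Pi.submatrix id (mid (m + 1)) = 1 := by
      rw [← Equiv.coe_refl, Matrix.submatrix_mul_equiv, C.mul_inv, Matrix.submatrix_one_equiv]
    rw [hP] at e1
    calc C.Pi.map φ = C.Pi.map φ * (C.P.submatrix (mid (m + 1)) id * C.Pi.submatrix id (mid (m + 1))) := by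
          rw [e2, Matrix.mul_one]
      _ = _ := by rw [← Matrix.mul_assoc, e1, Matrix.one_mul]
  have hG : ∀ g ∈ C.img, InO g ∧ Pr g ∧ rho (m + 1) φ g = g := by
    intro g hg
    obtain ⟨h3, h4⟩ := C.img_spec g hg
    refine ⟨h3, h4, ?_⟩
    obtain ⟨o, rfl⟩ := hg
    refine Subtype.ext ?_
    show ((C.P * o.1.1.1.map (algebraMap F K) * C.Pi).map φ).submatrix (mid (m + 1)) (mid (m + 1)) =
      C.P * o.1.1.1.map (algebraMap F K) * C.Pi
    rw [Matrix.map_mul, Matrix.map_mul, hP, hPi,
      show (o.1.1.1.map (algebraMap F K)).map φ = o.1.1.1.map (algebraMap F K) from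
        Matrix.ext fun i j => by simp [hφs]]
    refine Matrix.ext fun i j => ?_
    simp only [Matrix.submatrix_apply, Matrix.mul_apply, id_eq, mid_mid]
  exact (minusSplit φ C.img hG fun g ht hg hfix =>
    C.mem_img_tri p (Orth.qMinus_nondeg hab m) (by simp) (hex.imp_right fun h => by simp; omega) ht hg
      fun i j => OrthLow.sig_fix (by
        rw [← hφs]
        show ((C.Pi * g.1 * C.P).map φ) i j = _
        rw [Matrix.map_mul, Matrix.map_mul, hP, hPi, show g.1.map φ = g.1.submatrix (mid (m + 1)) (mid (m + 1)) from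
          Matrix.ext fun x y => by
            have h := congrArg (fun M : SLn (2 * (m + 1)) K => M.1 (mid (m + 1) x) (mid (m + 1) y)) hfix
            simp only [rho_apply, mid_mid] at h
            exact h, Matrix.submatrix_mul_equiv, Matrix.submatrix_mul_equiv, Matrix.submatrix_id_id])).steinberg
    (MonoidHom.ofInjective C.emb_inj).symm p

end Cfsg.Agent.S2549
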