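import Cfsg.Statements.S1293
import Cfsg.Agent.Lib.Components.Extended
-- import your own Cfsg.Agent.* helpers here

set_option autoImplicit false
set_option linter.style.haveILetI false
open Cfsg

namespace Cfsg.Agent.S1293

/-- Let G be finite with L_{p'}(G) = 1, and H = N_G(P) for a nontrivial p-subgroup P. Then L_{p'}(H) = 1 and O_{p'}(H) ≤ O_{p'}(G). -/
theorem result {G : Type*} [Group G] [Finite G] (p : ℕ) [Fact p.Prime] (hL : Cfsg.pLayer p G = ⊥) (P : Subgroup G) (hP : IsPGroup p ↥P) (hP1 : P ≠ ⊥) : Cfsg.pLayer p ↥(Subgroup.normalizer (P : Set G)) = ⊥ ∧ (Cfsg.pPrimeCore p ↥(Subgroup.normalizer (P : Set G))).map (Subgroup.normalizer (P : Set G)).subtype ≤ Cfsg.pPrimeCore p G := by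
  haveI : (Cfsg.pPrimeCore p G).Normal := FittingCores.pPrimeCore_normal p
  set q := QuotientGroup.mk' (Cfsg.pPrimeCore p G) with hq
  have hG : Subgroup.centralizer (Cfsg.pCore p (G ⧸ Cfsg.pPrimeCore p G) :
      Set (G ⧸ Cfsg.pPrimeCore p G)) ≤ Cfsg.pCore p (G ⧸ Cfsg.pPrimeCore p G) :=
    Components.isPConstrained_iff_charP.1 (Components.isPConstrained_iff_pLayer.2 hL)
  have hmap := Components.map_normalizer_eq (p := p) (O := Cfsg.pPrimeCore p G)
    (FittingCores.pPrimeCore_coprime (G := G) p) hP
  have hM := Components.charP_congr (MulEquiv.subgroupCongr hmap.symm)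
    (Components.charP_normalizer hG (hP.map q))
  set H := Subgroup.normalizer (P : Set G)
  let r : ↥H →* ↥(H.map q) := q.subgroupMap H
  have hr : Function.Surjective r := q.subgroupMap_surjective H
  haveI : (Cfsg.pPrimeCore p ↥H).Normal := FittingCores.pPrimeCore_normal p
  have hker : r.ker = Cfsg.pPrimeCore p ↥H := by
    apply le_antisymm
    · refine FittingCores.le_pPrimeCore inferInstance ?_
      refine Nat.Coprime.coprime_dvd_left ?_ (FittingCores.pPrimeCore_coprime (G := G) p)
      rw [← Subgroup.card_map_of_injective H.subtype_injective]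
      refine Subgroup.card_dvd_of_le ?_
      rintro _ ⟨x, hx, rfl⟩
      exact (QuotientGroup.eq_one_iff (x : G)).1 (congrArg Subtype.val (MonoidHom.mem_ker.1 hx))
    · intro x hx
      have h := FittingCores.pPrimeCore_map_le p hr (Subgroup.mem_map_of_mem r hx)
      rw [Components.pCore_pPrimeCore_of_charP hM, Subgroup.mem_bot] at h
      exact MonoidHom.mem_ker.2 h
  constructor
  · rw [Components.pLayer_eq_bot_iff,
      Components.layer_eq_bot_iff_charP (Components.pPrimeCore_quotient _)]
    exact Components.charP_congr ((QuotientGroup.quotientMulEquivOfEq hker.symm).trans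
      (QuotientGroup.quotientKerEquivOfSurjective r hr)).symm hM
  · rintro _ ⟨x, hx, rfl⟩
    rw [SetLike.mem_coe, ← hker, MonoidHom.mem_ker] at hx
    exact (QuotientGroup.eq_one_iff (x : G)).1 (congrArg Subtype.val hx)

end Cfsg.Agent.S1293
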