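import Cfsg.Statements.S1279
import Cfsg.Agent.Lib.Signalizer.Transitivity
import Cfsg.Agent.S1293
import Cfsg.Agent.Lib.PLocal.PSolvable
-- import your own Cfsg.Agent.* helpers here

set_option autoImplicit false
set_option linter.style.haveILetI false
open Cfsg

namespace Cfsg.Agent.S1279

/-- Let A be a noncyclic elementary abelian p-subgroup of the finite group G such that C_G(a) is solvable for every non-identity a ∈ A. Then a ↦ O_{p'}(C_G(a)) is a solvable A-signalizer functor on G. -/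
theorem result {G : Type*} [Group G] [Finite G] (p : ℕ) [Fact p.Prime] (A : Subgroup G) (hA : Cfsg.IsElementaryAbelian p A) (hA2 : p ^ 2 ≤ Nat.card ↥A) (hsolv : ∀ a ∈ A, a ≠ 1 → Group.IsSolvable ↥(Subgroup.centralizer ({a} : Set G))) : Cfsg.IsSolvableSignalizerFunctor p A (fun a => Cfsg.centralizerPPrimeCore p a) := by
  have hcoreNorm : ∀ a ∈ A, ∀ b ∈ A, ∀ x ∈ Cfsg.centralizerPPrimeCore p a,
      b * x * b⁻¹ ∈ Cfsg.centralizerPPrimeCore p a := by
    intro a ha b hb x hx
    obtain ⟨y, hy, rfl⟩ := hx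
    exact ⟨⟨b, Signalizer.ea_le_centralizer_singleton hA ha hb⟩ * y *
      (⟨b, Signalizer.ea_le_centralizer_singleton hA ha hb⟩)⁻¹,
      (FittingCores.pPrimeCore_normal p).conj_mem y hy _, rfl⟩
  have hcop : ∀ a : G, ¬ p ∣ Nat.card ↥(Cfsg.centralizerPPrimeCore p a) := by
    intro a
    rw [Cfsg.centralizerPPrimeCore, Subgroup.card_map_of_injective (Subgroup.subtype_injective _)]
    exact (Nat.Prime.coprime_iff_not_dvd Fact.out).1
      (FittingCores.pPrimeCore_coprime (G := ↥(Subgroup.centralizer ({a} : Set G))) p).symm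
  refine ⟨⟨fun a _ _ => Subgroup.map_subtype_le _, fun a _ _ => hcop a,
    fun a ha _ => hcoreNorm a ha, ?_⟩, fun a ha ha1 => ?_⟩
  swap
  · haveI := hsolv a ha ha1
    exact Group.isSolvable_of_isSolvable_injective
      (f := Subgroup.inclusion (Subgroup.map_subtype_le (Cfsg.pPrimeCore p ↥(Subgroup.centralizer ({a} : Set G)))))
      (Subgroup.inclusion_injective _)
  intro a ha ha1 b hb hb1
  set X := Subgroup.centralizer ({b} : Set G) with hX
  haveI : Group.IsSolvable ↥X := hsolv b hb hb1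
  have haX : a ∈ X := Signalizer.ea_le_centralizer_singleton hA hb ha
  set a' : ↥X := ⟨a, haX⟩ with ha'
  set P := Subgroup.zpowers a' with hP
  have hPp : IsPGroup p ↥P := by
    refine IsPGroup.of_card (n := 1) ?_
    rw [hP, Nat.card_zpowers, ha', ← Subgroup.orderOf_coe, Signalizer.ea_orderOf hA ha ha1, pow_one]
  have hP1 : P ≠ ⊥ := by
    rw [hP, Ne, Subgroup.zpowers_eq_bot]
    exact fun e => ha1 (congrArg Subtype.val e)
  have hL : Cfsg.pLayer p ↥X = ⊥ :=
    Components.isPConstrained_iff_pLayer.1 (Components.isPConstrained_iff_charP.2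
      (PSolvable.centralizer_pCore_le (PSolvable.quotient _ (PSolvable.of_solvable inferInstance))
        (Components.pPrimeCore_quotient ↥X)))
  have h93 := (S1293.result p hL P hPp hP1).2
  set D := Cfsg.centralizerPPrimeCore p a ⊓ X with hD
  set N := Subgroup.normalizer (P : Set ↥X) with hN
  have hCaN : Subgroup.centralizer ({a'} : Set ↥X) ≤ N := by
    refine le_trans (fun x hx => ?_) (Subgroup.centralizer_le_normalizer _)
    refine Subgroup.mem_centralizer_iff.2 fun y hy => ?_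
    obtain ⟨i, rfl⟩ := Subgroup.mem_zpowers_iff.1 hy
    exact (Commute.zpow_left (Subgroup.mem_centralizer_singleton_iff.1 hx).symm i).eq
  set D' := D.subgroupOf X with hD'
  have hD'C : D' ≤ Subgroup.centralizer ({a'} : Set ↥X) := fun x hx =>
    Subgroup.mem_centralizer_singleton_iff.2 (Subtype.ext
      (Subgroup.mem_centralizer_singleton_iff.1 (Subgroup.map_subtype_le _ hx.1)))
  set C := Subgroup.centralizer (P : Set ↥X) with hC
  have hCN : C ≤ N := Subgroup.centralizer_le_normalizer _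
  have hD'C' : D' ≤ C := fun x hx => Subgroup.mem_centralizer_iff.2 fun y hy => by
    obtain ⟨i, rfl⟩ := Subgroup.mem_zpowers_iff.1 hy
    exact (Commute.zpow_left (Subgroup.mem_centralizer_singleton_iff.1 (hD'C hx)).symm i).eq
  have hn : (D'.subgroupOf C).Normal := by
    refine ⟨fun x hx g => ?_⟩
    refine ⟨?_, (((g : ↥C) : ↥X) * ((x : ↥C) : ↥X) * ((g : ↥C) : ↥X)⁻¹).2⟩
    have hga : (((g : ↥C) : ↥X) : G) ∈ Subgroup.centralizer ({a} : Set G) :=
      Subgroup.mem_centralizer_singleton_iff.2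
        (congrArg Subtype.val (Subgroup.mem_centralizer_iff.1 g.2 a' (Subgroup.mem_zpowers a'))).symm
    obtain ⟨y, hy, hyx⟩ := (hx.1 : (((x : ↥C) : ↥X) : G) ∈ Cfsg.centralizerPPrimeCore p a)
    refine ⟨⟨_, hga⟩ * y * (⟨_, hga⟩)⁻¹, (FittingCores.pPrimeCore_normal p).conj_mem y hy _, ?_⟩
    show (((g : ↥C) : ↥X) : G) * (y : G) * (((g : ↥C) : ↥X) : G)⁻¹ = _
    rw [show (y : G) = (((x : ↥C) : ↥X) : G) from hyx]
    rfl
  have hD'cop : (Nat.card ↥D').Coprime p := by
    refine ((Nat.Prime.coprime_iff_not_dvd Fact.out).2 fun hd => hcop a (hd.trans ?_)).symm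
    rw [hD', Nat.card_congr (Subgroup.subgroupOfEquivOfLe inf_le_right).toEquiv]
    exact Subgroup.card_dvd_of_le inf_le_left
  have hsub : (D'.subgroupOf N).IsSubnormal := by
    refine Subgroup.IsSubnormal.step _ (C.subgroupOf N) (Subgroup.comap_mono hD'C') ?_ ?_
    · refine Subgroup.Normal.isSubnormal ?_
      refine Subgroup.normal_subgroupOf_of_le_normalizer fun g hg => ?_
      refine Subgroup.mem_normalizer_fintype fun c hc => Subgroup.mem_centralizer_iff.2 fun y hy => ?_
      have h1 := Subgroup.mem_centralizer_iff.1 hc _ ((Subgroup.mem_normalizer_iff''.1 hg y).1 hy)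
      calc y * (g * c * g⁻¹) = g * (g⁻¹ * y * g * c) * g⁻¹ := by group
        _ = g * (c * (g⁻¹ * y * g)) * g⁻¹ := by rw [h1]
        _ = (g * c * g⁻¹) * y := by group
    · refine Subgroup.normal_subgroupOf_of_le_normalizer fun g hg => ?_
      refine Subgroup.mem_normalizer_fintype fun d hd => ?_
      exact hn.conj_mem ⟨(d : ↥X), hD'C' hd⟩ hd ⟨(g : ↥X), hg⟩
  have hle : D'.subgroupOf N ≤ Cfsg.pPrimeCore p ↥N :=
    Components.subnormal_le_pPrimeCore hsub (by
      rw [Nat.card_congr (Subgroup.subgroupOfEquivOfLe (hD'C'.trans hCN)).toEquiv]; exact hD'cop)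
  intro x hx
  have hxD' : (⟨x, hx.2⟩ : ↥X) ∈ D' := hx
  exact ⟨⟨x, hx.2⟩, h93 ⟨⟨⟨x, hx.2⟩, hCN (hD'C' hxD')⟩, hle hxD', rfl⟩, rfl⟩

end Cfsg.Agent.S1279
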