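import Cfsg.Statements.S2091
import Cfsg.Agent.Lib.FischerPresented.Mult6
import Cfsg.Agent.Lib.FischerPresented.TripleHom
import Cfsg.Agent.Lib.FischerPresented.Cover6
import Cfsg.Agent.Lib.FischerPresented.U62Field
import Cfsg.Agent.Lib.Schur.Congr
-- import your own Cfsg.Agent.* helpers here

set_option autoImplicit false
open Cfsg

namespace Cfsg.Agent.S2091

/-- Exceptional Schur multiplier: PSU₆(2), realised over the field with 4 elements, has Schur multiplier isomorphic to the product of cyclic groups of orders 3, 2 and 2 (order 12, not cyclic; here the Schur multiplier is described through stem extensions, as in the definitions). -/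
theorem result {F : Type*} [Field F] [Fintype F] (hF : Fintype.card F = 4) : Cfsg.HasSchurMultiplier (Cfsg.PSU 6 F 2) (Multiplicative (ZMod 3 × ZMod 2 × ZMod 2)) := by
  obtain ⟨e⟩ := FischerPresented.U62.nonempty_psu_six_model hF
  have hfin : Finite FischerPresented.Mult6.PU :=
    Nat.finite_of_card_ne_zero (by rw [FischerPresented.U62.card_psu]; norm_num)
  have : Finite (Cfsg.PSU 6 F 2) := Finite.of_equiv _ e.symm.toEquiv
  have hmod : Cfsg.HasSchurMultiplier FischerPresented.Mult6.PU
      (Multiplicative (ZMod 3 × ZMod 2 × ZMod 2)) := by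
    refine ⟨?_, fun Γ _ _ τ hτ => ?_⟩
    · obtain ⟨E, hE, hF', τ, hs, hc, hm, hn⟩ := FischerPresented.Cover6.exists_cover
      exact ⟨E, hE, hF', τ, ⟨hs, hc, hm⟩, hn⟩
    · obtain ⟨H, B, K, h3, b2, k2, hgen⟩ :=
        FischerPresented.Mult6.exists_ker_gen hτ.2.1 hτ.1 hτ.2.2
      let : CommGroup τ.ker :=
        { (inferInstance : Group τ.ker) with
          mul_comm := fun p q => Subtype.ext (Subgroup.mem_center_iff.1 (hτ.2.1 q.2) p) }
      exact ⟨FischerPresented.tripleHom H B K h3 b2 k2,
        FischerPresented.tripleHom_surjective h3 b2 k2 hgen⟩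
  obtain ⟨m⟩ := Schur.multiplierEquiv hmod
  obtain ⟨c⟩ := Schur.multiplierEquiv_of_mulEquiv e
  exact Schur.hasSchurMultiplier_iff.2 ⟨c.trans m⟩

end Cfsg.Agent.S2091
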