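import Cfsg.Statements.S0421
import Cfsg.Agent.Lib.M12Uniq.ElevenDegrees
import Cfsg.Agent.Lib.M12Uniq.CharEleven
import Cfsg.Agent.Lib.M12Uniq.FromChar

set_option autoImplicit false
open scoped Pointwise
open Cfsg

namespace Cfsg.Agent.S0421

/-- Simple groups of order 95040 are all isomorphic to the concrete Mathieu group of degree 12. -/
theorem result {G : Type*} [Group G] [Finite G] (hG : Cfsg.IsM12 G) (d : Finset Cfsg.GolayPt) (hd : d ∈ Cfsg.dodecads) : Nonempty (G ≃* ↥(MulAction.stabilizer Cfsg.M24 d)) := by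
  classical
  haveI : IsSimpleGroup G := hG.1
  haveI : Fintype G := Fintype.ofFinite G
  have hcard : Nat.card G = 95040 := hG.2
  obtain ⟨h11, hN, x, c₁, c₂, c₃, c₄, θ, θ', δ, h⟩ := M12Uniq.eleven_degrees hcard
  rcases h with E | ⟨E, hδ, s, hs, hC, h1, h2, h3, h4, h5⟩
  · exact (M12Uniq.not_oneSixty hcard E).elim
  subst hδ
  obtain ⟨y, u, w, T⟩ := M12Uniq.exists_ten hcard E h11
  obtain ⟨ξ, hξ, hdeg, hreal, hsq, hskew⟩ :=
    M12Uniq.exists_char hcard E T h11 hs hC h1 h2 h3 h4 h5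
  obtain ⟨e⟩ := M12Uniq.nonempty_equiv_of_char hcard hN hξ hdeg hreal hsq hskew
  obtain ⟨e'⟩ := Golay.nonempty_stabDodecad hd
  exact ⟨e.trans e'.symm⟩

end Cfsg.Agent.S0421
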