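import Cfsg.Statements.S3286
import Cfsg.Agent.Lib.M12Cent.Order
import Cfsg.Agent.Lib.M12Cent.Concrete
import Cfsg.Agent.S0421

set_option autoImplicit false
open Cfsg

namespace Cfsg.Agent.S3286

/-- Let G be a non-abelian finite simple group containing an involution whose centralizer is isomorphic to the centralizer, in the Mathieu group M₁₂, of an involution lying in the centre of a Sylow 2-subgroup of M₁₂. Then G is isomorphic to M₁₂. -/
theorem result {G : Type*} [Group G] [Finite G] [IsSimpleGroup G] (hG : ¬ IsMulCommutative G)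
    (u : ↥Cfsg.Spor.M12) (hu : Cfsg.IsTwoCentralInvolution u)
    (t : G) (ht : orderOf t = 2) (e : ↥(Subgroup.centralizer ({t} : Set G)) ≃* ↥(Subgroup.centralizer ({u} : Set ↥Cfsg.Spor.M12))) :
    Cfsg.Spor.IsoM12 G := by
  obtain ⟨S, rfl⟩ := M12Cent.exists_setup u hu
  let T : M12Cent.Setup G := S.ofEquiv ht e
  have hG' : Nat.card G = 95040 := T.card_eq (T.full_of_simple hG)
  have hM : Nat.card ↥Cfsg.Spor.M12 = 95040 := Golay.card_sporM12
  haveI hMs : IsSimpleGroup ↥Cfsg.Spor.M12 := by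
    rw [Golay.sporM12_eq]
    exact Golay.isSimpleGroup_M12
  obtain ⟨e₁⟩ := S0421.result (G := G) ⟨inferInstance, hG'⟩ _ Golay.squareDodecad_mem
  obtain ⟨e₂⟩ := S0421.result (G := ↥Cfsg.Spor.M12) ⟨hMs, hM⟩ _ Golay.squareDodecad_mem
  exact ⟨e₁.trans e₂.symm⟩

end Cfsg.Agent.S3286
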