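import Cfsg.Statements.S0744
import Cfsg.Agent.Lib.Perm.Multiple
-- import your own Cfsg.Agent.* helpers here

set_option autoImplicit false
set_option linter.style.haveILetI false
open Cfsg

namespace Cfsg.Agent.S0744

/-- If for some `k > 1` the pointwise stabilisers of all `(k-1)`-subsets have the same order `> 1` and those of all `k`-subsets have the same order, then the group is `(k-1)`-transitive. -/
theorem result {α : Type*} [Fintype α] [DecidableEq α] (G : Subgroup (Equiv.Perm α)) {k : ℕ} (hk : 1 < k) (hkn : k ≤ Fintype.card α) (l m : ℕ) (hl : 1 < l) (hkm1 : ∀ s : Finset α, s.card = k - 1 → Nat.card (fixingSubgroup G (s : Set α)) = l) (hkm : ∀ s : Finset α, s.card = k → Nat.card (fixingSubgroup G (s : Set α)) = m) : MulAction.IsMultiplyPretransitive G α (k - 1) := by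
  classical
  have hos : ∀ (K : Type _) [Group K] [MulAction K α] (z : α),
      Nat.card (MulAction.orbit K z) * Nat.card (MulAction.stabilizer K z) = Nat.card K :=
    fun K _ _ z => by
      rw [← Nat.card_prod]; exact Nat.card_congr (MulAction.orbitProdStabilizerEquivGroup K z)
  have hbase : PermMultiple.FixTransitive G α (k - 2) := by
    intro S hS x y hx hy
    let H : Subgroup G := fixingSubgroup G (S : Set α)
    suffices hxy : y ∈ MulAction.orbit H x by
      obtain ⟨g, hg⟩ := hxy
      exact ⟨g, fun z hz => (mem_fixingSubgroup_iff G).1 g.2 z hz, hg⟩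
    by_contra hxy
    have hcardF : ∀ u : α, u ∉ S → Nat.card (MulAction.stabilizer H u) = l := by
      intro u hu
      rw [← hkm1 (insert u S) (by rw [Finset.card_insert_of_notMem hu, hS]; omega)]
      refine Nat.card_congr ⟨fun g => ⟨(g : H), (mem_fixingSubgroup_iff G).2 fun z hz => ?_⟩,
        fun g => ⟨⟨g, (mem_fixingSubgroup_iff G).2 fun z hz =>
          (mem_fixingSubgroup_iff G).1 g.2 z (by simp only [Finset.coe_insert, Set.mem_insert_iff]; exact Or.inr hz)⟩,
          (mem_fixingSubgroup_iff G).1 g.2 u (by simp)⟩, fun g => rfl, fun g => rfl⟩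
      simp only [Finset.coe_insert, Set.mem_insert_iff] at hz
      rcases hz with rfl | hz
      · exact g.2
      · exact (mem_fixingSubgroup_iff G).1 (g : H).2 z hz
    have hsub : ∀ u : α, u ∉ S → ∀ w : α, w ∉ S → w ≠ u →
        Nat.card (MulAction.orbit (MulAction.stabilizer H u) w) * m = l := by
      intro u hu w hw hwu
      have h1 := hos
        (MulAction.stabilizer H u) w
      rw [← hcardF u hu, ← h1]
      congr 1
      rw [← hkm (insert w (insert u S)) (by
        rw [Finset.card_insert_of_notMem (by simp [hwu, hw]), Finset.card_insert_of_notMem hu, hS]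
        omega)]
      refine Nat.card_congr ⟨fun g => ⟨⟨⟨g, (mem_fixingSubgroup_iff G).2 fun z hz =>
          (mem_fixingSubgroup_iff G).1 g.2 z (by simp only [Finset.coe_insert, Set.mem_insert_iff]; exact Or.inr (Or.inr hz))⟩,
          (mem_fixingSubgroup_iff G).1 g.2 u (by simp)⟩, (mem_fixingSubgroup_iff G).1 g.2 w (by simp)⟩,
        fun g => ⟨((g : MulAction.stabilizer H u) : H), (mem_fixingSubgroup_iff G).2 fun z hz => ?_⟩,
        fun g => rfl, fun g => rfl⟩
      simp only [Finset.coe_insert, Set.mem_insert_iff] at hz
      rcases hz with e | e | hz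
      · rw [e]; exact g.2
      · rw [e]; exact (g : MulAction.stabilizer H u).2
      · exact (mem_fixingSubgroup_iff G).1 ((g : MulAction.stabilizer H u) : H).2 z hz
    have hxyne : y ≠ x := fun e => hxy (by rw [e]; exact MulAction.mem_orbit_self x)
    set r := Nat.card (MulAction.orbit (MulAction.stabilizer H x) y) with hrdef
    have hrm : r * m = l := hsub x hx y hy hxyne
    have hr : ∀ u : α, u ∉ S → ∀ w : α, w ∉ S → w ≠ u →
        Nat.card (MulAction.orbit (MulAction.stabilizer H u) w) = r := by
      intro u hu w hw hwu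
      have h1 := hsub u hu w hw hwu
      rw [← hrm] at h1
      rcases Nat.eq_zero_or_pos m with hm | hm
      · rw [hm, mul_zero] at hrm; omega
      · exact Nat.eq_of_mul_eq_mul_right hm h1
    have hTS : ∀ w : α, w ∉ S → ∀ z ∈ (MulAction.orbit H w).toFinset, z ∉ S := by
      intro w hw z hz hzS
      rw [Set.mem_toFinset] at hz
      obtain ⟨g, rfl⟩ := hz
      have h2 : (g : G) • (g : G) • w = (g : G) • w :=
        (mem_fixingSubgroup_iff G).1 g.2 _ hzS
      rw [smul_left_cancel_iff] at h2
      exact hw (h2 ▸ hzS)
    have hinv : ∀ (w u : α), ∀ g : MulAction.stabilizer H u,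
        ∀ z ∈ (MulAction.orbit H w).toFinset, g • z ∈ (MulAction.orbit H w).toFinset := by
      intro w u g z hz
      rw [Set.mem_toFinset] at hz ⊢
      exact MulAction.mem_orbit_of_mem_orbit (g : H) hz
    have horb : ∀ w : α, w ∉ S → Nat.card H = (MulAction.orbit H w).toFinset.card * l := by
      intro w hw
      rw [← hcardF w hw, ← Nat.card_eq_card_toFinset,
        hos]
    have h1 : r ∣ (MulAction.orbit H y).toFinset.card :=
      PermMultiple.dvd_card_of_dvd_orbit (G := MulAction.stabilizer H x) _ (hinv y x) fun z hz => by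
        rw [hr x hx z (hTS y hy z hz) fun e => hxy (MulAction.mem_orbit_symm.1 (by
          rw [Set.mem_toFinset, e] at hz; exact hz))]
    have h2 : r ∣ ((MulAction.orbit H x).toFinset.erase x).card :=
      PermMultiple.dvd_card_of_dvd_orbit (G := MulAction.stabilizer H x) _
        (fun g z hz => Finset.mem_erase.2 ⟨fun e => (Finset.mem_erase.1 hz).1
          (smul_left_cancel g (e.trans (show g • x = x from (g : MulAction.stabilizer H x).2).symm)),
          hinv x x g z (Finset.mem_erase.1 hz).2⟩) fun z hz => by
        rw [hr x hx z (hTS x hx z (Finset.mem_erase.1 hz).2) (Finset.mem_erase.1 hz).1]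
    have hxT : x ∈ (MulAction.orbit H x).toFinset := by
      rw [Set.mem_toFinset]; exact MulAction.mem_orbit_self x
    have heq : (MulAction.orbit H x).toFinset.card = (MulAction.orbit H y).toFinset.card :=
      Nat.eq_of_mul_eq_mul_right (by omega : 0 < l) ((horb x hx).symm.trans (horb y hy))
    rw [← heq, ← Finset.card_erase_add_one hxT, Nat.dvd_add_right h2, Nat.dvd_one] at h1
    -- all orbits of a point stabiliser are singletons
    have htriv : ∀ g : MulAction.stabilizer H x, g = 1 := by
      intro g
      refine Subtype.ext (Subtype.ext (Subtype.ext (Equiv.ext fun z => ?_)))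
      show ((g : H) : G) • z = z
      by_cases hzS : z ∈ S
      · exact (mem_fixingSubgroup_iff G).1 (g : H).2 z hzS
      by_cases hzx : z = x
      · rw [hzx]; exact g.2
      have h3 := hr x hx z hzS hzx
      rw [h1, Nat.card_eq_one_iff_exists] at h3
      obtain ⟨w, hw⟩ := h3
      exact congrArg Subtype.val ((hw ⟨g • z, MulAction.mem_orbit z g⟩).trans
        (hw ⟨z, MulAction.mem_orbit_self z⟩).symm)
    have h4 := hcardF x hx
    rw [Nat.card_eq_one_iff_exists.2 ⟨1, htriv⟩] at h4
    omega
  exact PermMultiple.isMultiplyPretransitive_of_fixTransitive fun j hj =>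
    PermMultiple.fixTransitive_le hbase (by omega) (by omega)

end Cfsg.Agent.S0744
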