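import Cfsg.Statements.S0743
import Cfsg.Agent.Lib.Perm.Multiple
-- import your own Cfsg.Agent.* helpers here

set_option autoImplicit false
set_option linter.style.haveILetI false
open Cfsg

namespace Cfsg.Agent.S0743

/-- Gleason's Lemma: let `p` be a prime and `1 ≤ k < n`; if every `k`-subset of the `n` points is exactly the fixed-point set of some `p`-subgroup of `G`, then `G` is `k`-transitive. -/
theorem result {α : Type*} [Fintype α] [DecidableEq α] (G : Subgroup (Equiv.Perm α)) {p k : ℕ} (hp : p.Prime) (hk : 1 ≤ k) (hkn : k < Fintype.card α) (h : ∀ s : Finset α, s.card = k → ∃ P : Subgroup G, IsPGroup p P ∧ MulAction.fixedPoints P α = (s : Set α)) : MulAction.IsMultiplyPretransitive G α k := by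
  haveI := Fact.mk hp
  have hbase : PermMultiple.FixTransitive G α (k - 1) := by
    intro S hS x y hx hy
    let H : Subgroup G := fixingSubgroup G (S : Set α)
    suffices hxy : y ∈ MulAction.orbit H x by
      obtain ⟨g, hg⟩ := hxy
      exact ⟨g, fun z hz => (mem_fixingSubgroup_iff G).1 g.2 z hz, hg⟩
    by_contra hxy
    have hP : ∀ u : α, u ∉ S → ∃ P : Subgroup G, P ≤ H ∧ IsPGroup p P ∧ (∀ g : P, g • u = u) ∧
        ∀ z : α, z ∉ S → z ≠ u → p ∣ Nat.card (MulAction.orbit P z) := by
      intro u hu
      obtain ⟨P, hP, hfix⟩ := h (insert u S) (by rw [Finset.card_insert_of_notMem hu, hS]; omega)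
      refine ⟨P, fun g hg => (mem_fixingSubgroup_iff G).2 fun z hz => ?_, hP,
        fun g => (hfix.ge (by simp) : u ∈ MulAction.fixedPoints P α) g, fun z hzS hzu => ?_⟩
      · exact (hfix.ge (by simpa using Or.inr hz) : z ∈ MulAction.fixedPoints P α) ⟨g, hg⟩
      · obtain ⟨n, hn⟩ := hP.card_orbit z
        rw [hn]
        refine dvd_pow_self p ?_
        rintro rfl
        rw [pow_zero, Nat.card_eq_one_iff_exists] at hn
        obtain ⟨⟨w, hw⟩, huniq⟩ := hn
        have hz : z ∈ MulAction.fixedPoints P α := fun g => by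
          have h1 := huniq ⟨g • z, MulAction.mem_orbit z g⟩
          have h2 := huniq ⟨z, MulAction.mem_orbit_self z⟩
          exact congrArg Subtype.val (h1.trans h2.symm)
        rw [hfix] at hz
        simp [hzu, hzS] at hz
    classical
    set T := (MulAction.orbit H y).toFinset with hTdef
    have hTS : ∀ z ∈ T, z ∉ S := by
      intro z hz hzS
      rw [hTdef, Set.mem_toFinset] at hz
      obtain ⟨g, rfl⟩ := hz
      have h2 : (g : G) • (g : G) • y = (g : G) • y :=
        (mem_fixingSubgroup_iff G).1 g.2 _ hzS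
      rw [smul_left_cancel_iff] at h2
      exact hy (h2 ▸ hzS)
    have hinv : ∀ (P : Subgroup G), P ≤ H → ∀ g : P, ∀ z ∈ T, g • z ∈ T := by
      intro P hP g z hz
      rw [hTdef, Set.mem_toFinset] at hz ⊢
      exact MulAction.mem_orbit_of_mem_orbit (⟨g, hP g.2⟩ : H) hz
    obtain ⟨P, hPH, -, -, hPd⟩ := hP x hx
    have h1 : p ∣ T.card := PermMultiple.dvd_card_of_dvd_orbit T (hinv P hPH) fun z hz =>
      hPd z (hTS z hz) fun e => hxy (MulAction.mem_orbit_symm.1 (by
        rw [hTdef, Set.mem_toFinset, e] at hz; exact hz))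
    obtain ⟨Q, hQH, -, hyfix, hQd⟩ := hP y hy
    have h2 : p ∣ (T.erase y).card := PermMultiple.dvd_card_of_dvd_orbit (T.erase y)
      (fun g z hz => Finset.mem_erase.2 ⟨fun e => (Finset.mem_erase.1 hz).1
        (smul_left_cancel g (e.trans (hyfix g).symm)), hinv Q hQH g z (Finset.mem_erase.1 hz).2⟩)
      fun z hz => hQd z (hTS z (Finset.mem_erase.1 hz).2) (Finset.mem_erase.1 hz).1
    have hyT : y ∈ T := by rw [hTdef, Set.mem_toFinset]; exact MulAction.mem_orbit_self y
    rw [← Finset.card_erase_add_one hyT, Nat.dvd_add_right h2, Nat.dvd_one] at h1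
    exact hp.ne_one h1
  exact PermMultiple.isMultiplyPretransitive_of_fixTransitive fun j hj =>
    PermMultiple.fixTransitive_le hbase (by omega) (by omega)

end Cfsg.Agent.S0743
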