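import Cfsg.Statements.S0695
import Mathlib.GroupTheory.GroupAction.MultiplePrimitivity
import Mathlib.GroupTheory.Sylow
import Mathlib.Data.Set.Card
-- import your own Cfsg.Agent.* helpers here

set_option autoImplicit false
set_option linter.style.haveILetI false
open Cfsg
open scoped Pointwise

namespace Cfsg.Agent.S0695

/-- A regular normal subgroup of a doubly primitive group of finite degree at least 2 is an elementary abelian 2-group (and the degree is a power of 2), unless the degree is 3. -/
theorem result {G : Type*} [Group G] {X : Type*} [Fintype X] [MulAction G X] (hX : 2 ≤ Fintype.card X) (h2 : MulAction.IsMultiplyPreprimitive G X 2) (N : Subgroup G) [N.Normal] (htrans : MulAction.IsPretransitive N X) (hreg : ∀ x : X, MulAction.stabilizer N x = ⊥) : Fintype.card X = 3 ∨ (IsMulCommutative N ∧ (∀ n ∈ N, n ^ 2 = 1) ∧ ∃ m : ℕ, Fintype.card X = 2 ^ m) := by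
  classical
  haveI := htrans
  have hXne : Nonempty X := Fintype.card_pos_iff.1 (by omega)
  obtain ⟨a⟩ := hXne
  have hinj : ∀ n n' : N, (n : G) • a = (n' : G) • a → n = n' := fun n n' h => by
    have h1 : n'⁻¹ * n ∈ MulAction.stabilizer N a := by
      rw [MulAction.mem_stabilizer_iff, mul_smul, inv_smul_eq_iff]
      exact h
    rw [hreg a, Subgroup.mem_bot] at h1
    exact (eq_of_inv_mul_eq_one h1).symm
  have hbij : Function.Bijective fun n : N => (n : G) • a :=
    ⟨fun n n' h => hinj n n' h, fun x => MulAction.exists_smul_eq N a x⟩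
  have hcard : Nat.card N = Fintype.card X := by
    rw [← Nat.card_eq_fintype_card]; exact Nat.card_congr (Equiv.ofBijective _ hbij)
  by_cases hsq : ∀ n ∈ N, n ^ 2 = 1
  · refine Or.inr ⟨⟨⟨fun x y => ?_⟩⟩, hsq, ?_⟩
    · have hh : ∀ z : N, z⁻¹ = z := fun z => inv_eq_of_mul_eq_one_right (Subtype.ext (by
        simpa [pow_two] using hsq z z.2))
      calc x * y = (x * y)⁻¹ := (hh _).symm
        _ = y * x := by rw [mul_inv_rev, hh, hh]
    · haveI : Finite N := Finite.of_injective _ hbij.1
      haveI := Fact.mk Nat.prime_two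
      have hp : IsPGroup 2 N := fun n => ⟨1, Subtype.ext (by simpa using hsq n n.2)⟩
      obtain ⟨m, hm⟩ := hp.exists_card_eq
      exact ⟨m, hcard.symm.trans hm⟩
  simp only [not_forall] at hsq
  obtain ⟨n, hnN, hn2⟩ := hsq
  left
  have hprim := MulAction.IsMultiplyPreprimitive.isPreprimitive_ofFixingSubgroup G 2 (α := X)
    (s := {a}) (by rw [Set.encard_singleton]; norm_num)
  have hn1 : n ≠ 1 := fun e => hn2 (by rw [e, one_pow])
  have hnia : n⁻¹ • a ≠ n • a := fun e => hn2 (by
    have := congrArg Subtype.val (hinj ⟨n⁻¹, N.inv_mem hnN⟩ ⟨n, hnN⟩ e)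
    rw [pow_two]; nth_rewrite 1 [← show n⁻¹ = n from this]; exact inv_mul_cancel n)
  have hna : ∀ k : G, k ∈ N → k ≠ 1 → k • a ∈ SubMulAction.ofFixingSubgroup G ({a} : Set X) := by
    intro k hk hk1
    rw [SubMulAction.mem_ofFixingSubgroup_iff, Set.mem_singleton_iff]
    exact fun e => hk1 (congrArg Subtype.val (hinj ⟨k, hk⟩ 1 (by simpa using e)))
  let u : SubMulAction.ofFixingSubgroup G ({a} : Set X) := ⟨n • a, hna n hnN hn1⟩
  let v : SubMulAction.ofFixingSubgroup G ({a} : Set X) :=
    ⟨n⁻¹ • a, hna n⁻¹ (N.inv_mem hnN) (inv_ne_one.2 hn1)⟩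
  have hB : MulAction.IsBlock (fixingSubgroup G ({a} : Set X)) ({u, v} : Set _) := by
    rw [MulAction.isBlock_iff_smul_eq_of_nonempty]
    intro g hne
    have hga : (g : G)⁻¹ • a = a :=
      inv_smul_eq_iff.2 ((mem_fixingSubgroup_iff G).1 g.2 a rfl).symm
    set k := (g : G) * n * (g : G)⁻¹ with hk
    have hkN : k ∈ N := (inferInstance : N.Normal).conj_mem n hnN g
    have hgu : ((g • u : SubMulAction.ofFixingSubgroup G ({a} : Set X)) : X) = k • a := by
      show (g : G) • n • a = _; rw [hk, mul_smul, mul_smul, hga]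
    have hgv : ((g • v : SubMulAction.ofFixingSubgroup G ({a} : Set X)) : X) = k⁻¹ • a := by
      show (g : G) • n⁻¹ • a = _
      rw [hk, mul_inv_rev, mul_inv_rev, inv_inv, mul_smul, mul_smul, hga]
    have hkk : k = n ∨ k = n⁻¹ := by
      have key : ∀ i j : G, ∀ hi : i ∈ N, ∀ hj : j ∈ N, i • a = j • a → i = j :=
        fun i j hi hj e => congrArg Subtype.val (hinj ⟨i, hi⟩ ⟨j, hj⟩ e)
      obtain ⟨z, hz, hz'⟩ := hne
      rw [Set.smul_set_insert, Set.smul_set_singleton] at hz
      rcases hz with rfl | rfl <;> rcases hz' with e | e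
      · exact Or.inl (key _ _ hkN hnN (hgu.symm.trans (congrArg Subtype.val e)))
      · exact Or.inr (key _ _ hkN (N.inv_mem hnN) (hgu.symm.trans (congrArg Subtype.val e)))
      · exact Or.inr (inv_eq_iff_eq_inv.1
          (key _ _ (N.inv_mem hkN) hnN (hgv.symm.trans (congrArg Subtype.val e))))
      · exact Or.inl (inv_inj.1
          (key _ _ (N.inv_mem hkN) (N.inv_mem hnN) (hgv.symm.trans (congrArg Subtype.val e))))
    rw [Set.smul_set_insert, Set.smul_set_singleton]
    rcases hkk with e | e
    · rw [e] at hgu hgv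
      rw [show g • u = u from Subtype.ext hgu, show g • v = v from Subtype.ext hgv]
    · rw [e] at hgu hgv
      rw [inv_inv] at hgv
      rw [show g • u = v from Subtype.ext hgu, show g • v = u from Subtype.ext hgv, Set.pair_comm]
  rcases hprim.isTrivialBlock_of_isBlock hB with h | h
  · exact absurd (congrArg Subtype.val (h (Or.inr rfl) (Or.inl rfl) : v = u)) hnia
  · have huniv : (Finset.univ : Finset X) = {a, n • a, n⁻¹ • a} := by
      ext x
      simp only [Finset.mem_univ, true_iff, Finset.mem_insert, Finset.mem_singleton]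
      by_cases hx : x = a
      · exact Or.inl hx
      · rcases (h.ge (Set.mem_univ (⟨x, hx⟩ : SubMulAction.ofFixingSubgroup G ({a} : Set X))) :
          _ ∈ ({u, v} : Set _)) with e | e
        · exact Or.inr (Or.inl (congrArg Subtype.val e))
        · exact Or.inr (Or.inr (congrArg Subtype.val e))
    rw [← Finset.card_univ, huniv, Finset.card_eq_three]
    exact ⟨a, n • a, n⁻¹ • a, fun e => (hna n hnN hn1) e.symm,
      fun e => (hna n⁻¹ (N.inv_mem hnN) (inv_ne_one.2 hn1)) e.symm, hnia.symm, rfl⟩

end Cfsg.Agent.S0695
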