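import Cfsg.Statements.S0696
import Mathlib.GroupTheory.GroupAction.MultiplePrimitivity
import Mathlib.GroupTheory.Sylow
import Mathlib.Data.Set.Card
import Cfsg.Agent.S0695
-- import your own Cfsg.Agent.* helpers here

set_option autoImplicit false
set_option linter.style.haveILetI false
open Cfsg
open scoped Pointwise

namespace Cfsg.Agent.S0696

/-- A triply primitive group of degree at least 3 having a regular normal subgroup has degree 3 or 4. -/
theorem result {G : Type*} [Group G] {X : Type*} [Fintype X] [MulAction G X] (hX : 3 ≤ Fintype.card X) (h3 : MulAction.IsMultiplyPreprimitive G X 3) (N : Subgroup G) [N.Normal] (htrans : MulAction.IsPretransitive N X) (hreg : ∀ x : X, MulAction.stabilizer N x = ⊥) : Fintype.card X = 3 ∨ Fintype.card X = 4 := by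
  classical
  haveI := htrans
  have hEN : ((3 : ℕ) : ℕ∞) ≤ ENat.card X := by
    rw [ENat.card_eq_coe_fintype_card]; exact_mod_cast hX
  have h2 : MulAction.IsMultiplyPreprimitive G X 2 :=
    MulAction.isMultiplyPreprimitive_of_le G X h3 (by omega) hEN
  rcases S0695.result (by omega) h2 N htrans hreg with h | ⟨hcomm, hsq, m, hm⟩
  · exact Or.inl h
  right
  have hge : 4 ≤ Fintype.card X := by
    rcases m with _ | _ | m
    · simp [hm] at hX
    · simp [hm] at hX
    · rw [hm, pow_succ, pow_succ]
      have := Nat.one_le_pow m 2 (by norm_num)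
      omega
  refine le_antisymm ?_ hge
  by_contra hgt
  rw [not_le] at hgt
  have hXne : Nonempty X := Fintype.card_pos_iff.1 (by omega)
  obtain ⟨a⟩ := hXne
  have key : ∀ i j : G, i ∈ N → j ∈ N → i • a = j • a → i = j := fun i j hi hj e => by
    have h1 : (⟨j, hj⟩ : N)⁻¹ * ⟨i, hi⟩ ∈ MulAction.stabilizer N a := by
      rw [MulAction.mem_stabilizer_iff, mul_smul, inv_smul_eq_iff]
      exact e
    rw [hreg a, Subgroup.mem_bot] at h1
    exact (congrArg Subtype.val (eq_of_inv_mul_eq_one h1)).symm
  obtain ⟨b, hb⟩ : ∃ b, b ≠ a :=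
    Fintype.exists_ne_of_one_lt_card (by omega) a
  obtain ⟨⟨k0, hk0⟩, hk0a⟩ := MulAction.exists_smul_eq N a b
  replace hk0a : k0 • a = b := hk0a
  obtain ⟨c, hca, hcb⟩ : ∃ c, c ≠ a ∧ c ≠ b := by
    refine Classical.byContradiction fun hno => ?_
    have hle : Fintype.card X ≤ ({a, b} : Finset X).card :=
      Finset.card_le_card fun c _ => Classical.byContradiction fun hc => hno ⟨c, by
        simpa [not_or] using hc⟩
    have := Finset.card_le_two (a := a) (b := b)
    omega
  obtain ⟨⟨n, hn⟩, hna⟩ := MulAction.exists_smul_eq N a c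
  replace hna : n • a = c := hna
  have hk01 : k0 ≠ 1 := fun e => hb (by rw [← hk0a, e, one_smul])
  have hk0sq : k0 * k0 = 1 := by rw [← pow_two]; exact hsq k0 hk0
  have hdne : (k0 * n) • a ≠ c := fun e => hk01 (by
    have := key _ _ (N.mul_mem hk0 hn) hn (e.trans hna.symm)
    exact mul_eq_right.1 this)
  have hdb : (k0 * n) • a ≠ b := fun e => hca (by
    have := key _ _ (N.mul_mem hk0 hn) hk0 (e.trans hk0a.symm)
    rw [mul_eq_left] at this
    rw [← hna, this, one_smul])
  have hda : (k0 * n) • a ≠ a := fun e => hcb (by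
    have := key _ _ (N.mul_mem hk0 hn) N.one_mem (by rw [e, one_smul])
    rw [← hna, ← hk0a, show n = k0 from (mul_left_cancel (this.trans hk0sq.symm))])
  have hprim := MulAction.IsMultiplyPreprimitive.isPreprimitive_ofFixingSubgroup G 3 (α := X)
    (s := {a, b}) (by rw [Set.encard_pair hb.symm]; norm_num)
  let u : SubMulAction.ofFixingSubgroup G ({a, b} : Set X) := ⟨c, by
    rw [SubMulAction.mem_ofFixingSubgroup_iff]; simp [hca, hcb]⟩
  let v : SubMulAction.ofFixingSubgroup G ({a, b} : Set X) := ⟨(k0 * n) • a, by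
    rw [SubMulAction.mem_ofFixingSubgroup_iff]; simp [hda, hdb]⟩
  have hB : MulAction.IsBlock (fixingSubgroup G ({a, b} : Set X)) ({u, v} : Set _) := by
    rw [MulAction.isBlock_iff_smul_eq_of_nonempty]
    intro g hne
    have hga : (g : G)⁻¹ • a = a :=
      inv_smul_eq_iff.2 ((mem_fixingSubgroup_iff G).1 g.2 a (Or.inl rfl)).symm
    have hconj : ∀ i : G, (g : G) • i • a = ((g : G) * i * (g : G)⁻¹) • a := fun i => by
      rw [mul_smul, mul_smul, hga]
    have hgk0 : (g : G) * k0 * (g : G)⁻¹ = k0 := by
      refine key _ _ ((inferInstance : N.Normal).conj_mem k0 hk0 g) hk0 ?_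
      rw [← hconj, hk0a]
      exact (mem_fixingSubgroup_iff G).1 g.2 b (Or.inr rfl)
    set k := (g : G) * n * (g : G)⁻¹ with hk
    have hkN : k ∈ N := (inferInstance : N.Normal).conj_mem n hn g
    have hgu : ((g • u : SubMulAction.ofFixingSubgroup G ({a, b} : Set X)) : X) = k • a := by
      show (g : G) • c = _; rw [← hna, hconj]
    have hgv : ((g • v : SubMulAction.ofFixingSubgroup G ({a, b} : Set X)) : X) = (k0 * k) • a := by
      show (g : G) • (k0 * n) • a = _
      rw [hconj]
      congr 1
      calc (g : G) * (k0 * n) * (g : G)⁻¹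
          = ((g : G) * k0 * (g : G)⁻¹) * k := by rw [hk]; group
        _ = k0 * k := by rw [hgk0]
    have hkk : k = n ∨ k = k0 * n := by
      obtain ⟨z, hz, hz'⟩ := hne
      rw [Set.smul_set_insert, Set.smul_set_singleton] at hz
      have hkn := N.mul_mem hk0 hn
      have hkk' := N.mul_mem hk0 hkN
      rcases hz with rfl | rfl <;> rcases hz' with e | e
      · exact Or.inl (key _ _ hkN hn (hgu.symm.trans ((congrArg Subtype.val e).trans hna.symm)))
      · exact Or.inr (key _ _ hkN hkn (hgu.symm.trans (congrArg Subtype.val e)))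
      · refine Or.inr ?_
        rw [← key _ _ hkk' hn (hgv.symm.trans ((congrArg Subtype.val e).trans hna.symm)),
          ← mul_assoc, hk0sq, one_mul]
      · exact Or.inl (mul_left_cancel (key _ _ hkk' hkn (hgv.symm.trans (congrArg Subtype.val e))))
    rw [Set.smul_set_insert, Set.smul_set_singleton]
    rcases hkk with e | e
    · rw [e] at hgu hgv
      rw [show g • u = u from Subtype.ext (hgu.trans hna), show g • v = v from Subtype.ext hgv]
    · rw [e] at hgu hgv
      rw [← mul_assoc, hk0sq, one_mul] at hgv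
      rw [show g • u = v from Subtype.ext hgu, show g • v = u from Subtype.ext (hgv.trans hna)]
      exact Set.pair_comm v u
  rcases hprim.isTrivialBlock_of_isBlock hB with h | h
  · exact hdne (congrArg Subtype.val (h (Or.inr rfl) (Or.inl rfl) : v = u))
  · have hle : Fintype.card X ≤ ({a, b, c, (k0 * n) • a} : Finset X).card := by
      refine Finset.card_le_card fun x _ => ?_
      simp only [Finset.mem_insert, Finset.mem_singleton]
      by_cases hx : x = a
      · exact Or.inl hx
      by_cases hx' : x = b
      · exact Or.inr (Or.inl hx')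
      rcases (h.ge (Set.mem_univ (⟨x, by
          rw [SubMulAction.mem_ofFixingSubgroup_iff]; simp [hx, hx']⟩ :
            SubMulAction.ofFixingSubgroup G ({a, b} : Set X))) : _ ∈ ({u, v} : Set _)) with e | e
      · exact Or.inr (Or.inr (Or.inl (congrArg Subtype.val e)))
      · exact Or.inr (Or.inr (Or.inr (congrArg Subtype.val e)))
    have := hle.trans (Finset.card_le_four)
    omega

end Cfsg.Agent.S0696
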