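import Cfsg.Statements.S0707
import Mathlib.GroupTheory.GroupAction.Primitive
import Mathlib.GroupTheory.Sylow
-- import your own Cfsg.Agent.* helpers here

set_option autoImplicit false
set_option linter.style.haveILetI false
open Cfsg

namespace Cfsg.Agent.S0707

/-- In a primitive permutation group, distinct points have distinct stabilisers unless the group is regular of prime degree. -/
theorem result {α : Type*} (G : Subgroup (Equiv.Perm α)) [MulAction.IsPreprimitive G α] (h : ¬ (Nat.card α).Prime ∨ ∃ a : α, MulAction.stabilizer G a ≠ ⊥) {a b : α} (hab : a ≠ b) : MulAction.stabilizer G a ≠ MulAction.stabilizer G b := by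
  haveI : Nontrivial α := ⟨a, b, hab⟩
  intro hs
  obtain ⟨g, hg⟩ := MulAction.exists_smul_eq G a b
  set S := MulAction.stabilizer G a with hS
  have hco : IsCoatom S := (MulAction.isCoatom_stabilizer_iff_preprimitive G a).2 inferInstance
  have hgN : g ∈ Subgroup.normalizer (S : Set G) := by
    refine Subgroup.mem_normalizer_iff.2 fun h => ?_
    conv_rhs => rw [hs]
    rw [hS, MulAction.mem_stabilizer_iff, MulAction.mem_stabilizer_iff, ← hg, ← mul_smul,
      inv_mul_cancel_right, mul_smul, smul_left_cancel_iff]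
  have hgS : g ∉ S := fun hh => hab (hh.symm.trans hg)
  have htop : Subgroup.normalizer (S : Set G) = ⊤ :=
    hco.2 _ (lt_of_le_of_ne Subgroup.le_normalizer fun e => hgS (e.symm ▸ hgN))
  have hSn : S.Normal := Subgroup.normalizer_eq_top_iff.1 htop
  have hbot : S = ⊥ := by
    rw [eq_bot_iff]
    intro s hs'
    rw [Subgroup.mem_bot, Subtype.ext_iff]
    refine Equiv.ext fun x => ?_
    obtain ⟨k, rfl⟩ := MulAction.exists_smul_eq G a x
    have h0 : k⁻¹ * s * k ∈ S := by simpa using hSn.conj_mem s hs' k⁻¹
    have h1 : (k⁻¹ * s * k) • a = a := MulAction.mem_stabilizer_iff.1 h0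
    rw [mul_smul, mul_smul, inv_smul_eq_iff] at h1
    exact h1
  rcases h with h | ⟨c, hc⟩
  · apply h
    have hgen : ∀ x : G, x ≠ 1 → Subgroup.zpowers x = ⊤ := fun x hx => by
      refine (hbot ▸ hco).2 _ (bot_lt_iff_ne_bot.2 ?_)
      rwa [Ne, Subgroup.zpowers_eq_bot]
    have hg1 : g ≠ 1 := fun e => hgS (e ▸ one_mem S)
    have hfin : IsOfFinOrder g := by
      by_contra hinf
      rw [← orderOf_eq_zero_iff] at hinf
      have h2 : g ^ 2 ≠ 1 := fun e => by
        have := orderOf_dvd_of_pow_eq_one e
        simp [hinf] at this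
      obtain ⟨k, hk⟩ := Subgroup.mem_zpowers_iff.1 (hgen _ h2 ▸ Subgroup.mem_top g)
      rw [← zpow_natCast, ← zpow_mul] at hk
      have h1 : g ^ ((2 : ℤ) * k - 1) = 1 := by
        rw [zpow_sub, zpow_one, mul_inv_eq_one]; exact_mod_cast hk
      rw [← orderOf_dvd_iff_zpow_eq_one, hinf, Nat.cast_zero, zero_dvd_iff] at h1
      omega
    haveI : Finite G := by
      have := hfin.finite_zpowers
      rw [hgen g hg1] at this
      exact Set.finite_univ_iff.1 (by simpa using this)
    haveI : Nontrivial G := ⟨g, 1, hg1⟩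
    have hne1 : Nat.card G ≠ 1 := Finite.one_lt_card.ne'
    obtain ⟨r, hr, hrd⟩ := Nat.exists_prime_and_dvd hne1
    haveI := Fact.mk hr
    obtain ⟨x, hx⟩ := exists_prime_orderOf_dvd_card' r hrd
    have hx1 : x ≠ 1 := fun e => by rw [e, orderOf_one] at hx; exact hr.ne_one hx.symm
    have hcard : Nat.card G = r := by
      rw [← Subgroup.card_top (G := G), ← hgen x hx1, Nat.card_zpowers, hx]
    have hi : Nat.card α = Nat.card G := by
      rw [← MulAction.index_stabilizer_of_transitive G a, show MulAction.stabilizer G a = ⊥ from hbot,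
        Subgroup.index_bot]
    rw [hi, hcard]; exact hr
  · apply hc
    obtain ⟨k, rfl⟩ := MulAction.exists_smul_eq G a c
    rw [MulAction.stabilizer_smul_eq_stabilizer_map_conj, ← hS, hbot, Subgroup.map_bot]

end Cfsg.Agent.S0707
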