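import Cfsg.Statements.S3899
import Cfsg.Agent.Lib.FGStruct.ManyClasses

set_option autoImplicit false
open Cfsg

namespace Cfsg.Agent.S3899

/-- Let π be a finite non-empty set of odd primes with smallest member p and G a finite group. Write k_π(G) for the number of conjugacy classes of G consisting of π-elements (elements all of whose order's prime divisors lie in π) and |G|_π for the π-part of the order of G. If k_π(G) > (p + 1)|G|_π/(2p), then G has a normal π-complement (a normal subgroup of order prime to π whose index is a π-number) and an abelian Hall π-subgroup. -/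
theorem result {G : Type*} [Group G] [Finite G] (π : Finset ℕ) (hπ : ∀ r ∈ π, r.Prime) (h2 : 2 ∉ π) (p : ℕ) (hp : p ∈ π)
    (hmin : ∀ r ∈ π, p ≤ r) (hk : (p + 1) * π.prod (fun r => r ^ (Nat.card G).factorization r) < 2 * p * Nat.card {c : ConjClasses G // ∀ x ∈ c.carrier, ∀ r : ℕ, r.Prime → r ∣ orderOf x → r ∈ π}) :
    (∃ N : Subgroup G, N.Normal ∧ (∀ r : ℕ, r.Prime → r ∣ Nat.card ↥N → r ∉ π) ∧ ∀ r : ℕ, r.Prime → r ∣ N.index → r ∈ π) ∧ ∃ H : Subgroup G, Cfsg.IsPiHall (↑π : Set ℕ) H ∧ IsMulCommutative ↥H := by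
  have hk' : (p + 1) * ManyClasses.part π (Nat.card G) < 2 * p * ManyClasses.kpi π G := hk
  have hr : ∀ r ∈ π, Cfsg.HasNormalPComplement r G ∧ ∀ P : Sylow r G, IsMulCommutative ↥(P : Subgroup G) := by
    intro r hrπ
    haveI := Fact.mk (hπ r hrπ)
    have key : ∀ P : Sylow r G, Cfsg.HasNormalPComplement r G ∧ IsMulCommutative ↥(P : Subgroup G) := by
      intro P
      refine ManyClasses.odd_forces (fun e => h2 (e ▸ hrπ)) P ?_
      have h1 := ManyClasses.kpi_le_kp_mul (G := G) hπ hrπ
      have h3 := hmin r hrπ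
      have h4 := (hπ p hp).pos
      rw [← ManyClasses.part_erase hrπ, ← P.card_eq_multiplicity] at hk'
      set A := Nat.card ↥(P : Subgroup G)
      set B := ManyClasses.part (π.erase r) (Nat.card G)
      have h5 : (p + 1) * A < 2 * p * ManyClasses.kp r G := by
        refine Nat.lt_of_mul_lt_mul_right (a := B) ?_
        calc (p + 1) * A * B = (p + 1) * (A * B) := by ring
          _ < 2 * p * ManyClasses.kpi π G := hk'
          _ ≤ 2 * p * (ManyClasses.kp r G * B) := Nat.mul_le_mul_left _ h1
          _ = _ := by ring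
      refine Nat.lt_of_mul_lt_mul_right (a := p) ?_
      calc (r + 1) * A * p ≤ (p + 1) * A * r := by nlinarith
        _ < 2 * p * ManyClasses.kp r G * r := Nat.mul_lt_mul_of_pos_right h5 (hπ r hrπ).pos
        _ = _ := by ring
    exact ⟨(key default).1, fun P => (key P).2⟩
  obtain ⟨M, hM, hmem, hidx, hH⟩ := ManyClasses.exists_pi_complement π hπ (fun r hr' => (hr r hr').1)
    (fun r hr' => (hr r hr').2)
  refine ⟨⟨M, hM, fun r hrp hd hrπ => ?_, hidx⟩, hH⟩
  haveI := Fact.mk hrp
  obtain ⟨x, hx⟩ := exists_prime_orderOf_dvd_card' r hd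
  have h1 := (hmem (x : G)).1 x.2 r hrπ
  rw [Subgroup.orderOf_coe, hx, Nat.coprime_self] at h1
  exact hrp.ne_one h1

end Cfsg.Agent.S3899
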