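import Cfsg.Statements.S3776
import Cfsg.Agent.Lib.SuzukiSolv.Main

set_option autoImplicit false
open Cfsg

namespace Cfsg.Agent.S3776

/-- Let G be a finite non-abelian 2-group with more than one involution admitting a solvable group of automorphisms that permutes its involutions transitively. Then the derived subgroup, the Frattini subgroup and the centre of G coincide and consist exactly of the elements x with x² = 1. -/
theorem result {G : Type*} [Group G] [Finite G] (hG : IsPGroup 2 G) (hna : ¬ IsMulCommutative G) (htwo : ∃ x y : G, x ≠ y ∧ x ≠ 1 ∧ x ^ 2 = 1 ∧ y ≠ 1 ∧ y ^ 2 = 1) (hY : ∃ Y : Subgroup (MulAut G), Group.IsSolvable Y ∧ ∀ x y : G, x ≠ 1 → x ^ 2 = 1 → y ≠ 1 → y ^ 2 = 1 → ∃ a ∈ Y, a x = y) : commutator G = frattini G ∧ frattini G = Subgroup.center G ∧ ∀ x : G, x ∈ Subgroup.center G ↔ x ^ 2 = 1 := by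
  obtain ⟨Y, hsol, htr⟩ := hY
  obtain ⟨x, y, hxy, hx, hx2, hy, hy2⟩ := htwo
  have hna' : ∃ a b : G, a * b ≠ b * a := by
    by_contra! h
    exact hna ⟨⟨h⟩⟩
  let D : Cfsg.Agent.SuzSolv.Datum G :=
    { isp := hG
      Y := Y
      sol := hsol
      two := ⟨x, y, hxy, hx, by rwa [← pow_two], hy, by rwa [← pow_two]⟩
      trans := fun a b ha ha2 hb hb2 => by
        obtain ⟨k, hk, e⟩ := htr a b ha (by rwa [pow_two]) hb (by rwa [pow_two])
        exact ⟨⟨k, hk⟩, e⟩ }
  refine ⟨(D.commutator_eq_V hna').trans (D.frattini_eq_V hna').symm,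
    (D.frattini_eq_V hna').trans (D.center_eq_V hna').symm, fun z => ?_⟩
  rw [pow_two]
  exact D.mem_center_iff hna' z

end Cfsg.Agent.S3776
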