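import Cfsg.Statements.S4179
import Cfsg.Agent.Lib.SingerOver.Main

set_option autoImplicit false
set_option linter.style.haveILetI false
open Cfsg

namespace Cfsg.Agent.S4179

open Cfsg.Agent.SingerOver


/-- Let V be a vector space of dimension n over the field with two elements with 2^n − 1 prime, and H a group of invertible linear maps of V. Then H is transitive on the non-zero vectors of V if and only if H is cyclic of order 2^n − 1, or H has order n·(2^n − 1) and contains a normal cyclic subgroup of order 2^n − 1, or H is the whole general linear group of V. -/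
theorem result {V : Type*} [AddCommGroup V] [Module (ZMod 2) V] [Finite V] (n : ℕ) (hn : Module.finrank (ZMod 2) V = n)
    (hprime : (2 ^ n - 1).Prime) (H : Subgroup (V ≃ₗ[ZMod 2] V)) :
    (∀ v w : V, v ≠ 0 → w ≠ 0 → ∃ h ∈ H, h v = w) ↔
      ((IsCyclic ↥H ∧ Nat.card ↥H = 2 ^ n - 1) ∨
       (Nat.card ↥H = n * (2 ^ n - 1) ∧ ∃ C : Subgroup (V ≃ₗ[ZMod 2] V), C ≤ H ∧ (C.subgroupOf H).Normal ∧
          IsCyclic ↥C ∧ Nat.card ↥C = 2 ^ n - 1) ∨
       H = ⊤) := by
  classical
  haveI : Fact (Nat.Prime 2) := ⟨Nat.prime_two⟩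
  haveI : Module.Finite (ZMod 2) V := Module.Finite.of_finite
  haveI : Finite (V ≃ₗ[ZMod 2] V) := Finite.of_injective _ DFunLike.coe_injective
  let ρ : H →* (V ≃ₗ[ZMod 2] V) := H.subtype
  have hinj : Function.Injective ρ := H.subtype_injective
  have hn2 : 2 ≤ n := by
    by_contra h
    rcases (show n = 0 ∨ n = 1 by omega) with rfl | rfl <;> norm_num at hprime
  have hnp : n.Prime := (Nat.prime_of_pow_sub_one_prime (by omega) hprime).2
  haveI : Fact (2 ^ n - 1).Prime := ⟨hprime⟩
  constructor
  · intro htr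
    let Ω := {v : V // v ≠ 0}
    letI : MulAction H Ω :=
      { smul := fun g v => ⟨(g : V ≃ₗ[ZMod 2] V) v.1, (g : V ≃ₗ[ZMod 2] V).map_ne_zero_iff.2 v.2⟩
        one_smul := fun v => Subtype.ext (by simp [HSMul.hSMul])
        mul_smul := fun g h v => Subtype.ext (by simp [HSMul.hSMul]) }
    haveI : FaithfulSMul H Ω := ⟨fun {g h} e => Subtype.ext (LinearEquiv.ext fun v => by
      by_cases hv : v = 0
      · simp [hv]
      · exact congrArg Subtype.val (e ⟨v, hv⟩))⟩
    haveI : MulAction.IsPretransitive H Ω := ⟨fun a b => by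
      obtain ⟨g, hg, hgv⟩ := htr a.1 b.1 a.2 b.2
      exact ⟨⟨g, hg⟩, Subtype.ext hgv⟩⟩
    have hΩ : Nat.card Ω = 2 ^ n - 1 := by
      rw [show Ω = ↥(({0} : Set V)ᶜ) from rfl, Nat.card_coe_set_eq, Set.ncard_compl, Set.ncard_singleton,
        Module.natCard_eq_pow_finrank (K := ZMod 2) (V := V), hn, Nat.card_zmod]
    rcases Cfsg.Agent.PermPrime.burnside (G := H) hΩ with hsol | h2
    · -- the solvable case
      obtain ⟨D, hD, hDc⟩ := exists_normal_prime (G := H) hprime hΩ hsol
      obtain ⟨x, hx⟩ := exists_prime_orderOf_dvd_card' (G := D) (2 ^ n - 1) (dvd_of_eq hDc.symm)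
      have hx' : orderOf (x : H) = 2 ^ n - 1 := (Subgroup.orderOf_coe x).trans hx
      have hDx : Subgroup.zpowers (x : H) = D :=
        Subgroup.eq_of_le_of_card_ge (Subgroup.zpowers_le.2 x.2) (by rw [Nat.card_zpowers, hx', hDc])
      have hN : Subgroup.normalizer (Subgroup.zpowers (x : H) : Set H) = ⊤ := by
        rw [hDx]; exact Subgroup.normalizer_eq_top_iff.2 hD
      rcases singer_normalizer (ρ := ρ) hinj hn hnp hprime hx' with h | h
      · rw [hN, Subgroup.card_top] at h
        exact .inl ⟨isCyclic_of_prime_card h, h⟩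
      · rw [hN, Subgroup.card_top] at h
        refine .inr (.inl ⟨h, D.map H.subtype, Subgroup.map_subtype_le D, ?_, ?_, ?_⟩)
        · rw [Subgroup.subgroupOf, Subgroup.comap_map_eq_self_of_injective H.subtype_injective]
          exact hD
        · refine isCyclic_of_prime_card (p := 2 ^ n - 1) ?_
          rw [Subgroup.card_map_of_injective H.subtype_injective, hDc]
        · rw [Subgroup.card_map_of_injective H.subtype_injective, hDc]
    · -- the two-transitive case
      have htwo : Two ρ := by
        intro a b a' b' hab hab'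
        obtain ⟨g, g1, g2⟩ := MulAction.is_two_pretransitive_iff.1 h2
          (show (⟨a, hab.1⟩ : Ω) ≠ ⟨b, hab.2.1⟩ from fun e => hab.2.2 (congrArg Subtype.val e))
          (show (⟨a', hab'.1⟩ : Ω) ≠ ⟨b', hab'.2.1⟩ from fun e => hab'.2.2 (congrArg Subtype.val e))
        exact ⟨g, congrArg Subtype.val g1, congrArg Subtype.val g2⟩
      have C : Ctx ρ n := ⟨htwo, hn, hn2⟩
      rcases noTv_or_surjective C with h | h
      · exact absurd h (not_two_noTv C hinj hnp hprime)
      · refine .inr (.inr (eq_top_iff.2 fun L _ => ?_))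
        obtain ⟨g, rfl⟩ := h L
        exact g.2
  · rintro (⟨-, hcard⟩ | ⟨-, C, hCH, -, -, hcard⟩ | rfl) v w hv hw
    · obtain ⟨x, hx⟩ := exists_prime_orderOf_dvd_card' (G := H) (2 ^ n - 1) (dvd_of_eq hcard.symm)
      obtain ⟨i, hi⟩ := singer_orbit (ρ := ρ) hinj hn hprime hx hv hw
      exact ⟨_, (x ^ i).2, hi⟩
    · obtain ⟨x, hx⟩ := exists_prime_orderOf_dvd_card' (G := C) (2 ^ n - 1) (dvd_of_eq hcard.symm)
      obtain ⟨i, hi⟩ := singer_orbit (ρ := C.subtype) C.subtype_injective hn hprime hx hv hw
      exact ⟨_, hCH (x ^ i).2, hi⟩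
    · by_cases hvw : v = w
      · exact ⟨1, Subgroup.mem_top _, by simp [hvw]⟩
      obtain ⟨f, hf, hf0⟩ := dual_sep (Submodule.span (ZMod 2) {v + w}) (x := v) (by
        rw [Submodule.mem_span_singleton]
        rintro ⟨a, ha⟩
        rcases z2_cases a with rfl | rfl
        · exact hv (by simpa using ha.symm)
        · exact hw (by simpa using ha))
      have hfc := hf0 _ (Submodule.mem_span_singleton_self (v + w))
      have hτ : Function.Involutive ((LinearMap.id : V →ₗ[ZMod 2] V) + f.smulRight (v + w)) := by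
        intro u
        show (u + f u • (v + w)) + f (u + f u • (v + w)) • (v + w) = u
        rw [map_add, map_smul, hfc, smul_zero, add_zero, add_assoc, ZModModule.add_self, add_zero]
      refine ⟨LinearEquiv.ofInvolutive _ hτ, Subgroup.mem_top _, ?_⟩
      show v + f v • (v + w) = w
      rw [hf, one_smul, ← add_assoc, ZModModule.add_self, zero_add]

end Cfsg.Agent.S4179
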