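import Cfsg.Statements.S5059
import Cfsg.Prelude.Def_RootSubgroups
-- import your own Cfsg.Agent.* helpers here

set_option autoImplicit false
universe u
open Cfsg

namespace Cfsg.Agent.S5059

/-- Let k be a field of characteristic not 2 with k not of order 3, M a finite-dimensional k-vector space and G ≤ GL(M) such that (G, M) is a quadratic pair (M irreducible for G, and G generated by its quadratically acting elements σ whose scalar family 1 + c(σ − 1), c ∈ k, lies in G). Write 𝒬_d for the quadratic elements of G of minimal commutator rank, E(σ) for the subgroup generated by the members of 𝒬_d with the same fixed space and commutator space as σ, and Σ for the set of these subgroups. Then for σ ∈ 𝒬_d the subgroup E(σ) consists exactly of those members together with the identity, it is abelian, and if k has prime characteristic p every element of E(σ) has order dividing p. -/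
theorem result {k : Type u} [Field k] (hk2 : ringChar k ≠ 2) (hk3 : Nat.card k ≠ 3)
    {M : Type u} [AddCommGroup M] [Module k M] [FiniteDimensional k M]
    {G : Subgroup (LinearMap.GeneralLinearGroup k M)} (hG : Cfsg.IsQuadraticPair G)
    {σ : LinearMap.GeneralLinearGroup k M} (hσ : σ ∈ Cfsg.minimalQuadraticElements G) :
    (Cfsg.sameActionSubgroup G σ : Set (LinearMap.GeneralLinearGroup k M)) = Cfsg.sameActionClass G σ ∪ {1} ∧
    IsMulCommutative ↥(Cfsg.sameActionSubgroup G σ) ∧
    (∀ p : ℕ, p.Prime → ringChar k = p → ∀ x ∈ Cfsg.sameActionSubgroup G σ, x ^ p = 1) := by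
  classical
  set N : LinearMap.GeneralLinearGroup k M → (M →ₗ[k] M) := fun x => (x : M →ₗ[k] M) - 1 with hN
  set R := LinearMap.range (N σ) with hR
  set K := LinearMap.ker (N σ) with hK
  obtain ⟨⟨hσG, ⟨hσ2, hσne⟩, hσfam⟩, hmin⟩ := hσ
  have hRK : R ≤ K := by
    rintro _ ⟨m, rfl⟩
    exact LinearMap.congr_fun hσ2 m
  -- the set of elements of G acting inside (K, R)
  let H : Set (LinearMap.GeneralLinearGroup k M) :=
    {x | x ∈ G ∧ LinearMap.range (N x) ≤ R ∧ K ≤ LinearMap.ker (N x) ∧ Cfsg.scalarFamily x ⊆ G}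
  have hzero : ∀ {x y}, LinearMap.range (N y) ≤ R → K ≤ LinearMap.ker (N x) → N x * N y = 0 := fun {x y} hy hx =>
    LinearMap.ext fun m => hx (hRK (hy ⟨m, rfl⟩))
  have hmulN : ∀ {x y}, x ∈ H → y ∈ H → N (x * y) = N x + N y := fun {x y} hx hy => by
    have h := hzero hy.2.1 hx.2.2.1
    simp only [hN, Units.val_mul] at h ⊢
    linear_combination (norm := noncomm_ring) h
  -- units of the scalar family
  have hunit : ∀ {x}, x ∈ H → ∀ c : k, ∃ u : LinearMap.GeneralLinearGroup k M, (u : M →ₗ[k] M) = 1 + c • N x := by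
    intro x hx c
    have h := hzero hx.2.1 hx.2.2.1
    exact ⟨⟨1 + c • N x, 1 - c • N x,
      by simp only [add_mul, mul_add, sub_mul, mul_sub, mul_one, one_mul, smul_mul_assoc, mul_smul_comm, h, smul_zero]; abel,
      by simp only [add_mul, mul_add, sub_mul, mul_sub, mul_one, one_mul, smul_mul_assoc, mul_smul_comm, h, smul_zero]; abel⟩, rfl⟩
  have hmul : ∀ {x y}, x ∈ H → y ∈ H → x * y ∈ H := by
    intro x y hx hy
    have e := hmulN hx hy
    refine ⟨mul_mem hx.1 hy.1, ?_, ?_, ?_⟩
    · rw [e]
      rintro _ ⟨m, rfl⟩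
      exact R.add_mem (hx.2.1 ⟨m, rfl⟩) (hy.2.1 ⟨m, rfl⟩)
    · rw [e]
      intro m hm
      rw [LinearMap.mem_ker, LinearMap.add_apply, LinearMap.mem_ker.1 (hx.2.2.1 hm), LinearMap.mem_ker.1 (hy.2.2.1 hm),
        add_zero]
    · rintro τ ⟨c, hc⟩
      obtain ⟨u, hu⟩ := hunit hx c
      obtain ⟨v, hv⟩ := hunit hy c
      have : τ = u * v := by
        refine Units.ext ?_
        rw [Units.val_mul, hu, hv, hc]
        show 1 + c • N (x * y) = _
        simp only [e, add_mul, mul_add, mul_one, one_mul, smul_mul_assoc, mul_smul_comm, hzero hy.2.1 hx.2.2.1,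
          smul_zero, smul_add]
        abel
      rw [this]
      exact mul_mem (hx.2.2.2 ⟨c, hu⟩) (hy.2.2.2 ⟨c, hv⟩)
  have hone : (1 : LinearMap.GeneralLinearGroup k M) ∈ H := by
    refine ⟨one_mem _, ?_, ?_, ?_⟩
    · simp [hN]
    · intro m _; simp [hN]
    · rintro τ ⟨c, hc⟩
      have : τ = 1 := Units.ext (by rw [hc]; simp)
      rw [this]; exact one_mem _
  have hinv : ∀ {x}, x ∈ H → x⁻¹ ∈ H := by
    intro x hx
    obtain ⟨u, hu⟩ := hunit hx (-1)
    have hxu : x⁻¹ = u := by
      refine inv_eq_of_mul_eq_one_right (Units.ext ?_)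
      rw [Units.val_mul, hu, show (x : M →ₗ[k] M) = 1 + N x by simp [hN], Units.val_one]
      simp only [neg_one_smul, add_mul, mul_add, mul_one, one_mul, mul_neg, hzero hx.2.1 hx.2.2.1]
      abel
    have hNu : N u = -N x := by simp only [hN] at hu ⊢; rw [hu]; module
    refine hxu ▸ ⟨hx.2.2.2 ⟨-1, hu⟩, ?_, ?_, ?_⟩
    · rw [hNu, LinearMap.range_neg]; exact hx.2.1
    · intro m hm; rw [hNu, LinearMap.mem_ker, LinearMap.neg_apply, LinearMap.mem_ker.1 (hx.2.2.1 hm), neg_zero]
    · rintro τ ⟨c, hc⟩
      refine hx.2.2.2 ⟨-c, hc.trans ?_⟩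
      show 1 + c • N u = 1 + (-c) • N x
      rw [hNu]; module
  have hclassH : Cfsg.sameActionClass G σ ⊆ H := by
    rintro τ ⟨⟨⟨hτG, -, hτf⟩, -⟩, hker, hran⟩
    exact ⟨hτG, hran.le, hker.ge, hτf⟩
  have hHclass : H ⊆ Cfsg.sameActionClass G σ ∪ {1} := by
    intro x hx
    by_cases h0 : N x = 0
    · exact Or.inr (Units.ext (sub_eq_zero.1 h0))
    have hq : x ∈ Cfsg.quadraticElements G := ⟨hx.1, ⟨hzero hx.2.1 hx.2.2.1, h0⟩, hx.2.2.2⟩
    have hrk : LinearMap.range (N x) = R := Submodule.eq_of_le_of_finrank_le hx.2.1 (hmin x hq)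
    refine Or.inl ⟨⟨hq, fun τ hτ => le_trans (le_of_eq ?_) (hmin τ hτ)⟩, ?_, hrk⟩
    · show Module.finrank k (LinearMap.range (N x)) = Module.finrank k R
      rw [hrk]
    · refine (Submodule.eq_of_le_of_finrank_le hx.2.2.1 ?_).symm
      have h1 := (N x).finrank_range_add_finrank_ker
      have h2 : Module.finrank k R + Module.finrank k K = Module.finrank k M := (N σ).finrank_range_add_finrank_ker
      have h3 : Module.finrank k (LinearMap.range (N x)) = Module.finrank k R := by rw [hrk]
      show Module.finrank k (LinearMap.ker (N x)) ≤ Module.finrank k K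
      omega
  let HS : Subgroup (LinearMap.GeneralLinearGroup k M) :=
    { carrier := H, one_mem' := hone, mul_mem' := hmul, inv_mem' := hinv }
  have hle : Cfsg.sameActionSubgroup G σ ≤ HS := (Subgroup.closure_le HS).2 hclassH
  have heq : (Cfsg.sameActionSubgroup G σ : Set (LinearMap.GeneralLinearGroup k M)) =
      Cfsg.sameActionClass G σ ∪ {1} := by
    refine Set.Subset.antisymm (fun x hx => hHclass (hle hx)) ?_
    rintro x (hx | hx)
    · exact Subgroup.subset_closure hx
    · rw [Set.mem_singleton_iff] at hx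
      rw [hx]; exact one_mem (Cfsg.sameActionSubgroup G σ)
  refine ⟨heq, ⟨⟨fun a b => Subtype.ext (Units.ext ?_)⟩⟩, fun p hp hchar x hx => Units.ext ?_⟩
  · have ha := hle a.2
    have hb := hle b.2
    have e1 := hmulN ha hb
    have e2 := hmulN hb ha
    rw [add_comm (N b.1)] at e2
    simp only [hN] at e1 e2
    exact sub_left_injective (e1.trans e2.symm)
  · have hx' := hle hx
    have hpow : ∀ j : ℕ, x ^ j ∈ H ∧ N (x ^ j) = (j : k) • N x := by
      intro j
      induction j with
      | zero => exact ⟨by simpa using hone, by simp [hN]⟩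
      | succ j ih =>
        rw [pow_succ]
        refine ⟨hmul ih.1 hx', ?_⟩
        rw [hmulN ih.1 hx', ih.2, Nat.cast_succ, add_smul, one_smul]
    have h := (hpow p).2
    haveI : CharP k p := hchar ▸ ringChar.charP k
    rw [CharP.cast_eq_zero, zero_smul] at h
    exact sub_eq_zero.1 h

end Cfsg.Agent.S5059
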