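import Cfsg.Statements.S4209
import Cfsg.Agent.Lib.FiniteGroup.PolySeq

set_option autoImplicit false
open Cfsg

namespace Cfsg.Agent.S4209

/-- A finite `p`-group of nilpotency class less than `p` (the term of index `p - 1` of the lower central series of the whole group, indexed from `0`, is trivial) is a regular `p`-group. -/
theorem result {G : Type*} [Group G] [Finite G] {p : ℕ} [Fact p.Prime] (hG : IsPGroup p G) (hcl : (⊤ : Subgroup G).lowerCentralSeries (p - 1) = ⊥) : Cfsg.IsRegularPGroup p G := by
  refine ⟨hG, fun a b n => ?_⟩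
  set H := Subgroup.closure ({a, b} : Set G) with hH
  have hbot : PolySeq.gam H p = ⊥ := by
    rw [← Subgroup.map_eq_bot_iff_of_injective _ H.subtype_injective]
    show ((⊤ : Subgroup H).lowerCentralSeries (p - 1)).map H.subtype = ⊥
    rw [Subgroup.top_subtype_lowerCentralSeries, ← le_bot_iff, ← hcl]
    exact Subgroup.lowerCentralSeries_mono _ le_top
  obtain ⟨c, hc, he⟩ := PolySeq.hall_petrescu (Fact.out : p.Prime) hbot
    (⟨a, Subgroup.subset_closure (by simp)⟩ : H) ⟨b, Subgroup.subset_closure (by simp)⟩ n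
  refine ⟨(c : G), ?_, by simpa using congrArg Subtype.val he⟩
  have hle : (Subgroup.closure {z : H | ∃ d ∈ _root_.commutator H, z = d ^ p ^ n}).map H.subtype ≤
      Cfsg.powerClosure p n ⁅H, H⁆ := by
    rw [MonoidHom.map_closure, Subgroup.closure_le]
    rintro _ ⟨_, ⟨d, hd, rfl⟩, rfl⟩
    refine Subgroup.subset_closure ⟨(d : G), ?_, by simp⟩
    rw [← Subgroup.map_subtype_commutator H]
    exact ⟨d, hd, rfl⟩
  exact hle ⟨c, hc, rfl⟩

end Cfsg.Agent.S4209
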