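import Cfsg.Statements.S0428
import Cfsg.Agent.Lib.Steiner.Triangles
import Cfsg.Agent.Lib.Steiner.PointBlock
-- import your own Cfsg.Agent.* helpers here

set_option autoImplicit false
open Cfsg

namespace Cfsg.Agent.S0428

open Cfsg.Agent.Steiner Finset

theorem card_sub {α : Type*} [Fintype α] [DecidableEq α] {B : Set (Finset α)} [Fintype B]
    (q : Finset α → Prop) [DecidablePred q] :
    (Finset.univ.filter fun b : B => q b.1).card = ((blocks B).filter q).card := by
  refine Finset.card_bij (fun b _ => b.1) ?_ ?_ ?_
  · intro b hb; simpa [mem_blocks] using hb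
  · intro a _ b _ h; exact Subtype.ext h
  · intro c hc
    simp only [mem_filter, mem_blocks] at hc
    exact ⟨⟨c, hc.1⟩, by simp [hc.2], rfl⟩

theorem card_option_sum {α β : Type*} [Fintype α] [Fintype β] (P : Option (α ⊕ β) → Prop)
    [DecidablePred P] [DecidablePred fun a => P (some (Sum.inl a))]
    [DecidablePred fun b => P (some (Sum.inr b))] :
    (Finset.univ.filter P).card = (if P none then 1 else 0)
      + (Finset.univ.filter fun a => P (some (Sum.inl a))).card
      + (Finset.univ.filter fun b => P (some (Sum.inr b))).card := by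
  simp only [Finset.card_filter, Fintype.sum_option, Fintype.sum_sum_type, add_assoc]
  congr!

/-- Blocks through a point disjoint from a block not containing it. -/
theorem six_through {α : Type*} [Fintype α] [DecidableEq α] (hα : Fintype.card α = 22)
    {B : Set (Finset α)} (hB : Cfsg.IsSteinerSystem 3 6 B) {b : Finset α} (hb : b ∈ B) {a : α}
    (ha : a ∉ b) : ((blocks B).filter fun d => a ∈ d ∧ Disjoint b d).card = 6 := by
  have hlam := lam_eq hB (i := 2) (lam := 5) (by norm_num) (by decide) (by rw [hα]; decide)
  have h1 := lam_eq hB (i := 1) (lam := 21) (by norm_num) (by decide) (by rw [hα]; decide) {a}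
    (card_singleton a)
  simp only [singleton_subset_iff] at h1
  set F := (blocks B).filter fun d => a ∈ d with hF
  have hsum : ∑ d ∈ F, (d ∩ b).card = 30 := by
    have : ∀ d : Finset α, (d ∩ b).card = ∑ x ∈ b, if x ∈ d then 1 else 0 := fun d => by
      rw [← card_filter]; congr 1; ext x; simp [and_comm]
    simp only [this]
    have h5 : ∀ x ∈ b, (∑ d ∈ F, if x ∈ d then 1 else 0) = 5 := fun x hx => by
      rw [← card_filter, hF, filter_filter]
      have hax : a ≠ x := fun e => ha (e ▸ hx)
      have := hlam {a, x} (card_pair hax)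
      simp only [insert_subset_iff, singleton_subset_iff] at this
      exact this
    rw [sum_comm, sum_congr rfl h5, sum_const, smul_eq_mul, card_of_mem hB hb]
  have h02 : ∀ d ∈ F, (d ∩ b).card = if Disjoint b d then 0 else 2 := fun d hd => by
    obtain ⟨hd, had⟩ := mem_filter.1 hd
    have hne : d ≠ b := fun e => ha (e ▸ had)
    split_ifs with hh
    · rw [inter_comm, disjoint_iff_inter_eq_empty.1 hh, card_empty]
    · rcases inter22 hα hB (mem_blocks.1 hd) hb hne with h | h
      · exact absurd (disjoint_iff_inter_eq_empty.2 (by rw [inter_comm]; exact card_eq_zero.1 h)) hh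
      · exact h
  rw [sum_congr rfl h02, sum_ite, sum_const_zero, sum_const, smul_eq_mul, zero_add] at hsum
  have h3 := card_filter_add_card_filter_not (s := F) (fun d => Disjoint b d)
  have h4 : ((blocks B).filter fun d => a ∈ d ∧ Disjoint b d) = F.filter fun d => Disjoint b d := by
    rw [hF, filter_filter]
  rw [h4]
  omega

/-- The point-block graph of an S(3, 6, 22) is strongly regular with parameters (100, 22, 0, 6). -/
theorem result {α : Type*} [Fintype α] (hα : Fintype.card α = 22) {B : Set (Finset α)} (hB : Cfsg.IsSteinerSystem 3 6 B) [Fintype B] [DecidableRel (Cfsg.pointBlockGraph B).Adj] : (Cfsg.pointBlockGraph B).IsSRGWith 100 22 0 6 := by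
  classical
  have card1 : ∀ a : α, ((blocks B).filter fun d => a ∈ d).card = 21 := fun a => by
    have h1 := lam_eq hB (i := 1) (lam := 21) (by norm_num) (by decide) (by rw [hα]; decide) {a}
      (card_singleton a)
    simpa only [singleton_subset_iff] using h1
  have card2 : ∀ a x : α, a ≠ x → ((blocks B).filter fun d => a ∈ d ∧ x ∈ d).card = 5 := fun a x h => by
    have h1 := lam_eq hB (i := 2) (lam := 5) (by norm_num) (by decide) (by rw [hα]; decide) {a, x}
      (card_pair h)
    simpa only [insert_subset_iff, singleton_subset_iff] using h1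
  have card77 : (blocks B).card = 77 := by
    have h := card_blocks hB
    rw [hα] at h
    norm_num [Nat.choose] at h
    omega
  have cardB : Fintype.card B = 77 := by
    have h := card_sub (B := B) (fun _ => True)
    simpa [card77] using h
  have hne : ∀ b : B, ¬ Disjoint (b : Finset α) b := fun b e => by
    have := card_of_mem hB b.2
    rw [Finset.disjoint_self_iff_empty _ |>.1 e] at this; simp at this
  have hdne : ∀ b c : B, Disjoint (b : Finset α) c → b ≠ c := fun b c h e => hne b (by subst e; exact h)
  have hsame : ∀ b c : B, (b ≠ c ∧ (Disjoint (b : Finset α) c ∨ Disjoint (c : Finset α) b)) ↔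
      Disjoint (b : Finset α) c :=
    fun b c => ⟨fun h => h.2.elim id (fun h => h.symm), fun h => ⟨hdne b c h, Or.inl h⟩⟩
  have hcn : ∀ v w, Fintype.card ((Cfsg.pointBlockGraph B).commonNeighbors v w)
      = (Finset.univ.filter fun u => (Cfsg.pointBlockGraph B).Adj v u ∧
          (Cfsg.pointBlockGraph B).Adj w u).card := by
    intro v w
    rw [Fintype.card_subtype]
    simp [SimpleGraph.mem_commonNeighbors]
  refine ⟨?_, fun v => ?_, fun v w h => ?_, fun v w hvw h => ?_⟩
  · simp [Fintype.card_option, Fintype.card_sum, hα, cardB]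
  · rw [← SimpleGraph.card_neighborFinset_eq_degree, SimpleGraph.neighborFinset_eq_filter,
      card_option_sum]
    rcases v with _ | a | b
    · simp [Cfsg.pointBlockGraph, Cfsg.pointBlockRel, hα]
    · simp [Cfsg.pointBlockGraph, Cfsg.pointBlockRel, card_sub (fun d => a ∈ d), card1]
    · have h16 := exactly22 hα hB b.2 ∅ (empty_subset _)
      simp only [exactly, card_empty, row22, ← disjoint_iff_inter_eq_empty] at h16
      simp [Cfsg.pointBlockGraph, Cfsg.pointBlockRel, hsame, card_sub (fun d => Disjoint (b : Finset α) d),
        card_of_mem hB b.2, h16]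
  · rw [hcn, card_option_sum]
    rcases v with _ | a | b <;> rcases w with _ | a' | b' <;>
      simp [Cfsg.pointBlockGraph, Cfsg.pointBlockRel, hsame] at h ⊢
    · intro x hx hax hd
      exact Finset.disjoint_left.1 hd h hax
    · intro x hx hd hax
      exact Finset.disjoint_left.1 hd h hax
    · refine ⟨fun x hx => Finset.disjoint_left.1 h hx, ?_⟩
      have := disjoint_count hα hB b.2 b'.2 (fun e => hdne b b' h (Subtype.ext e))
      rw [if_pos h, card_eq_zero, filter_eq_empty_iff] at this
      intro x hx h1 h2
      exact this (mem_blocks.2 hx) ⟨h1, h2⟩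
  · rw [hcn, card_option_sum]
    rcases v with _ | a | b <;> rcases w with _ | a' | b' <;>
      simp [Cfsg.pointBlockGraph, Cfsg.pointBlockRel, hsame] at h hvw ⊢
    · exact card_of_mem hB b'.2
    · rw [card_sub (fun d => a ∈ d ∧ a' ∈ d), card2 a a' hvw]
    · rw [card_sub (fun d => a ∈ d ∧ Disjoint (b' : Finset α) d)]
      exact six_through hα hB b'.2 h
    · exact card_of_mem hB b.2
    · rw [card_sub (fun d => Disjoint (b : Finset α) d ∧ a' ∈ d)]
      simp only [and_comm (a := Disjoint _ _)]
      exact six_through hα hB b.2 h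
    · rw [card_sub (fun d => Disjoint (b : Finset α) d ∧ Disjoint (b' : Finset α) d),
        disjoint_count hα hB b.2 b'.2 (fun e => hvw (Subtype.ext e)), if_neg h]
      have hh : (b.1 ∩ b'.1).card = 2 := by
        rcases inter22 hα hB b.2 b'.2 (fun e => hvw (Subtype.ext e)) with h0 | h0
        · exact absurd (disjoint_iff_inter_eq_empty.2 (card_eq_zero.1 h0)) h
        · exact h0
      have : (Finset.univ.filter fun x => x ∈ b.1 ∧ x ∈ b'.1) = b.1 ∩ b'.1 := by ext; simp
      rw [this, hh]

end Cfsg.Agent.S0428
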