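import Cfsg.Statements.S0738
import Cfsg.Agent.Lib.Char.Burnside
import Mathlib.GroupTheory.GroupAction.Quotient
import Mathlib.GroupTheory.PGroup
-- import your own Cfsg.Agent.* helpers here

set_option autoImplicit false
set_option linter.style.haveILetI false
open Cfsg
open scoped commutatorElement

namespace Cfsg.Agent.S0738

/-- Let a finite Zassenhaus group of degree `n + 1` have two-point stabilisers of order `d` with `2d ≥ n - 1`. Then a normal subgroup of a point stabiliser acting regularly on the remaining points is elementary abelian, and the degree is a prime power plus one. -/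
theorem result {G Ω : Type*} [Group G] [Finite G] [MulAction G Ω] [Fintype Ω] (hZ : Cfsg.IsZassenhausGroup G Ω) {a b : Ω} (hab : a ≠ b) (hd : Fintype.card Ω - 2 ≤ 2 * Nat.card ↥(MulAction.stabilizer G a ⊓ MulAction.stabilizer G b)) (F : Subgroup G) (hFle : F ≤ MulAction.stabilizer G a) (hFn : (F.subgroupOf (MulAction.stabilizer G a)).Normal) (hreg : ∀ y z : Ω, y ≠ a → z ≠ a → ∃! u : F, (u : G) • y = z) : IsMulCommutative F ∧ ∃ p f : ℕ, p.Prime ∧ (∀ u ∈ F, u ^ p = 1) ∧ Fintype.card Ω = p ^ f + 1 := by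
  classical
  obtain ⟨hfaith, h2, h3, hnt, -⟩ := hZ
  set H := MulAction.stabilizer G a ⊓ MulAction.stabilizer G b with hH
  set d := Nat.card ↥H with hdd
  have hdpos : 0 < d := Nat.card_pos
  have hFnorm : ∀ h ∈ H, ∀ u ∈ F, h * u * h⁻¹ ∈ F := fun h hh u hu =>
    hFn.conj_mem ⟨u, hFle hu⟩ hu ⟨h, hh.1⟩
  -- regularity
  let φ : ↥F ≃ {y : Ω // y ≠ a} :=
    Equiv.ofBijective (fun u => ⟨(u : G) • b, fun he => hab (smul_left_cancel (u : G) (he.trans (hFle u.2 : (u : G) • a = a).symm)).symm⟩)
      ⟨fun u v huv => (hreg b _ (Ne.symm hab) (fun he => hab (smul_left_cancel (v : G) (he.trans (hFle v.2 : (v : G) • a = a).symm)).symm)).unique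
          (congrArg Subtype.val huv) rfl,
        fun ⟨y, hy⟩ => let ⟨u, hu, _⟩ := hreg b y (Ne.symm hab) hy; ⟨u, Subtype.ext hu⟩⟩
  set N := Nat.card ↥F with hN
  have hcard : N = Fintype.card Ω - 1 := by
    rw [hN, Nat.card_congr φ, Nat.card_eq_fintype_card, Fintype.card_subtype_compl, Fintype.card_subtype_eq]
  have h3pts : 3 ≤ Fintype.card Ω := by
    obtain ⟨g, hg, x, y, hxy, hgx, hgy⟩ := hnt
    obtain ⟨z, hz⟩ : ∃ z : Ω, g • z ≠ z := by
      refine Classical.byContradiction fun hno => hg (hfaith.eq_of_smul_eq_smul fun z => ?_)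
      rw [one_smul]
      exact Classical.byContradiction fun hz => hno ⟨z, hz⟩
    have hzx : z ≠ x := fun h => hz (h ▸ hgx)
    have hzy : z ≠ y := fun h => hz (h ▸ hgy)
    calc 3 = ({x, y, z} : Finset Ω).card := by
          rw [Finset.card_insert_of_notMem (by simp [hxy, Ne.symm hzx]), Finset.card_pair (Ne.symm hzy)]
      _ ≤ _ := Finset.card_le_univ _
  haveI : Fintype ↥F := Fintype.ofFinite _
  -- invariant sets
  have key : ∀ S : Set ↥F, (∀ h : ↥H, ∀ u ∈ S, (⟨(h : G) * u * (h : G)⁻¹, hFnorm h h.2 u u.2⟩ : ↥F) ∈ S) →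
      (1 : ↥F) ∉ S → d ∣ Nat.card S := by
    intro S hS h1
    letI : MulAction ↥H S :=
      { smul := fun h u => ⟨⟨(h : G) * u.1 * (h : G)⁻¹, hFnorm h h.2 _ u.1.2⟩, hS h u.1 u.2⟩
        one_smul := fun u => Subtype.ext (Subtype.ext (by
          show ((1 : ↥H) : G) * u.1 * ((1 : ↥H) : G)⁻¹ = u.1
          simp))
        mul_smul := fun g h u => Subtype.ext (Subtype.ext (by
          show ((g * h : ↥H) : G) * u.1 * ((g * h : ↥H) : G)⁻¹ = (g : G) * ((h : G) * u.1 * (h : G)⁻¹) * (g : G)⁻¹
          rw [Subgroup.coe_mul]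
          group)) }
    have hfree : ∀ u : S, MulAction.stabilizer ↥H u = ⊥ := by
      intro u
      rw [eq_bot_iff]
      intro h hh
      have he : (h : G) * u.1 * (h : G)⁻¹ = u.1 := congrArg (fun v : S => ((v.1 : ↥F) : G)) hh
      rw [mul_inv_eq_iff_eq_mul] at he
      refine Subgroup.mem_bot.2 (Subtype.ext (h3 (h : G) a b (((u.1 : ↥F) : G) • b) hab ?_ ?_ h.2.1 h.2.2 ?_))
      · intro hb
        refine h1 ?_
        have : (φ 1) = φ u.1 := Subtype.ext (by
          show ((1 : ↥F) : G) • b = ((u.1 : ↥F) : G) • b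
          rw [Subgroup.coe_one, one_smul]
          exact hb)
        rw [φ.injective this]
        exact u.2
      · exact fun he' => (φ u.1).2 he'.symm
      · rw [← mul_smul, he, mul_smul, show (h : G) • b = b from h.2.2]
    rw [Nat.card_congr (MulAction.selfEquivOrbitsQuotientProd hfree), Nat.card_prod]
    exact dvd_mul_left _ _
  have hN2 : N - 1 ≤ 2 * d := by omega
  have hinvord : ∀ (r : ℕ) (h : ↥H) (u : ↥F), orderOf u = r →
      orderOf (⟨(h : G) * u * (h : G)⁻¹, hFnorm h h.2 u u.2⟩ : ↥F) = r := by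
    intro r h u hu
    rw [← Subgroup.orderOf_coe, ← hu, ← Subgroup.orderOf_coe]
    show orderOf (MulAut.conj (h : G) (u : G)) = _
    rw [MulEquiv.orderOf_eq]
  -- at most two primes
  have hsolv : Group.IsSolvable ↥F := by
    by_cases hpq : ∃ p q : ℕ, p.Prime ∧ q.Prime ∧ ∀ r, r.Prime → r ∣ N → r = p ∨ r = q
    · obtain ⟨p, q, hp, hq, hall⟩ := hpq
      refine Char.isSolvable_of_card_pq p q hp hq N _ hN.symm ?_
      rcases eq_or_ne p q with rfl | hne
      · refine ⟨N.factorization p, 0, ?_⟩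
        rw [pow_zero, mul_one]
        refine Nat.eq_of_factorization_eq Nat.card_pos.ne' (pow_ne_zero _ hp.ne_zero) fun r => ?_
        rw [hp.factorization_pow, Finsupp.single_apply]
        split_ifs with hr
        · rw [hr]
        · by_cases hr' : r.Prime ∧ r ∣ N
          · exact absurd ((hall r hr'.1 hr'.2).elim id id).symm hr
          · rw [Nat.factorization_eq_zero_iff]; tauto
      · refine ⟨N.factorization p, N.factorization q, ?_⟩
        refine Nat.eq_of_factorization_eq Nat.card_pos.ne' (mul_ne_zero (pow_ne_zero _ hp.ne_zero) (pow_ne_zero _ hq.ne_zero)) fun r => ?_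
        rw [Nat.factorization_mul (pow_ne_zero _ hp.ne_zero) (pow_ne_zero _ hq.ne_zero), Finsupp.add_apply,
          hp.factorization_pow, hq.factorization_pow, Finsupp.single_apply, Finsupp.single_apply]
        split_ifs with hr hr' hr'
        · exact absurd (hr.trans hr'.symm) hne
        · rw [hr, add_zero]
        · rw [hr', zero_add]
        · rw [add_zero, Nat.factorization_eq_zero_iff]
          by_cases hr'' : r.Prime ∧ r ∣ N
          · exact absurd (hall r hr''.1 hr''.2) (by rintro (h | h); exacts [hr h.symm, hr' h.symm])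
          · tauto
    · exfalso
      have hN1 : N ≠ 1 := by omega
      obtain ⟨p, hp, hpN⟩ := Nat.exists_prime_and_dvd hN1
      obtain ⟨q, hq, hqN, hqp⟩ : ∃ q : ℕ, q.Prime ∧ q ∣ N ∧ q ≠ p := by
        by_contra hno
        exact hpq ⟨p, p, hp, hp, fun r hr hrN => Or.inl (Classical.not_not.1 fun hne => hno ⟨r, hr, hrN, hne⟩)⟩
      obtain ⟨r, hr, hrN, hrp, hrq⟩ : ∃ r : ℕ, r.Prime ∧ r ∣ N ∧ r ≠ p ∧ r ≠ q := by
        by_contra hno
        exact hpq ⟨p, q, hp, hq, fun r hr hrN => by
          by_contra hne; rw [not_or] at hne; exact hno ⟨r, hr, hrN, hne.1, hne.2⟩⟩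
      have hbig : ∀ r : ℕ, r.Prime → r ∣ N → d ≤ (Finset.univ.filter fun u : ↥F => orderOf u = r).card := by
        intro r hr hrN
        haveI := Fact.mk hr
        obtain ⟨u, hu⟩ := exists_prime_orderOf_dvd_card' (G := ↥F) r hrN
        refine Nat.le_of_dvd (Finset.card_pos.2 ⟨u, by simpa using hu⟩) ?_
        have := key {u : ↥F | orderOf u = r} (fun h v hv => hinvord r h v hv) (by simp [hr.one_lt.ne])
        rwa [Nat.card_eq_fintype_card, Fintype.card_subtype] at this
      have hdis : ∀ {r s : ℕ}, r ≠ s → Disjoint (Finset.univ.filter fun u : ↥F => orderOf u = r)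
          (Finset.univ.filter fun u : ↥F => orderOf u = s) := fun hne =>
        Finset.disjoint_filter.2 fun u _ h1 h2 => hne (h1.symm.trans h2)
      have hsub : ((Finset.univ.filter fun u : ↥F => orderOf u = p) ∪ (Finset.univ.filter fun u : ↥F => orderOf u = q) ∪
          (Finset.univ.filter fun u : ↥F => orderOf u = r)).card ≤ N - 1 := by
        rw [hN, Nat.card_eq_fintype_card, ← Finset.card_univ, ← Finset.card_erase_of_mem (Finset.mem_univ (1 : ↥F))]
        refine Finset.card_le_card fun u hu => Finset.mem_erase.2 ⟨fun h1 => ?_, Finset.mem_univ u⟩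
        subst h1
        simp [hp.one_lt.ne, hq.one_lt.ne, hr.one_lt.ne] at hu
      rw [Finset.card_union_of_disjoint (Finset.disjoint_union_left.2 ⟨hdis (Ne.symm hrp), hdis (Ne.symm hrq)⟩),
        Finset.card_union_of_disjoint (hdis (Ne.symm hqp))] at hsub
      have := hbig p hp hpN
      have := hbig q hq hqN
      have := hbig r hr hrN
      omega
  -- no proper invariant subgroups
  have hirr : ∀ T : Subgroup ↥F, (∀ h : ↥H, ∀ u ∈ T, (⟨(h : G) * u * (h : G)⁻¹, hFnorm h h.2 u u.2⟩ : ↥F) ∈ T) →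
      T = ⊥ ∨ T = ⊤ := by
    intro T hT
    by_contra hno
    rw [not_or] at hno
    have h1 : d ∣ Nat.card T - 1 := by
      have := key {u : ↥F | u ∈ T ∧ u ≠ 1} (fun h u hu => ⟨hT h u hu.1, fun he => hu.2 (by
        have he' : (h : G) * (u : G) * (h : G)⁻¹ = 1 := congrArg Subtype.val he
        exact Subtype.ext (by simpa using he'))⟩) (by simp)
      rwa [show Nat.card {u : ↥F | u ∈ T ∧ u ≠ 1} = Nat.card T - 1 by
        rw [Nat.card_coe_set_eq, show {u : ↥F | u ∈ T ∧ u ≠ 1} = (T : Set ↥F) \ {1} from rfl,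
          Set.ncard_sdiff (by simp), Set.ncard_singleton]
        rfl] at this
    have h2' : d ∣ N - Nat.card T := by
      have := key (T : Set ↥F)ᶜ (fun h u hu hmem => hu (by
        have := hT h⁻¹ _ hmem
        simp only [Subgroup.coe_inv, inv_inv] at this
        have e : ∀ w : ↥F, (w : G) = (u : G) → w ∈ T → u ∈ T := fun w he hw => Subtype.ext he ▸ hw
        exact e _ (by show (h : G)⁻¹ * ((h : G) * (u : G) * (h : G)⁻¹) * (h : G) = (u : G); group) this)) (fun h => h T.one_mem)
      rwa [Nat.card_coe_set_eq, Set.ncard_compl] at this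
    have hlag := T.card_subgroup_dvd_card
    have hT1 : 1 < Nat.card T := Subgroup.one_lt_card_iff_ne_bot T |>.2 hno.1
    have hTN : Nat.card T < N := lt_of_le_of_ne (Nat.le_of_dvd Nat.card_pos hlag)
      fun h => hno.2 (Subgroup.eq_top_of_card_eq T h)
    have e1 : d ≤ Nat.card T - 1 := Nat.le_of_dvd (by omega) h1
    have e2 : d ≤ N - Nat.card T := Nat.le_of_dvd (by omega) h2'
    have eT : Nat.card T = d + 1 := by omega
    have eN : N = (d + 1) + d := by omega
    rw [eT, ← hN, eN, Nat.dvd_add_right (dvd_refl _)] at hlag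
    have := Nat.le_of_dvd hdpos hlag
    omega
  have hauto : ∀ h : ↥H, ∀ T : Subgroup ↥F, T.Characteristic →
      ∀ u ∈ T, (⟨(h : G) * u * (h : G)⁻¹, hFnorm h h.2 u u.2⟩ : ↥F) ∈ T := by
    intro h T hTc u hu
    let e := F.normalizerMonoidHom ⟨(h : G), Subgroup.mem_normalizer_fintype fun x hx => hFnorm h h.2 x hx⟩
    have := hTc.fixed e
    rw [← this] at hu
    exact hu
  haveI := hsolv
  haveI hntF : Nontrivial ↥F := Finite.one_lt_card_iff_nontrivial.1 (by omega)
  have hcomm : ⁅(⊤ : Subgroup ↥F), ⊤⁆ = ⊥ :=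
    (hirr _ fun h => hauto h _ inferInstance).resolve_right (by
      intro htop
      exact (Group.IsSolvable.commutator_lt_top_of_nontrivial (G := ↥F)).ne (by rw [_root_.commutator_def]; exact htop))
  have hFc : ∀ u v : ↥F, u * v = v * u := fun u v => by
    rw [← commutatorElement_eq_one_iff_mul_comm, ← Subgroup.mem_bot, ← hcomm]
    exact Subgroup.commutator_mem_commutator (Subgroup.mem_top u) (Subgroup.mem_top v)
  obtain ⟨p, hp, hpN⟩ := Nat.exists_prime_and_dvd (show N ≠ 1 by omega)
  haveI := Fact.mk hp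
  let Ωp : Subgroup ↥F :=
    { carrier := {u | u ^ p = 1}
      one_mem' := one_pow p
      mul_mem' := fun {u v} hu hv => by
        show (u * v) ^ p = 1
        rw [(show Commute u v from hFc u v).mul_pow, show u ^ p = 1 from hu, show v ^ p = 1 from hv, one_mul]
      inv_mem' := fun {u} hu => by
        show u⁻¹ ^ p = 1
        rw [inv_pow, show u ^ p = 1 from hu, inv_one] }
  have htop : Ωp = ⊤ := by
    refine (hirr Ωp fun h u hu => ?_).resolve_left fun hbot => ?_
    · refine Subtype.ext ?_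
      show ((h : G) * u * (h : G)⁻¹) ^ p = 1
      rw [conj_pow, show ((u : ↥F) : G) ^ p = 1 from congrArg Subtype.val hu, mul_one, mul_inv_cancel]
    · obtain ⟨u, hu⟩ := exists_prime_orderOf_dvd_card' (G := ↥F) p hpN
      have : u ∈ Ωp := show u ^ p = 1 by rw [← hu]; exact pow_orderOf_eq_one u
      rw [hbot, Subgroup.mem_bot] at this
      rw [this, orderOf_one] at hu
      exact hp.one_lt.ne hu
  have hexp : ∀ u : ↥F, u ^ p = 1 := fun u => (htop ▸ Subgroup.mem_top u : u ∈ Ωp)
  have hpg : IsPGroup p ↥F := fun u => ⟨1, by rw [pow_one]; exact hexp u⟩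
  obtain ⟨f, hf⟩ := hpg.exists_card_eq
  refine ⟨⟨⟨hFc⟩⟩, p, f, hp, fun u hu => congrArg Subtype.val (hexp ⟨u, hu⟩), ?_⟩
  rw [← hf, ← hN]
  omega

end Cfsg.Agent.S0738
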