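import Cfsg.Statements.S2508
import Cfsg.Agent.Lib.LinearBlock.PSL2Sizes

set_option autoImplicit false
open Cfsg

namespace Cfsg.Agent.S2508

/-- Let F be a finite field with q elements, q odd and q ≥ 7. If q ≡ 1 (mod 4) the conjugacy class sizes of PSL(2,F) are exactly 1, (q² − 1)/2, q(q + 1)/2, q(q − 1) and q(q + 1); if q ≡ 3 (mod 4) they are exactly 1, (q² − 1)/2, q(q − 1)/2, q(q + 1) and q(q − 1). -/
theorem result {F : Type*} [Field F] [Fintype F]
    (hodd : ¬ 2 ∣ Fintype.card F) (h7 : 7 ≤ Fintype.card F) :
    (Fintype.card F % 4 = 1 →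
      Set.range (fun g : (Matrix.ProjectiveSpecialLinearGroup (Fin 2) F) => (Subgroup.centralizer ({g} : Set (Matrix.ProjectiveSpecialLinearGroup (Fin 2) F))).index) =
        {1, (Fintype.card F ^ 2 - 1) / 2, Fintype.card F * (Fintype.card F + 1) / 2,
          Fintype.card F * (Fintype.card F - 1), Fintype.card F * (Fintype.card F + 1)}) ∧
    (Fintype.card F % 4 = 3 →
      Set.range (fun g : (Matrix.ProjectiveSpecialLinearGroup (Fin 2) F) => (Subgroup.centralizer ({g} : Set (Matrix.ProjectiveSpecialLinearGroup (Fin 2) F))).index) =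
        {1, (Fintype.card F ^ 2 - 1) / 2, Fintype.card F * (Fintype.card F - 1) / 2,
          Fintype.card F * (Fintype.card F + 1), Fintype.card F * (Fintype.card F - 1)}) := by
  have h2 : (2 : F) ≠ 0 := fun e => hodd (by
    have hp : ringChar F = 2 := CharP.ringChar_of_prime_eq_zero Nat.prime_two e
    have := FiniteField.even_card_of_char_two hp
    omega)
  have hmod : Fintype.card F % 2 = 1 := by omega
  have h := LinearBlock.PSL2Sizes.range_odd h2 (by rw [Nat.card_eq_fintype_card]; exact h7)
    (by rw [Nat.card_eq_fintype_card]; exact hmod)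
  simp only [Nat.card_eq_fintype_card] at h
  refine ⟨fun hm => ?_, fun hm => ?_⟩
  · rw [if_pos hm] at h
    exact h
  · rw [if_neg (by omega)] at h
    refine h.trans ?_
    rw [Set.pair_comm (Fintype.card F * (Fintype.card F - 1)) (Fintype.card F * (Fintype.card F + 1))]

end Cfsg.Agent.S2508

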