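import Cfsg.Statements.S5251
import Cfsg.Agent.Lib.Fusion.Alperin
import Cfsg.Agent.Lib.Fusion.SmallElements
open Cfsg.FusionSystem Cfsg.Agent.FusionSys

set_option autoImplicit false
open Cfsg

namespace Cfsg.Agent.S5251

variable {Ω : Type*} [Group Ω] {S : Subgroup Ω} [Finite S] {p : ℕ} [hp : Fact p.Prime]

/-- Automorphisms trivial on `P ∩ T` and on `P / (P ∩ T)` lie in `O_p`. -/
theorem stab_mem_pCore (hS : IsPGroup p S) {F : FusionSystem S} {T P : Subgroup Ω} (hT : F.StronglyClosed T)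
    (hP : P ≤ S) (a : F.autGroup P) (h1 : ∀ y : P, (y : Ω)⁻¹ * (((a : MulAut P) y : P) : Ω) ∈ T)
    (h2 : ∀ y : P, (y : Ω) ∈ T → (a : MulAut P) y = y) : a ∈ pCore p (F.autGroup P) := by
  have := finite_of_le hP
  have hinv : ∀ b : F.autGroup P, ∀ y : P, (y : Ω) ∈ T → (((b : MulAut P) y : P) : Ω) ∈ T := fun b y hy => by
    exact Cfsg.Agent.FusionSys.stronglyClosed_autGroup_mem hT hP b.2 y hy
  let K : Subgroup (F.autGroup P) :=
    { carrier := {b | (∀ y : P, (y : Ω)⁻¹ * (((b : MulAut P) y : P) : Ω) ∈ T) ∧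
        ∀ y : P, (y : Ω) ∈ T → (b : MulAut P) y = y}
      one_mem' := ⟨fun y => by simp, fun y _ => rfl⟩
      mul_mem' := fun {b c} hb hc => ⟨fun y => by
        have := T.mul_mem (hc.1 y) (hb.1 ((c : MulAut P) y))
        simpa [mul_assoc] using this, fun y hy => by
        show (b : MulAut P) ((c : MulAut P) y) = y
        rw [hc.2 y hy, hb.2 y hy]⟩
      inv_mem' := fun {b} hb => ⟨fun y => by
        have := T.inv_mem (hb.1 ((b : MulAut P)⁻¹ y))
        simpa using this, fun y hy => by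
        show (b : MulAut P)⁻¹ y = y
        conv_lhs => rw [← hb.2 y hy]
        rw [MulAut.inv_apply_self]⟩ }
  have hKn : K.Normal := ⟨fun b hb g => ⟨fun y => by
    have h3 := hinv g (((g : MulAut P)⁻¹ y)⁻¹ * (b : MulAut P) ((g : MulAut P)⁻¹ y)) (by simpa using hb.1 _)
    rw [map_mul, map_inv, MulAut.apply_inv_self] at h3
    simpa using h3, fun y hy => by
    show (g : MulAut P) ((b : MulAut P) ((g : MulAut P)⁻¹ y)) = y
    have h4 : (((g : MulAut P)⁻¹ y : P) : Ω) ∈ T := hinv g⁻¹ y hy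
    rw [hb.2 _ h4, MulAut.apply_inv_self]⟩⟩
  have hKp : IsPGroup p K := by
    intro b
    obtain ⟨k, m, hm, hkm⟩ := Nat.exists_eq_pow_mul_and_not_dvd (orderOf_pos b).ne' p hp.out.ne_one
    refine ⟨k, Subtype.ext (Subtype.ext (MulEquiv.ext fun y => ?_))⟩
    have hbK : (b : F.autGroup P) ^ p ^ k ∈ K := pow_mem b.2 _
    set c : MulAut P := (((b : F.autGroup P) ^ p ^ k : F.autGroup P) : MulAut P)
    show c y = y
    have hfix : c (y⁻¹ * c y) = y⁻¹ * c y := hbK.2 _ (hbK.1 y)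
    have hcm : c ^ m = 1 := by
      rw [← SubmonoidClass.coe_pow, ← pow_mul, ← hkm, Subgroup.orderOf_coe b |>.symm, pow_orderOf_eq_one]
      rfl
    have h3 := pow_apply_of_fixed c (mul_inv_cancel_left y (c y)).symm hfix m
    rw [hcm, MulAut.one_apply, left_eq_mul] at h3
    exact (inv_mul_eq_one.1 (eq_one_of_coprime (hS.to_le hP)
      ((hp.out.coprime_iff_not_dvd.2 hm).symm) h3)).symm
  exact Cfsg.Agent.PBasic.le_pCore hKn hKp (show a ∈ K from ⟨h1, h2⟩)


/-- Let F be a saturated fusion system over a finite p-group S, E a normal subsystem of F over T, and P an F-centric subgroup of S such that P ∩ T is not E-centric. Then some F-conjugate P* of P satisfies Out_S(P*) ∩ O_p(Out_F(P*)) ≠ 1: there is an element of N_S(P*) outside P* whose conjugation action on P* lies in O_p(Aut_F(P*)). In particular P is not both centric and radical in F. -/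
theorem result {Ω : Type*} [Group Ω] {S : Subgroup Ω} [Finite S] (p : ℕ) [Fact p.Prime] (hS : IsPGroup p S) (F : Cfsg.FusionSystem S) (hF : F.IsSaturated p) {T : Subgroup Ω} (E : Cfsg.FusionSystem T) (hE : E.IsNormalIn F p) (P : Subgroup Ω) (hP : F.IsCentric P) (hPT : ¬ E.IsCentric (P ⊓ T)) : (∃ φ ∈ F.Hom P, ∃ x ∈ S ⊓ Subgroup.normalizer (φ.range : Set Ω), x ∉ φ.range ∧ ∃ α ∈ ((Cfsg.pCore p ↥(F.autGroup φ.range)).map (F.autGroup φ.range).subtype : Subgroup (MulAut ↥φ.range)), ∀ y : ↥φ.range, ((α y : ↥φ.range) : Ω) = x * (y : Ω) * x⁻¹) ∧ ¬ F.IsRadical p P := by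
  classical
  obtain ⟨⟨-, -, hEF, hT, -⟩, -⟩ := hE
  have hPS := hP.1
  set U := P ⊓ T
  have hU : U ≤ T := inf_le_right
  obtain ⟨V, hUV, hV⟩ : ∃ V, E.IsConj U V ∧ ¬ centralizerIn T V ≤ V := by
    by_contra! hall
    exact hPT ⟨hU, hall⟩
  obtain ⟨Us, hUUs, hUs⟩ := exists_fullyNormalized F (hU.trans hT.1)
  obtain ⟨ψ, hψ, -, hψU⟩ := exists_normalizer_map_fullyNormalized hS hF hUs hUUs
  have hTn := stronglyClosed_le_normalizer hT
  have hPN : P ≤ normalizerIn S U := le_inf hPS fun g hg => Subgroup.inf_normalizer_le_normalizer_inf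
    ⟨Subgroup.le_normalizer hg, hTn (hPS hg)⟩
  set φ := ψ.comp (Subgroup.inclusion hPN)
  have hφ : φ ∈ F.Hom P := restrict_mem F hψ hPN
  obtain ⟨φi, hφi, hφie⟩ := F.inv_mem hφ
  have hmemT : ∀ x : P, φ x ∈ T → (x : Ω) ∈ T := by
    intro x hx
    have h1 := stronglyClosed_apply_mem hT hφi ⟨φ x, ⟨x, rfl⟩⟩ hx
    rwa [hφie] at h1
  have hUs_eq : ∀ y : Ω, y ∈ Us ↔ y ∈ φ.range ∧ y ∈ T := by
    intro y
    constructor
    · intro hy
      rw [← hψU] at hy
      obtain ⟨u, hu, rfl⟩ := hy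
      have hu' : (u : Ω) ∈ U := hu
      refine ⟨⟨⟨u, hu'.1⟩, rfl⟩, ?_⟩
      exact stronglyClosed_apply_mem hT hψ u (hU hu')
    · rintro ⟨⟨x, rfl⟩, hx⟩
      rw [← hψU]
      exact ⟨Subgroup.inclusion hPN x, ⟨x.2, hmemT x hx⟩, rfl⟩
  -- an element of `T` centralizing `Us` outside `Us`
  obtain ⟨x₁, hx₁, hx₁U⟩ : ∃ x ∈ centralizerIn T Us, x ∉ Us := by
    obtain ⟨c, hcV, hcnV⟩ := SetLike.not_le_iff_exists.1 hV
    obtain ⟨χ, hχ, hχr⟩ := isConj_trans (isConj_symm (show F.IsConj U V from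
      hUV.imp fun χ h => ⟨hEF _ h.1, h.2⟩)) hUUs
    obtain ⟨χ', hχ', hag⟩ := (fullyNormalized_receptive hS hF hUs).2 V χ hχ hχr
    have hcS : c ∈ centralizerIn S V := ⟨hT.1 hcV.1, hcV.2⟩
    have hcN := centralizerIn_le_extender χ hcS
    refine ⟨χ' ⟨c, hcN⟩, ⟨?_, ?_⟩, fun hin => ?_⟩
    · exact stronglyClosed_apply_mem hT hχ' ⟨c, hcN⟩ hcV.1
    · show _ ∈ Subgroup.centralizer (Us : Set Ω)
      rw [Subgroup.mem_centralizer_iff]
      rintro y hy
      rw [← hχr] at hy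
      obtain ⟨v, rfl⟩ := hy
      have hvN : (v : Ω) ∈ extender S V χ := le_extender F hχ v.2
      rw [← hag v v.2 hvN, ← map_mul, ← map_mul]
      exact congrArg χ' (Subtype.ext (Subgroup.mem_centralizer_iff.1 hcV.2 v v.2))
    · rw [← hχr] at hin
      obtain ⟨v, hv⟩ := hin
      rw [← hag v v.2 (le_extender F hχ v.2)] at hv
      exact hcnV ((show (v : Ω) = c from congrArg Subtype.val (F.injective_of_mem hχ' hv)) ▸ v.2)
  set Ps := φ.range with hPs
  have hPsS : Ps ≤ S := range_le F hφ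
  set W := Us ⊔ centralizerIn T Us
  have hWT : W ≤ T := sup_le (fun y hy => ((hUs_eq y).1 hy).2) inf_le_left
  have hWinv : Ps ≤ Subgroup.normalizer (W : Set Ω) := by
    have hN : ∀ g ∈ Ps, g ∈ Subgroup.normalizer (Us : Set Ω) := fun g hg => by
      have h1 : Us = Ps ⊓ T := Subgroup.ext fun y => hUs_eq y
      rw [h1]
      exact Subgroup.inf_normalizer_le_normalizer_inf ⟨Subgroup.le_normalizer hg, hTn (hPsS hg)⟩
    have hc : ∀ g ∈ Ps, ∀ y ∈ centralizerIn T Us, g * y * g⁻¹ ∈ centralizerIn T Us := fun g hg y hy =>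
      ⟨(Subgroup.mem_normalizer_iff.1 (hTn (hPsS hg)) y).1 hy.1, by
        show _ ∈ Subgroup.centralizer (Us : Set Ω)
        rw [Subgroup.mem_centralizer_iff]
        intro u hu
        have h1 := Subgroup.mem_centralizer_iff.1 hy.2 _ ((Subgroup.mem_normalizer_iff''.1 (hN g hg) u).1 hu)
        calc u * (g * y * g⁻¹) = g * ((g⁻¹ * u * g) * y) * g⁻¹ := by group
          _ = g * (y * (g⁻¹ * u * g)) * g⁻¹ := by rw [h1]
          _ = g * y * g⁻¹ * u := by group⟩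
    haveI : Finite W := finite_of_le (hWT.trans hT.1)
    intro g hg
    refine mem_normalizer_of_conj_mem_finite fun y hy => ?_
    have hle : W ≤ W.comap (MulAut.conj g).toMonoidHom := sup_le
      (fun u hu => Subgroup.mem_sup_left ((Subgroup.mem_normalizer_iff.1 (hN g hg) u).1 hu))
      (fun u hu => Subgroup.mem_sup_right (hc g hg u hu))
    exact hle hy
  obtain ⟨x, hxN, hxP, hxW⟩ : ∃ x, x ∈ Subgroup.normalizer (Ps : Set Ω) ∧ x ∉ Ps ∧ x ∈ W := by
    have hWS : Ps ⊔ W ≤ S := sup_le hPsS (hWT.trans hT.1)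
    have hlt : Ps < Ps ⊔ W := lt_of_le_not_ge le_sup_left fun h => hx₁U ((hUs_eq x₁).2
      ⟨h (Subgroup.mem_sup_right (Subgroup.mem_sup_right hx₁)), hx₁.1⟩)
    haveI := finite_of_le hWS
    obtain ⟨g, hg, hgP⟩ := SetLike.exists_of_lt (lt_normalizerIn (hS.to_le hWS) hlt)
    obtain ⟨hgW, hgN⟩ := hg
    replace hgW : g ∈ Ps ⊔ W := hgW
    rw [← SetLike.mem_coe, Subgroup.coe_mul_of_left_le_normalizer_right _ _ hWinv] at hgW
    obtain ⟨q, hq, w, hw, rfl⟩ := hgW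
    refine ⟨w, ?_, fun hwP => hgP (mul_mem hq hwP), hw⟩
    have := mul_mem (inv_mem (Subgroup.le_normalizer (H := Ps) hq)) hgN
    rwa [inv_mul_cancel_left] at this
  have hxT : x ∈ T := hWT hxW
  obtain ⟨u₀, hu₀, c₀, hc₀, rfl⟩ : ∃ u ∈ Us, ∃ c ∈ centralizerIn T Us, u * c = x := by
    have hle : Us ≤ Subgroup.normalizer (centralizerIn T Us : Set Ω) := fun g hg =>
      Subgroup.inf_normalizer_le_normalizer_inf ⟨Subgroup.le_normalizer ((hUs_eq g).1 hg).2, by
        refine mem_normalizer_of_conj_mem g ?_ ?_ <;>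
        · intro y hy
          first
          | (rw [show g * y * g⁻¹ = y by rw [Subgroup.mem_centralizer_iff.1 hy g hg, mul_inv_cancel_right]]; exact hy)
          | (rw [show g⁻¹ * y * g = y by rw [mul_assoc, ← Subgroup.mem_centralizer_iff.1 hy g hg, inv_mul_cancel_left]]
             exact hy)⟩
    rw [← SetLike.mem_coe, Subgroup.coe_mul_of_left_le_normalizer_right _ _ hle] at hxW
    exact hxW
  -- replace by the centralizing factor
  have hu₀P : u₀ ∈ Ps := ((hUs_eq u₀).1 hu₀).1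
  have hcN : c₀ ∈ Subgroup.normalizer (Ps : Set Ω) := by
    have := mul_mem (inv_mem (Subgroup.le_normalizer (H := Ps) hu₀P)) hxN
    rwa [inv_mul_cancel_left] at this
  have hcP : c₀ ∉ Ps := fun h => hxP (mul_mem hu₀P h)
  obtain ⟨α, hα, hαe⟩ := exists_conjAut (P := Ps) (hT.1 hc₀.1) hcN
  have hαA : α ∈ F.autGroup Ps := autInducedBy_le_autGroup F hPsS hα
  have h1 : ∀ y : Ps, (y : Ω)⁻¹ * ((α y : Ps) : Ω) ∈ T := fun y => by
    rw [hαe]
    have := (Subgroup.mem_normalizer_iff''.1 (hTn (hPsS y.2)) c₀).1 hc₀.1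
    simpa [mul_assoc] using T.mul_mem this (T.inv_mem hc₀.1)
  have h2 : ∀ y : Ps, (y : Ω) ∈ T → α y = y := fun y hy => Subtype.ext (by
    rw [hαe, ← Subgroup.mem_centralizer_iff.1 hc₀.2 (y : Ω) ((hUs_eq y).2 ⟨y.2, hy⟩), mul_inv_cancel_right])
  have hO := stab_mem_pCore hS hT hPsS ⟨α, hαA⟩ h1 h2
  refine ⟨⟨φ, hφ, c₀, ⟨hT.1 hc₀.1, hcN⟩, hcP, α, ⟨⟨α, hαA⟩, hO, rfl⟩, hαe⟩, fun hrad => ?_⟩
  -- pull back to `P`
  let e := mapEquiv F hφ hPs.symm
  have hθA := congr_mem_autGroup F e.symm (equivHom_mapEquiv_symm F hφ hPs.symm) (equivHom_mapEquiv F hφ hPs.symm) hαA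
  have hθe : ∀ y : P, φ ((MulAut.congr e.symm α) y) = ((α (e y) : Ps) : Ω) := fun y =>
    congrArg Subtype.val (e.apply_symm_apply (α (e y)))
  have hin : MulAut.congr e.symm α ∈ Inn P := by
    refine hrad.2.le ⟨⟨_, hθA⟩, stab_mem_pCore hS hT hPS ⟨_, hθA⟩ (fun y => ?_) (fun y hy => ?_), rfl⟩
    · refine hmemT (y⁻¹ * (MulAut.congr e.symm α) y) ?_
      rw [map_mul, map_inv, hθe]
      exact h1 (e y)
    · show e.symm (α (e y)) = y
      have hyT : ((e y : Ps) : Ω) ∈ T := stronglyClosed_apply_mem hT hφ y hy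
      rw [h2 _ hyT, e.symm_apply_apply]
  obtain ⟨q, hq⟩ := hin
  refine hcP (mem_of_conj_mem_inn (F := F) (hP.2 _ ⟨φ, hφ, rfl⟩) (hT.1 hc₀.1) hPsS hαe ⟨e q, ?_⟩)
  refine MulEquiv.ext fun y => ?_
  have := congrArg (fun a : MulAut P => e (a (e.symm y))) hq
  simp only [map_mul, map_inv, MulAut.conj_apply, e.apply_symm_apply, congr_apply, MulEquiv.symm_symm] at this
  exact this

end Cfsg.Agent.S5251
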