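import Cfsg.Statements.S2761
import Cfsg.Agent.Lib.LocalEven.QdOver

set_option autoImplicit false
open Cfsg

namespace Cfsg.Agent.S2761

/-- The group Qd(2), the natural semidirect product of an elementary abelian group of order 4 by SL₂(2) (realised as the affine subgroup of SL₃(2)), is isomorphic to the symmetric group of degree 4. -/
theorem result : Nonempty (↥(Cfsg.qd 2) ≃* Equiv.Perm (Fin 4)) := by
  classical
  haveI : Fact (Nat.Prime 2) := ⟨Nat.prime_two⟩
  let α := Fin 2 → ZMod 2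
  letI : MulAction ↥(Cfsg.qdOver (ZMod 2)) α :=
    { smul := fun M v => (LEQd.π M : Matrix (Fin 2) (Fin 2) (ZMod 2)).mulVec v + LEQd.tr M
      one_smul := fun v => by
        show (LEQd.π (1 : ↥(Cfsg.qdOver (ZMod 2))) : Matrix (Fin 2) (Fin 2) (ZMod 2)).mulVec v + LEQd.tr 1 = v
        rw [map_one, LEQd.tr_one, Matrix.SpecialLinearGroup.coe_one, Matrix.one_mulVec, add_zero]
      mul_smul := fun M N v => by
        show (LEQd.π (M * N) : Matrix (Fin 2) (Fin 2) (ZMod 2)).mulVec v + LEQd.tr (M * N) =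
          (LEQd.π M : Matrix (Fin 2) (Fin 2) (ZMod 2)).mulVec
            ((LEQd.π N : Matrix (Fin 2) (Fin 2) (ZMod 2)).mulVec v + LEQd.tr N) + LEQd.tr M
        rw [map_mul, LEQd.tr_mul, LENat.mul_mulVec, Matrix.mulVec_add, add_assoc] }
  let φ : ↥(Cfsg.qdOver (ZMod 2)) →* Equiv.Perm α := MulAction.toPermHom _ _
  have hinj : Function.Injective φ := by
    rw [← MonoidHom.ker_eq_bot_iff, eq_bot_iff]
    intro M hM
    have h : ∀ v : α, (LEQd.π M : Matrix (Fin 2) (Fin 2) (ZMod 2)).mulVec v + LEQd.tr M = v := fun v =>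
      congrFun (congrArg (fun σ : Equiv.Perm α => (σ : α → α)) (MonoidHom.mem_ker.1 hM)) v
    have ht : LEQd.tr M = 0 := by simpa using h 0
    rw [Subgroup.mem_bot]
    refine LEQd.ext' ?_ (ht.trans LEQd.tr_one.symm)
    rw [map_one]
    apply Subtype.ext
    refine Matrix.ext_of_mulVec_single fun i => ?_
    have h2 := h (Pi.single i 1)
    rw [ht, add_zero] at h2
    rw [h2, Matrix.SpecialLinearGroup.coe_one, Matrix.one_mulVec]
  let e : Matrix.SpecialLinearGroup (Fin 2) (ZMod 2) × α → ↥(Cfsg.qdOver (ZMod 2)) := fun x => LEQd.mk x.1 x.2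
  have he : Function.Bijective e := ⟨fun a b h => Prod.ext (by simpa [e, LEQd.π_mk] using congrArg LEQd.π h)
      (by simpa [e, LEQd.tr_mk] using congrArg LEQd.tr h),
    fun M => ⟨(LEQd.π M, LEQd.tr M), LEQd.ext' (LEQd.π_mk _ _) (LEQd.tr_mk _ _)⟩⟩
  have hα : Fintype.card α = 4 := by simp [α]
  have hbij : Function.Bijective φ := by
    refine (Nat.bijective_iff_injective_and_card φ).2 ⟨hinj, ?_⟩
    rw [← Nat.card_congr (Equiv.ofBijective e he), Nat.card_eq_fintype_card, Nat.card_eq_fintype_card,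
      Fintype.card_prod, Fintype.card_perm, hα,
      show Fintype.card (Matrix.SpecialLinearGroup (Fin 2) (ZMod 2)) = 6 from by decide +kernel]
    rfl
  exact ⟨(MulEquiv.ofBijective φ hbij).trans (Fintype.equivFinOfCardEq hα).permCongrHom⟩

end Cfsg.Agent.S2761

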