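import Cfsg.Statements.S3331
import Cfsg.Agent.Lib.SelfThree.Main

set_option autoImplicit false
open Cfsg

namespace Cfsg.Agent.S3331

theorem result {G : Type*} [Group G] [Finite G]
    (X : Subgroup G) (hX : Nat.card X = 3) (hC : Subgroup.centralizer (X : Set G) = X) :
    (∃ (N : Subgroup G) (hN : N.Normal), Group.IsNilpotent N ∧ (Nat.card N).Coprime 3 ∧
        (Nat.card (G ⧸ N) = 3 ∨ Nonempty (G ⧸ N ≃* Equiv.Perm (Fin 3)))) ∨
    (∃ (N : Subgroup G) (hN : N.Normal), IsMulCommutative N ∧ (∀ n ∈ N, n ^ 2 = 1) ∧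
        Nonempty (G ⧸ N ≃* alternatingGroup (Fin 5))) ∨
    Nonempty (G ≃* Matrix.ProjectiveSpecialLinearGroup (Fin 2) (ZMod 7)) := by
  obtain ⟨⟨x, hxX⟩, hx⟩ := exists_prime_orderOf_dvd_card' (G := X) 3 (hp := ⟨Nat.prime_three⟩) (hX ▸ dvd_rfl)
  rw [← Subgroup.orderOf_coe] at hx
  have hXx : Subgroup.zpowers x = X := Subgroup.eq_of_le_of_card_ge (Subgroup.zpowers_le.2 hxX)
    (by rw [hX, Nat.card_zpowers]; exact hx.ge)
  refine SelfThree.main _ G rfl x hx ?_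
  rw [← Subgroup.centralizer_closure, ← Subgroup.zpowers_eq_closure, hXx]
  exact hC

end Cfsg.Agent.S3331
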