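import Cfsg.Statements.S3339
import Cfsg.Agent.Lib.A9Three.Normalizer
import Cfsg.Agent.Lib.A9Three.Small
import Cfsg.Agent.Lib.ThreeTI.Mono.Build

set_option autoImplicit false
open Cfsg

namespace Cfsg.Agent.S3339

open Cfsg.Agent.A9Three Cfsg.Agent.ThreeTI.Mono

/-- A 3-local characterization of the alternating group of degree 9. Let G be a finite group and J ≤ G an elementary abelian subgroup of order 27 whose normalizer H = N_G(J) is isomorphic to the normalizer, in the alternating group of degree 9, of the subgroup generated by three disjoint 3-cycles. If O_{3'}(C_G(x)) = 1 for every element x of order 3 in H, then either G = H or G is isomorphic to the alternating group of degree 9. -/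
theorem result {G : Type*} [Group G] [Finite G]
    (J : Subgroup G) (hJcomm : IsMulCommutative J) (hJexp : ∀ a ∈ J, a ^ 3 = 1) (hJcard : Nat.card J = 27)
    (H : Subgroup G) (hH : H = Subgroup.normalizer (J : Set G))
    (J₀ : Subgroup (Equiv.Perm (Fin 9)))
    (hJ₀ : J₀ = Subgroup.closure {Equiv.swap (0 : Fin 9) 1 * Equiv.swap 1 2, Equiv.swap (3 : Fin 9) 4 * Equiv.swap 4 5, Equiv.swap (6 : Fin 9) 7 * Equiv.swap 7 8})
    (eH : H ≃* ↥(alternatingGroup (Fin 9) ⊓ Subgroup.normalizer (J₀ : Set (Equiv.Perm (Fin 9)))))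
    (hcores : ∀ x ∈ H, orderOf x = 3 → Cfsg.pPrimeCore 3 (Subgroup.centralizer ({x} : Set G)) = ⊥) :
    H = ⊤ ∨ Nonempty (G ≃* alternatingGroup (Fin 9)) := by
  classical
  haveI : Fact (Nat.Prime 3) := ⟨Nat.prime_three⟩
  have hN := normalizer_eq J₀ hJ₀
  let θ : H ≃* Mo :=
    eH.trans ((MulEquiv.subgroupCongr hN).trans (MonoidHom.ofInjective perm9_injective).symm)
  set ι : Mo →* G := H.subtype.comp θ.symm.toMonoidHom
  have hinj : Function.Injective ι := H.subtype_injective.comp θ.symm.injective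
  have hrange : ι.range = H := by
    refine le_antisymm (fun x ⟨m, hm⟩ => hm ▸ (θ.symm m).2) fun x hx => ⟨θ ⟨x, hx⟩, ?_⟩
    show ((θ.symm (θ ⟨x, hx⟩) : H) : G) = x
    rw [θ.symm_apply_apply]
  have hJH : J ≤ H := hH ▸ Subgroup.le_normalizer
  have hJn : (J.subgroupOf H).Normal := hH ▸ Subgroup.normal_in_normalizer
  have hJp : IsPGroup 3 (J.subgroupOf H) := fun a =>
    ⟨1, Subtype.ext (Subtype.ext (by rw [pow_one]; exact hJexp _ a.2))⟩
  have hright : ∀ x : H, (x : G) ∈ J → (θ x).right = 1 := fun x hx =>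
    (pCore_mem θ x).1 ((le_sSup ⟨hJn, hJp⟩ : J.subgroupOf H ≤ Cfsg.pCore 3 H) hx)
  have hJle : J ≤ A9Three.J ι := by
    intro x hx
    refine ⟨(θ ⟨x, hJH hx⟩).left, ?_⟩
    show ((θ.symm (inJ (θ ⟨x, hJH hx⟩).left) : H) : G) = x
    rw [← eq_inJ_of_right (hright _ hx), θ.symm_apply_apply]
  have hJeq : A9Three.J ι = J := by
    have h : Function.Injective (ι.comp inJ) := hinj.comp SemidirectProduct.inl_injective
    refine (Subgroup.eq_of_le_of_card_ge hJle (le_of_eq ?_)).symm
    rw [hJcard, A9Three.J, ← Nat.card_congr (MonoidHom.ofInjective h).toEquiv,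
      Nat.card_eq_fintype_card]
    decide
  have C : A9Three.Cfg ι :=
    ⟨hinj, by rw [hJeq, ← hH, hrange], fun m hm => by
      refine hcores (ι m) (θ.symm m).2 ?_
      rw [orderOf_injective ι hinj]
      exact hm⟩
  by_cases hall : ∀ v, v ≠ 1 → Subgroup.centralizer ({ι (inJ v)} : Set G) ≤ ι.range
  · exact Or.inl (hrange ▸ C.range_eq_top hall)
  · refine Or.inr ?_
    obtain ⟨ψ, f, N⟩ := C.exists_nin fun hva => hall fun v hv => by
      rcases trans_class v hv with h | h | h
      · obtain ⟨m, hm⟩ := isConj_iff.1 (isConj_of_cl h.symm)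
        intro g hg
        have e : ι (inJ v) = ι m * ι (inJ va) * (ι m)⁻¹ := by
          rw [← map_inv, ← map_mul, ← map_mul, hm]
        have hg' : (ι m)⁻¹ * g * ι m ∈ cg ι va := by
          refine Subgroup.mem_centralizer_singleton_iff.2 ?_
          have h2 := Subgroup.mem_centralizer_singleton_iff.1 hg
          rw [e] at h2
          calc (ι m)⁻¹ * g * ι m * ι (inJ va)
              = (ι m)⁻¹ * (g * (ι m * ι (inJ va) * (ι m)⁻¹)) * ι m := by group
            _ = _ := by rw [h2]; group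
        rw [show g = ι m * ((ι m)⁻¹ * g * ι m) * (ι m)⁻¹ by group]
        exact mul_mem (mul_mem ⟨m, rfl⟩ (hva hg')) (inv_mem ⟨m, rfl⟩)
      · exact C.cg_of_cl (Or.inl h)
      · exact C.cg_of_cl (Or.inr h)
    exact ⟨((MonoidHom.ofInjective N.inj).trans
      ((MulEquiv.subgroupCongr N.top).trans Subgroup.topEquiv)).symm⟩

end Cfsg.Agent.S3339
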