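import Cfsg.Statements.S4529
import Cfsg.Agent.Lib.BrauerPairs.SDQBlock

set_option linter.style.haveILetI false

set_option autoImplicit false
open Cfsg

namespace Cfsg.Agent.S4529

/-- Let B be a 2-block of the finite group G (relative to a maximal ideal M of the algebraic integers containing 2) whose defect group D is semidihedral (quasi-dihedral) of order 2 ^ n, n ≥ 4. Then the number of irreducible characters in B is 2 ^ (n - 2) + 3 or 2 ^ (n - 2) + 4, its 2-regular rank l is between 1 and 3, with l = 3 forcing 2 ^ (n - 2) + 4 characters and l = 1 forcing 2 ^ (n - 2) + 3; exactly four members have height zero, exactly 2 ^ (n - 2) - 1 have height one, and every other member has height n - 2. -/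
theorem result {G : Type*} [Group G] [Finite G] (M : Ideal Cfsg.AlgInt) (hM : Cfsg.IsPModular 2 M) (B : Set (Cfsg.IrrCharacter G)) (hB : Cfsg.IsPBlock M B) (D : Subgroup G) (hD : Cfsg.IsDefectGroup 2 M B D) (n : ℕ) (hn : 4 ≤ n) (hcard : Nat.card D = 2 ^ n) (hsd : Cfsg.IsQuasiDihedral D) : (Nat.card B = 2 ^ (n - 2) + 3 ∨ Nat.card B = 2 ^ (n - 2) + 4) ∧ 1 ≤ Cfsg.blockRank 2 B ∧ Cfsg.blockRank 2 B ≤ 3 ∧ (Cfsg.blockRank 2 B = 3 → Nat.card B = 2 ^ (n - 2) + 4) ∧ (Cfsg.blockRank 2 B = 1 → Nat.card B = 2 ^ (n - 2) + 3) ∧ Nat.card {χ : Cfsg.IrrCharacter G // χ ∈ B ∧ Cfsg.blockHeight 2 B (χ : G → ℂ) = 0} = 4 ∧ Nat.card {χ : Cfsg.IrrCharacter G // χ ∈ B ∧ Cfsg.blockHeight 2 B (χ : G → ℂ) = 1} = 2 ^ (n - 2) - 1 ∧ ∀ χ ∈ B, Cfsg.blockHeight 2 B (χ : G → ℂ) = 0 ∨ Cfsg.blockHeight 2 B (χ : G → ℂ) = 1 ∨ Cfsg.blockHeight 2 B (χ : G → ℂ) = n - 2 := by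
  classical
  haveI : Fintype G := Fintype.ofFinite G
  haveI : M.IsPrime := hM.2.1.isPrime
  haveI : CharP (Cfsg.Agent.Blocks.resField M) 2 := Cfsg.Agent.Blocks.resField_charP hM
  obtain ⟨d, hdh, hdτ⟩ := Cfsg.Agent.SDQ.exists_of_quasiDihedral hn hcard hsd
  obtain ⟨e, hmax⟩ := Cfsg.Agent.SDQSetup.exists_max hM hB hD
  obtain ⟨hl1, hl3, h0, hht, h1, -, hS⟩ :=
    Cfsg.Agent.SDQSetup.invariants (a := (D, e)) hM hB hmax d
  have hh4 : 4 ≤ d.h := by
    rw [hdh, show (4 : ℕ) = 2 ^ 2 from rfl]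
    exact Nat.pow_le_pow_right two_pos (by omega)
  have hyy : d.y * d.y = 1 := by
    rcases d.kind with ⟨h, -⟩ | ⟨-, h, -⟩
    · omega
    · exact h
  have hq2 : 2 ≤ d.q := by have := d.hq; omega
  obtain ⟨hk, hk3, hk1⟩ := hS hyy
  rw [hdh] at hk hk3 hk1
  refine ⟨hk, hl1, hl3, hk3, hk1, h0, (h1 hq2).trans (by rw [hdh]), fun χ hχ => ?_⟩
  rcases hht χ hχ with h | h | h
  · exact Or.inl h
  · exact Or.inr (Or.inl h)
  · exact Or.inr (Or.inr (Nat.pow_right_injective le_rfl (h.trans hdh)))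

end Cfsg.Agent.S4529
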