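import Cfsg.Statements.S0819
import Cfsg.Agent.Lib.LinearBlock.PSL34

set_option autoImplicit false
open Cfsg

namespace Cfsg.Agent.S0819

/-- No element of PSL_3(4) has order 15. -/
theorem result {F : Type*} [Field F] [Fintype F] (hF : Fintype.card F = 4) (g : Matrix.ProjectiveSpecialLinearGroup (Fin 3) F) : orderOf g ≠ 15 := by
  classical
  intro hg
  obtain ⟨h, rfl⟩ := QuotientGroup.mk_surjective g
  have hdvd : ∀ m : ℕ, h ^ m ∈ Subgroup.center (Matrix.SpecialLinearGroup (Fin 3) F) → 15 ∣ m := fun m hm => by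
    rw [← hg]
    exact orderOf_dvd_of_pow_eq_one (by rw [← QuotientGroup.mk_pow]; exact (QuotientGroup.eq_one_iff _).2 hm)
  have h15 : h ^ 15 ∈ Subgroup.center (Matrix.SpecialLinearGroup (Fin 3) F) := by
    rw [← QuotientGroup.eq_one_iff, QuotientGroup.mk_pow]
    exact orderOf_dvd_iff_pow_eq_one.1 hg.dvd
  obtain ⟨u, hu⟩ : ∃ u, h ^ 5 = u := ⟨_, rfl⟩
  have hns : ∀ z : F, u.1 ≠ z • (1 : Matrix (Fin 3) (Fin 3) F) := by
    intro z hz
    have hd := u.2
    rw [hz, Matrix.det_smul, Matrix.det_one, mul_one] at hd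
    have hmem : h ^ 5 ∈ Subgroup.center (Matrix.SpecialLinearGroup (Fin 3) F) := by
      rw [hu, Matrix.SpecialLinearGroup.mem_center_iff]
      exact ⟨z, by simpa using hd, by rw [hz, Matrix.scalar_apply, Matrix.smul_one_eq_diagonal]⟩
    exact absurd (hdvd 5 hmem) (by norm_num)
  obtain ⟨c, -, hc⟩ := Matrix.SpecialLinearGroup.mem_center_iff.1 h15
  rw [Matrix.scalar_apply, ← Matrix.smul_one_eq_diagonal, show h ^ 15 = u ^ 3 by rw [← hu, ← pow_mul]] at hc
  have hu3 := LinearBlock.PSL34.cube_scalar hF u.1 u.2 hns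
    ((Matrix.SpecialLinearGroup.coe_pow u 3).symm.trans hc.symm)
  obtain ⟨e, hinj, h0⟩ : ∃ e : Fin 3 → F, Function.Injective e ∧ ∀ i, e i ≠ 0 := by
    have : Fintype.card {a : F // a ≠ 0} = 3 := by
      rw [Fintype.card_subtype_compl, Fintype.card_subtype_eq, hF]
    let f := (Fintype.equivFinOfCardEq this).symm
    exact ⟨fun i => (f i).1, fun i j hij => f.injective (Subtype.ext hij), fun i => (f i).2⟩
  obtain ⟨M, hM⟩ := LinearBlock.PSL34.exists_frame hF e hinj h0 u.1 u.2 hns hu3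
  obtain ⟨k, hk⟩ : ∃ k, M⁻¹ * h * M = k := ⟨_, rfl⟩
  have hcomm : k * (M⁻¹ * u * M) = (M⁻¹ * u * M) * k := by
    rw [← hk, ← hu]; group
  have hD : (M⁻¹ * u * M).1 = Matrix.diagonal e := by
    rw [Matrix.SpecialLinearGroup.coe_mul, Matrix.SpecialLinearGroup.coe_mul, mul_assoc, hM, ← mul_assoc,
      ← Matrix.SpecialLinearGroup.coe_mul, inv_mul_cancel, Matrix.SpecialLinearGroup.coe_one, one_mul]
  have hcomm' : k.1 * Matrix.diagonal e = Matrix.diagonal e * k.1 := by
    have := congrArg Subtype.val hcomm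
    rwa [Matrix.SpecialLinearGroup.coe_mul k, Matrix.SpecialLinearGroup.coe_mul (M⁻¹ * u * M) k, hD] at this
  have hdiag : k.1 = Matrix.diagonal fun i => k.1 i i := by
    ext i j
    rcases eq_or_ne i j with rfl | hij
    · simp
    · rw [Matrix.diagonal_apply_ne _ hij]
      have := congrFun₂ hcomm' i j
      rw [Matrix.mul_diagonal, Matrix.diagonal_mul, mul_comm] at this
      by_contra hne
      exact hij (hinj (mul_right_cancel₀ hne this).symm)
  have hk3 : k ^ 3 = 1 := by
    apply Subtype.ext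
    rw [Matrix.SpecialLinearGroup.coe_pow, hdiag, Matrix.diagonal_pow, Matrix.SpecialLinearGroup.coe_one,
      ← Matrix.diagonal_one]
    congr 1
    funext i
    have hne : k.1 i i ≠ 0 := fun e0 => by
      have hd := k.2
      rw [hdiag, Matrix.det_diagonal] at hd
      rw [Finset.prod_eq_zero (f := fun i => k.1 i i) (Finset.mem_univ i) e0] at hd
      exact zero_ne_one hd
    exact LinearBlock.PSL34.cube_eq_one hF hne
  have : h ^ 3 = 1 := by
    have h1 : k ^ 3 = M⁻¹ * h ^ 3 * M := by rw [← hk]; simp only [pow_three]; group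
    rw [hk3] at h1
    calc h ^ 3 = M * (M⁻¹ * h ^ 3 * M) * M⁻¹ := by group
      _ = 1 := by rw [← h1]; group
  exact absurd (hdvd 3 (this ▸ one_mem _)) (by norm_num)

end Cfsg.Agent.S0819

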