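import Cfsg.Statements.S3682
import Cfsg.Agent.Lib.TW.Bound

set_option autoImplicit false
open Cfsg

namespace Cfsg.Agent.S3682

/-- Wielandt's bound toward the Sims conjecture. Let a finite group G act faithfully and primitively on a set Ω, let a and b be points, and suppose the orbit of b under the stabilizer of a has length d ≥ 2. Then there are a prime p and a normal p-subgroup P of the stabilizer of a, all of whose elements fix b, such that the index of P in the stabilizer of a divides d! · ((d - 1)!)^d. -/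
theorem result {G Ω : Type*} [Group G] [Finite G] [MulAction G Ω] [FaithfulSMul G Ω] [Finite Ω]
    (hprim : MulAction.IsPreprimitive G Ω) (a b : Ω) (d : ℕ) (hd : Nat.card (MulAction.orbit (MulAction.stabilizer G a) b) = d) (h2 : 2 ≤ d) :
    ∃ p : ℕ, p.Prime ∧ ∃ P : Subgroup (MulAction.stabilizer G a), P.Normal ∧ IsPGroup p P ∧ (∀ g : P, ((g : MulAction.stabilizer G a) : G) • b = b) ∧
      P.index ∣ Nat.factorial d * (Nat.factorial (d - 1)) ^ d := by
  have := Cfsg.Agent.TW.nontrivial_points a b hd h2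
  set P := Cfsg.Agent.TW.kern (G := G) a b a with hP
  have hfix : ∀ g : ↥(P.subgroupOf (MulAction.stabilizer G a)),
      ((g : MulAction.stabilizer G a) : G) • b = b := fun g =>
    ((Cfsg.Agent.TW.mem_kern.1 g.2).2 b Cfsg.Agent.TW.arc_self).1
  have hnorm : (P.subgroupOf (MulAction.stabilizer G a)).Normal :=
    (Subgroup.normal_subgroupOf_iff_le_normalizer (Cfsg.Agent.TW.kern_le a)).2
      (Cfsg.Agent.TW.le_normalizer_kern a)
  have hidx := Cfsg.Agent.TW.index_kern_dvd hprim a b hd
  by_cases hp : ∃ p : ℕ, p.Prime ∧ IsPGroup p P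
  · obtain ⟨p, hp, hPp⟩ := hp
    exact ⟨p, hp, _, hnorm, hPp.comap_subtype, hfix, hidx⟩
  · refine ⟨2, Nat.prime_two, ⊥, inferInstance, IsPGroup.of_bot, fun g => ?_, ?_⟩
    · rw [show ((g : MulAction.stabilizer G a) : G) = 1 by
        rw [Subgroup.mem_bot.1 g.2]; rfl, one_smul]
    rw [Subgroup.index_bot]
    refine Cfsg.Agent.TW.card_dvd_of_fitting_eq_bot hprim a b hd h2
      (Cfsg.Agent.TW.fittingSubgroup_eq_bot_of_pCore fun p hpp => ?_)
    by_contra hne
    have : Fact p.Prime := ⟨hpp⟩
    exact hp ⟨p, hpp, Cfsg.Agent.TW.isPGroup_kern_of_pCore_ne_bot hprim a b hd h2 hne⟩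

end Cfsg.Agent.S3682
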