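import Cfsg.Statements.S0996
import Cfsg.Agent.Lib.SmallN.Main

set_option autoImplicit false
set_option linter.style.haveILetI false

set_option autoImplicit false
open Cfsg

namespace Cfsg.Agent.S0996

/-- Let G be a finite perfect group containing an element z of prime order p whose centralizer is the cyclic group it generates, and suppose the number 1 + n * p of Sylow p-subgroups satisfies n < (p + 3) / 2. Then p > 3 and G is isomorphic to the projective special linear group of dimension 2 over the field with p elements, or p - 1 is a power of 2 and G is isomorphic to that group over the field with p - 1 elements. -/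
theorem result {G : Type*} [Group G] [Finite G] (hperf : commutator G = ⊤) (p : ℕ) [Fact p.Prime] (z : G) (hz : orderOf z = p) (hC : Subgroup.centralizer ({z} : Set G) = Subgroup.zpowers z) (hn : 2 * Nat.card (Sylow p G) < (p + 1) * (p + 2)) : (∃ (F : Type) (_ : Field F) (_ : Fintype F), Fintype.card F = p ∧ 3 < p ∧ Nonempty (G ≃* Matrix.ProjectiveSpecialLinearGroup (Fin 2) F)) ∨ (∃ (m : ℕ) (F : Type) (_ : Field F) (_ : Fintype F), Fintype.card F = 2 ^ m ∧ p = 2 ^ m + 1 ∧ 3 < p ∧ Nonempty (G ≃* Matrix.ProjectiveSpecialLinearGroup (Fin 2) F)) := by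
  haveI := Fintype.ofFinite G
  have hp : p.Prime := Fact.out
  have hcard : Nat.card (Subgroup.zpowers z) = p := by rw [Nat.card_zpowers, hz]
  obtain ⟨S, hS⟩ := (IsPGroup.of_card (n := 1) (by rw [hcard, pow_one]) :
    IsPGroup p (Subgroup.zpowers z)).exists_le_sylow
  have hzS : z ∈ (S : Subgroup G) := hS (Subgroup.mem_zpowers z)
  -- the Sylow subgroup is `⟨z⟩`
  haveI : Nontrivial (S : Subgroup G) := Finite.one_lt_card_iff_nontrivial.1 (by
    have := Subgroup.card_le_of_le hS
    rw [hcard] at this
    have := hp.two_le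
    omega)
  obtain ⟨w, hw, hw1⟩ : ∃ w ∈ Subgroup.center (S : Subgroup G), w ≠ 1 := by
    have := S.2.center_nontrivial
    obtain ⟨w, hw⟩ := exists_ne (1 : Subgroup.center (S : Subgroup G))
    exact ⟨w, w.2, fun e => hw (Subtype.ext e)⟩
  have hwz : (w : G) ∈ Subgroup.zpowers z := by
    rw [← hC, Subgroup.mem_centralizer_singleton_iff]
    exact (congrArg Subtype.val (Subgroup.mem_center_iff.1 hw ⟨z, hzS⟩)).symm
  have hwgen : Subgroup.zpowers (w : G) = Subgroup.zpowers z := by
    refine Subgroup.eq_of_le_of_card_ge (Subgroup.zpowers_le.2 hwz) ?_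
    have hd : orderOf (w : G) ∣ p := (Subgroup.orderOf_dvd_natCard _ hwz).trans (dvd_of_eq hcard)
    rw [hcard, Nat.card_zpowers]
    rcases (Nat.dvd_prime hp).1 hd with h | h
    · exact absurd (Subtype.ext (orderOf_eq_one_iff.1 h)) hw1
    · exact h.ge
  have hSle : (S : Subgroup G) ≤ Subgroup.zpowers z := by
    intro y hy
    have h1 : z ∈ Subgroup.centralizer ({y} : Set G) := by
      have h2 : Subgroup.zpowers (w : G) ≤ Subgroup.centralizer ({y} : Set G) :=
        Subgroup.zpowers_le.2 (Subgroup.mem_centralizer_singleton_iff.2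
          (congrArg Subtype.val (Subgroup.mem_center_iff.1 hw ⟨y, hy⟩)).symm)
      exact h2 (hwgen.ge (Subgroup.mem_zpowers z))
    rw [← hC, Subgroup.mem_centralizer_singleton_iff]
    exact (Subgroup.mem_centralizer_singleton_iff.1 h1).symm
  have hSeq : (S : Subgroup G) = Subgroup.zpowers z := le_antisymm hSle hS
  refine Cfsg.Agent.SmallN.main hperf S ((congrArg (fun K : Subgroup G => Nat.card K) hSeq).trans hcard) ?_ hn
  rw [hSeq, Subgroup.zpowers_eq_closure, Subgroup.centralizer_closure, hC, Subgroup.zpowers_eq_closure]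

end Cfsg.Agent.S0996
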