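import Cfsg.Statements.S0987
import Mathlib.GroupTheory.Sylow
import Mathlib.GroupTheory.SpecificGroups.Cyclic

set_option autoImplicit false
open Cfsg

namespace Cfsg.Agent.S0987

open scoped Classical in
theorem card_orderOf {G : Type*} [Group G] [Finite G] {q : ℕ} [hq : Fact q.Prime]
    (hQ : ∀ Q : Sylow q G, Nat.card Q = q) :
    Nat.card {x : G // orderOf x = q} = Nat.card (Sylow q G) * (q - 1) := by
  have hex : ∀ x : {x : G // orderOf x = q}, ∃ Q : Sylow q G, x.1 ∈ Q := by
    intro x
    obtain ⟨Q, hQ'⟩ := (IsPGroup.of_card (n := 1)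
      (by rw [Nat.card_zpowers, x.2, pow_one]) : IsPGroup q (Subgroup.zpowers x.1)).exists_le_sylow
    exact ⟨Q, hQ' (Subgroup.mem_zpowers _)⟩
  choose S hS using hex
  have huniq : ∀ (Q : Sylow q G) (x : G), x ∈ Q → orderOf x = q →
      Subgroup.zpowers x = (Q : Subgroup G) := fun Q x hx ho =>
    Subgroup.eq_of_le_of_card_ge (Subgroup.zpowers_le.mpr hx) (by rw [Nat.card_zpowers, ho, hQ])
  let e : {x : G // orderOf x = q} ≃ (Σ Q : Sylow q G, {y : Q // y ≠ 1}) :=
    { toFun := fun x => ⟨S x, ⟨x.1, hS x⟩, fun h => by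
        have e := congrArg Subtype.val h
        have := x.2
        simp only [OneMemClass.coe_one] at e
        rw [e, orderOf_one] at this
        exact hq.out.one_lt.ne this⟩
      invFun := fun s => ⟨s.2.1.1, by
        have hd : orderOf s.2.1 ∣ q := (orderOf_dvd_natCard _).trans (dvd_of_eq (hQ _))
        rcases (Nat.dvd_prime hq.out).mp hd with h1 | h1
        · exact absurd (orderOf_eq_one_iff.mp h1) s.2.2
        · rw [Subgroup.orderOf_coe]; exact h1⟩
      left_inv := fun _ => rfl
      right_inv := by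
        rintro ⟨Q, ⟨⟨y, hy⟩, hy1⟩⟩
        have ho : orderOf y = q := by
          have hd : orderOf (⟨y, hy⟩ : Q) ∣ q := (orderOf_dvd_natCard _).trans (dvd_of_eq (hQ _))
          rcases (Nat.dvd_prime hq.out).mp hd with h1 | h1
          · exact absurd (orderOf_eq_one_iff.mp h1) hy1
          · rwa [Subgroup.orderOf_mk] at h1
        have heq : S ⟨y, ho⟩ = Q := Sylow.ext ((huniq _ y (hS ⟨y, ho⟩) ho).symm.trans (huniq Q y hy ho))
        refine Sigma.ext heq ?_
        subst heq
        rfl }
  have := Fintype.ofFinite (Sylow q G)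
  rw [Nat.card_congr e, Nat.card_sigma]
  have hc : ∀ Q : Sylow q G, Nat.card {y : Q // y ≠ 1} = q - 1 := by
    intro Q
    have := Fintype.ofFinite Q
    rw [Nat.card_eq_fintype_card, Fintype.card_subtype_compl, Fintype.card_subtype_eq,
      ← Nat.card_eq_fintype_card]
    exact congrArg (fun n => n - 1) (hQ Q)
  simp [hc]

theorem sylow_card {G : Type*} [Group G] [Finite G] {s : ℕ} [hs : Fact s.Prime] {m : ℕ}
    (hG : Nat.card G = s * m) (hm : ¬ s ∣ m) (S : Sylow s G) :
    Nat.card S = s ∧ Nat.card (Sylow s G) ∣ m := by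
  obtain ⟨k, hk⟩ := IsPGroup.iff_card.mp S.2
  have h1 : s ∣ Nat.card S := S.dvd_card_of_dvd_card (hG ▸ dvd_mul_right s m)
  have hk1 : k = 1 := by
    rcases k with _ | _ | k
    · rw [hk, pow_zero] at h1; exact absurd (Nat.dvd_one.mp h1) hs.out.ne_one
    · rfl
    · exfalso
      have h2 : s ^ 2 ∣ s * m := by
        rw [← hG]
        exact ((pow_dvd_pow s (by omega : 2 ≤ k + 2)).trans (hk ▸ dvd_rfl)).trans
          (S : Subgroup G).card_subgroup_dvd_card
      rw [pow_two] at h2
      exact hm (Nat.dvd_of_mul_dvd_mul_left hs.out.pos h2)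
  rw [hk1, pow_one] at hk
  refine ⟨hk, ?_⟩
  have := (S : Subgroup G).card_mul_index
  rw [hk, hG] at this
  exact (Nat.eq_of_mul_eq_mul_left hs.out.pos this) ▸ S.card_dvd_index

/-- If a finite group has order pqr for primes p < q < r, then its Sylow r-subgroups are normal. -/
theorem result {G : Type*} [Group G] [Finite G] (p q r : ℕ) (hp : p.Prime) (hq : q.Prime) [Fact r.Prime] (hpq : p < q) (hqr : q < r) (hG : Nat.card G = p * q * r) (R : Sylow r G) : (R : Subgroup G).Normal := by
  haveI := Fact.mk hq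
  haveI := Fact.mk hp
  have hr : r.Prime := Fact.out
  have hmr : ¬ r ∣ p * q := fun h => by
    rcases hr.dvd_mul.mp h with h | h
    · have := Nat.le_of_dvd hp.pos h; omega
    · have := Nat.le_of_dvd hq.pos h; omega
  have hmq : ¬ q ∣ p * r := fun h => by
    rcases hq.dvd_mul.mp h with h | h
    · have := Nat.le_of_dvd hp.pos h; omega
    · rcases (Nat.dvd_prime hr).mp h with h' | h'
      · exact hq.ne_one h'
      · omega
  have hGr : Nat.card G = r * (p * q) := by rw [hG]; ring
  have hGq : Nat.card G = q * (p * r) := by rw [hG]; ring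
  obtain ⟨hR, hnR⟩ := sylow_card hGr hmr R
  by_contra hnn
  have hnR1 : Nat.card (Sylow r G) ≠ 1 := fun h => by
    haveI := (Nat.card_eq_one_iff_unique.mp h).1
    exact hnn R.normal_of_subsingleton
  have hn : Nat.card (Sylow r G) = p * q := by
    have hm := card_sylow_modEq_one r G
    obtain ⟨a, b, ha, hb, hab⟩ := Nat.dvd_mul.mp hnR
    rcases (Nat.dvd_prime hp).mp ha with rfl | rfl <;>
      rcases (Nat.dvd_prime hq).mp hb with rfl | rfl
    · exact absurd hab.symm (by simpa using hnR1)
    · rw [one_mul] at hab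
      rw [← hab, Nat.ModEq, Nat.mod_eq_of_lt hqr, Nat.mod_eq_of_lt hr.one_lt] at hm
      exact absurd hm hq.ne_one
    · rw [mul_one] at hab
      rw [← hab, Nat.ModEq, Nat.mod_eq_of_lt (hpq.trans hqr), Nat.mod_eq_of_lt hr.one_lt] at hm
      exact absurd hm hp.ne_one
    · exact hab.symm
  -- the Sylow q-subgroups
  obtain ⟨Q⟩ : Nonempty (Sylow q G) := inferInstance
  obtain ⟨hQ, hnQ⟩ := sylow_card hGq hmq Q
  by_cases hQ1 : Nat.card (Sylow q G) = 1
  · haveI := (Nat.card_eq_one_iff_unique.mp hQ1).1
    haveI := Q.normal_of_subsingleton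
    set M := (R : Subgroup G) ⊔ (Q : Subgroup G) with hM
    have hdj : (Q : Subgroup G) ⊓ (R : Subgroup G) = ⊥ :=
      Subgroup.inf_eq_bot_of_coprime (by
        rw [hQ, hR]; exact (Nat.coprime_primes hq hr).mpr (by omega))
    have hMc : Nat.card M = q * r := by
      rw [hM, sup_comm]
      have : Nat.card ↥((Q : Subgroup G) ⊔ (R : Subgroup G)) = Nat.card ((Q : Subgroup G) : Set G) * Nat.card ((R : Subgroup G) : Set G) := by
        rw [← Nat.card_prod]
        refine (Nat.card_congr (Equiv.ofBijective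
          (fun x : ↥(Q : Subgroup G) × ↥(R : Subgroup G) =>
            (⟨x.1.1 * x.2.1, mul_mem (Subgroup.mem_sup_left x.1.2) (Subgroup.mem_sup_right x.2.2)⟩ :
              ↥((Q : Subgroup G) ⊔ (R : Subgroup G)))) ⟨?_, ?_⟩)).symm
        · intro a b h
          exact Subgroup.mul_injective_of_disjoint (disjoint_iff.mpr hdj) (Subtype.ext_iff.mp h)
        · rintro ⟨x, hx⟩
          obtain ⟨u, hu, w, hw, h⟩ := Subgroup.mem_sup_of_normal_left.mp hx
          exact ⟨(⟨u, hu⟩, ⟨w, hw⟩), Subtype.ext h⟩
      rw [this]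
      show Nat.card Q * Nat.card R = _
      rw [hQ, hR]
    -- the Sylow r-subgroup is normal in M
    have hMr : Nat.card M = r * q := by rw [hMc, mul_comm]
    obtain ⟨-, hd⟩ := sylow_card hMr (fun h => hmr (h.trans (dvd_mul_left q p))) (R.subtype le_sup_left)
    have hone : Nat.card (Sylow r M) = 1 := by
      rcases (Nat.dvd_prime hq).mp hd with h | h
      · exact h
      · have hm := card_sylow_modEq_one r M
        rw [h, Nat.ModEq, Nat.mod_eq_of_lt hqr, Nat.mod_eq_of_lt hr.one_lt] at hm
        exact absurd hm hq.ne_one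
    haveI := (Nat.card_eq_one_iff_unique.mp hone).1
    have hQN : (Q : Subgroup G) ≤ Subgroup.normalizer ((R : Subgroup G) : Set G) := by
      intro u hu
      have hn := (R.subtype le_sup_left : Sylow r M).normal_of_subsingleton
      refine Subgroup.mem_normalizer_fintype fun x hx => ?_
      have := hn.conj_mem (⟨x, Subgroup.mem_sup_left hx⟩ : M) hx ⟨u, Subgroup.mem_sup_right hu⟩
      exact this
    have hdvd := Subgroup.card_dvd_of_le hQN
    have hN := (Subgroup.normalizer ((R : Subgroup G) : Set G)).card_mul_index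
    have hidx : (Subgroup.normalizer ((R : Subgroup G) : Set G)).index = p * q :=
      R.card_eq_index_normalizer.symm.trans hn
    rw [hidx, hGr] at hN
    have hNr : Nat.card (Subgroup.normalizer ((R : Subgroup G) : Set G)) = r :=
      Nat.eq_of_mul_eq_mul_right (Nat.mul_pos hp.pos hq.pos) hN
    rw [hNr, show Nat.card (Q : Subgroup G) = q from hQ] at hdvd
    exact absurd ((Nat.prime_dvd_prime_iff_eq hq hr).mp hdvd) (by omega)
  · have hbig : r ≤ Nat.card (Sylow q G) := by
      obtain ⟨a, b, ha, hb, hab⟩ := Nat.dvd_mul.mp hnQ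
      rcases (Nat.dvd_prime hr).mp hb with rfl | rfl
      · rw [mul_one] at hab
        rcases (Nat.dvd_prime hp).mp ha with rfl | rfl
        · exact absurd hab.symm hQ1
        · have hm := card_sylow_modEq_one q G
          rw [← hab, Nat.ModEq, Nat.mod_eq_of_lt hpq, Nat.mod_eq_of_lt hq.one_lt] at hm
          exact absurd hm hp.ne_one
      · rw [← hab]; exact Nat.le_mul_of_pos_left _ (Nat.pos_of_dvd_of_pos ha hp.pos)
    have c1 := card_orderOf (q := r) (fun S => (sylow_card hGr hmr S).1)
    have c2 := card_orderOf (q := q) (fun S => (sylow_card hGq hmq S).1)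
    have hinj : Function.Injective (Sum.elim (fun x : {x : G // orderOf x = r} => x.1)
        (fun x : {x : G // orderOf x = q} => x.1)) :=
      Function.Injective.sumElim Subtype.val_injective Subtype.val_injective
        (fun a b h => by have := a.2; rw [h, b.2] at this; omega)
    have hle := Nat.card_le_card_of_injective _ hinj
    rw [Nat.card_sum, c1, c2, hG, hn] at hle
    obtain ⟨r', rfl⟩ : ∃ r', r = r' + 1 := ⟨r - 1, by omega⟩
    obtain ⟨q', rfl⟩ : ∃ q', q = q' + 1 := ⟨q - 1, by omega⟩
    simp only [Nat.add_sub_cancel] at hle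
    have h1 : (r' + 1) * q' ≤ Nat.card (Sylow (q' + 1) G) * q' := Nat.mul_le_mul_right _ hbig
    have h3 : (p + 2) * q' ≤ (r' + 1) * q' := Nat.mul_le_mul_right _ (by omega)
    have hp2 := hp.two_le
    nlinarith

end Cfsg.Agent.S0987
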