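import Cfsg.Statements.S0899
import Cfsg.Agent.Lib.Char.BlichfeldtMain

set_option autoImplicit false
open Cfsg

namespace Cfsg.Agent.S0899

universe u

/-- Transfer of the hypothesis to a subgroup, and the induction. -/
theorem aux {p : ℕ} [Fact p.Prime] (n : ℕ) : ∀ (N : ℕ) (G : Type u) [Group G] [Finite G],
    Nat.card G = N → ∀ (ρ : Representation ℂ G (Fin n → ℂ)), Function.Injective ρ →
    ((n + 1) ^ 2 ≤ p ∨ (n + 1 < p ∧
      ∀ K : Subgroup G, ¬ p ^ 2 ∣ Nat.card K → ∀ Q : Sylow p K, (Q : Subgroup K).Normal)) →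
    ∀ P : Sylow p G, (P : Subgroup G).Normal := by
  intro N
  induction N using Nat.strong_induction_on with
  | _ N ih =>
  intro G _ _ hN ρ hρ h P
  have hp2 : 2 ≤ p := (Fact.out : p.Prime).two_le
  rcases Nat.eq_zero_or_pos n with hn0 | hn0
  · subst hn0
    haveI : Subsingleton G := hρ.subsingleton
    exact ⟨fun x hx g => by rwa [Subsingleton.elim (g * x * g⁻¹) x]⟩
  have hnp : n + 1 < p := by
    rcases h with h | h
    · nlinarith
    · exact h.1
  by_contra hPn
  refine Cfsg.Agent.Char.Blich.false_of_counterexample ρ hρ hnp P hPn ?_ ?_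
  · rcases h with h | ⟨-, h⟩
    · refine h.trans ?_
      obtain ⟨a, ha⟩ : ∃ a, Nat.card (P : Subgroup G) = p ^ a := P.isPGroup'.exists_card_eq
      rcases Nat.eq_zero_or_pos a with rfl | ha0
      · refine absurd ?_ hPn
        rw [pow_zero, Subgroup.card_eq_one] at ha
        rw [ha]
        infer_instance
      · rw [ha]
        exact Nat.le_self_pow ha0.ne' p
    · by_cases h2 : p ^ 2 ∣ Nat.card G
      · have h3 := Nat.le_of_dvd Nat.card_pos (P.pow_dvd_card_of_pow_dvd_card h2)
        exact (Nat.pow_le_pow_left hnp.le 2).trans h3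
      · exfalso
        refine hPn ?_
        have hK : ¬ p ^ 2 ∣ Nat.card (⊤ : Subgroup G) := by rwa [Subgroup.card_top]
        have hf : Function.Surjective (Subgroup.topEquiv : (⊤ : Subgroup G) ≃* G).symm.toMonoidHom :=
          Subgroup.topEquiv.symm.surjective
        have h' := h ⊤ hK (P.mapSurjective hf)
        rw [Sylow.coe_mapSurjective] at h'
        have h'' := h'.comap (Subgroup.topEquiv : (⊤ : Subgroup G) ≃* G).symm.toMonoidHom
        rwa [Subgroup.comap_map_eq_self_of_injective Subgroup.topEquiv.symm.injective] at h''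
  · intro H hH Q
    have hlt : Nat.card H < N := by
      rw [← hN]
      exact lt_of_le_of_ne (Subgroup.card_le_card_group H)
        fun e => hH (Subgroup.eq_top_of_card_eq H e)
    refine ih _ hlt H rfl (MonoidHom.comp ρ H.subtype) (hρ.comp H.subtype_injective) ?_ Q
    refine h.imp id fun ⟨hn, h⟩ => ⟨hn, fun K hK R => ?_⟩
    let e : K ≃* K.map H.subtype := K.equivMapOfInjective H.subtype H.subtype_injective
    have hK' : ¬ p ^ 2 ∣ Nat.card (K.map H.subtype) := by
      rwa [Subgroup.card_map_of_injective H.subtype_injective]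
    have h' := h _ hK' (R.mapSurjective (f := e.toMonoidHom) e.surjective)
    have h'' : (((R : Subgroup K).map e.toMonoidHom).comap e.toMonoidHom).Normal :=
      h'.comap e.toMonoidHom
    rwa [Subgroup.comap_map_eq_self_of_injective e.injective] at h''

/-- Let G be a finite group with a faithful complex representation of degree n (on Fin n → ℂ) and p a prime. Suppose either that (n + 1) ^ 2 ≤ p, or that n + 1 < p and every subgroup of G whose order is not divisible by p ^ 2 has a normal Sylow p-subgroup. Then every Sylow p-subgroup of G is normal. -/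
theorem result {G : Type*} [Group G] [Finite G] (n : ℕ) (ρ : Representation ℂ G (Fin n → ℂ)) (hρ : Function.Injective ρ) (p : ℕ) [Fact p.Prime] (h : (n + 1) ^ 2 ≤ p ∨ (n + 1 < p ∧ ∀ K : Subgroup G, ¬ p ^ 2 ∣ Nat.card K → ∀ Q : Sylow p K, (Q : Subgroup K).Normal)) (P : Sylow p G) : (P : Subgroup G).Normal := by
  exact aux n (Nat.card G) G rfl ρ hρ h P

end Cfsg.Agent.S0899
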