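import Cfsg.Statements.S0801
import Cfsg.Agent.Lib.Classical.DicksonPair

set_option autoImplicit false
open Cfsg

namespace Cfsg.Agent.S0801

/-- Let F be a finite field of odd characteristic and λ ≠ 0 an element generating F as a field. Then the lower and upper unitriangular matrices with off-diagonal entries 1 and λ generate SL_2(F), unless |F| = 9 and λ² = −1, in which case they generate a subgroup of order 120. -/
theorem result {F : Type*} [Field F] [Fintype F] (h2 : (2 : F) ≠ 0) (lam : F) (hlam : lam ≠ 0) (hgen : Subfield.closure ({lam} : Set F) = ⊤) : (Subgroup.closure {g : Matrix.SpecialLinearGroup (Fin 2) F | (g : Matrix (Fin 2) (Fin 2) F) = !![1, 0; 1, 1] ∨ (g : Matrix (Fin 2) (Fin 2) F) = !![1, lam; 0, 1]} = ⊤ ∧ ¬ (Fintype.card F = 9 ∧ lam ^ 2 = -1)) ∨ (Fintype.card F = 9 ∧ lam ^ 2 = -1 ∧ Nat.card ↥(Subgroup.closure {g : Matrix.SpecialLinearGroup (Fin 2) F | (g : Matrix (Fin 2) (Fin 2) F) = !![1, 0; 1, 1] ∨ (g : Matrix (Fin 2) (Fin 2) F) = !![1, lam; 0, 1]}) = 120) := by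
  classical
  obtain ⟨p, hp⟩ := CharP.exists F
  obtain ⟨n, hpp, hn⟩ := FiniteField.card F p
  haveI := Fact.mk hpp
  have hp2 : p ≠ 2 := by
    rintro rfl
    exact h2 (by exact_mod_cast CharP.cast_eq_zero F 2)
  set pr := (PSL2Inv.pr : Matrix.SpecialLinearGroup (Fin 2) F →* Matrix.ProjectiveSpecialLinearGroup (Fin 2) F)
  set G := Subgroup.closure {g : Matrix.SpecialLinearGroup (Fin 2) F | (g : Matrix (Fin 2) (Fin 2) F) = !![1, 0; 1, 1] ∨ (g : Matrix (Fin 2) (Fin 2) F) = !![1, lam; 0, 1]}
  have hu : PStable.low 1 ∈ G := Subgroup.subset_closure (Or.inl rfl)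
  have hv : PStable.upp lam ∈ G := Subgroup.subset_closure (Or.inr rfl)
  have hz : Nat.card (Subgroup.center (Matrix.SpecialLinearGroup (Fin 2) F)) = 2 := by
    rw [Dickson.card_center]
    refine Nat.gcd_eq_left ?_
    have : Nat.card F % 2 = 1 := by
      rw [Nat.card_eq_fintype_card, hn, Nat.pow_mod, (hpp.eq_two_or_odd).resolve_left hp2, one_pow]
      norm_num
    omega
  rcases Dickson.pair_cases p hp2 hlam hgen (G := G.map pr) (Subgroup.mem_map_of_mem pr hu)
    (Subgroup.mem_map_of_mem pr hv) with h | ⟨rfl, h9, hl, ⟨e⟩⟩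
  · have htop : G = ⊤ := by
      have hsq : ∀ x : Matrix.SpecialLinearGroup (Fin 2) F, x ^ 2 ∈ G := by
        intro x
        obtain ⟨g, hg, hgx⟩ : pr x ∈ G.map pr := h ▸ Subgroup.mem_top _
        rcases PSL2Inv.pr_eq_iff.1 hgx with h' | h'
        · rw [h']; exact pow_mem hg 2
        · rw [h', pow_two, mul_assoc, ← mul_assoc g SL2Inv.negOne, ← SL2Inv.negOne_comm g, ← mul_assoc,
            ← mul_assoc, SL2Inv.negOne_mul_self, one_mul]
          exact mul_mem hg hg
      refine eq_top_iff.2 ?_
      rw [← ClassicalSL.closure_elemTransvections, Subgroup.closure_le]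
      rintro x ⟨i, j, hij, c, rfl⟩
      set t := Matrix.SpecialLinearGroup.transvection hij c
      have hpow : ∀ m : ℕ, t ^ m = Matrix.SpecialLinearGroup.transvection hij (m * c) := by
        intro m
        induction m with
        | zero => simp [Matrix.SpecialLinearGroup.transvection_coeff_zero]
        | succ m ih =>
          rw [pow_succ, ih, ← Matrix.SpecialLinearGroup.transvection_add, Nat.cast_succ, add_mul, one_mul]
      have hp' : t ^ p = 1 := by
        rw [hpow, CharP.cast_eq_zero, zero_mul, Matrix.SpecialLinearGroup.transvection_coeff_zero]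
      obtain ⟨m, hm⟩ : ∃ m, 2 * m = p + 1 := ⟨(p + 1) / 2, by
        have := hpp.eq_two_or_odd.resolve_left hp2
        omega⟩
      have ht : t = (t ^ 2) ^ m := by rw [← pow_mul, hm, pow_succ, hp', one_mul]
      rw [SetLike.mem_coe, ht]
      exact pow_mem (hsq t) m
    refine Or.inl ⟨htop, fun ⟨h9, hl⟩ => ?_⟩
    have hp3 : p = 3 := by
      rw [h9] at hn
      have h' : p ∣ 3 ^ 2 := by rw [show (3 : ℕ) ^ 2 = 9 by norm_num, hn]; exact dvd_pow_self p n.ne_zero
      exact (Nat.prime_dvd_prime_iff_eq hpp Nat.prime_three).1 (hpp.dvd_of_dvd_pow h')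
    subst hp3
    have hle := Dickson.TwoTrans.card_le (lam := lam) hl
    change Nat.card G ≤ 120 at hle
    rw [htop, Subgroup.card_top, Dickson.card_sl2_eq, Nat.card_eq_fintype_card, h9] at hle
    norm_num at hle
  · refine Or.inr ⟨by rw [← Nat.card_eq_fintype_card, h9], hl, ?_⟩
    haveI : Fact (Nat.Prime 2) := ⟨Nat.prime_two⟩
    have hc : Nat.card (G.map pr) = 60 := by rw [Nat.card_congr e.toEquiv, Dickson.card_a5]
    obtain ⟨⟨y, g, hg, hgy⟩, hy⟩ := exists_prime_orderOf_dvd_card' (G := G.map pr) 2 (by rw [hc]; norm_num)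
    rw [← Subgroup.orderOf_coe] at hy
    have hy2 : pr (g * g) = 1 := by
      rw [map_mul, hgy, ← pow_two]
      have h5 := pow_orderOf_eq_one y
      rwa [show orderOf y = 2 from hy] at h5
    have hneg : SL2Inv.negOne ∈ G := by
      rcases PSL2Inv.pr_eq_one_iff.1 hy2 with h | h
      · exfalso
        have h1 : y = 1 := by
          rw [← hgy]
          exact PSL2Inv.pr_eq_one_iff.2 (SL2Inv.eq_or_eq_negOne_of_mul_self h2 h)
        change orderOf y = 2 at hy
        rw [h1, orderOf_one] at hy
        norm_num at hy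
      · exact h ▸ mul_mem hg hg
    have hsat : Dickson.Saturated G := fun x hx => by
      rcases hx.eq_or_eq with h | h
      · rw [show x = 1 from Subtype.ext h]; exact one_mem _
      · rw [show x = SL2Inv.negOne from Subtype.ext h]; exact hneg
    show Nat.card G = 120
    rw [Dickson.card_map hsat, hz]
    change 2 * Nat.card (G.map pr) = 120
    rw [hc]

end Cfsg.Agent.S0801
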