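import Cfsg.Statements.S0986
import Cfsg.Agent.Lib.LocalEven.SylowAux

set_option autoImplicit false
open Cfsg

namespace Cfsg.Agent.S0986

/-- Let P and Q be distinct Sylow p-subgroups of a finite group G chosen so that the order of P ∩ Q is as large as possible among intersections of two distinct Sylow p-subgroups, and let N be the normalizer of P ∩ Q. Then N has more than one Sylow p-subgroup, any two distinct Sylow p-subgroups of N intersect exactly in P ∩ Q, and each Sylow p-subgroup of N lies in exactly one Sylow p-subgroup of G. -/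
theorem result {G : Type*} [Group G] [Finite G] (p : ℕ) [Fact p.Prime] (P Q : Sylow p G) (hPQ : P ≠ Q) (hmax : ∀ P' Q' : Sylow p G, P' ≠ Q' → Nat.card ↥((P' : Subgroup G) ⊓ (Q' : Subgroup G)) ≤ Nat.card ↥((P : Subgroup G) ⊓ (Q : Subgroup G))) : 1 < Nat.card (Sylow p ↥(Subgroup.normalizer (((P : Subgroup G) ⊓ (Q : Subgroup G) : Subgroup G) : Set G))) ∧ (∀ S T : Sylow p ↥(Subgroup.normalizer (((P : Subgroup G) ⊓ (Q : Subgroup G) : Subgroup G) : Set G)), S ≠ T → (S : Subgroup _) ⊓ (T : Subgroup _) = ((P : Subgroup G) ⊓ (Q : Subgroup G)).subgroupOf (Subgroup.normalizer (((P : Subgroup G) ⊓ (Q : Subgroup G) : Subgroup G) : Set G))) ∧ ∀ S : Sylow p ↥(Subgroup.normalizer (((P : Subgroup G) ⊓ (Q : Subgroup G) : Subgroup G) : Set G)), ∃! T : Sylow p G, (S : Subgroup _).map (Subgroup.normalizer (((P : Subgroup G) ⊓ (Q : Subgroup G) : Subgroup G) : Set G)).subtype ≤ (T : Subgroup G) := by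
  set D := (P : Subgroup G) ⊓ (Q : Subgroup G) with hD
  set N := Subgroup.normalizer (D : Set G) with hN
  have hstrict : ∀ R : Sylow p G, D ≤ (R : Subgroup G) → D ≠ (R : Subgroup G) →
      D < (R : Subgroup G) ⊓ N := by
    intro R hle hne
    refine lt_of_le_of_ne (le_inf hle Subgroup.le_normalizer) fun he => hne ?_
    exact Cfsg.Agent.LESylow.eq_of_normalizer_inf_le R.isPGroup' hle he.ge
  have hne : ∀ R R' : Sylow p G, D ≤ (R : Subgroup G) → D ≤ (R' : Subgroup G) → R ≠ R' →
      (R : Subgroup G) ⊓ (R' : Subgroup G) = D := fun R R' h1 h2 h =>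
    (Subgroup.eq_of_le_of_card_ge (le_inf h1 h2) (hmax R R' h)).symm
  have hDR : ∀ R : Sylow p G, D ≠ (R : Subgroup G) := by
    intro R he
    have hc := Nat.card_congr (Sylow.equiv P R).toEquiv
    have hle : (P : Subgroup G) ⊓ (Q : Subgroup G) = (P : Subgroup G) :=
      Subgroup.eq_of_le_of_card_ge inf_le_left (by rw [hc, ← he])
    exact hPQ (Sylow.ext (Subgroup.eq_of_le_of_card_ge (inf_eq_left.mp hle)
      (Nat.card_congr (Sylow.equiv P Q).toEquiv).ge))
  have hDS : ∀ S : Sylow p N, D ≤ (S : Subgroup N).map N.subtype := by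
    intro S d hd
    have hn : (D.subgroupOf N).Normal := Subgroup.normal_subgroupOf_of_le_normalizer le_rfl
    have hp : IsPGroup p ↥(D.subgroupOf N) := (P.isPGroup'.to_le (inf_le_left : D ≤ _)).comap_subtype
    exact ⟨⟨d, Subgroup.le_normalizer hd⟩,
      (@Cfsg.Agent.LEBasic.normal_le_sylow _ _ _ _ (D.subgroupOf N) hn hp S) hd, rfl⟩
  have hbig : ∀ S : Sylow p N, D ≠ (S : Subgroup N).map N.subtype := by
    intro S he
    obtain ⟨m, hm, hle⟩ := Cfsg.Agent.LESylow.exists_conj_le_of_le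
      (A := (P : Subgroup G) ⊓ N) inf_le_right (P.isPGroup'.to_le inf_le_left) S
    rw [← he] at hle
    have hc := Subgroup.card_le_of_le hle
    rw [Cfsg.Agent.LEBasic.card_map_conj] at hc
    have h1 := hstrict P inf_le_left (hDR P)
    exact h1.ne (Subgroup.eq_of_le_of_card_ge h1.le hc)
  have huniq : ∀ S : Sylow p N, ∀ T T' : Sylow p G, (S : Subgroup N).map N.subtype ≤ (T : Subgroup G) →
      (S : Subgroup N).map N.subtype ≤ (T' : Subgroup G) → T = T' := by
    intro S T T' h1 h2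
    by_contra h
    exact hbig S (le_antisymm (hDS S) (hne T T' ((hDS S).trans h1) ((hDS S).trans h2) h ▸ le_inf h1 h2))
  have hexu : ∀ S : Sylow p N, ∃! T : Sylow p G, (S : Subgroup N).map N.subtype ≤ (T : Subgroup G) := by
    intro S
    obtain ⟨T, hT⟩ := (S.isPGroup'.map N.subtype).exists_le_sylow
    exact ⟨T, hT, fun T' hT' => huniq S T' T hT' hT⟩
  refine ⟨?_, ?_, hexu⟩
  · haveI : Nonempty (Sylow p N) := inferInstance
    refine Finite.one_lt_card_iff_nontrivial.mpr ?_
    by_contra hc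
    rw [not_nontrivial_iff_subsingleton] at hc
    obtain ⟨SP, hSP⟩ := ((P.isPGroup'.to_le (inf_le_left : (P : Subgroup G) ⊓ N ≤ _)).comap_of_injective
      N.subtype N.subtype_injective).exists_le_sylow
    obtain ⟨SQ, hSQ⟩ := ((Q.isPGroup'.to_le (inf_le_left : (Q : Subgroup G) ⊓ N ≤ _)).comap_of_injective
      N.subtype N.subtype_injective).exists_le_sylow
    obtain ⟨T, hT, -⟩ := hexu SP
    have key : ∀ (R : Sylow p G) (SR : Sylow p N), D ≤ (R : Subgroup G) →
        ((R : Subgroup G) ⊓ N).subgroupOf N ≤ (SR : Subgroup N) → SR = SP → T = R := by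
      intro R SR hle hS he
      subst he
      by_contra h
      have h1 := hstrict R hle (hDR R)
      have hle2 : (R : Subgroup G) ⊓ N ≤ (T : Subgroup G) := fun x hx =>
        hT ⟨⟨x, hx.2⟩, hS hx, rfl⟩
      have h2 := hne T R ((hDS SR).trans hT) hle h
      exact h1.not_ge (h2 ▸ le_inf hle2 inf_le_left)
    exact hPQ ((key P SP inf_le_left hSP rfl).symm.trans (key Q SQ inf_le_right hSQ (hc.elim _ _)))
  · intro S S' hS
    obtain ⟨T, hT, -⟩ := hexu S
    obtain ⟨T', hT', -⟩ := hexu S'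
    have hTT : T ≠ T' := by
      rintro rfl
      have h1 : S = S' := by
        have hp : IsPGroup p ↥((T : Subgroup G).subgroupOf N) := T.isPGroup'.comap_subtype
        have e1 := S.is_maximal' hp (fun x hx => hT ⟨x, hx, rfl⟩)
        have e2 := S'.is_maximal' hp (fun x hx => hT' ⟨x, hx, rfl⟩)
        exact Sylow.ext (e1.symm.trans e2)
      exact hS h1
    ext x
    rw [Subgroup.mem_inf, Subgroup.mem_subgroupOf]
    constructor
    · rintro ⟨h1, h2⟩
      rw [← hne T T' ((hDS S).trans hT) ((hDS S').trans hT') hTT]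
      exact ⟨hT ⟨x, h1, rfl⟩, hT' ⟨x, h2, rfl⟩⟩
    · intro hx
      obtain ⟨a, ha, hax⟩ := hDS S hx
      obtain ⟨b, hb, hbx⟩ := hDS S' hx
      exact ⟨(Subtype.ext hax : a = x) ▸ ha, (Subtype.ext hbx : b = x) ▸ hb⟩

end Cfsg.Agent.S0986
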