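import Cfsg.Statements.S0848
import Cfsg.Agent.Lib.Involutions.CentralizerD8

set_option autoImplicit false
open Cfsg

namespace Cfsg.Agent.S0848



/-- If a finite group equals its own commutator subgroup and contains an involution whose centralizer is isomorphic to the dihedral group of order 8, then the group has order 168 or 360. -/
theorem result {G : Type*} [Group G] [Finite G] (hperf : commutator G = ⊤) (t : G) (ht : orderOf t = 2) (e : Subgroup.centralizer ({t} : Set G) ≃* DihedralGroup 4) : Nat.card G = 168 ∨ Nat.card G = 360 := by
  have hno : ∀ H : Subgroup G, H.index ≠ 2 := by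
    intro H hH
    haveI := Subgroup.normal_of_index_eq_two hH
    haveI : Fact (Nat.Prime 2) := ⟨Nat.prime_two⟩
    haveI : IsCyclic (G ⧸ H) := isCyclic_of_prime_card (p := 2) (by rw [← Subgroup.index]; exact hH)
    have h : commutator G ≤ H := by
      rw [← QuotientGroup.ker_mk' H]
      letI := IsCyclic.commGroup (α := G ⧸ H)
      exact Abelianization.commutator_subset_ker (QuotientGroup.mk' H)
    rw [hperf] at h
    rw [Subgroup.index_eq_one.2 (top_le_iff.1 h)] at hH
    omega
  haveI := Fintype.ofFinite G
  exact CentD8.card_eq (CentD8.Setup.of_centralizer t ht e hno)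

end Cfsg.Agent.S0848
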