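import Cfsg.Statements.S4002
import Mathlib
import Cfsg.Agent.Lib.Solvable.Hall
import Cfsg.Agent.Lib.Solvable.FixedPointFree

set_option autoImplicit false
set_option linter.style.haveILetI false

namespace Cfsg.Agent.S4002

open Cfsg.Agent

lemma exists_three_primes (n : ℕ) (hn : 7 ≤ n) :
    ∃ p q r : ℕ, p.Prime ∧ q.Prime ∧ r.Prime ∧ p < q ∧ q < r ∧ r ≤ n ∧ n < p * q := by
  rcases Nat.lt_or_ge n 32 with h | h
  · rcases Nat.lt_or_ge n 15 with h1 | h1
    · exact ⟨3, 5, 7, by norm_num, by norm_num, by norm_num, by norm_num, by norm_num, hn, by omega⟩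
    rcases Nat.lt_or_ge n 21 with h2 | h2
    · exact ⟨3, 7, 11, by norm_num, by norm_num, by norm_num, by norm_num, by norm_num, by omega, by omega⟩
    · exact ⟨5, 7, 13, by norm_num, by norm_num, by norm_num, by norm_num, by norm_num, by omega, by omega⟩
  · obtain ⟨k, hk⟩ : ∃ k, k = n / 8 := ⟨_, rfl⟩
    obtain ⟨p, hp, hp1, hp2⟩ := Nat.exists_prime_lt_and_le_two_mul k (by omega)
    obtain ⟨q, hq, hq1, hq2⟩ := Nat.exists_prime_lt_and_le_two_mul (2 * k) (by omega)
    obtain ⟨r, hr, hr1, hr2⟩ := Nat.exists_prime_lt_and_le_two_mul (4 * k) (by omega)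
    refine ⟨p, q, r, hp, hq, hr, by omega, by omega, by omega, ?_⟩
    have h3 : (k + 1) * (2 * k + 1) ≤ p * q := Nat.mul_le_mul (by omega) (by omega)
    have h4 : (k + 1) * 8 ≤ (k + 1) * (2 * k + 1) := Nat.mul_le_mul_left _ (by omega)
    omega

variable {G : Type*} [Group G] [Finite G]

/-- A solvable group whose order involves three primes has an element whose order is the product
of two of them. -/
theorem exists_product_order [Group.IsSolvable G] (S : Finset ℕ) (hS : ∀ s ∈ S, s.Prime)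
    (hcard : 3 ≤ S.card) (hdvd : ∀ s ∈ S, s ∣ Nat.card G)
    (hfac : ∀ r : ℕ, r.Prime → r ∣ Nat.card G → r ∈ S) :
    ∃ a ∈ S, ∃ b ∈ S, a ≠ b ∧ ∃ g : G, orderOf g = a * b := by
  by_contra hcon
  push Not at hcon
  haveI : Nontrivial G := by
    obtain ⟨s, hs⟩ := Finset.card_pos.1 (by omega : 0 < S.card)
    exact Finite.one_lt_card_iff_nontrivial.1
      (lt_of_lt_of_le (hS s hs).one_lt (Nat.le_of_dvd Nat.card_pos (hdvd s hs)))
  obtain ⟨N, s, hs, hNn, hN, -, hNab, hNexp, hNp, -⟩ :=
    SolvBasic.exists_minimal_normal_abelian (G := G) (N := ⊤) inferInstance top_ne_bot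
  haveI := Fact.mk hs
  have hsS : s ∈ S := by
    refine hfac s hs (dvd_trans ?_ (Subgroup.card_subgroup_dvd_card N))
    obtain ⟨k, hk⟩ := IsPGroup.iff_card.1 hNp
    have hk0 : k ≠ 0 := fun h => hN (Subgroup.card_eq_one.1 (by rw [hk, h, pow_zero]))
    rw [hk]; exact dvd_pow_self s hk0
  obtain ⟨K, hK⟩ := HallSolv.exists_hall (G := G) (m := Nat.card G / s ^ (Nat.card G).factorization s)
    (n := s ^ (Nat.card G).factorization s)
    (Nat.div_mul_cancel (Nat.ordProj_dvd _ _)).symm
    (Nat.Coprime.pow_right _ (Nat.coprime_ordCompl hs Nat.card_pos.ne').symm)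
  have hsK : ¬ s ∣ Nat.card K := by
    rw [hK]; exact Nat.not_dvd_ordCompl hs Nat.card_pos.ne'
  have hfpf : ∀ a ∈ K, a ≠ 1 → N ⊓ Subgroup.centralizer {a} = ⊥ := by
    intro a ha ha1
    rw [eq_bot_iff]
    rintro v ⟨hvN, hvC⟩
    rw [Subgroup.mem_bot]
    by_contra hv1
    obtain ⟨t, ht, htd⟩ := Nat.exists_prime_and_dvd (n := orderOf a)
      (fun h => ha1 (orderOf_eq_one_iff.1 h))
    have hts : t ≠ s := fun h => hsK (h ▸ htd.trans (Subgroup.orderOf_dvd_natCard (s := K) ha))
    have hvo : orderOf v = s := orderOf_eq_prime (hNexp v hvN) hv1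
    obtain ⟨e, he⟩ := htd
    have hpos : 0 < orderOf a := orderOf_pos a
    have he0 : e ≠ 0 := by rintro rfl; omega
    have hao : orderOf (a ^ e) = t := by
      rw [orderOf_pow_of_dvd he0 (he ▸ dvd_mul_left e t), he, Nat.mul_div_cancel _ (Nat.pos_of_ne_zero he0)]
    have hc : Commute v (a ^ e) := (show Commute v a from Subgroup.mem_centralizer_singleton_iff.1 hvC).pow_right e
    refine hcon s hsS t (hfac t ht ((dvd_of_eq hao.symm).trans (orderOf_dvd_natCard _))) (Ne.symm hts) (v * a ^ e) ?_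
    rw [hc.orderOf_mul_eq_mul_orderOf_of_coprime (by rw [hvo, hao]; exact (Nat.coprime_primes hs ht).2 (Ne.symm hts)),
      hvo, hao]
  have hother : ∀ t ∈ S, t ≠ s → t ∣ Nat.card K := by
    intro t ht hts
    have h1 := hdvd t ht
    rw [← Nat.div_mul_cancel (Nat.ordProj_dvd (Nat.card G) s), ← hK] at h1
    exact ((hS t ht).dvd_mul.1 h1).resolve_right fun h =>
      hts ((Nat.prime_dvd_prime_iff_eq (hS t ht) hs).1 ((hS t ht).dvd_of_dvd_pow h))
  haveI : Group.IsSolvable K := inferInstance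
  haveI : Nontrivial K := by
    obtain ⟨t, ht⟩ := (Finset.card_pos.1 (show 0 < (S.erase s).card by
      rw [Finset.card_erase_of_mem hsS]; omega))
    rw [Finset.mem_erase] at ht
    exact Finite.one_lt_card_iff_nontrivial.1
      (lt_of_lt_of_le (hS t ht.2).one_lt (Nat.le_of_dvd Nat.card_pos (hother t ht.2 ht.1)))
  obtain ⟨M₀, t, ht, hMn, hM, -, hMab, hMexp, hMp, -⟩ :=
    SolvBasic.exists_minimal_normal_abelian (G := K) (N := ⊤) inferInstance top_ne_bot
  haveI := Fact.mk ht
  haveI := hMab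
  haveI := hNab
  haveI := hNn
  set M := M₀.map K.subtype
  haveI : IsMulCommutative M := Subgroup.map_isMulCommutative M₀ K.subtype
  have hMK : M ≤ K := Subgroup.map_subtype_le M₀
  haveI : IsCyclic M := FpfStruct.abelian_cyclic hN Subgroup.le_normalizer_of_normal
    fun a ha => hfpf a (hMK ha)
  have hMc : Nat.card M = t := by
    obtain ⟨g, hg⟩ := IsCyclic.exists_generator (α := M)
    rw [← orderOf_eq_card_of_forall_mem_zpowers hg]
    refine orderOf_eq_prime (Subtype.ext ?_) fun h => hM ?_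
    · obtain ⟨g₀, hg₀, hge⟩ := g.2
      rw [SubmonoidClass.coe_pow, ← hge, ← map_pow, hMexp g₀ hg₀, map_one]; rfl
    · apply Subgroup.map_injective K.subtype_injective
      rw [Subgroup.map_bot, eq_bot_iff]
      intro x hx
      obtain ⟨i, hi⟩ := hg ⟨x, hx⟩
      rw [h] at hi
      simp only [one_zpow] at hi
      exact Subgroup.mem_bot.2 (congrArg Subtype.val hi).symm
  obtain ⟨u, huS, hus, hut⟩ : ∃ u ∈ S, u ≠ s ∧ u ≠ t := by
    by_contra h
    push Not at h
    have : S ⊆ {s, t} := fun u hu => by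
      rw [Finset.mem_insert, Finset.mem_singleton]
      exact (em (u = s)).imp_right (h u hu)
    have := (Finset.card_le_card this).trans Finset.card_le_two
    omega
  haveI := Fact.mk (hS u huS)
  obtain ⟨y, hy⟩ := exists_prime_orderOf_dvd_card' u (hother u huS hus)
  have hyo : orderOf (y : G) = u := (Subgroup.orderOf_coe y).trans hy
  have hyM : Subgroup.zpowers (y : G) ≤ Subgroup.normalizer (M : Set G) := by
    rw [Subgroup.zpowers_le, Subgroup.mem_normalizer_iff]
    intro x
    constructor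
    · rintro ⟨m, hm, rfl⟩
      exact ⟨y * m * y⁻¹, hMn.conj_mem m hm y, rfl⟩
    · rintro ⟨m, hm, hme⟩
      refine ⟨y⁻¹ * m * y, by simpa using hMn.conj_mem m hm y⁻¹, ?_⟩
      rw [map_mul, map_mul, map_inv, hme]
      show (y : G)⁻¹ * ((y : G) * x * (y : G)⁻¹) * (y : G) = x
      group
  have hbot : Subgroup.zpowers (y : G) ⊓ M = ⊥ := disjoint_iff.1 (Subgroup.disjoint_of_coprime_natCard (by
    rw [Nat.card_zpowers, hyo, hMc]; exact (Nat.coprime_primes (hS u huS) ht).2 hut))
  set A := M ⊔ Subgroup.zpowers (y : G)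
  have hA : Nat.card A = t * u := by
    have := SolvBasic.card_sup_of_inf_eq_bot hyM ((inf_comm _ _).trans hbot)
    rw [Nat.card_zpowers, hyo, hMc] at this
    rw [this]
  have hAK : A ≤ K := sup_le hMK (Subgroup.zpowers_le.2 y.2)
  haveI := FpfStruct.pq_cyclic hN Subgroup.le_normalizer_of_normal (fun a ha => hfpf a (hAK ha))
    ht (hS u huS) hA
  obtain ⟨g, hg⟩ := IsCyclic.exists_generator (α := A)
  refine hcon t (hfac t ht ?_) u huS (Ne.symm hut) (g : G) ?_
  · rw [← hMc]; exact Subgroup.card_subgroup_dvd_card M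
  · rw [Subgroup.orderOf_coe, orderOf_eq_card_of_forall_mem_zpowers hg, hA]

end Cfsg.Agent.S4002


set_option autoImplicit false
open Cfsg

namespace Cfsg.Agent.S4002

/-- If the set of element orders of a finite group G is {1, 2, …, n} with n ≥ 7, then G is not solvable. -/
theorem result {G : Type*} [Group G] [Finite G] (n : ℕ) (hn : 7 ≤ n) (h : Set.range (orderOf : G → ℕ) = {k : ℕ | 1 ≤ k ∧ k ≤ n}) : ¬ Group.IsSolvable G := by
  intro hsol
  classical
  obtain ⟨p, q, r, hp, hq, hr, hpq, hqr, hrn, hnpq⟩ := S4002.exists_three_primes n hn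
  have hel : ∀ k, 1 ≤ k → k ≤ n → k ∣ Nat.card G := fun k h1 h2 => by
    obtain ⟨g, hg⟩ : k ∈ Set.range (orderOf : G → ℕ) := by rw [h]; exact ⟨h1, h2⟩
    exact hg ▸ orderOf_dvd_natCard g
  set S : Finset ℕ := {p, q, r} with hS
  set N := Nat.card G
  set m := ∏ s ∈ S, s ^ N.factorization s with hm
  have hSp : ∀ s ∈ S, s.Prime := by
    intro s hs; simp only [hS, Finset.mem_insert, Finset.mem_singleton] at hs
    rcases hs with rfl | rfl | rfl <;> assumption
  have hSn : ∀ s ∈ S, s ≤ n := by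
    intro s hs; simp only [hS, Finset.mem_insert, Finset.mem_singleton] at hs
    rcases hs with rfl | rfl | rfl <;> omega
  have hSN : ∀ s ∈ S, s ∣ N := fun s hs => hel s (hSp s hs).one_lt.le (hSn s hs)
  have hsub : S ⊆ N.primeFactors := fun s hs =>
    Nat.mem_primeFactors.2 ⟨hSp s hs, hSN s hs, Nat.card_pos.ne'⟩
  have hN : N = m * ∏ s ∈ N.primeFactors \ S, s ^ N.factorization s := by
    rw [hm, mul_comm, Finset.prod_sdiff hsub]
    exact Nat.prod_primeFactors_pow_factorization Nat.card_pos.ne'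
  obtain ⟨K, hK⟩ := HallSolv.exists_hall (G := G) (m := m) hN (by
    refine Nat.Coprime.prod_left fun a ha => Nat.Coprime.prod_right fun b hb => ?_
    refine Nat.Coprime.pow _ _ ((Nat.coprime_primes (hSp a ha) (Nat.prime_of_mem_primeFactors (Finset.mem_sdiff.1 hb).1)).2 ?_)
    exact fun e => (Finset.mem_sdiff.1 hb).2 (e ▸ ha))
  obtain ⟨a, ha, b, hb, hab, g, hg⟩ := S4002.exists_product_order (G := K) S hSp
    (by rw [hS, Finset.card_insert_of_notMem (by simp; omega), Finset.card_pair hqr.ne])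
    (fun s hs => by
      rw [hK, hm]
      exact (dvd_pow_self s ((hSp s hs).factorization_pos_of_dvd Nat.card_pos.ne' (hSN s hs)).ne').trans
        (Finset.dvd_prod_of_mem _ hs))
    (fun s hs hsd => by
      rw [hK, hm] at hsd
      obtain ⟨i, hi, hsi⟩ := hs.prime.exists_mem_finset_dvd hsd
      rwa [(Nat.prime_dvd_prime_iff_eq hs (hSp i hi)).1 (hs.dvd_of_dvd_pow hsi)])
  have hle : a * b ≤ n := by
    have : a * b ∈ Set.range (orderOf : G → ℕ) := ⟨(g : G), by rw [Subgroup.orderOf_coe, hg]⟩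
    rw [h] at this
    exact this.2
  simp only [hS, Finset.mem_insert, Finset.mem_singleton] at ha hb
  have h1 : p * q ≤ a * b := by
    have hbig : p * q ≤ p * r := Nat.mul_le_mul_left p hqr.le
    have hbig2 : p * q ≤ q * r := Nat.mul_le_mul hpq.le hqr.le
    rcases ha with e1 | e1 | e1 <;> rcases hb with e2 | e2 | e2 <;>
      first
        | exact absurd (e1.trans e2.symm) hab
        | (rw [e1, e2] <;> nlinarith [hbig, hbig2])
  omega

end Cfsg.Agent.S4002
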