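import Cfsg.Statements.S3992
import Mathlib
import Cfsg.Agent.Lib.Solvable.FixedPointFree
import Cfsg.Agent.S4002

set_option autoImplicit false
set_option linter.style.haveILetI false

namespace Cfsg.Agent.S3992

open Cfsg.Agent

variable {G : Type*} [Group G] [Finite G]

lemma no_coprime_commute (hpp : ∀ g : G, g ≠ 1 → IsPrimePow (orderOf g)) {p q : ℕ} (hp : p.Prime)
    (hq : q.Prime) (hpq : p ≠ q) {x y : G} (hx : orderOf x = p) (hy : orderOf y = q)
    (hc : Commute x y) : False := by
  have ho : orderOf (x * y) = p * q := by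
    rw [hc.orderOf_mul_eq_mul_orderOf_of_coprime (by rw [hx, hy]; exact (Nat.coprime_primes hp hq).2 hpq), hx, hy]
  obtain ⟨r, k, hr, -, hrk⟩ := (isPrimePow_nat_iff _).1 (hpp (x * y) fun h => by
    rw [h, orderOf_one] at ho
    exact hp.ne_one (Nat.eq_one_of_mul_eq_one_right ho.symm))
  rw [ho] at hrk
  have h1 := (Nat.prime_dvd_prime_iff_eq hp hr).1 (hp.dvd_of_dvd_pow (hrk ▸ dvd_mul_right p q))
  have h2 := (Nat.prime_dvd_prime_iff_eq hq hr).1 (hq.dvd_of_dvd_pow (hrk ▸ dvd_mul_left q p))
  exact hpq (h1.trans h2.symm)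

lemma exists_order_in {H : Subgroup G} {p : ℕ} [Fact p.Prime] (h : ¬ IsPGroup p H) :
    ∃ q : ℕ, q.Prime ∧ q ≠ p ∧ q ∣ Nat.card H ∧ ∃ x ∈ H, orderOf x = q := by
  by_contra hcon
  push Not at hcon
  refine h (IsPGroup.of_card (Nat.eq_prime_pow_of_unique_prime_dvd Nat.card_pos.ne' fun {q} hq hqd => ?_))
  by_contra hne
  haveI := Fact.mk hq
  obtain ⟨x, hx⟩ := exists_prime_orderOf_dvd_card' q hqd
  exact hcon q hq hne hqd x x.2 ((Subgroup.orderOf_coe x).trans hx)

/-- Two non-solvable subgroups do not commute elementwise. -/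
lemma not_commute (hpp : ∀ g : G, g ≠ 1 → IsPrimePow (orderOf g)) {A B : Subgroup G}
    (hA : A ≠ ⊥) (hB : ¬ Group.IsSolvable B) (hc : ∀ a ∈ A, ∀ b ∈ B, a * b = b * a) : False := by
  obtain ⟨p, hp, hpd⟩ := Nat.exists_prime_and_dvd (n := Nat.card A)
    (fun h => hA (Subgroup.card_eq_one.1 h))
  haveI := Fact.mk hp
  obtain ⟨x, hx⟩ := exists_prime_orderOf_dvd_card' p hpd
  obtain ⟨q, hq, hqp, -, y, hy, hyo⟩ := exists_order_in (H := B) (p := p) (fun hBp => hB (by
    haveI := hBp.isNilpotent; infer_instance))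
  exact no_coprime_commute hpp hp hq (Ne.symm hqp) ((Subgroup.orderOf_coe x).trans hx) hyo
    (hc x x.2 y hy)

lemma radical_isPGroup (hns : ¬ Group.IsSolvable G) (hpp : ∀ g : G, g ≠ 1 → IsPrimePow (orderOf g))
    (R : Subgroup G) [hRn : R.Normal] [Group.IsSolvable R] : ∃ p : ℕ, p.Prime ∧ IsPGroup p R := by
  classical
  by_cases hR : R = ⊥
  · exact ⟨2, Nat.prime_two, hR ▸ IsPGroup.of_bot⟩
  obtain ⟨V, p, hp, hVn, hV, hVR, hVab, hVexp, hVp, -⟩ :=
    SolvBasic.exists_minimal_normal_abelian (G := G) hRn hR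
  haveI := Fact.mk hp
  haveI := hVn
  haveI := hVab
  refine ⟨p, hp, by_contra fun hRp => ?_⟩
  obtain ⟨q, hq, hqp, hqd, -⟩ := exists_order_in hRp
  haveI := Fact.mk hq
  obtain ⟨Q⟩ := (inferInstance : Nonempty (Sylow q R))
  set Q' := (Q : Subgroup R).map R.subtype with hQ'
  have hQ'q : IsPGroup q Q' := Q.isPGroup'.map _
  have hfpf : ∀ a ∈ Q', a ≠ 1 → V ⊓ Subgroup.centralizer {a} = ⊥ := by
    intro a ha ha1
    rw [eq_bot_iff]
    rintro v ⟨hv, hvc⟩
    rw [Subgroup.mem_bot]
    by_contra hv1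
    obtain ⟨k, hk⟩ := IsPGroup.iff_orderOf.1 hQ'q ⟨a, ha⟩
    rw [Subgroup.orderOf_mk] at hk
    rcases k with _ | k
    · exact ha1 (orderOf_eq_one_iff.1 (by rw [hk, pow_zero]))
    have hao : orderOf (a ^ q ^ k) = q := by
      rw [orderOf_pow_of_dvd (pow_ne_zero _ hq.ne_zero) (hk ▸ pow_dvd_pow q k.le_succ), hk,
        pow_succ, Nat.mul_div_cancel_left _ (pow_pos hq.pos _)]
    exact no_coprime_commute hpp hp hq (Ne.symm hqp) (orderOf_eq_prime (hVexp v hv) hv1) hao
      ((show Commute v a from Subgroup.mem_centralizer_singleton_iff.1 hvc).pow_right _)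
  haveI : Nontrivial (Q : Subgroup R) := Finite.one_lt_card_iff_nontrivial.1
    (lt_of_lt_of_le hq.one_lt (Nat.le_of_dvd Nat.card_pos (Q.dvd_card_of_dvd_card hqd)))
  haveI := Q.isPGroup'.center_nontrivial
  set Z := (Subgroup.center (Q : Subgroup R)).map ((R.subtype).comp (Q : Subgroup R).subtype) with hZ
  have hinj : Function.Injective ((R.subtype).comp (Q : Subgroup R).subtype) :=
    R.subtype_injective.comp (Q : Subgroup R).subtype_injective
  have hZQ : Z ≤ Q' := by
    rintro _ ⟨z, -, rfl⟩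
    exact ⟨(z : R), z.2, rfl⟩
  haveI : IsMulCommutative Z := Subgroup.map_isMulCommutative _ _
  haveI hZc : IsCyclic Z := FpfStruct.abelian_cyclic hV Subgroup.le_normalizer_of_normal
    fun a ha => hfpf a (hZQ ha)
  have hZb : 1 < Nat.card Z := by
    rw [hZ, Subgroup.card_map_of_injective hinj]; exact Finite.one_lt_card
  have hNle : Subgroup.normalizer (Q' : Set G) ≤ Subgroup.normalizer (Z : Set G) := by
    have key : ∀ g ∈ Subgroup.normalizer (Q' : Set G), ∀ z ∈ Z, g * z * g⁻¹ ∈ Z := by
      intro g hg z hz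
      obtain ⟨w, hw, rfl⟩ := hz
      obtain ⟨w', hw', hwe⟩ := (Subgroup.mem_normalizer_iff.1 hg _).1 (hZQ ⟨w, hw, rfl⟩)
      refine ⟨⟨w', hw'⟩, Subgroup.mem_center_iff.2 fun u => hinj ?_, hwe⟩
      rw [map_mul, map_mul]
      have h1 : g⁻¹ * ((u : R) : G) * g ∈ Q' := by
        simpa using (Subgroup.mem_normalizer_iff.1 (inv_mem hg) ((u : R) : G)).1 ⟨u, u.2, rfl⟩
      obtain ⟨u', hu', hue⟩ := h1
      have h2 : (u' : G) * ((w : R) : G) = ((w : R) : G) * (u' : G) :=
        congrArg (fun t : (Q : Subgroup R) => ((t : R) : G)) (Subgroup.mem_center_iff.1 hw ⟨u', hu'⟩)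
      rw [show (u' : G) = g⁻¹ * ((u : R) : G) * g from hue] at h2
      show ((u : R) : G) * (w' : G) = (w' : G) * ((u : R) : G)
      rw [show (w' : G) = g * ((w : R) : G) * g⁻¹ from hwe]
      calc ((u : R) : G) * (g * ((w : R) : G) * g⁻¹) = g * (g⁻¹ * ((u : R) : G) * g * ((w : R) : G)) * g⁻¹ := by group
        _ = g * (((w : R) : G) * (g⁻¹ * ((u : R) : G) * g)) * g⁻¹ := by rw [h2]
        _ = g * ((w : R) : G) * g⁻¹ * ((u : R) : G) := by group
    intro g hg
    rw [Subgroup.mem_normalizer_iff]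
    intro z
    refine ⟨key g hg z, fun h => ?_⟩
    simpa [mul_assoc] using key g⁻¹ (inv_mem hg) _ h
  have hC : IsPGroup q (Subgroup.centralizer (Z : Set G)) := by
    by_contra hCq
    obtain ⟨r, hr, hrq, -, x, hx, hxo⟩ := exists_order_in hCq
    obtain ⟨k, hk⟩ := IsPGroup.iff_card.1 (hQ'q.to_le hZQ)
    obtain ⟨z, hz⟩ := exists_prime_orderOf_dvd_card' (G := Z) q (by
      rw [hk]; exact dvd_pow_self q (by rintro rfl; rw [hk, pow_zero] at hZb; exact hZb.false))
    exact no_coprime_commute hpp hr hq hrq hxo ((Subgroup.orderOf_coe z).trans hz)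
      (Subgroup.mem_centralizer_iff.1 hx z z.2).symm
  haveI := hC.isNilpotent
  have hNZ : Group.IsSolvable (Subgroup.normalizer (Z : Set G)) := by
    have hcomm : ∀ a b : MulAut Z, a * b = b * a := fun a b => (IsCyclic.mulAutMulEquiv Z).injective
      (by rw [map_mul, map_mul, mul_comm])
    haveI : Group.IsSolvable (MulAut Z) := Group.isSolvable_of_comm hcomm
    refine Group.isSolvable_of_ker_le_range
      (Subgroup.inclusion (Subgroup.centralizer_le_normalizer (Z : Set G))) Z.normalizerMonoidHom ?_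
    rw [Subgroup.normalizerMonoidHom_ker]
    intro x hx
    exact ⟨⟨x, hx⟩, Subtype.ext rfl⟩
  haveI := hNZ
  haveI : Group.IsSolvable (Subgroup.normalizer (Q' : Set G)) :=
    Group.isSolvable_of_isSolvable_injective (Subgroup.inclusion_injective hNle)
  haveI : Group.IsSolvable (G ⧸ R) := by
    refine Group.isSolvable_of_surjective
      (f := (QuotientGroup.mk' R).comp (Subgroup.normalizer (Q' : Set G)).subtype) ?_
    intro y
    obtain ⟨g, rfl⟩ := QuotientGroup.mk'_surjective R y
    have hg : g ∈ Subgroup.normalizer (Q' : Set G) ⊔ R :=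
      (Sylow.normalizer_sup_eq_top Q).ge (Subgroup.mem_top g)
    obtain ⟨a, ha, b, hb, rfl⟩ := Subgroup.mem_sup_of_normal_right.1 hg
    refine ⟨⟨a, ha⟩, ?_⟩
    show QuotientGroup.mk' R a = QuotientGroup.mk' R (a * b)
    rw [map_mul, show QuotientGroup.mk' R b = 1 from (QuotientGroup.eq_one_iff b).2 hb, mul_one]
  exact hns (Group.isSolvable_of_ker_le_range R.subtype (QuotientGroup.mk' R)
    (by rw [QuotientGroup.ker_mk', Subgroup.range_subtype]))

lemma exists_simple_socle [Nontrivial G] (hpp : ∀ g : G, g ≠ 1 → IsPrimePow (orderOf g))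
    (hrad : ∀ N : Subgroup G, N.Normal → Group.IsSolvable N → N = ⊥) :
    ∃ M : Subgroup G, M.Normal ∧ IsSimpleGroup M ∧ ¬ IsMulCommutative M ∧
      ∀ N : Subgroup G, N.Normal → N ≠ ⊥ → M ≤ N := by
  obtain ⟨M, hMn, hM, -, hmin⟩ :=
    SolvBasic.exists_minimal_normal (G := G) (N := ⊤) inferInstance top_ne_bot
  haveI := hMn
  have hMns : ¬ Group.IsSolvable M := fun h => hM (hrad M hMn h)
  have hMna : ¬ IsMulCommutative M := fun h =>
    hMns (Group.isSolvable_of_comm fun a b => h.is_comm.comm a b)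
  have huniq : ∀ N : Subgroup G, N.Normal → N ≠ ⊥ → M ≤ N := by
    intro N hN hNb
    haveI := hN
    rcases hmin (M ⊓ N) inferInstance inf_le_left with h | h
    · exact (not_commute hpp hNb hMns fun a ha b hb => (Subgroup.commute_of_normal_of_disjoint N M hN hMn
        (disjoint_iff.2 (by rw [inf_comm, h])) a b ha hb).eq).elim
    · exact inf_eq_left.1 h
  refine ⟨M, hMn, ?_, hMna, huniq⟩
  haveI : Nontrivial M := M.nontrivial_iff_ne_bot.2 hM
  obtain ⟨K, hKn, hK, -, hKmin⟩ :=
    SolvBasic.exists_minimal_normal (G := M) (N := ⊤) inferInstance top_ne_bot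
  let c : G → Subgroup M := fun g => K.map (MulAut.conjNormal g).toMonoidHom
  have hcn : ∀ g, (c g).Normal := fun g => hKn.map _ (MulEquiv.surjective _)
  have hcmin : ∀ g, ∀ L : Subgroup M, L.Normal → L ≤ c g → L = ⊥ ∨ L = c g := by
    intro g L hL hle
    have hj : Function.Injective ((MulAut.conjNormal g : MulAut M).toMonoidHom) := MulEquiv.injective _
    rcases hKmin (L.comap (MulAut.conjNormal g).toMonoidHom) (hL.comap _) (fun x hx => by
      obtain ⟨y, hy, hye⟩ := hle hx
      rwa [← hj hye]) with h | h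
    · left
      rw [← Subgroup.map_comap_eq_self_of_surjective (f := (MulAut.conjNormal g).toMonoidHom)
        (MulEquiv.surjective _) L, h, Subgroup.map_bot]
    · right
      rw [← Subgroup.map_comap_eq_self_of_surjective (f := (MulAut.conjNormal g).toMonoidHom)
        (MulEquiv.surjective _) L, h]
  have hc1 : c 1 = K := by
    show K.map _ = K
    rw [map_one]
    exact Subgroup.map_id K
  have hKns : ¬ Group.IsSolvable K := by
    intro hs
    haveI := hKn
    haveI := hs
    have hKab := SolvBasic.isMulCommutative_of_minimal_normal hK hKmin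
    set S := ⨆ g, (c g).map M.subtype
    have hSn : S.Normal := by
      refine ⟨fun x hx h => ?_⟩
      have h1 : h * x * h⁻¹ ∈ S.map (MulAut.conj h).toMonoidHom := ⟨x, hx, rfl⟩
      rw [Subgroup.map_iSup] at h1
      refine (iSup_le fun g => ?_ : (⨆ g, ((c g).map M.subtype).map (MulAut.conj h).toMonoidHom) ≤ S) h1
      refine le_trans (le_of_eq ?_) (le_iSup _ (h * g))
      simp only [c, Subgroup.map_map]
      congr 1
      ext y
      simp [MulAut.conjNormal_apply, mul_assoc]
    have hSb : S ≠ ⊥ := by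
      intro h
      refine hK (Subgroup.map_injective M.subtype_injective ?_)
      rw [Subgroup.map_bot, eq_bot_iff, ← h, ← hc1]
      exact le_iSup (fun g => (c g).map M.subtype) 1
    have hSM : S ≤ M := iSup_le fun g => Subgroup.map_subtype_le _
    have hcomm : ∀ g g', ∀ a ∈ (c g).map M.subtype, ∀ b ∈ (c g').map M.subtype, a * b = b * a := by
      rintro g g' _ ⟨a, ha, rfl⟩ _ ⟨b, hb, rfl⟩
      rw [← map_mul, ← map_mul]
      congr 1
      haveI := hcn g
      haveI := hcn g'
      rcases hcmin g (c g ⊓ c g') inferInstance inf_le_left with h | h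
      · exact (Subgroup.commute_of_normal_of_disjoint _ _ (hcn g) (hcn g') (disjoint_iff.2 h) a b ha hb).eq
      · rcases hcmin g' (c g) (hcn g) (inf_eq_left.1 h) with h2 | h2
        · rw [h2, SetLike.mem_coe, Subgroup.mem_bot] at ha
          rw [ha, one_mul, mul_one]
        · rw [← h2] at hb
          haveI := hKab
          obtain ⟨a', ha', rfl⟩ := ha
          obtain ⟨b', hb', rfl⟩ := hb
          rw [← map_mul, ← map_mul]
          exact congrArg _ (congrArg Subtype.val (mul_comm' (⟨a', ha'⟩ : K) ⟨b', hb'⟩))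
    have hSc : S ≤ Subgroup.centralizer (S : Set G) := by
      refine iSup_le fun g => ?_
      rw [Subgroup.le_centralizer_iff]
      refine iSup_le fun g' => ?_
      intro b hb
      rw [Subgroup.mem_centralizer_iff]
      exact fun a ha => hcomm g g' a ha b hb
    exact hSb (hrad S hSn (Group.isSolvable_of_comm fun a b =>
      Subtype.ext ((Subgroup.mem_centralizer_iff.1 (hSc b.2) a a.2))))
  have hKfix : ∀ g, c g = K := by
    intro g
    haveI := hKn
    haveI := hcn g
    rcases hKmin (K ⊓ c g) inferInstance inf_le_left with h | h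
    · exfalso
      refine not_commute (A := (c g).map M.subtype) (B := K.map M.subtype) hpp ?_ ?_ ?_
      · intro e
        have e' : c g = ⊥ := Subgroup.map_injective M.subtype_injective (e.trans (Subgroup.map_bot _).symm)
        refine hK ((Subgroup.map_injective (MulEquiv.injective (MulAut.conjNormal g : MulAut M))) ?_)
        exact e'.trans (Subgroup.map_bot _).symm
      · intro hs
        haveI := hs
        exact hKns (Group.isSolvable_of_isSolvable_injective
          (f := (K.equivMapOfInjective _ M.subtype_injective).toMonoidHom) (MulEquiv.injective _))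
      · rintro _ ⟨a, ha, rfl⟩ _ ⟨b, hb, rfl⟩
        rw [← map_mul, ← map_mul, (Subgroup.commute_of_normal_of_disjoint _ _ (hcn g) hKn
          (disjoint_iff.2 (by rw [inf_comm, h])) a b ha hb).eq]
    · rcases hcmin g K hKn (inf_eq_left.1 h) with h2 | h2
      · exact absurd h2 hK
      · exact h2.symm
  have hKtop : K = ⊤ := by
    have hn : (K.map M.subtype).Normal := by
      refine ⟨fun x hx g => ?_⟩
      obtain ⟨k, hk, rfl⟩ := hx
      refine ⟨MulAut.conjNormal g k, ?_, MulAut.conjNormal_apply g k⟩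
      rw [← hKfix g]
      exact ⟨k, hk, rfl⟩
    rcases hmin _ hn (Subgroup.map_subtype_le K) with h | h
    · exact absurd (Subgroup.map_injective M.subtype_injective (h.trans (Subgroup.map_bot _).symm)) hK
    · refine Subgroup.map_injective M.subtype_injective (h.trans ?_)
      rw [← MonoidHom.range_eq_map, Subgroup.range_subtype]
  exact ⟨fun L hL => (hKmin L hL (hKtop ▸ le_top)).imp_right fun h => h.trans hKtop⟩

end Cfsg.Agent.S3992


set_option autoImplicit false
open Cfsg

namespace Cfsg.Agent.S3992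

/-- Let G be a finite non-solvable group in which every element has prime-power order, and let R be its largest solvable normal subgroup. Then R is a p-group for some prime p; G/R has a non-abelian simple normal subgroup contained in every nontrivial normal subgroup of G/R (its unique minimal normal subgroup); and the order of every solvable subgroup of G has at most two prime divisors. -/
theorem result {G : Type*} [Group G] [Finite G] (hns : ¬ Group.IsSolvable G) (hpp : ∀ g : G, g ≠ 1 → IsPrimePow (orderOf g))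
    (R : Subgroup G) [R.Normal] (hRs : Group.IsSolvable ↥R) (hRmax : ∀ N : Subgroup G, N.Normal → Group.IsSolvable ↥N → N ≤ R) :
    (∃ p : ℕ, p.Prime ∧ IsPGroup p ↥R) ∧
      (∃ M : Subgroup (G ⧸ R), M.Normal ∧ IsSimpleGroup ↥M ∧ ¬ IsMulCommutative ↥M ∧
        ∀ N : Subgroup (G ⧸ R), N.Normal → N ≠ ⊥ → M ≤ N) ∧
      ∀ H : Subgroup G, Group.IsSolvable ↥H → (Nat.card ↥H).primeFactors.card ≤ 2 := by
  haveI := hRs
  refine ⟨S3992.radical_isPGroup hns hpp R, ?_, fun H hH => ?_⟩
  · have hppQ : ∀ y : G ⧸ R, y ≠ 1 → IsPrimePow (orderOf y) := by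
      intro y hy
      obtain ⟨g, rfl⟩ := QuotientGroup.mk'_surjective R y
      have hg : g ≠ 1 := fun h => hy (by rw [h, map_one])
      exact (hpp g hg).dvd (orderOf_map_dvd _ g) fun h => hy (orderOf_eq_one_iff.1 h)
    haveI : Nontrivial (G ⧸ R) := by
      rw [QuotientGroup.nontrivial_iff]
      intro h
      subst h
      exact hns (Group.isSolvable_of_surjective (f := (⊤ : Subgroup G).subtype) fun g => ⟨⟨g, Subgroup.mem_top g⟩, rfl⟩)
    refine S3992.exists_simple_socle hppQ fun N hN hNs => ?_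
    set f := QuotientGroup.mk' R
    haveI := hNs
    have hsol : Group.IsSolvable (N.comap f) := by
      refine Group.isSolvable_of_ker_le_range
        (Subgroup.inclusion (show R ≤ N.comap f from fun x hx => by
          rw [Subgroup.mem_comap, show f x = 1 from (QuotientGroup.eq_one_iff x).2 hx]; exact N.one_mem)) (f.subgroupComap N) ?_
      intro x hx
      have h1 : f (x : G) = 1 := congrArg Subtype.val hx
      exact ⟨⟨x, (QuotientGroup.eq_one_iff _).1 h1⟩, Subtype.ext rfl⟩
    have := hRmax _ (hN.comap f) hsol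
    rw [← Subgroup.map_comap_eq_self_of_surjective (QuotientGroup.mk'_surjective R) N, eq_bot_iff]
    rintro _ ⟨x, hx, rfl⟩
    exact Subgroup.mem_bot.2 ((QuotientGroup.eq_one_iff x).2 (this hx))
  · by_contra hcon
    push Not at hcon
    haveI := hH
    obtain ⟨a, ha, b, hb, hab, g, hg⟩ := S4002.exists_product_order (G := H) (Nat.card H).primeFactors
      (fun s hs => Nat.prime_of_mem_primeFactors hs) hcon (fun s hs => Nat.dvd_of_mem_primeFactors hs)
      (fun r hr hrd => Nat.mem_primeFactors.2 ⟨hr, hrd, Nat.card_pos.ne'⟩)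
    have ha' := Nat.prime_of_mem_primeFactors ha
    have hb' := Nat.prime_of_mem_primeFactors hb
    have hg1 : (g : G) ≠ 1 := fun h => by
      rw [← Subgroup.orderOf_coe, h, orderOf_one] at hg
      exact ha'.ne_one (Nat.eq_one_of_mul_eq_one_right hg.symm)
    obtain ⟨r, k, hr, -, hrk⟩ := (isPrimePow_nat_iff _).1 (hpp g hg1)
    rw [Subgroup.orderOf_coe, hg] at hrk
    have h1 := (Nat.prime_dvd_prime_iff_eq ha' hr).1 (ha'.dvd_of_dvd_pow (hrk ▸ dvd_mul_right a b))
    have h2 := (Nat.prime_dvd_prime_iff_eq hb' hr).1 (hb'.dvd_of_dvd_pow (hrk ▸ dvd_mul_left b a))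
    exact hab (h1.trans h2.symm)

end Cfsg.Agent.S3992
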