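import Cfsg.Statements.S4958
import Cfsg.Agent.Lib.KGV.Abelian
-- import your own Cfsg.Agent.* helpers here

set_option autoImplicit false
open Cfsg

open Cfsg.Agent Cfsg.Agent.Char
open scoped ComplexConjugate

namespace Cfsg.Agent.S4958

/-- Let X be a finite group and V a normal subgroup of X in which every element has order dividing the prime p, whose index in X is prime to p and which is its own centralizer in X; so V is an elementary abelian normal Sylow p-subgroup, and any complement G to V in X is a group of order prime to p acting faithfully on the vector space V by conjugation (the coprime linear setting of the k(GV) problem). Let G be a complement to V in X and suppose that for some v in V the centralizer of v in G is abelian. Then the number of conjugacy classes of X is at most the order of V (the abelian-stabilizer criterion for the k(GV) problem). -/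
theorem result {X : Type*} [Group X] [Finite X] (p : ℕ) [Fact p.Prime] (V : Subgroup X) [V.Normal] (hVexp : ∀ v ∈ V, v ^ p = 1) (hidx : ¬ p ∣ V.index) (hself : Subgroup.centralizer (V : Set X) = V) (G : Subgroup X) (hGV : Subgroup.IsComplement' V G) (v : X) (hv : v ∈ V) (hab : ∀ a ∈ G ⊓ Subgroup.centralizer ({v} : Set X), ∀ b ∈ G ⊓ Subgroup.centralizer ({v} : Set X), a * b = b * a) : Nat.card (ConjClasses X) ≤ Nat.card V := by
  classical
  haveI := Fintype.ofFinite X
  set C : Subgroup X := G ⊓ Subgroup.centralizer ({v} : Set X) with hC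
  haveI : Fintype C := Fintype.ofFinite _
  have hVp : IsPGroup p V := fun w => ⟨1, Subtype.ext (by simpa using hVexp w w.2)⟩
  have habV : ∀ a ∈ V, ∀ b ∈ V, a * b = b * a := fun a ha b hb =>
    ((hself.ge ha) b hb).symm
  have hcop : (Nat.card V).Coprime (Nat.card G) := by
    obtain ⟨a, ha⟩ := IsPGroup.iff_card.1 hVp
    rw [ha, ← hGV.symm.index_eq_card]
    exact Nat.Coprime.pow_left _ ((Fact.out : p.Prime).coprime_iff_not_dvd.2 hidx)
  letI : CommGroup C :=
    { (inferInstance : Group C) with mul_comm := fun a b => Subtype.ext (hab a a.2 b b.2) }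
  letI : CommGroup V :=
    { (inferInstance : Group V) with mul_comm := fun a b => Subtype.ext (habV a a.2 b b.2) }
  let φ : C →* MulAut V := (MulAut.conjNormal (H := V)).comp C.subtype
  have hφ : ∀ (h : C) (w : V), ((φ h w : V) : X) = h * w * (h : X)⁻¹ := fun h w => rfl
  have hCG : ∀ c : C, (c : X) ∈ G := fun c => c.2.1
  have hinj : Function.Injective φ := by
    refine (injective_iff_map_eq_one φ).2 fun h hh => Subtype.ext ?_
    refine Subgroup.disjoint_def.1 hGV.disjoint (hself.le fun w hw => ?_) (hCG h)
    have e := congrArg Subtype.val (DFunLike.congr_fun hh ⟨w, hw⟩)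
    rw [hφ] at e
    exact (mul_inv_eq_iff_eq_mul.1 e).symm
  obtain ⟨T, _, g, w, hw, hvc, hnz, hub⟩ := KGV.exists_frame (Nat.card V) φ rfl hinj
    (hcop.symm.coprime_dvd_left (Subgroup.card_dvd_of_le inf_le_left))
  have hfix : ∀ h : C, KGV.fixCard V (h : X) = Nat.card {x : V // φ h x = x} := fun h =>
    Nat.card_congr (Equiv.subtypeEquivRight fun x => by
      rw [Subtype.ext_iff, hφ, mul_inv_eq_iff_eq_mul]
      exact eq_comm)
  have key : (Nat.card (ConjClasses X) : ℝ) ≤ (Nat.card V : ℝ) := by
    refine KGV.frame_bound (C := C) habV hcop hGV hv hC Nat.card_pos.ne' dvd_rfl g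
      (fun t => (hvc t).intCF) (fun t h => (hvc t).cyc (Subgroup.card_subgroup_dvd_card C) h) w hw
      (fun χ => ?_) _ fun σ => ?_
    · have hne : (fun h : C => (χ : X → ℂ) (v * h)) ≠ 0 := fun h0 => by
        have := congrFun h0 1
        simp only [OneMemClass.coe_one, mul_one, Pi.zero_apply] at this
        exact KGV.char_ne_zero habV hVp hidx χ.2 hv this
      refine (hnz _ hne).trans_eq ?_
      refine congrArg (fun n : ℕ => w * (n : ℝ)) (congrArg Finset.card ?_)
      refine Finset.filter_congr fun t _ => ?_
      rw [KGV.L, mul_ne_zero_iff, and_iff_right]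
      exact inv_ne_zero (Nat.cast_ne_zero.2 Nat.card_pos.ne')
    · simp only [hfix]
      rw [← Finset.mul_sum, mul_left_comm]
      refine (mul_le_mul_of_nonneg_left (hub σ) (by positivity)).trans_eq ?_
      rw [inv_mul_cancel_left₀ (Nat.cast_ne_zero.2 Nat.card_pos.ne')]
  exact_mod_cast key

end Cfsg.Agent.S4958
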