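import Cfsg.Statements.S2411
import Cfsg.Agent.Lib.Classical.SpTwoGen.Torus
import Cfsg.Agent.Lib.Classical.SpTwoGen.Six
-- import your own Cfsg.Agent.* helpers here

set_option autoImplicit false
open Cfsg

namespace Cfsg.Agent.S2411

/-- The projective symplectic group `PSp_{2m}(q)` with `m ≥ 2` (and `q > 2` if `m = 2`) is generated by two of its elements. -/
theorem result {F : Type*} [Field F] [Fintype F] (m : ℕ) (hm : 2 ≤ m) (hF : m = 2 → 2 < Fintype.card F) :
    ∃ a b : Cfsg.PSp m F, Subgroup.closure ({a, b} : Set (Cfsg.PSp m F)) = ⊤ := by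
  classical
  suffices h : ∃ a b : Matrix.symplecticGroup (Fin m) F,
      Subgroup.closure ({a, b} : Set (Matrix.symplecticGroup (Fin m) F)) = ⊤ by
    obtain ⟨a, b, hab⟩ := h
    refine ⟨QuotientGroup.mk' _ a, QuotientGroup.mk' _ b, ?_⟩
    have := congrArg (Subgroup.map (QuotientGroup.mk' (Subgroup.center (Matrix.symplecticGroup (Fin m) F)))) hab
    rwa [MonoidHom.map_closure, Set.image_pair,
      Subgroup.map_top_of_surjective _ (QuotientGroup.mk'_surjective _)] at this
  by_cases h3 : 2 < Fintype.card F
  · obtain ⟨l, hl⟩ := IsCyclic.exists_generator (α := Fˣ)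
    refine ⟨_, _, SpTwoGen.torus_gen hm hl fun h => ?_⟩
    have hl1 : l = 1 := Units.ext h
    subst hl1
    have : Subsingleton Fˣ := ⟨fun x y => by
      have hx := hl x
      have hy := hl y
      rw [Subgroup.zpowers_one_eq_bot, Subgroup.mem_bot] at hx hy
      rw [hx, hy]⟩
    have h1 : Fintype.card Fˣ ≤ 1 := Fintype.card_le_one_iff_subsingleton.2 this
    rw [Fintype.card_units] at h1
    omega
  · have hc : Fintype.card F = 2 := by
      have := Fintype.one_lt_card (α := F)
      omega
    have h01 : ∀ x : F, x = 0 ∨ x = 1 := by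
      intro x
      by_contra hx
      push Not at hx
      have h := Finset.card_le_univ ({0, 1, x} : Finset F)
      rw [Finset.card_eq_three.2 ⟨0, 1, x, zero_ne_one, Ne.symm hx.1, Ne.symm hx.2, rfl⟩, hc] at h
      omega
    have h2 : (2 : F) = 0 := by
      have := FiniteField.cast_card_eq_zero F
      rwa [hc] at this
    haveI : CharP F 2 := CharTwo.of_one_ne_zero_of_two_eq_zero one_ne_zero h2
    have hm3 : 3 ≤ m := by
      by_contra hlt
      have := hF (by omega)
      omega
    rcases Nat.lt_or_ge m 4 with h4 | h4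
    · obtain rfl : m = 3 := by omega
      exact ⟨_, _, SpTwoGen.six_two h01⟩
    · exact ⟨_, _, SpTwoGen.big_two h4 h01⟩

end Cfsg.Agent.S2411
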