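import Cfsg.Statements.S0385
import Cfsg.Agent.Lib.Golay.OrbitChecks
-- import your own Cfsg.Agent.* helpers here

set_option autoImplicit false
open Cfsg

namespace Cfsg.Agent.S0385

open Cfsg.Agent.Golay Cfsg.Agent.Golay.Cert
open scoped Pointwise

/-- The 6-point intersections of octads with a fixed dodecad form a Steiner system S(5, 6, 12) on the dodecad. -/
theorem result (d : Finset Cfsg.GolayPt) (hd : d ∈ Cfsg.dodecads) : Cfsg.IsSteinerSystem 5 6 {h : Finset {p : Cfsg.GolayPt // p ∈ d} | ∃ o ∈ Cfsg.octads, (o ∩ d).card = 6 ∧ h = Finset.subtype (fun p => p ∈ d) o} := by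
  classical
  obtain ⟨g, hg, hgd⟩ := dodecad_move hd
  have key : ∀ o ∈ Cfsg.octads, (o ∩ d).card = 2 ∨ (o ∩ d).card = 4 ∨ (o ∩ d).card = 6 := by
    intro o ho
    obtain ⟨m, hm, hm'⟩ := mem_octads.1 (smul_mem_octads hg ho)
    have hall : octadList.all (fun m => memB (popCount (m &&& sqMask) 24) [2, 4, 6]) = true := by
      decide +kernel
    have h := memB_spec (List.all_eq_true.1 hall m hm)
    rw [← card_maskSet, maskSet_and, hm', ← hgd, card_inter_smul] at h
    simpa using h
  refine ⟨?_, fun s hs => ?_⟩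
  · rintro _ ⟨o, -, h6, rfl⟩
    rw [Finset.card_subtype, ← h6]
    congr 1
  · obtain ⟨o, ⟨ho, hso⟩, huniq⟩ := isSteinerSystem_octads.2 (s.map (Function.Embedding.subtype _))
      (by rw [Finset.card_map, hs])
    have hle : 5 ≤ (o ∩ d).card := by
      rw [← hs, ← Finset.card_map (Function.Embedding.subtype fun p => p ∈ d)]
      refine Finset.card_le_card fun p hp => Finset.mem_inter.2 ⟨hso hp, ?_⟩
      obtain ⟨a, -, rfl⟩ := Finset.mem_map.1 hp
      exact a.2
    have h6 : (o ∩ d).card = 6 := by rcases key o ho with h | h | h <;> omega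
    refine ⟨_, ⟨⟨o, ho, h6, rfl⟩, fun a ha => Finset.mem_subtype.2
      (hso (Finset.mem_map_of_mem _ ha))⟩, ?_⟩
    rintro _ ⟨⟨o', ho', -, rfl⟩, hso'⟩
    rw [huniq o' ⟨ho', fun p hp => by
      obtain ⟨a, ha, rfl⟩ := Finset.mem_map.1 hp
      exact Finset.mem_subtype.1 (hso' ha)⟩]

end Cfsg.Agent.S0385
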