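import Cfsg.Statements.S2916
import Cfsg.Agent.Lib.GLTwoThree.Recog
import Cfsg.Agent.Lib.M11Uniq.Std
import Cfsg.Agent.Lib.Golay.Mathieu
-- import your own Cfsg.Agent.* helpers here

set_option autoImplicit false
open Cfsg

namespace Cfsg.Agent.S2916

/-- Let G be a finite group with O²(G) = G (no proper normal subgroup of 2-power index), and let t be an involution of G whose centralizer C_G(t) is isomorphic to GL₂(3). Then G is isomorphic to PSL₃(3) or to the Mathieu group M₁₁. -/
theorem result {G : Type*} [Group G] [Finite G] (hO : Cfsg.pResidual 2 G = ⊤) (t : G) (ht : orderOf t = 2) (hC : Nonempty (↥(Subgroup.centralizer ({t} : Set G)) ≃* GL (Fin 2) (ZMod 3))) : (∃ (F : Type) (_ : Field F) (_ : Fintype F), Fintype.card F = 3 ∧ Nonempty (G ≃* Matrix.ProjectiveSpecialLinearGroup (Fin 3) F)) ∨ Cfsg.Spor.IsoM11 G := by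
  obtain ⟨e⟩ := hC
  have hidx := GLTwoThree.idx_of_residual hO
  haveI := GLTwoThree.isSimple ht e hidx
  haveI : Fintype G := Fintype.ofFinite G
  rcases GLTwoThree.card_eq ht e with hG | hG
  · refine Or.inl ⟨ZMod 3, @ZMod.instField 3 ⟨Nat.prime_three⟩, inferInstance, ZMod.card 3, ?_⟩
    exact GLTwoThree.nonempty_psl_of_card ht e (fun u hu => GLTwoThree.isConj_t' ht e hidx hu) hG
  · right
    haveI : IsSimpleGroup ↥Cfsg.Spor.M11 := by
      rw [Golay.sporM11_eq]; exact Golay.isSimpleGroup_M11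
    haveI : Fintype ↥Cfsg.Spor.M11 := Fintype.ofFinite _
    obtain ⟨a⟩ := M11Uniq.nonempty_mulEquiv_std hG
    obtain ⟨b⟩ := M11Uniq.nonempty_mulEquiv_std Golay.card_sporM11
    exact ⟨a.trans b.symm⟩

end Cfsg.Agent.S2916
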