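import Cfsg.Statements.S2060
import Cfsg.Agent.Lib.Golay.Local.M11Out
-- import your own Cfsg.Agent.* helpers here

set_option autoImplicit false
open Cfsg

namespace Cfsg.Agent.S2060

open Cfsg.Agent.Golay Cfsg.Agent.Golay.Local
open scoped Pointwise

/-- The outer automorphism group of the Mathieu group M₁₁ (the stabiliser of a dodecad and one of its points in the automorphism group of the length-24 binary code) is trivial: every automorphism is inner. -/
theorem result : Nat.card (Cfsg.Out ↥Cfsg.Spor.M11) = 1 := by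
  have e : ↥stdA ≃* ↥Cfsg.Spor.M11 :=
    (equivStabSets stdA [Cfsg.Spor.squareDodecad, {(some 0 : Cfsg.GolayPt)}] (fun g => by
      rw [← (by decide : dp0 = some 0), squareDodecad_eq, stdA, Subgroup.mem_inf, mem_stab_set, mem_stab_pt]
      simp)).trans (MulEquiv.subgroupCongr sporM11_eq.symm)
  have hmap : (Cfsg.Inn stdA).map (MulAut.congr e).toMonoidHom = Cfsg.Inn ↥Cfsg.Spor.M11 := by
    ext φ
    constructor
    · rintro ⟨_, ⟨a, rfl⟩, rfl⟩
      exact ⟨e a, MulEquiv.ext fun x => by simp [MulAut.congr, MulAut.conj_apply]⟩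
    · rintro ⟨b, rfl⟩
      exact ⟨_, ⟨e.symm b, rfl⟩, MulEquiv.ext fun x => by simp [MulAut.congr, MulAut.conj_apply]⟩
  rw [← Nat.card_congr (QuotientGroup.congr _ _ (MulAut.congr e) hmap).toEquiv, card_out_stdA]

end Cfsg.Agent.S2060
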