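import Cfsg.Statements.S1007
import Cfsg.Agent.Lib.Small.Order168Subgroups

set_option autoImplicit false
open Cfsg

namespace Cfsg.Agent.S1007



/-- Let G be a simple group of order 168 and T a Sylow 2-subgroup. Then T contains exactly two subgroups that are Klein four-groups; they are not conjugate in G; and the normalizer of every Klein four-subgroup of G is isomorphic to the symmetric group of degree 4. -/
theorem result {G : Type*} [Group G] [Finite G] [IsSimpleGroup G] (h : Nat.card G = 168) (T : Sylow 2 G) : Nat.card {U : Subgroup G // U ≤ (T : Subgroup G) ∧ IsKleinFour ↥U} = 2 ∧ (∀ U W : Subgroup G, U ≤ (T : Subgroup G) → W ≤ (T : Subgroup G) → IsKleinFour ↥U → IsKleinFour ↥W → U ≠ W → ∀ g : G, U.map (MulAut.conj g).toMonoidHom ≠ W) ∧ ∀ U : Subgroup G, IsKleinFour ↥U → Nonempty (↥(Subgroup.normalizer (U : Set G)) ≃* Equiv.Perm (Fin 4)) := by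
  haveI : Fact (Nat.Prime 2) := ⟨Nat.prime_two⟩
  obtain ⟨a, b, ha, hb, ha4, hb2, hba, hinv, hgen, -, -⟩ := Order168.sylow2_gens h T
  obtain ⟨k1, k2, hne, hall⟩ := Order168.klein_in_sylow h T ha hb ha4 hb2 hba hinv
  have hle1 : Subgroup.closure ({a * a, b} : Set G) ≤ (T : Subgroup G) := (Subgroup.closure_le _).mpr
    (by rintro _ (rfl | rfl) <;> first | assumption | exact mul_mem ha ha)
  have hle2 : Subgroup.closure ({a * a, a * b} : Set G) ≤ (T : Subgroup G) := (Subgroup.closure_le _).mpr
    (by rintro _ (rfl | rfl) <;> first | exact mul_mem ha hb | exact mul_mem ha ha)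
  refine ⟨?_, fun U W hU hW kU kW hUW g hg => hUW (Order168.klein_fusion h T hU hW kU kW hg),
    fun U kU => Order168.twentyfour_equiv h (Order168.klein_normalizer h kU)⟩
  refine (Nat.card_eq_of_bijective (fun β : Bool => bif β
      then (⟨_, hle1, k1⟩ : {U : Subgroup G // U ≤ (T : Subgroup G) ∧ IsKleinFour ↥U})
      else ⟨_, hle2, k2⟩) ⟨?_, ?_⟩).symm.trans (by simp)
  · rintro (_ | _) (_ | _) e <;> simp only [cond_true, cond_false] at e
    · rfl
    · exact absurd (congrArg Subtype.val e).symm hne
    · exact absurd (congrArg Subtype.val e) hne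
    · rfl
  · rintro ⟨U, hUT, hU⟩
    rcases hall U hUT hU with e | e
    · exact ⟨true, Subtype.ext e.symm⟩
    · exact ⟨false, Subtype.ext e.symm⟩

end Cfsg.Agent.S1007
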