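import Cfsg.Statements.S1679
import Cfsg.Agent.Lib.SuzG24.Model

set_option autoImplicit false
open Cfsg

namespace Cfsg.Agent.S1679

/-- In the presented sporadic Suzuki group (generators a, …, g), the subgroup generated by the images of a, …, f is isomorphic to the adjoint Chevalley group of type G₂ over a field with four elements. -/
theorem result : ∃ (K : Type) (_ : Field K) (_ : Fintype K), Fintype.card K = 4 ∧ Nonempty ((((Subgroup.closure ({Cfsg.Spor.Suz.a, Cfsg.Spor.Suz.b, Cfsg.Spor.Suz.c, Cfsg.Spor.Suz.d, Cfsg.Spor.Suz.e, Cfsg.Spor.Suz.f} : Set (FreeGroup Cfsg.Spor.Suz.Gen))).map (PresentedGroup.mk (Cfsg.Spor.coxRelators Cfsg.Spor.Suz.edges ∪ {r | r ∈ Cfsg.Spor.Suz.extra})))) ≃* Cfsg.Lie.chevG2.group K) := by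
  refine ⟨Cfsg.Agent.G24.F4, inferInstance, inferInstance, Cfsg.Agent.G24.F4.card, ?_⟩
  have h : (Cfsg.Agent.RigidGraph.Suz.par [0, 1, 2, 3, 4, 5] : Subgroup Cfsg.Agent.RigidGraph.Suz.PG) = (((Subgroup.closure ({Cfsg.Spor.Suz.a, Cfsg.Spor.Suz.b, Cfsg.Spor.Suz.c, Cfsg.Spor.Suz.d, Cfsg.Spor.Suz.e, Cfsg.Spor.Suz.f} : Set (FreeGroup Cfsg.Spor.Suz.Gen))).map (PresentedGroup.mk (Cfsg.Spor.coxRelators Cfsg.Spor.Suz.edges ∪ {r | r ∈ Cfsg.Spor.Suz.extra})))) := by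
    rw [MonoidHom.map_closure]
    refine congrArg Subgroup.closure (Set.ext fun g => ⟨?_, ?_⟩)
    · rintro ⟨x, hx, rfl⟩
      simp only [Set.mem_ofPred_eq, List.mem_cons, List.not_mem_nil, or_false] at hx
      rcases hx with rfl | rfl | rfl | rfl | rfl | rfl
      · exact ⟨Cfsg.Spor.Suz.a, by simp, rfl⟩
      · exact ⟨Cfsg.Spor.Suz.b, by simp, rfl⟩
      · exact ⟨Cfsg.Spor.Suz.c, by simp, rfl⟩
      · exact ⟨Cfsg.Spor.Suz.d, by simp, rfl⟩
      · exact ⟨Cfsg.Spor.Suz.e, by simp, rfl⟩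
      · exact ⟨Cfsg.Spor.Suz.f, by simp, rfl⟩
    · rintro ⟨r, hr, rfl⟩
      simp only [Set.mem_insert_iff, Set.mem_singleton_iff] at hr
      rcases hr with rfl | rfl | rfl | rfl | rfl | rfl
      · exact ⟨0, by simp, rfl⟩
      · exact ⟨1, by simp, rfl⟩
      · exact ⟨2, by simp, rfl⟩
      · exact ⟨3, by simp, rfl⟩
      · exact ⟨4, by simp, rfl⟩
      · exact ⟨5, by simp, rfl⟩
  obtain ⟨ι⟩ := Cfsg.Agent.SuzG24.nonempty_par_G4
  exact ⟨MulEquiv.trans (N := ↥(Cfsg.Agent.RigidGraph.Suz.par [0, 1, 2, 3, 4, 5])) (MulEquiv.subgroupCongr (G := Cfsg.Agent.RigidGraph.Suz.PG) h.symm) ι⟩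

end Cfsg.Agent.S1679
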