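import Cfsg.Statements.S1694
import Cfsg.Agent.Lib.RigidGraph.Suz.Presented
-- import your own Cfsg.Agent.* helpers here

set_option autoImplicit false
open Cfsg

namespace Cfsg.Agent.S1694

/-- The presented sporadic Suzuki group is simple of the expected order (that is, it is a simple group of the order of the sporadic Suzuki group). -/
theorem result : Cfsg.IsSuz Cfsg.Spor.Suz := by
  obtain ⟨hs, hc⟩ := Cfsg.Agent.RigidGraph.Suz.isSuz_suzGroup
  exact ⟨Cfsg.Agent.RigidGraph.Suz.presentedEquiv.isSimpleGroup,
    (Nat.card_congr Cfsg.Agent.RigidGraph.Suz.presentedEquiv.toEquiv).trans hc⟩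

end Cfsg.Agent.S1694
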