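import Cfsg.Statements.S5746
import Cfsg.Agent.Lib.G24J2.Main
import Mathlib.FieldTheory.Finite.GaloisField

set_option autoImplicit false
open Cfsg

namespace Cfsg.Agent.S5746

open Cfsg.Lie Cfsg.Agent Matrix

theorem group_equiv (D : ChevalleyDatum) {F K : Type*} [Field F] [Field K] (f : F ≃+* K) :
    Nonempty (↥(D.group F) ≃* ↥(D.group K)) := by
  have hmap : ∀ (r : Fin D.nroots) (t : F), (D.xMat F r t).map f = D.xMat K r (f t) := by
    intro r t
    ext a b
    rcases b with b | b <;> rcases a with a | a <;>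
      simp only [Matrix.map_apply, ChevalleyDatum.xMat, Matrix.of_apply] <;>
      (repeat' split) <;> simp [map_list_sum, List.map_map, Function.comp_def]
  let φ : GL D.Idx F ≃* GL D.Idx K :=
    Units.mapEquiv (f.mapMatrix : Matrix D.Idx D.Idx F ≃+* _).toMulEquiv
  have hφ : (D.group F).map φ.toMonoidHom = D.group K := by
    refine le_antisymm (Subgroup.map_le_iff_le_comap.2 ((Subgroup.closure_le _).2 ?_))
      ((Subgroup.closure_le _).2 ?_)
    · rintro x ⟨r, t, hx⟩
      refine Subgroup.subset_closure ⟨r, f t, ?_⟩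
      show (x : Matrix D.Idx D.Idx F).map f = _
      rw [hx, hmap]
    · rintro x ⟨r, t, hx⟩
      refine ⟨φ.symm x, Subgroup.subset_closure ⟨r, f.symm t, ?_⟩, φ.apply_symm_apply x⟩
      show (x : Matrix D.Idx D.Idx K).map f.symm = _
      rw [hx, show D.xMat K r t = (D.xMat F r (f.symm t)).map f by
        rw [hmap, RingEquiv.apply_symm_apply]]
      ext a b
      simp
  exact ⟨(φ.subgroupMap (D.group F)).trans (MulEquiv.subgroupCongr hφ)⟩


/-- The Chevalley group G₂(4) (over the field with 4 elements) has a maximal subgroup H isomorphic to the Hall–Janko group J₂ such that for every x outside H the intersection H ∩ xHx⁻¹ is a maximal subgroup of H; that is, the action of G₂(4) on the cosets of H is extremely primitive. -/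
theorem result {F : Type*} [Field F] [Fintype F] (hF : Fintype.card F = 4) :
    ∃ H : Subgroup (Cfsg.Lie.chevG2.group F), IsCoatom H ∧ Cfsg.Spor.IsoJ2 H ∧
      ∀ x : Cfsg.Lie.chevG2.group F, x ∉ H → IsCoatom ((H ⊓ H.map (MulAut.conj x).toMonoidHom).subgroupOf H) := by
  classical
  obtain ⟨f⟩ := group_equiv chevG2
    (FiniteField.ringEquivOfCardEq (K := F) (K' := G24.F4) (by rw [hF, G24.F4.card]))
  obtain ⟨e⟩ := G24J2.g24_equiv
  exact G24J2.main (f.trans e)

end Cfsg.Agent.S5746
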