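import Cfsg.Statements.S4504
import Cfsg.Agent.Lib.SmallDim.HalfDegree

set_option autoImplicit false
set_option linter.style.haveILetI false

set_option autoImplicit false
open Cfsg

namespace Cfsg.Agent.S4504

/-- Let G be a finite group whose order is divisible by the prime p exactly once and which has no normal subgroup of order p. If G has a faithful character of degree exactly (p − 1)/2, then G modulo its centre is isomorphic to PSL(2, p). -/
theorem result {G : Type*} [Group G] [Finite G] (p : ℕ) (hp : p.Prime) (hdiv : p ∣ Nat.card G) (hsq : ¬ p ^ 2 ∣ Nat.card G) (hnn : ∀ H : Subgroup G, H.Normal → Nat.card H ≠ p) (χ : G → ℂ) (hχ : Cfsg.IsCharacter G χ) (hfaith : ∀ g : G, χ g = χ 1 → g = 1) (hdeg : 2 * Cfsg.charDegree χ + 1 = p) : Nonempty ((G ⧸ Subgroup.center G) ≃* Matrix.ProjectiveSpecialLinearGroup (Fin 2) (ZMod p)) := by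
  haveI := Fintype.ofFinite G
  haveI : Fact p.Prime := ⟨hp⟩
  obtain ⟨d, ρ, hρχ⟩ := hχ
  have h1 : χ 1 = (d : ℂ) := by
    rw [← hρχ, Representation.char_one, Module.finrank_fin_fun]
  have hcd : Cfsg.charDegree χ = d := by simp [Cfsg.charDegree, h1]
  rw [hcd] at hdeg
  have hρ : Function.Injective ρ := by
    refine (injective_iff_map_eq_one ρ).2 fun g hg => hfaith g ?_
    rw [← hρχ]
    simp [Representation.character, hg]
  rcases (show d = 0 ∨ d = 1 ∨ 2 ≤ d by omega) with h | h | h
  · exfalso
    have : p = 1 := by omega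
    exact hp.ne_one this
  · exfalso
    subst h
    have hcomm : ∀ a b : G, a * b = b * a := fun a b => hρ (by
      rw [map_mul, map_mul]
      have e : ∀ f : Module.End ℂ (Fin 1 → ℂ), ∃ c : ℂ, ∀ v, f v = c • v := fun f => by
        refine ⟨f (fun _ => 1) 0, fun v => ?_⟩
        have hv : v = v 0 • (fun _ : Fin 1 => (1 : ℂ)) := by
          ext i; fin_cases i; simp
        ext i; fin_cases i
        rw [hv, map_smul]
        simp [mul_comm]
      obtain ⟨c, hc⟩ := e (ρ a)
      obtain ⟨c', hc'⟩ := e (ρ b)
      refine LinearMap.ext fun v => ?_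
      rw [Module.End.mul_apply, Module.End.mul_apply, hc, hc', hc', hc, smul_smul, smul_smul, mul_comm])
    obtain ⟨x, hx⟩ := exists_prime_orderOf_dvd_card' (G := G) p hdiv
    refine hnn (Subgroup.zpowers x) ⟨fun a ha g => ?_⟩ (by rw [Nat.card_zpowers, hx])
    rwa [hcomm g a, mul_inv_cancel_right]
  · exact SmallDim.center_quotient_psl (p := p) (by omega) hdiv hsq hnn ρ hρ hdeg

end Cfsg.Agent.S4504
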