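import Cfsg.Statements.S4508
import Cfsg.Agent.Lib.Char.ExtensionChar
import Cfsg.Agent.Lib.Char.Orbit
import Cfsg.Agent.Lib.Char.Complete
import Cfsg.Agent.Lib.Char.Degree
import Mathlib.LinearAlgebra.Matrix.Permutation
import Mathlib.GroupTheory.Transfer
import Mathlib.RingTheory.IntegralDomain
import Mathlib.RingTheory.ZMod.UnitsCyclic

set_option autoImplicit false
set_option linter.style.haveILetI false
open Cfsg

namespace Cfsg.Agent.S4508

open Cfsg.Agent.Char

universe u

variable {G : Type u} [Group G] [Finite G]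

/-- The determinant of the generator in a multiple of a regular representation. -/
theorem det_gen {S : Type u} [Group S] [Finite S] {V : Type} [AddCommGroup V] [Module ℂ V]
    [FiniteDimensional ℂ V] (σ : Representation ℂ S V) (s : S)
    (hs : ∀ x, x ∈ Subgroup.zpowers s) (heven : Even (Nat.card S)) (t : ℕ) (ht : Odd t)
    (h1 : σ.character 1 = ((Nat.card S * t : ℕ) : ℂ)) (hz : ∀ g, g ≠ 1 → σ.character g = 0) :
    LinearMap.det (σ s) = -1 := by
  classical
  haveI : Fintype S := Fintype.ofFinite S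
  letI : MulAction S (S × Fin t) :=
    { smul := fun g x => (g * x.1, x.2)
      one_smul := fun x => Prod.ext (one_mul _) rfl
      mul_smul := fun a b x => Prod.ext (mul_assoc _ _ _) rfl }
  let τ : Representation ℂ S (MonoidAlgebra ℂ (S × Fin t)) :=
    Representation.ofMulAction ℂ S (S × Fin t)
  have hchar : τ.character = σ.character := by
    funext g
    rw [character_ofMulAction]
    rcases eq_or_ne g 1 with rfl | hg
    · rw [h1, Nat.cast_inj, show MulAction.fixedBy (S × Fin t) (1 : S) = Set.univ from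
        Set.eq_univ_of_forall fun x => one_smul S x, Nat.card_univ, Nat.card_prod, Nat.card_fin]
    · rw [hz g hg, Nat.cast_eq_zero, Nat.card_eq_zero]
      exact Or.inl ⟨fun x => hg (mul_eq_right.1 (Prod.ext_iff.1 (show g • x.1 = x.1 from x.2)).1)⟩
  haveI : FiniteDimensional ℂ (MonoidAlgebra ℂ (S × Fin t)) :=
    Module.Finite.of_basis (MonoidAlgebra.basis (S × Fin t) ℂ)
  obtain ⟨e⟩ := nonempty_equiv_of_char_eq τ σ hchar
  rw [CharExtend.det_eq_of_equiv e s]
  let b := MonoidAlgebra.basis (S × Fin t) ℂ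
  have hmat : LinearMap.toMatrix b b (τ s) =
      (MulAction.toPerm s⁻¹ : Equiv.Perm (S × Fin t)).permMatrix ℂ := by
    ext i j
    rw [LinearMap.toMatrix_apply]
    have e1 : (b.repr (τ s (b j))) i = if s • j = i then 1 else 0 := by
      simp [b, τ, MonoidAlgebra.basis, Finsupp.single_apply]
    rw [e1]
    simp only [Equiv.Perm.permMatrix, PEquiv.toMatrix_apply, Equiv.toPEquiv_apply,
      MulAction.toPerm_apply, Option.mem_def, Option.some_inj]
    by_cases h : s • j = i
    · rw [if_pos h, if_pos (by rw [← h, inv_smul_smul])]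
    · rw [if_neg h, if_neg fun h' => h (by rw [← h', smul_inv_smul])]
  rw [← LinearMap.det_toMatrix b, hmat, Matrix.det_permutation]
  have hperm : (MulAction.toPerm s⁻¹ : Equiv.Perm (S × Fin t)) =
      Equiv.prodCongrLeft fun _ : Fin t => Equiv.mulLeft s⁻¹ := Equiv.ext fun x => rfl
  rw [hperm, Equiv.Perm.sign_prodCongrLeft, Finset.prod_const, Finset.card_univ, Fintype.card_fin]
  have hs1 : s ≠ 1 := by
    intro h
    have hsub : Subsingleton S := ⟨fun a b => by
      have ha := hs a; have hb := hs b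
      rw [h, Subgroup.zpowers_one_eq_bot, Subgroup.mem_bot] at ha hb
      rw [ha, hb]⟩
    rw [Nat.card_unique] at heven
    exact Nat.not_even_one heven
  have hcyc : Equiv.Perm.IsCycle (Equiv.mulLeft s⁻¹) := by
    refine ⟨1, fun h => hs1 (inv_eq_one.1 (by simpa using h)), fun y _ => ?_⟩
    obtain ⟨k, rfl⟩ := Subgroup.mem_zpowers_iff.1 (hs y)
    exact ⟨-k, by
      rw [show Equiv.mulLeft s⁻¹ = MulAction.toPermHom S S s⁻¹ from rfl, ← map_zpow]
      simp⟩
  have hsupp : (Equiv.mulLeft s⁻¹ : Equiv.Perm S).support = Finset.univ :=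
    Finset.eq_univ_of_forall fun y => Equiv.Perm.mem_support.2 fun h =>
      hs1 (inv_eq_one.1 (mul_eq_right.1 h))
  rw [hcyc.sign, hsupp, Finset.card_univ, ← Nat.card_eq_fintype_card, heven.neg_one_pow,
    ht.neg_one_pow]
  simp

theorem even_index (c : G →* ℂˣ) (s : G) (h : (c s : ℂ) = -1) : Even (commutator G).index := by
  have h2 : orderOf (c s) = 2 := by
    refine orderOf_eq_prime (Units.ext ?_) fun e => ?_
    · rw [Units.val_pow_eq_pow_val, h]; norm_num
    · rw [e, Units.val_one] at h; norm_num at h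
  rw [even_iff_two_dvd, ← h2, Subgroup.index_eq_card]
  refine (?_ : orderOf (c s) ∣ orderOf (Abelianization.of s)).trans (orderOf_dvd_natCard _)
  rw [← Abelianization.lift_apply_of c s]
  exact orderOf_map_dvd _ _

theorem main {V : Type} [AddCommGroup V] [Module ℂ V] [FiniteDimensional ℂ V]
    {p : ℕ} (hp : p.Prime) (x : G) (hx : orderOf x = p)
    (hC : Subgroup.centralizer ({x} : Set G) = Subgroup.zpowers x) (t : ℕ)
    (ht : Nat.card {C : ConjClasses G // ∃ g ∈ C.carrier, orderOf g = p} = t)
    (ρ : Representation ℂ G V) (hirr : Cfsg.IsIrrCharacter G ρ.character)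
    (hdeg : ρ.character 1 = ((p - 1 : ℕ) : ℂ)) : Even t ∨ Even (commutator G).index := by
  classical
  haveI : Fintype G := Fintype.ofFinite G
  haveI : Fact p.Prime := ⟨hp⟩
  have hp0 : (p : ℂ) ≠ 0 := Nat.cast_ne_zero.2 hp.ne_zero
  set P := Subgroup.zpowers x with hPdef
  haveI : Fintype P := Fintype.ofFinite P
  have hPcard : Nat.card P = p := by rw [hPdef, Nat.card_zpowers, hx]
  have hgen : ∀ y ∈ P, y ≠ 1 → Subgroup.zpowers y = P := by
    intro y hy hy1
    refine Subgroup.eq_of_le_of_card_ge (Subgroup.zpowers_le.2 hy) ?_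
    rw [hPcard, Nat.card_zpowers]
    rcases (Nat.dvd_prime hp).1 (hPcard ▸ Subgroup.orderOf_dvd_natCard P hy) with h | h
    · exact absurd (orderOf_eq_one_iff.1 h) hy1
    · exact h.ge
  have hcen : ∀ y ∈ P, y ≠ 1 → ∀ g, g * y = y * g → g ∈ P := by
    intro y hy hy1 g hg
    rw [← hC, Subgroup.mem_centralizer_singleton_iff]
    obtain ⟨k, hk⟩ := Subgroup.mem_zpowers_iff.1
      ((hgen y hy hy1).symm ▸ Subgroup.mem_zpowers x : x ∈ Subgroup.zpowers y)
    rw [← hk]
    exact ((show Commute g y from hg).zpow_right k).eq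
  have hnorm_of : ∀ g : G, ∀ y ∈ P, y ≠ 1 → g * y * g⁻¹ ∈ P →
      g ∈ Subgroup.normalizer (P : Set G) := by
    intro g y hy hy1 hgy
    have hy1' : g * y * g⁻¹ ≠ 1 := fun h => hy1 (conj_eq_one_iff.1 h)
    have e : P.map (MulAut.conj g).toMonoidHom = P := by
      conv_lhs => rw [← hgen y hy hy1, MonoidHom.map_zpowers]
      exact hgen _ hgy hy1'
    rw [Subgroup.mem_normalizer_iff]
    intro h
    constructor
    · intro hh
      rw [← e]
      exact ⟨h, hh, rfl⟩
    · intro hh
      rw [← e] at hh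
      obtain ⟨z, hz, hze⟩ := hh
      rwa [← (MulAut.conj g).injective (show MulAut.conj g z = MulAut.conj g h from hze)]
  -- a Sylow subgroup
  obtain ⟨S, hS⟩ := (IsPGroup.of_card (p := p) (n := 1) (by rw [hPcard, pow_one]) :
    IsPGroup p P).exists_le_sylow
  have hSP : (S : Subgroup G) = P := by
    refine le_antisymm ?_ hS
    have hS1 : Nontrivial (S : Subgroup G) := by
      refine ⟨⟨⟨x, hS (Subgroup.mem_zpowers x)⟩, 1, fun h => ?_⟩⟩
      have h' : x = 1 := congrArg Subtype.val h
      rw [h', orderOf_one] at hx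
      exact hp.one_lt.ne hx
    haveI : Nontrivial (Subgroup.center (S : Subgroup G)) := S.isPGroup'.center_nontrivial
    obtain ⟨z, hz⟩ := exists_ne (1 : Subgroup.center (S : Subgroup G))
    have hzx : ((z : (S : Subgroup G)) : G) ∈ P := by
      rw [← hC, Subgroup.mem_centralizer_singleton_iff]
      exact (congrArg Subtype.val (Subgroup.mem_center_iff.1 z.2 ⟨x, hS (Subgroup.mem_zpowers x)⟩)).symm
    intro a ha
    refine hcen _ hzx (fun h => hz (Subtype.ext (Subtype.ext h))) a ?_
    exact congrArg Subtype.val (Subgroup.mem_center_iff.1 z.2 ⟨a, ha⟩)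
  set N := Subgroup.normalizer (P : Set G) with hNdef
  have hPN : P ≤ N := Subgroup.le_normalizer
  haveI : (P.subgroupOf N).Normal := Subgroup.normal_in_normalizer
  set e := (P.subgroupOf N).index with he
  have hNcard : Nat.card N = p * e := by
    rw [← (P.subgroupOf N).card_mul_index, he,
      Nat.card_congr (Subgroup.subgroupOfEquivOfLe hPN).toEquiv, hPcard]
  -- classes of elements of order `p`
  let P0 := {y : G // y ∈ P ∧ y ≠ 1}
  have hP0 : Nat.card P0 = p - 1 := by
    rw [Nat.card_congr ({ toFun := fun y => ⟨⟨y.1, y.2.1⟩, fun h => y.2.2 (congrArg Subtype.val h)⟩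
                          invFun := fun y => ⟨y.1, y.1.2, fun h => y.2 (Subtype.ext h)⟩
                          left_inv := fun _ => rfl
                          right_inv := fun _ => rfl } : P0 ≃ {y : P // y ≠ 1})]
    rw [Nat.card_eq_fintype_card, Fintype.card_subtype_compl, Fintype.card_subtype_eq,
      ← Nat.card_eq_fintype_card, hPcard]
  have hord : ∀ y ∈ P, y ≠ 1 → orderOf y = p := fun y hy hy1 => by
    rw [← Nat.card_zpowers, hgen y hy hy1, hPcard]
  let cl : P0 → {C : ConjClasses G // ∃ g ∈ C.carrier, orderOf g = p} := fun y =>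
    ⟨ConjClasses.mk y.1, y.1, ConjClasses.mem_carrier_mk, hord _ y.2.1 y.2.2⟩
  have hcl : Function.Surjective cl := by
    rintro ⟨C, g, hg, hgp⟩
    obtain ⟨T, hT⟩ := (IsPGroup.of_card (p := p) (n := 1)
      (by rw [Nat.card_zpowers, hgp, pow_one]) : IsPGroup p (Subgroup.zpowers g)).exists_le_sylow
    obtain ⟨h, hh⟩ := MulAction.exists_smul_eq G S T
    have hgT : g ∈ ((h • S : Sylow p G) : Subgroup G) := hh ▸ hT (Subgroup.mem_zpowers g)
    rw [Sylow.coe_subgroup_smul] at hgT
    obtain ⟨y, hy, hye⟩ := hgT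
    refine ⟨⟨y, hSP ▸ hy, fun h1 => ?_⟩, Subtype.ext ?_⟩
    · subst h1
      have : g = 1 := hye.symm.trans (map_one _)
      rw [this, orderOf_one] at hgp
      exact hp.one_lt.ne hgp
    · refine (ConjClasses.mk_eq_mk_iff_isConj.2 (isConj_iff.2 ⟨h, hye⟩)).trans ?_
      exact ConjClasses.mem_carrier_iff_mk_eq.1 hg
  have hfib : ∀ y : P0, Nat.card {z : P0 // cl z = cl y} = e := by
    intro y
    rw [he, Subgroup.index_eq_card]
    let f : N ⧸ P.subgroupOf N → {z : P0 // cl z = cl y} := fun q =>
      Quotient.liftOn' q (fun g => ⟨⟨(g : G) * y.1 * (g : G)⁻¹,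
          (Subgroup.mem_normalizer_iff.1 g.2 y.1).1 y.2.1, fun h => y.2.2 (conj_eq_one_iff.1 h)⟩,
        Subtype.ext (ConjClasses.mk_eq_mk_iff_isConj.2 (isConj_iff.2 ⟨(g : G), rfl⟩).symm)⟩)
        (fun a b hab => by
          rw [QuotientGroup.leftRel_apply, Subgroup.mem_subgroupOf] at hab
          refine Subtype.ext (Subtype.ext ?_)
          show (a : G) * y.1 * (a : G)⁻¹ = (b : G) * y.1 * (b : G)⁻¹
          have h1 : ((a⁻¹ * b : N) : G) * y.1 = y.1 * ((a⁻¹ * b : N) : G) := by
            obtain ⟨i, hi⟩ := Subgroup.mem_zpowers_iff.1 hab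
            obtain ⟨j, hj⟩ := Subgroup.mem_zpowers_iff.1 y.2.1
            rw [← hi, ← hj]
            exact (((Commute.refl x).zpow_left i).zpow_right j).eq
          push_cast at h1
          calc (a : G) * y.1 * (a : G)⁻¹
              = (a : G) * (y.1 * ((a : G)⁻¹ * b)) * (b : G)⁻¹ := by group
            _ = (a : G) * (((a : G)⁻¹ * b) * y.1) * (b : G)⁻¹ := by rw [h1]
            _ = _ := by group)
    refine (Nat.card_congr (Equiv.ofBijective f ⟨?_, ?_⟩)).symm
    · intro a b hab
      obtain ⟨a, rfl⟩ := QuotientGroup.mk_surjective a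
      obtain ⟨b, rfl⟩ := QuotientGroup.mk_surjective b
      have h1 : (a : G) * y.1 * (a : G)⁻¹ = (b : G) * y.1 * (b : G)⁻¹ :=
        congrArg (fun z => (z.1 : P0).1) hab
      rw [QuotientGroup.eq, Subgroup.mem_subgroupOf]
      refine hcen _ y.2.1 y.2.2 _ ?_
      push_cast
      calc (a : G)⁻¹ * b * y.1 = (a : G)⁻¹ * ((b : G) * y.1 * (b : G)⁻¹) * b := by group
        _ = (a : G)⁻¹ * ((a : G) * y.1 * (a : G)⁻¹) * b := by rw [h1]
        _ = _ := by group
    · rintro ⟨z, hz⟩
      obtain ⟨g, hg⟩ := isConj_iff.1 (ConjClasses.mk_eq_mk_iff_isConj.1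
        (congrArg Subtype.val hz)).symm
      exact ⟨((⟨g, hnorm_of g y.1 y.2.1 y.2.2 (by rw [hg]; exact z.2.1)⟩ : N) : N ⧸ P.subgroupOf N),
        Subtype.ext (Subtype.ext hg)⟩
  have hte : p - 1 = t * e := by
    rw [← hP0, ← ht, ← Nat.card_congr (Equiv.sigmaFiberEquiv cl), Nat.card_sigma]
    have hall : ∀ C : {C : ConjClasses G // ∃ g ∈ C.carrier, orderOf g = p},
        Nat.card {z : P0 // cl z = C} = e := fun C => by
      obtain ⟨y, rfl⟩ := hcl C
      exact hfib y
    rw [Finset.sum_congr rfl fun C _ => hall C, Finset.sum_const, smul_eq_mul, Finset.card_univ,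
      Nat.card_eq_fintype_card]
  rcases Nat.even_or_odd t with hte' | hto
  · exact Or.inl hte'
  right
  by_cases hp2 : p = 2
  · -- transfer
    subst hp2
    have he1 : e = 1 := (Nat.eq_one_of_mul_eq_one_left hte.symm)
    have hNP : N = P := (Subgroup.eq_of_le_of_card_ge hPN (by rw [hNcard, he1, hPcard])).symm
    have hN' : Subgroup.normalizer ((S : Subgroup G) : Set G) ≤
        Subgroup.centralizer ((S : Subgroup G) : Set G) := by
      rw [hSP]
      show N ≤ _
      rw [hNP]
      intro a ha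
      rw [Subgroup.mem_centralizer_iff]
      intro b hb
      obtain ⟨i, rfl⟩ := Subgroup.mem_zpowers_iff.1 ha
      obtain ⟨j, rfl⟩ := Subgroup.mem_zpowers_iff.1 hb
      exact (((Commute.refl x).zpow_left j).zpow_right i).eq
    haveI : IsCyclic (S : Subgroup G) := isCyclic_of_prime_card (p := 2)
      (by rw [hSP]; exact hPcard)
    have hcomp := MonoidHom.ker_transferSylow_isComplement' S hN'
    have hidx : (MonoidHom.transferSylow S hN').ker.index = 2 := by
      rw [hcomp.symm.index_eq_card, hSP, hPcard]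
    have hle : commutator G ≤ (MonoidHom.transferSylow S hN').ker := by
      rw [commutator_def, Subgroup.commutator_le]
      intro a _ b _
      rw [MonoidHom.mem_ker, map_commutatorElement]
      exact commutatorElement_eq_one_iff_mul_comm.2
        ((IsCyclic.commGroup (α := (S : Subgroup G))).mul_comm _ _)
    exact even_iff_two_dvd.2 (hidx ▸ Subgroup.index_dvd_of_le hle)
  have he2 : Even e := by
    have hpe : Even (p - 1) := Nat.Odd.sub_odd (hp.odd_of_ne_two hp2) odd_one
    rw [hte, Nat.even_mul] at hpe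
    exact hpe.resolve_left (Nat.not_even_iff_odd.2 hto)
  -- no fixed points of `P`
  let σ : Representation ℂ P V := ρ.comp P.subtype
  have hσ : Cfsg.IsCharacter P σ.character := isCharacter_of_rep σ
  choose m hm using fun l : Cfsg.IrrCharacter P =>
    IsCharacter.exists_classInner_nat hσ (IsIrrCharacter.isCharacter l.2)
  have hlin : ∀ l : Cfsg.IrrCharacter P, (l : P → ℂ) 1 = 1 := fun l => by
    refine degree_one_of_comm (fun a b => ?_) l.2
    obtain ⟨i, hi⟩ := Subgroup.mem_zpowers_iff.1 a.2
    obtain ⟨j, hj⟩ := Subgroup.mem_zpowers_iff.1 b.2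
    refine Subtype.ext ?_
    show (a : G) * b = b * a
    rw [← hi, ← hj]
    exact (((Commute.refl x).zpow_left i).zpow_right j).eq
  set a := m (principal P) with ha
  have hsum : ∑ l, m l = p - 1 := by
    rw [← Nat.cast_inj (R := ℂ), Nat.cast_sum, ← hdeg]
    have h := congrFun (IsCharacter.eq_sum hσ) 1
    simp only [Finset.sum_apply, Pi.smul_apply, smul_eq_mul, hm, hlin, mul_one] at h
    rw [← h]
    show LinearMap.trace ℂ V (ρ ((1 : P) : G)) = _
    rfl
  have hnorm2 : ∑ y : P, ρ.character y * starRingEnd ℂ (ρ.character y) =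
      (p : ℂ) * ∑ l, (m l : ℂ) ^ 2 := by
    have h := classInner_combination₂ (fun l => (m l : ℂ)) (fun l => (m l : ℂ))
    have e1 : σ.character = ∑ l, (m l : ℂ) • (l : P → ℂ) := by
      conv_lhs => rw [IsCharacter.eq_sum hσ]
      exact Finset.sum_congr rfl fun l _ => by rw [hm]
    rw [← e1, Cfsg.classInner, hPcard, inv_mul_eq_iff_eq_mul₀ hp0] at h
    refine h.trans ?_
    congr 1
    exact Finset.sum_congr rfl fun l _ => by rw [Complex.conj_natCast, pow_two]
  -- the norm of `ρ` bounds the norm of the restriction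
  haveI : Fintype P0 := Fintype.ofFinite P0
  have hbound : p * ∑ l, m l ^ 2 ≤ (p - 1) ^ 2 + e * p := by
    let f : G → ℝ := fun g => Complex.normSq (ρ.character g)
    have hG : ∑ g, f g = (Nat.card G : ℝ) := by
      have h := classInner_self_irr hirr
      rw [Cfsg.classInner, inv_mul_eq_one₀ (Nat.cast_ne_zero.2 Nat.card_pos.ne')] at h
      have h' : ((∑ g, f g : ℝ) : ℂ) = ((Nat.card G : ℝ) : ℂ) := by
        push_cast
        rw [h]
        exact Finset.sum_congr rfl fun g _ => (Complex.mul_conj _).symm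
      exact_mod_cast h'
    haveI : Fintype (G ⧸ N) := Fintype.ofFinite _
    let j : (G ⧸ N) × P0 → G := fun q => q.1.out * q.2.1 * q.1.out⁻¹
    have hj : Function.Injective j := by
      rintro ⟨q, y⟩ ⟨q', y'⟩ h
      change q.out * y.1 * q.out⁻¹ = q'.out * y'.1 * q'.out⁻¹ at h
      have hn : q'.out⁻¹ * q.out ∈ N := hnorm_of _ y.1 y.2.1 y.2.2 (by
        rw [show q'.out⁻¹ * q.out * y.1 * (q'.out⁻¹ * q.out)⁻¹ =
          q'.out⁻¹ * (q.out * y.1 * q.out⁻¹) * q'.out by group, h]
        have := y'.2.1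
        rwa [show q'.out⁻¹ * (q'.out * y'.1 * q'.out⁻¹) * q'.out = y'.1 by group])
      have hq : q = q' := by
        rw [← q.out_eq', ← q'.out_eq']
        exact (QuotientGroup.eq.2 hn).symm
      subst hq
      exact Prod.ext rfl (Subtype.ext (mul_left_cancel (mul_right_cancel h)))
    have hsub : f 1 + ∑ q, f (j q) ≤ ∑ g, f g := by
      rw [← Finset.sum_image (s := Finset.univ) (f := f) hj.injOn,
        ← Finset.sum_insert (a := (1 : G))]
      · exact Finset.sum_le_sum_of_subset_of_nonneg (Finset.subset_univ _)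
          fun g _ _ => Complex.normSq_nonneg _
      · intro h
        obtain ⟨⟨q, y⟩, -, hy⟩ := Finset.mem_image.1 h
        exact y.2.2 (conj_eq_one_iff.1 hy)
    have hcf := IsCharacter.isClassFunction (isCharacter_of_rep ρ)
    have hjv : ∑ q, f (j q) = (N.index : ℝ) * ∑ y : P0, f y.1 := by
      rw [Fintype.sum_prod_type, Finset.sum_congr rfl fun q _ =>
        Finset.sum_congr rfl fun (y : P0) _ => show f (q.out * y.1 * q.out⁻¹) = f y.1 by
          simp only [f, hcf y.1 q.out],
        Finset.sum_const, Finset.card_univ, nsmul_eq_mul, Subgroup.index_eq_card,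
        Nat.card_eq_fintype_card]
    have h1v : f 1 = (((p - 1 : ℕ) : ℝ)) ^ 2 := by
      simp only [f, hdeg]
      rw [Complex.normSq_natCast, pow_two]
    have hPsum : ∑ y : P, f y = f 1 + ∑ y : P0, f y.1 := by
      rw [← Finset.add_sum_erase _ _ (Finset.mem_univ (1 : P))]
      congr 1
      refine Finset.sum_bij' (fun y hy => (⟨y.1, y.2, fun h =>
          Finset.ne_of_mem_erase hy (Subtype.ext h)⟩ : P0))
        (fun y _ => (⟨y.1, y.2.1⟩ : P)) (fun _ _ => Finset.mem_univ _)
        (fun y _ => Finset.mem_erase.2 ⟨fun h => y.2.2 (congrArg Subtype.val h), Finset.mem_univ _⟩)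
        (fun _ _ => rfl) (fun _ _ => rfl) (fun _ _ => rfl)
    have hPval : ∑ y : P, f y = (p : ℝ) * ∑ l, (m l : ℝ) ^ 2 := by
      have h' : ((∑ y : P, f y : ℝ) : ℂ) = (((p : ℝ) * ∑ l, (m l : ℝ) ^ 2 : ℝ) : ℂ) := by
        push_cast
        rw [← hnorm2]
        exact Finset.sum_congr rfl fun g _ => (Complex.mul_conj _).symm
      exact_mod_cast h'
    have hGN : (Nat.card G : ℝ) = (N.index : ℝ) * ((p * e : ℕ) : ℝ) := by
      rw [← hNcard, ← Nat.cast_mul, Subgroup.index_mul_card]
    have h01 : 0 ≤ f 1 := Complex.normSq_nonneg _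
    have hidx : (1 : ℝ) ≤ (N.index : ℝ) := by
      exact_mod_cast Nat.one_le_iff_ne_zero.2 Subgroup.index_ne_zero_of_finite
    have hP0le : ∑ y : P0, f y.1 ≤ ((p * e : ℕ) : ℝ) := by
      refine le_of_mul_le_mul_left (a := (N.index : ℝ)) ?_ (by linarith)
      rw [← hGN, ← hjv, ← hG]
      linarith
    have hfin : (p : ℝ) * ∑ l, (m l : ℝ) ^ 2 ≤ (((p - 1 : ℕ) : ℝ)) ^ 2 + ((p * e : ℕ) : ℝ) := by
      rw [← hPval, hPsum, h1v]
      linarith
    rw [mul_comm e p]
    exact_mod_cast hfin
  have hea : e ∣ a := by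
    have hpa : (p : ℂ) * (a : ℂ) = ∑ y : P, ρ.character y := by
      have := hm (principal P)
      rw [← ha, Cfsg.classInner, hPcard, inv_mul_eq_iff_eq_mul₀ hp0] at this
      rw [← this]
      exact Finset.sum_congr rfl fun y _ => by
        show σ.character y * starRingEnd ℂ (1 : ℂ) = _
        rw [map_one, mul_one]; rfl
    have hint : IsIntegral ℤ (((p * a : ℕ) : ℂ) / ((e : ℕ) : ℂ)) := by
      have hcf := IsCharacter.isClassFunction (isCharacter_of_rep ρ)
      haveI : Fintype {C : ConjClasses G // ∃ g ∈ C.carrier, orderOf g = p} := Fintype.ofFinite _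
      have h2 : ∑ y : P, ρ.character y = ((p - 1 : ℕ) : ℂ) + (e : ℂ) *
          ∑ C : {C : ConjClasses G // ∃ g ∈ C.carrier, orderOf g = p},
            ρ.character (Function.surjInv hcl C).1 := by
        rw [← Finset.add_sum_erase _ _ (Finset.mem_univ (1 : P))]
        congr 1
        rw [show ∑ y ∈ Finset.univ.erase (1 : P), ρ.character (y : G) =
          ∑ y : P0, ρ.character y.1 from Finset.sum_bij' (fun y hy => (⟨y.1, y.2, fun h =>
            Finset.ne_of_mem_erase hy (Subtype.ext h)⟩ : P0))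
          (fun y _ => (⟨y.1, y.2.1⟩ : P)) (fun _ _ => Finset.mem_univ _)
          (fun y _ => Finset.mem_erase.2 ⟨fun h => y.2.2 (congrArg Subtype.val h), Finset.mem_univ _⟩)
          (fun _ _ => rfl) (fun _ _ => rfl) (fun _ _ => rfl),
          ← Finset.sum_fiberwise Finset.univ cl, Finset.mul_sum]
        refine Finset.sum_congr rfl fun C _ => ?_
        rw [Finset.sum_congr rfl (g := fun _ => ρ.character (Function.surjInv hcl C).1)
          fun y hy => ?_, Finset.sum_const, nsmul_eq_mul]
        · congr 2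
          have := hfib (Function.surjInv hcl C)
          rw [Nat.card_eq_fintype_card, Fintype.card_subtype, Function.surjInv_eq hcl] at this
          exact this
        · have e1 : cl y = C := (Finset.mem_filter.1 hy).2
          have e2 := Function.surjInv_eq hcl C
          have e3 : IsConj y.1 (Function.surjInv hcl C).1 := ConjClasses.mk_eq_mk_iff_isConj.1
            (congrArg Subtype.val (e1.trans e2.symm))
          exact (Char.isClassFunction_iff.1 hcf) _ _ e3
      have he0 : ((e : ℕ) : ℂ) ≠ 0 := Nat.cast_ne_zero.2 Subgroup.index_ne_zero_of_finite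
      have h3 : ((p * a : ℕ) : ℂ) / ((e : ℕ) : ℂ) =
          (t : ℂ) + ∑ C : {C : ConjClasses G // ∃ g ∈ C.carrier, orderOf g = p},
            ρ.character (Function.surjInv hcl C).1 := by
        rw [div_eq_iff he0, Nat.cast_mul p a, hpa, h2, hte, Nat.cast_mul]; ring
      rw [h3]
      exact ((IsIntegral.sum _ fun C _ =>
        IsCharacter.isIntegral (isCharacter_of_rep ρ) _) |> ((isIntegral_algebraMap (R := ℤ) (A := ℂ) (x := (t : ℤ)) |> fun h => (by simpa using h : IsIntegral ℤ (t : ℂ)))).add)
    have hdvd : e ∣ p * a := Char.dvd_of_isIntegral_div Subgroup.index_ne_zero_of_finite hint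
    refine Nat.Coprime.dvd_of_dvd_mul_left ?_ hdvd
    refine ((hp.coprime_iff_not_dvd).2 fun h => ?_).symm
    have h1 : p ≤ e := Nat.le_of_dvd (Nat.pos_of_ne_zero Subgroup.index_ne_zero_of_finite) h
    have h2 : e ≤ p - 1 := by
      rw [hte]; exact Nat.le_mul_of_pos_left e (Nat.pos_of_ne_zero fun h0 => by simp [h0] at hto)
    have := hp.one_lt
    omega
  have ha0 : a = 0 := by
    obtain ⟨j, hj⟩ := hea
    have hrest : ∑ l ∈ Finset.univ.erase (principal P), m l ≤
        ∑ l ∈ Finset.univ.erase (principal P), m l ^ 2 :=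
      Finset.sum_le_sum fun l _ => Nat.le_self_pow two_ne_zero _
    rw [← Finset.add_sum_erase _ _ (Finset.mem_univ (principal P)), ← ha] at hsum
    rw [← Finset.add_sum_erase _ _ (Finset.mem_univ (principal P)), ← ha] at hbound
    by_contra hne
    have he2' : 2 ≤ e := by
      obtain ⟨c, hc⟩ := he2
      have : e ≠ 0 := Subgroup.index_ne_zero_of_finite
      omega
    have hae : e ≤ a := Nat.le_of_dvd (Nat.pos_of_ne_zero hne) ⟨j, hj⟩
    have hpp : p = (p - 1) + 1 := by have := hp.one_lt; omega
    generalize ∑ l ∈ Finset.univ.erase (principal P), m l = A at *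
    generalize ∑ l ∈ Finset.univ.erase (principal P), m l ^ 2 = B at *
    have h1 : p * (a ^ 2 + A) ≤ (p - 1) ^ 2 + e * p :=
      le_trans (Nat.mul_le_mul_left p (Nat.add_le_add_left hrest _)) hbound
    have h3 : p * (a + e) ≤ p * a ^ 2 := by
      refine Nat.mul_le_mul_left p ?_
      calc a + e ≤ a + a := Nat.add_le_add_left hae a
        _ = 2 * a := (two_mul a).symm
        _ ≤ a * a := Nat.mul_le_mul_right a (he2'.trans hae)
        _ = a ^ 2 := (pow_two a).symm
    have h4 : p * (a + A) = p * (p - 1) := congrArg (p * ·) hsum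
    have h5 : (p - 1) ^ 2 < p * (p - 1) := by
      rw [pow_two]
      exact Nat.mul_lt_mul_of_pos_right (by omega) (by have := hp.one_lt; omega)
    rw [mul_add] at h1 h3 h4
    rw [mul_comm e p] at h1
    omega
  have hzero : ∀ v, ∑ z : P, ρ (z : G) v = 0 := by
    haveI : Invertible (Fintype.card P : ℂ) :=
      invertibleOfNonzero (Nat.cast_ne_zero.2 Fintype.card_ne_zero)
    haveI : Invertible (Nat.card P : ℂ) :=
      invertibleOfNonzero (Nat.cast_ne_zero.2 Nat.card_pos.ne')
    have hinv : σ.invariants = ⊥ := by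
      rw [← Submodule.finrank_eq_zero, ← Nat.cast_eq_zero (R := ℂ)]
      have h := (Representation.isProj_averageMap σ).trace
      rw [← h]
      have := hm (principal P)
      rw [← ha, ha0, Nat.cast_zero, Cfsg.classInner] at this
      rw [← this]
      simp [Representation.averageMap, GroupAlgebra.average, principal, Representation.character,
        Nat.card_eq_fintype_card, Finset.mul_sum]
    intro v
    have hmem : (∑ z : P, ρ (z : G) v) ∈ σ.invariants := fun w => by
      show ρ (w : G) (∑ z : P, ρ (z : G) v) = _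
      rw [map_sum]
      refine Fintype.sum_equiv (Equiv.mulLeft w) _ _ fun z => ?_
      rw [← Module.End.mul_apply, ← map_mul]
      rfl
    rwa [hinv, Submodule.mem_bot] at hmem
  have hvan : ∀ g ∈ N, g ∉ P → ρ.character g = 0 := by
    intro g hg hgP
    let ψ : P → P := fun z => ⟨(z : G) * (g * (z : G)⁻¹ * g⁻¹),
      mul_mem z.2 ((Subgroup.mem_normalizer_iff.1 hg _).1 (inv_mem z.2))⟩
    have hψ : Function.Injective ψ := by
      intro a b h
      have h' : (a : G) * (g * (a : G)⁻¹ * g⁻¹) = (b : G) * (g * (b : G)⁻¹ * g⁻¹) :=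
        congrArg Subtype.val h
      by_contra hne
      refine hgP (hcen ((b⁻¹ * a : P) : G) (b⁻¹ * a).2 ?_ g ?_)
      · exact fun e => hne (inv_mul_eq_one.1 (Subtype.ext e)).symm
      · show g * ((b : G)⁻¹ * a) = (b : G)⁻¹ * a * g
        calc g * ((b : G)⁻¹ * a)
            = (b : G)⁻¹ * ((b : G) * (g * (b : G)⁻¹ * g⁻¹)) * g * a := by group
          _ = (b : G)⁻¹ * ((a : G) * (g * (a : G)⁻¹ * g⁻¹)) * g * a := by rw [h']
          _ = _ := by group
    have hsum0 : ∑ z : P, ρ.character ((z : G) * g) = 0 := by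
      have h0 : ∑ z : P, ρ ((z : G) * g) = 0 := LinearMap.ext fun v => by
        rw [LinearMap.sum_apply, LinearMap.zero_apply]
        simpa [map_mul, Module.End.mul_apply] using hzero (ρ g v)
      have := congrArg (LinearMap.trace ℂ V) h0
      rw [map_sum, map_zero] at this
      exact this
    have hconst : ∀ z : P, ρ.character ((z : G) * g) = ρ.character g := by
      intro z
      obtain ⟨w, rfl⟩ := (Finite.injective_iff_surjective.1 hψ) z
      show ρ.character ((w : G) * (g * (w : G)⁻¹ * g⁻¹) * g) = _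
      rw [show (w : G) * (g * (w : G)⁻¹ * g⁻¹) * g = (w : G) * g * (w : G)⁻¹ by group]
      exact IsCharacter.isClassFunction (isCharacter_of_rep ρ) g w
    rw [Finset.sum_congr rfl (fun z _ => hconst z), Finset.sum_const, Finset.card_univ,
      nsmul_eq_mul] at hsum0
    exact (mul_eq_zero.1 hsum0).resolve_left (Nat.cast_ne_zero.2 Fintype.card_ne_zero)
  -- a generator of the cyclic complement
  haveI : IsCyclic (N ⧸ P.subgroupOf N) := by
    let φ : N →* MulAut P := Subgroup.normalizerMonoidHom P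
    have hker : φ.ker = P.subgroupOf N := by
      rw [Subgroup.normalizerMonoidHom_ker]
      ext g
      rw [Subgroup.mem_subgroupOf, Subgroup.mem_subgroupOf, Subgroup.mem_centralizer_iff]
      constructor
      · intro h
        rw [← hC, Subgroup.mem_centralizer_singleton_iff]
        exact (h x (Subgroup.mem_zpowers x)).symm
      · intro h y hy
        obtain ⟨i, hi⟩ := Subgroup.mem_zpowers_iff.1 h
        obtain ⟨k, rfl⟩ := Subgroup.mem_zpowers_iff.1 hy
        rw [← hi]
        exact (((Commute.refl x).zpow_left k).zpow_right i).eq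
    haveI : IsCyclic P := Subgroup.isCyclic_zpowers x
    haveI : IsCyclic (MulAut P) := by
      haveI : IsCyclic (ZMod (Nat.card P))ˣ := by
        rw [hPcard]; exact ZMod.isCyclic_units_prime hp
      exact isCyclic_of_surjective _ (IsCyclic.mulAutMulEquiv P).symm.surjective
    haveI : IsCyclic φ.range := Subgroup.isCyclic _
    exact isCyclic_of_surjective
      ((QuotientGroup.quotientKerEquivRange φ).symm.trans
        (QuotientGroup.quotientMulEquivOfEq hker)).toMonoidHom
      (MulEquiv.surjective _)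
  obtain ⟨q, hq⟩ := IsCyclic.exists_generator (α := N ⧸ P.subgroupOf N)
  obtain ⟨⟨g, hgN⟩, rfl⟩ := QuotientGroup.mk_surjective q
  have hqord : orderOf ((⟨g, hgN⟩ : N) : N ⧸ P.subgroupOf N) = e := by
    rw [orderOf_eq_card_of_forall_mem_zpowers hq, he, Subgroup.index_eq_card]
  have hge : g ^ e = 1 := by
    have h1 : ((⟨g, hgN⟩ ^ e : N) : N ⧸ P.subgroupOf N) = 1 := by
      rw [QuotientGroup.mk_pow, ← hqord, pow_orderOf_eq_one]
    have h2 : g ^ e ∈ P :=
      Subgroup.mem_subgroupOf.1 ((QuotientGroup.eq_one_iff ((⟨g, hgN⟩ : N) ^ e)).1 h1)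
    by_contra hne
    have hgP : g ∈ P := hcen _ h2 hne g ((Commute.refl g).pow_right e).eq
    have h3 : ((⟨g, hgN⟩ : N) : N ⧸ P.subgroupOf N) = 1 := (QuotientGroup.eq_one_iff _).2 hgP
    rw [h3, orderOf_one] at hqord
    exact Nat.not_even_one (hqord ▸ he2)
  have hord' : orderOf g = e := by
    refine Nat.dvd_antisymm (orderOf_dvd_of_pow_eq_one hge) ?_
    rw [← hqord]
    refine orderOf_dvd_of_pow_eq_one ?_
    rw [← QuotientGroup.mk_pow, show (⟨g, hgN⟩ : N) ^ orderOf g = 1 from
      Subtype.ext (pow_orderOf_eq_one g), QuotientGroup.mk_one]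
  let T := Subgroup.zpowers g
  let τ : Representation ℂ T V := ρ.comp T.subtype
  have hdet := det_gen τ ⟨g, Subgroup.mem_zpowers g⟩ (fun z => by
      obtain ⟨i, hi⟩ := Subgroup.mem_zpowers_iff.1 z.2
      exact ⟨i, Subtype.ext hi⟩)
    (by rw [Nat.card_zpowers, hord']; exact he2) t hto
    (by
      show ρ.character ((1 : T) : G) = _
      rw [OneMemClass.coe_one, hdeg, Nat.card_zpowers, hord', hte, mul_comm])
    (fun z hz => by
      obtain ⟨k, hk⟩ := Subgroup.mem_zpowers_iff.1 z.2
      refine hvan (z : G) ((Subgroup.zpowers_le.2 hgN) z.2) fun hzP => hz (Subtype.ext ?_)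
      by_contra hne
      refine Nat.not_even_one ?_
      have hgP : g ∈ P := hcen _ hzP hne g (by rw [← hk]; exact ((Commute.refl g).zpow_right k).eq)
      have h3 : ((⟨g, hgN⟩ : N) : N ⧸ P.subgroupOf N) = 1 := (QuotientGroup.eq_one_iff _).2 hgP
      rw [h3, orderOf_one] at hqord
      exact hqord ▸ he2)
  exact even_index (CharExtend.detHom ρ) g (by rw [CharExtend.detHom_apply]; exact hdet)

/-- Let the finite group G contain an element x of prime order p with C_G(x) = ⟨x⟩, and let t be the number of conjugacy classes of elements of order p. If G has an irreducible character of degree p − 1, then t is even or the commutator subgroup has even index. -/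
theorem result {G : Type*} [Group G] [Finite G] (p : ℕ) (hp : p.Prime) (x : G) (hx : orderOf x = p) (hC : Subgroup.centralizer ({x} : Set G) = Subgroup.zpowers x) (t : ℕ) (ht : Nat.card {C : ConjClasses G // ∃ g ∈ C.carrier, orderOf g = p} = t) (χ : Cfsg.IrrCharacter G) (hχ : Cfsg.charDegree (χ : G → ℂ) + 1 = p) : Even t ∨ Even (commutator G).index := by
  obtain ⟨d, ρ, hρ, hρc⟩ := χ.2
  refine main hp x hx hC t ht ρ (hρc ▸ χ.2) ?_
  rw [hρc, Cfsg.Agent.CharX.irr_deg]
  congr 1
  omega

end Cfsg.Agent.S4508
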