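import Cfsg.Statements.S0170
import Cfsg.Agent.Lib.Char.Isometry
-- import your own Cfsg.Agent.* helpers here

set_option autoImplicit false
open Cfsg

namespace Cfsg.Agent.S0170

/-- Exceptional characters. Let S be a subset of a finite group contained in its normalizer N and meeting its conjugates by elements outside N only in the identity. Given n ≥ 2 distinct irreducible characters of N of equal degree that vanish on N away from S, there exist a sign ε and n distinct irreducible characters θ_i of G such that inducing χ_i − χ_j to G gives ε (θ_i − θ_j) for all i, j. -/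
theorem result {G : Type*} [Group G] [Fintype G] (S : Set G) (hSN : S ⊆ Subgroup.normalizer S) (hTI : ∀ g : G, g ∉ Subgroup.normalizer S → ∀ s ∈ S, g * s * g⁻¹ ∈ S → s = 1) (n : ℕ) (hn : 2 ≤ n) (χ : Fin n → (Subgroup.normalizer S → ℂ)) (hirr : ∀ i, Cfsg.IsIrrCharacter (Subgroup.normalizer S) (χ i)) (hinj : Function.Injective χ) (hvan : ∀ i, ∀ x : Subgroup.normalizer S, (x : G) ∉ S → χ i x = 0) (hdeg : ∀ i j, χ i 1 = χ j 1) : ∃ ε : ℂ, (ε = 1 ∨ ε = -1) ∧ ∃ θ : Fin n → (G → ℂ), (∀ i, Cfsg.IsIrrCharacter G (θ i)) ∧ Function.Injective θ ∧ ∀ i j, Cfsg.indFun (Subgroup.normalizer S) (χ i) - Cfsg.indFun (Subgroup.normalizer S) (χ j) = ε • (θ i - θ j) := by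
  classical
  haveI : Fintype (Subgroup.normalizer S) := Fintype.ofFinite _
  have hcl : ∀ i j, Cfsg.IsClassFunction (Subgroup.normalizer S) (χ i - χ j) := fun i j =>
    Cfsg.Agent.Char.IsClassFunction.sub
      (Cfsg.Agent.Char.IsCharacter.isClassFunction (Cfsg.Agent.Char.IsIrrCharacter.isCharacter (hirr i)))
      (Cfsg.Agent.Char.IsCharacter.isClassFunction (Cfsg.Agent.Char.IsIrrCharacter.isCharacter (hirr j)))
  let i₀ : Fin n := ⟨0, by omega⟩
  obtain ⟨ε, hε, μ, h1, h2, h3⟩ := Cfsg.Agent.Char.isometry_lemma i₀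
    (fun i => Cfsg.indFun (Subgroup.normalizer S) (χ i - χ i₀))
    (by simp only [sub_self]; exact Cfsg.Agent.Char.indFun_zero _)
    (fun i => Cfsg.Agent.Char.IsGeneralizedCharacter.indFun _
      ⟨χ i, χ i₀, Cfsg.Agent.Char.IsIrrCharacter.isCharacter (hirr i),
        Cfsg.Agent.Char.IsIrrCharacter.isCharacter (hirr i₀), rfl⟩)
    (fun i => by rw [Cfsg.Agent.Char.indFun_one_apply, Pi.sub_apply, hdeg i i₀, sub_self, mul_zero])
    (fun i j hi hj => by
      rw [Cfsg.Agent.Char.classInner_indFun_TI S hTI _ _ (hcl j i₀)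
        (fun x hx => by simp [hvan _ x hx]) (fun x hx => by simp [hvan _ x hx])
        (by simp [hdeg i i₀])]
      simp only [Cfsg.Agent.Char.classInner_sub_left, Cfsg.Agent.Char.classInner_sub_right,
        Cfsg.Agent.Char.classInner_irr (hirr i) (hirr j), Cfsg.Agent.Char.classInner_irr (hirr i) (hirr i₀),
        Cfsg.Agent.Char.classInner_irr (hirr i₀) (hirr j), Cfsg.Agent.Char.classInner_irr (hirr i₀) (hirr i₀),
        hinj.eq_iff, if_neg hi, if_neg (Ne.symm hj), if_true]
      split_ifs <;> norm_num)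
  refine ⟨ε, hε, μ, h1, h2, fun i j => ?_⟩
  have hi := h3 i
  have hj := h3 j
  simp only [Cfsg.Agent.Char.indFun_sub] at hi hj
  rw [smul_sub] at hi hj ⊢
  linear_combination (norm := module) hi - hj


end Cfsg.Agent.S0170
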