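import Cfsg.Statements.S0327
import Cfsg.Agent.Lib.Suzuki.Group
-- import your own Cfsg.Agent.* helpers here

set_option autoImplicit false
open Cfsg

namespace Cfsg.Agent.S0327

/-- The Suzuki group (`m ≥ 1`) is a Zassenhaus group on the `q² + 1` points of the Suzuki–Tits ovoid. -/
theorem result {F : Type*} [Field F] [Fintype F] {m : ℕ} (hm : 1 ≤ m)
    (hF : Fintype.card F = 2 ^ (2 * m + 1)) :
    Cfsg.IsZassenhausGroup (Cfsg.Sz F m) (Cfsg.suzukiOvoid F m) := by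
  have h : Cfsg.Agent.Suzuki.SzField F m := ⟨hm, hF⟩
  have hone : ∃ k : Fˣ, k ≠ 1 := by
    by_contra hall
    push Not at hall
    have : Subsingleton Fˣ := ⟨fun x y => (hall x).trans (hall y).symm⟩
    have h1 := h.card_units_natCard
    rw [Nat.card_unique, ← h.card] at h1
    have := h.eight_le_card
    omega
  obtain ⟨k, hk⟩ := hone
  have hHk : Cfsg.Agent.Suzuki.H h k ≠ 1 := fun e =>
    hk (Cfsg.Agent.Suzuki.H_injective h (e.trans (Cfsg.Agent.Suzuki.H_one h).symm))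
  let i0 : Cfsg.suzukiOvoid F m := ⟨_, Cfsg.Agent.Suzuki.pinf_mem⟩
  let z0 : Cfsg.suzukiOvoid F m := ⟨_, Cfsg.Agent.Suzuki.pt_mem (0 : F) 0⟩
  have hne : i0 ≠ z0 := fun e => Cfsg.Agent.Suzuki.pt_ne_pinf _ _ (congrArg Subtype.val e).symm
  have hiz : Cfsg.Agent.Suzuki.H h k • i0 = i0 ∧ Cfsg.Agent.Suzuki.H h k • z0 = z0 :=
    ⟨Subtype.ext (Cfsg.Agent.Suzuki.H_smul_pinf h k), Subtype.ext (Cfsg.Agent.Suzuki.H_smul_pt_zero h k)⟩
  have h3 : ∀ g : Cfsg.Sz F m, ∀ a b c : Cfsg.suzukiOvoid F m, a ≠ b → b ≠ c → a ≠ c →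
      g • a = a → g • b = b → g • c = c → g = 1 := fun g a b c hab hbc hac ga gb gc =>
    Cfsg.Agent.Suzuki.fix_three h a.2 b.2 c.2 (fun e => hab (Subtype.ext e))
      (fun e => hbc (Subtype.ext e)) (fun e => hac (Subtype.ext e))
      (congrArg Subtype.val ga) (congrArg Subtype.val gb) (congrArg Subtype.val gc)
  refine ⟨⟨fun {g g'} e => ?_⟩, ?_, h3, ⟨_, hHk, i0, z0, hne, hiz.1, hiz.2⟩, ?_⟩
  · let o0 : Cfsg.suzukiOvoid F m := ⟨_, Cfsg.Agent.Suzuki.pt_mem (1 : F) 0⟩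
    have key := h3 (g'⁻¹ * g) i0 z0 o0 hne
      (fun e => zero_ne_one (Cfsg.Agent.Suzuki.pt_inj (congrArg Subtype.val e)).1)
      (fun e => Cfsg.Agent.Suzuki.pt_ne_pinf _ _ (congrArg Subtype.val e).symm)
      (by rw [mul_smul, e, inv_smul_smul]) (by rw [mul_smul, e, inv_smul_smul])
      (by rw [mul_smul, e, inv_smul_smul])
    exact (inv_mul_eq_one.mp key).symm
  · rw [MulAction.is_two_pretransitive_iff]
    intro a b c d hab hcd
    obtain ⟨u, hu1, hu2⟩ := Cfsg.Agent.Suzuki.exists_smul_pair h a.2 b.2 (fun e => hab (Subtype.ext e))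
    obtain ⟨v, hv1, hv2⟩ := Cfsg.Agent.Suzuki.exists_smul_pair h c.2 d.2 (fun e => hcd (Subtype.ext e))
    refine ⟨v * u⁻¹, Subtype.ext ?_, Subtype.ext ?_⟩
    · show (v * u⁻¹) • (a : Projectivization F (Fin 4 → F)) = c
      rw [← hu1, mul_smul, inv_smul_smul, hv1]
    · show (v * u⁻¹) • (b : Projectivization F (Fin 4 → F)) = d
      rw [← hu2, mul_smul, inv_smul_smul, hv2]
  · intro N hN htr
    have : IsSimpleGroup (Cfsg.Sz F m) := Cfsg.Agent.Suzuki.isSimple h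
    rcases hN.eq_bot_or_eq_top with rfl | rfl
    · exfalso
      obtain ⟨⟨n, hn⟩, e⟩ := htr.exists_smul_eq i0 z0
      have hn1 : n = 1 := Subgroup.mem_bot.mp hn
      subst hn1
      exact hne ((one_smul _ i0).symm.trans e)
    · refine ⟨i0, fun e => hHk ?_⟩
      have hm' : (⟨Cfsg.Agent.Suzuki.H h k, Subgroup.mem_top _⟩ : (⊤ : Subgroup (Cfsg.Sz F m))) ∈
          MulAction.stabilizer (⊤ : Subgroup (Cfsg.Sz F m)) i0 := hiz.1
      rw [e, Subgroup.mem_bot] at hm'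
      exact congrArg Subtype.val hm'

end Cfsg.Agent.S0327
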