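import Cfsg.Statements.S3693
import Cfsg.Agent.Lib.TW.Bound

set_option autoImplicit false
open Cfsg

namespace Cfsg.Agent.S3693

open Cfsg.Agent MulAction in
/-- The cores of the two-point stabiliser are trivial. -/
theorem opCore_inter_eq_bot {G Ω : Type*} [Group G] [Finite G] [MulAction G Ω] [FaithfulSMul G Ω] [Finite Ω]
    [Nontrivial Ω] (hprim : IsPreprimitive G Ω) (a b : Ω) (d : ℕ)
    (hd : Nat.card (orbit (stabilizer G a) b) = d) (h2 : 2 ≤ d)
    (hF : Cfsg.fittingSubgroup ↥(((stabilizer G b).subgroupOf (stabilizer G a)).map (toPermHom (stabilizer G a) (orbit (stabilizer G a) b))) = ⊥)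
    {p : ℕ} [Fact p.Prime] : TW.opCore p (stabilizer G a ⊓ stabilizer G b) = ⊥ := by
  by_contra hne
  set A := stabilizer G b
  set Z := stabilizer G a
  set M := TW.opCore p (Z ⊓ A)
  have hMD : M ≤ Z ⊓ A := TW.opCore_le p _
  -- the core acts trivially on the suborbit
  have hfix : ∀ x ∈ M, ∀ w, TW.Arc (G := G) a b a w → x • w = w := by
    intro x hx w hw
    set π := toPermHom Z (orbit Z b)
    have hn : (M.subgroupOf Z).map π ≤ (A.subgroupOf Z).map π :=
      Subgroup.map_mono fun y hy => (hMD hy).2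
    set I := (A.subgroupOf Z).map π
    set N := ((M.subgroupOf Z).map π).subgroupOf I
    have hNn : N.Normal := by
      refine (Subgroup.normal_subgroupOf_iff_le_normalizer hn).2 ?_
      refine (Subgroup.map_mono ?_).trans (Subgroup.le_normalizer_map π)
      intro y hy
      rw [Subgroup.mem_normalizer_iff]
      exact fun z => Subgroup.mem_normalizer_iff.1
        (TW.le_normalizer_opCore p (Z ⊓ A) ⟨y.2, hy⟩) z
    have hNp : IsPGroup p N :=
      (((TW.opCore_isPGroup p _).comap_subtype).map π).comap_subtype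
    have hle : N ≤ Cfsg.fittingSubgroup I := by
      haveI := hNp.isNilpotent
      exact FittingCores.le_fitting hNn inferInstance
    rw [hF, le_bot_iff] at hle
    have hxN : (⟨π ⟨x, (hMD hx).1⟩, hn ⟨_, hx, rfl⟩⟩ : I) ∈ N := ⟨_, hx, rfl⟩
    rw [hle, Subgroup.mem_bot] at hxN
    exact TW.toPermHom_eq_one_iff.1 (congrArg Subtype.val hxN) w hw
  -- hence it lies in the kernel on the suborbit, so is normal in the stabiliser
  set K := TW.predKern (G := G) b a a
  have harc : TW.Arc (G := G) b a b a := TW.arc_self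
  have hMK : M ≤ K := fun x hx => TW.mem_predKern.2 ⟨(hMD hx).1, fun u hu =>
    hfix x hx u (TW.arc_swap.1 hu)⟩
  have hKD : K ≤ Z ⊓ A := le_inf (TW.predKern_le a) (TW.predKern_le_of_arc harc)
  have hMeq : M = TW.opCore p K :=
    le_antisymm (TW.le_opCore ((TW.SubnormalIn.of_normalizes hMD
      (TW.le_normalizer_opCore p _)).restrict hMK hKD) (TW.opCore_isPGroup p _))
      (TW.le_opCore ((TW.SubnormalIn.of_normalizes (TW.opCore_le p K)
        (TW.le_normalizer_opCore p K)).trans (TW.SubnormalIn.of_normalizes hKD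
          (inf_le_left.trans (TW.le_normalizer_predKern a)))) (TW.opCore_isPGroup p _))
  have hMZ : M ≤ TW.opCore p Z := hMeq ▸ TW.le_opCore
    ((TW.SubnormalIn.of_normalizes (TW.opCore_le p K) (TW.le_normalizer_opCore p K)).trans
      (TW.subnormal_predKern a)) (TW.opCore_isPGroup p _)
  have hZM : Z ≤ Subgroup.normalizer (M : Set G) := by
    intro g hg
    have hK : K.map (MulAut.conj g).toMonoidHom = K :=
      Subgroup.mem_normalizer_iff_map_conj_eq.1 (TW.le_normalizer_predKern a hg)
    rw [Subgroup.mem_normalizer_iff_map_conj_eq, hMeq]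
    exact (TW.opCore_map_conj p K g).symm.trans (congrArg (TW.opCore p) hK)
  have hN := TW.normalizer_le_stabilizer hprim (hMD.trans inf_le_left) hZM hne
  have hAM : TW.opCore p A ≤ M := by
    refine TW.le_of_normalizer_le (TW.opCore_isPGroup p _) (TW.opCore_isPGroup p A)
      ((hMD.trans inf_le_right).trans (TW.le_normalizer_opCore p A)) hN ?_
    refine TW.le_opCore (TW.SubnormalIn.of_normalizes
      (le_inf inf_le_right (inf_le_left.trans (TW.opCore_le p A))) ?_)
      ((TW.opCore_isPGroup p A).to_le inf_le_left)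
    intro g hg
    rw [Subgroup.mem_normalizer_iff]
    intro x
    show x ∈ TW.opCore p A ∧ x ∈ Z ↔ g * x * g⁻¹ ∈ TW.opCore p A ∧ g * x * g⁻¹ ∈ Z
    rw [← Subgroup.mem_normalizer_iff.1 (TW.le_normalizer_opCore p A hg.2) x,
      ← Subgroup.mem_normalizer_iff.1 (Subgroup.le_normalizer hg.1) x]
  have heq : TW.opCore p A = TW.opCore p Z :=
    Subgroup.eq_of_le_of_card_ge (hAM.trans hMZ) (TW.card_opCore_eq hprim p a b).le
  have hZne : TW.opCore p Z ≠ ⊥ := fun h => hne (le_bot_iff.1 (h ▸ hMZ))
  apply TW.stabilizer_ne a b hd h2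
  refine le_antisymm ((TW.le_normalizer_opCore p Z).trans ?_) ((TW.le_normalizer_opCore p A).trans ?_)
  · rw [← heq]
    exact TW.normalizer_le_stabilizer hprim (TW.opCore_le p A) (TW.le_normalizer_opCore p A)
      (heq ▸ hZne)
  · rw [heq]
    exact TW.normalizer_le_stabilizer hprim (TW.opCore_le p Z) (TW.le_normalizer_opCore p Z) hZne

/-- Let a finite group G act faithfully and primitively on a set Ω, let a and b be points such that the orbit Δ of b under the stabilizer H of a has length d ≥ 2, and consider the permutation group induced on Δ by the elements of H fixing b. If that induced group has trivial Fitting subgroup (no non-trivial nilpotent normal subgroup), then the two-point stabilizer of a and b has trivial Fitting subgroup and the order of H divides d! · ((d - 1)!)^d. -/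
theorem result {G Ω : Type*} [Group G] [Finite G] [MulAction G Ω] [FaithfulSMul G Ω] [Finite Ω]
    (hprim : MulAction.IsPreprimitive G Ω) (a b : Ω) (d : ℕ) (hd : Nat.card (MulAction.orbit (MulAction.stabilizer G a) b) = d) (h2 : 2 ≤ d)
    (hF : Cfsg.fittingSubgroup ↥(((MulAction.stabilizer G b).subgroupOf (MulAction.stabilizer G a)).map (MulAction.toPermHom (MulAction.stabilizer G a) (MulAction.orbit (MulAction.stabilizer G a) b))) = ⊥) :
    Cfsg.fittingSubgroup ↥(MulAction.stabilizer G a ⊓ MulAction.stabilizer G b) = ⊥ ∧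
      Nat.card (MulAction.stabilizer G a) ∣ Nat.factorial d * (Nat.factorial (d - 1)) ^ d := by
  have := Cfsg.Agent.TW.nontrivial_points a b hd h2
  have hD : ∀ p : ℕ, p.Prime →
      Cfsg.Agent.TW.opCore p (MulAction.stabilizer G a ⊓ MulAction.stabilizer G b) = ⊥ := fun p hp =>
    haveI : Fact p.Prime := ⟨hp⟩
    opCore_inter_eq_bot hprim a b d hd h2 hF
  have hF2 : Cfsg.fittingSubgroup ↥(MulAction.stabilizer G a ⊓ MulAction.stabilizer G b) = ⊥ :=
    Cfsg.Agent.TW.fittingSubgroup_eq_bot_of_pCore fun p hp =>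
      (Subgroup.map_eq_bot_iff_of_injective _ (Subgroup.subtype_injective _)).1 (hD p hp)
  refine ⟨hF2, ?_⟩
  by_cases hE : ∃ p : ℕ, p.Prime ∧ Cfsg.pCore p (MulAction.stabilizer G a) ≠ ⊥
  · obtain ⟨p, hp, hne⟩ := hE
    have : Fact p.Prime := ⟨hp⟩
    have hPp := Cfsg.Agent.TW.isPGroup_kern_of_pCore_ne_bot hprim a b hd h2 hne
    refine Cfsg.Agent.TW.card_stabilizer_dvd_of_kern_eq_bot hprim a b hd ?_
    rw [eq_bot_iff, ← hD p hp]
    have hle : Cfsg.Agent.TW.kern (G := G) a b a ≤ MulAction.stabilizer G a ⊓ MulAction.stabilizer G b :=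
      le_inf (Cfsg.Agent.TW.kern_le a) (Cfsg.Agent.TW.kern_le_head Cfsg.Agent.TW.arc_self)
    exact Cfsg.Agent.TW.le_opCore (Cfsg.Agent.TW.SubnormalIn.of_normalizes hle
      (inf_le_left.trans (Cfsg.Agent.TW.le_normalizer_kern a))) hPp
  · push Not at hE
    exact Cfsg.Agent.TW.card_dvd_of_fitting_eq_bot hprim a b hd h2
      (Cfsg.Agent.TW.fittingSubgroup_eq_bot_of_pCore hE)

end Cfsg.Agent.S3693
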