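import Cfsg.Statements.S4051
import Cfsg.Agent.Lib.Solvable.Coprime
import Cfsg.Agent.Lib.Transfer.Basic

set_option autoImplicit false
set_option linter.style.haveILetI false

namespace Cfsg.Agent.S4051Aux

open Cfsg.Agent
open scoped Pointwise

variable {G : Type*} [Group G] [Finite G]

/-- `π`-number. -/
def IsPiNum (π : Set ℕ) (n : ℕ) : Prop := ∀ q : ℕ, q.Prime → q ∣ n → q ∈ π

lemma IsPiNum.mul {π : Set ℕ} {a b : ℕ} (ha : IsPiNum π a) (hb : IsPiNum π b) : IsPiNum π (a * b) :=
  fun q hq h => (hq.dvd_mul.1 h).elim (ha q hq) (hb q hq)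

lemma IsPiNum.dvd {π : Set ℕ} {a b : ℕ} (hb : IsPiNum π b) (h : a ∣ b) : IsPiNum π a :=
  fun q hq ha => hb q hq (ha.trans h)

lemma coprime_of {π : Set ℕ} {a b : ℕ} (ha : IsPiNum π a)
    (hb : ∀ q : ℕ, q.Prime → q ∣ b → q ∉ π) : a.Coprime b :=
  Nat.coprime_of_dvd fun q hq h1 h2 => hb q hq h2 (ha q hq h1)

/-- The order of a subgroup characterised by the orders of its elements. -/
lemma card_isPiNum {π : Set ℕ} (H : Subgroup G) (h : ∀ x ∈ H, IsPiNum π (orderOf x)) :
    IsPiNum π (Nat.card H) := by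
  intro q hq hqd
  haveI := Fact.mk hq
  obtain ⟨x, hx⟩ := exists_prime_orderOf_dvd_card' (G := H) q hqd
  exact h x x.2 q hq (by rw [Subgroup.orderOf_coe, hx])

/-- Surjective homomorphisms: a subgroup containing all `π`-elements of the kernel... lifts of `q`-elements. -/
lemma exists_lift_order_q {H : Type*} [Group H] (f : G →* H) {q : ℕ} [Fact q.Prime] {k : G}
    (hk : orderOf (f k) = q) : ∃ u ∈ Subgroup.zpowers k, (∃ j, orderOf u = q ^ j) ∧ f u ≠ 1 := by
  obtain ⟨u, v, huv, hu, -, ⟨j, hj⟩, hvo⟩ := PBasic.exists_pPart_mul (p := q) k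
  refine ⟨u, hu, ⟨j, hj⟩, fun h1 => ?_⟩
  have h2 : f k = f v := by rw [← huv, map_mul, h1, one_mul]
  have h3 : q ∣ orderOf v := by
    rw [← hk, h2]
    exact orderOf_map_dvd f v
  exact (Fact.out : q.Prime).not_dvd_one (hvo ▸ Nat.dvd_gcd h3 dvd_rfl)

end Cfsg.Agent.S4051Aux


set_option autoImplicit false
open Cfsg
open scoped Pointwise

namespace Cfsg.Agent.S4051

/-- Let π be a set of primes and G a finite group such that N_G(H)/C_G(H) is a π'-group for every nontrivial π'-subgroup H of G. If K is a normal subgroup of G such that the π-elements of K form a subgroup and the π-elements of G/K form a subgroup, then the π-elements of G form a subgroup. -/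
theorem result {G : Type*} [Group G] [Finite G] (π : Set ℕ)
    (hπ : ∀ p ∈ π, p.Prime) (hhom : (∀ H : Subgroup G, H ≠ ⊥ → (∀ p : ℕ, p.Prime → p ∣ Nat.card ↥H → p ∉ π) →
        ∀ p : ℕ, p.Prime → p ∣ (Subgroup.centralizer (H : Set G)).relIndex (Subgroup.normalizer (H : Set G)) → p ∉ π))
    (K : Subgroup G) [K.Normal]
    (hK : ∃ L : Subgroup ↥K, ∀ x : ↥K, x ∈ L ↔ ∀ p : ℕ, p.Prime → p ∣ orderOf x → p ∈ π)
    (hQ : ∃ L : Subgroup (G ⧸ K), ∀ x : G ⧸ K, x ∈ L ↔ ∀ p : ℕ, p.Prime → p ∣ orderOf x → p ∈ π) :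
    (∃ K : Subgroup G, ∀ x : G, x ∈ K ↔ ∀ p : ℕ, p.Prime → p ∣ orderOf x → p ∈ π) := by
  classical
  obtain ⟨L₀, hL₀⟩ := hK
  obtain ⟨W, hW⟩ := hQ
  set L := L₀.map K.subtype with hL
  have hLK : L ≤ K := Subgroup.map_subtype_le _
  have hLmem : ∀ x ∈ K, x ∈ L ↔ S4051Aux.IsPiNum π (orderOf x) := by
    intro x hx
    constructor
    · rintro ⟨y, hy, rfl⟩
      intro q hq hd
      exact (hL₀ y).1 hy q hq (by rwa [Subgroup.subtype_apply, Subgroup.orderOf_coe] at hd)
    · intro h
      exact ⟨⟨x, hx⟩, (hL₀ _).2 fun q hq hd => h q hq (by rwa [Subgroup.orderOf_mk] at hd), rfl⟩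
  haveI hLn : L.Normal := ⟨fun x hx g => by
    rw [hLmem _ ((inferInstance : K.Normal).conj_mem _ (hLK hx) g)]
    rw [show g * x * g⁻¹ = (MulAut.conj g) x from rfl, MulEquiv.orderOf_eq]
    exact (hLmem x (hLK hx)).1 hx⟩
  have hLc : S4051Aux.IsPiNum π (Nat.card L) :=
    S4051Aux.card_isPiNum L fun x hx => (hLmem x (hLK hx)).1 hx
  set f := QuotientGroup.mk' L with hf
  have hfs : Function.Surjective f := QuotientGroup.mk'_surjective L
  set Kb := K.map f with hKb
  haveI hKbn : Kb.Normal := (inferInstance : K.Normal).map _ hfs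
  have hKbc : ∀ q : ℕ, q.Prime → q ∣ Nat.card Kb → q ∉ π := by
    intro q hq hqd hqπ
    haveI := Fact.mk hq
    obtain ⟨z, hz⟩ := exists_prime_orderOf_dvd_card' (G := Kb) q hqd
    obtain ⟨k, hk, hkz⟩ := z.2
    obtain ⟨u, hu, ⟨j, hj⟩, hu1⟩ := S4051Aux.exists_lift_order_q f (k := k) (q := q)
      (by rw [hkz, Subgroup.orderOf_coe, hz])
    apply hu1
    rw [hf, QuotientGroup.mk'_apply, QuotientGroup.eq_one_iff, hLmem u (Subgroup.zpowers_le.2 hk hu), hj]
    intro r hr hrd
    rwa [(Nat.prime_dvd_prime_iff_eq hr hq).1 (hr.dvd_of_dvd_pow hrd)]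
  -- images of `π`-elements centralize `K/L`
  have hcen : ∀ a : G, S4051Aux.IsPiNum π (orderOf a) → Kb ≤ Subgroup.centralizer ({f a} : Set (G ⧸ L)) := by
    intro a ha
    set A := Subgroup.zpowers (f a) with hA
    have hAK : A ≤ Subgroup.normalizer (Kb : Set (G ⧸ L)) := by
      rw [Subgroup.normalizer_eq_top]; exact le_top
    have hao : S4051Aux.IsPiNum π (orderOf (f a)) := ha.dvd (orderOf_map_dvd f a)
    have hcop : (Nat.card A).Coprime (Nat.card Kb) := by
      rw [hA, Nat.card_zpowers]; exact S4051Aux.coprime_of hao hKbc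
    have hdvd : ∀ r : ℕ, r.Prime → r ∣ Nat.card Kb →
        r ^ (Nat.card Kb).factorization r ∣ Nat.card (Kb ⊓ Subgroup.centralizer ({f a} : Set (G ⧸ L)) : Subgroup (G ⧸ L)) := by
      intro r hr hrd
      haveI := Fact.mk hr
      haveI : Group.IsSolvable A := Group.isSolvable_of_comm fun u v => mul_comm' u v
      obtain ⟨P, hP⟩ := CoprimeAct.exists_invariant_sylow hAK hcop (Or.inl inferInstance) r
      set Rb := (P : Subgroup Kb).map Kb.subtype with hRb
      have hRbc : Nat.card Rb = r ^ (Nat.card Kb).factorization r := by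
        rw [hRb, Subgroup.card_map_of_injective Kb.subtype_injective, P.card_eq_multiplicity]
      rw [← hRbc]
      refine Subgroup.card_dvd_of_le (le_inf (Subgroup.map_subtype_le _) ?_)
      -- lift `Rb`
      set U := Rb.comap f with hU
      obtain ⟨S⟩ : Nonempty (Sylow r U) := inferInstance
      set R := (S : Subgroup U).map U.subtype with hR
      have hRU : R ≤ U := Subgroup.map_subtype_le _
      have hRm : R.map f = Rb := by
        refine le_antisymm ?_ ?_
        · rintro _ ⟨x, hx, rfl⟩; exact hRU hx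
        intro e he
        let ψ : U →* Rb := (f.comp U.subtype).codRestrict Rb (fun u => u.2)
        have hψ : Function.Surjective ψ := by
          rintro ⟨v, hv⟩
          obtain ⟨g, rfl⟩ := hfs v
          exact ⟨⟨g, hv⟩, rfl⟩
        have htop : (S : Subgroup U).map ψ = ⊤ := by
          apply Subgroup.eq_top_of_le_card
          have h1 := (S.mapSurjective hψ).card_eq_multiplicity
          rw [Sylow.coe_mapSurjective] at h1
          rw [h1, hRbc, Nat.Prime.factorization_pow hr, Finsupp.single_eq_same]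
        obtain ⟨s, hs, hse⟩ := htop.ge (Subgroup.mem_top (⟨e, he⟩ : Rb))
        exact ⟨(s : G), ⟨s, hs, rfl⟩, congrArg Subtype.val hse⟩
      have haU : a ∈ Subgroup.normalizer (U : Set G) := by
        have h1 := Subgroup.mem_normalizer_iff.1 (hP (Subgroup.mem_zpowers (f a)))
        rw [Subgroup.mem_normalizer_iff]
        intro x
        rw [hU, Subgroup.mem_comap, Subgroup.mem_comap, map_mul, map_mul, map_inv]
        exact h1 (f x)
      -- Frattini: `a` may be corrected by an element of `L` to normalise `R`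
      obtain ⟨l, hl, hla⟩ : ∃ l ∈ L, l * a ∈ Subgroup.normalizer (R : Set G) := by
        have hRp : IsPGroup r R := S.isPGroup'.map _
        set R' := MulAut.conj a • R with hR'
        have hR'U : R' ≤ U := by
          rw [hR', ← SolvBasic.conjSmul_eq_self_of_mem_normalizer haU]
          exact Subgroup.pointwise_smul_le_pointwise_smul_iff.2 hRU
        have hR'c : Nat.card (R'.subgroupOf U) = r ^ (Nat.card U).factorization r := by
          rw [Nat.card_congr (Subgroup.subgroupOfEquivOfLe hR'U).toEquiv, hR', SolvBasic.card_conjSmul, hR,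
            Subgroup.card_map_of_injective U.subtype_injective, S.card_eq_multiplicity]
        obtain ⟨u, hu⟩ := MulAction.exists_smul_eq U (Sylow.ofCard (R'.subgroupOf U) hR'c) S
        have h2 : MulAut.conj (u : G) • R' = R := by
          have h3 := congrArg (fun T : Sylow r U => (T : Subgroup U).map U.subtype) hu
          simp only [Sylow.coe_subgroup_smul, Sylow.coe_ofCard] at h3
          rw [SolvBasic.map_subtype_conjSmul, Subgroup.map_subgroupOf_eq_of_le hR'U] at h3
          exact h3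
        obtain ⟨x, hx, hxu⟩ : ∃ x ∈ R, f x = f u := by
          have := hRm.ge (show f u ∈ Rb from u.2)
          exact this
        refine ⟨x⁻¹ * u, ?_, ?_⟩
        · rw [← QuotientGroup.eq_one_iff, ← QuotientGroup.mk'_apply]
          show f (x⁻¹ * u) = 1
          rw [map_mul, map_inv, hxu, inv_mul_cancel]
        · rw [SolvBasic.mem_normalizer_iff_conjSmul, mul_assoc, ← SolvBasic.conjSmul_conjSmul, ← SolvBasic.conjSmul_conjSmul,
            ← hR', h2, Subgroup.conj_smul_eq_self_of_mem (inv_mem hx)]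
      set n := l * a with hn
      have hfn : f n = f a := by
        rw [hn, map_mul, show f l = 1 from (QuotientGroup.eq_one_iff l).2 hl, one_mul]
      have hRne : R ≠ ⊥ := by
        intro h
        rw [← hRm, h, Subgroup.map_bot, Subgroup.card_bot] at hRbc
        exact (Nat.one_lt_pow (hr.factorization_pos_of_dvd Nat.card_pos.ne' hrd).ne' hr.one_lt).ne hRbc
      have hRπ : ∀ q : ℕ, q.Prime → q ∣ Nat.card R → q ∉ π := by
        intro q hq hqR
        obtain ⟨j, hj⟩ := IsPGroup.iff_card.1 (S.isPGroup'.map U.subtype)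
        rw [← hR] at hj
        rw [(Nat.prime_dvd_prime_iff_eq hq hr).1 (hq.dvd_of_dvd_pow (hj ▸ hqR))]
        exact hKbc r hr hrd
      set C := Subgroup.centralizer (R : Set G) with hC
      set N := Subgroup.normalizer (R : Set G) with hN
      haveI : (C.subgroupOf N).Normal := by
        rw [hC, hN, ← Subgroup.normalizerMonoidHom_ker]; infer_instance
      set e := (C.subgroupOf N).index with he
      have h4 : (⟨n, hla⟩ : N) ^ e ∈ C.subgroupOf N := Subgroup.pow_index_mem _ _
      have h5 : n ^ e ∈ C := h4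
      have h6 : (f a) ^ e ∈ Subgroup.centralizer (Rb : Set (G ⧸ L)) := by
        rw [← hfn, ← map_pow, ← hRm, Subgroup.mem_centralizer_iff]
        rintro _ ⟨x, hx, rfl⟩
        rw [← map_mul, ← map_mul, Subgroup.mem_centralizer_iff.1 h5 x hx]
      have h7 : Nat.Coprime e (orderOf (f a)) :=
        (S4051Aux.coprime_of hao (fun q hq hqe => hhom R hRne hRπ q hq hqe)).symm
      obtain ⟨m, hm⟩ := exists_pow_eq_self_of_coprime h7
      intro x hx
      rw [Subgroup.mem_centralizer_singleton_iff]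
      have h8 : f a ∈ Subgroup.centralizer (Rb : Set (G ⧸ L)) := hm ▸ pow_mem h6 m
      exact Subgroup.mem_centralizer_iff.1 h8 x hx
    have hall : Nat.card Kb ∣ Nat.card (Kb ⊓ Subgroup.centralizer ({f a} : Set (G ⧸ L)) : Subgroup (G ⧸ L)) := by
      rw [← Nat.factorization_le_iff_dvd Nat.card_pos.ne' Nat.card_pos.ne']
      intro r
      by_cases hr : r.Prime
      swap
      · simp [Nat.factorization_eq_zero_of_not_prime _ hr]
      by_cases hrd : r ∣ Nat.card Kb
      swap
      · simp [Nat.factorization_eq_zero_of_not_dvd hrd]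
      exact (hr.pow_dvd_iff_le_factorization Nat.card_pos.ne').1 (hdvd r hr hrd)
    exact inf_eq_left.1 (Subgroup.eq_of_le_of_card_ge inf_le_left (Nat.le_of_dvd Nat.card_pos hall))
  -- the subgroup generated by the `π`-elements
  set A := Subgroup.closure {a : G | S4051Aux.IsPiNum π (orderOf a)} with hA
  set Ab := A.map f with hAb
  set Z := Kb.subgroupOf Ab with hZ
  have hAbc : Ab ≤ Subgroup.centralizer (Kb : Set (G ⧸ L)) := by
    rw [hAb, hA, MonoidHom.map_closure, Subgroup.closure_le]
    rintro _ ⟨a, ha, rfl⟩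
    rw [SetLike.mem_coe, Subgroup.mem_centralizer_iff]
    exact fun k hk => Subgroup.mem_centralizer_singleton_iff.1 (hcen a ha hk)
  -- `Ab / Z` is a `π`-group
  have hidx : S4051Aux.IsPiNum π Z.index := by
    have hAW : A.map (QuotientGroup.mk' K) ≤ W := by
      rw [hA, MonoidHom.map_closure, Subgroup.closure_le]
      rintro _ ⟨a, ha, rfl⟩
      rw [SetLike.mem_coe, hW]
      exact ha.dvd (orderOf_map_dvd _ a)
    have hWc : S4051Aux.IsPiNum π (Nat.card W) := S4051Aux.card_isPiNum W fun x hx => (hW x).1 hx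
    refine hWc.dvd (dvd_trans ?_ (Subgroup.card_dvd_of_le hAW))
    -- both compute the index of `A ∩ K` in `A`
    have h1 : Z.index = Kb.relIndex Ab := rfl
    rw [h1, hKb, hAb, Subgroup.relIndex_map_map, hf, QuotientGroup.ker_mk']
    have h2 : ∀ X : Subgroup G, Nat.card (X.map (QuotientGroup.mk' K)) = K.relIndex X := fun X => by
      rw [← Subgroup.range_subtype X, ← MonoidHom.range_comp, ← Subgroup.index_ker, ← MonoidHom.comap_ker,
        QuotientGroup.ker_mk', Subgroup.range_subtype]
      rfl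
    rw [sup_eq_left.2 hLK, ← h2, Subgroup.map_sup,
      show L.map (QuotientGroup.mk' K) = ⊥ by rwa [Subgroup.map_eq_bot_iff, QuotientGroup.ker_mk'], sup_bot_eq]
  have hZc : ∀ q : ℕ, q.Prime → q ∣ Nat.card Z → q ∉ π := by
    intro q hq hqZ
    refine hKbc q hq (hqZ.trans ?_)
    rw [hZ, ← Subgroup.card_map_of_injective (f := Ab.subtype) Ab.subtype_injective, Subgroup.subgroupOf_map_subtype]
    exact Subgroup.card_dvd_of_le inf_le_left
  haveI : Z.Normal := inferInstance
  obtain ⟨B, hB⟩ := Subgroup.exists_right_complement'_of_coprime (N := Z)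
    (S4051Aux.coprime_of hidx hZc).symm
  have hBc : S4051Aux.IsPiNum π (Nat.card B) := by rw [← hB.symm.index_eq_card]; exact hidx
  have hZcen : ∀ z ∈ Z, ∀ x : Ab, z * x = x * z := fun z hz x =>
    Subtype.ext (Subgroup.mem_centralizer_iff.1 (hAbc x.2) z hz)
  haveI hBn : B.Normal := by
    refine Subgroup.normalizer_eq_top_iff.1 (eq_top_iff.2 ?_)
    rw [← hB.sup_eq_top]
    refine sup_le (fun z hz => ?_) Subgroup.le_normalizer
    rw [Subgroup.mem_normalizer_iff]
    intro x
    rw [show z * x * z⁻¹ = x by rw [hZcen z hz x, mul_inv_cancel_right]]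
  have hBtop : B = ⊤ := by
    have hgen : ∀ x : Ab, S4051Aux.IsPiNum π (orderOf x) → x ∈ B := by
      intro x hx
      rw [← QuotientGroup.eq_one_iff, ← orderOf_eq_one_iff]
      refine Nat.eq_one_of_dvd_coprimes (S4051Aux.coprime_of hx hZc) (orderOf_map_dvd (QuotientGroup.mk' B) x) ?_
      refine (orderOf_dvd_natCard _).trans ?_
      rw [← Subgroup.index_eq_card, hB.index_eq_card]
    rw [eq_top_iff]
    rintro ⟨x, hx⟩ -
    have hle : A ≤ (B.map Ab.subtype).comap f := by
      rw [hA, Subgroup.closure_le]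
      intro a ha
      refine ⟨⟨f a, Subgroup.mem_map_of_mem f (Subgroup.subset_closure ha)⟩, hgen _ ?_, rfl⟩
      rw [Subgroup.orderOf_mk]
      exact S4051Aux.IsPiNum.dvd ha (orderOf_map_dvd f a)
    obtain ⟨a, ha, rfl⟩ := hx
    obtain ⟨y, hy, hye⟩ := hle ha
    have : y = ⟨f a, Subgroup.mem_map_of_mem f ha⟩ := Subtype.ext hye
    exact this ▸ hy
  have hAbπ : S4051Aux.IsPiNum π (Nat.card Ab) := by
    rw [← Subgroup.card_top (G := Ab), ← hBtop]; exact hBc
  refine ⟨A, fun x => ⟨fun hx q hq hqd => ?_, fun hx => Subgroup.subset_closure hx⟩⟩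
  have h1 : orderOf x ∣ orderOf (f x) * Nat.card L := by
    refine orderOf_dvd_of_pow_eq_one ?_
    have h2 : x ^ orderOf (f x) ∈ L := by
      rw [← QuotientGroup.eq_one_iff, ← QuotientGroup.mk'_apply]
      show f (x ^ orderOf (f x)) = 1
      rw [map_pow, pow_orderOf_eq_one]
    rw [pow_mul]
    exact congrArg Subtype.val (pow_card_eq_one' (x := (⟨_, h2⟩ : L)))
  exact ((hAbπ.dvd (Subgroup.orderOf_dvd_natCard Ab (Subgroup.mem_map_of_mem f hx))).mul hLc).dvd h1 q hq hqd

end Cfsg.Agent.S4051
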