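import Cfsg.Statements.S3755
import Cfsg.Agent.Lib.Techniques.CharP
import Cfsg.Agent.Lib.Solvable.Coprime
import Cfsg.Agent.Lib.Solvable.Fitting
import Cfsg.Agent.Lib.Fischer.Dihedral
import Mathlib

set_option autoImplicit false
open Cfsg

namespace Cfsg.Agent.S3755

open Subgroup
open scoped commutatorElement
open Cfsg.Agent

variable {X : Type*} [Group X] [Finite X]

/-- An elementary abelian 2-group acting faithfully and coprimely has a hyperplane with larger fixed points. -/
theorem exists_hyperplane {A O : Subgroup X} (hA : Cfsg.IsElementaryAbelian 2 A)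
    (hAO : A ≤ normalizer (O : Set X)) (hO : Odd (Nat.card O)) (hfaith : A ⊓ centralizer (O : Set X) = ⊥)
    (hne : A ≠ ⊥) :
    ∃ B : Subgroup X, B < A ∧ Nat.card A ≤ 2 * Nat.card B ∧ ∃ a ∈ A, ∃ d ∈ O,
      (∀ b ∈ B, b * d = d * b) ∧ a * d ≠ d * a := by
  classical
  have hcomm : ∀ x ∈ A, ∀ y ∈ A, x * y = y * x := fun x hx y hy =>
    congrArg Subtype.val (hA.1.is_comm.comm ⟨x, hx⟩ ⟨y, hy⟩)
  let Ok : Subgroup X → Prop := fun B => B ≤ A ∧ ∃ a ∈ A, ∃ d ∈ O, (∀ b ∈ B, b * d = d * b) ∧ a * d ≠ d * a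
  have h0 : Ok ⊥ := by
    refine ⟨bot_le, ?_⟩
    by_contra hcon
    push Not at hcon
    apply hne
    rw [← hfaith]
    refine le_antisymm (le_inf le_rfl fun a ha => mem_centralizer_iff.2 fun d hd => ?_) inf_le_left
    exact (hcon a ha d hd (fun b hb => by rw [mem_bot.1 hb, one_mul, mul_one])).symm
  obtain ⟨B, ⟨hBA, a, ha, d, hd, hcB, hne'⟩, hmax⟩ :=
    Set.Finite.exists_maximal (s := {B | Ok B}) (Set.toFinite _) ⟨⊥, h0⟩
  have haB : a ∉ B := fun h => hne' (hcB a h)
  refine ⟨B, lt_of_le_of_ne hBA fun h => haB (h ▸ ha), ?_, a, ha, d, hd, hcB, hne'⟩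
  -- `A = B ∪ a B`
  by_contra hbig
  obtain ⟨e, heA, he, hea⟩ : ∃ e ∈ A, e ∉ B ∧ a * e ∉ B := by
    by_contra hcon
    push Not at hcon
    apply hbig
    let f : A → Bool × B := fun x => if hx : (x : X) ∈ B then (true, ⟨x, hx⟩) else (false, ⟨a * x, hcon x x.2 hx⟩)
    have hf : Function.Injective f := by
      intro x y hxy
      by_cases hx : (x : X) ∈ B <;> by_cases hy : (y : X) ∈ B <;> simp [f, hx, hy] at hxy
      · exact hxy
      · exact hxy
    refine (Nat.card_le_card_of_injective f hf).trans (le_of_eq ?_)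
    rw [Nat.card_prod, Nat.card_eq_fintype_card (α := Bool), Fintype.card_bool]
  -- a four-group meeting `B` trivially
  set A' := closure ({a, e} : Set X) with hA'
  have hA'A : A' ≤ A := (closure_le _).2 (by rintro x (rfl | rfl) <;> assumption)
  have hmemA' : ∀ x ∈ A', x = 1 ∨ x = a ∨ x = e ∨ x = a * e := by
    have haa : a * a = 1 := by rw [← pow_two, hA.2 a ha]
    have hee : e * e = 1 := by rw [← pow_two, hA.2 e heA]
    have hae : e * a = a * e := hcomm e heA a ha
    have haa' : ∀ x, a * (a * x) = x := fun x => by rw [← mul_assoc, haa, one_mul]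
    have hee' : ∀ x, e * (e * x) = x := fun x => by rw [← mul_assoc, hee, one_mul]
    have hae' : ∀ x, e * (a * x) = a * (e * x) := fun x => by rw [← mul_assoc, hae, mul_assoc]
    intro x hx
    induction hx using closure_induction with
    | mem y hy => rcases hy with rfl | rfl <;> simp
    | one => simp
    | mul y z _ _ hy hz =>
      rcases hy with rfl | rfl | rfl | rfl <;> rcases hz with rfl | rfl | rfl | rfl <;>
        simp [mul_assoc, haa, hee, hae, haa', hee', hae']
    | inv y _ hy =>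
      have ia : a⁻¹ = a := inv_eq_of_mul_eq_one_right haa
      have ie : e⁻¹ = e := inv_eq_of_mul_eq_one_right hee
      rcases hy with rfl | rfl | rfl | rfl <;> simp [mul_inv_rev, ia, ie, hae]
  have hnotB : ∀ x ∈ A', x ≠ 1 → x ∉ B := by
    intro x hx hx1
    rcases hmemA' x hx with rfl | rfl | rfl | rfl
    exacts [absurd rfl hx1, haB, he, hea]
  haveI hA'c : IsMulCommutative A' :=
    ⟨⟨fun x y => Subtype.ext (hcomm x (hA'A x.2) y (hA'A y.2))⟩⟩
  have hnc : ¬ IsCyclic A' := by
    intro hcyc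
    obtain ⟨g, hg⟩ := (Subgroup.isCyclic_iff_exists_zpowers_eq_top A').1 hcyc
    have hgA' : g ∈ A' := hg ▸ mem_zpowers g
    have hcard : Nat.card A' ≤ 2 := by
      rw [← hg, Nat.card_zpowers]
      exact Nat.le_of_dvd two_pos (orderOf_dvd_of_pow_eq_one (hA.2 g (hA'A hgA')))
    have h3 : ({⟨1, one_mem _⟩, ⟨a, subset_closure (by simp)⟩, ⟨e, subset_closure (by simp)⟩} : Finset A').card = 3 := by
      rw [Finset.card_insert_of_notMem, Finset.card_pair]
      · intro h
        have hae : a = e := congrArg Subtype.val h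
        exact hea (by rw [← hae, ← pow_two, hA.2 a ha]; exact one_mem B)
      · simp only [Finset.mem_insert, Finset.mem_singleton, Subtype.mk.injEq, not_or]
        exact ⟨fun h => haB (h ▸ one_mem B), fun h => he (h ▸ one_mem B)⟩
    haveI := Fintype.ofFinite A'
    have := Finset.card_le_univ ({⟨1, one_mem _⟩, ⟨a, subset_closure (by simp)⟩, ⟨e, subset_closure (by simp)⟩} : Finset A')
    rw [h3, ← Nat.card_eq_fintype_card] at this
    omega
  set K := O ⊓ centralizer (B : Set X) with hK
  have hA'K : A' ≤ normalizer (K : Set X) := by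
    intro x hx
    refine mem_normalizer_fintype fun k hk => ⟨(mem_normalizer_iff.1 (hAO (hA'A hx)) k).1 hk.1, ?_⟩
    refine mem_centralizer_iff.2 fun b hb => ?_
    have h1 : b * k = k * b := mem_centralizer_iff.1 hk.2 b hb
    have h2 : b * x = x * b := hcomm b (hBA hb) x (hA'A hx)
    have h3 : b * x⁻¹ = x⁻¹ * b := (Commute.inv_right h2 :)
    calc b * (x * k * x⁻¹) = x * (b * k) * x⁻¹ := by rw [← mul_assoc, ← mul_assoc, h2]; group
      _ = x * k * (b * x⁻¹) := by rw [h1]; group
      _ = _ := by rw [h3]; group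
  have hcop : (Nat.card A').Coprime (Nat.card K) := by
    have h2 : IsPGroup 2 A' := fun x => ⟨1, Subtype.ext (by simpa using hA.2 _ (hA'A x.2))⟩
    haveI : Fact (Nat.Prime 2) := ⟨Nat.prime_two⟩
    obtain ⟨m, hm⟩ := h2.exists_card_eq
    rw [hm]
    exact Nat.Coprime.pow_left _ (Nat.coprime_two_left.2 (Odd.of_dvd_nat hO (card_dvd_of_le inf_le_left)))
  have hgen := CoprimeAct.generated_by_centralizers hnc hA'K hcop
  have hle : K ≤ centralizer (A : Set X) := by
    rw [← hgen]
    refine iSup₂_le fun x hx => ?_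
    obtain ⟨hxA', hx1⟩ := hx
    intro k hk
    refine mem_centralizer_iff.2 fun c hc => ?_
    by_contra hck
    have hok : Ok (B ⊔ zpowers x) := by
      refine ⟨sup_le hBA (zpowers_le.2 (hA'A hxA')), c, hc, k, hk.1.1, ?_, hck⟩
      have : B ⊔ zpowers x ≤ centralizer ({k} : Set X) := by
        refine sup_le (fun b hb => ?_) (zpowers_le.2 ?_) <;> rw [mem_centralizer_singleton_iff]
        · exact mem_centralizer_iff.1 hk.1.2 b hb
        · exact (mem_centralizer_singleton_iff.1 hk.2).symm
      exact fun b hb => mem_centralizer_singleton_iff.1 (this hb)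
    exact hnotB x hxA' hx1 (hmax hok le_sup_left ((le_sup_right : zpowers x ≤ _) (mem_zpowers x)))
  exact hne' (mem_centralizer_iff.1 (hle ⟨hd, mem_centralizer_iff.2 hcB⟩) a ha)

/-- A subgroup isomorphic to `S₃` gives a section. -/
theorem involves_of_inverted {M : Subgroup X} {a d : X} (ha : a ∈ M) (hd : d ∈ M) (hao : orderOf a = 2)
    (hdo : orderOf d = 3) (hinv : a * d * a⁻¹ = d⁻¹) : Cfsg.Involves (Equiv.Perm (Fin 3)) ↥M := by
  have haa : a * a = 1 := by rw [← pow_two, ← hao, pow_orderOf_eq_one]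
  have hai : a⁻¹ = a := inv_eq_of_mul_eq_one_right haa
  rw [hai] at hinv
  have hb : orderOf (a * d) = 2 := by
    refine orderOf_eq_prime ?_ fun h => ?_
    · rw [pow_two, ← mul_assoc, hinv, inv_mul_cancel]
    · rw [mul_eq_one_iff_inv_eq, hai] at h
      rw [← h, hao] at hdo; omega
  have hab : orderOf (a * (a * d)) = 3 := by rw [← mul_assoc, haa, one_mul, hdo]
  obtain ⟨e⟩ := Cfsg.Agent.Fischer.nonempty_mulEquiv_perm_three hao hb hab
  have hle : closure ({a, a * d} : Set X) ≤ M :=
    (closure_le _).2 (by rintro x (rfl | rfl) <;> [exact ha; exact mul_mem ha hd])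
  refine ⟨(closure ({a, a * d} : Set X)).subgroupOf M, ⊥, inferInstance, ⟨?_⟩⟩
  exact ((QuotientGroup.quotientMulEquivOfEq (by simp)).trans QuotientGroup.quotientBot).trans
    ((subgroupOfEquivOfLe hle).trans e)

/-- Let M and V be subgroups of a finite group with V an elementary abelian 2-group, M normalizing V and acting faithfully on it (M ∩ C(V) = 1), and C_M(O_{2'}(M)) ≤ O_{2'}(M). If some elementary abelian 2-subgroup A of M satisfies |V : C_V(A)| < |A|², then M has a section isomorphic to the symmetric group of degree 3. -/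
theorem result {X : Type*} [Group X] [Finite X] (M V : Subgroup X) (hV : Cfsg.IsElementaryAbelian 2 V) (hMV : M ≤ Subgroup.normalizer (V : Set X)) (hfaith : M ⊓ Subgroup.centralizer (V : Set X) = ⊥) (hcon : Subgroup.centralizer (Cfsg.pPrimeCore 2 ↥M : Set ↥M) ≤ Cfsg.pPrimeCore 2 ↥M) (A : Subgroup X) (hAM : A ≤ M) (hA : Cfsg.IsElementaryAbelian 2 A) (hsmall : (V ⊓ Subgroup.centralizer (A : Set X)).relIndex V < Nat.card A ^ 2) : Cfsg.Involves (Equiv.Perm (Fin 3)) ↥M := by
  classical
  haveI : Fact (Nat.Prime 2) := ⟨Nat.prime_two⟩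
  haveI hOn : (Cfsg.pPrimeCore 2 ↥M).Normal := FittingCores.pPrimeCore_normal 2
  set O := (Cfsg.pPrimeCore 2 ↥M).map M.subtype with hO
  have hOodd : Odd (Nat.card O) := by
    rw [hO, card_map_of_injective M.subtype_injective]
    exact Nat.coprime_two_left.1 (FittingCores.pPrimeCore_coprime (G := ↥M) 2).symm
  have hMO : M ≤ normalizer (O : Set X) := by
    intro x hx
    refine mem_normalizer_fintype ?_
    rintro _ ⟨y, hy, rfl⟩
    exact ⟨⟨x, hx⟩ * y * ⟨x, hx⟩⁻¹, hOn.conj_mem y hy _, rfl⟩
  by_contra hneg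
  suffices key : ∀ n, ∀ B : Subgroup X, B ≤ A → Nat.card B ≤ n →
      Nat.card B ^ 2 ≤ (V ⊓ centralizer (B : Set X)).relIndex V from
    absurd (key _ A le_rfl le_rfl) (not_le.2 hsmall)
  intro n
  induction n with
  | zero => intro B _ h; exact absurd Nat.card_pos (not_lt.2 h)
  | succ n IH =>
    intro A' hA'A hn
    have hA' : Cfsg.IsElementaryAbelian 2 A' :=
      ⟨⟨⟨fun x y => Subtype.ext (congrArg Subtype.val (hA.1.is_comm.comm ⟨x, hA'A x.2⟩ ⟨y, hA'A y.2⟩) :)⟩⟩,
        fun x hx => hA.2 x (hA'A hx)⟩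
    have hA'M := hA'A.trans hAM
    by_cases hbot : A' = ⊥
    · rw [hbot, card_bot, one_pow, Nat.one_le_iff_ne_zero]
      exact index_ne_zero_of_finite
    have hfaith' : A' ⊓ centralizer (O : Set X) = ⊥ := by
      rw [eq_bot_iff]
      rintro a ⟨haA, haC⟩
      have h1 : (⟨a, hA'M haA⟩ : M) ∈ Cfsg.pPrimeCore 2 ↥M :=
        hcon (x := ⟨a, hA'M haA⟩) (mem_centralizer_iff.2 fun y hy =>
          Subtype.ext (mem_centralizer_iff.1 haC y ⟨y, hy, rfl⟩))
      have h2 : orderOf a ∣ 2 := orderOf_dvd_of_pow_eq_one (hA'.2 a haA)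
      have h3 : orderOf a ∣ Nat.card O := Subgroup.orderOf_dvd_natCard O ⟨_, h1, rfl⟩
      rw [mem_bot, ← orderOf_eq_one_iff]
      exact Nat.eq_one_of_dvd_coprimes (Nat.coprime_two_left.2 hOodd) h2 h3
    obtain ⟨B, hBlt, hcard, a, ha, d₀, hd₀, hcB, hne⟩ :=
      exists_hyperplane hA' (hA'M.trans hMO) hOodd hfaith' hbot
    have hBn : Nat.card B ≤ n := by
      have : Nat.card B < Nat.card A' := by
        by_contra h
        exact hBlt.ne (eq_of_le_of_card_ge hBlt.le (not_lt.1 h))
      omega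
    have hIH := IH B (hBlt.le.trans hA'A) hBn
    have haa : a * a = 1 := by rw [← pow_two, hA'.2 a ha]
    have hai : a⁻¹ = a := inv_eq_of_mul_eq_one_right haa
    have hao : orderOf a = 2 := orderOf_eq_prime (hA'.2 a ha) fun h => hne (by rw [h, one_mul, mul_one])
    set d₁ := ⁅a, d₀⁆ with hd₁
    have hd1O : d₁ ∈ O := by
      rw [hd₁, commutatorElement_def]
      exact mul_mem ((mem_normalizer_iff.1 (hMO (hA'M ha)) d₀).1 hd₀) (inv_mem hd₀)
    have hd1ne : d₁ ≠ 1 := fun h => hne (commutatorElement_eq_one_iff_mul_comm.1 h)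
    obtain ⟨q, hq, hqd⟩ := Nat.exists_prime_and_dvd (mt orderOf_eq_one_iff.1 hd1ne)
    set d := d₁ ^ (orderOf d₁ / q) with hd
    have hdo : orderOf d = q := orderOf_pow_orderOf_div (orderOf_pos d₁).ne' hqd
    have hdO : d ∈ O := pow_mem hd1O _
    have hdM : d ∈ M := map_subtype_le _ hdO
    have hinv1 : a * d₁ * a⁻¹ = d₁⁻¹ := by
      rw [hd₁, commutatorElement_def, hai]
      calc a * (a * d₀ * a * d₀⁻¹) * a = (a * a) * d₀ * a * d₀⁻¹ * a := by group
        _ = d₀ * a * d₀⁻¹ * a := by rw [haa, one_mul]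
        _ = _ := by simp [mul_assoc, hai]
    have hinv : a * d * a⁻¹ = d⁻¹ := by rw [hd, ← conj_pow, hinv1, inv_pow]
    have hq2 : q ≠ 2 := by
      intro h
      have h1 : q ∣ Nat.card O := hdo ▸ Subgroup.orderOf_dvd_natCard O hdO
      rw [h] at h1
      exact (Nat.not_even_iff_odd.2 hOodd) (even_iff_two_dvd.2 h1)
    have hq3 : q ≠ 3 := fun h => hneg (involves_of_inverted (hA'M ha) hdM hao (hdo.trans h) hinv)
    have hq5 : 5 ≤ q := by
      have := hq.two_le
      have h4 : q ≠ 4 := fun h => by rw [h] at hq; norm_num at hq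
      omega
    -- `d` commutes with `B` and normalizes `W`
    have hBd : ∀ b ∈ B, b * d = d * b := by
      intro b hb
      have hba : b * a = a * b := congrArg Subtype.val (hA'.1.is_comm.comm ⟨b, hBlt.le hb⟩ ⟨a, ha⟩)
      have h1 : Commute b d₁ := by
        rw [hd₁, commutatorElement_def]
        exact ((((show Commute b a from hba).mul_right (hcB b hb)).mul_right
          (Commute.inv_right hba)).mul_right (Commute.inv_right (hcB b hb)))
      exact (h1.pow_right _).eq
    set W := V ⊓ centralizer (B : Set X) with hW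
    have hnormW : ∀ x ∈ M, (∀ b ∈ B, b * x = x * b) → ∀ v ∈ W, x * v * x⁻¹ ∈ W := by
      intro x hx hxB v hv
      refine ⟨(mem_normalizer_iff.1 (hMV hx) v).1 hv.1, mem_centralizer_iff.2 fun b hb => ?_⟩
      exact (((show Commute b x from hxB b hb).mul_right (mem_centralizer_iff.1 hv.2 b hb)).mul_right
        (Commute.inv_right (hxB b hb))).eq
    have hVp : IsPGroup 2 V := fun v => ⟨1, Subtype.ext (by simpa using hV.2 _ v.2)⟩
    obtain ⟨v, hv, hvd⟩ : ∃ v ∈ W, d * v ≠ v * d := by
      by_contra hall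
      push Not at hall
      have h1 : ∀ r ∈ V, d * r = r * d := by
        refine CharP.pxq hVp (U := B) (fun b => ⟨1, Subtype.ext (by simpa using hA'.2 _ (hBlt.le b.2))⟩)
          ((hBlt.le.trans hA'M).trans hMV) (hdo.symm ▸ (Nat.coprime_primes hq Nat.prime_two).2 hq2) (hMV hdM)
          (fun b hb => (hBd b hb).symm) fun r hr hrB => ?_
        exact hall r ⟨hr, mem_centralizer_iff.2 fun b hb => (hrB b hb).symm⟩
      have h2 : d ∈ M ⊓ centralizer (V : Set X) := ⟨hdM, mem_centralizer_iff.2 fun r hr => (h1 r hr).symm⟩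
      rw [hfaith, mem_bot] at h2
      rw [h2, orderOf_one] at hdo
      exact hq.one_lt.ne hdo
    set H := V ⊓ centralizer (A' : Set X) with hH
    have hHW : H ≤ W := inf_le_inf_left _ (centralizer_le (show (B : Set X) ⊆ A' from hBlt.le))
    have hidx : 4 ≤ H.relIndex W := by
      by_contra hlt
      have hWp : IsPGroup 2 W := hVp.to_le inf_le_left
      obtain ⟨k, hk⟩ := hWp.index (H.subgroupOf W)
      have hle2 : H.relIndex W ≤ 2 := by
        have h1 : H.relIndex W = 2 ^ k := hk
        rcases k with _ | _ | k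
        · simp [h1]
        · simp [h1]
        · exfalso
          have : 2 ^ 2 ≤ 2 ^ (k + 2) := Nat.pow_le_pow_right two_pos (by omega)
          rw [h1] at hlt
          have := Nat.one_le_two_pow (n := k)
          omega
      set H' := H.map (MulAut.conj d).toMonoidHom with hH'
      have hWd : W.map (MulAut.conj d).toMonoidHom = W := by
        refine eq_of_le_of_card_ge ?_ (by rw [card_map_of_injective (MulAut.conj d).injective])
        rintro _ ⟨w, hw, rfl⟩
        exact hnormW d hdM hBd w hw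
      have hle2' : H'.relIndex W ≤ 2 := by
        rw [← hWd, hH', relIndex_map_map_of_injective _ _ (MulAut.conj d).injective]
        exact hle2
      set Cd := W ⊓ centralizer ({d} : Set X) with hCd
      have hI : H ⊓ H' ≤ Cd := by
        rintro x ⟨hxH, hxH'⟩
        obtain ⟨y, hy, hyx⟩ := hxH'
        have h1 : a * x = x * a := mem_centralizer_iff.1 hxH.2 a ha
        have h2 : Commute (d * a * d⁻¹) x := by
          rw [← hyx]
          exact (show Commute a y from mem_centralizer_iff.1 hy.2 a ha).map (MulAut.conj d).toMonoidHom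
        have h3 : Commute (d * d) x := by
          have e : d * d = (d * a * d⁻¹) * a := by
            have h5 : a * d⁻¹ * a⁻¹ = d := by
              rw [show a * d⁻¹ * a⁻¹ = (a * d * a⁻¹)⁻¹ by group, hinv, inv_inv]
            calc d * d = d * (a * d⁻¹ * a⁻¹) := by rw [h5]
              _ = _ := by rw [hai]; group
          rw [e]
          exact h2.mul_left h1
        refine ⟨hHW hxH, mem_centralizer_singleton_iff.2 ?_⟩
        obtain ⟨m, hm⟩ := hq.odd_of_ne_two hq2
        have e : d = (d * d) ^ (m + 1) := by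
          rw [← pow_two, ← pow_mul, show 2 * (m + 1) = q + 1 by omega, pow_succ, ← hdo, pow_orderOf_eq_one, one_mul]
        rw [e]
        exact (h3.pow_left _).eq.symm
      have h4 : Cd.relIndex W ≤ 4 := by
        refine le_trans (Nat.le_of_dvd (Nat.pos_of_ne_zero index_ne_zero_of_finite) (relIndex_dvd_of_le_left W hI)) ?_
        exact relIndex_inf_le.trans (Nat.mul_le_mul hle2 hle2')
      have hmemW : ∀ j : ℕ, d ^ j * v * (d ^ j)⁻¹ ∈ W := fun j =>
        hnormW _ (pow_mem hdM j) (fun b hb => ((show Commute b d from hBd b hb).pow_right j).eq) v hv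
      let f : Fin q → W ⧸ Cd.subgroupOf W := fun j => QuotientGroup.mk ⟨_, hmemW j⟩
      have hf : Function.Injective f := by
        intro i j hij
        by_contra hne'
        wlog hlt' : (i : ℕ) < j generalizing i j
        · exact this hij.symm (Ne.symm hne') (lt_of_le_of_ne (not_lt.1 hlt') fun h => hne' (Fin.ext h).symm)
        have h1 := QuotientGroup.eq.1 hij
        rw [mem_subgroupOf, Subgroup.coe_mul, Subgroup.coe_inv] at h1
        obtain ⟨k, hk⟩ : ∃ k, (j : ℕ) = i + k := ⟨j - i, by omega⟩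
        set c := v⁻¹ * (d ^ k * v * (d ^ k)⁻¹) with hc
        have hcd : Commute d c := by
          have h2 : Commute d ((d ^ (i : ℕ) * v * (d ^ (i : ℕ))⁻¹)⁻¹ * (d ^ (j : ℕ) * v * (d ^ (j : ℕ))⁻¹)) :=
            (mem_centralizer_singleton_iff.1 h1.2).symm
          have h3 := h2.map (MulAut.conj (d ^ (i : ℕ))⁻¹).toMonoidHom
          have e1 : (d ^ (i : ℕ))⁻¹ * d * (d ^ (i : ℕ))⁻¹⁻¹ = d := by
            rw [inv_inv, mul_assoc, ← pow_succ', pow_succ, inv_mul_cancel_left]
          have e2 : (d ^ (i : ℕ))⁻¹ * ((d ^ (i : ℕ) * v * (d ^ (i : ℕ))⁻¹)⁻¹ * (d ^ (j : ℕ) * v * (d ^ (j : ℕ))⁻¹)) * (d ^ (i : ℕ))⁻¹⁻¹ = c := by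
            rw [hc, hk, pow_add]; group
          simp only [MulEquiv.coe_toMonoidHom, MulAut.conj_apply] at h3
          rwa [e1, e2] at h3
        have hcW : c ∈ V := mul_mem (inv_mem hv.1) (hmemW k).1
        have h4' := CharP.conj_pow_eq_mul_pow (x := d ^ k) (y := v) (c := c) (by rw [hc]; group)
          (by rw [(hcd.pow_left k).eq, mul_inv_cancel_right]) q
        rw [← pow_mul, mul_comm, pow_mul, ← hdo, pow_orderOf_eq_one, one_pow, one_mul, inv_one, mul_one,
          left_eq_mul, hdo] at h4'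
        have hc1 : c = 1 := by
          rw [← orderOf_eq_one_iff]
          exact Nat.eq_one_of_dvd_coprimes ((Nat.coprime_primes hq Nat.prime_two).2 hq2)
            (orderOf_dvd_of_pow_eq_one h4') (orderOf_dvd_of_pow_eq_one (hV.2 c hcW))
        rw [hc, inv_mul_eq_one, eq_comm, mul_inv_eq_iff_eq_mul] at hc1
        -- `d` is a power of `d ^ k`
        have hkpos : 0 < k := by omega
        have hkq : k < q := by have := j.2; omega
        have hcop : Nat.Coprime k (orderOf d) := by
          rw [hdo]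
          exact (hq.coprime_iff_not_dvd.2 fun h => by have := Nat.le_of_dvd hkpos h; omega).symm
        obtain ⟨m, hm⟩ := exists_pow_eq_self_of_coprime hcop
        apply hvd
        rw [← hm]
        exact ((show Commute (d ^ k) v from hc1).pow_left m).eq
      have h5 := Nat.card_le_card_of_injective f hf
      rw [Nat.card_eq_fintype_card, Fintype.card_fin] at h5
      exact absurd (h5.trans h4) (by omega)
    rw [← relIndex_mul_relIndex H W V hHW inf_le_left]
    calc Nat.card A' ^ 2 ≤ (2 * Nat.card B) ^ 2 := Nat.pow_le_pow_left hcard 2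
      _ = 4 * Nat.card B ^ 2 := by ring
      _ ≤ _ := Nat.mul_le_mul hidx hIH

end Cfsg.Agent.S3755
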