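import Cfsg.Statements.S4355
import Cfsg.Agent.Lib.Fusion.CentreFused
import Cfsg.Agent.Lib.Fusion.Group

set_option autoImplicit false
open Cfsg

namespace Cfsg.Agent.S4355

/-- If every element of 2-power order of a finite group has a conjugacy class of odd size, then the Sylow 2-subgroups of the group are abelian. -/
theorem result {G : Type*} [Group G] [Finite G]
    (h : ∀ x : G, (∃ k : ℕ, orderOf x = 2 ^ k) → ¬ 2 ∣ (Subgroup.centralizer ({x} : Set G)).index) (P : Sylow 2 G) :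
    IsMulCommutative P := by
  haveI : Fact (Nat.Prime 2) := ⟨Nat.prime_two⟩
  set S : Subgroup G := (P : Subgroup G)
  have hF := Cfsg.Agent.FusionSys.groupFusionSystem_saturated (p := 2) P
  have hfused : Cfsg.Agent.FusionSys.CentreFused.Fused (Cfsg.groupFusionSystem S) := by
    intro x hx
    have hord : ∃ k : ℕ, orderOf x = 2 ^ k := by
      obtain ⟨k, hk⟩ := P.2 ⟨x, hx⟩
      obtain ⟨m, -, hm⟩ := (Nat.dvd_prime_pow Nat.prime_two).1
        (orderOf_dvd_of_pow_eq_one (show x ^ 2 ^ k = 1 from congrArg Subtype.val hk))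
      exact ⟨m, hm⟩
    set C := Subgroup.centralizer ({x} : Set G)
    obtain ⟨Q⟩ : Nonempty (Sylow 2 C) := inferInstance
    have hQ2 : IsPGroup 2 ((Q : Subgroup C).map C.subtype) := Q.2.map _
    have hQidx : ¬ 2 ∣ ((Q : Subgroup C).map C.subtype).index := by
      rw [Subgroup.index_map_subtype]
      exact fun hd => ((Nat.prime_two.dvd_mul).1 hd).elim Q.not_dvd_index (h x hord)
    obtain ⟨g, hg⟩ := MulAction.exists_smul_eq G (hQ2.toSylow hQidx) P
    have hxz : ∀ q ∈ (Q : Subgroup C).map C.subtype, x * q = q * x := by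
      rintro _ ⟨q, -, rfl⟩
      exact Subgroup.mem_centralizer_iff.1 q.2 x rfl
    have hxQ : x ∈ (Q : Subgroup C).map C.subtype := by
      have hxC : x ∈ C := Subgroup.mem_centralizer_iff.2 fun y hy => by rw [Set.mem_singleton_iff.1 hy]
      refine ⟨⟨x, hxC⟩, ?_, rfl⟩
      have hz : IsPGroup 2 (Subgroup.zpowers (⟨x, hxC⟩ : C)) := by
        obtain ⟨k, hk⟩ := hord
        exact IsPGroup.of_card (n := k) (by rw [Nat.card_zpowers, ← hk]; exact (Subgroup.orderOf_coe _).symm)
      have hle : Subgroup.zpowers (⟨x, hxC⟩ : C) ≤ Subgroup.normalizer ((Q : Subgroup C) : Set C) := by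
        refine Subgroup.zpowers_le.2 (Subgroup.centralizer_le_normalizer _ ?_)
        rw [Subgroup.mem_centralizer_iff]
        intro q hq
        exact Subtype.ext ((hxz _ ⟨q, hq, rfl⟩).symm)
      have := Q.3 (hz.to_sup_of_normal_right' Q.2 hle) le_sup_right
      exact this ▸ Subgroup.mem_sup_left (Subgroup.mem_zpowers _)
    have hmem : ∀ y, y ∈ S ↔ g⁻¹ * y * g ∈ (Q : Subgroup C).map C.subtype := by
      intro y
      rw [show S = ((g • hQ2.toSylow hQidx : Sylow 2 G) : Subgroup G) by rw [hg],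
        Sylow.coe_subgroup_smul, Subgroup.mem_pointwise_smul_iff_inv_smul_mem]
      simp [MulAut.conj_symm_apply]
    have hgx : g * x * g⁻¹ ∈ S := (hmem _).2 (by simpa [mul_assoc] using hxQ)
    refine ⟨g * x * g⁻¹, ⟨hgx, Subgroup.mem_centralizer_iff.2 fun s hs => ?_⟩,
      Cfsg.conjHom _ g, ⟨Subgroup.zpowers_le.2 hx, ?_, g, fun _ => rfl⟩, rfl⟩
    · have h1 := hxz _ ((hmem s).1 hs)
      calc s * (g * x * g⁻¹) = g * ((g⁻¹ * s * g) * x) * g⁻¹ := by group
        _ = g * (x * (g⁻¹ * s * g)) * g⁻¹ := by rw [h1]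
        _ = g * x * g⁻¹ * s := by group
    · rintro ⟨y, k, rfl⟩
      show g * x ^ k * g⁻¹ ∈ S
      rw [← conj_zpow]
      exact S.zpow_mem hgx k
  exact ⟨⟨fun a b => Subtype.ext (Cfsg.Agent.FusionSys.CentreFused.comm_all _ P.2 _ hF hfused rfl
    _ a.2 _ b.2)⟩⟩

end Cfsg.Agent.S4355
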