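import Cfsg.Statements.S0806
import Cfsg.Agent.Lib.Classical.DicksonProper

set_option autoImplicit false
open Cfsg

namespace Cfsg.Agent.S0806

/-- Minimal index (Galois): if q ∉ {2, 3, 5, 7, 9, 11} then every proper subgroup of PSL_2(q) has index ≥ q + 1, and some subgroup has index exactly q + 1. -/
theorem result {F : Type*} [Field F] [Fintype F] {q : ℕ} (hF : Fintype.card F = q) (hq : q ∉ ({2, 3, 5, 7, 9, 11} : Finset ℕ)) : (∀ H : Subgroup (Matrix.ProjectiveSpecialLinearGroup (Fin 2) F), H ≠ ⊤ → q + 1 ≤ H.index) ∧ ∃ H : Subgroup (Matrix.ProjectiveSpecialLinearGroup (Fin 2) F), H.index = q + 1 := by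
  classical
  have hq' : Nat.card F = q := by rw [Nat.card_eq_fintype_card, hF]
  obtain ⟨p, hp⟩ := CharP.exists F
  obtain ⟨n, hpp, hn⟩ := FiniteField.card F p
  haveI := Fact.mk hpp
  simp only [Finset.mem_insert, Finset.mem_singleton, not_or] at hq
  have hq2 : 1 < q := hq' ▸ Finite.one_lt_card
  have hq4 : 4 ≤ q := by omega
  constructor
  swap
  · obtain ⟨S⟩ : Nonempty (Sylow p (Matrix.ProjectiveSpecialLinearGroup (Fin 2) F)) := inferInstance
    exact ⟨_, by rw [← hq']; exact Dickson.index_normalizer_sylow p S⟩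
  intro H hH
  obtain ⟨z, hz⟩ : ∃ z, Nat.card (Subgroup.center (Matrix.SpecialLinearGroup (Fin 2) F)) = z := ⟨_, rfl⟩
  have hP := Dickson.zz_mul_card (F := F)
  rw [hz, hq'] at hP
  have hz0 : 0 < z := hz ▸ Nat.card_pos
  have hzg : z = Nat.gcd 2 (q - 1) := by rw [← hz, Dickson.card_center, hq']
  suffices key : z * Nat.card H ≤ q * (q - 1) by
    rw [← H.card_mul_index, ← mul_assoc] at hP
    have h2 : q ^ 2 - 1 = (q + 1) * (q - 1) := by simpa using Nat.sq_sub_sq q 1
    rw [h2] at hP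
    have h3 : q * (q - 1) * (q + 1) ≤ q * (q - 1) * H.index :=
      calc q * (q - 1) * (q + 1) = z * Nat.card H * H.index := by rw [hP]; ring
        _ ≤ q * (q - 1) * H.index := Nat.mul_le_mul_right _ key
    exact Nat.le_of_mul_le_mul_left h3 (Nat.mul_pos (by omega) (by omega))
  have hqq : 3 * q ≤ q * (q - 1) := by
    rw [mul_comm 3]; exact Nat.mul_le_mul_left _ (by omega)
  have small : ∀ c : ℕ, Nat.card H = c → c ≤ 60 → (c = 12 ∨ c = 24 ∨ c = 60) → z * c ≤ q * (q - 1) := by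
    intro c hc hc60 hc3
    have hz2 : z ≤ 2 := hzg ▸ Nat.gcd_le_left _ (by norm_num)
    by_cases h16 : 12 ≤ q
    · have : 132 ≤ q * (q - 1) := Nat.mul_le_mul h16 (show 11 ≤ q - 1 by omega)
      nlinarith
    -- q = 4 or 8
    have hd : c ∣ Nat.card (Matrix.ProjectiveSpecialLinearGroup (Fin 2) F) := hc ▸ H.card_subgroup_dvd_card
    have hne : c ≠ Nat.card (Matrix.ProjectiveSpecialLinearGroup (Fin 2) F) := fun h =>
      hH (Subgroup.eq_top_of_card_eq _ (hc.trans h))
    have hqp : q = p ^ (n : ℕ) := hF.symm.trans hn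
    have h10 : q ≠ 10 := fun h => by
      have h2 : p ∣ 2 * 5 := by
        rw [show 2 * 5 = q by omega, hqp]; exact dvd_pow_self p n.ne_zero
      have h25 : 2 ∣ p ^ (n : ℕ) ∧ 5 ∣ p ^ (n : ℕ) := by rw [← hqp, h]; norm_num
      have e1 := (Nat.prime_dvd_prime_iff_eq Nat.prime_two hpp).1 (Nat.prime_two.dvd_of_dvd_pow h25.1)
      have e2 := (Nat.prime_dvd_prime_iff_eq Nat.prime_five hpp).1 (Nat.prime_five.dvd_of_dvd_pow h25.2)
      omega
    have h6 : q ≠ 6 := fun h => by
      have h25 : 2 ∣ p ^ (n : ℕ) ∧ 3 ∣ p ^ (n : ℕ) := by rw [← hqp, h]; norm_num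
      have e1 := (Nat.prime_dvd_prime_iff_eq Nat.prime_two hpp).1 (Nat.prime_two.dvd_of_dvd_pow h25.1)
      have e2 := (Nat.prime_dvd_prime_iff_eq Nat.prime_three hpp).1 (Nat.prime_three.dvd_of_dvd_pow h25.2)
      omega
    have hq48 : q = 4 ∨ q = 8 := by omega
    rcases hq48 with rfl | rfl
    · have hz1 : z = 1 := by rw [hzg]; rfl
      subst hz1
      rw [one_mul] at hP ⊢
      rw [hP] at hd hne
      by_contra hlt
      push Not at hlt
      obtain ⟨m, hm⟩ := hd
      norm_num at hm hne hlt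
      rcases hc3 with rfl | rfl | rfl <;> omega
    · have hz1 : z = 1 := by rw [hzg]; rfl
      subst hz1
      rw [one_mul] at hP ⊢
      rw [hP] at hd
      by_contra hlt
      push Not at hlt
      obtain ⟨m, hm⟩ := hd
      norm_num at hm hlt
      rcases hc3 with rfl | rfl | rfl <;> omega
  have h60 : Nat.card (alternatingGroup (Fin 5)) = 60 := by rw [nat_card_alternatingGroup, Nat.card_fin]; rfl
  have h12 : Nat.card (alternatingGroup (Fin 4)) = 12 := by rw [nat_card_alternatingGroup, Nat.card_fin]; rfl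
  have h24 : Nat.card (Equiv.Perm (Fin 4)) = 24 := by rw [Nat.card_perm, Nat.card_fin]; rfl
  rcases Dickson.classify_proper p hH with ⟨k, hk, hc⟩ | ⟨S, hS⟩ | ⟨⟨e⟩⟩ | ⟨⟨e⟩⟩ | ⟨⟨e⟩⟩ | ⟨K, i1, i2, m, hm2, hm, hc⟩
  · rw [hz, hq'] at hk
    have hk1 : z * k ≤ q + 1 := by
      rcases hk with h | h
      · exact Nat.le_of_dvd (by omega) h
      · have := Nat.le_of_dvd (by omega) h; omega
    rcases hc with ⟨-, hc⟩ | ⟨⟨e⟩⟩
    · rw [hc]; omega
    · rw [Nat.card_congr e.toEquiv, DihedralGroup.nat_card, mul_left_comm]; omega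
  · have := Dickson.card_normalizer_sylow p S
    rw [hz, hq'] at this
    rw [← this]
    exact Nat.mul_le_mul_left _ (Subgroup.card_le_of_le hS)
  · rw [(Nat.card_congr e.toEquiv).trans h12]
    exact small 12 ((Nat.card_congr e.toEquiv).trans h12) (by norm_num) (by norm_num)
  · rw [(Nat.card_congr e.toEquiv).trans h24]
    exact small 24 ((Nat.card_congr e.toEquiv).trans h24) (by norm_num) (by norm_num)
  · rw [(Nat.card_congr e.toEquiv).trans h60]
    exact small 60 ((Nat.card_congr e.toEquiv).trans h60) (by norm_num) (by norm_num)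
  · rw [← Nat.card_eq_fintype_card, hq'] at hm
    have hr : 2 ≤ Nat.card K := Finite.one_lt_card
    have hrq : Nat.card K ^ 2 ≤ q := hm ▸ Nat.pow_le_pow_right (by omega) hm2
    have hb : Nat.card H ≤ Nat.card K * (Nat.card K ^ 2 - 1) := by
      rcases hc with ⟨⟨e⟩⟩ | ⟨⟨e⟩⟩
      · rw [Nat.card_congr e.toEquiv]; exact Dickson.card_psl_le
      · rw [Nat.card_congr e.toEquiv, Dickson.card_pgl2]
    calc z * Nat.card H ≤ 2 * (Nat.card K * (Nat.card K ^ 2 - 1)) :=
          Nat.mul_le_mul (hzg ▸ Nat.gcd_le_left _ (by norm_num)) hb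
      _ ≤ Nat.card K * (Nat.card K * (Nat.card K ^ 2 - 1)) := Nat.mul_le_mul_right _ hr
      _ = Nat.card K ^ 2 * (Nat.card K ^ 2 - 1) := by ring
      _ ≤ q * (q - 1) := Nat.mul_le_mul hrq (by omega)

end Cfsg.Agent.S0806
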