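import Cfsg.Statements.S3181
import Cfsg.Agent.Lib.CentralInter.Model
import Cfsg.Agent.Lib.CentralInter.Final

set_option autoImplicit false
open Cfsg

namespace Cfsg.Agent.S3181

universe u

open CentralInter in
/-- A model group is `PSL₂` or has two involutions in the commutator subgroup of a Sylow 2-subgroup. -/
theorem suz_der (Q : Type u) [Group Q] [Finite Q] (hQ : IsModel Q) (P : Sylow 2 Q) :
    (∃ (n : ℕ) (F : Type) (_ : Field F) (_ : Fintype F), 2 ≤ n ∧ Fintype.card F = 2 ^ n ∧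
      Nonempty (Q ≃* Matrix.ProjectiveSpecialLinearGroup (Fin 2) F)) ∨
    ∃ x y : Q, x ∈ ⁅(P : Subgroup Q), (P : Subgroup Q)⁆ ∧ y ∈ ⁅(P : Subgroup Q), (P : Subgroup Q)⁆ ∧
      orderOf x = 2 ∧ orderOf y = 2 ∧ x ≠ y := by
  rcases hQ with h | ⟨m, F, _, _, hm, hF, ⟨e⟩⟩ | ⟨n, F, _, _, hn, hF, ⟨e⟩⟩
  · exact Or.inl h
  · refine Or.inr ?_
    have h : Suzuki.SzField F m := ⟨hm, hF⟩
    haveI : Finite (Cfsg.Sz F m) := Finite.of_equiv _ (e.trans (Suzuki.minorEquiv h).symm).toEquiv
    obtain ⟨T⟩ : Nonempty (Sylow 2 (Cfsg.Sz F m)) := Sylow.nonempty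
    obtain ⟨-, hexp, hzc, hzcard⟩ := Cfsg.Agent.S0330.result hm hF T
    obtain ⟨f⟩ := sylow_equiv (e.trans (Suzuki.minorEquiv h).symm) P T
    refine two_involutions_of_equiv f (two_involutions_abelian (fun x hx y _ => ?_) (fun x _ => ?_) ?_)
    · rw [← hzc] at hx
      exact (Subgroup.mem_center_iff.1 hx y).symm
    · have := Monoid.pow_exponent_eq_one x
      rwa [hexp] at this
    · rw [← hzc, hzcard]
      calc 4 < 2 ^ 3 := by norm_num
        _ ≤ 2 ^ (2 * m + 1) := Nat.pow_le_pow_right (by norm_num) (by omega)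
  · refine Or.inr ?_
    have hF' : Fintype.card F = (2 ^ n) ^ 2 := by
      rw [hF, ← pow_mul, mul_comm, pow_mul]; norm_num
    haveI : Finite (Cfsg.PSU 3 F (2 ^ n)) := Finite.of_equiv _ e.toEquiv
    obtain ⟨T⟩ : Nonempty (Sylow 2 (Cfsg.PSU 3 F (2 ^ n))) := Sylow.nonempty
    obtain ⟨f⟩ := sylow_equiv e P T
    exact two_involutions_of_equiv f (two_involutions_suzuki (Cfsg.Agent.S1141.result hn hF' T).2.2)

/-- Structure of finite groups with central Sylow 2-intersections. Let G be a finite group in which the intersection of any two distinct Sylow 2-subgroups is contained in the centre of some Sylow 2-subgroup. Then one of the following holds: G is solvable of 2-length at most one; the Sylow 2-subgroups of G are abelian; G has normal subgroups N < M with N of odd order and M of odd index such that M/N is a central product of an abelian 2-group and a group isomorphic to SL(2, 5); or G has a normal subgroup M of odd index which is either the direct product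 of an abelian 2-group with a group isomorphic to a Suzuki group Sz(2^(2m+1)) for some m ≥ 1, or to PSU(3, q) or SU(3, q) for some q = 2^n ≥ 4, or a central product of an abelian 2-group with a perfect group L with nontrivial centre whose central quotient is isomorphic to the Suzuki group Sz(8). -/
theorem result {G : Type*} [Group G] [Finite G]
    (hCI : ∀ S T : Sylow 2 G, S ≠ T → ∃ U : Sylow 2 G,
      (S : Subgroup G) ⊓ (T : Subgroup G) ≤ (Subgroup.center ↥(U : Subgroup G)).map (U : Subgroup G).subtype) :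
    (Group.IsSolvable G ∧ Cfsg.PLengthLE 2 1 G) ∨
    (∀ S : Sylow 2 G, IsMulCommutative ↥(S : Subgroup G)) ∨
    (∃ (N M : Subgroup G) (_ : N.Normal) (_ : M.Normal) (_ : (N.subgroupOf M).Normal), N < M ∧ Odd (Nat.card ↥N) ∧ Odd M.index ∧
      ∃ A L : Subgroup (↥M ⧸ N.subgroupOf M), IsMulCommutative ↥A ∧ IsPGroup 2 ↥A ∧
        Nonempty (↥L ≃* Matrix.SpecialLinearGroup (Fin 2) (ZMod 5)) ∧ (∀ a ∈ A, ∀ l ∈ L, a * l = l * a) ∧ A ⊔ L = ⊤) ∨
    (∃ (M : Subgroup G), M.Normal ∧ Odd M.index ∧ ∃ A L : Subgroup G, IsMulCommutative ↥A ∧ IsPGroup 2 ↥A ∧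
      ((Cfsg.IsInternalDirectProduct A L M ∧
          ((∃ (m : ℕ) (F : Type) (_ : Field F) (_ : Fintype F), 1 ≤ m ∧ Fintype.card F = 2 ^ (2 * m + 1) ∧
              Nonempty (↥L ≃* ↥(Cfsg.Lie.Sz F (2 ^ (m + 1))))) ∨
            (∃ (n : ℕ) (F : Type) (_ : Field F) (_ : Fintype F), 2 ≤ n ∧ Fintype.card F = 4 ^ n ∧
              (Nonempty (↥L ≃* Cfsg.PSU 3 F (2 ^ n)) ∨ Nonempty (↥L ≃* ↥(Cfsg.SU 3 F (2 ^ n))))))) ∨
        (A ≤ M ∧ L ≤ M ∧ (∀ a ∈ A, ∀ l ∈ L, a * l = l * a) ∧ A ⊔ L = M ∧ Group.IsPerfect ↥L ∧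
          Subgroup.center ↥L ≠ ⊥ ∧
          ∃ (F : Type) (_ : Field F) (_ : Fintype F), Fintype.card F = 8 ∧
            Nonempty (↥L ⧸ Subgroup.center ↥L ≃* ↥(Cfsg.Lie.Sz F 4))))) := by
  exact CentralInter.structure_of_inputs CentralInter.modelStmt CentralInter.kindStmt
    (fun Q _ _ hQ P => suz_der Q hQ P) hCI

end Cfsg.Agent.S3181
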