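import Cfsg.Statements.S2039
import Cfsg.Agent.Lib.J1.Extra
import Cfsg.Agent.Lib.Schur.Basic
import Mathlib.GroupTheory.Transfer
import Mathlib.GroupTheory.Commutator.Basic

set_option autoImplicit false
open Cfsg

namespace Cfsg.Agent.S2039

open Cfsg.Agent.J1 Cfsg.Spor
open scoped commutatorElement

theorem transfer_kill {X Q : Type*} [Group X] [Group Q] [Finite Q] (ξ : X →* Q) (hs : Function.Surjective ξ)
    (U : Subgroup Q) (hU : ∀ a ∈ U.comap ξ, ∀ b ∈ U.comap ξ, a * b = b * a)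
    {z : X} (hz : z ∈ Subgroup.center X) (hzξ : ξ z = 1) (hzc : z ∈ commutator X) :
    z ^ U.index = 1 := by
  have hi : (U.comap ξ).index = U.index := Subgroup.index_comap_of_surjective U hs
  have : (U.comap ξ).FiniteIndex := ⟨by rw [hi]; exact U.index_ne_zero_of_finite⟩
  let τ : X →* Abelianization (U.comap ξ) := MonoidHom.transfer Abelianization.of
  have h1 : τ z = 1 := Abelianization.commutator_subset_ker τ hzc
  have h2 : τ z = Abelianization.of ⟨z ^ (U.comap ξ).index, by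
      simp [Subgroup.mem_comap, hzξ]⟩ := MonoidHom.transfer_eq_pow _ z fun k g _ => by
    rw [mul_assoc, ← Subgroup.mem_center_iff.mp ((Subgroup.center X).pow_mem hz k) g, inv_mul_cancel_left]
  rw [h1] at h2
  have h3 := h2.symm
  rw [← MonoidHom.mem_ker, Abelianization.ker_of] at h3
  have h4 : commutator (U.comap ξ) = ⊥ := by
    rw [commutator_def, Subgroup.commutator_eq_bot_iff_le_centralizer]
    intro a _
    rw [Subgroup.mem_centralizer_iff]
    intro b _
    exact Subtype.ext (hU b b.2 a a.2)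
  rw [h4, Subgroup.mem_bot] at h3
  simpa [hi] using congrArg Subtype.val h3

section

variable {X : Type*} [Group X] (ξ : X →* ↥J1) (hc : ξ.ker ≤ Subgroup.center X)

include hc

theorem eq_mul_of_apply_eq {x y : X} (h : ξ x = ξ y) : ∃ z, ξ z = 1 ∧ (∀ g, Commute z g) ∧ x = z * y := by
  have h1 : ξ (x * y⁻¹) = 1 := by rw [map_mul, map_inv, h, mul_inv_cancel]
  exact ⟨x * y⁻¹, h1, fun g => (Subgroup.mem_center_iff.mp (hc h1) g).symm, by group⟩

theorem comm_congr {a a' b b' : X} (ha : ξ a = ξ a') (hb : ξ b = ξ b') : ⁅a, b⁆ = ⁅a', b'⁆ := by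
  obtain ⟨z, -, hz, rfl⟩ := eq_mul_of_apply_eq ξ hc ha
  obtain ⟨w, -, hw, rfl⟩ := eq_mul_of_apply_eq ξ hc hb
  have e1 : ∀ {z : X}, (∀ g, Commute z g) → ∀ u v, ⁅z * u, v⁆ = ⁅u, v⁆ := fun {z} hz u v => by
    rw [commutatorElement_def, show z * u * v * (z * u)⁻¹ * v⁻¹ = z * (u * v * u⁻¹) * z⁻¹ * v⁻¹ by group,
      (hz _).eq, mul_inv_cancel_right, commutatorElement_def]
  rw [e1 hz, ← commutatorElement_inv, e1 hw, commutatorElement_inv]

theorem abelian_cyclic (u : ↥J1) (hs : Function.Surjective ξ) :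
    ∀ a ∈ (Subgroup.zpowers u).comap ξ, ∀ b ∈ (Subgroup.zpowers u).comap ξ, a * b = b * a := by
  obtain ⟨g, rfl⟩ := hs u
  intro a ha b hb
  obtain ⟨i, hi⟩ := Subgroup.mem_zpowers_iff.mp (Subgroup.mem_comap.mp ha)
  obtain ⟨j, hj⟩ := Subgroup.mem_zpowers_iff.mp (Subgroup.mem_comap.mp hb)
  rw [← map_zpow] at hi hj
  rw [← commutatorElement_eq_one_iff_mul_comm, comm_congr ξ hc hi.symm hj.symm,
    commutatorElement_eq_one_iff_mul_comm]
  exact zpow_mul_comm g i j

theorem abelian_E8 (hs : Function.Surjective ξ) :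
    ∀ a ∈ E8.comap ξ, ∀ b ∈ E8.comap ξ, a * b = b * a := by
  obtain ⟨a, ha⟩ := hs (ev' 0)
  obtain ⟨b, hb⟩ := hs (ev' 1)
  obtain ⟨c, hc'⟩ := hs (ev' 2)
  obtain ⟨s, hs'⟩ := hs S
  obtain ⟨r1, r2, r3, r4⟩ := fano_rel
  have hker : ∀ {u v : X}, Commute (ξ u) (ξ v) → ∀ g, Commute ⁅u, v⁆ g := fun {u v} h g =>
    (Subgroup.mem_center_iff.mp (hc (show ξ ⁅u, v⁆ = 1 by
      rw [map_commutatorElement, commutatorElement_eq_one_iff_mul_comm]; exact h.eq)) g).symm
  have hconj : ∀ {u v u' v' : X}, Commute (ξ u) (ξ v) → ξ u' = S * ξ u * S⁻¹ → ξ v' = S * ξ v * S⁻¹ →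
      ⁅u', v'⁆ = ⁅u, v⁆ := fun {u v u' v'} h hu hv => by
    rw [comm_congr ξ hc (a' := s * u * s⁻¹) (b' := s * v * s⁻¹) (by rw [hu]; simp [hs'])
      (by rw [hv]; simp [hs']), ← conjugate_commutatorElement, ← (hker h s).eq, mul_inv_cancel_right]
  have k1 : ⁅b, c⁆ = ⁅a, b⁆ := hconj (by rw [ha, hb]; exact r2)
    (by rw [ha, hb, conj_ev (by norm_num)]) (by rw [hb, hc', conj_ev (by norm_num)])
  have hcab : ξ (a * b) = S * ξ c * S⁻¹ := by
    rw [map_mul, ha, hb, hc', conj_ev (by norm_num), r1]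
  have k2 : ⁅c, a * b⁆ = ⁅b, c⁆ := hconj (by rw [hb, hc']; exact r4)
    (by rw [hb, hc', conj_ev (by norm_num)]) hcab
  have k3 : ⁅a * b, b⁆ = ⁅c, a⁆ := hconj (by rw [hc', ha]; exact r3.symm) hcab
    (by rw [ha, hb, conj_ev (by norm_num)])
  have hx : ∀ g, Commute ⁅a, b⁆ g := hker (by rw [ha, hb]; exact r2)
  have hy : ∀ g, Commute ⁅c, a⁆ g := hker (by rw [hc', ha]; exact r3.symm)
  have hmul : ∀ u v w : X, ⁅u, v * w⁆ = ⁅u, v⁆ * (v * ⁅u, w⁆ * v⁻¹) := fun u v w => by
    simp only [commutatorElement_def]; group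
  have hsq : ⁅a, b⁆ * ⁅a, b⁆ = 1 := by
    have e : ξ (b * b) = ξ 1 := by
      rw [map_one, map_mul, hb, ev_eq_conj (by norm_num),
        show (S ^ 1 * T * (S ^ 1)⁻¹) * (S ^ 1 * T * (S ^ 1)⁻¹) = S ^ 1 * (T * T) * (S ^ 1)⁻¹ by group, T_sq]
      group
    have := hmul a b b
    rw [comm_congr ξ hc (a' := a) (b' := 1) rfl e, commutatorElement_one_right, ← (hx b).eq,
      mul_inv_cancel_right] at this
    exact this.symm
  have hca : ⁅c, a⁆ = 1 := by
    have h := hmul c a b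
    rw [k2, k1, show ⁅c, b⁆ = ⁅a, b⁆⁻¹ by rw [← commutatorElement_inv, k1], ← ((hx a).inv_left).eq,
      mul_inv_cancel_right] at h
    calc ⁅c, a⁆ = ⁅c, a⁆ * ⁅a, b⁆⁻¹ * ⁅a, b⁆ := by group
      _ = ⁅a, b⁆ * ⁅a, b⁆ := by rw [← h]
      _ = 1 := hsq
  have hab : ⁅a, b⁆ = 1 := by
    have e : ⁅a * b, b⁆ = a * ⁅b, b⁆ * a⁻¹ * ⁅a, b⁆ := by simp only [commutatorElement_def]; group
    rw [k3, hca, commutatorElement_self, mul_one, mul_inv_cancel, one_mul] at e
    exact e.symm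
  have cab : Commute a b := commutatorElement_eq_one_iff_mul_comm.mp hab
  have cbc : Commute b c := commutatorElement_eq_one_iff_mul_comm.mp (k1.trans hab)
  have cac : Commute a c := (commutatorElement_eq_one_iff_mul_comm.mp hca).symm
  intro x hx' y hy'
  obtain ⟨i, j, k, hi⟩ := E8_prod (Subgroup.mem_comap.mp hx')
  obtain ⟨i', j', k', hi'⟩ := E8_prod (Subgroup.mem_comap.mp hy')
  rw [← ha, ← hb, ← hc', ← map_pow, ← map_pow, ← map_pow, ← map_mul, ← map_mul] at hi hi'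
  rw [← commutatorElement_eq_one_iff_mul_comm, comm_congr ξ hc hi hi',
    commutatorElement_eq_one_iff_mul_comm]
  have h1 : ∀ w, Commute w a → Commute w b → Commute w c → ∀ i j k : ℕ, Commute w (a ^ i * b ^ j * c ^ k) :=
    fun w wa wb wc i j k => ((wa.pow_right i).mul_right (wb.pow_right j)).mul_right (wc.pow_right k)
  exact (((h1 a (Commute.refl a) cab cac i' j' k').pow_left i).mul_left
    ((h1 b cab.symm (Commute.refl b) cbc i' j' k').pow_left j)).mul_left
    ((h1 c cac.symm cbc.symm (Commute.refl c) i' j' k').pow_left k)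

end


/-- The Schur multiplier of the Janko group J₁ (the group generated by two explicit 7 × 7 matrices over the integers modulo 11) is trivial; here the Schur multiplier is described through stem extensions, as in the definitions: surjective homomorphisms onto the group from a finite group, whose kernel is central in that finite group and contained in that finite group's commutator subgroup. -/
theorem result : Cfsg.HasCyclicSchurMultiplier ↥Cfsg.Spor.J1 1 := by
  refine Schur.hasCyclicSchurMultiplier_one_of fun X _ ξ hs hc => ?_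
  rw [eq_bot_iff]
  rintro z ⟨hzk, hzc⟩
  rw [Subgroup.mem_bot]
  have hzξ : ξ z = 1 := hzk
  have kill : ∀ U : Subgroup ↥J1, (∀ a ∈ U.comap ξ, ∀ b ∈ U.comap ξ, a * b = b * a) →
      z ^ (175560 / Nat.card U) = 1 := by
    intro U hU
    rw [← card_J1, ← U.index_mul_card, Nat.mul_div_cancel _ Nat.card_pos]
    exact transfer_kill ξ hs U hU (hc hzk) hzξ hzc
  have kq : ∀ q : ℕ, (∃ k ∈ J1Cert.exps, q ∣ k) → z ^ (175560 / q) = 1 := by
    intro q hq
    obtain ⟨u, hu⟩ := exists_orderOf hq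
    have := kill _ (abelian_cyclic ξ hc u hs)
    rwa [Nat.card_zpowers, hu] at this
  have k8 := kill _ (abelian_E8 ξ hc hs)
  rw [card_E8] at k8
  have h7 := kq 7 (by decide)
  have h11 := kq 11 (by decide)
  have h19 := kq 19 (by decide)
  have h15 := kq 15 (by decide)
  have e1 := pow_gcd_eq_one.mpr ⟨k8, h7⟩
  have e2 := pow_gcd_eq_one.mpr ⟨h11, h19⟩
  have e3 := pow_gcd_eq_one.mpr ⟨pow_gcd_eq_one.mpr ⟨e1, e2⟩, h15⟩
  norm_num at e3
  exact e3

end Cfsg.Agent.S2039
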