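import Cfsg.Statements.S0728
import Mathlib.GroupTheory.GroupAction.MultipleTransitivity
import Mathlib.GroupTheory.PGroup
import Mathlib.Data.Set.Card
import Mathlib.GroupTheory.Perm.Cycle.Type
-- import your own Cfsg.Agent.* helpers here

set_option autoImplicit false
set_option linter.style.haveILetI false
open Cfsg

namespace Cfsg.Agent.S0728

/-- In a sharply triply transitive group of even degree at least 6 (degree `q + 1`, `q` odd), a two-point stabiliser has at most one subgroup of order 3. -/
theorem result {α : Type*} [Fintype α] [DecidableEq α] (heven : Even (Fintype.card α)) (h6 : 6 ≤ Fintype.card α) (G : Subgroup (Equiv.Perm α)) (h3 : MulAction.IsMultiplyPretransitive G α 3) (hsharp : ∀ x : Fin 3 ↪ α, MulAction.stabilizer G x = ⊥) {a b : α} (hab : a ≠ b) (A B : Subgroup G) (hA : A ≤ MulAction.stabilizer G a ⊓ MulAction.stabilizer G b) (hB : B ≤ MulAction.stabilizer G a ⊓ MulAction.stabilizer G b) (hA3 : Nat.card A = 3) (hB3 : Nat.card B = 3) : A = B := by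
  classical
  haveI : Fintype G := Fintype.ofFinite G
  haveI := Fact.mk Nat.prime_three
  -- uniqueness of elements fixing three points
  have hfix3 : ∀ (g : G) (x : Fin 3 ↪ α), (∀ i, g • x i = x i) → g = 1 := fun g x hx => by
    have : g ∈ MulAction.stabilizer G x := MulAction.mem_stabilizer_iff.2 (DFunLike.ext _ _ hx)
    rwa [hsharp x, Subgroup.mem_bot] at this
  have hemb : ∀ x y z : α, x ≠ y → x ≠ z → y ≠ z → ∃ e : Fin 3 ↪ α, e 0 = x ∧ e 1 = y ∧ e 2 = z :=
    fun x y z h1 h2 h3 => ⟨⟨![x, y, z], fun i j h => by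
      fin_cases i <;> fin_cases j <;> simp_all [eq_comm]⟩, rfl, rfl, rfl⟩
  let T : Finset G := Finset.univ.filter fun g => orderOf g = 3
  have hT : ∀ g, g ∈ T ↔ orderOf g = 3 := fun g => by simp [T]
  have hle : ∀ g : G, g ≠ 1 → Nat.card (MulAction.fixedBy α g) ≤ 2 := by
    intro g hg
    by_contra hgt
    rw [Nat.card_coe_set_eq] at hgt
    obtain ⟨x, y, z, hx, hy, hz, hxy, hxz, hyz⟩ :=
      (Set.two_lt_ncard_iff (Set.toFinite _)).1 (not_le.1 hgt)
    obtain ⟨e, e0, e1, e2⟩ := hemb x y z hxy hxz hyz
    refine hg (hfix3 g e fun i => ?_)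
    fin_cases i
    · show g • e 0 = e 0; rw [e0]; exact hx
    · show g • e 1 = e 1; rw [e1]; exact hy
    · show g • e 2 = e 2; rw [e2]; exact hz
  have hmod : ∀ g : G, orderOf g = 3 →
      Nat.card (MulAction.fixedBy α g) % 3 = Fintype.card α % 3 := by
    intro t ht
    have hp : IsPGroup 3 ↥(Subgroup.zpowers t) :=
      IsPGroup.of_card (n := 1) (by rw [Nat.card_zpowers, ht, pow_one])
    have h := hp.card_modEq_card_fixedPoints α
    have he : MulAction.fixedPoints ↥(Subgroup.zpowers t) α = MulAction.fixedBy α t := by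
      ext x
      refine ⟨fun hx => hx ⟨t, Subgroup.mem_zpowers t⟩, fun hx g => ?_⟩
      obtain ⟨i, hi⟩ := Subgroup.mem_zpowers_iff.1 g.2
      show (g : G) • x = x
      rw [← hi]
      exact MulAction.mem_fixedBy.1 (MulAction.fixedBy_subset_fixedBy_zpow α t i hx)
    rw [he, Nat.card_eq_fintype_card (α := α)] at h
    exact h.symm
  have hinA : ∀ (S : Subgroup G), Nat.card S = 3 → ∀ x ∈ S, x ≠ 1 → orderOf x = 3 :=
    fun S hS x hx hx1 => orderOf_eq_prime (by
      have := pow_card_eq_one' (x := (⟨x, hx⟩ : S))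
      rw [hS] at this
      exact congrArg Subtype.val this) hx1
  obtain ⟨g₀, hg₀A, hg₀⟩ : ∃ g ∈ A, g ≠ 1 := by
    haveI : Nontrivial ↥A := by rw [← Finite.one_lt_card_iff_nontrivial, hA3]; norm_num
    obtain ⟨g, hg⟩ := exists_ne (1 : A)
    exact ⟨g, g.2, fun e => hg (Subtype.ext e)⟩
  have hn2 : Fintype.card α % 3 = 2 := by
    have h1 := hmod g₀ (hinA A hA3 g₀ hg₀A hg₀)
    have h2 := hle g₀ hg₀
    have hge : 2 ≤ Nat.card (MulAction.fixedBy α g₀) := by
      rw [Nat.card_coe_set_eq, ← Set.ncard_pair hab]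
      refine Set.ncard_le_ncard ?_
      rintro z (rfl | rfl)
      · exact (hA hg₀A).1
      · exact (hA hg₀A).2
    omega
  have hfix : ∀ g ∈ T, (Finset.univ.filter fun x : α => g • x = x).card = 2 := by
    intro g hg
    rw [hT] at hg
    have h1 := hmod g hg
    have h2 := hle g fun e => by rw [e, orderOf_one] at hg; omega
    rw [show (Finset.univ.filter fun x : α => g • x = x).card = Nat.card (MulAction.fixedBy α g) from
      (Nat.subtype_card _ fun x => by simp [MulAction.mem_fixedBy]).symm]
    omega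
  set n := Fintype.card α with hn
  -- double counting with ordered triples
  have hcount : T.card * (n - 2) = n * (n - 1) * (n - 2) := by
    let P : Finset (α × α × α) := Finset.univ.filter fun t => t.1 ≠ t.2.1 ∧ t.1 ≠ t.2.2 ∧ t.2.1 ≠ t.2.2
    have hP : P.card = n * (n - 1) * (n - 2) := by
      have h := Finset.card_eq_sum_card_fiberwise (f := fun t : α × α × α => (t.1, t.2.1)) (s := P)
        (t := (Finset.univ : Finset α).offDiag) (fun t ht => by
          simp only [P, Finset.coe_filter, Set.mem_ofPred_eq] at ht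
          simp [ht.2.1])
      rw [h, Finset.sum_const_nat (m := n - 2) fun q hq => ?_]
      · rw [Finset.offDiag_card, Finset.card_univ, ← hn, Nat.mul_sub_one]
      · rw [Finset.mem_offDiag] at hq
        rw [show n - 2 = ((Finset.univ : Finset α) \ {q.1, q.2}).card by
          rw [Finset.card_sdiff_of_subset (Finset.subset_univ _), Finset.card_pair hq.2.2, Finset.card_univ]]
        refine Finset.card_bij' (fun t _ => t.2.2) (fun z _ => (q.1, q.2, z)) ?_ ?_ ?_ ?_
        · intro t ht
          simp only [P, Finset.mem_filter, Finset.mem_univ, true_and] at ht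
          obtain ⟨⟨h1, h2, h3⟩, he⟩ := ht
          simp [← he, h2.symm, h3.symm]
        · intro z hz
          simp at hz
          simp [P, hq.2.2, Ne.symm hz.1, Ne.symm hz.2]
        · intro t ht
          simp only [P, Finset.mem_filter] at ht
          rw [← ht.2]
        · intro z hz; rfl
    rw [← hP, show T.card * (n - 2) = ∑ g ∈ T, (Finset.univ.filter fun x : α => g • x ≠ x).card from ?_]
    swap
    · rw [Finset.sum_const_nat (m := n - 2) fun g hg => ?_]
      rw [Finset.filter_not, Finset.card_sdiff_of_subset (Finset.subset_univ _), hfix g hg,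
        Finset.card_univ]
    rw [← Finset.card_sigma]
    refine Finset.card_nbij (fun s => (s.2, s.1 • s.2, s.1 • s.1 • s.2)) ?_ ?_ ?_
    · rintro ⟨g, x⟩ hgx
      simp only [Finset.coe_sigma, Set.mem_sigma_iff, Finset.coe_filter, Finset.mem_univ, true_and,
        Set.mem_ofPred_eq, Finset.mem_coe, hT] at hgx
      simp only [P, Finset.coe_filter, Finset.mem_univ, true_and, Set.mem_ofPred_eq]
      obtain ⟨hg, hx⟩ := hgx
      refine ⟨Ne.symm hx, fun e => hx ?_, fun e => hx (smul_left_cancel g e.symm)⟩
      have h3' : g • g • g • x = x := by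
        rw [← mul_smul, ← mul_smul, mul_assoc, ← pow_three, ← hg, pow_orderOf_eq_one, one_smul]
      rwa [← e] at h3'
    · rintro ⟨g, x⟩ hgx ⟨g', x'⟩ hgx' he
      simp only [Prod.mk.injEq] at he
      obtain ⟨rfl, he1, he2⟩ := he
      simp only [Finset.coe_sigma, Set.mem_sigma_iff, Finset.coe_filter, Finset.mem_univ, true_and,
        Set.mem_ofPred_eq, Finset.mem_coe, hT] at hgx hgx'
      obtain ⟨hg, hx⟩ := hgx
      obtain ⟨hg', -⟩ := hgx'
      have h3' : ∀ k : G, orderOf k = 3 → k • k • k • x = x := fun k hk => by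
        rw [← mul_smul, ← mul_smul, mul_assoc, ← pow_three, ← hk, pow_orderOf_eq_one, one_smul]
      have hxx : x ≠ g • g • x := fun e => hx (by have h := h3' g hg; rwa [← e] at h)
      obtain ⟨e, e0, e1, e2⟩ := hemb x (g • x) (g • g • x) (Ne.symm hx) hxx
        (fun h => hx (smul_left_cancel g h.symm))
      have : g'⁻¹ * g = 1 := hfix3 _ e fun i => by
        rw [mul_smul, inv_smul_eq_iff]
        fin_cases i
        · show g • e 0 = g' • e 0; rw [e0]; exact he1
        · show g • e 1 = g' • e 1
          rw [e1]; exact he2.trans (congrArg (g' • ·) he1.symm)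
        · show g • e 2 = g' • e 2
          rw [e2, h3' g hg, he2, h3' g' hg']
      rw [show g = g' from (inv_mul_eq_one.1 this).symm]
    · rintro ⟨x, y, z⟩ ht
      simp only [P, Finset.coe_filter, Finset.mem_univ, true_and, Set.mem_ofPred_eq] at ht
      obtain ⟨h1, h2, h3'⟩ := ht
      obtain ⟨e, e0, e1, e2⟩ := hemb x y z h1 h2 h3'
      obtain ⟨f, f0, f1, f2⟩ := hemb y z x h3' (Ne.symm h1) (Ne.symm h2)
      obtain ⟨g, hg⟩ := (MulAction.isMultiplyPretransitive_iff.1 h3) e f
      have gx : g • x = y := by have := DFunLike.congr_fun hg 0; rwa [Function.Embedding.smul_apply, e0, f0] at this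
      have gy : g • y = z := by have := DFunLike.congr_fun hg 1; rwa [Function.Embedding.smul_apply, e1, f1] at this
      have gz : g • z = x := by have := DFunLike.congr_fun hg 2; rwa [Function.Embedding.smul_apply, e2, f2] at this
      have ho : orderOf g = 3 := orderOf_eq_prime (hfix3 _ e fun i => by
          rw [pow_three, mul_smul, mul_smul]
          fin_cases i
          · show g • g • g • e 0 = e 0; rw [e0, gx, gy, gz]
          · show g • g • g • e 1 = e 1; rw [e1, gy, gz, gx]
          · show g • g • g • e 2 = e 2; rw [e2, gz, gx, gy])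
        (fun e => h1 (by rw [← gx, e, one_smul]))
      refine ⟨⟨g, x⟩, ?_, by simp [gx, gy]⟩
      simp only [Finset.coe_sigma, Set.mem_sigma_iff, Finset.coe_filter, Finset.mem_univ, true_and,
        Set.mem_ofPred_eq, Finset.mem_coe, hT]
      exact ⟨ho, by rw [gx]; exact Ne.symm h1⟩
  have hTcard : T.card = n * (n - 1) := Nat.eq_of_mul_eq_mul_right (by omega) hcount
  -- each pair of points is fixed by exactly two of them
  let F : α × α → Finset G := fun q => T.filter fun g => g • q.1 = q.1 ∧ g • q.2 = q.2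
  have htotal : ∑ q ∈ (Finset.univ : Finset α).offDiag, (F q).card = T.card * 2 := by
    show ∑ q ∈ (Finset.univ : Finset α).offDiag, (T.filter fun g => g • q.1 = q.1 ∧ g • q.2 = q.2).card = _
    simp only [Finset.card_filter]
    rw [Finset.sum_comm]
    refine Finset.sum_const_nat fun g hg => ?_
    rw [← Finset.card_filter]
    rw [show ((Finset.univ : Finset α).offDiag.filter fun q => g • q.1 = q.1 ∧ g • q.2 = q.2) =
      (Finset.univ.filter fun x : α => g • x = x).offDiag by
        ext q; simp [Finset.mem_offDiag]; tauto,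
      Finset.offDiag_card, hfix g hg]
  haveI := h3
  have h2t : MulAction.IsMultiplyPretransitive G α 2 :=
    MulAction.isMultiplyPretransitive_of_le (n := 3) (by omega) (by rw [Nat.card_eq_fintype_card]; omega)
  have hconst : ∀ q ∈ (Finset.univ : Finset α).offDiag, (F q).card = (F (a, b)).card := by
    intro q hq
    rw [Finset.mem_offDiag] at hq
    obtain ⟨k, hk1, hk2⟩ : ∃ k : G, k • a = q.1 ∧ k • b = q.2 :=
      (MulAction.is_two_pretransitive_iff.1 h2t) hab hq.2.2
    have hord : ∀ k g : G, orderOf (k * g * k⁻¹) = orderOf g := fun k g => by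
      rw [show k * g * k⁻¹ = (MulAut.conj k).toMonoidHom g from rfl,
        orderOf_injective _ (MulAut.conj k).injective]
    refine Finset.card_bij' (fun g _ => k⁻¹ * g * k⁻¹⁻¹) (fun g _ => k * g * k⁻¹) ?_ ?_ ?_ ?_
    · intro g hg
      simp only [F, Finset.mem_filter, hT] at hg ⊢
      refine ⟨(hord k⁻¹ g).trans hg.1, ?_, ?_⟩
      · rw [inv_inv, mul_smul, mul_smul, hk1, hg.2.1, ← hk1, inv_smul_smul]
      · rw [inv_inv, mul_smul, mul_smul, hk2, hg.2.2, ← hk2, inv_smul_smul]
    · intro g hg
      simp only [F, Finset.mem_filter, hT] at hg ⊢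
      refine ⟨(hord k g).trans hg.1, ?_, ?_⟩
      · rw [mul_smul, mul_smul, ← hk1, inv_smul_smul, hg.2.1]
      · rw [mul_smul, mul_smul, ← hk2, inv_smul_smul, hg.2.2]
    · intro g _; group
    · intro g _; group
  rw [Finset.sum_const_nat hconst, Finset.offDiag_card, Finset.card_univ, ← hn, hTcard,
    ← Nat.mul_sub_one] at htotal
  have hF : (F (a, b)).card = 2 := Nat.eq_of_mul_eq_mul_left
    (Nat.mul_pos (by omega) (by omega)) htotal
  have key : ∀ S : Subgroup G, S ≤ MulAction.stabilizer G a ⊓ MulAction.stabilizer G b →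
      Nat.card S = 3 → ∀ g, g ∈ S ↔ g = 1 ∨ g ∈ F (a, b) := by
    intro S hS hS3
    have heq : (Finset.univ.filter fun g : G => g ∈ S ∧ g ≠ 1) = F (a, b) := by
      refine Finset.eq_of_subset_of_card_le (fun g hg => ?_) ?_
      · simp only [Finset.mem_filter, Finset.mem_univ, true_and] at hg
        simp only [F, Finset.mem_filter, hT]
        exact ⟨hinA S hS3 g hg.1 hg.2, (hS hg.1).1, (hS hg.1).2⟩
      · rw [hF, show (Finset.univ.filter fun g : G => g ∈ S ∧ g ≠ 1) =
          (Finset.univ.filter fun g : G => g ∈ S).erase 1 by ext g; simp [and_comm],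
          Finset.card_erase_of_mem (by simp),
          show (Finset.univ.filter fun g : G => g ∈ S).card = 3 by
            rw [← hS3]; exact (Nat.subtype_card _ fun x => by simp).symm]
    intro g
    by_cases hg : g = 1
    · simp [hg, S.one_mem]
    · rw [← heq]; simp [hg]
  exact SetLike.ext fun g => (key A hA hA3 g).trans (key B hB hB3 g).symm

end Cfsg.Agent.S0728
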