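import Cfsg.Statements.S0007

set_option autoImplicit false
open Cfsg

namespace Cfsg.Agent.S0007

/-- Subgroups of coprime index: the intersection has index equal to the product of the indices, and every element is a product of an element of the first subgroup and an element of the second. -/
theorem result {G : Type*} [Group G] [Finite G] (H K : Subgroup G)
    (h : H.index.Coprime K.index) :
    (H ⊓ K).index = H.index * K.index ∧ ∀ g : G, ∃ x ∈ H, ∃ y ∈ K, g = x * y := by
  have h1 : (H ⊓ K).index ≤ H.index * K.index := Subgroup.index_inf_le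
  have h2 : H.index * K.index ∣ (H ⊓ K).index :=
    h.mul_dvd_of_dvd_of_dvd (Subgroup.index_dvd_of_le inf_le_left) (Subgroup.index_dvd_of_le inf_le_right)
  have h3 : (H ⊓ K).index = H.index * K.index :=
    le_antisymm h1 (Nat.le_of_dvd (Nat.pos_of_ne_zero Subgroup.index_ne_zero_of_finite) h2)
  refine ⟨h3, fun g => ?_⟩
  have h4 : K.relIndex H = K.index := by
    have h5 := Subgroup.relIndex_mul_index (inf_le_left : H ⊓ K ≤ H)
    rw [h3, Subgroup.inf_relIndex_left, mul_comm H.index] at h5
    exact Nat.eq_of_mul_eq_mul_right (Nat.pos_of_ne_zero Subgroup.index_ne_zero_of_finite) h5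
  have hinj : Function.Injective (fun x : H ⧸ K.subgroupOf H =>
      Subgroup.quotientMapOfLE (s := ⊥) (t := K) bot_le
        (((Quotient.out x : H) : G) : G ⧸ (⊥ : Subgroup G))) := by
    intro x y hxy
    simp only [Subgroup.quotientMapOfLE_apply_mk] at hxy
    rw [QuotientGroup.eq] at hxy
    rw [← Quotient.out_eq x, ← Quotient.out_eq y]
    exact QuotientGroup.eq.2 hxy
  have := Fintype.ofFinite (G ⧸ K)
  obtain ⟨x, hx⟩ := (hinj.bijective_of_nat_card_le
    (by rw [← Subgroup.index_eq_card, ← Subgroup.index_eq_card]; exact h4.ge)).2 (g : G ⧸ K)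
  simp only [Subgroup.quotientMapOfLE_apply_mk] at hx
  exact ⟨_, (Quotient.out x).2, _, QuotientGroup.eq.1 hx, (mul_inv_cancel_left _ _).symm⟩

end Cfsg.Agent.S0007
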