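import Cfsg.Statements.S0010
-- import your own Cfsg.Agent.* helpers here

set_option autoImplicit false
open Cfsg

namespace Cfsg.Agent.S0010

/-- The largest normal p-subgroup of a finite group is the intersection of all its Sylow p-subgroups. -/
theorem result {G : Type*} [Group G] [Finite G] (p : ℕ) [Fact p.Prime] :
    Cfsg.pCore p G = ⨅ P : Sylow p G, (P : Subgroup G) := by
  apply le_antisymm
  · refine sSup_le fun N hN => le_iInf fun P => ?_
    haveI := hN.1
    obtain ⟨Q, hQ⟩ := hN.2.exists_le_sylow
    obtain ⟨g, rfl⟩ := MulAction.exists_smul_eq G Q P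
    rw [Sylow.coe_subgroup_smul, ← Subgroup.Normal.conj_smul_eq_self g N]
    exact Subgroup.pointwise_smul_le_pointwise_smul_iff.2 hQ
  · refine le_sSup ⟨⟨fun x hx g => ?_⟩, ?_⟩
    · rw [Subgroup.mem_iInf] at hx ⊢
      intro P
      have h := hx (g⁻¹ • P)
      rw [Sylow.coe_subgroup_smul] at h
      rw [Subgroup.mem_pointwise_smul_iff_inv_smul_mem] at h
      simpa [MulAut.conj] using h
    · obtain ⟨P⟩ := (inferInstance : Nonempty (Sylow p G))
      exact P.2.to_le (iInf_le _ P)

end Cfsg.Agent.S0010
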