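import Cfsg.Statements.S0012

set_option autoImplicit false
open Cfsg

namespace Cfsg.Agent.S0012

/-- In a finite p-group every commutator and every p-th power lies in the Frattini subgroup, so the Frattini quotient is elementary abelian. -/
theorem result {G : Type*} [Group G] [Finite G] (p : ℕ) [Fact p.Prime]
    (hG : IsPGroup p G) : commutator G ≤ frattini G ∧ ∀ x : G, x ^ p ∈ frattini G := by
  have hn : Group.IsNilpotent G := hG.isNilpotent
  have key : ∀ M : Subgroup G, IsCoatom M → commutator G ≤ M ∧ ∀ x : G, x ^ p ∈ M := by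
    intro M hM
    have hMn : M.Normal :=
      Subgroup.NormalizerCondition.normal_of_coatom M Group.normalizerCondition_of_isNilpotent hM
    obtain ⟨n, hn'⟩ := hG.index M
    have hp : p.Prime := Fact.out
    have hne : Nontrivial (G ⧸ M) := by
      rw [← Finite.one_lt_card_iff_nontrivial, ← Subgroup.index_eq_card]
      exact Subgroup.one_lt_index_of_ne_top hM.1
    have hq : IsPGroup p (G ⧸ M) := hG.to_quotient M
    have hsimple : ∀ K : Subgroup (G ⧸ M), K ≠ ⊥ → K = ⊤ := fun K hK => by
      have hle : M ≤ K.comap (QuotientGroup.mk' M) := fun m hm => by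
        rw [Subgroup.mem_comap, QuotientGroup.mk'_apply, (QuotientGroup.eq_one_iff m).2 hm]
        exact one_mem _
      rcases eq_or_lt_of_le hle with h1 | h1
      · exact absurd (by
          rw [← Subgroup.map_comap_eq_self_of_surjective (QuotientGroup.mk'_surjective M) K, ← h1,
            QuotientGroup.map_mk'_self]) hK
      · rw [← Subgroup.map_comap_eq_self_of_surjective (QuotientGroup.mk'_surjective M) K,
          hM.2 _ h1, Subgroup.map_top_of_surjective _ (QuotientGroup.mk'_surjective M)]
    obtain ⟨y, hy⟩ := exists_prime_orderOf_dvd_card' (G := G ⧸ M) p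
      (hq.card_eq_or_dvd.resolve_left (Finite.one_lt_card (α := G ⧸ M)).ne')
    have hy1 : Subgroup.zpowers y = ⊤ := hsimple _ fun h => by
      rw [Subgroup.zpowers_eq_bot.1 h, orderOf_one] at hy
      exact hp.ne_one hy.symm
    have hmem : ∀ a : G ⧸ M, ∃ k : ℤ, y ^ k = a := fun a =>
      Subgroup.mem_zpowers_iff.1 (hy1 ▸ Subgroup.mem_top a)
    refine ⟨?_, fun x => ?_⟩
    · rw [commutator_def, Subgroup.commutator_le]
      intro a _ b _
      rw [← QuotientGroup.eq_one_iff]
      obtain ⟨k, hk⟩ := hmem a
      obtain ⟨l, hl⟩ := hmem b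
      rw [← QuotientGroup.mk'_apply, map_commutatorElement, commutatorElement_eq_one_iff_mul_comm,
        QuotientGroup.mk'_apply, QuotientGroup.mk'_apply, ← hk, ← hl, ← zpow_add, ← zpow_add,
        add_comm]
    · rw [← QuotientGroup.eq_one_iff, QuotientGroup.mk_pow]
      obtain ⟨k, hk⟩ := hmem (x : G ⧸ M)
      rw [← hk, ← zpow_natCast, ← zpow_mul, mul_comm, zpow_mul, zpow_natCast, ← hy,
        pow_orderOf_eq_one, one_zpow]
  refine ⟨?_, fun x => ?_⟩
  · rw [frattini, Order.radical]
    exact le_iInf₂ fun M hM => (key M hM).1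
  · rw [frattini, Order.radical, Subgroup.mem_iInf]
    intro M
    rw [Subgroup.mem_iInf]
    exact fun hM => (key M hM).2 x

end Cfsg.Agent.S0012
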