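import Cfsg.Statements.S0013
import Mathlib.RingTheory.Coprime.Lemmas
import Mathlib.RingTheory.Int.Basic

set_option autoImplicit false
open scoped Pointwise commutatorElement
open Cfsg

namespace Cfsg.Agent.S0013

/-- In a finite p-group the Frattini subgroup is the smallest normal subgroup with elementary abelian quotient: it lies below any normal subgroup containing all commutators and all p-th powers. -/
theorem result {G : Type*} [Group G] [Finite G] (p : ℕ) [Fact p.Prime]
    (hG : IsPGroup p G) (N : Subgroup G) [N.Normal] (hcomm : commutator G ≤ N) (hpow : ∀ x : G, x ^ p ∈ N) :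
    frattini G ≤ N := by
  intro x hx
  by_contra hxN
  obtain ⟨M, hNM, hxM, hmax⟩ :=
    Finite.exists_le_maximal (p := fun K : Subgroup G => x ∉ K) (a := N) hxN
  have hMn : M.Normal := by
    refine ⟨fun m hm g => ?_⟩
    have h1 : g * m * g⁻¹ * m⁻¹ ∈ M :=
      hNM (hcomm (Subgroup.commutator_mem_commutator (Subgroup.mem_top g) (Subgroup.mem_top m)))
    simpa using mul_mem h1 hm
  have key : ∀ y : G, y ∉ M → y ∈ M ⊔ Subgroup.zpowers x := by
    intro y hy
    have hxy : x ∈ M ⊔ Subgroup.zpowers y := by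
      by_contra h
      exact hy (hmax (y := M ⊔ Subgroup.zpowers y) h le_sup_left
        (Subgroup.mem_sup_right (Subgroup.mem_zpowers y)))
    rw [sup_comm, ← SetLike.mem_coe, Subgroup.mul_normal, Set.mem_mul] at hxy
    obtain ⟨_, ⟨k, rfl⟩, m, hm, hkm⟩ := hxy
    have hk : ¬ (p : ℤ) ∣ k := by
      rintro ⟨j, rfl⟩
      refine hxM (hkm ▸ mul_mem ?_ hm)
      show y ^ ((p : ℤ) * j) ∈ M
      rw [zpow_mul, zpow_natCast]
      exact zpow_mem (hNM (hpow y)) j
    have hcop : IsCoprime (p : ℤ) k :=
      (Nat.prime_iff_prime_int.1 Fact.out).coprime_iff_not_dvd.2 hk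
    obtain ⟨a, b, hab⟩ := hcop
    have hyk : y ^ k ∈ M ⊔ Subgroup.zpowers x := by
      have : y ^ k = x * m⁻¹ := eq_mul_inv_of_mul_eq hkm
      rw [this]
      exact mul_mem (Subgroup.mem_sup_right (Subgroup.mem_zpowers x))
        (Subgroup.mem_sup_left (inv_mem hm))
    have : y = (y ^ (p : ℤ)) ^ a * (y ^ k) ^ b := by
      rw [← zpow_mul, ← zpow_mul, ← zpow_add, mul_comm (p : ℤ), mul_comm k, hab, zpow_one]
    rw [this]
    refine mul_mem (zpow_mem (Subgroup.mem_sup_left ?_) a) (zpow_mem hyk b)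
    rw [zpow_natCast]
    exact hNM (hpow y)
  have hM : IsCoatom M := by
    refine ⟨fun h => hxM (h ▸ Subgroup.mem_top x), fun K hK => ?_⟩
    have hxK : x ∈ K := by
      by_contra h
      exact hK.not_ge (hmax h hK.le)
    rw [eq_top_iff]
    intro y _
    by_cases hy : y ∈ M
    · exact hK.le hy
    · exact sup_le hK.le (Subgroup.zpowers_le.2 hxK) (key y hy)
  exact hxM (frattini_le_coatom hM hx)

end Cfsg.Agent.S0013
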