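import Cfsg.Statements.S0014
import Cfsg.Agent.S0012

set_option autoImplicit false
open scoped Pointwise commutatorElement
open Cfsg

namespace Cfsg.Agent.S0014

/-- Burnside's basis Theorem: in a finite p-group whose Frattini quotient has order p ^ n, every generating set contains n elements that already generate, and no set with fewer than n elements generates. -/
theorem result {G : Type*} [Group G] [Finite G] (p n : ℕ) [Fact p.Prime]
    (hG : IsPGroup p G) (hn : (frattini G).index = p ^ n) :
    (∀ S : Finset G, Subgroup.closure (S : Set G) = ⊤ → ∃ T : Finset G, T ⊆ S ∧ T.card = n ∧ Subgroup.closure (T : Set G) = ⊤) ∧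
    (∀ T : Finset G, Subgroup.closure (T : Set G) = ⊤ → n ≤ T.card) := by
  classical
  have hp : p.Prime := Fact.out
  set F := frattini G with hF
  have hcomm : commutator G ≤ F ∧ ∀ x : G, x ^ p ∈ F := Cfsg.Agent.S0012.result p hG
  have hnormal : ∀ K : Subgroup G, F ≤ K → K.Normal := fun K hK => ⟨fun m hm g => by
    have h1 : g * m * g⁻¹ * m⁻¹ ∈ K :=
      hK (hcomm.1 (Subgroup.commutator_mem_commutator (Subgroup.mem_top g) (Subgroup.mem_top m)))
    simpa using mul_mem h1 hm⟩
  have hstep : ∀ (K : Subgroup G) (s : G), F ≤ K → s ∉ K →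
      K.relIndex (K ⊔ Subgroup.zpowers s) = p := by
    intro K s hFK hs
    have := hnormal K hFK
    have h1 := Subgroup.relIndex_ker (QuotientGroup.mk' K) (K := Subgroup.zpowers s)
    rw [QuotientGroup.ker_mk', MonoidHom.map_zpowers, Nat.card_zpowers] at h1
    rw [Subgroup.relIndex_sup_left, h1]
    refine orderOf_eq_prime ?_ ?_
    · rw [← map_pow, QuotientGroup.mk'_apply, QuotientGroup.eq_one_iff]
      exact hFK (hcomm.2 s)
    · rw [QuotientGroup.mk'_apply, ne_eq, QuotientGroup.eq_one_iff]
      exact hs
  have key : ∀ S : Finset G, ∃ T ⊆ S, Subgroup.closure (T : Set G) ⊔ F =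
      Subgroup.closure (S : Set G) ⊔ F ∧ F.relIndex (Subgroup.closure (S : Set G) ⊔ F) = p ^ T.card := by
    intro S
    induction S using Finset.induction_on with
    | empty => exact ⟨∅, subset_rfl, rfl, by simp⟩
    | @insert s S hs ih =>
      obtain ⟨T, hTS, hT, hTc⟩ := ih
      have hins : ∀ U : Finset G, Subgroup.closure ((insert s U : Finset G) : Set G) ⊔ F =
          (Subgroup.closure (U : Set G) ⊔ F) ⊔ Subgroup.zpowers s := fun U => by
        rw [Finset.coe_insert, Set.insert_eq, Subgroup.closure_union, ← Subgroup.zpowers_eq_closure]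
        ac_rfl
      by_cases hsK : s ∈ Subgroup.closure (S : Set G) ⊔ F
      · refine ⟨T, hTS.trans (Finset.subset_insert _ _), ?_, ?_⟩ <;>
          rw [hins S, sup_eq_left.2 (Subgroup.zpowers_le.2 hsK)] <;> assumption
      · refine ⟨insert s T, Finset.insert_subset_insert _ hTS, by rw [hins, hins, hT], ?_⟩
        rw [hins S, Finset.card_insert_of_notMem (fun h => hsK (Subgroup.mem_sup_left
            (Subgroup.subset_closure (hTS h)))), pow_succ, ← hTc,
          ← hstep _ s le_sup_right hsK]
        exact (Subgroup.relIndex_mul_relIndex _ _ _ le_sup_right le_sup_left).symm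
  constructor
  · intro S hS
    obtain ⟨T, hTS, hT, hTc⟩ := key S
    rw [hS, top_sup_eq] at hT hTc
    rw [Subgroup.relIndex_top_right, hn] at hTc
    exact ⟨T, hTS, (Nat.pow_right_injective hp.two_le hTc).symm, frattini_nongenerating hT⟩
  · intro T hT
    obtain ⟨U, hUT, hU, hUc⟩ := key T
    rw [hT, top_sup_eq] at hU hUc
    rw [Subgroup.relIndex_top_right, hn] at hUc
    exact (Nat.pow_right_injective hp.two_le hUc).trans_le (Finset.card_le_card hUT)

end Cfsg.Agent.S0014
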