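import Cfsg.Statements.S0015

set_option autoImplicit false
open Cfsg

namespace Cfsg.Agent.S0015

/-- In a finite nilpotent group, an abelian normal subgroup that is maximal among abelian normal subgroups equals its own centralizer. -/
theorem result {G : Type*} [Group G] [Finite G] [Group.IsNilpotent G]
    (N : Subgroup G) [N.Normal] [IsMulCommutative N]
    (hmax : ∀ M : Subgroup G, M.Normal → IsMulCommutative M → N ≤ M → M = N) :
    Subgroup.centralizer (N : Set G) = N := by
  set C := Subgroup.centralizer (N : Set G) with hC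
  have hCn : C.Normal := inferInstance
  have hNC : N ≤ C := Subgroup.le_centralizer N
  refine le_antisymm ?_ hNC
  by_contra hne
  have hex : ∃ n, ¬ C ⊓ Subgroup.upperCentralSeries G n ≤ N := by
    obtain ⟨n, hn⟩ := Group.IsNilpotent.nilpotent G
    exact ⟨n, by rwa [hn, inf_top_eq]⟩
  classical
  set i := Nat.find hex with hi
  have hi0 : i ≠ 0 := fun h => Nat.find_spec hex (by
    rw [← hi, h, Subgroup.upperCentralSeries_zero, inf_bot_eq]; exact bot_le)
  obtain ⟨j, hj⟩ := Nat.exists_eq_succ_of_ne_zero hi0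
  have hjN : C ⊓ Subgroup.upperCentralSeries G j ≤ N :=
    not_not.1 (Nat.find_min hex (by rw [← hi, hj]; exact Nat.lt_succ_self j))
  obtain ⟨x, hx, hxN⟩ := SetLike.not_le_iff_exists.1 (Nat.find_spec hex)
  rw [← hi, hj] at hx
  obtain ⟨hxC, hxZ⟩ := Subgroup.mem_inf.1 hx
  rw [Subgroup.mem_upperCentralSeries_succ_iff] at hxZ
  set M := N ⊔ Subgroup.zpowers x with hM
  have hMc : IsMulCommutative M := by
    rw [← Subgroup.le_centralizer_iff_isMulCommutative, hM, sup_le_iff]
    constructor
    · rw [Subgroup.le_centralizer_iff, sup_le_iff]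
      exact ⟨hNC, Subgroup.zpowers_le.2 hxC⟩
    · rw [Subgroup.le_centralizer_iff, sup_le_iff]
      refine ⟨?_, Subgroup.le_centralizer _⟩
      rw [Subgroup.le_centralizer_iff]
      exact Subgroup.zpowers_le.2 hxC
  have hMn : M.Normal := by
    have hsub : ∀ g : G, g * x * g⁻¹ ∈ M := by
      intro g
      have h1 : x * g * x⁻¹ * g⁻¹ ∈ N :=
        hjN (Subgroup.mem_inf.2 ⟨by
          have h2 : g * x⁻¹ * g⁻¹ ∈ C := hCn.conj_mem _ (inv_mem hxC) g
          simpa [mul_assoc] using mul_mem hxC h2, by
          simpa [commutatorElement_def] using hxZ g⟩)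
      rw [show g * x * g⁻¹ = (x * g * x⁻¹ * g⁻¹)⁻¹ * x by group]
      exact mul_mem (Subgroup.mem_sup_left (inv_mem h1))
        (Subgroup.mem_sup_right (Subgroup.mem_zpowers x))
    rw [← Subgroup.normalizer_eq_top_iff, eq_top_iff, hM, ← Subgroup.closure_eq N,
      Subgroup.zpowers_eq_closure, ← Subgroup.closure_union, Subgroup.le_normalizer_closure_iff]
    rintro g - y (hy | hy)
    · exact Subgroup.subset_closure (Or.inl (‹N.Normal›.conj_mem y hy g))
    · rw [Set.mem_singleton_iff.1 hy, Subgroup.closure_union, ← Subgroup.zpowers_eq_closure,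
        Subgroup.closure_eq]
      exact hsub g
  exact hxN (hmax M hMn hMc le_sup_left ▸ Subgroup.mem_sup_right (Subgroup.mem_zpowers x))

end Cfsg.Agent.S0015
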