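import Cfsg.Statements.S0032

set_option autoImplicit false
open Cfsg

namespace Cfsg.Agent.S0032

/-- If an automorphism of a finite group fixes only the identity and maps a normal subgroup N into itself, then the only cosets of N it fixes are those in N: a fixed coset xN forces x ∈ N. -/
theorem result {G : Type*} [Group G] [Finite G] (φ : G ≃* G)
    (hφ : MonoidHom.FixedPointFree (φ : G →* G)) (N : Subgroup G) [N.Normal] (hN : ∀ n ∈ N, φ n ∈ N)
    (x : G) (hx : (φ x)⁻¹ * x ∈ N) : x ∈ N := by
  obtain ⟨m, hm⟩ : ∃ m : G, m ∈ N ∧ m / φ m = x / φ x := by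
    let T : N → N := fun n => ⟨(n : G) / φ n, N.div_mem n.2 (hN n n.2)⟩
    have hT : Function.Injective T := fun a b hab =>
      Subtype.ext (MonoidHom.FixedPointFree.commutatorMap_injective hφ (congrArg Subtype.val hab))
    have hxN : x / φ x ∈ N := by
      have := ‹N.Normal›.conj_mem _ hx x
      simpa [div_eq_mul_inv, mul_assoc] using ‹N.Normal›.mem_comm hx
    obtain ⟨n, hn⟩ := Finite.surjective_of_injective hT ⟨_, hxN⟩
    exact ⟨n, n.2, congrArg Subtype.val hn⟩
  exact MonoidHom.FixedPointFree.commutatorMap_injective hφ hm.2 ▸ hm.1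

end Cfsg.Agent.S0032
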