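import Cfsg.Statements.S0034
import Cfsg.Agent.Lib.Solvable.Frobenius

set_option autoImplicit false
open scoped Pointwise commutatorElement
open Cfsg

namespace Cfsg.Agent.S0034

/-- For a Frobenius complement H, the set of elements lying in no conjugate of H, together with 1, has exactly as many elements as the index of H, and that index is congruent to 1 modulo the order of H. -/
theorem result {G : Type*} [Group G] [Finite G] (H : Subgroup G) (hH : Cfsg.IsFrobeniusComplement H) :
    Nat.card (Cfsg.frobeniusKernel H) = H.index ∧ H.index % Nat.card H = 1 % Nat.card H := by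
  obtain ⟨N, hset, hn, hne, hc, hfpf, -, hcard, -⟩ :=
    Cfsg.Agent.FrobeniusStruct.exists_kernel hH
  refine ⟨?_, ?_⟩
  · rw [← hcard, ← hset]
    rfl
  · rw [← hcard]
    exact Cfsg.Agent.FrobeniusStruct.card_mod_eq_one Subgroup.le_normalizer_of_normal hfpf

end Cfsg.Agent.S0034
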