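import Cfsg.Statements.S0049
import Mathlib.GroupTheory.SchurZassenhaus

set_option autoImplicit false
open scoped Pointwise commutatorElement
open Cfsg

namespace Cfsg.Agent.S0049

/-- A prime divisor of the order of a finite group also divides the index of the Frattini subgroup. -/
theorem result {G : Type*} [Group G] [Finite G] (p : ℕ) (hp : p.Prime) (hdvd : p ∣ Nat.card G) :
    p ∣ (frattini G).index := by
  have := Fact.mk hp
  by_contra hnd
  obtain ⟨P⟩ := (inferInstance : Nonempty (Sylow p G))
  have hPF : (P : Subgroup G) ≤ frattini G := by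
    rw [← Subgroup.relIndex_eq_one]
    obtain ⟨a, ha⟩ := IsPGroup.iff_card.1 P.isPGroup'
    obtain ⟨i, -, hi⟩ := (Nat.dvd_prime_pow hp).1
      (ha ▸ Subgroup.relIndex_dvd_card (frattini G) (P : Subgroup G))
    rcases Nat.eq_zero_or_pos i with h | h
    · rw [hi, h, pow_zero]
    · exact absurd ((hi ▸ dvd_pow_self p h.ne').trans
        (Subgroup.relIndex_dvd_index_of_normal (frattini G) (P : Subgroup G))) hnd
  have hPn : (P : Subgroup G).Normal :=
    Subgroup.normalizer_eq_top_iff.1 (frattini_nongenerating (Sylow.normalizer_sup_eq_top' P hPF))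
  obtain ⟨H, hH⟩ := Subgroup.exists_right_complement'_of_coprime (N := (P : Subgroup G))
    P.card_coprime_index
  have hHtop : H = ⊤ := frattini_nongenerating (eq_top_iff.2 (hH.sup_eq_top.ge.trans
    (sup_le (le_sup_of_le_right hPF) le_sup_left)))
  rw [hHtop, Subgroup.isComplement'_top_right] at hH
  exact P.ne_bot_of_dvd_card hdvd hH

end Cfsg.Agent.S0049
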