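import Cfsg.Statements.S0050
import Cfsg.Agent.Lib.Solvable.Hall

set_option autoImplicit false
open Cfsg
open scoped Pointwise

namespace Cfsg.Agent.S0050

/-- Frattini argument for Hall subgroups: if L is a solvable normal subgroup and H a subgroup of L of order coprime to its index in L, then L together with the normaliser of H generates the whole group. -/
theorem result {G : Type*} [Group G] [Finite G] (L : Subgroup G) [L.Normal] (hL : Group.IsSolvable L)
    (H : Subgroup G) (hHL : H ≤ L) (hHall : (Nat.card H).Coprime (H.relIndex L)) :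
    L ⊔ Subgroup.normalizer (H : Set G) = ⊤ := by
  rw [eq_top_iff]
  intro g _
  have cH : Nat.card (H.subgroupOf L) = Nat.card H :=
    Nat.card_congr (Subgroup.subgroupOfEquivOfLe hHL).toEquiv
  have hgL : MulAut.conj g • H ≤ L := by
    rw [← Subgroup.Normal.conj_smul_eq_self g L]
    exact Subgroup.pointwise_smul_le_pointwise_smul_iff.2 hHL
  have cK : Nat.card ((MulAut.conj g • H).subgroupOf L) = Nat.card H := by
    rw [Nat.card_congr (Subgroup.subgroupOfEquivOfLe hgL).toEquiv,
      Cfsg.Agent.SolvBasic.card_conjSmul]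
  have hcard : Nat.card L = Nat.card H * H.relIndex L := by
    rw [← cH, Subgroup.relIndex, Subgroup.card_mul_index]
  obtain ⟨l, hl⟩ := Cfsg.Agent.HallSolv.hall_conj hcard hHall cK cH
  have h1 := congrArg (Subgroup.map L.subtype) hl
  rw [Cfsg.Agent.SolvBasic.map_subtype_conjSmul, Subgroup.map_subgroupOf_eq_of_le hgL,
    Subgroup.map_subgroupOf_eq_of_le hHL, Cfsg.Agent.SolvBasic.conjSmul_conjSmul] at h1
  rw [show g = (l : G)⁻¹ * ((l : G) * g) by group]
  exact mul_mem (Subgroup.mem_sup_left (inv_mem l.2))
    (Subgroup.mem_sup_right (Cfsg.Agent.SolvBasic.mem_normalizer_iff_conjSmul.2 h1))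

end Cfsg.Agent.S0050
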