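import Cfsg.Statements.S0053
import Cfsg.Agent.Lib.Solvable.Structure

set_option autoImplicit false
open scoped Pointwise commutatorElement
open Cfsg

namespace Cfsg.Agent.S0053

/-- An abelian minimal normal subgroup N of a finite group is complemented exactly when N is not inside the Frattini subgroup. -/
theorem result {G : Type*} [Group G] [Finite G]
    (N : Subgroup G) [N.Normal] [IsMulCommutative N] (hN : N ≠ ⊥)
    (hmin : ∀ M : Subgroup G, M.Normal → M ≤ N → M = ⊥ ∨ M = N) :
    (∃ H : Subgroup G, Subgroup.IsComplement' N H) ↔ ¬ N ≤ frattini G := by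
  constructor
  · rintro ⟨H, hH⟩ hle
    have hHtop : H = ⊤ := frattini_nongenerating (eq_top_iff.2 (hH.sup_eq_top.ge.trans
      (sup_le (le_sup_of_le_right hle) le_sup_left)))
    rw [hHtop, Subgroup.isComplement'_top_right] at hH
    exact hN hH
  · intro hle
    obtain ⟨M, hM, hNM⟩ : ∃ M : Subgroup G, IsCoatom M ∧ ¬ N ≤ M := by
      by_contra! hc
      exact hle (le_iInf₂ fun M hM => hc M hM)
    have htop : N ⊔ M = ⊤ := hM.2 _ (lt_of_le_of_ne le_sup_right fun h => hNM (h ▸ le_sup_left))
    have hn := Cfsg.Agent.SolvStruct.inf_normal_of_sup_eq_top htop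
    rcases hmin _ hn inf_le_left with h | h
    · refine ⟨M, Subgroup.isComplement'_of_card_mul_and_disjoint ?_ (disjoint_iff.2 h)⟩
      rw [← Cfsg.Agent.SolvBasic.card_sup_of_inf_eq_bot Subgroup.le_normalizer_of_normal h, htop,
        Subgroup.card_top]
    · exact absurd (inf_eq_left.1 h) hNM

end Cfsg.Agent.S0053
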