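import Cfsg.Statements.S0057
import Cfsg.Agent.Lib.Solvable.Coprime
import Cfsg.Agent.Lib.Solvable.Structure
import Mathlib.GroupTheory.IndexNormal

set_option autoImplicit false
open scoped Pointwise commutatorElement
open Cfsg

namespace Cfsg.Agent.S0057

/-- Under coprime action, if the centraliser of A in K has prime index p in K then the commutator subgroup [K, A] has order exactly p. -/
theorem result {G : Type*} [Group G] [Finite G] (A K : Subgroup G) (hAK : A ≤ Subgroup.normalizer (K : Set G))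
    (hcop : (Nat.card A).Coprime (Nat.card K)) (hsolv : Group.IsSolvable A ∨ Group.IsSolvable K)
    (p : ℕ) (hp : p.Prime) (hidx : (K ⊓ Subgroup.centralizer (A : Set G)).relIndex K = p) :
    Nat.card (⁅K, A⁆ : Subgroup G) = p := by
  have : Fact p.Prime := ⟨hp⟩
  set C := K ⊓ Subgroup.centralizer (A : Set G) with hC
  obtain ⟨Q⟩ := (inferInstance : Nonempty (Sylow p C))
  set U := (Q : Subgroup C).map C.subtype with hU
  have hUC : U ≤ C := Subgroup.map_subtype_le _
  have hAU : A ≤ Subgroup.normalizer (U : Set G) := by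
    refine le_trans ?_ (Subgroup.centralizer_le_normalizer _)
    rw [Subgroup.le_centralizer_iff]
    exact hUC.trans inf_le_right
  obtain ⟨P, hUP, hAP⟩ := Cfsg.Agent.CoprimeAct.exists_invariant_sylow_ge hAK hcop hsolv
    (hUC.trans inf_le_left) (Q.isPGroup'.map C.subtype) hAU
  set Pm := (P : Subgroup K).map K.subtype with hPm
  set m := (Nat.card C).factorization p with hm
  have hKC : Nat.card K = p * Nat.card C := by
    have := Subgroup.relIndex_mul_relIndex (⊥ : Subgroup G) C K bot_le inf_le_left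
    rw [Subgroup.relIndex_bot_left, Subgroup.relIndex_bot_left, hidx] at this
    rw [← this, mul_comm]
  have hPc : Nat.card Pm = p ^ (m + 1) := by
    rw [hPm, Cfsg.Agent.CoprimeAct.card_map_sylow, hKC, Nat.factorization_mul hp.ne_zero
      Nat.card_pos.ne', Finsupp.add_apply, hp.factorization_self, add_comm]
  have hUc : Nat.card U = p ^ m := by rw [hU, Cfsg.Agent.CoprimeAct.card_map_sylow]
  have hCP : C ⊓ Pm = U := by
    refine (Subgroup.eq_of_le_of_card_ge (le_inf hUC hUP) ?_).symm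
    have hpg : IsPGroup p (C ⊓ Pm : Subgroup G) :=
      (P.isPGroup'.map K.subtype).to_le inf_le_right
    obtain ⟨i, hi⟩ := hpg.exists_card_eq
    rw [hUc, hi]
    refine Nat.pow_le_pow_right hp.pos ?_
    exact (hp.pow_dvd_iff_le_factorization Nat.card_pos.ne').1
      (hi ▸ Subgroup.card_dvd_of_le inf_le_left)
  have hrel : C.relIndex Pm = p := by
    have := Subgroup.relIndex_mul_relIndex (⊥ : Subgroup G) (C ⊓ Pm) Pm bot_le inf_le_right
    rw [Subgroup.relIndex_bot_left, Subgroup.relIndex_bot_left, Subgroup.inf_relIndex_right,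
      hPc, hCP, hUc, pow_succ] at this
    exact mul_left_cancel₀ (pow_ne_zero m hp.ne_zero) this
  have hdec : ∀ k ∈ K, ∃ x ∈ Pm, ∃ c ∈ C, k = x * c := by
    intro k hk
    obtain ⟨x, hx, c, hc, he⟩ := Cfsg.Agent.SolvStruct.mul_of_index_le
      (H := (P : Subgroup K)) (K := C.subgroupOf K)
      (by
        change C.relIndex K ≤ (C.comap K.subtype).relIndex (P : Subgroup K)
        rw [hidx, Subgroup.relIndex_comap, ← hPm, hrel]) ⟨k, hk⟩
    exact ⟨x, Subgroup.mem_map_of_mem _ hx, c, hc, congrArg Subtype.val he⟩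
  set X := ⁅K, A⁆ with hX
  have hXP : X = ⁅Pm, A⁆ := by
    refine le_antisymm ?_ (Subgroup.commutator_mono (Subgroup.map_subtype_le _) le_rfl)
    rw [hX, Subgroup.commutator_le]
    intro k hk a ha
    obtain ⟨x, hx, c, hc, rfl⟩ := hdec k hk
    have h1 := Subgroup.mem_centralizer_iff.1 (Subgroup.mem_inf.1 hc).2 a ha
    have h2 : ⁅x * c, a⁆ = ⁅x, a⁆ := by
      rw [commutatorElement_def, commutatorElement_def]
      calc x * c * a * (x * c)⁻¹ * a⁻¹ = x * (c * a) * c⁻¹ * x⁻¹ * a⁻¹ := by simp [mul_assoc]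
        _ = x * (a * c) * c⁻¹ * x⁻¹ * a⁻¹ := by rw [h1]
        _ = _ := by simp [mul_assoc]
    rw [h2]
    exact Subgroup.commutator_mem_commutator hx ha
  have hXle : X ≤ Pm := hXP ▸ Cfsg.Agent.CoprimeAct.commutator_le_left hAP
  have hXK : X ≤ K := Cfsg.Agent.CoprimeAct.commutator_le_left hAK
  have hAX : A ≤ Subgroup.normalizer (X : Set G) := by
    intro a ha
    rw [Cfsg.Agent.SolvBasic.mem_normalizer_iff_conjSmul]
    change X.map (MulAut.conj a).toMonoidHom = X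
    rw [hX, Subgroup.map_commutator]
    exact congrArg₂ (fun S T : Subgroup G => ⁅S, T⁆)
      (Cfsg.Agent.SolvBasic.conjSmul_eq_self_of_mem_normalizer (hAK ha))
      (Cfsg.Agent.SolvBasic.conjSmul_eq_self_of_mem_normalizer (Subgroup.le_normalizer ha))
  have hXX : ⁅X, A⁆ = X := Cfsg.Agent.CoprimeAct.commutator_commutator hAK hcop hsolv
  have hXC : ¬ X ≤ C := by
    intro h
    have hX0 : X = ⊥ := hXX ▸ Subgroup.commutator_eq_bot_iff_le_centralizer.2 (h.trans inf_le_right)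
    have hKC : K ≤ C := le_inf le_rfl (Subgroup.commutator_eq_bot_iff_le_centralizer.1 hX0)
    rw [Subgroup.relIndex_eq_one.2 hKC] at hidx
    exact hp.one_lt.ne hidx
  have hDn : (C.subgroupOf Pm).Normal := Subgroup.normal_of_index_eq_minFac_card
    (show C.relIndex Pm = _ by rw [hrel, hPc, hp.pow_minFac (Nat.succ_ne_zero _)])
  set Y := X ⊓ Subgroup.centralizer (A : Set G) with hY
  have hYC : Y ≤ C := inf_le_inf_right _ hXK
  have h1 : ⁅⁅A, Y⁆, X⁆ = ⊥ := by
    rw [Subgroup.commutator_eq_bot_iff_le_centralizer.2 (Subgroup.le_centralizer_iff.1 inf_le_right)]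
    exact Subgroup.commutator_bot_left X
  have hYX : ∀ x ∈ X, ∀ y ∈ Y, x * y * x⁻¹ ∈ Y := fun x hx y hy =>
    Subgroup.mem_inf.2 ⟨X.mul_mem (X.mul_mem hx (Subgroup.mem_inf.1 hy).1) (X.inv_mem hx),
      (Subgroup.mem_inf.1 (hDn.conj_mem ⟨y, hXle (Subgroup.mem_inf.1 hy).1⟩ (hYC hy)
        ⟨x, hXle hx⟩)).2⟩
  have h2 : ⁅⁅Y, X⁆, A⁆ = ⊥ := by
    refine Subgroup.commutator_eq_bot_iff_le_centralizer.2 (le_trans (b := Y) ?_ inf_le_right)
    rw [Subgroup.commutator_le]
    intro y hy x hx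
    rw [commutatorElement_def, mul_assoc y x, mul_assoc y (x * y⁻¹)]
    exact Y.mul_mem hy (hYX x hx _ (Y.inv_mem hy))
  have h3 := Subgroup.commutator_commutator_eq_bot_of_rotate h1 h2
  rw [hXX, Subgroup.commutator_eq_bot_iff_le_centralizer] at h3
  obtain ⟨x₀, hx₀, hx₀C⟩ := SetLike.not_le_iff_exists.1 hXC
  have hgen : ∀ z ∈ X, ∃ i : ℤ, (x₀ ^ i)⁻¹ * z ∈ Y := by
    intro z hz
    have hc : Nat.card (Pm ⧸ C.subgroupOf Pm) = p := hrel
    have hne : (QuotientGroup.mk (⟨x₀, hXle hx₀⟩ : Pm) : Pm ⧸ C.subgroupOf Pm) ≠ 1 := by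
      rw [Ne, QuotientGroup.eq_one_iff]; exact hx₀C
    obtain ⟨i, hi⟩ := Subgroup.mem_zpowers_iff.1
      ((zpowers_eq_top_of_prime_card hc hne).symm ▸ Subgroup.mem_top
        (QuotientGroup.mk (⟨z, hXle hz⟩ : Pm) : Pm ⧸ C.subgroupOf Pm))
    refine ⟨i, Subgroup.mem_inf.2 ⟨X.mul_mem (X.inv_mem (X.zpow_mem hx₀ i)) hz, ?_⟩⟩
    rw [← QuotientGroup.mk_zpow, QuotientGroup.eq, Subgroup.mem_subgroupOf] at hi
    exact (Subgroup.mem_inf.1 hi).2
  have : IsMulCommutative X := by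
    refine .of_setLike_mul_comm fun a ha b hb => ?_
    obtain ⟨i, hi⟩ := hgen a ha
    obtain ⟨j, hj⟩ := hgen b hb
    have hcen : ∀ y ∈ Y, ∀ w ∈ X, Commute y w := fun y hy w hw =>
      Subgroup.mem_centralizer_iff.1 (h3 hw) y hy
    obtain ⟨u, hu, ea⟩ : ∃ u ∈ Y, a = x₀ ^ i * u := ⟨_, hi, by rw [mul_inv_cancel_left]⟩
    obtain ⟨v, hv, eb⟩ : ∃ v ∈ Y, b = x₀ ^ j * v := ⟨_, hj, by rw [mul_inv_cancel_left]⟩
    subst ea eb
    exact (((Commute.refl x₀).zpow_zpow i j).mul_right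
      ((hcen v hv _ (X.zpow_mem hx₀ i)).symm)).mul_left ((hcen u hu _ hb))
  have hY0 : Y = ⊥ := by
    have := Cfsg.Agent.CoprimeAct.centralizer_inf_commutator_eq_bot hAX
      (Nat.Coprime.coprime_dvd_right (Subgroup.card_dvd_of_le hXK) hcop)
    rwa [hXX, inf_eq_left.2 inf_le_left] at this
  have hXz : X = Subgroup.zpowers x₀ := by
    refine le_antisymm (fun z hz => ?_) (Subgroup.zpowers_le.2 hx₀)
    obtain ⟨i, hi⟩ := hgen z hz
    rw [hY0, Subgroup.mem_bot, inv_mul_eq_one] at hi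
    exact Subgroup.mem_zpowers_iff.2 ⟨i, hi⟩
  rw [hXz, Nat.card_zpowers]
  refine orderOf_eq_prime ?_ fun h => hx₀C (h ▸ C.one_mem)
  have h4 := (C.subgroupOf Pm).pow_index_mem ⟨x₀, hXle hx₀⟩
  rw [show (C.subgroupOf Pm).index = p from hrel, Subgroup.mem_subgroupOf] at h4
  have h5 : x₀ ^ p ∈ Y := Subgroup.mem_inf.2 ⟨X.pow_mem hx₀ p, (Subgroup.mem_inf.1 h4).2⟩
  rwa [hY0, Subgroup.mem_bot] at h5

end Cfsg.Agent.S0057
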