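import Cfsg.Statements.S0060
import Mathlib.Data.Fintype.Lattice

set_option autoImplicit false
open scoped Pointwise commutatorElement
open Pointwise
open Cfsg

namespace Cfsg.Agent.S0060

/-- Brodkey's Theorem: in a finite group with abelian Sylow p-subgroups and no nontrivial normal p-subgroup, some conjugate of a Sylow p-subgroup meets it trivially. -/
theorem result {G : Type*} [Group G] [Finite G] (p : ℕ) [Fact p.Prime]
    (S : Sylow p G) (hS : IsMulCommutative S) (hOp : Cfsg.pCore p G = ⊥) :
    ∃ g : G, (S : Subgroup G) ⊓ MulAut.conj g • (S : Subgroup G) = ⊥ := by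
  obtain ⟨S', hS'⟩ : ∃ g₀ : G, ∀ g : G,
      Nat.card ((S : Subgroup G) ⊓ MulAut.conj g₀ • (S : Subgroup G) : Subgroup G) ≤
        Nat.card ((S : Subgroup G) ⊓ MulAut.conj g • (S : Subgroup G) : Subgroup G) :=
    Finite.exists_min _
  refine ⟨S', ?_⟩
  set D := (S : Subgroup G) ⊓ MulAut.conj S' • (S : Subgroup G) with hD
  set N := Subgroup.centralizer (D : Set G) with hN
  set T : Sylow p G := S' • S with hT
  have hTD : (T : Subgroup G) = MulAut.conj S' • (S : Subgroup G) := Sylow.coe_subgroup_smul
  have hTc : IsMulCommutative (T : Subgroup G) := by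
    refine .of_setLike_mul_comm fun a ha b hb => ?_
    rw [hTD, Subgroup.mem_pointwise_smul_iff_inv_smul_mem, MulAut.smul_def] at ha hb
    exact (MulAut.conj S')⁻¹.injective (by
      simp only [map_mul]; exact setLike_mul_comm (s := (S : Subgroup G)) ha hb)
  have hSN : (S : Subgroup G) ≤ N :=
    (Subgroup.le_centralizer (S : Subgroup G)).trans (Subgroup.centralizer_le inf_le_left)
  have hTN : (T : Subgroup G) ≤ N := by
    refine (Subgroup.le_centralizer (T : Subgroup G)).trans (Subgroup.centralizer_le ?_)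
    rw [hTD]
    exact inf_le_right
  have key : ∀ P : Sylow p G, D ≤ (P : Subgroup G) := by
    intro P
    obtain ⟨Q, hQ⟩ := ((P.isPGroup'.to_inf_left (K := N)).comap_subtype (K := N)).exists_le_sylow
    obtain ⟨n, hn⟩ := MulAction.exists_smul_eq N (T.subtype hTN) Q
    have hPN : (P : Subgroup G) ⊓ N ≤ MulAut.conj (n : G) • (T : Subgroup G) := by
      intro x hx
      have h1 := hQ (show (⟨x, (Subgroup.mem_inf.1 hx).2⟩ : N) ∈ _ from hx)
      rw [← hn, Sylow.coe_subgroup_smul, Subgroup.mem_pointwise_smul_iff_inv_smul_mem,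
        MulAut.smul_def, Sylow.coe_subtype, Subgroup.mem_subgroupOf] at h1
      rw [Subgroup.mem_pointwise_smul_iff_inv_smul_mem, MulAut.smul_def]
      simpa using h1
    have hnD : MulAut.conj (n : G) • D ≤ D := by
      intro x hx
      rw [Subgroup.mem_pointwise_smul_iff_inv_smul_mem, MulAut.smul_def] at hx
      have h1 := Subgroup.mem_centralizer_iff.1 n.2 _ hx
      simp only [MulAut.conj_inv_apply] at hx h1
      have : x = (n : G)⁻¹ * x * (n : G) := by
        calc x = ((n : G)⁻¹ * x * (n : G)) * (n : G) * (n : G)⁻¹ := by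
              rw [h1]; simp [mul_assoc]
          _ = _ := by simp [mul_assoc]
      rw [this]
      exact hx
    set R : Sylow p G := (n : G) • S with hR
    have hRN : (R : Subgroup G) ≤ N := by
      rw [hR, Sylow.coe_subgroup_smul]
      exact Subgroup.conj_smul_le_of_le hSN n
    have hPR : (P : Subgroup G) ⊓ (R : Subgroup G) ≤ D := by
      refine le_trans ?_ hnD
      rw [hD, Subgroup.smul_inf, ← hTD]
      refine le_inf (inf_le_right.trans (le_of_eq Sylow.coe_subgroup_smul))
        ((le_inf inf_le_left (inf_le_right.trans hRN)).trans hPN)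
    obtain ⟨g, hg⟩ := MulAction.exists_smul_eq G R P
    have hcard : Nat.card D ≤ Nat.card ((P : Subgroup G) ⊓ (R : Subgroup G) : Subgroup G) := by
      have hPeq : (P : Subgroup G) = MulAut.conj (n : G) • MulAut.conj ((n : G)⁻¹ * g * n) •
          (S : Subgroup G) := by
        rw [← hg, hR, Sylow.coe_subgroup_smul, Sylow.coe_subgroup_smul, smul_smul, smul_smul,
          ← map_mul, ← map_mul]
        congr 2
        simp [mul_assoc]
      rw [hPeq, hR, Sylow.coe_subgroup_smul, ← Subgroup.smul_inf, inf_comm,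
        ← Nat.card_congr (Subgroup.equivSMul (MulAut.conj (n : G)) _).toEquiv]
      exact hS' _
    rw [← Subgroup.eq_of_le_of_card_ge hPR hcard]
    exact inf_le_left
  have hle : D ≤ Cfsg.pCore p G := by
    refine le_trans ?_ (le_sSup (a := ⨅ P : Sylow p G, (P : Subgroup G)) ⟨⟨fun x hx g => ?_⟩,
      S.isPGroup'.to_le (iInf_le _ S)⟩)
    · exact le_iInf key
    · rw [Subgroup.mem_iInf] at hx ⊢
      intro P
      have h := hx (g⁻¹ • P)
      rw [Sylow.coe_subgroup_smul, Subgroup.mem_pointwise_smul_iff_inv_smul_mem,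
        MulAut.smul_def] at h
      simpa using h
  rw [hOp] at hle
  exact le_bot_iff.1 hle

end Cfsg.Agent.S0060
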