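import Cfsg.Statements.S0063

set_option autoImplicit false
open Cfsg

namespace Cfsg.Agent.S0063

/-- A finite group of prime-power order p ^ m with m > 1 is nilpotent of class at most m - 1. -/
theorem result {G : Type*} [Group G] [Finite G] (p m : ℕ) [Fact p.Prime]
    (hG : Nat.card G = p ^ m) (hm : 1 < m) : Group.nilpotencyClass G ≤ m - 1 := by
  have hp : p.Prime := Fact.out
  have hpg : IsPGroup p G := IsPGroup.of_card hG
  have hnil : Group.IsNilpotent G := hpg.isNilpotent
  set c := Group.nilpotencyClass G with hc
  by_contra hlt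
  push Not at hlt
  -- the upper central series is strictly increasing up to the class
  have hstep : ∀ i, i ≤ m - 1 → p ^ i ≤ Nat.card (Subgroup.upperCentralSeries G i) := by
    intro i hi
    induction i with
    | zero => simp [Subgroup.upperCentralSeries_zero]
    | succ i ih =>
      have hne : Subgroup.upperCentralSeries G i ≠ Subgroup.upperCentralSeries G (i + 1) :=
        (Subgroup.upperCentralSeries.StrictMonoOn G (by simp; omega) (by simp; omega)
          (Nat.lt_succ_self i)).ne
      have hle := Subgroup.upperCentralSeries_mono G (Nat.le_succ i)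
      obtain ⟨a, ha⟩ := IsPGroup.iff_card.1
        (hpg.to_subgroup (Subgroup.upperCentralSeries G i))
      obtain ⟨b, hb⟩ := IsPGroup.iff_card.1
        (hpg.to_subgroup (Subgroup.upperCentralSeries G (i + 1)))
      have hlt' : Nat.card (Subgroup.upperCentralSeries G i) <
          Nat.card (Subgroup.upperCentralSeries G (i + 1)) := by
        by_contra hge
        exact hne (Subgroup.eq_of_le_of_card_ge hle (Nat.le_of_not_lt hge))
      rw [ha, hb] at hlt'
      have hab : a < b := (Nat.pow_lt_pow_iff_right hp.one_lt).1 hlt'
      have hia : i ≤ a := (Nat.pow_le_pow_iff_right hp.one_lt).1 (ha ▸ ih (by omega))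
      rw [hb]
      exact Nat.pow_le_pow_right hp.pos (by omega)
  set Z := Subgroup.upperCentralSeries G (m - 2) with hZ
  have hbig := hstep (m - 2) (by omega)
  rw [← hZ] at hbig
  have hidx : Z.index ∣ p ^ 2 := by
    obtain ⟨a, ha⟩ := IsPGroup.iff_card.1 (hpg.to_subgroup Z)
    obtain ⟨b, hb⟩ := hpg.index Z
    have h1 := Z.card_mul_index
    rw [ha, hb, hG, ← pow_add] at h1
    have hab : a + b = m := Nat.pow_right_injective hp.two_le h1
    have : m - 2 ≤ a := (Nat.pow_le_pow_iff_right hp.one_lt).1 (ha ▸ hbig)
    rw [hb]
    exact Nat.pow_dvd_pow p (by omega)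
  have hZn : Z.Normal := inferInstance
  have hq : ∀ a b : G ⧸ Z, a * b = b * a := by
    obtain ⟨k, hk, hk'⟩ := (Nat.dvd_prime_pow hp).1 hidx
    rw [Subgroup.index_eq_card] at hk'
    interval_cases k
    · have : Subsingleton (G ⧸ Z) := (Nat.card_eq_one_iff_unique.1 (by simpa using hk')).1
      exact fun a b => Subsingleton.elim _ _
    · have : IsCyclic (G ⧸ Z) := isCyclic_of_prime_card (p := p) (by simpa using hk')
      exact fun a b => mul_comm' a b
    · exact IsPGroup.commutative_of_card_eq_prime_sq hk'
  have htop : Subgroup.upperCentralSeries G (m - 2 + 1) = ⊤ := by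
    rw [eq_top_iff]
    intro x _
    rw [Subgroup.mem_upperCentralSeries_succ_iff]
    intro y
    rw [← hZ, ← QuotientGroup.eq_one_iff, ← QuotientGroup.mk'_apply, map_commutatorElement,
      commutatorElement_eq_one_iff_mul_comm]
    exact hq _ _
  have := upperCentralSeries_eq_top_iff_nilpotencyClass_le.1 htop
  omega

end Cfsg.Agent.S0063
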