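import Cfsg.Statements.S0070
import Cfsg.Agent.Lib.Solvable.Fitting

set_option autoImplicit false
open Cfsg

namespace Cfsg.Agent.S0070

/-- The Fitting subgroup commutes with passing to the Frattini quotient: the Fitting subgroup of G modulo its Frattini subgroup is the image of the Fitting subgroup of G. -/
theorem result {G : Type*} [Group G] [Finite G] :
    Cfsg.fittingSubgroup (G ⧸ frattini G) = (Cfsg.fittingSubgroup G).map (QuotientGroup.mk' (frattini G)) := by
  refine le_antisymm ?_
    (Cfsg.Agent.FittingCores.fitting_map_le (QuotientGroup.mk'_surjective _))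
  set R := Cfsg.fittingSubgroup (G ⧸ frattini G)
  intro q hq
  obtain ⟨g, rfl⟩ := QuotientGroup.mk'_surjective (frattini G) q
  refine ⟨g, ?_, rfl⟩
  have hRn : R.Normal := Cfsg.Agent.FittingCores.fitting_normal
  refine Cfsg.Agent.FittingCores.le_fitting (N := R.comap (QuotientGroup.mk' (frattini G)))
    (hRn.comap _) ?_ hq
  refine Cfsg.Agent.FittingCores.nilpotent_of_map_nilpotent (hRn.comap _) ?_ le_rfl ?_
  · intro x hx
    rw [Subgroup.mem_comap, QuotientGroup.mk'_apply, (QuotientGroup.eq_one_iff x).2 hx]
    exact one_mem _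
  · rw [Subgroup.map_comap_eq_self_of_surjective (QuotientGroup.mk'_surjective _)]
    exact Cfsg.Agent.FittingCores.fitting_nilpotent

end Cfsg.Agent.S0070
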