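import Cfsg.Statements.S0071
import Cfsg.Agent.Lib.Transfer.Fusion

set_option autoImplicit false
set_option linter.style.haveILetI false
open Cfsg

namespace Cfsg.Agent.S0071
open scoped Pointwise commutatorElement
open Cfsg.Agent

/-- The Frobenius normal p-complement Theorem states that a Sylow p-subgroup has a normal complement exactly when, for each of its subgroups Q, every element of the normalizer of Q of order prime to p centralizes Q. -/
theorem result {G : Type*} [Group G] [Finite G] {p : ℕ} [Fact p.Prime] (P : Sylow p G) : (∃ N : Subgroup G, N.Normal ∧ N.IsComplement' (P : Subgroup G)) ↔ ∀ Q : Subgroup G, Q ≤ (P : Subgroup G) → ∀ g ∈ Subgroup.normalizer (Q : Set G), Nat.Coprime (orderOf g) p → g ∈ Subgroup.centralizer (Q : Set G) := by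
  constructor
  · rintro ⟨N, hN, hc⟩ Q hQ g hg hgo
    exact Fusion.mem_centralizer_of_hasNormalPComplement (P.isPGroup'.to_le hQ)
      (PBasic.hasNormalPComplement_subgroup _ ⟨P, N, hN, hc⟩) hg hgo
  · intro h
    obtain ⟨Q, N, hN, hc⟩ : Cfsg.HasNormalPComplement p G := by
      refine Fusion.hasNormalPComplement_of_frobenius fun D hD g hg hgo => ?_
      obtain ⟨R, hR⟩ := hD.exists_le_sylow
      obtain ⟨k, hk⟩ := MulAction.exists_smul_eq G R P
      have hle : D.map (MulAut.conj k).toMonoidHom ≤ (P : Subgroup G) := by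
        rw [← hk, Sylow.coe_subgroup_smul]
        exact Subgroup.map_mono hR
      have hn : MulAut.conj k g ∈ Subgroup.normalizer ((D.map (MulAut.conj k).toMonoidHom : Subgroup G) : Set G) :=
        Subgroup.le_normalizer_map _ ⟨g, hg, rfl⟩
      have := h _ hle _ hn (by rw [MulEquiv.orderOf_eq]; exact hgo)
      intro x hx
      have h2 := this (MulAut.conj k x) ⟨x, hx, rfl⟩
      rw [← map_mul, ← map_mul] at h2
      exact (MulAut.conj k).injective h2
    refine ⟨N, hN, ?_⟩
    haveI := hN
    obtain ⟨k, hk⟩ := MulAction.exists_smul_eq G Q P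
    subst hk
    refine Subgroup.isComplement'_of_disjoint_and_mul_eq_univ ?_ ?_
    · rw [disjoint_iff]
      refine PBasic.inf_eq_bot_of_coprime (p := p) ?_ (k • Q).isPGroup'
      rw [← hc.index_eq_card, Nat.coprime_comm, (Fact.out : p.Prime).coprime_iff_not_dvd]
      exact Q.not_dvd_index
    · obtain ⟨j, hj⟩ := IsPGroup.iff_card.1 Q.isPGroup'
      rw [← Subgroup.normal_mul, sup_comm, PBasic.sylow_sup_eq_top (k • Q)
        (IsPGroup.of_card (n := j) (by rw [← hj, ← hc.symm.index_eq_card]; rfl)), Subgroup.coe_top]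


end Cfsg.Agent.S0071
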