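import Cfsg.Statements.S0072
import Cfsg.Agent.Lib.Transfer.Fusion

set_option autoImplicit false
set_option linter.style.haveILetI false
open Cfsg

namespace Cfsg.Agent.S0072
open scoped Pointwise commutatorElement
open Cfsg.Agent

/-- A finite group has a normal p-complement if and only if every p-local subgroup (normalizer of a nontrivial p-subgroup) has one. -/
theorem result {G : Type*} [Group G] [Finite G] (p : ℕ) [Fact p.Prime] : Cfsg.HasNormalPComplement p G ↔ ∀ Q : Subgroup G, IsPGroup p Q → Q ≠ ⊥ → Cfsg.HasNormalPComplement p (Subgroup.normalizer (Q : Set G)) := by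
  constructor
  · exact fun h Q _ _ => PBasic.hasNormalPComplement_subgroup _ h
  · intro h
    refine Fusion.hasNormalPComplement_of_frobenius fun D hD g hg hgo => ?_
    by_cases hD1 : D = ⊥
    · intro x hx
      rw [hD1] at hx
      rw [Subgroup.mem_bot.1 hx, one_mul, mul_one]
    · exact Fusion.mem_centralizer_of_hasNormalPComplement hD (h D hD hD1) hg hgo


end Cfsg.Agent.S0072
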