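import Cfsg.Statements.S0073
import Cfsg.Agent.Lib.Transfer.Abelian

set_option autoImplicit false
set_option linter.style.haveILetI false
open Cfsg

namespace Cfsg.Agent.S0073
open scoped Pointwise commutatorElement
open Cfsg.Agent
open scoped Pointwise
open Cfsg.Agent

theorem moved {P : Type*} [Group P] [Finite P] {p e q : ℕ} [hp : Fact p.Prime] [hq : Fact q.Prime]
    (hP : Nat.card P = p ^ e) (he : e ≤ 2) (b : MulAut P) (hb : orderOf b = q) (hqp : p < q) :
    p = 2 ∧ q = 3 ∧ e = 2 := by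
  let F : Subgroup P := (b : P →* P).eqLocus (MonoidHom.id P)
  have hB : IsPGroup q (Subgroup.zpowers b) :=
    IsPGroup.of_card (n := 1) (by rw [Nat.card_zpowers, hb, pow_one])
  have hfix : MulAction.fixedPoints (Subgroup.zpowers b) P = (F : Set P) := by
    ext x
    constructor
    · intro h
      exact h ⟨b, Subgroup.mem_zpowers b⟩
    · intro h c
      have hle : Subgroup.zpowers b ≤ MulAction.stabilizer (MulAut P) x :=
        Subgroup.zpowers_le.2 h
      exact hle c.2
  have hmod := hB.card_modEq_card_fixedPoints P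
  rw [hfix] at hmod
  obtain ⟨j, hj, hFj⟩ := (Nat.dvd_prime_pow hp.out).1 (hP ▸ F.card_subgroup_dvd_card)
  rw [SetLike.coe_sort_coe, hP, hFj] at hmod
  have hjlt : j < e := by
    refine lt_of_le_of_ne hj fun h => ?_
    have htop : F = ⊤ := Subgroup.eq_top_of_card_eq F (by rw [hFj, hP, h])
    refine hq.out.one_lt.ne' ?_
    rw [← hb, orderOf_eq_one_iff]
    ext x
    exact (htop ▸ Subgroup.mem_top x : x ∈ F)
  have hd : q ∣ p ^ (e - j) - 1 := by
    have h1 : q ∣ p ^ e - p ^ j :=
      (Nat.modEq_iff_dvd' (Nat.pow_le_pow_right hp.out.pos hj)).1 hmod.symm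
    have h2 : p ^ e - p ^ j = p ^ j * (p ^ (e - j) - 1) := by
      rw [Nat.mul_sub, mul_one, ← pow_add, Nat.add_sub_cancel' hj]
    rw [h2] at h1
    exact (hq.out.dvd_mul.1 h1).resolve_left fun h =>
      hqp.ne' ((Nat.prime_dvd_prime_iff_eq hq.out hp.out).1 (hq.out.dvd_of_dvd_pow h))
  have h2p := hp.out.two_le
  rcases (show e - j = 1 ∨ e - j = 2 by omega) with h | h <;> rw [h] at hd
  · rw [pow_one] at hd
    have := Nat.le_of_dvd (by omega) hd
    omega
  · have he2 : e = 2 := by omega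
    have h3 : p ^ 2 - 1 = (p + 1) * (p - 1) := by rw [← Nat.sq_sub_sq, one_pow]
    rw [h3] at hd
    rcases hq.out.dvd_mul.1 hd with h4 | h4
    · have h5 : q = p + 1 := le_antisymm (Nat.le_of_dvd (by omega) h4) hqp
      rcases hp.out.eq_two_or_odd' with h6 | h6
      · exact ⟨h6, by omega, he2⟩
      · exfalso
        obtain ⟨k, hk⟩ := h6
        rcases hq.out.eq_two_or_odd' with h7 | ⟨l, hl⟩ <;> omega
    · have := Nat.le_of_dvd (by omega) h4
      omega


/-- For a finite non-abelian simple group, either the cube of the least prime divisor of the order divides the order, or 12 does. -/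
theorem result {G : Type*} [Group G] [Finite G] [IsSimpleGroup G] (hG : ∃ x y : G, x * y ≠ y * x) : (Nat.card G).minFac ^ 3 ∣ Nat.card G ∨ 12 ∣ Nat.card G := by
  by_contra hcon
  push Not at hcon
  obtain ⟨hcon1, hcon2⟩ := hcon
  set p := (Nat.card G).minFac with hpdef
  have hne : Nat.card G ≠ 1 := by
    intro h1
    haveI : Subsingleton G := (Nat.card_eq_one_iff_unique.1 h1).1
    obtain ⟨x, y, hxy⟩ := hG
    exact hxy (Subsingleton.elim _ _)
  haveI hp : Fact p.Prime := ⟨Nat.minFac_prime hne⟩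
  obtain ⟨P⟩ : Nonempty (Sylow p G) := inferInstance
  obtain ⟨e, he⟩ := IsPGroup.iff_card.1 P.isPGroup'
  have hdvd : p ^ e ∣ Nat.card G := he ▸ Subgroup.card_subgroup_dvd_card _
  have he2 : e ≤ 2 := by
    by_contra h
    exact hcon1 ((pow_dvd_pow p (by omega)).trans hdvd)
  have hPc : IsMulCommutative (P : Subgroup G) := by
    rcases (show e = 0 ∨ e = 1 ∨ e = 2 by omega) with h | h | h <;> rw [h] at he
    · haveI : Subsingleton (P : Subgroup G) := (Nat.card_eq_one_iff_unique.1 (by simpa using he)).1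
      exact ⟨⟨fun _ _ => Subsingleton.elim _ _⟩⟩
    · haveI := isCyclic_of_prime_card (by simpa using he : Nat.card (P : Subgroup G) = p)
      exact ⟨⟨fun a b => IsCyclic.commGroup.mul_comm a b⟩⟩
    · exact ⟨⟨IsPGroup.commutative_of_card_eq_prime_sq he⟩⟩
  have hnpc : ¬ Cfsg.HasNormalPComplement p G := by
    rw [PBasic.hasNormalPComplement_iff]
    rintro ⟨N, hN, hc, k, hk⟩
    rcases hN.eq_bot_or_eq_top with rfl | rfl
    · rw [Subgroup.index_bot] at hk
      have htop : (P : Subgroup G) = ⊤ := (P.is_maximal' ((IsPGroup.of_card hk).to_subgroup ⊤) le_top).symm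
      obtain ⟨x, y, hxy⟩ := hG
      exact hxy (congrArg Subtype.val (hPc.is_comm.comm
        (⟨x, htop ▸ Subgroup.mem_top x⟩ : (P : Subgroup G)) ⟨y, htop ▸ Subgroup.mem_top y⟩))
    · rw [Subgroup.card_top] at hc
      exact (Fact.out : p.Prime).coprime_iff_not_dvd.1 hc.symm (Nat.minFac_dvd _)
  refine hnpc (AbelianSylow.hasNormalPComplement_of_abelian P hPc fun g hg hgo => ?_)
  by_contra hgc
  set φ := (P : Subgroup G).normalizerMonoidHom with hφ
  have ha1 : φ ⟨g, hg⟩ ≠ 1 := by
    intro h1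
    have h3 : (⟨g, hg⟩ : Subgroup.normalizer ((P : Subgroup G) : Set G)) ∈ φ.ker := h1
    rw [hφ, Subgroup.normalizerMonoidHom_ker] at h3
    exact hgc h3
  have haord : orderOf (φ ⟨g, hg⟩) ∣ orderOf g :=
    (orderOf_map_dvd φ _).trans (by rw [Subgroup.orderOf_mk])
  obtain ⟨q, hq, hqd⟩ := Nat.exists_prime_and_dvd (fun h => ha1 (orderOf_eq_one_iff.1 h))
  haveI := Fact.mk hq
  have hqG : q ∣ Nat.card G := (hqd.trans haord).trans (orderOf_dvd_natCard g)
  have hqp : p < q := by
    refine lt_of_le_of_ne (Nat.minFac_le_of_dvd hq.two_le hqG) fun h => ?_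
    exact (Nat.Prime.coprime_iff_not_dvd (Fact.out : p.Prime)).1 hgo.symm
      (h ▸ (hqd.trans haord))
  haveI : Finite (MulAut (P : Subgroup G)) :=
    Finite.of_injective _ MulEquiv.toEquiv_injective
  obtain ⟨hp2, hq3, he2'⟩ := moved he he2 _
    (orderOf_pow_orderOf_div (orderOf_pos _).ne' hqd) hqp
  refine hcon2 ?_
  rw [hp2, he2'] at hdvd
  rw [hq3] at hqG
  exact Nat.Coprime.mul_dvd_of_dvd_of_dvd (show Nat.Coprime 4 3 by norm_num) hdvd hqG


end Cfsg.Agent.S0073
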