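import Cfsg.Statements.S0078
import Cfsg.Agent.Lib.Transfer.Fusion

set_option autoImplicit false
set_option linter.style.haveILetI false
open Cfsg

namespace Cfsg.Agent.S0078
open scoped Pointwise commutatorElement
open Cfsg.Agent
theorem pnormal_fusion {G : Type*} [Group G] [Finite G] {p : ℕ} [Fact p.Prime] (P : Sylow p G)
    (hn : ∀ Q : Sylow p G, (P : Subgroup G) ⊓ Subgroup.centralizer (P : Set G) ≤ (Q : Subgroup G) → (Q : Subgroup G) ⊓ Subgroup.centralizer (Q : Set G) = (P : Subgroup G) ⊓ Subgroup.centralizer (P : Set G))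
    (x : G) (hx : x ∈ P) (g : G) (hy : g * x * g⁻¹ ∈ P) :
    ∃ v ∈ Subgroup.normalizer (((P : Subgroup G) ⊓ Subgroup.centralizer (P : Set G) : Subgroup G) : Set G), v * x * v⁻¹ = g * x * g⁻¹ := by
  set Z := (P : Subgroup G) ⊓ Subgroup.centralizer (P : Set G) with hZdef
  set y := g * x * g⁻¹ with hy'
  set C := Subgroup.centralizer ({y} : Set G) with hC
  have hZC : Z ≤ C := by
    intro z hz w hw
    rw [Set.mem_singleton_iff.1 hw]
    exact (Subgroup.mem_inf.1 hz).2 y hy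
  have hgZC : Z.map (MulAut.conj g).toMonoidHom ≤ C := by
    rintro _ ⟨z, hz, rfl⟩ w hw
    rw [Set.mem_singleton_iff.1 hw]
    have := (Subgroup.mem_inf.1 hz).2 x hx
    simp only [MulEquiv.coe_toMonoidHom, MulAut.conj_apply, hy']
    calc g * x * g⁻¹ * (g * z * g⁻¹) = g * (x * z) * g⁻¹ := by group
      _ = g * (z * x) * g⁻¹ := by rw [this]
      _ = g * z * g⁻¹ * (g * x * g⁻¹) := by group
  have hZp : IsPGroup p Z := P.isPGroup'.to_le inf_le_left
  obtain ⟨S, hS⟩ := (hZp.comap_subtype (K := C)).exists_le_sylow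
  obtain ⟨T, hT⟩ := ((hZp.map (MulAut.conj g).toMonoidHom).comap_subtype (K := C)).exists_le_sylow
  obtain ⟨c, rfl⟩ := MulAction.exists_smul_eq C S T
  obtain ⟨R, hR⟩ := S.exists_comap_subtype_eq
  set k := (c : G)⁻¹ * g with hk
  have hZR : Z ≤ (R : Subgroup G) := fun z hz => by
    have : (⟨z, hZC hz⟩ : C) ∈ (R : Subgroup G).comap C.subtype := by
      rw [hR]; exact hS (show (⟨z, hZC hz⟩ : C) ∈ Z.subgroupOf C from hz)
    exact this
  have hkZ : Z.map (MulAut.conj k).toMonoidHom ≤ (R : Subgroup G) := by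
    rintro _ ⟨z, hz, rfl⟩
    have hu : g * z * g⁻¹ ∈ Z.map (MulAut.conj g).toMonoidHom := ⟨z, hz, rfl⟩
    have h1 : (⟨g * z * g⁻¹, hgZC hu⟩ : C) ∈ ((c • S : Sylow p C) : Subgroup C) :=
      hT (show (⟨_, hgZC hu⟩ : C) ∈ (Z.map _).subgroupOf C from hu)
    rw [Sylow.coe_subgroup_smul, Subgroup.mem_pointwise_smul_iff_inv_smul_mem, ← map_inv, ← hR] at h1
    have h2 : (c : G)⁻¹ * (g * z * g⁻¹) * (c : G)⁻¹⁻¹ ∈ (R : Subgroup G) := h1
    simpa [hk, mul_assoc] using h2
  have hkn : k ∈ Subgroup.normalizer (Z : Set G) := by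
    rw [Subgroup.mem_normalizer_iff_map_conj_eq]
    have hZR' := hn R hZR
    have hle : Z ≤ ((k⁻¹ • R : Sylow p G) : Subgroup G) := by
      intro z hz
      rw [Sylow.coe_subgroup_smul, Subgroup.mem_pointwise_smul_iff_inv_smul_mem, ← map_inv, inv_inv]
      exact hkZ ⟨z, hz, rfl⟩
    have h3 := hn _ hle
    conv_lhs => rw [← h3]
    rw [← hZR']
    ext w
    constructor
    · rintro ⟨u, hu, rfl⟩
      obtain ⟨huR, huC⟩ := Subgroup.mem_inf.1 hu
      rw [Sylow.coe_subgroup_smul, Subgroup.mem_pointwise_smul_iff_inv_smul_mem, ← map_inv, inv_inv] at huR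
      refine Subgroup.mem_inf.2 ⟨huR, fun r hr => ?_⟩
      have h4 : k⁻¹ * r * k ∈ ((k⁻¹ • R : Sylow p G) : Subgroup G) := by
        rw [Sylow.coe_subgroup_smul, Subgroup.mem_pointwise_smul_iff_inv_smul_mem, ← map_inv, inv_inv]
        show MulAut.conj k (k⁻¹ * r * k) ∈ (R : Subgroup G)
        rw [MulAut.conj_apply, show k * (k⁻¹ * r * k) * k⁻¹ = r by group]
        exact hr
      have h5 := huC (k⁻¹ * r * k) h4
      show r * (k * u * k⁻¹) = k * u * k⁻¹ * r
      calc r * (k * u * k⁻¹) = k * ((k⁻¹ * r * k) * u) * k⁻¹ := by group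
        _ = k * (u * (k⁻¹ * r * k)) * k⁻¹ := by rw [h5]
        _ = k * u * k⁻¹ * r := by group
    · intro hw
      obtain ⟨hwR, hwC⟩ := Subgroup.mem_inf.1 hw
      refine ⟨k⁻¹ * w * k, Subgroup.mem_inf.2 ⟨?_, fun r hr => ?_⟩, by simp [mul_assoc]⟩
      · rw [Sylow.coe_subgroup_smul, Subgroup.mem_pointwise_smul_iff_inv_smul_mem, ← map_inv, inv_inv]
        show MulAut.conj k (k⁻¹ * w * k) ∈ (R : Subgroup G)
        rw [MulAut.conj_apply, show k * (k⁻¹ * w * k) * k⁻¹ = w by group]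
        exact hwR
      · have h4 : k * r * k⁻¹ ∈ (R : Subgroup G) := by
          have h6 : r ∈ ((k⁻¹ • R : Sylow p G) : Subgroup G) := hr
          rw [Sylow.coe_subgroup_smul, Subgroup.mem_pointwise_smul_iff_inv_smul_mem, ← map_inv, inv_inv] at h6
          exact h6
        have h5 := hwC (k * r * k⁻¹) h4
        calc r * (k⁻¹ * w * k) = k⁻¹ * ((k * r * k⁻¹) * w) * k := by group
          _ = k⁻¹ * (w * (k * r * k⁻¹)) * k := by rw [h5]
          _ = k⁻¹ * w * k * r := by group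
  refine ⟨k, hkn, ?_⟩
  have hc : y * (c : G) = (c : G) * y := c.2 y rfl
  calc k * x * k⁻¹ = (c : G)⁻¹ * (y * (c : G)) := by rw [hk, hy']; group
    _ = y := by rw [hc]; group

/-- In a p-normal group, a Sylow p-subgroup P meets O^p(G) exactly where it meets O^p(V), for any subgroup V containing the normalizer of the centre of P. -/
theorem result {G : Type*} [Group G] [Finite G] {p : ℕ} [Fact p.Prime] (P : Sylow p G) (hn : ∀ Q : Sylow p G, (P : Subgroup G) ⊓ Subgroup.centralizer (P : Set G) ≤ (Q : Subgroup G) → (Q : Subgroup G) ⊓ Subgroup.centralizer (Q : Set G) = (P : Subgroup G) ⊓ Subgroup.centralizer (P : Set G)) (V : Subgroup G) (hV : Subgroup.normalizer (((P : Subgroup G) ⊓ Subgroup.centralizer (P : Set G) : Subgroup G) : Set G) ≤ V) : (P : Subgroup G) ⊓ Cfsg.pResidual p G = (P : Subgroup G) ⊓ (Cfsg.pResidual p V).map V.subtype := by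
  refine Fusion.inf_pResidual_eq_of_controlsFusion P V ?_ fun x hx g hy => ?_
  · refine le_trans ?_ hV
    intro a ha
    refine Subgroup.centralizer_le_normalizer _ ?_
    intro z hz
    exact ((Subgroup.mem_inf.1 hz).2 a ha).symm
  · obtain ⟨v, hv, h⟩ := pnormal_fusion P hn x hx g hy
    exact ⟨v, hV hv, h⟩


end Cfsg.Agent.S0078
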