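import Cfsg.Statements.S0079
import Cfsg.Agent.Lib.Transfer.Abelian
import Cfsg.Agent.Lib.PLocal.FixedPointFree

set_option autoImplicit false
set_option linter.style.haveILetI false
open Cfsg

namespace Cfsg.Agent.S0079
open scoped Pointwise commutatorElement
open Cfsg.Agent
open scoped commutatorElement Pointwise
open Cfsg.Agent

theorem npc_of_fusion {G : Type*} [Group G] [Finite G] (H : Subgroup G) (hH : Group.IsNilpotent H)
    (hHall : Nat.Coprime (Nat.card H) H.index)
    (hfus : ∀ x ∈ H, ∀ y ∈ H, (∃ g : G, g * x * g⁻¹ = y) → ∃ h ∈ H, h * x * h⁻¹ = y)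
    (p : ℕ) [hp : Fact p.Prime] (hd : p ∣ Nat.card H) :
    ∃ P : Sylow p G, (P : Subgroup G) ≤ H ∧ Cfsg.HasNormalPComplement p G := by
  obtain ⟨S⟩ : Nonempty (Sylow p H) := inferInstance
  have hS : IsPGroup p ((S : Subgroup H).map H.subtype) := S.isPGroup'.map _
  obtain ⟨P, hP⟩ : ∃ P : Sylow p G, (P : Subgroup G) = (S : Subgroup H).map H.subtype := by
    refine ⟨hS.toSylow ?_, rfl⟩
    rw [Subgroup.index_map_of_injective _ Subtype.coe_injective, Subgroup.range_subtype,
      hp.out.dvd_mul]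
    rintro (h | h)
    · exact S.not_dvd_index h
    · exact hp.out.coprime_iff_not_dvd.1 (hHall.coprime_dvd_left hd) h
  refine ⟨P, hP ▸ Subgroup.map_subtype_le _, Fusion.hasNormalPComplement_of_controlsFusion P ?_⟩
  intro x hx g hgx
  have hxH : x ∈ H := (hP ▸ Subgroup.map_subtype_le (S : Subgroup H)) hx
  have hgH : g * x * g⁻¹ ∈ H := (hP ▸ Subgroup.map_subtype_le (S : Subgroup H)) hgx
  obtain ⟨h, hh, hhe⟩ := hfus x hxH _ hgH ⟨g, rfl⟩
  obtain ⟨a, ha, w, hw, haw⟩ := AbelianSylow.exists_mul_sylow_pResidual S ⟨h, hh⟩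
  have haP : (a : G) ∈ P := by
    show (a : G) ∈ (P : Subgroup G)
    rw [hP]
    exact Subgroup.mem_map_of_mem H.subtype ha
  refine ⟨a, haP, ?_⟩
  have hxS : (⟨x, hxH⟩ : H) ∈ (S : Subgroup H) := by
    have hx' : x ∈ (S : Subgroup H).map H.subtype := hP ▸ hx
    obtain ⟨z, hz, hze⟩ := hx'
    rw [show (⟨x, hxH⟩ : H) = z from Subtype.ext hze.symm]
    exact hz
  obtain ⟨k, hk⟩ := IsPGroup.iff_orderOf.1 S.isPGroup' ⟨_, hxS⟩
  rw [Subgroup.orderOf_mk] at hk
  have hwc : w * (⟨x, hxH⟩ : H) = ⟨x, hxH⟩ * w := by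
    have hle : Cfsg.pResidual p H ≤ Subgroup.centralizer {(⟨x, hxH⟩ : H)} := by
      rw [Cfsg.pResidual, Subgroup.closure_le]
      intro y hy
      rw [SetLike.mem_coe, Subgroup.mem_centralizer_singleton_iff]
      exact FixedPointFreeThompson.commute_of_nilpotent (hG := hH) hk hy
    exact Subgroup.mem_centralizer_singleton_iff.1 (hle hw)
  have hwc' : (w : G) * x = x * (w : G) := congrArg Subtype.val hwc
  have h' : h = (a : G) * (w : G) := (congrArg Subtype.val haw).symm
  rw [← hhe, h']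
  calc (a : G) * x * (a : G)⁻¹ = (a : G) * (x * (w : G) * (w : G)⁻¹) * (a : G)⁻¹ := by group
    _ = (a : G) * (w : G) * x * ((a : G) * (w : G))⁻¹ := by rw [← hwc']; group


/-- A nilpotent Hall subgroup has a normal complement exactly when elements of it that are conjugate in the whole group are already conjugate inside it. -/
theorem result {G : Type*} [Group G] [Finite G] (H : Subgroup G) (hH : Group.IsNilpotent H) (hHall : Nat.Coprime (Nat.card H) H.index) : (∃ N : Subgroup G, N.Normal ∧ N.IsComplement' H) ↔ ∀ x ∈ H, ∀ y ∈ H, (∃ g : G, g * x * g⁻¹ = y) → ∃ h ∈ H, h * x * h⁻¹ = y := by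
  constructor
  · rintro ⟨N, hN, hc⟩ x hx y hy ⟨g, rfl⟩
    obtain ⟨⟨a, b⟩, hab, -⟩ := hc.symm.existsUnique g
    have hab' : (a : G) * (b : G) = g := hab
    refine ⟨a, a.2, ?_⟩
    have hb : (b : G) * x * (b : G)⁻¹ ∈ H := by
      have := mul_mem (mul_mem (H.inv_mem a.2) hy) a.2
      rw [← hab'] at this
      simpa [mul_assoc] using this
    have h1 : (b : G) * x * (b : G)⁻¹ * x⁻¹ ∈ N ⊓ H := by
      refine ⟨?_, mul_mem hb (H.inv_mem hx)⟩
      have := N.mul_mem b.2 (hN.conj_mem _ (N.inv_mem b.2) x)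
      simpa [mul_assoc] using this
    rw [hc.disjoint.eq_bot, Subgroup.mem_bot, mul_inv_eq_one] at h1
    rw [← hab']
    calc (a : G) * x * (a : G)⁻¹ = (a : G) * ((b : G) * x * (b : G)⁻¹) * (a : G)⁻¹ := by rw [h1]
      _ = (a : G) * (b : G) * x * ((a : G) * (b : G))⁻¹ := by group
  · intro hfus
    let ι := {p : ℕ // p ∈ (Nat.card H).primeFactors}
    let N : Subgroup G := ⨅ i : ι, Cfsg.pResidual i.1 G
    have hkey : ∀ i : ι, (Nat.card (Cfsg.pResidual i.1 G)).Coprime i.1 ∧
        (Cfsg.pResidual i.1 G).index ≤ i.1 ^ (Nat.card H).factorization i.1 := by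
      rintro ⟨p, hp⟩
      haveI : Fact p.Prime := ⟨Nat.prime_of_mem_primeFactors hp⟩
      obtain ⟨P, hPH, hnpc⟩ := npc_of_fusion H hH hHall hfus p (Nat.dvd_of_mem_primeFactors hp)
      have h1 := PBasic.hasNormalPComplement_iff_pResidual.1 hnpc
      refine ⟨h1, ?_⟩
      obtain ⟨k, hk⟩ := PBasic.exists_index_pow_of_isPGroup_quotient
        (PBasic.quotient_pResidual_isPGroup p G)
      rw [hk]
      refine Nat.pow_le_pow_right (Fact.out : p.Prime).pos ?_
      rw [← (Fact.out : p.Prime).pow_dvd_iff_le_factorization Nat.card_pos.ne', ← hk]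
      have h3 : (Cfsg.pResidual p G).index ∣ Nat.card (P : Subgroup G) := by
        rw [← Subgroup.relIndex_top_right, ← PBasic.sylow_sup_pResidual P,
          Subgroup.relIndex_sup_right]
        exact Subgroup.relIndex_dvd_card _ _
      exact h3.trans (Subgroup.card_dvd_of_le hPH)
    have hdisj : N ⊓ H = ⊥ := by
      rw [Subgroup.eq_bot_iff_forall]
      rintro x ⟨hxN, hxH⟩
      rw [← orderOf_eq_one_iff]
      by_contra hne
      obtain ⟨p, hp, hpd⟩ := Nat.exists_prime_and_dvd hne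
      have hmem : p ∈ (Nat.card H).primeFactors :=
        Nat.mem_primeFactors.2 ⟨hp, hpd.trans (H.orderOf_dvd_natCard hxH), Nat.card_pos.ne'⟩
      exact hp.coprime_iff_not_dvd.1 ((hkey ⟨p, hmem⟩).1.symm.coprime_dvd_right
        (((Cfsg.pResidual p G).orderOf_dvd_natCard
          (Subgroup.mem_iInf.1 hxN ⟨p, hmem⟩)))) hpd
    haveI hNn : N.Normal := Subgroup.normal_iInf_normal fun i => inferInstance
    have hidx : N.index ≤ Nat.card H := by
      refine (Subgroup.index_iInf_le _).trans ((Finset.prod_le_prod (fun i _ => Nat.zero_le _)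
        fun i _ => (hkey i).2).trans (le_of_eq ?_))
      rw [Finset.prod_coe_sort (Nat.card H).primeFactors
        (fun p => p ^ (Nat.card H).factorization p)]
      exact (Nat.prod_factorization_pow_eq_self Nat.card_pos.ne')
    refine ⟨N, hNn, Subgroup.isComplement'_of_card_mul_and_disjoint ?_ (disjoint_iff.2 hdisj)⟩
    have h4 : Nat.card H ∣ N.index := by
      rw [← Subgroup.relIndex_bot_left, ← hdisj, Subgroup.inf_relIndex_right]
      exact Subgroup.relIndex_dvd_index_of_normal N H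
    have h5 : Nat.card H = N.index :=
      le_antisymm (Nat.le_of_dvd (Nat.pos_of_ne_zero Subgroup.index_ne_zero_of_finite) h4) hidx
    rw [h5, Subgroup.card_mul_index]


end Cfsg.Agent.S0079
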