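import Cfsg.Statements.S0082
import Cfsg.Agent.Lib.Transfer.Abelian

set_option autoImplicit false
set_option linter.style.haveILetI false
open Cfsg

namespace Cfsg.Agent.S0082
open scoped Pointwise commutatorElement
open Cfsg.Agent
theorem eq_bot_or_eq_bot {A : Type*} [Group A] [Finite A] [IsCyclic A] {p : ℕ} [hp : Fact p.Prime]
    (hA : IsPGroup p A) (U V : Subgroup A) (h : U ⊓ V = ⊥) : U = ⊥ ∨ V = ⊥ := by
  classical
  by_contra hne
  rw [not_or] at hne
  haveI : Nontrivial U := (Subgroup.nontrivial_iff_ne_bot U).2 hne.1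
  haveI : Nontrivial V := (Subgroup.nontrivial_iff_ne_bot V).2 hne.2
  obtain ⟨u, hu⟩ := exists_prime_orderOf_dvd_card' (G := U) p (by
    rcases (hA.to_subgroup U).card_eq_or_dvd with h' | h'
    · exact absurd h' (Finite.one_lt_card (α := U)).ne'
    · exact h')
  obtain ⟨v, hv⟩ := exists_prime_orderOf_dvd_card' (G := V) p (by
    rcases (hA.to_subgroup V).card_eq_or_dvd with h' | h'
    · exact absurd h' (Finite.one_lt_card (α := V)).ne'
    · exact h')
  rw [← Subgroup.orderOf_coe] at hu hv
  letI := Fintype.ofFinite A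
  have h1 : (Finset.univ.filter fun a : A => a ^ p = 1).card ≤ p :=
    IsCyclic.card_pow_eq_one_le hp.out.pos
  have h2 : insert (v : A) ((Finset.range p).image fun i => (u : A) ^ i) ⊆
      (Finset.univ.filter fun a : A => a ^ p = 1) := by
    intro a ha
    rw [Finset.mem_filter]
    refine ⟨Finset.mem_univ _, ?_⟩
    rcases Finset.mem_insert.1 ha with rfl | ha
    · rw [← hv, pow_orderOf_eq_one]
    · obtain ⟨i, -, rfl⟩ := Finset.mem_image.1 ha
      rw [← pow_mul, mul_comm, pow_mul, ← hu, pow_orderOf_eq_one, one_pow]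
  have h3 : (v : A) ∉ (Finset.range p).image fun i => (u : A) ^ i := by
    intro hm
    obtain ⟨i, -, hi⟩ := Finset.mem_image.1 hm
    have : (v : A) ∈ U ⊓ V := ⟨hi ▸ pow_mem u.2 i, v.2⟩
    rw [h, Subgroup.mem_bot] at this
    rw [this, orderOf_one] at hv
    exact hp.out.ne_one hv.symm
  have h4 := (Finset.card_le_card h2).trans h1
  rw [Finset.card_insert_of_notMem h3, Finset.card_image_of_injOn, Finset.card_range] at h4
  · omega
  · intro i hi j hj hij
    exact pow_injOn_Iio_orderOf (Set.mem_Iio.2 (hu ▸ Finset.mem_range.1 hi))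
      (Set.mem_Iio.2 (hu ▸ Finset.mem_range.1 hj)) hij

/-- With a cyclic Sylow p-subgroup, either there is a normal p-complement or the elements of order prime to p generate the whole group. -/
theorem result {G : Type*} [Group G] [Finite G] {p : ℕ} [Fact p.Prime] (P : Sylow p G) (hP : IsCyclic P) : Cfsg.HasNormalPComplement p G ∨ Cfsg.pResidual p G = ⊤ := by
  haveI := hP
  have hc : IsMulCommutative P := inferInstance
  by_cases hcen : ∀ g ∈ Subgroup.normalizer (P : Set G), (orderOf g).Coprime p →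
      g ∈ Subgroup.centralizer (P : Set G)
  · exact Or.inl (AbelianSylow.hasNormalPComplement_of_abelian P hc hcen)
  right
  push Not at hcen
  obtain ⟨g, hg, hgo, hgc⟩ := hcen
  haveI := hc
  have hd : ∀ x : (P : Subgroup G), (x : G) * g * (x : G)⁻¹ * g⁻¹ ∈ (P : Subgroup G) := by
    intro x
    rw [mul_assoc (x : G) g, mul_assoc (x : G)]
    exact mul_mem x.2 ((Subgroup.mem_normalizer_iff.1 hg _).1 (inv_mem x.2))
  have hcommP : ∀ u v : (P : Subgroup G), (u : G) * v = v * u := fun u v =>
    congrArg Subtype.val (hc.is_comm.comm u v)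
  let d : (P : Subgroup G) →* (P : Subgroup G) :=
    MonoidHom.mk' (fun x => ⟨(x : G) * g * (x : G)⁻¹ * g⁻¹, hd x⟩) (fun x y => by
      apply Subtype.ext
      simp only [Subgroup.coe_mul]
      have e := hcommP x ⟨_, hd y⟩
      simp only at e
      calc (x : G) * y * g * ((x : G) * y)⁻¹ * g⁻¹
          = (x : G) * ((y : G) * g * (y : G)⁻¹ * g⁻¹) * g * (x : G)⁻¹ * g⁻¹ := by group
        _ = (y : G) * g * (y : G)⁻¹ * g⁻¹ * ((x : G) * g * (x : G)⁻¹ * g⁻¹) := by rw [e]; group
        _ = _ := hcommP ⟨_, hd y⟩ ⟨_, hd x⟩)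
  have hdisj : d.ker ⊓ d.range = ⊥ := by
    rw [Subgroup.eq_bot_iff_forall]
    rintro y ⟨hy, x, rfl⟩
    have hy1 : (d x : G) * g * (d x : G)⁻¹ * g⁻¹ = 1 := congrArg Subtype.val hy
    have hcomm : Commute g (d x : G) := by
      rw [mul_inv_eq_one, mul_inv_eq_iff_eq_mul] at hy1
      exact hy1.symm
    have hpow : ∀ n : ℕ, (x : G) * g ^ n * (x : G)⁻¹ = (d x : G) ^ n * g ^ n := by
      intro n
      induction n with
      | zero => simp
      | succ n ih =>
        have e1 : (x : G) * g * (x : G)⁻¹ = (d x : G) * g := by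
          change _ = (x : G) * g * (x : G)⁻¹ * g⁻¹ * g
          group
        calc (x : G) * g ^ (n + 1) * (x : G)⁻¹
            = ((x : G) * g ^ n * (x : G)⁻¹) * ((x : G) * g * (x : G)⁻¹) := by rw [pow_succ]; group
          _ = (d x : G) ^ n * g ^ n * ((d x : G) * g) := by rw [ih, e1]
          _ = (d x : G) ^ (n + 1) * g ^ (n + 1) := by
            rw [← mul_assoc, mul_assoc ((d x : G) ^ n), (hcomm.pow_left n).eq, ← mul_assoc,
              ← pow_succ, mul_assoc, ← pow_succ]
    have h1 := hpow (orderOf g)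
    rw [pow_orderOf_eq_one, mul_one, mul_one, mul_inv_cancel] at h1
    refine Subtype.ext (PBasic.eq_one_of_isPGroup_of_coprime P.isPGroup' (d x).2 ?_)
    exact hgo.coprime_dvd_left (orderOf_dvd_of_pow_eq_one h1.symm)
  rcases eq_bot_or_eq_bot (P.isPGroup') _ _ hdisj with h | h
  · have hsurj : Function.Surjective d :=
      Finite.injective_iff_surjective.1 ((MonoidHom.ker_eq_bot_iff d).1 h)
    have hPle : (P : Subgroup G) ≤ ⁅(P : Subgroup G), Subgroup.normalizer (P : Set G)⁆ := by
      intro y hy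
      obtain ⟨x, hx⟩ := hsurj ⟨y, hy⟩
      have : (x : G) * g * (x : G)⁻¹ * g⁻¹ = y := congrArg Subtype.val hx
      rw [← this, ← commutatorElement_def]
      exact Subgroup.commutator_mem_commutator x.2 hg
    rw [← AbelianSylow.inf_pResidual_eq_commutator P hc] at hPle
    have := sup_le (hPle.trans inf_le_right) le_rfl
    rw [PBasic.sylow_sup_pResidual P, top_le_iff] at this
    exact this
  · refine absurd (fun x hx => ?_) hgc
    have h1 : d ⟨x, hx⟩ = 1 := by
      rw [← Subgroup.mem_bot, ← h]; exact ⟨_, rfl⟩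
    have h2 : x * g * x⁻¹ * g⁻¹ = 1 := congrArg Subtype.val h1
    rw [mul_inv_eq_one, mul_inv_eq_iff_eq_mul] at h2
    exact h2


end Cfsg.Agent.S0082
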