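import Cfsg.Statements.S0083
import Cfsg.Agent.Lib.Transfer.Abelian

set_option autoImplicit false
set_option linter.style.haveILetI false
open Cfsg

namespace Cfsg.Agent.S0083
open scoped Pointwise commutatorElement
open Cfsg.Agent

/-- For an abelian Sylow p-subgroup P, a normal p-complement exists exactly when the normalizer of P is an internal direct product of P with some subgroup. -/
theorem result {G : Type*} [Group G] [Finite G] {p : ℕ} [Fact p.Prime] (P : Sylow p G) (hP : IsMulCommutative P) : Cfsg.HasNormalPComplement p G ↔ ∃ Q : Subgroup G, Q ≤ Subgroup.centralizer (P : Set G) ∧ Q ⊓ (P : Subgroup G) = ⊥ ∧ Q ⊔ (P : Subgroup G) = Subgroup.normalizer (P : Set G) := by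
  haveI := hP
  set N := Subgroup.normalizer (P : Set G) with hN
  constructor
  · intro h
    have hNc := PBasic.hasNormalPComplement_subgroup N h
    have hPN : (P : Subgroup G) ≤ N := Subgroup.le_normalizer
    refine ⟨(Cfsg.pResidual p N).map N.subtype, ?_, ?_, ?_⟩
    · rintro _ ⟨w, hw, rfl⟩
      exact Fusion.mem_centralizer_of_hasNormalPComplement P.isPGroup' hNc w.2
        (by rw [Subgroup.subtype_apply, Subgroup.orderOf_coe]; exact (PBasic.mem_pResidual_iff hNc).1 hw)
    · rw [Subgroup.eq_bot_iff_forall]
      rintro x ⟨⟨w, hw, rfl⟩, hxP⟩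
      exact PBasic.eq_one_of_isPGroup_of_coprime P.isPGroup' hxP
        (by rw [Subgroup.subtype_apply, Subgroup.orderOf_coe]; exact (PBasic.mem_pResidual_iff hNc).1 hw)
    · have h1 := congrArg (Subgroup.map N.subtype)
        (PBasic.sylow_sup_pResidual (P.subtype hPN : Sylow p N))
      rw [Subgroup.map_sup, ← MonoidHom.range_eq_map, Subgroup.range_subtype, sup_comm] at h1
      refine Eq.trans ?_ h1
      rw [show (P.subtype hPN : Subgroup N).map N.subtype = (P : Subgroup G) from
        Subgroup.map_subgroupOf_eq_of_le hPN]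
  · rintro ⟨Q, hQC, -, hQN⟩
    refine Fusion.hasNormalPComplement_of_normalizer_le_centralizer P ?_
    exact hQN.ge.trans (sup_le hQC (Subgroup.le_centralizer _))


end Cfsg.Agent.S0083
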