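import Cfsg.Statements.S0084
import Cfsg.Agent.Lib.Transfer.Abelian

set_option autoImplicit false
set_option linter.style.haveILetI false
open Cfsg

namespace Cfsg.Agent.S0084
open scoped Pointwise commutatorElement
open Cfsg.Agent

/-- A group whose Sylow 2-subgroups are Klein four-groups and whose order is prime to 3 has a normal 2-complement. -/
theorem result {G : Type*} [Group G] [Finite G] (T : Sylow 2 G) (hT : IsKleinFour T) (h3 : ¬ 3 ∣ Nat.card G) : Cfsg.HasNormalPComplement 2 G := by
  haveI := hT
  haveI hT' : IsKleinFour (T : Subgroup G) := hT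
  have hcomm : IsMulCommutative (T : Subgroup G) :=
    ⟨⟨mul_comm_of_exponent_two IsKleinFour.exponent_two⟩⟩
  refine AbelianSylow.hasNormalPComplement_of_abelian T hcomm fun g hg hgo => ?_
  refine AbelianSylow.mem_centralizer_of_forall_pow (n := 24) hg (fun a _ => ?_) ?_
  · haveI : Finite (T : Subgroup G) := inferInstance
    have h1 : orderOf (MulAut.toPerm (T : Subgroup G) a) ∣ Nat.card (Equiv.Perm (T : Subgroup G)) :=
      orderOf_dvd_natCard _
    rw [Nat.card_perm, IsKleinFour.card_four,
      orderOf_injective _ (fun u v h => MulEquiv.ext fun x => Equiv.congr_fun h x)] at h1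
    exact h1
  · have h3' : (orderOf g).Coprime 3 := by
      rw [Nat.coprime_comm, Nat.prime_three.coprime_iff_not_dvd]
      exact fun h => h3 (h.trans (orderOf_dvd_natCard g))
    exact (hgo.pow_right 3).mul_right h3'


end Cfsg.Agent.S0084
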