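import Cfsg.Statements.S0085
import Cfsg.Agent.Lib.Transfer.Abelian

set_option autoImplicit false
set_option linter.style.haveILetI false
open Cfsg

namespace Cfsg.Agent.S0085
open scoped Pointwise commutatorElement
open Cfsg.Agent
theorem fixed_card_eq {T : Type*} [Group T] [Finite T] (h8 : Nat.card T = 8) (a : MulAut T)
    (ha : a ^ 5 = 1) : a = 1 := by
  classical
  haveI : Fact (Nat.Prime 5) := ⟨by norm_num⟩
  have hp : IsPGroup 5 (Subgroup.zpowers a) := by
    apply IsPGroup.of_card_dvd_pow (n := 1)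
    rw [Nat.card_zpowers, pow_one]
    exact orderOf_dvd_of_pow_eq_one ha
  haveI : Finite (MulAut T) := Finite.of_injective (fun e : MulAut T => (e : T → T)) DFunLike.coe_injective
  have hmod := hp.card_modEq_card_fixedPoints T
  let F : Subgroup T := MonoidHom.eqLocus a.toMonoidHom (MonoidHom.id T)
  have hF : (F : Set T) = MulAction.fixedPoints (Subgroup.zpowers a) T := by
    ext x
    constructor
    · intro hx
      rintro ⟨b, hb⟩
      have h1 : a ∈ MulAction.stabilizer (MulAut T) x := hx
      exact (Subgroup.zpowers_le.2 h1) hb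
    · intro hx
      exact hx ⟨a, Subgroup.mem_zpowers a⟩
  rw [← hF, SetLike.coe_sort_coe, h8] at hmod
  have hdvd : Nat.card F ∣ 2 ^ 3 := by
    have := F.card_subgroup_dvd_card
    rw [h8] at this
    exact this
  obtain ⟨i, hi, hFi⟩ := (Nat.dvd_prime_pow Nat.prime_two).1 hdvd
  rw [hFi] at hmod
  have hi3 : i = 3 := by
    interval_cases i <;> simp_all [Nat.ModEq]
  have htop : F = ⊤ := Subgroup.eq_top_of_card_eq F (by rw [hFi, hi3, h8]; norm_num)
  ext x
  exact (htop ▸ Subgroup.mem_top x : x ∈ F)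

/-- A group whose Sylow 2-subgroups are elementary abelian of order 8 and whose order is prime to 3 and to 7 has a normal 2-complement. -/
theorem result {G : Type*} [Group G] [Finite G] (T : Sylow 2 G) (h8 : Nat.card T = 8) (he : ∀ x : T, x * x = 1) (h3 : ¬ 3 ∣ Nat.card G) (h7 : ¬ 7 ∣ Nat.card G) : Cfsg.HasNormalPComplement 2 G := by
  haveI : IsMulCommutative (T : Subgroup G) :=
    ⟨⟨fun a b => by
      have h1 := he (a * b)
      have h2 : ∀ c : (T : Subgroup G), c⁻¹ = c := fun c => inv_eq_of_mul_eq_one_left (he c)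
      calc a * b = (a * b)⁻¹ := (h2 _).symm
        _ = b⁻¹ * a⁻¹ := mul_inv_rev a b
        _ = b * a := by rw [h2, h2]⟩⟩
  refine AbelianSylow.hasNormalPComplement_of_abelian T inferInstance fun g hg hgo => ?_
  have hco : ∀ q, q.Prime → ¬ q ∣ Nat.card G → (orderOf g).Coprime q := fun q hq hqd => by
    rw [Nat.coprime_comm, hq.coprime_iff_not_dvd]
    exact fun h => hqd (h.trans (orderOf_dvd_natCard g))
  refine AbelianSylow.mem_centralizer_of_forall_pow (n := 1) hg (fun a hag => ?_) (Nat.coprime_one_right _)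
  rw [Nat.dvd_one, orderOf_eq_one_iff]
  refine fixed_card_eq h8 a ?_
  have h1 : orderOf (MulAut.toPerm (T : Subgroup G) a) ∣ Nat.card (Equiv.Perm (T : Subgroup G)) :=
    orderOf_dvd_natCard _
  rw [Nat.card_perm, h8, orderOf_injective _ (fun u v h => MulEquiv.ext fun x => Equiv.congr_fun h x)] at h1
  rw [← orderOf_dvd_iff_pow_eq_one]
  have h40 : Nat.factorial 8 = 2 ^ 7 * 3 ^ 2 * 7 * 5 := by decide
  rw [h40] at h1
  refine Nat.Coprime.dvd_of_dvd_mul_left ?_ h1
  refine Nat.Coprime.coprime_dvd_left hag ?_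
  exact ((hgo.pow_right 7).mul_right ((hco 3 (by norm_num) h3).pow_right 2)).mul_right (hco 7 (by norm_num) h7)


end Cfsg.Agent.S0085
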