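import Cfsg.Statements.S0086
import Cfsg.Agent.Lib.Transfer.Basic

set_option autoImplicit false
set_option linter.style.haveILetI false
open Cfsg

namespace Cfsg.Agent.S0086
open scoped Pointwise commutatorElement
open Cfsg.Agent

/-- A normal complement to a Sylow p-subgroup is exactly the set of elements of order prime to p. -/
theorem result {G : Type*} [Group G] [Finite G] {p : ℕ} [Fact p.Prime] (P : Sylow p G) (N : Subgroup G) [N.Normal] (hN : N.IsComplement' (P : Subgroup G)) (x : G) : x ∈ N ↔ Nat.Coprime (orderOf x) p := by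
  have hNPC : Cfsg.HasNormalPComplement p G := ⟨P, N, inferInstance, hN⟩
  constructor
  · intro hx
    refine PBasic.coprime_orderOf_of_mem ?_ hx
    rw [← hN.index_eq_card, Nat.coprime_comm, (Fact.out : p.Prime).coprime_iff_not_dvd]
    exact P.not_dvd_index
  · intro hx
    obtain ⟨k, hk⟩ := IsPGroup.iff_card.1 P.isPGroup'
    have hq : IsPGroup p (G ⧸ N) := IsPGroup.of_card (n := k) (by
      rw [← hk, ← hN.symm.index_eq_card]; rfl)
    exact PBasic.pResidual_le hq (PBasic.mem_pResidual hx)


end Cfsg.Agent.S0086
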