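import Cfsg.Statements.S0089
import Cfsg.Agent.Lib.Transfer.Hall

set_option autoImplicit false
set_option linter.style.haveILetI false
open Cfsg

namespace Cfsg.Agent.S0089
open scoped Pointwise commutatorElement
open Cfsg.Agent

/-- When all Sylow subgroups are abelian, the derived subgroup meets the centre trivially. -/
theorem result {G : Type*} [Group G] [Finite G] (h : ∀ p : ℕ, p.Prime → ∀ P : Sylow p G, IsMulCommutative P) : commutator G ⊓ Subgroup.center G = ⊥ := by
  rw [Subgroup.eq_bot_iff_forall]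
  intro x hx
  by_contra hx1
  have ho : orderOf x ≠ 1 := fun he => hx1 (orderOf_eq_one_iff.1 he)
  obtain ⟨p, hp, hpd⟩ := Nat.exists_prime_and_dvd ho
  haveI : Fact p.Prime := ⟨hp⟩
  set y := x ^ (orderOf x / p) with hy
  have hyo : orderOf y = p := by
    rw [hy, orderOf_pow_orderOf_div (orderOf_pos x).ne' hpd]
  obtain ⟨P, hP⟩ := (IsPGroup.of_card (G := Subgroup.zpowers y) (n := 1) (p := p)
    (by rw [Nat.card_zpowers, hyo, pow_one])).exists_le_sylow
  have h1 := TransferHall.inf_commutator_inf_center (P : Subgroup G) (h p hp P) P.card_coprime_index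
  have h2 : y ∈ (P : Subgroup G) ⊓ commutator G ⊓ Subgroup.center G :=
    ⟨⟨hP (Subgroup.mem_zpowers y), Subgroup.pow_mem _ hx.1 _⟩, Subgroup.pow_mem _ hx.2 _⟩
  rw [h1, Subgroup.mem_bot] at h2
  rw [h2, orderOf_one] at hyo
  exact hp.ne_one hyo.symm


end Cfsg.Agent.S0089
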