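import Cfsg.Statements.S0091
import Cfsg.Agent.Lib.Transfer.Fusion

set_option autoImplicit false
set_option linter.style.haveILetI false
open Cfsg

namespace Cfsg.Agent.S0091
open scoped Pointwise commutatorElement
open Cfsg.Agent

/-- If a nontrivial Sylow p-subgroup controls its own fusion then it is not contained in the derived subgroup. -/
theorem result {G : Type*} [Group G] [Finite G] {p : ℕ} [Fact p.Prime] (P : Sylow p G) (hp : p ∣ Nat.card G) (h : ∀ x ∈ P, ∀ y ∈ P, (∃ g : G, g * x * g⁻¹ = y) → ∃ z ∈ P, z * x * z⁻¹ = y) : ¬ (P : Subgroup G) ≤ commutator G := by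
  intro hle
  have h1 : (P : Subgroup G) ≤ ⁅(P : Subgroup G), (P : Subgroup G)⁆ := by
    have h2 := Fusion.commutator_inf_eq_of_controlsFusion P (P : Subgroup G) le_rfl
      (fun x hx g hy => h x hx _ hy ⟨g, rfl⟩)
    rw [inf_eq_right.2 hle] at h2
    exact h2.le.trans inf_le_left
  refine P.ne_bot_of_dvd_card hp (le_bot_iff.1 ?_)
  refine Fusion.le_of_le_commutator_sup (Fusion.sylow_isNilpotent P) le_rfl bot_le ?_ ?_
  · rw [Subgroup.normalizer_eq_top]; exact le_top
  · rwa [sup_bot_eq]


end Cfsg.Agent.S0091
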