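import Cfsg.Statements.S0092
import Cfsg.Agent.Lib.Transfer.Abelian
import Cfsg.Agent.Lib.Transfer.Hall
import Cfsg.Agent.Lib.Solvable.SchurZassenhaus

set_option autoImplicit false
set_option linter.style.haveILetI false
open Cfsg

namespace Cfsg.Agent.S0092
open scoped Pointwise commutatorElement
open Cfsg.Agent
open scoped commutatorElement Pointwise
open Cfsg.Agent

theorem eq_one_of_central {K : Type*} [Group K] [Finite K] {p : ℕ} [Fact p.Prime]
    (hK : Cfsg.pResidual p K = ⊤) (S : Sylow p K) (hS : IsMulCommutative S) {x : K}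
    (hx : x ∈ (S : Subgroup K))
    (hc : ∀ n ∈ Subgroup.normalizer (S : Set K), n * x = x * n) : x = 1 := by
  have h1 := AbelianSylow.inf_pResidual_eq_commutator S hS
  rw [hK, inf_top_eq] at h1
  set N := Subgroup.normalizer (S : Set K) with hN
  have hA : IsMulCommutative ((S : Subgroup K).subgroupOf N) := by
    haveI := hS
    exact Subgroup.subgroupOf_isMulCommutative N (S : Subgroup K)
  have h2 := TransferHall.inf_commutator_inf_center ((S : Subgroup K).subgroupOf N) hA
    (S.subtype Subgroup.le_normalizer : Sylow p N).card_coprime_index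
  have h3 : x ∈ (commutator N).map N.subtype := by
    have h5 : x ∈ ⁅(S : Subgroup K), N⁆ := h1 ▸ hx
    rw [Subgroup.map_subtype_commutator]
    exact Subgroup.commutator_mono Subgroup.le_normalizer le_rfl h5
  obtain ⟨y, hy, rfl⟩ := h3
  have hy' : y ∈ (⊥ : Subgroup N) := h2 ▸ ⟨⟨hx, hy⟩,
    Subgroup.mem_center_iff.2 fun n => Subtype.ext (hc n n.2)⟩
  simp [Subgroup.mem_bot.1 hy']


/-- If the Sylow p-subgroups of O^p(G) are abelian then G splits over O^p(G). -/
theorem result {G : Type*} [Group G] [Finite G] {p : ℕ} [Fact p.Prime] (h : ∀ Q : Sylow p (Cfsg.pResidual p G), IsMulCommutative Q) : ∃ K : Subgroup G, K.IsComplement' (Cfsg.pResidual p G) := by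
  set K := Cfsg.pResidual p G with hK
  obtain ⟨P⟩ : Nonempty (Sylow p G) := inferInstance
  obtain ⟨QK, hQK⟩ := PBasic.exists_sylow_subgroupOf P K
  set Q := (P : Subgroup G) ⊓ K with hQ
  have hQmap : (QK : Subgroup K).map K.subtype = Q := by rw [hQK, Subgroup.subgroupOf_map_subtype]
  have hQc : IsMulCommutative Q := by
    haveI := h QK
    rw [← hQmap]
    exact Subgroup.map_isMulCommutative _ _
  set N := Subgroup.normalizer (Q : Set G) with hN
  have hfrat : N ⊔ K = ⊤ := by
    have := Sylow.normalizer_sup_eq_top QK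
    rwa [hQmap] at this
  set NK := N ⊓ K with hNK
  have hQNK : Q ≤ NK := le_inf Subgroup.le_normalizer inf_le_right
  haveI : (Q.subgroupOf NK).Normal := Subgroup.normal_subgroupOf_of_le_normalizer inf_le_left
  have hQp : IsPGroup p Q := P.isPGroup'.to_le inf_le_left
  have hidx : ¬ p ∣ (Q.subgroupOf NK).index := by
    intro hd
    have h1 : Q.relIndex NK ∣ Q.relIndex K := Dvd.intro _
      (Subgroup.relIndex_mul_relIndex Q NK K hQNK inf_le_right)
    have h2 : Q.relIndex K = (QK : Subgroup K).index := by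
      rw [hQK, hQ]
      exact Subgroup.inf_relIndex_right _ _
    exact QK.not_dvd_index (h2 ▸ hd.trans h1)
  obtain ⟨k, hk⟩ := IsPGroup.iff_card.1 hQp
  have hcardQ : Nat.card (Q.subgroupOf NK) = p ^ k := by
    rw [Nat.card_congr (Subgroup.subgroupOfEquivOfLe hQNK).toEquiv, hk]
  have hcop : (Nat.card (Q.subgroupOf NK)).Coprime (Q.subgroupOf NK).index := by
    rw [hcardQ]
    exact Nat.Coprime.pow_left k ((Fact.out : p.Prime).coprime_iff_not_dvd.2 hidx)
  obtain ⟨R', hR'⟩ := Subgroup.exists_right_complement'_of_coprime hcop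
  set R := R'.map NK.subtype with hR
  have hRNK : R ≤ NK := Subgroup.map_subtype_le R'
  have hRN : R ≤ N := hRNK.trans inf_le_left
  have hRc : (Nat.card R).Coprime p := by
    rw [hR, Subgroup.card_map_of_injective Subtype.coe_injective, ← hR'.symm.index_eq_card,
      Nat.coprime_comm]
    exact (Fact.out : p.Prime).coprime_iff_not_dvd.2 hidx
  have hcRQ : (Nat.card R).Coprime (Nat.card Q) := by
    rw [hk]; exact hRc.pow_right k
  have hQR : Q ⊔ R = NK := by
    have h1 := congrArg (Subgroup.map NK.subtype) hR'.sup_eq_top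
    rwa [Subgroup.map_sup, Subgroup.map_subgroupOf_eq_of_le hQNK, ← MonoidHom.range_eq_map,
      Subgroup.range_subtype] at h1
  set M := N ⊓ Subgroup.normalizer (R : Set G) with hM
  have hMK : M ⊔ K = ⊤ := by
    rw [eq_top_iff, ← hfrat]
    refine sup_le ?_ le_sup_right
    intro n hn
    have hB : MulAut.conj n • R ≤ Q ⊔ R := by
      rw [hQR]
      intro y hy
      obtain ⟨r, hr, rfl⟩ := hy
      exact ⟨N.mul_mem (N.mul_mem hn (hRN hr)) (N.inv_mem hn),
        (PBasic.pResidual_normal_inst p G).conj_mem r (hRNK hr).2 n⟩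
    have hQsolv : Group.IsSolvable R ∨ Group.IsSolvable Q := Or.inr (by
      haveI := hQp.isNilpotent
      infer_instance)
    obtain ⟨q, hq, hqe⟩ := SchurZ.conj_in hRN hcRQ hQsolv hB
      (Nat.card_congr (Subgroup.equivSMul (MulAut.conj n) R).toEquiv).symm
    rw [show n = q * (q⁻¹ * n) by group]
    refine mul_mem (Subgroup.mem_sup_right (inf_le_right (a := (P : Subgroup G)) hq))
      (Subgroup.mem_sup_left ⟨N.mul_mem (N.inv_mem (Subgroup.le_normalizer hq)) hn, ?_⟩)
    show q⁻¹ * n ∈ Subgroup.normalizer (R : Set G)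
    rw [Subgroup.mem_normalizer_iff_map_conj_eq]
    change MulAut.conj (q⁻¹ * n) • R = R
    rw [map_mul, mul_smul, ← hqe, smul_smul, ← map_mul, inv_mul_cancel, map_one, one_smul]
  have hMKle : M ⊓ K ≤ R := by
    rintro x ⟨⟨hxN, hxR⟩, hxK⟩
    have hx : x ∈ Q ⊔ R := hQR ▸ ⟨hxN, hxK⟩
    rw [← SetLike.mem_coe, Subgroup.coe_mul_of_right_le_normalizer_left _ _ hRN] at hx
    obtain ⟨q, hq, r, hr, rfl⟩ := Set.mem_mul.1 hx
    have hqR : q ∈ Subgroup.normalizer (R : Set G) := by
      have := mul_mem hxR (Subgroup.inv_mem _ (Subgroup.le_normalizer hr))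
      simpa using this
    have hqC := SchurZ.mem_centralizer_of_mem_normalizer hRN
      (SchurZ.inf_eq_bot hcRQ) hq hqR
    have hqK : q ∈ K := hq.2
    suffices hq1 : q = 1 by rw [hq1, one_mul]; exact hr
    have h3 : (⟨q, hqK⟩ : K) = 1 := by
      refine eq_one_of_central (PBasic.pResidual_idem p G) QK (h QK) ?_ ?_
      · rw [hQK]; exact hq.1
      · intro m hm
        have hmN : (m : G) ∈ N := by
          rw [hN, Subgroup.mem_normalizer_iff]
          intro y
          have h4 := Subgroup.mem_normalizer_iff.1 hm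
          constructor
          · intro hy
            have h5 : (⟨y, hy.2⟩ : K) ∈ (QK : Subgroup K) := by rw [hQK]; exact hy.1
            rw [← hQmap]
            exact ⟨_, (h4 _).1 h5, rfl⟩
          · intro hy
            have hyK : y ∈ K := by
              have := mul_mem (mul_mem (K.inv_mem m.2) hy.2) m.2
              simpa [mul_assoc] using this
            have h5 : m * (⟨y, hyK⟩ : K) * m⁻¹ ∈ (QK : Subgroup K) := by rw [hQK]; exact hy.1
            rw [← hQmap]
            exact ⟨⟨y, hyK⟩, (h4 _).2 h5, rfl⟩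
        have hmQR : (m : G) ∈ Q ⊔ R := hQR ▸ ⟨hmN, m.2⟩
        have hle : Q ⊔ R ≤ Subgroup.centralizer {q} := by
          refine sup_le ?_ ?_
          · intro y hy
            rw [Subgroup.mem_centralizer_singleton_iff]
            haveI := hQc
            exact congrArg Subtype.val (mul_comm' (⟨y, hy⟩ : Q) ⟨q, hq⟩)
          · intro y hy
            rw [Subgroup.mem_centralizer_singleton_iff]
            exact hqC y hy
        exact Subtype.ext (Subgroup.mem_centralizer_singleton_iff.1 (hle hmQR))
    exact congrArg Subtype.val h3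
  obtain ⟨T⟩ : Nonempty (Sylow p M) := inferInstance
  refine ⟨(T : Subgroup M).map M.subtype, ?_⟩
  have hq : IsPGroup p (M ⧸ K.subgroupOf M) := by
    obtain ⟨j, hj⟩ := PBasic.exists_index_pow_of_isPGroup_quotient
      (PBasic.quotient_pResidual_isPGroup p G)
    obtain ⟨i, -, hi⟩ := (Nat.dvd_prime_pow (Fact.out : p.Prime)).1
      (hj ▸ Subgroup.relIndex_dvd_index_of_normal K M)
    exact IsPGroup.of_card (n := i) hi
  have hT := PBasic.sylow_sup_eq_top T hq
  refine Subgroup.isComplement'_of_disjoint_and_mul_eq_univ ?_ ?_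
  · rw [disjoint_iff, Subgroup.eq_bot_iff_forall]
    rintro x ⟨hx, hxK⟩
    have hxR : x ∈ R := hMKle ⟨Subgroup.map_subtype_le _ hx, hxK⟩
    exact PBasic.eq_one_of_isPGroup_of_coprime (T.isPGroup'.map M.subtype) hx
      (PBasic.coprime_orderOf_of_mem hRc hxR)
  · rw [← Subgroup.mul_normal, ← Subgroup.coe_top, SetLike.coe_set_eq, eq_top_iff, ← hMK]
    refine sup_le ?_ le_sup_right
    have h5 := congrArg (Subgroup.map M.subtype) hT
    rw [Subgroup.map_sup, ← MonoidHom.range_eq_map, Subgroup.range_subtype] at h5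
    exact h5.ge.trans (sup_le_sup_left
      (Subgroup.map_le_iff_le_comap.2 le_rfl) _)


end Cfsg.Agent.S0092
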