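import Cfsg.Statements.S0093
import Cfsg.Agent.Lib.Functors.Critical
import Cfsg.Agent.Lib.LocalEven.Frattini

set_option autoImplicit false
set_option linter.style.haveILetI false
open Cfsg

namespace Cfsg.Agent.S0093
open scoped Pointwise commutatorElement
open Cfsg.Agent

/-- Every finite p-group has a critical subgroup: a characteristic subgroup H whose Frattini subgroup and whose commutator with the whole group lie in the centre of H, and whose centralizer is contained in H. -/
theorem result {P : Type*} [Group P] [Finite P] {p : ℕ} [Fact p.Prime] (hP : IsPGroup p P) : ∃ H : Subgroup P, H.Characteristic ∧ (frattini H).map H.subtype ≤ Subgroup.centralizer (H : Set P) ∧ ⁅H, (⊤ : Subgroup P)⁆ ≤ H ⊓ Subgroup.centralizer (H : Set P) ∧ Subgroup.centralizer (H : Set P) ≤ H := by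
  obtain ⟨H, hH⟩ := Critical.exists_critical hP
  haveI := hH.char
  refine ⟨H, hH.char, ?_, ?_, hH.cent⟩
  · set Z := (H ⊓ Subgroup.centralizer (H : Set P)).subgroupOf H with hZ
    have hle : frattini H ≤ Z := by
      haveI : Z.Normal := by
        refine ⟨fun z hz g => Subgroup.mem_subgroupOf.2 ?_⟩
        have hz' : (z : P) ∈ Subgroup.centralizer (H : Set P) := hz.2
        have e : ((g * z * g⁻¹ : H) : P) = (z : P) := by
          rw [Subgroup.coe_mul, Subgroup.coe_mul, Subgroup.coe_inv, hz' g g.2, mul_inv_cancel_right]
        rw [e]; exact hz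
      exact LEFrattini.frattini_le (p := p) (N := Z)
        (fun x y => Subgroup.mem_subgroupOf.2 (hH.comm (by
          rw [← Subgroup.commutator_comm]
          exact Subgroup.commutator_mem_commutator x.2 (Subgroup.mem_top _))))
        (fun x => Subgroup.mem_subgroupOf.2 (hH.pow x x.2))
    rintro _ ⟨z, hz, rfl⟩
    exact (hle hz).2
  · rw [Subgroup.commutator_comm]
    exact hH.comm


end Cfsg.Agent.S0093
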