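import Cfsg.Statements.S0097
import Cfsg.Agent.Lib.Transfer.PGroup

set_option autoImplicit false
set_option linter.style.haveILetI false
open Cfsg

namespace Cfsg.Agent.S0097
open scoped Pointwise commutatorElement
open Cfsg.Agent
open Cfsg.Agent
open scoped commutatorElement

/-- For odd p and E extraspecial, the subgroup generated by the elements of order dividing p has exponent dividing p and index at most p. -/
theorem result {E : Type*} [Group E] [Finite E] {p : ℕ} [Fact p.Prime] (hp : p ≠ 2) (h : Cfsg.IsExtraspecial p E) : (Subgroup.closure {x : E | x ^ p = 1}).index ≤ p ∧ ∀ g ∈ Subgroup.closure {x : E | x ^ p = 1}, g ^ p = 1 := by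
  obtain ⟨hcl, hpw, hexp⟩ := PGroupBasics.special_center h.1
  refine ⟨?_, fun g hg => PGroupBasics.pow_eq_one_of_mem_closure hp hcl hg⟩
  have hmul : ∀ x y : E, (x * y) ^ p = x ^ p * y ^ p := by
    intro x y
    set w := (x * y)⁻¹ * (y * x) with hw
    have hwc : w ∈ Subgroup.center E := by
      have h' : w = ⁅y⁻¹, x⁻¹⁆ := by rw [hw, commutatorElement_def]; group
      rw [h']; exact hcl _ _
    have hc : ∀ u, Commute w u := fun u => (Subgroup.mem_center_iff.1 hwc u).symm
    rw [LEOmega.mul_pow_class_two (z := w) (by rw [hw]; group) (hc x) (hc y)]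
    obtain ⟨d, hd⟩ := (Fact.out : p.Prime).dvd_choose_self two_ne_zero
      (lt_of_le_of_ne (Fact.out : p.Prime).two_le (Ne.symm hp))
    rw [hd, pow_mul, hexp w hwc, one_pow, mul_one]
  let φ : E →* Subgroup.center E := MonoidHom.mk' (fun x => ⟨x ^ p, hpw x⟩)
    fun x y => Subtype.ext (hmul x y)
  have hle : φ.ker ≤ Subgroup.closure {x : E | x ^ p = 1} := fun x hx =>
    Subgroup.subset_closure (congrArg Subtype.val hx)
  calc (Subgroup.closure {x : E | x ^ p = 1}).index ≤ φ.ker.index :=
        Nat.le_of_dvd (Nat.pos_of_ne_zero Subgroup.index_ne_zero_of_finite)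
          (Subgroup.index_dvd_of_le hle)
    _ = Nat.card φ.range := Subgroup.index_ker φ
    _ ≤ Nat.card (Subgroup.center E) := Subgroup.card_le_card_group _
    _ = p := h.2


end Cfsg.Agent.S0097
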