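import Cfsg.Statements.S0100
import Cfsg.Agent.Lib.OddOrder.OmegaCentral

set_option autoImplicit false
open Cfsg

namespace Cfsg.Agent.S0100

/-- For odd p, a p-group without normal elementary abelian subgroups of order p^3 has p-rank at most 2. -/
theorem result {P : Type*} [Group P] [Finite P] {p : ℕ} [Fact p.Prime] (hp : p ≠ 2) (hP : IsPGroup p P) (h : ∀ A : Subgroup P, A.Normal → IsMulCommutative A → (∀ a ∈ A, a ^ p = 1) → Nat.card A ≠ p ^ 3) (E : Subgroup P) (hE : IsMulCommutative E) (hEe : ∀ e ∈ E, e ^ p = 1) : Nat.card E ≤ p ^ 2 := by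
  by_contra hlt
  haveI : (⊥ : Subgroup P).Normal := inferInstance
  obtain ⟨A, hAn, hAe, -, hA3⟩ := OddOrder.OmegaCen.exists_normal_elementary_three hp hP E hE hEe
    (not_le.1 hlt) ⊥ ⟨inferInstance, fun a ha => by rw [Subgroup.mem_bot.1 ha, one_pow]⟩
  haveI := hAn
  obtain ⟨B, hBn, hBA, hB⟩ := OddOrder.OmegaCen.exists_normal_card hP A (k := 3) hA3
  refine h B hBn ?_ (fun b hb => hAe.2 b (hBA hb)) hB
  exact .of_setLike_mul_comm fun x hx y hy => by
    haveI := hAe.1
    exact congrArg Subtype.val (mul_comm' (⟨x, hBA hx⟩ : A) ⟨y, hBA hy⟩)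

end Cfsg.Agent.S0100
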