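import Cfsg.Statements.S0105
import Cfsg.Agent.Lib.Transfer.Abelian
import Cfsg.Agent.Lib.Transfer.Hall

set_option autoImplicit false
set_option linter.style.haveILetI false
open Cfsg

namespace Cfsg.Agent.S0105
open scoped Pointwise commutatorElement
open Cfsg.Agent
open scoped commutatorElement Pointwise
open Cfsg.Agent

theorem split {G : Type*} [Group G] [Finite G] {p : ℕ} [Fact p.Prime] (P : Sylow p G)
    (hP : IsMulCommutative P) :
    let C := (P : Subgroup G) ⊓ Subgroup.centralizer (Subgroup.normalizer (P : Set G) : Set G)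
    (P : Subgroup G).focalSubgroup ⊓ C = ⊥ ∧
      (P : Subgroup G) ≤ (P : Subgroup G).focalSubgroup ⊔ C := by
  intro C
  set N := Subgroup.normalizer (P : Set G) with hN
  have hfoc : (P : Subgroup G).focalSubgroup = ⁅(P : Subgroup G), N⁆ := by
    rw [Subgroup.focalSubgroup_def]
    apply le_antisymm
    · rw [Subgroup.closure_le]
      rintro _ ⟨hz, x, hx, u, rfl⟩
      have h2 : u * x⁻¹ * u⁻¹ ∈ (P : Subgroup G) := by
        have := mul_mem (inv_mem hx) hz
        simpa [commutatorElement_def, mul_assoc] using this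
      obtain ⟨v, hv, hvx⟩ := AbelianSylow.fusion_normalizer P hP x⁻¹ (inv_mem hx) u h2
      have : ⁅x, u⁆ = ⁅x, v⁆ := by
        simp only [commutatorElement_def, mul_assoc] at hvx ⊢
        rw [hvx]
      rw [SetLike.mem_coe, this]
      exact Subgroup.commutator_mem_commutator hx hv
    · rw [Subgroup.commutator_le]
      intro x hx n hn
      refine Subgroup.subset_closure ⟨?_, x, hx, n, rfl⟩
      rw [commutatorElement_def, mul_assoc x n, mul_assoc x]
      exact mul_mem hx ((Subgroup.mem_normalizer_iff.1 hn _).1 (inv_mem hx))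
  set A : Subgroup N := (P : Subgroup G).subgroupOf N with hA
  haveI : A.Normal := Subgroup.normal_in_normalizer
  have hAc : IsMulCommutative A := by
    haveI := hP
    exact Subgroup.subgroupOf_isMulCommutative N (P : Subgroup G)
  have hHall : Nat.Coprime (Nat.card A) A.index :=
    (P.subtype Subgroup.le_normalizer : Sylow p N).card_coprime_index
  obtain ⟨h1, h2, h3⟩ := TransferHall.abelian_normal_hall A hAc hHall
  have hAmap : A.map N.subtype = (P : Subgroup G) :=
    Subgroup.map_subgroupOf_eq_of_le Subgroup.le_normalizer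
  have hcomm : (⁅A, (⊤ : Subgroup N)⁆).map N.subtype = ⁅(P : Subgroup G), N⁆ := by
    rw [Subgroup.map_commutator, hAmap, ← MonoidHom.range_eq_map, Subgroup.range_subtype]
  constructor
  · rw [Subgroup.eq_bot_iff_forall]
    rintro c ⟨hc, hcP, hcC⟩
    rw [hfoc, ← hcomm] at hc
    obtain ⟨y, hy, rfl⟩ := hc
    have hyA : y ∈ Subgroup.center N ⊓ A :=
      ⟨Subgroup.mem_center_iff.2 fun g => Subtype.ext (hcC g g.2), hcP⟩
    have : y ∈ (⊥ : Subgroup N) := h2 ▸ ⟨h1 ▸ hy, hyA⟩
    simp [Subgroup.mem_bot.1 this]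
  · have h3' := congrArg (Subgroup.map N.subtype) h3
    rw [Subgroup.map_sup, hAmap, ← h1, hcomm] at h3'
    rw [hfoc]
    refine h3'.ge.trans (sup_le_sup_left ?_ _)
    rintro _ ⟨y, ⟨hyZ, hyA⟩, rfl⟩
    exact ⟨hyA, fun g hg => congrArg Subtype.val (Subgroup.mem_center_iff.1 hyZ ⟨g, hg⟩)⟩


/-- With an abelian Sylow p-subgroup P, some quotient of G is isomorphic to the part of P central in N_G(P). -/
theorem result {G : Type*} [Group G] [Finite G] {p : ℕ} [Fact p.Prime] (P : Sylow p G) (hP : IsMulCommutative P) : ∃ (N : Subgroup G) (hN : N.Normal), Nonempty (G ⧸ N ≃* ((P : Subgroup G) ⊓ Subgroup.centralizer (Subgroup.normalizer (P : Set G) : Set G) : Subgroup G)) := by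
  obtain ⟨h1, h2⟩ := split P hP
  set C := (P : Subgroup G) ⊓ Subgroup.centralizer (Subgroup.normalizer (P : Set G) : Set G)
  set f : C →* (P : Subgroup G) ⧸ (P : Subgroup G).focalSubgroupOf :=
    (QuotientGroup.mk' _).comp (Subgroup.inclusion (inf_le_left : C ≤ (P : Subgroup G))) with hf
  have hf_bij : Function.Bijective f := by
    constructor
    · rw [injective_iff_map_eq_one]
      intro c hc
      have h4 : (Subgroup.inclusion (inf_le_left : C ≤ (P : Subgroup G)) c) ∈
          (P : Subgroup G).focalSubgroupOf := (QuotientGroup.eq_one_iff _).1 hc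
      have h5 : (c : G) ∈ (⊥ : Subgroup G) := h1 ▸ ⟨h4, c.2⟩
      exact Subtype.ext (Subgroup.mem_bot.1 h5)
    · intro q
      obtain ⟨x, rfl⟩ := QuotientGroup.mk_surjective q
      have htop : (P : Subgroup G).focalSubgroupOf ⊔ C.subgroupOf (P : Subgroup G) = ⊤ := by
        rw [Subgroup.focalSubgroupOf_def, ← Subgroup.subgroupOf_sup (Subgroup.focalSubgroup_le _)
          inf_le_left, Subgroup.subgroupOf_eq_top]
        exact h2
      have hx := Subgroup.mem_top x
      rw [← htop, ← SetLike.mem_coe, Subgroup.normal_mul] at hx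
      obtain ⟨a, ha, b, hb, rfl⟩ := Set.mem_mul.1 hx
      refine ⟨⟨(b : G), hb⟩, ?_⟩
      change ((b : (P : Subgroup G)) : _ ⧸ (P : Subgroup G).focalSubgroupOf) = _
      rw [QuotientGroup.mk_mul, (QuotientGroup.eq_one_iff a).2 ha, one_mul]
  exact ⟨_, inferInstance,
    ⟨(Subgroup.transferFocal.quotientKerMulEquivQuotientFocalSubroupOf P).trans
      (MulEquiv.ofBijective f hf_bij).symm⟩⟩


end Cfsg.Agent.S0105
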