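import Cfsg.Statements.S0107
import Cfsg.Agent.Lib.Transfer.Basic
import Cfsg.Agent.S0111
import Mathlib.GroupTheory.SpecificGroups.Dihedral

set_option autoImplicit false
set_option linter.style.haveILetI false
open Cfsg

namespace Cfsg.Agent.S0107
open scoped Pointwise commutatorElement
open Cfsg.Agent

/-- A finite group with no nontrivial 2-group quotient and dihedral Sylow 2-subgroups of order at least 8 has a single class of involutions. -/
theorem result {G : Type*} [Group G] [Finite G] (T : Sylow 2 G) (n : ℕ) (hn : 2 ≤ n) (hT : Nonempty ((T : Subgroup G) ≃* DihedralGroup (2 ^ n))) (hO : Cfsg.pResidual 2 G = ⊤) (x y : G) (hx : orderOf x = 2) (hy : orderOf y = 2) : ∃ g : G, g * x * g⁻¹ = y := by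
  classical
  obtain ⟨e⟩ := hT
  set m := 2 ^ n with hm
  haveI : NeZero m := ⟨(Nat.two_pow_pos n).ne'⟩
  have hm2 : 2 ∣ m := dvd_pow_self 2 (by omega)
  set f : DihedralGroup m →* G := (T : Subgroup G).subtype.comp e.symm.toMonoidHom with hf
  have hfi : Function.Injective f := (T : Subgroup G).subtype_injective.comp e.symm.injective
  set Q : Subgroup G := (Subgroup.zpowers (DihedralGroup.r (1 : ZMod m))).map f with hQ
  have hQT : Q ≤ (T : Subgroup G) := by rintro _ ⟨a, -, rfl⟩; exact (e.symm a).2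
  have hQi : Q.relIndex (T : Subgroup G) = 2 := by
    have h1 := (Q.subgroupOf (T : Subgroup G)).card_mul_index
    rw [Nat.card_congr (Subgroup.subgroupOfEquivOfLe hQT).toEquiv, hQ,
      Subgroup.card_map_of_injective hfi, Nat.card_zpowers, DihedralGroup.orderOf_r_one,
      Nat.card_congr e.toEquiv, DihedralGroup.nat_card] at h1
    rw [← hQ] at h1
    exact Nat.eq_of_mul_eq_mul_left (Nat.pos_of_ne_zero (NeZero.ne m)) (h1.trans (by ring))
  have huniq : ∀ i : ZMod m, (DihedralGroup.r i) ^ 2 = 1 → DihedralGroup.r i ≠ 1 → i.val = m / 2 := by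
    intro i h2 h1
    rw [sq, DihedralGroup.r_mul_r, DihedralGroup.one_def] at h2
    injection h2 with h2
    have hi : i.val ≠ 0 := fun h => h1 (by rw [(ZMod.val_eq_zero i).1 h, DihedralGroup.one_def])
    have hd : m ∣ i.val + i.val := by
      rw [← ZMod.natCast_eq_zero_iff, Nat.cast_add, ZMod.natCast_zmod_val, h2]
    obtain ⟨c, hc⟩ := hd
    have hlt := ZMod.val_lt i
    have hc1 : c = 1 := by
      rcases c with _ | _ | c
      · omega
      · rfl
      · have : m * 2 ≤ m * (c + 1 + 1) := Nat.mul_le_mul_left _ (by omega)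
        omega
    subst hc1
    omega
  -- every involution of `T` is conjugate to the involution of the cyclic subgroup
  have key : ∀ u : G, orderOf u = 2 → u ∈ (T : Subgroup G) →
      ∃ g : G, g * u * g⁻¹ = f (DihedralGroup.r ((m / 2 : ℕ) : ZMod m)) := by
    intro u hu huT
    have hinQ : ∀ v : G, orderOf v = 2 → v ∈ Q → v = f (DihedralGroup.r ((m / 2 : ℕ) : ZMod m)) := by
      rintro v hv ⟨a, ha, rfl⟩
      rw [orderOf_injective f hfi] at hv
      obtain ⟨k, rfl⟩ := Subgroup.mem_zpowers_iff.1 ha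
      rw [DihedralGroup.r_one_zpow] at hv ⊢
      have h2 := pow_orderOf_eq_one (DihedralGroup.r (k : ZMod m))
      rw [hv] at h2
      have h1 : DihedralGroup.r (k : ZMod m) ≠ 1 := fun h => by rw [h, orderOf_one] at hv; omega
      rw [← huniq _ h2 h1, ZMod.natCast_zmod_val]
    by_cases huQ : u ∈ Q
    · exact ⟨1, by rw [one_mul, inv_one, mul_one]; exact hinQ u hu huQ⟩
    rcases S0111.result T Q hQT hQi u hu huT huQ with ⟨M, hMn, hMi, -⟩ | ⟨g, hg⟩
    · exfalso
      have hle : Cfsg.pResidual 2 G ≤ M := PBasic.pResidual_le (IsPGroup.of_card (n := 1) (by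
        rw [← Subgroup.index_eq_card, hMi, pow_one]))
      rw [hO, top_le_iff] at hle
      rw [hle, Subgroup.index_top] at hMi
      omega
    · exact ⟨g, hinQ _ (by rw [← MulAut.conj_apply, MulEquiv.orderOf_eq, hu]) hg⟩
  have conj : ∀ u : G, orderOf u = 2 → ∃ g : G, g * u * g⁻¹ = f (DihedralGroup.r ((m / 2 : ℕ) : ZMod m)) := by
    intro u hu
    have hp : IsPGroup 2 (Subgroup.zpowers u) := IsPGroup.of_card (n := 1) (by
      rw [Nat.card_zpowers, hu, pow_one])
    obtain ⟨R, hR⟩ := hp.exists_le_sylow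
    obtain ⟨g, hg⟩ := MulAction.exists_smul_eq G R T
    have hmem : g * u * g⁻¹ ∈ (T : Subgroup G) := by
      rw [← hg, Sylow.coe_subgroup_smul]
      exact ⟨u, hR (Subgroup.mem_zpowers u), rfl⟩
    obtain ⟨h, hh⟩ := key _ (by rw [← MulAut.conj_apply, MulEquiv.orderOf_eq, hu]) hmem
    exact ⟨h * g, by rw [← hh]; group⟩
  obtain ⟨a, ha⟩ := conj x hx
  obtain ⟨b, hb⟩ := conj y hy
  exact ⟨b⁻¹ * a, by rw [show b⁻¹ * a * x * (b⁻¹ * a)⁻¹ = b⁻¹ * (a * x * a⁻¹) * b by group, ha, ← hb]; group⟩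


end Cfsg.Agent.S0107
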