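import Cfsg.Statements.S0109
import Cfsg.Agent.Lib.PLocal.FF.Factor

set_option autoImplicit false
set_option linter.style.haveILetI false
open Cfsg

namespace Cfsg.Agent.S0109
open scoped Pointwise commutatorElement
open Cfsg.Agent

/-- The Thompson factorization Theorem for solvable groups states that, with p odd (and abelian Sylow 2-subgroups when p = 3) and no nontrivial normal subgroup of order prime to p, every element of G is a product of an element normalizing J(P) and an element centralizing the elements of order dividing p in the centre of P. -/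
theorem result {G : Type*} [Group G] [Finite G] {p : ℕ} [Fact p.Prime] (hp : p ≠ 2) (hs : Group.IsSolvable G) (h3 : p = 3 → ∀ T : Sylow 2 G, IsMulCommutative T) (hF : ∀ N : Subgroup G, N.Normal → Nat.Coprime (Nat.card N) p → N = ⊥) (P : Sylow p G) (g : G) : ∃ a ∈ Subgroup.normalizer (Cfsg.thompsonSubgroupOf p (P : Subgroup G) : Set G), ∃ c ∈ Subgroup.centralizer {x : G | x ∈ (P : Subgroup G) ∧ (∀ y ∈ (P : Subgroup G), x * y = y * x) ∧ x ^ p = 1}, g = a * c := by
  classical
  have hO : Cfsg.pPrimeCore p G = ⊥ :=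
    hF _ (FittingCores.pPrimeCore_normal p) (PBasic.pPrimeCore_coprime p G)
  have hfac : Cfsg.IsThompsonFactorizable p G := by
    by_contra hnf
    obtain ⟨hp23, E, -, -, -, hn, ⟨e⟩⟩ := FF.failure (PSolvable.of_solvable hs) hO hnf
    have hp3 : p = 3 := hp23.resolve_left hp
    subst hp3
    obtain ⟨T⟩ : Nonempty (Sylow 2 G) := inferInstance
    haveI := hn
    exact PStable.sylow_two_noncomm (p := 3) (G := G) (by norm_num) (K := E)
      (e.toMonoidHom.comp (QuotientGroup.mk' _))
      (e.surjective.comp (QuotientGroup.mk'_surjective _)) T (h3 rfl T)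
  obtain ⟨x, hx, c, hc, n, hn, he⟩ := hfac P g⁻¹
  rw [hO, Subgroup.mem_bot] at hx
  rw [hx, one_mul] at he
  refine ⟨n⁻¹, inv_mem hn, c⁻¹, inv_mem (Subgroup.mem_centralizer_iff.2 fun y hy => ?_), ?_⟩
  · obtain ⟨hyP, hyc, hyp⟩ := hy
    refine Subgroup.mem_centralizer_iff.1 hc y (OmegaOne.mem ⟨hyP, Subgroup.mem_centralizer_iff.2 fun z hz => ?_⟩ hyp)
    exact (hyc z hz).symm
  · rw [← mul_inv_rev, ← he, inv_inv]


end Cfsg.Agent.S0109
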