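import Cfsg.Statements.S0110
import Cfsg.Agent.Lib.Transfer.PGroup

set_option autoImplicit false
set_option linter.style.haveILetI false
open Cfsg

namespace Cfsg.Agent.S0110
open scoped Pointwise commutatorElement
open Cfsg.Agent
open Cfsg.Agent
open scoped commutatorElement

/-- In a p-group G, an extraspecial subgroup E with [G, E] ≤ Z(E) satisfies G = E C_G(E). -/
theorem result {G : Type*} [Group G] [Finite G] {p : ℕ} [Fact p.Prime] (hG : IsPGroup p G) (E : Subgroup G) (hE : Cfsg.IsExtraspecial p E) (h : ⁅(⊤ : Subgroup G), E⁆ ≤ E ⊓ Subgroup.centralizer (E : Set G)) : E ⊔ Subgroup.centralizer (E : Set G) = ⊤ := by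
  classical
  set Z := E ⊓ Subgroup.centralizer (E : Set G) with hZ
  have hpr := (Fact.out : p.Prime)
  have hZcard : Nat.card Z = p := by
    rw [← hE.2]
    refine Nat.card_congr ⟨fun z => ⟨⟨z, z.2.1⟩, Subgroup.mem_center_iff.2 fun e =>
      Subtype.ext (z.2.2 e e.2)⟩, fun z => ⟨z.1, z.1.2, fun e he =>
        congrArg Subtype.val (Subgroup.mem_center_iff.1 z.2 ⟨e, he⟩)⟩, fun z => rfl, fun z => rfl⟩
  have hcommZ : ∀ g : G, ∀ e ∈ E, ⁅g, e⁆ ∈ Z := fun g e he =>
    h (Subgroup.commutator_mem_commutator (Subgroup.mem_top g) he)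
  -- index bound, adding one element at a time
  have key : ∀ T : Set G, T ⊆ (E : Set G) →
      (Subgroup.centralizer ((Z ⊔ Subgroup.closure T : Subgroup G) : Set G)).index * p ≤
        Nat.card ↥(Z ⊔ Subgroup.closure T) := by
    intro T hT
    refine Set.Finite.induction_on_subset (motive := fun T _ =>
      (Subgroup.centralizer ((Z ⊔ Subgroup.closure T : Subgroup G) : Set G)).index * p ≤
        Nat.card ↥(Z ⊔ Subgroup.closure T)) T (Set.toFinite T) ?_ ?_
    · have h0 : Subgroup.centralizer (Z : Set G) = ⊤ := by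
        haveI := hG.isNilpotent
        have hzle : Z ≤ Subgroup.center G := by
          intro z hz
          rw [Subgroup.mem_center_iff]
          by_contra hne
          push Not at hne
          obtain ⟨g, hg⟩ := hne
          -- `Z` is normal of order `p`
          haveI hZn : Z.Normal := ⟨fun w hw u => by
            have h1 := hcommZ u w hw.1
            have h2 := Z.mul_mem h1 hw
            rwa [show ⁅u, w⁆ * w = u * w * u⁻¹ by rw [commutatorElement_def]; group] at h2⟩
          have hnb : Z ≠ ⊥ := fun h => hpr.one_lt.ne' (by rw [← hZcard, h, Subgroup.card_bot])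
          have h3 := SolvStruct.inf_center_ne_bot hnb
          haveI := (Subgroup.nontrivial_iff_ne_bot _).2 h3
          obtain ⟨j, hj0, hj⟩ := (IsPGroup.nontrivial_iff_card
            (hG.to_subgroup (Z ⊓ Subgroup.center G))).1 inferInstance
          have h4 : Z ⊓ Subgroup.center G = Z := Subgroup.eq_of_le_of_card_ge inf_le_left (by
            rw [hZcard, hj]
            exact (pow_one p).ge.trans (Nat.pow_le_pow_right hpr.pos hj0))
          exact hg (Subgroup.mem_center_iff.1 (h4.ge hz).2 g)
        rw [eq_top_iff]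
        exact fun g _ z hz => (Subgroup.mem_center_iff.1 (hzle hz) g).symm
      rw [Subgroup.closure_empty, sup_bot_eq, h0, Subgroup.index_top, one_mul, hZcard]
    · intro x s hxT hsT _ ih
      set D := Z ⊔ Subgroup.closure s with hD
      have hins : Z ⊔ Subgroup.closure (insert x s) = D ⊔ Subgroup.zpowers x := by
        rw [Set.insert_eq, Subgroup.closure_union, ← Subgroup.zpowers_eq_closure, hD]
        ac_rfl
      rw [hins]
      by_cases hxD : x ∈ D
      · rw [sup_eq_left.2 (Subgroup.zpowers_le.2 hxD)]; exact ih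
      have hcx : (Subgroup.centralizer ({x} : Set G)).index ≤ p := by
        let ψ : G ⧸ Subgroup.centralizer ({x} : Set G) → Z := fun q =>
          ⟨⁅Quotient.out q, x⁆, hcommZ _ _ (hT hxT)⟩
        have hψ : Function.Injective ψ := by
          intro q₁ q₂ hq
          have hq' : ⁅Quotient.out q₁, x⁆ = ⁅Quotient.out q₂, x⁆ := congrArg Subtype.val hq
          rw [← Quotient.out_eq q₁, ← Quotient.out_eq q₂]
          refine (QuotientGroup.eq (s := Subgroup.centralizer ({x} : Set G))).2 ?_
          rw [Subgroup.mem_centralizer_singleton_iff]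
          generalize Quotient.out q₁ = g₁ at hq'
          generalize Quotient.out q₂ = g₂ at hq'
          rw [commutatorElement_def, commutatorElement_def, mul_left_inj] at hq'
          calc g₁⁻¹ * g₂ * x = g₁⁻¹ * (g₂ * x * g₂⁻¹) * g₂ := by group
            _ = x * (g₁⁻¹ * g₂) := by rw [← hq']; group
        exact (Nat.card_le_card_of_injective ψ hψ).trans hZcard.le
      have hC : (Subgroup.centralizer ((D ⊔ Subgroup.zpowers x : Subgroup G) : Set G)).index ≤
          (Subgroup.centralizer (D : Set G)).index * p := by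
        have h1 : Subgroup.centralizer (D : Set G) ⊓ Subgroup.centralizer ({x} : Set G) ≤
            Subgroup.centralizer ((D ⊔ Subgroup.zpowers x : Subgroup G) : Set G) := by
          rw [Subgroup.le_centralizer_iff]
          refine sup_le (Subgroup.le_centralizer_iff.1 inf_le_left) (Subgroup.zpowers_le.2 ?_)
          exact fun y hy => Subgroup.mem_centralizer_singleton_iff.1 hy.2
        exact (Nat.le_of_dvd (Nat.pos_of_ne_zero Subgroup.index_ne_zero_of_finite)
          (Subgroup.index_dvd_of_le h1)).trans
          (Subgroup.index_inf_le.trans (Nat.mul_le_mul_left _ hcx))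
      have hcard : p * Nat.card D ≤ Nat.card ↥(D ⊔ Subgroup.zpowers x) := by
        have hlt : D < D ⊔ Subgroup.zpowers x := lt_of_le_of_ne le_sup_left fun h =>
          hxD (h ▸ Subgroup.mem_sup_right (Subgroup.mem_zpowers x))
        have h9 : Nat.card D < Nat.card ↥(D ⊔ Subgroup.zpowers x) :=
          Set.ncard_lt_ncard (SetLike.coe_ssubset_coe.2 hlt) (Set.toFinite _)
        obtain ⟨i, hi⟩ := IsPGroup.iff_card.1 (hG.to_subgroup D)
        obtain ⟨j, hj⟩ := IsPGroup.iff_card.1 (hG.to_subgroup (D ⊔ Subgroup.zpowers x))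
        rw [hi, hj] at h9 ⊢
        have hij := (Nat.pow_lt_pow_iff_right hpr.one_lt).1 h9
        calc p * p ^ i = p ^ (i + 1) := (pow_succ' p i).symm
          _ ≤ p ^ j := Nat.pow_le_pow_right hpr.pos hij
      calc (Subgroup.centralizer ((D ⊔ Subgroup.zpowers x : Subgroup G) : Set G)).index * p
          ≤ (Subgroup.centralizer (D : Set G)).index * p * p := Nat.mul_le_mul_right _ hC
        _ ≤ Nat.card D * p := Nat.mul_le_mul_right _ ih
        _ ≤ _ := by rw [mul_comm]; exact hcard
  have hfin := key (E : Set G) subset_rfl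
  rw [Subgroup.closure_eq, sup_eq_right.2 (inf_le_left : Z ≤ E)] at hfin
  set C := Subgroup.centralizer (E : Set G) with hC
  refine Subgroup.eq_top_of_le_card _ ?_
  have hn : C ≤ Subgroup.normalizer (E : Set G) := Subgroup.centralizer_le_normalizer _
  have h5 := SolvBasic.card_sup_mul_card_inf hn
  refine Nat.le_of_mul_le_mul_right (?_ : Nat.card G * p ≤ _ * p) hpr.pos
  rw [← hZcard, h5, ← C.card_mul_index, hZcard, mul_assoc, mul_comm (Nat.card E)]
  exact Nat.mul_le_mul_left _ hfin


end Cfsg.Agent.S0110
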