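import Cfsg.Statements.S0112
import Cfsg.Agent.S4143

set_option autoImplicit false
set_option linter.style.haveILetI false
open Cfsg

namespace Cfsg.Agent.S0112
open scoped Pointwise commutatorElement
open Cfsg.Agent

/-- A p-group with a self-centralizing subgroup of order p^2 is of maximal class. -/
theorem result {X : Type*} [Group X] [Finite X] {p : ℕ} [Fact p.Prime] (n : ℕ) (hX : Nat.card X = p ^ n) (A : Subgroup X) (hA : Nat.card A = p ^ 2) (hC : Subgroup.centralizer (A : Set X) = A) : Group.nilpotencyClass X = n - 1 := by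
  have hp : p.Prime := Fact.out
  have hG : IsPGroup p X := IsPGroup.of_card hX
  set Z := Subgroup.center X with hZ
  have hZA : Z ≤ A := hC ▸ Subgroup.center_le_centralizer _
  by_cases hAZ : A ≤ Z
  · have htop : A = ⊤ := by
      rw [← hC, Subgroup.centralizer_eq_top_iff_subset]
      exact hAZ
    rw [htop, Subgroup.card_top, hX] at hA
    obtain rfl := Nat.pow_right_injective hp.two_le hA
    haveI : Nontrivial X :=
      Finite.one_lt_card_iff_nontrivial.1 (by rw [hX]; exact Nat.one_lt_pow two_ne_zero hp.one_lt)
    haveI := hG.isNilpotent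
    have h1 : Group.nilpotencyClass X ≤ 1 := by
      rw [Group.IsNilpotent.nilpotencyClass_le_one_iff]
      exact IsPGroup.isMulCommutative_of_card_eq_prime_sq hX
    have h2 : Group.nilpotencyClass X ≠ 0 := fun h =>
      not_subsingleton X (Group.nilpotencyClass_zero_iff_subsingleton.1 h)
    omega
  · obtain ⟨x, hxA, hxZ⟩ := SetLike.not_le_iff_exists.1 hAZ
    haveI : Nontrivial X := ⟨⟨x, 1, fun h => hxZ (h ▸ Z.one_mem)⟩⟩
    refine S4143Aux.class_of_centralizer n X hX x ?_
    have hZ1 : p ≤ Nat.card Z := by
      obtain ⟨k, hk⟩ := IsPGroup.iff_card.1 (hG.to_subgroup Z)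
      rw [hk]
      refine Nat.le_self_pow (fun h => hG.bot_lt_center.ne' (Subgroup.card_eq_one.1 ?_)) p
      rw [← hZ, hk, h, pow_zero]
    set D := Z ⊔ Subgroup.zpowers x with hD
    have hDA : D ≤ A := sup_le hZA (Subgroup.zpowers_le.2 hxA)
    have hDeq : D = A := by
      refine Subgroup.eq_of_le_of_card_ge hDA ?_
      have hlt : Nat.card Z < Nat.card D := by
        refine Set.ncard_lt_ncard (SetLike.coe_ssubset_coe.2 (lt_of_le_of_ne le_sup_left ?_)) (Set.toFinite _)
        exact fun h => hxZ (h ▸ Subgroup.mem_sup_right (Subgroup.mem_zpowers x))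
      have hdvd := Subgroup.card_dvd_of_le hDA
      rw [hA] at hdvd ⊢
      obtain ⟨i, hi, hDi⟩ := (Nat.dvd_prime_pow hp).1 hdvd
      rw [hDi] at hlt ⊢
      refine Nat.pow_le_pow_right hp.pos ?_
      by_contra h2
      have : p ^ i ≤ p ^ 1 := Nat.pow_le_pow_right hp.pos (by omega)
      rw [pow_one] at this
      omega
    have hCx : Subgroup.centralizer ({x} : Set X) = A := by
      refine le_antisymm (fun g hg => ?_) (fun g hg => ?_)
      · rw [← hC, ← hDeq]
        rw [Subgroup.mem_centralizer_singleton_iff] at hg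
        have h1 : D ≤ Subgroup.centralizer ({g} : Set X) := by
          refine sup_le (Subgroup.center_le_centralizer _) (Subgroup.zpowers_le.2 ?_)
          rw [Subgroup.mem_centralizer_singleton_iff]; exact hg.symm
        exact fun d hd => Subgroup.mem_centralizer_singleton_iff.1 (h1 hd)
      · rw [Subgroup.mem_centralizer_singleton_iff]
        rw [← hC] at hg
        exact (hg x hxA).symm
    rw [hCx, hA]


end Cfsg.Agent.S0112
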