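import Cfsg.Statements.S0118
import Cfsg.Agent.Lib.PStable.FusionControl

set_option autoImplicit false
set_option linter.style.haveILetI false
open Cfsg

namespace Cfsg.Agent.S0118
open scoped Pointwise commutatorElement
open Cfsg.Agent

/-- Glauberman's ZJ-Theorem, in the case of groups with no section isomorphic to SL(2,p), p odd: conjugation of subsets of a Sylow p-subgroup P inside P is always induced from the normalizer of Z(J(P)). -/
theorem result {G : Type*} [Group G] [Finite G] {p : ℕ} [Fact p.Prime] (hp : p ≠ 2) (hfree : ¬ ∃ (H K : Subgroup G) (hK : (K.subgroupOf H).Normal), Nonempty ((H ⧸ K.subgroupOf H) ≃* Matrix.SpecialLinearGroup (Fin 2) (ZMod p))) (P : Sylow p G) (A : Set G) (hA : A ⊆ (P : Set G)) (g : G) (hAg : (fun a => g⁻¹ * a * g) '' A ⊆ (P : Set G)) : ∃ n ∈ Subgroup.normalizer (Cfsg.centerThompsonOf p (P : Subgroup G) : Set G), ∀ a ∈ A, n⁻¹ * a * n = g⁻¹ * a * g := by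
  have hsl : ¬ Cfsg.Involves (Matrix.SpecialLinearGroup (Fin 2) (ZMod p)) G := by
    rintro ⟨K, R, hR, e⟩
    exact hfree ⟨K, R, hR, e⟩
  obtain ⟨n, hn, hna⟩ := PStable.exists_mem_normalizer_zJ (e := True) hp
    (fun Y _ _ hY _ => PStable.isQuad_of_not_involves_sl2 hp (PStable.not_involves_section hsl hY))
    P (A := A) (g := g⁻¹) hA (by simpa using hAg)
  rw [← ZJ.centerThompsonOf_eq] at hn
  exact ⟨n⁻¹, inv_mem hn, fun a ha => by simpa using hna a ha⟩


end Cfsg.Agent.S0118
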