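import Cfsg.Statements.S0119
import Cfsg.Agent.Lib.Transfer.PGroup
import Cfsg.Agent.Lib.LocalEven.Frattini
import Cfsg.Agent.Lib.Solvable.Structure
import Mathlib

set_option autoImplicit false
set_option linter.style.haveILetI false
open Cfsg

namespace Cfsg.Agent.S0119
open scoped Pointwise commutatorElement
open Cfsg.Agent

/-- If a p'-group A of automorphisms of a p-group G satisfies G = [G, A] and acts trivially on every characteristic abelian subgroup, then G is special with centre equal to the fixed points of A. -/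
theorem result {G : Type*} [Group G] [Finite G] {p : ℕ} [Fact p.Prime] (hG : IsPGroup p G) (A : Subgroup (MulAut G)) (hA : Nat.Coprime (Nat.card A) p) (hGA : Subgroup.closure {x : G | ∃ g : G, ∃ a ∈ A, x = g⁻¹ * a g} = ⊤) (hchar : ∀ H : Subgroup G, H.Characteristic → IsMulCommutative H → ∀ a ∈ A, ∀ h ∈ H, a h = h) : Cfsg.IsSpecial p G ∧ (∀ g : G, (g ∈ Subgroup.center G ↔ ∀ a ∈ A, a g = g)) := by
  classical
  have hp' : p.Prime := Fact.out
  haveI := hG.isNilpotent
  -- characteristic abelian subgroups are central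
  have hcent : ∀ H : Subgroup G, H.Characteristic → IsMulCommutative H → H ≤ Subgroup.center G := by
    intro H hH hHa h hh
    haveI := hH
    have hle : (⊤ : Subgroup G) ≤ Subgroup.centralizer ({h} : Set G) := by
      rw [← hGA, Subgroup.closure_le]
      rintro _ ⟨g, a, ha, rfl⟩
      rw [SetLike.mem_coe, Subgroup.mem_centralizer_singleton_iff]
      have hcm : h * g * h⁻¹ * g⁻¹ ∈ H := by
        rw [show h * g * h⁻¹ * g⁻¹ = h * (g * h⁻¹ * g⁻¹) by group]
        exact mul_mem hh ((inferInstance : H.Normal).conj_mem _ (inv_mem hh) g)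
      have h1 := hchar H hH hHa a ha _ hcm
      rw [map_mul, map_mul, map_mul, map_inv, map_inv, hchar H hH hHa a ha h hh] at h1
      have h2 : a g * h⁻¹ * (a g)⁻¹ = g * h⁻¹ * g⁻¹ := mul_left_cancel (a := h) (by
        simpa [mul_assoc] using h1)
      calc g⁻¹ * a g * h = g⁻¹ * ((a g * h⁻¹ * (a g)⁻¹)⁻¹ * a g) := by group
        _ = g⁻¹ * ((g * h⁻¹ * g⁻¹)⁻¹ * a g) := by rw [h2]
        _ = h * (g⁻¹ * a g) := by group
    rw [Subgroup.mem_center_iff]
    exact fun g => Subgroup.mem_centralizer_singleton_iff.1 (hle (Subgroup.mem_top g))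
  set Z := Subgroup.center G with hZ
  have hZfix : ∀ z ∈ Z, ∀ a ∈ A, a z = z := fun z hz a ha =>
    hchar Z inferInstance ⟨⟨fun u v => Subtype.ext ((Subgroup.mem_center_iff.1 u.2 v).symm)⟩⟩ a ha z hz
  -- class two
  have hcl : commutator G ≤ Z := by
    by_contra hne
    set U := Subgroup.upperCentralSeries G 2 with hU
    have hU1 : ∀ z ∈ U, ∀ y : G, ⁅z, y⁆ ∈ Z := by
      intro z hz y
      have := Subgroup.mem_upperCentralSeries_succ_iff.1 hz y
      rw [Subgroup.upperCentralSeries_one] at this
      rw [commutatorElement_def]; exact this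
    have hUD : ∀ z ∈ U, ∀ c ∈ commutator G, z * c = c * z := by
      intro z hz
      let φ : G →* Z := MonoidHom.mk' (fun y => ⟨⁅z, y⁆, hU1 z hz y⟩) fun y w => Subtype.ext (by
        change ⁅z, y * w⁆ = ⁅z, y⁆ * ⁅z, w⁆
        have hc := Subgroup.mem_center_iff.1 (hU1 z hz w) y
        rw [show ⁅z, y * w⁆ = ⁅z, y⁆ * (y * ⁅z, w⁆ * y⁻¹) by simp only [commutatorElement_def]; group,
          hc, mul_inv_cancel_right])
      have hk : commutator G ≤ φ.ker := by
        rw [commutator_def, Subgroup.commutator_le]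
        intro x _ y _
        rw [MonoidHom.mem_ker, map_commutatorElement, commutatorElement_eq_one_iff_mul_comm]
        exact Subtype.ext (Subgroup.mem_center_iff.1 (φ y).2 _)
      intro c hc
      exact commutatorElement_eq_one_iff_mul_comm.1 (congrArg Subtype.val (hk hc))
    have hH : commutator G ⊓ U ≤ Z := by
      refine hcent _ ?_ ⟨⟨fun u v => Subtype.ext (hUD u u.2.2 v v.2.1)⟩⟩
      rw [Subgroup.characteristic_iff_map_eq]
      intro φ
      rw [Subgroup.map_inf_eq _ _ φ.toMonoidHom φ.injective,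
        Subgroup.characteristic_iff_map_eq.1 (inferInstance : (commutator G).Characteristic) φ,
        Subgroup.characteristic_iff_map_eq.1 (inferInstance : U.Characteristic) φ]
    set f := QuotientGroup.mk' Z with hf
    haveI : ((commutator G).map f).Normal :=
      Subgroup.Normal.map inferInstance _ (QuotientGroup.mk'_surjective Z)
    have hnb : (commutator G).map f ≠ ⊥ := fun h => hne (by
      rwa [Subgroup.map_eq_bot_iff, hf, QuotientGroup.ker_mk'] at h)
    haveI : Group.IsNilpotent (G ⧸ Z) := inferInstance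
    refine SolvStruct.inf_center_ne_bot hnb ((Subgroup.eq_bot_iff_forall _).2 ?_)
    rintro _ ⟨⟨c, hc, rfl⟩, hcc⟩
    refine (QuotientGroup.eq_one_iff c).2 (hH ⟨hc, Subgroup.mem_upperCentralSeries_succ_iff.2 fun y => ?_⟩)
    rw [Subgroup.upperCentralSeries_one, ← QuotientGroup.eq_one_iff]
    change f (c * y * c⁻¹ * y⁻¹) = 1
    rw [map_mul, map_mul, map_mul, map_inv, map_inv, ← Subgroup.mem_center_iff.1 hcc (f y)]
    group
  have hcomm : ∀ a b : G, ⁅a, b⁆ ∈ Z := fun a b =>
    hcl (Subgroup.commutator_mem_commutator (Subgroup.mem_top a) (Subgroup.mem_top b))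
  have hpow : ∀ (x y : G) (n : ℕ), ⁅x, y ^ n⁆ = ⁅x, y⁆ ^ n := fun x y n =>
    PGroupBasics.commutator_pow (Subgroup.mem_center_iff.1 (hcomm x y) y).symm n
  have hpow' : ∀ (x y : G) (n : ℕ), ⁅x ^ n, y⁆ = ⁅x, y⁆ ^ n := fun x y n => by
    rw [← inv_inj, commutatorElement_inv, ← inv_pow, commutatorElement_inv, hpow]
  -- `G / Z` has exponent `p`
  have hexp : ∀ x : G, x ^ p ∈ Z := by
    have hex : ∃ e, ∀ x : G, x ^ p ^ e ∈ Z := by
      obtain ⟨e, he⟩ := IsPGroup.iff_card.1 hG
      exact ⟨e, fun x => by rw [← he, pow_card_eq_one']; exact one_mem _⟩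
    have hspec := Nat.find_spec hex
    by_cases he : Nat.find hex ≤ 1
    · intro x
      rcases (by omega : Nat.find hex = 0 ∨ Nat.find hex = 1) with h | h <;> rw [h] at hspec
      · have := hspec x
        rw [pow_zero, pow_one] at this
        exact pow_mem this p
      · simpa using hspec x
    exfalso
    obtain ⟨d, hd⟩ : ∃ d, Nat.find hex = d + 2 := ⟨Nat.find hex - 2, by omega⟩
    rw [hd] at hspec
    set q := p ^ (d + 1) with hq
    set S : Set G := {y | ∃ x : G, y = x ^ q} ∪ (Z : Set G) with hS
    set M := Subgroup.closure S with hM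
    have hMa : IsMulCommutative M := by
      refine Subgroup.isMulCommutative_closure ?_
      rintro u (⟨x, rfl⟩ | hu) v (⟨y, rfl⟩ | hv)
      · rw [← commutatorElement_eq_one_iff_mul_comm, hpow', hpow, ← pow_mul, hq, ← pow_add,
          show d + 1 + (d + 1) = d + 2 + d by omega, pow_add, pow_mul,
          ← hpow x y (p ^ (d + 2)),
          commutatorElement_eq_one_iff_mul_comm.2 (Subgroup.mem_center_iff.1 (hspec y) x), one_pow]
      · exact Subgroup.mem_center_iff.1 hv _
      · exact (Subgroup.mem_center_iff.1 hu _).symm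
      · exact Subgroup.mem_center_iff.1 hv _
    have hMc : M.Characteristic := by
      rw [Subgroup.characteristic_iff_map_le]
      intro φ
      rw [hM, MonoidHom.map_closure, Subgroup.closure_le]
      rintro _ ⟨u, hu, rfl⟩
      refine Subgroup.subset_closure ?_
      rcases hu with ⟨x, rfl⟩ | hu
      · exact Or.inl ⟨φ x, map_pow φ x q⟩
      · exact Or.inr (Subgroup.characteristic_iff_map_le.1 (inferInstance : Z.Characteristic) φ ⟨u, hu, rfl⟩)
    exact Nat.find_min hex (show d + 1 < Nat.find hex by omega) fun x =>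
      hcent M hMc hMa (Subgroup.subset_closure (Or.inl ⟨x, rfl⟩))
  -- fixed points lie in the derived subgroup
  haveI := Fintype.ofFinite A
  let N : G →* G ⧸ commutator G :=
    letI := (inferInstance : CommGroup (Abelianization G))
    { toFun := fun x => ((∏ a : A, Abelianization.of ((a : MulAut G) x) : Abelianization G) : Abelianization G)
      map_one' := by simp; rfl
      map_mul' := fun x y => by simp [Finset.prod_mul_distrib]; rfl }
  have hN1 : ∀ x, N x = 1 := by
    intro x
    have hle : (⊤ : Subgroup G) ≤ N.ker := by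
      rw [← hGA, Subgroup.closure_le]
      rintro _ ⟨g, a, ha, rfl⟩
      rw [SetLike.mem_coe, MonoidHom.mem_ker, map_mul, map_inv, inv_mul_eq_one]
      change (∏ b : A, Abelianization.of ((b : MulAut G) g) : Abelianization G) =
        ∏ b : A, Abelianization.of ((b : MulAut G) (a g))
      exact (Equiv.prod_comp (Equiv.mulRight (⟨a, ha⟩ : A)) fun b => Abelianization.of ((b : MulAut G) g)).symm
    exact hle (Subgroup.mem_top x)
  have hfix : ∀ g : G, (∀ a ∈ A, a g = g) → g ∈ commutator G := by
    intro g hg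
    have h1 := hN1 g
    change (∏ b : A, Abelianization.of ((b : MulAut G) g) : Abelianization G) = 1 at h1
    rw [Finset.prod_congr rfl (fun b _ => by rw [hg b b.2]), Finset.prod_const, Finset.card_univ,
      ← Nat.card_eq_fintype_card] at h1
    obtain ⟨e, he⟩ := IsPGroup.iff_orderOf.1 hG g
    have h2 : orderOf (Abelianization.of g) ∣ p ^ e := he ▸ orderOf_map_dvd _ g
    have h3 := Nat.dvd_gcd (orderOf_dvd_of_pow_eq_one h1) h2
    rw [(hA.pow_right e).gcd_eq_one, Nat.dvd_one, orderOf_eq_one_iff] at h3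
    exact (QuotientGroup.eq_one_iff g).1 h3
  have hZc : commutator G = Z := le_antisymm hcl fun z hz => hfix z (hZfix z hz)
  refine ⟨⟨hG, le_antisymm ?_ ?_, hZc⟩, fun g => ⟨fun hg => hZfix g hg, fun hg => hcl (hfix g hg)⟩⟩
  · exact LEFrattini.frattini_le hcomm hexp
  · change Z ≤ frattini G
    rw [← hZc]
    rw [frattini, Order.radical]
    refine le_iInf₂ fun M hM => ?_
    obtain ⟨hn, hidx⟩ := PGroupBasics.index_of_isCoatom hG hM
    haveI := hn
    haveI : IsCyclic (G ⧸ M) := isCyclic_of_prime_card (p := p) (by rw [← Subgroup.index_eq_card, hidx])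
    letI := IsCyclic.commGroup (α := G ⧸ M)
    exact (Abelianization.commutator_subset_ker (QuotientGroup.mk' M)).trans_eq (QuotientGroup.ker_mk' M)


end Cfsg.Agent.S0119
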