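import Cfsg.Statements.S0125
import Cfsg.Agent.Lib.Transfer.Fusion

set_option autoImplicit false
set_option linter.style.haveILetI false
open Cfsg

namespace Cfsg.Agent.S0125
open scoped Pointwise commutatorElement
open Cfsg.Agent

/-- The centralizer of a self-centralizing normal subgroup A of a Sylow p-subgroup is the direct product of A with a normal p'-subgroup. -/
theorem result {G : Type*} [Group G] [Finite G] {p : ℕ} [Fact p.Prime] (R : Sylow p G) (A : Subgroup G) (hAR : A ≤ (R : Subgroup G)) (hAn : (R : Subgroup G) ≤ Subgroup.normalizer (A : Set G)) (hC : (R : Subgroup G) ⊓ Subgroup.centralizer (A : Set G) = A) : ∃ H : Subgroup G, H ≤ Subgroup.centralizer (A : Set G) ∧ Nat.Coprime (Nat.card H) p ∧ Subgroup.centralizer (A : Set G) ≤ Subgroup.normalizer (H : Set G) ∧ H ⊓ A = ⊥ ∧ H ⊔ A = Subgroup.centralizer (A : Set G) := by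
  have hCR := hC
  clear hC
  set N := Subgroup.normalizer (A : Set G) with hN
  set C := Subgroup.centralizer (A : Set G) with hC
  have hAC : A ≤ C := (hCR.ge.trans inf_le_right)
  have hCN : C ≤ N := Subgroup.centralizer_le_normalizer _
  haveI : (C.subgroupOf N).Normal := Subgroup.normal_subgroupOf_centralizer_normalizer _
  obtain ⟨S, hS⟩ := PBasic.exists_sylow_subgroupOf (R.subtype hAn : Sylow p N) (C.subgroupOf N)
  have hSA : ∀ x : C.subgroupOf N, x ∈ (S : Subgroup (C.subgroupOf N)) → ((x : N) : G) ∈ A := by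
    intro x hx
    rw [hS] at hx
    rw [← hCR]
    exact ⟨hx, x.2⟩
  have hnpc : Cfsg.HasNormalPComplement p (C.subgroupOf N) :=
    Fusion.hasNormalPComplement_of_normalizer_le_centralizer S fun y _ x hx => by
      apply Subtype.ext; apply Subtype.ext
      exact (show ((y : N) : G) ∈ C from y.2) _ (hSA x hx)
  have hnpcC : Cfsg.HasNormalPComplement p C :=
    (PBasic.hasNormalPComplement_congr (Subgroup.subgroupOfEquivOfLe hCN)).1 hnpc
  set W := Cfsg.pResidual p C with hW
  have hWc : (Nat.card W).Coprime p := PBasic.hasNormalPComplement_iff_pResidual.1 hnpcC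
  refine ⟨W.map C.subtype, Subgroup.map_subtype_le W, ?_, ?_, ?_, ?_⟩
  · exact Nat.Coprime.coprime_dvd_left (Subgroup.card_map_dvd _ _) hWc
  · intro c hc
    rw [Subgroup.mem_normalizer_iff_map_conj_eq]
    refine Subgroup.eq_of_le_of_card_ge ?_ (le_of_eq (Subgroup.card_map_of_injective (MulAut.conj c).injective).symm)
    rintro _ ⟨_, ⟨w, hw, rfl⟩, rfl⟩
    exact ⟨⟨c, hc⟩ * w * ⟨c, hc⟩⁻¹, (PBasic.pResidual_normal_inst p C).conj_mem w hw _, rfl⟩
  · exact PBasic.inf_eq_bot_of_coprime (Nat.Coprime.coprime_dvd_left (Subgroup.card_map_dvd _ _) hWc)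
      (R.isPGroup'.to_le hAR)
  · refine le_antisymm (sup_le (Subgroup.map_subtype_le W) hAC) fun c hc => ?_
    obtain ⟨u, v, huv, hu, hv, ⟨k, hk⟩, hvc⟩ := PBasic.exists_pPart_mul (p := p) (⟨c, hc⟩ : C)
    have huA : (u : G) ∈ A := by
      let x : C.subgroupOf N := (Subgroup.subgroupOfEquivOfLe hCN).symm u
      have hxo : orderOf x = p ^ k := by rw [← hk]; exact MulEquiv.orderOf_eq _ u
      obtain ⟨T, hT⟩ := (IsPGroup.of_card (G := Subgroup.zpowers x) (n := k) (p := p)
        (by rw [Nat.card_zpowers, hxo])).exists_le_sylow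
      obtain ⟨y, rfl⟩ := MulAction.exists_smul_eq (C.subgroupOf N) S T
      have h1 := hT (Subgroup.mem_zpowers x)
      rw [Sylow.coe_subgroup_smul, Subgroup.mem_pointwise_smul_iff_inv_smul_mem, ← map_inv] at h1
      have h2 := hSA _ h1
      have h3 : ((y : N) : G) ∈ C := y.2
      have e : ((x : N) : G) = (u : G) := rfl
      set a := ((y : N) : G)⁻¹ * ((x : N) : G) * (((y : N) : G)⁻¹)⁻¹ with ha
      have h4 : a ∈ A := h2
      have h5 : a * ((y : N) : G) = ((y : N) : G) * a := h3 a h4
      have h6 : ((x : N) : G) = a := by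
        have : ((x : N) : G) = ((y : N) : G) * a * ((y : N) : G)⁻¹ := by rw [ha]; group
        rw [this, ← h5, mul_inv_cancel_right]
      rw [← e, h6]; exact h4
    have h7 : c = (u : G) * (v : G) := (congrArg Subtype.val huv).symm
    rw [h7]
    exact Subgroup.mul_mem _ (Subgroup.mem_sup_right huA)
      (Subgroup.mem_sup_left (Subgroup.mem_map_of_mem C.subtype (PBasic.mem_pResidual hvc)))


end Cfsg.Agent.S0125
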