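import Cfsg.Statements.S0127
import Cfsg.Agent.S0636
import Cfsg.Agent.Lib.Transfer.PGroup

set_option autoImplicit false
set_option linter.style.haveILetI false
open Cfsg

namespace Cfsg.Agent.S0127
open scoped Pointwise commutatorElement
open Cfsg.Agent
open Cfsg.Agent
open scoped commutatorElement

/-- For odd p, in a non-cyclic p-group with a cyclic subgroup of index p, the elements of order dividing p generate an elementary abelian subgroup of order p^2. -/
theorem result {R : Type*} [Group R] [Finite R] {p : ℕ} [Fact p.Prime] (hp : p ≠ 2) (hR : IsPGroup p R) (hnc : ¬ IsCyclic R) (C : Subgroup R) (hC : IsCyclic C) (hCi : C.index = p) : Cfsg.IsElementaryAbelian p (Subgroup.closure {x : R | x ^ p = 1}) ∧ Nat.card (Subgroup.closure {x : R | x ^ p = 1}) = p ^ 2 := by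
  have hS : ¬ IsCyclic (⊤ : Subgroup R) := fun h => hnc
    (isCyclic_of_surjective (Subgroup.topEquiv : (⊤ : Subgroup R) ≃* R).toMonoidHom
      (MulEquiv.surjective _))
  obtain ⟨A, -, hAn, hAe, hAc⟩ := Cfsg.Agent.S0636.result hp hR ⊤ hS
  haveI := hAn
  haveI := hC
  have hpr := (Fact.out : p.Prime)
  suffices hmem : ∀ x : R, x ^ p = 1 → x ∈ A by
    have heq : Subgroup.closure {x : R | x ^ p = 1} = A :=
      le_antisymm ((Subgroup.closure_le _).2 hmem) fun a ha => Subgroup.subset_closure (hAe.2 a ha)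
    rw [heq]
    exact ⟨hAe, hAc⟩
  intro x hx
  haveI : C.Normal := by
    haveI := hR.isNilpotent
    refine TransferHall.normal_of_isCoatom ⟨fun h => ?_, fun D hD => ?_⟩
    · rw [h, Subgroup.index_top] at hCi
      exact hpr.one_lt.ne hCi
    · have h1 : D.index ∣ p := hCi ▸ Subgroup.index_dvd_of_le hD.le
      rcases (Nat.dvd_prime hpr).1 h1 with h2 | h2
      · exact Subgroup.index_eq_one.1 h2
      · exfalso
        exact (Subgroup.index_strictAnti hD).ne (h2.trans hCi.symm)
  have hAC : ¬ A ≤ C := by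
    intro hle
    have h1 : IsCyclic A := isCyclic_of_injective (Subgroup.inclusion hle) (Subgroup.inclusion_injective hle)
    obtain ⟨⟨g, hg⟩, hgen⟩ := IsCyclic.exists_generator (α := A)
    have h2 : Nat.card A ≤ p := by
      have h3 : Subgroup.zpowers (⟨g, hg⟩ : A) = ⊤ := eq_top_iff.2 fun y _ => hgen y
      rw [← Subgroup.card_top, ← h3, Nat.card_zpowers, Subgroup.orderOf_mk]
      exact Nat.le_of_dvd hpr.pos (orderOf_dvd_of_pow_eq_one (hAe.2 g hg))
    rw [hAc] at h2
    have := hpr.two_le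
    nlinarith
  have htop : C ⊔ A = ⊤ := by
    rw [← Subgroup.index_eq_one]
    rcases (Nat.dvd_prime hpr).1 (hCi ▸ Subgroup.index_dvd_of_le (le_sup_left : C ≤ C ⊔ A)) with h2 | h2
    · exact h2
    · exfalso
      exact (Subgroup.index_strictAnti (lt_of_le_of_ne le_sup_left fun h =>
        hAC (le_sup_right.trans h.ge))).ne (h2.trans hCi.symm)
  have hxm : x ∈ C ⊔ A := htop ▸ Subgroup.mem_top x
  rw [← SetLike.mem_coe, Subgroup.mul_normal] at hxm
  obtain ⟨c, hc, a, ha, rfl⟩ := Set.mem_mul.1 hxm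
  suffices hca : c ∈ A from A.mul_mem hca ha
  have hcp : c ^ p ∈ A := by
    have h1 : QuotientGroup.mk' A (c * a) = QuotientGroup.mk' A c := by
      rw [map_mul, QuotientGroup.mk'_apply, QuotientGroup.mk'_apply, (QuotientGroup.eq_one_iff a).2 ha, mul_one]
    rw [← QuotientGroup.eq_one_iff (N := A), QuotientGroup.mk_pow,
      show (c : R ⧸ A) = QuotientGroup.mk' A (c * a) from h1.symm, ← map_pow, hx, map_one]
  have hZ : A ⊓ C ≤ Subgroup.center R := by
    intro z hz
    by_cases hzb : A ⊓ C = ⊥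
    · rw [hzb, Subgroup.mem_bot] at hz
      rw [hz]; exact one_mem _
    haveI := hR.isNilpotent
    have h2 := SolvStruct.inf_center_ne_bot hzb
    have h3 : (A ⊓ C ⊓ Subgroup.center R) = A ⊓ C := by
      refine Subgroup.eq_of_le_of_card_ge inf_le_left ?_
      have h4 : Nat.card (A ⊓ C : Subgroup R) ≤ p := by
        obtain ⟨i, hi, hi'⟩ := (Nat.dvd_prime_pow hpr).1 (hAc ▸ Subgroup.card_dvd_of_le
          (inf_le_left : A ⊓ C ≤ A))
        rw [hi']
        rcases (show i ≤ 1 ∨ i = 2 by omega) with h5 | h5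
        · exact (Nat.pow_le_pow_right hpr.pos h5).trans_eq (pow_one p)
        · exfalso
          rw [h5] at hi'
          exact hAC ((Subgroup.eq_of_le_of_card_ge inf_le_left (hAc.trans hi'.symm).le).ge.trans inf_le_right)
      refine h4.trans ?_
      haveI := (Subgroup.nontrivial_iff_ne_bot _).2 h2
      obtain ⟨j, hj0, hj⟩ := (IsPGroup.nontrivial_iff_card (hR.to_subgroup
        (A ⊓ C ⊓ Subgroup.center R))).1 inferInstance
      rw [hj]
      exact (pow_one p).ge.trans (Nat.pow_le_pow_right hpr.pos hj0)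
    exact (h3.ge hz).2
  have hcen : ⁅a, c⁆ ∈ Subgroup.center R := hZ ⟨by
    rw [commutatorElement_def, mul_assoc, mul_assoc, ← mul_assoc c]
    exact A.mul_mem ha (hAn.conj_mem _ (A.inv_mem ha) c), by
    rw [commutatorElement_def]
    exact C.mul_mem (Subgroup.Normal.conj_mem ‹_› c hc a) (C.inv_mem hc)⟩
  -- class two computation
  have hw : ∀ u, Commute (⁅a⁻¹, c⁻¹⁆) u := by
    intro u
    have h5 : ⁅a⁻¹, c⁻¹⁆ ∈ Subgroup.center R := hZ ⟨by
      rw [commutatorElement_def, mul_assoc, mul_assoc, ← mul_assoc c⁻¹]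
      exact A.mul_mem (A.inv_mem ha) (hAn.conj_mem _ (A.inv_mem (A.inv_mem ha)) c⁻¹), by
      rw [commutatorElement_def]
      exact C.mul_mem (Subgroup.Normal.conj_mem ‹_› c⁻¹ (C.inv_mem hc) a⁻¹) (C.inv_mem (C.inv_mem hc))⟩
    exact (Subgroup.mem_center_iff.1 h5 u).symm
  have hba : a * c = c * a * ⁅a⁻¹, c⁻¹⁆ := by rw [commutatorElement_def]; group
  have h6 := LEOmega.pow_mul_swap hba (hw a) p
  rw [hAe.2 a ha, one_mul, mul_one, eq_comm, mul_eq_left] at h6
  have h7 := LEOmega.mul_pow_class_two hba (hw c) (hw a) p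
  obtain ⟨d, hd⟩ := hpr.dvd_choose_self two_ne_zero (lt_of_le_of_ne hpr.two_le (Ne.symm hp))
  rw [hd, pow_mul, h6, one_pow, mul_one, hx, hAe.2 a ha, mul_one] at h7
  by_contra hcA
  -- the elements of order `p` of the cyclic group `C` lie in `A`
  obtain ⟨y, hy⟩ := exists_prime_orderOf_dvd_card' (G := ↥(A ⊓ C : Subgroup R)) p (by
    have h8 := SolvBasic.card_sup_mul_card_inf (N := A) (H := C)
      (le_top.trans (Subgroup.normalizer_eq_top_iff.2 hAn).ge)
    rw [sup_comm, htop, Subgroup.card_top, ← C.card_mul_index, hCi, hAc] at h8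
    refine ⟨1, ?_⟩
    refine Nat.eq_of_mul_eq_mul_left (Nat.mul_pos (Nat.card_pos (α := C)) hpr.pos) ?_
    rw [h8]; ring)
  have hcord : orderOf c = p := orderOf_eq_prime h7.symm fun h => hcA (h ▸ A.one_mem)
  have hyC : (y : R) ∈ C := y.2.2
  have h10 : (⟨c, hc⟩ : C) ∈ Subgroup.zpowers (⟨(y : R), hyC⟩ : C) := by
    haveI := Fintype.ofFinite C
    have hsub : (Subgroup.zpowers (⟨(y : R), hyC⟩ : C) : Set C) ⊆ {t : C | t ^ p = 1} := by
      rintro _ ⟨i, rfl⟩
      have hy1 : (⟨(y : R), hyC⟩ : C) ^ p = 1 := by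
        rw [← orderOf_dvd_iff_pow_eq_one, Subgroup.orderOf_mk, Subgroup.orderOf_coe, hy]
      rw [Set.mem_setOf_eq]
      simp only
      rw [← zpow_natCast, ← zpow_mul, mul_comm, zpow_mul, zpow_natCast, hy1, one_zpow]
    have hcard : {t : C | t ^ p = 1}.ncard ≤ (Subgroup.zpowers (⟨(y : R), hyC⟩ : C) : Set C).ncard := by
      have hz : (Subgroup.zpowers (⟨(y : R), hyC⟩ : C) : Set C).ncard = p := by
        rw [← Nat.card_coe_set_eq, SetLike.coe_sort_coe, Nat.card_zpowers, Subgroup.orderOf_mk,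
          Subgroup.orderOf_coe, hy]
      rw [hz]
      classical
      refine le_trans (le_of_eq ?_) (IsCyclic.card_pow_eq_one_le (α := C) hpr.pos)
      rw [Set.ncard_eq_toFinset_card', Set.toFinset_setOf]
    have heq := Set.eq_of_subset_of_ncard_le hsub hcard (Set.toFinite _)
    have hmem : (⟨c, hc⟩ : C) ∈ {t : C | t ^ p = 1} := Subtype.ext h7.symm
    rw [← heq] at hmem
    exact hmem
  obtain ⟨k, hk⟩ := Subgroup.mem_zpowers_iff.1 h10
  have h11 : (y : R) ^ k = c := congrArg Subtype.val hk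
  exact hcA (h11 ▸ A.zpow_mem y.2.1 k)

end Cfsg.Agent.S0127
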