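import Cfsg.Statements.S0129
import Cfsg.Agent.Lib.Transfer.PGroup

set_option autoImplicit false
set_option linter.style.haveILetI false
open Cfsg

namespace Cfsg.Agent.S0129
open scoped Pointwise commutatorElement
open Cfsg.Agent
open Cfsg.Agent
open scoped commutatorElement

/-- The order of a p-group is bounded by p^(a(a+1)/2) when it has a maximal normal abelian subgroup of order p^a. -/
theorem result {G : Type*} [Group G] [Finite G] {p : ℕ} [Fact p.Prime] (hG : IsPGroup p G) (A : Subgroup G) [A.Normal] (hA : IsMulCommutative A) (hmax : ∀ B : Subgroup G, B.Normal → IsMulCommutative B → A ≤ B → B = A) (a : ℕ) (ha : Nat.card A = p ^ a) : Nat.card G ≤ p ^ (a * (a + 1) / 2) := by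
  classical
  haveI := hG.isNilpotent
  have hpr := (Fact.out : p.Prime)
  have hCA := PGroupBasics.centralizer_eq_of_maximal A hA hmax
  have key : ∀ i ≤ a, ∃ B : Subgroup G, B.Normal ∧ B ≤ A ∧ Nat.card B = p ^ i ∧
      (Subgroup.centralizer (B : Set G)).index ≤ p ^ (i * (i - 1) / 2) := by
    intro i hi
    induction i with
    | zero =>
      refine ⟨⊥, inferInstance, bot_le, by simp, ?_⟩
      have h0 : Subgroup.centralizer ((⊥ : Subgroup G) : Set G) = ⊤ := by
        rw [eq_top_iff]
        intro g _ z hz
        rw [Subgroup.mem_bot.1 hz, one_mul, mul_one]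
      rw [h0, Subgroup.index_top]
      exact Nat.one_le_pow _ _ hpr.pos
    | succ i ih =>
      obtain ⟨B, hBn, hBA, hBc, hBi⟩ := ih (by omega)
      haveI := hBn
      have hlt : B < A := lt_of_le_of_ne hBA fun h => by
        rw [h, ha] at hBc
        have := Nat.pow_right_injective hpr.two_le hBc
        omega
      obtain ⟨D, hDn, hBD, hDA, hDc⟩ := PGroupBasics.exists_step hG B A hlt
      refine ⟨D, hDn, hDA, by rw [hDc, hBc, pow_succ'], ?_⟩
      obtain ⟨x, hxD, hxB⟩ : ∃ x ∈ D, x ∉ B := by
        by_contra hcon
        push Not at hcon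
        rw [le_antisymm hcon hBD] at hDc
        have := hpr.two_le
        have : 0 < Nat.card B := Nat.card_pos
        nlinarith
      have hDgen : D ≤ B ⊔ Subgroup.zpowers x := by
        set E := B ⊔ Subgroup.zpowers x with hE
        have hED : E ≤ D := sup_le hBD (Subgroup.zpowers_le.2 hxD)
        have hlt2 : B < E := lt_of_le_of_ne le_sup_left fun h =>
          hxB (h ▸ Subgroup.mem_sup_right (Subgroup.mem_zpowers x))
        have h9 : Nat.card B < Nat.card E :=
          Set.ncard_lt_ncard (SetLike.coe_ssubset_coe.2 hlt2) (Set.toFinite _)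
        obtain ⟨j, hj⟩ := IsPGroup.iff_card.1 (hG.to_subgroup E)
        rw [hBc, hj] at h9
        have hij := (Nat.pow_lt_pow_iff_right hpr.one_lt).1 h9
        refine (Subgroup.eq_of_le_of_card_ge hED ?_).ge
        rw [hDc, hBc, hj, ← pow_succ']
        exact Nat.pow_le_pow_right hpr.pos hij
      have hcomm : ∀ g : G, ⁅g, x⁆ ∈ B := by
        intro g
        haveI := hDn
        -- the section `D / B` has order `p`, hence is central
        haveI := (hG.to_quotient B).isNilpotent
        have hDb : (D.map (QuotientGroup.mk' B)).Normal :=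
          hDn.map _ (QuotientGroup.mk'_surjective B)
        have hne : D.map (QuotientGroup.mk' B) ≠ ⊥ := fun h => by
          rw [Subgroup.map_eq_bot_iff, QuotientGroup.ker_mk'] at h
          exact hxB (h hxD)
        have h3 := SolvStruct.inf_center_ne_bot hne
        haveI := (Subgroup.nontrivial_iff_ne_bot _).2 h3
        obtain ⟨j, hj0, hj⟩ := (IsPGroup.nontrivial_iff_card ((hG.to_quotient B).to_subgroup
          (D.map (QuotientGroup.mk' B) ⊓ Subgroup.center (G ⧸ B)))).1 inferInstance
        have hcard : Nat.card (D.map (QuotientGroup.mk' B)) = p := by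
          have e1 : (⊥ : Subgroup (G ⧸ B)).relIndex (D.map (QuotientGroup.mk' B)) = B.relIndex D := by
            rw [← Subgroup.relIndex_comap, MonoidHom.comap_bot, QuotientGroup.ker_mk']
          rw [Subgroup.relIndex_bot_left] at e1
          rw [e1]
          have e2 : Nat.card B * B.relIndex D = Nat.card D := by
            rw [← Subgroup.relIndex_bot_left, Subgroup.relIndex_mul_relIndex _ _ _ bot_le hBD,
              Subgroup.relIndex_bot_left]
          rw [hDc, mul_comm p] at e2
          exact Nat.eq_of_mul_eq_mul_left Nat.card_pos e2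
        have h4 : D.map (QuotientGroup.mk' B) ⊓ Subgroup.center (G ⧸ B) = D.map (QuotientGroup.mk' B) :=
          Subgroup.eq_of_le_of_card_ge inf_le_left (by
            rw [hcard, hj]
            exact (pow_one p).ge.trans (Nat.pow_le_pow_right hpr.pos hj0))
        have h5 := Subgroup.mem_center_iff.1 (h4.ge (Subgroup.mem_map_of_mem _ hxD)).2
          (QuotientGroup.mk' B g)
        rw [← commutatorElement_eq_one_iff_mul_comm, ← map_commutatorElement,
          QuotientGroup.mk'_apply, QuotientGroup.eq_one_iff] at h5
        exact h5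
      set K := Subgroup.centralizer (B : Set G) with hK
      have hKD : (Subgroup.centralizer ({x} : Set G)).relIndex K ≤ p ^ i := by
        let ψ : K ⧸ (Subgroup.centralizer ({x} : Set G)).subgroupOf K → B := fun q =>
          ⟨⁅((Quotient.out q : K) : G), x⁆, hcomm _⟩
        have hψ : Function.Injective ψ := by
          intro q₁ q₂ hq
          have hq' : ⁅((Quotient.out q₁ : K) : G), x⁆ = ⁅((Quotient.out q₂ : K) : G), x⁆ :=
            congrArg Subtype.val hq
          rw [← Quotient.out_eq q₁, ← Quotient.out_eq q₂]
          refine (QuotientGroup.eq (s := (Subgroup.centralizer ({x} : Set G)).subgroupOf K)).2 ?_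
          rw [Subgroup.mem_subgroupOf, Subgroup.mem_centralizer_singleton_iff, Subgroup.coe_mul,
            Subgroup.coe_inv]
          generalize ((Quotient.out q₁ : K) : G) = g₁ at hq'
          generalize ((Quotient.out q₂ : K) : G) = g₂ at hq'
          rw [commutatorElement_def, commutatorElement_def, mul_left_inj] at hq'
          calc g₁⁻¹ * g₂ * x = g₁⁻¹ * (g₂ * x * g₂⁻¹) * g₂ := by group
            _ = x * (g₁⁻¹ * g₂) := by rw [← hq']; group
        exact (Nat.card_le_card_of_injective ψ hψ).trans hBc.le
      have h1 : K ⊓ Subgroup.centralizer ({x} : Set G) ≤ Subgroup.centralizer (D : Set G) := by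
        rw [Subgroup.le_centralizer_iff]
        refine hDgen.trans (sup_le (Subgroup.le_centralizer_iff.1 inf_le_left)
          (Subgroup.zpowers_le.2 ?_))
        exact fun y hy => Subgroup.mem_centralizer_singleton_iff.1 hy.2
      refine (Nat.le_of_dvd (Nat.pos_of_ne_zero Subgroup.index_ne_zero_of_finite)
        (Subgroup.index_dvd_of_le h1)).trans ?_
      rw [← Subgroup.relIndex_mul_index (inf_le_left : K ⊓ Subgroup.centralizer ({x} : Set G) ≤ K),
        Subgroup.inf_relIndex_left]
      refine (Nat.mul_le_mul hKD hBi).trans_eq ?_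
      rw [← pow_add]
      congr 1
      have e3 : (i + 1) * (i + 1 - 1) = i * (i - 1) + 2 * i := by
        rcases Nat.eq_zero_or_pos i with h | h
        · subst h; rfl
        · obtain ⟨j, rfl⟩ := Nat.exists_eq_succ_of_ne_zero h.ne'
          simp only [Nat.succ_eq_add_one, Nat.add_sub_cancel]; ring
      rw [e3, Nat.add_mul_div_left _ _ (by norm_num : 0 < 2)]
      omega
  obtain ⟨B, hBn, hBA, hBc, hBi⟩ := key a le_rfl
  have hBeq : B = A := Subgroup.eq_of_le_of_card_ge hBA (ha.trans hBc.symm).le
  rw [hBeq, hCA] at hBi
  rw [← A.card_mul_index, ha]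
  refine (Nat.mul_le_mul_left _ hBi).trans_eq ?_
  rw [← pow_add]
  congr 1
  have e4 : a * (a + 1) = a * (a - 1) + 2 * a := by
    rcases Nat.eq_zero_or_pos a with h | h
    · subst h; rfl
    · obtain ⟨j, rfl⟩ := Nat.exists_eq_succ_of_ne_zero h.ne'
      simp only [Nat.succ_eq_add_one, Nat.add_sub_cancel]; ring
  rw [e4, Nat.add_mul_div_left _ _ (by norm_num : 0 < 2)]
  omega


end Cfsg.Agent.S0129
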