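import Cfsg.Statements.S0130
import Cfsg.Agent.Lib.Transfer.PGroup

set_option autoImplicit false
set_option linter.style.haveILetI false
open Cfsg

namespace Cfsg.Agent.S0130
open scoped Pointwise commutatorElement
open Cfsg.Agent
open Cfsg.Agent
open scoped commutatorElement

/-- `N ∣ C(N, 2)` for odd `N`. -/
theorem dvd_choose_two {N : ℕ} (h : Odd N) : N ∣ N.choose 2 := by
  obtain ⟨m, rfl⟩ := h
  refine ⟨m, ?_⟩
  rw [Nat.choose_two_right, Nat.add_sub_cancel, Nat.mul_comm 2 m, ← Nat.mul_assoc,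
    Nat.mul_div_cancel _ (by norm_num : 0 < 2)]


/-- If A is maximal among the normal abelian subgroups of exponent dividing p^n of a p-group (p^n ≠ 2), then A contains every element of order dividing p^n in its centralizer. -/
theorem result {G : Type*} [Group G] [Finite G] {p : ℕ} [Fact p.Prime] (hG : IsPGroup p G) (n : ℕ) (hn : p ^ n ≠ 2) (A : Subgroup G) [A.Normal] (hA : IsMulCommutative A) (hAe : ∀ a ∈ A, a ^ p ^ n = 1) (hmax : ∀ B : Subgroup G, B.Normal → IsMulCommutative B → (∀ b ∈ B, b ^ p ^ n = 1) → A ≤ B → B = A) (x : G) (hx : x ∈ Subgroup.centralizer (A : Set G)) (hxn : x ^ p ^ n = 1) : x ∈ A := by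
  haveI := hG.isNilpotent
  have hpr := (Fact.out : p.Prime)
  set N := p ^ n with hN
  set C := Subgroup.centralizer (A : Set G) with hC
  haveI hCn : C.Normal := Subgroup.normal_centralizer
  have hAn : A.Normal := inferInstance
  let U : ℕ → Subgroup G := fun j =>
    (Subgroup.upperCentralSeries (G ⧸ A) j).comap (QuotientGroup.mk' A)
  have hU0 : ∀ y, y ∈ U 0 → y ∈ A := by
    intro y hy
    have h1 : (y : G ⧸ A) = 1 := by
      simpa [U, Subgroup.upperCentralSeries_zero] using hy
    exact (QuotientGroup.eq_one_iff y).1 h1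
  have hUsucc : ∀ j y, y ∈ U (j + 1) → ∀ g, ⁅y, g⁆ ∈ U j := by
    intro j y hy g
    show QuotientGroup.mk' A ⁅y, g⁆ ∈ Subgroup.upperCentralSeries (G ⧸ A) j
    rw [map_commutatorElement]
    exact (Subgroup.mem_upperCentralSeries_succ_iff.1 hy) _
  by_contra hxA
  classical
  have hex : ∃ k, ∃ y ∈ C, y ^ N = 1 ∧ y ∉ A ∧ y ∈ U k := by
    obtain ⟨k, hk⟩ := Group.IsNilpotent.nilpotent (G ⧸ A)
    exact ⟨k, x, hx, hxn, hxA, by simp [U, hk]⟩
  obtain ⟨y, hyC, hyN, hyA, hyU⟩ := Nat.find_spec hex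
  have hlow : ∀ j < Nat.find hex, ∀ w ∈ C, w ^ N = 1 → w ∈ U j → w ∈ A := by
    intro j hj w hwC hwN hwU
    by_contra hwA
    exact Nat.find_min hex hj ⟨w, hwC, hwN, hwA, hwU⟩
  have key : ∀ j < Nat.find hex, ∀ u ∈ C, u ^ N = 1 → ∀ c ∈ C, c ∈ U j →
      (u * c) ^ N = 1 → c ∈ A := by
    intro j
    induction j with
    | zero => exact fun _ u _ _ c _ hc _ => hU0 c hc
    | succ j ih =>
      intro hj u huC huN c hcC hcU hucN
      have hd : u⁻¹ * (c * u * c⁻¹) ∈ A := by
        refine ih (by omega) u huC huN _ (C.mul_mem (C.inv_mem huC)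
          (C.mul_mem (C.mul_mem hcC huC) (C.inv_mem hcC))) ?_ ?_
        · have h1 := (U j).inv_mem (hUsucc j c hcU u⁻¹)
          rw [commutatorElement_inv] at h1
          have h2 : u⁻¹ * (c * u * c⁻¹) = ⁅u⁻¹, c⁆ := by rw [commutatorElement_def]; group
          rwa [h2]
        · rw [mul_inv_cancel_left, conj_pow, huN, mul_one, mul_inv_cancel]
      set z := (u * c)⁻¹ * (c * u) with hz
      have hzA : z ∈ A := by
        have h1 := hAn.conj_mem _ hd c⁻¹
        have h2 : z = c⁻¹ * (u⁻¹ * (c * u * c⁻¹)) * c⁻¹⁻¹ := by rw [hz]; group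
        rwa [h2]
      have hzc : ∀ w ∈ C, Commute z w := fun w hw => hw z hzA
      have hcu : c * u = u * c * z := by rw [hz]; group
      have h3 := LEOmega.mul_pow_class_two hcu (hzc u huC) (hzc c hcC) N
      rw [huN, hucN, one_mul] at h3
      have hzN : z ^ N = 1 := hAe z hzA
      refine hlow (j + 1) hj c hcC ?_ hcU
      rcases hpr.eq_two_or_odd' with h2 | hodd
      · -- `p = 2`
        rcases Nat.eq_zero_or_pos n with hn0 | hn0
        · have hN1 : N = 1 := by rw [hN, hn0, pow_zero]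
          rw [hN1, Nat.choose_eq_zero_of_lt (by norm_num : (1 : ℕ) < 2), pow_zero, mul_one] at h3
          rw [hN1]
          exact h3.symm
        obtain ⟨m, hm⟩ : ∃ m, n = m + 2 := by
          refine ⟨n - 2, ?_⟩
          by_contra hne
          apply hn
          rw [hN, show n = 1 by omega, pow_one, h2]
        have hN4 : N = 2 * (2 * 2 ^ m) := by rw [hN, hm, h2]; ring
        have hch : N.choose 2 = 2 * 2 ^ m * (N - 1) := by
          rw [Nat.choose_two_right, hN4, mul_assoc 2, Nat.mul_div_cancel_left _ (by norm_num : 0 < 2)]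
        -- `(c ^ 2) ^ N = 1`
        have hz2C : z ^ (2 * N.choose 2) = 1 := by
          rw [hch, show 2 * (2 * 2 ^ m * (N - 1)) = N * (N - 1) by rw [hN4]; ring, pow_mul, hzN, one_pow]
        have hzinv : z ^ N.choose 2 = (c ^ N)⁻¹ := eq_inv_of_mul_eq_one_right h3.symm
        have hc2 : (c ^ 2) ^ N = 1 := by
          rw [← pow_mul, mul_comm, pow_mul]
          have h4 : (z ^ N.choose 2) ^ 2 = 1 := by rw [← pow_mul, mul_comm]; exact hz2C
          rw [hzinv, inv_pow, inv_eq_one] at h4
          exact h4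
        have hc2A : c ^ 2 ∈ A := hlow (j + 1) hj _ (C.pow_mem hcC 2) hc2 ((U (j + 1)).pow_mem hcU 2)
        have h5 := LEOmega.pow_mul_swap hcu (hzc c hcC) 2
        rw [huC (c ^ 2) hc2A, eq_comm, mul_eq_left] at h5
        have hz0 : z ^ N.choose 2 = 1 := by
          rw [hch, mul_assoc, pow_mul, h5, one_pow]
        rw [hz0, mul_one] at h3
        exact h3.symm
      · obtain ⟨d, hd'⟩ := dvd_choose_two (hodd.pow : Odd (p ^ n))
        rw [hN, hd', pow_mul, ← hN, hzN, one_pow, mul_one] at h3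
        exact h3.symm
  have hk0 : Nat.find hex ≠ 0 := fun h => hyA (hU0 y (h ▸ hyU))
  obtain ⟨k, hk⟩ := Nat.exists_eq_succ_of_ne_zero hk0
  rw [hk] at hyU
  have hg : ∀ g : G, y⁻¹ * (g * y * g⁻¹) ∈ A := by
    intro g
    refine key k (by omega) y hyC hyN _ (C.mul_mem (C.inv_mem hyC) (hCn.conj_mem y hyC g)) ?_ ?_
    · have h1 := hUsucc k y⁻¹ ((U (k + 1)).inv_mem hyU) g
      have h2 : y⁻¹ * (g * y * g⁻¹) = ⁅y⁻¹, g⁆ := by rw [commutatorElement_def]; group
      rwa [h2]
    · rw [mul_inv_cancel_left, conj_pow, hyN, mul_one, mul_inv_cancel]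
  set B := Subgroup.closure ((A : Set G) ∪ {y}) with hB
  have hAB : A ≤ B := fun a ha => Subgroup.subset_closure (Or.inl ha)
  have hyB : y ∈ B := Subgroup.subset_closure (Or.inr rfl)
  have hBn : B.Normal := by
    refine ⟨fun b hb g => ?_⟩
    induction hb using Subgroup.closure_induction with
    | mem w hw =>
      rcases hw with hw | hw
      · exact hAB (hAn.conj_mem w hw g)
      · rw [Set.mem_singleton_iff] at hw
        subst hw
        have := B.mul_mem hyB (hAB (hg g))
        rwa [mul_inv_cancel_left] at this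
    | one => simp
    | mul u v _ _ hu hv =>
      have := B.mul_mem hu hv
      simpa [mul_assoc] using this
    | inv u _ hu =>
      have := B.inv_mem hu
      simpa [mul_assoc] using this
  have hBc : IsMulCommutative B := by
    refine Subgroup.isMulCommutative_closure ?_
    rintro a (ha | rfl) b (hb | rfl)
    · exact congrArg Subtype.val (hA.is_comm.comm (⟨a, ha⟩ : A) ⟨b, hb⟩)
    · exact hyC a ha
    · exact (hyC b hb).symm
    · rfl
  have hBe : ∀ b ∈ B, b ^ N = 1 := by
    intro b hb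
    induction hb using Subgroup.closure_induction with
    | mem w hw =>
      rcases hw with hw | hw
      · exact hAe w hw
      · rw [Set.mem_singleton_iff.1 hw, hyN]
    | one => exact one_pow N
    | mul u v hu hv hu' hv' =>
      have hc : u * v = v * u := congrArg Subtype.val (hBc.is_comm.comm ⟨u, hu⟩ ⟨v, hv⟩)
      rw [Commute.mul_pow hc, hu', hv', one_mul]
    | inv u _ hu => rw [inv_pow, hu, inv_one]
  exact hyA (hmax B hBn hBc hBe hAB ▸ hyB)


end Cfsg.Agent.S0130
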