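import Cfsg.Statements.S0131
import Cfsg.Agent.Lib.Transfer.Hall

set_option autoImplicit false
set_option linter.style.haveILetI false
open Cfsg

namespace Cfsg.Agent.S0131
open scoped Pointwise commutatorElement
open Cfsg.Agent

/-- P/P' has a normal complement in G exactly when the focal subgroup G' ∩ P is as small as possible, namely P'. -/
theorem result {G : Type*} [Group G] [Finite G] {p : ℕ} [Fact p.Prime] (P : Sylow p G) : (∃ N : Subgroup G, N.Normal ∧ N ⊓ (P : Subgroup G) = ⁅(P : Subgroup G), (P : Subgroup G)⁆ ∧ N ⊔ (P : Subgroup G) = ⊤) ↔ commutator G ⊓ (P : Subgroup G) = ⁅(P : Subgroup G), (P : Subgroup G)⁆ := by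
  have hcop := TransferHall.coprime_of_hall (P : Subgroup G) P.card_coprime_index
  constructor
  · rintro ⟨N, hN, hNP, htop⟩
    refine le_antisymm ?_ (le_inf (Subgroup.commutator_mono le_top le_top) (Subgroup.commutator_le_self _))
    rw [← hNP]
    refine inf_le_inf_right _ ?_
    haveI := hN
    rw [commutator_def, Subgroup.commutator_le]
    intro a _ b _
    have hdec : ∀ c : G, ∃ n ∈ N, ∃ u ∈ (P : Subgroup G), n * u = c := by
      intro c
      have h1 : c ∈ (N ⊔ (P : Subgroup G)) := htop ▸ Subgroup.mem_top c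
      rw [← SetLike.mem_coe, Subgroup.normal_mul] at h1
      obtain ⟨n, hn, u, hu, h⟩ := Set.mem_mul.1 h1
      exact ⟨n, hn, u, hu, h⟩
    obtain ⟨n, hn, u, hu, rfl⟩ := hdec a
    obtain ⟨m, hm, v, hv, rfl⟩ := hdec b
    rw [← QuotientGroup.eq_one_iff]
    have e : ∀ n ∈ N, ((n : G) : G ⧸ N) = 1 := fun n hn => (QuotientGroup.eq_one_iff n).2 hn
    have huv : ⁅u, v⁆ ∈ N :=
      (hNP.ge (Subgroup.commutator_mem_commutator hu hv)).1
    have h4 := e _ huv
    simp only [commutatorElement_def, QuotientGroup.mk_mul, QuotientGroup.mk_inv] at h4 ⊢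
    rw [e n hn, e m hm, one_mul, one_mul]
    exact h4
  · intro h
    refine ⟨(P : Subgroup G).transferFocal.ker, inferInstance, ?_,
      TransferHall.ker_transferFocal_sup _ hcop⟩
    rw [TransferHall.ker_transferFocal_inf _ hcop, TransferHall.focal_eq _ hcop, h]


end Cfsg.Agent.S0131
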