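import Cfsg.Statements.S0158
import Cfsg.Agent.Lib.Char.Indicator
-- import your own Cfsg.Agent.* helpers here

set_option autoImplicit false
open Cfsg

namespace Cfsg.Agent.S0158

/-- The Frobenius–Schur indicator of an irreducible complex representation of a finite group — the average over s of the character at s * s — is 0, 1 or −1, and it vanishes exactly when some character value is not real. -/
theorem result {G : Type*} [Group G] [Fintype G] {V : Type*} [AddCommGroup V] [Module ℂ V] [FiniteDimensional ℂ V] (ρ : Representation ℂ G V) [ρ.IsIrreducible] : ((Nat.card G : ℂ)⁻¹ * ∑ s : G, ρ.character (s * s) = 0 ∨ (Nat.card G : ℂ)⁻¹ * ∑ s : G, ρ.character (s * s) = 1 ∨ (Nat.card G : ℂ)⁻¹ * ∑ s : G, ρ.character (s * s) = -1) ∧ ((Nat.card G : ℂ)⁻¹ * ∑ s : G, ρ.character (s * s) = 0 ↔ ∃ s : G, (ρ.character s).im ≠ 0) := by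
  classical
  let σ := Cfsg.Agent.Char.coordRep ρ
  haveI : σ.IsIrreducible := Cfsg.Agent.Char.isIrreducible_of_equiv (Cfsg.Agent.Char.transportEquiv _ _)
  have hσ : σ.character = ρ.character := Cfsg.Agent.Char.character_transport _ _
  have h := Cfsg.Agent.Char.indicator_cases σ
  simp only [hσ, Complex.conj_eq_iff_im] at h
  by_cases hreal : ∀ s, (ρ.character s).im = 0
  · obtain ⟨c, hc, e, -⟩ := h.1 hreal
    rw [e]
    refine ⟨Or.inr hc, ⟨fun h0 => ?_, fun ⟨s, hs⟩ => absurd (hreal s) hs⟩⟩
    rcases hc with rfl | rfl <;> simp at h0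
  · rw [h.2 hreal]
    push Not at hreal
    exact ⟨Or.inl rfl, iff_of_true rfl hreal⟩


end Cfsg.Agent.S0158
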