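import Cfsg.Statements.S0159
import Cfsg.Agent.Lib.Char.Complete
-- import your own Cfsg.Agent.* helpers here

set_option autoImplicit false
open Cfsg

namespace Cfsg.Agent.S0159

/-- The number of solutions of s * s = 1 in a finite group equals the sum, over the irreducible characters χ, of (the average over s of χ (s * s)) times χ 1. -/
theorem result {G : Type*} [Group G] [Fintype G] : (Nat.card {s : G // s * s = 1} : ℂ) = ∑ᶠ χ : Cfsg.IrrCharacter G, ((Nat.card G : ℂ)⁻¹ * ∑ s : G, (χ : G → ℂ) (s * s)) * (χ : G → ℂ) 1 := by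
  classical
  rw [finsum_eq_sum_of_fintype]
  simp only [Finset.mul_sum, Finset.sum_mul]
  rw [Finset.sum_comm]
  have key : ∀ s : G, ∑ χ : Cfsg.IrrCharacter G,
      (Nat.card G : ℂ)⁻¹ * (χ : G → ℂ) (s * s) * (χ : G → ℂ) 1 = if s * s = 1 then 1 else 0 := by
    intro s
    have h := congrFun (Cfsg.Agent.Char.leftRegular_eq_sum (G := G)) (s * s)
    rw [Cfsg.Agent.Char.character_leftRegular, Finset.sum_apply] at h
    simp only [mul_assoc]
    rw [← Finset.mul_sum]
    simp only [Pi.smul_apply, smul_eq_mul] at h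
    rw [show ∑ χ : Cfsg.IrrCharacter G, (χ : G → ℂ) (s * s) * (χ : G → ℂ) 1 =
      ∑ χ : Cfsg.IrrCharacter G, (χ : G → ℂ) 1 * (χ : G → ℂ) (s * s) from
      Finset.sum_congr rfl fun χ _ => mul_comm _ _, ← h]
    split_ifs with hs
    · simp
    · simp
  rw [Finset.sum_congr rfl fun s _ => key s, Finset.sum_boole, Nat.card_eq_fintype_card,
    Fintype.card_subtype]


end Cfsg.Agent.S0159
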