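import Cfsg.Statements.S0160
import Cfsg.Agent.Lib.Char.Fixed
-- import your own Cfsg.Agent.* helpers here

set_option autoImplicit false
open Cfsg

namespace Cfsg.Agent.S0160

/-- A finite group has as many real-valued irreducible complex characters as conjugacy classes closed under taking inverses. -/
theorem result {G : Type*} [Group G] [Finite G] : Nat.card {χ : Cfsg.IrrCharacter G // ∀ g : G, ((χ : G → ℂ) g).im = 0} = Nat.card {C : ConjClasses G // ∀ g : G, ConjClasses.mk g = C → IsConj g g⁻¹} := by
  classical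
  haveI : Fintype G := Fintype.ofFinite G
  have hinv : ∀ (χ : Cfsg.IrrCharacter G) (g : G), (χ : G → ℂ) g⁻¹ = starRingEnd ℂ ((χ : G → ℂ) g) :=
    fun χ g => Cfsg.Agent.Char.IsCharacter.inv (Cfsg.Agent.Char.IsIrrCharacter.isCharacter χ.2) g
  have h := Cfsg.Agent.Char.card_fixed_irr (fun g : G => g⁻¹)
    (fun a b hab => by
      obtain ⟨c, hc⟩ := isConj_iff.mp hab
      exact isConj_iff.mpr ⟨c, by rw [← hc]; group⟩)
    (fun χ hχ => by
      convert Cfsg.Agent.Char.IsIrrCharacter.conj hχ using 1
      exact funext fun g => hinv ⟨χ, hχ⟩ g)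
  refine Eq.trans (Nat.card_congr (Equiv.subtypeEquivRight fun χ => ?_))
    (h.trans (Nat.card_congr (Equiv.subtypeEquivRight fun C => ?_)))
  · rw [funext_iff]
    exact forall_congr' fun g => by rw [hinv, Complex.conj_eq_iff_im]
  · exact forall_congr' fun g => imp_congr_right fun _ => isConj_comm


end Cfsg.Agent.S0160
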