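import Cfsg.Statements.S0162
import Cfsg.Agent.Lib.Char.Fixed
-- import your own Cfsg.Agent.* helpers here

set_option autoImplicit false
open Cfsg

namespace Cfsg.Agent.S0162

/-- If a finite group has odd order, its order is congruent to its number of conjugacy classes modulo 16. -/
theorem result {G : Type*} [Group G] [Finite G] (hodd : Odd (Nat.card G)) : Nat.card G ≡ Nat.card (ConjClasses G) [MOD 16] := by
  classical
  haveI : Fintype G := Fintype.ofFinite G
  choose d hd0 hd using fun χ : Cfsg.IrrCharacter G =>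
    Cfsg.Agent.Char.IsIrrCharacter.exists_degree χ.2
  have hsq : ∀ χ, ∃ c : ℕ, d χ ^ 2 = 8 * c + 1 := fun χ => by
    obtain ⟨k, hk⟩ : Odd (d χ) := hodd.of_dvd_nat (Cfsg.Agent.Char.degree_dvd_card χ.2 (hd χ))
    obtain ⟨l, hl⟩ := Nat.even_mul_succ_self k
    exact ⟨l, by rw [hk]; nlinarith⟩
  choose c hc using hsq
  have hsum : ∑ χ, d χ ^ 2 = Nat.card G := by
    have := Cfsg.Agent.Char.sum_sq_degree (G := G)
    simp only [hd] at this
    exact_mod_cast this
  have hcard : Nat.card (Cfsg.IrrCharacter G) = Nat.card (ConjClasses G) :=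
    Cfsg.Agent.Char.card_irrCharacter
  have heven : (2 : ℕ) ∣ ∑ χ, c χ := by
    rw [← CharP.cast_eq_zero_iff (ZMod 2) 2, Nat.cast_sum]
    refine Finset.sum_involution (fun χ _ => (⟨_, Cfsg.Agent.Char.IsIrrCharacter.conj χ.2⟩ :
      Cfsg.IrrCharacter G)) (fun χ _ => ?_) (fun χ _ hne => ?_) (fun χ _ => Finset.mem_univ _)
      (fun χ _ => Subtype.ext (funext fun g => Complex.conj_conj _))
    · set χ' : Cfsg.IrrCharacter G := ⟨_, Cfsg.Agent.Char.IsIrrCharacter.conj χ.2⟩
      have e : d χ' = d χ := Nat.cast_injective (R := ℂ) (by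
        rw [← hd, show (χ' : G → ℂ) 1 = starRingEnd ℂ ((χ : G → ℂ) 1) from rfl, hd, map_natCast])
      have e2 : c χ' = c χ := by
        have h1 := hc χ'
        rw [e, hc χ] at h1
        omega
      rw [e2]
      exact CharTwo.add_self_eq_zero _
    · intro e
      have h1 := Cfsg.Agent.Char.eq_one_of_real hodd χ.2
        fun g => congrFun (congrArg Subtype.val e) g
      apply hne
      have hd1 : d χ = 1 := Nat.cast_injective (R := ℂ) (by rw [← hd, h1, Nat.cast_one])
      have h2 := hc χ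
      rw [hd1] at h2
      rw [show c χ = 0 by omega, Nat.cast_zero]
  obtain ⟨t, ht⟩ := heven
  rw [← hsum, ← hcard, Finset.sum_congr rfl fun χ _ => hc χ, Finset.sum_add_distrib, ← Finset.mul_sum,
    ht, Finset.sum_const, Finset.card_univ, Nat.card_eq_fintype_card, smul_eq_mul, mul_one]
  exact (Nat.modEq_iff_dvd' (Nat.le_add_left _ _)).mpr ⟨t, by omega⟩ |>.symm


end Cfsg.Agent.S0162
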