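import Cfsg.Statements.S0169
import Cfsg.Agent.Lib.Char.Orbit
-- import your own Cfsg.Agent.* helpers here

set_option autoImplicit false
open Cfsg

namespace Cfsg.Agent.S0169

/-- Itô's Theorem on character degrees: the degree of an irreducible complex representation of a finite group divides the index of any abelian normal subgroup. -/
theorem result {G : Type*} [Group G] [Finite G] {V : Type*} [AddCommGroup V] [Module ℂ V] [FiniteDimensional ℂ V] (ρ : Representation ℂ G V) [ρ.IsIrreducible] (H : Subgroup G) [H.Normal] (hH : ∀ a ∈ H, ∀ b ∈ H, a * b = b * a) : Module.finrank ℂ V ∣ H.index := by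
  classical
  haveI : Fintype G := Fintype.ofFinite G
  haveI : Fintype H := Fintype.ofFinite H
  have hχ := Cfsg.Agent.Char.isIrrCharacter_of_rep ρ
  obtain ⟨θ, hθ⟩ := Cfsg.Agent.Char.exists_restrict_constituent hχ H
  have h1 : (θ : H → ℂ) 1 = 1 :=
    Cfsg.Agent.Char.degree_one_of_comm (fun a b => Subtype.ext (hH a a.2 b b.2)) θ.2
  set T := Cfsg.Agent.Char.inertia H (θ : H → ℂ) with hTdef
  haveI : Fintype T := Fintype.ofFinite T
  have hθc := Cfsg.Agent.Char.IsIrrCharacter.isCharacter θ.2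
  have hHT : H ≤ T := Cfsg.Agent.Char.le_inertia H (Cfsg.Agent.Char.IsCharacter.isClassFunction hθc)
  obtain ⟨ψ, hψ, hind, hmult⟩ :=
    Cfsg.Agent.Char.clifford_correspondence_surjective H θ.2 hTdef hHT hχ hθ
  obtain ⟨d, hd0, hd⟩ := Cfsg.Agent.Char.IsIrrCharacter.exists_degree hψ
  have hdeg : Module.finrank ℂ V = T.index * d := by
    have := congrFun hind 1
    rw [Cfsg.Agent.Char.indFun_one_apply, hd, ρ.char_one] at this
    exact_mod_cast this.symm
  rw [hdeg, ← Subgroup.relIndex_mul_index hHT, mul_comm]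
  refine Nat.mul_dvd_mul_right ?_ _
  refine Cfsg.Agent.Char.degree_dvd_index_of_scalar hψ hd (H.subgroupOf T) fun x hx => ?_
  -- the restriction to `H` is a multiple of a linear character
  have hc : Cfsg.classInner (fun a : H => ψ ⟨(a : G), hHT a.2⟩) θ ≠ 0 := by rwa [hmult]
  have hcl := congrFun (Cfsg.Agent.Char.clifford H hχ θ.2 hθ)
  obtain ⟨f, hf⟩ := Cfsg.Agent.Char.exists_hom_of_degree_one hθc h1
  haveI : Fintype (H.subgroupOf T) := Fintype.ofFinite _
  let eqv := Subgroup.subgroupOfEquivOfLe hHT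
  have hθ' : Cfsg.IsIrrCharacter (H.subgroupOf T) (fun y => (θ : H → ℂ) (eqv y)) :=
    Cfsg.Agent.Char.IsIrrCharacter.comp θ.2 eqv.toMonoidHom eqv.surjective
  have hne : Cfsg.classInner (fun y : H.subgroupOf T => ψ y) (fun y => (θ : H → ℂ) (eqv y)) ≠ 0 := by
    intro h0
    apply hc
    rw [← h0]
    simp only [Cfsg.classInner]
    rw [Nat.card_congr eqv.toEquiv]
    congr 1
    exact (Fintype.sum_equiv eqv.toEquiv _ _ fun y => rfl).symm
  have horb : Cfsg.Agent.Char.conjOrbit (H.subgroupOf T) (fun y => (θ : H → ℂ) (eqv y)) =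
      {fun y => (θ : H → ℂ) (eqv y)} := by
    ext φ
    rw [Cfsg.Agent.Char.mem_conjOrbit, Finset.mem_singleton]
    have hfix : ∀ t : T, Cfsg.Agent.Char.conjChar (H.subgroupOf T) t (fun y => (θ : H → ℂ) (eqv y)) =
        fun y => (θ : H → ℂ) (eqv y) := fun t => funext fun y =>
      congrFun (Cfsg.Agent.Char.mem_inertia H |>.mp t.2) (eqv y)
    exact ⟨fun ⟨t, ht⟩ => ht.trans (hfix t), fun h => ⟨1, h.trans (hfix 1).symm⟩⟩
  have hres := Cfsg.Agent.Char.clifford (H.subgroupOf T) hψ hθ' hne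
  rw [horb, Finset.sum_singleton] at hres
  have ex : ψ x = Cfsg.classInner (fun y : H.subgroupOf T => ψ y) (fun y => (θ : H → ℂ) (eqv y)) *
      (θ : H → ℂ) (eqv ⟨x, hx⟩) := congrFun hres ⟨x, hx⟩
  have e1 : ψ 1 = Cfsg.classInner (fun y : H.subgroupOf T => ψ y) (fun y => (θ : H → ℂ) (eqv y)) *
      (θ : H → ℂ) (eqv 1) := congrFun hres 1
  rw [map_one, h1, mul_one, hd] at e1
  rw [ex, ← e1, norm_mul, Complex.norm_natCast, hf,
    Cfsg.Agent.Char.norm_eq_one_of_pow (orderOf_pos (eqv ⟨x, hx⟩)).ne' (by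
      rw [← Units.val_pow_eq_pow_val, ← map_pow, pow_orderOf_eq_one, map_one, Units.val_one]),
    mul_one]


end Cfsg.Agent.S0169
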