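import Cfsg.Statements.S0171
import Cfsg.Agent.Lib.Char.Orbit
-- import your own Cfsg.Agent.* helpers here

set_option autoImplicit false
open Cfsg

namespace Cfsg.Agent.S0171

/-- Let G = K H with K normal, K ⊓ H trivial, and no non-identity element of H commuting with a non-identity element of K (a Frobenius group with kernel K and complement H). Then every non-principal irreducible character of K induces to an irreducible character of G. -/
theorem result {G : Type*} [Group G] [Fintype G] (K H : Subgroup G) [K.Normal] (hKH : K ⊓ H = ⊥) (hKH' : K ⊔ H = ⊤) (hfpf : ∀ h ∈ H, h ≠ 1 → ∀ k ∈ K, h * k = k * h → k = 1) (τ : K → ℂ) (hτ : Cfsg.IsIrrCharacter K τ) (hτ1 : τ ≠ fun _ => 1) : Cfsg.IsIrrCharacter G (Cfsg.indFun K τ) := by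
  classical
  haveI : Fintype K := Fintype.ofFinite K
  have hfix : ∀ g : G, g ∉ K → ∀ k ∈ K, g * k = k * g → k = 1 := by
    intro g hg k hk hgk
    obtain ⟨k₀, hk₀, h, hh, rfl⟩ := Subgroup.mem_sup_of_normal_left.mp
      (show g ∈ K ⊔ H by rw [hKH']; trivial)
    have hh1 : h ≠ 1 := by
      rintro rfl
      exact hg (by simpa using hk₀)
    have hn : ∀ a ∈ K, a⁻¹ * (h * a * h⁻¹) ∈ K := fun a ha =>
      K.mul_mem (K.inv_mem ha) (Subgroup.Normal.conj_mem ‹K.Normal› a ha h)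
    let φ : K → K := fun a => ⟨(a : G)⁻¹ * (h * a * h⁻¹), hn a a.2⟩
    have hinj : Function.Injective φ := fun a b e => by
      have e' : (a : G)⁻¹ * (h * a * h⁻¹) = (b : G)⁻¹ * (h * b * h⁻¹) := congrArg Subtype.val e
      have e2 : h * ((a : G) * (b : G)⁻¹) = (a : G) * (b : G)⁻¹ * h := by
        calc h * ((a : G) * (b : G)⁻¹)
            = (a : G) * ((a : G)⁻¹ * (h * a * h⁻¹)) * (h * (b : G)⁻¹) := by group
          _ = (a : G) * ((b : G)⁻¹ * (h * b * h⁻¹)) * (h * (b : G)⁻¹) := by rw [e']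
          _ = (a : G) * (b : G)⁻¹ * h := by group
      have := hfpf h hh hh1 _ (K.mul_mem a.2 (K.inv_mem b.2)) e2
      exact Subtype.ext (mul_inv_eq_one.mp this)
    obtain ⟨a, ha⟩ := Finite.injective_iff_surjective.mp hinj ⟨k₀, hk₀⟩
    have ha' : (a : G)⁻¹ * (h * a * h⁻¹) = k₀ := congrArg Subtype.val ha
    subst ha'
    have e3 : h * ((a : G) * k * (a : G)⁻¹) = (a : G) * k * (a : G)⁻¹ * h := by
      calc h * ((a : G) * k * (a : G)⁻¹)
          = (a : G) * ((a : G)⁻¹ * (h * a * h⁻¹) * h * k) * (a : G)⁻¹ := by group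
        _ = (a : G) * (k * ((a : G)⁻¹ * (h * a * h⁻¹) * h)) * (a : G)⁻¹ := by rw [hgk]
        _ = (a : G) * k * (a : G)⁻¹ * h := by group
    exact conj_eq_one_iff.mp (hfpf h hh hh1 _ (K.mul_mem (K.mul_mem a.2 hk) (K.inv_mem a.2)) e3)
  refine Cfsg.Agent.Char.IsCharacter.isIrr_of_norm_one
    (Cfsg.Agent.Char.isCharacter_indFun K (Cfsg.Agent.Char.IsIrrCharacter.isCharacter hτ)) ?_
  rw [Cfsg.Agent.Char.classInner_indFun_normal K hτ hτ]
  have hiff : ∀ g : G, Cfsg.Agent.Char.conjChar K g τ = τ ↔ g ∈ K := by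
    refine fun g => ⟨fun hg => ?_, fun hg =>
      Cfsg.Agent.Char.conjChar_of_mem K (Cfsg.Agent.Char.IsCharacter.isClassFunction
        (Cfsg.Agent.Char.IsIrrCharacter.isCharacter hτ)) hg⟩
    by_contra hgK
    refine hτ1 (Cfsg.Agent.Char.eq_one_of_fixed (Cfsg.Agent.Char.conjHom K g) (map_one _)
      (fun χ hχ => Cfsg.Agent.Char.isIrrCharacter_conjChar K hχ g) (fun k hk => ?_) hτ hg)
    obtain ⟨x, hx⟩ := isConj_iff.mp hk
    have hx' : (x : G) * (g * k * g⁻¹) * (x : G)⁻¹ = k := by simpa using congrArg Subtype.val hx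
    refine Subtype.ext (hfix ((x : G) * g) (fun hh => hgK ?_) k k.2 ?_)
    · simpa using K.mul_mem (K.inv_mem x.2) hh
    · calc (x : G) * g * k = (x : G) * (g * k * g⁻¹) * (x : G)⁻¹ * ((x : G) * g) := by group
        _ = k * ((x : G) * g) := by rw [hx']
  rw [Nat.card_congr (Equiv.subtypeEquivRight hiff)]
  exact inv_mul_cancel₀ (Nat.cast_ne_zero.mpr Nat.card_pos.ne')


end Cfsg.Agent.S0171
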