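import Cfsg.Statements.S0172
import Cfsg.Agent.Lib.Char.Fixed
-- import your own Cfsg.Agent.* helpers here

set_option autoImplicit false
open Cfsg

namespace Cfsg.Agent.S0172

/-- Class number of a Frobenius group: if G = K H with K normal, K ⊓ H trivial and no non-identity element of H commuting with a non-identity element of K, then |H| * k(G) + 1 = |H| * k(H) + k(K), where k denotes the number of conjugacy classes. -/
theorem result {G : Type*} [Group G] [Finite G] (K H : Subgroup G) [K.Normal] (hKH : K ⊓ H = ⊥) (hKH' : K ⊔ H = ⊤) (hfpf : ∀ h ∈ H, h ≠ 1 → ∀ k ∈ K, h * k = k * h → k = 1) : Nat.card H * Nat.card (ConjClasses G) + 1 = Nat.card H * Nat.card (ConjClasses H) + Nat.card (ConjClasses K) := by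
  classical
  haveI : Fintype G := Fintype.ofFinite G
  -- centralisers
  have hCK : ∀ k ∈ K, k ≠ 1 → ∀ y, y * k = k * y → y ∈ K := by
    intro k hk hk1 y hy
    obtain ⟨a, ha, h, hh, rfl⟩ := Subgroup.mem_sup_of_normal_left.mp
      (show y ∈ K ⊔ H by rw [hKH']; trivial)
    by_contra hyK
    have hh1 : h ≠ 1 := by rintro rfl; exact hyK (by simpa using ha)
    -- the map `b ↦ b⁻¹ * h * b * h⁻¹` is onto `K`
    have hn : ∀ b ∈ K, b⁻¹ * (h * b * h⁻¹) ∈ K := fun b hb =>
      K.mul_mem (K.inv_mem hb) (Subgroup.Normal.conj_mem ‹K.Normal› b hb h)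
    let φ : K → K := fun b => ⟨(b : G)⁻¹ * (h * b * h⁻¹), hn b b.2⟩
    have hinj : Function.Injective φ := fun b c e => by
      have e' : (b : G)⁻¹ * (h * b * h⁻¹) = (c : G)⁻¹ * (h * c * h⁻¹) := congrArg Subtype.val e
      have e2 : h * ((b : G) * (c : G)⁻¹) = (b : G) * (c : G)⁻¹ * h := by
        calc h * ((b : G) * (c : G)⁻¹)
            = (b : G) * ((b : G)⁻¹ * (h * b * h⁻¹)) * (h * (c : G)⁻¹) := by group
          _ = (b : G) * ((c : G)⁻¹ * (h * c * h⁻¹)) * (h * (c : G)⁻¹) := by rw [e']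
          _ = (b : G) * (c : G)⁻¹ * h := by group
      exact Subtype.ext (mul_inv_eq_one.mp (hfpf h hh hh1 _ (K.mul_mem b.2 (K.inv_mem c.2)) e2))
    obtain ⟨b, hb⟩ := Finite.injective_iff_surjective.mp hinj ⟨a, ha⟩
    have hb' : (b : G)⁻¹ * (h * b * h⁻¹) = a := congrArg Subtype.val hb
    subst hb'
    have e3 : h * ((b : G) * k * (b : G)⁻¹) = (b : G) * k * (b : G)⁻¹ * h := by
      calc h * ((b : G) * k * (b : G)⁻¹)
          = (b : G) * ((b : G)⁻¹ * (h * b * h⁻¹) * h * k) * (b : G)⁻¹ := by group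
        _ = (b : G) * (k * ((b : G)⁻¹ * (h * b * h⁻¹) * h)) * (b : G)⁻¹ := by rw [hy]
        _ = (b : G) * k * (b : G)⁻¹ * h := by group
    exact hk1 (conj_eq_one_iff.mp (hfpf h hh hh1 _ (K.mul_mem (K.mul_mem b.2 hk) (K.inv_mem b.2)) e3))
  have hCH : ∀ h ∈ H, h ≠ 1 → ∀ y, y * h = h * y → y ∈ H := by
    intro h hh hh1 y hy
    obtain ⟨k, hk, h', hh', rfl⟩ := Subgroup.mem_sup_of_normal_left.mp
      (show y ∈ K ⊔ H by rw [hKH']; trivial)
    have hmem : h' * h * h'⁻¹ * h⁻¹ = 1 := by
      have h1 : h' * h * h'⁻¹ * h⁻¹ ∈ K ⊓ H := by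
        refine ⟨?_, H.mul_mem (H.mul_mem (H.mul_mem hh' hh) (H.inv_mem hh')) (H.inv_mem hh)⟩
        have e : h' * h * h'⁻¹ * h⁻¹ = k⁻¹ * (h * k * h⁻¹) := by
          have : h' * h = k⁻¹ * (h * (k * h')) := by rw [← hy]; group
          rw [this]; group
        rw [e]
        exact K.mul_mem (K.inv_mem hk) (Subgroup.Normal.conj_mem ‹K.Normal› k hk h)
      rwa [hKH, Subgroup.mem_bot] at h1
    have hcm : h' * h = h * h' := by rwa [mul_inv_eq_one, mul_inv_eq_iff_eq_mul] at hmem
    have : h * k = k * h := by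
      have e1 : k * h * h' = h * k * h' := by
        rw [mul_assoc k h h', ← hcm, ← mul_assoc, hy]; group
      exact (mul_right_cancel e1).symm
    rw [hfpf h hh hh1 k hk this, one_mul]
    exact hh'
  have hKsplit : ∀ (S : Subgroup G) [Fintype S] (x : S), (∀ y : G, y * x = x * y → y ∈ S) →
      Nat.card {y : S // y * x = x * y} = Nat.card {y : G // y * x = x * y} := by
    intro S _ x hx
    exact Nat.card_congr
      { toFun := fun y => ⟨y.1, congrArg Subtype.val y.2⟩
        invFun := fun y => ⟨⟨y.1, hx y.1 y.2⟩, Subtype.ext y.2⟩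
        left_inv := fun y => rfl
        right_inv := fun y => rfl }
  have hcount : ∀ (S : Type _) [Group S] [Fintype S],
      ∑ x : S, Nat.card {y : S // y * x = x * y} = Nat.card (ConjClasses S) * Nat.card S := by
    intro S _ _
    rw [← card_comm_eq_card_conjClasses_mul_card, ← Nat.card_sigma]
    exact Nat.card_congr
      { toFun := fun p => ⟨(p.2.1, p.1), p.2.2⟩
        invFun := fun p => ⟨p.1.2, p.1.1, p.2⟩
        left_inv := fun p => rfl
        right_inv := fun p => rfl }
  let C : G → ℕ := fun x => Nat.card {y : G // y * x = x * y}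
  have hC1 : C 1 = Nat.card G := Nat.card_congr (Equiv.subtypeUnivEquiv fun y => by simp)
  -- the sum over `K`
  have hsK : ∑ x : K, C x + Nat.card K = Nat.card (ConjClasses K) * Nat.card K + Nat.card G := by
    rw [← hcount K, ← Finset.add_sum_erase Finset.univ (fun x : K => C x) (Finset.mem_univ 1),
      ← Finset.add_sum_erase Finset.univ _ (Finset.mem_univ (1 : K))]
    have h1 : Nat.card {y : K // y * 1 = 1 * y} = Nat.card K :=
      Nat.card_congr (Equiv.subtypeUnivEquiv fun y => by simp)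
    rw [h1, OneMemClass.coe_one, hC1, Finset.sum_congr rfl fun x hx => (hKsplit K x fun y hy =>
      hCK x x.2 (fun e => Finset.ne_of_mem_erase hx (Subtype.ext e)) y hy).symm]
    ring
  have hsH : ∑ x : H, C x + Nat.card H = Nat.card (ConjClasses H) * Nat.card H + Nat.card G := by
    rw [← hcount H, ← Finset.add_sum_erase Finset.univ (fun x : H => C x) (Finset.mem_univ 1),
      ← Finset.add_sum_erase Finset.univ _ (Finset.mem_univ (1 : H))]
    have h1 : Nat.card {y : H // y * 1 = 1 * y} = Nat.card H :=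
      Nat.card_congr (Equiv.subtypeUnivEquiv fun y => by simp)
    rw [h1, OneMemClass.coe_one, hC1, Finset.sum_congr rfl fun x hx => (hKsplit H x fun y hy =>
      hCH x x.2 (fun e => Finset.ne_of_mem_erase hx (Subtype.ext e)) y hy).symm]
    ring
  -- every element outside `K` is a conjugate of one of `H`, uniquely
  have hconj : ∑ x : G, C x + Nat.card K * C 1 = ∑ x : K, C x + Nat.card K * ∑ x : H, C x := by
    let Φ : K × {h : H // h ≠ 1} → {g : G // g ∉ K} := fun p =>
      ⟨(p.1 : G) * ((p.2 : H) : G) * (p.1 : G)⁻¹, fun hm => by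
        have : ((p.2 : H) : G) ∈ K ⊓ H :=
          ⟨by simpa [mul_assoc] using K.mul_mem (K.mul_mem (K.inv_mem p.1.2) hm) p.1.2, (p.2 : H).2⟩
        rw [hKH] at this
        exact p.2.2 (Subtype.ext this)⟩
    have hinj : Function.Injective Φ := by
      rintro ⟨k, h⟩ ⟨k', h'⟩ e
      have e' : (k : G) * ((h : H) : G) * (k : G)⁻¹ = (k' : G) * ((h' : H) : G) * (k' : G)⁻¹ :=
        congrArg Subtype.val e
      have hm : ((h' : H) : G)⁻¹ * ((h : H) : G) ∈ K ⊓ H := by
        refine ⟨?_, H.mul_mem (H.inv_mem (h' : H).2) (h : H).2⟩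
        rw [show ((h : H) : G) = (k : G)⁻¹ * ((k' : G) * ((h' : H) : G) * (k' : G)⁻¹) * k by
          rw [← e']; group]
        rw [show ((h' : H) : G)⁻¹ * ((k : G)⁻¹ * ((k' : G) * ((h' : H) : G) * (k' : G)⁻¹) * k) =
          ((h' : H) : G)⁻¹ * ((k : G)⁻¹ * (k' : G)) * ((h' : H) : G)⁻¹⁻¹ * ((k' : G)⁻¹ * k) by group]
        exact K.mul_mem (Subgroup.Normal.conj_mem ‹K.Normal› _ (K.mul_mem (K.inv_mem k.2) k'.2) _)
          (K.mul_mem (K.inv_mem k'.2) k.2)
      rw [hKH, Subgroup.mem_bot, inv_mul_eq_one] at hm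
      obtain rfl : h = h' := Subtype.ext (Subtype.ext hm.symm)
      have : (k' : G)⁻¹ * k = 1 := hfpf ((h : H) : G) (h : H).2 (fun e => h.2 (Subtype.ext e)) _
        (K.mul_mem (K.inv_mem k'.2) k.2) (by
          calc ((h : H) : G) * ((k' : G)⁻¹ * k)
              = (k' : G)⁻¹ * ((k' : G) * ((h : H) : G) * (k' : G)⁻¹) * k := by group
            _ = (k' : G)⁻¹ * ((k : G) * ((h : H) : G) * (k : G)⁻¹) * k := by rw [e']
            _ = (k' : G)⁻¹ * k * ((h : H) : G) := by group)
      rw [inv_mul_eq_one] at this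
      rw [show k = k' from Subtype.ext this.symm]
    have hbij : Function.Bijective Φ := by
      rw [Fintype.bijective_iff_injective_and_card]
      refine ⟨hinj, ?_⟩
      rw [Fintype.card_prod, Fintype.card_subtype_compl, Fintype.card_subtype_compl,
        Fintype.card_subtype_eq, Nat.mul_sub, mul_one]
      simp only [← Nat.card_eq_fintype_card]
      congr 1
      have hc := Subgroup.card_mul_index K
      rw [Subgroup.IsComplement'.index_eq_card (Subgroup.isComplement'_of_disjoint_and_mul_eq_univ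
        (by rw [disjoint_iff, inf_comm, hKH]) (by
          rw [← Subgroup.mul_normal, sup_comm, hKH', Subgroup.coe_top]))] at hc
      exact hc
    have hCconj : ∀ g y : G, C (g * y * g⁻¹) = C y := fun g y => by
      refine (Nat.card_congr ((MulAut.conj g).toEquiv.subtypeEquiv fun z => ?_)).symm
      show z * y = y * z ↔ g * z * g⁻¹ * (g * y * g⁻¹) = g * y * g⁻¹ * (g * z * g⁻¹)
      rw [show g * z * g⁻¹ * (g * y * g⁻¹) = g * (z * y) * g⁻¹ by group,
        show g * y * g⁻¹ * (g * z * g⁻¹) = g * (y * z) * g⁻¹ by group, mul_left_inj, mul_right_inj]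
    have hnot : ∑ x : {g : G // g ∉ K}, C x = Nat.card K * ∑ x : {h : H // h ≠ 1}, C (x : H) := by
      rw [← (Equiv.ofBijective Φ hbij).sum_comp, Fintype.sum_prod_type, Nat.card_eq_fintype_card,
        ← Finset.card_univ, ← smul_eq_mul, ← Finset.sum_const]
      exact Finset.sum_congr rfl fun k _ => Finset.sum_congr rfl fun h _ => hCconj _ _
    rw [← Fintype.sum_subtype_add_sum_subtype (· ∈ K) C,
      ← Finset.add_sum_erase Finset.univ (fun x : H => C x) (Finset.mem_univ 1), hnot,
      Finset.sum_subtype (p := fun h : H => h ≠ 1) (Finset.univ.erase (1 : H)) (by simp)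
        (fun x : H => C x), OneMemClass.coe_one]

    ring
  rw [hcount G, hC1] at hconj
  have hGc : Nat.card G = Nat.card K * Nat.card H := by
    rw [← Subgroup.card_mul_index K, Subgroup.IsComplement'.index_eq_card
      (Subgroup.isComplement'_of_disjoint_and_mul_eq_univ
        (by rw [disjoint_iff, inf_comm, hKH]) (by
          rw [← Subgroup.mul_normal, sup_comm, hKH', Subgroup.coe_top]))]
  refine mul_left_cancel₀ (Nat.card_pos (α := K)).ne' ?_
  rw [hGc] at hconj hsK hsH
  nlinarith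


end Cfsg.Agent.S0172
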