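import Cfsg.Statements.S0173
import Cfsg.Agent.Lib.Char.Fixed
-- import your own Cfsg.Agent.* helpers here

set_option autoImplicit false
open Cfsg

namespace Cfsg.Agent.S0173

/-- Brauer's permutation lemma for a single automorphism: the number of conjugacy classes mapped to themselves equals the number of irreducible complex characters χ with χ ∘ α = χ. -/
theorem result {G : Type*} [Group G] [Finite G] (α : G ≃* G) : Nat.card {C : ConjClasses G // ConjClasses.map α.toMonoidHom C = C} = Nat.card {χ : Cfsg.IrrCharacter G // (χ : G → ℂ) ∘ α = (χ : G → ℂ)} := by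
  classical
  haveI : Fintype G := Fintype.ofFinite G
  rw [← show Nat.card {χ : Cfsg.IrrCharacter G // (fun k => (χ : G → ℂ) (α k)) = (χ : G → ℂ)} =
    Nat.card {χ : Cfsg.IrrCharacter G // (χ : G → ℂ) ∘ α = (χ : G → ℂ)} from rfl,
    Cfsg.Agent.Char.card_fixed_irr (fun g => α g)
      (fun a b h => MonoidHom.map_isConj α.toMonoidHom h)
      (fun χ hχ => Cfsg.Agent.Char.IsIrrCharacter.comp hχ α.toMonoidHom α.surjective)]
  refine Nat.card_congr (Equiv.subtypeEquivRight fun C => ?_)
  obtain ⟨g, rfl⟩ := ConjClasses.mk_surjective C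
  constructor
  · intro h k hk
    exact ConjClasses.mk_eq_mk_iff_isConj.mp ((congrArg (ConjClasses.map α.toMonoidHom) hk).trans
      (h.trans hk.symm))
  · intro h
    exact ConjClasses.mk_eq_mk_iff_isConj.mpr (h g rfl)


end Cfsg.Agent.S0173
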