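import Cfsg.Statements.S0175
import Cfsg.Agent.Lib.Char.Orbit
-- import your own Cfsg.Agent.* helpers here

set_option autoImplicit false
open Cfsg

namespace Cfsg.Agent.S0175

/-- Taketa's Theorem on M-groups: if every irreducible complex character of a finite group is induced from a linear character (a homomorphism to ℂˣ) of some subgroup, the group is solvable. -/
theorem result {G : Type*} [Group G] [Fintype G] (hM : ∀ χ : G → ℂ, Cfsg.IsIrrCharacter G χ → ∃ (H : Subgroup G) (lam : H →* ℂˣ), χ = Cfsg.indFun H (fun h => (lam h : ℂ))) : Group.IsSolvable G := by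
  classical
  have key : ∀ n : ℕ, ∀ χ : G → ℂ, Cfsg.IsIrrCharacter G χ → ∀ d : ℕ, χ 1 = d → d ≤ n →
      ∀ g ∈ derivedSeries G n, χ g = χ 1 := by
    intro n
    induction n with
    | zero =>
      intro χ hχ d hd hdn
      obtain rfl : d = 0 := by omega
      exact absurd (by simpa using hd) (Cfsg.Agent.Char.IsIrrCharacter.one_ne_zero hχ)
    | succ n ih =>
      intro χ hχ d hd hdn g hg
      obtain ⟨H, lam, rfl⟩ := hM χ hχ
      haveI : Fintype H := Fintype.ofFinite H
      have hd' : d = H.index := by
        rw [Cfsg.Agent.Char.indFun_one_apply, map_one, Units.val_one, mul_one] at hd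
        exact_mod_cast hd.symm
      have hle : derivedSeries G n ≤ H := by
        rcases Nat.lt_or_ge 1 d with hd1 | hd1
        · intro x hx
          have hperm : Cfsg.IsCharacter G (Cfsg.indFun H (fun _ => 1)) :=
            Cfsg.Agent.Char.isCharacter_indFun H Cfsg.Agent.Char.isCharacter_one
          obtain ⟨m, hm⟩ := Cfsg.Agent.Char.IsCharacter.exists_decomp hperm
          choose e he using fun ψ : Cfsg.IrrCharacter G =>
            Cfsg.Agent.Char.IsCharacter.exists_degree
              (Cfsg.Agent.Char.IsIrrCharacter.isCharacter ψ.2)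
          have hp1 : m (Cfsg.Agent.Char.principal G) ≠ 0 := by
            intro h0
            have h1 := Cfsg.Agent.Char.classInner_combination (fun ψ => (m ψ : ℂ))
              (Cfsg.Agent.Char.principal G)
            simp only [h0, Nat.cast_zero, ← hm] at h1
            rw [Cfsg.Agent.Char.classInner_indFun_left H _ (Cfsg.Agent.Char.IsCharacter.isClassFunction
              (Cfsg.Agent.Char.IsIrrCharacter.isCharacter (Cfsg.Agent.Char.principal G).2))] at h1
            exact one_ne_zero ((Cfsg.Agent.Char.classInner_self_irr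
              (G := H) Cfsg.Agent.Char.isIrrCharacter_one).symm.trans h1)
          have hall : ∀ ψ : Cfsg.IrrCharacter G, m ψ ≠ 0 → (ψ : G → ℂ) x = (ψ : G → ℂ) 1 := by
            intro ψ hψ
            by_cases hψp : ψ = Cfsg.Agent.Char.principal G
            · rw [hψp]; rfl
            refine ih ψ ψ.2 (e ψ) (he ψ) ?_ x hx
            have h1 := congrFun hm 1
            simp only [Cfsg.Agent.Char.indFun_one_apply, Finset.sum_apply, Pi.smul_apply, smul_eq_mul,
              mul_one, he] at h1
            have h2 : H.index = ∑ ψ, m ψ * e ψ := by exact_mod_cast h1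
            have h3 : m ψ * e ψ + m (Cfsg.Agent.Char.principal G) * e (Cfsg.Agent.Char.principal G)
                ≤ ∑ ψ, m ψ * e ψ := by
              rw [← Finset.sum_pair (f := fun φ => m φ * e φ) hψp]
              exact Finset.sum_le_sum_of_subset (Finset.subset_univ _)
            have h4 : e (Cfsg.Agent.Char.principal G) = 1 :=
              Nat.cast_injective ((he _).symm.trans Nat.cast_one.symm)
            have h5 : e ψ ≤ m ψ * e ψ := Nat.le_mul_of_pos_left _ (Nat.pos_of_ne_zero hψ)
            rw [h4, mul_one] at h3
            omega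
          by_contra hxH
          have h1 : Cfsg.indFun H (fun _ => 1) x = Cfsg.indFun H (fun _ => 1) 1 := by
            rw [hm]
            simp only [Finset.sum_apply, Pi.smul_apply]
            refine Finset.sum_congr rfl fun ψ _ => ?_
            by_cases h0 : m ψ = 0
            · simp [h0]
            · rw [hall ψ h0]
          rw [Cfsg.Agent.Char.indFun_apply, Cfsg.Agent.Char.indFun_apply] at h1
          have h2 := mul_left_cancel₀ (inv_ne_zero (Nat.cast_ne_zero.mpr Nat.card_pos.ne')) h1
          have hv : ∀ y : G, Cfsg.extendByZero H (fun _ => 1) y = if y ∈ H then 1 else 0 := by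
            intro y
            split_ifs with hy
            · rw [Cfsg.Agent.Char.extendByZero_mem H _ hy]
            · rw [Cfsg.Agent.Char.extendByZero_not_mem H _ hy]
          simp only [hv, Finset.sum_boole, Nat.cast_inj, mul_one, inv_mul_cancel, one_mem,
            Finset.filter_true, Finset.card_univ] at h2
          have h3 := Finset.eq_univ_iff_forall.mp (Finset.card_eq_iff_eq_univ _ |>.mp h2) 1
          exact hxH (by simpa using h3)
        · have : H = ⊤ := Subgroup.index_eq_one.mp (by
            have := Subgroup.index_ne_zero_of_finite (H := H)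
            omega)
          rw [this]; exact le_top
      have hzero : ∀ y ∈ derivedSeries G (n + 1), ∃ hy : y ∈ H, lam ⟨y, hy⟩ = 1 := by
        intro y hy
        rw [derivedSeries_succ] at hy
        have : ⁅derivedSeries G n, derivedSeries G n⁆ ≤ lam.ker.map H.subtype := by
          rw [Subgroup.commutator_le]
          intro a ha b hb
          refine ⟨(⟨a, hle ha⟩ : H) * ⟨b, hle hb⟩ * (⟨a, hle ha⟩ : H)⁻¹ * (⟨b, hle hb⟩ : H)⁻¹, ?_, ?_⟩
          · rw [SetLike.mem_coe, MonoidHom.mem_ker, map_mul, map_mul, map_mul, map_inv, map_inv,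
              mul_comm (lam ⟨a, _⟩), mul_inv_cancel_right, mul_inv_cancel]
          · rfl
        obtain ⟨z, hz, rfl⟩ := this hy
        exact ⟨z.2, hz⟩
      rw [Cfsg.Agent.Char.indFun_apply, Cfsg.Agent.Char.indFun_apply]
      congr 1
      refine Finset.sum_congr rfl fun x _ => ?_
      obtain ⟨hy, hy1⟩ := hzero (x⁻¹ * g * x) (by
        simpa using (derivedSeries_normal G (n + 1)).conj_mem g hg x⁻¹)
      rw [Cfsg.Agent.Char.extendByZero_mem H _ hy, hy1, mul_one, inv_mul_cancel,
        Cfsg.Agent.Char.extendByZero_one, map_one]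
  refine (Group.isSolvable_def G).mpr ⟨Nat.card G, ?_⟩
  rw [eq_bot_iff]
  intro g hg
  rw [Subgroup.mem_bot]
  refine (isConj_one_right.mp ((Cfsg.Agent.Char.isConj_iff_forall_irr 1 g).mpr fun χ => ?_))
  obtain ⟨d, -, hd⟩ := Cfsg.Agent.Char.IsIrrCharacter.exists_degree χ.2
  exact (key _ χ χ.2 d hd (Nat.le_of_dvd Nat.card_pos
    (Cfsg.Agent.Char.degree_dvd_card χ.2 hd)) g hg).symm


end Cfsg.Agent.S0175
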