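import Cfsg.Statements.S0177
import Cfsg.Agent.Lib.Char.Monomial
-- import your own Cfsg.Agent.* helpers here

set_option autoImplicit false
open Cfsg

namespace Cfsg.Agent.S0177

/-- The Artin functions of cyclic subgroups. -/
noncomputable def artinFun {G : Type*} [Group G] (A : Subgroup G) (B : Subgroup A) : A → ℂ :=
  open Classical in fun a => if Subgroup.zpowers a = B then (Nat.card B : ℂ) else 0

theorem isGen_artin {G : Type*} [Group G] [Fintype G] :
    ∀ (n : ℕ) (A : Subgroup G) [Fintype A], Nat.card A = n →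
      Cfsg.IsGeneralizedCharacter A (artinFun A ⊤) := by
  classical
  intro n
  induction n using Nat.strong_induction_on with
  | _ n ih =>
  intro A _ hn
  have hsum : (fun _ : A => (Nat.card A : ℂ)) =
      ∑ B : Subgroup A, Cfsg.indFun B (fun b => artinFun A B b) := by
    funext a
    rw [Finset.sum_apply]
    have hv : ∀ (B : Subgroup A), Cfsg.indFun B (fun b => artinFun A B b) a =
        ∑ x : A, if Subgroup.zpowers (x⁻¹ * a * x) = B then (1 : ℂ) else 0 := by
      intro B
      rw [Cfsg.Agent.Char.indFun_apply, Finset.mul_sum]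
      refine Finset.sum_congr rfl fun x _ => ?_
      split_ifs with h
      · rw [Cfsg.Agent.Char.extendByZero_mem B _ (h ▸ Subgroup.mem_zpowers _), artinFun, if_pos h,
          inv_mul_cancel₀ (Nat.cast_ne_zero.mpr Nat.card_pos.ne')]
      · by_cases hm : x⁻¹ * a * x ∈ B
        · rw [Cfsg.Agent.Char.extendByZero_mem B _ hm, artinFun, if_neg h, mul_zero]
        · rw [Cfsg.Agent.Char.extendByZero_not_mem B _ hm, mul_zero]
    rw [Finset.sum_congr rfl fun B _ => hv B, Finset.sum_comm]
    simp [Nat.card_eq_fintype_card]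
  have hrest : ∀ B : Subgroup A, B ≠ ⊤ →
      Cfsg.IsGeneralizedCharacter A (Cfsg.indFun B (fun b => artinFun A B b)) := by
    intro B hB
    haveI : Fintype (B.map A.subtype) := Fintype.ofFinite _
    let e := B.equivMapOfInjective A.subtype A.subtype_injective
    have hlt : Nat.card (B.map A.subtype) < n := by
      rw [← hn, ← Nat.card_congr e.toEquiv]
      exact lt_of_le_of_ne (Nat.le_of_dvd Nat.card_pos (Subgroup.card_subgroup_dvd_card B))
        fun h => hB (Subgroup.eq_top_of_card_eq _ h)
    have h1 := Cfsg.Agent.Char.IsGeneralizedCharacter.comp (ih _ hlt (B.map A.subtype) rfl)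
      e.toMonoidHom
    refine Cfsg.Agent.Char.IsGeneralizedCharacter.indFun B ?_
    convert h1 using 1
    funext b
    have hiff : Subgroup.zpowers (b : A) = B ↔ Subgroup.zpowers (e b) = ⊤ := by
      rw [show e b = e.toMonoidHom b from rfl, ← MonoidHom.map_zpowers]
      constructor
      · intro h
        rw [eq_top_iff]
        intro y _
        obtain ⟨c, rfl⟩ := e.surjective y
        have hc : (c : A) ∈ Subgroup.zpowers (b : A) := h.symm ▸ c.2
        obtain ⟨j, hj⟩ := Subgroup.mem_zpowers_iff.mp hc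
        exact ⟨c, Subgroup.mem_zpowers_iff.mpr ⟨j, Subtype.ext (by rw [SubgroupClass.coe_zpow, hj])⟩, rfl⟩
      · intro h
        refine le_antisymm (Subgroup.zpowers_le.mpr b.2) fun y hy => ?_
        have hc : e.toMonoidHom ⟨y, hy⟩ ∈ (Subgroup.zpowers b).map e.toMonoidHom := by rw [h]; trivial
        rw [Subgroup.mem_map_iff_mem e.injective] at hc
        obtain ⟨j, hj⟩ := Subgroup.mem_zpowers_iff.mp hc
        exact Subgroup.mem_zpowers_iff.mpr ⟨j, by rw [← SubgroupClass.coe_zpow, hj]⟩
    simp only [artinFun, hiff, Subgroup.card_top, ← Nat.card_congr e.toEquiv]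
    rfl
  have htop : Cfsg.indFun (⊤ : Subgroup A) (fun b => artinFun A ⊤ b) = artinFun A ⊤ := by
    funext a
    have hv : ∀ x : A, Cfsg.extendByZero (⊤ : Subgroup A) (fun b => artinFun A ⊤ b) (x⁻¹ * a * x) =
        artinFun A ⊤ a := by
      intro x
      rw [Cfsg.Agent.Char.extendByZero_mem _ _ (Subgroup.mem_top _)]
      have hiff : Subgroup.zpowers (x⁻¹ * a * x) = ⊤ ↔ Subgroup.zpowers a = ⊤ := by
        rw [show x⁻¹ * a * x = (MulAut.conj x⁻¹).toMonoidHom a by simp, ← MonoidHom.map_zpowers]
        exact ⟨fun h => Subgroup.map_injective (MulAut.conj x⁻¹).injective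
          (h.trans (Subgroup.map_top_of_surjective _ (MulAut.conj x⁻¹).surjective).symm),
          fun h => by rw [h, Subgroup.map_top_of_surjective _ (MulAut.conj x⁻¹).surjective]⟩
      simp only [artinFun, hiff]
    rw [Cfsg.Agent.Char.indFun_apply, Finset.sum_congr rfl fun x _ => hv x, Finset.sum_const,
      Finset.card_univ, nsmul_eq_mul, Subgroup.card_top, ← Nat.card_eq_fintype_card, ← mul_assoc,
      inv_mul_cancel₀ (Nat.cast_ne_zero.mpr Nat.card_pos.ne'), one_mul]
  rw [← Finset.add_sum_erase Finset.univ _ (Finset.mem_univ (⊤ : Subgroup A)), htop] at hsum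
  rw [show artinFun A ⊤ = (fun _ : A => (Nat.card A : ℂ)) -
    ∑ B ∈ Finset.univ.erase (⊤ : Subgroup A), Cfsg.indFun B (fun b => artinFun A B b) by
      rw [hsum, add_sub_cancel_right]]
  refine Cfsg.Agent.Char.IsGeneralizedCharacter.sub ?_
    (Cfsg.Agent.Char.isGeneralizedCharacter_sum _ fun B hB => hrest B (Finset.ne_of_mem_erase hB))
  refine Cfsg.Agent.Char.IsGeneralizedCharacter.of_isCharacter ?_
  convert Cfsg.Agent.Char.IsCharacter.nsmul (Cfsg.Agent.Char.isCharacter_one (G := A)) (Nat.card A)
    using 1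
  funext a
  simp

/-- The Artin induction Theorem: for a character χ of a finite group, |G| • χ is a ℤ-linear combination of functions induced from homomorphisms of cyclic subgroups into ℂˣ. -/
theorem result {G : Type*} [Group G] [Fintype G] (χ : G → ℂ) (hχ : Cfsg.IsCharacter G χ) : ∃ l : List ((A : Subgroup G) × ((A →* ℂˣ) × ℤ)), (∀ t ∈ l, IsCyclic t.1) ∧ (Nat.card G : ℂ) • χ = (l.map fun t => (t.2.2 : ℂ) • Cfsg.indFun t.1 (fun a => (t.2.1 a : ℂ))).sum := by
  classical
  have hmain : (fun _ : G => (Nat.card G : ℂ)) =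
      ∑ A : Subgroup G, Cfsg.indFun A (artinFun A ⊤) := by
    funext g
    rw [Finset.sum_apply]
    have hv : ∀ (A : Subgroup G), Cfsg.indFun A (artinFun A ⊤) g =
        ∑ x : G, if Subgroup.zpowers (x⁻¹ * g * x) = A then (1 : ℂ) else 0 := by
      intro A
      rw [Cfsg.Agent.Char.indFun_apply, Finset.mul_sum]
      refine Finset.sum_congr rfl fun x _ => ?_
      by_cases hm : x⁻¹ * g * x ∈ A
      · have hiff : Subgroup.zpowers (⟨_, hm⟩ : A) = ⊤ ↔ Subgroup.zpowers (x⁻¹ * g * x) = A := by
          constructor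
          · intro h
            have := congrArg (Subgroup.map A.subtype) h
            rwa [MonoidHom.map_zpowers, ← MonoidHom.range_eq_map, Subgroup.range_subtype] at this
          · intro h
            apply Subgroup.map_injective A.subtype_injective
            rw [MonoidHom.map_zpowers, ← MonoidHom.range_eq_map, Subgroup.range_subtype]
            exact h
        rw [Cfsg.Agent.Char.extendByZero_mem A _ hm, artinFun]
        split_ifs with h1 h2 h2
        · rw [Subgroup.card_top, inv_mul_cancel₀ (Nat.cast_ne_zero.mpr Nat.card_pos.ne')]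
        · exact absurd (hiff.mp h1) h2
        · exact absurd (hiff.mpr h2) h1
        · rw [mul_zero]
      · rw [Cfsg.Agent.Char.extendByZero_not_mem A _ hm, mul_zero,
          if_neg fun (h : Subgroup.zpowers (x⁻¹ * g * x) = A) => hm (h ▸ Subgroup.mem_zpowers _)]
    rw [Finset.sum_congr rfl fun A _ => hv A, Finset.sum_comm]
    simp [Nat.card_eq_fintype_card]
  set S := AddSubgroup.closure {f : G → ℂ | ∃ i : (A : Subgroup G) × (A →* ℂˣ),
      IsCyclic i.1 ∧ f = Cfsg.indFun i.1 (fun e => (i.2 e : ℂ))} with hS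
  have hmem : (Nat.card G : ℂ) • χ ∈ S := by
    have e : (Nat.card G : ℂ) • χ = χ * fun _ : G => (Nat.card G : ℂ) := funext fun g => mul_comm _ _
    rw [e, hmain, Finset.mul_sum]
    refine S.sum_mem fun A _ => ?_
    by_cases hcyc : IsCyclic A
    · haveI : Fintype A := Fintype.ofFinite A
      rw [Cfsg.Agent.Char.mul_indFun A (Cfsg.Agent.Char.IsCharacter.isClassFunction hχ)]
      have hgen := Cfsg.Agent.Char.IsGeneralizedCharacter.mul
        (Cfsg.Agent.Char.IsGeneralizedCharacter.of_isCharacter
          (Cfsg.Agent.Char.IsCharacter.restrict hχ A)) (isGen_artin _ A rfl)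
      obtain ⟨c, hc, -⟩ := Cfsg.Agent.Char.IsGeneralizedCharacter.exists_coeff hgen
      rw [show (fun h : A => χ h * artinFun A ⊤ h) = _ from hc, Cfsg.Agent.Char.indFun_sum]
      refine S.sum_mem fun ψ _ => ?_
      rw [Cfsg.Agent.Char.indFun_smul, Int.cast_smul_eq_zsmul]
      refine S.zsmul_mem ?_ _
      have hcomm : ∀ a b : A, a * b = b * a := by
        letI : CommGroup A := IsCyclic.commGroup
        exact mul_comm
      obtain ⟨f, hf⟩ := Cfsg.Agent.Char.exists_hom_of_degree_one
        (Cfsg.Agent.Char.IsIrrCharacter.isCharacter ψ.2)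
        (Cfsg.Agent.Char.degree_one_of_comm hcomm ψ.2)
      exact AddSubgroup.subset_closure ⟨⟨A, f⟩, hcyc, by rw [hf]⟩
    · have : artinFun A ⊤ = 0 := funext fun a => by
        rw [artinFun, if_neg fun (h : Subgroup.zpowers a = ⊤) => hcyc ⟨a, fun y => Subgroup.mem_zpowers_iff.mp (by rw [h]; trivial)⟩]
        rfl
      rw [this, Cfsg.Agent.Char.indFun_zero, mul_zero]
      exact S.zero_mem
  obtain ⟨l, hl, he⟩ := Cfsg.Agent.Char.exists_list_of_mem_closure _ _ hmem
  refine ⟨l.map fun t => ⟨t.1.1, (t.1.2, t.2)⟩, fun t ht => ?_, ?_⟩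
  · obtain ⟨s, hs, rfl⟩ := List.mem_map.mp ht
    exact hl s hs
  · rw [he, List.map_map]
    rfl


end Cfsg.Agent.S0177
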