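import Cfsg.Statements.S0178
import Cfsg.Agent.Lib.Char.Orbit
-- import your own Cfsg.Agent.* helpers here

set_option autoImplicit false
open Cfsg

namespace Cfsg.Agent.S0178

/-- The degree of an irreducible complex representation of a finite group is at most the index of any abelian subgroup. -/
theorem result {G : Type*} [Group G] [Finite G] {V : Type*} [AddCommGroup V] [Module ℂ V] [FiniteDimensional ℂ V] (ρ : Representation ℂ G V) [ρ.IsIrreducible] (A : Subgroup G) (hA : ∀ a ∈ A, ∀ b ∈ A, a * b = b * a) : Module.finrank ℂ V ≤ A.index := by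
  classical
  haveI : Fintype G := Fintype.ofFinite G
  haveI : Fintype A := Fintype.ofFinite A
  have hχ := Cfsg.Agent.Char.isIrrCharacter_of_rep ρ
  obtain ⟨θ, hθ⟩ := Cfsg.Agent.Char.exists_restrict_constituent hχ A
  have h1 : (θ : A → ℂ) 1 = 1 :=
    Cfsg.Agent.Char.degree_one_of_comm (fun a b => Subtype.ext (hA a a.2 b b.2)) θ.2
  refine Cfsg.Agent.Char.degree_le_of_constituent (a := A.index)
    (Cfsg.Agent.Char.isCharacter_indFun A (Cfsg.Agent.Char.IsIrrCharacter.isCharacter θ.2)) hχ ?_
    (by rw [Cfsg.Agent.Char.indFun_one_apply, h1, mul_one]) ρ.char_one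
  rw [← Cfsg.Agent.Char.classInner_conj_symm, Cfsg.Agent.Char.classInner_indFun_right A _
    (Cfsg.Agent.Char.IsCharacter.isClassFunction (Cfsg.Agent.Char.IsIrrCharacter.isCharacter hχ))]
  simpa using hθ


end Cfsg.Agent.S0178
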