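import Cfsg.Statements.S0180
import Cfsg.Agent.Lib.Char.GaloisRat
import Cfsg.Agent.Lib.Char.Complete
-- import your own Cfsg.Agent.* helpers here

set_option autoImplicit false
open Cfsg

namespace Cfsg.Agent.S0180

/-- Every irreducible complex character of a finite group takes only rational values if and only if g is conjugate to g ^ m for every element g and every m coprime to the group order. -/
theorem result {G : Type*} [Group G] [Finite G] : (∀ χ : Cfsg.IrrCharacter G, ∀ g : G, ∃ q : ℚ, (χ : G → ℂ) g = (q : ℂ)) ↔ ∀ m : ℕ, m.Coprime (Nat.card G) → ∀ g : G, IsConj g (g ^ m) := by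
  classical
  haveI : Fintype G := Fintype.ofFinite G
  constructor
  · intro h m hm g
    rw [Cfsg.Agent.Char.isConj_iff_forall_irr]
    intro χ
    obtain ⟨q, hq⟩ := h χ g
    obtain ⟨σ, hσ⟩ := Cfsg.Agent.CharGalois.exists_galoisAut (Nat.card_pos (α := G)).ne' hm
    have e := Cfsg.Agent.CharGalois.map_char (Cfsg.Agent.Char.IsIrrCharacter.isCharacter χ.2) σ.toRingHom hσ g
    rw [← e, hq]
    exact (map_ratCast σ.toRingHom q).symm
  · intro h χ g
    refine Cfsg.Agent.CharGalois.eq_rat_of_fixed (Cfsg.Agent.Char.IsCharacter.isIntegral (Cfsg.Agent.Char.IsIrrCharacter.isCharacter χ.2) g) fun σ => ?_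
    obtain ⟨k, hk, hσ⟩ := Cfsg.Agent.CharGalois.exists_exponent σ.toRingHom (Nat.card_pos (α := G)).ne'
    have e := Cfsg.Agent.CharGalois.map_char (Cfsg.Agent.Char.IsIrrCharacter.isCharacter χ.2) σ.toRingHom hσ g
    exact e.trans (Cfsg.Agent.Char.isClassFunction_iff.mp
      (Cfsg.Agent.Char.IsCharacter.isClassFunction (Cfsg.Agent.Char.IsIrrCharacter.isCharacter χ.2)) g _ (h k hk g)).symm


end Cfsg.Agent.S0180
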