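import Cfsg.Statements.S0181
import Cfsg.Agent.Lib.Char.Complete
import Cfsg.Agent.Lib.Char.Integral
-- import your own Cfsg.Agent.* helpers here

set_option autoImplicit false
open Cfsg

namespace Cfsg.Agent.S0181

/-- Let H be a normal subgroup of a finite group G and ρ an irreducible complex representation whose kernel does not contain H. If g commutes with no non-identity element of H, then the character of ρ vanishes at g. -/
theorem result {G : Type*} [Group G] [Finite G] {V : Type*} [AddCommGroup V] [Module ℂ V] [FiniteDimensional ℂ V] (ρ : Representation ℂ G V) [ρ.IsIrreducible] (H : Subgroup G) [H.Normal] (hker : ∃ h ∈ H, ρ h ≠ LinearMap.id) (g : G) (hg : ∀ h ∈ H, h * g = g * h → h = 1) : ρ.character g = 0 := by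
  classical
  haveI : Fintype G := Fintype.ofFinite G
  haveI : Fintype (G ⧸ H) := Fintype.ofFinite _
  have hρ := Cfsg.Agent.Char.isIrrCharacter_of_rep ρ
  let infl : Cfsg.IrrCharacter (G ⧸ H) → Cfsg.IrrCharacter G := fun χ =>
    ⟨fun x => (χ : G ⧸ H → ℂ) (x : G ⧸ H), Cfsg.Agent.Char.IsIrrCharacter.comp χ.2 (QuotientGroup.mk' H) (QuotientGroup.mk'_surjective H)⟩
  have hinj : Function.Injective infl := fun a b e => Subtype.ext (funext fun q => by
    obtain ⟨x, rfl⟩ := QuotientGroup.mk_surjective q
    exact congrFun (congrArg Subtype.val e) x)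
  have hnot : (⟨ρ.character, hρ⟩ : Cfsg.IrrCharacter G) ∉ Finset.univ.image infl := by
    intro h
    obtain ⟨χ, -, e⟩ := Finset.mem_image.mp h
    obtain ⟨x, hxH, hx⟩ := hker
    refine hx ?_
    have e' := congrFun (congrArg Subtype.val e)
    rw [← Cfsg.Agent.Char.char_eq_degree_iff, ← Representation.char_one ρ]
    have hq : ((x : G) : G ⧸ H) = ((1 : G) : G ⧸ H) := by simpa using (QuotientGroup.eq_one_iff x).mpr hxH
    exact (e' x).symm.trans ((congrArg (χ : G ⧸ H → ℂ) hq).trans (e' 1))
  set F : Cfsg.IrrCharacter G → ℝ := fun χ => ‖(χ : G → ℂ) g‖ ^ 2 with hF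
  have hG : ∑ χ, F χ = Nat.card (Subgroup.centralizer ({g} : Set G)) := by
    have := Cfsg.Agent.Char.column_orth_of_isConj (IsConj.refl g)
    simp only [Complex.mul_conj, Complex.normSq_eq_norm_sq] at this
    exact_mod_cast this
  have hQ : ∑ χ ∈ Finset.univ.image infl, F χ = Nat.card (Subgroup.centralizer ({(g : G ⧸ H)} : Set (G ⧸ H))) := by
    rw [Finset.sum_image fun a _ b _ e => hinj e]
    have := Cfsg.Agent.Char.column_orth_of_isConj (IsConj.refl (g : G ⧸ H))
    simp only [Complex.mul_conj, Complex.normSq_eq_norm_sq] at this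
    exact_mod_cast this
  have hle : Nat.card (Subgroup.centralizer ({g} : Set G)) ≤ Nat.card (Subgroup.centralizer ({(g : G ⧸ H)} : Set (G ⧸ H))) := by
    refine Nat.card_le_card_of_injective (fun c : Subgroup.centralizer ({g} : Set G) =>
      (⟨((c : G) : G ⧸ H), Subgroup.mem_centralizer_singleton_iff.mpr (by
        rw [← QuotientGroup.mk_mul, ← QuotientGroup.mk_mul, Subgroup.mem_centralizer_singleton_iff.mp c.2])⟩ :
        Subgroup.centralizer ({(g : G ⧸ H)} : Set (G ⧸ H)))) fun c d e => ?_
    have hm : (c : G)⁻¹ * d ∈ H := QuotientGroup.eq.mp (congrArg Subtype.val e)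
    have hcomm := Subgroup.mem_centralizer_singleton_iff.mp ((c⁻¹ * d).2)
    exact Subtype.ext (inv_mul_eq_one.mp (hg _ hm hcomm))
  have hsplit := Finset.sum_sdiff (f := F) (Finset.subset_univ (Finset.univ.image infl))
  rw [hG, hQ] at hsplit
  have hle' : (Nat.card (Subgroup.centralizer ({g} : Set G)) : ℝ) ≤ Nat.card (Subgroup.centralizer ({(g : G ⧸ H)} : Set (G ⧸ H))) := by exact_mod_cast hle
  have h0 : F ⟨ρ.character, hρ⟩ ≤ 0 := le_trans
    (Finset.single_le_sum (fun χ _ => by positivity) (Finset.mem_sdiff.mpr ⟨Finset.mem_univ _, hnot⟩)) (by linarith)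
  exact norm_eq_zero.mp (pow_eq_zero_iff two_ne_zero |>.mp (le_antisymm h0 (by positivity)))


end Cfsg.Agent.S0181
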