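import Cfsg.Statements.S0184
import Cfsg.Agent.Lib.Char.Complete
import Cfsg.Agent.Lib.Char.Integral

set_option autoImplicit false
open Cfsg

namespace Cfsg.Agent.S0184

/-- A finite p-group admits a faithful irreducible complex representation if and only if its centre is cyclic. -/
theorem result {G : Type*} [Group G] [Finite G] (p : ℕ) [Fact p.Prime] (hG : IsPGroup p G) : (∃ (n : ℕ) (ρ : Representation ℂ G (Fin n → ℂ)), ρ.IsIrreducible ∧ Function.Injective ρ) ↔ IsCyclic (Subgroup.center G) := by
  classical
  haveI : Fintype G := Fintype.ofFinite G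
  have hp : p.Prime := Fact.out
  constructor
  · rintro ⟨n, ρ, hρ, hinj⟩
    haveI := hρ
    have hsc : ∀ z : Subgroup.center G, ∃ c : ℂ, ρ z = c • LinearMap.id := fun z =>
      Cfsg.Agent.Char.schur_scalar ρ (ρ z) fun g x => by
        rw [← Module.End.mul_apply, ← map_mul, ← Module.End.mul_apply, ← map_mul,
          Subgroup.mem_center_iff.mp z.2 g]
    choose c hc using hsc
    have hpos := Cfsg.Agent.Char.finrank_pos_of_irreducible ρ
    have key : ∀ z : Subgroup.center G,
        ρ.character z = c z * (Module.finrank ℂ (Fin n → ℂ) : ℂ) := fun z => by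
      simp [Representation.character, hc z, LinearMap.trace_id]
    have hN : (Module.finrank ℂ (Fin n → ℂ) : ℂ) ≠ 0 := Nat.cast_ne_zero.mpr hpos.ne'
    let f : Subgroup.center G →* ℂ :=
      { toFun := c
        map_one' := by
          have h := key 1
          rw [Subgroup.coe_one, Representation.char_one] at h
          exact mul_right_cancel₀ hN (h.symm.trans (one_mul _).symm)
        map_mul' := fun a b => by
          have h := key (a * b)
          rw [Subgroup.coe_mul, Representation.character, map_mul, hc a, hc b, smul_mul_smul_comm,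
            Module.End.mul_eq_comp, LinearMap.id_comp, map_smul, LinearMap.trace_id,
            smul_eq_mul] at h
          exact mul_right_cancel₀ hN h.symm }
    refine isCyclic_of_subgroup_isDomain f fun a b hab => Subtype.ext (hinj ?_)
    rw [hc a, hc b, show c a = c b from hab]
  · intro hcyc
    by_cases htriv : Subsingleton G
    · obtain ⟨n, ρ, hρ, -⟩ := Cfsg.Agent.Char.isIrrCharacter_one (G := G)
      exact ⟨n, ρ, hρ, fun a b _ => Subsingleton.elim a b⟩
    haveI : Nontrivial G := not_subsingleton_iff_nontrivial.mp htriv
    haveI : Nontrivial (Subgroup.center G) := hG.center_nontrivial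
    obtain ⟨z0, hz0⟩ := exists_prime_orderOf_dvd_card' p (G := Subgroup.center G) (by
      obtain ⟨k, hk⟩ := (hG.to_subgroup (Subgroup.center G)).exists_card_eq
      rw [hk]
      refine dvd_pow_self p ?_
      rintro rfl
      exact absurd (hk.trans (pow_zero p)) (Finite.one_lt_card (α := Subgroup.center G)).ne')
    obtain ⟨χ, hχ⟩ : ∃ χ : Cfsg.IrrCharacter G, (χ : G → ℂ) z0 ≠ (χ : G → ℂ) 1 := by
      by_contra hc
      push Not at hc
      have := (Cfsg.Agent.Char.isConj_iff_forall_irr (z0 : G) 1).mpr hc
      rw [isConj_one_left, OneMemClass.coe_eq_one] at this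
      rw [this, orderOf_one] at hz0
      exact hp.one_lt.ne hz0
    obtain ⟨K, hKn, hK, -⟩ :=
      Cfsg.Agent.Char.IsCharacter.exists_kernel (Cfsg.Agent.Char.IsIrrCharacter.isCharacter χ.2)
    have hKbot : K = ⊥ := by
      by_contra hne
      haveI : Nontrivial K := (Subgroup.nontrivial_iff_ne_bot K).mpr hne
      have hdvd : p ∣ Nat.card K := by
        obtain ⟨k, hk⟩ := (hG.to_subgroup K).exists_card_eq
        rw [hk]
        refine dvd_pow_self p ?_
        rintro rfl
        exact absurd (hk.trans (pow_zero p)) (Finite.one_lt_card (α := K)).ne'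
      have hmc : ∀ (x : G) (k : K), x * k * x⁻¹ ∈ K := fun x k => hKn.conj_mem k k.2 x
      letI : MulAction G K :=
        { smul := fun x k => ⟨x * k * x⁻¹, hmc x k⟩
          one_smul := fun k => Subtype.ext (by show (1 : G) * k * 1⁻¹ = k; group)
          mul_smul := fun x y k => Subtype.ext (by
            show x * y * k * (x * y)⁻¹ = x * (y * k * y⁻¹) * x⁻¹; group) }
      obtain ⟨b, hb, hb1⟩ := hG.exists_fixed_point_of_prime_dvd_card_of_fixed_point (α := K) hdvd
        (a := 1) (fun x => Subtype.ext (by show x * 1 * x⁻¹ = 1; group))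
      have hbz : (b : G) ∈ Subgroup.center G := Subgroup.mem_center_iff.mpr fun x => by
        have h := congrArg Subtype.val (hb x)
        exact mul_inv_eq_iff_eq_mul.mp h
      have hle : Subgroup.zpowers z0 ≤ Subgroup.zpowers (⟨b, hbz⟩ : Subgroup.center G) := by
        have hdz : p ∣ Nat.card (Subgroup.zpowers (⟨b, hbz⟩ : Subgroup.center G)) := by
          obtain ⟨k, hk⟩ := ((hG.to_subgroup _).to_subgroup
            (Subgroup.zpowers (⟨b, hbz⟩ : Subgroup.center G))).exists_card_eq
          rw [hk]
          refine dvd_pow_self p ?_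
          rintro rfl
          rw [Nat.card_zpowers, pow_zero, orderOf_eq_one_iff] at hk
          exact hb1 (Subtype.ext (congrArg Subtype.val hk).symm)
        obtain ⟨w, hw⟩ := exists_prime_orderOf_dvd_card' p hdz
        have hwo : orderOf (w : Subgroup.center G) = p := by rw [Subgroup.orderOf_coe, hw]
        have heq : Subgroup.zpowers z0 = Subgroup.zpowers (w : Subgroup.center G) := by
          haveI : Fintype (Subgroup.center G) := Fintype.ofFinite _
          have hsub : ∀ u : Subgroup.center G, orderOf u = p →
              (Finset.univ.filter fun x => x ∈ Subgroup.zpowers u) =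
                Finset.univ.filter fun x : Subgroup.center G => x ^ p = 1 := by
            intro u hu
            refine Finset.eq_of_subset_of_card_le (fun x hx => ?_) ?_
            · obtain ⟨j, hj⟩ := Subgroup.mem_zpowers_iff.mp (Finset.mem_filter.mp hx).2
              refine Finset.mem_filter.mpr ⟨Finset.mem_univ _, ?_⟩
              rw [← hj, ← zpow_natCast, zpow_comm, zpow_natCast, ← hu, pow_orderOf_eq_one,
                one_zpow]
            · refine le_trans (IsCyclic.card_pow_eq_one_le hp.pos) ?_
              rw [← Fintype.card_subtype, ← Nat.card_eq_fintype_card]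
              exact (hu ▸ (Nat.card_zpowers u)).ge
          ext x
          simpa using congrArg (x ∈ ·) ((hsub z0 hz0).trans (hsub _ hwo).symm)
        rw [heq]
        exact Subgroup.zpowers_le.mpr w.2
      obtain ⟨k, hk⟩ := Subgroup.mem_zpowers_iff.mp (hle (Subgroup.mem_zpowers z0))
      have hk' : (z0 : G) = (b : G) ^ k := by rw [← hk, Subgroup.coe_zpow]
      exact hχ ((hK _).mp (hk' ▸ K.zpow_mem b.2 k))
    obtain ⟨n, ρ, hρ, hρc⟩ := χ.2
    refine ⟨n, ρ, hρ, fun a b hab => ?_⟩
    have hm : a⁻¹ * b ∈ K := by
      rw [hK, ← hρc, Representation.character, Representation.character]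
      congr 1
      rw [map_mul, ← hab, ← map_mul, inv_mul_cancel]
    rw [hKbot, Subgroup.mem_bot] at hm
    exact inv_mul_eq_one.mp hm

end Cfsg.Agent.S0184
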