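import Cfsg.Statements.S0185
import Cfsg.Agent.Lib.Char.Integral
import Cfsg.Agent.Lib.Char.Induction
-- import your own Cfsg.Agent.* helpers here

set_option autoImplicit false
open Cfsg

namespace Cfsg.Agent.S0185

/-- If a finite group has a faithful complex representation of degree less than the smallest prime dividing its order, the group is abelian. -/
theorem result {G : Type*} [Group G] [Finite G] {V : Type*} [AddCommGroup V] [Module ℂ V] [FiniteDimensional ℂ V] (ρ : Representation ℂ G V) (hfaithful : Function.Injective ρ) (hdeg : ∀ p : ℕ, p.Prime → p ∣ Nat.card G → Module.finrank ℂ V < p) (a b : G) : a * b = b * a := by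
  classical
  haveI : Fintype G := Fintype.ofFinite G
  have hχ := Cfsg.Agent.Char.isCharacter_of_rep ρ
  obtain ⟨m, hm⟩ := Cfsg.Agent.Char.IsCharacter.exists_decomp hχ
  have hlin : ∀ ψ : Cfsg.IrrCharacter G, m ψ ≠ 0 → (ψ : G → ℂ) 1 = 1 := by
    intro ψ hψ
    obtain ⟨d, hd0, hd⟩ := Cfsg.Agent.Char.IsIrrCharacter.exists_degree ψ.2
    by_contra hne
    have hd1 : d ≠ 1 := fun e => hne (by rw [hd, e, Nat.cast_one])
    obtain ⟨p, hp, hpd⟩ := Nat.exists_prime_and_dvd hd1
    have h1 := hdeg p hp (hpd.trans (Cfsg.Agent.Char.degree_dvd_card ψ.2 hd))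
    have h2 := congrFun hm 1
    choose e he using fun η : Cfsg.IrrCharacter G => Cfsg.Agent.Char.IsCharacter.exists_degree (Cfsg.Agent.Char.IsIrrCharacter.isCharacter η.2)
    simp only [Representation.char_one, Finset.sum_apply, Pi.smul_apply, smul_eq_mul, he] at h2
    have h3 : Module.finrank ℂ V = ∑ η, m η * e η := by exact_mod_cast h2
    have h4 : m ψ * e ψ ≤ ∑ η, m η * e η := Finset.single_le_sum (f := fun η => m η * e η) (fun _ _ => Nat.zero_le _) (Finset.mem_univ ψ)
    have h5 : e ψ = d := by exact_mod_cast (he ψ).symm.trans hd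
    have h6 := Nat.le_of_dvd hd0 hpd
    have h7 : d ≤ m ψ * e ψ := h5 ▸ Nat.le_mul_of_pos_left _ (Nat.pos_of_ne_zero hψ)
    omega
  have hker : ρ (a * b * a⁻¹ * b⁻¹) = LinearMap.id := by
    rw [← Cfsg.Agent.Char.char_eq_degree_iff, ← Representation.char_one ρ, hm]
    simp only [Finset.sum_apply, Pi.smul_apply, smul_eq_mul]
    refine Finset.sum_congr rfl fun ψ _ => ?_
    by_cases hψ : m ψ = 0
    · simp [hψ]
    obtain ⟨f, hf⟩ := Cfsg.Agent.Char.exists_hom_of_degree_one (Cfsg.Agent.Char.IsIrrCharacter.isCharacter ψ.2) (hlin ψ hψ)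
    rw [hf]
    simp
  rw [← Module.End.one_eq_id, ← map_one ρ] at hker
  have := hfaithful hker
  calc a * b = a * b * a⁻¹ * b⁻¹ * (b * a) := by group
    _ = b * a := by rw [this, one_mul]


end Cfsg.Agent.S0185
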