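import Cfsg.Statements.S0186
import Cfsg.Agent.Lib.Char.Integral
import Cfsg.Agent.Lib.Char.Clifford
-- import your own Cfsg.Agent.* helpers here

set_option autoImplicit false
open Cfsg

namespace Cfsg.Agent.S0186

/-- Let G be a finite simple group of order n and p a prime dividing n. If G has more than n / p^2 conjugacy classes, then every Sylow p-subgroup of G is abelian. -/
theorem result {G : Type*} [Group G] [Finite G] [IsSimpleGroup G] (p : ℕ) [Fact p.Prime] (hp : p ∣ Nat.card G) (hmany : Nat.card G < p ^ 2 * Nat.card (ConjClasses G)) (P : Sylow p G) (a b : G) (ha : a ∈ P) (hb : b ∈ P) : a * b = b * a := by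
  classical
  haveI : Fintype G := Fintype.ofFinite G
  haveI : Fintype (P : Subgroup G) := Fintype.ofFinite _
  by_contra hne
  have hcardP : p ^ 3 ∣ Nat.card (P : Subgroup G) := by
    obtain ⟨k, hk⟩ := IsPGroup.iff_card.mp P.2
    rw [hk]
    refine Nat.pow_dvd_pow p ?_
    by_contra hlt
    refine hne ?_
    push Not at hlt
    suffices h : ∀ x y : (P : Subgroup G), x * y = y * x from congrArg Subtype.val (h ⟨a, ha⟩ ⟨b, hb⟩)
    interval_cases k
    · intro x y
      haveI : Subsingleton (P : Subgroup G) := (Nat.card_eq_one_iff_unique.mp (by simpa using hk)).1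
      exact Subsingleton.elim _ _
    · intro x y
      haveI : IsCyclic (P : Subgroup G) := isCyclic_of_prime_card (p := p) (by simpa using hk)
      letI := IsCyclic.commGroup (α := (P : Subgroup G))
      exact mul_comm x y
    · exact IsPGroup.commutative_of_card_eq_prime_sq hk
  choose d hd0 hd using fun χ : Cfsg.IrrCharacter G => Cfsg.Agent.Char.IsIrrCharacter.exists_degree χ.2
  have hsum : ∑ χ, d χ ^ 2 = Nat.card G := by
    have := Cfsg.Agent.Char.sum_sq_degree (G := G)
    simp only [hd] at this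
    exact_mod_cast this
  set one := Cfsg.Agent.Char.principal G with hone
  have hex : ∃ χ, χ ≠ one ∧ d χ < p := by
    by_contra hc
    push Not at hc
    rw [← Finset.add_sum_erase _ _ (Finset.mem_univ one)] at hsum
    have h1 : (Finset.univ.erase one).card • p ^ 2 ≤ ∑ χ ∈ Finset.univ.erase one, d χ ^ 2 :=
      Finset.card_nsmul_le_sum _ _ _ fun χ hχ => Nat.pow_le_pow_left (hc χ (Finset.mem_erase.mp hχ).1) 2
    rw [Finset.card_erase_of_mem (Finset.mem_univ _), Finset.card_univ, ← Nat.card_eq_fintype_card,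
      Cfsg.Agent.Char.card_irrCharacter, smul_eq_mul] at h1
    obtain ⟨t, ht⟩ := (Nat.pow_dvd_pow p (by norm_num : 2 ≤ 3)).trans (hcardP.trans (Subgroup.card_subgroup_dvd_card _))
    have h2 : 1 ≤ d one ^ 2 := Nat.one_le_pow _ _ (hd0 one)
    have h3 : t + 1 ≤ Nat.card (ConjClasses G) := by
      by_contra h4
      push Not at h4
      have := Nat.mul_le_mul_left (p ^ 2) (Nat.le_of_lt_succ h4)
      omega
    have h5 : t * p ^ 2 ≤ (Nat.card (ConjClasses G) - 1) * p ^ 2 := Nat.mul_le_mul_right _ (by omega)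
    rw [mul_comm] at ht
    omega
  obtain ⟨χ, hχ1, hχp⟩ := hex
  obtain ⟨N, hN, hmem, -⟩ := Cfsg.Agent.Char.IsCharacter.exists_kernel (Cfsg.Agent.Char.IsIrrCharacter.isCharacter χ.2)
  have hfaith : ∀ g, (χ : G → ℂ) g = (χ : G → ℂ) 1 → g = 1 := by
    rcases hN.eq_bot_or_eq_top with h | h
    · exact fun g hg => Subgroup.mem_bot.mp (h ▸ (hmem g).mpr hg)
    · exfalso
      have hconst : ∀ g, (χ : G → ℂ) g = (χ : G → ℂ) 1 := fun g => (hmem g).mp (h ▸ Subgroup.mem_top g)
      have h0 := Cfsg.Agent.Char.classInner_irr_of_ne χ.2 one.2 (fun e => hχ1 (Subtype.ext e))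
      simp only [Cfsg.classInner, hone, Cfsg.Agent.Char.principal, map_one, mul_one, hconst, hd χ,
        Finset.sum_const, Finset.card_univ, nsmul_eq_mul, mul_eq_zero, inv_eq_zero, Nat.cast_eq_zero] at h0
      have := hd0 χ
      rcases h0 with h0 | h0 | h0 <;> first | omega | exact Nat.card_pos.ne' h0 | exact Fintype.card_ne_zero h0
  obtain ⟨m, hm⟩ := Cfsg.Agent.Char.IsCharacter.exists_decomp
    (Cfsg.Agent.Char.IsCharacter.restrict (Cfsg.Agent.Char.IsIrrCharacter.isCharacter χ.2) (P : Subgroup G))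
  refine hne ?_
  have hc1 : a * b * a⁻¹ * b⁻¹ = 1 := by
    refine hfaith _ ?_
    have e := congrFun hm (⟨a, ha⟩ * ⟨b, hb⟩ * ⟨a, ha⟩⁻¹ * ⟨b, hb⟩⁻¹)
    have e1 := congrFun hm 1
    simp only [Subgroup.coe_mul, Subgroup.coe_inv, Subgroup.coe_one, Finset.sum_apply, Pi.smul_apply, smul_eq_mul] at e e1
    rw [e, e1]
    refine Finset.sum_congr rfl fun ψ _ => ?_
    by_cases hψ : m ψ = 0
    · simp [hψ]
    obtain ⟨k, hk0, hk⟩ := Cfsg.Agent.Char.IsIrrCharacter.exists_degree ψ.2
    have hkle : k ≤ d χ := by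
      refine Cfsg.Agent.Char.degree_le_of_constituent (Cfsg.Agent.Char.IsCharacter.restrict
        (Cfsg.Agent.Char.IsIrrCharacter.isCharacter χ.2) (P : Subgroup G)) ψ.2 ?_ (by simpa using hd χ) hk
      rw [hm, Cfsg.Agent.Char.classInner_combination]
      exact_mod_cast hψ
    obtain ⟨i, hi⟩ := IsPGroup.iff_card.mp P.2
    obtain ⟨j, -, hj⟩ := (Nat.dvd_prime_pow Fact.out).mp (hi ▸ Cfsg.Agent.Char.degree_dvd_card ψ.2 hk)
    have hj0 : j = 0 := by
      by_contra hj0
      have := Nat.le_of_dvd hk0 (hj ▸ dvd_pow_self p hj0)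
      omega
    rw [hj0, pow_zero] at hj
    obtain ⟨f, hf⟩ := Cfsg.Agent.Char.exists_hom_of_degree_one (Cfsg.Agent.Char.IsIrrCharacter.isCharacter ψ.2) (by rw [hk, hj, Nat.cast_one])
    rw [hf]
    simp only
    rw [map_mul, map_mul, map_mul, map_inv, map_inv, mul_right_comm (f _) (f _), mul_inv_cancel, one_mul,
      mul_inv_cancel, map_one]
  calc a * b = a * b * a⁻¹ * b⁻¹ * (b * a) := by group
    _ = b * a := by rw [hc1, one_mul]


end Cfsg.Agent.S0186
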