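import Cfsg.Statements.S0187
import Cfsg.Agent.Lib.Char.Complete
-- import your own Cfsg.Agent.* helpers here

set_option autoImplicit false
open Cfsg

namespace Cfsg.Agent.S0187

/-- A finite group is commutative if and only if every irreducible complex character has degree 1. -/
theorem result {G : Type*} [Group G] [Finite G] : (∀ a b : G, a * b = b * a) ↔ ∀ χ : Cfsg.IrrCharacter G, (χ : G → ℂ) 1 = 1 := by
  constructor
  · intro hab χ
    haveI : Fintype G := Fintype.ofFinite G
    obtain ⟨n, ρ, hρ, hχ⟩ := χ.2
    haveI : IsMulCommutative G := ⟨⟨hab⟩⟩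
    rw [← hχ, Representation.char_one,
      Representation.IsIrreducible.finrank_eq_one_of_isMulCommutative ρ, Nat.cast_one]
  · intro h a b
    haveI : Fintype G := Fintype.ofFinite G
    have key : IsConj (a * b) (b * a) := isConj_iff.mpr ⟨b, by group⟩
    have hcard := Cfsg.Agent.Char.card_linear (G := G)
    rw [Nat.card_congr (Equiv.subtypeUnivEquiv h), Cfsg.Agent.Char.card_irrCharacter] at hcard
    have hsum := Cfsg.Agent.Char.sum_sq_degree (G := G)
    simp only [h, one_pow, Finset.sum_const, Finset.card_univ, nsmul_eq_mul, mul_one,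
      ← Nat.card_eq_fintype_card, Cfsg.Agent.Char.card_irrCharacter, Nat.cast_inj] at hsum
    have hinj : Function.Injective (ConjClasses.mk (α := G)) :=
      (Function.Surjective.bijective_of_nat_card_le ConjClasses.mk_surjective hsum.ge).injective
    exact hinj (ConjClasses.mk_eq_mk_iff_isConj.mpr key)


end Cfsg.Agent.S0187
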