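import Cfsg.Statements.S0188
import Cfsg.Agent.Lib.Char.Complete
import Cfsg.Agent.Lib.Char.Induction
-- import your own Cfsg.Agent.* helpers here

set_option autoImplicit false
open Cfsg

namespace Cfsg.Agent.S0188

/-- The irreducible complex characters of G × H are precisely the functions (g, h) ↦ φ g * ψ h with φ, ψ irreducible characters of G and H. -/
theorem result {G : Type*} [Group G] [Finite G] {H : Type*} [Group H] [Finite H] (θ : G × H → ℂ) : Cfsg.IsIrrCharacter (G × H) θ ↔ ∃ (φ : G → ℂ) (ψ : H → ℂ), Cfsg.IsIrrCharacter G φ ∧ Cfsg.IsIrrCharacter H ψ ∧ θ = fun x => φ x.1 * ψ x.2 := by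
  classical
  haveI : Fintype G := Fintype.ofFinite G
  haveI : Fintype H := Fintype.ofFinite H
  have hirr : ∀ (φ : G → ℂ) (ψ : H → ℂ), Cfsg.IsIrrCharacter G φ → Cfsg.IsIrrCharacter H ψ →
      Cfsg.IsIrrCharacter (G × H) (fun x => φ x.1 * ψ x.2) := by
    intro φ ψ hφ hψ
    refine Cfsg.Agent.Char.IsCharacter.isIrr_of_norm_one (Cfsg.Agent.Char.IsCharacter.mul
      (Cfsg.Agent.Char.IsCharacter.comp (Cfsg.Agent.Char.IsIrrCharacter.isCharacter hφ) (MonoidHom.fst G H))
      (Cfsg.Agent.Char.IsCharacter.comp (Cfsg.Agent.Char.IsIrrCharacter.isCharacter hψ) (MonoidHom.snd G H))) ?_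
    have h1 := Cfsg.Agent.Char.classInner_self_irr hφ
    have h2 := Cfsg.Agent.Char.classInner_self_irr hψ
    simp only [Cfsg.classInner] at h1 h2 ⊢
    calc _ = ((Nat.card G : ℂ)⁻¹ * ∑ g, φ g * (starRingEnd ℂ) (φ g)) * ((Nat.card H : ℂ)⁻¹ * ∑ h, ψ h * (starRingEnd ℂ) (ψ h)) := by
          rw [Nat.card_prod, Nat.cast_mul, mul_inv, mul_mul_mul_comm, Fintype.sum_mul_sum, Fintype.sum_prod_type]
          congr 1
          refine Finset.sum_congr rfl fun g _ => Finset.sum_congr rfl fun h _ => ?_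
          simp only [Pi.mul_apply, MonoidHom.coe_fst, MonoidHom.coe_snd, map_mul]
          ring
      _ = 1 := by rw [h1, h2, one_mul]
  refine ⟨fun hθ => ?_, fun ⟨φ, ψ, hφ, hψ, e⟩ => e ▸ hirr φ ψ hφ hψ⟩
  by_contra hc
  push Not at hc
  have hθc := Cfsg.Agent.Char.IsCharacter.isClassFunction (Cfsg.Agent.Char.IsIrrCharacter.isCharacter hθ)
  have hz : ∀ (g : G) (ψ : H → ℂ), Cfsg.IsIrrCharacter H ψ → ∑ h : H, θ (g, h) * (starRingEnd ℂ) (ψ h) = 0 := by
    intro g ψ hψ
    refine congrFun (Cfsg.Agent.Char.eq_zero_of_orthogonal (f := fun g => ∑ h : H, θ (g, h) * (starRingEnd ℂ) (ψ h)) ?_ ?_) g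
    · intro a b
      refine Finset.sum_congr rfl fun h _ => ?_
      have := hθc (a, h) (b, 1)
      simp only [Prod.mk_mul_mk, Prod.inv_mk, inv_one, one_mul, mul_one] at this
      rw [this]
    · intro φ hφ
      have := Cfsg.Agent.Char.classInner_irr_of_ne hθ (hirr φ ψ hφ hψ) (hc φ ψ hφ hψ)
      simp only [Cfsg.classInner, Nat.card_prod, Fintype.sum_prod_type, mul_eq_zero, inv_eq_zero, Nat.cast_eq_zero, Nat.card_pos.ne', or_self, false_or] at this
      simp only [Cfsg.classInner, Finset.sum_mul]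
      refine mul_eq_zero_of_right _ (Eq.trans ?_ this)
      refine Finset.sum_congr rfl fun g _ => Finset.sum_congr rfl fun h _ => ?_
      rw [map_mul]
      ring
  have h1 : ∀ g h, θ (g, h) = 0 := by
    intro g
    refine congrFun (Cfsg.Agent.Char.eq_zero_of_orthogonal (f := fun h => θ (g, h)) ?_ ?_)
    · intro a b
      have := hθc (g, a) (1, b)
      simpa [Prod.mk_mul_mk] using this
    · intro ψ hψ
      simp only [Cfsg.classInner]
      rw [hz g ψ hψ, mul_zero]
  exact Cfsg.Agent.Char.IsIrrCharacter.one_ne_zero hθ (h1 1 1)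


end Cfsg.Agent.S0188
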