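import Cfsg.Statements.S0191
import Cfsg.Agent.Lib.Char.Galois
-- import your own Cfsg.Agent.* helpers here

set_option autoImplicit false
open Cfsg

namespace Cfsg.Agent.S0191

/-- An irreducible complex representation of a finite group of degree greater than 1 has a character that vanishes somewhere. -/
theorem result {G : Type*} [Group G] [Finite G] {V : Type*} [AddCommGroup V] [Module ℂ V] [FiniteDimensional ℂ V] (ρ : Representation ℂ G V) [ρ.IsIrreducible] (hdeg : 1 < Module.finrank ℂ V) : ∃ g : G, ρ.character g = 0 := by
  classical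
  haveI : Fintype G := Fintype.ofFinite G
  by_contra hc
  push Not at hc
  have hχ := Cfsg.Agent.Char.isIrrCharacter_of_rep ρ
  have h1 := Cfsg.Agent.CharGalois.card_le_sum_normSq_char (Cfsg.Agent.Char.IsIrrCharacter.isCharacter hχ)
    (Finset.univ.erase (1 : G)) (fun g hg k hk => by
      simp only [Finset.mem_erase, Finset.mem_univ, and_true] at hg ⊢
      exact fun h => hg ((powCoprime hk.symm).injective (show g ^ k = (1 : G) ^ k by rw [h, one_pow])))
    (fun g _ => hc g)
  have he := Cfsg.Agent.Char.classInner_self_irr hχ
  rw [Cfsg.Agent.Char.classInner_self_eq, Complex.ofReal_eq_one, inv_mul_eq_one₀ (Nat.cast_ne_zero.mpr Nat.card_pos.ne'),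
    ← Finset.add_sum_erase _ _ (Finset.mem_univ (1 : G)), Representation.char_one, Complex.norm_natCast] at he
  rw [Finset.card_erase_of_mem (Finset.mem_univ _), Finset.card_univ, Nat.cast_sub Fintype.card_pos, Nat.cast_one,
    ← Nat.card_eq_fintype_card] at h1
  have h2 : (2 : ℝ) ≤ Module.finrank ℂ V := by exact_mod_cast hdeg
  nlinarith


end Cfsg.Agent.S0191
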