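import Cfsg.Statements.S0192
import Cfsg.Agent.Lib.Char.Invariants
-- import your own Cfsg.Agent.* helpers here

set_option autoImplicit false
open Cfsg

namespace Cfsg.Agent.S0192

/-- Brauer's generation criterion. Let G be a finite simple group, H₁ and H₂ subgroups, and χ a non-principal irreducible character. If the multiplicity of the principal character in χ restricted to H₁ ⊓ H₂ is less than the sum of the corresponding multiplicities for H₁ and H₂, then H₁ and H₂ do not generate G. -/
theorem result {G : Type*} [Group G] [Fintype G] [IsSimpleGroup G] (H₁ H₂ : Subgroup G) [Fintype H₁] [Fintype H₂] [Fintype ↥(H₁ ⊓ H₂)] (χ : G → ℂ) (hχ : Cfsg.IsIrrCharacter G χ) (hχ1 : χ ≠ fun _ => 1) (hlt : (Cfsg.classInner (fun x : ↥(H₁ ⊓ H₂) => χ x) (fun _ => 1)).re < (Cfsg.classInner (fun x : H₁ => χ x) (fun _ => 1)).re + (Cfsg.classInner (fun x : H₂ => χ x) (fun _ => 1)).re) : H₁ ⊔ H₂ ≠ ⊤ := by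
  intro htop
  obtain ⟨n, ρ, hρ, rfl⟩ := hχ
  let inv : (H : Subgroup G) → Submodule ℂ (Fin n → ℂ) := fun H => Representation.invariants (ρ.comp H.subtype)
  have key : ∀ (H : Subgroup G) [Fintype H], (Cfsg.classInner (fun x : H => ρ.character x) (fun _ => 1)).re =
      (Module.finrank ℂ (inv H) : ℝ) := by
    intro H _
    rw [show (fun x : H => ρ.character x) = Representation.character (ρ.comp H.subtype : Representation ℂ H (Fin n → ℂ)) from rfl,
      Cfsg.Agent.Char.classInner_one_eq_finrank_invariants]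
    simp [inv]
  rw [key, key, key] at hlt
  have hmem : ∀ (H : Subgroup G) (v : Fin n → ℂ), v ∈ inv H ↔ ∀ x ∈ H, ρ x v = v := fun H v => by
    simp only [inv, Representation.mem_invariants]
    exact ⟨fun h x hx => h ⟨x, hx⟩, fun h x => h x x.2⟩
  have hle : inv H₁ ⊔ inv H₂ ≤ inv (H₁ ⊓ H₂) := sup_le
    (fun v hv => (hmem _ v).mpr fun x hx => (hmem _ v).mp hv x hx.1)
    (fun v hv => (hmem _ v).mpr fun x hx => (hmem _ v).mp hv x hx.2)
  have hbot : inv H₁ ⊓ inv H₂ = ⊥ := by
    rw [eq_bot_iff, ← Cfsg.Agent.Char.invariants_eq_bot ρ hχ1]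
    rintro v ⟨h1, h2⟩
    rw [Representation.mem_invariants]
    let S : Subgroup G :=
      { carrier := {g | ρ g v = v}
        one_mem' := by simp
        mul_mem' := fun {a b} (ha : ρ a v = v) (hb : ρ b v = v) => by simp [map_mul, ha, hb]
        inv_mem' := fun {a} (ha : ρ a v = v) => by
          show ρ a⁻¹ v = v
          conv_lhs => rw [← ha]
          simp }
    have hS : H₁ ⊔ H₂ ≤ S := sup_le (fun x hx => (hmem _ v).mp h1 x hx) (fun x hx => (hmem _ v).mp h2 x hx)
    exact fun g => hS (htop ▸ Subgroup.mem_top g)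
  have h3 := Submodule.finrank_sup_add_finrank_inf_eq (inv H₁) (inv H₂)
  rw [hbot, finrank_bot, add_zero] at h3
  have h4 := Submodule.finrank_mono hle
  have : Module.finrank ℂ (inv (H₁ ⊓ H₂)) < Module.finrank ℂ (inv H₁) + Module.finrank ℂ (inv H₂) := by exact_mod_cast hlt
  omega


end Cfsg.Agent.S0192
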