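import Cfsg.Statements.S0194
import Cfsg.Agent.Lib.Char.Orbit
-- import your own Cfsg.Agent.* helpers here

set_option autoImplicit false
open scoped ComplexConjugate
open Cfsg

namespace Cfsg.Agent.S0194

/-- Let G have odd order, H be a normal subgroup and θ a non-principal irreducible character of H. Then the function induced from θ is orthogonal to its complex conjugate. -/
theorem result {G : Type*} [Group G] [Fintype G] (hodd : Odd (Nat.card G)) (H : Subgroup G) [H.Normal] (θ : H → ℂ) (hθ : Cfsg.IsIrrCharacter H θ) (hθ1 : θ ≠ fun _ => 1) : Cfsg.classInner (fun g => conj (Cfsg.indFun H θ g)) (Cfsg.indFun H θ) = 0 := by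
  classical
  haveI : Fintype H := Fintype.ofFinite H
  have e : (fun g => conj (Cfsg.indFun H θ g)) = Cfsg.indFun H (fun h => conj (θ h)) := by
    funext g
    simp only [Cfsg.Agent.Char.indFun_apply, map_mul, map_inv₀, map_natCast, map_sum]
    congr 1
    refine Finset.sum_congr rfl fun x _ => ?_
    by_cases hx : x⁻¹ * g * x ∈ H
    · rw [Cfsg.Agent.Char.extendByZero_mem H _ hx, Cfsg.Agent.Char.extendByZero_mem H _ hx]
    · rw [Cfsg.Agent.Char.extendByZero_not_mem H _ hx, Cfsg.Agent.Char.extendByZero_not_mem H _ hx,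
        map_zero]
  rw [e, Cfsg.Agent.Char.classInner_indFun_normal H (Cfsg.Agent.Char.IsIrrCharacter.conj hθ) hθ]
  have hemp : IsEmpty {g : G // Cfsg.Agent.Char.conjChar H g (fun h => conj (θ h)) = θ} := by
    refine ⟨fun ⟨g, hg⟩ => hθ1 ?_⟩
    have h2 : g * g ∈ Cfsg.Agent.Char.inertia H θ := by
      rw [Cfsg.Agent.Char.mem_inertia, Cfsg.Agent.Char.conjChar_mul]
      funext h
      have a1 := congrFun hg h
      have a2 := congrFun hg (Cfsg.Agent.Char.conjHom H g h)
      have a3 := congrArg conj a2
      rw [Complex.conj_conj] at a3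
      show θ (Cfsg.Agent.Char.conjHom H g (Cfsg.Agent.Char.conjHom H g h)) = θ h
      exact a3.trans a1
    obtain ⟨m, hm⟩ := hodd
    have hg1 : g ∈ Cfsg.Agent.Char.inertia H θ := by
      have e1 : g = (g * g) ^ (m + 1) := by
        rw [← pow_two, ← pow_mul, show 2 * (m + 1) = Nat.card G + 1 by omega, pow_succ,
          pow_card_eq_one', one_mul]
      rw [e1]
      exact pow_mem h2 _
    have hreal : ∀ h, θ h = conj (θ h) := by
      intro h
      obtain ⟨h', rfl⟩ := Cfsg.Agent.Char.conjHom_surjective H g h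
      exact (congrFun hg1 h').trans (congrFun hg h').symm
    have hH : Odd (Nat.card H) := Odd.of_dvd_nat ⟨m, hm⟩ (Subgroup.card_subgroup_dvd_card H)
    refine Cfsg.Agent.Char.eq_one_of_fixed (fun h : H => h⁻¹) inv_one (fun χ hχ => ?_) (fun k hk => ?_)
      hθ (funext fun h => ?_)
    · have := Cfsg.Agent.Char.IsIrrCharacter.conj hχ
      convert this using 1
      exact funext fun h => Cfsg.Agent.Char.IsCharacter.inv
        (Cfsg.Agent.Char.IsIrrCharacter.isCharacter hχ) h
    · obtain ⟨x, hx⟩ := isConj_iff.mp hk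
      obtain ⟨n, hn⟩ := hH
      have hx1 : x * k * x⁻¹ = k⁻¹ := by
        rw [← inv_inj, inv_inv]; simpa [mul_assoc] using hx
      have hx2 : x * x * k = k * (x * x) := by
        calc x * x * k = x * (x * k * x⁻¹) * x⁻¹ * (x * x) := by group
          _ = x * k⁻¹ * x⁻¹ * (x * x) := by rw [hx1]
          _ = k * (x * x) := by rw [hx]
      have hx3 : x * k = k * x := by
        have e1 : x = (x * x) ^ (n + 1) := by
          rw [← pow_two, ← pow_mul, show 2 * (n + 1) = Nat.card H + 1 by omega, pow_succ,
            pow_card_eq_one', one_mul]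
        rw [e1]
        exact (Commute.pow_left hx2 _).eq
      rw [hx3, mul_inv_cancel_right] at hx1
      have h1 : k ^ 2 = 1 := by
        rw [pow_two]
        nth_rewrite 2 [hx1]
        exact mul_inv_cancel k
      have := pow_card_eq_one' (x := k)
      rwa [hn, pow_succ, pow_mul, h1, one_pow, one_mul] at this
    · rw [Cfsg.Agent.Char.IsCharacter.inv (Cfsg.Agent.Char.IsIrrCharacter.isCharacter hθ), ← hreal]
  simp


end Cfsg.Agent.S0194
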