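import Cfsg.Statements.S0195
-- import your own Cfsg.Agent.* helpers here

set_option autoImplicit false
open Cfsg

namespace Cfsg.Agent.S0195

/-- Let A be a subgroup of G that equals the centralizer of each of its non-identity elements. If g lies outside the normalizer of A, then the only element of A conjugated by g into A is the identity (A is a trivial-intersection set). -/
theorem result {G : Type*} [Group G] [Finite G] (A : Subgroup G) (hA : ∀ x ∈ A, x ≠ 1 → Subgroup.centralizer ({x} : Set G) = A) (g : G) (hg : g ∉ Subgroup.normalizer (A : Set G)) (x : G) (hx : x ∈ A) (hgx : g * x * g⁻¹ ∈ A) : x = 1 := by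
  by_contra hx1
  apply hg
  set y := g * x * g⁻¹ with hy
  have hy1 : y ≠ 1 := fun h => hx1 (by simpa [hy] using h)
  rw [Subgroup.mem_normalizer_iff]
  intro z
  have h1 := hA x hx hx1
  have h2 := hA y hgx hy1
  rw [show z ∈ (A : Subgroup G) ↔ z ∈ Subgroup.centralizer ({x} : Set G) by rw [h1],
    show g * z * g⁻¹ ∈ (A : Subgroup G) ↔ g * z * g⁻¹ ∈ Subgroup.centralizer ({y} : Set G) by rw [h2]]
  simp [Subgroup.mem_centralizer_singleton_iff, hy, mul_assoc]
  rw [← mul_assoc z x g⁻¹, ← mul_assoc x z g⁻¹, mul_left_inj]


end Cfsg.Agent.S0195
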