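import Cfsg.Statements.S0196
import Mathlib
-- import your own Cfsg.Agent.* helpers here

set_option autoImplicit false
open Cfsg

namespace Cfsg.Agent.S0196

/-- Let A be a subgroup of a finite group G that equals the centralizer of each of its non-identity elements, and let N be its normalizer. Then the index of A in N divides |A| − 1 (N/A permutes the non-identity elements of A in orbits of full length). -/
theorem result {G : Type*} [Group G] [Finite G] (A : Subgroup G) (hA : ∀ x ∈ A, x ≠ 1 → Subgroup.centralizer ({x} : Set G) = A) : (A.subgroupOf (Subgroup.normalizer (A : Set G))).index ∣ Nat.card A - 1 := by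
  classical
  haveI : Fintype G := Fintype.ofFinite G
  set Q := A.subgroupOf (Subgroup.normalizer (A : Set G))
  rcases eq_or_ne A ⊥ with hA0 | hA0
  · simp [hA0]
  haveI : Q.Normal := Subgroup.normal_subgroupOf_iff_le_normalizer Subgroup.le_normalizer |>.mpr le_rfl
  let N := Subgroup.normalizer (A : Set G)
  let X := {a : A // a ≠ 1}
  letI act : MulAction N X :=
    { smul := fun g a => ⟨⟨(g : G) * (a : A) * (g : G)⁻¹,
          (Subgroup.mem_normalizer_iff.mp g.2 _).mp (a : A).2⟩, fun e => a.2 (Subtype.ext (by
            simpa using congrArg Subtype.val e))⟩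
      one_smul := fun a => Subtype.ext (Subtype.ext (by
        show ((1 : N) : G) * (a : A) * ((1 : N) : G)⁻¹ = _; simp))
      mul_smul := fun g h a => Subtype.ext (Subtype.ext (by
        show ((g * h : N) : G) * (a : A) * ((g * h : N) : G)⁻¹ =
          (g : G) * ((h : G) * (a : A) * (h : G)⁻¹) * (g : G)⁻¹
        simp [mul_assoc])) }
  have hst : ∀ a : X, MulAction.stabilizer N a = Q := by
    intro a
    ext g
    have hCA := hA ((a : A) : G) (a : A).2 (fun e => a.2 (Subtype.ext e))
    show g • a = a ↔ (g : G) ∈ A
    conv_rhs => rw [← hCA, Subgroup.mem_centralizer_singleton_iff]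
    constructor
    · intro h
      exact mul_inv_eq_iff_eq_mul.mp (congrArg (fun z : X => ((z : A) : G)) h)
    · intro h
      exact Subtype.ext (Subtype.ext (mul_inv_eq_iff_eq_mul.mpr h))
  haveI : Fintype (MulAction.orbitRel.Quotient N X) := Fintype.ofFinite _
  have hX : Nat.card A - 1 = Nat.card X := by
    rw [Nat.card_eq_fintype_card, Nat.card_eq_fintype_card]
    simp [X, Fintype.card_subtype_compl]
  rw [hX, Nat.card_congr (MulAction.selfEquivSigmaOrbits N X), Nat.card_sigma]
  refine dvd_trans dvd_rfl (Finset.sum_induction _ (fun z => Q.index ∣ z) (fun a b => dvd_add) (dvd_zero _) fun q _ => ?_)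
  rw [Nat.card_congr (MulAction.orbitEquivQuotientStabilizer N q.out), hst]
  exact dvd_rfl


end Cfsg.Agent.S0196
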