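import Cfsg.Statements.S0207
import Cfsg.Agent.Lib.Involutions.Dihedral

set_option autoImplicit false
open Cfsg

namespace Cfsg.Agent.S0207

/-- If x, y are distinct involutions, every element of the subgroup they generate that lies outside the cyclic subgroup generated by xy is an involution. -/
theorem result {G : Type*} [Group G] [Finite G] (x y : G) (hx : orderOf x = 2) (hy : orderOf y = 2) (hxy : x ≠ y) (d : G) (hd : d ∈ Subgroup.closure ({x, y} : Set G)) (hd' : d ∉ Subgroup.zpowers (x * y)) : orderOf d = 2 := by
  obtain ⟨k, hk⟩ := Invol.mem_closure_pair hx hy hd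
  rcases hk with rfl | rfl
  · exact absurd ⟨k, rfl⟩ hd'
  · refine Invol.order_two_of_sq (Invol.inverted_mul_invol hx (Invol.conj_mul hx hy) k) ?_
    intro h
    exact Invol.not_mem_zpowers hx hy hxy
      ⟨-k, (zpow_neg (x * y) k).trans (inv_eq_of_mul_eq_one_right h)⟩

end Cfsg.Agent.S0207
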