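import Cfsg.Statements.S0212
import Cfsg.Agent.Lib.Involutions.Counting
import Cfsg.Agent.Lib.Small.Embedding

set_option autoImplicit false
open Cfsg

namespace Cfsg.Agent.S0212

/-- The Brauer–Fowler bound: if G is a finite simple group and t an involution of G whose centralizer has order n, then |G| ≤ (2n^2)!. -/
theorem result {G : Type*} [Group G] [Finite G] [IsSimpleGroup G] (t : G) (ht : orderOf t = 2) : Nat.card G ≤ Nat.factorial (2 * (Nat.card (Subgroup.centralizer ({t} : Set G))) ^ 2) := by
  set c := Nat.card (Subgroup.centralizer ({t} : Set G)) with hc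
  have hc0 : 0 < c := Nat.card_pos
  by_cases hab : IsMulCommutative G
  · have htop : Subgroup.centralizer ({t} : Set G) = ⊤ := by
      rw [eq_top_iff]
      intro g _
      rw [Subgroup.mem_centralizer_singleton_iff]
      exact hab.is_comm.comm g t
    have : c = Nat.card G := by rw [hc, htop, Subgroup.card_top]
    rw [← this]
    calc c ≤ 2 * c ^ 2 := by nlinarith
      _ ≤ _ := Nat.self_le_factorial _
  · have hZ : Subgroup.center G = ⊥ := by
      rcases (inferInstance : (Subgroup.center G).Normal).eq_bot_or_eq_top with h | h
      · exact h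
      · exact absurd ⟨⟨fun a b => Subgroup.mem_center_iff.mp (h ▸ Subgroup.mem_top b) a⟩⟩ hab
    obtain ⟨H, hH, hb⟩ := Invol.exists_small_index
      (even_iff_two_dvd.mpr (ht ▸ orderOf_dvd_natCard t)) (by rw [hZ]; simp)
    have h5 := Small.five_le_index hab hH
    rcases hb with h | h
    · omega
    have hn := Invol.card_centralizer_mul_numInvol ht
    set n := Invol.numInvol G with hn'
    set g := Nat.card G
    have hg : 0 < g := Nat.card_pos
    rw [← hc] at hn
    have hn0 : 0 < n := by
      rcases Nat.eq_zero_or_pos n with h0 | h0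
      · rw [h0, mul_zero] at hn; omega
      · exact h0
    have hn1 : n ≤ g := by
      rw [hn', Invol.numInvol]
      exact Nat.card_le_card_of_injective Subtype.val Subtype.val_injective
    have h1 : H.index * (n * n) ≤ c ^ 2 * (n * n) := by
      have e1 : 2 * H.index * (n * n) ≤ 2 * H.index * (n * (n + 1)) := by gcongr; omega
      have e2 : g * (g + n - 1) ≤ g * (2 * g) := by gcongr; omega
      have e3 : g * g ≤ (c * n) * (c * n) := Nat.mul_le_mul hn hn
      nlinarith
    have h2 : H.index ≤ c ^ 2 := Nat.le_of_mul_le_mul_right h1 (by positivity)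
    calc g ≤ H.index.factorial := Nat.le_of_dvd (Nat.factorial_pos _) (Small.card_dvd_factorial hH)
      _ ≤ _ := Nat.factorial_le (by omega)

end Cfsg.Agent.S0212
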