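import Cfsg.Statements.S0214
import Cfsg.Agent.Lib.Involutions.StronglyEmbedded

set_option autoImplicit false
open Cfsg

namespace Cfsg.Agent.S0214

/-- Let H be a proper subgroup of the finite group G and P a nontrivial Sylow 2-subgroup of H. Then H is strongly embedded in G if and only if N_G(X) ≤ H for every nontrivial subgroup X of P. -/
theorem result {G : Type*} [Group G] [Finite G] (H : Subgroup G) (hH : H ≠ ⊤) (P : Sylow 2 ↥H) (hP : (P : Subgroup ↥H) ≠ ⊥) : Cfsg.IsStronglyEmbedded H ↔ (∀ X : Subgroup ↥H, X ≤ (P : Subgroup ↥H) → X ≠ ⊥ → Subgroup.normalizer ((X.map H.subtype : Subgroup G) : Set G) ≤ H) := by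
  constructor
  · intro hSE X hX hXne g hg
    haveI : Nontrivial X := (Subgroup.nontrivial_iff_ne_bot X).mpr hXne
    obtain ⟨k, hk⟩ := IsPGroup.iff_card.mp (P.2.to_le hX)
    have h1 : 1 < Nat.card X := Finite.one_lt_card
    have h2 : 2 ∣ Nat.card X := by
      rw [hk] at h1 ⊢
      exact dvd_pow_self 2 (by rintro rfl; simp at h1)
    obtain ⟨t, ht⟩ := exists_prime_orderOf_dvd_card' (p := 2) h2
    have hto : orderOf ((t : H) : G) = 2 := by rw [Subgroup.orderOf_coe, Subgroup.orderOf_coe, ht]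
    have hmem := (Subgroup.mem_normalizer_iff.mp hg ((t : H) : G)).mp ⟨t, t.2, rfl⟩
    exact Invol.se_mem_of_conj hSE hto (t : H).2 (Subgroup.map_subtype_le _ hmem)
  · intro hN
    haveI : Nontrivial P := (Subgroup.nontrivial_iff_ne_bot _).mpr hP
    obtain ⟨k, hk⟩ := IsPGroup.iff_card.mp P.2
    have h2 : 2 ∣ Nat.card P := by
      have h1 : 1 < Nat.card P := Finite.one_lt_card
      rw [hk] at h1 ⊢
      exact dvd_pow_self 2 (by rintro rfl; simp at h1)
    have heven : Even (Nat.card H) := even_iff_two_dvd.mpr (h2.trans (P : Subgroup H).card_subgroup_dvd_card)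
    refine Invol.se_of_centralizers hH P heven (hN _ le_rfl hP) ?_
    intro t ht hto c hc
    have hp : IsPGroup 2 (Subgroup.zpowers (⟨t, ht⟩ : H)) :=
      IsPGroup.of_card (n := 1) (by rw [Nat.card_zpowers, Subgroup.orderOf_mk, hto, pow_one])
    obtain ⟨Q, hQ⟩ := hp.exists_le_sylow
    obtain ⟨a, rfl⟩ := MulAction.exists_smul_eq H P Q
    have hmem := hQ (Subgroup.mem_zpowers _)
    rw [Sylow.smul_def, Sylow.pointwise_smul_def, Subgroup.mem_pointwise_smul_iff_inv_smul_mem] at hmem
    set u : H := (MulAut.conj a)⁻¹ • (⟨t, ht⟩ : H) with hu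
    have huval : (u : G) = (a : G)⁻¹ * t * a := by simp [hu]
    have huo : orderOf u = 2 := by
      rw [← Subgroup.orderOf_coe, huval,
        show (a : G)⁻¹ * t * a = (a : G)⁻¹ * t * (a : G)⁻¹⁻¹ by group, Invol.order_conj, hto]
    have hle := hN (Subgroup.zpowers u) (Subgroup.zpowers_le.mpr hmem)
      (by rw [Ne, Subgroup.zpowers_eq_bot]; exact Invol.ne_one huo)
    have hc' : (a : G)⁻¹ * c * a ∈ Subgroup.normalizer
        (((Subgroup.zpowers u).map H.subtype : Subgroup G) : Set G) := by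
      refine Subgroup.mem_normalizer_fintype ?_
      rintro _ ⟨y, hy, rfl⟩
      have hcu : Commute ((a : G)⁻¹ * c * a) (u : G) := by
        have h := Subgroup.mem_centralizer_singleton_iff.mp hc
        show _ = _
        rw [huval]
        calc (a : G)⁻¹ * c * a * ((a : G)⁻¹ * t * a) = (a : G)⁻¹ * (c * t) * a := by group
          _ = (a : G)⁻¹ * (t * c) * a := by rw [h]
          _ = _ := by group
      obtain ⟨j, rfl⟩ := Subgroup.mem_zpowers_iff.mp hy
      refine ⟨u ^ j, Subgroup.zpow_mem_zpowers _ _, ?_⟩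
      rw [map_zpow, Subgroup.coe_subtype, (hcu.zpow_right j).eq, mul_inv_cancel_right]
    have := mul_mem (mul_mem a.2 (hle hc')) (inv_mem a.2)
    rwa [show (a : G) * ((a : G)⁻¹ * c * a) * (a : G)⁻¹ = c by group] at this

end Cfsg.Agent.S0214
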