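import Cfsg.Statements.S0216
import Cfsg.Agent.Lib.Involutions.Basic
import Mathlib.GroupTheory.Sylow

set_option autoImplicit false
open Cfsg

namespace Cfsg.Agent.S0216

theorem conj_mem_sylow {G : Type*} [Group G] [Finite G] (P : Sylow 2 G) (u : G)
    (huP : u ∈ P) (hiso : ∀ g : G, g * u * g⁻¹ ∈ P → g * u * g⁻¹ = u)
    (Q : Sylow 2 G) (huQ : u ∈ Q) (g : G) (hg : g * u * g⁻¹ ∈ Q) : g * u * g⁻¹ = u := by
  obtain ⟨c, rfl⟩ := MulAction.exists_smul_eq G P Q
  rw [Sylow.smul_def, SetLike.mem_coe.symm] at huQ hg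
  have h1 : c⁻¹ * u * c ∈ P := by
    have := Subgroup.mem_pointwise_smul_iff_inv_smul_mem.mp huQ
    rwa [← map_inv, MulAut.smul_def, MulAut.conj_apply, inv_inv] at this
  have h2 : c⁻¹ * (g * u * g⁻¹) * c ∈ P := by
    have := Subgroup.mem_pointwise_smul_iff_inv_smul_mem.mp hg
    rwa [← map_inv, MulAut.smul_def, MulAut.conj_apply, inv_inv] at this
  have e1 := hiso c⁻¹ (by rwa [inv_inv])
  have e2 := hiso (c⁻¹ * g) (by
    rw [show c⁻¹ * g * u * (c⁻¹ * g)⁻¹ = c⁻¹ * (g * u * g⁻¹) * c by group]; exact h2)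
  rw [inv_inv] at e1
  calc g * u * g⁻¹ = c * (c⁻¹ * g * u * (c⁻¹ * g)⁻¹) * c⁻¹ := by group
    _ = c * u * c⁻¹ := by rw [e2]
    _ = c * (c⁻¹ * u * c) * c⁻¹ := by rw [e1]
    _ = u := by group

theorem pair_isPGroup {G : Type*} [Group G] [Finite G] {u v : G} (hu : orderOf u = 2)
    (hv : orderOf v = 2) (hc : Commute u v) :
    IsPGroup 2 (Subgroup.closure ({u, v} : Set G)) := by
  have hcomm : ∀ x ∈ Subgroup.closure ({u, v} : Set G), x ^ 2 = 1 := by
    intro x hx
    obtain ⟨k, hk⟩ := Invol.mem_closure_pair hu hv hx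
    have h2 : (u * v) ^ 2 = 1 := by
      rw [hc.mul_pow, ← hu, pow_orderOf_eq_one, hu, ← hv, pow_orderOf_eq_one, mul_one]
    have h3 : ((u * v) ^ k) ^ 2 = 1 := by
      rw [← zpow_natCast ((u * v) ^ k) 2, ← zpow_mul, mul_comm, zpow_mul, zpow_natCast, h2, one_zpow]
    rcases hk with rfl | rfl
    · exact h3
    · rw [pow_two]; exact Invol.inverted_mul_invol hu (Invol.conj_mul hu hv) k
  intro x
  exact ⟨1, Subtype.ext (by simpa using hcomm x.1 x.2)⟩

theorem no_commuting {G : Type*} [Group G] [Finite G] (P : Sylow 2 G) (u : G) (hu : orderOf u = 2)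
    (huP : u ∈ P) (hiso : ∀ g : G, g * u * g⁻¹ ∈ P → g * u * g⁻¹ = u) (g : G)
    (hc : Commute u (g * u * g⁻¹)) : g * u * g⁻¹ = u := by
  have hv : orderOf (g * u * g⁻¹) = 2 := by rw [Invol.order_conj, hu]
  obtain ⟨Q, hQ⟩ := (pair_isPGroup hu hv hc).exists_le_sylow
  exact conj_mem_sylow P u huP hiso Q (hQ (Subgroup.subset_closure (by simp))) g
    (hQ (Subgroup.subset_closure (by simp)))

/-- For an involution u in a Sylow 2-subgroup P of a finite group G, the following are equivalent: no G-conjugate of u other than u lies in P; every commutator of u with an element of G has odd order. -/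
theorem result {G : Type*} [Group G] [Finite G] (P : Sylow 2 G) (u : G) (hu : orderOf u = 2) (huP : u ∈ P) : (∀ g : G, g * u * g⁻¹ ∈ P → g * u * g⁻¹ = u) ↔ (∀ g : G, Odd (orderOf (u * g * u⁻¹ * g⁻¹))) := by
  constructor
  · intro hiso g
    rw [Invol.inv_self hu, mul_assoc, mul_assoc, ← mul_assoc g]
    set v := g * u * g⁻¹ with hv'
    have hv : orderOf v = 2 := by rw [hv', Invol.order_conj, hu]
    by_contra hodd
    rw [Nat.not_odd_iff_even] at hodd
    have hs := Invol.mul_half_spec hu hv hodd (orderOf_pos _)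
    refine hs.2 ?_
    by_cases h4 : 4 ∣ orderOf (u * v)
    · obtain ⟨d, -, hd⟩ := Invol.conj_mul_half_of_four_dvd hu hv h4
      rw [← hd]; exact no_commuting P u hu huP hiso d (hd ▸ hs.1)
    · obtain ⟨d, -, hd⟩ := Invol.conj_y_mul_half hu hv hodd h4
      have e : d * g * u * (d * g)⁻¹ = u * (u * v) ^ (orderOf (u * v) / 2) := by
        rw [← hd, hv']; group
      rw [← e]; exact no_commuting P u hu huP hiso (d * g) (e ▸ hs.1)
  · intro hodd g hg
    have hmem : u * g * u⁻¹ * g⁻¹ ∈ (P : Subgroup G) := by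
      rw [Invol.inv_self hu, mul_assoc, mul_assoc, ← mul_assoc g]
      exact mul_mem huP hg
    obtain ⟨k, hk⟩ := IsPGroup.iff_orderOf.mp P.2 ⟨_, hmem⟩
    rw [Subgroup.orderOf_mk] at hk
    have hk0 : k = 0 := by
      by_contra h
      have := hodd g
      rw [hk] at this
      exact Nat.not_even_iff_odd.mpr this (Nat.even_pow.mpr ⟨even_two, h⟩)
    rw [hk0, pow_zero, orderOf_eq_one_iff, Invol.inv_self hu, mul_assoc, mul_assoc, ← mul_assoc g]
      at hk
    have := eq_inv_of_mul_eq_one_right hk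
    rw [this, Invol.inv_self hu]

end Cfsg.Agent.S0216
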