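import Cfsg.Statements.S0218
import Mathlib.GroupTheory.SpecificGroups.Quaternion

set_option autoImplicit false
open Cfsg

namespace Cfsg.Agent.S0218

/-- The generalized quaternion group of order 2^(n+3) contains exactly one element of order 2. -/
theorem result (n : ℕ) : Nat.card {x : QuaternionGroup (2 ^ (n + 1)) // orderOf x = 2} = 1 := by
  have hN : (2 ^ (n + 1) : ℕ) ≠ 0 := by positivity
  haveI : NeZero (2 ^ (n + 1)) := ⟨hN⟩
  rw [Nat.card_eq_one_iff_exists]
  refine ⟨⟨QuaternionGroup.a (2 ^ (n + 1) : ℕ), ?_⟩, ?_⟩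
  · rw [← QuaternionGroup.xa_sq 0, orderOf_pow' _ two_ne_zero, QuaternionGroup.orderOf_xa]
    rfl
  · rintro ⟨x, hx⟩
    apply Subtype.ext
    rcases x with i | i
    · rw [QuaternionGroup.orderOf_a] at hx
      simp only [QuaternionGroup.a.injEq]
      have hi := ZMod.val_lt i
      have hd := Nat.gcd_dvd_left (2 * 2 ^ (n + 1)) i.val
      have he := Nat.div_mul_cancel hd
      rw [hx] at he
      have hg : Nat.gcd (2 * 2 ^ (n + 1)) i.val = 2 ^ (n + 1) := by omega
      obtain ⟨c, hc⟩ := hg ▸ Nat.gcd_dvd_right (2 * 2 ^ (n + 1)) i.val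
      have hc2 : c < 2 := by
        by_contra h
        have : 2 * 2 ^ (n + 1) ≤ c * 2 ^ (n + 1) := Nat.mul_le_mul_right _ (by omega)
        rw [hc, mul_comm _ c] at hi
        omega
      have hv : i.val = 2 ^ (n + 1) := by
        interval_cases c
        · rw [mul_zero] at hc
          rw [hc, Nat.gcd_zero_right] at hg
          omega
        · rwa [mul_one] at hc
      rw [← ZMod.natCast_zmod_val i, hv]
    · rw [QuaternionGroup.orderOf_xa] at hx
      omega

end Cfsg.Agent.S0218
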