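import Cfsg.Statements.S0220
import Cfsg.Agent.Lib.Small.Burnside
import Cfsg.Agent.Lib.Involutions.Basic
import Mathlib.GroupTheory.Nilpotent

set_option autoImplicit false
open Cfsg

namespace Cfsg.Agent.S0220

/-- If x is an involution of a finite group G and a Sylow 2-subgroup of the centralizer of x is cyclic, then G has a subgroup of index 2; in particular G is not simple unless it has order 2. -/
theorem result {G : Type*} [Group G] [Finite G] (x : G) (hx : orderOf x = 2) (S : Sylow 2 ↥(Subgroup.centralizer ({x} : Set G))) (hS : IsCyclic (S : Subgroup ↥(Subgroup.centralizer ({x} : Set G)))) : ∃ H : Subgroup G, H.index = 2 := by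
  have hxC : x ∈ (Subgroup.centralizer ({x} : Set G)) := Subgroup.mem_centralizer_singleton_iff.mpr rfl
  have hev : Even (Nat.card G) := even_iff_two_dvd.mpr (hx ▸ orderOf_dvd_natCard x)
  -- the central involution lies in every Sylow 2-subgroup of (Subgroup.centralizer ({x} : Set G))
  have hxS : (⟨x, hxC⟩ : (Subgroup.centralizer ({x} : Set G))) ∈ S := by
    have hp : IsPGroup 2 (Subgroup.zpowers (⟨x, hxC⟩ : (Subgroup.centralizer ({x} : Set G)))) :=
      IsPGroup.of_card (n := 1) (by rw [Nat.card_zpowers, Subgroup.orderOf_mk, hx, pow_one])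
    have : (Subgroup.zpowers (⟨x, hxC⟩ : (Subgroup.centralizer ({x} : Set G)))).Normal := ⟨fun n hn g => by
      obtain ⟨k, rfl⟩ := hn
      have hc : Commute g (⟨x, hxC⟩ : (Subgroup.centralizer ({x} : Set G))) :=
        Subtype.ext (Subgroup.mem_centralizer_singleton_iff.mp g.2)
      rw [(hc.zpow_right k).eq, mul_inv_cancel_right]
      exact ⟨k, rfl⟩⟩
    exact hp.le_sylow_of_normal S (Subgroup.mem_zpowers _)
  set S' : Subgroup G := (S : Subgroup (Subgroup.centralizer ({x} : Set G))).map (Subgroup.centralizer ({x} : Set G)).subtype with hS'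
  have hS'p : IsPGroup 2 S' := S.2.map (Subgroup.centralizer ({x} : Set G)).subtype
  obtain ⟨T, hT⟩ := hS'p.exists_le_sylow
  have hxS' : x ∈ S' := ⟨⟨x, hxC⟩, hxS, rfl⟩
  have hcyc : IsCyclic S' := (MulEquiv.isCyclic ((S : Subgroup (Subgroup.centralizer ({x} : Set G))).equivMapOfInjective (Subgroup.centralizer ({x} : Set G)).subtype
    (Subgroup.centralizer ({x} : Set G)).subtype_injective)).mp hS
  have hTS : S' = (T : Subgroup G) := by
    -- otherwise S' grows in T, but the growing element centralizes x
    by_contra hne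
    have hlt : S'.subgroupOf (T : Subgroup G) < ⊤ := by
      rw [lt_top_iff_ne_top, Ne, Subgroup.subgroupOf_eq_top]
      exact fun h => hne (le_antisymm hT h)
    haveI := T.2.isNilpotent
    have hgrow := Group.normalizerCondition_of_isNilpotent _ hlt
    obtain ⟨g, hg, hgn⟩ := SetLike.exists_of_lt hgrow
    have hnorm := Subgroup.mem_normalizer_iff.mp hg
    have hgS : ∀ y ∈ S', (g : G) * y * (g : G)⁻¹ ∈ S' := fun y hy =>
      (hnorm ⟨y, hT hy⟩).mp hy
    have hgC : (g : G) ∈ (Subgroup.centralizer ({x} : Set G)) := by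
      rw [Subgroup.mem_centralizer_singleton_iff]
      have h1 : (⟨(g : G) * x * (g : G)⁻¹, hgS x hxS'⟩ : S') = ⟨x, hxS'⟩ := by
        haveI := hcyc
        have key : ∀ a b : S', orderOf a = 2 → orderOf b = 2 → a = b := by
          intro a b ha hb
          obtain ⟨c, hc⟩ := IsCyclic.exists_zpow_surjective (G := S')
          obtain ⟨h2a, ea⟩ := Invol.eq_half ha (hc a)
          obtain ⟨h2b, eb⟩ := Invol.eq_half hb (hc b)
          rw [ea, eb]
        exact key _ _ (by rw [Subgroup.orderOf_mk, Invol.order_conj, hx])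
          (by rw [Subgroup.orderOf_mk, hx])
      exact (mul_inv_eq_iff_eq_mul.mp (Subtype.ext_iff.mp h1))
    have hle : (S : Subgroup (Subgroup.centralizer ({x} : Set G))) ≤ (T : Subgroup G).subgroupOf (Subgroup.centralizer ({x} : Set G)) := fun y hy => hT ⟨y, hy, rfl⟩
    have hp : IsPGroup 2 ((T : Subgroup G).subgroupOf (Subgroup.centralizer ({x} : Set G))) := T.2.comap_subtype
    have := S.3 hp hle
    apply hgn
    have hmem : (⟨g, hgC⟩ : (Subgroup.centralizer ({x} : Set G))) ∈ (T : Subgroup G).subgroupOf (Subgroup.centralizer ({x} : Set G)) := g.2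
    rw [this] at hmem
    exact ⟨⟨g, hgC⟩, hmem, rfl⟩
  exact Small.exists_index_two_of_cyclic hev T (by rw [← hTS]; exact hcyc)

end Cfsg.Agent.S0220
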