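import Cfsg.Statements.S0221
import Cfsg.Agent.Lib.TwoGroups.NormalFour
import Cfsg.Agent.Lib.LocalEven.SylowAux
import Cfsg.Agent.S0111

set_option autoImplicit false
open Cfsg

namespace Cfsg.Agent.S0221

theorem sq_one_of_closure {G : Type*} [Group G] {s : Set G}
    (hc : ∀ a ∈ s, ∀ b ∈ s, a * b = b * a) (h2 : ∀ a ∈ s, a * a = 1) :
    ∀ a ∈ Subgroup.closure s, a * a = 1 := by
  haveI := Subgroup.isMulCommutative_closure hc
  intro a ha
  induction ha using Subgroup.closure_induction with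
  | mem x hx => exact h2 x hx
  | one => exact one_mul 1
  | mul x y hx hy ihx ihy =>
    have hxy : x * y = y * x := congrArg Subtype.val
      ((inferInstance : IsMulCommutative (Subgroup.closure s)).is_comm.comm ⟨x, hx⟩ ⟨y, hy⟩)
    calc x * y * (x * y) = x * (y * x) * y := by group
      _ = (x * x) * (y * y) := by rw [← hxy]; group
      _ = 1 := by rw [ihx, ihy, one_mul]
  | inv x _ ih => rw [← mul_inv_rev, ih, inv_one]

theorem exists_eight {G : Type*} [Group G] [Finite G] {s : Set G}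
    (hc : ∀ a ∈ s, ∀ b ∈ s, a * b = b * a) (h2 : ∀ a ∈ s, a * a = 1)
    (hbig : 4 < Nat.card (Subgroup.closure s)) {y : G} (hy : ∀ a ∈ s, a * y = y * a) :
    ∃ E : Subgroup G, E ≤ Subgroup.centralizer ({y} : Set G) ∧ Nat.card E = 8 ∧ ∀ e ∈ E, e ^ 2 = 1 := by
  haveI : Fact (Nat.Prime 2) := ⟨Nat.prime_two⟩
  have hsq := sq_one_of_closure hc h2
  have hp : IsPGroup 2 (Subgroup.closure s) := fun a => ⟨1, Subtype.ext (by
    rw [pow_one, pow_two]; exact hsq _ a.2)⟩
  obtain ⟨k, hk⟩ := IsPGroup.iff_card.mp hp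
  have hk3 : 3 ≤ k := by
    by_contra hlt
    have := Nat.pow_le_pow_right two_pos (show k ≤ 2 by omega)
    rw [hk] at hbig
    omega
  obtain ⟨F, hF⟩ := Sylow.exists_subgroup_card_pow_prime 2 (G := Subgroup.closure s) (n := 3)
    (hk ▸ pow_dvd_pow 2 hk3)
  refine ⟨F.map (Subgroup.closure s).subtype, ?_, ?_, ?_⟩
  · refine (Subgroup.map_subtype_le F).trans ((Subgroup.closure_le _).mpr fun a ha => ?_)
    exact Subgroup.mem_centralizer_singleton_iff.mpr (hy a ha)
  · rw [← Nat.card_congr (F.equivMapOfInjective _ (Subgroup.subtype_injective _)).toEquiv, hF]; norm_num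
  · rintro _ ⟨e, -, rfl⟩
    rw [pow_two]; exact hsq _ e.2

/-- Let G be a finite group with no subgroup of index 2 whose 2-rank is at least 3 (it contains an elementary abelian subgroup of order 8). Then the centralizer of every involution of G also contains an elementary abelian subgroup of order 8. -/
theorem result {G : Type*} [Group G] [Finite G] (hno : ∀ H : Subgroup G, H.index ≠ 2) (hrank : ∃ E : Subgroup G, Nat.card E = 8 ∧ ∀ e ∈ E, e ^ 2 = 1) (x : G) (hx : orderOf x = 2) : ∃ E : Subgroup G, E ≤ Subgroup.centralizer ({x} : Set G) ∧ Nat.card E = 8 ∧ ∀ e ∈ E, e ^ 2 = 1 := by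
  haveI : Fact (Nat.Prime 2) := ⟨Nat.prime_two⟩
  obtain ⟨E, hE, hE2⟩ := hrank
  have hEp : IsPGroup 2 E := fun e => ⟨1, Subtype.ext (by rw [pow_one]; exact hE2 _ e.2)⟩
  obtain ⟨P, hEP⟩ := hEp.exists_le_sylow
  obtain ⟨V₀, hV₀n, hV₀, hV₀2⟩ := Cfsg.Agent.NormalFour.exists_normal_four P.isPGroup'
    (E := E.subgroupOf (P : Subgroup G))
    ((Nat.card_congr (Subgroup.subgroupOfEquivOfLe hEP).toEquiv).trans hE)
    (fun e he => Subtype.ext (by rw [Subgroup.coe_mul, ← pow_two]; exact hE2 _ he))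
  haveI := hV₀n
  obtain ⟨z, hzV, hzo, hzc⟩ := Cfsg.Agent.NormalFour.exists_central_mem P.isPGroup' (N := V₀)
    (fun e => by rw [e, Subgroup.card_bot] at hV₀; omega)
  set V := V₀.map (P : Subgroup G).subtype with hV
  have hVP : V ≤ (P : Subgroup G) := Subgroup.map_subtype_le _
  have hVcard : Nat.card V = 4 := by
    rw [hV, ← Nat.card_congr (V₀.equivMapOfInjective _ (Subgroup.subtype_injective _)).toEquiv, hV₀]
  have hV2 : ∀ v ∈ V, v * v = 1 := by
    rintro _ ⟨v, hv, rfl⟩
    exact congrArg Subtype.val (hV₀2 v hv)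
  have hVn : ∀ g ∈ P, ∀ v ∈ V, g * v * g⁻¹ ∈ V := by
    rintro g hg _ ⟨v, hv, rfl⟩
    exact ⟨⟨g, hg⟩ * v * ⟨g, hg⟩⁻¹, hV₀n.conj_mem v hv _, rfl⟩
  have hzV' : (z : G) ∈ V := ⟨z, hzV, rfl⟩
  have hzP : ∀ g ∈ P, g * (z : G) = (z : G) * g := fun g hg =>
    congrArg Subtype.val (Subgroup.mem_center_iff.mp hzc ⟨g, hg⟩)
  have hz1 : (z : G) ≠ 1 := fun h => by
    rw [show z = 1 from Subtype.ext h, orderOf_one] at hzo; omega
  have hVcomm : ∀ a ∈ V, ∀ b ∈ V, a * b = b * a := fun a ha b hb => by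
    have h1 := hV2 _ (mul_mem ha hb)
    calc a * b = a * (a * b * (a * b)) * b := by rw [h1, mul_one]
      _ = (a * a) * (b * a) * (b * b) := by group
      _ = b * a := by rw [hV2 a ha, hV2 b hb, one_mul, mul_one]
  -- `T`, the centralizer of `V` in `P`
  set T := (P : Subgroup G) ⊓ Subgroup.centralizer (V : Set G) with hT
  have hVT : V ≤ T := le_inf hVP (fun a ha => Subgroup.mem_centralizer_iff.mpr fun b hb => hVcomm b hb a ha)
  obtain ⟨v, hv, hv1, hvz⟩ : ∃ v ∈ V, v ≠ 1 ∧ v ≠ (z : G) := by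
    by_contra hc
    push Not at hc
    have : V ≤ Subgroup.zpowers (z : G) := fun v hv => by
      rcases eq_or_ne v 1 with rfl | h
      · exact one_mem _
      · exact hc v hv h ▸ Subgroup.mem_zpowers _
    have h := Subgroup.card_le_of_le this
    rw [hVcard, Nat.card_zpowers, Subgroup.orderOf_coe, hzo] at h
    omega
  have hgen : ∀ w ∈ V, w = 1 ∨ w = (z : G) ∨ w = v ∨ w = v * (z : G) := by
    classical
    letI := Fintype.ofFinite V
    intro w hw
    by_contra hc
    push Not at hc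
    obtain ⟨h1, h2, h3, h4⟩ := hc
    have hvz1 : v * (z : G) ≠ 1 := fun h => hvz (by
      calc v = v * ((z : G) * z) := by rw [hV2 _ hzV', mul_one]
        _ = (z : G) := by rw [← mul_assoc, h, one_mul])
    have h5 : v * (z : G) ≠ v := fun h => hz1 (mul_eq_left.mp h)
    have h6 : v * (z : G) ≠ (z : G) := fun h => hv1 (mul_eq_right.mp h)
    have hle : ({⟨1, one_mem V⟩, ⟨_, hzV'⟩, ⟨v, hv⟩, ⟨_, mul_mem hv hzV'⟩, ⟨w, hw⟩} : Finset V).card ≤ 4 := by
      rw [← hVcard, Nat.card_eq_fintype_card]; exact Finset.card_le_univ _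
    rw [Finset.card_insert_of_notMem, Finset.card_insert_of_notMem, Finset.card_insert_of_notMem,
      Finset.card_insert_of_notMem, Finset.card_singleton] at hle
    · omega
    all_goals simp only [Finset.mem_insert, Finset.mem_singleton, Subtype.mk.injEq]
    · exact h4.symm
    · rintro (h | h)
      · exact h5 h.symm
      · exact h3 h.symm
    · rintro (h | h | h)
      · exact hvz h.symm
      · exact h6 h.symm
      · exact h2 h.symm
    · rintro (h | h | h | h)
      · exact hz1 h.symm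
      · exact hv1 h.symm
      · exact hvz1 h.symm
      · exact h1 h.symm
  have hmemT : ∀ g ∈ P, g * v * g⁻¹ = v → g ∈ T := by
    intro g hg hgv
    refine ⟨hg, Subgroup.mem_centralizer_iff.mpr fun w hw => ?_⟩
    have hcv : g * v = v * g := mul_inv_eq_iff_eq_mul.mp hgv
    rcases hgen w hw with rfl | rfl | rfl | rfl
    · simp
    · exact (hzP g hg).symm
    · exact hcv.symm
    · exact ((show Commute g v from hcv).mul_right (hzP g hg)).eq.symm
  have hval : ∀ g ∈ P, g * v * g⁻¹ = v ∨ g * v * g⁻¹ = v * (z : G) := by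
    intro g hg
    rcases hgen _ (hVn g hg v hv) with h | h | h | h
    · exact absurd (conj_eq_one_iff.mp h) hv1
    · exfalso
      refine hvz ?_
      calc v = g⁻¹ * (g * v * g⁻¹) * g := by group
        _ = g⁻¹ * ((z : G) * g) := by rw [h]; group
        _ = (z : G) := by rw [← hzP g hg, inv_mul_cancel_left]
    · exact Or.inl h
    · exact Or.inr h
  have hmulT : ∀ g ∈ P, ∀ h ∈ P, g ∉ T → h ∉ T → g⁻¹ * h ∈ T := by
    intro g hg h hh hgT hhT
    refine hmemT _ (mul_mem (inv_mem hg) hh) ?_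
    have e1 := (hval g hg).resolve_left (fun e => hgT (hmemT g hg e))
    have e2 := (hval h hh).resolve_left (fun e => hhT (hmemT h hh e))
    calc g⁻¹ * h * v * (g⁻¹ * h)⁻¹ = g⁻¹ * (h * v * h⁻¹) * g := by group
      _ = g⁻¹ * (g * v * g⁻¹) * g := by rw [e2, e1]
      _ = v := by group
  -- every involution in `T` is fine
  have hgood : ∀ y ∈ T, y * y = 1 →
      ∃ F : Subgroup G, F ≤ Subgroup.centralizer ({y} : Set G) ∧ Nat.card F = 8 ∧ ∀ e ∈ F, e ^ 2 = 1 := by
    intro y hy hyy
    have hyV : ∀ w ∈ V, w * y = y * w := fun w hw => Subgroup.mem_centralizer_iff.mp hy.2 w hw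
    by_cases hmem : y ∈ V
    · refine exists_eight (s := (V : Set G) ∪ (E ⊓ T : Subgroup G)) ?_ ?_ ?_ ?_
      · rintro a (ha | ha) b (hb | hb)
        · exact hVcomm a ha b hb
        · exact Subgroup.mem_centralizer_iff.mp hb.2.2 a ha
        · exact (Subgroup.mem_centralizer_iff.mp ha.2.2 b hb).symm
        · have h1 : ∀ e ∈ E, e⁻¹ = e := fun e he => inv_eq_of_mul_eq_one_right (by rw [← pow_two]; exact hE2 e he)
          have := h1 _ (mul_mem ha.1 hb.1)
          rw [mul_inv_rev, h1 a ha.1, h1 b hb.1] at this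
          exact this.symm
      · rintro a (ha | ha)
        · exact hV2 a ha
        · rw [← pow_two]; exact hE2 a ha.1
      · by_contra hle
        have hEV : E ⊓ T ≤ V := by
          have h1 : V ≤ Subgroup.closure ((V : Set G) ∪ (E ⊓ T : Subgroup G)) :=
            fun a ha => Subgroup.subset_closure (Or.inl ha)
          rw [Subgroup.eq_of_le_of_card_ge h1 (by rw [hVcard]; omega)]
          exact fun a ha => Subgroup.subset_closure (Or.inr ha)
        -- `E ⊓ T` has index at most two in `E`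
        have hidx : Nat.card E ≤ 2 * Nat.card (E ⊓ T : Subgroup G) := by
          by_cases hET : E ≤ T
          · rw [inf_eq_left.mpr hET]; omega
          obtain ⟨e₀, he₀, he₀T⟩ := SetLike.not_le_iff_exists.mp hET
          have h2 : ((E ⊓ T).subgroupOf E).index = 2 := by
            refine Subgroup.index_eq_two_iff'.2 ⟨⟨e₀, he₀⟩, fun ⟨b, hb⟩ => ?_⟩
            simp only [Subgroup.mem_subgroupOf, Subgroup.coe_mul, Subgroup.mem_inf]
            by_cases hbT : b ∈ T
            · refine Or.inr ⟨⟨hb, hbT⟩, fun h => he₀T ?_⟩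
              have := mul_mem h.2 (inv_mem hbT)
              simpa using this
            · refine Or.inl ⟨⟨mul_mem he₀ hb, ?_⟩, fun h => hbT h.2⟩
              have := hmulT e₀⁻¹ (inv_mem (hEP he₀)) b (hEP hb) (fun h => he₀T (by simpa using inv_mem h)) hbT
              simpa using this
          have h3 := ((E ⊓ T).subgroupOf E).card_mul_index
          rw [h2, Nat.card_congr (Subgroup.subgroupOfEquivOfLe (inf_le_left : E ⊓ T ≤ E)).toEquiv] at h3
          omega
        have h4 := Subgroup.card_le_of_le hEV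
        have heq := Subgroup.eq_of_le_of_card_ge hEV (by omega)
        have hET : E ≤ T := by
          intro e he
          refine hmemT e (hEP he) ?_
          have hvE : v ∈ E := (heq ▸ hv : v ∈ E ⊓ T).1
          have h1 : ∀ e ∈ E, e⁻¹ = e := fun e he => inv_eq_of_mul_eq_one_right (by rw [← pow_two]; exact hE2 e he)
          have := h1 _ (mul_mem he hvE)
          rw [mul_inv_rev, h1 e he, h1 v hvE] at this
          rw [← this, mul_inv_cancel_right]
        rw [inf_eq_left.mpr hET] at h4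
        omega
      · rintro a (ha | ha)
        · exact hyV a ha
        · exact (Subgroup.mem_centralizer_iff.mp ha.2.2 y hmem).symm
    · refine exists_eight (s := (V : Set G) ∪ {y}) ?_ ?_ ?_ ?_
      · rintro a (ha | rfl) b (hb | rfl)
        · exact hVcomm a ha b hb
        · exact hyV a ha
        · exact (hyV b hb).symm
        · rfl
      · rintro a (ha | rfl)
        · exact hV2 a ha
        · exact hyy
      · have h1 : V < Subgroup.closure ((V : Set G) ∪ {y}) := lt_of_le_of_ne
          (fun a ha => Subgroup.subset_closure (Or.inl ha))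
          (fun h => hmem (h.symm ▸ Subgroup.subset_closure (Or.inr rfl)))
        by_contra hle
        exact h1.ne (Subgroup.eq_of_le_of_card_ge h1.le (by rw [hVcard]; omega))
      · rintro a (ha | rfl)
        · exact hyV a ha
        · rfl
  -- conjugate `x` into `T`
  obtain ⟨g, hg⟩ : ∃ g : G, g * x * g⁻¹ ∈ T := by
    obtain ⟨c, hc⟩ := Cfsg.Agent.LESylow.exists_conj_le
      (IsPGroup.of_card (n := 1) (by rw [Nat.card_zpowers, hx, pow_one]) : IsPGroup 2 (Subgroup.zpowers x)) P
    have hcx : c * x * c⁻¹ ∈ (P : Subgroup G) := hc ⟨x, Subgroup.mem_zpowers x, rfl⟩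
    by_cases hT' : c * x * c⁻¹ ∈ T
    · exact ⟨c, hT'⟩
    have hi : T.relIndex (P : Subgroup G) = 2 := by
      refine Subgroup.index_eq_two_iff'.2 ⟨⟨_, hcx⟩, fun ⟨b, hb⟩ => ?_⟩
      simp only [Subgroup.mem_subgroupOf, Subgroup.coe_mul]
      by_cases hbT : b ∈ T
      · refine Or.inr ⟨hbT, fun h => hT' ?_⟩
        have := mul_mem h (inv_mem hbT)
        simpa using this
      · refine Or.inl ⟨?_, hbT⟩
        have := hmulT _ (inv_mem hcx) b hb (fun h => hT' (by simpa using inv_mem h)) hbT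
        simpa using this
    have ho : orderOf (c * x * c⁻¹) = 2 := ((MulAut.conj c).orderOf_eq x).trans hx
    rcases Cfsg.Agent.S0111.result P T inf_le_left hi _ ho hcx hT' with ⟨M, -, hM, -⟩ | ⟨d, hd⟩
    · exact absurd hM (hno M)
    · exact ⟨d * c, by rwa [show d * c * x * (d * c)⁻¹ = d * (c * x * c⁻¹) * d⁻¹ by group]⟩
  obtain ⟨F, hFC, hF, hF2⟩ := hgood _ hg (by
    rw [← pow_two, conj_pow, ← hx, pow_orderOf_eq_one, mul_one, mul_inv_cancel])
  refine ⟨F.map (MulAut.conj g⁻¹).toMonoidHom, ?_, ?_, ?_⟩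
  · rintro _ ⟨e, he, rfl⟩
    have h1 : e * (g * x * g⁻¹) = g * x * g⁻¹ * e := Subgroup.mem_centralizer_singleton_iff.mp (hFC he)
    refine Subgroup.mem_centralizer_singleton_iff.mpr ?_
    show g⁻¹ * e * g⁻¹⁻¹ * x = x * (g⁻¹ * e * g⁻¹⁻¹)
    calc g⁻¹ * e * g⁻¹⁻¹ * x = g⁻¹ * (e * (g * x * g⁻¹)) * g := by group
      _ = g⁻¹ * (g * x * g⁻¹ * e) * g := by rw [h1]
      _ = _ := by group
  · rw [← Nat.card_congr (F.equivMapOfInjective _ (MulAut.conj g⁻¹).injective).toEquiv, hF]
  · rintro _ ⟨e, he, rfl⟩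
    rw [← map_pow, hF2 e he, map_one]

end Cfsg.Agent.S0221
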