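import Cfsg.Statements.S0224
import Cfsg.Agent.Lib.Involutions.StronglyEmbedded

set_option autoImplicit false
open Cfsg

namespace Cfsg.Agent.S0224

/-- Let H be a proper subgroup of even order of the finite group G. Then H is strongly embedded if and only if each involution of H fixes exactly one point (namely the coset H) in the action of G on the cosets of H. -/
theorem result {G : Type*} [Group G] [Finite G] (H : Subgroup G) (hH : H ≠ ⊤) (heven : Even (Nat.card H)) : Cfsg.IsStronglyEmbedded H ↔ ∀ t ∈ H, orderOf t = 2 → Nat.card {c : G ⧸ H // t • c = c} = 1 := by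
  constructor
  · intro hSE t ht hto
    rw [Nat.card_eq_one_iff_exists]
    refine ⟨⟨((1 : G) : G ⧸ H), ?_⟩, ?_⟩
    · rw [MulAction.Quotient.smul_mk, QuotientGroup.eq, smul_eq_mul, mul_one, mul_one]
      exact inv_mem ht
    · rintro ⟨c, hc⟩
      apply Subtype.ext
      induction c using QuotientGroup.induction_on with
      | _ g =>
        rw [MulAction.Quotient.smul_mk, QuotientGroup.eq, smul_eq_mul, mul_inv_rev] at hc
        have h1 : g⁻¹ * t * g⁻¹⁻¹ ∈ H := by rwa [inv_inv, ← Invol.inv_self hto]
        rw [QuotientGroup.eq, mul_one]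
        exact inv_mem (inv_mem_iff.mp (Invol.se_mem_of_conj hSE hto ht h1))
  · intro hfix
    refine ⟨hH, heven, fun g hg => ?_⟩
    rw [← Nat.not_even_iff_odd]
    intro hev
    obtain ⟨t, htm, hto⟩ := Invol.exists_invol hev
    obtain ⟨htH, htg⟩ := htm
    have htg : g⁻¹ * t * g ∈ H := Invol.mem_conj_map.mp htg
    obtain ⟨hsub, -⟩ := Nat.card_eq_one_iff_unique.mp (hfix t htH hto)
    have h1 : t • ((1 : G) : G ⧸ H) = ((1 : G) : G ⧸ H) := by
      rw [MulAction.Quotient.smul_mk, QuotientGroup.eq, smul_eq_mul, mul_one, mul_one]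
      exact inv_mem htH
    have h2 : t • ((g : G) : G ⧸ H) = ((g : G) : G ⧸ H) := by
      rw [MulAction.Quotient.smul_mk, QuotientGroup.eq, smul_eq_mul, mul_inv_rev, Invol.inv_self hto]
      exact htg
    have h := Subtype.ext_iff.mp (hsub.elim (⟨_, h1⟩ : {c : G ⧸ H // t • c = c}) ⟨_, h2⟩)
    rw [QuotientGroup.eq, inv_one, one_mul] at h
    exact hg h

end Cfsg.Agent.S0224
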