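import Cfsg.Statements.S0226
import Cfsg.Agent.Lib.Involutions.Basic
import Mathlib.GroupTheory.Perm.Cycle.Type
import Mathlib.Algebra.Ring.Parity

set_option autoImplicit false
open Cfsg

namespace Cfsg.Agent.S0226

/-- A finite group of even order has an odd number of involutions. -/
theorem result {G : Type*} [Group G] [Finite G] (heven : Even (Nat.card G)) : Odd (Nat.card {t : G // orderOf t = 2}) := by
  classical
  have := Fintype.ofFinite G
  rw [Nat.card_eq_fintype_card, Fintype.card_subtype]
  have hinv : Function.Involutive (fun x : G => x⁻¹) := inv_inv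
  have hfix : (Finset.univ.filter fun x : G => x⁻¹ = x) =
      insert 1 (Finset.univ.filter fun x : G => orderOf x = 2) := by
    ext x
    simp only [Finset.mem_filter, Finset.mem_univ, true_and, Finset.mem_insert]
    constructor
    · intro h
      by_cases h1 : x = 1
      · exact Or.inl h1
      · exact Or.inr (Invol.order_two_of_sq (inv_eq_iff_mul_eq_one.mp h) h1)
    · rintro (rfl | h)
      · exact inv_one
      · exact Invol.inv_self h
  have key := Equiv.Perm.card_compl_support_modEq (p := 2) (n := 1) (σ := Equiv.inv G)
    (by ext x; simp [pow_two])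
  have hs : (Equiv.inv G).supportᶜ = Finset.univ.filter fun x : G => x⁻¹ = x := by
    ext x; simp
  rw [hs, hfix, Finset.card_insert_of_notMem (by simp)] at key
  have he : Fintype.card G % 2 = 0 := by
    rw [← Nat.card_eq_fintype_card]; exact Nat.even_iff.mp heven
  rw [Nat.ModEq, he] at key
  rw [Nat.odd_iff]
  omega

end Cfsg.Agent.S0226
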