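import Cfsg.Statements.S0228
import Cfsg.Agent.Lib.Small.SylowToolkit

set_option autoImplicit false
open Cfsg

namespace Cfsg.Agent.S0228

/-- A group of order 12 in which no involution is central is isomorphic to the alternating group on four letters. -/
theorem result {G : Type*} [Group G] [Finite G] (hG : Nat.card G = 12) (hz : ∀ z : G, orderOf z = 2 → z ∉ Subgroup.center G) : Nonempty (G ≃* alternatingGroup (Fin 4)) := by
  haveI : Fact (Nat.Prime 3) := ⟨Nat.prime_three⟩
  haveI : Fact (Nat.Prime 2) := ⟨Nat.prime_two⟩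
  have hk : Nat.card G = 3 ^ 1 * 4 := by rw [hG]; norm_num
  have hn := Small.sylow_number_mem hk (by norm_num)
  rw [show (Nat.divisors 4).filter (fun d => d % 3 = 1) = {1, 4} by decide +kernel] at hn
  simp only [Finset.mem_insert, Finset.mem_singleton] at hn
  obtain ⟨P⟩ : Nonempty (Sylow 3 G) := inferInstance
  have hP : Nat.card (P : Subgroup G) = 3 := (Small.sylow_card hk (by norm_num) P).trans (pow_one 3)
  set N := Subgroup.normalizer ((P : Subgroup G) : Set G) with hNdef
  have hN : Nat.card N * Nat.card (Sylow 3 G) = 12 := by rw [Small.card_normalizer_mul P, hG]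
  have hne1 : Nat.card (Sylow 3 G) ≠ 1 := by
    intro h1
    rw [h1, mul_one] at hN
    have hd := Small.card_normalizer_dvd (P : Subgroup G) hP
    rw [← hNdef, hN] at hd
    have h2C : 2 ∣ Nat.card (Subgroup.centralizer ((P : Subgroup G) : Set G)) := by omega
    obtain ⟨w, hw⟩ := exists_prime_orderOf_dvd_card' 2 h2C
    have hwG : orderOf (w : G) = 2 := by rw [Subgroup.orderOf_coe, hw]
    obtain ⟨S, hS⟩ := (IsPGroup.of_card (n := 1) (by rw [Nat.card_zpowers, hwG, pow_one]) :
      IsPGroup 2 (Subgroup.zpowers (w : G))).exists_le_sylow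
    have hS4 : Nat.card (S : Subgroup G) = 2 ^ 2 :=
      Small.sylow_card (k := 2) (m := 3) (by rw [hG]; norm_num) (by norm_num) S
    letI := IsPGroup.commGroupOfCardEqPrimeSq hS4
    set C := Subgroup.centralizer ({(w : G)} : Set G)
    have hSC : (S : Subgroup G) ≤ C := fun a ha => Subgroup.mem_centralizer_singleton_iff.mpr
      (congrArg Subtype.val (mul_comm (⟨a, ha⟩ : (S : Subgroup G)) ⟨w, hS (Subgroup.mem_zpowers _)⟩))
    have hPC : (P : Subgroup G) ≤ C := fun a ha => Subgroup.mem_centralizer_singleton_iff.mpr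
      (Subgroup.mem_centralizer_iff.mp w.2 a ha)
    have h1 := Subgroup.card_dvd_of_le hSC
    have h2 := Subgroup.card_dvd_of_le hPC
    rw [hS4] at h1
    rw [hP] at h2
    have hC : C = ⊤ := Subgroup.eq_top_of_card_eq _ (by
      have h3 := Subgroup.card_subgroup_dvd_card C
      rw [hG] at h3 ⊢
      exact Nat.dvd_antisymm h3 (Nat.Coprime.mul_dvd_of_dvd_of_dvd (show Nat.Coprime (2 ^ 2) 3 by norm_num) h1 h2))
    exact hz (w : G) hwG (Subgroup.mem_center_iff.mpr fun g =>
      Subgroup.mem_centralizer_singleton_iff.mp (hC ▸ Subgroup.mem_top g : g ∈ C))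
  have hn4 : Nat.card (Sylow 3 G) = 4 := hn.resolve_left hne1
  have hNP : N = (P : Subgroup G) := by
    refine (Subgroup.eq_of_le_of_card_ge Subgroup.le_normalizer ?_).symm
    rw [hn4] at hN
    have h3 : Nat.card N = 3 := by omega
    exact h3.le.trans hP.ge
  have hinj : Function.Injective (MulAction.toPermHom G (G ⧸ N)) := by
    rw [← MonoidHom.ker_eq_bot_iff, ← Subgroup.normalCore_eq_ker]
    have hd := Subgroup.card_dvd_of_le (Subgroup.normalCore_le N)
    rw [hNP, hP] at hd
    rcases (Nat.dvd_prime Nat.prime_three).mp hd with h | h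
    · rw [hNP]; exact Subgroup.eq_bot_of_card_eq _ h
    · exfalso
      have he : (P : Subgroup G).normalCore = (P : Subgroup G) :=
        Subgroup.eq_of_le_of_card_ge (Subgroup.normalCore_le _) (by rw [h, hP])
      have hnor : (P : Subgroup G).Normal := he ▸ Subgroup.normalCore_normal _
      exact hne1 (by rw [Small.card_eq_index P, Subgroup.normalizer_eq_top_iff.mpr hnor, Subgroup.index_top])
  have e : G ⧸ N ≃ Fin 4 := (Finite.equivFin _).trans (finCongr (by
    rw [← Subgroup.index, ← Small.card_eq_index P, hn4]))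
  let f : G →* Equiv.Perm (Fin 4) := (Equiv.permCongrHom e).toMonoidHom.comp (MulAction.toPermHom G (G ⧸ N))
  have hf : Function.Injective f := (Equiv.permCongrHom e).injective.comp hinj
  have hr : f.range.index = 2 := by
    have h := f.range.card_mul_index
    rw [← Nat.card_congr (MonoidHom.ofInjective hf).toEquiv, hG, Nat.card_perm, Nat.card_fin] at h
    norm_num [Nat.factorial] at h
    omega
  exact ⟨(MonoidHom.ofInjective hf).trans (MulEquiv.subgroupCongr
    (Equiv.Perm.eq_alternatingGroup_of_index_eq_two hr))⟩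

end Cfsg.Agent.S0228
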