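import Cfsg.Statements.S0229
import Cfsg.Agent.S0216

set_option autoImplicit false
open Cfsg

namespace Cfsg.Agent.S0229

/-- Let t be an involution of a Sylow 2-subgroup S of a finite group G, conjugate in G to no other element of S, and let s be an involution of G not conjugate to t. Then the order of st is twice an odd number. -/
theorem result {G : Type*} [Group G] [Finite G] (S : Sylow 2 G) (t : G) (ht : orderOf t = 2) (htS : t ∈ S) (hiso : ∀ g : G, g * t * g⁻¹ ∈ S → g * t * g⁻¹ = t) (s : G) (hs : orderOf s = 2) (hns : ¬ IsConj s t) : orderOf (s * t) % 4 = 2 := by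
  have hdiff : ∀ g : G, s ≠ g * t * g⁻¹ := fun g he =>
    hns (isConj_iff.mpr ⟨g⁻¹, by rw [he]; group⟩)
  have heven : Even (orderOf (s * t)) := by
    by_contra h
    obtain ⟨d, -, hd⟩ := Invol.conj_of_odd hs ht (Nat.not_even_iff_odd.mp h)
    exact hns (isConj_iff.mpr ⟨d, hd⟩)
  have heven' : Even (orderOf (t * s)) := by
    rwa [show orderOf (t * s) = orderOf (s * t) by
      rw [← orderOf_inv, mul_inv_rev, Invol.inv_self ht, Invol.inv_self hs]]
  have h4 : ¬ 4 ∣ orderOf (t * s) := by
    intro h
    obtain ⟨d, -, hd⟩ := Invol.conj_mul_half_of_four_dvd ht hs h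
    have hsp := Invol.mul_half_spec ht hs heven' (orderOf_pos _)
    exact hsp.2 (hd ▸ S0216.no_commuting S t ht htS hiso d (hd ▸ hsp.1))
  rw [show orderOf (t * s) = orderOf (s * t) by
      rw [← orderOf_inv, mul_inv_rev, Invol.inv_self ht, Invol.inv_self hs]] at h4
  obtain ⟨m, hm⟩ := heven
  omega

end Cfsg.Agent.S0229
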