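import Cfsg.Statements.S0230
import Cfsg.Agent.Lib.Involutions.Counting

set_option autoImplicit false
open Cfsg

namespace Cfsg.Agent.S0230

/-- Let G be a finite group with two non-conjugate involutions, and let t be an involution whose centralizer has maximal order among centralizers of involutions. Then |G| < |C_G(t)|^3. -/
theorem result {G : Type*} [Group G] [Finite G] (s t : G) (hs : orderOf s = 2) (ht : orderOf t = 2) (hnc : ¬ IsConj s t) (hmax : ∀ u : G, orderOf u = 2 → Nat.card (Subgroup.centralizer ({u} : Set G)) ≤ Nat.card (Subgroup.centralizer ({t} : Set G))) : Nat.card G < Nat.card (Subgroup.centralizer ({t} : Set G)) ^ 3 := by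
  classical
  have := Fintype.ofFinite G
  set C := Subgroup.centralizer ({t} : Set G) with hC
  have hmap : ∀ v : {v : G // IsConj s v}, ∃ z : C, orderOf (z : G) = 2 ∧
      v.1 ∈ Subgroup.centralizer ({(z : G)} : Set G) := by
    rintro ⟨v, hv⟩
    obtain ⟨g, hg⟩ := isConj_iff.mp hv
    have hvo : orderOf v = 2 := by rw [← hg, Invol.order_conj, hs]
    have heven : Even (orderOf (v * t)) := by
      by_contra h
      obtain ⟨d, -, hd⟩ := Invol.conj_of_odd hvo ht (Nat.not_even_iff_odd.mp h)
      exact hnc (hv.trans (isConj_iff.mpr ⟨d, hd⟩))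
    have hcz := Invol.half_commute hvo ht heven
    exact ⟨⟨_, Subgroup.mem_centralizer_singleton_iff.mpr hcz.2.eq⟩,
      Invol.half_order hvo ht heven (orderOf_pos _),
      Subgroup.mem_centralizer_singleton_iff.mpr hcz.1.symm.eq⟩
  choose f hf1 hf2 using hmap
  have hfib : ∀ z ∈ (Finset.univ.filter fun z : C => z ≠ 1),
      (Finset.univ.filter fun v : {v : G // IsConj s v} => f v = z).card ≤ Nat.card C := by
    intro z _
    rcases Finset.eq_empty_or_nonempty (Finset.univ.filter fun v : {v : G // IsConj s v} => f v = z)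
      with h | ⟨v, hv⟩
    · rw [h]; simp
    · obtain ⟨-, hv⟩ := Finset.mem_filter.mp hv
      have hzo : orderOf (z : G) = 2 := by rw [← hv]; exact hf1 v
      refine le_trans ?_ (hmax (z : G) hzo)
      rw [← Fintype.card_subtype, ← Nat.card_eq_fintype_card]
      exact Nat.card_le_card_of_injective
        (fun w => (⟨w.1.1, (congrArg (fun c : C => Subgroup.centralizer ({(c : G)} : Set G)) w.2) ▸ hf2 w.1⟩ : Subgroup.centralizer ({(z : G)} : Set G)))
        (fun a b h => Subtype.ext (Subtype.ext (Subtype.ext_iff.mp h :)))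
  have hmem : ∀ v ∈ (Finset.univ : Finset {v : G // IsConj s v}),
      f v ∈ Finset.univ.filter fun z : C => z ≠ 1 := by
    intro v _
    rw [Finset.mem_filter]
    refine ⟨Finset.mem_univ _, fun h => Invol.ne_one (hf1 v) ?_⟩
    rw [h]; rfl
  have hle := Finset.card_le_mul_card_image_of_maps_to hmem _ hfib
  rw [Finset.card_univ, Finset.filter_ne', Finset.card_erase_of_mem (Finset.mem_univ _),
    Finset.card_univ, ← Nat.card_eq_fintype_card, ← Nat.card_eq_fintype_card] at hle
  -- the class has index many elements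
  have hclass : (Subgroup.centralizer ({s} : Set G)).index ≤ Nat.card {v : G // IsConj s v} := by
    refine Nat.card_le_card_of_injective (fun q : G ⧸ Subgroup.centralizer ({s} : Set G) =>
      (⟨q.out * s * q.out⁻¹, isConj_iff.mpr ⟨q.out, rfl⟩⟩ : {v : G // IsConj s v})) ?_
    intro a b h
    rw [← QuotientGroup.out_eq' a, ← QuotientGroup.out_eq' b, QuotientGroup.eq,
      Subgroup.mem_centralizer_singleton_iff]
    have h' : a.out * s * a.out⁻¹ = b.out * s * b.out⁻¹ := Subtype.ext_iff.mp h
    calc a.out⁻¹ * b.out * s = a.out⁻¹ * (b.out * s * b.out⁻¹) * b.out := by group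
      _ = a.out⁻¹ * (a.out * s * a.out⁻¹) * b.out := by rw [h']
      _ = s * (a.out⁻¹ * b.out) := by group
  have hc0 : 0 < Nat.card C := Nat.card_pos
  have hlt : (Subgroup.centralizer ({s} : Set G)).index < Nat.card C * Nat.card C :=
    (hclass.trans hle).trans_lt (Nat.mul_lt_mul_of_pos_left (by omega) hc0)
  rw [← Subgroup.card_mul_index (Subgroup.centralizer ({s} : Set G)), pow_three]
  calc Nat.card (Subgroup.centralizer ({s} : Set G)) * (Subgroup.centralizer ({s} : Set G)).index
      ≤ Nat.card C * (Subgroup.centralizer ({s} : Set G)).index := Nat.mul_le_mul_right _ (hmax s hs)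
    _ < _ := Nat.mul_lt_mul_of_pos_left hlt hc0

end Cfsg.Agent.S0230
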