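import Cfsg.Statements.S0232
import Cfsg.Agent.Lib.Involutions.Counting
import Mathlib.GroupTheory.QuotientGroup.Finite
import Mathlib.GroupTheory.Transfer
import Mathlib.GroupTheory.Sylow

set_option autoImplicit false
open Cfsg

namespace Cfsg.Agent.S0232

universe u

theorem aux : ∀ (m : ℕ) (G : Type u) [Group G] [Finite G], Nat.card G = m → Even m → 2 < m →
    ∃ H : Subgroup G, H ≠ ⊤ ∧ m < (Nat.card H) ^ 3 := by
  intro m
  induction m using Nat.strong_induction_on with
  | _ m ih =>
    intro G _ _ hm heven hgt
    have hindex2 : ∀ K : Subgroup G, K.index = 2 → ∃ H : Subgroup G, H ≠ ⊤ ∧ m < (Nat.card H) ^ 3 := by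
      intro K hK
      refine ⟨K, by intro h; rw [h] at hK; simp at hK, ?_⟩
      have := K.card_mul_index
      rw [hK, hm] at this
      have h2 : 2 ≤ Nat.card K := by omega
      have h4 : 2 * 2 ≤ Nat.card K * Nat.card K := Nat.mul_le_mul h2 h2
      have : (Nat.card K) ^ 3 = Nat.card K * Nat.card K * Nat.card K := by ring
      nlinarith
    by_cases hZ : Even (Nat.card (Subgroup.center G))
    · obtain ⟨t, ht⟩ := exists_prime_orderOf_dvd_card' (p := 2) hZ.two_dvd
      let N : Subgroup G := Subgroup.zpowers (t : G)
      have hN : Nat.card N = 2 := by rw [Nat.card_zpowers, Subgroup.orderOf_coe, ht]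
      have hNn : N.Normal := ⟨fun n hn g => by
        have hc : n ∈ Subgroup.center G := (Subgroup.zpowers_le.mpr t.2) hn
        rw [Subgroup.mem_center_iff.mp hc g, mul_inv_cancel_right]; exact hn⟩
      have hQ : Nat.card (G ⧸ N) * 2 = m := by
        rw [← hN, ← hm]; exact (Subgroup.card_eq_card_quotient_mul_card_subgroup N).symm
      by_cases hq : Even (Nat.card (G ⧸ N)) ∧ 2 < Nat.card (G ⧸ N)
      · obtain ⟨H, hH, hlt⟩ := ih _ (by omega) (G ⧸ N) rfl hq.1 hq.2
        refine ⟨H.comap (QuotientGroup.mk' N), ?_, ?_⟩
        · intro h
          apply hH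
          rw [← Subgroup.map_comap_eq_self_of_surjective (QuotientGroup.mk'_surjective N) H, h,
            Subgroup.map_top_of_surjective _ (QuotientGroup.mk'_surjective N)]
        · have h1 := Subgroup.card_mul_index (H.comap (QuotientGroup.mk' N))
          rw [Subgroup.index_comap_of_surjective H (QuotientGroup.mk'_surjective N), hm] at h1
          have h2 := H.card_mul_index
          have hh : Nat.card (H.comap (QuotientGroup.mk' N)) = 2 * Nat.card H := by
            apply Nat.eq_of_mul_eq_mul_right (Nat.pos_of_ne_zero H.index_ne_zero_of_finite)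
            rw [h1, mul_assoc, h2, mul_comm, hQ]
          rw [hh, mul_pow]
          omega
      · by_cases h4 : Nat.card (G ⧸ N) = 2
        · refine ⟨N, ?_, ?_⟩
          · intro h; rw [h, Subgroup.card_top, hm] at hN; omega
          · rw [hN]; omega
        · have hodd : ¬ Even (Nat.card (G ⧸ N)) := by
            intro he
            apply hq
            refine ⟨he, ?_⟩
            obtain ⟨k, hk⟩ := he
            omega
          -- the subgroup N is a Sylow 2-subgroup
          have hNp : IsPGroup 2 N := IsPGroup.of_card (n := 1) (by rw [hN]; rfl)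
          have hidx : ¬ 2 ∣ N.index := fun h => hodd (even_iff_two_dvd.mpr h)
          let T : Sylow 2 G := hNp.toSylow hidx
          have hTc : Subgroup.normalizer ((T : Subgroup G) : Set G) ≤ Subgroup.centralizer (T : Set G) := by
            intro g _
            rw [Subgroup.mem_centralizer_iff]
            intro n hn
            exact (Subgroup.mem_center_iff.mp ((Subgroup.zpowers_le.mpr t.2) hn) g).symm
          have hcomp := MonoidHom.ker_transferSylow_isComplement' T hTc
          refine hindex2 _ (hcomp.symm.index_eq_card.trans ?_)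
          exact hN
    · rw [Nat.not_even_iff_odd] at hZ
      obtain ⟨H, hH, h⟩ := Invol.exists_small_index (hm ▸ heven) hZ
      rcases h with h | h
      · exact hindex2 H h
      obtain ⟨t, ht⟩ := exists_prime_orderOf_dvd_card' (G := G) (p := 2) (hm ▸ heven).two_dvd
      have hn := Invol.card_centralizer_mul_numInvol ht
      set n := Invol.numInvol G with hn'
      set C := Subgroup.centralizer ({t} : Set G) with hC
      have hCne : C ≠ ⊤ := by
        intro htop
        have hmem : t ∈ Subgroup.center G := by
          rw [Subgroup.mem_center_iff]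
          intro g
          have hg : g ∈ C := by rw [htop]; exact Subgroup.mem_top g
          exact Subgroup.mem_centralizer_singleton_iff.mp hg
        have hd : orderOf (⟨t, hmem⟩ : Subgroup.center G) ∣ Nat.card (Subgroup.center G) :=
          orderOf_dvd_natCard _
        rw [Subgroup.orderOf_mk, ht] at hd
        exact Nat.not_even_iff_odd.mpr hZ (even_iff_two_dvd.mpr hd)
      have hn0 : 0 < n := by
        rcases Nat.eq_zero_or_pos n with h0 | h0
        · rw [h0, mul_zero] at hn; omega
        · exact h0
      have hn1 : n ≤ Nat.card G := by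
        rw [hn', Invol.numInvol]
        exact Nat.card_le_card_of_injective Subtype.val Subtype.val_injective
      have hT : H.index < Nat.card C ^ 2 := by
        by_contra hge
        rw [not_lt] at hge
        have e1 : Nat.card G * (Nat.card G + n - 1) ≤ Nat.card G * (2 * Nat.card G) := by gcongr; omega
        have e2 : Nat.card G * Nat.card G ≤ (Nat.card C * n) * (Nat.card C * n) := Nat.mul_le_mul hn hn
        have e3 : Nat.card C ^ 2 * (n * n) ≤ H.index * (n * n) := Nat.mul_le_mul_right _ hge
        have e4 : 0 < H.index * n := Nat.mul_pos (Nat.pos_of_ne_zero H.index_ne_zero_of_finite) hn0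
        nlinarith
      have hcard := H.card_mul_index
      rw [hm] at hcard
      have hHpos : 0 < Nat.card H := Nat.card_pos
      have key : m < Nat.card H * Nat.card C ^ 2 := by
        rw [← hcard]; exact (Nat.mul_lt_mul_left hHpos).mpr hT
      by_cases hle : Nat.card H ≤ Nat.card C
      · refine ⟨C, hCne, key.trans_le ?_⟩
        rw [pow_succ' (Nat.card C) 2]; exact Nat.mul_le_mul_right _ hle
      · refine ⟨H, hH, key.trans_le ?_⟩
        rw [pow_succ' (Nat.card H) 2]; exact Nat.mul_le_mul_left _ (Nat.pow_le_pow_left (by omega) 2)

/-- A finite group G of even order greater than 2 has a proper subgroup H with |G| < |H|^3. -/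
theorem result {G : Type*} [Group G] [Finite G] (heven : Even (Nat.card G)) (hgt : 2 < Nat.card G) : ∃ H : Subgroup G, H ≠ ⊤ ∧ Nat.card G < (Nat.card H) ^ 3 := by
  exact aux (Nat.card G) G rfl heven hgt

end Cfsg.Agent.S0232
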