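import Cfsg.Statements.S0234
import Mathlib.GroupTheory.SpecificGroups.Alternating.Simple
import Cfsg.Agent.Lib.Involutions.Counting
import Cfsg.Agent.Lib.Small.Embedding
import Cfsg.Agent.Lib.Small.Burnside

set_option autoImplicit false
open Cfsg

namespace Cfsg.Agent.S0234

theorem a5_count : Nat.card {σ : alternatingGroup (Fin 5) // σ * σ = 1 ∧ σ ≠ 1} = 15 := by
  rw [Nat.card_eq_fintype_card]
  decide +kernel

/-- In a finite simple group G of even order greater than 2, the number n of involutions satisfies 3n < |G|. -/
theorem result {G : Type*} [Group G] [Finite G] [IsSimpleGroup G] (heven : Even (Nat.card G)) (hgt : 2 < Nat.card G) : 3 * Nat.card {t : G // orderOf t = 2} < Nat.card G := by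
  have hab : ¬ IsMulCommutative G := by
    intro h
    have hp : (Nat.card G).Prime := by
      letI : CommGroup G := { (inferInstance : Group G) with mul_comm := h.is_comm.comm }
      exact IsSimpleGroup.prime_card
    exact absurd ((Nat.prime_def_lt.mp hp).2 2 hgt heven.two_dvd) (by norm_num)
  have hZ : Subgroup.center G = ⊥ := by
    rcases (inferInstance : (Subgroup.center G).Normal).eq_bot_or_eq_top with h | h
    · exact h
    · exact absurd ⟨⟨fun a b => Subgroup.mem_center_iff.mp (h ▸ Subgroup.mem_top b) a⟩⟩ hab
  obtain ⟨H, hH, hb⟩ := Invol.exists_small_index heven (by rw [hZ]; simp)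
  have h5 := Small.five_le_index hab hH
  rcases hb with h | h
  · omega
  show 3 * Invol.numInvol G < Nat.card G
  by_contra hge
  rw [not_lt] at hge
  set n := Invol.numInvol G with hn'
  set g := Nat.card G with hg'
  have hi : H.index = 5 := by
    have hn0 : 0 < n := by omega
    have e1 : g * (g + n - 1) ≤ (3 * n) * (3 * n + n) := Nat.mul_le_mul hge (by omega)
    by_contra hne
    have h6 : 6 ≤ H.index := by omega
    have e2 : 2 * 6 * (n * (n + 1)) ≤ 2 * H.index * (n * (n + 1)) := by gcongr
    nlinarith
  obtain ⟨f, hf⟩ : ∃ f : G →* alternatingGroup (Fin 5), Function.Injective f := by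
    rw [← hi]; exact Small.exists_hom_alternating hab hH
  have hn15 : n ≤ 15 := by
    rw [← a5_count]
    refine Nat.card_le_card_of_injective (fun t => ⟨f t.1, ?_, ?_⟩) ?_
    · rw [← map_mul, Invol.mul_self t.2, map_one]
    · rw [← map_one f]; exact hf.ne (Invol.ne_one t.2)
    · exact fun a b h => Subtype.ext (hf (Subtype.ext_iff.mp h))
  have h60 : g ∣ 60 := by
    have := Small.card_two_mul_dvd_factorial hab hH
    rw [hi, show (5:ℕ).factorial = 2 * 60 by rfl] at this
    exact (Nat.mul_dvd_mul_iff_left (by norm_num : 0 < 2)).mp this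
  have h5d : 5 ∣ g := hi ▸ H.index_dvd_card
  have h4 : 4 ∣ g := by
    by_contra h4
    obtain ⟨T⟩ : Nonempty (Sylow 2 G) := inferInstance
    have hT : Nat.card T = 2 := by
      obtain ⟨k, hk⟩ := IsPGroup.iff_card.mp T.2
      have h1 := Small.one_lt_card_sylow heven.two_dvd T
      have h2 : k < 2 := by
        by_contra hk2
        exact h4 (((pow_dvd_pow 2 (not_lt.mp hk2)).trans (hk ▸ dvd_rfl)).trans
          (T : Subgroup G).card_subgroup_dvd_card)
      rw [hk] at h1 ⊢
      interval_cases k <;> simp_all
    haveI : IsCyclic (T : Subgroup G) := isCyclic_of_prime_card hT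
    obtain ⟨K, hK⟩ := Small.exists_index_two_of_cyclic heven T inferInstance
    have := Small.five_le_index hab (H := K) (by intro e; rw [e] at hK; simp at hK)
    omega
  obtain ⟨m, hm⟩ := Nat.Coprime.mul_dvd_of_dvd_of_dvd (by norm_num : Nat.Coprime 4 5) h4 h5d
  have hm3 : m ∣ 3 := (Nat.mul_dvd_mul_iff_left (by norm_num : 0 < 20)).mp (hm ▸ h60)
  rcases (Nat.dvd_prime Nat.prime_three).mp hm3 with rfl | rfl
  · -- order twenty
    have h20 : f.range.index = 3 := by
      have := f.range.card_mul_index
      rw [← Nat.card_congr (MonoidHom.ofInjective hf).toEquiv, ← hg', hm, nat_card_alternatingGroup] at this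
      simp only [Nat.card_eq_fintype_card, Fintype.card_fin, Nat.factorial] at this
      omega
    haveI : IsSimpleGroup (alternatingGroup (Fin 5)) := alternatingGroup.isSimpleGroup_five
    have := Small.five_le_index (G := alternatingGroup (Fin 5)) (H := f.range)
      (by intro hc; exact hab ⟨⟨fun a b => hf (by rw [map_mul, map_mul]; exact hc.is_comm.comm _ _)⟩⟩)
      (by intro e; rw [e] at h20; simp at h20)
    omega
  · omega

end Cfsg.Agent.S0234
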