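import Cfsg.Statements.S0236
import Cfsg.Agent.Lib.Involutions.Counting

set_option autoImplicit false
open Cfsg

namespace Cfsg.Agent.S0236

/-- If x is an involution, the number of ordered pairs (u, v) of involutions with uv = x, plus one, equals the number of involutions in the centralizer of x. -/
theorem result {G : Type*} [Group G] [Finite G] (x : G) (hx : orderOf x = 2) : Nat.card {p : G × G // orderOf p.1 = 2 ∧ orderOf p.2 = 2 ∧ p.1 * p.2 = x} + 1 = Nat.card {t : G // orderOf t = 2 ∧ Commute t x} := by
  classical
  have : Nat.card {t : G // orderOf t = 2 ∧ Commute t x} =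
      Nat.card (Option (Invol.Pairs x)) := by
    symm
    refine Nat.card_congr (Equiv.ofBijective
      (fun o => Option.elim o ⟨x, hx, Commute.refl x⟩ (fun p => ⟨p.1.1, p.2.1, ?_⟩)) ⟨?_, ?_⟩)
    · have h := Invol.pair_fst_inverts p
      rw [Invol.inv_self hx, mul_inv_eq_iff_eq_mul] at h
      exact h
    · have hne : ∀ p : Invol.Pairs x, p.1.1 ≠ x := by
        intro p h
        have := p.2.2.2
        rw [h] at this
        exact Invol.ne_one p.2.2.1 (mul_eq_left.mp this)
      rintro (_ | p) (_ | q) h
      · rfl
      · exact absurd (Subtype.ext_iff.mp h).symm (hne q)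
      · exact absurd (Subtype.ext_iff.mp h) (hne p)
      · exact congrArg some (Invol.pair_fst_injective x (Subtype.ext_iff.mp h))
    · rintro ⟨t, ht, hc⟩
      by_cases h : t = x
      · exact ⟨none, Subtype.ext h.symm⟩
      · refine ⟨some ⟨(t, t * x), ht, Invol.order_two_of_sq ?_ ?_, ?_⟩, rfl⟩
        · change t * x * (t * x) = 1
          rw [hc.symm.mul_mul_mul_comm, Invol.mul_self ht, Invol.mul_self hx, mul_one]
        · intro he
          exact h ((mul_eq_one_iff_eq_inv.mp he).trans (Invol.inv_self hx))
        · rw [← mul_assoc, Invol.mul_self ht, one_mul]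
  rw [this, Finite.card_option]

end Cfsg.Agent.S0236
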