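import Cfsg.Statements.S0239
import Cfsg.Agent.Lib.Involutions.Basic
import Mathlib.GroupTheory.Coset.Card

set_option autoImplicit false
open Cfsg

namespace Cfsg.Agent.S0239

/-- If some nontrivial element x of a finite group G is conjugate to x⁻¹, then |G| is even. -/
theorem result {G : Type*} [Group G] [Finite G] (x : G) (hx : x ≠ 1) (hreal : IsConj x x⁻¹) : Even (Nat.card G) := by
  obtain ⟨g, hg⟩ := isConj_iff.mp hreal
  by_contra hodd
  rw [Nat.not_even_iff_odd] at hodd
  obtain ⟨k, hk⟩ := Invol.exists_sqrt (hodd.of_dvd_nat (orderOf_dvd_natCard g))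
  have h2 : g ^ 2 * x * (g ^ 2)⁻¹ = x := by
    rw [pow_two, mul_inv_rev, show g * g * x * (g⁻¹ * g⁻¹) = g * (g * x * g⁻¹) * g⁻¹ by group, hg,
      ← _root_.conj_inv, hg, inv_inv]
  have hc : Commute (g ^ 2) x := mul_inv_eq_iff_eq_mul.mp h2
  have hgx : Commute g x := by
    rw [← hk, ← pow_mul, mul_comm, pow_mul]
    exact hc.pow_left k
  rw [hgx.eq, mul_inv_cancel_right] at hg
  exact hx (Invol.eq_one_of_sq_of_odd (hodd.of_dvd_nat (orderOf_dvd_natCard x))
    (by rw [pow_two]; exact mul_eq_one_iff_eq_inv.mpr hg))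

end Cfsg.Agent.S0239
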