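import Cfsg.Statements.S0240
import Cfsg.Agent.Lib.Involutions.Basic
import Mathlib.GroupTheory.Index

set_option autoImplicit false
open Cfsg

namespace Cfsg.Agent.S0240

/-- Let G be a finite group with n involutions and H a subgroup with |H|·(n+1) > |G|. Then some nontrivial h ∈ H is strongly real in G: an involution t of G satisfies t h t⁻¹ = h⁻¹. -/
theorem result {G : Type*} [Group G] [Finite G] (H : Subgroup G) (hH : Nat.card G < Nat.card H * (Nat.card {t : G // orderOf t = 2} + 1)) : ∃ h : G, h ∈ H ∧ h ≠ 1 ∧ ∃ t : G, orderOf t = 2 ∧ t * h * t⁻¹ = h⁻¹ := by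
  classical
  by_contra hno
  push Not at hno
  have hinj : Function.Injective
      (fun p : ({t : G // orderOf t = 2} ⊕ Unit) × H =>
        (Sum.elim (fun t => t.1) (fun _ => (1 : G)) p.1) * p.2.1) := by
    have key : ∀ a b : G, (a = 1 ∨ orderOf a = 2) → (b = 1 ∨ orderOf b = 2) →
        ∀ h k : H, a * h.1 = b * k.1 → a = b := by
      intro a b ha hb h k he
      have hm : a⁻¹ * b ∈ H := by
        rw [show a⁻¹ * b = h.1 * k.1⁻¹ by
          rw [eq_mul_inv_iff_mul_eq, mul_assoc, ← he, inv_mul_cancel_left]]
        exact mul_mem h.2 (inv_mem k.2)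
      rcases ha with rfl | ha <;> rcases hb with rfl | hb
      · rfl
      · rw [inv_one, one_mul] at hm
        exact absurd (mul_inv_cancel_right b b |>.trans (Invol.inv_self hb).symm) (hno b hm (Invol.ne_one hb) b hb)
      · rw [mul_one, Invol.inv_self ha] at hm
        exact absurd (mul_inv_cancel_right a a |>.trans (Invol.inv_self ha).symm) (hno a hm (Invol.ne_one ha) a ha)
      · by_contra hne
        refine hno _ hm ?_ a ha ?_
        · intro h1
          exact hne (inv_mul_eq_one.mp h1)
        · rw [Invol.inv_self ha, Invol.conj_mul ha hb |>.symm]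
          simp [Invol.inv_self ha]
    rintro ⟨a, h⟩ ⟨b, k⟩ he
    simp only at he
    have hab := key _ _ (by rcases a with a | a; exacts [Or.inr a.2, Or.inl rfl])
      (by rcases b with b | b; exacts [Or.inr b.2, Or.inl rfl]) h k he
    rw [hab] at he
    have hab' : a = b := by
      rcases a with a | a <;> rcases b with b | b
      · exact congrArg _ (Subtype.ext hab)
      · exact absurd hab (Invol.ne_one a.2)
      · exact absurd hab.symm (Invol.ne_one b.2)
      · rfl
    exact Prod.ext hab' (Subtype.ext (mul_left_cancel he))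
  have := Nat.card_le_card_of_injective _ hinj
  rw [Nat.card_prod, Nat.card_sum, Nat.card_unique (α := Unit)] at this
  rw [mul_comm] at hH
  omega

end Cfsg.Agent.S0240
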