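import Cfsg.Statements.S0241
import Cfsg.Agent.Lib.Involutions.Basic
import Mathlib.GroupTheory.Coset.Card

set_option autoImplicit false
open Cfsg

namespace Cfsg.Agent.S0241

/-- If x ≠ 1 is conjugate to x⁻¹ in a finite group G and |C_G(x)| is odd, then some involution t satisfies t x t⁻¹ = x⁻¹. -/
theorem result {G : Type*} [Group G] [Finite G] (x : G) (hx : x ≠ 1) (hreal : IsConj x x⁻¹) (hodd : Odd (Nat.card (Subgroup.centralizer ({x} : Set G)))) : ∃ t : G, orderOf t = 2 ∧ t * x * t⁻¹ = x⁻¹ := by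
  obtain ⟨g, hg⟩ := isConj_iff.mp hreal
  have hmem : g ^ 2 ∈ Subgroup.centralizer ({x} : Set G) := by
    rw [Subgroup.mem_centralizer_singleton_iff, ← mul_inv_eq_iff_eq_mul, pow_two, mul_inv_rev,
      show g * g * x * (g⁻¹ * g⁻¹) = g * (g * x * g⁻¹) * g⁻¹ by group, hg, ← _root_.conj_inv, hg,
      inv_inv]
  have ho : Odd (orderOf (g ^ 2)) := by
    refine hodd.of_dvd_nat ?_
    rw [← Subgroup.orderOf_mk _ hmem]; exact orderOf_dvd_natCard _
  set m := orderOf (g ^ 2) with hm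
  refine ⟨g ^ m, Invol.order_two_of_sq ?_ ?_, ?_⟩
  · rw [← pow_add, ← two_mul, pow_mul, hm, pow_orderOf_eq_one]
  · intro h1
    have hcomm : Commute g x := by
      obtain ⟨j, hj⟩ := ho
      have e : g = (g ^ 2) ^ (j + 1) := by
        rw [← pow_mul, show 2 * (j + 1) = m + 1 by omega, pow_succ, h1, one_mul]
      rw [e]
      exact (Subgroup.mem_centralizer_singleton_iff.mp hmem : g ^ 2 * x = x * g ^ 2) |>
        fun h => Commute.pow_left h _
    rw [hcomm.eq, mul_inv_cancel_right] at hg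
    refine hx (Invol.eq_one_of_sq_of_odd ?_ (by rw [pow_two]; exact mul_eq_one_iff_eq_inv.mpr hg))
    have hxm : x ∈ Subgroup.centralizer ({x} : Set G) := Subgroup.mem_centralizer_singleton_iff.mpr rfl
    refine hodd.of_dvd_nat ?_
    rw [← Subgroup.orderOf_mk _ hxm]; exact orderOf_dvd_natCard _
  · obtain ⟨j, hj⟩ := ho
    have hc : Commute ((g ^ 2) ^ j) x :=
      Commute.pow_left (Subgroup.mem_centralizer_singleton_iff.mp hmem) _
    rw [show m = 2 * j + 1 by omega, pow_succ', pow_mul, mul_inv_rev]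
    rw [show g * (g ^ 2) ^ j * x * (((g ^ 2) ^ j)⁻¹ * g⁻¹) =
      g * ((g ^ 2) ^ j * x * ((g ^ 2) ^ j)⁻¹) * g⁻¹ by group, hc.eq, mul_inv_cancel_right, hg]

end Cfsg.Agent.S0241
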