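import Cfsg.Statements.S0250
import Cfsg.Agent.Lib.Classical.GL2

set_option autoImplicit false
open Cfsg

namespace Cfsg.Agent.S0250

/-- SL_2(2) is isomorphic to S_3. -/
theorem result {F : Type*} [Field F] [Fintype F] (hF : Fintype.card F = 2) : Nonempty (Matrix.SpecialLinearGroup (Fin 2) F ≃* Equiv.Perm (Fin 3)) := by
  classical
  let Ω := {v : Fin 2 → F // v ≠ 0}
  have hΩ : Fintype.card Ω = 3 := by
    rw [Fintype.card_subtype_compl, Fintype.card_subtype_eq, Fintype.card_fun, Fintype.card_fin, hF]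
    rfl
  let f : Matrix.SpecialLinearGroup (Fin 2) F →* Equiv.Perm Ω :=
    { toFun := fun g =>
        { toFun := fun v => ⟨g • v.1, fun h => v.2 ((smul_eq_zero_iff_eq g).1 h)⟩
          invFun := fun v => ⟨g⁻¹ • v.1, fun h => v.2 ((smul_eq_zero_iff_eq g⁻¹).1 h)⟩
          left_inv := fun v => Subtype.ext (inv_smul_smul g v.1)
          right_inv := fun v => Subtype.ext (smul_inv_smul g v.1) }
      map_one' := Equiv.ext fun v => Subtype.ext (one_smul _ v.1)
      map_mul' := fun g h => Equiv.ext fun v => Subtype.ext (mul_smul g h v.1) }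
  have hinj : Function.Injective f := fun g h hgh =>
    Cfsg.Agent.ClassicalSL.ext_of_smul_single fun k =>
      congrArg Subtype.val (Equiv.ext_iff.1 hgh ⟨Pi.single k 1, Pi.single_ne_zero_iff.2 one_ne_zero⟩)
  have hcard : Nat.card (Matrix.SpecialLinearGroup (Fin 2) F) = Nat.card (Equiv.Perm Ω) := by
    have h := Cfsg.Agent.ClassicalSL.card_sl_mul (ι := Fin 2) (F := F)
    rw [Cfsg.Agent.ClassicalGL2.card_gl2, Nat.card_eq_fintype_card (α := F), hF] at h
    rw [Nat.card_perm, Nat.card_eq_fintype_card (α := Ω), hΩ]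
    simpa [Nat.factorial] using h
  exact ⟨(MulEquiv.ofBijective f ((Nat.bijective_iff_injective_and_card f).2 ⟨hinj, hcard⟩)).trans
    (Fintype.equivFinOfCardEq hΩ).permCongrHom⟩

end Cfsg.Agent.S0250
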