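import Cfsg.Statements.S0257
import Cfsg.Agent.Lib.Classical.ProjLine
import Cfsg.Agent.Lib.Classical.SL2Sylow
import Mathlib.GroupTheory.SpecificGroups.Alternating.KleinFour

set_option autoImplicit false
open Cfsg

namespace Cfsg.Agent.S0257

/-- SL_2(3) has a normal subgroup of index 3 isomorphic to the quaternion group of order 8, and its centre has order 2. -/
theorem result {F : Type*} [Field F] [Fintype F] (hF : Fintype.card F = 3) : (∃ Q : Subgroup (Matrix.SpecialLinearGroup (Fin 2) F), Q.Normal ∧ Q.index = 3 ∧ Nonempty (Q ≃* QuaternionGroup 2)) ∧ Nat.card (Subgroup.center (Matrix.SpecialLinearGroup (Fin 2) F)) = 2 := by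
  classical
  have hN : Nat.card F = 3 := by rw [Nat.card_eq_fintype_card, hF]
  obtain ⟨p, hcp⟩ := CharP.exists F
  obtain ⟨n, hp, hcard⟩ := FiniteField.card F p
  haveI := Fact.mk hp
  have hp3 : p = 3 := ((Nat.prime_dvd_prime_iff_eq hp Nat.prime_three).1
    (by rw [hF] at hcard; rw [hcard]; exact dvd_pow_self p n.ne_zero))
  have hcen : Nat.card (Subgroup.center (Matrix.SpecialLinearGroup (Fin 2) F)) = 2 := by
    rw [ClassicalSL.card_center_sl, hN, Fintype.card_fin]
    rfl
  refine ⟨?_, hcen⟩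
  haveI : Fact (Nat.Prime 2) := ⟨Nat.prime_two⟩
  obtain ⟨e⟩ := ProjLine.equiv_alternating (G := Matrix.ProjectiveSpecialLinearGroup (Fin 2) F)
    (n := 4) (by rw [ProjLine.card_eq, hN])
    Projectivization.PSLAction.toPermHom
    Matrix.ProjectiveSpecialLinearGroup.toPermHom_injective (by
      have h := ProjLine.two_mul_card_psl (F := F)
      rw [hN, show Nat.gcd 2 (3 - 1) = 2 from rfl] at h
      simp only [show Nat.factorial 4 = 24 from rfl]
      omega)
  have h4 : Nat.card (Fin 4) = 4 := Nat.card_fin 4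
  let V := alternatingGroup.kleinFour (Fin 4)
  haveI hV : V.Normal := alternatingGroup.normal_kleinFour h4
  let π : Matrix.SpecialLinearGroup (Fin 2) F →* alternatingGroup (Fin 4) :=
    e.toMonoidHom.comp (QuotientGroup.mk' _)
  have hπ : Function.Surjective π := e.surjective.comp (QuotientGroup.mk'_surjective _)
  have hidx : (V.comap π).index = 3 := by
    rw [Subgroup.index_comap_of_surjective _ hπ]
    have h1 := Subgroup.card_mul_index V
    have h2 := Subgroup.card_mul_index (alternatingGroup (Fin 4))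
    rw [alternatingGroup.index_eq_two, Nat.card_perm, h4] at h2
    rw [alternatingGroup.kleinFour_card_of_card_eq_four h4] at h1
    rw [show Nat.factorial 4 = 24 from rfl] at h2
    omega
  haveI hQn : (V.comap π).Normal := hV.comap π
  have hcardG : Nat.card (Matrix.SpecialLinearGroup (Fin 2) F) = 24 := by
    have h := ClassicalSL.card_sl_mul (ι := Fin 2) (F := F)
    rw [ClassicalGL2.card_gl2, hN] at h
    omega
  have hcardQ : Nat.card (V.comap π) = 8 := by
    have h1 := Subgroup.card_mul_index (V.comap π)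
    rw [hidx, hcardG] at h1
    omega
  have hQ : IsPGroup 2 (V.comap π) := IsPGroup.of_card (n := 3) (by rw [hcardQ]; rfl)
  obtain ⟨Q₀, hQ₀, x, hx, y, hy, hxy⟩ :=
    SL2Sylow.exists_noncomm_twoGroup (F := F) p (by omega)
  have hle : Q₀ ≤ V.comap π := by
    intro g hg
    obtain ⟨k, hk⟩ := hQ₀ ⟨g, hg⟩
    rw [← QuotientGroup.eq_one_iff, ← orderOf_eq_one_iff]
    have h1 : orderOf (g : Matrix.SpecialLinearGroup (Fin 2) F ⧸ V.comap π) ∣ 2 ^ k := by
      rw [orderOf_dvd_iff_pow_eq_one, ← QuotientGroup.mk_pow,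
        show g ^ 2 ^ k = 1 from congrArg Subtype.val hk, QuotientGroup.mk_one]
    have h2 : orderOf (g : Matrix.SpecialLinearGroup (Fin 2) F ⧸ V.comap π) ∣ 3 := by
      rw [← hidx, Subgroup.index_eq_card]
      exact orderOf_dvd_natCard _
    exact Nat.eq_one_of_dvd_coprimes (Nat.Coprime.pow_left k (by norm_num)) h1 h2
  obtain ⟨k, hk1, ⟨e'⟩⟩ := SL2Sylow.quaternion_of_twoGroup p (by omega) _ hQ
    ⟨x, hle hx, y, hle hy, hxy⟩
  have hk : k = 1 := by
    have h := Nat.card_congr e'.toEquiv
    rw [hcardQ, Nat.card_eq_fintype_card, QuaternionGroup.card] at h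
    refine Nat.pow_right_injective (le_refl 2) (show 2 ^ k = 2 ^ 1 by omega)
  subst hk
  exact ⟨V.comap π, hQn, hidx, ⟨e'⟩⟩

end Cfsg.Agent.S0257
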