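import Cfsg.Statements.S0267
import Cfsg.Agent.Lib.Classical.ProjLine
import Mathlib.FieldTheory.Finite.Basic

set_option autoImplicit false
open Cfsg

namespace Cfsg.Agent.S0267

/-- SL_2(q) is 3-transitive on the q+1 points of the projective line if and only if q is even. -/
theorem result {F : Type*} [Field F] [Fintype F] : MulAction.IsMultiplyPretransitive (Matrix.SpecialLinearGroup (Fin 2) F) (Projectivization F (Fin 2 → F)) 3 ↔ ringChar F = 2 := by
  constructor
  · intro h
    by_contra hF
    obtain ⟨ν, hν⟩ := FiniteField.exists_nonsquare hF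
    have hν0 : ν ≠ 0 := by
      rintro rfl
      exact hν ⟨0, by simp⟩
    have hne : ![1, ν] ≠ 0 := fun e => one_ne_zero (congrFun e 0)
    have h0 : (ProjLine.p0 : Projectivization F (Fin 2 → F)) ≠ Projectivization.mk F ![1, ν] hne := by
      intro e
      obtain ⟨a, ha⟩ := (Projectivization.mk_eq_mk_iff' F _ _ _ _).1 e
      have := congrFun ha 0
      have := congrFun ha 1
      simp_all
    have h1 : (ProjLine.p1 : Projectivization F (Fin 2 → F)) ≠ Projectivization.mk F ![1, ν] hne := by
      intro e
      obtain ⟨a, ha⟩ := (Projectivization.mk_eq_mk_iff' F _ _ _ _).1 e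
      have := congrFun ha 0
      have := congrFun ha 1
      simp_all
    let x : Fin 3 ↪ Projectivization F (Fin 2 → F) :=
      ⟨![ProjLine.p0, ProjLine.p1, ProjLine.p2], by
        intro i j hij
        fin_cases i <;> fin_cases j <;>
          simp_all [ProjLine.p0_ne_p1, ProjLine.p0_ne_p2, ProjLine.p1_ne_p2,
            Ne.symm ProjLine.p0_ne_p1, Ne.symm ProjLine.p0_ne_p2, Ne.symm ProjLine.p1_ne_p2]⟩
    let y : Fin 3 ↪ Projectivization F (Fin 2 → F) :=
      ⟨![ProjLine.p0, ProjLine.p1, Projectivization.mk F ![1, ν] hne], by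
        intro i j hij
        fin_cases i <;> fin_cases j <;>
          simp_all [ProjLine.p0_ne_p1, Ne.symm ProjLine.p0_ne_p1, Ne.symm h0, Ne.symm h1]⟩
    obtain ⟨g, hg⟩ := MulAction.exists_smul_eq (M := Matrix.SpecialLinearGroup (Fin 2) F) x y
    have hi : ∀ i, g • x i = y i := fun i => DFunLike.congr_fun hg i
    have hsq := ProjLine.isSquare_of_fix g (hi 0) (hi 1) hne (hi 2)
    rw [one_mul] at hsq
    exact hν hsq
  · intro hF
    refine ⟨fun x y => ?_⟩
    haveI := ProjLine.isMultiplyPretransitive_three (F := F)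
    obtain ⟨g, hg⟩ := MulAction.exists_smul_eq (M := Matrix.ProjGenLinGroup (Fin 2) F) x y
    induction g using Matrix.ProjGenLinGroup.induction_on with | mk g =>
    obtain ⟨k, hk⟩ := FiniteField.isSquare_of_char_two hF g.1.det⁻¹
    have hd : g.1.det ≠ 0 := Matrix.GeneralLinearGroup.det_ne_zero g
    have hk0 : k ≠ 0 := by
      rintro rfl
      simp [inv_eq_zero, hd] at hk
    let s : Matrix.SpecialLinearGroup (Fin 2) F := ⟨k • g.1, by
      rw [Matrix.det_smul, Fintype.card_fin, pow_two, ← hk, inv_mul_cancel₀ hd]⟩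
    refine ⟨s, DFunLike.ext _ _ fun i => ?_⟩
    rw [← hg]
    show s • x i = Matrix.ProjGenLinGroup.mk g • x i
    induction x i using Projectivization.ind with | _ v hv =>
    rw [Projectivization.PGL.mk_smul_mk, Projectivization.smul_mk,
      Projectivization.mk_eq_mk_iff']
    refine ⟨k, ?_⟩
    show _ = (k • g.1).mulVec v
    rw [Matrix.smul_mulVec]
    rfl

end Cfsg.Agent.S0267
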