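import Cfsg.Statements.S0268
import Mathlib.FieldTheory.Finite.Basic
import Mathlib.Tactic.LinearCombination


set_option autoImplicit false
open Cfsg

namespace Cfsg.Agent.S0268

/-- For q odd, -1 is the unique involution of SL_2(q). -/
theorem result {F : Type*} [Field F] [Fintype F] (hF : Odd (Fintype.card F)) (g : Matrix.SpecialLinearGroup (Fin 2) F) (h1 : g ≠ 1) (h2 : g * g = 1) : (g : Matrix (Fin 2) (Fin 2) F) = -1 := by
  have hgg := h2
  clear h2
  have h2 : (2 : F) ≠ 0 := by
    have hc : ringChar F ≠ 2 := fun h =>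
      Nat.not_even_iff_odd.2 hF (Nat.even_iff.2 (FiniteField.even_card_of_char_two h))
    exact Ring.two_ne_zero hc
  have hinv : g⁻¹ = g := inv_eq_of_mul_eq_one_right hgg
  have h : Matrix.adjugate g.1 = g.1 := congrArg Subtype.val hinv
  rw [Matrix.adjugate_fin_two] at h
  have h00 := congrFun (congrFun h 0) 0
  have h01 := congrFun (congrFun h 0) 1
  have h10 := congrFun (congrFun h 1) 0
  simp at h00 h01 h10
  have hb : g.1 0 1 = 0 := (mul_eq_zero.1 (show (2 : F) * g.1 0 1 = 0 by linear_combination -h01)).resolve_left h2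
  have hc : g.1 1 0 = 0 := (mul_eq_zero.1 (show (2 : F) * g.1 1 0 = 0 by linear_combination -h10)).resolve_left h2
  have hd := g.2
  rw [Matrix.det_fin_two, hb, hc, h00] at hd
  simp at hd
  rcases mul_self_eq_one_iff.1 hd with ha | ha
  · exact absurd (Subtype.ext (by
      ext i j; fin_cases i <;> fin_cases j <;> simp [ha, hb, hc, h00])) h1
  · ext i j; fin_cases i <;> fin_cases j <;> simp [ha, hb, hc, h00]

end Cfsg.Agent.S0268
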