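import Cfsg.Statements.S0275
import Cfsg.Agent.S0274
import Cfsg.Agent.Lib.Classical.SL2Sylow

set_option autoImplicit false
open Cfsg

namespace Cfsg.Agent.S0275

/-- If p is odd and H is a subgroup of SL_2(q), q a power of p, with more than one Sylow p-subgroup, then the Sylow 2-subgroups of H are generalised quaternion. -/
theorem result {F : Type*} [Field F] [Fintype F] (p : ℕ) [Fact p.Prime] [CharP F p] (hp : p ≠ 2) (H : Subgroup (Matrix.SpecialLinearGroup (Fin 2) F)) (hH : 1 < Nat.card (Sylow p H)) (S : Sylow 2 H) : ∃ k : ℕ, 1 ≤ k ∧ Nonempty ((S : Subgroup H) ≃* QuaternionGroup (2 ^ k)) := by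
  classical
  obtain ⟨K, hK, ⟨e⟩⟩ := S0274.result p hp H hH
  obtain ⟨Q, hQ, x, hx, y, hy, hne⟩ := SL2Sylow.exists_noncomm_twoGroup (F := ZMod p) p hp
  let φ : Matrix.SpecialLinearGroup (Fin 2) (ZMod p) →* H := (Subgroup.inclusion hK).comp e.symm.toMonoidHom
  have hφ : Function.Injective φ := (Subgroup.inclusion_injective hK).comp e.symm.injective
  obtain ⟨T, hT⟩ := (hQ.map φ).exists_le_sylow
  let ε : T ≃* S := T.equiv S
  have hS : IsPGroup 2 ((S : Subgroup H).map H.subtype) := S.2.map _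
  let μ := (S : Subgroup H).equivMapOfInjective H.subtype Subtype.val_injective
  let a : T := ⟨φ x, hT (Subgroup.mem_map_of_mem φ hx)⟩
  let b : T := ⟨φ y, hT (Subgroup.mem_map_of_mem φ hy)⟩
  have hab : a * b ≠ b * a := fun h => hne (hφ (by
    rw [map_mul, map_mul]; exact congrArg Subtype.val h))
  have hnc : ∃ u ∈ (S : Subgroup H).map H.subtype, ∃ v ∈ (S : Subgroup H).map H.subtype, u * v ≠ v * u := by
    refine ⟨_, (μ (ε a)).2, _, (μ (ε b)).2, fun h => hab ?_⟩
    refine ε.injective (μ.injective ?_)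
    rw [map_mul, map_mul, map_mul, map_mul]
    exact Subtype.ext h
  obtain ⟨k, hk, ⟨f⟩⟩ := SL2Sylow.quaternion_of_twoGroup p hp _ hS hnc
  exact ⟨k, hk, ⟨μ.trans f⟩⟩

end Cfsg.Agent.S0275
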