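import Cfsg.Statements.S0284
import Cfsg.Agent.Lib.Classical.HermSU

set_option autoImplicit false
open Cfsg

namespace Cfsg.Agent.S0284

/-- The standard Hermitian form on F^n, |F| = q^2, has exactly q^(n-1) (q^n - (-1)^n) vectors of norm 1. -/
theorem result {F : Type*} [Field F] [Fintype F] {q : ℕ} (hF : Fintype.card F = q ^ 2) (n : ℕ) : Nat.card {v : Fin n → F // Cfsg.hermForm n F q v v = 1} = (if Even n then q ^ (n - 1) * (q ^ n - 1) else q ^ (n - 1) * (q ^ n + 1)) := by
  obtain ⟨σ, hσ, hne, hinv, hq, hq2⟩ := HermStd.exists_sigma hF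
  have h := HermStd.card_norm_mul hne hinv hσ n hq
  have hpos : 1 ≤ q ^ n := Nat.one_le_pow _ _ (by omega)
  apply Nat.cast_injective (R := ℤ)
  refine mul_left_cancel₀ (show (q : ℤ) ≠ 0 by omega) (h.trans ?_)
  rcases Nat.even_or_odd n with he | ho
  · rw [if_pos he, he.neg_one_pow]
    rcases n with _ | k
    · simp
    · push_cast [Nat.cast_sub hpos]; ring
  · rw [if_neg (Nat.not_even_iff_odd.2 ho), ho.neg_one_pow]
    obtain ⟨k, rfl⟩ := ho
    push_cast
    ring

end Cfsg.Agent.S0284
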