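import Cfsg.Statements.S0286
import Cfsg.Agent.Lib.Orthogonal.Counts

set_option autoImplicit false
open Cfsg

namespace Cfsg.Agent.S0286

/-- |GO_{2m+1}(q)| = 2 q^(m^2) prod_{i=1}^{m} (q^(2i) - 1) for q odd. -/
theorem result {F : Type*} [Field F] [Fintype F] {q : ℕ} (hF : Fintype.card F = q) (hodd : Odd q) (m : ℕ) : Nat.card (Cfsg.isometryGroup F (Cfsg.quadFormOdd m F)) = 2 * q ^ (m ^ 2) * ∏ i ∈ Finset.range m, (q ^ (2 * (i + 1)) - 1) := by
  subst hF
  have h2 : (2 : F) ≠ 0 := by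
    obtain ⟨k, hk⟩ := hodd
    intro h
    have h0 := Nat.cast_card_eq_zero F
    rw [hk] at h0
    push_cast at h0
    exact one_ne_zero (by linear_combination h0 - (k : F) * h)
  rw [Orth.card_isometryGroup (Orth.qOdd F m) (Orth.coe_qOdd m), Orth.card_oGroup_qOdd h2,
    Nat.card_eq_fintype_card]

end Cfsg.Agent.S0286
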