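import Cfsg.Statements.S0307
import Cfsg.Agent.Lib.Classical.SL

set_option autoImplicit false
open Cfsg

namespace Cfsg.Agent.S0307

/-- PSL_n(q) is normal in PGL_n(q) with cyclic quotient of order gcd(n, q-1): the image of the natural map PSL_n → PGL_n is the kernel of a surjective homomorphism onto the cyclic group of that order. -/
theorem result {F : Type*} [Field F] [Fintype F] {q : ℕ} (hF : Fintype.card F = q) (n : ℕ) (hn : 1 ≤ n) : ∃ g : Matrix.ProjGenLinGroup (Fin n) F →* Multiplicative (ZMod (Nat.gcd n (q - 1))), Function.Surjective g ∧ g.ker = (Matrix.ProjectiveSpecialLinearGroup.toPGL : Matrix.ProjectiveSpecialLinearGroup (Fin n) F →* Matrix.ProjGenLinGroup (Fin n) F).range := by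
  haveI : Nonempty (Fin n) := Fin.pos_iff_nonempty.1 hn
  let R : Subgroup Fˣ := (powMonoidHom n : Fˣ →* Fˣ).range
  have hcard : Nat.card (Fˣ ⧸ R) = Nat.gcd n (q - 1) := by
    show R.index = _
    rw [IsCyclic.index_powMonoidHom_range, Nat.card_units, Nat.card_eq_fintype_card, hF,
      Nat.gcd_comm]
  haveI : IsCyclic (Fˣ ⧸ R) :=
    isCyclic_of_surjective (QuotientGroup.mk' R) (QuotientGroup.mk'_surjective R)
  let e : (Fˣ ⧸ R) ≃* Multiplicative (ZMod (Nat.gcd n (q - 1))) :=
    mulEquivOfCyclicCardEq (by rw [hcard, Nat.card_congr Multiplicative.toAdd, Nat.card_zmod])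
  let f : Matrix.GeneralLinearGroup (Fin n) F →* Fˣ ⧸ R :=
    (QuotientGroup.mk' R).comp Matrix.GeneralLinearGroup.det
  have hf : f.comp (Matrix.GeneralLinearGroup.scalar (Fin n)) = 1 := by
    ext a
    simp only [f, MonoidHom.comp_apply, MonoidHom.one_apply, QuotientGroup.mk'_apply,
      QuotientGroup.eq_one_iff]
    exact ⟨a, Units.ext (by simp)⟩
  refine ⟨e.toMonoidHom.comp (Matrix.ProjGenLinGroup.lift f hf), ?_, ?_⟩
  · refine e.surjective.comp (Function.Surjective.of_comp (g := Matrix.ProjGenLinGroup.mk) ?_)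
    intro y
    obtain ⟨x, rfl⟩ := QuotientGroup.mk'_surjective R y
    obtain ⟨g, rfl⟩ := Matrix.GeneralLinearGroup.det_surjective (n := Fin n) x
    exact ⟨g, by simp [f]⟩
  · ext x
    obtain ⟨g, rfl⟩ := Matrix.ProjGenLinGroup.mk_surjective x
    simp only [MonoidHom.mem_ker, MonoidHom.comp_apply, MulEquiv.coe_toMonoidHom,
      MulEquiv.map_eq_one_iff, Matrix.ProjGenLinGroup.lift_mk, f, QuotientGroup.mk'_apply,
      QuotientGroup.eq_one_iff, MonoidHom.mem_range]
    constructor
    · rintro ⟨a, ha⟩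
      refine ⟨QuotientGroup.mk
        ⟨(g * Matrix.GeneralLinearGroup.scalar (Fin n) a⁻¹ :
          Matrix.GeneralLinearGroup (Fin n) F).1, ?_⟩, ?_⟩
      · have h := congrArg Units.val ha
        simp at h
        simp [← h]
      · refine (Matrix.ProjectiveSpecialLinearGroup.toPGL_mk _).trans ?_
        conv_rhs => rw [← mul_one (Matrix.ProjGenLinGroup.mk g),
          ← Matrix.ProjGenLinGroup.mk_scalar (n := Fin n) a⁻¹, ← map_mul]
        exact congrArg _ (Units.ext rfl)
    · rintro ⟨y, hy⟩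
      obtain ⟨s, rfl⟩ := QuotientGroup.mk_surjective y
      rw [Matrix.ProjectiveSpecialLinearGroup.toPGL_mk, Matrix.ProjGenLinGroup.mk_eq_mk_iff] at hy
      obtain ⟨a, ha⟩ := hy
      refine ⟨a, ?_⟩
      rw [← ha]
      exact Units.ext (by simp)

end Cfsg.Agent.S0307
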