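import Cfsg.Statements.S0313
import Cfsg.Agent.Lib.Lie.BNPair
-- import your own Cfsg.Agent.* helpers here

set_option autoImplicit false
open Cfsg

namespace Cfsg.Agent.S0313

/-- Two standard parabolic subgroups of a group with a (B,N)-pair which are conjugate in `G` coincide. -/
theorem result {G : Type*} [Group G] (P : Cfsg.BNPair G) {J K : Set G}
    (hJ : J ⊆ P.S) (hK : K ⊆ P.S) (g : G)
    (h : (P.parabolic J).map (MulAut.conj g).toMonoidHom = P.parabolic K) :
    P.parabolic J = P.parabolic K := by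
  have key : ∀ x, g * x * g⁻¹ ∈ P.parabolic K ↔ x ∈ P.parabolic J := by
    intro x
    rw [← h, Subgroup.mem_map]
    constructor
    · rintro ⟨y, hy, e⟩
      simp only [MulEquiv.coe_toMonoidHom, MulAut.conj_apply, mul_left_inj, mul_right_inj] at e
      exact e ▸ hy
    · exact fun hx => ⟨x, hx, by simp⟩
  obtain ⟨w, hw⟩ := BN.bruhat P g
  obtain ⟨n, hn, rfl⟩ := BN.exists_rep P w
  rw [BN.cell_mk] at hw
  obtain ⟨a, ha, b, hb, rfl⟩ := DoubleCoset.mem_doubleCoset.1 hw
  have hK' := BN.B_le_parabolic P K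
  have hnK : n ∈ P.parabolic K := by
    refine BN.mem_of_conj_le P _ hK' hn fun c hc => ?_
    have h1 := (key (b⁻¹ * c * b)).2 (BN.B_le_parabolic P J
      (P.B.mul_mem (P.B.mul_mem (P.B.inv_mem hb) hc) hb))
    have h2 := mul_mem (mul_mem (inv_mem (hK' ha)) h1) (hK' ha)
    convert h2 using 1
    group
  have hgK : a * n * b ∈ P.parabolic K := mul_mem (mul_mem (hK' ha) hnK) (hK' hb)
  ext x
  rw [← key]
  constructor
  · intro hx
    simpa [mul_assoc] using mul_mem (mul_mem (inv_mem hgK) hx) hgK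
  · exact fun hx => mul_mem (mul_mem hgK hx) (inv_mem hgK)

end Cfsg.Agent.S0313
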