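import Cfsg.Statements.S0315
import Cfsg.Agent.Lib.Lie.BNPair
-- import your own Cfsg.Agent.* helpers here

set_option autoImplicit false
open Cfsg

namespace Cfsg.Agent.S0315

/-- Standard parabolic subgroups intersect as the index sets do: `P_J ⊓ P_K = P_{J ∩ K}`. -/
theorem result {G : Type*} [Group G] (P : Cfsg.BNPair G) {J K : Set G}
    (hJ : J ⊆ P.S) (hK : K ⊆ P.S) : P.parabolic J ⊓ P.parabolic K = P.parabolic (J ∩ K) := by
  have hM : P.B ≤ P.parabolic J ⊓ P.parabolic K :=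
    le_inf (BN.B_le_parabolic P J) (BN.B_le_parabolic P K)
  rw [BN.eq_parabolic P _ hM]
  congr 1
  ext s
  simp only [Set.mem_setOf_eq, Subgroup.mem_inf, Set.mem_inter_iff]
  constructor
  · rintro ⟨hs, h1, h2⟩
    exact ⟨(BN.mem_parabolic_iff P hJ hs).1 h1, (BN.mem_parabolic_iff P hK hs).1 h2⟩
  · rintro ⟨h1, h2⟩
    exact ⟨hJ h1, BN.subset_parabolic P J h1, BN.subset_parabolic P K h2⟩

end Cfsg.Agent.S0315
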