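import Cfsg.Statements.S0316
import Cfsg.Agent.Lib.Lie.BNPair
-- import your own Cfsg.Agent.* helpers here

set_option autoImplicit false
open Cfsg

namespace Cfsg.Agent.S0316

/-- The map `J ↦ P_J` is a lattice isomorphism from the power set of the set of distinguished generators onto the
subgroups containing `B`. -/
theorem result {G : Type*} [Group G] (P : Cfsg.BNPair G) :
    ∃ e : Set P.S ≃o {M : Subgroup G // P.B ≤ M},
      ∀ J : Set P.S, ((e J : {M : Subgroup G // P.B ≤ M}) : Subgroup G) = P.parabolic (Subtype.val '' J) := by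
  have hsub : ∀ J : Set P.S, Subtype.val '' J ⊆ P.S := fun J x hx => by
    obtain ⟨y, _, rfl⟩ := hx
    exact y.2
  refine ⟨{ toFun := fun J => ⟨P.parabolic (Subtype.val '' J), BN.B_le_parabolic P _⟩
            invFun := fun M => {s : P.S | (s : G) ∈ M.1}
            left_inv := ?_, right_inv := ?_, map_rel_iff' := ?_ }, fun J => rfl⟩
  · intro J
    ext s
    show (s : G) ∈ P.parabolic (Subtype.val '' J) ↔ s ∈ J
    rw [BN.mem_parabolic_iff P (hsub J) s.2, Subtype.val_injective.mem_set_image]
  · rintro ⟨M, hM⟩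
    apply Subtype.ext
    show P.parabolic (Subtype.val '' {s : P.S | (s : G) ∈ M}) = M
    have he : Subtype.val '' {s : P.S | (s : G) ∈ M} = {s | s ∈ P.S ∧ s ∈ M} := by
      ext x
      constructor
      · rintro ⟨y, hy, rfl⟩
        exact ⟨y.2, hy⟩
      · exact fun hx => ⟨⟨x, hx.1⟩, hx.2, rfl⟩
    rw [he]
    exact (BN.eq_parabolic P M hM).symm
  · intro J K
    show P.parabolic (Subtype.val '' J) ≤ P.parabolic (Subtype.val '' K) ↔ J ⊆ K
    refine ⟨fun h s hs => ?_, fun h => sup_le_sup le_rfl (Subgroup.closure_mono (Set.image_mono h))⟩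
    obtain ⟨t, ht, e⟩ := (BN.mem_parabolic_iff P (hsub K) s.2).1
      (h (BN.subset_parabolic P _ ⟨s, hs, rfl⟩))
    exact Subtype.ext e ▸ ht

end Cfsg.Agent.S0316
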