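import Cfsg.Statements.S0321
import Cfsg.Agent.Lib.Lie.BNPair
-- import your own Cfsg.Agent.* helpers here

set_option autoImplicit false
open Cfsg

namespace Cfsg.Agent.S0321

/-- For `n ∈ N` not in `B`, the union `B ∪ B n B` is (the underlying set of) a subgroup exactly when `n` agrees
modulo `B ⊓ N` with one of the distinguished representatives; thus the distinguished involutions are
determined by `B` and `N`. -/
theorem result {G : Type*} [Group G] (P : Cfsg.BNPair G) {n : G}
    (hn : n ∈ P.N) (hnB : n ∉ P.B) :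
    (∃ H : Subgroup G, (H : Set G) = (P.B : Set G) ∪ DoubleCoset.doubleCoset n (P.B : Set G) P.B) ↔ ∃ s ∈ P.S, s⁻¹ * n ∈ P.B := by
  constructor
  · rintro ⟨H, hH⟩
    have hBH : P.B ≤ H := fun b hb => by
      show b ∈ (H : Set G)
      rw [hH]; exact Or.inl hb
    have hnH : n ∈ H := by
      show n ∈ (H : Set G)
      rw [hH]; exact Or.inr (BN.self_mem_dc P n)
    have hne : ∃ s ∈ P.S, s ∈ H := by
      by_contra hc
      push Not at hc
      have : H = P.B := by
        conv_lhs => rw [BN.eq_parabolic P H hBH]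
        have he : {s | s ∈ P.S ∧ s ∈ H} = ∅ := by
          ext x; simpa using hc x
        simp [he, Cfsg.BNPair.parabolic]
      exact hnB (this ▸ hnH)
    obtain ⟨s, hsS, hsH⟩ := hne
    refine ⟨s, hsS, ?_⟩
    have hs' : s ∈ (P.B : Set G) ∪ DoubleCoset.doubleCoset n (P.B : Set G) P.B := hH ▸ hsH
    rcases hs' with h | h
    · exact absurd h (BN.not_mem_B P hsS)
    · change s ∈ BN.dc P n at h
      rw [← BN.cell_mk P hn] at h
      exact (BN.wmk_eq_iff P (P.subset hsS) hn).1
        (BN.eq_of_mem_cell P (BN.self_mem_cell_σ P ⟨s, hsS⟩) h)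
  · rintro ⟨s, hsS, hs⟩
    refine ⟨P.parabolic {s}, Set.Subset.antisymm (fun g hg => ?_) ?_⟩
    · obtain ⟨m, _, hmN, hm, hd⟩ := BN.parabolic_mem_cell P (Set.singleton_subset_iff.2 hsS) hg
      have h2 : BN.wmk P m hmN = 1 ∨ BN.wmk P m hmN = BN.σ P ⟨s, hsS⟩ := by
        generalize BN.wmk P m hmN = w at hm
        induction hm using Subgroup.closure_induction with
        | mem x hx =>
          obtain ⟨t, ht, rfl⟩ := hx
          exact Or.inr (congrArg (BN.σ P) (Subtype.ext ht))
        | one => exact Or.inl rfl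
        | mul x y _ _ hx hy =>
          rcases hx with rfl | rfl <;> rcases hy with rfl | rfl <;> simp [BN.σ_mul_self]
        | inv x _ hx => rcases hx with rfl | rfl <;> simp [BN.σ_inv]
      rw [← BN.cell_mk P hmN] at hd
      rcases h2 with h2 | h2 <;> rw [h2] at hd
      · rw [BN.cell_one] at hd; exact Or.inl hd
      · rw [BN.σ, (BN.wmk_eq_iff P (P.subset hsS) hn).2 hs, BN.cell_mk] at hd
        exact Or.inr hd
    · rintro g (hg | hg)
      · exact BN.B_le_parabolic P {s} hg
      · refine BN.dc_subset P (BN.B_le_parabolic P {s}) ?_ hg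
        have := mul_mem (BN.subset_parabolic P {s} (Set.mem_singleton s)) (BN.B_le_parabolic P {s} hs)
        simpa using this

end Cfsg.Agent.S0321
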