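import Cfsg.Statements.S0323
import Cfsg.Agent.Lib.Lie.BNPair
-- import your own Cfsg.Agent.* helpers here

set_option autoImplicit false
open scoped Pointwise
open Cfsg

namespace Cfsg.Agent.S0323

/-- A doubly transitive action on a set with at least three points yields a (B,N)-pair of rank one:
`B` is the stabiliser of a point `x`, `N` the setwise stabiliser of a pair `{x, y}`. -/
theorem result {G Ω : Type*} [Group G] [MulAction G Ω]
    (h2 : MulAction.IsMultiplyPretransitive G Ω 2) {x y z : Ω} (hxy : x ≠ y) (hyz : y ≠ z) (hxz : x ≠ z) :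
    ∃ P : Cfsg.BNPair G, P.B = MulAction.stabilizer G x ∧
      P.N = MulAction.stabilizer G ({x, y} : Set Ω) ∧ P.rank = 1 := by
  classical
  have h2' : ∀ {a b c d : Ω}, a ≠ b → c ≠ d → ∃ g : G, g • a = c ∧ g • b = d :=
    MulAction.is_two_pretransitive_iff.1 h2
  obtain ⟨s, hsx, hsy⟩ := h2' hxy hxy.symm
  have hsN : s ∈ MulAction.stabilizer G ({x, y} : Set Ω) := by
    rw [MulAction.mem_stabilizer_iff, Set.smul_set_insert, Set.smul_set_singleton, hsx, hsy]
    exact Set.pair_comm y x
  have hN : ∀ g ∈ MulAction.stabilizer G ({x, y} : Set Ω),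
      (g • x = x ∧ g • y = y) ∨ (g • x = y ∧ g • y = x) := by
    intro g hg
    rw [MulAction.mem_stabilizer_iff] at hg
    have h1 : g • x ∈ ({x, y} : Set Ω) := hg ▸ Set.smul_mem_smul_set (Set.mem_insert x _)
    have h1' : g • y ∈ ({x, y} : Set Ω) := hg ▸ Set.smul_mem_smul_set (Set.mem_insert_of_mem x rfl)
    simp only [Set.mem_insert_iff, Set.mem_singleton_iff] at h1 h1'
    rcases h1 with a | a <;> rcases h1' with b | b
    · exact absurd ((MulAction.injective g) (a.trans b.symm)) hxy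
    · exact Or.inl ⟨a, b⟩
    · exact Or.inr ⟨a, b⟩
    · exact absurd ((MulAction.injective g) (a.trans b.symm)) hxy
  set B := MulAction.stabilizer G x with hBdef
  have hB : ∀ g : G, g ∈ B ↔ g • x = x := fun g => MulAction.mem_stabilizer_iff
  have hsB : s ∉ B := fun h => hxy ((hB s).1 h ▸ hsx)
  have htrans : ∀ a : Ω, a ≠ x → ∃ b ∈ B, b • y = a := fun a ha => by
    obtain ⟨b, hbx, hby⟩ := h2' hxy (Ne.symm ha)
    exact ⟨b, (hB b).2 hbx, hby⟩
  have hcell : ∀ g : G, g ∉ B → g ∈ DoubleCoset.doubleCoset s (B : Set G) B := by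
    intro g hg
    obtain ⟨b, hb, hby⟩ := htrans (g • x) (fun h => hg ((hB g).2 h))
    refine DoubleCoset.mem_doubleCoset.2 ⟨b, hb, (b * s)⁻¹ * g, (hB _).2 ?_, by group⟩
    rw [mul_smul, inv_smul_eq_iff, mul_smul, hsx, hby]
  have hs2 : s * s ∈ B := (hB _).2 (by rw [mul_smul, hsx, hsy])
  refine ⟨{ B := B, N := MulAction.stabilizer G ({x, y} : Set Ω), S := {s},
            sup_eq_top := ?_, conj_mem := ?_, subset := ?_, sq_mem := ?_, inj := ?_,
            closure_sup := ?_, mul_mem_union := ?_, conj_ne := ?_ }, rfl, rfl, ?_⟩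
  · rw [eq_top_iff]
    intro g _
    by_cases hg : g ∈ B
    · exact le_sup_left (b := MulAction.stabilizer G ({x, y} : Set Ω)) hg
    · obtain ⟨a, ha, b, hb, rfl⟩ := DoubleCoset.mem_doubleCoset.1 (hcell g hg)
      exact mul_mem (mul_mem (le_sup_left (b := MulAction.stabilizer G ({x, y} : Set Ω)) ha)
        (le_sup_right (a := B) hsN)) (le_sup_left (b := MulAction.stabilizer G ({x, y} : Set Ω)) hb)
  · rintro n hn t ⟨htB, htN⟩
    rw [hB] at *
    rcases hN t htN with ⟨_, hty⟩ | ⟨h', _⟩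
    · rcases hN n⁻¹ (inv_mem hn) with ⟨a, _⟩ | ⟨a, _⟩
      · rw [mul_smul, mul_smul, a, htB]
        exact (inv_smul_eq_iff.1 a).symm
      · rw [mul_smul, mul_smul, a, hty]
        exact (inv_smul_eq_iff.1 a).symm
    · exact absurd (htB.symm.trans h') hxy
  · simpa using hsN
  · intro r hr; rw [Set.mem_singleton_iff.1 hr]; exact hs2
  · rintro _ rfl _ rfl _; rfl
  · refine le_antisymm (sup_le ((Subgroup.closure_le _).2 (by simpa using hsN)) inf_le_right) ?_
    intro n hn
    rcases hN n hn with ⟨a, _⟩ | ⟨a, b⟩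
    · exact le_sup_right (a := Subgroup.closure {s}) (Subgroup.mem_inf.2 ⟨(hB n).2 a, hn⟩)
    · have : s⁻¹ * n ∈ B ⊓ MulAction.stabilizer G ({x, y} : Set Ω) :=
        ⟨(hB _).2 (by rw [mul_smul, a, inv_smul_eq_iff, hsx]),
         Subgroup.mul_mem _ (Subgroup.inv_mem _ hsN) hn⟩
      simpa using mul_mem (le_sup_left (b := B ⊓ MulAction.stabilizer G ({x, y} : Set Ω))
        (Subgroup.subset_closure (Set.mem_singleton s))) (le_sup_right (a := Subgroup.closure {s}) this)
  · intro r hr n hn b hb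
    rw [Set.mem_singleton_iff.1 hr]
    by_cases hnB : n ∈ B
    · left
      refine DoubleCoset.mem_doubleCoset.2 ⟨1, one_mem _, n⁻¹ * b * n, ?_, by group⟩
      exact mul_mem (mul_mem (inv_mem hnB) hb) hnB
    · have hnx : n • x = y := by
        rcases hN n hn with ⟨a, _⟩ | ⟨a, _⟩
        · exact absurd ((hB n).2 a) hnB
        · exact a
      have hsn : s * n ∈ B := (hB _).2 (by rw [mul_smul, hnx, hsy])
      by_cases hg : s * b * n ∈ B
      · left
        exact DoubleCoset.mem_doubleCoset.2 ⟨s * b * n * (s * n)⁻¹,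
          mul_mem hg (inv_mem hsn), 1, one_mem _, by group⟩
      · right
        rw [DoubleCoset.doubleCoset_eq_of_mem (hcell n hnB)]
        exact hcell _ hg
  · intro r hr heq
    rw [Set.mem_singleton_iff.1 hr] at heq
    obtain ⟨b, hb, hby⟩ := htrans z hxz.symm
    have : s * b * s ∈ (B : Set G) := heq ▸ ⟨b, hb, rfl⟩
    rw [SetLike.mem_coe, hB, mul_smul, mul_smul, hsx, hby] at this
    have h' : s • z = s • y := this.trans hsy.symm
    exact hyz (MulAction.injective s h').symm
  · simp [Cfsg.BNPair.rank]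

end Cfsg.Agent.S0323
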