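import Cfsg.Statements.S0328
import Cfsg.Agent.Lib.Suzuki.Group
-- import your own Cfsg.Agent.* helpers here

set_option autoImplicit false
open Cfsg

namespace Cfsg.Agent.S0328

/-- The stabiliser in the Suzuki group of the two ovoid points spanned by `(1,0,0,0)` and `(0,0,0,1)` is
isomorphic to the multiplicative group of the field (cyclic of order `q - 1`). -/
theorem result {F : Type*} [Field F] [Fintype F] {m : ℕ} (hm : 1 ≤ m)
    (hF : Fintype.card F = 2 ^ (2 * m + 1)) :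
    Nonempty (↥(MulAction.stabilizer (Cfsg.Sz F m) (Cfsg.suzukiPointInfinity F) ⊓
        MulAction.stabilizer (Cfsg.Sz F m) (Cfsg.suzukiPointZero F)) ≃* Fˣ) := by
  have h : Cfsg.Agent.Suzuki.SzField F m := ⟨hm, hF⟩
  rw [← Cfsg.Agent.Suzuki.pt_zero_zero (m := m)]
  let f : Fˣ →* ↥(MulAction.stabilizer (Cfsg.Sz F m) (Cfsg.suzukiPointInfinity F) ⊓
      MulAction.stabilizer (Cfsg.Sz F m) (Cfsg.Agent.Suzuki.pt m (0 : F) 0)) :=
    (Cfsg.Agent.Suzuki.HHom h).codRestrict _ (fun k =>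
      ⟨Cfsg.Agent.Suzuki.H_smul_pinf h k, Cfsg.Agent.Suzuki.H_smul_pt_zero h k⟩)
  refine ⟨(MulEquiv.ofBijective f ⟨fun a b e => Cfsg.Agent.Suzuki.H_injective h (congrArg Subtype.val e), ?_⟩).symm⟩
  rintro ⟨g, h1, h2⟩
  obtain ⟨k, rfl⟩ := Cfsg.Agent.Suzuki.fix_two h h1 h2
  exact ⟨k, rfl⟩

end Cfsg.Agent.S0328
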