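import Cfsg.Statements.S0331
import Cfsg.Agent.Lib.Suzuki.Tori
-- import your own Cfsg.Agent.* helpers here

set_option autoImplicit false
open Cfsg

namespace Cfsg.Agent.S0331

open Cfsg.Agent.Suzuki

/-- For every odd prime `p` the Sylow `p`-subgroups of the Suzuki group are cyclic. -/
theorem result {F : Type*} [Field F] [Fintype F] {m : ℕ} (hm : 1 ≤ m)
    (hF : Fintype.card F = 2 ^ (2 * m + 1)) {p : ℕ} [Fact p.Prime] (hp : p ≠ 2)
    (P : Sylow p (Cfsg.Sz F m)) : IsCyclic P := by
  have h : SzField F m := ⟨hm, hF⟩
  by_cases hd : p ∣ Nat.card (Cfsg.Sz F m)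
  · rcases prime_dvd_card_cases h (Fact.out : p.Prime) hd with e | e | e
    · exact absurd e hp
    · let S : Sylow p (torus h) := default
      have hS : IsPGroup p ((S : Subgroup (torus h)).map (torus h).subtype) := S.isPGroup'.map _
      have hidx : ¬ p ∣ ((S : Subgroup (torus h)).map (torus h).subtype).index := by
        rw [Subgroup.index_map_subtype]
        intro e'
        rcases (Fact.out : p.Prime).dvd_mul.mp e' with e' | e'
        · exact S.not_dvd_index e'
        · exact exists_torus_sylow h e e'
      have := isCyclic_torus h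
      have hc : IsCyclic ((S : Subgroup (torus h)).map (torus h).subtype) :=
        isCyclic_of_injective _ (Subgroup.inclusion_injective (Subgroup.map_subtype_le (S : Subgroup (torus h))))
      have : IsCyclic ((hS.toSylow hidx : Sylow p (Cfsg.Sz F m)) : Subgroup (Cfsg.Sz F m)) := hc
      exact isCyclic_of_surjective ((hS.toSylow hidx).equiv P).toMonoidHom ((hS.toSylow hidx).equiv P).surjective
    · exact sylow_isCyclic h e P
  · obtain ⟨k, hk⟩ := IsPGroup.iff_card.mp P.isPGroup'
    rcases k with _ | k
    · rw [pow_zero] at hk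
      have := (Nat.card_eq_one_iff_unique.mp hk).1
      exact isCyclic_of_subsingleton
    · refine absurd ?_ hd
      exact (dvd_pow_self p k.succ_ne_zero).trans (hk ▸ (P : Subgroup (Cfsg.Sz F m)).card_subgroup_dvd_card)

end Cfsg.Agent.S0331
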