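import Cfsg.Statements.S0332
import Cfsg.Agent.Lib.Suzuki.Tori
-- import your own Cfsg.Agent.* helpers here

set_option autoImplicit false
open Cfsg

namespace Cfsg.Agent.S0332

open Cfsg.Agent.Suzuki

/-- The Suzuki group is a CN-group: every non-identity element has nilpotent centraliser. -/
theorem result {F : Type*} [Field F] [Fintype F] {m : ℕ} (hm : 1 ≤ m)
    (hF : Fintype.card F = 2 ^ (2 * m + 1)) : Cfsg.IsCNGroup (Cfsg.Sz F m) := by
  have h : SzField F m := ⟨hm, hF⟩
  intro g hg
  rcases centralizer_cases h hg with ⟨u, hu⟩ | ⟨hc, -⟩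
  · have hle := centralizer_le h hu (fun e => hg (conj_eq_one_iff.mp e))
    have : Fact (Nat.Prime 2) := ⟨Nat.prime_two⟩
    let f : Subgroup.centralizer {g} →* rootGroup h :=
      { toFun := fun w => ⟨u * w.1 * u⁻¹, hle (by
          rw [centralizer_conj_mem h]; convert! w.2 using 1; group)⟩
        map_one' := Subtype.ext (by simp)
        map_mul' := fun a b => Subtype.ext (by simp [mul_assoc]) }
    exact ((isPGroup_rootGroup h).of_injective f fun a b e =>
      Subtype.ext (mul_left_cancel (mul_right_cancel (congrArg Subtype.val e)))).isNilpotent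
  · let : CommGroup (Subgroup.centralizer {g}) := IsCyclic.commGroup
    infer_instance

end Cfsg.Agent.S0332
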