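import Cfsg.Statements.S0334
import Cfsg.Agent.Lib.Suzuki.Group
-- import your own Cfsg.Agent.* helpers here

set_option autoImplicit false
open Cfsg

namespace Cfsg.Agent.S0334

open Cfsg.Agent.Suzuki in
theorem preserves_form {F : Type*} [Field F] [Fintype F] {m : ℕ} (h : SzField F m) (g : Cfsg.Sz F m) :
    g.1.1.transpose * Cfsg.suzukiForm F * g.1.1 = Cfsg.suzukiForm F := by
  let P : Subgroup (Cfsg.Sz F m) :=
    { carrier := {g | g.1.1.transpose * Cfsg.suzukiForm F * g.1.1 = Cfsg.suzukiForm F}
      one_mem' := by simp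
      mul_mem' := by
        intro a b (ha : _ = _) (hb : _ = _)
        show (a.1.1 * b.1.1).transpose * _ * (a.1.1 * b.1.1) = _
        calc (a.1.1 * b.1.1).transpose * Cfsg.suzukiForm F * (a.1.1 * b.1.1)
            = b.1.1.transpose * (a.1.1.transpose * Cfsg.suzukiForm F * a.1.1) * b.1.1 := by
              simp only [Matrix.transpose_mul, Matrix.mul_assoc]
          _ = _ := by rw [ha, hb]
      inv_mem' := by
        intro a (ha : _ = _)
        show (a⁻¹).1.1.transpose * _ * (a⁻¹).1.1 = _
        have h1 : a.1.1 * (a⁻¹).1.1 = 1 :=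
          congrArg (fun x : Cfsg.Sz F m => x.1.1) (mul_inv_cancel a)
        conv_lhs => rw [← ha]
        simp only [Matrix.mul_assoc]
        rw [h1, Matrix.mul_one, ← Matrix.mul_assoc, ← Matrix.transpose_mul, h1, Matrix.transpose_one,
          Matrix.one_mul] }
  have hT : ∀ a b, T h a b ∈ P := by
    intro a b
    show (tEl m a b).1.transpose * _ * (tEl m a b).1 = _
    rw [tEl_coe]
    ext i j
    fin_cases i <;> fin_cases j <;>
      simp [Cfsg.suzukiForm, Matrix.mul_apply, Fin.sum_univ_succ, fz_eq] <;>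
      first
      | ring1
      | linear_combination a * h.two_eq_zero
      | linear_combination θ m a * h.two_eq_zero
      | linear_combination b * h.two_eq_zero
      | linear_combination (b + θ m a * a) * h.two_eq_zero
      | linear_combination (a * b + θ m a * a ^ 2 + θ m b) * h.two_eq_zero
      | linear_combination (a * b + θ m a * a ^ 2 + θ m b + a * b) * h.two_eq_zero
  have hW : W h ∈ P := by
    show (wEl : Matrix.SpecialLinearGroup (Fin 4) F).1.transpose * _ * wEl.1 = _
    rw [wEl_coe]
    ext i j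
    fin_cases i <;> fin_cases j <;> simp [Cfsg.suzukiForm, Matrix.mul_apply, Fin.sum_univ_succ]
  have hH : ∀ k, H h k ∈ P := by
    intro k
    show (hEl m k).1.transpose * _ * (hEl m k).1 = _
    rw [hEl_coe]
    have h1 := hθ_ne_zero m k.ne_zero
    have h2 := k.ne_zero
    ext i j
    fin_cases i <;> fin_cases j <;> simp [Cfsg.suzukiForm, Matrix.mul_apply, Fin.sum_univ_succ] <;> field_simp
  suffices hg : g ∈ P from hg
  by_cases hb : g ∈ borel F m
  · obtain ⟨a, b, k, rfl⟩ := borel_form h hb
    exact P.mul_mem (hT a b) (hH k)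
  · obtain ⟨x, y, a, b, k, rfl⟩ := bruhat h hb
    exact P.mul_mem (P.mul_mem (hT x y) hW) (P.mul_mem (hT a b) (hH k))

/-- Every element of the Suzuki group preserves the alternating form with antidiagonal matrix:
`gᵀ J g = J`. Hence the Suzuki group is a subgroup of a 4-dimensional symplectic group. -/
theorem result {F : Type*} [Field F] [Fintype F] {m : ℕ} (hm : 1 ≤ m)
    (hF : Fintype.card F = 2 ^ (2 * m + 1)) {g : Matrix.SpecialLinearGroup (Fin 4) F}
    (hg : g ∈ Cfsg.Sz F m) :
    (g : Matrix (Fin 4) (Fin 4) F).transpose * Cfsg.suzukiForm F * (g : Matrix (Fin 4) (Fin 4) F) =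
      Cfsg.suzukiForm F := by
  exact preserves_form ⟨hm, hF⟩ ⟨g, hg⟩

end Cfsg.Agent.S0334
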