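import Cfsg.Statements.S0335
import Cfsg.Agent.Lib.Suzuki.Group
-- import your own Cfsg.Agent.* helpers here

set_option autoImplicit false
open Cfsg

namespace Cfsg.Agent.S0335

/-- The Suzuki–Tits point set is an ovoid: any three distinct points of it are projectively independent
(no line of projective 3-space meets it in more than two points). -/
theorem result {F : Type*} [Field F] [Fintype F] {m : ℕ} (hm : 1 ≤ m)
    (hF : Fintype.card F = 2 ^ (2 * m + 1)) (p : Fin 3 ↪ Cfsg.suzukiOvoid F m) :
    Projectivization.Independent (fun i => (p i : Projectivization F (Fin 4 → F))) := by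
  have h : Cfsg.Agent.Suzuki.SzField F m := ⟨hm, hF⟩
  obtain ⟨g, h0, h1⟩ := Cfsg.Agent.Suzuki.exists_smul_pair h (p 0).2 (p 1).2
    (fun e => absurd (p.injective (Subtype.ext e)) (by decide))
  rcases Cfsg.Agent.Suzuki.mem_ovoid.mp (Cfsg.Agent.Suzuki.smul_mem_ovoid g⁻¹ (p 2).2) with e | ⟨x, y, e⟩
  · exact absurd (p.injective (Subtype.ext (h0 ▸ (inv_smul_eq_iff.mp e).symm : ((p 0 : Cfsg.suzukiOvoid F m) : Projectivization F (Fin 4 → F)) = p 2))) (by decide)
  rw [inv_smul_eq_iff] at e
  have hxy : x ≠ 0 ∨ y ≠ 0 := by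
    by_contra hc
    push Not at hc
    obtain ⟨rfl, rfl⟩ := hc
    exact absurd (p.injective (Subtype.ext (h1.symm.trans e.symm))) (by decide)
  set M : Matrix (Fin 4) (Fin 4) F := g.1.1 with hM
  let w : Fin 3 → (Fin 4 → F) :=
    ![![1, 0, 0, 0], Cfsg.Agent.Suzuki.ptVec m 0 0, Cfsg.Agent.Suzuki.ptVec m x y]
  have hw : LinearIndependent F w := by
    rw [Fintype.linearIndependent_iff]
    intro c hc
    have e0 := congrFun hc 0
    have e1 := congrFun hc 1
    have e2 := congrFun hc 2
    have e3 := congrFun hc 3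
    simp [w, Fin.sum_univ_succ, Cfsg.Agent.Suzuki.ptVec, Cfsg.Agent.Suzuki.fz_eq] at e0 e1 e2 e3
    have hc2 : c 2 = 0 := by
      rcases hxy with hne | hne
      · exact e2.resolve_right hne
      · exact e1.resolve_right hne
    rw [hc2] at e0 e3
    simp at e0 e3
    intro i
    fin_cases i <;> assumption
  have hinj : Function.Injective (Matrix.toLin' M) := by
    intro u v huv
    by_contra hne
    apply Cfsg.Agent.Suzuki.mulVec_ne_zero g.1 (sub_ne_zero.mpr hne)
    rw [← Matrix.toLin'_apply, map_sub, sub_eq_zero]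
    exact huv
  have hv : LinearIndependent F (Matrix.toLin' M ∘ w) := hw.map' _ (LinearMap.ker_eq_bot.mpr hinj)
  have hne : ∀ i, (Matrix.toLin' M ∘ w) i ≠ 0 := fun i => hv.ne_zero i
  have key : (fun i => ((p i : Cfsg.suzukiOvoid F m) : Projectivization F (Fin 4 → F))) =
      fun i => Projectivization.mk F _ (hne i) := by
    funext i
    fin_cases i
    · exact h0.symm
    · exact h1.symm
    · exact e
  rw [key]
  exact Projectivization.Independent.mk _ hne hv

end Cfsg.Agent.S0335
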