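import Cfsg.Statements.S0345
import Cfsg.Agent.Lib.ZassAbelian.Cyclic

set_option autoImplicit false
open Cfsg

namespace Cfsg.Agent.S0345

/-- In a finite simple Zassenhaus group the stabiliser `H` of two points `a ≠ b` is cyclic, and some involution
interchanging `a` and `b` inverts every element of `H`. -/
theorem result {G Ω : Type*} [Group G] [Finite G] [MulAction G Ω] [Finite Ω]
    (hZ : Cfsg.IsZassenhausGroup G Ω) [IsSimpleGroup G]
    {a b : Ω} (hab : a ≠ b) :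
    IsCyclic ↥(MulAction.stabilizer G a ⊓ MulAction.stabilizer G b) ∧
      ∃ v : G, orderOf v = 2 ∧ v • a = b ∧ v • b = a ∧ ∀ h ∈ MulAction.stabilizer G a ⊓ MulAction.stabilizer G b, v * h * v⁻¹ = h⁻¹ := by
  haveI := Fintype.ofFinite Ω
  obtain ⟨H, D⟩ := Cfsg.Agent.ZassKer.exists_ker hZ hab
  obtain ⟨hc, s, hs, hinv⟩ := D.cyclic_inverted
  refine ⟨hc, s, Cfsg.Agent.Zass.orderOf_two_iff.mpr ⟨hs.sq, fun e => hab ?_⟩, hs.sa, hs.sb, fun h hh => ?_⟩
  · rw [← hs.sa, e, one_smul]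
  · rw [inv_eq_of_mul_eq_one_right hs.sq]
    exact hinv h hh

end Cfsg.Agent.S0345
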