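import Cfsg.Statements.S0347
import Cfsg.Agent.Lib.ZassSuz.Main

set_option autoImplicit false
open Cfsg

namespace Cfsg.Agent.S0347

/-- If in a finite simple Zassenhaus group the stabiliser of a point `x` has a normal `2`-subgroup `U` which is
non-abelian and acts regularly on the points other than `x`, then the group is simple of Suzuki order (order-level
predicate `IsSuzuki`). -/
theorem result {G Ω : Type*} [Group G] [Finite G] [MulAction G Ω] [Finite Ω]
    (hZ : Cfsg.IsZassenhausGroup G Ω) [IsSimpleGroup G]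
    (x : Ω) (U : Subgroup G) (hUle : U ≤ MulAction.stabilizer G x) (hUn : (U.subgroupOf (MulAction.stabilizer G x)).Normal)
    (hU2 : IsPGroup 2 U) (hUna : ∃ u v : U, u * v ≠ v * u)
    (hreg : ∀ y z : Ω, y ≠ x → z ≠ x → ∃! u : U, (u : G) • y = z) :
    Cfsg.IsSuzuki G := by
  classical
  haveI : Fintype Ω := Fintype.ofFinite Ω
  obtain ⟨y, hy⟩ : ∃ y : Ω, y ≠ x := by
    obtain ⟨-, -, p, q, hpq, -, -⟩ := hZ.2.2.2.1
    by_contra hcon
    push Not at hcon
    exact hpq ((hcon p).trans (hcon q).symm)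
  have D := Cfsg.Agent.ZassSuz.ker_of_reg hZ (Ne.symm hy) hUle
    (fun h hh u hu => hUn.conj_mem ⟨u, hUle hu⟩ hu ⟨h, hh⟩) hreg
  obtain ⟨u, v, huv⟩ := hUna
  exact Cfsg.Agent.ZassSuz.isSuzuki D ⟨u, u.2, v, v.2, fun e => huv (Subtype.ext e)⟩

end Cfsg.Agent.S0347
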