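import Cfsg.Statements.S0349
import Cfsg.Agent.Lib.RankOneSplit.Top
import Cfsg.Agent.Lib.Lie.BNPair
import Cfsg.Agent.S0322
import Cfsg.Agent.S1136

set_option autoImplicit false
set_option linter.style.haveILetI false
open Cfsg

namespace Cfsg.Agent.S0349

open MulAction Cfsg.Agent.RankOneSplit

/-- The decomposition `B = U (B ⊓ N)`. -/
theorem exists_uh {G : Type*} [Group G] (P : Cfsg.BNPair G) (U : Subgroup G) (hUB : U ≤ P.B)
    (hUn : (U.subgroupOf P.B).Normal) (hsplit : U ⊔ (P.B ⊓ P.N) = P.B) {g : G} (hg : g ∈ P.B) :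
    ∃ u ∈ U, ∃ h ∈ P.B ⊓ P.N, g = u * h := by
  rw [← hsplit, Subgroup.sup_eq_closure] at hg
  induction hg using Subgroup.closure_induction with
  | mem x hx =>
    rcases hx with hx | hx
    · exact ⟨x, hx, 1, one_mem _, (mul_one x).symm⟩
    · exact ⟨1, one_mem _, x, hx, (one_mul x).symm⟩
  | one => exact ⟨1, one_mem _, 1, one_mem _, (one_mul _).symm⟩
  | mul x y _ _ hx hy =>
    obtain ⟨u, hu, h, hh, rfl⟩ := hx
    obtain ⟨u', hu', h', hh', rfl⟩ := hy
    refine ⟨u * (h * u' * h⁻¹), mul_mem hu ?_, h * h', mul_mem hh hh', by group⟩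
    exact hUn.conj_mem ⟨u', hUB hu'⟩ hu' ⟨h, (Subgroup.mem_inf.1 hh).1⟩
  | inv x _ hx =>
    obtain ⟨u, hu, h, hh, rfl⟩ := hx
    exact ⟨h⁻¹ * u⁻¹ * (h⁻¹)⁻¹,
      hUn.conj_mem ⟨u⁻¹, hUB (inv_mem hu)⟩ (inv_mem hu) ⟨h⁻¹, (Subgroup.mem_inf.1 (inv_mem hh)).1⟩,
      h⁻¹, inv_mem hh, by group⟩

/-- Let a finite simple group have a (B,N)-pair of rank one which is strongly split (`B = U (B ⊓ N)` with `U` nilpotent,
normal in `B` and meeting `N` trivially), with `[G : B]` and `|B ⊓ N|` odd. Then the group is isomorphic to `PSL₂(F)` with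
`|F|` a power of `2`, or is simple of Suzuki order, or is isomorphic to `PSU₃` realised over a field with `q²` elements,
`q = 2^n`, `n ≥ 2`. -/
theorem result {G : Type*} [Group G] [Finite G] [IsSimpleGroup G]
    (P : Cfsg.BNPair G) (hrank : P.rank = 1) (U : Subgroup G) (hUB : U ≤ P.B)
    (hUn : (U.subgroupOf P.B).Normal) (hUnil : Group.IsNilpotent U) (hsplit : U ⊔ (P.B ⊓ P.N) = P.B)
    (hdisj : U ⊓ P.N = ⊥) (hind : Odd P.B.index) (hH : Odd (Nat.card ↥(P.B ⊓ P.N))) :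
    (∃ (F : Type) (_ : Field F) (_ : Fintype F), (∃ n : ℕ, Fintype.card F = 2 ^ n) ∧ Nonempty (G ≃* Matrix.ProjectiveSpecialLinearGroup (Fin 2) F)) ∨
      Cfsg.IsSuzuki G ∨
      (∃ (F : Type) (_ : Field F) (_ : Fintype F) (n : ℕ), 2 ≤ n ∧ Fintype.card F = (2 ^ n) ^ 2 ∧
        Nonempty (G ≃* Cfsg.PSU 3 F (2 ^ n))) := by
  classical
  -- the distinguished generator
  obtain ⟨⟨s, hsS⟩, hs1⟩ : ∃ s : P.S, ∀ t : P.S, t = s := by
    obtain ⟨hsub, ⟨s⟩⟩ := Nat.card_eq_one_iff_unique.1 hrank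
    exact ⟨s, fun t => Subsingleton.elim _ _⟩
  have hall : ∀ g : G, g ∈ P.B ∨ g ∈ BN.dc P s := by
    intro g
    obtain ⟨w, hw⟩ := BN.bruhat P g
    obtain ⟨l, hlen, hl⟩ := BN.exists_reduced P w
    have : w = 1 ∨ w = BN.σ P ⟨s, hsS⟩ := by
      rw [← hl]
      clear hlen hl
      induction l with
      | nil => exact Or.inl rfl
      | cons t l ih =>
        rw [BN.wp_cons, hs1 t]
        rcases ih with e | e <;> rw [e] <;> simp [BN.σ_mul_self]
    rcases this with rfl | rfl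
    · exact Or.inl (by rwa [BN.cell_one] at hw)
    · exact Or.inr (by rwa [BN.cell_σ] at hw)
  have hsB : s ∉ P.B := fun h => P.conj_ne s hsS (by
    ext x
    constructor
    · rintro ⟨y, hy, rfl⟩; exact mul_mem (mul_mem h hy) h
    · intro hx
      exact ⟨s⁻¹ * x * s⁻¹, mul_mem (mul_mem (inv_mem h) hx) (inv_mem h), by group⟩)
  have hsN : s ∈ P.N := P.subset hsS
  let Ω := G ⧸ P.B
  set a : Ω := ((1 : G) : Ω) with ha
  set b : Ω := ((s : G) : Ω) with hb'
  have hstab : stabilizer G a = P.B := MulAction.stabilizer_quotient P.B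
  have hb : b ≠ a := fun e => hsB (by simpa using QuotientGroup.eq.1 e.symm)
  have hHb : P.B ⊓ P.N ≤ stabilizer G a ⊓ stabilizer G b := by
    intro h hh
    obtain ⟨hhB, hhN⟩ := Subgroup.mem_inf.1 hh
    refine Subgroup.mem_inf.2 ⟨hstab.symm ▸ hhB, ?_⟩
    show h • b = b
    rw [hb', MulAction.Quotient.smul_mk, QuotientGroup.eq]
    have := P.conj_mem s⁻¹ (inv_mem hsN) h⁻¹ (inv_mem hh)
    rwa [inv_inv, show s⁻¹ * h⁻¹ * s = (h • s)⁻¹ * s by rw [smul_eq_mul]; group] at this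
  -- faithful
  haveI : FaithfulSMul G Ω := RankOne.faithful_of_simple (G := G) (H := P.B) fun e => hsB (e ▸ Subgroup.mem_top s)
  have hcover : ∀ g ∈ stabilizer G a, ∃ x ∈ U, ∃ h ∈ P.B ⊓ P.N, g = x * h := fun g hg =>
    exists_uh P U hUB hUn hsplit (hstab ▸ hg)
  have hconj : ∀ h ∈ stabilizer G a, ∀ x ∈ U, h * x * h⁻¹ ∈ U := fun h hh x hx =>
    hUn.conj_mem ⟨x, hUB hx⟩ hx ⟨h, hstab ▸ hh⟩
  have hS : SplitPerm a U :=
    { two := S0322.result P hrank
      le := hstab.symm ▸ hUB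
      conj_mem := hconj
      trans := by
        have key : ∀ c : Ω, c ≠ a → ∃ x ∈ U, x • b = c := by
          intro c hc
          obtain ⟨g, rfl⟩ := QuotientGroup.mk_surjective c
          rcases hall g with hg | hg
          · exact absurd (QuotientGroup.eq.2 (by simpa using inv_mem hg)) hc
          · obtain ⟨p, hp, q, hq, rfl⟩ := DoubleCoset.mem_doubleCoset.1 hg
            obtain ⟨u, hu, h, hh, rfl⟩ := exists_uh P U hUB hUn hsplit hp
            refine ⟨u, hu, ?_⟩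
            have hhb : h • b = b := (Subgroup.mem_inf.1 (hHb hh)).2
            calc u • b = (u * h) • b := by rw [mul_smul, hhb]
              _ = _ := by
                rw [hb', MulAction.Quotient.smul_mk, QuotientGroup.eq, smul_eq_mul]
                simpa [mul_assoc] using hq
        intro c d hc hd
        obtain ⟨u, hu, rfl⟩ := key c hc
        obtain ⟨v, hv, rfl⟩ := key d hd
        exact ⟨v * u⁻¹, mul_mem hv (inv_mem hu), by rw [mul_smul, inv_smul_smul]⟩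
      nilp := hUnil
      two_mem := fun x hx h2 => two_mem_of_cover hconj (hstab.symm ▸ inf_le_left) hH hcover hx h2
      finite := inferInstance
      odd_points := by rw [← Subgroup.index_eq_card]; exact hind
      nontriv := ⟨b, hb⟩ }
  obtain ⟨t, hset, h2⟩ := exists_rankOneSetup hS hb hHb hH fun d hd => by
    obtain ⟨u, hu, h, hh, rfl⟩ := hcover d (Subgroup.mem_inf.1 hd).1
    refine ⟨u, hu, ?_, h, hh, rfl⟩
    have := (Subgroup.mem_inf.1 hd).2
    rw [MulAction.mem_stabilizer_iff, mul_smul, (Subgroup.mem_inf.1 (hHb hh)).2] at this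
    exact this
  obtain ⟨L, hL, hodd, hcases⟩ := S1136.result hset h2
  have hLt : L = ⊤ := by
    rcases hL.eq_bot_or_eq_top with h | h
    · rw [h, Subgroup.index_bot] at hodd
      have hdvd := orderOf_dvd_natCard t
      rw [orderOf_eq_prime (by rw [pow_two, hset.mul_self]) hset.ne_one] at hdvd
      exact absurd (even_iff_two_dvd.2 hdvd) (Nat.not_even_iff_odd.2 hodd)
    · exact h
  subst hLt
  rcases hcases with ⟨F, iF, iT, ⟨n, -, hn⟩, ⟨e⟩⟩ | h | ⟨F, iF, iT, n, hn2, hn, ⟨e⟩⟩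
  · exact Or.inl ⟨F, iF, iT, ⟨n, hn⟩, ⟨Subgroup.topEquiv.symm.trans e⟩⟩
  · obtain ⟨F, i1, i2, m, hm, hF, ⟨e⟩⟩ := h
    exact Or.inr (Or.inl (RankOne.isSuzuki_of_iso ⟨F, i1, i2, m, hm, hF, ⟨Subgroup.topEquiv.symm.trans e⟩⟩))
  · exact Or.inr (Or.inr ⟨F, iF, iT, n, hn2, hn, ⟨Subgroup.topEquiv.symm.trans e⟩⟩)

end Cfsg.Agent.S0349
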