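import Cfsg.Statements.S0351
import Cfsg.Agent.Lib.Steiner.Triangles
-- import your own Cfsg.Agent.* helpers here

set_option autoImplicit false
open Cfsg

namespace Cfsg.Agent.S0351

open Cfsg.Agent.Steiner Finset

/-- Derived design: removing a point p from the blocks through p of an S(t+1, k+1, v) yields an S(t, k, v-1) on the points other than p. -/
theorem result {α : Type*} [Fintype α] [DecidableEq α] {t k : ℕ} {B : Set (Finset α)} (hB : Cfsg.IsSteinerSystem (t + 1) (k + 1) B) (p : α) : Cfsg.IsSteinerSystem t k {b' : Finset {a : α // a ≠ p} | ∃ b ∈ B, p ∈ b ∧ b' = Finset.subtype (fun a => a ≠ p) b} := by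
  classical
  have hcard : ∀ b : Finset α, p ∈ b → (Finset.subtype (fun a => a ≠ p) b).card + 1 = b.card := by
    intro b hb
    rw [Finset.card_subtype, filter_ne', card_erase_add_one hb]
  refine ⟨?_, fun s hs => ?_⟩
  · rintro b' ⟨b, hb, hp, rfl⟩
    have h1 := hcard b hp
    have h2 := hB.1 b hb
    omega
  · set s' : Finset α := insert p (s.map (Function.Embedding.subtype _)) with hs'
    have hp : p ∉ s.map (Function.Embedding.subtype _) := by
      simp only [mem_map, Function.Embedding.coe_subtype, not_exists, not_and]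
      exact fun x _ e => x.2 e
    have hs'c : s'.card = t + 1 := by rw [hs', card_insert_of_notMem hp, card_map, hs]
    have hiff : ∀ b : Finset α, p ∈ b → (s ⊆ Finset.subtype (fun a => a ≠ p) b ↔ s' ⊆ b) := by
      intro b hb
      rw [hs', insert_subset_iff]
      constructor
      · refine fun h => ⟨hb, fun x hx => ?_⟩
        obtain ⟨y, hy, rfl⟩ := mem_map.1 hx
        exact Finset.mem_subtype.1 (h hy)
      · exact fun h y hy => Finset.mem_subtype.2 (h.2 (mem_map_of_mem _ hy))
    obtain ⟨b, ⟨hb, hsb⟩, huniq⟩ := hB.2 s' hs'c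
    have hpb : p ∈ b := hsb (mem_insert_self _ _)
    refine ⟨_, ⟨⟨b, hb, hpb, rfl⟩, (hiff b hpb).2 hsb⟩, ?_⟩
    rintro _ ⟨⟨c, hc, hpc, rfl⟩, hsc⟩
    rw [huniq c ⟨hc, (hiff c hpc).1 hsc⟩]

end Cfsg.Agent.S0351
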