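import Cfsg.Statements.S0357
import Cfsg.Agent.Lib.Steiner.Triangles
-- import your own Cfsg.Agent.* helpers here

set_option autoImplicit false
open Cfsg

namespace Cfsg.Agent.S0357

open Cfsg.Agent.Steiner Finset

/-- In a Steiner system S(5, 6, 12), the complement of every block is again a block. -/
theorem result {α : Type*} [Fintype α] [DecidableEq α] (hα : Fintype.card α = 12) {B : Set (Finset α)} (hB : Cfsg.IsSteinerSystem 5 6 B) {b : Finset α} (hb : b ∈ B) : bᶜ ∈ B := by
  have h := exactly12 hα hB hb ∅ (empty_subset b)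
  simp only [exactly, card_empty, row12] at h
  obtain ⟨c, hc⟩ := card_eq_one.1 h
  have hc' : c ∈ (blocks B).filter fun c => b ∩ c = ∅ := by rw [hc]; exact mem_singleton_self c
  rw [mem_filter, mem_blocks] at hc'
  have hd : c ⊆ bᶜ := fun x hx => mem_compl.2 fun hxb => by
    have : x ∈ b ∩ c := mem_inter.2 ⟨hxb, hx⟩
    rw [hc'.2] at this; simp at this
  have : c = bᶜ := eq_of_subset_of_card_le hd (by
    rw [card_compl, hα, card_of_mem hB hb, card_of_mem hB hc'.1])
  exact this ▸ hc'.1

end Cfsg.Agent.S0357
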