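import Cfsg.Statements.S0371
import Cfsg.Agent.Lib.Golay.Aut
-- import your own Cfsg.Agent.* helpers here

set_option autoImplicit false
open Cfsg

namespace Cfsg.Agent.S0371

open Cfsg.Agent.Golay
open scoped Pointwise

/-- Multiplication by a nonzero square residue modulo 23, fixing the extra point, lies in the group of the length-24 code. -/
theorem result (u : (ZMod 23)ˣ) (hu : IsSquare u) : Equiv.optionCongr (Units.mulLeft u) ∈ Cfsg.M24 := by
  let e : Cfsg.Agent.PermCert.Elt :=
    (Cfsg.Agent.PermCert.pack 5 (fun i => if i < 23 then ((u : ZMod 23).val * i) % 23 else 23) 24,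
     Cfsg.Agent.PermCert.pack 5 (fun i => if i < 23 then (((u⁻¹ : (ZMod 23)ˣ) : ZMod 23).val * i) % 23 else 23) 24)
  have key : ∀ u : (ZMod 23)ˣ, (∃ r : ZMod 23, (u : ZMod 23) = r ^ 2) →
      let e : Cfsg.Agent.PermCert.Elt :=
        (Cfsg.Agent.PermCert.pack 5 (fun i => if i < 23 then ((u : ZMod 23).val * i) % 23 else 23) 24,
         Cfsg.Agent.PermCert.pack 5 (fun i => if i < 23 then (((u⁻¹ : (ZMod 23)ˣ) : ZMod 23).val * i) % 23 else 23) 24)
      Cfsg.Agent.PermCert.validElt 5 24 e = true ∧ isAutB e = true ∧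
        ∀ p, idx (Equiv.optionCongr (Units.mulLeft u) p) = Cfsg.Agent.PermCert.get 5 e.1 (idx p) := by
    decide +kernel
  obtain ⟨hv, ha, he⟩ := key u (by
    obtain ⟨r, hr⟩ := hu
    exact ⟨(r : ZMod 23), by rw [hr, Units.val_mul, sq]⟩)
  rw [eq_permOf hv he]
  exact permOf_mem_M24 hv ha

end Cfsg.Agent.S0371
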