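import Cfsg.Statements.S0372
import Cfsg.Agent.Lib.Golay.M24
-- import your own Cfsg.Agent.* helpers here

set_option autoImplicit false
open Cfsg

namespace Cfsg.Agent.S0372

open Cfsg.Agent.Golay
open scoped Pointwise

/-- The involution x ↦ -1/x of the projective line over ZMod 23 lies in the group of the length-24 code. -/
theorem result : Cfsg.projInv ∈ Cfsg.M24 := by
  rw [projInv_eq]
  exact permOf_mem_M24 (List.all_eq_true.1 gens_valid _ (List.getElem_mem _))
    (List.all_eq_true.1 gens_aut _ (List.getElem_mem _))

end Cfsg.Agent.S0372
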