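import Cfsg.Statements.S0384
import Cfsg.Agent.Lib.Golay.Mathieu
-- import your own Cfsg.Agent.* helpers here

set_option autoImplicit false
open scoped Pointwise
open Cfsg

namespace Cfsg.Agent.S0384

open Cfsg.Agent.Golay
open scoped Pointwise

/-- A dodecad stabiliser is sharply 5-transitive on the dodecad. -/
theorem result (d : Finset Cfsg.GolayPt) (hd : d ∈ Cfsg.dodecads) (x y : Fin 5 ↪ Cfsg.GolayPt) (hx : ∀ i, x i ∈ d) (hy : ∀ i, y i ∈ d) : ∃! g : MulAction.stabilizer Cfsg.M24 d, ∀ i, ((g : Cfsg.M24) : Equiv.Perm Cfsg.GolayPt) (x i) = y i := by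
  obtain ⟨g, hg, hgd⟩ := exists_M24_dodecad hd
  have hback : ∀ (z : Fin 5 ↪ Cfsg.GolayPt), (∀ i, z i ∈ d) → ∀ i,
      g.symm (z i) ∈ Cfsg.Spor.squareDodecad := by
    intro z hz i
    have := hz i
    rw [← hgd, ← Finset.inv_smul_mem_iff] at this
    exact this
  obtain ⟨a, ha, -⟩ := existsUnique_m12 _ (g.symm.injective.comp x.injective) (hback x hx)
  obtain ⟨b, hb, -⟩ := existsUnique_m12 _ (g.symm.injective.comp y.injective) (hback y hy)
  have hbd : ((g * b * (a : Equiv.Perm Cfsg.GolayPt)⁻¹ * g⁻¹) : Equiv.Perm Cfsg.GolayPt) • d = d := by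
    rw [mul_smul, mul_smul, mul_smul, ← hgd, inv_smul_smul, inv_smul_eq_iff.2
      (a.2.2 _ List.mem_cons_self).symm, b.2.2 _ List.mem_cons_self]
  let k : MulAction.stabilizer Cfsg.M24 d :=
    ⟨⟨g * b * (a : Equiv.Perm Cfsg.GolayPt)⁻¹ * g⁻¹,
      mul_mem (mul_mem (mul_mem hg b.2.1) (inv_mem a.2.1)) (inv_mem hg)⟩, hbd⟩
  refine ⟨k, fun i => ?_, fun k' hk' => ?_⟩
  · show g ((b : Equiv.Perm Cfsg.GolayPt) ((a : Equiv.Perm Cfsg.GolayPt)⁻¹ (g⁻¹ (x i)))) = y i
    have hax : (a : Equiv.Perm Cfsg.GolayPt)⁻¹ (g⁻¹ (x i)) = base12 i := by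
      rw [Equiv.Perm.inv_eq_iff_eq]; exact (ha i).symm
    rw [hax, hb i, Function.comp_apply, Equiv.apply_symm_apply]
  · have hdfix : ∀ u : MulAction.stabilizer Cfsg.M24 d,
        ((u : Cfsg.M24) : Equiv.Perm Cfsg.GolayPt) • d = d := fun u => u.2
    have hmem : ∀ u : MulAction.stabilizer Cfsg.M24 d,
        g⁻¹ * ((u : Cfsg.M24) : Equiv.Perm Cfsg.GolayPt) * g ∈ stabSets [Cfsg.Spor.squareDodecad] := by
      intro u
      refine ⟨mul_mem (mul_mem (inv_mem hg) (u : Cfsg.M24).2) hg, ?_⟩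
      simp [mul_smul, hgd, hdfix u, inv_smul_eq_iff]
    obtain ⟨c, -, huniq⟩ := existsUnique_m12 _ (g.symm.injective.comp y.injective) (hback y hy)
    have key : ∀ u : MulAction.stabilizer Cfsg.M24 d,
        (∀ i, ((u : Cfsg.M24) : Equiv.Perm Cfsg.GolayPt) (x i) = y i) →
        (⟨_, mul_mem (hmem u) a.2⟩ : ↥(stabSets [Cfsg.Spor.squareDodecad])) = c := by
      intro u hu
      refine huniq _ fun i => ?_
      show g⁻¹ (((u : Cfsg.M24) : Equiv.Perm Cfsg.GolayPt) (g ((a : Equiv.Perm Cfsg.GolayPt) (base12 i)))) = g.symm (y i)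
      rw [ha i, Function.comp_apply, Equiv.apply_symm_apply, hu i]
      rfl
    have hk : ∀ i, ((k : Cfsg.M24) : Equiv.Perm Cfsg.GolayPt) (x i) = y i := by
      intro i
      show g ((b : Equiv.Perm Cfsg.GolayPt) ((a : Equiv.Perm Cfsg.GolayPt)⁻¹ (g⁻¹ (x i)))) = y i
      have hax : (a : Equiv.Perm Cfsg.GolayPt)⁻¹ (g⁻¹ (x i)) = base12 i := by
        rw [Equiv.Perm.inv_eq_iff_eq]; exact (ha i).symm
      rw [hax, hb i, Function.comp_apply, Equiv.apply_symm_apply]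
    have h := congrArg Subtype.val ((key k' hk').trans (key k hk).symm)
    simp only [mul_left_inj, mul_right_inj] at h
    exact Subtype.ext (Subtype.ext h)

end Cfsg.Agent.S0384
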