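import Cfsg.Statements.S0386
import Cfsg.Agent.Lib.Golay.OrbitChecks
-- import your own Cfsg.Agent.* helpers here

set_option autoImplicit false
open Cfsg

namespace Cfsg.Agent.S0386

open Cfsg.Agent.Golay Cfsg.Agent.Golay.Cert
open scoped Pointwise

theorem count_sq (k : ℕ) : {o : Finset GolayPt | o ∈ octads ∧ (o ∩ maskSet sqMask).card = k}.ncard
    = (octadList.filter fun m => meetsB sqMask k m).length :=
  ncard_octads_filter _ _ fun m => by rw [meetsB_iff, Finset.inter_comm]

theorem count_any {d : Finset GolayPt} (hd : d ∈ dodecads) (k : ℕ) :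
    {o : Finset GolayPt | o ∈ octads ∧ (o ∩ d).card = k}.ncard
      = (octadList.filter fun m => meetsB sqMask k m).length := by
  obtain ⟨g, hg, hgd⟩ := dodecad_move hd
  rw [← count_sq]
  exact ncard_smul g _ _ fun s => by rw [smul_mem_octads_iff hg, ← hgd, card_inter_smul]

/-- For a fixed dodecad, 132 octads meet it in 6 points, 132 in 2 points and 495 in 4 points. -/
theorem result (d : Finset Cfsg.GolayPt) (hd : d ∈ Cfsg.dodecads) : {o : Finset Cfsg.GolayPt | o ∈ Cfsg.octads ∧ (o ∩ d).card = 6}.ncard = 132 ∧ {o : Finset Cfsg.GolayPt | o ∈ Cfsg.octads ∧ (o ∩ d).card = 2}.ncard = 132 ∧ {o : Finset Cfsg.GolayPt | o ∈ Cfsg.octads ∧ (o ∩ d).card = 4}.ncard = 495 := by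
  rw [count_any hd, count_any hd, count_any hd]
  exact ⟨by decide +kernel, by decide +kernel, by decide +kernel⟩

end Cfsg.Agent.S0386
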