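import Cfsg.Statements.S0389
import Cfsg.Agent.Lib.Golay.DodStab
-- import your own Cfsg.Agent.* helpers here

set_option autoImplicit false
open scoped Pointwise
open Cfsg

namespace Cfsg.Agent.S0389

open Cfsg.Agent.Golay Cfsg.Agent.Golay.Cert
open scoped Pointwise

/-- The stabiliser of a dodecad and a point on it is 3-transitive on the complementary dodecad. -/
theorem result (d : Finset Cfsg.GolayPt) (hd : d ∈ Cfsg.dodecads) (p : Cfsg.GolayPt) (hp : p ∈ d) (x y : Fin 3 ↪ Cfsg.GolayPt) (hx : ∀ i, x i ∉ d) (hy : ∀ i, y i ∉ d) : ∃ g ∈ MulAction.stabilizer Cfsg.M24 d ⊓ MulAction.stabilizer Cfsg.M24 p, ∀ i, (g : Equiv.Perm Cfsg.GolayPt) (x i) = y i := by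
  obtain ⟨g, hg, hgd, hgp⟩ := exists_M24_dodecad_map hd (k := 1) (x := fun _ => ptA) (y := fun _ => p)
    (by norm_num) (Function.injective_of_subsingleton _) (Function.injective_of_subsingleton _)
    (fun _ => by rw [squareDodecad_eq, mem_maskSet]; decide) (fun _ => hp)
  have hgd' : g • maskSet sqMask = d := by rw [← squareDodecad_eq]; exact hgd
  have hout : ∀ z, z ∉ d → g.symm z ∉ maskSet sqMask := fun z hz h => hz (by
    rw [← hgd', ← g.apply_symm_apply z]; exact (apply_mem_smul_iff g _ _).2 h)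
  obtain ⟨k, hk, hkxy⟩ := exists_triple (x := fun i => g.symm (x i)) (y := fun i => g.symm (y i))
    (g.symm.injective.comp x.injective) (g.symm.injective.comp y.injective)
    (fun i => hout _ (hx i)) (fun i => hout _ (hy i))
  have hkA : k ptA = ptA := fix_of_mem_stabIn (i := 0) hk (by norm_num) (by simp)
  have hgk : g * k * g⁻¹ ∈ Cfsg.M24 := mul_mem (mul_mem hg hk.1) (inv_mem hg)
  refine ⟨⟨g * k * g⁻¹, hgk⟩, ⟨?_, ?_⟩, fun i => ?_⟩
  · refine MulAction.mem_stabilizer_iff.2 ?_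
    show (g * k * g⁻¹) • d = d
    rw [mul_smul, mul_smul, inv_smul_eq_iff.2 hgd'.symm, hk.2 _ List.mem_cons_self, hgd']
  · refine MulAction.mem_stabilizer_iff.2 ?_
    show (g * k * g⁻¹) p = p
    rw [← hgp 0]
    simp [hkA]
  · show (g * k * g⁻¹) (x i) = y i
    rw [Equiv.Perm.mul_apply, Equiv.Perm.mul_apply, show g⁻¹ (x i) = g.symm (x i) from rfl,
      hkxy i, g.apply_symm_apply]

end Cfsg.Agent.S0389
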