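import Cfsg.Statements.S0405
import Cfsg.Agent.Lib.Leech.HS
-- import your own Cfsg.Agent.* helpers here

set_option autoImplicit false
open Cfsg

namespace Cfsg.Agent.S0405

open Cfsg Cfsg.Agent.Golay Cfsg.Agent.Leech

theorem ipn {x : leechLattice} {n : ℤ} (h : sqNorm (x : GolayPt → ℤ) = 8 * n) : ip x x = n := by
  have := eight_ip_self x; omega

theorem ipd {x y : leechLattice} {d : ℤ} (h : dotInt (x : GolayPt → ℤ) y = 8 * d) : ip x y = d := by
  have := eight_ip x y; omega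

/-- Joint stabiliser of two vectors of sum of squares 48 with coordinate dot product −32 is simple of order 44352000. -/
theorem result (v w : Cfsg.leechLattice) (hv : Cfsg.sqNorm (v : Cfsg.GolayPt → ℤ) = 48) (hw : Cfsg.sqNorm (w : Cfsg.GolayPt → ℤ) = 48) (hvw : Cfsg.dotInt (v : Cfsg.GolayPt → ℤ) (w : Cfsg.GolayPt → ℤ) = -32) : Cfsg.IsHS ↥(MulAction.stabilizer Cfsg.Co0 v ⊓ MulAction.stabilizer Cfsg.Co0 w) := by
  exact isHS_stab (ipn (n := 6) (by rw [hv]; rfl)) (ipn (n := 6) (by rw [hw]; rfl)) (ipd (d := -4) (by rw [hvw]; rfl))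

end Cfsg.Agent.S0405
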