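import Cfsg.Statements.S0412
import Cfsg.Agent.Lib.Steiner.Uniq24
import Cfsg.Agent.Lib.Steiner.AutTransfer
import Cfsg.Agent.Lib.Golay.Mathieu
import Cfsg.Agent.S0369
-- import your own Cfsg.Agent.* helpers here

set_option autoImplicit false
open Cfsg

namespace Cfsg.Agent.S0412

open Cfsg.Agent.Steiner

/-- Aut of an S(5, 8, 24) is simple of order 244823040 and 5-transitive on points. -/
theorem result {α : Type*} [Fintype α] [DecidableEq α] (hα : Fintype.card α = 24) {B : Set (Finset α)} (hB : Cfsg.IsSteinerSystem 5 8 B) : Cfsg.IsM24 (Cfsg.setSystemAut B) ∧ MulAction.IsMultiplyPretransitive (Cfsg.setSystemAut B) α 5 := by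
  obtain ⟨e, he⟩ := exists_iso_octads hα hB
  have h24 : Cfsg.setSystemAut Cfsg.octads = Cfsg.M24 := Cfsg.Agent.S0369.result.symm
  let φ : ↥Cfsg.M24 ≃* ↥(Cfsg.setSystemAut B) :=
    (MulEquiv.subgroupCongr h24.symm).trans (autEquiv e he)
  have := Cfsg.Agent.Golay.isSimpleGroup_M24
  refine ⟨⟨φ.symm.isSimpleGroup, ?_⟩, pretransitive_congr e he ?_⟩
  · rw [← Nat.card_congr φ.toEquiv, Cfsg.Agent.Golay.card_M24]
  · rw [h24]; exact Cfsg.Agent.Golay.isMultiplyPretransitive_M24

end Cfsg.Agent.S0412
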