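import Cfsg.Statements.S0413
import Cfsg.Agent.Lib.Steiner.Std23
-- import your own Cfsg.Agent.* helpers here

set_option autoImplicit false
open Cfsg

namespace Cfsg.Agent.S0413

open Cfsg.Agent.Steiner

/-- Aut of an S(4, 7, 23) is simple of order 10200960 and 4-transitive. -/
theorem result {α : Type*} [Fintype α] [DecidableEq α] (hα : Fintype.card α = 23) {B : Set (Finset α)} (hB : Cfsg.IsSteinerSystem 4 7 B) : Cfsg.IsM23 (Cfsg.setSystemAut B) ∧ MulAction.IsMultiplyPretransitive (Cfsg.setSystemAut B) α 4 := by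
  obtain ⟨e, he⟩ := exists_iso23 hα hB
  let φ : ↥(Cfsg.Agent.Golay.stabSets [{(none : Cfsg.GolayPt)}]) ≃* ↥(Cfsg.setSystemAut B) :=
    autStd23Equiv.symm.trans (autEquiv e he)
  have := Cfsg.Agent.Golay.isSimpleGroup_M23
  refine ⟨⟨φ.symm.isSimpleGroup, ?_⟩, pretransitive_congr e he pretransitive_std23⟩
  rw [← Nat.card_congr φ.toEquiv, ← Cfsg.Agent.Golay.stabIn_m23, Cfsg.Agent.Golay.card_stabIn_m23]

end Cfsg.Agent.S0413
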