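import Cfsg.Statements.S0414
import Cfsg.Agent.Lib.Steiner.Std22
-- import your own Cfsg.Agent.* helpers here

set_option autoImplicit false
open Cfsg

namespace Cfsg.Agent.S0414

open Cfsg.Agent.Steiner Cfsg.Agent.Golay
open scoped Pointwise

/-- Aut of an S(3, 6, 22) has order 887040, is 3-transitive, and contains a simple subgroup of index 2. -/
theorem result {α : Type*} [Fintype α] [DecidableEq α] (hα : Fintype.card α = 22) {B : Set (Finset α)} (hB : Cfsg.IsSteinerSystem 3 6 B) : Nat.card (Cfsg.setSystemAut B) = 887040 ∧ MulAction.IsMultiplyPretransitive (Cfsg.setSystemAut B) α 3 ∧ ∃ H : Subgroup (Cfsg.setSystemAut B), H.index = 2 ∧ Cfsg.IsM22 H := by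
  obtain ⟨e, he⟩ := exists_iso22 hα hB
  let φ : ↥pairStab ≃* ↥(Cfsg.setSystemAut B) := autStd22Equiv.trans (autEquiv e he)
  have hle : stabSets [{(none : GolayPt)}, {some 0}] ≤ pairStab := fun g hg =>
    mem_stabSets.2 ⟨hg.1, fun s hs => by
      rw [List.mem_singleton.1 hs, Finset.insert_eq, Finset.smul_finset_union, hg.2 _ (by simp),
        hg.2 _ (by simp)]⟩
  have hcard : Nat.card (Cfsg.setSystemAut B) = 887040 := by
    rw [← Nat.card_congr φ.toEquiv, card_pairStab]
  refine ⟨hcard, pretransitive_congr e he pretransitive_std22,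
    ((stabSets [{(none : GolayPt)}, {some 0}]).subgroupOf pairStab).map φ.toMonoidHom, ?_, ?_⟩
  · have h := Subgroup.card_mul_index
      (((stabSets [{(none : GolayPt)}, {some 0}]).subgroupOf pairStab).map φ.toMonoidHom)
    rw [hcard, Subgroup.card_map_of_injective φ.injective,
      Nat.card_congr (Subgroup.subgroupOfEquivOfLe hle).toEquiv,
      show Nat.card (stabSets [{(none : GolayPt)}, {some 0}]) = 443520 by rw [← stabIn_m22, card_stabIn_m22]] at h
    exact Nat.eq_of_mul_eq_mul_left (by norm_num : 0 < 443520) h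
  · let ψ := (Subgroup.subgroupOfEquivOfLe hle).symm.trans
      (((stabSets [{(none : GolayPt)}, {some 0}]).subgroupOf pairStab).equivMapOfInjective φ.toMonoidHom φ.injective)
    have := isSimpleGroup_M22
    refine ⟨ψ.symm.isSimpleGroup, ?_⟩
    rw [← Nat.card_congr ψ.toEquiv, ← stabIn_m22, card_stabIn_m22]


end Cfsg.Agent.S0414
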