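import Cfsg.Statements.S0427
import Cfsg.Agent.Lib.Steiner.Triangles
-- import your own Cfsg.Agent.* helpers here

set_option autoImplicit false
open Cfsg

namespace Cfsg.Agent.S0427

open Cfsg.Agent.Steiner Finset

theorem card_sub {α : Type*} [Fintype α] [DecidableEq α] {B : Set (Finset α)} [Fintype B]
    (q : Finset α → Prop) [DecidablePred q] :
    (Finset.univ.filter fun b : B => q b.1).card = ((blocks B).filter q).card := by
  refine Finset.card_bij (fun b _ => b.1) ?_ ?_ ?_
  · intro b hb; simpa [mem_blocks] using hb
  · intro a _ b _ h; exact Subtype.ext h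
  · intro c hc
    simp only [mem_filter, mem_blocks] at hc
    exact ⟨⟨c, hc.1⟩, by simp [hc.2], rfl⟩

/-- The block graph (adjacent = disjoint) of an S(3, 6, 22) is strongly regular with parameters (77, 16, 0, 4). -/
theorem result {α : Type*} [Fintype α] (hα : Fintype.card α = 22) {B : Set (Finset α)} (hB : Cfsg.IsSteinerSystem 3 6 B) [Fintype B] [DecidableRel (Cfsg.blockGraph B).Adj] : (Cfsg.blockGraph B).IsSRGWith 77 16 0 4 := by
  classical
  have hne : ∀ b : B, (b : Finset α) ≠ ∅ := fun b e => by
    have := card_of_mem hB b.2; rw [e] at this; simp at this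
  have adj : ∀ b c : B, (Cfsg.blockGraph B).Adj b c ↔ Disjoint (b : Finset α) c := by
    intro b c
    simp only [Cfsg.blockGraph, SimpleGraph.fromRel_adj]
    refine ⟨fun h => h.2.elim id (fun h => h.symm), fun h => ⟨?_, Or.inl h⟩⟩
    rintro rfl
    exact hne b (Finset.disjoint_self_iff_empty _ |>.1 h)
  have hcn : ∀ b c : B, Fintype.card ((Cfsg.blockGraph B).commonNeighbors b c)
      = ((blocks B).filter fun d => Disjoint (b : Finset α) d ∧ Disjoint (c : Finset α) d).card := by
    intro b c
    rw [← card_sub, Fintype.card_subtype]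
    congr 1
    ext d
    simp [SimpleGraph.mem_commonNeighbors, adj]
  refine ⟨?_, fun b => ?_, fun b c h => ?_, fun b c hbc h => ?_⟩
  · have h := card_blocks hB
    rw [hα] at h
    have h2 := card_sub (B := B) (fun _ => True)
    simp only [filter_true, card_univ] at h2
    norm_num [Nat.choose] at h
    omega
  · have h := exactly22 hα hB b.2 ∅ (empty_subset _)
    simp only [exactly, card_empty, row22] at h
    rw [← h, ← card_sub, ← SimpleGraph.card_neighborFinset_eq_degree]
    congr 1
    ext d
    simp [adj, Finset.disjoint_iff_inter_eq_empty]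
  · rw [hcn, disjoint_count hα hB b.2 c.2 (fun e => h.ne (Subtype.ext e)), if_pos ((adj b c).1 h)]
  · rw [hcn, disjoint_count hα hB b.2 c.2 (fun e => hbc (Subtype.ext e)),
      if_neg (fun h' => h ((adj b c).2 h'))]

end Cfsg.Agent.S0427
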