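import Cfsg.Statements.S0432
import Cfsg.Agent.Lib.Leech.Basic
import Cfsg.Agent.Lib.Golay.Aut
-- import your own Cfsg.Agent.* helpers here

set_option autoImplicit false
open Cfsg

namespace Cfsg.Agent.S0432

open Cfsg.Agent.Leech
open Cfsg.Agent.Golay
open scoped Pointwise

/-- Coordinate permutations from the code's group preserve the lattice. -/
theorem result (σ : Equiv.Perm Cfsg.GolayPt) (hσ : σ ∈ Cfsg.M24) (x : Cfsg.GolayPt → ℤ) (hx : x ∈ Cfsg.leechLattice) : (fun i => x (σ i)) ∈ Cfsg.leechLattice := by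
  obtain ⟨m, hm⟩ := mem_leech.1 hx
  refine mem_leech.2 ⟨m, fun i => hm.1 (σ i), ?_, ?_⟩
  · rw [Equiv.sum_comp σ x]; exact hm.2.1
  · have h : σ.symm • Cfsg.support₂ (hword m x) ∈
        Cfsg.supports (Cfsg.golayCode : Set (Cfsg.GolayPt → ZMod 2)) :=
      mem_M24_iff.1 (inv_mem hσ) _ ⟨_, hm.2.2, rfl⟩
    refine mem_code_iff_support.2 ?_
    convert h using 1
    ext i
    rw [← Finset.inv_smul_mem_iff]
    constructor
    · intro hh
      exact Finset.mem_filter.2 ⟨Finset.mem_univ _, (Finset.mem_filter.1 hh).2⟩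
    · intro hh
      exact Finset.mem_filter.2 ⟨Finset.mem_univ _, (Finset.mem_filter.1 hh).2⟩

end Cfsg.Agent.S0432
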