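import Cfsg.Statements.S0437
import Cfsg.Agent.Lib.Fischer.Basic
import Cfsg.Agent.S5344

set_option autoImplicit false
open Cfsg

namespace Cfsg.Agent.S0437

open Cfsg.Agent.Fischer


/-- For three distinct, pairwise commuting members a, b, c of a set of 3-transpositions E, a member e of E centralises a * b * c if and only if it centralises each of a, b and c. -/
theorem result {G : Type*} [Group G] {E : Set G} (hE : Cfsg.IsThreeTranspositionSet E) {a b c e : G} (ha : a ∈ E) (hb : b ∈ E) (hc : c ∈ E) (he : e ∈ E) (hab : a ≠ b) (hac : a ≠ c) (hbc : b ≠ c) (h₁ : Commute a b) (h₂ : Commute a c) (h₃ : Commute b c) : Commute e (a * b * c) ↔ (Commute e a ∧ Commute e b ∧ Commute e c) := by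
  refine ⟨fun h => ?_, fun h => (h.1.mul_right h.2.1).mul_right h.2.2⟩
  have sa := TSet.sq hE ha
  have sb := TSet.sq hE hb
  have sc := TSet.sq hE hc
  have se := TSet.sq hE he
  by_cases hea : Commute e a
  · have hbc' : Commute e (b * c) := by
      have := hea.mul_right h
      rwa [← mul_assoc, ← mul_assoc, sa, one_mul] at this
    exact ⟨hea, (TSet.commute_mul_iff hE hb hc he hbc h₃).1 hbc'⟩
  by_cases hec : Commute e c
  · have hab' : Commute e (a * b) := by
      have := h.mul_right hec
      rwa [mul_assoc (a * b), sc, mul_one] at this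
    exact absurd ((TSet.commute_mul_iff hE ha hb he hab h₁).1 hab').1 hea
  by_cases heb : Commute e b
  · have hac' : Commute e (a * c) := by
      have h4 := heb.mul_right h
      rwa [show b * (a * b * c) = a * c by
        rw [← mul_assoc, ← mul_assoc, ← h₁.eq, mul_assoc a b b, sb, mul_one]] at h4
    exact absurd ((TSet.commute_mul_iff hE ha hc he hac h₂).1 hac').1 hea
  exfalso
  obtain ⟨φ, -, e1, e2, e3⟩ := Cfsg.Agent.S5344.result hE ha he hb hab h₁
    (fun h' => hea h'.symm) heb
  have h4 : (a * b * e) ^ 4 = 1 := by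
    rw [← e1, ← e2, ← e3, ← map_mul, ← map_mul, ← map_pow,
      show (Equiv.swap (0 : Fin 4) 1 * Equiv.swap 2 3 * Equiv.swap 1 2) ^ 4 = 1 by decide, map_one]
  have hyc : Commute (a * b) c := h₂.mul_left h₃
  have hyy : (a * b) * (a * b) = 1 := by
    rw [← pow_two, h₁.mul_pow, pow_two, pow_two, sa, sb, one_mul]
  -- conjugation of `a * b` by `e`
  have key : e * (a * b) * e = (a * b) * (c * e * c * e) := by
    have h5 : e * (a * b) * c = a * b * (c * e) := by
      rw [mul_assoc e, h.eq, mul_assoc]
    calc e * (a * b) * e = e * (a * b) * c * (c * e) := by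
          rw [mul_assoc (e * (a * b)) c (c * e), ← mul_assoc c c e, sc, one_mul]
      _ = (a * b) * (c * e) * (c * e) := by rw [h5]
      _ = _ := by simp only [mul_assoc]
  have h6 : ((c * e) ^ 2) ^ 2 = 1 := by
    have h7 : (c * e) ^ 2 = (a * b) * (e * (a * b) * e) := by
      rw [key, ← mul_assoc (a * b), hyy, one_mul, pow_two]; simp only [mul_assoc]
    rw [h7, ← h4]
    simp only [pow_succ, pow_zero, one_mul, mul_assoc]
  exact hec (TSet.commute_of_two_pow hE hc he (k := 2) (by rw [← h6, ← pow_mul]; rfl)).symm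

end Cfsg.Agent.S0437
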