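import Cfsg.Statements.S0439
-- import your own Cfsg.Agent.* helpers here

set_option autoImplicit false
open Cfsg

namespace Cfsg.Agent.S0439

/-- In the symmetric group of degree n ≥ 2, the set of transpositions is a conjugacy class of 3-transpositions which generates the group. -/
theorem result (n : ℕ) (hn : 2 ≤ n) : Cfsg.IsThreeTranspositionClass {σ : Equiv.Perm (Fin n) | σ.IsSwap} := by
  have hmem : Equiv.swap (⟨0, by omega⟩ : Fin n) ⟨1, by omega⟩ ∈ {σ : Equiv.Perm (Fin n) | σ.IsSwap} :=
    ⟨_, _, by simp [Fin.ext_iff], rfl⟩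
  refine ⟨⟨fun d hd => ?_, fun d hd e he => ?_⟩, ⟨_, hmem, ?_⟩, Equiv.Perm.closure_isSwap⟩
  · obtain ⟨a, b, hab, rfl⟩ := hd
    refine orderOf_eq_prime (by rw [sq, Equiv.swap_mul_self]) fun h => hab ?_
    exact Equiv.swap_eq_one_iff.1 h
  · obtain ⟨a, b, hab, rfl⟩ := hd
    obtain ⟨c, d, hcd, rfl⟩ := he
    have h3 : ∀ x y z : Fin n, x ≠ y → x ≠ z → y ≠ z →
        (Equiv.swap x y * Equiv.swap x z) ^ 3 = 1 := by
      intro x y z hxy hxz hyz
      have := (Equiv.Perm.isThreeCycle_swap_mul_swap_same hxy hxz hyz).orderOf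
      rw [← this, pow_orderOf_eq_one]
    by_cases hac : a = c
    · subst hac
      by_cases hbd : b = d
      · subst hbd; left; rw [Equiv.swap_mul_self, one_pow]
      · right; exact h3 _ _ _ hab hcd hbd
    by_cases had : a = d
    · subst had
      rw [Equiv.swap_comm c a]
      by_cases hbc : b = c
      · subst hbc; left; rw [Equiv.swap_mul_self, one_pow]
      · right; exact h3 _ _ _ hab hcd.symm hbc
    by_cases hbc : b = c
    · subst hbc
      right; rw [Equiv.swap_comm a b]; exact h3 _ _ _ hab.symm hcd had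
    by_cases hbd : b = d
    · subst hbd
      right; rw [Equiv.swap_comm a b, Equiv.swap_comm c b]; exact h3 _ _ _ hab.symm hcd.symm hac
    left
    have hcomm : Commute (Equiv.swap a b) (Equiv.swap c d) :=
      (Equiv.Perm.disjoint_iff_disjoint_support.2 (by
        rw [Equiv.Perm.support_swap hab, Equiv.Perm.support_swap hcd]
        simp [hac, had, hbc, hbd, Ne.symm hac, Ne.symm had, Ne.symm hbc, Ne.symm hbd])).commute
    rw [hcomm.mul_pow, sq, sq, Equiv.swap_mul_self, Equiv.swap_mul_self, one_mul]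
  · ext σ
    constructor
    · rintro ⟨a, b, hab, rfl⟩
      exact Equiv.Perm.isConj_swap (by simp [Fin.ext_iff]) hab
    · intro hσ
      obtain ⟨c, hc⟩ := isConj_iff.1 hσ
      exact ⟨c _, c _, c.injective.ne (by simp [Fin.ext_iff]),
        hc.symm.trans (Equiv.swap_apply_apply c _ _).symm⟩

end Cfsg.Agent.S0439
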