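import Cfsg.Statements.S0440
import Cfsg.Agent.Lib.Classical.Symplectic

set_option autoImplicit false
open Cfsg Matrix

namespace Cfsg.Agent.S0440

open ClassicalSp

variable {n : ℕ}

theorem cases_zmod : ∀ c : ZMod 2, c = 0 ∨ c = 1 := by decide

/-- The transvection in a vector. -/
noncomputable def T (u : Fin n ⊕ Fin n → ZMod 2) : Matrix.symplecticGroup (Fin n) (ZMod 2) :=
  ⟨_, sympTransvection_mem u 1⟩

local notation "B" => spBilin n (ZMod 2)

theorem T_mulVec (u x : Fin n ⊕ Fin n → ZMod 2) : (T u).1 *ᵥ x = x + B x u • u := by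
  show Cfsg.sympTransvection n u 1 *ᵥ x = _
  rw [sympTransvection_mulVec, one_mul, spBilin_apply]

theorem ext_mul {A C : Matrix.symplecticGroup (Fin n) (ZMod 2)} (h : ∀ x, A.1 *ᵥ x = C.1 *ᵥ x) : A = C :=
  Subtype.ext (Matrix.toLin'.injective (LinearMap.ext h))

theorem mul_apply (A C : Matrix.symplecticGroup (Fin n) (ZMod 2)) (x : Fin n ⊕ Fin n → ZMod 2) :
    (A * C).1 *ᵥ x = A.1 *ᵥ (C.1 *ᵥ x) := (Matrix.mulVec_mulVec _ _ _).symm

theorem preserves (A : Matrix.symplecticGroup (Fin n) (ZMod 2)) (x y : Fin n ⊕ Fin n → ZMod 2) :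
    B (A.1 *ᵥ x) (A.1 *ᵥ y) = B x y := by
  simpa [spBilin_apply] using (mem_iff_preserves A.1).1 A.2 x y

theorem conj_T (A : Matrix.symplecticGroup (Fin n) (ZMod 2)) (u : Fin n ⊕ Fin n → ZMod 2) :
    A * T u * A⁻¹ = T (A.1 *ᵥ u) := by
  rw [mul_inv_eq_iff_eq_mul]
  refine ext_mul fun x => ?_
  rw [mul_apply, mul_apply, T_mulVec, T_mulVec, Matrix.mulVec_add, Matrix.mulVec_smul, preserves]

theorem comm_form (x y : Fin n ⊕ Fin n → ZMod 2) : B y x = B x y := by
  rw [AltForm.swap spBilin_isAlt x y]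
  generalize B x y = c
  revert c; decide

theorem T_sq (u : Fin n ⊕ Fin n → ZMod 2) : T u * T u = 1 := by
  refine ext_mul fun x => ?_
  rw [mul_apply, T_mulVec, T_mulVec, Submonoid.coe_one, Matrix.one_mulVec, map_add, LinearMap.add_apply, map_smul,
    LinearMap.smul_apply, (spBilin_isAlt (m := n) (F := ZMod 2)) u, smul_zero, add_zero, add_assoc, ← add_smul,
    show ∀ c : ZMod 2, c + c = 0 by decide, zero_smul, add_zero]

theorem T_apply_self (u v : Fin n ⊕ Fin n → ZMod 2) : (T u).1 *ᵥ v = v + B u v • u := by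
  rw [T_mulVec, comm_form]

theorem eq_T {A : Matrix.symplecticGroup (Fin n) (ZMod 2)}
    (hA : ((A : Matrix (Fin n ⊕ Fin n) (Fin n ⊕ Fin n) (ZMod 2)) - 1).rank = 1) : ∃ u, u ≠ 0 ∧ A = T u := by
  obtain ⟨⟨u, hu⟩, hu0, hspan⟩ := finrank_eq_one_iff'.1 (show Module.finrank (ZMod 2)
    (LinearMap.range ((A : Matrix (Fin n ⊕ Fin n) (Fin n ⊕ Fin n) (ZMod 2)) - 1).mulVecLin) = 1 from hA)
  have hu0' : u ≠ 0 := fun e => hu0 (Subtype.ext e)
  have hN : ∀ x, ∃ a : ZMod 2, A.1 *ᵥ x = x + a • u := fun x => by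
    obtain ⟨a, ha⟩ := hspan ⟨_, LinearMap.mem_range_self _ x⟩
    refine ⟨a, ?_⟩
    have : a • u = A.1 *ᵥ x - x := by
      simpa [Matrix.sub_mulVec] using congrArg Subtype.val ha
    rw [this, add_sub_cancel]
  choose φ hφ using hN
  obtain ⟨z, hz⟩ := AltForm.exists_eq_one spBilin_nondeg hu0'
  refine ⟨u, hu0', ext_mul fun x => ?_⟩
  have hlin : ∀ y, φ y = φ z * B y u := fun y => by
    have h := preserves A y z
    rw [hφ y, hφ z] at h
    simp only [map_add, map_smul, LinearMap.add_apply, LinearMap.smul_apply, smul_eq_mul,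
      (spBilin_isAlt (m := n) (F := ZMod 2)) u, hz] at h
    have h2 : (2 : ZMod 2) = 0 := by decide
    linear_combination h - (φ z * B y u) * h2
  rcases cases_zmod (φ z) with h0 | h1
  · exfalso
    have h1 : (A : Matrix (Fin n ⊕ Fin n) (Fin n ⊕ Fin n) (ZMod 2)) = 1 := Matrix.toLin'.injective (LinearMap.ext fun y => by
      simp [hφ y, hlin y, h0])
    rw [h1, sub_self, Matrix.rank_zero] at hA
    exact one_ne_zero hA.symm
  · rw [T_mulVec, hφ, hlin, h1, one_mul]

theorem rank_T {u : Fin n ⊕ Fin n → ZMod 2} (hu : u ≠ 0) :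
    (((T u : Matrix.symplecticGroup (Fin n) (ZMod 2)) : Matrix (Fin n ⊕ Fin n) (Fin n ⊕ Fin n) (ZMod 2)) - 1).rank = 1 := by
  obtain ⟨z, hz⟩ := AltForm.exists_eq_one spBilin_nondeg hu
  have hr : LinearMap.range ((T u).1 - 1).mulVecLin = Submodule.span (ZMod 2) {u} := by
    refine le_antisymm ?_ ?_
    · rintro _ ⟨x, rfl⟩
      rw [Matrix.mulVecLin_apply, Matrix.sub_mulVec, T_mulVec, Matrix.one_mulVec, add_sub_cancel_left]
      exact Submodule.smul_mem _ _ (Submodule.mem_span_singleton_self u)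
    · rw [Submodule.span_le, Set.singleton_subset_iff]
      refine ⟨z, ?_⟩
      rw [Matrix.mulVecLin_apply, Matrix.sub_mulVec, T_apply_self, hz, Matrix.one_mulVec, add_sub_cancel_left, one_smul]
  rw [Matrix.rank, hr, finrank_span_singleton hu]

theorem T_ne_one {u : Fin n ⊕ Fin n → ZMod 2} (hu : u ≠ 0) : T u ≠ 1 := fun h => by
  have := rank_T hu
  rw [h, Submonoid.coe_one, sub_self, Matrix.rank_zero] at this
  exact one_ne_zero this.symm

/-- In the symplectic group in dimension 2n ≥ 2 over the field with two elements, the elements g for which g - 1 has rank one (the symplectic transvections) form a conjugacy class of 3-transpositions generating the group. -/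
theorem result (n : ℕ) (hn : 1 ≤ n) : Cfsg.IsThreeTranspositionClass {g : Matrix.symplecticGroup (Fin n) (ZMod 2) | ((g : Matrix (Fin n ⊕ Fin n) (Fin n ⊕ Fin n) (ZMod 2)) - 1).rank = 1} := by
  classical
  refine ⟨⟨fun d hd => ?_, fun d hd e he => ?_⟩, ?_, ?_⟩
  · obtain ⟨u, hu, rfl⟩ := eq_T hd
    exact orderOf_eq_prime (by rw [pow_two, T_sq]) (T_ne_one hu)
  · obtain ⟨u, hu, rfl⟩ := eq_T hd
    obtain ⟨v, hv, rfl⟩ := eq_T he
    have hi : ∀ w : Fin n ⊕ Fin n → ZMod 2, (T w)⁻¹ = T w := fun w => inv_eq_of_mul_eq_one_left (T_sq w)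
    have h1 := conj_T (T u) v
    have h2 := conj_T (T v) u
    rw [hi, T_apply_self] at h1 h2
    rcases cases_zmod (spBilin n (ZMod 2) u v) with h0 | h0
    · left
      rw [h0, zero_smul, add_zero] at h1
      calc (T u * T v) ^ 2 = (T u * T v * T u) * T v := by rw [pow_two]; simp only [mul_assoc]
        _ = 1 := by rw [h1, T_sq]
    · right
      have h0' : spBilin n (ZMod 2) v u = 1 := by rw [comm_form, h0]
      rw [h0, one_smul, add_comm] at h1
      rw [h0', one_smul] at h2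
      calc (T u * T v) ^ 3 = (T u * T v * T u) * (T v * T u * T v) := by rw [pow_three]; simp only [mul_assoc]
        _ = 1 := by rw [h1, h2, T_sq]
  · have hne : ∃ u : Fin n ⊕ Fin n → ZMod 2, u ≠ 0 :=
      ⟨Pi.single (Sum.inl ⟨0, hn⟩) 1, fun e => by simpa using congrFun e (Sum.inl ⟨0, hn⟩)⟩
    obtain ⟨u, hu⟩ := hne
    refine ⟨T u, rank_T hu, ?_⟩
    ext g
    simp only [conjugatesOf, Set.mem_ofPred_eq, isConj_iff]
    constructor
    · intro hg
      obtain ⟨v, hv, rfl⟩ := eq_T hg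
      obtain ⟨A, hA⟩ := exists_map_vec hu hv
      exact ⟨A, by rw [conj_T, hA]⟩
    · rintro ⟨A, rfl⟩
      rw [conj_T]
      refine rank_T fun e => hu ?_
      have := (toEquiv A).map_eq_zero_iff (x := u)
      exact this.1 e
  · rw [eq_top_iff, ← closure_transvections (m := n) (F := ZMod 2), Subgroup.closure_le]
    rintro A ⟨w, c, hA⟩
    rcases eq_or_ne w 0 with rfl | hw
    · rw [show A = 1 from ext_mul fun x => by rw [hA, sympTransvection_mulVec]; simp]
      exact one_mem _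
    rcases cases_zmod c with rfl | rfl
    · rw [show A = 1 from ext_mul fun x => by rw [hA, sympTransvection_mulVec]; simp]
      exact one_mem _
    · refine Subgroup.subset_closure ?_
      rw [show A = T w from Subtype.ext hA]
      exact rank_T hw

end Cfsg.Agent.S0440
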