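import Cfsg.Statements.S0441
import Cfsg.Agent.Lib.Fischer.Classes

set_option autoImplicit false
open Cfsg

namespace Cfsg.Agent.S0441

open Cfsg.Agent.Fischer Cfsg.Agent


/-- Fischer's rank-three property. Let a finite group be generated by a conjugacy class D of 3-transpositions, with non-abelian simple commutator subgroup. Then for a in D there are members of D other than a commuting with a and members not commuting with a, and the centraliser of a acts transitively on each of these two sets. -/
theorem result {G : Type*} [Group G] [Finite G] {D : Set G} (hD : Cfsg.IsThreeTranspositionClass D) (hsimple : IsSimpleGroup (commutator G)) (hnonab : ∃ x y : commutator G, x * y ≠ y * x) {a : G} (ha : a ∈ D) : (∃ b ∈ D, b ≠ a ∧ Commute a b) ∧ (∃ c ∈ D, ¬ Commute a c) ∧ (∀ b ∈ D, ∀ b' ∈ D, b ≠ a → b' ≠ a → Commute a b → Commute a b' → ∃ g : G, Commute g a ∧ g * b * g⁻¹ = b') ∧ (∀ c ∈ D, ∀ c' ∈ D, ¬ Commute a c → ¬ Commute a c' → ∃ g : G, Commute g a ∧ g * c * g⁻¹ = c') := by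
  have hT := TClass.toGroup hD
  haveI := hsimple
  have hna : ¬ IsMulCommutative (commutator G) := fun h => by
    obtain ⟨x, y, hxy⟩ := hnonab
    exact hxy (mul_comm' x y)
  have hperf : ⁅commutator G, commutator G⁆ = commutator G := by
    have : commutator (commutator G) = ⊤ := by
      rcases (inferInstance : (commutator (commutator G)).Normal).eq_bot_or_eq_top with h | h
      · exact absurd ((commutator_eq_bot_iff _).1 h) hna
      · exact h
    rw [← Subgroup.map_subtype_commutator, this, ← MonoidHom.range_eq_map, Subgroup.range_subtype]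
  haveI : Group.IsPerfect (commutator G) := Subgroup.isPerfect_iff.2 hperf
  have hcore : ∀ p, p.Prime → pCore p G ≤ Subgroup.center G := by
    intro p hp
    haveI := Fact.mk hp
    haveI := Cfsg.pCore_normal p G
    rcases (Subgroup.Normal.subgroupOf (inferInstance : (pCore p G).Normal)
      (commutator G)).eq_bot_or_eq_top with h | h
    · intro x hx
      rw [Subgroup.mem_center_iff]
      intro g
      have h1 : g * x * g⁻¹ * x⁻¹ ∈ pCore p G ⊓ commutator G := by
        refine Subgroup.mem_inf.2 ⟨mul_mem (Subgroup.Normal.conj_mem inferInstance _ hx g) (inv_mem hx), ?_⟩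
        rw [commutator_def]
        exact Subgroup.commutator_mem_commutator (Subgroup.mem_top _) (Subgroup.mem_top _)
      have h2 : (⟨_, h1.2⟩ : commutator G) ∈ (pCore p G).subgroupOf (commutator G) := h1.1
      rw [h, Subgroup.mem_bot] at h2
      exact mul_inv_eq_iff_eq_mul.1 (mul_inv_eq_one.1 (congrArg Subtype.val h2))
    · exfalso
      haveI : Group.IsNilpotent (pCore p G) := (PBasic.pCore_isPGroup p G).isNilpotent
      haveI : Group.IsSolvable (commutator G) :=
        Components.isSolvable_mono (Subgroup.subgroupOf_eq_top.1 h)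
      exact Group.IsPerfect.not_isSolvable (commutator G) inferInstance
  have hD2 : ∃ x ∈ D, ∃ y ∈ D, x ≠ y := by
    by_contra h
    push Not at h
    have hz : a ∈ Subgroup.center G := mem_center_of_commute_gen hD.2.2 fun s hs => by
      rw [h a ha s hs]
    obtain ⟨x, y, hxy⟩ := hnonab
    refine hxy (Subtype.ext ?_)
    have hle : (⊤ : Subgroup G) ≤ Subgroup.center G := by
      rw [← hD.2.2, Subgroup.closure_le]
      intro s hs
      rw [← h a ha s hs]; exact hz
    exact (Subgroup.mem_center_iff.1 (hle (Subgroup.mem_top (y : G))) (x : G))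
  have h2 := hcore 2 Nat.prime_two
  have h3 := hcore 3 Nat.prime_three
  have hprim := TClass.primitive_of_perfect hD hD2 h2 h3 hperf
  have hw := exists_commuting_pair hT hD2 h3
  refine ⟨?_, TClass.exists_not_commute hD hD2 ha, ?_, ?_⟩
  · obtain ⟨u, hu, v, hv, huv, hc⟩ := hw
    obtain ⟨g, rfl⟩ := TClass.transitive hD u hu a ha
    exact ⟨g * v * g⁻¹, hT.2.1 g v hv, fun h => huv (by simpa using h.symm),
      (commute_conj_iff g u v).2 hc⟩
  · intro b hb b' hb' hba hb'a hab hab'
    obtain ⟨g, hg, hgb⟩ := prim_trans_commuting hT hprim hw ha b ⟨hb, hba, hab⟩ b' ⟨hb', hb'a, hab'⟩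
    exact ⟨g, commute_of_mem_commClosure (D := D)
      (Subgroup.closure_mono (show {y : G | y ∈ D ∧ y ≠ a ∧ Commute a y} ⊆
        {y : G | y ∈ D ∧ Commute a y} from fun y hy => ⟨hy.1, hy.2.2⟩) hg), hgb⟩
  · intro c hc c' hc' hac hac'
    obtain ⟨g, hg, hgc⟩ := prim_trans_noncommuting hT hprim hw ha c hc c' hc' hac hac'
    exact ⟨g, commute_of_mem_commClosure hg, hgc⟩

end Cfsg.Agent.S0441
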