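import Cfsg.Statements.S0442
-- import your own Cfsg.Agent.* helpers here

set_option autoImplicit false
open Cfsg

namespace Cfsg.Agent.S0442

/-- A standard trick for producing elements of an involution centraliser: for an involution a and an element g, let b be the conjugate g⁻¹ * a * g. If a * b has odd order 2m + 1 then g * (a * b) ^ m commutes with a; if a * b has even order 2m then (a * b) ^ m and (a * (g * a * g⁻¹)) ^ m commute with a. -/
theorem result {G : Type*} [Group G] (a g : G) (ha : orderOf a = 2) : (∀ m : ℕ, orderOf (a * (g⁻¹ * a * g)) = 2 * m + 1 → Commute (g * (a * (g⁻¹ * a * g)) ^ m) a) ∧ (∀ m : ℕ, orderOf (a * (g⁻¹ * a * g)) = 2 * m → Commute ((a * (g⁻¹ * a * g)) ^ m) a ∧ Commute ((a * (g * a * g⁻¹)) ^ m) a) := by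
  have ha2 : a * a = 1 := by
    have := pow_orderOf_eq_one a
    rwa [ha, sq] at this
  have key : ∀ (w : G), a * w * a = w⁻¹ → ∀ k : ℕ, a * w ^ k = (w⁻¹) ^ k * a := by
    intro w hw k
    induction k with
    | zero => simp
    | succ k ih =>
      have : a * w = w⁻¹ * a := by rw [← hw, mul_assoc, mul_assoc, ha2, mul_one]
      rw [pow_succ, ← mul_assoc, ih, mul_assoc, this, ← mul_assoc, ← pow_succ]
  set b := g⁻¹ * a * g with hb
  have hb2 : b * b = 1 := by rw [hb]; simp [mul_assoc, ← mul_assoc a a, ha2]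
  have hwinv : (a * b)⁻¹ = b * a := by
    rw [mul_inv_rev, inv_eq_of_mul_eq_one_right hb2, inv_eq_of_mul_eq_one_right ha2]
  have haw : a * (a * b) * a = (a * b)⁻¹ := by rw [hwinv, ← mul_assoc, ha2, one_mul]
  refine ⟨fun m hm => ?_, fun m hm => ⟨?_, ?_⟩⟩
  · show g * (a * b) ^ m * a = a * (g * (a * b) ^ m)
    have h1 : a * g = g * b := by simp [hb, ← mul_assoc]
    have h2 : (a * b) ^ m * a = a * ((a * b)⁻¹) ^ m := by
      have := key (a * b)⁻¹ (by rw [inv_inv, hwinv, ← mul_assoc, mul_assoc (a * b), ha2, mul_one]) m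
      rw [inv_inv] at this
      exact this.symm
    have h3 : ((a * b)⁻¹) ^ m = (a * b) * (a * b) ^ m := by
      have h := pow_orderOf_eq_one (a * b)
      rw [hm, two_mul, pow_succ, pow_add] at h
      rw [inv_pow, inv_eq_iff_mul_eq_one, ← mul_assoc, ← pow_succ, ← pow_add,
        show m + 1 + m = m + m + 1 by omega, pow_succ, pow_add]
      exact h
    rw [mul_assoc, h2, h3, ← mul_assoc a g, h1, mul_assoc g b, ← mul_assoc a, ← mul_assoc a a, ha2, one_mul]
  · have h : ((a * b)⁻¹) ^ m = (a * b) ^ m := by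
      rw [inv_pow, inv_eq_iff_mul_eq_one, ← pow_add, ← two_mul, ← hm, pow_orderOf_eq_one]
    show (a * b) ^ m * a = a * (a * b) ^ m
    rw [key _ haw m, h]
  · set v := a * (g * a * g⁻¹) with hv
    have hv' : v = g * (b * a) * g⁻¹ := by simp [hv, hb, mul_assoc]
    have hord : orderOf v = 2 * m := by
      rw [hv', ← MulAut.conj_apply, MulEquiv.orderOf_eq, ← hwinv, orderOf_inv]
      exact hm
    have hc2 : (g * a * g⁻¹) * (g * a * g⁻¹) = 1 := by simp [mul_assoc, ← mul_assoc a a, ha2]
    have hvinv : v⁻¹ = (g * a * g⁻¹) * a := by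
      rw [hv, mul_inv_rev, inv_eq_of_mul_eq_one_right hc2, inv_eq_of_mul_eq_one_right ha2]
    have hav : a * v * a = v⁻¹ := by rw [hvinv, hv, ← mul_assoc, ha2, one_mul]
    have h : (v⁻¹) ^ m = v ^ m := by
      rw [inv_pow, inv_eq_iff_mul_eq_one, ← pow_add, ← two_mul, ← hord, pow_orderOf_eq_one]
    show v ^ m * a = a * v ^ m
    rw [key _ hav m, h]

end Cfsg.Agent.S0442
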