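import Cfsg.Statements.S0445
import Cfsg.Agent.Lib.LinearBlock.Transvection

set_option autoImplicit false
open Cfsg

namespace Cfsg.Agent.S0445

/-- In the special linear group of dimension 5 over the field with two elements, the centraliser of a transvection has order 21504 = 2 ^ 7 · 168 (it is an extension of an extraspecial group of order 2 ^ 7 by the simple group of order 168). -/
theorem result (s : Matrix.SpecialLinearGroup (Fin 5) (ZMod 2)) (hs : (s : Matrix (Fin 5) (Fin 5) (ZMod 2)) = Matrix.transvection 0 1 1) : Nat.card (Subgroup.centralizer ({s} : Set (Matrix.SpecialLinearGroup (Fin 5) (ZMod 2)))) = 21504 := by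
  classical
  let ι' : Matrix.SpecialLinearGroup (Fin 5) (ZMod 2) →* GL (Fin 5) (ZMod 2) := Matrix.SpecialLinearGroup.toGL
  have hinj : Function.Injective ι' := Matrix.SpecialLinearGroup.toGL_injective
  have hsurj : Function.Surjective ι' := fun g => by
    have hd : g.1.det = 1 := by
      have := g.det_ne_zero
      generalize g.1.det = c at this
      revert c; decide
    exact ⟨⟨g.1, hd⟩, Units.ext (Matrix.SpecialLinearGroup.coe_GL_coe_matrix _)⟩
  let e := MulEquiv.ofBijective ι' ⟨hinj, hsurj⟩
  have hN : (Matrix.transvection 0 1 1 : Matrix (Fin 5) (Fin 5) (ZMod 2)) - 1 = Matrix.single 0 1 1 := by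
    simp [Matrix.transvection]
  have ht : Cfsg.IsTransvection ((ι' s : GL (Fin 5) (ZMod 2)) : Matrix (Fin 5) (Fin 5) (ZMod 2)) := by
    show ((s : Matrix (Fin 5) (Fin 5) (ZMod 2)) - 1).rank = 1 ∧ _ * _ = 0
    rw [show ((ι' s : GL (Fin 5) (ZMod 2)) : Matrix (Fin 5) (Fin 5) (ZMod 2)) = s from rfl, hs, hN]
    refine ⟨?_, by decide +kernel⟩
    refine le_antisymm ?_ ?_
    · have h : (Matrix.single 0 1 1 : Matrix (Fin 5) (Fin 5) (ZMod 2)) = Matrix.vecMulVec (Pi.single 0 1) (Pi.single 1 1) := by
        decide +kernel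
      rw [h]
      exact Matrix.rank_vecMulVec_le _ _
    · rw [Nat.one_le_iff_ne_zero]
      intro h0
      rw [Matrix.rank, Submodule.finrank_eq_zero, LinearMap.range_eq_bot] at h0
      have := congrFun (LinearMap.congr_fun h0 (Pi.single 1 1)) 0
      simp [Matrix.mulVecLin_apply] at this
  have h := LBTransv.card_centralizer (k := 3) (n := 5) rfl (ι' s) ht
  have e2 : ↥(Subgroup.centralizer ({s} : Set (Matrix.SpecialLinearGroup (Fin 5) (ZMod 2)))) ≃
      ↥(Subgroup.centralizer ({ι' s} : Set (GL (Fin 5) (ZMod 2)))) :=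
    e.toEquiv.subtypeEquiv fun x => by
      rw [Subgroup.mem_centralizer_singleton_iff, Subgroup.mem_centralizer_singleton_iff]
      show x * s = s * x ↔ ι' x * ι' s = ι' s * ι' x
      rw [← map_mul, ← map_mul, hinj.eq_iff]
  rw [Nat.card_congr e2, h, ZMod.card]
  rfl

end Cfsg.Agent.S0445

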