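import Cfsg.Statements.S0447
import Cfsg.Agent.Lib.Cover.AltEight
import Mathlib.GroupTheory.Transfer
import Mathlib.GroupTheory.SpecificGroups.Dihedral

set_option autoImplicit false
open Cfsg

namespace Cfsg.Agent.S0447

variable {H : Type*} [Group H] [Finite H]

/-- A central subgroup of order two with a retraction from a subgroup of odd index has a complement. -/
theorem exists_complement (hZ : Nat.card (Subgroup.center H) = 2) (P : Subgroup H) (hP : Odd P.index)
    (hZP : Subgroup.center H ≤ P) (φ : ↥P →* ↥(Subgroup.center H))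
    (hφ : ∀ z : ↥(Subgroup.center H), φ ⟨z, hZP z.2⟩ = z) :
    ∃ L : Subgroup H, (Subgroup.center H).IsComplement' L := by
  letI : CommGroup ↥(Subgroup.center H) := { mul_comm := fun a b => Subtype.ext (Subgroup.mem_center_iff.1 b.2 a) }
  let τ : H →* ↥(Subgroup.center H) := MonoidHom.transfer φ
  have hτ : ∀ z : ↥(Subgroup.center H), τ (z : H) = z := fun z => by
    have key : ∀ (k : ℕ) (g₀ : H), g₀⁻¹ * (z : H) ^ k * g₀ ∈ P → g₀⁻¹ * (z : H) ^ k * g₀ = (z : H) ^ k := by
      intro k g₀ _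
      rw [mul_assoc, ← Subgroup.mem_center_iff.1 (pow_mem z.2 k) g₀, inv_mul_cancel_left]
    show MonoidHom.transfer φ (z : H) = z
    rw [MonoidHom.transfer_eq_pow (ϕ := φ) (z : H) key]
    obtain ⟨m, hm⟩ := hP
    have h2 : z ^ 2 = 1 := hZ ▸ pow_card_eq_one'
    calc _ = φ ⟨((z ^ P.index : ↥(Subgroup.center H)) : H), hZP (z ^ P.index).2⟩ := rfl
      _ = z ^ P.index := hφ _
      _ = z := by rw [hm, pow_succ, pow_mul, h2, one_pow, one_mul]
  refine ⟨τ.ker, Subgroup.isComplement'_of_disjoint_and_mul_eq_univ ?_ ?_⟩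
  · rw [Subgroup.disjoint_def]
    intro x hx hx'
    have h := hτ ⟨x, hx⟩
    rw [MonoidHom.mem_ker] at hx'
    exact congrArg Subtype.val (h.symm.trans hx')
  · refine Set.eq_univ_of_forall fun g => ⟨τ g, (τ g).2, (τ g : H)⁻¹ * g, ?_, mul_inv_cancel_left _ _⟩
    show τ ((τ g : H)⁻¹ * g) = 1
    rw [map_mul, map_inv, hτ, inv_mul_cancel]

/-- The hom from the dihedral group. -/
theorem exists_dihedral_hom (k : ℕ) [NeZero k] (a b : H) (ha : a * a = 1) (hb : b * b = 1) (hk : (a * b) ^ k = 1) :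
    ∃ f : DihedralGroup k →* H,
      (∀ i, f (.r i) = (a * b) ^ i.val) ∧ ∀ i, f (.sr i) = a * (a * b) ^ i.val := by
  set r := a * b with hr
  have hadd : ∀ i j : ZMod k, r ^ (i + j).val = r ^ i.val * r ^ j.val := fun i j => by
    rw [← pow_add, ZMod.val_add]
    exact (pow_eq_pow_mod _ hk).symm
  have hinv : ∀ i : ZMod k, r ^ (-i).val = (r ^ i.val)⁻¹ := fun i => eq_inv_of_mul_eq_one_left (by
    rw [← hadd, neg_add_cancel, ZMod.val_zero, pow_zero])
  have hsub : ∀ i j : ZMod k, r ^ (j - i).val = (r ^ i.val)⁻¹ * r ^ j.val := fun i j => by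
    rw [sub_eq_neg_add, hadd, hinv]
  have har : ∀ m : ℕ, r ^ m * a = a * (r ^ m)⁻¹ := by
    intro m
    have hai : a⁻¹ = a := inv_eq_of_mul_eq_one_right ha
    have hbi : b⁻¹ = b := inv_eq_of_mul_eq_one_right hb
    have hc : a * r * a⁻¹ = r⁻¹ := by
      rw [hr, mul_inv_rev, hai, hbi, ← mul_assoc a a b, ha, one_mul]
    rw [← inv_pow, ← hc, conj_pow, hai, ← mul_assoc, ← mul_assoc, ha, one_mul]
  let F : DihedralGroup k → H := fun x => match x with
    | .r i => r ^ i.val
    | .sr i => a * r ^ i.val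
  refine ⟨{ toFun := F
            map_one' := by
              show r ^ (0 : ZMod k).val = 1
              rw [ZMod.val_zero, pow_zero]
            map_mul' := ?_ }, fun i => rfl, fun i => rfl⟩
  rintro (i | i) (j | j)
  · exact hadd i j
  · show a * r ^ (j - i).val = r ^ i.val * (a * r ^ j.val)
    rw [hsub, ← mul_assoc (r ^ i.val), har, mul_assoc]
  · show a * r ^ (i + j).val = a * r ^ i.val * r ^ j.val
    rw [hadd, mul_assoc]
  · show r ^ (j - i).val = a * r ^ i.val * (a * r ^ j.val)
    rw [mul_assoc, ← mul_assoc (r ^ i.val), har, mul_assoc, ← mul_assoc a a, ha, one_mul, hsub]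

/-- The even involutions of degree at most seven are conjugate in the alternating group. -/
theorem invol_conj {n : ℕ} (hn : n ≤ 7) (s t : alternatingGroup (Fin n)) (hs : orderOf s = 2) (ht : orderOf t = 2) :
    ∃ g : alternatingGroup (Fin n), g * s * g⁻¹ = t := by
  have hct : ∀ u : alternatingGroup (Fin n), orderOf u = 2 →
      (u : Equiv.Perm (Fin n)).cycleType = Multiset.replicate 2 2 := fun u hu => by
    haveI : Fact (Nat.Prime 2) := ⟨Nat.prime_two⟩
    have ho : orderOf (u : Equiv.Perm (Fin n)) = 2 := (Subgroup.orderOf_coe u).trans hu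
    obtain ⟨m, hm⟩ := Equiv.Perm.cycleType_prime_order (σ := (u : Equiv.Perm (Fin n))) (ho.symm ▸ Nat.prime_two)
    rw [ho] at hm
    have hsum := Equiv.Perm.sum_cycleType (u : Equiv.Perm (Fin n))
    have hle : (u : Equiv.Perm (Fin n)).support.card ≤ n :=
      (Finset.card_le_univ _).trans (Fintype.card_fin n).le
    have hsign := Equiv.Perm.mem_alternatingGroup.1 u.2
    rw [Equiv.Perm.sign_of_cycleType, hm] at hsign
    rw [hm, Multiset.sum_replicate, smul_eq_mul] at hsum
    have hm2 : m ≤ 2 := by omega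
    interval_cases m
    · exact absurd hsign (by decide)
    · exact hm
    · exact absurd hsign (by decide)
  have hconj : IsConj (s : Equiv.Perm (Fin n)) (t : Equiv.Perm (Fin n)) :=
    Equiv.Perm.isConj_iff_cycleType_eq.2 ((hct s hs).trans (hct t ht).symm)
  obtain ⟨g, hg⟩ := isConj_iff.1 hconj
  by_cases hev : g ∈ alternatingGroup (Fin n)
  · exact ⟨⟨g, hev⟩, Subtype.ext hg⟩
  · have hs1 : (s : Equiv.Perm (Fin n)) ≠ 1 := fun h => by
      rw [show s = 1 from Subtype.ext h, orderOf_one] at hs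
      omega
    obtain ⟨a, ha⟩ : ∃ a, (s : Equiv.Perm (Fin n)) a ≠ a := by
      by_contra h
      push_neg at h
      exact hs1 (Equiv.ext h)
    have hsq : ∀ x, (s : Equiv.Perm (Fin n)) ((s : Equiv.Perm (Fin n)) x) = x := fun x => by
      have h := pow_orderOf_eq_one s
      rw [hs, pow_two] at h
      exact congrArg (fun u : alternatingGroup (Fin n) => (u : Equiv.Perm (Fin n)) x) h
    set w := Equiv.swap a ((s : Equiv.Perm (Fin n)) a)
    have hw : w * (s : Equiv.Perm (Fin n)) * w⁻¹ = (s : Equiv.Perm (Fin n)) := by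
      have h : (s : Equiv.Perm (Fin n)) * w * (s : Equiv.Perm (Fin n))⁻¹ = w := by
        rw [← Equiv.swap_apply_apply, hsq, Equiv.swap_comm]
      rw [mul_inv_eq_iff_eq_mul] at h ⊢
      exact h.symm
    refine ⟨⟨g * w, ?_⟩, Subtype.ext ?_⟩
    · rw [Equiv.Perm.mem_alternatingGroup, map_mul, Equiv.Perm.sign_swap ha.symm]
      rw [Equiv.Perm.mem_alternatingGroup] at hev
      rcases Int.units_eq_one_or (Equiv.Perm.sign g) with h | h
      · exact absurd h hev
      · rw [h]; rfl
    · show g * w * (s : Equiv.Perm (Fin n)) * (g * w)⁻¹ = _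
      rw [mul_inv_rev, ← mul_assoc, mul_assoc g, mul_assoc g, hw, hg]

/-- Witnesses. -/
theorem exists_pair (n : ℕ) (h4 : 4 ≤ n) (hn : n ≤ 7) : ∃ (k c : ℕ) (a b : alternatingGroup (Fin n)),
    0 < k ∧ Nat.card (alternatingGroup (Fin n)) = 2 * k * c ∧ Odd c ∧ a * a = 1 ∧ a ≠ 1 ∧ b * b = 1 ∧ b ≠ 1 ∧
      (a * b) ^ (k / 2) ≠ 1 ∧ (a * b) ^ k = 1 ∧ k = k / 2 * 2 ∧
      (∀ i < k, (a * b) ^ i = 1 → i = 0) ∧ ∀ i < k, a * (a * b) ^ i ≠ 1 := by
  haveI : Nontrivial (Fin n) := Fin.nontrivial_iff_two_le.2 (by omega)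
  have hc : 2 * Nat.card (alternatingGroup (Fin n)) = n.factorial := by
    rw [Nat.card_eq_fintype_card, two_mul_card_alternatingGroup, Fintype.card_perm, Fintype.card_fin]
  interval_cases n
  · rw [show Nat.factorial 4 = 24 from rfl] at hc
    refine ⟨2, 3, ⟨Equiv.swap 0 1 * Equiv.swap 2 3, Equiv.Perm.mem_alternatingGroup.2 (by decide +kernel)⟩,
      ⟨Equiv.swap 0 2 * Equiv.swap 1 3, Equiv.Perm.mem_alternatingGroup.2 (by decide +kernel)⟩, by norm_num,
      by omega, by decide, ?_, ?_, ?_, ?_, ?_, ?_, rfl, ?_, ?_⟩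
    all_goals decide +kernel
  · rw [show Nat.factorial 5 = 120 from rfl] at hc
    refine ⟨2, 15, ⟨Equiv.swap 0 1 * Equiv.swap 2 3, Equiv.Perm.mem_alternatingGroup.2 (by decide +kernel)⟩,
      ⟨Equiv.swap 0 2 * Equiv.swap 1 3, Equiv.Perm.mem_alternatingGroup.2 (by decide +kernel)⟩, by norm_num,
      by omega, by decide, ?_, ?_, ?_, ?_, ?_, ?_, rfl, ?_, ?_⟩
    all_goals decide +kernel
  · rw [show Nat.factorial 6 = 720 from rfl] at hc
    refine ⟨4, 45, ⟨Equiv.swap 0 2 * Equiv.swap 4 5, Equiv.Perm.mem_alternatingGroup.2 (by decide +kernel)⟩,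
      ⟨Equiv.swap 0 1 * Equiv.swap 2 3, Equiv.Perm.mem_alternatingGroup.2 (by decide +kernel)⟩, by norm_num,
      by omega, by decide, ?_, ?_, ?_, ?_, ?_, ?_, rfl, ?_, ?_⟩
    all_goals decide +kernel
  · rw [show Nat.factorial 7 = 5040 from rfl] at hc
    refine ⟨4, 315, ⟨Equiv.swap 0 2 * Equiv.swap 4 5, Equiv.Perm.mem_alternatingGroup.2 (by decide +kernel)⟩,
      ⟨Equiv.swap 0 1 * Equiv.swap 2 3, Equiv.Perm.mem_alternatingGroup.2 (by decide +kernel)⟩, by norm_num,
      by omega, by decide, ?_, ?_, ?_, ?_, ?_, ?_, rfl, ?_, ?_⟩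
    all_goals decide +kernel

/-- No noncentral involution in a nonsplit double cover of small degree. -/
theorem not_noncentral {n : ℕ} (hn : n ≤ 7) (hH : IsNonsplitDoubleCover H (alternatingGroup (Fin n))) (x : H)
    (hx : x * x = 1) (hxZ : x ∉ Subgroup.center H) : False := by
  obtain ⟨hZ, ⟨e⟩, hns⟩ := hH
  let π : H →* alternatingGroup (Fin n) := e.toMonoidHom.comp (QuotientGroup.mk' (Subgroup.center H))
  have hπker : ∀ g, π g = 1 ↔ g ∈ Subgroup.center H := fun g => by
    rw [← QuotientGroup.eq_one_iff g, ← e.map_eq_one_iff]; rfl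
  have hπsurj : Function.Surjective π := e.surjective.comp (QuotientGroup.mk'_surjective _)
  have hcard : Nat.card H = 2 * Nat.card (alternatingGroup (Fin n)) := by
    rw [Subgroup.card_eq_card_quotient_mul_card_subgroup (Subgroup.center H), hZ, Nat.card_congr e.toEquiv, mul_comm]
  have hπx : π x ≠ 1 := fun h => hxZ ((hπker x).1 h)
  have hox : orderOf (π x) = 2 :=
    orderOf_eq_prime (by rw [pow_two, ← map_mul, hx, map_one]) hπx
  by_cases h4 : 4 ≤ n
  · obtain ⟨k, c, a, b, hk0, hc, hodd, ha, ha1, hb, hb1, hk2, hk, hkk, hinj1, hinj2⟩ := exists_pair n h4 hn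
    have hlift : ∀ u : alternatingGroup (Fin n), u * u = 1 → u ≠ 1 → ∀ v : H, π v = u → v * v = 1 := by
      intro u hu hu1 v hv
      obtain ⟨g, hg⟩ := invol_conj hn (π x) u hox (orderOf_eq_prime (by rw [pow_two, hu]) hu1)
      obtain ⟨g', rfl⟩ := hπsurj g
      have hcz : (g' * x * g'⁻¹)⁻¹ * v ∈ Subgroup.center H := (hπker _).1 (by
        rw [map_mul, map_inv, map_mul, map_mul, map_inv, hg, hv, inv_mul_cancel])
      set z := (g' * x * g'⁻¹)⁻¹ * v with hz
      have hz2 : z * z = 1 := by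
        have h := pow_card_eq_one' (x := (⟨z, hcz⟩ : ↥(Subgroup.center H)))
        rw [hZ, pow_two] at h
        exact congrArg Subtype.val h
      rw [show v = g' * x * g'⁻¹ * z by rw [hz, mul_inv_cancel_left], mul_assoc (g' * x * g'⁻¹), ← mul_assoc z,
        ← Subgroup.mem_center_iff.1 hcz (g' * x * g'⁻¹), mul_assoc (g' * x * g'⁻¹) z, hz2, mul_one,
        show g' * x * g'⁻¹ * (g' * x * g'⁻¹) = g' * (x * x) * g'⁻¹ by group, hx, mul_one, mul_inv_cancel]
    obtain ⟨a', ha'⟩ := hπsurj a
    obtain ⟨b', hb'⟩ := hπsurj b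
    haveI : NeZero k := ⟨hk0.ne'⟩
    have hab : (a' * b') ^ k = 1 := by
      rw [hkk, pow_mul, pow_two]
      exact hlift _ (by rw [← pow_two, ← pow_mul, ← hkk, hk]) hk2 _ (by rw [map_pow, map_mul, ha', hb'])
    obtain ⟨f, hfr, hfsr⟩ := exists_dihedral_hom k a' b' (hlift a ha ha1 a' ha') (hlift b hb hb1 b' hb') hab
    have hfinj : ∀ y, f y ∈ Subgroup.center H → y = 1 := by
      intro y hy
      rw [← hπker] at hy
      rcases y with i | i
      · rw [hfr, map_pow, map_mul, ha', hb'] at hy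
        have h := hinj1 _ (ZMod.val_lt i) hy
        rw [(ZMod.val_eq_zero i).1 h]; rfl
      · rw [hfsr, map_mul, map_pow, map_mul, ha', hb'] at hy
        exact absurd hy (hinj2 _ (ZMod.val_lt i))
    let Ψ : DihedralGroup k × ↥(Subgroup.center H) →* H :=
      MonoidHom.noncommCoprod f (Subgroup.center H).subtype fun d z => Subgroup.mem_center_iff.1 z.2 (f d)
    have hΨ : ∀ y, Ψ y = f y.1 * (y.2 : H) := fun y => rfl
    have hΨinj : Function.Injective Ψ := (injective_iff_map_eq_one Ψ).2 fun y hy => by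
      rw [hΨ] at hy
      have h1 : y.1 = 1 := hfinj _ (by rw [eq_inv_of_mul_eq_one_left hy]; exact inv_mem y.2.2)
      rw [h1, map_one, one_mul] at hy
      exact Prod.ext h1 (Subtype.ext hy)
    have hind : Odd Ψ.range.index := by
      have h := Ψ.range.card_mul_index
      rw [← Nat.card_congr (MonoidHom.ofInjective hΨinj).toEquiv, Nat.card_prod, DihedralGroup.nat_card, hZ,
        hcard, hc] at h
      have : Ψ.range.index = c := Nat.eq_of_mul_eq_mul_left (show 0 < 2 * k * 2 by omega) (by rw [h]; ring)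
      rwa [this]
    have hZP : Subgroup.center H ≤ Ψ.range := fun z hz => ⟨(1, ⟨z, hz⟩), by rw [hΨ, map_one, one_mul]⟩
    obtain ⟨L, hL⟩ := exists_complement hZ Ψ.range hind hZP
      ((MonoidHom.snd _ _).comp (MonoidHom.ofInjective hΨinj).symm.toMonoidHom) fun z => by
        have : (MonoidHom.ofInjective hΨinj).symm ⟨(z : H), hZP z.2⟩ = (1, z) := by
          rw [MulEquiv.symm_apply_eq]
          exact Subtype.ext (by rw [MonoidHom.ofInjective_apply, hΨ, map_one, one_mul])
        show ((MonoidHom.ofInjective hΨinj).symm ⟨(z : H), hZP z.2⟩).2 = z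
        rw [this]
    exact hns L hL
  · have hodd : Odd (Nat.card (alternatingGroup (Fin n))) := by
      by_cases h2 : 2 ≤ n
      · haveI : Nontrivial (Fin n) := Fin.nontrivial_iff_two_le.2 h2
        have hc : 2 * Nat.card (alternatingGroup (Fin n)) = n.factorial := by
          rw [Nat.card_eq_fintype_card, two_mul_card_alternatingGroup, Fintype.card_perm, Fintype.card_fin]
        interval_cases n
        · rw [show Nat.factorial 2 = 2 from rfl] at hc; exact ⟨0, by omega⟩
        · rw [show Nat.factorial 3 = 6 from rfl] at hc; exact ⟨1, by omega⟩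
      · haveI : Subsingleton (Fin n) := Fin.subsingleton_iff_le_one.2 (by omega)
        rw [Nat.card_unique]; exact odd_one
    obtain ⟨L, hL⟩ := exists_complement hZ (Subgroup.center H) (by
      rwa [Subgroup.index, Nat.card_congr e.toEquiv]) le_rfl (MonoidHom.id _) fun z => rfl
    exact hns L hL

/-- Involutions in double covers of alternating groups: for n ≤ 7, a finite non-split double cover of the alternating group of degree n has exactly one element of order 2 (the central one); for degree 8 there is a non-split double cover with two distinct involutions. -/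
theorem result : (∀ (n : ℕ) (H : Type) (_ : Group H) (_ : Finite H), n ≤ 7 → Cfsg.IsNonsplitDoubleCover H (alternatingGroup (Fin n)) → ∀ x y : H, orderOf x = 2 → orderOf y = 2 → x = y) ∧ ∃ (H : Type) (_ : Group H) (_ : Finite H), Cfsg.IsNonsplitDoubleCover H (alternatingGroup (Fin 8)) ∧ ∃ x y : H, x ≠ y ∧ orderOf x = 2 ∧ orderOf y = 2 := by
  refine ⟨fun n H _ _ hn hH x y hx hy => ?_, AltEight.exists_double_cover⟩
  have hZ : ∀ u : H, orderOf u = 2 → u ∈ Subgroup.center H := fun u hu => by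
    by_contra h
    refine not_noncentral hn hH u ?_ h
    rw [← pow_two, ← hu, pow_orderOf_eq_one]
  have hx' := hZ x hx
  have hy' := hZ y hy
  have h2 := hH.1
  rw [Nat.card_eq_two_iff' (1 : ↥(Subgroup.center H))] at h2
  obtain ⟨w, -, hw⟩ := h2
  have ex := hw ⟨x, hx'⟩ (fun h => by
    have : x = 1 := congrArg Subtype.val h
    rw [this, orderOf_one] at hx; omega)
  have ey := hw ⟨y, hy'⟩ (fun h => by
    have : y = 1 := congrArg Subtype.val h
    rw [this, orderOf_one] at hy; omega)
  exact congrArg Subtype.val (ex.trans ey.symm)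

end Cfsg.Agent.S0447
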