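import Cfsg.Statements.S0464
import Cfsg.Agent.Lib.Th.DSimple
import Cfsg.Agent.Lib.ThRep.Lower

set_option autoImplicit false
set_option maxRecDepth 100000
open Cfsg

namespace Cfsg.Agent.S0464

/-- Transfer of the group, the subgroup of index `i` and the triality subgroup to the image of an
injective homomorphism. -/
theorem transfer {G M H0 : Type*} [Group G] [Group M] [Group H0] (f : G →* M)
    (hf : Function.Injective f) (hs : IsSimpleGroup G) {c : ℕ} (hc : Nat.card G = c)
    (p : H0 →* G) {i : ℕ} (hidx : p.range.index = i) (D : Subgroup H0) :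
    ∃ e : G ≃* f.range, IsSimpleGroup f.range ∧ Nat.card f.range = c ∧
      (p.range.map e.toMonoidHom).index = i ∧
      D.map (e.toMonoidHom.comp p) ≤ p.range.map e.toMonoidHom := by
  refine ⟨MonoidHom.ofInjective hf, ?_, ?_, ?_, ?_⟩
  · have hn : Nontrivial f.range := (MonoidHom.ofInjective hf).symm.toEquiv.nontrivial
    exact IsSimpleGroup.isSimpleGroup_of_surjective (MonoidHom.ofInjective hf).toMonoidHom
      (MonoidHom.ofInjective hf).surjective
  · exact (Nat.card_congr (MonoidHom.ofInjective hf).symm.toEquiv).trans hc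
  · exact (Subgroup.index_map_of_bijective (f := (MonoidHom.ofInjective hf).toMonoidHom)
      (MonoidHom.ofInjective hf).bijective p.range).trans hidx
  · rintro x ⟨d, -, rfl⟩
    exact ⟨p d, ⟨d, rfl⟩, rfl⟩

/-- The Thompson group exists as a group of 248 × 248 matrices over the field with three elements: a simple subgroup of GL(248, 3) of order 90745943887872000, possessing a subgroup of index 143127000 which contains a simple subgroup of the order of a triality-twisted D4 group. -/
theorem result : ∃ H : Subgroup (GL (Fin 248) (ZMod 3)), Cfsg.IsTh H ∧ ∃ K : Subgroup H, K.index = 143127000 ∧ ∃ L : Subgroup H, L ≤ K ∧ Cfsg.Is3D4 L := by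
  obtain ⟨hc, hf, hp, hidx⟩ := Th.exact_of_range ThRep.hom ThRep.card_range_dvd
  obtain ⟨e, h1, h2, h3, h4⟩ :=
    transfer ThRep.hom hf (Th.isSimple hidx hp) hc Th.psi hidx Th.D0
  exact ⟨ThRep.hom.range, ⟨h1, h2⟩, Th.psi.range.map e.toMonoidHom, h3,
    Th.D0.map (e.toMonoidHom.comp Th.psi), h4, Th.is3D4_of_injective _ (e.injective.comp hp)⟩

end Cfsg.Agent.S0464
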