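import Cfsg.Statements.S0481
-- import your own Cfsg.Agent.* helpers here

set_option autoImplicit false
open Cfsg

namespace Cfsg.Agent.S0481

/-- Large extraspecial subgroups: let z be an involution of a finite group G whose centraliser C contains a normal 2-subgroup Q with centre of order 2 and all squares central, such that every element of G centralising Q lies in Q. Then C contains a Sylow 2-subgroup of G, and any involution of G whose centraliser contains a Sylow 2-subgroup of G is conjugate to z. -/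
theorem result {G : Type*} [Group G] [Finite G] (z : G) (hz : orderOf z = 2) (Q : Subgroup G) (hQC : Q ≤ Subgroup.centralizer ({z} : Set G)) (hQn : ∀ g ∈ Subgroup.centralizer ({z} : Set G), ∀ q ∈ Q, g * q * g⁻¹ ∈ Q) (hQ2 : IsPGroup 2 Q) (hZ : Nat.card (Subgroup.center Q) = 2) (hsq : ∀ x : Q, x ^ 2 ∈ Subgroup.center Q) (hlarge : Subgroup.centralizer (Q : Set G) ≤ Q) : (∃ P : Sylow 2 G, (P : Subgroup G) ≤ Subgroup.centralizer ({z} : Set G)) ∧ ∀ u : G, orderOf u = 2 → (∃ P : Sylow 2 G, (P : Subgroup G) ≤ Subgroup.centralizer ({u} : Set G)) → IsConj z u := by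
  have : Fact (Nat.Prime 2) := ⟨Nat.prime_two⟩
  have hzQ : z ∈ Q := hlarge (Subgroup.mem_centralizer_iff.2 fun q hq =>
    Subgroup.mem_centralizer_singleton_iff.1 (hQC hq))
  have hzc : (⟨z, hzQ⟩ : Q) ∈ Subgroup.center Q := Subgroup.mem_center_iff.2 fun q =>
    Subtype.ext (Subgroup.mem_centralizer_singleton_iff.1 (hQC q.2))
  have hz1 : z ≠ 1 := fun h => by rw [h, orderOf_one] at hz; norm_num at hz
  have hcenter : ∀ q : Q, q ∈ Subgroup.center Q → (q : G) = 1 ∨ (q : G) = z := by
    intro q hq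
    obtain ⟨a, b, hab, hU⟩ := Nat.card_eq_two_iff.1 hZ
    by_contra hne
    push_neg at hne
    have e : ∀ w : Subgroup.center Q, w = a ∨ w = b := fun w => by
      have : w ∈ ({a, b} : Set (Subgroup.center Q)) := hU ▸ Set.mem_univ w
      simpa using this
    rcases e 1 with h1 | h1 <;> rcases e ⟨_, hzc⟩ with h2 | h2 <;> rcases e ⟨q, hq⟩ with h3 | h3 <;>
      first
      | exact hne.1 (congrArg (fun w : Subgroup.center Q => ((w : Q) : G)) (h3.trans h1.symm))
      | exact hne.2 (congrArg (fun w : Subgroup.center Q => ((w : Q) : G)) (h3.trans h2.symm))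
      | exact hz1 (congrArg (fun w : Subgroup.center Q => ((w : Q) : G)) (h2.trans h1.symm))
  obtain ⟨S, hS⟩ := hQ2.exists_le_sylow
  have hsmall : ∀ u : G, u ∈ S → (∀ x ∈ S, x * u = u * x) → u = 1 ∨ u = z := by
    intro u _ hu
    have huQ : u ∈ Q := hlarge (Subgroup.mem_centralizer_iff.2 fun q hq => hu q (hS hq))
    exact hcenter ⟨u, huQ⟩ (Subgroup.mem_center_iff.2 fun q => Subtype.ext (hu q (hS q.2)))
  have hSC : (S : Subgroup G) ≤ Subgroup.centralizer ({z} : Set G) := by
    have : Nontrivial (S : Subgroup G) := ⟨⟨⟨z, hS hzQ⟩, 1, fun h => hz1 (congrArg Subtype.val h)⟩⟩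
    have := S.isPGroup'.center_nontrivial
    obtain ⟨w, hw⟩ := exists_ne (1 : Subgroup.center (S : Subgroup G))
    have hwc : ∀ x ∈ S, x * ((w : (S : Subgroup G)) : G) = ((w : (S : Subgroup G)) : G) * x := fun x hx =>
      congrArg Subtype.val (Subgroup.mem_center_iff.1 w.2 ⟨x, hx⟩)
    rcases hsmall _ (w : (S : Subgroup G)).2 hwc with h | h
    · exact absurd (Subtype.ext (Subtype.ext h)) hw
    · exact fun x hx => Subgroup.mem_centralizer_singleton_iff.2 (h ▸ hwc x hx)
  refine ⟨⟨S, hSC⟩, ?_⟩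
  rintro u hu ⟨R, hR⟩
  obtain ⟨g, hg⟩ := MulAction.exists_smul_eq G R S
  have hu' : ∀ x ∈ S, x * (g * u * g⁻¹) = g * u * g⁻¹ * x := by
    intro x hx
    rw [← hg] at hx
    change x ∈ ((g • R : Sylow 2 G) : Subgroup G) at hx
    rw [Sylow.coe_subgroup_smul] at hx
    obtain ⟨r, hr, rfl⟩ := hx
    have hru : r * u = u * r := Subgroup.mem_centralizer_singleton_iff.1 (hR hr)
    show g * r * g⁻¹ * (g * u * g⁻¹) = g * u * g⁻¹ * (g * r * g⁻¹)
    simp only [mul_assoc, inv_mul_cancel_left]
    rw [← mul_assoc r, hru, mul_assoc]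
  have huS : g * u * g⁻¹ ∈ S := by
    have ho : orderOf (g * u * g⁻¹) = 2 := by rw [← MulAut.conj_apply, MulEquiv.orderOf_eq, hu]
    have hz2 : IsPGroup 2 (Subgroup.zpowers (g * u * g⁻¹)) :=
      IsPGroup.of_card (n := 1) (by rw [Nat.card_zpowers, ho, pow_one])
    have hnorm : Subgroup.zpowers (g * u * g⁻¹) ≤ Subgroup.normalizer ((S : Subgroup G) : Set G) :=
      Subgroup.zpowers_le.2 (Subgroup.centralizer_le_normalizer _ (Subgroup.mem_centralizer_iff.2 hu'))
    have := S.is_maximal' (S.isPGroup'.to_sup_of_normal_left' hz2 hnorm) le_sup_left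
    show g * u * g⁻¹ ∈ (S : Subgroup G)
    rw [← this]
    exact le_sup_right (α := Subgroup G) (Subgroup.mem_zpowers _)
  rcases hsmall _ huS hu' with h | h
  · exfalso
    rw [conj_eq_one_iff] at h
    rw [h, orderOf_one] at hu; norm_num at hu
  · exact ((isConj_iff.2 ⟨g, h⟩ : IsConj u z)).symm

end Cfsg.Agent.S0481
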