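import Cfsg.Statements.S0493
import Cfsg.Agent.Lib.Small.OrderFilter


set_option autoImplicit false
open Cfsg

namespace Cfsg.Agent.S0493

/-- witnesses (prime, exponent) -/
def cert : List (ℕ × ℕ) := [(0, 0),
  (0, 0),
  (2, 1),
  (3, 1),
  (2, 2),
  (5, 1),
  (3, 1),
  (7, 1),
  (2, 3),
  (3, 2),
  (5, 1),
  (11, 1),
  (3, 1),
  (13, 1),
  (7, 1),
  (5, 1),
  (2, 4),
  (17, 1),
  (3, 2),
  (19, 1),
  (5, 1),
  (7, 1),
  (11, 1),
  (23, 1),
  (3, 1),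
  (5, 2),
  (13, 1),
  (3, 3),
  (7, 1),
  (29, 1),
  (5, 1),
  (31, 1),
  (2, 5),
  (11, 1),
  (17, 1),
  (7, 1),
  (3, 2),
  (37, 1),
  (19, 1),
  (13, 1),
  (5, 1),
  (41, 1),
  (7, 1),
  (43, 1),
  (11, 1),
  (5, 1),
  (23, 1),
  (47, 1),
  (3, 1),
  (7, 2),
  (5, 2),
  (17, 1),
  (13, 1),
  (53, 1),
  (3, 3),
  (11, 1),
  (7, 1),
  (19, 1),
  (29, 1),
  (59, 1),
  (0, 0),
  (61, 1),
  (31, 1),
  (7, 1),
  (2, 6),
  (13, 1),
  (11, 1),
  (67, 1),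
  (17, 1),
  (23, 1),
  (7, 1),
  (71, 1),
  (3, 2),
  (73, 1),
  (37, 1),
  (5, 2),
  (19, 1),
  (11, 1),
  (13, 1),
  (79, 1),
  (5, 1),
  (3, 4),
  (41, 1),
  (83, 1),
  (7, 1),
  (17, 1),
  (43, 1),
  (29, 1),
  (11, 1),
  (89, 1),
  (5, 1),
  (13, 1),
  (23, 1),
  (31, 1),
  (47, 1),
  (19, 1),
  (2, 5),
  (97, 1),
  (7, 2),
  (11, 1),
  (5, 2)]

theorem cert_ok : ∀ n < 101, n ≤ 1 ∨ n = 60 ∨
    (Nat.Prime (cert.getD n (0, 0)).1 ∧ Small.excl n (cert.getD n (0, 0)).1 (cert.getD n (0, 0)).2 = true) := by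
  decide +kernel


/-- A finite simple group of order at most 100 that is not cyclic has order 60. -/
theorem result {G : Type*} [Group G] [Finite G] [IsSimpleGroup G]
    (hG : ¬ IsCyclic G) (h : Nat.card G ≤ 100) : Nat.card G = 60 := by
  have hG' : ¬ IsMulCommutative G := fun h => hG (by
    letI : CommGroup G := { (inferInstance : Group G) with mul_comm := fun a b => h.1.1 a b }
    exact inferInstance)
  rcases cert_ok (Nat.card G) (by omega) with h1 | h1 | ⟨hp, he⟩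
  · exfalso
    have := Finite.one_lt_card (α := G)
    omega
  · exact h1
  · exact absurd rfl (Small.card_ne_of_excl hG' hp he)

end Cfsg.Agent.S0493
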