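import Cfsg.Statements.S0499
import Cfsg.Agent.Lib.Transfer.Fusion


set_option autoImplicit false
open Cfsg

namespace Cfsg.Agent.S0499

variable {G : Type*} [Group G] [Finite G]

theorem fixed_modEq {D : Type*} [Group D] [Finite D] {q : ℕ} [hq : Fact q.Prime] (φ : MulAut D)
    (hφ : orderOf φ = q) :
    ∃ f : ℕ, f ∣ Nat.card D ∧ f < Nat.card D ∧ Nat.card D ≡ f [MOD q] := by
  let F : Subgroup D :=
    { carrier := {x | φ x = x}
      one_mem' := map_one φ
      mul_mem' := fun {a b} ha hb => by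
        show φ (a * b) = a * b
        rw [map_mul, show φ a = a from ha, show φ b = b from hb]
      inv_mem' := fun {a} ha => by
        show φ a⁻¹ = a⁻¹
        rw [map_inv, show φ a = a from ha] }
  have hFtop : F ≠ ⊤ := fun h => by
    have h1 : φ = 1 := MulEquiv.ext fun x => (h ▸ Subgroup.mem_top x : x ∈ F)
    rw [h1, orderOf_one] at hφ
    exact hq.out.ne_one hφ.symm
  refine ⟨Nat.card F, F.card_subgroup_dvd_card, ?_, ?_⟩
  · exact lt_of_le_of_ne F.card_le_card_group fun h => hFtop (Subgroup.eq_top_of_card_eq _ h)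
  have hpg : IsPGroup q (Subgroup.zpowers φ) :=
    IsPGroup.of_card (n := 1) (by rw [Nat.card_zpowers, hφ, pow_one])
  have hfix : MulAction.fixedPoints (Subgroup.zpowers φ) D = (F : Set D) := by
    ext x
    constructor
    · intro h
      exact h ⟨φ, Subgroup.mem_zpowers φ⟩
    · rintro hx ⟨m, hm⟩
      obtain ⟨k, rfl⟩ := Subgroup.mem_zpowers_iff.1 hm
      show (φ ^ k) x = x
      have key : ∀ n : ℕ, (φ ^ n) x = x := fun n => by
        induction n with
        | zero => rfl
        | succ n ih => rw [pow_succ, MulAut.mul_apply, show φ x = x from hx, ih]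
      obtain ⟨n, hn⟩ : ∃ n : ℕ, φ ^ k = φ ^ n := by
        classical
        have := (isOfFinOrder_of_finite φ).mem_zpowers_iff_mem_range_orderOf.1
          (Subgroup.mem_zpowers_iff.2 ⟨k, rfl⟩ : φ ^ k ∈ Subgroup.zpowers φ)
        obtain ⟨n, -, hn⟩ := Finset.mem_image.1 this
        exact ⟨n, hn.symm⟩
      rw [hn]
      exact key n
  have h := hpg.card_modEq_card_fixedPoints D
  rw [hfix] at h
  exact h


/-- A non-abelian finite simple group of even order has order divisible by 12, 16 or 56. -/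
theorem result {G : Type*} [Group G] [Finite G] [IsSimpleGroup G]
    (hG : ¬ IsMulCommutative G) (h2 : Even (Nat.card G)) :
    12 ∣ Nat.card G ∨ 16 ∣ Nat.card G ∨ 56 ∣ Nat.card G := by
  haveI : Fact (Nat.Prime 2) := ⟨Nat.prime_two⟩
  by_contra hcon
  push Not at hcon
  obtain ⟨h12, h16, h56⟩ := hcon
  have hNPC : Cfsg.HasNormalPComplement 2 G := by
    refine Fusion.hasNormalPComplement_of_frobenius fun D hD g hg hgo => ?_
    by_contra hgC
    set φ := (D.normalizerMonoidHom) ⟨g, hg⟩ with hφdef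
    have hφ1 : φ ≠ 1 := by
      intro h
      apply hgC
      have h' : (⟨g, hg⟩ : Subgroup.normalizer (D : Set G)) ∈ D.normalizerMonoidHom.ker := h
      rw [Subgroup.normalizerMonoidHom_ker] at h'
      exact h'
    have hdvd : orderOf φ ∣ orderOf g :=
      (orderOf_map_dvd D.normalizerMonoidHom _).trans (by rw [Subgroup.orderOf_mk])
    obtain ⟨q, hqp, hq⟩ := Nat.exists_prime_and_dvd (fun h => hφ1 (orderOf_eq_one_iff.1 h))
    haveI := Fact.mk hqp
    have hqg : q ∣ Nat.card G := hq.trans (hdvd.trans (orderOf_dvd_natCard g))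
    have hq2 : q ≠ 2 := fun h => by
      subst h
      exact (Nat.Prime.coprime_iff_not_dvd Nat.prime_two).1 hgo.symm (hq.trans hdvd)
    obtain ⟨f, hf, hflt, hmod⟩ := fixed_modEq (φ ^ (orderOf φ / q))
      (orderOf_pow_orderOf_div (orderOf_pos φ).ne' hq)
    obtain ⟨k, hk⟩ := IsPGroup.iff_card.1 hD
    have hk3 : k ≤ 3 := by
      by_contra hk4
      exact h16 ((pow_dvd_pow 2 (show 4 ≤ k by omega)).trans (hk ▸ D.card_subgroup_dvd_card))
    have hqsub : q ∣ Nat.card D - f := (Nat.modEq_iff_dvd' hflt.le).1 hmod.symm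
    obtain ⟨j, hjk, rfl⟩ := (Nat.dvd_prime_pow Nat.prime_two).1 (hk ▸ hf)
    rw [hk] at hflt hqsub
    have hdn : 2 ^ k ∣ Nat.card G := hk ▸ D.card_subgroup_dvd_card
    have h2n : 2 ∣ Nat.card G := h2.two_dvd
    have hle : q ≤ 7 := by
      have := Nat.le_of_dvd (Nat.sub_pos_of_lt hflt) hqsub
      have : 2 ^ k ≤ 8 := Nat.pow_le_pow_right (by norm_num) hk3 |>.trans_eq (by norm_num)
      have := Nat.one_le_two_pow (n := j)
      omega
    interval_cases k <;> interval_cases j
    all_goals (try norm_num at hflt)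
    all_goals norm_num at hqsub hdn
    all_goals (interval_cases q <;> norm_num at * <;> omega)
  obtain ⟨N, hN, hNc, k, hk⟩ := PBasic.hasNormalPComplement_iff.1 hNPC
  rcases hN.eq_bot_or_eq_top with rfl | rfl
  · rw [Subgroup.index_bot] at hk
    have hp : IsPGroup 2 G := IsPGroup.of_card hk
    haveI := IsSimpleGroup.toNontrivial (G := G)
    haveI := hp.center_nontrivial
    rcases (inferInstance : (Subgroup.center G).Normal).eq_bot_or_eq_top with h | h
    · exact (Subgroup.nontrivial_iff_ne_bot _).1 ‹_› h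
    · exact hG ⟨⟨fun x y => Subgroup.mem_center_iff.1 (h ▸ Subgroup.mem_top y) x⟩⟩
  · rw [Subgroup.card_top, Nat.coprime_two_right] at hNc
    exact (Nat.not_odd_iff_even.2 h2) hNc

end Cfsg.Agent.S0499
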