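import Cfsg.Statements.S1292
import Cfsg.Agent.Lib.Components.Extended
-- import your own Cfsg.Agent.* helpers here

set_option autoImplicit false
set_option linter.style.haveILetI false
open Cfsg

namespace Cfsg.Agent.S1292

/-- Let G be a finite group such that F*(C_G(t)) = O_2(C_G(t)) for every involution t. Then F*(N_G(T)) = O_2(N_G(T)) for every nontrivial 2-subgroup T of G. -/
theorem result {G : Type*} [Group G] [Finite G] (h : ∀ t : G, orderOf t = 2 → Cfsg.generalizedFittingSubgroup ↥(Subgroup.centralizer ({t} : Set G)) = Cfsg.pCore 2 ↥(Subgroup.centralizer ({t} : Set G))) (T : Subgroup G) (hT : IsPGroup 2 ↥T) (hT1 : T ≠ ⊥) : Cfsg.generalizedFittingSubgroup ↥(Subgroup.normalizer (T : Set G)) = Cfsg.pCore 2 ↥(Subgroup.normalizer (T : Set G)) := by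
  haveI := Fact.mk Nat.prime_two
  haveI : Nontrivial ↥T := (Subgroup.nontrivial_iff_ne_bot _).2 hT1
  haveI : Nontrivial ↥(Subgroup.center ↥T) := hT.center_nontrivial
  obtain ⟨z₀, hz₀⟩ := exists_prime_orderOf_dvd_card' 2 (G := ↥(Subgroup.center ↥T))
    (by
      obtain ⟨k, hk⟩ := (hT.to_subgroup (Subgroup.center ↥T)).exists_card_eq
      rw [hk]
      refine dvd_pow_self 2 ?_
      rintro rfl
      exact (Finite.one_lt_card (α := ↥(Subgroup.center ↥T))).ne' (by rw [hk, pow_zero]))
  set z : G := ((z₀ : ↥T) : G) with hz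
  have hord : orderOf z = 2 := by rw [hz, Subgroup.orderOf_coe, Subgroup.orderOf_coe, hz₀]
  set C := Subgroup.centralizer ({z} : Set G)
  have hTC : T ≤ C := fun t ht => Subgroup.mem_centralizer_singleton_iff.2
    (congrArg Subtype.val (Subgroup.mem_center_iff.1 z₀.2 ⟨t, ht⟩))
  set N := Subgroup.normalizer (T : Set G) with hN
  have hCh := Components.charP_normalizer (Components.generalizedFitting_eq_pCore_iff.1 (h z hord))
    (hT.comap_subtype (H := T) (K := C))
  have e1 : (Subgroup.normalizer ((T.subgroupOf C : Subgroup ↥C) : Set ↥C)).map C.subtype =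
      (C.subgroupOf N).map N.subtype := by
    rw [Subgroup.subgroupOf, Subgroup.subgroupOf, Subgroup.map_comap_eq N.subtype, N.range_subtype]
    ext x
    constructor
    · rintro ⟨y, hy, rfl⟩
      refine ⟨Subgroup.mem_normalizer_iff.2 fun t => ⟨fun ht => ?_, fun ht => ?_⟩, y.2⟩
      · exact ((Subgroup.mem_normalizer_iff.1 hy ⟨t, hTC ht⟩).1 ht :)
      · have hmem : t ∈ C := by
          have := C.mul_mem (C.mul_mem (C.inv_mem y.2) (hTC ht)) y.2
          convert this using 1
          simp [mul_assoc]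
        exact ((Subgroup.mem_normalizer_iff.1 hy ⟨t, hmem⟩).2 ht :)
    · rintro ⟨hx, hxC⟩
      exact ⟨⟨x, hxC⟩, Subgroup.mem_normalizer_iff.2 fun t =>
        Subgroup.mem_normalizer_iff.1 hx (t : G), rfl⟩
  have hM := Components.charP_congr ((Subgroup.equivMapOfInjective _ _ C.subtype_injective).trans
    ((MulEquiv.subgroupCongr e1).trans
      (Subgroup.equivMapOfInjective _ _ N.subtype_injective).symm)) hCh
  haveI hn : (T.subgroupOf N).Normal := Subgroup.normal_in_normalizer
  refine Components.generalizedFitting_eq_pCore_iff.2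
    (Components.charP_of_le (T := T.subgroupOf N) (hT.comap_subtype (H := T) (K := N)) ?_ hM)
  intro x hx
  exact Subgroup.mem_subgroupOf.2 (Subgroup.mem_centralizer_singleton_iff.2
    (congrArg Subtype.val (Subgroup.mem_centralizer_iff.1 hx
      ⟨z, Subgroup.le_normalizer (z₀ : ↥T).2⟩ (z₀ : ↥T).2)).symm)

end Cfsg.Agent.S1292
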