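import Cfsg.Statements.S0504
import Cfsg.Agent.Lib.CoreKill.Dichotomy
import Cfsg.Agent.Lib.SEMain.Proof
import Cfsg.Agent.Lib.SEMain.Consumers
import Cfsg.Agent.Lib.OddChar.OddTheorem
import Cfsg.Agent.S1292

set_option autoImplicit false
set_option linter.style.haveILetI false
open Cfsg

namespace Cfsg.Agent.S0504

/-- Let G be a finite group containing an elementary abelian subgroup of order 8, with no nontrivial normal subgroup of
odd order, not of component type, and with a Sylow 2-subgroup whose commuting graph of Klein four-subgroups is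
connected. Then every 2-local subgroup H of G satisfies C_H(O₂(H)) ≤ O₂(H). -/
theorem result {G : Type*} [Group G] [Finite G]
    (h3 : ¬ Cfsg.PRankLE 2 2 G) (hO : Cfsg.oddCore G = ⊥) (hc : ¬ Cfsg.IsComponentType G) (S : Sylow 2 G)
    (hS : Cfsg.IsFourConnected (S : Subgroup G)) : Cfsg.IsCharacteristicTwoType G := by
  haveI : Fact (Nat.Prime 2) := ⟨Nat.prime_two⟩
  obtain ⟨V, hV⟩ := CoreKill.exists_linked S hS h3
  have hcon : ∀ t : G, orderOf t = 2 → Cfsg.IsPConstrained 2 ↥(Subgroup.centralizer ({t} : Set G)) := by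
    intro t ht
    rw [Components.isPConstrained_iff_pLayer, Components.pLayer_eq_bot_iff]
    refine sSup_eq_bot.2 fun K hK => ?_
    exact absurd ⟨t, ht, K, hK.1, hK.2⟩ hc
  have hsolv : ∀ t : G, orderOf t = 2 → Group.IsSolvable ↥(Cfsg.centralizerPPrimeCore 2 t) := fun t _ =>
    OddChar.oddSolvable _ (Nat.coprime_two_right.1 (Components.centralizerPPrimeCore_props (p := 2) t).2.2)
  have hcore : ∀ t : G, orderOf t = 2 → Cfsg.oddCore ↥(Subgroup.centralizer ({t} : Set G)) = ⊥ := by
    rcases hV.dichotomy hO hcon hsolv with h | ⟨H, hH, hHO⟩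
    · exact h
    · refine absurd ?_ hHO
      exact (Subgroup.map_eq_bot_iff_of_injective _ H.subtype_injective).1
        (le_bot_iff.1 ((SEMain.S1221_of SEMain.stmt hH).trans hO.le))
  have h2 : Even (Nat.card G) := by
    obtain ⟨v, hv, hv1⟩ : ∃ v ∈ V, v ≠ 1 := by
      by_contra! hall
      have := hV.card
      rw [(Subgroup.eq_bot_iff_forall V).2 hall, Subgroup.card_bot] at this
      omega
    rw [even_iff_two_dvd, ← Signalizer.ea_orderOf hV.ea hv hv1]
    exact orderOf_dvd_natCard v
  refine ⟨h2, fun T hT hT1 => ?_⟩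
  refine Components.generalizedFitting_eq_pCore_iff.1 (S1292.result (fun t ht => ?_) T hT hT1)
  refine Components.generalizedFitting_eq_pCore_iff.2 ?_
  have e : Cfsg.pPrimeCore 2 ↥(Subgroup.centralizer ({t} : Set G)) = ⊥ := hcore t ht
  haveI := FittingCores.pPrimeCore_normal (G := ↥(Subgroup.centralizer ({t} : Set G))) 2
  exact Components.charP_congr ((QuotientGroup.quotientMulEquivOfEq e).trans QuotientGroup.quotientBot)
    (Components.isPConstrained_iff_charP.1 (hcon t ht))

end Cfsg.Agent.S0504
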