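import Cfsg.Statements.S0518
import Cfsg.Agent.S2947
import Cfsg.Agent.Lib.JComp.ResidualShape

set_option autoImplicit false
open Cfsg

namespace Cfsg.Agent.S0518

/-- Let G be a finite group of characteristic 2 type with trivial 2-core in which every 2-local subgroup is solvable
and, for every Sylow 2-subgroup S, the centralizer of the set of central involutions of S lies in the normalizer of S.
Then either G has a strongly embedded subgroup, or the subgroup generated by the elements of odd order has two distinct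
maximal 2-local subgroups, each isomorphic to the symmetric group of degree 4, whose intersection has order 8. -/
theorem result {G : Type*} [Group G] [Finite G]
    (hL : Cfsg.IsCharacteristicTwoType G) (hO : Cfsg.pCore 2 G = ⊥)
    (hN : ∀ N : Subgroup G, Cfsg.IsTwoLocal N → Group.IsSolvable N)
    (hZ : ∀ S : Sylow 2 G,
      Subgroup.centralizer {z : G | z ∈ (S : Subgroup G) ∧ z ^ 2 = 1 ∧ ∀ s ∈ (S : Subgroup G), s * z = z * s} ≤
        Subgroup.normalizer ((S : Subgroup G) : Set G))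
    (H : Subgroup G) (hH : H = Subgroup.closure {g : G | Odd (orderOf g)}) :
    (∃ K : Subgroup G, Cfsg.IsStronglyEmbedded K) ∨
      ∃ M₁ M₂ : Subgroup H, M₁ ≠ M₂ ∧ Cfsg.IsMaximalTwoLocal M₁ ∧ Cfsg.IsMaximalTwoLocal M₂ ∧
        Nonempty (M₁ ≃* Equiv.Perm (Fin 4)) ∧ Nonempty (M₂ ≃* Equiv.Perm (Fin 4)) ∧ Nat.card ↥(M₁ ⊓ M₂) = 8 := by
  classical
  have hres : Cfsg.pResidual 2 G = H := by
    rw [hH, Cfsg.pResidual]
    simp only [Nat.coprime_two_right]
  have Z : JComp.ZN G := ⟨hL, hN, fun S => le_trans (Subgroup.centralizer_le fun z hz =>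
    Subgroup.subset_closure ⟨⟨hz.1, Subgroup.mem_centralizer_iff.2 hz.2.2⟩, hz.2.1⟩) (hZ S)⟩
  rcases JComp.se_or_duo Z hO (fun S M hM hMJ hst => ⟨M, (S2947.result hL hN Z.hZ hO S M hM hMJ).2 hst⟩) with
    h | ⟨T, M, K, K₂, w, E, D⟩
  · exact Or.inl h
  subst hres
  refine Or.inr ⟨((K ⊔ T) ⊓ Cfsg.pResidual 2 G).subgroupOf _, ((K₂ ⊔ T) ⊓ Cfsg.pResidual 2 G).subgroupOf _,
    fun h => D.trace_ne E ?_, D.trace_maximal E, D.symm.trace_maximal E, ?_, ?_, ?_⟩
  · have := congrArg (Subgroup.map (Cfsg.pResidual 2 G).subtype) h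
    rwa [Subgroup.map_subgroupOf_eq_of_le inf_le_right, Subgroup.map_subgroupOf_eq_of_le inf_le_right] at this
  · obtain ⟨e⟩ := D.trace_mulEquiv E
    exact ⟨(Subgroup.subgroupOfEquivOfLe inf_le_right).trans e⟩
  · obtain ⟨e⟩ := D.symm.trace_mulEquiv E
    exact ⟨(Subgroup.subgroupOfEquivOfLe inf_le_right).trans e⟩
  · have he : ((K ⊔ T) ⊓ Cfsg.pResidual 2 G).subgroupOf (Cfsg.pResidual 2 G) ⊓
        ((K₂ ⊔ T) ⊓ Cfsg.pResidual 2 G).subgroupOf (Cfsg.pResidual 2 G) =
        (((K ⊔ T) ⊓ Cfsg.pResidual 2 G) ⊓ ((K₂ ⊔ T) ⊓ Cfsg.pResidual 2 G)).subgroupOf (Cfsg.pResidual 2 G) :=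
      (Subgroup.comap_inf _ _ _).symm
    rw [he]
    exact (Nat.card_congr (Subgroup.subgroupOfEquivOfLe (inf_le_left.trans inf_le_right)).toEquiv).trans
      (D.card_trace_inf E)

end Cfsg.Agent.S0518
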