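import Cfsg.Statements.S0520
import Cfsg.Agent.Lib.Classification.ElemAb


set_option autoImplicit false
open Cfsg

namespace Cfsg.Agent.S0520

open scoped Pointwise

variable {G : Type*} [Group G] [Finite G]

/-- adjacency -/
abbrev Adj (A B : Subgroup G) : Prop :=
  IsKleinFour A ∧ IsKleinFour B ∧ ∀ a ∈ A, ∀ b ∈ B, a * b = b * a

theorem four_not_rank {U Q : Subgroup G} (hU : IsKleinFour U) (h : U ≤ Q) : ¬ Cfsg.PRankLE 2 1 Q := by
  intro hr
  obtain ⟨hUe, hUc⟩ := ElemAb.isKleinFour_iff.1 hU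
  have := hr (U.subgroupOf Q)
    (by
      refine ⟨⟨fun x y => Subtype.ext (Subtype.ext ?_)⟩⟩
      exact ElemAb.comm hUe (Subgroup.mem_subgroupOf.1 x.2) (Subgroup.mem_subgroupOf.1 y.2))
    (fun a ha => Subtype.ext (hUe.2 _ (Subgroup.mem_subgroupOf.1 ha)))
  rw [Nat.card_congr (Subgroup.subgroupOfEquivOfLe h).toEquiv, hUc] at this
  norm_num at this

theorem rank_four {Q : Subgroup G} (h : ¬ Cfsg.PRankLE 2 1 Q) : ∃ U, U ≤ Q ∧ IsKleinFour U := by
  simp only [Cfsg.PRankLE] at h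
  push Not at h
  obtain ⟨A, hA, hA2, hAc⟩ := h
  set A' := A.map Q.subtype with hA'
  have hA'e : IsElementaryAbelian 2 A' := by
    haveI := hA
    refine ⟨Subgroup.map_isMulCommutative A _, ?_⟩
    rintro _ ⟨a, ha, rfl⟩
    exact congrArg Subtype.val (hA2 a ha)
  have hc : Nat.card A' = Nat.card A :=
    Nat.card_congr (A.equivMapOfInjective _ Q.subtype_injective).symm.toEquiv
  obtain ⟨n, hn⟩ := ElemAb.card_eq_pow hA'e
  obtain ⟨U, -, hU, hUc⟩ := ElemAb.exists_le_card hA'e bot_le 2 (by rw [Subgroup.card_bot]; norm_num) (by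
    rw [hn]; rw [← hc, hn] at hAc
    exact Nat.pow_le_pow_right (by norm_num) (Nat.pow_lt_pow_iff_right (by norm_num) |>.1 hAc))
  exact ⟨U, hU.trans (Subgroup.map_subtype_le A), ElemAb.isKleinFour_iff.2 ⟨ElemAb.of_le hA'e hU, hUc⟩⟩

theorem four_map {G' : Type*} [Group G'] [Finite G'] (f : G →* G') (hf : Function.Injective f) {U : Subgroup G}
    (hU : IsKleinFour U) : IsKleinFour ↥(U.map f) := by
  obtain ⟨⟨hc, h2⟩, h4⟩ := ElemAb.isKleinFour_iff.1 hU
  haveI := hc
  refine ElemAb.isKleinFour_iff.2 ⟨⟨Subgroup.map_isMulCommutative U _, ?_⟩, ?_⟩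
  · rintro _ ⟨u, hu, rfl⟩; rw [← map_pow, h2 u hu, map_one]
  · rw [← h4]; exact Nat.card_congr (U.equivMapOfInjective f hf).symm.toEquiv

theorem adj_map (g : G) {A B : Subgroup G} (h : Adj A B) :
    Adj (A.map (MulAut.conj g).toMonoidHom) (B.map (MulAut.conj g).toMonoidHom) := by
  refine ⟨four_map _ (MulAut.conj g).injective h.1, four_map _ (MulAut.conj g).injective h.2.1, ?_⟩
  rintro _ ⟨a, ha, rfl⟩ _ ⟨b, hb, rfl⟩
  rw [← map_mul, ← map_mul, h.2.2 a ha b hb]

theorem path_map (g : G) {A B : Subgroup G} (h : Relation.ReflTransGen Adj A B) :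
    Relation.ReflTransGen Adj (A.map (MulAut.conj g).toMonoidHom) (B.map (MulAut.conj g).toMonoidHom) :=
  Relation.ReflTransGen.lift (fun X : Subgroup G => X.map (MulAut.conj g).toMonoidHom) (fun _ _ h => adj_map g h) _ _ h

theorem path_symm {A B : Subgroup G} (h : Relation.ReflTransGen Adj A B) : Relation.ReflTransGen Adj B A := by
  haveI : Std.Symm (Adj (G := G)) := ⟨fun _ _ h => ⟨h.2.1, h.1, fun a ha b hb => (h.2.2 b hb a ha).symm⟩⟩
  exact Std.Symm.symm _ _ h

variable (S : Sylow 2 G) (M : Subgroup G)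

/-- `M` contains the normalisers of the rank-two subgroups of `S`. -/
abbrev Covers : Prop :=
  ∀ Q : Subgroup G, Q ≤ (S : Subgroup G) → (∃ U, U ≤ Q ∧ IsKleinFour U) → Subgroup.normalizer (Q : Set G) ≤ M

variable {S M}

theorem into_conj (hSM : (S : Subgroup G) ≤ M) {P : Subgroup G} (hPM : P ≤ M) (hP : IsPGroup 2 P) :
    ∃ m ∈ M, P.map (MulAut.conj m).toMonoidHom ≤ (S : Subgroup G) := by
  haveI : Fact (Nat.Prime 2) := ⟨Nat.prime_two⟩
  obtain ⟨R, hR⟩ := IsPGroup.exists_le_sylow (G := M) (P := P.subgroupOf M)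
    (hP.of_equiv (Subgroup.subgroupOfEquivOfLe hPM).symm)
  obtain ⟨m, hm⟩ := MulAction.exists_smul_eq M R (S.subtype hSM)
  refine ⟨m, m.2, ?_⟩
  rintro _ ⟨x, hx, rfl⟩
  have h1 : MulAut.conj m • (⟨x, hPM hx⟩ : M) ∈ MulAut.conj m • (R : Subgroup M) :=
    Subgroup.smul_mem_pointwise_smul _ _ _ (hR (Subgroup.mem_subgroupOf.2 hx))
  have h2 : (S.subtype hSM : Subgroup M) = MulAut.conj m • (R : Subgroup M) := by
    rw [← hm, Sylow.coe_subgroup_smul]
  rw [← h2, Sylow.coe_subtype, Subgroup.mem_subgroupOf] at h1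
  exact h1

theorem climb (hSM : (S : Subgroup G) ≤ M) (hM : Covers S M) :
    ∀ k, ∀ T : Subgroup G, IsPGroup 2 T → (∃ U, U ≤ (S : Subgroup G) ⊓ T ∧ IsKleinFour U) →
      Nat.card T - Nat.card ↥((S : Subgroup G) ⊓ T) = k → T ≤ M := by
  haveI : Fact (Nat.Prime 2) := ⟨Nat.prime_two⟩
  intro k
  induction k using Nat.strong_induction_on with
  | _ k ih =>
    intro T hT hU hk
    obtain ⟨U, hUR, hU4⟩ := hU
    set R := (S : Subgroup G) ⊓ T with hRdef
    by_cases hRT : T ≤ (S : Subgroup G)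
    · exact hRT.trans hSM
    haveI : Group.IsNilpotent ↥T := hT.isNilpotent
    have hne : R.subgroupOf T ≠ ⊤ := fun h => hRT ((Subgroup.subgroupOf_eq_top.1 h).trans inf_le_left)
    obtain ⟨x, hxN, hxR⟩ := SetLike.exists_of_lt
      ((Group.normalizerCondition_of_isNilpotent (G := ↥T)) _ (lt_top_iff_ne_top.2 hne))
    set W := T ⊓ Subgroup.normalizer (R : Set G) with hWdef
    have hxW : (x : G) ∈ W := by
      refine ⟨x.2, ?_⟩
      apply Subgroup.mem_normalizer_iff.2
      intro r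
      constructor
      · intro hr
        have := (Subgroup.mem_normalizer_iff.1 hxN ⟨r, hr.2⟩).1 (Subgroup.mem_subgroupOf.2 hr)
        exact Subgroup.mem_subgroupOf.1 this
      · intro hr
        have hrT : r ∈ T := by
          have := mul_mem (mul_mem (inv_mem x.2) hr.2) x.2
          simpa [mul_assoc] using this
        have := (Subgroup.mem_normalizer_iff.1 hxN ⟨r, hrT⟩).2 (Subgroup.mem_subgroupOf.2 hr)
        exact Subgroup.mem_subgroupOf.1 this
    have hRW : R ≤ W := le_inf inf_le_right Subgroup.le_normalizer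
    have hlt : Nat.card R < Nat.card W := by
      refine lt_of_le_of_ne (Subgroup.card_le_of_le hRW) fun h => hxR ?_
      exact Subgroup.mem_subgroupOf.2 ((Subgroup.eq_of_le_of_card_ge hRW h.ge).symm ▸ hxW)
    have hWM : W ≤ M := inf_le_right.trans (hM R inf_le_left ⟨U, hUR, hU4⟩)
    obtain ⟨m, hm, hmW⟩ := into_conj hSM hWM (hT.to_le inf_le_left)
    set T' := T.map (MulAut.conj m).toMonoidHom with hT'
    have hsub : W.map (MulAut.conj m).toMonoidHom ≤ (S : Subgroup G) ⊓ T' :=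
      le_inf hmW (Subgroup.map_mono inf_le_left)
    have hT'M : T' ≤ M := by
      refine ih (Nat.card T' - Nat.card ↥((S : Subgroup G) ⊓ T')) ?_ T' (hT.map _) ⟨U.map (MulAut.conj m).toMonoidHom,
        (Subgroup.map_mono (hUR.trans hRW)).trans hsub, four_map _ (MulAut.conj m).injective hU4⟩ rfl
      rw [TI.Conj.card_map_conj T m]
      have h1 := Subgroup.card_le_of_le hsub
      rw [TI.Conj.card_map_conj W m] at h1
      have h2 := Subgroup.card_le_of_le (inf_le_right : (S : Subgroup G) ⊓ T' ≤ T')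
      rw [TI.Conj.card_map_conj T m] at h2
      omega
    intro t ht
    have := mul_mem (mul_mem (inv_mem hm) (hT'M ⟨t, ht, rfl⟩)) hm
    simpa [mul_assoc] using this

theorem core_top (hSM : (S : Subgroup G) ≤ M) (hM : Covers S M) (hNS : Subgroup.normalizer ((S : Subgroup G) : Set G) ≤ M)
    (hconn : Cfsg.IsFourConnected G) {U₀ : Subgroup G} (hU₀S : U₀ ≤ (S : Subgroup G)) (hU₀ : IsKleinFour U₀) :
    M = ⊤ := by
  haveI : Fact (Nat.Prime 2) := ⟨Nat.prime_two⟩
  have key : ∀ V, Relation.ReflTransGen Adj U₀ V →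
      ∃ m ∈ M, V.map (MulAut.conj m).toMonoidHom ≤ (S : Subgroup G) := by
    intro V h
    induction h with
    | refl => exact ⟨1, one_mem M, by rw [TI.Conj.map_conj_one]; exact hU₀S⟩
    | @tail V W _ hVW ih =>
      obtain ⟨m, hm, hV⟩ := ih
      have hN := hM _ hV ⟨_, le_rfl, four_map _ (MulAut.conj m).injective hVW.1⟩
      have hW : W.map (MulAut.conj m).toMonoidHom ≤ M := by
        refine le_trans ?_ hN
        rw [Subgroup.le_normalizer_iff]
        rintro _ ⟨w, hw, rfl⟩ _ ⟨v, hv, rfl⟩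
        refine ⟨v, hv, ?_⟩
        rw [← map_mul, ← map_inv, ← map_mul, ← hVW.2.2 v hv w hw, mul_inv_cancel_right]
      obtain ⟨m', hm', h'⟩ := into_conj hSM hW ((show IsPGroup 2 ↥W from
        IsPGroup.iff_card.2 ⟨2, (ElemAb.isKleinFour_iff.1 hVW.2.1).2⟩).map _)
      exact ⟨m' * m, mul_mem hm' hm, by rwa [← TI.Conj.map_conj_conj]⟩
  rw [eq_top_iff]
  intro g _
  obtain ⟨m, hm, hmV⟩ := key _ (hconn U₀ (U₀.map (MulAut.conj g).toMonoidHom) hU₀
    (four_map _ (MulAut.conj g).injective hU₀))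
  rw [TI.Conj.map_conj_conj] at hmV
  have hTM : (S : Subgroup G).map (MulAut.conj (m * g)).toMonoidHom ≤ M :=
    climb hSM hM _ _ (S.2.map _) ⟨_, le_inf hmV (Subgroup.map_mono hU₀S), four_map _ (MulAut.conj _).injective hU₀⟩ rfl
  obtain ⟨m', hm', h'⟩ := into_conj hSM hTM (S.2.map _)
  rw [TI.Conj.map_conj_conj] at h'
  have : m' * (m * g) ∈ Subgroup.normalizer ((S : Subgroup G) : Set G) := by
    rw [Subgroup.mem_normalizer_iff_map_conj_eq]
    exact Subgroup.eq_of_le_of_card_ge h' (TI.Conj.card_map_conj _ _).ge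
  have h2 := mul_mem (mul_mem (inv_mem hm) (inv_mem hm')) (hNS this)
  simpa [mul_assoc] using h2

theorem connected_of_top (hS : Cfsg.IsFourConnected (S : Subgroup G)) {U₀ : Subgroup G}
    (hU₀S : U₀ ≤ (S : Subgroup G)) (hU₀ : IsKleinFour U₀)
    (htop : (⨆ Q : {Q : Subgroup G // Q ≤ (S : Subgroup G) ∧ ¬ Cfsg.PRankLE 2 1 Q},
          Subgroup.normalizer ((Q : Subgroup G) : Set G)) = ⊤) : Cfsg.IsFourConnected G := by
  haveI : Fact (Nat.Prime 2) := ⟨Nat.prime_two⟩
  have inS : ∀ U V : Subgroup G, U ≤ (S : Subgroup G) → V ≤ (S : Subgroup G) → IsKleinFour U → IsKleinFour V →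
      Relation.ReflTransGen Adj U V := by
    intro U V hU hV hU4 hV4
    have sub : ∀ X : Subgroup G, X ≤ (S : Subgroup G) → IsKleinFour X →
        IsKleinFour ↥(X.subgroupOf (S : Subgroup G)) := by
      intro X hX hX4
      obtain ⟨⟨hc, h2⟩, h4⟩ := ElemAb.isKleinFour_iff.1 hX4
      refine ElemAb.isKleinFour_iff.2 ⟨⟨⟨⟨fun x y => Subtype.ext (Subtype.ext ?_)⟩⟩,
        fun a ha => Subtype.ext (h2 _ (Subgroup.mem_subgroupOf.1 ha))⟩, ?_⟩
      · exact ElemAb.comm ⟨hc, h2⟩ (Subgroup.mem_subgroupOf.1 x.2) (Subgroup.mem_subgroupOf.1 y.2)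
      · rw [Nat.card_congr (Subgroup.subgroupOfEquivOfLe hX).toEquiv, h4]
    have h := Relation.ReflTransGen.lift (p := Adj (G := G))
      (fun X : Subgroup (S : Subgroup G) => X.map (S : Subgroup G).subtype)
      (fun A B h => by
        refine ⟨four_map _ (S : Subgroup G).subtype_injective h.1, four_map _ (S : Subgroup G).subtype_injective h.2.1, ?_⟩
        rintro _ ⟨a, ha, rfl⟩ _ ⟨b, hb, rfl⟩
        rw [← map_mul, ← map_mul, h.2.2 a ha b hb]) _ _ (hS _ _ (sub U hU hU4) (sub V hV hV4))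
    simpa [Function.onFun, Subgroup.map_subgroupOf_eq_of_le hU, Subgroup.map_subgroupOf_eq_of_le hV] using h
  let H : Subgroup G :=
    { carrier := {g | Relation.ReflTransGen Adj (U₀.map (MulAut.conj g).toMonoidHom) U₀}
      one_mem' := by show Relation.ReflTransGen Adj _ _; rw [TI.Conj.map_conj_one]
      mul_mem' := by
        intro a b ha hb
        show Relation.ReflTransGen Adj _ _
        rw [← TI.Conj.map_conj_conj]
        exact (path_map a hb).trans ha
      inv_mem' := by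
        intro a ha
        show Relation.ReflTransGen Adj _ _
        have h := path_map a⁻¹ ha
        rw [TI.Conj.map_conj_conj, inv_mul_cancel, TI.Conj.map_conj_one] at h
        exact path_symm h }
  have hH : H = ⊤ := by
    rw [eq_top_iff, ← htop, iSup_le_iff]
    rintro ⟨Q, hQS, hQ⟩ g hg
    obtain ⟨U, hUQ, hU⟩ := rank_four hQ
    have hUg : U.map (MulAut.conj g).toMonoidHom ≤ (S : Subgroup G) := by
      refine le_trans ?_ hQS
      rintro _ ⟨u, hu, rfl⟩
      exact (Subgroup.mem_normalizer_iff.1 hg u).1 (hUQ hu)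
    exact (path_map g (inS _ _ hU₀S (hUQ.trans hQS) hU₀ hU)).trans
      (inS _ _ hUg hU₀S (four_map _ (MulAut.conj g).injective hU) hU₀)
  have toU₀ : ∀ V : Subgroup G, IsKleinFour V → Relation.ReflTransGen Adj V U₀ := by
    intro V hV
    obtain ⟨T, hT⟩ := (IsPGroup.iff_card.2 ⟨2, (ElemAb.isKleinFour_iff.1 hV).2⟩ : IsPGroup 2 V).exists_le_sylow
    obtain ⟨g, hg⟩ := MulAction.exists_smul_eq G S T
    have hVS : V.map (MulAut.conj g⁻¹).toMonoidHom ≤ (S : Subgroup G) := by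
      rintro _ ⟨v, hv, rfl⟩
      have h1 : v ∈ ((g • S : Sylow 2 G) : Subgroup G) := by rw [hg]; exact hT hv
      rw [Sylow.coe_subgroup_smul, Subgroup.mem_pointwise_smul_iff_inv_smul_mem] at h1
      simpa using h1
    have h := path_map g (inS _ _ hVS hU₀S (four_map _ (MulAut.conj g⁻¹).injective hV) hU₀)
    rw [TI.Conj.map_conj_conj, mul_inv_cancel, TI.Conj.map_conj_one] at h
    exact h.trans (hH ▸ Subgroup.mem_top g : g ∈ H)
  intro U V hU hV
  exact (toU₀ U hU).trans (path_symm (toU₀ V hV))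


/-- Let G be a finite group of 2-rank at least 2 and S a Sylow 2-subgroup whose commuting graph of Klein four-subgroups is
connected. Then the commuting graph of Klein four-subgroups of G is disconnected if and only if the 2-generated core — the
subgroup generated by the normalizers N_G(Q) of the subgroups Q of S that contain a Klein four-group — is a proper
subgroup of G. -/
theorem result {G : Type*} [Group G] [Finite G] (h2 : ¬ Cfsg.PRankLE 2 1 G)
    (S : Sylow 2 G) (hS : Cfsg.IsFourConnected (S : Subgroup G)) :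
    ¬ Cfsg.IsFourConnected G ↔
      (⨆ Q : {Q : Subgroup G // Q ≤ (S : Subgroup G) ∧ ¬ Cfsg.PRankLE 2 1 Q},
          Subgroup.normalizer ((Q : Subgroup G) : Set G)) ≠ ⊤ := by
  haveI : Fact (Nat.Prime 2) := ⟨Nat.prime_two⟩
  obtain ⟨U₀, hU₀S, hU₀⟩ : ∃ U : Subgroup G, U ≤ (S : Subgroup G) ∧ IsKleinFour U := by
    obtain ⟨A, hA, hA2, hAc⟩ : ∃ A : Subgroup G, IsMulCommutative A ∧ (∀ a ∈ A, a ^ 2 = 1) ∧ 2 ^ 1 < Nat.card A := by
      simp only [Cfsg.PRankLE] at h2; push Not at h2; exact h2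
    obtain ⟨T, hT⟩ := (show IsPGroup 2 A from fun x => ⟨1, Subtype.ext (by simpa using hA2 x x.2)⟩).exists_le_sylow
    obtain ⟨g, rfl⟩ := MulAction.exists_smul_eq G S T
    obtain ⟨n, hn⟩ := ElemAb.card_eq_pow (E := A) ⟨hA, hA2⟩
    obtain ⟨U, -, hUA, hUc⟩ := ElemAb.exists_le_card (E := A) ⟨hA, hA2⟩ bot_le 2
      (by rw [Subgroup.card_bot]; norm_num)
      (by rw [hn] at hAc ⊢; exact Nat.pow_le_pow_right (by norm_num) (Nat.pow_lt_pow_iff_right (by norm_num) |>.1 hAc))
    refine ⟨U.map (MulAut.conj g⁻¹).toMonoidHom, ?_,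
      four_map _ (MulAut.conj g⁻¹).injective (ElemAb.isKleinFour_iff.2 ⟨ElemAb.of_le ⟨hA, hA2⟩ hUA, hUc⟩)⟩
    rintro _ ⟨u, hu, rfl⟩
    have h1 := hT (hUA hu)
    rw [Sylow.coe_subgroup_smul, Subgroup.mem_pointwise_smul_iff_inv_smul_mem] at h1
    simpa using h1
  set M := ⨆ Q : {Q : Subgroup G // Q ≤ (S : Subgroup G) ∧ ¬ Cfsg.PRankLE 2 1 Q},
      Subgroup.normalizer ((Q : Subgroup G) : Set G) with hMdef
  constructor
  · intro hnc htop
    exact hnc (connected_of_top hS hU₀S hU₀ htop)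
  · intro hM hconn
    have hCov : Covers S M := fun Q hQ hU => by
      obtain ⟨U, hUQ, hU4⟩ := hU
      exact le_iSup (fun Q : {Q : Subgroup G // Q ≤ (S : Subgroup G) ∧ ¬ Cfsg.PRankLE 2 1 Q} =>
        Subgroup.normalizer ((Q : Subgroup G) : Set G)) ⟨Q, hQ, four_not_rank hU4 hUQ⟩
    have hNS := hCov (S : Subgroup G) le_rfl ⟨U₀, hU₀S, hU₀⟩
    exact hM (core_top (Subgroup.le_normalizer.trans hNS) hCov hNS hconn hU₀S hU₀)

end Cfsg.Agent.S0520
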