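import Cfsg.Statements.S0521
import Cfsg.Agent.Lib.OddOrder.PStable
import Cfsg.Agent.Lib.OddOrder.OmegaCentral
import Cfsg.Agent.Lib.CharP.AxB

set_option autoImplicit false
set_option linter.style.haveILetI false
open Cfsg

namespace Cfsg.Agent.S0521

open scoped commutatorElement

variable {p : ℕ} [hp : Fact p.Prime]

/-- In an elementary normal factor a `p`-element whose commutators lie in a cyclic normal subgroup of a
Sylow subgroup acts trivially. -/
theorem centralizes_factor {G : Type*} [Group G] [Finite G] (hodd : Odd (Nat.card G)) (hp2 : p ≠ 2)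
    (V : Subgroup G) [V.Normal] (hV : IsPGroup p V)
    (hmin : ∀ N : Subgroup G, N.Normal → N ≤ V → N ≠ ⊥ → N = V)
    (T : Subgroup G) (hT : IsPGroup p T) (hVT : V ≤ T) (hc : IsCyclic ↥⁅T, T⁆) :
    T ≤ Subgroup.centralizer (V : Set G) := by
  classical
  intro a ha
  -- every element of `V` has order dividing `p`
  have hexp : ∀ v ∈ V, v ^ p = 1 := by
    by_cases hV1 : V = ⊥
    · intro v hv; rw [hV1, Subgroup.mem_bot] at hv; rw [hv, one_pow]
    haveI := (Subgroup.nontrivial_iff_ne_bot V).2 hV1
    haveI := hV.center_nontrivial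
    have hZ : (Subgroup.center V).map V.subtype = V := by
      refine hmin _ inferInstance (Subgroup.map_subtype_le _) fun h => ?_
      rw [Subgroup.map_eq_bot_iff_of_injective _ V.subtype_injective] at h
      exact (Subgroup.nontrivial_iff_ne_bot _).1 hV.center_nontrivial h
    have hcomm : ∀ x ∈ V, ∀ y ∈ V, x * y = y * x := by
      intro x hx y hy
      obtain ⟨z, hz, rfl⟩ : x ∈ (Subgroup.center V).map V.subtype := by rw [hZ]; exact hx
      exact congrArg Subtype.val (Subgroup.mem_center_iff.1 hz ⟨y, hy⟩).symm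
    let W : Subgroup G :=
      { carrier := {x | x ∈ V ∧ x ^ p = 1}
        one_mem' := ⟨one_mem _, one_pow p⟩
        mul_mem' := fun {x y} hx hy => ⟨mul_mem hx.1 hy.1, by
          rw [(show Commute x y from hcomm x hx.1 y hy.1).mul_pow, hx.2, hy.2, one_mul]⟩
        inv_mem' := fun {x} hx => ⟨inv_mem hx.1, by rw [inv_pow, hx.2, inv_one]⟩ }
    have hWn : W.Normal := ⟨fun x hx g => ⟨‹V.Normal›.conj_mem x hx.1 g, by
      rw [conj_pow, hx.2, mul_one, mul_inv_cancel]⟩⟩
    have hWV : W = V := by
      refine hmin W hWn (fun x hx => hx.1) fun h => ?_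
      obtain ⟨k, hk, hk'⟩ := hV.nontrivial_iff_card.1 inferInstance
      obtain ⟨x, hx⟩ := exists_prime_orderOf_dvd_card' p (G := V) (hk' ▸ dvd_pow_self p hk.ne')
      have hxW : (x : G) ∈ W :=
        ⟨x.2, by rw [← Subgroup.coe_pow, ← hx, pow_orderOf_eq_one, Subgroup.coe_one]⟩
      rw [h, Subgroup.mem_bot] at hxW
      rw [show x = 1 from Subtype.ext hxW, orderOf_one] at hx
      exact hp.out.ne_one hx.symm
    exact fun v hv => (hWV.ge hv : v ∈ W).2
  refine OddOrder.PStable.mem_centralizer_of_minimal hodd hp2 V hV hmin a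
    (hT.to_le (Subgroup.zpowers_le.2 ha)) fun v hv => ?_
  -- the part of the derived subgroup in `V` has order at most `p`, so it is centralized by `T`
  set U := V ⊓ ⁅T, T⁆ with hU
  have hTT : T ≤ Subgroup.normalizer ((⁅T, T⁆ : Subgroup G) : Set G) := by
    intro g hg
    rw [Subgroup.mem_normalizer_iff_map_conj_eq, Subgroup.map_commutator,
      Subgroup.mem_normalizer_iff_map_conj_eq.1 (Subgroup.le_normalizer hg)]
  have hUn : T ≤ Subgroup.normalizer (U : Set G) :=
    (le_inf Subgroup.le_normalizer_of_normal hTT).trans Subgroup.inf_normalizer_le_normalizer_inf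
  have hUT : U ≤ T := inf_le_left.trans hVT
  haveI := hc
  haveI : IsCyclic U := isCyclic_of_injective (Subgroup.inclusion (inf_le_right : U ≤ ⁅T, T⁆))
    (Subgroup.inclusion_injective _)
  have hUcard : Nat.card U ∣ p := by
    rw [← IsCyclic.exponent_eq_card]
    exact Monoid.exponent_dvd_of_forall_pow_eq_one fun u => Subtype.ext (hexp u u.2.1)
  have hd : ⁅a, v⁆ ∈ U := ⟨by
    rw [commutatorElement_def]
    exact V.mul_mem (‹V.Normal›.conj_mem v hv a) (V.inv_mem hv),
    Subgroup.commutator_mem_commutator ha (hVT hv)⟩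
  rcases (Nat.dvd_prime hp.out).1 hUcard with h | h
  · rw [Subgroup.card_eq_one.1 h, Subgroup.mem_bot] at hd
    rw [hd, mul_one, one_mul]
  · haveI : (U.subgroupOf T).Normal := Subgroup.normal_subgroupOf_of_le_normalizer hUn
    have hle := OddOrder.OmegaCen.le_center_of_prime_card hT (N := U.subgroupOf T) (by
      rw [Nat.card_congr (Subgroup.subgroupOfEquivOfLe hUT).toEquiv, h])
    exact congrArg Subtype.val (Subgroup.mem_center_iff.1 (hle (show (⟨_, hUT hd⟩ : T) ∈ U.subgroupOf T from hd)) ⟨a, ha⟩)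

theorem sylow_le_pCore {G : Type*} [Group G] [Finite G] [Group.IsSolvable G] (hodd : Odd (Nat.card G))
    (hp2 : p ≠ 2) (hO : Cfsg.pPrimeCore p G = ⊥) (S : Sylow p G)
    (hc : IsCyclic ↥⁅(S : Subgroup G), (S : Subgroup G)⁆) : (S : Subgroup G) ≤ Cfsg.pCore p G := by
  classical
  set P := Cfsg.pCore p G with hP
  haveI hPn : P.Normal := FittingCores.pCore_normal p
  have hPp : IsPGroup p P := FittingCores.pCore_isPGroup p
  let K : Subgroup G :=
    { carrier := {x | ∀ W V : Subgroup G, W.Normal → V.Normal → W ≤ V → V ≤ P →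
        (∀ N : Subgroup G, N.Normal → W ≤ N → N ≤ V → N = W ∨ N = V) → ∀ v ∈ V, ⁅x, v⁆ ∈ W}
      one_mem' := fun W V _ _ _ _ _ v _ => by rw [commutatorElement_one_left]; exact one_mem _
      mul_mem' := fun {x y} hx hy W V hW hV h1 h2 h3 v hv => by
        have e : ⁅x * y, v⁆ = ⁅x, y * v * y⁻¹⁆ * ⁅y, v⁆ := by
          simp only [commutatorElement_def]; group
        rw [e]
        exact mul_mem (hx W V hW hV h1 h2 h3 _ (hV.conj_mem v hv y)) (hy W V hW hV h1 h2 h3 v hv)
      inv_mem' := fun {x} hx W V hW hV h1 h2 h3 v hv => by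
        have e : ⁅x⁻¹, v⁆ = (⁅x, x⁻¹ * v * x⁆)⁻¹ := by
          simp only [commutatorElement_def]; group
        rw [e]
        exact inv_mem (hx W V hW hV h1 h2 h3 _ (by simpa using hV.conj_mem v hv x⁻¹)) }
  haveI hKn : K.Normal := ⟨fun x hx g W V hW hV h1 h2 h3 v hv => by
    have e : ⁅g * x * g⁻¹, v⁆ = g * ⁅x, g⁻¹ * v * g⁆ * g⁻¹ := by
      simp only [commutatorElement_def]; group
    rw [e]
    exact hW.conj_mem _ (hx W V hW hV h1 h2 h3 _ (by simpa using hV.conj_mem v hv g⁻¹)) g⟩
  have hSK : (S : Subgroup G) ≤ K := by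
    intro a ha W V hW hV hWV hVP hchief v hv
    haveI := hW
    haveI := hV
    set π := QuotientGroup.mk' W with hπ
    haveI : (V.map π).Normal := hV.map π (QuotientGroup.mk'_surjective W)
    haveI : IsCyclic ↥⁅(S : Subgroup G).map π, (S : Subgroup G).map π⁆ := by
      rw [← Subgroup.map_commutator]
      exact isCyclic_of_surjective (π.subgroupMap ⁅(S : Subgroup G), (S : Subgroup G)⁆)
        (π.subgroupMap_surjective _)
    have hmin : ∀ N : Subgroup (G ⧸ W), N.Normal → N ≤ V.map π → N ≠ ⊥ → N = V.map π := by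
      intro N hN hNV hN1
      have hcm := Subgroup.map_comap_eq_self_of_surjective (QuotientGroup.mk'_surjective W) N
      rcases hchief (N.comap π) (hN.comap π)
          (fun x hx => by
            rw [Subgroup.mem_comap, hπ, QuotientGroup.mk'_apply, (QuotientGroup.eq_one_iff x).2 hx]
            exact one_mem _)
          ((Subgroup.comap_mono hNV).trans (by
            rw [Subgroup.comap_map_eq, hπ, QuotientGroup.ker_mk', sup_eq_left.2 hWV])) with h | h
      · exact absurd (hcm.symm.trans (by rw [h]; exact QuotientGroup.map_mk'_self W)) hN1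
      · exact hcm.symm.trans (by rw [h])
    have hcen := centralizes_factor (hodd.of_dvd_nat W.card_quotient_dvd_card) hp2 (V.map π)
      ((hPp.to_le hVP).map π) hmin ((S : Subgroup G).map π) (S.isPGroup'.map π)
      (Subgroup.map_mono (hVP.trans (FittingCores.pCore_le_sylow S))) inferInstance ⟨a, ha, rfl⟩
    rw [← QuotientGroup.eq_one_iff]
    show π ⁅a, v⁆ = 1
    rw [map_commutatorElement, commutatorElement_eq_one_iff_mul_comm]
    exact (Subgroup.mem_centralizer_iff.1 hcen (π v) ⟨v, hv, rfl⟩).symm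
  have hKp : IsPGroup p K := by
    rw [PBasic.isPGroup_iff_forall_coprime]
    rintro ⟨x, hx⟩ hxc
    rw [Subgroup.orderOf_mk] at hxc
    have key : ∀ n : ℕ, ∀ V : Subgroup G, Nat.card V ≤ n → V.Normal → V ≤ P → ∀ v ∈ V, x * v = v * x := by
      intro n
      induction n with
      | zero => intro V hV; exact absurd hV (Nat.not_le.2 Nat.card_pos)
      | succ n ih =>
        intro V hn hV hVP v hv
        by_cases hV1 : V = ⊥
        · rw [hV1, Subgroup.mem_bot] at hv; rw [hv, mul_one, one_mul]
        obtain ⟨W, -, hW⟩ := Finite.exists_le_maximal (a := (⊥ : Subgroup G))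
          (p := fun W : Subgroup G => W.Normal ∧ W < V) ⟨inferInstance, bot_lt_iff_ne_bot.2 hV1⟩
        obtain ⟨⟨hWn, hWV⟩, hWmax⟩ := hW
        have hcardW : Nat.card W < Nat.card V := lt_of_le_of_ne (Subgroup.card_le_of_le hWV.le)
          fun h => hWV.ne (Subgroup.eq_of_le_of_card_ge hWV.le h.ge)
        have hd := hx W V hWn hV hWV.le hVP (fun N hN h1 h2 => by
          rcases h2.lt_or_eq with h | h
          · exact Or.inl (le_antisymm (hWmax ⟨hN, h⟩ h1) h1)
          · exact Or.inr h) v hv
        have hd' : v⁻¹ * (x * v * x⁻¹) ∈ W := by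
          have e : v⁻¹ * (x * v * x⁻¹) = v⁻¹ * ⁅x, v⁆ * v := by
            simp only [commutatorElement_def]; group
          rw [e]
          simpa using hWn.conj_mem _ hd v⁻¹
        exact Cfsg.Agent.AxB.commute_of_conj_mem (n := orderOf x) (hPp.to_le (hWV.le.trans hVP)) hd'
          (ih W (by omega) hWn (hWV.le.trans hVP) _ hd') (pow_orderOf_eq_one x) hxc.symm
    have hxC : x ∈ Subgroup.centralizer (P : Set G) :=
      Subgroup.mem_centralizer_iff.2 fun v hv => (key _ P le_rfl hPn le_rfl v hv).symm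
    exact Subtype.ext (PBasic.eq_one_of_isPGroup_of_coprime hPp
      (FittingCores.centralizer_pCore_le hp.out hO hxC) hxc)
  exact hSK.trans (FittingCores.le_pCore hKn hKp)

/-- Let X be a finite solvable group of odd order, p a prime and S a Sylow p-subgroup of X whose commutator subgroup is
cyclic. Then the product of the largest normal subgroup of X of order prime to p with S is a normal subgroup of X. -/
theorem result {X : Type*} [Group X] [Finite X] [Group.IsSolvable X]
    (hX : Odd (Nat.card X)) (p : ℕ) [Fact p.Prime] (S : Sylow p X) (hS : IsCyclic (commutator (S : Subgroup X))) :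
    (Cfsg.pPrimeCore p X ⊔ (S : Subgroup X)).Normal := by
  by_cases hp2 : p = 2
  · subst hp2
    have : (S : Subgroup X) = ⊥ := by
      obtain ⟨n, hn⟩ := IsPGroup.iff_card.1 S.isPGroup'
      rcases Nat.eq_zero_or_pos n with rfl | h0
      · exact Subgroup.card_eq_one.1 (by simpa using hn)
      · obtain ⟨k, hk⟩ := hX.of_dvd_nat ((hn ▸ dvd_pow_self 2 h0.ne').trans (S : Subgroup X).card_subgroup_dvd_card)
        omega
    rw [this, sup_bot_eq]
    exact FittingCores.pPrimeCore_normal 2
  haveI := FittingCores.pPrimeCore_normal (G := X) p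
  set O := Cfsg.pPrimeCore p X with hO
  set π := QuotientGroup.mk' O with hπ
  have hsurj := QuotientGroup.mk'_surjective O
  haveI : Group.IsSolvable (X ⧸ O) := Group.isSolvable_of_surjective hsurj
  have hc : IsCyclic ↥⁅((S.mapSurjective hsurj : Sylow p (X ⧸ O)) : Subgroup (X ⧸ O)),
      ((S.mapSurjective hsurj : Sylow p (X ⧸ O)) : Subgroup (X ⧸ O))⁆ := by
    rw [Sylow.coe_mapSurjective, ← Subgroup.map_commutator, ← Subgroup.map_subtype_commutator,
      Subgroup.map_map]
    exact isCyclic_of_surjective ((π.comp (S : Subgroup X).subtype).subgroupMap _)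
      (MonoidHom.subgroupMap_surjective _ _)
  have hle := sylow_le_pCore (hX.of_dvd_nat O.card_quotient_dvd_card) hp2
    (FittingCores.pPrimeCore_quotient_eq_bot p _ rfl) (S.mapSurjective hsurj) hc
  have heq := le_antisymm (FittingCores.pCore_le_sylow (S.mapSurjective hsurj)) hle
  have : O ⊔ (S : Subgroup X) = (Cfsg.pCore p (X ⧸ O)).comap π := by
    rw [heq, Sylow.coe_mapSurjective, Subgroup.comap_map_eq, hπ, QuotientGroup.ker_mk', sup_comm]
  rw [this]
  exact (FittingCores.pCore_normal p).comap π

end Cfsg.Agent.S0521
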