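import Cfsg.Statements.S0522
import Cfsg.Agent.Lib.Classification.Transitivity


set_option autoImplicit false
open Cfsg

namespace Cfsg.Agent.S0522

open scoped Pointwise


/-- Transitivity Theorem (odd-order setting). Let X be a finite group of odd order in which the normalizer of every
nontrivial p-subgroup is solvable, P a Sylow p-subgroup, and B an abelian subgroup of P, normalized by P, with
C_P(B) = B and containing an elementary abelian subgroup of order p^3. Then for every prime q ≠ p, any two q-subgroups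
that are maximal among the q-subgroups normalized by B are conjugate by an element of the centralizer of B. -/
theorem result {X : Type*} [Group X] [Finite X] (hX : Odd (Nat.card X)) (p : ℕ)
    [Fact p.Prime] (hloc : ∀ T : Subgroup X, IsPGroup p T → T ≠ ⊥ → Group.IsSolvable (Subgroup.normalizer (T : Set X)))
    (P : Sylow p X) (B : Subgroup X) (hBP : B ≤ (P : Subgroup X))
    (hBn : ∀ x ∈ (P : Subgroup X), ∀ b ∈ B, x * b * x⁻¹ ∈ B) (hBa : IsMulCommutative B)
    (hBc : (P : Subgroup X) ⊓ Subgroup.centralizer (B : Set X) = B)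
    (hB3 : ∃ E : Subgroup X, E ≤ B ∧ (∀ e ∈ E, e ^ p = 1) ∧ p ^ 3 ≤ Nat.card E)
    (q : ℕ) [Fact q.Prime] (hqp : q ≠ p) (Q₁ Q₂ : Subgroup X)
    (h₁ : IsPGroup q Q₁ ∧ B ≤ Subgroup.normalizer (Q₁ : Set X) ∧
      ∀ R : Subgroup X, IsPGroup q R → B ≤ Subgroup.normalizer (R : Set X) → Q₁ ≤ R → R = Q₁)
    (h₂ : IsPGroup q Q₂ ∧ B ≤ Subgroup.normalizer (Q₂ : Set X) ∧
      ∀ R : Subgroup X, IsPGroup q R → B ≤ Subgroup.normalizer (R : Set X) → Q₂ ≤ R → R = Q₂) :
    ∃ c ∈ Subgroup.centralizer (B : Set X), Q₂ = Q₁.map (MulAut.conj c).toMonoidHom := by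
  obtain ⟨Ex, hEB, hExp, hE3⟩ := hB3
  have hp := (Fact.out : p.Prime)
  have hBp : IsPGroup p B := P.2.to_le hBP
  have hp2 : p ≠ 2 := by
    rintro rfl
    obtain ⟨k, hk⟩ := IsPGroup.iff_card.1 (hBp.to_le hEB)
    rcases k with _ | k
    · rw [hk] at hE3; simp at hE3
    · exact (Nat.not_even_iff_odd.2 hX) (even_iff_two_dvd.2
        ((dvd_pow_self 2 (Nat.succ_ne_zero k)).trans (hk ▸ Ex.card_subgroup_dvd_card)))
  have hcomm : ∀ x ∈ B, ∀ y ∈ B, x * y = y * x := fun x hx y hy =>
    congrArg Subtype.val (mul_comm' (⟨x, hx⟩ : B) ⟨y, hy⟩)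
  have hcent : ∀ y ∈ Subgroup.centralizer (B : Set X), (∃ k, orderOf y = p ^ k) → y ∈ B := by
    rintro y hy ⟨k, hk⟩
    set N := Subgroup.normalizer (B : Set X) with hN
    have hyN : Subgroup.zpowers y ≤ N :=
      (Subgroup.zpowers_le.2 hy).trans (Subgroup.centralizer_le_normalizer _)
    have hPN : (P : Subgroup X) ≤ N := fun x hx => by
      rw [hN, Subgroup.mem_normalizer_iff]
      intro b
      refine ⟨hBn x hx b, fun hb => ?_⟩
      have := hBn x⁻¹ (inv_mem hx) _ hb
      simpa [mul_assoc] using this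
    set Q := B ⊔ Subgroup.zpowers y with hQdef
    have hQ : IsPGroup p Q :=
      hBp.to_sup_of_normal_left' (IsPGroup.of_card (n := k) (by rw [Nat.card_zpowers, hk])) hyN
    have hQN : Q ≤ N := sup_le Subgroup.le_normalizer hyN
    have hQC : Q ≤ Subgroup.centralizer (B : Set X) :=
      sup_le (fun a ha => Subgroup.mem_centralizer_iff.2 fun b hb => hcomm b hb a ha)
        (Subgroup.zpowers_le.2 hy)
    obtain ⟨P', hP'⟩ := (hQ.comap_subtype (K := N)).exists_le_sylow
    obtain ⟨n, hn⟩ := MulAction.exists_smul_eq N P' (P.subtype hPN)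
    have hmap : Q.map (MulAut.conj (n : X)).toMonoidHom ≤ B := by
      rintro _ ⟨a, ha, rfl⟩
      rw [← hBc]
      refine ⟨?_, Subgroup.mem_centralizer_iff.2 fun b hb => ?_⟩
      · have h1 : MulAut.conj n ⟨a, hQN ha⟩ ∈ (P.subtype hPN : Subgroup N) := by
          rw [← hn, Sylow.coe_subgroup_smul, Subgroup.mem_pointwise_smul_iff_inv_smul_mem]
          simpa [mul_assoc] using hP' (show (⟨a, hQN ha⟩ : N) ∈ Q.subgroupOf N from ha)
        exact h1
      · have hb' := (Subgroup.mem_normalizer_iff''.1 n.2 b).1 hb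
        have h := Subgroup.mem_centralizer_iff.1 (hQC ha) _ hb'
        show b * ((n : X) * a * (n : X)⁻¹) = (n : X) * a * (n : X)⁻¹ * b
        calc b * ((n : X) * a * (n : X)⁻¹) = n * (((n : X)⁻¹ * b * n) * a) * (n : X)⁻¹ := by group
          _ = _ := by rw [h]; group
    have hle : Nat.card Q ≤ Nat.card B := by
      have := Subgroup.card_le_of_le hmap
      rwa [Subgroup.card_map_of_injective (MulAut.conj (n : X)).injective] at this
    exact (Subgroup.eq_of_le_of_card_ge (le_sup_left : B ≤ Q) hle).symm ▸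
      Subgroup.mem_sup_right (Subgroup.mem_zpowers y)
  refine CTransitivity.transitivity hBp hEB hExp hE3 hqp (fun b hb hb1 => ?_) h₁ h₂
  set H := Subgroup.centralizer ({b} : Set X) with hH
  haveI : Group.IsSolvable H := by
    haveI := hloc (Subgroup.zpowers b) (hBp.to_le (Subgroup.zpowers_le.2 (hEB hb)))
      (fun h => hb1 (Subgroup.zpowers_eq_bot.1 h))
    refine SolvBasic.isSolvable_of_le (K := Subgroup.normalizer (Subgroup.zpowers b : Set X)) ?_
    refine le_trans ?_ (Subgroup.centralizer_le_normalizer _)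
    rw [hH]
    intro g hg
    rw [Subgroup.mem_centralizer_iff]
    intro a ha
    obtain ⟨k, rfl⟩ := Subgroup.mem_zpowers_iff.1 ha
    exact ((show Commute g b from Subgroup.mem_centralizer_singleton_iff.1 hg).zpow_right k).eq.symm
  have hBH : B ≤ H := fun a ha => Subgroup.mem_centralizer_singleton_iff.2 (hcomm a ha b (hEB hb))
  refine ⟨(Cfsg.pPrimeCore p H).map H.subtype, ?_, ?_, fun U hU hBU hUH => ?_⟩
  · rw [Subgroup.card_map_of_injective H.subtype_injective]
    exact FittingCores.pPrimeCore_coprime p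
  · refine fun a ha => ?_
    haveI := FittingCores.pPrimeCore_normal p (G := H)
    rw [Subgroup.mem_normalizer_iff]
    intro x
    constructor
    · rintro ⟨w, hw, rfl⟩
      exact ⟨_, Subgroup.Normal.conj_mem inferInstance w hw ⟨a, hBH ha⟩, rfl⟩
    · rintro ⟨w, hw, hwe⟩
      refine ⟨_, Subgroup.Normal.conj_mem inferInstance w hw (⟨a, hBH ha⟩⁻¹), ?_⟩
      have hwe' : (w : X) = a * x * a⁻¹ := hwe
      simp [hwe', mul_assoc]
  · have key : U.subgroupOf H ≤ Cfsg.pPrimeCore p H := by
      refine CTransitivity.le_pPrimeCore_of_invariant hp2 (A := B.subgroupOf H)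
        (hBp.of_equiv (Subgroup.subgroupOfEquivOfLe hBH).symm) (fun y hy hyp => ?_) ?_ ?_
      · refine Subgroup.mem_subgroupOf.2 (hcent y ?_ ?_)
        · exact Subgroup.mem_centralizer_iff.2 fun a ha =>
            congrArg Subtype.val (Subgroup.mem_centralizer_iff.1 hy ⟨a, hBH ha⟩ (Subgroup.mem_subgroupOf.2 ha))
        · rwa [Subgroup.orderOf_coe]
      · rw [Nat.card_congr (Subgroup.subgroupOfEquivOfLe hUH).toEquiv]
        obtain ⟨j, hj⟩ := IsPGroup.iff_card.1 hU
        rw [hj]
        exact ((Nat.coprime_primes (Fact.out : q.Prime) hp).2 hqp).pow_left j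
      · intro a ha
        rw [Subgroup.mem_normalizer_iff]
        intro x
        simp only [Subgroup.mem_subgroupOf, Subgroup.coe_mul, Subgroup.coe_inv]
        exact Subgroup.mem_normalizer_iff.1 (hBU (Subgroup.mem_subgroupOf.1 ha)) x
    exact fun u hu => ⟨⟨u, hUH hu⟩, key (Subgroup.mem_subgroupOf.2 hu), rfl⟩

end Cfsg.Agent.S0522
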