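import Cfsg.Statements.S0532
import Cfsg.Agent.Lib.Solvable.Supersolvable
import Mathlib.GroupTheory.IndexNormal

set_option autoImplicit false
open scoped Pointwise commutatorElement
open Cfsg

namespace Cfsg.Agent.S0532

/-- If each subgroup of a finite group satisfies the converse of Lagrange's theorem, then a Sylow subgroup for the largest prime dividing the group order is normal. -/
theorem result {G : Type*} [Group G] [Finite G] (h : ∀ H : Subgroup G, Cfsg.HasSubgroupOfEveryOrder H) (p : ℕ) [Fact p.Prime] (hdvd : p ∣ Nat.card G) (hmax : ∀ q : ℕ, q.Prime → q ∣ Nat.card G → q ≤ p) (P : Sylow p G) : (P : Subgroup G).Normal := by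
  induction hc : Nat.card G using Nat.strong_induction_on generalizing G with
  | _ n ih =>
  subst hc
  have hp : p.Prime := Fact.out
  by_cases hpg : IsPGroup p G
  · have : (P : Subgroup G) = ⊤ := P.is_maximal' (Q := ⊤) (hpg.to_subgroup ⊤) le_top |>.symm
    rw [this]; infer_instance
  have hone : Nat.card G ≠ 1 := fun h1 => hp.not_dvd_one (h1 ▸ hdvd)
  set q := (Nat.card G).minFac with hqdef
  have hq : q.Prime := Nat.minFac_prime hone
  have hqp : q < p := by
    refine lt_of_le_of_ne (Nat.minFac_le_of_dvd hp.two_le hdvd) fun hqp => hpg ?_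
    have h1 := Nat.eq_prime_pow_of_unique_prime_dvd (n := Nat.card G) (p := p) Nat.card_pos.ne'
      fun {d} hd hdd => le_antisymm (hmax d hd hdd) (hqp ▸ Nat.minFac_le_of_dvd hd.two_le hdd)
    exact IsPGroup.of_card h1
  obtain ⟨T, hT⟩ := h ⊤ (Nat.card G / q)
    (by rw [Subgroup.card_top]; exact Nat.div_dvd_of_dvd (Nat.minFac_dvd _))
  set M := T.map (⊤ : Subgroup G).subtype with hMdef
  have hM : Nat.card M = Nat.card G / q := by
    rw [hMdef, Nat.card_congr (T.equivMapOfInjective _ Subtype.val_injective).toEquiv.symm, hT]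
  have hMi : M.index = q := by
    have h1 := M.index_mul_card
    rw [hM] at h1
    refine Nat.eq_of_mul_eq_mul_right (Nat.div_pos (Nat.minFac_le Nat.card_pos) hq.pos) ?_
    rw [h1, Nat.mul_div_cancel' (Nat.minFac_dvd _)]
  have hMn : M.Normal := Subgroup.normal_of_index_eq_minFac_card hMi
  have hMlt : Nat.card M < Nat.card G := by
    rw [hM]; exact Nat.div_lt_self Nat.card_pos hq.one_lt
  have hPM : (P : Subgroup G) ≤ M := by
    intro x hx
    have h1 : orderOf (QuotientGroup.mk' M x) ∣ orderOf x := orderOf_map_dvd _ _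
    have h2 : orderOf (QuotientGroup.mk' M x) ∣ q := hMi ▸ orderOf_dvd_natCard _
    obtain ⟨k, hk⟩ := P.isPGroup' ⟨x, hx⟩
    have h3 : orderOf x ∣ p ^ k := orderOf_dvd_of_pow_eq_one (congrArg Subtype.val hk)
    have h4 := Nat.eq_one_of_dvd_coprimes
      (((Nat.coprime_primes hq hp).2 hqp.ne).pow_right k) h2 (h1.trans h3)
    exact (QuotientGroup.eq_one_iff x).1 (orderOf_eq_one_iff.1 h4)
  have hpM : p ∣ Nat.card M := by
    rw [← M.card_mul_index, hMi] at hdvd
    exact ((Nat.coprime_primes hp hq).2 hqp.ne').dvd_of_dvd_mul_right hdvd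
  have hsub : ∀ H : Subgroup M, Cfsg.HasSubgroupOfEveryOrder H := by
    intro H d hd
    let e := H.equivMapOfInjective M.subtype M.subtype_injective
    obtain ⟨K, hK⟩ := h (H.map M.subtype) d (by rwa [← Nat.card_congr e.toEquiv])
    exact ⟨K.map e.symm.toMonoidHom, by
      rw [Nat.card_congr (K.equivMapOfInjective _ e.symm.injective).toEquiv.symm, hK]⟩
  have hn := ih _ hMlt hsub hpM
    (fun r hr hrd => hmax r hr (hrd.trans M.card_subgroup_dvd_card)) (P.subtype hPM) rfl
  have hch := Sylow.characteristic_of_normal _ hn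
  rw [Sylow.coe_subtype] at hch
  have := Cfsg.Agent.FittingCores.normal_map_of_characteristic hMn hch
  rwa [Subgroup.map_subgroupOf_eq_of_le hPM] at this

end Cfsg.Agent.S0532
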