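import Cfsg.Statements.S0533
import Cfsg.Agent.Lib.Solvable.Huppert
import Cfsg.Agent.S0532
import Cfsg.Agent.Lib.Solvable.NilpotentFrattini
import Cfsg.Agent.Lib.Solvable.SupersolvableCriteria

set_option autoImplicit false
open scoped Pointwise commutatorElement
open Cfsg

namespace Cfsg.Agent.S0533

/-- If every subgroup of a finite group has subgroups of all orders dividing its order, then the group is supersolvable. -/
theorem result {G : Type*} [Group G] [Finite G] (h : ∀ H : Subgroup G, Cfsg.HasSubgroupOfEveryOrder H) : Cfsg.IsSupersolvable G := by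
  induction hc : Nat.card G using Nat.strong_induction_on generalizing G with
  | _ n ih =>
  subst hc
  rcases subsingleton_or_nontrivial G with hG | hG
  · exact Cfsg.Agent.SupSolv.of_subsingleton
  have hproper : ∀ L : Subgroup G, Nat.card L < Nat.card G → Cfsg.IsSupersolvable L := by
    intro L hL
    refine ih _ hL (fun H d hd => ?_) rfl
    let e := H.equivMapOfInjective L.subtype L.subtype_injective
    obtain ⟨K, hK⟩ := h (H.map L.subtype) d (by rwa [← Nat.card_congr e.toEquiv])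
    exact ⟨K.map e.symm.toMonoidHom, by
      rw [Nat.card_congr (K.equivMapOfInjective _ e.symm.injective).toEquiv.symm, hK]⟩
  have hne : (Nat.card G).primeFactors.Nonempty := Nat.nonempty_primeFactors.2 Finite.one_lt_card
  set p := (Nat.card G).primeFactors.max' hne
  obtain ⟨hp, hpd, -⟩ := Nat.mem_primeFactors.1 ((Nat.card G).primeFactors.max'_mem hne)
  have : Fact p.Prime := ⟨hp⟩
  obtain ⟨P⟩ := (inferInstance : Nonempty (Sylow p G))
  have hPn : (P : Subgroup G).Normal := Cfsg.Agent.S0532.result h p hpd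
    (fun q hq hqd => Finset.le_max' _ _ (Nat.mem_primeFactors.2 ⟨hq, hqd, Nat.card_pos.ne'⟩)) P
  have hPne : (P : Subgroup G) ≠ ⊥ := P.ne_bot_of_dvd_card hpd
  have hPc : 1 < Nat.card (P : Subgroup G) := (Subgroup.one_lt_card_iff_ne_bot _).2 hPne
  have hn : ∀ X : Subgroup G, X ≤ Subgroup.normalizer ((P : Subgroup G) : Set G) := fun X => by
    rw [Subgroup.normalizer_eq_top]; exact le_top
  by_cases hPtop : (P : Subgroup G) = ⊤
  · have hpg : IsPGroup p G := fun g => by
      obtain ⟨k, hk⟩ := P.isPGroup' ⟨g, hPtop ▸ Subgroup.mem_top g⟩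
      exact ⟨k, congrArg Subtype.val hk⟩
    have := hpg.isNilpotent
    exact Cfsg.Agent.SupSolv.of_nilpotent
  refine Cfsg.Agent.SupSolv.huppert fun M hM => ?_
  by_cases hPM : (P : Subgroup G) ≤ M
  · obtain ⟨Q, hQ⟩ := Subgroup.exists_right_complement'_of_coprime (N := (P : Subgroup G)) (by
      obtain ⟨k, hk⟩ := P.isPGroup'.exists_card_eq
      rw [hk]; exact (hp.coprime_iff_not_dvd.2 P.not_dvd_index).pow_left k)
    have hQlt : Nat.card Q < Nat.card G := by
      rw [← hQ.card_mul]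
      exact lt_mul_of_one_lt_left Nat.card_pos hPc
    have hsur : Function.Surjective ((QuotientGroup.mk' (P : Subgroup G)).comp Q.subtype) := by
      intro y
      obtain ⟨g, rfl⟩ := QuotientGroup.mk'_surjective _ y
      obtain ⟨⟨x, u⟩, rfl⟩ := hQ.2 g
      refine ⟨u, ?_⟩
      change QuotientGroup.mk' _ (u : G) = QuotientGroup.mk' _ ((x : G) * u)
      have h0 : QuotientGroup.mk' (P : Subgroup G) x = 1 := (QuotientGroup.eq_one_iff _).2 x.2
      rw [map_mul, h0, one_mul]
    have hss := Cfsg.Agent.SupSolv.of_surjective hsur (hproper Q hQlt)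
    have hmk := QuotientGroup.mk'_surjective (P : Subgroup G)
    have hker : (QuotientGroup.mk' (P : Subgroup G)).ker ≤ M := by rwa [QuotientGroup.ker_mk']
    rw [← Subgroup.index_map_eq M hmk hker]
    refine Cfsg.Agent.SupSolv.index_coatom_prime hss _ ⟨fun h0 => hM.1 ?_, fun B hB => ?_⟩
    · rw [← Subgroup.comap_map_eq_self hker, h0, Subgroup.comap_top]
    · have := hM.2 (B.comap (QuotientGroup.mk' _)) (lt_of_le_of_lt (Subgroup.le_comap_map _ M)
        ((Subgroup.comap_lt_comap_of_surjective hmk).2 hB))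
      rw [← Subgroup.map_comap_eq_self_of_surjective hmk B, this,
        Subgroup.map_top_of_surjective _ hmk]
  have := P.isPGroup'.isNilpotent
  have htopPM : (P : Subgroup G) ⊔ M = ⊤ := hM.2 _ (right_lt_sup.2 hPM)
  set M0 := (P : Subgroup G) ⊓ M with hM0
  have hcomm : ∀ x ∈ (P : Subgroup G), ∀ y ∈ (P : Subgroup G), ⁅x, y⁆ ∈ M := fun x hx y hy =>
    ((Cfsg.Agent.SolvStruct.le_frattini_of_le_map_frattini
        (Cfsg.Agent.FittingCores.normal_map_of_characteristic hPn inferInstance) le_rfl).trans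
        (frattini_le_coatom hM))
      ⟨⁅(⟨x, hx⟩ : (P : Subgroup G)), ⟨y, hy⟩⁆, Cfsg.Agent.SolvStruct.commutator_le_frattini _
        (Subgroup.commutator_mem_commutator (Subgroup.mem_top _) (Subgroup.mem_top _)),
        map_commutatorElement _ _ _⟩
  have hnormal : ∀ Y : Subgroup G, Y ≤ (P : Subgroup G) →
      (∀ x ∈ (P : Subgroup G), ∀ y ∈ (P : Subgroup G), ⁅x, y⁆ ∈ Y) →
      ∀ x ∈ (P : Subgroup G), x ∈ Subgroup.normalizer (Y : Set G) := by
    intro Y hY hYc x hx
    rw [Cfsg.Agent.SolvBasic.mem_normalizer_iff_conjSmul]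
    refine Subgroup.eq_of_le_of_card_ge (fun z hz => ?_) (Cfsg.Agent.SolvBasic.card_conjSmul x Y).ge
    rw [Cfsg.Agent.SolvBasic.mem_conjSmul] at hz
    have h1 := Y.mul_mem (hYc x hx _ (hY hz)) hz
    simpa [commutatorElement_def, mul_assoc] using h1
  have hM0c : ∀ x ∈ (P : Subgroup G), ∀ y ∈ (P : Subgroup G), ⁅x, y⁆ ∈ M0 := fun x hx y hy => by
    refine Subgroup.mem_inf.2 ⟨?_, hcomm x hx y hy⟩
    rw [commutatorElement_def]
    exact (P : Subgroup G).mul_mem ((P : Subgroup G).mul_mem ((P : Subgroup G).mul_mem hx hy)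
      ((P : Subgroup G).inv_mem hx)) ((P : Subgroup G).inv_mem hy)
  have hmem : ∀ g : G, ∃ x ∈ (P : Subgroup G), ∃ m ∈ M, g = x * m := fun g =>
    (Cfsg.Agent.SolvBasic.mem_sup_iff_of_le_normalizer (hn M)).1 (htopPM ▸ Subgroup.mem_top g)
  have hM0n : M0.Normal := by
    rw [← Subgroup.normalizer_eq_top_iff, eq_top_iff, ← htopPM]
    refine sup_le (hnormal M0 inf_le_left hM0c) fun m hm => ?_
    rw [Cfsg.Agent.SolvBasic.mem_normalizer_iff_conjSmul, hM0, Subgroup.smul_inf,
      Cfsg.Agent.SolvBasic.conjSmul_eq_self_of_mem_normalizer (hn M hm),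
      Cfsg.Agent.SolvBasic.conjSmul_eq_self_of_mem_normalizer (Subgroup.le_normalizer hm)]
  have hM0M : (M0.subgroupOf M).Normal := hM0n.comap M.subtype
  have hMcard : Nat.card M = Nat.card M0 * (P : Subgroup G).index := by
    have h1 := Cfsg.Agent.SolvBasic.card_sup_mul_card_inf (hn M)
    rw [htopPM, Subgroup.card_top, ← (P : Subgroup G).card_mul_index, ← hM0] at h1
    exact (Nat.eq_of_mul_eq_mul_left (Nat.card_pos (α := (P : Subgroup G)))
      (by rw [← h1]; ring)).symm
  have hidxM0 : (M0.subgroupOf M).index = (P : Subgroup G).index := by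
    have h1 := (M0.subgroupOf M).card_mul_index
    rw [Nat.card_congr (Subgroup.subgroupOfEquivOfLe (inf_le_right : M0 ≤ M)).toEquiv, hMcard] at h1
    exact Nat.eq_of_mul_eq_mul_left Nat.card_pos h1
  obtain ⟨Q0, hQ0⟩ := Subgroup.exists_right_complement'_of_coprime (N := M0.subgroupOf M) (by
    rw [hidxM0, Nat.card_congr (Subgroup.subgroupOfEquivOfLe (inf_le_right : M0 ≤ M)).toEquiv]
    obtain ⟨k, hk⟩ := (P.isPGroup'.to_le (inf_le_left : M0 ≤ _)).exists_card_eq
    rw [hk]; exact (hp.coprime_iff_not_dvd.2 P.not_dvd_index).pow_left k)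
  set Q := Q0.map M.subtype with hQdef
  have hQc : Nat.card Q = (P : Subgroup G).index := by
    rw [hQdef, Nat.card_congr (Q0.equivMapOfInjective _ M.subtype_injective).toEquiv.symm,
      ← hQ0.symm.index_eq_card, hidxM0]
  have hQM : Q ≤ M := Subgroup.map_subtype_le _
  have hPQ : (P : Subgroup G) ⊓ Q = ⊥ := by
    refine Subgroup.eq_bot_of_card_eq _ ?_
    obtain ⟨k, hk⟩ := P.isPGroup'.exists_card_eq
    exact Nat.eq_one_of_dvd_coprimes ((hp.coprime_iff_not_dvd.2 P.not_dvd_index).pow_left k)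
      (hk ▸ Subgroup.card_dvd_of_le inf_le_left) (hQc ▸ Subgroup.card_dvd_of_le inf_le_right)
  have hdec : ∀ m ∈ M, ∃ x ∈ M0, ∃ u ∈ Q, m = x * u := fun m hm => by
    obtain ⟨⟨x, u⟩, he⟩ := hQ0.2 ⟨m, hm⟩
    exact ⟨_, x.2, _, Subgroup.mem_map_of_mem _ u.2, (congrArg Subtype.val he).symm⟩
  obtain ⟨T, hT⟩ := h ⊤ (Nat.card G / p) (by rw [Subgroup.card_top]; exact Nat.div_dvd_of_dvd hpd)
  set H := T.map (⊤ : Subgroup G).subtype with hHdef
  have hH : Nat.card H * p = Nat.card G := by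
    rw [hHdef, Nat.card_congr (T.equivMapOfInjective _ Subtype.val_injective).toEquiv.symm, hT,
      Nat.div_mul_cancel hpd]
  have hPH : (P : Subgroup G) ⊔ H = ⊤ := by
    refine Subgroup.eq_top_of_card_eq _ (Nat.dvd_antisymm (Subgroup.card_subgroup_dvd_card _) ?_)
    rw [← (P : Subgroup G).card_mul_index]
    obtain ⟨k, hk⟩ := P.isPGroup'.exists_card_eq
    refine Nat.Coprime.mul_dvd_of_dvd_of_dvd
      (hk ▸ (hp.coprime_iff_not_dvd.2 P.not_dvd_index).pow_left k)
      (Subgroup.card_dvd_of_le le_sup_left) ?_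
    refine Dvd.dvd.trans ?_ (Subgroup.card_dvd_of_le (le_sup_right (a := (P : Subgroup G))))
    refine ((hp.coprime_iff_not_dvd.2 P.not_dvd_index).symm).dvd_of_dvd_mul_right ?_
    rw [hH]
    exact (P : Subgroup G).index_dvd_card
  set P1 := (P : Subgroup G) ⊓ H with hP1
  have hP1c : Nat.card P1 * p = Nat.card (P : Subgroup G) := by
    have h1 := Cfsg.Agent.SolvBasic.card_sup_mul_card_inf (hn H)
    rw [hPH, Subgroup.card_top, ← hH, ← hP1] at h1
    exact Nat.eq_of_mul_eq_mul_left (Nat.card_pos (α := H)) (by linarith)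
  have hP1n : P1.Normal := by
    have hidx : (P1.subgroupOf (P : Subgroup G)).index = p := by
      have h1 := (P1.subgroupOf (P : Subgroup G)).card_mul_index
      rw [Nat.card_congr (Subgroup.subgroupOfEquivOfLe (inf_le_left : P1 ≤ (P : Subgroup G))).toEquiv,
        ← hP1c] at h1
      exact Nat.eq_of_mul_eq_mul_left Nat.card_pos h1
    have h2 : (P1.subgroupOf (P : Subgroup G)).Normal := Subgroup.normal_of_index_eq_minFac_card (by
      obtain ⟨k, hk⟩ := P.isPGroup'.exists_card_eq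
      rw [hidx, hk, hp.pow_minFac]
      rintro rfl
      exact hPc.ne' (hk.trans (pow_zero p)))
    rw [← Subgroup.normalizer_eq_top_iff, eq_top_iff, ← hPH]
    refine sup_le (fun x hx => ?_) fun u hu => ?_
    · rw [Cfsg.Agent.SolvBasic.mem_normalizer_iff_conjSmul]
      refine Subgroup.eq_of_le_of_card_ge (fun z hz => ?_) (Cfsg.Agent.SolvBasic.card_conjSmul x P1).ge
      rw [Cfsg.Agent.SolvBasic.mem_conjSmul] at hz
      have h3 := h2.conj_mem ⟨_, (Subgroup.mem_inf.1 hz).1⟩ hz ⟨x, hx⟩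
      change x * (x⁻¹ * z * x) * x⁻¹ ∈ P1 at h3
      simpa [mul_assoc] using h3
    · rw [Cfsg.Agent.SolvBasic.mem_normalizer_iff_conjSmul, hP1, Subgroup.smul_inf,
        Cfsg.Agent.SolvBasic.conjSmul_eq_self_of_mem_normalizer (hn H hu),
        Cfsg.Agent.SolvBasic.conjSmul_eq_self_of_mem_normalizer (Subgroup.le_normalizer hu)]
  have hMidx : M.index * Nat.card M0 = Nat.card (P : Subgroup G) := by
    have h1 := M.index_mul_card
    rw [hMcard, ← mul_assoc, ← (P : Subgroup G).card_mul_index] at h1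
    exact Nat.eq_of_mul_eq_mul_right (Nat.pos_of_ne_zero Subgroup.index_ne_zero_of_finite) h1
  have hP1cm : ∀ a ∈ (P : Subgroup G), ∀ b ∈ (P : Subgroup G), ⁅a, b⁆ ∈ P1 := by
    intro a ha b hb
    have hcard : Nat.card ((P : Subgroup G) ⧸ P1.subgroupOf (P : Subgroup G)) = p := by
      have h1 := (P1.subgroupOf (P : Subgroup G)).card_mul_index
      rw [Nat.card_congr (Subgroup.subgroupOfEquivOfLe (inf_le_left : P1 ≤ (P : Subgroup G))).toEquiv,
        ← hP1c] at h1
      exact Nat.eq_of_mul_eq_mul_left Nat.card_pos h1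
    have := hP1n.comap (P : Subgroup G).subtype
    have hcyc : IsCyclic ((P : Subgroup G) ⧸ P1.subgroupOf (P : Subgroup G)) :=
      isCyclic_of_prime_card hcard
    have hm : IsMulCommutative ((P : Subgroup G) ⧸ P1.subgroupOf (P : Subgroup G)) :=
      IsCyclic.isMulCommutative
    have h2 : ⁅(⟨a, ha⟩ : (P : Subgroup G)), ⟨b, hb⟩⁆ ∈ P1.subgroupOf (P : Subgroup G) := by
      rw [← QuotientGroup.eq_one_iff]
      change QuotientGroup.mk' _ _ = 1
      rw [map_commutatorElement, commutatorElement_eq_one_iff_commute]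
      exact hm.is_comm.comm _ _
    exact h2
  by_cases hM0P1 : M0 ≤ P1
  · have h0 : M0 = P1 := by
      refine le_antisymm hM0P1 (le_inf inf_le_left ?_)
      by_contra hP1M
      have htop : P1 ⊔ M = ⊤ := hM.2 _ (right_lt_sup.2 hP1M)
      have hle : (P : Subgroup G) ≤ P1 := fun x hx => by
        obtain ⟨y, hy, m, hm, rfl⟩ := (Cfsg.Agent.SolvBasic.mem_sup_iff_of_le_normalizer
          (show M ≤ Subgroup.normalizer (P1 : Set G) by rw [Subgroup.normalizer_eq_top]; exact le_top)).1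
          (htop ▸ Subgroup.mem_top x)
        refine P1.mul_mem hy (hM0P1 (Subgroup.mem_inf.2 ⟨?_, hm⟩))
        simpa using (P : Subgroup G).mul_mem ((P : Subgroup G).inv_mem (Subgroup.mem_inf.1 hy).1) hx
      have h1 := Subgroup.card_le_of_le hle
      rw [← hP1c] at h1
      have := hp.two_le; have := Nat.card_pos (α := P1)
      nlinarith
    rw [h0, ← hP1c, mul_comm (Nat.card P1)] at hMidx
    rw [Nat.eq_of_mul_eq_mul_right Nat.card_pos hMidx]
    exact hp
  have hsupP : P1 ⊔ M0 = (P : Subgroup G) := by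
    refine Subgroup.eq_of_le_of_card_ge (sup_le inf_le_left inf_le_left) ?_
    have h1 : Nat.card P1 < Nat.card (P1 ⊔ M0 : Subgroup G) := by
      refine lt_of_le_of_ne (Subgroup.card_le_of_le le_sup_left) fun h1 => hM0P1 ?_
      exact (Subgroup.eq_of_le_of_card_ge le_sup_left h1.ge).symm ▸ le_sup_right
    have hd1 : Nat.card P1 ∣ Nat.card (P1 ⊔ M0 : Subgroup G) := Subgroup.card_dvd_of_le le_sup_left
    have hd2 : Nat.card (P1 ⊔ M0 : Subgroup G) ∣ Nat.card P1 * p :=
      hP1c ▸ Subgroup.card_dvd_of_le (sup_le inf_le_left inf_le_left)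
    obtain ⟨e, he⟩ := hd1
    rw [he, mul_dvd_mul_iff_left Nat.card_pos.ne'] at hd2
    rcases hp.eq_one_or_self_of_dvd e hd2 with rfl | rfl
    · rw [he, mul_one] at h1; exact absurd h1 (lt_irrefl _)
    · rw [he, hP1c]
  set L := P1 ⊔ Q with hLdef
  have hnP1 : ∀ X : Subgroup G, X ≤ Subgroup.normalizer (P1 : Set G) := fun X => by
    rw [Subgroup.normalizer_eq_top]; exact le_top
  have hLlt : Nat.card L < Nat.card G := by
    rw [hLdef, Cfsg.Agent.SolvBasic.card_sup_of_inf_eq_bot (hnP1 Q) (le_bot_iff.1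
      ((inf_le_inf_right Q inf_le_left).trans hPQ.le)), hQc, ← (P : Subgroup G).card_mul_index,
      ← hP1c]
    have h1 := Nat.card_pos (α := P1)
    have h2 : 0 < (P : Subgroup G).index := Nat.pos_of_ne_zero Subgroup.index_ne_zero_of_finite
    have := hp.two_le
    have := Nat.mul_pos h1 h2
    nlinarith
  have hfact : ∀ g : G, ∃ x ∈ L, ∃ y ∈ M, g = x * y := by
    intro g
    obtain ⟨x, hx, m, hm, rfl⟩ := hmem g
    obtain ⟨y, hy, z, hz, rfl⟩ := (Cfsg.Agent.SolvBasic.mem_sup_iff_of_le_normalizer (hnP1 M0)).1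
      (show x ∈ P1 ⊔ M0 by rw [hsupP]; exact hx)
    exact ⟨y, Subgroup.mem_sup_left hy, z * m, M.mul_mem (Subgroup.mem_inf.1 hz).2 hm, mul_assoc _ _ _⟩
  rw [Cfsg.Agent.SolvStruct.index_eq_relIndex_of_mul hfact]
  refine Cfsg.Agent.SupSolv.index_coatom_prime (hproper L hLlt) (M.subgroupOf L)
    ⟨fun h0 => ?_, fun X hX => ?_⟩
  · rw [Subgroup.subgroupOf_eq_top] at h0
    apply hM.1
    rw [eq_top_iff]
    intro g _
    obtain ⟨x, hx, y, hy, rfl⟩ := hfact g
    exact M.mul_mem (h0 hx) hy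
  · set X' := X.map L.subtype with hX'def
    have hX'L : X' ≤ L := Subgroup.map_subtype_le _
    have hMLX : M ⊓ L ≤ X' := fun z hz =>
      ⟨⟨z, (Subgroup.mem_inf.1 hz).2⟩, hX.le (Subgroup.mem_inf.1 hz).1, rfl⟩
    have hQX : Q ≤ X' := (le_inf hQM le_sup_right).trans hMLX
    set Y := X' ⊓ P1 with hYdef
    have hXdec : ∀ z ∈ X', ∃ y ∈ Y, ∃ u ∈ Q, z = y * u := fun z hz => by
      obtain ⟨y, hy, u, hu, rfl⟩ :=
        (Cfsg.Agent.SolvBasic.mem_sup_iff_of_le_normalizer (hnP1 Q)).1 (hX'L hz)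
      refine ⟨y, Subgroup.mem_inf.2 ⟨?_, hy⟩, u, hu, rfl⟩
      simpa using X'.mul_mem hz (X'.inv_mem (hQX hu))
    have hYM : ¬ Y ≤ M := by
      intro hYM
      refine hX.ne' (le_antisymm (fun z hz => ?_) hX.le)
      obtain ⟨y, hy, u, hu, he⟩ := hXdec z (Subgroup.mem_map_of_mem _ hz)
      show (z : G) ∈ M
      rw [show ((z : L) : G) = y * u from he]
      exact M.mul_mem (hYM hy) (hQM hu)
    set Z := Y ⊔ M0 with hZdef
    have hZP : Z ≤ (P : Subgroup G) := sup_le (inf_le_right.trans inf_le_left) inf_le_left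
    have hZn : Z.Normal := by
      rw [← Subgroup.normalizer_eq_top_iff, eq_top_iff, ← htopPM]
      refine sup_le (hnormal Z hZP fun x hx y hy => Subgroup.mem_sup_right (hM0c x hx y hy)) ?_
      intro m hm
      obtain ⟨x, hx, u, hu, rfl⟩ := hdec m hm
      refine mul_mem (hnormal Z hZP (fun a ha b hb => Subgroup.mem_sup_right (hM0c a ha b hb)) x
        (Subgroup.mem_inf.1 hx).1) ?_
      rw [Cfsg.Agent.SolvBasic.mem_normalizer_iff_conjSmul, hZdef, Subgroup.smul_sup, hYdef,
        Subgroup.smul_inf, Cfsg.Agent.SolvBasic.conjSmul_eq_self_of_mem_normalizer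
          (Subgroup.le_normalizer (hQX hu)),
        Cfsg.Agent.SolvBasic.conjSmul_eq_self_of_mem_normalizer (hnP1 Q hu),
        Cfsg.Agent.SolvBasic.conjSmul_eq_self_of_mem_normalizer
          (show u ∈ Subgroup.normalizer (M0 : Set G) by rw [Subgroup.normalizer_eq_top]; trivial)]
    have htop : Z ⊔ M = ⊤ := hM.2 _ (right_lt_sup.2 fun hle => hYM (le_sup_left.trans hle))
    have hPZ : (P : Subgroup G) ≤ Z := fun x hx => by
      obtain ⟨z, hz, m, hm, rfl⟩ := (Cfsg.Agent.SolvBasic.mem_sup_iff_of_le_normalizer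
        (show M ≤ Subgroup.normalizer (Z : Set G) by rw [Subgroup.normalizer_eq_top]; exact le_top)).1
        (htop ▸ Subgroup.mem_top x)
      refine Z.mul_mem hz (Subgroup.mem_sup_right (Subgroup.mem_inf.2 ⟨?_, hm⟩))
      simpa using (P : Subgroup G).mul_mem ((P : Subgroup G).inv_mem (hZP hz)) hx
    have hP1X : P1 ≤ X' := fun y1 hy1 => by
      obtain ⟨y, hy, m0, hm0, rfl⟩ := (Cfsg.Agent.SolvBasic.mem_sup_iff_of_le_normalizer
        (show M0 ≤ Subgroup.normalizer (Y : Set G) from fun m hm => by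
          refine hnormal Y (inf_le_right.trans inf_le_left) ?_ m (Subgroup.mem_inf.1 hm).1
          intro a ha b hb
          refine Subgroup.mem_inf.2 ⟨hMLX (Subgroup.mem_inf.2 ⟨hcomm a ha b hb, ?_⟩), ?_⟩
          · refine Subgroup.mem_sup_left ?_
            exact hP1cm a ha b hb
          · exact hP1cm a ha b hb)).1 (hPZ (Subgroup.mem_inf.1 hy1).1)
      have hm0P1 : m0 ∈ P1 := by
        simpa using P1.mul_mem (P1.inv_mem (Subgroup.mem_inf.1 hy).2) hy1
      exact X'.mul_mem (Subgroup.mem_inf.1 hy).1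
        (hMLX (Subgroup.mem_inf.2 ⟨(Subgroup.mem_inf.1 hm0).2, Subgroup.mem_sup_left hm0P1⟩))
    rw [eq_top_iff]
    intro z _
    obtain ⟨z', hz', hzz⟩ := sup_le hP1X hQX z.2
    exact Subtype.ext hzz ▸ hz'

end Cfsg.Agent.S0533
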