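import Cfsg.Statements.S0534
import Cfsg.Agent.Lib.Solvable.Hall

set_option autoImplicit false
open Cfsg

namespace Cfsg.Agent.S0534

/-- Let G be a finite solvable group and A a finite abelian group such that every prime dividing the order of A divides the order of G and, for each prime p dividing the order of G, the exponent of p in the order of A is one less than its exponent in the order of G. Then G × A has a subgroup of every order dividing its order. -/
theorem result {G A : Type*} [Group G] [CommGroup A] [Finite G] [Finite A] [Group.IsSolvable G] (hA : ∀ p : ℕ, p.Prime → p ∣ Nat.card A → p ∣ Nat.card G) (hexp : ∀ p : ℕ, p.Prime → p ∣ Nat.card G → (Nat.card A).factorization p + 1 = (Nat.card G).factorization p) : Cfsg.HasSubgroupOfEveryOrder (G × A) := by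
  intro d hd
  rw [Nat.card_prod] at hd
  have hG0 : Nat.card G ≠ 0 := Nat.card_pos.ne'
  have hA0 : Nat.card A ≠ 0 := Nat.card_pos.ne'
  have hd0 : d ≠ 0 := fun h0 => by
    rw [h0, zero_dvd_iff, mul_eq_zero] at hd
    exact hd.elim hG0 hA0
  classical
  set π := (Nat.card G).primeFactors.filter fun p =>
    (Nat.card G).factorization p ≤ d.factorization p with hπ
  set m := ∏ p ∈ π, p ^ (Nat.card G).factorization p with hm
  set n := ∏ p ∈ (Nat.card G).primeFactors \ π, p ^ (Nat.card G).factorization p with hn
  have hsub : π ⊆ (Nat.card G).primeFactors := Finset.filter_subset _ _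
  have hG : Nat.card G = m * n := by
    rw [hm, hn, mul_comm, Finset.prod_sdiff hsub]
    exact Nat.prod_primeFactors_pow_factorization hG0
  have hmn : m.Coprime n := by
    refine Nat.Coprime.prod_left fun p hp => Nat.Coprime.prod_right fun q hq =>
      Nat.Coprime.pow _ _ ?_
    refine (Nat.coprime_primes (Nat.prime_of_mem_primeFactors (hsub hp))
      (Nat.prime_of_mem_primeFactors (Finset.mem_sdiff.1 hq).1)).2 fun h => ?_
    exact (Finset.mem_sdiff.1 hq).2 (h ▸ hp)
  obtain ⟨H, hH⟩ := Cfsg.Agent.HallSolv.exists_hall hG hmn
  have hmfac : ∀ p : ℕ, p.Prime →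
      m.factorization p = if p ∈ π then (Nat.card G).factorization p else 0 := by
    intro p hp
    rw [hm, Nat.factorization_prod fun q hq =>
      pow_ne_zero _ (Nat.prime_of_mem_primeFactors (hsub hq)).ne_zero]
    simp only [Finsupp.coe_finsetSum, Finset.sum_apply, Nat.factorization_pow, Finsupp.smul_apply,
      smul_eq_mul]
    rw [Finset.sum_congr rfl (fun q hq => by
      rw [(Nat.prime_of_mem_primeFactors (hsub hq)).factorization, Finsupp.single_apply])]
    simp [Finset.sum_ite_eq']
  have hmd : m ∣ d := by
    have hm0' : m ≠ 0 := left_ne_zero_of_mul (hG ▸ hG0)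
    rw [← Nat.factorization_le_iff_dvd hm0' hd0]
    intro p
    by_cases hp : p.Prime
    · rw [hmfac p hp]
      split
      · next h => exact (Finset.mem_filter.1 h).2
      · exact zero_le
    · simp [Nat.factorization_eq_zero_of_not_prime _ hp]
  clear_value m n π
  obtain ⟨e, rfl⟩ := hmd
  have hm0 : m ≠ 0 := left_ne_zero_of_mul hd0
  have he0 : e ≠ 0 := right_ne_zero_of_mul hd0
  have hle := (Nat.factorization_le_iff_dvd hd0 (mul_ne_zero hG0 hA0)).2 hd
  have hediv : e ∣ Nat.card A := by
    rw [← Nat.factorization_le_iff_dvd he0 hA0]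
    intro p
    by_cases hp : p.Prime
    · have h1 := hle p
      rw [Nat.factorization_mul hm0 he0, Nat.factorization_mul hG0 hA0] at h1
      simp only [Finsupp.add_apply] at h1
      by_cases hpπ : p ∈ π
      · rw [hmfac p hp, if_pos hpπ] at h1
        omega
      · rw [hmfac p hp, if_neg hpπ] at h1
        by_cases hpG : p ∣ Nat.card G
        · have h2 : ¬ (Nat.card G).factorization p ≤ (m * e).factorization p := fun h3 =>
            hpπ (hπ ▸ Finset.mem_filter.2 ⟨Nat.mem_primeFactors.2 ⟨hp, hpG, hG0⟩, h3⟩)
          rw [Nat.factorization_mul hm0 he0] at h2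
          simp only [Finsupp.add_apply, hmfac p hp, if_neg hpπ] at h2
          have h4 := hexp p hp hpG
          omega
        · have h5 : (Nat.card G).factorization p = 0 :=
            Nat.factorization_eq_zero_of_not_dvd hpG
          omega
    · simp [Nat.factorization_eq_zero_of_not_prime _ hp]
  obtain ⟨B, hB⟩ : ∃ B : Subgroup A, Nat.card B = e := by
    have hAs : Group.IsSolvable A := inferInstance
    set σ := (Nat.card A).primeFactors
    have key : ∀ T : Finset ℕ, T ⊆ σ →
        ∃ B : Subgroup A, Nat.card B = ∏ p ∈ T, p ^ e.factorization p := by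
      intro T
      induction T using Finset.induction_on with
      | empty => exact fun _ => ⟨⊥, by simp⟩
      | @insert q T hq ih =>
        intro hT
        obtain ⟨B, hB⟩ := ih fun x hx => hT (Finset.mem_insert_of_mem hx)
        have hqp := Nat.prime_of_mem_primeFactors (hT (Finset.mem_insert_self q T))
        have := Fact.mk hqp
        obtain ⟨Q, hQ⟩ := Sylow.exists_subgroup_card_pow_prime (G := A) q
          (n := e.factorization q) ((Nat.ordProj_dvd e q).trans hediv)
        refine ⟨B ⊔ Q, ?_⟩
        rw [Cfsg.Agent.SolvBasic.card_sup_of_inf_eq_bot Subgroup.le_normalizer_of_normal,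
          hB, hQ, Finset.prod_insert hq, mul_comm]
        refine (Subgroup.disjoint_of_coprime_natCard ?_).eq_bot
        rw [hB, hQ]
        refine Nat.Coprime.prod_left fun x hx => Nat.Coprime.pow _ _ ?_
        exact (Nat.coprime_primes (Nat.prime_of_mem_primeFactors
          (hT (Finset.mem_insert_of_mem hx))) hqp).2 fun h => hq (h ▸ hx)
    obtain ⟨B, hB⟩ := key e.primeFactors (Nat.primeFactors_mono hediv hA0)
    exact ⟨B, hB.trans (Nat.prod_primeFactors_pow_factorization he0).symm⟩
  exact ⟨H.prod B, by
    rw [Nat.card_congr (Subgroup.prodEquiv H B).toEquiv, Nat.card_prod, hH, hB]⟩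

end Cfsg.Agent.S0534
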