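import Cfsg.Statements.S0535
import Cfsg.Agent.Lib.Solvable.Criteria

set_option autoImplicit false
open scoped Pointwise commutatorElement
open Cfsg

namespace Cfsg.Agent.S0535

/-- Suppose that for every nontrivial subgroup H of a finite group and every prime p dividing the order of H there is a proper subgroup of H whose index in H is a power of p. Then the group is solvable. -/
theorem result {G : Type*} [Group G] [Finite G] (h : ∀ H : Subgroup G, H ≠ ⊥ → ∀ p : ℕ, p.Prime → p ∣ Nat.card H → ∃ K : Subgroup H, K ≠ ⊤ ∧ ∃ k : ℕ, K.index = p ^ k) : Group.IsSolvable G := by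
  induction hc : Nat.card G using Nat.strong_induction_on generalizing G with
  | _ n ih =>
  subst hc
  rcases Cfsg.Agent.SolvCriteria.solvable_or_three_primes G with
    hs | ⟨p, q, r, ⟨hp, hq, hr⟩, ⟨hpq, hpr, hqr⟩, dp, dq, dr⟩
  · exact hs
  have key : ∀ s : ℕ, s.Prime → s ∣ Nat.card G →
      ∃ (K : Subgroup G) (k : ℕ), K.index = s ^ k ∧ Group.IsSolvable K := by
    intro s hs hsd
    have htop : (⊤ : Subgroup G) ≠ ⊥ := fun h0 => hs.not_dvd_one (by
      rwa [← Subgroup.card_top, h0, Subgroup.card_bot] at hsd)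
    obtain ⟨K₀, hK₀, k, hk⟩ := h ⊤ htop s hs (by rwa [Subgroup.card_top])
    set K := K₀.map (⊤ : Subgroup G).subtype with hK
    have hKidx : K.index = s ^ k := by
      rw [hK, Subgroup.index_map_subtype, Subgroup.index_top, mul_one, hk]
    refine ⟨K, k, hKidx, ih (Nat.card K) ?_ ?_ rfl⟩
    · refine lt_of_le_of_ne (Subgroup.card_le_card_group K) fun h0 => hK₀ ?_
      have h1 := Subgroup.eq_top_of_card_eq K h0
      rw [eq_top_iff]
      intro x _
      have hx : (x : G) ∈ K := by rw [h1]; exact Subgroup.mem_top _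
      rw [hK] at hx
      obtain ⟨y, hy, hyx⟩ := hx
      rwa [← Subtype.ext hyx]
    · intro L hL t ht hdvd
      set L' := L.map K.subtype with hL'
      let e : L ≃* L' := L.equivMapOfInjective _ K.subtype_injective
      have hLne : L' ≠ ⊥ := fun h0 =>
        hL ((Subgroup.map_eq_bot_iff_of_injective _ K.subtype_injective).1 h0)
      obtain ⟨M, hM, j, hj⟩ := h L' hLne t ht (by rwa [← Nat.card_congr e.toEquiv])
      refine ⟨M.comap e.toMonoidHom, fun h0 => hM ?_, j, ?_⟩
      · rw [← Subgroup.map_comap_eq_self_of_surjective (f := e.toMonoidHom) e.surjective M, h0,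
          Subgroup.map_top_of_surjective _ e.surjective]
      · rw [Subgroup.index_comap_of_surjective _ e.surjective, hj]
  obtain ⟨K₁, a, ea, s₁⟩ := key p hp dp
  obtain ⟨K₂, b, eb, s₂⟩ := key q hq dq
  obtain ⟨K₃, c, ec, s₃⟩ := key r hr dr
  exact Cfsg.Agent.SolvCriteria.solvable_of_three s₁ s₂ s₃ hp hq hr hpq hpr hqr ea eb ec

end Cfsg.Agent.S0535
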