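import Cfsg.Statements.S0536
import Cfsg.Agent.S0046
import Cfsg.Agent.Lib.Solvable.MinimalNonNilpotent

set_option autoImplicit false
open scoped Pointwise commutatorElement
open Cfsg

namespace Cfsg.Agent.S0536

/-- Structure of minimal non-nilpotent groups: if a finite group is not nilpotent but all its proper subgroups are, then there are distinct primes p and q, a cyclic Sylow p-subgroup P and a normal Sylow q-subgroup Q with G generated by P and Q. -/
theorem result {G : Type*} [Group G] [Finite G] (hG : Cfsg.IsMinimalNonNilpotent G) : ∃ p q : ℕ, p.Prime ∧ q.Prime ∧ p ≠ q ∧ ∃ (P : Sylow p G) (Q : Sylow q G), IsCyclic P ∧ (Q : Subgroup G).Normal ∧ (P : Subgroup G) ⊔ Q = ⊤ := by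
  obtain ⟨hnn, hsub⟩ := hG
  have hsolv : Group.IsSolvable G := Cfsg.Agent.S0046.result fun M hM => hsub M hM.1
  have hnt : Nontrivial G := by
    by_contra h0
    rw [not_nontrivial_iff_subsingleton] at h0
    exact hnn inferInstance
  obtain ⟨M, hMn, hMp, -⟩ := Cfsg.Agent.SolvMinNN.exists_normal_prime_index (G := G)
  obtain ⟨r, hr⟩ : ∃ r, M.index = r := ⟨_, rfl⟩
  rw [hr] at hMp
  have : Fact r.Prime := ⟨hMp⟩
  have hMne : M ≠ ⊤ := fun h0 => hMp.one_lt.ne (by rw [← hr, h0, Subgroup.index_top])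
  have hMnil := hsub M hMne
  have hqn : ∀ q : ℕ, q.Prime → q ≠ r → ∀ Q : Sylow q G, (Q : Subgroup G).Normal := by
    intro q hq hqr Q
    have : Fact q.Prime := ⟨hq⟩
    have hQM : (Q : Subgroup G) ≤ M := fun x hx => by
      obtain ⟨k, hk⟩ := Q.isPGroup' ⟨x, hx⟩
      have h1 := Nat.eq_one_of_dvd_coprimes (((Nat.coprime_primes hMp hq).2 hqr.symm).pow_right k)
        (hr ▸ orderOf_dvd_natCard (QuotientGroup.mk' M x))
        ((orderOf_map_dvd (QuotientGroup.mk' M) x).trans
          (orderOf_dvd_of_pow_eq_one (congrArg Subtype.val hk)))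
      exact (QuotientGroup.eq_one_iff x).1 (orderOf_eq_one_iff.1 h1)
    have hQn := (Group.isNilpotent_of_finite_tfae.out 0 3 rfl rfl).1 hMnil q inferInstance
      (Q.subtype hQM)
    have hch := Sylow.characteristic_of_normal _ hQn
    rw [Sylow.coe_subtype] at hch
    have := Cfsg.Agent.FittingCores.normal_map_of_characteristic hMn hch
    rwa [Subgroup.map_subgroupOf_eq_of_le hQM] at this
  obtain ⟨R⟩ := (inferInstance : Nonempty (Sylow r G))
  have hRn : ¬ (R : Subgroup G).Normal := by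
    intro hn
    refine hnn ((Group.isNilpotent_of_finite_tfae.out 0 3 rfl rfl).2 fun q hq Q => ?_)
    rcases eq_or_ne q r with rfl | hne
    · obtain ⟨g, hg⟩ := MulAction.exists_smul_eq G R Q
      rw [Sylow.smul_eq_of_normal] at hg
      exact hg ▸ hn
    · exact hqn q hq.out hne Q
  obtain ⟨q, hq, hqr, Q, hQR⟩ : ∃ q, q.Prime ∧ q ≠ r ∧ ∃ Q : Sylow q G,
      ¬ (Q : Subgroup G) ≤ Subgroup.centralizer ((R : Subgroup G) : Set G) := by
    by_contra hcon
    push_neg at hcon
    refine hRn (Subgroup.normalizer_eq_top_iff.1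
      (Cfsg.Agent.FittingCores.eq_top_of_forall_sylow_le fun q hq => ?_))
    rcases eq_or_ne q r with rfl | hne
    · exact ⟨R, Subgroup.le_normalizer⟩
    · have : Fact q.Prime := ⟨hq⟩
      obtain ⟨Q⟩ := (inferInstance : Nonempty (Sylow q G))
      exact ⟨Q, (hcon q hq hne Q).trans (Subgroup.centralizer_le_normalizer _)⟩
  have : Fact q.Prime := ⟨hq⟩
  have hQn := hqn q hq hqr Q
  have hcent : ∀ A : Subgroup G, A ≤ (R : Subgroup G) → (Q : Subgroup G) ⊔ A ≠ ⊤ →
      A ≤ Subgroup.centralizer ((Q : Subgroup G) : Set G) := fun A hA hne => by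
    have := hsub _ hne
    exact Cfsg.Agent.SolvMinNN.le_centralizer_of_nilpotent (W := (Q : Subgroup G) ⊔ A)
      le_sup_right le_sup_left hMp hq hqr.symm (R.isPGroup'.to_le hA) Q.isPGroup'
  have hQRtop : (Q : Subgroup G) ⊔ (R : Subgroup G) = ⊤ := by
    by_contra hne
    exact hQR (Subgroup.le_centralizer_iff.1 (hcent _ le_rfl hne))
  refine ⟨r, q, hMp, hq, hqr.symm, R, Q, ?_, hQn, by rw [sup_comm]; exact hQRtop⟩
  obtain ⟨x, hxR, hxM⟩ := SetLike.not_le_iff_exists.1 (show ¬ (R : Subgroup G) ≤ M from fun h0 =>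
    R.not_dvd_index ((dvd_of_eq hr.symm).trans (Subgroup.index_dvd_of_le h0)))
  have hQx : (Q : Subgroup G) ⊔ Subgroup.zpowers x = ⊤ := by
    by_contra hne
    apply hQR
    rw [Subgroup.le_centralizer_iff]
    intro y hy
    have hxc := hcent _ (Subgroup.zpowers_le.2 hxR) hne (Subgroup.mem_zpowers x)
    have hne1 : QuotientGroup.mk' M x ≠ 1 := fun h0 => hxM ((QuotientGroup.eq_one_iff x).1 h0)
    have hgen := zpowers_eq_top_of_prime_card (p := r) (by rw [← hr]; rfl) hne1
    obtain ⟨i, hi⟩ := Subgroup.mem_zpowers_iff.1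
      (hgen.symm ▸ Subgroup.mem_top (QuotientGroup.mk' M y))
    have h1 : (x ^ i)⁻¹ * y ∈ (R : Subgroup G) ⊓ M := by
      refine Subgroup.mem_inf.2 ⟨(R : Subgroup G).mul_mem
        ((R : Subgroup G).inv_mem ((R : Subgroup G).zpow_mem hxR i)) hy, ?_⟩
      rw [← map_zpow] at hi
      exact QuotientGroup.eq.1 hi
    have hQM : (Q : Subgroup G) ≤ M := fun z hz => by
      obtain ⟨k, hk⟩ := Q.isPGroup' ⟨z, hz⟩
      have h2 := Nat.eq_one_of_dvd_coprimes (((Nat.coprime_primes hMp hq).2 hqr.symm).pow_right k)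
        (hr ▸ orderOf_dvd_natCard (QuotientGroup.mk' M z))
        ((orderOf_map_dvd (QuotientGroup.mk' M) z).trans
          (orderOf_dvd_of_pow_eq_one (congrArg Subtype.val hk)))
      exact (QuotientGroup.eq_one_iff z).1 (orderOf_eq_one_iff.1 h2)
    have h3 := Cfsg.Agent.SolvMinNN.le_centralizer_of_nilpotent (W := M)
      (inf_le_right (a := (R : Subgroup G))) hQM hMp hq hqr.symm
      (R.isPGroup'.to_le inf_le_left) Q.isPGroup' h1
    have h4 := mul_mem (zpow_mem hxc i) h3
    rwa [mul_inv_cancel_left] at h4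
  have hn : ∀ X : Subgroup G, X ≤ Subgroup.normalizer ((Q : Subgroup G) : Set G) := fun X => by
    have := hQn; rw [Subgroup.normalizer_eq_top]; exact le_top
  have hdisj : (Q : Subgroup G) ⊓ R = ⊥ :=
    (IsPGroup.disjoint_of_ne q r hqr _ _ Q.isPGroup' R.isPGroup').eq_bot
  have c1 := Cfsg.Agent.SolvBasic.card_sup_of_inf_eq_bot (hn (R : Subgroup G)) hdisj
  have c2 := Cfsg.Agent.SolvBasic.card_sup_of_inf_eq_bot (hn (Subgroup.zpowers x))
    (le_bot_iff.1 ((inf_le_inf_left _ (Subgroup.zpowers_le.2 hxR)).trans hdisj.le))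
  rw [hQx] at c2
  rw [hQRtop, c2] at c1
  have heq : (R : Subgroup G) = Subgroup.zpowers x := (Subgroup.eq_of_le_of_card_ge
    (Subgroup.zpowers_le.2 hxR) (Nat.eq_of_mul_eq_mul_left Nat.card_pos c1).ge).symm
  change IsCyclic (R : Subgroup G)
  rw [heq]
  exact Subgroup.isCyclic_zpowers x

end Cfsg.Agent.S0536
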