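import Cfsg.Statements.S0537
import Cfsg.Agent.S0536
import Cfsg.Agent.Lib.Solvable.MinimalNonNilpotent
import Cfsg.Agent.Lib.Solvable.Coprime

set_option autoImplicit false
open scoped Pointwise commutatorElement
open Cfsg

namespace Cfsg.Agent.S0537

/-- A finite non-abelian group in which every proper subgroup is abelian is either of prime-power order, or is generated by a cyclic Sylow p-subgroup and a normal Sylow q-subgroup that is elementary abelian, for distinct primes p and q. -/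
theorem result {G : Type*} [Group G] [Finite G] (hna : ¬ IsMulCommutative G) (h : ∀ H : Subgroup G, H ≠ ⊤ → IsMulCommutative H) : (∃ p : ℕ, p.Prime ∧ IsPGroup p G) ∨ ∃ p q : ℕ, p.Prime ∧ q.Prime ∧ p ≠ q ∧ ∃ (P : Sylow p G) (Q : Sylow q G), IsCyclic P ∧ (Q : Subgroup G).Normal ∧ Cfsg.IsElementaryAbelian q (Q : Subgroup G) ∧ (P : Subgroup G) ⊔ Q = ⊤ := by
  by_cases hp : ∃ p : ℕ, p.Prime ∧ IsPGroup p G
  · exact Or.inl hp
  refine Or.inr ?_
  have hnn : ¬ Group.IsNilpotent G := fun hnil => hna (by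
    have := hnil
    exact Cfsg.Agent.SolvMinNN.commutative_of_sylows fun p hpf P => h _ fun h0 =>
      hp ⟨p, hpf.out, fun g => by
        obtain ⟨k, hk⟩ := P.isPGroup' ⟨g, h0 ▸ Subgroup.mem_top g⟩
        exact ⟨k, congrArg Subtype.val hk⟩⟩)
  obtain ⟨p, q, hp', hq', hne, P, Q, hPc, hQn, hPQ⟩ := Cfsg.Agent.S0536.result (G := G)
    ⟨hnn, fun H hH => by
      have := h H hH
      open scoped IsMulCommutative in exact CommGroup.isNilpotent⟩
  have : Fact p.Prime := ⟨hp'⟩
  have : Fact q.Prime := ⟨hq'⟩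
  have hQne : (Q : Subgroup G) ≠ ⊤ := fun h0 => hp ⟨q, hq', fun g => by
    obtain ⟨k, hk⟩ := Q.isPGroup' ⟨g, h0 ▸ Subgroup.mem_top g⟩
    exact ⟨k, congrArg Subtype.val hk⟩⟩
  have hQab := h _ hQne
  refine ⟨p, q, hp', hq', hne, P, Q, hPc, hQn, ⟨hQab, ?_⟩, hPQ⟩
  let W : Subgroup G :=
    { carrier := {x | x ∈ (Q : Subgroup G) ∧ x ^ q = 1}
      one_mem' := ⟨(Q : Subgroup G).one_mem, one_pow q⟩
      mul_mem' := fun {a b} ha hb => ⟨(Q : Subgroup G).mul_mem ha.1 hb.1, by
        rw [(show Commute a b from setLike_mul_comm (s := (Q : Subgroup G)) ha.1 hb.1).mul_pow, ha.2,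
          hb.2, mul_one]⟩
      inv_mem' := fun {a} ha => ⟨(Q : Subgroup G).inv_mem ha.1, by rw [inv_pow, ha.2, inv_one]⟩ }
  have hWn : W.Normal := ⟨fun x hx g => ⟨hQn.conj_mem x hx.1 g, by rw [conj_pow, hx.2]; simp⟩⟩
  have hnorm : ∀ X Y : Subgroup G, Y.Normal → X ≤ Subgroup.normalizer (Y : Set G) :=
    fun X Y hY => by have := hY; rw [Subgroup.normalizer_eq_top]; exact le_top
  have hdisj : (Q : Subgroup G) ⊓ P = ⊥ :=
    (IsPGroup.disjoint_of_ne q p hne.symm _ _ Q.isPGroup' P.isPGroup').eq_bot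
  have hWtop : W ⊔ (P : Subgroup G) = ⊤ := by
    by_contra hne'
    have hab := h _ hne'
    have hcent : (P : Subgroup G) ≤ Subgroup.centralizer ((Q : Subgroup G) : Set G) := by
      refine Cfsg.Agent.CoprimeAct.le_centralizer_of_fix_prime (hnorm _ _ hQn) ?_ ?_
      · obtain ⟨i, hi⟩ := P.isPGroup'.exists_card_eq
        obtain ⟨j, hj⟩ := Q.isPGroup'.exists_card_eq
        rw [hi, hj]
        exact Nat.Coprime.pow _ _ ((Nat.coprime_primes hp' hq').2 hne)
      · intro v hv hvo a ha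
        have hvq : v ^ q = 1 := by
          obtain ⟨k, hk⟩ := Q.isPGroup' ⟨v, hv⟩
          have h2 := hvo.eq_one_or_self_of_dvd _ dvd_rfl
          have h3 : orderOf v = q := (Nat.prime_dvd_prime_iff_eq hvo hq').1
            (hvo.dvd_of_dvd_pow (orderOf_dvd_of_pow_eq_one (congrArg Subtype.val hk)))
          rw [← h3, pow_orderOf_eq_one]
        exact setLike_mul_comm (s := (W ⊔ (P : Subgroup G) : Subgroup G))
          (Subgroup.mem_sup_right ha) (Subgroup.mem_sup_left (show v ∈ W from ⟨hv, hvq⟩))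
    have hPn : (P : Subgroup G).Normal := Subgroup.normalizer_eq_top_iff.1 (top_le_iff.1
      (hPQ.ge.trans (sup_le Subgroup.le_normalizer
        ((Subgroup.le_centralizer_iff.1 hcent).trans (Subgroup.centralizer_le_normalizer _)))))
    refine hnn ((Group.isNilpotent_of_finite_tfae.out 0 3 rfl rfl).2 fun s hs S => ?_)
    rcases eq_or_ne s p with rfl | hsp
    · obtain ⟨g, hg⟩ := MulAction.exists_smul_eq G P S
      rw [Sylow.smul_eq_of_normal] at hg
      exact hg ▸ hPn
    rcases eq_or_ne s q with rfl | hsq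
    · obtain ⟨g, hg⟩ := MulAction.exists_smul_eq G Q S
      rw [Sylow.smul_eq_of_normal] at hg
      exact hg ▸ hQn
    have hbot : (S : Subgroup G) = ⊥ := Subgroup.eq_bot_of_card_eq _ (by
      rw [S.card_eq_multiplicity, Nat.factorization_eq_zero_of_not_dvd fun hd => ?_, pow_zero]
      have hc := Cfsg.Agent.SolvBasic.card_sup_of_inf_eq_bot (hnorm (P : Subgroup G) _ hQn) hdisj
      rw [sup_comm, hPQ, Subgroup.card_top] at hc
      rw [hc, Q.card_eq_multiplicity, P.card_eq_multiplicity] at hd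
      rcases hs.out.dvd_mul.1 hd with hd | hd
      · exact hsq ((Nat.prime_dvd_prime_iff_eq hs.out hq').1 (hs.out.dvd_of_dvd_pow hd))
      · exact hsp ((Nat.prime_dvd_prime_iff_eq hs.out hp').1 (hs.out.dvd_of_dvd_pow hd)))
    rw [hbot]; infer_instance
  intro x hx
  have hWQ : W ≤ (Q : Subgroup G) := fun y hy => hy.1
  obtain ⟨w, hw, u, hu, rfl⟩ := (Cfsg.Agent.SolvBasic.mem_sup_iff_of_le_normalizer
    (hnorm (P : Subgroup G) W hWn)).1 (hWtop ▸ Subgroup.mem_top x)
  have hu1 : u ∈ (Q : Subgroup G) ⊓ P := Subgroup.mem_inf.2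
    ⟨by simpa using (Q : Subgroup G).mul_mem ((Q : Subgroup G).inv_mem (hWQ hw)) hx, hu⟩
  rw [hdisj, Subgroup.mem_bot] at hu1
  rw [hu1, mul_one]
  exact hw.2

end Cfsg.Agent.S0537
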