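import Cfsg.Statements.S0539
import Cfsg.Agent.Lib.LocalEven.Wielandt
import Cfsg.Agent.Lib.Solvable.Basic

set_option autoImplicit false
open scoped Pointwise commutatorElement
open Pointwise
open Cfsg

namespace Cfsg.Agent.S0539

/-- Let S be a family of subnormal subgroups of a finite group that is closed under conjugation, and S₀ a proper subfamily. Then some member of S not in S₀ normalizes the join of S₀. -/
theorem result {G : Type*} [Group G] [Finite G] (S S₀ : Set (Subgroup G)) (hS : ∀ U ∈ S, U.IsSubnormal) (hconj : ∀ U ∈ S, ∀ g : G, MulAut.conj g • U ∈ S) (h₀ : S₀ ⊂ S) : ∃ X ∈ S, X ∉ S₀ ∧ X ≤ Subgroup.normalizer ((sSup S₀ : Subgroup G) : Set G) := by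
  have hSJ : ∀ T : Set (Subgroup G), T ⊆ S → (sSup T).IsSubnormal := by
    intro T hT
    induction T, Set.toFinite T using Set.Finite.induction_on with
    | empty => rw [sSup_empty]; exact Subgroup.IsSubnormal.bot
    | @insert a s ha hs ih =>
      rw [sSup_insert]
      exact Cfsg.Agent.LEWielandt.sup (hS a (hT (Set.mem_insert a s)))
        (ih ((Set.subset_insert a s).trans hT))
  set J := sSup S₀ with hJ
  by_cases hn : J.Normal
  · obtain ⟨X, hX, hX0⟩ := Set.exists_of_ssubset h₀
    exact ⟨X, hX, hX0, by rw [Subgroup.normalizer_eq_top]; exact le_top⟩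
  obtain ⟨x, hxn, hx⟩ := Cfsg.Agent.LEWielandt.exists_conj_ne_le_normalizer (hSJ S₀ h₀.subset) hn
  obtain ⟨W, hW, hWJ⟩ : ∃ W ∈ S₀, ¬ MulAut.conj x • W ≤ J := by
    by_contra hcon
    push_neg at hcon
    apply hxn
    rw [Cfsg.Agent.SolvBasic.mem_normalizer_iff_conjSmul]
    refine Subgroup.eq_of_le_of_card_ge ?_ (Cfsg.Agent.SolvBasic.card_conjSmul x J).ge
    rw [Subgroup.pointwise_smul_subset_iff]
    exact sSup_le fun W hW => Subgroup.pointwise_smul_subset_iff.1 (hcon W hW)
  refine ⟨MulAut.conj x • W, hconj W (h₀.subset hW) x, fun h0 => hWJ (le_sSup h0), le_trans ?_ hx⟩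
  exact Subgroup.pointwise_smul_le_pointwise_smul_iff.2 (le_sSup hW)

end Cfsg.Agent.S0539
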