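import Cfsg.Statements.S0540
import Cfsg.Agent.S0539

set_option autoImplicit false
open scoped Pointwise commutatorElement
open Pointwise
open Cfsg

namespace Cfsg.Agent.S0540

/-- A uniqueness lemma of zipper type. Let A be a subgroup of a finite group G and U a nonempty family of subgroups. For V in U write S(V) for the set of conjugates of A that lie in V and are subnormal in V. Assume: A belongs to S(V) for every V in U; a member of some S(W) that lies in V belongs to S(V); and for all V, W in U the normalizer of the join of S(V) ∩ S(W) lies in some member of U. Then U has a greatest element. -/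
theorem result {G : Type*} [Group G] [Finite G] (A : Subgroup G) (U : Set (Subgroup G)) (hU : U.Nonempty) (S : Subgroup G → Set (Subgroup G)) (hS : ∀ V B : Subgroup G, B ∈ S V ↔ (∃ g : G, B = MulAut.conj g • A) ∧ B ≤ V ∧ (B.subgroupOf V).IsSubnormal) (h1 : ∀ V ∈ U, A ∈ S V) (h2 : ∀ V ∈ U, ∀ W ∈ U, ∀ B ∈ S W, B ≤ V → B ∈ S V) (h3 : ∀ V ∈ U, ∀ W ∈ U, ∃ X ∈ U, Subgroup.normalizer ((sSup (S V ∩ S W) : Subgroup G) : Set G) ≤ X) : ∃ M ∈ U, ∀ V ∈ U, V ≤ M := by
  classical
  suffices huniq : ∀ V W : Subgroup G, Maximal (· ∈ U) V → Maximal (· ∈ U) W → V = W by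
    obtain ⟨V₀, hV₀⟩ := hU
    obtain ⟨M, -, hM⟩ := (Set.toFinite U).exists_le_maximal hV₀
    refine ⟨M, hM.1, fun V hV => ?_⟩
    obtain ⟨M', hVM', hM'⟩ := (Set.toFinite U).exists_le_maximal hV
    exact (huniq M M' hM hM') ▸ hVM'
  intro V W hV hW
  by_contra hne
  let Pr : Set (Subgroup G × Subgroup G) :=
    {vw | Maximal (· ∈ U) vw.1 ∧ Maximal (· ∈ U) vw.2 ∧ vw.1 ≠ vw.2}
  obtain ⟨⟨V, W⟩, ⟨hV, hW, hne⟩, hmax⟩ := Set.exists_max_image Pr
    (fun vw => (S vw.1 ∩ S vw.2).ncard) (Set.toFinite _) ⟨(V, W), hV, hW, hne⟩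
  set T := S V ∩ S W with hT
  set J := (sSup T : Subgroup G) with hJ
  obtain ⟨X, hXU, hX⟩ := h3 V hV.1 W hW.1
  obtain ⟨X', hXX', hX'⟩ := (Set.toFinite U).exists_le_maximal hXU
  have hconjS : ∀ Y : Subgroup G, ∀ v ∈ Y, ∀ B ∈ S Y, MulAut.conj v • B ∈ S Y := by
    intro Y v hv B hB
    obtain ⟨⟨g, rfl⟩, hBY, hBs⟩ := (hS Y B).1 hB
    have hYv : MulAut.conj v • Y = Y :=
      Cfsg.Agent.SolvBasic.conjSmul_eq_self_of_mem_normalizer (Subgroup.le_normalizer hv)
    refine (hS Y _).2 ⟨⟨v * g, Cfsg.Agent.SolvBasic.conjSmul_conjSmul _ _ _⟩, ?_, ?_⟩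
    · exact (Subgroup.pointwise_smul_le_pointwise_smul_iff.2 hBY).trans hYv.le
    · have h1 := hBs.map (f := (MulAut.conj (⟨v, hv⟩ : Y)).toMonoidHom)
        (MulAut.conj (⟨v, hv⟩ : Y)).surjective
      convert h1 using 1
      ext z
      rw [Subgroup.mem_subgroupOf, Cfsg.Agent.SolvBasic.mem_conjSmul, Subgroup.mem_map_equiv,
        Subgroup.mem_subgroupOf]
      simp
  have hTVX : ∀ B ∈ S V, B ≤ X' → B ∈ S X' := fun B hB hle => h2 X' hX'.1 V hV.1 B hB hle
  have hJn : J ≤ X' := (Subgroup.le_normalizer.trans hX).trans hXX'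
  have key : ∀ Y : Subgroup G, Maximal (· ∈ U) Y → T ⊆ S Y → (Y = V ∨ Y = W) → T ≠ S Y → X' = Y := by
    intro Y hY hTY hYVW hTne
    by_contra hXY
    obtain ⟨B', ⟨B, hB, rfl⟩, hBT, hBn⟩ := Cfsg.Agent.S0539.result (G := Y)
      ((fun B => B.subgroupOf Y) '' S Y) ((fun B => B.subgroupOf Y) '' T)
      (by rintro _ ⟨B, hB, rfl⟩; exact ((hS Y B).1 hB).2.2)
      (by
        rintro _ ⟨B, hB, rfl⟩ v
        refine ⟨_, hconjS Y v v.2 B hB, ?_⟩
        ext z
        simp [Subgroup.mem_subgroupOf, Cfsg.Agent.SolvBasic.mem_conjSmul])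
      ⟨Set.image_mono hTY, fun hle => hTne (hTY.antisymm fun B hB => by
        obtain ⟨B', hB', he⟩ := hle ⟨B, hB, rfl⟩
        have h4 := congrArg (Subgroup.map Y.subtype) he
        rw [Subgroup.map_subgroupOf_eq_of_le ((hS Y B).1 hB).2.1,
          Subgroup.map_subgroupOf_eq_of_le ((hS Y B').1 (hTY hB')).2.1] at h4
        exact h4 ▸ hB')⟩
    have hTle : J ≤ Y := sSup_le fun C hC => ((hS Y C).1 (hTY hC)).2.1
    have hsupm : sSup ((fun B => B.subgroupOf Y) '' T) = J.subgroupOf Y := by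
      apply Subgroup.map_injective Y.subtype_injective
      rw [Subgroup.map_subgroupOf_eq_of_le hTle, hJ, sSup_image, Subgroup.map_iSup, sSup_eq_iSup]
      refine iSup_congr fun C => ?_
      rw [Subgroup.map_iSup]
      refine iSup_congr fun hC => ?_
      exact Subgroup.map_subgroupOf_eq_of_le ((hS Y C).1 (hTY hC)).2.1
    have hBX : B ≤ X' := fun b hb => by
      have h1 := hBn (show (⟨b, ((hS Y B).1 hB).2.1 hb⟩ : Y) ∈ B.subgroupOf Y from hb)
      rw [hsupm, ← Subgroup.subgroupOf_normalizer_eq hTle] at h1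
      exact hXX' (hX h1)
    have hBT' : B ∉ T := fun h0 => hBT ⟨B, h0, rfl⟩
    have hbig : insert B T ⊆ S Y ∩ S X' := by
      intro C hC
      rcases hC with rfl | hC
      · exact ⟨hB, h2 X' hX'.1 Y hY.1 C hB hBX⟩
      · exact ⟨hTY hC, h2 X' hX'.1 V hV.1 C hC.1
          ((le_sSup (α := Subgroup G) hC).trans hJn)⟩
    have h5 : (S Y ∩ S X').ncard ≤ T.ncard := hmax (Y, X') ⟨hY, hX', fun h0 => hXY h0.symm⟩
    have h6 := Set.ncard_le_ncard hbig (Set.toFinite _)
    rw [Set.ncard_insert_of_notMem hBT' (Set.toFinite _)] at h6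
    omega
  have hfull : ∀ Y : Subgroup G, (Y = V ∨ Y = W) → T = S Y → Y ≤ X' := by
    intro Y _ hTY y hy
    refine hXX' (hX ?_)
    rw [Cfsg.Agent.SolvBasic.mem_normalizer_iff_conjSmul]
    refine Subgroup.eq_of_le_of_card_ge ?_ (Cfsg.Agent.SolvBasic.card_conjSmul y _).ge
    rw [Subgroup.pointwise_smul_subset_iff]
    refine sSup_le fun C hC => ?_
    rw [← Subgroup.pointwise_smul_subset_iff]
    refine le_sSup (α := Subgroup G) ?_
    show MulAut.conj y • C ∈ T
    rw [hTY]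
    exact hconjS Y y hy C (hTY ▸ hC)
  by_cases hTV : T = S V
  · have hVX : V ≤ X' := hfull V (Or.inl rfl) hTV
    have h1 : X' = V := le_antisymm (hV.2 hX'.1 hVX) hVX
    by_cases hTW : T = S W
    · have hWV : W ≤ V := h1 ▸ hfull W (Or.inr rfl) hTW
      exact hne (le_antisymm (hW.2 hV.1 hWV) hWV)
    · exact hne (h1.symm.trans (key W hW Set.inter_subset_right (Or.inr rfl) hTW))
  · have h1 : X' = V := key V hV Set.inter_subset_left (Or.inl rfl) hTV
    by_cases hTW : T = S W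
    · have hWV : W ≤ V := h1 ▸ hfull W (Or.inr rfl) hTW
      exact hne (le_antisymm (hW.2 hV.1 hWV) hWV)
    · exact hne (h1.symm.trans (key W hW Set.inter_subset_right (Or.inr rfl) hTW))

end Cfsg.Agent.S0540
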