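import Cfsg.Statements.S0541
import Cfsg.Agent.S0539

set_option autoImplicit false
open scoped Pointwise commutatorElement
open Pointwise
open Cfsg

namespace Cfsg.Agent.S0541

/-- Let Z and Y be subgroups of a finite group G and p a prime. Suppose that for every g in G the subgroup generated by the conjugates of g Z g⁻¹ under Y is a p-group. Then there is a Sylow p-subgroup P of G such that Y normalizes the subgroup generated by all conjugates of Z contained in P. -/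
theorem result {G : Type*} [Group G] [Finite G] (p : ℕ) [Fact p.Prime] (Z Y : Subgroup G) (h : ∀ g : G, IsPGroup p ↥(⨆ y ∈ Y, MulAut.conj (y * g) • Z)) : ∃ P : Sylow p G, Y ≤ Subgroup.normalizer ((⨆ g ∈ {g : G | MulAut.conj g • Z ≤ (P : Subgroup G)}, MulAut.conj g • Z : Subgroup G) : Set G) := by
  classical
  let Φ : Set (Set (Subgroup G)) := {T | (∀ W ∈ T, ∃ g : G, W = MulAut.conj g • Z) ∧
    (∀ y ∈ Y, ∀ W ∈ T, MulAut.conj y • W ∈ T) ∧ IsPGroup p (sSup T : Subgroup G)}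
  obtain ⟨T, ⟨hT1, hT2, hT3⟩, hmax⟩ := Set.Finite.exists_maximal (s := Φ) (Set.toFinite _)
    ⟨∅, by simp, by simp, by rw [sSup_empty]; exact IsPGroup.of_bot⟩
  obtain ⟨P, hP⟩ := hT3.exists_le_sylow
  set J := sSup T with hJ
  set TP : Set (Subgroup G) := {W | (∃ g : G, W = MulAut.conj g • Z) ∧ W ≤ (P : Subgroup G)}
    with hTP
  have hsub : T ⊆ TP := fun W hW => ⟨hT1 W hW, (le_sSup hW).trans hP⟩
  refine ⟨P, ?_⟩
  have hWeq : (⨆ g ∈ {g : G | MulAut.conj g • Z ≤ (P : Subgroup G)}, MulAut.conj g • Z) = sSup TP :=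
    le_antisymm (iSup₂_le fun g hg => le_sSup ⟨⟨g, rfl⟩, hg⟩) (sSup_le fun W hW => by
      obtain ⟨⟨g, rfl⟩, hg⟩ := hW
      exact le_iSup₂_of_le g hg le_rfl)
  rw [hWeq]
  have hJY : Y ≤ Subgroup.normalizer (J : Set G) := fun y hy => by
    rw [Cfsg.Agent.SolvBasic.mem_normalizer_iff_conjSmul]
    refine Subgroup.eq_of_le_of_card_ge ?_ (Cfsg.Agent.SolvBasic.card_conjSmul y J).ge
    rw [Subgroup.pointwise_smul_subset_iff]
    exact sSup_le fun W hW => Subgroup.pointwise_smul_subset_iff.1 (le_sSup (hT2 y hy W hW))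
  rcases hsub.eq_or_ssubset with he | hss
  · rwa [← he]
  exfalso
  have := P.isPGroup'.isNilpotent
  let m : Subgroup G → Subgroup (P : Subgroup G) := fun W => W.subgroupOf (P : Subgroup G)
  have hm : ∀ {W W' : Subgroup G}, W ∈ TP → W' ∈ TP → m W = m W' → W = W' := by
    intro W W' hW hW' he
    have h1 := congrArg (Subgroup.map (P : Subgroup G).subtype) he
    rwa [Subgroup.map_subgroupOf_eq_of_le hW.2, Subgroup.map_subgroupOf_eq_of_le hW'.2] at h1
  obtain ⟨X, ⟨W, hW, rfl⟩, hX, hXn⟩ := Cfsg.Agent.S0539.result (G := (P : Subgroup G))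
    (m '' TP) (m '' T) (fun _ _ => Cfsg.Agent.LEWielandt.isSubnormal_of_isNilpotent _)
    (by
      rintro _ ⟨W, hW, rfl⟩ x
      obtain ⟨⟨g, rfl⟩, hg⟩ := hW
      refine ⟨MulAut.conj (x : G) • MulAut.conj g • Z, ⟨⟨(x : G) * g,
        (Cfsg.Agent.SolvBasic.conjSmul_conjSmul _ _ _)⟩, ?_⟩, ?_⟩
      · refine le_trans ?_ (Cfsg.Agent.SolvBasic.conjSmul_eq_self_of_mem_normalizer
          (Subgroup.le_normalizer x.2 : (x : G) ∈ Subgroup.normalizer ((P : Subgroup G) : Set G))).le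
        exact Subgroup.pointwise_smul_le_pointwise_smul_iff.2 hg
      · ext z
        simp [m, Subgroup.mem_subgroupOf, Cfsg.Agent.SolvBasic.mem_conjSmul])
    ⟨Set.image_mono hsub, fun hle => by
      obtain ⟨W, hW, hWT⟩ := Set.exists_of_ssubset hss
      obtain ⟨W', hW', he⟩ := hle ⟨W, hW, rfl⟩
      exact hWT (hm hW (hsub hW') he.symm ▸ hW')⟩
  have hWT : W ∉ T := fun h0 => hX ⟨W, h0, rfl⟩
  have hsupm : sSup (m '' T) = J.subgroupOf (P : Subgroup G) := by
    apply Subgroup.map_injective (P : Subgroup G).subtype_injective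
    rw [Subgroup.map_subgroupOf_eq_of_le hP, hJ, sSup_image, Subgroup.map_iSup, sSup_eq_iSup]
    refine iSup_congr fun V => ?_
    rw [Subgroup.map_iSup]
    refine iSup_congr fun hV => ?_
    exact Subgroup.map_subgroupOf_eq_of_le (hsub hV).2
  have hWJ : W ≤ Subgroup.normalizer (J : Set G) := fun w hw => by
    have h1 := hXn (show (⟨w, hW.2 hw⟩ : (P : Subgroup G)) ∈ m W from hw)
    rw [hsupm, ← Subgroup.subgroupOf_normalizer_eq hP] at h1
    exact h1
  obtain ⟨⟨g, hg⟩, hgP⟩ := hW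
  let O : Set (Subgroup G) := {V | ∃ y ∈ Y, V = MulAut.conj y • W}
  have hO : sSup O = ⨆ y ∈ Y, MulAut.conj (y * g) • Z := by
    refine le_antisymm (sSup_le ?_) (iSup₂_le fun y hy => le_sSup ⟨y, hy, ?_⟩)
    · rintro _ ⟨y, hy, rfl⟩
      rw [hg, Cfsg.Agent.SolvBasic.conjSmul_conjSmul]
      exact le_iSup₂_of_le y hy le_rfl
    · rw [hg, Cfsg.Agent.SolvBasic.conjSmul_conjSmul]
  have hOn : sSup O ≤ Subgroup.normalizer (J : Set G) := sSup_le fun V hV => by
    obtain ⟨y, hy, rfl⟩ := hV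
    rw [← Cfsg.Agent.SolvBasic.conjSmul_eq_self_of_mem_normalizer (hJY hy),
      Cfsg.Agent.SolvBasic.normalizer_conjSmul]
    exact Subgroup.pointwise_smul_le_pointwise_smul_iff.2 hWJ
  have hbig : T ∪ O ∈ Φ := by
    refine ⟨fun V hV => ?_, fun y hy V hV => ?_, ?_⟩
    · rcases hV with hV | ⟨y, hy, rfl⟩
      · exact hT1 V hV
      · exact ⟨y * g, by rw [hg, Cfsg.Agent.SolvBasic.conjSmul_conjSmul]⟩
    · rcases hV with hV | ⟨y', hy', rfl⟩
      · exact Or.inl (hT2 y hy V hV)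
      · exact Or.inr ⟨y * y', Y.mul_mem hy hy', Cfsg.Agent.SolvBasic.conjSmul_conjSmul _ _ _⟩
    · rw [sSup_union, sup_comm]
      exact (hO ▸ h g).to_sup_of_normal_right' hT3 hOn
  exact hWT (hmax hbig Set.subset_union_left (Or.inr ⟨1, Y.one_mem, by
    rw [Cfsg.Agent.SolvBasic.conjSmul_one]⟩))

end Cfsg.Agent.S0541
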