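import Cfsg.Statements.S0543
import Cfsg.Agent.Lib.Solvable.Hall

set_option autoImplicit false
open Pointwise
open Cfsg

namespace Cfsg.Agent.S0543

/-- In a finite solvable group any two Hall complement systems are simultaneously conjugate: one element conjugates every member of the first system to the corresponding member of the second. -/
theorem result {G : Type*} [Group G] [Finite G] [Group.IsSolvable G] (K L : Nat.Primes → Subgroup G) (hK : Cfsg.IsComplementSystem K) (hL : Cfsg.IsComplementSystem L) : ∃ g : G, ∀ p : Nat.Primes, MulAut.conj g • K p = L p := by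
  refine Cfsg.Agent.HallSolv.complementSystem_conj hL fun p => ?_
  have hpos : 0 < (p : ℕ) ^ (Nat.card G).factorization p := pow_pos p.2.pos _
  have h1 := (K p).card_mul_index
  have h2 := (L p).card_mul_index
  rw [hK p] at h1
  rw [hL p] at h2
  have hcop : (Nat.card (K p)).Coprime ((p : ℕ) ^ (Nat.card G).factorization p) := by
    refine (Nat.Coprime.pow_left _ ?_).symm
    rw [Nat.Prime.coprime_iff_not_dvd p.2]
    intro hd
    have h3 : (p : ℕ) ^ ((Nat.card G).factorization p + 1) ∣ Nat.card G := by
      obtain ⟨c, hc⟩ := hd
      exact ⟨c, h1.symm.trans (by rw [hc, pow_succ]; ring)⟩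
    have := (p.2.pow_dvd_iff_le_factorization (Nat.card_pos (α := G)).ne').1 h3
    omega
  exact Cfsg.Agent.HallSolv.hall_conj h1.symm hcop rfl
    (Nat.eq_of_mul_eq_mul_right hpos (h2.trans h1.symm))

end Cfsg.Agent.S0543
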