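import Cfsg.Statements.S0547
import Cfsg.Agent.Lib.Solvable.Primitive

set_option autoImplicit false
open scoped Pointwise commutatorElement
open Cfsg

namespace Cfsg.Agent.S0547

/-- Let a finite solvable group G act faithfully and primitively on a set, and let M be a minimal normal subgroup of G. Then M is transitive with trivial point stabilizers, and the number of points equals the order of M, which is a prime power p ^ d with d ≥ 1. -/
theorem result {G : Type*} [Group G] [Finite G] [Group.IsSolvable G] {Ω : Type*} [Nonempty Ω] [MulAction G Ω] [FaithfulSMul G Ω] (hprim : MulAction.IsPreprimitive G Ω) (M : Subgroup G) [M.Normal] (hM : M ≠ ⊥) (hmin : ∀ K : Subgroup G, K.Normal → K ≤ M → K = ⊥ ∨ K = M) : MulAction.IsPretransitive M Ω ∧ (∀ ω : Ω, MulAction.stabilizer M ω = ⊥) ∧ ∃ p d : ℕ, p.Prime ∧ 0 < d ∧ Nat.card Ω = p ^ d ∧ Nat.card M = p ^ d := by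
  obtain ⟨ω₀⟩ := ‹Nonempty Ω›
  have : Nontrivial G := by
    by_contra h
    rw [not_nontrivial_iff_subsingleton] at h
    exact hM (Subsingleton.elim _ _)
  have := Cfsg.Agent.SolvBasic.isMulCommutative_of_minimal_normal hM hmin
  have hc : ∀ ω : Ω, Subgroup.IsComplement' M (MulAction.stabilizer G ω) := fun ω =>
    Cfsg.Agent.SolvPrim.complement_of_abelian (Cfsg.Agent.SolvPrim.stabilizer_coatom hprim ω).1
      (Cfsg.Agent.SolvPrim.stabilizer_coatom hprim ω).2 hM
  have := hprim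
  have htr : MulAction.IsPretransitive M Ω := by
    refine ⟨fun x y => ?_⟩
    obtain ⟨g, hg⟩ := MulAction.exists_smul_eq G x y
    obtain ⟨⟨⟨m, hm⟩, ⟨h, hh⟩⟩, he⟩ := (hc x).2 g
    refine ⟨⟨m, hm⟩, ?_⟩
    rw [← hg, ← he]
    change m • x = (m * h) • x
    rw [mul_smul, MulAction.mem_stabilizer_iff.1 hh]
  refine ⟨htr, fun ω => ?_, ?_⟩
  · rw [eq_bot_iff]
    intro m hm
    rw [Subgroup.mem_bot]
    exact Subtype.ext ((Subgroup.mem_bot.1 ((hc ω).disjoint.eq_bot ▸
      (⟨m.2, hm⟩ : (m : G) ∈ M ⊓ MulAction.stabilizer G ω))))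
  · obtain ⟨p, hp, -, hpg⟩ := Cfsg.Agent.SolvBasic.exists_prime_exponent_of_minimal_normal hM hmin
    have : Fact p.Prime := ⟨hp⟩
    obtain ⟨d, hd⟩ := hpg.exists_card_eq
    refine ⟨p, d, hp, Nat.pos_of_ne_zero fun h0 => hM (Subgroup.eq_bot_of_card_eq _ ?_), ?_, hd⟩
    · rw [hd, h0, pow_zero]
    · have h1 := (hc ω₀).card_mul
      rw [← (MulAction.stabilizer G ω₀).index_mul_card] at h1
      rw [← MulAction.index_stabilizer_of_transitive G ω₀,
        ← Nat.eq_of_mul_eq_mul_right Nat.card_pos h1, hd]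

end Cfsg.Agent.S0547
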