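import Cfsg.Statements.S0548
import Cfsg.Agent.Lib.Solvable.Primitive

set_option autoImplicit false
open scoped Pointwise commutatorElement
open Cfsg

namespace Cfsg.Agent.S0548

/-- Let a finite solvable group G act faithfully and primitively on a set, let M be a minimal normal subgroup and H the stabilizer of a point. Then H is a complement to M, no non-identity element of H centralizes M, and the only subgroups of M normalized by H are the trivial subgroup and M. -/
theorem result {G : Type*} [Group G] [Finite G] [Group.IsSolvable G] {Ω : Type*} [MulAction G Ω] [FaithfulSMul G Ω] (hprim : MulAction.IsPreprimitive G Ω) (M : Subgroup G) [M.Normal] (hM : M ≠ ⊥) (hmin : ∀ K : Subgroup G, K.Normal → K ≤ M → K = ⊥ ∨ K = M) (ω : Ω) : Subgroup.IsComplement' M (MulAction.stabilizer G ω) ∧ MulAction.stabilizer G ω ⊓ Subgroup.centralizer (M : Set G) = ⊥ ∧ ∀ K : Subgroup G, K ≤ M → MulAction.stabilizer G ω ≤ Subgroup.normalizer (K : Set G) → K = ⊥ ∨ K = M := by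
  have : Nontrivial G := by
    by_contra h
    rw [not_nontrivial_iff_subsingleton] at h
    exact hM (Subsingleton.elim _ _)
  have := Cfsg.Agent.SolvBasic.isMulCommutative_of_minimal_normal hM hmin
  obtain ⟨hU, hcore⟩ := Cfsg.Agent.SolvPrim.stabilizer_coatom hprim ω
  refine ⟨Cfsg.Agent.SolvPrim.complement_of_abelian hU hcore hM, ?_, fun K hK hn => ?_⟩
  · rw [inf_comm]; exact Cfsg.Agent.SolvPrim.centralizer_inf_eq_bot hU hcore hM
  · refine hmin K (Subgroup.normalizer_eq_top_iff.1 (top_le_iff.1 ?_)) hK
    rw [← Cfsg.Agent.SolvPrim.sup_eq_top hU hcore ‹M.Normal› hM]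
    refine sup_le ?_ hn
    refine le_trans ?_ (Subgroup.centralizer_le_normalizer _)
    exact (Subgroup.le_centralizer M).trans (Subgroup.centralizer_le hK)

end Cfsg.Agent.S0548
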