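import Cfsg.Statements.S0550
import Cfsg.Agent.Lib.Solvable.Primitive

set_option autoImplicit false
open scoped Pointwise commutatorElement
open Cfsg

namespace Cfsg.Agent.S0550

/-- Let U be a maximal subgroup with trivial normal core in a finite group G, and A ≠ B two minimal normal subgroups. Then A is the centralizer of B and B that of A, U complements each of them, A and B are non-abelian, and A, B and (A ⊔ B) ∩ U are pairwise isomorphic. -/
theorem result {G : Type*} [Group G] [Finite G] (U : Subgroup G) (hU : IsCoatom U) (hcore : U.normalCore = ⊥) (A B : Subgroup G) [A.Normal] [B.Normal] (hA : A ≠ ⊥) (hB : B ≠ ⊥) (hAmin : ∀ K : Subgroup G, K.Normal → K ≤ A → K = ⊥ ∨ K = A) (hBmin : ∀ K : Subgroup G, K.Normal → K ≤ B → K = ⊥ ∨ K = B) (hAB : A ≠ B) : Subgroup.centralizer (B : Set G) = A ∧ Subgroup.centralizer (A : Set G) = B ∧ Subgroup.IsComplement' A U ∧ Subgroup.IsComplement' B U ∧ ¬ IsMulCommutative A ∧ Nonempty (A ≃* B)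 ∧ Nonempty (A ≃* ↥((A ⊔ B) ⊓ U)) := by
  have hAB0 : A ⊓ B = ⊥ := by
    refine (hAmin (A ⊓ B) inferInstance inf_le_left).resolve_right fun h => ?_
    rcases hBmin A inferInstance (inf_eq_left.1 h) with hb | hb
    · exact hA hb
    · exact hAB hb
  have hcomm : ⁅A, B⁆ = ⊥ := le_bot_iff.1 (hAB0 ▸ Subgroup.commutator_le_inf A B)
  have hAc : A ≤ Subgroup.centralizer (B : Set G) :=
    Subgroup.commutator_eq_bot_iff_le_centralizer.1 hcomm
  have hBc : B ≤ Subgroup.centralizer (A : Set G) :=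
    Subgroup.commutator_eq_bot_iff_le_centralizer.1 (by rw [Subgroup.commutator_comm]; exact hcomm)
  have eA : Subgroup.centralizer (B : Set G) = A :=
    ((Cfsg.Agent.SolvPrim.centralizer_minimal hU hcore hB ‹A.Normal› hAc).resolve_left hA).symm
  have eB : Subgroup.centralizer (A : Set G) = B :=
    ((Cfsg.Agent.SolvPrim.centralizer_minimal hU hcore hA ‹B.Normal› hBc).resolve_left hB).symm
  have hAU : A ⊓ U = ⊥ := eA ▸ Cfsg.Agent.SolvPrim.centralizer_inf_eq_bot hU hcore hB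
  have hBU : B ⊓ U = ⊥ := eB ▸ Cfsg.Agent.SolvPrim.centralizer_inf_eq_bot hU hcore hA
  have key : ∀ (X Y : Subgroup G) [X.Normal] [Y.Normal], X ⊓ Y = ⊥ → Y ⊓ U = ⊥ → Y ⊔ U = ⊤ →
      Nonempty (X ≃* ((X ⊔ Y) ⊓ U : Subgroup G)) := by
    intro X Y _ _ hXY hYU htop
    have h2 : ((X ⊔ Y) ⊓ U) ⊓ Y = ⊥ :=
      le_bot_iff.1 ((le_inf inf_le_right (inf_le_left.trans inf_le_right)).trans hYU.le)
    refine ⟨(Cfsg.Agent.SolvPrim.equivMapMk hXY).trans ((MulEquiv.subgroupCongr ?_).trans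
      (Cfsg.Agent.SolvPrim.equivMapMk h2).symm)⟩
    apply le_antisymm
    · rintro _ ⟨x, hx, rfl⟩
      obtain ⟨y, hy, u, hu, rfl⟩ := (Cfsg.Agent.SolvBasic.mem_sup_iff_of_le_normalizer
        (by rw [Subgroup.normalizer_eq_top]; exact le_top)).1 (htop ▸ Subgroup.mem_top x)
      refine ⟨u, ⟨?_, hu⟩, ?_⟩
      · have := mul_mem (inv_mem (Subgroup.mem_sup_right (S := X) hy))
          (Subgroup.mem_sup_left (T := Y) hx)
        rwa [← mul_assoc, inv_mul_cancel, one_mul] at this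
      · have h0 : QuotientGroup.mk' Y y = 1 := (QuotientGroup.eq_one_iff y).2 hy
        rw [map_mul, h0, one_mul]
    · rintro _ ⟨x, ⟨hx, -⟩, rfl⟩
      have h3 := Subgroup.mem_map_of_mem (QuotientGroup.mk' Y) hx
      rwa [Subgroup.map_sup, QuotientGroup.map_mk'_self, sup_bot_eq] at h3
  have hA' : A ⊔ U = ⊤ := Cfsg.Agent.SolvPrim.sup_eq_top hU hcore ‹A.Normal› hA
  have hB' : B ⊔ U = ⊤ := Cfsg.Agent.SolvPrim.sup_eq_top hU hcore ‹B.Normal› hB
  obtain ⟨f⟩ := key A B hAB0 hBU hB'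
  obtain ⟨f'⟩ := key B A (by rw [inf_comm]; exact hAB0) hAU hA'
  refine ⟨eA, eB, Cfsg.Agent.SolvPrim.isComplement' hAU hA',
    Cfsg.Agent.SolvPrim.isComplement' hBU hB', fun hc => hA ?_,
    ⟨f.trans ((MulEquiv.subgroupCongr (by rw [sup_comm])).trans f'.symm)⟩, ⟨f⟩⟩
  have := hc
  exact le_bot_iff.1 ((le_inf le_rfl ((Subgroup.le_centralizer A).trans eB.le)).trans hAB0.le)

end Cfsg.Agent.S0550
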