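import Cfsg.Statements.S0551
import Cfsg.Agent.Lib.Solvable.Primitive
import Cfsg.Agent.Lib.Solvable.Hall
import Cfsg.Agent.Lib.Solvable.SchurZassenhaus

set_option autoImplicit false
open scoped Pointwise commutatorElement
open Pointwise
open Cfsg

namespace Cfsg.Agent.S0551

/-- In a finite solvable group all core-free maximal subgroups are conjugate. -/
theorem result {G : Type*} [Group G] [Finite G] [Group.IsSolvable G] (U V : Subgroup G) (hU : IsCoatom U) (hV : IsCoatom V) (hUc : U.normalCore = ⊥) (hVc : V.normalCore = ⊥) : ∃ g : G, MulAut.conj g • U = V := by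
  rcases subsingleton_or_nontrivial G with hs | hs
  · exact absurd (Subsingleton.elim U ⊤) hU.1
  obtain ⟨M, p, hp, hMn, hM, -, hMc, -, hMp, hMmin⟩ :=
    Cfsg.Agent.SolvBasic.exists_minimal_normal_abelian (N := (⊤ : Subgroup G)) inferInstance
      (by exact top_ne_bot)
  have hMU := Cfsg.Agent.SolvPrim.complement_of_abelian hU hUc hM
  have hMV := Cfsg.Agent.SolvPrim.complement_of_abelian hV hVc hM
  by_cases hU0 : U = ⊥
  · refine ⟨1, ?_⟩
    subst hU0
    have h1 : Nat.card M = Nat.card G := by simpa using hMU.card_mul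
    have hV0 : V = ⊥ := by
      refine Subgroup.eq_bot_of_card_eq _ ?_
      have := hMV.card_mul
      rw [h1] at this
      exact mul_left_cancel₀ Nat.card_pos.ne' (this.trans (mul_one _).symm)
    simp [hV0]
  have hQne : Nontrivial (G ⧸ M) := by
    rw [← Finite.one_lt_card_iff_nontrivial]
    have h1 : M.index = Nat.card U := by
      have := hMU.card_mul
      rw [← M.card_mul_index] at this
      exact (mul_left_cancel₀ Nat.card_pos.ne' this).symm
    rw [← Subgroup.index_eq_card, h1]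
    exact Subgroup.one_lt_card_iff_ne_bot U |>.2 hU0
  obtain ⟨L₀, q, hq, hL₀n, hL₀, -, -, -, hL₀q, -⟩ :=
    Cfsg.Agent.SolvBasic.exists_minimal_normal_abelian (N := (⊤ : Subgroup (G ⧸ M))) inferInstance
      (by exact top_ne_bot)
  set L := L₀.comap (QuotientGroup.mk' M) with hL
  have hLn : L.Normal := hL₀n.comap _
  have hML : M ≤ L := fun x hx => by
    rw [hL, Subgroup.mem_comap]
    simp [(QuotientGroup.eq_one_iff x).2 hx, one_mem]
  have : Fact q.Prime := ⟨hq⟩
  have : Fact p.Prime := ⟨hp⟩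
  obtain ⟨k, hk⟩ := hL₀q.exists_card_eq
  have hLcard : Nat.card L = Nat.card M * q ^ k := hk ▸ Cfsg.Agent.HallSolv.card_comap_mk M L₀
  have hCM := Cfsg.Agent.SolvPrim.centralizer_eq_self hU hUc hM
  have hcop : (q ^ k).Coprime (Nat.card M) := by
    obtain ⟨i, hi⟩ := hMp.exists_card_eq
    rw [hi]
    refine Nat.Coprime.pow _ _ ((Nat.coprime_primes hq hp).2 fun hqp => ?_)
    subst hqp
    have hLp : IsPGroup q L := IsPGroup.of_card (n := i + k) (by rw [hLcard, hi, pow_add])
    have := hLp.isNilpotent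
    have hne : M.subgroupOf L ≠ ⊥ := fun h0 => hM (by
      rw [Subgroup.subgroupOf_eq_bot, disjoint_iff, inf_eq_left.2 hML] at h0; exact h0)
    have hW : M ⊓ Subgroup.centralizer (L : Set G) ≠ ⊥ := by
      intro h0
      refine Cfsg.Agent.SolvStruct.inf_center_ne_bot hne (le_bot_iff.1 fun x hx => ?_)
      have h1 : (x : G) ∈ M ⊓ Subgroup.centralizer (L : Set G) := by
        refine Subgroup.mem_inf.2 ⟨(Subgroup.mem_inf.1 hx).1, ?_⟩
        rw [Subgroup.mem_centralizer_iff]
        intro y hy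
        exact congrArg Subtype.val (Subgroup.mem_center_iff.1 (Subgroup.mem_inf.1 hx).2 ⟨y, hy⟩)
      rw [h0, Subgroup.mem_bot] at h1
      exact Subgroup.mem_bot.2 (Subtype.ext h1)
    have h2 := (hMmin _ inferInstance inf_le_left).resolve_left hW
    have h3 : L ≤ M := by
      rw [← hCM, Subgroup.le_centralizer_iff]
      exact inf_eq_left.1 h2
    apply hL₀
    rw [eq_bot_iff]
    intro z hz
    obtain ⟨y, rfl⟩ := QuotientGroup.mk'_surjective M z
    exact Subgroup.mem_bot.2 ((QuotientGroup.eq_one_iff y).2 (h3 hz))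
  have hk0 : q ^ k ≠ 1 := fun h0 => hL₀ (Subgroup.eq_bot_of_card_eq _ (hk.trans h0))
  have hNM : ∀ X : Subgroup G, X ≤ Subgroup.normalizer (M : Set G) := fun X => by
    rw [Subgroup.normalizer_eq_top]; exact le_top
  have key : ∀ W : Subgroup G, IsCoatom W → W.normalCore = ⊥ → Subgroup.IsComplement' M W →
      M ⊔ (L ⊓ W) = L ∧ Nat.card (L ⊓ W : Subgroup G) = q ^ k ∧
      Subgroup.normalizer ((L ⊓ W : Subgroup G) : Set G) = W := by
    intro W hW hWc hMW
    have h1 : M ⊔ (L ⊓ W) = L := by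
      refine le_antisymm (sup_le hML inf_le_left) fun x hx => ?_
      obtain ⟨m, hm, w, hw, rfl⟩ := Cfsg.Agent.SolvPrim.exists_mul hW hWc hMn hM x
      refine mul_mem (Subgroup.mem_sup_left hm) (Subgroup.mem_sup_right ⟨?_, hw⟩)
      have := mul_mem (inv_mem (hML hm)) hx
      rwa [← mul_assoc, inv_mul_cancel, one_mul] at this
    have h2 : Nat.card (L ⊓ W : Subgroup G) = q ^ k := by
      have := Cfsg.Agent.SolvBasic.card_sup_of_inf_eq_bot (hNM (L ⊓ W)) (le_bot_iff.1
        ((inf_le_inf_left M inf_le_right).trans hMW.disjoint.eq_bot.le))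
      rw [h1, hLcard] at this
      exact (mul_left_cancel₀ Nat.card_pos.ne' this).symm
    refine ⟨h1, h2, ((hW.le_iff).1 fun w hw => ?_).resolve_left fun h0 => ?_⟩
    · rw [Cfsg.Agent.SolvBasic.mem_normalizer_iff_conjSmul]
      ext x
      rw [Cfsg.Agent.SolvBasic.mem_conjSmul, Subgroup.mem_inf, Subgroup.mem_inf]
      refine and_congr ⟨fun h => ?_, fun h => hLn.conj_mem' x h w⟩
        ⟨fun h => ?_, fun h => mul_mem (mul_mem (inv_mem hw) h) hw⟩
      · have := hLn.conj_mem _ h w
        simpa [mul_assoc] using this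
      · have := mul_mem (mul_mem hw h) (inv_mem hw)
        simpa [mul_assoc] using this
    · have hn : (L ⊓ W).Normal := Subgroup.normalizer_eq_top_iff.1 h0
      have := Cfsg.Agent.SolvPrim.eq_bot_of_le_coreFree hWc hn inf_le_right
      rw [this, Subgroup.card_bot] at h2
      exact hk0 h2.symm
  obtain ⟨hU1, hU2, hU3⟩ := key U hU hUc hMU
  obtain ⟨hV1, hV2, hV3⟩ := key V hV hVc hMV
  obtain ⟨g, -, hg⟩ := Cfsg.Agent.SchurZ.conj_in (K := M) (hNM (L ⊓ U)) (hU2.symm ▸ hcop)
    (Or.inr inferInstance) (B := L ⊓ V) (by rw [hU1]; exact inf_le_left) (hV2.trans hU2.symm)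
  refine ⟨g, ?_⟩
  rw [← hU3, ← Cfsg.Agent.SolvBasic.normalizer_conjSmul, hg, hV3]

end Cfsg.Agent.S0551
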