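import Cfsg.Statements.S0553
import Cfsg.Agent.Lib.Solvable.Structure
import Cfsg.Agent.Lib.Solvable.Fitting

set_option autoImplicit false
open scoped Pointwise commutatorElement
open Cfsg

namespace Cfsg.Agent.S0553

/-- Let G be a nontrivial finite solvable group in which every maximal subgroup has order coprime to its index. Then for some prime p dividing the order of G the Sylow p-subgroups of G are normal. -/
theorem result {G : Type*} [Group G] [Finite G] [Group.IsSolvable G] [Nontrivial G] (h : ∀ M : Subgroup G, IsCoatom M → (Nat.card M).Coprime M.index) : ∃ p : ℕ, p.Prime ∧ p ∣ Nat.card G ∧ ∀ P : Sylow p G, (P : Subgroup G).Normal := by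
  set P₀ := frattini G with hΦ
  have hfp : P₀ ≠ ⊤ := by
    obtain ⟨M, hM, -⟩ := (eq_top_or_exists_le_coatom (⊥ : Subgroup G)).resolve_left bot_ne_top
    exact fun h0 => hM.1 (top_le_iff.1 (h0 ▸ frattini_le_coatom hM))
  have : Nontrivial (G ⧸ P₀) := by
    rw [← Finite.one_lt_card_iff_nontrivial, ← Subgroup.index_eq_card]
    exact Subgroup.one_lt_index_of_ne_top hfp
  obtain ⟨M₀, p, hp, hM₀n, hM₀, -, hM₀c, -, hM₀p, hM₀min⟩ :=
    Cfsg.Agent.SolvBasic.exists_minimal_normal_abelian (N := (⊤ : Subgroup (G ⧸ P₀))) inferInstance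
      (by exact top_ne_bot)
  have : Fact p.Prime := ⟨hp⟩
  set f := QuotientGroup.mk' P₀ with hf
  have hsur : Function.Surjective f := QuotientGroup.mk'_surjective P₀
  set L := M₀.comap f with hL
  have hLn : L.Normal := hM₀n.comap _
  have hPL : P₀ ≤ L := fun x hx => by
    rw [hL, Subgroup.mem_comap, show f x = 1 from (QuotientGroup.eq_one_iff x).2 hx]
    exact M₀.one_mem
  obtain ⟨H, hH, hLH⟩ : ∃ H : Subgroup G, IsCoatom H ∧ ¬ L ≤ H := by
    by_contra hcon
    push_neg at hcon
    refine hM₀ ?_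
    rw [← Subgroup.map_comap_eq_self_of_surjective hsur M₀, Subgroup.map_eq_bot_iff,
      QuotientGroup.ker_mk', ← hL, hΦ]
    exact le_iInf₂ hcon
  have hPH : P₀ ≤ H := frattini_le_coatom hH
  have htop : L ⊔ H = ⊤ := hH.2 _ (right_lt_sup.2 hLH)
  have hnorm : H ≤ Subgroup.normalizer (L : Set G) := by
    rw [Subgroup.normalizer_eq_top]; exact le_top
  have hLHn : (L ⊓ H).Normal := by
    refine ⟨fun x hx g => ?_⟩
    obtain ⟨hxL, hxH⟩ := Subgroup.mem_inf.1 hx
    obtain ⟨l, hl, u, hu, rfl⟩ := (Cfsg.Agent.SolvBasic.mem_sup_iff_of_le_normalizer hnorm).1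
      (htop ▸ Subgroup.mem_top g)
    have h1 : u * x * u⁻¹ ∈ L := hLn.conj_mem x hxL u
    have h2 : u * x * u⁻¹ ∈ H := H.mul_mem (H.mul_mem hu hxH) (H.inv_mem hu)
    have h3 : l * (u * x * u⁻¹) * l⁻¹ * (u * x * u⁻¹)⁻¹ ∈ P₀ := by
      rw [← QuotientGroup.eq_one_iff]
      change f _ = 1
      rw [map_mul, map_mul, map_mul, map_inv, map_inv,
        setLike_mul_comm (s := M₀) (show f l ∈ M₀ from hl) (show f (u * x * u⁻¹) ∈ M₀ from h1)]
      simp
    have h4 : l * (u * x * u⁻¹) * l⁻¹ ∈ L ⊓ H := by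
      refine Subgroup.mem_inf.2 ⟨L.mul_mem (L.mul_mem hl h1) (L.inv_mem hl), ?_⟩
      have h5 := H.mul_mem (hPH h3) h2
      rwa [inv_mul_cancel_right] at h5
    simpa [mul_assoc] using h4
  have hLHeq : L ⊓ H = P₀ := by
    refine le_antisymm ?_ (le_inf hPL hPH)
    rcases hM₀min _ (hLHn.map _ hsur) (Subgroup.map_le_iff_le_comap.2 inf_le_left) with hb | hb
    · rwa [Subgroup.map_eq_bot_iff, QuotientGroup.ker_mk'] at hb
    · exfalso; apply hLH
      rw [hL, ← hb, Subgroup.comap_map_eq_self (by rw [QuotientGroup.ker_mk']; exact le_inf hPL hPH)]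
      exact inf_le_right
  obtain ⟨k, hk⟩ := hM₀p.exists_card_eq
  have hLcard : Nat.card L = Nat.card P₀ * p ^ k := by
    have h1 := Subgroup.relIndex_mul_relIndex (⊥ : Subgroup G) P₀ L bot_le hPL
    rw [Subgroup.relIndex_bot_left, Subgroup.relIndex_bot_left] at h1
    have h2 : P₀.relIndex L = Nat.card M₀ := by
      have h3 := Subgroup.relIndex_comap ⊥ f L
      rw [Subgroup.map_comap_eq_self_of_surjective hsur, Subgroup.relIndex_bot_left,
        MonoidHom.comap_bot, QuotientGroup.ker_mk'] at h3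
      exact h3
    rw [← h1, h2, hk]
  have hidx : H.index = p ^ k := by
    have h1 := Cfsg.Agent.SolvBasic.card_sup_mul_card_inf hnorm
    rw [htop, hLHeq, Subgroup.card_top, hLcard, ← H.index_mul_card] at h1
    have : H.index * (Nat.card H * Nat.card P₀) = p ^ k * (Nat.card H * Nat.card P₀) := by
      linarith
    exact Nat.eq_of_mul_eq_mul_right (Nat.mul_pos Nat.card_pos Nat.card_pos) this
  have hcop := h H hH
  rw [hidx] at hcop
  have hk0 : k ≠ 0 := by
    rintro rfl
    exact hM₀ (Subgroup.eq_bot_of_card_eq _ (by simpa using hk))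
  have hpH : ¬ p ∣ Nat.card H := fun hd => hp.not_dvd_one
    (hcop ▸ Nat.dvd_gcd hd (dvd_pow_self p hk0))
  have hfac : (Nat.card G).factorization p = k := by
    rw [← H.index_mul_card, hidx, Nat.factorization_mul (pow_ne_zero _ hp.ne_zero) Nat.card_pos.ne',
      Finsupp.add_apply, hp.factorization_pow, Finsupp.single_eq_same,
      Nat.factorization_eq_zero_of_not_dvd hpH, add_zero]
  obtain ⟨Q⟩ := (inferInstance : Nonempty (Sylow p L))
  set Qm := (Q : Subgroup L).map L.subtype with hQm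
  have hQc : Nat.card Qm = p ^ k := by
    rw [hQm, Nat.card_congr ((Q : Subgroup L).equivMapOfInjective _ L.subtype_injective).toEquiv.symm,
      Q.card_eq_multiplicity, hLcard, Nat.factorization_mul Nat.card_pos.ne'
      (pow_ne_zero _ hp.ne_zero), Finsupp.add_apply, hp.factorization_pow, Finsupp.single_eq_same,
      Nat.factorization_eq_zero_of_not_dvd fun hd => hpH (hd.trans (Subgroup.card_dvd_of_le hPH)),
      zero_add]
  have hQtop := Sylow.normalizer_sup_eq_top Q
  have hLQ : L = P₀ ⊔ Qm := by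
    refine (Subgroup.eq_of_le_of_card_ge (sup_le hPL (Subgroup.map_subtype_le _)) ?_).symm
    rw [Cfsg.Agent.SolvBasic.card_sup_of_inf_eq_bot (by
      rw [Subgroup.normalizer_eq_top]; exact le_top) ?_, hQc, hLcard]
    apply Subgroup.eq_bot_of_card_eq
    refine Nat.eq_one_of_dvd_coprimes ((Nat.Coprime.pow_left k (hp.coprime_iff_not_dvd.2 hpH)).symm)
      ((Subgroup.card_dvd_of_le inf_le_left).trans (Subgroup.card_dvd_of_le hPH))
      ((Subgroup.card_dvd_of_le inf_le_right).trans hQc.dvd)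
  have hNtop : Subgroup.normalizer (Qm : Set G) = ⊤ := by
    refine frattini_nongenerating (top_le_iff.1 (hQtop.ge.trans (sup_le le_sup_left ?_)))
    rw [hLQ]
    exact sup_le le_sup_right (Subgroup.le_normalizer.trans le_sup_left)
  have hQn : Qm.Normal := Subgroup.normalizer_eq_top_iff.1 hNtop
  refine ⟨p, hp, ?_, fun P => ?_⟩
  · exact (dvd_pow_self p hk0).trans (hQc ▸ Qm.card_subgroup_dvd_card)
  · have hQP : Qm = (P : Subgroup G) := by
      refine Subgroup.eq_of_le_of_card_ge ?_ (by rw [hQc, P.card_eq_multiplicity, hfac])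
      exact (Cfsg.Agent.FittingCores.le_pCore hQn (Q.isPGroup'.map _)).trans
        (Cfsg.Agent.FittingCores.pCore_le_sylow P)
    exact hQP ▸ hQn

end Cfsg.Agent.S0553
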