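import Cfsg.Statements.S0554
import Cfsg.Agent.Lib.Solvable.Basic

set_option autoImplicit false
open scoped Pointwise commutatorElement
open Cfsg

namespace Cfsg.Agent.S0554

/-- Let G be a finite solvable group and let S assign to each of t distinct primes, including every prime divisor of the order of G, a Sylow subgroup of G. Then every element of G is a product s_0 s_1 ⋯ s_(t-1) with s_i in S i, the factors taken in the given order. -/
theorem result {G : Type*} [Group G] [Finite G] [Group.IsSolvable G] (t : ℕ) (p : Fin t → ℕ) (hp : ∀ i, (p i).Prime) (hinj : Function.Injective p) (hall : ∀ q : ℕ, q.Prime → q ∣ Nat.card G → ∃ i, p i = q) (S : (i : Fin t) → Sylow (p i) G) : ∀ g : G, ∃ s : (i : Fin t) → G, (∀ i, s i ∈ (S i : Subgroup G)) ∧ g = (List.ofFn s).prod := by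
  induction hc : Nat.card G using Nat.strong_induction_on generalizing G with
  | _ n ih =>
  subst hc
  intro g
  rcases subsingleton_or_nontrivial G with hG | hG
  · exact ⟨fun _ => 1, fun i => one_mem _, Subsingleton.elim _ _⟩
  obtain ⟨M, r, hr, hMn, hM, -, -, -, hMr, -⟩ :=
    Cfsg.Agent.SolvBasic.exists_minimal_normal_abelian (N := (⊤ : Subgroup G)) inferInstance
      (by exact top_ne_bot)
  have : Fact r.Prime := ⟨hr⟩
  obtain ⟨j, hj⟩ : ∃ j, p j = r := by
    refine hall r hr ?_
    obtain ⟨k, hk⟩ := hMr.exists_card_eq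
    rcases k with - | k
    · exact absurd (Subgroup.eq_bot_of_card_eq _ (by simpa using hk)) hM
    · exact (dvd_pow_self r (Nat.succ_ne_zero k)).trans (hk ▸ M.card_subgroup_dvd_card)
  subst hj
  have hMS : M ≤ (S j : Subgroup G) := by
    obtain ⟨Q, hQ⟩ := hMr.exists_le_sylow
    obtain ⟨x, hx⟩ := MulAction.exists_smul_eq G Q (S j)
    rw [← hx, Sylow.coe_subgroup_smul]
    intro y hy
    rw [Cfsg.Agent.SolvBasic.mem_conjSmul]
    exact hQ (hMn.conj_mem' y hy x)
  have hlt : Nat.card (G ⧸ M) < Nat.card G := by
    have h1 := M.card_eq_card_quotient_mul_card_subgroup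
    have h2 : 1 < Nat.card M := Finite.one_lt_card_iff_nontrivial.2
      (Subgroup.nontrivial_iff_ne_bot _ |>.2 hM)
    have := Nat.card_pos (α := G ⧸ M)
    nlinarith
  have hfact : ∀ i, Fact (p i).Prime := fun i => ⟨hp i⟩
  obtain ⟨s, hs, hgs⟩ := ih _ hlt (fun q hq hqd => hall q hq
      (hqd.trans M.card_quotient_dvd_card))
    (fun i => (S i).mapSurjective (QuotientGroup.mk'_surjective M)) rfl (QuotientGroup.mk' M g)
  have hs' : ∀ i, ∃ a ∈ (S i : Subgroup G), QuotientGroup.mk' M a = s i := fun i => hs i
  choose a ha has using hs'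
  have hm : (List.ofFn a).prod⁻¹ * g ∈ M := by
    rw [← QuotientGroup.eq_one_iff]
    change QuotientGroup.mk' M _ = 1
    rw [map_mul, map_inv, map_list_prod, List.map_ofFn, hgs, inv_mul_eq_one]
    congr 2
    exact funext has
  have key : ∀ (t : ℕ) (a : Fin t → G) (j : Fin t), ∀ m ∈ M, ∃ m' ∈ M,
      (List.ofFn a).prod * m = (List.ofFn (Function.update a j (a j * m'))).prod := by
    intro t
    induction t with
    | zero => exact fun _ j => j.elim0
    | succ t iht =>
      intro a j m hm
      refine Fin.cases ?_ (fun j => ?_) j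
      · refine ⟨(List.ofFn fun i : Fin t => a i.succ).prod * m *
          (List.ofFn fun i : Fin t => a i.succ).prod⁻¹, hMn.conj_mem m hm _, ?_⟩
        rw [List.ofFn_succ, List.ofFn_succ, List.prod_cons, List.prod_cons, Function.update_self]
        simp only [Function.update_of_ne (Fin.succ_ne_zero _)]
        simp [mul_assoc]
      · obtain ⟨m', hm', he⟩ := iht (fun i => a i.succ) j m hm
        refine ⟨m', hm', ?_⟩
        rw [List.ofFn_succ, List.ofFn_succ, List.prod_cons, List.prod_cons, mul_assoc, he,
          Function.update_of_ne (Fin.succ_ne_zero j).symm]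
        congr 3
        funext i
        by_cases h : i = j
        · subst h; simp
        · rw [Function.update_of_ne h, Function.update_of_ne (fun e => h (Fin.succ_injective _ e))]
  obtain ⟨m', hm', he⟩ := key t a j _ hm
  refine ⟨Function.update a j (a j * m'), fun i => ?_, by rw [← he, mul_inv_cancel_left]⟩
  by_cases h : i = j
  · subst h
    rw [Function.update_self]
    exact mul_mem (ha _) (hMS hm')
  · rw [Function.update_of_ne h]
    exact ha i

end Cfsg.Agent.S0554
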