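import Cfsg.Statements.S0555

set_option autoImplicit false
open scoped Pointwise commutatorElement
open Cfsg

namespace Cfsg.Agent.S0555

/-- Let i ≥ 1. If in the derived series of a group the quotient of the i-th term by the (i+1)-st and the quotient of the (i+1)-st by the (i+2)-nd are both cyclic, then the (i+1)-st and (i+2)-nd terms coincide. -/
theorem result {G : Type*} [Group G] (i : ℕ) (hi : 1 ≤ i) (h₁ : IsCyclic (↥(derivedSeries G i) ⧸ (derivedSeries G (i + 1)).subgroupOf (derivedSeries G i))) (h₂ : IsCyclic (↥(derivedSeries G (i + 1)) ⧸ (derivedSeries G (i + 2)).subgroupOf (derivedSeries G (i + 1)))) : derivedSeries G (i + 1) = derivedSeries G (i + 2) := by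
  set E := derivedSeries G (i + 2) with hE
  set D := derivedSeries G (i + 1) with hD
  set f := QuotientGroup.mk' E with hf
  have hDn : D.Normal := derivedSeries_normal G (i + 1)
  obtain ⟨z, hz⟩ := h₂.exists_generator
  obtain ⟨w, hw⟩ := h₁.exists_generator
  induction z using QuotientGroup.induction_on with | _ z => ?_
  induction w using QuotientGroup.induction_on with | _ w => ?_
  have hDgen : ∀ d ∈ D, ∃ k : ℤ, f d = f z ^ k := by
    intro d hd
    obtain ⟨k, hk⟩ := Subgroup.mem_zpowers_iff.1 (hz (QuotientGroup.mk ⟨d, hd⟩))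
    rw [← QuotientGroup.mk_zpow, QuotientGroup.eq, Subgroup.mem_subgroupOf] at hk
    exact ⟨k, by rw [← map_zpow]; exact (QuotientGroup.eq.2 hk).symm⟩
  have hGz : ⁅(⊤ : Subgroup G), ⊤⁆ ≤
      (Subgroup.centralizer {f z}).comap f := by
    rw [Subgroup.commutator_le]
    intro g _ h _
    obtain ⟨m, hm⟩ := hDgen _ (hDn.conj_mem _ z.2 g)
    obtain ⟨n, hn⟩ := hDgen _ (hDn.conj_mem _ z.2 h)
    rw [map_mul, map_mul, map_inv] at hm hn
    have hm' : MulAut.conj (f g) (f z) = f z ^ m := hm
    have hn' : MulAut.conj (f h) (f z) = f z ^ n := hn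
    have hc : MulAut.conj (f g * f h) (f z) = MulAut.conj (f h * f g) (f z) := by
      rw [map_mul, map_mul, MulAut.mul_apply, MulAut.mul_apply, hn', map_zpow, hm', map_zpow, hn',
        ← zpow_mul, ← zpow_mul, mul_comm]
    obtain ⟨l, hl⟩ := hDgen _ (hDn.conj_mem _ z.2 (h * g)⁻¹)
    have hl' : MulAut.conj (f h * f g)⁻¹ (f z) = f z ^ l := by
      rw [MulAut.conj_apply, ← map_mul f, ← map_inv f, ← map_inv f, ← map_mul f, ← map_mul f]
      exact hl
    have hab : ⁅f g, f h⁆ = (f g * f h) * (f h * f g)⁻¹ := by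
      rw [commutatorElement_def, mul_inv_rev]; simp [mul_assoc]
    have hfix : MulAut.conj ⁅f g, f h⁆ (f z) = f z := by
      rw [hab, map_mul (MulAut.conj), MulAut.mul_apply, hl', map_zpow, hc, ← map_zpow, ← hl',
        ← MulAut.mul_apply, ← map_mul, mul_inv_cancel, map_one, MulAut.one_apply]
    rw [Subgroup.mem_comap, map_commutatorElement, Subgroup.mem_centralizer_singleton_iff]
    rw [MulAut.conj_apply, mul_inv_eq_iff_eq_mul] at hfix
    exact hfix
  have hle : derivedSeries G i ≤ ⁅(⊤ : Subgroup G), ⊤⁆ := by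
    obtain ⟨j, rfl⟩ := Nat.exists_eq_add_of_le hi
    rw [add_comm, derivedSeries_succ]
    exact Subgroup.commutator_mono le_top le_top
  have hcomm : ∀ a ∈ derivedSeries G i, ∃ (k l : ℤ), f a = f w ^ k * f z ^ l := by
    intro a ha
    obtain ⟨k, hk⟩ := Subgroup.mem_zpowers_iff.1 (hw (QuotientGroup.mk ⟨a, ha⟩))
    rw [← QuotientGroup.mk_zpow, QuotientGroup.eq, Subgroup.mem_subgroupOf] at hk
    obtain ⟨l, hl⟩ := hDgen _ hk
    refine ⟨k, l, ?_⟩
    rw [← hl, ← map_zpow, ← map_mul]
    simp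
  have hwz : Commute (f w) (f z) :=
    Subgroup.mem_centralizer_singleton_iff.1 (hGz (hle w.2))
  refine le_antisymm ?_ (derivedSeries_antitone G (Nat.le_succ _))
  rw [hD, derivedSeries_succ, Subgroup.commutator_le]
  intro a ha b hb
  obtain ⟨k, l, ea⟩ := hcomm a ha
  obtain ⟨k', l', eb⟩ := hcomm b hb
  rw [← QuotientGroup.eq_one_iff]
  change f ⁅a, b⁆ = 1
  rw [map_commutatorElement, commutatorElement_eq_one_iff_commute, ea, eb]
  exact ((((Commute.refl _).zpow_zpow k k').mul_right (hwz.zpow_zpow k l'))).mul_left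
    (((hwz.symm.zpow_zpow l k').mul_right ((Commute.refl _).zpow_zpow l l')))

end Cfsg.Agent.S0555
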