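import Cfsg.Statements.S0556
import Cfsg.Agent.Lib.Solvable.Frobenius
import Cfsg.Agent.Lib.Solvable.Primitive

set_option autoImplicit false
open scoped Pointwise commutatorElement
open Cfsg

namespace Cfsg.Agent.S0556

/-- If a finite group has a maximal subgroup that is abelian, then the third term of its derived series is trivial (so the group is solvable of derived length at most three). -/
theorem result {G : Type*} [Group G] [Finite G] (A : Subgroup G) (hA : IsCoatom A) [IsMulCommutative A] : derivedSeries G 3 = ⊥ := by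
  set N := A.normalCore with hN
  have key : ∀ (Q : Type _) [Group Q] [Finite Q] (B : Subgroup Q), IsCoatom B →
      IsMulCommutative B → B.normalCore = ⊥ → derivedSeries Q 2 = ⊥ := by
    intro Q _ _ B hB hBc hcore
    suffices h : ∃ K : Subgroup Q, commutator Q ≤ K ∧ ⁅K, K⁆ = ⊥ by
      obtain ⟨K, hK, hKK⟩ := h
      rw [derivedSeries_succ, derivedSeries_one]
      exact le_bot_iff.1 (hKK ▸ Subgroup.commutator_mono hK hK)
    by_cases hB0 : B = ⊥
    · subst hB0
      refine ⟨⊤, le_top, ?_⟩
      have hcyc : IsCyclic Q := by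
        obtain ⟨x, hx⟩ := SetLike.not_le_iff_exists.1 (show ¬ (⊤ : Subgroup Q) ≤ ⊥ from
          fun h => hB.1 (top_le_iff.1 h).symm.symm)
        refine ⟨⟨x, fun y => ?_⟩⟩
        have := hB.2 (Subgroup.zpowers x) (bot_lt_iff_ne_bot.2 fun h => hx.2
          (h ▸ Subgroup.mem_zpowers x))
        have h2 : y ∈ Subgroup.zpowers x := by rw [this]; exact Subgroup.mem_top y
        exact h2
      rw [Subgroup.commutator_eq_bot_iff_le_centralizer]
      intro x _
      rw [Subgroup.mem_centralizer_iff]
      intro y _
      have hm : IsMulCommutative Q := IsCyclic.isMulCommutative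
      exact hm.is_comm.comm y x
    have hnn : ¬ B.Normal := fun h => hB0 (SolvPrim.eq_bot_of_le_coreFree hcore h le_rfl)
    have hF : Cfsg.IsFrobeniusComplement B := by
      refine ⟨hB0, hB.1, fun g hg => ?_⟩
      have hne : MulAut.conj g • B ≠ B := fun h => by
        rcases hB.le_iff.1 (Subgroup.le_normalizer (H := B)) with h' | h'
        · exact hnn (Subgroup.normalizer_eq_top_iff.1 h')
        · exact hg (h' ▸ Cfsg.Agent.SolvBasic.mem_normalizer_iff_conjSmul.2 h)
      have hc2 : IsMulCommutative (MulAut.conj g • B : Subgroup Q) := by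
        refine .of_setLike_mul_comm fun a ha b hb => ?_
        rw [Cfsg.Agent.SolvBasic.mem_conjSmul] at ha hb
        have := congrArg (fun t => g * t * g⁻¹) (setLike_mul_comm (s := B) ha hb)
        simpa [mul_assoc] using this
      refine Cfsg.Agent.SolvPrim.eq_bot_of_le_coreFree hcore ?_ inf_le_left
      rw [← Subgroup.normalizer_eq_top_iff, eq_top_iff]
      have htop : B ⊔ MulAut.conj g • B = ⊤ := hB.2 _ (left_lt_sup.2 fun h => hne
        (Subgroup.eq_of_le_of_card_ge h (Cfsg.Agent.SolvBasic.card_conjSmul g B).ge))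
      rw [← htop]
      exact sup_le
        ((Subgroup.le_centralizer B).trans ((Subgroup.centralizer_le inf_le_left).trans
          (Subgroup.centralizer_le_normalizer _)))
        ((Subgroup.le_centralizer _).trans ((Subgroup.centralizer_le inf_le_right).trans
          (Subgroup.centralizer_le_normalizer _)))
    obtain ⟨K, -, hKn, hK0, hc, -, -, -, hKnil⟩ := Cfsg.Agent.FrobeniusStruct.exists_kernel hF
    refine ⟨K, ?_, ?_⟩
    · rw [commutator_def, Subgroup.commutator_le]
      intro a _ b _
      obtain ⟨⟨⟨x, hx⟩, ⟨u, hu⟩⟩, rfl⟩ := hc.2 a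
      obtain ⟨⟨⟨y, hy⟩, ⟨v, hv⟩⟩, rfl⟩ := hc.2 b
      rw [← QuotientGroup.eq_one_iff]
      change QuotientGroup.mk' K ⁅x * u, y * v⁆ = 1
      have h1 : ∀ k ∈ K, QuotientGroup.mk' K k = 1 := fun k hk => (QuotientGroup.eq_one_iff k).2 hk
      rw [map_commutatorElement, map_mul, map_mul, h1 x hx, h1 y hy, one_mul, one_mul,
        ← map_commutatorElement, commutatorElement_eq_one_iff_commute.2
          (setLike_mul_comm (s := B) hu hv), map_one]
    · have hKne : Nontrivial K := Subgroup.nontrivial_iff_ne_bot _ |>.2 hK0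
      set Z := (Subgroup.center K).map K.subtype with hZ
      have hZn : Z.Normal := Cfsg.Agent.FittingCores.normal_map_of_characteristic hKn inferInstance
      have hZ0 : Z ≠ ⊥ := fun h => by
        rw [hZ, Subgroup.map_eq_bot_iff_of_injective _ K.subtype_injective] at h
        have := Cfsg.Agent.SolvStruct.inf_center_ne_bot (G := K) (N := ⊤) top_ne_bot
        exact this (by rw [h, inf_bot_eq])
      rw [Subgroup.commutator_eq_bot_iff_le_centralizer]
      intro x hx
      obtain ⟨z, hz, u, hu, rfl⟩ := Cfsg.Agent.SolvPrim.exists_mul hB hcore hZn hZ0 x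
      have hzK : z ∈ K := Subgroup.map_subtype_le _ hz
      have hu1 : u ∈ K ⊓ B := Subgroup.mem_inf.2
        ⟨by simpa using K.mul_mem (K.inv_mem hzK) hx, hu⟩
      rw [hc.disjoint.eq_bot, Subgroup.mem_bot] at hu1
      subst hu1
      rw [mul_one, Subgroup.mem_centralizer_iff]
      obtain ⟨⟨z', hz'⟩, hzc, rfl⟩ := hz
      exact fun y hy => congrArg Subtype.val (Subgroup.mem_center_iff.1 hzc ⟨y, hy⟩)
  have hker : (QuotientGroup.mk' N).ker ≤ A := by
    rw [QuotientGroup.ker_mk']; exact A.normalCore_le
  have h2 := key (G ⧸ N) (A.map (QuotientGroup.mk' N)) ?_ ?_ ?_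
  · rw [← map_derivedSeries_eq (QuotientGroup.mk'_surjective N), Subgroup.map_eq_bot_iff,
      QuotientGroup.ker_mk'] at h2
    rw [derivedSeries_succ]
    refine le_bot_iff.1 ((Subgroup.commutator_mono h2 h2).trans ?_)
    rw [le_bot_iff, Subgroup.commutator_eq_bot_iff_le_centralizer]
    exact A.normalCore_le.trans ((Subgroup.le_centralizer A).trans
      (Subgroup.centralizer_le A.normalCore_le))
  · refine ⟨fun h => hA.1 ?_, fun B hB => ?_⟩
    · rw [← Subgroup.comap_map_eq_self hker, h, Subgroup.comap_top]
    · have := hA.2 (B.comap (QuotientGroup.mk' N))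
        (lt_of_le_of_lt (Subgroup.le_comap_map _ A)
          ((Subgroup.comap_lt_comap_of_surjective (QuotientGroup.mk'_surjective N)).2 hB))
      rw [← Subgroup.map_comap_eq_self_of_surjective (QuotientGroup.mk'_surjective N) B, this,
        Subgroup.map_top_of_surjective _ (QuotientGroup.mk'_surjective N)]
  · exact .of_setLike_mul_comm fun a ha b hb => by
      obtain ⟨x, hx, rfl⟩ := ha
      obtain ⟨y, hy, rfl⟩ := hb
      rw [← map_mul, setLike_mul_comm (s := A) hx hy, map_mul]
  · set C := (A.map (QuotientGroup.mk' N)).normalCore with hC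
    have h3 : C.comap (QuotientGroup.mk' N) ≤ N := by
      refine Subgroup.normal_le_normalCore.2 ?_
      calc C.comap (QuotientGroup.mk' N) ≤ (A.map (QuotientGroup.mk' N)).comap (QuotientGroup.mk' N) :=
            Subgroup.comap_mono (Subgroup.normalCore_le _)
        _ = A := Subgroup.comap_map_eq_self hker
    rw [← Subgroup.map_comap_eq_self_of_surjective (QuotientGroup.mk'_surjective N) C,
      Subgroup.map_eq_bot_iff, QuotientGroup.ker_mk']
    exact h3

end Cfsg.Agent.S0556
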