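import Cfsg.Statements.S0557
import Cfsg.Agent.Lib.Transfer.Hall
import Cfsg.Agent.Lib.Solvable.Basic

set_option autoImplicit false
open scoped Pointwise commutatorElement
open Cfsg

namespace Cfsg.Agent.S0557

/-- Let H be a subgroup of a finite group G with order coprime to its index. If iterating the focal-subgroup construction starting from H reaches the trivial subgroup after finitely many steps, then H has a normal complement in G. -/
theorem result {G : Type*} [Group G] [Finite G] (H : Subgroup G) (hHall : (Nat.card H).Coprime H.index) (n : ℕ) (hfoc : (fun K : Subgroup G => Subgroup.focalSubgroup K)^[n] H = ⊥) : ∃ N : Subgroup G, N.Normal ∧ Subgroup.IsComplement' N H := by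
  have key : ∀ k : ℕ, (fun K : Subgroup G => Subgroup.focalSubgroup K)^[k] H ≤ H ∧
      ∃ N : Subgroup G, (∀ g : G, (orderOf g).Coprime (Nat.card H) → g ∈ N) ∧
        N ⊓ H = (fun K : Subgroup G => Subgroup.focalSubgroup K)^[k] H ∧
        Nat.card N = Nat.card ((fun K : Subgroup G => Subgroup.focalSubgroup K)^[k] H : Subgroup G)
          * H.index := by
    intro k
    induction k with
    | zero =>
      exact ⟨le_rfl, ⊤, fun g _ => Subgroup.mem_top g, top_inf_eq H,
        by rw [Subgroup.card_top, ← H.card_mul_index]; rfl⟩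
    | succ k ih =>
      obtain ⟨hle, N, hNg, hNH, hNc⟩ := ih
      rw [Function.iterate_succ_apply']
      set L := (fun K : Subgroup G => Subgroup.focalSubgroup K)^[k] H with hL
      have hF : L.focalSubgroup ≤ L := L.focalSubgroup_le
      have hLN : L ≤ N := hNH ▸ inf_le_left
      refine ⟨hF.trans hle, ?_⟩
      set L' := L.subgroupOf N with hL'
      set F' := L.focalSubgroup.subgroupOf N with hF'
      have hL'c : Nat.card L' = Nat.card L :=
        Nat.card_congr (Subgroup.subgroupOfEquivOfLe hLN).toEquiv
      have hF'c : Nat.card F' = Nat.card L.focalSubgroup :=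
        Nat.card_congr (Subgroup.subgroupOfEquivOfLe (hF.trans hLN)).toEquiv
      have hidx : L'.index = H.index := by
        have h1 := L'.card_mul_index
        rw [hL'c, hNc] at h1
        exact mul_left_cancel₀ Nat.card_pos.ne' h1
      have hHall : Nat.Coprime (Nat.card L') L'.index := by
        rw [hL'c, hidx]
        exact hHall.coprime_dvd_left (Subgroup.card_dvd_of_le hle)
      have hco := Cfsg.Agent.TransferHall.coprime_of_hall L' hHall
      set T := L'.transferFocal with hT
      have hinf := Cfsg.Agent.TransferHall.ker_transferFocal_inf L' hco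
      have hsup := Cfsg.Agent.TransferHall.ker_transferFocal_sup L' hco
      have hfoc : L'.focalSubgroup ≤ F' := by
        rw [Subgroup.focalSubgroup_def, Subgroup.closure_le]
        rintro g ⟨hg, x, hx, u, rfl⟩
        exact Subgroup.subset_closure ⟨hg, x, hx, u, by simp [commutatorElement_def]⟩
      have hn : ∀ X : Subgroup N, X ≤ Subgroup.normalizer (T.ker : Set N) := fun X => by
        rw [Subgroup.normalizer_eq_top]; exact le_top
      refine ⟨(T.ker ⊔ F').map N.subtype, ?_, ?_, ?_⟩
      · intro g hg
        refine ⟨⟨g, hNg g hg⟩, Subgroup.mem_sup_left ?_, rfl⟩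
        rw [MonoidHom.mem_ker, ← orderOf_eq_one_iff]
        have h1 : orderOf (T ⟨g, hNg g hg⟩) ∣ orderOf g := by
          rw [← Subgroup.orderOf_mk g (hNg g hg)]
          exact orderOf_map_dvd T _
        have h2 : orderOf (T ⟨g, hNg g hg⟩) ∣ Nat.card H := by
          refine (orderOf_dvd_natCard _).trans ((Subgroup.card_quotient_dvd_card _).trans ?_)
          rw [hL'c]; exact Subgroup.card_dvd_of_le hle
        exact Nat.eq_one_of_dvd_coprimes hg h1 h2
      · refine le_antisymm ?_ (le_inf ?_ (hF.trans hle))
        · rintro _ ⟨⟨x, hx, rfl⟩, hxH⟩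
          obtain ⟨a, ha, b, hb, rfl⟩ :=
            (Cfsg.Agent.SolvBasic.mem_sup_iff_of_le_normalizer (hn F')).1 hx
          have hbL : b ∈ L' := hF hb
          have habL : a * b ∈ L' := by
            have : ((a * b : N) : G) ∈ N ⊓ H := Subgroup.mem_inf.2 ⟨(a * b).2, hxH⟩
            rw [hNH] at this
            exact this
          have haL : a ∈ L' := by simpa using L'.mul_mem habL (L'.inv_mem hbL)
          have h3 : a ∈ L'.focalSubgroup := hinf ▸ Subgroup.mem_inf.2 ⟨ha, haL⟩
          exact F'.mul_mem (hfoc h3) hb
        · intro x hx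
          exact ⟨⟨x, hLN (hF hx)⟩, Subgroup.mem_sup_right hx, rfl⟩
      · rw [Nat.card_congr ((T.ker ⊔ F').equivMapOfInjective _ N.subtype_injective).toEquiv.symm]
        have h1 := Cfsg.Agent.SolvBasic.card_sup_mul_card_inf (hn F')
        have h2 : T.ker ⊓ F' = L'.focalSubgroup := by
          refine le_antisymm ?_ (le_inf (hinf ▸ inf_le_left) hfoc)
          rw [← hinf]
          exact inf_le_inf_left _ (Subgroup.comap_mono hF)
        have h3 := Cfsg.Agent.SolvBasic.card_sup_mul_card_inf (hn L')
        rw [hsup, hinf, Subgroup.card_top, hL'c, hNc] at h3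
        rw [h2, hF'c] at h1
        have hpos : 0 < Nat.card L'.focalSubgroup := Nat.card_pos
        have h4 : Nat.card T.ker = H.index * Nat.card L'.focalSubgroup := by
          refine mul_left_cancel₀ (Nat.card_pos (α := L)).ne' ?_
          rw [mul_comm, ← h3, mul_assoc]
        rw [h4] at h1
        refine mul_left_cancel₀ hpos.ne' ?_
        rw [mul_comm, h1]
        ring
  obtain ⟨-, N, hNg, hNH, hNc⟩ := key n
  rw [hfoc] at hNH hNc
  rw [Subgroup.card_bot, one_mul] at hNc
  refine ⟨N, ⟨fun x hx g => hNg _ ?_⟩,
    Subgroup.isComplement'_of_card_mul_and_disjoint ?_ (disjoint_iff.2 hNH)⟩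
  · rw [show g * x * g⁻¹ = (MulAut.conj g).toMonoidHom x from rfl,
      orderOf_injective _ (MulAut.conj g).injective x]
    refine Nat.Coprime.coprime_dvd_left ?_ hHall.symm
    rw [← hNc, ← Subgroup.orderOf_mk x hx]
    exact orderOf_dvd_natCard _
  · rw [hNc, mul_comm, H.card_mul_index]

end Cfsg.Agent.S0557
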