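import Cfsg.Statements.S0558
import Cfsg.Agent.S0557
import Cfsg.Agent.Lib.Solvable.Basic

set_option autoImplicit false
open scoped Pointwise commutatorElement
open Cfsg

namespace Cfsg.Agent.S0558

/-- Let H be a subgroup of a finite group G that is not a Sylow subgroup of G for any prime, and suppose that for every prime p dividing the order of H and every Sylow p-subgroup P of H the normalizer of P in G is exactly H. Then some normal subgroup of G is a complement to H. -/
theorem result {G : Type*} [Group G] [Finite G] (H : Subgroup G) (hnot : ∀ p : ℕ, p.Prime → ∀ P : Sylow p G, (P : Subgroup G) ≠ H) (hnorm : ∀ p : ℕ, p.Prime → p ∣ Nat.card H → ∀ P : Sylow p H, Subgroup.normalizer (((P : Subgroup H).map H.subtype : Subgroup G) : Set G) = H) : ∃ N : Subgroup G, N.Normal ∧ Subgroup.IsComplement' N H := by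
  have hH0 : H ≠ ⊥ := by
    intro h0
    obtain ⟨p, hle, hp⟩ := Nat.exists_infinite_primes (Nat.card G + 1)
    have : Fact p.Prime := ⟨hp⟩
    obtain ⟨P⟩ := (inferInstance : Nonempty (Sylow p G))
    refine hnot p hp P ?_
    rw [h0]
    refine Subgroup.eq_bot_of_card_eq _ ?_
    rw [P.card_eq_multiplicity, Nat.factorization_eq_zero_of_not_dvd fun hd => ?_, pow_zero]
    have := Nat.le_of_dvd Nat.card_pos hd
    omega
  have hN : ∀ (p : ℕ) (_ : Fact p.Prime) (P : Sylow p H), (P : Subgroup H).Normal := by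
    intro p hp P
    by_cases hd : p ∣ Nat.card H
    · have h1 := hnorm p hp.out hd P
      refine ⟨fun x hx g => ?_⟩
      have hg : (g : G) ∈ Subgroup.normalizer
          (((P : Subgroup H).map H.subtype : Subgroup G) : Set G) := by rw [h1]; exact g.2
      obtain ⟨y, hy, hyx⟩ := (Subgroup.mem_normalizer_iff.1 hg x).1 (Subgroup.mem_map_of_mem _ hx)
      have : y = g * x * g⁻¹ := H.subtype_injective (by simpa using hyx)
      exact this ▸ hy
    · have : (P : Subgroup H) = ⊥ := Subgroup.eq_bot_of_card_eq _ (by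
        rw [P.card_eq_multiplicity, Nat.factorization_eq_zero_of_not_dvd hd, pow_zero])
      rw [this]; infer_instance
  have hnil : Group.IsNilpotent H :=
    (Group.isNilpotent_of_finite_tfae.out 0 3 rfl rfl).2 hN
  have hfull : ∀ (p : ℕ) [Fact p.Prime], p ∣ Nat.card H → ∀ P : Sylow p H,
      ∃ S : Sylow p G, (S : Subgroup G) = (P : Subgroup H).map H.subtype := by
    intro p _ hd P
    set Pm := (P : Subgroup H).map H.subtype with hPm
    obtain ⟨S, hS⟩ := (P.isPGroup'.map H.subtype).exists_le_sylow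
    refine ⟨S, le_antisymm ?_ hS⟩
    by_contra hne
    have := S.isPGroup'.isNilpotent
    have hlt : Pm.subgroupOf (S : Subgroup G) < ⊤ := lt_top_iff_ne_top.2 fun h =>
      hne (Subgroup.subgroupOf_eq_top.1 h)
    obtain ⟨⟨s, hsS⟩, hsn, hsP⟩ := SetLike.exists_of_lt
      (Group.normalizerCondition_of_isNilpotent _ hlt)
    rw [← Subgroup.subgroupOf_normalizer_eq hS, Subgroup.mem_subgroupOf,
      hnorm p Fact.out hd P] at hsn
    have heq := P.is_maximal' (Q := (S : Subgroup G).subgroupOf H)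
      (S.isPGroup'.comap_subtype)
      (fun x hx => hS (Subgroup.mem_map_of_mem _ hx))
    exact hsP ⟨⟨s, hsn⟩, heq.le (show s ∈ (S : Subgroup G) from hsS), rfl⟩
  have hcop : (Nat.card H).Coprime H.index := Nat.coprime_of_dvd fun p hp hd hd' => by
    have : Fact p.Prime := ⟨hp⟩
    obtain ⟨P⟩ := (inferInstance : Nonempty (Sylow p H))
    obtain ⟨S, hS⟩ := hfull p hd P
    refine S.not_dvd_index (hd'.trans (Subgroup.index_dvd_of_le ?_))
    rw [hS]; exact Subgroup.map_subtype_le _
  have hother : ∀ r : ℕ, r.Prime → r ∣ Nat.card H → ∃ q : ℕ, q.Prime ∧ q ∣ Nat.card H ∧ q ≠ r := by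
    intro r hr hrd
    by_contra hcon
    push_neg at hcon
    have : Fact r.Prime := ⟨hr⟩
    obtain ⟨P⟩ := (inferInstance : Nonempty (Sylow r H))
    obtain ⟨S, hS⟩ := hfull r hrd P
    refine hnot r hr S (hS.trans ?_)
    have hPt : (P : Subgroup H) = ⊤ := by
      rw [← Subgroup.index_eq_one]
      by_contra h1
      obtain ⟨q, hq, hqd⟩ := Nat.exists_prime_and_dvd h1
      exact P.not_dvd_index (hcon q hq (hqd.trans (P : Subgroup H).index_dvd_card) ▸ hqd)
    rw [hPt, ← MonoidHom.range_eq_map, Subgroup.range_subtype]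
  have key : ∀ (r : ℕ), r.Prime → r ∣ Nat.card H → ∀ x y : G, x ∈ H → y ∈ H →
      (∃ k, orderOf x = r ^ k) → (∃ u : G, u * x * u⁻¹ = y) → ∃ h ∈ H, h * x * h⁻¹ = y := by
    rintro r hr hrd x y hx hy ⟨k, hk⟩ ⟨u, hu⟩
    obtain ⟨q, hq, hqd, hqr⟩ := hother r hr hrd
    have : Fact q.Prime := ⟨hq⟩
    have : Fact r.Prime := ⟨hr⟩
    obtain ⟨P⟩ := (inferInstance : Nonempty (Sylow r H))
    obtain ⟨R⟩ := (inferInstance : Nonempty (Sylow q H))
    obtain ⟨S, hS⟩ := hfull q hqd R
    have hcomm : ∀ z ∈ H, (∃ j, orderOf z = r ^ j) →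
        ((S : Subgroup G) ≤ Subgroup.centralizer {z}) := by
      rintro z hz ⟨j, hj⟩ w hw
      rw [hS] at hw
      obtain ⟨w, hwR, rfl⟩ := hw
      have hzP : (⟨z, hz⟩ : H) ∈ (P : Subgroup H) := by
        have hzg : IsPGroup r (Subgroup.zpowers (⟨z, hz⟩ : H)) := IsPGroup.of_card (n := j) (by
          rw [Nat.card_zpowers, Subgroup.orderOf_mk, hj])
        obtain ⟨Q, hQ⟩ := hzg.exists_le_sylow
        have := hN r ⟨hr⟩ P
        obtain ⟨g, hg⟩ := MulAction.exists_smul_eq H P Q
        rw [Sylow.smul_eq_of_normal] at hg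
        exact hg ▸ hQ (Subgroup.mem_zpowers _)
      have h1 := Subgroup.commute_of_normal_of_disjoint _ _ (hN r ⟨hr⟩ P) (hN q ⟨hq⟩ R)
        (IsPGroup.disjoint_of_ne r q (Ne.symm hqr) _ _ P.isPGroup' R.isPGroup') _ _ hzP hwR
      rw [Subgroup.mem_centralizer_singleton_iff]
      exact (congrArg Subtype.val h1.eq).symm
    set C := Subgroup.centralizer {y} with hC
    have hy' : ∃ j, orderOf y = r ^ j := ⟨k, by
      rw [← hk, ← hu]
      exact orderOf_injective (MulAut.conj u).toMonoidHom (MulAut.conj u).injective x⟩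
    have hR1 : (S : Subgroup G) ≤ C := hcomm y hy hy'
    have hR2 : ((u • S : Sylow q G) : Subgroup G) ≤ C := by
      intro w hw
      rw [Sylow.coe_subgroup_smul, Cfsg.Agent.SolvBasic.mem_conjSmul] at hw
      have h2 := Subgroup.mem_centralizer_singleton_iff.1 (hcomm x hx ⟨k, hk⟩ hw)
      rw [hC, Subgroup.mem_centralizer_singleton_iff, ← hu]
      have h3 := congrArg (fun t => u * t * u⁻¹) h2
      simpa [mul_assoc] using h3
    obtain ⟨c, hc⟩ := MulAction.exists_smul_eq C ((u • S).subtype hR2) (S.subtype hR1)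
    have h3 : ((c : G) * u) • S = S := by
      rw [mul_smul]
      apply Sylow.ext
      have h4 : ((c • (u • S).subtype hR2 : Sylow q C) : Subgroup C).map C.subtype =
          ((S.subtype hR1 : Sylow q C) : Subgroup C).map C.subtype :=
        congrArg (fun T : Sylow q C => (T : Subgroup C).map C.subtype) hc
      rw [Sylow.coe_subgroup_smul (g := c), Cfsg.Agent.SolvBasic.map_subtype_conjSmul,
        Sylow.coe_subtype, Sylow.coe_subtype, Subgroup.map_subgroupOf_eq_of_le hR1,
        Subgroup.map_subgroupOf_eq_of_le hR2] at h4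
      rw [Sylow.coe_subgroup_smul]
      exact h4
    refine ⟨(c : G) * u, ?_, ?_⟩
    · rw [← hnorm q hq hqd R, ← hS, Cfsg.Agent.SolvBasic.mem_normalizer_iff_conjSmul,
        ← Sylow.coe_subgroup_smul, h3]
    · have h4 := Subgroup.mem_centralizer_singleton_iff.1 c.2
      calc (c : G) * u * x * ((c : G) * u)⁻¹ = (c : G) * (u * x * u⁻¹) * (c : G)⁻¹ := by
            simp [mul_assoc]
        _ = y := by rw [hu, h4, mul_inv_cancel_right]
  have hstep : ∀ K : Subgroup G, K ≤ H → K.focalSubgroup ≤ ⁅K, H⁆ ∨ ¬ H ≤ Subgroup.normalizer ((⁅K, H⁆ : Subgroup G) : Set G) := by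
    intro K hKH
    refine or_iff_not_imp_right.2 fun hn => ?_
    rw [not_not] at hn
    rw [Subgroup.focalSubgroup_def, Subgroup.closure_le]
    rintro g ⟨hgK, x, hx, u, rfl⟩
    set y := u * x * u⁻¹ with hydef
    have hyK : y ∈ K := by
      have h1 := K.inv_mem (K.mul_mem (K.inv_mem hx) hgK)
      simpa [commutatorElement_def, mul_assoc, hydef] using h1
    set D := (⁅K, H⁆ : Subgroup G).subgroupOf H with hD
    have hDn : D.Normal := Subgroup.normal_subgroupOf_of_le_normalizer hn
    let f := QuotientGroup.mk' D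
    have hcen : ∀ (k : H), (k : G) ∈ K → ∀ h : H, Commute (f k) (f h) := fun k hk h => by
      rw [← commutatorElement_eq_one_iff_commute, ← map_commutatorElement]
      exact (QuotientGroup.eq_one_iff _).2 (Subgroup.commutator_mem_commutator hk h.2)
    suffices f ⟨x, hKH hx⟩ = f ⟨y, hKH hyK⟩ by
      have h1 : (⟨x, hKH hx⟩ : H) * ⟨y, hKH hyK⟩⁻¹ ∈ D := by
        rw [← QuotientGroup.eq_one_iff]
        change f _ = 1
        rw [map_mul, map_inv, this, mul_inv_cancel]
      rw [hD, Subgroup.mem_subgroupOf] at h1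
      simpa [commutatorElement_def, mul_assoc, hydef] using h1
    set X := f ⟨x, hKH hx⟩ with hX
    set Y := f ⟨y, hKH hyK⟩ with hY
    have hXY : Commute X Y⁻¹ := (hcen _ hx _).inv_right
    suffices orderOf (X * Y⁻¹) = 1 by
      rw [orderOf_eq_one_iff] at this
      exact mul_inv_eq_one.1 this
    by_contra hne
    obtain ⟨r, hr, hrd⟩ := Nat.exists_prime_and_dvd hne
    have hrH : r ∣ Nat.card H :=
      hrd.trans ((orderOf_dvd_natCard _).trans (Subgroup.card_quotient_dvd_card _))
    set e := (Nat.card H).factorization r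
    set a := Nat.card H / r ^ e with ha
    have hra : ¬ r ∣ a := Nat.not_dvd_ordCompl hr Nat.card_pos.ne'
    have hxr : ∃ k, orderOf (x ^ a) = r ^ k := by
      obtain ⟨k, -, hk⟩ := (Nat.dvd_prime_pow hr).1 (show orderOf (x ^ a) ∣ r ^ e by
        refine orderOf_dvd_of_pow_eq_one ?_
        rw [← pow_mul, ha, Nat.div_mul_cancel (Nat.ordProj_dvd _ _)]
        exact congrArg Subtype.val (pow_card_eq_one' (x := (⟨x, hKH hx⟩ : H))))
      exact ⟨k, hk⟩
    obtain ⟨h, hh, hhx⟩ := key r hr hrH (x ^ a) (y ^ a) (H.pow_mem (hKH hx) a)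
      (H.pow_mem (hKH hyK) a) hxr ⟨u, by rw [← conj_pow]⟩
    have h5 : (⟨h, hh⟩ : H) * ⟨x, hKH hx⟩ ^ a * ⟨h, hh⟩⁻¹ = ⟨y, hKH hyK⟩ ^ a :=
      Subtype.ext (by simpa using hhx)
    have h2 : Y ^ a = X ^ a := by
      rw [hY, hX, ← map_pow f, ← h5, map_mul, map_mul, map_pow, map_inv,
        ((hcen _ hx ⟨h, hh⟩).symm.pow_right a).eq, mul_inv_cancel_right]
    have h3 : orderOf (X * Y⁻¹) ∣ a := orderOf_dvd_of_pow_eq_one (by
      rw [hXY.mul_pow, inv_pow, h2, mul_inv_cancel])
    exact hra (hrd.trans h3)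
  obtain ⟨n, hn⟩ := Subgroup.isNilpotent_iff_lowerCentralSeries H |>.1 hnil
  refine Cfsg.Agent.S0557.result H hcop n (le_bot_iff.1 (hn ▸ ?_))
  clear hn
  induction n with
  | zero => exact le_rfl
  | succ n ih =>
    rw [Function.iterate_succ_apply', Subgroup.lowerCentralSeries_succ]
    set K := (fun K : Subgroup G => Subgroup.focalSubgroup K)^[n] H
    have hlH : H.lowerCentralSeries n ≤ H := H.lowerCentralSeries_antitone (Nat.zero_le n)
    have hmono : K.focalSubgroup ≤ (H.lowerCentralSeries n).focalSubgroup := by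
      rw [Subgroup.focalSubgroup_def, Subgroup.closure_le]
      rintro g ⟨hg, x, hx, u, rfl⟩
      exact Subgroup.subset_closure ⟨ih hg, x, ih hx, u, rfl⟩
    exact hmono.trans ((hstep _ hlH).resolve_right (not_not_intro
      (H.self_le_normalizer_lowerCentralSeries (n + 1))))

end Cfsg.Agent.S0558
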