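import Cfsg.Statements.S0560
import Cfsg.Agent.Lib.Solvable.Structure

set_option autoImplicit false
open scoped Pointwise commutatorElement
open Pointwise
open Cfsg

namespace Cfsg.Agent.S0560

/-- Let the finite group G be the product HK of two subgroups and p a prime. Then there are Sylow p-subgroups P of H and Q of K and a Sylow p-subgroup R of G whose underlying set is the product set of P and Q. -/
theorem result {G : Type*} [Group G] [Finite G] (H K : Subgroup G) (hHK : ∀ g : G, ∃ h ∈ H, ∃ k ∈ K, g = h * k) (p : ℕ) [Fact p.Prime] : ∃ (P : Sylow p H) (Q : Sylow p K) (R : Sylow p G), ((R : Subgroup G) : Set G) = (((P : Subgroup H).map H.subtype : Subgroup G) : Set G) * (((Q : Subgroup K).map K.subtype : Subgroup G) : Set G) := by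
  have hp := (Fact.out : p.Prime)
  obtain ⟨P₀⟩ := (inferInstance : Nonempty (Sylow p H))
  obtain ⟨Q₀⟩ := (inferInstance : Nonempty (Sylow p K))
  obtain ⟨R₀, hR₀⟩ := (P₀.isPGroup'.map H.subtype).exists_le_sylow
  obtain ⟨R₁, hR₁⟩ := (Q₀.isPGroup'.map K.subtype).exists_le_sylow
  obtain ⟨g, hg⟩ := MulAction.exists_smul_eq G R₀ R₁
  obtain ⟨k, hk, h, hh, rfl⟩ := Cfsg.Agent.SolvStruct.mul_comm_of_mul hHK g
  set P : Sylow p H := (⟨h, hh⟩ : H) • P₀ with hP
  set Q : Sylow p K := (⟨k, hk⟩⁻¹ : K) • Q₀ with hQ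
  set R : Sylow p G := h • R₀ with hR
  set P' := (P : Subgroup H).map H.subtype with hP'
  set Q' := (Q : Subgroup K).map K.subtype with hQ'
  have hPR : P' ≤ (R : Subgroup G) := by
    rw [hP', hP, hR, Sylow.coe_subgroup_smul, Sylow.coe_subgroup_smul,
      Cfsg.Agent.SolvBasic.map_subtype_conjSmul]
    exact Subgroup.pointwise_smul_le_pointwise_smul_iff.2 hR₀
  have hQR : Q' ≤ (R : Subgroup G) := by
    have h2 : R = k⁻¹ • R₁ := by rw [hR, ← hg, mul_smul, inv_smul_smul]
    rw [hQ', hQ, h2, Sylow.coe_subgroup_smul, Sylow.coe_subgroup_smul,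
      Cfsg.Agent.SolvBasic.map_subtype_conjSmul, Subgroup.coe_inv]
    exact Subgroup.pointwise_smul_le_pointwise_smul_iff.2 hR₁
  refine ⟨P, Q, R, ?_⟩
  -- the key numerical fact
  have hRp := R.isPGroup'
  obtain ⟨a, ha⟩ : ∃ a, Q'.relIndex (R : Subgroup G) = p ^ a := by
    obtain ⟨r, hr⟩ := IsPGroup.iff_card.1 hRp
    obtain ⟨i, -, hi⟩ := (Nat.dvd_prime_pow hp).1
      (hr ▸ Subgroup.relIndex_dvd_card Q' (R : Subgroup G))
    exact ⟨i, hi⟩
  have hQK : ¬ p ∣ Q'.relIndex K := by
    rw [hQ', Subgroup.relIndex, Subgroup.subgroupOf, Subgroup.comap_map_eq_self_of_injective K.subtype_injective]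
    exact Q.not_dvd_index
  have hPH : ¬ p ∣ P'.relIndex H := by
    rw [hP', Subgroup.relIndex, Subgroup.subgroupOf, Subgroup.comap_map_eq_self_of_injective H.subtype_injective]
    exact P.not_dvd_index
  have h1 : p ^ a ∣ K.index := by
    refine Nat.Coprime.dvd_of_dvd_mul_left ((hp.coprime_iff_not_dvd.2 hQK).pow_left a) ?_
    rw [Subgroup.relIndex_mul_index (Subgroup.map_subtype_le _), ← ha]
    exact Subgroup.relIndex_dvd_index_of_le hQR
  have h2 : p ^ a ∣ (P' ⊓ Q').relIndex P' * P'.relIndex H := by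
    rw [Subgroup.relIndex_mul_relIndex _ _ _ inf_le_left (Subgroup.map_subtype_le _)]
    refine h1.trans ?_
    rw [Cfsg.Agent.SolvStruct.index_eq_relIndex_of_mul hHK, ← Subgroup.inf_relIndex_right]
    refine Subgroup.relIndex_dvd_of_le_left H ?_
    rw [inf_comm K]
    exact inf_le_inf (Subgroup.map_subtype_le _) (Subgroup.map_subtype_le _)
  have h3 : p ^ a ∣ Q'.relIndex P' := by
    rw [← Subgroup.inf_relIndex_left]
    exact Nat.Coprime.dvd_of_dvd_mul_right ((hp.coprime_iff_not_dvd.2 hPH).pow_left a) h2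
  have h4 : (Q'.subgroupOf (R : Subgroup G)).index ≤
      (Q'.subgroupOf (R : Subgroup G)).relIndex (P'.subgroupOf (R : Subgroup G)) := by
    rw [Subgroup.relIndex_subgroupOf hPR]
    change Q'.relIndex (R : Subgroup G) ≤ _
    rw [ha]
    exact Nat.le_of_dvd (Nat.pos_of_ne_zero fun h0 => by
      have := Subgroup.relIndex_dvd_card Q' P'
      rw [h0, zero_dvd_iff] at this
      exact Nat.card_pos.ne' this) h3
  ext x
  constructor
  · intro hx
    obtain ⟨y, hy, z, hz, hyz⟩ :=
      Cfsg.Agent.SolvStruct.mul_of_index_le h4 (⟨x, hx⟩ : (R : Subgroup G))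
    exact ⟨(y : G), hy, (z : G), hz, (congrArg Subtype.val hyz).symm⟩
  · rintro ⟨y, hy, z, hz, rfl⟩
    exact mul_mem (hPR hy) (hQR hz)

end Cfsg.Agent.S0560
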