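import Cfsg.Statements.S0562
import Cfsg.Agent.Lib.Solvable.Basic

set_option autoImplicit false
open scoped Pointwise commutatorElement
open Cfsg

namespace Cfsg.Agent.S0562

/-- Let the finite group G be the product HK of subgroups, A normal in H, B normal in K, and L the normalizer of the subgroup generated by A and B. Then every element of L is a product of an element of L ∩ H and an element of L ∩ K. -/
theorem result {G : Type*} [Group G] [Finite G] (H K A B : Subgroup G) (hHK : ∀ g : G, ∃ h ∈ H, ∃ k ∈ K, g = h * k) (hA : A ≤ H) (hAn : (A.subgroupOf H).Normal) (hB : B ≤ K) (hBn : (B.subgroupOf K).Normal) : ∀ g ∈ Subgroup.normalizer ((A ⊔ B : Subgroup G) : Set G), ∃ h ∈ Subgroup.normalizer ((A ⊔ B : Subgroup G) : Set G) ⊓ H, ∃ k ∈ Subgroup.normalizer ((A ⊔ B : Subgroup G) : Set G) ⊓ K, g = h * k := by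
  intro g hg
  set J := A ⊔ B with hJ
  obtain ⟨h, hh, k, hk, rfl⟩ := hHK g
  have hhA : MulAut.conj h⁻¹ • A = A :=
    Cfsg.Agent.SolvBasic.conjSmul_eq_self_of_mem_normalizer
      ((Subgroup.normal_subgroupOf_iff_le_normalizer hA).1 hAn (inv_mem hh))
  have hkB : MulAut.conj k⁻¹ • B = B :=
    Cfsg.Agent.SolvBasic.conjSmul_eq_self_of_mem_normalizer
      ((Subgroup.normal_subgroupOf_iff_le_normalizer hB).1 hBn (inv_mem hk))
  have hgJ : MulAut.conj (h * k)⁻¹ • J = J :=
    Cfsg.Agent.SolvBasic.conjSmul_eq_self_of_mem_normalizer (inv_mem hg)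
  have hkA : MulAut.conj k⁻¹ • A ≤ J := by
    calc MulAut.conj k⁻¹ • A = MulAut.conj (h * k)⁻¹ • A := by
          rw [mul_inv_rev, ← Cfsg.Agent.SolvBasic.conjSmul_conjSmul, hhA]
      _ ≤ MulAut.conj (h * k)⁻¹ • J :=
          Subgroup.pointwise_smul_le_pointwise_smul_iff.2 le_sup_left
      _ = J := hgJ
  have hkL : k ∈ Subgroup.normalizer (J : Set G) := by
    rw [← inv_inv k]
    refine inv_mem (Cfsg.Agent.SolvBasic.mem_normalizer_iff_conjSmul.2 ?_)
    refine Subgroup.eq_of_le_of_card_ge ?_ (by rw [Cfsg.Agent.SolvBasic.card_conjSmul])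
    rw [hJ, Subgroup.smul_sup, hkB]
    exact sup_le hkA le_sup_right
  refine ⟨h, Subgroup.mem_inf.2 ⟨?_, hh⟩, k, Subgroup.mem_inf.2 ⟨hkL, hk⟩, rfl⟩
  simpa using mul_mem hg (inv_mem hkL)

end Cfsg.Agent.S0562
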