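import Cfsg.Statements.S0563
import Cfsg.Agent.Lib.Solvable.CoprimeProduct

set_option autoImplicit false
open scoped Pointwise commutatorElement
open Pointwise
open Cfsg

namespace Cfsg.Agent.S0563

/-- If a finite group G is the product AB of two nilpotent subgroups of coprime orders, then G is solvable, and for every Sylow p-subgroup P of A and Sylow q-subgroup Q of B the product set PQ is a subgroup. -/
theorem result {G : Type*} [Group G] [Finite G] (A B : Subgroup G) (hA : Group.IsNilpotent A) (hB : Group.IsNilpotent B) (hcop : (Nat.card A).Coprime (Nat.card B)) (hAB : ∀ g : G, ∃ a ∈ A, ∃ b ∈ B, g = a * b) : Group.IsSolvable G ∧ ∀ (p q : ℕ) [Fact p.Prime] [Fact q.Prime] (P : Sylow p A) (Q : Sylow q B), ∃ S : Subgroup G, (S : Set G) = (((P : Subgroup A).map A.subtype : Subgroup G) : Set G) * (((Q : Subgroup B).map B.subtype : Subgroup G) : Set G) := by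
  have hsol := Cfsg.Agent.CoprimeProduct.coprime_solvable (A := A) (B := B) ⟨hA, hB, hcop, hAB⟩
  refine ⟨hsol, fun p q hp hq P Q => ?_⟩
  have hidx : ∀ (X Y : Subgroup G), Group.IsNilpotent X → Group.IsNilpotent Y →
      (Nat.card X).Coprime (Nat.card Y) → (∀ g : G, ∃ a ∈ X, ∃ b ∈ Y, g = a * b) →
      ∀ (r : ℕ) (hr : Fact r.Prime) (R : Sylow r X),
        (Nat.card ((R : Subgroup X).map X.subtype)).Coprime ((R : Subgroup X).map X.subtype).index ∧
          (((R : Subgroup X).map X.subtype).subgroupOf X).Normal := by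
    intro X Y hX hY hXY hmul r hr R
    have hRn : (R : Subgroup X).Normal :=
      R.normal_of_normalizerCondition Group.normalizerCondition_of_isNilpotent
    refine ⟨?_, ?_⟩
    · have hcR : Nat.card ((R : Subgroup X).map X.subtype) = Nat.card (R : Subgroup X) :=
        Subgroup.card_map_of_injective X.subtype_injective
      have hcG := (⟨hX, hY, hXY, hmul⟩ : Cfsg.Agent.CoprimeProduct.CP X Y).index_eq
      have hi : ((R : Subgroup X).map X.subtype).index = (R : Subgroup X).index * Nat.card Y := by
        rw [Subgroup.index_map_of_injective _ X.subtype_injective, Subgroup.range_subtype, hcG]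
      rw [hcR, hi]
      refine Nat.Coprime.mul_right ?_ (hXY.coprime_dvd_left (Subgroup.card_subgroup_dvd_card _))
      rw [R.card_eq_multiplicity]
      exact ((Nat.Prime.coprime_iff_not_dvd hr.out).2 R.not_dvd_index).pow_left _
    · rw [Subgroup.subgroupOf, Subgroup.comap_map_eq_self_of_injective X.subtype_injective]
      exact hRn
  obtain ⟨hP1, hP2⟩ := hidx A B hA hB hcop hAB p hp P
  obtain ⟨hQ1, hQ2⟩ := hidx B A hB hA hcop.symm (Cfsg.Agent.Factorised.mul_swap hAB) q hq Q
  obtain ⟨S, hS⟩ := Cfsg.Agent.S0561.result A B _ _ hAB (Subgroup.map_subtype_le _) hP2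
    (Subgroup.map_subtype_le _) hQ2 hP1 hQ1 1 1
  rw [Cfsg.Agent.SolvBasic.conjSmul_one, Cfsg.Agent.SolvBasic.conjSmul_one] at hS
  exact ⟨S, hS⟩

end Cfsg.Agent.S0563
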