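import Cfsg.Statements.S0567

set_option autoImplicit false
open scoped Pointwise commutatorElement
open Cfsg

namespace Cfsg.Agent.S0567

/-- A subgroup H of a group G is subnormal exactly when, for some m, the subgroup obtained from G by taking the commutator with H m times in succession is contained in H. -/
theorem result {G : Type*} [Group G] (H : Subgroup G) : H.IsSubnormal ↔ ∃ m : ℕ, (fun K : Subgroup G => ⁅K, H⁆)^[m] ⊤ ≤ H := by
  constructor
  · intro hH
    suffices h : ∀ K : Subgroup G, K.IsSubnormal → ∀ J : Subgroup G, J ≤ K →
        ∃ m, (fun X : Subgroup G => ⁅X, J⁆)^[m] ⊤ ≤ K from h H hH H le_rfl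
    intro K hK
    induction hK with
    | top => exact fun J _ => ⟨0, le_rfl⟩
    | step A B hle _ hN ih =>
      intro J hJ
      obtain ⟨m, hm⟩ := ih J (hJ.trans hle)
      refine ⟨m + 1, ?_⟩
      rw [Function.iterate_succ_apply']
      exact (Subgroup.commutator_mono hm hJ).trans (Subgroup.le_normalizer_iff_commutator_le_right.1
        ((Subgroup.normal_subgroupOf_iff_le_normalizer hle).1 hN))
  · rintro ⟨m, hm⟩
    set D : ℕ → Subgroup G := fun i => (fun X : Subgroup G => ⁅X, H⁆)^[i] ⊤ with hD
    have hDs : ∀ i, D (i + 1) = ⁅D i, H⁆ := fun i => Function.iterate_succ_apply' _ _ _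
    have hDn : ∀ i, H ≤ Subgroup.normalizer (D i : Set G) := by
      intro i
      cases i with
      | zero =>
        change H ≤ Subgroup.normalizer ((⊤ : Subgroup G) : Set G)
        rw [Subgroup.normalizer_eq_top]; exact le_top
      | succ i => rw [hDs]; exact Subgroup.normalizer_commutator_ge_right _ _
    have key : ∀ i, (D i ⊔ H).IsSubnormal := by
      intro i
      induction i with
      | zero =>
        change ((⊤ : Subgroup G) ⊔ H).IsSubnormal
        rw [top_sup_eq]; exact Subgroup.IsSubnormal.top
      | succ i ih =>
        have hle : D (i + 1) ⊔ H ≤ D i ⊔ H := by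
          refine sup_le ?_ le_sup_right
          rw [hDs]
          exact (Subgroup.le_normalizer_iff_commutator_le_left.1 (hDn i)).trans le_sup_left
        refine Subgroup.IsSubnormal.step _ _ hle ih
          (Subgroup.normal_subgroupOf_of_le_normalizer (sup_le ?_ (le_sup_right.trans Subgroup.le_normalizer)))
        intro d hd
        rw [Subgroup.mem_normalizer_iff_map_conj_eq]
        have hmap : ∀ e ∈ D i,
            (D (i + 1) ⊔ H).map (MulAut.conj e).toMonoidHom ≤ D (i + 1) ⊔ H := by
          intro e he
          rw [Subgroup.map_sup, sup_le_iff]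
          constructor
          · rintro _ ⟨y, hy, rfl⟩
            rw [hDs] at hy ⊢
            exact Subgroup.mem_sup_left ((Subgroup.mem_normalizer_iff.1
              (Subgroup.normalizer_commutator_ge_left _ _ he) y).1 hy)
          · rintro _ ⟨y, hy, rfl⟩
            have h1 : ⁅e, y⁆ ∈ D (i + 1) := hDs i ▸ Subgroup.commutator_mem_commutator he hy
            have : (MulAut.conj e).toMonoidHom y = ⁅e, y⁆ * y := by
              simp [commutatorElement_def, mul_assoc]
            rw [this]
            exact mul_mem (Subgroup.mem_sup_left h1) (Subgroup.mem_sup_right hy)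
        refine le_antisymm (hmap d hd) fun y hy => ?_
        exact ⟨_, hmap d⁻¹ (inv_mem hd) ⟨y, hy, rfl⟩, by simp [mul_assoc]⟩
    have := key m
    rwa [sup_eq_right.2 hm] at this

end Cfsg.Agent.S0567
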