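import Cfsg.Statements.S0568
import Cfsg.Agent.Lib.Solvable.SystemNormalizer

set_option autoImplicit false
open scoped Pointwise commutatorElement
open Cfsg

namespace Cfsg.Agent.S0568

/-- Let D be the system normalizer of a Hall complement system of a finite solvable group G, and let A < B be normal subgroups with no normal subgroup of G strictly between them (a chief factor). If G centralizes B modulo A then B ≤ A ⊔ D (D covers the factor); otherwise B ∩ D ≤ A (D avoids it). -/
theorem result {G : Type*} [Group G] [Finite G] [Group.IsSolvable G] (K : Nat.Primes → Subgroup G) (hK : Cfsg.IsComplementSystem K) (A B : Subgroup G) [A.Normal] [B.Normal] (hAB : A < B) (hchief : ∀ N : Subgroup G, N.Normal → A ≤ N → N ≤ B → N = A ∨ N = B) : (⁅B, (⊤ : Subgroup G)⁆ ≤ A → B ≤ A ⊔ Cfsg.systemNormalizer K) ∧ (¬ ⁅B, (⊤ : Subgroup G)⁆ ≤ A → B ⊓ Cfsg.systemNormalizer K ≤ A) := by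
  set f := QuotientGroup.mk' A with hf
  have hfs := QuotientGroup.mk'_surjective A
  have hKA := Cfsg.Agent.SysNorm.isComplementSystem_map hK A
  refine ⟨fun hc b hb => ?_, fun hecc x hx => ?_⟩
  · have h1 : f b ∈ Cfsg.systemNormalizer (fun p => (K p).map f) := by
      rw [Cfsg.Agent.SysNorm.mem_systemNormalizer]
      intro p
      refine Subgroup.centralizer_le_normalizer _ (Subgroup.mem_centralizer_iff.2 fun y _ => ?_)
      obtain ⟨g, rfl⟩ := hfs y
      change Commute (f g) (f b)
      refine Commute.symm ?_
      rw [← commutatorElement_eq_one_iff_commute, ← map_commutatorElement]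
      exact (QuotientGroup.eq_one_iff _).2
        (hc (Subgroup.commutator_mem_commutator hb (Subgroup.mem_top g)))
    rw [Cfsg.Agent.SysNorm.map_systemNormalizer hK A] at h1
    have h2 : b ∈ ((Cfsg.systemNormalizer K).map f).comap f := h1
    rwa [Subgroup.comap_map_eq, QuotientGroup.ker_mk', sup_comm] at h2
  · obtain ⟨hxB, hxD⟩ := Subgroup.mem_inf.1 hx
    have hBn : (B.map f).Normal := (inferInstance : B.Normal).map f hfs
    have hB0 : B.map f ≠ ⊥ := fun h0 => by
      rw [Subgroup.map_eq_bot_iff, QuotientGroup.ker_mk'] at h0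
      exact hAB.not_ge h0
    have hmin : ∀ N : Subgroup (G ⧸ A), N.Normal → N ≤ B.map f → N = ⊥ ∨ N = B.map f := by
      intro N hN hle
      have hk : B = (B.map f).comap f := (Subgroup.comap_map_eq_self (by
        rw [QuotientGroup.ker_mk']; exact hAB.le)).symm
      rcases hchief (N.comap f) (hN.comap f) (fun a ha => by
        rw [Subgroup.mem_comap, show f a = 1 from (QuotientGroup.eq_one_iff a).2 ha]; exact N.one_mem)
        (by rw [hk]; exact Subgroup.comap_mono hle) with h | h
      · refine Or.inl ?_
        rw [← Subgroup.map_comap_eq_self_of_surjective hfs N, h]; exact QuotientGroup.map_mk'_self A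
      · refine Or.inr ?_
        rw [← Subgroup.map_comap_eq_self_of_surjective hfs N, h]
    have hecc' : ¬ B.map f ≤ Subgroup.center (G ⧸ A) := fun hcen => hecc <| by
      rw [Subgroup.commutator_le]
      intro b hb g _
      rw [← QuotientGroup.eq_one_iff]
      change f ⁅b, g⁆ = 1
      rw [map_commutatorElement, commutatorElement_eq_one_iff_commute]
      exact (Subgroup.mem_center_iff.1 (hcen (Subgroup.mem_map_of_mem f hb)) (f g)).symm
    exact (QuotientGroup.eq_one_iff x).1 (Cfsg.Agent.SysNorm.eq_one_of_eccentric hKA hB0 hmin hecc'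
      (Subgroup.mem_map_of_mem f hxB) (Cfsg.Agent.SysNorm.map_le A (Subgroup.mem_map_of_mem f hxD)))

end Cfsg.Agent.S0568
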