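import Cfsg.Statements.S0569
import Cfsg.Agent.Lib.Solvable.Carter

set_option autoImplicit false
open scoped Pointwise commutatorElement
open Cfsg

namespace Cfsg.Agent.S0569

/-- In a finite solvable group: each nilpotent self-normalizing subgroup contains the system normalizer of some Hall complement system, and the system normalizer of any Hall complement system lies in some nilpotent self-normalizing subgroup. -/
theorem result {G : Type*} [Group G] [Finite G] [Group.IsSolvable G] : (∀ C : Subgroup G, Cfsg.IsCarterSubgroup C → ∃ K : Nat.Primes → Subgroup G, Cfsg.IsComplementSystem K ∧ Cfsg.systemNormalizer K ≤ C) ∧ ∀ K : Nat.Primes → Subgroup G, Cfsg.IsComplementSystem K → ∃ C : Subgroup G, Cfsg.IsCarterSubgroup C ∧ Cfsg.systemNormalizer K ≤ C := by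
  refine ⟨fun C hC => ?_, fun K hK => ?_⟩
  · obtain ⟨K, hK⟩ := Cfsg.Agent.HallSolv.exists_complementSystem (G := G)
    obtain ⟨C0, hC0, hD, -⟩ := Cfsg.Agent.Carter.exists_carter hK
    obtain ⟨g, rfl⟩ := Cfsg.Agent.Carter.carter_conj hC0 hC
    exact ⟨_, Cfsg.Agent.SysNorm.conj_isComplementSystem hK g, by
      rw [Cfsg.Agent.SysNorm.systemNormalizer_conj]
      exact Subgroup.pointwise_smul_le_pointwise_smul_iff.2 hD⟩
  · obtain ⟨C, hC, hD, -⟩ := Cfsg.Agent.Carter.exists_carter hK
    exact ⟨C, hC, hD⟩

end Cfsg.Agent.S0569
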