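import Cfsg.Statements.S0570
import Cfsg.Agent.Lib.Solvable.Carter

set_option autoImplicit false
open scoped Pointwise commutatorElement
open Cfsg

namespace Cfsg.Agent.S0570

/-- Let G be a finite group with a nilpotent normal subgroup F such that G modulo F is nilpotent (nilpotent length at most two). Then a subgroup of G is a Carter subgroup if and only if it is the system normalizer of some Hall complement system. -/
theorem result {G : Type*} [Group G] [Finite G] (F : Subgroup G) [F.Normal] (hF : Group.IsNilpotent F) (hGF : Group.IsNilpotent (G ⧸ F)) (C : Subgroup G) : Cfsg.IsCarterSubgroup C ↔ ∃ K : Nat.Primes → Subgroup G, Cfsg.IsComplementSystem K ∧ C = Cfsg.systemNormalizer K := by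
  have : Group.IsSolvable G := by
    have := hF
    have := hGF
    exact Group.isSolvable_of_ker_le_range F.subtype (QuotientGroup.mk' F) (by simp)
  have key : ∀ K : Nat.Primes → Subgroup G, Cfsg.IsComplementSystem K →
      Cfsg.IsCarterSubgroup (Cfsg.systemNormalizer K) := by
    intro K hK
    obtain ⟨D, hD, hle, hP⟩ := Cfsg.Agent.Carter.exists_carter hK
    rwa [le_antisymm hle (Cfsg.Agent.Carter.le_systemNormalizer hF hGF hK hD hP)]
  refine ⟨fun hC => ?_, ?_⟩
  · obtain ⟨K, hK⟩ := Cfsg.Agent.HallSolv.exists_complementSystem (G := G)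
    obtain ⟨g, rfl⟩ := Cfsg.Agent.Carter.carter_conj (key K hK) hC
    exact ⟨_, Cfsg.Agent.SysNorm.conj_isComplementSystem hK g,
      (Cfsg.Agent.SysNorm.systemNormalizer_conj g).symm⟩
  · rintro ⟨K, hK, rfl⟩
    exact key K hK

end Cfsg.Agent.S0570
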