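import Cfsg.Statements.S0571
import Cfsg.Agent.Lib.Solvable.Supersolvable
import Cfsg.Agent.Lib.Solvable.Factorised

set_option autoImplicit false
open scoped Pointwise commutatorElement
open Cfsg

namespace Cfsg.Agent.S0571

/-- If a finite group G is the product AB of two cyclic subgroups (every element is a product ab), then G is supersolvable. -/
theorem result {G : Type*} [Group G] [Finite G] (A B : Subgroup G) [IsCyclic A] [IsCyclic B] (hAB : ∀ g : G, ∃ a ∈ A, ∃ b ∈ B, g = a * b) : Cfsg.IsSupersolvable G := by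
  induction hc : Nat.card G using Nat.strong_induction_on generalizing G with
  | _ n ih =>
  subst hc
  rcases subsingleton_or_nontrivial G with hG | hG
  · exact Cfsg.Agent.SupSolv.of_subsingleton
  have huniq : ∀ (C : Subgroup G) [IsCyclic C] (D E : Subgroup G), D ≤ C → E ≤ C →
      Nat.card D = Nat.card E → D = E := by
    intro C hC D E hD hE hDE
    obtain ⟨⟨g, hg⟩, hgen⟩ := hC.exists_generator
    have key : ∀ D : Subgroup G, D ≤ C → D = Subgroup.zpowers (g ^ (Nat.card C / Nat.card D)) := by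
      intro D hD
      refine Subgroup.eq_of_le_of_card_ge (fun x hx => ?_) ?_
      · obtain ⟨k, hk⟩ := Subgroup.mem_zpowers_iff.1 (hgen ⟨x, hD hx⟩)
        have hxk : g ^ k = x := congrArg Subtype.val hk
        have hord : orderOf g = Nat.card C := by
          rw [← Subgroup.orderOf_mk g hg, orderOf_eq_card_of_forall_mem_zpowers hgen]
        have h1 : ((Nat.card C : ℤ)) ∣ k * (Nat.card D : ℤ) := by
          rw [← hord, orderOf_dvd_iff_zpow_eq_one, zpow_mul, hxk, zpow_natCast]
          exact congrArg Subtype.val (pow_card_eq_one' (x := (⟨x, hx⟩ : D)))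
        obtain ⟨e, he⟩ := Subgroup.card_dvd_of_le hD
        have h2 : ((Nat.card C / Nat.card D : ℕ) : ℤ) ∣ k := by
          rw [he, Nat.mul_div_cancel_left e Nat.card_pos]
          rw [he, Nat.cast_mul, mul_comm k] at h1
          exact Int.dvd_of_mul_dvd_mul_left (by exact_mod_cast Nat.card_pos.ne') h1
        obtain ⟨i, rfl⟩ := h2
        rw [← hxk, zpow_mul, zpow_natCast]
        exact Subgroup.zpow_mem_zpowers _ i
      · rw [Nat.card_zpowers]
        refine Nat.le_of_dvd Nat.card_pos (orderOf_dvd_of_pow_eq_one ?_)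
        rw [← pow_mul, Nat.div_mul_cancel (Subgroup.card_dvd_of_le hD)]
        exact congrArg Subtype.val (pow_card_eq_one' (x := (⟨g, hg⟩ : C)))
    rw [key D hD, key E hE, hDE]
  have main : ∀ (A B : Subgroup G) [IsCyclic A] [IsCyclic B],
      (∀ g : G, ∃ a ∈ A, ∃ b ∈ B, g = a * b) → Nat.card B ≤ Nat.card A →
      ∃ N : Subgroup G, N.Normal ∧ N ≠ ⊥ ∧ N ≤ A := by
    intro A B _ hB hAB hle
    by_cases hAtop : A = ⊤
    · exact ⟨⊤, inferInstance, top_ne_bot, hAtop.ge⟩
    obtain ⟨⟨b, hb⟩, hbgen⟩ := hB.exists_generator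
    have hbA : b ∉ A := fun h0 => hAtop <| top_le_iff.1 fun g _ => by
      obtain ⟨a, ha, c, hc', rfl⟩ := hAB g
      obtain ⟨k, hk⟩ := Subgroup.mem_zpowers_iff.1 (hbgen ⟨c, hc'⟩)
      have hbk : b ^ k = c := congrArg Subtype.val hk
      exact A.mul_mem ha (hbk ▸ A.zpow_mem h0 k)
    set D := A ⊓ MulAut.conj b⁻¹ • A with hD
    have hne : D ≠ ⊥ := by
      intro h0
      let f : A × A → G := fun p => (p.1 : G) * (b⁻¹ * p.2 * b)
      have hinj : Function.Injective f := by
        rintro ⟨x, y⟩ ⟨x', y'⟩ he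
        have he' : (x : G) * (b⁻¹ * y * b) = x' * (b⁻¹ * y' * b) := he
        have h1 : (x' : G)⁻¹ * (x : G) ∈ D := by
          refine Subgroup.mem_inf.2 ⟨A.mul_mem (A.inv_mem x'.2) x.2, ?_⟩
          rw [Cfsg.Agent.SolvBasic.mem_conjSmul, inv_inv]
          have h2 : b * ((x' : G)⁻¹ * x) * b⁻¹ = (y' : G) * (y : G)⁻¹ := by
            have h3 := congrArg (fun t => b * (x' : G)⁻¹ * t * b⁻¹ * (y : G)⁻¹) he'
            simpa [mul_assoc] using h3
          rw [h2]
          exact A.mul_mem y'.2 (A.inv_mem y.2)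
        rw [h0, Subgroup.mem_bot, inv_mul_eq_one] at h1
        have hy : (y : G) = y' := by simpa [← h1] using he'
        exact Prod.ext (Subtype.ext h1.symm) (Subtype.ext hy)
      have hc1 : Nat.card G ≤ Nat.card A * Nat.card B := by
        rw [← Nat.card_prod]
        exact Nat.card_le_card_of_surjective (fun p : A × B => (p.1 : G) * p.2) fun g => by
          obtain ⟨a, ha, c, hc', e⟩ := hAB g; exact ⟨(⟨a, ha⟩, ⟨c, hc'⟩), e.symm⟩
      have hsur : Function.Surjective f := (hinj.bijective_of_nat_card_le (by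
        rw [Nat.card_prod]; exact hc1.trans (Nat.mul_le_mul_left _ hle))).2
      obtain ⟨⟨x, y⟩, hxy⟩ := hsur b
      apply hbA
      have h5 : (x : G) * (b⁻¹ * y * b) = b := hxy
      rw [← mul_assoc, mul_eq_right, ← mul_assoc, mul_eq_one_iff_eq_inv] at h5
      have h6 : b⁻¹ = (x : G)⁻¹ * (y : G)⁻¹ := by rw [← h5, inv_mul_cancel_left]
      exact inv_mem_iff.1 (h6 ▸ A.mul_mem (A.inv_mem x.2) (A.inv_mem y.2))
    refine ⟨D, ?_, hne, inf_le_left⟩
    have hbD : MulAut.conj b • D = D := by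
      refine huniq A _ _ (fun y hy => ?_) inf_le_left (Cfsg.Agent.SolvBasic.card_conjSmul b D)
      rw [Cfsg.Agent.SolvBasic.mem_conjSmul] at hy
      have h1 := (Subgroup.mem_inf.1 hy).2
      rw [Cfsg.Agent.SolvBasic.mem_conjSmul] at h1
      simpa [mul_assoc] using h1
    rw [← Subgroup.normalizer_eq_top_iff, eq_top_iff]
    intro g _
    obtain ⟨a, ha, c, hc', rfl⟩ := hAB g
    refine mul_mem (?_ : a ∈ _) ?_
    · have : IsMulCommutative A := IsCyclic.isMulCommutative
      exact (Subgroup.le_centralizer A).trans ((Subgroup.centralizer_le inf_le_left).trans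
        (Subgroup.centralizer_le_normalizer _)) ha
    · obtain ⟨k, hk⟩ := Subgroup.mem_zpowers_iff.1 (hbgen ⟨c, hc'⟩)
      rw [← show b ^ k = c from congrArg Subtype.val hk]
      exact zpow_mem (Cfsg.Agent.SolvBasic.mem_normalizer_iff_conjSmul.2 hbD) k
  obtain ⟨N, hNn, hN, hNcyc⟩ : ∃ N : Subgroup G, N.Normal ∧ N ≠ ⊥ ∧ IsCyclic N := by
    rcases le_total (Nat.card B) (Nat.card A) with hle | hle
    · obtain ⟨N, h1, h2, h3⟩ := main A B hAB hle
      exact ⟨N, h1, h2, isCyclic_of_injective (Subgroup.inclusion h3) (Subgroup.inclusion_injective h3)⟩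
    · obtain ⟨N, h1, h2, h3⟩ := main B A (Cfsg.Agent.Factorised.mul_swap hAB) hle
      exact ⟨N, h1, h2, isCyclic_of_injective (Subgroup.inclusion h3) (Subgroup.inclusion_injective h3)⟩
  have hA' : IsCyclic (A.map (QuotientGroup.mk' N)) :=
    isCyclic_of_surjective ((QuotientGroup.mk' N).subgroupMap A)
      ((QuotientGroup.mk' N).subgroupMap_surjective A)
  have hB' : IsCyclic (B.map (QuotientGroup.mk' N)) :=
    isCyclic_of_surjective ((QuotientGroup.mk' N).subgroupMap B)
      ((QuotientGroup.mk' N).subgroupMap_surjective B)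
  refine Cfsg.Agent.SupSolv.of_cyclic_normal N
    (ih _ (Cfsg.Agent.SupSolv.card_quotient_lt hN) (A.map (QuotientGroup.mk' N))
      (B.map (QuotientGroup.mk' N)) (fun g => ?_) rfl)
  obtain ⟨g, rfl⟩ := QuotientGroup.mk'_surjective N g
  obtain ⟨a, ha, c, hc', rfl⟩ := hAB g
  exact ⟨_, Subgroup.mem_map_of_mem _ ha, _, Subgroup.mem_map_of_mem _ hc', map_mul _ _ _⟩

end Cfsg.Agent.S0571
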