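import Cfsg.Statements.S0573
import Cfsg.Agent.Lib.Solvable.Factorised
import Cfsg.Agent.Lib.Solvable.Structure
import Cfsg.Agent.Lib.Solvable.NilpotentFrattini
import Cfsg.Agent.Lib.Solvable.Fitting

set_option autoImplicit false
open scoped Pointwise commutatorElement
open Cfsg

namespace Cfsg.Agent.S0573

/-- If a nontrivial finite group G is the product AB of abelian subgroups A and B, then some nontrivial normal subgroup of G is contained in A or in B. -/
theorem result {G : Type*} [Group G] [Finite G] [Nontrivial G] (A B : Subgroup G) [IsMulCommutative A] [IsMulCommutative B] (hAB : ∀ g : G, ∃ a ∈ A, ∃ b ∈ B, g = a * b) : ∃ N : Subgroup G, N.Normal ∧ N ≠ ⊥ ∧ (N ≤ A ∨ N ≤ B) := by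
  suffices main : ∀ (n : ℕ) (G : Type _) [Group G] [Finite G] [Nontrivial G] (A B : Subgroup G),
      Nat.card G ≤ n → IsMulCommutative A → IsMulCommutative B →
      (∀ g : G, ∃ a ∈ A, ∃ b ∈ B, g = a * b) →
      ∃ N : Subgroup G, N.Normal ∧ N ≠ ⊥ ∧ (N ≤ A ∨ N ≤ B) from
    main _ G A B le_rfl inferInstance inferInstance hAB
  intro n
  induction n with
  | zero => intro G _ _ _ A B hn; exact absurd hn (not_le.2 Nat.card_pos)
  | succ n ih =>
    intro G _ _ _ A B hcard hA hB hAB
    have cA : ∀ x ∈ A, ∀ y ∈ A, Commute x y := fun x hx y hy => setLike_mul_comm (s := A) hx hy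
    have cB : ∀ x ∈ B, ∀ y ∈ B, Commute x y := fun x hx y hy => setLike_mul_comm (s := B) hx hy
    by_cases hZ : ∃ z ∈ Subgroup.center G, z ≠ 1
    · obtain ⟨z, hz, hz1⟩ := hZ
      obtain ⟨a, ha, b, hb, rfl⟩ := hAB z
      have hzc := Subgroup.mem_center_iff.1 hz
      have key : ∀ (C D : Subgroup G) (x : G), x ∈ C → (∀ c ∈ C, Commute c x) →
          (∀ d ∈ D, Commute d x) → (∀ g : G, ∃ c ∈ C, ∃ d ∈ D, g = c * d) → x ≠ 1 →
          ∃ N : Subgroup G, N.Normal ∧ N ≠ ⊥ ∧ N ≤ C := by
        intro C D x hx hC hD hCD hx1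
        refine ⟨Subgroup.zpowers x, ⟨fun y hy g => ?_⟩, fun h0 => hx1 (Subgroup.zpowers_eq_bot.1 h0),
          Subgroup.zpowers_le.2 hx⟩
        obtain ⟨c, hc, d, hd, rfl⟩ := hCD g
        obtain ⟨i, rfl⟩ := Subgroup.mem_zpowers_iff.1 hy
        have h1 : Commute (c * d) (x ^ i) := ((hC c hc).mul_left (hD d hd)).zpow_right i
        rw [h1.eq, mul_inv_cancel_right]
        exact Subgroup.zpow_mem_zpowers x i
      by_cases hb1 : b = 1
      · subst hb1
        rw [mul_one] at hz1 hzc
        obtain ⟨N, h1, h2, h3⟩ := key A B a ha (fun c hc => cA c hc a ha)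
          (fun d _ => hzc d) hAB hz1
        exact ⟨N, h1, h2, Or.inl h3⟩
      · have hbA : ∀ c ∈ A, Commute c b := fun c hc => by
          have h1 : Commute c (a * b) := hzc c
          have h2 := ((cA c hc a ha).inv_right).mul_right h1
          rwa [inv_mul_cancel_left] at h2
        obtain ⟨N, h1, h2, h3⟩ := key B A b hb (fun d hd => cB d hd b hb) hbA
          (fun g => Cfsg.Agent.Factorised.mul_swap hAB g) hb1
        exact ⟨N, h1, h2, Or.inr h3⟩
    push_neg at hZ
    set D := commutator G with hD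
    have hDab : IsMulCommutative D := Cfsg.Agent.Factorised.ito hA hB hAB
    have cD : ∀ x ∈ D, ∀ y ∈ D, Commute x y := fun x hx y hy => setLike_mul_comm (s := D) hx hy
    have side : ∀ (A B : Subgroup G), IsMulCommutative A → IsMulCommutative B →
        (∀ g : G, ∃ a ∈ A, ∃ b ∈ B, g = a * b) → A ⊔ D ≠ ⊤ →
        ∃ N : Subgroup G, N.Normal ∧ N ≠ ⊥ ∧ (N ≤ A ∨ N ≤ B) := by
      intro A B hA hB hAB hne
      set R := A ⊔ D with hR
      have cA : ∀ x ∈ A, ∀ y ∈ A, Commute x y := fun x hx y hy => setLike_mul_comm (s := A) hx hy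
      have cB : ∀ x ∈ B, ∀ y ∈ B, Commute x y := fun x hx y hy => setLike_mul_comm (s := B) hx hy
      have hRn : R.Normal := ⟨fun x hx g => by
        have h1 : g * x * g⁻¹ * x⁻¹ ∈ R := Subgroup.mem_sup_right
          (Subgroup.commutator_mem_commutator (Subgroup.mem_top g) (Subgroup.mem_top x))
        simpa using R.mul_mem h1 hx⟩
      by_cases hRZ : ∃ z ∈ R, z ≠ 1 ∧ ∀ r ∈ R, Commute r z
      · refine ⟨R ⊓ Subgroup.centralizer (R : Set G), inferInstance, fun h0 => ?_, Or.inl fun z hz => ?_⟩
        · obtain ⟨z, hz, hz1, hzc⟩ := hRZ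
          exact hz1 (Subgroup.mem_bot.1 (h0 ▸ Subgroup.mem_inf.2
            ⟨hz, Subgroup.mem_centralizer_iff.2 fun r hr => (hzc r hr).eq⟩))
        · obtain ⟨hzR, hzc⟩ := Subgroup.mem_inf.1 hz
          obtain ⟨a, ha, b, hb, rfl⟩ := hAB z
          have hbA : ∀ c ∈ A, Commute c b := fun c hc => by
            have h1 : Commute c (a * b) :=
              Subgroup.mem_centralizer_iff.1 hzc c (Subgroup.mem_sup_left hc)
            have h2 := ((cA c hc a ha).inv_right).mul_right h1
            rwa [inv_mul_cancel_left] at h2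
          have hbc : b ∈ Subgroup.center G := Subgroup.mem_center_iff.2 fun g => by
            obtain ⟨c, hc, d, hd, rfl⟩ := hAB g
            exact ((hbA c hc).mul_left (cB d hd b hb)).eq
          rw [hZ b hbc, mul_one]
          exact ha
      push_neg at hRZ
      have hA0 : A ≠ ⊥ := by
        intro h0
        obtain ⟨g, hg1⟩ := exists_ne (1 : G)
        obtain ⟨a, ha, b, hb, rfl⟩ := hAB g
        rw [h0, Subgroup.mem_bot] at ha
        subst ha
        refine hg1 (hZ _ (Subgroup.mem_center_iff.2 fun g' => ?_))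
        obtain ⟨c, hc, d, hd, rfl⟩ := hAB g'
        rw [h0, Subgroup.mem_bot] at hc
        subst hc
        rw [one_mul, one_mul]
        exact (cB d hd b hb).eq
      have hRnt : Nontrivial R := (Subgroup.nontrivial_iff_ne_bot R).2 fun h0 =>
        hA0 (le_bot_iff.1 (h0 ▸ (le_sup_left : A ≤ R)))
      have hlt : Nat.card R ≤ n := by
        have h1 : Nat.card R < Nat.card G := lt_of_le_of_ne (Subgroup.card_le_card_group R)
          fun h0 => hne (Subgroup.eq_top_of_card_eq R h0)
        omega
      obtain ⟨N, hNn, hN, hNle⟩ := ih R (A.subgroupOf R) (B.subgroupOf R) hlt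
        (.of_setLike_mul_comm fun x hx y hy => Subtype.ext (setLike_mul_comm (s := A) hx hy))
        (.of_setLike_mul_comm fun x hx y hy => Subtype.ext (setLike_mul_comm (s := B) hx hy))
        (fun r => by
          obtain ⟨a, ha, b, hb, he⟩ := hAB r
          have hbR : b ∈ R := by
            have h1 := R.mul_mem (R.inv_mem (Subgroup.mem_sup_left ha)) r.2
            rw [he, inv_mul_cancel_left] at h1
            exact h1
          exact ⟨⟨a, Subgroup.mem_sup_left ha⟩, ha, ⟨b, hbR⟩, hb, Subtype.ext he⟩)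
      set N' := N.map R.subtype with hN'
      have hN'0 : N' ≠ ⊥ := fun h0 =>
        hN ((Subgroup.map_eq_bot_iff_of_injective _ R.subtype_injective).1 h0)
      have hN'R : ∀ r ∈ R, r ∈ Subgroup.normalizer (N' : Set G) := fun r hr => by
        rw [Cfsg.Agent.SolvBasic.mem_normalizer_iff_conjSmul, hN',
          ← Cfsg.Agent.SolvBasic.map_subtype_conjSmul (⟨r, hr⟩ : R),
          Cfsg.Agent.SolvBasic.conjSmul_eq_self_of_mem_normalizer (by
            have := hNn; rw [Subgroup.normalizer_eq_top]; trivial)]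
      rcases hNle with hle | hle
      · exfalso
        obtain ⟨⟨x, hxR⟩, hxN, hx1⟩ := (Subgroup.ne_bot_iff_exists_ne_one.1 hN) |> fun ⟨x, hx⟩ =>
          (⟨x.1, x.2, fun h0 => hx (Subtype.ext h0)⟩ : ∃ x : R, x ∈ N ∧ x ≠ 1)
        have hxA : x ∈ A := hle hxN
        refine hx1 (Subtype.ext ?_)
        by_contra hne1
        obtain ⟨r, hr, hrx⟩ := hRZ x hxR hne1
        apply hrx
        have hAD : ∀ d ∈ D, Commute d x := by
          intro d hd
          have h1 : d * x * d⁻¹ * x⁻¹ ∈ N' ⊓ D := by
            refine Subgroup.mem_inf.2 ⟨N'.mul_mem ?_ (N'.inv_mem ⟨_, hxN, rfl⟩), ?_⟩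
            · exact (Subgroup.mem_normalizer_iff.1 (hN'R d (Subgroup.mem_sup_right hd)) x).1
                ⟨_, hxN, rfl⟩
            · exact Subgroup.commutator_mem_commutator (Subgroup.mem_top d) (Subgroup.mem_top x)
          have h2 : d * x * d⁻¹ * x⁻¹ = 1 := by
            obtain ⟨⟨y, hy, hye⟩, hyD⟩ := Subgroup.mem_inf.1 h1
            have hyA : (y : G) ∈ A := hle hy
            rw [show R.subtype y = (y : G) from rfl] at hye
            rw [← hye] at hyD ⊢
            by_contra hy1
            obtain ⟨r', hr', hry⟩ := hRZ y y.2 hy1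
            apply hry
            refine Subgroup.mem_centralizer_singleton_iff.1
              ((sup_le (fun a ha => ?_) fun e he => ?_ : R ≤ Subgroup.centralizer {(y : G)}) hr')
            · exact Subgroup.mem_centralizer_singleton_iff.2 (cA a ha _ hyA).eq
            · exact Subgroup.mem_centralizer_singleton_iff.2 (cD e he _ hyD).eq
          rw [mul_inv_eq_one, mul_inv_eq_iff_eq_mul] at h2
          exact h2
        refine Subgroup.mem_centralizer_singleton_iff.1
          ((sup_le (fun a ha => ?_) fun e he => ?_ : R ≤ Subgroup.centralizer {x}) hr)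
        · exact Subgroup.mem_centralizer_singleton_iff.2 (cA a ha _ hxA).eq
        · exact Subgroup.mem_centralizer_singleton_iff.2 (hAD e he).eq
      · refine ⟨N', Subgroup.normalizer_eq_top_iff.1 (top_le_iff.1 fun g _ => ?_), hN'0,
          Or.inr ?_⟩
        · obtain ⟨a, ha, b, hb, rfl⟩ := hAB g
          refine mul_mem (hN'R a (Subgroup.mem_sup_left ha)) ?_
          refine Subgroup.centralizer_le_normalizer _ (Subgroup.mem_centralizer_iff.2 ?_)
          rintro y ⟨z, hz, rfl⟩
          exact (cB _ (hle hz) b hb).eq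
        · rintro y ⟨z, hz, rfl⟩
          exact hle hz
    by_cases hAD : A ⊔ D = ⊤
    swap
    · exact side A B hA hB hAB hAD
    by_cases hBD : B ⊔ D = ⊤
    swap
    · obtain ⟨N, h1, h2, h3⟩ := side B A hB hA (fun g => Cfsg.Agent.Factorised.mul_swap hAB g) hBD
      exact ⟨N, h1, h2, h3.symm⟩
    exfalso
    have hinfD : ∀ C : Subgroup G, IsMulCommutative C → C ⊔ D = ⊤ → C ⊓ D = ⊥ := by
      intro C hC htop
      rw [eq_bot_iff]
      intro x hx
      obtain ⟨hxC, hxD⟩ := Subgroup.mem_inf.1 hx
      refine Subgroup.mem_bot.2 (hZ x (Subgroup.mem_center_iff.2 fun g => ?_))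
      exact Subgroup.mem_centralizer_singleton_iff.1 ((htop.ge.trans
        (sup_le (fun c hc => Subgroup.mem_centralizer_singleton_iff.2
          (setLike_mul_comm (s := C) hc hxC)) (fun d hd => Subgroup.mem_centralizer_singleton_iff.2
          (cD d hd x hxD).eq))) (Subgroup.mem_top g))
    have hnD : ∀ C : Subgroup G, C ≤ Subgroup.normalizer (D : Set G) := fun C => by
      rw [Subgroup.normalizer_eq_top]; exact le_top
    have hcardC : ∀ C : Subgroup G, IsMulCommutative C → C ⊔ D = ⊤ →
        Nat.card G = Nat.card D * Nat.card C := fun C hC htop => by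
      have h1 := Cfsg.Agent.SolvBasic.card_sup_of_inf_eq_bot (hnD C)
        (by rw [inf_comm]; exact hinfD C hC htop)
      rwa [sup_comm, htop, Subgroup.card_top] at h1
    have hcA := hcardC A hA hAD
    have hcB := hcardC B hB hBD
    have hGle : Nat.card G ≤ Nat.card A * Nat.card B := by
      rw [← Nat.card_prod]
      exact Nat.card_le_card_of_surjective (fun p : A × B => (p.1 : G) * p.2) fun g => by
        obtain ⟨a, ha, c, hc', e⟩ := hAB g; exact ⟨(⟨a, ha⟩, ⟨c, hc'⟩), e.symm⟩
    have hDne : D ≠ ⊥ := fun h0 => by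
      obtain ⟨g, hg1⟩ := exists_ne (1 : G)
      refine hg1 (hZ g (Subgroup.mem_center_iff.2 fun g' => ?_))
      have h2 : ⁅g', g⁆ ∈ D :=
        Subgroup.commutator_mem_commutator (Subgroup.mem_top g') (Subgroup.mem_top g)
      rw [h0, Subgroup.mem_bot] at h2
      exact commutatorElement_eq_one_iff_commute.1 h2
    obtain ⟨p, hp, hpd⟩ := Nat.exists_prime_and_dvd (fun h0 => hDne (Subgroup.eq_bot_of_card_eq _ h0))
    have : Fact p.Prime := ⟨hp⟩
    letI : CommGroup D := { (inferInstance : Group D) with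
      mul_comm := fun x y => Subtype.ext (cD x x.2 y y.2) }
    have hDnil : Group.IsNilpotent D := CommGroup.isNilpotent
    have hDn : D.Normal := inferInstance
    set E := (Cfsg.pPrimeCore p D).map D.subtype with hE
    have hEn : E.Normal := Cfsg.Agent.FittingCores.normal_map_of_characteristic hDn
      (Cfsg.Agent.FittingCores.pPrimeCore_characteristic p)
    set f := QuotientGroup.mk' E with hf
    have hfs := QuotientGroup.mk'_surjective E
    set D' := D.map f with hD'
    have hD'p : IsPGroup p D' := by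
      have h2 : Cfsg.pCore p D ⊔ Cfsg.pPrimeCore p D = ⊤ := top_le_iff.1
        ((Cfsg.Agent.FittingCores.le_fitting inferInstance
          (show Group.IsNilpotent (⊤ : Subgroup D) from inferInstance)).trans
          (Cfsg.Agent.FittingCores.fitting_le_pCore_sup_pPrimeCore hp))
      have h3 : D' = ((Cfsg.pCore p D).map D.subtype).map f := by
        rw [hD']
        conv_lhs => rw [← D.range_subtype, MonoidHom.range_eq_map, ← h2, Subgroup.map_sup,
          Subgroup.map_sup, ← hE, hf, QuotientGroup.map_mk'_self, sup_bot_eq]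
      rw [h3]
      exact ((Cfsg.Agent.FittingCores.pCore_isPGroup (G := D) p).map D.subtype).map f
    set A' := A.map f with hA'
    set B' := B.map f with hB'
    have htopA : D' ⊔ A' = ⊤ := by
      rw [hD', hA', ← Subgroup.map_sup, sup_comm, hAD, Subgroup.map_top_of_surjective _ hfs]
    have hAE : A ⊓ E = ⊥ := le_bot_iff.1 ((inf_le_inf_left A (Subgroup.map_subtype_le _)).trans
      (hinfD A hA hAD).le)
    have hBE : B ⊓ E = ⊥ := le_bot_iff.1 ((inf_le_inf_left B (Subgroup.map_subtype_le _)).trans
      (hinfD B hB hBD).le)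
    have cm : ∀ C : Subgroup G, IsMulCommutative C → ∀ x ∈ C.map f, ∀ y ∈ C.map f, Commute x y := by
      rintro C hC _ ⟨x, hx, rfl⟩ _ ⟨y, hy, rfl⟩
      exact (show Commute x y from setLike_mul_comm (s := C) hx hy).map f
    have hAB' : A' ⊓ B' ≤ Subgroup.center (G ⧸ E) := fun x hx => Subgroup.mem_center_iff.2 fun g => by
      obtain ⟨g, rfl⟩ := hfs g
      obtain ⟨a, ha, b, hb, rfl⟩ := hAB g
      rw [map_mul]
      exact ((cm A hA _ (Subgroup.mem_map_of_mem f ha) x (Subgroup.mem_inf.1 hx).1).mul_left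
        (cm B hB _ (Subgroup.mem_map_of_mem f hb) x (Subgroup.mem_inf.1 hx).2)).eq
    obtain ⟨k, hk⟩ := hD'p.exists_card_eq
    have hnD' : A' ≤ Subgroup.normalizer (D' : Set (G ⧸ E)) := by
      have : D'.Normal := hDn.map f hfs
      rw [Subgroup.normalizer_eq_top]; exact le_top
    have hQc : Nat.card (G ⧸ E) ∣ p ^ k * Nat.card A' := by
      have h1 := Cfsg.Agent.SolvBasic.card_sup_mul_card_inf hnD'
      rw [htopA, Subgroup.card_top, hk] at h1
      exact ⟨_, h1.symm⟩
    have hidx : ∃ i, (A' ⊓ B').relIndex A' ∣ p ^ i := by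
      have hAB1 : Nat.card B' = Nat.card A' := by
        rw [hB', hA', Cfsg.Agent.SolvBasic.card_map_mk'_of_inf_eq_bot hBE,
          Cfsg.Agent.SolvBasic.card_map_mk'_of_inf_eq_bot hAE]
        exact Nat.eq_of_mul_eq_mul_left (Nat.card_pos (α := D)) (hcB.symm.trans hcA)
      refine ⟨k, ?_⟩
      have h1 : (A' ⊓ B').relIndex A' = B'.relIndex A' := Subgroup.inf_relIndex_left _ _
      rw [h1]
      have h2 : B'.index = B'.relIndex A' := Cfsg.Agent.SolvStruct.index_eq_relIndex_of_mul fun g => by
        obtain ⟨g, rfl⟩ := hfs g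
        obtain ⟨a, ha, b, hb, rfl⟩ := hAB g
        exact ⟨_, Subgroup.mem_map_of_mem f ha, _, Subgroup.mem_map_of_mem f hb, map_mul f a b⟩
      rw [← h2]
      have h3 := B'.index_mul_card
      rw [hAB1] at h3
      exact (Nat.mul_dvd_mul_iff_right Nat.card_pos).1 (h3 ▸ hQc)
    set Z := Subgroup.center (G ⧸ E) with hZdef
    set π := QuotientGroup.mk' Z with hπ
    have hQnil : Group.IsNilpotent (G ⧸ E) := by
      have hpg : IsPGroup p ((G ⧸ E) ⧸ Z) := by
        have hAZ : IsPGroup p (A'.map π) := by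
          obtain ⟨i, hi⟩ := hidx
          rintro ⟨_, a, ha, rfl⟩
          refine ⟨i, Subtype.ext ?_⟩
          rw [SubmonoidClass.coe_pow, ← map_pow]
          refine (QuotientGroup.eq_one_iff _).2 (hAB' ?_)
          have : ((A' ⊓ B').subgroupOf A').Normal := ⟨fun x hx g => by
            have : g * x * g⁻¹ = x := by
              rw [show g * x = x * g from Subtype.ext (cm A hA g g.2 x x.2).eq, mul_inv_cancel_right]
            rwa [this]⟩
          obtain ⟨e, he⟩ := hi
          rw [he, pow_mul]
          exact Subgroup.pow_mem _ (((A' ⊓ B').subgroupOf A').pow_index_mem ⟨a, ha⟩) e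
        have : (D'.map π).Normal :=
          (hDn.map f hfs).map π (QuotientGroup.mk'_surjective Z)
        have hsup := (hD'p.map π).to_sup_of_normal_left hAZ
        rw [← Subgroup.map_sup, htopA, Subgroup.map_top_of_surjective _
          (QuotientGroup.mk'_surjective Z)] at hsup
        exact fun x => by
          obtain ⟨i, hi⟩ := hsup ⟨x, Subgroup.mem_top x⟩
          exact ⟨i, congrArg Subtype.val hi⟩
      have := hpg.isNilpotent
      exact Group.of_quotient_center_nilpotent this
    have hstep : D' ≤ ⁅D', (⊤ : Subgroup (G ⧸ E))⁆ := by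
      have hDA : D ≤ ⁅D, (⊤ : Subgroup G)⁆ := by
        set W := ⁅D, (⊤ : Subgroup G)⁆ with hW
        set π' := QuotientGroup.mk' W
        have hDc : ∀ d ∈ D, ∀ g : G, Commute (π' d) (π' g) := fun d hd g => by
          rw [← commutatorElement_eq_one_iff_commute, ← map_commutatorElement]
          exact (QuotientGroup.eq_one_iff _).2
            (Subgroup.commutator_mem_commutator hd (Subgroup.mem_top g))
        rw [hD, commutator_def, Subgroup.commutator_le]
        intro g _ g' _
        rw [← QuotientGroup.eq_one_iff]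
        change π' ⁅g, g'⁆ = 1
        obtain ⟨d, hd, a, ha, rfl⟩ := (Cfsg.Agent.SolvBasic.mem_sup_iff_of_le_normalizer (hnD A)).1
          (show g ∈ D ⊔ A by rw [sup_comm, hAD]; exact Subgroup.mem_top g)
        obtain ⟨d', hd', a', ha', rfl⟩ := (Cfsg.Agent.SolvBasic.mem_sup_iff_of_le_normalizer (hnD A)).1
          (show g' ∈ D ⊔ A by rw [sup_comm, hAD]; exact Subgroup.mem_top g')
        rw [map_commutatorElement, commutatorElement_eq_one_iff_commute, map_mul, map_mul]
        exact (((hDc d hd d').mul_right (hDc d hd a'))).mul_left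
          ((hDc d' hd' a).symm.mul_right
            ((show Commute a a' from setLike_mul_comm (s := A) ha ha').map π'))
      rw [hD']
      calc D.map f ≤ (⁅D, (⊤ : Subgroup G)⁆).map f := Subgroup.map_mono hDA
        _ = _ := by rw [Subgroup.map_commutator, Subgroup.map_top_of_surjective _ hfs]
    have hlcs : ∀ i, D' ≤ (⊤ : Subgroup (G ⧸ E)).lowerCentralSeries i := by
      intro i
      induction i with
      | zero => exact le_top
      | succ i ihi => exact hstep.trans (Subgroup.commutator_mono ihi le_rfl)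
    obtain ⟨i, hi⟩ := Subgroup.nilpotent_iff_lowerCentralSeries.1 hQnil
    have hD'0 : D.map f = ⊥ := le_bot_iff.1 (hi ▸ hlcs i)
    rw [Subgroup.map_eq_bot_iff, QuotientGroup.ker_mk'] at hD'0
    exact hp.one_lt.ne' (Nat.eq_one_of_dvd_coprimes
      (Cfsg.Agent.FittingCores.pPrimeCore_coprime (G := D) p)
      (by
        have h1 := Subgroup.card_dvd_of_le hD'0
        rw [hE, Nat.card_congr ((Cfsg.pPrimeCore p D).equivMapOfInjective _ D.subtype_injective).toEquiv.symm] at h1
        exact hpd.trans h1) dvd_rfl)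

end Cfsg.Agent.S0573
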