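import Cfsg.Statements.S0576
import Cfsg.Agent.Lib.Solvable.Structure

set_option autoImplicit false
open scoped Pointwise commutatorElement
open Cfsg

namespace Cfsg.Agent.S0576

/-- Let H be a normal subgroup of a finite group G with H contained in the Frattini subgroup of G. Then the group of inner automorphisms of H is contained in the Frattini subgroup of the automorphism group of H. -/
theorem result {G : Type*} [Group G] [Finite G] (H : Subgroup G) [H.Normal] (hH : H ≤ frattini G) : (MulAut.conj : ↥H →* MulAut ↥H).range ≤ frattini (MulAut ↥H) := by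
  let f : G →* MulAut H := MulAut.conjNormal
  have hker : ∀ h : H, f (h : G) = MulAut.conj h := fun h => by
    ext x; simp [f]
  refine Cfsg.Agent.SolvStruct.le_frattini_of_le_map_frattini (H := f.range) ?_ ?_
  · refine ⟨fun a ha e => ?_⟩
    obtain ⟨h, rfl⟩ := ha
    refine ⟨e h, ?_⟩
    ext x
    simp [MulAut.mul_def, MulAut.inv_def]
  · rintro _ ⟨h, rfl⟩
    refine ⟨f.rangeRestrict (h : G), ?_, hker h⟩
    exact frattini_le_comap_frattini_of_surjective f.rangeRestrict_surjective (hH h.2)

end Cfsg.Agent.S0576
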