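import Cfsg.Statements.S0577
import Cfsg.Agent.S0536
import Cfsg.Agent.Lib.Solvable.MinimalNonNilpotent
import Cfsg.Agent.Lib.Solvable.NilpotentFrattini
import Cfsg.Agent.Lib.Solvable.Coprime

set_option autoImplicit false
open scoped Pointwise commutatorElement
open Cfsg

namespace Cfsg.Agent.S0577

/-- Let G be a finite minimal non-nilpotent group and Q a normal Sylow q-subgroup of G, and let D be the commutator subgroup of Q regarded in G (a normal subgroup). Then G modulo D is non-abelian and all its proper subgroups are abelian. -/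
theorem result {G : Type*} [Group G] [Finite G] (hG : Cfsg.IsMinimalNonNilpotent G) (q : ℕ) [Fact q.Prime] (hq : q ∣ Nat.card G) (Q : Sylow q G) (hQ : (Q : Subgroup G).Normal) (D : Subgroup G) [D.Normal] (hD : D = (commutator ↥(Q : Subgroup G)).map (Q : Subgroup G).subtype) : ¬ IsMulCommutative (G ⧸ D) ∧ ∀ K : Subgroup (G ⧸ D), K ≠ ⊤ → IsMulCommutative K := by
  obtain ⟨p, q', hp, hq', hne, P, Q', hPc, hQn', hPQ⟩ := Cfsg.Agent.S0536.result (G := G) hG
  have : Fact p.Prime := ⟨hp⟩
  have : Fact q'.Prime := ⟨hq'⟩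
  have hn : ∀ X Y : Subgroup G, Y.Normal → X ≤ Subgroup.normalizer (Y : Set G) :=
    fun X Y hY => by have := hY; rw [Subgroup.normalizer_eq_top]; exact le_top
  have hdisj : (Q' : Subgroup G) ⊓ P = ⊥ :=
    (IsPGroup.disjoint_of_ne q' p hne.symm _ _ Q'.isPGroup' P.isPGroup').eq_bot
  have hcard : Nat.card G = Nat.card (Q' : Subgroup G) * Nat.card (P : Subgroup G) := by
    have := Cfsg.Agent.SolvBasic.card_sup_of_inf_eq_bot (hn (P : Subgroup G) _ hQn') hdisj
    rwa [sup_comm, hPQ, Subgroup.card_top] at this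
  have hother : ∀ r : ℕ, r.Prime → r ∣ Nat.card G → r = p ∨ r = q' := fun r hr hrd => by
    rw [hcard, Q'.card_eq_multiplicity, P.card_eq_multiplicity] at hrd
    rcases hr.dvd_mul.1 hrd with hd | hd
    · exact Or.inr ((Nat.prime_dvd_prime_iff_eq hr hq').1 (hr.dvd_of_dvd_pow hd))
    · exact Or.inl ((Nat.prime_dvd_prime_iff_eq hr hp).1 (hr.dvd_of_dvd_pow hd))
  have hPn : ¬ (P : Subgroup G).Normal := fun hPn =>
    hG.1 ((Group.isNilpotent_of_finite_tfae.out 0 3 rfl rfl).2 fun r hr S => by
      by_cases hrd : r ∣ Nat.card G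
      · rcases hother r hr.out hrd with rfl | rfl
        · obtain ⟨g, hg⟩ := MulAction.exists_smul_eq G P S
          rw [Sylow.smul_eq_of_normal] at hg
          exact hg ▸ hPn
        · obtain ⟨g, hg⟩ := MulAction.exists_smul_eq G Q' S
          rw [Sylow.smul_eq_of_normal] at hg
          exact hg ▸ hQn'
      · have hb : (S : Subgroup G) = ⊥ := Subgroup.eq_bot_of_card_eq _ (by
          rw [S.card_eq_multiplicity, Nat.factorization_eq_zero_of_not_dvd hrd, pow_zero])
        rw [hb]; infer_instance)
  obtain rfl : q = q' := (hother q Fact.out hq).resolve_left fun h0 => hPn (by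
    subst h0
    obtain ⟨g, hg⟩ := MulAction.exists_smul_eq G Q P
    rw [Sylow.smul_eq_of_normal] at hg
    exact hg ▸ hQ)
  obtain rfl : Q' = Q := by
    obtain ⟨g, hg⟩ := MulAction.exists_smul_eq G Q' Q
    rwa [Sylow.smul_eq_of_normal] at hg
  have hsur := QuotientGroup.mk'_surjective D
  set f := QuotientGroup.mk' D with hf
  have hDQ : D ≤ (Q' : Subgroup G) := hD ▸ Subgroup.map_subtype_le _
  refine ⟨fun hab => hPn ?_, fun K hK => ?_⟩
  · have := Q'.isPGroup'.isNilpotent
    have hcop : (Nat.card (P : Subgroup G)).Coprime (Nat.card (frattini (Q' : Subgroup G))) := by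
      obtain ⟨i, hi⟩ := P.isPGroup'.exists_card_eq
      obtain ⟨j, hj⟩ := (Q'.isPGroup'.to_subgroup (frattini (Q' : Subgroup G))).exists_card_eq
      rw [hi, hj]
      exact Nat.Coprime.pow _ _ ((Nat.coprime_primes hp Fact.out).2 hne)
    have hPC : (P : Subgroup G) ≤ Subgroup.centralizer ((Q' : Subgroup G) : Set G) := by
      refine Cfsg.Agent.CoprimeAct.le_centralizer_of_frattini (hn _ _ hQn') hcop fun a _ x _ => ?_
      have h1 : a * x * a⁻¹ * x⁻¹ ∈ D := by
        rw [← QuotientGroup.eq_one_iff]
        change f _ = 1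
        rw [map_mul, map_mul, map_mul, map_inv, map_inv, hab.is_comm.comm (f a) (f x)]
        simp
      rw [hD] at h1
      exact Subgroup.map_mono (Cfsg.Agent.SolvStruct.commutator_le_frattini _) h1
    exact Subgroup.normalizer_eq_top_iff.1 (top_le_iff.1 (hPQ.ge.trans
      (sup_le Subgroup.le_normalizer
        ((Subgroup.le_centralizer_iff.1 hPC).trans (Subgroup.centralizer_le_normalizer _)))))
  · have hne' : K.comap f ≠ ⊤ := fun h0 => hK
      (Subgroup.comap_injective hsur (h0.trans (Subgroup.comap_top _).symm))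
    have hLnil := hG.2 _ hne'
    have : Group.IsNilpotent K :=
      Group.nilpotent_of_surjective (f.subgroupComap K) (f.subgroupComap_surjective_of_surjective K hsur)
    refine Cfsg.Agent.SolvMinNN.commutative_of_sylows fun r hr S => ?_
    set Sm := (S : Subgroup K).map K.subtype with hSm
    suffices h1 : IsMulCommutative Sm by
      exact .of_setLike_mul_comm fun a ha b hb => K.subtype_injective (by
        rw [map_mul, map_mul]
        exact setLike_mul_comm (s := Sm) (Subgroup.mem_map_of_mem _ ha) (Subgroup.mem_map_of_mem _ hb))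
    obtain ⟨T, hT⟩ := (S.isPGroup'.map K.subtype).exists_le_sylow
    suffices h2 : IsMulCommutative (T : Subgroup (G ⧸ D)) from
      .of_setLike_mul_comm fun a ha b hb => setLike_mul_comm (s := (T : Subgroup (G ⧸ D))) (hT ha) (hT hb)
    by_cases hrd : r ∣ Nat.card G
    · rcases hother r hr.out hrd with rfl | rfl
      · obtain ⟨g, hg⟩ := MulAction.exists_smul_eq (G ⧸ D) (P.mapSurjective hsur) T
        have hcyc : IsCyclic (T : Subgroup (G ⧸ D)) := by
          rw [← hg]
          have : IsCyclic ((P.mapSurjective hsur : Sylow r (G ⧸ D)) : Subgroup (G ⧸ D)) :=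
            isCyclic_of_surjective (f.subgroupMap (P : Subgroup G)) (f.subgroupMap_surjective _)
          exact isCyclic_of_surjective (Subgroup.equivSMul (MulAut.conj g) _)
            (Subgroup.equivSMul (MulAut.conj g) _).surjective
        exact IsCyclic.isMulCommutative
      · have hTQ : T = Q'.mapSurjective hsur := by
          obtain ⟨g, hg⟩ := MulAction.exists_smul_eq (G ⧸ D) (Q'.mapSurjective hsur) T
          have : ((Q'.mapSurjective hsur : Sylow r (G ⧸ D)) : Subgroup (G ⧸ D)).Normal :=
            hQn'.map f hsur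
          rw [Sylow.smul_eq_of_normal] at hg
          exact hg.symm
        rw [hTQ]
        refine .of_setLike_mul_comm ?_
        rintro _ ⟨a, ha, rfl⟩ _ ⟨b, hb, rfl⟩
        change f a * f b = f b * f a
        rw [← map_mul, ← map_mul]
        refine QuotientGroup.eq.2 ?_
        have h3 : ⁅(⟨b, hb⟩ : (Q' : Subgroup G))⁻¹, (⟨a, ha⟩ : (Q' : Subgroup G))⁻¹⁆ ∈
            commutator (Q' : Subgroup G) :=
          Subgroup.commutator_mem_commutator (Subgroup.mem_top _) (Subgroup.mem_top _)
        have h4 := Subgroup.mem_map_of_mem (Q' : Subgroup G).subtype h3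
        rw [← hD] at h4
        convert h4 using 1
        simp [commutatorElement_def, mul_assoc]
    · have hb : (T : Subgroup (G ⧸ D)) = ⊥ := Subgroup.eq_bot_of_card_eq _ (by
        rw [T.card_eq_multiplicity, Nat.factorization_eq_zero_of_not_dvd fun hd =>
          hrd (hd.trans D.card_quotient_dvd_card), pow_zero])
      rw [hb]
      exact .of_setLike_mul_comm fun a ha b hb => by
        rw [Subgroup.mem_bot.1 ha, Subgroup.mem_bot.1 hb]

end Cfsg.Agent.S0577
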