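import Cfsg.Statements.S0578
import Cfsg.Agent.Lib.OddOrder.Nilpotent

set_option autoImplicit false
open scoped Pointwise commutatorElement
open Cfsg

namespace Cfsg.Agent.S0578

/-- If in a finite group the normalizer of each abelian subgroup coincides with its centralizer, then the group is abelian. -/
theorem result {G : Type*} [Group G] [Finite G] (h : ∀ A : Subgroup G, IsMulCommutative A → Subgroup.normalizer (A : Set G) = Subgroup.centralizer (A : Set G)) : IsMulCommutative G := by
  have key : ∀ (p : ℕ) [Fact p.Prime] (P : Sylow p G),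
      Subgroup.normalizer ((P : Subgroup G) : Set G) ≤ Subgroup.centralizer ((P : Subgroup G) : Set G) := by
    intro p _ P
    have := P.isPGroup'.isNilpotent
    obtain ⟨A, hAn, hAc, hAself⟩ :=
      Cfsg.Agent.OddOrder.Nilp.exists_normal_abelian_self_centralizing (G := (P : Subgroup G))
    set A' := A.map (P : Subgroup G).subtype with hA'
    have hA'c : IsMulCommutative A' := inferInstance
    have hPA : (P : Subgroup G) ≤ Subgroup.centralizer (A' : Set G) := by
      rw [← h A' hA'c, hA']
      have h1 := Subgroup.le_normalizer_map (H := A) (P : Subgroup G).subtype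
      rwa [Subgroup.normalizer_eq_top_iff.2 hAn, ← MonoidHom.range_eq_map,
        Subgroup.range_subtype] at h1
    have hPeq : A' = (P : Subgroup G) := by
      refine le_antisymm (Subgroup.map_subtype_le A) fun x hx => ?_
      refine ⟨⟨x, hx⟩, ?_, rfl⟩
      rw [SetLike.mem_coe, ← hAself, Subgroup.mem_centralizer_iff]
      intro a ha
      exact Subtype.ext (Subgroup.mem_centralizer_iff.1 (hPA hx) _ ⟨a, ha, rfl⟩)
    rw [← hPeq]
    exact (h A' hA'c).le
  have hbot : commutator G = ⊥ := by
    rw [← Subgroup.card_eq_one]
    by_contra hne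
    obtain ⟨p, hp, hdvd⟩ := Nat.exists_prime_and_dvd hne
    have := Fact.mk hp
    obtain ⟨P⟩ := (inferInstance : Nonempty (Sylow p G))
    have hP : IsMulCommutative (P : Subgroup G) :=
      Subgroup.le_centralizer_iff_isMulCommutative.1 (Subgroup.le_normalizer.trans (key p P))
    open scoped IsMulCommutative in
    have hle : commutator G ≤ (MonoidHom.transferSylow P (key p P)).ker :=
      Abelianization.commutator_subset_ker _
    exact MonoidHom.not_dvd_card_ker_transferSylow P (key p P)
      (hdvd.trans (Subgroup.card_dvd_of_le hle))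
  refine ⟨⟨fun a b => ?_⟩⟩
  have h1 : ⁅a, b⁆ ∈ commutator G :=
    Subgroup.commutator_mem_commutator (Subgroup.mem_top a) (Subgroup.mem_top b)
  rw [hbot, Subgroup.mem_bot] at h1
  exact commutatorElement_eq_one_iff_mul_comm.1 h1

end Cfsg.Agent.S0578
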