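import Cfsg.Statements.S0582
import Cfsg.Agent.Lib.Solvable.Supersolvable

set_option autoImplicit false
open scoped Pointwise commutatorElement
open Pointwise
open Cfsg

namespace Cfsg.Agent.S0582

/-- Let H and K be supersolvable subgroups of a finite group G of the same order, that order being coprime to their index. Then H and K are conjugate in G. -/
theorem result {G : Type*} [Group G] [Finite G] (H K : Subgroup G) (hH : Cfsg.IsSupersolvable H) (hK : Cfsg.IsSupersolvable K) (hcard : Nat.card H = Nat.card K) (hHall : (Nat.card H).Coprime H.index) : ∃ x : G, MulAut.conj x • H = K := by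
  induction hc : Nat.card G using Nat.strong_induction_on generalizing G with
  | _ n ih =>
  subst hc
  by_cases hH0 : H = ⊥
  · refine ⟨1, ?_⟩
    subst hH0
    have : K = ⊥ := Subgroup.eq_bot_of_card_eq _ (by rw [← hcard, Subgroup.card_bot])
    subst this
    simp
  have hHnt : Nontrivial H := (Subgroup.nontrivial_iff_ne_bot H).2 hH0
  have hne : (Nat.card H).primeFactors.Nonempty := Nat.nonempty_primeFactors.2 Finite.one_lt_card
  set p := (Nat.card H).primeFactors.max' hne
  obtain ⟨hp, hpd, -⟩ := Nat.mem_primeFactors.1 ((Nat.card H).primeFactors.max'_mem hne)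
  have : Fact p.Prime := ⟨hp⟩
  have hmax : ∀ q : ℕ, q.Prime → q ∣ Nat.card H → q ≤ p := fun q hq hqd =>
    Finset.le_max' _ _ (Nat.mem_primeFactors.2 ⟨hq, hqd, Nat.card_pos.ne'⟩)
  obtain ⟨SH⟩ := (inferInstance : Nonempty (Sylow p H))
  obtain ⟨SK⟩ := (inferInstance : Nonempty (Sylow p K))
  have hSHn := Cfsg.Agent.SupSolv.sylow_normal_of_max hH p hmax SH
  have hSKn := Cfsg.Agent.SupSolv.sylow_normal_of_max hK p (hcard ▸ hmax) SK
  have hfull : ∀ (X : Subgroup G), Nat.card X = Nat.card H → X.index.Coprime (Nat.card H) →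
      ∀ SX : Sylow p X, ∃ S : Sylow p G, (S : Subgroup G) = (SX : Subgroup X).map X.subtype := by
    intro X hX hXi SX
    refine ⟨(SX.isPGroup'.map X.subtype).toSylow fun hd => ?_, rfl⟩
    rw [Subgroup.index_map_subtype] at hd
    rcases hp.dvd_mul.1 hd with hd | hd
    · exact SX.not_dvd_index hd
    · exact hp.one_lt.ne' (Nat.eq_one_of_dvd_coprimes hXi hd hpd)
  obtain ⟨S, hS⟩ := hfull H rfl hHall.symm SH
  obtain ⟨T, hT⟩ := hfull K hcard.symm (by
    have : K.index = H.index := by
      have h1 := K.index_mul_card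
      rw [← hcard, ← H.index_mul_card] at h1
      exact Nat.eq_of_mul_eq_mul_right Nat.card_pos h1
    rw [this]; exact hHall.symm) SK
  obtain ⟨g, hg⟩ := MulAction.exists_smul_eq G T S
  set K' := MulAut.conj g • K with hK'
  set L := Subgroup.normalizer ((S : Subgroup G) : Set G) with hL
  have hnormof : ∀ (X : Subgroup G) (SX : Sylow p X), (SX : Subgroup X).Normal →
      X ≤ Subgroup.normalizer (((SX : Subgroup X).map X.subtype : Subgroup G) : Set G) := by
    intro X SX hn x hx
    rw [Cfsg.Agent.SolvBasic.mem_normalizer_iff_conjSmul,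
      ← Cfsg.Agent.SolvBasic.map_subtype_conjSmul (⟨x, hx⟩ : X),
      Cfsg.Agent.SolvBasic.conjSmul_eq_self_of_mem_normalizer (by
        have := hn; rw [Subgroup.normalizer_eq_top]; trivial)]
  have hHL : H ≤ L := by rw [hL, hS]; exact hnormof H SH hSHn
  have hKL : K' ≤ L := by
    rw [hL, ← hg, Sylow.coe_subgroup_smul, Cfsg.Agent.SolvBasic.normalizer_conjSmul]
    exact Subgroup.pointwise_smul_le_pointwise_smul_iff.2 (hT ▸ hnormof K SK hSKn)
  have hSH : (S : Subgroup G) ≤ H := hS ▸ Subgroup.map_subtype_le _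
  have hSK : (S : Subgroup G) ≤ K' := by
    rw [← hg, Sylow.coe_subgroup_smul, hT]
    exact Subgroup.pointwise_smul_le_pointwise_smul_iff.2 (Subgroup.map_subtype_le _)
  set N := (S : Subgroup G).subgroupOf L with hN
  have hNn : N.Normal := Subgroup.normal_subgroupOf_of_le_normalizer le_rfl
  set f := QuotientGroup.mk' N
  have hSne : N ≠ ⊥ := by
    intro h0
    rw [Subgroup.subgroupOf_eq_bot, disjoint_iff, inf_eq_left.2 Subgroup.le_normalizer] at h0
    have hd : p ∣ Nat.card G := hpd.trans H.card_subgroup_dvd_card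
    exact S.ne_bot_of_dvd_card hd h0
  have hcardof : ∀ X : Subgroup G, X ≤ L → (S : Subgroup G) ≤ X →
      Nat.card ((X.subgroupOf L).map f) * Nat.card N = Nat.card X := by
    intro X hXL hSX
    have hle : N ≤ X.subgroupOf L := Subgroup.comap_mono hSX
    rw [← Nat.card_congr (Subgroup.subgroupOfEquivOfLe hXL).toEquiv,
      ← Subgroup.card_mul_index (N.subgroupOf (X.subgroupOf L)),
      Nat.card_congr (Subgroup.subgroupOfEquivOfLe hle).toEquiv, mul_comm]
    congr 1
    have h3 := Subgroup.relIndex_comap (⊥ : Subgroup (L ⧸ N)) f (X.subgroupOf L)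
    rw [Subgroup.relIndex_bot_left, MonoidHom.comap_bot, QuotientGroup.ker_mk'] at h3
    exact h3.symm
  have hcH := hcardof H hHL hSH
  have hcK := hcardof K' hKL hSK
  rw [hK', Cfsg.Agent.SolvBasic.card_conjSmul, ← hcard, ← hK', ← hcH] at hcK
  have hlt : Nat.card (L ⧸ N) < Nat.card G :=
    (Cfsg.Agent.SupSolv.card_quotient_lt hSne).trans_le (Subgroup.card_le_card_group L)
  have hssof : ∀ X : Subgroup G, X ≤ L → Cfsg.IsSupersolvable X →
      Cfsg.IsSupersolvable ((X.subgroupOf L).map f) := fun X hXL hX =>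
    Cfsg.Agent.SupSolv.of_surjective
      (f := (f.subgroupMap (X.subgroupOf L)).comp (Subgroup.subgroupOfEquivOfLe hXL).symm.toMonoidHom)
      ((f.subgroupMap_surjective _).comp (Subgroup.subgroupOfEquivOfLe hXL).symm.surjective) hX
  have hK'ss : Cfsg.IsSupersolvable K' := Cfsg.Agent.SupSolv.of_surjective
    (f := (Subgroup.equivSMul (MulAut.conj g) K).toMonoidHom)
    (Subgroup.equivSMul (MulAut.conj g) K).surjective hK
  obtain ⟨y, hy⟩ := ih _ hlt ((H.subgroupOf L).map f) ((K'.subgroupOf L).map f)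
    (hssof H hHL hH) (hssof K' hKL hK'ss)
    (Nat.eq_of_mul_eq_mul_right Nat.card_pos hcK).symm (by
      refine Nat.Coprime.coprime_dvd_right (Subgroup.index_map_dvd _ (QuotientGroup.mk'_surjective N)) ?_
      refine Nat.Coprime.coprime_dvd_left (Dvd.intro _ hcH) ?_
      exact hHall.coprime_dvd_right (Dvd.intro _ (Subgroup.relIndex_mul_index hHL))) rfl
  obtain ⟨y, rfl⟩ := QuotientGroup.mk'_surjective N y
  refine ⟨g⁻¹ * y, ?_⟩
  rw [← Cfsg.Agent.SolvBasic.map_conjSmul] at hy
  have hinj := congrArg (fun Z => (Z.comap f).map L.subtype) hy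
  have hker : ∀ X : Subgroup L, N ≤ X → (X.map f).comap f = X := fun X hX =>
    Subgroup.comap_map_eq_self (by rwa [QuotientGroup.ker_mk'])
  have hNy : N ≤ MulAut.conj y • H.subgroupOf L := fun z hz => by
    rw [Cfsg.Agent.SolvBasic.mem_conjSmul]
    exact Subgroup.comap_mono hSH (hNn.conj_mem' z hz y)
  rw [hker _ hNy, hker (K'.subgroupOf L) (Subgroup.comap_mono hSK), Cfsg.Agent.SolvBasic.map_subtype_conjSmul,
    Subgroup.map_subgroupOf_eq_of_le hHL, Subgroup.map_subgroupOf_eq_of_le hKL, hK'] at hinj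
  rw [← Cfsg.Agent.SolvBasic.conjSmul_conjSmul, hinj, Cfsg.Agent.SolvBasic.conjSmul_inv_conjSmul]

end Cfsg.Agent.S0582
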