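import Cfsg.Statements.S0586
import Cfsg.Agent.Lib.Solvable.Structure
import Cfsg.Agent.Lib.Transfer.Hall

set_option autoImplicit false
open scoped Pointwise commutatorElement
open Cfsg

namespace Cfsg.Agent.S0586

/-- If the Frattini subgroup of a finite group G is trivial, then the Fitting subgroup of G equals the join of all abelian minimal normal subgroups of G. -/
theorem result {G : Type*} [Group G] [Finite G] (hΦ : frattini G = ⊥) : Cfsg.fittingSubgroup G = sSup {N : Subgroup G | N.Normal ∧ N ≠ ⊥ ∧ IsMulCommutative N ∧ ∀ K : Subgroup G, K.Normal → K ≤ N → K = ⊥ ∨ K = N} := by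
  have hn : ∀ (X : Subgroup G), X.Normal → ∀ (Y : Subgroup G), Y ≤ Subgroup.normalizer (X : Set G) :=
    fun X hX Y => by have := hX; rw [Subgroup.normalizer_eq_top]; exact le_top
  set F := Cfsg.fittingSubgroup G with hF
  have hFn : F.Normal := Cfsg.Agent.FittingCores.fitting_normal
  have hFnil : Group.IsNilpotent F := Cfsg.Agent.FittingCores.fitting_nilpotent
  have hfr : commutator F ≤ frattini F := by
    change commutator F ≤ Order.radical (Subgroup F)
    rw [Order.radical]
    refine le_iInf₂ fun M hM => ?_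
    have hMn : M.Normal := Cfsg.Agent.TransferHall.normal_of_isCoatom hM
    obtain ⟨x, -, hxM⟩ := SetLike.not_le_iff_exists.1 (show ¬ (⊤ : Subgroup F) ≤ M from
      fun h => hM.1 (top_le_iff.1 h))
    have htop : M ⊔ Subgroup.zpowers x = ⊤ := hM.2 _ (left_lt_sup.2 fun h =>
      hxM (h (Subgroup.mem_zpowers x)))
    rw [commutator_def, Subgroup.commutator_le]
    intro a _ b _
    obtain ⟨m, hm, u, hu, rfl⟩ := (Cfsg.Agent.SolvBasic.mem_sup_iff_of_le_normalizer
      (show Subgroup.zpowers x ≤ Subgroup.normalizer (M : Set F) by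
        rw [Subgroup.normalizer_eq_top]; exact le_top)).1 (htop ▸ Subgroup.mem_top a)
    obtain ⟨m', hm', v, hv, rfl⟩ := (Cfsg.Agent.SolvBasic.mem_sup_iff_of_le_normalizer
      (show Subgroup.zpowers x ≤ Subgroup.normalizer (M : Set F) by
        rw [Subgroup.normalizer_eq_top]; exact le_top)).1 (htop ▸ Subgroup.mem_top b)
    rw [← QuotientGroup.eq_one_iff]
    change QuotientGroup.mk' M ⁅m * u, m' * v⁆ = 1
    rw [map_commutatorElement, map_mul, map_mul, show QuotientGroup.mk' M m = 1 from
      (QuotientGroup.eq_one_iff m).2 hm, show QuotientGroup.mk' M m' = 1 from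
      (QuotientGroup.eq_one_iff m').2 hm', one_mul, one_mul, ← map_commutatorElement,
      commutatorElement_eq_one_iff_commute.2 (setLike_mul_comm (s := Subgroup.zpowers x) hu hv),
      map_one]
  have hFab : IsMulCommutative F := by
    have h1 : (frattini F).map F.subtype ≤ frattini G :=
      Cfsg.Agent.SolvStruct.le_frattini_of_le_map_frattini
        (Cfsg.Agent.FittingCores.normal_map_of_characteristic hFn inferInstance) le_rfl
    rw [hΦ, le_bot_iff, Subgroup.map_eq_bot_iff_of_injective _ F.subtype_injective] at h1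
    rw [h1, le_bot_iff, commutator_def, Subgroup.commutator_eq_bot_iff_le_centralizer] at hfr
    exact .of_setLike_mul_comm fun a ha b hb => congrArg Subtype.val
      (Subgroup.mem_centralizer_iff.1 (hfr (Subgroup.mem_top (⟨b, hb⟩ : F))) ⟨a, ha⟩ trivial)
  set S := sSup {N : Subgroup G | N.Normal ∧ N ≠ ⊥ ∧ IsMulCommutative N ∧
    ∀ K : Subgroup G, K.Normal → K ≤ N → K = ⊥ ∨ K = N} with hS
  have hSF : S ≤ F := sSup_le fun N hN => by
    letI : CommGroup N := { (inferInstance : Group N) with
      mul_comm := fun a b => hN.2.2.1.is_comm.comm a b }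
    exact Cfsg.Agent.FittingCores.le_fitting hN.1 CommGroup.isNilpotent
  have hSn : S.Normal := Cfsg.Agent.FittingCores.sSup_normal_induction (fun X => X.Normal)
    inferInstance (fun A B hA hB _ _ => Subgroup.sup_normal A B) (fun N hN => ⟨hN.1, hN.1⟩)
  have hSab : IsMulCommutative S := .of_setLike_mul_comm fun a ha b hb =>
    setLike_mul_comm (s := F) (hSF ha) (hSF hb)
  obtain ⟨H, hH⟩ := Cfsg.Agent.SolvStruct.exists_complement_of_frattini_eq_bot hΦ S
  have hFH : F ⊓ H = ⊥ := by
    by_contra hne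
    have hn' : (F ⊓ H).Normal := Cfsg.Agent.SolvStruct.inf_normal_of_sup_eq_top
      (top_le_iff.1 (hH.sup_eq_top.ge.trans (sup_le_sup_right hSF H)))
    obtain ⟨M, hMn, hM, hMle, hMmin⟩ := Cfsg.Agent.SolvBasic.exists_minimal_normal hn' hne
    have hMab : IsMulCommutative M := .of_setLike_mul_comm fun a ha b hb =>
      setLike_mul_comm (s := F) (hMle ha).1 (hMle hb).1
    exact hM (le_bot_iff.1 ((le_inf (le_sSup (show M ∈ {N : Subgroup G | N.Normal ∧ N ≠ ⊥ ∧ IsMulCommutative N ∧
        ∀ K : Subgroup G, K.Normal → K ≤ N → K = ⊥ ∨ K = N} from ⟨hMn, hM, hMab, hMmin⟩))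
      (hMle.trans inf_le_right)).trans hH.disjoint.eq_bot.le))
  refine le_antisymm (fun x hx => ?_) hSF
  obtain ⟨⟨⟨s, hs⟩, ⟨h, hh⟩⟩, rfl⟩ := hH.2 x
  have h1 : h ∈ F ⊓ H := Subgroup.mem_inf.2 ⟨by simpa using F.mul_mem (F.inv_mem (hSF hs)) hx, hh⟩
  rw [hFH, Subgroup.mem_bot] at h1
  change s * h ∈ S
  rw [h1, mul_one]; exact hs

end Cfsg.Agent.S0586
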