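import Cfsg.Statements.S0587
import Cfsg.Agent.Lib.Solvable.Primitive

set_option autoImplicit false
open scoped Pointwise commutatorElement
open Cfsg

namespace Cfsg.Agent.S0587

/-- Let G be a finite group whose largest normal p-subgroup L is nontrivial, and M a maximal subgroup of G with trivial normal core. Then L is elementary abelian, M is a complement to L, L is a minimal normal subgroup of G, the centralizer of L is L, and for every prime q such that the largest normal q-subgroup of M is nontrivial, the order of L is congruent to 1 modulo q and q ≠ p. -/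
theorem result {G : Type*} [Group G] [Finite G] (p : ℕ) [Fact p.Prime] (hL : Cfsg.pCore p G ≠ ⊥) (M : Subgroup G) (hM : IsCoatom M) (hcore : M.normalCore = ⊥) : Cfsg.IsElementaryAbelian p (Cfsg.pCore p G) ∧ Subgroup.IsComplement' (Cfsg.pCore p G) M ∧ (∀ K : Subgroup G, K.Normal → K ≤ Cfsg.pCore p G → K = ⊥ ∨ K = Cfsg.pCore p G) ∧ Subgroup.centralizer ((Cfsg.pCore p G : Subgroup G) : Set G) = Cfsg.pCore p G ∧ ∀ (q : ℕ) [Fact q.Prime], Cfsg.pCore q ↥M ≠ ⊥ → Nat.card (Cfsg.pCore p G) % q = 1 % q ∧ q ≠ p := by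
  set L := Cfsg.pCore p G with hLdef
  have hp : p.Prime := Fact.out
  have hLn : L.Normal := Cfsg.Agent.FittingCores.pCore_normal p
  have hLp : IsPGroup p L := Cfsg.Agent.FittingCores.pCore_isPGroup p
  have := hLp.isNilpotent
  obtain ⟨K0, hK0n, hK0, hK0L, hK0min⟩ := Cfsg.Agent.SolvBasic.exists_minimal_normal hLn hL
  have := Cfsg.Agent.SolvBasic.isSolvable_of_le hK0L
  have := Cfsg.Agent.SolvBasic.isMulCommutative_of_minimal_normal hK0 hK0min
  have hC0 := Cfsg.Agent.SolvPrim.centralizer_eq_self hM hcore hK0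
  have hL0 : L = K0 := le_antisymm (((Cfsg.Agent.FittingCores.pCore_le_fitting hp).trans
    (Cfsg.Agent.SolvStruct.fitting_le_centralizer_minimal hK0 hK0min)).trans hC0.le) hK0L
  rw [← hL0] at hK0 hK0min hC0
  have hLab : IsMulCommutative L := hL0 ▸ ‹IsMulCommutative K0›
  have hcp := Cfsg.Agent.SolvPrim.complement_of_abelian hM hcore hK0
  refine ⟨⟨hLab, ?_⟩, hcp, hK0min, hC0, fun q _ hq => ?_⟩
  · obtain ⟨r, hr, hexp, hrg⟩ := Cfsg.Agent.SolvBasic.exists_prime_exponent_of_minimal_normal hK0 hK0min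
    suffices r = p by subst this; exact hexp
    have : Fact r.Prime := ⟨hr⟩
    obtain ⟨i, hi⟩ := hrg.exists_card_eq
    obtain ⟨j, hj⟩ := hLp.exists_card_eq
    rcases i with - | i
    · exact absurd (Subgroup.eq_bot_of_card_eq _ (by simpa using hi)) hK0
    · have h1 : r ∣ p ^ j := hj ▸ hi ▸ dvd_pow_self r (Nat.succ_ne_zero i)
      exact (Nat.prime_dvd_prime_iff_eq hr hp).1 (hr.dvd_of_dvd_pow h1)
  · have hqp : q.Prime := Fact.out
    set Q := (Cfsg.pCore q M).map M.subtype with hQdef
    have hQM : Q ≤ M := Subgroup.map_subtype_le _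
    have hQ0 : Q ≠ ⊥ := fun h => hq ((Subgroup.map_eq_bot_iff_of_injective _ M.subtype_injective).1 h)
    have hQq : IsPGroup q Q := (Cfsg.Agent.FittingCores.pCore_isPGroup q).map _
    have hMQ : M ≤ Subgroup.normalizer (Q : Set G) := fun m hm => by
      rw [Cfsg.Agent.SolvBasic.mem_normalizer_iff_conjSmul, hQdef]
      have h1 := Cfsg.Agent.SolvBasic.map_subtype_conjSmul (⟨m, hm⟩ : M) (Cfsg.pCore q M)
      rw [Cfsg.Agent.SolvBasic.conjSmul_eq_self_of_mem_normalizer (by
        have := Cfsg.Agent.FittingCores.pCore_normal (G := M) q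
        rw [Subgroup.normalizer_eq_top]; trivial)] at h1
      exact h1.symm
    set W := L ⊓ Subgroup.centralizer (Q : Set G) with hW
    have hWn : W.Normal := by
      refine Subgroup.normalizer_eq_top_iff.1 (top_le_iff.1 ?_)
      rw [← hcp.sup_eq_top]
      refine sup_le (le_trans ((Subgroup.le_centralizer L).trans
        (Subgroup.centralizer_le inf_le_left)) (Subgroup.centralizer_le_normalizer _)) fun m hm => ?_
      rw [Cfsg.Agent.SolvBasic.mem_normalizer_iff_conjSmul, hW, Subgroup.smul_inf,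
        Cfsg.Agent.SolvBasic.conjSmul_eq_self_of_mem_normalizer (H := L) (by
          rw [Subgroup.normalizer_eq_top]; trivial)]
      congr 1
      ext x
      rw [Cfsg.Agent.SolvBasic.mem_conjSmul, Subgroup.mem_centralizer_iff,
        Subgroup.mem_centralizer_iff]
      refine ⟨fun h y hy => ?_, fun h y hy => ?_⟩
      · have h1 := Subgroup.mem_normalizer_iff.1 (inv_mem (hMQ hm)) y |>.1 hy
        have h2 := congrArg (fun t => m * t * m⁻¹) (h _ h1)
        simpa [mul_assoc] using h2
      · have h1 := Subgroup.mem_normalizer_iff.1 (hMQ hm) y |>.1 hy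
        have h2 := congrArg (fun t => m⁻¹ * t * m) (h _ h1)
        simpa [mul_assoc] using h2
    have hW0 : W = ⊥ := (hK0min W hWn inf_le_left).resolve_right fun h => hQ0 <| by
      refine le_bot_iff.1 ((le_inf ?_ hQM).trans
        (Cfsg.Agent.SolvPrim.centralizer_inf_eq_bot hM hcore hK0).le)
      rw [Subgroup.le_centralizer_iff]
      exact inf_eq_left.1 h
    let act : MulAction Q L :=
      MulAction.compHom L ((MulAut.conjNormal (H := L)).comp Q.subtype)
    have hfix : Nat.card (MulAction.fixedPoints Q L) = 1 := by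
      rw [Nat.card_eq_one_iff_unique]
      refine ⟨⟨fun a b => ?_⟩, ⟨⟨1, fun x => by
        change MulAut.conjNormal (x : G) (1 : L) = 1
        exact map_one _⟩⟩⟩
      suffices ∀ a : MulAction.fixedPoints Q L, (a : L) = 1 from Subtype.ext ((this a).trans (this b).symm)
      rintro ⟨⟨l, hl⟩, hfx⟩
      have h1 : l ∈ W := Subgroup.mem_inf.2 ⟨hl, Subgroup.mem_centralizer_iff.2 fun y hy => by
        have h2 := congrArg Subtype.val (hfx ⟨y, hy⟩)
        change y * l * y⁻¹ = l at h2
        rwa [mul_inv_eq_iff_eq_mul] at h2⟩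
      rw [hW0, Subgroup.mem_bot] at h1
      exact Subtype.ext h1
    have hmod := hQq.card_modEq_card_fixedPoints L
    rw [hfix] at hmod
    refine ⟨hmod, fun hqp' => ?_⟩
    subst hqp'
    obtain ⟨j, hj⟩ := hLp.exists_card_eq
    rcases j with - | j
    · exact hK0 (Subgroup.eq_bot_of_card_eq _ (by simpa using hj))
    · have : Nat.card L % q = 0 := Nat.mod_eq_zero_of_dvd (hj ▸ dvd_pow_self q (Nat.succ_ne_zero j))
      rw [Nat.ModEq, this, Nat.one_mod_eq_one.2 hqp.one_lt.ne'] at hmod
      exact zero_ne_one hmod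

end Cfsg.Agent.S0587
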