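import Cfsg.Statements.S0588
import Cfsg.Agent.Lib.Solvable.Basic

set_option autoImplicit false
open Cfsg

namespace Cfsg.Agent.S0588

/-- If a subgroup H of a finite group G contains the centralizer of every non-identity element of H, then the order of H is coprime to its index. -/
theorem result {G : Type*} [Group G] [Finite G] (H : Subgroup G) (h : ∀ x ∈ H, x ≠ 1 → Subgroup.centralizer ({x} : Set G) ≤ H) : (Nat.card H).Coprime H.index := by
  refine Nat.coprime_of_dvd fun p hp hpH hpI => ?_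
  have := Fact.mk hp
  obtain ⟨P⟩ := (inferInstance : Nonempty (Sylow p H))
  set P' := (P : Subgroup H).map H.subtype with hP'
  have hPH : P' ≤ H := Subgroup.map_subtype_le _
  have hP'p : IsPGroup p P' := P.isPGroup'.map _
  obtain ⟨Q, hQ⟩ := hP'p.exists_le_sylow
  have hne : P' ≠ ⊥ := fun h0 => P.ne_bot_of_dvd_card hpH
    ((Subgroup.map_eq_bot_iff_of_injective _ H.subtype_injective).1 h0)
  -- `Q` lies in `H`
  have hZ : ∃ z, z ∈ (Q : Subgroup G) ∧ z ≠ 1 ∧ ∀ q ∈ (Q : Subgroup G), q * z = z * q := by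
    have : Nontrivial (Q : Subgroup G) := by
      rw [Subgroup.nontrivial_iff_ne_bot]
      exact fun h0 => hne (le_bot_iff.1 (h0 ▸ hQ))
    have := Q.isPGroup'.center_nontrivial
    obtain ⟨z, hz⟩ := exists_ne (1 : Subgroup.center (Q : Subgroup G))
    refine ⟨((z : (Q : Subgroup G)) : G), (z : (Q : Subgroup G)).2,
      fun h0 => hz (Subtype.ext (Subtype.ext h0)),
      fun q hq => congrArg Subtype.val (Subgroup.mem_center_iff.1 z.2 ⟨q, hq⟩)⟩
  obtain ⟨z, hzQ, hz1, hzc⟩ := hZ
  obtain ⟨y, hy, hy1⟩ : ∃ y ∈ P', y ≠ 1 := by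
    by_contra! hc
    exact hne (eq_bot_iff.2 fun y hy => Subgroup.mem_bot.2 (hc y hy))
  have hzH : z ∈ H := h y (hPH hy) hy1 (by
    rw [Subgroup.mem_centralizer_singleton_iff]; exact (hzc y (hQ hy)).symm)
  have hQH : (Q : Subgroup G) ≤ H := fun q hq => h z hzH hz1 (by
    rw [Subgroup.mem_centralizer_singleton_iff]; exact hzc q hq)
  exact Q.not_dvd_index (hpI.trans (Subgroup.index_dvd_of_le hQH))

end Cfsg.Agent.S0588
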