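import Cfsg.Statements.S0590
import Cfsg.Agent.Lib.PLocal.OmegaOne

set_option autoImplicit false
set_option linter.style.haveILetI false
open Cfsg

namespace Cfsg.Agent.S0590
open scoped Pointwise commutatorElement
open Cfsg.Agent
open Cfsg.Agent
open scoped commutatorElement

/-- Quadratic action on an elementary abelian p-group forces the acting group modulo the kernel of the action to be elementary abelian. -/
theorem result {G : Type*} [Group G] [Finite G] {p : ℕ} [Fact p.Prime] (V H : Subgroup G) (hV : Cfsg.IsElementaryAbelian p V) (hHV : H ≤ Subgroup.normalizer (V : Set G)) (hq : ⁅⁅V, H⁆, H⁆ = ⊥) : ⁅H, H⁆ ≤ Subgroup.centralizer (V : Set G) ∧ ∀ a ∈ H, a ^ p ∈ Subgroup.centralizer (V : Set G) := by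
  have hle : ⁅V, H⁆ ≤ V := Subgroup.le_normalizer_iff_commutator_le_left.1 hHV
  refine ⟨?_, fun a ha => ?_⟩
  · have h1 : ⁅⁅H, V⁆, H⁆ = ⊥ := by rw [Subgroup.commutator_comm H V]; exact hq
    have h3 := Subgroup.commutator_commutator_eq_bot_of_rotate (H₁ := H) (H₂ := H) (H₃ := V) h1 hq
    exact Subgroup.commutator_eq_bot_iff_le_centralizer.1 h3
  · rw [Subgroup.mem_centralizer_iff]
    intro v hv
    set d := v⁻¹ * (a * v * a⁻¹) with hd
    have hdV : d ∈ V := V.mul_mem (V.inv_mem hv) ((Subgroup.mem_normalizer_iff.1 (hHV ha) v).1 hv)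
    have hdc : a * d = d * a := by
      have hmem : d ∈ ⁅V, H⁆ := by
        have h1 := Subgroup.commutator_mem_commutator (V.inv_mem hv) ha
        have h2 : d = ⁅v⁻¹, a⁆ := by rw [hd, commutatorElement_def]; group
        rw [h2]; exact h1
      exact Subgroup.commutator_eq_bot_iff_le_centralizer.1 hq hmem a ha
    have hdv : v * d = d * v := Thompson.commute_of_isElementaryAbelian hV hv hdV
    have key : ∀ k : ℕ, a ^ k * v * (a ^ k)⁻¹ = v * d ^ k := by
      intro k
      induction k with
      | zero => simp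
      | succ k ih =>
        have h1 : a * (v * d ^ k) * a⁻¹ = v * d ^ (k + 1) := by
          have h2 : a * d ^ k * a⁻¹ = d ^ k := by
            rw [(Commute.pow_right hdc k).eq, mul_inv_cancel_right]
          calc a * (v * d ^ k) * a⁻¹ = (a * v * a⁻¹) * (a * d ^ k * a⁻¹) := by group
            _ = v * d * d ^ k := by
              rw [h2, hd]; congr 1; group
            _ = v * d ^ (k + 1) := by rw [mul_assoc, ← pow_succ']
        rw [← h1, ← ih, pow_succ']
        group
    have h2 := key p
    rw [hV.2 d hdV, mul_one] at h2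
    exact (mul_inv_eq_iff_eq_mul.1 h2).symm


end Cfsg.Agent.S0590
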