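import Cfsg.Statements.S0591
import Cfsg.Agent.Lib.PLocal.OmegaOne

set_option autoImplicit false
set_option linter.style.haveILetI false
open Cfsg

namespace Cfsg.Agent.S0591
open scoped Pointwise commutatorElement
open Cfsg.Agent
open Cfsg.Agent
open scoped commutatorElement

/-- For a quadratically acting element a on an elementary abelian p-group V, the fixed points C_V(a) have order at least the square root of the order of V. -/
theorem result {G : Type*} [Group G] [Finite G] {p : ℕ} [Fact p.Prime] (V : Subgroup G) (hV : Cfsg.IsElementaryAbelian p V) (a : G) (ha : a ∈ Subgroup.normalizer (V : Set G)) (hq : ⁅⁅V, Subgroup.zpowers a⁆, Subgroup.zpowers a⁆ = ⊥) : Nat.card V ≤ Nat.card ↥(V ⊓ Subgroup.centralizer (Subgroup.zpowers a : Set G)) ^ 2 := by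
  set A := Subgroup.zpowers a with hA
  set C := V ⊓ Subgroup.centralizer (A : Set G) with hC
  have hcomm : ∀ v ∈ V, ∀ w ∈ V, v * w = w * v := fun v hv w hw =>
    Thompson.commute_of_isElementaryAbelian hV hv hw
  have hdV : ∀ v ∈ V, v⁻¹ * (a * v * a⁻¹) ∈ V := fun v hv =>
    V.mul_mem (V.inv_mem hv) ((Subgroup.mem_normalizer_iff.1 ha v).1 hv)
  let f : V →* V :=
    { toFun := fun v => ⟨(v : G)⁻¹ * (a * v * a⁻¹), hdV v v.2⟩
      map_one' := Subtype.ext (by simp)
      map_mul' := fun v w => Subtype.ext (by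
        have h1 := hcomm _ (V.inv_mem w.2) _ (hdV v v.2)
        simp only [Subgroup.coe_mul]
        calc ((v : G) * w)⁻¹ * (a * ((v : G) * w) * a⁻¹)
            = (w : G)⁻¹ * ((v : G)⁻¹ * (a * v * a⁻¹)) * (a * w * a⁻¹) := by group
          _ = _ := by rw [h1]; group) }
  have hker : f.ker.map V.subtype ≤ C := by
    rintro _ ⟨v, hv, rfl⟩
    have h1 : (v : G)⁻¹ * (a * v * a⁻¹) = 1 := congrArg Subtype.val hv
    refine ⟨v.2, ?_⟩
    show (v : G) ∈ Subgroup.centralizer (A : Set G)
    rw [Subgroup.mem_centralizer_iff]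
    have hle : A ≤ Subgroup.centralizer {(v : G)} := by
      rw [hA, Subgroup.zpowers_le, Subgroup.mem_centralizer_singleton_iff]
      exact (mul_inv_eq_iff_eq_mul.1 (inv_mul_eq_one.1 h1).symm)
    exact fun b hb => Subgroup.mem_centralizer_singleton_iff.1 (hle hb)
  have hrange : f.range.map V.subtype ≤ C := by
    rintro _ ⟨_, ⟨v, rfl⟩, rfl⟩
    refine ⟨(f v).2, ?_⟩
    refine Subgroup.commutator_eq_bot_iff_le_centralizer.1 hq ?_
    have h2 : (v : G)⁻¹ * (a * v * a⁻¹) = ⁅(v : G)⁻¹, a⁆ := by rw [commutatorElement_def]; group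
    show (v : G)⁻¹ * (a * v * a⁻¹) ∈ ⁅V, A⁆
    rw [h2]
    exact Subgroup.commutator_mem_commutator (V.inv_mem v.2) (Subgroup.mem_zpowers a)
  have h1 : Nat.card f.ker ≤ Nat.card C := by
    rw [← Subgroup.card_map_of_injective (f := V.subtype) Subtype.coe_injective]
    exact Nat.le_of_dvd Nat.card_pos (Subgroup.card_dvd_of_le hker)
  have h2 : Nat.card f.range ≤ Nat.card C := by
    rw [← Subgroup.card_map_of_injective (f := V.subtype) Subtype.coe_injective]
    exact Nat.le_of_dvd Nat.card_pos (Subgroup.card_dvd_of_le hrange)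
  rw [← Subgroup.card_mul_index f.ker, Subgroup.index_ker, sq]
  exact Nat.mul_le_mul h1 h2


end Cfsg.Agent.S0591
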