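import Cfsg.Statements.S0592
import Cfsg.Agent.Lib.PStable.NotStable
import Mathlib.FieldTheory.Finite.Basic

set_option autoImplicit false
set_option linter.style.haveILetI false
open Cfsg

namespace Cfsg.Agent.S0592
open scoped Pointwise commutatorElement
open Cfsg.Agent
open Polynomial in
/-- A unipotent-times-unipotent element whose `p'`-part has order dividing `q - 1` has rational trace. -/
theorem rational_trace {K : Type*} [Field K] [Fintype K] {p : ℕ} [Fact p.Prime] [CharP K p]
    {E : Type*} [Field E] [Algebra K E] (μ : E) {e : ℕ}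
    (h : (PStable.upp μ * PStable.low 1 : Matrix.SpecialLinearGroup (Fin 2) E) ^
      (p ^ e * (Fintype.card K - 1)) = 1) :
    ∃ c : K, μ = algebraMap K E c := by
  classical
  haveI : CharP E p := charP_of_injective_algebraMap (algebraMap K E).injective p
  set T : Matrix (Fin 2) (Fin 2) E := ((PStable.upp μ * PStable.low 1 :
    Matrix.SpecialLinearGroup (Fin 2) E) : Matrix (Fin 2) (Fin 2) E) with hT
  have hTv : T = !![1 + μ, μ; 1, 1] := by
    rw [hT]
    apply PStable.ext2 <;>
      simp [PStable.upp_val, PStable.low_val, Matrix.mul_apply, Fin.sum_univ_two]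
  have hq1 : 1 < Fintype.card K := Fintype.one_lt_card
  have h1 : T ^ (p ^ e * (Fintype.card K - 1)) = 1 := by
    rw [hT, ← Matrix.SpecialLinearGroup.coe_pow, h, Matrix.SpecialLinearGroup.coe_one]
  have h2 : (T ^ Fintype.card K - T) ^ p ^ e = 0 := by
    rw [sub_pow_char_pow_of_commute _ e (Commute.pow_self T _), ← pow_mul,
      show Fintype.card K * p ^ e = p ^ e * (Fintype.card K - 1) + p ^ e by
        rw [← Nat.mul_succ, show (Fintype.card K - 1).succ = Fintype.card K by omega, mul_comm],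
      pow_add, h1, one_mul, sub_self]
  have hprod : (∏ c : K, (X - C c)) = X ^ Fintype.card K - X := by
    have hmon : (X ^ Fintype.card K - X : K[X]).Monic :=
      Polynomial.monic_X_pow_sub (by rw [degree_X]; exact_mod_cast hq1)
    have h3 := Polynomial.prod_multiset_X_sub_C_of_monic_of_roots_card_eq hmon (by
      rw [FiniteField.roots_X_pow_card_sub_X, FiniteField.X_pow_card_sub_X_natDegree_eq K hq1]
      rfl)
    rw [FiniteField.roots_X_pow_card_sub_X] at h3
    exact h3
  let D : K[X] →* E := Matrix.detMonoidHom.comp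
    ((aeval T : K[X] →ₐ[K] Matrix (Fin 2) (Fin 2) E) : K[X] →* Matrix (Fin 2) (Fin 2) E)
  have h4 : ∏ c : K, D (X - C c) = 0 := by
    rw [← map_prod, hprod]
    have h5 := congrArg Matrix.det h2
    rw [Matrix.det_pow, Matrix.det_zero, pow_eq_zero_iff (pow_ne_zero e (Fact.out : p.Prime).ne_zero)] at h5
    show Matrix.det (aeval T (X ^ Fintype.card K - X : K[X])) = 0
    rw [map_sub, map_pow, aeval_X]
    exact h5
  obtain ⟨c, -, hc⟩ := Finset.prod_eq_zero_iff.1 h4
  change Matrix.det (aeval T (X - C c)) = 0 at hc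
  rw [map_sub, aeval_X, aeval_C, Matrix.algebraMap_eq_diagonal, Matrix.det_fin_two, hTv] at hc
  simp [Pi.algebraMap_apply] at hc
  have hc0 : c ≠ 0 := fun h0 => by
    rw [h0] at hc
    simp at hc
  refine ⟨(c ^ 2 - 2 * c + 1) / c, ?_⟩
  have hc0' : algebraMap K E c ≠ 0 := by simpa using hc0
  rw [map_div₀, eq_div_iff hc0', map_add, map_sub, map_pow, map_mul, map_one, map_ofNat]
  linear_combination -hc


/-- Two quadratically acting generators of a linear group that is not a p-group, with the p'-part of the order of their product dividing q - 1, give a homomorphism onto a subgroup of SL(2, q) that is not a p-group. -/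
theorem result {K : Type*} [Field K] [Fintype K] {p : ℕ} [Fact p.Prime] [CharP K p] {W : Type*} [AddCommGroup W] [Module K W] [FiniteDimensional K W] [Finite W] [Nontrivial W] (H : Subgroup (W ≃ₗ[K] W)) (a b : W ≃ₗ[K] W) (hH : H = Subgroup.closure {a, b}) (ha : ∀ w : W, a (a w - w) = a w - w) (hb : ∀ w : W, b (b w - w) = b w - w) (hnp : ¬ IsPGroup p H) (hk : ∃ e k : ℕ, orderOf (a * b) = p ^ e * k ∧ k ∣ Fintype.card K - 1) : ∃ φ : H →* Matrix.SpecialLinearGroup (Fin 2) K, ¬ IsPGroup p φ.range := by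
  obtain ⟨e, k, hord, hkq⟩ := hk
  have hnp' : ¬ IsPGroup p H := hnp
  have haH : a ∈ H := by rw [hH]; exact Subgroup.subset_closure (Set.mem_insert _ _)
  have hbH : b ∈ H := by rw [hH]; exact Subgroup.subset_closure (Set.mem_insert_of_mem _ rfl)
  haveI : Finite (W ≃ₗ[K] W) := Finite.of_injective (fun f => (f : W → W)) DFunLike.coe_injective
  obtain ⟨k₀, hk₀H, hk₀1, hk₀o⟩ := PStable.exists_coprime_nontrivial hnp'
  let ρ : H →* Module.End K W :=
    { toFun := fun h => ((h : W ≃ₗ[K] W) : W →ₗ[K] W)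
      map_one' := rfl
      map_mul' := fun x y => rfl }
  have hgen : Subgroup.closure {(⟨a, haH⟩ : H), ⟨b, hbH⟩} = ⊤ := by
    refine Subgroup.map_injective H.subtype_injective ?_
    rw [MonoidHom.map_closure, Set.image_insert_eq, Set.image_singleton, ← MonoidHom.range_eq_map,
      Subgroup.range_subtype]
    exact hH.symm
  have hquad : ∀ (c : W ≃ₗ[K] W) (hc : c ∈ H), (∀ w, c (c w - w) = c w - w) →
      (ρ ⟨c, hc⟩ - 1) ^ 2 = 0 := fun c hc hcw => LinearMap.ext fun w => by
    rw [pow_two]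
    show c (c w - w) - (c w - w) = 0
    rw [hcw, sub_self]
  obtain ⟨E, hEf, hEa, hEfin, μ, φ, W₁, π, hW, hμ0, hφa, hφb, hφk, -, -, hμ⟩ :=
    PStable.exists_pair_section (p := p) ρ hgen (hquad a haH ha) (hquad b hbH hb) (k₀ := ⟨k₀, hk₀H⟩)
      (fun h => hk₀1 (by
        refine LinearEquiv.ext fun w => ?_
        exact LinearMap.congr_fun h w))
      (by rw [← Subgroup.orderOf_coe]; exact hk₀o)
  obtain ⟨j, hj⟩ := hkq
  have hpow : ((⟨a, haH⟩ : H) * ⟨b, hbH⟩) ^ (p ^ e * (Fintype.card K - 1)) = 1 := by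
    rw [hj, ← mul_assoc, ← hord]
    refine Subtype.ext ?_
    rw [SubmonoidClass.coe_pow, Subgroup.coe_mul, pow_mul, pow_orderOf_eq_one, one_pow]
    rfl
  obtain ⟨c, hc⟩ := rational_trace (p := p) μ (e := e) (by
    rw [← hφa, ← hφb, ← map_mul, ← map_pow, hpow, map_one])
  let ε : K ≃+* E := RingEquiv.ofBijective (algebraMap K E) ⟨(algebraMap K E).injective, hμ c hc⟩
  refine ⟨(Matrix.SpecialLinearGroup.map (n := Fin 2) ε.symm.toRingHom).comp φ, fun hp' => hφk ?_⟩
  have h1 : (Matrix.SpecialLinearGroup.map (n := Fin 2) ε.symm.toRingHom) (φ ⟨k₀, hk₀H⟩) = 1 := by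
    refine PBasic.eq_one_of_isPGroup_of_coprime hp' ⟨_, rfl⟩
      (Nat.Coprime.coprime_dvd_left ((orderOf_map_dvd _ _).trans (orderOf_map_dvd φ _)) ?_)
    rw [← Subgroup.orderOf_coe]; exact hk₀o
  ext i j
  have h2 := congrArg (fun m : Matrix.SpecialLinearGroup (Fin 2) K =>
    (m : Matrix (Fin 2) (Fin 2) K) i j) h1
  apply ε.symm.injective
  fin_cases i <;> fin_cases j <;> simpa using h2


end Cfsg.Agent.S0592
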