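import Cfsg.Statements.S0593
import Cfsg.Agent.Lib.PStable.Action
import Cfsg.Agent.Lib.PStable.SL2Prime

set_option autoImplicit false
set_option linter.style.haveILetI false
open Cfsg

namespace Cfsg.Agent.S0593
open scoped Pointwise commutatorElement
open Cfsg.Agent

/-- For odd p, a faithful group on an elementary abelian p-group generated by two quadratically acting elements is a p-group or has non-abelian Sylow 2-subgroups. -/
theorem result {G : Type*} [Group G] [Finite G] {p : ℕ} [Fact p.Prime] (hp : p ≠ 2) (V H : Subgroup G) (hV : Cfsg.IsElementaryAbelian p V) (hHV : H ≤ Subgroup.normalizer (V : Set G)) (hf : H ⊓ Subgroup.centralizer (V : Set G) = ⊥) (a b : G) (hab : H = Subgroup.closure {a, b}) (ha : ⁅⁅V, Subgroup.zpowers a⁆, Subgroup.zpowers a⁆ = ⊥) (hb : ⁅⁅V, Subgroup.zpowers b⁆, Subgroup.zpowers b⁆ = ⊥) (hnp : ¬ IsPGroup p H) (T : Sylow 2 H) : ¬ IsMulCommutative T := by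
  have haH : a ∈ H := by rw [hab]; exact Subgroup.subset_closure (Set.mem_insert _ _)
  have hbH : b ∈ H := by rw [hab]; exact Subgroup.subset_closure (Set.mem_insert_of_mem _ rfl)
  have key : ∀ c : H, ⁅⁅V, Subgroup.zpowers (c : G)⁆, Subgroup.zpowers (c : G)⁆ = ⊥ →
      c ∉ Cfsg.pCore p H → ¬ IsMulCommutative (T : Subgroup H) := by
    intro c hc hcn
    obtain ⟨K, hK, ψ, hψ⟩ := PStable.exists_sl2_of_action hp V H hV hHV hf c hc hcn
    exact PStable.sylow_two_noncomm hp (K := K.subgroupOf H)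
      (ψ.comp (Subgroup.subgroupOfEquivOfLe hK).toMonoidHom) (hψ.comp (MulEquiv.surjective _)) T
  by_cases h1 : (⟨a, haH⟩ : H) ∈ Cfsg.pCore p H
  · refine key ⟨b, hbH⟩ hb fun h2 => hnp ?_
    have htop : (⊤ : Subgroup H) ≤ Cfsg.pCore p H := by
      rintro ⟨x, hx⟩ -
      have hx' : x ∈ (Cfsg.pCore p H).map H.subtype := by
        have : Subgroup.closure {a, b} ≤ (Cfsg.pCore p H).map H.subtype := by
          rw [Subgroup.closure_le]
          rintro y (rfl | rfl)
          exacts [⟨_, h1, rfl⟩, ⟨_, h2, rfl⟩]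
        exact this (hab ▸ hx)
      obtain ⟨y, hy, e⟩ := hx'
      rwa [show (⟨x, hx⟩ : H) = y from Subtype.ext e.symm]
    exact ((PBasic.pCore_isPGroup p H).to_le htop).of_surjective
      (Subgroup.topEquiv.toMonoidHom) (MulEquiv.surjective _)
  · exact key ⟨a, haH⟩ ha h1


end Cfsg.Agent.S0593
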