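import Cfsg.Statements.S0594
import Cfsg.Agent.Lib.PStable.Action
import Cfsg.Agent.Lib.PStable.SL2Prime

set_option autoImplicit false
set_option linter.style.haveILetI false
open Cfsg

namespace Cfsg.Agent.S0594
open scoped Pointwise commutatorElement
open Cfsg.Agent

/-- For odd p, two quadratic generators of a faithful group that is not a p-group, one of which acts nontrivially on a normal subgroup of order prime to p, force p = 3 and a section isomorphic to SL(2,3). -/
theorem result {G : Type*} [Group G] [Finite G] {p : ℕ} [Fact p.Prime] (hp : p ≠ 2) (V H : Subgroup G) (hV : Cfsg.IsElementaryAbelian p V) (hHV : H ≤ Subgroup.normalizer (V : Set G)) (hf : H ⊓ Subgroup.centralizer (V : Set G) = ⊥) (a b : G) (hab : H = Subgroup.closure {a, b}) (ha : ⁅⁅V, Subgroup.zpowers a⁆, Subgroup.zpowers a⁆ = ⊥) (hb : ⁅⁅V, Subgroup.zpowers b⁆, Subgroup.zpowers b⁆ = ⊥) (hnp : ¬ IsPGroup p H) (Q : Subgroup G) (hQH : Q ≤ H) (hQn : H ≤ Subgroup.normalizer (Q : Set G)) (hQ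 : (Nat.card Q).Coprime p) (hQa : ⁅Q, Subgroup.zpowers a⁆ ≠ ⊥) : p = 3 ∧ ∃ (K L : Subgroup G) (hL : (L.subgroupOf K).Normal), K ≤ H ∧ Nonempty ((K ⧸ L.subgroupOf K) ≃* Matrix.SpecialLinearGroup (Fin 2) (ZMod 3)) := by
  have haH : a ∈ H := by rw [hab]; exact Subgroup.subset_closure (Set.mem_insert _ _)
  set X := Q ⊔ Subgroup.zpowers a with hX
  have hXH : X ≤ H := sup_le hQH (Subgroup.zpowers_le.2 haH)
  have haX : a ∈ X := Subgroup.mem_sup_right (Subgroup.mem_zpowers a)
  have hQX : Q ≤ X := le_sup_left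
  set Q' := Q.subgroupOf X with hQ'
  haveI hQ'n : Q'.Normal := Subgroup.normal_subgroupOf_of_le_normalizer (hXH.trans hQn)
  have hQ'c : (Nat.card Q').Coprime p := by
    rw [Nat.card_congr (Subgroup.subgroupOfEquivOfLe hQX).toEquiv]; exact hQ
  -- a quadratic element has order dividing `p`
  have hap : a ^ p = 1 := by
    letI : CommGroup V := { (inferInstance : Group V) with mul_comm := PStable.mem_comm_of_elementary hV }
    haveI : Module (ZMod p) (Additive V) := AddCommGroup.zmodModule fun v =>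
      congrArg Additive.ofMul (show (Additive.toMul v : V) ^ p = 1 from
        Subtype.ext (by simpa using hV.2 (Additive.toMul v : V) (Additive.toMul v : V).2))
    set α : MulAut V := Subgroup.normalizerMonoidHom V ⟨a, hHV haH⟩ with hα
    have h1 : α ^ p = 1 := PStable.pow_eq_one_of_quad fun v => Subtype.ext
      (PStable.conj_displacement ha v.2)
    have h2 : a ^ p ∈ H ⊓ Subgroup.centralizer (V : Set G) := by
      refine ⟨H.pow_mem haH p, fun y hy => ?_⟩
      rw [hα, ← map_pow] at h1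
      have h3 := congrArg (fun β : MulAut V => ((β ⟨y, hy⟩ : V) : G)) h1
      have h4 : a ^ p * y * (a ^ p)⁻¹ = y := h3
      exact (mul_inv_eq_iff_eq_mul.1 h4).symm
    rwa [hf, Subgroup.mem_bot] at h2
  have haz : Nat.card (X ⧸ Q') ∣ p := by
    have htop : (⊤ : Subgroup (X ⧸ Q')) = Subgroup.zpowers (QuotientGroup.mk' Q' ⟨a, haX⟩) := by
      refine le_antisymm ?_ le_top
      rintro y -
      obtain ⟨⟨x, hx⟩, rfl⟩ := QuotientGroup.mk'_surjective Q' y
      have hle : X ≤ ((Subgroup.zpowers (QuotientGroup.mk' Q' ⟨a, haX⟩)).comap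
          (QuotientGroup.mk' Q')).map X.subtype := by
        refine sup_le (fun q hq => ⟨⟨q, hQX hq⟩, ?_, rfl⟩) ?_
        · rw [SetLike.mem_coe, Subgroup.mem_comap]
          rw [show QuotientGroup.mk' Q' ⟨q, hQX hq⟩ = 1 from
            (QuotientGroup.eq_one_iff (⟨q, hQX hq⟩ : X)).2 hq]
          exact one_mem _
        · rw [Subgroup.zpowers_le]
          exact ⟨⟨a, haX⟩, Subgroup.mem_zpowers (G := X ⧸ Q') _, rfl⟩
      obtain ⟨z, hz, e⟩ := hle hx
      rwa [show (⟨x, hx⟩ : X) = z from Subtype.ext e.symm]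
    rw [← Subgroup.card_top, htop, Nat.card_zpowers]
    exact (orderOf_map_dvd _ _).trans (by
      rw [← Subgroup.orderOf_coe]; exact orderOf_dvd_of_pow_eq_one hap)
  have hsol : Cfsg.IsPSolvable p X := by
    refine PSolvable.of_quotient Q' (Or.inr hQ'c) (PSolvable.of_card_cases ?_)
    rcases (Nat.dvd_prime (Fact.out : p.Prime)).1 haz with h | h
    · exact Or.inl ⟨0, by rw [h, pow_zero]⟩
    · exact Or.inl ⟨1, by rw [h, pow_one]⟩
  have hna : (⟨a, haX⟩ : X) ∉ Cfsg.pCore p X := by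
    intro hmem
    refine hQa (eq_bot_iff.2 (Subgroup.commutator_le.2 fun q hq y hy => ?_))
    have hy' : (⟨y, Subgroup.mem_sup_right hy⟩ : X) ∈ Cfsg.pCore p X := by
      obtain ⟨i, rfl⟩ := Subgroup.mem_zpowers_iff.1 hy
      exact Subgroup.zpow_mem _ hmem i
    have h1 : ⁅(⟨q, hQX hq⟩ : X), ⟨y, Subgroup.mem_sup_right hy⟩⁆ ∈ Q' ⊓ Cfsg.pCore p X := by
      haveI := Cfsg.pCore_normal p X
      have h2 := Subgroup.commutator_mem_commutator (H₁ := Q') (H₂ := Cfsg.pCore p X)
        (show (⟨q, hQX hq⟩ : X) ∈ Q' from hq) hy'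
      exact Subgroup.commutator_le_inf Q' (Cfsg.pCore p X) h2
    have h3 := PBasic.eq_one_of_isPGroup_of_coprime (PBasic.pCore_isPGroup p X) h1.2
      (Nat.Coprime.coprime_dvd_left (Subgroup.orderOf_dvd_natCard Q' h1.1) hQ'c)
    rw [Subgroup.mem_bot]
    exact congrArg Subtype.val h3
  obtain ⟨K, hK, ψ, hψ⟩ := PStable.exists_sl2_of_action hp V X hV (hXH.trans hHV)
    (eq_bot_iff.2 ((inf_le_inf_right _ hXH).trans hf.le)) ⟨a, haX⟩ ha hna
  obtain rfl := PStable.eq_three_of_surjective hp hsol (K := K.subgroupOf X)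
    (ψ.comp (Subgroup.subgroupOfEquivOfLe hK).toMonoidHom) (hψ.comp (MulEquiv.surjective _))
  obtain ⟨L, hL, e⟩ := PStable.exists_section_of_surjective ψ hψ
  exact ⟨rfl, K, L, hL, hK.trans hXH, e⟩


end Cfsg.Agent.S0594
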