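import Cfsg.Statements.S0597
import Cfsg.Agent.Lib.LocalEven.Wielandt
import Cfsg.Agent.Lib.Solvable.Fitting

set_option autoImplicit false
set_option linter.style.haveILetI false
open Cfsg

namespace Cfsg.Agent.S0597
open scoped Pointwise commutatorElement
open Cfsg.Agent

/-- If two subnormal subgroups of a faithful group on an elementary abelian p-group satisfy [V, E₁, E₂] = 1, then their commutator lies in the largest normal p-subgroup. -/
theorem result {G : Type*} [Group G] [Finite G] {p : ℕ} [Fact p.Prime] (V H : Subgroup G) (hV : Cfsg.IsElementaryAbelian p V) (hHV : H ≤ Subgroup.normalizer (V : Set G)) (hf : H ⊓ Subgroup.centralizer (V : Set G) = ⊥) (E₁ E₂ : Subgroup G) (h₁ : E₁ ≤ H) (h₂ : E₂ ≤ H) (hs₁ : (E₁.subgroupOf H).IsSubnormal) (hs₂ : (E₂.subgroupOf H).IsSubnormal) (hc : ⁅⁅V, E₁⁆, E₂⁆ = ⊥) : ⁅E₁, E₂⁆ ≤ (Cfsg.pCore p H).map H.subtype := by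
  set W := ⁅V, E₁⁆ with hW
  set D := ⁅E₁, E₂⁆ with hD
  haveI hVc := hV.1
  have hcomm : ∀ x ∈ V, ∀ y ∈ V, x * y = y * x := fun x hx y hy =>
    congrArg Subtype.val (hVc.is_comm.comm (⟨x, hx⟩ : V) ⟨y, hy⟩)
  have hconjV : ∀ h ∈ H, ∀ v ∈ V, h * v * h⁻¹ ∈ V := fun h hh v hv =>
    (Subgroup.mem_normalizer_iff.1 (hHV hh) v).1 hv
  have hWV : W ≤ V := by
    rw [hW, Subgroup.commutator_le]
    intro v hv e he
    rw [commutatorElement_def, mul_assoc, mul_assoc]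
    refine mul_mem hv ?_
    rw [← mul_assoc]
    exact hconjV e (h₁ he) _ (inv_mem hv)
  have hnW : ∀ e ∈ E₁, ∀ w ∈ W, e * w * e⁻¹ ∈ W := fun e he w hw =>
    (Subgroup.mem_normalizer_iff.1 (Subgroup.normalizer_commutator_ge_right V E₁ he) w).1 hw
  have hcW : ∀ e ∈ E₂, ∀ w ∈ W, e * w * e⁻¹ = w := fun e he w hw => by
    have := Subgroup.commutator_mem_commutator hw he
    rw [hc, Subgroup.mem_bot, commutatorElement_eq_one_iff_mul_comm] at this
    rw [← this, mul_inv_cancel_right]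
  have hE₁ : ∀ e ∈ E₁, ∀ v ∈ V, ∃ w ∈ W, e * v * e⁻¹ = v * w := fun e he v hv => by
    refine ⟨⁅v⁻¹, e⁆, Subgroup.commutator_mem_commutator (inv_mem hv) he, ?_⟩
    rw [commutatorElement_def]; group
  have key : ∀ d ∈ D, (∀ w ∈ W, d * w * d⁻¹ = w) ∧ ∀ v ∈ V, ∃ w ∈ W, d * v * d⁻¹ = v * w := by
    intro d hd
    rw [hD, Subgroup.commutator_def] at hd
    induction hd using Subgroup.closure_induction with
    | mem d hd =>
      obtain ⟨a, ha, b, hb, rfl⟩ := hd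
      constructor
      · intro w hw
        rw [commutatorElement_def, show a * b * a⁻¹ * b⁻¹ * w * (a * b * a⁻¹ * b⁻¹)⁻¹ =
          a * (b * (a⁻¹ * (b⁻¹ * w * b⁻¹⁻¹) * a⁻¹⁻¹) * b⁻¹) * a⁻¹ by group,
          hcW _ (inv_mem hb) w hw, hcW b hb _ (hnW _ (inv_mem ha) w hw)]
        group
      · intro v hv
        have hu : b⁻¹ * v * b⁻¹⁻¹ ∈ V := hconjV _ (inv_mem (h₂ hb)) v hv
        obtain ⟨w₁, hw₁, e₁⟩ := hE₁ _ (inv_mem ha) _ hu
        obtain ⟨w₂, hw₂, e₂⟩ := hE₁ a ha v hv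
        refine ⟨w₂ * (a * w₁ * a⁻¹), mul_mem hw₂ (hnW a ha w₁ hw₁), ?_⟩
        rw [commutatorElement_def, show a * b * a⁻¹ * b⁻¹ * v * (a * b * a⁻¹ * b⁻¹)⁻¹ =
          a * (b * (a⁻¹ * (b⁻¹ * v * b⁻¹⁻¹) * a⁻¹⁻¹) * b⁻¹) * a⁻¹ by group, e₁,
          show b * (b⁻¹ * v * b⁻¹⁻¹ * w₁) * b⁻¹ = v * (b * w₁ * b⁻¹) by group, hcW b hb w₁ hw₁,
          ← mul_assoc v, ← e₂]
        group
    | one => exact ⟨fun w _ => by simp, fun v _ => ⟨1, one_mem _, by simp⟩⟩
    | mul x y _ _ ihx ihy =>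
      constructor
      · intro w hw
        rw [show x * y * w * (x * y)⁻¹ = x * (y * w * y⁻¹) * x⁻¹ by group, ihy.1 w hw, ihx.1 w hw]
      · intro v hv
        obtain ⟨w₁, hw₁, e₁⟩ := ihy.2 v hv
        obtain ⟨w₂, hw₂, e₂⟩ := ihx.2 v hv
        refine ⟨w₂ * w₁, mul_mem hw₂ hw₁, ?_⟩
        rw [show x * y * v * (x * y)⁻¹ = x * (y * v * y⁻¹) * x⁻¹ by group, e₁,
          show x * (v * w₁) * x⁻¹ = x * v * x⁻¹ * (x * w₁ * x⁻¹) by group, e₂, ihx.1 w₁ hw₁, mul_assoc]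
    | inv x _ ihx =>
      constructor
      · intro w hw
        conv_lhs => rw [← ihx.1 w hw]
        group
      · intro v hv
        obtain ⟨w, hw, e⟩ := ihx.2 v hv
        refine ⟨w⁻¹, inv_mem hw, ?_⟩
        have h2 := ihx.1 w hw
        calc x⁻¹ * v * x⁻¹⁻¹ = x⁻¹ * (x * v * x⁻¹ * (x * w * x⁻¹)⁻¹) * x := by
              rw [e, h2]; group
          _ = v * w⁻¹ := by group
  have hDH : D ≤ H := (Subgroup.commutator_mono h₁ h₂).trans (Subgroup.commutator_le_self H)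
  have hDp : IsPGroup p D := fun d => ⟨1, by
    rw [pow_one]
    refine Subtype.ext ?_
    rw [Subgroup.coe_pow, Subgroup.coe_one, ← Subgroup.mem_bot, ← hf]
    refine ⟨pow_mem (hDH d.2) p, Subgroup.mem_centralizer_iff.2 ?_⟩
    intro v hv
    obtain ⟨k1, k2⟩ := key d d.2
    obtain ⟨w, hw, e⟩ := k2 v hv
    have hpow : ∀ n : ℕ, (d : G) ^ n * v * ((d : G) ^ n)⁻¹ = v * w ^ n := by
      intro n
      induction n with
      | zero => simp
      | succ n ih =>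
        rw [pow_succ' (d : G), show (d : G) * (d : G) ^ n * v * ((d : G) * (d : G) ^ n)⁻¹ =
          (d : G) * ((d : G) ^ n * v * ((d : G) ^ n)⁻¹) * (d : G)⁻¹ by group, ih,
          show (d : G) * (v * w ^ n) * (d : G)⁻¹ = (d : G) * v * (d : G)⁻¹ * ((d : G) * w ^ n * (d : G)⁻¹) by group,
          e, k1 _ (pow_mem hw n), mul_assoc, ← pow_succ']
    have := hpow p
    rw [hV.2 w (hWV hw), mul_one, mul_inv_eq_iff_eq_mul] at this
    exact this.symm⟩
  have hX : ((E₁ ⊔ E₂).subgroupOf H).IsSubnormal := by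
    rw [Subgroup.subgroupOf_sup h₁ h₂]
    exact LEWielandt.sup hs₁ hs₂
  have hDX : D ≤ E₁ ⊔ E₂ :=
    (Subgroup.commutator_mono le_sup_left le_sup_right).trans (Subgroup.commutator_le_self _)
  haveI : ((D.subgroupOf H).subgroupOf ((E₁ ⊔ E₂).subgroupOf H)).Normal := by
    rw [Subgroup.normal_subgroupOf_iff_le_normalizer (Subgroup.subgroupOf_mono _ hDX)]
    refine fun x hx => Subgroup.mem_normalizer_iff.2 fun y => ?_
    have hn : E₁ ⊔ E₂ ≤ Subgroup.normalizer (D : Set G) :=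
      sup_le (Subgroup.normalizer_commutator_ge_left E₁ E₂) (Subgroup.normalizer_commutator_ge_right E₁ E₂)
    exact Subgroup.mem_normalizer_iff.1 (hn hx) (y : G)
  have hsn : (D.subgroupOf H).IsSubnormal :=
    Subgroup.IsSubnormal.step _ _ (Subgroup.subgroupOf_mono _ hDX) hX inferInstance
  have hle := FittingCores.le_pCore_of_isSubnormal (p := p) hsn
    (hDp.of_equiv (Subgroup.subgroupOfEquivOfLe hDH).symm)
  intro x hx
  exact ⟨⟨x, hDH hx⟩, hle (show (⟨x, hDH hx⟩ : H) ∈ D.subgroupOf H from hx), rfl⟩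


end Cfsg.Agent.S0597
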