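import Cfsg.Statements.S0599
import Cfsg.Agent.Lib.PLocal.Replacement

set_option autoImplicit false
set_option linter.style.haveILetI false
open Cfsg

namespace Cfsg.Agent.S0599
open scoped Pointwise commutatorElement
open Cfsg.Agent
open Cfsg.Agent

/-- The Timmesfeld replacement Theorem: replacing a best offender A by C_A([U, A]) gives a best offender with fixed points [U, A]C_V(A), still nontrivial on V if A was. -/
theorem result {G : Type*} [Group G] [Finite G] {p : ℕ} [Fact p.Prime] (V A : Subgroup G) (hV : Cfsg.IsElementaryAbelian p V) (hAV : A ≤ Subgroup.normalizer (V : Set G)) (hA : Cfsg.IsBestOffenderOn p V A) (U : Subgroup G) (hU : U ≤ V) : Cfsg.IsBestOffenderOn p V (A ⊓ Subgroup.centralizer ((⁅U, A⁆ : Subgroup G) : Set G)) ∧ V ⊓ Subgroup.centralizer ((A ⊓ Subgroup.centralizer ((⁅U, A⁆ : Subgroup G) : Set G) : Subgroup G) : Set G) = ⁅U, A⁆ ⊔ (V ⊓ Subgroup.centralizer (A : Set G)) ∧ (⁅V, A⁆ ≠ ⊥ → ⁅V, A ⊓ Subgroup.centralizer ((⁅U, A⁆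 : Subgroup G) : Set G)⁆ ≠ ⊥) := by
  have hVc : ∀ v ∈ V, ∀ w ∈ V, v * w = w * v := fun v hv w hw =>
    congrArg Subtype.val (hV.1.is_comm.comm ⟨v, hv⟩ ⟨w, hw⟩)
  obtain ⟨hbest, hab, hpow⟩ := hA
  obtain ⟨h1, h2⟩ := Replacement.replacement hVc hAV hab hbest
    (S := (U : Set G)) (SetLike.coe_subset_coe.2 hU)
  rw [Replacement.commSet_eq] at h1 h2
  refine ⟨⟨fun B hB => (hbest B (hB.trans inf_le_left)).trans h2.ge,
    (Subgroup.commutator_mono inf_le_left inf_le_left).trans hab, fun a ha => hpow a ha.1⟩, h1, ?_⟩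
  intro hne hbot
  apply hne
  rw [Subgroup.commutator_eq_bot_iff_le_centralizer] at hbot ⊢
  refine Replacement.le_centralizer_of_le_sup (p := p) ?_ hVc hAV hpow ?_
  · exact fun v => ⟨1, Subtype.ext (by rw [pow_one, Subgroup.coe_pow, hV.2 _ v.2, Subgroup.coe_one])⟩
  · exact (le_inf le_rfl hbot).trans (h1.le.trans (sup_le_sup_right
      (Subgroup.commutator_mono hU le_rfl) _))


end Cfsg.Agent.S0599
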