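import Cfsg.Statements.S0600
import Cfsg.Agent.Lib.Transfer.Basic

set_option autoImplicit false
set_option linter.style.haveILetI false
open Cfsg

namespace Cfsg.Agent.S0600
open scoped Pointwise commutatorElement
open Cfsg.Agent
open Cfsg.Agent
open scoped Pointwise

/-- A normal elementary abelian p-subgroup generated by the fixed points of the Sylow p-subgroups admits no nontrivial normal p-subgroup of G modulo its centralizer. -/
theorem result {G : Type*} [Group G] [Finite G] {p : ℕ} [Fact p.Prime] (V : Subgroup G) [V.Normal] (hV : Cfsg.IsElementaryAbelian p V) (hgen : V = ⨆ S : Sylow p G, V ⊓ Subgroup.centralizer ((S : Subgroup G) : Set G)) : Cfsg.pCore p (G ⧸ Subgroup.centralizer (V : Set G)) = ⊥ := by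
  set C := Subgroup.centralizer (V : Set G) with hC
  set q := QuotientGroup.mk' C with hq
  rw [Subgroup.eq_bot_iff_forall]
  intro y hy
  obtain ⟨g, rfl⟩ := QuotientGroup.mk'_surjective C y
  rw [QuotientGroup.mk'_apply, QuotientGroup.eq_one_iff, hC, Subgroup.mem_centralizer_iff]
  intro v hv
  have hle : V ≤ Subgroup.centralizer {g} := by
    refine hgen.le.trans (iSup_le fun S => ?_)
    intro w hw
    have hS := PBasic.pCore_le_sylow (S.mapSurjective (QuotientGroup.mk'_surjective C)) hy
    obtain ⟨s, hs, hsg⟩ := hS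
    have hsC : s⁻¹ * g ∈ C := QuotientGroup.eq.1 hsg
    rw [Subgroup.mem_centralizer_singleton_iff]
    have hwV : w ∈ V := hw.1
    have e1 : s * w = w * s := hw.2 s hs
    have e2 : w * (s⁻¹ * g) = s⁻¹ * g * w := hsC w hwV
    calc w * g = w * (s * (s⁻¹ * g)) := by group
      _ = s * w * (s⁻¹ * g) := by rw [← mul_assoc, e1]
      _ = s * (s⁻¹ * g * w) := by rw [mul_assoc, e2]
      _ = g * w := by group
  exact Subgroup.mem_centralizer_singleton_iff.1 (hle hv)


end Cfsg.Agent.S0600
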