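import Cfsg.Statements.S0601
import Cfsg.Agent.S0600
import Cfsg.Agent.Lib.PLocal.OmegaOne

set_option autoImplicit false
set_option linter.style.haveILetI false
open Cfsg

namespace Cfsg.Agent.S0601
open scoped Pointwise commutatorElement
open Cfsg.Agent
open Cfsg.Agent
open scoped Pointwise

/-- When O_p(G) contains its centralizer, the normal closure of Ω₁(Z(S)) is elementary abelian and G has no nontrivial normal p-subgroup modulo its centralizer. -/
theorem result {G : Type*} [Group G] [Finite G] {p : ℕ} [Fact p.Prime] (hc : Subgroup.centralizer (Cfsg.pCore p G : Set G) ≤ Cfsg.pCore p G) : (⨆ S : Sylow p G, Cfsg.omegaOne p (((S : Subgroup G)) ⊓ Subgroup.centralizer ((S : Subgroup G) : Set G))).Normal ∧ Cfsg.IsElementaryAbelian p (⨆ S : Sylow p G, Cfsg.omegaOne p (((S : Subgroup G)) ⊓ Subgroup.centralizer ((S : Subgroup G) : Set G))) ∧ ∀ D : Subgroup G, D.Normal → Subgroup.centralizer ((⨆ S : Sylow p G, Cfsg.omegaOne p (((S : Subgroup G)) ⊓ Subgroup.centralizer ((S : Subgroup G) : Set G)) : Subgroup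 G) : Set G) ≤ D → (∃ k : ℕ, (Subgroup.centralizer ((⨆ S : Sylow p G, Cfsg.omegaOne p (((S : Subgroup G)) ⊓ Subgroup.centralizer ((S : Subgroup G) : Set G)) : Subgroup G) : Set G)).relIndex D = p ^ k) → D = Subgroup.centralizer ((⨆ S : Sylow p G, Cfsg.omegaOne p (((S : Subgroup G)) ⊓ Subgroup.centralizer ((S : Subgroup G) : Set G)) : Subgroup G) : Set G) := by
  set Z : Sylow p G → Subgroup G := fun S => Cfsg.omegaOne p (((S : Subgroup G)) ⊓
    Subgroup.centralizer ((S : Subgroup G) : Set G)) with hZ
  set V := ⨆ S : Sylow p G, Z S with hV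
  have hnorm : V.Normal := by
    refine ⟨fun x hx g => ?_⟩
    have hmap : V.map (MulAut.conj g).toMonoidHom ≤ V := by
      rw [hV, Subgroup.map_iSup]
      refine iSup_le fun S => ?_
      rw [hZ]
      simp only
      rw [OmegaOne.map_center _ (MulEquiv.injective _).injOn]
      exact le_trans (le_of_eq rfl) (le_iSup Z (g • S))
    exact hmap ⟨x, hx, rfl⟩
  have hcomm : ∀ S T : Sylow p G, Z T ≤ Subgroup.centralizer (Z S : Set G) := by
    intro S T
    have h1 : Z S ≤ (T : Subgroup G) := by
      refine le_trans ?_ (PBasic.pCore_le_sylow T)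
      refine le_trans ?_ hc
      exact (OmegaOne.le_centralizer_center p _).trans
        (Subgroup.centralizer_le (SetLike.coe_subset_coe.2 (PBasic.pCore_le_sylow S)))
    exact (OmegaOne.le_centralizer_center p _).trans
      (Subgroup.centralizer_le (SetLike.coe_subset_coe.2 h1))
  have hVV : V ≤ Subgroup.centralizer (V : Set G) := by
    refine iSup_le fun T => ?_
    rw [Subgroup.le_centralizer_iff]
    exact iSup_le fun S => hcomm T S
  have hEA : Cfsg.IsElementaryAbelian p V := by
    have hc' : ∀ a ∈ V, ∀ b ∈ V, a * b = b * a := fun a ha b hb => hVV hb a ha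
    refine ⟨⟨⟨fun a b => Subtype.ext (hc' a a.2 b b.2)⟩⟩, fun x hx => ?_⟩
    have hle : V ≤ Cfsg.omegaOne p V := iSup_le fun S y hy =>
      OmegaOne.mem (le_iSup Z S hy) (OmegaOne.pow_eq_one (OmegaOne.center_comm _) hy)
    exact OmegaOne.pow_eq_one hc' (hle hx)
  refine ⟨hnorm, hEA, ?_⟩
  intro D hD hCD hk
  haveI := hnorm
  have hgen : V = ⨆ S : Sylow p G, V ⊓ Subgroup.centralizer ((S : Subgroup G) : Set G) :=
    le_antisymm (iSup_le fun S => le_trans (le_inf (le_iSup Z S)
      (OmegaOne.le_centralizer_center p _)) (le_iSup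
        (fun S : Sylow p G => V ⊓ Subgroup.centralizer ((S : Subgroup G) : Set G)) S))
      (iSup_le fun S => inf_le_left)
  have h0 := Cfsg.Agent.S0600.result V hEA hgen
  set C := Subgroup.centralizer (V : Set G) with hC
  haveI : C.Normal := Subgroup.normal_centralizer
  haveI := hD
  refine le_antisymm ?_ hCD
  have hn : (D.map (QuotientGroup.mk' C)).Normal :=
    hD.map _ (QuotientGroup.mk'_surjective C)
  have hpg : IsPGroup p (D.map (QuotientGroup.mk' C)) := by
    obtain ⟨k, hk⟩ := hk
    refine IsPGroup.of_card (n := k) ?_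
    rw [← hk, ← Subgroup.relIndex_bot_left, ← Subgroup.relIndex_comap, MonoidHom.comap_bot,
      QuotientGroup.ker_mk']
  have h1 := PBasic.le_pCore hn hpg
  rw [h0, le_bot_iff, Subgroup.map_eq_bot_iff, QuotientGroup.ker_mk'] at h1
  exact h1


end Cfsg.Agent.S0601
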