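import Cfsg.Statements.S0607
import Cfsg.Agent.Lib.PLocal.Replacement
import Cfsg.Agent.Lib.PLocal.OmegaOne
import Cfsg.Agent.Lib.Solvable.Basic

set_option autoImplicit false
set_option linter.style.haveILetI false
open Cfsg

namespace Cfsg.Agent.S0607
open scoped Pointwise commutatorElement
open Cfsg.Agent
open Cfsg.Agent
open scoped commutatorElement

/-- The replacement Theorem for the Thompson subgroup: from A of maximal order among elementary abelian p-subgroups one obtains A₀ = [V, A] C_A([V, A]) of the same kind, quadratic on V and nontrivial on V when A is. -/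
theorem result {G : Type*} [Group G] [Finite G] {p : ℕ} [Fact p.Prime] (V : Subgroup G) [V.Normal] (hV : Cfsg.IsElementaryAbelian p V) (A : Subgroup G) (hA : A ∈ Cfsg.maxElementaryAbelianSubgroups p G) : (⁅V, A⁆ ⊔ (A ⊓ Subgroup.centralizer ((⁅V, A⁆ : Subgroup G) : Set G))) ∈ Cfsg.maxElementaryAbelianSubgroups p G ∧ ⁅⁅V, ⁅V, A⁆ ⊔ (A ⊓ Subgroup.centralizer ((⁅V, A⁆ : Subgroup G) : Set G))⁆, ⁅V, A⁆ ⊔ (A ⊓ Subgroup.centralizer ((⁅V, A⁆ : Subgroup G) : Set G))⁆ = ⊥ ∧ (⁅V, A⁆ ≠ ⊥ → ⁅V, ⁅V, A⁆ ⊔ (A ⊓ Subgroup.centralizer ((⁅V, A⁆ : Subgroup G) : Set G))⁆ ≠ ⊥) := by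
  obtain ⟨hAe, hAmax⟩ := hA
  have hcV : ∀ v ∈ V, ∀ w ∈ V, v * w = w * v := fun v hv w hw =>
    Thompson.commute_of_isElementaryAbelian hV hv hw
  have hcA : ∀ v ∈ A, ∀ w ∈ A, v * w = w * v := fun v hv w hw =>
    Thompson.commute_of_isElementaryAbelian hAe hv hw
  have hAV : A ≤ Subgroup.normalizer (V : Set G) :=
    le_top.trans (Subgroup.normalizer_eq_top_iff.2 inferInstance).ge
  have hab : ⁅A, A⁆ ≤ Subgroup.centralizer (V : Set G) := by
    rw [Subgroup.commutator_le]
    intro a ha b hb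
    rw [commutatorElement_eq_one_iff_mul_comm.2 (hcA a ha b hb)]
    exact Subgroup.one_mem _
  have hpow : ∀ a ∈ A, a ^ p ∈ Subgroup.centralizer (V : Set G) := fun a ha => by
    rw [hAe.2 a ha]; exact Subgroup.one_mem _
  have ea_sup : ∀ X Y : Subgroup G, Cfsg.IsElementaryAbelian p X → Cfsg.IsElementaryAbelian p Y →
      (∀ x ∈ X, ∀ y ∈ Y, x * y = y * x) → Cfsg.IsElementaryAbelian p (X ⊔ Y) := by
    intro X Y hX hY hXY
    have h : IsMulCommutative (Subgroup.closure ((X : Set G) ∪ (Y : Set G))) := by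
      refine Subgroup.isMulCommutative_closure ?_
      rintro a (ha | ha) b (hb | hb)
      · exact Thompson.commute_of_isElementaryAbelian hX ha hb
      · exact hXY a ha b hb
      · exact (hXY b hb a ha).symm
      · exact Thompson.commute_of_isElementaryAbelian hY ha hb
    rw [Subgroup.closure_union, Subgroup.closure_eq, Subgroup.closure_eq] at h
    have hc : ∀ a ∈ X ⊔ Y, ∀ b ∈ X ⊔ Y, a * b = b * a := fun a ha b hb =>
      congrArg Subtype.val (h.is_comm.comm ⟨a, ha⟩ ⟨b, hb⟩)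
    refine ⟨⟨⟨fun a b => Subtype.ext (hc a a.2 b b.2)⟩⟩, fun x hx => ?_⟩
    have hle : X ⊔ Y ≤ Cfsg.omegaOne p (X ⊔ Y) := sup_le
      (fun a ha => OmegaOne.mem (Subgroup.mem_sup_left ha) (hX.2 a ha))
      (fun a ha => OmegaOne.mem (Subgroup.mem_sup_right ha) (hY.2 a ha))
    exact OmegaOne.pow_eq_one hc (hle hx)
  have hinf : ∀ B : Subgroup G, B ≤ A → B ⊓ V ≤ V ⊓ Subgroup.centralizer (A : Set G) :=
    fun B hB x hx => ⟨hx.2, fun a ha => hcA a ha x (hB hx.1)⟩
  have hbest : ∀ B : Subgroup G, B ≤ A → Nat.card B * Nat.card (Replacement.cv V B) ≤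
      Nat.card A * Nat.card (Replacement.cv V A) := by
    intro B hB
    have hEA := ea_sup (Replacement.cv V B) B (Thompson.isElementaryAbelian_mono inf_le_left hV)
      (Thompson.isElementaryAbelian_mono hB hAe) (fun x hx y hy => (hx.2 y hy).symm)
    have hn : B ≤ Subgroup.normalizer (Replacement.cv V B : Set G) := fun b hb =>
      Subgroup.centralizer_le_normalizer _ (fun c hc => (hc.2 b hb).symm)
    calc Nat.card B * Nat.card (Replacement.cv V B) = _ :=
          (Nat.mul_comm _ _).trans (SolvBasic.card_sup_mul_card_inf hn).symm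
      _ ≤ _ := Nat.mul_le_mul (hAmax _ hEA) (Nat.le_of_dvd Nat.card_pos (Subgroup.card_dvd_of_le
          (fun x hx => hinf B hB ⟨hx.2, hx.1.1⟩)))
  obtain ⟨h1, h2⟩ := Replacement.replacement hcV hAV hab hbest (S := (V : Set G)) subset_rfl
  rw [Replacement.commSet_eq] at h1 h2
  set X := ⁅V, A⁆ with hX
  set B := A ⊓ Subgroup.centralizer (X : Set G) with hB
  have hXV : X ≤ V := Subgroup.le_normalizer_iff_commutator_le_left.1 hAV
  have hCA : Replacement.cv V A ≤ A := by
    intro x hx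
    have hz : Cfsg.IsElementaryAbelian p (Subgroup.zpowers x) :=
      Thompson.isElementaryAbelian_mono (Subgroup.zpowers_le.2 hx.1) hV
    have hle : Subgroup.zpowers x ≤ Replacement.cv V A := Subgroup.zpowers_le.2 hx
    have hEA := ea_sup A (Subgroup.zpowers x) hAe hz (fun a ha y hy => (hle hy).2 a ha)
    rw [Subgroup.eq_of_le_of_card_ge (le_sup_left : A ≤ _) (hAmax _ hEA)]
    exact Subgroup.mem_sup_right (Subgroup.mem_zpowers x)
  have hCB : Replacement.cv V A ≤ B := fun x hx => ⟨hCA hx, fun y hy => hcV y (hXV hy) x hx.1⟩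
  have hA0 : X ⊔ B = Replacement.cv V B ⊔ B := by
    rw [h1, sup_assoc, sup_eq_right.2 hCB]
  have hinfB : Replacement.cv V B ⊓ B = Replacement.cv V A :=
    le_antisymm (fun x hx => hinf B inf_le_left ⟨hx.2, hx.1.1⟩)
      (le_inf (h1 ▸ le_sup_right) hCB)
  have hnB : B ≤ Subgroup.normalizer (Replacement.cv V B : Set G) := fun b hb =>
    Subgroup.centralizer_le_normalizer _ (fun c hc => (hc.2 b hb).symm)
  have hcard : Nat.card ↥(X ⊔ B) = Nat.card A := by
    have := SolvBasic.card_sup_mul_card_inf hnB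
    rw [hinfB, mul_comm (Nat.card (Replacement.cv V B)), h2] at this
    rw [hA0]
    exact Nat.eq_of_mul_eq_mul_right Nat.card_pos this
  refine ⟨⟨ea_sup X B (Thompson.isElementaryAbelian_mono hXV hV)
    (Thompson.isElementaryAbelian_mono inf_le_left hAe)
    (fun x hx b hb => hb.2 x hx), fun C hC => hcard ▸ hAmax C hC⟩, ?_, ?_⟩
  · rw [Subgroup.commutator_eq_bot_iff_le_centralizer]
    have hcomm : X ⊔ B ≤ Subgroup.centralizer (X : Set G) :=
      sup_le (fun x hx y hy => hcV y (hXV hy) x (hXV hx)) inf_le_right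
    refine le_trans ?_ (Subgroup.le_centralizer_iff.1 hcomm)
    rw [Subgroup.commutator_le]
    intro v hv x hx
    have hBX : B ≤ Subgroup.normalizer (X : Set G) :=
      inf_le_right.trans (Subgroup.centralizer_le_normalizer _)
    rw [← SetLike.mem_coe, Subgroup.coe_mul_of_right_le_normalizer_left _ _ hBX] at hx
    obtain ⟨y, hy, b, hb, rfl⟩ := Set.mem_mul.1 hx
    have he : ⁅v, y * b⁆ = y * ⁅v, b⁆ * y⁻¹ := by
      have hvy : v * y = y * v := hcV v hv y (hXV hy)
      simp only [commutatorElement_def, mul_inv_rev, ← mul_assoc, hvy]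
    rw [he]
    exact X.mul_mem (X.mul_mem hy (Subgroup.commutator_mem_commutator hv hb.1)) (X.inv_mem hy)
  · intro hne hbot
    apply hne
    have hB0 : ⁅V, B⁆ = ⊥ :=
      le_bot_iff.1 ((Subgroup.commutator_mono le_rfl le_sup_right).trans hbot.le)
    rw [Subgroup.commutator_eq_bot_iff_le_centralizer] at hB0 ⊢
    refine Replacement.le_centralizer_of_le_sup (p := p) ?_ hcV hAV hpow
      ((le_inf le_rfl hB0).trans h1.le)
    exact fun v => ⟨1, Subtype.ext (by rw [pow_one, Subgroup.coe_pow, hV.2 _ v.2, Subgroup.coe_one])⟩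


end Cfsg.Agent.S0607
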