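import Cfsg.Statements.S0609
import Cfsg.Agent.Lib.PLocal.OmegaOne

set_option autoImplicit false
set_option linter.style.haveILetI false
open Cfsg

namespace Cfsg.Agent.S0609
open scoped Pointwise commutatorElement
open Cfsg.Agent
open Cfsg.Agent

/-- Thompson factorizability passes to and from the quotient by the largest normal subgroup of order prime to p. -/
theorem result {G : Type*} [Group G] [Finite G] {p : ℕ} [Fact p.Prime] : Cfsg.IsThompsonFactorizable p G ↔ Cfsg.IsThompsonFactorizable p (G ⧸ Cfsg.pPrimeCore p G) := by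
  set K := Cfsg.pPrimeCore p G with hK
  set f := QuotientGroup.mk' K with hf
  have hfs : Function.Surjective f := QuotientGroup.mk'_surjective K
  have hker : (Nat.card f.ker).Coprime p := by
    rw [hf, QuotientGroup.ker_mk']; exact PBasic.pPrimeCore_coprime p G
  have hbot : Cfsg.pPrimeCore p (G ⧸ K) = ⊥ := PBasic.pPrimeCore_quotient_pPrimeCore p G
  have hinj : ∀ S : Sylow p G, Set.InjOn f (S : Subgroup G) := fun S =>
    CoprimeQuotient.injOn_of_coprime_ker f hker S.isPGroup'
  have hC : ∀ S : Sylow p G,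
      Subgroup.centralizer ((Cfsg.omegaOne p ((S.mapSurjective hfs : Sylow p (G ⧸ K)) ⊓
        Subgroup.centralizer (((S.mapSurjective hfs : Sylow p (G ⧸ K)) : Subgroup (G ⧸ K)) : Set (G ⧸ K))) :
          Subgroup (G ⧸ K)) : Set (G ⧸ K)) =
      (Subgroup.centralizer ((Cfsg.omegaOne p ((S : Subgroup G) ⊓
        Subgroup.centralizer ((S : Subgroup G) : Set G)) : Subgroup G) : Set G)).map f := by
    intro S
    rw [Sylow.coe_mapSurjective, ← OmegaOne.map_center f (hinj S),
      CoprimeQuotient.centralizer_map f hfs hker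
        (S.isPGroup'.to_le ((OmegaOne.le p _).trans inf_le_left))]
  have hN : ∀ S : Sylow p G,
      Subgroup.normalizer ((Cfsg.thompsonSubgroupOf p
        ((S.mapSurjective hfs : Sylow p (G ⧸ K)) : Subgroup (G ⧸ K))) : Set (G ⧸ K)) =
      (Subgroup.normalizer (Cfsg.thompsonSubgroupOf p (S : Subgroup G) : Set G)).map f := by
    intro S
    rw [Sylow.coe_mapSurjective, Thompson.thompsonSubgroupOf_map f (hinj S),
      CoprimeQuotient.normalizer_map f hfs hker
        (S.isPGroup'.to_le (Thompson.thompsonSubgroupOf_le p _))]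
  constructor
  · intro h S' g'
    obtain ⟨S, rfl⟩ := Sylow.mapSurjective_surjective hfs p S'
    obtain ⟨g, rfl⟩ := hfs g'
    obtain ⟨x, hx, c, hc, n, hn, rfl⟩ := h S g
    refine ⟨1, Subgroup.one_mem _, f c, ?_, f n, ?_, ?_⟩
    · rw [hC]; exact Subgroup.mem_map_of_mem f hc
    · rw [hN]; exact Subgroup.mem_map_of_mem f hn
    · have hx1 : f x = 1 := (QuotientGroup.eq_one_iff x).2 hx
      rw [map_mul, map_mul, hx1]
  · intro h S g
    obtain ⟨x, hx, c', hc, n', hn, he⟩ := h (S.mapSurjective hfs) (f g)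
    rw [hbot, Subgroup.mem_bot] at hx
    rw [hx, one_mul] at he
    rw [hC] at hc
    rw [hN] at hn
    obtain ⟨c, hcC, rfl⟩ := hc
    obtain ⟨n, hnN, rfl⟩ := hn
    refine ⟨g * (c * n)⁻¹, ?_, c, hcC, n, hnN, by group⟩
    rw [← QuotientGroup.eq_one_iff (N := K)]
    show f (g * (c * n)⁻¹) = 1
    rw [map_mul, map_inv, map_mul, he, mul_inv_cancel]


end Cfsg.Agent.S0609
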