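import Cfsg.Statements.S0611
import Cfsg.Agent.Lib.PLocal.FF.Frozen

set_option autoImplicit false
set_option linter.style.haveILetI false
open Cfsg

namespace Cfsg.Agent.S0611
open scoped Pointwise commutatorElement
open Cfsg.Agent

/-- Minimal nontrivially-acting best offenders in such a faithful group have order p, commutator [V, B] of order p and fixed points of index p. -/
theorem result {G : Type*} [Group G] [Finite G] {p : ℕ} [Fact p.Prime] (V H : Subgroup G) (hV : Cfsg.IsElementaryAbelian p V) (hHV : H ≤ Subgroup.normalizer (V : Set G)) (hf : H ⊓ Subgroup.centralizer (V : Set G) = ⊥) (hS1 : Subgroup.centralizer (Cfsg.pPrimeCore p ↥H : Set ↥H) ≤ Cfsg.pPrimeCore p ↥H) (hS3 : H = ⨆ A : {A : Subgroup G // A ≤ H ∧ Cfsg.IsBestOffenderOn p V A}, (A : Subgroup G)) (hH1 : H ≠ ⊥) (A : Subgroup G) (hAH : A ≤ H) (hA : Cfsg.IsBestOffenderOn p V A) (hAV : ⁅V, A⁆ ≠ ⊥) (hmin : ∀ B : Subgroup G, B ≤ A → Cfsg.IsBestOffenderOn p V B → ⁅V, B⁆ ≠ ⊥ → B = A)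 : Nat.card A = p ∧ Nat.card ↥(⁅V, A⁆) = p ∧ ((V ⊓ Subgroup.centralizer (A : Set G))).relIndex V = p := by
  have S := FF.setting_of V H hV hHV hf hS1
  obtain ⟨a, ha, rfl⟩ := FF.exists_tv_of_minimal S hAH hA hAV hmin
  refine ⟨FF.card_zpowers_prime ha.pow_eq_one ha.1, FF.card_line S ha, ?_⟩
  set C := V ⊓ Subgroup.centralizer (Subgroup.zpowers a : Set G) with hC
  have h := (C.subgroupOf V).card_mul_index
  rw [Nat.card_congr (Subgroup.subgroupOfEquivOfLe (inf_le_left : C ≤ V)).toEquiv,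
    ← ha.card_fix, hC, FF.centralizer_zpowers, mul_comm p] at h
  rw [Subgroup.relIndex, hC, FF.centralizer_zpowers]
  exact Nat.eq_of_mul_eq_mul_left Nat.card_pos h


end Cfsg.Agent.S0611
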