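import Cfsg.Statements.S0613
import Cfsg.Agent.Lib.PLocal.FF.Frozen

set_option autoImplicit false
set_option linter.style.haveILetI false
open Cfsg

namespace Cfsg.Agent.S0613
open scoped Pointwise commutatorElement
open Cfsg.Agent

/-- A minimal nontrivially-acting best offender and a conjugate of it under a non-centralizing element of the p'-core generate SL(2, p) acting naturally on a plane, and p is 2 or 3. -/
theorem result {G : Type*} [Group G] [Finite G] {p : ℕ} [Fact p.Prime] (V H : Subgroup G) (hV : Cfsg.IsElementaryAbelian p V) (hHV : H ≤ Subgroup.normalizer (V : Set G)) (hf : H ⊓ Subgroup.centralizer (V : Set G) = ⊥) (hS1 : Subgroup.centralizer (Cfsg.pPrimeCore p ↥H : Set ↥H) ≤ Cfsg.pPrimeCore p ↥H) (hS3 : H = ⨆ A : {A : Subgroup G // A ≤ H ∧ Cfsg.IsBestOffenderOn p V A}, (A : Subgroup G)) (hH1 : H ≠ ⊥) (A : Subgroup G) (hAH : A ≤ H) (hA : Cfsg.IsBestOffenderOn p V A) (hAV : ⁅V, A⁆ ≠ ⊥) (hmin : ∀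 B : Subgroup G, B ≤ A → Cfsg.IsBestOffenderOn p V B → ⁅V, B⁆ ≠ ⊥ → B = A) (x : G) (hx : x ∈ ((Cfsg.pPrimeCore p ↥H).map H.subtype)) (hxA : x ∉ Subgroup.centralizer (A : Set G)) : (p = 2 ∨ p = 3) ∧ Nat.card ↥(⁅V, A ⊔ A.map (MulAut.conj x).toMonoidHom⁆) = p ^ 2 ∧ (A ⊔ A.map (MulAut.conj x).toMonoidHom) ⊓ Subgroup.centralizer ((⁅V, A ⊔ A.map (MulAut.conj x).toMonoidHom⁆ : Subgroup G) : Set G) = ⊥ ∧ Nonempty (↥(A ⊔ A.map (MulAut.conj x).toMonoidHom) ≃* Matrix.SpecialLinearGroup (Fin 2) (ZMod p)) := by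
  have S := FF.setting_of V H hV hHV hf hS1
  obtain ⟨a, ha, rfl⟩ := FF.exists_tv_of_minimal S hAH hA hAV hmin
  rw [FF.centralizer_zpowers, Subgroup.mem_centralizer_singleton_iff] at hxA
  have hne : a * (x * a * x⁻¹) ≠ (x * a * x⁻¹) * a := by
    intro hc
    have hc' : Commute a (x * a * x⁻¹) := hc
    have hK : x * a * x⁻¹ * a⁻¹ ∈ (Cfsg.pPrimeCore p ↥H).map H.subtype := by
      rw [show x * a * x⁻¹ * a⁻¹ = x * (a * x⁻¹ * a⁻¹) by group]
      exact mul_mem hx (S.conjK_mem ha.mem (inv_mem hx))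
    have h1 := S.eq_one_of_pow hK (by
      rw [(hc'.symm.inv_right).mul_pow, conj_pow, inv_pow, ha.pow_eq_one]; group)
    rw [mul_inv_eq_one, mul_inv_eq_iff_eq_mul] at h1
    exact hxA h1
  obtain ⟨b, hbC, rfl, hcomp, hplane, -, -, hcard, -, hfa, -⟩ := FF.comp_spec_at S ha hx hne
  have hE : Subgroup.zpowers a ⊔ (Subgroup.zpowers a).map (MulAut.conj x).toMonoidHom =
      FF.comp ((Cfsg.pPrimeCore p ↥H).map H.subtype) a := by
    rw [MonoidHom.map_zpowers, hcomp, show ({a, x * a * x⁻¹} : Set G) = {a} ∪ {x * a * x⁻¹} from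
      Set.insert_eq _ _, Subgroup.closure_union, Subgroup.zpowers_eq_closure, Subgroup.zpowers_eq_closure]
    rfl
  rw [hE]
  refine ⟨FF.eq_two_or_three S ha, hcard, ?_, FF.comp_equiv S ha⟩
  rw [eq_bot_iff]
  intro m hm
  rw [Subgroup.mem_bot]
  refine hfa m hm.1 fun w hw => ?_
  rw [← Subgroup.mem_centralizer_iff.1 hm.2 w hw, mul_inv_cancel_right]


end Cfsg.Agent.S0613
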