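import Cfsg.Statements.S0615
import Cfsg.Agent.Lib.PLocal.FF.SubPair
import Cfsg.Agent.Lib.Solvable.Fitting

set_option autoImplicit false
set_option linter.style.haveILetI false
open Cfsg

namespace Cfsg.Agent.S0615
open scoped Pointwise commutatorElement
open Cfsg.Agent

/-- Two subnormal subgroups acting irreducibly on their incomparable commutator modules, in a faithful group with trivial largest normal p-subgroup, generate their direct product, and the commutator module splits accordingly. -/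
theorem result {G : Type*} [Group G] [Finite G] {p : ℕ} [Fact p.Prime] (V E E₁ E₂ : Subgroup G) (hV : Cfsg.IsElementaryAbelian p V) (hEV : E ≤ Subgroup.normalizer (V : Set G)) (hf : E ⊓ Subgroup.centralizer (V : Set G) = ⊥) (hgen : E = E₁ ⊔ E₂) (hs₁ : (E₁.subgroupOf E).IsSubnormal) (hs₂ : (E₂.subgroupOf E).IsSubnormal) (hOp : Cfsg.pCore p ↥E = ⊥) (hirr₁ : (∀ U : Subgroup G, U ≤ ⁅V, E₁⁆ → E₁ ≤ Subgroup.normalizer (U : Set G) → U = ⊥ ∨ U = ⁅V, E₁⁆)) (hirr₂ : (∀ U : Subgroup G, U ≤ ⁅V, E₂⁆ → E₂ ≤ Subgroup.normalizer (U : Set G) → U = ⊥ ∨ U = ⁅V, E₂⁆)) (h12 : ¬ ⁅V, E₁⁆ ≤ ⁅V, E₂⁆) (h21 : ¬ ⁅V, E₂⁆ ≤ ⁅V, E₁⁆) (hc₁ : 2 < Nat.card E₁) (hc₂ : 2 < Nat.card E₂) : ⁅E₁, E₂⁆ = ⊥ ∧ E₁ ⊓ E₂ = ⊥ ∧ ⁅V, E₁⁆ ⊓ ⁅V, E₂⁆ = ⊥ ∧ ⁅V, E⁆ = ⁅V, E₁⁆ ⊔ ⁅V, E₂⁆ := by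
  have hE₁ : E₁ ≤ E := hgen ▸ le_sup_left
  have hE₂ : E₂ ≤ E := hgen ▸ le_sup_right
  have g : FF.SubPair.Grp p V E := by
    refine ⟨hEV, hf, fun P hP hPp => ?_⟩
    have h := FittingCores.le_pCore_of_isSubnormal (p := p) hP.2
      (hPp.of_equiv (Subgroup.subgroupOfEquivOfLe hP.1).symm)
    rw [hOp, le_bot_iff, Subgroup.subgroupOf_eq_bot, disjoint_iff, inf_eq_left.2 hP.1] at h
    exact h
  obtain ⟨hcm, hinf⟩ := FF.SubPair.main hV _ E E₁ E₂ le_rfl g ⟨hE₁, hs₁⟩ ⟨hE₂, hs₂⟩ hirr₁ hirr₂ h12 h21 hc₁ hc₂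
  have hcent : E₁ ≤ Subgroup.centralizer (E₂ : Set G) := Subgroup.commutator_eq_bot_iff_le_centralizer.1 hcm
  have hn : ∀ A B : Subgroup G, A ≤ E → A ≤ Subgroup.centralizer (B : Set G) →
      A ≤ Subgroup.normalizer ((⁅V, B⁆ : Subgroup G) : Set G) := by
    intro A B hA hAB a ha
    rw [Subgroup.mem_normalizer_iff_map_conj_eq]
    refine (Subgroup.map_commutator _ _ _).trans ?_
    rw [Subgroup.mem_normalizer_iff_map_conj_eq.1 (hEV (hA ha)),
      Subgroup.mem_normalizer_iff_map_conj_eq.1 (Subgroup.centralizer_le_normalizer _ (hAB ha))]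
  have hcent' : E₂ ≤ Subgroup.centralizer (E₁ : Set G) :=
    Subgroup.commutator_eq_bot_iff_le_centralizer.1 (by rw [Subgroup.commutator_comm]; exact hcm)
  refine ⟨hcm, ?_, hinf, ?_⟩
  · rw [eq_bot_iff]
    rintro x ⟨hx1, hx2⟩
    rw [← hf]
    refine ⟨hE₁ hx1, Subgroup.mem_centralizer_iff.2 fun v hv => ?_⟩
    have h : ⁅v, x⁆ ∈ ⁅V, E₁⁆ ⊓ ⁅V, E₂⁆ :=
      ⟨Subgroup.commutator_mem_commutator hv hx1, Subgroup.commutator_mem_commutator hv hx2⟩
    rw [hinf, Subgroup.mem_bot, commutatorElement_eq_one_iff_mul_comm] at h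
    exact h
  · refine le_antisymm ?_ (sup_le (Subgroup.commutator_mono le_rfl hE₁) (Subgroup.commutator_mono le_rfl hE₂))
    set W := ⁅V, E₁⁆ ⊔ ⁅V, E₂⁆ with hW
    have hWn : E ≤ Subgroup.normalizer (W : Set G) := by
      have h1 : E ≤ Subgroup.normalizer ((⁅V, E₁⁆ : Subgroup G) : Set G) :=
        hgen ▸ sup_le (FF.SubPair.self_norm E₁) (hn E₂ E₁ hE₂ hcent')
      have h2 : E ≤ Subgroup.normalizer ((⁅V, E₂⁆ : Subgroup G) : Set G) :=
        hgen ▸ sup_le (hn E₁ E₂ hE₁ hcent) (FF.SubPair.self_norm E₂)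
      intro e he
      rw [Subgroup.mem_normalizer_iff_map_conj_eq, hW, Subgroup.map_sup,
        Subgroup.mem_normalizer_iff_map_conj_eq.1 (h1 he), Subgroup.mem_normalizer_iff_map_conj_eq.1 (h2 he)]
    rw [Subgroup.commutator_le]
    intro v hv e he
    rw [hgen, Subgroup.sup_eq_closure] at he
    induction he using Subgroup.closure_induction generalizing v with
    | mem t ht =>
      rcases ht with ht | ht
      · exact Subgroup.mem_sup_left (Subgroup.commutator_mem_commutator hv ht)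
      · exact Subgroup.mem_sup_right (Subgroup.commutator_mem_commutator hv ht)
    | one => simp
    | mul a b ha hb iha ihb =>
      have e1 : ⁅v, a * b⁆ = ⁅v, a⁆ * (a * ⁅v, b⁆ * a⁻¹) := by simp only [commutatorElement_def]; group
      rw [e1]
      refine mul_mem (iha v hv) ((Subgroup.mem_normalizer_iff.1 (hWn ?_) _).1 (ihb v hv))
      rw [hgen, Subgroup.sup_eq_closure]; exact ha
    | inv a ha iha =>
      have haE : a ∈ E := by rw [hgen, Subgroup.sup_eq_closure]; exact ha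
      have e1 : ⁅v, a⁻¹⁆ = a⁻¹ * ⁅v, a⁆⁻¹ * a⁻¹⁻¹ := by simp only [commutatorElement_def]; group
      rw [e1]
      exact (Subgroup.mem_normalizer_iff.1 (hWn (inv_mem haE)) _).1 (inv_mem (iha v hv))


end Cfsg.Agent.S0615
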