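import Cfsg.Statements.S0617
import Cfsg.Agent.Lib.PLocal.FF.Frozen

set_option autoImplicit false
set_option linter.style.haveILetI false
open Cfsg

namespace Cfsg.Agent.S0617
open scoped Pointwise commutatorElement
open Cfsg.Agent

/-- Structure Theorem for failure of factorization: a faithful group generated by best offenders, with self-centralizing p'-core, is a direct product of copies of SL(2, p) (p = 2 or 3), each acting on its own plane in V, which is the direct product of these planes and C_V(H). -/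
theorem result {G : Type*} [Group G] [Finite G] {p : ℕ} [Fact p.Prime] (V H : Subgroup G) (hV : Cfsg.IsElementaryAbelian p V) (hHV : H ≤ Subgroup.normalizer (V : Set G)) (hf : H ⊓ Subgroup.centralizer (V : Set G) = ⊥) (hS1 : Subgroup.centralizer (Cfsg.pPrimeCore p ↥H : Set ↥H) ≤ Cfsg.pPrimeCore p ↥H) (hS3 : H = ⨆ A : {A : Subgroup G // A ≤ H ∧ Cfsg.IsBestOffenderOn p V A}, (A : Subgroup G)) (hH1 : H ≠ ⊥) : (p = 2 ∨ p = 3) ∧ (∀ E : {E : Subgroup G // ∃ A : Subgroup G, A ≤ H ∧ Cfsg.IsBestOffenderOn p V A ∧ ⁅V, A⁆ ≠ ⊥ ∧ (∀ B : Subgroup G, B ≤ A → Cfsg.IsBestOffenderOn p V B → ⁅V, B⁆ ≠ ⊥ → B = A) ∧ E = ⁅((Cfsg.pPrimeCore p ↥H).map H.subtype), A⁆ ⊔ A}, H ≤ Subgroup.normalizer ((E : Subgroup G) : Set G) ∧ Nonempty (↥(E : Subgroup G) ≃* Matrix.SpecialLinearGroup (Fin 2) (ZMod p)) ∧ Nat.card ↥(⁅V, (E : Subgroup G)⁆) = p ^ 2) ∧ iSupIndep (fun E : {E : Subgroup G // ∃ A : Subgroup G, A ≤ H ∧ Cfsg.IsBestOffenderOn p V A ∧ ⁅V, A⁆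 ≠ ⊥ ∧ (∀ B : Subgroup G, B ≤ A → Cfsg.IsBestOffenderOn p V B → ⁅V, B⁆ ≠ ⊥ → B = A) ∧ E = ⁅((Cfsg.pPrimeCore p ↥H).map H.subtype), A⁆ ⊔ A} => (E : Subgroup G)) ∧ (⨆ E : {E : Subgroup G // ∃ A : Subgroup G, A ≤ H ∧ Cfsg.IsBestOffenderOn p V A ∧ ⁅V, A⁆ ≠ ⊥ ∧ (∀ B : Subgroup G, B ≤ A → Cfsg.IsBestOffenderOn p V B → ⁅V, B⁆ ≠ ⊥ → B = A) ∧ E = ⁅((Cfsg.pPrimeCore p ↥H).map H.subtype), A⁆ ⊔ A}, (E : Subgroup G)) = H ∧ iSupIndep (fun o : Option {E : Subgroup G // ∃ A : Subgroup G, A ≤ H ∧ Cfsg.IsBestOffenderOn p V A ∧ ⁅V, A⁆ ≠ ⊥ ∧ (∀ B : Subgroup G, B ≤ A → Cfsg.IsBestOffenderOn p V B → ⁅V, B⁆ ≠ ⊥ → B = A) ∧ E = ⁅((Cfsg.pPrimeCore p ↥H).map H.subtype), A⁆ ⊔ A} => o.elim (V ⊓ Subgroup.centralizer (H : Set G)) (fun E => ⁅V, (E : Subgroup G)⁆)) ∧ (V ⊓ Subgroup.centralizer (H : Set G)) ⊔ (⨆ E : {E : Subgroup G // ∃ A : Subgroup G, A ≤ H ∧ Cfsg.IsBestOffenderOn p V A ∧ ⁅V, A⁆ ≠ ⊥ ∧ (∀ B : Subgroup G, B ≤ A → Cfsg.IsBestOffenderOn p V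 B → ⁅V, B⁆ ≠ ⊥ → B = A) ∧ E = ⁅((Cfsg.pPrimeCore p ↥H).map H.subtype), A⁆ ⊔ A}, ⁅V, (E : Subgroup G)⁆) = V := by
  classical
  have S := FF.setting_of V H hV hHV hf hS1
  set K := (Cfsg.pPrimeCore p ↥H).map H.subtype with hK
  have hgen := FF.eq_closure_of_gen S hS3
  set I := {E : Subgroup G // ∃ A : Subgroup G, A ≤ H ∧ Cfsg.IsBestOffenderOn p V A ∧ ⁅V, A⁆ ≠ ⊥ ∧
    (∀ B : Subgroup G, B ≤ A → Cfsg.IsBestOffenderOn p V B → ⁅V, B⁆ ≠ ⊥ → B = A) ∧ E = ⁅K, A⁆ ⊔ A} with hI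
  have hrep : ∀ E : I, ∃ a, FF.Tv p V H a ∧ (E : Subgroup G) = FF.comp K a := by
    rintro ⟨E, A, hAH, hA, hAV, hmin, hE⟩
    obtain ⟨a, ha, rfl⟩ := FF.exists_tv_of_minimal S hAH hA hAV hmin
    exact ⟨a, ha, hE.trans (FF.comp_eq_commutator S ha).symm⟩
  choose r hr hrE using hrep
  have hmk : ∀ a, FF.Tv p V H a → ∃ E : I, (E : Subgroup G) = FF.comp K a := fun a ha =>
    ⟨⟨FF.comp K a, Subgroup.zpowers a, Subgroup.zpowers_le.2 ha.mem, ha.isBest S,
      FF.commutator_ne_bot_of_tv S ha, fun B hB _ hB1 => FF.minimal_of_tv S ha B hB hB1,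
      FF.comp_eq_commutator S ha⟩, rfl⟩
  have hW : ∀ E : I, ⁅V, (E : Subgroup G)⁆ = FF.plane V K (r E) := fun E => by rw [FF.plane, ← hrE]
  have hrest : ∀ E E' : I, E' ≠ E → (E' : Subgroup G) ≤ FF.rest p V H K (r E) := by
    intro E E' hne
    rw [hrE E', FF.comp, Subgroup.closure_le]
    intro t ht
    exact Subgroup.subset_closure ⟨FF.conjSet_tv S (hr E') ht, fun e =>
      hne (Subtype.ext (by rw [hrE, hrE, e, FF.comp_eq ht]))⟩
  have hsup : (⨆ E : I, (E : Subgroup G)) = H := by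
    refine le_antisymm (iSup_le fun E => hrE E ▸ FF.comp_le S (hr E)) ?_
    refine hgen.le.trans ((Subgroup.closure_le _).2 fun t ht => ?_)
    obtain ⟨E, hE⟩ := hmk t ht
    exact le_iSup (fun E : I => (E : Subgroup G)) E (hE ▸ FF.self_mem_comp K t)
  have hother : ∀ E E' : I, E' ≠ E →
      ⁅V, (E' : Subgroup G)⁆ ≤ V ⊓ Subgroup.centralizer ((E : Subgroup G) : Set G) := by
    intro E E' hne
    rw [hrE E]
    exact le_trans (Subgroup.commutator_mono le_rfl (hrest E E' hne))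
      (FF.factor S hgen (hr E)).2.2.2.2.1
  have hcentH : ∀ E : I, V ⊓ Subgroup.centralizer (H : Set G) ≤
      V ⊓ Subgroup.centralizer ((E : Subgroup G) : Set G) := fun E =>
    inf_le_inf_left _ (Subgroup.centralizer_le (hrE E ▸ FF.comp_le S (hr E)))
  have hzero : ∀ (s : Finset I), ∀ x ∈ ⨆ E ∈ s, ⁅V, (E : Subgroup G)⁆,
      (∀ E ∈ s, x ∈ Subgroup.centralizer ((E : Subgroup G) : Set G)) → x = 1 := by
    intro s
    induction s using Finset.induction_on with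
    | empty => intro x hx _; simpa using hx
    | insert E s hEs ih =>
      intro x hx hfx
      rw [Finset.iSup_insert] at hx
      have hle : (⨆ E' ∈ s, ⁅V, (E' : Subgroup G)⁆) ≤ V ⊓ Subgroup.centralizer ((E : Subgroup G) : Set G) :=
        iSup₂_le fun E' hE' => hother E E' fun e => hEs (e ▸ hE')
      have hWle : ⁅V, (E : Subgroup G)⁆ ≤ V := hW E ▸ FF.plane_le S (hr E)
      have hmem : x ∈ ((⁅V, (E : Subgroup G)⁆ : Subgroup G) : Set G) *
          ((⨆ E' ∈ s, ⁅V, (E' : Subgroup G)⁆ : Subgroup G) : Set G) := by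
        rw [← Subgroup.coe_mul_of_right_le_normalizer_left _ _
          (((hle.trans inf_le_left).trans (FF.le_centralizer_of_ea hV hWle)).trans
            (Subgroup.centralizer_le_normalizer _))]
        exact hx
      obtain ⟨w, hw, u, hu, rfl⟩ := Set.mem_mul.1 hmem
      have hw1 : w = 1 := by
        have h1 : w ∈ FF.plane V K (r E) ⊓ (V ⊓ Subgroup.centralizer (FF.comp K (r E) : Set G)) := by
          refine ⟨hW E ▸ hw, hWle hw, ?_⟩
          rw [← hrE]
          have h2 := mul_mem (hfx E (Finset.mem_insert_self _ _)) (inv_mem (hle hu).2)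
          rwa [mul_inv_cancel_right] at h2
        exact Subgroup.mem_bot.1 ((FF.plane_complement S (hr E)).1.le h1)
      rw [hw1, one_mul] at hfx ⊢
      exact ih u hu fun E' hE' => hfx E' (Finset.mem_insert_of_mem hE')
  have htot : ∀ (s : Finset I), ∀ v ∈ V, ∃ t ∈ ⨆ E ∈ s, ⁅V, (E : Subgroup G)⁆,
      ∀ E ∈ s, t⁻¹ * v ∈ V ⊓ Subgroup.centralizer ((E : Subgroup G) : Set G) := by
    intro s
    induction s using Finset.induction_on with
    | empty => intro v hv; exact ⟨1, one_mem _, fun E hE => absurd hE (Finset.notMem_empty E)⟩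
    | insert E s hEs ih =>
      intro v hv
      obtain ⟨t, ht, hfix⟩ := ih v hv
      rw [Finset.iSup_insert]
      have htV : t ∈ V := (iSup₂_le fun E' _ => hW E' ▸ FF.plane_le S (hr E') :
        (⨆ E' ∈ s, ⁅V, (E' : Subgroup G)⁆) ≤ V) ht
      have hu : t⁻¹ * v ∈ FF.plane V K (r E) ⊔ (V ⊓ Subgroup.centralizer (FF.comp K (r E) : Set G)) := by
        rw [(FF.plane_complement S (hr E)).2]; exact mul_mem (inv_mem htV) hv
      have hmem : t⁻¹ * v ∈ (FF.plane V K (r E) : Set G) *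
          ((V ⊓ Subgroup.centralizer (FF.comp K (r E) : Set G) : Subgroup G) : Set G) := by
        rw [← Subgroup.coe_mul_of_right_le_normalizer_left _ _
          ((inf_le_left.trans (FF.le_centralizer_of_ea hV (FF.plane_le S (hr E)))).trans
            (Subgroup.centralizer_le_normalizer _))]
        exact hu
      obtain ⟨w, hw, u, hu', he⟩ := Set.mem_mul.1 hmem
      have hwV : w ∈ V := FF.plane_le S (hr E) hw
      have hwW : w ∈ ⁅V, (E : Subgroup G)⁆ := hW E ▸ hw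
      refine ⟨w * t, mul_mem (Subgroup.mem_sup_left hwW) (Subgroup.mem_sup_right ht), fun E' hE' => ?_⟩
      have he' : (w * t)⁻¹ * v = u := by
        rw [S.comm hwV htV, mul_inv_rev, mul_assoc, ← he, inv_mul_cancel_left]
      rw [he']
      rcases Finset.mem_insert.1 hE' with rfl | hE's
      · exact hrE E' ▸ hu'
      · have hne : E ≠ E' := fun e => hEs (e ▸ hE's)
        have h2 := mul_mem (inv_mem (hother E' E hne hwW)) (hfix E' hE's)
        rwa [← he, inv_mul_cancel_left] at h2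
  letI : Fintype I := Fintype.ofFinite I
  obtain ⟨A₀, hA₀⟩ : ∃ t, FF.Tv p V H t := by
    by_contra h
    push Not at h
    apply hH1
    rw [hgen, eq_bot_iff, Subgroup.closure_le]
    exact fun t ht => absurd ht (h t)
  refine ⟨FF.eq_two_or_three S hA₀, fun E => ⟨hrE E ▸ (FF.factor S hgen (hr E)).2.2.2.2.2,
    hrE E ▸ FF.comp_equiv S (hr E), ?_⟩, ?_, hsup, ?_, ?_⟩
  · obtain ⟨b, -, -, -, -, -, hcard, -⟩ := FF.comp_spec S (hr E)
    rw [hW]; exact hcard
  · intro E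
    rw [disjoint_iff, eq_bot_iff]
    refine le_trans (inf_le_inf (le_of_eq (hrE E)) (iSup₂_le fun E' hne => hrest E E' hne)) ?_
    exact (FF.factor S hgen (hr E)).2.2.1.le
  · intro o
    rw [disjoint_iff, eq_bot_iff]
    cases o with
    | none =>
      rintro x ⟨hx, hx'⟩
      rw [Subgroup.mem_bot]
      have hle : (⨆ j, ⨆ (_ : j ≠ (none : Option I)),
          j.elim (V ⊓ Subgroup.centralizer (H : Set G)) (fun E : I => ⁅V, (E : Subgroup G)⁆)) ≤
          ⨆ E ∈ (Finset.univ : Finset I), ⁅V, (E : Subgroup G)⁆ := by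
        refine iSup₂_le fun j hj => ?_
        cases j with
        | none => exact absurd rfl hj
        | some E => exact le_iSup₂_of_le E (Finset.mem_univ E) le_rfl
      exact hzero _ x (hle hx') fun E _ => (hcentH E hx).2
    | some E =>
      refine le_trans (inf_le_inf (le_of_eq (hW E)) (iSup₂_le fun j hj => ?_))
        (FF.plane_complement S (hr E)).1.le
      rw [← hrE]
      cases j with
      | none => exact hcentH E
      | some E' => exact hother E E' fun e => hj (e ▸ rfl)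
  · refine le_antisymm (sup_le inf_le_left (iSup_le fun E => hW E ▸ FF.plane_le S (hr E))) ?_
    intro v hv
    obtain ⟨t, ht, hfix⟩ := htot Finset.univ v hv
    rw [show v = t * (t⁻¹ * v) by group]
    refine mul_mem (Subgroup.mem_sup_right ((iSup₂_le fun E _ => le_iSup (fun E : I => ⁅V, (E : Subgroup G)⁆) E :
      (⨆ E ∈ (Finset.univ : Finset I), ⁅V, (E : Subgroup G)⁆) ≤ _) ht)) (Subgroup.mem_sup_left ?_)
    obtain ⟨E₀, -⟩ := hmk A₀ hA₀
    refine ⟨(hfix E₀ (Finset.mem_univ _)).1, Subgroup.mem_centralizer_iff.2 fun h hh => ?_⟩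
    have hle : H ≤ Subgroup.centralizer ({t⁻¹ * v} : Set G) := by
      rw [← hsup]
      exact iSup_le fun E g hg => Subgroup.mem_centralizer_singleton_iff.2
        (Subgroup.mem_centralizer_iff.1 (hfix E (Finset.mem_univ E)).2 g hg)
    exact Subgroup.mem_centralizer_singleton_iff.1 (hle hh)


end Cfsg.Agent.S0617
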