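import Cfsg.Statements.S0625
import Cfsg.Agent.Lib.PStable.ActionStable

set_option autoImplicit false
set_option linter.style.haveILetI false
open Cfsg

namespace Cfsg.Agent.S0625
open scoped Pointwise commutatorElement
open Cfsg.Agent

/-- A p-separable group with p at least 5 is p-stable in the action sense. -/
theorem result {G : Type*} [Group G] [Finite G] {p : ℕ} [Fact p.Prime] (hp : 5 ≤ p) (hsep : Cfsg.IsPSolvable p G) : Cfsg.IsActionPStable p G := by
  refine PStable.isActionPStable_of_free (by omega) fun h => ?_
  obtain ⟨K, ψ, hψ⟩ := PStable.exists_surjective_of_involves h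
  have := PStable.eq_three_of_surjective (by omega) hsep ψ hψ
  omega


end Cfsg.Agent.S0625
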