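import Cfsg.Statements.S0626
import Cfsg.Agent.Lib.PStable.ActionStable

set_option autoImplicit false
set_option linter.style.haveILetI false
open Cfsg

namespace Cfsg.Agent.S0626
open scoped Pointwise commutatorElement
open Cfsg.Agent

/-- For odd p, groups whose Sylow 2-subgroups are abelian are p-stable in the action sense. -/
theorem result {G : Type*} [Group G] [Finite G] {p : ℕ} [Fact p.Prime] (hp : p ≠ 2) (hab : ∀ T : Sylow 2 G, IsMulCommutative T) : Cfsg.IsActionPStable p G := by
  refine PStable.isActionPStable_of_free hp fun h => ?_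
  obtain ⟨K, ψ, hψ⟩ := PStable.exists_surjective_of_involves h
  obtain ⟨T⟩ : Nonempty (Sylow 2 G) := inferInstance
  exact PStable.sylow_two_noncomm hp ψ hψ T (hab T)


end Cfsg.Agent.S0626
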