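import Cfsg.Statements.S0638
import Cfsg.Agent.Lib.MetacyclicOdd.Arith
import Cfsg.Agent.Lib.FiniteGroup.CyclicPGroup
import Cfsg.Agent.Lib.FGStruct.SubgroupCount
import Cfsg.Agent.Lib.LocalEven.OmegaOne
import Mathlib

set_option autoImplicit false
set_option linter.style.haveILetI false
open Cfsg

namespace Cfsg.Agent.S0638
open scoped Pointwise commutatorElement
open Cfsg.Agent

/-- For odd p, in a non-cyclic metacyclic p-group the elements of order dividing p generate an elementary abelian subgroup of order p². -/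
theorem result {R : Type*} [Group R] [Finite R] {p : ℕ} [Fact p.Prime] (hp : p ≠ 2) (hR : IsPGroup p R) (hm : Cfsg.IsMetacyclic R) (hnc : ¬ IsCyclic R) : Cfsg.IsElementaryAbelian p (Cfsg.omegaOne p (⊤ : Subgroup R)) ∧ Nat.card ↥(Cfsg.omegaOne p (⊤ : Subgroup R)) = p ^ 2 := by
  classical
  have hp' : p.Prime := Fact.out
  obtain ⟨A, hAn, hAc, hQc⟩ := hm
  haveI := hAn
  obtain ⟨⟨a, haA⟩, ha⟩ := IsCyclic.exists_generator (α := A)
  have hAa : ∀ y ∈ A, ∃ i : ℤ, y = a ^ i := fun y hy => by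
    obtain ⟨i, hi⟩ := Subgroup.mem_zpowers_iff.1 (ha ⟨y, hy⟩)
    exact ⟨i, (congrArg Subtype.val hi).symm⟩
  have hfew : Nat.card {y : A // y ^ p = 1} ≤ p := by
    haveI := Fintype.ofFinite A
    rw [Nat.card_eq_fintype_card, Fintype.card_subtype]
    exact IsCyclic.card_pow_eq_one_le hp'.pos
  obtain ⟨x, hxp, hxA⟩ : ∃ x : R, x ^ p = 1 ∧ x ∉ A := by
    by_contra hcon
    push Not at hcon
    obtain ⟨B, hBc, hBnc⟩ := CyclicPGroup.exists_noncyclic_abelian hp R hR hnc
    refine hBnc (SubgroupCount.isCyclic_of_card_le hp' (hR.to_subgroup B) (fun u v => hBc.is_comm.comm u v) ?_)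
    refine le_trans (Nat.card_le_card_of_injective
      (fun y : {y : B // y ^ p = 1} => (⟨⟨(y.1 : R), hcon _ (by simpa using congrArg Subtype.val y.2)⟩,
        Subtype.ext (by simpa using congrArg Subtype.val y.2)⟩ : {z : A // z ^ p = 1})) ?_) hfew
    intro u v h
    exact Subtype.ext (Subtype.ext (congrArg (fun z : {z : A // z ^ p = 1} => (z.1 : R)) h))
  obtain ⟨m, hm⟩ := IsPGroup.iff_orderOf.1 hR a
  have hm0 : m ≠ 0 := by
    intro h
    rw [h, pow_zero, orderOf_eq_one_iff] at hm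
    have hA : A = ⊥ := by
      rw [eq_bot_iff]; intro y hy
      obtain ⟨i, rfl⟩ := hAa y hy
      rw [hm, one_zpow]; exact one_mem _
    subst hA
    exact hnc (isCyclic_of_surjective QuotientGroup.quotientBot.toMonoidHom QuotientGroup.quotientBot.surjective)
  obtain ⟨t, rfl⟩ : ∃ t, m = t + 1 := ⟨m - 1, by omega⟩
  have hz : ∀ i : ℤ, a ^ i = 1 ↔ (p : ℤ) ^ (t + 1) ∣ i := fun i => by
    rw [← orderOf_dvd_iff_zpow_eq_one, hm]; push_cast; rfl
  obtain ⟨r, hr⟩ := hAa _ (hAn.conj_mem a haA x)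
  have hk : ∀ k : ℕ, x ^ k * a * (x ^ k)⁻¹ = a ^ (r ^ k) := by
    intro k
    induction k with
    | zero => simp
    | succ k ih =>
      rw [pow_succ x, show x ^ k * x * a * (x ^ k * x)⁻¹ = x ^ k * (x * a * x⁻¹) * (x ^ k)⁻¹ by group,
        hr, ← conj_zpow, ih, ← zpow_mul, ← pow_succ]
  have hrp : (p : ℤ) ^ (t + 1) ∣ r ^ p - 1 := by
    have h := hk p
    rw [hxp, one_mul, inv_one, mul_one] at h
    rw [← hz, zpow_sub, zpow_one, mul_inv_eq_one]
    exact h.symm
  have hfer : (p : ℤ) ∣ r - 1 := by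
    have h1 : (p : ℤ) ∣ r ^ p - 1 := (dvd_pow_self _ (Nat.succ_ne_zero t)).trans hrp
    rw [← ZMod.intCast_zmod_eq_zero_iff_dvd] at h1 ⊢
    push_cast at h1 ⊢
    rwa [ZMod.pow_card] at h1
  obtain ⟨e, he⟩ := MetaOdd.geom_p hp hfer
  have hgs : r ^ p - 1 = (r - 1) * MetaOdd.geom r p := by
    rw [MetaOdd.geom, mul_geom_sum]
  rw [hgs, he] at hrp
  obtain ⟨k, hk'⟩ : (p : ℤ) ^ t ∣ r - 1 := by
    have hco : IsCoprime ((p : ℤ) ^ t) (1 + p * e) :=
      (show IsCoprime (p : ℤ) (1 + p * e) from ⟨-e, 1, by ring⟩).pow_left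
    refine hco.dvd_of_dvd_mul_right ?_
    rw [pow_succ', show (r - 1) * ((p : ℤ) * (1 + p * e)) = p * ((r - 1) * (1 + p * e)) by ring] at hrp
    exact (mul_dvd_mul_iff_left (by exact_mod_cast hp'.ne_zero)).1 hrp
  set w : R := a ^ ((p : ℤ) ^ t) with hw
  have hwp : w ^ p = 1 := by
    rw [hw, ← zpow_natCast, ← zpow_mul, hz, pow_succ]
  have hwx : x * w * x⁻¹ = w := by
    rw [hw, ← conj_zpow, hr, ← zpow_mul, ← mul_inv_eq_one, ← zpow_sub, hz,
      show r * (p : ℤ) ^ t - (p : ℤ) ^ t = (p : ℤ) ^ t * (r - 1) by ring, pow_succ]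
    exact mul_dvd_mul_left _ hfer
  have hwc : Commute w x := (mul_inv_eq_iff_eq_mul.1 hwx).symm
  have hwx' : ∀ i : ℤ, Commute (w ^ i) x := fun i => hwc.zpow_left i
  set V := Subgroup.closure ({w, x} : Set R) with hV
  have hwV : w ∈ V := Subgroup.subset_closure (Set.mem_insert _ _)
  have hxV : x ∈ V := Subgroup.subset_closure (Set.mem_insert_of_mem _ rfl)
  have hVc : IsMulCommutative V := Subgroup.isMulCommutative_closure (by
    rintro u (rfl | rfl) v (rfl | rfl)
    · rfl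
    · exact hwc.eq
    · exact hwc.eq.symm
    · rfl)
  have hVp : ∀ y ∈ V, y ^ p = 1 := by
    intro y hy
    induction hy using Subgroup.closure_induction with
    | mem z hz =>
      rcases hz with rfl | rfl
      · exact hwp
      · exact hxp
    | one => exact one_pow p
    | mul u v hu hv ihu ihv =>
      rw [Commute.mul_pow (show Commute u v from congrArg Subtype.val (hVc.is_comm.comm ⟨u, hu⟩ ⟨v, hv⟩)),
        ihu, ihv, one_mul]
    | inv u _ ih => rw [inv_pow, ih, inv_one]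
  set L := Subgroup.zpowers x with hL
  have hwA : w ∈ A := zpow_mem haA _
  -- every element of order `p` lies in `A⟨x⟩`, since `R/A` is cyclic
  have hsol : ∀ y : R, y ^ p = 1 → y ∈ V := by
    intro y hy
    have hord : ∀ z : R, z ^ p = 1 → (QuotientGroup.mk' A z) ^ p = 1 := fun z hz => by
      rw [← map_pow, hz, map_one]
    have hxq : QuotientGroup.mk' A x ≠ 1 := fun h => hxA ((QuotientGroup.eq_one_iff x).1 h)
    have hyq : QuotientGroup.mk' A y ∈ Subgroup.zpowers (QuotientGroup.mk' A x) := by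
      haveI := Fintype.ofFinite (R ⧸ A)
      have hsub : (Finset.univ.filter fun z : R ⧸ A => z ∈ Subgroup.zpowers (QuotientGroup.mk' A x)) ⊆
          Finset.univ.filter fun z : R ⧸ A => z ^ p = 1 := by
        intro z hz
        obtain ⟨i, rfl⟩ := Subgroup.mem_zpowers_iff.1 (Finset.mem_filter.1 hz).2
        refine Finset.mem_filter.2 ⟨Finset.mem_univ _, ?_⟩
        rw [← zpow_natCast, ← zpow_mul, mul_comm, zpow_mul, zpow_natCast, hord x hxp, one_zpow]
      have hcard : (Finset.univ.filter fun z : R ⧸ A => z ∈ Subgroup.zpowers (QuotientGroup.mk' A x)).card = p := by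
        rw [← orderOf_eq_prime (hord x hxp) hxq, ← Nat.card_zpowers, Nat.card_eq_fintype_card, Fintype.card_subtype]
      have heq := Finset.eq_of_subset_of_card_le hsub (le_of_le_of_eq (IsCyclic.card_pow_eq_one_le hp'.pos) hcard.symm)
      have := heq.ge (Finset.mem_filter.2 ⟨Finset.mem_univ _, hord y hy⟩)
      exact (Finset.mem_filter.1 this).2
    obtain ⟨j, hj⟩ := Subgroup.mem_zpowers_iff.1 hyq
    obtain ⟨i, hi⟩ := hAa (y * x ^ (-j)) (by
      rw [← QuotientGroup.eq_one_iff]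
      change QuotientGroup.mk' A (y * x ^ (-j)) = 1
      rw [map_mul, map_zpow, ← hj, zpow_neg, mul_inv_cancel])
    have hy' : y = a ^ i * x ^ j := by rw [← hi]; group
    have hax : ∀ l : ℤ, ∃ q : ℤ, x ^ l * a ^ i = a ^ i * x ^ l * w ^ q := by
      intro l
      obtain ⟨n, hn⟩ : ∃ n : ℕ, x ^ l = x ^ n := by
        obtain ⟨n, hn⟩ := (mem_powers_iff_mem_zpowers).2 (Subgroup.zpow_mem _ (Subgroup.mem_zpowers x) l)
        exact ⟨n, hn.symm⟩
      rw [hn]
      have hdvd : ∀ n : ℕ, (p : ℤ) ^ t ∣ r ^ n - 1 := fun n =>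
        (Dvd.intro k hk'.symm).trans (sub_one_dvd_pow_sub_one r n)
      obtain ⟨q, hq⟩ := hdvd n
      refine ⟨q * i, ?_⟩
      have h1 : x ^ n * a ^ i * (x ^ n)⁻¹ = a ^ i * w ^ (q * i) := by
        rw [← conj_zpow, hk, ← zpow_mul, hw, ← zpow_mul, ← zpow_add]
        congr 1
        linear_combination i * hq
      calc x ^ n * a ^ i = x ^ n * a ^ i * (x ^ n)⁻¹ * x ^ n := by group
        _ = a ^ i * w ^ (q * i) * x ^ n := by rw [h1]
        _ = a ^ i * x ^ n * w ^ (q * i) := by rw [mul_assoc, ((hwx' _).pow_right n).eq, ← mul_assoc]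
    obtain ⟨q, hq⟩ := hax j
    have hpow := LEOmega.mul_pow_class_two hq
      (show Commute (w ^ q) (a ^ i) from ((Commute.refl a).zpow_zpow _ _).zpow_left q)
      ((hwx' q).zpow_right j) p
    obtain ⟨d, hd⟩ : p ∣ p.choose 2 :=
      hp'.dvd_choose_self (by norm_num) (lt_of_le_of_ne hp'.two_le (Ne.symm hp))
    have hwq : (w ^ q) ^ p.choose 2 = 1 := by
      rw [hd, pow_mul, hVp _ (zpow_mem hwV q), one_pow]
    have hxj : (x ^ j) ^ p = 1 := by
      exact hVp _ (zpow_mem hxV j)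
    rw [← hy', hy, hwq, hxj, mul_one, mul_one, ← zpow_natCast, ← zpow_mul] at hpow
    have hdiv : (p : ℤ) ^ t ∣ i := by
      have h := (hz _).1 hpow.symm
      rw [pow_succ] at h
      exact (mul_dvd_mul_iff_right (by exact_mod_cast hp'.ne_zero)).1 h
    obtain ⟨i', rfl⟩ := hdiv
    rw [hy', zpow_mul]
    exact mul_mem (zpow_mem hwV i') (zpow_mem hxV j)
  have homega : Cfsg.omegaOne p (⊤ : Subgroup R) = V := by
    refine le_antisymm ?_ fun y hy => (show y ∈ Subgroup.closure {z : R | z ∈ (⊤ : Subgroup R) ∧ z ^ p = 1} from Subgroup.subset_closure ⟨Subgroup.mem_top y, hVp y hy⟩)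
    rw [Cfsg.omegaOne, Subgroup.closure_le]
    exact fun y hy => hsol y hy.2
  rw [homega]
  refine ⟨⟨hVc, hVp⟩, ?_⟩
  have hw1 : w ≠ 1 := fun h => by
    rw [hw, hz, pow_succ] at h
    have h2 := Int.le_of_dvd (pow_pos (by exact_mod_cast hp'.pos) t) h
    have h3 : (p : ℤ) ^ t * 1 < (p : ℤ) ^ t * p :=
      mul_lt_mul_of_pos_left (by exact_mod_cast hp'.one_lt) (pow_pos (by exact_mod_cast hp'.pos) t)
    linarith
  have hsup : V = Subgroup.zpowers w ⊔ L := by
    rw [hV, hL, Subgroup.zpowers_eq_closure, Subgroup.zpowers_eq_closure, ← Subgroup.closure_union, Set.singleton_union]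
  have hdisj : Subgroup.zpowers w ⊓ L = ⊥ := by
    refine Subgroup.card_eq_one.1 ?_
    have hd1 := Subgroup.card_dvd_of_le (inf_le_right : Subgroup.zpowers w ⊓ L ≤ L)
    rw [hL, Nat.card_zpowers, orderOf_eq_prime hxp fun h => hxA (h ▸ one_mem _), ← hL] at hd1
    rcases (Nat.dvd_prime hp').1 hd1 with h | h
    · exact h
    · exfalso
      have hLeq : Subgroup.zpowers w ⊓ L = L := Subgroup.eq_of_le_of_card_ge inf_le_right (by
        rw [h, hL, Nat.card_zpowers, orderOf_eq_prime hxp fun h => hxA (h ▸ one_mem _)])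
      exact hxA ((Subgroup.zpowers_le.2 hwA) ((hLeq.ge (Subgroup.mem_zpowers x)).1))
  let f : Subgroup.zpowers w × L → V := fun z => ⟨(z.1 : R) * z.2,
    hsup.ge (mul_mem (Subgroup.mem_sup_left z.1.2) (Subgroup.mem_sup_right z.2.2))⟩
  have hf : Function.Bijective f := by
    constructor
    · intro z z' h
      exact Subgroup.mul_injective_of_disjoint (disjoint_iff.2 hdisj) (congrArg Subtype.val h)
    · rintro ⟨y, hy⟩
      rw [hsup, ← SetLike.mem_coe, Subgroup.coe_mul_of_left_le_normalizer_right _ _ ?_] at hy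
      · obtain ⟨u, hu, v, hv, huv⟩ := Set.mem_mul.1 hy
        exact ⟨(⟨u, hu⟩, ⟨v, hv⟩), Subtype.ext huv⟩
      · refine le_trans ?_ (Subgroup.centralizer_le_normalizer _)
        rw [Subgroup.zpowers_le]
        intro v hv
        obtain ⟨l, rfl⟩ := Subgroup.mem_zpowers_iff.1 hv
        exact (hwc.zpow_right l).eq.symm
  rw [← Nat.card_congr (Equiv.ofBijective f hf), Nat.card_prod, Nat.card_zpowers, hL, Nat.card_zpowers,
    orderOf_eq_prime hwp hw1, orderOf_eq_prime hxp fun h => hxA (h ▸ one_mem _), pow_two]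


end Cfsg.Agent.S0638
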