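import Cfsg.Statements.S0642
import Cfsg.Agent.Lib.Transfer.Hall
import Cfsg.Agent.Lib.Transfer.Fusion

set_option autoImplicit false
set_option linter.style.haveILetI false
open Cfsg

namespace Cfsg.Agent.S0642
open scoped Pointwise commutatorElement
open Cfsg.Agent
open Cfsg.Agent
open scoped commutatorElement

/-- Among finite 2-groups the regular ones are exactly the abelian ones. -/
theorem result {G : Type*} [Group G] [Finite G] (hG : IsPGroup 2 G) : Cfsg.IsRegularPGroup 2 G ↔ ∀ a b : G, a * b = b * a := by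
  constructor
  · rintro ⟨-, hreg⟩ a b
    set H := Subgroup.closure ({a, b} : Set G) with hH
    set D := ⁅H, H⁆ with hD
    set W := Cfsg.powerClosure 2 1 D with hW
    have hDH : D ≤ H := by
      rw [hD, Subgroup.commutator_le]
      intro x hx y hy
      exact H.mul_mem (H.mul_mem (H.mul_mem hx hy) (H.inv_mem hx)) (H.inv_mem hy)
    have hWD : W ≤ D := by
      rw [hW, Cfsg.powerClosure, Subgroup.closure_le]
      rintro _ ⟨x, hx, rfl⟩
      exact D.pow_mem hx _
    suffices hbot : D = ⊥ by
      rw [← commutatorElement_eq_one_iff_mul_comm, ← Subgroup.mem_bot, ← hbot]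
      exact Subgroup.commutator_mem_commutator (Subgroup.subset_closure (Set.mem_insert a _))
        (Subgroup.subset_closure (Set.mem_insert_of_mem a rfl))
    by_contra hne
    have hDn : ∀ h ∈ H, ∀ d ∈ D, h * d * h⁻¹ ∈ D := by
      intro h hh d hd
      have := D.mul_mem (Subgroup.commutator_mem_commutator hh (hDH hd)) hd
      simpa [commutatorElement_def, mul_assoc] using this
    have hWn : ∀ h ∈ H, ∀ w ∈ W, h * w * h⁻¹ ∈ W := by
      intro h hh w hw
      induction hw using Subgroup.closure_induction with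
      | mem y hy =>
        obtain ⟨x, hx, rfl⟩ := hy
        exact Subgroup.subset_closure ⟨h * x * h⁻¹, hDn h hh x hx, by rw [conj_pow]⟩
      | one => simp
      | mul u v _ _ hu hv =>
        have := W.mul_mem hu hv
        simpa [mul_assoc] using this
      | inv u _ hu =>
        have := W.inv_mem hu
        simpa [mul_assoc] using this
    obtain ⟨c, hc, he⟩ := hreg a b 1
    rw [pow_one] at he
    have hcomm : ⁅b⁻¹, a⁆ ∈ W ∨ ⁅b, a⁆ ∈ W := by
      have h1 : c = b⁻¹ * ⁅b⁻¹, a⁆ * b ∨ True := Or.inr trivial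
      have h2 : a * b * (a * b) = a * a * (b * b) * c := by
        rw [← pow_two, ← pow_two, ← pow_two]; exact he
      have h3 : c = b⁻¹ * ((b⁻¹ * (a⁻¹ * b * a)) * b) := by
        have h4 : c = (a * a * (b * b))⁻¹ * (a * b * (a * b)) := by rw [h2]; group
        rw [h4]; group
      have h5 : b * c * b⁻¹ = ⁅b⁻¹, a⁻¹⁆ := by rw [h3, commutatorElement_def]; group
      have h6 : ⁅b⁻¹, a⁻¹⁆ ∈ W :=
        h5 ▸ hWn b (Subgroup.subset_closure (Set.mem_insert_of_mem a rfl)) c hc
      right
      have h7 : ⁅b, a⁆ = (b * a) * ⁅b⁻¹, a⁻¹⁆ * (b * a)⁻¹ := by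
        rw [commutatorElement_def, commutatorElement_def]; group
      rw [h7]
      exact hWn _ (H.mul_mem (Subgroup.subset_closure (Set.mem_insert_of_mem a rfl))
        (Subgroup.subset_closure (Set.mem_insert a _))) _ h6
    have hba : ⁅b, a⁆ ∈ W ∧ ⁅a, b⁆ ∈ W := by
      rcases hcomm with h | h
      · have haH : a ∈ H := Subgroup.subset_closure (Set.mem_insert a _)
        have hbH : b ∈ H := Subgroup.subset_closure (Set.mem_insert_of_mem a rfl)
        have h7 : ⁅a, b⁆ = b * ⁅b⁻¹, a⁆ * b⁻¹ := by
          rw [commutatorElement_def, commutatorElement_def]; group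
        have h8 : ⁅a, b⁆ ∈ W := h7 ▸ hWn b hbH _ h
        exact ⟨by rw [← commutatorElement_inv]; exact W.inv_mem h8, h8⟩
      · exact ⟨h, by rw [← commutatorElement_inv]; exact W.inv_mem h⟩
    -- the derived subgroup of `H` lies in `W`
    have hDW : D ≤ W := by
      haveI : (W.subgroupOf H).Normal := ⟨fun w hw h => hWn h h.2 w hw⟩
      set q := QuotientGroup.mk' (W.subgroupOf H) with hq
      have ha : a ∈ H := Subgroup.subset_closure (Set.mem_insert a _)
      have hb : b ∈ H := Subgroup.subset_closure (Set.mem_insert_of_mem a rfl)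
      have hab : q ⟨a, ha⟩ * q ⟨b, hb⟩ = q ⟨b, hb⟩ * q ⟨a, ha⟩ := by
        rw [← commutatorElement_eq_one_iff_mul_comm, ← map_commutatorElement, hq,
          QuotientGroup.mk'_apply, QuotientGroup.eq_one_iff]
        exact hba.2
      have hall : ∀ x : H, ∀ y : H, q x * q y = q y * q x := by
        have hgen : Subgroup.closure ({⟨a, ha⟩, ⟨b, hb⟩} : Set H) = ⊤ := by
          rw [← Subgroup.map_subtype_inj, MonoidHom.map_closure, Set.image_pair,
            ← MonoidHom.range_eq_map, Subgroup.range_subtype]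
          rfl
        have h9 : IsMulCommutative (Subgroup.closure ({q ⟨a, ha⟩, q ⟨b, hb⟩} : Set (H ⧸ W.subgroupOf H))) := by
          refine Subgroup.isMulCommutative_closure ?_
          rintro x (rfl | rfl) y (rfl | rfl)
          · rfl
          · exact hab
          · exact hab.symm
          · rfl
        intro x y
        have hx : q x ∈ Subgroup.closure ({q ⟨a, ha⟩, q ⟨b, hb⟩} : Set (H ⧸ W.subgroupOf H)) := by
          rw [← Set.image_pair, ← MonoidHom.map_closure, hgen]
          exact Subgroup.mem_map_of_mem _ (Subgroup.mem_top _)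
        have hy : q y ∈ Subgroup.closure ({q ⟨a, ha⟩, q ⟨b, hb⟩} : Set (H ⧸ W.subgroupOf H)) := by
          rw [← Set.image_pair, ← MonoidHom.map_closure, hgen]
          exact Subgroup.mem_map_of_mem _ (Subgroup.mem_top _)
        exact congrArg Subtype.val (h9.is_comm.comm ⟨_, hx⟩ ⟨_, hy⟩)
      rw [hD, Subgroup.commutator_le]
      intro x hx y hy
      have := hall ⟨x, hx⟩ ⟨y, hy⟩
      rw [← commutatorElement_eq_one_iff_mul_comm, ← map_commutatorElement, hq,
        QuotientGroup.mk'_apply, QuotientGroup.eq_one_iff] at this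
      exact this
    -- but a maximal subgroup of `D` contains all squares
    haveI := (hG.to_subgroup D).isNilpotent
    haveI : Nontrivial D := (Subgroup.nontrivial_iff_ne_bot D).2 hne
    obtain ⟨M, hM, -⟩ : ∃ M : Subgroup D, IsCoatom M ∧ ⊥ ≤ M :=
      (eq_top_or_exists_le_coatom (⊥ : Subgroup D)).resolve_left bot_ne_top
    haveI : M.Normal := TransferHall.normal_of_isCoatom hM
    have hsq : ∀ x : D, x ^ 2 ∈ M := by
      intro x
      by_contra hx
      set z : D ⧸ M := QuotientGroup.mk x with hz
      have htop : ∀ u : D ⧸ M, u ∈ Subgroup.zpowers (z ^ 2) := by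
        intro u
        have h1 : (Subgroup.zpowers (z ^ 2)).comap (QuotientGroup.mk' M) = ⊤ := by
          refine hM.2 _ (lt_of_le_of_ne ?_ ?_)
          · intro m hm
            rw [Subgroup.mem_comap, QuotientGroup.mk'_apply, (QuotientGroup.eq_one_iff m).2 hm]
            exact Subgroup.one_mem _
          · intro h
            apply hx
            rw [h, Subgroup.mem_comap, QuotientGroup.mk'_apply, QuotientGroup.mk_pow]
            exact Subgroup.mem_zpowers _
        obtain ⟨v, rfl⟩ := QuotientGroup.mk'_surjective M u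
        have h2 : v ∈ (Subgroup.zpowers (z ^ 2)).comap (QuotientGroup.mk' M) := by
          rw [h1]; exact Subgroup.mem_top v
        exact h2
      obtain ⟨j, hj⟩ := Subgroup.mem_zpowers_iff.1 (htop z)
      have hodd : z ^ (2 * j - 1) = 1 := by
        rw [zpow_sub_one, zpow_mul, zpow_two, ← pow_two, hj, mul_inv_cancel]
      obtain ⟨e, he2⟩ := ((hG.to_subgroup D).to_quotient M) z
      obtain ⟨d, -, hd⟩ := (Nat.dvd_prime_pow Nat.prime_two).1 (orderOf_dvd_of_pow_eq_one he2)
      have h3 := orderOf_dvd_iff_zpow_eq_one.2 hodd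
      rcases Nat.eq_zero_or_pos d with rfl | hd0
      · rw [pow_zero, orderOf_eq_one_iff] at hd
        apply hx
        rw [← QuotientGroup.eq_one_iff (N := M), QuotientGroup.mk_pow, ← hz, hd, one_pow]
      · rw [hd] at h3
        have h4 : (2 : ℤ) ∣ 2 * j - 1 :=
          (Dvd.dvd.trans (by exact_mod_cast dvd_pow_self 2 hd0.ne') h3)
        omega
    refine hM.1 (eq_top_iff.2 fun x _ => ?_)
    have hxW : (x : G) ∈ W := hDW x.2
    have hWM : W ≤ M.map D.subtype := by
      rw [hW, Cfsg.powerClosure, Subgroup.closure_le]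
      rintro _ ⟨y, hy, rfl⟩
      exact ⟨⟨y, hy⟩ ^ 2, hsq _, by simp⟩
    obtain ⟨m, hm, hmx⟩ := hWM hxW
    rwa [← Subtype.ext hmx]
  · intro hc
    refine ⟨hG, fun a b n => ⟨1, Subgroup.one_mem _, ?_⟩⟩
    rw [mul_one, Commute.mul_pow (hc a b)]


end Cfsg.Agent.S0642
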