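import Cfsg.Statements.S0647
import Cfsg.Agent.Lib.PLocal.OmegaOne

set_option autoImplicit false
set_option linter.style.haveILetI false
open Cfsg

namespace Cfsg.Agent.S0647
open scoped Pointwise commutatorElement
open Cfsg.Agent

/-- For a nonempty family of maximal abelian subgroups of a finite group, the intersection of the family is the centre of the subgroup it generates, which is also the full centralizer of that subgroup. -/
theorem result {S : Type*} [Group S] [Finite S] (𝒜 : Set (Subgroup S)) (hne : 𝒜.Nonempty) (hab : ∀ A ∈ 𝒜, IsMulCommutative A) (hmax : ∀ A ∈ 𝒜, ∀ B : Subgroup S, IsMulCommutative B → A ≤ B → B = A) : sInf 𝒜 = sSup 𝒜 ⊓ Subgroup.centralizer ((sSup 𝒜 : Subgroup S) : Set S) ∧ sInf 𝒜 = Subgroup.centralizer ((sSup 𝒜 : Subgroup S) : Set S) := by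
  set J := sSup 𝒜 with hJ
  have hcomm : ∀ A ∈ 𝒜, A ≤ Subgroup.centralizer ((sInf 𝒜 : Subgroup S) : Set S) := by
    intro A hA a ha x hx
    haveI := hab A hA
    exact congrArg Subtype.val (mul_comm' (⟨x, Subgroup.mem_sInf.1 hx A hA⟩ : A) ⟨a, ha⟩)
  have h1 : sInf 𝒜 ≤ Subgroup.centralizer (J : Set S) :=
    Subgroup.le_centralizer_iff.1 (sSup_le hcomm)
  have h2 : Subgroup.centralizer (J : Set S) ≤ sInf 𝒜 := by
    refine le_sInf fun A hA x hx => ?_
    haveI := hab A hA
    have hB : IsMulCommutative (Subgroup.closure ((A : Set S) ∪ {x})) := by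
      refine Subgroup.isMulCommutative_closure ?_
      rintro a (ha | ha) b (hb | hb)
      · exact congrArg Subtype.val (mul_comm' (⟨a, ha⟩ : A) ⟨b, hb⟩)
      · rw [Set.mem_singleton_iff.1 hb]
        exact hx a (le_sSup hA ha)
      · rw [Set.mem_singleton_iff.1 ha]
        exact (hx b (le_sSup hA hb)).symm
      · rw [Set.mem_singleton_iff.1 ha, Set.mem_singleton_iff.1 hb]
    have hle : A ≤ Subgroup.closure ((A : Set S) ∪ {x}) := fun a ha =>
      Subgroup.subset_closure (Or.inl ha)
    rw [← hmax A hA _ hB hle]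
    exact Subgroup.subset_closure (Or.inr rfl)
  obtain ⟨A₀, hA₀⟩ := hne
  exact ⟨le_antisymm (le_inf ((sInf_le hA₀).trans (le_sSup hA₀)) h1) (inf_le_right.trans h2),
    le_antisymm h1 h2⟩


end Cfsg.Agent.S0647
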