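import Cfsg.Statements.S0648
import Mathlib

set_option autoImplicit false
set_option linter.style.haveILetI false
open Cfsg

namespace Cfsg.Agent.S0648
open scoped Pointwise commutatorElement
open Cfsg.Agent

/-- If A acts on B centralizing [B, B], then [B, A] has derived subgroup central in B, and for abelian A and b ∈ B with [[b, A], A, A] = 1 the derived subgroup of the subgroup [b, A] generated by the commutators of b with A has exponent dividing 2. -/
theorem result {G : Type*} [Group G] [Finite G] (A B : Subgroup G) (hAB : A ≤ Subgroup.normalizer (B : Set G)) (hc : ⁅⁅B, B⁆, A⁆ = ⊥) : ⁅⁅B, A⁆, ⁅B, A⁆⁆ ≤ B ⊓ Subgroup.centralizer (B : Set G) ∧ (IsMulCommutative A → ∀ b ∈ B, ⁅⁅(Subgroup.closure {g : G | ∃ a ∈ A, g = b⁻¹ * a * b * a⁻¹}), A⁆, A⁆ = ⊥ → ∀ w ∈ ⁅(Subgroup.closure {g : G | ∃ a ∈ A, g = b⁻¹ * a * b * a⁻¹}), (Subgroup.closure {g : G | ∃ a ∈ A, g = b⁻¹ * a * b * a⁻¹})⁆, w ^ 2 = 1) := by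
  have hconj : ∀ a ∈ A, ∀ b ∈ B, a * b * a⁻¹ ∈ B := fun a ha b hb =>
    (Subgroup.mem_normalizer_iff.1 (hAB ha) b).1 hb
  have hfix : ∀ a ∈ A, ∀ x ∈ ⁅B, B⁆, a * x = x * a := fun a ha x hx => by
    rw [Subgroup.commutator_eq_bot_iff_le_centralizer] at hc
    exact hc hx a ha
  set X := ⁅B, A⁆ with hX
  have hXB : X ≤ B := Subgroup.le_normalizer_iff_commutator_le_left.1 hAB
  have hBB : ∀ {x y : G}, x ∈ B → y ∈ B → ⁅x, y⁆ ∈ ⁅B, B⁆ := fun hx hy =>
    Subgroup.commutator_mem_commutator hx hy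
  have hXC : X ≤ Subgroup.centralizer ((⁅B, B⁆ : Subgroup G) : Set G) := by
    rw [hX, Subgroup.commutator_le]
    intro b hb a ha x hx
    have hbx : b⁻¹ * x * b ∈ ⁅B, B⁆ := by
      have hn : B ≤ Subgroup.normalizer ((⁅B, B⁆ : Subgroup G) : Set G) :=
        Subgroup.normalizer_commutator_ge_right B B
      simpa using (Subgroup.mem_normalizer_iff.1 (hn (inv_mem hb)) x).1 hx
    have h1 := hfix a ha _ hx
    have h2 : a * (b⁻¹ * x * b) = b⁻¹ * x * b * a := hfix a ha _ hbx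
    rw [commutatorElement_def]
    have h3 : a⁻¹ * x = x * a⁻¹ := ((show Commute a x from h1).inv_left).eq
    calc x * (b * a * b⁻¹ * a⁻¹) = b * ((b⁻¹ * x * b) * a) * b⁻¹ * a⁻¹ := by group
      _ = b * (a * (b⁻¹ * x * b)) * b⁻¹ * a⁻¹ := by rw [h2]
      _ = b * a * b⁻¹ * (x * a⁻¹) := by group
      _ = b * a * b⁻¹ * (a⁻¹ * x) := by rw [h3]
      _ = b * a * b⁻¹ * a⁻¹ * x := by group
  refine ⟨le_inf ((Subgroup.commutator_mono hXB le_rfl).trans
      (Subgroup.le_normalizer_iff_commutator_le_left.1 (hXB.trans Subgroup.le_normalizer))) ?_, ?_⟩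
  · rw [← Subgroup.commutator_eq_bot_iff_le_centralizer]
    have h1 : ∀ Y : Subgroup G, Y ≤ ⁅B, B⁆ → ⁅Y, X⁆ = ⊥ := fun Y hY => by
      rw [Subgroup.commutator_comm, Subgroup.commutator_eq_bot_iff_le_centralizer]
      exact hXC.trans (Subgroup.centralizer_le (SetLike.coe_subset_coe.2 hY))
    exact Subgroup.commutator_commutator_eq_bot_of_rotate (h1 _ (Subgroup.commutator_mono hXB le_rfl))
      (h1 _ (Subgroup.commutator_mono le_rfl hXB))
  intro hA b hb hcub w hw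
  set D := Subgroup.closure {g : G | ∃ a ∈ A, g = b⁻¹ * a * b * a⁻¹} with hD
  let φ : G → G := fun a => b⁻¹ * a * b * a⁻¹
  let ψ : G → G → G := fun a c => (φ a)⁻¹ * (c * φ a * c⁻¹)
  have hφD : ∀ a ∈ A, φ a ∈ D := fun a ha => Subgroup.subset_closure ⟨a, ha, rfl⟩
  have hφX : ∀ a ∈ A, φ a ∈ X := fun a ha => by
    rw [show φ a = ⁅b⁻¹, a⁆ by simp [φ, commutatorElement_def]]
    exact Subgroup.commutator_mem_commutator (inv_mem hb) ha
  have hφB : ∀ a ∈ A, φ a ∈ B := fun a ha => hXB (hφX a ha)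
  have hψfix : ∀ a ∈ A, ∀ c ∈ A, ∀ e ∈ A, e * ψ a c = ψ a c * e := by
    intro a ha c hc' e he
    rw [Subgroup.commutator_eq_bot_iff_le_centralizer] at hcub
    refine hcub ?_ e he
    rw [show ψ a c = ⁅(φ a)⁻¹, c⁆ by simp [ψ, commutatorElement_def, mul_assoc]]
    exact Subgroup.commutator_mem_commutator (inv_mem (hφD a ha)) hc'
  have hψB : ∀ a ∈ A, ∀ c ∈ A, ψ a c ∈ B := fun a ha c hc' =>
    mul_mem (inv_mem (hφB a ha)) (hconj c hc' _ (hφB a ha))
  have hz : ∀ z ∈ B, (∀ e ∈ A, e * z = z * e) → ∀ a ∈ A, z * φ a = φ a * z := by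
    intro z hzB hze a ha
    set h := ⁅z, b⁆ with hh
    have e1 : z * b * z⁻¹ = h * b := by rw [hh, commutatorElement_def]; group
    have e2 := hfix a ha h (hBB hzB hb)
    have e3 : z * (a * b * a⁻¹) * z⁻¹ = h * (a * b * a⁻¹) := by
      calc z * (a * b * a⁻¹) * z⁻¹ = (z * a) * b * (z * a)⁻¹ := by group
        _ = (a * z) * b * (a * z)⁻¹ := by rw [hze a ha]
        _ = a * (z * b * z⁻¹) * a⁻¹ := by group
        _ = (a * h) * b * a⁻¹ := by rw [e1]; group
        _ = h * (a * b * a⁻¹) := by rw [e2]; group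
    have e4 : z * φ a * z⁻¹ = φ a := by
      calc z * φ a * z⁻¹ = (z * b * z⁻¹)⁻¹ * (z * (a * b * a⁻¹) * z⁻¹) := by simp only [φ]; group
        _ = (h * b)⁻¹ * (h * (a * b * a⁻¹)) := by rw [e1, e3]
        _ = φ a := by simp only [φ]; group
    exact mul_inv_eq_iff_eq_mul.1 e4
  have hXD : D ≤ X := by
    rw [hD, Subgroup.closure_le]; rintro _ ⟨a, ha, rfl⟩; exact hφX a ha
  have hcen : ∀ x ∈ X, ∀ y ∈ X, ∀ u ∈ B, u * ⁅x, y⁆ = ⁅x, y⁆ * u := by
    have h1 : ∀ Y : Subgroup G, Y ≤ ⁅B, B⁆ → ⁅Y, X⁆ = ⊥ := fun Y hY => by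
      rw [Subgroup.commutator_comm, Subgroup.commutator_eq_bot_iff_le_centralizer]
      exact hXC.trans (Subgroup.centralizer_le (SetLike.coe_subset_coe.2 hY))
    have h2 := Subgroup.commutator_commutator_eq_bot_of_rotate
      (h1 _ (Subgroup.commutator_mono hXB le_rfl)) (h1 _ (Subgroup.commutator_mono le_rfl hXB))
    rw [Subgroup.commutator_eq_bot_iff_le_centralizer] at h2
    exact fun x hx y hy u hu => h2 (Subgroup.commutator_mem_commutator hx hy) u hu
  have hstep : ∀ a ∈ A, ∀ c ∈ A, ⁅ψ a c, b⁆ * ⁅φ a, φ c⁆ = 1 := by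
    intro a ha c hc'
    have hzy := hz _ (hψB a ha c hc') (hψfix a ha c hc') c hc'
    set x := φ a with hx
    set y := φ c with hy
    set z := ψ a c with hz'
    set f := ⁅x, y⁆ with hf
    set h := ⁅z, b⁆ with hh
    set k := ⁅x, b⁆ with hk
    have hk' : c * k * c⁻¹ = k := by rw [hfix c hc' k (hBB (hφB a ha) hb), mul_inv_cancel_right]
    have hxh : h * x = x * h := hXC (hφX a ha) h (hBB (hψB a ha c hc') hb)
    have hfb : b * f = f * b := hcen x (hφX a ha) y (hφX c hc') b hb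
    have hcx : c * x * c⁻¹ = x * z := by simp only [hz', ψ, hx]; group
    have hcb : c * b * c⁻¹ = b * y := by simp only [hy, φ]; group
    have key : k = h * k * f := by
      calc k = c * k * c⁻¹ := hk'.symm
        _ = (c * x * c⁻¹) * (c * b * c⁻¹) * (c * x * c⁻¹)⁻¹ * (c * b * c⁻¹)⁻¹ := by
            rw [hk, commutatorElement_def]; group
        _ = x * z * b * (y * z⁻¹) * x⁻¹ * y⁻¹ * b⁻¹ := by rw [hcx, hcb]; group
        _ = x * z * b * (z⁻¹ * y) * x⁻¹ * y⁻¹ * b⁻¹ := by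
            rw [((show Commute z y from hzy).inv_left).symm.eq]
        _ = (x * h) * b * x⁻¹ * f * b⁻¹ := by rw [hh, hf, commutatorElement_def, commutatorElement_def]; group
        _ = (h * x) * b * x⁻¹ * (b⁻¹ * (b * f) * b⁻¹) := by rw [hxh]; group
        _ = (h * x) * b * x⁻¹ * (b⁻¹ * (f * b) * b⁻¹) := by rw [hfb]
        _ = h * k * f := by rw [hk, commutatorElement_def]; group
    have hkf : k * f = f * k := hcen x (hφX a ha) y (hφX c hc') k
      ((Subgroup.le_normalizer_iff_commutator_le_left.1 Subgroup.le_normalizer) (hBB (hφB a ha) hb))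
    have h3 : k = h * f * k := by rw [mul_assoc, ← hkf, ← mul_assoc]; exact key
    exact mul_right_cancel (b := k) (by rw [one_mul]; exact h3.symm)
  have hkey : ∀ a ∈ A, ∀ c ∈ A, ⁅φ a, φ c⁆ * ⁅φ a, φ c⁆ = 1 := by
    intro a ha c hc'
    have hac : a * c = c * a := congrArg Subtype.val (hA.is_comm.comm ⟨a, ha⟩ ⟨c, hc'⟩)
    have hz1 := hz _ (hψB a ha c hc') (hψfix a ha c hc')
    set x := φ a with hx
    set y := φ c with hy
    set f := ⁅x, y⁆ with hf
    have e1 : y * (x * ψ a c) = x * (y * ψ c a) := by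
      have : φ (c * a) = φ (a * c) := by rw [hac]
      calc y * (x * ψ a c) = φ (c * a) := by simp only [hx, hy, φ, ψ]; group
        _ = φ (a * c) := this
        _ = x * (y * ψ c a) := by simp only [hx, hy, φ, ψ]; group
    have e2 : ψ a c = f * ψ c a := by
      have hfy := hcen x (hφX a ha) y (hφX c hc') (y * x) (mul_mem (hφB c hc') (hφB a ha))
      apply mul_left_cancel (a := y * x)
      rw [← mul_assoc (y * x) f, hfy, mul_assoc, e1, commutatorElement_def]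
      group
    have hfb : b * f = f * b := hcen x (hφX a ha) y (hφX c hc') b hb
    have e3 : ⁅ψ a c, b⁆ = ⁅ψ c a, b⁆ := by
      rw [e2, commutatorElement_def, commutatorElement_def]
      have hfz := hcen x (hφX a ha) y (hφX c hc') (ψ c a * b * (ψ c a)⁻¹) (by
        exact mul_mem (mul_mem (hψB c hc' a ha) hb) (inv_mem (hψB c hc' a ha)))
      change ψ c a * b * (ψ c a)⁻¹ * f = f * (ψ c a * b * (ψ c a)⁻¹) at hfz
      calc f * ψ c a * b * (f * ψ c a)⁻¹ * b⁻¹
          = f * (ψ c a * b * (ψ c a)⁻¹) * f⁻¹ * b⁻¹ := by group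
        _ = ψ c a * b * (ψ c a)⁻¹ * b⁻¹ := by rw [← hfz]; group
    have h1 := hstep a ha c hc'
    have h2 := hstep c hc' a ha
    rw [← e3, ← commutatorElement_inv x y] at h2
    change ⁅ψ a c, b⁆ * f = 1 at h1
    change ⁅ψ a c, b⁆ * f⁻¹ = 1 at h2
    have h4 : f = f⁻¹ := mul_left_cancel (h1.trans h2.symm)
    rw [← eq_inv_iff_mul_eq_one]
    exact h4
  let K : Subgroup G :=
    { carrier := {x | (∀ u ∈ D, u * x = x * u) ∧ x ^ 2 = 1 ∧ x ∈ D}
      one_mem' := ⟨fun u _ => by simp, one_pow 2, one_mem _⟩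
      mul_mem' := fun {x y} hx hy => ⟨fun u hu => by rw [← mul_assoc, hx.1 u hu, mul_assoc, hy.1 u hu, mul_assoc],
        by rw [Commute.mul_pow (hy.1 x hx.2.2), hx.2.1, hy.2.1, one_mul], mul_mem hx.2.2 hy.2.2⟩
      inv_mem' := fun {x} hx => ⟨fun u hu => ((show Commute u x from hx.1 u hu).inv_right).eq,
        by rw [inv_pow, hx.2.1, inv_one], inv_mem hx.2.2⟩ }
  suffices hK : ⁅D, D⁆ ≤ K from (hK hw).2.1
  have hcD : ∀ x ∈ D, ∀ y ∈ D, ∀ u ∈ D, u * ⁅x, y⁆ = ⁅x, y⁆ * u := fun x hx y hy u hu =>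
    hcen x (hXD hx) y (hXD hy) u (hXB (hXD hu))
  have hDD : ∀ x ∈ D, ∀ y ∈ D, ⁅x, y⁆ ∈ D := fun x hx y hy => by
    rw [commutatorElement_def]; exact mul_mem (mul_mem (mul_mem hx hy) (inv_mem hx)) (inv_mem hy)
  rw [Subgroup.commutator_le]
  have hone : ∀ a ∈ A, ∀ y ∈ D, ⁅φ a, y⁆ ∈ K := by
    intro a ha y hy
    have hy' : y ∈ Subgroup.closure {g : G | ∃ a ∈ A, g = b⁻¹ * a * b * a⁻¹} := hy
    induction hy' using Subgroup.closure_induction with
    | mem g hg =>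
      obtain ⟨c, hc', rfl⟩ := hg
      exact ⟨hcD _ (hφD a ha) _ (hφD c hc'), by rw [pow_two]; exact hkey a ha c hc',
        hDD _ (hφD a ha) _ (hφD c hc')⟩
    | one => rw [commutatorElement_one_right]; exact one_mem _
    | mul u v hu hv ihu ihv =>
      rw [show ⁅φ a, u * v⁆ = ⁅φ a, u⁆ * (u * ⁅φ a, v⁆ * u⁻¹) by simp only [commutatorElement_def]; group,
        (ihv hv).1 u hu, mul_inv_cancel_right]
      exact mul_mem (ihu hu) (ihv hv)
    | inv u hu ihu =>
      rw [show ⁅φ a, u⁻¹⁆ = u⁻¹ * ⁅φ a, u⁆⁻¹ * u by simp only [commutatorElement_def]; group,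
        ((show Commute u ⁅φ a, u⁆ from (ihu hu).1 u hu).inv_left.inv_right).eq, inv_mul_cancel_right]
      exact inv_mem (ihu hu)
  intro x hx y hy
  have hx' : x ∈ Subgroup.closure {g : G | ∃ a ∈ A, g = b⁻¹ * a * b * a⁻¹} := hx
  induction hx' using Subgroup.closure_induction with
  | mem g hg =>
    obtain ⟨a, ha, rfl⟩ := hg
    exact hone a ha y hy
  | one => rw [commutatorElement_one_left]; exact one_mem _
  | mul u v hu hv ihu ihv =>
    rw [show ⁅u * v, y⁆ = u * ⁅v, y⁆ * u⁻¹ * ⁅u, y⁆ by simp only [commutatorElement_def]; group,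
      (ihv hv).1 u hu, mul_inv_cancel_right]
    exact mul_mem (ihv hv) (ihu hu)
  | inv u hu ihu =>
    rw [show ⁅u⁻¹, y⁆ = u⁻¹ * ⁅u, y⁆⁻¹ * u by simp only [commutatorElement_def]; group,
      ((show Commute u ⁅u, y⁆ from (ihu hu).1 u hu).inv_left.inv_right).eq, inv_mul_cancel_right]
    exact inv_mem (ihu hu)


end Cfsg.Agent.S0648
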