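import Cfsg.Statements.S0649
import Cfsg.Agent.Lib.Transfer.Fusion

set_option autoImplicit false
set_option linter.style.haveILetI false
open Cfsg

namespace Cfsg.Agent.S0649
open scoped Pointwise commutatorElement
open Cfsg.Agent
open Cfsg.Agent
open scoped Pointwise

/-- In the Glauberman replacement situation, if B does not normalize A then some element of B normalizes N_S(A) without normalizing A. -/
theorem result {S : Type*} [Group S] [Finite S] {p : ℕ} [Fact p.Prime] (hS : IsPGroup p S) (B : Subgroup S) [B.Normal] (hB2 : p = 2 → IsMulCommutative B) (A : Subgroup S) (hA : IsMulCommutative A) (hBA : ⁅B, B⁆ ≤ A) (hnot : ¬ B ≤ Subgroup.normalizer (A : Set S)) : ∃ b ∈ B, b ∈ Subgroup.normalizer ((Subgroup.normalizer (A : Set S)) : Set S) ∧ b ∉ Subgroup.normalizer (A : Set S) := by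
  set N := Subgroup.normalizer (A : Set S) with hN
  set P := B ⊔ N with hP
  have hlt : N < P := lt_of_le_of_ne le_sup_right fun h => hnot (h ▸ le_sup_left)
  have hnil : Group.IsNilpotent P := (hS.to_subgroup P).isNilpotent
  obtain ⟨x, hx, hxN⟩ := SetLike.exists_of_lt (Fusion.lt_inf_normalizer hnil hlt)
  obtain ⟨hxP, hxn⟩ := Subgroup.mem_inf.1 hx
  rw [hP, ← SetLike.mem_coe, Subgroup.normal_mul] at hxP
  obtain ⟨b, hb, n, hn, rfl⟩ := Set.mem_mul.1 hxP
  refine ⟨b, hb, ?_, fun hbN => hxN (N.mul_mem hbN hn)⟩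
  have := mul_mem hxn (Subgroup.inv_mem _ (Subgroup.le_normalizer hn))
  rwa [mul_inv_cancel_right] at this


end Cfsg.Agent.S0649
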