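import Cfsg.Statements.S0652
import Cfsg.Agent.Lib.PLocal.GlaubermanReplacement

set_option autoImplicit false
set_option linter.style.haveILetI false
open Cfsg

namespace Cfsg.Agent.S0652
open scoped Pointwise commutatorElement
open Cfsg.Agent
open Cfsg.Agent

/-- For odd p and D normal in the p-group S, the elementary abelian subgroups of D of largest order satisfy the replacement property for class-2 normal subgroups of S. -/
theorem result {S : Type*} [Group S] [Finite S] {p : ℕ} [Fact p.Prime] (hS : IsPGroup p S) (hp : p ≠ 2) (D : Subgroup S) [D.Normal] : ∀ (B : Subgroup S) [B.Normal], ⁅⁅B, B⁆, B⁆ = ⊥ → (∃ U ∈ (Set.image (fun A : Subgroup ↥D => A.map D.subtype) (Cfsg.maxElementaryAbelianSubgroups p ↥D)), ⁅B, B⁆ ≤ U ∧ ¬ B ≤ U) → ∃ A ∈ (Set.image (fun A : Subgroup ↥D => A.map D.subtype) (Cfsg.maxElementaryAbelianSubgroups p ↥D)), ⁅B, B⁆ ≤ A ∧ ¬ B ≤ A ∧ B ≤ Subgroup.normalizer (A : Set S) := by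
  intro B _ _ hU
  refine GReplacement.exists_normalized hS B (fun h => absurd h hp) _ ?_ ?_ hU
  · rintro _ ⟨A, hA, rfl⟩
    haveI := hA.1.1
    exact Subgroup.map_isMulCommutative A D.subtype
  · rintro _ ⟨A, hA, rfl⟩ b h
    have hAD : A.map D.subtype ≤ D := Subgroup.map_subtype_le A
    have hle : GReplacement.star (A.map D.subtype) b ≤ D := by
      refine h.star_le_sup.trans (sup_le hAD ?_)
      rintro _ ⟨a, ha, rfl⟩
      exact Subgroup.Normal.conj_mem ‹_› a (hAD ha) b⁻¹
    have hexp : ∀ a ∈ A.map D.subtype, a ^ p = 1 := by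
      rintro _ ⟨a, ha, rfl⟩
      rw [← map_pow, hA.1.2 a ha, map_one]
    refine ⟨(GReplacement.star (A.map D.subtype) b).subgroupOf D, ⟨⟨?_, ?_⟩, fun C hC => ?_⟩,
      Subgroup.map_subgroupOf_eq_of_le hle⟩
    · haveI := h.star_comm
      exact Subgroup.subgroupOf_isMulCommutative D _
    · intro y hy
      exact Subtype.ext (h.pow_eq_one hp hexp ((Fact.out : p.Prime).odd_of_ne_two hp) hy)
    · rw [Nat.card_congr (Subgroup.subgroupOfEquivOfLe hle).toEquiv, h.star_card,
        Subgroup.card_map_of_injective Subtype.coe_injective]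
      exact hA.2 C hC


end Cfsg.Agent.S0652
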