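import Cfsg.Statements.S0654
import Cfsg.Agent.Lib.PLocal.ZJ
import Cfsg.Agent.Lib.PLocal.OmegaOne

set_option autoImplicit false
set_option linter.style.haveILetI false
open Cfsg

namespace Cfsg.Agent.S0654
open scoped Pointwise commutatorElement
open Cfsg.Agent

/-- The ZJ-Theorem for the elementary-abelian Thompson subgroup: for an odd prime p, a finite group G with C_G(O_p(G)) ≤ O_p(G) acting p-stably on its normal p-subgroups, and a Sylow p-subgroup S of G, the subgroup generated by the elements of order dividing p in Z(J_e(S)) is characteristic in G. -/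
theorem result {G : Type*} [Group G] [Finite G] {p : ℕ} [Fact p.Prime] (hp : p ≠ 2) (hc : Subgroup.centralizer (Cfsg.pCore p G : Set G) ≤ Cfsg.pCore p G) (hst : ∀ (P : Subgroup G) [P.Normal], IsPGroup p P → Cfsg.IsPStableOn p P) (S : Sylow p G) : ((Cfsg.omegaCenterThompson p ↥(S : Subgroup G)).map (S : Subgroup G).subtype).Characteristic := by
  have h : (Cfsg.omegaCenterThompson p ↥(S : Subgroup G)).map (S : Subgroup G).subtype =
      ZJ.zCore p True (S : Subgroup G) := by
    rw [Cfsg.omegaCenterThompson, OmegaOne.map _ Subtype.coe_injective.injOn,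
      CoprimeQuotient.inf_centralizer_map (p := p) _ _ Subtype.coe_injective.injOn]
    change Cfsg.omegaOne p (Cfsg.centerThompsonOf p (S : Subgroup G)) = _
    rw [ZJ.centerThompsonOf_eq, ZJ.omegaOne_zJ]
  rw [h]
  exact ZJ.zCore_characteristic hp (ZJ.isQuad_of_isPStableOn hst) hc S True


end Cfsg.Agent.S0654
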