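import Cfsg.Statements.S0655
import Cfsg.Agent.Lib.PLocal.OmegaOne

set_option autoImplicit false
set_option linter.style.haveILetI false
open Cfsg

namespace Cfsg.Agent.S0655
open scoped Pointwise commutatorElement
open Cfsg.Agent
open Cfsg.Agent

/-- In a p-group the intersection of all elementary abelian subgroups of largest order is the subgroup generated by the elements of order dividing p in the centre (equivalently the centralizer) of the elementary-version Thompson subgroup. -/
theorem result {S : Type*} [Group S] [Finite S] {p : ℕ} [Fact p.Prime] (hS : IsPGroup p S) : sInf (Cfsg.maxElementaryAbelianSubgroups p S) = Cfsg.omegaCenterThompson p S ∧ Cfsg.omegaCenterThompson p S = Cfsg.omegaOne p (Subgroup.centralizer (Cfsg.thompsonSubgroup p S : Set S)) := by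
  obtain ⟨A₀, hA₀⟩ := Thompson.exists_isMaxEAIn p (⊤ : Subgroup S)
  have key : ∀ x : S, x ∈ Subgroup.centralizer (Cfsg.thompsonSubgroup p S : Set S) → x ^ p = 1 →
      x ∈ sInf (Cfsg.maxElementaryAbelianSubgroups p S) := by
    intro x hx hxp
    rw [Subgroup.mem_sInf]
    intro A hA
    rw [← Thompson.thompsonSubgroupOf_top] at hx
    exact OmegaOne.mem_of_centralizes (Thompson.isMaxEAIn_top_iff.2 hA) (Subgroup.mem_top x) hx hxp
  have h1 : sInf (Cfsg.maxElementaryAbelianSubgroups p S) ≤ Cfsg.omegaCenterThompson p S := by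
    intro x hx
    rw [Subgroup.mem_sInf] at hx
    refine OmegaOne.mem ⟨le_sSup (Thompson.isMaxEAIn_top_iff.1 hA₀)
      (hx _ (Thompson.isMaxEAIn_top_iff.1 hA₀)), ?_⟩ (hA₀.2.1.2 x (hx _ (Thompson.isMaxEAIn_top_iff.1 hA₀)))
    have hle : Cfsg.thompsonSubgroup p S ≤ Subgroup.centralizer {x} := by
      refine sSup_le fun A hA a ha => ?_
      rw [Subgroup.mem_centralizer_singleton_iff]
      exact Thompson.commute_of_isElementaryAbelian hA.1 ha (hx A hA)
    intro a ha
    exact Subgroup.mem_centralizer_singleton_iff.1 (hle ha)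
  have h2 : Cfsg.omegaCenterThompson p S ≤
      Cfsg.omegaOne p (Subgroup.centralizer (Cfsg.thompsonSubgroup p S : Set S)) :=
    Subgroup.closure_mono fun x hx => ⟨hx.1.2, hx.2⟩
  have h3 : Cfsg.omegaOne p (Subgroup.centralizer (Cfsg.thompsonSubgroup p S : Set S)) ≤
      sInf (Cfsg.maxElementaryAbelianSubgroups p S) := by
    rw [Cfsg.omegaOne, Subgroup.closure_le]
    exact fun x hx => key x hx.1 hx.2
  exact ⟨le_antisymm h1 (h2.trans h3), le_antisymm h2 (h3.trans h1)⟩


end Cfsg.Agent.S0655
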