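import Cfsg.Statements.S0657
import Cfsg.Agent.Lib.PStable.Involved
import Cfsg.Agent.Lib.Techniques.PConstrained

set_option autoImplicit false
set_option linter.style.haveILetI false
open Cfsg

namespace Cfsg.Agent.S0657
open scoped Pointwise commutatorElement
open Cfsg.Agent

/-- For odd p, a group that fails to be p-stable modulo its largest normal subgroup of order prime to p, and whose upper p-series does not stop there, has a section isomorphic to SL(2, p). -/
theorem result {G : Type*} [Group G] [Finite G] {p : ℕ} [Fact p.Prime] (hp : p ≠ 2) (hO : Cfsg.pPrimeCore p G < Cfsg.pPrimePCore p G) (hns : ¬ Cfsg.IsPStable p (G ⧸ Cfsg.pPrimeCore p G)) : ∃ (K L : Subgroup G) (hL : (L.subgroupOf K).Normal), K ≤ ⊤ ∧ Nonempty ((K ⧸ L.subgroupOf K) ≃* Matrix.SpecialLinearGroup (Fin 2) (ZMod p)) := by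
  by_contra hno
  have hfree : ∀ (K : Subgroup G) (ψ : K →* Matrix.SpecialLinearGroup (Fin 2) (ZMod p)),
      ¬ Function.Surjective ψ := fun K ψ hψ => by
    obtain ⟨L, hL, e⟩ := PStable.exists_section_of_surjective ψ hψ
    exact hno ⟨K, L, hL, le_top, e⟩
  have hX : ¬ Cfsg.Involves (Matrix.SpecialLinearGroup (Fin 2) (ZMod p)) (G ⧸ Cfsg.pPrimeCore p G) := fun h => by
    obtain ⟨K, ψ, hψ⟩ := PStable.exists_surjective_of_involves
      (PStable.involves_of_quotient (QuotientGroup.mk' (Cfsg.pPrimeCore p G)) (QuotientGroup.mk'_surjective _) h)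
    exact hfree K ψ hψ
  refine hns ⟨(Fact.out : p.Prime).odd_of_ne_two hp, fun hbot => ?_, fun A P _ hP hAP _ _ hq => ?_⟩
  · refine hO.ne (le_antisymm hO.le ?_)
    intro x hx
    have hx' : QuotientGroup.mk' (Cfsg.pPrimeCore p G) x ∈ Cfsg.pCore p (G ⧸ Cfsg.pPrimeCore p G) := hx
    rw [hbot, Subgroup.mem_bot] at hx'
    exact (QuotientGroup.eq_one_iff x).1 hx'
  · rintro _ ⟨⟨a, haN⟩, ha, rfl⟩
    have ha' : a ∈ A := ha
    refine PStable.quotient_mem_of_quadratic P hP
      (PStable.isQuad_of_not_involves_sl2 hp fun hi => hX (PStable.involves_of_subgroup hi)) a haN ?_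
    exact eq_bot_iff.2 ((Subgroup.commutator_mono (Subgroup.commutator_mono le_rfl
      (Subgroup.zpowers_le.2 ha')) (Subgroup.zpowers_le.2 ha')).trans hq.le)


end Cfsg.Agent.S0657
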