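import Cfsg.Statements.S0658
import Cfsg.Agent.Lib.PLocal.ZJStable

set_option autoImplicit false
set_option linter.style.haveILetI false
open Cfsg

namespace Cfsg.Agent.S0658
open scoped Pointwise commutatorElement
open Cfsg.Agent

/-- In a group of characteristic p type all of whose p-locals are p-stable (p odd), the normalizer of Z(J(P)) contains the normalizer of every nontrivial subgroup of the Sylow p-subgroup P. -/
theorem result {G : Type*} [Group G] [Finite G] {p : ℕ} [Fact p.Prime] (hp : p ≠ 2) (hloc : ∀ Q : Subgroup G, IsPGroup p Q → Q ≠ ⊥ → Cfsg.pPrimeCore p ↥(Subgroup.normalizer (Q : Set G)) = ⊥ ∧ Cfsg.IsPConstrained p ↥(Subgroup.normalizer (Q : Set G)) ∧ Cfsg.IsPStable p ↥(Subgroup.normalizer (Q : Set G))) (P : Sylow p G) (Q : Subgroup G) (hQP : Q ≤ (P : Subgroup G)) (hQ1 : Q ≠ ⊥) : Subgroup.normalizer (Q : Set G) ≤ Subgroup.normalizer (Cfsg.centerThompsonAOf ((P : Subgroup G)) : Set G) := by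
  rw [ZJ.centerThompsonAOf_eq (p := p)]
  set M := Subgroup.normalizer (ZJ.zJ p False (P : Subgroup G) : Set G) with hM
  by_contra hbad
  obtain ⟨Q₀, ⟨hQ₀P, hQ₀1, hQ₀M⟩, hmax⟩ := Set.exists_max_image
    {Q : Subgroup G | Q ≤ (P : Subgroup G) ∧ Q ≠ ⊥ ∧ ¬ Subgroup.normalizer (Q : Set G) ≤ M}
    (fun Q => Nat.card ↥((P : Subgroup G) ⊓ Subgroup.normalizer (Q : Set G)))
    (Set.toFinite _) ⟨Q, hQP, hQ1, hbad⟩
  clear hbad hQP hQ1 Q
  rename' Q₀ => Q, hQ₀P => hQP, hQ₀1 => hQ1, hQ₀M => hbad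
  set N := Subgroup.normalizer (Q : Set G) with hN
  set R0 := (P : Subgroup G) ⊓ N with hR0
  have hgood : ∀ W : Subgroup G, W ≤ (P : Subgroup G) → W ≠ ⊥ →
      ∀ X : Subgroup G, R0 < X → X ≤ (P : Subgroup G) → X ≤ Subgroup.normalizer (W : Set G) →
      Subgroup.normalizer (W : Set G) ≤ M := by
    intro W hWP hW1 X hX hXP hXW
    by_contra hn
    exact absurd ((Nat.card_le_card_of_injective _
      (Subgroup.inclusion_injective (le_inf hXP hXW))).trans (hmax W ⟨hWP, hW1, hn⟩))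
      (not_le.2 (Set.ncard_lt_ncard (SetLike.coe_ssubset_coe.2 hX) (Set.toFinite _)))
  have hQp : IsPGroup p Q := P.isPGroup'.to_le hQP
  obtain ⟨hO, hcon, hsta⟩ := hloc Q hQp hQ1
  have hQR0 : Q ≤ R0 := le_inf hQP Subgroup.le_normalizer
  have hR0p : IsPGroup p R0 := P.isPGroup'.to_inf_left
  obtain ⟨R, hR⟩ := (hR0p.comap_subtype (K := N)).exists_le_sylow
  have hR' : R0 ≤ (R : Subgroup N).map N.subtype := by
    rw [← Subgroup.map_subgroupOf_eq_of_le (show R0 ≤ N from inf_le_right)]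
    exact Subgroup.map_mono hR
  have hNZ : N ≤ Subgroup.normalizer
      (ZJ.zJ p False ((R : Subgroup N).map N.subtype) : Set G) :=
    ZJ.le_normalizer_zJ_of_stable hp N (ZJ.isQuad_of_isPStable hsta hO)
      (PConstr.isCharP_of_isPConstrained hcon hO) R False
  set R' := (R : Subgroup N).map N.subtype with hR'def
  have hR'p : IsPGroup p R' := R.isPGroup'.map _
  have hPM : (P : Subgroup G) ≤ M := ZJ.le_normalizer_zJ _
  rcases eq_or_lt_of_le (inf_le_left : R0 ≤ (P : Subgroup G)) with heq | hlt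
  · have h1 : R' = (P : Subgroup G) := P.is_maximal' hR'p (heq ▸ hR')
    rw [h1] at hNZ
    exact hbad hNZ
  have hgrow := Fusion.lt_inf_normalizer (Fusion.sylow_isNilpotent P) hlt
  have hR0M : Subgroup.normalizer (R0 : Set G) ≤ M :=
    hgood R0 inf_le_left (fun h => hQ1 (le_bot_iff.1 (hQR0.trans h.le))) _ hgrow inf_le_left inf_le_right
  have hRR0 : R' = R0 := by
    rcases eq_or_lt_of_le hR' with heq | hlt'
    · exact heq.symm
    exfalso
    have hgrow' := Fusion.lt_inf_normalizer hR'p.isNilpotent hlt'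
    set R1 := R' ⊓ Subgroup.normalizer (R0 : Set G) with hR1
    have hR1M : R1 ≤ M := inf_le_right.trans hR0M
    have hR1p : IsPGroup p R1 := hR'p.to_inf_left
    obtain ⟨T, hT⟩ := (hR1p.comap_subtype (K := M)).exists_le_sylow
    obtain ⟨m, hm⟩ := MulAction.exists_smul_eq M T (P.subtype hPM)
    set c := (MulAut.conj (m : G)).toMonoidHom with hc
    have hcR1 : R1.map c ≤ (P : Subgroup G) := by
      rintro _ ⟨x, hx, rfl⟩
      have hxT : (⟨x, hR1M hx⟩ : M) ∈ (T : Subgroup M) :=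
        hT (show (⟨x, hR1M hx⟩ : M) ∈ R1.subgroupOf M from hx)
      have h2 : m * ⟨x, hR1M hx⟩ * m⁻¹ ∈ ((P.subtype hPM : Sylow p M) : Subgroup M) := by
        rw [← hm, Sylow.coe_subgroup_smul, Subgroup.mem_pointwise_smul_iff_inv_smul_mem, ← map_inv,
          MulAut.smul_def, MulAut.conj_apply]
        simpa [mul_assoc] using hxT
      exact h2
    have hQR1 : Q.map c ≤ R1.map c := Subgroup.map_mono (hQR0.trans (le_inf hR' Subgroup.le_normalizer))
    have hQc : Q.map c ≠ ⊥ := by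
      rwa [Ne, Subgroup.map_eq_bot_iff_of_injective _ (MulAut.conj (m : G)).injective]
    have hcard : Nat.card R0 < Nat.card (R1.map c) := by
      rw [Subgroup.card_map_of_injective (f := c) (MulAut.conj (m : G)).injective]
      exact Set.ncard_lt_ncard (SetLike.coe_ssubset_coe.2 hgrow') (Set.toFinite _)
    have hNc : N.map c = Subgroup.normalizer (Q.map c : Set G) :=
      Subgroup.map_equiv_normalizer_eq Q (MulAut.conj (m : G))
    have h3 : Subgroup.normalizer (Q.map c : Set G) ≤ M := by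
      by_contra hn
      have h4 := hmax (Q.map c) ⟨hQR1.trans hcR1, hQc, hn⟩
      have h5 : R1.map c ≤ (P : Subgroup G) ⊓ Subgroup.normalizer (Q.map c : Set G) :=
        le_inf hcR1 (hNc ▸ Subgroup.map_mono (inf_le_left.trans (Subgroup.map_subtype_le _)))
      exact absurd ((Nat.card_le_card_of_injective _ (Subgroup.inclusion_injective h5)).trans h4)
        (not_le.2 hcard)
    refine hbad fun x hx => ?_
    have h4 : (m : G) * x * (m : G)⁻¹ ∈ M := h3 (hNc ▸ ⟨x, hx, rfl⟩)
    have h5 := M.mul_mem (M.mul_mem (M.inv_mem m.2) h4) m.2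
    simpa [mul_assoc] using h5
  rw [hRR0] at hNZ
  refine hbad (hNZ.trans (hgood _ ((ZJ.zJ_le R0).trans inf_le_left) ?_ _ hgrow inf_le_left ?_))
  · intro h
    exact ZJ.zCore_ne_bot (e := False) hR0p (fun h' => hQ1 (le_bot_iff.1 (hQR0.trans h'.le)))
      (le_bot_iff.1 (h ▸ ZJ.zCore_le_zJ R0))
  · exact inf_le_right.trans (ZJ.normalizer_le_normalizer_zJ R0)


end Cfsg.Agent.S0658
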