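import Cfsg.Statements.S0660
import Cfsg.Agent.Lib.Solvable.Basic

set_option autoImplicit false
set_option linter.style.haveILetI false
open Cfsg

namespace Cfsg.Agent.S0660
open scoped Pointwise commutatorElement
open Cfsg.Agent
open scoped Pointwise

/-- Under a coprime action on an abelian group, an invariant subgroup that is complemented admits an invariant complement. -/
theorem result {G : Type*} [Group G] [Finite G] (V A U : Subgroup G) (hVab : IsMulCommutative V) (hAV : A ≤ Subgroup.normalizer (V : Set G)) (hcop : (Nat.card A).Coprime (Nat.card V)) (hUV : U ≤ V) (hAU : A ≤ Subgroup.normalizer (U : Set G)) (W : Subgroup G) (hWV : W ≤ V) (hUW : U ⊓ W = ⊥) (hUWV : U ⊔ W = V) : ∃ W' : Subgroup G, W' ≤ V ∧ A ≤ Subgroup.normalizer (W' : Set G) ∧ U ⊓ W' = ⊥ ∧ U ⊔ W' = V := by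
  classical
  haveI := hVab
  haveI hUc : IsMulCommutative U := ⟨⟨fun a b => Subtype.ext
    (congrArg Subtype.val (mul_comm' (⟨a, hUV a.2⟩ : V) ⟨b, hUV b.2⟩) :)⟩⟩
  letI : CommGroup U := { (inferInstance : Group U) with mul_comm := hUc.is_comm.comm }
  letI : CommGroup V := { (inferInstance : Group V) with mul_comm := hVab.is_comm.comm }
  haveI := Fintype.ofFinite A
  have hWn : ∀ v : V, ∃ u : U, (u : G)⁻¹ * v ∈ W := by
    intro v
    have hv : (v : G) ∈ U ⊔ W := by rw [hUWV]; exact v.2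
    have hWU : W ≤ Subgroup.normalizer (U : Set G) := fun w hw => by
      refine Subgroup.centralizer_le_normalizer _ fun u hu => ?_
      exact congrArg Subtype.val (mul_comm' (⟨u, hUV hu⟩ : V) ⟨w, hWV hw⟩)
    rw [← SetLike.mem_coe, Subgroup.coe_mul_of_right_le_normalizer_left _ _ hWU] at hv
    obtain ⟨u, hu, w, hw, he⟩ := Set.mem_mul.1 hv
    refine ⟨⟨u, hu⟩, ?_⟩
    rw [← he]
    simpa using hw
  choose π hπ using hWn
  have huniq : ∀ (v : V) (u : U), (u : G)⁻¹ * v ∈ W → π v = u := by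
    intro v u hu
    have h1 : (π v : G)⁻¹ * u ∈ U ⊓ W := by
      refine ⟨U.mul_mem (U.inv_mem (π v).2) u.2, ?_⟩
      have := W.mul_mem (hπ v) (W.inv_mem hu)
      simpa [mul_assoc] using this
    rw [hUW, Subgroup.mem_bot, inv_mul_eq_one] at h1
    exact Subtype.ext h1
  let π' : V →* U := MonoidHom.mk' π fun v w => huniq _ _ (by
    have h1 := W.mul_mem (hπ v) (hπ w)
    have h2 : ((v : G)) * (π w : G)⁻¹ = (π w : G)⁻¹ * v :=
      congrArg Subtype.val (mul_comm' (v : V) (⟨(π w : G)⁻¹, V.inv_mem (hUV (π w).2)⟩ : V))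
    have h3 : (π v : G) * (π w : G) = (π w : G) * π v :=
      congrArg Subtype.val (mul_comm' (π v) (π w))
    rw [Subgroup.coe_mul, Subgroup.coe_mul, h3, mul_inv_rev]
    have h4 : (π v : G)⁻¹ * (π w : G)⁻¹ * ((v : G) * w) =
        (π v : G)⁻¹ * (v : G) * ((π w : G)⁻¹ * w) := by
      calc (π v : G)⁻¹ * (π w : G)⁻¹ * ((v : G) * w)
          = (π v : G)⁻¹ * ((π w : G)⁻¹ * v) * w := by group
        _ = _ := by rw [← h2]; group
    rw [h4]
    exact h1)
  have hπU : ∀ v : V, ∀ hv : (v : G) ∈ U, π' v = ⟨v, hv⟩ := fun v hv =>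
    huniq v ⟨v, hv⟩ (by simp)
  let cV : A → V →* V := fun a => MonoidHom.mk'
    (fun v => ⟨(a : G)⁻¹ * v * a, (Subgroup.mem_normalizer_iff'.1 (hAV a.2) _).2 (by
      simpa [mul_assoc] using v.2)⟩) (fun v w => Subtype.ext (by
        simp only [Subgroup.coe_mul]; group))
  let cU : A → U →* U := fun a => MonoidHom.mk'
    (fun u => ⟨(a : G) * u * (a : G)⁻¹, (Subgroup.mem_normalizer_iff.1 (hAU a.2) _).1 u.2⟩)
    (fun v w => Subtype.ext (by simp only [Subgroup.coe_mul]; group))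
  let φ : V →* U := ∏ a : A, (cU a).comp (π'.comp (cV a))
  have hφ : ∀ v, φ v = ∏ a : A, cU a (π' (cV a v)) := fun v => by
    simp [φ, MonoidHom.finsetProd_apply]
  have hφU : ∀ v : V, ∀ hv : (v : G) ∈ U, φ v = (⟨v, hv⟩ : U) ^ Nat.card A := by
    intro v hv
    rw [hφ, Nat.card_eq_fintype_card, ← Finset.card_univ, ← Finset.prod_const]
    refine Finset.prod_congr rfl fun a _ => ?_
    have hcv : ((cV a v : V) : G) ∈ U := by
      show (a : G)⁻¹ * v * a ∈ U
      exact (Subgroup.mem_normalizer_iff'.1 (hAU a.2) _).2 (by simpa [mul_assoc] using hv)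
    rw [hπU _ hcv]
    apply Subtype.ext
    show (a : G) * ((a : G)⁻¹ * v * a) * (a : G)⁻¹ = v
    group
  have hcopU : (Nat.card U).Coprime (Nat.card A) :=
    (hcop.coprime_dvd_right (Subgroup.card_dvd_of_le hUV)).symm
  refine ⟨φ.ker.map V.subtype, Subgroup.map_subtype_le _, ?_, ?_, ?_⟩
  · intro b hb
    rw [Subgroup.mem_normalizer_iff]
    have key : ∀ c ∈ A, ∀ x ∈ φ.ker.map V.subtype, c * x * c⁻¹ ∈ φ.ker.map V.subtype := by
      rintro c hc _ ⟨v, hv, rfl⟩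
      refine ⟨⟨c * v * c⁻¹, (Subgroup.mem_normalizer_iff.1 (hAV hc) _).1 v.2⟩, ?_, rfl⟩
      rw [SetLike.mem_coe, MonoidHom.mem_ker, hφ] at hv ⊢
      have h1 : ∀ a : A, cU a (π' (cV a ⟨c * v * c⁻¹, (Subgroup.mem_normalizer_iff.1 (hAV hc) _).1 v.2⟩)) =
          cU ⟨c, hc⟩ (cU (⟨c, hc⟩⁻¹ * a) (π' (cV (⟨c, hc⟩⁻¹ * a) v))) := by
        intro a
        have h2 : cV a ⟨c * v * c⁻¹, (Subgroup.mem_normalizer_iff.1 (hAV hc) _).1 v.2⟩ =
            cV (⟨c, hc⟩⁻¹ * a) v := Subtype.ext (by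
          show (a : G)⁻¹ * (c * v * c⁻¹) * a = (c⁻¹ * (a : G))⁻¹ * v * (c⁻¹ * a)
          group)
        rw [h2]
        apply Subtype.ext
        show (a : G) * _ * (a : G)⁻¹ = c * (c⁻¹ * (a : G) * _ * (c⁻¹ * (a : G))⁻¹) * c⁻¹
        group
      rw [Finset.prod_congr rfl (fun a _ => h1 a), ← map_prod,
        Fintype.prod_equiv (Equiv.mulLeft (⟨c, hc⟩⁻¹ : A))
          (fun a => cU (⟨c, hc⟩⁻¹ * a) (π' (cV (⟨c, hc⟩⁻¹ * a) v)))
          (fun a => cU a (π' (cV a v))) (fun a => rfl), hv, map_one]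
    intro x
    refine ⟨key b hb x, fun h => ?_⟩
    have := key b⁻¹ (A.inv_mem hb) _ h
    simpa [mul_assoc] using this
  · rw [Subgroup.eq_bot_iff_forall]
    rintro _ ⟨hxU, v, hv, rfl⟩
    have h1 := (hφU v hxU).symm.trans hv
    have h2 : (⟨(v : G), hxU⟩ : U) = 1 :=
      (powCoprime hcopU).injective (by simpa [powCoprime_apply] using h1)
    exact congrArg Subtype.val h2
  · refine le_antisymm (sup_le hUV (Subgroup.map_subtype_le _)) fun x hx => ?_
    obtain ⟨u, hu⟩ := (powCoprime hcopU).surjective (φ ⟨x, hx⟩)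
    have hu' : u ^ Nat.card A = φ ⟨x, hx⟩ := hu
    rw [show x = (u : G) * ((u : G)⁻¹ * x) by group]
    refine mul_mem (Subgroup.mem_sup_left u.2) (Subgroup.mem_sup_right ?_)
    refine ⟨(⟨(u : G), hUV u.2⟩ : V)⁻¹ * ⟨x, hx⟩, ?_, rfl⟩
    rw [SetLike.mem_coe, MonoidHom.mem_ker, map_mul, map_inv, ← hu', hφU _ u.2, inv_mul_cancel]


end Cfsg.Agent.S0660
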