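import Cfsg.Statements.S0661
import Cfsg.Agent.Lib.Techniques.PConstrained

set_option autoImplicit false
set_option linter.style.haveILetI false
open Cfsg

namespace Cfsg.Agent.S0661
open scoped Pointwise commutatorElement
open Cfsg.Agent

/-- If, modulo the largest normal subgroup of order prime to p, the largest normal p-subgroup contains its centralizer, then for every p-subgroup P the p'-core of N_G(P) is just O_p'(G) ∩ N_G(P). -/
theorem result {G : Type*} [Group G] [Finite G] {p : ℕ} [Fact p.Prime] (hc : Subgroup.centralizer (Cfsg.pCore p (G ⧸ Cfsg.pPrimeCore p G) : Set (G ⧸ Cfsg.pPrimeCore p G)) ≤ Cfsg.pCore p (G ⧸ Cfsg.pPrimeCore p G)) (P : Subgroup G) (hP : IsPGroup p P) : (Cfsg.pPrimeCore p ↥(Subgroup.normalizer (P : Set G))).map (Subgroup.normalizer (P : Set G)).subtype = Cfsg.pPrimeCore p G ⊓ Subgroup.normalizer (P : Set G) := by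
  set N := Subgroup.normalizer (P : Set G) with hN
  set f := QuotientGroup.mk' (Cfsg.pPrimeCore p G) with hf
  have hker : (Nat.card f.ker).Coprime p := by
    rw [hf, QuotientGroup.ker_mk']; exact PBasic.pPrimeCore_coprime p G
  refine le_antisymm (le_inf ?_ (Subgroup.map_subtype_le _)) ?_
  · have hc' : CharP.IsCharP p ↥(Subgroup.normalizer (P.map f : Set (G ⧸ Cfsg.pPrimeCore p G))) := by
      have h1 := CharP.isCharP_inf_normalizer (K := (⊤ : Subgroup (G ⧸ Cfsg.pPrimeCore p G)))
        (CharP.isCharP_top.2 hc) (hP.map f) le_top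
      rwa [top_inf_eq] at h1
    have h0 := PConstr.pPrimeCore_eq_bot_of_isCharP hc'
    have hmap := PConstr.map_normalizer_eq f (QuotientGroup.mk'_surjective _) hker hP
    rw [← hmap] at h0
    have h2 := PBasic.map_pPrimeCore_le_of_surjective (p := p) (f.subgroupMap N) (f.subgroupMap_surjective N)
    rw [h0, le_bot_iff, Subgroup.map_eq_bot_iff] at h2
    rintro _ ⟨x, hx, rfl⟩
    have h3 : f (x : G) = 1 := congrArg Subtype.val (h2 hx)
    exact (QuotientGroup.eq_one_iff _).1 h3
  · rintro x ⟨hx, hxN⟩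
    refine ⟨⟨x, hxN⟩, ?_, rfl⟩
    refine PBasic.le_pPrimeCore (N := (Cfsg.pPrimeCore p G).subgroupOf N)
      (Subgroup.Normal.subgroupOf inferInstance _) ?_ hx
    refine Nat.Coprime.coprime_dvd_left ?_ (PBasic.pPrimeCore_coprime p G)
    rw [← Subgroup.card_map_of_injective (K := (Cfsg.pPrimeCore p G).subgroupOf N) N.subtype_injective]
    exact Subgroup.card_dvd_of_le (by rintro _ ⟨y, hy, rfl⟩; exact hy)


end Cfsg.Agent.S0661
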