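import Cfsg.Statements.S0666
import Cfsg.Agent.Lib.Char.FrobeniusKernel

set_option autoImplicit false
set_option linter.style.haveILetI false
open Cfsg

namespace Cfsg.Agent.S0666
open scoped Pointwise commutatorElement
open Cfsg.Agent

/-- A Frobenius group acting on a nontrivial abelian group of order prime to that of its kernel, with the kernel acting without nontrivial fixed points, has a complement with a nontrivial fixed point. -/
theorem result {G : Type*} [Group G] [Finite G] (V F : Subgroup G) (hVab : IsMulCommutative V) (hV1 : V ≠ ⊥) (hFV : F ≤ Subgroup.normalizer (V : Set G)) (H : Subgroup ↥F) (hH : Cfsg.IsFrobeniusComplement H) (hcop : (Nat.card V).Coprime (Nat.card (Cfsg.frobeniusKernel H))) (hCK : V ⊓ Subgroup.centralizer (Subtype.val '' Cfsg.frobeniusKernel H : Set G) = ⊥) : V ⊓ Subgroup.centralizer ((H.map F.subtype : Subgroup G) : Set G) ≠ ⊥ := by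
  classical
  intro hbot
  obtain ⟨K, hKset, hKn, hKc⟩ := Char.frobeniusKernel_isSubgroup hH
  haveI := hKn
  have hd : ∀ {k : ↥F}, k ∈ K → ∀ {a : ↥F}, a ∈ H → k = a → k = 1 := by
    rintro k hk a ha rfl
    have h1 : k ∈ K ⊓ H := ⟨hk, ha⟩
    rwa [hKc.disjoint.eq_bot, Subgroup.mem_bot] at h1
  have hcardK : Nat.card (Cfsg.frobeniusKernel H) = Nat.card K := by rw [← hKset]; rfl
  rw [hcardK] at hcop
  letI cg : CommGroup ↥V := { (inferInstance : Group ↥V) with mul_comm := fun a b => hVab.is_comm.comm a b }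
  let φ : ↥F →* MulAut ↥V := V.normalizerMonoidHom.comp (Subgroup.inclusion hFV)
  have hφ : ∀ (x : ↥F) (v : ↥V), ((φ x v : ↥V) : G) = (x : G) * v * (x : G)⁻¹ := fun _ _ => rfl
  have hfix : ∀ (L : Subgroup ↥F), (∀ w : ↥V, (∀ l ∈ L, φ l w = w) → w = 1) →
      ∀ v : ↥V, ∏ᶠ l : L, φ (l : ↥F) v = 1 := by
    intro L hL v
    refine hL _ fun l hl => ?_
    rw [MulEquiv.map_finprod]
    refine finprod_eq_of_bijective (fun x : L => (⟨l, hl⟩ : L) * x) (Group.mulLeft_bijective _)
      fun x => ?_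
    rw [Subgroup.coe_mul, map_mul]
    rfl
  have hK0 : ∀ w : ↥V, (∀ l ∈ K, φ l w = w) → w = 1 := by
    intro w hw
    have h1 : (w : G) ∈ V ⊓ Subgroup.centralizer (Subtype.val '' Cfsg.frobeniusKernel H : Set G) := by
      refine ⟨w.2, ?_⟩
      rintro _ ⟨l, hl, rfl⟩
      rw [← hKset] at hl
      have h2 := congrArg Subtype.val (hw l hl)
      rw [hφ] at h2
      exact mul_inv_eq_iff_eq_mul.1 h2
    rw [hCK] at h1
    exact Subtype.ext (Subgroup.mem_bot.1 h1)
  have hH0 : ∀ w : ↥V, (∀ l ∈ H, φ l w = w) → w = 1 := by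
    intro w hw
    have h1 : (w : G) ∈ V ⊓ Subgroup.centralizer ((H.map F.subtype : Subgroup G) : Set G) := by
      refine ⟨w.2, ?_⟩
      rintro _ ⟨l, hl, rfl⟩
      have h2 := congrArg Subtype.val (hw l hl)
      rw [hφ] at h2
      exact mul_inv_eq_iff_eq_mul.1 h2
    rw [hbot] at h1
    exact Subtype.ext (Subgroup.mem_bot.1 h1)
  -- the partition of `F` by the kernel and the conjugates of the complement
  let f : K × H → ↥F := fun x => if x.2 = 1 then (x.1 : ↥F) else x.1 * x.2 * (x.1 : ↥F)⁻¹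
  have hmal := Char.malnormal_of_isFrobeniusComplement hH
  have hmix : ∀ (k k' : K) (a : H), a ≠ 1 → (k : ↥F) ≠ k' * a * (k' : ↥F)⁻¹ := by
    intro k k' a ha he
    have h1 : (k' : ↥F)⁻¹ * k * k' = a := by rw [he]; group
    exact ha (Subtype.ext (h1.symm.trans (hd (mul_mem (mul_mem (inv_mem k'.2) k.2) k'.2) a.2 h1)))
  have hinj : Function.Injective f := by
    rintro ⟨k, a⟩ ⟨k', a'⟩ hxy
    simp only [f] at hxy
    by_cases ha : a = 1 <;> by_cases ha' : a' = 1
    · rw [if_pos ha, if_pos ha'] at hxy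
      rw [ha, ha', Subtype.ext hxy]
    · rw [if_pos ha, if_neg ha'] at hxy
      exact absurd hxy (hmix k k' a' ha')
    · rw [if_neg ha, if_pos ha'] at hxy
      exact absurd hxy.symm (hmix k' k a ha)
    · rw [if_neg ha, if_neg ha'] at hxy
      have hw : (k' : ↥F)⁻¹ * k * a * ((k' : ↥F)⁻¹ * k)⁻¹ = a' := by
        rw [show (k' : ↥F)⁻¹ * k * a * ((k' : ↥F)⁻¹ * k)⁻¹ = (k' : ↥F)⁻¹ * (k * a * (k : ↥F)⁻¹) * k' by group,
          hxy]
        group
      have hmem : (k' : ↥F)⁻¹ * k ∈ H := by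
        by_contra hn
        exact ha (Subtype.ext (hmal _ hn a a.2 (hw.symm ▸ a'.2)))
      have hkk : k' = k :=
        Subtype.ext (inv_mul_eq_one.1 (hd (mul_mem (inv_mem k'.2) k.2) hmem rfl))
      subst hkk
      rw [Subtype.ext (mul_left_cancel (mul_right_cancel hxy)) (a1 := a) (a2 := a')]
  have hbij : Function.Bijective f :=
    (Nat.bijective_iff_injective_and_card f).2 ⟨hinj, by rw [Nat.card_prod]; exact hKc.card_mul⟩
  refine hV1 ((Subgroup.eq_bot_iff_forall _).2 fun v₀ hv₀ => ?_)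
  set v : ↥V := ⟨v₀, hv₀⟩ with hv
  suffices h : v ^ Nat.card K = 1 by
    have h1 := Nat.dvd_gcd (orderOf_dvd_natCard v) (orderOf_dvd_of_pow_eq_one h)
    rw [hcop.gcd_eq_one, Nat.dvd_one, orderOf_eq_one_iff] at h1
    exact congrArg Subtype.val h1
  have htot : ∏ᶠ x : K × H, φ (f x) v = 1 := by
    rw [finprod_eq_of_bijective f hbij (g := fun y => φ y v) fun _ => rfl]
    refine hK0 _ fun l _ => ?_
    rw [MulEquiv.map_finprod]
    refine finprod_eq_of_bijective (fun x : ↥F => l * x) (Group.mulLeft_bijective _) fun x => ?_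
    rw [map_mul]
    rfl
  have hone : ∀ k : K, ∏ᶠ a : H, φ (f (k, a)) v = φ (k : ↥F) v * v⁻¹ := by
    intro k
    have h1 : ∀ a : H, φ (f (k, a)) v =
        (if a = 1 then φ (k : ↥F) v * v⁻¹ else 1) * φ ((k : ↥F) * a * (k : ↥F)⁻¹) v := by
      intro a
      by_cases ha : a = 1
      · subst ha; simp [f]
      · simp [f, ha]
    rw [finprod_congr h1, finprod_mul_distrib (Set.toFinite _) (Set.toFinite _),
      finprod_eq_single _ (1 : H) (fun a ha => if_neg ha), if_pos rfl]
    refine mul_eq_left.2 ?_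
    have h2 := congrArg (φ (k : ↥F)) (hfix H hH0 (φ (k : ↥F)⁻¹ v))
    rw [MulEquiv.map_finprod, map_one] at h2
    refine Eq.trans (finprod_congr fun a => ?_) h2
    rw [map_mul, map_mul]
    rfl
  have h3 : ∏ᶠ k : K, (φ (k : ↥F) v * v⁻¹) = 1 := by
    rw [← htot, finprod_curry _ (Set.toFinite _)]
    exact (finprod_congr hone).symm
  rw [finprod_mul_distrib (Set.toFinite _) (Set.toFinite _), hfix K hK0 v, one_mul] at h3
  haveI := Fintype.ofFinite K
  rw [finprod_eq_prod_of_fintype, Finset.prod_const, Finset.card_univ, inv_pow, inv_eq_one,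
    ← Nat.card_eq_fintype_card] at h3
  exact h3


end Cfsg.Agent.S0666
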