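import Cfsg.Statements.S0667
import Cfsg.Agent.Lib.PLocal.ZJStable

set_option autoImplicit false
set_option linter.style.haveILetI false
open Cfsg

namespace Cfsg.Agent.S0667
open scoped Pointwise commutatorElement
open Cfsg.Agent

/-- Glauberman's Theorem in the p-constrained, p-stable vocabulary: for odd p such a group is the product of its largest normal subgroup of order prime to p with the normalizer of Z(J(P)), and Z(J(P)) is normal when that p'-subgroup is trivial. -/
theorem result {G : Type*} [Group G] [Finite G] {p : ℕ} [Fact p.Prime] (hp : p ≠ 2) (hc : Cfsg.IsPConstrained p G) (hs : Cfsg.IsPStable p G) (P : Sylow p G) : Cfsg.pPrimeCore p G ⊔ Subgroup.normalizer (Cfsg.centerThompsonAOf ((P : Subgroup G)) : Set G) = ⊤ ∧ (Cfsg.pPrimeCore p G = ⊥ → (Cfsg.centerThompsonAOf ((P : Subgroup G))).Normal) := by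
  rw [ZJ.centerThompsonAOf_eq (p := p)]
  set f := QuotientGroup.mk' (Cfsg.pPrimeCore p G) with hf
  have hfs : Function.Surjective f := QuotientGroup.mk'_surjective _
  have hker : (Nat.card f.ker).Coprime p := by
    rw [hf, QuotientGroup.ker_mk']; exact PBasic.pPrimeCore_coprime p G
  have hinj : Set.InjOn f (P : Subgroup G) := CoprimeQuotient.injOn_of_coprime_ker f hker P.isPGroup'
  have hn := ZJ.zJ_normal hp (ZJ.isQuad_quotient hs) (PConstr.isPConstrained_iff.1 hc)
    (P.mapSurjective hfs) False
  rw [Sylow.coe_mapSurjective, ← ZJ.zJ_map f hinj] at hn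
  set Z := ZJ.zJ p False (P : Subgroup G) with hZ
  have h1 : (Subgroup.normalizer (Z : Set G)).map f = ⊤ := by
    rw [← CoprimeQuotient.normalizer_map f hfs hker (P.isPGroup'.to_le (ZJ.zJ_le _)),
      Subgroup.normalizer_eq_top_iff]
    exact hn
  have h2 := congrArg (Subgroup.comap f) h1
  rw [Subgroup.comap_map_eq, Subgroup.comap_top, hf, QuotientGroup.ker_mk', sup_comm] at h2
  refine ⟨h2, fun h0 => ?_⟩
  rw [h0, bot_sup_eq] at h2
  exact Subgroup.normalizer_eq_top_iff.1 h2


end Cfsg.Agent.S0667
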