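import Cfsg.Statements.S0668
import Cfsg.Agent.Lib.Perm.Modules
import Mathlib.LinearAlgebra.Matrix.ToLin
import Mathlib.LinearAlgebra.Dimension.Constructions
-- import your own Cfsg.Agent.* helpers here

set_option autoImplicit false
set_option linter.style.haveILetI false
open Cfsg

namespace Cfsg.Agent.S0668

/-- The equivariant linear maps between the permutation modules of two finite `G`-sets form a space whose dimension is the number of `G`-orbits on the product of the two sets. -/
theorem result {G : Type*} [Group G] {K : Type*} [Field K] {Ω₁ Ω₂ : Type*} [Fintype Ω₁] [Fintype Ω₂] [MulAction G Ω₁] [MulAction G Ω₂] : Module.finrank K ((Cfsg.permRep K G Ω₁).linHom (Cfsg.permRep K G Ω₂)).invariants = Nat.card (MulAction.orbitRel.Quotient G (Ω₁ × Ω₂)) := by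
  open Cfsg.Agent.PermModules MulAction Representation in
  classical
  let Q := orbitRel.Quotient G (Ω₁ × Ω₂)
  haveI : Fintype Q := Fintype.ofFinite Q
  let q : Ω₁ × Ω₂ → Q := fun z => Quotient.mk'' z
  let V := ((Cfsg.permRep K G Ω₁).linHom (Cfsg.permRep K G Ω₂)).invariants
  have hq : ∀ (g : G) x y, q (g • x, g • y) = q (x, y) := fun g x y => Quotient.sound ⟨g, rfl⟩
  have hV : ∀ (T : V) (g : G) x y,
      (T : (Ω₁ → K) →ₗ[K] (Ω₂ → K)) (Pi.single (g • x) 1) (g • y) =
        (T : (Ω₁ → K) →ₗ[K] (Ω₂ → K)) (Pi.single x 1) y := by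
    intro T g x y
    have h := congrFun (LinearMap.congr_fun (T.2 g) (Pi.single (g • x) 1)) (g • y)
    rw [linHom_apply, LinearMap.comp_apply, LinearMap.comp_apply, permRep_apply, permRep_single,
      inv_smul_smul, inv_smul_smul] at h
    exact h.symm
  let φ : V →ₗ[K] (Q → K) :=
    { toFun := fun T => fun o => Quotient.liftOn' o
        (fun z => (T : (Ω₁ → K) →ₗ[K] (Ω₂ → K)) (Pi.single z.1 1) z.2) (by
          rintro a b ⟨g, rfl⟩
          exact hV T g b.1 b.2)
      map_add' := fun S T => funext fun o => Quotient.inductionOn' o fun z => rfl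
      map_smul' := fun c T => funext fun o => Quotient.inductionOn' o fun z => rfl }
  have hinj : Function.Injective φ := by
    intro S T h
    refine Subtype.ext ((Pi.basisFun K Ω₁).ext fun x => funext fun y => ?_)
    rw [Pi.basisFun_apply]
    exact congrFun h (q (x, y))
  have hsurj : Function.Surjective φ := by
    intro c
    let T : (Ω₁ → K) →ₗ[K] (Ω₂ → K) :=
      { toFun := fun v y => ∑ x, c (q (x, y)) * v x
        map_add' := fun u v => funext fun y => by simp [mul_add, Finset.sum_add_distrib]
        map_smul' := fun k v => funext fun y => by simp [Finset.mul_sum, mul_left_comm] }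
    have hT : T ∈ V := by
      intro g
      refine LinearMap.ext fun v => funext fun y => ?_
      rw [linHom_apply, LinearMap.comp_apply, LinearMap.comp_apply, permRep_apply]
      refine Fintype.sum_equiv (MulAction.toPerm g) _ _ fun x => ?_
      rw [permRep_apply, inv_inv, MulAction.toPerm_apply]
      congr 1
      rw [← hq g x (g⁻¹ • y), smul_inv_smul]
    refine ⟨⟨T, hT⟩, funext fun o => Quotient.inductionOn' o fun z => ?_⟩
    show ∑ x, c (q (x, z.2)) * (Pi.single z.1 (1 : K) : Ω₁ → K) x = c (q z)
    simp [Pi.single_apply]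
  rw [LinearEquiv.finrank_eq (LinearEquiv.ofBijective φ ⟨hinj, hsurj⟩), Module.finrank_pi,
    Nat.card_eq_fintype_card]

end Cfsg.Agent.S0668
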