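import Cfsg.Statements.S0669

-- import your own Cfsg.Agent.* helpers here

set_option autoImplicit false
set_option linter.style.haveILetI false
open Cfsg

namespace Cfsg.Agent.S0669

/-- The rank of a transitive action: orbits on ordered pairs correspond to orbits of a point stabiliser. -/
theorem result {G : Type*} [Group G] {Ω : Type*} [Finite Ω] [MulAction G Ω] [MulAction.IsPretransitive G Ω] (a : Ω) : Nat.card (MulAction.orbitRel.Quotient G (Ω × Ω)) = Nat.card (MulAction.orbitRel.Quotient (MulAction.stabilizer G a) Ω) := by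
  open MulAction in
  let f : orbitRel.Quotient (stabilizer G a) Ω → orbitRel.Quotient G (Ω × Ω) :=
    Quotient.map' (fun x => (a, x)) (by
      rintro x y ⟨g, rfl⟩
      exact ⟨(g : G), Prod.ext g.2 rfl⟩)
  refine (Nat.card_congr (Equiv.ofBijective f ⟨?_, ?_⟩)).symm
  · intro o o'
    refine Quotient.inductionOn₂' o o' fun x y h => ?_
    obtain ⟨g, hg⟩ := Quotient.exact h
    have h1 : g • a = a := congrArg Prod.fst hg
    exact Quotient.sound ⟨⟨g, h1⟩, congrArg Prod.snd hg⟩
  · intro o
    refine Quotient.inductionOn' o fun z => ?_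
    obtain ⟨g, hg⟩ := exists_smul_eq G z.1 a
    refine ⟨Quotient.mk'' (g • z.2), Quotient.sound ⟨g, ?_⟩⟩
    exact Prod.ext hg rfl

end Cfsg.Agent.S0669
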