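import Cfsg.Statements.S0678
import Cfsg.Agent.Lib.Perm.Burnside
import Cfsg.Agent.Lib.Perm.IndexP
import Mathlib.GroupTheory.GroupAction.Jordan
import Mathlib.GroupTheory.Transfer
-- import your own Cfsg.Agent.* helpers here

set_option autoImplicit false
set_option linter.style.haveILetI false
open Cfsg

namespace Cfsg.Agent.S0678

variable {α : Type*} [Fintype α] [DecidableEq α]

theorem normalizer_data (hα : Fintype.card α = 7) {T : Subgroup (Equiv.Perm α)}
    (hT : MulAction.IsPretransitive T α) [Fact (Nat.Prime 7)] (P : Sylow 7 T) :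
    ∃ d : ℕ, Nat.card T = 7 * d * Nat.card (Sylow 7 T) ∧
      (T ≤ alternatingGroup α → d ∣ 3) ∧
      (d = 1 → Nat.card (Sylow 7 T) = 1) ∧
      (Nat.card (Sylow 7 T) = 1 →
        Subgroup.normalizer ((P : Subgroup T) : Set T) = ⊤ ∧ Group.IsSolvable T) := by
  have hΩ : Nat.card α = 7 := by rw [Nat.card_eq_fintype_card, hα]
  haveI := hT
  set N := Subgroup.normalizer ((P : Subgroup T) : Set T) with hN
  have hP : Nat.card (P : Subgroup T) = 7 := Cfsg.Agent.PermPrime.sylow_card hΩ P
  obtain ⟨⟨τ, hτP⟩, ho⟩ := exists_prime_orderOf_dvd_card' 7 (dvd_of_eq hP.symm)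
  rw [Subgroup.orderOf_mk] at ho
  obtain ⟨a, ha⟩ : ∃ a : α, τ • a ≠ a := by
    by_contra h
    simp only [not_exists, not_not] at h
    have : τ = 1 := FaithfulSMul.eq_of_smul_eq_smul fun x : α => by rw [h x, one_smul]
    rw [this, orderOf_one] at ho
    omega
  obtain ⟨e, he0, he⟩ := Cfsg.Agent.PermPrime.coord_of_element hΩ
    (fun x : α => by rw [← ho, pow_orderOf_eq_one, one_smul]) ha
  let φ : N →* MulAut (P : Subgroup T) := (P : Subgroup T).normalizerMonoidHom
  have hker : φ.ker = (Subgroup.centralizer ((P : Subgroup T) : Set T)).subgroupOf N :=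
    Subgroup.normalizerMonoidHom_ker _
  have hinj : Function.Injective fun g : φ.ker => (((g : N) : T)) • (e 0) := by
    intro g g' h
    have hc : ∀ (g : φ.ker), Commute ((g : N) : T) τ := fun g => by
      have := hker.le g.2
      rw [Subgroup.mem_subgroupOf, Subgroup.mem_centralizer_iff] at this
      exact (this τ hτP).symm
    have hj : ∀ m : ℕ, ((g : N) : T) • e (m : ZMod 7) = ((g' : N) : T) • e (m : ZMod 7) := by
      intro m
      induction m with
      | zero => simpa using h
      | succ m ih =>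
        rw [Nat.cast_succ, ← he, ← mul_smul, ← mul_smul, (hc g).eq, (hc g').eq, mul_smul, mul_smul, ih]
    refine Subtype.ext (Subtype.ext (FaithfulSMul.eq_of_smul_eq_smul fun x : α => ?_))
    obtain ⟨j, rfl⟩ := e.surjective x
    rw [← ZMod.natCast_zmod_val j]
    exact hj _
  haveI hPcyc : IsCyclic (P : Subgroup T) := isCyclic_of_prime_card hP
  have hPN : (P : Subgroup T) ≤ N := Subgroup.le_normalizer
  have hPker : (P : Subgroup T).subgroupOf N ≤ φ.ker := by
    intro x hx
    rw [hker, Subgroup.mem_subgroupOf, Subgroup.mem_centralizer_iff]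
    intro y hy
    letI := hPcyc.commGroup
    exact congrArg Subtype.val (mul_comm (⟨y, hy⟩ : (P : Subgroup T)) ⟨_, hx⟩)
  have hk7 : Nat.card φ.ker = 7 := by
    refine le_antisymm ?_ ?_
    · exact (Nat.card_le_card_of_injective _ hinj).trans hΩ.le
    · refine hP.ge.trans ?_
      rw [← Nat.card_congr (Subgroup.subgroupOfEquivOfLe hPN).toEquiv]
      exact Subgroup.card_le_of_le hPker
  have haut : Nat.card (MulAut (P : Subgroup T)) = 6 := by
    rw [IsCyclic.card_mulAut, hP]; rfl
  have hd : Nat.card φ.range ∣ 6 := haut ▸ Subgroup.card_subgroup_dvd_card _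
  have hNcard : Nat.card N = 7 * Nat.card φ.range := by
    rw [← φ.ker.card_mul_index, hk7, Subgroup.index_ker]
  have hidx : Nat.card (Sylow 7 T) = N.index := P.card_eq_index_normalizer
  refine ⟨Nat.card φ.range, ?_, ?_, ?_, ?_⟩
  · rw [hidx, ← hNcard, Subgroup.card_mul_index]
  · intro hTA
    have hodd : ¬ 2 ∣ Nat.card φ.range := by
      intro h2
      have : 2 ∣ Nat.card N := hNcard ▸ h2.mul_left 7
      obtain ⟨⟨s, hsN⟩, hs⟩ := exists_prime_orderOf_dvd_card' 2 this
      rw [Subgroup.orderOf_mk] at hs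
      obtain ⟨τ', e', -, -, hs'⟩ := Cfsg.Agent.PermPrime.coord_involution hΩ (by decide) P hs hsN
      have hsA := Equiv.Perm.mem_alternatingGroup.1 (hTA s.2)
      have heq : (s : Equiv.Perm α) = e'.permCongr (Equiv.neg (ZMod 7)) := by
        refine Equiv.ext fun x => ?_
        obtain ⟨j, rfl⟩ := e'.surjective x
        rw [Equiv.permCongr_apply, Equiv.symm_apply_apply]
        exact hs' j
      rw [heq, Equiv.Perm.sign_permCongr] at hsA
      exact absurd hsA (by decide)
    have h6 : Nat.card φ.range ∣ 2 * 3 := hd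
    exact ((Nat.prime_two.coprime_iff_not_dvd.2 hodd).symm).dvd_of_dvd_mul_left h6
  · intro h1
    have hNc : N ≤ Subgroup.centralizer ((P : Subgroup T) : Set T) := by
      intro x hx
      have hbot : φ.range = ⊥ := Subgroup.card_eq_one.1 h1
      have : (⟨x, hx⟩ : N) ∈ φ.ker := by
        rw [MonoidHom.mem_ker]
        exact Subgroup.mem_bot.1 (hbot ▸ (⟨_, rfl⟩ : φ ⟨x, hx⟩ ∈ φ.range))
      rwa [hker] at this
    have hcomp := MonoidHom.ker_transferSylow_isComplement' P hNc
    have hK : (MonoidHom.transferSylow P hNc).ker = ⊥ := by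
      refine Cfsg.Agent.PermThree.normal_bot_of_le_index_p hΩ ?_ _ le_rfl
      exact MonoidHom.not_dvd_card_ker_transferSylow P hNc
    rw [hK] at hcomp
    have hPtop : (P : Subgroup T) = ⊤ := Subgroup.isComplement'_bot_left.1 hcomp
    rw [hidx, Subgroup.index_eq_one]
    exact top_unique (le_trans (le_of_eq hPtop.symm) Subgroup.le_normalizer)
  · intro h1
    rw [hidx, Subgroup.index_eq_one] at h1
    refine ⟨h1, ?_⟩
    haveI : Group.IsSolvable φ.ker := by
      haveI : IsCyclic φ.ker := isCyclic_of_prime_card hk7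
      letI := this.commGroup
      exact Group.isSolvable_of_comm mul_comm
    haveI : Group.IsSolvable φ.range := by
      refine Group.isSolvable_of_comm fun x y => Subtype.ext ?_
      rw [Subgroup.coe_mul, Subgroup.coe_mul]
      refine (IsCyclic.mulAutMulEquiv (P : Subgroup T)).injective ?_
      rw [map_mul, map_mul, mul_comm]
    haveI : Group.IsSolvable N :=
      Group.isSolvable_of_ker_le_range φ.ker.subtype φ.rangeRestrict (by simp)
    exact Group.isSolvable_of_surjective (f := N.subtype) fun x => ⟨⟨x, h1.ge (Subgroup.mem_top x)⟩, rfl⟩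

theorem no_order_fifteen (hα : Fintype.card α = 7) (g : Equiv.Perm α) : orderOf g ≠ 15 := by
  intro h
  have hl := g.lcm_cycleType
  rw [h] at hl
  have hsum : g.cycleType.sum ≤ 7 := by
    rw [g.sum_cycleType, ← hα]; exact g.support.card_le_univ
  have hdiv : ∀ m ∈ g.cycleType, m ∣ 15 := fun m hm => hl ▸ Multiset.dvd_lcm hm
  have hle : ∀ m ∈ g.cycleType, m ≤ 7 := fun m hm => (Multiset.le_sum_of_mem hm).trans hsum
  have hmem : ∀ m ∈ g.cycleType, m = 3 ∨ m = 5 := by
    intro m hm
    have h1 := hle m hm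
    have h2 := Equiv.Perm.two_le_of_mem_cycleType hm
    have h3 := hdiv m hm
    interval_cases m <;> norm_num at *
  have h3 : 3 ∈ g.cycleType := by
    by_contra hc
    have : g.cycleType.lcm ∣ 5 := Multiset.lcm_dvd.2 fun m hm => by
      rcases hmem m hm with rfl | rfl
      · exact absurd hm hc
      · rfl
    rw [hl] at this
    norm_num at this
  have h5 : 5 ∈ g.cycleType := by
    by_contra hc
    have : g.cycleType.lcm ∣ 3 := Multiset.lcm_dvd.2 fun m hm => by
      rcases hmem m hm with rfl | rfl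
      · rfl
      · exact absurd hm hc
    rw [hl] at this
    norm_num at this
  obtain ⟨t, ht⟩ := Multiset.exists_cons_of_mem h3
  rw [ht, Multiset.mem_cons] at h5
  rw [ht, Multiset.sum_cons] at hsum
  have := Multiset.le_sum_of_mem (h5.resolve_left (by norm_num))
  omega

theorem no_order_315 (hα : Fintype.card α = 7) (T : Subgroup (Equiv.Perm α))
    (hc : Nat.card T = 315) : False := by
  haveI : Fact (Nat.Prime 5) := ⟨by decide⟩
  obtain ⟨Q⟩ : Nonempty (Sylow 5 T) := inferInstance
  set M := Subgroup.normalizer ((Q : Subgroup T) : Set T) with hM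
  have hQ : Nat.card (Q : Subgroup T) = 5 := by
    obtain ⟨k, hk⟩ := Q.isPGroup'.exists_card_eq
    have h1 : 5 ∣ Nat.card (Q : Subgroup T) := Q.dvd_card_of_dvd_card (by rw [hc]; norm_num)
    have h2 : Nat.card (Q : Subgroup T) ∣ 315 := hc ▸ Subgroup.card_subgroup_dvd_card _
    rw [hk] at h1 h2 ⊢
    rcases k with - | - | k
    · norm_num at h1
    · norm_num
    · exfalso
      have : 5 ^ 2 ∣ 315 := (pow_dvd_pow 5 (by omega)).trans h2
      norm_num at this
  have h3M : 3 ∣ Nat.card M := by
    have hm := M.card_mul_index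
    have hn := card_sylow_modEq_one 5 T
    rw [show Nat.card (Sylow 5 T) = M.index from Q.card_eq_index_normalizer] at hn
    have hdvd : M.index ∣ 63 := by
      have hcop : Nat.Coprime M.index 5 := by
        rw [Nat.Coprime, ← Nat.ModEq.gcd_eq hn.symm]
        norm_num
      exact hcop.dvd_of_dvd_mul_left (show M.index ∣ 5 * 63 from ⟨Nat.card M, by rw [mul_comm M.index, hm, hc]⟩)
    have := Nat.le_of_dvd (by norm_num) hdvd
    rw [hc] at hm
    unfold Nat.ModEq at hn
    have hI : M.index = 1 ∨ M.index = 21 := by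
      interval_cases h : M.index <;> first | omega | (norm_num at hdvd) | (norm_num at hn)
    rcases hI with h | h <;> rw [h] at hm <;> omega
  obtain ⟨⟨s, hsM⟩, hs⟩ := exists_prime_orderOf_dvd_card' 3 h3M
  rw [Subgroup.orderOf_mk] at hs
  obtain ⟨⟨c, hcQ⟩, hoc⟩ := exists_prime_orderOf_dvd_card' 5 (dvd_of_eq hQ.symm)
  rw [Subgroup.orderOf_mk] at hoc
  haveI : IsCyclic (Q : Subgroup T) := isCyclic_of_prime_card hQ
  let φ : M →* MulAut (Q : Subgroup T) := (Q : Subgroup T).normalizerMonoidHom
  have hφ : φ ⟨s, hsM⟩ = 1 := by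
    rw [← orderOf_eq_one_iff]
    have h1 : orderOf (φ ⟨s, hsM⟩) ∣ 3 := hs ▸ (orderOf_map_dvd φ ⟨s, hsM⟩).trans (by rw [Subgroup.orderOf_mk])
    have h2 : orderOf (φ ⟨s, hsM⟩) ∣ Nat.card (MulAut (Q : Subgroup T)) := orderOf_dvd_natCard _
    rw [IsCyclic.card_mulAut, hQ, show Nat.totient 5 = 4 from rfl] at h2
    exact Nat.dvd_one.1 ((Nat.dvd_gcd h1 h2).trans (by norm_num))
  have hcomm : Commute s c := by
    have h1 : (⟨s, hsM⟩ : M) ∈ φ.ker := hφ
    rw [show φ.ker = _ from Subgroup.normalizerMonoidHom_ker _, Subgroup.mem_subgroupOf,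
      Subgroup.mem_centralizer_iff] at h1
    exact (h1 c hcQ).symm
  have := hcomm.orderOf_mul_eq_mul_orderOf_of_coprime (by rw [hs, hoc]; norm_num)
  rw [hs, hoc, ← Subgroup.orderOf_coe] at this
  exact no_order_fifteen hα _ this


/-- A non-solvable transitive permutation group on 7 points that does not contain the alternating group is a simple group of order 168. -/
theorem result {α : Type*} [Fintype α] [DecidableEq α] (hα : Fintype.card α = 7) (G : Subgroup (Equiv.Perm α)) [MulAction.IsPretransitive G α] (hG : ¬ Group.IsSolvable G) (hA : ¬ alternatingGroup α ≤ G) : Nat.card G = 168 ∧ IsSimpleGroup G := by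
  classical
  haveI : Fact (Nat.Prime 7) := ⟨by decide⟩
  have hΩ : Nat.card α = 7 := by rw [Nat.card_eq_fintype_card, hα]
  haveI : Nontrivial α := Fintype.one_lt_card_iff_nontrivial.1 (by omega)
  let K : Subgroup (Equiv.Perm α) := G ⊓ alternatingGroup α
  have hKA : K ≤ alternatingGroup α := inf_le_right
  let ε : G →* ℤˣ := Equiv.Perm.sign.comp G.subtype
  have hεker : ε.ker = K.subgroupOf G := by
    ext x
    simp [ε, K, Subgroup.mem_subgroupOf]
  have hεidx : (K.subgroupOf G).index ∣ 2 := by
    rw [← hεker, Subgroup.index_ker]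
    exact (Subgroup.card_subgroup_dvd_card _).trans (by rw [Nat.card_eq_fintype_card, Fintype.card_units_int])
  have hKG : Nat.card (K.subgroupOf G) = Nat.card K :=
    Nat.card_congr (Subgroup.subgroupOfEquivOfLe inf_le_left).toEquiv
  have hGK : Nat.card G = Nat.card K * (K.subgroupOf G).index := by
    rw [← hKG, Subgroup.card_mul_index]
  have hKtr : MulAction.IsPretransitive K α := by
    haveI : (K.subgroupOf G).Normal := hεker ▸ inferInstance
    have hne : ¬ (K.subgroupOf G) = ⊥ := by
      intro h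
      have h7 := Cfsg.Agent.PermPrime.dvd_card_of_transitive (G := G) hΩ
      rw [hGK, ← hKG, h, Subgroup.card_bot, one_mul] at h7
      have := Nat.le_of_dvd (by norm_num) (h7.trans (h ▸ hεidx))
      omega
    haveI : MulAction.IsPreprimitive G α := MulAction.IsPreprimitive.of_prime_card (by rw [hΩ]; decide)
    have hfix : MulAction.fixedPoints (K.subgroupOf G) α ≠ Set.univ := by
      intro hu
      apply hne
      rw [Subgroup.eq_bot_iff_forall]
      intro x hx
      refine FaithfulSMul.eq_of_smul_eq_smul fun a : α => ?_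
      rw [one_smul]
      exact (hu ▸ Set.mem_univ a : a ∈ MulAction.fixedPoints (K.subgroupOf G) α) ⟨x, hx⟩
    have ht := MulAction.IsPreprimitive.isQuasiPreprimitive.isPretransitive_of_normal hfix
    refine ⟨fun a b => ?_⟩
    obtain ⟨⟨x, hx⟩, hxab⟩ := ht.exists_smul_eq a b
    exact ⟨⟨x, hx⟩, hxab⟩
  obtain ⟨P⟩ : Nonempty (Sylow 7 K) := inferInstance
  obtain ⟨d, hc, hd3, hd1, hn1⟩ := normalizer_data hα hKtr P
  have hn := card_sylow_modEq_one 7 K
  generalize Nat.card (Sylow 7 K) = n at hc hd1 hn1 hn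
  unfold Nat.ModEq at hn
  have hd3 := hd3 hKA
  have hnne : n ≠ 1 := by
    intro h
    obtain ⟨-, hKs⟩ := hn1 h
    apply hG
    haveI : Group.IsSolvable (K.subgroupOf G) :=
      Group.isSolvable_of_surjective (f := (Subgroup.subgroupOfEquivOfLe (inf_le_left : K ≤ G)).symm.toMonoidHom)
        (MulEquiv.surjective _)
    haveI : Group.IsSolvable ε.ker := hεker ▸ this
    exact Group.isSolvable_of_ker_le_range ε.ker.subtype ε (by simp)
  have hd : d = 3 := by
    rcases (Nat.dvd_prime (by decide)).1 hd3 with h | h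
    · exact absurd (hd1 h) hnne
    · exact h
  subst hd
  have hA2520 : Nat.card (alternatingGroup α) = 2520 := by
    have := two_mul_nat_card_alternatingGroup (α := α)
    rw [Nat.card_perm, hΩ, show Nat.factorial 7 = 5040 from rfl] at this
    omega
  have hK : Nat.card K = 168 := by
    have hdvd : Nat.card K ∣ 2520 := hA2520 ▸ Subgroup.card_dvd_of_le hKA
    have hn120 : n ∣ 120 := by
      rw [hc, show (2520 : ℕ) = 7 * 3 * 120 from rfl] at hdvd
      exact Nat.dvd_of_mul_dvd_mul_left (by norm_num) hdvd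
    have := Nat.le_of_dvd (by norm_num) hn120
    have hncases : n = 8 ∨ n = 15 ∨ n = 120 := by
      interval_cases n <;> first | omega | (norm_num at hn120)
    rcases hncases with rfl | rfl | rfl
    · exact hc
    · exact (no_order_315 hα K hc).elim
    · exact absurd (Subgroup.eq_of_le_of_card_ge hKA (by rw [hA2520, hc])) fun h => hA (h ▸ inf_le_left)
  have hG168 : Nat.card G = 168 := by
    rcases (Nat.dvd_prime Nat.prime_two).1 hεidx with h | h
    · rw [hGK, hK, h]
    · exfalso
      have hG336 : Nat.card G = 336 := by rw [hGK, hK, h]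
      haveI : MulAction.IsPreprimitive G α := MulAction.IsPreprimitive.of_prime_card (by rw [hΩ]; decide)
      haveI : Fact (Nat.Prime 2) := ⟨Nat.prime_two⟩
      obtain ⟨S, hS⟩ := (show 2 ^ 4 ∣ Nat.card G by rw [hG336]; norm_num) |>
        Sylow.exists_subgroup_card_pow_prime 2
      have hSmap : Nat.card (S.map G.subtype) = 16 := by
        rw [Subgroup.card_map_of_injective G.subtype_injective, hS]; norm_num
      obtain ⟨R, hR⟩ := (IsPGroup.of_card (n := 4) (hSmap.trans (by norm_num)) :
        IsPGroup 2 (S.map G.subtype)).exists_le_sylow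
      have hRcard : Nat.card (R : Subgroup (Equiv.Perm α)) = 16 := by
        obtain ⟨k, hk⟩ := R.isPGroup'.exists_card_eq
        have h1 := Subgroup.card_subgroup_dvd_card (R : Subgroup (Equiv.Perm α))
        rw [Nat.card_perm, hΩ, show Nat.factorial 7 = 5040 from rfl, hk] at h1
        have h4 : k ≤ 4 := by
          by_contra hc'
          have : 2 ^ 5 ∣ 5040 := (pow_dvd_pow 2 (by omega)).trans h1
          norm_num at this
        have h5 := Subgroup.card_le_of_le hR
        rw [hSmap, hk] at h5
        have h6 := Nat.pow_le_pow_right (show 1 ≤ 2 by norm_num) h4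
        omega
      have hRG : (R : Subgroup (Equiv.Perm α)) ≤ G := by
        rw [← Subgroup.eq_of_le_of_card_ge hR (by rw [hRcard, hSmap])]
        exact Subgroup.map_subtype_le _
      obtain ⟨a, b, hab⟩ := exists_pair_ne α
      have ho : orderOf (Equiv.swap a b) = 2 := by
        rw [orderOf_eq_prime_iff]
        exact ⟨by rw [pow_two, Equiv.swap_mul_self], by rwa [Ne, Equiv.swap_eq_one_iff]⟩
      obtain ⟨R', hR'⟩ := (IsPGroup.of_card (n := 1) (by rw [Nat.card_zpowers, ho, pow_one]) :
        IsPGroup 2 (Subgroup.zpowers (Equiv.swap a b))).exists_le_sylow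
      obtain ⟨g, hg⟩ := MulAction.exists_smul_eq (Equiv.Perm α) R' R
      have hmem : g * Equiv.swap a b * g⁻¹ ∈ G := by
        apply hRG
        rw [← hg]
        exact ⟨_, hR' (Subgroup.mem_zpowers _), rfl⟩
      have hswap : (g * Equiv.swap a b * g⁻¹).IsSwap :=
        ⟨g a, g b, g.injective.ne hab, (Equiv.swap_apply_apply g a b).symm⟩
      have htop := Equiv.Perm.subgroup_eq_top_of_isPreprimitive_of_isSwap_mem inferInstance _ hswap hmem
      exact hA (by rw [htop]; exact le_top)
  have hKeq : K = G := Subgroup.eq_of_le_of_card_ge inf_le_left (by rw [hG168, hK])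
  refine ⟨hG168, ?_⟩
  haveI : Nontrivial G := Finite.one_lt_card_iff_nontrivial.1 (by omega)
  refine ⟨fun N hN => ?_⟩
  rcases eq_or_ne N ⊥ with hb | hb
  · exact Or.inl hb
  refine Or.inr ?_
  haveI := hN
  haveI : MulAction.IsPreprimitive G α := MulAction.IsPreprimitive.of_prime_card (by rw [hΩ]; decide)
  let N' : Subgroup (Equiv.Perm α) := N.map G.subtype
  have hN'tr : MulAction.IsPretransitive N' α := by
    have hfix : MulAction.fixedPoints N α ≠ Set.univ := by
      intro hu
      apply hb
      rw [Subgroup.eq_bot_iff_forall]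
      intro x hx
      refine FaithfulSMul.eq_of_smul_eq_smul fun a : α => ?_
      rw [one_smul]
      exact (hu ▸ Set.mem_univ a : a ∈ MulAction.fixedPoints N α) ⟨x, hx⟩
    have ht := MulAction.IsPreprimitive.isQuasiPreprimitive.isPretransitive_of_normal hfix
    refine ⟨fun a b => ?_⟩
    obtain ⟨⟨x, hx⟩, hxab⟩ := ht.exists_smul_eq a b
    exact ⟨⟨(x : Equiv.Perm α), x, hx, rfl⟩, hxab⟩
  have hN'c : Nat.card N' = Nat.card N := Subgroup.card_map_of_injective G.subtype_injective
  obtain ⟨P'⟩ : Nonempty (Sylow 7 N') := inferInstance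
  obtain ⟨d', hc', hd3', hd1', -⟩ := normalizer_data hα hN'tr P'
  have hd3' := hd3' ((Subgroup.map_subtype_le N).trans (hKeq ▸ hKA))
  have hN168 : Nat.card N ∣ 168 := hG168 ▸ Subgroup.card_subgroup_dvd_card N
  have hmod := card_sylow_modEq_one 7 N'
  rw [hN'c] at hc'
  generalize hn' : Nat.card (Sylow 7 N') = n' at hc' hd1' hmod
  have hn'24 : n' ∣ 24 := by
    rw [hc', mul_assoc, show (168 : ℕ) = 7 * 24 from rfl] at hN168
    exact (dvd_mul_left n' d').trans (Nat.dvd_of_mul_dvd_mul_left (by norm_num) hN168)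
  have := Nat.le_of_dvd (by norm_num) hn'24
  unfold Nat.ModEq at hmod
  have hn'cases : n' = 1 ∨ n' = 8 := by
    interval_cases n' <;> first | omega | (norm_num at hn'24)
  rcases hn'cases with h1 | h8
  · exfalso
    obtain ⟨PG⟩ : Nonempty (Sylow 7 G) := inferInstance
    obtain ⟨dG, hcG, -, -, hnG⟩ := normalizer_data hα (inferInstance : MulAction.IsPretransitive G α) PG
    apply hG
    refine (hnG ?_).2
    have hPGc : Nat.card (PG : Subgroup G) = 7 := Cfsg.Agent.PermPrime.sylow_card hΩ PG
    haveI : Subsingleton (Sylow 7 N') := (Nat.card_eq_one_iff_unique.1 (hn'.trans h1)).1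
    have huniq : ∀ R : Subgroup G, R ≤ N → Nat.card R = 7 →
        R.map G.subtype = (P' : Subgroup N').map N'.subtype := by
      intro R hR hR7
      have hle : R.map G.subtype ≤ N' := Subgroup.map_mono hR
      have hc7 : Nat.card ((R.map G.subtype).subgroupOf N') = 7 := by
        rw [Nat.card_congr (Subgroup.subgroupOfEquivOfLe hle).toEquiv,
          Subgroup.card_map_of_injective G.subtype_injective, hR7]
      obtain ⟨Q, hQ⟩ := (IsPGroup.of_card (n := 1) (hc7.trans (pow_one 7).symm) :
        IsPGroup 7 ((R.map G.subtype).subgroupOf N')).exists_le_sylow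
      have hQc : Nat.card (Q : Subgroup N') = 7 := by
        haveI := hN'tr
        exact Cfsg.Agent.PermPrime.sylow_card hΩ Q
      have := Subgroup.eq_of_le_of_card_ge hQ (by rw [hc7, hQc])
      rw [← Subgroup.map_subgroupOf_eq_of_le hle, this, Subsingleton.elim Q P']
    have hidx : Nat.Coprime N.index 7 := by
      rw [Nat.coprime_comm, (show Nat.Prime 7 by decide).coprime_iff_not_dvd]
      intro h7
      have hm := N.card_mul_index
      obtain ⟨c, hc7⟩ := h7
      rw [hG168, hc', hc7] at hm
      have : 7 * 7 * (d' * n' * c) = 168 := by rw [← hm]; ring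
      omega
    have hPN : (PG : Subgroup G) ≤ N := by
      intro x hx
      have hxo : orderOf x ∣ 7 := by
        rw [← hPGc, ← Subgroup.orderOf_mk (H := (PG : Subgroup G)) x hx]
        exact orderOf_dvd_natCard _
      obtain ⟨m, hm⟩ := exists_pow_eq_self_of_coprime (x := x) (n := N.index)
        (Nat.Coprime.coprime_dvd_right hxo hidx)
      rw [← hm]
      exact pow_mem (N.pow_index_mem x) m
    rw [Nat.card_eq_one_iff_unique]
    refine ⟨⟨fun Q₁ Q₂ => ?_⟩, inferInstance⟩
    suffices hall : ∀ Q : Sylow 7 G, (Q : Subgroup G).map G.subtype = (P' : Subgroup N').map N'.subtype by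
      exact Sylow.ext (Subgroup.map_injective G.subtype_injective ((hall Q₁).trans (hall Q₂).symm))
    intro Q
    obtain ⟨g, rfl⟩ := MulAction.exists_smul_eq G PG Q
    refine huniq _ ?_ ?_
    · rw [Sylow.coe_subgroup_smul]
      rintro _ ⟨x, hx, rfl⟩
      exact hN.conj_mem x (hPN hx) g
    · exact Cfsg.Agent.PermPrime.sylow_card hΩ _
  · subst h8
    rw [← Subgroup.card_eq_iff_eq_top, hc', hG168]
    rcases (Nat.dvd_prime (by decide)).1 hd3' with rfl | rfl
    · have := hd1' rfl
      omega
    · rfl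

end Cfsg.Agent.S0678
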