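import Cfsg.Statements.S0680
import Cfsg.Agent.Lib.Perm.Sharp
-- import your own Cfsg.Agent.* helpers here

set_option autoImplicit false
set_option linter.style.haveILetI false
open Cfsg

namespace Cfsg.Agent.S0680

/-- A finite sharply doubly transitive permutation group has degree a prime power `p ^ j`; a Sylow `p`-subgroup is normal, elementary abelian and regular, and consists of the identity together with the elements without fixed points. (Frobenius' Theorem is not needed.) -/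
theorem result {α : Type*} [Fintype α] [DecidableEq α] (G : Subgroup (Equiv.Perm α)) [MulAction.IsMultiplyPretransitive G α 2] (hsharp : ∀ x : Fin 2 ↪ α, MulAction.stabilizer G x = ⊥) (h2 : 2 ≤ Fintype.card α) : ∃ p j : ℕ, p.Prime ∧ 1 ≤ j ∧ Fintype.card α = p ^ j ∧ ∀ (hp : Fact p.Prime) (P : Sylow p G), (P : Subgroup G).Normal ∧ IsMulCommutative (P : Subgroup G) ∧ (∀ x ∈ (P : Subgroup G), x ^ p = 1) ∧ MulAction.IsPretransitive (P : Subgroup G) α ∧ (∀ a : α, MulAction.stabilizer (P : Subgroup G) a = ⊥) ∧ ∀ g : G, g ∈ (P : Subgroup G) ↔ g = 1 ∨ ∀ a : α, g • a ≠ a := by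
  obtain ⟨p, j, N, hp, hj, hn, hN, hNc, hidx, hcomm, hpow, hmem, hreg⟩ :=
    PermSharp.exists_regular_normal (G := G) (Ω := α) inferInstance
      (by rwa [Nat.card_eq_fintype_card]) (PermSharp.sharp_of_stabilizer G hsharp)
  refine ⟨p, j, hp, hj, by rw [← Nat.card_eq_fintype_card, hn], fun hpF P => ?_⟩
  haveI := hpF
  have hpdvd : ¬ p ∣ N.index := by
    rw [hidx, hn]
    intro hd
    have h1 : p ∣ p ^ j := dvd_pow_self p (by omega)
    have := Nat.dvd_sub h1 hd
    rw [Nat.sub_sub_self (Nat.one_le_pow _ _ hp.pos)] at this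
    exact hp.ne_one (Nat.dvd_one.1 this)
  have hNp : IsPGroup p N := IsPGroup.of_card (hNc.trans hn)
  let Q : Sylow p G := hNp.toSylow hpdvd
  have hQ : (Q : Subgroup G) = N := rfl
  haveI : (Q : Subgroup G).Normal := hQ ▸ hN
  haveI := Sylow.unique_of_normal Q inferInstance
  have hPQ : (P : Subgroup G) = N := by rw [Subsingleton.elim P Q, hQ]
  rw [hPQ]
  refine ⟨hN, ⟨⟨fun x y => Subtype.ext (hcomm x x.2 y y.2)⟩⟩, hpow, ⟨fun a b => ?_⟩, fun a => ?_, hmem⟩
  · obtain ⟨g, ⟨hg, hgb⟩, -⟩ := hreg a b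
    exact ⟨⟨g, hg⟩, hgb⟩
  · rw [eq_bot_iff]
    intro g hg
    obtain ⟨u, -, hu⟩ := hreg a a
    exact Subtype.ext ((hu (g : G) ⟨g.2, hg⟩).trans (hu 1 ⟨N.one_mem, one_smul G a⟩).symm)

end Cfsg.Agent.S0680
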