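import Cfsg.Statements.S0681
import Mathlib.GroupTheory.GroupAction.MultipleTransitivity
-- import your own Cfsg.Agent.* helpers here

set_option autoImplicit false
set_option linter.style.haveILetI false
open Cfsg

namespace Cfsg.Agent.S0681

/-- The affine maps `x ↦ x * a + b`, `a ≠ 0`, of a near-field form a sharply doubly transitive permutation group. -/
theorem result {F : Type*} [Cfsg.NearField F] : ∃ H : Subgroup (Equiv.Perm F), (∀ σ : Equiv.Perm F, σ ∈ H ↔ ∃ a b : F, a ≠ 0 ∧ ∀ x : F, σ x = x * a + b) ∧ MulAction.IsMultiplyPretransitive H F 2 ∧ ∀ x : Fin 2 ↪ F, MulAction.stabilizer H x = ⊥ := by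
  have zero_mul' : ∀ a : F, (0 : F) * a = 0 := fun a => by
    have h := Cfsg.NearField.right_distrib (0 : F) 0 a
    rw [add_zero] at h
    exact left_eq_add.1 h
  have neg_mul' : ∀ x a : F, (-x) * a = -(x * a) := fun x a => by
    refine eq_neg_of_add_eq_zero_left ?_
    rw [← Cfsg.NearField.right_distrib, neg_add_cancel, zero_mul']
  have hne : ∀ a b : F, a ≠ 0 → b ≠ 0 → a * b ≠ 0 := fun a b ha hb h => ha (by
    obtain ⟨c, hc, -⟩ := Cfsg.NearField.exists_inv b hb
    have := congrArg (· * c) h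
    simp only [mul_assoc, hc, mul_one, zero_mul'] at this
    exact this)
  let H : Subgroup (Equiv.Perm F) :=
    { carrier := {σ | ∃ a b : F, a ≠ 0 ∧ ∀ x : F, σ x = x * a + b}
      one_mem' := ⟨1, 0, fun h => Cfsg.NearField.zero_ne_one h.symm, fun x => by simp⟩
      mul_mem' := by
        rintro σ τ ⟨a, b, ha, hσ⟩ ⟨c, d, hc, hτ⟩
        refine ⟨c * a, d * a + b, hne c a hc ha, fun x => ?_⟩
        rw [Equiv.Perm.coe_mul, Function.comp_apply, hτ, hσ, Cfsg.NearField.right_distrib,
          mul_assoc, add_assoc]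
      inv_mem' := by
        rintro σ ⟨a, b, ha, hσ⟩
        obtain ⟨a', h1, h2⟩ := Cfsg.NearField.exists_inv a ha
        have ha' : a' ≠ 0 := fun h => Cfsg.NearField.zero_ne_one
          (by rw [← h1, h, Cfsg.NearField.mul_zero])
        refine ⟨a', (-b) * a', ha', fun x => ?_⟩
        apply σ.injective
        rw [Equiv.Perm.inv_def, Equiv.apply_symm_apply, hσ, Cfsg.NearField.right_distrib,
          mul_assoc, mul_assoc, h2, mul_one, mul_one, neg_add_cancel_right] }
  have hmk : ∀ a b : F, a ≠ 0 → ∃ σ : H, ∀ x : F, σ • x = x * a + b := by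
    intro a b ha
    obtain ⟨a', h1, h2⟩ := Cfsg.NearField.exists_inv a ha
    refine ⟨⟨⟨fun x => x * a + b, fun x => (x + -b) * a', fun x => ?_, fun x => ?_⟩,
      a, b, ha, fun x => rfl⟩, fun x => rfl⟩
    · simp only [add_neg_cancel_right, mul_assoc, h1, mul_one]
    · simp only [mul_assoc, h2, mul_one, neg_add_cancel_right]
  refine ⟨H, fun σ => Iff.rfl, ?_, fun x => ?_⟩
  · rw [MulAction.is_two_pretransitive_iff]
    have h01 : ∀ c d : F, c ≠ d → ∃ σ : H, σ • (0 : F) = c ∧ σ • (1 : F) = d := by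
      intro c d hcd
      obtain ⟨σ, hσ⟩ := hmk (d + -c) c (fun h => hcd (by
        rw [← add_neg_cancel_right d (-c), h]; simp))
      exact ⟨σ, by rw [hσ, zero_mul', zero_add], by rw [hσ, one_mul, neg_add_cancel_right]⟩
    intro a b c d hab hcd
    obtain ⟨σ, hσ0, hσ1⟩ := h01 a b hab
    obtain ⟨τ, hτ0, hτ1⟩ := h01 c d hcd
    exact ⟨τ * σ⁻¹, by rw [mul_smul, ← hσ0, inv_smul_smul, hτ0],
      by rw [mul_smul, ← hσ1, inv_smul_smul, hτ1]⟩
  · rw [eq_bot_iff]
    intro σ hσ
    obtain ⟨a, b, ha, hab⟩ := σ.2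
    have hx : ∀ i, (x i) * a + b = x i := fun i => by
      rw [← hab]
      exact DFunLike.congr_fun (MulAction.mem_stabilizer_iff.1 hσ) i
    have hd : x 0 + -x 1 ≠ 0 := fun h => (by decide : (0 : Fin 2) ≠ 1)
      (x.injective (add_neg_eq_zero.1 h))
    have e : (x 0 + -x 1) * a = x 0 + -x 1 := by
      rw [Cfsg.NearField.right_distrib, neg_mul', eq_add_neg_of_add_eq (hx 0),
        eq_add_neg_of_add_eq (hx 1), neg_add_rev, neg_neg, add_assoc, ← add_assoc (-b) b,
        neg_add_cancel, zero_add]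
    obtain ⟨z', -, hz'⟩ := Cfsg.NearField.exists_inv _ hd
    have ha1 : a = 1 := by
      have := congrArg (z' * ·) e
      simp only [← mul_assoc, hz', one_mul] at this
      exact this
    have hb : b = 0 := by
      have := hx 0
      rwa [ha1, mul_one, add_eq_left] at this
    exact Subtype.ext (Equiv.ext fun z => by rw [hab, ha1, hb, mul_one, add_zero]; rfl)

end Cfsg.Agent.S0681
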