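import Cfsg.Statements.S0682
import Mathlib.GroupTheory.Sylow
import Mathlib.GroupTheory.PGroup
-- import your own Cfsg.Agent.* helpers here

set_option autoImplicit false
set_option linter.style.haveILetI false
open Cfsg

namespace Cfsg.Agent.S0682

/-- A finite near-field has prime-power order; its additive group is commutative of prime exponent. -/
theorem result {F : Type*} [Cfsg.NearField F] [Finite F] : ∃ p j : ℕ, p.Prime ∧ 1 ≤ j ∧ Nat.card F = p ^ j ∧ (∀ x y : F, x + y = y + x) ∧ ∀ x : F, p • x = 0 := by
  have zero_mul' : ∀ a : F, (0 : F) * a = 0 := fun a => by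
    have h := Cfsg.NearField.right_distrib (0 : F) 0 a
    rw [add_zero] at h
    exact left_eq_add.1 h
  haveI : Nontrivial F := ⟨0, 1, Cfsg.NearField.zero_ne_one⟩
  obtain ⟨p, hp, hpd⟩ := Nat.exists_prime_and_dvd
    (Finite.one_lt_card (α := Multiplicative F)).ne'
  haveI := Fact.mk hp
  obtain ⟨u, hu⟩ := exists_prime_orderOf_dvd_card' p hpd
  have hu0 : Multiplicative.toAdd u ≠ 0 := fun h => by
    have h1 : u = 1 := h
    rw [h1, orderOf_one] at hu
    exact hp.ne_one hu.symm
  have hmove : ∀ z x : F, z ≠ 0 → ∃ a : F, x = z * a := fun z x hz => by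
    obtain ⟨z', hz', -⟩ := Cfsg.NearField.exists_inv z hz
    exact ⟨z' * x, by rw [← mul_assoc, hz', one_mul]⟩
  have hexp : ∀ x : F, p • x = 0 := fun x => by
    obtain ⟨a, rfl⟩ := hmove _ x hu0
    have h1 : p • Multiplicative.toAdd u = 0 := by
      rw [← toAdd_pow, ← hu, pow_orderOf_eq_one, toAdd_one]
    have h2 : ∀ n : ℕ, n • (Multiplicative.toAdd u * a) = (n • Multiplicative.toAdd u) * a := by
      intro n
      induction n with
      | zero => rw [zero_smul, zero_smul, zero_mul']
      | succ n ih => rw [succ_nsmul, succ_nsmul, ih, Cfsg.NearField.right_distrib]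
    rw [h2, h1, zero_mul']
  have hP : IsPGroup p (Multiplicative F) := fun x => ⟨1, by
    rw [pow_one]; exact congrArg Multiplicative.ofAdd (hexp (Multiplicative.toAdd x))⟩
  obtain ⟨j, hj⟩ := hP.exists_card_eq
  refine ⟨p, j, hp, ?_, (Nat.card_congr Multiplicative.ofAdd).trans hj, ?_, hexp⟩
  · by_contra hj0
    have := Finite.one_lt_card (α := Multiplicative F)
    rw [hj, show j = 0 by omega, pow_zero] at this
    omega
  · haveI := hP.center_nontrivial
    obtain ⟨z, hz⟩ := exists_ne (1 : Subgroup.center (Multiplicative F))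
    have hz0 : Multiplicative.toAdd (z : Multiplicative F) ≠ 0 := fun h => hz (Subtype.ext h)
    intro x y
    obtain ⟨a, rfl⟩ := hmove _ x hz0
    rcases eq_or_ne a 0 with rfl | ha
    · rw [Cfsg.NearField.mul_zero, zero_add, add_zero]
    obtain ⟨a', -, ha'⟩ := Cfsg.NearField.exists_inv a ha
    have hy : y = (y * a') * a := by rw [mul_assoc, ha', mul_one]
    have hc : Multiplicative.toAdd (z : Multiplicative F) + y * a' =
        y * a' + Multiplicative.toAdd (z : Multiplicative F) :=
      congrArg Multiplicative.toAdd (Subgroup.mem_center_iff.1 z.2 (Multiplicative.ofAdd (y * a'))).symm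
    rw [hy, ← Cfsg.NearField.right_distrib, hc, Cfsg.NearField.right_distrib]

end Cfsg.Agent.S0682
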