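import Cfsg.Statements.S0683
import Cfsg.Agent.Lib.Perm.Sharp
-- import your own Cfsg.Agent.* helpers here

set_option autoImplicit false
set_option linter.style.haveILetI false
open Cfsg

namespace Cfsg.Agent.S0683

/-- A finite sharply doubly transitive permutation group is the affine group of a near-field: the permuted set carries a near-field structure for which the group consists exactly of the maps `x ↦ x * a + b` with `a ≠ 0`. -/
theorem result {α : Type*} [Fintype α] [DecidableEq α] (H : Subgroup (Equiv.Perm α)) [MulAction.IsMultiplyPretransitive H α 2] (hsharp : ∀ x : Fin 2 ↪ α, MulAction.stabilizer H x = ⊥) (h2 : 2 ≤ Fintype.card α) : ∃ _ : Cfsg.NearField α, ∀ σ : Equiv.Perm α, σ ∈ H ↔ ∃ a b : α, a ≠ 0 ∧ ∀ x : α, σ x = x * a + b := by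
  classical
  obtain ⟨p, j, N, hp, hj, hn, hN, hNc, hidx, hcomm, hpow, hmem, hreg⟩ :=
    PermSharp.exists_regular_normal (G := H) (Ω := α) inferInstance
      (by rwa [Nat.card_eq_fintype_card]) (PermSharp.sharp_of_stabilizer H hsharp)
  have hs := PermSharp.sharp_of_stabilizer H hsharp
  have h2' : ∀ {a b c d : α}, a ≠ b → c ≠ d → ∃ g : H, g • a = c ∧ g • b = d :=
    MulAction.is_two_pretransitive_iff.1 inferInstance
  obtain ⟨i, o, hio⟩ := Fintype.exists_pair_of_one_lt_card (α := α) (by omega)
  choose τ hτ hτu using fun b : α => hreg o b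
  have hτo : ∀ b, τ b • o = b := fun b => (hτ b).2
  have hτeq : ∀ b g, g ∈ N → g • o = b → g = τ b := fun b g h1 h2 => hτu b g ⟨h1, h2⟩
  have hμ : ∀ a : α, a ≠ o → ∃ g : H, g • o = o ∧ g • i = a := fun a ha =>
    h2' hio.symm ha.symm
  choose μ hμo hμi using hμ
  have hμeq : ∀ a (ha : a ≠ o) (g : H), g • o = o → g • i = a → g = μ a ha := by
    intro a ha g h1 h2
    have := hs ((μ a ha)⁻¹ * g) o i hio.symm
      (by rw [mul_smul, h1, inv_smul_eq_iff]; exact (hμo a ha).symm)
      (by rw [mul_smul, h2, inv_smul_eq_iff]; exact (hμi a ha).symm)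
    exact (inv_mul_eq_one.1 this).symm
  let ad : α → α → α := fun x y => τ y • x
  let ml : α → α → α := fun x a => if ha : a = o then o else μ a ha • x
  have had : ∀ x y, ad x y = (τ x * τ y) • o := fun x y => by
    rw [hcomm _ (hτ x).1 _ (hτ y).1, mul_smul, hτo]
  have hτad : ∀ x y, τ (ad x y) = τ x * τ y := fun x y =>
    (hτeq _ _ (N.mul_mem (hτ x).1 (hτ y).1) (had x y).symm).symm
  have hτzero : τ o = 1 := (hτeq o 1 N.one_mem (one_smul _ _)).symm
  have hμne : ∀ a ha (b : α), b ≠ o → μ a ha • b ≠ o := fun a ha b hb h =>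
    hb (MulAction.injective (μ a ha) (h.trans (hμo a ha).symm))
  have hoi : ¬ o = i := fun h => hio h.symm
  have hμ1 : ∀ x : α, μ i hio • x = x := fun x => by
    rw [← hμeq i hio 1 (one_smul _ _) (one_smul _ _), one_smul]
  let nf : Cfsg.NearField α :=
    { add := ad
      zero := o
      neg := fun x => (τ x)⁻¹ • o
      add_assoc := fun x y z => by
        show τ z • (τ y • x) = τ (ad y z) • x
        rw [hτad, hcomm _ (hτ y).1 _ (hτ z).1, mul_smul]
      zero_add := fun x => hτo x
      add_zero := fun (x : α) => by show τ o • x = x; rw [hτzero, one_smul]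
      neg_add_cancel := fun x => smul_inv_smul (τ x) o
      nsmul := @nsmulRec α ⟨o⟩ ⟨ad⟩
      zsmul := @zsmulRec α ⟨o⟩ ⟨ad⟩ ⟨fun x => (τ x)⁻¹ • o⟩
        (@nsmulRec α ⟨o⟩ ⟨ad⟩)
      mul := ml
      one := i
      mul_assoc := fun x a b => by
        show ml (ml x a) b = ml x (ml a b)
        by_cases hb : b = o
        · simp [ml, hb]
        by_cases ha : a = o
        · simp [ml, ha, hb, hμo b hb]
        · have hab := hμne b hb a ha
          simp only [ml, dif_neg ha, dif_neg hb, dif_neg hab]
          rw [← mul_smul, hμeq _ hab (μ b hb * μ a ha) (by rw [mul_smul, hμo, hμo])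
            (by rw [mul_smul, hμi])]
      one_mul := fun a => by
        show ml i a = a
        by_cases ha : a = o
        · simp [ml, ha]
        · simp only [ml, dif_neg ha, hμi]
      mul_one := fun a => by
        show ml a i = a
        simp only [ml, dif_neg hio, hμ1]
      right_distrib := fun x y a => by
        show ml (ad x y) a = ad (ml x a) (ml y a)
        by_cases ha : a = o
        · simp only [ml, dif_pos ha, ad, hτzero, one_smul]
        · simp only [ml, dif_neg ha]
          have hc : μ a ha * τ y * (μ a ha)⁻¹ = τ (μ a ha • y) :=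
            hτeq _ _ (hN.conj_mem _ (hτ y).1 _) (by
              rw [mul_smul, mul_smul, inv_smul_eq_iff.2 (hμo a ha).symm, hτo])
          show μ a ha • (τ y • x) = τ (μ a ha • y) • (μ a ha • x)
          rw [← hc, ← mul_smul, ← mul_smul, inv_mul_cancel_right]
      mul_zero := fun a => by
        show ml a o = o
        simp [ml]
      zero_ne_one := hio.symm
      exists_inv := fun a (ha : a ≠ o) => by
        have hb : (μ a ha)⁻¹ • i ≠ o := fun h => hio (by
          rw [inv_smul_eq_iff, hμo] at h; exact h)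
        refine ⟨(μ a ha)⁻¹ • i, ?_, ?_⟩
        · show ml a ((μ a ha)⁻¹ • i) = i
          simp only [ml, dif_neg hb]
          rw [← hμeq _ hb (μ a ha)⁻¹ (inv_smul_eq_iff.2 (hμo a ha).symm) rfl, inv_smul_eq_iff, hμi]
        · show ml ((μ a ha)⁻¹ • i) a = i
          simp only [ml, dif_neg ha, smul_inv_smul] }
  refine ⟨nf, fun σ => ⟨fun hσ => ?_, ?_⟩⟩
  · set g : H := ⟨σ, hσ⟩ with hg
    set b := g • o with hbdef
    have hgo : ((τ b)⁻¹ * g) • o = o := by
      rw [mul_smul, ← hbdef, inv_smul_eq_iff, hτo]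
    have ha : ((τ b)⁻¹ * g) • i ≠ o := fun h =>
      hio (MulAction.injective _ (h.trans hgo.symm))
    refine ⟨_, b, ha, fun x => ?_⟩
    show g • x = ad (ml x _) b
    simp only [ad, ml, dif_neg ha]
    rw [← hμeq _ ha _ hgo rfl, ← mul_smul, mul_inv_cancel_left]
  · rintro ⟨a, b, ha, hσ⟩
    have : σ = ((τ b * μ a ha : H) : Equiv.Perm α) := Equiv.ext fun x => by
      rw [hσ]
      show ad (ml x a) b = (τ b * μ a ha) • x
      simp only [ad, ml, dif_neg (show ¬ a = o from ha), mul_smul]
    rw [this]
    exact (τ b * μ a ha).2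

end Cfsg.Agent.S0683
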