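import Cfsg.Statements.S0684
import Cfsg.Agent.Lib.NearField.TypeTwo
-- import your own Cfsg.Agent.* helpers here

set_option autoImplicit false
set_option linter.style.haveILetI false
open Cfsg

namespace Cfsg.Agent.S0684

/-- Point stabiliser of a sharply doubly transitive group not of semilinear type: a maximal normal abelian subgroup `A` of a linear group `H` that is regular on non-zero vectors and has no irreducible cyclic normal subgroup is cyclic and reducible, and the order of `A` divides `p ^ k - 1` for `k` the dimension of a minimal `A`-invariant subspace. -/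
theorem result {p : ℕ} [Fact p.Prime] {V : Type*} [AddCommGroup V] [Module (ZMod p) V] [Finite V] (H : Subgroup (V ≃ₗ[ZMod p] V)) (hreg : ∀ v w : V, v ≠ 0 → w ≠ 0 → ∃! h : H, (h : V ≃ₗ[ZMod p] V) v = w) (hI : ∀ A : Subgroup H, A.Normal → IsCyclic A → ∃ W : Submodule (ZMod p) V, W ≠ ⊥ ∧ W ≠ ⊤ ∧ ∀ a ∈ A, ∀ v ∈ W, ((a : H) : V ≃ₗ[ZMod p] V) v ∈ W) (A : Subgroup H) (hAn : A.Normal) (hAc : IsMulCommutative A) (hAmax : ∀ B : Subgroup H, B.Normal → IsMulCommutative B → A ≤ B → B = A) : IsCyclic A ∧ ∃ W : Submodule (ZMod p) V, W ≠ ⊥ ∧ W ≠ ⊤ ∧ (∀ a ∈ A, ∀ v ∈ W, ((a : H) : V ≃ₗ[ZMod p] V) v ∈ W) ∧ (∀ W' : Submodule (ZMod p) V, W' ≤ W → (∀ a ∈ A, ∀ v ∈ W', ((a : H) : V ≃ₗ[ZMod p] V) v ∈ W') → W' = ⊥ ∨ W' = W) ∧ Nat.card A ∣ p ^ Module.finrank (ZMod p) W - 1 := by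
  classical
  haveI : Finite (V ≃ₗ[ZMod p] V) := Finite.of_injective _ DFunLike.coe_injective
  haveI : Nontrivial V := by
    obtain ⟨W, hW0, -, -⟩ := hI ⊥ inferInstance inferInstance
    by_contra hno
    rw [not_nontrivial_iff_subsingleton] at hno
    exact hW0 (Subsingleton.elim _ _)
  have h : NearField.Reg H.subtype := ⟨Subtype.val_injective,
    fun v w hv hw => (hreg v w hv hw).exists,
    fun v hv g hg => (hreg v v hv hv).unique hg rfl⟩

  haveI := hAn
  haveI := hAc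
  obtain ⟨e, d, he, hd, hK, hV, hA, -⟩ := NearField.exponent_two_le h hI A
  obtain ⟨-, -, -, -, -, -, -, hcyc, -⟩ := NearField.field_data h A
  refine ⟨hcyc, ?_⟩
  obtain ⟨v, hv⟩ := exists_ne (0 : V)
  obtain ⟨W₀, hW₀, hW₁, hW₂⟩ := hI A inferInstance hcyc
  obtain ⟨u, hu, hu0⟩ := W₀.ne_bot_iff.1 hW₀
  refine ⟨NearField.cyc H.subtype A u, fun hb => hu0 ?_, fun ht => hW₁ (top_le_iff.1 (ht ▸ NearField.cyc_le hW₂ hu)),
    fun a ha w hw => NearField.cyc_invariant u (NearField.lin_mem A ha) w hw, fun W' hle hW' => ?_, ?_⟩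
  · exact (Submodule.mem_bot _).1 (hb ▸ NearField.self_mem_cyc (ρ := H.subtype) A u)
  · by_cases hW'0 : W' = ⊥
    · exact Or.inl hW'0
    obtain ⟨w, hw, hw0⟩ := W'.ne_bot_iff.1 hW'0
    exact Or.inr (le_antisymm hle (NearField.cyc_eq_of_mem h A (hle hw) hw0 ▸ NearField.cyc_le hW' hw))
  · have hcard : Nat.card (NearField.cyc H.subtype A u) = p ^ e := by
      rw [← hK]
      letI := (NearField.isField_span h A).toField
      refine (Nat.card_eq_of_bijective (fun k : NearField.span H.subtype A =>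
        (⟨(k : Module.End (ZMod p) V) u, k, k.2, rfl⟩ : NearField.cyc H.subtype A u)) ⟨fun a b hab => ?_, fun ⟨_, x, hx, hxu⟩ => ⟨⟨x, hx⟩, Subtype.ext hxu⟩⟩).symm
      exact smul_left_injective (NearField.span H.subtype A) hu0 (congrArg Subtype.val hab)
    rwa [← pow_right_injective₀ (Nat.Prime.pos Fact.out) (Nat.Prime.one_lt Fact.out).ne'
      (show p ^ e = p ^ Module.finrank (ZMod p) (NearField.cyc H.subtype A u) by
        rw [← hcard, Module.natCard_eq_pow_finrank (K := ZMod p), Nat.card_zmod])]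

end Cfsg.Agent.S0684
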