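import Cfsg.Statements.S0686
import Cfsg.Agent.Lib.FGStruct.Zassenhaus.Action
-- import your own Cfsg.Agent.* helpers here

set_option autoImplicit false
open Cfsg

namespace Cfsg.Agent.S0686

open Cfsg.Agent
open scoped commutatorElement

theorem commutative_of_commute {G : Type*} [Group G] (h : ∀ a b : G, a * b = b * a) :
    IsMulCommutative G := ⟨⟨h⟩⟩

theorem quaternion_two {Q : Type*} [Group Q] {n : ℕ} (e : Q ≃* QuaternionGroup (2 ^ n))
    (hna : ¬ IsMulCommutative Q) (hc : ∀ x y z : Q, z * ⁅x, y⁆ = ⁅x, y⁆ * z) :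
    Nonempty (Q ≃* QuaternionGroup 2) := by
  have hc' : ∀ x y z : QuaternionGroup (2 ^ n), z * ⁅x, y⁆ = ⁅x, y⁆ * z := by
    intro x y z
    have h := congrArg e (hc (e.symm x) (e.symm y) (e.symm z))
    simpa [map_mul, map_commutatorElement] using h
  rcases n with _ | _ | n
  · exfalso
    apply hna
    refine commutative_of_commute fun a b => e.injective ?_
    rw [map_mul, map_mul]
    revert a b
    have key : ∀ u v : QuaternionGroup (2 ^ 0), u * v = v * u := by decide
    exact fun a b => key _ _
  · exact ⟨e⟩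
  · exfalso
    set m : ℕ := 2 ^ (n + 2) with hm
    have h4 : 4 ∣ m := ⟨2 ^ n, by rw [hm, pow_add]; ring⟩
    have h : (QuaternionGroup.xa 0 : QuaternionGroup m) * ⁅(QuaternionGroup.a 1 : QuaternionGroup m), (QuaternionGroup.xa 0 : QuaternionGroup m)⁆ =
        ⁅(QuaternionGroup.a 1 : QuaternionGroup m), (QuaternionGroup.xa 0 : QuaternionGroup m)⁆ * QuaternionGroup.xa 0 :=
      hc' (QuaternionGroup.a 1) (QuaternionGroup.xa 0) (QuaternionGroup.xa 0)
    have hcomm : ⁅(QuaternionGroup.a 1 : QuaternionGroup m), (QuaternionGroup.xa 0 : QuaternionGroup m)⁆ = QuaternionGroup.a 2 := by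
      rw [commutatorElement_def, mul_inv_eq_iff_eq_mul, mul_inv_eq_iff_eq_mul]
      simp [QuaternionGroup.a_mul_xa, QuaternionGroup.xa_mul_a, mul_assoc]
      norm_num
    rw [hcomm, QuaternionGroup.xa_mul_a, QuaternionGroup.a_mul_xa, zero_add, zero_sub,
      QuaternionGroup.xa.injEq, eq_neg_iff_add_eq_zero] at h
    have h' : ((4 : ℕ) : ZMod (2 * m)) = 0 := by rw [← h]; norm_num
    rw [ZMod.natCast_eq_zero_iff] at h'
    have := Nat.le_of_dvd (by norm_num) h'
    have := Nat.le_of_dvd (by rw [hm]; positivity) h4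
    omega

theorem core {H : Type*} [Group H] [Finite H] (hF : Zassenhaus.Fpf H) (A N : Subgroup H)
    (hAn : A.Normal) (hAc : IsMulCommutative A)
    (hAmax : ∀ B : Subgroup H, B.Normal → IsMulCommutative B → A ≤ B → B = A)
    (hNn : N.Normal) (hNle : N ≤ Subgroup.centralizer (A : Set H)) (hNna : ¬ IsMulCommutative N)
    (hNmin : ∀ M : Subgroup H, M.Normal → M ≤ N → ¬ IsMulCommutative M → M = N) :
    Nonempty (N ≃* QuaternionGroup 2) ∨
      Nonempty (N ≃* Matrix.SpecialLinearGroup (Fin 2) (ZMod 5)) := by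
  classical
  haveI := hAn
  haveI := hNn
  haveI : Nontrivial N := by
    by_contra h
    rw [not_nontrivial_iff_subsingleton] at h
    exact hNna (commutative_of_commute fun a b => Subsingleton.elim _ _)
  by_cases hM : IsMulCommutative (⁅N, N⁆ : Subgroup H)
  · left
    have hMN : ⁅N, N⁆ ≤ N := Subgroup.commutator_le_left N N
    haveI : (⁅N, N⁆ : Subgroup H).Normal := Subgroup.commutator_normal N N
    have hMA : ⁅N, N⁆ ≤ A := by
      have hcl : ∀ x ∈ ((⁅N, N⁆ : Subgroup H) : Set H) ∪ (A : Set H),
          ∀ y ∈ ((⁅N, N⁆ : Subgroup H) : Set H) ∪ (A : Set H), x * y = y * x := by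
        rintro x (hx | hx) y (hy | hy)
        · exact setLike_mul_comm hx hy
        · exact (Subgroup.mem_centralizer_iff.1 (hNle (hMN hx)) y hy).symm
        · exact Subgroup.mem_centralizer_iff.1 (hNle (hMN hy)) x hx
        · exact setLike_mul_comm hx hy
      have hc : IsMulCommutative (⁅N, N⁆ ⊔ A : Subgroup H) := by
        rw [Subgroup.sup_eq_closure]
        exact Subgroup.isMulCommutative_closure hcl
      exact le_sup_left.trans (hAmax _ (Subgroup.sup_normal _ _) hc le_sup_right).le
    have hcen : ∀ x y z : N, z * ⁅x, y⁆ = ⁅x, y⁆ * z := fun x y z => Subtype.ext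
      (Subgroup.mem_centralizer_iff.1 (hNle z.2) _
        (hMA (Subgroup.commutator_mem_commutator x.2 y.2))).symm
    haveI hnil : Group.IsNilpotent N := by
      refine nilpotent_iff_lowerCentralSeries.2 ⟨2, ?_⟩
      rw [lowerCentralSeries_succ, lowerCentralSeries_succ, lowerCentralSeries_zero, eq_bot_iff,
        Subgroup.commutator_le]
      intro c hc q _
      rw [Subgroup.mem_bot, commutatorElement_eq_one_iff_mul_comm]
      have hle : ⁅(⊤ : Subgroup N), ⊤⁆ ≤ Subgroup.center N := Subgroup.commutator_le.2 fun a _ b _ =>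
        Subgroup.mem_center_iff.2 (hcen a b)
      exact (Subgroup.mem_center_iff.1 (hle hc) q).symm
    obtain ⟨p, hp, P, hP⟩ : ∃ (p : ℕ) (_ : Fact p.Prime) (P : Sylow p N),
        ¬ IsMulCommutative (P : Subgroup N) := by
      by_contra hno
      push Not at hno
      obtain ⟨e⟩ := ((Group.isNilpotent_of_finite_tfae (G := N)).out 0 4).1 hnil
      refine hNna (commutative_of_commute fun a b => e.symm.injective ?_)
      rw [map_mul, map_mul]
      funext p P
      haveI : Fact (p : ℕ).Prime := Fact.mk (Nat.prime_of_mem_primeFactors p.2)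
      exact (hno p inferInstance P).is_comm.comm _ _
    haveI : (P : Subgroup N).Normal :=
      ((Group.isNilpotent_of_finite_tfae (G := N)).out 0 3 rfl rfl).1 hnil p hp P
    haveI : (P : Subgroup N).Characteristic := Sylow.characteristic_of_normal P inferInstance
    have hPn : ((P : Subgroup N).map N.subtype).Normal := inferInstance
    have hPN : (P : Subgroup N) = ⊤ := by
      apply Subgroup.map_injective N.subtype_injective
      rw [← MonoidHom.range_eq_map, Subgroup.range_subtype]
      refine hNmin _ hPn (Subgroup.map_subtype_le _) fun hc => hP (commutative_of_commute fun a b => ?_)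
      exact Subtype.ext (Subtype.ext (setLike_mul_comm (s := (P : Subgroup N).map N.subtype)
        (Subgroup.mem_map_of_mem N.subtype a.2) (Subgroup.mem_map_of_mem N.subtype b.2)))
    have hNp : IsPGroup p N := (hPN ▸ P.isPGroup' : IsPGroup p (⊤ : Subgroup N)).of_equiv Subgroup.topEquiv
    rcases FpfStruct.cyclic_or_quaternion hNp (hF.subgroup N).abCyclic with hcyc | ⟨-, n, ⟨e⟩⟩
    · exact absurd (commutative_of_commute fun a b => (IsCyclic.commGroup (α := N)).mul_comm a b) hNna
    · exact quaternion_two e hNna hcen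
  · right
    have hMN := hNmin _ (Subgroup.commutator_normal N N) (Subgroup.commutator_le_left N N) hM
    refine (hF.subgroup N).perfect_iso ?_
    apply Subgroup.map_injective N.subtype_injective
    rw [Subgroup.map_subtype_commutator, ← MonoidHom.range_eq_map, Subgroup.range_subtype, hMN]


/-- In a linear group over the prime field that is regular on non-zero vectors and has no irreducible cyclic normal subgroup, let `A` be a maximal normal abelian subgroup and `N` a normal subgroup centralising `A` that is minimal among non-abelian normal subgroups centralising `A`. Then `N` is quaternion of order 8 or isomorphic to `SL(2,5)`. -/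
theorem result {p : ℕ} [Fact p.Prime] {V : Type*} [AddCommGroup V] [Module (ZMod p) V] [Finite V] (H : Subgroup (V ≃ₗ[ZMod p] V)) (hreg : ∀ v w : V, v ≠ 0 → w ≠ 0 → ∃! h : H, (h : V ≃ₗ[ZMod p] V) v = w) (hI : ∀ A : Subgroup H, A.Normal → IsCyclic A → ∃ W : Submodule (ZMod p) V, W ≠ ⊥ ∧ W ≠ ⊤ ∧ ∀ a ∈ A, ∀ v ∈ W, ((a : H) : V ≃ₗ[ZMod p] V) v ∈ W) (A : Subgroup H) (hAn : A.Normal) (hAc : IsMulCommutative A) (hAmax : ∀ B : Subgroup H, B.Normal → IsMulCommutative B → A ≤ B → B = A) (N : Subgroup H) (hNn : N.Normal) (hNle : N ≤ Subgroup.centralizer (A : Set H)) (hNna : ¬ IsMulCommutative N) (hNmin : ∀ M : Subgroup H, M.Normal → M ≤ N → ¬ IsMulCommutative M → M = N) : Nonempty (N ≃* QuaternionGroup 2) ∨ Nonempty (N ≃* Matrix.SpecialLinearGroup (Fin 2) (ZMod 5)) := by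
  haveI : Finite (V ≃ₗ[ZMod p] V) := Finite.of_injective _ DFunLike.coe_injective
  haveI : Nontrivial V := by
    by_contra h
    rw [not_nontrivial_iff_subsingleton] at h
    haveI : Subsingleton H := ⟨fun a b => Subtype.ext (LinearEquiv.ext fun v => Subsingleton.elim _ _)⟩
    exact hNna ⟨⟨fun a b => Subsingleton.elim _ _⟩⟩
  have hF : Cfsg.Agent.Zassenhaus.Fpf H := by
    refine Cfsg.Agent.Zassenhaus.Fpf.of_linear
      { toFun := fun h => ((h : V ≃ₗ[ZMod p] V) : Module.End (ZMod p) V)
        map_one' := LinearMap.ext fun v => rfl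
        map_mul' := fun a b => LinearMap.ext fun v => rfl } fun g hg v hv => ?_
    by_contra h0
    exact hg ((hreg v v h0 h0).unique hv rfl)
  exact core hF A N hAn hAc hAmax hNn hNle hNna hNmin

end Cfsg.Agent.S0686
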