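import Cfsg.Statements.S3359
import Cfsg.Agent.S3378
import Cfsg.Agent.Lib.FGStruct.Zassenhaus.Action
import Cfsg.Agent.Lib.FGStruct.Zassenhaus.Normal

set_option autoImplicit false
set_option linter.style.haveILetI false

open Cfsg

namespace Cfsg.Agent.S3359

open Cfsg.Agent

variable {G : Type*} [Group G] [Finite G]

/-- Commuting elements of the same order generate the same subgroup. -/
theorem mem_zpowers_of_commute (h : AbCyc.AbCyclic G) {a b : G} (hab : Commute a b)
    (hb : orderOf b = orderOf a) : b ∈ Subgroup.zpowers a := by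
  classical
  set A := Subgroup.closure ({a, b} : Set G)
  have hA : IsMulCommutative A := by
    refine Subgroup.isMulCommutative_closure ?_
    rintro x (rfl | rfl) y (rfl | rfl)
    · rfl
    · exact hab.eq
    · exact hab.eq.symm
    · rfl
  haveI := h A hA
  haveI : Fintype A := Fintype.ofFinite A
  let a' : A := ⟨a, Subgroup.subset_closure (Set.mem_insert _ _)⟩
  let b' : A := ⟨b, Subgroup.subset_closure (Set.mem_insert_of_mem _ rfl)⟩
  have heq : (Finset.univ.filter fun x : A => x ∈ Subgroup.zpowers a') =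
      Finset.univ.filter fun x : A => x ^ orderOf a' = 1 := by
    refine Finset.eq_of_subset_of_card_le (fun x hx => ?_) ?_
    · simp only [Finset.mem_filter, Finset.mem_univ, true_and] at hx ⊢
      exact orderOf_dvd_iff_pow_eq_one.1 (orderOf_dvd_of_mem_zpowers hx)
    · refine (IsCyclic.card_pow_eq_one_le (orderOf_pos a')).trans_eq ?_
      rw [← Fintype.card_subtype, ← Nat.card_eq_fintype_card, ← Nat.card_zpowers a']
  have hb' : b' ^ orderOf a' = 1 := Subtype.ext (by
    rw [← Subgroup.orderOf_coe]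
    show b ^ orderOf a = 1
    rw [← hb, pow_orderOf_eq_one])
  have e : b' ∈ Subgroup.zpowers a' := by simpa using (Finset.ext_iff.1 heq b').2 (by simp [hb'])
  obtain ⟨k, hk⟩ := Subgroup.mem_zpowers_iff.1 e
  exact ⟨k, by simpa [a', b'] using congrArg Subtype.val hk⟩

/-- A subgroup of order 4 has an element of order 4 if abelian subgroups are cyclic. -/
theorem exists_orderOf_four (h : AbCyc.AbCyclic G) (H : Subgroup G) (h4 : 4 ∣ Nat.card H) :
    ∃ g ∈ H, orderOf g = 4 := by
  haveI : Fact (Nat.Prime 2) := ⟨Nat.prime_two⟩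
  obtain ⟨A, hA⟩ := Sylow.exists_subgroup_card_pow_prime (G := H) 2 (n := 2) (by simpa using h4)
  haveI : IsMulCommutative A := IsPGroup.isMulCommutative_of_card_eq_prime_sq hA
  haveI := h.subgroup H A inferInstance
  obtain ⟨a, ha⟩ := IsCyclic.exists_generator (α := A)
  refine ⟨((a : H) : G), (a : H).2, ?_⟩
  rw [Subgroup.orderOf_coe, Subgroup.orderOf_coe, orderOf_eq_card_of_forall_mem_zpowers ha, hA]
  norm_num

theorem structure_of_fpf (hG : Zassenhaus.Fpf G) (hns : ¬ Group.IsSolvable G) :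
    ∃ G₀ : Subgroup G, G₀.Normal ∧ (G₀.index = 1 ∨ G₀.index = 2) ∧
      ∃ S M : Subgroup G, S ⊔ M = G₀ ∧ S ⊓ M = ⊥ ∧ (∀ s ∈ S, ∀ x ∈ M, s * x = x * s) ∧
        Nonempty (S ≃* Matrix.SpecialLinearGroup (Fin 2) (ZMod 5)) ∧
        (∀ (p : ℕ) [Fact p.Prime] (P : Sylow p M), IsCyclic P) ∧ (Nat.card M).Coprime 30 := by
  obtain ⟨n, hn, ⟨e⟩⟩ := hG.exists_residual hns
  have hab := hG.abCyclic
  set K := derivedSeries G n with hKd
  have hperf : ⁅K, K⁆ = K := by rwa [derivedSeries_succ] at hn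
  haveI hKn : K.Normal := derivedSeries_normal G n
  have hK : Nat.card K = 120 := (Nat.card_congr e.toEquiv).trans S3378.sl_card
  set C := Subgroup.centralizer (K : Set G) with hC
  haveI hCn : C.Normal := inferInstanceAs (Subgroup.centralizer (K : Set G)).Normal
  have hZ : Nat.card (K ⊓ C : Subgroup G) = 2 := SLFiveNormal.card_inf_centralizer e
  have hodd : ∀ r : ℕ, r.Prime → r ∣ 120 → r ≠ 2 → ¬ r ∣ Nat.card C := by
    intro r hr hd h2 hrC
    haveI := Fact.mk hr
    obtain ⟨c, hc⟩ := exists_prime_orderOf_dvd_card' (G := C) r hrC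
    obtain ⟨u, hu⟩ := exists_prime_orderOf_dvd_card' (G := K) r (hK.symm ▸ hd)
    rw [← Subgroup.orderOf_coe] at hc hu
    have hcK : (c : G) ∈ K := Subgroup.zpowers_le.2 u.2
      (AbCyc.mem_zpowers_of_commute hab (Subgroup.mem_centralizer_iff.1 c.2 (u : G) u.2) hr hu hc)
    have h3 := Subgroup.orderOf_dvd_natCard (K ⊓ C) (show (c : G) ∈ K ⊓ C from ⟨hcK, c.2⟩)
    rw [hc, hZ] at h3
    exact h2 ((Nat.prime_dvd_prime_iff_eq hr Nat.prime_two).1 h3)
  have h4 : ¬ 4 ∣ Nat.card C := by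
    intro h
    obtain ⟨c, hcC, hc⟩ := exists_orderOf_four hab C h
    obtain ⟨u, huK, hu⟩ := exists_orderOf_four hab K (by rw [hK]; norm_num)
    have hcK : c ∈ K := Subgroup.zpowers_le.2 huK
      (mem_zpowers_of_commute hab (Subgroup.mem_centralizer_iff.1 hcC u huK) (by rw [hc, hu]))
    have h3 := Subgroup.orderOf_dvd_natCard (K ⊓ C) (show c ∈ K ⊓ C from ⟨hcK, hcC⟩)
    rw [hc, hZ] at h3
    norm_num at h3
  set Z := (K ⊓ C).subgroupOf C with hZd
  have hZc : Nat.card Z = 2 :=
    (Nat.card_congr (Subgroup.subgroupOfEquivOfLe inf_le_right).toEquiv).trans hZ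
  have hmul := Z.card_mul_index
  rw [hZc] at hmul
  have hidx : ¬ 2 ∣ Z.index := fun ⟨c, hc⟩ => h4 ⟨c, by rw [← hmul, hc]; ring⟩
  obtain ⟨M₁, hM₁⟩ := Subgroup.exists_right_complement'_of_coprime (N := Z)
    (by rw [hZc]; exact (Nat.Prime.coprime_iff_not_dvd Nat.prime_two).2 hidx)
  have hM₁c : Nat.card M₁ = Z.index := (hM₁.symm.index_eq_card).symm
  set M := M₁.map C.subtype with hM
  have hMC : M ≤ C := Subgroup.map_subtype_le _
  have hMc : Nat.card M = Z.index := by
    rw [hM, Subgroup.card_map_of_injective C.subtype_injective, hM₁c]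
  have hMdvd : Nat.card M ∣ Nat.card C := Subgroup.card_dvd_of_le hMC
  refine ⟨K ⊔ C, inferInstance, SLFiveNormal.index_sup_centralizer e hperf hK, K, M, ?_, ?_,
    fun s hs x hx => Subgroup.mem_centralizer_iff.1 (hMC hx) s hs, ⟨e⟩, ?_, ?_⟩
  · refine le_antisymm (sup_le_sup_left hMC K) (sup_le le_sup_left fun c hc => ?_)
    obtain ⟨⟨z, m⟩, hzm⟩ := hM₁.2 ⟨c, hc⟩
    rw [← show ((z : C) : G) * ((m : C) : G) = c from congrArg Subtype.val hzm]
    exact mul_mem (Subgroup.mem_sup_left (Subgroup.mem_subgroupOf.1 z.2).1)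
      (Subgroup.mem_sup_right ⟨_, m.2, rfl⟩)
  · rw [Subgroup.eq_bot_iff_forall]
    intro x hx
    rw [← orderOf_eq_one_iff]
    exact Nat.eq_one_of_dvd_coprimes
      ((Nat.Prime.coprime_iff_not_dvd Nat.prime_two).2 (hMc ▸ hidx))
      (hZ ▸ Subgroup.orderOf_dvd_natCard (K ⊓ C) (show x ∈ K ⊓ C from ⟨hx.1, hMC hx.2⟩))
      (Subgroup.orderOf_dvd_natCard M hx.2)
  · intro p hp P
    rcases eq_or_ne p 2 with rfl | h2
    · haveI : Subsingleton (P : Subgroup M) := by
        rw [← Finite.card_le_one_iff_subsingleton, P.card_eq_multiplicity,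
          Nat.factorization_eq_zero_of_not_dvd (hMc ▸ hidx), pow_zero]
      exact isCyclic_of_subsingleton
    · exact (hG.subgroup M).sylow_cyclic h2 P
  · rw [show 30 = 2 * 3 * 5 from rfl]
    refine Nat.Coprime.mul_right (Nat.Coprime.mul_right ?_ ?_) ?_
    · exact ((Nat.Prime.coprime_iff_not_dvd Nat.prime_two).2 (hMc ▸ hidx)).symm
    · exact ((Nat.Prime.coprime_iff_not_dvd Nat.prime_three).2 fun h =>
        hodd 3 Nat.prime_three (by norm_num) (by norm_num) (h.trans hMdvd)).symm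
    · exact ((Nat.Prime.coprime_iff_not_dvd (by norm_num : Nat.Prime 5)).2 fun h =>
        hodd 5 (by norm_num) (by norm_num) (by norm_num) (h.trans hMdvd)).symm

end Cfsg.Agent.S3359


set_option autoImplicit false
open Cfsg

namespace Cfsg.Agent.S3359

/-- Structure of non-solvable Frobenius complements. Let G be a finite non-solvable group that occurs as a Frobenius complement. Then G has a normal subgroup G₀ of index 1 or 2 which is the direct product of a subgroup isomorphic to SL(2,5) and a subgroup M of order prime to 30 all of whose Sylow subgroups are cyclic. -/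
theorem result {G : Type*} [Group G] [Finite G] (hns : ¬ Group.IsSolvable G)
    (hFC : ∃ (L : Type) (_ : Group L) (_ : Finite L) (H : Subgroup L), Cfsg.IsFrobeniusComplement H ∧ Nonempty (G ≃* H)) :
    ∃ G₀ : Subgroup G, G₀.Normal ∧ (G₀.index = 1 ∨ G₀.index = 2) ∧
      ∃ S M : Subgroup G, S ⊔ M = G₀ ∧ S ⊓ M = ⊥ ∧ (∀ s ∈ S, ∀ x ∈ M, s * x = x * s) ∧
        Nonempty (S ≃* Matrix.SpecialLinearGroup (Fin 2) (ZMod 5)) ∧
        (∀ (p : ℕ) [Fact p.Prime] (P : Sylow p M), IsCyclic P) ∧ (Nat.card M).Coprime 30 := by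
  obtain ⟨L, _, _, H, hH, ⟨e⟩⟩ := hFC
  exact structure_of_fpf (Cfsg.Agent.Zassenhaus.Fpf.of_frobeniusComplement hH e hns) hns

end Cfsg.Agent.S3359
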