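import Cfsg.Statements.S0689
import Cfsg.Agent.S3359
import Cfsg.Agent.Lib.LocalEven.Zsigmondy
import Cfsg.Agent.Lib.Solvable.ScnCentralizer

set_option autoImplicit false
set_option linter.style.haveILetI false

open Cfsg

namespace Cfsg.Agent.S0689

open Cfsg.Agent Polynomial

variable {p : ℕ} [Fact p.Prime] {V : Type*} [AddCommGroup V] [Module (ZMod p) V]

/-- The polynomial orbit of `v` under `c`. -/
noncomputable def orbitMap (c : Module.End (ZMod p) V) (v : V) : (ZMod p)[X] →ₗ[ZMod p] V :=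
  (LinearMap.applyₗ v).comp (aeval c).toLinearMap

theorem orbitMap_apply (c : Module.End (ZMod p) V) (v : V) (q : (ZMod p)[X]) :
    orbitMap c v q = aeval c q v := rfl

theorem orbitMap_X_mul (c : Module.End (ZMod p) V) (v : V) (q : (ZMod p)[X]) :
    orbitMap c v (X * q) = c (orbitMap c v q) := by
  rw [orbitMap_apply, orbitMap_apply, map_mul, aeval_X, Module.End.mul_apply]

/-- The commutant of an endomorphism with a cyclic vector is commutative. -/
theorem commute_of_cyclic {c : Module.End (ZMod p) V} {v : V}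
    (hv : LinearMap.range (orbitMap c v) = ⊤) {g h : Module.End (ZMod p) V}
    (hg : Commute g c) (hh : Commute h c) : Commute g h := by
  have key : ∀ f : Module.End (ZMod p) V, Commute f c → ∃ q : (ZMod p)[X], f = aeval c q := by
    intro f hf
    obtain ⟨q, hq⟩ : f v ∈ LinearMap.range (orbitMap c v) := by rw [hv]; trivial
    refine ⟨q, LinearMap.ext fun w => ?_⟩
    obtain ⟨r, rfl⟩ : w ∈ LinearMap.range (orbitMap c v) := by rw [hv]; trivial
    rw [orbitMap_apply] at hq ⊢
    have h1 : Commute f (aeval c r) := by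
      induction r using Polynomial.induction_on' with
      | add a b ha hb => rw [map_add]; exact ha.add_right hb
      | monomial n a =>
        rw [aeval_monomial]
        exact Commute.mul_right (show Commute f (algebraMap (ZMod p) _ a) from (Algebra.commutes a f).symm)
          (hf.pow_right n)
    rw [← Module.End.mul_apply, h1.eq, Module.End.mul_apply, ← hq, ← Module.End.mul_apply,
      ← map_mul, mul_comm, map_mul, Module.End.mul_apply]
  obtain ⟨a, rfl⟩ := key g hg
  obtain ⟨b, rfl⟩ := key h hh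
  exact (Commute.all a b).map _

/-- An automorphism of prime order `r` without fixed points has, for each `v ≠ 0`, the whole space
as orbit span, if `r` divides no `p ^ k - 1` with `0 < k < n`. -/
theorem range_eq_top_of_ppd [Finite V] (c : V ≃ₗ[ZMod p] V) {r : ℕ} (hr : r.Prime)
    (hc : c ^ r = 1) (hfix : ∀ w : V, c w = w → w = 0)
    (hppd : ∀ k : ℕ, 0 < k → k < Module.finrank (ZMod p) V → ¬ r ∣ p ^ k - 1) {v : V} (hv : v ≠ 0) :
    LinearMap.range (orbitMap (c : V →ₗ[ZMod p] V) v) = ⊤ := by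
  classical
  haveI : Module.Finite (ZMod p) V := Module.Finite.of_finite
  haveI := Fact.mk hr
  set W := LinearMap.range (orbitMap (c : V →ₗ[ZMod p] V) v) with hW
  by_contra hne
  have hvW : v ∈ W := ⟨1, by simp [orbitMap_apply]⟩
  have hcW : ∀ w ∈ W, c w ∈ W := by
    rintro _ ⟨q, rfl⟩
    exact ⟨X * q, orbitMap_X_mul _ _ _⟩
  let π : Equiv.Perm W := Equiv.ofBijective (fun w : W => (⟨c w, hcW w w.2⟩ : W))
    (Finite.injective_iff_bijective.1 fun x y h => Subtype.ext (c.injective (congrArg Subtype.val h)))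
  have hπ : ∀ (j : ℕ) (w : W), (((π ^ j) w : W) : V) = (c ^ j) (w : V) := by
    intro j
    induction j with
    | zero => intro w; rfl
    | succ j ih =>
      intro w
      rw [pow_succ', pow_succ', Equiv.Perm.mul_apply, LinearEquiv.mul_apply]
      show c (((π ^ j) w : W) : V) = _
      rw [ih]
  have hP : IsPGroup r (Subgroup.zpowers π) := by
    obtain ⟨j, -, hj⟩ := (Nat.dvd_prime_pow hr).1 (show orderOf π ∣ r ^ 1 from
      orderOf_dvd_of_pow_eq_one (Equiv.ext fun w => Subtype.ext (by rw [pow_one, hπ, hc]; rfl)))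
    exact IsPGroup.of_card (n := j) (by rw [Nat.card_zpowers, hj])
  have hmod := hP.card_modEq_card_fixedPoints W
  have hF : Nat.card (MulAction.fixedPoints (Subgroup.zpowers π) W) = 1 := by
    refine Nat.card_eq_one_iff_unique.2 ⟨⟨fun a b => ?_⟩, ⟨0, fun g => ?_⟩⟩
    · have h0 : ∀ a : MulAction.fixedPoints (Subgroup.zpowers π) W, ((a : W) : V) = 0 := fun a =>
        hfix _ (congrArg Subtype.val (a.2 ⟨π, Subgroup.mem_zpowers π⟩))
      exact Subtype.ext (Subtype.ext ((h0 a).trans (h0 b).symm))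
    · have : π ∈ MulAction.stabilizer (Equiv.Perm W) (0 : W) := Subtype.ext (map_zero c)
      exact (Subgroup.zpowers_le.2 this) g.2
  rw [hF, Module.natCard_eq_pow_finrank (K := ZMod p), Nat.card_zmod] at hmod
  refine hppd _ ?_ (Submodule.finrank_lt hne)
    ((Nat.modEq_iff_dvd' (Nat.one_le_pow _ _ (Nat.Prime.pos Fact.out))).1 hmod.symm)
  rw [Nat.pos_iff_ne_zero, Ne, Submodule.finrank_eq_zero]
  exact fun h => hv ((Submodule.mem_bot _).1 (h ▸ hvW))

theorem range_eq_top_of_finrank_one (hn : Module.finrank (ZMod p) V = 1) {c : Module.End (ZMod p) V}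
    {v : V} (hv : v ≠ 0) : LinearMap.range (orbitMap c v) = ⊤ := by
  refine eq_top_iff.2 fun w _ => ?_
  obtain ⟨a, ha⟩ := (finrank_eq_one_iff_of_nonzero' v hv).1 hn w
  exact ⟨C a, by rw [orbitMap_apply, aeval_C, Module.algebraMap_end_apply, ha]⟩

/-- A cyclic vector exists for a non-scalar endomorphism of a plane. -/
theorem range_eq_top_of_plane [Finite V] (hn : Module.finrank (ZMod p) V = 2)
    {c : Module.End (ZMod p) V} {v : V} (hv : v ≠ 0) (h : ∀ a : ZMod p, c v ≠ a • v) :
    LinearMap.range (orbitMap c v) = ⊤ := by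
  haveI : Module.Finite (ZMod p) V := Module.Finite.of_finite
  have hli : LinearIndependent (ZMod p) ![v, c v] := by
    rw [LinearIndependent.pair_iff]
    intro a b hab
    by_cases hb : b = 0
    · rw [hb, zero_smul, add_zero, smul_eq_zero] at hab
      exact ⟨hab.resolve_right hv, hb⟩
    · exfalso
      apply h (-(b⁻¹ * a))
      have := congrArg (fun w => b⁻¹ • w) hab
      simp only [smul_add, smul_smul, inv_mul_cancel₀ hb, one_smul, smul_zero] at this
      rw [neg_smul, eq_neg_iff_add_eq_zero, add_comm]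
      exact this
  rw [eq_top_iff, ← hli.span_eq_top_of_card_eq_finrank (by simp [hn]), Submodule.span_le]
  rintro _ ⟨i, rfl⟩
  fin_cases i
  · exact ⟨1, by simp [orbitMap_apply]⟩
  · exact ⟨X, by simp [orbitMap_apply]⟩

theorem five_cube : ∀ x : ZMod 5, x ^ 3 = 1 → x = 1 := by decide

theorem three_sq : ∀ x : ZMod 3, x ^ 2 ≠ -1 := by decide

theorem arith {p m i : ℕ} (hp : p.Prime) (hi : i = 1 ∨ i = 2) (hm30 : m.Coprime 30)
    (hm : m ∣ p - 1) (h : p ^ 2 - 1 = 120 * i * m) :
    i = 1 ∧ ((p = 11 ∧ m = 1) ∨ (p = 29 ∧ m = 7) ∨ (p = 59 ∧ m = 29)) := by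
  have hp2 := hp.two_le
  have hsq : p ^ 2 - 1 = (p + 1) * (p - 1) := by
    rw [← Nat.sq_sub_sq, one_pow]
  have h2 : ¬ 2 ∣ m := fun h => by
    have := Nat.eq_one_of_dvd_coprimes hm30 h (by norm_num); omega
  have h3 : ¬ 3 ∣ m := fun h => by
    have := Nat.eq_one_of_dvd_coprimes hm30 h (by norm_num); omega
  have h5 : ¬ 5 ∣ m := fun h => by
    have := Nat.eq_one_of_dvd_coprimes hm30 h (by norm_num); omega
  have hcop : (p + 1).Coprime m := by
    refine Nat.coprime_of_dvd' fun r hr hr1 hrm => ?_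
    exfalso
    have hr2 : r ∣ (p + 1) - (p - 1) := Nat.dvd_sub hr1 (hrm.trans hm)
    rw [show (p + 1) - (p - 1) = 2 by omega] at hr2
    exact h2 ((Nat.prime_dvd_prime_iff_eq hr Nat.prime_two).1 hr2 ▸ hrm)
  have hd : p + 1 ∈ Nat.divisors 240 := by
    refine Nat.mem_divisors.2 ⟨?_, by norm_num⟩
    have h1 : p + 1 ∣ 120 * i := hcop.dvd_of_dvd_mul_right (h ▸ hsq ▸ dvd_mul_right _ _)
    refine h1.trans ?_
    rcases hi with rfl | rfl <;> norm_num
  rw [show Nat.divisors 240 = {1, 2, 3, 4, 5, 6, 8, 10, 12, 15, 16, 20, 24, 30, 40, 48, 60, 80,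
    120, 240} from by decide] at hd
  simp only [Finset.mem_insert, Finset.mem_singleton] at hd
  rw [hsq] at h
  have hcases : p = 2 ∨ p = 3 ∨ p = 4 ∨ p = 5 ∨ p = 7 ∨ p = 9 ∨ p = 11 ∨ p = 14 ∨ p = 15 ∨ p = 19 ∨
      p = 23 ∨ p = 29 ∨ p = 39 ∨ p = 47 ∨ p = 59 ∨ p = 79 ∨ p = 119 ∨ p = 239 := by omega
  rcases hi with rfl | rfl <;>
    rcases hcases with rfl | rfl | rfl | rfl | rfl | rfl | rfl | rfl | rfl | rfl | rfl | rfl | rfl |
      rfl | rfl | rfl | rfl | rfl <;>
    first
      | omega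
      | (exfalso; norm_num at hp)

end Cfsg.Agent.S0689


set_option autoImplicit false
open Cfsg

namespace Cfsg.Agent.S0689

/-- The insoluble sharply doubly transitive groups: a non-solvable linear group over the prime field that is regular on the non-zero vectors of `V` occurs only for `|V| = 11², 29², 59²`, and is `SL(2,5) × C_m` with `m = 1, 7, 29` respectively. -/
theorem result {p : ℕ} [Fact p.Prime] {V : Type*} [AddCommGroup V] [Module (ZMod p) V] [Finite V] (H : Subgroup (V ≃ₗ[ZMod p] V)) (hreg : ∀ v w : V, v ≠ 0 → w ≠ 0 → ∃! h : H, (h : V ≃ₗ[ZMod p] V) v = w) (hsolv : ¬ Group.IsSolvable H) : (Nat.card V = 121 ∧ Nonempty (H ≃* Matrix.SpecialLinearGroup (Fin 2) (ZMod 5))) ∨ (Nat.card V = 841 ∧ Nonempty (H ≃* Matrix.SpecialLinearGroup (Fin 2) (ZMod 5) × Multiplicative (ZMod 7))) ∨ (Nat.card V = 3481 ∧ Nonempty (H ≃* Matrix.SpecialLinearGroup (Fin 2) (ZMod 5) × Multiplicative (ZMod 29))) := by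
  classical
  haveI : Module.Finite (ZMod p) V := Module.Finite.of_finite
  haveI : Finite (V ≃ₗ[ZMod p] V) := Finite.of_injective _ DFunLike.coe_injective
  haveI : Nontrivial V := by
    by_contra h
    rw [not_nontrivial_iff_subsingleton] at h
    haveI : Subsingleton H := ⟨fun a b => Subtype.ext (LinearEquiv.ext fun v => Subsingleton.elim _ _)⟩
    exact hsolv inferInstance
  have hfpf : ∀ g : H, g ≠ 1 → ∀ w : V, (g : V ≃ₗ[ZMod p] V) w = w → w = 0 := by
    intro g hg w hw
    by_contra hw0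
    exact hg ((hreg w w hw0 hw0).unique hw rfl)
  obtain ⟨v₀, hv₀⟩ := exists_ne (0 : V)
  set n := Module.finrank (ZMod p) V with hn
  have hV : Nat.card V = p ^ n := by rw [Module.natCard_eq_pow_finrank (K := ZMod p), Nat.card_zmod]
  have hH : Nat.card H + 1 = p ^ n := by
    rw [← hV, ← Nat.card_congr (Equiv.optionSubtypeNe (0 : V)), Finite.card_option]
    refine congrArg (· + 1) (Nat.card_congr (Equiv.ofBijective
      (fun h : H => (⟨(h : V ≃ₗ[ZMod p] V) v₀, fun e => hv₀ ((h : V ≃ₗ[ZMod p] V).map_eq_zero_iff.1 e)⟩ :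
        {w : V // w ≠ 0})) ⟨?_, ?_⟩))
    · intro a b hab
      exact (hreg v₀ _ hv₀ (fun e => hv₀ ((b : V ≃ₗ[ZMod p] V).map_eq_zero_iff.1 e))).unique
        (congrArg Subtype.val hab) rfl
    · rintro ⟨w, hw⟩
      obtain ⟨h, hh, -⟩ := hreg v₀ w hv₀ hw
      exact ⟨h, Subtype.ext hh⟩
  have hF : Cfsg.Agent.Zassenhaus.Fpf H := Cfsg.Agent.Zassenhaus.Fpf.of_linear
    { toFun := fun g => ((g : V ≃ₗ[ZMod p] V) : V →ₗ[ZMod p] V)
      map_one' := rfl
      map_mul' := fun _ _ => rfl } hfpf
  obtain ⟨G₀, -, hidx, S, M, hsup, hinf, hcomm, ⟨e⟩, -, hM30⟩ :=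
    Cfsg.Agent.S3359.structure_of_fpf hF hsolv
  have hcard₀ : Nat.card S * Nat.card M = Nat.card G₀ ∧
      (G₀ = ⊤ → Nonempty ((S × M) ≃* H)) := by
    set f := MonoidHom.noncommCoprod S.subtype M.subtype (fun (s : S) (x : M) =>
      (show Commute (S.subtype s) (M.subtype x) from hcomm s s.2 x x.2)) with hf
    have hfi : Function.Injective f := (MonoidHom.noncommCoprod_injective _ _ _).2
      ⟨S.subtype_injective, M.subtype_injective,
        by rw [Subgroup.range_subtype, Subgroup.range_subtype, disjoint_iff, hinf]⟩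
    have hfr : f.range = G₀ := by
      rw [hf, MonoidHom.noncommCoprod_range, Subgroup.range_subtype, Subgroup.range_subtype, hsup]
    refine ⟨?_, fun h => ⟨MulEquiv.ofBijective f ⟨hfi, ?_⟩⟩⟩
    · rw [← Nat.card_prod, Nat.card_congr (MonoidHom.ofInjective hfi).toEquiv, hfr]
    · rw [← MonoidHom.range_eq_top, hfr, h]
  set m := Nat.card M with hm
  have hS : Nat.card S = 120 := (Nat.card_congr e.toEquiv).trans Cfsg.Agent.S3378.sl_card
  have hHc : Nat.card H = 120 * m * G₀.index := by
    rw [← hS, hcard₀.1, G₀.card_mul_index]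
  have hSnc : ¬ ∀ a ∈ S, ∀ b ∈ S, Commute a b := by
    intro h
    haveI : Fact (Nat.Prime 5) := ⟨by norm_num⟩
    haveI : Group.IsSolvable S := Group.isSolvable_of_comm fun a b => Subtype.ext (h a a.2 b b.2).eq
    exact Cfsg.Agent.ScnCentralizer.sl2_not_solvable 5 le_rfl
      (Group.isSolvable_of_surjective (f := e.toMonoidHom) e.surjective)
  have hnocyc : ∀ (c : H), (∀ s ∈ S, Commute s c) → ∀ v : V,
      LinearMap.range (orbitMap ((c : V ≃ₗ[ZMod p] V) : V →ₗ[ZMod p] V) v) ≠ ⊤ := by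
    intro c hc v hv
    refine hSnc fun a ha b hb => ?_
    have h1 : ∀ s ∈ S, Commute (((s : H) : V ≃ₗ[ZMod p] V) : Module.End (ZMod p) V)
        ((c : V ≃ₗ[ZMod p] V) : V →ₗ[ZMod p] V) := fun s hs =>
      LinearMap.ext fun w => by
        have := congrArg (fun g : H => (g : V ≃ₗ[ZMod p] V) w) (hc s hs).eq
        exact this
    have h2 := commute_of_cyclic hv (h1 a ha) (h1 b hb)
    exact Subtype.ext (LinearEquiv.ext fun w => congrArg (fun f : Module.End (ZMod p) V => f w) h2.eq)
  have hp2 : p ≠ 2 := by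
    rintro rfl
    have h1 : 2 ∣ Nat.card H := by rw [hHc, Nat.mul_assoc]; exact dvd_mul_of_dvd_left (by norm_num) _
    rcases n with _ | n
    · simp only [pow_zero] at hH
      have := Nat.card_pos (α := H)
      omega
    · rw [pow_succ] at hH
      omega
  have hp := (Fact.out : p.Prime)
  have hp3 : 3 ≤ p := by have := hp.two_le; omega
  have hn0 : 0 < n := Module.finrank_pos
  have hn1 : n ≠ 1 := fun h1 =>
    hnocyc 1 (fun s _ => Commute.one_right s) v₀ (range_eq_top_of_finrank_one h1 hv₀)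
  have hdvd : Nat.card H = p ^ n - 1 := by omega
  -- there is no primitive prime divisor of `p ^ n - 1` larger than 5
  have hbig : ∀ r : ℕ, r.Prime → r ∣ p ^ n - 1 → (∀ k, 0 < k → k < n → ¬ r ∣ p ^ k - 1) → r ≤ 5 := by
    intro r hr hrd hppd
    by_contra h6
    haveI := Fact.mk hr
    have hrM : r ∣ m := by
      rw [← hdvd, hHc] at hrd
      rcases (Nat.Prime.dvd_mul hr).1 hrd with h | h
      · rcases (Nat.Prime.dvd_mul hr).1 h with h | h
        · rw [show 120 = 2 * 2 * 2 * 3 * 5 from rfl] at h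
          simp only [Nat.Prime.dvd_mul hr, Nat.prime_dvd_prime_iff_eq hr Nat.prime_two,
            Nat.prime_dvd_prime_iff_eq hr Nat.prime_three,
            Nat.prime_dvd_prime_iff_eq hr (by norm_num : Nat.Prime 5)] at h
          omega
        · exact h
      · rcases hidx with hi | hi <;> rw [hi] at h <;> have := Nat.le_of_dvd (by norm_num) h <;> omega
    obtain ⟨c, hc⟩ := exists_prime_orderOf_dvd_card' (G := M) r hrM
    rw [← Subgroup.orderOf_coe] at hc
    have hc1 : (c : H) ≠ 1 := fun h => by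
      rw [h, orderOf_one] at hc
      exact hr.ne_one hc.symm
    refine hnocyc c (fun s hs => hcomm s hs c c.2) v₀ (range_eq_top_of_ppd _ hr ?_ (hfpf _ hc1) hppd hv₀)
    rw [← SubgroupClass.coe_pow, ← hc, pow_orderOf_eq_one, OneMemClass.coe_one]
  have h25 : ¬ 25 ∣ p ^ n - 1 := by
    intro h
    rw [← hdvd, hHc] at h
    have h5 : ¬ 5 ∣ m := fun h => by
      have := Nat.eq_one_of_dvd_coprimes hM30 h (by norm_num); omega
    rcases hidx with hi | hi <;> rw [hi] at h <;> omega
  have hn2 : n = 2 := by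
    by_contra hn2
    have hn3 : 3 ≤ n := by omega
    obtain ⟨r, hr, hrd, hppd⟩ := Cfsg.Agent.LEZsig.zsigmondy p n (by omega) (by omega) (fun h => hp2 h.1)
      (fun h => hn2 h.1)
    have hr5 := hbig r hr hrd hppd
    haveI := Fact.mk hr
    have hrp : ¬ r ∣ p := fun h => by
      have h1 : r ∣ p ^ n := dvd_pow h (by omega)
      have h2 := Nat.dvd_sub h1 hrd
      have h0 : 1 ≤ p ^ n := Nat.one_le_pow _ _ (by omega)
      rw [show p ^ n - (p ^ n - 1) = 1 by omega] at h2
      exact hr.not_dvd_one h2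
    have hpr : (p : ZMod r) ≠ 0 := fun h => hrp ((ZMod.natCast_eq_zero_iff p r).1 h)
    have hk : ¬ r - 1 < n := fun h => hppd (r - 1) (by have := hr.two_le; omega) h
      ((Cfsg.Agent.LEZsig.natCast_pow_eq_one_iff (by omega)).2 (ZMod.pow_card_sub_one_eq_one hpr))
    have hr4 : r ≠ 4 := fun h => by rw [h] at hr; norm_num at hr
    obtain ⟨rfl, hn4⟩ : r = 5 ∧ (n = 3 ∨ n = 4) := by omega
    have hn4' : n = 4 := by
      rcases hn4 with h | h
      · exfalso
        have hone : (p : ZMod 5) ^ 3 = 1 :=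
          (Cfsg.Agent.LEZsig.natCast_pow_eq_one_iff (by omega)).1 (h ▸ hrd)
        refine hppd 1 one_pos (by omega) ((Cfsg.Agent.LEZsig.natCast_pow_eq_one_iff (by omega)).2 ?_)
        rw [pow_one]
        exact five_cube _ hone
      · exact h
    rw [hn4'] at hbig h25 hdvd
    have hfac : p ^ 4 - 1 = (p ^ 2 + 1) * (p ^ 2 - 1) := by
      rw [← Nat.sq_sub_sq, one_pow, ← pow_mul]
    have hsmall : ∀ s : ℕ, s.Prime → s ∣ p ^ 2 + 1 → s = 2 ∨ s = 5 := by
      intro s hs hsd
      haveI := Fact.mk hs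
      by_contra hno
      have hm1 : (p : ZMod s) ^ 2 = -1 := by
        rw [eq_neg_iff_add_eq_zero]
        exact_mod_cast (ZMod.natCast_eq_zero_iff (p ^ 2 + 1) s).2 hsd
      have h2 : (2 : ZMod s) ≠ 0 := by
        intro h
        have : ((2 : ℕ) : ZMod s) = 0 := by exact_mod_cast h
        rw [ZMod.natCast_eq_zero_iff] at this
        exact hno (Or.inl ((Nat.prime_dvd_prime_iff_eq hs Nat.prime_two).1 this))
      have hs5 := hbig s hs (hfac ▸ dvd_mul_of_dvd_left hsd _) (by
        intro k hk0 hk4 hk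
        have hk1 := (Cfsg.Agent.LEZsig.natCast_pow_eq_one_iff (by omega)).1 hk
        interval_cases k
        · rw [pow_one] at hk1
          rw [hk1, one_pow] at hm1
          exact h2 (by linear_combination hm1)
        · rw [hk1] at hm1
          exact h2 (by linear_combination hm1)
        · rw [pow_succ, hm1] at hk1
          have : (p : ZMod s) ^ 2 = 1 := by
            rw [show (p : ZMod s) = -1 by linear_combination -hk1]; ring
          rw [this] at hm1
          exact h2 (by linear_combination hm1))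
      have hs3 : s = 3 := by
        have := hs.two_le
        have hs4 : s ≠ 4 := fun h => by rw [h] at hs; norm_num at hs
        omega
      subst hs3
      exact three_sq _ hm1
    have hodd : p % 2 = 1 := hp.eq_two_or_odd.resolve_left hp2
    obtain ⟨q, hq⟩ : ∃ q, p ^ 2 + 1 = 2 * q ∧ ¬ 2 ∣ q := by
      obtain ⟨t, ht⟩ : ∃ t, p = 2 * t + 1 := ⟨p / 2, by omega⟩
      exact ⟨2 * t * t + 2 * t + 1, by rw [ht]; ring, by
        intro h; rw [Nat.mul_assoc] at h; omega⟩
    have hq5 : q = 1 ∨ q = 5 := by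
      have hq0 : q ≠ 0 := fun h => by rw [h] at hq; omega
      have hpow := Nat.eq_prime_pow_of_unique_prime_dvd hq0 (p := 5) fun {d} hd hdq =>
        (hsmall d hd (hq.1 ▸ dvd_mul_of_dvd_right hdq 2)).resolve_left fun h => hq.2 (h ▸ hdq)
      rcases h : q.primeFactorsList.length with _ | _ | j
      · rw [h] at hpow; exact Or.inl hpow
      · rw [h] at hpow; exact Or.inr hpow
      · exfalso
        apply h25
        rw [hfac, hq.1, hpow, h]
        exact dvd_mul_of_dvd_left (dvd_mul_of_dvd_right ⟨5 ^ j, by ring⟩ 2) _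
    have : p ^ 2 ≤ 9 := by omega
    have hp33 : p = 3 := by nlinarith
    subst hp33
    rw [hdvd] at hHc
    rcases hidx with hi | hi <;> rw [hi] at hHc <;> omega
  -- in the plane, `M` is a group of scalars
  have hscal : ∀ x : M, ∃ a : ZMod p, ((x : H) : V ≃ₗ[ZMod p] V) v₀ = a • v₀ := by
    intro x
    by_contra! h
    exact hnocyc x (fun s hs => hcomm s hs x x.2) v₀ (range_eq_top_of_plane hn2 hv₀ h)
  choose a ha using hscal
  let χ : M →* ZMod p :=
    { toFun := a
      map_one' := smul_left_injective (ZMod p) hv₀ (by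
        show a 1 • v₀ = (1 : ZMod p) • v₀
        rw [← ha, one_smul]
        rfl)
      map_mul' := fun x y => smul_left_injective (ZMod p) hv₀ (by
        show a (x * y) • v₀ = (a x * a y) • v₀
        rw [← ha, mul_comm (a x), mul_smul, ← ha x, ← LinearEquiv.map_smul, ← ha y]
        rfl) }
  have hχ : Function.Injective χ.toHomUnits := (injective_iff_map_eq_one _).2 fun x hx => by
    by_contra hx1
    have h1 : a x = 1 := congrArg Units.val hx
    exact hv₀ (hfpf (x : H) (fun h => hx1 (Subtype.ext h)) v₀ (by rw [ha, h1, one_smul]))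
  haveI : IsCyclic M := isCyclic_of_injective χ.toHomUnits hχ
  have hmd : m ∣ p - 1 := by
    rw [hm, ← Nat.totient_prime hp, ← ZMod.card_units_eq_totient, ← Nat.card_eq_fintype_card]
    exact Subgroup.card_dvd_of_injective _ hχ
  rw [hn2] at hdvd
  obtain ⟨hi1, hcases⟩ := arith hp hidx hM30 hmd (by rw [← hdvd, hHc, Nat.mul_right_comm])
  obtain ⟨E⟩ := hcard₀.2 (Subgroup.index_eq_one.1 hi1)
  have hiso : ∀ k : ℕ, 0 < k → m = k →
      Nonempty (H ≃* Matrix.SpecialLinearGroup (Fin 2) (ZMod 5) × Multiplicative (ZMod k)) := by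
    intro k hk hmk
    haveI : NeZero k := ⟨by omega⟩
    exact ⟨E.symm.trans (e.prodCongr (mulEquivOfCyclicCardEq (by
      rw [← hm, hmk, Nat.card_eq_fintype_card, Fintype.card_multiplicative, ZMod.card])))⟩
  rw [hn2] at hV
  rcases hcases with ⟨rfl, h1⟩ | ⟨rfl, h7⟩ | ⟨rfl, h29⟩
  · refine Or.inl ⟨hV.trans (by norm_num), ?_⟩
    haveI : Subsingleton M := (Nat.card_eq_one_iff_unique.1 (hm ▸ h1)).1
    haveI : Unique M := uniqueOfSubsingleton 1
    exact ⟨E.symm.trans (MulEquiv.prodUnique.trans e)⟩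
  · exact Or.inr (Or.inl ⟨hV.trans (by norm_num), hiso 7 (by norm_num) h7⟩)
  · exact Or.inr (Or.inr ⟨hV.trans (by norm_num), hiso 29 (by norm_num) h29⟩)

end Cfsg.Agent.S0689
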