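import Cfsg.Statements.S0691
import Cfsg.Agent.Lib.Perm.NearField
import Mathlib.Tactic.NormNum.Prime
-- import your own Cfsg.Agent.* helpers here

set_option autoImplicit false
set_option linter.style.haveILetI false
open Cfsg

namespace Cfsg.Agent.S0691

/-- An exceptional sharply doubly transitive group of degree 5^2: the listed matrices generate a subgroup of GL(2,5) of order 24 acting regularly on the non-zero vectors. -/
theorem result (A : Matrix.GeneralLinearGroup (Fin 2) (ZMod 5)) (B : Matrix.GeneralLinearGroup (Fin 2) (ZMod 5)) (C : Matrix.GeneralLinearGroup (Fin 2) (ZMod 5)) (hA : (A : Matrix (Fin 2) (Fin 2) (ZMod 5)) = !![2, 0; 0, -2]) (hB : (B : Matrix (Fin 2) (Fin 2) (ZMod 5)) = !![0, -1; 1, 0]) (hC : (C : Matrix (Fin 2) (Fin 2) (ZMod 5)) = !![1, 2; 1, -2]) : Nat.card (Subgroup.closure ({A, B, C} : Set (Matrix.GeneralLinearGroup (Fin 2) (ZMod 5)))) = 24 ∧ ∀ v w : Fin 2 → ZMod 5, v ≠ 0 → w ≠ 0 → ∃! h : Subgroup.closure ({A, B, C}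 : Set (Matrix.GeneralLinearGroup (Fin 2) (ZMod 5))), Matrix.mulVec ((h : Matrix.GeneralLinearGroup (Fin 2) (ZMod 5)) : Matrix (Fin 2) (Fin 2) (ZMod 5)) v = w := by
  haveI : Fact (Nat.Prime 5) := ⟨by norm_num⟩
  have eA : (A : Matrix (Fin 2) (Fin 2) (ZMod 5)) = NearFieldCert.toM 5 (2, 0, 0, 3) := by rw [hA]; decide +kernel
  have eB : (B : Matrix (Fin 2) (Fin 2) (ZMod 5)) = NearFieldCert.toM 5 (0, 4, 1, 0) := by rw [hB]; decide +kernel
  have eC : (C : Matrix (Fin 2) (Fin 2) (ZMod 5)) = NearFieldCert.toM 5 (1, 2, 1, 3) := by rw [hC]; decide +kernel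
  have hc : Nat.card (Subgroup.closure ({A, B, C} : Set (Matrix.GeneralLinearGroup (Fin 2) (ZMod 5)))) = 24 := by
    rw [NearFieldCert.card_closure_of_gen _ [(2, 0, 0, 3), (0, 4, 1, 0), (1, 2, 1, 3)] 4 (by simp [eA, eB, eC])
      (by simp [eA, eB, eC]) (by decide +kernel) (by decide +kernel) (by decide +kernel)]
    decide +kernel
  exact NearFieldCert.regular _ [(2, 0, 0, 3), (0, 4, 1, 0), (1, 2, 1, 3)] [] (NearFieldCert.gen 5 [(2, 0, 0, 3), (0, 4, 1, 0), (1, 2, 1, 3)] 4) [1] (by simp [eA, eB, eC])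
    (by decide +kernel) (by decide +kernel) (by decide +kernel) (by decide +kernel) (by decide +kernel)
    (by rw [hc]; norm_num)

end Cfsg.Agent.S0691
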