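import Cfsg.Statements.S0692
import Cfsg.Agent.Lib.Perm.NearField
import Mathlib.Tactic.NormNum.Prime
-- import your own Cfsg.Agent.* helpers here

set_option autoImplicit false
set_option linter.style.haveILetI false
open Cfsg

namespace Cfsg.Agent.S0692

/-- An exceptional sharply doubly transitive group of degree 11^2: the listed matrices generate a subgroup of GL(2,11) of order 120 acting regularly on the non-zero vectors. -/
theorem result (A : Matrix.GeneralLinearGroup (Fin 2) (ZMod 11)) (B : Matrix.GeneralLinearGroup (Fin 2) (ZMod 11)) (hA : (A : Matrix (Fin 2) (Fin 2) (ZMod 11)) = !![0, -1; 1, 0]) (hB : (B : Matrix (Fin 2) (Fin 2) (ZMod 11)) = !![2, 4; 1, -3]) : Nat.card (Subgroup.closure ({A, B} : Set (Matrix.GeneralLinearGroup (Fin 2) (ZMod 11)))) = 120 ∧ ∀ v w : Fin 2 → ZMod 11, v ≠ 0 → w ≠ 0 → ∃! h : Subgroup.closure ({A, B} : Set (Matrix.GeneralLinearGroup (Fin 2) (ZMod 11))), Matrix.mulVec ((h : Matrix.GeneralLinearGroup (Fin 2) (ZMod 11)) : Matrix (Fin 2) (Fin 2)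 (ZMod 11)) v = w := by
  haveI : Fact (Nat.Prime 11) := ⟨by norm_num⟩
  have eA : (A : Matrix (Fin 2) (Fin 2) (ZMod 11)) = NearFieldCert.toM 11 (0, 10, 1, 0) := by rw [hA]; decide +kernel
  have eB : (B : Matrix (Fin 2) (Fin 2) (ZMod 11)) = NearFieldCert.toM 11 (2, 4, 1, 8) := by rw [hB]; decide +kernel
  have hc : Nat.card (Subgroup.closure ({A, B} : Set (Matrix.GeneralLinearGroup (Fin 2) (ZMod 11)))) = 120 := by
    rw [NearFieldCert.card_closure_of_gen _ [(0, 10, 1, 0), (2, 4, 1, 8)] 12 (by simp [eA, eB])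
      (by simp [eA, eB]) (by decide +kernel) (by decide +kernel) (by decide +kernel)]
    decide +kernel
  exact NearFieldCert.regular _ [(0, 10, 1, 0), (2, 4, 1, 8)] [] (NearFieldCert.gen 11 [(0, 10, 1, 0), (2, 4, 1, 8)] 12) [1] (by simp [eA, eB])
    (by decide +kernel) (by decide +kernel) (by decide +kernel) (by decide +kernel) (by decide +kernel)
    (by rw [hc]; norm_num)

end Cfsg.Agent.S0692
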