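import Cfsg.Statements.S0693
import Cfsg.Agent.Lib.Perm.NearField
import Mathlib.Tactic.NormNum.Prime
import Mathlib.GroupTheory.OrderOfElement
import Mathlib.Algebra.Field.ZMod
-- import your own Cfsg.Agent.* helpers here

set_option autoImplicit false
set_option linter.style.haveILetI false
open Cfsg

namespace Cfsg.Agent.S0693

/-- An exceptional sharply doubly transitive group of degree 59^2: the listed matrices generate a subgroup of GL(2,59) of order 3480 acting regularly on the non-zero vectors. -/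
theorem result (A : Matrix.GeneralLinearGroup (Fin 2) (ZMod 59)) (B : Matrix.GeneralLinearGroup (Fin 2) (ZMod 59)) (C : Matrix.GeneralLinearGroup (Fin 2) (ZMod 59)) (hA : (A : Matrix (Fin 2) (Fin 2) (ZMod 59)) = !![0, -1; 1, 0]) (hB : (B : Matrix (Fin 2) (Fin 2) (ZMod 59)) = !![9, 15; -10, -10]) (hC : (C : Matrix (Fin 2) (Fin 2) (ZMod 59)) = !![4, 0; 0, 4]) : Nat.card (Subgroup.closure ({A, B, C} : Set (Matrix.GeneralLinearGroup (Fin 2) (ZMod 59)))) = 3480 ∧ ∀ v w : Fin 2 → ZMod 59, v ≠ 0 → w ≠ 0 → ∃! h : Subgroup.closure ({A, B, C} : Set (Matrix.GeneralLinearGroup (Fin 2) (ZMod 59))), Matrix.mulVec ((h : Matrix.GeneralLinearGroup (Fin 2) (ZMod 59)) : Matrix (Fin 2) (Fin 2) (ZMod 59)) v = w := by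
  have eA : (A : Matrix (Fin 2) (Fin 2) (ZMod 59)) = NearFieldCert.toM 59 (0, 58, 1, 0) := by rw [hA]; decide +kernel
  have eB : (B : Matrix (Fin 2) (Fin 2) (ZMod 59)) = NearFieldCert.toM 59 (9, 15, 49, 49) := by rw [hB]; decide +kernel
  have eC : (C : Matrix (Fin 2) (Fin 2) (ZMod 59)) = ((4 : ℕ) : ZMod 59) • 1 := by rw [hC]; decide +kernel
  set H := Subgroup.closure ({A, B, C} : Set (Matrix.GeneralLinearGroup (Fin 2) (ZMod 59))) with hH
  have hpow : C ^ 29 = 1 := Units.ext (by
      rw [Units.val_pow_eq_pow_val, eC, smul_pow, one_pow, Units.val_one]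
      decide +kernel)
  have hne : C ≠ 1 := by
      intro h
      rw [h] at eC
      exact absurd eC (by decide +kernel)
  haveI : Fact (Nat.Prime 59) := ⟨by norm_num⟩
  have hc : Nat.card (Subgroup.closure ({A, B} : Set (Matrix.GeneralLinearGroup (Fin 2) (ZMod 59)))) = 120 := by
    rw [NearFieldCert.card_closure_of_gen _ [(0, 58, 1, 0), (9, 15, 49, 49)] 12 (by simp [eA, eB])
      (by simp [eA, eB]) (by decide +kernel) (by decide +kernel) (by decide +kernel)]
    decide +kernel
  have h120 : 120 ∣ Nat.card H := hc ▸ Subgroup.card_dvd_of_le (Subgroup.closure_mono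
    (Set.insert_subset_insert (Set.singleton_subset_iff.2 (Set.mem_insert _ _))))
  have h29 : 29 ∣ Nat.card H := by
    haveI : Fact (Nat.Prime 29) := ⟨by norm_num⟩
    rw [← orderOf_eq_prime hpow hne]
    exact Subgroup.orderOf_dvd_natCard (s := H) (Subgroup.subset_closure (by simp))
  exact NearFieldCert.regular _ [(0, 58, 1, 0), (9, 15, 49, 49)] [4] (NearFieldCert.gen 59 [(0, 58, 1, 0), (9, 15, 49, 49)] 12)
    ((List.range 29).map fun i => 4 ^ i % 59) (by simp [eA, eB, eC])
    (by decide +kernel) (by decide +kernel) (by decide +kernel) (by decide +kernel) (by decide +kernel)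
    (by simpa using Nat.Coprime.mul_dvd_of_dvd_of_dvd (by norm_num) h120 h29)

end Cfsg.Agent.S0693
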