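import Cfsg.Statements.S0694
import Mathlib.Algebra.Ring.GeomSum
import Mathlib.Data.Nat.Factorization.Induction
import Mathlib.FieldTheory.Finite.Basic
import Mathlib.Tactic.Ring
-- import your own Cfsg.Agent.* helpers here

set_option autoImplicit false
set_option linter.style.haveILetI false
open Cfsg

namespace Cfsg.Agent.S0694

/-- `1 + q + ... + q ^ (i - 1)`. -/
def S (q i : ℕ) : ℕ := ∑ j ∈ Finset.range i, q ^ j

theorem geom (q : ℕ) (hq : 1 ≤ q) (i : ℕ) : (q - 1) * S q i + 1 = q ^ i := by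
  obtain ⟨m, rfl⟩ : ∃ m, q = m + 1 := ⟨q - 1, by omega⟩
  rw [Nat.add_sub_cancel, mul_comm, S, geom_sum_mul_add]

theorem S_one (q : ℕ) : S q 1 = 1 := by simp [S]

theorem S_two (q : ℕ) : S q 2 = 1 + q := by simp [S, Finset.sum_range_succ]

theorem S_mul (q a : ℕ) : ∀ b, S q (a * b) = S q a * S (q ^ a) b := by
  intro b
  induction b with
  | zero => simp [S]
  | succ b ih =>
    rw [Nat.mul_succ, S, Finset.sum_range_add, ← S, ih, show S (q ^ a) (b + 1) =
      S (q ^ a) b + (q ^ a) ^ b from Finset.sum_range_succ _ _, mul_add]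
    congr 1
    rw [S, Finset.sum_mul]
    exact Finset.sum_congr rfl fun j _ => by rw [← pow_mul, ← pow_add, add_comm]

theorem S_modEq (r Q : ℕ) (h : Q ≡ 1 [MOD r]) (m : ℕ) : S Q m ≡ m [MOD r] := by
  induction m with
  | zero => rfl
  | succ m ih =>
    rw [S, Finset.sum_range_succ, ← S]
    simpa using ih.add (h.pow m)

theorem pow_modEq_one (q r i : ℕ) (h : q ≡ 1 [MOD r]) : q ^ i ≡ 1 [MOD r] := by
  simpa using h.pow i

theorem modEq_one_of_dvd (q r : ℕ) (hq : 1 ≤ q) (h : r ∣ q - 1) : q ≡ 1 [MOD r] :=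
  ((Nat.modEq_iff_dvd' hq).2 h).symm

theorem dvd_sub_one_of_modEq (Q r : ℕ) (hQ : 1 ≤ Q) (h : Q ≡ 1 [MOD r]) : r ∣ Q - 1 :=
  (Nat.modEq_iff_dvd' hQ).1 h.symm

/-- For a good prime `r`, the sum of `r` terms is exactly divisible by `r`. -/
theorem S_prime (r Q : ℕ) (hr : r.Prime) (hQ : 1 ≤ Q) (h : r ∣ Q - 1) (h2 : r = 2 → 4 ∣ Q - 1) :
    ∃ c, ¬ r ∣ c ∧ S Q r = r * c := by
  obtain ⟨k, hk⟩ := h
  have hQ' : Q = 1 + r * k := by omega
  subst hQ'
  rcases hr.eq_two_or_odd' with rfl | ⟨t, ht⟩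
  · have h4 := h2 rfl
    refine ⟨1 + k, by omega, ?_⟩
    rw [S_two]; ring
  · have hpow : ∀ j : ℕ, ∃ u, (1 + r * k) ^ j = 1 + j * (r * k) + r * r * u := by
      intro j
      induction j with
      | zero => exact ⟨0, by simp⟩
      | succ j ih =>
        obtain ⟨u, hu⟩ := ih
        refine ⟨u + j * k * k + r * k * u, ?_⟩
        rw [pow_succ, hu]; ring
    choose u hu using hpow
    have hsum : S (1 + r * k) r =
        r + (∑ j ∈ Finset.range r, j) * (r * k) + r * r * ∑ j ∈ Finset.range r, u j := by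
      simp only [S, hu, Finset.sum_add_distrib, Finset.sum_mul, Finset.mul_sum, Finset.sum_const,
        Finset.card_range, smul_eq_mul, mul_one]
    have hgauss : ∑ j ∈ Finset.range r, j = r * t := by
      have h := Finset.sum_range_id_mul_two r
      rw [show r - 1 = t * 2 by omega, ← mul_assoc] at h
      omega
    refine ⟨1 + r * (t * k + ∑ j ∈ Finset.range r, u j), ?_, ?_⟩
    · intro hd
      have := Nat.dvd_sub hd (dvd_mul_right r (t * k + ∑ j ∈ Finset.range r, u j))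
      rw [Nat.add_sub_cancel] at this
      exact hr.one_lt.ne' (Nat.dvd_one.1 this)
    · rw [hsum, hgauss]; ring

theorem S_prime_pow (r q : ℕ) (hr : r.Prime) (hq : 1 ≤ q) (h : r ∣ q - 1)
    (h2 : r = 2 → 4 ∣ q - 1) : ∀ b, ∃ c, ¬ r ∣ c ∧ S q (r ^ b) = r ^ b * c := by
  intro b
  induction b with
  | zero => exact ⟨1, by simp [hr.one_lt.ne'], by simp [S_one]⟩
  | succ b ih =>
    obtain ⟨c, hc, hS⟩ := ih
    obtain ⟨c', hc', hS'⟩ := S_prime r (q ^ r ^ b) hr (Nat.one_le_pow _ _ hq)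
      (h.trans (by simpa using Nat.sub_dvd_pow_sub_pow q 1 (r ^ b)))
      (fun e => (h2 e).trans (by simpa using Nat.sub_dvd_pow_sub_pow q 1 (r ^ b)))
    refine ⟨c * c', fun hd => (hr.dvd_mul.1 hd).elim hc hc', ?_⟩
    rw [pow_succ, S_mul, hS, hS']; ring

theorem prime_pow_dvd_iff (r q : ℕ) (hr : r.Prime) (hq : 1 ≤ q) (h : r ∣ q - 1) (a : ℕ)
    (h2 : r = 2 → 2 ≤ a → 4 ∣ q - 1) (i : ℕ) (hi : 0 < i) : r ^ a ∣ S q i ↔ r ^ a ∣ i := by
  rcases a with _ | a
  · simp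
  have hmod := S_modEq r q (modEq_one_of_dvd q r hq h) i
  by_cases h1 : r = 2 ∧ a = 0
  · rw [h1.2, zero_add, pow_one]
    exact Nat.ModEq.dvd_iff hmod dvd_rfl
  obtain ⟨b, m, hm, rfl⟩ := Nat.exists_eq_pow_mul_and_not_dvd hi.ne' r hr.one_lt.ne'
  obtain ⟨c, hc, hS⟩ := S_prime_pow r q hr hq h
    (fun e => h2 e (by rcases a with _ | a; exact absurd ⟨e, rfl⟩ h1; omega)) b
  have hSm : ¬ r ∣ S (q ^ r ^ b) m := fun hd => hm ((Nat.ModEq.dvd_iff
    (S_modEq r _ (pow_modEq_one q r _ (modEq_one_of_dvd q r hq h)) m) dvd_rfl).1 hd)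
  have hcop : ∀ x, ¬ r ∣ x → (r ^ (a + 1)).Coprime x := fun x hx =>
    Nat.Coprime.pow_left _ (hr.coprime_iff_not_dvd.2 hx)
  rw [S_mul, hS, mul_assoc]
  rw [(hcop _ (fun hd => (hr.dvd_mul.1 hd).elim hc hSm)).dvd_mul_right, (hcop m hm).dvd_mul_right]

theorem dvd_S_iff (q n : ℕ) (hq : 1 ≤ q) (h1 : ∀ r : ℕ, r.Prime → r ∣ n → r ∣ q - 1)
    (h2 : 4 ∣ n → 4 ∣ q - 1) (i : ℕ) : n ∣ S q i ↔ n ∣ i := by
  rcases i.eq_zero_or_pos with rfl | hi
  · simp [S]
  rw [Nat.dvd_iff_prime_pow_dvd_dvd (S q i) n, Nat.dvd_iff_prime_pow_dvd_dvd i n]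
  refine forall₄_congr fun r a hr hd => ?_
  rcases a with _ | a
  · simp
  exact prime_pow_dvd_iff r q hr hq (h1 r hr ((dvd_pow_self r a.succ_ne_zero).trans hd)) _
    (fun e ha => h2 (by subst e; exact (pow_dvd_pow 2 ha).trans hd)) i hi

theorem S_dvd (q a b : ℕ) : S q a ∣ S q (a * b) := by rw [S_mul]; exact dvd_mul_right _ _

/-- Every modulus prime to `q` divides some `S q i` with `i` at most the modulus. -/
theorem exists_le (q : ℕ) (hq : 1 ≤ q) (n : ℕ) :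
    0 < n → n.Coprime q → ∃ i, 0 < i ∧ i ≤ n ∧ n ∣ S q i := by
  induction n using Nat.recOnPrimeCoprime with
  | zero => exact fun h => absurd h (lt_irrefl 0)
  | prime_pow r a hr =>
    intro _ hcop
    rcases a with _ | a
    · exact ⟨1, one_pos, by simp, by simp⟩
    by_cases hd : r ∣ q - 1
    · refine ⟨r ^ (a + 1), pow_pos hr.pos _, le_rfl, ?_⟩
      clear hcop
      induction a with
      | zero =>
        rw [zero_add, pow_one]
        exact (Nat.ModEq.dvd_iff (S_modEq r q (modEq_one_of_dvd q r hq hd) r) dvd_rfl).2 dvd_rfl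
      | succ a ih =>
        rw [pow_succ r (a + 1), S_mul]
        exact Nat.mul_dvd_mul (ih (pow_pos hr.pos _)) ((Nat.ModEq.dvd_iff (S_modEq r _
          (pow_modEq_one q r _ (modEq_one_of_dvd q r hq hd)) r) dvd_rfl).2 dvd_rfl)
    · refine ⟨Nat.totient (r ^ (a + 1)), Nat.totient_pos.2 (pow_pos hr.pos _), Nat.totient_le _, ?_⟩
      have hE := Nat.ModEq.pow_totient (x := q) (n := r ^ (a + 1)) hcop.symm
      have h := dvd_sub_one_of_modEq _ _ (Nat.one_le_pow _ _ hq) hE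
      rw [← geom q hq (Nat.totient _), Nat.add_sub_cancel] at h
      exact (Nat.Coprime.pow_left _ (hr.coprime_iff_not_dvd.2 hd)).dvd_of_dvd_mul_left h
  | coprime x y _ _ hxy ihx ihy =>
    intro hpos hcop
    obtain ⟨i, hi, hile, hid⟩ := ihx (pos_of_mul_pos_left hpos (Nat.zero_le _))
      (hcop.coprime_dvd_left (dvd_mul_right x y))
    obtain ⟨j, hj, hjle, hjd⟩ := ihy (pos_of_mul_pos_right hpos (Nat.zero_le _))
      (hcop.coprime_dvd_left (dvd_mul_left y x))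
    refine ⟨i * j, Nat.mul_pos hi hj, Nat.mul_le_mul hile hjle,
      hxy.mul_dvd_of_dvd_of_dvd (hid.trans (S_dvd q i j)) (hjd.trans ?_)⟩
    rw [mul_comm i j]; exact S_dvd q j i

theorem exists_small (q n : ℕ) (hq : 2 ≤ q) (hn : 0 < n) (hdvd : n ∣ S q n) (r : ℕ) (hr : r.Prime)
    (hrn : r ∣ n) (hbad : ¬ r ∣ q - 1 ∨ (r = 2 ∧ 4 ∣ n ∧ ¬ 4 ∣ q - 1)) :
    ∃ i, 0 < i ∧ i < n ∧ n ∣ S q i := by
  have hcop : n.Coprime q := by
    have hg := geom q (by omega) n
    refine Nat.coprime_of_dvd fun k hk hkn hkq => ?_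
    have h1 : k ∣ (q - 1) * S q n := dvd_mul_of_dvd_right (hkn.trans hdvd) _
    have h2 : k ∣ q ^ n := dvd_pow hkq hn.ne'
    rw [← hg] at h2
    exact hk.one_lt.ne' (Nat.dvd_one.1 ((Nat.dvd_add_right h1).1 h2))
  obtain ⟨a, m, hm, rfl⟩ := Nat.exists_eq_pow_mul_and_not_dvd hn.ne' r hr.one_lt.ne'
  have hm0 : 0 < m := pos_of_mul_pos_right hn (Nat.zero_le _)
  have ha : a ≠ 0 := by
    rintro rfl
    rw [pow_zero, one_mul] at hrn
    exact hm hrn
  obtain ⟨i, hi, hile, hid⟩ := exists_le q (by omega) m hm0 (hcop.coprime_dvd_left (dvd_mul_left _ _))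
  have hsmall : ∃ j, 0 < j ∧ j < r ^ a ∧ r ^ a ∣ S q j := by
    by_cases hd : r ∣ q - 1
    · rcases hbad with h | ⟨rfl, h4, hq4⟩
      · exact absurd hd h
      obtain ⟨a, rfl⟩ : ∃ b, a = b + 2 := by
        refine ⟨a - 2, ?_⟩
        rcases a with _ | _ | a
        · exact absurd rfl ha
        · exfalso; omega
        · omega
      refine ⟨2 ^ (a + 1), pow_pos (by norm_num) _, Nat.pow_lt_pow_right (by norm_num) (by omega), ?_⟩
      clear hn hcop hdvd hrn h4 ha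
      induction a with
      | zero =>
        show 2 ^ 2 ∣ S q (2 ^ 1)
        rw [pow_one, S_two]; norm_num; omega
      | succ a ih =>
        rw [pow_succ 2 (a + 2), pow_succ 2 (a + 1), S_mul]
        refine Nat.mul_dvd_mul ih ?_
        exact (Nat.ModEq.dvd_iff (S_modEq 2 _
          (pow_modEq_one q 2 _ (modEq_one_of_dvd q 2 (by omega) hd)) 2) dvd_rfl).2 dvd_rfl
    · refine ⟨Nat.totient (r ^ a), Nat.totient_pos.2 (pow_pos hr.pos _),
        Nat.totient_lt _ (Nat.one_lt_pow ha hr.one_lt), ?_⟩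
      have hE := Nat.ModEq.pow_totient (x := q) (n := r ^ a)
        (hcop.coprime_dvd_left (dvd_mul_right _ _)).symm
      have h := dvd_sub_one_of_modEq _ _ (Nat.one_le_pow _ _ (by omega)) hE
      rw [← geom q (by omega) (Nat.totient _), Nat.add_sub_cancel] at h
      exact (Nat.Coprime.pow_left _ (hr.coprime_iff_not_dvd.2 hd)).dvd_of_dvd_mul_left h
  obtain ⟨j, hj, hjlt, hjd⟩ := hsmall
  refine ⟨j * i, Nat.mul_pos hj hi, Nat.mul_lt_mul_of_lt_of_le hjlt hile hm0,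
    (Nat.Coprime.pow_left _ (hr.coprime_iff_not_dvd.2 hm)).mul_dvd_of_dvd_of_dvd
      (hjd.trans (S_dvd q j i)) (hid.trans ?_)⟩
  rw [mul_comm j i]; exact S_dvd q i j


/-- The Dickson pair condition: for a prime power `q` and `n > 1`, (every prime factor of `n` divides `q - 1`, and `4 ∣ n → 4 ∣ q - 1`) holds exactly when `q ^ n ≡ 1` modulo `n * (q - 1)` but `q ^ i` is not, for `0 < i < n`. -/
theorem result (q n : ℕ) (hq : IsPrimePow q) (hn : 1 < n) : ((∀ r : ℕ, r.Prime → r ∣ n → r ∣ q - 1) ∧ (4 ∣ n → 4 ∣ q - 1)) ↔ (q ^ n ≡ 1 [MOD n * (q - 1)] ∧ ∀ i : ℕ, 0 < i → i < n → ¬ q ^ i ≡ 1 [MOD n * (q - 1)]) := by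
  have hq2 : 2 ≤ q := hq.two_le
  have hM : 0 < q - 1 := by omega
  have key : ∀ i, q ^ i ≡ 1 [MOD n * (q - 1)] ↔ n ∣ S q i := by
    intro i
    rw [← geom q (by omega) i, Nat.ModEq.comm, Nat.modEq_iff_dvd' (by omega), Nat.add_sub_cancel]
    exact ⟨fun h => Nat.dvd_of_mul_dvd_mul_right hM (by rwa [mul_comm (q - 1)] at h),
      fun h => by rw [mul_comm (q - 1)]; exact Nat.mul_dvd_mul_right h _⟩
  simp only [key]
  constructor
  · rintro ⟨h1, h2⟩
    have hiff := dvd_S_iff q n (by omega) h1 h2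
    exact ⟨(hiff n).2 dvd_rfl, fun i hi hin hd => absurd (Nat.le_of_dvd hi ((hiff i).1 hd)) (by omega)⟩
  · rintro ⟨hn', hmin⟩
    have hbad : ¬ ∃ r, r.Prime ∧ r ∣ n ∧ (¬ r ∣ q - 1 ∨ (r = 2 ∧ 4 ∣ n ∧ ¬ 4 ∣ q - 1)) := by
      rintro ⟨r, hr, hrn, hcase⟩
      obtain ⟨i, hi, hle, hd⟩ := exists_small q n hq2 (by omega) hn' r hr hrn hcase
      exact hmin i hi hle hd
    refine ⟨fun r hr hrn => ?_, fun h4 => ?_⟩
    · exact Classical.byContradiction fun h => hbad ⟨r, hr, hrn, Or.inl h⟩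
    · exact Classical.byContradiction fun h => hbad ⟨2, Nat.prime_two,
        (by norm_num : 2 ∣ 4).trans h4, Or.inr ⟨rfl, h4, h⟩⟩

end Cfsg.Agent.S0694
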