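import Cfsg.Statements.S0698
import Cfsg.Agent.Lib.Perm.NormalSub
import Cfsg.Agent.S0695
-- import your own Cfsg.Agent.* helpers here

set_option autoImplicit false
set_option linter.style.haveILetI false
open Cfsg

namespace Cfsg.Agent.S0698

/-- Jordan's Theorem on normal subgroups of multiply transitive groups: if `G` is `k`-transitive (`k > 1`) of degree greater than `k`, a non-trivial normal subgroup is `(k-1)`-transitive, except possibly for `k = 3` when it may be an elementary abelian 2-group. -/
theorem result {α : Type*} [Fintype α] [DecidableEq α] (G : Subgroup (Equiv.Perm α)) {k : ℕ} (hk : 1 < k) (hdeg : k < Fintype.card α) (hG : MulAction.IsMultiplyPretransitive G α k) (N : Subgroup G) [N.Normal] (hN : N ≠ ⊥) : MulAction.IsMultiplyPretransitive N α (k - 1) ∨ (k = 3 ∧ IsMulCommutative N ∧ ∀ n ∈ N, n ^ 2 = 1) := by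
  have hn : Nat.card α = Fintype.card α := Nat.card_eq_fintype_card
  obtain ⟨j, rfl⟩ : ∃ j, k = j + 1 := ⟨k - 1, by omega⟩
  haveI := hG
  have hpp : MulAction.IsMultiplyPreprimitive G α j :=
    MulAction.isMultiplyPreprimitive_of_isMultiplyPretransitive_succ G α
      (by rw [ENat.card_eq_coe_fintype_card]; exact_mod_cast hdeg.le)
  have hle : ∀ {i : ℕ}, i ≤ j → MulAction.IsMultiplyPreprimitive G α i := fun hi =>
    MulAction.isMultiplyPreprimitive_of_le G α hpp hi
      (by rw [ENat.card_eq_coe_fintype_card]; exact_mod_cast (show j ≤ Fintype.card α by omega))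
  have hprim : MulAction.IsPreprimitive G α :=
    (MulAction.is_one_preprimitive_iff G α).1 (hle (by omega))
  haveI := PermNormal.transitive_of_normal hprim N hN
  rw [Nat.add_sub_cancel]
  by_cases hnr : ∃ a : α, MulAction.stabilizer N a ≠ ⊥
  · exact Or.inl (PermNormal.multiplyPretransitive_of_normal j G α (by omega) (by omega) hpp
      (Or.inr (by omega)) N inferInstance hN hnr)
  push Not at hnr
  rcases Nat.lt_or_ge j 2 with h1 | h2
  · obtain rfl : j = 1 := by omega
    exact Or.inl (MulAction.is_one_pretransitive_iff.2 inferInstance)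
  rcases Nat.lt_or_ge j 3 with h3 | h3
  · obtain rfl : j = 2 := by omega
    rcases Cfsg.Agent.S0695.result (by omega) hpp N inferInstance hnr with h | ⟨hc, hsq, -⟩
    · omega
    · exact Or.inr ⟨rfl, hc, hsq⟩
  · have := Cfsg.Agent.S0696.result (by omega) (hle h3) N inferInstance hnr
    omega

end Cfsg.Agent.S0698
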