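import Cfsg.Statements.S0699
import Cfsg.Agent.S0698
import Cfsg.Agent.Lib.Perm.Multiple
import Cfsg.Agent.Lib.Perm.NormalSub
import Mathlib.GroupTheory.Sylow
-- import your own Cfsg.Agent.* helpers here

set_option autoImplicit false
set_option linter.style.haveILetI false
open Cfsg

namespace Cfsg.Agent.S0699

theorem inj3 {β : Type*} {b c u : β} (h1 : b ≠ c) (h2 : u ≠ b) (h3 : u ≠ c) :
    Function.Injective ![b, c, u] := by
  intro i j hij
  fin_cases i <;> fin_cases j <;> simp_all

/-- Wagner's Theorem: a non-trivial normal subgroup of a triply transitive permutation group of odd degree at least 5 is triply transitive. -/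
theorem result {α : Type*} [Fintype α] [DecidableEq α] (G : Subgroup (Equiv.Perm α)) (hodd : Odd (Fintype.card α)) (h5 : 5 ≤ Fintype.card α) (hG : MulAction.IsMultiplyPretransitive G α 3) (N : Subgroup G) [N.Normal] (hN : N ≠ ⊥) : MulAction.IsMultiplyPretransitive N α 3 := by
  classical
  haveI := hG
  have hn : Nat.card α = Fintype.card α := Nat.card_eq_fintype_card
  have hG2 : MulAction.IsMultiplyPretransitive G α 2 := MulAction.isMultiplyPretransitive_of_le (n := 3)
    (by omega) (by omega)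
  haveI := hG2
  have hprim : MulAction.IsPreprimitive G α := MulAction.isPreprimitive_of_is_two_pretransitive inferInstance
  haveI hNt := PermNormal.transitive_of_normal hprim N hN
  have hN2 : MulAction.IsMultiplyPretransitive N α 2 := by
    rcases Cfsg.Agent.S0698.result G (k := 3) (by norm_num) (by omega) hG N hN with h | ⟨-, hc, hsq⟩
    · exact h
    exfalso
    obtain ⟨a⟩ : Nonempty α := Fintype.card_pos_iff.1 (by omega)
    have hreg : MulAction.stabilizer N a = ⊥ := by
      rw [Subgroup.eq_bot_iff_forall]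
      intro m hm
      refine Subtype.ext (Subtype.ext (Equiv.ext fun y => ?_))
      obtain ⟨l, rfl⟩ := MulAction.exists_smul_eq N a y
      show m • l • a = l • a
      rw [← mul_smul, hc.is_comm.comm m l, mul_smul, show m • a = a from hm]
    have hcardN : Nat.card N = Fintype.card α := by
      have h := MulAction.index_stabilizer_of_transitive N a
      rw [hreg, Subgroup.index_bot, hn] at h
      exact h
    obtain ⟨m, hm⟩ := Subgroup.ne_bot_iff_exists_ne_one.1 hN
    have ho : orderOf m = 2 := by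
      haveI : Fact (Nat.Prime 2) := ⟨Nat.prime_two⟩
      exact orderOf_eq_prime (Subtype.ext (by rw [SubgroupClass.coe_pow]; exact hsq _ m.2)) hm
    have hd := orderOf_dvd_natCard m
    rw [ho, hcardN] at hd
    exact Nat.not_even_iff_odd.2 hodd (even_iff_two_dvd.2 hd)
  haveI := hN2
  have two : ∀ {a b c d : α}, a ≠ b → c ≠ d → ∃ g : N, g • a = c ∧ g • b = d :=
    MulAction.is_two_pretransitive_iff.1 hN2
  refine PermMultiple.isMultiplyPretransitive_of_fixTransitive fun j hj =>
    PermMultiple.fixTransitive_le (m := 2) ?_ (by omega) (by omega)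
  intro S hS x y hx hy
  obtain ⟨b, c, hbc, rfl⟩ := Finset.card_eq_two.1 hS
  simp only [Finset.mem_insert, Finset.mem_singleton, not_or] at hx hy
  let D : Subgroup N :=
    { carrier := {h | (h • b = b ∧ h • c = c) ∨ (h • b = c ∧ h • c = b)}
      one_mem' := Or.inl ⟨one_smul _ _, one_smul _ _⟩
      mul_mem' := by
        rintro g h (⟨h1, h2⟩ | ⟨h1, h2⟩) (⟨h3, h4⟩ | ⟨h3, h4⟩) <;>
          simp only [Set.mem_ofPred_eq, mul_smul, h3, h4, h1, h2] <;> tauto
      inv_mem' := by
        rintro g (⟨h1, h2⟩ | ⟨h1, h2⟩)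
        · exact Or.inl ⟨inv_smul_eq_iff.2 h1.symm, inv_smul_eq_iff.2 h2.symm⟩
        · exact Or.inr ⟨inv_smul_eq_iff.2 h2.symm, inv_smul_eq_iff.2 h1.symm⟩ }
  let P : Subgroup N := MulAction.stabilizer N b ⊓ MulAction.stabilizer N c
  have hPD : P ≤ D := fun h hh => Or.inl hh
  obtain ⟨σ, hσb, hσc⟩ := two hbc hbc.symm
  have hσD : σ ∈ D := Or.inr ⟨hσb, hσc⟩
  have hidx : (P.subgroupOf D).index = 2 := by
    rw [Subgroup.index_eq_two_iff]
    refine ⟨⟨σ, hσD⟩, fun h => ?_⟩
    rcases h.2 with ⟨h1, h2⟩ | ⟨h1, h2⟩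
    · refine Or.inr ⟨⟨h1, h2⟩, fun h' => hbc.symm ?_⟩
      have e : ((h : N) * σ) • b = b := h'.1
      rwa [mul_smul, hσb, h2] at e
    · refine Or.inl ⟨⟨?_, ?_⟩, fun h' => hbc.symm ?_⟩
      · show ((h : N) * σ) • b = b
        rw [mul_smul, hσb, h2]
      · show ((h : N) * σ) • c = c
        rw [mul_smul, hσc, h1]
      · exact h1.symm.trans h'.1
  have hcardD : Nat.card D = 2 * Nat.card P := by
    rw [← Subgroup.index_mul_card (P.subgroupOf D), hidx,
      Nat.card_congr (Subgroup.subgroupOfEquivOfLe hPD).toEquiv]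
  have hconj : ∀ u v : α, u ≠ v →
      Nat.card (MulAction.stabilizer N u ⊓ MulAction.stabilizer N v : Subgroup N) = Nat.card P := by
    intro u v huv
    obtain ⟨g, hgb, hgc⟩ := two hbc huv
    have : (MulAction.stabilizer N u ⊓ MulAction.stabilizer N v : Subgroup N) =
        P.map (MulAut.conj g).toMonoidHom := by
      ext h
      simp only [Subgroup.mem_map_equiv, P, Subgroup.mem_inf, MulAction.mem_stabilizer_iff,
        MulAut.conj_symm_apply, mul_smul, inv_smul_eq_iff, hgb, hgc]
    rw [this, Subgroup.card_map_of_injective (MulEquiv.injective _)]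
  let T : Finset α := (Finset.univ.erase b).erase c
  have hTc : T.card + 2 = Fintype.card α := by
    rw [Finset.card_erase_of_mem (Finset.mem_erase.2 ⟨hbc.symm, Finset.mem_univ _⟩),
      Finset.card_erase_of_mem (Finset.mem_univ _), Finset.card_univ]
    omega
  have hT : ∀ u, u ∈ T ↔ u ≠ b ∧ u ≠ c := fun u => by simp [T, and_comm]
  have horb_eq : ∀ u v, u ∈ T → v ∈ T →
      Nat.card (MulAction.orbit D u) = Nat.card (MulAction.orbit D v) := by
    intro u v hu hv
    rw [hT] at hu hv
    have e3 : Function.Injective ![b, c, u] := inj3 hbc hu.1 hu.2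
    have e3' : Function.Injective ![b, c, v] := inj3 hbc hv.1 hv.2
    obtain ⟨g, hg⟩ := MulAction.exists_smul_eq G (⟨_, e3⟩ : Fin 3 ↪ α) ⟨_, e3'⟩
    have hgb : g • b = b := DFunLike.congr_fun hg 0
    have hgc : g • c = c := DFunLike.congr_fun hg 1
    have hgu : g • u = v := DFunLike.congr_fun hg 2
    have hgbi : g⁻¹ • b = b := inv_smul_eq_iff.2 hgb.symm
    have hgci : g⁻¹ • c = c := inv_smul_eq_iff.2 hgc.symm
    refine Nat.card_congr ((MulAction.toPerm g).subtypeEquiv fun z => ?_)
    show z ∈ MulAction.orbit D u ↔ g • z ∈ MulAction.orbit D v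
    have mk : ∀ (d : D) (k : G), k • b = b → k • c = c → k⁻¹ • b = b → k⁻¹ • c = c →
        ∃ d' : D, ∀ w : α, d' • (k • w) = k • (d • w) := by
      intro d k hb hc' hb' hc''
      have hmem : k * ((d : N) : G) * k⁻¹ ∈ N := Subgroup.Normal.conj_mem inferInstance _ (d : N).2 k
      refine ⟨⟨⟨_, hmem⟩, ?_⟩, fun w => ?_⟩
      · rcases d.2 with ⟨h1, h2⟩ | ⟨h1, h2⟩
        · refine Or.inl ⟨?_, ?_⟩
          · show (k * ((d : N) : G) * k⁻¹) • b = b
            rw [mul_smul, mul_smul, hb', show ((d : N) : G) • b = b from h1, hb]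
          · show (k * ((d : N) : G) * k⁻¹) • c = c
            rw [mul_smul, mul_smul, hc'', show ((d : N) : G) • c = c from h2, hc']
        · refine Or.inr ⟨?_, ?_⟩
          · show (k * ((d : N) : G) * k⁻¹) • b = c
            rw [mul_smul, mul_smul, hb', show ((d : N) : G) • b = c from h1, hc']
          · show (k * ((d : N) : G) * k⁻¹) • c = b
            rw [mul_smul, mul_smul, hc'', show ((d : N) : G) • c = b from h2, hb]
      · show (k * ((d : N) : G) * k⁻¹) • (k • w) = k • (((d : N) : G) • w)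
        rw [mul_smul, mul_smul, inv_smul_smul]
    constructor
    · rintro ⟨d, rfl⟩
      obtain ⟨d', hd'⟩ := mk d g hgb hgc hgbi hgci
      exact ⟨d', by show d' • v = g • d • u; rw [← hgu, hd']⟩
    · rintro ⟨d, hd⟩
      obtain ⟨d', hd'⟩ := mk d g⁻¹ hgbi hgci (by rw [inv_inv]; exact hgb) (by rw [inv_inv]; exact hgc)
      refine ⟨d', ?_⟩
      show d' • u = z
      rw [← inv_smul_smul g u, hgu, hd', show d • v = g • z from hd, inv_smul_smul]
  have hxT : x ∈ T := (hT x).2 hx
  have hoddo : ∀ u ∈ T, ¬ 2 ∣ Nat.card (MulAction.orbit D u) := by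
    intro u hu h2
    have hd : 2 ∣ T.card := PermMultiple.dvd_card_of_dvd_orbit (G := D) T (fun g z hz => by
      rw [hT] at hz ⊢
      rcases g.2 with ⟨h1, h2⟩ | ⟨h1, h2⟩
      · exact ⟨fun e => hz.1 (MulAction.injective g (e.trans h1.symm)),
          fun e => hz.2 (MulAction.injective g (e.trans h2.symm))⟩
      · exact ⟨fun e => hz.2 (MulAction.injective g (e.trans h2.symm)),
          fun e => hz.1 (MulAction.injective g (e.trans h1.symm))⟩)
      fun z hz => by rw [horb_eq z u hz hu]; exact h2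
    obtain ⟨r, hr⟩ := hodd
    omega
  haveI : Fact (Nat.Prime 2) := ⟨Nat.prime_two⟩
  obtain ⟨S⟩ : Nonempty (Sylow 2 D) := inferInstance
  have hfix : ∀ u ∈ T, ∃ z, z ∈ MulAction.orbit D u ∧ ∀ s ∈ (S : Subgroup D), s • z = z := by
    intro u hu
    have h := S.isPGroup'.card_modEq_card_fixedPoints (MulAction.orbit D u)
    have hne : Nat.card (MulAction.fixedPoints (S : Subgroup D) (MulAction.orbit D u)) ≠ 0 := by
      intro h0
      rw [h0] at h
      exact hoddo u hu (Nat.modEq_zero_iff_dvd.1 h)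
    obtain ⟨⟨z, hz⟩⟩ := (Nat.card_ne_zero.1 hne).1
    exact ⟨z.1, z.2, fun s hs => congrArg Subtype.val (hz ⟨s, hs⟩)⟩
  have honly : ∀ u ∈ T, ∀ v ∈ T, (∀ s ∈ (S : Subgroup D), s • u = u) →
      (∀ s ∈ (S : Subgroup D), s • v = v) → u = v := by
    intro u hu v hv h1 h2
    by_contra huv
    have hle : (S : Subgroup D).map D.subtype ≤
        MulAction.stabilizer N u ⊓ MulAction.stabilizer N v := by
      rintro _ ⟨s, hs, rfl⟩
      exact ⟨h1 s hs, h2 s hs⟩
    have hd := Subgroup.card_dvd_of_le hle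
    rw [Subgroup.card_map_of_injective D.subtype_injective, hconj u v huv,
      S.card_eq_multiplicity, hcardD,
      Nat.factorization_mul (by norm_num) Nat.card_pos.ne', Finsupp.coe_add, Pi.add_apply,
      Nat.Prime.factorization_self Nat.prime_two] at hd
    have := (Nat.Prime.pow_dvd_iff_le_factorization Nat.prime_two Nat.card_pos.ne').1 hd
    omega
  have horbT : ∀ u ∈ T, ∀ z, z ∈ MulAction.orbit D u → z ∈ T := by
    rintro u hu _ ⟨g, rfl⟩
    rw [hT] at hu ⊢
    show g • u ≠ b ∧ g • u ≠ c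
    rcases g.2 with ⟨h1, h2⟩ | ⟨h1, h2⟩
    · exact ⟨fun e => hu.1 (MulAction.injective g (e.trans h1.symm)),
        fun e => hu.2 (MulAction.injective g (e.trans h2.symm))⟩
    · exact ⟨fun e => hu.2 (MulAction.injective g (e.trans h2.symm)),
        fun e => hu.1 (MulAction.injective g (e.trans h1.symm))⟩
  obtain ⟨zx, hzx, hzxf⟩ := hfix x hxT
  obtain ⟨zy, hzy, hzyf⟩ := hfix y ((hT y).2 hy)
  have hz := honly zx (horbT x hxT zx hzx) zy (horbT y ((hT y).2 hy) zy hzy) hzxf hzyf
  have hyx : y ∈ MulAction.orbit D x := by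
    obtain ⟨g, hg⟩ := hzx
    obtain ⟨g', hg'⟩ := hzy
    refine ⟨g'⁻¹ * g, ?_⟩
    show (g'⁻¹ * g) • x = y
    rw [mul_smul, show g • x = zx from hg, hz, inv_smul_eq_iff]
    exact hg'.symm
  obtain ⟨τ, hτP, hτx⟩ : ∃ τ : D, τ ∉ P.subgroupOf D ∧ τ • x = x := by
    by_contra hno
    refine hoddo x hxT ?_
    have hle : MulAction.stabilizer D x ≤ P.subgroupOf D := fun τ hτ =>
      Classical.byContradiction fun h => hno ⟨τ, h, hτ⟩
    have := Subgroup.index_dvd_of_le hle
    rw [hidx, MulAction.index_stabilizer] at this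
    rwa [← Nat.card_coe_set_eq] at this
  obtain ⟨g, hg⟩ := hyx
  obtain ⟨g', hg'P, hg'⟩ : ∃ g' : D, g' ∈ P.subgroupOf D ∧ g' • x = y := by
    by_cases hgP : g ∈ P.subgroupOf D
    · exact ⟨g, hgP, hg⟩
    · refine ⟨g * τ, ?_, by rw [mul_smul, hτx]; exact hg⟩
      rw [Subgroup.mul_mem_iff_of_index_two hidx]
      exact iff_of_false hgP hτP
  refine ⟨(g' : N), fun z hz => ?_, hg'⟩
  simp only [Finset.mem_insert, Finset.mem_singleton] at hz
  rcases hz with rfl | rfl
  · exact hg'P.1
  · exact hg'P.2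

end Cfsg.Agent.S0699
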