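import Cfsg.Statements.S0703
import Mathlib.GroupTheory.Sylow
import Mathlib.GroupTheory.Commutator.Basic

-- import your own Cfsg.Agent.* helpers here

set_option autoImplicit false
set_option linter.style.haveILetI false
open Cfsg

namespace Cfsg.Agent.S0703

/-- An abelian transitive minimal normal subgroup `M` of a permutation group on a finite set is self-centralising in the symmetric group, regular, elementary abelian, and is the unique minimal normal subgroup. -/
theorem result {α : Type*} [Finite α] (G : Subgroup (Equiv.Perm α)) (M : Subgroup G) [M.Normal] (hM : M ≠ ⊥) (hmin : ∀ L : Subgroup G, L.Normal → L ≤ M → L = ⊥ ∨ L = M) (hab : IsMulCommutative M) (htrans : MulAction.IsPretransitive M α) : Subgroup.centralizer ((M.map G.subtype : Subgroup (Equiv.Perm α)) : Set (Equiv.Perm α)) = M.map G.subtype ∧ (∀ a : α, MulAction.stabilizer M a = ⊥) ∧ (∃ p : ℕ, p.Prime ∧ ∀ m ∈ M, m ^ p = 1) ∧ ∀ L : Subgroup G, L.Normal → L ≠ ⊥ → (∀ L' : Subgroup G, L'.Normal → L' ≤ L → L' = ⊥ ∨ L' = L)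 → L = M := by
  haveI := htrans
  have key : ∀ (c : Equiv.Perm α), c ∈ Subgroup.centralizer ((M.map G.subtype : Subgroup _) : Set (Equiv.Perm α)) →
      ∀ (m : M) (x : α), c (m • x) = m • c x := fun c hc m x =>
    (congrArg (fun σ : Equiv.Perm α => σ x)
      (Subgroup.mem_centralizer_iff.1 hc ((m : G) : Equiv.Perm α) ⟨m, m.2, rfl⟩)).symm
  have hMC : M.map G.subtype ≤
      Subgroup.centralizer ((M.map G.subtype : Subgroup _) : Set (Equiv.Perm α)) := by
    rintro _ ⟨m, hm, rfl⟩
    rw [Subgroup.mem_centralizer_iff]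
    rintro _ ⟨m', hm', rfl⟩
    exact congrArg (fun z : M => ((z : G) : Equiv.Perm α))
      (hab.is_comm.comm ⟨m', hm'⟩ ⟨m, hm⟩)
  have hsemi : ∀ c ∈ Subgroup.centralizer ((M.map G.subtype : Subgroup _) : Set (Equiv.Perm α)),
      ∀ a : α, c a = a → c = 1 := fun c hc a ha => Equiv.ext fun x => by
    obtain ⟨m, rfl⟩ := MulAction.exists_smul_eq M a x
    rw [key c hc, ha]; rfl
  have hreg : ∀ a : α, MulAction.stabilizer M a = ⊥ := fun a => by
    rw [eq_bot_iff]
    intro m hm
    exact Subtype.ext (Subtype.ext (hsemi _ (hMC ⟨m, m.2, rfl⟩) a hm))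
  have hCeq : Subgroup.centralizer ((M.map G.subtype : Subgroup _) : Set (Equiv.Perm α)) =
      M.map G.subtype := by
    refine le_antisymm (fun c hc => ?_) hMC
    rcases isEmpty_or_nonempty α with he | ⟨⟨a⟩⟩
    · exact (Subsingleton.elim c 1).symm ▸ one_mem _
    obtain ⟨m, hm⟩ := MulAction.exists_smul_eq M a (c a)
    have hm' : ((m : G) : Equiv.Perm α) a = c a := hm
    have h := hsemi _ (mul_mem (inv_mem (hMC ⟨m, m.2, rfl⟩)) hc) a
      (by show ((m : G) : Equiv.Perm α)⁻¹ (c a) = a
          rw [← hm']; exact Equiv.symm_apply_apply _ _)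
    rw [inv_mul_eq_one] at h
    exact h ▸ ⟨m, m.2, rfl⟩
  refine ⟨hCeq, hreg, ?_, fun L hLn hL hLmin => ?_⟩
  · obtain ⟨p, hp, hpd⟩ := Nat.exists_prime_and_dvd
      (fun h : Nat.card M = 1 => hM (Subgroup.eq_bot_of_card_eq M h))
    haveI := Fact.mk hp
    obtain ⟨x, hx⟩ := exists_prime_orderOf_dvd_card' p hpd
    refine ⟨p, hp, ?_⟩
    let T : Subgroup G :=
      { carrier := {m | m ∈ M ∧ m ^ p = 1}
        one_mem' := ⟨M.one_mem, one_pow p⟩
        inv_mem' := fun {m} hm => ⟨M.inv_mem hm.1, by rw [inv_pow, hm.2, inv_one]⟩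
        mul_mem' := fun {m n} hm hn => ⟨M.mul_mem hm.1 hn.1, by
          have hc : Commute m n :=
            congrArg Subtype.val (hab.is_comm.comm ⟨m, hm.1⟩ ⟨n, hn.1⟩)
          rw [hc.mul_pow, hm.2, hn.2, one_mul]⟩ }
    have hTn : T.Normal := ⟨fun m hm g => ⟨(inferInstance : M.Normal).conj_mem m hm.1 g, by
      rw [conj_pow, hm.2, mul_one, mul_inv_cancel]⟩⟩
    rcases hmin T hTn (fun m hm => hm.1) with e | e
    · exfalso
      have h1 : (x : G) ∈ T := ⟨x.2, by rw [← hx, ← Subgroup.coe_pow, pow_orderOf_eq_one, Subgroup.coe_one]⟩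
      rw [e, Subgroup.mem_bot, ← Subgroup.coe_one M, Subtype.coe_inj] at h1
      rw [h1, orderOf_one] at hx
      exact hp.ne_one hx.symm
    · intro m hm
      exact ((e ▸ hm : m ∈ T)).2
  · haveI := hLn
    rcases hmin (L ⊓ M) inferInstance inf_le_right with e | e
    · exfalso
      apply hL
      have hc : L.map G.subtype ≤
          Subgroup.centralizer ((M.map G.subtype : Subgroup _) : Set (Equiv.Perm α)) := by
        rw [← Subgroup.commutator_eq_bot_iff_le_centralizer, ← Subgroup.map_commutator,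
          Subgroup.map_eq_bot_iff_of_injective _ G.subtype_injective, eq_bot_iff, ← e]
        exact Subgroup.commutator_le_inf L M
      rw [hCeq, Subgroup.map_le_map_iff_of_injective G.subtype_injective] at hc
      rwa [inf_eq_left.2 hc] at e
    · rcases hLmin M inferInstance (inf_eq_right.1 e) with e' | e'
      · exact absurd e' hM
      · exact e'.symm

end Cfsg.Agent.S0703
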