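import Cfsg.Statements.S0700
import Cfsg.Agent.Lib.Perm.NormalSub
import Cfsg.Agent.Lib.Perm.Multiple
import Cfsg.Agent.S0703
import Cfsg.Agent.Lib.Char.FrobeniusKernel
-- import your own Cfsg.Agent.* helpers here

set_option autoImplicit false
set_option linter.style.haveILetI false
open Cfsg
open scoped Pointwise

namespace Cfsg.Agent.S0700

open MulAction

/-- A regular normal subgroup of a two-transitive group is elementary abelian. -/
theorem abelian_of_regular {α : Type*} [Finite α] (G : Subgroup (Equiv.Perm α))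
    (two : ∀ {a b c d : α}, a ≠ b → c ≠ d → ∃ g : G, g • a = c ∧ g • b = d)
    (N : Subgroup G) [N.Normal] (hN : N ≠ ⊥)
    (hmin : ∀ M : Subgroup G, M.Normal → M ≤ N → M = ⊥ ∨ M = N)
    [IsPretransitive N α] (hreg : ∀ a : α, stabilizer N a = ⊥) :
    IsMulCommutative N := by
  classical
  haveI := Fintype.ofFinite α
  obtain ⟨p, hp, hpd⟩ := Nat.exists_prime_and_dvd
    (fun h : Nat.card N = 1 => hN (Subgroup.eq_bot_of_card_eq N h))
  haveI := Fact.mk hp
  obtain ⟨x, hx⟩ := exists_prime_orderOf_dvd_card' p hpd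
  have hx1 : x ≠ 1 := fun h => hp.ne_one (by rw [← hx, h, orderOf_one])
  obtain ⟨a⟩ : Nonempty α := by
    by_contra h
    rw [not_nonempty_iff] at h
    exact hx1 (Subtype.ext (Subtype.ext (Equiv.ext fun z => isEmptyElim z)))
  have hne : ∀ y : N, y ≠ 1 → y • a ≠ a := fun y hy h => hy (by
    have : y ∈ stabilizer N a := h
    rwa [hreg, Subgroup.mem_bot] at this)
  have hord : ∀ y : N, y ^ p = 1 := by
    intro y
    by_cases hy : y = 1
    · rw [hy, one_pow]
    obtain ⟨g, hga, hgx⟩ := two (hne x hx1).symm (hne y hy).symm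
    have hgi : g⁻¹ • a = a := inv_smul_eq_iff.2 hga.symm
    have hz : (⟨g * (x : G) * g⁻¹, Subgroup.Normal.conj_mem inferInstance _ x.2 g⟩ : N) = y := by
      have h1 : y⁻¹ * (⟨g * (x : G) * g⁻¹, Subgroup.Normal.conj_mem inferInstance _ x.2 g⟩ : N) ∈
          stabilizer N a := by
        show (y⁻¹ * _) • a = a
        rw [mul_smul, inv_smul_eq_iff]
        show (g * (x : G) * g⁻¹) • a = y • a
        rw [mul_smul, mul_smul, hgi]
        exact hgx
      rw [hreg, Subgroup.mem_bot, inv_mul_eq_one] at h1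
      exact h1.symm
    rw [← hz]
    refine Subtype.ext ?_
    rw [SubgroupClass.coe_pow, conj_pow, show ((x : G)) ^ p = 1 by
      rw [← hx, ← Subgroup.coe_pow, pow_orderOf_eq_one, Subgroup.coe_one], mul_one, mul_inv_cancel]
    rfl
  haveI : Nontrivial N := ⟨⟨x, 1, hx1⟩⟩
  have hP : IsPGroup p N := fun y => ⟨1, by rw [pow_one]; exact hord y⟩
  haveI := hP.center_nontrivial
  rcases hmin ((Subgroup.center N).map N.subtype) inferInstance (Subgroup.map_subtype_le _) with h | h
  · exfalso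
    rw [Subgroup.map_eq_bot_iff_of_injective _ N.subtype_injective] at h
    exact not_subsingleton (Subgroup.center N) (by rw [h]; infer_instance)
  · have hc : ∀ y : N, y ∈ Subgroup.center N := fun y => by
      obtain ⟨z, hz, hzy⟩ := (h.symm ▸ y.2 : (y : G) ∈ (Subgroup.center N).map N.subtype)
      rwa [← N.subtype_injective hzy]
    exact ⟨⟨fun y z => (Subgroup.mem_center_iff.1 (hc z) y)⟩⟩

/-- An imprimitive normal subgroup of a two-transitive group fixes at most one point. -/
theorem fix_one_of_block {α : Type*} [Finite α] (G : Subgroup (Equiv.Perm α))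
    (two : ∀ {a b c d : α}, a ≠ b → c ≠ d → ∃ g : G, g • a = c ∧ g • b = d)
    (N : Subgroup G) [N.Normal] [IsPretransitive N α] (h : ¬ IsPreprimitive N α)
    (x : N) (u v : α) (huv : u ≠ v) (hu : x • u = u) (hv : x • v = v) : x = 1 := by
  classical
  obtain ⟨B₀, hB₀, hB₀'⟩ : ∃ B : Set α, IsBlock N B ∧ ¬ IsTrivialBlock B := by
    by_contra hno
    push Not at hno
    exact h { isTrivialBlock_of_isBlock := fun hB => hno _ hB }
  rw [IsTrivialBlock, not_or, Set.not_subsingleton_iff] at hB₀'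
  have hex : ∃ m, ∃ B : Set α, IsBlock N B ∧ B.Nontrivial ∧ B.ncard = m :=
    ⟨_, B₀, hB₀, hB₀'.1, rfl⟩
  obtain ⟨B, hB, hB2, hBm⟩ := Nat.find_spec hex
  have hmin : ∀ L : Set α, IsBlock N L → L.Nontrivial → B.ncard ≤ L.ncard := fun L h1 h2 => by
    rw [hBm]; exact Nat.find_min' hex ⟨L, h1, h2, rfl⟩
  have hBu : B ≠ Set.univ := by
    intro hu'
    have h1 := hmin B₀ hB₀ hB₀'.1
    rw [hu', Set.ncard_univ] at h1
    exact hB₀'.2 ((Set.eq_univ_iff_ncard _).2 (le_antisymm (Set.ncard_le_card _) h1))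
  have htrans : ∀ g : G, IsBlock N (g • B) := by
    intro g
    rw [isBlock_iff_smul_eq_or_disjoint]
    intro k
    have hmem : g⁻¹ * (k : G) * g ∈ N := by
      simpa using Subgroup.Normal.conj_mem inferInstance _ k.2 g⁻¹
    have hk : k • (g • B) = g • ((⟨_, hmem⟩ : N) • B) := by
      show (k : G) • (g • B) = g • ((g⁻¹ * (k : G) * g) • B)
      rw [← mul_smul, ← mul_smul]
      congr 1
      group
    rw [hk]
    rcases isBlock_iff_smul_eq_or_disjoint.1 hB (⟨_, hmem⟩ : N) with h1 | h1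
    · exact Or.inl (by rw [h1])
    · exact Or.inr ((Set.disjoint_image_iff (MulAction.injective g)).2 h1)
  obtain ⟨a, ha, b, hb, hab⟩ := hB2
  have line : ∀ c d : α, c ≠ d → ∃ L : Set α, IsBlock N L ∧ c ∈ L ∧ d ∈ L ∧ L.ncard = B.ncard := by
    intro c d hcd
    obtain ⟨g, hgc, hgd⟩ := two hab hcd
    exact ⟨g • B, htrans g, hgc ▸ Set.smul_mem_smul_set ha, hgd ▸ Set.smul_mem_smul_set hb,
      Set.ncard_smul_set g B⟩
  have uniq : ∀ {L L' : Set α} {c d : α}, IsBlock N L → IsBlock N L' → L.ncard = B.ncard →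
      L'.ncard = B.ncard → c ≠ d → c ∈ L → c ∈ L' → d ∈ L → d ∈ L' → L = L' := by
    intro L L' c d hL hL' e e' hcd h1 h2 h3 h4
    have hi := hmin (L ∩ L') (hL.inter hL') ⟨c, ⟨h1, h2⟩, d, ⟨h3, h4⟩, hcd⟩
    have e1 : L ∩ L' = L := Set.eq_of_subset_of_ncard_le Set.inter_subset_left (by omega)
    have e2 : L ∩ L' = L' := Set.eq_of_subset_of_ncard_le Set.inter_subset_right (by omega)
    exact e1.symm.trans e2
  have hstab : ∀ {L : Set α} {c d : α}, IsBlock N L → c ∈ L → x • c = c → d ∈ L → x • d ∈ L := by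
    intro L c d hL hc hxc hd
    have e : x • L = L := hL.smul_eq_of_nonempty ⟨c, hxc ▸ Set.smul_mem_smul_set hc, hc⟩
    exact e ▸ Set.smul_mem_smul_set hd
  have outside : ∀ {c₁ c₂ : α} {L : Set α} {d : α}, x • c₁ = c₁ → x • c₂ = c₂ → c₁ ≠ c₂ →
      IsBlock N L → L.ncard = B.ncard → c₁ ∈ L → c₂ ∈ L → d ∉ L → x • d = d := by
    intro c₁ c₂ L d h1 h2 hne hL hLc m1 m2 hd
    by_contra hxd
    obtain ⟨L₁, hL₁, a1, b1, e1⟩ := line c₁ d (fun h => hd (h ▸ m1))
    obtain ⟨L₂, hL₂, a2, b2, e2⟩ := line c₂ d (fun h => hd (h ▸ m2))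
    have heq : L₁ = L₂ := uniq hL₁ hL₂ e1 e2 (Ne.symm hxd) b1 b2 (hstab hL₁ a1 h1 b1) (hstab hL₂ a2 h2 b2)
    subst heq
    exact hd ((uniq hL₁ hL e1 hLc hne a1 m1 a2 m2) ▸ b1)
  obtain ⟨L, hL, hLu, hLv, hLc⟩ := line u v huv
  obtain ⟨d, hd⟩ : ∃ d, d ∉ L := by
    by_contra hno
    push Not at hno
    refine hBu ((Set.eq_univ_iff_ncard _).2 ?_)
    rw [← hLc, Set.eq_univ_iff_forall.2 hno, Set.ncard_univ]
  have hxd := outside hu hv huv hL hLc hLu hLv hd
  refine Subtype.ext (Subtype.ext (Equiv.ext fun c => ?_))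
  show x • c = c
  by_cases hc : c ∈ L
  · by_cases hcu : c = u
    · rw [hcu, hu]
    obtain ⟨L', hL', m1, m2, e⟩ := line u d (fun h => hd (h ▸ hLu))
    exact outside hu hxd (fun h => hd (h ▸ hLu)) hL' e m1 m2
      fun h => hd ((uniq hL' hL e hLc (Ne.symm hcu) m1 hLu h hc) ▸ m2)
  · exact outside hu hv huv hL hLc hLu hLv hc

/-- A primitive non-regular minimal normal subgroup of a two-transitive group is simple. -/
theorem simple_of_primitive {α : Type*} [Finite α] (G : Subgroup (Equiv.Perm α))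
    (two : ∀ {a b c d : α}, a ≠ b → c ≠ d → ∃ g : G, g • a = c ∧ g • b = d)
    (N : Subgroup G) [N.Normal] (hN : N ≠ ⊥)
    (hmin : ∀ M : Subgroup G, M.Normal → M ≤ N → M = ⊥ ∨ M = N)
    (hprim : IsPreprimitive N α) (a : α) (hnr : stabilizer N a ≠ ⊥) : IsSimpleGroup N := by
  classical
  haveI := Fintype.ofFinite α
  haveI := hprim
  haveI : Nontrivial N := (Subgroup.nontrivial_iff_ne_bot N).2 hN
  refine ⟨?_⟩
  suffices hex : ¬ ∃ k, ∃ M : Subgroup N, M.Normal ∧ M ≠ ⊥ ∧ M ≠ ⊤ ∧ Nat.card M = k by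
    intro H hH
    by_contra hc
    rw [not_or] at hc
    exact hex ⟨_, H, hH, hc.1, hc.2, rfl⟩
  intro hex
  obtain ⟨M, hMn, hM1, hM2, hMk⟩ := Nat.find_spec hex
  set n := Nat.card α with hn
  have hminM : ∀ H : Subgroup N, H.Normal → H ≠ ⊥ → H ≤ M → H = M := by
    intro H hH h1 hle
    have h2 : H ≠ ⊤ := fun h => hM2 (top_le_iff.1 (h ▸ hle))
    exact Subgroup.eq_of_le_of_card_ge hle (hMk ▸ Nat.find_min' hex ⟨H, hH, h1, h2, rfl⟩)
  let cj : G → Subgroup N := fun g => M.map (MulAut.conjNormal g : MulAut N).toMonoidHom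
  have cjn : ∀ g, (cj g).Normal := fun g =>
    Subgroup.Normal.map hMn _ (MulEquiv.surjective _)
  have cjcard : ∀ g, Nat.card (cj g) = Nat.card M := fun g =>
    Subgroup.card_map_of_injective (MulEquiv.injective _)
  have cj1 : ∀ g, cj g ≠ ⊥ := fun g h => hM1 (Subgroup.eq_bot_of_card_eq M (by
    rw [← cjcard g, h, Subgroup.card_bot]))
  have htr : ∀ H : Subgroup N, H.Normal → H ≠ ⊥ → IsPretransitive H α := fun H hH h1 => by
    haveI := hH
    exact PermNormal.transitive_of_normal hprim H h1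
  have semireg : ∀ H : Subgroup N, IsPretransitive H α → ∀ z : N, (∀ h ∈ H, h * z = z * h) →
      ∀ c : α, z • c = c → z = 1 := by
    intro H hH z hz c hzc
    refine Subtype.ext (Subtype.ext (Equiv.ext fun d => ?_))
    obtain ⟨k, rfl⟩ := hH.exists_smul_eq c d
    show z • (k : N) • c = (k : N) • c
    rw [← mul_smul, ← hz k k.2, mul_smul, hzc]
  have comm : ∀ g, cj g ≠ M → ∀ p ∈ M, ∀ q ∈ cj g, p * q = q * p := by
    intro g hg p hp q hq
    haveI := cjn g
    have hdis : M ⊓ cj g = ⊥ := by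
      by_contra h
      have := hminM _ (inferInstance : (M ⊓ cj g).Normal) h inf_le_left
      exact hg (Subgroup.eq_of_le_of_card_ge (inf_eq_left.1 this) (cjcard g).le).symm
    exact Subgroup.commute_of_normal_of_disjoint M (cj g) hMn (cjn g) (disjoint_iff.2 hdis) p q hp hq
  by_cases hall : ∀ g, cj g = M
  · haveI : (M.map N.subtype).Normal := ⟨by
      rintro _ ⟨m, hm, rfl⟩ g
      exact ⟨MulAut.conjNormal g m, (hall g).le (Subgroup.mem_map_of_mem _ hm), by
        simp [MulAut.conjNormal_apply]⟩⟩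
    rcases hmin (M.map N.subtype) inferInstance (Subgroup.map_subtype_le _) with h | h
    · exact hM1 ((Subgroup.map_eq_bot_iff_of_injective _ N.subtype_injective).1 h)
    · refine hM2 (Subgroup.map_injective N.subtype_injective ?_)
      rw [h, ← MonoidHom.range_eq_map, Subgroup.range_subtype]
  push Not at hall
  obtain ⟨g₁, hg₁⟩ := hall
  let C : Subgroup N := Subgroup.centralizer (M : Set N)
  have hCn : Nat.card C ≤ n := by
    refine Nat.card_le_card_of_injective (fun z : C => z • a) fun z w h => ?_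
    have h1 : (w⁻¹ * z) • a = a := by rw [mul_smul, inv_smul_eq_iff]; exact h
    have := semireg M (htr M hMn hM1) ((w⁻¹ * z : C) : N)
      (Subgroup.mem_centralizer_iff.1 (w⁻¹ * z : C).2) a h1
    exact (inv_mul_eq_one.1 (Subtype.ext this)).symm
  have cjC : ∀ g, cj g ≠ M → cj g ≤ C := fun g hg q hq =>
    Subgroup.mem_centralizer_iff.2 fun p hp => comm g hg p hp q hq
  have hge : ∀ g, n ≤ Nat.card (cj g) := fun g => by
    haveI := htr _ (cjn g) (cj1 g)
    exact Nat.card_le_card_of_surjective (fun z : cj g => z • a)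
      (fun d => exists_smul_eq (cj g) a d)
  have cjeq : ∀ g, cj g ≠ M → cj g = cj g₁ := fun g hg => by
    have h1 := Subgroup.eq_of_le_of_card_ge (cjC g hg) (hCn.trans (hge g))
    have h2 := Subgroup.eq_of_le_of_card_ge (cjC g₁ hg₁) (hCn.trans (hge g₁))
    rw [h1, h2]
  haveI := cjn g₁
  let J : Subgroup N := M ⊔ cj g₁
  have hcjJ : ∀ g, cj g ≤ J := fun g => by
    by_cases h : cj g = M
    · exact h ▸ le_sup_left
    · exact (cjeq g h) ▸ le_sup_right
  have hJn : (J.map N.subtype).Normal := ⟨by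
    rintro _ ⟨m, hm, rfl⟩ g
    refine ⟨MulAut.conjNormal g m, ?_, by simp [MulAut.conjNormal_apply]⟩
    have hle : J.map (MulAut.conjNormal g : MulAut N).toMonoidHom ≤ J := by
      rw [Subgroup.map_sup, Subgroup.map_map]
      refine sup_le (hcjJ g) (le_trans (le_of_eq ?_) (hcjJ (g * g₁)))
      show M.map _ = M.map _
      congr 1
    exact hle (Subgroup.mem_map_of_mem _ hm)⟩
  have hJ : J = ⊤ := by
    rcases hmin (J.map N.subtype) hJn (Subgroup.map_subtype_le _) with h | h
    · exact absurd (le_bot_iff.1 (((Subgroup.map_eq_bot_iff_of_injective _ N.subtype_injective).1 h) ▸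
        (le_sup_left : M ≤ J))) hM1
    · refine Subgroup.map_injective N.subtype_injective ?_
      rw [h, ← MonoidHom.range_eq_map, Subgroup.range_subtype]
  have hMcard : Nat.card M = n := by
    refine le_antisymm ?_ ((hge g₁).trans (cjcard g₁).le)
    calc Nat.card M = Nat.card (cj g₁) := (cjcard g₁).symm
      _ ≤ Nat.card C := Subgroup.card_le_of_le (cjC g₁ hg₁)
      _ ≤ n := hCn
  have hNcard : Nat.card N ∣ n * n := by
    have h1 : M.relIndex (M ⊔ cj g₁) * Nat.card M = Nat.card (M ⊔ cj g₁ : Subgroup N) := by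
      have h := Subgroup.relIndex_mul_relIndex ⊥ M (M ⊔ cj g₁) bot_le le_sup_left
      rw [Subgroup.relIndex_bot_left, Subgroup.relIndex_bot_left, mul_comm] at h
      exact h
    rw [show (M ⊔ cj g₁) = ⊤ from hJ, Subgroup.card_top, hMcard] at h1
    rw [← h1, show (⊤ : Subgroup N) = M ⊔ cj g₁ from hJ.symm, Subgroup.relIndex_sup_left,
      mul_comm _ n]
    refine Nat.mul_dvd_mul_left n ?_
    have h2 := Subgroup.relIndex_dvd_card M (cj g₁)
    rwa [cjcard, hMcard] at h2
  haveI := Nonempty.intro a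
  have hstab : Nat.card (stabilizer N a) ∣ n := by
    refine Nat.dvd_of_mul_dvd_mul_left (Nat.card_pos (α := α)) ?_
    rw [PermNormal.card_stabilizer_mul (G := N) a]
    exact hNcard
  have horb : ∀ u v : α, u ≠ a → v ≠ a → Nat.card (orbit (stabilizer N a) u) =
      Nat.card (orbit (stabilizer N a) v) := by
    intro u v hu hv
    obtain ⟨g, hga, hguv⟩ := two hu.symm hv.symm
    have mk : ∀ (k : G), k • a = a → ∀ d : stabilizer N a,
        ∃ d' : stabilizer N a, ∀ w : α, d' • (k • w) = k • (d • w) := by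
      intro k hk d
      have hki : k⁻¹ • a = a := inv_smul_eq_iff.2 hk.symm
      have hmem : k * ((d : N) : G) * k⁻¹ ∈ N := Subgroup.Normal.conj_mem inferInstance _ (d : N).2 k
      refine ⟨⟨⟨_, hmem⟩, ?_⟩, fun w => ?_⟩
      · show (k * ((d : N) : G) * k⁻¹) • a = a
        rw [mul_smul, mul_smul, hki, show ((d : N) : G) • a = a from d.2, hk]
      · show (k * ((d : N) : G) * k⁻¹) • (k • w) = k • (((d : N) : G) • w)
        rw [mul_smul, mul_smul, inv_smul_smul]
    refine Nat.card_congr ((MulAction.toPerm g).subtypeEquiv fun z => ?_)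
    show z ∈ orbit (stabilizer N a) u ↔ g • z ∈ orbit (stabilizer N a) v
    constructor
    · rintro ⟨d, rfl⟩
      obtain ⟨d', hd'⟩ := mk g hga d
      exact ⟨d', by show d' • v = g • d • u; rw [← hguv, hd']⟩
    · rintro ⟨d, hd⟩
      obtain ⟨d', hd'⟩ := mk g⁻¹ (inv_smul_eq_iff.2 hga.symm) d
      refine ⟨d', ?_⟩
      show d' • u = z
      rw [← inv_smul_smul g u, hguv, hd', show d • v = g • z from hd, inv_smul_smul]
  refine hnr (Subgroup.eq_bot_iff_forall _ |>.2 fun z hz => Subtype.ext (Subtype.ext (Equiv.ext fun u => ?_)))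
  show z • u = u
  by_cases hu : u = a
  · rw [hu]; exact hz
  set k := Nat.card (orbit (stabilizer N a) u) with hk
  have hk1 : k ∣ n := by
    refine dvd_trans ?_ hstab
    rw [hk, Nat.card_coe_set_eq, ← index_stabilizer]
    exact Subgroup.index_dvd_card _
  have hk2 : k ∣ n - 1 := by
    have := PermMultiple.dvd_card_of_dvd_orbit (G := stabilizer N a) ((Finset.univ : Finset α).erase a)
      (fun d w hw => Finset.mem_erase.2 ⟨fun e => Finset.ne_of_mem_erase hw
        (MulAction.injective d (e.trans (show d • a = a from d.2).symm)), Finset.mem_univ _⟩)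
      fun w hw => by rw [horb w u (Finset.ne_of_mem_erase hw) hu]
    rwa [Finset.card_erase_of_mem (Finset.mem_univ _), Finset.card_univ,
      ← Nat.card_eq_fintype_card] at this
  have hk3 : k ∣ 1 := by
    have := Nat.dvd_sub hk1 hk2
    rwa [Nat.sub_sub_self (show 1 ≤ n from Nat.card_pos)] at this
  rw [Nat.dvd_one, hk, Nat.card_eq_one_iff_unique] at hk3
  haveI := hk3.1
  exact congrArg Subtype.val (Subsingleton.elim
    (⟨z • u, ⟨⟨z, hz⟩, rfl⟩⟩ : orbit (stabilizer N a) u) ⟨u, mem_orbit_self u⟩)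


/-- Burnside's Theorem on doubly transitive groups: a minimal normal subgroup of a finite doubly transitive permutation group is elementary abelian and regular, or simple and primitive. -/
theorem result {α : Type*} [Fintype α] [DecidableEq α] (G : Subgroup (Equiv.Perm α)) (hG : MulAction.IsMultiplyPretransitive G α 2) (N : Subgroup G) [N.Normal] (hN : N ≠ ⊥) (hmin : ∀ M : Subgroup G, M.Normal → M ≤ N → M = ⊥ ∨ M = N) : (IsMulCommutative N ∧ (∃ p : ℕ, p.Prime ∧ ∀ n ∈ N, n ^ p = 1) ∧ ∀ a : α, MulAction.stabilizer N a = ⊥) ∨ (IsSimpleGroup N ∧ MulAction.IsPreprimitive N α) := by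
  classical
  haveI := hG
  have two : ∀ {a b c d : α}, a ≠ b → c ≠ d → ∃ g : G, g • a = c ∧ g • b = d :=
    MulAction.is_two_pretransitive_iff.1 hG
  have hprim : MulAction.IsPreprimitive G α := MulAction.isPreprimitive_of_is_two_pretransitive inferInstance
  haveI hNt := PermNormal.transitive_of_normal hprim N hN
  by_cases hreg : ∀ a : α, MulAction.stabilizer N a = ⊥
  · left
    have hc := abelian_of_regular G two N hN hmin hreg
    exact ⟨hc, (Cfsg.Agent.S0703.result G N hN hmin hc hNt).2.2.1, hreg⟩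
  right
  push Not at hreg
  obtain ⟨a, ha⟩ := hreg
  have hP : MulAction.IsPreprimitive N α := by
    by_contra hnp
    have hfix := fix_one_of_block G two N hnp
    have hmal : Cfsg.Agent.Char.Malnormal (MulAction.stabilizer N a) := fun g hg h hh hgh => by
      refine hfix h a (g⁻¹ • a) (fun e => hg ?_) hh ?_
      · exact (inv_smul_eq_iff.1 e.symm).symm
      · have e : (g * h * g⁻¹) • a = a := hgh
        rw [mul_smul, mul_smul] at e
        exact eq_inv_smul_iff.2 e
    obtain ⟨K, hKn, hKd, hKc, hKmem⟩ := Cfsg.Agent.Char.exists_frobenius_kernel hmal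
    have hder : ∀ k : N, k ∈ K ↔ k = 1 ∨ ∀ c : α, k • c ≠ c := by
      intro k
      rw [hKmem]
      refine or_congr Iff.rfl ⟨fun h c hc => ?_, fun h x hx => h (x • a) ?_⟩
      · obtain ⟨x, rfl⟩ := MulAction.exists_smul_eq N a c
        exact h x (show (x⁻¹ * k * x) • a = a by rw [mul_smul, mul_smul, hc, inv_smul_smul])
      · have e : (x⁻¹ * k * x) • a = a := hx
        rw [mul_smul, mul_smul, inv_smul_eq_iff] at e
        exact e
    haveI : (K.map N.subtype).Normal := ⟨by
      rintro _ ⟨k, hk, rfl⟩ g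
      refine ⟨⟨g * (k : G) * g⁻¹, Subgroup.Normal.conj_mem inferInstance _ k.2 g⟩, ?_, rfl⟩
      rcases (hder k).1 hk with rfl | h
      · exact (hder _).2 (Or.inl (Subtype.ext (by simp)))
      · refine (hder _).2 (Or.inr fun x hx => h (g⁻¹ • x) ?_)
        have hx' : (g * (k : G) * g⁻¹) • x = x := hx
        rw [mul_smul, mul_smul] at hx'
        exact eq_inv_smul_iff.2 hx'⟩
    rcases hmin (K.map N.subtype) inferInstance (Subgroup.map_subtype_le _) with h | h
    · rw [Subgroup.map_eq_bot_iff_of_injective _ N.subtype_injective] at h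
      have hc := hKc.card_mul_card
      rw [h, Subgroup.card_bot, one_mul] at hc
      have htop := Subgroup.eq_top_of_card_eq _ hc
      refine ha (Subgroup.eq_bot_iff_forall _ |>.2 fun z hz =>
        Subtype.ext (Subtype.ext (Equiv.ext fun u => ?_)))
      obtain ⟨m, rfl⟩ := MulAction.exists_smul_eq N a u
      show z • m • a = m • a
      rw [show m • a = a from (htop ▸ Subgroup.mem_top m : m ∈ MulAction.stabilizer N a), hz]
    · have htop : K = ⊤ := Subgroup.map_injective N.subtype_injective (by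
        rw [h, ← MonoidHom.range_eq_map, Subgroup.range_subtype])
      rw [htop, top_inf_eq] at hKd
      exact ha hKd
  exact ⟨simple_of_primitive G two N hN hmin hP a ha, hP⟩

end Cfsg.Agent.S0700
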