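import Cfsg.Statements.S0701

-- import your own Cfsg.Agent.* helpers here

set_option autoImplicit false
set_option linter.style.haveILetI false
open Cfsg

namespace Cfsg.Agent.S0701

/-- The centraliser in the full symmetric group of a transitive permutation group `G` is semiregular, and it is transitive if and only if `G` is regular. -/
theorem result {α : Type*} (G : Subgroup (Equiv.Perm α)) [MulAction.IsPretransitive G α] : (∀ c ∈ Subgroup.centralizer (G : Set (Equiv.Perm α)), ∀ a : α, c a = a → c = 1) ∧ (MulAction.IsPretransitive (Subgroup.centralizer (G : Set (Equiv.Perm α))) α ↔ ∀ a : α, MulAction.stabilizer G a = ⊥) := by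
  have key : ∀ c ∈ Subgroup.centralizer (G : Set (Equiv.Perm α)), ∀ (g : G) (x : α),
      c (g • x) = g • c x := fun c hc g x =>
    (congrArg (fun σ : Equiv.Perm α => σ x) (Subgroup.mem_centralizer_iff.1 hc (g : Equiv.Perm α) g.2)).symm
  refine ⟨fun c hc a ha => Equiv.ext fun x => ?_, ⟨fun hC a => ?_, fun h => ⟨fun a b => ?_⟩⟩⟩
  · obtain ⟨g, rfl⟩ := MulAction.exists_smul_eq G a x
    rw [key c hc, ha]; rfl
  · rw [eq_bot_iff]
    intro g hg
    rw [Subgroup.mem_bot, Subtype.ext_iff]
    refine Equiv.ext fun x => ?_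
    obtain ⟨c, rfl⟩ := hC.exists_smul_eq a x
    exact (key (c : Equiv.Perm α) c.2 g a).symm.trans (congrArg (c : Equiv.Perm α) hg)
  · have hbij : ∀ u : α, Function.Bijective fun g : G => g • u := fun u =>
      ⟨fun g g' hgg => by
        have : g'⁻¹ * g ∈ MulAction.stabilizer G u := by
          rw [MulAction.mem_stabilizer_iff, mul_smul]
          exact (congrArg (g'⁻¹ • ·) hgg).trans (inv_smul_smul g' u)
        rw [h u, Subgroup.mem_bot] at this
        exact (eq_of_inv_mul_eq_one this).symm, fun x => MulAction.exists_smul_eq G u x⟩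
    let c : Equiv.Perm α := (Equiv.ofBijective _ (hbij a)).symm.trans (Equiv.ofBijective _ (hbij b))
    have hc : ∀ g : G, c (g • a) = g • b := fun g => by
      show Equiv.ofBijective _ (hbij b) ((Equiv.ofBijective _ (hbij a)).symm
        (Equiv.ofBijective _ (hbij a) g)) = _
      rw [Equiv.symm_apply_apply]; rfl
    refine ⟨⟨c, Subgroup.mem_centralizer_iff.2 fun g hg => Equiv.ext fun x => ?_⟩, ?_⟩
    · obtain ⟨k, rfl⟩ := MulAction.exists_smul_eq G a x
      show g (c (k • a)) = c (g (k • a))
      rw [hc, show g (k • a) = ((⟨g, hg⟩ : G) * k) • a from (mul_smul (⟨g, hg⟩ : G) k a).symm, hc,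
        mul_smul]
      rfl
    · show c a = b
      simpa using hc 1

end Cfsg.Agent.S0701
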