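import Cfsg.Statements.S0702
import Mathlib.GroupTheory.Sylow
import Mathlib.Algebra.Group.Subgroup.Finite

-- import your own Cfsg.Agent.* helpers here

set_option autoImplicit false
set_option linter.style.haveILetI false
open Cfsg

namespace Cfsg.Agent.S0702

/-- For a transitive permutation group `G` on a finite set, the centraliser of `G` in the symmetric group is isomorphic to `N_G(G_ω)/G_ω`, and its orbit of `ω` is the set of fixed points of `G_ω`. -/
theorem result {α : Type*} [Finite α] (G : Subgroup (Equiv.Perm α)) [MulAction.IsPretransitive G α] (a : α) : Nonempty (Subgroup.centralizer (G : Set (Equiv.Perm α)) ≃* Subgroup.normalizer ((MulAction.stabilizer G a : Subgroup G) : Set G) ⧸ (MulAction.stabilizer G a).subgroupOf (Subgroup.normalizer ((MulAction.stabilizer G a : Subgroup G) : Set G))) ∧ MulAction.orbit (Subgroup.centralizer (G : Set (Equiv.Perm α))) a = MulAction.fixedPoints (MulAction.stabilizer G a) α := by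
  set S := MulAction.stabilizer G a
  set N := Subgroup.normalizer (S : Set G)
  choose t ht using fun x : α => MulAction.exists_smul_eq G a x
  let f : G → α → α := fun g x => (t x * g⁻¹) • a
  have hmem : ∀ g : ↥N, ∀ s : G, s • a = a → s • (g : G)⁻¹ • a = (g : G)⁻¹ • a := by
    intro g s hs
    have h := (Subgroup.mem_normalizer_iff.1 g.2 s).1 (MulAction.mem_stabilizer_iff.2 hs)
    have h2 : (g : G) • s • (g : G)⁻¹ • a = a := by rw [← mul_smul, ← mul_smul]; exact h
    exact eq_inv_smul_iff.2 h2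
  have hf : ∀ (g : ↥N) (y : G), f g (y • a) = (y * (g : G)⁻¹) • a := by
    intro g y
    have hs : (y⁻¹ * t (y • a)) • a = a := by rw [mul_smul, ht, inv_smul_smul]
    have h := hmem g _ hs
    rw [mul_smul, inv_smul_eq_iff] at h
    show (t (y • a) * (g : G)⁻¹) • a = _
    rw [mul_smul, mul_smul, h]
  have hcomp : ∀ (g h : ↥N) (x : α), f g (f h x) = f (g * h : ↥N) x := fun g h x => by
    show f g ((t x * (h : G)⁻¹) • a) = (t x * ((g * h : ↥N) : G)⁻¹) • a
    rw [hf, Subgroup.coe_mul, mul_inv_rev, mul_assoc]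
  have hone : ∀ x, f (1 : ↥N) x = x := fun x => by
    show (t x * ((1 : ↥N) : G)⁻¹) • a = x
    rw [Subgroup.coe_one, inv_one, mul_one, ht]
  let e : ↥N → Equiv.Perm α := fun g =>
    ⟨f g, f (g⁻¹ : ↥N), fun x => by rw [hcomp, inv_mul_cancel, hone],
      fun x => by rw [hcomp, mul_inv_cancel, hone]⟩
  let φ : ↥N →* Subgroup.centralizer (G : Set (Equiv.Perm α)) :=
    { toFun := fun g => ⟨e g, Subgroup.mem_centralizer_iff.2 fun k hk => Equiv.ext fun x => by
        obtain ⟨y, rfl⟩ := MulAction.exists_smul_eq G a x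
        show (⟨k, hk⟩ : G) • f g (y • a) = f g ((⟨k, hk⟩ : G) • y • a)
        rw [hf, ← mul_smul, ← mul_smul, hf, mul_assoc]⟩
      map_one' := Subtype.ext (Equiv.ext hone)
      map_mul' := fun g h => Subtype.ext (Equiv.ext fun x => (hcomp g h x).symm) }
  have hsurj : Function.Surjective φ := by
    intro c
    have key : ∀ (g : G) (x : α), (c : Equiv.Perm α) (g • x) = g • (c : Equiv.Perm α) x :=
      fun g x => (congrArg (fun σ : Equiv.Perm α => σ x)
        (Subgroup.mem_centralizer_iff.1 c.2 (g : Equiv.Perm α) g.2)).symm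
    obtain ⟨g', hg'⟩ := MulAction.exists_smul_eq G a ((c : Equiv.Perm α) a)
    have hN : g'⁻¹ ∈ N := by
      refine Subgroup.mem_normalizer_iff.2 fun s => ?_
      show s • a = a ↔ (g'⁻¹ * s * g'⁻¹⁻¹) • a = a
      rw [inv_inv, mul_smul, mul_smul, hg', inv_smul_eq_iff, hg', ← key]
      exact ⟨fun h => by rw [h], fun h => (c : Equiv.Perm α).injective h⟩
    refine ⟨⟨g'⁻¹, hN⟩, Subtype.ext (Equiv.ext fun x => ?_)⟩
    obtain ⟨y, rfl⟩ := MulAction.exists_smul_eq G a x
    show f ((⟨g'⁻¹, hN⟩ : ↥N) : G) (y • a) = _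
    rw [hf, key, ← hg', ← mul_smul]
    simp
  have hker : φ.ker = S.subgroupOf N := by
    ext g
    rw [MonoidHom.mem_ker, Subgroup.mem_subgroupOf]
    constructor
    · intro h
      have h1 : f g ((1 : G) • a) = (1 : G) • a := congrArg (fun c : Subgroup.centralizer
        (G : Set (Equiv.Perm α)) => (c : Equiv.Perm α) ((1 : G) • a)) h
      rw [hf, one_mul, one_smul] at h1
      exact MulAction.mem_stabilizer_iff.2 (inv_smul_eq_iff.1 h1).symm
    · intro h
      refine Subtype.ext (Equiv.ext fun x => ?_)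
      obtain ⟨y, rfl⟩ := MulAction.exists_smul_eq G a x
      show f g (y • a) = y • a
      rw [hf, mul_smul, inv_smul_eq_iff.2 (MulAction.mem_stabilizer_iff.1 h).symm]
  refine ⟨⟨((QuotientGroup.quotientMulEquivOfEq hker.symm).trans
    (QuotientGroup.quotientKerEquivOfSurjective φ hsurj)).symm⟩, ?_⟩
  ext x
  constructor
  · rintro ⟨c, rfl⟩
    intro s
    obtain ⟨g, rfl⟩ := hsurj c
    show (s : G) • f g a = f g a
    have h1 := hf g 1
    rw [one_smul, one_mul] at h1
    rw [h1]
    exact hmem g s s.2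
  · intro hx
    have hN : (t x)⁻¹ ∈ N := by
      refine Subgroup.mem_normalizer_fintype fun s hs => ?_
      show ((t x)⁻¹ * s * (t x)⁻¹⁻¹) • a = a
      rw [inv_inv, mul_smul, mul_smul, ht, inv_smul_eq_iff, ht]
      exact hx ⟨s, hs⟩
    refine ⟨φ ⟨(t x)⁻¹, hN⟩, ?_⟩
    show f ((⟨(t x)⁻¹, hN⟩ : ↥N) : G) a = x
    have h1 := hf ⟨(t x)⁻¹, hN⟩ 1
    rw [one_smul] at h1
    rw [h1]
    simp [ht]

end Cfsg.Agent.S0702
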