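import Cfsg.Statements.S0704
import Mathlib.GroupTheory.Commutator.Basic

-- import your own Cfsg.Agent.* helpers here

set_option autoImplicit false
set_option linter.style.haveILetI false
open Cfsg

namespace Cfsg.Agent.S0704

/-- Two distinct transitive minimal normal subgroups `M`, `N` of a permutation group are regular, non-abelian, isomorphic, each other's centraliser in the symmetric group, and the only minimal normal subgroups. -/
theorem result {α : Type*} (G : Subgroup (Equiv.Perm α)) (M N : Subgroup G) [M.Normal] [N.Normal] (hM : M ≠ ⊥) (hN : N ≠ ⊥) (hMmin : ∀ L : Subgroup G, L.Normal → L ≤ M → L = ⊥ ∨ L = M) (hNmin : ∀ L : Subgroup G, L.Normal → L ≤ N → L = ⊥ ∨ L = N) (hMN : M ≠ N) (hMt : MulAction.IsPretransitive M α) (hNt : MulAction.IsPretransitive N α) : (∀ a : α, MulAction.stabilizer M a = ⊥) ∧ (∀ a : α, MulAction.stabilizer N a = ⊥) ∧ ¬ IsMulCommutative M ∧ Nonempty (M ≃* N) ∧ Subgroup.centralizer ((M.map G.subtype : Subgroup (Equiv.Perm α)) : Set (Equiv.Perm α)) = N.map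 G.subtype ∧ Subgroup.centralizer ((N.map G.subtype : Subgroup (Equiv.Perm α)) : Set (Equiv.Perm α)) = M.map G.subtype ∧ ∀ L : Subgroup G, L.Normal → L ≠ ⊥ → (∀ L' : Subgroup G, L'.Normal → L' ≤ L → L' = ⊥ ∨ L' = L) → L = M ∨ L = N := by
  haveI := hMt
  haveI := hNt
  have hdisj : ∀ A B : Subgroup G, A.Normal → B.Normal → A ⊓ B = ⊥ → A.map G.subtype ≤
      Subgroup.centralizer ((B.map G.subtype : Subgroup _) : Set (Equiv.Perm α)) := by
    intro A B hA hB h
    haveI := hA; haveI := hB
    rw [← Subgroup.commutator_eq_bot_iff_le_centralizer, ← Subgroup.map_commutator,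
      Subgroup.map_eq_bot_iff_of_injective _ G.subtype_injective, eq_bot_iff, ← h]
    exact Subgroup.commutator_le_inf A B
  have hMN0 : M ⊓ N = ⊥ := by
    refine (hMmin _ inferInstance inf_le_left).resolve_right fun e => hMN ?_
    exact (hNmin M inferInstance (inf_eq_left.1 e)).resolve_left hM
  have h1 := hdisj M N inferInstance inferInstance hMN0
  have h2 := hdisj N M inferInstance inferInstance (inf_comm N M ▸ hMN0)
  have semi : ∀ (A : Subgroup G), MulAction.IsPretransitive A α → ∀ c ∈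
      Subgroup.centralizer ((A.map G.subtype : Subgroup _) : Set (Equiv.Perm α)),
      ∀ a : α, c a = a → c = 1 := fun A hA c hc a ha => Equiv.ext fun x => by
    obtain ⟨m, rfl⟩ := hA.exists_smul_eq a x
    have h : ((m : G) : Equiv.Perm α) (c a) = c (((m : G) : Equiv.Perm α) a) :=
      congrArg (fun σ : Equiv.Perm α => σ a)
        (Subgroup.mem_centralizer_iff.1 hc ((m : G) : Equiv.Perm α) ⟨m, m.2, rfl⟩)
    rw [ha] at h
    exact h.symm
  have cent : ∀ (A B : Subgroup G), MulAction.IsPretransitive A α → MulAction.IsPretransitive B α →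
      B.map G.subtype ≤ Subgroup.centralizer ((A.map G.subtype : Subgroup _) : Set (Equiv.Perm α)) →
      Subgroup.centralizer ((A.map G.subtype : Subgroup _) : Set (Equiv.Perm α)) =
        B.map G.subtype ∧ ∀ a : α, MulAction.stabilizer B a = ⊥ := by
    intro A B hA hB hle
    refine ⟨le_antisymm (fun c hc => ?_) hle, fun a => ?_⟩
    · rcases isEmpty_or_nonempty α with he | ⟨⟨a⟩⟩
      · exact (Subsingleton.elim c 1).symm ▸ one_mem _
      obtain ⟨m, hm⟩ := hB.exists_smul_eq a (c a)
      have hm' : ((m : G) : Equiv.Perm α) a = c a := hm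
      have h := semi A hA _ (mul_mem (inv_mem (hle ⟨m, m.2, rfl⟩)) hc) a
        (by show ((m : G) : Equiv.Perm α)⁻¹ (c a) = a
            rw [← hm']; exact Equiv.symm_apply_apply _ _)
      rw [inv_mul_eq_one] at h
      exact h ▸ ⟨m, m.2, rfl⟩
    · rw [eq_bot_iff]
      intro m hm
      exact Subtype.ext (Subtype.ext (semi A hA _ (hle ⟨m, m.2, rfl⟩) a hm))
  obtain ⟨hCM, hNreg⟩ := cent M N hMt hNt h2
  obtain ⟨hCN, hMreg⟩ := cent N M hNt hMt h1
  refine ⟨hMreg, hNreg, fun hab => hM ?_, ?_, hCM, hCN, fun L hLn hL hLmin => ?_⟩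
  · have hMC : M.map G.subtype ≤ N.map G.subtype := by
      rw [← hCM]
      rintro _ ⟨m, hm, rfl⟩
      rw [Subgroup.mem_centralizer_iff]
      rintro _ ⟨m', hm', rfl⟩
      exact congrArg (fun z : M => ((z : G) : Equiv.Perm α))
        (hab.is_comm.comm ⟨m', hm'⟩ ⟨m, hm⟩)
    rw [Subgroup.map_le_map_iff_of_injective G.subtype_injective] at hMC
    rwa [inf_eq_left.2 hMC] at hMN0
  · rcases isEmpty_or_nonempty α with he | ⟨⟨a⟩⟩
    · exact absurd (Subsingleton.elim M ⊥) hM
    choose φ hφ using fun m : M => MulAction.exists_smul_eq N a (m⁻¹ • a)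
    have hinj : ∀ n n' : N, n • a = n' • a → n = n' := fun n n' h => by
      have : n'⁻¹ * n ∈ MulAction.stabilizer N a := by
        rw [MulAction.mem_stabilizer_iff, mul_smul, h, inv_smul_smul]
      rw [hNreg a, Subgroup.mem_bot] at this
      exact (eq_of_inv_mul_eq_one this).symm
    have hMinj : ∀ m m' : M, m • a = m' • a → m = m' := fun m m' h => by
      have : m'⁻¹ * m ∈ MulAction.stabilizer M a := by
        rw [MulAction.mem_stabilizer_iff, mul_smul, h, inv_smul_smul]
      rw [hMreg a, Subgroup.mem_bot] at this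
      exact (eq_of_inv_mul_eq_one this).symm
    have hcomm : ∀ (m : M) (n : N), n • m • a = m • n • a := fun m n =>
      congrArg (fun σ : Equiv.Perm α => σ a) (Subgroup.mem_centralizer_iff.1
        (h1 ⟨(m : G), m.2, rfl⟩) ((n : G) : Equiv.Perm α) ⟨(n : G), n.2, rfl⟩)
    let Φ : M →* N := MonoidHom.mk' φ fun m m' => hinj _ _ (by
      rw [hφ, mul_smul, hφ, hcomm, hφ, ← mul_smul, mul_inv_rev])
    refine ⟨MulEquiv.ofBijective Φ ⟨fun m m' h => ?_, fun n => ?_⟩⟩
    · have h' : φ m = φ m' := h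
      exact inv_inj.1 (hMinj _ _ (by rw [← hφ, h', hφ]))
    · obtain ⟨m, hm⟩ := MulAction.exists_smul_eq M a (n • a)
      exact ⟨m⁻¹, hinj _ _ (by show φ m⁻¹ • a = _; rw [hφ, inv_inv, hm])⟩
  · haveI := hLn
    by_contra hcon
    rw [not_or] at hcon
    have hLd : ∀ B : Subgroup G, B.Normal → B ≠ ⊥ → (∀ L : Subgroup G, L.Normal → L ≤ B → L = ⊥ ∨ L = B) →
        L ≠ B → L ⊓ B = ⊥ := fun B hB hB0 hBmin hne => by
      haveI := hB
      refine (hLmin _ inferInstance inf_le_left).resolve_right fun e => hne ?_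
      exact ((hBmin L hLn (inf_eq_left.1 e)).resolve_left hL)
    have hLM := hLd M inferInstance hM hMmin hcon.1
    have hLN := hLd N inferInstance hN hNmin hcon.2
    have hc := hdisj L M hLn inferInstance hLM
    rw [hCM, Subgroup.map_le_map_iff_of_injective G.subtype_injective] at hc
    rw [inf_eq_left.2 hc] at hLN
    exact hL hLN

end Cfsg.Agent.S0704
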