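import Cfsg.Statements.S0705
import Cfsg.Agent.Lib.Perm.Multiple
import Mathlib.GroupTheory.Perm.Sign
-- import your own Cfsg.Agent.* helpers here

set_option autoImplicit false
set_option linter.style.haveILetI false
open scoped Pointwise
open Cfsg

namespace Cfsg.Agent.S0705

/-- A generously `k`-transitive permutation group (every `(k+1)`-subset has its full symmetric group induced by the setwise stabiliser) of degree greater than `k` is `k`-transitive, and for a `k`-subset the setwise and pointwise stabilisers have the same orbits outside it. -/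
theorem result {α : Type*} [Fintype α] [DecidableEq α] (G : Subgroup (Equiv.Perm α)) {k : ℕ} (hk : k < Fintype.card α) (hgen : ∀ s : Finset α, s.card = k + 1 → ∀ σ : Equiv.Perm ↥s, ∃ g ∈ G, ∀ x : ↥s, g (x : α) = σ x) : MulAction.IsMultiplyPretransitive G α k ∧ ∀ s : Finset α, s.card = k → ∀ a b : α, a ∉ s → b ∉ s → (∃ g ∈ G, g • s = s ∧ g a = b) → ∃ g ∈ G, (∀ x ∈ s, g x = x) ∧ g a = b := by
  have hswap : ∀ (R : Finset α), R.card = k → ∀ p q : α,
      ∃ g ∈ G, ∀ z ∈ R, g z = Equiv.swap p q z := by
    intro R hR p q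
    by_cases hpq : p ∈ R ∨ q ∈ R
    · obtain ⟨s, hRs, -, hs⟩ := Finset.exists_subsuperset_card_eq (n := k + 1)
        (Finset.subset_univ (R ∪ {p, q})) (by
          rcases hpq with h | h
          · rw [show R ∪ ({p, q} : Finset α) = insert q R by ext z; simp; aesop]
            exact (Finset.card_insert_le q R).trans (by omega)
          · rw [show R ∪ ({p, q} : Finset α) = insert p R by ext z; simp; aesop]
            exact (Finset.card_insert_le p R).trans (by omega))
        (by rw [Finset.card_univ]; omega)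
      have hps : p ∈ s := hRs (by simp)
      have hqs : q ∈ s := hRs (by simp)
      obtain ⟨g, hg, hgs⟩ := hgen s hs (Equiv.swap ⟨p, hps⟩ ⟨q, hqs⟩)
      refine ⟨g, hg, fun z hz => ?_⟩
      rw [show g z = _ from hgs ⟨z, hRs (Finset.mem_union_left _ hz)⟩,
        Equiv.swap_apply_def, Equiv.swap_apply_def]
      split_ifs <;> simp_all
    · rw [not_or] at hpq
      exact ⟨1, G.one_mem, fun z hz => (Equiv.swap_apply_of_ne_of_ne
        (fun e : z = p => hpq.1 (by rwa [← e])) (fun e : z = q => hpq.2 (by rwa [← e]))).symm⟩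
  have hall : ∀ (σ : Equiv.Perm α) (R : Finset α), R.card = k → ∃ g ∈ G, ∀ z ∈ R, g z = σ z := by
    intro σ
    induction σ using Equiv.Perm.swap_induction_on with
    | one => exact fun R _ => ⟨1, G.one_mem, fun z _ => rfl⟩
    | swap_mul f a b _ ih =>
      intro R hR
      obtain ⟨g, hg, hgR⟩ := ih R hR
      obtain ⟨g', hg', hgR'⟩ := hswap (R.map g.toEmbedding) (by rw [Finset.card_map, hR]) a b
      refine ⟨g' * g, G.mul_mem hg' hg, fun z hz => ?_⟩
      show g' (g z) = Equiv.swap a b (f z)
      rw [hgR' (g z) (Finset.mem_map_of_mem _ hz), hgR z hz]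
  constructor
  · rw [MulAction.isMultiplyPretransitive_iff]
    intro x y
    obtain ⟨σ, hσ⟩ := Equiv.Perm.exists_extending_pair x y x.injective y.injective
    obtain ⟨g, hg, hgR⟩ := hall σ (Finset.univ.map x) (by simp)
    refine ⟨⟨g, hg⟩, DFunLike.ext _ _ fun i => ?_⟩
    show g (x i) = y i
    rw [hgR (x i) (Finset.mem_map_of_mem _ (Finset.mem_univ i)), hσ]
  · intro s hs a b ha hb ⟨g, hg, hgs, hgab⟩
    have hmem : ∀ z, g⁻¹ z ∈ s ↔ z ∈ s := fun z => by
      conv_rhs => rw [← hgs]
      rw [← Finset.inv_smul_mem_iff]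
      rfl
    have hgs' : ∀ z, g z ∈ s ↔ z ∈ s := fun z => by
      have := hmem (g z)
      simpa using this.symm
    let π : Equiv.Perm α := Equiv.Perm.ofSubtype ((g⁻¹).subtypePerm (p := (· ∈ s)) hmem)
    have hπs : ∀ z ∈ s, π z = g⁻¹ z := fun z hz => by
      rw [Equiv.Perm.ofSubtype_apply_of_mem (p := (· ∈ s)) _ hz]; rfl
    have hπb : π b = b := Equiv.Perm.ofSubtype_apply_of_not_mem (p := (· ∈ s)) _ hb
    have hinv : ∀ z, π z ∈ insert b s ↔ z ∈ insert b s := fun z => by
      by_cases hz : z ∈ s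
      · exact iff_of_true (Finset.mem_insert_of_mem (by rw [hπs z hz]; exact (hmem z).2 hz))
          (Finset.mem_insert_of_mem hz)
      · have : π z = z := Equiv.Perm.ofSubtype_apply_of_not_mem (p := (· ∈ s)) _ hz
        rw [this]
    obtain ⟨h, hh, hhs⟩ := hgen (insert b s) (by rw [Finset.card_insert_of_notMem hb, hs])
      (π.subtypePerm hinv)
    refine ⟨h * g, G.mul_mem hh hg, fun z hz => ?_, ?_⟩
    · show h (g z) = z
      rw [show h (g z) = π (g z) from hhs ⟨g z, Finset.mem_insert_of_mem ((hgs' z).2 hz)⟩,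
        hπs _ ((hgs' z).2 hz)]
      simp
    · show h (g a) = b
      rw [hgab]
      exact (hhs ⟨b, Finset.mem_insert_self b s⟩).trans hπb

end Cfsg.Agent.S0705
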