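import Cfsg.Statements.S0706
import Cfsg.Agent.S0705
import Mathlib.GroupTheory.Sylow
import Mathlib.GroupTheory.Perm.Cycle.Concrete
import Mathlib.Algebra.Group.Subgroup.Finite
-- import your own Cfsg.Agent.* helpers here

set_option autoImplicit false
set_option linter.style.haveILetI false
open Cfsg
open scoped Pointwise

namespace Cfsg.Agent.S0706

/-- In a generously `k`-transitive permutation group, for a prime `p ≤ k` and a `k`-set `Γ`, there are no `p` points outside `Γ` lying in distinct orbits of the pointwise stabiliser of `Γ` all of length prime to `p` (at most `p - 1` such orbits). -/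
theorem result {α : Type*} [Fintype α] [DecidableEq α] (G : Subgroup (Equiv.Perm α)) {k : ℕ} (hk : k < Fintype.card α) (hgen : ∀ s : Finset α, s.card = k + 1 → ∀ σ : Equiv.Perm ↥s, ∃ g ∈ G, ∀ x : ↥s, g (x : α) = σ x) {p : ℕ} (hp : p.Prime) (hpk : p ≤ k) (Γ : Finset α) (hΓ : Γ.card = k) (f : Fin p → α) (hf : ∀ i, f i ∉ Γ) (hdist : ∀ i j, i ≠ j → f j ∉ MulAction.orbit (fixingSubgroup G (Γ : Set α)) (f i)) : ∃ i, p ∣ Nat.card (MulAction.orbit (fixingSubgroup G (Γ : Set α)) (f i)) := by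
  classical
  by_contra hno
  push Not at hno
  haveI := Fact.mk hp
  set H := fixingSubgroup G (Γ : Set α) with hH
  have hmemH : ∀ g : G, g ∈ H ↔ ∀ x ∈ Γ, g • x = x := fun g => by
    rw [hH, mem_fixingSubgroup_iff]; simp
  obtain ⟨Q⟩ : Nonempty (Sylow p H) := inferInstance
  let Qg : Subgroup G := (Q : Subgroup H).map H.subtype
  have hQp : IsPGroup p Qg := Q.isPGroup'.map _
  have hQH : Qg ≤ H := Subgroup.map_subtype_le _
  have orbdef : ∀ u v : α, v ∈ MulAction.orbit H u ↔ ∃ g : G, g ∈ H ∧ g • u = v := fun u v => by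
    constructor
    · rintro ⟨g, rfl⟩; exact ⟨g, g.2, rfl⟩
    · rintro ⟨g, hg, rfl⟩; exact ⟨⟨g, hg⟩, rfl⟩
  have hlift : ∀ (u : α), u ∉ Γ → ∀ σ : Equiv.Perm ↥(insert u Γ), ∃ g : G, ∀ x : ↥(insert u Γ), g • (x : α) = σ x := by
    intro u hu σ
    obtain ⟨g, hg, hgσ⟩ := hgen (insert u Γ) (by rw [Finset.card_insert_of_notMem hu, hΓ]) σ
    exact ⟨⟨g, hg⟩, hgσ⟩
  -- setwise stabiliser of Γ preserves the orbits
  have hpres : ∀ (g : G), (∀ x ∈ Γ, g • x ∈ Γ) → ∀ u, u ∉ Γ → g • u ∈ MulAction.orbit H u := by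
    intro g hg u hu
    have hginv : ∀ x : α, x ∈ Γ ↔ g • x ∈ Γ := by
      have himg : Γ.image (fun x => g • x) = Γ := Finset.eq_of_subset_of_card_le
        (fun x hx => by obtain ⟨y, hy, rfl⟩ := Finset.mem_image.1 hx; exact hg y hy)
        (Finset.card_image_of_injective _ (MulAction.injective g)).ge
      refine fun x => ⟨hg x, fun hx => ?_⟩
      rw [← himg] at hx
      obtain ⟨y, hy, hyx⟩ := Finset.mem_image.1 hx
      exact MulAction.injective g hyx ▸ hy
    let π : Equiv.Perm {x // x ∈ Γ} := Equiv.Perm.subtypePerm (MulAction.toPerm g) fun x => (hginv x).symm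
    obtain ⟨z, hz⟩ := hlift u hu ((Equiv.Perm.ofSubtype π).subtypePerm fun x => by
      simp only [Finset.mem_insert]
      by_cases hx : x ∈ Γ
      · rw [Equiv.Perm.ofSubtype_apply_of_mem π hx]
        exact ⟨fun _ => Or.inr hx, fun _ => Or.inr (π ⟨x, hx⟩).2⟩
      · rw [Equiv.Perm.ofSubtype_apply_of_not_mem π hx])
    have hzu : z • u = u := by
      have := hz ⟨u, Finset.mem_insert_self u Γ⟩
      rw [this]
      exact Equiv.Perm.ofSubtype_apply_of_not_mem π hu
    rw [orbdef]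
    refine ⟨g * z⁻¹, (hmemH _).2 fun x hx => ?_, by rw [mul_smul, inv_smul_eq_iff.2 hzu.symm]⟩
    obtain ⟨y, hy, hyx⟩ : ∃ y ∈ Γ, g • y = x :=
      ⟨g⁻¹ • x, (hginv _).2 (by rwa [smul_inv_smul]), smul_inv_smul g x⟩
    have hzy : z • y = x := by
      rw [hz ⟨y, Finset.mem_insert_of_mem hy⟩, ← hyx]
      exact Equiv.Perm.ofSubtype_apply_of_mem π hy
    rw [mul_smul, inv_smul_eq_iff.2 hzy.symm, hyx]
  -- fixed points of Q in the orbits
  have hfixQ : ∀ (R : Subgroup G), IsPGroup p R → (∀ r ∈ R, ∀ x ∈ Γ, r • x ∈ Γ) → ∀ i,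
      ∃ w, w ∈ MulAction.orbit H (f i) ∧ w ∉ Γ ∧ ∀ r ∈ R, r • w = w := by
    intro R hR hRΓ i
    have horbΓ : ∀ w ∈ MulAction.orbit H (f i), w ∉ Γ := by
      intro w hw hwΓ
      obtain ⟨g, hg, rfl⟩ := (orbdef _ _).1 hw
      have := (hmemH _).1 (H.inv_mem hg) _ hwΓ
      rw [inv_smul_smul] at this
      exact hf i (this ▸ hwΓ)
    let S : SubMulAction R α :=
      { carrier := MulAction.orbit H (f i)
        smul_mem' := fun r w hw => by
          have h1 := hpres (r : G) (hRΓ r r.2) w (horbΓ w hw)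
          rwa [MulAction.orbit_eq_iff.2 hw] at h1 }
    have hmod := hR.card_modEq_card_fixedPoints S
    have hne : Nat.card (MulAction.fixedPoints R S) ≠ 0 := by
      intro h0
      rw [h0] at hmod
      exact hno i (Nat.modEq_zero_iff_dvd.1 hmod)
    obtain ⟨⟨⟨w, hw⟩, hwfix⟩⟩ := (Nat.card_ne_zero.1 hne).1
    exact ⟨w, hw, horbΓ w hw, fun r hr => congrArg Subtype.val (hwfix ⟨r, hr⟩)⟩
  have hQΓ : ∀ r ∈ Qg, ∀ x ∈ Γ, r • x ∈ Γ := fun r hr x hx => by
    rw [(hmemH r).1 (hQH hr) x hx]; exact hx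
  obtain ⟨u, -, hu, huQ⟩ := hfixQ Qg hQp hQΓ ⟨0, hp.pos⟩
  obtain ⟨C, hCΓ, hC⟩ := Finset.exists_subset_card_eq (show p ≤ Γ.card by omega)
  obtain ⟨σ, hσcyc, hσsupp⟩ : ∃ σ : Equiv.Perm α, σ.IsCycle ∧ σ.support = C := by
    refine ⟨C.toList.formPerm, List.isCycle_formPerm C.nodup_toList ?_, ?_⟩
    · rw [Finset.length_toList, hC]; exact hp.two_le
    · rw [List.support_formPerm_of_nodup _ C.nodup_toList ?_, Finset.toList_toFinset]
      intro x hx
      have := congrArg List.length hx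
      rw [Finset.length_toList, hC, List.length_singleton] at this
      exact hp.ne_one this
  have hσorder : orderOf σ = p := by rw [hσcyc.orderOf, hσsupp, hC]
  have hσmaps : ∀ (S : Finset α), C ⊆ S → ∀ x, σ x ∈ S ↔ x ∈ S := by
    intro S hS x
    by_cases hx : x ∈ σ.support
    · exact iff_of_true (hS (hσsupp ▸ Equiv.Perm.apply_mem_support.2 hx)) (hS (hσsupp ▸ hx))
    · rw [Equiv.Perm.notMem_support.1 hx]
  obtain ⟨g₀, hg₀⟩ := hlift u hu (σ.subtypePerm (hσmaps _ (hCΓ.trans (Finset.subset_insert u Γ))))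
  have hg₀' : ∀ x ∈ insert u Γ, g₀ • x = σ x := fun x hx => hg₀ ⟨x, hx⟩
  have hσu : σ u = u := Equiv.Perm.notMem_support.1 fun h => hu (hCΓ (hσsupp ▸ h))
  let K : Subgroup G := H ⊓ MulAction.stabilizer G u
  have hQK : Qg ≤ K := le_inf hQH fun r hr => huQ r hr
  obtain ⟨g, hgN, hg⟩ : ∃ g : G, g ∈ Subgroup.normalizer (Qg : Set G) ∧ ∀ x ∈ Γ, g • x = σ x := by
    have hcK : Qg.map (MulAut.conj g₀).toMonoidHom ≤ K := by
      rintro _ ⟨r, hr, rfl⟩
      have key : ∀ x ∈ insert u Γ, r • x = x := fun x hx => by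
        rcases Finset.mem_insert.1 hx with rfl | hx
        · exact huQ r hr
        · exact (hmemH r).1 (hQH hr) x hx
      have key2 : ∀ x ∈ insert u Γ, (g₀ * r * g₀⁻¹) • x = x := fun x hx => by
        obtain ⟨y, hy, hyx⟩ : ∃ y ∈ insert u Γ, g₀ • y = x := by
          refine ⟨σ.symm x, (hσmaps _ (hCΓ.trans (Finset.subset_insert u Γ)) _).1 (by simpa using hx), ?_⟩
          rw [hg₀' _ ((hσmaps _ (hCΓ.trans (Finset.subset_insert u Γ)) _).1 (by simpa using hx)),
            Equiv.apply_symm_apply]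
        rw [mul_smul, mul_smul, ← hyx, inv_smul_smul, key y hy]
      exact ⟨(hmemH _).2 fun x hx => key2 x (Finset.mem_insert_of_mem hx),
        key2 u (Finset.mem_insert_self u Γ)⟩
    have hmax : ∀ P : Subgroup G, IsPGroup p P → P ≤ H → Qg ≤ P → P = Qg := by
      intro P hP hPH hQP
      have := Q.is_maximal' (Q := P.subgroupOf H)
        (hP.comap_of_injective H.subtype H.subtype_injective)
        (fun r hr => hQP ⟨r, hr, rfl⟩)
      rw [← Subgroup.map_subgroupOf_eq_of_le hPH, this]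
    let S₁ : Sylow p K :=
      { toSubgroup := Qg.subgroupOf K
        isPGroup' := hQp.comap_of_injective K.subtype K.subtype_injective
        is_maximal' := fun {P} hP hle => by
          have h1 := hmax (P.map K.subtype) (hP.map _)
            ((Subgroup.map_subtype_le P).trans inf_le_left)
            (fun r hr => ⟨⟨r, hQK hr⟩, hle hr, rfl⟩)
          rw [← h1, Subgroup.subgroupOf, Subgroup.comap_map_eq_self_of_injective K.subtype_injective] }
    have hc2 : IsPGroup p (Qg.map (MulAut.conj g₀).toMonoidHom) := hQp.map _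
    obtain ⟨S₂, hS₂⟩ := (hc2.comap_of_injective K.subtype K.subtype_injective).exists_le_sylow
    obtain ⟨k, hk⟩ := MulAction.exists_smul_eq K S₂ S₁
    refine ⟨(k : G) * g₀, Subgroup.mem_normalizer_fintype fun r hr => ?_, fun x hx => ?_⟩
    · have hr2 : (⟨g₀ * r * g₀⁻¹, hcK ⟨r, hr, rfl⟩⟩ : K) ∈ (S₂ : Subgroup K) := hS₂ ⟨r, hr, rfl⟩
      have hmem : k * ⟨g₀ * r * g₀⁻¹, hcK ⟨r, hr, rfl⟩⟩ * k⁻¹ ∈ (S₁ : Subgroup K) := by
        rw [← hk, Sylow.coe_subgroup_smul]
        exact ⟨_, hr2, by simp⟩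
      have : (k : G) * (g₀ * r * g₀⁻¹) * (k : G)⁻¹ ∈ Qg := hmem
      rwa [show (k : G) * g₀ * r * ((k : G) * g₀)⁻¹ = (k : G) * (g₀ * r * g₀⁻¹) * (k : G)⁻¹ by group]
    · rw [mul_smul, hg₀' x (Finset.mem_insert_of_mem hx)]
      exact (hmemH (k : G)).1 k.2.1 _ ((hσmaps Γ hCΓ x).2 hx)
  -- the p-part
  obtain ⟨a, m, hm, hord⟩ := Nat.exists_eq_pow_mul_and_not_dvd (orderOf_pos g).ne' p hp.ne_one
  set y := g ^ m with hy
  have hyp : y ^ p ^ a = 1 := by rw [hy, ← pow_mul, mul_comm, ← hord, pow_orderOf_eq_one]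
  have hgΓ : ∀ (j : ℕ), ∀ x ∈ Γ, g ^ j • x = (σ ^ j) x := by
    intro j
    induction j with
    | zero => intro x _; simp
    | succ j ih =>
      intro x hx
      rw [pow_succ', mul_smul, ih x hx, pow_succ', Equiv.Perm.mul_apply, hg]
      clear ih
      induction j with
      | zero => simpa using hx
      | succ j ih => rw [pow_succ', Equiv.Perm.mul_apply]; exact (hσmaps Γ hCΓ _).2 ih
  have hσm : ∀ j : ℕ, ∀ x ∈ Γ, (σ ^ j) x ∈ Γ := by
    intro j
    induction j with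
    | zero => simp
    | succ j ih => intro x hx; rw [pow_succ', Equiv.Perm.mul_apply]; exact (hσmaps Γ hCΓ _).2 (ih x hx)
  let R : Subgroup G := Qg ⊔ Subgroup.zpowers y
  have hyN : Subgroup.zpowers y ≤ Subgroup.normalizer (Qg : Set G) :=
    Subgroup.zpowers_le.2 (pow_mem hgN m)
  have hRp : IsPGroup p R := IsPGroup.to_sup_of_normal_left' hQp
    (fun z => ⟨a, by
      obtain ⟨i, hi⟩ := Subgroup.mem_zpowers_iff.1 z.2
      refine Subtype.ext ?_
      rw [SubgroupClass.coe_pow, ← hi, ← zpow_natCast, ← zpow_mul, mul_comm, zpow_mul, zpow_natCast,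
        hyp, one_zpow]
      rfl⟩) hyN
  have hyC : ∀ x ∈ Γ \ C, y • x = x := fun x hx => by
    rw [Finset.mem_sdiff] at hx
    rw [hy, hgΓ m x hx.1]
    exact Equiv.Perm.notMem_support.1 fun h => hx.2 (hσsupp ▸ Equiv.Perm.support_pow_le σ m h)
  have hRΓ : ∀ r ∈ R, ∀ x ∈ Γ, r • x ∈ Γ := by
    have hle : R ≤ MulAction.stabilizer G (Γ : Set α) := by
      refine sup_le (fun r hr => ?_) (Subgroup.zpowers_le.2 ?_)
      · rw [MulAction.mem_stabilizer_set_iff_smul_set_subset (Γ.finite_toSet)]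
        rintro _ ⟨x, hx, rfl⟩
        exact hQΓ r hr x hx
      · rw [MulAction.mem_stabilizer_set_iff_smul_set_subset (Γ.finite_toSet)]
        rintro _ ⟨x, hx, rfl⟩
        show y • x ∈ Γ
        rw [hy, hgΓ m x hx]
        exact hσm m x hx
    intro r hr x hx
    exact ((MulAction.mem_stabilizer_set).1 (hle hr) x).2 hx
  choose w hworb hwΓ hwfix using hfixQ R hRp hRΓ
  have hwinj : Function.Injective w := fun i j hij => by
    by_contra hne
    refine hdist i j hne ?_
    rw [← MulAction.orbit_eq_iff.2 (hworb i), hij, MulAction.orbit_eq_iff.2 (hworb j)]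
    exact MulAction.mem_orbit_self _
  set Γ' := (Γ \ C) ∪ Finset.univ.image w with hΓ'
  have hΓ'c : Γ'.card = k := by
    rw [hΓ', Finset.card_union_of_disjoint, Finset.card_sdiff_of_subset hCΓ,
      Finset.card_image_of_injective _ hwinj, Finset.card_univ, Fintype.card_fin, hΓ, hC]
    · omega
    · rw [Finset.disjoint_left]
      intro x hx hx'
      obtain ⟨i, -, rfl⟩ := Finset.mem_image.1 hx'
      exact hwΓ i (Finset.mem_sdiff.1 hx).1
  have hRfix : ∀ r ∈ R, ∀ x ∈ Γ', r • x = x := by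
    intro r hr x hx
    rcases Finset.mem_union.1 hx with hx | hx
    · have hle : R ≤ MulAction.stabilizer G x := sup_le
        (fun r hr => (hmemH r).1 (hQH hr) x (Finset.mem_sdiff.1 hx).1) (Subgroup.zpowers_le.2 (hyC x hx))
      exact hle hr
    · obtain ⟨i, -, rfl⟩ := Finset.mem_image.1 hx
      exact hwfix i r hr
  haveI := (Cfsg.Agent.S0705.result G hk hgen).1
  let e := (Γ.equivFinOfCardEq hΓ).symm.toEmbedding.trans (Function.Embedding.subtype _)
  let e' := (Γ'.equivFinOfCardEq hΓ'c).symm.toEmbedding.trans (Function.Embedding.subtype _)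
  obtain ⟨τ, hτ⟩ := MulAction.exists_smul_eq G e' e
  have hτΓ : ∀ x ∈ Γ, τ⁻¹ • x ∈ Γ' := fun x hx => by
    have hx' := DFunLike.congr_fun hτ (Γ.equivFinOfCardEq hΓ ⟨x, hx⟩)
    simp [e, e'] at hx'
    rw [← hx', inv_smul_smul]
    exact ((Γ'.equivFinOfCardEq hΓ'c).symm _).2
  have hle : R.map (MulAut.conj τ).toMonoidHom ≤ H := by
    rintro _ ⟨r, hr, rfl⟩
    refine (hmemH _).2 fun x hx => ?_
    show (τ * r * τ⁻¹) • x = x
    rw [mul_smul, mul_smul, hRfix r hr _ (hτΓ x hx), smul_inv_smul]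
  obtain ⟨Q', hQ'⟩ := ((hRp.map (MulAut.conj τ).toMonoidHom).comap_of_injective H.subtype
    H.subtype_injective).exists_le_sylow
  have h1 : Nat.card ((R.map (MulAut.conj τ).toMonoidHom).subgroupOf H) ≤ Nat.card Q' :=
    Subgroup.card_le_of_le hQ'
  rw [Nat.card_congr (Subgroup.subgroupOfEquivOfLe hle).toEquiv,
    Subgroup.card_map_of_injective (MulEquiv.injective _), Q'.card_eq_multiplicity,
    ← Q.card_eq_multiplicity, ← Subgroup.card_map_of_injective (K := (Q : Subgroup H)) H.subtype_injective] at h1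
  have hQR : Qg = R := Subgroup.eq_of_le_of_card_ge le_sup_left h1
  have hyQ : y ∈ Qg := hQR ▸ Subgroup.mem_sup_right (Subgroup.mem_zpowers y)
  have hσy : σ ^ m = 1 := Equiv.ext fun x => by
    by_cases hx : x ∈ Γ
    · rw [← hgΓ m x hx]
      exact (hmemH y).1 (hQH hyQ) x hx
    · exact Equiv.Perm.notMem_support.1 fun h => hx (hCΓ (hσsupp ▸ Equiv.Perm.support_pow_le σ m h))
  have hdm := orderOf_dvd_of_pow_eq_one hσy
  rw [hσorder] at hdm
  exact hm hdm

end Cfsg.Agent.S0706
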