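import Cfsg.Statements.S0709
import Mathlib.GroupTheory.GroupAction.MultipleTransitivity
-- import your own Cfsg.Agent.* helpers here

set_option autoImplicit false
set_option linter.style.haveILetI false
open Cfsg

namespace Cfsg.Agent.S0709


open Subgroup in
/-- The groups of the chain: `K 1` is the stabiliser, `K i` is generated by `G` and `s j` for `j < i`. -/
def chain {P : Type*} [Group P] (G G₁ : Subgroup P) (s : ℕ → P) (i : ℕ) : Subgroup P :=
  if i ≤ 1 then G₁ else closure ((G : Set P) ∪ {x | ∃ j : ℕ, 2 ≤ j ∧ j + 1 ≤ i ∧ x = s j})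

theorem conj_comm_mem {P : Type*} [Group P] (K : Subgroup P) {s u : P} (hu : u ∈ K) (hs : s ^ 2 ∈ K)
    (h : (u * s) ^ 2 ∈ K) : s * u * s⁻¹ ∈ K := by
  have e : s * u * s⁻¹ = u⁻¹ * (u * s) ^ 2 * (s ^ 2)⁻¹ := by rw [pow_two, pow_two]; group
  rw [e]
  exact K.mul_mem (K.mul_mem (K.inv_mem hu) h) (K.inv_mem hs)

theorem braid_rule {P : Type*} [Group P] (s u : P) :
    s * u * s = (u⁻¹ * (u * s) ^ 3) * s * ((s ^ 2)⁻¹ * u⁻¹) := by
  rw [show (u * s) ^ 3 = u * s * (u * s) * (u * s) by rw [pow_succ, pow_two], pow_two]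
  group

theorem forall_conj_mem {P : Type*} [Group P] [Finite P] (K : Subgroup P) {s : P}
    (h : ∀ g ∈ K, s * g * s⁻¹ ∈ K) {g : P} (hg : g ∈ K) : s⁻¹ * g * s ∈ K := by
  have e : K.map (MulAut.conj s).toMonoidHom = K := by
    refine Subgroup.eq_of_le_of_card_ge ?_ ?_
    · rintro _ ⟨x, hx, rfl⟩
      exact h x hx
    · rw [Subgroup.card_map_of_injective (MulEquiv.injective _)]
  rw [← e] at hg
  obtain ⟨x, hx, rfl⟩ := hg
  show s⁻¹ * (s * x * s⁻¹) * s ∈ K
  rwa [show s⁻¹ * (s * x * s⁻¹) * s = x by group]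


/-- Witt's Lemma for constructing transitive extensions. Points `q 1, …, q t` (`t ≥ 2`) of a finite set are given; `G` fixes `q i` for `i ≥ 3` and is doubly transitive on the remaining points; `s 1 ∈ G` swaps `q 1, q 2`; for `2 ≤ i ≤ t-1`, `s i` swaps `q i, q (i+1)` and fixes the other `q j`; with `H` the stabiliser of `q 1, q 2` in `G`: `s i ^ 2 ∈ H`, `(s i * s (i+1)) ^ 3 ∈ H`, `(s i * s j) ^ 2 ∈ H` for `j ≥ i + 2`, and `s i` (`i ≥ 2`) normalises the stabiliser of `q 2` in `G`. Then `G` and the `s i` generate a `t`-transitive group whose pointwise stabiliser of the `q`'s is `H`. -/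
theorem result {α : Type*} [Fintype α] [DecidableEq α] (t : ℕ) (ht : 2 ≤ t) (q : ℕ → α) (hq : ∀ i j : ℕ, 1 ≤ i → i ≤ t → 1 ≤ j → j ≤ t → q i = q j → i = j) (G : Subgroup (Equiv.Perm α)) (hfix : ∀ g ∈ G, ∀ i : ℕ, 3 ≤ i → i ≤ t → g (q i) = q i) (h2 : ∀ a b c d : α, (∀ i, 3 ≤ i → i ≤ t → a ≠ q i ∧ b ≠ q i ∧ c ≠ q i ∧ d ≠ q i) → a ≠ b → c ≠ d → ∃ g ∈ G, g a = c ∧ g b = d) (s : ℕ → Equiv.Perm α) (hs1 : s 1 ∈ G) (hs1q : s 1 (q 1) = q 2 ∧ s 1 (q 2) = q 1) (hsq : ∀ i : ℕ, 2 ≤ i → i + 1 ≤ t → s i (q i) = q (i + 1) ∧ s i (q (i + 1)) = q i ∧ ∀ j : ℕ, 1 ≤ j → j ≤ t → j ≠ i → j ≠ i + 1 → s i (q j) = q j) (H : Subgroup (Equiv.Perm α)) (hH : H = G ⊓ MulAction.stabilizer (Equiv.Perm α) (q 1) ⊓ MulAction.stabilizer (Equiv.Perm α) (q 2)) (hsq2 : ∀ i : ℕ, 1 ≤ i → i + 1 ≤ t → s i ^ 2 ∈ H) (hbraid : ∀ i : ℕ, 1 ≤ i → i + 2 ≤ t → (s i * s (i + 1)) ^ 3 ∈ H) (hcomm : ∀ i j : ℕ, 1 ≤ i → i + 2 ≤ j → j + 1 ≤ t → (s i * s j) ^ 2 ∈ H ∧ (s j * s i) ^ 2 ∈ H) (hnorm : ∀ i : ℕ, 2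 ≤ i → i + 1 ≤ t → ∀ g ∈ G ⊓ MulAction.stabilizer (Equiv.Perm α) (q 2), s i * g * (s i)⁻¹ ∈ G ⊓ MulAction.stabilizer (Equiv.Perm α) (q 2)) : MulAction.IsMultiplyPretransitive ↥(Subgroup.closure ((G : Set (Equiv.Perm α)) ∪ {x | ∃ i : ℕ, 2 ≤ i ∧ i + 1 ≤ t ∧ x = s i})) α t ∧ Subgroup.closure ((G : Set (Equiv.Perm α)) ∪ {x | ∃ i : ℕ, 2 ≤ i ∧ i + 1 ≤ t ∧ x = s i}) ⊓ fixingSubgroup (Equiv.Perm α) {x | ∃ i : ℕ, 1 ≤ i ∧ i ≤ t ∧ x = q i} = H := by
  classical
  subst hH
  set H := G ⊓ MulAction.stabilizer (Equiv.Perm α) (q 1) ⊓ MulAction.stabilizer (Equiv.Perm α) (q 2) with hHdef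
  let G₁ := G ⊓ MulAction.stabilizer (Equiv.Perm α) (q 2)
  let K := chain G G₁ s
  let Pts : ℕ → α → Prop := fun i x => ∀ j, i < j → j ≤ t → x ≠ q j
  have hK1 : K 1 = G₁ := if_pos le_rfl
  have hKc : ∀ i, 2 ≤ i → K i = Subgroup.closure ((G : Set (Equiv.Perm α)) ∪ {x | ∃ j : ℕ, 2 ≤ j ∧ j + 1 ≤ i ∧ x = s j}) :=
    fun i hi => if_neg (by omega)
  have hK2 : K 2 = G := by
    rw [hKc 2 le_rfl]
    refine le_antisymm ((Subgroup.closure_le _).2 ?_) fun g hg => Subgroup.subset_closure (Or.inl hg)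
    rintro x (hx | ⟨j, h1, h2', -⟩)
    · exact hx
    · omega
  have hHG₁ : H ≤ G₁ := fun g hg => ⟨hg.1.1, hg.2⟩
  have hGK : ∀ i, 2 ≤ i → G ≤ K i := fun i hi g hg => by rw [hKc i hi]; exact Subgroup.subset_closure (Or.inl hg)
  have hHK : ∀ i, H ≤ K i := fun i => by
    rcases Nat.lt_or_ge i 2 with h | h
    · rw [show K i = G₁ from if_pos (by omega)]; exact hHG₁
    · exact fun g hg => hGK i h hg.1.1
  have hsK : ∀ i j, 2 ≤ i → 1 ≤ j → j + 1 ≤ i → s j ∈ K i := by
    intro i j hi hj hji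
    rcases Nat.lt_or_ge j 2 with h | h
    · rw [show j = 1 by omega]; exact hGK i hi hs1
    · rw [hKc i hi]; exact Subgroup.subset_closure (Or.inr ⟨j, h, hji, rfl⟩)
  have hmono : ∀ i, 1 ≤ i → K i ≤ K (i + 1) := by
    intro i hi
    rcases Nat.lt_or_ge i 2 with h | h
    · rw [show i = 1 by omega, hK1, hK2]; exact inf_le_left
    · rw [hKc i h, hKc (i + 1) (by omega), Subgroup.closure_le]
      rintro x (hx | ⟨j, a, b, rfl⟩)
      · exact Subgroup.subset_closure (Or.inl hx)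
      · exact Subgroup.subset_closure (Or.inr ⟨j, a, by omega, rfl⟩)
  have hG₁ : ∀ g ∈ G, g ∈ G₁ ∨ ∃ a ∈ G₁, ∃ b ∈ G₁, g = a * s 1 * b := by
    intro g hg
    by_cases h : g (q 2) = q 2
    · exact Or.inl ⟨hg, h⟩
    have q12 : q 1 ≠ q 2 := fun e => by have := hq 1 2 le_rfl (by omega) (by omega) ht e; omega
    obtain ⟨a, haG, ha2, ha1⟩ := h2 (q 2) (q 1) (q 2) (g (q 2)) (fun i hi hit => by
      refine ⟨fun e => ?_, fun e => ?_, fun e => ?_, fun e => ?_⟩
      · have := hq 2 i (by omega) ht (by omega) hit e; omega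
      · have := hq 1 i le_rfl (by omega) (by omega) hit e; omega
      · have := hq 2 i (by omega) ht (by omega) hit e; omega
      · have h1 : g (q 2) = g (q i) := e.trans (hfix g hg i hi hit).symm
        have := hq 2 i (by omega) ht (by omega) hit (g.injective h1); omega) q12.symm (Ne.symm h)
    refine Or.inr ⟨a, ⟨haG, ha2⟩, (a * s 1)⁻¹ * g, ⟨G.mul_mem (G.inv_mem (G.mul_mem haG hs1)) hg, ?_⟩, by group⟩
    show ((a * s 1)⁻¹ * g) (q 2) = q 2
    rw [Equiv.Perm.mul_apply, Equiv.Perm.inv_eq_iff_eq, Equiv.Perm.mul_apply, hs1q.2, ha1]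
  -- normalisation
  have hnK : ∀ i, 2 ≤ i → i + 1 ≤ t → ∀ g ∈ K (i - 1), s i * g * (s i)⁻¹ ∈ K (i - 1) := by
    intro i hi hit g hg
    rcases Nat.lt_or_ge i 3 with h | h
    · rw [show i - 1 = 1 by omega, hK1] at hg ⊢
      exact hnorm i hi hit g hg
    · have hsj : ∀ j, 1 ≤ j → j + 2 ≤ i → s i * s j * (s i)⁻¹ ∈ K (i - 1) := fun j hj hji =>
        conj_comm_mem _ (hsK _ j (by omega) hj (by omega)) (hHK _ (hsq2 i (by omega) hit))
          (hHK _ (hcomm j i hj hji hit).1)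
      have hc : ∀ x ∈ G₁, s i * x * (s i)⁻¹ ∈ K (i - 1) := fun x hx =>
        hGK _ (by omega) (hnorm i hi hit x hx).1
      rw [hKc (i - 1) (by omega)] at hg
      refine Subgroup.closure_induction (p := fun x _ => s i * x * (s i)⁻¹ ∈ K (i - 1)) ?_ ?_ ?_ ?_ hg
      · rintro x (hx | ⟨j, a, b, rfl⟩)
        · rcases hG₁ x hx with h1 | ⟨a, ha, b, hb, rfl⟩
          · exact hc x h1
          · rw [show s i * (a * s 1 * b) * (s i)⁻¹ =
              (s i * a * (s i)⁻¹) * (s i * s 1 * (s i)⁻¹) * (s i * b * (s i)⁻¹) by group]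
            exact Subgroup.mul_mem _ (Subgroup.mul_mem _ (hc a ha) (hsj 1 le_rfl (by omega))) (hc b hb)
        · exact hsj j (by omega) (by omega)
      · rw [mul_one, mul_inv_cancel]; exact Subgroup.one_mem _
      · intro x y _ _ hx hy
        rw [show s i * (x * y) * (s i)⁻¹ = (s i * x * (s i)⁻¹) * (s i * y * (s i)⁻¹) by group]
        exact Subgroup.mul_mem _ hx hy
      · intro x _ hx
        rw [show s i * x⁻¹ * (s i)⁻¹ = (s i * x * (s i)⁻¹)⁻¹ by group]
        exact Subgroup.inv_mem _ hx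
  -- the chain
  have main : ∀ i, 2 ≤ i → i ≤ t →
      (∀ g ∈ K i, ∀ j, i < j → j ≤ t → g (q j) = q j) ∧
      (∀ x y, Pts i x → Pts i y → ∃ g ∈ K i, g x = y) ∧
      (∀ g ∈ K i, g (q i) = q i → g ∈ K (i - 1)) ∧
      (∀ g ∈ K i, g ∈ K (i - 1) ∨ ∃ a ∈ K (i - 1), ∃ b ∈ K (i - 1), g = a * s (i - 1) * b) := by
    intro i hi
    induction i, hi using Nat.le_induction with
    | base =>
      intro _
      rw [show (2 : ℕ) - 1 = 1 from rfl, hK1, hK2]
      refine ⟨fun g hg j hj hjt => hfix g hg j hj hjt, fun x y hx hy => ?_, fun g hg h => ⟨hg, h⟩, hG₁⟩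
      by_cases hxy : x = y
      · exact ⟨1, G.one_mem, hxy⟩
      obtain ⟨g, hg, h1, -⟩ := h2 x y y x (fun j hj hjt => ⟨hx j hj hjt, hy j hj hjt, hy j hj hjt, hx j hj hjt⟩) hxy (Ne.symm hxy)
      exact ⟨g, hg, h1⟩
    | succ i hi ih =>
      intro hit
      obtain ⟨ifix, itr, istab, isplit⟩ := ih (by omega)
      rw [Nat.add_sub_cancel]
      obtain ⟨sq1, sq2, sqf⟩ := hsq i hi hit
      have hs2 : s i ^ 2 ∈ K i := hHK _ (hsq2 i (by omega) hit)
      have hsandwich : ∀ g ∈ K i, s i * g * s i ∈ K i ∨ ∃ a ∈ K i, ∃ b ∈ K i, s i * g * s i = a * s i * b := by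
        intro g hg
        have hup : K (i - 1) ≤ K i := by
          have := hmono (i - 1) (by omega)
          rwa [show i - 1 + 1 = i by omega] at this
        rcases isplit g hg with h | ⟨a, ha, b, hb, rfl⟩
        · refine Or.inl ?_
          rw [show s i * g * s i = (s i * g * (s i)⁻¹) * s i ^ 2 by rw [pow_two]; group]
          exact Subgroup.mul_mem _ (hup (hnK i hi hit g h)) hs2
        · refine Or.inr ⟨s i * a * (s i)⁻¹ * ((s (i - 1))⁻¹ * (s (i - 1) * s i) ^ 3), ?_,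
            ((s i ^ 2)⁻¹ * (s (i - 1))⁻¹) * ((s i)⁻¹ * b * s i), ?_, ?_⟩
          · refine Subgroup.mul_mem _ (hup (hnK i hi hit a ha)) (Subgroup.mul_mem _ ?_ (hHK _ ?_))
            · exact Subgroup.inv_mem _ (hsK i (i - 1) hi (by omega) (by omega))
            · have := hbraid (i - 1) (by omega) (by omega)
              rwa [show i - 1 + 1 = i by omega] at this
          · exact Subgroup.mul_mem _ (Subgroup.mul_mem _ (Subgroup.inv_mem _ hs2)
              (Subgroup.inv_mem _ (hsK i (i - 1) hi (by omega) (by omega))))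
              (hup (forall_conj_mem _ (hnK i hi hit) hb))
          · calc s i * (a * s (i - 1) * b) * s i
                = (s i * a * (s i)⁻¹) * (s i * s (i - 1) * s i) * ((s i)⁻¹ * b * s i) := by group
              _ = _ := by rw [braid_rule (s i) (s (i - 1))]; group
      let U : Subgroup (Equiv.Perm α) :=
        { carrier := {g | g ∈ K i ∨ ∃ a ∈ K i, ∃ b ∈ K i, g = a * s i * b}
          one_mem' := Or.inl (Subgroup.one_mem _)
          mul_mem' := by
            rintro g g' (hg | ⟨a, ha, b, hb, rfl⟩) (hg' | ⟨a', ha', b', hb', rfl⟩)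
            · exact Or.inl (Subgroup.mul_mem _ hg hg')
            · exact Or.inr ⟨g * a', Subgroup.mul_mem _ hg ha', b', hb', by group⟩
            · exact Or.inr ⟨a, ha, b * g', Subgroup.mul_mem _ hb hg', by group⟩
            · have he : a * s i * b * (a' * s i * b') = a * (s i * (b * a') * s i) * b' := by group
              rcases hsandwich (b * a') (Subgroup.mul_mem _ hb ha') with h | ⟨c, hc, d, hd, e⟩
              · refine Or.inl ?_
                rw [he]
                exact Subgroup.mul_mem _ (Subgroup.mul_mem _ ha h) hb'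
              · refine Or.inr ⟨a * c, Subgroup.mul_mem _ ha hc, d * b', Subgroup.mul_mem _ hd hb', ?_⟩
                rw [he, e]
                group
          inv_mem' := by
            rintro g (hg | ⟨a, ha, b, hb, rfl⟩)
            · exact Or.inl (Subgroup.inv_mem _ hg)
            · exact Or.inr ⟨b⁻¹ * (s i ^ 2)⁻¹, Subgroup.mul_mem _ (Subgroup.inv_mem _ hb) (Subgroup.inv_mem _ hs2),
                a⁻¹, Subgroup.inv_mem _ ha, by rw [pow_two]; group⟩ }
      have hU : K (i + 1) ≤ U := by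
        rw [hKc (i + 1) (by omega), Subgroup.closure_le]
        rintro x (hx | ⟨j, a, b, rfl⟩)
        · exact Or.inl (hGK i hi hx)
        · rcases Nat.lt_or_ge j i with h | h
          · exact Or.inl (hsK i j hi (by omega) (by omega))
          · exact Or.inr ⟨1, Subgroup.one_mem _, 1, Subgroup.one_mem _, by rw [show j = i by omega, one_mul, mul_one]⟩
      have hfixU : ∀ g ∈ K (i + 1), g ∈ K i ∨ g (q (i + 1)) ≠ q (i + 1) := by
        intro g hg
        rcases hU hg with h | ⟨a, ha, b, hb, rfl⟩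
        · exact Or.inl h
        · refine Or.inr fun e => ?_
          rw [Equiv.Perm.mul_apply, Equiv.Perm.mul_apply, ifix b hb (i + 1) (by omega) hit, sq2] at e
          have := hq i (i + 1) (by omega) (by omega) (by omega) hit
            (a.injective (e.trans (ifix a ha (i + 1) (by omega) hit).symm))
          omega
      refine ⟨fun g hg j hj hjt => ?_, ?_, fun g hg h => (hfixU g hg).resolve_right (not_not_intro h), fun g hg => hU hg⟩
      · rcases hU hg with h | ⟨a, ha, b, hb, rfl⟩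
        · exact ifix g h j (by omega) hjt
        · rw [Equiv.Perm.mul_apply, Equiv.Perm.mul_apply, ifix b hb j (by omega) hjt,
            sqf j (by omega) hjt (by omega) (by omega), ifix a ha j (by omega) hjt]
      · have key : ∀ x, Pts (i + 1) x → ∃ g ∈ K (i + 1), g (q (i + 1)) = x := by
          intro x hx
          by_cases hxe : x = q (i + 1)
          · exact ⟨1, Subgroup.one_mem _, hxe.symm⟩
          obtain ⟨g, hg, hgx⟩ := itr (q i) x (fun j hj hjt e => by have := hq i j (by omega) (by omega) (by omega) hjt e; omega)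
            (fun j hj hjt e => by
              rcases Nat.lt_or_ge (i + 1) j with h | h
              · exact hx j h hjt e
              · exact hxe (by rw [e, show j = i + 1 by omega]))
          refine ⟨g * s i, Subgroup.mul_mem _ (hmono i (by omega) hg) (hsK (i + 1) i (by omega) (by omega) le_rfl), ?_⟩
          rw [Equiv.Perm.mul_apply, sq2, hgx]
        intro x y hx hy
        obtain ⟨g, hg, hgx⟩ := key x hx
        obtain ⟨g', hg', hgy⟩ := key y hy
        refine ⟨g' * g⁻¹, Subgroup.mul_mem _ hg' (Subgroup.inv_mem _ hg), ?_⟩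
        rw [Equiv.Perm.mul_apply, show g⁻¹ x = q (i + 1) from (Equiv.Perm.inv_eq_iff_eq.2 hgx.symm), hgy]
  -- transitivity
  have trans : ∀ k, 2 ≤ k → k ≤ t → ∀ x : ℕ → α, (∀ i, 1 ≤ i → i ≤ k → Pts k (x i)) →
      (∀ i j, 1 ≤ i → i ≤ k → 1 ≤ j → j ≤ k → x i = x j → i = j) →
      ∃ g ∈ K k, ∀ i, 1 ≤ i → i ≤ k → g (x i) = q i := by
    intro k hk
    induction k, hk using Nat.le_induction with
    | base =>
      intro _ x hx hinj
      obtain ⟨g, hg, h1, h2'⟩ := h2 (x 1) (x 2) (q 1) (q 2) (fun j hj hjt => ⟨hx 1 le_rfl (by omega) j hj hjt, hx 2 (by omega) le_rfl j hj hjt,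
        fun e => by have := hq 1 j le_rfl (by omega) (by omega) hjt e; omega,
        fun e => by have := hq 2 j (by omega) ht (by omega) hjt e; omega⟩)
        (fun e => by have := hinj 1 2 le_rfl (by omega) (by omega) le_rfl e; omega)
        (fun e => by have := hq 1 2 le_rfl (by omega) (by omega) ht e; omega)
      refine ⟨g, hK2.symm ▸ hg, fun i hi1 hi2 => ?_⟩
      rcases (show i = 1 ∨ i = 2 by omega) with rfl | rfl
      · exact h1
      · exact h2'
    | succ k hk ih =>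
      intro hkt x hx hinj
      obtain ⟨mfix, mtr, -, -⟩ := main (k + 1) (by omega) hkt
      obtain ⟨g, hg, hgx⟩ := mtr (x (k + 1)) (q (k + 1)) (hx _ (by omega) le_rfl)
        (fun j hj hjt e => by have := hq (k + 1) j (by omega) hkt (by omega) hjt e; omega)
      obtain ⟨g', hg', hgx'⟩ := ih (by omega) (fun i => g (x i)) (fun i hi hik j hj hjt e => by
          rcases Nat.lt_or_ge (k + 1) j with h | h
          · exact hx i hi (by omega) j h hjt (g.injective (e.trans (mfix g hg j h hjt).symm))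
          · have := hinj i (k + 1) hi (by omega) (by omega) le_rfl (g.injective (by rw [hgx, show k + 1 = j by omega]; exact e))
            omega)
        (fun i j a b c d e => hinj i j a (by omega) c (by omega) (g.injective e))
      refine ⟨g' * g, Subgroup.mul_mem _ (hmono k (by omega) hg') hg, fun i hi hik => ?_⟩
      rw [Equiv.Perm.mul_apply]
      rcases Nat.lt_or_ge i (k + 1) with h | h
      · exact hgx' i hi (by omega)
      · rw [show i = k + 1 by omega, hgx, (main k hk (by omega)).1 g' hg' (k + 1) (by omega) hkt]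
  rw [← hKc t ht]
  refine ⟨⟨fun x y => ?_⟩, ?_⟩
  · have key : ∀ x : Fin t ↪ α, ∃ g : ↥(K t), ∀ i : Fin t, (g : Equiv.Perm α) (x i) = q (i.1 + 1) := by
      intro x
      obtain ⟨g, hg, h⟩ := trans t ht le_rfl (fun i => if h : i - 1 < t then x ⟨i - 1, h⟩ else q 1)
        (fun i _ _ j hj hjt => by omega) (fun i j hi hit hj hjt e => by
          rw [dif_pos (show i - 1 < t by omega), dif_pos (show j - 1 < t by omega)] at e
          have := congrArg Fin.val (x.injective e)
          simp at this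
          omega)
      refine ⟨⟨g, hg⟩, fun i => ?_⟩
      have h1 := h (i.1 + 1) (by omega) (by omega)
      rwa [dif_pos (show i.1 + 1 - 1 < t by omega), show (⟨i.1 + 1 - 1, by omega⟩ : Fin t) = i from Fin.ext (by simp)] at h1
    obtain ⟨g, hg⟩ := key x
    obtain ⟨g', hg'⟩ := key y
    refine ⟨g'⁻¹ * g, DFunLike.ext _ _ fun i => ?_⟩
    show ((g'⁻¹ * g : ↥(K t)) : Equiv.Perm α) (x i) = y i
    rw [Subgroup.coe_mul, Subgroup.coe_inv, Equiv.Perm.mul_apply, hg i, Equiv.Perm.inv_eq_iff_eq, hg' i]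
  · refine le_antisymm ?_ ?_
    · rintro g ⟨hg, hgf⟩
      have hgq : ∀ i, 1 ≤ i → i ≤ t → g (q i) = q i := fun i a b => hgf ⟨q i, i, a, b, rfl⟩
      have down : ∀ i, 2 ≤ i → i ≤ t → g ∈ K i → g ∈ G := by
        intro i hi
        induction i, hi using Nat.le_induction with
        | base => intro _ h; exact hK2 ▸ h
        | succ i hi ih => intro hit h; exact ih (by omega) (by have := (main (i + 1) (by omega) hit).2.2.1 g h (hgq _ (by omega) hit); rwa [Nat.add_sub_cancel] at this)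
      exact ⟨⟨down t ht le_rfl hg, hgq 1 le_rfl (by omega)⟩, hgq 2 (by omega) ht⟩
    · intro g hg
      refine ⟨hHK t hg, ?_⟩
      rintro ⟨_, i, hi1, hit, rfl⟩
      show g (q i) = q i
      rcases Nat.lt_or_ge i 3 with h | h
      · rcases (show i = 1 ∨ i = 2 by omega) with rfl | rfl
        · exact hg.1.2
        · exact hg.2
      · exact hfix g hg.1.1 i h hit

end Cfsg.Agent.S0709
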