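import Cfsg.Statements.S0710
import Mathlib.GroupTheory.Sylow
import Mathlib.GroupTheory.SpecificGroups.Cyclic
import Mathlib.Tactic.NormNum.Prime
-- import your own Cfsg.Agent.* helpers here

set_option autoImplicit false
set_option linter.style.haveILetI false
open Cfsg

namespace Cfsg.Agent.S0710

/-- No transitive permutation group on 13 points has order `13 * 12 * 11 * 10 * 9 * 8`. -/
theorem result {α : Type*} [Fintype α] [DecidableEq α] (hα : Fintype.card α = 13) (G : Subgroup (Equiv.Perm α)) [MulAction.IsPretransitive G α] : Nat.card G ≠ 13 * 12 * 11 * 10 * 9 * 8 := by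
  intro hG
  haveI := Fact.mk (show Nat.Prime 13 by norm_num)
  obtain ⟨P⟩ := (inferInstance : Nonempty (Sylow 13 G))
  have hP : Nat.card (P : Subgroup G) = 13 := by
    rw [P.card_eq_multiplicity, hG]
    have h : (13 * 12 * 11 * 10 * 9 * 8).factorization 13 = 1 := by
      rw [show 13 * 12 * 11 * 10 * 9 * 8 = 13 * 95040 by norm_num,
        Nat.factorization_mul (by norm_num) (by norm_num), Finsupp.add_apply,
        Nat.Prime.factorization_self (by norm_num),
        Nat.factorization_eq_zero_of_not_dvd (by norm_num : ¬ 13 ∣ 95040)]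
    rw [h, pow_one]
  haveI : IsCyclic (P : Subgroup G) := isCyclic_of_prime_card hP
  -- the Sylow subgroup is transitive
  have htr : ∀ a x : α, ∃ g : (P : Subgroup G), g • a = x := by
    obtain ⟨u, hu⟩ := IsCyclic.exists_generator (α := (P : Subgroup G))
    have hu1 : u ≠ 1 := by
      rintro rfl
      have : Nat.card (P : Subgroup G) = 1 := by
        rw [← orderOf_eq_card_of_forall_mem_zpowers hu, orderOf_one]
      omega
    obtain ⟨b, hb⟩ : ∃ b : α, u • b ≠ b := by
      refine Classical.byContradiction fun hno => ?_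
      rw [not_exists] at hno
      exact hu1 (Subtype.ext (Subtype.ext (Equiv.ext fun x => not_not.1 (hno x))))
    obtain ⟨n, hn⟩ := (P.isPGroup').card_orbit b
    have hn1 : n = 1 := by
      have hle : 13 ^ n ≤ 13 ^ 1 := by
        calc 13 ^ n = _ := hn.symm
          _ ≤ Nat.card α := ?_
          _ = 13 ^ 1 := by rw [Nat.card_eq_fintype_card, hα, pow_one]
        exact Nat.card_le_card_of_injective _ Subtype.val_injective
      have h0 : n ≠ 0 := by
        rintro rfl
        rw [pow_zero, Nat.card_eq_one_iff_exists] at hn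
        obtain ⟨w, hw⟩ := hn
        exact hb (congrArg Subtype.val ((hw ⟨u • b, MulAction.mem_orbit b u⟩).trans
          (hw ⟨b, MulAction.mem_orbit_self b⟩).symm))
      have := (Nat.pow_le_pow_iff_right (by norm_num : 1 < 13)).1 hle
      omega
    have huniv : MulAction.orbit (P : Subgroup G) b = Set.univ := by
      apply Set.eq_of_subset_of_ncard_le (Set.subset_univ _) _ Set.finite_univ
      rw [Set.ncard_univ, Nat.card_eq_fintype_card, hα, ← Nat.card_coe_set_eq, hn, hn1, pow_one]
    intro a x
    obtain ⟨g, hg⟩ := (huniv.ge (Set.mem_univ a) : a ∈ MulAction.orbit (P : Subgroup G) b)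
    obtain ⟨g', hg'⟩ := (huniv.ge (Set.mem_univ x) : x ∈ MulAction.orbit (P : Subgroup G) b)
    exact ⟨g' * g⁻¹, by rw [mul_smul, ← hg, inv_smul_smul, ← hg']⟩
  set C := Subgroup.centralizer ((P : Subgroup G) : Set G)
  -- the centraliser of the Sylow subgroup has at most 13 elements
  have hC : Nat.card C ≤ 13 := by
    have hne : Nonempty α := Fintype.card_pos_iff.1 (by omega)
    obtain ⟨a⟩ := hne
    rw [← hα, ← Nat.card_eq_fintype_card]
    refine Nat.card_le_card_of_injective (fun c : C => (c : G) • a) fun c c' h => ?_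
    refine Subtype.ext (Subtype.ext (Equiv.ext fun x => ?_))
    obtain ⟨g, rfl⟩ := htr a x
    show (c : G) • (g : G) • a = (c' : G) • (g : G) • a
    rw [← mul_smul, ← mul_smul, ← Subgroup.mem_centralizer_iff.1 c.2 g g.2,
      ← Subgroup.mem_centralizer_iff.1 c'.2 g g.2, mul_smul, mul_smul]
    exact congrArg _ h
  set N := Subgroup.normalizer ((P : Subgroup G) : Set G) with hN
  have hdvd : Nat.card N ∣ Nat.card C * 12 := by
    have h1 : (C.subgroupOf N).index ∣ 12 := by
      rw [← Subgroup.normalizerMonoidHom_ker, Subgroup.index_ker]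
      refine (Subgroup.card_subgroup_dvd_card _).trans ?_
      rw [IsCyclic.card_mulAut, hP, Nat.totient_prime (by norm_num)]
    rw [← Subgroup.card_mul_index (C.subgroupOf N), Nat.card_congr
      (Subgroup.subgroupOfEquivOfLe (Subgroup.centralizer_le_normalizer _)).toEquiv]
    exact Nat.mul_dvd_mul_left _ h1
  have hPC : (P : Subgroup G) ≤ C := fun g hg => Subgroup.mem_centralizer_iff.2 fun h hh =>
    congrArg Subtype.val ((IsCyclic.isMulCommutative (α := (P : Subgroup G))).is_comm.comm ⟨h, hh⟩ ⟨g, hg⟩)
  have hC13 : Nat.card C = 13 := le_antisymm hC (by rw [← hP]; exact Subgroup.card_le_of_le hPC)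
  rw [hC13] at hdvd
  have h13N : 13 ∣ Nat.card N := hP ▸ Subgroup.card_dvd_of_le Subgroup.le_normalizer
  have hidx : Nat.card (Sylow 13 G) * Nat.card N = 13 * 12 * 11 * 10 * 9 * 8 := by
    rw [P.card_eq_index_normalizer, ← hG, mul_comm]
    exact Subgroup.card_mul_index _
  have hmod := card_sylow_modEq_one 13 G
  obtain ⟨d, hd⟩ := h13N
  rw [hd] at hdvd hidx
  have hd12 : d ∣ 12 := (Nat.mul_dvd_mul_iff_left (by norm_num)).1 hdvd
  have hle : d ≤ 12 := Nat.le_of_dvd (by norm_num) hd12
  unfold Nat.ModEq at hmod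
  generalize Nat.card (Sylow 13 G) = n at hidx hmod
  interval_cases d <;> omega

end Cfsg.Agent.S0710
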