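import Cfsg.Statements.S0711
import Mathlib.GroupTheory.GroupAction.MultipleTransitivity
import Mathlib.GroupTheory.GroupAction.Jordan
import Mathlib.GroupTheory.Perm.Cycle.Type
-- import your own Cfsg.Agent.* helpers here

set_option autoImplicit false
set_option linter.style.haveILetI false
open Cfsg

namespace Cfsg.Agent.S0711

open Equiv Finset

/-- A subset of the support with at most one element leaving it. -/
theorem exists_almost_closed {α : Type*} [Fintype α] [DecidableEq α] (g : Perm α) :
    ∀ j ≤ g.support.card, ∃ Δ, Δ ⊆ g.support ∧ Δ.card = j ∧ (Δ.filter fun x => g x ∉ Δ).card ≤ 1 := by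
  intro j
  induction j with
  | zero => exact fun _ => ⟨∅, empty_subset _, rfl, by simp⟩
  | succ j ih =>
    intro hj
    obtain ⟨Δ, hsub, hc, he⟩ := ih (by omega)
    by_cases h0 : ∃ x ∈ Δ, g x ∉ Δ
    · obtain ⟨x, hx, hgx⟩ := h0
      refine ⟨insert (g x) Δ, insert_subset (Perm.apply_mem_support.2 (hsub hx)) hsub,
        by rw [card_insert_of_notMem hgx, hc], ?_⟩
      have huniq : ∀ y ∈ Δ, g y ∉ Δ → y = x := fun y hy hy' => card_le_one.1 he y
        (mem_filter.2 ⟨hy, hy'⟩) x (mem_filter.2 ⟨hx, hgx⟩)
      refine card_le_one.2 fun a ha b hb => ?_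
      simp only [mem_filter, mem_insert, not_or] at ha hb
      rcases ha.1 with rfl | ha1 <;> rcases hb.1 with rfl | hb1
      · rfl
      · exact absurd (congrArg g (huniq b hb1 hb.2.2)) hb.2.1
      · exact absurd (congrArg g (huniq a ha1 ha.2.2)) ha.2.1
      · exact (huniq a ha1 ha.2.2).trans (huniq b hb1 hb.2.2).symm
    · push Not at h0
      obtain ⟨y, hy, hyΔ⟩ := exists_mem_notMem_of_card_lt_card (show Δ.card < g.support.card by omega)
      refine ⟨insert y Δ, insert_subset hy hsub, by rw [card_insert_of_notMem hyΔ, hc], ?_⟩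
      refine (card_le_card (t := {y}) fun a ha => ?_).trans (card_singleton y).le
      simp only [mem_filter, mem_insert, not_or] at ha
      rcases ha.1 with rfl | ha1
      · exact mem_singleton_self _
      · exact absurd (h0 a ha1) ha.2.2

theorem commutator_support {α : Type*} [Fintype α] [DecidableEq α] (g h : Perm α) (Δ : Finset α)
    (hΔ : ∀ x ∈ Δ, h x = x) :
    (h * g * h⁻¹ * g⁻¹).support ⊆
      (g.support ∪ g.support.image h) \ (Δ.filter fun x => g x ∈ Δ).image g := by
  intro x hx
  rw [mem_sdiff, mem_union]
  rw [Perm.mem_support] at hx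
  refine ⟨?_, ?_⟩
  · by_contra hno
    rw [not_or, Perm.notMem_support, mem_image] at hno
    apply hx
    have h1 : g⁻¹ x = x := Perm.inv_eq_iff_eq.2 hno.1.symm
    have h2 : g (h⁻¹ x) = h⁻¹ x := Perm.notMem_support.1 fun hm => hno.2 ⟨h⁻¹ x, hm, by simp⟩
    show h (g (h⁻¹ (g⁻¹ x))) = x
    rw [h1, h2, Perm.coe_inv, Equiv.apply_symm_apply]
  · intro hmem
    obtain ⟨y, hy, rfl⟩ := mem_image.1 hmem
    rw [mem_filter] at hy
    apply hx
    have : h⁻¹ y = y := Perm.inv_eq_iff_eq.2 (hΔ y hy.1).symm
    simp [Perm.mul_apply, this, hΔ _ hy.2]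

theorem commutator_ne_one {α : Type*} (g h : Perm α) (x : α) (hne : h (g (h⁻¹ x)) ≠ g x) :
    h * g * h⁻¹ * g⁻¹ ≠ 1 := by
  intro e
  rw [mul_inv_eq_one] at e
  exact hne (congrArg (fun σ : Perm α => σ x) e)

theorem exists_small {α : Type*} [Fintype α] [DecidableEq α] (G : Subgroup (Perm α)) {k : ℕ}
    (hk : 3 ≤ k) (hkn : k ≤ Fintype.card α) (hG : MulAction.IsMultiplyPretransitive G α k) :
    ∀ (m : ℕ) (g : Perm α), g ∈ G → g ≠ 1 → g.support.card = m → m < 2 * k - 2 →
      ∃ h : Perm α, h ∈ G ∧ h ≠ 1 ∧ h.support.card ≤ 3 := by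
  intro m
  induction m using Nat.strong_induction_on with
  | _ m ih =>
    intro g hg hg1 hm hlt
    by_cases htop : Fintype.card α = k
    · have hG' : G = ⊤ := Equiv.Perm.eq_top_of_isMultiplyPretransitive
        (MulAction.isMultiplyPretransitive_of_le (n := k)
          (by rw [Nat.card_eq_fintype_card]; omega) (by rwa [Nat.card_eq_fintype_card]))
      obtain ⟨a, b, hab⟩ := Fintype.exists_pair_of_one_lt_card (α := α) (by omega)
      refine ⟨Equiv.swap a b, hG' ▸ Subgroup.mem_top _, ?_, ?_⟩
      · exact fun e => hab (Equiv.swap_eq_refl_iff.1 e)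
      · rw [Perm.card_support_swap hab]; omega
    by_cases h3 : m ≤ 3
    · exact ⟨g, hg, hg1, by omega⟩
    set S := g.support with hS
    suffices step : ∃ h ∈ G, h * g * h⁻¹ * g⁻¹ ≠ 1 ∧ (h * g * h⁻¹ * g⁻¹).support.card < m by
      obtain ⟨h, hh, hne, hlt'⟩ := step
      exact ih _ hlt' _ (G.mul_mem (G.mul_mem (G.mul_mem hh hg) (G.inv_mem hh)) (G.inv_mem hg)) hne
        rfl (by omega)
    have move : ∀ (Δ : Finset α) (z w : α), Δ.card < k → z ∉ Δ → w ∉ Δ →
        ∃ h ∈ G, (∀ x ∈ Δ, h x = x) ∧ h z = w := by
      intro Δ z w hc hz hw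
      have h1 : MulAction.IsMultiplyPretransitive G α (Δ.card + 1) :=
        MulAction.isMultiplyPretransitive_of_le (n := k) hc (by rwa [Nat.card_eq_fintype_card])
      let e := Δ.equivFin.symm
      have mk : ∀ v, v ∉ Δ → Function.Injective (Fin.snoc (fun i => (e i : α)) v : Fin (Δ.card + 1) → α) := by
        intro v hv i l hil
        induction i using Fin.lastCases with
        | last =>
          induction l using Fin.lastCases with
          | last => rfl
          | cast l => simp at hil; exact absurd (hil ▸ (e l).2) hv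
        | cast i =>
          induction l using Fin.lastCases with
          | last => simp at hil; exact absurd (hil ▸ (e i).2) hv
          | cast l => simp at hil; rw [hil]
      obtain ⟨h, hh⟩ := MulAction.exists_smul_eq G (⟨_, mk z hz⟩ : Fin (Δ.card + 1) ↪ α) ⟨_, mk w hw⟩
      refine ⟨h, h.2, fun x hx => ?_, ?_⟩
      · obtain ⟨i, hi⟩ := e.surjective ⟨x, hx⟩
        have := DFunLike.congr_fun hh i.castSucc
        simp [hi] at this
        exact this
      · have := DFunLike.congr_fun hh (Fin.last _)
        simp at this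
        exact this
    -- the support of the commutator
    have bound : ∀ (h : Perm α) (Δ C : Finset α), (∀ x ∈ Δ, h x = x) → Δ ⊆ S →
        C ⊆ S ∩ S.image h →
        (h * g * h⁻¹ * g⁻¹).support.card + (Δ.filter fun x => g x ∈ Δ).card + C.card ≤ 2 * m := by
      intro h Δ C hΔ hΔS hC
      have h1 := card_le_card (commutator_support g h Δ hΔ)
      have h2 : (Δ.filter fun x => g x ∈ Δ).image g ⊆ S ∪ S.image h := fun x hx => by
        obtain ⟨y, hy, rfl⟩ := mem_image.1 hx
        exact mem_union_left _ (hΔS (mem_filter.1 hy).2)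
      rw [← hS, card_sdiff_of_subset h2, card_image_of_injective _ g.injective] at h1
      have h3 := card_le_card h2
      rw [card_image_of_injective _ g.injective] at h3
      have h4 := card_union_add_card_inter S (S.image h)
      rw [card_image_of_injective _ h.injective, ← hS] at *
      have h5 := card_le_card hC
      omega
    have hΔC : ∀ (h : Perm α) (Δ : Finset α), (∀ x ∈ Δ, h x = x) → Δ ⊆ S → Δ ⊆ S ∩ S.image h :=
      fun h Δ hh hs x hx => mem_inter.2 ⟨hs hx, mem_image.2 ⟨x, hs hx, hh x hx⟩⟩
    have split : ∀ Δ : Finset α,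
        (Δ.filter fun x => g x ∈ Δ).card + (Δ.filter fun x => g x ∉ Δ).card = Δ.card :=
      fun Δ => card_filter_add_card_filter_not _
    obtain ⟨Δ, hΔS, hΔc, hΔe⟩ := exists_almost_closed g (min (k - 1) (m - 1)) (by rw [← hS]; omega)
    rcases Nat.le_one_iff_eq_zero_or_eq_one.1 hΔe with h0 | h1
    · -- closed
      by_cases hnm : ∃ w, w ∉ S
      · obtain ⟨w, hw⟩ := hnm
        obtain ⟨z, hz, hzΔ⟩ := exists_mem_notMem_of_card_lt_card (show Δ.card < S.card by omega)
        obtain ⟨h, hh, hfix, hzw⟩ := move Δ z w (by omega) hzΔ (fun h => hw (hΔS h))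
        refine ⟨h, hh, commutator_ne_one g h w ?_, ?_⟩
        · rw [show h⁻¹ w = z from Perm.inv_eq_iff_eq.2 hzw.symm, Perm.notMem_support.1 hw, ← hzw]
          exact fun e => (Perm.mem_support.1 hz) (h.injective e)
        · have hb := bound h Δ Δ hfix hΔS (hΔC h Δ hfix hΔS)
          have hs := split Δ
          by_cases hmk : m ≤ k
          · exfalso
            have hz' : g z ∈ Δ → False := fun hgz => by
              have himg : Δ.image g = Δ := eq_of_subset_of_card_le (fun x hx => by
                obtain ⟨y, hy, rfl⟩ := mem_image.1 hx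
                by_contra hc
                exact absurd (card_eq_zero.1 h0) (ne_empty_of_mem (mem_filter.2 ⟨hy, hc⟩)))
                (card_image_of_injective _ g.injective).ge
              rw [← himg] at hgz
              obtain ⟨y, hy, hyz⟩ := mem_image.1 hgz
              exact hzΔ (g.injective hyz ▸ hy)
            have hcard : (insert z (insert (g z) Δ)).card ≤ S.card := card_le_card
              (insert_subset hz (insert_subset (Perm.apply_mem_support.2 hz) hΔS))
            rw [card_insert_of_notMem (by
                simp only [mem_insert, not_or]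
                exact ⟨fun e => Perm.mem_support.1 hz e.symm, hzΔ⟩),
              card_insert_of_notMem (fun h => hz' h)] at hcard
            omega
          · omega
      · -- no fixed points: move one point of the closed set
        push Not at hnm
        have hnS : Fintype.card α = m := by
          rw [← hm, ← card_univ]
          exact le_antisymm (card_le_card fun x _ => hnm x) (card_le_univ _)
        obtain ⟨u, hu⟩ : Δ.Nonempty := card_pos.1 (by omega)
        have hk4 : 4 ≤ k := by omega
        obtain ⟨v, -, hv⟩ := exists_mem_notMem_of_card_lt_card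
          (show Δ.card < (univ : Finset α).card by rw [card_univ]; omega)
        set Δ' := insert v (Δ.erase u) with hΔ'
        have hc' : Δ'.card = Δ.card := by
          rw [card_insert_of_notMem (fun h => hv (mem_of_mem_erase h)), card_erase_of_mem hu]
          omega
        have hclosed : ∀ y ∈ Δ, g y ∈ Δ := fun y hy => by
          by_contra hc
          exact absurd (card_eq_zero.1 h0) (ne_empty_of_mem (mem_filter.2 ⟨hy, hc⟩))
        obtain ⟨y, hy, hyu⟩ : ∃ y ∈ Δ, g y = u := by
          have himg : Δ.image g = Δ := eq_of_subset_of_card_le (fun x hx => by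
            obtain ⟨y, hy, rfl⟩ := mem_image.1 hx
            exact hclosed y hy) (card_image_of_injective _ g.injective).ge
          rw [← himg] at hu
          exact mem_image.1 hu
        have hyu' : y ≠ u := fun e => Perm.mem_support.1 (hΔS hy) (hyu.trans e.symm)
        have hgy : g y ∉ Δ' := by
          rw [hyu, hΔ']
          simp only [mem_insert, mem_erase, ne_eq, not_true_eq_false, false_and, or_false]
          exact fun e => hv (e ▸ hu)
        have hyΔ' : y ∈ Δ' := mem_insert_of_mem (mem_erase.2 ⟨hyu', hy⟩)
        obtain ⟨w, -, hw⟩ := exists_mem_notMem_of_card_lt_card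
          (show (insert (g y) Δ').card < (univ : Finset α).card by
            rw [card_insert_of_notMem hgy, hc', card_univ]; omega)
        simp only [mem_insert, not_or] at hw
        obtain ⟨h, hh, hfix, hzw⟩ := move Δ' (g y) w (by omega) hgy hw.2
        refine ⟨h, hh, commutator_ne_one g h y ?_, ?_⟩
        · rw [show h⁻¹ y = y from Perm.inv_eq_iff_eq.2 (hfix y hyΔ').symm, hzw]
          exact hw.1
        · obtain ⟨x, hx, hxne⟩ := exists_mem_notMem_of_card_lt_card
            (show ({u, y} : Finset α).card < Δ.card by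
              have := card_le_two (a := u) (b := y)
              omega)
          simp only [mem_insert, mem_singleton, not_or] at hxne
          have hxmem : g x ∈ (Δ'.filter fun x => g x ∈ Δ').image g := mem_image_of_mem g
            (mem_filter.2 ⟨mem_insert_of_mem (mem_erase.2 ⟨hxne.1, hx⟩),
              mem_insert_of_mem (mem_erase.2 ⟨fun e => hxne.2 (g.injective (e.trans hyu.symm)),
                hclosed x hx⟩)⟩)
          have h1 := commutator_support g h Δ' hfix
          have h2 : (h * g * h⁻¹ * g⁻¹).support ⊆ univ.erase (g x) := fun z hz =>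
            mem_erase.2 ⟨fun e => (mem_sdiff.1 (h1 hz)).2 (e ▸ hxmem), mem_univ z⟩
          have h3 := card_le_card h2
          rw [card_erase_of_mem (mem_univ _), card_univ] at h3
          omega
    · -- one exit
      obtain ⟨y, hy⟩ := card_eq_one.1 h1
      have hy' : y ∈ Δ ∧ g y ∉ Δ := mem_filter.1 (hy ▸ mem_singleton_self y)
      have hs := split Δ
      by_cases hmk : m ≤ k
      · obtain ⟨w, -, hw⟩ := exists_mem_notMem_of_card_lt_card
          (show S.card < (univ : Finset α).card by rw [card_univ]; omega)
        obtain ⟨h, hh, hfix, hzw⟩ := move Δ (g y) w (by omega) hy'.2 (fun h => hw (hΔS h))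
        refine ⟨h, hh, commutator_ne_one g h y ?_, ?_⟩
        · rw [show h⁻¹ y = y from Perm.inv_eq_iff_eq.2 (hfix y hy'.1).symm, hzw]
          exact fun e => hw (e ▸ Perm.apply_mem_support.2 (hΔS hy'.1))
        · have hb := bound h Δ Δ hfix hΔS (hΔC h Δ hfix hΔS)
          omega
      · obtain ⟨w, hw, hw'⟩ := exists_mem_notMem_of_card_lt_card
          (show (insert (g y) Δ).card < S.card by rw [card_insert_of_notMem hy'.2]; omega)
        simp only [mem_insert, not_or] at hw'
        obtain ⟨h, hh, hfix, hzw⟩ := move Δ (g y) w (by omega) hy'.2 hw'.2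
        refine ⟨h, hh, commutator_ne_one g h y ?_, ?_⟩
        · rw [show h⁻¹ y = y from Perm.inv_eq_iff_eq.2 (hfix y hy'.1).symm, hzw]
          exact hw'.1
        · have hC : insert w Δ ⊆ S ∩ S.image h := insert_subset
            (mem_inter.2 ⟨hw, mem_image.2 ⟨g y, Perm.apply_mem_support.2 (hΔS hy'.1), hzw⟩⟩)
            (hΔC h Δ hfix hΔS)
          have hb := bound h Δ (insert w Δ) hfix hΔS hC
          rw [card_insert_of_notMem hw'.2] at hb
          omega


/-- A `k`-transitive permutation group (`k ≥ 3`) with a non-identity element of support smaller than `2k - 2` contains a non-identity element of support at most 3, and therefore contains the alternating group. -/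
theorem result {α : Type*} [Fintype α] [DecidableEq α] (G : Subgroup (Equiv.Perm α)) {k : ℕ} (hk : 3 ≤ k) (hkn : k ≤ Fintype.card α) (hG : MulAction.IsMultiplyPretransitive G α k) (g : Equiv.Perm α) (hg : g ∈ G) (hg1 : g ≠ 1) (hsupp : g.support.card < 2 * k - 2) : (∃ h : Equiv.Perm α, h ∈ G ∧ h ≠ 1 ∧ h.support.card ≤ 3) ∧ alternatingGroup α ≤ G := by
  haveI := hG
  obtain ⟨h, hh, hne, hsm⟩ := exists_small G hk hkn hG _ g hg hg1 rfl hsupp
  refine ⟨⟨h, hh, hne, hsm⟩, ?_⟩
  have h2 : MulAction.IsMultiplyPretransitive G α 2 :=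
    MulAction.isMultiplyPretransitive_of_le (n := k) (by omega) (by rwa [Nat.card_eq_fintype_card])
  haveI := h2
  have hprim : MulAction.IsPreprimitive G α := MulAction.isPreprimitive_of_is_two_pretransitive inferInstance
  have hc : 2 ≤ h.support.card := Equiv.Perm.two_le_card_support_of_ne_one hne
  rcases (show h.support.card = 2 ∨ h.support.card = 3 by omega) with e | e
  · rw [Equiv.Perm.subgroup_eq_top_of_isPreprimitive_of_isSwap_mem hprim
      h (Equiv.Perm.card_support_eq_two.1 e) hh]
    exact le_top
  · exact Equiv.Perm.alternatingGroup_le_of_isPreprimitive_of_isThreeCycle_mem hprim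
      (card_support_eq_three_iff.1 e) hh

end Cfsg.Agent.S0711
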