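import Cfsg.Statements.S0712
import Cfsg.Agent.Lib.Perm.Multiple
import Mathlib.GroupTheory.GroupAction.Jordan
-- import your own Cfsg.Agent.* helpers here

set_option autoImplicit false
set_option linter.style.haveILetI false
open Cfsg

namespace Cfsg.Agent.S0712

/-- Jordan: a primitive group in which the pointwise stabiliser of a set `s` is doubly transitive on the complement of `s` (which has at least 2 points) is `(|s| + 2)`-transitive. -/
theorem result {α : Type*} [Fintype α] [DecidableEq α] (G : Subgroup (Equiv.Perm α)) (hG : MulAction.IsPreprimitive G α) (s : Set α) {m : ℕ} (hsm : s.ncard = m) (hm : m + 2 ≤ Fintype.card α) (h2 : MulAction.IsMultiplyPretransitive (fixingSubgroup G s) (SubMulAction.ofFixingSubgroup G s) 2) : MulAction.IsMultiplyPretransitive G α (m + 2) := by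
  classical
  have hfix2 : ∀ a b c d : α, a ∉ s → b ∉ s → c ∉ s → d ∉ s → a ≠ b → c ≠ d →
      ∃ h : G, (∀ z ∈ s, h • z = z) ∧ h • a = c ∧ h • b = d := by
    intro a b c d ha hb hc hd hab hcd
    obtain ⟨h, h1, h2'⟩ : ∃ h : fixingSubgroup G s,
        h • (⟨a, ha⟩ : SubMulAction.ofFixingSubgroup G s) = ⟨c, hc⟩ ∧
        h • (⟨b, hb⟩ : SubMulAction.ofFixingSubgroup G s) = ⟨d, hd⟩ :=
      MulAction.is_two_pretransitive_iff.1 h2 (fun e => hab (congrArg Subtype.val e))
        (fun e => hcd (congrArg Subtype.val e))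
    exact ⟨(h : G), fun z hz => (mem_fixingSubgroup_iff G).1 h.2 z hz,
      congrArg Subtype.val h1, congrArg Subtype.val h2'⟩
  have hprim : MulAction.IsPreprimitive (fixingSubgroup G s) (SubMulAction.ofFixingSubgroup G s) :=
    MulAction.isPreprimitive_of_is_two_pretransitive h2
  -- G is m-transitive
  have hm0 : MulAction.IsMultiplyPretransitive G α m := by
    rcases m with _ | n
    · exact MulAction.is_zero_pretransitive'
    rcases lt_or_eq_of_le hm with hlt | heq
    · haveI := hG.isMultiplyPreprimitive hsm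
        (show n + 2 < Nat.card α by rw [Nat.card_eq_fintype_card]; omega) hprim
      haveI : MulAction.IsMultiplyPretransitive G α (n + 2) := inferInstance
      exact MulAction.isMultiplyPretransitive_of_le (n := n + 2) (by omega)
        (by rw [Nat.card_eq_fintype_card]; omega)
    · -- the complement has two points, so a transposition lies in G
      obtain ⟨a, b, hab, habs⟩ : ∃ a b, a ≠ b ∧ sᶜ = {a, b} := by
        rw [← Set.ncard_eq_two, Set.ncard_compl, hsm, Nat.card_eq_fintype_card]
        omega
      have ha : a ∉ s := (habs.ge (Or.inl rfl) : a ∈ sᶜ)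
      have hb : b ∉ s := (habs.ge (Or.inr rfl) : b ∈ sᶜ)
      obtain ⟨h, hh, h1, h2'⟩ := hfix2 a b b a ha hb hb ha hab hab.symm
      have hsw : (h : Equiv.Perm α) = Equiv.swap a b := Equiv.ext fun z => by
        rcases eq_or_ne z a with rfl | hza
        · rw [Equiv.swap_apply_left]; exact h1
        rcases eq_or_ne z b with rfl | hzb
        · rw [Equiv.swap_apply_right]; exact h2'
        rw [Equiv.swap_apply_of_ne_of_ne hza hzb]
        refine hh z (Classical.byContradiction fun hz => ?_)
        rcases (habs.le hz : z = a ∨ z = b) with e | e <;> contradiction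
      have htop := Equiv.Perm.subgroup_eq_top_of_isPreprimitive_of_isSwap_mem hG
        (h : Equiv.Perm α) ⟨a, b, hab, hsw⟩ h.2
      rw [MulAction.isMultiplyPretransitive_iff]
      intro x y
      obtain ⟨σ, hσ⟩ := Equiv.Perm.exists_extending_pair x y x.injective y.injective
      exact ⟨⟨σ, htop.ge (Subgroup.mem_top σ)⟩, DFunLike.ext _ _ fun i => hσ i⟩
  rw [MulAction.isMultiplyPretransitive_iff] at hm0 ⊢
  haveI : Fintype s := Fintype.ofFinite _
  have hcs : Fintype.card s = m := by rw [← hsm, ← Nat.card_coe_set_eq, Nat.card_eq_fintype_card]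
  let e : Fin m ↪ α :=
    (Fintype.equivFinOfCardEq hcs).symm.toEmbedding.trans (Function.Embedding.subtype _)
  have he : ∀ z ∈ s, ∃ i, e i = z := fun z hz =>
    ⟨Fintype.equivFinOfCardEq hcs ⟨z, hz⟩, by simp [e]⟩
  intro x y
  have hstd : ∀ u : Fin (m + 2) ↪ α, ∃ g : G, (∀ i : Fin m, g • u (Fin.castAdd 2 i) = e i) ∧
      ∀ j : Fin 2, g • u (Fin.natAdd m j) ∉ s := by
    intro u
    obtain ⟨g, hg⟩ := hm0 ((Fin.castAddEmb 2).trans u) e
    have hg' : ∀ i : Fin m, g • u (Fin.castAdd 2 i) = e i := fun i => DFunLike.congr_fun hg i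
    refine ⟨g, hg', fun j hj => ?_⟩
    obtain ⟨i, hi⟩ := he _ hj
    rw [← hg', smul_left_cancel_iff] at hi
    have := congrArg Fin.val (u.injective hi)
    simp only [Fin.val_castAdd, Fin.val_natAdd] at this
    omega
  obtain ⟨g, hg, hgs⟩ := hstd x
  obtain ⟨g', hg', hgs'⟩ := hstd y
  obtain ⟨h, hh, h1, h2'⟩ := hfix2 _ _ _ _ (hgs 0) (hgs 1) (hgs' 0) (hgs' 1)
    (fun e => by simpa [Fin.ext_iff] using x.injective (smul_left_cancel g e))
    (fun e => by simpa [Fin.ext_iff] using y.injective (smul_left_cancel g' e))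
  refine ⟨g'⁻¹ * (h * g), DFunLike.ext _ _ fun i => ?_⟩
  rw [Function.Embedding.smul_apply, mul_smul, inv_smul_eq_iff, mul_smul]
  induction i using Fin.addCases with
  | left i =>
    rw [hg, hg']
    refine hh _ ?_
    exact ((Fintype.equivFinOfCardEq hcs).symm i).2
  | right j =>
    fin_cases j
    · exact h1
    · exact h2'

end Cfsg.Agent.S0712
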