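import Cfsg.Statements.S0714
import Cfsg.Agent.Lib.Perm.Modules
import Mathlib.GroupTheory.GroupAction.MultipleTransitivity
import Mathlib.Tactic.LinearCombination
-- import your own Cfsg.Agent.* helpers here

set_option autoImplicit false
set_option linter.style.haveILetI false
open Cfsg

namespace Cfsg.Agent.S0714

/-- Over any field, the permutation module of the alternating group of degree at least 5 has exactly four invariant subspaces: zero, the constant functions, the functions with coordinate sum zero, and everything. -/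
theorem result {α : Type*} [Fintype α] [DecidableEq α] (hα : 5 ≤ Fintype.card α) {K : Type*} [Field K] (W : Subrepresentation (Cfsg.permRep K (alternatingGroup α) α)) : W.toSubmodule = ⊥ ∨ W = Cfsg.permConstants K (alternatingGroup α) α ∨ W = Cfsg.permSumZero K (alternatingGroup α) α ∨ W.toSubmodule = ⊤ := by
  classical
  let d : α → α → α → K := fun x y => Pi.single x 1 - Pi.single y 1
  have hWg : ∀ (g : (alternatingGroup α)) (f : α → K), f ∈ W.toSubmodule →
      (fun x => f (g⁻¹ • x)) ∈ W.toSubmodule := fun g f hf => W.apply_mem_toSubmodule g hf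
  have hdt : ∀ a b c e : α, a ≠ b → c ≠ e → Equiv.swap a b * Equiv.swap c e ∈ alternatingGroup α := by
    intro a b c e hab hce
    rw [Equiv.Perm.mem_alternatingGroup, map_mul, Equiv.Perm.sign_swap hab, Equiv.Perm.sign_swap hce]
    norm_num
  -- a function with distinct values at a pair and equal values at a disjoint pair gives e_a - e_b
  have hL1 : ∀ f ∈ W.toSubmodule, ∀ a b c e : α, a ≠ b → c ≠ e → a ≠ c → a ≠ e → b ≠ c → b ≠ e →
      f a ≠ f b → f c = f e → d a b ∈ W.toSubmodule := by
    intro f hf a b c e hab hce hac hae hbc hbe hfab hfce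
    have h := W.toSubmodule.sub_mem (hWg ⟨_, inv_mem (hdt a b c e hab hce)⟩ f hf) hf
    have heq : ((fun x => f ((⟨_, inv_mem (hdt a b c e hab hce)⟩ : (alternatingGroup α))⁻¹ • x)) - f) =
        (f b - f a) • d a b := by
      funext x
      simp only [Pi.sub_apply, Pi.smul_apply, smul_eq_mul, d]
      show f (((Equiv.swap a b * Equiv.swap c e)⁻¹)⁻¹ x) - f x = _
      rw [inv_inv, Equiv.Perm.mul_apply]
      rcases eq_or_ne x a with rfl | hxa
      · rw [Equiv.swap_apply_of_ne_of_ne hac hae, Equiv.swap_apply_left, Pi.single_eq_same,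
          Pi.single_eq_of_ne hab]; ring
      rcases eq_or_ne x b with rfl | hxb
      · rw [Equiv.swap_apply_of_ne_of_ne hbc hbe, Equiv.swap_apply_right, Pi.single_eq_same,
          Pi.single_eq_of_ne hxa]; ring
      rw [Pi.single_eq_of_ne hxa, Pi.single_eq_of_ne hxb]
      rcases eq_or_ne x c with rfl | hxc
      · rw [Equiv.swap_apply_left, Equiv.swap_apply_of_ne_of_ne hae.symm hbe.symm, hfce]; ring
      rcases eq_or_ne x e with rfl | hxe
      · rw [Equiv.swap_apply_right, Equiv.swap_apply_of_ne_of_ne hac.symm hbc.symm, hfce]; ring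
      rw [Equiv.swap_apply_of_ne_of_ne hxc hxe, Equiv.swap_apply_of_ne_of_ne hxa hxb]; ring
    rw [heq] at h
    simpa [sub_ne_zero.2 (Ne.symm hfab)] using W.toSubmodule.smul_mem (f b - f a)⁻¹ h
  by_cases hconst : ∀ f ∈ W.toSubmodule, ∀ x y : α, f x = f y
  · by_cases hbot : W.toSubmodule = ⊥
    · exact Or.inl hbot
    refine Or.inr (Or.inl ?_)
    have hle : W.toSubmodule ≤ (Cfsg.permConstants K (alternatingGroup α) α).toSubmodule := fun f hf => by
      obtain ⟨z⟩ : Nonempty α := Fintype.card_pos_iff.1 (by omega)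
      exact PermModules.mem_permConstants.2 ⟨f z, fun x => hconst f hf x z⟩
    obtain ⟨f, hf, hf0⟩ := Submodule.exists_mem_ne_zero_of_ne_bot hbot
    obtain ⟨c, hc⟩ := PermModules.mem_permConstants.1 (hle hf)
    have hc0 : c ≠ 0 := fun e => hf0 (funext fun x => by rw [hc x, e]; rfl)
    refine Subrepresentation.ext (le_antisymm hle fun g hg => ?_)
    obtain ⟨c', hc'⟩ := PermModules.mem_permConstants.1 hg
    rw [show g = (c' * c⁻¹) • f from funext fun x => by
      rw [Pi.smul_apply, smul_eq_mul, hc x, hc' x, mul_assoc, inv_mul_cancel₀ hc0, mul_one]]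
    exact W.toSubmodule.smul_mem _ hf
  · simp only [not_forall] at hconst
    obtain ⟨f, hf, a, b, hfab⟩ := hconst
    have hab : a ≠ b := fun e => hfab (by rw [e])
    have hpair : ∃ x y : α, x ≠ y ∧ d x y ∈ W.toSubmodule := by
      by_cases heq : ∃ c e : α, c ≠ e ∧ a ≠ c ∧ a ≠ e ∧ b ≠ c ∧ b ≠ e ∧ f c = f e
      · obtain ⟨c, e, h1, h2, h3, h4, h5, h6⟩ := heq
        exact ⟨a, b, hab, hL1 f hf a b c e hab h1 h2 h3 h4 h5 hfab h6⟩
      obtain ⟨c, e, g, hce, hcg, heg, hc, he, hg⟩ : ∃ c e g : α, c ≠ e ∧ c ≠ g ∧ e ≠ g ∧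
          (c ≠ a ∧ c ≠ b) ∧ (e ≠ a ∧ e ≠ b) ∧ (g ≠ a ∧ g ≠ b) := by
        have h : 2 < ((Finset.univ : Finset α) \ {a, b}).card := by
          rw [Finset.card_sdiff_of_subset (Finset.subset_univ _), Finset.card_pair hab, Finset.card_univ]
          omega
        obtain ⟨c, e, g, hc, he, hg, h1, h2, h3⟩ := Finset.two_lt_card_iff.1 h
        simp at hc he hg
        exact ⟨c, e, g, h1, h2, h3, hc, he, hg⟩
      have hfce : f c ≠ f e := fun h => heq ⟨c, e, hce, hc.1.symm, he.1.symm, hc.2.symm, he.2.symm, h⟩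
      set v := (fun x => f ((⟨_, inv_mem (hdt a b c e hab hce)⟩ : (alternatingGroup α))⁻¹ • x)) - f with hv
      have hvW : v ∈ W.toSubmodule :=
        W.toSubmodule.sub_mem (hWg ⟨_, inv_mem (hdt a b c e hab hce)⟩ f hf) hf
      have hvx : ∀ x, v x = f (Equiv.swap a b (Equiv.swap c e x)) - f x := fun x => by
        show f (((Equiv.swap a b * Equiv.swap c e)⁻¹)⁻¹ x) - f x = _
        rw [inv_inv]; rfl
      set w := f e - f c with hw
      have hw0 : w ≠ 0 := sub_ne_zero.2 (Ne.symm hfce)
      have hvc : v c = w := by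
        rw [hvx, Equiv.swap_apply_left, Equiv.swap_apply_of_ne_of_ne he.1 he.2]
      have hve : v e = -w := by
        rw [hvx, Equiv.swap_apply_right, Equiv.swap_apply_of_ne_of_ne hc.1 hc.2, hw]; ring
      have hvg : v g = 0 := by
        rw [hvx, Equiv.swap_apply_of_ne_of_ne hcg.symm heg.symm,
          Equiv.swap_apply_of_ne_of_ne hg.1 hg.2, sub_self]
      -- the three-cycle c ↦ e ↦ g ↦ c
      set σ : (alternatingGroup α) := ⟨Equiv.swap c e * Equiv.swap e g, hdt c e e g hce heg⟩
      set f' := (fun x => v (σ⁻¹ • x)) - v with hf'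
      have hf'W : f' ∈ W.toSubmodule := W.toSubmodule.sub_mem (hWg σ v hvW) hvW
      have hf'x : ∀ x, f' x = v (Equiv.swap e g (Equiv.swap c e x)) - v x := fun x => by
        show v ((Equiv.swap c e * Equiv.swap e g)⁻¹ x) - v x = _
        rw [mul_inv_rev, Equiv.swap_inv, Equiv.swap_inv]; rfl
      have hfc : f' c = -w := by
        rw [hf'x, Equiv.swap_apply_left, Equiv.swap_apply_left, hvg, hvc]; ring
      have hfe : f' e = 2 * w := by
        rw [hf'x, Equiv.swap_apply_right, Equiv.swap_apply_of_ne_of_ne hce hcg, hvc, hve]; ring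
      have hfg : f' g = -w := by
        rw [hf'x, Equiv.swap_apply_of_ne_of_ne hcg.symm heg.symm, Equiv.swap_apply_right, hve, hvg]
        ring
      have hfa : f' a = 0 := by
        rw [hf'x, Equiv.swap_apply_of_ne_of_ne hc.1.symm he.1.symm,
          Equiv.swap_apply_of_ne_of_ne he.1.symm hg.1.symm, sub_self]
      have hfb : f' b = 0 := by
        rw [hf'x, Equiv.swap_apply_of_ne_of_ne hc.2.symm he.2.symm,
          Equiv.swap_apply_of_ne_of_ne he.2.symm hg.2.symm, sub_self]
      by_cases h3 : (3 : K) * w = 0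
      · refine ⟨c, a, hc.1, hL1 f' hf'W c a e g hc.1 heg hce hcg he.1.symm hg.1.symm ?_ ?_⟩
        · rw [hfc, hfa]; exact neg_ne_zero.2 hw0
        · rw [hfe, hfg]; linear_combination h3
      · refine ⟨c, e, hce, hL1 f' hf'W c e a b hce hab hc.1 hc.2 he.1 he.2 ?_ ?_⟩
        · rw [hfc, hfe]; intro h; exact h3 (by linear_combination -h)
        · rw [hfa, hfb]
    obtain ⟨x₀, y₀, hxy, hd₀⟩ := hpair
    have hall : ∀ x y : α, d x y ∈ W.toSubmodule := by
      intro x y
      rcases eq_or_ne x y with rfl | hne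
      · simp [d]
      haveI := alternatingGroup.isMultiplyPretransitive α
      have h2 : MulAction.IsMultiplyPretransitive (alternatingGroup α) α 2 :=
        MulAction.isMultiplyPretransitive_of_le (n := Nat.card α - 2)
          (by rw [Nat.card_eq_fintype_card]; omega) (Nat.sub_le _ _)
      obtain ⟨g, hgx, hgy⟩ := (MulAction.is_two_pretransitive_iff.1 h2) hxy hne
      have h := W.apply_mem_toSubmodule g hd₀
      simp only [d, map_sub, PermModules.permRep_single, hgx, hgy] at h
      exact h
    have hsz : ∀ g : α → K, ∑ x, g x = 0 → g ∈ W.toSubmodule := by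
      intro g hg
      obtain ⟨z⟩ : Nonempty α := Fintype.card_pos_iff.1 (by omega)
      have heq : g = ∑ x, g x • d x z := by
        funext y
        simp only [Finset.sum_apply, Pi.smul_apply, smul_eq_mul, d, Pi.sub_apply, mul_sub,
          Finset.sum_sub_distrib, ← Finset.sum_mul, hg, zero_mul, sub_zero]
        simp [Pi.single_apply]
      rw [heq]
      exact W.toSubmodule.sum_mem fun x _ => W.toSubmodule.smul_mem _ (hall x z)
    by_cases hsum : ∀ g ∈ W.toSubmodule, ∑ x, g x = 0
    · exact Or.inr (Or.inr (Or.inl (Subrepresentation.ext (le_antisymm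
        (fun g hg => PermModules.mem_permSumZero.2 (hsum g hg))
        (fun g hg => hsz g (PermModules.mem_permSumZero.1 hg))))))
    simp only [not_forall] at hsum
    obtain ⟨g, hg, hgs⟩ := hsum
    refine Or.inr (Or.inr (Or.inr (Submodule.eq_top_iff'.2 fun h => ?_)))
    have h' := hsz (h - ((∑ x, h x) * (∑ x, g x)⁻¹) • g) (by
      simp only [Pi.sub_apply, Pi.smul_apply, smul_eq_mul, Finset.sum_sub_distrib, ← Finset.mul_sum]
      rw [mul_assoc, inv_mul_cancel₀ hgs, mul_one, sub_self])
    have := W.toSubmodule.add_mem h' (W.toSubmodule.smul_mem ((∑ x, h x) * (∑ x, g x)⁻¹) hg)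
    rwa [sub_add_cancel] at this

end Cfsg.Agent.S0714
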