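import Cfsg.Statements.S0716
import Cfsg.Agent.Lib.Perm.CharPerm
-- import your own Cfsg.Agent.* helpers here

set_option autoImplicit false
set_option linter.style.haveILetI false
open Cfsg

namespace Cfsg.Agent.S0716

/-- (a) If all non-principal irreducible constituents of the permutation character of a transitive group have the same degree `f`, the character is multiplicity-free and all non-trivial subdegrees equal `f`. (b) A transitive group of rank at most 5 has multiplicity-free permutation character. -/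
theorem result {G : Type*} [Group G] [Fintype G] {Ω : Type*} [Fintype Ω] [MulAction G Ω] [MulAction.IsPretransitive G Ω] (a : Ω) : ((f : ℕ) → (∀ χ : G → ℂ, Cfsg.IsIrrCharacter G χ → χ ≠ (fun _ => 1) → Cfsg.classInner (fun g : G => (Nat.card (MulAction.fixedBy Ω g) : ℂ)) χ ≠ 0 → χ 1 = f) → (∀ χ : G → ℂ, Cfsg.IsIrrCharacter G χ → Cfsg.classInner (fun g : G => (Nat.card (MulAction.fixedBy Ω g) : ℂ)) χ = 0 ∨ Cfsg.classInner (fun g : G => (Nat.card (MulAction.fixedBy Ω g) : ℂ)) χ = 1) ∧ ∀ b : Ω, b ≠ a → Nat.card (MulAction.orbit (MulAction.stabilizer G a) b) = f) ∧ (Nat.card (MulAction.orbitRel.Quotient (MulAction.stabilizer G a) Ω) ≤ 5 → ∀ χ : G → ℂ, Cfsg.IsIrrCharacter G χ → Cfsg.classInner (fun g : G => (Nat.card (MulAction.fixedBy Ω g) : ℂ)) χ = 0 ∨ Cfsg.classInner (fun g : G => (Nat.card (MulAction.fixedBy Ω g) : ℂ)) χ = 1) := by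
  open Cfsg.Agent in
  refine ⟨fun f hf => CharPerm.multiplicity_free_and_subdegrees a f hf, fun hr χ hχ => ?_⟩
  classical
  obtain ⟨m, _, hmi, hp, hdeg, hsq⟩ := Cfsg.Agent.CharPerm.constituent_data (G := G) a
  set ψ : Cfsg.IrrCharacter G := ⟨χ, hχ⟩
  have hψv : Cfsg.classInner (fun g : G => (Nat.card (MulAction.fixedBy Ω g) : ℂ)) χ = (m ψ : ℂ) := hmi ψ
  by_cases hle : m ψ ≤ 1
  · rcases Nat.le_one_iff_eq_zero_or_eq_one.1 hle with h | h
    · left; rw [hψv, h, Nat.cast_zero]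
    · right; rw [hψv, h, Nat.cast_one]
  have hne : ψ ≠ Cfsg.Agent.Char.principal G := fun h => hle (by rw [h, hp])
  have hmem : ψ ∈ Finset.univ.erase (Cfsg.Agent.Char.principal G) :=
    Finset.mem_erase.2 ⟨hne, Finset.mem_univ _⟩
  rw [← Finset.add_sum_erase _ _ hmem] at hsq
  have hm2 : 2 * 2 ≤ m ψ * m ψ := Nat.mul_le_mul (by omega) (by omega)
  have hzero : ∀ θ ∈ (Finset.univ.erase (Cfsg.Agent.Char.principal G)).erase ψ, m θ = 0 := by
    intro θ hθ
    have hle' := Finset.single_le_sum (f := fun θ => m θ * m θ) (fun _ _ => Nat.zero_le _) hθ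
    try simp only at hle'
    have : m θ * m θ = 0 := by omega
    exact mul_self_eq_zero.1 this
  obtain ⟨d, hd, hd'⟩ := Cfsg.Agent.Char.IsIrrCharacter.exists_degree hχ
  refine (Cfsg.Agent.CharPerm.multiplicity_free_and_subdegrees a d fun θ hθ hθ1 hθ0 => ?_).1 χ hχ
  by_cases hθψ : θ = χ
  · rw [hθψ, hd']
  · exfalso
    apply hθ0
    have h0 := hzero ⟨θ, hθ⟩ (Finset.mem_erase.2 ⟨fun h => hθψ (congrArg Subtype.val h),
      Finset.mem_erase.2 ⟨fun h => hθ1 (congrArg Subtype.val h), Finset.mem_univ _⟩⟩)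
    rw [show Cfsg.classInner (Cfsg.Agent.CharPerm.permChar G Ω) θ = (m ⟨θ, hθ⟩ : ℂ) from hmi ⟨θ, hθ⟩,
      h0, Nat.cast_zero]

end Cfsg.Agent.S0716
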