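import Cfsg.Statements.S0718
import Cfsg.Agent.Lib.Perm.CharPerm
-- import your own Cfsg.Agent.* helpers here

set_option autoImplicit false
set_option linter.style.haveILetI false
open Cfsg

namespace Cfsg.Agent.S0718

/-- Multiplicity-freeness of the permutation character is equivalent to commutativity of the centraliser ring, i.e. of the algebra of `G`-equivariant endomorphisms of the complex permutation module. -/
theorem result {G : Type*} [Group G] [Fintype G] {Ω : Type*} [Fintype Ω] [MulAction G Ω] : (∀ χ : G → ℂ, Cfsg.IsIrrCharacter G χ → Cfsg.classInner (fun g : G => (Nat.card (MulAction.fixedBy Ω g) : ℂ)) χ = 0 ∨ Cfsg.classInner (fun g : G => (Nat.card (MulAction.fixedBy Ω g) : ℂ)) χ = 1) ↔ ∀ S T : (Ω → ℂ) →ₗ[ℂ] (Ω → ℂ), S ∈ ((Cfsg.permRep ℂ G Ω).linHom (Cfsg.permRep ℂ G Ω)).invariants → T ∈ ((Cfsg.permRep ℂ G Ω).linHom (Cfsg.permRep ℂ G Ω)).invariants → S ∘ₗ T = T ∘ₗ S := by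
  constructor
  · intro h S T hS hT
    have eqv : ∀ S : (Ω → ℂ) →ₗ[ℂ] (Ω → ℂ),
        S ∈ ((Cfsg.permRep ℂ G Ω).linHom (Cfsg.permRep ℂ G Ω)).invariants →
        CharPerm.Equivariant (Cfsg.permRep ℂ G Ω) (Cfsg.permRep ℂ G Ω) S := CharPerm.equivariant_of_mem_invariants
    refine CharPerm.ext_irr (Cfsg.permRep ℂ G Ω) _ _ fun U _ _ _ τ _ e he he0 => ?_
    have h1 : Cfsg.classInner (Cfsg.permRep ℂ G Ω).character τ.character = 0 ∨
        Cfsg.classInner (Cfsg.permRep ℂ G Ω).character τ.character = 1 := by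
      rw [CharPerm.char_permRep]
      exact h _ (Char.isIrrCharacter_of_rep τ)
    obtain ⟨c, hc⟩ := CharPerm.exists_smul_of_classInner_le_one τ _ h1 he he0 (e' := S ∘ₗ e)
      (fun g x => by simp only [LinearMap.comp_apply]; rw [he g x, eqv S hS])
    obtain ⟨d, hd⟩ := CharPerm.exists_smul_of_classInner_le_one τ _ h1 he he0 (e' := T ∘ₗ e)
      (fun g x => by simp only [LinearMap.comp_apply]; rw [he g x, eqv T hT])
    rw [LinearMap.comp_assoc, LinearMap.comp_assoc, hd, hc, LinearMap.comp_smul, LinearMap.comp_smul,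
      hc, hd, smul_comm]
  · intro h χ hχ
    exact CharPerm.multiplicity_free_of_commute h χ hχ

end Cfsg.Agent.S0718
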