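import Cfsg.Statements.S0719
import Cfsg.Agent.Lib.Perm.CharPerm
import Mathlib.GroupTheory.GroupAction.Primitive
import Mathlib.LinearAlgebra.Trace
-- import your own Cfsg.Agent.* helpers here

set_option autoImplicit false
set_option linter.style.haveILetI false
open Cfsg

namespace Cfsg.Agent.S0719


open Cfsg.Agent.CharPerm Cfsg.Agent.Char

theorem no_nonneg (m k : ℕ) (C : ℤ) (hk : 2 ≤ k) (hm : 2 ≤ m) (hC : 0 ≤ C)
    (h : 2 * (m : ℤ) * k = k ^ 2 + (m - 1) * (k + m * C) ^ 2 + m * (C - k - m * C) ^ 2) : False := by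
  have h1 : (k : ℤ) ^ 2 ≤ (k + m * C) ^ 2 := pow_le_pow_left₀ (by positivity) (le_add_of_nonneg_right (by positivity)) 2
  have h2 : (k : ℤ) ^ 2 ≤ (k + (m - 1) * C) ^ 2 :=
    pow_le_pow_left₀ (by positivity) (le_add_of_nonneg_right (mul_nonneg (by omega) hC)) 2
  have h3 : (2 * m * (k : ℤ)) * 2 ≤ (2 * m * k) * k := mul_le_mul_of_nonneg_left (by omega) (by positivity)
  have h4 : (0 : ℤ) < 2 * m * k := by positivity
  nlinarith [mul_le_mul_of_nonneg_left h1 (show (0 : ℤ) ≤ m - 1 by omega), mul_le_mul_of_nonneg_left h2 (show (0 : ℤ) ≤ m by omega)]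

theorem arith (m k l lam mu : ℕ) (r s : ℂ) (hk : 2 ≤ k) (hl : 2 ≤ l) (hkl : k + l = 2 * m - 1)
    (h1 : (0 : ℂ) = k + ((m : ℂ) - 1) * r + m * s)
    (h2 : ((2 * m * k : ℕ) : ℂ) = k * k + ((m : ℂ) - 1) * (r * r) + m * (s * s))
    (hr : r * r = ((k : ℂ) - mu) + ((lam : ℂ) - mu) * r) (hs : s * s = ((k : ℂ) - mu) + ((lam : ℂ) - mu) * s) :
    ∃ t : ℤ, (m : ℤ) = 2 * t ^ 2 + 2 * t + 1 ∧ (k : ℤ) = t * (2 * t + 1) := by
  have hm : 2 ≤ m := by omega
  by_cases hrs : r = s
  · exfalso
    subst hrs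
    have h3 : ((2 * m * (k * k) : ℕ) : ℂ) = ((2 * m * (k * (2 * m - 1)) : ℕ) : ℂ) := by
      push_cast [Nat.cast_sub (show 1 ≤ 2 * m by omega)] at h2 ⊢
      linear_combination -(2 * (m : ℂ) - 1) * h2 - ((k : ℂ) - (2 * (m : ℂ) - 1) * r) * h1
    rw [Nat.cast_inj] at h3
    have h4 := Nat.eq_of_mul_eq_mul_left (by omega) (Nat.eq_of_mul_eq_mul_left (by omega) h3)
    omega
  set C : ℤ := (lam : ℤ) - mu with hC
  have hsum : r + s = (C : ℂ) := by
    have : (r - s) * (r + s - C) = 0 := by rw [hC]; push_cast; linear_combination hr - hs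
    exact sub_eq_zero.1 ((mul_eq_zero.1 this).resolve_left (sub_ne_zero.2 hrs))
  have hrv : r = ((k + m * C : ℤ) : ℂ) := by push_cast; linear_combination h1 + (m : ℂ) * hsum
  have hsv : s = ((C - k - m * C : ℤ) : ℂ) := by push_cast at hrv ⊢; linear_combination hsum - hrv
  have hZ : 2 * (m : ℤ) * k = k ^ 2 + (m - 1) * (k + m * C) ^ 2 + m * (C - k - m * C) ^ 2 := by
    rw [hrv, hsv] at h2
    have h5 : ((2 * (m : ℤ) * k : ℤ) : ℂ) = ((k ^ 2 + (m - 1) * (k + m * C) ^ 2 + m * (C - k - m * C) ^ 2 : ℤ) : ℂ) := by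
      push_cast at h2 ⊢; linear_combination h2
    exact_mod_cast h5
  have hlz : (l : ℤ) = 2 * m - 1 - k := by omega
  have hC1 : C = -1 := by
    by_contra hne
    rcases le_or_gt 0 C with h | h
    · exact no_nonneg m k C hk hm h hZ
    · refine no_nonneg m l (-2 - C) hl hm (by omega) ?_
      rw [hlz]
      linear_combination hZ
  rw [hC1] at hZ
  have hmm : (m : ℤ) = 2 * ((m : ℤ) - 1 - k) ^ 2 + 2 * ((m : ℤ) - 1 - k) + 1 := by
    refine mul_left_cancel₀ (show (m : ℤ) ≠ 0 by omega) ?_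
    linear_combination hZ
  exact ⟨(m : ℤ) - 1 - k, hmm, by linear_combination hmm⟩

theorem trace_data {G : Type*} [Group G] [Fintype G] {Ω : Type*} [Fintype Ω] [MulAction G Ω]
    [MulAction.IsPretransitive G Ω] (a₀ : Ω) {χ₁ χ₂ : G → ℂ}
    (h₁ : Cfsg.IsIrrCharacter G χ₁) (h₂ : Cfsg.IsIrrCharacter G χ₂)
    (hπ : permChar G Ω = fun g => 1 + χ₁ g + χ₂ g) (hne : χ₁ ≠ χ₂) :
    ∃ c : ((Ω → ℂ) →ₗ[ℂ] (Ω → ℂ)) → Fin 3 → ℂ, ∀ T, Equivariant (Cfsg.permRep ℂ G Ω) (Cfsg.permRep ℂ G Ω) T →
      LinearMap.trace ℂ (Ω → ℂ) T = c T 0 + χ₁ 1 * c T 1 + χ₂ 1 * c T 2 ∧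
      (∀ v : Ω → ℂ, (∀ x, v x = 1) → T v = c T 0 • v) ∧
      (∀ S, Equivariant (Cfsg.permRep ℂ G Ω) (Cfsg.permRep ℂ G Ω) S → ∀ i, c (T ∘ₗ S) i = c T i * c S i) ∧
      ∀ S, Equivariant (Cfsg.permRep ℂ G Ω) (Cfsg.permRep ℂ G Ω) S → ∀ α β γ : ℂ,
        T ∘ₗ T = α • LinearMap.id + β • T + γ • S → ∀ i, c T i * c T i = α + β * c T i + γ * c S i := by
  classical
  haveI : Nonempty Ω := ⟨a₀⟩
  set π := Cfsg.permRep ℂ G Ω with hπdef
  have hone : Cfsg.IsIrrCharacter G (fun _ => (1 : ℂ)) := isIrrCharacter_one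
  let χ : Fin 3 → (G → ℂ) := ![fun _ => 1, χ₁, χ₂]
  have hsum : π.character = χ 0 + χ 1 + χ 2 := by rw [hπdef, char_permRep, hπ]; rfl
  have hx1 : χ₁ ≠ fun _ => 1 := by
    intro h
    have h1 := classInner_permChar_one (G := G) (Ω := Ω)
    rw [← char_permRep, ← hπdef, hsum, classInner_add_left, classInner_add_left] at h1
    simp only [χ, Matrix.cons_val] at h1
    rw [classInner_self_irr hone, h, classInner_self_irr hone,
      classInner_irr_of_ne h₂ hone (fun e => hne (h.trans e.symm))] at h1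
    norm_num at h1
  have hx2 : χ₂ ≠ fun _ => 1 := by
    intro h
    have h1 := classInner_permChar_one (G := G) (Ω := Ω)
    rw [← char_permRep, ← hπdef, hsum, classInner_add_left, classInner_add_left] at h1
    simp only [χ, Matrix.cons_val] at h1
    rw [classInner_self_irr hone, h, classInner_self_irr hone, classInner_irr_of_ne h₁ hone hx1] at h1
    norm_num at h1
  have hinj : Function.Injective χ := by
    intro i j h
    fin_cases i <;> fin_cases j <;> simp only [χ, Matrix.cons_val, Fin.reduceFinMk, Fin.zero_eta] at h ⊢ <;>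
      first
        | rfl
        | exact absurd h hne
        | exact absurd h hne.symm
        | exact absurd h hx1
        | exact absurd h.symm hx1
        | exact absurd h hx2
        | exact absurd h.symm hx2
  have hirr : ∀ i, Cfsg.IsIrrCharacter G (χ i) := by
    intro i
    fin_cases i
    · exact hone
    · exact h₁
    · exact h₂
  have hcoef : ∀ ψ, Cfsg.IsIrrCharacter G ψ → Cfsg.classInner π.character ψ =
      if ∃ i, ψ = χ i then 1 else 0 := by
    intro ψ hψ
    rw [hsum, classInner_add_left, classInner_add_left]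
    split_ifs with h
    · obtain ⟨i, rfl⟩ := h
      rw [classInner_irr (hirr 0) hψ, classInner_irr (hirr 1) hψ, classInner_irr (hirr 2) hψ]
      simp only [hinj.eq_iff]
      fin_cases i <;> simp
    · push Not at h
      rw [classInner_irr_of_ne (hirr 0) hψ (h 0).symm, classInner_irr_of_ne (hirr 1) hψ (h 1).symm,
        classInner_irr_of_ne (hirr 2) hψ (h 2).symm]
      simp
  have hex : ∀ i, ∃ (n : ℕ) (τ : Representation ℂ G (Fin n → ℂ)) (e : (Fin n → ℂ) →ₗ[ℂ] (Ω → ℂ))
      (p : (Ω → ℂ) →ₗ[ℂ] (Fin n → ℂ)), τ.IsIrreducible ∧ τ.character = χ i ∧ Equivariant τ π e ∧ e ≠ 0 ∧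
        Equivariant π τ p ∧ ∀ x, p (e x) = x := by
    intro i
    obtain ⟨n, τ, hτ, hτc⟩ := hirr i
    have h1 : Cfsg.classInner π.character τ.character ≠ 0 := by
      rw [hτc, hcoef _ (hirr i), if_pos ⟨i, rfl⟩]
      exact one_ne_zero
    obtain ⟨e, he, he0⟩ := exists_ne_zero_of_classInner τ π h1
    haveI := hτ
    obtain ⟨p, hp, hpe⟩ := exists_leftInverse τ π he (injective_of_equivariant τ π he he0)
    exact ⟨n, τ, e, p, hτ, hτc, he, he0, hp, hpe⟩
  choose n τ e p hτ hτc he he0 hp hpe using hex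
  have hle : ∀ i, Cfsg.classInner π.character (τ i).character = 0 ∨
      Cfsg.classInner π.character (τ i).character = 1 := fun i => by
    rw [hτc, hcoef _ (hirr i), if_pos ⟨i, rfl⟩]
    exact Or.inr rfl
  have hscal : ∀ (T : (Ω → ℂ) →ₗ[ℂ] (Ω → ℂ)) (i : Fin 3), ∃ c : ℂ,
      Equivariant π π T → T ∘ₗ e i = c • e i := by
    intro T i
    by_cases hT : Equivariant π π T
    · obtain ⟨c, hc⟩ := exists_smul_of_classInner_le_one (τ i) π (hle i) (he i) (he0 i) (e' := T ∘ₗ e i)
        (fun g x => by simp only [LinearMap.comp_apply]; rw [he i g x, hT g])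
      exact ⟨c, fun _ => hc⟩
    · exact ⟨0, fun h => absurd h hT⟩
  choose c hc using hscal
  have hpij : ∀ i j, i ≠ j → p i ∘ₗ e j = 0 := by
    intro i j hij
    by_contra h0
    have h1 := classInner_ne_zero_of_equivariant (τ j) (τ i) (e := p i ∘ₗ e j)
      (fun g x => by simp only [LinearMap.comp_apply]; rw [he j g x, hp i g]) h0
    rw [hτc, hτc, classInner_irr_of_ne (hirr i) (hirr j) (fun h => hij (hinj h))] at h1
    exact h1 rfl
  have hexp : ∀ T, Equivariant π π T → T = ∑ i, c T i • (e i ∘ₗ p i) := by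
    intro T hT
    refine ext_irr π _ _ fun U _ _ _ σ _ f hf hf0 => ?_
    have h1 := classInner_ne_zero_of_equivariant σ π hf hf0
    rw [hcoef _ (isIrrCharacter_of_rep σ)] at h1
    split_ifs at h1 with hj
    swap
    · exact absurd rfl h1
    obtain ⟨j, hj⟩ := hj
    obtain ⟨φ⟩ := nonempty_equiv_of_char_eq σ (τ j) (hj.trans (hτc j).symm)
    have heq : Equivariant σ π (e j ∘ₗ φ.toLinearEquiv.toLinearMap) := fun g x => by
      show e j (φ.toLinearEquiv (σ g x)) = _
      rw [show φ.toLinearEquiv (σ g x) = τ j g (φ.toLinearEquiv x) from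
        φ.toIntertwiningMap.isIntertwining σ (τ j) g x, he j g]
      rfl
    have hne0 : e j ∘ₗ φ.toLinearEquiv.toLinearMap ≠ 0 := fun h0 => he0 j (LinearMap.ext fun y => by
      obtain ⟨x, rfl⟩ := φ.toLinearEquiv.surjective y
      exact LinearMap.congr_fun h0 x)
    have hσle : Cfsg.classInner π.character σ.character = 0 ∨ Cfsg.classInner π.character σ.character = 1 := by
      rw [hj, ← hτc]; exact hle j
    obtain ⟨s, hs⟩ := exists_smul_of_classInner_le_one σ π hσle heq hne0 hf
    rw [hs]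
    refine LinearMap.ext fun x => ?_
    simp only [LinearMap.comp_apply, LinearMap.smul_apply, map_smul, LinearMap.sum_apply,
      LinearEquiv.coe_coe]
    congr 1
    rw [Finset.sum_eq_single j (fun i _ hij => by
      rw [show p i (e j (φ.toLinearEquiv.toLinearMap x)) = 0 from LinearMap.congr_fun (hpij i j hij) _]; simp)
      (fun h => absurd (Finset.mem_univ j) h), hpe]
    exact LinearMap.congr_fun (hc T j hT) _
  refine ⟨c, fun T hT => ⟨?_, ?_, fun S hS i => ?_, fun S hS α β γ hTT i => ?_⟩⟩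
  · conv_lhs => rw [hexp T hT]
    simp only [map_sum, map_smul, smul_eq_mul]
    have htr : ∀ i, LinearMap.trace ℂ (Ω → ℂ) (e i ∘ₗ p i) = χ i 1 := by
      intro i
      rw [LinearMap.trace_comp_comm', show p i ∘ₗ e i = LinearMap.id from LinearMap.ext (hpe i),
        LinearMap.trace_id, ← hτc, Representation.char_one]
    rw [Fin.sum_univ_three, htr, htr, htr]
    simp only [χ, Matrix.cons_val]
    ring
  · intro v hv
    have hfix : ∀ (g : G) (y : Fin (n 0) → ℂ), τ 0 g y = y := by
      intro g y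
      obtain ⟨M, hM1, -, hM3, hM4⟩ := exists_eigenvalues (τ 0) g
      have hd : ((Module.finrank ℂ (Fin (n 0) → ℂ) : ℕ) : ℂ) = 1 := by
        rw [← Representation.char_one (τ 0), hτc]; rfl
      have h3 := hM3 1
      rw [pow_one, hτc, Multiset.map_congr rfl fun z _ => pow_one z, Multiset.map_id'] at h3
      rw [Nat.cast_eq_one] at hd
      rw [hd, Multiset.card_eq_one] at hM1
      obtain ⟨z, rfl⟩ := hM1
      rw [Multiset.sum_singleton] at h3
      rw [hM4 1 fun w hw => (Multiset.mem_singleton.1 hw).trans h3.symm]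
      simp
    obtain ⟨u, hu⟩ : ∃ u, e 0 u ≠ 0 := by
      by_contra hno
      push Not at hno
      exact he0 0 (LinearMap.ext hno)
    obtain ⟨y, hy⟩ := Function.ne_iff.1 hu
    have hw : e 0 u = e 0 u y • v := funext fun z => by
      rw [Pi.smul_apply, hv, smul_eq_mul, mul_one]
      exact PermModules.constant_of_fixed (G := G) (fun g => by rw [← he 0 g, hfix]) y z
    have h2 : T (e 0 u) = c T 0 • e 0 u := LinearMap.congr_fun (hc T 0 hT) u
    rw [hw, map_smul, smul_comm] at h2
    exact smul_right_injective _ hy h2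
  · have h1 := hc (T ∘ₗ S) i (fun g x => by simp only [LinearMap.comp_apply]; rw [hS g x, hT g])
    rw [LinearMap.comp_assoc, hc S i hS, LinearMap.comp_smul, hc T i hT, smul_smul] at h1
    exact (smul_left_injective ℂ (he0 i) h1).symm.trans (mul_comm _ _)
  · have h1 := congrArg (fun R => R ∘ₗ e i) hTT
    simp only [LinearMap.comp_assoc, hc T i hT, LinearMap.comp_smul, LinearMap.add_comp, LinearMap.smul_comp,
      LinearMap.id_comp, hc S i hS, smul_smul, ← add_smul] at h1
    exact smul_left_injective ℂ (he0 i) h1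


set_option maxHeartbeats 1000000 in
/-- Groups of Wielandt type: if a primitive group of degree `2m` has rank 3 and permutation character `1 + χ₁ + χ₂` with irreducible `χ₁, χ₂` of degrees `m - 1` and `m`, then `m = 2a² + 2a + 1` for some positive integer `a` and the two non-trivial subdegrees are `a(2a+1)` and `(a+1)(2a+1)`. -/
theorem result {G : Type*} [Group G] [Fintype G] {Ω : Type*} [Fintype Ω] [MulAction G Ω] (hprim : MulAction.IsPreprimitive G Ω) {m : ℕ} (hm : Fintype.card Ω = 2 * m) (a₀ : Ω) (hrank : Nat.card (MulAction.orbitRel.Quotient (MulAction.stabilizer G a₀) Ω) = 3) (χ₁ χ₂ : G → ℂ) (h₁ : Cfsg.IsIrrCharacter G χ₁) (h₂ : Cfsg.IsIrrCharacter G χ₂) (hπ : (fun g : G => (Nat.card (MulAction.fixedBy Ω g) : ℂ)) = fun g => 1 + χ₁ g + χ₂ g) (hd₁ : χ₁ 1 = (m : ℂ) - 1) (hd₂ : χ₂ 1 = m) : ∃ a : ℕ, 0 < a ∧ m = 2 * a ^ 2 + 2 * a + 1 ∧ ∀ b : Ω, b ≠ a₀ → Nat.card (MulAction.orbit (MulAction.stabilizer G a₀) b) = a * (2 * a + 1) ∨ Nat.card (MulAction.orbit (MulAction.stabilizer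 G a₀) b) = (a + 1) * (2 * a + 1) := by
  classical
  haveI := hprim.toIsPretransitive
  have hπ' : CharPerm.permChar G Ω = fun g => 1 + χ₁ g + χ₂ g := hπ
  have hne : χ₁ ≠ χ₂ := fun h => by
    rw [h, hd₂] at hd₁
    exact one_ne_zero (by linear_combination hd₁ : (1 : ℂ) = 0)
  obtain ⟨c, hc⟩ := trace_data a₀ h₁ h₂ hπ' hne
  have hm2 : 2 ≤ m := by
    obtain ⟨d, hd, hd'⟩ := Char.IsIrrCharacter.exists_degree h₁
    rw [hd₁, sub_eq_iff_eq_add] at hd'
    have : m = d + 1 := by exact_mod_cast hd'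
    omega
  haveI : Nonempty Ω := ⟨a₀⟩
  have horb2 : ∀ b : Ω, b ≠ a₀ → 2 ≤ Nat.card (MulAction.orbit (MulAction.stabilizer G a₀) b) := by
    intro b hb
    by_contra hlt
    haveI : Subsingleton (MulAction.orbit (MulAction.stabilizer G a₀) b) :=
      Finite.card_le_one_iff_subsingleton.1 (by omega)
    have hle : MulAction.stabilizer G a₀ ≤ MulAction.stabilizer G b := fun g hg =>
      (congrArg Subtype.val (Subsingleton.elim (⟨g • b, ⟨g, hg⟩, rfl⟩ : MulAction.orbit (MulAction.stabilizer G a₀) b) ⟨b, MulAction.mem_orbit_self b⟩) :)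
    haveI : Nontrivial Ω := ⟨⟨b, a₀, hb⟩⟩
    have hmax := (MulAction.isCoatom_stabilizer_iff_preprimitive G a₀).2 hprim
    have hne' : MulAction.stabilizer G b ≠ ⊤ := fun h => by
      obtain ⟨g, hg⟩ := MulAction.exists_smul_eq G b a₀
      exact hb ((show g • b = b from (h ▸ Subgroup.mem_top g : g ∈ MulAction.stabilizer G b)).symm.trans hg)
    have heq : MulAction.stabilizer G b = MulAction.stabilizer G a₀ :=
      (hle.eq_or_lt.resolve_right fun hlt' => hne' (hmax.2 _ hlt')).symm
    obtain ⟨g, hg⟩ := MulAction.exists_smul_eq G a₀ b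
    have hgN : g ∈ Subgroup.normalizer (MulAction.stabilizer G a₀ : Set G) := by
      refine Subgroup.mem_normalizer_iff_map_conj_eq.2 ?_
      refine (MulAction.stabilizer_smul_eq_stabilizer_map_conj g a₀).symm.trans ?_
      rw [hg, heq]
    have hN : Subgroup.normalizer (MulAction.stabilizer G a₀ : Set G) = ⊤ :=
      (Subgroup.le_normalizer.eq_or_lt.resolve_left fun h => hb (hg.symm.trans (h ▸ hgN : g ∈ MulAction.stabilizer G a₀))) |> hmax.2 _
    have hfix : ∀ z : Ω, ∀ h : MulAction.stabilizer G a₀, (h : G) • z = z := fun z h => by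
      obtain ⟨u, rfl⟩ := MulAction.exists_smul_eq G a₀ z
      have h1 : u⁻¹ * h * u ∈ MulAction.stabilizer G a₀ := by
        have := (Subgroup.mem_normalizer_iff.1 (hN ▸ Subgroup.mem_top u⁻¹ : u⁻¹ ∈ Subgroup.normalizer (MulAction.stabilizer G a₀ : Set G)) h).1 h.2
        rwa [inv_inv] at this
      calc (h : G) • u • a₀ = u • (u⁻¹ * h * u) • a₀ := by rw [← mul_smul, ← mul_smul]; group
        _ = u • a₀ := by rw [show (u⁻¹ * (h : G) * u) • a₀ = a₀ from h1]
    have hbij : Function.Bijective (Quotient.mk'' : Ω → MulAction.orbitRel.Quotient (MulAction.stabilizer G a₀) Ω) :=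
      ⟨fun x y h => by obtain ⟨g, hg⟩ := Quotient.exact h; exact hg.symm.trans (hfix y g), Quotient.mk''_surjective⟩
    rw [← Nat.card_eq_of_bijective _ hbij, Nat.card_eq_fintype_card, hm] at hrank
    omega
  have key : ∀ b : Ω, b ≠ a₀ → ∃ s : ℤ, (m : ℤ) = 2 * s ^ 2 + 2 * s + 1 ∧
      (Nat.card (MulAction.orbit (MulAction.stabilizer G a₀) b) : ℤ) = s * (2 * s + 1) := by
    intro b hb
    letI : Fintype (MulAction.orbitRel.Quotient (MulAction.stabilizer G a₀) Ω) := Fintype.ofFinite _
    rw [Nat.card_eq_fintype_card] at hrank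
    obtain ⟨q', hq'⟩ := Finset.exists_mem_notMem_of_card_lt_card
      (s := {(Quotient.mk'' a₀ : MulAction.orbitRel.Quotient (MulAction.stabilizer G a₀) Ω), Quotient.mk'' b})
      (t := Finset.univ) (lt_of_le_of_lt Finset.card_le_two (by rw [Finset.card_univ, hrank]; norm_num))
    obtain ⟨b', rfl⟩ := Quotient.mk''_surjective q'
    simp only [Finset.mem_univ, true_and, Finset.mem_insert, Finset.mem_singleton, not_or] at hq'
    have hab : (Quotient.mk'' a₀ : MulAction.orbitRel.Quotient (MulAction.stabilizer G a₀) Ω) ≠ Quotient.mk'' b :=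
      fun h => hb (by
        obtain ⟨g, hg⟩ := Quotient.exact h.symm
        exact hg.symm.trans g.2)
    have hall : ∀ z : Ω, z = a₀ ∨ z ∈ MulAction.orbit (MulAction.stabilizer G a₀) b ∨
        z ∈ MulAction.orbit (MulAction.stabilizer G a₀) b' := by
      intro z
      let mq : Ω → MulAction.orbitRel.Quotient (MulAction.stabilizer G a₀) Ω := Quotient.mk''
      have hu : ({mq a₀, mq b, mq b'} : Finset (MulAction.orbitRel.Quotient (MulAction.stabilizer G a₀) Ω)) = Finset.univ := by
        refine Finset.eq_univ_of_card _ ?_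
        rw [hrank, Finset.card_insert_of_notMem (by simp [mq, hab, Ne.symm hq'.1]),
          Finset.card_pair (Ne.symm hq'.2)]
      have hz := hu.symm ▸ Finset.mem_univ (Quotient.mk'' z : MulAction.orbitRel.Quotient (MulAction.stabilizer G a₀) Ω)
      simp only [Finset.mem_insert, Finset.mem_singleton] at hz
      rcases hz with hz | hz | hz
      · obtain ⟨g, hg⟩ := Quotient.exact hz
        exact Or.inl (hg.symm.trans g.2)
      · exact Or.inr (Or.inl (Quotient.exact hz))
      · exact Or.inr (Or.inr (Quotient.exact hz))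
    have hb' : b' ≠ a₀ := fun h => hq'.1 (by rw [h])
    have hdisj : ∀ z, z ∈ MulAction.orbit (MulAction.stabilizer G a₀) b →
        z ∉ MulAction.orbit (MulAction.stabilizer G a₀) b' := fun z h1 h2 =>
      hq'.2 (Quotient.sound (show b' ∈ MulAction.orbit (MulAction.stabilizer G a₀) b by
        rw [← MulAction.orbit_eq_iff.2 h1, MulAction.orbit_eq_iff.2 h2]
        exact MulAction.mem_orbit_self b'))
    set O : Ω → Ω → Prop := fun x y => ∃ g : G, g • a₀ = x ∧ g • b = y with hO
    have hOinv : ∀ (g : G) (x y : Ω), O (g • x) (g • y) ↔ O x y := by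
      intro g x y
      refine ⟨fun ⟨h, h1, h2⟩ => ⟨g⁻¹ * h, ?_, ?_⟩, fun ⟨h, h1, h2⟩ => ⟨g * h, ?_, ?_⟩⟩
      · rw [mul_smul, h1, inv_smul_smul]
      · rw [mul_smul, h2, inv_smul_smul]
      · rw [mul_smul, h1]
      · rw [mul_smul, h2]
    have hO0 : ∀ z, O a₀ z ↔ z ∈ MulAction.orbit (MulAction.stabilizer G a₀) b := by
      intro z
      exact ⟨fun ⟨g, h1, h2⟩ => ⟨⟨g, h1⟩, h2⟩, fun ⟨g, hg⟩ => ⟨g, g.2, hg⟩⟩
    set k := Nat.card (MulAction.orbit (MulAction.stabilizer G a₀) b) with hk
    have hrow : ∀ x, (Finset.univ.filter fun y => O x y).card = k := by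
      intro x
      obtain ⟨g, rfl⟩ := MulAction.exists_smul_eq G a₀ x
      rw [hk, Nat.card_eq_fintype_card, ← Set.toFinset_card]
      refine Finset.card_bij (fun y _ => g⁻¹ • y) (fun y hy => ?_) (fun y _ z _ h => MulAction.injective g⁻¹ h)
        (fun z hz => ⟨g • z, ?_, inv_smul_smul g z⟩)
      · rw [Set.mem_toFinset, ← hO0, ← hOinv g, smul_inv_smul]
        exact (Finset.mem_filter.1 hy).2
      · rw [Finset.mem_filter, hOinv, hO0]
        exact ⟨Finset.mem_univ _, Set.mem_toFinset.1 hz⟩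
    have hirr' : ∀ x, ¬ O x x := fun x ⟨g, h1, h2⟩ => hb (MulAction.injective g (h2.trans h1.symm))
    -- the orbital is symmetric
    have hk1 : k + Nat.card (MulAction.orbit (MulAction.stabilizer G a₀) b') = 2 * m - 1 := by
      have hu : (Finset.univ : Finset Ω).erase a₀ = (MulAction.orbit (MulAction.stabilizer G a₀) b).toFinset ∪
          (MulAction.orbit (MulAction.stabilizer G a₀) b').toFinset := by
        ext z
        simp only [Finset.mem_erase, Finset.mem_univ, and_true, Finset.mem_union, Set.mem_toFinset]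
        refine ⟨fun h => (hall z).resolve_left h, ?_⟩
        rintro (⟨g, rfl⟩ | ⟨g, rfl⟩)
        · exact fun h => hb (MulAction.injective (g : G) (h.trans (g.2 : (g : G) • a₀ = a₀).symm))
        · exact fun h => hb' (MulAction.injective (g : G) (h.trans (g.2 : (g : G) • a₀ = a₀).symm))
      have h := congrArg Finset.card hu
      rw [Finset.card_erase_of_mem (Finset.mem_univ _), Finset.card_univ, hm,
        Finset.card_union_of_disjoint (Finset.disjoint_left.2 fun z h1 h2 =>
          hdisj z (Set.mem_toFinset.1 h1) (Set.mem_toFinset.1 h2)), Set.toFinset_card, Set.toFinset_card] at h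
      rw [hk, Nat.card_eq_fintype_card, Nat.card_eq_fintype_card]
      exact h.symm
    have hsym0 : O b a₀ := by
      by_contra hno
      obtain ⟨g, hg⟩ := MulAction.exists_smul_eq G b a₀
      have hrev : ∀ z, O z a₀ ↔ z ∈ MulAction.orbit (MulAction.stabilizer G a₀) (g • a₀) := by
        intro z
        refine ⟨fun ⟨h, h1, h2⟩ => ⟨⟨h * g⁻¹, ?_⟩, ?_⟩, fun ⟨h, hh⟩ => ⟨(h : G) * g, ?_, ?_⟩⟩
        · show (h * g⁻¹) • a₀ = a₀
          rw [mul_smul, ← hg, inv_smul_smul, h2, hg]
        · show (h * g⁻¹) • g • a₀ = z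
          rw [← mul_smul, inv_mul_cancel_right, h1]
        · rw [mul_smul]; exact hh
        · rw [mul_smul, hg]; exact h.2
      have horb : MulAction.orbit (MulAction.stabilizer G a₀) (g • a₀) = MulAction.orbit (MulAction.stabilizer G a₀) b' := by
        rcases hall (g • a₀) with h | h | h
        · exact absurd (MulAction.injective g (hg.trans h.symm)) hb
        · exact absurd ((hrev b).2 (by rw [MulAction.orbit_eq_iff.2 h]; exact MulAction.mem_orbit_self b)) hno
        · exact MulAction.orbit_eq_iff.2 h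
      have hcol : ∀ y, (Finset.univ.filter fun x => O x y).card = Nat.card (MulAction.orbit (MulAction.stabilizer G a₀) b') := by
        intro y
        obtain ⟨g', rfl⟩ := MulAction.exists_smul_eq G a₀ y
        rw [← horb, Nat.card_eq_fintype_card, ← Set.toFinset_card]
        refine Finset.card_bij (fun x _ => g'⁻¹ • x) (fun x hx => ?_) (fun y _ z _ h => MulAction.injective g'⁻¹ h)
          (fun z hz => ⟨g' • z, ?_, inv_smul_smul g' z⟩)
        · rw [Set.mem_toFinset, ← hrev, ← hOinv g', smul_inv_smul]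
          exact (Finset.mem_filter.1 hx).2
        · rw [Finset.mem_filter, hOinv, hrev]
          exact ⟨Finset.mem_univ _, Set.mem_toFinset.1 hz⟩
      have h := (Finset.sum_comm : ∑ x : Ω, ∑ y : Ω, (if O x y then 1 else 0 : ℕ) = ∑ y : Ω, ∑ x : Ω, (if O x y then 1 else 0 : ℕ))
      rw [Finset.sum_congr rfl fun x _ => (Finset.card_filter (fun y => O x y) Finset.univ).symm.trans (hrow x),
        Finset.sum_congr rfl fun y _ => (Finset.card_filter (fun x => O x y) Finset.univ).symm.trans (hcol y)] at h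
      simp only [Finset.sum_const, Finset.card_univ, smul_eq_mul, hm] at h
      have := Nat.eq_of_mul_eq_mul_left (by omega) h
      omega
    have hsym : ∀ x y, O x y → O y x := by
      rintro x y ⟨g, rfl, rfl⟩
      exact (hOinv g b a₀).2 hsym0
    -- the adjacency map
    let A : Matrix Ω Ω ℂ := Matrix.of fun x y => if O x y then 1 else 0
    let T : (Ω → ℂ) →ₗ[ℂ] (Ω → ℂ) := Matrix.toLin' A
    have hT : CharPerm.Equivariant (Cfsg.permRep ℂ G Ω) (Cfsg.permRep ℂ G Ω) T := by
      intro g v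
      funext x
      rw [PermModules.permRep_apply]
      simp only [T, Matrix.toLin'_apply, Matrix.mulVec, dotProduct]
      exact Fintype.sum_equiv (MulAction.toPerm g⁻¹) _ _ fun y => by
        simp only [A, Matrix.of_apply, PermModules.permRep_apply, MulAction.toPerm_apply, hOinv]
    have hId : CharPerm.Equivariant (Cfsg.permRep ℂ G Ω) (Cfsg.permRep ℂ G Ω) LinearMap.id := fun _ _ => rfl
    obtain ⟨htr, hone, hmul, hquad'⟩ := hc T hT
    have hT2 : CharPerm.Equivariant (Cfsg.permRep ℂ G Ω) (Cfsg.permRep ℂ G Ω) (T ∘ₗ T) := fun g v => by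
      simp only [LinearMap.comp_apply]; rw [hT g v, hT g]
    obtain ⟨htr2, -, -, -⟩ := hc _ hT2
    rw [hmul T hT, hmul T hT, hmul T hT] at htr2
    have e0 : c T 0 = k := by
      have h1 := congrFun (hone (fun _ => 1) fun _ => rfl) a₀
      rw [Pi.smul_apply, smul_eq_mul, mul_one] at h1
      rw [← h1, show T (fun _ => 1) a₀ = ∑ y, A a₀ y * 1 from rfl]
      simp only [A, Matrix.of_apply, mul_one]
      rw [← hrow a₀, Finset.card_filter, Nat.cast_sum]
      exact Finset.sum_congr rfl fun y _ => by split_ifs <;> simp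
    have etr : LinearMap.trace ℂ (Ω → ℂ) T = 0 := by
      rw [show T = Matrix.toLin' A from rfl, Matrix.trace_toLin'_eq]
      exact Finset.sum_eq_zero fun x _ => by simp [A, hirr' x]
    have etr2 : LinearMap.trace ℂ (Ω → ℂ) (T ∘ₗ T) = (2 * m * k : ℕ) := by
      rw [show T ∘ₗ T = Matrix.toLin' (A * A) from (Matrix.toLin'_mul A A).symm, Matrix.trace_toLin'_eq]
      simp only [Matrix.trace, Matrix.diag_apply, Matrix.mul_apply, A, Matrix.of_apply]
      rw [show (2 * m * k : ℕ) = ∑ x : Ω, (Finset.univ.filter fun y => O x y).card by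
        simp [hrow, hm], Nat.cast_sum]
      refine Finset.sum_congr rfl fun x _ => ?_
      rw [← Finset.sum_boole]
      refine Finset.sum_congr rfl fun y _ => ?_
      by_cases h : O x y
      · simp [h, hsym x y h]
      · simp [h]
    -- `A * A` lies in the span of `1`, `A`, `J`
    obtain ⟨lam, mu, hquad⟩ : ∃ lam mu : ℕ, ∀ x y, (Finset.univ.filter fun z => O x z ∧ O z y).card =
        if x = y then k else if O x y then lam else mu := by
      refine ⟨(Finset.univ.filter fun z => O a₀ z ∧ O z b).card, (Finset.univ.filter fun z => O a₀ z ∧ O z b').card,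
        fun x y => ?_⟩
      obtain ⟨g, rfl⟩ := MulAction.exists_smul_eq G a₀ x
      obtain ⟨z, rfl⟩ : ∃ z, g • z = y := ⟨g⁻¹ • y, smul_inv_smul g y⟩
      have htrans : ∀ w w', (∃ h : G, h • a₀ = a₀ ∧ h • w = w') →
          (Finset.univ.filter fun u => O (g • a₀) u ∧ O u (g • w')).card =
            (Finset.univ.filter fun u => O a₀ u ∧ O u w).card := by
        rintro w w' ⟨h, h1, h2⟩
        refine (Finset.card_bij (fun u _ => (g * h) • u) (fun u hu => ?_)
          (fun u _ v _ e => MulAction.injective (g * h) e) (fun u hu => ⟨(g * h)⁻¹ • u, ?_, smul_inv_smul _ u⟩)).symm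
        · rw [Finset.mem_filter] at hu ⊢
          rw [show g • a₀ = (g * h) • a₀ by rw [mul_smul, h1], show g • w' = (g * h) • w by rw [mul_smul, h2],
            hOinv, hOinv]
          exact ⟨Finset.mem_univ _, hu.2⟩
        · rw [Finset.mem_filter] at hu ⊢
          rw [show g • a₀ = (g * h) • a₀ by rw [mul_smul, h1], show g • w' = (g * h) • w by rw [mul_smul, h2],
            ← smul_inv_smul (g * h) u, hOinv, hOinv] at hu
          exact ⟨Finset.mem_univ _, hu.2⟩
      simp only [smul_left_cancel_iff, hOinv]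
      by_cases hz : a₀ = z
      · subst hz
        rw [if_pos rfl, htrans a₀ a₀ ⟨1, one_smul _ _, one_smul _ _⟩, ← hrow a₀]
        exact congrArg Finset.card (Finset.filter_congr fun u _ => ⟨And.left, fun h => ⟨h, hsym _ _ h⟩⟩)
      rw [if_neg hz]
      by_cases hz' : O a₀ z
      · rw [if_pos hz']
        obtain ⟨h, hh⟩ := (hO0 z).1 hz'
        exact htrans b z ⟨h, h.2, hh⟩
      · rw [if_neg hz']
        rcases hall z with h | h | ⟨h, hh⟩
        · exact absurd h.symm hz
        · exact absurd ((hO0 z).2 h) hz'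
        · exact htrans b' z ⟨h, h.2, hh⟩
    let JM : Matrix Ω Ω ℂ := Matrix.of fun _ _ => 1
    let J : (Ω → ℂ) →ₗ[ℂ] (Ω → ℂ) := Matrix.toLin' JM
    have hJ : CharPerm.Equivariant (Cfsg.permRep ℂ G Ω) (Cfsg.permRep ℂ G Ω) J := by
      intro g v
      funext x
      rw [PermModules.permRep_apply]
      simp only [J, JM, Matrix.toLin'_apply, Matrix.mulVec, dotProduct, Matrix.of_apply, one_mul]
      exact Fintype.sum_equiv (MulAction.toPerm g⁻¹) _ _ fun y => by simp [PermModules.permRep_apply]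
    have hrel : T ∘ₗ T = ((k : ℂ) - mu) • LinearMap.id + ((lam : ℂ) - mu) • T + (mu : ℂ) • J := by
      rw [show T ∘ₗ T = Matrix.toLin' (A * A) from (Matrix.toLin'_mul A A).symm,
        show (LinearMap.id : (Ω → ℂ) →ₗ[ℂ] (Ω → ℂ)) = Matrix.toLin' 1 from Matrix.toLin'_one.symm,
        show J = Matrix.toLin' JM from rfl, show T = Matrix.toLin' A from rfl,
        ← Matrix.toLin'.map_smul, ← Matrix.toLin'.map_smul, ← Matrix.toLin'.map_smul, ← Matrix.toLin'.map_add,
        ← Matrix.toLin'.map_add]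
      congr 1
      ext x y
      have h1 : (A * A) x y = ((Finset.univ.filter fun z => O x z ∧ O z y).card : ℂ) := by
        rw [Matrix.mul_apply, ← Finset.sum_boole]
        refine Finset.sum_congr rfl fun z _ => ?_
        simp only [A, Matrix.of_apply]
        by_cases p1 : O x z <;> by_cases p2 : O z y <;> simp [p1, p2]
      rw [h1, hquad]
      by_cases hxy : x = y
      · subst hxy
        simp [A, JM, hirr' x, Matrix.add_apply]
      · by_cases hO' : O x y <;> simp [A, JM, hxy, hO', Matrix.add_apply, Matrix.one_apply_ne hxy]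
    obtain ⟨jtr, jone, -, jquad⟩ := hc J hJ
    have hJJ : J ∘ₗ J = (0 : ℂ) • LinearMap.id + ((2 * m : ℕ) : ℂ) • J + (0 : ℂ) • J := by
      rw [zero_smul, zero_smul, zero_add, add_zero, show J = Matrix.toLin' JM from rfl,
        ← Matrix.toLin'_mul, ← map_smul]
      congr 1
      ext x y
      simp [JM, Matrix.mul_apply, hm]
    have jsq := jquad J hJ _ _ _ hJJ
    have j0 : c J 0 = ((2 * m : ℕ) : ℂ) := by
      have h1 := congrFun (jone (fun _ => 1) fun _ => rfl) a₀
      rw [Pi.smul_apply, smul_eq_mul, mul_one] at h1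
      rw [← h1, show J (fun _ => 1) a₀ = ∑ _y : Ω, (1 : ℂ) * 1 from rfl]
      simp [hm]
    rw [show LinearMap.trace ℂ (Ω → ℂ) J = ((2 * m : ℕ) : ℂ) by
      rw [show J = Matrix.toLin' JM from rfl, Matrix.trace_toLin'_eq]
      simp [JM, Matrix.trace, hm], j0, hd₁, hd₂] at jtr
    have hj12 : c J 1 = 0 ∧ c J 2 = 0 := by
      have f1 : c J 1 = 0 ∨ c J 1 = ((2 * m : ℕ) : ℂ) := by
        have := jsq 1
        exact (em (c J 1 = 0)).imp_right fun h => mul_right_cancel₀ h (by linear_combination this)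
      have f2 : c J 2 = 0 ∨ c J 2 = ((2 * m : ℕ) : ℂ) := by
        have := jsq 2
        exact (em (c J 2 = 0)).imp_right fun h => mul_right_cancel₀ h (by linear_combination this)
      obtain ⟨m', rfl⟩ : ∃ m', m = m' + 1 := ⟨m - 1, by omega⟩
      rcases f1 with f1 | f1 <;> rcases f2 with f2 | f2
      · exact ⟨f1, f2⟩
      · exfalso
        rw [f1, f2] at jtr
        have h3 : (((m' + 1) * (2 * (m' + 1)) : ℕ) : ℂ) = 0 := by push_cast at jtr ⊢; linear_combination -jtr
        rw [Nat.cast_eq_zero] at h3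
        simp at h3
      · exfalso
        rw [f1, f2] at jtr
        have h3 : ((m' * (2 * (m' + 1)) : ℕ) : ℂ) = 0 := by push_cast at jtr ⊢; linear_combination -jtr
        rw [Nat.cast_eq_zero] at h3
        simp at h3; omega
      · exfalso
        rw [f1, f2] at jtr
        have h3 : (((2 * m' + 1) * (2 * (m' + 1)) : ℕ) : ℂ) = 0 := by push_cast at jtr ⊢; linear_combination -jtr
        rw [Nat.cast_eq_zero] at h3
        simp at h3
    have hq1 := hquad' J hJ _ _ _ hrel 1
    have hq2 := hquad' J hJ _ _ _ hrel 2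
    rw [hj12.1] at hq1
    rw [hj12.2] at hq2
    rw [etr, e0, hd₁, hd₂] at htr
    rw [etr2, e0, hd₁, hd₂] at htr2
    exact arith m k _ lam mu (c T 1) (c T 2) (horb2 b hb) (horb2 b' hb') hk1 htr htr2 (by linear_combination hq1)
      (by linear_combination hq2)
  obtain ⟨b₀, hb₀⟩ : ∃ b : Ω, b ≠ a₀ := Fintype.exists_ne_of_one_lt_card (by omega) a₀
  obtain ⟨s, hms, -⟩ := key b₀ hb₀
  obtain ⟨a, ha, hae⟩ : ∃ a : ℕ, 0 < a ∧ (m : ℤ) = 2 * (a : ℤ) ^ 2 + 2 * a + 1 := by
    rcases le_or_gt 0 s with h | h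
    · refine ⟨s.toNat, ?_, by rw [Int.toNat_of_nonneg h]; exact hms⟩
      rcases eq_or_lt_of_le h with h0 | h0
      · rw [← h0] at hms; norm_num at hms; omega
      · omega
    · refine ⟨(-1 - s).toNat, ?_, by rw [Int.toNat_of_nonneg (by omega)]; linear_combination hms⟩
      rcases eq_or_ne s (-1) with h0 | h0
      · rw [h0] at hms; norm_num at hms; omega
      · omega
  refine ⟨a, ha, by exact_mod_cast hae, fun b hb => ?_⟩
  obtain ⟨t, hmt, hkt⟩ := key b hb
  have h : (t - a) * (t + a + 1) = 0 := by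
    have : 2 * ((t - a) * (t + a + 1)) = 0 := by linear_combination hae - hmt
    omega
  rcases mul_eq_zero.1 h with h | h
  · left
    rw [show t = (a : ℤ) by omega] at hkt
    exact_mod_cast hkt
  · right
    rw [show t = -(a : ℤ) - 1 by omega] at hkt
    have : (Nat.card (MulAction.orbit (MulAction.stabilizer G a₀) b) : ℤ) = ((a + 1) * (2 * a + 1) : ℕ) := by
      push_cast; linear_combination hkt
    exact_mod_cast this

end Cfsg.Agent.S0719
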