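import Cfsg.Statements.S0722
import Mathlib.GroupTheory.GroupAction.Primitive
-- import your own Cfsg.Agent.* helpers here

set_option autoImplicit false
set_option linter.style.haveILetI false
open Cfsg

namespace Cfsg.Agent.S0722

/-- In a primitive group `H`, with `N` a minimal normal subgroup and `K` a point stabiliser, `K ⊓ N` is maximal among proper `K`-invariant subgroups of `N`. -/
theorem result {α : Type*} [Finite α] (H : Subgroup (Equiv.Perm α)) [MulAction.IsPreprimitive H α] (N : Subgroup H) [N.Normal] (hN : N ≠ ⊥) (hmin : ∀ M : Subgroup H, M.Normal → M ≤ N → M = ⊥ ∨ M = N) (a : α) (X : Subgroup H) (hX : X ≤ N) (hKX : MulAction.stabilizer H a ⊓ N ≤ X) (hinv : MulAction.stabilizer H a ≤ Subgroup.normalizer (X : Set H)) : X = MulAction.stabilizer H a ⊓ N ∨ X = N := by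
  haveI : Nontrivial α := by
    by_contra hnt
    rw [not_nontrivial_iff_subsingleton] at hnt
    exact hN (Subsingleton.elim _ _)
  set K := MulAction.stabilizer H a
  have hco : IsCoatom K := (MulAction.isCoatom_stabilizer_iff_preprimitive H a).2 inferInstance
  by_cases hXK : X ≤ K
  · exact Or.inl (le_antisymm (le_inf hXK hX) hKX)
  · refine Or.inr (le_antisymm hX fun n hn => ?_)
    have htop : K ⊔ X = ⊤ :=
      hco.2 _ (lt_of_le_of_ne le_sup_left fun e => hXK (le_sup_right.trans e.ge))
    have hn' : n ∈ ((K ⊔ X : Subgroup H) : Set H) := htop ▸ Subgroup.mem_top n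
    rw [Subgroup.coe_mul_of_left_le_normalizer_right K X hinv] at hn'
    obtain ⟨k, hk, x, hx, rfl⟩ := hn'
    have hkN : k ∈ N := by simpa using mul_mem hn (inv_mem (hX hx))
    exact mul_mem (hKX ⟨hk, hkN⟩) hx

end Cfsg.Agent.S0722
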