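import Cfsg.Statements.S0723
import Cfsg.Agent.Lib.MinNormal.Primitive

set_option autoImplicit false
open Cfsg

namespace Cfsg.Agent.S0723

/-- The core of the O'Nan–Scott Theorem. Let `H` be a primitive permutation group on a finite set whose unique minimal normal subgroup `N` is non-abelian, and `K` a point stabiliser. Then there are a non-abelian simple group `T` and an isomorphism `N ≃* T^m` (`m ≥ 1`) under which `K ⊓ N` becomes either a product `∏ K_i` of proper subgroups `K_i < T`, or the set of functions constant on each block of a partition of the index set into blocks of one common size `k ≥ 2`. -/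
theorem result {α : Type*} [Finite α] (H : Subgroup (Equiv.Perm α)) [MulAction.IsPreprimitive H α] (N : Subgroup H) [N.Normal] (hN : N ≠ ⊥) (hmin : ∀ M : Subgroup H, M.Normal → M ≤ N → M = ⊥ ∨ M = N) (huniq : ∀ L : Subgroup H, L.Normal → L ≠ ⊥ → (∀ M : Subgroup H, M.Normal → M ≤ L → M = ⊥ ∨ M = L) → L = N) (hnab : ¬ IsMulCommutative N) (a : α) : ∃ (T : Type) (_ : Group T) (m : ℕ) (e : N ≃* (Fin m → T)), IsSimpleGroup T ∧ ¬ IsMulCommutative T ∧ 0 < m ∧ ((∃ K : Fin m → Subgroup T, (∀ i, K i ≠ ⊤) ∧ ∀ n : N, (n : H) ∈ MulAction.stabilizer H a ↔ ∀ i, e n i ∈ K i) ∨ (∃ (k : ℕ) (c : Fin m → Fin m), 2 ≤ k ∧ (∀ j : Fin m, Nat.card {i : Fin m // c i = j} = k ∨ Nat.card {i : Fin m // c i = j} = 0) ∧ ∀ n : N, (n : H) ∈ MulAction.stabilizer H a ↔ ∀ i j : Fin m, c i = c j → e n i = e n j)) := by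
  classical
  obtain ⟨S, rfl⟩ := Cfsg.Agent.MinFactors.exists_naMin N ‹N.Normal› hN hmin hnab
  have hN' := S.normal
  have : Nontrivial α := by
    rcases subsingleton_or_nontrivial α with h | h
    · exfalso
      have : Subsingleton H := ⟨fun g h' => Subtype.ext (Equiv.ext fun x => Subsingleton.elim _ _)⟩
      exact hN (Subgroup.eq_bot_of_subsingleton _)
    · exact h
  have hA : IsCoatom (MulAction.stabilizer H a) := MulAction.IsPreprimitive.isCoatom_stabilizer_of_isPreprimitive (G := H) (a := a)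
  have hNA : ¬ S.N ≤ MulAction.stabilizer H a := fun hle => hN (by
    rw [Subgroup.eq_bot_iff_forall]
    intro x hx
    refine eq_of_smul_eq_smul (α := α) fun b => ?_
    obtain ⟨g, rfl⟩ := MulAction.exists_smul_eq H a b
    have := MulAction.mem_stabilizer_iff.1 (hle (hN'.conj_mem x hx g⁻¹))
    rw [inv_inv, mul_smul, mul_smul, inv_smul_eq_iff] at this
    rw [one_smul, this])
  exact S.product_or_diagonal _ hA
    (hA.2 _ (lt_of_le_of_ne le_sup_left fun e => hNA (le_of_le_of_eq le_sup_right e.symm))) hNA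

end Cfsg.Agent.S0723
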