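import Cfsg.Statements.S0724
import Mathlib.GroupTheory.GroupAction.Quotient
import Mathlib.Algebra.BigOperators.Ring.Finset
import Mathlib.Algebra.Group.Action.Pi
-- import your own Cfsg.Agent.* helpers here

set_option autoImplicit false
set_option linter.style.haveILetI false
open Cfsg

namespace Cfsg.Agent.S0724

/-- Blichfeldt's Theorem: if a finite set `L` of natural numbers contains the number of fixed points of every non-identity element of a permutation group `G` of degree `n`, then the order of `G` divides `∏ (n - l)` over `l ∈ L`. -/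
theorem result {α : Type*} [Fintype α] [DecidableEq α] (G : Subgroup (Equiv.Perm α)) (L : Finset ℕ) (hL : ∀ g ∈ G, g ≠ 1 → Nat.card (MulAction.fixedBy α g) ∈ L) : Nat.card G ∣ ∏ l ∈ L, (Fintype.card α - l) := by
  classical
  haveI : Fintype G := Fintype.ofFinite G
  have hpow : ∀ m : ℕ, (Nat.card G : ℤ) ∣ ∑ g : G, (Nat.card (MulAction.fixedBy α g) : ℤ) ^ m := by
    intro m
    have h := MulAction.sum_card_fixedBy_eq_card_orbits_mul_card_group (G := G) (X := Fin m → α)
    have hf : ∀ g : G, Fintype.card (MulAction.fixedBy (Fin m → α) g) =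
        Nat.card (MulAction.fixedBy α g) ^ m := fun g => by
      rw [Nat.card_eq_fintype_card, ← Fintype.card_pi_const]
      exact Fintype.card_congr
        ⟨fun f i => ⟨f.1 i, congrFun f.2 i⟩, fun f => ⟨fun i => (f i).1, funext fun i => (f i).2⟩,
          fun f => rfl, fun f => rfl⟩
    simp only [hf] at h
    have h' := congrArg (fun n : ℕ => (n : ℤ)) h
    simp only [Nat.cast_sum, Nat.cast_pow] at h'
    rw [h', Nat.cast_mul, Nat.card_eq_fintype_card]
    exact dvd_mul_left _ _
  by_cases hbig : ∀ l ∈ L, l ≤ Fintype.card α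
  swap
  · simp only [not_forall] at hbig
    obtain ⟨l, hl, hlt⟩ := hbig
    rw [Finset.prod_eq_zero hl (by omega)]
    exact dvd_zero _
  have hexp : ∀ g : G, (∏ l ∈ L, ((Nat.card (MulAction.fixedBy α g) : ℤ) - l)) =
      ∑ t ∈ L.powerset, (Nat.card (MulAction.fixedBy α g) : ℤ) ^ t.card *
        ∏ l ∈ L \ t, (-(l : ℤ)) := fun g => by
    simp only [sub_eq_add_neg, Finset.prod_add, Finset.prod_const]
  have hsum : (Nat.card G : ℤ) ∣ ∑ g : G, ∏ l ∈ L, ((Nat.card (MulAction.fixedBy α g) : ℤ) - l) := by
    simp only [hexp]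
    rw [Finset.sum_comm]
    refine Finset.dvd_sum fun t _ => ?_
    rw [← Finset.sum_mul]
    exact (hpow t.card).mul_right _
  rw [Finset.sum_eq_single (1 : G) (fun g _ hg => by
      refine Finset.prod_eq_zero (hL g g.2 fun h => hg (Subtype.ext h)) ?_
      exact sub_self _) (fun h => absurd (Finset.mem_univ _) h)] at hsum
  have h1 : Nat.card (MulAction.fixedBy α (1 : G)) = Fintype.card α := by
    rw [MulAction.fixedBy_one_eq_univ, Nat.card_eq_fintype_card, Fintype.card_setUniv]
  rw [h1] at hsum
  rw [← Int.natCast_dvd_natCast, Nat.cast_prod]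
  rw [Finset.prod_congr rfl fun l hl => Nat.cast_sub (R := ℤ) (hbig l hl)]
  exact hsum

end Cfsg.Agent.S0724
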