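import Cfsg.Statements.S0726

-- import your own Cfsg.Agent.* helpers here

set_option autoImplicit false
set_option linter.style.haveILetI false
open Cfsg

namespace Cfsg.Agent.S0726

/-- The left and right regular permutation representations of a group are each other's centralisers in the symmetric group: the centraliser of the left regular image is the right regular image, and a transitive subgroup centralising the left regular image is the whole right regular image. -/
theorem result {G : Type*} [Group G] : Subgroup.centralizer ((MulAction.toPermHom G G).range : Set (Equiv.Perm G)) = (MulAction.toPermHom Gᵐᵒᵖ G).range ∧ ∀ H : Subgroup (Equiv.Perm G), H ≤ Subgroup.centralizer ((MulAction.toPermHom G G).range : Set (Equiv.Perm G)) → MulAction.IsPretransitive H G → H = (MulAction.toPermHom Gᵐᵒᵖ G).range := by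
  have hR : Subgroup.centralizer ((MulAction.toPermHom G G).range : Set (Equiv.Perm G)) =
      (MulAction.toPermHom Gᵐᵒᵖ G).range := by
    apply le_antisymm
    · intro c hc
      refine ⟨MulOpposite.op (c 1), Equiv.ext fun x => ?_⟩
      have h := congrArg (fun σ : Equiv.Perm G => σ 1)
        (Subgroup.mem_centralizer_iff.1 hc _ ⟨x, rfl⟩)
      show x * c 1 = c x
      simpa using h
    · rintro _ ⟨m, rfl⟩
      rw [Subgroup.mem_centralizer_iff]
      rintro _ ⟨g, rfl⟩
      exact Equiv.ext fun x => (mul_assoc g x m.unop).symm
  refine ⟨hR, fun H hH ht => le_antisymm (hH.trans hR.le) ?_⟩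
  rintro _ ⟨m, rfl⟩
  obtain ⟨h, hh⟩ := ht.exists_smul_eq 1 m.unop
  obtain ⟨m', hm'⟩ := hR.le (hH h.2)
  have hv : m'.unop = m.unop := by
    have h1 : (1 : G) * m'.unop = m.unop :=
      (congrArg (fun σ : Equiv.Perm G => σ 1) hm').trans hh
    simpa using h1
  rw [← MulOpposite.unop_injective hv, hm']
  exact h.2

end Cfsg.Agent.S0726
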