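import Cfsg.Statements.S0729
import Cfsg.Agent.Lib.ZassAbelian.EvenSimple

set_option autoImplicit false
set_option maxHeartbeats 800000
open Cfsg

namespace Cfsg.Agent.S0729

/-- In a sharply triply transitive group of even degree at least 6, the two-point stabiliser `H = G_{a,b}` has a normal subgroup of index 2 that is normalised by the element `s` interchanging `a, b` and fixing a third point `c`. -/
theorem result {α : Type*} [Fintype α] [DecidableEq α] (heven : Even (Fintype.card α)) (h6 : 6 ≤ Fintype.card α) (G : Subgroup (Equiv.Perm α)) (h3 : MulAction.IsMultiplyPretransitive G α 3) (hsharp : ∀ x : Fin 3 ↪ α, MulAction.stabilizer G x = ⊥) {a b c : α} (hab : a ≠ b) (hac : a ≠ c) (hbc : b ≠ c) (s : G) (hsa : s • a = b) (hsb : s • b = a) (hsc : s • c = c) : ∃ N : Subgroup G, N ≤ MulAction.stabilizer G a ⊓ MulAction.stabilizer G b ∧ (N.subgroupOf (MulAction.stabilizer G a ⊓ MulAction.stabilizer G b)).Normal ∧ N.relIndex (MulAction.stabilizer G a ⊓ MulAction.stabilizer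 G b) = 2 ∧ ∀ n ∈ N, s * n * s⁻¹ ∈ N := by
  classical
  haveI := h3
  haveI h2t : MulAction.IsMultiplyPretransitive G α 2 :=
    MulAction.isMultiplyPretransitive_of_le (n := 3) (by omega) (by rw [Nat.card_eq_fintype_card]; omega)
  haveI : MulAction.IsPretransitive G α := MulAction.isPretransitive_of_is_two_pretransitive
  have hthree : ∀ g : G, ∀ x y w : α, x ≠ y → y ≠ w → x ≠ w → g • x = x → g • y = y → g • w = w → g = 1 := by
    intro g x y w h1 h2 h3' gx gy gw
    let e : Fin 3 ↪ α := ⟨![x, y, w], Cfsg.Agent.ZassAb.vec3_injective h1 h3' h2⟩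
    have : g ∈ MulAction.stabilizer G e := MulAction.mem_stabilizer_iff.mpr (DFunLike.ext _ _ fun i => by
      fin_cases i
      exacts [gx, gy, gw])
    rwa [hsharp e, Subgroup.mem_bot] at this
  have hex : ∀ x y w x' y' w' : α, x ≠ y → x ≠ w → y ≠ w → x' ≠ y' → x' ≠ w' → y' ≠ w' →
      ∃ g : G, g • x = x' ∧ g • y = y' ∧ g • w = w' := by
    intro x y w x' y' w' h1 h2 h3' h4 h5 h6
    let e1 : Fin 3 ↪ α := ⟨![x, y, w], Cfsg.Agent.ZassAb.vec3_injective h1 h2 h3'⟩
    let e2 : Fin 3 ↪ α := ⟨![x', y', w'], Cfsg.Agent.ZassAb.vec3_injective h4 h5 h6⟩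
    obtain ⟨g, hg⟩ := MulAction.isMultiplyPretransitive_iff.mp h3 e1 e2
    exact ⟨g, congrArg (fun e : Fin 3 ↪ α => e 0) hg, congrArg (fun e : Fin 3 ↪ α => e 1) hg,
      congrArg (fun e : Fin 3 ↪ α => e 2) hg⟩
  -- the two-point stabiliser
  have hK : Nat.card (Cfsg.Agent.Zass.two (G := G) a b) = Fintype.card α - 2 := by
    let f : Cfsg.Agent.Zass.two (G := G) a b → {x : α // x ≠ a ∧ x ≠ b} := fun k => ⟨(k : G) • c,
      fun e => hac (((smul_left_cancel_iff (k : G)).mp (e.trans (Cfsg.Agent.Zass.mem_two.mp k.2).1.symm))).symm,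
      fun e => hbc (((smul_left_cancel_iff (k : G)).mp (e.trans (Cfsg.Agent.Zass.mem_two.mp k.2).2.symm))).symm⟩
    have hf : Function.Bijective f := by
      refine ⟨fun k l hkl => ?_, fun x => ?_⟩
      · have h' : (k : G) • c = (l : G) • c := congrArg Subtype.val hkl
        refine Subtype.ext (inv_mul_eq_one.mp (hthree ((l : G)⁻¹ * k) a b c hab hbc hac ?_ ?_ ?_)).symm
        · rw [mul_smul, (Cfsg.Agent.Zass.mem_two.mp k.2).1, inv_smul_eq_iff, (Cfsg.Agent.Zass.mem_two.mp l.2).1]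
        · rw [mul_smul, (Cfsg.Agent.Zass.mem_two.mp k.2).2, inv_smul_eq_iff, (Cfsg.Agent.Zass.mem_two.mp l.2).2]
        · rw [mul_smul, h', inv_smul_smul]
      · obtain ⟨g, ga, gb, gc⟩ := hex a b c a b x hab hac hbc hab x.2.1.symm x.2.2.symm
        exact ⟨⟨g, Cfsg.Agent.Zass.mem_two.mpr ⟨ga, gb⟩⟩, Subtype.ext gc⟩
    rw [Nat.card_eq_of_bijective f hf]
    have hS : Nat.card {x : α // x ≠ a ∧ x ≠ b} = ((Finset.univ.erase a).erase b).card :=
      Nat.subtype_card _ fun x => by simp [and_comm]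
    rw [hS, Finset.card_erase_of_mem (Finset.mem_erase.mpr ⟨hab.symm, Finset.mem_univ _⟩),
      Finset.card_erase_of_mem (Finset.mem_univ _), Finset.card_univ]
    omega
  haveI : Fact (Nat.Prime 2) := ⟨Nat.prime_two⟩
  have hev : Even (Nat.card (Cfsg.Agent.Zass.two (G := G) a b)) := by
    rw [hK]; obtain ⟨k, hk⟩ := heven; exact ⟨k - 1, by omega⟩
  obtain ⟨z, hz⟩ := exists_prime_orderOf_dvd_card' (G := Cfsg.Agent.Zass.two (G := G) a b) 2 hev.two_dvd
  obtain ⟨za, zb⟩ := Cfsg.Agent.Zass.mem_two.mp z.2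
  obtain ⟨hz2, hz1⟩ := Cfsg.Agent.Zass.orderOf_two_iff.mp ((Subgroup.orderOf_coe z).trans hz)
  have hZ : Cfsg.IsZassenhausGroup G α := by
    refine ⟨inferInstance, h2t, hthree, ⟨z, hz1, a, b, hab, za, zb⟩, fun N hN htr => ?_⟩
    by_contra hcon
    push Not at hcon
    have hinj : ∀ n : G, n ∈ N → n • a = a → n = 1 := fun n hn hna => by
      have hmem : (⟨n, hn⟩ : N) ∈ MulAction.stabilizer N a := hna
      rw [hcon a, Subgroup.mem_bot] at hmem
      exact congrArg Subtype.val hmem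
    -- exponent two
    haveI : Finite N := inferInstance
    have hNc : Nat.card N = Fintype.card α := by
      have h := (MulAction.stabilizer N a).index_mul_card
      rw [hcon a, Subgroup.card_bot, mul_one, ← hcon a, MulAction.index_stabilizer_of_transitive,
        Nat.card_eq_fintype_card (α := α)] at h
      exact h.symm
    obtain ⟨w, hw⟩ := exists_prime_orderOf_dvd_card' (G := N) 2 (hNc ▸ heven.two_dvd)
    obtain ⟨hw2, hw1⟩ := Cfsg.Agent.Zass.orderOf_two_iff.mp ((Subgroup.orderOf_coe w).trans hw)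
    have hexp : ∀ n ∈ N, n * n = 1 := by
      intro n hn
      rcases eq_or_ne n 1 with rfl | hn1
      · exact one_mul 1
      have hwa : (w : G) • a ≠ a := fun e => hw1 (hinj _ w.2 e)
      have hna : n • a ≠ a := fun e => hn1 (hinj _ hn e)
      obtain ⟨g, ga, gb⟩ := (MulAction.is_two_pretransitive_iff.mp h2t) hwa.symm hna.symm
      have hconj : g * w * g⁻¹ = n := by
        refine (inv_mul_eq_one.mp (hinj (n⁻¹ * (g * w * g⁻¹))
          (N.mul_mem (N.inv_mem hn) (hN.conj_mem w w.2 g)) ?_)).symm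
        rw [mul_smul, inv_smul_eq_iff, mul_smul, mul_smul, inv_smul_eq_iff.mpr ga.symm, gb]
      rw [← hconj, show g * (w : G) * g⁻¹ * (g * w * g⁻¹) = g * ((w : G) * w) * g⁻¹ by group, hw2,
        mul_one, mul_inv_cancel]
    have hcomm : ∀ x ∈ N, ∀ y ∈ N, x * y = y * x := fun x hx y hy => by
      have h1 : (x * y)⁻¹ = x * y := inv_eq_of_mul_eq_one_right (hexp _ (N.mul_mem hx hy))
      rw [← h1, mul_inv_rev, inv_eq_of_mul_eq_one_right (hexp x hx), inv_eq_of_mul_eq_one_right (hexp y hy)]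
    let F := {v : G // v ∈ N ∧ (z : G) * v * (z : G)⁻¹ = v}
    have hF : Nat.card F ≤ 2 := by
      rw [← Finset.card_pair hab, ← Nat.card_eq_finsetCard]
      refine Nat.card_le_card_of_injective (fun v : F => (⟨(v : G) • a, ?_⟩ : ({a, b} : Finset α))) fun v v' h => ?_
      · by_contra hne
        simp only [Finset.mem_insert, Finset.mem_singleton, not_or] at hne
        refine hz1 (hthree z a b _ hab (Ne.symm hne.2) (Ne.symm hne.1) za zb ?_)
        conv_rhs => rw [← v.2.2, mul_smul, inv_smul_eq_iff.mpr za.symm, mul_smul]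
      · have h' : (v : G) • a = (v' : G) • a := congrArg Subtype.val h
        exact Subtype.ext (inv_mul_eq_one.mp (hinj _ (N.mul_mem (N.inv_mem v'.2.1) v.2.1)
          (by rw [mul_smul, h', inv_smul_smul]))).symm
    have hle : Nat.card N ≤ Nat.card F * 2 := by
      let θ : N → F := fun v => ⟨(v : G) * ((z : G) * v * (z : G)⁻¹), N.mul_mem v.2 (hN.conj_mem _ v.2 _), by
        calc (z : G) * ((v : G) * ((z : G) * v * (z : G)⁻¹)) * (z : G)⁻¹
            = ((z : G) * v * (z : G)⁻¹) * (((z : G) * z) * v * ((z : G) * z)⁻¹) := by group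
          _ = ((z : G) * v * (z : G)⁻¹) * v := by rw [hz2, inv_one, mul_one, one_mul]
          _ = _ := hcomm _ (hN.conj_mem _ v.2 _) _ v.2⟩
      haveI := Fintype.ofFinite N
      haveI := Fintype.ofFinite F
      rw [Nat.card_eq_fintype_card, Nat.card_eq_fintype_card, ← Finset.card_univ, ← Finset.card_univ, mul_comm]
      refine Finset.card_le_mul_card_image_of_maps_to (f := θ) (fun _ _ => Finset.mem_univ _) 2 fun w _ => ?_
      rcases (Finset.univ.filter fun v => θ v = w).eq_empty_or_nonempty with h | ⟨v0, hv0⟩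
      · rw [h]; simp
      refine le_trans ?_ hF
      rw [← Nat.card_eq_finsetCard]
      refine Nat.card_le_card_of_injective (fun v => (⟨(v0 : G)⁻¹ * (v.1 : G), N.mul_mem (N.inv_mem v0.2) v.1.2, ?_⟩ : F))
        fun v v' h => Subtype.ext (Subtype.ext (mul_left_cancel (congrArg Subtype.val h)))
      have h1 : ((v.1 : N) : G) * ((z : G) * (v.1 : G) * (z : G)⁻¹) = (v0 : G) * ((z : G) * v0 * (z : G)⁻¹) :=
        congrArg Subtype.val ((Finset.mem_filter.mp v.2).2.trans (Finset.mem_filter.mp hv0).2.symm)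
      have hinvN : ∀ x ∈ N, x⁻¹ = x := fun x hx => inv_eq_of_mul_eq_one_right (hexp x hx)
      have hm0 := hN.conj_mem _ v0.2 (z : G)
      have hm1 := hN.conj_mem _ v.1.2 (z : G)
      calc (z : G) * ((v0 : G)⁻¹ * v.1) * (z : G)⁻¹
          = ((z : G) * v0 * (z : G)⁻¹)⁻¹ * ((z : G) * v.1 * (z : G)⁻¹) := by group
        _ = ((z : G) * v0 * (z : G)⁻¹) * ((z : G) * v.1 * (z : G)⁻¹)⁻¹ := by rw [hinvN _ hm0, hinvN _ hm1]
        _ = (v0 : G)⁻¹ * ((v0 : G) * ((z : G) * v0 * (z : G)⁻¹)) * ((z : G) * v.1 * (z : G)⁻¹)⁻¹ := by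
          rw [inv_mul_cancel_left]
        _ = (v0 : G)⁻¹ * v.1 := by rw [← h1]; group
    rw [hNc] at hle
    omega
  obtain ⟨H, D⟩ := Cfsg.Agent.ZassKer.exists_ker hZ hab
  have A := D.ab (D.comm_of_even hev)
  have heq : Nat.card (Cfsg.Agent.Zass.two (G := G) a b) = Nat.card H - 1 := by
    rw [hK, ← D.card]; omega
  obtain ⟨M, hM⟩ : ∃ M : Subgroup (Cfsg.Agent.Zass.two (G := G) a b), M.index = 2 := by
    by_cases h4 : 4 ∣ Nat.card (Cfsg.Agent.Zass.two (G := G) a b)
    · exact A.sharp_index_two heq h4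
    · obtain ⟨P⟩ : Nonempty (Sylow 2 (Cfsg.Agent.Zass.two (G := G) a b)) := inferInstance
      obtain ⟨n, hn⟩ := IsPGroup.iff_card.mp P.2
      have hn1 : n = 1 := by
        rcases n with _ | _ | n
        · have := P.dvd_card_of_dvd_card hev.two_dvd
          rw [hn] at this
          omega
        · rfl
        · exact absurd (((show 4 ∣ 2 ^ (n + 2) from ⟨2 ^ n, by ring⟩)).trans (hn ▸ P.card_subgroup_dvd_card)) h4
      haveI hc : IsCyclic (P : Subgroup (Cfsg.Agent.Zass.two (G := G) a b)) :=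
        isCyclic_of_prime_card (p := 2) (by rw [hn, hn1, pow_one])
      have hmin : (Nat.card (Cfsg.Agent.Zass.two (G := G) a b)).minFac = 2 :=
        (Nat.minFac_eq_two_iff _).mpr hev.two_dvd
      exact Cfsg.Agent.ZassTwoIdx.index_two_of_two_power _ (n := 0)
        ((IsCyclic.isComplement' hmin hc).symm.index_eq_card.trans (by rw [hn, hn1]))
  have hs2 : s * s = 1 := hthree _ a b c hab hbc hac (by rw [mul_smul, hsa, hsb]) (by rw [mul_smul, hsb, hsa])
    (by rw [mul_smul, hsc, hsc])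
  have hs : Cfsg.Agent.Zass.Swap a b s := ⟨hsa, hsb, hs2⟩
  set σ := Cfsg.Agent.Zass.sig hs with hσ
  let N0 : Subgroup (Cfsg.Agent.Zass.two (G := G) a b) :=
    if ∀ k, (σ k ∈ M ↔ k ∈ M) then M else
      { carrier := {k | k ∈ M ↔ σ k ∈ M}
        one_mem' := by simp [M.one_mem]
        mul_mem' := fun {x y} hx hy => by
          simp only [Set.mem_ofPred_eq, map_mul, Subgroup.mul_mem_iff_of_index_two hM] at hx hy ⊢
          rw [hx, hy]
        inv_mem' := fun {x} hx => by simpa using hx }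
  have hN0 : N0.index = 2 ∧ ∀ k, k ∈ N0 → σ k ∈ N0 := by
    by_cases hinv : ∀ k, (σ k ∈ M ↔ k ∈ M)
    · simp only [N0, if_pos hinv]
      exact ⟨hM, fun k hk => (hinv k).mpr hk⟩
    · have hmem : ∀ k, k ∈ N0 ↔ (k ∈ M ↔ σ k ∈ M) := fun k => by simp only [N0, if_neg hinv]; rfl
      refine ⟨Subgroup.index_eq_two_iff.mpr ?_, fun k hk => ?_⟩
      · push Not at hinv
        obtain ⟨y, hy⟩ := hinv
        refine ⟨y, fun k => ?_⟩
        simp only [hmem, map_mul, Subgroup.mul_mem_iff_of_index_two hM]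
        show (_ ∧ ¬_) ∨ (_ ∧ ¬_)
        tauto
      · rw [hmem] at hk ⊢
        rw [show σ (σ k) = k from Cfsg.Agent.Zass.sig_sig hs k]
        exact hk.symm
  obtain ⟨hNi, hNs⟩ := hN0
  haveI hN0n : N0.Normal := Subgroup.normal_of_index_eq_two hNi
  have hsub : (N0.map (Cfsg.Agent.Zass.two (G := G) a b).subtype).subgroupOf (Cfsg.Agent.Zass.two (G := G) a b) = N0 :=
    Subgroup.comap_map_eq_self_of_injective (Subgroup.subtype_injective _) N0
  refine ⟨N0.map (Cfsg.Agent.Zass.two (G := G) a b).subtype, Subgroup.map_subtype_le N0, ?_, ?_, ?_⟩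
  · rw [hsub]; exact hN0n
  · show ((N0.map _).subgroupOf _).index = 2
    rw [hsub]; exact hNi
  · rintro _ ⟨k, hk, rfl⟩
    refine ⟨σ k, hNs k hk, ?_⟩
    show s * (k : G) * s = s * (k : G) * s⁻¹
    rw [inv_eq_of_mul_eq_one_right hs2]
end Cfsg.Agent.S0729
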