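import Cfsg.Statements.S0733
import Mathlib.GroupTheory.GroupAction.Primitive
-- import your own Cfsg.Agent.* helpers here

set_option autoImplicit false
set_option linter.style.haveILetI false
open Cfsg
open scoped Pointwise

namespace Cfsg.Agent.S0733

/-- A permutation group of affine type — generated by the translations of a finite vector space `V` over `ZMod p` together with a group `G₀` of linear automorphisms — is primitive on `V` if and only if `G₀` is irreducible on `V`. -/
theorem result {p : ℕ} [Fact p.Prime] {V : Type*} [AddCommGroup V] [Module (ZMod p) V] [Finite V] [Nontrivial V] (G₀ : Subgroup (V ≃ₗ[ZMod p] V)) (G : Subgroup (Equiv.Perm V)) (hG : ∀ σ : Equiv.Perm V, σ ∈ G ↔ ∃ g ∈ G₀, ∃ b : V, ∀ x : V, σ x = (g : V ≃ₗ[ZMod p] V) x + b) : MulAction.IsPreprimitive G V ↔ ∀ W : Submodule (ZMod p) V, (∀ g ∈ G₀, ∀ v ∈ W, (g : V ≃ₗ[ZMod p] V) v ∈ W) → W = ⊥ ∨ W = ⊤ := by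
  have hmem : ∀ g ∈ G₀, ∀ b : V, ((g : V ≃ₗ[ZMod p] V).toEquiv.trans (Equiv.addRight b)) ∈ G :=
    fun g hg b => (hG _).2 ⟨g, hg, b, fun x => rfl⟩
  have hT : MulAction.IsPretransitive G V := ⟨fun a b =>
    ⟨⟨_, hmem 1 G₀.one_mem (b - a)⟩, show a + (b - a) = b by abel⟩⟩
  haveI := hT
  constructor
  · intro hP W hW
    have hB : MulAction.IsBlock G ((W : Set V)) := by
      rw [MulAction.isBlock_iff_smul_eq_of_nonempty]
      intro σ hne
      obtain ⟨g, hg, b, hσ⟩ := (hG _).1 σ.2
      obtain ⟨y, ⟨w, hw, hwy⟩, hy⟩ := hne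
      have hb : b ∈ W := by
        have h1 : g w + b ∈ W := by rw [← hσ, show (σ : Equiv.Perm V) w = y from hwy]; exact hy
        simpa using W.sub_mem h1 (hW g hg w hw)
      ext x
      constructor
      · rintro ⟨w', hw', rfl⟩
        show (σ : Equiv.Perm V) w' ∈ W
        rw [hσ]; exact W.add_mem (hW g hg w' hw') hb
      · intro hx
        refine ⟨g.symm (x - b), hW g⁻¹ (inv_mem hg) _ (W.sub_mem hx hb), ?_⟩
        show (σ : Equiv.Perm V) _ = x
        rw [hσ, LinearEquiv.apply_symm_apply, sub_add_cancel]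
    rcases hP.isTrivialBlock_of_isBlock hB with h | h
    · left
      rw [eq_bot_iff]
      exact fun x hx => h hx W.zero_mem
    · right
      exact SetLike.coe_injective h
  · intro hirr
    refine MulAction.IsPreprimitive.of_isTrivialBlock_base (0 : V) fun {B} h0 hB => ?_
    have hfix : ∀ σ : G, (σ • (0 : V)) ∈ B → σ • B = B := fun σ h =>
      MulAction.isBlock_iff_smul_eq_of_mem.1 hB h0 h
    have hadd : ∀ x ∈ B, ∀ y ∈ B, x + y ∈ B := fun x hx y hy => by
      have h := hfix ⟨_, hmem 1 G₀.one_mem y⟩ (show (0 : V) + y ∈ B by rwa [zero_add])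
      rw [← h]
      exact ⟨x, hx, rfl⟩
    let W : Submodule (ZMod p) V :=
      { carrier := B
        zero_mem' := h0
        add_mem' := fun {x y} hx hy => hadd x hx y hy
        smul_mem' := fun c x hx => by
          rw [← ZMod.natCast_zmod_val c, Nat.cast_smul_eq_nsmul]
          generalize c.val = n
          induction n with
          | zero => simpa using h0
          | succ n ih => rw [succ_nsmul]; exact hadd _ ih _ hx }
    rcases hirr W (fun g hg v hv => by
      have h := hfix ⟨_, hmem g hg 0⟩ (show (g : V ≃ₗ[ZMod p] V) 0 + 0 ∈ B by simpa using h0)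
      show (g : V ≃ₗ[ZMod p] V) v ∈ B
      rw [← h]
      exact ⟨v, hv, add_zero _⟩) with h | h
    · left
      intro x hx y hy
      rw [(Submodule.mem_bot (ZMod p)).1 (h.le (hx : x ∈ W)), (Submodule.mem_bot (ZMod p)).1 (h.le (hy : y ∈ W))]
    · right
      exact Set.eq_univ_of_forall fun x => (h.ge (Submodule.mem_top) : x ∈ W)

end Cfsg.Agent.S0733
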