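import Cfsg.Statements.S0734
import Mathlib.GroupTheory.GroupAction.Primitive
-- import your own Cfsg.Agent.* helpers here

set_option autoImplicit false
set_option linter.style.haveILetI false
open Cfsg

namespace Cfsg.Agent.S0734

/-- Higman's criterion for primitivity: a transitive action on a finite set is primitive if and only if every non-trivial orbital graph (edges = images of a fixed pair of distinct points) is connected. -/
theorem result {G : Type*} [Group G] {Ω : Type*} [Finite Ω] [MulAction G Ω] [MulAction.IsPretransitive G Ω] [Nontrivial Ω] : MulAction.IsPreprimitive G Ω ↔ ∀ a b : Ω, a ≠ b → (SimpleGraph.fromRel fun x y : Ω => ∃ g : G, g • a = x ∧ g • b = y).Connected := by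
  constructor
  · intro hP a b hab
    set Γ := SimpleGraph.fromRel fun x y : Ω => ∃ g : G, g • a = x ∧ g • b = y
    have hadj : ∀ (g : G) {x y : Ω}, Γ.Adj x y → Γ.Adj (g • x) (g • y) := by
      intro g x y h
      rw [SimpleGraph.fromRel_adj] at h ⊢
      refine ⟨fun e => h.1 (smul_left_cancel g e), ?_⟩
      rcases h.2 with ⟨k, h1, h2⟩ | ⟨k, h1, h2⟩
      · exact Or.inl ⟨g * k, by rw [mul_smul, h1], by rw [mul_smul, h2]⟩
      · exact Or.inr ⟨g * k, by rw [mul_smul, h1], by rw [mul_smul, h2]⟩
    have hreach : ∀ (g : G) {x y : Ω}, Γ.Reachable x y → Γ.Reachable (g • x) (g • y) :=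
      fun g x y h => h.map ⟨fun z => g • z, fun h' => hadj g h'⟩
    have hB : MulAction.IsBlock G {x | Γ.Reachable a x} := by
      rw [MulAction.isBlock_iff_smul_eq_of_nonempty]
      rintro g ⟨y, ⟨x, hx, rfl⟩, hy⟩
      have hga : Γ.Reachable a (g • a) := SimpleGraph.Reachable.trans hy (hreach g hx).symm
      ext z
      constructor
      · rintro ⟨w, hw, rfl⟩
        exact hga.trans (hreach g hw)
      · intro hz
        refine ⟨g⁻¹ • z, ?_, smul_inv_smul g z⟩
        have h := hreach g⁻¹ (hga.symm.trans hz)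
        rwa [inv_smul_smul] at h
    have hab' : Γ.Adj a b :=
      (SimpleGraph.fromRel_adj _ _ _).2 ⟨hab, Or.inl ⟨1, one_smul _ _, one_smul _ _⟩⟩
    rcases hP.isTrivialBlock_of_isBlock hB with h | h
    · exact absurd (h (SimpleGraph.Reachable.refl a) hab'.reachable) hab
    · refine ⟨fun x y => ?_⟩
      have hx : x ∈ {z | Γ.Reachable a z} := h ▸ Set.mem_univ x
      have hy : y ∈ {z | Γ.Reachable a z} := h ▸ Set.mem_univ y
      exact SimpleGraph.Reachable.trans (SimpleGraph.Reachable.symm hx) hy
  · intro hcon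
    refine ⟨fun {B} hB => ?_⟩
    by_cases hs : B.Subsingleton
    · exact Or.inl hs
    right
    obtain ⟨a, ha, b, hb, hab⟩ := (Set.not_subsingleton_iff.1 hs)
    have key := MulAction.isBlock_iff_smul_eq_of_mem.1 hB
    have hwalk : ∀ {x y : Ω}, (SimpleGraph.fromRel fun x y : Ω => ∃ g : G, g • a = x ∧ g • b = y).Walk x y →
        x ∈ B → y ∈ B := by
      intro x y w
      induction w with
      | nil => exact id
      | @cons u v w h _ ih =>
        intro hu
        refine ih ?_
        rcases ((SimpleGraph.fromRel_adj _ _ _).1 h).2 with ⟨g, h1, h2⟩ | ⟨g, h1, h2⟩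
        · rw [← key ha (h1.symm ▸ hu : g • a ∈ B), ← h2]; exact ⟨b, hb, rfl⟩
        · rw [← key hb (h2.symm ▸ hu : g • b ∈ B), ← h1]; exact ⟨a, ha, rfl⟩
    exact Set.eq_univ_of_forall fun y => ((hcon a b hab).preconnected a y).elim fun w => hwalk w ha

end Cfsg.Agent.S0734
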