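import Cfsg.Statements.S0736
import Mathlib.GroupTheory.GroupAction.SubMulAction.Combination
import Mathlib.Data.Nat.Choose.Factorization
import Mathlib.Combinatorics.Enumerative.DoubleCounting
-- import your own Cfsg.Agent.* helpers here

set_option autoImplicit false
set_option linter.style.haveILetI false
open Cfsg
open scoped Pointwise

namespace Cfsg.Agent.S0736

theorem prime_not_dvd_choose_pow {p a k : ℕ} (hp : p.Prime) (hk : p ^ a ∣ k) :
    ¬ p ∣ (k + (p ^ a - 1)).choose (p ^ a - 1) := by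
  intro h
  have hne : (k + (p ^ a - 1)).choose (p ^ a - 1) ≠ 0 :=
    (Nat.choose_pos (Nat.le_add_left _ _)).ne'
  have h1 := hp.factorization_pos_of_dvd hne h
  rw [Nat.factorization_choose' hp (Nat.lt_succ_self _)] at h1
  obtain ⟨i, hi⟩ := Finset.card_pos.1 h1
  rw [Finset.mem_filter] at hi
  obtain ⟨-, hi⟩ := hi
  have hpos : 0 < p ^ a := pow_pos hp.pos a
  have hposi : 0 < p ^ i := pow_pos hp.pos i
  rcases le_total i a with hia | hai
  · have : k % p ^ i = 0 := Nat.mod_eq_zero_of_dvd ((pow_dvd_pow p hia).trans hk)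
    have := Nat.mod_lt (p ^ a - 1) hposi
    omega
  · have h2 : p ^ a ∣ k % p ^ i := (Nat.dvd_mod_iff (pow_dvd_pow p hai)).2 hk
    have h3 := Nat.mod_lt k hposi
    have h4 : (p ^ a - 1) % p ^ i ≤ p ^ a - 1 := Nat.mod_le _ _
    obtain ⟨u, hu⟩ := h2
    obtain ⟨v, hv⟩ := pow_dvd_pow p hai
    rw [hu, hv] at h3 hi
    have huv : u + 1 ≤ v := Nat.lt_of_mul_lt_mul_left h3
    have h5 := Nat.mul_le_mul_left (p ^ a) huv
    rw [Nat.mul_succ] at h5
    rw [hv] at h4
    omega


/-- A `k`-homogeneous permutation group of degree `n`, `k ≥ 2`, with `k + q - 1 ≤ n` for every prime power `q` dividing `k`, is `(k-1)`-homogeneous. -/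
theorem result {α : Type*} [Fintype α] [DecidableEq α] (G : Subgroup (Equiv.Perm α)) {k : ℕ} (hk : 2 ≤ k) (hG : MulAction.IsPretransitive G (Set.powersetCard α k)) (hq : ∀ q : ℕ, IsPrimePow q → q ∣ k → k + q - 1 ≤ Fintype.card α) : MulAction.IsPretransitive G (Set.powersetCard α (k - 1)) := by
  classical
  refine ⟨fun A B => ?_⟩
  let O : Finset (Finset α) := Finset.univ.image fun g : G => g • (A : Finset α)
  have hOcard : ∀ C ∈ O, C.card = k - 1 := by
    intro C hC
    obtain ⟨g, -, rfl⟩ := Finset.mem_image.1 hC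
    rw [Finset.card_smul_finset]
    exact Set.powersetCard.mem_iff.1 A.2
  let c : Finset α → ℕ := fun K => (O.filter (· ⊆ K)).card
  have hcinv : ∀ (g : G) (K : Finset α), c (g • K) = c K := by
    intro g K
    refine (Finset.card_bij' (fun C _ => g • C) (fun C _ => g⁻¹ • C) ?_ ?_
      (fun C _ => inv_smul_smul g C) (fun C _ => smul_inv_smul g C)).symm
    · intro C hC
      rw [Finset.mem_filter] at hC ⊢
      obtain ⟨g', -, rfl⟩ := Finset.mem_image.1 hC.1
      exact ⟨Finset.mem_image.2 ⟨g * g', Finset.mem_univ _, mul_smul _ _ _⟩,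
        Finset.smul_finset_subset_smul_finset hC.2⟩
    · intro C hC
      rw [Finset.mem_filter] at hC ⊢
      obtain ⟨g', -, rfl⟩ := Finset.mem_image.1 hC.1
      refine ⟨Finset.mem_image.2 ⟨g⁻¹ * g', Finset.mem_univ _, mul_smul _ _ _⟩, ?_⟩
      rw [← inv_smul_smul g K]
      exact Finset.smul_finset_subset_smul_finset hC.2
  obtain ⟨q₀, hq₀, hq₀k⟩ : ∃ q, IsPrimePow q ∧ q ∣ k :=
    ⟨k.minFac, (Nat.minFac_prime (by omega)).isPrimePow, Nat.minFac_dvd k⟩
  have hkn : k + 1 ≤ Fintype.card α := by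
    have := hq q₀ hq₀ hq₀k
    have := hq₀.two_le
    omega
  obtain ⟨K₀, -, hK₀⟩ := Finset.exists_subset_card_eq (show k ≤ (Finset.univ : Finset α).card by
    rw [Finset.card_univ]; omega)
  have hconst : ∀ K : Finset α, K.card = k → c K = c K₀ := by
    intro K hK
    obtain ⟨g, hg⟩ := MulAction.exists_smul_eq G (⟨K₀, hK₀⟩ : Set.powersetCard α k) (⟨K, hK⟩ : Set.powersetCard α k)
    have := congrArg Subtype.val hg
    have hg' : g • K₀ = K := this
    rw [← hg', hcinv]
  have hcount : ∀ T : Finset α, k ≤ T.card →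
      T.card.choose k * c K₀ = (O.filter (· ⊆ T)).card * (T.card - (k - 1)) := by
    intro T hT
    have h1 := Finset.sum_card_bipartiteAbove_eq_sum_card_bipartiteBelow
      (s := T.powersetCard k) (t := O.filter (· ⊆ T)) (fun K C => C ⊆ K)
    have h2 : ∀ K ∈ T.powersetCard k,
        ((O.filter (· ⊆ T)).bipartiteAbove (fun K C => C ⊆ K) K).card = c K₀ := by
      intro K hK
      rw [Finset.mem_powersetCard] at hK
      rw [← hconst K hK.2]
      refine congrArg Finset.card ?_
      ext C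
      simp only [Finset.bipartiteAbove, Finset.mem_filter]
      exact ⟨fun h => ⟨h.1.1, h.2⟩, fun h => ⟨⟨h.1, h.2.trans hK.1⟩, h.2⟩⟩
    have h3 : ∀ C ∈ O.filter (· ⊆ T),
        ((T.powersetCard k).bipartiteBelow (fun K C => C ⊆ K) C).card = T.card - (k - 1) := by
      intro C hC
      rw [Finset.mem_filter] at hC
      have hCc := hOcard C hC.1
      rw [← hCc, ← Finset.card_sdiff_of_subset hC.2]
      refine (Finset.card_bij (fun x _ => insert x C) ?_ ?_ ?_).symm
      · intro x hx
        rw [Finset.mem_sdiff] at hx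
        simp only [Finset.bipartiteBelow, Finset.mem_filter, Finset.mem_powersetCard]
        exact ⟨⟨Finset.insert_subset hx.1 hC.2, by rw [Finset.card_insert_of_notMem hx.2, hCc]; omega⟩,
          Finset.subset_insert x C⟩
      · intro x hx y hy hxy
        rw [Finset.mem_sdiff] at hx
        have : x ∈ insert y C := hxy ▸ Finset.mem_insert_self x C
        exact (Finset.mem_insert.1 this).resolve_right hx.2
      · intro K hK
        simp only [Finset.bipartiteBelow, Finset.mem_filter, Finset.mem_powersetCard] at hK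
        have h4 : (K \ C).card = 1 := by rw [Finset.card_sdiff_of_subset hK.2, hCc, hK.1.2]; omega
        obtain ⟨x, hx⟩ := Finset.card_eq_one.1 h4
        have hxm : x ∈ K \ C := hx ▸ Finset.mem_singleton_self x
        rw [Finset.mem_sdiff] at hxm
        refine ⟨x, Finset.mem_sdiff.2 ⟨hK.1.1 hxm.1, hxm.2⟩, ?_⟩
        rw [Finset.insert_eq, ← hx]
        exact Finset.sdiff_union_of_subset hK.2
    rw [Finset.sum_congr rfl h2, Finset.sum_congr rfl h3, Finset.sum_const, Finset.sum_const,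
      Finset.card_powersetCard, smul_eq_mul, smul_eq_mul] at h1
    exact h1
  have hdvd : k ∣ c K₀ := by
    rw [Nat.dvd_iff_prime_pow_dvd_dvd]
    intro p a hp hpa
    rcases Nat.eq_zero_or_pos a with rfl | ha
    · simp
    have hle := hq (p ^ a) (hp.isPrimePow.pow ha.ne') hpa
    obtain ⟨T, -, hT⟩ := Finset.exists_subset_card_eq (show k + (p ^ a - 1) ≤ (Finset.univ : Finset α).card by
      rw [Finset.card_univ]; have := pow_pos hp.pos a; omega)
    have h1 := hcount T (by omega)
    rw [hT, Nat.choose_symm_add, show k + (p ^ a - 1) - (k - 1) = p ^ a by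
      have := pow_pos hp.pos a; omega] at h1
    exact Nat.Coprime.dvd_of_dvd_mul_left
      ((hp.coprime_iff_not_dvd.2 (prime_not_dvd_choose_pow hp hpa)).pow_left a)
      ⟨(O.filter (· ⊆ T)).card, by rw [h1, mul_comm]⟩
  have hBsub : ∀ C : Finset α, C.card = k - 1 → ∃ K, K.card = k ∧ C ⊆ K := by
    intro C hC
    obtain ⟨K, hCK, -, hK⟩ := Finset.exists_subsuperset_card_eq (Finset.subset_univ C)
      (show C.card ≤ k by omega) (by rw [Finset.card_univ]; omega)
    exact ⟨K, hK, hCK⟩
  have hAO : (A : Finset α) ∈ O := Finset.mem_image.2 ⟨1, Finset.mem_univ _, one_smul _ _⟩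
  obtain ⟨K₁, hK₁, hAK₁⟩ := hBsub A (hOcard _ hAO)
  have hpos : 0 < c K₀ := by
    rw [← hconst K₁ hK₁]
    exact Finset.card_pos.2 ⟨(A : Finset α), Finset.mem_filter.2 ⟨hAO, hAK₁⟩⟩
  have hck : k ≤ c K₀ := Nat.le_of_dvd hpos hdvd
  obtain ⟨K₂, hK₂, hBK₂⟩ := hBsub (B : Finset α) (Set.powersetCard.mem_iff.1 B.2)
  have hsub : O.filter (· ⊆ K₂) ⊆ K₂.powersetCard (k - 1) := fun C hC => by
    rw [Finset.mem_filter] at hC
    exact Finset.mem_powersetCard.2 ⟨hC.2, hOcard C hC.1⟩
  have heq : O.filter (· ⊆ K₂) = K₂.powersetCard (k - 1) := by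
    refine Finset.eq_of_subset_of_card_le hsub ?_
    rw [Finset.card_powersetCard, hK₂, Nat.choose_symm (by omega), Nat.choose_one_right]
    exact hck.trans (hconst K₂ hK₂).ge
  have hB : (B : Finset α) ∈ O.filter (· ⊆ K₂) := heq ▸
    Finset.mem_powersetCard.2 ⟨hBK₂, Set.powersetCard.mem_iff.1 B.2⟩
  obtain ⟨g, -, hg⟩ := Finset.mem_image.1 (Finset.mem_filter.1 hB).1
  exact ⟨g, Subtype.ext hg⟩

end Cfsg.Agent.S0736
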