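import Cfsg.Statements.S0739
import Cfsg.Agent.Lib.Char.FrobeniusKernel
import Cfsg.Agent.Lib.Solvable.FixedPointFree
import Cfsg.Agent.Lib.Transfer.Fusion
import Mathlib.GroupTheory.SpecificGroups.ZGroup
import Mathlib.GroupTheory.GroupAction.MultipleTransitivity
-- import your own Cfsg.Agent.* helpers here

set_option autoImplicit false
set_option linter.style.haveILetI false
open Cfsg

namespace Cfsg.Agent.S0739


variable {G Ω : Type*} [Group G] [MulAction G Ω]

/-- The elements preserving the pair `{a, b}`. -/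
def pairStab (a b : Ω) : Subgroup G where
  carrier := {g | (g • a = a ∧ g • b = b) ∨ (g • a = b ∧ g • b = a)}
  one_mem' := Or.inl ⟨one_smul _ _, one_smul _ _⟩
  mul_mem' := by
    rintro g h (⟨g1, g2⟩ | ⟨g1, g2⟩) (⟨h1, h2⟩ | ⟨h1, h2⟩) <;>
      simp only [Set.mem_setOf_eq, mul_smul, h1, h2, g1, g2, and_self, true_or, or_true]
  inv_mem' := by
    rintro g (⟨g1, g2⟩ | ⟨g1, g2⟩)
    · exact Or.inl ⟨inv_smul_eq_iff.2 g1.symm, inv_smul_eq_iff.2 g2.symm⟩
    · exact Or.inr ⟨inv_smul_eq_iff.2 g2.symm, inv_smul_eq_iff.2 g1.symm⟩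


/-- In a finite Zassenhaus group whose two-point stabiliser `H = G_{a,b}` has odd order `d`, and which has no normal `q`-complement for any prime `q ∣ d`, `H` is cyclic, `C_G(H) = H`, and every element swapping `a` and `b` inverts each element of `H`. -/
theorem result {G Ω : Type*} [Group G] [Finite G] [MulAction G Ω] [Fintype Ω] (hZ : Cfsg.IsZassenhausGroup G Ω) {a b : Ω} (hab : a ≠ b) (hodd : Odd (Nat.card ↥(MulAction.stabilizer G a ⊓ MulAction.stabilizer G b))) (hnil : ∀ q : ℕ, q.Prime → q ∣ Nat.card ↥(MulAction.stabilizer G a ⊓ MulAction.stabilizer G b) → ¬ ∃ N : Subgroup G, N.Normal ∧ N.index = q ^ (Nat.card G).factorization q) : IsCyclic ↥(MulAction.stabilizer G a ⊓ MulAction.stabilizer G b) ∧ Subgroup.centralizer ((MulAction.stabilizer G a ⊓ MulAction.stabilizer G b : Subgroup G) : Set G) = MulAction.stabilizer G a ⊓ MulAction.stabilizer G b ∧ ∀ s : G, s • a = b → s • b = a → ∀ h ∈ MulAction.stabilizer G a ⊓ MulAction.stabilizer G b, s * h * s⁻¹ = h⁻¹ := by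
  classical
  obtain ⟨hfaith, h2, h3, hnt, -⟩ := hZ
  have two : ∀ {x y u v : Ω}, x ≠ y → u ≠ v → ∃ g : G, g • x = u ∧ g • y = v :=
    MulAction.is_two_pretransitive_iff.1 h2
  set H := MulAction.stabilizer G a ⊓ MulAction.stabilizer G b with hH
  obtain ⟨g0, hg0, hg0H⟩ : ∃ g : G, g ≠ 1 ∧ g ∈ H := by
    obtain ⟨g, hg, x, y, hxy, hgx, hgy⟩ := hnt
    obtain ⟨k, hkx, hky⟩ := two hxy hab
    refine ⟨k * g * k⁻¹, fun h => hg (conj_eq_one_iff.1 h), ?_, ?_⟩
    · show (k * g * k⁻¹) • a = a
      rw [← hkx, mul_smul, mul_smul, inv_smul_smul, hgx]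
    · show (k * g * k⁻¹) • b = b
      rw [← hky, mul_smul, mul_smul, inv_smul_smul, hgy]
  have hfix : ∀ h ∈ H, h ≠ 1 → ∀ c : Ω, h • c = c → c = a ∨ c = b := by
    intro h hh h1 c hc
    by_contra hno
    rw [not_or] at hno
    exact h1 (h3 h a b c hab (Ne.symm hno.2) (Ne.symm hno.1) hh.1 hh.2 hc)
  have hnorm : ∀ g : G, ∀ h ∈ H, h ≠ 1 → g * h * g⁻¹ ∈ H → g ∈ pairStab a b := by
    intro g h hh h1 hgh
    have h1' : g * h * g⁻¹ ≠ 1 := fun e => h1 (conj_eq_one_iff.1 e)
    have fx : ∀ x : Ω, h • x = x → g • x = a ∨ g • x = b := fun x hx =>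
      hfix _ hgh h1' _ (by rw [mul_smul, mul_smul, inv_smul_smul, hx])
    rcases fx a hh.1 with ea | ea <;> rcases fx b hh.2 with eb | eb
    · exact absurd (smul_left_cancel g (ea.trans eb.symm)) hab
    · exact Or.inl ⟨ea, eb⟩
    · exact Or.inr ⟨ea, eb⟩
    · exact absurd (smul_left_cancel g (ea.trans eb.symm)) hab
  obtain ⟨c, hca, hcb⟩ : ∃ c : Ω, c ≠ a ∧ c ≠ b := by
    by_contra hno
    refine hg0 (hfaith.eq_of_smul_eq_smul fun z => ?_)
    rw [one_smul]
    by_cases hza : z = a
    · rw [hza]; exact hg0H.1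
    by_cases hzb : z = b
    · rw [hzb]; exact hg0H.2
    exact absurd ⟨z, hza, hzb⟩ hno
  -- the Frobenius group `G_a`
  have hHA : H ≤ MulAction.stabilizer G a := inf_le_left
  have hmal : Char.Malnormal (H.subgroupOf (MulAction.stabilizer G a)) := by
    intro g hg h hh hgh
    by_contra h1
    rcases hnorm (g : G) (h : G) hh (fun e => h1 (Subtype.ext e)) hgh with ⟨-, eb⟩ | ⟨ea, -⟩
    · exact hg ⟨g.2, eb⟩
    · exact hab ((g.2 : (g : G) • a = a).symm.trans ea)
  obtain ⟨K, hKn, hKi, hKc, -⟩ := Char.exists_frobenius_kernel hmal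
  have hKne : K.map (MulAction.stabilizer G a).subtype ≠ ⊥ := by
    intro h
    rw [Subgroup.map_eq_bot_iff_of_injective _ (Subgroup.subtype_injective _)] at h
    rw [h, Subgroup.isComplement'_bot_left] at hKc
    obtain ⟨g, hga, hgb⟩ := two hab (Ne.symm hca)
    have hgH : (⟨g, hga⟩ : MulAction.stabilizer G a) ∈ H.subgroupOf (MulAction.stabilizer G a) := hKc ▸ Subgroup.mem_top _
    exact hcb (hgb.symm.trans hgH.2)
  have hHK : H ≤ Subgroup.normalizer ((K.map (MulAction.stabilizer G a).subtype : Subgroup G) : Set G) := by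
    intro h hh
    refine Subgroup.mem_normalizer_iff.2 fun u => ⟨?_, ?_⟩
    · rintro ⟨v, hv, rfl⟩
      exact ⟨_, hKn.conj_mem v hv ⟨h, hHA hh⟩, rfl⟩
    · rintro ⟨v, hv, he⟩
      refine ⟨_, hKn.conj_mem v hv ⟨h, hHA hh⟩⁻¹, ?_⟩
      simp only [map_mul, map_inv, he]
      show h⁻¹ * (h * u * h⁻¹) * h⁻¹⁻¹ = u
      group
  have hAb : AbCyc.AbCyclic ↥H := by
    refine FpfStruct.abCyclic hKne hHK fun h hh h1 => ?_
    rw [eq_bot_iff]
    rintro u ⟨⟨v, hv, rfl⟩, hu⟩
    replace hu := Subgroup.mem_centralizer_singleton_iff.1 hu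
    have hv' : v ∈ H.subgroupOf (MulAction.stabilizer G a) := by
      by_contra hv'
      refine h1 (congrArg Subtype.val (hmal v hv' ⟨h, hHA hh⟩ hh ?_) :)
      show (v : G) * h * (v : G)⁻¹ ∈ H
      rw [show (v : G) * h = h * (v : G) from hu, mul_inv_cancel_right]
      exact hh
    have : v ∈ K ⊓ H.subgroupOf (MulAction.stabilizer G a) := ⟨hv, hv'⟩
    rw [hKi, Subgroup.mem_bot] at this
    rw [this]
    exact Subgroup.one_mem _
  haveI hZg : IsZGroup ↥H := by
    refine ⟨fun p hp P => ?_⟩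
    haveI := Fact.mk hp
    rcases FpfStruct.cyclic_or_quaternion P.2 (hAb.subgroup _) with h | ⟨rfl, -⟩
    · exact h
    · obtain ⟨k, hk⟩ := P.2.exists_card_eq
      rcases Nat.eq_zero_or_pos k with rfl | hk0
      · rw [pow_zero] at hk
        haveI := (Nat.card_eq_one_iff_unique.1 hk).1
        infer_instance
      · have h2d : 2 ∣ Nat.card ↥H := (show 2 ∣ Nat.card P by rw [hk]; exact dvd_pow_self 2 hk0.ne').trans (Subgroup.card_subgroup_dvd_card _)
        exact absurd h2d hodd.not_two_dvd_nat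
  have hsqrt : ∀ h : ↥H, h ∈ Subgroup.zpowers (h ^ 2) := by
    intro h
    obtain ⟨k, hk⟩ := hodd
    refine ⟨((k + 1 : ℕ) : ℤ), ?_⟩
    show (h ^ 2) ^ ((k + 1 : ℕ) : ℤ) = h
    rw [zpow_natCast, ← pow_mul, show 2 * (k + 1) = Nat.card ↥H + 1 by omega, pow_succ, pow_card_eq_one', one_mul]
  -- the main claim
  have hmain : ∀ s : G, s • a = b → s • b = a → IsCyclic ↥H ∧ ∀ h ∈ H, s * h * s⁻¹ = h⁻¹ := by
    intro s hsa hsb
    have hsi : s⁻¹ • a = b ∧ s⁻¹ • b = a := ⟨inv_smul_eq_iff.2 hsb.symm, inv_smul_eq_iff.2 hsa.symm⟩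
    have hcon : ∀ h ∈ H, s * h * s⁻¹ ∈ H := fun h hh => by
      refine ⟨?_, ?_⟩
      · show (s * h * s⁻¹) • a = a
        rw [mul_smul, mul_smul, hsi.1, (hh.2 : h • b = b), hsb]
      · show (s * h * s⁻¹) • b = b
        rw [mul_smul, mul_smul, hsi.2, (hh.1 : h • a = a), hsa]
    let cs : ↥H →* ↥H :=
      { toFun := fun h => ⟨s * (h : G) * s⁻¹, hcon h h.2⟩
        map_one' := Subtype.ext (by simp)
        map_mul' := fun g h => Subtype.ext (by simp only [Subgroup.coe_mul]; group) }
    have hs2 : s * s ∈ H := by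
      refine ⟨?_, ?_⟩
      · show (s * s) • a = a
        rw [mul_smul, hsa, hsb]
      · show (s * s) • b = b
        rw [mul_smul, hsb, hsa]
    have hcs2 : ∀ h : ↥H, cs (cs h) = ⟨s * s, hs2⟩ * h * (⟨s * s, hs2⟩ : ↥H)⁻¹ := fun h => Subtype.ext (by
      show s * (s * (h : G) * s⁻¹) * s⁻¹ = s * s * (h : G) * (s * s)⁻¹
      group)
    let σ : Abelianization ↥H →* Abelianization ↥H := Abelianization.map cs
    have hσ : ∀ h : ↥H, σ (Abelianization.of h) = Abelianization.of (cs h) := fun h => Abelianization.map_of _ h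
    let ψ : Abelianization ↥H →* Abelianization ↥H :=
      MonoidHom.mk' (fun x => σ x * x⁻¹) fun x y => by
        rw [map_mul, mul_inv]
        exact mul_mul_mul_comm _ _ _ _
    let R : Subgroup ↥H := ψ.range.comap Abelianization.of
    have hDR : ⁅pairStab (G := G) a b, pairStab (G := G) a b⁆ ≤ R.map H.subtype := by
      have hsplit : ∀ x ∈ pairStab (G := G) a b, (∃ h : ↥H, x = h) ∨ ∃ h : ↥H, x = (h : G) * s := by
        rintro x (⟨xa, xb⟩ | ⟨xa, xb⟩)
        · exact Or.inl ⟨⟨x, xa, xb⟩, rfl⟩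
        · refine Or.inr ⟨⟨x * s⁻¹, ?_, ?_⟩, (inv_mul_cancel_right x s).symm⟩
          · show (x * s⁻¹) • a = a
            rw [mul_smul, hsi.1, xb]
          · show (x * s⁻¹) • b = b
            rw [mul_smul, hsi.2, xa]
      rw [Subgroup.commutator_le]
      intro x hx y hy
      rcases hsplit x hx with ⟨h, rfl⟩ | ⟨h, rfl⟩ <;> rcases hsplit y hy with ⟨k, rfl⟩ | ⟨k, rfl⟩
      · refine ⟨h * k * h⁻¹ * k⁻¹, ⟨1, ?_⟩, by simp [commutatorElement_def]⟩
        rw [map_one]
        simp only [map_mul, map_inv]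
        rw [mul_comm (Abelianization.of h), mul_inv_cancel_right, mul_inv_cancel]
      · refine ⟨h * k * cs h⁻¹ * k⁻¹, ⟨Abelianization.of h⁻¹, ?_⟩, ?_⟩
        · show σ (Abelianization.of h⁻¹) * (Abelianization.of h⁻¹)⁻¹ = _
          rw [hσ]
          simp only [map_mul, map_inv, inv_inv]
          rw [mul_comm (Abelianization.of h) (Abelianization.of k), mul_assoc (Abelianization.of k), mul_comm (Abelianization.of k), mul_inv_cancel_right, mul_comm]
        · show (h : G) * k * (s * ((h : G)⁻¹) * s⁻¹) * (k : G)⁻¹ = _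
          simp only [commutatorElement_def]
          group
      · refine ⟨h * cs k * h⁻¹ * k⁻¹, ⟨Abelianization.of k, ?_⟩, ?_⟩
        · show σ (Abelianization.of k) * (Abelianization.of k)⁻¹ = _
          rw [hσ]
          simp only [map_mul, map_inv]
          rw [mul_comm (Abelianization.of h), mul_inv_cancel_right]
        · show (h : G) * (s * (k : G) * s⁻¹) * (h : G)⁻¹ * (k : G)⁻¹ = _
          simp only [commutatorElement_def]
          group
      · refine ⟨h * cs (k * h⁻¹) * k⁻¹, ⟨Abelianization.of (k * h⁻¹), ?_⟩, ?_⟩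
        · show σ (Abelianization.of (k * h⁻¹)) * (Abelianization.of (k * h⁻¹))⁻¹ = _
          rw [hσ]
          simp only [map_mul, map_inv, mul_inv, inv_inv]
          rw [mul_comm (Abelianization.of k)⁻¹, mul_comm (Abelianization.of h) (_ * _), mul_assoc _ (Abelianization.of h)]
        · show (h : G) * (s * ((k : G) * (h : G)⁻¹) * s⁻¹) * (k : G)⁻¹ = _
          simp only [commutatorElement_def]
          group
    have hR : R = ⊤ := by
      rw [← Subgroup.index_eq_one]
      refine Classical.byContradiction fun hne => ?_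
      obtain ⟨q, hq, hqR⟩ := Nat.exists_prime_and_dvd hne
      haveI := Fact.mk hq
      have hqd : q ∣ Nat.card ↥H := hqR.trans (Subgroup.index_dvd_card _)
      let Q : Sylow q ↥H := default
      refine Q.not_dvd_index (hqR.trans (Subgroup.index_dvd_of_le ?_))
      rw [← Subgroup.map_subtype_le_map_subtype]
      refine le_trans ?_ hDR
      set Q' : Subgroup G := (Q : Subgroup ↥H).map H.subtype with hQ'
      have hQ'H : Q' ≤ H := Subgroup.map_subtype_le _
      have hQpg : IsPGroup q Q' := Q.2.map _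
      obtain ⟨P, hP⟩ := hQpg.exists_le_sylow
      have hQne : Q' ≠ ⊥ := by
        rw [hQ', Ne, Subgroup.map_eq_bot_iff_of_injective _ H.subtype_injective]
        exact Q.ne_bot_of_dvd_card hqd
      have hND : ∀ g : G, g ∈ Subgroup.normalizer (Q' : Set G) → g ∈ pairStab a b := by
        intro g hg
        obtain ⟨x, hx, hx1⟩ := Q'.ne_bot_iff_exists_ne_one.1 hQne |> fun ⟨x, hx⟩ =>
          (⟨(x : G), x.2, fun e => hx (Subtype.ext e)⟩ : ∃ x : G, x ∈ Q' ∧ x ≠ 1)
        exact hnorm g x (hQ'H hx) hx1 (hQ'H ((Subgroup.mem_normalizer_iff.1 hg x).1 hx))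
      have hPH : ∀ x ∈ (P : Subgroup G), x ∈ H → x ∈ Q' := by
        intro x hxP hxH
        have hQR : (Q : Subgroup ↥H) ≤ (P : Subgroup G).subgroupOf H := fun y hy => hP ⟨y, hy, rfl⟩
        have hRQ := Q.3 (P.2.comap_of_injective H.subtype H.subtype_injective) hQR
        refine ⟨⟨x, hxH⟩, ?_, rfl⟩
        show (⟨x, hxH⟩ : ↥H) ∈ (Q : Subgroup ↥H)
        rw [← hRQ]
        exact hxP
      have hPQ : (P : Subgroup G) = Q' := by
        haveI : Group.IsNilpotent ↥(P : Subgroup G) := P.2.isNilpotent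
        refine le_antisymm ?_ hP
        by_contra hno
        have htop : Q'.subgroupOf (P : Subgroup G) < ⊤ := lt_top_iff_ne_top.2 fun h => hno (Subgroup.subgroupOf_eq_top.1 h)
        obtain ⟨x, hxN, hxQ⟩ := SetLike.exists_of_lt (normalizerCondition_of_isNilpotent _ htop)
        refine hxQ ?_
        have hxN' : (x : G) ∈ Subgroup.normalizer (Q' : Set G) := by
          refine Subgroup.mem_normalizer_iff.2 fun y => ⟨fun hy => ?_, fun hy => ?_⟩
          · exact (Subgroup.mem_normalizer_iff.1 hxN ⟨y, hP hy⟩).1 hy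
          · have hyP : y ∈ (P : Subgroup G) := by
              have := (P : Subgroup G).mul_mem ((P : Subgroup G).mul_mem ((P : Subgroup G).inv_mem x.2) (hP hy)) x.2
              simpa [mul_assoc] using this
            exact (Subgroup.mem_normalizer_iff.1 hxN ⟨y, hyP⟩).2 hy
        show (x : G) ∈ Q'
        refine hPH _ x.2 ?_
        obtain ⟨k, hk⟩ := P.2 x
        have hqodd : Odd q := (Odd.of_dvd_nat hodd hqd)
        have hxk : (x : G) ^ q ^ k = 1 := congrArg Subtype.val hk
        rcases hND _ hxN' with hh | ⟨ha', hb'⟩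
        · exact hh
        · exfalso
          have hev : ∀ m : ℕ, ((x : G) ^ (2 * m)) • a = a := by
            intro m
            induction m with
            | zero => rw [mul_zero, pow_zero, one_smul]
            | succ m ih =>
              rw [show 2 * (m + 1) = 2 * m + 1 + 1 by omega, pow_succ, pow_succ, mul_smul, mul_smul, ha', hb', ih]
          obtain ⟨m, hm⟩ := hqodd.pow (n := k)
          refine hab ?_
          have h1 : ((x : G) ^ q ^ k) • b = a := by rw [hm, pow_succ, mul_smul, hb', hev]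
          rw [hxk, one_smul] at h1
          exact h1.symm
      have hPD : (P : Subgroup G) ≤ pairStab a b := hPQ ▸ fun x hx => Or.inl ⟨(hQ'H hx).1, (hQ'H hx).2⟩
      haveI : IsCyclic ↥(P : Subgroup G) := by
        rw [hPQ]
        exact isCyclic_of_surjective _ ((Q : Subgroup ↥H).equivMapOfInjective H.subtype H.subtype_injective).surjective
      haveI : IsCyclic ↥((P.subtype hPD : Sylow q (pairStab (G := G) a b)) : Subgroup (pairStab (G := G) a b)) :=
        isCyclic_of_surjective _ (Subgroup.subgroupOfEquivOfLe hPD).symm.surjective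
      rcases Sylow.normalizer_le_centralizer_or_le_commutator (P.subtype hPD) with h | h
      · exfalso
        refine hnil q hq hqd ?_
        obtain ⟨P', N, hN, hcompl⟩ := Fusion.hasNormalPComplement_of_normalizer_le_centralizer P fun g hg => by
          have hgD : g ∈ pairStab a b := hND g (hPQ ▸ hg)
          have hgN : (⟨g, hgD⟩ : pairStab (G := G) a b) ∈ Subgroup.normalizer (((P.subtype hPD : Sylow q (pairStab (G := G) a b)) : Subgroup (pairStab (G := G) a b)) : Set (pairStab (G := G) a b)) :=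
            Subgroup.mem_normalizer_iff.2 fun y => Subgroup.mem_normalizer_iff.1 hg (y : G)
          exact Subgroup.mem_centralizer_iff.2 fun y hy =>
            (congrArg Subtype.val (Subgroup.mem_centralizer_iff.1 (h hgN) ⟨y, hPD hy⟩ hy) :)
        exact ⟨N, hN, by rw [hcompl.symm.index_eq_card, P'.card_eq_multiplicity]⟩
      · rw [← Subgroup.map_subtype_le_map_subtype, Sylow.coe_subtype, Subgroup.map_subgroupOf_eq_of_le hPD,
          Subgroup.map_subtype_commutator, hPQ] at h
        exact h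
    have hψ : Function.Injective ψ := by
      haveI : Finite (Abelianization ↥H) := Finite.of_surjective Abelianization.of QuotientGroup.mk_surjective
      refine Finite.injective_iff_surjective.2 fun x => ?_
      obtain ⟨h, rfl⟩ := QuotientGroup.mk_surjective x
      exact (hR ▸ Subgroup.mem_top h : h ∈ R)
    have hk0 : ∀ h : ↥H, cs h * h ∈ commutator ↥H := by
      intro h
      rw [← Abelianization.ker_of, MonoidHom.mem_ker, map_mul, ← hσ]
      have hx : ψ (σ (Abelianization.of h) * Abelianization.of h) = ψ 1 := by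
        rw [map_one]
        show σ _ * (_)⁻¹ = 1
        rw [map_mul, hσ, hσ, hcs2, map_mul, map_mul, map_inv, mul_comm (Abelianization.of (⟨s * s, hs2⟩ : ↥H)),
          mul_inv_cancel_right, mul_comm (Abelianization.of h), mul_inv_cancel]
      exact hψ hx
    haveI hK0 : IsCyclic ↥(commutator ↥H) := IsZGroup.isCyclic_commutator _
    have hcK : ∀ w ∈ commutator ↥H, cs w ∈ commutator ↥H := fun w hw => by
      rw [← Abelianization.ker_of, MonoidHom.mem_ker] at hw ⊢
      rw [← hσ, hw, map_one]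
    have hcen : commutator ↥H ≤ Subgroup.center ↥H := by
      letI := IsCyclic.commGroup (α := ↥(commutator ↥H))
      intro k hk
      rw [Subgroup.mem_center_iff]
      intro h
      set w : ↥H := (⟨s * s, hs2⟩ : ↥H)⁻¹ * k * ⟨s * s, hs2⟩ with hw
      have hwK : w ∈ commutator ↥H := by
        have := (inferInstance : (commutator ↥H).Normal).conj_mem k hk (⟨s * s, hs2⟩ : ↥H)⁻¹
        rwa [inv_inv] at this
      have hy : cs (cs w) = k := by
        rw [hcs2, hw]
        group
      let act : ↥(commutator ↥H) →* ↥(commutator ↥H) := (MulAut.conjNormal h : MulAut _).toMonoidHom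
      obtain ⟨i, hi⟩ := MonoidHom.map_cyclic act
      have hpow : ∀ z ∈ commutator ↥H, h * z * h⁻¹ = z ^ i := fun z hz => by
        have := congrArg Subtype.val (hi ⟨z, hz⟩)
        rw [SubgroupClass.coe_zpow] at this
        rwa [show act ⟨z, hz⟩ = MulAut.conjNormal h ⟨z, hz⟩ from rfl, MulAut.conjNormal_apply] at this
      have h1 : cs (h * cs w * h⁻¹) = h * k * h⁻¹ := by
        rw [hpow _ (hcK w hwK), map_zpow, hy, hpow k hk]
      rw [map_mul, map_mul, map_inv, hy] at h1
      set e := h⁻¹ * k * h with he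
      have heK : e ∈ commutator ↥H := by
        have := (inferInstance : (commutator ↥H).Normal).conj_mem k hk h⁻¹
        rwa [inv_inv] at this
      have hc : (cs h * h) * e = e * (cs h * h) :=
        (congrArg Subtype.val (mul_comm (⟨_, hk0 h⟩ : ↥(commutator ↥H)) ⟨e, heK⟩) :)
      have h3 : h⁻¹ * k * h = h * k * h⁻¹ := by
        rw [← h1]
        calc h⁻¹ * k * h = e * (cs h * h) * (cs h * h)⁻¹ := by rw [mul_inv_cancel_right]
          _ = (cs h * h) * e * (cs h * h)⁻¹ := by rw [hc]
          _ = cs h * k * (cs h)⁻¹ := by rw [he]; group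
      have h4 : Commute (h ^ 2) k := by
        show h ^ 2 * k = k * h ^ 2
        calc h ^ 2 * k = h * (h * k * h⁻¹) * h := by rw [pow_two]; group
          _ = h * (h⁻¹ * k * h) * h := by rw [h3]
          _ = k * h ^ 2 := by rw [pow_two]; group
      obtain ⟨j, hj⟩ := hsqrt h
      have h5 := h4.zpow_left j
      rw [show (h ^ 2) ^ j = h from hj] at h5
      exact h5
    haveI : Group.IsNilpotent ↥H :=
      Subgroup.isNilpotent_of_ker_le_center Abelianization.of (by rw [Abelianization.ker_of]; exact hcen)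
    haveI hcyc : IsCyclic ↥H := inferInstance
    refine ⟨hcyc, fun h hh => ?_⟩
    have hbot : commutator ↥H = ⊥ := by
      letI := IsCyclic.commGroup (α := ↥H)
      rw [commutator_def, eq_bot_iff, Subgroup.commutator_le]
      intro x _ y _
      rw [commutatorElement_eq_one_iff_mul_comm.2 (mul_comm x y)]
      exact Subgroup.one_mem _
    have h6 := hk0 ⟨h, hh⟩
    rw [hbot, Subgroup.mem_bot] at h6
    exact eq_inv_of_mul_eq_one_left (congrArg Subtype.val h6 :)
  obtain ⟨s, hsa, hsb⟩ := two hab (Ne.symm hab)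
  obtain ⟨hcyc, hinv⟩ := hmain s hsa hsb
  refine ⟨hcyc, le_antisymm (fun g hg => ?_) (fun g hg => ?_), fun t hta htb => (hmain t hta htb).2⟩
  · have hc := Subgroup.mem_centralizer_iff.1 hg g0 hg0H
    have hgg : g * g0 * g⁻¹ = g0 := by rw [← hc, mul_inv_cancel_right]
    rcases hnorm g g0 hg0H hg0 (hgg.symm ▸ hg0H) with hh | ⟨ha', hb'⟩
    · exact hh
    · exfalso
      have h1 := (hmain g ha' hb').2 g0 hg0H
      rw [hgg] at h1
      obtain ⟨j, hj⟩ := hsqrt ⟨g0, hg0H⟩
      have h2' : (⟨g0, hg0H⟩ : ↥H) ^ 2 = 1 := Subtype.ext (by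
        rw [SubgroupClass.coe_pow, Subgroup.coe_one, pow_two]
        exact mul_eq_one_iff_eq_inv.2 h1)
      refine hg0 ?_
      rw [show (⟨g0, hg0H⟩ : ↥H) ^ 2 = 1 from h2'] at hj
      simp only [one_zpow] at hj
      exact (congrArg Subtype.val hj.symm :)
  · refine Subgroup.mem_centralizer_iff.2 fun x hx => ?_
    letI := IsCyclic.commGroup (α := ↥H)
    exact (congrArg Subtype.val (mul_comm (⟨x, hx⟩ : ↥H) ⟨g, hg⟩) :)

end Cfsg.Agent.S0739
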