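import Cfsg.Statements.S0740
import Mathlib.GroupTheory.GroupAction.MultipleTransitivity
import Mathlib.GroupTheory.PGroup
import Mathlib.GroupTheory.Perm.Cycle.Type
import Mathlib.Data.Set.Card
-- import your own Cfsg.Agent.* helpers here

set_option autoImplicit false
set_option linter.style.haveILetI false
open Cfsg

namespace Cfsg.Agent.S0740

/-- In a finite Zassenhaus group any two points `a ≠ b` are swapped by an involution; every such involution has exactly one fixed point when the degree is odd and 0 or 2 fixed points when the degree is even; and if the two-point stabiliser has even order, some such involution has exactly 2 fixed points. -/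
theorem result {G Ω : Type*} [Group G] [Finite G] [MulAction G Ω] [Fintype Ω] (hZ : Cfsg.IsZassenhausGroup G Ω) {a b : Ω} (hab : a ≠ b) : (∃ s : G, orderOf s = 2 ∧ s • a = b ∧ s • b = a) ∧ (∀ s : G, orderOf s = 2 → s • a = b → s • b = a → (Odd (Fintype.card Ω) → Nat.card (MulAction.fixedBy Ω s) = 1) ∧ (Even (Fintype.card Ω) → Nat.card (MulAction.fixedBy Ω s) = 0 ∨ Nat.card (MulAction.fixedBy Ω s) = 2)) ∧ (Even (Fintype.card Ω) → Even (Nat.card ↥(MulAction.stabilizer G a ⊓ MulAction.stabilizer G b)) → ∃ s : G, orderOf s = 2 ∧ s • a = b ∧ s • b = a ∧ Nat.card (MulAction.fixedBy Ω s) = 2) := by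
  classical
  obtain ⟨hfaith, h2, h3, -, -⟩ := hZ
  haveI := Fact.mk Nat.prime_two
  have htwo : ∀ {x y u v : Ω}, x ≠ y → u ≠ v → ∃ g : G, g • x = u ∧ g • y = v :=
    fun hxy huv => (MulAction.is_two_pretransitive_iff.1 h2) hxy huv
  have hmove : ∀ g : G, g ≠ 1 → ∃ x : Ω, g • x ≠ x := fun g hg => by
    refine Classical.byContradiction fun hno => hg (hfaith.eq_of_smul_eq_smul fun x => ?_)
    rw [one_smul]
    exact Classical.byContradiction fun hx => hno ⟨x, hx⟩
  -- an involution moving x to y gives one swapping a and b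
  have hswap : ∀ t : G, orderOf t = 2 → ∃ g : G,
      orderOf (g * t * g⁻¹) = 2 ∧ (g * t * g⁻¹) • a = b ∧ (g * t * g⁻¹) • b = a := by
    intro t ht
    obtain ⟨x, hx⟩ := hmove t fun e => by rw [e, orderOf_one] at ht; omega
    have htt : t • t • x = x := by rw [← mul_smul, ← sq, ← ht, pow_orderOf_eq_one, one_smul]
    obtain ⟨g, hga, hgb⟩ := htwo (Ne.symm hx) hab
    refine ⟨g, ?_, ?_, ?_⟩
    · rw [show g * t * g⁻¹ = (MulAut.conj g).toMonoidHom t from rfl,
        orderOf_injective _ (MulAut.conj g).injective, ht]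
    · rw [mul_smul, mul_smul, ← hga, inv_smul_smul, hgb]
    · rw [mul_smul, mul_smul, ← hgb, inv_smul_smul, htt, hga]
  have hle : ∀ t : G, t ≠ 1 → Nat.card (MulAction.fixedBy Ω t) ≤ 2 := by
    intro t ht
    by_contra hgt
    rw [Nat.card_coe_set_eq] at hgt
    obtain ⟨x, hx, y, hy, z, hz, hxy, hxz, hyz⟩ :=
      (Set.two_lt_ncard_iff (Set.toFinite _)).1 (not_le.1 hgt) |>.elim fun x h => h.elim fun y h =>
        h.elim fun z h => (⟨x, h.1, y, h.2.1, z, h.2.2.1, h.2.2.2.1, h.2.2.2.2.1, h.2.2.2.2.2⟩ :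
          ∃ x ∈ MulAction.fixedBy Ω t, ∃ y ∈ MulAction.fixedBy Ω t, ∃ z ∈ MulAction.fixedBy Ω t,
            x ≠ y ∧ x ≠ z ∧ y ≠ z)
    exact ht (h3 t x y z hxy hyz hxz hx hy hz)
  have hpar : ∀ t : G, orderOf t = 2 →
      Nat.card (MulAction.fixedBy Ω t) % 2 = Fintype.card Ω % 2 := by
    intro t ht
    have hp : IsPGroup 2 ↥(Subgroup.zpowers t) :=
      IsPGroup.of_card (n := 1) (by rw [Nat.card_zpowers, ht, pow_one])
    have h := hp.card_modEq_card_fixedPoints Ω
    have he : MulAction.fixedPoints ↥(Subgroup.zpowers t) Ω = MulAction.fixedBy Ω t := by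
      ext x
      refine ⟨fun hx => hx ⟨t, Subgroup.mem_zpowers t⟩, fun hx g => ?_⟩
      obtain ⟨i, hi⟩ := Subgroup.mem_zpowers_iff.1 g.2
      show (g : G) • x = x
      rw [← hi]
      exact MulAction.mem_fixedBy.1 (MulAction.fixedBy_subset_fixedBy_zpow Ω t i hx)
    rw [he, Nat.card_eq_fintype_card (α := Ω)] at h
    exact h.symm
  refine ⟨?_, fun s hs hsa hsb => ?_, fun heven hH => ?_⟩
  · obtain ⟨g, hga, hgb⟩ := htwo hab (Ne.symm hab)
    have hdvd : 2 ∣ Nat.card G := by
      have h1 : 2 ∣ orderOf g := by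
        by_contra hodd
        obtain ⟨m, hm⟩ : Odd (orderOf g) := Nat.not_even_iff_odd.1 fun he => hodd he.two_dvd
        have hg2 : g ^ 2 • a = a := by rw [sq, mul_smul, hga, hgb]
        have h2m : (g ^ (2 * m)) • a = a := by
          rw [pow_mul]
          induction m generalizing g with
          | zero => simp
          | succ m ih =>
            clear ih
            have : ∀ k : ℕ, (g ^ 2) ^ k • a = a := by
              intro k
              induction k with
              | zero => simp
              | succ k ih => rw [pow_succ, mul_smul, hg2, ih]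
            exact this _
        have h := congrArg (· • a) (pow_orderOf_eq_one g)
        simp only [hm, pow_succ', mul_smul, h2m, hga, one_smul] at h
        exact hab h.symm
      exact h1.trans (orderOf_dvd_natCard g)
    obtain ⟨t, ht⟩ := exists_prime_orderOf_dvd_card' 2 hdvd
    obtain ⟨k, hk⟩ := hswap t ht
    exact ⟨_, hk⟩
  · have h1 := hle s (fun e => by rw [e, orderOf_one] at hs; omega)
    have h2' := hpar s hs
    constructor
    · intro hodd
      rw [Nat.odd_iff.1 hodd] at h2'
      omega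
    · intro he
      rw [Nat.even_iff.1 he] at h2'
      omega
  · obtain ⟨t₀, ht₀⟩ := exists_prime_orderOf_dvd_card' 2 hH.two_dvd
    have ht : orderOf (t₀ : G) = 2 := by rw [Subgroup.orderOf_coe, ht₀]
    obtain ⟨g, hg1, hg2, hg3⟩ := hswap _ ht
    refine ⟨_, hg1, hg2, hg3, ?_⟩
    have hsub : ({g • a, g • b} : Set Ω) ⊆ MulAction.fixedBy Ω (g * (t₀ : G) * g⁻¹) := by
      rintro z (rfl | rfl)
      · show (g * (t₀ : G) * g⁻¹) • g • a = g • a
        rw [mul_smul, mul_smul, inv_smul_smul, show (t₀ : G) • a = a from t₀.2.1]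
      · show (g * (t₀ : G) * g⁻¹) • g • b = g • b
        rw [mul_smul, mul_smul, inv_smul_smul, show (t₀ : G) • b = b from t₀.2.2]
    have hge := Set.ncard_le_ncard hsub
    rw [Set.ncard_pair (fun e => hab (smul_left_cancel g e))] at hge
    have hle' := hle (g * (t₀ : G) * g⁻¹) (fun e => by rw [e, orderOf_one] at hg1; omega)
    rw [Nat.card_coe_set_eq] at hle' ⊢
    omega

end Cfsg.Agent.S0740
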