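import Cfsg.Statements.S0742
import Cfsg.Agent.S0741
import Cfsg.Agent.S0738
import Cfsg.Agent.Lib.Char.FrobeniusKernel
import Cfsg.Agent.Lib.Classical.ProjLine
import Mathlib.GroupTheory.GroupAction.MultipleTransitivity
import Mathlib.FieldTheory.Finite.GaloisField
import Mathlib.RingTheory.IntegralDomain
-- import your own Cfsg.Agent.* helpers here

set_option autoImplicit false
set_option linter.style.haveILetI false
open Cfsg

namespace Cfsg.Agent.S0742


open Matrix Projectivization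
open scoped LinearAlgebra.Projectivization

/-- Transport of an action by determinant one matrices. -/
theorem equiv_psl {G α : Type*} [Group G] [Finite G] [MulAction G α] [FaithfulSMul G α]
    {K : Type*} [Field K] [Finite K] (j : α ≃ ℙ K (Fin 2 → K))
    (hmatch : ∀ g : G, ∃ M : SpecialLinearGroup (Fin 2) K, ∀ x, j (g • x) = M • j x)
    (hcard : Nat.card (ProjectiveSpecialLinearGroup (Fin 2) K) ≤ Nat.card G) :
    Nonempty (G ≃* ProjectiveSpecialLinearGroup (Fin 2) K) := by
  choose φ hφ using hmatch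
  have hcen : ∀ M : SpecialLinearGroup (Fin 2) K, (∀ z : ℙ K (Fin 2 → K), M • z = z) →
      M ∈ Subgroup.center (SpecialLinearGroup (Fin 2) K) := by
    intro M hM
    have h0 := ProjLine.mem_center_of_fix (SpecialLinearGroup.toGL M) (hM ProjLine.p0) (hM ProjLine.p1) (hM ProjLine.p2)
    refine Subgroup.mem_center_iff.2 fun N => SpecialLinearGroup.toGL_injective ?_
    rw [map_mul, map_mul]
    exact Subgroup.mem_center_iff.1 h0 _
  let ψ : G → ProjectiveSpecialLinearGroup (Fin 2) K := fun g => QuotientGroup.mk' _ (φ g)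
  have hmul : ∀ g g', ψ (g * g') = ψ g * ψ g' := by
    intro g g'
    show QuotientGroup.mk' _ (φ (g * g')) = QuotientGroup.mk' _ (φ g) * QuotientGroup.mk' _ (φ g')
    rw [← map_mul, eq_comm]
    refine (QuotientGroup.eq).2 (hcen _ fun z => ?_)
    obtain ⟨x, rfl⟩ := j.surjective z
    rw [mul_smul, ← hφ, mul_smul g g', hφ g, hφ g', ← mul_smul (φ g), inv_smul_smul]
  refine ⟨MulEquiv.ofBijective (MonoidHom.mk' ψ hmul) ?_⟩
  have hinj : Function.Injective (MonoidHom.mk' ψ hmul) := by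
    rw [injective_iff_map_eq_one]
    intro g hg
    have h1 : φ g ∈ Subgroup.center (SpecialLinearGroup (Fin 2) K) := (QuotientGroup.eq_one_iff _).1 hg
    obtain ⟨r, hr, hr'⟩ := Matrix.SpecialLinearGroup.mem_center_iff.1 h1
    refine FaithfulSMul.eq_of_smul_eq_smul fun x : α => ?_
    rw [one_smul]
    apply j.injective
    rw [hφ]
    induction j x using Projectivization.ind with
    | h v hv =>
      rw [Projectivization.smul_mk, Projectivization.mk_eq_mk_iff']
      refine ⟨r, ?_⟩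
      rw [Matrix.SpecialLinearGroup.smul_def, ← hr', Matrix.scalar_apply]
      ext i
      simp [Matrix.mulVec_diagonal]
  haveI : Finite (ProjectiveSpecialLinearGroup (Fin 2) K) := Finite.of_surjective _ (QuotientGroup.mk'_surjective _)
  exact hinj.bijective_of_nat_card_le hcard

theorem aux_h {F : Type*} [Field F] {r v : F} (h : r ≠ 0) : r⁻¹ * (r * r * v) = r * v := by
  rw [← mul_assoc, ← mul_assoc, inv_mul_cancel₀ h, one_mul]

theorem aux_s {F : Type*} [Field F] {e v : F} (h : v ≠ 0) : e * v * v⁻¹ = e :=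
  mul_inv_cancel_right₀ h e

theorem aux_d {F : Type*} [Field F] {r : F} (h : r ≠ 0) : r * r⁻¹ = 1 :=
  mul_inv_cancel₀ h

theorem aux_field {F : Type*} [Field F] {x z : F} (h : z * x = 1 - z) : z = (1 + x)⁻¹ := by
  refine eq_inv_of_mul_eq_one_left ?_
  linear_combination h


/-- A finite Zassenhaus group of degree `n + 1` with two-point stabilisers of even order `d` satisfying `2d ≤ n - 1` has `n = p^f` for an odd prime `p` and is isomorphic to `PSL(2, p^f)`. -/
theorem result {G Ω : Type*} [Group G] [Finite G] [MulAction G Ω] [Fintype Ω] (hZ : Cfsg.IsZassenhausGroup G Ω) {a b : Ω} (hab : a ≠ b) (heven : Even (Nat.card ↥(MulAction.stabilizer G a ⊓ MulAction.stabilizer G b))) (hd : 2 * Nat.card ↥(MulAction.stabilizer G a ⊓ MulAction.stabilizer G b) ≤ Fintype.card Ω - 2) : ∃ (p f : ℕ) (K : Type) (_ : Field K) (_ : Fintype K), p.Prime ∧ p ≠ 2 ∧ Fintype.card K = p ^ f ∧ Fintype.card Ω = p ^ f + 1 ∧ Nonempty (G ≃* Matrix.ProjectiveSpecialLinearGroup (Fin 2) K) := by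
  classical
  have hZ' := hZ
  obtain ⟨hfaith, h2, h3, hnt, -⟩ := hZ
  haveI := hfaith
  have two : ∀ {x y u v : Ω}, x ≠ y → u ≠ v → ∃ g : G, g • x = u ∧ g • y = v :=
    MulAction.is_two_pretransitive_iff.1 h2
  have hd1 := Cfsg.Agent.S0741.result hZ' hab heven
  set H := MulAction.stabilizer G a ⊓ MulAction.stabilizer G b with hH
  set d := Nat.card ↥H with hdd
  haveI : Fact (Nat.Prime 2) := ⟨Nat.prime_two⟩
  have hdpos : 0 < d := Nat.card_pos
  have hd2 : 2 ≤ d := by obtain ⟨k, hk⟩ := heven; omega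
  obtain ⟨c', hca, hcb⟩ : ∃ c : Ω, c ≠ a ∧ c ≠ b := by
    haveI : Nontrivial ↥H := Finite.one_lt_card_iff_nontrivial.1 (by omega)
    obtain ⟨g, hg⟩ := exists_ne (1 : ↥H)
    by_contra hno
    refine hg (Subtype.ext (hfaith.eq_of_smul_eq_smul fun z => ?_))
    rw [Subgroup.coe_one, one_smul]
    by_cases hza : z = a
    · rw [hza]; exact g.2.1
    by_cases hzb : z = b
    · rw [hzb]; exact g.2.2
    exact absurd ⟨z, hza, hzb⟩ hno
  have hHfix : ∀ h ∈ H, h ≠ 1 → ∀ x : Ω, h • x = x → x = a ∨ x = b := by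
    intro h hh h1 x hx
    by_contra hno
    rw [not_or] at hno
    exact h1 (h3 h a b x hab (Ne.symm hno.2) (Ne.symm hno.1) hh.1 hh.2 hx)
  -- the Frobenius kernel
  set A := MulAction.stabilizer G a with hA
  have hmal : Char.Malnormal (H.subgroupOf A) := by
    intro g hg h hh hgh
    by_contra h1
    have hfx : ((g : G) * h * (g : G)⁻¹) • ((g : G) • b) = (g : G) • b := by
      rw [mul_smul, mul_smul, inv_smul_smul, show (h : G) • b = b from hh.2]
    rcases hHfix _ hgh (fun e => h1 (Subtype.ext (conj_eq_one_iff.1 e))) _ hfx with e | e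
    · exact hab (MulAction.injective (g : G) ((g.2 : (g : G) • a = a).trans e.symm))
    · exact hg ⟨g.2, e⟩
  obtain ⟨K0, hK0n, hK0i, hK0c, -⟩ := Char.exists_frobenius_kernel hmal
  set F := K0.map A.subtype with hF
  have hFle : F ≤ A := Subgroup.map_subtype_le _
  have hFK : F.subgroupOf A = K0 := Subgroup.comap_map_eq_self_of_injective A.subtype_injective K0
  have hFn : (F.subgroupOf A).Normal := hFK.symm ▸ hK0n
  have hreg : ∀ y z : Ω, y ≠ a → z ≠ a → ∃! u : F, (u : G) • y = z := by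
    have hex : ∀ y : Ω, y ≠ a → ∃ u : F, (u : G) • b = y := fun y hy => by
      obtain ⟨g, hga, hgb⟩ := two hab (Ne.symm hy)
      obtain ⟨⟨k, hk⟩, ⟨h, hh⟩, hkh⟩ : ∃ (k : K0) (h : H.subgroupOf A), (k : A) * h = ⟨g, hga⟩ :=
        ⟨_, _, hK0c.equiv_fst_mul_equiv_snd ⟨g, hga⟩⟩
      refine ⟨⟨(k : G), k, hk, rfl⟩, ?_⟩
      rw [← hgb, ← show (k : G) * (h : G) = g from congrArg Subtype.val hkh, mul_smul,
        show (h : G) • b = b from hh.2]
    have huniq : ∀ u : F, (u : G) • b = b → u = 1 := fun u hu => by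
      obtain ⟨k, hk, hku⟩ := u.2
      have h1 : k ∈ K0 ⊓ H.subgroupOf A :=
        ⟨hk, k.2, by show (k : G) • b = b; rw [show (k : G) = u from hku]; exact hu⟩
      rw [hK0i, Subgroup.mem_bot] at h1
      exact Subtype.ext (by rw [← hku, h1]; rfl)
    intro y z hy hz
    obtain ⟨u, rfl⟩ := hex y hy
    obtain ⟨v, rfl⟩ := hex z hz
    refine ⟨v * u⁻¹, by show ((v * u⁻¹ : F) : G) • (u : G) • b = (v : G) • b
                        rw [← mul_smul, ← Subgroup.coe_mul, inv_mul_cancel_right], fun w hw => ?_⟩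
    refine eq_mul_inv_of_mul_eq (inv_mul_eq_one.1 (huniq (v⁻¹ * (w * u)) ?_)).symm
    rw [Subgroup.coe_mul, mul_smul, Subgroup.coe_mul, mul_smul, hw, Subgroup.coe_inv, inv_smul_smul]
  obtain ⟨hFc, p, f, hp, hpow, hcardΩ⟩ := Cfsg.Agent.S0738.result hZ' hab hd1 F hFle hFn hreg
  haveI := hFc
  haveI := Fact.mk hp
  have hn3 : 2 * d + 1 = p ^ f := by
    have h1 : Fintype.card Ω - 2 = 2 * d := le_antisymm hd1 hd
    omega
  have hf0 : 0 < f := Nat.pos_of_ne_zero fun e => by rw [e, pow_zero] at hn3; omega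
  have hp2 : p ≠ 2 := fun e => by
    subst e
    have : 2 ∣ 2 ^ f := dvd_pow_self 2 hf0.ne'
    omega
  have hΩn : Nat.card Ω = p ^ f + 1 := by rw [Nat.card_eq_fintype_card, hcardΩ]
  letI : CommGroup F := { (inferInstance : Group F) with mul_comm := fun x y => mul_comm' x y }
  let pt : Additive F → Ω := fun n => ((Additive.toMul n : F) : G) • b
  have hptne : ∀ n, pt n ≠ a := fun n he => hab.symm (MulAction.injective ((Additive.toMul n : F) : G)
    (he.trans (hFle (Additive.toMul n : F).2 : ((Additive.toMul n : F) : G) • a = a).symm))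
  have hpt_inj : Function.Injective pt := fun x y hxy => Additive.toMul.injective
    ((hreg b (pt y) hab.symm (hptne y)).unique hxy rfl)
  have hpt_surj : ∀ x, x ≠ a → ∃ n, pt n = x := fun x hx => by
    obtain ⟨u, hu, -⟩ := hreg b x hab.symm hx
    exact ⟨Additive.ofMul u, hu⟩
  have hpt0 : pt 0 = b := by simp [pt]
  have hFcard : Nat.card (Additive F) = p ^ f := by
    have e : Additive F ≃ {x : Ω // x ≠ a} := Equiv.ofBijective (fun n => ⟨pt n, hptne n⟩)
      ⟨fun x y h => hpt_inj (congrArg Subtype.val h), fun ⟨x, hx⟩ => (hpt_surj x hx).imp fun n h => Subtype.ext h⟩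
    rw [Nat.card_congr e, Nat.card_eq_fintype_card, Fintype.card_subtype_compl, Fintype.card_subtype_eq, hcardΩ,
      Nat.add_sub_cancel]
  have hAHF : ∀ h : ↥H, ∀ u ∈ F, (h : G) * u * (h : G)⁻¹ ∈ F := fun h u hu =>
    hFn.conj_mem ⟨u, hFle hu⟩ hu ⟨h, h.2.1⟩
  let cHom : ↥H → (Additive F →+ Additive F) := fun h =>
    { toFun := fun n => Additive.ofMul ⟨_, hAHF h _ (Additive.toMul n).2⟩
      map_zero' := Additive.toMul.injective (Subtype.ext (by simp))
      map_add' := fun x y => Additive.toMul.injective (Subtype.ext (by simp [mul_assoc])) }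
  let c : ↥H →* AddMonoid.End (Additive F) :=
    { toFun := cHom
      map_one' := AddMonoidHom.ext fun n => Additive.toMul.injective (Subtype.ext (by
        show (1 : G) * ((Additive.toMul n : F) : G) * (1 : G)⁻¹ = ((Additive.toMul n : F) : G)
        simp))
      map_mul' := fun x y => AddMonoidHom.ext fun n => Additive.toMul.injective (Subtype.ext (by
        show ((x : G) * y) * ((Additive.toMul n : F) : G) * ((x : G) * y)⁻¹ =
          (x : G) * ((y : G) * ((Additive.toMul n : F) : G) * (y : G)⁻¹) * (x : G)⁻¹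
        group)) }
  have hpt_c : ∀ (h : ↥H) n, pt (c h n) = (h : G) • pt n := fun h n => by
    show ((h : G) * ((Additive.toMul n : F) : G) * (h : G)⁻¹) • b = _
    rw [mul_smul, mul_smul, inv_smul_eq_iff.2 (h.2.2 : (h : G) • b = b).symm]
  have hfree : ∀ v : Additive F, v ≠ 0 → ∀ h : ↥H, c h v = v → h = 1 := fun v hv h hh => Subtype.ext
    (Classical.byContradiction fun h1 => (hHfix (h : G) h.2 h1 (pt v) (by rw [← hpt_c, hh])).elim (hptne v)
      fun e => hv (hpt_inj (e.trans hpt0.symm)))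
  have hcinj : ∀ v : Additive F, v ≠ 0 → Function.Injective fun h => c h v := fun v hv x y hxy =>
    inv_mul_eq_one.1 (hfree v hv _ (by
      rw [map_mul]
      show c x⁻¹ (c y v) = v
      rw [← show c x v = c y v from hxy]
      show (c x⁻¹ * c x) v = v
      rw [← map_mul, inv_mul_cancel, map_one]; rfl))
  haveI : Finite (Additive F) := Finite.of_injective pt hpt_inj
  obtain ⟨n1, hn10⟩ : ∃ n1 : Additive F, n1 ≠ 0 := by
    obtain ⟨n, hn⟩ := hpt_surj c' hca
    exact ⟨n, fun e => hcb (by rw [← hn, e, hpt0])⟩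
  -- the unique involution of `H` and inversion by swappers
  obtain ⟨z, hz⟩ := exists_prime_orderOf_dvd_card' (G := ↥H) 2 (even_iff_two_dvd.1 heven)
  have hneg : ∀ t : ↥H, t ^ 2 = 1 → t ≠ 1 → ∀ n, c t n = -n := by
    intro t ht ht1 n
    refine eq_neg_of_add_eq_zero_left (Classical.byContradiction fun hne => ht1 (hfree _ hne t ?_))
    rw [map_add]
    show (c t * c t) n + c t n = c t n + n
    rw [← map_mul, ← pow_two, ht, map_one, add_comm]; rfl
  have hzu : ∀ t : ↥H, t ^ 2 = 1 → t ≠ 1 → t = z := fun t ht ht1 => hcinj n1 hn10 (by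
    show c t n1 = c z n1
    rw [hneg t ht ht1, hneg z (by rw [← hz, pow_orderOf_eq_one]) (fun e => by rw [e, orderOf_one] at hz; omega)])
  let I : Set G := {g | g ^ 2 = 1 ∧ g ≠ 1 ∧ ∃ x y : Ω, x ≠ y ∧ g • x = x ∧ g • y = y}
  have hfx2 : ∀ g ∈ I, Nat.card {x : Ω // g • x = x} = 2 := by
    rintro g ⟨-, hg1, x, y, hxy, hx, hy⟩
    rw [Nat.card_eq_two_iff]
    refine ⟨⟨x, hx⟩, ⟨y, hy⟩, fun e => hxy (congrArg Subtype.val e), Set.eq_univ_of_forall fun w => ?_⟩
    by_contra hw
    simp only [Set.mem_insert_iff, Set.mem_singleton_iff, not_or] at hw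
    exact hg1 (h3 g x y w hxy (fun e => hw.2 (Subtype.ext e.symm)) (fun e => hw.1 (Subtype.ext e.symm)) hx hy w.2)
  have hIc : ∀ g ∈ I, ∀ k : G, k * g * k⁻¹ ∈ I := by
    rintro g ⟨hg2, hg1, x, y, hxy, hx, hy⟩ k
    refine ⟨by rw [conj_pow, hg2, mul_one, mul_inv_cancel], fun e => hg1 (conj_eq_one_iff.1 e), k • x, k • y,
      (MulAction.injective k).ne hxy, ?_, ?_⟩ <;> rw [mul_smul, mul_smul, inv_smul_smul] <;> [rw [hx]; rw [hy]]
  let P : Type _ := {q : Ω × Ω // q.1 ≠ q.2}
  haveI : Fintype P := Fintype.ofFinite P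
  have hP : Nat.card P = (p ^ f + 1) * (p ^ f) := by
    have e : P ≃ (x : Ω) × {y : Ω // y ≠ x} :=
      { toFun := fun q => ⟨q.1.1, q.1.2, Ne.symm q.2⟩
        invFun := fun q => ⟨(q.1, q.2.1), Ne.symm q.2.2⟩
        left_inv := fun q => rfl
        right_inv := fun q => rfl }
    rw [Nat.card_congr e, Nat.card_sigma]
    simp only [Nat.card_eq_fintype_card, Fintype.card_subtype_compl, Fintype.card_subtype_eq, hcardΩ,
      Nat.add_sub_cancel, Finset.sum_const, Finset.card_univ, smul_eq_mul]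
  haveI : Fintype I := Fintype.ofFinite _
  have hI : Nat.card I * 2 = Nat.card P := by
    have h1 : Nat.card ((g : I) × {x : Ω // (g : G) • x = x}) = Nat.card I * 2 := by
      rw [Nat.card_sigma, Finset.sum_congr rfl fun (g : I) _ => hfx2 g g.2, Finset.sum_const, Finset.card_univ,
        smul_eq_mul, Nat.card_eq_fintype_card]
    rw [← h1]
    have hother : ∀ (g : I) (x : {x : Ω // (g : G) • x = x}), ∃! y : {x : Ω // (g : G) • x = x}, y ≠ x := fun g x => by
      obtain ⟨u, v, huv, huniv⟩ := Nat.card_eq_two_iff.1 (hfx2 g g.2)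
      have hw : ∀ w, w = u ∨ w = v := fun w => by
        have := huniv.symm ▸ Set.mem_univ w
        simpa using this
      rcases hw x with rfl | rfl
      · exact ⟨v, huv.symm, fun y hy => (hw y).resolve_left hy⟩
      · exact ⟨u, huv, fun y hy => (hw y).resolve_right hy⟩
    refine Nat.card_eq_of_bijective (fun q => (⟨(q.2.1, (hother q.1 q.2).choose.1), fun e =>
      (hother q.1 q.2).choose_spec.1 (Subtype.ext e.symm)⟩ : P)) ⟨?_, ?_⟩
    · rintro ⟨g, x⟩ ⟨g', x'⟩ e
      have e1 : x.1 = x'.1 := congrArg (fun q : P => q.1.1) e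
      have e2 : (hother g x).choose.1 = (hother g' x').choose.1 := congrArg (fun q : P => q.1.2) e
      obtain rfl : g = g' := by
        refine Subtype.ext ?_
        obtain ⟨k, hka, hkb⟩ := two (fun e' => (hother g x).choose_spec.1 (Subtype.ext e'.symm) :
          x.1 ≠ (hother g x).choose.1) hab
        have mk : ∀ g0 : G, g0 ^ 2 = 1 → g0 ≠ 1 → g0 • x.1 = x.1 → g0 • (hother g x).choose.1 = (hother g x).choose.1 →
            k * g0 * k⁻¹ = (z : G) := fun g0 q1 q2 q3 q4 => by
          have hm : k * g0 * k⁻¹ ∈ H := by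
            refine ⟨?_, ?_⟩
            · show (k * g0 * k⁻¹) • a = a
              rw [← hka, mul_smul, mul_smul, inv_smul_smul, q3]
            · show (k * g0 * k⁻¹) • b = b
              rw [← hkb, mul_smul, mul_smul, inv_smul_smul, q4]
          exact congrArg Subtype.val (hzu ⟨_, hm⟩ (Subtype.ext (by rw [SubgroupClass.coe_pow, Subgroup.coe_one, conj_pow, q1, mul_one, mul_inv_cancel]))
            (fun e' => q2 (conj_eq_one_iff.1 (congrArg Subtype.val e' :))))
        have m1 := mk g g.2.1 g.2.2.1 x.2 (hother g x).choose.2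
        have m2 := mk g' g'.2.1 g'.2.2.1 (e1 ▸ x'.2) (e2 ▸ (hother g' x').choose.2)
        exact mul_left_cancel (mul_right_cancel (m1.trans m2.symm))
      obtain rfl : x = x' := Subtype.ext e1
      rfl
    · rintro ⟨⟨u, v⟩, huv⟩
      obtain ⟨k, hka, hkb⟩ : ∃ k : G, k • a = u ∧ k • b = v := two hab huv
      have hgu : (k * (z : G) * k⁻¹) • u = u := by rw [← hka, mul_smul, mul_smul, inv_smul_smul, (z.2.1 : (z : G) • a = a)]
      have hgv : (k * (z : G) * k⁻¹) • v = v := by rw [← hkb, mul_smul, mul_smul, inv_smul_smul, (z.2.2 : (z : G) • b = b)]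
      have hzI : k * (z : G) * k⁻¹ ∈ I := hIc _ ⟨by
        rw [← SubgroupClass.coe_pow, ← hz, pow_orderOf_eq_one, Subgroup.coe_one],
        fun e => by
          have e' : z = 1 := Subtype.ext e
          rw [e', orderOf_one] at hz; omega, a, b, hab, z.2.1, z.2.2⟩ k
      refine ⟨⟨⟨_, hzI⟩, ⟨u, hgu⟩⟩, Subtype.ext (Prod.ext rfl ?_)⟩
      exact congrArg Subtype.val ((hother ⟨_, hzI⟩ ⟨u, hgu⟩).choose_spec.2 ⟨v, hgv⟩
        fun e => huv (congrArg Subtype.val e).symm).symm
  have hswI : ∀ s : G, s • a = b → s • b = a → s ∈ I := by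
    let M : P → Set G := fun q => {g | g ∈ I ∧ g • q.1.1 = q.1.2}
    have hMcard : ∀ q : P, Nat.card (M q) = Nat.card (M ⟨(a, b), hab⟩) := by
      rintro ⟨⟨u, v⟩, huv⟩
      obtain ⟨k, hka, hkb⟩ : ∃ k : G, k • a = u ∧ k • b = v := two hab huv
      symm
      refine Nat.card_eq_of_bijective (fun g => (⟨k * g.1 * k⁻¹, hIc _ g.2.1 k, ?_⟩ : M ⟨(u, v), huv⟩))
        ⟨fun g g' e => Subtype.ext (mul_left_cancel (mul_right_cancel (congrArg Subtype.val e :))), fun g => ?_⟩
      · show (k * g.1 * k⁻¹) • u = v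
        rw [← hka, mul_smul, mul_smul, inv_smul_smul, show g.1 • a = b from g.2.2, hkb]
      · refine ⟨⟨k⁻¹ * g.1 * k, by simpa using hIc _ g.2.1 k⁻¹, ?_⟩, Subtype.ext (by group)⟩
        show (k⁻¹ * g.1 * k) • a = b
        rw [mul_smul, mul_smul, hka, show g.1 • u = v from g.2.2, ← hkb, inv_smul_smul]
    have h1 : Nat.card ((g : I) × {x : Ω // (g : G) • x ≠ x}) = Nat.card P * Nat.card (M ⟨(a, b), hab⟩) := by
      have e : ((g : I) × {x : Ω // (g : G) • x ≠ x}) ≃ (q : P) × M q :=
        { toFun := fun t => ⟨⟨(t.2.1, (t.1 : G) • t.2.1), Ne.symm t.2.2⟩, ⟨t.1.1, t.1.2, rfl⟩⟩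
          invFun := fun t => ⟨⟨t.2.1, t.2.2.1⟩, ⟨t.1.1.1, by rw [show t.2.1 • t.1.1.1 = t.1.1.2 from t.2.2.2]; exact Ne.symm t.1.2⟩⟩
          left_inv := fun t => rfl
          right_inv := by
            rintro ⟨⟨⟨u, v⟩, huv⟩, g, hg, rfl : g • u = v⟩
            rfl }
      rw [Nat.card_congr e, Nat.card_sigma, Finset.sum_congr rfl fun q _ => hMcard q, Finset.sum_const,
        Finset.card_univ, smul_eq_mul, ← Nat.card_eq_fintype_card]
    have h2' : Nat.card ((g : I) × {x : Ω // (g : G) • x ≠ x}) = Nat.card I * (2 * d) := by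
      have hc2 : ∀ g : I, Nat.card {x : Ω // (g : G) • x ≠ x} = 2 * d := fun g => by
        have h1 := hfx2 g g.2
        rw [Nat.card_eq_fintype_card] at h1 ⊢
        rw [Fintype.card_subtype_compl, h1, hcardΩ]
        omega
      rw [Nat.card_sigma, Finset.sum_congr rfl fun g _ => hc2 g, Finset.sum_const,
        Finset.card_univ, smul_eq_mul, Nat.card_eq_fintype_card]
    have hM : Nat.card (M ⟨(a, b), hab⟩) = d := by
      rw [h1, ← hI] at h2'
      have hpos : 0 < Nat.card I := by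
        have : 0 < Nat.card P := Nat.card_pos_iff.2 ⟨⟨⟨(a, b), hab⟩⟩, inferInstance⟩
        omega
      rw [mul_assoc] at h2'
      have := Nat.eq_of_mul_eq_mul_left hpos h2'
      omega
    intro s hsa hsb
    have hSM : M ⟨(a, b), hab⟩ ⊆ (fun h : ↥H => (h : G) * s) '' Set.univ := by
      rintro g ⟨hgI, hgab⟩
      have hgab' : g • a = b := hgab
      have hgba : g • b = a := by
        conv_lhs => rw [← hgab', ← mul_smul, ← pow_two, hgI.1, one_smul]
      refine ⟨⟨g * s⁻¹, ?_, ?_⟩, trivial, inv_mul_cancel_right g s⟩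
      · show (g * s⁻¹) • a = a
        rw [mul_smul, inv_smul_eq_iff.2 hsb.symm, hgba]
      · show (g * s⁻¹) • b = b
        rw [mul_smul, inv_smul_eq_iff.2 hsa.symm, hgab']
    have heq : M ⟨(a, b), hab⟩ = (fun h : ↥H => (h : G) * s) '' Set.univ := by
      refine Set.eq_of_subset_of_ncard_le hSM ?_
      rw [← Nat.card_coe_set_eq (M _), hM, Set.ncard_image_of_injective _ (fun x y e => Subtype.ext (mul_right_cancel e)),
        Set.ncard_univ]
    exact ((heq ▸ ⟨1, trivial, one_mul s⟩ : s ∈ M ⟨(a, b), hab⟩)).1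
  obtain ⟨s0, hs0a, hs0b⟩ := two hab (Ne.symm hab)
  have hinv : ∀ s : G, s • a = b → s • b = a → ∀ h : ↥H, s * (h : G) = (h : G)⁻¹ * s := by
    intro s hsa hsb h
    have hm : s * (h : G) ∈ I := hswI _ (by rw [mul_smul, (h.2.1 : (h : G) • a = a), hsa])
      (by rw [mul_smul, (h.2.2 : (h : G) • b = b), hsb])
    have e1 : s * (h : G) = (s * (h : G))⁻¹ := eq_inv_of_mul_eq_one_left (by rw [← pow_two]; exact hm.1)
    have e2 : s⁻¹ = s := inv_eq_of_mul_eq_one_left (by rw [← pow_two]; exact (hswI s hsa hsb).1)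
    rw [_root_.mul_inv_rev, e2] at e1
    exact e1
  have hHc : ∀ x y : ↥H, x * y = y * x := fun x y => by
    have e1 := hinv s0 hs0a hs0b (x * y)
    rw [Subgroup.coe_mul, ← mul_assoc, hinv s0 hs0a hs0b x, mul_assoc, hinv s0 hs0a hs0b y, ← mul_assoc] at e1
    have e2 := mul_right_cancel e1
    rw [_root_.mul_inv_rev] at e2
    refine inv_injective (Subtype.ext ?_)
    rw [_root_.mul_inv_rev, _root_.mul_inv_rev, Subgroup.coe_mul, Subgroup.coe_mul, Subgroup.coe_inv, Subgroup.coe_inv]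
    exact e2.symm
  -- the field
  let S : Subring (AddMonoid.End (Additive F)) := Subring.closure (Set.range c)
  letI instS : CommRing S := Subring.closureCommRingOfComm (by
    rintro _ ⟨x, rfl⟩ _ ⟨y, rfl⟩; rw [← map_mul, hHc, map_mul])
  have hcS : ∀ h, c h ∈ S := fun h => Subring.subset_closure ⟨h, rfl⟩
  have hker : ∀ x : S, x ≠ 0 → ∀ n, (x : AddMonoid.End (Additive F)) n = 0 → n = 0 := by
    intro x hx n hn
    by_contra hn0
    let xx : Additive F →+ Additive F := (x : AddMonoid.End (Additive F))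
    let T := xx.ker
    have hinvT : ∀ (h : ↥H) m, m ∈ T → c h m ∈ T := fun h m hm => by
      show ((x : AddMonoid.End (Additive F)) * c h) m = 0
      rw [show (x : AddMonoid.End (Additive F)) * c h = c h * x from congrArg Subtype.val (mul_comm x ⟨c h, hcS h⟩)]
      show c h ((x : AddMonoid.End (Additive F)) m) = 0
      rw [show (x : AddMonoid.End (Additive F)) m = 0 from hm, map_zero]
    have hbig : d + 1 ≤ Nat.card T := by
      have : Nat.card (Option ↥H) ≤ Nat.card T := Nat.card_le_card_of_injective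
        (fun o => Option.elim o (⟨0, T.zero_mem⟩ : T) fun h => ⟨c h n, hinvT h n hn⟩) (by
          have hne : ∀ h : ↥H, c h n ≠ 0 := fun h e => hn0 (by
            have := congrArg (c h⁻¹) e
            rw [map_zero] at this
            rwa [show c h⁻¹ (c h n) = (c h⁻¹ * c h) n from rfl, ← map_mul, inv_mul_cancel, map_one] at this)
          intro u v e
          rcases u with _ | u <;> rcases v with _ | v <;> have e' := congrArg Subtype.val e <;>
            simp only [Option.elim] at e'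
          · rfl
          · exact absurd e'.symm (hne v)
          · exact absurd e' (hne u)
          · exact congrArg some (hcinj n hn0 e'))
      rwa [Finite.card_option] at this
    obtain ⟨k, hk⟩ := AddSubgroup.card_addSubgroup_dvd_card T
    rw [hFcard, ← hn3] at hk
    have hk1 : k = 1 := by
      rcases (show k = 0 ∨ k = 1 ∨ 2 ≤ k by omega) with h | h | h
      · rw [h, mul_zero] at hk; omega
      · exact h
      · have := Nat.mul_le_mul_left (Nat.card T) h
        omega
    have htop : T = ⊤ := AddSubgroup.eq_top_of_card_eq T (by rw [hFcard, ← hn3, hk, hk1, mul_one])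
    exact hx (Subtype.ext (AddMonoidHom.ext fun m => (htop ▸ AddSubgroup.mem_top m : m ∈ T)))
  let ev : S → Additive F := fun x => (x : AddMonoid.End (Additive F)) n1
  let evh : S →+ Additive F := AddMonoidHom.mk' ev fun x y => rfl
  have hev_inj : Function.Injective ev := fun x y hxy => sub_eq_zero.1 (Classical.byContradiction fun hne =>
    hn10 (hker _ hne n1 (show ((x : AddMonoid.End (Additive F)) - y) n1 = 0 from sub_eq_zero.2 hxy)))
  haveI : Finite S := Finite.of_injective ev hev_inj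
  have hev_bij : Function.Bijective ev := by
    refine ⟨hev_inj, fun n => ?_⟩
    have hbig : d + 1 ≤ Nat.card evh.range := by
      have hcn : ∀ h : ↥H, (⟨c h, hcS h⟩ : S) ≠ 0 := fun h e => hn10 (by
        have h1 : c h n1 = 0 := congrArg (fun x : S => (x : AddMonoid.End (Additive F)) n1) e
        have := congrArg (c h⁻¹) h1
        rw [map_zero] at this
        rwa [show c h⁻¹ (c h n1) = (c h⁻¹ * c h) n1 from rfl, ← map_mul, inv_mul_cancel, map_one] at this)
      have h1 : Nat.card (Option ↥H) ≤ Nat.card evh.range := Nat.card_le_card_of_injective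
        (fun o => (⟨ev (Option.elim o 0 fun h => ⟨c h, hcS h⟩), _, rfl⟩ : evh.range)) (by
          intro u v e
          have e' := hev_inj (congrArg Subtype.val e)
          rcases u with _ | u <;> rcases v with _ | v <;> simp only [Option.elim] at e'
          · rfl
          · exact absurd e'.symm (hcn v)
          · exact absurd e' (hcn u)
          · exact congrArg some (hcinj n1 hn10 (congrArg (fun x : S => (x : AddMonoid.End (Additive F)) n1) e')))
      rwa [Finite.card_option] at h1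
    obtain ⟨k, hk⟩ := AddSubgroup.card_addSubgroup_dvd_card evh.range
    rw [hFcard, ← hn3] at hk
    have hk1 : k = 1 := by
      rcases (show k = 0 ∨ k = 1 ∨ 2 ≤ k by omega) with h | h | h
      · rw [h, mul_zero] at hk; omega
      · exact h
      · have := Nat.mul_le_mul_left (Nat.card evh.range) h
        omega
    have htop : evh.range = ⊤ := AddSubgroup.eq_top_of_card_eq _ (by rw [hFcard, ← hn3, hk, hk1, mul_one])
    exact (htop ▸ AddSubgroup.mem_top n : n ∈ evh.range)
  haveI : Nontrivial S := ⟨⟨0, 1, fun he => hn10 (congrArg ev he.symm)⟩⟩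
  haveI : NoZeroDivisors S := ⟨fun {x y} hxy => by
    by_contra hno
    rw [not_or] at hno
    exact hn10 (hker y hno.2 n1 (hker x hno.1 _ (congrArg ev hxy)))⟩
  haveI : IsDomain S := NoZeroDivisors.to_isDomain S
  letI : Fintype S := Fintype.ofFinite S
  letI : Field S := Fintype.fieldOfDomain S
  letI : Fintype (GaloisField p f) := Fintype.ofFinite _
  have hScard : Nat.card S = p ^ f := by rw [Nat.card_eq_of_bijective ev hev_bij, hFcard]
  have θ : GaloisField p f ≃+* S := FiniteField.ringEquivOfCardEq (by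
    rw [← Nat.card_eq_fintype_card, ← Nat.card_eq_fintype_card, GaloisField.card p f hf0.ne', hScard])
  refine ⟨p, f, GaloisField p f, inferInstance, inferInstance, hp, hp2,
    by rw [← Nat.card_eq_fintype_card, GaloisField.card p f hf0.ne'], hcardΩ, ?_⟩
  -- coordinates
  set K := GaloisField p f with hK
  have hqK : Fintype.card K = p ^ f := by rw [← Nat.card_eq_fintype_card, GaloisField.card p f hf0.ne']
  have hchar : ringChar K ≠ 2 := by rw [ringChar.eq K p]; exact hp2
  have hhalf : Fintype.card K / 2 = d := by omega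
  let ψ : K → Ω := fun x => pt (ev (θ x))
  have hψinj : Function.Injective ψ := hpt_inj.comp (hev_inj.comp θ.injective)
  have hψsurj : ∀ x, x ≠ a → ∃ y, ψ y = x := fun x hx => by
    obtain ⟨n, rfl⟩ := hpt_surj x hx
    obtain ⟨y, rfl⟩ := hev_bij.2 n
    exact ⟨θ.symm y, by simp [ψ]⟩
  have hψne : ∀ y, ψ y ≠ a := fun y => hptne _
  have hψ0 : ψ 0 = b := by simp [ψ, ev, hpt0]
  have hcases : ∀ x, x = a ∨ ∃ y, ψ y = x := fun x => (em (x = a)).imp_right (hψsurj x)
  let η : K → G := fun x => ((Additive.toMul (ev (θ x)) : F) : G)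
  have hηa : ∀ x, η x • a = a := fun x => hFle (Additive.toMul (ev (θ x)) : F).2
  have hev_add : ∀ x y : S, ev (x + y) = ev x + ev y := fun x y => rfl
  have hη : ∀ x y, η x • ψ y = ψ (x + y) := fun x y => by
    show η x • (η y • b) = η (x + y) • b
    rw [← mul_smul]
    congr 1
    simp only [η, map_add, hev_add, toMul_add, Subgroup.coe_mul]
  let μ : ↥H → K := fun h => θ.symm ⟨c h, hcS h⟩
  have hμ : ∀ (h : ↥H) y, (h : G) • ψ y = ψ (μ h * y) := fun h y => by
    show (h : G) • pt (ev (θ y)) = pt (ev (θ (μ h * y)))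
    rw [← hpt_c, map_mul, RingEquiv.apply_symm_apply]
    rfl
  have hμ1 : ∀ h : ↥H, (h : G) • ψ 1 = ψ (μ h) := fun h => by rw [hμ, mul_one]
  have hμmul : ∀ h h', μ (h * h') = μ h * μ h' := fun h h' => hψinj (by
    rw [← hμ1, Subgroup.coe_mul, mul_smul, hμ1, hμ])
  have hμone : μ 1 = 1 := hψinj (by rw [← hμ1, Subgroup.coe_one, one_smul])
  have hμne : ∀ h, μ h ≠ 0 := fun h e => by
    have := hμmul h h⁻¹
    rw [mul_inv_cancel, hμone, e, zero_mul] at this
    exact one_ne_zero this
  have hμinv : ∀ h, μ h⁻¹ = (μ h)⁻¹ := fun h => eq_inv_of_mul_eq_one_left (by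
    rw [← hμmul, inv_mul_cancel, hμone])
  have hμinj : Function.Injective μ := fun h h' e => hcinj n1 hn10 (by
    show c h n1 = c h' n1
    rw [show c h = c h' from congrArg Subtype.val (θ.symm.injective e)])
  haveI : Fintype ↥H := Fintype.ofFinite _
  let μh : ↥H →* K := { toFun := μ, map_one' := hμone, map_mul' := hμmul }
  have hμpow : ∀ h, μ h ^ d = 1 := fun h => by
    show μh h ^ d = 1
    rw [← map_pow, hdd, pow_card_eq_one', map_one]
  have hsqiff : ∀ y : K, y ≠ 0 → (IsSquare y ↔ y ^ d = 1) := fun y hy => by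
    rw [FiniteField.isSquare_iff hchar hy, hhalf]
  have hsq : ∀ y : K, y ≠ 0 → IsSquare y → ∃ h, μ h = y := by
    intro y hy hys
    have hsub : Finset.univ.image μ ⊆ Polynomial.nthRootsFinset d (1 : K) := by
      intro w hw
      obtain ⟨h, -, rfl⟩ := Finset.mem_image.1 hw
      exact (Polynomial.mem_nthRootsFinset hdpos _).2 (hμpow h)
    have hle : (Polynomial.nthRootsFinset d (1 : K)).card ≤ d := by
      rw [Polynomial.nthRootsFinset_def]
      exact (Multiset.toFinset_card_le _).trans (Polynomial.card_nthRoots d 1)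
    have heq := Finset.eq_of_subset_of_card_le hsub (by
      rw [Finset.card_image_of_injective _ hμinj, Finset.card_univ, ← Nat.card_eq_fintype_card]
      exact hle)
    have hy' : y ∈ Finset.univ.image μ := heq ▸ (Polynomial.mem_nthRootsFinset hdpos (1 : K)).2 ((hsqiff y hy).1 hys)
    obtain ⟨h, -, rfl⟩ := Finset.mem_image.1 hy'
    exact ⟨h, rfl⟩
  have hμsq : ∀ h, IsSquare (μ h) := fun h => (hsqiff _ (hμne h)).2 (hμpow h)
  have hnn : ∀ u v : K, ¬ IsSquare u → ¬ IsSquare v → IsSquare (u / v) := by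
    intro u v hu hv
    have hu0 : u ≠ 0 := fun e => hu (e ▸ ⟨0, by simp⟩)
    have hv0 : v ≠ 0 := fun e => hv (e ▸ ⟨0, by simp⟩)
    have key : ∀ w : K, ¬ IsSquare w → w ≠ 0 → w ^ d = -1 := fun w hw hw0 => by
      rcases FiniteField.pow_dichotomy hchar hw0 with e | e <;> rw [hhalf] at e
      · exact absurd ((hsqiff w hw0).2 e) hw
      · exact e
    refine (hsqiff _ (div_ne_zero hu0 hv0)).2 ?_
    rw [div_pow, key u hu hu0, key v hv hv0, div_self (neg_ne_zero.2 one_ne_zero)]
  have hz1 : z ≠ 1 := fun e => by rw [e, orderOf_one] at hz; omega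
  have hz2 : z * z = 1 := by rw [← pow_two, ← hz, pow_orderOf_eq_one]
  have hμz : μ z = -1 :=
    (mul_self_eq_one_iff.1 (by rw [← hμmul, hz2, hμone] : μ z * μ z = 1)).resolve_left fun e =>
      hz1 (hμinj (e.trans hμone.symm))
  -- normalise the swapper
  obtain ⟨γ, hγ⟩ : ∃ γ, ψ γ = s0 • ψ 1 := hψsurj _ fun e => one_ne_zero (hψinj
    ((MulAction.injective s0 (e.trans hs0b.symm)).trans hψ0.symm) : (1 : K) = 0)
  have hγ0 : γ ≠ 0 := fun e => hψne 1 (MulAction.injective s0 (by
    show s0 • ψ 1 = s0 • a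
    rw [← hγ, e, hψ0, hs0a]))
  have hs0μ : ∀ h : ↥H, s0 • ψ (μ h) = ψ ((μ h)⁻¹ * γ) := fun h => by
    rw [← hμ1, ← mul_smul, hinv s0 hs0a hs0b h, mul_smul, ← hγ, ← Subgroup.coe_inv, hμ, hμinv]
  have hs00 : ∀ w : Ω, s0 • s0 • w = w := fun w => by
    rw [← mul_smul, ← pow_two, (hswI s0 hs0a hs0b).1, one_smul]
  have hγsq : IsSquare γ := by
    obtain ⟨-, -, w1, w2, -, hw1, -⟩ := hswI s0 hs0a hs0b
    obtain ⟨u, rfl⟩ := hψsurj w1 fun e => hab (by rw [e, hs0a] at hw1; exact hw1.symm)
    have hu0 : u ≠ 0 := fun e => hab (by rw [e, hψ0, hs0b] at hw1; exact hw1)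
    by_contra hns
    refine hns ⟨u, ?_⟩
    by_cases hu : IsSquare u
    · obtain ⟨h, rfl⟩ := hsq u hu0 hu
      rw [hs0μ] at hw1
      have e := hψinj hw1
      rw [inv_mul_eq_iff_eq_mul₀ hu0] at e
      exact e
    · obtain ⟨k, hk⟩ := hsq (u / γ) (div_ne_zero hu0 hγ0) (hnn u γ hu hns)
      have e1 : ψ u = (k : G) • s0 • ψ 1 := by rw [← hγ, hμ, hk, div_mul_cancel₀ u hγ0]
      rw [e1, ← mul_smul s0, hinv s0 hs0a hs0b k, mul_smul, hs00, ← e1, ← Subgroup.coe_inv, hμ1, hμinv, hk,
        inv_div] at hw1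
      exact (div_eq_iff hu0).1 (hψinj hw1)
  obtain ⟨h0, hh0⟩ := hsq γ⁻¹ (inv_ne_zero hγ0) (by obtain ⟨r, hr⟩ := hγsq; exact ⟨r⁻¹, by rw [hr, mul_inv]⟩)
  let s : G := (h0 : G) * s0
  have hsa : s • a = b := by rw [mul_smul, hs0a]; exact h0.2.2
  have hsb : s • b = a := by rw [mul_smul, hs0b]; exact h0.2.1
  have hss : ∀ w : Ω, s • s • w = w := fun w => by
    rw [← mul_smul, ← pow_two, (hswI s hsa hsb).1, one_smul]
  have hs1 : s • ψ 1 = ψ 1 := by rw [mul_smul, ← hγ, hμ, hh0, inv_mul_cancel₀ hγ0]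
  have hsh : ∀ (h : ↥H) (w : Ω), s • (h : G) • w = ((h⁻¹ : ↥H) : G) • s • w := fun h w => by
    rw [← mul_smul, hinv s hsa hsb h, mul_smul, Subgroup.coe_inv]
  have hssq : ∀ u : K, u ≠ 0 → IsSquare u → s • ψ u = ψ u⁻¹ := fun u hu0 hu => by
    obtain ⟨h, rfl⟩ := hsq u hu0 hu
    rw [← hμ1, hsh, hs1, hμ1, hμinv]
  obtain ⟨x, hx0, hxs, hy⟩ : ∃ x : K, x ≠ 0 ∧ IsSquare x ∧ ¬ IsSquare (1 + x) := by
    by_contra hno
    have hadd : ∀ u v : K, IsSquare u → IsSquare v → IsSquare (u + v) := fun u v hu hv => by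
      by_cases hu0 : u = 0
      · rw [hu0, zero_add]; exact hv
      by_cases hv0 : v = 0
      · rw [hv0, add_zero]; exact hu
      have h1 : IsSquare (1 + v / u) := Classical.byContradiction fun h1 =>
        hno ⟨v / u, div_ne_zero hv0 hu0, hv.div hu, h1⟩
      have := hu.mul h1
      rwa [mul_add, mul_one, mul_div_cancel₀ v hu0] at this
    let Q : AddSubgroup K :=
      { carrier := {u | IsSquare u}
        zero_mem' := ⟨0, by simp⟩
        add_mem' := fun hu hv => hadd _ _ hu hv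
        neg_mem' := fun {u} hu => by
          have := (hμsq z).mul hu
          rwa [hμz, neg_one_mul] at this }
    have hQ : Nat.card Q = d + 1 := by
      rw [← Finite.card_option]
      symm
      refine Nat.card_eq_of_bijective (fun o => (⟨Option.elim o 0 μ, by
        cases o with
        | none => exact ⟨0, by simp⟩
        | some h => exact hμsq h⟩ : Q)) ⟨fun o o' e => ?_, fun ⟨u, hu⟩ => ?_⟩
      · have e' := congrArg Subtype.val e
        rcases o with _ | o <;> rcases o' with _ | o' <;> simp only [Option.elim] at e'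
        · rfl
        · exact absurd e'.symm (hμne o')
        · exact absurd e' (hμne o)
        · rw [hμinj e']
      · by_cases hu0 : u = 0
        · exact ⟨none, Subtype.ext hu0.symm⟩
        · obtain ⟨h, hh⟩ := hsq u hu0 hu
          exact ⟨some h, Subtype.ext hh⟩
    obtain ⟨k, hk⟩ := AddSubgroup.card_addSubgroup_dvd_card Q
    rw [hQ, GaloisField.card p f hf0.ne', ← hn3] at hk
    rcases (show k = 0 ∨ k = 1 ∨ 2 ≤ k by omega) with h | h | h
    · rw [h, mul_zero] at hk; omega
    · rw [h, mul_one] at hk; omega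
    · have := Nat.mul_le_mul_left (d + 1) h
      omega
  set y := 1 + x with hyx
  have hy0 : y ≠ 0 := fun e => hy (e ▸ ⟨0, by simp⟩)
  obtain ⟨z0, hz0⟩ : ∃ z0, ψ z0 = s • ψ y := hψsurj _ fun e =>
    hy0 (hψinj ((MulAction.injective s (e.trans hsb.symm)).trans hψ0.symm))
  have hzneg : ∀ u, (z : G) • ψ u = ψ (-u) := fun u => by rw [hμ, hμz, neg_one_mul]
  have hneg1 : s • ψ (-1) = ψ (-1) := by
    rw [hssq (-1) (neg_ne_zero.2 one_ne_zero) (hμz ▸ hμsq z), inv_neg, inv_one]
  let g1 : G := s * η 1 * s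
  let g2 : G := η 1 * s * (η (-1) * (z : G))
  have hga : g1 • a = g2 • a := by
    simp only [g1, g2, mul_smul]
    rw [hsa, show (z : G) • a = a from z.2.1, hηa, hsa, ← hψ0, hη, add_zero, hs1]
  have hgb : g1 • ψ 0 = g2 • ψ 0 := by
    simp only [g1, g2, mul_smul]
    rw [hzneg, neg_zero, hη, add_zero, hneg1, hψ0, hsb, hηa, hsa, hη, add_neg_cancel, hψ0]
  have hgm : g1 • ψ (-1) = g2 • ψ (-1) := by
    simp only [g1, g2, mul_smul]
    rw [hneg1, hη, add_neg_cancel, hzneg, hη, neg_neg, neg_add_cancel, hψ0, hsb, hηa]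
  have hg12 : g1 = g2 := by
    refine (inv_mul_eq_one.1 (h3 (g2⁻¹ * g1) a (ψ 0) (ψ (-1)) (hψne 0).symm
      (fun e => neg_ne_zero.2 one_ne_zero (hψinj e).symm) (hψne _).symm ?_ ?_ ?_)).symm <;>
      rw [mul_smul, inv_smul_eq_iff]
    exacts [hga, hgb, hgm]
  have hzx : z0 * x = 1 - z0 := by
    obtain ⟨h, hh⟩ := hsq x hx0 hxs
    have e2 : g2 • ψ x = ψ (1 - z0) := by
      simp only [g2, mul_smul]
      rw [hzneg, hη, show (-1 : K) + -x = -y by rw [hyx]; ring, ← hzneg, hsh, ← hz0,
        show z⁻¹ = z from inv_eq_of_mul_eq_one_left hz2, hzneg, hη, ← sub_eq_add_neg]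
    have e1 : g1 • ψ x = ψ (z0 * x) := by
      simp only [g1, mul_smul]
      rw [hssq x hx0 hxs, hη, show (1 : K) + x⁻¹ = μ h⁻¹ * y by rw [hμinv, hh, hyx, mul_add, mul_one, inv_mul_cancel₀ hx0, add_comm],
        ← hμ, hsh, inv_inv, ← hz0, hμ, hh, mul_comm]
    exact hψinj (e1.symm.trans ((congrArg (· • ψ x) hg12).trans e2))
  have hzy : z0 = y⁻¹ := by rw [hyx]; exact aux_field hzx
  have hsw : ∀ u : K, u ≠ 0 → s • ψ u = ψ u⁻¹ := fun u hu0 => by
    by_cases hu : IsSquare u
    · exact hssq u hu0 hu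
    obtain ⟨k, hk⟩ := hsq (u / y) (div_ne_zero hu0 hy0) (hnn u y hu hy)
    rw [← div_mul_cancel₀ u hy0, ← hk, ← hμ, hsh, ← hz0, hμ, hzy, hμinv, mul_inv]
  -- the projective line
  have hne1 : ∀ u : K, (![u, 1] : Fin 2 → K) ≠ 0 := fun u he => one_ne_zero (congrFun he 1)
  let jf : Ω → ℙ K (Fin 2 → K) := fun x =>
    if hx : x = a then ProjLine.p0 else Projectivization.mk K ![(hψsurj x hx).choose, 1] (hne1 _)
  have hjψ : ∀ u, jf (ψ u) = Projectivization.mk K ![u, 1] (hne1 u) := fun u => by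
    simp only [jf, dif_neg (hψne u)]
    congr 2
    exact hψinj (hψsurj (ψ u) (hψne u)).choose_spec
  have hji : jf a = ProjLine.p0 := dif_pos rfl
  have hjinj : Function.Injective jf := by
    intro x y hxy
    rcases hcases x with rfl | ⟨u, rfl⟩ <;> rcases hcases y with rfl | ⟨v, rfl⟩
    · rfl
    · rw [hji, hjψ, ProjLine.p0, Projectivization.mk_eq_mk_iff'] at hxy
      obtain ⟨t, ht⟩ := hxy
      have e1 := congrFun ht 1
      have e2 := congrFun ht 0
      simp at e1
      simp [e1] at e2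
    · rw [hji, hjψ, ProjLine.p0, Projectivization.mk_eq_mk_iff'] at hxy
      obtain ⟨t, ht⟩ := hxy
      have e1 := congrFun ht 1
      simp at e1
    · rw [hjψ, hjψ, Projectivization.mk_eq_mk_iff'] at hxy
      obtain ⟨t, ht⟩ := hxy
      have e1 := congrFun ht 1
      have e2 := congrFun ht 0
      simp at e1
      simp [e1] at e2
      rw [e2]
  have hjcard : Nat.card Ω = Nat.card (ℙ K (Fin 2 → K)) := by
    rw [ProjLine.card_eq, hΩn, GaloisField.card p f hf0.ne']
  haveI : Finite (ℙ K (Fin 2 → K)) := Nat.finite_of_card_ne_zero (by rw [← hjcard, hΩn]; omega)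
  let j : Ω ≃ ℙ K (Fin 2 → K) := Equiv.ofBijective jf (hjinj.bijective_of_nat_card_le hjcard.ge)
  let Good : G → Prop := fun g => ∃ M : SpecialLinearGroup (Fin 2) K, ∀ x, j (g • x) = M • j x
  have hmulG : ∀ g g', Good g → Good g' → Good (g * g') := by
    rintro g g' ⟨M, hM⟩ ⟨N, hN⟩
    exact ⟨M * N, fun x => by rw [mul_smul, hM, hN, mul_smul]⟩
  have hmatGood : ∀ (g : G) (M : Matrix (Fin 2) (Fin 2) K) (hM : M.det = 1),
      (∀ x, ∃ (v u : Fin 2 → K) (hv : v ≠ 0) (hu : u ≠ 0), j x = Projectivization.mk K v hv ∧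
        j (g • x) = Projectivization.mk K u hu ∧ ∃ t : K, t • u = M *ᵥ v) → Good g := by
    intro g M hM hall
    let M' : Matrix.SpecialLinearGroup (Fin 2) K := ⟨M, hM⟩
    refine ⟨M', fun x => ?_⟩
    obtain ⟨v, u, hv, hu, e1, e2, t, ht⟩ := hall x
    rw [e1, e2, Projectivization.smul_mk, eq_comm, Projectivization.mk_eq_mk_iff']
    exact ⟨t, ht⟩
  have hone : (![1, 0] : Fin 2 → K) ≠ 0 := fun h => one_ne_zero (congrFun h 0)
  have hp0 : ∀ x, x = a → j x = Projectivization.mk K ![1, 0] hone := fun x hx => by subst hx; exact hji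
  have hGη : ∀ u, Good (η u) := fun u => by
    refine hmatGood _ !![1, u; 0, 1] (by simp [Matrix.det_fin_two]) fun x => ?_
    rcases hcases x with rfl | ⟨v, rfl⟩
    · exact ⟨_, _, hone, hone, hp0 _ rfl, hp0 _ (hηa u), 1, by
        ext k; fin_cases k <;> simp [Matrix.mulVec, dotProduct]⟩
    · exact ⟨_, _, hne1 v, hne1 (u + v), hjψ v, by rw [hη]; exact hjψ _, 1, by
        ext k; fin_cases k <;> simp [Matrix.mulVec, dotProduct, add_comm]⟩
  have hGh : ∀ h : ↥H, Good (h : G) := fun h => by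
    obtain ⟨r, hr⟩ := hμsq h
    have hr0 : r ≠ 0 := fun e => hμne h (by rw [hr, e, mul_zero])
    refine hmatGood _ !![r, 0; 0, r⁻¹] (by (try simp [Matrix.det_fin_two]) <;> exact aux_d hr0) fun x => ?_
    rcases hcases x with rfl | ⟨v, rfl⟩
    · exact ⟨_, _, hone, hone, hp0 _ rfl, hp0 _ h.2.1, r, by
        ext k; fin_cases k <;> simp [Matrix.mulVec, dotProduct]⟩
    · exact ⟨_, _, hne1 v, hne1 (μ h * v), hjψ v, by rw [hμ]; exact hjψ _, r⁻¹, by
        ext k; fin_cases k <;> (try simp [Matrix.mulVec, dotProduct, hr]) <;> exact aux_h hr0⟩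
  have hGs : Good s := by
    obtain ⟨e, he⟩ : IsSquare (-1 : K) := hμz ▸ hμsq z
    refine hmatGood _ !![0, e; e, 0] (by simp [Matrix.det_fin_two, ← he]) fun x => ?_
    rcases hcases x with rfl | ⟨v, rfl⟩
    · exact ⟨_, _, hone, hne1 0, hp0 _ rfl, by rw [hsa, ← hψ0]; exact hjψ 0, e, by
        ext k; fin_cases k <;> simp [Matrix.mulVec, dotProduct]⟩
    · by_cases hv : v = 0
      · exact ⟨_, _, hne1 v, hone, hjψ v, hp0 _ (by rw [hv, hψ0, hsb]), e, by
          ext k; fin_cases k <;> simp [Matrix.mulVec, dotProduct, hv]⟩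
      · exact ⟨_, _, hne1 v, hne1 v⁻¹, hjψ v, by rw [hsw v hv]; exact hjψ _, e * v, by
          ext k; fin_cases k <;> (try simp [Matrix.mulVec, dotProduct]) <;> exact aux_s hv⟩
  have hstab : ∀ g : G, g • a = a → Good g := fun g hg => by
    obtain ⟨u, hu⟩ := hψsurj (g • b) fun he => hab.symm (MulAction.injective g (he.trans hg.symm))
    have hd : (η u)⁻¹ * g ∈ H :=
      ⟨by show _ • a = a; rw [mul_smul, hg, inv_smul_eq_iff, hηa],
       by show _ • b = b; rw [mul_smul, ← hu, inv_smul_eq_iff, ← hψ0, hη, add_zero]⟩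
    have := hmulG _ _ (hGη u) (hGh ⟨_, hd⟩)
    simpa using this
  have hall : ∀ g : G, Good g := fun g => by
    rcases hcases (g • a) with hg | ⟨u, hu⟩
    · exact hstab g hg
    · have hk : (s⁻¹ * (η u)⁻¹ * g) • a = a := by
        rw [mul_smul, mul_smul, ← hu, inv_smul_eq_iff.2 (show ψ u = η u • ψ 0 by rw [hη, add_zero]),
          inv_smul_eq_iff, hψ0, hsa]
      have := hmulG _ _ (hmulG _ _ (hGη u) hGs) (hstab _ hk)
      simpa [mul_assoc] using this
  refine equiv_psl j hall ?_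
  haveI : MulAction.IsPretransitive G Ω := ⟨fun x y => by
    obtain ⟨x', hx'⟩ := Fintype.exists_ne_of_one_lt_card (by omega : 1 < Fintype.card Ω) x
    obtain ⟨y', hy'⟩ := Fintype.exists_ne_of_one_lt_card (by omega : 1 < Fintype.card Ω) y
    exact (two hx'.symm hy'.symm).imp fun g hg => hg.1⟩
  have hGc : Nat.card G = p ^ f * d * (p ^ f + 1) := by
    have h1 := Subgroup.card_mul_index A
    rw [hA, MulAction.index_stabilizer_of_transitive G a, hΩn, ← hA] at h1
    rw [← h1, ← hK0c.card_mul, ← Nat.card_congr (Subgroup.subgroupOfEquivOfLe (inf_le_left : H ≤ A)).toEquiv.symm,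
      Nat.card_congr (K0.equivMapOfInjective A.subtype A.subtype_injective).toEquiv]
    rw [← hdd, show Nat.card ↥(K0.map A.subtype) = p ^ f from hFcard]
  have hpsl := ProjLine.two_mul_card_psl (F := K)
  rw [GaloisField.card p f hf0.ne', ← hn3, Nat.add_sub_cancel] at hpsl
  rw [Nat.gcd_eq_left (dvd_mul_right 2 d)] at hpsl
  rw [hGc, ← hn3]
  refine le_of_eq (Nat.eq_of_mul_eq_mul_left (show 0 < 2 * (2 * d) by omega) ?_)
  linear_combination hpsl

end Cfsg.Agent.S0742
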