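import Cfsg.Statements.S0745
import Cfsg.Agent.Lib.Perm.LWMain
-- import your own Cfsg.Agent.* helpers here

set_option autoImplicit false
open Cfsg

namespace Cfsg.Agent.S0745

/-- Let `G` have degree `n` and `3 ≤ k ≤ n`; suppose `G` is `(k-2)`-transitive but not `(k-1)`-transitive, and is `(k-1)`-homogeneous and `k`-homogeneous. Then `k = n` and `G` is the alternating group, or `n = 5, k = 4, |G| = 20`, or `n = 6, k = 5, |G| = 120`, or `n = 9, k = 5, |G| ∈ {504, 1512}`. -/
theorem result {α : Type*} [Fintype α] [DecidableEq α] (G : Subgroup (Equiv.Perm α)) {k : ℕ} (hk : 3 ≤ k) (hkn : k ≤ Fintype.card α) (ht : MulAction.IsMultiplyPretransitive G α (k - 2)) (hnt : ¬ MulAction.IsMultiplyPretransitive G α (k - 1)) (hh1 : MulAction.IsPretransitive G (Set.powersetCard α (k - 1))) (hh : MulAction.IsPretransitive G (Set.powersetCard α k)) : (k = Fintype.card α ∧ G = alternatingGroup α) ∨ (Fintype.card α = 5 ∧ k = 4 ∧ Nat.card G = 20) ∨ (Fintype.card α = 6 ∧ k = 5 ∧ Nat.card G = 120)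 ∨ (Fintype.card α = 9 ∧ k = 5 ∧ (Nat.card G = 504 ∨ Nat.card G = 1512)) := by
  rcases Nat.lt_or_ge k (Fintype.card α) with hlt | hge
  · right
    obtain ⟨i, rfl⟩ : ∃ i, k = i + 2 := ⟨k - 2, by omega⟩
    have hH : LWMain.Hyp G i := by
      refine ⟨by omega, hlt, ?_, ?_, ?_, hh⟩
      · simpa using ht
      · simpa using hnt
      · simpa using hh1
    rcases hH.classify with ⟨hn, rfl, hc⟩ | ⟨hn, rfl, hc⟩ | ⟨hn, rfl, hc⟩
    · exact Or.inl ⟨hn, rfl, hc⟩
    · exact Or.inr (Or.inl ⟨hn, rfl, hc⟩)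
    · exact Or.inr (Or.inr ⟨hn, rfl, hc⟩)
  · left
    have hkn' : k = Fintype.card α := le_antisymm hkn hge
    refine ⟨hkn', ?_⟩
    subst hkn'
    haveI : Nontrivial α := Fintype.one_lt_card_iff_nontrivial.1 (by omega)
    have hle : alternatingGroup α ≤ G := by
      refine IsMultiplyPretransitive.alternatingGroup_le α G ?_
      rwa [Nat.card_eq_fintype_card (α := α)]
    have hdvd : G.index ∣ 2 := by
      rw [← alternatingGroup.index_eq_two (α := α)]
      exact Subgroup.index_dvd_of_le hle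
    rcases (Nat.dvd_prime Nat.prime_two).1 hdvd with h | h
    · exfalso
      apply hnt
      rw [Subgroup.index_eq_one] at h
      subst h
      refine ⟨fun u w => ?_⟩
      haveI := Equiv.Perm.isMultiplyPretransitive α (Fintype.card α - 1)
      obtain ⟨g, hg⟩ := MulAction.exists_smul_eq (Equiv.Perm α) u w
      refine ⟨⟨g, Subgroup.mem_top g⟩, DFunLike.ext _ _ fun l => ?_⟩
      exact congrArg (fun v : Fin _ ↪ α => v l) hg
    · exact Equiv.Perm.eq_alternatingGroup_of_index_eq_two h

end Cfsg.Agent.S0745
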