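import Cfsg.Statements.S0746
import Cfsg.Agent.S0745
import Cfsg.Agent.S0736
-- import your own Cfsg.Agent.* helpers here

set_option autoImplicit false
open Cfsg

namespace Cfsg.Agent.S0746

/-- The Livingstone–Wagner Theorem, first form: a `k`-homogeneous group of degree `n` with `4 ≤ 2k ≤ n` is `(k-1)`-transitive. -/
theorem result {α : Type*} [Fintype α] [DecidableEq α] (G : Subgroup (Equiv.Perm α)) {k : ℕ} (hk : 2 ≤ k) (hkn : 2 * k ≤ Fintype.card α) (hh : MulAction.IsPretransitive G (Set.powersetCard α k)) : MulAction.IsMultiplyPretransitive G α (k - 1) := by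
  induction k with
  | zero => omega
  | succ k ih =>
    have hh1 : MulAction.IsPretransitive G (Set.powersetCard α k) := by
      have := S0736.result G hk hh (fun q _ hqk => by
        have := Nat.le_of_dvd (Nat.succ_pos k) hqk
        omega)
      simpa using this
    simp only [Nat.add_sub_cancel]
    rcases Nat.lt_or_ge k 2 with hk2 | hk2
    · obtain rfl : k = 1 := by omega
      refine ⟨fun u w => ?_⟩
      obtain ⟨g, π, hg⟩ := LWBasic.homog_pre hh1 u w
      refine ⟨g, hg.trans ?_⟩
      rw [Subsingleton.elim π 1, LWSign.pre_one]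
    have ih' := ih hk2 (by omega) hh1
    by_contra hnot
    rcases S0745.result G (k := k + 1) (by omega) (by omega) (by simpa using ih')
      (by simpa using hnot) (by simpa using hh1) hh with
      ⟨h, -⟩ | ⟨h, h', -⟩ | ⟨h, h', -⟩ | ⟨h, h', -⟩ <;> omega

end Cfsg.Agent.S0746
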