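import Cfsg.Statements.S0747
import Cfsg.Agent.Lib.Perm.LWExtend
-- import your own Cfsg.Agent.* helpers here

set_option autoImplicit false
open scoped Pointwise
open Cfsg

namespace Cfsg.Agent.S0747

/-- In a `k`-transitive permutation group with `4 ≤ k < n`, some `(k+1)`-subset `Δ` has the property that every even permutation of `Δ` is induced by an element of the group stabilising `Δ`. -/
theorem result {α : Type*} [Fintype α] [DecidableEq α] (G : Subgroup (Equiv.Perm α)) {k : ℕ} (hk : 4 ≤ k) (hkn : k < Fintype.card α) (hG : MulAction.IsMultiplyPretransitive G α k) : ∃ Δ : Finset α, Δ.card = k + 1 ∧ ∀ σ : Equiv.Perm ↥Δ, σ ∈ alternatingGroup ↥Δ → ∃ g ∈ G, ∀ x : ↥Δ, g (x : α) = σ x := by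
  obtain ⟨t, ht⟩ := LWExtend.exists_alternating _ G k rfl hk hkn hG
  refine ⟨Finset.univ.map t, by simp, fun σ hσ => ?_⟩
  let e : Fin (k + 1) ≃ ↥(Finset.univ.map t) :=
    Equiv.ofBijective (fun l => ⟨t l, Finset.mem_map_of_mem t (Finset.mem_univ l)⟩)
      ⟨fun a b h => t.injective (congrArg Subtype.val h), fun y => by
        obtain ⟨l, -, hl⟩ := Finset.mem_map.1 y.2
        exact ⟨l, Subtype.ext hl⟩⟩
  obtain ⟨g, hg⟩ := ht (e.symm.permCongr σ) (by
    rw [Equiv.Perm.mem_alternatingGroup] at hσ ⊢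
    rwa [Equiv.Perm.sign_permCongr])
  refine ⟨g, g.2, fun x => ?_⟩
  obtain ⟨l, rfl⟩ := e.surjective x
  have h := congrArg (fun u : Fin (k + 1) ↪ α => u l) hg
  change (g : Equiv.Perm α) (t l) = _
  refine h.trans ?_
  change t (e.symm (σ (e l))) = _
  change ((e (e.symm (σ (e l)))) : α) = _
  rw [Equiv.apply_symm_apply]

end Cfsg.Agent.S0747
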