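import Cfsg.Statements.S0748
import Cfsg.Agent.S0746
import Cfsg.Agent.Lib.Perm.LWAlt

set_option autoImplicit false
open Cfsg

namespace Cfsg.Agent.S0748

attribute [local instance 2000] Function.Embedding.instMulAction

/-- The Livingstone–Wagner Theorem: a `k`-homogeneous permutation group of degree `n` with `10 ≤ 2k ≤ n` is `k`-transitive. -/
theorem result {α : Type*} [Fintype α] [DecidableEq α] (G : Subgroup (Equiv.Perm α)) {k : ℕ} (hk : 5 ≤ k) (hkn : 2 * k ≤ Fintype.card α) (hh : MulAction.IsPretransitive G (Set.powersetCard α k)) : MulAction.IsMultiplyPretransitive G α k := by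
  obtain ⟨j, rfl⟩ : ∃ j, k = j + 1 := ⟨k - 1, by omega⟩
  have htr : MulAction.IsMultiplyPretransitive G α j := by
    simpa using S0746.result G (k := j + 1) (by omega) hkn hh
  by_cases hA : LWAlt.AltOnly G j
  · have := LWAlt.degree_le _ G j rfl (by omega) htr hh hA
    omega
  obtain ⟨t₁, ht₁⟩ := LWExtend.exists_alternating _ G j rfl (by omega) (by omega) htr
  simp only [LWAlt.AltOnly, not_forall] at hA
  obtain ⟨t, g, π, hg, hπ⟩ := hA
  obtain ⟨h, σ, hσ⟩ := LWBasic.homog_pre hh t t₁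
  obtain ⟨τ, hτ, hτs⟩ : ∃ τ, (∃ a : G, a • t₁ = LWSign.pre τ t₁) ∧ Equiv.Perm.sign τ = -1 := by
    have e : t₁ = LWSign.pre σ⁻¹ (h • t) := by
      rw [hσ, LWSign.pre_pre]
      simp [LWSign.pre_one]
    have e2 : (h * g * h⁻¹) • t₁ = LWSign.pre σ⁻¹ (LWSign.pre π (LWSign.pre σ t₁)) := by
      conv_lhs => rw [e]
      rw [LWSign.smul_pre, mul_smul, mul_smul, inv_smul_smul, hg, LWSign.smul_pre, hσ]
    rw [LWSign.pre_pre, LWSign.pre_pre] at e2
    refine ⟨_, ⟨_, e2⟩, ?_⟩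
    rcases Int.units_eq_one_or (Equiv.Perm.sign π) with h1 | h1
    · exact absurd h1 hπ
    · rcases Int.units_eq_one_or (Equiv.Perm.sign σ) with h2 | h2 <;> simp [h1, h2]
  have htop : (LWBasic.induced (G := G) t₁).range = ⊤ := by
    rw [eq_top_iff]
    intro x _
    rcases Int.units_eq_one_or (Equiv.Perm.sign x) with h1 | h1
    · exact (LWBasic.mem_range_induced t₁ x).2 (ht₁ x (Equiv.Perm.mem_alternatingGroup.2 h1))
    · have hmem : x * τ⁻¹ ∈ (LWBasic.induced (G := G) t₁).range :=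
        (LWBasic.mem_range_induced t₁ _).2 (ht₁ _ (Equiv.Perm.mem_alternatingGroup.2 (by
          simp [h1, hτs])))
      simpa using mul_mem hmem ((LWBasic.mem_range_induced t₁ τ).2 hτ)
  refine ⟨fun u w => ?_⟩
  have key : ∀ v : Fin (j + 1) ↪ α, ∃ g : G, g • t₁ = v := by
    intro v
    obtain ⟨g, π, hg⟩ := LWBasic.exists_smul_pre hh t₁ v
    obtain ⟨g', hg'⟩ := (LWBasic.mem_range_induced t₁ π).1 (htop ▸ Subgroup.mem_top π)
    exact ⟨g * g', by rw [mul_smul, hg', hg]⟩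
  obtain ⟨gu, hu⟩ := key u
  obtain ⟨gw, hw⟩ := key w
  exact ⟨gw * gu⁻¹, by rw [← hu, mul_smul, inv_smul_smul, hw]⟩

end Cfsg.Agent.S0748
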