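import Cfsg.Statements.S0753

set_option autoImplicit false
open Cfsg

namespace Cfsg.Agent.S0753

/-- If σ is a ring endomorphism of the field F other than the identity and B is a σ-sesquilinear conjugate-symmetric form with B v v = 0 for every v, then B = 0. -/
theorem result {F V : Type*} [Field F] [AddCommGroup V] [Module F V] (σ : F →+* F) (hσ : σ ≠ RingHom.id F) (B : V →ₛₗ[σ] V →ₗ[F] F) (hS : B.IsSymm) (h0 : ∀ v : V, B v v = 0) : B = 0 := by
  have hne : ∀ x y, B y x = -B x y := by
    intro x y
    have h := h0 (x + y)
    simp [h0] at h
    linear_combination h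
  ext x y
  by_contra hxy
  simp only [LinearMap.zero_apply] at hxy
  have key : ∀ c : F, σ c = -c := by
    intro c
    have e1 := hS.eq x ((c / B x y) • y)
    rw [hne x ((c / B x y) • y)] at e1
    have hs : σ (B x y) ≠ 0 := by simpa using hxy
    simp at e1
    field_simp at e1
    exact e1
  have h1 := key 1
  rw [map_one] at h1
  refine hσ (RingHom.ext fun c => ?_)
  rw [key c, RingHom.id_apply]
  linear_combination -c * h1

end Cfsg.Agent.S0753
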