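import Cfsg.Statements.S0754

set_option autoImplicit false
open Cfsg

namespace Cfsg.Agent.S0754

/-- In a field F with q^2 elements, every non-zero μ with μ^q = μ (that is, μ in the subfield of order q) has exactly q + 1 solutions λ of λ^(q+1) = μ. -/
theorem result {F : Type*} [Field F] [Fintype F] {q : ℕ} (hF : Fintype.card F = q ^ 2) (μ : F) (hμ : μ ≠ 0) (hμq : μ ^ q = μ) : Nat.card {x : F // x ^ (q + 1) = μ} = q + 1 := by
  classical
  have hq : 1 < q := by
    have := Fintype.one_lt_card (α := F)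
    rw [hF] at this
    nlinarith
  have hU : Nat.card Fˣ = (q + 1) * (q - 1) := by
    rw [Nat.card_units, Nat.card_eq_fintype_card, hF]
    exact Nat.sq_sub_sq q 1 ▸ by ring_nf
  let f : Fˣ →* Fˣ := powMonoidHom (q + 1)
  have hker : Nat.card f.ker = q + 1 := by
    rw [IsCyclic.card_powMonoidHom_ker, hU, Nat.gcd_mul_right_left]
  have hrange : f.range = (powMonoidHom (q - 1) : Fˣ →* Fˣ).ker := by
    refine Subgroup.eq_of_le_of_card_ge ?_ ?_
    · rintro _ ⟨u, rfl⟩
      rw [MonoidHom.mem_ker]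
      show (u ^ (q + 1)) ^ (q - 1) = 1
      rw [← pow_mul, ← hU]
      exact pow_card_eq_one'
    · rw [IsCyclic.card_powMonoidHom_ker, IsCyclic.card_powMonoidHom_range, hU,
        Nat.gcd_mul_right_left, Nat.gcd_mul_left_left, Nat.mul_div_cancel_left _ (by omega)]
  obtain ⟨v, hv⟩ : Units.mk0 μ hμ ∈ f.range := by
    rw [hrange, MonoidHom.mem_ker]
    refine Units.ext ?_
    show μ ^ (q - 1) = 1
    apply mul_right_cancel₀ hμ
    rw [← pow_succ, Nat.sub_add_cancel hq.le, hμq, one_mul]
  have hv' : (v : F) ^ (q + 1) = μ := congrArg Units.val hv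
  refine (Nat.card_congr ?_).trans hker
  refine
    { toFun := fun x => ⟨Units.mk0 x.1 (fun h => hμ (by rw [← x.2, h]; simp)) / v, ?_⟩
      invFun := fun u => ⟨((u.1 * v : Fˣ) : F), ?_⟩
      left_inv := fun x => by simp
      right_inv := fun u => Subtype.ext (Units.ext (by simp)) }
  · rw [MonoidHom.mem_ker]
    show (_ / v) ^ (q + 1) = 1
    refine Units.ext ?_
    simp [div_pow, x.2, hv', hμ]
  · have hu : (u.1 : F) ^ (q + 1) = 1 := by
      rw [← Units.val_pow_eq_pow_val]
      exact congrArg Units.val (MonoidHom.mem_ker.1 u.2)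
    simp [mul_pow, hu, hv']

end Cfsg.Agent.S0754
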