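import Cfsg.Statements.S0755
import Cfsg.Agent.Lib.Classical.Hermitian

set_option autoImplicit false
open Cfsg

namespace Cfsg.Agent.S0755

/-- Classification of Hermitian forms over finite fields: if σ is a non-identity involutive automorphism of the finite field F and B is a non-degenerate conjugate-symmetric σ-sesquilinear form on the finite-dimensional space V, then V has a B-orthonormal basis. -/
theorem result {F V : Type*} [Field F] [Finite F] [AddCommGroup V] [Module F V] [FiniteDimensional F V] (σ : F →+* F) (hσ : σ ≠ RingHom.id F) (hσ2 : ∀ a : F, σ (σ a) = a) (B : V →ₛₗ[σ] V →ₗ[F] F) (hS : B.IsSymm) (hB : B.Nondegenerate) : ∃ b : Module.Basis (Fin (Module.finrank F V)) F V, ∀ i j, B (b i) (b j) = if i = j then 1 else 0 := by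
  have hh : Hermitian.IsHerm σ (fun v w : V => B w v) :=
    { ne_id := hσ
      invol := hσ2
      add_left := fun x y v => map_add (B v) x y
      smul_left := fun c x v => by simp
      symm := fun v w => (hS.eq w v).symm
      nondeg := fun v hv => hB.2 v hv }
  obtain ⟨b, hb⟩ := Hermitian.exists_orthonormal (n := Module.finrank F V) hh rfl
  have hli : LinearIndependent F b := hh.linearIndependent_of_gram (hh.orthonormal_gram hb)
  refine ⟨Module.Basis.mk hli (le_of_eq (hli.span_eq_top_of_card_eq_finrank'
    (Fintype.card_fin _)).symm), fun i j => ?_⟩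
  rw [Module.Basis.mk_apply, Module.Basis.mk_apply]
  exact (hb j i).trans (if_congr eq_comm rfl rfl)

end Cfsg.Agent.S0755
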