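import Cfsg.Statements.S0756
import Cfsg.Agent.Lib.Orthogonal.SumSquares

set_option autoImplicit false
open Cfsg

namespace Cfsg.Agent.S0756

/-- Classification of symmetric bilinear forms over finite fields of odd characteristic: if B is non-degenerate symmetric on V of dimension n + 1 and α is a fixed non-square of F, there is an orthogonal basis b_0, ..., b_n with B(b_i, b_i) = 1 for i < n and B(b_n, b_n) ∈ {1, α}. -/
theorem result {F V : Type*} [Field F] [Finite F] [AddCommGroup V] [Module F V] [FiniteDimensional F V] (h2 : (2 : F) ≠ 0) (B : LinearMap.BilinForm F V) (hS : B.IsSymm) (hB : B.Nondegenerate) {n : ℕ} (hn : Module.finrank F V = n + 1) (α : F) (hα : ¬ IsSquare α) : ∃ b : Module.Basis (Fin (n + 1)) F V, (∀ i j, i ≠ j → B (b i) (b j) = 0) ∧ (∀ i, i ≠ Fin.last n → B (b i) (b i) = 1) ∧ (B (b (Fin.last n)) (b (Fin.last n)) = 1 ∨ B (b (Fin.last n)) (b (Fin.last n)) = α) := by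
  let Q : QuadraticForm F V := B.toQuadraticMap
  have hpol : ∀ x y, QuadraticMap.polar (⇑Q) x y = 2 * B x y := fun x y => by
    show QuadraticMap.polar (fun x => B x x) x y = _
    simp only [QuadraticMap.polar, map_add, LinearMap.add_apply]
    have hs : B y x = B x y := hS.eq y x
    rw [hs]; ring
  have hQ : (QuadraticMap.polarBilin Q).Nondegenerate := Orth.nondeg_of fun x hx => hB.1 x fun y => by
    have h := hx y
    rw [hpol] at h
    exact (mul_eq_zero.1 h).resolve_left h2
  obtain ⟨e, he, he1, he2⟩ := Orth.exists_normal_frame hQ h2 hn hα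
  have hspan := (he.indep h2).span_eq_top_of_card_eq_finrank' (by rw [hn, Fintype.card_fin])
  refine ⟨Module.Basis.mk (he.indep h2) hspan.ge, fun i j hij => ?_, fun i hi => ?_, ?_⟩
  · have h := he.1 i j hij
    rw [hpol] at h
    simp only [Module.Basis.mk_apply]
    exact (mul_eq_zero.1 h).resolve_left h2
  · simp only [Module.Basis.mk_apply]; exact he1 i hi
  · simp only [Module.Basis.mk_apply]; exact he2

end Cfsg.Agent.S0756
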