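import Cfsg.Statements.S0757

set_option autoImplicit false
open Cfsg

namespace Cfsg.Agent.S0757

/-- The two diagonal forms Σ x_i^2 and Σ_(i<n) x_i^2 + α x_n^2 on F^(n+1), with α a non-square and 2 ≠ 0 in F, are inequivalent quadratic forms (so over a finite field of odd order there are exactly two classes of non-singular symmetric bilinear forms in each dimension). -/
theorem result {F : Type*} [Field F] (h2 : (2 : F) ≠ 0) (n : ℕ) (α : F) (hα : ¬ IsSquare α) : ¬ (QuadraticMap.weightedSumSquares F (fun _ : Fin (n + 1) => (1 : F))).Equivalent (QuadraticMap.weightedSumSquares F (fun i : Fin (n + 1) => if i = Fin.last n then α else (1 : F))) := by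
  rintro ⟨g⟩
  let M : Matrix (Fin (n + 1)) (Fin (n + 1)) F := LinearMap.toMatrix' g.toLinearEquiv.toLinearMap
  let w : Fin (n + 1) → F := fun i => if i = Fin.last n then α else 1
  have key : M.transpose * (Matrix.diagonal w * M) = 1 := by
    ext i j
    have hQ : ∀ x, QuadraticMap.weightedSumSquares F w (g x) =
        QuadraticMap.weightedSumSquares F (fun _ : Fin (n + 1) => (1 : F)) x := g.map_app
    have hp : QuadraticMap.polar (QuadraticMap.weightedSumSquares F w) (g (Pi.single i 1))
        (g (Pi.single j 1)) = QuadraticMap.polar (QuadraticMap.weightedSumSquares F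
          (fun _ : Fin (n + 1) => (1 : F))) (Pi.single i 1) (Pi.single j 1) := by
      simp only [QuadraticMap.polar]
      rw [← hQ (Pi.single i 1 + Pi.single j 1), ← hQ (Pi.single i 1), ← hQ (Pi.single j 1)]
      simp
    have hpol : ∀ (u : Fin (n + 1) → F) (x y : Fin (n + 1) → F),
        QuadraticMap.polar (QuadraticMap.weightedSumSquares F u) x y =
          2 * ∑ k, u k * (x k * y k) := by
      intro u x y
      simp only [QuadraticMap.polar, QuadraticMap.weightedSumSquares_apply, Finset.mul_sum,
        ← Finset.sum_sub_distrib, Pi.add_apply, smul_eq_mul]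
      exact Finset.sum_congr rfl fun k _ => by ring
    rw [hpol, hpol] at hp
    have hp' := mul_left_cancel₀ h2 hp
    have hg : ∀ k l, g (Pi.single l 1) k = M k l := fun k l => by
      simp [M, LinearMap.toMatrix'_apply]
    simp only [hg] at hp'
    rw [Matrix.mul_apply]
    simp only [Matrix.transpose_apply, Matrix.diagonal_mul, Matrix.one_apply]
    rw [Finset.sum_congr rfl (fun k _ => mul_left_comm (M k i) (w k) (M k j)), hp']
    simp [Pi.single_apply, eq_comm]
  have hd := congrArg Matrix.det key
  rw [Matrix.det_mul, Matrix.det_mul, Matrix.det_transpose, Matrix.det_one,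
    Matrix.det_diagonal] at hd
  simp [w, Finset.prod_ite_eq'] at hd
  refine hα ⟨(M.det)⁻¹, ?_⟩
  have hne : M.det ≠ 0 := fun h => by simp [h] at hd
  field_simp
  linear_combination hd

end Cfsg.Agent.S0757
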