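import Cfsg.Statements.S0758

set_option autoImplicit false
open Cfsg

namespace Cfsg.Agent.S0758

/-- For a finite field F of odd order q and a non-square α: the form x² + y² is isotropic iff q ≡ 1 mod 4, and the form x² + α y² is isotropic iff q ≡ 3 mod 4. -/
theorem result {F : Type*} [Field F] [Fintype F] (h2 : (2 : F) ≠ 0) (α : F) (hα : ¬ IsSquare α) : ((∃ x y : F, (x ≠ 0 ∨ y ≠ 0) ∧ x ^ 2 + y ^ 2 = 0) ↔ Fintype.card F % 4 = 1) ∧ ((∃ x y : F, (x ≠ 0 ∨ y ≠ 0) ∧ x ^ 2 + α * y ^ 2 = 0) ↔ Fintype.card F % 4 = 3) := by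
  have hc : ringChar F ≠ 2 := fun h => h2 (by
    haveI := ringChar.of_eq h
    exact CharTwo.two_eq_zero)
  have ho := FiniteField.odd_card_of_char_ne_two hc
  have h1 : (∃ x y : F, (x ≠ 0 ∨ y ≠ 0) ∧ x ^ 2 + y ^ 2 = 0) ↔ IsSquare (-1 : F) := by
    constructor
    · rintro ⟨x, y, hxy, h⟩
      have hy : y ≠ 0 := fun hy => by subst hy; simp_all
      refine ⟨x / y, ?_⟩
      field_simp
      linear_combination -h
    · rintro ⟨r, hr⟩
      exact ⟨r, 1, Or.inr one_ne_zero, by linear_combination -hr⟩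
  have h3 : (∃ x y : F, (x ≠ 0 ∨ y ≠ 0) ∧ x ^ 2 + α * y ^ 2 = 0) ↔ IsSquare (-α) := by
    constructor
    · rintro ⟨x, y, hxy, h⟩
      have hy : y ≠ 0 := fun hy => by subst hy; simp_all
      refine ⟨x / y, ?_⟩
      field_simp
      linear_combination -h
    · rintro ⟨r, hr⟩
      exact ⟨r, 1, Or.inr one_ne_zero, by linear_combination -hr⟩
  have hα0 : α ≠ 0 := fun h => hα (h ▸ IsSquare.zero)
  have h4 : IsSquare (-α) ↔ ¬ IsSquare (-1 : F) := by
    classical
    rw [← quadraticChar_one_iff_isSquare (neg_ne_zero.2 hα0),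
      ← quadraticChar_one_iff_isSquare (neg_ne_zero.2 one_ne_zero), neg_eq_neg_one_mul α, map_mul,
      quadraticChar_neg_one_iff_not_isSquare.2 hα]
    rcases quadraticChar_dichotomy (neg_ne_zero.2 (one_ne_zero (α := F))) with h | h <;> simp [h]
  rw [h1, h3, h4, FiniteField.isSquare_neg_one_iff]
  omega

end Cfsg.Agent.S0758
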