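import Cfsg.Statements.S0759
import Cfsg.Agent.Lib.Orthogonal.SumSquares

set_option autoImplicit false
open Cfsg

namespace Cfsg.Agent.S0759

/-- Type of the orthonormal form: over a finite field of odd order q and for m ≥ 1, the quadratic form Σ_(i<2m) x_i² on F^(2m) admits an m-dimensional subspace on which it vanishes identically if and only if it is not the case that q ≡ 3 (mod 4) and m is odd. -/
theorem result {F : Type*} [Field F] [Fintype F] (h2 : (2 : F) ≠ 0) (m : ℕ) (hm : 1 ≤ m) : (∃ W : Submodule F (Fin (2 * m) → F), Module.finrank F W = m ∧ ∀ w ∈ W, ∑ i, w i ^ 2 = 0) ↔ ¬ (Fintype.card F % 4 = 3 ∧ Odd m) := by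
  rw [Orth.exists_half_singular_iff h2]
  have hodd : Odd (Fintype.card F) := Nat.odd_iff.2 (FiniteField.odd_card_of_char_ne_two fun h => h2 (by
    haveI := ringChar.of_eq h; exact CharTwo.two_eq_zero))
  have hq := Nat.odd_iff.1 hodd
  rcases Nat.even_or_odd m with hev | hod
  · refine iff_of_true (by rw [hev.neg_one_pow]; exact ⟨1, by ring⟩) fun h => ?_
    exact Nat.not_odd_iff_even.2 hev h.2
  · rw [hod.neg_one_pow, FiniteField.isSquare_neg_one_iff]
    exact ⟨fun h h' => h h'.1, fun h h' => h ⟨h', hod⟩⟩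

end Cfsg.Agent.S0759
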