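import Cfsg.Statements.S0761

set_option autoImplicit false
open Cfsg

namespace Cfsg.Agent.S0761

/-- Hyperbolic partners: let B be a non-degenerate bilinear form on a finite-dimensional space, either alternating, or symmetric with 2 ≠ 0. If Z is a subspace on which B vanishes, x ∉ Z is isotropic and orthogonal to Z, then there is an isotropic y with B x y = 1 which is orthogonal to Z. -/
theorem result {F V : Type*} [Field F] [AddCommGroup V] [Module F V] [FiniteDimensional F V] (B : LinearMap.BilinForm F V) (hB : B.Nondegenerate) (hform : B.IsAlt ∨ (B.IsSymm ∧ (2 : F) ≠ 0)) (x : V) (Z : Submodule F V) (hxZ : x ∉ Z) (hx : B x x = 0) (hxz : ∀ z ∈ Z, B x z = 0) (hZ : ∀ z ∈ Z, ∀ z' ∈ Z, B z z' = 0) : ∃ y : V, B y y = 0 ∧ B x y = 1 ∧ ∀ z ∈ Z, B z y = 0 := by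
  obtain ⟨f, hfx, hfZ⟩ := Z.exists_dual_map_eq_bot_of_notMem hxZ inferInstance
  have hinj : Function.Injective B.flip := by
    rw [← LinearMap.ker_eq_bot, LinearMap.ker_eq_bot']
    intro y hy
    exact hB.2 y fun v => by simpa using LinearMap.congr_fun hy v
  obtain ⟨y₀, hy₀⟩ := (LinearMap.injective_iff_surjective_of_finrank_eq_finrank
    Subspace.dual_finrank_eq.symm).1 hinj ((f x)⁻¹ • f)
  have hy : ∀ v, B v y₀ = (f x)⁻¹ * f v := fun v => by simpa using LinearMap.congr_fun hy₀ v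
  have hy1 : B x y₀ = 1 := by rw [hy, inv_mul_cancel₀ hfx]
  have hy0 : ∀ z ∈ Z, B z y₀ = 0 := by
    intro z hz
    have : f z ∈ Z.map f := ⟨z, hz, rfl⟩
    rw [hfZ, Submodule.mem_bot] at this
    simp [hy, this]
  rcases hform with hA | ⟨hS, h2⟩
  · exact ⟨y₀, hA.self_eq_zero y₀, hy1, hy0⟩
  · refine ⟨y₀ - (B y₀ y₀ / 2) • x, ?_, ?_, fun z hz => ?_⟩
    · have hyx : B y₀ x = 1 := by rw [hS.eq, hy1]
      simp [hx, hy1, hyx]
      field_simp
      ring
    · simp [hx, hy1]
    · have hzx : B z x = 0 := by rw [hS.eq, hxz z hz]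
      simp [hy0 z hz, hzx]

end Cfsg.Agent.S0761
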