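import Cfsg.Statements.S0762

set_option autoImplicit false
open Cfsg

namespace Cfsg.Agent.S0762

/-- In characteristic two over a finite field, a quadratic form on a space of dimension at least 3 vanishes on some non-zero vector. -/
theorem result {F V : Type*} [Field F] [Finite F] [CharP F 2] [AddCommGroup V] [Module F V] [FiniteDimensional F V] (Q : QuadraticForm F V) (h3 : 3 ≤ Module.finrank F V) : ∃ v : V, v ≠ 0 ∧ Q v = 0 := by
  haveI : Nontrivial V := Module.nontrivial_of_finrank_pos (R := F) (by omega)
  obtain ⟨v, hv⟩ := exists_ne (0 : V)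
  by_cases h0 : Q v = 0
  · exact ⟨v, hv, h0⟩
  let K : Submodule F V := LinearMap.ker (QuadraticMap.polarBilin Q v)
  have hK : Submodule.span F {v} < K := by
    refine Submodule.lt_of_le_of_finrank_lt_finrank ?_ ?_
    · rw [Submodule.span_singleton_le_iff_mem, LinearMap.mem_ker]
      simp [QuadraticMap.polar_self, CharTwo.two_eq_zero]
    · have h1 := LinearMap.finrank_range_add_finrank_ker (QuadraticMap.polarBilin Q v)
      have h2 := Submodule.finrank_le (LinearMap.range (QuadraticMap.polarBilin Q v))
      rw [Module.finrank_self] at h2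
      rw [finrank_span_singleton hv]
      simp only [K]
      omega
  obtain ⟨w, hw, hwv⟩ := SetLike.exists_of_lt hK
  rw [Submodule.mem_span_singleton] at hwv
  obtain ⟨a, ha⟩ := FiniteField.isSquare_of_char_two (ringChar.eq F 2) (Q w / Q v)
  refine ⟨a • v + w, fun h => hwv ⟨-a, ?_⟩, ?_⟩
  · rw [neg_smul, neg_eq_iff_add_eq_zero, h]
  · have hp : QuadraticMap.polar Q v w = 0 := LinearMap.mem_ker.1 hw
    rw [QuadraticMap.map_add (⇑Q), QuadraticMap.polar_smul_left, hp, QuadraticMap.map_smul,
      smul_eq_mul, smul_eq_mul, mul_zero, add_zero, ← ha, div_mul_cancel₀ _ h0,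
      CharTwo.add_self_eq_zero]

end Cfsg.Agent.S0762
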