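import Cfsg.Statements.S0763

set_option autoImplicit false
open Cfsg

namespace Cfsg.Agent.S0763

/-- Binary quadratic forms in characteristic two over a finite field: if Q is a quadratic form on a 2-dimensional space whose polar form is non-degenerate, then either there are vectors v, w with Q v = Q w = 0 and polar value 1 (Q is xy in these coordinates), or there are v, w and μ with Q v = 1, Q w = μ, polar value 1 and x² + x + μ without roots in F (Q is x² + xy + μy²). -/
theorem result {F V : Type*} [Field F] [Finite F] [CharP F 2] [AddCommGroup V] [Module F V] (Q : QuadraticForm F V) (h2 : Module.finrank F V = 2) (hQ : (QuadraticMap.polarBilin Q).Nondegenerate) : (∃ v w : V, LinearIndependent F ![v, w] ∧ Q v = 0 ∧ Q w = 0 ∧ QuadraticMap.polar Q v w = 1) ∨ (∃ (v w : V) (μ : F), LinearIndependent F ![v, w] ∧ (∀ x : F, x ^ 2 + x + μ ≠ 0) ∧ Q v = 1 ∧ Q w = μ ∧ QuadraticMap.polar Q v w = 1) := by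
  haveI : Nontrivial V := Module.nontrivial_of_finrank_pos (R := F) (by omega)
  have hsq : ∀ x : F, IsSquare x := FiniteField.isSquare_of_char_two (ringChar.eq F 2)
  have hpart : ∀ v : V, v ≠ 0 → ∃ w, QuadraticMap.polar Q v w = 1 := by
    intro v hv
    obtain ⟨w, hw⟩ : ∃ w, QuadraticMap.polar Q v w ≠ 0 := by
      by_contra! hno
      exact hv (hQ.1 v fun w => hno w)
    exact ⟨(QuadraticMap.polar Q v w)⁻¹ • w, by simp [hw]⟩
  have hind : ∀ v w : V, QuadraticMap.polar Q v w = 1 → LinearIndependent F ![v, w] := by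
    intro v w h
    rw [LinearIndependent.pair_iff]
    intro s t hst
    have e1 := congrArg (QuadraticMap.polar Q v) hst
    have e2 := congrArg (QuadraticMap.polar Q w) hst
    simp [QuadraticMap.polar_self, CharTwo.two_eq_zero, QuadraticMap.polar_comm Q w v, h] at e1 e2
    exact ⟨e2, e1⟩
  by_cases hiso : ∃ v : V, v ≠ 0 ∧ Q v = 0
  · obtain ⟨v, hv, hv0⟩ := hiso
    obtain ⟨w, hw⟩ := hpart v hv
    have h1 : QuadraticMap.polar Q v (Q w • v + w) = 1 := by
      simp [QuadraticMap.polar_self, CharTwo.two_eq_zero, hw]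
    refine Or.inl ⟨v, Q w • v + w, hind _ _ h1, hv0, ?_, h1⟩
    rw [QuadraticMap.map_add (⇑Q), QuadraticMap.polar_smul_left, hw, QuadraticMap.map_smul,
      hv0]
    simp [CharTwo.add_self_eq_zero]
  · push Not at hiso
    obtain ⟨v₀, hv₀⟩ := exists_ne (0 : V)
    obtain ⟨r, hr⟩ := hsq (Q v₀)⁻¹
    have hv1 : Q (r • v₀) = 1 := by
      rw [QuadraticMap.map_smul, ← hr, smul_eq_mul, inv_mul_cancel₀ (hiso v₀ hv₀)]
    have hne : r • v₀ ≠ 0 := fun h => by simp [h] at hv1
    obtain ⟨w, hw⟩ := hpart _ hne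
    refine Or.inr ⟨r • v₀, w, Q w, hind _ _ hw, fun x hx => ?_, hv1, rfl, hw⟩
    have h0 : x • (r • v₀) + w ≠ 0 := fun h => by
      have e := (LinearIndependent.pair_iff.1 (hind _ _ hw)) x 1 (by rw [one_smul]; exact h)
      exact one_ne_zero e.2
    refine hiso _ h0 ?_
    rw [QuadraticMap.map_add (⇑Q), QuadraticMap.polar_smul_left, hw, QuadraticMap.map_smul, hv1]
    simp only [smul_eq_mul]
    linear_combination hx

end Cfsg.Agent.S0763
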