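import Cfsg.Statements.S0767
import Cfsg.Agent.Lib.Classical.Symplectic

set_option autoImplicit false
open Cfsg

namespace Cfsg.Agent.S0767

/-- The root group of a point: T_v(c) T_v(d) = T_v(c + d), and for A in the symplectic group with A v = a v, the conjugate A T_v(c) A⁻¹ is again some T_v(d). -/
theorem result {F : Type*} [Field F] (m : ℕ) (v : Fin m ⊕ Fin m → F) : (∀ c d : F, Cfsg.sympTransvection m v c * Cfsg.sympTransvection m v d = Cfsg.sympTransvection m v (c + d)) ∧ ∀ (A : Matrix (Fin m ⊕ Fin m) (Fin m ⊕ Fin m) F) (a : F), A ∈ Matrix.symplecticGroup (Fin m) F → A.mulVec v = a • v → ∀ c : F, ∃ d : F, A * Cfsg.sympTransvection m v c * A⁻¹ = Cfsg.sympTransvection m v d := by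
  refine ⟨fun c d => ?_, fun A a hA hAv c => ⟨c * (a * a), ?_⟩⟩
  · refine Matrix.toLin'.injective (LinearMap.ext fun x => ?_)
    have h0 : Cfsg.sympForm m F v v = 0 := by
      rw [← Cfsg.Agent.ClassicalSp.spBilin_apply]
      exact Cfsg.Agent.ClassicalSp.spBilin_isAlt v
    have hadd : ∀ (y z w : Fin m ⊕ Fin m → F) (k : F),
        Cfsg.sympForm m F (y + k • z) w = Cfsg.sympForm m F y w + k * Cfsg.sympForm m F z w := by
      intro y z w k
      simp [← Cfsg.Agent.ClassicalSp.spBilin_apply]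
    simp [Cfsg.Agent.ClassicalSp.sympTransvection_mulVec, ← Matrix.mulVec_mulVec, hadd, h0]
    module
  · have hp := (Cfsg.Agent.ClassicalSp.mem_iff_preserves A).1 hA
    have hu : IsUnit A.det := SymplecticGroup.symplectic_det hA
    refine Matrix.toLin'.injective (LinearMap.ext fun x => ?_)
    obtain ⟨y, rfl⟩ : ∃ y, x = A.mulVec y :=
      ⟨A⁻¹.mulVec x, by rw [Matrix.mulVec_mulVec, Matrix.mul_nonsing_inv _ hu, Matrix.one_mulVec]⟩
    have hav : Cfsg.sympForm m F (A.mulVec y) v * a = Cfsg.sympForm m F y v := by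
      rw [← hp y v, hAv]
      simp [← Cfsg.Agent.ClassicalSp.spBilin_apply, mul_comm]
    have hi : A⁻¹.mulVec (A.mulVec y) = y := by
      rw [Matrix.mulVec_mulVec, Matrix.nonsing_inv_mul _ hu, Matrix.one_mulVec]
    simp [Cfsg.Agent.ClassicalSp.sympTransvection_mulVec, ← Matrix.mulVec_mulVec, hi,
      Matrix.mulVec_add, Matrix.mulVec_smul, hAv, smul_smul, ← hav]
    ring_nf

end Cfsg.Agent.S0767
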