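import Cfsg.Statements.S0768
import Cfsg.Agent.Lib.Classical.Symplectic

set_option autoImplicit false
open scoped LinearAlgebra.Projectivization
open Cfsg

namespace Cfsg.Agent.S0768

/-- Primitivity: for m ≥ 1 and F finite, the symplectic group of the form sympForm (as a subgroup of the general linear group) acts primitively on the projective space of F^(2m). -/
theorem result {F : Type*} [Field F] [Finite F] (m : ℕ) (hm : 1 ≤ m) : MulAction.IsPreprimitive ↥(Cfsg.spGL m F) (ℙ F (Fin m ⊕ Fin m → F)) := by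
  haveI : Nonempty (Fin m ⊕ Fin m) := ⟨Sum.inl ⟨0, hm⟩⟩
  haveI := Cfsg.Agent.AltForm.isPreprimitive (Cfsg.Agent.ClassicalSp.spBilin_isAlt (m := m) (F := F))
    Cfsg.Agent.ClassicalSp.spBilin_nondeg
  have key : ∀ g : Cfsg.Agent.AltForm.isoGroup (Cfsg.Agent.ClassicalSp.spBilin m F),
      ∃ h : ↥(Cfsg.spGL m F), ∀ x : Fin m ⊕ Fin m → F, h • x = g • x := by
    intro g
    obtain ⟨A, hA⟩ := Cfsg.Agent.ClassicalSp.toEquiv_surj g.2
    refine ⟨⟨⟨A.1, (A⁻¹).1, by rw [← Submonoid.coe_mul, mul_inv_cancel, Submonoid.coe_one],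
      by rw [← Submonoid.coe_mul, inv_mul_cancel, Submonoid.coe_one]⟩, ?_⟩, fun x => ?_⟩
    · exact (Cfsg.Agent.ClassicalSp.mem_iff_preserves A.1).1 A.2
    · exact LinearEquiv.congr_fun hA x
  choose φ hφ using key
  let f : ℙ F (Fin m ⊕ Fin m → F) →ₑ[φ] ℙ F (Fin m ⊕ Fin m → F) :=
    { toFun := id
      map_smul' := fun g p => by
        induction p using Projectivization.ind with | _ v hv => ?_
        exact (Projectivization.smul_mk g hv).trans
          (((Projectivization.mk_eq_mk_iff' F _ _ _ _).2 ⟨1, by rw [one_smul]; exact hφ g v⟩).trans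
            (Projectivization.smul_mk (φ g) hv).symm) }
  exact MulAction.IsPreprimitive.of_surjective (f := f) Function.surjective_id

end Cfsg.Agent.S0768
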