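import Cfsg.Statements.S0769

set_option autoImplicit false
open Cfsg

namespace Cfsg.Agent.S0769

/-- Order of the Borel subgroup of GL_n(q): the invertible lower-triangular n × n matrices over a field with q elements number q^(n(n-1)/2) (q-1)^n (unitriangular part times the diagonal torus). -/
theorem result {F : Type*} [Field F] [Fintype F] {q : ℕ} (hF : Fintype.card F = q) (n : ℕ) : Nat.card {g : Matrix.GeneralLinearGroup (Fin n) F // ∀ i j : Fin n, i < j → (g : Matrix (Fin n) (Fin n) F) i j = 0} = q ^ (n * (n - 1) / 2) * (q - 1) ^ n := by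
  classical
  let L := {p : Fin n × Fin n // p.2 < p.1}
  let mk : (Fin n → Fˣ) × (L → F) → Matrix (Fin n) (Fin n) F := fun x => Matrix.of fun i j =>
    if h : j < i then x.2 ⟨(i, j), h⟩ else if i = j then (x.1 i : F) else 0
  have hmk : ∀ x (i j : Fin n), i < j → mk x i j = 0 := fun x i j hij => by
    simp [mk, hij.not_gt, hij.ne]
  have hdet : ∀ x, (mk x).det ≠ 0 := fun x => by
    rw [Matrix.det_of_lowerTriangular (mk x) (fun i j hij => hmk x i j hij)]
    exact Finset.prod_ne_zero_iff.2 fun i _ => by simp [mk]
  have hdiag : ∀ g : Matrix.GeneralLinearGroup (Fin n) F,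
      (∀ i j : Fin n, i < j → (g : Matrix (Fin n) (Fin n) F) i j = 0) →
        ∀ i, (g : Matrix (Fin n) (Fin n) F) i i ≠ 0 := by
    intro g hg i
    have h : (g : Matrix (Fin n) (Fin n) F).det ≠ 0 := g.det.ne_zero
    rw [Matrix.det_of_lowerTriangular _ (fun i j hij => hg i j hij), Finset.prod_ne_zero_iff] at h
    exact h i (Finset.mem_univ i)
  let e : {g : Matrix.GeneralLinearGroup (Fin n) F // ∀ i j : Fin n, i < j →
      (g : Matrix (Fin n) (Fin n) F) i j = 0} ≃ (Fin n → Fˣ) × (L → F) :=
    { toFun := fun g => (fun i => Units.mk0 _ (hdiag g.1 g.2 i),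
        fun p => (g.1 : Matrix (Fin n) (Fin n) F) p.1.1 p.1.2)
      invFun := fun x => ⟨Matrix.GeneralLinearGroup.mkOfDetNeZero _ (hdet x), hmk x⟩
      left_inv := fun g => by
        apply Subtype.ext
        apply Units.ext
        ext i j
        show mk _ i j = _
        rcases lt_trichotomy j i with h | h | h
        · simp [mk, h]
        · subst h; simp [mk]
        · simp [mk, h.not_gt, h.ne, g.2 i j h]
      right_inv := fun x => by
        refine Prod.ext (funext fun i => Units.ext ?_) (funext fun p => ?_)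
        · show mk x i i = _
          simp [mk]
        · show mk x p.1.1 p.1.2 = _
          simp [mk, p.2] }
  have hL : Fintype.card L = n * (n - 1) / 2 := by
    let eL : L ≃ Σ i : Fin n, Fin (i : ℕ) :=
      { toFun := fun p => ⟨p.1.1, ⟨p.1.2, p.2⟩⟩
        invFun := fun s => ⟨(s.1, ⟨s.2, lt_trans s.2.2 s.1.2⟩), s.2.2⟩
        left_inv := fun p => rfl
        right_inv := fun s => rfl }
    rw [Fintype.card_congr eL, Fintype.card_sigma]
    simp [Fin.sum_univ_eq_sum_range (fun i => i), Finset.sum_range_id]
  rw [Nat.card_congr e, Nat.card_eq_fintype_card, Fintype.card_prod, Fintype.card_fun, Fintype.card_fun,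
    Fintype.card_fin, Fintype.card_units, hF, hL, mul_comm]

end Cfsg.Agent.S0769
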