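import Cfsg.Statements.S0770

set_option autoImplicit false
open Cfsg

namespace Cfsg.Agent.S0770

/-- For a field with at least 3 elements, an invertible matrix normalises the subgroup of invertible diagonal matrices of GL_n if and only if it is monomial (exactly one non-zero entry in each row). -/
theorem result {F : Type*} [Field F] (hF : ∃ a : F, a ≠ 0 ∧ a ≠ 1) (n : ℕ) (g : Matrix.GeneralLinearGroup (Fin n) F) : g ∈ Subgroup.normalizer ((Units.map (Matrix.diagonalRingHom (Fin n) F).toMonoidHom).range : Subgroup (Matrix.GeneralLinearGroup (Fin n) F)) ↔ ∀ i : Fin n, ∃! j : Fin n, (g : Matrix (Fin n) (Fin n) F) i j ≠ 0 := by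
  classical
  have hmem : ∀ x : Matrix.GeneralLinearGroup (Fin n) F,
      x ∈ (Units.map (Matrix.diagonalRingHom (Fin n) F).toMonoidHom).range ↔
        ∃ d : Fin n → F, (∀ i, d i ≠ 0) ∧ (x : Matrix (Fin n) (Fin n) F) = Matrix.diagonal d := by
    intro x
    constructor
    · rintro ⟨u, rfl⟩
      exact ⟨u.1, fun i h => by simpa [h] using congrFun u.mul_inv i, rfl⟩
    · rintro ⟨d, hd, hx⟩
      exact ⟨MulEquiv.piUnits.symm fun i => Units.mk0 (d i) (hd i), Units.ext hx.symm⟩
  have hrow : ∀ i, ∃ j, (g : Matrix (Fin n) (Fin n) F) i j ≠ 0 := by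
    intro i
    by_contra! h
    exact g.det.ne_zero (Matrix.det_eq_zero_of_row_eq_zero i h)
  constructor
  · intro hg i
    obtain ⟨j, hj⟩ := hrow i
    refine ⟨j, hj, fun j' hj' => ?_⟩
    by_contra hne
    obtain ⟨a, ha0, ha1⟩ := hF
    set d : Fin n → F := Function.update 1 j a with hd
    have hdj : ∀ k, d k ≠ 0 := fun k => by
      rcases eq_or_ne k j with rfl | h <;> simp [hd, *]
    let x : Matrix.GeneralLinearGroup (Fin n) F := Units.map (Matrix.diagonalRingHom (Fin n) F).toMonoidHom
      (MulEquiv.piUnits.symm fun i => Units.mk0 (d i) (hdj i))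
    have hx : (x : Matrix (Fin n) (Fin n) F) = Matrix.diagonal d := rfl
    obtain ⟨d', -, hd'⟩ := (hmem _).1 ((Subgroup.mem_normalizer_iff.1 hg x).1 ((hmem x).2 ⟨d, hdj, hx⟩))
    have e : (g : Matrix (Fin n) (Fin n) F) * Matrix.diagonal d =
        Matrix.diagonal d' * (g : Matrix (Fin n) (Fin n) F) := by
      rw [← hx, ← hd', ← Units.val_mul, ← Units.val_mul, inv_mul_cancel_right]
    have e1 := congrFun (congrFun e i) j
    have e2 := congrFun (congrFun e i) j'
    simp only [Matrix.mul_diagonal, Matrix.diagonal_mul, hd, Function.update_self,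
      Function.update_of_ne hne, Pi.one_apply, mul_one] at e1 e2
    have h1 : d' i = a := mul_right_cancel₀ hj (e1.symm.trans (mul_comm _ _))
    rw [h1] at e2
    exact ha1 (mul_right_cancel₀ hj' (e2.symm.trans (one_mul _).symm))
  · intro h
    choose π hπ hu using fun i => h i
    have hzero : ∀ i j, j ≠ π i → (g : Matrix (Fin n) (Fin n) F) i j = 0 := fun i j hj =>
      not_not.1 fun hne => hj (hu i j hne)
    have hinj : Function.Injective π := by
      intro i i' he
      by_contra hne
      set u : Fin n → F := Pi.single i ((g : Matrix (Fin n) (Fin n) F) i' (π i)) -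
        Pi.single i' ((g : Matrix (Fin n) (Fin n) F) i (π i)) with hu'
      have h0 : Matrix.vecMul u (g : Matrix (Fin n) (Fin n) F) = 0 := by
        funext j
        rw [hu', Matrix.sub_vecMul, Matrix.single_vecMul, Matrix.single_vecMul]
        by_cases hj : j = π i
        · subst hj; simp [mul_comm]
        · simp [hzero i j hj, hzero i' j (he ▸ hj)]
      have hu0 : u ≠ 0 := fun h => by
        have := congrFun h i
        simp [hu', hne] at this
        exact hπ i' (by rw [← he]; exact this)
      exact g.det.ne_zero (Matrix.exists_vecMul_eq_zero_iff.1 ⟨u, hu0, h0⟩)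
    let e : Fin n ≃ Fin n := Equiv.ofBijective π (Finite.injective_iff_bijective.1 hinj)
    have key : ∀ d : Fin n → F, (g : Matrix (Fin n) (Fin n) F) * Matrix.diagonal d =
        Matrix.diagonal (d ∘ π) * (g : Matrix (Fin n) (Fin n) F) := fun d => by
      ext i j
      by_cases hj : j = π i
      · subst hj; simp [Matrix.mul_diagonal, Matrix.diagonal_mul, mul_comm]
      · simp [Matrix.mul_diagonal, Matrix.diagonal_mul, hzero i j hj]
    refine Subgroup.mem_normalizer_iff.2 fun x => ⟨fun hx => ?_, fun hx => ?_⟩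
    · obtain ⟨d, hd, hxd⟩ := (hmem x).1 hx
      refine (hmem _).2 ⟨d ∘ π, fun i => hd _, ?_⟩
      rw [Units.val_mul, Units.val_mul, hxd, key, mul_assoc, ← Units.val_mul, mul_inv_cancel, Units.val_one,
        mul_one]
    · obtain ⟨d, hd, hxd⟩ := (hmem _).1 hx
      refine (hmem _).2 ⟨d ∘ e.symm, fun i => hd _, ?_⟩
      have h1 : d ∘ e.symm ∘ π = d := funext fun i => congrArg d (e.symm_apply_apply i)
      have h2 : (g : Matrix (Fin n) (Fin n) F) * (x : Matrix (Fin n) (Fin n) F) =
          (g : Matrix (Fin n) (Fin n) F) * Matrix.diagonal (d ∘ e.symm) := by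
        rw [key, Function.comp_assoc, h1, ← hxd, ← Units.val_mul, ← Units.val_mul, inv_mul_cancel_right]
      exact g.isUnit.mul_left_cancel h2

end Cfsg.Agent.S0770
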