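import Cfsg.Statements.S0771
import Cfsg.Agent.Lib.Classical.GLSubspace
import Cfsg.Agent.Lib.Classical.SL

set_option autoImplicit false
open Cfsg

namespace Cfsg.Agent.S0771

/-- Maximal parabolic of GL_n(q): the stabiliser of the coordinate subspace spanned by the first k basis vectors has order q^(k(n-k)) · |GL_k(q)| · |GL_(n-k)(q)| (unipotent radical of order q^(k(n-k)) and Levi complement GL_k × GL_(n-k)). -/
theorem result {F : Type*} [Field F] [Fintype F] {q : ℕ} (hF : Fintype.card F = q) (n k : ℕ) (hk : k ≤ n) : Nat.card ↥(Cfsg.stabilizing (Cfsg.glToMat (Fin n) F) {v : Fin n → F | ∀ i : Fin n, k ≤ (i : ℕ) → v i = 0}) = q ^ (k * (n - k)) * (∏ i : Fin k, (q ^ k - q ^ (i : ℕ))) * ∏ i : Fin (n - k), (q ^ (n - k) - q ^ (i : ℕ)) := by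
  have hF' : Nat.card F = q := by rw [Nat.card_eq_fintype_card, hF]
  obtain ⟨m, rfl⟩ : ∃ m, n = k + m := ⟨n - k, by omega⟩
  rw [Nat.add_sub_cancel_left]
  let ε : Fin k ⊕ Fin m ≃ Fin (k + m) := finSumFinEquiv
  let R := Matrix.reindexAlgEquiv F F ε
  have hmem : ∀ g : Matrix.GeneralLinearGroup (Fin (k + m)) F,
      g ∈ Cfsg.stabilizing (Cfsg.glToMat (Fin (k + m)) F)
          {v : Fin (k + m) → F | ∀ i : Fin (k + m), k ≤ (i : ℕ) → v i = 0} ↔
        (R.symm g.1).toBlocks₂₁ = 0 := by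
    intro g
    constructor
    · intro h
      ext i j
      exact GLSubspace.mem_stab_coord.1 h _ _ (by simp [ε]) (by simp [ε])
    · intro h
      refine GLSubspace.mem_stab_coord.2 fun i j hi hj => ?_
      obtain ⟨i', rfl⟩ : ∃ i', ε (Sum.inr i') = i :=
        ⟨⟨(i : ℕ) - k, by omega⟩, Fin.ext (by simp [ε]; omega)⟩
      obtain ⟨j', rfl⟩ : ∃ j', ε (Sum.inl j') = j := ⟨⟨j, hj⟩, Fin.ext (by simp [ε])⟩
      exact congrFun (congrFun h i') j'
  have hdet : ∀ x : Matrix.GeneralLinearGroup (Fin k) F × Matrix.GeneralLinearGroup (Fin m) F ×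
      Matrix (Fin k) (Fin m) F, (R (Matrix.fromBlocks x.1.1 x.2.2 0 x.2.1.1)).det ≠ 0 := fun x => by
    simp only [R, Matrix.reindexAlgEquiv_apply, Matrix.det_reindex_self, Matrix.det_fromBlocks_zero₂₁]
    exact mul_ne_zero x.1.det.ne_zero x.2.1.det.ne_zero
  have hdet' : ∀ g : ↥(Cfsg.stabilizing (Cfsg.glToMat (Fin (k + m)) F)
          {v : Fin (k + m) → F | ∀ i : Fin (k + m), k ≤ (i : ℕ) → v i = 0}),
      (R.symm g.1.1).toBlocks₁₁.det ≠ 0 ∧ (R.symm g.1.1).toBlocks₂₂.det ≠ 0 := fun g => by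
    have h := g.1.det.ne_zero
    change g.1.1.det ≠ 0 at h
    rw [← R.apply_symm_apply g.1.1, ← Matrix.fromBlocks_toBlocks (R.symm g.1.1), (hmem g.1).1 g.2] at h
    simp only [R, Matrix.reindexAlgEquiv_apply, Matrix.det_reindex_self, Matrix.det_fromBlocks_zero₂₁] at h
    exact mul_ne_zero_iff.1 h
  let e : ↥(Cfsg.stabilizing (Cfsg.glToMat (Fin (k + m)) F)
          {v : Fin (k + m) → F | ∀ i : Fin (k + m), k ≤ (i : ℕ) → v i = 0}) ≃
      Matrix.GeneralLinearGroup (Fin k) F × Matrix.GeneralLinearGroup (Fin m) F × Matrix (Fin k) (Fin m) F :=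
    { toFun := fun g => (Matrix.GeneralLinearGroup.mkOfDetNeZero _ (hdet' g).1,
        Matrix.GeneralLinearGroup.mkOfDetNeZero _ (hdet' g).2, (R.symm g.1.1).toBlocks₁₂)
      invFun := fun x => ⟨Matrix.GeneralLinearGroup.mkOfDetNeZero _ (hdet x), (hmem _).2 (by
        show (R.symm (R (Matrix.fromBlocks x.1.1 x.2.2 0 x.2.1.1))).toBlocks₂₁ = 0
        rw [AlgEquiv.symm_apply_apply, Matrix.toBlocks_fromBlocks₂₁])⟩
      left_inv := fun g => Subtype.ext (Units.ext (by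
        show R (Matrix.fromBlocks (R.symm g.1.1).toBlocks₁₁ (R.symm g.1.1).toBlocks₁₂ 0
          (R.symm g.1.1).toBlocks₂₂) = g.1.1
        rw [← (hmem g.1).1 g.2, Matrix.fromBlocks_toBlocks, AlgEquiv.apply_symm_apply]))
      right_inv := fun x => by
        refine Prod.ext (Units.ext ?_) (Prod.ext (Units.ext ?_) ?_)
        · show (R.symm (R (Matrix.fromBlocks x.1.1 x.2.2 0 x.2.1.1))).toBlocks₁₁ = _
          rw [AlgEquiv.symm_apply_apply, Matrix.toBlocks_fromBlocks₁₁]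
        · show (R.symm (R (Matrix.fromBlocks x.1.1 x.2.2 0 x.2.1.1))).toBlocks₂₂ = _
          rw [AlgEquiv.symm_apply_apply, Matrix.toBlocks_fromBlocks₂₂]
        · show (R.symm (R (Matrix.fromBlocks x.1.1 x.2.2 0 x.2.1.1))).toBlocks₁₂ = _
          rw [AlgEquiv.symm_apply_apply, Matrix.toBlocks_fromBlocks₁₂] }
  have hM : Nat.card (Matrix (Fin k) (Fin m) F) = q ^ (k * m) := by
    show Nat.card (Fin k → Fin m → F) = _
    rw [Nat.card_fun, Nat.card_fun, Nat.card_fin, Nat.card_fin, hF', ← pow_mul, mul_comm]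
  rw [Nat.card_congr e, Nat.card_prod, Nat.card_prod, ClassicalSL.card_gl_fin hF', ClassicalSL.card_gl_fin hF',
    hM]
  ring

end Cfsg.Agent.S0771
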