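import Cfsg.Statements.S0773
import Cfsg.Agent.Lib.Classical.GLSubspace

set_option autoImplicit false
open Cfsg

namespace Cfsg.Agent.S0773

/-- The stabilisers in GL_n(F), F finite, of the coordinate subspaces of dimensions k and n − k are isomorphic groups, but when 2k ≠ n (and 0 < k < n) no element of GL_n conjugates one onto the other. -/
theorem result {F : Type*} [Field F] [Finite F] (n k : ℕ) (hk0 : 0 < k) (hkn : k < n) (h2 : 2 * k ≠ n) : Nonempty (↥(Cfsg.stabilizing (Cfsg.glToMat (Fin n) F) {v : Fin n → F | ∀ i : Fin n, k ≤ (i : ℕ) → v i = 0}) ≃* ↥(Cfsg.stabilizing (Cfsg.glToMat (Fin n) F) {v : Fin n → F | ∀ i : Fin n, n - k ≤ (i : ℕ) → v i = 0})) ∧ ∀ g : Matrix.GeneralLinearGroup (Fin n) F, (Cfsg.stabilizing (Cfsg.glToMat (Fin n) F) {v : Fin n → F | ∀ i : Fin n, k ≤ (i : ℕ) → v i = 0}).map (MulAut.conj g).toMonoidHom ≠ Cfsg.stabilizing (Cfsg.glToMat (Fin n) F) {v : Fin n → F | ∀ i : Fin n, n - k ≤ (i : ℕ) → v i = 0} := by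
  have h1 : ∀ g : Matrix.GeneralLinearGroup (Fin n) F, g ∈ Cfsg.stabilizing (Cfsg.glToMat (Fin n) F)
      (GLSubspace.coordSub F n (n - k) : Set (Fin n → F)) → GLSubspace.dualRev n g ∈
        Cfsg.stabilizing (Cfsg.glToMat (Fin n) F) (GLSubspace.coordSub F n k : Set (Fin n → F)) := fun g hg => by
    have h := GLSubspace.dualRev_mem (by omega) hg
    rwa [Nat.sub_sub_self hkn.le] at h
  refine ⟨⟨{ toFun := fun g => ⟨GLSubspace.dualRev n g.1, GLSubspace.dualRev_mem hkn.le g.2⟩
             invFun := fun g => ⟨GLSubspace.dualRev n g.1, h1 g.1 g.2⟩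
             left_inv := fun g => Subtype.ext (GLSubspace.dualRev_dualRev g.1)
             right_inv := fun g => Subtype.ext (GLSubspace.dualRev_dualRev g.1)
             map_mul' := fun a b => Subtype.ext (map_mul (GLSubspace.dualRev n) a.1 b.1) }⟩, fun g hg => ?_⟩
  set W := GLSubspace.coordSub F n k with hW
  set U := GLSubspace.coordSub F n (n - k) with hU
  set W' := W.map (Transvec.mvLin g) with hW'
  have hdW : Module.finrank F W = k := GLSubspace.finrank_coordSub hkn.le
  have hdU : Module.finrank F U = n - k := GLSubspace.finrank_coordSub (by omega)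
  have hdW' : Module.finrank F W' = k := by
    rw [hW', ← (Submodule.equivMapOfInjective (Transvec.mvLin g)
      (fun x y e => Transvec.mv_inj g e) W).finrank_eq, hdW]
  have hle : Cfsg.stabilizing (Cfsg.glToMat (Fin n) F) (U : Set (Fin n → F)) ≤
      Cfsg.stabilizing (Cfsg.glToMat (Fin n) F) (W' : Set (Fin n → F)) := by
    intro x hx
    have hx' : x ∈ (Cfsg.stabilizing (Cfsg.glToMat (Fin n) F) (W : Set (Fin n → F))).map
        (MulAut.conj g).toMonoidHom := hg.ge hx
    obtain ⟨y, hy, rfl⟩ := hx'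
    refine GLSubspace.mem_stabilizing_of_le ?_
    rintro _ ⟨w, hw, rfl⟩
    refine ⟨Transvec.mv y w, (hy w).1 hw, ?_⟩
    show Transvec.mv g (Transvec.mv y w) = Transvec.mv (g * y * g⁻¹) (Transvec.mv g w)
    rw [Transvec.mv_mul, Transvec.mv_mul, Transvec.mv_inv_mv]
  have e := GLSubspace.stab_injective (fun h => by rw [h, finrank_bot] at hdW'; omega)
    (fun h => by rw [h, finrank_top, Module.finrank_fin_fun] at hdW'; omega) hle
    (fun h => by rw [h, finrank_bot] at hdU; omega)
  rw [e, hdU] at hdW'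
  omega

end Cfsg.Agent.S0773
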