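import Cfsg.Statements.S0774
import Cfsg.Agent.S0769
import Cfsg.Agent.Lib.Classical.Symplectic
import Mathlib.Data.Sym.Card

set_option autoImplicit false
open Cfsg

namespace Cfsg.Agent.S0774

/-- Borel subgroup of the symplectic group: the elements of Sp_2m(q) stabilising each of the totally isotropic coordinate subspaces ⟨e_0, ..., e_k⟩ (k < m) form a subgroup of order q^(m²) (q − 1)^m. -/
theorem result {F : Type*} [Field F] [Fintype F] {q : ℕ} (hF : Fintype.card F = q) (m : ℕ) : Nat.card ↥(⨅ k : Fin m, Cfsg.stabilizing (Cfsg.spToMat m F) {v : Fin m ⊕ Fin m → F | (∀ i : Fin m, (k : ℕ) < (i : ℕ) → v (Sum.inl i) = 0) ∧ ∀ i : Fin m, v (Sum.inr i) = 0}) = q ^ (m ^ 2) * (q - 1) ^ m := by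
  classical
  have hstab : ∀ (A : Matrix.symplecticGroup (Fin m) F) (S : Set (Fin m ⊕ Fin m → F)),
      (∀ v ∈ S, Matrix.mulVec A.1 v ∈ S) → A ∈ Cfsg.stabilizing (Cfsg.spToMat m F) S := by
    intro A S h v
    refine ⟨h v, fun hv => ?_⟩
    have hinj : Function.Injective (fun x : Fin m ⊕ Fin m → F => Matrix.mulVec A.1 x) := fun x y e =>
      (ClassicalSp.toEquiv A).injective e
    let φ : S → S := fun x => ⟨_, h x.1 x.2⟩
    have hφ : Function.Injective φ := fun x y e => Subtype.ext (hinj (congrArg Subtype.val e))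
    obtain ⟨w, hw⟩ := (Finite.injective_iff_surjective.1 hφ) ⟨_, hv⟩
    rw [← hinj (show (fun x : Fin m ⊕ Fin m → F => Matrix.mulVec A.1 x) w.1 = _ from congrArg Subtype.val hw)]
    exact w.2
  set B := ⨅ k : Fin m, Cfsg.stabilizing (Cfsg.spToMat m F) {v : Fin m ⊕ Fin m → F | (∀ i : Fin m,
    (k : ℕ) < (i : ℕ) → v (Sum.inl i) = 0) ∧ ∀ i : Fin m, v (Sum.inr i) = 0} with hB
  let Tri := {X : Matrix.GeneralLinearGroup (Fin m) F // ∀ i j : Fin m, i < j →
    (X : Matrix (Fin m) (Fin m) F) i j = 0}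
  let Sy := {S : Matrix (Fin m) (Fin m) F // S.transpose = S}
  let blk : Tri × Sy → Matrix (Fin m ⊕ Fin m) (Fin m ⊕ Fin m) F := fun p =>
    Matrix.fromBlocks p.1.1.1.transpose (p.1.1.1.transpose * p.2.1) 0 (p.1.1⁻¹ : Matrix.GeneralLinearGroup (Fin m) F).1
  have hsp : ∀ p, blk p ∈ Matrix.symplecticGroup (Fin m) F := fun p => by
    rw [SymplecticGroup.mem_iff]
    simp only [blk, Matrix.J, Matrix.fromBlocks_transpose, Matrix.fromBlocks_multiply, Matrix.transpose_transpose,
      Matrix.transpose_zero, Matrix.transpose_mul, p.2.2, mul_zero, zero_mul, mul_one, one_mul, add_zero,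
      zero_add, Matrix.mul_neg, Matrix.neg_mul, neg_zero, ← mul_assoc]
    rw [Units.inv_mul, add_neg_cancel, ← Matrix.transpose_mul, Units.inv_mul, Matrix.transpose_one]
  have hmem : ∀ p, (⟨blk p, hsp p⟩ : Matrix.symplecticGroup (Fin m) F) ∈ B := fun p => by
    refine Subgroup.mem_iInf.2 fun k => hstab _ _ ?_
    rintro v ⟨h1, h2⟩
    refine ⟨fun i hi => ?_, fun i => ?_⟩
    · show Matrix.mulVec (blk p) v (Sum.inl i) = 0
      simp only [Matrix.mulVec, dotProduct, Fintype.sum_sum_type, blk, Matrix.fromBlocks_apply₁₁,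
        Matrix.fromBlocks_apply₁₂, Matrix.transpose_apply, h2, mul_zero, Finset.sum_const_zero, add_zero]
      refine Finset.sum_eq_zero fun j _ => ?_
      rcases Nat.lt_or_ge (k : ℕ) (j : ℕ) with hj | hj
      · rw [h1 j hj, mul_zero]
      · rw [p.1.2 j i (by omega), zero_mul]
    · show Matrix.mulVec (blk p) v (Sum.inr i) = 0
      simp [Matrix.mulVec, dotProduct, Fintype.sum_sum_type, blk, h2]
  have hzero : ∀ A : B, (∀ i j : Fin m, A.1.1 (Sum.inr i) (Sum.inl j) = 0) ∧
      ∀ i j : Fin m, j < i → A.1.1 (Sum.inl i) (Sum.inl j) = 0 := by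
    intro A
    have key : ∀ j : Fin m, (∀ i : Fin m, (j : ℕ) < (i : ℕ) →
        Matrix.mulVec A.1.1 (Pi.single (Sum.inl j) 1) (Sum.inl i) = 0) ∧
        ∀ i, Matrix.mulVec A.1.1 (Pi.single (Sum.inl j) 1) (Sum.inr i) = 0 := fun j =>
      (Subgroup.mem_iInf.1 A.2 j (Pi.single (Sum.inl j) 1)).1
        ⟨fun i hi => by simp [show i ≠ j from fun e => by subst e; omega], fun i => by simp⟩
    exact ⟨fun i j => by simpa using (key j).2 i, fun i j hij => by simpa using (key j).1 i hij⟩
  have hform : ∀ A : B, A.1.1 = Matrix.fromBlocks A.1.1.toBlocks₁₁ A.1.1.toBlocks₁₂ 0 A.1.1.toBlocks₂₂ :=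
    fun A => by
      conv_lhs => rw [← Matrix.fromBlocks_toBlocks A.1.1]
      congr 1
      ext i j
      exact (hzero A).1 i j
  have hrel : ∀ A : B, A.1.1.toBlocks₁₁ * A.1.1.toBlocks₂₂.transpose = 1 ∧
      A.1.1.toBlocks₁₂ * A.1.1.toBlocks₁₁.transpose = A.1.1.toBlocks₁₁ * A.1.1.toBlocks₁₂.transpose := by
    intro A
    have h := SymplecticGroup.mem_iff.1 A.1.2
    rw [hform A] at h
    simp only [Matrix.J, Matrix.fromBlocks_transpose, Matrix.fromBlocks_multiply, Matrix.transpose_zero,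
      mul_zero, zero_mul, mul_one, one_mul, add_zero, zero_add, Matrix.mul_neg, Matrix.neg_mul, neg_zero,
      Matrix.fromBlocks_inj, neg_inj] at h
    exact ⟨h.2.1, add_neg_eq_zero.1 h.1⟩
  let X : B → Tri := fun A => ⟨⟨A.1.1.toBlocks₁₁.transpose, A.1.1.toBlocks₂₂,
      by
        apply Matrix.transpose_injective
        rw [Matrix.transpose_mul, Matrix.transpose_transpose, mul_eq_one_comm.1 (hrel A).1, Matrix.transpose_one],
      by
        apply Matrix.transpose_injective
        rw [Matrix.transpose_mul, Matrix.transpose_transpose, (hrel A).1, Matrix.transpose_one]⟩,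
    fun i j hij => (hzero A).2 j i hij⟩
  have hsym : ∀ A : B, (A.1.1.toBlocks₂₂.transpose * A.1.1.toBlocks₁₂).transpose =
      A.1.1.toBlocks₂₂.transpose * A.1.1.toBlocks₁₂ := fun A => by
    obtain ⟨h1, h2⟩ := hrel A
    have h3 : A.1.1.toBlocks₁₁.transpose * A.1.1.toBlocks₂₂ = 1 := by
      apply Matrix.transpose_injective
      rw [Matrix.transpose_mul, Matrix.transpose_transpose, mul_eq_one_comm.1 h1, Matrix.transpose_one]
    rw [Matrix.transpose_mul, Matrix.transpose_transpose]
    calc A.1.1.toBlocks₁₂.transpose * A.1.1.toBlocks₂₂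
        = A.1.1.toBlocks₂₂.transpose * (A.1.1.toBlocks₁₁ * A.1.1.toBlocks₁₂.transpose) * A.1.1.toBlocks₂₂ := by
          rw [← mul_assoc, mul_eq_one_comm.1 h1, one_mul]
      _ = _ := by rw [← h2, mul_assoc, mul_assoc, h3, mul_one]
  let e : B ≃ Tri × Sy :=
    { toFun := fun A => (X A, ⟨_, hsym A⟩)
      invFun := fun p => ⟨⟨blk p, hsp p⟩, hmem p⟩
      left_inv := fun A => by
        refine Subtype.ext (Subtype.ext ?_)
        show Matrix.fromBlocks A.1.1.toBlocks₁₁.transpose.transpose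
          (A.1.1.toBlocks₁₁.transpose.transpose * (A.1.1.toBlocks₂₂.transpose * A.1.1.toBlocks₁₂)) 0
          A.1.1.toBlocks₂₂ = A.1.1
        rw [Matrix.transpose_transpose, ← mul_assoc, (hrel A).1, one_mul]
        exact (hform A).symm
      right_inv := fun p => by
        refine Prod.ext (Subtype.ext (Units.ext ?_)) (Subtype.ext ?_)
        · show (blk p).toBlocks₁₁.transpose = p.1.1.1
          rw [Matrix.toBlocks_fromBlocks₁₁, Matrix.transpose_transpose]
        · show (blk p).toBlocks₂₂.transpose * (blk p).toBlocks₁₂ = p.2.1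
          rw [Matrix.toBlocks_fromBlocks₂₂, Matrix.toBlocks_fromBlocks₁₂, ← mul_assoc, ← Matrix.transpose_mul,
            Units.mul_inv, Matrix.transpose_one, one_mul] }
  have hSy : Nat.card Sy = q ^ ((m + 1).choose 2) := by
    let e2 : Sy ≃ (Sym2 (Fin m) → F) :=
      { toFun := fun S => Sym2.lift ⟨fun i j => S.1 i j, fun i j => (congrFun (congrFun S.2 i) j).symm⟩
        invFun := fun f => ⟨Matrix.of fun i j => f s(i, j), Matrix.ext fun i j => by simp [Sym2.eq_swap]⟩
        left_inv := fun S => Subtype.ext (Matrix.ext fun i j => rfl)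
        right_inv := fun f => funext fun z => by
          induction z using Sym2.inductionOn with
          | hf i j => rfl }
    rw [Nat.card_congr e2, Nat.card_fun, Nat.card_eq_fintype_card (α := F), hF,
      Nat.card_eq_fintype_card, Sym2.card, Fintype.card_fin]
  rw [Nat.card_congr e, Nat.card_prod, hSy, S0769.result hF m, Nat.choose_two_right, Nat.add_sub_cancel,
    mul_right_comm, ← pow_add]
  congr 2
  rcases m with _ | l
  · rfl
  · rw [Nat.add_sub_cancel, show (l + 1 + 1) * (l + 1) = (l + 1) * l + 2 * (l + 1) by ring,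
      Nat.add_mul_div_left _ _ (by norm_num : 0 < 2)]
    have h2 : 2 ∣ (l + 1) * l := (mul_comm l (l + 1)) ▸ (Nat.even_mul_succ_self l).two_dvd
    obtain ⟨c, hc⟩ := h2
    rw [hc, Nat.mul_div_cancel_left _ (by norm_num)]
    have : (l + 1) ^ 2 = (l + 1) * l + (l + 1) := by ring
    omega

end Cfsg.Agent.S0774
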