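import Cfsg.Statements.S0775
import Cfsg.Agent.Lib.Classical.AlternatingIso
import Cfsg.Agent.Lib.Classical.Symplectic

set_option autoImplicit false
open Cfsg

namespace Cfsg.Agent.S0775

/-- Maximal parabolics of the symplectic group: if W is a k-dimensional subspace of F^(2m) on which the symplectic form vanishes identically, its stabiliser in Sp_2m(q) has order q^(k(k+1)/2 + 2k(m−k)) · |Sp_(2m−2k)(q)| · |GL_k(q)|. -/
theorem result {F : Type*} [Field F] [Fintype F] {q : ℕ} (hF : Fintype.card F = q) (m k : ℕ) (hk : k ≤ m) (W : Submodule F (Fin m ⊕ Fin m → F)) (hWk : Module.finrank F W = k) (hW : ∀ u ∈ W, ∀ v ∈ W, Cfsg.sympForm m F u v = 0) : Nat.card ↥(Cfsg.stabilizing (Cfsg.spToMat m F) (W : Set (Fin m ⊕ Fin m → F))) = q ^ (k * (k + 1) / 2 + 2 * k * (m - k)) * (q ^ ((m - k) ^ 2) * ∏ i ∈ Finset.range (m - k), (q ^ (2 * (i + 1)) - 1)) * ∏ i : Fin k, (q ^ k - q ^ (i : ℕ)) := by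
  classical
  have hA := ClassicalSp.spBilin_isAlt (m := m) (F := F)
  have hB := ClassicalSp.spBilin_nondeg (m := m) (F := F)
  let W' : AltForm.IsoSub (ClassicalSp.spBilin m F) k :=
    ⟨W, hWk, fun u hu v hv => by rw [ClassicalSp.spBilin_apply]; exact hW u hu v hv⟩
  have h1 := AltForm.card_stab_mul hA hB W'
  have h2 := AltForm.card_isoTuple_mul k hA hB ClassicalSp.finrank_space hk
  have h4 : Nat.card (AltForm.isoGroup (ClassicalSp.spBilin m F)) = AltForm.spOrder (Nat.card F) m :=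
    AltForm.card_isoGroup hA hB ClassicalSp.finrank_space
  rw [← AltForm.card_isoSub_mul hA k, ← h4, h1, mul_assoc] at h2
  haveI : Nonempty (AltForm.IsoSub (ClassicalSp.spBilin m F) k) := ⟨W'⟩
  haveI : Finite (AltForm.IsoSub (ClassicalSp.spBilin m F) k) := Subtype.finite
  have h5 := Nat.eq_of_mul_eq_mul_left Nat.card_pos h2
  let e : ↥(Cfsg.stabilizing (Cfsg.spToMat m F) (W : Set (Fin m ⊕ Fin m → F))) ≃
      {g : AltForm.isoGroup (ClassicalSp.spBilin m F) // ∀ x, x ∈ W'.1 ↔ g.1 x ∈ W'.1} :=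
    Equiv.subtypeEquiv (ClassicalSp.spEquiv (m := m) (F := F)).toEquiv fun A => Iff.rfl
  rw [Nat.card_congr e, ← h5, Nat.card_eq_fintype_card, hF]
  simp only [AltForm.spOrder]
  ring

end Cfsg.Agent.S0775
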