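import Cfsg.Statements.S0777
import Cfsg.Agent.Lib.Classical.Symplectic

set_option autoImplicit false
open Cfsg

namespace Cfsg.Agent.S0777

/-- Weyl group of type C_m: for q ≥ 4 the diagonal matrices of Sp_2m(q) form a torus T ≅ (C_(q−1))^m (the elements stabilising every coordinate axis), and the normaliser of T in Sp_2m(q) has order 2^m · m! · (q − 1)^m. -/
theorem result {F : Type*} [Field F] [Fintype F] {q : ℕ} (hF : Fintype.card F = q) (hq : 4 ≤ q) (m : ℕ) : Nat.card ↥(Subgroup.normalizer (⨅ i : Fin m ⊕ Fin m, Cfsg.stabilizing (Cfsg.spToMat m F) ((Submodule.span F {(Pi.single i (1 : F) : Fin m ⊕ Fin m → F)} : Submodule F (Fin m ⊕ Fin m → F)) : Set (Fin m ⊕ Fin m → F)) : Set (Matrix.symplecticGroup (Fin m) F))) = 2 ^ m * Nat.factorial m * (q - 1) ^ m := by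
  classical
  set T : Subgroup (Matrix.symplecticGroup (Fin m) F) := ⨅ i : Fin m ⊕ Fin m, Cfsg.stabilizing (Cfsg.spToMat m F)
    ((Submodule.span F {(Pi.single i (1 : F) : Fin m ⊕ Fin m → F)} : Submodule F (Fin m ⊕ Fin m → F)) :
      Set (Fin m ⊕ Fin m → F)) with hT
  -- T consists of the diagonal elements
  have hdiag : ∀ A : Matrix.symplecticGroup (Fin m) F, A ∈ T ↔ ∀ l x, l ≠ x → A.1 l x = 0 := by
    intro A
    constructor
    · intro hA l x hlx
      have h := (Subgroup.mem_iInf.1 hA x (Pi.single x 1)).1 (Submodule.mem_span_singleton_self _)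
      obtain ⟨c, hc⟩ := Submodule.mem_span_singleton.1 h
      simpa [hlx] using (congrFun hc l).symm
    · intro hA
      refine Subgroup.mem_iInf.2 fun x v => ?_
      have hd : ∀ w, Matrix.mulVec A.1 w = fun l => A.1 l l * w l := fun w => funext fun l => by
        rw [Matrix.mulVec, dotProduct, Finset.sum_eq_single l (fun y _ hy => by rw [hA l y (Ne.symm hy), zero_mul])
          (fun h => absurd (Finset.mem_univ l) h)]
      have hne : ∀ l, A.1 l l ≠ 0 := fun l h0 => by
        have h1 := (ClassicalSp.toEquiv A).injective (a₁ := Pi.single l 1) (a₂ := 0) (by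
          rw [map_zero, ClassicalSp.toEquiv_apply, hd]
          funext y
          rcases eq_or_ne y l with rfl | hy
          · simp [h0]
          · simp [hy])
        simpa using congrFun h1 l
      show v ∈ Submodule.span F _ ↔ Matrix.mulVec A.1 v ∈ Submodule.span F _
      rw [hd, Submodule.mem_span_singleton, Submodule.mem_span_singleton]
      constructor
      · rintro ⟨c, rfl⟩
        refine ⟨A.1 x x * c, funext fun l => ?_⟩
        rcases eq_or_ne l x with rfl | hl
        · simp
        · simp [hl]
      · rintro ⟨c, hc⟩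
        refine ⟨c / A.1 x x, funext fun l => ?_⟩
        have h1 := congrFun hc l
        rcases eq_or_ne l x with rfl | hl
        · simp at h1
          simp [h1, hne l]
        · simp [hl] at h1
          simp [hl, h1.resolve_left (hne l)]
  -- diagonal torus elements
  let tor : (Fin m → Fˣ) → Matrix.symplecticGroup (Fin m) F := fun d =>
    ⟨Matrix.diagonal (Sum.elim (fun i => (d i : F)) (fun i => ((d i)⁻¹ : Fˣ))), by
      rw [SymplecticGroup.mem_iff]
      ext x y
      rw [Matrix.diagonal_transpose, Matrix.mul_diagonal, Matrix.diagonal_mul]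
      rcases x with i | i <;> rcases y with j | j <;> by_cases h : i = j <;>
        simp [Matrix.J, Matrix.fromBlocks, Matrix.one_apply, h]⟩
  have htor : ∀ d, tor d ∈ T := fun d => (hdiag _).2 fun l x h => Matrix.diagonal_apply_ne _ h
  have hsep : ∀ l l' : Fin m ⊕ Fin m, l ≠ l' → ∃ d, (tor d).1 l l ≠ (tor d).1 l' l' := by
    obtain ⟨a, ha0, ha⟩ := ClassicalSp.exists_sq_ne_one (F := F) (by rw [Nat.card_eq_fintype_card, hF]; exact hq)
    have ha1 : a ≠ 1 := fun h => ha (by rw [h, one_pow])
    have hai : a ≠ a⁻¹ := fun h => ha (by rw [pow_two]; nth_rewrite 2 [h]; exact mul_inv_cancel₀ ha0)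
    intro l l' hll
    refine ⟨fun i => if Sum.elim id id l = i then Units.mk0 a ha0 else 1, ?_⟩
    rcases l with i | i <;> rcases l' with j | j <;> by_cases h : i = j <;>
      simp [tor, h, ha1, hai, Ne.symm hai, inv_eq_one] at hll ⊢
  -- monomial data
  let D := Equiv.Perm (Fin m) × (Fin m → Bool) × (Fin m → Fˣ)
  let s : D → Fin m ⊕ Fin m → Fin m ⊕ Fin m := fun p =>
    Sum.elim (fun i => if p.2.1 i then Sum.inr (p.1 i) else Sum.inl (p.1 i))
      (fun i => if p.2.1 i then Sum.inl (p.1 i) else Sum.inr (p.1 i))
  let c : D → Fin m ⊕ Fin m → F := fun p =>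
    Sum.elim (fun i => (p.2.2 i : F))
      (fun i => if p.2.1 i then -((p.2.2 i : F)⁻¹) else (p.2.2 i : F)⁻¹)
  have hs : ∀ p, Function.Injective (s p) := fun p x y h => by
    rcases x with i | i <;> rcases y with j | j <;>
      rcases Bool.eq_false_or_eq_true (p.2.1 i) with hi | hi <;>
      rcases Bool.eq_false_or_eq_true (p.2.1 j) with hj | hj <;>
      simp [s, hi, hj] at h ⊢ <;>
      first
        | exact h
        | (subst h; simp [hi] at hj)
  let M : D → Matrix (Fin m ⊕ Fin m) (Fin m ⊕ Fin m) F := fun p =>
    Matrix.of fun l x => if l = s p x then c p x else 0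
  have hJ : ∀ p x y, c p x * Matrix.J (Fin m) F (s p x) (s p y) * c p y = Matrix.J (Fin m) F x y := by
    intro p x y
    rcases x with i | i <;> rcases y with j | j <;>
      rcases Bool.eq_false_or_eq_true (p.2.1 i) with hi | hi <;>
      rcases Bool.eq_false_or_eq_true (p.2.1 j) with hj | hj <;>
      by_cases h : i = j <;>
      simp [s, c, hi, hj, Matrix.J, Matrix.fromBlocks, Matrix.one_apply, h] <;>
      (subst h; simp [hi] at hj)
  have hM : ∀ p, M p ∈ Matrix.symplecticGroup (Fin m) F := fun p => by
    rw [SymplecticGroup.mem_iff']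
    ext x y
    simp only [Matrix.mul_apply, Matrix.transpose_apply, M, Matrix.of_apply, ite_mul, zero_mul, mul_ite, mul_zero,
      Finset.sum_ite_eq', Finset.mem_univ, if_true]
    exact hJ p x y
  let Ψ : D → Matrix.symplecticGroup (Fin m) F := fun p => ⟨M p, hM p⟩
  have hTfin : ∀ g : Matrix.symplecticGroup (Fin m) F, (∀ t ∈ T, g * t * g⁻¹ ∈ T) →
      g ∈ Subgroup.normalizer (T : Set (Matrix.symplecticGroup (Fin m) F)) := by
    intro g h
    refine Subgroup.mem_normalizer_iff.2 fun t => ⟨h t, fun ht => ?_⟩
    have hsub : (fun x => g * x * g⁻¹) '' (T : Set (Matrix.symplecticGroup (Fin m) F)) = T := by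
      refine Set.eq_of_subset_of_ncard_le ?_ ?_ (Set.toFinite _)
      · rintro _ ⟨x, hx, rfl⟩; exact h x hx
      · rw [Set.ncard_image_of_injective _ fun a b e => mul_left_cancel (mul_right_cancel e)]
    obtain ⟨x, hx, e⟩ := hsub.ge ht
    rwa [← mul_left_cancel (mul_right_cancel e)]
  have hrange : Set.range Ψ = Subgroup.normalizer (T : Set (Matrix.symplecticGroup (Fin m) F)) := by
    refine Set.Subset.antisymm ?_ ?_
    · rintro _ ⟨p, rfl⟩
      refine hTfin _ fun t ht => (hdiag _).2 fun l x hlx => ?_
      have ht' := (hdiag t).1 ht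
      let e := Equiv.ofBijective (s p) (Finite.injective_iff_bijective.1 (hs p))
      have key : M p * t.1 = Matrix.diagonal (fun l => t.1 (e.symm l) (e.symm l)) * M p := by
        ext a b
        rw [Matrix.diagonal_mul, Matrix.mul_apply, Finset.sum_eq_single b (fun y _ hy => by rw [ht' y b hy, mul_zero])
          (fun h => absurd (Finset.mem_univ b) h)]
        by_cases h : a = s p b
        · subst h
          simp [M, show e.symm (s p b) = b from e.symm_apply_apply b, mul_comm]
        · simp [M, h]
      have h2 : (Ψ p * t * (Ψ p)⁻¹).1 = Matrix.diagonal (fun l => t.1 (e.symm l) (e.symm l)) := by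
        rw [Submonoid.coe_mul, Submonoid.coe_mul, show (Ψ p).1 = M p from rfl, key, mul_assoc,
          show M p * (Ψ p)⁻¹.1 = 1 from congrArg Subtype.val (mul_inv_cancel (Ψ p)), mul_one]
      rw [h2, Matrix.diagonal_apply_ne _ hlx]
    · intro g hg
      have huniq : ∀ x l l', g.1 l x ≠ 0 → g.1 l' x ≠ 0 → l = l' := by
        intro x l l' hl hl'
        by_contra hne
        obtain ⟨d, hd⟩ := hsep l l' hne
        set t := g⁻¹ * tor d * g with ht
        have htT : t ∈ T := by
          refine (Subgroup.mem_normalizer_iff.1 hg t).2 ?_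
          rw [ht, show g * (g⁻¹ * tor d * g) * g⁻¹ = tor d by group]
          exact htor d
        have he : g.1 * t.1 = (tor d).1 * g.1 := by
          rw [← Submonoid.coe_mul, ← Submonoid.coe_mul, ht]
          congr 1
          group
        have hval : ∀ a, g.1 a x * t.1 x x = (tor d).1 a a * g.1 a x := fun a => by
          have h := congrFun (congrFun he a) x
          rw [Matrix.mul_apply, Finset.sum_eq_single x
            (fun y _ hy => by rw [(hdiag t).1 htT y x hy, mul_zero]) (fun h => absurd (Finset.mem_univ x) h),
            Matrix.mul_apply, Finset.sum_eq_single a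
            (fun y _ hy => by rw [(hdiag _).1 (htor d) a y (Ne.symm hy), zero_mul])
            (fun h => absurd (Finset.mem_univ a) h)] at h
          exact h
        have e1 : t.1 x x = (tor d).1 l l := mul_left_cancel₀ hl ((hval l).trans (mul_comm _ _))
        have e2 : t.1 x x = (tor d).1 l' l' := mul_left_cancel₀ hl' ((hval l').trans (mul_comm _ _))
        exact hd (e1.symm.trans e2)
      have hex : ∀ x, ∃ l, g.1 l x ≠ 0 := by
        intro x
        by_contra! h
        have h1 := (ClassicalSp.toEquiv g).injective (a₁ := Pi.single x 1) (a₂ := 0) (by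
          rw [map_zero, ClassicalSp.toEquiv_apply]
          funext l
          simp [h l])
        simpa using congrFun h1 x
      choose τ hτ using hex
      have hz : ∀ l x, l ≠ τ x → g.1 l x = 0 := fun l x h => not_not.1 fun hne => h (huniq x l (τ x) hne (hτ x))
      have hJg : ∀ x y, g.1 (τ x) x * Matrix.J (Fin m) F (τ x) (τ y) * g.1 (τ y) y = Matrix.J (Fin m) F x y := by
        intro x y
        have h := congrFun (congrFun (SymplecticGroup.mem_iff'.1 g.2) x) y
        rw [Matrix.mul_apply, Finset.sum_eq_single (τ y)
          (fun l _ hl => by rw [hz l y hl, mul_zero]) (fun h => absurd (Finset.mem_univ _) h),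
          Matrix.mul_apply, Finset.sum_eq_single (τ x)
          (fun l _ hl => by rw [Matrix.transpose_apply, hz l x hl, zero_mul]) (fun h => absurd (Finset.mem_univ _) h),
          Matrix.transpose_apply] at h
        exact h
      let πf : Fin m → Fin m := fun i => Sum.elim id id (τ (Sum.inl i))
      let b : Fin m → Bool := fun i => (τ (Sum.inl i)).isRight
      have hpart : ∀ i, τ (Sum.inr i) = if b i then Sum.inl (πf i) else Sum.inr (πf i) := fun i => by
        have h := hJg (Sum.inl i) (Sum.inr i)
        rcases h1 : τ (Sum.inl i) with a | a <;> rcases h2 : τ (Sum.inr i) with a' | a' <;>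
          rw [h1, h2] at h <;>
          by_cases haa : a = a' <;>
          simp [b, πf, h1, Matrix.J, Matrix.fromBlocks, Matrix.one_apply, haa] at h ⊢
      have hτinj : Function.Injective τ := by
        intro x y hxy
        by_contra hne
        have h1 := (ClassicalSp.toEquiv g).injective
          (a₁ := g.1 (τ y) y • Pi.single x 1) (a₂ := g.1 (τ x) x • Pi.single y 1) (by
          rw [map_smul, map_smul, ClassicalSp.toEquiv_apply, ClassicalSp.toEquiv_apply]
          funext l
          by_cases hl : l = τ x
          · subst hl; simp [hxy, mul_comm]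
          · simp [hz l x hl, hz l y (hxy ▸ hl)])
        have h2 := congrFun h1 x
        simp [hne] at h2
        exact hτ y h2
      have hπinj : Function.Injective πf := by
        intro i j hij
        rcases h1 : τ (Sum.inl i) with a | a <;> rcases h2 : τ (Sum.inl j) with a' | a' <;>
          simp [πf, h1, h2] at hij <;> subst hij
        · exact Sum.inl_injective (hτinj (h1.trans h2.symm))
        · have := hpart j
          simp [b, πf, h2] at this
          exact absurd (hτinj (h1.trans this.symm)) Sum.inl_ne_inr
        · have := hpart i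
          simp [b, πf, h1] at this
          exact absurd (hτinj (h2.trans this.symm)) Sum.inl_ne_inr
        · exact Sum.inl_injective (hτinj (h1.trans h2.symm))
      let p : D := (Equiv.ofBijective πf (Finite.injective_iff_bijective.1 hπinj), b,
        fun i => Units.mk0 _ (hτ (Sum.inl i)))
      have hsp : ∀ x, s p x = τ x := fun x => by
        rcases x with i | i
        · rcases h1 : τ (Sum.inl i) with a | a <;> simp [s, p, b, πf, h1]
        · rw [hpart i]; simp [s, p]
      have hcp : ∀ x, c p x = g.1 (τ x) x := by
        intro x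
        rcases x with i | i
        · rfl
        have hcs := hJ p (Sum.inl i) (Sum.inr i)
        rw [hsp, hsp] at hcs
        have h := (hJg (Sum.inl i) (Sum.inr i)).trans hcs.symm
        rw [show c p (Sum.inl i) = g.1 (τ (Sum.inl i)) (Sum.inl i) from rfl, mul_assoc, mul_assoc] at h
        have hne : Matrix.J (Fin m) F (τ (Sum.inl i)) (τ (Sum.inr i)) ≠ 0 := fun h0 => by
          have := hJg (Sum.inl i) (Sum.inr i)
          rw [h0, mul_zero, zero_mul] at this
          simp [Matrix.J, Matrix.fromBlocks] at this
        exact (mul_left_cancel₀ hne (mul_left_cancel₀ (hτ _) h)).symm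
      refine ⟨p, Subtype.ext (Matrix.ext fun l x => ?_)⟩
      show (if l = s p x then c p x else 0) = g.1 l x
      rw [hsp, hcp]
      split_ifs with h
      · rw [h]
      · exact (hz l x h).symm
  have hcne : ∀ p x, c p x ≠ 0 := fun p x => by
    rcases x with i | i
    · simp [c]
    · rcases Bool.eq_false_or_eq_true (p.2.1 i) with hi | hi <;> simp [c, hi]
  have hΨ : Function.Injective Ψ := by
    intro p p' h
    have hx : ∀ x, s p x = s p' x ∧ c p x = c p' x := fun x => by
      have e : M p (s p x) x = M p' (s p x) x := congrFun (congrFun (congrArg Subtype.val h) (s p x)) x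
      simp only [M, Matrix.of_apply, if_true] at e
      by_cases hh : s p x = s p' x
      · rw [if_pos hh] at e; exact ⟨hh, e⟩
      · rw [if_neg hh] at e; exact absurd e (hcne p x)
    have hi : ∀ i, p.1 i = p'.1 i ∧ p.2.1 i = p'.2.1 i := fun i => by
      have h1 := (hx (Sum.inl i)).1
      rcases Bool.eq_false_or_eq_true (p.2.1 i) with hb | hb <;>
        rcases Bool.eq_false_or_eq_true (p'.2.1 i) with hb' | hb' <;> simp [s, hb, hb'] at h1 <;>
        simp [hb, hb', h1]
    exact Prod.ext (Equiv.ext fun i => (hi i).1)
      (Prod.ext (funext fun i => (hi i).2) (funext fun i => Units.ext (hx (Sum.inl i)).2))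
  have hcard := Nat.card_congr (Equiv.ofInjective Ψ hΨ)
  rw [hrange] at hcard
  simp only [Set.iInf_eq_iInter, ← Subgroup.coe_iInf]
  refine hcard.symm.trans ?_
  rw [Nat.card_eq_fintype_card, Fintype.card_prod, Fintype.card_prod, Fintype.card_perm, Fintype.card_fun,
    Fintype.card_fun, Fintype.card_bool, Fintype.card_units, Fintype.card_fin, hF]
  ring

end Cfsg.Agent.S0777
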