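import Cfsg.Statements.S0778
import Mathlib.LinearAlgebra.SymplecticGroup

set_option autoImplicit false
open Cfsg

namespace Cfsg.Agent.S0778

/-- The elements of Sp_2m(F) stabilising both W = ⟨e_1..e_m⟩ and U = ⟨f_1..f_m⟩ form a subgroup isomorphic to GL_m(F) (block-diagonal matrices diag(X, X^(−ᵀ)) up to the sign convention of J), for m ≥ 1 or m = 0 alike. -/
theorem result {F : Type*} [Field F] (m : ℕ) : Nonempty (↥(Cfsg.stabilizing (Cfsg.spToMat m F) {v : Fin m ⊕ Fin m → F | ∀ i : Fin m, v (Sum.inr i) = 0} ⊓ Cfsg.stabilizing (Cfsg.spToMat m F) {v : Fin m ⊕ Fin m → F | ∀ i : Fin m, v (Sum.inl i) = 0}) ≃* Matrix.GeneralLinearGroup (Fin m) F) := by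
  classical
  set S := Cfsg.stabilizing (Cfsg.spToMat m F) {v : Fin m ⊕ Fin m → F | ∀ i : Fin m, v (Sum.inr i) = 0} ⊓
    Cfsg.stabilizing (Cfsg.spToMat m F) {v : Fin m ⊕ Fin m → F | ∀ i : Fin m, v (Sum.inl i) = 0} with hS
  let blk : Matrix.GeneralLinearGroup (Fin m) F → Matrix (Fin m ⊕ Fin m) (Fin m ⊕ Fin m) F := fun X =>
    Matrix.fromBlocks X.1 0 0 (X⁻¹ : Matrix.GeneralLinearGroup (Fin m) F).1.transpose
  have hsp : ∀ X, blk X ∈ Matrix.symplecticGroup (Fin m) F := fun X => by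
    rw [SymplecticGroup.mem_iff]
    simp only [blk, Matrix.J, Matrix.fromBlocks_transpose, Matrix.fromBlocks_multiply, Matrix.transpose_transpose,
      Matrix.transpose_zero, mul_zero, zero_mul, mul_one, one_mul, add_zero, zero_add, Matrix.mul_neg,
      Matrix.neg_mul, neg_zero, ← Matrix.transpose_mul, Units.mul_inv, Matrix.transpose_one]
  have hblocks : ∀ A : S, A.1.1.toBlocks₂₁ = 0 ∧ A.1.1.toBlocks₁₂ = 0 := by
    intro A
    constructor
    · ext i j
      have h := (A.2.1 (Pi.single (Sum.inl j) 1)).1 (fun l => by simp) i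
      simpa [Matrix.toBlocks₂₁] using h
    · ext i j
      have h := (A.2.2 (Pi.single (Sum.inr j) 1)).1 (fun l => by simp) i
      simpa [Matrix.toBlocks₁₂] using h
  have hform : ∀ A : S, A.1.1 = Matrix.fromBlocks A.1.1.toBlocks₁₁ 0 0 A.1.1.toBlocks₂₂ := fun A => by
    conv_lhs => rw [← Matrix.fromBlocks_toBlocks A.1.1, (hblocks A).1, (hblocks A).2]
  have hrel : ∀ A : S, A.1.1.toBlocks₁₁ * A.1.1.toBlocks₂₂.transpose = 1 := fun A => by
    have h := SymplecticGroup.mem_iff.1 A.1.2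
    rw [hform A] at h
    simp only [Matrix.J, Matrix.fromBlocks_transpose, Matrix.fromBlocks_multiply, Matrix.transpose_zero,
      mul_zero, zero_mul, mul_one, one_mul, add_zero, zero_add, Matrix.mul_neg, Matrix.neg_mul, neg_zero,
      Matrix.fromBlocks_inj, neg_inj] at h
    exact h.2.1
  have hmem : ∀ X, (⟨blk X, hsp X⟩ : Matrix.symplecticGroup (Fin m) F) ∈ S := by
    intro X
    have hup : ∀ (Y : Matrix.GeneralLinearGroup (Fin m) F) (v : Fin m ⊕ Fin m → F),
        ((∀ i, v (Sum.inr i) = 0) → ∀ i, (Matrix.mulVec (blk Y) v) (Sum.inr i) = 0) ∧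
          ((∀ i, v (Sum.inl i) = 0) → ∀ i, (Matrix.mulVec (blk Y) v) (Sum.inl i) = 0) := fun Y v =>
      ⟨fun hv i => by simp [blk, Matrix.fromBlocks_mulVec, Matrix.mulVec, dotProduct, hv],
        fun hv i => by simp [blk, Matrix.fromBlocks_mulVec, Matrix.mulVec, dotProduct, hv]⟩
    have hinv : blk X⁻¹ * blk X = 1 := by
      simp only [blk, Matrix.fromBlocks_multiply, inv_inv, ← Matrix.transpose_mul, Units.inv_mul, mul_zero, zero_mul,
        add_zero, zero_add, Matrix.transpose_one, Matrix.fromBlocks_one]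
    refine ⟨fun v => ⟨(hup X v).1, fun h => ?_⟩, fun v => ⟨(hup X v).2, fun h => ?_⟩⟩
    · have h2 := (hup X⁻¹ _).1 h
      change ∀ i, (Matrix.mulVec (blk X⁻¹) (Matrix.mulVec (blk X) v)) (Sum.inr i) = 0 at h2
      rwa [Matrix.mulVec_mulVec, hinv, Matrix.one_mulVec] at h2
    · have h2 := (hup X⁻¹ _).2 h
      change ∀ i, (Matrix.mulVec (blk X⁻¹) (Matrix.mulVec (blk X) v)) (Sum.inl i) = 0 at h2
      rwa [Matrix.mulVec_mulVec, hinv, Matrix.one_mulVec] at h2
  refine ⟨MulEquiv.symm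
    { toFun := fun X => ⟨⟨blk X, hsp X⟩, hmem X⟩
      invFun := fun A => ⟨A.1.1.toBlocks₁₁, A.1.1.toBlocks₂₂.transpose, hrel A,
        mul_eq_one_comm.1 (hrel A)⟩
      left_inv := fun X => Units.ext (Matrix.toBlocks_fromBlocks₁₁ ..)
      right_inv := fun A => by
        refine Subtype.ext (Subtype.ext ?_)
        show Matrix.fromBlocks A.1.1.toBlocks₁₁ 0 0 A.1.1.toBlocks₂₂.transpose.transpose = A.1.1
        rw [Matrix.transpose_transpose]
        exact (hform A).symm
      map_mul' := fun X Y => by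
        refine Subtype.ext (Subtype.ext ?_)
        show blk (X * Y) = blk X * blk Y
        simp only [blk, Matrix.fromBlocks_multiply, _root_.mul_inv_rev, Units.val_mul, Matrix.transpose_mul,
          mul_zero, zero_mul, add_zero, zero_add] }⟩

end Cfsg.Agent.S0778
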