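import Cfsg.Statements.S0779
import Cfsg.Agent.Lib.Classical.HermSU

set_option autoImplicit false
open Cfsg

namespace Cfsg.Agent.S0779

/-- Unitary transvections: let |F| = q², h the standard Hermitian form Σ x_i y_i^q and v ≠ 0 with h(v, v) = 0. The linear map x ↦ x + c h(x, v) v is an isometry of h if and only if c = 0 or c^(q−1) = −1. -/
theorem result {F : Type*} [Field F] [Fintype F] {q : ℕ} (hF : Fintype.card F = q ^ 2) (n : ℕ) (v : Fin n → F) (hv : v ≠ 0) (hv0 : Cfsg.hermForm n F q v v = 0) (c : F) : (∀ x y : Fin n → F, Cfsg.hermForm n F q ((Cfsg.unitaryTransvection n q v c).mulVec x) ((Cfsg.unitaryTransvection n q v c).mulVec y) = Cfsg.hermForm n F q x y) ↔ (c = 0 ∨ c ^ (q - 1) = -1) := by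
  obtain ⟨σ, hσ, hne, hinv, hq, hq2⟩ := HermStd.exists_sigma hF
  have hh := HermStd.isHerm_std hne hinv hσ n
  have hw : ∀ x : Fin n → F, (Cfsg.unitaryTransvection n q v c).mulVec x =
      x + (c * Cfsg.hermForm n F q x v) • v := by
    intro x
    rw [Cfsg.unitaryTransvection, Matrix.add_mulVec, Matrix.one_mulVec, Matrix.smul_mulVec]
    ext i
    simp only [Pi.add_apply, Pi.smul_apply, smul_eq_mul, Cfsg.hermForm, Matrix.mulVec, dotProduct,
      Matrix.vecMulVec_apply, Finset.mul_sum, Finset.sum_mul, add_right_inj]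
    exact Finset.sum_congr rfl fun j _ => by ring
  have key : ∀ x y : Fin n → F, Cfsg.hermForm n F q ((Cfsg.unitaryTransvection n q v c).mulVec x)
      ((Cfsg.unitaryTransvection n q v c).mulVec y) = Cfsg.hermForm n F q x y +
        (c + σ c) * (Cfsg.hermForm n F q x v * σ (Cfsg.hermForm n F q y v)) := by
    intro x y
    rw [hw, hw, hh.add_left, hh.add_right, hh.add_right, hh.smul_left, hh.smul_left, hh.smul_right,
      hh.smul_right, hv0, map_mul, hh.symm y v]
    ring
  have hiff : (c = 0 ∨ c ^ (q - 1) = -1) ↔ c + σ c = 0 := by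
    rw [hσ, show c + c ^ q = c * (1 + c ^ (q - 1)) by
      rw [mul_add, mul_one, ← pow_succ', Nat.sub_add_cancel (by omega)], mul_eq_zero]
    exact or_congr Iff.rfl ⟨fun h => by rw [h]; simp, fun h => eq_neg_of_add_eq_zero_right h⟩
  rw [hiff]
  constructor
  · intro h
    obtain ⟨x, hx⟩ : ∃ x, Cfsg.hermForm n F q x v ≠ 0 := by
      by_contra! hall
      exact hv (hh.nondeg v fun w => hh.eq_zero_comm.1 (hall w))
    have := (key x x).symm.trans (h x x)
    rw [add_eq_left, mul_eq_zero] at this
    exact this.resolve_right (mul_ne_zero hx ((map_ne_zero σ).2 hx))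
  · intro h x y
    rw [key, h, zero_mul, add_zero]

end Cfsg.Agent.S0779
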