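import Cfsg.Statements.S0783
import Cfsg.Agent.Lib.Classical.HermSU
import Mathlib.GroupTheory.SpecificGroups.Cyclic

set_option autoImplicit false
open Cfsg

namespace Cfsg.Agent.S0783

/-- PGU_n(q)/PSU_n(q) is cyclic of order (n, q+1): for n ≥ 2 and |F| = q² there is a surjective homomorphism from GU_n(q) onto the cyclic group of order gcd(n, q + 1) whose kernel is generated by the determinant-one elements together with the centre. -/
theorem result {F : Type*} [Field F] [Fintype F] {q : ℕ} (hF : Fintype.card F = q ^ 2) (n : ℕ) (hn : 2 ≤ n) : ∃ φ : ↥(Cfsg.GU n F q) →* Multiplicative (ZMod (Nat.gcd n (q + 1))), Function.Surjective φ ∧ φ.ker = (Matrix.GeneralLinearGroup.det : Matrix.GeneralLinearGroup (Fin n) F →* Fˣ).ker.subgroupOf (Cfsg.GU n F q) ⊔ Subgroup.center ↥(Cfsg.GU n F q) := by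
  obtain ⟨σ, hσ, hne, hinv, hq, hq2⟩ := HermStd.exists_sigma hF
  classical
  haveI : NeZero n := ⟨by omega⟩
  set d := Nat.gcd n (q + 1)
  let C := HermSU.normOne σ
  have hC : Nat.card C = q + 1 := HermSU.card_normOne hne hinv hq
  haveI hcyc : IsCyclic C := inferInstance
  haveI : NeZero (Nat.card C) := ⟨by omega⟩
  let e := zmodCyclicMulEquiv hcyc
  have hd : d ∣ Nat.card C := hC ▸ Nat.gcd_dvd_right n (q + 1)
  let r : Multiplicative (ZMod (Nat.card C)) →* Multiplicative (ZMod d) :=
    AddMonoidHom.toMultiplicative (ZMod.castHom hd (ZMod d)).toAddMonoidHom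
  let ψ : C →* Multiplicative (ZMod d) := r.comp e.symm.toMonoidHom
  have hψ : Function.Surjective ψ :=
    (Multiplicative.ofAdd.surjective.comp (ZMod.ringHom_surjective (ZMod.castHom hd (ZMod d)))
      |>.comp Multiplicative.toAdd.surjective).comp e.symm.surjective
  let det := HermSU.detHom (F := F) (q := q) (n := n) hσ
  have hdet : Function.Surjective det := HermSU.detHom_surjective hσ (by omega)
  refine ⟨ψ.comp det, hψ.comp hdet, le_antisymm ?_ (sup_le ?_ ?_)⟩
  · intro g hg
    have hg' : ψ (det g) = 1 := hg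
    obtain ⟨z, hz⟩ : ∃ z : C, z ^ n = det g := by
      set a := e.symm (det g) with ha
      have h0 : (ZMod.castHom hd (ZMod d)) (Multiplicative.toAdd a) = 0 := hg'
      obtain ⟨m, hm⟩ : ∃ m : ℤ, (m : ZMod (Nat.card C)) = Multiplicative.toAdd a :=
        ZMod.intCast_surjective _
      rw [← hm, map_intCast, ZMod.intCast_zmod_eq_zero_iff_dvd] at h0
      obtain ⟨k, hk⟩ := h0
      refine ⟨e (Multiplicative.ofAdd (((k * Nat.gcdA n (q + 1) : ℤ)) : ZMod (Nat.card C))), ?_⟩
      rw [← map_pow, ← MulEquiv.eq_symm_apply e, ← ha]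
      apply Multiplicative.toAdd.injective
      rw [toAdd_pow, toAdd_ofAdd, ← hm, nsmul_eq_mul, hk,
        show ((d : ℕ) : ℤ) = _ from Nat.gcd_eq_gcd_ab n (q + 1)]
      push_cast
      rw [show ((q : ZMod (Nat.card C)) + 1) = 0 by
        rw [← Nat.cast_add_one, ← hC, ZMod.natCast_self]]
      ring
    let S := (⟨_, HermSU.diag_mem_GU hσ (d := fun _ : Fin n => z.1) fun _ => z.2⟩ :
      Cfsg.GU n F q)
    have hScenter : S ∈ Subgroup.center (Cfsg.GU n F q) := Subgroup.mem_center_iff.2 fun h => by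
      apply Subtype.ext; apply Units.ext
      show h.1.1 * Matrix.diagonal (fun _ => ((z.1 : Fˣ) : F)) =
        Matrix.diagonal (fun _ => ((z.1 : Fˣ) : F)) * h.1.1
      ext i j; simp [mul_comm]
    rw [← inv_mul_cancel_right g S]
    refine Subgroup.mul_mem_sup ?_ hScenter
    rw [Subgroup.mem_subgroupOf, MonoidHom.mem_ker]
    have h1 : det S = z ^ n := by
      apply Subtype.ext; apply Units.ext
      show (Matrix.diagonal fun _ : Fin n => ((z.1 : Fˣ) : F)).det = _
      simp
    have h2 : det (g * S⁻¹) = 1 := by rw [map_mul, map_inv, h1, hz, mul_inv_cancel]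
    exact congrArg Subtype.val h2
  · intro g hg
    show ψ (det g) = 1
    rw [show det g = 1 from Subtype.ext hg, map_one]
  · intro g hg
    obtain ⟨c, hc⟩ := HermSU.scalar_of_commute hne hinv hσ hn hq g.1.1 fun A hA => by
      have := Subgroup.mem_center_iff.1 hg ⟨_, HermSU.toGL_mem_GU ⟨A, hA⟩⟩
      exact (congrArg (fun X : Cfsg.GU n F q => X.1.1) this).symm
    have hu : c * σ c = 1 := by
      have := congrFun (congrFun ((HermSU.mem_GU_iff hσ g.1).1 g.2) 0) 0
      simpa [hc] using this
    let z : C := ⟨Units.mk0 c (fun h => by simp [h] at hu), hu⟩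
    have hz : det g = z ^ n := by
      apply Subtype.ext; apply Units.ext
      show g.1.1.det = _
      simp [hc, z]
    show ψ (det g) = 1
    rw [hz, map_pow]
    obtain ⟨k, hk⟩ := Nat.gcd_dvd_left n (q + 1)
    apply Multiplicative.toAdd.injective
    rw [toAdd_pow, toAdd_one, hk, nsmul_eq_mul, Nat.cast_mul, ZMod.natCast_self, zero_mul, zero_mul]

end Cfsg.Agent.S0783
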