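import Cfsg.Statements.S0792
import Cfsg.Agent.Lib.Orthogonal.Generation

set_option autoImplicit false
open Cfsg

namespace Cfsg.Agent.S0792

/-- For q odd and Q with non-degenerate polar form on F^n, the determinant-one isometries form the subgroup generated by all products r_u r_v of two reflections (Q(u), Q(v) ≠ 0). -/
theorem result {F : Type*} [Field F] [Fintype F] (h2 : (2 : F) ≠ 0) {n : ℕ} (Q : QuadraticForm F (Fin n → F)) (hQ : (QuadraticMap.polarBilin Q).Nondegenerate) : Cfsg.specialIsometryGroup F ⇑Q = Subgroup.closure {g : ↥(Cfsg.isometryGroup F ⇑Q) | ∃ u v : Fin n → F, Q u ≠ 0 ∧ Q v ≠ 0 ∧ ((g : Matrix.GeneralLinearGroup (Fin n) F) : Matrix (Fin n) (Fin n) F) = Cfsg.reflectionMatrix ⇑Q u * Cfsg.reflectionMatrix ⇑Q v} := by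
  set P := Subgroup.closure {g : ↥(Cfsg.isometryGroup F ⇑Q) | ∃ u v : Fin n → F, Q u ≠ 0 ∧ Q v ≠ 0 ∧
    ((g : Matrix.GeneralLinearGroup (Fin n) F) : Matrix (Fin n) (Fin n) F)
      = Cfsg.reflectionMatrix ⇑Q u * Cfsg.reflectionMatrix ⇑Q v} with hP
  have hne : (-1 : F) ≠ 1 := fun h => h2 (by linear_combination -h)
  have hcard : Fintype.card F ≠ 2 ∨ Fintype.card (Fin n) ≠ 4 := Or.inl fun hc => h2 (by
    have h := Nat.cast_card_eq_zero F; rw [hc] at h; exact_mod_cast h)
  set d : ↥(Cfsg.isometryGroup F ⇑Q) → F :=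
    fun g => ((g : Matrix.GeneralLinearGroup (Fin n) F) : Matrix (Fin n) (Fin n) F).det with hd
  have hmem : ∀ g, g ∈ Cfsg.specialIsometryGroup F ⇑Q ↔ d g = 1 := fun g => by
    rw [Cfsg.specialIsometryGroup, MonoidHom.mem_ker, Units.ext_iff]; exact Iff.rfl
  have hdmul : ∀ a b, d (a * b) = d a * d b := fun a b => Matrix.det_mul _ _
  apply le_antisymm
  · have key : ∀ g : ↥(Cfsg.isometryGroup F ⇑Q), (d g = 1 → g ∈ P) ∧
        (d g = -1 → ∀ r : ↥(Cfsg.isometryGroup F ⇑Q), ∀ v, Q v ≠ 0 →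
          ((r : Matrix.GeneralLinearGroup (Fin n) F) : Matrix (Fin n) (Fin n) F) = Cfsg.reflectionMatrix ⇑Q v →
          r * g ∈ P) := by
      intro g
      have hg : g ∈ (⊤ : Subgroup _) := Subgroup.mem_top g
      rw [← Orth.closure_reflections_eq_top Q hQ hcard] at hg
      have step : ∀ (r x : ↥(Cfsg.isometryGroup F ⇑Q)) (v : Fin n → F), Q v ≠ 0 →
          ((r : Matrix.GeneralLinearGroup (Fin n) F) : Matrix (Fin n) (Fin n) F) = Cfsg.reflectionMatrix ⇑Q v →
          ((d x = 1 → x ∈ P) ∧ (d x = -1 → ∀ r : ↥(Cfsg.isometryGroup F ⇑Q), ∀ v, Q v ≠ 0 →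
            ((r : Matrix.GeneralLinearGroup (Fin n) F) : Matrix (Fin n) (Fin n) F) = Cfsg.reflectionMatrix ⇑Q v →
            r * x ∈ P)) →
          ((d (r * x) = 1 → r * x ∈ P) ∧ (d (r * x) = -1 → ∀ r' : ↥(Cfsg.isometryGroup F ⇑Q), ∀ v, Q v ≠ 0 →
            ((r' : Matrix.GeneralLinearGroup (Fin n) F) : Matrix (Fin n) (Fin n) F) = Cfsg.reflectionMatrix ⇑Q v →
            r' * (r * x) ∈ P)) := by
        intro r x v hv hr hx
        have hdr : d r = -1 := by
          show Matrix.det _ = _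
          rw [hr, Orth.det_reflectionMatrix Q hv]
        refine ⟨fun h => hx.2 ?_ r v hv hr, fun h r' v' hv' hr' => ?_⟩
        · rw [hdmul, hdr] at h; linear_combination -h
        · rw [hdmul, hdr] at h
          rw [← mul_assoc]
          exact P.mul_mem (Subgroup.subset_closure ⟨v', v, hv', hv, by rw [← hr, ← hr']; rfl⟩)
            (hx.1 (by linear_combination -h))
      induction hg using Subgroup.closure_induction_left with
      | one =>
        refine ⟨fun _ => P.one_mem, fun h => ?_⟩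
        simp only [hd, OneMemClass.coe_one, Units.val_one, Matrix.det_one] at h
        exact absurd h.symm hne
      | mul_left r hr x _ hx =>
        obtain ⟨v, hv, hr⟩ := hr
        exact step r x v hv hr hx
      | inv_mul_cancel r hr x _ hx =>
        obtain ⟨v, hv, hr⟩ := hr
        have hinv : r⁻¹ = r := inv_eq_of_mul_eq_one_left (by
          have h := ((Orth.eq_reflectionMatrix_iff Q hv r).1 hr).mul_self
          exact (Orth.isoEquiv Q).injective (Subtype.ext (by rw [map_mul, map_one]; exact h)))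
        rw [hinv]
        exact step r x v hv hr hx
    exact fun g hg => (key g).1 ((hmem g).1 hg)
  · rw [hP, Subgroup.closure_le]
    rintro g ⟨u, v, hu, hv, hg⟩
    rw [SetLike.mem_coe, hmem]
    show Matrix.det _ = _
    rw [hg, Matrix.det_mul, Orth.det_reflectionMatrix Q hu, Orth.det_reflectionMatrix Q hv]
    ring

end Cfsg.Agent.S0792
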