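import Cfsg.Statements.S0793
import Cfsg.Agent.Lib.Orthogonal.Matrix

set_option autoImplicit false
open Cfsg

namespace Cfsg.Agent.S0793

/-- Root elements: if Q(u) = Q(v) = 0 and f(u, v) = 0 (f the polar form), then for every c the Siegel matrix T_(u,v)(c) preserves Q, fixes u and v, and T(c) T(d) = T(c + d). -/
theorem result {F : Type*} [Field F] {n : ℕ} (Q : QuadraticForm F (Fin n → F)) (u v : Fin n → F) (hu : Q u = 0) (hv : Q v = 0) (huv : QuadraticMap.polar ⇑Q u v = 0) : (∀ c x, Q ((Cfsg.siegelMatrix ⇑Q u v c).mulVec x) = Q x) ∧ (∀ c, (Cfsg.siegelMatrix ⇑Q u v c).mulVec u = u ∧ (Cfsg.siegelMatrix ⇑Q u v c).mulVec v = v) ∧ ∀ c d, Cfsg.siegelMatrix ⇑Q u v c * Cfsg.siegelMatrix ⇑Q u v d = Cfsg.siegelMatrix ⇑Q u v (c + d) := by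
  have huu : QuadraticMap.polar (⇑Q) u u = 0 := by rw [Orth.b_self, hu, mul_zero]
  have hvv : QuadraticMap.polar (⇑Q) v v = 0 := by rw [Orth.b_self, hv, mul_zero]
  have hvu : QuadraticMap.polar (⇑Q) v u = 0 := by rw [Orth.b_comm, huv]
  refine ⟨fun c x => ?_, fun c => ⟨?_, ?_⟩, fun c d => Matrix.ext_iff_mulVec.2 fun x => ?_⟩
  · rw [Orth.siegelMatrix_mulVec]
    simp only [Orth.q_sub, Orth.q_add, Orth.q_smul, smul_sub, smul_smul, Orth.b_add_left,
      Orth.b_smul_left, Orth.b_smul_right, Orth.b_sub_right, Orth.b_comm _ x, hu, hv, hvu, huv]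
    ring
  · rw [Orth.siegelMatrix_mulVec, huu, huv]; simp
  · rw [Orth.siegelMatrix_mulVec, hvu, hvv]; simp
  · rw [← Matrix.mulVec_mulVec]
    simp only [Orth.siegelMatrix_mulVec, Orth.b_add_left, Orth.b_smul_left, Orth.b_sub_left, huu, hvv,
      hvu, huv, mul_zero, sub_zero, add_zero, sub_self]
    module

end Cfsg.Agent.S0793
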