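import Cfsg.Statements.S0800
import Cfsg.Agent.Lib.Recog.SL2Orders

set_option autoImplicit false
open Cfsg

namespace Cfsg.Agent.S0800

/-- Tori of SL_2(q): if g ∈ SL_2(q) has order coprime to the characteristic p, then the order of g divides q − 1 or q + 1. -/
theorem result {F : Type*} [Field F] [Fintype F] {q : ℕ} (hF : Fintype.card F = q) (p : ℕ) [Fact p.Prime] [CharP F p] (g : Matrix.SpecialLinearGroup (Fin 2) F) (hg : Nat.Coprime (orderOf g) p) : orderOf g ∣ q - 1 ∨ orderOf g ∣ q + 1 := by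
  have hq2 : 2 ≤ q := hF ▸ Fintype.one_lt_card
  have hev : ∀ n : ℕ, n % 2 = 0 → n / n.gcd 2 * 2 = n := fun n hn => by
    rw [Nat.gcd_eq_right (Nat.dvd_of_mod_eq_zero hn),
      Nat.div_mul_cancel (Nat.dvd_of_mod_eq_zero hn)]
  have hod : ∀ n : ℕ, n % 2 = 1 → n / n.gcd 2 = n := fun n hn => by
    rw [Nat.Coprime.gcd_eq_one (Nat.coprime_two_right.2 (Nat.odd_iff.2 hn)), Nat.div_one]
  have key : ∀ d : ℕ, g ^ d ∈ Subgroup.center (Matrix.SpecialLinearGroup (Fin 2) F) →
      orderOf g ∣ d * 2 ∧ (p = 2 → orderOf g ∣ d) := by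
    intro d h
    refine ⟨?_, fun hp2 => ?_⟩
    · obtain ⟨c, hc, hgc⟩ := Cfsg.Agent.SL2Orders.exists_scalar_of_mem_center _ h
      refine orderOf_dvd_of_pow_eq_one ?_
      rw [pow_mul]
      apply Subtype.ext
      rw [Matrix.SpecialLinearGroup.coe_pow, hgc, smul_pow, pow_two, hc, one_smul, one_pow]
      rfl
    · subst hp2
      rw [Cfsg.Agent.SL2Orders.center_eq_bot, Subgroup.mem_bot] at h
      exact orderOf_dvd_of_pow_eq_one h
  by_cases hp2 : p = 2
  · have hq : q % 2 = 0 := hF ▸ FiniteField.even_card_of_char_two (by rw [ringChar.eq F p, hp2])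
    rcases Cfsg.Agent.SL2Orders.trichotomy p _ _
      (Cfsg.Agent.SL2Orders.dvd_two_mul_div_gcd (Fintype.card F - 1))
      (Cfsg.Agent.SL2Orders.dvd_two_mul_div_gcd (Fintype.card F + 1)) g with h | h | h
    · left
      rw [Nat.Coprime.eq_one_of_dvd hg ((key p h).2 hp2)]
      exact one_dvd _
    · left
      have := (key _ h).2 hp2
      rwa [hF, hod _ (by omega)] at this
    · right
      have := (key _ h).2 hp2
      rwa [hF, hod _ (by omega)] at this
  · have hq : q % 2 = 1 := hF ▸ FiniteField.odd_card_of_char_ne_two (by rwa [ringChar.eq F p])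
    rcases Cfsg.Agent.SL2Orders.trichotomy p _ _
      (Cfsg.Agent.SL2Orders.dvd_two_mul_div_gcd (Fintype.card F - 1))
      (Cfsg.Agent.SL2Orders.dvd_two_mul_div_gcd (Fintype.card F + 1)) g with h | h | h
    · exact Or.inl ((hg.dvd_of_dvd_mul_left (key p h).1).trans
        (Nat.dvd_of_mod_eq_zero (by omega)))
    · left
      have := (key _ h).1
      rwa [hF, hev _ (by omega)] at this
    · right
      have := (key _ h).1
      rwa [hF, hev _ (by omega)] at this

end Cfsg.Agent.S0800
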