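import Cfsg.Statements.S0805
import Cfsg.Agent.Lib.Classical.PSL2Subfield

set_option autoImplicit false
open Cfsg

namespace Cfsg.Agent.S0805

/-- Subfield subgroups: let F be a finite field of odd order q and K a finite field with |K|^m = q, m ≥ 1. Then PSL_2(F) has a subgroup isomorphic to PSL_2(K), and has a subgroup isomorphic to PGL_2(K) if and only if m is even. -/
theorem result {F K : Type*} [Field F] [Fintype F] [Field K] [Fintype K] {q : ℕ} (hF : Fintype.card F = q) (hodd : Odd q) (m : ℕ) (hm : 1 ≤ m) (hK : Fintype.card K ^ m = q) : (∃ H : Subgroup (Matrix.ProjectiveSpecialLinearGroup (Fin 2) F), Nonempty (H ≃* Matrix.ProjectiveSpecialLinearGroup (Fin 2) K)) ∧ ((∃ H : Subgroup (Matrix.ProjectiveSpecialLinearGroup (Fin 2) F), Nonempty (H ≃* Matrix.ProjGenLinGroup (Fin 2) K)) ↔ Even m) := by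
  have hN : Nat.card F = q := by rw [Nat.card_eq_fintype_card, hF]
  have hk : Nat.card K ^ m = Nat.card F := by
    rw [hN, Nat.card_eq_fintype_card, hK]
  obtain ⟨f⟩ := PSL2Field.exists_ringHom hk
  refine ⟨?_, ?_⟩
  · obtain ⟨φ, hφ⟩ := PSL2Field.exists_psl_hom f
    exact ⟨φ.range, ⟨(MonoidHom.ofInjective hφ).symm⟩⟩
  have hkodd : Nat.card K % 2 = 1 := by
    rw [← hK, ← Nat.card_eq_fintype_card] at hodd
    exact Nat.odd_iff.1 ((Nat.odd_pow_iff (by omega)).1 hodd)
  have hk1 : 1 < Nat.card K := Finite.one_lt_card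
  have hqodd : q % 2 = 1 := Nat.odd_iff.1 hodd
  constructor
  · rintro ⟨H, ⟨e⟩⟩
    by_contra hm2
    obtain ⟨l, rfl⟩ := Nat.not_even_iff_odd.1 hm2
    -- q is congruent to |K| modulo 2(|K| - 1)
    have hmod : q ≡ Nat.card K [MOD 2 * (Nat.card K - 1)] := by
      rw [← hN, ← hk, pow_succ, pow_mul]
      have h2 : Nat.card K ^ 2 ≡ 1 [MOD 2 * (Nat.card K - 1)] := by
        refine ((Nat.modEq_iff_dvd' (Nat.one_le_pow _ _ (by omega))).2 ?_).symm
        refine ⟨(Nat.card K + 1) / 2, ?_⟩
        obtain ⟨j, hj⟩ : ∃ j, Nat.card K = 2 * j + 1 := ⟨Nat.card K / 2, by omega⟩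
        rw [hj, show 2 * j + 1 - 1 = 2 * j by omega, show (2 * j + 1 + 1) / 2 = j + 1 by omega,
          show (2 * j + 1) ^ 2 = 4 * (j * (j + 1)) + 1 by ring, Nat.add_sub_cancel]
        ring
      have h3 := (h2.pow l).mul_right (Nat.card K)
      rwa [one_pow, one_mul] at h3
    have hlow : Nat.card K ≤ q := by
      rw [← hN, ← hk]
      exact Nat.le_self_pow (by omega) _
    have hd := (Nat.modEq_iff_dvd' hlow).1 hmod.symm
    obtain ⟨c, hc⟩ := hd
    obtain ⟨x, hx⟩ := PSL2Field.exists_pgl_orderOf (K := K)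
    let y : Matrix.ProjectiveSpecialLinearGroup (Fin 2) F := (e.symm x).1
    have hy : orderOf y = Nat.card K - 1 := by
      rw [Subgroup.orderOf_coe, e.symm.orderOf_eq, hx]
    obtain ⟨p, hcp⟩ := CharP.exists F
    obtain ⟨a, hp, ha⟩ := FiniteField.card F p
    haveI := Fact.mk hp
    have hp2 : p % 2 = 1 := by
      rw [hF] at ha
      have := (Nat.odd_pow_iff a.ne_zero).1 (ha ▸ hodd)
      exact Nat.odd_iff.1 this
    have hd' : ∀ t : ℕ, y ^ t = 1 → Nat.card K - 1 ∣ t := fun t ht => hy ▸ orderOf_dvd_of_pow_eq_one ht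
    obtain ⟨j, hj⟩ : ∃ j, Nat.card K = 2 * j + 1 := ⟨Nat.card K / 2, by omega⟩
    rcases SL2Orders.psl_cases p y with h | h | h
    · have := (show 2 ∣ Nat.card K - 1 by omega).trans (hd' _ h)
      omega
    · obtain ⟨s, hs⟩ := hd' _ h
      rw [SL2Orders.halfPred, hF, Nat.gcd_eq_right (show 2 ∣ q - 1 by omega), hj,
        show 2 * j + 1 - 1 = 2 * j by omega] at hs
      rw [hj, show 2 * j + 1 - 1 = 2 * j by omega] at hc
      have e1 : 2 * (2 * j * s) = 2 * (2 * j) * c + 2 * j := by omega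
      have e2 : 2 * j * (2 * s) = 2 * j * (2 * c + 1) := by rw [mul_add, mul_one]; linarith
      have := Nat.eq_of_mul_eq_mul_left (by omega) e2
      omega
    · obtain ⟨s, hs⟩ := hd' _ h
      rw [SL2Orders.halfSucc, hF, Nat.gcd_eq_right (show 2 ∣ q + 1 by omega), hj,
        show 2 * j + 1 - 1 = 2 * j by omega] at hs
      rw [hj, show 2 * j + 1 - 1 = 2 * j by omega] at hc
      have e1 : 2 * j * (2 * s) = 2 * j * (2 * c + 1) + 2 := by
        rw [mul_add, mul_one, show 2 * j * (2 * s) = 2 * (2 * j * s) by ring,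
          show 2 * j * (2 * c) = 2 * (2 * j) * c by ring]
        omega
      have hdvd : 2 * j ∣ 2 := (Nat.dvd_add_right (dvd_mul_right _ (2 * c + 1))).1 (e1 ▸ dvd_mul_right _ _)
      have hj1 : j = 1 := by
        have := Nat.le_of_dvd (by norm_num) hdvd
        omega
      -- the case of three elements
      let g : GL (Fin 2) K := Matrix.GeneralLinearGroup.mkOfDetNeZero !![1, 1; -1, 1] (by
        simp [Matrix.det_fin_two]
        exact fun h => (PSL2Sub.two_ne_zero_of_odd (F := K) (Nat.odd_iff.2 hkodd))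
          (by linear_combination h))
      have h2K : (2 : K) ≠ 0 := PSL2Sub.two_ne_zero_of_odd (Nat.odd_iff.2 hkodd)
      have hg2 : (g ^ 2).1 = !![0, 2; -2, 0] := by
        rw [pow_two, Units.val_mul]
        ext i j
        fin_cases i <;> fin_cases j <;>
          simp [g, Matrix.GeneralLinearGroup.mkOfDetNeZero, Matrix.mul_apply, Fin.sum_univ_two] <;> norm_num
      have h4 : orderOf (Matrix.ProjGenLinGroup.mk g) = 4 := by
        refine orderOf_eq_prime_pow (p := 2) (n := 1) (hp := ⟨Nat.prime_two⟩) ?_ ?_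
        · rw [pow_one, ← map_pow, Matrix.ProjGenLinGroup.mk_eq_one,
            Matrix.GeneralLinearGroup.center_eq_range_scalar]
          rintro ⟨v, hv⟩
          have h01 := congrFun (congrFun ((congrArg Units.val hv).trans hg2) 0) 1
          simp at h01
          exact h2K h01.symm
        · rw [← map_pow, Matrix.ProjGenLinGroup.mk_eq_one, Subgroup.mem_center_iff]
          intro z
          apply Units.ext
          have : (g ^ 2 ^ (1 + 1)).1 = (-4 : K) • 1 := by
            rw [show (2 : ℕ) ^ (1 + 1) = 2 * 2 from rfl, pow_mul, pow_two (g ^ 2), Units.val_mul, hg2]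
            ext i j
            fin_cases i <;> fin_cases j <;> simp [Matrix.mul_apply, Fin.sum_univ_two] <;> norm_num
          rw [Units.val_mul, Units.val_mul, this]
          simp
      have h16 := PSL2Sub.sq_mod_of_orderOf_four (F := F)
        (x := (e.symm (Matrix.ProjGenLinGroup.mk g)).1)
        (by rw [Subgroup.orderOf_coe, e.symm.orderOf_eq, h4])
      have h9 : q % 8 = 3 := by
        rw [← hN, ← hk, hj, hj1, pow_succ, pow_mul, Nat.mul_mod, Nat.pow_mod]
        norm_num
      have := PSL2Sub.mod_eight_of_sq (hN ▸ h16)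
      omega
  · intro hm2
    obtain ⟨φ, hφ⟩ := PSL2Field.exists_pgl_hom f fun a => by
      rcases eq_or_ne a 0 with rfl | ha
      · exact ⟨0, by simp⟩
      have hc : ringChar F ≠ 2 := fun h => by
        haveI := ringChar.of_eq h
        exact PSL2Sub.two_ne_zero_of_odd (F := F) (by rw [hN]; exact hodd) CharTwo.two_eq_zero
      rw [FiniteField.isSquare_iff hc ((map_ne_zero f).2 ha), ← map_pow, hF]
      obtain ⟨l, rfl⟩ := hm2
      have hdvd : Nat.card K - 1 ∣ q / 2 := by
        obtain ⟨j, hj⟩ : ∃ j, Nat.card K = 2 * j + 1 := ⟨Nat.card K / 2, by omega⟩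
        have h1 : Nat.card K ^ 2 - 1 ∣ q - 1 := by
          rw [← hN, ← hk, ← two_mul, pow_mul]
          exact Nat.sub_one_dvd_pow_sub_one _ l
        obtain ⟨c, hc⟩ := h1
        rw [hj, show (2 * j + 1) ^ 2 = 2 * (2 * j * (j + 1)) + 1 by ring, Nat.add_sub_cancel,
          mul_assoc 2] at hc
        rw [hj, show 2 * j + 1 - 1 = 2 * j by omega]
        exact ⟨(j + 1) * c, by rw [← mul_assoc]; omega⟩
      obtain ⟨c, hc⟩ := hdvd
      rw [hc, pow_mul, Nat.card_eq_fintype_card, FiniteField.pow_card_sub_one_eq_one a ha, one_pow,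
        map_one]
    exact ⟨φ.range, ⟨(MonoidHom.ofInjective hφ).symm⟩⟩

end Cfsg.Agent.S0805
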