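import Cfsg.Statements.S0809
import Cfsg.Agent.Lib.Classical.PSL2Subgroups

set_option autoImplicit false
open Cfsg

namespace Cfsg.Agent.S0809

/-- In SL_2(q), q odd: any two subgroups of order 4 are conjugate, and the normaliser of a subgroup of order 4 has order 2(q − 1) if q ≡ 1 (mod 4) and 2(q + 1) if q ≡ 3 (mod 4); consequently all involutions of PSL_2(q) are conjugate. -/
theorem result {F : Type*} [Field F] [Fintype F] {q : ℕ} (hF : Fintype.card F = q) (hodd : Odd q) (A : Subgroup (Matrix.SpecialLinearGroup (Fin 2) F)) (hA : Nat.card A = 4) : (∀ B : Subgroup (Matrix.SpecialLinearGroup (Fin 2) F), Nat.card B = 4 → ∃ g : Matrix.SpecialLinearGroup (Fin 2) F, B = A.map (MulAut.conj g).toMonoidHom) ∧ (q % 4 = 1 → Nat.card ↥(Subgroup.normalizer (A : Set (Matrix.SpecialLinearGroup (Fin 2) F))) = 2 * (q - 1)) ∧ (q % 4 = 3 → Nat.card ↥(Subgroup.normalizer (A : Set (Matrix.SpecialLinearGroup (Fin 2) F))) = 2 * (q + 1)) ∧ (∀ x y : Matrix.ProjectiveSpecialLinearGroup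 (Fin 2) F, orderOf x = 2 → orderOf y = 2 → IsConj x y) := by
  have hN : Nat.card F = q := by rw [Nat.card_eq_fintype_card, hF]
  have h2 : (2 : F) ≠ 0 := PSL2Sub.two_ne_zero_of_odd (hN.symm ▸ hodd)
  obtain ⟨g, rfl⟩ := PSL2Sub.conj_of_card_four h2 A hA
  have hnorm : Nat.card ↥(Subgroup.normalizer (((Subgroup.zpowers SL2Inv.w).map
      (MulAut.conj g).toMonoidHom : Subgroup (Matrix.SpecialLinearGroup (Fin 2) F)) :
        Set (Matrix.SpecialLinearGroup (Fin 2) F))) =
      2 * if q % 4 = 1 then q - 1 else q + 1 := by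
    rw [← Subgroup.map_equiv_normalizer_eq, ← Nat.card_congr (Subgroup.equivMapOfInjective _ (MulAut.conj g).toMonoidHom (MulAut.conj g).injective).toEquiv,
      PSL2Sub.card_normalizer_zpowers_w h2, SL2Inv.card_C h2, hN]
  refine ⟨fun B hB => ?_, fun h4 => ?_, fun h4 => ?_, fun x y hx hy => ?_⟩
  · obtain ⟨k, rfl⟩ := PSL2Sub.conj_of_card_four h2 B hB
    refine ⟨k * g⁻¹, ?_⟩
    rw [Subgroup.map_map, show (MulAut.conj (k * g⁻¹)).toMonoidHom.comp (MulAut.conj g).toMonoidHom =
      (MulAut.conj k).toMonoidHom from MonoidHom.ext fun z => by simp [mul_assoc]]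
  · rw [hnorm, if_pos h4]
  · rw [hnorm, if_neg (by omega)]
  · have hi : ∀ z : Matrix.ProjectiveSpecialLinearGroup (Fin 2) F, orderOf z = 2 →
        IsConj (PSL2Inv.pr SL2Inv.w) z := fun z hz => PSL2Inv.isConj_pr_w h2
      (by have h := pow_orderOf_eq_one z; rwa [hz, pow_two] at h)
      (fun h => by rw [h, orderOf_one] at hz; exact absurd hz (by norm_num))
    exact (hi x hx).symm.trans (hi y hy)

end Cfsg.Agent.S0809
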