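import Cfsg.Statements.S0810
import Cfsg.Agent.Lib.Classical.DicksonSolvable
import Cfsg.Agent.Lib.Classical.PSL2Subfield
import Cfsg.Agent.S0804

set_option autoImplicit false
open Cfsg

namespace Cfsg.Agent.S0810

/-- PSL_2(q) is minimal simple iff q is 2^r (r prime), 3^r (r an odd prime), a prime greater than 5 congruent to 2 or 3 mod 5, or 5. -/
theorem result {F : Type*} [Field F] [Fintype F] {q : ℕ} (hF : Fintype.card F = q) : Cfsg.IsMinimalSimple (Matrix.ProjectiveSpecialLinearGroup (Fin 2) F) ↔ ((∃ r : ℕ, r.Prime ∧ q = 2 ^ r) ∨ (∃ r : ℕ, r.Prime ∧ r ≠ 2 ∧ q = 3 ^ r) ∨ (q.Prime ∧ 5 < q ∧ (q % 5 = 2 ∨ q % 5 = 3)) ∨ q = 5) := by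
  classical
  obtain ⟨p, hp⟩ := CharP.exists F
  obtain ⟨n, hpp, hn⟩ := FiniteField.card F p
  haveI := Fact.mk hpp
  have hq : Nat.card F = q := by rw [Nat.card_eq_fintype_card, hF]
  have hqn : q = p ^ (n : ℕ) := hF.symm.trans hn
  have hz := Dickson.gcd_mul_card_psl (K := F)
  rw [hq] at hz
  constructor
  · rintro ⟨hs, hnc, hall⟩
    have hnsol : ¬ Group.IsSolvable (Matrix.ProjectiveSpecialLinearGroup (Fin 2) F) := fun h =>
      hnc ⟨⟨IsSimpleGroup.comm_iff_isSolvable.2 h⟩⟩
    have hq4 : 4 ≤ q := by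
      by_contra h
      refine hnsol (Dickson.isSolvable_of_small ?_)
      have h1 := Fintype.one_lt_card (α := F)
      rcases (show q = 2 ∨ q = 3 by omega) with h' | h' <;> rw [h'] at hz <;> simp only [Nat.reducePow, Nat.reduceSub, Nat.reduceMul, Nat.reduceGcd, one_mul] at hz <;> omega
    have hA5 : 5 ∣ q * (q ^ 2 - 1) → Nat.card (Matrix.ProjectiveSpecialLinearGroup (Fin 2) F) = 60 := by
      intro h5
      obtain ⟨H, ⟨e⟩⟩ := (S0804.result (F := F) hF).2 h5
      have hc : Nat.card H = 60 := by rw [Nat.card_congr e.toEquiv, Dickson.card_a5]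
      by_contra h60
      have hne : H ≠ ⊤ := fun h => h60 (by rw [← Subgroup.card_top, ← h, hc])
      haveI := hall H hne
      exact Dickson.not_isSolvable_a5
        (Group.isSolvable_of_isSolvable_injective (f := e.symm.toMonoidHom) e.symm.injective)
    have hsub : ∀ d m : ℕ, d * m = n → 2 ≤ m → p ^ d < 4 := by
      intro d m hdm hm
      by_contra h4
      push Not at h4
      have hd : d ≠ 0 := by rintro rfl; simp at h4
      let K := GaloisField p d
      have hK : Nat.card K = p ^ d := GaloisField.card p d hd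
      have hKF : Nat.card K ^ m = Nat.card F := by rw [hK, ← pow_mul, hdm, hq, hqn]
      obtain ⟨f⟩ := PSL2Field.exists_ringHom hKF
      obtain ⟨φ, hφ⟩ := PSL2Field.exists_psl_hom f
      have hne : φ.range ≠ ⊤ := fun h => by
        have h1 := Nat.card_congr ((MonoidHom.ofInjective hφ).trans
          ((MulEquiv.subgroupCongr h).trans Subgroup.topEquiv)).toEquiv
        have h2 := Dickson.card_psl_le (K := K)
        have h3 : Nat.card K ^ 2 ≤ q := by
          rw [← hq, ← hKF]; exact Nat.pow_le_pow_right (by omega) hm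
        have h5 : Nat.gcd 2 (q - 1) ≤ 2 := Nat.gcd_le_left _ (by norm_num)
        rw [h1] at h2
        rw [hK] at h2 h3
        set k := p ^ d
        obtain ⟨a, ha⟩ := Nat.exists_eq_add_of_le (Nat.one_le_pow 2 k (by omega))
        obtain ⟨b, hb⟩ := Nat.exists_eq_add_of_le (Nat.one_le_pow 2 q (by omega))
        rw [ha, add_tsub_cancel_left] at h2
        rw [hb, add_tsub_cancel_left] at hz
        nlinarith [Nat.pow_le_pow_left h3 2, Nat.pow_le_pow_left h4 2]
      haveI := hall _ hne
      exact Dickson.not_isSolvable_psl (F := K) (hK ▸ h4) (Group.isSolvable_of_isSolvable_injective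
        (f := (MonoidHom.ofInjective hφ).toMonoidHom) (MonoidHom.ofInjective hφ).injective)
    have hsmall : Nat.card (Matrix.ProjectiveSpecialLinearGroup (Fin 2) F) = 60 → q ≤ 5 := by
      intro h60
      rw [h60] at hz
      by_contra h
      have h5 : Nat.gcd 2 (q - 1) ≤ 2 := Nat.gcd_le_left _ (by norm_num)
      have h35 : 6 * (6 ^ 2 - 1) ≤ q * (q ^ 2 - 1) :=
        Nat.mul_le_mul (by omega) (Nat.sub_le_sub_right (Nat.pow_le_pow_left (by omega) 2) 1)
      omega
    rcases eq_or_ne (n : ℕ) 1 with h1 | h1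
    · rw [h1, pow_one] at hqn
      subst hqn
      have hp6 : q ≠ 4 := fun h => absurd hpp (by rw [h]; norm_num)
      rcases eq_or_ne q 5 with h | h
      · exact Or.inr (Or.inr (Or.inr h))
      refine Or.inr (Or.inr (Or.inl ⟨hpp, by omega, ?_⟩))
      by_contra hmod
      have h5 : q % 5 = 0 ∨ q % 5 = 1 ∨ q % 5 = 4 := by omega
      have := hsmall (hA5 (by
        rcases h5 with h5 | h5 | h5
        · exact dvd_mul_of_dvd_left (Nat.dvd_of_mod_eq_zero h5) _
        all_goals
          refine dvd_mul_of_dvd_right (Nat.dvd_of_mod_eq_zero (Nat.sub_mod_eq_zero_of_mod_eq ?_)) _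
          rw [Nat.pow_mod, h5]))
      omega
    · have hnp : Nat.Prime n := by
        by_contra hnn
        have hmf := (Nat.minFac_prime h1).two_le
        have hdvd := Nat.minFac_dvd (n : ℕ)
        have h2 := hsub (n / Nat.minFac n) (Nat.minFac n) (Nat.div_mul_cancel hdvd) hmf
        have hd2 : 2 ≤ (n : ℕ) / Nat.minFac n := by
          by_contra hlt
          have := Nat.div_mul_cancel hdvd
          rcases Nat.le_one_iff_eq_zero_or_eq_one.1 (Nat.lt_succ_iff.1 (Nat.not_le.1 hlt)) with h | h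
          · rw [h, zero_mul] at this; exact n.ne_zero this.symm
          · rw [h, one_mul] at this; exact hnn (this ▸ Nat.minFac_prime h1)
        exact absurd h2 (Nat.not_lt.2 (le_trans (show 4 ≤ 2 ^ 2 by norm_num)
          (le_trans (Nat.pow_le_pow_right (show 0 < 2 by norm_num) hd2) (Nat.pow_le_pow_left hpp.two_le _))))
      have hp4 := hsub 1 n (one_mul _) hnp.two_le
      rw [pow_one] at hp4
      rcases (show p = 2 ∨ p = 3 by have := hpp.two_le; omega) with h | h
      · exact Or.inl ⟨n, hnp, by rw [hqn, h]⟩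
      · refine Or.inr (Or.inl ⟨n, hnp, fun h2 => ?_, by rw [hqn, h]⟩)
        rw [h, h2] at hqn
        norm_num at hqn
        have := hsmall (hA5 (by rw [hqn]; norm_num))
        omega
  · intro h
    have hq4 : 4 ≤ q := by
      rcases h with ⟨r, hr, e⟩ | ⟨r, hr, -, e⟩ | ⟨-, h, -⟩ | h
      · rw [e]; exact (show 4 = 2 ^ 2 by norm_num).le.trans (Nat.pow_le_pow_right (by norm_num) hr.two_le)
      · rw [e]; exact le_trans (by norm_num : 4 ≤ 3 ^ 2) (Nat.pow_le_pow_right (by norm_num) hr.two_le)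
      · omega
      · omega
    refine ⟨Matrix.ProjectiveSpecialLinearGroup.rank_two_simple (hq.symm ▸ hq4),
      Dickson.not_comm_psl (hq.symm ▸ hq4), fun H hH => ?_⟩
    by_contra hsol
    rcases Dickson.proper_not_solvable p hH hsol with ⟨⟨e⟩⟩ | ⟨k, m, hk, hm, hkm⟩
    · have h5 := (S0804.result (F := F) hF).1 ⟨H, ⟨e⟩⟩
      have hlt : Nat.card H < Nat.card (Matrix.ProjectiveSpecialLinearGroup (Fin 2) F) := by
        rw [← Subgroup.card_top (G := Matrix.ProjectiveSpecialLinearGroup (Fin 2) F)]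
        exact Set.ncard_lt_ncard (SetLike.coe_ssubset_coe.2 hH.lt_top) (Set.toFinite _)
      rw [Nat.card_congr e.toEquiv, Dickson.card_a5] at hlt
      have h5' : ∀ r, Odd r → ∀ b, b ^ 2 % 5 = 4 → b % 5 ≠ 0 → q = b ^ r → False := by
        intro r hr b hb2 hb0 hqb
        obtain ⟨t, ht⟩ := hr
        have h2 : q ^ 2 % 5 = 4 := by
          rw [hqb, ← pow_mul, mul_comm, pow_mul, Nat.pow_mod, hb2, ht, pow_succ, pow_mul, Nat.mul_mod, Nat.pow_mod]
          norm_num
        rcases (Nat.Prime.dvd_mul Nat.prime_five).1 h5 with h | h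
        · rw [hqb] at h
          exact hb0 (Nat.mod_eq_zero_of_dvd (Nat.prime_five.dvd_of_dvd_pow h))
        · have := Nat.one_le_pow 2 q (by omega)
          omega
      rcases h with ⟨r, hr, e⟩ | ⟨r, hr, hr2, e⟩ | ⟨-, -, h⟩ | h
      · rcases eq_or_ne r 2 with h | h
        · rw [e, h] at hz; simp only [Nat.reducePow, Nat.reduceSub, Nat.reduceMul, Nat.reduceGcd, one_mul] at hz; omega
        · exact h5' r (hr.odd_of_ne_two h) 2 rfl (by norm_num) e
      · exact h5' r (hr.odd_of_ne_two hr2) 3 rfl (by norm_num) e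
      · exact h5' 1 odd_one q (by rw [Nat.pow_mod]; rcases h with h | h <;> rw [h]) (by omega) (pow_one q).symm
      · rw [h] at hz; simp only [Nat.reducePow, Nat.reduceSub, Nat.reduceMul, Nat.reduceGcd, one_mul] at hz; omega
    · rw [hq] at hkm
      have hpow : ∀ b r : ℕ, b.Prime → b < 4 → r.Prime → q = b ^ r → False := by
        intro b r hb hb4 hr hqb
        obtain ⟨j, -, rfl⟩ := (Nat.dvd_prime_pow hb).1 (show k ∣ b ^ r by
          rw [← hqb, ← hkm]; exact dvd_pow_self k (by omega))
        rw [hqb, ← pow_mul] at hkm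
        have hjr := Nat.pow_right_injective hb.two_le hkm
        rcases (Nat.dvd_prime hr).1 (Dvd.intro m hjr) with h | h
        · rw [h, pow_one] at hk; omega
        · rw [h] at hjr
          have : m = 1 := (mul_eq_left₀ hr.ne_zero).1 hjr
          omega
      rcases h with ⟨r, hr, e⟩ | ⟨r, hr, -, e⟩ | ⟨hqp, -, -⟩ | h
      · exact hpow 2 r Nat.prime_two (by norm_num) hr e
      · exact hpow 3 r Nat.prime_three (by norm_num) hr e
      · exact (Nat.Prime.not_prime_pow hm) (hkm ▸ hqp)
      · exact (Nat.Prime.not_prime_pow hm) (hkm.symm ▸ (h.symm ▸ Nat.prime_five))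

end Cfsg.Agent.S0810
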