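import Cfsg.Statements.S0814
import Cfsg.Agent.Lib.AutPSp.Graph

set_option autoImplicit false
open Cfsg

namespace Cfsg.Agent.S0814

/-- |Aut(PSp_2m(q))| = gcd(2, q−1) · f · |PSp_2m(q)| for q = p^f, m ≥ 2, (m, q) ≠ (2, 2), with an extra factor 2 exactly when m = 2 and p = 2. -/
theorem result {F : Type*} [Field F] [Fintype F] (p f : ℕ) [Fact p.Prime] (hf : 1 ≤ f) (hF : Fintype.card F = p ^ f) (m : ℕ) (hm : 2 ≤ m) (h22 : m = 2 → 3 ≤ p ^ f) : Nat.card (MulAut (Cfsg.PSp m F)) = (if m = 2 ∧ p = 2 then 2 else 1) * Nat.gcd 2 (p ^ f - 1) * f * Nat.card (Cfsg.PSp m F) := by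
  have hsemi := AutPSp.card_semiSub (F := F) (m := m) hm p f hF
  split_ifs with hc
  · obtain ⟨rfl, rfl⟩ := hc
    have h3 : 3 ≤ Nat.card F := by rw [Nat.card_eq_fintype_card, hF]; exact h22 rfl
    haveI : CharP F 2 := charP_of_card_eq_prime_pow (R := F) hF
    have h2 : (2 : F) = 0 := by exact_mod_cast CharP.cast_eq_zero F 2
    rw [← Subgroup.card_mul_index (AutPSp.semiSub : Subgroup (MulAut (Cfsg.PSp 2 F))),
      AutPSp.index_semiSub h2, hsemi]
    ring
  · haveI : CharP F p := charP_of_card_eq_prime_pow (R := F) hF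
    have htop : (AutPSp.semiSub : Subgroup (MulAut (Cfsg.PSp m F))) = ⊤ := eq_top_iff.2 fun β _ =>
      AutPSp.exists_semi' hm (AutPSp.two_ne_zero_or hm (fun e h => hc ⟨e, h⟩)) β
    rw [← Subgroup.card_mul_index (AutPSp.semiSub : Subgroup (MulAut (Cfsg.PSp m F))), hsemi, htop,
      Subgroup.index_top, mul_one, one_mul]

end Cfsg.Agent.S0814
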