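import Cfsg.Statements.S0818
import Cfsg.Agent.Lib.AutPOmega.Minus

set_option autoImplicit false
open Cfsg

namespace Cfsg.Agent.S0818

/-- |Aut(PΩ⁻_2m(q))| for q = p^f, m ≥ 4 (form quadFormMinus (m−1) with anisotropic binary part): |PΩ⁻_2m(q)| times f, times 2 if p = 2, and times 4 or 8 if p is odd according as m(q−1)/2 is even or odd. -/
theorem result {F : Type*} [Field F] [Fintype F] (p f : ℕ) [Fact p.Prime] (hf : 1 ≤ f) (hF : Fintype.card F = p ^ f) (m : ℕ) (hm : 4 ≤ m) (a b : F) (hab : ∀ z₁ z₂ : F, z₁ ^ 2 + a * z₁ * z₂ + b * z₂ ^ 2 = 0 → z₁ = 0 ∧ z₂ = 0) : Nat.card (MulAut (Cfsg.POmega F (Cfsg.quadFormMinus (m - 1) F a b))) = (if p = 2 then 2 else (if Even (m * (p ^ f - 1) / 2) then 4 else 8)) * f * Nat.card (Cfsg.POmega F (Cfsg.quadFormMinus (m - 1) F a b)) := by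
  obtain ⟨j, rfl⟩ : ∃ j, m = j + 1 := ⟨m - 1, by omega⟩
  show Nat.card (MulAut (Cfsg.POmega F (Cfsg.quadFormMinus j F a b))) =
    _ * f * Nat.card (Cfsg.POmega F (Cfsg.quadFormMinus j F a b))
  have hQ := Cfsg.Agent.Orth.qMinus_nondeg hab j
  have hn : 7 ≤ Fintype.card ((Fin j ⊕ Fin j) ⊕ Fin 2) := by simp; omega
  have h := Cfsg.Agent.Orth.card_pomega hQ hn
  rw [Cfsg.Agent.AutPOmega.card_aut_minus hab (by omega) p f hF, ← Cfsg.Agent.Orth.coe_qMinus, ← h]
  haveI : CharP F p := charP_of_card_eq_prime_pow (R := F) hF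
  by_cases hp : p = 2
  · subst hp
    have h2 : (2 : F) = 0 := CharTwo.two_eq_zero
    rw [if_pos rfl, Cfsg.Agent.Orth.card_center_one hQ hn (Or.inl h2), Cfsg.Agent.Orth.card_spinVal.2 h2]
    ring
  · have hodd : Odd (Fintype.card F) := by
      rw [hF]; exact ((Fact.out : p.Prime).odd_of_ne_two hp).pow
    have h2 := Cfsg.Agent.Orth.two_ne_zero_of_odd hodd
    have hiff := Cfsg.Agent.Orth.neg_one_minus hodd j hab
    have hqm : Fintype.card F ^ (j + 1) % 4 = 3 ↔ ¬ Even ((j + 1) * (p ^ f - 1) / 2) := by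
      rw [hF]
      obtain ⟨t, ht⟩ : Odd (p ^ f) := hF ▸ hodd
      have e : (j + 1) * (p ^ f - 1) / 2 = (j + 1) * t := by
        rw [ht, Nat.add_sub_cancel, Nat.mul_left_comm]
        omega
      rw [e, Nat.even_mul, not_or, Nat.not_even_iff, Nat.not_even_iff]
      rcases Nat.mod_two_eq_zero_or_one t with h4 | h4
      · have h5 : p ^ f % 4 = 1 := by omega
        rw [Nat.pow_mod, h5, one_pow]
        omega
      · have h5 : p ^ f % 4 = 3 := by omega
        rcases Nat.mod_two_eq_zero_or_one (j + 1) with h6 | h6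
        · obtain ⟨u, hu⟩ := Nat.dvd_of_mod_eq_zero h6
          rw [hu, pow_mul, Nat.pow_mod, Nat.pow_mod _ 2, h5]
          norm_num
        · obtain ⟨u, hu⟩ : ∃ u, j + 1 = 2 * u + 1 := ⟨(j + 1) / 2, by omega⟩
          rw [hu, pow_succ, pow_mul, Nat.mul_mod, Nat.pow_mod, Nat.pow_mod _ 2, h5]
          norm_num
          omega
    rw [if_neg hp, Cfsg.Agent.Orth.card_spinVal.1 h2]
    split_ifs with he
    · rw [(Cfsg.Agent.Orth.card_center_two hQ hn h2).2 fun hg => (hqm.1 (hiff.1 hg)) he]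
      ring
    · rw [(Cfsg.Agent.Orth.card_center_two hQ hn h2).1 (hiff.2 (hqm.2 he))]
      ring

end Cfsg.Agent.S0818
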