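import Cfsg.Statements.S0820
import Cfsg.Agent.Lib.LinearBlock.PSL34
import Cfsg.Agent.Lib.LinearBlock.Transvection

set_option autoImplicit false
open Cfsg

namespace Cfsg.Agent.S0820

/-- Any two elements of order 2 of PSL_3(4) are conjugate. -/
theorem result {F : Type*} [Field F] [Fintype F] (hF : Fintype.card F = 4) (x y : Matrix.ProjectiveSpecialLinearGroup (Fin 3) F) (hx : orderOf x = 2) (hy : orderOf y = 2) : IsConj x y := by
  classical
  have h2 := LinearBlock.PSL34.two_eq_zero hF
  have lift : ∀ z : Matrix.ProjectiveSpecialLinearGroup (Fin 3) F, orderOf z = 2 →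
      ∃ g : Matrix.SpecialLinearGroup (Fin 3) F, QuotientGroup.mk g = z ∧
        Cfsg.IsTransvection (g : Matrix (Fin 3) (Fin 3) F) := by
    intro z hz
    obtain ⟨g, rfl⟩ := QuotientGroup.mk_surjective z
    have h1 : g ^ 2 ∈ Subgroup.center (Matrix.SpecialLinearGroup (Fin 3) F) := by
      rw [← QuotientGroup.eq_one_iff, QuotientGroup.mk_pow]
      exact orderOf_dvd_iff_pow_eq_one.1 hz.dvd
    obtain ⟨c, hc3, hc⟩ := Matrix.SpecialLinearGroup.mem_center_iff.1 h1
    simp only [Fintype.card_fin] at hc3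
    have hc0 : c ≠ 0 := by rintro rfl; simp at hc3
    rw [Matrix.scalar_apply, ← Matrix.smul_one_eq_diagonal, Matrix.SpecialLinearGroup.coe_pow] at hc
    let s : Matrix.SpecialLinearGroup (Fin 3) F := ⟨c • (1 : Matrix (Fin 3) (Fin 3) F), by simp [Matrix.det_smul, hc3]⟩
    have hsc : s ∈ Subgroup.center (Matrix.SpecialLinearGroup (Fin 3) F) :=
      Matrix.SpecialLinearGroup.mem_center_iff.2 ⟨c, by simpa using hc3,
        by rw [Matrix.scalar_apply, ← Matrix.smul_one_eq_diagonal]⟩
    obtain ⟨g', hg'⟩ : ∃ g', g * s = g' := ⟨_, rfl⟩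
    have hg'v : g'.1 = c • g.1 := by
      rw [← hg', Matrix.SpecialLinearGroup.coe_mul]
      show g.1 * (c • 1) = _
      rw [mul_smul_comm, mul_one]
    refine ⟨g', ?_, ?_⟩
    · rw [← hg', QuotientGroup.mk_mul, (QuotientGroup.eq_one_iff s).2 hsc, mul_one]
    have hsq : g'.1 * g'.1 = 1 := by
      rw [hg'v, smul_mul_assoc, mul_smul_comm, smul_smul, ← pow_two g.1, ← hc, smul_smul]
      rw [show c * c * c = 1 by rw [← hc3]; ring, one_smul]
    have hN2 : (g'.1 - 1) * (g'.1 - 1) = 0 := by
      rw [sub_mul, mul_sub, hsq, one_mul, mul_one]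
      ext i j
      simp only [Matrix.sub_apply, Matrix.zero_apply]
      linear_combination ((1 : Matrix (Fin 3) (Fin 3) F) i j - g'.1 i j) * h2
    refine ⟨?_, hN2⟩
    have hle : LinearMap.range (g'.1 - 1).mulVecLin ≤ LinearMap.ker (g'.1 - 1).mulVecLin := by
      rintro _ ⟨v, rfl⟩
      rw [LinearMap.mem_ker, Matrix.mulVecLin_apply, Matrix.mulVecLin_apply, Matrix.mulVec_mulVec, hN2,
        Matrix.zero_mulVec]
    have hr := LinearMap.finrank_range_add_finrank_ker (g'.1 - 1).mulVecLin
    have hle' := Submodule.finrank_mono hle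
    rw [Module.finrank_fin_fun] at hr
    have hne : Module.finrank F (LinearMap.range (g'.1 - 1).mulVecLin) ≠ 0 := by
      intro h0
      rw [Submodule.finrank_eq_zero, LinearMap.range_eq_bot] at h0
      have hg1 : g' = 1 := by
        refine Subtype.ext (sub_eq_zero.1 (Matrix.ext_of_mulVec_single fun i => ?_))
        rw [Matrix.zero_mulVec]
        exact LinearMap.congr_fun h0 _
      have : (QuotientGroup.mk g : Matrix.ProjectiveSpecialLinearGroup (Fin 3) F) = 1 := by
        rw [QuotientGroup.eq_one_iff, show g = s⁻¹ from eq_inv_of_mul_eq_one_left (hg'.trans hg1)]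
        exact Subgroup.inv_mem _ hsc
      rw [this, orderOf_one] at hz
      omega
    show Module.finrank F (LinearMap.range (g'.1 - 1).mulVecLin) = 1
    omega
  obtain ⟨a, rfl, ha⟩ := lift x hx
  obtain ⟨b, rfl, hb⟩ := lift y hy
  exact (QuotientGroup.mk' (Subgroup.center (Matrix.SpecialLinearGroup (Fin 3) F))).map_isConj
    (LBTransv.isConj_sl (k := 1) (n := 3) rfl le_rfl a b ha hb)

end Cfsg.Agent.S0820

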