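import Cfsg.Statements.S0821
import Cfsg.Agent.Lib.Classical.PspInvolutions
import Cfsg.Agent.Lib.Orthogonal.OddInvolutions

set_option autoImplicit false
open Cfsg

namespace Cfsg.Agent.S0821

/-- PSp_2m(q) ≇ PΩ_(2m+1)(q) for q odd and m ≥ 3 (they have the same order). -/
theorem result {F : Type*} [Field F] [Fintype F] (hodd : Odd (Fintype.card F)) (m : ℕ) (hm : 3 ≤ m) : IsEmpty (Cfsg.PSp m F ≃* Cfsg.POmega F (Cfsg.quadFormOdd m F)) := by
  refine ⟨fun e => ?_⟩
  have h2 : (2 : F) ≠ 0 := by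
    intro h
    haveI : CharP F 2 := CharTwo.of_one_ne_zero_of_two_eq_zero one_ne_zero h
    obtain ⟨n, hn⟩ := FiniteField.card F 2
    rw [hn.2] at hodd
    exact absurd hodd (Nat.not_odd_iff_even.2 (Nat.even_pow.2 ⟨even_two, n.pos.ne'⟩))
  obtain ⟨y, hy1, hy2, hy3⟩ := Agent.OrthInvol.exists_invols h2 m hm
  have key : ∀ {Q : (Unit ⊕ (Fin m ⊕ Fin m) → F) → F} (_ : Cfsg.PSp m F ≃* Cfsg.POmega F Q)
      (y : Fin m → Cfsg.POmega F Q), (∀ k, y k * y k = 1) → (∀ k, y k ≠ 1) →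
      (∀ k l, IsConj (y k) (y l) → k = l) → False := by
    intro Q e y h1 h1' h3
    obtain ⟨i, j, hij, hc⟩ := Agent.PspInvolutions.exists_isConj h2 (by omega)
      (ι := Fin m) (by rw [Fintype.card_fin]; omega) (fun k => e.symm (y k))
      (fun k => by rw [← map_mul, h1, map_one]) (fun k hk => h1' k (e.symm.injective (hk.trans (map_one _).symm)))
    exact hij (h3 i j (by simpa using e.toMonoidHom.map_isConj hc))
  rw [← Agent.Orth.coe_qOdd] at e
  exact key e y hy1 hy2 hy3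

end Cfsg.Agent.S0821
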