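import Cfsg.Statements.S0823
import Cfsg.Agent.Lib.Orthogonal.Counts
import Cfsg.Agent.Lib.Orthogonal.Matrix

set_option autoImplicit false
open Cfsg Matrix

namespace Cfsg.Agent.S0823

/-- SO_3(3) ≅ S_4: the determinant-one isometries of the form x_0² + x_1y_1 over the field with 3 elements form a group isomorphic to the symmetric group on 4 letters. -/
theorem result {F : Type*} [Field F] [Fintype F] (hF : Fintype.card F = 3) : Nonempty (↥(Cfsg.specialIsometryGroup F (Cfsg.quadFormOdd 1 F)) ≃* Equiv.Perm (Fin 4)) := by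
  classical
  have hc : ∀ c : F, c = 0 ∨ c = 1 ∨ c = -1 := by
    intro c
    by_cases h : c = 0
    · exact Or.inl h
    · right
      have := FiniteField.pow_card_sub_one_eq_one c h
      rw [hF] at this
      exact mul_self_eq_one_iff.1 (by rw [← this]; ring)
  have h2 : (2 : F) ≠ 0 := fun h => by
    have := FiniteField.cast_card_eq_zero F
    rw [hF, Nat.cast_ofNat] at this
    exact one_ne_zero (show (1 : F) = 0 by linear_combination this - h)
  have h3 : (3 : F) = 0 := by simpa [hF] using FiniteField.cast_card_eq_zero F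
  have hne : (-1 : F) ≠ 1 := fun h => h2 (by linear_combination -h)
  set Q : (Unit ⊕ (Fin 1 ⊕ Fin 1) → F) → F := Cfsg.quadFormOdd 1 F with hQ
  set e : Unit ⊕ (Fin 1 ⊕ Fin 1) → F := Pi.single (.inl ()) 1 with he
  set x : Unit ⊕ (Fin 1 ⊕ Fin 1) → F := Pi.single (.inr (.inl 0)) 1 with hx
  set y : Unit ⊕ (Fin 1 ⊕ Fin 1) → F := Pi.single (.inr (.inr 0)) 1 with hy
  let v : Fin 4 → (Unit ⊕ (Fin 1 ⊕ Fin 1) → F) := ![x, y, e + x - y, e - x + y]
  have hv : ∀ i, Q (v i) = 0 ∧ v i ≠ 0 := by
    intro i
    refine ⟨?_, fun h => ?_⟩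
    · fin_cases i <;> simp [v, hQ, he, hx, hy, Cfsg.quadFormOdd]
    · have a := congrFun h (.inl ())
      have b := congrFun h (.inr (.inl 0))
      have c := congrFun h (.inr (.inr 0))
      fin_cases i <;> simp [v, he, hx, hy] at a b c
  have huniq : ∀ i j : Fin 4, ∀ c : F, v i = c • v j → i = j := by
    intro i j c h
    have a := congrFun h (.inl ())
    have b := congrFun h (.inr (.inl 0))
    have d := congrFun h (.inr (.inr 0))
    fin_cases i <;> fin_cases j <;> simp [v, he, hx, hy] at a b d ⊢ <;>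
      first
      | exact h2 (by linear_combination a + b)
      | exact h2 (by linear_combination a - b)
      | exact one_ne_zero (α := F) (by linear_combination b - a)
      | exact one_ne_zero (α := F) (by linear_combination b + a)
      | exact one_ne_zero (α := F) (by linear_combination d - a)
      | exact one_ne_zero (α := F) (by linear_combination d + a) 
  have hall : ∀ w : Unit ⊕ (Fin 1 ⊕ Fin 1) → F, Q w = 0 → w ≠ 0 → ∃ j, ∃ c : F, w = c • v j := by
    intro w hw hw0
    have hext : w = w (.inl ()) • e + w (.inr (.inl 0)) • x + w (.inr (.inr 0)) • y := by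
      ext (i | i | i)
      · simp [he, hx, hy]
      · rw [Subsingleton.elim i 0]; simp [he, hx, hy]
      · rw [Subsingleton.elim i 0]; simp [he, hx, hy]
    have hq : w (.inl ()) ^ 2 + w (.inr (.inl 0)) * w (.inr (.inr 0)) = 0 := by
      simpa [hQ, Cfsg.quadFormOdd] using hw
    generalize w (.inl ()) = a at hext hq
    generalize w (.inr (.inl 0)) = b at hext hq
    generalize w (.inr (.inr 0)) = d at hext hq
    subst hext
    rcases hc a with rfl | rfl | rfl <;> rcases hc b with rfl | rfl | rfl <;> rcases hc d with rfl | rfl | rfl <;>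
      first
      | (exfalso; simp at hw0; done)
      | (exfalso; simp at hq; done)
      | (exfalso; exact h2 (by linear_combination hq))
      | (exfalso; exact one_ne_zero (α := F) (by linear_combination hq))
      | (refine ⟨0, 1, ?_⟩; simp [v] <;> abel_nf; done)
      | (refine ⟨0, -1, ?_⟩; simp [v] <;> abel_nf; done)
      | (refine ⟨1, 1, ?_⟩; simp [v] <;> abel_nf; done)
      | (refine ⟨1, -1, ?_⟩; simp [v] <;> abel_nf; done)
      | (refine ⟨2, 1, ?_⟩; simp [v] <;> abel_nf; done)
      | (refine ⟨2, -1, ?_⟩; simp [v] <;> abel_nf; done)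
      | (refine ⟨3, 1, ?_⟩; simp [v] <;> abel_nf; done)
      | (refine ⟨3, -1, ?_⟩; simp [v] <;> abel_nf; done)
  let G := ↥(Cfsg.specialIsometryGroup F Q)
  let M : G →* Matrix (Unit ⊕ (Fin 1 ⊕ Fin 1)) (Unit ⊕ (Fin 1 ⊕ Fin 1)) F :=
    (Units.coeHom _).comp ((Subgroup.subtype _).comp (Subgroup.subtype _))
  have hM1 : ∀ g : G, M g⁻¹ * M g = 1 := fun g => by rw [← map_mul, inv_mul_cancel, map_one]
  have himg : ∀ (g : G) i, ∃ j, ∃ c : F, M g *ᵥ v i = c • v j := fun g i =>
    hall _ ((g.1.2 (v i) (v i)).trans (hv i).1) fun h => (hv i).2 (by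
      have h' := congrArg (M g⁻¹ *ᵥ ·) h
      simpa [Matrix.mulVec_mulVec, hM1] using h')
  choose σ c hσ using himg
  have hmul : ∀ g h : G, ∀ i, σ (g * h) i = σ g (σ h i) := by
    intro g h i
    have e1 := hσ (g * h) i
    rw [map_mul, ← Matrix.mulVec_mulVec, hσ h i, Matrix.mulVec_smul, hσ g, smul_smul] at e1
    have hne' : c (g * h) i ≠ 0 := fun h0 => by
      have := hσ (g * h) i
      rw [h0, zero_smul] at this
      have h' := congrArg (M (g * h)⁻¹ *ᵥ ·) this
      exact (hv i).2 (by rwa [Matrix.mulVec_mulVec, hM1, Matrix.one_mulVec, Matrix.mulVec_zero] at h')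
    exact huniq _ _ ((c (g * h) i)⁻¹ * (c h i * c g (σ h i)))
      (by rw [mul_smul, e1, smul_smul, inv_mul_cancel₀ hne', one_smul])
  have hone : ∀ i, σ 1 i = i := fun i => (huniq i _ (c 1 i) (by rw [← hσ, map_one, Matrix.one_mulVec])).symm
  let φ : G →* Equiv.Perm (Fin 4) := MonoidHom.mk' (fun g =>
    { toFun := σ g, invFun := σ g⁻¹
      left_inv := fun i => by rw [← hmul, inv_mul_cancel, hone]
      right_inv := fun i => by rw [← hmul, mul_inv_cancel, hone] }) fun g h => Equiv.ext (hmul g h)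
  have hφ : Function.Injective φ := by
    rw [injective_iff_map_eq_one]
    intro g hg
    have hfix : ∀ i, M g *ᵥ v i = c g i • v i := fun i => by
      have h := hσ g i
      rwa [show σ g i = i from Equiv.ext_iff.1 hg i] at h
    have f0 : M g *ᵥ x = c g 0 • x := hfix 0
    have f1 : M g *ᵥ y = c g 1 • y := hfix 1
    have f2 : M g *ᵥ (e + x - y) = c g 2 • (e + x - y) := hfix 2
    have f3 : M g *ᵥ (e - x + y) = c g 3 • (e - x + y) := hfix 3
    rw [Matrix.mulVec_sub, Matrix.mulVec_add, f0, f1] at f2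
    rw [Matrix.mulVec_add, Matrix.mulVec_sub, f0, f1] at f3
    have a2 := congrFun f2 (.inl ())
    have a3 := congrFun f3 (.inl ())
    have b2 := congrFun f2 (.inr (.inl 0))
    have b3 := congrFun f3 (.inr (.inl 0))
    have d2 := congrFun f2 (.inr (.inr 0))
    have d3 := congrFun f3 (.inr (.inr 0))
    simp [he, hx, hy] at a2 a3 b2 b3 d2 d3
    have q1 : c g 0 = c g 2 := mul_left_cancel₀ h2 (by linear_combination b2 - b3 + a2 - a3)
    have q2 : c g 1 = c g 2 := mul_left_cancel₀ h2 (by linear_combination d3 - d2 + a2 - a3)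
    have fe : M g *ᵥ e = c g 2 • e := by
      rw [q1, q2, smul_sub, smul_add] at f2
      exact add_right_cancel (sub_left_injective f2)
    rw [q1] at f0
    rw [q2] at f1
    have hMg : M g = c g 2 • (1 : Matrix (Unit ⊕ (Fin 1 ⊕ Fin 1)) (Unit ⊕ (Fin 1 ⊕ Fin 1)) F) := by
      refine Matrix.ext_of_mulVec_single fun i => ?_
      rw [Matrix.smul_mulVec, Matrix.one_mulVec]
      rcases i with i | i | i
      · exact fe
      · rw [Subsingleton.elim i 0]; exact f0
      · rw [Subsingleton.elim i 0]; exact f1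
    have hdet : (M g).det = 1 := congrArg Units.val (MonoidHom.mem_ker.1 g.2)
    have hc1 : c g 2 = 1 := by
      rw [hMg, Matrix.det_smul, Matrix.det_one, mul_one] at hdet
      rcases hc (c g 2) with h | h | h
      · rw [h] at hdet; simp at hdet
      · exact h
      · rw [h] at hdet; simp [Fintype.card_sum] at hdet; exact (hne (by linear_combination hdet)).elim
    rw [hc1, one_smul] at hMg
    exact Subtype.ext (Subtype.ext (Units.ext hMg))
  have hcard : Nat.card G = 24 := by
    have hO : Nat.card ↥(Cfsg.isometryGroup F Q) = 48 := by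
      rw [hQ, ← Agent.Orth.coe_qOdd, Agent.Orth.card_isometryGroup _ rfl, Agent.Orth.card_oGroup_qOdd h2,
        Nat.card_eq_fintype_card (α := F), hF]
      rfl
    have hmem : (-1 : Matrix.GeneralLinearGroup (Unit ⊕ (Fin 1 ⊕ Fin 1)) F) ∈ Cfsg.isometryGroup F Q := by
      intro u w
      show Q ((-1 : Matrix (Unit ⊕ (Fin 1 ⊕ Fin 1)) (Unit ⊕ (Fin 1 ⊕ Fin 1)) F) *ᵥ u) = Q u
      rw [Matrix.neg_mulVec, Matrix.one_mulVec]
      simp [hQ, Cfsg.quadFormOdd]
    let χ : ↥(Cfsg.isometryGroup F Q) →* Fˣ :=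
      Matrix.GeneralLinearGroup.det.comp (Cfsg.isometryGroup F Q).subtype
    have hχ : Function.Surjective χ := by
      intro u
      rcases hc (u : F) with h | h | h
      · exact absurd h u.ne_zero
      · exact ⟨1, by rw [map_one]; exact Units.ext h.symm⟩
      · refine ⟨⟨-1, hmem⟩, Units.ext ?_⟩
        show (-1 : Matrix (Unit ⊕ (Fin 1 ⊕ Fin 1)) (Unit ⊕ (Fin 1 ⊕ Fin 1)) F).det = u
        rw [Matrix.det_neg, Matrix.det_one, h]; simp [Fintype.card_sum]; norm_num
    have h := Subgroup.card_eq_card_quotient_mul_card_subgroup χ.ker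
    rw [Nat.card_congr (QuotientGroup.quotientKerEquivOfSurjective χ hχ).toEquiv, hO,
      Nat.card_eq_fintype_card (α := Fˣ), Fintype.card_units, hF] at h
    have : Nat.card G = Nat.card χ.ker := rfl
    omega
  have hbij : Function.Bijective φ := (Nat.bijective_iff_injective_and_card φ).2
    ⟨hφ, by rw [Nat.card_eq_fintype_card (α := Equiv.Perm (Fin 4)), Fintype.card_perm, Fintype.card_fin, hcard]; rfl⟩
  exact ⟨MulEquiv.ofBijective φ hbij⟩

end Cfsg.Agent.S0823
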