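import Cfsg.Statements.S0825
import Cfsg.Agent.Lib.OrthTwo.SymEight

set_option autoImplicit false
open Cfsg

namespace Cfsg.Agent.S0825

open Matrix

/-- O⁺_6(2) ≅ S_8: the isometry group of the hyperbolic form x_1y_1 + x_2y_2 + x_3y_3 over the field with 2 elements is isomorphic to the symmetric group on 8 letters. -/
theorem result {F : Type*} [Field F] [Fintype F] (hF : Fintype.card F = 2) : Nonempty (↥(Cfsg.isometryGroup F (Cfsg.quadFormPlus 3 F)) ≃* Equiv.Perm (Fin 8)) := by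
  classical
  let e : ZMod 2 ≃+* F := ZMod.ringEquivOfPrime F Nat.prime_two hF
  let E : Matrix.GeneralLinearGroup (Fin 3 ⊕ Fin 3) (ZMod 2) ≃*
      Matrix.GeneralLinearGroup (Fin 3 ⊕ Fin 3) F :=
    Units.mapEquiv e.mapMatrix.toMulEquiv
  have hmap : (Cfsg.isometryGroup (ZMod 2) (Cfsg.quadFormPlus 3 (ZMod 2))).map E.toMonoidHom =
      Cfsg.isometryGroup F (Cfsg.quadFormPlus 3 F) := by
    have hq : ∀ v : Fin 3 ⊕ Fin 3 → ZMod 2,
        Cfsg.quadFormPlus 3 F (e ∘ v) = e (Cfsg.quadFormPlus 3 (ZMod 2) v) := fun v => by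
      simp [Cfsg.quadFormPlus, map_sum, map_mul]
    have hv : ∀ (g : Matrix.GeneralLinearGroup (Fin 3 ⊕ Fin 3) (ZMod 2)) (v : Fin 3 ⊕ Fin 3 → ZMod 2),
        (E g).1 *ᵥ (e ∘ v) = e ∘ (g.1 *ᵥ v) := fun g v => by
      funext i
      simp [E, Matrix.mulVec, dotProduct, map_mul]
    ext h
    obtain ⟨g, rfl⟩ := E.surjective h
    rw [Subgroup.mem_map_equiv, MulEquiv.symm_apply_apply]
    constructor
    · intro hg u v
      obtain ⟨u, rfl⟩ : ∃ w : Fin 3 ⊕ Fin 3 → ZMod 2, e ∘ w = u :=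
        ⟨e.symm ∘ u, by funext i; simp⟩
      have h1 : Cfsg.quadFormPlus 3 (ZMod 2) (g.1 *ᵥ u) = Cfsg.quadFormPlus 3 (ZMod 2) u := hg u u
      show Cfsg.quadFormPlus 3 F ((E g).1 *ᵥ (e ∘ u)) = Cfsg.quadFormPlus 3 F (e ∘ u)
      rw [hv, hq, hq, h1]
    · intro hg u v
      have h1 : Cfsg.quadFormPlus 3 F ((E g).1 *ᵥ (e ∘ u)) = Cfsg.quadFormPlus 3 F (e ∘ u) :=
        hg (e ∘ u) (e ∘ u)
      rw [hv, hq, hq] at h1
      exact e.injective h1
  exact ⟨(((SymEight.equiv.trans (E.subgroupMap _)).trans (MulEquiv.subgroupCongr hmap))).symm⟩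

end Cfsg.Agent.S0825
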