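import Cfsg.Statements.S0828
import Cfsg.Agent.Lib.Classical.AlternatingIso
import Cfsg.Agent.Lib.Classical.Symplectic

set_option autoImplicit false
open Cfsg

namespace Cfsg.Agent.S0828

/-- The symplectic generalised quadrangle over a field with q elements: the number of 2-dimensional subspaces of F^4 on which the symplectic form vanishes is (q + 1)(q² + 1), and every non-zero vector lies in exactly q + 1 of them. -/
theorem result {F : Type*} [Field F] [Fintype F] {q : ℕ} (hF : Fintype.card F = q) : Nat.card {W : Submodule F (Fin 2 ⊕ Fin 2 → F) // Module.finrank F W = 2 ∧ ∀ u ∈ W, ∀ v ∈ W, Cfsg.sympForm 2 F u v = 0} = (q + 1) * (q ^ 2 + 1) ∧ ∀ v : Fin 2 ⊕ Fin 2 → F, v ≠ 0 → Nat.card {W : Submodule F (Fin 2 ⊕ Fin 2 → F) // Module.finrank F W = 2 ∧ v ∈ W ∧ ∀ u ∈ W, ∀ w ∈ W, Cfsg.sympForm 2 F u w = 0} = q + 1 := by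
  classical
  have hA := ClassicalSp.spBilin_isAlt (m := 2) (F := F)
  have hB := ClassicalSp.spBilin_nondeg (m := 2) (F := F)
  have hq : 2 ≤ q := hF ▸ Fintype.one_lt_card
  have hF' : Nat.card F = q := by rw [Nat.card_eq_fintype_card, hF]
  have hfib : ∀ x y : Fin 2 ⊕ Fin 2 → F, ClassicalSp.spBilin 2 F x y = 1 →
      Nat.card (AltForm.IsoTuple ((ClassicalSp.spBilin 2 F).restrict
        (AltForm.pairPerp (ClassicalSp.spBilin 2 F) x y)) 1) = q ^ 2 - 1 := by
    intro x y hxy
    have hf := AltForm.finrank_pairPerp hA hxy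
    rw [ClassicalSp.finrank_space] at hf
    rw [AltForm.card_isoTuple_succ (AltForm.restrict_isAlt hA _) 0 1 (fun a b hab => AltForm.card_isoTuple_zero)
      (AltForm.restrict_nondeg hA hB hxy), AltForm.card_ne_zero_vec (F := F) (n := 2) (by omega), hF']
    simp
  have hq1 : 1 < q ^ 2 := Nat.one_lt_pow two_ne_zero hq
  have hGL : (∏ i : Fin 2, (Nat.card F ^ 2 - Nat.card F ^ (i : ℕ))) = (q ^ 2 - 1) * (q ^ 2 - q) := by
    rw [Fin.prod_univ_two, hF']; simp
  have hpos : 0 < q ^ 2 - q := by
    have : q * 1 < q * q := Nat.mul_lt_mul_of_pos_left (by omega) (by omega)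
    rw [pow_two]; omega
  constructor
  · have h := AltForm.card_isoSub_mul hA 2 (B := ClassicalSp.spBilin 2 F)
    rw [AltForm.card_isoTuple_succ hA 1 (q ^ 2 - 1) hfib hB,
      AltForm.card_ne_zero_vec (n := 4) ClassicalSp.finrank_space, hGL, hF', pow_one] at h
    refine (Nat.card_congr (Equiv.subtypeEquivRight fun W => ?_)).trans
      (Nat.eq_of_mul_eq_mul_right (Nat.mul_pos (by omega) hpos) (h.trans ?_))
    · simp only [ClassicalSp.spBilin_apply]
    · have h4 : q ^ 4 - 1 = (q ^ 2 + 1) * (q ^ 2 - 1) := by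
        rw [← Nat.sq_sub_sq (q ^ 2) 1, ← pow_mul]
      have h2 : q ^ 2 - 1 = (q + 1) * (q - 1) := by simpa using Nat.sq_sub_sq q 1
      have h3 : q ^ 2 - q = q * (q - 1) := by rw [Nat.mul_sub, mul_one, pow_two]
      rw [h4, h3, h2]; ring
  · intro v hv
    obtain ⟨y, hy⟩ := AltForm.exists_eq_one hB hv
    set B := ClassicalSp.spBilin 2 F with hBdef
    let S := {s : Fin 1 → Fin 2 ⊕ Fin 2 → F // LinearIndependent F (Fin.cons v s : Fin 2 → Fin 2 ⊕ Fin 2 → F) ∧
      (∀ i, B (s i) v = 0) ∧ ∀ i j, B (s i) (s j) = 0}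
    let L := {W : Submodule F (Fin 2 ⊕ Fin 2 → F) // Module.finrank F W = 2 ∧ v ∈ W ∧
      ∀ u ∈ W, ∀ w ∈ W, Cfsg.sympForm 2 F u w = 0}
    show Nat.card L = q + 1
    have hS : Nat.card S = (q ^ 2 - 1) * q := by
      rw [AltForm.card_iso_fibre hA hy, hfib v y hy, hF', pow_one]
    haveI : Fintype L := Fintype.ofFinite L
    haveI : Finite S := Subtype.finite
    have hpair : ∀ w : Fin 2 ⊕ Fin 2 → F, LinearIndependent F ![v, w] ↔ w ∉ Submodule.span F {v} := by
      intro w
      rw [LinearIndependent.pair_iff' hv, Submodule.mem_span_singleton, not_exists]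
    let T : S → L := fun s => ⟨Submodule.span F (Set.range (Fin.cons v s.1 : Fin 2 → Fin 2 ⊕ Fin 2 → F)),
      by rw [finrank_span_eq_card s.2.1, Fintype.card_fin], Submodule.subset_span ⟨0, rfl⟩, fun a ha b hb => by
        obtain ⟨c, rfl⟩ := (Submodule.mem_span_range_iff_exists_fun F).1 ha
        obtain ⟨d, rfl⟩ := (Submodule.mem_span_range_iff_exists_fun F).1 hb
        rw [← ClassicalSp.spBilin_apply, ← hBdef]
        have e1 : B (s.1 0) v = 0 := s.2.2.1 0
        have e2 : B v (s.1 0) = 0 := by rw [AltForm.swap hA, e1, neg_zero]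
        simp [Fin.sum_univ_two, e1, e2, hA.self_eq_zero]⟩
    have hfibT : ∀ W : L, Nat.card {s // T s = W} = q ^ 2 - q := by
      intro W
      have hcard : Nat.card W.1 = q ^ 2 := by rw [Module.natCard_eq_pow_finrank (K := F), W.2.1, hF']
      have hspan : Submodule.span F {v} ≤ W.1 := (Submodule.span_singleton_le_iff_mem v W.1).2 W.2.2.1
      have hcs : Nat.card (Submodule.span F ({v} : Set (Fin 2 ⊕ Fin 2 → F))) = q := by
        rw [Module.natCard_eq_pow_finrank (K := F), finrank_span_singleton hv, hF', pow_one]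
      let e : {s // T s = W} ≃ ↥((W.1 : Set (Fin 2 ⊕ Fin 2 → F)) \ Submodule.span F {v}) :=
        { toFun := fun s => ⟨s.1.1 0, by
              have h := congrArg Subtype.val s.2
              rw [← h]; exact Submodule.subset_span ⟨1, rfl⟩, (hpair _).1 (by
              have h := s.1.2.1
              rwa [show (Fin.cons v s.1.1 : Fin 2 → Fin 2 ⊕ Fin 2 → F) = ![v, s.1.1 0] from
                funext fun i => by fin_cases i <;> rfl] at h)⟩
          invFun := fun w => ⟨⟨fun _ => w.1, by
              have h := (hpair w.1).2 w.2.2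
              rwa [show (Fin.cons v (fun _ => w.1) : Fin 2 → Fin 2 ⊕ Fin 2 → F) = ![v, w.1] from
                funext fun i => by fin_cases i <;> rfl],
              fun _ => (ClassicalSp.spBilin_apply _ _).trans (W.2.2.2 _ w.2.1 _ W.2.2.1),
              fun _ _ => hA.self_eq_zero _⟩, Subtype.ext (Submodule.eq_of_le_of_finrank_eq
                (Submodule.span_le.2 (by
                  rintro _ ⟨i, rfl⟩
                  fin_cases i
                  exacts [W.2.2.1, w.2.1]))
                (by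
                  refine Eq.trans ?_ W.2.1.symm
                  exact (T _).2.1))⟩
          left_inv := fun s => Subtype.ext (Subtype.ext (funext fun i => by rw [Subsingleton.elim i 0]))
          right_inv := fun w => rfl }
      rw [Nat.card_congr e, Nat.card_coe_set_eq, Set.ncard_sdiff hspan, ← Nat.card_coe_set_eq,
        ← Nat.card_coe_set_eq]
      exact congrArg₂ (· - ·) hcard hcs
    have h := Nat.card_congr (Equiv.sigmaFiberEquiv T)
    rw [Nat.card_sigma, Finset.sum_congr rfl fun W _ => hfibT W, Finset.sum_const, Finset.card_univ,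
      ← Nat.card_eq_fintype_card, smul_eq_mul, hS] at h
    refine Nat.eq_of_mul_eq_mul_right hpos (h.trans ?_)
    have h2 : q ^ 2 - 1 = (q + 1) * (q - 1) := by simpa using Nat.sq_sub_sq q 1
    have h3 : q ^ 2 - q = q * (q - 1) := by rw [Nat.mul_sub, mul_one, pow_two]
    rw [h2, h3]; ring

end Cfsg.Agent.S0828
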