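import Cfsg.Statements.S0830
import Cfsg.Agent.Lib.Classical.UnitaryCount

set_option autoImplicit false
open Cfsg

namespace Cfsg.Agent.S0830

/-- The unitary quadrangle of PSU_5(q): with |F| = q², the number of 2-dimensional subspaces of F^5 on which the Hermitian form vanishes is (q³ + 1)(q⁵ + 1). -/
theorem result {F : Type*} [Field F] [Fintype F] {q : ℕ} (hF : Fintype.card F = q ^ 2) : Nat.card {W : Submodule F (Fin 5 → F) // Module.finrank F W = 2 ∧ ∀ u ∈ W, ∀ v ∈ W, Cfsg.hermForm 5 F q u v = 0} = (q ^ 3 + 1) * (q ^ 5 + 1) := by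
  obtain ⟨σ, hσ, hne, hinv, hq, hq2⟩ := HermStd.exists_sigma hF
  have h := UnitaryCount.card_sing_two hne hinv hσ hq 1
  simp only [pow_zero, pow_one, Nat.reduceAdd] at h
  apply Nat.cast_injective (R := ℤ)
  have h4 : (q : ℤ) ^ 4 - 1 ≠ 0 := by
    have : (2 : ℤ) ^ 4 ≤ (q : ℤ) ^ 4 := pow_le_pow_left₀ (by norm_num) (by exact_mod_cast hq2) 4
    omega
  have h2 : (q : ℤ) ^ 4 - (q : ℤ) ^ 2 ≠ 0 := by
    have : (q : ℤ) ^ 2 < (q : ℤ) ^ 4 := pow_lt_pow_right₀ (by exact_mod_cast hq2) (by norm_num)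
    omega
  refine mul_right_cancel₀ (mul_ne_zero h4 h2) (Eq.trans h ?_)
  push_cast
  ring

end Cfsg.Agent.S0830
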