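import Cfsg.Statements.S0833
import Cfsg.Agent.Lib.LinearBlock.Tensor

set_option autoImplicit false
open Cfsg

namespace Cfsg.Agent.S0833

/-- If B₁, B₂ are non-degenerate alternating forms on U (dim 2k) and W (dim 2l), then B₁ ⊗ B₂ on U ⊗ W is symmetric, non-degenerate, and vanishes identically on some subspace of dimension 2kl (half of dim U ⊗ W). -/
theorem result {F U W : Type*} [Field F] [Fintype F] [AddCommGroup U] [Module F U] [FiniteDimensional F U] [AddCommGroup W] [Module F W] [FiniteDimensional F W] (B₁ : LinearMap.BilinForm F U) (B₂ : LinearMap.BilinForm F W) (h₁ : B₁.Nondegenerate) (h₂ : B₂.Nondegenerate) (hA₁ : B₁.IsAlt) (hA₂ : B₂.IsAlt) (k l : ℕ) (hU : Module.finrank F U = 2 * k) (hW : Module.finrank F W = 2 * l) : (B₁.tmul B₂).IsSymm ∧ (B₁.tmul B₂).Nondegenerate ∧ (∃ X : Submodule F (TensorProduct F U W), Module.finrank F X = 2 * k * l ∧ ∀ x ∈ X, ∀ y ∈ X, (B₁.tmul B₂) x y = 0) := by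
  classical
  refine ⟨?_, Cfsg.Agent.LBTensor.tmul_nondegenerate h₁ h₂, ?_⟩
  · rw [LinearMap.isSymm_iff_eq_flip]
    ext x₁ x₂ y₁ y₂
    show B₂ x₂ y₂ * B₁ x₁ y₁ = B₂ y₂ x₂ * B₁ y₁ x₁
    rw [← hA₁.neg_eq y₁ x₁, ← hA₂.neg_eq y₂ x₂]
    ring
  · obtain ⟨L, hL, h0⟩ := Cfsg.Agent.LBTensor.exists_isotropic_alt h₁ hA₁ hU k le_rfl
    let f : TensorProduct F L W →ₗ[F] TensorProduct F U W := L.subtype.rTensor W
    have hf : Function.Injective f :=
      Module.Flat.rTensor_preserves_injective_linearMap L.subtype L.subtype_injective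
    refine ⟨LinearMap.range f, ?_, ?_⟩
    · rw [LinearMap.finrank_range_of_inj hf, Module.finrank_tensorProduct, hL, hW]; ring
    · rintro x ⟨a, rfl⟩ y ⟨b, rfl⟩
      induction a using TensorProduct.induction_on with
      | zero => simp
      | add a₁ a₂ ha₁ ha₂ => rw [map_add, LinearMap.map_add₂, ha₁, ha₂, add_zero]
      | tmul u w =>
        induction b using TensorProduct.induction_on with
        | zero => simp
        | add b₁ b₂ hb₁ hb₂ => rw [map_add, map_add, hb₁, hb₂, add_zero]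
        | tmul u' w' =>
          show B₂ w w' * B₁ (u : U) (u' : U) = 0
          rw [h0 _ u.2 _ u'.2, mul_zero]

end Cfsg.Agent.S0833

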