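import Cfsg.Statements.S0835
import Cfsg.Agent.Lib.LinearBlock.Tensor

set_option autoImplicit false
open Cfsg

namespace Cfsg.Agent.S0835

/-- Over a finite field with 2 ≠ 0: if B₁ on U (dim 2k, k ≥ 1) is non-degenerate symmetric of minus type (no totally isotropic k-subspace) and B₂ on W (dim 2l + 1) is non-degenerate symmetric, then B₁ ⊗ B₂ (dimension 2k(2l+1)) admits no totally isotropic subspace of dimension k(2l+1) (minus type). -/
theorem result {F U W : Type*} [Field F] [Fintype F] [AddCommGroup U] [Module F U] [FiniteDimensional F U] [AddCommGroup W] [Module F W] [FiniteDimensional F W] (h2 : (2 : F) ≠ 0) (B₁ : LinearMap.BilinForm F U) (B₂ : LinearMap.BilinForm F W) (h₁ : B₁.Nondegenerate) (h₂ : B₂.Nondegenerate) (hS₁ : B₁.IsSymm) (hS₂ : B₂.IsSymm) (k l : ℕ) (hk : 1 ≤ k) (hU : Module.finrank F U = 2 * k) (hW : Module.finrank F W = 2 * l + 1) (hm₁ : ¬ (∃ X : Submodule F (U), Module.finrank F X = k ∧ ∀ x ∈ X, ∀ y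 ∈ X, (B₁) x y = 0)) : ¬ (∃ X : Submodule F (TensorProduct F U W), Module.finrank F X = k * (2 * l + 1) ∧ ∀ x ∈ X, ∀ y ∈ X, (B₁.tmul B₂) x y = 0) := by
  classical
  rintro ⟨X, hX, h0⟩
  let bU := Module.finBasisOfFinrankEq F U hU
  let bW := Module.finBasisOfFinrankEq F W hW
  have hT : Module.finrank F (TensorProduct F U W) = 2 * (k * (2 * l + 1)) := by
    rw [Module.finrank_tensorProduct, hU, hW]; ring
  have hsq := Cfsg.Agent.LBTensor.isSquare_of_isotropic _ ⟨(LinearMap.IsSymm.tmul (B₁ := B₁) (B₂ := B₂) ⟨hS₁.eq⟩ ⟨hS₂.eq⟩).eq⟩ hT hX h0 (bU.tensorProduct bW)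
  rw [Cfsg.Agent.LBTensor.gram_tensor, Matrix.det_kronecker, Fintype.card_fin, Fintype.card_fin] at hsq
  refine hm₁ (Cfsg.Agent.LBTensor.exists_isotropic_of_isSquare h2 B₁ hS₁ h₁ hU bU ?_)
  have hd1 : (LinearMap.BilinForm.toMatrix bU B₁).det ≠ 0 :=
    (LinearMap.BilinForm.nondegenerate_iff_det_ne_zero bU).1 h₁
  have hd2 : (LinearMap.BilinForm.toMatrix bW B₂).det ≠ 0 :=
    (LinearMap.BilinForm.nondegenerate_iff_det_ne_zero bW).1 h₂
  refine (Cfsg.Agent.LBQuad.isSquare_sq_mul (mul_ne_zero (mul_ne_zero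
    (pow_ne_zero (k * l) (neg_ne_zero.2 (one_ne_zero (α := F)))) (pow_ne_zero l hd1)) (pow_ne_zero k hd2))).1 ?_
  convert hsq using 1
  ring

end Cfsg.Agent.S0835

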