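import Cfsg.Statements.S0839


set_option autoImplicit false
open Cfsg

namespace Cfsg.Agent.S0839

/-- Every transvection t ∈ SL_(n+2)(F) (rank(t − 1) = 1, (t − 1)² = 0) is conjugate in SL_(n+2)(F) to 1 + v·e_0ᵀ for some column vector v with v_0 = 0 (the group A of matrices that are the identity except in the first column below the diagonal); the dimension is written n + 2 ≥ 2. -/
theorem result {F : Type*} [Field F] (n : ℕ) (t : Matrix.SpecialLinearGroup (Fin (n + 2)) F) (ht : Cfsg.IsTransvection (t : Matrix (Fin (n + 2)) (Fin (n + 2)) F)) : ∃ (g : Matrix.SpecialLinearGroup (Fin (n + 2)) F) (v : Fin (n + 2) → F), v 0 = 0 ∧ ((g⁻¹ * t * g : Matrix.SpecialLinearGroup (Fin (n + 2)) F) : Matrix (Fin (n + 2)) (Fin (n + 2)) F) = 1 + Matrix.vecMulVec v (Pi.single 0 1) := by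
  obtain ⟨hr, hsq⟩ := ht
  set N := (t : Matrix (Fin (n + 2)) (Fin (n + 2)) F) - 1 with hN
  obtain ⟨⟨w, hw⟩, hw0, hspan⟩ := finrank_eq_one_iff'.1
    (show Module.finrank F (LinearMap.range N.mulVecLin) = 1 from hr)
  choose f hf using fun j => hspan ⟨N.mulVec (Pi.single j 1), ⟨_, rfl⟩⟩
  have hNf : N = Matrix.vecMulVec w f := by
    ext i j
    have := congrFun (congrArg Subtype.val (hf j)) i
    simp [Matrix.vecMulVec_apply] at this ⊢
    rw [← this, mul_comm]
  have hw' : w ≠ 0 := fun h => hw0 (Subtype.ext h)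
  obtain ⟨u₀, hu₀⟩ : ∃ u₀, f ⬝ᵥ u₀ ≠ 0 := by
    by_contra! hno
    obtain ⟨x, hx⟩ := hw
    apply hw'
    have : N.mulVec x = w := hx
    rw [← this, hNf, Matrix.vecMulVec_mulVec, hno]
    simp
  set u := (f ⬝ᵥ u₀)⁻¹ • u₀ with hu
  have hfu : f ⬝ᵥ u = 1 := by rw [hu, dotProduct_smul, smul_eq_mul, inv_mul_cancel₀ hu₀]
  have hfw : f ⬝ᵥ w = 0 := by
    have h := congrArg (fun M => Matrix.mulVec M u) hsq
    simp [hNf, ← Matrix.mulVec_mulVec, Matrix.vecMulVec_mulVec, hfu] at h
    exact h.resolve_right hw'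
  let φ : (Fin (n + 2) → F) →ₗ[F] F :=
    { toFun := fun x => f ⬝ᵥ x
      map_add' := dotProduct_add f
      map_smul' := fun c x => by simp [dotProduct_smul] }
  have hker : Module.finrank F (LinearMap.ker φ) = n + 1 := by
    have h := LinearMap.finrank_range_add_finrank_ker φ
    rw [LinearMap.range_eq_top.2 (fun c => ⟨c • u, by
      show f ⬝ᵥ (c • u) = c
      rw [dotProduct_smul, hfu, smul_eq_mul, mul_one]⟩), finrank_top, Module.finrank_self] at h
    simp at h
    omega
  let b := Module.finBasisOfFinrankEq F (LinearMap.ker φ) hker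
  let C : Matrix (Fin (n + 2)) (Fin (n + 2)) F :=
    Matrix.of fun i j => (Fin.cons u (fun k => (b k : Fin (n + 2) → F)) :
      Fin (n + 2) → Fin (n + 2) → F) j i
  have hli : LinearIndependent F C.col := by
    show LinearIndependent F (Fin.cons u (fun k => (b k : Fin (n + 2) → F)) :
      Fin (n + 2) → Fin (n + 2) → F)
    refine linearIndependent_finCons.2 ⟨b.linearIndependent.map' _ (Submodule.ker_subtype _), ?_⟩
    intro h
    have : Submodule.span F (Set.range fun k => (b k : Fin (n + 2) → F)) ≤ LinearMap.ker φ := by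
      rw [Submodule.span_le]
      rintro _ ⟨k, rfl⟩
      exact (b k).2
    exact one_ne_zero (hfu.symm.trans (LinearMap.mem_ker.1 (this h)))
  have hdet : C.det ≠ 0 :=
    ((Matrix.isUnit_iff_isUnit_det C).1 (Matrix.linearIndependent_cols_iff_isUnit.1 hli)).ne_zero
  let D : Fin (n + 2) → F := Function.update 1 1 C.det⁻¹
  let g : Matrix.SpecialLinearGroup (Fin (n + 2)) F := ⟨C * Matrix.diagonal D, by
    rw [Matrix.det_mul, Matrix.det_diagonal, Finset.prod_update_of_mem (Finset.mem_univ _)]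
    simp [hdet]⟩
  have hfg : Matrix.vecMul f g.1 = Pi.single 0 1 := by
    funext j
    show Matrix.vecMul f (C * Matrix.diagonal D) j = _
    rw [← Matrix.vecMul_vecMul, Matrix.vecMul_diagonal]
    induction j using Fin.cases with
    | zero =>
      have : Matrix.vecMul f C 0 = 1 := hfu
      simp [this, D]
    | succ k =>
      have : Matrix.vecMul f C k.succ = 0 := (b k).2
      simp [this]
  refine ⟨g, Matrix.mulVec g⁻¹.1 w, ?_, ?_⟩
  · have h := congrFun hfg 0
    have : f ⬝ᵥ Matrix.mulVec g.1 (Matrix.mulVec g⁻¹.1 w) = f ⬝ᵥ w := by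
      rw [Matrix.mulVec_mulVec, ← Matrix.SpecialLinearGroup.coe_mul, mul_inv_cancel,
        Matrix.SpecialLinearGroup.coe_one, Matrix.one_mulVec]
    rw [Matrix.dotProduct_mulVec, hfg, hfw, single_dotProduct, one_mul] at this
    exact this
  · have hone : g⁻¹.1 * g.1 = 1 := congrArg Subtype.val (inv_mul_cancel g)
    have ht : (t : Matrix (Fin (n + 2)) (Fin (n + 2)) F) = 1 + Matrix.vecMulVec w f := by
      rw [← hNf, hN]; abel
    simp only [Matrix.SpecialLinearGroup.coe_mul, ht, Matrix.mul_add, Matrix.add_mul, mul_one,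
      hone, Matrix.mul_vecMulVec, Matrix.vecMulVec_mul, hfg]

end Cfsg.Agent.S0839
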