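import Cfsg.Statements.S0840
import Cfsg.Agent.Lib.Char.Convolution
import Cfsg.Agent.Lib.Char.Complete
-- import your own Cfsg.Agent.* helpers here

set_option autoImplicit false
open scoped ComplexConjugate
open Cfsg

namespace Cfsg.Agent.S0840

/-- Class multiplication coefficients from the character table: for elements a, b, c of a finite group G, the number of ordered pairs (x, y) with x conjugate to a, y conjugate to b and x * y = c equals the product of the sizes of the conjugacy classes of a and b, divided by the order of G, times the sum over the irreducible characters χ of χ a * χ b * conj (χ c) / χ 1. -/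
theorem result {G : Type*} [Group G] [Finite G] (a b c : G) : (Nat.card {p : G × G // IsConj a p.1 ∧ IsConj b p.2 ∧ p.1 * p.2 = c} : ℂ) = (Nat.card {x : G // IsConj a x} : ℂ) * (Nat.card {x : G // IsConj b x} : ℂ) / (Nat.card G : ℂ) * ∑ᶠ χ : Cfsg.IrrCharacter G, (χ : G → ℂ) a * (χ : G → ℂ) b * conj ((χ : G → ℂ) c) / (χ : G → ℂ) 1 := by
  classical
  haveI : Fintype G := Fintype.ofFinite G
  rw [finsum_eq_sum_of_fintype]
  set A := Finset.univ.filter (IsConj a) with hA
  set B := Finset.univ.filter (IsConj b) with hB
  have hAc : Nat.card {x : G // IsConj a x} = A.card := Nat.subtype_card A (by simp [hA])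
  have hBc : Nat.card {x : G // IsConj b x} = B.card := Nat.subtype_card B (by simp [hB])
  have hcnt : Nat.card {p : G × G // IsConj a p.1 ∧ IsConj b p.2 ∧ p.1 * p.2 = c} = (A.filter fun x => IsConj b (x⁻¹ * c)).card := by
    rw [← Nat.card_eq_finsetCard]
    exact Nat.card_congr
      { toFun := fun p => ⟨p.1.1, by
          simp only [hA, Finset.mem_filter, Finset.mem_univ, true_and]
          exact ⟨p.2.1, eq_inv_mul_of_mul_eq p.2.2.2 ▸ p.2.2.1⟩⟩
        invFun := fun x => ⟨(x.1, x.1⁻¹ * c), by
          have := x.2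
          simp only [hA, Finset.mem_filter, Finset.mem_univ, true_and] at this
          exact ⟨this.1, this.2, mul_inv_cancel_left _ _⟩⟩
        left_inv := fun p => Subtype.ext (Prod.ext rfl (eq_inv_mul_of_mul_eq p.2.2.2).symm)
        right_inv := fun x => rfl }
  have hind : ∀ (d y : G), (Nat.card G : ℂ) * (if IsConj d y then 1 else 0) =
      ((Finset.univ.filter (IsConj d)).card : ℂ) * ∑ χ : Cfsg.IrrCharacter G, (starRingEnd ℂ) ((χ : G → ℂ) d) * (χ : G → ℂ) y := by
    intro d y
    by_cases h : IsConj d y
    · rw [if_pos h]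
      have e := Cfsg.Agent.Char.column_orth_of_isConj h.symm
      simp only [mul_comm ((starRingEnd ℂ) _)]
      rw [e, show (Finset.univ.filter (IsConj d)) = Cfsg.Agent.Char.classFinset y by
        ext z; simp only [Finset.mem_filter, Finset.mem_univ, true_and, Cfsg.Agent.Char.mem_classFinset]
        exact ⟨fun hz => h.symm.trans hz, fun hz => h.trans hz⟩, Cfsg.Agent.Char.card_classFinset,
        ← Subgroup.card_mul_index (Subgroup.centralizer ({y} : Set G))]
      push_cast; ring
    · rw [if_neg h]
      simp only [mul_comm ((starRingEnd ℂ) _)]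
      rw [Cfsg.Agent.Char.column_orth_of_not_isConj (fun h' => h h'.symm), mul_zero, mul_zero]
  have hn : (Nat.card G : ℂ) ≠ 0 := Nat.cast_ne_zero.mpr Nat.card_pos.ne'
  have key : ((A.filter fun x => IsConj b (x⁻¹ * c)).card : ℂ) * (Nat.card G : ℂ) =
      (A.card : ℂ) * B.card * ∑ χ : Cfsg.IrrCharacter G, (starRingEnd ℂ) ((χ : G → ℂ) a) * (starRingEnd ℂ) ((χ : G → ℂ) b) * (χ : G → ℂ) c / (χ : G → ℂ) 1 := by
    refine mul_left_cancel₀ hn ?_
    calc (Nat.card G : ℂ) * (((A.filter fun x => IsConj b (x⁻¹ * c)).card : ℂ) * Nat.card G)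
        = ∑ x : G, ((Nat.card G : ℂ) * (if IsConj a x then 1 else 0)) * ((Nat.card G : ℂ) * (if IsConj b (x⁻¹ * c) then 1 else 0)) := by
          rw [hA, Finset.filter_filter, Finset.card_filter, Nat.cast_sum, Finset.sum_mul, Finset.mul_sum]
          refine Finset.sum_congr rfl fun x _ => ?_
          by_cases h1 : IsConj a x <;> by_cases h2 : IsConj b (x⁻¹ * c) <;>
            simp only [h1, h2, and_self, and_false, false_and, if_true, if_false, Nat.cast_one, Nat.cast_zero] <;> ring
      _ = _ := by
          simp only [hind, ← hA, ← hB]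
          simp only [Finset.mul_sum, Finset.sum_mul]
          rw [Finset.sum_comm]
          refine Finset.sum_congr rfl fun χ _ => ?_
          rw [Finset.sum_comm, Finset.sum_eq_single χ]
          · have := Cfsg.Agent.CharX.convolution χ χ c
            rw [if_pos rfl] at this
            calc _ = (A.card : ℂ) * B.card * (starRingEnd ℂ) ((χ : G → ℂ) a) * (starRingEnd ℂ) ((χ : G → ℂ) b) * ∑ x : G, (χ : G → ℂ) x * (χ : G → ℂ) (x⁻¹ * c) := by
                  rw [Finset.mul_sum]; exact Finset.sum_congr rfl fun x _ => by ring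
              _ = _ := by rw [this]; ring
          · intro ψ _ hne
            have := Cfsg.Agent.CharX.convolution ψ χ c
            rw [if_neg hne] at this
            calc _ = (A.card : ℂ) * B.card * (starRingEnd ℂ) ((ψ : G → ℂ) a) * (starRingEnd ℂ) ((χ : G → ℂ) b) * ∑ x : G, (ψ : G → ℂ) x * (χ : G → ℂ) (x⁻¹ * c) := by
                  rw [Finset.mul_sum]; exact Finset.sum_congr rfl fun x _ => by ring
              _ = _ := by rw [this, mul_zero]
          · exact fun h => absurd (Finset.mem_univ _) h
  have h2 := congrArg (starRingEnd ℂ) key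
  simp only [map_mul, map_natCast, map_sum, map_div₀, Complex.conj_conj] at h2
  have hone : ∀ χ : Cfsg.IrrCharacter G, (starRingEnd ℂ) ((χ : G → ℂ) 1) = (χ : G → ℂ) 1 := fun χ => by
    obtain ⟨d, -, hd⟩ := Cfsg.Agent.Char.IsIrrCharacter.exists_degree χ.2
    rw [hd, map_natCast]
  simp only [hone] at h2
  rw [hcnt, hAc, hBc, div_mul_eq_mul_div, eq_div_iff hn, h2]


end Cfsg.Agent.S0840
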