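import Cfsg.Statements.S0841
import Mathlib
-- import your own Cfsg.Agent.* helpers here

set_option autoImplicit false
open Cfsg

namespace Cfsg.Agent.S0841

/-- If the commutator subgroup of G lies in the centre, then for all x, y in G and every natural number n one has (x * y) ^ n = x ^ n * y ^ n * c ^ (n * (n - 1) / 2) with c = y⁻¹ * x⁻¹ * y * x. -/
theorem result {G : Type*} [Group G] (hG : commutator G ≤ Subgroup.center G) (x y : G) (n : ℕ) : (x * y) ^ n = x ^ n * y ^ n * (y⁻¹ * x⁻¹ * y * x) ^ (n * (n - 1) / 2) := by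
  have key : ∀ a b : G, Commute (b⁻¹ * a⁻¹ * b * a) a ∧ Commute (b⁻¹ * a⁻¹ * b * a) b := by
    intro a b
    have hm : b⁻¹ * a⁻¹ * b * a ∈ Subgroup.center G := hG (by
      have := Subgroup.commutator_mem_commutator (Subgroup.mem_top b⁻¹) (Subgroup.mem_top a⁻¹)
      rw [commutator_def]
      simpa [commutatorElement_def] using this)
    exact ⟨(Subgroup.mem_center_iff.mp hm a).symm, (Subgroup.mem_center_iff.mp hm b).symm⟩
  obtain ⟨hcx, hcy⟩ := key x y
  set c := y⁻¹ * x⁻¹ * y * x with hc
  have hyx : y * x = x * y * c := by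
    rw [hc]; simp [mul_assoc]
  have hpow : ∀ k : ℕ, y ^ k * x = x * y ^ k * c ^ k := by
    intro k
    induction k with
    | zero => simp
    | succ k ih =>
      calc y ^ (k + 1) * x = y * (y ^ k * x) := by rw [pow_succ']; group
        _ = y * (x * y ^ k * c ^ k) := by rw [ih]
        _ = (y * x) * (y ^ k * c ^ k) := by group
        _ = x * y * c * (y ^ k * c ^ k) := by rw [hyx]
        _ = x * y * (c * y ^ k) * c ^ k := by group
        _ = x * y * (y ^ k * c) * c ^ k := by rw [(hcy.pow_right k).eq]
        _ = x * y ^ (k + 1) * c ^ (k + 1) := by rw [pow_succ' y, pow_succ' c]; group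
  induction n with
  | zero => simp
  | succ n ih =>
    have e : (n + 1) * (n + 1 - 1) / 2 = n * (n - 1) / 2 + n := by
      rw [← Finset.sum_range_id, ← Finset.sum_range_id, Finset.sum_range_succ]
    rw [pow_succ, ih, e, pow_add c]
    set T := c ^ (n * (n - 1) / 2)
    have hTx : Commute T (x * y) := ((hcx.mul_right hcy).pow_left _)
    calc x ^ n * y ^ n * T * (x * y) = x ^ n * (y ^ n * x) * y * T := by
          rw [mul_assoc (x ^ n * y ^ n), hTx.eq]; group
      _ = x ^ n * (x * y ^ n * c ^ n) * y * T := by rw [hpow]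
      _ = x ^ n * x * y ^ n * (c ^ n * y) * T := by group
      _ = x ^ n * x * y ^ n * (y * c ^ n) * T := by rw [(hcy.pow_left n).eq]
      _ = x ^ (n + 1) * y ^ (n + 1) * (T * c ^ n) := by
          rw [show T * c ^ n = c ^ n * T from ((Commute.refl c).pow_pow _ _).eq, pow_succ, pow_succ]; group


end Cfsg.Agent.S0841
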