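import Cfsg.Statements.S0842
import Cfsg.Agent.Lib.BrauerSuzuki.Exceptional

set_option autoImplicit false
open Cfsg

namespace Cfsg.Agent.S0842


/-- Suppose a Sylow 2-subgroup S of the finite group G is generalized quaternion of order at least 16, and let D be the commutator subgroup of S, C its centralizer and N its normalizer in G. Then there is a subgroup K of odd order, contained in C and normalized by N, with K ⊔ S = N and K ⊔ (S ⊓ C) = C, and C has index 2 in N. -/
theorem result {G : Type*} [Group G] [Finite G] (S : Sylow 2 G) (n : ℕ) (e : (S : Subgroup G) ≃* QuaternionGroup (2 ^ (n + 2))) (D : Subgroup G) (hD : D = ⁅(S : Subgroup G), (S : Subgroup G)⁆) : ∃ K : Subgroup G, Odd (Nat.card K) ∧ K ≤ Subgroup.centralizer (D : Set G) ∧ Subgroup.normalizer (D : Set G) ≤ Subgroup.normalizer (K : Set G) ∧ K ⊔ (S : Subgroup G) = Subgroup.normalizer (D : Set G) ∧ K ⊔ ((S : Subgroup G) ⊓ Subgroup.centralizer (D : Set G)) = Subgroup.centralizer (D : Set G) ∧ ((Subgroup.centralizer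 (D : Set G)).subgroupOf (Subgroup.normalizer (D : Set G))).index = 2 := by
  haveI : Fact (Nat.Prime 2) := ⟨Nat.prime_two⟩
  obtain ⟨hR, Dt, hDS, hk⟩ := BrauerSuzuki.exists_quaternion_data S
    (by rw [pow_succ, pow_succ]; have := Nat.two_pow_pos n; omega) e
  have hk2 : 2 ≤ Dt.k := by
    rw [pow_succ, pow_succ] at hk; have := Nat.two_pow_pos n; omega
  obtain rfl : D = Dt.Q := by rw [hD, ← hDS, Dt.commutator_eq]
  subst hDS
  set C := Subgroup.centralizer (Dt.Q : Set G) with hC
  set N := Subgroup.normalizer (Dt.Q : Set G) with hN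
  obtain ⟨P, hP⟩ := Dt.exists_sylow_CQ hk2
  have hcardP : Nat.card (P : Subgroup C) = 4 * Dt.k := by
    rw [hP, Nat.card_zpowers, ← Subgroup.orderOf_coe, Dt.order_a]
  have hPc : IsCyclic P := by
    show IsCyclic (P : Subgroup C)
    rw [hP]; infer_instance
  have h2C : 2 ∣ Nat.card C :=
    dvd_trans ⟨2 * Dt.k, by ring⟩ (hcardP ▸ Subgroup.card_subgroup_dvd_card (P : Subgroup C))
  obtain ⟨K', hK', hK'2, hK'i⟩ := BrauerSuzuki.exists_complement P hPc h2C
  obtain ⟨j, hj⟩ := Dt.exists_k_pow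
  have hcop : (Nat.card K').Coprime (Nat.card (P : Subgroup C)) := by
    rw [hcardP, hj, show 4 * 2 ^ j = 2 ^ (2 + j) by rw [pow_add]; norm_num]
    exact Nat.Coprime.pow_right _ (Nat.prime_two.coprime_iff_not_dvd.2 hK'2).symm
  have hsup : K' ⊔ (P : Subgroup C) = ⊤ :=
    (Subgroup.isComplement'_of_coprime (by rw [← hK'i, K'.card_mul_index]) hcop).sup_eq_top
  have hodd : ∀ x : C, ¬ 2 ∣ orderOf x → x ∈ K' := by
    intro x hx
    haveI := hK'
    rw [← QuotientGroup.eq_one_iff, ← orderOf_eq_one_iff]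
    have h1 : orderOf (x : C ⧸ K') ∣ orderOf x := orderOf_map_dvd (QuotientGroup.mk' K') x
    have h2 : orderOf (x : C ⧸ K') ∣ 2 ^ (2 + j) := by
      rw [pow_add, ← hj, show (2 : ℕ) ^ 2 = 4 from rfl, ← hcardP, ← hK'i]
      exact orderOf_dvd_natCard _
    exact Nat.eq_one_of_dvd_coprimes
      ((Nat.prime_two.coprime_iff_not_dvd.2 hx).pow_left (2 + j)).symm h1 h2
  have ho : ∀ g x : G, orderOf (g * x * g⁻¹) = orderOf x := fun g x =>
    orderOf_injective (MulAut.conj g).toMonoidHom (MulAut.conj g).injective x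
  have hCN : C ≤ N := Subgroup.centralizer_le_normalizer _
  have hSN : (Dt.S : Subgroup G) ≤ N := by
    rw [hN, ← Dt.commutator_eq]
    intro s hs
    rw [Subgroup.mem_normalizer_iff]
    have key : ∀ u ∈ (Dt.S : Subgroup G), ∀ h ∈ ⁅(Dt.S : Subgroup G), (Dt.S : Subgroup G)⁆,
        u * h * u⁻¹ ∈ ⁅(Dt.S : Subgroup G), (Dt.S : Subgroup G)⁆ := by
      intro u hu
      suffices ⁅(Dt.S : Subgroup G), (Dt.S : Subgroup G)⁆ ≤
          (⁅(Dt.S : Subgroup G), (Dt.S : Subgroup G)⁆).comap (MulAut.conj u).toMonoidHom from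
        fun h hh => this hh
      refine Subgroup.commutator_le.2 fun x hx y hy => ?_
      have h1 := Subgroup.commutator_mem_commutator (H₁ := (Dt.S : Subgroup G))
        (H₂ := (Dt.S : Subgroup G)) (mul_mem (mul_mem hu hx) (inv_mem hu))
        (mul_mem (mul_mem hu hy) (inv_mem hu))
      rw [commutatorElement_def] at h1
      rw [Subgroup.mem_comap, MulEquiv.coe_toMonoidHom]
      rw [commutatorElement_def, MulAut.conj_apply]
      convert h1 using 1
      group
    exact fun h => ⟨key s hs h, fun h' => by simpa [mul_assoc] using key s⁻¹ (inv_mem hs) _ h'⟩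
  -- the index
  have hQc : IsCyclic Dt.Q := inferInstanceAs (IsCyclic (Subgroup.zpowers _))
  have hr : (C.subgroupOf N).index ∣ Dt.k := by
    have key := Subgroup.card_dvd_of_injective _
      (QuotientGroup.kerLift_injective Dt.Q.normalizerMonoidHom)
    rw [Subgroup.normalizerMonoidHom_ker, hQc.card_mulAut, Dt.card_Q, ← Subgroup.index] at key
    rw [hj, ← pow_succ', Nat.totient_prime_pow Nat.prime_two (Nat.succ_pos j)] at key
    simpa [hj] using key
  have hcardC : Nat.card C = Nat.card K' * (4 * Dt.k) := by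
    rw [← hcardP, ← hK'i, K'.card_mul_index]
  have hcardN : Nat.card N = Nat.card C * (C.subgroupOf N).index := by
    rw [← Nat.card_congr (Subgroup.subgroupOfEquivOfLe hCN).toEquiv, Subgroup.card_mul_index]
  have hbN : Dt.b ∈ N := hSN Dt.b_mem
  have hbC : Dt.b ∉ C := fun h => Dt.b_not_C (Dt.CQ_le hk2 h)
  have hr2 : (C.subgroupOf N).index = 2 := by
    have hne : (C.subgroupOf N).index ≠ 1 := fun h => hbC (by
      have : (⟨Dt.b, hbN⟩ : N) ∈ C.subgroupOf N := by
        rw [Subgroup.index_eq_one.1 h]; exact Subgroup.mem_top _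
      exact this)
    obtain ⟨i, -, hi⟩ := (Nat.dvd_prime_pow Nat.prime_two).1 (hj ▸ hr)
    have h1 : 4 * Dt.k * (C.subgroupOf N).index ∣ Nat.card G := by
      refine dvd_trans ⟨Nat.card K', ?_⟩ (Subgroup.card_subgroup_dvd_card N)
      rw [hcardN, hcardC]; ring
    rw [hi, hj, show 4 * 2 ^ j * 2 ^ i = 2 ^ (2 + j + i) by rw [pow_add, pow_add]; norm_num] at h1
    have h2 : Nat.card (Dt.S : Subgroup G) = 2 ^ (3 + j) := by
      rw [Dt.card_S, hj, pow_add]; norm_num
    have h3 := Dt.S.card_eq_multiplicity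
    rw [h2] at h3
    have h4 : 2 + j + i ≤ (Nat.card G).factorization 2 :=
      (Nat.prime_two.pow_dvd_iff_le_factorization Nat.card_pos.ne').1 h1
    have h5 : 3 + j = (Nat.card G).factorization 2 := Nat.pow_right_injective le_rfl h3
    rcases (show i = 0 ∨ i = 1 by omega) with rfl | rfl
    · exact absurd hi hne
    · exact hi
  have hSC : (Dt.S : Subgroup G) ⊓ C = Subgroup.zpowers Dt.a := by
    refine le_antisymm (fun x hx => ?_)
      (Subgroup.zpowers_le.2 ⟨Dt.a_mem, Dt.a_mem_CQ⟩)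
    by_contra hxA
    have h1 := (Dt.out x hx.1 hxA).2
    have h2 := (Dt.mem_centralizer_Q.1 hx.2).eq
    have h3 : x * Dt.a ^ 2 * x⁻¹ = (Dt.a ^ 2)⁻¹ := by rw [← conj_pow, h1, inv_pow]
    rw [h2, mul_inv_cancel_right] at h3
    have h4 : (Dt.a ^ 2) ^ 2 = 1 := by rw [pow_two]; nth_rw 1 [h3]; exact inv_mul_cancel _
    have h5 := orderOf_dvd_of_pow_eq_one h4
    rw [Dt.orderOf_a_sq] at h5
    have := Nat.le_of_dvd two_pos h5
    omega
  refine ⟨K'.map C.subtype, ?_, ?_, ?_, ?_, ?_, hr2⟩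
  · rw [Subgroup.card_map_of_injective C.subtype_injective, ← Nat.not_even_iff_odd,
      even_iff_two_dvd]
    exact hK'2
  · rintro _ ⟨x, -, rfl⟩; exact x.2
  · intro g hg
    have key : ∀ u ∈ N, ∀ h ∈ K'.map C.subtype, u * h * u⁻¹ ∈ K'.map C.subtype := by
      rintro u hu _ ⟨x, hx, rfl⟩
      have hmem : u * (x : G) * u⁻¹ ∈ C := by
        show u * (x : G) * u⁻¹ ∈ Subgroup.centralizer (Dt.Q : Set G)
        rw [Subgroup.mem_centralizer_iff]
        intro q hq
        have hq' : u⁻¹ * q * u ∈ (Dt.Q : Set G) := by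
          have := (Subgroup.mem_normalizer_iff.1 (inv_mem hu) q).1 hq
          rwa [inv_inv] at this
        have h3 := Subgroup.mem_centralizer_iff.1 x.2 _ hq'
        calc q * (u * (x : G) * u⁻¹) = u * ((u⁻¹ * q * u) * x) * u⁻¹ := by group
          _ = u * (x * (u⁻¹ * q * u)) * u⁻¹ := by rw [h3]
          _ = u * x * u⁻¹ * q := by group
      refine ⟨⟨_, hmem⟩, hodd _ ?_, rfl⟩
      rw [← Subgroup.orderOf_coe, ho, Subgroup.orderOf_coe]
      exact fun h => hK'2 (h.trans (Subgroup.orderOf_dvd_natCard K' hx))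
    rw [Subgroup.mem_normalizer_iff]
    exact fun h => ⟨key g hg h, fun h' => by simpa [mul_assoc] using key g⁻¹ (inv_mem hg) _ h'⟩
  · have hCle : C ≤ K'.map C.subtype ⊔ (Dt.S : Subgroup G) := by
      intro x hx
      have : (⟨x, hx⟩ : C) ∈ K' ⊔ (P : Subgroup C) := hsup ▸ Subgroup.mem_top _
      have h2 := Subgroup.mem_map_of_mem C.subtype this
      rw [Subgroup.map_sup, hP, MonoidHom.map_zpowers] at h2
      exact sup_le_sup le_rfl (Subgroup.zpowers_le.2 Dt.a_mem) h2
    have hle : K'.map C.subtype ⊔ (Dt.S : Subgroup G) ≤ N :=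
      sup_le (fun x hx => hCN (Subgroup.map_subtype_le K' hx)) hSN
    refine Subgroup.eq_of_le_of_card_ge hle ?_
    obtain ⟨t, ht⟩ := Subgroup.card_dvd_of_le hCle
    rw [ht, hcardN, hr2]
    refine Nat.mul_le_mul_left _ ?_
    by_contra hlt
    have ht1 : t = 1 := by
      have : 0 < Nat.card (K'.map C.subtype ⊔ (Dt.S : Subgroup G) : Subgroup G) := Nat.card_pos
      rw [ht] at this
      have := Nat.pos_of_mul_pos_left this
      omega
    refine hbC ((Subgroup.eq_of_le_of_card_ge hCle (by rw [ht, ht1, mul_one])).symm ▸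
      Subgroup.mem_sup_right Dt.b_mem)
  · rw [hSC]
    have h := congrArg (Subgroup.map C.subtype) hsup
    rw [Subgroup.map_sup, hP, MonoidHom.map_zpowers, ← MonoidHom.range_eq_map,
      Subgroup.range_subtype] at h
    exact h

end Cfsg.Agent.S0842
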