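import Cfsg.Statements.S0843
import Cfsg.Agent.Lib.BrauerSuzuki.Exceptional

set_option autoImplicit false
open Cfsg

namespace Cfsg.Agent.S0843


/-- Suppose a Sylow 2-subgroup S of the finite group G is generalized quaternion of order at least 16; let D be the commutator subgroup of S and X the set of elements of the centralizer of D whose order is divisible by the order of D. Then D is contained in the cyclic subgroup generated by any element of X; an element of G conjugating some element of X into the centralizer of D normalizes D; and the normalizer of D maps X to itself under conjugation. -/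
theorem result {G : Type*} [Group G] [Finite G] (S : Sylow 2 G) (n : ℕ) (e : (S : Subgroup G) ≃* QuaternionGroup (2 ^ (n + 2))) (D : Subgroup G) (hD : D = ⁅(S : Subgroup G), (S : Subgroup G)⁆) : (∀ y : G, y ∈ Subgroup.centralizer (D : Set G) → Nat.card D ∣ orderOf y → D ≤ Subgroup.zpowers y) ∧ (∀ g y : G, y ∈ Subgroup.centralizer (D : Set G) → Nat.card D ∣ orderOf y → g * y * g⁻¹ ∈ Subgroup.centralizer (D : Set G) → g ∈ Subgroup.normalizer (D : Set G)) ∧ (∀ g y : G, g ∈ Subgroup.normalizer (D : Set G) → y ∈ Subgroup.centralizer (D : Set G) → Nat.card D ∣ orderOf y → g * y * g⁻¹ ∈ Subgroup.centralizer (D : Set G) ∧ Nat.card D ∣ orderOf (g * y * g⁻¹)) := by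
  obtain ⟨hR, Dt, hDS, hk⟩ := BrauerSuzuki.exists_quaternion_data S
    (by rw [pow_succ, pow_succ]; have := Nat.two_pow_pos n; omega) e
  have hk2 : 2 ≤ Dt.k := by
    rw [pow_succ, pow_succ] at hk; have := Nat.two_pow_pos n; omega
  obtain rfl : D = Dt.Q := by rw [hD, ← hDS, Dt.commutator_eq]
  have ho : ∀ g x : G, orderOf (g * x * g⁻¹) = orderOf x := fun g x =>
    orderOf_injective (MulAut.conj g).toMonoidHom (MulAut.conj g).injective x
  have h1 : ∀ y : G, y ∈ Subgroup.centralizer (Dt.Q : Set G) → Nat.card Dt.Q ∣ orderOf y →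
      Dt.Q ≤ Subgroup.zpowers y := fun y hy hd => Dt.Q_le_zpowers hk2 hy (Dt.card_Q ▸ hd)
  refine ⟨h1, fun g y hy hd hg => ?_, fun g y hg hy hd => ⟨?_, by rwa [ho]⟩⟩
  · have hQ' : Dt.Q ≤ Subgroup.zpowers (g * y * g⁻¹) := h1 _ hg (by rwa [ho])
    have hcj : g * Dt.a ^ 2 * g⁻¹ ∈ Subgroup.zpowers (g * y * g⁻¹) := by
      obtain ⟨i, hi⟩ := Subgroup.mem_zpowers_iff.1 (h1 y hy hd (Subgroup.mem_zpowers _))
      exact Subgroup.mem_zpowers_iff.2 ⟨i, by rw [conj_zpow, hi]⟩
    have heq := BrauerSuzuki.zpowers_eq_of_orderOf_eq hcj (hQ' (Subgroup.mem_zpowers _)) (ho _ _)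
    change Subgroup.zpowers (g * Dt.a ^ 2 * g⁻¹) = Dt.Q at heq
    rw [Subgroup.mem_normalizer_iff]
    intro h
    conv_rhs => rw [← heq]
    rw [BrauerSuzuki.Data.Q, Subgroup.mem_zpowers_iff, Subgroup.mem_zpowers_iff]
    refine exists_congr fun i => ?_
    rw [conj_zpow]
    exact ⟨fun e => by rw [e], fun e => mul_left_cancel (mul_right_cancel e)⟩
  · rw [Subgroup.mem_centralizer_iff]
    intro h hh
    have h2 : g⁻¹ * h * g ∈ Dt.Q := by
      rw [← inv_inv g, inv_inv g⁻¹]
      exact (Subgroup.mem_normalizer_iff.1 (inv_mem hg) h).1 hh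
    have h3 := Subgroup.mem_centralizer_iff.1 hy _ h2
    calc h * (g * y * g⁻¹) = g * ((g⁻¹ * h * g) * y) * g⁻¹ := by group
      _ = g * (y * (g⁻¹ * h * g)) * g⁻¹ := by rw [h3]
      _ = g * y * g⁻¹ * h := by group

end Cfsg.Agent.S0843
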