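import Cfsg.Statements.S0844
import Cfsg.Agent.Lib.BrauerSuzuki.Sylow

set_option autoImplicit false
open Cfsg

namespace Cfsg.Agent.S0844


/-- Suppose a Sylow 2-subgroup S of the finite group G is generalized quaternion of order at least 16. Then G has two non-principal irreducible characters χ₁ and χ₂ with χ₁ 1 = χ₂ 1 + 1 such that χ₁ g - χ₂ g = 1 for every element g whose order is not divisible by 4. -/
theorem result {G : Type*} [Group G] [Fintype G] (S : Sylow 2 G) (n : ℕ) (e : (S : Subgroup G) ≃* QuaternionGroup (2 ^ (n + 2))) : ∃ χ₁ χ₂ : G → ℂ, Cfsg.IsIrrCharacter G χ₁ ∧ Cfsg.IsIrrCharacter G χ₂ ∧ χ₁ ≠ (fun _ => 1) ∧ χ₂ ≠ (fun _ => 1) ∧ χ₁ 1 = χ₂ 1 + 1 ∧ ∀ g : G, ¬ 4 ∣ orderOf g → χ₁ g - χ₂ g = 1 := by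
  obtain ⟨hR, D, -, hk⟩ := BrauerSuzuki.exists_quaternion_data S
    (by rw [pow_succ, pow_succ]; have := Nat.two_pow_pos n; omega) e
  have hk2 : D.k ≠ 1 := by
    rw [pow_succ, pow_succ] at hk; have := Nat.two_pow_pos n; omega
  obtain ⟨T⟩ := D.exists_support hR
  have hcard := T.card_R
  rw [if_neg hk2] at hcard
  obtain ⟨x, y, hxy, hR2⟩ := Finset.card_eq_two.1 hcard
  have key : ∀ x y : Cfsg.IrrCharacter G, x ≠ y → T.R = {x, y} → T.c x = 1 → T.c y = -1 →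
      ∃ χ₁ χ₂ : G → ℂ, Cfsg.IsIrrCharacter G χ₁ ∧ Cfsg.IsIrrCharacter G χ₂ ∧ χ₁ ≠ (fun _ => 1) ∧
        χ₂ ≠ (fun _ => 1) ∧ χ₁ 1 = χ₂ 1 + 1 ∧ ∀ g : G, ¬ 4 ∣ orderOf g → χ₁ g - χ₂ g = 1 := by
    intro x y hxy hR2 hx hy
    have hv : ∀ g : G, ¬ 4 ∣ orderOf g → (y : G → ℂ) g - (x : G → ℂ) g = 1 := fun g hg => by
      have h := T.vanish hR hg
      rw [hR2, Finset.sum_pair hxy, hx, hy] at h
      push_cast at h
      linear_combination -h
    have hne : ∀ χ ∈ T.R, (χ : G → ℂ) ≠ fun _ => 1 := fun χ hχ he =>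
      ((T.mem_R χ).1 hχ).2 (Subtype.ext he)
    refine ⟨y, x, y.2, x.2, hne y (by simp [hR2]), hne x (by simp [hR2]), ?_, hv⟩
    linear_combination hv 1 (by simp)
  have e1 := T.degree_eq hR
  rw [hR2, Finset.sum_pair hxy] at e1
  have h1 : (1 : ℚ) ≤ T.deg x := by exact_mod_cast T.deg_pos x
  have h2 : (1 : ℚ) ≤ T.deg y := by exact_mod_cast T.deg_pos y
  rcases T.sign x (by simp [hR2]) with hx | hx <;> rcases T.sign y (by simp [hR2]) with hy | hy
  · rw [hx, hy] at e1; push_cast at e1; linarith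
  · exact key x y hxy hR2 hx hy
  · exact key y x hxy.symm (by rw [hR2, Finset.pair_comm]) hy hx
  · rw [hx, hy] at e1; push_cast at e1; linarith

end Cfsg.Agent.S0844
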