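import Cfsg.Statements.S0845
import Cfsg.Agent.Lib.BrauerSuzuki.Preimage
import Cfsg.Agent.Lib.BrauerSuzuki.Exceptional

set_option autoImplicit false
open Cfsg

namespace Cfsg.Agent.S0845


/-- Suppose a Sylow 2-subgroup S of the finite group G is generalized quaternion of order at least 16. Then G has a normal subgroup M of even order such that G / M is non-abelian, that is, M does not contain the commutator subgroup of G. -/
theorem result {G : Type*} [Group G] [Finite G] (S : Sylow 2 G) (n : ℕ) (e : (S : Subgroup G) ≃* QuaternionGroup (2 ^ (n + 2))) : ∃ M : Subgroup G, M.Normal ∧ Even (Nat.card M) ∧ ¬ commutator G ≤ M := by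
  obtain ⟨hR, D, -, hk⟩ := BrauerSuzuki.exists_quaternion_data S
    (by rw [pow_succ, pow_succ]; have := Nat.two_pow_pos n; omega) e
  obtain ⟨M, hM, hinv, h4⟩ := BrauerSuzuki.exists_preimage hR D
  refine ⟨M, hM, even_iff_two_dvd.2 (D.orderOf_z ▸ Subgroup.orderOf_dvd_natCard M (hinv _ D.orderOf_z)),
    fun hle => ?_⟩
  have ha : D.a ^ 2 ∈ M := hle (by
    have h1 : D.a ^ 2 ∈ ⁅(D.S : Subgroup G), (D.S : Subgroup G)⁆ :=
      D.commutator_eq ▸ Subgroup.mem_zpowers _
    exact Subgroup.commutator_mono le_top le_top h1)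
  apply h4 _ ha
  rw [D.orderOf_a_sq, hk]
  exact ⟨2 ^ n, by rw [pow_succ, pow_succ]; ring⟩

end Cfsg.Agent.S0845
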