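import Cfsg.Statements.S0846
import Cfsg.Agent.Lib.BrauerSuzuki.Preimage

set_option autoImplicit false
open Cfsg

namespace Cfsg.Agent.S0846


/-- Suppose a Sylow 2-subgroup S of the finite group G is generalized quaternion of order at least 16. Then every Sylow 2-subgroup of the subgroup generated by the involutions of G is cyclic. -/
theorem result {G : Type*} [Group G] [Finite G] (S : Sylow 2 G) (n : ℕ) (e : (S : Subgroup G) ≃* QuaternionGroup (2 ^ (n + 2))) (Q : Sylow 2 ↥(Subgroup.closure {g : G | orderOf g = 2})) : IsCyclic Q := by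
  haveI : Fact (Nat.Prime 2) := ⟨Nat.prime_two⟩
  obtain ⟨hR, D, -, hk⟩ := BrauerSuzuki.exists_quaternion_data S
    (by rw [pow_succ, pow_succ]; have := Nat.two_pow_pos n; omega) e
  obtain ⟨M, hM, hinv, h4⟩ := BrauerSuzuki.exists_preimage hR D
  haveI := hM
  suffices key : ∀ I : Subgroup G, I ≤ M → ∀ Q : Sylow 2 I, IsCyclic Q from
    key _ ((Subgroup.closure_le M).2 fun t ht => hinv t ht) Q
  intro I hIM Q
  obtain ⟨i, hi⟩ := IsPGroup.iff_card.1 Q.2
  have h1 : ∀ x : (Q : Subgroup I), orderOf x = 1 ∨ orderOf x = 2 := by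
    intro x
    obtain ⟨j, hj⟩ := IsPGroup.iff_orderOf.1 Q.2 x
    have h := h4 ((x : I) : G) (hIM (x : I).2)
    rw [Subgroup.orderOf_coe, Subgroup.orderOf_coe, hj] at h
    have : j < 2 := by
      by_contra hj2
      exact h (pow_dvd_pow 2 (show 2 ≤ j by omega))
    interval_cases j <;> simp [hj]
  -- at most one involution
  by_cases hne : ∃ x : (Q : Subgroup I), orderOf x = 2
  · obtain ⟨x, hx⟩ := hne
    refine isCyclic_of_orderOf_eq_card x (hx.trans ?_)
    have hall : ∀ y : (Q : Subgroup I), y = 1 ∨ y = x := by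
      intro y
      rcases h1 y with h | h
      · exact Or.inl (orderOf_eq_one_iff.1 h)
      · exact Or.inr (Subtype.ext ((hR.subgroup I).unique_invol Q.2 y.2 x.2
          (by rw [Subgroup.orderOf_coe, h]) (by rw [Subgroup.orderOf_coe, hx])))
    haveI : Fintype (Q : Subgroup I) := Fintype.ofFinite _
    refine le_antisymm ?_ ?_
    · calc 2 = Nat.card (Subgroup.zpowers x) := by rw [Nat.card_zpowers, hx]
        _ ≤ _ := Subgroup.card_le_card_group _
    · classical
      rw [Nat.card_eq_fintype_card]
      refine le_trans (Finset.card_le_card (t := {1, x}) fun y _ => ?_) Finset.card_le_two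
      rcases hall y with rfl | rfl <;> simp
  · push_neg at hne
    haveI : Subsingleton (Q : Subgroup I) := ⟨fun x y => by
      have hall : ∀ z : (Q : Subgroup I), z = 1 := fun z =>
        orderOf_eq_one_iff.1 ((h1 z).resolve_right (hne z))
      rw [hall x, hall y]⟩
    exact isCyclic_of_subsingleton

end Cfsg.Agent.S0846
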