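import Cfsg.Statements.S0849
import Cfsg.Agent.Lib.Char.Induction
-- import your own Cfsg.Agent.* helpers here

set_option autoImplicit false
open Cfsg

namespace Cfsg.Agent.S0849

/-- Let H be a subgroup of a finite group G and S a subset of H that is mapped to itself under conjugation by H, is disjoint from its conjugate by any element outside H, and is closed under inverses. Let φ be a class function of H vanishing on H away from S, and let u, v be involutions of G. Then the sum of the induced function of φ over all products a * b with a conjugate to u and b conjugate to v equals the index of H times the sum of φ (a * b) over such pairs with a and b in H. -/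
theorem result {G : Type*} [Group G] [Fintype G] (H : Subgroup G) (S : Set G) (hSH : S ⊆ H) (hHS : ∀ h ∈ H, ∀ s ∈ S, h * s * h⁻¹ ∈ S) (hTI : ∀ g : G, g ∉ H → ∀ s ∈ S, g * s * g⁻¹ ∉ S) (hinv : ∀ s ∈ S, s⁻¹ ∈ S) (φ : H → ℂ) (hφ : Cfsg.IsClassFunction H φ) (hφS : ∀ x : H, (x : G) ∉ S → φ x = 0) (u v : G) (hu : orderOf u = 2) (hv : orderOf v = 2) : ∑ᶠ p ∈ {p : G × G | IsConj u p.1 ∧ IsConj v p.2}, Cfsg.indFun H φ (p.1 * p.2) = (H.index : ℂ) * ∑ᶠ p ∈ {p : H × H | IsConj u (p.1 : G) ∧ IsConj v (p.2 : G)}, φ (p.1 * p.2) := by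
  classical
  set U : Finset G := Finset.univ.filter (IsConj u) with hU
  set V : Finset G := Finset.univ.filter (IsConj v) with hV
  have h2 : ∀ {w a : G}, orderOf w = 2 → IsConj w a → a * a = 1 := fun {w a} hw ha => by
    obtain ⟨c, rfl⟩ := isConj_iff.mp ha
    have : w * w = 1 := by rw [← sq, ← hw, pow_orderOf_eq_one]
    calc c * w * c⁻¹ * (c * w * c⁻¹) = c * (w * w) * c⁻¹ := by group
      _ = 1 := by rw [this]; group
  have hconj : ∀ (w x a : G), IsConj w (x⁻¹ * a * x) ↔ IsConj w a := fun w x a => by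
    have : IsConj a (x⁻¹ * a * x) := isConj_iff.mpr ⟨x⁻¹, by simp⟩
    exact ⟨fun h => h.trans this.symm, fun h => h.trans this⟩
  have hpair : ∀ x : G, ∑ p ∈ U ×ˢ V, Cfsg.extendByZero H φ (x⁻¹ * (p.1 * p.2) * x) =
      ∑ p ∈ U ×ˢ V, Cfsg.extendByZero H φ (p.1 * p.2) := by
    intro x
    refine Finset.sum_nbij' (fun p => (x⁻¹ * p.1 * x, x⁻¹ * p.2 * x)) (fun p => (x * p.1 * x⁻¹, x * p.2 * x⁻¹)) ?_ ?_ ?_ ?_ ?_
    · intro p hp
      simp only [hU, hV, Finset.mem_product, Finset.mem_filter, Finset.mem_univ, true_and, hconj] at hp ⊢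
      exact hp
    · intro p hp
      have h1 := hconj u x⁻¹ p.1
      have h2 := hconj v x⁻¹ p.2
      simp only [inv_inv] at h1 h2
      simp only [hU, hV, Finset.mem_product, Finset.mem_filter, Finset.mem_univ, true_and, h1, h2] at hp ⊢
      exact hp
    · intro p _; simp [mul_assoc]
    · intro p _; simp [mul_assoc]
    · intro p _; simp [mul_assoc]
  have hsupp : ∀ p ∈ U ×ˢ V, Cfsg.extendByZero H φ (p.1 * p.2) ≠ 0 → p.1 ∈ H ∧ p.2 ∈ H := by
    rintro ⟨a, b⟩ hp hne
    simp only [hU, hV, Finset.mem_product, Finset.mem_filter, Finset.mem_univ, true_and] at hp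
    have habH : a * b ∈ H := by_contra fun h => hne (Cfsg.Agent.Char.extendByZero_not_mem H φ h)
    have hS : a * b ∈ S := by
      by_contra h
      exact hne (by rw [Cfsg.Agent.Char.extendByZero_mem H φ habH]; exact hφS _ h)
    have ha : a * a = 1 := h2 hu hp.1
    have hb : b * b = 1 := h2 hv hp.2
    have hmem : a * (a * b) * a⁻¹ ∈ S := by
      have e : a * (a * b) * a⁻¹ = (a * b)⁻¹ := by
        rw [inv_eq_of_mul_eq_one_right ha, ← mul_assoc, ha, one_mul]
        exact (inv_eq_of_mul_eq_one_right (by rw [mul_assoc, ← mul_assoc b b a, hb, one_mul, ha])).symm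
      rw [e]; exact hinv _ hS
    have haH : a ∈ H := by_contra fun h => hTI a h _ hS hmem
    exact ⟨haH, by simpa using H.mul_mem (H.inv_mem haH) habH⟩
  have hL : {p : G × G | IsConj u p.1 ∧ IsConj v p.2} = ↑(U ×ˢ V) := by ext p; simp [hU, hV]
  have hR : {p : H × H | IsConj u (p.1 : G) ∧ IsConj v (p.2 : G)} =
      ↑(Finset.univ.filter fun p : H × H => IsConj u (p.1 : G) ∧ IsConj v (p.2 : G)) := by ext p; simp
  rw [hL, hR, finsum_mem_coe_finset, finsum_mem_coe_finset]
  simp only [Cfsg.Agent.Char.indFun_apply]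
  rw [← Finset.mul_sum, Finset.sum_comm, Finset.sum_congr rfl fun x _ => hpair x, Finset.sum_const,
    Finset.card_univ, ← Nat.card_eq_fintype_card, nsmul_eq_mul, ← mul_assoc,
    ← Subgroup.card_mul_index H, Nat.cast_mul, inv_mul_cancel_left₀ (Nat.cast_ne_zero.mpr Nat.card_pos.ne')]
  congr 1
  rw [← Finset.sum_filter_of_ne (p := fun p : G × G => p.1 ∈ H ∧ p.2 ∈ H) hsupp]
  symm
  refine Finset.sum_nbij (fun p : H × H => ((p.1 : G), (p.2 : G))) ?_ ?_ ?_ ?_
  · intro p hp
    simpa [hU, hV] using hp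
  · intro p _ q _ e
    exact Prod.ext (Subtype.ext (Prod.mk.inj e).1) (Subtype.ext (Prod.mk.inj e).2)
  · rintro ⟨a, b⟩ hp
    simp only [Finset.mem_coe, hU, hV, Finset.mem_filter, Finset.mem_product, Finset.mem_univ, true_and] at hp
    exact ⟨(⟨a, hp.2.1⟩, ⟨b, hp.2.2⟩), by simpa only [Finset.mem_coe, Finset.mem_filter, Finset.mem_univ, true_and] using hp.1, rfl⟩
  · intro p _
    exact (Cfsg.Agent.Char.extendByZero_coe H φ (p.1 * p.2)).symm


end Cfsg.Agent.S0849
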