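import Cfsg.Statements.S0851
import Cfsg.Agent.Lib.Char.TIFrobenius
-- import your own Cfsg.Agent.* helpers here

set_option autoImplicit false
open Cfsg

namespace Cfsg.Agent.S0851

/-- Let K be a subgroup of the finite group G that meets each conjugate by an element outside its normalizer N trivially, is properly contained in N, and contains the centralizer of each of its non-identity elements (a T.I. subgroup with Frobenius normalizer). Suppose K is abelian, let e be the index of K in N, and call an irreducible character of N relevant when it takes at some element of K a value different from its degree. Then either there is exactly one relevant character and K is an elementary abelian p-group of order e + 1 for some prime p, or there are a sign ε and an injective map f from the relevant characters to the irreducible characters of G such that inducing χ - ξ to G gives ε (f χ - f ξ) for all relevant χ and ξ. -/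
theorem result {G : Type*} [Group G] [Fintype G] (K : Subgroup G) (hTI : ∀ g : G, g ∉ Subgroup.normalizer (K : Set G) → ∀ k ∈ K, g * k * g⁻¹ ∈ K → k = 1) (hlt : K < Subgroup.normalizer (K : Set G)) (hC : ∀ k ∈ K, k ≠ 1 → Subgroup.centralizer ({k} : Set G) ≤ K) (hab : ∀ a ∈ K, ∀ b ∈ K, a * b = b * a) : (Nat.card {χ : Cfsg.IrrCharacter (Subgroup.normalizer (K : Set G)) // ∃ k : Subgroup.normalizer (K : Set G), (k : G) ∈ K ∧ (χ : ↥(Subgroup.normalizer (K : Set G)) → ℂ) k ≠ (χ : ↥(Subgroup.normalizer (K : Set G)) → ℂ) 1} = 1 ∧ ∃ p : ℕ, p.Prime ∧ Cfsg.IsElementaryAbelian p K ∧ Nat.card K = (K.subgroupOf (Subgroup.normalizer (K : Set G))).index + 1) ∨ ∃ (ε : ℂ) (f : {χ : Cfsg.IrrCharacter (Subgroup.normalizer (K : Set G)) // ∃ k : Subgroup.normalizer (K : Set G), (k : G) ∈ K ∧ (χ : ↥(Subgroup.normalizer (K : Set G)) → ℂ) k ≠ (χ : ↥(Subgroup.normalizer (K : Set G)) → ℂ) 1} → Cfsg.IrrCharacter G), (ε = 1 ∨ ε = -1) ∧ Function.Injective f ∧ ∀ χ ξ, Cfsg.indFun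 (Subgroup.normalizer (K : Set G)) ((χ.1 : ↥(Subgroup.normalizer (K : Set G)) → ℂ) - (ξ.1 : ↥(Subgroup.normalizer (K : Set G)) → ℂ)) = ε • ((f χ : G → ℂ) - (f ξ : G → ℂ)) := by
  classical
  haveI : Fintype ↥(Subgroup.normalizer (K : Set G)) := Fintype.ofFinite _
  set N := Subgroup.normalizer (K : Set G) with hN
  set K' := K.subgroupOf N with hK'
  have hF := Cfsg.Agent.Char.TIK.frob (K := K) hC
  have hab' : ∀ a ∈ K', ∀ b ∈ K', a * b = b * a := fun a ha b hb =>
    Subtype.ext (hab a (Subgroup.mem_subgroupOf.mp ha) b (Subgroup.mem_subgroupOf.mp hb))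
  set ι := {χ : Cfsg.IrrCharacter N // ∃ k : N, (k : G) ∈ K ∧ (χ : N → ℂ) k ≠ (χ : N → ℂ) 1}
  have hrel : ∀ χ : ι, Cfsg.Agent.Char.Frob.Rel K' ((χ.1 : N → ℂ)) := fun χ => χ.2
  have hdeg : ∀ χ : ι, (χ.1 : N → ℂ) 1 = (K'.index : ℂ) := fun χ =>
    Cfsg.Agent.Char.Frob.degree_eq_of_comm hF hab' χ.1.2 (hrel χ)
  have hcK : Nat.card K' = Nat.card K := Nat.card_congr (Subgroup.subgroupOfEquivOfLe Subgroup.le_normalizer).toEquiv
  rcases isEmpty_or_nonempty ι with hι | ⟨⟨i₀⟩⟩
  · exact Or.inr ⟨1, fun x => (hι.false x).elim, Or.inl rfl, fun x => (hι.false x).elim, fun x => (hι.false x).elim⟩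
  by_cases hone : Nat.card ι = 1
  · refine Or.inl ⟨hone, ?_⟩
    have hsq := Cfsg.Agent.Char.Frob.sum_rel_sq (K := K')
    have e1 : Finset.univ.filter (fun χ : Cfsg.IrrCharacter N => Cfsg.Agent.Char.Frob.Rel K' (χ : N → ℂ)) = {i₀.1} := by
      ext χ
      simp only [Finset.mem_filter, Finset.mem_univ, true_and, Finset.mem_singleton]
      refine ⟨fun h => ?_, fun h => h ▸ hrel i₀⟩
      haveI := (Nat.card_eq_one_iff_unique.mp hone).1
      exact congrArg Subtype.val (Subsingleton.elim (⟨χ, h⟩ : ι) i₀)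
    rw [e1, Finset.sum_singleton, hdeg i₀, sq, hcK] at hsq
    have hidx : K'.index ≠ 0 := Subgroup.index_ne_zero_of_finite
    have h2 : (Nat.card K : ℂ) = ((K'.index + 1 : ℕ) : ℂ) := by
      push_cast
      linear_combination -(mul_left_cancel₀ (Nat.cast_ne_zero.mpr hidx) hsq)
    have hcard : Nat.card K = K'.index + 1 := by exact_mod_cast h2
    obtain ⟨p, hp, hpdvd⟩ := Nat.exists_prime_and_dvd (show Nat.card K ≠ 1 by omega)
    haveI := Fact.mk hp
    obtain ⟨x, hx⟩ := exists_prime_orderOf_dvd_card' (G := K) p hpdvd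
    have hx1 : (x : G) ≠ 1 := fun h => by
      rw [← Subgroup.orderOf_coe, h, orderOf_one] at hx; exact hp.one_lt.ne hx
    haveI : Fintype K := Fintype.ofFinite K
    let φ : (↥N ⧸ K') → {y : K // y ≠ 1} := fun c =>
      ⟨⟨(c.out : G) * x * (c.out : G)⁻¹, (Subgroup.mem_normalizer_iff.mp c.out.2 _).mp x.2⟩,
        fun h => hx1 (conj_eq_one_iff.mp (congrArg Subtype.val h))⟩
    have hinj : Function.Injective φ := by
      intro c d e
      have e' : (c.out : G) * x * (c.out : G)⁻¹ = (d.out : G) * x * (d.out : G)⁻¹ := congrArg (fun y : {y : K // y ≠ 1} => ((y : K) : G)) e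
      have hmem : ((d.out⁻¹ * c.out : N) : G) ∈ K := by
        refine hC x x.2 hx1 ?_
        rw [Subgroup.mem_centralizer_singleton_iff, Subgroup.coe_mul, Subgroup.coe_inv]
        calc (d.out : G)⁻¹ * c.out * x = (d.out : G)⁻¹ * (c.out * x * (c.out : G)⁻¹) * c.out := by group
          _ = x * ((d.out : G)⁻¹ * c.out) := by rw [e']; group
      rw [← Quotient.out_eq c, ← Quotient.out_eq d]
      exact (QuotientGroup.eq.mpr (Subgroup.mem_subgroupOf.mpr hmem)).symm
    have hbij : Function.Bijective φ := by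
      refine (Nat.bijective_iff_injective_and_card φ).mpr ⟨hinj, ?_⟩
      rw [Nat.card_eq_fintype_card (α := {y : K // y ≠ 1}), Fintype.card_subtype_compl, Fintype.card_subtype_eq,
        ← Nat.card_eq_fintype_card, hcard, ← Subgroup.index]
      omega
    refine ⟨p, hp, ⟨⟨⟨fun a b => Subtype.ext (hab a a.2 b b.2)⟩⟩, fun a ha => ?_⟩, hcard⟩
    by_cases ha1 : a = 1
    · rw [ha1, one_pow]
    obtain ⟨c, hc⟩ := hbij.2 ⟨⟨a, ha⟩, fun h => ha1 (congrArg Subtype.val h)⟩
    have hc' : (c.out : G) * x * (c.out : G)⁻¹ = a := congrArg (fun y : {y : K // y ≠ 1} => ((y : K) : G)) hc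
    rw [← hc', conj_pow, ← SubmonoidClass.coe_pow, ← hx, pow_orderOf_eq_one]
    simp
  refine Or.inr ?_
  let τ : ι → G → ℂ := fun i => Cfsg.indFun N ((i.1 : N → ℂ) - (i₀.1 : N → ℂ))
  have hzero : ∀ i : ι, ∀ x : N, (x : G) ∉ K → ((i.1 : N → ℂ) - (i₀.1 : N → ℂ)) x = 0 := fun i x hx => by
    have hx' : x ∉ K' := fun h => hx (Subgroup.mem_subgroupOf.mp h)
    rw [Pi.sub_apply, Cfsg.Agent.Char.Frob.vanish hF i.1.2 (hrel i) hx', Cfsg.Agent.Char.Frob.vanish hF i₀.1.2 (hrel i₀) hx', sub_zero]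
  have hat1 : ∀ i : ι, ((i.1 : N → ℂ) - (i₀.1 : N → ℂ)) 1 = 0 := fun i => by rw [Pi.sub_apply, hdeg, hdeg, sub_self]
  have hgen : ∀ i : ι, Cfsg.IsGeneralizedCharacter N ((i.1 : N → ℂ) - (i₀.1 : N → ℂ)) := fun i =>
    ⟨_, _, Cfsg.Agent.Char.IsIrrCharacter.isCharacter i.1.2, Cfsg.Agent.Char.IsIrrCharacter.isCharacter i₀.1.2, rfl⟩
  obtain ⟨ε, hε, μ, hμ, hμinj, hμτ⟩ := Cfsg.Agent.Char.isometry_lemma i₀ τ
    (by simp only [τ, sub_self]; funext g; simp [Cfsg.Agent.Char.indFun_apply, Cfsg.extendByZero, Function.extend_def])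
    (fun i => Cfsg.Agent.Char.IsGeneralizedCharacter.indFun N (hgen i))
    (fun i => by simp only [τ, Cfsg.Agent.Char.indFun_one_apply, hat1, mul_zero])
    (fun i j hi hj => by
      simp only [τ]
      rw [Cfsg.Agent.Char.TIK.classInner_indFun_eq hTI hC (Cfsg.Agent.Char.IsGeneralizedCharacter.isClassFunction (hgen j)) (hzero i) (hat1 i) (hzero j) (hat1 j),
        Cfsg.Agent.Char.classInner_diff]
      have n1 : i.1 ≠ i₀.1 := fun e => hi (Subtype.ext e)
      have n2 : j.1 ≠ i₀.1 := fun e => hj (Subtype.ext e)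
      by_cases hij : i = j
      · subst hij; simp [n1, n1.symm]
      · have n3 : i.1 ≠ j.1 := fun e => hij (Subtype.ext e)
        simp [n1, n2.symm, n3, hij])
  refine ⟨ε, fun i => ⟨μ i, hμ i⟩, hε, fun i j e => hμinj (congrArg Subtype.val e), fun χ ξ => ?_⟩
  have e : (χ.1 : N → ℂ) - (ξ.1 : N → ℂ) = ((χ.1 : N → ℂ) - (i₀.1 : N → ℂ)) - ((ξ.1 : N → ℂ) - (i₀.1 : N → ℂ)) := by abel
  show Cfsg.indFun N ((χ.1 : N → ℂ) - (ξ.1 : N → ℂ)) = ε • (μ χ - μ ξ)
  rw [e, Cfsg.Agent.Char.indFun_sub]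
  show τ χ - τ ξ = _
  rw [hμτ, hμτ, ← smul_sub, sub_sub_sub_cancel_right]


end Cfsg.Agent.S0851
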