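import Cfsg.Statements.S0852
import Cfsg.Agent.Lib.Char.TIFrobenius
-- import your own Cfsg.Agent.* helpers here

set_option autoImplicit false
open Cfsg

namespace Cfsg.Agent.S0852

/-- Let K be a subgroup of the finite group G that meets each conjugate by an element outside its normalizer N trivially, is properly contained in N, and contains the centralizer of each of its non-identity elements (a T.I. subgroup with Frobenius normalizer). Let S be the set of irreducible characters of N taking at some element of K a value different from their degree, suppose S has at least two members, and let star be a linear isometry on the integer span of S into the generalized characters of G that agrees with induction on the members vanishing at the identity (so S is coherent, with star as the extending isometry). Then an irreducible character ψ of G is of the form star χ or -star χ for some χ in S if and only if ψ is not constant on the non-identity elements of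 K. -/
theorem result {G : Type*} [Group G] [Fintype G] (K : Subgroup G) (hTI : ∀ g : G, g ∉ Subgroup.normalizer (K : Set G) → ∀ k ∈ K, g * k * g⁻¹ ∈ K → k = 1) (hlt : K < Subgroup.normalizer (K : Set G)) (hC : ∀ k ∈ K, k ≠ 1 → Subgroup.centralizer ({k} : Set G) ≤ K) [Fintype ↥(Subgroup.normalizer (K : Set G))] (S : Set (↥(Subgroup.normalizer (K : Set G)) → ℂ)) (hS : S = {χ : ↥(Subgroup.normalizer (K : Set G)) → ℂ | Cfsg.IsIrrCharacter ↥(Subgroup.normalizer (K : Set G)) χ ∧ ∃ k : ↥(Subgroup.normalizer (K : Set G)), (k : G) ∈ K ∧ χ k ≠ χ 1}) (htwo : ∃ χ ∈ S, ∃ ξ ∈ S, χ ≠ ξ) (star : (↥(Subgroup.normalizer (K : Set G)) → ℂ) → (G → ℂ)) (hstar : Cfsg.IsLinearIsometryOn (Cfsg.zspan S) star) (hext : ∀ α ∈ Cfsg.zspanOn S ({1}ᶜ : Set ↥(Subgroup.normalizer (K : Set G))), star α = Cfsg.indFun (Subgroup.normalizer (K : Set G)) α) (ψ : G → ℂ) (hψ : Cfsg.IsIrrCharacter G ψ) : (∃ χ ∈ S, ψ = star χ ∨ ψ = -star χ) ↔ ∃ a ∈ K, ∃ b ∈ K, a ≠ 1 ∧ b ≠ 1 ∧ ψ a ≠ ψ b := by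
  classical
  subst hS
  set K' := K.subgroupOf (Subgroup.normalizer (K : Set G)) with hK'
  have hF := Cfsg.Agent.Char.TIK.frob (K := K) hC
  set S := {χ : ↥(Subgroup.normalizer (K : Set G)) → ℂ | Cfsg.IsIrrCharacter ↥(Subgroup.normalizer (K : Set G)) χ ∧ ∃ k : ↥(Subgroup.normalizer (K : Set G)), (k : G) ∈ K ∧ χ k ≠ χ 1} with hS
  have hrel : ∀ χ ∈ S, Cfsg.Agent.Char.Frob.Rel K' χ := fun χ h => h.2
  have hstar : Cfsg.IsLinearIsometryOn (↑(Submodule.span ℤ S) : Set (↥(Subgroup.normalizer (K : Set G)) → ℂ)) star := hstar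
  have hψc := Cfsg.Agent.Char.IsCharacter.isClassFunction (Cfsg.Agent.Char.IsIrrCharacter.isCharacter hψ)
  choose! d hd using fun χ (h : χ ∈ S) => Cfsg.Agent.Char.IsIrrCharacter.exists_degree h.1
  set f : ↥(Subgroup.normalizer (K : Set G)) → ℂ := fun x => ψ x with hf
  have hfc : Cfsg.IsClassFunction ↥(Subgroup.normalizer (K : Set G)) f := fun a b => by simp only [hf, Subgroup.coe_mul, Subgroup.coe_inv, hψc _ _]
  have hrec : ∀ ξ ∈ S, ∀ ζ ∈ S, (d ζ : ℂ) * Cfsg.classInner f ξ - (d ξ : ℂ) * Cfsg.classInner f ζ =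
      (d ζ : ℂ) * Cfsg.classInner ψ (star ξ) - (d ξ : ℂ) * Cfsg.classInner ψ (star ζ) := by
    intro ξ hξ ζ hζ
    have hm : (d ζ : ℤ) • ξ - (d ξ : ℤ) • ζ ∈ Cfsg.zspanOn S ({1}ᶜ : Set ↥(Subgroup.normalizer (K : Set G))) :=
      Cfsg.Agent.Char.Coherence.mem_zspanOn_one.mpr ⟨Submodule.sub_mem _
        (Submodule.smul_mem _ _ (Submodule.subset_span hξ)) (Submodule.smul_mem _ _ (Submodule.subset_span hζ)),
        by simp [(hd ξ hξ).2, (hd ζ hζ).2, mul_comm]⟩
    have h1 := hext _ hm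
    rw [Cfsg.Agent.Char.Coherence.iso_sub hstar (Submodule.smul_mem _ _ (Submodule.subset_span hξ)) (Submodule.smul_mem _ _ (Submodule.subset_span hζ)),
      Cfsg.Agent.Char.Coherence.iso_zsmul hstar (Submodule.subset_span hξ), Cfsg.Agent.Char.Coherence.iso_zsmul hstar (Submodule.subset_span hζ)] at h1
    have h2 := congrArg (fun g => (starRingEnd ℂ) (Cfsg.classInner g ψ)) h1
    simp only [Cfsg.Agent.Char.classInner_conj_symm, Cfsg.Agent.Char.classInner_indFun_left (Subgroup.normalizer (K : Set G)) _ hψc] at h2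
    simp only [Cfsg.Agent.Char.classInner_sub_right, Cfsg.Agent.Char.Coherence.classInner_zsmul_right, Int.cast_natCast] at h2
    rw [h2]
  have hirr : ∀ χ ∈ S, Cfsg.IsIrrCharacter G (star χ) ∨ Cfsg.IsIrrCharacter G (-star χ) := fun χ hχ =>
    Cfsg.Agent.Char.IsGeneralizedCharacter.of_norm_one (Cfsg.Agent.Char.Coherence.iso_gen hstar (Submodule.subset_span hχ))
      (by rw [Cfsg.Agent.Char.Coherence.iso_inner hstar (Submodule.subset_span hχ) (Submodule.subset_span hχ), Cfsg.Agent.Char.classInner_self_irr hχ.1])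
  obtain ⟨χ₁, hχ₁, χ₂, hχ₂, h12⟩ := htwo
  constructor
  · rintro ⟨χ, hχ, hψχ⟩
    by_contra hc
    push Not at hc
    obtain ⟨k₀, hk₀, hk₀ne⟩ := hχ₁.2
    have hk₀1 : (k₀ : G) ≠ 1 := fun h => hk₀ne (by rw [show k₀ = 1 from Subtype.ext h])
    have hconst : ∀ k ∈ K', k ≠ 1 → f k = ψ k₀ := fun k hk hk1 =>
      hc k (Subgroup.mem_subgroupOf.mp hk) k₀ hk₀ (fun h => hk1 (Subtype.ext h)) hk₀1
    obtain ⟨ξ, hξ, hne⟩ : ∃ ξ ∈ S, ξ ≠ χ := by
      by_cases h : χ₁ = χ
      · exact ⟨χ₂, hχ₂, fun e => h12 (h.trans e.symm)⟩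
      · exact ⟨χ₁, hχ₁, h⟩
    have h := hrec ξ hξ χ hχ
    rw [Cfsg.Agent.Char.Frob.proportional_of_const hF hconst hξ.1 (hrel ξ hξ),
      Cfsg.Agent.Char.Frob.proportional_of_const hF hconst hχ.1 (hrel χ hχ), (hd ξ hξ).2, (hd χ hχ).2] at h
    have h1 : Cfsg.classInner (star χ) (star χ) = 1 := by
      rw [Cfsg.Agent.Char.Coherence.iso_inner hstar (Submodule.subset_span hχ) (Submodule.subset_span hχ), Cfsg.Agent.Char.classInner_self_irr hχ.1]
    have h2 : Cfsg.classInner (star χ) (star ξ) = 0 := by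
      rw [Cfsg.Agent.Char.Coherence.iso_inner hstar (Submodule.subset_span hχ) (Submodule.subset_span hξ), Cfsg.Agent.Char.classInner_irr_of_ne hχ.1 hξ.1 hne.symm]
    have hdξ : (d ξ : ℂ) ≠ 0 := Nat.cast_ne_zero.mpr (hd ξ hξ).1.ne'
    rcases hψχ with rfl | rfl
    · rw [h1, h2] at h
      exact hdξ (by linear_combination h)
    · rw [Cfsg.Agent.Char.classInner_neg_left, Cfsg.Agent.Char.classInner_neg_left, h1, h2] at h
      exact hdξ (by linear_combination -h)
  · rintro ⟨a, ha, b, hb, ha1, hb1, hab⟩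
    by_contra hc
    push Not at hc
    have hz : ∀ ξ ∈ S, Cfsg.classInner ψ (star ξ) = 0 := by
      intro ξ hξ
      rcases hirr ξ hξ with h | h
      · exact Cfsg.Agent.Char.classInner_irr_of_ne hψ h (hc ξ hξ).1
      · have := Cfsg.Agent.Char.classInner_irr_of_ne hψ h (hc ξ hξ).2
        rwa [Cfsg.Agent.Char.classInner_neg_right, neg_eq_zero] at this
    have hprop : ∀ χ : Cfsg.IrrCharacter ↥(Subgroup.normalizer (K : Set G)), Cfsg.Agent.Char.Frob.Rel K' (χ : ↥(Subgroup.normalizer (K : Set G)) → ℂ) →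
        Cfsg.classInner f χ = (Cfsg.classInner f χ₁ / (d χ₁ : ℂ)) * (χ : ↥(Subgroup.normalizer (K : Set G)) → ℂ) 1 := by
      intro χ hχ
      have hmem : (χ : ↥(Subgroup.normalizer (K : Set G)) → ℂ) ∈ S := ⟨χ.2, hχ⟩
      have h := hrec _ hmem χ₁ hχ₁
      rw [hz _ hmem, hz χ₁ hχ₁, mul_zero, mul_zero, sub_zero, sub_eq_zero] at h
      have hd1 : (d χ₁ : ℂ) ≠ 0 := Nat.cast_ne_zero.mpr (hd χ₁ hχ₁).1.ne'
      rw [(hd _ hmem).2, div_mul_eq_mul_div, eq_div_iff hd1]
      linear_combination h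
    have e1 := Cfsg.Agent.Char.Frob.eval_of_proportional hF hfc hprop
      (k := ⟨a, Subgroup.le_normalizer ha⟩) (Subgroup.mem_subgroupOf.mpr ha) (fun h => ha1 (congrArg Subtype.val h))
    have e2 := Cfsg.Agent.Char.Frob.eval_of_proportional hF hfc hprop
      (k := ⟨b, Subgroup.le_normalizer hb⟩) (Subgroup.mem_subgroupOf.mpr hb) (fun h => hb1 (congrArg Subtype.val h))
    exact hab (e1.trans e2.symm)


end Cfsg.Agent.S0852
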