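import Cfsg.Statements.S0853
import Cfsg.Agent.Lib.Char.TIFrobenius
-- import your own Cfsg.Agent.* helpers here

set_option autoImplicit false
open Cfsg

namespace Cfsg.Agent.S0853

/-- Let K be a subgroup of the finite group G that meets each conjugate by an element outside its normalizer N trivially, is properly contained in N, and contains the centralizer of each of its non-identity elements (a T.I. subgroup with Frobenius normalizer). Let S be the set of irreducible characters of N taking at some element of K a value different from their degree, suppose S has at least two members, and let star be a linear isometry on the integer span of S into the generalized characters of G that agrees with induction on the members vanishing at the identity (so S is coherent, with star as the extending isometry). Then there is a single integer m such that star χ k - χ k = m * χ 1 / e for every χ in S and every non-identity element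 k of K, where e is the index of K in N. -/
theorem result {G : Type*} [Group G] [Fintype G] (K : Subgroup G) (hTI : ∀ g : G, g ∉ Subgroup.normalizer (K : Set G) → ∀ k ∈ K, g * k * g⁻¹ ∈ K → k = 1) (hlt : K < Subgroup.normalizer (K : Set G)) (hC : ∀ k ∈ K, k ≠ 1 → Subgroup.centralizer ({k} : Set G) ≤ K) [Fintype ↥(Subgroup.normalizer (K : Set G))] (S : Set (↥(Subgroup.normalizer (K : Set G)) → ℂ)) (hS : S = {χ : ↥(Subgroup.normalizer (K : Set G)) → ℂ | Cfsg.IsIrrCharacter ↥(Subgroup.normalizer (K : Set G)) χ ∧ ∃ k : ↥(Subgroup.normalizer (K : Set G)), (k : G) ∈ K ∧ χ k ≠ χ 1}) (htwo : ∃ χ ∈ S, ∃ ξ ∈ S, χ ≠ ξ) (star : (↥(Subgroup.normalizer (K : Set G)) → ℂ) → (G → ℂ)) (hstar : Cfsg.IsLinearIsometryOn (Cfsg.zspan S) star) (hext : ∀ α ∈ Cfsg.zspanOn S ({1}ᶜ : Set ↥(Subgroup.normalizer (K : Set G))), star α = Cfsg.indFun (Subgroup.normalizer (K : Set G)) α) : ∃ m : ℤ, ∀ χ ∈ S, ∀ k : ↥(Subgroup.normalizer (K : Set G)),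 (k : G) ∈ K → k ≠ 1 → star χ k - χ k = (m : ℂ) * χ 1 / ((K.subgroupOf (Subgroup.normalizer (K : Set G))).index : ℂ) := by
  classical
  subst hS
  set K' := K.subgroupOf (Subgroup.normalizer (K : Set G)) with hK'
  have hF := Cfsg.Agent.Char.TIK.frob (K := K) hC
  set S := {χ : ↥(Subgroup.normalizer (K : Set G)) → ℂ | Cfsg.IsIrrCharacter ↥(Subgroup.normalizer (K : Set G)) χ ∧ ∃ k : ↥(Subgroup.normalizer (K : Set G)), (k : G) ∈ K ∧ χ k ≠ χ 1} with hS
  have hrel : ∀ χ ∈ S, Cfsg.Agent.Char.Frob.Rel K' χ := fun χ h => h.2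
  have hstar : Cfsg.IsLinearIsometryOn (↑(Submodule.span ℤ S) : Set (↥(Subgroup.normalizer (K : Set G)) → ℂ)) star := hstar
  choose! d hd using fun χ (h : χ ∈ S) => Cfsg.Agent.Char.IsIrrCharacter.exists_degree h.1
  choose! q hq using fun χ (h : χ ∈ S) => Cfsg.Agent.Char.Frob.index_dvd_degree hF h.1 (hrel χ h) (hd χ h).2
  obtain ⟨χ₀, hχ₀, -, -, -⟩ := htwo
  obtain ⟨k₀, hk₀, hk₀ne⟩ := hχ₀.2
  have hk₀1 : k₀ ≠ 1 := fun h => hk₀ne (by rw [h])
  have hidx : (K'.index : ℂ) ≠ 0 := Nat.cast_ne_zero.mpr Subgroup.index_ne_zero_of_finite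
  let f : (↥(Subgroup.normalizer (K : Set G)) → ℂ) → (↥(Subgroup.normalizer (K : Set G)) → ℂ) := fun χ x => star χ x - χ x
  have hgen : ∀ χ ∈ S, Cfsg.IsGeneralizedCharacter ↥(Subgroup.normalizer (K : Set G)) (f χ) := fun χ hχ =>
    Cfsg.Agent.Char.IsGeneralizedCharacter.sub (Cfsg.Agent.Char.IsGeneralizedCharacter.restrict
      (Cfsg.Agent.Char.Coherence.iso_gen hstar (Submodule.subset_span hχ)) (Subgroup.normalizer (K : Set G)))
      (Cfsg.Agent.Char.IsGeneralizedCharacter.of_isCharacter (Cfsg.Agent.Char.IsIrrCharacter.isCharacter hχ.1))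
  have hbeta : ∀ ξ ∈ S, ∀ ζ ∈ S, (d ζ : ℤ) • ξ - (d ξ : ℤ) • ζ ∈ Cfsg.zspanOn S ({1}ᶜ : Set ↥(Subgroup.normalizer (K : Set G))) := fun ξ hξ ζ hζ =>
      Cfsg.Agent.Char.Coherence.mem_zspanOn_one.mpr ⟨Submodule.sub_mem _
        (Submodule.smul_mem _ _ (Submodule.subset_span hξ)) (Submodule.smul_mem _ _ (Submodule.subset_span hζ)),
        by simp [(hd ξ hξ).2, (hd ζ hζ).2, mul_comm]⟩
  have hsplit : ∀ ξ ∈ S, ∀ ζ ∈ S, star ((d ζ : ℤ) • ξ - (d ξ : ℤ) • ζ) = (d ζ : ℤ) • star ξ - (d ξ : ℤ) • star ζ := fun ξ hξ ζ hζ => by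
    rw [Cfsg.Agent.Char.Coherence.iso_sub hstar (Submodule.smul_mem _ _ (Submodule.subset_span hξ)) (Submodule.smul_mem _ _ (Submodule.subset_span hζ)),
      Cfsg.Agent.Char.Coherence.iso_zsmul hstar (Submodule.subset_span hξ), Cfsg.Agent.Char.Coherence.iso_zsmul hstar (Submodule.subset_span hζ)]
  have hprop : ∀ χ ∈ S, ∀ ξ ∈ S, (d χ₀ : ℂ) * Cfsg.classInner (f χ) ξ = (d ξ : ℂ) * Cfsg.classInner (f χ) χ₀ := by
    intro χ hχ ξ hξ
    have hm := hbeta ξ hξ χ₀ hχ₀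
    have hsc := Cfsg.Agent.Char.IsGeneralizedCharacter.isClassFunction (Cfsg.Agent.Char.Coherence.iso_gen hstar (Submodule.subset_span hχ))
    have e : Cfsg.classInner (fun x : ↥(Subgroup.normalizer (K : Set G)) => star χ x) ((d χ₀ : ℤ) • ξ - (d ξ : ℤ) • χ₀) = Cfsg.classInner χ ((d χ₀ : ℤ) • ξ - (d ξ : ℤ) • χ₀) := by
      rw [← Cfsg.Agent.Char.Coherence.iso_inner hstar (Submodule.subset_span hχ) (Cfsg.Agent.Char.Coherence.mem_zspanOn_one.mp hm).1,
        hext _ hm, ← Cfsg.Agent.Char.classInner_conj_symm (Cfsg.indFun (Subgroup.normalizer (K : Set G)) _) (star χ),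
        Cfsg.Agent.Char.classInner_indFun_left (Subgroup.normalizer (K : Set G)) _ hsc, Cfsg.Agent.Char.classInner_conj_symm]
    have e2 : Cfsg.classInner (f χ) ((d χ₀ : ℤ) • ξ - (d ξ : ℤ) • χ₀) = 0 := by
      rw [show f χ = (fun x : ↥(Subgroup.normalizer (K : Set G)) => star χ x) - χ from rfl, Cfsg.Agent.Char.classInner_sub_left, e, sub_self]
    rw [Cfsg.Agent.Char.classInner_sub_right, Cfsg.Agent.Char.Coherence.classInner_zsmul_right,
      Cfsg.Agent.Char.Coherence.classInner_zsmul_right, sub_eq_zero, Int.cast_natCast, Int.cast_natCast] at e2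
    exact e2
  have hval : ∀ χ ∈ S, ∃ n : ℤ, ∀ k : ↥(Subgroup.normalizer (K : Set G)), (k : G) ∈ K → k ≠ 1 → f χ k = (n : ℂ) := by
    intro χ hχ
    have hd0 : (d χ₀ : ℂ) ≠ 0 := Nat.cast_ne_zero.mpr (hd χ₀ hχ₀).1.ne'
    obtain ⟨a, ha⟩ := Cfsg.Agent.Char.IsGeneralizedCharacter.exists_classInner_int (hgen χ hχ)
      (Cfsg.Agent.Char.IsGeneralizedCharacter.of_isCharacter (Cfsg.Agent.Char.IsIrrCharacter.isCharacter hχ₀.1))
    choose b hb using fun η : Cfsg.IrrCharacter ↥(Subgroup.normalizer (K : Set G)) => Cfsg.Agent.Char.IsGeneralizedCharacter.exists_classInner_int (hgen χ hχ)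
      (Cfsg.Agent.Char.IsGeneralizedCharacter.of_isCharacter (Cfsg.Agent.Char.IsIrrCharacter.isCharacter η.2))
    choose e he using fun η : Cfsg.IrrCharacter ↥(Subgroup.normalizer (K : Set G)) => Cfsg.Agent.Char.IsCharacter.exists_degree (Cfsg.Agent.Char.IsIrrCharacter.isCharacter η.2)
    have hfc := Cfsg.Agent.Char.IsGeneralizedCharacter.isClassFunction (hgen χ hχ)
    have hev : ∀ k : ↥(Subgroup.normalizer (K : Set G)), (k : G) ∈ K → k ≠ 1 → f χ k = (((-((a : ℚ) / d χ₀ * K'.index) + ∑ η ∈ Finset.univ.filter (fun η : Cfsg.IrrCharacter ↥(Subgroup.normalizer (K : Set G)) => ¬ Cfsg.Agent.Char.Frob.Rel K' (η : ↥(Subgroup.normalizer (K : Set G)) → ℂ)), (b η : ℚ) * e η : ℚ)) : ℂ) := by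
      intro k hk hk1
      rw [Cfsg.Agent.Char.Frob.eval_of_proportional hF hfc (c := (a : ℂ) / d χ₀) (fun η hη => by
        have h := hprop χ hχ η ⟨η.2, hη⟩
        rw [ha] at h
        rw [(hd (η : ↥(Subgroup.normalizer (K : Set G)) → ℂ) ⟨η.2, hη⟩).2, div_mul_eq_mul_div, eq_div_iff hd0]
        linear_combination h) (Subgroup.mem_subgroupOf.mpr hk) hk1]
      simp only [hb, he]
      push_cast
      ring
    have hint : IsIntegral ℤ (f χ k₀) := by
      obtain ⟨u, v, hu, hv, e'⟩ := hgen χ hχ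
      rw [e', Pi.sub_apply]
      exact (Cfsg.Agent.Char.IsCharacter.isIntegral hu k₀).sub (Cfsg.Agent.Char.IsCharacter.isIntegral hv k₀)
    rw [hev k₀ hk₀ hk₀1] at hint
    obtain ⟨n, hn⟩ := Cfsg.Agent.Char.exists_int_of_isIntegral hint
    exact ⟨n, fun k hk hk1 => by rw [hev k hk hk1, hn, Rat.cast_intCast]⟩
  choose! n hn using hval
  have hcross : ∀ χ ∈ S, ∀ ξ ∈ S, n χ * (q ξ : ℤ) = n ξ * (q χ : ℤ) := by
    intro χ hχ ξ hξ
    have hm := hbeta χ hχ ξ hξ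
    have hz : ∀ x : ↥(Subgroup.normalizer (K : Set G)), (x : G) ∉ K → ((d ξ : ℤ) • χ - (d χ : ℤ) • ξ) x = 0 := fun x hx => by
      have hx' : x ∉ K' := fun h => hx (Subgroup.mem_subgroupOf.mp h)
      simp [Cfsg.Agent.Char.Frob.vanish hF hχ.1 (hrel χ hχ) hx', Cfsg.Agent.Char.Frob.vanish hF hξ.1 (hrel ξ hξ) hx']
    have hbc : Cfsg.IsClassFunction ↥(Subgroup.normalizer (K : Set G)) ((d ξ : ℤ) • χ - (d χ : ℤ) • ξ) :=
      Cfsg.Agent.Char.IsGeneralizedCharacter.isClassFunction (Cfsg.Agent.Char.Coherence.zspan_gen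
        (fun φ hφ => Cfsg.Agent.Char.Coherence.irr_gen hφ.1) (Cfsg.Agent.Char.Coherence.mem_zspanOn_one.mp hm).1)
    have h1 := Cfsg.Agent.Char.TIK.indFun_restrict hTI hC hbc hz (Cfsg.Agent.Char.Coherence.mem_zspanOn_one.mp hm).2 k₀
    rw [← hext _ hm, hsplit χ hχ ξ hξ] at h1
    simp only [Pi.sub_apply, Pi.smul_apply, zsmul_eq_mul, Int.cast_natCast] at h1
    have e1 := hn χ hχ k₀ hk₀ hk₀1
    have e2 := hn ξ hξ k₀ hk₀ hk₀1
    simp only [f] at e1 e2
    have h2 : ((n χ * (q ξ : ℤ) : ℤ) : ℂ) = ((n ξ * (q χ : ℤ) : ℤ) : ℂ) := by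
      push_cast
      refine mul_left_cancel₀ hidx ?_
      rw [show d χ = K'.index * q χ from hq χ hχ, show d ξ = K'.index * q ξ from hq ξ hξ] at h1
      push_cast at h1
      simp only [Pi.mul_apply, Pi.natCast_apply] at h1
      linear_combination h1 - ((K'.index : ℂ) * q ξ) * e1 + ((K'.index : ℂ) * q χ) * e2
    exact_mod_cast h2
  have hcK : Nat.card K' = Nat.card K := Nat.card_congr (Subgroup.subgroupOfEquivOfLe Subgroup.le_normalizer).toEquiv
  have hdvd1 : (q χ₀ : ℤ) ∣ n χ₀ * (Nat.card K' : ℤ) := by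
    have h := Cfsg.Agent.Char.degree_dvd_card hχ₀.1 (hd χ₀ hχ₀).2
    rw [hq χ₀ hχ₀, ← Subgroup.card_mul_index K', mul_comm (Nat.card K')] at h
    exact Dvd.dvd.mul_left (Int.natCast_dvd_natCast.mpr ((Nat.mul_dvd_mul_iff_left (Nat.pos_of_ne_zero Subgroup.index_ne_zero_of_finite)).mp h)) _
  have hdvd2 : (q χ₀ : ℤ) ∣ n χ₀ * ((Nat.card K' : ℤ) - 1) := by
    refine ⟨(K'.index : ℤ) * ∑ χ ∈ Finset.univ.filter (fun χ : Cfsg.IrrCharacter ↥(Subgroup.normalizer (K : Set G)) => Cfsg.Agent.Char.Frob.Rel K' (χ : ↥(Subgroup.normalizer (K : Set G)) → ℂ)), n (χ : ↥(Subgroup.normalizer (K : Set G)) → ℂ) * (q (χ : ↥(Subgroup.normalizer (K : Set G)) → ℂ) : ℤ), ?_⟩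
    have h := Cfsg.Agent.Char.Frob.sum_rel_sq (K := K')
    have h' : ∑ χ ∈ Finset.univ.filter (fun χ : Cfsg.IrrCharacter ↥(Subgroup.normalizer (K : Set G)) => Cfsg.Agent.Char.Frob.Rel K' (χ : ↥(Subgroup.normalizer (K : Set G)) → ℂ)),
        ((K'.index : ℂ) * (q (χ : ↥(Subgroup.normalizer (K : Set G)) → ℂ) : ℂ) ^ 2) = (Nat.card K' : ℂ) - 1 := by
      refine mul_left_cancel₀ hidx ?_
      rw [← h, Finset.mul_sum]
      refine Finset.sum_congr rfl fun χ hχ => ?_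
      have hmem : (χ : ↥(Subgroup.normalizer (K : Set G)) → ℂ) ∈ S := ⟨χ.2, (Finset.mem_filter.mp hχ).2⟩
      rw [(hd _ hmem).2, hq _ hmem]
      push_cast; ring
    have h2 : ((n χ₀ * ((Nat.card K' : ℤ) - 1) : ℤ) : ℂ) = (((q χ₀ : ℤ) * ((K'.index : ℤ) * ∑ χ ∈ Finset.univ.filter (fun χ : Cfsg.IrrCharacter ↥(Subgroup.normalizer (K : Set G)) => Cfsg.Agent.Char.Frob.Rel K' (χ : ↥(Subgroup.normalizer (K : Set G)) → ℂ)), n (χ : ↥(Subgroup.normalizer (K : Set G)) → ℂ) * (q (χ : ↥(Subgroup.normalizer (K : Set G)) → ℂ) : ℤ)) : ℤ) : ℂ) := by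
      push_cast
      rw [← h', Finset.mul_sum, Finset.mul_sum, Finset.mul_sum]
      refine Finset.sum_congr rfl fun χ hχ => ?_
      have hc := hcross χ₀ hχ₀ _ (⟨χ.2, (Finset.mem_filter.mp hχ).2⟩ : (χ : ↥(Subgroup.normalizer (K : Set G)) → ℂ) ∈ S)
      have hc' : (n χ₀ : ℂ) * (q (χ : ↥(Subgroup.normalizer (K : Set G)) → ℂ) : ℂ) = (n (χ : ↥(Subgroup.normalizer (K : Set G)) → ℂ) : ℂ) * (q χ₀ : ℂ) := by exact_mod_cast hc
      linear_combination ((K'.index : ℂ) * (q (χ : ↥(Subgroup.normalizer (K : Set G)) → ℂ) : ℂ)) * hc'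
    exact_mod_cast h2
  obtain ⟨m, hm⟩ : (q χ₀ : ℤ) ∣ n χ₀ := by
    have := dvd_sub hdvd1 hdvd2
    rwa [← mul_sub, sub_sub_cancel, mul_one] at this
  refine ⟨m, fun χ hχ k hk hk1 => ?_⟩
  have hq0 : q χ₀ ≠ 0 := fun h => by
    have := hq χ₀ hχ₀
    rw [h, mul_zero] at this
    exact (hd χ₀ hχ₀).1.ne' this
  have hnm : n χ = m * (q χ : ℤ) := by
    refine mul_right_cancel₀ (Int.natCast_ne_zero.mpr hq0) ?_
    rw [hcross χ hχ χ₀ hχ₀, hm]; ring
  have e1 := hn χ hχ k hk hk1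
  simp only [f] at e1
  rw [e1, hnm, (hd χ hχ).2, hq χ hχ]
  push_cast
  field_simp
  rfl


end Cfsg.Agent.S0853
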