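import Cfsg.Statements.S0855
import Cfsg.Agent.Lib.Char.ThompsonComplement
import Cfsg.Agent.Lib.Char.Multiplicity
import Cfsg.Agent.Lib.Char.Orbit

set_option autoImplicit false
open Cfsg

namespace Cfsg.Agent.S0855

/-- For a finite group G and a prime p: every irreducible character of G has degree a power of p if and only if G has an abelian normal subgroup whose order is prime to p and whose index is a power of p. -/
theorem result {G : Type*} [Group G] [Finite G] (p : ℕ) (hp : p.Prime) : (∀ χ : Cfsg.IrrCharacter G, ∃ k : ℕ, (χ : G → ℂ) 1 = (p : ℂ) ^ k) ↔ ∃ A : Subgroup G, A.Normal ∧ (∀ a ∈ A, ∀ b ∈ A, a * b = b * a) ∧ Nat.Coprime (Nat.card A) p ∧ ∃ k : ℕ, A.index = p ^ k := by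
  classical
  haveI : Fintype G := Fintype.ofFinite G
  constructor
  · intro h
    obtain ⟨N, hNn, hcop, k, hk⟩ := Cfsg.Agent.Char.TC.exists_complement hp fun χ hχ d hd => by
      obtain ⟨j, hj⟩ := h ⟨χ, hχ⟩
      have hdj : d = p ^ j := by
        have : (d : ℂ) = ((p ^ j : ℕ) : ℂ) := by rw [← hd]; push_cast; exact hj
        exact_mod_cast this
      rcases j with _ | j
      · exact Or.inl (by rw [hdj, pow_zero])
      · exact Or.inr (hdj ▸ dvd_pow_self p j.succ_ne_zero)
    haveI := hNn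
    haveI : Fintype N := Fintype.ofFinite N
    refine ⟨N, hNn, fun a ha b hb => congrArg Subtype.val
      (Cfsg.Agent.Char.commute_of_all_linear (H := N) (fun θ => ?_) ⟨a, ha⟩ ⟨b, hb⟩), hcop, k, hk⟩
    obtain ⟨t, -, ht⟩ := Cfsg.Agent.Char.IsIrrCharacter.exists_degree θ.2
    have htN : t ∣ Nat.card N := Cfsg.Agent.Char.degree_dvd_card θ.2 ht
    obtain ⟨χ, hχ⟩ := Cfsg.Agent.Char.IsCharacter.exists_constituent
      (Cfsg.Agent.Char.isCharacter_indFun N (Cfsg.Agent.Char.IsIrrCharacter.isCharacter θ.2))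
      (fun h0 => by
        have := congrFun h0 1
        rw [Cfsg.Agent.Char.indFun_one_apply, Pi.zero_apply, mul_eq_zero] at this
        exact this.elim (Nat.cast_ne_zero.mpr Subgroup.index_ne_zero_of_finite)
          (Cfsg.Agent.Char.IsIrrCharacter.one_ne_zero θ.2))
    rw [Cfsg.Agent.Char.classInner_indFun_left N _ (Cfsg.Agent.Char.IsCharacter.isClassFunction
      (Cfsg.Agent.Char.IsIrrCharacter.isCharacter χ.2)),
      Cfsg.Agent.Char.classInner_comm_of_isCharacter
        (Cfsg.Agent.Char.IsIrrCharacter.isCharacter θ.2)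
        (Cfsg.Agent.Char.IsCharacter.restrict
          (Cfsg.Agent.Char.IsIrrCharacter.isCharacter χ.2) N)] at hχ
    obtain ⟨e, he, -⟩ := Cfsg.Agent.Char.exists_ratio_dvd_index N χ.2 θ.2 hχ
    obtain ⟨j, hj⟩ := h χ
    have htj : p ^ j = e * t := by
      have : ((p ^ j : ℕ) : ℂ) = ((e * t : ℕ) : ℂ) := by
        push_cast; rw [← hj, he, ht]
      exact_mod_cast this
    have ht1 : t = 1 := by
      have h3 : Nat.Coprime (Nat.card N) (p ^ j) := hcop.pow_right j
      exact Nat.dvd_one.mp (h3.gcd_eq_one ▸ Nat.dvd_gcd htN (htj ▸ Dvd.intro_left e rfl))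
    rw [ht, ht1, Nat.cast_one]
  · rintro ⟨A, hAn, hab, -, k, hk⟩ χ
    haveI := hAn
    haveI : Fintype A := Fintype.ofFinite A
    obtain ⟨d, -, hd⟩ := Cfsg.Agent.Char.IsIrrCharacter.exists_degree χ.2
    obtain ⟨⟨θ, hθ⟩, hcon⟩ := Cfsg.Agent.Char.exists_restrict_constituent χ.2 A
    obtain ⟨e, he, hdvd⟩ := Cfsg.Agent.Char.exists_ratio_dvd_index A χ.2 hθ hcon
    rw [Cfsg.Agent.Char.degree_one_of_comm (fun a b => Subtype.ext (hab _ a.2 _ b.2)) hθ,
      mul_one] at he
    rw [hk] at hdvd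
    obtain ⟨j, -, hj⟩ := (Nat.dvd_prime_pow hp).mp hdvd
    exact ⟨j, by rw [he, hj, Nat.cast_pow]⟩

end Cfsg.Agent.S0855
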