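import Cfsg.Statements.S0859
import Cfsg.Agent.Lib.Char.RelMonomial

set_option autoImplicit false
open Cfsg

namespace Cfsg.Agent.S0859

/-- Let G be a finite solvable group and N a normal subgroup such that for every prime p every Sylow p-subgroup of N is abelian. Suppose every irreducible character of G is induced from an irreducible character of some subgroup containing N whose restriction to N is irreducible. Then every irreducible character of G is induced from a character of degree 1 of some subgroup. -/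
theorem result {G : Type*} [Group G] [Fintype G] [Group.IsSolvable G] (N : Subgroup G) [N.Normal] (hab : ∀ (p : ℕ) [Fact p.Prime] (P : Sylow p N), ∀ a ∈ P, ∀ b ∈ P, a * b = b * a) (hrel : ∀ χ : G → ℂ, Cfsg.IsIrrCharacter G χ → ∃ (H : Subgroup G) (hNH : N ≤ H) (ψ : H → ℂ), Cfsg.IsIrrCharacter H ψ ∧ Cfsg.indFun H ψ = χ ∧ Cfsg.IsIrrCharacter N (fun n : N => ψ ⟨(n : G), hNH n.2⟩)) (χ : G → ℂ) (hχ : Cfsg.IsIrrCharacter G χ) : ∃ (U : Subgroup G) (lam : U → ℂ), Cfsg.IsCharacter U lam ∧ lam 1 = 1 ∧ Cfsg.indFun U lam = χ := by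
  classical
  obtain ⟨H, hNH, ψ, hψ, rfl, hψN⟩ := hrel χ hχ
  haveI : Fintype H := Fintype.ofFinite H
  have hN' : Cfsg.IsIrrCharacter (N.subgroupOf H) (fun x => ψ x) :=
    Cfsg.Agent.Char.IsIrrCharacter.comp hψN (Subgroup.subgroupOfEquivOfLe hNH).toMonoidHom
      (Subgroup.subgroupOfEquivOfLe hNH).surjective
  obtain ⟨U, lam, hlam⟩ := Cfsg.Agent.Char.RelMonomial.exists_monomial _ H rfl (N.subgroupOf H)
    (fun p hp P hPN hPp a ha b hb => H.subtype_injective (by
      simpa using Cfsg.Agent.Char.RelMonomial.sylow_abelian_pgroup N hab p hp (P.map H.subtype) (by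
        rintro _ ⟨z, hz, rfl⟩
        exact Subgroup.mem_subgroupOf.mp (hPN hz)) (hPp.map H.subtype) _ ⟨a, ha, rfl⟩ _
        ⟨b, hb, rfl⟩)) ψ hψ hN'
  let e := U.equivMapOfInjective H.subtype H.subtype_injective
  refine ⟨U.map H.subtype, fun x => (lam (e.symm x) : ℂ),
    Cfsg.Agent.Char.IsIrrCharacter.isCharacter
      (Cfsg.Agent.Char.isIrrCharacter_linear (lam.comp e.symm.toMonoidHom)), by simp, ?_⟩
  rw [hlam]
  exact (Cfsg.Agent.Char.indFun_map H U _ _
    fun u => congrArg (fun y => (lam y : ℂ)) (e.symm_apply_apply u)).symm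

end Cfsg.Agent.S0859
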