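import Cfsg.Statements.S0860
import Cfsg.Agent.Lib.Char.Fixed
-- import your own Cfsg.Agent.* helpers here

set_option autoImplicit false
open Cfsg

namespace Cfsg.Agent.S0860

/-- Let a group A act on the set of irreducible characters and on the set of conjugacy classes of a finite group G in such a way that (a • χ) evaluated on the class a • C equals χ evaluated on C, for all a, χ and C. Then every element of A fixes exactly as many irreducible characters as it fixes conjugacy classes. -/
theorem result {G : Type*} [Group G] [Finite G] {A : Type*} [Group A] [MulAction A (Cfsg.IrrCharacter G)] [MulAction A (ConjClasses G)] (hcompat : ∀ (a : A) (χ : Cfsg.IrrCharacter G) (g g' : G), ConjClasses.mk g' = a • ConjClasses.mk g → ((a • χ : Cfsg.IrrCharacter G) : G → ℂ) g' = (χ : G → ℂ) g) (a : A) : Nat.card {χ : Cfsg.IrrCharacter G // a • χ = χ} = Nat.card {C : ConjClasses G // a • C = C} := by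
  classical
  haveI : Fintype G := Fintype.ofFinite G
  let σ : G → G := fun g => (a⁻¹ • ConjClasses.mk g).out
  have hmk : ∀ g, ConjClasses.mk (σ g) = a⁻¹ • ConjClasses.mk g := fun g => Quotient.out_eq _
  have hval : ∀ χ : Cfsg.IrrCharacter G,
      (fun k => (χ : G → ℂ) (σ k)) = ((a • χ : Cfsg.IrrCharacter G) : G → ℂ) := fun χ =>
    funext fun k => (hcompat a χ (σ k) k (by rw [hmk, smul_inv_smul])).symm
  have hσ : ∀ x y, IsConj x y → IsConj (σ x) (σ y) := fun x y h => by
    rw [← ConjClasses.mk_eq_mk_iff_isConj, hmk, hmk, ConjClasses.mk_eq_mk_iff_isConj.mpr h]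
  have h := Cfsg.Agent.Char.card_fixed_irr σ hσ fun χ hχ => by
    rw [hval ⟨χ, hχ⟩]; exact (a • (⟨χ, hχ⟩ : Cfsg.IrrCharacter G)).2
  refine Eq.trans (Nat.card_congr (Equiv.subtypeEquivRight fun χ => ?_))
    (h.trans (Nat.card_congr (Equiv.subtypeEquivRight fun C => ?_)))
  · rw [hval χ, Subtype.ext_iff]
  · obtain ⟨g, rfl⟩ := ConjClasses.mk_surjective C
    constructor
    · intro hg
      have h1 := ConjClasses.mk_eq_mk_iff_isConj.mpr (hg g rfl)
      rw [hmk, inv_smul_eq_iff] at h1
      exact h1.symm
    · intro hg k hk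
      rw [← ConjClasses.mk_eq_mk_iff_isConj, hmk, hk, inv_smul_eq_iff, hg]


end Cfsg.Agent.S0860
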