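import Cfsg.Statements.S0861
import Cfsg.Agent.Lib.Char.Galois
import Cfsg.Agent.Lib.Char.Multiplicity
import Cfsg.Agent.Lib.Char.Orbit

set_option autoImplicit false
open Cfsg

namespace Cfsg.Agent.S0861

/-- Let P be a normal abelian Sylow p-subgroup of the finite group G and suppose some element g of P has centralizer exactly P. Then the number of irreducible characters of G is at most the order of P, and if equality holds then G / P is abelian (the commutator subgroup lies in P). -/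
theorem result {G : Type*} [Group G] [Finite G] (p : ℕ) [Fact p.Prime] (P : Sylow p G) [(P : Subgroup G).Normal] (hab : ∀ a ∈ P, ∀ b ∈ P, a * b = b * a) (g : G) (hg : g ∈ P) (hC : Subgroup.centralizer ({g} : Set G) = P) : Nat.card (Cfsg.IrrCharacter G) ≤ Nat.card P ∧ (Nat.card (Cfsg.IrrCharacter G) = Nat.card P → commutator G ≤ P) := by
  classical
  haveI : Fintype G := Fintype.ofFinite G
  haveI : Fintype (P : Subgroup G) := Fintype.ofFinite _
  have hp : p.Prime := Fact.out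
  have horth := Cfsg.Agent.Char.column_orth_of_isConj (IsConj.refl g)
  rw [hC] at horth
  have hpow : ∃ a, orderOf g = p ^ a := by
    obtain ⟨k, hk⟩ := (IsPGroup.iff_orderOf).mp P.isPGroup' ⟨g, hg⟩
    exact ⟨k, by rwa [← Subgroup.orderOf_coe] at hk⟩
  have hne : ∀ χ : Cfsg.IrrCharacter G, (χ : G → ℂ) g ≠ 0 := by
    intro χ
    obtain ⟨d, -, hd⟩ := Cfsg.Agent.Char.IsIrrCharacter.exists_degree χ.2
    obtain ⟨⟨θ, hθ⟩, hcon⟩ :=
      Cfsg.Agent.Char.exists_restrict_constituent χ.2 (P : Subgroup G)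
    obtain ⟨e, he, hdvd⟩ := Cfsg.Agent.Char.exists_ratio_dvd_index (P : Subgroup G) χ.2 hθ hcon
    rw [Cfsg.Agent.Char.degree_one_of_comm (fun a b => Subtype.ext (hab _ a.2 _ b.2)) hθ,
      mul_one, hd, Nat.cast_inj] at he
    refine Cfsg.Agent.CharGalois.char_ne_zero_of_pPow
      (Cfsg.Agent.Char.IsIrrCharacter.isCharacter χ.2) hp hpow hd fun hdiv => ?_
    exact P.not_dvd_index ((he ▸ hdiv).trans hdvd)
  have hperm : ∀ σ : ℂ ≃+* ℂ, σ (∏ χ : Cfsg.IrrCharacter G, (χ : G → ℂ) g) =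
      ∏ χ : Cfsg.IrrCharacter G, (χ : G → ℂ) g := by
    intro σ
    let F : Cfsg.IrrCharacter G → Cfsg.IrrCharacter G := fun χ =>
      ⟨fun x => σ ((χ : G → ℂ) x), Cfsg.Agent.CharGalois.IsIrrCharacter.twist χ.2 σ⟩
    have hF : Function.Bijective F := Finite.injective_iff_bijective.mp fun a b h =>
      Subtype.ext (funext fun x => σ.injective (congrFun (congrArg Subtype.val h) x))
    rw [map_prod]
    exact Fintype.prod_bijective F hF _ _ fun χ => rfl
  have hint : ∀ χ : Cfsg.IrrCharacter G, IsIntegral ℤ ((χ : G → ℂ) g) := fun χ =>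
    Cfsg.Agent.Char.IsCharacter.isIntegral (Cfsg.Agent.Char.IsIrrCharacter.isCharacter χ.2) g
  have hle := Cfsg.Agent.CharGalois.card_le_sum_normSq Finset.univ
    (fun χ : Cfsg.IrrCharacter G => (χ : G → ℂ) g) (fun χ _ => hint χ) (fun χ _ => hne χ) hperm
  have hsum : (∑ χ : Cfsg.IrrCharacter G, ‖(χ : G → ℂ) g‖ ^ 2 : ℝ) = (Nat.card P : ℝ) := by
    have e : ((∑ χ : Cfsg.IrrCharacter G, ‖(χ : G → ℂ) g‖ ^ 2 : ℝ) : ℂ) = (Nat.card P : ℂ) := by
      rw [← horth]
      push_cast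
      exact Finset.sum_congr rfl fun χ _ => by rw [Complex.mul_conj']
    exact_mod_cast e
  rw [hsum, Finset.card_univ, ← Nat.card_eq_fintype_card] at hle
  have hle' : Nat.card (Cfsg.IrrCharacter G) ≤ Nat.card P := by exact_mod_cast hle
  refine ⟨hle', fun heq => ?_⟩
  have hall : ∀ χ : Cfsg.IrrCharacter G, ‖(χ : G → ℂ) g‖ = 1 := by
    have hpos : ∀ χ : Cfsg.IrrCharacter G, 0 < ‖(χ : G → ℂ) g‖ ^ 2 := fun χ =>
      pow_pos (norm_pos_iff.2 (hne χ)) 2
    have h1 : 0 ≤ ∑ χ : Cfsg.IrrCharacter G, Real.log (‖(χ : G → ℂ) g‖ ^ 2) := by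
      rw [← Real.log_prod (fun χ _ => (hpos χ).ne')]
      refine Real.log_nonneg ?_
      rw [Finset.prod_pow, ← norm_prod]
      exact one_le_pow₀ (Cfsg.Agent.CharGalois.one_le_norm_of_fixed
        (IsIntegral.prod _ fun χ _ => hint χ) (Finset.prod_ne_zero_iff.2 fun χ _ => hne χ) hperm)
    have h2 : ∑ χ : Cfsg.IrrCharacter G, ((‖(χ : G → ℂ) g‖ ^ 2 - 1) -
        Real.log (‖(χ : G → ℂ) g‖ ^ 2)) ≤ 0 := by
      rw [Finset.sum_sub_distrib, Finset.sum_sub_distrib, hsum, Finset.sum_const, Finset.card_univ,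
        ← Nat.card_eq_fintype_card, heq, nsmul_eq_mul, mul_one]
      linarith
    intro χ
    have h3 : (‖(χ : G → ℂ) g‖ ^ 2 - 1) - Real.log (‖(χ : G → ℂ) g‖ ^ 2) ≤ 0 :=
      le_trans (Finset.single_le_sum (f := fun χ : Cfsg.IrrCharacter G =>
        (‖(χ : G → ℂ) g‖ ^ 2 - 1) - Real.log (‖(χ : G → ℂ) g‖ ^ 2))
        (fun ψ _ => sub_nonneg.mpr (Real.log_le_sub_one_of_pos (hpos ψ))) (Finset.mem_univ χ)) h2
    by_contra hc
    have h4 := Real.log_lt_sub_one_of_pos (hpos χ) (fun h => hc (by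
      exact (pow_eq_one_iff_of_nonneg (norm_nonneg _) two_ne_zero).mp h))
    linarith
  have hQ : ∀ χ : Cfsg.IrrCharacter (G ⧸ (P : Subgroup G)),
      (χ : G ⧸ (P : Subgroup G) → ℂ) 1 = 1 := by
    intro χ
    obtain ⟨d, -, hd⟩ := Cfsg.Agent.Char.IsIrrCharacter.exists_degree χ.2
    have h := hall ⟨fun x => (χ : G ⧸ (P : Subgroup G) → ℂ) (QuotientGroup.mk' (P : Subgroup G) x),
      Cfsg.Agent.Char.IsIrrCharacter.comp χ.2 (QuotientGroup.mk' (P : Subgroup G))
        (QuotientGroup.mk'_surjective _)⟩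
    have hmk : (QuotientGroup.mk' (P : Subgroup G)) g = 1 := (QuotientGroup.eq_one_iff g).mpr hg
    simp only [hmk, hd, Complex.norm_natCast] at h
    rw [hd, show d = 1 by exact_mod_cast h, Nat.cast_one]
  haveI : Fintype (G ⧸ (P : Subgroup G)) := Fintype.ofFinite _
  have hidx : (commutator (G ⧸ (P : Subgroup G))).index = Nat.card (G ⧸ (P : Subgroup G)) := by
    rw [← Cfsg.Agent.Char.card_linear,
      Nat.card_congr (Equiv.subtypeUnivEquiv hQ)]
    have h2 := Cfsg.Agent.Char.sum_sq_degree (G := G ⧸ (P : Subgroup G))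
    simp only [hQ, one_pow, Finset.sum_const, nsmul_eq_mul, mul_one, Finset.card_univ,
      Nat.cast_inj] at h2
    rwa [← Nat.card_eq_fintype_card] at h2
  have hbot : commutator (G ⧸ (P : Subgroup G)) = ⊥ := Subgroup.eq_bot_of_card_eq _ (by
    have := (commutator (G ⧸ (P : Subgroup G))).card_mul_index
    rw [hidx] at this
    exact Nat.eq_of_mul_eq_mul_right Nat.card_pos (this.trans (one_mul _).symm))
  intro x hx
  refine (QuotientGroup.eq_one_iff x).mp ?_
  have hm : QuotientGroup.mk' (P : Subgroup G) x ∈ (commutator G).map (QuotientGroup.mk' _) :=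
    Subgroup.mem_map_of_mem _ hx
  rw [commutator_def, Subgroup.map_commutator,
    Subgroup.map_top_of_surjective _ (QuotientGroup.mk'_surjective _), ← commutator_def, hbot,
    Subgroup.mem_bot] at hm
  exact hm

end Cfsg.Agent.S0861
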