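import Cfsg.Statements.S0864
import Cfsg.Agent.Lib.Char.ExtensionChar
-- import your own Cfsg.Agent.* helpers here

set_option autoImplicit false
open Cfsg

namespace Cfsg.Agent.S0864

/-- Let N be a normal subgroup of the finite group G and λ a character of N of degree 1 invariant under conjugation by G. Suppose that for every prime p dividing the order of λ (in the group of functions under pointwise multiplication) there is a subgroup H containing N, of index prime to p and with the index of N in H a power of p, together with a character of H of degree 1 restricting to λ. Then λ is the restriction of a character of G of degree 1. -/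
theorem result {G : Type*} [Group G] [Finite G] (N : Subgroup G) [hN : N.Normal] (lam : N → ℂ) (hlam : Cfsg.IsCharacter N lam ∧ lam 1 = 1) (hinv : ∀ (g : G) (n : N), lam ⟨g * n * g⁻¹, hN.conj_mem (n : G) n.2 g⟩ = lam n) (hsyl : ∀ p : ℕ, p.Prime → p ∣ orderOf lam → ∃ (H : Subgroup G) (hNH : N ≤ H) (ν : H → ℂ), Nat.Coprime H.index p ∧ (∃ k : ℕ, N.relIndex H = p ^ k) ∧ Cfsg.IsCharacter H ν ∧ ν 1 = 1 ∧ ∀ n : N, ν ⟨(n : G), hNH n.2⟩ = lam n) : ∃ μ : G → ℂ, Cfsg.IsCharacter G μ ∧ μ 1 = 1 ∧ ∀ n : N, μ n = lam n := by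
  classical
  obtain ⟨f, rfl⟩ := Cfsg.Agent.Char.exists_hom_of_degree_one hlam.1 hlam.2
  have hi : ∀ (g : G) (n : N), f (Cfsg.Agent.Char.conjHom N g n) = f n :=
    fun g n => Units.ext (hinv g n)
  let S : AddSubgroup ℤ :=
    { carrier := {m | ∃ μ : G →* ℂˣ, ∀ n : N, μ n = f n ^ m}
      zero_mem' := ⟨1, fun n => by simp⟩
      add_mem' := by
        rintro a b ⟨μ, h1⟩ ⟨μ', h2⟩
        exact ⟨μ * μ', fun n => by simp [h1, h2, zpow_add]⟩
      neg_mem' := by
        rintro a ⟨μ, h1⟩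
        exact ⟨μ⁻¹, fun n => by simp [h1]⟩ }
  have h1 : (1 : ℤ) ∈ S := by
    refine Cfsg.Agent.CharExtend.one_mem_of_forall_prime S fun p hp => ?_
    by_cases hpo : p ∣ orderOf f
    · obtain ⟨H, hNH, ν, hcop, -, hν, hν1, hνres⟩ :=
        hsyl p hp (by rw [Cfsg.Agent.CharExtend.orderOf_coe]; exact hpo)
      obtain ⟨ν', rfl⟩ := Cfsg.Agent.Char.exists_hom_of_degree_one hν hν1
      obtain ⟨μ, hμ, -⟩ := Cfsg.Agent.CharExtend.exists_transfer_linear f hi H hNH ν'
        (fun n => Units.ext (hνres n))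
      exact ⟨H.index, ⟨μ, fun n => by simp [hμ]⟩, fun h =>
        hp.ne_one (Nat.dvd_one.mp (hcop ▸ Nat.dvd_gcd (Int.natCast_dvd_natCast.mp h) dvd_rfl))⟩
    · exact ⟨orderOf f, ⟨1, fun n => by
        rw [zpow_natCast, ← MonoidHom.pow_apply, pow_orderOf_eq_one]; rfl⟩,
        fun h => hpo (Int.natCast_dvd_natCast.mp h)⟩
  obtain ⟨μ, hμ⟩ := h1
  exact ⟨fun g => (μ g : ℂ), Cfsg.Agent.Char.IsIrrCharacter.isCharacter
    (Cfsg.Agent.Char.isIrrCharacter_linear μ), by simp, fun n => by simp [hμ]⟩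


end Cfsg.Agent.S0864
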