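import Cfsg.Statements.S0868
import Cfsg.Agent.Lib.Char.Gallagher
-- import your own Cfsg.Agent.* helpers here

set_option autoImplicit false
open scoped ComplexConjugate
open Cfsg

namespace Cfsg.Agent.S0868

/-- Let N be a normal subgroup of the finite group G, χ an irreducible character of G whose restriction ϑ to N is irreducible, and ψ an irreducible character of G. Define η on G by η g = (1 / order of N) * Σ over n in N of ψ (n * g) * conj (χ (n * g)). Then: if the restriction of ψ to N has nonzero inner product with ϑ, η is an irreducible character of G; if that inner product is zero, η vanishes identically; and if ψ = χ then η is identically 1. -/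
theorem result {G : Type*} [Group G] [Fintype G] (N : Subgroup G) [N.Normal] [Fintype N] (χ : G → ℂ) (hχ : Cfsg.IsIrrCharacter G χ) (hχN : Cfsg.IsIrrCharacter N (fun n : N => χ n)) (ψ : G → ℂ) (hψ : Cfsg.IsIrrCharacter G ψ) (η : G → ℂ) (hη : η = fun g => (Nat.card N : ℂ)⁻¹ * ∑ n : N, ψ ((n : G) * g) * conj (χ ((n : G) * g))) : (Cfsg.classInner (fun n : N => ψ n) (fun n : N => χ n) ≠ 0 → Cfsg.IsIrrCharacter G η) ∧ (Cfsg.classInner (fun n : N => ψ n) (fun n : N => χ n) = 0 → η = 0) ∧ (ψ = χ → η = fun _ => 1) := by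
  classical
  have hχc := Cfsg.Agent.Char.IsIrrCharacter.isCharacter hχ
  have hψc := Cfsg.Agent.Char.IsIrrCharacter.isCharacter hψ
  have hχcl := Cfsg.Agent.Char.IsCharacter.isClassFunction hχc
  have hψcl := Cfsg.Agent.Char.IsCharacter.isClassFunction hψc
  subst hη
  obtain ⟨g1, g2, g3⟩ := Cfsg.Agent.Char.gallagher_one N hχc hχN
  have key : ∀ β₀ : Cfsg.IrrCharacter G, (∀ n : N, (β₀ : G → ℂ) n = (β₀ : G → ℂ) 1) →
      (β₀ : G → ℂ) * χ = ψ → Cfsg.Agent.Char.cosetAvg N ψ χ = β₀ := by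
    intro β₀ hβ₀ e
    refine Cfsg.Agent.Char.eq_of_forall_classInner
      (Cfsg.Agent.Char.isClassFunction_cosetAvg N hψcl hχcl)
      (Cfsg.Agent.Char.IsCharacter.isClassFunction
        (Cfsg.Agent.Char.IsIrrCharacter.isCharacter β₀.2)) fun β => ?_
    rw [Cfsg.Agent.Char.classInner_cosetAvg N hψcl hχcl β, Cfsg.Agent.Char.classInner_irr β₀.2 β.2]
    split_ifs with h h' h'
    · rw [← Subtype.ext h', e, Cfsg.Agent.Char.classInner_self_irr hψ]
    · refine Cfsg.Agent.Char.classInner_irr_of_ne hψ (g1 β h) fun hh => h' ?_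
      exact congrArg Subtype.val (g2 β₀ β hβ₀ h (e.trans hh))
    · rw [← Subtype.ext h'] at h
      exact absurd hβ₀ h
    · rfl
  refine ⟨fun hne => ?_, fun h0 => ?_, fun e => ?_⟩
  · obtain ⟨β, hβ, e⟩ := g3 ψ hψ hne
    show Cfsg.IsIrrCharacter G (Cfsg.Agent.Char.cosetAvg N ψ χ)
    rw [key β hβ e]
    exact β.2
  · refine Cfsg.Agent.Char.eq_zero_of_orthogonal
      (Cfsg.Agent.Char.isClassFunction_cosetAvg N hψcl hχcl) fun ξ hξ => ?_
    show Cfsg.classInner (Cfsg.Agent.Char.cosetAvg N ψ χ) ((⟨ξ, hξ⟩ : Cfsg.IrrCharacter G) : G → ℂ) = 0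
    rw [Cfsg.Agent.Char.classInner_cosetAvg N hψcl hχcl ⟨ξ, hξ⟩]
    split_ifs with h
    · refine Cfsg.Agent.Char.classInner_irr_of_ne hψ (g1 ⟨ξ, hξ⟩ h) fun hh => ?_
      have e1 : (fun n : N => ψ n) = ξ 1 • fun n : N => χ n := funext fun n => by
        rw [hh]
        show ξ n * χ n = ξ 1 * χ n
        rw [show ξ n = ξ 1 from h n]
      rw [e1, Cfsg.Agent.Char.classInner_smul_left, Cfsg.Agent.Char.classInner_self_irr hχN,
        mul_one] at h0
      exact Cfsg.Agent.Char.IsIrrCharacter.one_ne_zero hξ h0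
    · rfl
  · exact key (Cfsg.Agent.Char.principal G) (fun n => rfl) ((funext fun g => one_mul (χ g)).trans e.symm)


end Cfsg.Agent.S0868
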