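import Cfsg.Statements.S0875
import Cfsg.Agent.Lib.Char.PiPart
-- import your own Cfsg.Agent.* helpers here

set_option autoImplicit false
open Cfsg

namespace Cfsg.Agent.S0875

/-- Let G be a finite group of order m * n with m and n coprime, and g an element whose order is coprime to m. Every x in G factors uniquely as x = u * v with u, v commuting, the order of u coprime to n and the order of v coprime to m; let ϑ be the function on G equal to n at those x whose factor v is conjugate to g and equal to 0 elsewhere. Then ϑ is a linear combination of the irreducible characters of G with algebraic-integer coefficients. -/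
theorem result {G : Type*} [Group G] [Fintype G] (m n : ℕ) (hmn : Nat.card G = m * n) (hcop : Nat.Coprime m n) (g : G) (hg : Nat.Coprime (orderOf g) m) (ϑ : G → ℂ) (hϑ1 : ∀ x : G, (∃ v : G, IsConj v g ∧ (∃ u : G, x = u * v ∧ Commute u v ∧ Nat.Coprime (orderOf u) n ∧ Nat.Coprime (orderOf v) m)) → ϑ x = n) (hϑ0 : ∀ x : G, (¬ ∃ v : G, IsConj v g ∧ (∃ u : G, x = u * v ∧ Commute u v ∧ Nat.Coprime (orderOf u) n ∧ Nat.Coprime (orderOf v) m)) → ϑ x = 0) : ∃ c : Cfsg.IrrCharacter G → ℂ, (∀ χ, c χ ∈ Cfsg.AlgInt) ∧ ϑ = ∑ᶠ χ : Cfsg.IrrCharacter G, c χ • (χ : G → ℂ) := by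
  classical
  have hdvd : Nat.card G ∣ m * n := hmn ▸ dvd_rfl
  have hiff : ∀ x : G, (∃ v : G, IsConj v g ∧ (∃ u : G, x = u * v ∧ Commute u v ∧
      Nat.Coprime (orderOf u) n ∧ Nat.Coprime (orderOf v) m)) ↔
      IsConj (x ^ Cfsg.Agent.Char.hallExp hcop.symm) g := by
    intro x
    constructor
    · rintro ⟨v, hv, u, hx, hc, hu, hv'⟩
      rwa [Cfsg.Agent.Char.pow_hallExp_eq hcop.symm (hx.trans hc.eq) hc.symm
        (Cfsg.Agent.Char.pow_eq_one_of_coprime (by rwa [mul_comm]) hv')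
        (Cfsg.Agent.Char.pow_eq_one_of_coprime hdvd hu)]
    · intro h
      have hx : x ^ (m * n) = 1 := Cfsg.Agent.Char.pow_card_mul hdvd x
      have hx' : x ^ (n * m) = 1 := by rwa [mul_comm]
      exact ⟨_, h, x ^ Cfsg.Agent.Char.hallExp hcop, (Cfsg.Agent.Char.hallExp_mul hcop hx).symm,
        (Commute.refl x).pow_pow _ _,
        Cfsg.Agent.Char.coprime_order_of_pow hcop (Cfsg.Agent.Char.hallExp_pow_pow hcop hx),
        Cfsg.Agent.Char.coprime_order_of_pow hcop.symm
          (Cfsg.Agent.Char.hallExp_pow_pow hcop.symm hx')⟩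
  have hcl : Cfsg.IsClassFunction G ϑ := by
    intro a b
    have hc : IsConj ((b * a * b⁻¹) ^ Cfsg.Agent.Char.hallExp hcop.symm)
        (a ^ Cfsg.Agent.Char.hallExp hcop.symm) :=
      IsConj.symm (isConj_iff.mpr ⟨b, conj_pow.symm⟩)
    by_cases h : IsConj (a ^ Cfsg.Agent.Char.hallExp hcop.symm) g
    · rw [hϑ1 _ ((hiff a).mpr h), hϑ1 _ ((hiff _).mpr (hc.trans h))]
    · rw [hϑ0 _ (fun e => h ((hiff a).mp e)),
        hϑ0 _ (fun e => h ((IsConj.symm hc).trans ((hiff _).mp e)))]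
  refine ⟨fun χ => Cfsg.classInner ϑ χ, fun χ => (?_ : IsIntegral ℤ (Cfsg.classInner ϑ (χ : G → ℂ))), ?_⟩
  · exact Cfsg.Agent.Char.isIntegral_classInner_hallClass hmn hcop g ϑ
      (fun x h => hϑ1 x ((hiff x).mpr h)) (fun x h => hϑ0 x fun e => h ((hiff x).mp e))
      (Cfsg.Agent.Char.IsIrrCharacter.isCharacter χ.2)
  · rw [finsum_eq_sum_of_fintype]
    exact Cfsg.Agent.Char.classFunction_eq_sum hcl


end Cfsg.Agent.S0875
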