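import Cfsg.Statements.S0876
import Cfsg.Agent.Lib.Char.PiPart
import Cfsg.Agent.Lib.Blocks.Congr
-- import your own Cfsg.Agent.* helpers here

set_option autoImplicit false
open Cfsg

namespace Cfsg.Agent.S0876

/-- Let G be a finite group, p a prime and M a maximal ideal of the ring of algebraic integers containing p. Let x, y be elements with p-parts a and b (so a⁻¹ * x and b⁻¹ * y are their p-regular parts). Then a⁻¹ * x and b⁻¹ * y are conjugate in G if and only if, for every irreducible character χ, the difference χ x - χ y lies in the local ideal at M. -/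
theorem result {G : Type*} [Group G] [Finite G] (p : ℕ) (M : Ideal Cfsg.AlgInt) (hM : Cfsg.IsPModular p M) (x y a b : G) (ha : Cfsg.IsPPart p x a) (hb : Cfsg.IsPPart p y b) : IsConj (a⁻¹ * x) (b⁻¹ * y) ↔ ∀ χ : Cfsg.IrrCharacter G, Cfsg.MemLocalIdeal M ((χ : G → ℂ) x - (χ : G → ℂ) y) := by
  classical
  haveI : Fintype G := Fintype.ofFinite G
  haveI : M.IsPrime := hM.2.1.isPrime
  obtain ⟨xr, hx, hxc, ⟨kx, hkx⟩, hxr⟩ := ha
  obtain ⟨yr, hy, hyc, ⟨ky, hky⟩, hyr⟩ := hb
  subst hx hy
  rw [inv_mul_cancel_left, inv_mul_cancel_left]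
  have hreg : ∀ (χ : Cfsg.IrrCharacter G) {u v : G}, Commute u v → ∀ {k : ℕ}, orderOf u = p ^ k →
      ¬ p ∣ orderOf v → Cfsg.MemLocalIdeal M ((χ : G → ℂ) (u * v) - (χ : G → ℂ) v) :=
    fun χ _ _ hc _ hu hv => Cfsg.Agent.Blocks.char_congr_regular hM
      (Cfsg.Agent.Char.IsIrrCharacter.isCharacter χ.2) hc hu hv
  constructor
  · intro hconj χ
    have e : (χ : G → ℂ) xr = (χ : G → ℂ) yr := Cfsg.Agent.Char.isClassFunction_iff.mp
      (Cfsg.Agent.Char.IsCharacter.isClassFunction (Cfsg.Agent.Char.IsIrrCharacter.isCharacter χ.2))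
      _ _ hconj
    have := Cfsg.Agent.Blocks.MemLocalIdeal.sub (hreg χ hxc hkx hxr) (hreg χ hyc hky hyr)
    rw [e] at this
    simpa using this
  · intro h
    by_contra hne
    set a' := (Nat.card G).factorization p
    set n := Nat.card G / p ^ a'
    have hmn : Nat.card G = p ^ a' * n := (Nat.ordProj_mul_ordCompl_eq_self _ p).symm
    have hcop : Nat.Coprime (p ^ a') n := (Nat.coprime_ordCompl hM.1 Nat.card_pos.ne').pow_left _
    have hpn : ¬ p ∣ n := Nat.not_dvd_ordCompl hM.1 Nat.card_pos.ne'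
    have hdvd : Nat.card G ∣ p ^ a' * n := hmn ▸ dvd_rfl
    have hpart : ∀ {u v : G}, Commute u v → (∀ {k : ℕ}, orderOf u = p ^ k → ¬ p ∣ orderOf v →
        (u * v) ^ Cfsg.Agent.Char.hallExp hcop.symm = v) := by
      intro u v hc k hu hv
      refine Cfsg.Agent.Char.pow_hallExp_eq hcop.symm hc.eq hc.symm
        (Cfsg.Agent.Char.pow_eq_one_of_coprime (by rwa [mul_comm])
          ((hM.1.coprime_iff_not_dvd.mpr hv).symm.pow_right _))
        (Cfsg.Agent.Char.pow_eq_one_of_coprime hdvd ?_)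
      rw [hu]
      exact (hM.1.coprime_iff_not_dvd.mpr hpn).pow_left _
    let θ : G → ℂ := fun z => if IsConj (z ^ Cfsg.Agent.Char.hallExp hcop.symm) xr then (n : ℂ) else 0
    have hcl : Cfsg.IsClassFunction G θ := by
      intro s t
      have hc : IsConj ((t * s * t⁻¹) ^ Cfsg.Agent.Char.hallExp hcop.symm)
          (s ^ Cfsg.Agent.Char.hallExp hcop.symm) :=
        IsConj.symm (isConj_iff.mpr ⟨t, conj_pow.symm⟩)
      exact if_congr ⟨fun e => (IsConj.symm hc).trans e, fun e => hc.trans e⟩ rfl rfl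
    have hdec := Cfsg.Agent.Char.classFunction_eq_sum hcl
    have hdiff : Cfsg.MemLocalIdeal M (θ (a * xr) - θ (b * yr)) := by
      have e : θ (a * xr) - θ (b * yr) = ∑ χ : Cfsg.IrrCharacter G,
          Cfsg.classInner θ χ * ((χ : G → ℂ) (a * xr) - (χ : G → ℂ) (b * yr)) := by
        conv_lhs => rw [hdec]
        simp only [Finset.sum_apply, Pi.smul_apply, smul_eq_mul, ← Finset.sum_sub_distrib, mul_sub]
      rw [e]
      refine Cfsg.Agent.Blocks.memLocalIdeal_sum _ _ fun χ _ => ?_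
      exact Cfsg.Agent.Blocks.MemLocalIdeal.mul_left (Cfsg.Agent.Blocks.mem_locRing_of_isIntegral
        (Cfsg.Agent.Char.isIntegral_classInner_hallClass hmn hcop xr θ (fun z hz => if_pos hz)
          (fun z hz => if_neg hz) (Cfsg.Agent.Char.IsIrrCharacter.isCharacter χ.2))) (h χ)
    have e1 : θ (a * xr) = n := if_pos (by rw [hpart hxc hkx hxr])
    have e2 : θ (b * yr) = 0 := if_neg (by rw [hpart hyc hky hyr]; exact fun e => hne (IsConj.symm e))
    rw [e1, e2, sub_zero, show (n : ℂ) = ((n : Cfsg.AlgInt) : ℂ) by simp,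
      Cfsg.Agent.Blocks.memLocalIdeal_coe_iff,
      Cfsg.Agent.Blocks.IsPModular.natCast_mem_iff hM] at hdiff
    exact hpn hdiff


end Cfsg.Agent.S0876
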