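import Cfsg.Statements.S0877
import Cfsg.Agent.Lib.Char.PiPart
-- import your own Cfsg.Agent.* helpers here

set_option autoImplicit false
open Cfsg

namespace Cfsg.Agent.S0877

/-- Let H be a subgroup of the finite group G whose order is coprime to its index. Suppose that elements of H conjugate in G are conjugate in H, and that every subgroup E of G that is elementary for some prime (in the sense used for Brauer's characterisation of characters) and whose order divides the order of H is conjugate to a subgroup of H. Then there is a normal subgroup K with K ⊔ H = ⊤ and K ⊓ H trivial. -/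
theorem result {G : Type*} [Group G] [Finite G] (H : Subgroup G) (hHall : Nat.Coprime (Nat.card H) H.index) (hfus : ∀ x ∈ H, ∀ y ∈ H, IsConj x y → ∃ h ∈ H, h * x * h⁻¹ = y) (helem : ∀ (E : Subgroup G) (p : ℕ), p.Prime → Cfsg.IsElementary p E → Nat.card E ∣ Nat.card H → ∃ g : G, E.map (MulAut.conj g).toMonoidHom ≤ H) : ∃ K : Subgroup G, K.Normal ∧ K ⊔ H = ⊤ ∧ K ⊓ H = ⊥ := by
  classical
  haveI : Fintype G := Fintype.ofFinite G
  haveI : Fintype H := Fintype.ofFinite H
  set m := Nat.card H with hm
  set n := H.index with hn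
  have hmn : Nat.card G = m * n := (Subgroup.card_mul_index H).symm
  have hdvd : Nat.card G ∣ m * n := hmn ▸ dvd_rfl
  set P : G → G := fun x => x ^ Cfsg.Agent.Char.hallExp hHall with hP
  have hPm : ∀ x, P x ^ m = 1 := fun x =>
    Cfsg.Agent.Char.hallExp_pow_pow hHall (Cfsg.Agent.Char.pow_card_mul hdvd x)
  have hPconj : ∀ x g, P (g * x * g⁻¹) = g * P x * g⁻¹ := fun x g => conj_pow
  have hPH : ∀ h : H, P h = h := fun h =>
    Cfsg.Agent.Char.pow_hallExp_of_dvd hHall
      (by rw [hm, ← SubgroupClass.coe_pow, pow_card_eq_one', OneMemClass.coe_one])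
  -- every `m`-element is conjugate into `H`
  have hinto : ∀ u : G, u ^ m = 1 → ∃ g : G, g * u * g⁻¹ ∈ H := by
    intro u hu
    obtain ⟨q, hqle, hq⟩ := Nat.exists_infinite_primes (Nat.card G + 1)
    have hqu : Nat.Coprime (orderOf u) q := by
      refine (hq.coprime_iff_not_dvd.mpr fun h => ?_).symm
      have := Nat.le_of_dvd Nat.card_pos (h.trans (orderOf_dvd_natCard u))
      omega
    have hEl : Cfsg.IsElementary q (Subgroup.zpowers u) := by
      refine ⟨⟨u, Subgroup.mem_zpowers u⟩, Subgroup.mem_center_iff.mpr fun y => ?_,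
        by rwa [← orderOf_injective _ (Subgroup.subtype_injective _)], 0, ?_⟩
      · obtain ⟨j, hj⟩ := Subgroup.mem_zpowers_iff.mp y.2
        apply Subtype.ext
        show (y : G) * u = u * y
        rw [← hj, (Commute.zpow_self u j).eq]
      · rw [pow_zero, Subgroup.index_eq_one, eq_top_iff]
        intro y _
        obtain ⟨j, hj⟩ := Subgroup.mem_zpowers_iff.mp y.2
        exact Subgroup.mem_zpowers_iff.mpr ⟨j, Subtype.ext hj⟩
    obtain ⟨g, hg⟩ := helem _ q hq hEl
      (by rw [Nat.card_zpowers]; exact orderOf_dvd_of_pow_eq_one hu)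
    exact ⟨g, hg ⟨u, Subgroup.mem_zpowers u, rfl⟩⟩
  choose c hc using fun x => hinto (P x) (hPm x)
  -- extending class functions of `H`
  let ext : (H → ℂ) → G → ℂ := fun φ x => φ ⟨c x * P x * (c x)⁻¹, hc x⟩
  have hext : ∀ (φ : H → ℂ), Cfsg.IsClassFunction H φ → ∀ (x g : G) (hg : g * P x * g⁻¹ ∈ H),
      ext φ x = φ ⟨g * P x * g⁻¹, hg⟩ := by
    intro φ hφ x g hg
    obtain ⟨k, hk, e⟩ := hfus _ hg _ (hc x) (isConj_iff.mpr ⟨c x * g⁻¹, by group⟩)
    show φ _ = _
    rw [← hφ ⟨g * P x * g⁻¹, hg⟩ ⟨k, hk⟩]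
    exact congrArg φ (Subtype.ext e.symm)
  have hextcl : ∀ φ, Cfsg.IsClassFunction H φ → Cfsg.IsClassFunction G (ext φ) := by
    intro φ hφ x g
    have e : c x * P x * (c x)⁻¹ = (c x * g⁻¹) * P (g * x * g⁻¹) * (c x * g⁻¹)⁻¹ := by
      rw [hPconj]; group
    rw [hext φ hφ (g * x * g⁻¹) (c x * g⁻¹) (e ▸ hc x)]
    exact congrArg φ (Subtype.ext e.symm)
  have hgen : ∀ φ, Cfsg.IsCharacter H φ → Cfsg.IsGeneralizedCharacter G (ext φ) := by
    intro φ hφ
    refine Cfsg.Agent.Char.isGeneralizedCharacter_of_elementary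
      (hextcl φ (Cfsg.Agent.Char.IsCharacter.isClassFunction hφ)) fun E q hq hE => ?_
    have hdvdE : Nat.card E ∣ m * n := hmn ▸ Subgroup.card_subgroup_dvd_card E
    set π := Cfsg.Agent.Char.hallHom hq hE hHall hdvdE with hπ
    let U := π.range.map E.subtype
    let e := π.range.equivMapOfInjective E.subtype E.subtype_injective
    obtain ⟨g, hg⟩ := helem U q hq (Cfsg.Agent.Char.isElementary_of_injective hq
      (π.range.subtype.comp e.symm.toMonoidHom)
      (π.range.subtype_injective.comp e.symm.injective) hE)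
      (by rw [← Nat.card_congr e.toEquiv]; exact Cfsg.Agent.Char.card_range_hallHom_dvd hq hE hHall hdvdE)
    let F : E →* H := ((MulAut.conj g).toMonoidHom.comp (E.subtype.comp π)).codRestrict H fun y =>
      hg ⟨_, ⟨π y, ⟨y, rfl⟩, rfl⟩, rfl⟩
    refine Cfsg.Agent.Char.IsGeneralizedCharacter.of_isCharacter ?_
    convert Cfsg.Agent.Char.IsCharacter.comp hφ F using 1
    funext y
    rw [hext φ (Cfsg.Agent.Char.IsCharacter.isClassFunction hφ) (y : G) g (F y).2]
    rfl
  -- the centraliser of an element of `H`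
  have hfib : ∀ u : H, ∃ i k : ℕ, Nat.card (Subgroup.centralizer ({(u : G)} : Set G)) =
      Nat.card (H ⊓ Subgroup.centralizer ({(u : G)} : Set G) : Subgroup G) * i ∧ 0 < k ∧
      Nat.card {x : G // P x = u} = k * i := by
    intro u
    set C := Subgroup.centralizer ({(u : G)} : Set G) with hC
    set D := H ⊓ C with hD
    have hcardC : Nat.card C = Nat.card D * (D.subgroupOf C).index := by
      rw [← Nat.card_congr (Subgroup.subgroupOfEquivOfLe (inf_le_right : D ≤ C)).toEquiv,
        Subgroup.card_mul_index]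
    set i := (D.subgroupOf C).index
    have hcop : Nat.Coprime i m := by
      refine Nat.coprime_of_dvd' fun p hp hpi hpm => ?_
      exfalso
      haveI := Fact.mk hp
      obtain ⟨Q⟩ : Nonempty (Sylow p C) := inferInstance
      set Q' := (Q : Subgroup C).map C.subtype with hQ'
      have hcardQ : Nat.card Q' = p ^ (Nat.card C).factorization p := by
        rw [← Nat.card_congr ((Q : Subgroup C).equivMapOfInjective C.subtype C.subtype_injective).toEquiv,
          Q.card_eq_multiplicity]
      set s := (orderOf (u : G)).factorization p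
      set x := (u : G) ^ p ^ s with hx
      have hord0 : orderOf (u : G) ≠ 0 := (orderOf_pos _).ne'
      have hordx : Nat.Coprime (orderOf x) p := by
        rw [hx, orderOf_pow_of_dvd (pow_ne_zero _ hp.ne_zero) (Nat.ordProj_dvd _ p)]
        exact (Nat.coprime_ordCompl hp hord0).symm
      have hcomm : ∀ y ∈ C, Commute x y := fun y hy =>
        (show Commute y (u : G) from Subgroup.mem_centralizer_singleton_iff.mp hy).symm.pow_left _
      set E := Subgroup.zpowers x ⊔ Q' with hE
      have hQC : Q' ≤ C := Subgroup.map_subtype_le _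
      have hxC : x ∈ C := by
        rw [hC, Subgroup.mem_centralizer_singleton_iff]
        exact (Commute.pow_self (u : G) _).eq
      have hEC : E ≤ C := sup_le (Subgroup.zpowers_le.mpr hxC) hQC
      have hxE : x ∈ E := (le_sup_left : Subgroup.zpowers x ≤ E) (Subgroup.mem_zpowers x)
      haveI : ((Subgroup.zpowers x).subgroupOf E).Normal := ⟨fun y hy g => by
        rw [Subgroup.mem_subgroupOf] at hy ⊢
        obtain ⟨j, hj⟩ := Subgroup.mem_zpowers_iff.mp hy
        have : (g : G) * (y : G) * (g : G)⁻¹ = y := by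
          rw [← hj, ← ((hcomm g (hEC g.2)).zpow_left j).eq, mul_inv_cancel_right]
        rw [Subgroup.coe_mul, Subgroup.coe_mul, InvMemClass.coe_inv, this]
        exact hy⟩
      have hcardE : Nat.card E = orderOf x * p ^ (Nat.card C).factorization p := by
        have h1 := Subgroup.card_mul_index ((Subgroup.zpowers x).subgroupOf E)
        rw [Nat.card_congr (Subgroup.subgroupOfEquivOfLe (le_sup_left : Subgroup.zpowers x ≤ E)).toEquiv,
          Nat.card_zpowers] at h1
        rw [← h1]
        congr 1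
        have hinf : (Subgroup.zpowers x).subgroupOf E ⊓ Q'.subgroupOf E = ⊥ := by
          refine eq_bot_iff.mpr fun y hy => ?_
          have hy' : (y : G) ∈ Subgroup.zpowers x ⊓ Q' := ⟨hy.1, hy.2⟩
          rw [Subgroup.inf_eq_bot_of_coprime (by
            rw [hcardQ, Nat.card_zpowers]; exact hordx.pow_right _), Subgroup.mem_bot] at hy'
          exact Subgroup.mem_bot.mpr (Subtype.ext hy')
        have htop : (Subgroup.zpowers x).subgroupOf E ⊔ Q'.subgroupOf E = ⊤ := by
          rw [← Subgroup.subgroupOf_sup (le_sup_left : Subgroup.zpowers x ≤ E) (le_sup_right : Q' ≤ E)]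
          exact Subgroup.subgroupOf_self E
        rw [← Subgroup.relIndex_top_right, ← htop, sup_comm, Subgroup.relIndex_sup_right,
          ← Subgroup.inf_relIndex_right, hinf, Subgroup.relIndex_bot_left,
          Nat.card_congr (Subgroup.subgroupOfEquivOfLe (le_sup_right : Q' ≤ E)).toEquiv, hcardQ]
      have hEl : Cfsg.IsElementary p E := by
        refine ⟨⟨x, hxE⟩, Subgroup.mem_center_iff.mpr fun y => Subtype.ext (hcomm y (hEC y.2)).eq.symm,
          by rwa [← orderOf_injective _ (Subgroup.subtype_injective _)],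
          (Nat.card C).factorization p, ?_⟩
        have h1 := Subgroup.card_mul_index (Subgroup.zpowers (⟨x, hxE⟩ : E))
        rw [Nat.card_zpowers, ← orderOf_injective _ (Subgroup.subtype_injective _), hcardE] at h1
        exact mul_left_cancel₀ (orderOf_pos x).ne' h1
      have hdiv : Nat.card E ∣ m := by
        rw [hcardE]
        refine Nat.Coprime.mul_dvd_of_dvd_of_dvd (hordx.pow_right _) ?_ ?_
        · refine (orderOf_pow_dvd _).trans ?_
          rw [show orderOf (u : G) = orderOf u from orderOf_injective H.subtype H.subtype_injective u]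
          exact orderOf_dvd_natCard u
        · refine Nat.Coprime.dvd_of_dvd_mul_right ((hHall.coprime_dvd_left hpm).pow_left _) ?_
          rw [← hmn]
          exact (Nat.ordProj_dvd _ p).trans (Subgroup.card_subgroup_dvd_card C)
      obtain ⟨g, hg⟩ := helem E p hp hEl hdiv
      have hQE : Q' ≤ E := le_sup_right
      -- move the conjugate back into the centraliser
      obtain ⟨v, hv⟩ : ∃ v : G, v * (u : G) * v⁻¹ = u ∧ ∀ y ∈ Q', v * y * v⁻¹ ∈ H := by
        have huQ : g * (u : G) * g⁻¹ ∈ H := by
          have hu_mem : (u : G) ∈ E := by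
            set w := (⟨(u : G), Subgroup.mem_centralizer_singleton_iff.mpr rfl⟩ : C) with hw
            set r := orderOf (u : G) / p ^ s
            have hur : ((u : G) ^ r) ^ p ^ s = 1 := by
              rw [← pow_mul, mul_comm, Nat.ordProj_mul_ordCompl_eq_self, pow_orderOf_eq_one]
            have hwr : w ^ r ∈ (Q : Subgroup C) := by
              have hz : Subgroup.zpowers (w ^ r) ≤ (Q : Subgroup C) := by
                haveI : (Subgroup.zpowers (w ^ r)).Normal := ⟨fun y hy t => by
                  obtain ⟨j, rfl⟩ := Subgroup.mem_zpowers_iff.mp hy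
                  have ht : Commute t w := Subtype.ext (Subgroup.mem_centralizer_singleton_iff.mp t.2)
                  rw [((ht.pow_right r).zpow_right j).eq, mul_inv_cancel_right]
                  exact zpow_mem (Subgroup.mem_zpowers _) j⟩
                have hpg : IsPGroup p (Subgroup.zpowers (w ^ r)) := by
                  obtain ⟨j, -, hj⟩ := (Nat.dvd_prime_pow hp).mp (orderOf_dvd_of_pow_eq_one hur)
                  refine IsPGroup.of_card (n := j) ?_
                  rw [Nat.card_zpowers, ← orderOf_injective C.subtype C.subtype_injective]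
                  exact hj
                obtain ⟨S, hS⟩ := hpg.exists_le_sylow
                obtain ⟨t, ht⟩ := MulAction.exists_smul_eq C S Q
                intro y hy
                rw [← ht]
                refine ⟨t⁻¹ * y * t, hS ?_, by simp [mul_assoc]⟩
                simpa using Subgroup.Normal.conj_mem ‹_› y hy t⁻¹
              exact hz (Subgroup.mem_zpowers _)
            obtain ⟨α, β, hαβ⟩ : ∃ α β : ℤ, (1 : ℤ) = (p ^ s : ℕ) * α + (r : ℤ) * β :=
              ⟨_, _, by
                rw [← Nat.gcd_eq_gcd_ab, ((Nat.coprime_ordCompl hp hord0).pow_left s).gcd_eq_one]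
                rfl⟩
            have e : (u : G) = x ^ α * ((u : G) ^ r) ^ β := by
              rw [hx, ← zpow_natCast, ← zpow_natCast (u : G) r, ← zpow_mul, ← zpow_mul, ← zpow_add,
                ← hαβ, zpow_one]
            rw [e]
            refine E.mul_mem (E.zpow_mem hxE _) (E.zpow_mem (hQE ?_) _)
            exact ⟨w ^ r, hwr, rfl⟩
          exact hg ⟨u, hu_mem, rfl⟩
        obtain ⟨k, hk, ek⟩ := hfus _ huQ _ u.2 (isConj_iff.mpr ⟨g⁻¹, by group⟩)
        refine ⟨k * g, ?_, fun y hy => ?_⟩
        · rw [mul_inv_rev]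
          conv_rhs => rw [← ek]
          group
        rw [show k * g * y * (k * g)⁻¹ = k * (g * y * g⁻¹) * k⁻¹ by group]
        exact H.mul_mem (H.mul_mem hk (hg ⟨y, hQE hy, rfl⟩)) (H.inv_mem hk)
      have hvC : v ∈ C := by
        rw [hC, Subgroup.mem_centralizer_singleton_iff]
        exact mul_inv_eq_iff_eq_mul.mp hv.1
      have hsub : Q'.map (MulAut.conj v).toMonoidHom ≤ D := by
        rintro _ ⟨y, hy, rfl⟩
        exact ⟨hv.2 y hy, C.mul_mem (C.mul_mem hvC (hQC hy)) (C.inv_mem hvC)⟩
      have h5 : p ^ (Nat.card C).factorization p ∣ Nat.card D := by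
        rw [← hcardQ, Nat.card_congr (Q'.equivMapOfInjective (MulAut.conj v).toMonoidHom
          (MulAut.conj v).injective).toEquiv]
        exact Subgroup.card_dvd_of_le hsub
      refine Nat.pow_succ_factorization_not_dvd (n := Nat.card C) Nat.card_pos.ne' hp ?_
      rw [pow_succ, hcardC]
      exact mul_dvd_mul (hcardC ▸ h5) hpi
    have hDm : Nat.card D ∣ m := Subgroup.card_dvd_of_le inf_le_left
    have hin : i ∣ n := by
      refine hcop.dvd_of_dvd_mul_left ?_
      rw [← hmn]
      exact (Dvd.intro_left _ hcardC.symm).trans (Subgroup.card_subgroup_dvd_card C)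
    have hcnt : i ∣ Nat.card {y : C // y ^ i = 1} :=
      Cfsg.Agent.Char.dvd_card_pow_eq_one (by rw [hcardC, mul_comm]) (hcop.coprime_dvd_right hDm)
    obtain ⟨k, hk⟩ := hcnt
    have hk0 : 0 < k := by
      refine Nat.pos_of_ne_zero fun h0 => ?_
      rw [h0, mul_zero] at hk
      exact (Nat.card_ne_zero.mpr ⟨⟨⟨1, one_pow i⟩⟩, inferInstance⟩) hk
    refine ⟨i, k, hcardC, hk0, ?_⟩
    rw [mul_comm, ← hk]
    have hum : (u : G) ^ m = 1 := by rw [← hPH u]; exact hPm u
    have hc2 : ∀ (y z : G), P y = z → y ^ Cfsg.Agent.Char.hallExp hHall.symm * z =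
        z * y ^ Cfsg.Agent.Char.hallExp hHall.symm := by
      rintro y z rfl
      exact ((Commute.refl y).pow_pow _ _).eq
    refine Nat.card_congr
      { toFun := fun x => ⟨⟨(x : G) ^ Cfsg.Agent.Char.hallExp hHall.symm, ?_⟩, ?_⟩
        invFun := fun y => ⟨(u : G) * ((y : C) : G), ?_⟩
        left_inv := fun x => ?_
        right_inv := fun y => ?_ }
    · rw [hC, Subgroup.mem_centralizer_singleton_iff]
      exact hc2 _ _ x.2
    · have h1 : ((x : G) ^ Cfsg.Agent.Char.hallExp hHall.symm) ^ n = 1 :=
        Cfsg.Agent.Char.hallExp_pow_pow hHall.symm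
          (Cfsg.Agent.Char.pow_card_mul (by rwa [mul_comm]) (x : G))
      apply Subtype.ext
      rw [SubgroupClass.coe_pow, OneMemClass.coe_one]
      have h2 : orderOf ((x : G) ^ Cfsg.Agent.Char.hallExp hHall.symm) ∣ i := by
        refine Nat.Coprime.dvd_of_dvd_mul_left ((hHall.symm.coprime_dvd_right hDm).coprime_dvd_left
          (orderOf_dvd_of_pow_eq_one h1)) ?_
        rw [← hcardC]
        refine Subgroup.orderOf_dvd_natCard C ?_
        rw [hC, Subgroup.mem_centralizer_singleton_iff]
        exact hc2 _ _ x.2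
      exact orderOf_dvd_iff_pow_eq_one.mp h2
    · show P _ = u
      refine Cfsg.Agent.Char.pow_hallExp_eq hHall rfl
        (show Commute (u : G) _ from (Subgroup.mem_centralizer_singleton_iff.mp (y : C).2).symm) hum ?_
      refine orderOf_dvd_iff_pow_eq_one.mp ((orderOf_dvd_of_pow_eq_one ?_).trans hin)
      rw [← SubgroupClass.coe_pow, y.2, OneMemClass.coe_one]
    · apply Subtype.ext
      exact (congrArg (fun z : G => z * (x : G) ^ Cfsg.Agent.Char.hallExp hHall.symm) x.2.symm).trans
        (Cfsg.Agent.Char.hallExp_mul hHall (Cfsg.Agent.Char.pow_card_mul hdvd _))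
    · apply Subtype.ext
      apply Subtype.ext
      show ((u : G) * ((y : C) : G)) ^ Cfsg.Agent.Char.hallExp hHall.symm = ((y : C) : G)
      have hyu : Commute ((y : C) : G) (u : G) := Subgroup.mem_centralizer_singleton_iff.mp (y : C).2
      refine Cfsg.Agent.Char.pow_hallExp_eq hHall.symm hyu.symm.eq hyu ?_ hum
      refine orderOf_dvd_iff_pow_eq_one.mp ((orderOf_dvd_of_pow_eq_one ?_).trans hin)
      rw [← SubgroupClass.coe_pow, y.2, OneMemClass.coe_one]
  choose i k hC hk0 hfibc using hfib
  have hi0 : ∀ u, (i u : ℂ) ≠ 0 := fun u => Nat.cast_ne_zero.mpr fun h => by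
    have := hC u; rw [h, mul_zero] at this; exact Nat.card_pos.ne' this
  -- summing over `G`
  have hsum : ∀ φ : H → ℂ, Cfsg.IsClassFunction H φ →
      ∑ x : G, ext φ x = (n : ℂ) * ∑ u : H, φ u * k u := by
    intro φ hφ
    have hDcard : ∀ u : H, Nat.card (H ⊓ Subgroup.centralizer ({(u : G)} : Set G) : Subgroup G) * i u =
        Nat.card (Subgroup.centralizer ({(u : G)} : Set G)) := fun u => (hC u).symm
    -- conjugate elements of `H` have equal weights
    have hiinv : ∀ u v : H, IsConj (u : G) (v : G) → i u = i v := by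
      intro u v huv
      obtain ⟨h, hh, e⟩ := hfus _ u.2 _ v.2 huv
      obtain ⟨v, hv'⟩ := v
      simp only at e
      subst e
      have hmem : ∀ y : G, y ∈ Subgroup.centralizer ({(u : G)} : Set G) ↔
          h * y * h⁻¹ ∈ Subgroup.centralizer ({h * (u : G) * h⁻¹} : Set G) := fun y => by
        rw [Subgroup.mem_centralizer_singleton_iff, Subgroup.mem_centralizer_singleton_iff]
        constructor
        · intro e
          calc h * y * h⁻¹ * (h * ↑u * h⁻¹) = h * (y * ↑u) * h⁻¹ := by group
            _ = h * ↑u * h⁻¹ * (h * y * h⁻¹) := by rw [e]; group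
        · intro e
          calc y * ↑u = h⁻¹ * (h * y * h⁻¹ * (h * ↑u * h⁻¹)) * h := by group
            _ = ↑u * y := by rw [e]; group
      have hH : ∀ y : G, y ∈ H ↔ h * y * h⁻¹ ∈ H := fun y =>
        ⟨fun hy => H.mul_mem (H.mul_mem hh hy) (H.inv_mem hh), fun hy => by
          simpa [mul_assoc] using H.mul_mem (H.mul_mem (H.inv_mem hh) hy) hh⟩
      have a1 : Nat.card (H ⊓ Subgroup.centralizer ({(u : G)} : Set G) : Subgroup G) =
          Nat.card (H ⊓ Subgroup.centralizer ({h * (u : G) * h⁻¹} : Set G) : Subgroup G) :=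
        Nat.card_congr ((MulAut.conj h).toEquiv.subtypeEquiv fun y => by
          exact and_congr (hH y) (hmem y))
      have a2 : Nat.card (Subgroup.centralizer ({(u : G)} : Set G)) =
          Nat.card (Subgroup.centralizer ({h * (u : G) * h⁻¹} : Set G)) :=
        Nat.card_congr ((MulAut.conj h).toEquiv.subtypeEquiv fun y => by
          exact hmem y)
      have e1 := hC u
      have e2 := hC ⟨h * (u : G) * h⁻¹, hv'⟩
      rw [← a1, ← a2, e1] at e2
      exact mul_left_cancel₀ Nat.card_pos.ne' e2
    let w : G → ℂ := fun x => φ ⟨c x * P x * (c x)⁻¹, hc x⟩ / (i ⟨c x * P x * (c x)⁻¹, hc x⟩ : ℂ)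
    have hw : ∀ (x g : G) (hg : g * P x * g⁻¹ ∈ H),
        w x = φ ⟨g * P x * g⁻¹, hg⟩ / (i ⟨g * P x * g⁻¹, hg⟩ : ℂ) := by
      intro x g hg
      show φ _ / _ = _
      rw [hiinv ⟨c x * P x * (c x)⁻¹, hc x⟩ ⟨g * P x * g⁻¹, hg⟩
        (isConj_iff.mpr ⟨g * (c x)⁻¹, by group⟩)]
      congr 1
      exact hext φ hφ x g hg
    have hA : ∑ x : G, ∑ g : G, (if g * P x * g⁻¹ ∈ H then w x else 0) = (m : ℂ) * ∑ x : G, ext φ x := by
      rw [Finset.mul_sum]
      refine Finset.sum_congr rfl fun x _ => ?_
      rw [← Finset.sum_filter, Finset.sum_const, nsmul_eq_mul]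
      have hcnt : (Finset.univ.filter fun g : G => g * P x * g⁻¹ ∈ H).card =
          m * i ⟨c x * P x * (c x)⁻¹, hc x⟩ := by
        set u : H := ⟨c x * P x * (c x)⁻¹, hc x⟩ with hu
        have e : (Finset.univ.filter fun g : G => g * P x * g⁻¹ ∈ H).card =
            Nat.card {g : G // g * (u : G) * g⁻¹ ∈ H} := by
          rw [← Fintype.card_subtype, ← Nat.card_eq_fintype_card]
          refine Nat.card_congr ((Equiv.mulRight (c x)⁻¹).subtypeEquiv fun g => ?_)
          simp [hu, mul_assoc]
        -- these are the elements of the product of `H` with the centraliser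
        have hprod : Nat.card (H × Subgroup.centralizer ({(u : G)} : Set G)) =
            Nat.card {g : G // g * (u : G) * g⁻¹ ∈ H} *
              Nat.card (H ⊓ Subgroup.centralizer ({(u : G)} : Set G) : Subgroup G) := by
          let F : H × Subgroup.centralizer ({(u : G)} : Set G) → {g : G // g * (u : G) * g⁻¹ ∈ H} :=
            fun q => ⟨(q.1 : G) * q.2, by
              rw [mul_inv_rev, show (q.1 : G) * q.2 * u * ((q.2 : G)⁻¹ * (q.1 : G)⁻¹) =
                (q.1 : G) * (q.2 * u) * (q.2 : G)⁻¹ * (q.1 : G)⁻¹ by group,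
                Subgroup.mem_centralizer_singleton_iff.mp q.2.2, ← mul_assoc (q.1 : G),
                mul_inv_cancel_right]
              exact H.mul_mem (H.mul_mem q.1.2 u.2) (H.inv_mem q.1.2)⟩
          have hFs : ∀ g, ∃ q, F q = g := by
            intro g
            obtain ⟨h, hh, e⟩ := hfus _ u.2 _ g.2 (isConj_iff.mpr ⟨g, rfl⟩)
            refine ⟨(⟨h, hh⟩, ⟨h⁻¹ * g, ?_⟩), Subtype.ext (mul_inv_cancel_left h (g : G))⟩
            rw [Subgroup.mem_centralizer_singleton_iff]
            calc h⁻¹ * (g : G) * u = h⁻¹ * ((g : G) * u * (g : G)⁻¹) * g := by group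
              _ = h⁻¹ * (h * (u : G) * h⁻¹) * g := by rw [e]
              _ = u * (h⁻¹ * g) := by group
          choose q hq using hFs
          have hfibre : ∀ g, Nat.card {p // F p = g} =
              Nat.card (H ⊓ Subgroup.centralizer ({(u : G)} : Set G) : Subgroup G) := by
            intro g
            have hq' : ((q g).1 : G) * (q g).2 = g := congrArg Subtype.val (hq g)
            refine Nat.card_congr
              { toFun := fun p => ⟨((q g).1 : G)⁻¹ * (p.1.1 : G), ?_, ?_⟩
                invFun := fun d => ⟨(⟨((q g).1 : G) * d, H.mul_mem (q g).1.2 d.2.1⟩,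
                  ⟨(d : G)⁻¹ * (q g).2, Subgroup.mul_mem _ (Subgroup.inv_mem _ d.2.2) (q g).2.2⟩), ?_⟩
                left_inv := fun p => ?_
                right_inv := fun d => Subtype.ext (by simp) }
            · exact H.mul_mem (H.inv_mem (q g).1.2) p.1.1.2
            · have hp' : (p.1.1 : G) * p.1.2 = g := congrArg Subtype.val p.2
              rw [show ((q g).1 : G)⁻¹ * (p.1.1 : G) = ((q g).2 : G) * (p.1.2 : G)⁻¹ by
                rw [inv_mul_eq_iff_eq_mul, ← mul_assoc, hq', eq_mul_inv_iff_mul_eq, hp']]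
              exact Subgroup.mul_mem _ (q g).2.2 (Subgroup.inv_mem _ p.1.2.2)
            · apply Subtype.ext
              show ((q g).1 : G) * d * ((d : G)⁻¹ * (q g).2) = g
              rw [mul_assoc, mul_inv_cancel_left, hq']
            · have hp' : (p.1.1 : G) * p.1.2 = g := congrArg Subtype.val p.2
              refine Subtype.ext (Prod.ext (Subtype.ext (by simp)) (Subtype.ext ?_))
              show (((q g).1 : G)⁻¹ * (p.1.1 : G))⁻¹ * (q g).2 = p.1.2
              rw [mul_inv_rev, inv_inv, mul_assoc, hq', inv_mul_eq_iff_eq_mul, hp']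
          rw [← Nat.card_congr (Equiv.sigmaFiberEquiv F), Nat.card_sigma,
            Finset.sum_congr rfl fun g _ => hfibre g, Finset.sum_const, Finset.card_univ,
            ← Nat.card_eq_fintype_card, smul_eq_mul]
        rw [e]
        rw [Nat.card_prod, hC u] at hprod
        refine mul_right_cancel₀ (Nat.card_pos.ne' :
          Nat.card (H ⊓ Subgroup.centralizer ({(u : G)} : Set G) : Subgroup G) ≠ 0) ?_
        rw [← hprod, hm]
        ring
      rw [hcnt, Nat.cast_mul, mul_assoc, show w x = ext φ x / _ from rfl, mul_div_cancel₀ _ (hi0 _)]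
    have hB : ∑ g : G, ∑ x : G, (if g * P x * g⁻¹ ∈ H then w x else 0) =
        (Nat.card G : ℂ) * ∑ u : H, φ u * k u := by
      rw [Nat.card_eq_fintype_card, ← Finset.card_univ, ← nsmul_eq_mul, ← Finset.sum_const]
      refine Finset.sum_congr rfl fun g _ => ?_
      have hwg : ∀ x : G, w (g⁻¹ * x * g) = w x := by
        intro x
        have e : c x * P x * (c x)⁻¹ = (c x * g) * P (g⁻¹ * x * g) * (c x * g)⁻¹ := by
          have := hPconj x g⁻¹
          rw [inv_inv] at this
          rw [this]; group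
        rw [hw (g⁻¹ * x * g) (c x * g) (e ▸ hc x)]
        show φ _ / _ = φ _ / _
        rw [show (⟨_, e ▸ hc x⟩ : H) = ⟨c x * P x * (c x)⁻¹, hc x⟩ from Subtype.ext e.symm]
      rw [← Equiv.sum_comp (MulAut.conj g⁻¹).toEquiv (fun x => if g * P x * g⁻¹ ∈ H then w x else 0)]
      rw [Finset.sum_congr rfl fun x _ => show
          (if g * P ((MulAut.conj g⁻¹).toEquiv x) * g⁻¹ ∈ H then w ((MulAut.conj g⁻¹).toEquiv x) else 0) =
            if g * P (g⁻¹ * x * g) * g⁻¹ ∈ H then w (g⁻¹ * x * g) else 0 by
        rw [show (MulAut.conj g⁻¹).toEquiv x = g⁻¹ * x * g by simp]]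
      rw [Finset.sum_congr rfl fun x _ => show
          (if g * P (g⁻¹ * x * g) * g⁻¹ ∈ H then w (g⁻¹ * x * g) else 0) = if P x ∈ H then w x else 0 by
        have := hPconj x g⁻¹
        rw [inv_inv] at this
        rw [this, hwg, show g * (g⁻¹ * P x * g) * g⁻¹ = P x by group]]
      rw [← Finset.sum_filter, ← Finset.sum_subtype_eq_sum_filter]
      rw [← Finset.sum_fiberwise _ (fun x => (⟨P (x : {x : G // P x ∈ H}), x.2⟩ : H))]
      refine Finset.sum_congr rfl fun u _ => ?_
      have hwu : ∀ x : {x : G // P x ∈ H}, (⟨P x, x.2⟩ : H) = u → w (x : G) = φ u / (i u : ℂ) := by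
        rintro x rfl
        rw [hw (x : G) 1 (by simpa using x.2)]
        simp
      rw [Finset.sum_congr rfl fun x hx => hwu x (Finset.mem_filter.mp hx).2, Finset.sum_const,
        nsmul_eq_mul]
      have hnum : (((Finset.univ : Finset G).subtype fun x => P x ∈ H).filter
          fun (x : {x : G // P x ∈ H}) => (⟨P x, x.2⟩ : H) = u).card = k u * i u := by
        rw [← hfibc u, Nat.card_eq_fintype_card, Fintype.card_subtype,
          ← Finset.card_map (Function.Embedding.subtype _)]
        congr 1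
        ext x
        simp only [Finset.mem_map, Finset.mem_filter, Finset.mem_subtype, Finset.mem_univ, true_and,
          Function.Embedding.subtype_apply]
        exact ⟨fun ⟨y, hy, e⟩ => e ▸ congrArg Subtype.val hy,
          fun e => ⟨⟨x, e ▸ u.2⟩, Subtype.ext e, rfl⟩⟩
      rw [hnum, Nat.cast_mul, mul_assoc, mul_div_cancel₀ _ (hi0 u), mul_comm]
    rw [Finset.sum_comm, hA, hmn, Nat.cast_mul, mul_assoc] at hB
    exact mul_left_cancel₀ (Nat.cast_ne_zero.mpr (Nat.card_pos (α := H)).ne') hB
  have hn0 : (n : ℂ) ≠ 0 := Nat.cast_ne_zero.mpr Subgroup.index_ne_zero_of_finite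
  have hk1 : ∀ u, k u = 1 := by
    have h1 := hsum (fun _ => 1) (fun a b => rfl)
    simp only [ext, Finset.sum_const, Finset.card_univ, nsmul_eq_mul, mul_one, one_mul,
      ← Nat.card_eq_fintype_card, hmn, Nat.cast_mul, mul_comm (n : ℂ)] at h1
    have h2 : ∑ u : H, 1 = ∑ u : H, k u := by
      have h3 := mul_right_cancel₀ hn0 h1
      rw [Finset.sum_const, Finset.card_univ, smul_eq_mul, mul_one, ← Nat.card_eq_fintype_card]
      exact_mod_cast h3
    exact fun u => ((Finset.sum_eq_sum_iff_of_le fun u _ => hk0 u).mp h2 u (Finset.mem_univ u)).symm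
  have hirr : ∀ φ, Cfsg.IsIrrCharacter H φ → Cfsg.IsIrrCharacter G (ext φ) := by
    intro φ hφ
    have hφc := Cfsg.Agent.Char.IsIrrCharacter.isCharacter hφ
    have hcl : Cfsg.IsClassFunction H (fun u => φ u * starRingEnd ℂ (φ u)) := fun a b => by
      simp only [Cfsg.Agent.Char.IsCharacter.isClassFunction hφc a b]
    have hn1 : Cfsg.classInner (ext φ) (ext φ) = 1 := by
      have h1 : ∑ x : G, ext φ x * starRingEnd ℂ (ext φ x) =
          (n : ℂ) * ∑ u : H, φ u * starRingEnd ℂ (φ u) * (k u : ℂ) := hsum _ hcl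
      have h2 := Cfsg.Agent.Char.classInner_self_irr hφ
      rw [Cfsg.classInner, inv_mul_eq_one₀ (Nat.cast_ne_zero.mpr Nat.card_pos.ne')] at h2
      rw [Cfsg.classInner, h1]
      simp only [hk1, Nat.cast_one, mul_one, ← h2, hmn, Nat.cast_mul]
      have hm0 : (m : ℂ) ≠ 0 := Nat.cast_ne_zero.mpr Nat.card_pos.ne'
      field_simp
      ring
    obtain hh | hh := Cfsg.Agent.Char.IsGeneralizedCharacter.of_norm_one (hgen φ hφc) hn1
    · exact hh
    · obtain ⟨d, hd0, hd⟩ := Cfsg.Agent.Char.IsIrrCharacter.exists_degree hh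
      obtain ⟨d', hd'0, hd'⟩ := Cfsg.Agent.Char.IsIrrCharacter.exists_degree hφ
      have e : ext φ 1 = φ 1 := congrArg φ (Subtype.ext (by simp [hP]))
      rw [Pi.neg_apply, e, hd', ← Int.cast_natCast d, ← Int.cast_natCast d', ← Int.cast_neg,
        Int.cast_inj] at hd
      omega
  choose N hN hNmem hNtr using fun φ : Cfsg.IrrCharacter H =>
    Cfsg.Agent.Char.IsCharacter.exists_kernel
      (Cfsg.Agent.Char.IsIrrCharacter.isCharacter (hirr φ φ.2))
  have hKmem : ∀ x : G, x ∈ ⨅ φ, N φ ↔ P x = 1 := by
    intro x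
    rw [Subgroup.mem_iInf]
    constructor
    · intro h
      have hone : (⟨c x * P x * (c x)⁻¹, hc x⟩ : H) = 1 := by
        refine isConj_one_left.mp ((Cfsg.Agent.Char.isConj_iff_forall_irr (G := H) _ 1).mpr fun φ => ?_)
        have := (hNmem φ x).mp (h φ)
        have e : ext φ 1 = (φ : H → ℂ) 1 := congrArg (φ : H → ℂ) (Subtype.ext (by simp [hP]))
        rw [e] at this
        exact this
      simpa using congrArg Subtype.val hone
    · intro h φ
      rw [hNmem]
      refine congrArg (φ : H → ℂ) (Subtype.ext ?_)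
      show c x * P x * (c x)⁻¹ = c 1 * P 1 * (c 1)⁻¹
      rw [h, show P 1 = 1 from one_pow _]
      group
  haveI hKn : (⨅ φ, N φ).Normal := Subgroup.normal_iInf_normal hN
  refine ⟨⨅ φ, N φ, hKn, ?_, ?_⟩
  · have hinf : (⨅ φ, N φ) ⊓ H = ⊥ := eq_bot_iff.mpr fun x hx => by
      have := (hKmem x).mp hx.1
      rw [hPH ⟨x, hx.2⟩] at this
      exact this
    have hKcard : Nat.card (⨅ φ, N φ : Subgroup G) = n := by
      rw [Nat.card_congr (Equiv.subtypeEquivRight hKmem)]
      have h1 := hfibc 1
      rw [hk1, one_mul] at h1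
      rw [show ((1 : H) : G) = 1 from rfl] at h1
      rw [h1]
      have h2 := hC 1
      have e1 : Subgroup.centralizer ({((1 : H) : G)} : Set G) = ⊤ := by
        ext y; simp [Subgroup.mem_centralizer_singleton_iff]
      rw [e1, inf_top_eq, Subgroup.card_top, hmn, hm] at h2
      exact (mul_left_cancel₀ Nat.card_pos.ne' h2).symm
    refine Subgroup.eq_top_of_card_eq _ (Nat.dvd_antisymm (Subgroup.card_subgroup_dvd_card _) ?_)
    rw [hmn, ← hKcard]
    refine Nat.Coprime.mul_dvd_of_dvd_of_dvd (by rw [hKcard]; exact hHall)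
      (Subgroup.card_dvd_of_le le_sup_right) (Subgroup.card_dvd_of_le le_sup_left)
  · exact eq_bot_iff.mpr fun x hx => by
      have := (hKmem x).mp hx.1
      rw [hPH ⟨x, hx.2⟩] at this
      exact this


end Cfsg.Agent.S0877
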