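import Cfsg.Statements.S0878
import Cfsg.Agent.Lib.Char.TwoTrans
-- import your own Cfsg.Agent.* helpers here

set_option autoImplicit false
open Cfsg

namespace Cfsg.Agent.S0878

/-- Let G be a Zassenhaus group on the finite set Ω, a a point, and let H be the subgroup of the stabilizer of a consisting of the identity and the elements fixing no point other than a (given here as a subgroup of the stabilizer of order one less than the number of points whose non-identity elements fix only a; it is the Frobenius kernel of the stabilizer). Then an element outside the stabilizer of a conjugates no non-identity element of H into H, and the normalizer of H is exactly the stabilizer of a. -/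
theorem result {G Ω : Type*} [Group G] [Finite G] [MulAction G Ω] [Fintype Ω] (hZ : Cfsg.IsZassenhausGroup G Ω) (a : Ω) (H : Subgroup G) (hHa : H ≤ MulAction.stabilizer G a) (hHcard : Nat.card H + 1 = Fintype.card Ω) (hHfix : ∀ u ∈ H, u ≠ 1 → ∀ c : Ω, u • c = c → c = a) : (∀ g : G, g ∉ MulAction.stabilizer G a → ∀ u ∈ H, g * u * g⁻¹ ∈ H → u = 1) ∧ Subgroup.normalizer (H : Set G) = MulAction.stabilizer G a := by
  classical
  haveI : Fintype G := Fintype.ofFinite G
  have hZ' := hZ
  obtain ⟨hfaith, h2, h3, -, -⟩ := hZ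
  rw [MulAction.is_two_pretransitive_iff] at h2
  set S := MulAction.stabilizer G a with hS
  haveI : Fintype S := Fintype.ofFinite S
  haveI : Fintype H := Fintype.ofFinite H
  have part1 : ∀ g : G, g ∉ S → ∀ u ∈ H, g * u * g⁻¹ ∈ H → u = 1 := by
    intro g hg u hu hgu
    by_contra hu1
    have hne : g * u * g⁻¹ ≠ 1 := fun h => hu1 (conj_eq_one_iff.mp h)
    refine hg (MulAction.mem_stabilizer_iff.mpr (hHfix _ hgu hne (g • a) ?_))
    rw [mul_smul, mul_smul, inv_smul_smul, MulAction.mem_stabilizer_iff.mp (hHa hu)]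
  have hn2 : 2 ≤ Fintype.card Ω := by
    rw [← hHcard]; have : 0 < Nat.card H := Nat.card_pos; omega
  obtain ⟨b, hb⟩ := Fintype.exists_ne_of_one_lt_card (by omega : 1 < Fintype.card Ω) a
  set Fa : Finset S := Finset.univ.filter fun g => ∀ c : Ω, g • c = c → c = a with hFa
  have hfix : ∀ g : S, Nat.card (MulAction.fixedBy Ω g) + (if g ∈ Fa then 1 else 0) =
      2 + (if g = 1 then Fintype.card Ω - 2 else 0) := by
    intro g
    have hga : g • a = a := MulAction.mem_stabilizer_iff.mp g.2
    by_cases h1 : g = 1
    · subst h1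
      have hnot : (1 : S) ∉ Fa := fun h => hb ((Finset.mem_filter.mp h).2 b (one_smul _ b))
      have e : Nat.card (MulAction.fixedBy Ω (1 : S)) = Fintype.card Ω := by
        rw [← Nat.card_eq_fintype_card]
        exact Nat.card_congr ((Equiv.subtypeEquivRight fun x => by simp).trans (Equiv.subtypeUnivEquiv fun _ => trivial))
      rw [if_neg hnot, if_pos rfl, e]
      omega
    rw [if_neg h1]
    by_cases hF : g ∈ Fa
    · have e : MulAction.fixedBy Ω g = ({a} : Set Ω) :=
        Set.ext fun c => ⟨fun hc => (Finset.mem_filter.mp hF).2 c hc, fun hc => by rw [Set.mem_singleton_iff.mp hc]; exact hga⟩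
      rw [if_pos hF, e, Nat.card_coe_set_eq, Set.ncard_singleton]
    · obtain ⟨c, hc, hca⟩ : ∃ c : Ω, g • c = c ∧ c ≠ a := by
        by_contra hcon
        push Not at hcon
        exact hF (Finset.mem_filter.mpr ⟨Finset.mem_univ _, hcon⟩)
      have e : MulAction.fixedBy Ω g = ({a, c} : Set Ω) := by
        ext x
        refine ⟨fun hx => ?_, fun hx => ?_⟩
        · by_contra hcon
          simp only [Set.mem_insert_iff, Set.mem_singleton_iff, not_or] at hcon
          exact h1 (Subtype.ext (h3 g a c x hca.symm (Ne.symm hcon.2) (Ne.symm hcon.1) hga hc hx))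
        · rcases hx with rfl | rfl
          exacts [hga, hc]
      rw [if_neg hF, e, Nat.card_coe_set_eq, Set.ncard_pair hca.symm]
  have horb : Nat.card (Quotient (MulAction.orbitRel S Ω)) = 2 := by
    refine (Cfsg.Agent.Char.card_orbits_eq_two (fun x : Ω => x = a) (fun g x => ?_) (a := a) (b := b) rfl hb).mpr ?_
    · have hga : (g : G) • a = a := g.2
      exact ⟨fun h => by rw [← inv_smul_smul g x, h, inv_smul_eq_iff]; exact hga.symm, fun h => h ▸ hga⟩
    · intro x y hxy
      by_cases hx : x = a
      · exact ⟨1, by rw [one_smul, hx, hxy.mp hx]⟩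
      · obtain ⟨g, g1, g2⟩ := h2 (Ne.symm hx) (Ne.symm fun h => hx (hxy.mpr h) : a ≠ y)
        exact ⟨⟨g, g1⟩, g2⟩
  have hcount := Cfsg.Agent.Char.sum_natCard_fixedBy (G := S) Ω
  have htot := Finset.sum_congr (s₁ := (Finset.univ : Finset S)) rfl fun g _ => hfix g
  rw [horb] at hcount
  rw [Finset.sum_add_distrib, Finset.sum_add_distrib, hcount, Finset.sum_ite_mem, Finset.univ_inter,
    Finset.sum_const, Finset.sum_const, Finset.sum_ite_eq', if_pos (Finset.mem_univ _), Finset.card_univ,
    ← Nat.card_eq_fintype_card, smul_eq_mul, smul_eq_mul, mul_one] at htot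
  have hFcard : Fa.card + 2 = Fintype.card Ω := by
    omega
  set H' : Finset S := Finset.univ.filter fun g => (g : G) ∈ H ∧ g ≠ 1 with hH'
  have hH'card : H'.card + 1 = Nat.card H := by
    have e : (Finset.univ.filter fun g : S => (g : G) ∈ H) = insert 1 H' := by
      ext g; by_cases h : g = 1 <;> simp [hH', h, H.one_mem]
    rw [← Finset.card_insert_of_notMem (a := (1 : S)) (s := H') (by simp [hH']), ← e,
      ← Nat.card_congr (Subgroup.subgroupOfEquivOfLe hHa).toEquiv]
    exact (Nat.subtype_card _ (by simp [Subgroup.mem_subgroupOf])).symm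
  have hsub : H' ⊆ Fa := fun g hg => by
    simp only [hH', Finset.mem_filter, Finset.mem_univ, true_and] at hg
    exact Finset.mem_filter.mpr ⟨Finset.mem_univ _, fun c hc => hHfix g hg.1 (fun h => hg.2 (Subtype.ext h)) c hc⟩
  have heq : H' = Fa := Finset.eq_of_subset_of_card_le hsub (by omega)
  refine ⟨part1, le_antisymm ?_ ?_⟩
  · intro g hg
    by_contra hgS
    have hne : H ≠ ⊥ := by
      intro h
      have : Nat.card H = 1 := by rw [h]; exact Subgroup.card_bot
      have hcard2 : Fintype.card Ω = 2 := by omega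
      obtain ⟨g', hg1, p, q, hpq, e1, e2⟩ := (show ∃ g : G, g ≠ 1 ∧ ∃ p q : Ω, p ≠ q ∧ g • p = p ∧ g • q = q from hZ'.2.2.2.1)
      refine hg1 (hfaith.eq_of_smul_eq_smul fun x => ?_)
      have hx : x = p ∨ x = q := by
        by_contra hc
        push Not at hc
        have := Finset.card_le_univ ({x, p, q} : Finset Ω)
        rw [Finset.card_insert_of_notMem (by simp [hc.1, hc.2]), Finset.card_pair hpq] at this
        omega
      rw [one_smul]
      rcases hx with rfl | rfl <;> assumption
    obtain ⟨u, hu, hu1⟩ := (Subgroup.bot_or_exists_ne_one H).resolve_left hne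
    exact hu1 (part1 g hgS u hu ((Subgroup.mem_set_normalizer_iff.mp hg u).mp hu))
  · have key : ∀ g ∈ S, ∀ u ∈ H, g * u * g⁻¹ ∈ H := by
      intro g hg u hu
      by_cases hu1 : u = 1
      · simp [hu1]
      have hmem : (⟨g * u * g⁻¹, S.mul_mem (S.mul_mem hg (hHa hu)) (S.inv_mem hg)⟩ : S) ∈ Fa := by
        refine Finset.mem_filter.mpr ⟨Finset.mem_univ _, fun c hc => ?_⟩
        have hc' : g • u • g⁻¹ • c = c := by rw [← mul_smul, ← mul_smul]; exact hc
        have := hHfix u hu hu1 (g⁻¹ • c) (by rw [← inv_smul_smul g (u • g⁻¹ • c), hc'])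
        rw [inv_smul_eq_iff] at this
        rw [this]; exact MulAction.mem_stabilizer_iff.mp hg
      rw [← heq] at hmem
      exact (Finset.mem_filter.mp hmem).2.1
    intro g hg
    rw [Subgroup.mem_normalizer_iff]
    refine fun u => ⟨key g hg u, fun h => ?_⟩
    have := key g⁻¹ (S.inv_mem hg) _ h
    simpa [mul_assoc] using this


end Cfsg.Agent.S0878
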