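import Cfsg.Statements.S0879
-- import your own Cfsg.Agent.* helpers here

set_option autoImplicit false
open Cfsg

namespace Cfsg.Agent.S0879

/-- Let G be a Zassenhaus group on the finite set Ω and E the stabilizer of two distinct points a, b. Then an element outside the normalizer of E conjugates no non-identity element of E into E, and E has index 2 in its normalizer. -/
theorem result {G Ω : Type*} [Group G] [Finite G] [MulAction G Ω] [Fintype Ω] (hZ : Cfsg.IsZassenhausGroup G Ω) {a b : Ω} (hab : a ≠ b) : (∀ g : G, g ∉ Subgroup.normalizer ((MulAction.stabilizer G a ⊓ MulAction.stabilizer G b : Subgroup G) : Set G) → ∀ x ∈ (MulAction.stabilizer G a ⊓ MulAction.stabilizer G b : Subgroup G), g * x * g⁻¹ ∈ (MulAction.stabilizer G a ⊓ MulAction.stabilizer G b : Subgroup G) → x = 1) ∧ ((MulAction.stabilizer G a ⊓ MulAction.stabilizer G b : Subgroup G).subgroupOf (Subgroup.normalizer ((MulAction.stabilizer G a ⊓ MulAction.stabilizer G b : Subgroup G) : Set G))).index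 = 2 := by
  classical
  haveI : Fintype G := Fintype.ofFinite G
  obtain ⟨hfaith, h2, h3, ⟨g₀, hg₀, a', b', hab', hga', hgb'⟩, -⟩ := hZ
  rw [MulAction.is_two_pretransitive_iff] at h2
  set E := MulAction.stabilizer G a ⊓ MulAction.stabilizer G b with hE
  have hmemE : ∀ x : G, x ∈ E ↔ x • a = a ∧ x • b = b := fun x => by
    simp [hE, Subgroup.mem_inf, MulAction.mem_stabilizer_iff]
  obtain ⟨t, ht1, ht2⟩ := h2 hab' hab
  have hex : ∃ x ∈ E, x ≠ 1 := by
    refine ⟨t * g₀ * t⁻¹, (hmemE _).mpr ⟨?_, ?_⟩, fun h => hg₀ (conj_eq_one_iff.mp h)⟩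
    · rw [mul_smul, mul_smul, ← ht1, inv_smul_smul, hga']
    · rw [mul_smul, mul_smul, ← ht2, inv_smul_smul, hgb']
  have hpair : ∀ g : G, ∀ x ∈ E, x ≠ 1 → g * x * g⁻¹ ∈ E → ({g • a, g • b} : Set Ω) = {a, b} := by
    intro g x hx hx1 hgx
    obtain ⟨hxa, hxb⟩ := (hmemE x).mp hx
    obtain ⟨hya, hyb⟩ := (hmemE _).mp hgx
    have hy1 : g * x * g⁻¹ ≠ 1 := fun h => hx1 (conj_eq_one_iff.mp h)
    have hin : ∀ c, x • c = c → g • c = a ∨ g • c = b := by
      intro c hc
      by_contra hcon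
      push Not at hcon
      refine hy1 (h3 _ a b (g • c) hab (Ne.symm hcon.2) (Ne.symm hcon.1) hya hyb ?_)
      rw [mul_smul, mul_smul, inv_smul_smul, hc]
    have hgab : g • a ≠ g • b := fun h => hab (MulAction.injective g h)
    rcases hin a hxa with e1 | e1 <;> rcases hin b hxb with e2 | e2
    · exact absurd (e1.trans e2.symm) hgab
    · rw [e1, e2]
    · rw [e1, e2, Set.pair_comm]
    · exact absurd (e1.trans e2.symm) hgab
  have hconjE : ∀ g : G, ({g • a, g • b} : Set Ω) = {a, b} → ∀ x ∈ E, g * x * g⁻¹ ∈ E := by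
    intro g hg x hx
    obtain ⟨hxa, hxb⟩ := (hmemE x).mp hx
    have key : ∀ c ∈ ({a, b} : Set Ω), (g * x * g⁻¹) • c = c := by
      intro c hc
      rw [← hg] at hc
      rcases hc with rfl | rfl
      · rw [mul_smul, mul_smul, inv_smul_smul, hxa]
      · rw [mul_smul, mul_smul, inv_smul_smul, hxb]
    exact (hmemE _).mpr ⟨key a (by simp), key b (by simp)⟩
  have hN : ∀ g : G, g ∈ Subgroup.normalizer (E : Set G) ↔ ({g • a, g • b} : Set Ω) = {a, b} := by
    intro g
    constructor
    · intro hg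
      obtain ⟨x, hx, hx1⟩ := hex
      exact hpair g x hx hx1 ((Subgroup.mem_normalizer_iff.mp hg x).mp hx)
    · intro hg
      rw [Subgroup.mem_normalizer_iff]
      refine fun x => ⟨hconjE g hg x, fun h => ?_⟩
      have hg' : ({g⁻¹ • a, g⁻¹ • b} : Set Ω) = {a, b} := by
        have := congrArg (fun s => (fun c => g⁻¹ • c) '' s) hg
        simp only [Set.image_insert_eq, Set.image_singleton, inv_smul_smul] at this
        exact this.symm
      have := hconjE g⁻¹ hg' _ h
      simpa [mul_assoc] using this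
  refine ⟨fun g hg x hx hgx => by_contra fun hx1 => hg ((hN g).mpr (hpair g x hx hx1 hgx)), ?_⟩
  obtain ⟨s, hs1, hs2⟩ := h2 hab hab.symm
  have hsN : s ∈ Subgroup.normalizer (E : Set G) := (hN s).mpr (by rw [hs1, hs2, Set.pair_comm])
  rw [Subgroup.index_eq_two_iff]
  refine ⟨⟨s, hsN⟩, fun g => ?_⟩
  have hcase : ((g : G) • a = a ∧ (g : G) • b = b) ∨ ((g : G) • a = b ∧ (g : G) • b = a) :=
    Set.pair_eq_pair_iff.mp ((hN g).mp g.2)
  simp only [Subgroup.mem_subgroupOf, Subgroup.coe_mul, hmemE, mul_smul, hs1, hs2]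
  rcases hcase with ⟨e1, e2⟩ | ⟨e1, e2⟩ <;> simp [Xor, e1, e2, hab, hab.symm]


end Cfsg.Agent.S0879
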