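import Cfsg.Statements.S0880
import Cfsg.Agent.Lib.Zassenhaus.FpfCount

set_option autoImplicit false
open Cfsg

namespace Cfsg.Agent.S0880

/-- Let G be a finite simple Zassenhaus group on Ω with n points whose two-point stabilizer E has odd order less than n - 2. Then there are two elements of G, each fixing no point of Ω, that are not conjugate. -/
theorem result {G Ω : Type*} [Group G] [Finite G] [MulAction G Ω] [Fintype Ω] (hZ : Cfsg.IsZassenhausGroup G Ω) {a b : Ω} (hab : a ≠ b) [IsSimpleGroup G] (hodd : Odd (Nat.card ↥(MulAction.stabilizer G a ⊓ MulAction.stabilizer G b : Subgroup G))) (hlt : Nat.card ↥(MulAction.stabilizer G a ⊓ MulAction.stabilizer G b : Subgroup G) < Fintype.card Ω - 2) : ∃ x y : G, (∀ c : Ω, x • c ≠ c) ∧ (∀ c : Ω, y • c ≠ c) ∧ ¬ IsConj x y := by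
  obtain ⟨H, h1, h2, h3⟩ := Cfsg.Agent.Zass.exists_kernel' hZ hab
  have h := (Cfsg.Agent.Zass.Data.mk hZ hab h1 h2 h3 hodd).two_le_fpf
  haveI : Finite (ConjClasses G) := Finite.of_surjective ConjClasses.mk ConjClasses.mk_surjective
  haveI : Nontrivial (Cfsg.Agent.Zass.FpfCls G Ω) := Finite.one_lt_card_iff_nontrivial.mp h
  obtain ⟨C, D, hCD⟩ := exists_pair_ne (Cfsg.Agent.Zass.FpfCls G Ω)
  obtain ⟨x, hx⟩ := ConjClasses.mk_surjective C.1
  obtain ⟨y, hy⟩ := ConjClasses.mk_surjective D.1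
  exact ⟨x, y, C.2 x hx, D.2 y hy, fun hc => hCD (Subtype.ext
    (hx.symm.trans ((ConjClasses.mk_eq_mk_iff_isConj.mpr hc).trans hy)))⟩

end Cfsg.Agent.S0880
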