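import Cfsg.Statements.S0882
import Cfsg.Agent.Lib.Zassenhaus.Involutions

set_option autoImplicit false
open Cfsg

namespace Cfsg.Agent.S0882

/-- Let G be a finite simple Zassenhaus group on Ω with n = h + 1 points whose two-point stabilizer E has odd order e with 2e < h - 1. Then any two involutions of G are conjugate, and the number of involutions is e * (h + 1) if h is even and e * h if h is odd. -/
theorem result {G Ω : Type*} [Group G] [Finite G] [MulAction G Ω] [Fintype Ω] (hZ : Cfsg.IsZassenhausGroup G Ω) {a b : Ω} (hab : a ≠ b) [IsSimpleGroup G] (h e : ℕ) (hh : Fintype.card Ω = h + 1) (he : Nat.card ↥(MulAction.stabilizer G a ⊓ MulAction.stabilizer G b : Subgroup G) = e) (hodd : Odd e) (hlt : 2 * e < h - 1) : (∀ x y : G, orderOf x = 2 → orderOf y = 2 → IsConj x y) ∧ Nat.card {x : G // orderOf x = 2} = (if Even h then e * (h + 1) else e * h) := by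
  haveI : Fintype G := Fintype.ofFinite G
  obtain ⟨H, h1, h2, h3⟩ := Cfsg.Agent.Zass.exists_kernel' hZ hab
  have D := Cfsg.Agent.Zass.Data.mk hZ hab h1 h2 h3 (show Odd (Nat.card _) by rw [he]; exact hodd)
  have hH : Nat.card H = h := by omega
  have hev := D.even_of_big (by rw [he, hH]; exact hlt)
  obtain ⟨s, hs⟩ := D.exists_swap
  refine ⟨fun x y hx hy => (D.isConj_swap hev hs hx).trans (D.isConj_swap hev hs hy).symm, ?_⟩
  have hI := D.card_inv_even hev
  rw [he, hH] at hI
  rw [if_pos (hH ▸ hev)]
  exact hI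

end Cfsg.Agent.S0882
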