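import Cfsg.Statements.S0889
import Cfsg.Agent.Lib.Berger.Main

set_option autoImplicit false
open Cfsg

namespace Cfsg.Agent.S0889

open Cfsg.Agent Matrix Module

/-- Let G be a finite solvable group and χ an irreducible character of G such that for every normal subgroup N the restriction of χ to N is a natural-number multiple of one irreducible character of N. Then χ is not induced from a character of any proper subgroup. -/
theorem result {G : Type*} [Group G] [Fintype G] [Group.IsSolvable G] (χ : G → ℂ) (hχ : Cfsg.IsIrrCharacter G χ) (hqp : ∀ (N : Subgroup G), N.Normal → ∃ (ϑ : N → ℂ) (e : ℕ), Cfsg.IsIrrCharacter N ϑ ∧ (fun n : N => χ n) = (e : ℂ) • ϑ) (K : Subgroup G) (hK : K ≠ ⊤) (ψ : K → ℂ) (hψ : Cfsg.IsCharacter K ψ) : Cfsg.indFun K ψ ≠ χ := by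
  intro hind
  classical
  haveI : Fintype K := Fintype.ofFinite K
  obtain ⟨n, ρ, hn, hρ, htr⟩ := Berger.exists_matrix_of_isIrr hχ
  haveI : Nonempty (Fin n) := ⟨⟨0, hn⟩⟩
  have hhom : ∀ N : Subgroup G, N.Normal → Berger.Homog ρ N := fun N hN => by
    obtain ⟨θ, e, hθ, hres⟩ := hqp N hN
    refine Berger.homog_of_trace ρ N hθ (e := e) fun x => ?_
    rw [htr]
    exact congrFun hres x
  have hcl := Char.IsCharacter.isClassFunction (Char.IsIrrCharacter.isCharacter hχ)
  have hresK : Cfsg.IsCharacter K (fun h : K => χ h) :=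
    Char.IsCharacter.restrict (Char.IsIrrCharacter.isCharacter hχ) K
  have h1 : Cfsg.classInner (fun h : K => χ h) ψ = 1 := by
    rw [Char.classInner_comm_of_isCharacter hresK hψ, ← Char.classInner_indFun_left K ψ hcl, hind,
      Char.classInner_self_irr hχ]
  obtain ⟨m, σ, hσ⟩ := hψ
  have hmat : (fun h : K => χ h) = (CentralTypeExt.matRep (Berger.res ρ K)).character := by
    rw [CentralTypeExt.matRep_character]
    funext h
    exact (htr h).symm
  rw [hmat, ← hσ, Char.classInner_char, Nat.cast_eq_one] at h1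
  haveI : Nontrivial (Representation.IntertwiningMap σ (CentralTypeExt.matRep (Berger.res ρ K))) :=
    Module.nontrivial_of_finrank_eq_succ h1
  obtain ⟨T, hT⟩ := exists_ne
    (0 : Representation.IntertwiningMap σ (CentralTypeExt.matRep (Berger.res ρ K)))
  refine Berger.noImprim n G (Fin n) ρ (Fintype.card_fin n) hn hρ hhom K hK
    (LinearMap.range T.toLinearMap) (fun h => hT ?_) ?_ ?_
  · exact Representation.IntertwiningMap.ext (LinearMap.range_eq_bot.1 h)
  · rintro h hh _ ⟨v, rfl⟩
    refine ⟨σ ⟨h, hh⟩ v, ?_⟩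
    have := T.isIntertwining _ _ ⟨h, hh⟩ v
    rw [CentralTypeExt.matRep_apply] at this
    simpa using this
  · have h2 := Char.indFun_one_apply K ψ
    rw [hind, ← htr, map_one, Matrix.trace_one, Fintype.card_fin, ← hσ, Representation.char_one,
      Module.finrank_fin_fun, ← Nat.cast_mul, Nat.cast_inj] at h2
    refine le_of_le_of_eq ?_ h2.symm
    refine Nat.mul_le_mul_left _ ((LinearMap.finrank_range_le _).trans_eq ?_)
    exact Module.finrank_fin_fun ℂ

end Cfsg.Agent.S0889
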