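import Cfsg.Statements.S0893
import Cfsg.Agent.Lib.Char.Extraspecial

set_option autoImplicit false
open Cfsg

namespace Cfsg.Agent.S0893

/-- Let P be an extraspecial p-group of order p ^ (2 * n + 1), A an abelian subgroup of order p ^ (n + 1), and λ a character of A of degree 1 that is not identically 1 on the elements of A lying in the centre of P. Then the function induced from λ to P is an irreducible character of P and vanishes at every element outside the centre. -/
theorem result {P : Type*} [Group P] [Fintype P] (p n : ℕ) [Fact p.Prime] (hP : Cfsg.IsExtraspecial p P) (hcard : Nat.card P = p ^ (2 * n + 1)) (A : Subgroup P) (hab : ∀ a ∈ A, ∀ b ∈ A, a * b = b * a) (hA : Nat.card A = p ^ (n + 1)) (lam : A → ℂ) (hlam : Cfsg.IsCharacter A lam ∧ lam 1 = 1) (hZ : ∃ a : A, (a : P) ∈ Subgroup.center P ∧ lam a ≠ 1) : Cfsg.IsIrrCharacter P (Cfsg.indFun A lam) ∧ ∀ x : P, x ∉ Subgroup.center P → Cfsg.indFun A lam x = 0 := by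
  classical
  obtain ⟨f, hf⟩ := Cfsg.Agent.Char.exists_hom_of_degree_one hlam.1 hlam.2
  have hp : p.Prime := Fact.out
  have hZA : Subgroup.center P ≤ A := by
    by_contra hc
    have hinf : A ⊓ Subgroup.center P = ⊥ := by
      refine (Subgroup.eq_bot_iff_forall _).mpr fun w hw => ?_
      by_contra hw1
      apply hc
      rw [← Cfsg.Agent.Char.XS.zpowers_eq_center hP hw.2 hw1]
      exact Subgroup.zpowers_le.mpr hw.1
    obtain ⟨a, ha, ha1⟩ := hZ
    apply ha1
    have : (a : P) = 1 := by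
      have hm : (a : P) ∈ A ⊓ Subgroup.center P := ⟨a.2, ha⟩
      rwa [hinf, Subgroup.mem_bot] at hm
    rw [OneMemClass.coe_eq_one.mp this, hlam.2]
  haveI hAn : A.Normal := ⟨fun a ha g => by
    have : g * a * g⁻¹ * a⁻¹ ∈ A := hZA (by
      rw [← hP.1.2.2]
      exact Subgroup.commutator_mem_commutator (Subgroup.mem_top g) (Subgroup.mem_top a))
    simpa [mul_assoc] using A.mul_mem this ha⟩
  have hc : ∀ w, ∀ hw : w ∈ Subgroup.center P, ∀ g,
      Cfsg.indFun A lam (w * g) = lam ⟨w, hZA hw⟩ * Cfsg.indFun A lam g := by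
    intro w hw g
    rw [Cfsg.Agent.Char.indFun_apply, Cfsg.Agent.Char.indFun_apply, mul_left_comm (lam _)]
    congr 1
    rw [Finset.mul_sum]
    refine Finset.sum_congr rfl fun x _ => ?_
    have e : x⁻¹ * (w * g) * x = w * (x⁻¹ * g * x) := by
      rw [← mul_assoc, (Subgroup.mem_center_iff.mp hw x⁻¹)]; group
    rw [e]
    by_cases hm : x⁻¹ * g * x ∈ A
    · rw [Cfsg.Agent.Char.extendByZero_mem A lam hm,
        Cfsg.Agent.Char.extendByZero_mem A lam (A.mul_mem (hZA hw) hm)]
      show lam (⟨w, hZA hw⟩ * ⟨_, hm⟩) = _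
      simp only [hf, map_mul, Units.val_mul]
    · rw [Cfsg.Agent.Char.extendByZero_not_mem A lam hm,
        Cfsg.Agent.Char.extendByZero_not_mem A lam (fun h => hm
          ((A.mul_mem_cancel_left (hZA hw)).mp h)), mul_zero]
  have hne : ∀ w, ∀ hw : w ∈ Subgroup.center P, w ≠ 1 → lam ⟨w, hZA hw⟩ ≠ 1 := by
    intro w hw hw1 he
    obtain ⟨a, ha, ha1⟩ := hZ
    rw [← Cfsg.Agent.Char.XS.zpowers_eq_center hP hw hw1, Subgroup.mem_zpowers_iff] at ha
    obtain ⟨k, hk⟩ := ha
    apply ha1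
    have : a = (⟨w, hZA hw⟩ : A) ^ k := Subtype.ext (by simpa using hk.symm)
    have he' : f ⟨w, hZA hw⟩ = 1 := Units.ext (by rw [hf] at he; simpa using he)
    rw [hf]
    simp [this, map_zpow, he']
  have hchar : Cfsg.IsCharacter P (Cfsg.indFun A lam) :=
    Cfsg.Agent.Char.isCharacter_indFun A hlam.1
  have hv : ∀ x : P, x ∉ Subgroup.center P → Cfsg.indFun A lam x = 0 := fun x hx =>
    Cfsg.Agent.Char.XS.vanish_off_center hP (Cfsg.Agent.Char.isClassFunction_indFun A lam)
      (fun w hw hw1 => ⟨_, hne w hw hw1, hc w hw⟩) hx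
  refine ⟨Cfsg.Agent.Char.IsCharacter.isIrr_of_norm_one hchar ?_, hv⟩
  have hidx : A.index = p ^ n := by
    have := A.card_mul_index
    rw [hA, hcard, show 2 * n + 1 = (n + 1) + n by ring, pow_add p (n + 1) n] at this
    exact Nat.eq_of_mul_eq_mul_left (pow_pos hp.pos _) this
  have hd : Cfsg.indFun A lam 1 = ((p ^ n : ℕ) : ℂ) := by
    rw [Cfsg.Agent.Char.indFun_one_apply, hlam.2, mul_one, hidx]
  have hnorm : ∀ w ∈ Subgroup.center P, ‖Cfsg.indFun A lam w‖ = ((p ^ n : ℕ) : ℝ) := by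
    intro w hw
    rw [← mul_one w, hc w hw, norm_mul, hd, Complex.norm_natCast]
    have : ‖lam ⟨w, hZA hw⟩‖ = 1 := by
      refine Cfsg.Agent.Char.norm_eq_one_of_pow (Nat.card_pos (α := A)).ne' ?_
      rw [hf]
      simp [← Units.val_pow_eq_pow_val, ← map_pow]
    rw [this, one_mul]
  rw [Cfsg.Agent.Char.XS.norm_of_vanish hP (p ^ n) hv hnorm, hcard]
  have hp0 : (p : ℂ) ≠ 0 := Nat.cast_ne_zero.mpr hp.ne_zero
  push_cast
  field_simp
  ring

end Cfsg.Agent.S0893
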