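import Cfsg.Statements.S0894
import Cfsg.Agent.Lib.Char.Extraspecial

set_option autoImplicit false
open Cfsg

namespace Cfsg.Agent.S0894

/-- Let P be an extraspecial p-group of order p ^ (2 * n + 1). Then every irreducible character of P has degree 1 or p ^ n, and exactly p - 1 of them have degree p ^ n. -/
theorem result {P : Type*} [Group P] [Finite P] (p n : ℕ) [Fact p.Prime] (hP : Cfsg.IsExtraspecial p P) (hcard : Nat.card P = p ^ (2 * n + 1)) : (∀ χ : Cfsg.IrrCharacter P, (χ : P → ℂ) 1 = 1 ∨ (χ : P → ℂ) 1 = (p : ℂ) ^ n) ∧ Nat.card {χ : Cfsg.IrrCharacter P // (χ : P → ℂ) 1 = (p : ℂ) ^ n} = p - 1 := by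
  classical
  haveI : Fintype P := Fintype.ofFinite P
  have hp : p.Prime := Fact.out
  have hdeg := fun χ : Cfsg.IrrCharacter P => Cfsg.Agent.Char.XS.degree_cases hP hcard χ.2
  refine ⟨hdeg, ?_⟩
  obtain ⟨m, hm1, hm⟩ := Cfsg.Agent.FGBasics.XS.exists_card_eq hP
  have hn : 1 ≤ n := by
    have := Nat.pow_right_injective hp.two_le (hcard.symm.trans hm)
    omega
  have hne : (p : ℂ) ^ n ≠ 1 := by
    intro h
    have h' : p ^ n = 1 := by exact_mod_cast h
    exact absurd h' (Nat.one_lt_pow (by omega) hp.one_lt).ne'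
  have hlin : Nat.card {χ : Cfsg.IrrCharacter P // (χ : P → ℂ) 1 = 1} = p ^ (2 * n) := by
    rw [Cfsg.Agent.Char.card_linear, hP.1.2.2]
    have := (Subgroup.center P).card_mul_index
    rw [hP.2, hcard, pow_succ'] at this
    exact Nat.eq_of_mul_eq_mul_left hp.pos this
  have hsum := Cfsg.Agent.Char.sum_sq_degree (G := P)
  rw [← Finset.sum_filter_add_sum_filter_not Finset.univ
    (fun χ : Cfsg.IrrCharacter P => (χ : P → ℂ) 1 = 1)] at hsum
  rw [Finset.sum_congr rfl (g := fun _ => (1 : ℂ)) (fun χ hχ => by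
    rw [(Finset.mem_filter.mp hχ).2, one_pow])] at hsum
  conv_lhs at hsum =>
    rw [Finset.sum_congr (s₁ := Finset.univ.filter fun χ : Cfsg.IrrCharacter P =>
      ¬ (χ : P → ℂ) 1 = 1) (g := fun _ => (p : ℂ) ^ (2 * n)) rfl (fun χ hχ => by
      rw [(hdeg χ).resolve_left (Finset.mem_filter.mp hχ).2, ← pow_mul, mul_comm])]
  simp only [Finset.sum_const, nsmul_eq_mul, mul_one] at hsum
  rw [← Fintype.card_subtype, ← Nat.card_eq_fintype_card, hlin, hcard,
    ← Fintype.card_subtype, ← Nat.card_eq_fintype_card] at hsum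
  have hset : Nat.card {χ : Cfsg.IrrCharacter P // (χ : P → ℂ) 1 = (p : ℂ) ^ n} =
      Nat.card {χ : Cfsg.IrrCharacter P // ¬ (χ : P → ℂ) 1 = 1} :=
    Nat.card_congr (Equiv.subtypeEquivRight fun χ =>
      ⟨fun h => h ▸ hne, fun h => (hdeg χ).resolve_left h⟩)
  rw [hset]
  generalize Nat.card {χ : Cfsg.IrrCharacter P // ¬ (χ : P → ℂ) 1 = 1} = k at hsum
  have h2 : p ^ (2 * n) + k * p ^ (2 * n) = p ^ (2 * n + 1) := by exact_mod_cast hsum
  have h3 : (k + 1) * p ^ (2 * n) = p * p ^ (2 * n) := by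
    rw [← pow_succ', ← h2]; ring
  have := Nat.eq_of_mul_eq_mul_right (pow_pos hp.pos _) h3
  omega

end Cfsg.Agent.S0894
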