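import Cfsg.Statements.S0900
import Cfsg.Agent.Lib.Char.Gallagher
-- import your own Cfsg.Agent.* helpers here

set_option autoImplicit false
open Cfsg

namespace Cfsg.Agent.S0900

/-- Let N be a normal subgroup of the finite group G, χ an irreducible character of G and ϑ an irreducible character of N having nonzero inner product with the restriction of χ. Consider: (a) the restriction of χ to N is e • ϑ for a natural number e with e ^ 2 equal to the index of N; (b) χ vanishes outside N and ϑ is invariant under conjugation by G; (c) ϑ is invariant and every irreducible character of G having nonzero inner product with the function induced from ϑ equals χ. Then (a) ↔ (b) and (a) ↔ (c). -/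
theorem result {G : Type*} [Group G] [Fintype G] (N : Subgroup G) [hN : N.Normal] [Fintype N] (χ : G → ℂ) (hχ : Cfsg.IsIrrCharacter G χ) (ϑ : N → ℂ) (hϑ : Cfsg.IsIrrCharacter N ϑ) (hcon : Cfsg.classInner (fun n : N => χ n) ϑ ≠ 0) : ((∃ e : ℕ, (fun n : N => χ n) = (e : ℂ) • ϑ ∧ e ^ 2 = N.index) ↔ ((∀ g : G, g ∉ N → χ g = 0) ∧ ∀ (g : G) (n : N), ϑ ⟨g * n * g⁻¹, hN.conj_mem (n : G) n.2 g⟩ = ϑ n)) ∧ ((∃ e : ℕ, (fun n : N => χ n) = (e : ℂ) • ϑ ∧ e ^ 2 = N.index) ↔ (∀ (g : G) (n : N), ϑ ⟨g * n * g⁻¹, hN.conj_mem (n : G) n.2 g⟩ = ϑ n ∧ ∀ ψ : G → ℂ, Cfsg.IsIrrCharacter G ψ → Cfsg.classInner (Cfsg.indFun N ϑ) ψ ≠ 0 → ψ = χ)) := by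
  classical
  have hχc := Cfsg.Agent.Char.IsIrrCharacter.isCharacter hχ
  have hχcl := Cfsg.Agent.Char.IsCharacter.isClassFunction hχc
  have hidx : (N.index : ℂ) * (Nat.card N : ℂ) = (Nat.card G : ℂ) := by
    exact_mod_cast Subgroup.index_mul_card N
  have hcardN : (Nat.card N : ℂ) ≠ 0 := Nat.cast_ne_zero.mpr Nat.card_pos.ne'
  have hflip : ∀ {ψ : G → ℂ}, Cfsg.IsIrrCharacter G ψ →
      Cfsg.classInner (Cfsg.indFun N ϑ) ψ = Cfsg.classInner (fun n : N => ψ n) ϑ := fun {ψ} hψ => by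
    rw [Cfsg.Agent.Char.classInner_indFun_left N _ (Cfsg.Agent.Char.IsCharacter.isClassFunction
      (Cfsg.Agent.Char.IsIrrCharacter.isCharacter hψ)),
      Cfsg.Agent.Char.classInner_comm_of_isCharacter (Cfsg.Agent.Char.IsIrrCharacter.isCharacter hϑ)
        (Cfsg.Agent.Char.IsCharacter.restrict (Cfsg.Agent.Char.IsIrrCharacter.isCharacter hψ) N)]
  have hmult : ∀ {e : ℕ}, (fun n : N => χ n) = (e : ℂ) • ϑ →
      Cfsg.classInner (fun n : N => χ n) ϑ = e := fun {e} h => by
    rw [h, Cfsg.Agent.Char.classInner_smul_left, Cfsg.Agent.Char.classInner_self_irr hϑ, mul_one]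
  have hone : ∑ g : G, χ g * starRingEnd ℂ (χ g) = (Nat.card G : ℂ) := by
    have := Cfsg.Agent.Char.classInner_self_irr hχ
    rw [Cfsg.classInner, inv_mul_eq_one₀ (Nat.cast_ne_zero.mpr Nat.card_pos.ne')] at this
    exact this.symm
  have honN : ∀ {e : ℕ}, (fun n : N => χ n) = (e : ℂ) • ϑ →
      ∑ g ∈ Finset.univ.filter (· ∈ N), χ g * starRingEnd ℂ (χ g) = (e : ℂ) ^ 2 * Nat.card N := fun {e} h => by
    rw [Finset.sum_subtype (p := (· ∈ N)) (F := ‹Fintype N›) _ (by simp)]
    have h1 := Cfsg.Agent.Char.classInner_self_irr hϑ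
    rw [Cfsg.classInner, inv_mul_eq_one₀ hcardN] at h1
    rw [h1, Finset.mul_sum]
    refine Finset.sum_congr (Finset.ext (by simp)) fun n _ => ?_
    rw [show χ (n : G) = (e : ℂ) * ϑ n from congrFun h n, map_mul, map_natCast]
    ring
  have hinvA : ∀ {e : ℕ}, (fun n : N => χ n) = (e : ℂ) • ϑ → e ≠ 0 → ∀ (g : G) (n : N),
      ϑ ⟨g * n * g⁻¹, hN.conj_mem (n : G) n.2 g⟩ = ϑ n := fun {e} h he g n => by
    have := hχcl n g
    rw [show χ (g * n * g⁻¹) = (e : ℂ) * ϑ ⟨g * n * g⁻¹, hN.conj_mem (n : G) n.2 g⟩ from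
      congrFun h ⟨_, _⟩, show χ (n : G) = (e : ℂ) * ϑ n from congrFun h n] at this
    exact mul_left_cancel₀ (Nat.cast_ne_zero.mpr he) this
  have hclif : ∀ (_ : ∀ (g : G) (n : N), ϑ ⟨g * n * g⁻¹, hN.conj_mem (n : G) n.2 g⟩ = ϑ n),
      ∃ e : ℕ, (fun n : N => χ n) = (e : ℂ) • ϑ := by
    intro hinv
    obtain ⟨e, he⟩ := Cfsg.Agent.Char.IsCharacter.exists_classInner_nat
      (Cfsg.Agent.Char.IsCharacter.restrict hχc N) (Cfsg.Agent.Char.IsIrrCharacter.isCharacter hϑ)
    have horb : Cfsg.Agent.Char.conjOrbit N ϑ = {ϑ} := by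
      ext ψ
      rw [Cfsg.Agent.Char.mem_conjOrbit, Finset.mem_singleton]
      exact ⟨fun ⟨g, hg⟩ => hg.trans (funext (hinv g)),
        fun h => ⟨1, h.trans (funext (hinv 1)).symm⟩⟩
    refine ⟨e, ?_⟩
    rw [Cfsg.Agent.Char.clifford N hχ hϑ hcon, horb, Finset.sum_singleton, he]
  have hA0 : ∀ {e : ℕ}, e ^ 2 = N.index → e ≠ 0 := fun {e} h he =>
    Subgroup.index_ne_zero_of_finite (H := N) (by rw [← h, he]; rfl)
  constructor
  · constructor
    · rintro ⟨e, he, he2⟩
      refine ⟨fun g hg => ?_, hinvA he (hA0 he2)⟩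
      have hsplit := Finset.sum_filter_add_sum_filter_not Finset.univ (· ∈ N)
        (fun g => χ g * starRingEnd ℂ (χ g))
      rw [honN he, hone, ← hidx, ← he2, Nat.cast_pow, add_eq_left] at hsplit
      simp only [Complex.mul_conj, ← Complex.ofReal_sum, Complex.ofReal_eq_zero] at hsplit
      exact Complex.normSq_eq_zero.mp ((Finset.sum_eq_zero_iff_of_nonneg
        fun g _ => Complex.normSq_nonneg _).mp hsplit g (by simp [hg]))
    · rintro ⟨hvan, hinv⟩
      obtain ⟨e, he⟩ := hclif hinv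
      refine ⟨e, he, ?_⟩
      have hsplit := Finset.sum_filter_add_sum_filter_not Finset.univ (· ∈ N)
        (fun g => χ g * starRingEnd ℂ (χ g))
      rw [honN he, hone, Finset.sum_eq_zero (fun g hg => by
        rw [hvan g (Finset.mem_filter.mp hg).2, zero_mul]), add_zero, ← hidx] at hsplit
      exact_mod_cast mul_right_cancel₀ hcardN hsplit
  · constructor
    · rintro ⟨e, he, he2⟩ g n
      have hinv := hinvA he (hA0 he2)
      refine ⟨hinv g n, fun ψ hψ hne => ?_⟩
      have hzero : Cfsg.indFun N ϑ - (e : ℂ) • χ = 0 := by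
        apply Cfsg.Agent.Char.classInner_self_eq_zero
        simp only [Cfsg.Agent.Char.classInner_sub_left, Cfsg.Agent.Char.classInner_sub_right,
          Cfsg.Agent.Char.classInner_smul_left, Cfsg.Agent.Char.classInner_smul_right, map_natCast]
        rw [Cfsg.Agent.Char.classInner_indFun_invariant N hϑ (fun g => funext (hinv g)),
          hflip hχ, hmult he, ← Cfsg.Agent.Char.classInner_conj_symm (Cfsg.indFun N ϑ) χ,
          hflip hχ, hmult he, Cfsg.Agent.Char.classInner_self_irr hχ, map_natCast, ← he2]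
        push_cast
        ring
      by_contra hne'
      rw [sub_eq_zero.mp hzero, Cfsg.Agent.Char.classInner_smul_left,
        Cfsg.Agent.Char.classInner_irr_of_ne hχ hψ (Ne.symm hne'), mul_zero] at hne
      exact hne rfl
    · intro hc
      have hinv : ∀ (g : G) (n : N), ϑ ⟨g * n * g⁻¹, hN.conj_mem (n : G) n.2 g⟩ = ϑ n :=
        fun g n => (hc g n).1
      obtain ⟨e, he⟩ := hclif hinv
      refine ⟨e, he, ?_⟩
      have hdec := Cfsg.Agent.Char.IsCharacter.eq_sum (Cfsg.Agent.Char.isCharacter_indFun N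
        (Cfsg.Agent.Char.IsIrrCharacter.isCharacter hϑ))
      rw [Finset.sum_eq_single (⟨χ, hχ⟩ : Cfsg.IrrCharacter G)] at hdec
      · have h1 := Cfsg.Agent.Char.classInner_indFun_invariant N hϑ (fun g => funext (hinv g))
        rw [hdec, Cfsg.Agent.Char.classInner_smul_left, Cfsg.Agent.Char.classInner_smul_right,
          Cfsg.Agent.Char.classInner_self_irr hχ, hflip hχ, hmult he, map_natCast, mul_one] at h1
        rw [pow_two]
        exact_mod_cast h1
      · intro ψ _ hψ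
        by_contra hne
        have h0 : Cfsg.classInner (Cfsg.indFun N ϑ) ψ ≠ 0 := fun h0 => hne (by rw [h0, zero_smul])
        exact hψ (Subtype.ext ((hc 1 1).2 ψ ψ.2 h0))
      · exact fun h => absurd (Finset.mem_univ _) h


end Cfsg.Agent.S0900
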