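import Cfsg.Statements.S0910
import Cfsg.Agent.Lib.Blocks.RegularSum
import Cfsg.Agent.Lib.Char.Integral

set_option autoImplicit false
open Cfsg

namespace Cfsg.Agent.S0910

/-- Let G be a non-abelian finite simple group and p a prime. If an irreducible character χ lies in the principal block (relative to a maximal ideal of the algebraic integers containing p) and χ 1 is a power of p, then χ is the principal character. -/
theorem result {G : Type*} [Group G] [Finite G] (p : ℕ) [Fact p.Prime] (M : Ideal Cfsg.AlgInt) (hM : Cfsg.IsPModular p M) [IsSimpleGroup G] (hna : ∃ a b : G, a * b ≠ b * a) (χ : Cfsg.IrrCharacter G) (hχ : χ ∈ Cfsg.principalBlock M G) (k : ℕ) (hdeg : (χ : G → ℂ) 1 = (p : ℂ) ^ k) : (χ : G → ℂ) = fun _ => 1 := by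
  classical
  haveI : Fintype G := Fintype.ofFinite G
  haveI : M.IsPrime := hM.2.1.isPrime
  obtain ⟨n, ρ, hρ, hρχ⟩ := χ.2
  have hfr : (Module.finrank ℂ (Fin n → ℂ) : ℂ) = ((p ^ k : ℕ) : ℂ) := by
    rw [Nat.cast_pow, ← hdeg, ← hρχ, Representation.char_one]
  have hfr' : Module.finrank ℂ (Fin n → ℂ) = p ^ k := Nat.cast_inj.1 hfr
  by_contra hne
  obtain ⟨S⟩ : Nonempty (Sylow p G) := inferInstance
  haveI : Nontrivial G := ⟨by obtain ⟨a, b, h⟩ := hna; exact ⟨a * b, b * a, h⟩⟩
  obtain ⟨g, hg1, hgi⟩ : ∃ g : G, g ≠ 1 ∧ ¬ p ∣ (Subgroup.centralizer ({g} : Set G)).index := by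
    by_cases hS : (S : Subgroup G) = ⊥
    · obtain ⟨g, hg⟩ := exists_ne (1 : G)
      refine ⟨g, hg, fun h => ?_⟩
      have := S.not_dvd_index
      rw [hS, Subgroup.index_bot] at this
      exact this (h.trans (Subgroup.index_dvd_card _))
    · haveI : Nontrivial (S : Subgroup G) := (Subgroup.nontrivial_iff_ne_bot _).2 hS
      haveI := S.2.center_nontrivial
      obtain ⟨z, hz⟩ := exists_ne (1 : Subgroup.center (S : Subgroup G))
      refine ⟨((z : (S : Subgroup G)) : G), fun h => hz (Subtype.ext (Subtype.ext h)), fun h => ?_⟩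
      apply S.not_dvd_index
      refine h.trans (Subgroup.index_dvd_of_le fun s hs => ?_)
      rw [Subgroup.mem_centralizer_iff]
      intro w hw
      rw [Set.mem_singleton_iff.1 hw]
      exact congrArg Subtype.val (Subgroup.mem_center_iff.1 z.2 ⟨s, hs⟩).symm
  have hcop : Nat.Coprime (Module.finrank ℂ (Fin n → ℂ))
      (Subgroup.centralizer ({g} : Set G)).index := by
    rw [hfr']
    exact (((Fact.out : p.Prime).coprime_iff_not_dvd).2 hgi).pow_left k
  rcases Cfsg.Agent.Char.eq_zero_or_norm_eq ρ g hcop with h | h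
  · have h1 := (Cfsg.Agent.Blocks.mem_principalBlock_iff.1 hχ) g
    rw [hρχ] at h
    rw [show centralChar (χ : G → ℂ) g = 0 by unfold centralChar; rw [h]; simp, sub_zero,
      Cfsg.Agent.Blocks.natCast_memLocalIdeal_iff hM] at h1
    exact hgi h1
  · obtain ⟨ω, hω⟩ := (Cfsg.Agent.Char.norm_char_eq_iff ρ g).mp h
    have hinj : Function.Injective ρ := by
      rw [injective_iff_map_eq_one]
      rcases (IsSimpleGroup.eq_bot_or_eq_top_of_normal ρ.ker inferInstance).symm with h | h
      · exfalso
        apply hne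
        have hone : ∀ x, ρ x = 1 := fun x => (h ▸ Subgroup.mem_top x : x ∈ ρ.ker)
        have hc : (χ : G → ℂ) = fun _ => (Module.finrank ℂ (Fin n → ℂ) : ℂ) := funext fun x => by
          rw [← hρχ]
          simp [Representation.character, hone x]
        have h1 := Cfsg.Agent.Char.classInner_self_irr χ.2
        rw [hc] at h1
        simp [Cfsg.classInner] at h1
        have h2 : n * n = 1 := by exact_mod_cast h1
        rw [hc]
        simp [Nat.eq_one_of_mul_eq_one_left h2]
      · exact fun x hx => Subgroup.mem_bot.mp (h ▸ hx)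
    have hc : g ∈ Subgroup.center G := by
      rw [Subgroup.mem_center_iff]
      intro x
      apply hinj
      rw [map_mul, map_mul, hω]
      simp [← Module.End.one_eq_id]
    have htop : Subgroup.center G = ⊤ :=
      (IsSimpleGroup.eq_bot_or_eq_top_of_normal (Subgroup.center G) inferInstance).resolve_left
        fun h => hg1 (Subgroup.mem_bot.mp (h ▸ hc))
    obtain ⟨a, b, hab⟩ := hna
    exact hab (Subgroup.mem_center_iff.1 (htop ▸ Subgroup.mem_top b) a)

end Cfsg.Agent.S0910
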