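import Cfsg.Statements.S0911
import Cfsg.Agent.Lib.Blocks.MinMax

set_option autoImplicit false
open Cfsg

namespace Cfsg.Agent.S0911

/-- The min–max Theorem for defect classes. Let B be a block of the finite group G relative to a maximal ideal M of the algebraic integers containing the prime p, let g represent a defect class of B and let D be a Sylow p-subgroup of the centralizer of g (viewed in G). For any h: (a) if the idempotent coefficient of B at h is a local integer outside the local ideal, then some conjugate of D contains a Sylow p-subgroup of the centralizer of h; (b) if the central character of some member of B at h is outside the local ideal, then some conjugate of D is contained in a Sylow p-subgroup of the centralizer of h. -/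
theorem result {G : Type*} [Group G] [Finite G] (p : ℕ) [Fact p.Prime] (M : Ideal Cfsg.AlgInt) (hM : Cfsg.IsPModular p M) (B : Set (Cfsg.IrrCharacter G)) (hB : Cfsg.IsPBlock M B) (g : G) (hg : Cfsg.IsDefectClass M B g) (D : Sylow p (Subgroup.centralizer ({g} : Set G))) (h : G) : (Cfsg.MemLocalRing M (Cfsg.blockCoeff B h) → ¬ Cfsg.MemLocalIdeal M (Cfsg.blockCoeff B h) → ∃ (x : G) (Q : Sylow p (Subgroup.centralizer ({h} : Set G))), (Q : Subgroup (Subgroup.centralizer ({h} : Set G))).map (Subgroup.centralizer ({h} : Set G)).subtype ≤ ((D : Subgroup (Subgroup.centralizer ({g} : Set G))).map (Subgroup.centralizer ({g} : Set G)).subtype).map (MulAut.conj x).toMonoidHom) ∧ ((∃ χ ∈ B, ¬ Cfsg.MemLocalIdeal M (Cfsg.centralChar (χ : G → ℂ) h)) → ∃ (x : G) (Q : Sylow p (Subgroup.centralizer ({h} : Set G))), ((D : Subgroup (Subgroup.centralizer ({g} : Set G))).map (Subgroup.centralizer ({g} : Set G)).subtype).map (MulAut.conj x).toMonoidHom ≤ (Q : Subgroup (Subgroup.centralizer ({h} : Set G))).map (Subgroup.centralizer ({h} :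 Set G)).subtype) := by
  haveI := Fintype.ofFinite G
  haveI := Cfsg.Agent.Blocks.IsPModular.isPrime hM
  obtain ⟨Q₀⟩ : Nonempty (Sylow p (Subgroup.centralizer ({h} : Set G))) := inferInstance
  refine ⟨fun _ hh => ?_, fun ⟨χ, hχ, hh⟩ => ?_⟩
  · obtain ⟨y, hy⟩ := Cfsg.Agent.Blocks.exists_conj_le_of_coeff hM hB hg hh D
      (Cfsg.Agent.Blocks.isPGroup_sylowImage Q₀)
      (Cfsg.Agent.Blocks.mem_centralizer_of_le (Cfsg.Agent.Blocks.sylowImage_le Q₀))
    exact ⟨y, Q₀, hy⟩
  · obtain ⟨x, hhx, hx⟩ := Cfsg.Agent.Blocks.exists_conj_centralizing_defect hM hB hg hχ hh D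
    obtain ⟨y, hy⟩ := Cfsg.Agent.Blocks.exists_conj_le_sylowImage hhx
      (Cfsg.Agent.Blocks.isPGroup_sylowImage D) hx Q₀
    refine ⟨y⁻¹, Q₀, ?_⟩
    rintro _ ⟨u, hu, rfl⟩
    obtain ⟨v, hv, hvu⟩ := hy hu
    have : ((MulAut.conj y⁻¹).toMonoidHom u) = v := by
      rw [← hvu]; simp [mul_assoc]
    rw [this]
    exact hv

end Cfsg.Agent.S0911
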