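import Cfsg.Statements.S0926
import Cfsg.Agent.Lib.Blocks.Defect
import Cfsg.Agent.Lib.Blocks.Section

set_option autoImplicit false
open Cfsg

namespace Cfsg.Agent.S0926

/-- Let B be a block of the finite group G with defect group D (relative to a maximal ideal M of the algebraic integers containing p), let χ ∈ B have height zero, and let x be a p-element. Then some conjugate of x lies in D if and only if χ does not vanish on the whole p-section of x (the elements whose p-part is conjugate to x). -/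
theorem result {G : Type*} [Group G] [Finite G] (p : ℕ) [Fact p.Prime] (M : Ideal Cfsg.AlgInt) (hM : Cfsg.IsPModular p M) (B : Set (Cfsg.IrrCharacter G)) (hB : Cfsg.IsPBlock M B) (D : Subgroup G) (hD : Cfsg.IsDefectGroup p M B D) (χ : Cfsg.IrrCharacter G) (hχ : χ ∈ B) (h0 : Cfsg.blockHeight p B (χ : G → ℂ) = 0) (x : G) (hx : ∃ k : ℕ, orderOf x = p ^ k) : (∃ g : G, g * x * g⁻¹ ∈ D) ↔ ∃ u : G, (∃ z : G, Cfsg.IsPPart p u z ∧ IsConj x z) ∧ (χ : G → ℂ) u ≠ 0 := by
  classical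
  haveI : Fintype G := Fintype.ofFinite _
  haveI : M.IsPrime := hM.2.1.isPrime
  constructor
  · rintro ⟨g, hg⟩
    obtain ⟨y, hy, P, rfl⟩ := hD
    obtain ⟨k, hk⟩ := hx
    have hyr := Cfsg.Agent.Blocks.IsDefectClass.not_dvd_orderOf hM hB hy
    have hc : Commute (g * x * g⁻¹) y :=
      (Subgroup.mem_centralizer_iff.1 (Cfsg.Agent.Blocks.sylowImage_le P hg) y rfl).symm
    refine ⟨g * x * g⁻¹ * y, ⟨g * x * g⁻¹,
      ⟨y, rfl, hc, ⟨k, ?_⟩, hyr⟩, isConj_iff.2 ⟨g, rfl⟩⟩, ?_⟩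
    · rw [← hk, ← MulAut.conj_apply, MulEquiv.orderOf_eq]
    · intro h
      exact (Cfsg.Agent.Blocks.defect_section_unit hM hB hy P hg).1 χ hχ h0
        (h ▸ Cfsg.Agent.Blocks.memLocalIdeal_zero)
  · rintro ⟨u, ⟨z, hz, hxz⟩, hne⟩
    by_contra hno
    push Not at hno
    refine hne (Cfsg.Agent.Blocks.irr_eq_zero_of_notMem_defect hM hB hχ hz fun E hE hzE => ?_)
    obtain ⟨c, hc⟩ := isConj_iff.1 hxz
    obtain ⟨w, hw⟩ := Cfsg.Agent.Blocks.defectGroup_conj hM hB hD hE
    refine hno (w * c) ?_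
    rw [hw]
    refine ⟨z, hzE, ?_⟩
    simp only [MulEquiv.coe_toMonoidHom, MulAut.conj_apply, ← hc]
    group

end Cfsg.Agent.S0926
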