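import Cfsg.Statements.S0928
import Cfsg.Agent.Lib.Blocks.Misc

set_option autoImplicit false
open Cfsg

namespace Cfsg.Agent.S0928

/-- Let χ be an irreducible character of the finite group G and p a prime. If χ g = 0 for every element g of order p, then the exponent of p in the degree χ(1) equals the exponent of p in the order of G (χ has p-defect zero). -/
theorem result {G : Type*} [Group G] [Finite G] (p : ℕ) [Fact p.Prime] (χ : Cfsg.IrrCharacter G) (hvan : ∀ g : G, orderOf g = p → (χ : G → ℂ) g = 0) : (Cfsg.charDegree (χ : G → ℂ)).factorization p = (Nat.card G).factorization p := by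
  haveI := Fintype.ofFinite G
  obtain ⟨M, hM, hle⟩ := Ideal.exists_le_maximal (Ideal.span {((p : ℕ) : Cfsg.AlgInt)}) (by
    intro h
    obtain ⟨c, hc⟩ := Ideal.mem_span_singleton'.1 ((Ideal.eq_top_iff_one _).1 h)
    have hp := (Fact.out : p.Prime)
    have h1 : IsIntegral ℤ ((1 : ℕ) : ℂ) := by simpa using isIntegral_one
    have hd : IsIntegral ℤ (((1 : ℕ) : ℂ) / (p : ℂ)) := by
      have := congrArg (fun x : Cfsg.AlgInt => (x : ℂ)) hc
      simp at this
      rw [show ((1 : ℕ) : ℂ) / (p : ℂ) = (c : ℂ) by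
        rw [Nat.cast_one, ← this, mul_div_assoc, div_self (Nat.cast_ne_zero.2 hp.ne_zero), mul_one]]
      exact c.2
    exact hp.ne_one (Nat.dvd_one.1 (Cfsg.Agent.Char.dvd_of_isIntegral_div hp.ne_zero hd)))
  have hmod : Cfsg.IsPModular p M :=
    ⟨Fact.out, hM, hle (Ideal.subset_span rfl)⟩
  haveI := Cfsg.Agent.Blocks.IsPModular.isPrime hmod
  exact Cfsg.Agent.Blocks.degExp_of_vanish hmod χ hvan

end Cfsg.Agent.S0928
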