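import Cfsg.Statements.S0941
import Cfsg.Agent.Lib.Blocks.RegularCriterion
import Cfsg.Agent.Lib.Blocks.RegularSum
import Cfsg.Agent.Lib.Char.Degree

set_option autoImplicit false
open Cfsg

namespace Cfsg.Agent.S0941

/-- Let P be a normal p-subgroup of the finite group G such that the index of C_G(P) is a power of p, and fix a maximal ideal M of the algebraic integers containing p. Then (i) two irreducible characters of G ⧸ P lie in the same block if and only if their inflations to G do, and (ii) every block of G contains the inflation of some irreducible character of G ⧸ P; so inflation induces a bijection between the blocks of G ⧸ P and the blocks of G. -/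
theorem result {G : Type*} [Group G] [Finite G] (p : ℕ) [Fact p.Prime] (M : Ideal Cfsg.AlgInt) (hM : Cfsg.IsPModular p M) (P : Subgroup G) [P.Normal] (hP : IsPGroup p P) (hC : ∃ k : ℕ, (Subgroup.centralizer (P : Set G)).index = p ^ k) : (∀ χ ψ : Cfsg.IrrCharacter (G ⧸ P), Cfsg.SameBlock M (χ : G ⧸ P → ℂ) (ψ : G ⧸ P → ℂ) ↔ Cfsg.SameBlock M ((χ : G ⧸ P → ℂ) ∘ QuotientGroup.mk) ((ψ : G ⧸ P → ℂ) ∘ QuotientGroup.mk)) ∧ ∀ B : Set (Cfsg.IrrCharacter G), Cfsg.IsPBlock M B → ∃ χ : Cfsg.IrrCharacter (G ⧸ P), ∃ θ ∈ B, (θ : G → ℂ) = (χ : G ⧸ P → ℂ) ∘ QuotientGroup.mk := by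
  classical
  haveI : Fintype G := Fintype.ofFinite G
  haveI : M.IsPrime := hM.2.1.isPrime
  haveI : Fintype P := Fintype.ofFinite _
  haveI : Fintype (G ⧸ P) := Fintype.ofFinite _
  have hp : p.Prime := hM.1
  obtain ⟨k, hk⟩ := hC
  haveI hCn : (Subgroup.centralizer (P : Set G)).Normal := ⟨fun c hc x => by
    refine Subgroup.mem_centralizer_iff.2 fun u hu => ?_
    have h1 := Subgroup.mem_centralizer_iff.1 hc (x⁻¹ * u * x)
      (by simpa using (inferInstance : P.Normal).conj_mem u hu x⁻¹)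
    calc u * (x * c * x⁻¹) = x * (x⁻¹ * u * x * c) * x⁻¹ := by group
      _ = x * (c * (x⁻¹ * u * x)) * x⁻¹ := by rw [h1]
      _ = x * c * x⁻¹ * u := by group⟩
  have hfix : ∀ g : G, ¬ p ∣ orderOf g → ∀ u ∈ P, Commute g u := by
    intro g hg u hu
    have h1 : orderOf (g : G ⧸ Subgroup.centralizer (P : Set G)) ∣ p ^ k := by
      rw [← hk]; exact orderOf_dvd_natCard _
    have h2 : orderOf (g : G ⧸ Subgroup.centralizer (P : Set G)) ∣ orderOf g :=
      orderOf_map_dvd (QuotientGroup.mk' _) g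
    have h3 : orderOf (g : G ⧸ Subgroup.centralizer (P : Set G)) ∣ Nat.gcd (p ^ k) (orderOf g) :=
      Nat.dvd_gcd h1 h2
    rw [Nat.Coprime.pow_left k (hp.coprime_iff_not_dvd.2 hg), Nat.dvd_one, orderOf_eq_one_iff,
      QuotientGroup.eq_one_iff] at h3
    exact (Subgroup.mem_centralizer_iff.1 h3 u hu).symm
  have hcent : ∀ g : G, ¬ p ∣ orderOf g →
      (Subgroup.centralizer ({(g : G ⧸ P)} : Set (G ⧸ P))).index =
        (Subgroup.centralizer ({g} : Set G)).index := by
    intro g hg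
    rw [← Subgroup.index_comap_of_surjective (f := QuotientGroup.mk' P) _
      (QuotientGroup.mk'_surjective P)]
    congr 1
    ext h
    simp only [Subgroup.mem_comap, Subgroup.mem_centralizer_singleton_iff]
    refine ⟨fun e => ?_, fun e => by rw [QuotientGroup.mk'_apply, ← QuotientGroup.mk_mul, e]; rfl⟩
    rw [QuotientGroup.mk'_apply, ← QuotientGroup.mk_mul, ← QuotientGroup.mk_mul,
      QuotientGroup.eq] at e
    set u := (h * g)⁻¹ * (g * h) with hu
    have hgh : g * h = h * g * u := by rw [hu]; group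
    have hcu : Commute g u := hfix g hg u e
    have hconj : h⁻¹ * g * h = g * u := by rw [mul_assoc, hgh]; group
    obtain ⟨i, hi⟩ := hP ⟨u, e⟩
    have hi' : u ^ p ^ i = 1 := congrArg Subtype.val hi
    have hu1 : u ^ orderOf g = 1 := by
      have h4 : (h⁻¹ * g * h) ^ orderOf g = 1 := by
        have h5 := conj_pow (i := orderOf g) (a := h⁻¹) (b := g)
        rw [inv_inv] at h5
        rw [h5, pow_orderOf_eq_one, mul_one, inv_mul_cancel]
      rwa [hconj, hcu.mul_pow, pow_orderOf_eq_one, one_mul] at h4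
    have h6 : orderOf u ∣ Nat.gcd (p ^ i) (orderOf g) :=
      Nat.dvd_gcd (orderOf_dvd_of_pow_eq_one hi') (orderOf_dvd_of_pow_eq_one hu1)
    rw [Nat.Coprime.pow_left i (hp.coprime_iff_not_dvd.2 hg), Nat.dvd_one, orderOf_eq_one_iff] at h6
    rw [hgh, h6, mul_one]
  have hω : ∀ (χ : Cfsg.IrrCharacter (G ⧸ P)) (g : G), ¬ p ∣ orderOf g →
      centralChar (Cfsg.Agent.CharX.infl P χ : G → ℂ) g = centralChar (χ : G ⧸ P → ℂ) (g : G ⧸ P) := by
    intro χ g hg
    unfold centralChar
    rw [hcent g hg, Cfsg.Agent.CharX.infl_apply, Cfsg.Agent.CharX.infl_apply]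
    rfl
  refine ⟨fun χ ψ => ⟨fun h => ?_, fun h => ?_⟩, fun B hB => ?_⟩
  · refine Cfsg.Agent.Blocks.sameBlock_of_regular hM (χ := Cfsg.Agent.CharX.infl P χ)
      (ψ := Cfsg.Agent.CharX.infl P ψ) fun g hg => ?_
    rw [hω χ g hg, hω ψ g hg]
    exact h _
  · refine Cfsg.Agent.Blocks.sameBlock_of_regular hM fun q hq => ?_
    obtain ⟨g₀, rfl⟩ := QuotientGroup.mk_surjective q
    set N := Nat.card G
    have hcop : Nat.Coprime (p ^ N.factorization p) (orderOf (g₀ : G ⧸ P)) :=
      Nat.Coprime.pow_left _ (hp.coprime_iff_not_dvd.2 hq)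
    obtain ⟨m, hm1, hm2⟩ := Nat.chineseRemainder hcop 0 1
    obtain ⟨c, rfl⟩ := Nat.modEq_zero_iff_dvd.1 hm1
    have hg : ¬ p ∣ orderOf (g₀ ^ (p ^ N.factorization p * c)) := by
      intro hd
      have h1 : (g₀ ^ (p ^ N.factorization p * c)) ^ (N / p ^ N.factorization p) = 1 := by
        rw [← pow_mul, show p ^ N.factorization p * c * (N / p ^ N.factorization p) =
          (p ^ N.factorization p * (N / p ^ N.factorization p)) * c by ring,
          Nat.ordProj_mul_ordCompl_eq_self, pow_mul, pow_card_eq_one', one_pow]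
      exact Nat.not_dvd_ordCompl hp Nat.card_pos.ne' (hd.trans (orderOf_dvd_of_pow_eq_one h1))
    have hgq : ((g₀ ^ (p ^ N.factorization p * c) : G) : G ⧸ P) = (g₀ : G ⧸ P) := by
      rw [QuotientGroup.mk_pow, pow_eq_pow_iff_modEq.2 hm2, pow_one]
    rw [← hgq, ← hω χ _ hg, ← hω ψ _ hg]
    exact h _
  · have hex : ∃ θ ∈ B, ∀ u ∈ P, (θ : G → ℂ) u = (θ : G → ℂ) 1 := by
      by_contra hne
      push Not at hne
      have h1 : Cfsg.blockCoeff B (1 : G) = 0 := by
        have : ∑ u : P, Cfsg.blockCoeff B (u : G) = Cfsg.blockCoeff B 1 := by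
          refine (Finset.sum_eq_single (1 : P) (fun u _ hu => ?_) (by simp)).trans (by simp)
          refine Cfsg.Agent.Blocks.blockCoeff_eq_zero_of_singular hM hB ?_
          obtain ⟨i, hi⟩ := (IsPGroup.iff_orderOf).1 hP u
          rw [Subgroup.orderOf_coe, hi]
          refine dvd_pow_self p fun h => hu ?_
          rwa [h, pow_zero, orderOf_eq_one_iff] at hi
        rw [← this]
        simp only [Cfsg.Agent.Blocks.blockCoeff_eq_sum, ← Finset.mul_sum]
        rw [Finset.sum_comm, Finset.sum_eq_zero, mul_zero]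
        intro χ hχ
        have := Cfsg.Agent.CharX.sum_coset_eq_zero χ.2 P (hne χ (Finset.mem_filter.1 hχ).2) 1
        simp only [one_mul] at this
        rw [← Finset.mul_sum, ← map_sum, this, map_zero, mul_zero]
      obtain ⟨χ, hχ⟩ := Cfsg.Agent.Blocks.isPBlock_nonempty hB
      rw [Cfsg.Agent.Blocks.blockCoeff_eq_sum, mul_eq_zero] at h1
      rcases h1 with h1 | h1
      · exact (inv_ne_zero (Nat.cast_ne_zero.2 Nat.card_pos.ne')) h1
      · simp only [Cfsg.Agent.Blocks.irr_one_eq_charDegree, map_natCast] at h1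
        have h2 : ∑ ψ ∈ Finset.univ.filter (· ∈ B),
            Cfsg.charDegree (ψ : G → ℂ) * Cfsg.charDegree (ψ : G → ℂ) = 0 := by exact_mod_cast h1
        have := (Finset.sum_eq_zero_iff.1 h2) χ (Finset.mem_filter.2 ⟨Finset.mem_univ _, hχ⟩)
        exact (Nat.mul_pos (Cfsg.Agent.Blocks.charDegree_pos χ) (Cfsg.Agent.Blocks.charDegree_pos χ)).ne' this
    obtain ⟨θ, hθ, htriv⟩ := hex
    obtain ⟨χ, hχ⟩ := (Cfsg.Agent.CharX.quotEquiv P).surjective ⟨θ, htriv⟩
    exact ⟨χ, θ, hθ, (congrArg (fun x => ((x.1 : Cfsg.IrrCharacter G) : G → ℂ)) hχ).symm⟩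

end Cfsg.Agent.S0941
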