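import Cfsg.Statements.S0945
import Mathlib.GroupTheory.Sylow
import Mathlib.GroupTheory.Perm.Sign
import Mathlib.Data.Fintype.Perm

set_option autoImplicit false
open Cfsg

namespace Cfsg.Agent.S0945

variable {G : Type*} [Group G] [Finite G]

/-- An element of odd order modulo the centralizer fixing the involutions fixes everything. -/
theorem fix_all {P : Subgroup G} (hab : ∀ a ∈ P, ∀ b ∈ P, a * b = b * a) {g : G}
    (hg : g ∈ Subgroup.normalizer (P : Set G)) {n : ℕ} (hn : Odd n)
    (hgn : g ^ n ∈ Subgroup.centralizer (P : Set G))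
    (hfix : ∀ z ∈ P, z * z = 1 → g * z * g⁻¹ = z) :
    ∀ (k : ℕ), ∀ z ∈ P, z ^ 2 ^ k = 1 → g * z * g⁻¹ = z := by
  intro k
  induction k with
  | zero =>
    intro z _ h
    rw [pow_zero, pow_one] at h
    subst h
    group
  | succ k ih =>
    intro z hz h
    rw [pow_succ', pow_mul, pow_two] at h
    have h2 := ih (z * z) (mul_mem hz hz) h
    have hgz : g * z * g⁻¹ ∈ P := (Subgroup.mem_normalizer_iff.1 hg z).1 hz
    set w := g * z * g⁻¹ * z⁻¹ with hw
    have hwP : w ∈ P := mul_mem hgz (inv_mem hz)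
    have hw2 : w * w = 1 := by
      have e : g * z * g⁻¹ * (g * z * g⁻¹) = z * z := by
        rw [show g * z * g⁻¹ * (g * z * g⁻¹) = g * (z * z) * g⁻¹ by group, h2]
      calc w * w = g * z * g⁻¹ * (z⁻¹ * (g * z * g⁻¹)) * z⁻¹ := by rw [hw]; group
        _ = g * z * g⁻¹ * ((g * z * g⁻¹) * z⁻¹) * z⁻¹ := by rw [hab _ (inv_mem hz) _ hgz]
        _ = g * z * g⁻¹ * (g * z * g⁻¹) * (z * z)⁻¹ := by group
        _ = 1 := by rw [e, mul_inv_cancel]
    have hgw : g * w * g⁻¹ = w := hfix w hwP hw2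
    have hiter : ∀ j : ℕ, g ^ j * z * (g ^ j)⁻¹ = w ^ j * z := by
      intro j
      induction j with
      | zero => simp
      | succ j ihj =>
        calc g ^ (j + 1) * z * (g ^ (j + 1))⁻¹ = g * (g ^ j * z * (g ^ j)⁻¹) * g⁻¹ := by
              rw [pow_succ', mul_inv_rev]; group
          _ = g * w ^ j * g⁻¹ * (g * z * g⁻¹) := by rw [ihj]; group
          _ = w ^ j * (w * z) := by
              rw [← conj_pow, hgw]
              congr 1
              rw [hw]
              group
          _ = w ^ (j + 1) * z := by rw [pow_succ, mul_assoc (w ^ j)]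
    have h3 := hiter n
    rw [← Subgroup.mem_centralizer_iff.1 hgn z hz, mul_inv_cancel_right, right_eq_mul] at h3
    obtain ⟨j, rfl⟩ := hn
    rw [pow_succ, pow_mul, pow_two, hw2, one_pow, one_mul, hw, mul_inv_eq_one] at h3
    exact h3

theorem two_mul_eq_zero {n : ℕ} [NeZero n] {y : ZMod n} (h : y + y = 0) :
    y.val = 0 ∨ 2 * y.val = n := by
  have h1 := congrArg ZMod.val h
  rw [ZMod.val_add, ZMod.val_zero] at h1
  have h2 := ZMod.val_lt y
  rcases Nat.lt_or_ge (y.val + y.val) n with h3 | h3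
  · rw [Nat.mod_eq_of_lt h3] at h1
    omega
  · rw [Nat.mod_eq_sub_mod h3, Nat.mod_eq_of_lt (by omega)] at h1
    omega

theorem card_invol_le {P : Subgroup G} (n : ℕ) [NeZero n]
    (e : P ≃* Multiplicative (ZMod n × ZMod n)) :
    Nat.card {z : G // z ∈ P ∧ z * z = 1 ∧ z ≠ 1} ≤ 3 := by
  classical
  haveI : Fintype {z : G // z ∈ P ∧ z * z = 1 ∧ z ≠ 1} := Fintype.ofFinite _
  let c : ZMod n → Bool := fun y => decide (y.val = 0)
  let f : {z : G // z ∈ P ∧ z * z = 1 ∧ z ≠ 1} → {q : Bool × Bool // q ≠ (true, true)} := fun z =>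
    ⟨(c (e ⟨z.1, z.2.1⟩).toAdd.1, c (e ⟨z.1, z.2.1⟩).toAdd.2), fun h => by
      obtain ⟨h1, h2⟩ := Prod.mk.injEq _ _ _ _ ▸ h
      rw [decide_eq_true_iff, ZMod.val_eq_zero] at h1 h2
      refine z.2.2.2 (congrArg Subtype.val ((e.map_eq_one_iff (x := ⟨z.1, z.2.1⟩)).1 ?_) :)
      exact Multiplicative.toAdd.injective (Prod.ext h1 h2)⟩
  have hsq : ∀ z : {z : G // z ∈ P ∧ z * z = 1 ∧ z ≠ 1},
      (e ⟨z.1, z.2.1⟩).toAdd + (e ⟨z.1, z.2.1⟩).toAdd = 0 := fun z => by
    rw [← toAdd_mul, ← map_mul,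
      show (⟨z.1, z.2.1⟩ * ⟨z.1, z.2.1⟩ : P) = 1 from Subtype.ext z.2.2.1, map_one, toAdd_one]
  have heq : ∀ a b : ZMod n, a + a = 0 → b + b = 0 → c a = c b → a = b := by
    intro a b ha hb h
    refine ZMod.val_injective _ ?_
    simp only [c, decide_eq_decide] at h
    rcases two_mul_eq_zero ha with ha' | ha' <;> rcases two_mul_eq_zero hb with hb' | hb' <;> omega
  have hf : Function.Injective f := fun a b h => by
    have h' := congrArg Subtype.val h
    simp only [f, Prod.mk.injEq] at h'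
    exact Subtype.ext (congrArg Subtype.val (e.injective (Multiplicative.toAdd.injective (Prod.ext
      (heq _ _ (congrArg Prod.fst (hsq a) :) (congrArg Prod.fst (hsq b) :) h'.1)
      (heq _ _ (congrArg Prod.snd (hsq a) :) (congrArg Prod.snd (hsq b) :) h'.2)))) :)
  refine (Nat.card_le_card_of_injective f hf).trans ?_
  rw [Nat.card_eq_fintype_card]
  rfl


/-- Let P be a Sylow 2-subgroup of the finite group G isomorphic to Z/2^m × Z/2^m with m ≥ 1. Then (i) the index of C_G(P) in N_G(P) is 1 or 3, and (ii) if it is not 1, then for every z ≠ 1 in P, C_G(z) ∩ N_G(P) = C_G(P). -/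
theorem result {G : Type*} [Group G] [Finite G] (P : Sylow 2 G) (m : ℕ) (hm : 1 ≤ m) (e : (P : Subgroup G) ≃* Multiplicative (ZMod (2 ^ m) × ZMod (2 ^ m))) : ((Subgroup.centralizer (P : Set G)).relIndex (Subgroup.normalizer (P : Set G)) = 1 ∨ (Subgroup.centralizer (P : Set G)).relIndex (Subgroup.normalizer (P : Set G)) = 3) ∧ ((Subgroup.centralizer (P : Set G)).relIndex (Subgroup.normalizer (P : Set G)) ≠ 1 → ∀ z ∈ (P : Subgroup G), z ≠ 1 → Subgroup.centralizer ({z} : Set G) ⊓ Subgroup.normalizer (P : Set G) = Subgroup.centralizer (P : Set G)) := by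
  classical
  haveI : Fact (Nat.Prime 2) := ⟨Nat.prime_two⟩
  haveI : NeZero (2 ^ m) := ⟨(pow_pos two_pos m).ne'⟩
  let X := {z : G // z ∈ (P : Subgroup G) ∧ z * z = 1 ∧ z ≠ 1}
  haveI : Fintype X := Fintype.ofFinite X
  set N := Subgroup.normalizer (P : Set G) with hN
  set C := Subgroup.centralizer (P : Set G) with hC
  have hab : ∀ a ∈ (P : Subgroup G), ∀ b ∈ (P : Subgroup G), a * b = b * a := fun a ha b hb =>
    congrArg Subtype.val (e.injective (by rw [map_mul, map_mul, mul_comm]) :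
      (⟨a, ha⟩ * ⟨b, hb⟩ : (P : Subgroup G)) = ⟨b, hb⟩ * ⟨a, ha⟩)
  have hPC : (P : Subgroup G) ≤ C := fun a ha =>
    Subgroup.mem_centralizer_iff.2 fun b hb => hab b hb a ha
  haveI hCn : (C.subgroupOf N).Normal := by
    rw [hC, hN, show (P : Set G) = ((P : Subgroup G) : Set G) from rfl,
      ← Subgroup.normalizerMonoidHom_ker]
    infer_instance
  have hodd : Odd (C.relIndex N) := by
    refine Odd.of_dvd_nat ?_ (Subgroup.relIndex_dvd_of_le_left N hPC)
    refine Odd.of_dvd_nat ?_ (Subgroup.relIndex_dvd_index_of_le Subgroup.le_normalizer)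
    exact Nat.odd_iff.2 (Nat.two_dvd_ne_zero.1 P.not_dvd_index)
  let act : N →* Equiv.Perm X :=
    { toFun := fun g =>
        { toFun := fun z => ⟨(g : G) * z.1 * (g : G)⁻¹,
            (Subgroup.mem_normalizer_iff.1 g.2 z.1).1 z.2.1,
            by rw [show (g : G) * z.1 * (g : G)⁻¹ * ((g : G) * z.1 * (g : G)⁻¹) =
              (g : G) * (z.1 * z.1) * (g : G)⁻¹ by group, z.2.2.1]; group,
            fun h => z.2.2.2 (conj_eq_one_iff.1 h)⟩
          invFun := fun z => ⟨(g : G)⁻¹ * z.1 * (g : G), by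
              have := (Subgroup.mem_normalizer_iff.1 (inv_mem g.2) z.1).1 z.2.1
              rwa [inv_inv] at this,
            by rw [show (g : G)⁻¹ * z.1 * (g : G) * ((g : G)⁻¹ * z.1 * (g : G)) =
              (g : G)⁻¹ * (z.1 * z.1) * (g : G) by group, z.2.2.1]; group,
            fun h => z.2.2.2 (by
              calc z.1 = (g : G) * ((g : G)⁻¹ * z.1 * (g : G)) * (g : G)⁻¹ := by group
                _ = 1 := by rw [h]; group)⟩
          left_inv := fun z => Subtype.ext (by simp [mul_assoc])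
          right_inv := fun z => Subtype.ext (by simp [mul_assoc]) }
      map_one' := Equiv.ext fun z => Subtype.ext (by simp)
      map_mul' := fun a b => Equiv.ext fun z => Subtype.ext (by simp [mul_assoc]) }
  have hker : act.ker = C.subgroupOf N := by
    ext g
    rw [MonoidHom.mem_ker, Subgroup.mem_subgroupOf]
    constructor
    · intro h
      have hgn : (g : G) ^ C.relIndex N ∈ C :=
        Subgroup.mem_subgroupOf.1 ((C.subgroupOf N).pow_index_mem g)
      have hfix : ∀ z ∈ (P : Subgroup G), z * z = 1 → (g : G) * z * (g : G)⁻¹ = z := by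
        intro z hz hz2
        rcases eq_or_ne z 1 with rfl | hz1
        · group
        · exact congrArg Subtype.val (Equiv.ext_iff.1 h ⟨z, hz, hz2, hz1⟩)
      refine Subgroup.mem_centralizer_iff.2 fun z hz => ?_
      obtain ⟨k, hk⟩ := IsPGroup.iff_orderOf.1 P.isPGroup' ⟨z, hz⟩
      rw [Subgroup.orderOf_mk] at hk
      have := fix_all hab g.2 hodd hgn hfix k z hz (by rw [← hk, pow_orderOf_eq_one])
      exact (mul_inv_eq_iff_eq_mul.1 this).symm
    · intro h
      refine Equiv.ext fun z => Subtype.ext ?_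
      show (g : G) * z.1 * (g : G)⁻¹ = z.1
      rw [← Subgroup.mem_centralizer_iff.1 h z.1 z.2.1, mul_inv_cancel_right]
  have hidx : C.relIndex N = Nat.card act.range := by
    rw [Subgroup.relIndex, ← hker, Subgroup.index_ker]
  have hX := card_invol_le (2 ^ m) e
  replace hX : Fintype.card X ≤ 3 := by rw [← Nat.card_eq_fintype_card]; exact hX
  have hdvd : C.relIndex N ∣ 6 := by
    rw [hidx]
    refine (Subgroup.card_subgroup_dvd_card _).trans ?_
    rw [Nat.card_eq_fintype_card, Fintype.card_perm]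
    exact Nat.factorial_dvd_factorial hX
  have h13 : C.relIndex N = 1 ∨ C.relIndex N = 3 := by
    have h6 := Nat.le_of_dvd (by norm_num) hdvd
    obtain ⟨j, hj⟩ := hodd
    rcases (show C.relIndex N = 1 ∨ C.relIndex N = 3 ∨ C.relIndex N = 5 by omega) with h | h | h
    · exact Or.inl h
    · exact Or.inr h
    · rw [h] at hdvd
      norm_num at hdvd
  refine ⟨h13, fun hne z hz hz1 => le_antisymm ?_ ?_⟩
  · rintro g ⟨hgz, hgN⟩
    obtain ⟨k, hk⟩ := IsPGroup.iff_orderOf.1 P.isPGroup' ⟨z, hz⟩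
    rw [Subgroup.orderOf_mk] at hk
    obtain ⟨k, rfl⟩ : ∃ j, k = j + 1 := ⟨k - 1, by
      rcases k with _ | k
      · exact absurd (orderOf_eq_one_iff.1 hk) hz1
      · omega⟩
    let w : X := ⟨z ^ 2 ^ k, pow_mem hz _, by rw [← pow_add, ← two_mul, ← pow_succ', ← hk,
      pow_orderOf_eq_one], fun h => by
      have := Nat.le_of_dvd (pow_pos Nat.two_pos k) (hk ▸ orderOf_dvd_of_pow_eq_one h)
      rw [pow_succ] at this
      have := pow_pos Nat.two_pos k
      omega⟩
    set σ := act ⟨g, hgN⟩ with hσ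
    have hw : σ w = w := Subtype.ext (by
      show g * z ^ 2 ^ k * g⁻¹ = z ^ 2 ^ k
      rw [← conj_pow, (Subgroup.mem_centralizer_singleton_iff.1 hgz), mul_inv_cancel_right])
    have hinv : ∀ y, σ (σ y) = y := by
      intro y
      by_cases hyw : y = w
      · rw [hyw, hw, hw]
      by_cases hy : σ y = y
      · rw [hy, hy]
      by_contra hne'
      have hnd : [w, y, σ y, σ (σ y)].Nodup := by
        have h1 : σ y ≠ w := fun h => hyw (σ.injective (h.trans hw.symm))
        have h2 : σ (σ y) ≠ w := fun h => h1 (σ.injective (h.trans hw.symm))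
        have h3 : σ (σ y) ≠ σ y := fun h => hy (σ.injective h)
        simp [Ne.symm hyw, Ne.symm h1, Ne.symm h2, Ne.symm hy, Ne.symm hne', Ne.symm h3]
      have h4 := hnd.length_le_card
      simp only [List.length_cons, List.length_nil] at h4
      omega
    have h3 : σ ^ 3 = 1 := by
      have := pow_card_eq_one' (G := act.range) (x := ⟨σ, ⟨_, rfl⟩⟩)
      rw [← hidx, h13.resolve_left hne] at this
      exact congrArg Subtype.val this
    have hone : σ = 1 := by
      rw [← h3]
      refine Equiv.ext fun y => ?_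
      show σ y = σ (σ (σ y))
      rw [hinv]
    exact Subgroup.mem_subgroupOf.1 (hker.le (MonoidHom.mem_ker.2 hone) : (⟨g, hgN⟩ : N) ∈ C.subgroupOf N)
  · intro g hg
    refine ⟨Subgroup.mem_centralizer_singleton_iff.2 (Subgroup.mem_centralizer_iff.1 hg z hz).symm, ?_⟩
    exact Subgroup.centralizer_le_normalizer _ hg

end Cfsg.Agent.S0945
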