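import Cfsg.Statements.S0946
import Mathlib.GroupTheory.Transfer
import Mathlib.GroupTheory.Sylow

set_option autoImplicit false
open Cfsg

namespace Cfsg.Agent.S0946

theorem fix_all_of_fix_invol {P : Type*} [CommGroup P] [Finite P] (hP : IsPGroup 2 P) (σ : MulAut P)
    (hodd : Odd (orderOf σ)) (hfix : ∀ y : P, y * y = 1 → σ y = y) : ∀ x : P, σ x = x := by
  intro x
  obtain ⟨i, hi⟩ := hP x
  induction i generalizing x with
  | zero => rw [pow_zero, pow_one] at hi; rw [hi, map_one]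
  | succ i ih =>
    have h2 : σ (x * x) = x * x := ih (x * x) (by rw [← pow_two, ← pow_mul, ← pow_succ', hi])
    set d := σ x * x⁻¹ with hd
    have hd2 : d * d = 1 := by
      rw [hd, mul_mul_mul_comm, ← map_mul, h2, ← mul_inv_rev, mul_inv_cancel]
    have hdf : σ d = d := hfix d hd2
    have hσx : σ x = d * x := by rw [hd, inv_mul_cancel_right]
    have hpow : ∀ n : ℕ, (σ ^ n) x = d ^ n * x := by
      intro n
      induction n with
      | zero => simp
      | succ n ihn =>
        rw [pow_succ', MulAut.mul_apply, ihn, map_mul, map_pow, hdf, hσx, ← mul_assoc, pow_succ]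
    obtain ⟨j, hj⟩ := hodd
    have h := hpow (orderOf σ)
    rw [pow_orderOf_eq_one, MulAut.one_apply, right_eq_mul, hj, pow_succ, pow_mul, pow_two, hd2,
      one_pow, one_mul] at h
    rw [hσx, h, one_mul]

theorem zmod_two_torsion (m : ℕ) (hm : 1 ≤ m) (x : ZMod (2 ^ m)) (hx : x + x = 0) :
    x = 0 ∨ x = ((2 ^ (m - 1) : ℕ) : ZMod (2 ^ m)) := by
  haveI : NeZero (2 ^ m) := ⟨by positivity⟩
  obtain ⟨n, rfl⟩ : ∃ n, m = n + 1 := ⟨m - 1, by omega⟩
  have hlt := ZMod.val_lt x
  have hdvd : 2 ^ (n + 1) ∣ 2 * x.val := by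
    rw [← ZMod.natCast_eq_zero_iff]
    push_cast
    rw [ZMod.natCast_val, ZMod.cast_id, two_mul, hx]
  have hp : 2 ^ (n + 1) = 2 * 2 ^ n := pow_succ' 2 n
  obtain ⟨v, hv⟩ : ∃ v, v = x.val := ⟨_, rfl⟩
  rw [← hv, hp] at hdvd hlt
  obtain ⟨c, hc⟩ := Nat.dvd_of_mul_dvd_mul_left two_pos hdvd
  have hc2 : c < 2 := by
    by_contra h
    have : 2 * 2 ^ n ≤ 2 ^ n * c := by rw [mul_comm 2]; exact Nat.mul_le_mul_left _ (by omega)
    omega
  interval_cases c
  · exact Or.inl ((ZMod.val_eq_zero x).1 (by rw [← hv, hc, mul_zero]))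
  · refine Or.inr ?_
    rw [Nat.add_sub_cancel, ← mul_one (2 ^ n), ← hc, hv, ZMod.natCast_val, ZMod.cast_id]

/-- Let P be a Sylow 2-subgroup of the finite group G isomorphic to Z/2^m × Z/2^m with m ≥ 1. Then either P has a normal complement in G, or all involutions of G are conjugate. -/
theorem result {G : Type*} [Group G] [Finite G] (P : Sylow 2 G) (m : ℕ) (hm : 1 ≤ m) (e : (P : Subgroup G) ≃* Multiplicative (ZMod (2 ^ m) × ZMod (2 ^ m))) : (∃ N : Subgroup G, N.Normal ∧ Subgroup.IsComplement' N (P : Subgroup G)) ∨ ∀ s t : G, orderOf s = 2 → orderOf t = 2 → IsConj s t := by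
  classical
  haveI : Fact (Nat.Prime 2) := ⟨Nat.prime_two⟩
  have hcm : ∀ x y : (P : Subgroup G), x * y = y * x := fun x y =>
    e.injective (by rw [map_mul, map_mul, mul_comm])
  haveI : IsMulCommutative (P : Subgroup G) := ⟨⟨hcm⟩⟩
  letI : CommGroup (P : Subgroup G) := { (inferInstance : Group (P : Subgroup G)) with mul_comm := hcm }
  by_cases hle : Subgroup.normalizer ((P : Subgroup G) : Set G) ≤ Subgroup.centralizer ((P : Subgroup G) : Set G)
  · exact Or.inl ⟨_, MonoidHom.normal_ker _, MonoidHom.ker_transferSylow_isComplement' P hle⟩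
  refine Or.inr ?_
  obtain ⟨g, hgN, hgC⟩ := SetLike.not_le_iff_exists.1 hle
  set N := Subgroup.normalizer ((P : Subgroup G) : Set G) with hN
  let c := Subgroup.normalizerMonoidHom (P : Subgroup G)
  set σ : MulAut (P : Subgroup G) := c ⟨g, hgN⟩ with hσ
  have hcapp : ∀ (n : N) (x : (P : Subgroup G)), ((c n x : (P : Subgroup G)) : G) = (n : G) * x * (n : G)⁻¹ :=
    fun n x => rfl
  have hodd : Odd (orderOf σ) := by
    have h1 : orderOf σ ∣ Nat.card c.range := by
      rw [← Subgroup.orderOf_mk σ (H := c.range) ⟨_, rfl⟩]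
      exact orderOf_dvd_natCard _
    have hker : (P : Subgroup G).subgroupOf N ≤ c.ker := fun n hn =>
      MonoidHom.mem_ker.2 (MulEquiv.ext fun x => Subtype.ext (by
        rw [hcapp, MulAut.one_apply,
          show (n : G) * x = x * n from congrArg Subtype.val (hcm ⟨n, Subgroup.mem_subgroupOf.1 hn⟩ x),
          mul_inv_cancel_right]))
    have h2 : Nat.card c.range ∣ ((P : Subgroup G).subgroupOf N).index := by
      rw [← Subgroup.index_ker]
      exact Subgroup.index_dvd_of_le hker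
    rw [← Nat.not_even_iff_odd]
    intro he
    refine P.not_dvd_index ?_
    exact (he.two_dvd.trans (h1.trans h2)).trans
      (Subgroup.relIndex_dvd_index_of_le Subgroup.le_normalizer)
  have hne : ∃ x, σ x ≠ x := by
    by_contra! h
    refine hgC (Subgroup.mem_centralizer_iff.2 fun x hx => ?_)
    have h' : g * x * g⁻¹ = x := by
      rw [← hcapp ⟨g, hgN⟩ ⟨x, hx⟩]
      exact congrArg Subtype.val (h ⟨x, hx⟩)
    exact (mul_inv_eq_iff_eq_mul.1 h').symm
  obtain ⟨y0, hy0, hy0'⟩ : ∃ y, y * y = 1 ∧ σ y ≠ y := by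
    by_contra! h
    obtain ⟨x, hx⟩ := hne
    exact hx (fix_all_of_fix_invol P.isPGroup' σ hodd h x)
  -- at most three involutions
  obtain ⟨Z, hZc, hZm⟩ : ∃ Z : Finset (P : Subgroup G), Z.card ≤ 4 ∧ ∀ y, y * y = 1 → y ∈ Z := by
    let h : ZMod (2 ^ m) := ((2 ^ (m - 1) : ℕ) : ZMod (2 ^ m))
    refine ⟨(({0, h} : Finset (ZMod (2 ^ m))) ×ˢ ({0, h} : Finset (ZMod (2 ^ m)))).image
      (fun q => e.symm (Multiplicative.ofAdd q)), Finset.card_image_le.trans ?_, fun y hy => ?_⟩
    · rw [Finset.card_product]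
      exact le_trans (Nat.mul_le_mul Finset.card_le_two Finset.card_le_two) le_rfl
    · refine Finset.mem_image.2 ⟨(e y).toAdd, ?_, by simp⟩
      have h2 : (e y).toAdd + (e y).toAdd = 0 := by rw [← toAdd_mul, ← map_mul, hy, map_one]; rfl
      rw [Finset.mem_product]
      constructor <;> simp only [Finset.mem_insert, Finset.mem_singleton]
      · exact zmod_two_torsion m hm _ (congrArg Prod.fst h2)
      · exact zmod_two_torsion m hm _ (congrArg Prod.snd h2)
  have hσσ : σ (σ y0) ≠ y0 := fun h => hy0' (by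
    obtain ⟨j, hj⟩ := hodd
    have h2 : ∀ i : ℕ, (σ ^ (2 * i)) y0 = y0 := by
      intro i
      induction i with
      | zero => rfl
      | succ i ih => rw [mul_add, pow_add, MulAut.mul_apply, show (σ ^ (2 * 1)) y0 = y0 by
          rw [mul_one, pow_two, MulAut.mul_apply, h], ih]
    have h3 := h2 (j + 1)
    rwa [show 2 * (j + 1) = orderOf σ + 1 by omega, pow_succ, pow_orderOf_eq_one, one_mul] at h3)
  have hne1 : ∀ i : ℕ, (σ ^ i) y0 ≠ 1 := fun i h => hy0' (by
    rw [show y0 = 1 from (σ ^ i).injective (h.trans (map_one _).symm), map_one])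
  have horb : ∀ y, y * y = 1 → y ≠ 1 → ∃ i : ℕ, (σ ^ i) y0 = y := by
    intro y hy hy1
    by_contra! h
    have hσ2 : ∀ z, z * z = 1 → σ z * σ z = 1 := fun z hz => by rw [← map_mul, hz, map_one]
    have hsub : ({1, y0, σ y0, σ (σ y0), y} : Finset (P : Subgroup G)) ⊆ Z := by
      intro z hz
      simp only [Finset.mem_insert, Finset.mem_singleton] at hz
      rcases hz with rfl | rfl | rfl | rfl | rfl
      exacts [hZm _ (one_mul 1), hZm _ hy0, hZm _ (hσ2 _ hy0), hZm _ (hσ2 _ (hσ2 _ hy0)), hZm _ hy]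
    have hcard := (Finset.card_le_card hsub).trans hZc
    have e0 : y ≠ y0 := fun e => h 0 (by simp [e])
    have e1 : y ≠ σ y0 := fun e => h 1 (by simp [e])
    have e2 : y ≠ σ (σ y0) := fun e => h 2 (by simp [pow_two, MulAut.mul_apply, e])
    have f0 : y0 ≠ 1 := by simpa using hne1 0
    have f1 : σ y0 ≠ 1 := by simpa using hne1 1
    have f2 : σ (σ y0) ≠ 1 := by simpa [pow_two, MulAut.mul_apply] using hne1 2
    have g1 : σ (σ y0) ≠ σ y0 := fun e => hy0' (σ.injective e)
    rw [Finset.card_insert_of_notMem, Finset.card_insert_of_notMem, Finset.card_insert_of_notMem,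
      Finset.card_insert_of_notMem, Finset.card_singleton] at hcard
    · omega
    all_goals simp [f0.symm, f1.symm, f2.symm, hy1.symm, hy0'.symm, hσσ.symm, e0.symm, e1.symm,
      e2.symm, g1.symm]
  have hconjP : ∀ s, orderOf s = 2 → IsConj s ((y0 : (P : Subgroup G)) : G) := by
    intro s hs
    have hs2 : IsPGroup 2 (Subgroup.zpowers s) := IsPGroup.of_card (n := 1) (by rw [Nat.card_zpowers, hs, pow_one])
    obtain ⟨Q, hQ⟩ := hs2.exists_le_sylow
    obtain ⟨k, hk⟩ := MulAction.exists_smul_eq G Q P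
    have hmem : k * s * k⁻¹ ∈ (P : Subgroup G) := by
      rw [← hk, Sylow.coe_subgroup_smul, Subgroup.mem_pointwise_smul_iff_inv_smul_mem]
      simpa [mul_assoc] using hQ (Subgroup.mem_zpowers s)
    refine (isConj_iff.2 ⟨k, rfl⟩ : IsConj s (k * s * k⁻¹)).trans ?_
    have hsq : s * s = 1 := by rw [← pow_two, ← hs, pow_orderOf_eq_one]
    have hy : (⟨_, hmem⟩ : (P : Subgroup G)) * ⟨_, hmem⟩ = 1 := Subtype.ext (by
      show k * s * k⁻¹ * (k * s * k⁻¹) = 1
      rw [show k * s * k⁻¹ * (k * s * k⁻¹) = k * (s * s) * k⁻¹ by group, hsq, mul_one, mul_inv_cancel])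
    have hy1 : (⟨_, hmem⟩ : (P : Subgroup G)) ≠ 1 := fun e' => by
      rw [Subtype.ext_iff] at e'
      have := conj_eq_one_iff.1 e'
      rw [this, orderOf_one] at hs
      omega
    obtain ⟨i, hi⟩ := horb _ hy hy1
    refine (isConj_iff.2 ⟨(((⟨g, hgN⟩ : N) ^ i : N) : G), ?_⟩ :
      IsConj ((y0 : (P : Subgroup G)) : G) (k * s * k⁻¹)).symm
    rw [← hcapp, map_pow, ← hσ, hi]
  intro s t hs ht
  exact (hconjP s hs).trans (hconjP t ht).symm

end Cfsg.Agent.S0946
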