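import Cfsg.Statements.S0950
import Cfsg.Agent.Lib.TwoGroups.OddAction

set_option autoImplicit false
open Cfsg

namespace Cfsg.Agent.S0950

theorem q8_four : ∀ a b c d : QuaternionGroup 2, a * a ≠ 1 → b * b ≠ 1 → c * c ≠ 1 → d * d ≠ 1 →
    (b = a ∨ b = a * a * a) ∨ (c = a ∨ c = a * a * a) ∨ (d = a ∨ d = a * a * a) ∨
      (c = b ∨ c = b * b * b) ∨ (d = b ∨ d = b * b * b) ∨ (d = c ∨ d = c * c * c) := by
  decide +kernel

theorem q8_invol : ∀ a b : QuaternionGroup 2, a * a = 1 → b * b = 1 → a ≠ 1 → b ≠ 1 → a = b := by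
  decide +kernel

theorem q8_four_pow : ∀ a : QuaternionGroup 2, a ^ 4 = 1 := by decide +kernel

variable {G : Type*} [Group G] [Finite G]

theorem gen_of_four {S A : Subgroup G} (e : S ≃* QuaternionGroup 2) (hA : A ≤ S)
    (hA4 : Nat.card A = 4) :
    ∃ a : S, (a : G) ∈ A ∧ e a * e a ≠ 1 ∧ A = Subgroup.zpowers (a : G) := by
  have hmain : ∃ a : S, (a : G) ∈ A ∧ e a * e a ≠ 1 := by
    by_contra h
    push Not at h
    haveI : Fintype A := Fintype.ofFinite A
    have h1 : ∀ a b : A, a ≠ 1 → b ≠ 1 → a = b := fun a b ha hb => by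
      have := q8_invol _ _ (h ⟨a, hA a.2⟩ a.2) (h ⟨b, hA b.2⟩ b.2)
        (fun he => ha (Subtype.ext (congrArg Subtype.val (e.injective (he.trans (map_one e).symm)) :)))
        (fun he => hb (Subtype.ext (congrArg Subtype.val (e.injective (he.trans (map_one e).symm)) :)))
      exact Subtype.ext (congrArg Subtype.val (e.injective this) :)
    classical
    have h2 : (Finset.univ.erase (1 : A)).card ≤ 1 := Finset.card_le_one.2 fun a ha b hb =>
      h1 a b (Finset.ne_of_mem_erase ha) (Finset.ne_of_mem_erase hb)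
    rw [Finset.card_erase_of_mem (Finset.mem_univ _), Finset.card_univ,
      ← Nat.card_eq_fintype_card, hA4] at h2
    omega
  obtain ⟨a, haA, ha⟩ := hmain
  refine ⟨a, haA, ha, (Subgroup.eq_of_le_of_card_ge (Subgroup.zpowers_le.2 haA) ?_).symm⟩
  rw [hA4, Nat.card_zpowers, Subgroup.orderOf_coe]
  refine (orderOf_eq_prime_pow (p := 2) (n := 1) (fun h => ha ?_) ?_).ge
  · rw [← map_mul, ← pow_two, show a ^ 2 = 1 from h, map_one]
  · apply e.injective
    rw [map_pow, map_one]
    exact q8_four_pow _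

theorem four_subgroups {S : Subgroup G} (e : S ≃* QuaternionGroup 2) {A B C D : Subgroup G}
    (hA : A ≤ S ∧ Nat.card A = 4) (hB : B ≤ S ∧ Nat.card B = 4) (hC : C ≤ S ∧ Nat.card C = 4)
    (hD : D ≤ S ∧ Nat.card D = 4) : B = A ∨ C = A ∨ D = A ∨ C = B ∨ D = B ∨ D = C := by
  obtain ⟨a, -, ha, eA⟩ := gen_of_four e hA.1 hA.2
  obtain ⟨b, -, hb, eB⟩ := gen_of_four e hB.1 hB.2
  obtain ⟨c, -, hc, eC⟩ := gen_of_four e hC.1 hC.2
  obtain ⟨d, -, hd, eD⟩ := gen_of_four e hD.1 hD.2
  have key : ∀ {X Y : Subgroup G} {x y : S}, X = Subgroup.zpowers (x : G) →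
      Y = Subgroup.zpowers (y : G) → Nat.card X = 4 → Nat.card Y = 4 →
      (e y = e x ∨ e y = e x * e x * e x) → Y = X := by
    intro X Y x y hX hY cX cY h
    refine Subgroup.eq_of_le_of_card_ge ?_ (by rw [cX, cY])
    rw [hY, Subgroup.zpowers_le, hX]
    rcases h with h | h
    · rw [e.injective h]
      exact Subgroup.mem_zpowers _
    · rw [← map_mul, ← map_mul] at h
      rw [e.injective h]
      exact mul_mem (mul_mem (Subgroup.mem_zpowers _) (Subgroup.mem_zpowers _))
        (Subgroup.mem_zpowers _)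
  rcases q8_four _ _ _ _ ha hb hc hd with h | h | h | h | h | h
  · exact Or.inl (key eA eB hA.2 hB.2 h)
  · exact Or.inr (Or.inl (key eA eC hA.2 hC.2 h))
  · exact Or.inr (Or.inr (Or.inl (key eA eD hA.2 hD.2 h)))
  · exact Or.inr (Or.inr (Or.inr (Or.inl (key eB eC hB.2 hC.2 h))))
  · exact Or.inr (Or.inr (Or.inr (Or.inr (Or.inl (key eB eD hB.2 hD.2 h)))))
  · exact Or.inr (Or.inr (Or.inr (Or.inr (Or.inr (key eC eD hC.2 hD.2 h)))))


/-- Let S be a Sylow 2-subgroup of the finite group G that is isomorphic to the quaternion group of order 8, and suppose S has no normal complement in G. Then any two subgroups of order 4 of S are conjugate by an element of the normalizer of S. -/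
theorem result {G : Type*} [Group G] [Finite G] (S : Sylow 2 G) (e : (S : Subgroup G) ≃* QuaternionGroup 2) (hnc : ∀ N : Subgroup G, N.Normal → ¬ Subgroup.IsComplement' N (S : Subgroup G)) (A B : Subgroup G) (hA : A ≤ S) (hB : B ≤ S) (hA4 : Nat.card A = 4) (hB4 : Nat.card B = 4) : ∃ n ∈ Subgroup.normalizer ((S : Subgroup G) : Set G), B = A.map (MulAut.conj n).toMonoidHom := by
  classical
  haveI : Fact (Nat.Prime 2) := ⟨Nat.prime_two⟩
  have hS8 : Nat.card (S : Subgroup G) = 8 := by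
    rw [Nat.card_congr e.toEquiv, Nat.card_eq_fintype_card, QuaternionGroup.card]
  -- an element of odd order acting nontrivially on `S`
  obtain ⟨w, hwN, hwodd, hwC⟩ : ∃ w ∈ Subgroup.normalizer ((S : Subgroup G) : Set G),
      Odd (orderOf w) ∧ w ∉ Subgroup.centralizer ((S : Subgroup G) : Set G) := by
    by_contra h
    push Not at h
    have hodd : ∀ E : Subgroup G, E ≤ (S : Subgroup G) → Cfsg.Agent.TwoFus.OddTrivial E := by
      intro E hE w hw hwo
      rcases eq_or_ne E (S : Subgroup G) with rfl | hne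
      · exact h w hw hwo
      obtain ⟨c, hc, hEc⟩ : ∃ c ∈ E, E = Subgroup.zpowers c := by
        have hdvd : Nat.card E ∣ 2 ^ 3 := by
          rw [show (2 : ℕ) ^ 3 = 8 from rfl, ← hS8]
          exact Subgroup.card_dvd_of_le hE
        obtain ⟨k, hk, hk'⟩ := (Nat.dvd_prime_pow Nat.prime_two).1 hdvd
        interval_cases k
        · exact ⟨1, one_mem _, by rw [Subgroup.zpowers_one_eq_bot, Subgroup.card_eq_one.1 hk']⟩
        · rw [pow_one] at hk'
          haveI : IsCyclic E := isCyclic_of_prime_card hk'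
          obtain ⟨c, hc⟩ := IsCyclic.exists_generator (α := E)
          refine ⟨c, c.2, le_antisymm (fun y hy => ?_) (Subgroup.zpowers_le.2 c.2)⟩
          obtain ⟨i, hi⟩ := hc ⟨y, hy⟩
          exact ⟨i, congrArg Subtype.val hi⟩
        · obtain ⟨c, hc, -, hEc⟩ := gen_of_four e hE hk'
          exact ⟨c, hc, hEc⟩
        · exact absurd (Subgroup.eq_of_le_of_card_ge hE (by rw [hS8, hk']; rfl)) hne
      refine Cfsg.Agent.TwoFus.mem_centralizer_of_invariant (S.isPGroup'.to_le hE) hc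
        (fun a ha b hb hna _ => absurd (hEc ▸ ha) hna) hw hwo ?_
      rw [← hEc]
      exact (Subgroup.mem_normalizer_iff.1 hw c).1 hc
    obtain ⟨P, N, hN, hcomp⟩ := Cfsg.Agent.TwoFus.hasNormalPComplement_of_oddTrivial S hodd
    refine hnc N hN (Subgroup.isComplement'_of_coprime ?_ ?_)
    · have h1 := hcomp.card_mul
      rwa [show Nat.card (P : Subgroup G) = Nat.card (S : Subgroup G) by
        rw [Sylow.card_eq_multiplicity, Sylow.card_eq_multiplicity]] at h1
    · have hnd : ¬ 2 ∣ Nat.card N := by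
        rw [← hcomp.index_eq_card]
        exact P.not_dvd_index
      rw [hS8, show (8 : ℕ) = 2 ^ 3 from rfl]
      exact ((Nat.prime_two.coprime_iff_not_dvd).2 hnd).symm.pow_right 3
  let T : ℕ → Subgroup G → Subgroup G := fun k X => X.map (MulAut.conj (w ^ k)).toMonoidHom
  have hT : ∀ k X, X ≤ (S : Subgroup G) ∧ Nat.card X = 4 →
      T k X ≤ (S : Subgroup G) ∧ Nat.card (T k X) = 4 := by
    intro k X hX
    refine ⟨?_, by rw [Subgroup.card_map_of_injective (MulAut.conj (w ^ k)).injective, hX.2]⟩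
    rintro _ ⟨z, hz, rfl⟩
    exact (Subgroup.mem_normalizer_iff.1 (pow_mem hwN k) z).1 (hX.1 hz)
  have hfree : ∀ X : Subgroup G, X ≤ (S : Subgroup G) → Nat.card X = 4 → T 1 X ≠ X := by
    intro X hX hX4 h
    obtain ⟨a, haX, -, hXa⟩ := gen_of_four e hX hX4
    refine hwC (Cfsg.Agent.TwoFus.mem_centralizer_of_invariant S.isPGroup' (hX haX) ?_ hwN hwodd ?_)
    · intro x hx y hy hnx hny
      rw [← hXa] at hnx hny ⊢
      have hi : (X.subgroupOf (S : Subgroup G)).index = 2 := by
        have := (X.subgroupOf (S : Subgroup G)).card_mul_index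
        rw [Nat.card_congr (Subgroup.subgroupOfEquivOfLe hX).toEquiv, hX4, hS8] at this
        omega
      have := (Subgroup.mul_mem_iff_of_index_two hi (a := ⟨x⁻¹, inv_mem hx⟩) (b := ⟨y, hy⟩)).2
        (iff_of_false (fun h => hnx (inv_mem_iff.1 h)) hny)
      exact this
    · rw [← hXa]
      have : MulAut.conj (w ^ 1) (a : G) ∈ T 1 X := ⟨_, haX, rfl⟩
      rwa [h, pow_one] at this
  have hcomp : ∀ i j X, T i (T j X) = T (i + j) X := fun i j X => by
    simp only [T, Subgroup.map_map]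
    congr 1
    ext z
    simp [pow_add, mul_assoc]
  have h2 : ∀ X : Subgroup G, X ≤ (S : Subgroup G) → Nat.card X = 4 → T 2 X ≠ X := by
    intro X hX hX4 h
    obtain ⟨m, hm⟩ := hwodd
    have hiter : ∀ j, T (2 * j) X = X := by
      intro j
      induction j with
      | zero => ext z; simp [T]
      | succ j ih => rw [mul_add, mul_one, ← hcomp, h, ih]
    refine hfree X hX hX4 ?_
    have h3 := hiter (m + 1)
    have e2 : w ^ (2 * (m + 1)) = w ^ 1 := by
      rw [show 2 * (m + 1) = orderOf w + 1 by omega, pow_add, pow_orderOf_eq_one, one_mul]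
    simp only [T, e2] at h3
    exact h3
  obtain ⟨hA1, hA1'⟩ := hT 1 A ⟨hA, hA4⟩
  obtain ⟨hA2, hA2'⟩ := hT 2 A ⟨hA, hA4⟩
  rcases four_subgroups e ⟨hA, hA4⟩ ⟨hA1, hA1'⟩ ⟨hA2, hA2'⟩ ⟨hB, hB4⟩ with h | h | h | h | h | h
  · exact absurd h (hfree A hA hA4)
  · exact absurd h (h2 A hA hA4)
  · exact ⟨1, one_mem _, by rw [h]; ext z; simp⟩
  · exact absurd (by rw [hcomp]; exact h : T 1 (T 1 A) = T 1 A) (hfree _ hA1 hA1')
  · exact ⟨w ^ 1, pow_mem hwN 1, h⟩
  · exact ⟨w ^ 2, pow_mem hwN 2, h⟩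

end Cfsg.Agent.S0950
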