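import Cfsg.Statements.S0958
import Cfsg.Agent.Lib.Blocks.Induced

set_option autoImplicit false
open Cfsg

namespace Cfsg.Agent.S0958

/-- Let P be a p-subgroup of the finite group G and H a subgroup with P ⊔ C_G(P) ≤ H ≤ N_G(P); fix a maximal ideal M of the algebraic integers containing p. Then a block B of G is induced by some block of H if and only if some conjugate of P is contained in a defect group of B. -/
theorem result {G : Type*} [Group G] [Finite G] (p : ℕ) [Fact p.Prime] (M : Ideal Cfsg.AlgInt) (hM : Cfsg.IsPModular p M) (P H : Subgroup G) (hP : IsPGroup p P) (hPH : P ⊔ Subgroup.centralizer (P : Set G) ≤ H) (hHN : H ≤ Subgroup.normalizer (P : Set G)) (B : Set (Cfsg.IrrCharacter G)) (hB : Cfsg.IsPBlock M B) : (∃ b : Set (Cfsg.IrrCharacter H), Cfsg.IsInducedBlock M H b B) ↔ ∃ D : Subgroup G, Cfsg.IsDefectGroup p M B D ∧ ∃ x : G, P.map (MulAut.conj x).toMonoidHom ≤ D := by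
  haveI := Fintype.ofFinite G
  haveI := Fintype.ofFinite H
  haveI := Cfsg.Agent.Blocks.IsPModular.isPrime hM
  obtain ⟨D, hD⟩ := Cfsg.Agent.Blocks.exists_isDefectGroup (p := p) hB
  rw [Cfsg.Agent.Blocks.exists_inducing_iff hM hP (le_sup_left.trans hPH) (le_sup_right.trans hPH) hHN hB hD]
  refine ⟨fun h => ⟨D, hD, h⟩, fun ⟨E, hE, x, hx⟩ => ?_⟩
  obtain ⟨y, hy⟩ := Cfsg.Agent.Blocks.defectGroup_conj hM hB hE hD
  refine ⟨y⁻¹ * x, ?_⟩
  rintro _ ⟨u, hu, rfl⟩
  have h1 := hx ⟨u, hu, rfl⟩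
  rw [hy] at h1
  obtain ⟨v, hv, hvu⟩ := h1
  simp only [MulEquiv.coe_toMonoidHom, MulAut.conj_apply] at hvu ⊢
  rw [show y⁻¹ * x * u * (y⁻¹ * x)⁻¹ = y⁻¹ * (x * u * x⁻¹) * y by group, ← hvu,
    show y⁻¹ * (y * v * y⁻¹) * y = v by group]
  exact hv

end Cfsg.Agent.S0958
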