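import Cfsg.Statements.S0960
import Cfsg.Agent.Lib.DefOne.Principal

set_option autoImplicit false
open Cfsg

namespace Cfsg.Agent.S0960

/-- Let p be an odd prime and G a finite group whose Sylow p-subgroup P has order p; let e be the index of C_G(P) in N_G(P) (a divisor of p − 1) and fix a maximal ideal M of the algebraic integers containing p. Then the principal block of G consists of exactly e + (p - 1) / e irreducible characters, and the degree d of each of them satisfies d ≡ 1, d ≡ -1, d ≡ e or d ≡ -e modulo p. -/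
theorem result {G : Type*} [Group G] [Finite G] (p : ℕ) [Fact p.Prime] (M : Ideal Cfsg.AlgInt) (hM : Cfsg.IsPModular p M) (hodd : p ≠ 2) (P : Sylow p G) (hP : Nat.card P = p) (e : ℕ) (he : (Subgroup.centralizer ((P : Subgroup G) : Set G)).relIndex (Subgroup.normalizer ((P : Subgroup G) : Set G)) = e) : Nat.card (Cfsg.principalBlock M G) = e + (p - 1) / e ∧ ∀ χ ∈ Cfsg.principalBlock M G, ((Cfsg.charDegree (χ : G → ℂ) : ℤ) ≡ 1 [ZMOD p] ∨ (Cfsg.charDegree (χ : G → ℂ) : ℤ) ≡ -1 [ZMOD p] ∨ (Cfsg.charDegree (χ : G → ℂ) : ℤ) ≡ (e : ℤ) [ZMOD p] ∨ (Cfsg.charDegree (χ : G → ℂ) : ℤ) ≡ -(e : ℤ) [ZMOD p]) := by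
  classical
  have hp : p.Prime := Fact.out
  haveI := Agent.Blocks.IsPModular.isPrime hM
  haveI : Fintype G := Fintype.ofFinite G
  obtain ⟨V, e', K, he'⟩ := Agent.DefOne.exists_conf hp P hP
  have hee : e' = e := he'.trans he
  haveI : Fintype (P : Subgroup G) := Fintype.ofFinite _
  haveI : Fintype V := Fintype.ofFinite _
  haveI : Fintype (Subgroup.normalizer ((P : Subgroup G) : Set G)) := Fintype.ofFinite _
  haveI : Fintype ((P : Subgroup G) →* ℂˣ) := Fintype.ofFinite _
  obtain ⟨eb, X, Y, δ, sg, F⟩ := Agent.DefOne.exists_families K hM (Agent.DefOne.trivB V)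
  have heb : eb = e := (Agent.DefOne.eb_triv K F).trans hee
  have hB := Agent.DefOne.principal_eq K hM F
  refine ⟨?_, fun χ hχ => ?_⟩
  · rw [hB, ← Finset.coe_union, Nat.card_coe_set_eq, Set.ncard_coe_finset,
      Finset.card_union_of_disjoint F.disj, F.cardX, Agent.DefOne.Families.card_Y K F, heb]
  · have h := Agent.DefOne.degree_congr K hM hχ
    rw [hB] at hχ
    rcases hχ with hχ | hχ
    · rw [Agent.DefOne.Families.sum_X K F hχ] at h
      have h2 : (charDegree (χ : G → ℂ) : ℤ) ≡ sg χ [ZMOD p] :=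
        h.trans (Int.modEq_iff_dvd.2 ⟨sg χ, by ring⟩)
      rcases F.signX χ hχ with e1 | e1 <;> rw [e1] at h2
      · exact Or.inl h2
      · exact Or.inr (Or.inl h2)
    · rw [F.sumY χ hχ, heb] at h
      rcases F.sign with e1 | e1 <;> rw [e1] at h
      · exact Or.inr (Or.inr (Or.inr (by simpa using h)))
      · exact Or.inr (Or.inr (Or.inl (by simpa using h)))

end Cfsg.Agent.S0960
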