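import Cfsg.Statements.S0967
import Cfsg.Agent.Lib.Blocks.KernelBlock

set_option autoImplicit false
open Cfsg

namespace Cfsg.Agent.S0967

/-- Let N be a normal subgroup of the finite group G of order prime to p and fix a maximal ideal M of the algebraic integers containing p. If χ is an irreducible character of G ⧸ N and ψ lies in the block of its inflation χ ∘ (quotient map), then ψ is itself inflated from an irreducible character ψ' of G ⧸ N lying in the block of χ. (Over a normal p'-subgroup, blocks of the quotient are whole blocks of G.) -/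
theorem result {G : Type*} [Group G] [Finite G] (p : ℕ) [Fact p.Prime] (M : Ideal Cfsg.AlgInt) (hM : Cfsg.IsPModular p M) (N : Subgroup G) [N.Normal] (hN : ¬ p ∣ Nat.card N) (χ : Cfsg.IrrCharacter (G ⧸ N)) (ψ : Cfsg.IrrCharacter G) (hψ : ψ ∈ Cfsg.blockOf M ((χ : G ⧸ N → ℂ) ∘ QuotientGroup.mk)) : ∃ ψ' : Cfsg.IrrCharacter (G ⧸ N), (ψ : G → ℂ) = (ψ' : G ⧸ N → ℂ) ∘ QuotientGroup.mk ∧ Cfsg.SameBlock M (χ : G ⧸ N → ℂ) (ψ' : G ⧸ N → ℂ) := by
  classical
  haveI : Fintype G := Fintype.ofFinite _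
  haveI : M.IsPrime := hM.2.1.isPrime
  haveI : Fintype (G ⧸ N) := Fintype.ofFinite _
  have htriv := Blocks.trivialOn_of_sameBlock hM N hN (χ := CharX.infl N χ) (ψ := ψ) hψ
    (CharX.infl_trivialOn N χ)
  obtain ⟨ψ', -, he, hirr⟩ :=
    Char.IsCharacter.deflate (Blocks.irr_isCharacter ψ) N htriv
  have hψ' : ψ = CharX.infl N ⟨ψ', hirr ψ.2⟩ := Subtype.ext (funext fun g => (he g).symm)
  have hs : SameBlock M (CharX.infl N χ : G → ℂ) (ψ : G → ℂ) := hψ
  rw [hψ'] at hs
  exact ⟨⟨ψ', hirr ψ.2⟩, funext fun g => (he g).symm, Blocks.sameBlock_deflate hM N hN χ _ hs⟩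

end Cfsg.Agent.S0967
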