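import Cfsg.Statements.S0968
import Cfsg.Agent.Lib.Blocks.ProductBlock

set_option autoImplicit false
open Cfsg

namespace Cfsg.Agent.S0968

/-- Let P be a p-subgroup of the finite group G with P ⊔ C_G(P) = G, and let B be a block with defect group P relative to a maximal ideal M of the algebraic integers containing p. Then there is exactly one θ ∈ B with θ x = θ 1 for all x ∈ P; for this θ the exponent of p in θ(1) equals the exponent of p in the index of P; and the number of members of B equals the number of conjugacy classes of P. -/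
theorem result {G : Type*} [Group G] [Finite G] (p : ℕ) [Fact p.Prime] (M : Ideal Cfsg.AlgInt) (hM : Cfsg.IsPModular p M) (P : Subgroup G) (hP : IsPGroup p P) (hG : P ⊔ Subgroup.centralizer (P : Set G) = ⊤) (B : Set (Cfsg.IrrCharacter G)) (hB : Cfsg.IsPBlock M B) (hD : Cfsg.IsDefectGroup p M B P) : (∃! θ : Cfsg.IrrCharacter G, θ ∈ B ∧ ∀ x ∈ P, (θ : G → ℂ) x = (θ : G → ℂ) 1) ∧ (∀ θ ∈ B, (∀ x ∈ P, (θ : G → ℂ) x = (θ : G → ℂ) 1) → (Cfsg.charDegree (θ : G → ℂ)).factorization p = P.index.factorization p) ∧ Nat.card B = Nat.card (ConjClasses P) := by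
  classical
  haveI : Fintype G := Fintype.ofFinite G
  haveI : M.IsPrime := hM.2.1.isPrime
  haveI : Fintype P := Fintype.ofFinite _
  haveI : P.Normal := by
    refine Subgroup.normalizer_eq_top_iff.1 (top_le_iff.1 ?_)
    rw [← hG]
    exact sup_le Subgroup.le_normalizer (Subgroup.centralizer_le_normalizer (P : Set G))
  obtain ⟨θ, hθ, htriv, huniq, ξ, -, -, hbij⟩ :=
    Cfsg.Agent.Blocks.product_block hM hP hG hB hD
  refine ⟨⟨θ, ⟨hθ, htriv⟩, fun φ h => huniq φ h.1 h.2⟩, fun φ hφ hφt => ?_, ?_⟩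
  · obtain ⟨χ, hχ⟩ := (Cfsg.Agent.CharX.quotEquiv P).surjective ⟨φ, hφt⟩
    have hχ' : ∀ g : G, (φ : G → ℂ) g = (χ : G ⧸ P → ℂ) (g : G ⧸ P) := fun g =>
      (congrFun (congrArg (fun x => ((x.1 : Cfsg.IrrCharacter G) : G → ℂ)) hχ) g).symm
    have hdeq : Cfsg.charDegree (φ : G → ℂ) = Cfsg.charDegree (χ : G ⧸ P → ℂ) := by
      have := hχ' 1
      rw [QuotientGroup.mk_one, Cfsg.Agent.Blocks.irr_one_eq_charDegree,
        Cfsg.Agent.Blocks.irr_one_eq_charDegree] at this
      exact_mod_cast this
    have hd : Cfsg.charDegree (φ : G → ℂ) ∣ P.index := by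
      rw [hdeq]
      exact Cfsg.Agent.CharX.irr_deg_dvd_card χ
    have hle := (Nat.factorization_le_iff_dvd (Cfsg.Agent.Blocks.charDegree_pos φ).ne'
      Subgroup.index_ne_zero_of_finite).2 hd p
    have hge := Cfsg.Agent.Blocks.degExp_ge hM hB hφ
    have hc := P.index_mul_card
    have hcf : (Nat.card G).factorization p =
        P.index.factorization p + Cfsg.blockDefect p B := by
      rw [← hc, Nat.factorization_mul Subgroup.index_ne_zero_of_finite Nat.card_pos.ne',
        Finsupp.add_apply, Cfsg.Agent.Blocks.card_defectGroup hM hB hD,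
        hM.1.factorization_pow, Finsupp.single_eq_same]
    omega
  · rw [← Cfsg.Agent.Char.card_irrCharacter (G := P)]
    exact (Nat.card_congr hbij.equiv).trans (Nat.card_congr (Equiv.Set.univ _))

end Cfsg.Agent.S0968
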