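import Cfsg.Statements.S0969
import Cfsg.Agent.Lib.Blocks.CentralDefect
import Cfsg.Agent.Lib.Blocks.Section
import Cfsg.Agent.Lib.Blocks.MinMax

set_option autoImplicit false
open Cfsg

namespace Cfsg.Agent.S0969

/-- Let D be a central p-subgroup of the finite group G and χ an irreducible character with the exponent of p in χ(1) equal to the exponent of p in the index of D; fix a maximal ideal M of the algebraic integers containing p. Then D is a defect group of the block of χ, and χ g = 0 whenever the p-part of g does not lie in D. -/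
theorem result {G : Type*} [Group G] [Finite G] (p : ℕ) [Fact p.Prime] (M : Ideal Cfsg.AlgInt) (hM : Cfsg.IsPModular p M) (D : Subgroup G) (hD : IsPGroup p D) (hDZ : D ≤ Subgroup.center G) (χ : Cfsg.IrrCharacter G) (hdeg : (Cfsg.charDegree (χ : G → ℂ)).factorization p = D.index.factorization p) : Cfsg.IsDefectGroup p M (Cfsg.blockOf M (χ : G → ℂ)) D ∧ ∀ g x : G, Cfsg.IsPPart p g x → x ∉ D → (χ : G → ℂ) g = 0 := by
  classical
  haveI : Fintype G := Fintype.ofFinite _
  haveI : M.IsPrime := hM.2.1.isPrime
  haveI := Fact.mk hM.1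
  haveI : D.Normal := ⟨fun d hd g => by
    have := (Subgroup.mem_center_iff.1 (hDZ hd) g)
    rw [this, mul_inv_cancel_right]; exact hd⟩
  set B := Cfsg.blockOf M (χ : G → ℂ) with hBdef
  have hB : Cfsg.IsPBlock M B := Cfsg.Agent.Blocks.isPBlock_blockOf χ
  have hcard : (Cfsg.charDegree (χ : G → ℂ)).factorization p + (Nat.card D).factorization p =
      (Nat.card G).factorization p := by
    rw [hdeg, ← D.index_mul_card, Nat.factorization_mul Subgroup.index_ne_zero_of_finite
      Nat.card_pos.ne', Finsupp.add_apply]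
  have hd := Cfsg.Agent.Blocks.blockDefect_eq_of_central_deg hM hB D hDZ hD
    (Cfsg.Agent.Blocks.self_mem_blockOf χ) hcard
  have hall : ∀ E : Subgroup G, Cfsg.IsDefectGroup p M B E → E = D := by
    intro E hE
    refine (Subgroup.eq_of_le_of_card_ge (Cfsg.Agent.Blocks.le_defectGroup_of_normal hM hB hE D hD)
      ?_).symm
    obtain ⟨k, hk⟩ := IsPGroup.iff_card.1 hD
    rw [Cfsg.Agent.Blocks.card_defectGroup hM hB hE, hd, hk, hM.1.factorization_pow,
      Finsupp.single_eq_same]
  obtain ⟨E, hE⟩ := Cfsg.Agent.Blocks.exists_isDefectGroup (p := p) hB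
  refine ⟨hall E hE ▸ hE, fun g x hgx hxD => ?_⟩
  exact Cfsg.Agent.Blocks.irr_eq_zero_of_notMem_defect hM hB
    (Cfsg.Agent.Blocks.self_mem_blockOf χ) hgx fun E hE => hall E hE ▸ hxD

end Cfsg.Agent.S0969
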