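import Cfsg.Statements.S0971
import Cfsg.Agent.Lib.Blocks.Covering
import Cfsg.Agent.Lib.Blocks.Induced
import Cfsg.Agent.Lib.Blocks.MinMax

set_option autoImplicit false
open Cfsg

namespace Cfsg.Agent.S0971

/-- Let Q be a normal p-subgroup of the finite group G, let N = Q ⊔ C_G(Q) (a normal subgroup) and let b be a block of N relative to a maximal ideal M of the algebraic integers containing p. Then b induces some block of G, and every block B of G containing a character whose restriction to N has a constituent in b is induced by b. -/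
theorem result {G : Type*} [Group G] [Fintype G] (p : ℕ) [Fact p.Prime] (M : Ideal Cfsg.AlgInt) (hM : Cfsg.IsPModular p M) (Q : Subgroup G) [Q.Normal] (hQ : IsPGroup p Q) [Fintype ↥(Q ⊔ Subgroup.centralizer (Q : Set G))] (b : Set (Cfsg.IrrCharacter ↥(Q ⊔ Subgroup.centralizer (Q : Set G)))) (hb : Cfsg.IsPBlock M b) : Cfsg.InducedBlockDefined M (Q ⊔ Subgroup.centralizer (Q : Set G)) b ∧ ∀ B : Set (Cfsg.IrrCharacter G), Cfsg.IsPBlock M B → (∃ χ ∈ B, ∃ θ ∈ b, Cfsg.classInner (fun n : ↥(Q ⊔ Subgroup.centralizer (Q : Set G)) => (χ : G → ℂ) n) (θ : ↥(Q ⊔ Subgroup.centralizer (Q : Set G)) → ℂ) ≠ 0) → Cfsg.IsInducedBlock M (Q ⊔ Subgroup.centralizer (Q : Set G)) b B := by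
  classical
  haveI : M.IsPrime := hM.2.1.isPrime
  have hQN : Q ≤ (Q ⊔ Subgroup.centralizer (Q : Set G)) := le_sup_left
  have hCN : Subgroup.centralizer (Q : Set G) ≤ (Q ⊔ Subgroup.centralizer (Q : Set G)) := le_sup_right
  haveI := Cfsg.Agent.Blocks.centralizer_normal_of_normal Q
  haveI : (Q ⊔ Subgroup.centralizer (Q : Set G)).Normal := Subgroup.sup_normal Q _
  have hNn : (Q ⊔ Subgroup.centralizer (Q : Set G)) ≤ Subgroup.normalizer (Q : Set G) := by
    rw [Subgroup.normalizer_eq_top]; exact le_top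
  refine ⟨Cfsg.Agent.Blocks.exists_isInducedBlock hM hQ hQN hCN hNn hb, ?_⟩
  intro B hB hcov
  refine ⟨hb, hB, fun ξ hξ χ hχ g => ?_⟩
  by_cases hg : g ∈ (Q ⊔ Subgroup.centralizer (Q : Set G))
  · have h := (Cfsg.Agent.Blocks.covers_iff (Q ⊔ Subgroup.centralizer (Q : Set G)) hB hb).1 hcov χ hχ ξ hξ ⟨g, hg⟩
    simpa using Cfsg.Agent.Blocks.MemLocalIdeal.neg h
  · have h0 : Cfsg.inducedCentralChar (Q ⊔ Subgroup.centralizer (Q : Set G)) (ξ : ↥(Q ⊔ Subgroup.centralizer (Q : Set G)) → ℂ) g = 0 := by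
      rw [Cfsg.inducedCentralChar]
      refine finsum_mem_eq_zero_of_forall_eq_zero fun h hh => ?_
      obtain ⟨c, hc⟩ := isConj_iff.1 (IsConj.symm (hh : IsConj g (h : G)))
      exact absurd (hc ▸ (inferInstance : (Q ⊔ Subgroup.centralizer (Q : Set G)).Normal).conj_mem _ h.2 c) hg
    rw [h0, zero_sub]
    refine Cfsg.Agent.Blocks.MemLocalIdeal.neg ?_
    by_contra hu
    exact hg (hCN (Cfsg.Agent.Blocks.mem_centralizer_of_not_memLocalIdeal hM Q hQ hu))

end Cfsg.Agent.S0971
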