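import Cfsg.Statements.S0979
import Cfsg.Agent.Lib.Small.SelfCentral

set_option autoImplicit false
open Cfsg

namespace Cfsg.Agent.S0979

/-- No finite simple group has order 5472 = 2^5 * 3^2 * 19. -/
theorem result {G : Type*} [Group G] [Finite G] [IsSimpleGroup G] : Nat.card G ≠ 5472 := by
  intro hcard
  haveI : Fact (Nat.Prime 19) := ⟨by norm_num⟩
  have hnp : ¬ (Nat.card G).Prime := by rw [hcard]; norm_num
  have hG := Small.not_comm_of_card hnp
  have hd : 19 ∣ Nat.card G := by rw [hcard]; norm_num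
  have hk : Nat.card G = 19 ^ 1 * 288 := by rw [hcard]; norm_num
  have hn := Small.sylow_number_mem hk (by norm_num)
  rw [show (Nat.divisors 288).filter (fun d => d % 19 = 1) = {1, 96} by decide +kernel] at hn
  simp only [Finset.mem_insert, Finset.mem_singleton] at hn
  have hn' : Nat.card (Sylow 19 G) = 96 := hn.resolve_left (Small.sylow_number_ne_one hG hd)
  obtain ⟨P⟩ : Nonempty (Sylow 19 G) := inferInstance
  have hP : Nat.card (P : Subgroup G) = 19 := (Small.sylow_card hk (by norm_num) P).trans (pow_one 19)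
  have hN := Small.card_normalizer_mul P
  rw [hn', hcard] at hN
  obtain ⟨h₁, h₂, f, a, b, ha, hb, h1d, h2d, hfd, hf, hc1, hc2, hh1, hh2, heq⟩ :=
    SelfCentral.degrees_three hnp P (by norm_num) hP (show _ = 19 * 3 by omega) (m := 288) (by rw [hcard])
  have key : ∀ h ∈ Nat.divisors 288, 2 ≤ h →
      (((h : ℤ) - 1) % 19 = 0 → h = 96) ∧ (((h : ℤ) - -1) % 19 = 0 → h = 18) := by decide +kernel
  have k1 := key h₁ (Nat.mem_divisors.2 ⟨h1d, by norm_num⟩) hh1
  have k2 := key h₂ (Nat.mem_divisors.2 ⟨h2d, by norm_num⟩) hh2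
  have hc1' := Int.emod_eq_zero_of_dvd hc1
  have hc2' := Int.emod_eq_zero_of_dvd hc2
  have kf : f ≠ 193 ∧ f ≠ 79 ∧ f ≠ 35 := by
    refine ⟨?_, ?_, ?_⟩ <;> · rintro rfl; norm_num at hfd
  rcases ha with rfl | rfl <;> rcases hb with rfl | rfl <;>
    (try have e1 := k1.1 hc1') <;> (try have e1 := k1.2 hc1') <;>
    (try have e2 := k2.1 hc2') <;> (try have e2 := k2.2 hc2') <;> subst e1 e2 <;>
    rcases heq with h | h <;> omega

end Cfsg.Agent.S0979
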