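import Cfsg.Statements.S0985
import Mathlib.GroupTheory.Sylow
import Mathlib.GroupTheory.GroupAction.Quotient
import Mathlib.Data.Nat.ModEq

set_option autoImplicit false
open Cfsg

namespace Cfsg.Agent.S0985

/-- If the number of Sylow p-subgroups of a finite group is not congruent to 1 modulo p^k, then there are two distinct Sylow p-subgroups P and R such that the index of P ∩ R in P is at most p^(k-1). -/
theorem result {G : Type*} [Group G] [Finite G] (p k : ℕ) [Fact p.Prime] (h : ¬ Nat.card (Sylow p G) ≡ 1 [MOD p ^ k]) : ∃ P R : Sylow p G, P ≠ R ∧ ((R : Subgroup G).subgroupOf (P : Subgroup G)).index ≤ p ^ (k - 1) := by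
  classical
  by_contra hno
  push Not at hno
  obtain ⟨P⟩ : Nonempty (Sylow p G) := inferInstance
  have hk : k ≠ 0 := by rintro rfl; exact h (by simp [Nat.ModEq, Nat.mod_one])
  apply h
  have := Fintype.ofFinite (Quotient (MulAction.orbitRel (P : Subgroup G) (Sylow p G)))
  rw [Nat.card_congr (MulAction.selfEquivSigmaOrbits (P : Subgroup G) (Sylow p G)), Nat.card_sigma]
  set q₀ : Quotient (MulAction.orbitRel (P : Subgroup G) (Sylow p G)) := ⟦P⟧ with hq₀
  rw [← Finset.add_sum_erase _ _ (Finset.mem_univ q₀)]
  have hfix : Nat.card (MulAction.orbit (P : Subgroup G) (Quotient.out q₀)) = 1 := by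
    have e : MulAction.orbit (P : Subgroup G) (Quotient.out q₀) = MulAction.orbit (P : Subgroup G) P :=
      MulAction.orbit_eq_iff.mpr (Quotient.mk_out (s := MulAction.orbitRel (P : Subgroup G) (Sylow p G)) P)
    have e2 : MulAction.orbit (P : Subgroup G) P = {P} := by
      ext R
      rw [Set.mem_singleton_iff]
      constructor
      · rintro ⟨g, rfl⟩
        exact Sylow.smul_eq_iff_mem_normalizer.mpr (Subgroup.le_normalizer g.2)
      · rintro rfl; exact MulAction.mem_orbit_self _
    rw [e, e2]; simp
  have hdvd : ∀ q ∈ Finset.univ.erase q₀,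
      p ^ k ∣ Nat.card (MulAction.orbit (P : Subgroup G) (Quotient.out q)) := by
    intro q hq
    set R := Quotient.out q with hR
    have hne : P ≠ R := fun e => (Finset.mem_erase.mp hq).1 ((Quotient.out_eq q).symm.trans (by rw [hq₀, ← hR, ← e]))
    rw [Nat.card_congr (MulAction.orbitEquivQuotientStabilizer (P : Subgroup G) R), ← Subgroup.index]
    have hst : MulAction.stabilizer (P : Subgroup G) R = (R : Subgroup G).subgroupOf P := by
      ext g
      rw [MulAction.mem_stabilizer_iff, Subgroup.smul_def, Sylow.smul_eq_iff_mem_normalizer,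
        Subgroup.mem_subgroupOf]
      constructor
      · intro hg
        have := P.2.inf_normalizer_sylow R
        have hm : (g : G) ∈ (P : Subgroup G) ⊓ Subgroup.normalizer ((R : Subgroup G) : Set G) := ⟨g.2, hg⟩
        exact (this.le hm).2
      · exact fun hg => Subgroup.le_normalizer hg
    rw [hst]
    obtain ⟨j, hj⟩ := P.2.index ((R : Subgroup G).subgroupOf P)
    have := hno P R hne
    rw [hj] at this ⊢
    apply pow_dvd_pow
    have hlt := (Nat.pow_lt_pow_iff_right (Fact.out : p.Prime).one_lt).mp this
    omega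
  rw [hfix]
  have hzero := Nat.modEq_zero_iff_dvd.mpr (Finset.dvd_sum hdvd)
  simpa using (Nat.ModEq.refl 1).add hzero

end Cfsg.Agent.S0985
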