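import Cfsg.Statements.S0988
import Cfsg.Agent.Lib.Small.SylowToolkit
import Cfsg.Agent.Lib.Char.Burnside

set_option autoImplicit false
open Cfsg

namespace Cfsg.Agent.S0988



/-- If a finite simple group has order p^2 * q * r with p, q and r prime, then its order is 60. -/
theorem result {G : Type*} [Group G] [Finite G] [IsSimpleGroup G] (p q r : ℕ) (hp : p.Prime) (hq : q.Prime) (hr : r.Prime) (hG : Nat.card G = p ^ 2 * q * r) : Nat.card G = 60 := by
  classical
  have hsq : ∀ (a b : ℕ), a.Prime → b.Prime → (∃ i j, Nat.card G = a ^ i * b ^ j) → (Nat.card G).Prime := by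
    intro a b ha hb hab
    have hs := Cfsg.Agent.Char.isSolvable_of_card_pq a b ha hb _ G rfl hab
    letI : CommGroup G :=
      { (inferInstance : Group G) with mul_comm := IsSimpleGroup.comm_iff_isSolvable.mpr hs }
    exact IsSimpleGroup.prime_card
  have hnp : ¬ (Nat.card G).Prime := by
    rw [hG, mul_assoc, pow_two, mul_assoc]
    exact Nat.not_prime_mul hp.ne_one (by
      intro h
      exact hp.ne_one (Nat.eq_one_of_mul_eq_one_right h))
  have hpq : p ≠ q := by
    rintro rfl
    exact hnp (hsq p r hp hr ⟨3, 1, by rw [hG]; ring⟩)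
  have hpr : p ≠ r := by
    rintro rfl
    exact hnp (hsq p q hp hq ⟨3, 1, by rw [hG]; ring⟩)
  have hqr : q ≠ r := by
    rintro rfl
    exact hnp (hsq p q hp hq ⟨2, 2, by rw [hG]; ring⟩)
  have hnc := Cfsg.Agent.Small.not_comm_of_card hnp
  -- the smallest prime has a noncyclic Sylow subgroup
  have hmin : ∀ (l : ℕ) [Fact l.Prime], (Nat.card G).minFac = l → ∀ S : Sylow l G,
      ¬ IsCyclic (S : Subgroup G) := by
    intro l _ hl S hc
    have hld : l ∣ Nat.card G := hl ▸ Nat.minFac_dvd _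
    exact hnp (Cfsg.Agent.Small.card_eq_prime_of_central hld S (hc.normalizer_le_centralizer hl) ▸ Fact.out)
  have hdiv : ∀ l : ℕ, l.Prime → l ∣ Nat.card G → l = p ∨ l = q ∨ l = r := by
    intro l hl hd
    rw [hG, Nat.Prime.dvd_mul hl, Nat.Prime.dvd_mul hl] at hd
    rcases hd with (h | h) | h
    · exact Or.inl ((Nat.prime_dvd_prime_iff_eq hl hp).mp (hl.dvd_of_dvd_pow h))
    · exact Or.inr (Or.inl ((Nat.prime_dvd_prime_iff_eq hl hq).mp h))
    · exact Or.inr (Or.inr ((Nat.prime_dvd_prime_iff_eq hl hr).mp h))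
  have hnotmin : ∀ (l m : ℕ), l.Prime → Nat.card G = l ^ 1 * m → ¬ l ∣ m → (Nat.card G).minFac ≠ l := by
    intro l m hl hm hlm hml
    haveI : Fact l.Prime := ⟨hl⟩
    obtain ⟨S⟩ : Nonempty (Sylow l G) := inferInstance
    exact hmin l hml S (isCyclic_of_prime_card ((Cfsg.Agent.Small.sylow_card hm hlm S).trans (pow_one l)))
  have hne : ∀ {a b : ℕ}, a.Prime → b.Prime → a ≠ b → ¬ a ∣ b := fun ha hb h hd =>
    h ((Nat.prime_dvd_prime_iff_eq ha hb).mp hd)
  have hq1 : ¬ q ∣ p ^ 2 * r := fun h => by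
    rcases (Nat.Prime.dvd_mul hq).mp h with h | h
    · exact hne hq hp hpq.symm (hq.dvd_of_dvd_pow h)
    · exact hne hq hr hqr h
  have hr1 : ¬ r ∣ p ^ 2 * q := fun h => by
    rcases (Nat.Prime.dvd_mul hr).mp h with h | h
    · exact hne hr hp hpr.symm (hr.dvd_of_dvd_pow h)
    · exact hne hr hq hqr.symm h
  have hGne1 : Nat.card G ≠ 1 := by
    intro h
    exact hp.ne_one (Nat.dvd_one.mp (h ▸ hG ▸ ((dvd_pow_self p two_ne_zero).mul_right q).mul_right r))
  have hminp : (Nat.card G).minFac = p := by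
    rcases hdiv _ (Nat.minFac_prime hGne1) (Nat.minFac_dvd _) with h | h | h
    · exact h
    · exact absurd h (hnotmin q _ hq (by rw [hG]; ring) hq1)
    · exact absurd h (hnotmin r _ hr (by rw [hG]; ring) hr1)
  have hlt : ∀ l : ℕ, l.Prime → l ∣ Nat.card G → p ≤ l := fun l hl hd =>
    hminp ▸ Nat.minFac_le_of_dvd hl.two_le hd
  have hpq' : p < q := lt_of_le_of_ne (hlt q hq (hG ▸ (dvd_mul_left q _).mul_right r)) hpq
  have hpr' : p < r := lt_of_le_of_ne (hlt r hr (hG ▸ dvd_mul_left r _)) hpr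
  haveI : Fact p.Prime := ⟨hp⟩
  obtain ⟨P⟩ : Nonempty (Sylow p G) := inferInstance
  have hk : Nat.card G = p ^ 2 * (q * r) := by rw [hG]; ring
  have hpm : ¬ p ∣ q * r := fun h => by
    rcases (Nat.Prime.dvd_mul hp).mp h with h | h
    · exact hne hp hq hpq h
    · exact hne hp hr hpr h
  have hP : Nat.card (P : Subgroup G) = p ^ 2 := Cfsg.Agent.Small.sylow_card hk hpm P
  set N := Subgroup.normalizer ((P : Subgroup G) : Set G) with hNdef
  set C := Subgroup.centralizer ((P : Subgroup G) : Set G) with hCdef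
  have hCN : C ≤ N := Cfsg.Agent.Small.centralizer_le_normalizer _
  have hPC : (P : Subgroup G) ≤ C := by
    intro a ha
    letI := IsPGroup.commGroupOfCardEqPrimeSq hP
    exact Subgroup.mem_centralizer_iff.mpr fun b hb =>
      congrArg Subtype.val (mul_comm (⟨b, hb⟩ : (P : Subgroup G)) ⟨a, ha⟩)
  have hNC : ¬ N ≤ C := fun h => hnp (Cfsg.Agent.Small.card_eq_prime_of_central
    (hk ▸ dvd_mul_of_dvd_left (dvd_pow_self p two_ne_zero) _) P h ▸ hp)
  -- an element of prime order acting nontrivially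
  obtain ⟨l, w, hl, hlp, hwl, hwN, hwC⟩ : ∃ (l : ℕ) (w : G), l.Prime ∧ p < l ∧
      orderOf w ∣ l ∧ w ∈ N ∧ w ∉ C := by
    obtain ⟨l, hl, hld⟩ := Nat.exists_prime_and_dvd (n := C.relIndex N)
      (fun h => hNC (Subgroup.relIndex_eq_one.mp h))
    haveI : Fact l.Prime := ⟨hl⟩
    have hlN : l ∣ Nat.card N := hld.trans (Subgroup.relIndex_dvd_card C N)
    have hlp : l ≠ p := by
      rintro rfl
      refine P.not_dvd_index (hld.trans ?_)
      exact ((Subgroup.relIndex_dvd_of_le_left N hPC).trans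
        (Subgroup.relIndex_dvd_index_of_le Subgroup.le_normalizer))
    have hlG : l ∣ Nat.card G := hlN.trans (Subgroup.card_subgroup_dvd_card N)
    have hlC : ¬ l ∣ Nat.card C := by
      intro h
      have h2 : l * l ∣ Nat.card G := by
        refine dvd_trans ?_ (Subgroup.card_subgroup_dvd_card N)
        rw [← Subgroup.card_mul_index (C.subgroupOf N), Nat.card_congr (Subgroup.subgroupOfEquivOfLe hCN).toEquiv]
        exact Nat.mul_dvd_mul h hld
      rcases hdiv l hl hlG with rfl | rfl | rfl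
      · exact hlp rfl
      · exact hq1 ((Nat.mul_dvd_mul_iff_left hq.pos).mp (h2.trans (dvd_of_eq (by rw [hG]; ring))))
      · exact hr1 ((Nat.mul_dvd_mul_iff_left hr.pos).mp (h2.trans (dvd_of_eq (by rw [hG]; ring))))
    obtain ⟨w, hw⟩ := exists_prime_orderOf_dvd_card' l hlN
    refine ⟨l, w, hl, lt_of_le_of_ne (hlt l hl hlG) hlp.symm, ?_, w.2, ?_⟩
    · rw [Subgroup.orderOf_coe, hw]
    · intro hc
      refine hlC (hw ▸ ?_)
      rw [← Subgroup.orderOf_coe, ← Subgroup.orderOf_mk (w : G) hc]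
      exact orderOf_dvd_natCard _
  haveI : Fact l.Prime := ⟨hl⟩
  have hwp : IsPGroup l (Subgroup.zpowers w) := by
    obtain ⟨k, -, hk'⟩ := (Nat.dvd_prime_pow hl).mp (show orderOf w ∣ l ^ 1 by rwa [pow_one])
    exact IsPGroup.of_card (n := k) (by rw [Nat.card_zpowers, hk'])
  letI act : MulAction (Subgroup.zpowers w) (P : Subgroup G) :=
    { smul := fun u x => ⟨(u : G) * x * (u : G)⁻¹,
        (Subgroup.mem_normalizer_iff.mp ((Subgroup.zpowers_le.mpr hwN) u.2) x).mp x.2⟩
      one_smul := fun x => Subtype.ext (show (1 : G) * (x : G) * 1⁻¹ = x by group)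
      mul_smul := fun u v x => Subtype.ext (show ((u : G) * v) * (x : G) * ((u : G) * v)⁻¹ =
        (u : G) * ((v : G) * x * (v : G)⁻¹) * (u : G)⁻¹ by group) }
  have hmod := hwp.card_modEq_card_fixedPoints (P : Subgroup G)
  set F := (P : Subgroup G) ⊓ Subgroup.centralizer ({w} : Set G) with hF
  have hfix : Nat.card (MulAction.fixedPoints (Subgroup.zpowers w) (P : Subgroup G)) = Nat.card F := by
    refine Nat.card_congr
      { toFun := fun x => ⟨(x.1 : G), x.1.2, ?_⟩
        invFun := fun y => ⟨⟨(y : G), y.2.1⟩, ?_⟩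
        left_inv := fun x => rfl
        right_inv := fun y => rfl }
    · have h : w * (x.1 : G) * w⁻¹ = x.1 := congrArg Subtype.val (x.2 ⟨w, Subgroup.mem_zpowers w⟩)
      exact Subgroup.mem_centralizer_singleton_iff.mpr (mul_inv_eq_iff_eq_mul.mp h).symm
    · rintro ⟨u, j, rfl⟩
      refine Subtype.ext ?_
      show w ^ j * (y : G) * (w ^ j)⁻¹ = y
      rw [((show Commute w (y : G) from (Subgroup.mem_centralizer_singleton_iff.mp y.2.2).symm).zpow_left j).eq,
        mul_inv_cancel_right]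
  rw [hfix, hP] at hmod
  have hFd : Nat.card F ∣ p ^ 2 := hP ▸ Subgroup.card_dvd_of_le inf_le_left
  obtain ⟨k, hk2, hFk⟩ := (Nat.dvd_prime_pow hp).mp hFd
  have hk01 : k = 0 := by
    interval_cases k
    · rfl
    · exfalso
      rw [hFk, pow_one] at hmod
      have h := (Nat.modEq_iff_dvd' (Nat.le_self_pow two_ne_zero p)).mp hmod.symm
      rw [pow_two, show p * p - p = p * (p - 1) by rw [Nat.mul_sub, mul_one]] at h
      rcases (Nat.Prime.dvd_mul hl).mp h with h | h
      · have := Nat.le_of_dvd hp.pos h; omega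
      · have := Nat.le_of_dvd (by have := hp.two_le; omega) h; omega
    · exfalso
      refine hwC (Subgroup.mem_centralizer_iff.mpr fun b hb => ?_)
      have hPF : (P : Subgroup G) = F := (Subgroup.eq_of_le_of_card_ge inf_le_left (by rw [hFk, hP])).symm
      exact Subgroup.mem_centralizer_singleton_iff.mp (hPF ▸ hb : b ∈ F).2
  rw [hFk, hk01, pow_zero] at hmod
  have hl' : l ∣ (p - 1) * (p + 1) := by
    have h := (Nat.modEq_iff_dvd' (Nat.one_le_pow _ _ hp.pos)).mp hmod.symm
    rwa [show (p - 1) * (p + 1) = p ^ 2 - 1 by rw [mul_comm, ← Nat.sq_sub_sq, one_pow]]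
  have hle1 : l = p + 1 := by
    rcases (Nat.Prime.dvd_mul hl).mp hl' with h | h
    · have := Nat.le_of_dvd (by have := hp.two_le; omega) h; omega
    · have := Nat.le_of_dvd (by omega) h; omega
  have hp2 : p = 2 := by
    rcases hp.eq_two_or_odd' with h | h
    · exact h
    · have he : Even l := hle1 ▸ h.add_one
      have := (Nat.Prime.even_iff hl).mp he
      have := hp.two_le
      omega
  have hl3 : l = 3 := by omega
  have hld : l = q ∨ l = r := by
    have hlG : l ∣ Nat.card G := by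
      rcases (Nat.dvd_prime hl).mp hwl with h | h
      · rw [orderOf_eq_one_iff] at h; exact absurd (h ▸ one_mem C) hwC
      · exact h ▸ orderOf_dvd_natCard w
    rcases hdiv l hl hlG with h | h | h
    · omega
    · exact Or.inl h
    · exact Or.inr h
  -- reduce to order `12 r`
  obtain ⟨t, ht, ht3, hGt⟩ : ∃ t : ℕ, t.Prime ∧ 3 < t ∧ Nat.card G = t ^ 1 * 12 := by
    rcases hld with h | h
    · refine ⟨r, hr, ?_, by rw [hG, hp2, ← h, hl3]; ring⟩
      have : r ≠ 3 := fun e => hqr (by omega)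
      omega
    · refine ⟨q, hq, ?_, by rw [hG, hp2, ← h, hl3]; ring⟩
      have : q ≠ 3 := fun e => hqr (by omega)
      omega
  haveI : Fact t.Prime := ⟨ht⟩
  have ht12 : ¬ t ∣ 12 := by
    intro h
    have hle := Nat.le_of_dvd (by norm_num) h
    interval_cases t <;> revert ht h <;> decide
  have hn := Cfsg.Agent.Small.sylow_number_mem hGt ht12
  have htd : t ∣ Nat.card G := hGt ▸ dvd_mul_of_dvd_left (dvd_pow_self t one_ne_zero) _
  have hn1 := Cfsg.Agent.Small.sylow_number_ne_one hnc htd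
  rw [Finset.mem_filter, Nat.mem_divisors] at hn
  obtain ⟨⟨hn12, -⟩, hnm⟩ := hn
  obtain ⟨c, hc⟩ : t ∣ Nat.card (Sylow t G) - 1 := by
    refine (Nat.modEq_iff_dvd' Nat.card_pos).mp ?_
    exact (card_sylow_modEq_one t G).symm
  have hnle := Nat.le_of_dvd (by norm_num) hn12
  obtain ⟨T⟩ : Nonempty (Sylow t G) := inferInstance
  have hT : Nat.card (T : Subgroup G) = t := (Cfsg.Agent.Small.sylow_card hGt ht12 T).trans (pow_one t)
  have hpos : 0 < Nat.card (Sylow t G) := Nat.card_pos
  have hN := Cfsg.Agent.Small.card_normalizer_mul T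
  rw [hGt, pow_one] at hN
  have ht11 : t ≤ 11 := by
    rcases Nat.eq_zero_or_pos c with h | h
    · subst h; omega
    · have := Nat.le_mul_of_pos_right t h; omega
  have ht' : t = 5 ∨ t = 7 ∨ t = 11 := by
    interval_cases t <;> first | omega | (revert ht; decide)
  rcases ht' with rfl | rfl | rfl
  · rw [hGt]; norm_num
  · exfalso
    have hc1 : c = 1 := by omega
    subst hc1
    have : Nat.card (Sylow 7 G) = 8 := by omega
    rw [this] at hn12
    omega
  · exfalso
    have hc1 : c = 1 := by omega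
    subst hc1
    have h12 : Nat.card (Sylow 11 G) = 12 := by omega
    rw [h12] at hN
    refine Cfsg.Agent.Small.centralizer_ne_normalizer hnp htd T (le_antisymm
      (Subgroup.card_le_of_le (Cfsg.Agent.Small.centralizer_le_normalizer _)) ?_)
    have := Subgroup.card_le_of_le (Cfsg.Agent.Small.le_centralizer_self (T : Subgroup G) hT)
    omega

end Cfsg.Agent.S0988
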