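import Cfsg.Statements.S0994
import Cfsg.Agent.Lib.Small.SylowToolkit

set_option autoImplicit false
open Cfsg

namespace Cfsg.Agent.S0994

/-- No finite simple group has order 1188 = 2^2 * 3^3 * 11. -/
theorem result {G : Type*} [Group G] [Finite G] [IsSimpleGroup G] : Nat.card G ≠ 1188 := by
  intro hcard
  haveI : Fact (Nat.Prime 11) := ⟨by norm_num⟩
  have hnp : ¬ (Nat.card G).Prime := by rw [hcard]; norm_num
  have hG := Small.not_comm_of_card hnp
  have hd : 11 ∣ Nat.card G := by rw [hcard]; norm_num
  have hk : Nat.card G = 11 ^ 1 * 108 := by rw [hcard]; norm_num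
  have hn := Small.sylow_number_mem hk (by norm_num)
  rw [show (Nat.divisors 108).filter (fun d => d % 11 = 1) = {1, 12} by decide +kernel] at hn
  simp only [Finset.mem_insert, Finset.mem_singleton] at hn
  have hn12 : Nat.card (Sylow 11 G) = 12 := hn.resolve_left (Small.sylow_number_ne_one hG hd)
  obtain ⟨P⟩ : Nonempty (Sylow 11 G) := inferInstance
  have hP : Nat.card (P : Subgroup G) = 11 := (Small.sylow_card hk (by norm_num) P).trans (pow_one 11)
  have hN := Small.card_normalizer_mul P
  rw [hn12, hcard] at hN
  have hdv := Small.card_normalizer_dvd (P : Subgroup G) hP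
  refine Small.centralizer_ne_normalizer hnp hd P ?_
  have hle := Subgroup.card_dvd_of_le (Small.centralizer_le_normalizer (P : Subgroup G))
  have hN' : Nat.card (Subgroup.normalizer ((P : Subgroup G) : Set G)) = 99 := by omega
  rw [hN'] at hdv hle ⊢
  exact Nat.dvd_antisymm hle ((Nat.Coprime.dvd_mul_right (by norm_num)).mp hdv)

end Cfsg.Agent.S0994
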