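import Cfsg.Statements.S0995
import Cfsg.Agent.Lib.Small.SylowToolkit

set_option autoImplicit false
open Cfsg

namespace Cfsg.Agent.S0995



/-- Let G be a finite perfect group containing an element z of prime order p whose centralizer is the cyclic group it generates. Let t be the number of conjugacy classes of elements of order p. Then t divides p - 1, the number of Sylow p-subgroups has the form 1 + n * p, and |G| * t = (p - 1) * p * (1 + n * p). -/
theorem result {G : Type*} [Group G] [Finite G] (hperf : commutator G = ⊤) (p : ℕ) [Fact p.Prime] (z : G) (hz : orderOf z = p) (hC : Subgroup.centralizer ({z} : Set G) = Subgroup.zpowers z) : ∃ n t : ℕ, t = Nat.card {c : ConjClasses G // ∃ g : G, ConjClasses.mk g = c ∧ orderOf g = p} ∧ t ∣ p - 1 ∧ Nat.card (Sylow p G) = 1 + n * p ∧ Nat.card G * t = (p - 1) * p * (1 + n * p) := by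
  classical
  obtain ⟨P, hzP⟩ := (IsPGroup.of_card (n := 1) (by rw [Nat.card_zpowers, hz, pow_one]) :
    IsPGroup p (Subgroup.zpowers z)).exists_le_sylow
  have hzmem : z ∈ (P : Subgroup G) := hzP (Subgroup.mem_zpowers z)
  have hpP : p ≠ 0 := (Fact.out : p.Prime).ne_zero
  have hPz : (P : Subgroup G) = Subgroup.zpowers z := by
    haveI : Nontrivial (P : Subgroup G) :=
      ⟨⟨⟨z, hzmem⟩, 1, fun e => by
        have e1 : z = 1 := congrArg Subtype.val e
        rw [e1, orderOf_one] at hz
        exact (Fact.out : p.Prime).ne_one hz.symm⟩⟩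
    have hcn := IsPGroup.center_nontrivial P.isPGroup'
    obtain ⟨⟨c, hc⟩, hc1⟩ := exists_ne (1 : Subgroup.center (P : Subgroup G))
    have hcz : (c : G) ∈ Subgroup.zpowers z := by
      rw [← hC]
      exact Subgroup.mem_centralizer_singleton_iff.mpr
        (congrArg Subtype.val (Subgroup.mem_center_iff.mp hc ⟨z, hzmem⟩)).symm
    have hgen : Subgroup.zpowers (c : G) = Subgroup.zpowers z := by
      refine Subgroup.eq_of_le_of_card_ge (Subgroup.zpowers_le.mpr hcz) ?_
      rw [Nat.card_zpowers, Nat.card_zpowers, hz]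
      have hd : orderOf (c : G) ∣ p := (orderOf_dvd_of_mem_zpowers hcz).trans (dvd_of_eq hz)
      rcases (Nat.dvd_prime Fact.out).mp hd with e | e
      · exact absurd (Subtype.ext (Subtype.ext (orderOf_eq_one_iff.mp e))) hc1
      · exact e.ge
    refine le_antisymm (fun a ha => ?_) hzP
    rw [← hC]
    refine Subgroup.mem_centralizer_singleton_iff.mpr ?_
    obtain ⟨j, hj⟩ := Subgroup.mem_zpowers_iff.mp (hgen ▸ Subgroup.mem_zpowers z : z ∈ Subgroup.zpowers (c : G))
    rw [← hj]
    exact (Commute.zpow_right (show Commute a (c : G) from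
      congrArg Subtype.val (Subgroup.mem_center_iff.mp hc ⟨a, ha⟩)) j).eq
  have hP : ∀ R : Sylow p G, Nat.card (R : Subgroup G) = p := fun R => by
    rw [← Nat.card_congr (Sylow.equiv P R).toEquiv, hPz, Nat.card_zpowers, hz]
  have hCP : Subgroup.centralizer ((P : Subgroup G) : Set G) = (P : Subgroup G) := by
    refine le_antisymm ?_ (Small.le_centralizer_self _ (hP P))
    intro a ha
    rw [hPz, ← hC]
    exact Subgroup.mem_centralizer_singleton_iff.mpr (Subgroup.mem_centralizer_iff.mp ha z hzmem).symm
  set N := Subgroup.normalizer ((P : Subgroup G) : Set G)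
  obtain ⟨e, he⟩ : p ∣ Nat.card N := hP P ▸ Subgroup.card_dvd_of_le Subgroup.le_normalizer
  have hed : e ∣ p - 1 := by
    have h := Small.card_normalizer_dvd (P : Subgroup G) (hP P)
    rw [hCP, hP P, he] at h
    exact (Nat.mul_dvd_mul_iff_left (Fact.out : p.Prime).pos).mp h
  obtain ⟨t', ht'⟩ := hed
  -- counting the elements of order `p`
  set T := {c : ConjClasses G // ∃ g : G, ConjClasses.mk g = c ∧ orderOf g = p}
  have hcl : ∀ g : G, orderOf g = p → Nat.card {h : G // ConjClasses.mk h = ConjClasses.mk g} * p = Nat.card G := by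
    intro g hg
    obtain ⟨R, hR⟩ := (IsPGroup.of_card (n := 1) (by rw [Nat.card_zpowers, hg, pow_one]) :
      IsPGroup p (Subgroup.zpowers g)).exists_le_sylow
    have hgR : Subgroup.zpowers g = (R : Subgroup G) :=
      Subgroup.eq_of_le_of_card_ge hR (by rw [hP R, Nat.card_zpowers, hg])
    obtain ⟨c, hc⟩ := MulAction.exists_smul_eq G P R
    have hcg : ∃ j : ℤ, g = c * z ^ j * c⁻¹ := by
      have hm : g ∈ (R : Subgroup G) := hgR ▸ Subgroup.mem_zpowers g
      rw [← hc, Sylow.smul_def, Sylow.pointwise_smul_def, Subgroup.mem_pointwise_smul_iff_inv_smul_mem,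
        ← map_inv, MulAut.smul_def, MulAut.conj_apply, inv_inv, hPz] at hm
      obtain ⟨j, hj⟩ := hm
      exact ⟨j, by rw [show z ^ j = c⁻¹ * g * c from hj]; group⟩
    obtain ⟨j, hj⟩ := hcg
    have hCg : Nat.card (Subgroup.centralizer ({g} : Set G)) = p := by
      have hzj : z ^ j ≠ 1 := by
        intro e1
        rw [hj, e1, mul_one, mul_inv_cancel, orderOf_one] at hg
        exact (Fact.out : p.Prime).ne_one hg.symm
      have heq : Subgroup.centralizer ({g} : Set G) =
          (Subgroup.zpowers z).map (MulAut.conj c).toMonoidHom := by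
        ext a
        rw [Subgroup.mem_map_equiv, MulAut.conj_symm_apply, Subgroup.mem_centralizer_singleton_iff]
        constructor
        · intro ha
          rw [← hC, Subgroup.mem_centralizer_singleton_iff]
          obtain ⟨i, hi⟩ : z ∈ Subgroup.zpowers (z ^ j) := by
            rw [show Subgroup.zpowers (z ^ j) = Subgroup.zpowers z from
              Subgroup.eq_of_le_of_card_ge (Subgroup.zpowers_le.mpr (zpow_mem (Subgroup.mem_zpowers z) j))
                (by
                  rw [Nat.card_zpowers, Nat.card_zpowers, hz]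
                  have hd : orderOf (z ^ j) ∣ p :=
                    (orderOf_dvd_of_mem_zpowers (zpow_mem (Subgroup.mem_zpowers z) j)).trans (dvd_of_eq hz)
                  rcases (Nat.dvd_prime Fact.out).mp hd with e1 | e1
                  · exact absurd (orderOf_eq_one_iff.mp e1) hzj
                  · exact e1.ge)]
            exact Subgroup.mem_zpowers z
          have hcomm : Commute (c⁻¹ * a * c) (z ^ j) := by
            rw [hj] at ha
            show c⁻¹ * a * c * z ^ j = z ^ j * (c⁻¹ * a * c)
            calc c⁻¹ * a * c * z ^ j = c⁻¹ * (a * (c * z ^ j * c⁻¹)) * c := by group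
              _ = c⁻¹ * ((c * z ^ j * c⁻¹) * a) * c := by rw [ha]
              _ = _ := by group
          have h2 := (hcomm.zpow_right i).eq
          have hi' : (z ^ j) ^ i = z := hi
          rwa [hi'] at h2
        · intro ha
          obtain ⟨i, hi⟩ := ha
          have ha' : a = c * z ^ i * c⁻¹ := by rw [show z ^ i = c⁻¹ * a * c from hi]; group
          rw [hj, ha']; group
      rw [heq, ← Nat.card_congr ((Subgroup.zpowers z).equivMapOfInjective _ (MulAut.conj c).injective).toEquiv,
        Nat.card_zpowers, hz]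
    have hidx := (Subgroup.centralizer ({g} : Set G)).index_mul_card
    rw [hCg] at hidx
    rw [← hidx]
    congr 1
    refine Nat.card_congr (Equiv.ofBijective
      (fun q : {h : G // ConjClasses.mk h = ConjClasses.mk g} =>
        (QuotientGroup.mk (isConj_iff.mp (ConjClasses.mk_eq_mk_iff_isConj.mp q.2).symm).choose :
          G ⧸ Subgroup.centralizer ({g} : Set G))) ⟨?_, ?_⟩)
    · intro a b hab
      have ha := (isConj_iff.mp (ConjClasses.mk_eq_mk_iff_isConj.mp a.2).symm).choose_spec
      have hb := (isConj_iff.mp (ConjClasses.mk_eq_mk_iff_isConj.mp b.2).symm).choose_spec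
      simp only [QuotientGroup.eq, Subgroup.mem_centralizer_singleton_iff] at hab
      generalize (isConj_iff.mp (ConjClasses.mk_eq_mk_iff_isConj.mp a.2).symm).choose = u at ha hab
      generalize (isConj_iff.mp (ConjClasses.mk_eq_mk_iff_isConj.mp b.2).symm).choose = w at hb hab
      refine Subtype.ext ?_
      rw [← ha, ← hb]
      calc u * g * u⁻¹ = u * (g * (u⁻¹ * w)) * w⁻¹ := by group
        _ = u * (u⁻¹ * w * g) * w⁻¹ := by rw [hab]
        _ = _ := by group
    · intro q
      obtain ⟨u, rfl⟩ := QuotientGroup.mk_surjective q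
      set x : {h : G // ConjClasses.mk h = ConjClasses.mk g} :=
        ⟨u * g * u⁻¹, ConjClasses.mk_eq_mk_iff_isConj.mpr (isConj_iff.mpr ⟨u, rfl⟩).symm⟩
      refine ⟨x, ?_⟩
      have hx := (isConj_iff.mp (ConjClasses.mk_eq_mk_iff_isConj.mp x.2).symm).choose_spec
      simp only [QuotientGroup.eq, Subgroup.mem_centralizer_singleton_iff]
      generalize (isConj_iff.mp (ConjClasses.mk_eq_mk_iff_isConj.mp x.2).symm).choose = w at hx
      have hx' : w * g * w⁻¹ = u * g * u⁻¹ := hx
      calc w⁻¹ * u * g = w⁻¹ * (u * g * u⁻¹) * u := by group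
        _ = w⁻¹ * (w * g * w⁻¹) * u := by rw [hx']
        _ = _ := by group
  letI := Fintype.ofFinite T
  have hsum : Nat.card {g : G // orderOf g = p} * p = Nat.card T * Nat.card G := by
    have hmk : ∀ g : {g : G // orderOf g = p}, ∃ g' : G, ConjClasses.mk g' = ConjClasses.mk g.1 ∧ orderOf g' = p :=
      fun g => ⟨g.1, rfl, g.2⟩
    let π : {g : G // orderOf g = p} → T := fun g => ⟨ConjClasses.mk g.1, hmk g⟩
    have hfib : ∀ c : T, Nat.card {g : {g : G // orderOf g = p} // π g = c} * p = Nat.card G := by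
      rintro ⟨c, g₀, rfl, hg₀⟩
      rw [← hcl g₀ hg₀]
      congr 1
      refine Nat.card_congr
        { toFun := fun g => ⟨g.1.1, congrArg Subtype.val g.2⟩
          invFun := fun h => ⟨⟨h.1, ?_⟩, Subtype.ext h.2⟩
          left_inv := fun g => rfl
          right_inv := fun h => rfl }
      obtain ⟨u, hu⟩ := isConj_iff.mp (ConjClasses.mk_eq_mk_iff_isConj.mp h.2).symm
      rw [← hu, ← MulAut.conj_apply, MulEquiv.orderOf_eq, hg₀]
    rw [← Nat.card_congr (Equiv.sigmaFiberEquiv π), Nat.card_sigma, Finset.sum_mul,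
      Finset.sum_congr rfl (fun c _ => hfib c), Finset.sum_const, smul_eq_mul, Finset.card_univ,
      ← Nat.card_eq_fintype_card]
  have hge := Small.card_orderOf_ge (p := p) (G := G) hP
  have hle : Nat.card {g : G // orderOf g = p} ≤ Nat.card (Sylow p G) * (p - 1) := by
    letI := Fintype.ofFinite (Sylow p G)
    have e' : Nat.card (Sylow p G) * (p - 1) =
        Nat.card (Σ R : Sylow p G, {v : (R : Subgroup G) // v ≠ 1}) := by
      rw [Nat.card_sigma, Finset.sum_congr rfl (fun (R : Sylow p G) _ => show Nat.card {v : (R : Subgroup G) // v ≠ 1} = p - 1 by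
          letI := Fintype.ofFinite (R : Subgroup G)
          rw [Nat.card_eq_fintype_card, Fintype.card_subtype_compl, Fintype.card_subtype_eq,
            ← Nat.card_eq_fintype_card, hP R]),
        Finset.sum_const, Finset.card_univ, smul_eq_mul, Nat.card_eq_fintype_card]
    rw [e']
    refine Nat.card_le_card_of_surjective (fun s => ⟨(s.2.1 : G), ?_⟩) ?_
    · rw [Subgroup.orderOf_coe]
      exact orderOf_eq_card_of_forall_mem_zpowers
        (fun w => zpowers_eq_top_of_prime_card (hP s.1) s.2.2 ▸ Subgroup.mem_top w) |>.trans (hP s.1)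
    · rintro ⟨g, hg⟩
      obtain ⟨R, hR⟩ := (IsPGroup.of_card (n := 1) (by rw [Nat.card_zpowers, hg, pow_one]) :
        IsPGroup p (Subgroup.zpowers g)).exists_le_sylow
      exact ⟨⟨R, ⟨⟨g, hR (Subgroup.mem_zpowers g)⟩, fun e1 => by
        have e2 : g = 1 := congrArg Subtype.val e1
        rw [e2, orderOf_one] at hg
        exact (Fact.out : p.Prime).ne_one hg.symm⟩⟩, rfl⟩
  have hm : 1 ≤ Nat.card (Sylow p G) := Nat.card_pos
  obtain ⟨n, hn⟩ := (Nat.modEq_iff_dvd' hm).mp (card_sylow_modEq_one p G).symm
  have hn' : Nat.card (Sylow p G) = 1 + n * p := by rw [mul_comm n p]; omega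
  have hGt : Nat.card G * Nat.card T = (p - 1) * p * Nat.card (Sylow p G) := by
    rw [mul_comm, ← hsum, le_antisymm hle hge]; ring
  have hNG := Small.card_normalizer_mul P
  have htt : Nat.card T = t' := by
    rw [← hNG, he, ht'] at hGt
    have hpos : 0 < p * e * Nat.card (Sylow p G) := he ▸ Nat.mul_pos Nat.card_pos hm
    refine Nat.eq_of_mul_eq_mul_left hpos ?_
    rw [hGt]; ring
  refine ⟨n, Nat.card T, rfl, ?_, hn', ?_⟩
  · rw [htt]; exact Dvd.intro_left e ht'.symm
  · rw [hGt, hn']

end Cfsg.Agent.S0995
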