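import Cfsg.Statements.S1002
import Cfsg.Agent.Lib.Small.SylowToolkit

set_option autoImplicit false
open Cfsg

namespace Cfsg.Agent.S1002

/-- No finite simple group has order 1004913 = 3^3 * 7 * 13 * 409. -/
theorem result {G : Type*} [Group G] [Finite G] [IsSimpleGroup G] : Nat.card G ≠ 1004913 := by
  intro hcard
  haveI : Fact (Nat.Prime 409) := ⟨by norm_num⟩
  haveI : Fact (Nat.Prime 13) := ⟨by norm_num⟩
  haveI : Fact (Nat.Prime 7) := ⟨by norm_num⟩
  haveI : Fact (Nat.Prime 3) := ⟨by norm_num⟩
  have hnp : ¬ (Nat.card G).Prime := by rw [hcard]; norm_num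
  have hG := Small.not_comm_of_card hnp
  have hbig : ∀ (p : ℕ) [Fact p.Prime], p ∣ Nat.card G → 409 ≤ Nat.card (Sylow p G) := by
    intro p _ hd
    have h := (Dvd.intro_left 2 rfl : Nat.card G ∣ 2 * Nat.card G).trans (Small.factorial_bound (p := p) hG hd)
    exact (Nat.Prime.dvd_factorial (by norm_num : Nat.Prime 409)).mp
      ((show 409 ∣ Nat.card G by rw [hcard]; norm_num).trans h)
  have hk : Nat.card G = 409 ^ 1 * 2457 := by rw [hcard]; norm_num
  have hk13 : Nat.card G = 13 ^ 1 * 77301 := by rw [hcard]; norm_num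
  have hk7 : Nat.card G = 7 ^ 1 * 143559 := by rw [hcard]; norm_num
  have hbound : ∀ (p m Q B : ℕ) [Fact p.Prime], Nat.card G = p ^ 1 * m → ¬ p ∣ m →
      p ∣ Nat.card G → m < Q * 409 →
      (∀ q : ℕ, q < Q → q ∣ m → m / q % p = 1 → B ≤ m / q) → B ≤ Nat.card (Sylow p G) := by
    intro p m Q B _ hm hpm hpd hQ hall
    have h409 := hbig p hpd
    have hmem := Small.sylow_number_mem hm hpm
    rw [Finset.mem_filter, Nat.mem_divisors] at hmem
    obtain ⟨⟨⟨q, hq⟩, hm0⟩, hmod⟩ := hmem
    have hq0 : 0 < q := Nat.pos_of_ne_zero fun e => hm0 (by rw [hq, e, mul_zero])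
    have hdiv : m / q = Nat.card (Sylow p G) := by rw [hq, Nat.mul_div_cancel _ hq0]
    have hqQ : q < Q := by
      by_contra hc
      have := Nat.mul_le_mul (not_lt.mp hc) h409
      rw [hq, mul_comm] at hQ
      omega
    rw [← hdiv]
    exact hall q hqQ (Dvd.intro_left _ hq.symm) (hdiv.symm ▸ hmod)
  have hn := hbound 409 2457 7 819 hk (by norm_num) (Dvd.intro _ (pow_one 409 ▸ hk.symm))
    (by norm_num) (by decide +kernel)
  have hn13 := hbound 13 77301 190 25767 hk13 (by norm_num) (Dvd.intro _ (pow_one 13 ▸ hk13.symm))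
    (by norm_num) (by decide +kernel)
  have hn7 := hbound 7 143559 352 47853 hk7 (by norm_num) (Dvd.intro _ (pow_one 7 ▸ hk7.symm))
    (by norm_num) (by decide +kernel)
  have hn819 : Nat.card (Sylow 409 G) ≤ 819 := by
    have hmem := Small.sylow_number_mem hk (by norm_num)
    rw [Finset.mem_filter, Nat.mem_divisors] at hmem
    obtain ⟨⟨⟨q, hq⟩, -⟩, hmod⟩ := hmem
    rcases lt_or_ge q 3 with h | h
    · interval_cases q <;> omega
    · have := Nat.mul_le_mul_left (Nat.card (Sylow 409 G)) h
      omega
  obtain ⟨P⟩ : Nonempty (Sylow 409 G) := inferInstance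
  have hP : Nat.card (P : Subgroup G) = 409 := (Small.sylow_card hk (by norm_num) P).trans (pow_one 409)
  have hd : 409 ∣ Nat.card G := by rw [hcard]; norm_num
  have hN := Small.card_normalizer_mul P
  rw [hcard] at hN
  have hn' : Nat.card (Sylow 409 G) = 819 := le_antisymm hn819 hn
  rw [hn'] at hN
  have hN' : Nat.card (Subgroup.normalizer ((P : Subgroup G) : Set G)) = 1227 := by omega
  obtain ⟨w, hw⟩ := exists_prime_orderOf_dvd_card' (p := 3)
    (G := Subgroup.normalizer ((P : Subgroup G) : Set G)) (by rw [hN']; norm_num)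
  have hwG : orderOf (w : G) = 3 := by rw [Subgroup.orderOf_coe, hw]
  have hwC : (w : G) ∉ Subgroup.centralizer ((P : Subgroup G) : Set G) := by
    intro hm
    refine Small.centralizer_ne_normalizer hnp hd P ?_
    have hle := Subgroup.card_dvd_of_le (Small.centralizer_le_normalizer (P : Subgroup G))
    have h409 := Subgroup.card_dvd_of_le (Small.le_centralizer_self (P : Subgroup G) hP)
    have h3 : 3 ∣ Nat.card (Subgroup.centralizer ((P : Subgroup G) : Set G)) := by
      rw [← hwG, ← Subgroup.orderOf_mk (w : G) hm]; exact orderOf_dvd_natCard _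
    rw [hP] at h409
    rw [hN'] at hle ⊢
    exact Nat.dvd_antisymm hle (Nat.Coprime.mul_dvd_of_dvd_of_dvd (by norm_num) h409 h3)
  obtain ⟨-, h2⟩ := Small.fixed_le P hP w.2 hwC
  rw [hn'] at h2
  have h3 := Small.card_centralizer_mul_le P hP w.2 hwC
  rw [hN'] at h3
  have hC9 : Nat.card (Subgroup.centralizer ({(w : G)} : Set G)) ≤ 9 := by
    have hf : Nat.card (MulAction.fixedBy (G ⧸ Subgroup.normalizer ((P : Subgroup G) : Set G)) (w : G)) ≤ 3 := by
      omega
    have := h3.trans (Nat.mul_le_mul_right _ hf)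
    omega
  have hidx : 111657 ≤ (Subgroup.centralizer ({(w : G)} : Set G)).index := by
    have h := Subgroup.card_mul_index (Subgroup.centralizer ({(w : G)} : Set G))
    rw [hcard] at h
    by_contra hlt
    have := Nat.mul_lt_mul_of_le_of_lt hC9 (not_le.mp hlt) (by norm_num)
    omega
  have hc3 := hidx.trans (Small.index_centralizer_le_card_orderOf (w : G))
  rw [hwG] at hc3
  have hc409 := Small.card_orderOf_ge (p := 409) (G := G) fun R =>
    (Small.sylow_card hk (by norm_num) R).trans (pow_one _)
  have hc13 := Small.card_orderOf_ge (p := 13) (G := G) fun R =>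
    (Small.sylow_card hk13 (by norm_num) R).trans (pow_one _)
  have hc7 := Small.card_orderOf_ge (p := 7) (G := G) fun R =>
    (Small.sylow_card hk7 (by norm_num) R).trans (pow_one _)
  classical
  letI := Fintype.ofFinite G
  have hcount : ∀ n : ℕ, Nat.card {g : G // orderOf g = n} =
      (Finset.univ.filter (fun g : G => orderOf g = n)).card := fun n => by
    rw [Nat.card_eq_fintype_card, Fintype.card_subtype]
  rw [hcount] at hc3 hc409 hc13 hc7
  have hsum : (Finset.univ.filter (fun g : G => orderOf g = 409)).card +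
      (Finset.univ.filter (fun g : G => orderOf g = 13)).card +
      (Finset.univ.filter (fun g : G => orderOf g = 7)).card +
      (Finset.univ.filter (fun g : G => orderOf g = 3)).card ≤ Nat.card G := by
    rw [← Finset.card_union_of_disjoint, ← Finset.card_union_of_disjoint,
      ← Finset.card_union_of_disjoint, Nat.card_eq_fintype_card]
    · exact Finset.card_le_univ _
    all_goals
      rw [Finset.disjoint_left]
      intro g hg hg'
      simp only [Finset.mem_union, Finset.mem_filter, Finset.mem_univ, true_and] at hg hg'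
      omega
  rw [hcard] at hsum
  omega

end Cfsg.Agent.S1002
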