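import Cfsg.Statements.S1006
import Cfsg.Agent.Lib.Small.Order168

set_option autoImplicit false
open Cfsg

namespace Cfsg.Agent.S1006



/-- In a simple group of order 168 there are 56 elements of order 3, all conjugate; 42 elements of order 4, all conjugate; and 48 elements of order 7 falling into two conjugacy classes of size 24, an element of order 7 not being conjugate to its inverse. -/
theorem result {G : Type*} [Group G] [Finite G] [IsSimpleGroup G] (h : Nat.card G = 168) : Nat.card {g : G // orderOf g = 3} = 56 ∧ (∀ s t : G, orderOf s = 3 → orderOf t = 3 → IsConj s t) ∧ Nat.card {g : G // orderOf g = 4} = 42 ∧ (∀ s t : G, orderOf s = 4 → orderOf t = 4 → IsConj s t) ∧ Nat.card {g : G // orderOf g = 7} = 48 ∧ ∀ x : G, orderOf x = 7 → Nat.card {g : G // IsConj x g} = 24 ∧ ¬ IsConj x x⁻¹ := by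
  haveI : Fact (Nat.Prime 2) := ⟨Nat.prime_two⟩
  haveI : Fact (Nat.Prime 3) := ⟨by norm_num⟩
  obtain ⟨T⟩ : Nonempty (Sylow 2 G) := inferInstance
  obtain ⟨a, b, -, -, ha4, -, -, hinv, -, hC, hconj⟩ := Order168.sylow2_gens h T
  obtain ⟨-, -, h3, h4, h7, -, hfour⟩ := Order168.counts h T ha4 hconj hC
  refine ⟨h3, ?_, h4, ?_, h7, fun x hx => ⟨?_, ?_⟩⟩
  · intro s t hs ht
    obtain ⟨P, hP⟩ := Order168.exists_sylow_eq (Order168.sylow3_card h) hs
    obtain ⟨Q, hQ⟩ := Order168.exists_sylow_eq (Order168.sylow3_card h) ht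
    obtain ⟨g, hg⟩ := MulAction.exists_smul_eq G P Q
    have hmem : g * s * g⁻¹ ∈ Subgroup.zpowers t := by
      rw [← hQ, ← hg, Sylow.smul_def, Sylow.pointwise_smul_def,
        Subgroup.mem_pointwise_smul_iff_inv_smul_mem, ← map_inv, MulAut.smul_def, MulAut.conj_apply,
        inv_inv, hP]
      convert Subgroup.mem_zpowers s using 1
      group
    have ho : orderOf (g * s * g⁻¹) = 3 := by rw [← MulAut.conj_apply, MulEquiv.orderOf_eq, hs]
    have key : g * s * g⁻¹ = t ∨ g * s * g⁻¹ = t⁻¹ := by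
      obtain ⟨i, hi⟩ := hmem
      have hi' : t ^ i = g * s * g⁻¹ := hi
      rw [← hi'] at ho ⊢
      have hmod : t ^ i = t ^ (i % 3) := by rw [← zpow_mod_orderOf, ht]; rfl
      rw [hmod] at ho ⊢
      have h0 := Int.emod_nonneg i (by norm_num : (3 : ℤ) ≠ 0)
      have h5 := Int.emod_lt_of_pos i (by norm_num : (0 : ℤ) < 3)
      interval_cases hr : i % 3
      · simp at ho
      · left; rw [zpow_one]
      · right
        rw [eq_inv_iff_mul_eq_one]
        nth_rewrite 2 [← zpow_one t]
        rw [← zpow_add, ← orderOf_dvd_iff_zpow_eq_one, ht]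
        norm_num
    have hti : IsConj t⁻¹ t := by
      obtain ⟨w, hw⟩ := exists_prime_orderOf_dvd_card' (p := 2)
        (G := Subgroup.normalizer ((Q : Subgroup G) : Set G)) (by rw [Order168.normalizer3 h]; norm_num)
      have hwG : orderOf (w : G) = 2 := by rw [Subgroup.orderOf_coe, hw]
      have htm : (w : G) * t * (w : G)⁻¹ ∈ Subgroup.zpowers t := by
        have := (Subgroup.mem_normalizer_iff.mp w.2 t).mp (hQ ▸ Subgroup.mem_zpowers t)
        rwa [← hQ]
      obtain ⟨i, hi⟩ := htm
      have hi' : t ^ i = (w : G) * t * (w : G)⁻¹ := hi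
      have hmod : t ^ i = t ^ (i % 3) := by rw [← zpow_mod_orderOf, ht]; rfl
      rw [hmod] at hi'
      have h0 := Int.emod_nonneg i (by norm_num : (3 : ℤ) ≠ 0)
      have h5 := Int.emod_lt_of_pos i (by norm_num : (0 : ℤ) < 3)
      interval_cases hr : i % 3
      · rw [zpow_zero] at hi'
        rw [conj_eq_one_iff.mp hi'.symm, orderOf_one] at ht; omega
      · exfalso
        rw [zpow_one] at hi'
        have hwc : (w : G) ∈ Subgroup.centralizer ({t} : Set G) :=
          Subgroup.mem_centralizer_singleton_iff.mpr (mul_inv_eq_iff_eq_mul.mp hi'.symm)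
        have := orderOf_dvd_natCard (⟨_, hwc⟩ : Subgroup.centralizer ({t} : Set G))
        rw [Subgroup.orderOf_mk, hwG, Order168.centralizer_of_order_three h ht] at this
        omega
      · refine (isConj_iff.mpr ⟨(w : G), ?_⟩).symm
        rw [← hi', eq_inv_iff_mul_eq_one]
        nth_rewrite 2 [← zpow_one t]
        rw [← zpow_add, ← orderOf_dvd_iff_zpow_eq_one, ht]
        norm_num
    rcases key with e | e
    · exact isConj_iff.mpr ⟨g, e⟩
    · exact (isConj_iff.mpr ⟨g, e⟩).trans hti
  · have hai : IsConj a⁻¹ a := (isConj_iff.mpr ⟨b, hinv⟩).symm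
    have hall : ∀ g : G, orderOf g = 4 → IsConj a g := fun g hg => by
      obtain ⟨k, e | e⟩ := hfour g hg
      · exact isConj_iff.mpr ⟨k, e⟩
      · exact hai.symm.trans (isConj_iff.mpr ⟨k, e⟩)
    exact fun s t hs ht => (hall s hs).symm.trans (hall t ht)
  · have hi : (Subgroup.centralizer ({x} : Set G)).index = 24 := by
      have := (Subgroup.centralizer ({x} : Set G)).card_mul_index
      rw [Order168.centralizer_of_order_seven h hx, h] at this
      omega
    rw [← hi, Subgroup.index]
    refine (Nat.card_eq_of_bijective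
      (fun q : G ⧸ Subgroup.centralizer ({x} : Set G) => (⟨q.out * x * q.out⁻¹, isConj_iff.mpr ⟨_, rfl⟩⟩ :
        {g : G // IsConj x g})) ⟨fun q q' e => ?_, ?_⟩).symm
    · have e' : q.out * x * q.out⁻¹ = q'.out * x * q'.out⁻¹ := congrArg Subtype.val e
      rw [← QuotientGroup.out_eq' q, ← QuotientGroup.out_eq' q', QuotientGroup.eq,
        Subgroup.mem_centralizer_singleton_iff]
      calc q.out⁻¹ * q'.out * x = q.out⁻¹ * (q'.out * x * q'.out⁻¹) * q'.out := by group
        _ = q.out⁻¹ * (q.out * x * q.out⁻¹) * q'.out := by rw [e']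
        _ = x * (q.out⁻¹ * q'.out) := by group
    · rintro ⟨g, hg⟩
      obtain ⟨k, rfl⟩ := isConj_iff.mp hg
      refine ⟨(k : G ⧸ Subgroup.centralizer ({x} : Set G)), Subtype.ext ?_⟩
      obtain ⟨⟨c, hc⟩, hck⟩ := QuotientGroup.mk_out_eq_mul (Subgroup.centralizer ({x} : Set G)) k
      show _ * x * _⁻¹ = k * x * k⁻¹
      rw [hck]
      calc k * c * x * (k * c)⁻¹ = k * (c * x) * c⁻¹ * k⁻¹ := by group
        _ = k * (x * c) * c⁻¹ * k⁻¹ := by rw [Subgroup.mem_centralizer_singleton_iff.mp hc]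
        _ = k * x * k⁻¹ := by group
  · intro hc
    haveI : Fact (Nat.Prime 7) := ⟨by norm_num⟩
    obtain ⟨g, hg⟩ := isConj_iff.mp hc
    obtain ⟨P, hP⟩ := Order168.exists_sylow_eq (Order168.sylow7_card h) hx
    have hgN : g ∈ Subgroup.normalizer ((P : Subgroup G) : Set G) := by
      rw [hP, Subgroup.mem_normalizer_iff_map_conj_eq, MonoidHom.map_zpowers]
      show Subgroup.zpowers (g * x * g⁻¹) = _
      rw [hg, Subgroup.zpowers_inv]
    have hd := orderOf_dvd_natCard (⟨g, hgN⟩ : Subgroup.normalizer ((P : Subgroup G) : Set G))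
    rw [Subgroup.orderOf_mk, Order168.normalizer7 h] at hd
    have hg2 : g * g * x * (g * g)⁻¹ = x := by
      rw [show g * g * x * (g * g)⁻¹ = g * (g * x * g⁻¹) * g⁻¹ by group, hg, ← conj_inv, hg, inv_inv]
    have hxx : g * x * g⁻¹ = x := by
      have h21 : g ^ 21 = 1 := orderOf_dvd_iff_pow_eq_one.mp hd
      have hc2 : Commute (g * g) x := mul_inv_eq_iff_eq_mul.mp hg2
      have e : g = (g * g) ^ 11 := by
        rw [← pow_two, ← pow_mul, show 2 * 11 = 21 + 1 by norm_num, pow_succ, h21, one_mul]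
      have hc3 : Commute g x := e ▸ hc2.pow_left 11
      rw [hc3.eq, mul_inv_cancel_right]
    rw [hxx] at hg
    have h2 : x * x = 1 := by nth_rewrite 2 [hg]; exact mul_inv_cancel x
    rw [← pow_two] at h2
    have := orderOf_dvd_of_pow_eq_one h2
    rw [hx] at this
    omega

end Cfsg.Agent.S1006
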