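import Cfsg.Statements.S1008
import Cfsg.Agent.Lib.Small.Order168Subgroups

set_option autoImplicit false
open Cfsg

namespace Cfsg.Agent.S1008

def v4 : Subgroup (Equiv.Perm (Fin 4)) where
  carrier := {g | g * g = 1 ∧ Equiv.Perm.sign g = 1}
  one_mem' := ⟨one_mul 1, map_one _⟩
  mul_mem' := by
    have : ∀ f g : Equiv.Perm (Fin 4), f * f = 1 ∧ Equiv.Perm.sign f = 1 →
        g * g = 1 ∧ Equiv.Perm.sign g = 1 → f * g * (f * g) = 1 ∧ Equiv.Perm.sign (f * g) = 1 := by
      decide +kernel
    exact fun {f g} hf hg => this f g hf hg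
  inv_mem' := by
    have : ∀ f : Equiv.Perm (Fin 4), f * f = 1 ∧ Equiv.Perm.sign f = 1 →
        f⁻¹ * f⁻¹ = 1 ∧ Equiv.Perm.sign f⁻¹ = 1 := by
      decide +kernel
    exact fun {f} hf => this f hf

theorem mem_v4 (g : Equiv.Perm (Fin 4)) : g ∈ v4 ↔ g * g = 1 ∧ Equiv.Perm.sign g = 1 := Iff.rfl

theorem v4_normal : v4.Normal := by
  refine ⟨fun n hn g => ?_⟩
  have : ∀ n g : Equiv.Perm (Fin 4), n * n = 1 ∧ Equiv.Perm.sign n = 1 →
      g * n * g⁻¹ * (g * n * g⁻¹) = 1 ∧ Equiv.Perm.sign (g * n * g⁻¹) = 1 := by decide +kernel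
  exact this n g hn

theorem v4_klein : IsKleinFour v4 := by
  have hc : Nat.card v4 = 4 := by
    rw [show Nat.card v4 = Nat.card {g : Equiv.Perm (Fin 4) // g * g = 1 ∧ Equiv.Perm.sign g = 1} from rfl,
      Nat.card_eq_fintype_card]
    decide +kernel
  refine ⟨hc, ?_⟩
  haveI : Nontrivial v4 := Finite.one_lt_card_iff_nontrivial.mp (by omega)
  refine (Monoid.exponent_eq_prime_iff Nat.prime_two).mpr fun g hg => orderOf_eq_prime ?_ hg
  rw [pow_two]
  exact Subtype.ext ((mem_v4 g.1).mp g.2).1

variable {G : Type*} [Group G] [Finite G] [IsSimpleGroup G]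

theorem exists_klein_normalizer (h : Nat.card G = 168) {M : Subgroup G} (hM : Nat.card M = 24) :
    ∃ U : Subgroup G, IsKleinFour U ∧ M = Subgroup.normalizer (U : Set G) := by
  obtain ⟨e⟩ := Order168.twentyfour_equiv h hM
  set W : Subgroup M := v4.map e.symm.toMonoidHom with hW
  haveI : W.Normal := v4_normal.map _ e.symm.surjective
  have eW : v4 ≃* (W.map M.subtype : Subgroup G) :=
    (v4.equivMapOfInjective e.symm.toMonoidHom e.symm.injective).trans
      (W.equivMapOfInjective M.subtype M.subtype_injective)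
  have hU : IsKleinFour (W.map M.subtype : Subgroup G) :=
    ⟨by rw [← Nat.card_congr eW.toEquiv]; exact v4_klein.card_four,
      by rw [← Monoid.exponent_eq_of_mulEquiv eW]; exact v4_klein.exponent_two⟩
  refine ⟨_, hU, Subgroup.eq_of_le_of_card_ge ?_ (by rw [Order168.klein_normalizer h hU, hM])⟩
  refine le_trans ?_ (Subgroup.le_normalizer_map M.subtype)
  rw [Subgroup.normalizer_eq_top_iff.mpr (inferInstance : W.Normal), ← MonoidHom.range_eq_map,
    Subgroup.range_subtype]

theorem overgroup (h : Nat.card G = 168) {M : Subgroup G} (hM : M ≠ ⊤) :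
    ∃ N : Subgroup G, M ≤ N ∧ N ≠ ⊤ ∧ (Nat.card N = 21 ∨ Nat.card N = 24) := by
  haveI : Fact (Nat.Prime 2) := ⟨Nat.prime_two⟩
  haveI : Fact (Nat.Prime 3) := ⟨by norm_num⟩
  haveI : Fact (Nat.Prime 7) := ⟨by norm_num⟩
  have hle := Order168.card_le h hM
  have hdvd : Nat.card M ∣ 168 := h ▸ Subgroup.card_subgroup_dvd_card M
  have hpos : 0 < Nat.card M := Nat.card_pos
  have hlt : ∀ N : Subgroup G, (Nat.card N = 21 ∨ Nat.card N = 24) → N ≠ ⊤ := fun N hN e => by
    rw [e, Subgroup.card_top, h] at hN; omega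
  suffices ∃ N : Subgroup G, M ≤ N ∧ (Nat.card N = 21 ∨ Nat.card N = 24) by
    obtain ⟨N, h1, h2⟩ := this
    exact ⟨N, h1, hlt N h2, h2⟩
  have case21 : 7 ∣ Nat.card M → Nat.card M ≤ 21 → ∃ N : Subgroup G, M ≤ N ∧ Nat.card N = 21 := by
    intro h7 h21
    obtain ⟨w, hw⟩ := exists_prime_orderOf_dvd_card' 7 h7
    have hwG : orderOf (w : G) = 7 := by rw [Subgroup.orderOf_coe, hw]
    obtain ⟨P, hP⟩ := Order168.exists_sylow_eq (Order168.sylow7_card h) hwG
    refine ⟨_, ?_, Order168.normalizer7 h P⟩
    have hm : ∀ R : Sylow 7 M, Nat.card (Sylow 7 M) = 1 := fun R => by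
      have hmem := card_sylow_modEq_one 7 M
      have h1 := Small.card_normalizer_mul R
      have h2 : 7 ∣ Nat.card (Subgroup.normalizer ((R : Subgroup M) : Set M)) := by
        refine dvd_trans ?_ (Subgroup.card_dvd_of_le Subgroup.le_normalizer)
        exact R.dvd_card_of_dvd_card h7
      obtain ⟨c, hc⟩ := h2
      rw [hc] at h1
      have hn3 : Nat.card (Sylow 7 M) ≤ 3 := by
        have hc0 : c ≠ 0 := fun e => by rw [e] at h1; omega
        have := Nat.mul_le_mul_right (Nat.card (Sylow 7 M)) (show 7 ≤ 7 * c by omega)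
        omega
      have hn0 : 0 < Nat.card (Sylow 7 M) := Nat.card_pos
      have := hmem.eq_of_lt_of_lt (by omega) (by norm_num)
      exact this
    obtain ⟨R⟩ : Nonempty (Sylow 7 M) := inferInstance
    haveI : Subsingleton (Sylow 7 M) := (Nat.card_eq_one_iff_unique.mp (hm R)).1
    have hn := R.normal_of_subsingleton
    have hRP : (R : Subgroup M).map M.subtype = (P : Subgroup G) := by
      have hzw : Subgroup.zpowers w ≤ (R : Subgroup M) := by
        obtain ⟨R', hR'⟩ := (IsPGroup.of_card (n := 1)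
          (by rw [Nat.card_zpowers, hw, pow_one]) : IsPGroup 7 (Subgroup.zpowers w)).exists_le_sylow
        rwa [Subsingleton.elim R' R] at hR'
      obtain ⟨S, hS⟩ := ((R.isPGroup').map M.subtype).exists_le_sylow
      have h2 : (P : Subgroup G) ≤ (R : Subgroup M).map M.subtype := by
        rw [hP, Subgroup.zpowers_le]
        exact ⟨w, hzw (Subgroup.mem_zpowers w), rfl⟩
      exact (Subgroup.eq_of_le_of_card_ge h2
        ((Subgroup.card_le_of_le hS).trans (by rw [Order168.sylow7_card h, Order168.sylow7_card h]))).symm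
    rw [← hRP]
    refine le_trans ?_ (Subgroup.le_normalizer_map M.subtype)
    rw [Subgroup.normalizer_eq_top_iff.mpr hn, ← MonoidHom.range_eq_map, Subgroup.range_subtype]
  have case2 : IsPGroup 2 M → ∃ N : Subgroup G, M ≤ N ∧ Nat.card N = 24 := by
    intro hp
    obtain ⟨T, hT⟩ := hp.exists_le_sylow
    obtain ⟨a, b, ha, hb, ha4, hb2, hba, hinv, -, -, -⟩ := Order168.sylow2_gens h T
    obtain ⟨k1, -⟩ := Order168.klein_in_sylow h T ha hb ha4 hb2 hba hinv
    have hle1 : Subgroup.closure ({a * a, b} : Set G) ≤ (T : Subgroup G) := (Subgroup.closure_le _).mpr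
      (by rintro _ (rfl | rfl) <;> first | assumption | exact mul_mem ha ha)
    exact ⟨_, hT.trans (Order168.klein_facts h T hle1 k1).1, (Order168.klein_facts h T hle1 k1).2⟩
  have hQN : ∀ Q : Sylow 3 G, ∃ N : Subgroup G,
      Subgroup.normalizer ((Q : Subgroup G) : Set G) ≤ N ∧ Nat.card N = 24 := by
    intro Q
    obtain ⟨T⟩ : Nonempty (Sylow 2 G) := inferInstance
    obtain ⟨a, b, ha, hb, ha4, hb2, hba, hinv, -, -, -⟩ := Order168.sylow2_gens h T
    obtain ⟨k1, -⟩ := Order168.klein_in_sylow h T ha hb ha4 hb2 hba hinv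
    set N := Subgroup.normalizer ((Subgroup.closure ({a * a, b} : Set G) : Subgroup G) : Set G)
    have hN : Nat.card N = 24 := Order168.klein_normalizer h k1
    obtain ⟨e⟩ := Order168.twentyfour_equiv h hN
    obtain ⟨w, hw⟩ := exists_prime_orderOf_dvd_card' (p := 3) (G := N) (by rw [hN]; norm_num)
    have hwG : orderOf (w : G) = 3 := by rw [Subgroup.orderOf_coe, hw]
    obtain ⟨P, hP⟩ := Order168.exists_sylow_eq (Order168.sylow3_card h) hwG
    obtain ⟨g, hg⟩ := MulAction.exists_smul_eq G P Q
    refine ⟨N.map (MulAut.conj g).toMonoidHom, ?_, by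
      rw [Subgroup.card_map_of_injective (MulAut.conj g).injective, hN]⟩
    have hPN : Subgroup.normalizer ((P : Subgroup G) : Set G) ≤ N := by
      obtain ⟨R, hR⟩ := (IsPGroup.of_card (n := 1)
        (by rw [Nat.card_zpowers, hw, pow_one]) : IsPGroup 3 (Subgroup.zpowers w)).exists_le_sylow
      have hR3 : Nat.card (R : Subgroup N) = 3 :=
        (Small.sylow_card (k := 1) (m := 8) (by rw [hN]; norm_num) (by norm_num) R).trans (pow_one 3)
      have hRmap : (R : Subgroup N).map N.subtype = (P : Subgroup G) := by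
        rw [← Subgroup.eq_of_le_of_card_ge hR (by rw [hR3, Nat.card_zpowers, hw]), MonoidHom.map_zpowers, hP]
        rfl
      have hmem := Small.sylow_number_mem (p := 3) (k := 1) (m := 8) (G := N) (by rw [hN]; norm_num) (by norm_num)
      rw [Finset.mem_filter, Nat.mem_divisors] at hmem
      obtain ⟨⟨hd, -⟩, hmod⟩ := hmem
      have h8 := Nat.le_of_dvd (by norm_num) hd
      have hmul := Small.card_normalizer_mul R
      rw [hN] at hmul
      have hsub : (Subgroup.normalizer ((R : Subgroup N) : Set N)).map N.subtype ≤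
          Subgroup.normalizer ((P : Subgroup G) : Set G) := by
        rw [← hRmap]; exact Subgroup.le_normalizer_map _
      have h6 : 6 ≤ Nat.card ((Subgroup.normalizer ((R : Subgroup N) : Set N)).map N.subtype) := by
        rw [Subgroup.card_map_of_injective N.subtype_injective]
        generalize Nat.card (Sylow 3 N) = n at *
        interval_cases n <;> omega
      rw [← Subgroup.eq_of_le_of_card_ge hsub (by rw [Order168.normalizer3 h]; exact h6)]
      exact Subgroup.map_subtype_le _
    intro x hx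
    rw [Subgroup.mem_map_equiv]
    refine hPN (Sylow.smul_eq_iff_mem_normalizer.mp ?_)
    rw [MulAut.conj_symm_apply, mul_smul, mul_smul, hg, Sylow.smul_eq_iff_mem_normalizer.mpr hx, ← hg,
      inv_smul_smul]
  have case6 : Nat.card M = 3 ∨ Nat.card M = 6 → ∃ N : Subgroup G, M ≤ N ∧ Nat.card N = 24 := by
    intro h36
    obtain ⟨w, hw⟩ := exists_prime_orderOf_dvd_card' (p := 3) (G := M)
      (by rcases h36 with e | e <;> rw [e]; norm_num)
    have hwG : orderOf (w : G) = 3 := by rw [Subgroup.orderOf_coe, hw]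
    obtain ⟨P, hP⟩ := Order168.exists_sylow_eq (Order168.sylow3_card h) hwG
    obtain ⟨N, hN1, hN2⟩ := hQN P
    refine ⟨N, le_trans ?_ hN1, hN2⟩
    rcases h36 with e | e
    · rw [← Subgroup.eq_of_le_of_card_ge (H := (P : Subgroup G)) (K := M)
        (by rw [hP]; exact Subgroup.zpowers_le.mpr w.2) (by rw [e, Order168.sylow3_card h])]
      exact Subgroup.le_normalizer
    · rw [hP]
      have hZ : Subgroup.zpowers (w : G) ≤ M := Subgroup.zpowers_le.mpr w.2
      exact Order168.le_normalizer_of_index_two hZ (by rw [e, Nat.card_zpowers, hwG])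
  have case12 : Nat.card M = 12 → ∃ N : Subgroup G, M ≤ N ∧ Nat.card N = 24 := by
    intro e
    classical
    letI := Fintype.ofFinite M
    obtain ⟨R⟩ : Nonempty (Sylow 3 M) := inferInstance
    have hR3 : ∀ R : Sylow 3 M, Nat.card (R : Subgroup M) = 3 := fun R =>
      (Small.sylow_card (k := 1) (m := 4) (by rw [e]; norm_num) (by norm_num) R).trans (pow_one 3)
    have hmem := Small.sylow_number_mem (p := 3) (k := 1) (m := 4) (G := M) (by rw [e]; norm_num) (by norm_num)
    rw [Finset.mem_filter, Nat.mem_divisors] at hmem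
    obtain ⟨⟨hd, -⟩, hmod⟩ := hmem
    have h4 := Nat.le_of_dvd (by norm_num) hd
    have hmul := Small.card_normalizer_mul R
    rw [e] at hmul
    have h8 : 8 ≤ Nat.card {g : M // orderOf g = 3} := by
      refine le_trans ?_ (Small.card_orderOf_ge hR3)
      suffices Nat.card (Sylow 3 M) = 4 by rw [this]
      have hne1 : Nat.card (Sylow 3 M) ≠ 1 := by
        intro h1
        rw [h1, mul_one] at hmul
        obtain ⟨P, hP⟩ := ((R.isPGroup').map M.subtype).exists_le_sylow
        have hPQ : (R : Subgroup M).map M.subtype = (P : Subgroup G) :=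
          Subgroup.eq_of_le_of_card_ge hP (by
            rw [Order168.sylow3_card h, Subgroup.card_map_of_injective M.subtype_injective, hR3])
        have h6 := Subgroup.card_le_of_le (Subgroup.le_normalizer_map (H := (R : Subgroup M)) M.subtype)
        rw [hPQ, Subgroup.card_map_of_injective M.subtype_injective, hmul, Order168.normalizer3 h] at h6
        omega
      generalize Nat.card (Sylow 3 M) = n at *
      interval_cases n <;> omega
    obtain ⟨V⟩ : Nonempty (Sylow 2 M) := inferInstance
    have hV4 : ∀ V : Sylow 2 M, Nat.card (V : Subgroup M) = 4 := fun V =>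
      (Small.sylow_card (k := 2) (m := 3) (by rw [e]; norm_num) (by norm_num) V).trans (by norm_num)
    set A : Finset M := Finset.univ.filter (fun g => orderOf g ≠ 3) with hA
    have hA4 : A.card ≤ 4 := by
      have h1 := Finset.card_filter_add_card_filter_not (s := (Finset.univ : Finset M)) (fun g => orderOf g = 3)
      rw [Finset.card_univ, ← Nat.card_eq_fintype_card, e, ← Fintype.card_subtype,
        ← Nat.card_eq_fintype_card] at h1
      simp only [hA, ne_eq] at *
      omega
    have hsub : ∀ V : Sylow 2 M, Finset.univ.filter (fun g => g ∈ (V : Subgroup M)) = A := by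
      intro V
      refine Finset.eq_of_subset_of_card_le (fun g hg => ?_) ?_
      · simp only [hA, Finset.mem_filter, Finset.mem_univ, true_and] at hg ⊢
        intro h3
        have := orderOf_dvd_natCard (⟨g, hg⟩ : (V : Subgroup M))
        rw [Subgroup.orderOf_mk, h3, hV4] at this
        omega
      · refine hA4.trans ?_
        rw [← Fintype.card_subtype, ← Nat.card_eq_fintype_card]
        exact (hV4 V).ge
    haveI : Subsingleton (Sylow 2 M) := ⟨fun V V' => Sylow.ext (SetLike.ext fun g => by
      have := Finset.ext_iff.mp ((hsub V).trans (hsub V').symm) g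
      simpa using this)⟩
    have hn := V.normal_of_subsingleton
    have hVsq : ∀ v : (V : Subgroup M), v * v = 1 := by
      by_contra hno
      push Not at hno
      obtain ⟨v, hv⟩ := hno
      have hv4 : orderOf v = 4 := by
        have hd := orderOf_dvd_natCard v
        rw [hV4] at hd
        obtain ⟨i, hi, h2⟩ := (Nat.dvd_prime_pow (m := 2) Nat.prime_two).mp hd
        interval_cases i
        · rw [pow_zero, orderOf_eq_one_iff] at h2
          exact absurd (by rw [h2, one_mul]) hv
        · refine absurd ?_ hv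
          rw [← pow_two]
          exact orderOf_dvd_iff_pow_eq_one.mp (by rw [h2, pow_one])
        · simpa using h2
      obtain ⟨w, hw⟩ := exists_prime_orderOf_dvd_card' (p := 3) (G := M) (by rw [e]; norm_num)
      have hv2 : orderOf ((v : M) * v) = 2 := by
        rw [← pow_two, orderOf_pow' _ two_ne_zero, Subgroup.orderOf_coe, hv4]; rfl
      have hwc : w * ((v : M) * v) * w⁻¹ = (v : M) * v := by
        have hz : Subgroup.zpowers (v : M) = (V : Subgroup M) :=
          Subgroup.eq_of_le_of_card_ge (Subgroup.zpowers_le.mpr v.2)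
            (by rw [hV4, Nat.card_zpowers, Subgroup.orderOf_coe, hv4])
        have hcm : w * (v : M) * w⁻¹ ∈ Subgroup.zpowers (v : M) := hz.symm.le (hn.conj_mem _ v.2 w)
        obtain ⟨i, hi⟩ := hcm
        have hi' : (v : M) ^ i = w * v * w⁻¹ := hi
        have ho : orderOf ((v : M) ^ i) = 4 := by
          rw [hi', ← MulAut.conj_apply, MulEquiv.orderOf_eq, Subgroup.orderOf_coe, hv4]
        have hodd : ¬ 2 ∣ i := by
          rintro ⟨j, rfl⟩
          have hd : orderOf ((v : M) ^ (2 * j)) ∣ 2 := orderOf_dvd_of_pow_eq_one (by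
            rw [← zpow_natCast, ← zpow_mul, ← orderOf_dvd_iff_zpow_eq_one, Subgroup.orderOf_coe, hv4]
            push_cast
            exact ⟨j, by ring⟩)
          rw [ho] at hd
          omega
        obtain ⟨j, rfl⟩ : ∃ j, i = 2 * j + 1 := ⟨i / 2, by omega⟩
        calc w * ((v : M) * v) * w⁻¹ = w * v * w⁻¹ * (w * v * w⁻¹) := by group
          _ = (v : M) * v := by
            rw [← hi', ← zpow_add, ← pow_two, ← zpow_natCast, ← mul_inv_eq_one, ← zpow_neg, ← zpow_add,
              ← orderOf_dvd_iff_zpow_eq_one, Subgroup.orderOf_coe, hv4]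
            push_cast
            exact ⟨j, by ring⟩
      have hwG : orderOf (w : G) = 3 := by rw [Subgroup.orderOf_coe, hw]
      have hcC : (((v : M) * v : M) : G) ∈ Subgroup.centralizer ({(w : G)} : Set G) :=
        Subgroup.mem_centralizer_singleton_iff.mpr
          (congrArg Subtype.val (mul_inv_eq_iff_eq_mul.mp hwc)).symm
      have hd := orderOf_dvd_natCard (⟨_, hcC⟩ : Subgroup.centralizer ({(w : G)} : Set G))
      rw [Subgroup.orderOf_mk, Subgroup.orderOf_coe, hv2, Order168.centralizer_of_order_three h hwG] at hd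
      omega
    have eV : (V : Subgroup M) ≃* ((V : Subgroup M).map M.subtype : Subgroup G) :=
      (V : Subgroup M).equivMapOfInjective M.subtype M.subtype_injective
    haveI : Nontrivial (V : Subgroup M) := Finite.one_lt_card_iff_nontrivial.mp (by rw [hV4]; norm_num)
    have hU : IsKleinFour ((V : Subgroup M).map M.subtype : Subgroup G) :=
      ⟨by rw [← Nat.card_congr eV.toEquiv]; exact hV4 V,
        by
          rw [← Monoid.exponent_eq_of_mulEquiv eV]
          exact (Monoid.exponent_eq_prime_iff Nat.prime_two).mpr fun g hg =>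
            orderOf_eq_prime (by rw [pow_two]; exact hVsq g) hg⟩
    refine ⟨_, ?_, Order168.klein_normalizer h hU⟩
    refine le_trans ?_ (Subgroup.le_normalizer_map M.subtype)
    rw [Subgroup.normalizer_eq_top_iff.mpr hn, ← MonoidHom.range_eq_map, Subgroup.range_subtype]
  have hp2 : ∀ n, Nat.card M = 2 ^ n → ∃ N : Subgroup G, M ≤ N ∧ (Nat.card N = 21 ∨ Nat.card N = 24) :=
    fun n hn => let ⟨N, h1, h2⟩ := case2 (IsPGroup.of_card hn); ⟨N, h1, Or.inr h2⟩
  have hc21 : 7 ∣ Nat.card M → Nat.card M ≤ 21 → ∃ N : Subgroup G, M ≤ N ∧ (Nat.card N = 21 ∨ Nat.card N = 24) :=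
    fun a b => let ⟨N, h1, h2⟩ := case21 a b; ⟨N, h1, Or.inl h2⟩
  obtain ⟨c, hc⟩ : ∃ c, Nat.card M = c := ⟨_, rfl⟩
  rw [hc] at hdvd hle hpos
  have hcs : c = 1 ∨ c = 2 ∨ c = 3 ∨ c = 4 ∨ c = 6 ∨ c = 7 ∨ c = 8 ∨ c = 12 ∨ c = 14 ∨ c = 21 ∨ c = 24 := by
    interval_cases c <;> omega
  have lift24 : (∃ N : Subgroup G, M ≤ N ∧ Nat.card N = 24) →
      ∃ N : Subgroup G, M ≤ N ∧ (Nat.card N = 21 ∨ Nat.card N = 24) :=
    fun ⟨N, h1, h2⟩ => ⟨N, h1, Or.inr h2⟩
  rcases hcs with rfl | rfl | rfl | rfl | rfl | rfl | rfl | rfl | rfl | rfl | rfl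
  · exact hp2 0 hc
  · exact hp2 1 hc
  · exact lift24 (case6 (Or.inl hc))
  · exact hp2 2 hc
  · exact lift24 (case6 (Or.inr hc))
  · exact hc21 (by rw [hc]) (by rw [hc]; norm_num)
  · exact hp2 3 hc
  · exact lift24 (case12 hc)
  · exact hc21 (by rw [hc]; norm_num) (by rw [hc]; norm_num)
  · exact hc21 (by rw [hc]; norm_num) (by rw [hc])
  · exact ⟨M, le_rfl, Or.inr hc⟩

theorem coatom_card (h : Nat.card G = 168) {M : Subgroup G} (hM : IsCoatom M) :
    Nat.card M = 21 ∨ Nat.card M = 24 := by
  obtain ⟨N, h1, h2, h3⟩ := overgroup h hM.1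
  rwa [eq_of_le_of_not_lt h1 fun hlt => h2 (hM.2 N hlt)]

theorem coatom_of_card (h : Nat.card G = 168) {M : Subgroup G}
    (hM : Nat.card M = 21 ∨ Nat.card M = 24) : IsCoatom M := by
  refine ⟨fun e => by rw [e, Subgroup.card_top, h] at hM; omega, fun K hK => by_contra fun hne => ?_⟩
  have h1 := Subgroup.card_dvd_of_le hK.le
  have h2 := Order168.card_le h hne
  obtain ⟨c, hc⟩ := h1
  have h3 : Nat.card M < Nat.card K := by
    refine lt_of_le_of_ne (Subgroup.card_le_of_le hK.le) fun e => hK.ne ?_
    exact Subgroup.eq_of_le_of_card_ge hK.le e.ge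
  have hc2 : 2 ≤ c := by
    by_contra hlt
    interval_cases c <;> omega
  have := Nat.mul_le_mul_left (Nat.card M) hc2
  omega

/-- In a simple group of order 168 every maximal subgroup is either isomorphic to the symmetric group of degree 4 or non-abelian of order 21; the maximal subgroups of order 21 form one conjugacy class and those isomorphic to the symmetric group of degree 4 form exactly two conjugacy classes. -/
theorem result {G : Type*} [Group G] [Finite G] [IsSimpleGroup G] (h : Nat.card G = 168) : (∀ M : Subgroup G, IsCoatom M → Nonempty (↥M ≃* Equiv.Perm (Fin 4)) ∨ (Nat.card ↥M = 21 ∧ ¬ IsMulCommutative ↥M)) ∧ (∀ M M' : Subgroup G, IsCoatom M → IsCoatom M' → Nat.card ↥M = 21 → Nat.card ↥M' = 21 → ∃ g : G, M' = M.map (MulAut.conj g).toMonoidHom) ∧ ∃ M₁ M₂ : Subgroup G, IsCoatom M₁ ∧ IsCoatom M₂ ∧ Nonempty (↥M₁ ≃* Equiv.Perm (Fin 4)) ∧ Nonempty (↥M₂ ≃* Equiv.Perm (Fin 4)) ∧ (∀ g : G, M₂ ≠ M₁.map (MulAut.conj g).toMonoidHom) ∧ ∀ M : Subgroup G, IsCoatom M → Nonempty (↥M ≃* Equiv.Perm (Fin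 4)) → ∃ g : G, M = M₁.map (MulAut.conj g).toMonoidHom ∨ M = M₂.map (MulAut.conj g).toMonoidHom := by
  haveI : Fact (Nat.Prime 2) := ⟨Nat.prime_two⟩
  haveI : Fact (Nat.Prime 7) := ⟨by norm_num⟩
  have h21 : ∀ M : Subgroup G, Nat.card M = 21 →
      ¬ IsMulCommutative M ∧ ∃ P : Sylow 7 G, M = Subgroup.normalizer ((P : Subgroup G) : Set G) := by
    intro M hM
    have hM' : M ≠ ⊤ := fun e => by rw [e, Subgroup.card_top, h] at hM; omega
    obtain ⟨w, hw⟩ := exists_prime_orderOf_dvd_card' (p := 7) (G := M) (by rw [hM]; norm_num)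
    have hwG : orderOf (w : G) = 7 := by rw [Subgroup.orderOf_coe, hw]
    constructor
    · intro hc
      have hle : M ≤ Subgroup.centralizer ({(w : G)} : Set G) := fun g hg =>
        Subgroup.mem_centralizer_singleton_iff.mpr (congrArg Subtype.val (hc.is_comm.comm ⟨g, hg⟩ w))
      have := Subgroup.card_le_of_le hle
      rw [hM, Order168.centralizer_of_order_seven h hwG] at this
      omega
    · obtain ⟨R⟩ : Nonempty (Sylow 7 M) := inferInstance
      have hmem := Small.sylow_number_mem (p := 7) (k := 1) (m := 3) (G := M) (by rw [hM]; norm_num) (by norm_num)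
      rw [Finset.mem_filter, Nat.mem_divisors] at hmem
      obtain ⟨⟨hd, -⟩, hmod⟩ := hmem
      have h3 := Nat.le_of_dvd (by norm_num) hd
      have h1 : Nat.card (Sylow 7 M) = 1 := by
        generalize Nat.card (Sylow 7 M) = n at *
        interval_cases n <;> omega
      haveI : Subsingleton (Sylow 7 M) := (Nat.card_eq_one_iff_unique.mp h1).1
      have hn := R.normal_of_subsingleton
      have hR7 : Nat.card (R : Subgroup M) = 7 :=
        (Small.sylow_card (k := 1) (m := 3) (by rw [hM]; norm_num) (by norm_num) R).trans (pow_one 7)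
      obtain ⟨P, hP⟩ := ((R.isPGroup').map M.subtype).exists_le_sylow
      have hPQ : (R : Subgroup M).map M.subtype = (P : Subgroup G) :=
        Subgroup.eq_of_le_of_card_ge hP (by
          rw [Order168.sylow7_card h, Subgroup.card_map_of_injective M.subtype_injective, hR7])
      refine ⟨P, Subgroup.eq_of_le_of_card_ge ?_ (by rw [Order168.normalizer7 h, hM])⟩
      rw [← hPQ]
      refine le_trans ?_ (Subgroup.le_normalizer_map M.subtype)
      rw [Subgroup.normalizer_eq_top_iff.mpr hn, ← MonoidHom.range_eq_map, Subgroup.range_subtype]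
  have hnmap : ∀ (U : Subgroup G) (g : G),
      (Subgroup.normalizer (U : Set G)).map (MulAut.conj g).toMonoidHom =
        Subgroup.normalizer ((U.map (MulAut.conj g).toMonoidHom : Subgroup G) : Set G) := fun U g =>
    Subgroup.map_equiv_normalizer_eq U (MulAut.conj g)
  obtain ⟨T⟩ : Nonempty (Sylow 2 G) := inferInstance
  obtain ⟨a, b, ha, hb, ha4, hb2, hba, hinv, -, -, -⟩ := Order168.sylow2_gens h T
  obtain ⟨k1, k2, hne, hall⟩ := Order168.klein_in_sylow h T ha hb ha4 hb2 hba hinv
  set U₁ := Subgroup.closure ({a * a, b} : Set G) with hU₁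
  set U₂ := Subgroup.closure ({a * a, a * b} : Set G) with hU₂
  have hl1 : U₁ ≤ (T : Subgroup G) := (Subgroup.closure_le _).mpr
    (by rintro _ (rfl | rfl) <;> first | assumption | exact mul_mem ha ha)
  have hl2 : U₂ ≤ (T : Subgroup G) := (Subgroup.closure_le _).mpr
    (by rintro _ (rfl | rfl) <;> first | exact mul_mem ha hb | exact mul_mem ha ha)
  have c1 := Order168.klein_normalizer h k1
  have c2 := Order168.klein_normalizer h k2
  have huniq : ∀ U W : Subgroup G, IsKleinFour U → IsKleinFour W →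
      Subgroup.normalizer (U : Set G) = Subgroup.normalizer (W : Set G) → U = W := by
    intro U W hU hW he
    set N := Subgroup.normalizer (W : Set G) with hN
    obtain ⟨S, hS⟩ := Order168.klein_exists_le h hW
    have hSN : (S : Subgroup G) ≤ N := (Order168.klein_facts h S hS hW).1
    have hUN : U ≤ N := by rw [← he]; exact Subgroup.le_normalizer
    obtain ⟨S', hS'⟩ := (IsPGroup.of_card (n := 2)
      (by rw [Nat.card_congr (Subgroup.subgroupOfEquivOfLe hUN).toEquiv, hU.card_four]; norm_num) :
        IsPGroup 2 (U.subgroupOf N)).exists_le_sylow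
    obtain ⟨g, hg⟩ := MulAction.exists_smul_eq N S' (S.subtype hSN)
    have hUS : U ≤ (S : Subgroup G) := by
      intro u hu
      have hgN : ((g : G))⁻¹ * u * g ∈ U := by
        have hm : (g : G)⁻¹ ∈ Subgroup.normalizer (U : Set G) := by rw [he]; exact inv_mem g.2
        have := (Subgroup.mem_normalizer_iff.mp hm u).mp hu
        rwa [inv_inv] at this
      have h1 : g⁻¹ * ⟨u, hUN hu⟩ * g ∈ (S' : Subgroup N) := hS' hgN
      have h2 : (⟨u, hUN hu⟩ : N) ∈ ((g • S' : Sylow 2 N) : Subgroup N) := by
        rw [Sylow.smul_def, Sylow.pointwise_smul_def, Subgroup.mem_pointwise_smul_iff_inv_smul_mem,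
          ← map_inv, MulAut.smul_def, MulAut.conj_apply, inv_inv]
        exact h1
      rw [hg] at h2
      exact h2
    by_contra hUW
    obtain ⟨a', b', ha', hb', ha4', hb2', hba', hinv', -, -, -⟩ := Order168.sylow2_gens h S
    obtain ⟨-, -, -, hall'⟩ := Order168.klein_in_sylow h S ha' hb' ha4' hb2' hba' hinv'
    obtain ⟨e⟩ := Order168.twentyfour_equiv h (show Nat.card N = 24 from Order168.klein_normalizer h hW)
    have hWN : W ≤ N := Subgroup.le_normalizer
    haveI hnU : (U.subgroupOf N).Normal := (Subgroup.normal_subgroupOf_iff_le_normalizer hUN).mpr he.ge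
    haveI hnW : (W.subgroupOf N).Normal := (Subgroup.normal_subgroupOf_iff_le_normalizer hWN).mpr le_rfl
    -- two normal four-subgroups generate a normal 2-subgroup, contained in every Sylow 2-subgroup
    have hS2 : ∀ R : Sylow 2 N, U.subgroupOf N ⊔ W.subgroupOf N ≤ (R : Subgroup N) := fun R =>
      sup_le
        (((IsPGroup.of_card (n := 2) (by
          rw [Nat.card_congr (Subgroup.subgroupOfEquivOfLe hUN).toEquiv, hU.card_four]; norm_num) :
            IsPGroup 2 (U.subgroupOf N))).le_sylow_of_normal R)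
        (((IsPGroup.of_card (n := 2) (by
          rw [Nat.card_congr (Subgroup.subgroupOfEquivOfLe hWN).toEquiv, hW.card_four]; norm_num) :
            IsPGroup 2 (W.subgroupOf N))).le_sylow_of_normal R)
    have hlt : U.subgroupOf N < U.subgroupOf N ⊔ W.subgroupOf N := by
      refine lt_of_le_of_ne le_sup_left fun e' => hUW ?_
      have hle : W.subgroupOf N ≤ U.subgroupOf N := e' ▸ le_sup_right
      refine (Subgroup.eq_of_le_of_card_ge (fun x hx => ?_) (by rw [hU.card_four, hW.card_four])).symm
      exact hle (show (⟨x, hWN hx⟩ : N) ∈ W.subgroupOf N from hx)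
    have h8 : ∀ R : Sylow 2 N, (R : Subgroup N) = U.subgroupOf N ⊔ W.subgroupOf N := fun R => by
      have hR8 : Nat.card (R : Subgroup N) = 8 :=
        (Small.sylow_card (k := 3) (m := 3) (by rw [Order168.klein_normalizer h hW]; norm_num)
          (by norm_num) R).trans (by norm_num)
      refine (Subgroup.eq_of_le_of_card_ge (hS2 R) ?_).symm
      have h1 := Subgroup.card_dvd_of_le (hS2 R)
      have h2 := Subgroup.card_dvd_of_le hlt.le
      have h3 : Nat.card (U.subgroupOf N) < Nat.card (U.subgroupOf N ⊔ W.subgroupOf N : Subgroup N) :=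
        lt_of_le_of_ne (Subgroup.card_le_of_le hlt.le) fun e' =>
          hlt.ne (Subgroup.eq_of_le_of_card_ge hlt.le e'.ge)
      rw [Nat.card_congr (Subgroup.subgroupOfEquivOfLe hUN).toEquiv, hU.card_four] at h2 h3
      rw [hR8] at h1 ⊢
      have := Nat.le_of_dvd (by norm_num) h1
      obtain ⟨c, hc⟩ := h2
      omega
    haveI : Subsingleton (Sylow 2 N) := ⟨fun R R' => Sylow.ext ((h8 R).trans (h8 R').symm)⟩
    have hn2 := (S.subtype hSN).normal_of_subsingleton
    have : N ≤ Subgroup.normalizer ((S : Subgroup G) : Set G) := by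
      have h1 := Subgroup.le_normalizer_map (H := (S.subtype hSN : Subgroup N)) N.subtype
      rw [Subgroup.normalizer_eq_top_iff.mpr hn2, ← MonoidHom.range_eq_map, Subgroup.range_subtype] at h1
      rwa [show (S.subtype hSN : Subgroup N).map N.subtype = (S : Subgroup G) from
        Subgroup.map_subgroupOf_eq_of_le hSN] at h1
    have := Subgroup.card_le_of_le this
    rw [Order168.n2_and_normalizer h S, Order168.sylow2_card h S, Order168.klein_normalizer h hW] at this
    omega
  refine ⟨fun M hM => ?_, fun M M' hM hM' e e' => ?_, _, _, coatom_of_card h (Or.inr c1),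
    coatom_of_card h (Or.inr c2), Order168.twentyfour_equiv h c1, Order168.twentyfour_equiv h c2,
    fun g e => ?_, fun M hM he => ?_⟩
  · rcases coatom_card h hM with e | e
    · exact Or.inr ⟨e, (h21 M e).1⟩
    · exact Or.inl (Order168.twentyfour_equiv h e)
  · obtain ⟨P, rfl⟩ := (h21 M e).2
    obtain ⟨P', rfl⟩ := (h21 M' e').2
    obtain ⟨g, rfl⟩ := MulAction.exists_smul_eq G P P'
    exact ⟨g, (hnmap _ g).symm⟩
  · rw [hnmap] at e
    exact hne (Order168.klein_fusion h T hl1 hl2 k1 k2 (huniq _ _ k2 (Order168.klein_map k1 g) e).symm)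
  · obtain ⟨e⟩ := he
    have h24 : Nat.card M = 24 := by rw [Nat.card_congr e.toEquiv, Nat.card_perm]; simp; rfl
    obtain ⟨U, hU, rfl⟩ := exists_klein_normalizer h h24
    obtain ⟨S, hS⟩ := Order168.klein_exists_le h hU
    obtain ⟨g, hg⟩ := MulAction.exists_smul_eq G S T
    have hgT : U.map (MulAut.conj g).toMonoidHom ≤ (T : Subgroup G) := by
      rw [← hg]; exact Subgroup.map_mono hS
    have hback : (U.map (MulAut.conj g).toMonoidHom).map (MulAut.conj g⁻¹).toMonoidHom = U := by
      rw [Subgroup.map_map]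
      convert Subgroup.map_id U
      ext x; simp [mul_assoc]
    refine ⟨g⁻¹, ?_⟩
    rcases hall _ hgT (Order168.klein_map hU g) with e' | e'
    · left; rw [hnmap, ← e', hback]
    · right; rw [hnmap, ← e', hback]

end Cfsg.Agent.S1008
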