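import Cfsg.Statements.S1009
import Mathlib.GroupTheory.Sylow

set_option autoImplicit false
open Cfsg

namespace Cfsg.Agent.S1009

/-- Brodkey's Theorem: if a finite group has abelian Sylow p-subgroups, then there are two Sylow p-subgroups whose intersection equals the intersection of all Sylow p-subgroups. -/
theorem result {G : Type*} [Group G] [Finite G] (p : ℕ) [Fact p.Prime] (hab : ∀ P : Sylow p G, IsMulCommutative ↥(P : Subgroup G)) : ∃ P Q : Sylow p G, (P : Subgroup G) ⊓ (Q : Subgroup G) = ⨅ R : Sylow p G, (R : Subgroup G) := by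
  classical
  have := Fintype.ofFinite (Sylow p G)
  obtain ⟨⟨P, Q⟩, -, hmin⟩ := Finset.exists_min_image (Finset.univ : Finset (Sylow p G × Sylow p G))
    (fun PQ => Nat.card ↥((PQ.1 : Subgroup G) ⊓ (PQ.2 : Subgroup G)))
    ⟨(default, default), Finset.mem_univ _⟩
  refine ⟨P, Q, le_antisymm (le_iInf fun R => ?_) (le_inf (iInf_le _ P) (iInf_le _ Q))⟩
  set D := (P : Subgroup G) ⊓ (Q : Subgroup G) with hD
  set M := Subgroup.centralizer (D : Set G) with hM
  have hle : ∀ S : Sylow p G, D ≤ S → (S : Subgroup G) ≤ M := by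
    intro S hS s hs
    rw [hM, Subgroup.mem_centralizer_iff]
    exact fun d hd => congrArg Subtype.val ((hab S).is_comm.comm ⟨d, hS hd⟩ ⟨s, hs⟩)
  have hPM := hle P inf_le_left
  have hQM := hle Q inf_le_right
  have hRp : IsPGroup p ↥((R : Subgroup G).subgroupOf M) := R.2.comap_subtype
  obtain ⟨T, hT⟩ := hRp.exists_le_sylow
  obtain ⟨c, rfl⟩ := MulAction.exists_smul_eq M (P.subtype hPM) T
  set R' : Sylow p G := (c : G)⁻¹ • R with hR'
  have hsub : (Q : Subgroup G) ⊓ (R' : Subgroup G) ≤ D := by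
    rintro x ⟨hxQ, hxR⟩
    refine ⟨?_, hxQ⟩
    have hxR' : x ∈ (R' : Subgroup G) := hxR
    rw [hR', Sylow.smul_def, Sylow.pointwise_smul_def,
      Subgroup.mem_pointwise_smul_iff_inv_smul_mem, map_inv, inv_inv, MulAut.smul_def,
      MulAut.conj_apply] at hxR'
    have hm : (⟨(c : G) * x * (c : G)⁻¹, mul_mem (mul_mem c.2 (hQM hxQ)) (inv_mem c.2)⟩ : M) ∈
        (R : Subgroup G).subgroupOf M := hxR'
    have := hT hm
    rw [Sylow.smul_def, Sylow.pointwise_smul_def, Subgroup.mem_pointwise_smul_iff_inv_smul_mem,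
      Sylow.coe_subtype, Subgroup.mem_subgroupOf] at this
    show x ∈ (P : Subgroup G)
    simpa [mul_assoc] using this
  have heq : (Q : Subgroup G) ⊓ (R' : Subgroup G) = D :=
    Subgroup.eq_of_le_of_card_ge hsub (hmin (Q, R') (Finset.mem_univ _))
  intro d hd
  have hd' : d ∈ (R' : Subgroup G) := (heq.symm.le hd).2
  rw [hR', Sylow.smul_def, Sylow.pointwise_smul_def, Subgroup.mem_pointwise_smul_iff_inv_smul_mem,
    map_inv, inv_inv, MulAut.smul_def, MulAut.conj_apply,
    ← Subgroup.mem_centralizer_iff.mp c.2 d hd, mul_inv_cancel_right] at hd'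
  exact hd'

end Cfsg.Agent.S1009
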