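import Cfsg.Statements.S1013
import Cfsg.Agent.Lib.Small.SylowToolkit
import Mathlib.GroupTheory.GroupAction.Blocks

set_option autoImplicit false
open Cfsg

namespace Cfsg.Agent.S1013



/-- Let G be a transitive permutation group of prime degree p having more than one Sylow p-subgroup, and suppose a Sylow p-subgroup P has prime index in its normalizer. Then G is simple. -/
theorem result {α : Type*} [Fintype α] [DecidableEq α] {p : ℕ} [Fact p.Prime] (hα : Fintype.card α = p) (G : Subgroup (Equiv.Perm α)) [MulAction.IsPretransitive ↥G α] (P : Sylow p ↥G) (hn : 1 < Nat.card (Sylow p ↥G)) (ht : (((P : Subgroup ↥G).subgroupOf (Subgroup.normalizer ((P : Subgroup ↥G) : Set ↥G))).index).Prime) : IsSimpleGroup ↥G := by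
  classical
  have hfaith : ∀ g : G, (∀ a : α, g • a = a) → g = 1 := fun g hg =>
    Subtype.ext (Equiv.ext fun a => hg a)
  have hp := (Fact.out : p.Prime)
  obtain ⟨a₀⟩ : Nonempty α := Fintype.card_pos_iff.mp (hα ▸ hp.pos)
  have hpG : p ∣ Nat.card G := by
    rw [← hα, ← Nat.card_eq_fintype_card, ← MulAction.index_stabilizer_of_transitive (↥G) a₀]
    exact Subgroup.index_dvd_card _
  have hp2 : ¬ p ^ 2 ∣ Nat.card G := by
    intro h
    have h1 := h.trans (Subgroup.card_subgroup_dvd_card G)
    rw [Nat.card_perm, Nat.card_eq_fintype_card, hα] at h1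
    obtain ⟨q, hq⟩ : ∃ q, p = q + 1 := ⟨p - 1, (Nat.succ_pred_eq_of_pos hp.pos).symm⟩
    rw [hq, Nat.factorial_succ, pow_two, Nat.mul_dvd_mul_iff_left (Nat.succ_pos q), ← hq] at h1
    have := (Nat.Prime.dvd_factorial hp).mp h1
    omega
  have hP : ∀ R : Sylow p G, Nat.card (R : Subgroup G) = p := by
    intro R
    obtain ⟨k, hk⟩ := IsPGroup.iff_card.mp R.isPGroup'
    have hk1 : k = 1 := by
      rcases k with _ | _ | k
      · exact absurd (Subgroup.eq_bot_of_card_eq _ (by rw [hk, pow_zero])) (R.ne_bot_of_dvd_card hpG)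
      · rfl
      · exact absurd ((pow_dvd_pow p (by omega)).trans (hk ▸ Subgroup.card_subgroup_dvd_card _)) hp2
    rw [hk, hk1, pow_one]
  haveI : Nontrivial G := by
    rw [← Finite.one_lt_card_iff_nontrivial]
    exact hp.one_lt.trans_le (Nat.le_of_dvd Nat.card_pos hpG)
  have hnorm : ∀ H : Subgroup G, H.Normal → H ≠ ⊥ → p ∣ Nat.card H := by
    intro H hH hne
    haveI := hH
    have hb := MulAction.IsBlock.orbit_of_normal (G := ↥G) (N := H) a₀
    have hd := hb.ncard_dvd_card (MulAction.nonempty_orbit a₀)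
    rw [Nat.card_eq_fintype_card, hα] at hd
    rcases (Nat.dvd_prime hp).mp hd with h1 | h1
    · exfalso
      refine hne ((Subgroup.eq_bot_iff_forall H).mpr fun x hx => hfaith x fun a => ?_)
      obtain ⟨g, rfl⟩ := MulAction.exists_smul_eq (↥G) a₀ a
      obtain ⟨b, hb1⟩ := Set.ncard_eq_one.mp h1
      have hm : (⟨g⁻¹ * x * g, by simpa using hH.conj_mem x hx g⁻¹⟩ : H) • a₀ = a₀ := by
        have e1 : a₀ ∈ MulAction.orbit H a₀ := MulAction.mem_orbit_self a₀
        have e2 : (⟨g⁻¹ * x * g, by simpa using hH.conj_mem x hx g⁻¹⟩ : H) • a₀ ∈ MulAction.orbit H a₀ :=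
          MulAction.mem_orbit a₀ _
        rw [hb1] at e1 e2
        rw [Set.mem_singleton_iff] at e1 e2
        exact e2.trans e1.symm
      rw [Subgroup.mk_smul, mul_smul, mul_smul, inv_smul_eq_iff] at hm
      exact hm
    · rw [← h1, ← MulAction.index_stabilizer]
      exact Subgroup.index_dvd_card _
  refine ⟨fun H hH => ?_⟩
  haveI := hH
  rcases eq_or_ne H ⊥ with h | hne
  · exact Or.inl h
  right
  set N := Subgroup.normalizer ((P : Subgroup G) : Set G) with hNdef
  have hPH : (P : Subgroup G) ≤ H := by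
    obtain ⟨y, hy⟩ := exists_prime_orderOf_dvd_card' p (hnorm H hH hne)
    obtain ⟨R, hR⟩ := (IsPGroup.of_card (n := 1)
      (by rw [Nat.card_zpowers, Subgroup.orderOf_coe, hy, pow_one]) :
      IsPGroup p (Subgroup.zpowers (y : G))).exists_le_sylow
    have hRH : (R : Subgroup G) ≤ H := (Subgroup.eq_of_le_of_card_ge hR
      (by rw [hP R, Nat.card_zpowers, Subgroup.orderOf_coe, hy])).symm.le.trans
      (Subgroup.zpowers_le.mpr y.2)
    obtain ⟨c, rfl⟩ := MulAction.exists_smul_eq G R P
    intro x hx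
    rw [Sylow.smul_def, Sylow.pointwise_smul_def, Subgroup.mem_pointwise_smul_iff_inv_smul_mem,
      ← map_inv, MulAut.smul_def, MulAut.conj_apply, inv_inv] at hx
    have := hH.conj_mem _ (hRH hx) c
    simpa [mul_assoc] using this
  have htop : ∀ {M : Subgroup G}, N ≤ M → M.Normal → (P : Subgroup G) ≤ M → M = ⊤ := by
    intro M hNM hM hPM
    haveI := hM
    rw [eq_top_iff, ← Sylow.normalizer_sup_eq_top' P hPM]
    exact sup_le hNM le_rfl
  by_contra hHtop
  have hNH : ¬ N ≤ H := fun h => hHtop (htop h hH hPH)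
  -- `N ∩ H = P`
  have hNP : H ⊓ N = (P : Subgroup G) := by
    have hle : (P : Subgroup G) ≤ H ⊓ N := le_inf hPH Subgroup.le_normalizer
    have h1 := Subgroup.relIndex_mul_relIndex _ _ _ hle inf_le_right
    change ((P : Subgroup G).relIndex N).Prime at ht
    rw [← h1] at ht
    rcases (Nat.prime_mul_iff.mp ht) with ⟨-, h2⟩ | ⟨-, h2⟩
    · exact absurd (Subgroup.relIndex_eq_one.mp h2) (fun h => hNH (h.trans inf_le_left))
    · exact le_antisymm (Subgroup.relIndex_eq_one.mp h2) hle
  set PH : Sylow p H := P.subtype hPH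
  have hcen : Subgroup.normalizer ((PH : Subgroup H) : Set H) ≤
      Subgroup.centralizer ((PH : Subgroup H) : Set H) := by
    intro x hx
    have hxN : (x : G) ∈ N := by
      refine Subgroup.mem_normalizer_fintype fun w hw => ?_
      exact (Subgroup.mem_normalizer_iff.mp hx ⟨w, hPH hw⟩).mp hw
    have hxP : (x : G) ∈ (P : Subgroup G) := hNP ▸ ⟨x.2, hxN⟩
    refine Subgroup.mem_centralizer_iff.mpr fun w hw => Subtype.ext ?_
    exact Subgroup.mem_centralizer_iff.mp (Small.le_centralizer_self _ (hP P) hxP) w hw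
  have hco := MonoidHom.ker_transferSylow_isComplement' PH hcen
  set K := (MonoidHom.transferSylow PH hcen).ker with hK
  have hKn : (K.map H.subtype).Normal := by
    constructor
    rintro _ ⟨x, hx, rfl⟩ g
    refine ⟨⟨g * x * g⁻¹, hH.conj_mem _ x.2 g⟩, ?_, rfl⟩
    rw [SetLike.mem_coe, hK, MonoidHom.mem_ker]
    refine orderOf_eq_one_iff.mp (Nat.eq_one_of_dvd_coprimes (a := p) (b := Nat.card K) ?_ ?_ ?_)
    · exact (Fact.out : p.Prime).coprime_iff_not_dvd.mpr (MonoidHom.not_dvd_card_ker_transferSylow PH hcen)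
    · refine (orderOf_dvd_natCard _).trans (dvd_of_eq ?_)
      rw [show Nat.card (PH : Subgroup H) = p from
        (Nat.card_congr (Subgroup.subgroupOfEquivOfLe hPH).toEquiv).trans (hP P)]
    · refine (orderOf_map_dvd _ _).trans ?_
      rw [← Subgroup.orderOf_coe]
      show orderOf (MulAut.conj g (x : G)) ∣ _
      rw [MulEquiv.orderOf_eq, Subgroup.orderOf_coe, ← Subgroup.orderOf_mk x hx]
      exact orderOf_dvd_natCard _
  have hK1 : K = ⊥ := by
    by_contra hne2
    have := hnorm _ hKn (fun h => hne2 ((Subgroup.map_eq_bot_iff_of_injective _ H.subtype_injective).mp h))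
    rw [← Nat.card_congr (K.equivMapOfInjective H.subtype H.subtype_injective).toEquiv] at this
    exact MonoidHom.not_dvd_card_ker_transferSylow PH hcen this
  have hHP : H = (P : Subgroup G) := by
    refine (Subgroup.eq_of_le_of_card_ge hPH ?_).symm
    have h := hco.card_mul
    rw [hK1, Subgroup.card_bot, one_mul] at h
    rw [← h]
    exact (Nat.card_congr (Subgroup.subgroupOfEquivOfLe hPH).toEquiv).le
  have hPn : (P : Subgroup G).Normal := hHP ▸ hH
  rw [Small.card_eq_index P, Subgroup.normalizer_eq_top_iff.mpr hPn, Subgroup.index_top] at hn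
  omega

end Cfsg.Agent.S1013
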