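import Cfsg.Statements.S1014
import Cfsg.Agent.Lib.Small.SylowToolkit

set_option autoImplicit false
open Cfsg

namespace Cfsg.Agent.S1014

/-- No finite simple group has order 1104 = 2^4 * 3 * 23. -/
theorem result {G : Type*} [Group G] [Finite G] [IsSimpleGroup G] : Nat.card G ≠ 1104 := by
  intro hcard
  haveI : Fact (Nat.Prime 23) := ⟨by norm_num⟩
  haveI : Fact (Nat.Prime 2) := ⟨Nat.prime_two⟩
  have hnp : ¬ (Nat.card G).Prime := by rw [hcard]; norm_num
  have hG := Small.not_comm_of_card hnp
  have hd : 23 ∣ Nat.card G := by rw [hcard]; norm_num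
  have hk : Nat.card G = 23 ^ 1 * 48 := by rw [hcard]; norm_num
  have hn := Small.sylow_number_mem hk (by norm_num)
  rw [show (Nat.divisors 48).filter (fun d => d % 23 = 1) = {1, 24} by decide +kernel] at hn
  simp only [Finset.mem_insert, Finset.mem_singleton] at hn
  have hn' : Nat.card (Sylow 23 G) = 24 := hn.resolve_left (Small.sylow_number_ne_one hG hd)
  obtain ⟨P⟩ : Nonempty (Sylow 23 G) := inferInstance
  have hP : Nat.card (P : Subgroup G) = 23 := (Small.sylow_card hk (by norm_num) P).trans (pow_one 23)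
  have hN := Small.card_normalizer_mul P
  rw [hn', hcard] at hN
  have hN' : Nat.card (Subgroup.normalizer ((P : Subgroup G) : Set G)) = 46 := by omega
  obtain ⟨w, hw⟩ := exists_prime_orderOf_dvd_card' (p := 2)
    (G := Subgroup.normalizer ((P : Subgroup G) : Set G)) (by rw [hN']; norm_num)
  have hwG : orderOf (w : G) = 2 := by rw [Subgroup.orderOf_coe, hw]
  have hwC : (w : G) ∉ Subgroup.centralizer ((P : Subgroup G) : Set G) := by
    intro hm
    refine Small.centralizer_ne_normalizer hnp hd P ?_
    have hle := Subgroup.card_dvd_of_le (Small.centralizer_le_normalizer (P : Subgroup G))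
    have h23 := Subgroup.card_dvd_of_le (Small.le_centralizer_self (P : Subgroup G) hP)
    have h2 : 2 ∣ Nat.card (Subgroup.centralizer ((P : Subgroup G) : Set G)) := by
      rw [← hwG, ← Subgroup.orderOf_mk (w : G) hm]; exact orderOf_dvd_natCard _
    rw [hP] at h23
    rw [hN'] at hle ⊢
    exact Nat.dvd_antisymm hle (Nat.Coprime.mul_dvd_of_dvd_of_dvd (by norm_num) h23 h2)
  obtain ⟨h1, h2⟩ := Small.fixed_le P hP w.2 hwC
  have h4 := Small.four_dvd_moved hG (Small.normalizer_ne_top hG hd P) hwG
  rw [← Small.card_eq_index P, hn'] at h4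
  rw [hn'] at h2
  omega

end Cfsg.Agent.S1014
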