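import Cfsg.Statements.S1022
import Cfsg.Agent.Lib.SmallN.Order459648

set_option autoImplicit false
set_option linter.style.haveILetI false

set_option autoImplicit false
open Cfsg

namespace Cfsg.Agent.S1022

/-- No finite simple group has order 459648 = 2^7 * 3^3 * 7 * 19. -/
theorem result {G : Type*} [Group G] [Finite G] [IsSimpleGroup G] : Nat.card G ≠ 459648 := by
  classical
  intro h
  haveI := Fintype.ofFinite G
  refine Cfsg.Agent.SmallN.false_of_459648 (G := G) ?_ h
  rcases (inferInstance : (commutator G).Normal).eq_bot_or_eq_top with h1 | h1
  · exfalso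
    have hcomm : ∀ a b : G, a * b = b * a := fun a b => by
      rw [commutator_def, Subgroup.commutator_eq_bot_iff_le_centralizer] at h1
      exact (Subgroup.mem_centralizer_iff.1 (h1 (Subgroup.mem_top a)) b (Subgroup.mem_top b)).symm
    letI : CommGroup G := { (inferInstance : Group G) with mul_comm := hcomm }
    have hp := IsSimpleGroup.prime_card (α := G)
    rw [h] at hp
    norm_num at hp
  · exact h1

end Cfsg.Agent.S1022
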