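import Cfsg.Statements.S1026
import Cfsg.Agent.Lib.Lie.ChevUnip2
-- import your own Cfsg.Agent.* helpers here

set_option autoImplicit false
open Cfsg

namespace Cfsg.Agent.S1026

/-- Every element of `U` has a unique expression `∏_{r ∈ Φ⁺} x_r(t_r)`, the product over the positive roots in increasing index order (the coefficient family `t`, supported on the positive roots, exists and is unique); and conversely every such ordered product is the matrix of an element of `U`. -/
theorem result {F : Type*} [Field F] (D : Cfsg.Lie.ChevalleyDatum) (hD : D ∈ [Cfsg.Lie.chevG2, Cfsg.Lie.chevB2, Cfsg.Lie.chevD4, Cfsg.Lie.chevF4, Cfsg.Lie.chevE6, Cfsg.Lie.chevE7, Cfsg.Lie.chevE8]) :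
    (∀ g : GL D.Idx F, g ∈ D.posUnipotent F →
      ∃! t : ℕ → F, (∀ r, ¬ D.IsPosRoot r → t r = 0) ∧
        (g : Matrix D.Idx D.Idx F) = D.wordMat F (D.posRoots.map fun r => (r, t r))) ∧
    (∀ t : ℕ → F, ∃ g : GL D.Idx F, g ∈ D.posUnipotent F ∧
      (g : Matrix D.Idx D.Idx F) = D.wordMat F (D.posRoots.map fun r => (r, t r))) := by
  obtain ⟨T, g, rfl⟩ := Chev.exists_goodA hD
  have hn := Chev.Tab.n_def (T := T)
  have hg := g.toGood
  refine ⟨fun x hx => ?_, fun t => ⟨Chev.Tab.ordProd hg T.N t, ?_, Chev.Tab.ordProd_val hg t⟩⟩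
  swap
  · rw [Chev.Tab.posUnipotent_eq hg]; exact Chev.Tab.ordProd_mem hg _ _
  rw [Chev.Tab.posUnipotent_eq hg] at hx
  obtain ⟨t, rfl⟩ := (Chev.Tab.ordProd_spec g T.n T.N le_rfl (by omega)).1 x hx
  classical
  refine ⟨fun r => if T.N ≤ r ∧ r < T.n then t r else 0, ⟨fun r hr => ?_, ?_⟩, ?_⟩
  · rw [hg.isPosRoot_iff] at hr
    simp [hr]
  · rw [← Chev.Tab.ordProd_val hg, Chev.Tab.ordProd_congr hg (t := t)
      (u := fun r => if T.N ≤ r ∧ r < T.n then t r else 0) fun r h1 h2 => by simp [h1, h2]]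
  · rintro u ⟨hu0, hu⟩
    rw [← Chev.Tab.ordProd_val hg] at hu
    have h := (Chev.Tab.ordProd_spec g T.n T.N le_rfl (by omega)).2 u t (Units.ext hu).symm
    funext r
    by_cases hr : T.N ≤ r ∧ r < T.n
    · simp [hr, h r hr.1 hr.2]
    · rw [hu0 r (by rw [hg.isPosRoot_iff]; exact hr)]
      simp [hr]

end Cfsg.Agent.S1026
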