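import Cfsg.Statements.S1030
import Cfsg.Agent.Lib.SL2Pres.AnyField
import Cfsg.Agent.Lib.Lie.CovExtension
import Cfsg.Agent.Lib.Lie.CovMain
-- import your own Cfsg.Agent.* helpers here

set_option autoImplicit false
open Cfsg

namespace Cfsg.Agent.S1030

/-- There is a homomorphism `SL₂(F) → GL` with image `⟨X_r, X_{-r}⟩` sending `[[1,t],[0,1]]` to `x_r(t)` and `[[1,0],[t,1]]` to `x_{-r}(t)`. -/
theorem result {F : Type*} [Field F] (D : Cfsg.Lie.ChevalleyDatum) (hD : D ∈ [Cfsg.Lie.chevG2, Cfsg.Lie.chevB2, Cfsg.Lie.chevD4, Cfsg.Lie.chevF4, Cfsg.Lie.chevE6, Cfsg.Lie.chevE7, Cfsg.Lie.chevE8]) (r : ℕ) (hr : r < D.nroots) :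
    ∃ φ : Matrix.SpecialLinearGroup (Fin 2) F →* GL D.Idx F,
      φ.range = D.rootSubgroup F r ⊔ D.rootSubgroup F (D.neg r) ∧
      ∀ (g : Matrix.SpecialLinearGroup (Fin 2) F) (t : F),
        ((g : Matrix (Fin 2) (Fin 2) F) = !![1, t; 0, 1] → ((φ g : GL D.Idx F) : Matrix D.Idx D.Idx F) = D.x F r t) ∧
        ((g : Matrix (Fin 2) (Fin 2) F) = !![1, 0; t, 1] → ((φ g : GL D.Idx F) : Matrix D.Idx D.Idx F) = D.x F (D.neg r) t) := by
  obtain ⟨T, K, W, g, rfl, -, -⟩ := Chev.exists_checks hD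
  have hr' : r < T.n := by rw [← g.toGood.nroots_eq]; exact hr
  have hn : T.D.neg r = T.neg r := g.toGood.neg_eq hr'
  let θ : T.D.SteinbergCover F →* GL T.D.Idx F :=
    (T.D.group F).subtype.comp (Chev.Tab.Cov.θC g.toGoodA F)
  have hθ : ∀ s < T.n, ∀ t : F, θ (Chev.Tab.Cov.sx T F s t) = Chev.Tab.xg g.toGood s t := fun s hs t => by
    exact Chev.Tab.Cov.θ0_sx g.toGoodA s t
  have hrel : ∀ s < T.n, ∀ t u : F, t ≠ 0 →
      (Chev.Tab.xg g.toGood s t * Chev.Tab.xg g.toGood (T.neg s) (-t⁻¹) * Chev.Tab.xg g.toGood s t) *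
        Chev.Tab.xg g.toGood s u *
        (Chev.Tab.xg g.toGood s t * Chev.Tab.xg g.toGood (T.neg s) (-t⁻¹) * Chev.Tab.xg g.toGood s t)⁻¹ =
      Chev.Tab.xg g.toGood (T.neg s) (-(t⁻¹ ^ 2 * u)) := fun s hs t u ht => by
    have h := congrArg θ (Chev.Tab.Cov.sn_conj_self g s hs t u ht)
    simpa [Chev.Tab.Cov.sn, hθ s hs, hθ _ (Chev.Tab.neg_lt hs)] using h
  let D : SL2Pres.SData F (GL T.D.Idx F) :=
    { X := Chev.Tab.xg g.toGood r
      Y := Chev.Tab.xg g.toGood (T.neg r)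
      addX := Chev.Tab.xg_add g.toGood r
      addY := Chev.Tab.xg_add g.toGood (T.neg r)
      relX := hrel r hr'
      relY := fun t u ht => by
        have h := hrel (T.neg r) (Chev.Tab.neg_lt hr') t u ht
        rwa [Chev.Tab.neg_neg hr'] at h }
  obtain ⟨φ, hX, hY⟩ := SL2Pres.exists_hom' D (fun s t hs ht =>
    (Chev.Tab.hE_mul g.toGood hr' (Units.mk0 s hs) (Units.mk0 t ht)).symm)
  refine ⟨φ, ?_, fun γ t => ⟨fun h => ?_, fun h => ?_⟩⟩
  · rw [MonoidHom.range_eq_map, ← SL2Pres.closure_up_low, MonoidHom.map_closure, hn]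
    refine le_antisymm ((Subgroup.closure_le _).2 ?_) (sup_le ?_ ?_)
    · rintro z ⟨γ, ⟨t, rfl⟩ | ⟨t, rfl⟩, rfl⟩
      · rw [hX]; exact Subgroup.mem_sup_left ((Chev.Tab.mem_rootSubgroup_iff g.toGood).2 ⟨t, rfl⟩)
      · rw [hY]; exact Subgroup.mem_sup_right ((Chev.Tab.mem_rootSubgroup_iff g.toGood).2 ⟨t, rfl⟩)
    all_goals
      intro z hz
      obtain ⟨t, rfl⟩ := (Chev.Tab.mem_rootSubgroup_iff g.toGood).1 hz
    · exact Subgroup.subset_closure ⟨_, Or.inl ⟨t, rfl⟩, hX t⟩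
    · exact Subgroup.subset_closure ⟨_, Or.inr ⟨t, rfl⟩, hY t⟩
  · rw [show γ = SL2Pres.up t from Subtype.ext h, hX]
    exact Chev.Tab.xg_val g.toGood _ _
  · rw [show γ = SL2Pres.low t from Subtype.ext h, hY, hn]
    exact Chev.Tab.xg_val g.toGood _ _

end Cfsg.Agent.S1030
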