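import Cfsg.Statements.S1032
import Cfsg.Agent.Lib.Lie.Good
import Cfsg.Agent.Lib.Lie.ChevGroup
-- import your own Cfsg.Agent.* helpers here

set_option autoImplicit false
open Cfsg

namespace Cfsg.Agent.S1032

/-- For a fundamental root `p`, a root `s` and `c ≠ 0`: `h_p(c) x_s(t) h_p(c)⁻¹ = x_s(c^{A_{p,s}} t)`, stated as `h_p(c) x_s(t) = x_s(c^{A_{p,s}} t) h_p(c)`. -/
theorem result {F : Type*} [Field F] (D : Cfsg.Lie.ChevalleyDatum) (hD : D ∈ [Cfsg.Lie.chevG2, Cfsg.Lie.chevB2, Cfsg.Lie.chevD4, Cfsg.Lie.chevF4, Cfsg.Lie.chevE6, Cfsg.Lie.chevE7, Cfsg.Lie.chevE8]) (i s : ℕ) (hi : i < D.rank) (hs : s < D.nroots) (c : F) (hc : c ≠ 0) (t : F) :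
    D.hMat F (D.simple i) c * D.x F s t = D.x F s (c ^ (D.cartan i s) * t) * D.hMat F (D.simple i) c := by
  obtain ⟨T, g, rfl⟩ := Chev.exists_good hD
  rw [g.rank_eq] at hi; rw [g.nroots_eq] at hs
  obtain ⟨u, rfl⟩ : ∃ u : Fˣ, (u : F) = c := ⟨Units.mk0 c hc, rfl⟩
  rw [g.simple_eq hi, g.cartan_eq hi hs, ← Chev.Tab.hE_val g (g.smp_lt hi), Chev.Tab.hE_smp g hi,
    ← Chev.Tab.xg_val g, ← Chev.Tab.xg_val g, ← Units.val_mul, ← Units.val_mul]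
  congr 1
  have h := Chev.Tab.tor_xg g (Pi.mulSingle i u) hs t
  rw [mul_inv_eq_iff_eq_mul, Chev.Tab.wt_single g hi, Units.val_zpow_eq_zpow_val] at h
  exact h

end Cfsg.Agent.S1032
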