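import Cfsg.Statements.S1033
import Cfsg.Agent.Lib.Lie.Good
import Cfsg.Agent.Lib.Lie.ChevGroup
-- import your own Cfsg.Agent.* helpers here

set_option autoImplicit false
open Cfsg

namespace Cfsg.Agent.S1033

/-- `h_p(c)` (for a fundamental root `p = p_{i+1}` and `c ≠ 0`) is diagonal: it fixes each `h_{p_j}` and scales `e_s` by `c^{A_{p,s}}`. -/
theorem result {F : Type*} [Field F] (D : Cfsg.Lie.ChevalleyDatum) (hD : D ∈ [Cfsg.Lie.chevG2, Cfsg.Lie.chevB2, Cfsg.Lie.chevD4, Cfsg.Lie.chevF4, Cfsg.Lie.chevE6, Cfsg.Lie.chevE7, Cfsg.Lie.chevE8]) (i : ℕ) (hi : i < D.rank) (c : F) (hc : c ≠ 0) :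
    D.hMat F (D.simple i) c = Matrix.diagonal (Sum.elim (fun _ => (1 : F)) (fun s : Fin D.nroots => c ^ (D.cartan i s))) := by
  obtain ⟨T, g, rfl⟩ := Chev.exists_good hD
  rw [g.rank_eq] at hi
  obtain ⟨u, rfl⟩ : ∃ u : Fˣ, (u : F) = c := ⟨Units.mk0 c hc, rfl⟩
  rw [g.simple_eq hi, ← Chev.Tab.hE_val g (g.smp_lt hi), Chev.Tab.hE_smp g hi,
    Chev.Tab.hS_eq g hi, Chev.Tab.dg_val]
  congr 1
  funext x
  rcases x with x | ⟨s, hs⟩
  · rfl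
  · rw [g.nroots_eq] at hs
    simp [Chev.Tab.dgv, g.cartan_eq hi hs]

end Cfsg.Agent.S1033
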