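import Cfsg.Statements.S1034
import Cfsg.Agent.Lib.Lie.Good
import Cfsg.Agent.Lib.Lie.ChevGroup
-- import your own Cfsg.Agent.* helpers here

set_option autoImplicit false
open Cfsg

namespace Cfsg.Agent.S1034

/-- Every element of `H` is a product `h_{p_1}(c_1) ⋯ h_{p_l}(c_l)` over the fundamental roots, with non-zero `c_i`. -/
theorem result {F : Type*} [Field F] (D : Cfsg.Lie.ChevalleyDatum) (hD : D ∈ [Cfsg.Lie.chevG2, Cfsg.Lie.chevB2, Cfsg.Lie.chevD4, Cfsg.Lie.chevF4, Cfsg.Lie.chevE6, Cfsg.Lie.chevE7, Cfsg.Lie.chevE8]) (g : GL D.Idx F) (hg : g ∈ D.diagonalSubgroup F) :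
    ∃ c : ℕ → F, (∀ i < D.rank, c i ≠ 0) ∧
      (g : Matrix D.Idx D.Idx F) = D.wordMat F ((List.range D.rank).flatMap fun i => D.hWord (D.simple i) (c i)) := by
  obtain ⟨T, gd, rfl⟩ := Chev.exists_good hD
  rw [Chev.Tab.diagonalSubgroup_eq gd] at hg
  obtain ⟨c, rfl⟩ := hg
  refine ⟨fun i => (c i : F), fun i _ => Units.ne_zero _, ?_⟩
  rw [Chev.Tab.tor_eq_prod gd, show List.range T.D.rank = List.range T.l from congrArg List.range gd.rank_eq]
  have key : ∀ L : List ℕ, (∀ i ∈ L, i < T.l) →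
      (((L.map fun i => Chev.Tab.hS T F i (c i)).prod : GL T.D.Idx F) : Matrix T.D.Idx T.D.Idx F) =
        T.D.wordMat F (L.flatMap fun i => T.D.hWord (T.D.simple i) ((c i : F))) := by
    intro L
    induction L with
    | nil => intro _; rfl
    | cons i L ih =>
      intro h
      have hi := h i List.mem_cons_self
      rw [List.map_cons, List.prod_cons, Units.val_mul, ih fun x hx => h x (List.mem_cons_of_mem _ hx),
        ← Chev.Tab.hE_smp gd hi, Chev.Tab.hE_val gd (gd.smp_lt hi)]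
      simp [Lie.ChevalleyDatum.wordMat, Lie.ChevalleyDatum.hMat, List.flatMap_cons, gd.simple_eq hi]
  exact key _ fun i hi => List.mem_range.1 hi

end Cfsg.Agent.S1034
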