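import Cfsg.Statements.S1035
import Cfsg.Agent.Lib.Lie.OrderG2
import Cfsg.Agent.Lib.Lie.OrderF4
import Cfsg.Agent.Lib.Lie.OrderE8
import Cfsg.Agent.Lib.Lie.OrderE6
import Cfsg.Agent.Lib.Lie.OrderE7
import Cfsg.Agent.Lib.Lie.OrderB2
import Cfsg.Agent.Lib.Lie.OrderD4
-- import your own Cfsg.Agent.* helpers here

set_option autoImplicit false
open Cfsg

namespace Cfsg.Agent.S1035

/-- `d · |H| = (q - 1)^rank` over a field with `q` elements, with `d = 1` (G₂, F₄, E₈), `gcd(3, q-1)` (E₆), `gcd(2, q-1)` (E₇, B₂), `gcd(2, q-1)²` (D₄). -/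
theorem result {F : Type*} [Field F] [Fintype F] {q : ℕ} (hq : Fintype.card F = q)
    (p : Cfsg.Lie.ChevalleyDatum × ℕ)
    (hp : p ∈ [(Cfsg.Lie.chevG2, 1), (Cfsg.Lie.chevF4, 1), (Cfsg.Lie.chevE8, 1), (Cfsg.Lie.chevE6, Nat.gcd 3 (q - 1)),
      (Cfsg.Lie.chevE7, Nat.gcd 2 (q - 1)), (Cfsg.Lie.chevB2, Nat.gcd 2 (q - 1)), (Cfsg.Lie.chevD4, Nat.gcd 2 (q - 1) ^ 2)]) :
    p.2 * Nat.card (p.1.diagonalSubgroup F) = (q - 1) ^ p.1.rank := by
  simp only [List.mem_cons, List.not_mem_nil, or_false] at hp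
  rcases hp with rfl | rfl | rfl | rfl | rfl | rfl | rfl
  · have h := Chev.Tab.card_diagonal_mul (F := F) Chev.G2Data.good Chev.G2Data.torOK
    rw [hq, Nat.gcd_comm, ← Chev.G2Data.good.rank_eq] at h
    simp only [Chev.G2Data.cert, pow_zero, pow_one, one_mul] at h ⊢
    exact h
  · have h := Chev.Tab.card_diagonal_mul (F := F) Chev.F4Data.good Chev.F4Data.torOK
    rw [hq, Nat.gcd_comm, ← Chev.F4Data.good.rank_eq] at h
    simp only [Chev.F4Data.cert, pow_zero, pow_one, one_mul] at h ⊢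
    exact h
  · have h := Chev.Tab.card_diagonal_mul (F := F) Chev.E8Data.good Chev.E8Data.torOK
    rw [hq, Nat.gcd_comm, ← Chev.E8Data.good.rank_eq] at h
    simp only [Chev.E8Data.cert, pow_zero, pow_one, one_mul] at h ⊢
    exact h
  · have h := Chev.Tab.card_diagonal_mul (F := F) Chev.E6Data.good Chev.E6Data.torOK
    rw [hq, Nat.gcd_comm, ← Chev.E6Data.good.rank_eq] at h
    simp only [Chev.E6Data.cert, pow_zero, pow_one, one_mul] at h ⊢
    exact h
  · have h := Chev.Tab.card_diagonal_mul (F := F) Chev.E7Data.good Chev.E7Data.torOK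
    rw [hq, Nat.gcd_comm, ← Chev.E7Data.good.rank_eq] at h
    simp only [Chev.E7Data.cert, pow_zero, pow_one, one_mul] at h ⊢
    exact h
  · have h := Chev.Tab.card_diagonal_mul (F := F) Chev.B2Data.good Chev.B2Data.torOK
    rw [hq, Nat.gcd_comm, ← Chev.B2Data.good.rank_eq] at h
    simp only [Chev.B2Data.cert, pow_zero, pow_one, one_mul] at h ⊢
    exact h
  · have h := Chev.Tab.card_diagonal_mul (F := F) Chev.D4Data.good Chev.D4Data.torOK
    rw [hq, Nat.gcd_comm, ← Chev.D4Data.good.rank_eq] at h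
    simp only [Chev.D4Data.cert, pow_zero, pow_one, one_mul] at h ⊢
    exact h

end Cfsg.Agent.S1035
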