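import Cfsg.Statements.S1037
import Cfsg.Agent.Lib.Lie.ChevUnip2
-- import your own Cfsg.Agent.* helpers here

set_option autoImplicit false
open Cfsg

namespace Cfsg.Agent.S1037

/-- `UH ∩ V = 1` and `UH ∩ VH = H`. -/
theorem result {F : Type*} [Field F] (D : Cfsg.Lie.ChevalleyDatum) (hD : D ∈ [Cfsg.Lie.chevG2, Cfsg.Lie.chevB2, Cfsg.Lie.chevD4, Cfsg.Lie.chevF4, Cfsg.Lie.chevE6, Cfsg.Lie.chevE7, Cfsg.Lie.chevE8]) :
    D.borelSubgroup F ⊓ D.negUnipotent F = ⊥ ∧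
      D.borelSubgroup F ⊓ (D.negUnipotent F ⊔ D.diagonalSubgroup F) = D.diagonalSubgroup F := by
  obtain ⟨T, g, rfl⟩ := Chev.exists_goodA hD
  have hg := g.toGood
  have h0 : ∀ y ∈ T.D.borelSubgroup F, y ∈ T.D.negUnipotent F → y = 1 := by
    intro y h1 h2
    rw [Chev.Tab.negUnipotent_eq hg] at h2
    exact Chev.Tab.borel_inf_neg hg h1 h2
  refine ⟨eq_bot_iff.2 fun y hy => h0 y hy.1 hy.2, le_antisymm ?_ (le_inf le_sup_right le_sup_right)⟩
  have hle : T.D.diagonalSubgroup F ≤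
      Subgroup.normalizer (T.D.negUnipotent F : Set (GL T.D.Idx F)) := by
    rw [Chev.Tab.diagonalSubgroup_eq hg, Chev.Tab.negUnipotent_eq hg]
    rintro y ⟨c, rfl⟩
    refine Chev.Tab.tor_normalizes hg (fun r hr => ?_) c
    have := Chev.Tab.n_def (T := T)
    have : r < T.N := hr
    omega
  rintro y ⟨h1, h2⟩
  replace h2 : y ∈ ((T.D.negUnipotent F ⊔ T.D.diagonalSubgroup F : Subgroup (GL T.D.Idx F)) : Set (GL T.D.Idx F)) := h2
  rw [Subgroup.coe_mul_of_right_le_normalizer_left _ _ hle] at h2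
  obtain ⟨v, hv, h, hh, rfl⟩ := Set.mem_mul.1 h2
  have hv' : v ∈ T.D.borelSubgroup F := by
    have := mul_mem (show v * h ∈ T.D.borelSubgroup F from h1)
      (inv_mem (show h ∈ T.D.borelSubgroup F from le_sup_right (a := T.D.posUnipotent F) hh))
    rwa [mul_inv_cancel_right] at this
  rw [h0 v hv' hv, one_mul]
  exact hh

end Cfsg.Agent.S1037
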