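import Cfsg.Statements.S1038
import Cfsg.Agent.Lib.Lie.Good
import Cfsg.Agent.Lib.Lie.ChevGroup
-- import your own Cfsg.Agent.* helpers here

set_option autoImplicit false
open Cfsg

namespace Cfsg.Agent.S1038

/-- The diagonal subgroup `H` (generated by the `h_r(t)`, `t ≠ 0`) is normal in the monomial subgroup `N` (generated by `H` and the `n_r`). -/
theorem result {F : Type*} [Field F] (D : Cfsg.Lie.ChevalleyDatum) (hD : D ∈ [Cfsg.Lie.chevG2, Cfsg.Lie.chevB2, Cfsg.Lie.chevD4, Cfsg.Lie.chevF4, Cfsg.Lie.chevE6, Cfsg.Lie.chevE7, Cfsg.Lie.chevE8]) : ((D.diagonalSubgroup F).subgroupOf (D.monomialSubgroup F)).Normal := by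
  obtain ⟨T, g, rfl⟩ := Chev.exists_good hD
  rw [Subgroup.normal_subgroupOf_iff (by rw [Lie.ChevalleyDatum.monomialSubgroup]; exact le_sup_left)]
  intro h n hh hn
  rw [Chev.Tab.diagonalSubgroup_eq g] at hh ⊢
  have hle : T.D.monomialSubgroup F ≤
      Subgroup.normalizer ((Chev.Tab.tor T F).range : Set (GL T.D.Idx F)) := by
    rw [Chev.Tab.monomialSubgroup_eq g]
    refine sup_le Subgroup.le_normalizer fun ω hω => Subgroup.mem_normalizer_iff.2 fun y => ?_
    constructor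
    · rintro ⟨c, rfl⟩
      obtain ⟨d, hd⟩ := Chev.Tab.wSub_conj_torus g hω c
      exact ⟨d, hd.symm⟩
    · rintro ⟨c, hc⟩
      obtain ⟨d, hd⟩ := Chev.Tab.wSub_conj_torus g (inv_mem hω) c
      refine ⟨d, ?_⟩
      rw [← hd, hc]
      group
  exact (Subgroup.mem_normalizer_iff.1 (hle hn) h).1 hh

end Cfsg.Agent.S1038
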