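import Cfsg.Statements.S1041
import Cfsg.Agent.Lib.Lie.Good
import Cfsg.Agent.Lib.Lie.ChevConj
-- import your own Cfsg.Agent.* helpers here

set_option autoImplicit false
open Cfsg

namespace Cfsg.Agent.S1041

/-- `U` and `V` generate the whole Chevalley group. -/
theorem result {F : Type*} [Field F] (D : Cfsg.Lie.ChevalleyDatum) (hD : D ∈ [Cfsg.Lie.chevG2, Cfsg.Lie.chevB2, Cfsg.Lie.chevD4, Cfsg.Lie.chevF4, Cfsg.Lie.chevE6, Cfsg.Lie.chevE7, Cfsg.Lie.chevE8]) : D.posUnipotent F ⊔ D.negUnipotent F = D.group F := by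
  obtain ⟨T, g, rfl⟩ := Chev.exists_good hD
  refine le_antisymm (sup_le ?_ ?_) ?_
  · refine (Subgroup.closure_le _).2 ?_
    rintro x ⟨r, t, hr, hx⟩
    exact Subgroup.subset_closure ⟨⟨r, hr.1⟩, t, by rw [hx, Lie.ChevalleyDatum.x, dif_pos hr.1]⟩
  · refine (Subgroup.closure_le _).2 ?_
    rintro x ⟨r, t, hr, hx⟩
    exact Subgroup.subset_closure ⟨⟨r, hr.1⟩, t, by rw [hx, Lie.ChevalleyDatum.x, dif_pos hr.1]⟩
  · refine (Subgroup.closure_le _).2 ?_
    rintro x ⟨⟨r, hr⟩, t, hx⟩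
    have hx' : (x : Matrix T.D.Idx T.D.Idx F) = T.D.x F r t := by
      rw [hx, Lie.ChevalleyDatum.x, dif_pos hr]
    by_cases h : T.N ≤ r
    · exact le_sup_left (b := T.D.negUnipotent F)
        (Subgroup.subset_closure ⟨r, t, (g.isPosRoot_iff r).2 ⟨h, by rwa [← g.nroots_eq]⟩, hx'⟩)
    · exact le_sup_right (a := T.D.posUnipotent F)
        (Subgroup.subset_closure ⟨r, t, (g.isNegRoot_iff r).2 (not_le.1 h), hx'⟩)

end Cfsg.Agent.S1041
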