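import Cfsg.Statements.S1043
import Cfsg.Agent.Lib.Lie.Good
import Cfsg.Agent.Lib.Lie.ChevGroup
-- import your own Cfsg.Agent.* helpers here

set_option autoImplicit false
open Cfsg

namespace Cfsg.Agent.S1043

/-- `B ≤ G`, `N ≤ G` and `B ⊔ N = G` for the Chevalley group `G` generated by all root elements. -/
theorem result {F : Type*} [Field F] (D : Cfsg.Lie.ChevalleyDatum) (hD : D ∈ [Cfsg.Lie.chevG2, Cfsg.Lie.chevB2, Cfsg.Lie.chevD4, Cfsg.Lie.chevF4, Cfsg.Lie.chevE6, Cfsg.Lie.chevE7, Cfsg.Lie.chevE8]) :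
    D.borelSubgroup F ≤ D.group F ∧ D.monomialSubgroup F ≤ D.group F ∧ D.borelSubgroup F ⊔ D.monomialSubgroup F = D.group F := by
  obtain ⟨T, g, rfl⟩ := Chev.exists_good hD
  have hpos : ∀ r, T.N ≤ r → r < T.n → ∀ t : F, Chev.Tab.xg g r t ∈ T.D.borelSubgroup F :=
    fun r h1 h2 t => le_sup_left (b := T.D.diagonalSubgroup F)
      (Subgroup.subset_closure ⟨r, t, (g.isPosRoot_iff r).2 ⟨h1, h2⟩, rfl⟩)
  have hH : T.D.diagonalSubgroup F ≤ T.D.group F := by
    rw [Chev.Tab.diagonalSubgroup_eq g]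
    rintro x ⟨c, rfl⟩
    exact Chev.Tab.tor_mem_group g c
  have hB : T.D.borelSubgroup F ≤ T.D.group F := by
    refine sup_le ((Subgroup.closure_le _).2 ?_) hH
    rintro x ⟨r, t, hr, hx⟩
    rw [Chev.Tab.eq_xg g hx]
    exact Chev.Tab.xg_mem_group g r t
  have hN : T.D.monomialSubgroup F ≤ T.D.group F := by
    rw [Chev.Tab.monomialSubgroup_eq g, ← Chev.Tab.diagonalSubgroup_eq g]
    refine sup_le hH ((Subgroup.closure_le _).2 ?_)
    rintro x ⟨i, hi, rfl⟩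
    exact Chev.Tab.nG_mem_group g i
  refine ⟨hB, hN, le_antisymm (sup_le hB hN) ((Subgroup.closure_le _).2 ?_)⟩
  rintro x ⟨⟨r, hr⟩, t, hx⟩
  have hr' : r < T.n := by rwa [← g.nroots_eq]
  have hx' : x = Chev.Tab.xg g r t := Chev.Tab.eq_xg g (by rw [hx, Lie.ChevalleyDatum.x, dif_pos hr])
  rw [hx']
  revert t
  suffices h : ∀ r < T.n, ∀ t : F,
      Chev.Tab.xg g r t ∈ T.D.borelSubgroup F ⊔ T.D.monomialSubgroup F from fun t _ _ => h r hr' t
  refine Chev.Tab.root_induction g (fun i hi t => ?_) (fun i hi s hs ih t => ?_)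
  · exact le_sup_left (b := T.D.monomialSubgroup F) (hpos _ (g.smp_ge hi) (g.smp_lt hi) t)
  · have hn : Chev.Tab.nG g F i ∈ T.D.borelSubgroup F ⊔ T.D.monomialSubgroup F := by
      refine le_sup_right (a := T.D.borelSubgroup F) ?_
      rw [Chev.Tab.monomialSubgroup_eq g]
      exact le_sup_right (a := (Chev.Tab.tor T F).range) (Chev.Tab.nG_mem_wSub g hi)
    have h := mul_mem (mul_mem hn (ih ((T.eta i s : F) * t))) (inv_mem hn)
    rwa [Chev.Tab.nG_conj g hi hs, ← mul_assoc, Chev.Tab.eta_sq, one_mul] at h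

end Cfsg.Agent.S1043
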