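import Cfsg.Statements.S1044
import Cfsg.Agent.Lib.Lie.ChevBN
-- import your own Cfsg.Agent.* helpers here

set_option autoImplicit false
open Cfsg

namespace Cfsg.Agent.S1044

/-- For a fundamental root `p` the set `B ∪ B n_p B` is (the carrier of) a subgroup of the general linear group. -/
theorem result {F : Type*} [Field F] (D : Cfsg.Lie.ChevalleyDatum) (hD : D ∈ [Cfsg.Lie.chevG2, Cfsg.Lie.chevB2, Cfsg.Lie.chevD4, Cfsg.Lie.chevF4, Cfsg.Lie.chevE6, Cfsg.Lie.chevE7, Cfsg.Lie.chevE8]) (i : ℕ) (hi : i < D.rank) (n : GL D.Idx F)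
    (hn : (n : Matrix D.Idx D.Idx F) = D.nMat F (D.simple i) 1) :
    ∃ P : Subgroup (GL D.Idx F), (P : Set (GL D.Idx F)) =
      (D.borelSubgroup F : Set (GL D.Idx F)) ∪ DoubleCoset.doubleCoset n (D.borelSubgroup F : Set (GL D.Idx F)) (D.borelSubgroup F) := by
  obtain ⟨T, g, rfl⟩ := Chev.exists_goodA hD
  have hg := g.toGood
  rw [hg.rank_eq] at hi
  have hn' : n = Chev.Tab.nG hg F i := Units.ext (by rw [Chev.Tab.nG_val hg hi]; exact hn)
  subst hn'
  set B := T.D.borelSubgroup F with hB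
  set s := Chev.Tab.nG hg F i with hs
  have hsq : s * s ∈ B := by rw [hs, Chev.Tab.nG_sq hg hi]; exact Chev.Tab.torus_le_borel hg _
  have hmid : ∀ b ∈ B, s * b * s ∈ (B : Set (GL T.D.Idx F)) ∪
      DoubleCoset.doubleCoset s (B : Set (GL T.D.Idx F)) B := by
    intro b hb
    obtain ⟨b₁, h1, b₂, h2, h⟩ :=
      Chev.Tab.nG_borel_mul g hi hb (Chev.Tab.nG_mem_monomial (F := F) hg hi)
    rcases h with h | h
    · exact Or.inl (h ▸ mul_mem (mul_mem h1 hsq) h2)
    · exact Or.inr (DoubleCoset.mem_doubleCoset.2 ⟨b₁, h1, b₂, h2, h⟩)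
  refine ⟨{ carrier := (B : Set (GL T.D.Idx F)) ∪ DoubleCoset.doubleCoset s (B : Set (GL T.D.Idx F)) B,
            one_mem' := Or.inl B.one_mem, mul_mem' := ?_, inv_mem' := ?_ }, rfl⟩
  · intro x y hx hy
    rcases hx with hx | hx <;> rcases hy with hy | hy
    · exact Or.inl (mul_mem hx hy)
    · obtain ⟨a, ha, b, hb, rfl⟩ := DoubleCoset.mem_doubleCoset.1 hy
      exact Or.inr (DoubleCoset.mem_doubleCoset.2 ⟨x * a, mul_mem hx ha, b, hb, by group⟩)
    · obtain ⟨a, ha, b, hb, rfl⟩ := DoubleCoset.mem_doubleCoset.1 hx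
      exact Or.inr (DoubleCoset.mem_doubleCoset.2 ⟨a, ha, b * y, mul_mem hb hy, by group⟩)
    · obtain ⟨a, ha, b, hb, rfl⟩ := DoubleCoset.mem_doubleCoset.1 hx
      obtain ⟨c, hc, d, hd, rfl⟩ := DoubleCoset.mem_doubleCoset.1 hy
      have e : a * s * b * (c * s * d) = a * (s * (b * c) * s) * d := by group
      rw [e]
      rcases hmid _ (mul_mem hb hc) with h | h
      · exact Or.inl (mul_mem (mul_mem ha h) hd)
      · obtain ⟨p, hp, q, hq, e'⟩ := DoubleCoset.mem_doubleCoset.1 h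
        exact Or.inr (DoubleCoset.mem_doubleCoset.2
          ⟨a * p, mul_mem ha hp, q * d, mul_mem hq hd, by rw [e']; group⟩)
  · intro x hx
    rcases hx with hx | hx
    · exact Or.inl (inv_mem hx)
    · obtain ⟨a, ha, b, hb, rfl⟩ := DoubleCoset.mem_doubleCoset.1 hx
      exact Or.inr (DoubleCoset.mem_doubleCoset.2
        ⟨b⁻¹ * (s * s)⁻¹, mul_mem (inv_mem hb) (inv_mem hsq), a⁻¹, inv_mem ha, by group⟩)

end Cfsg.Agent.S1044
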