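import Cfsg.Statements.S1045
import Cfsg.Agent.Lib.Lie.ChevUnip2
-- import your own Cfsg.Agent.* helpers here

set_option autoImplicit false
open Cfsg

namespace Cfsg.Agent.S1045

/-- For a fundamental root `p`, the subgroup `U_p` generated by the `X_s`, `s` positive and `s ≠ p`, is normalised by `X_p` and `X_{-p}`, and `U = U_p ⊔ X_p`. -/
theorem result {F : Type*} [Field F] (D : Cfsg.Lie.ChevalleyDatum) (hD : D ∈ [Cfsg.Lie.chevG2, Cfsg.Lie.chevB2, Cfsg.Lie.chevD4, Cfsg.Lie.chevF4, Cfsg.Lie.chevE6, Cfsg.Lie.chevE7, Cfsg.Lie.chevE8]) (i : ℕ) (hi : i < D.rank) :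
    D.rootSubgroup F (D.simple i) ⊔ D.rootSubgroup F (D.neg (D.simple i)) ≤
        Subgroup.normalizer (Subgroup.closure {g : GL D.Idx F | ∃ (s : ℕ) (t : F), D.IsPosRoot s ∧ s ≠ D.simple i ∧
          (g : Matrix D.Idx D.Idx F) = D.x F s t} : Set (GL D.Idx F)) ∧
      Subgroup.closure {g : GL D.Idx F | ∃ (s : ℕ) (t : F), D.IsPosRoot s ∧ s ≠ D.simple i ∧
          (g : Matrix D.Idx D.Idx F) = D.x F s t} ⊔ D.rootSubgroup F (D.simple i) = D.posUnipotent F := by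
  obtain ⟨T, g, rfl⟩ := Chev.exists_goodA hD
  have hg := g.toGood
  rw [hg.rank_eq] at hi
  rw [hg.simple_eq hi, hg.neg_eq (hg.smp_lt hi)]
  have e : Subgroup.closure {y : GL T.D.Idx F | ∃ (s : ℕ) (t : F), T.D.IsPosRoot s ∧ s ≠ T.smp i ∧
      (y : Matrix T.D.Idx T.D.Idx F) = T.D.x F s t} = Chev.Tab.genS hg F (T.posExc i) := by
    refine le_antisymm ((Subgroup.closure_le _).2 ?_) (Chev.Tab.genS_le hg fun r hr t => ?_)
    · rintro y ⟨s, t, hs, hne, hy⟩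
      rw [Chev.Tab.eq_xg hg hy]
      rw [hg.isPosRoot_iff] at hs
      exact Chev.Tab.xg_mem_genS hg (S := T.posExc i) (r := s) ⟨hs.1, hs.2, hne⟩ t
    · exact Subgroup.subset_closure ⟨r, t, (hg.isPosRoot_iff r).2 ⟨hr.1, hr.2.1⟩, hr.2.2, rfl⟩
  rw [e]
  refine ⟨sup_le ?_ ?_, le_antisymm (sup_le ?_ ?_) ?_⟩
  · intro y hy
    obtain ⟨t, rfl⟩ := (Chev.Tab.mem_rootSubgroup_iff hg).1 hy
    exact Chev.Tab.posExc_normalized g hi (hg.smp_ge hi) (hg.smp_lt hi) t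
  · intro y hy
    obtain ⟨t, rfl⟩ := (Chev.Tab.mem_rootSubgroup_iff hg).1 hy
    exact Chev.Tab.posExc_normalized_neg g hi t
  · rw [Chev.Tab.posUnipotent_eq hg]
    exact Chev.Tab.genS_mono hg fun r hr => ⟨hr.1, hr.2.1⟩
  · intro y hy
    obtain ⟨t, rfl⟩ := (Chev.Tab.mem_rootSubgroup_iff hg).1 hy
    rw [Chev.Tab.posUnipotent_eq hg]
    exact Chev.Tab.xg_mem_genS hg (S := Set.Ico T.N T.n) (r := T.smp i) ⟨hg.smp_ge hi, hg.smp_lt hi⟩ t
  · rw [Chev.Tab.posUnipotent_eq hg]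
    refine Chev.Tab.genS_le hg fun r hr t => ?_
    by_cases h : r = T.smp i
    · exact Subgroup.mem_sup_right ((Chev.Tab.mem_rootSubgroup_iff hg).2 ⟨t, by rw [h]⟩)
    · exact Subgroup.mem_sup_left
        (Chev.Tab.xg_mem_genS hg (S := T.posExc i) (r := r) ⟨hr.1, hr.2, h⟩ t)

end Cfsg.Agent.S1045
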