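import Cfsg.Statements.S1047
import Cfsg.Agent.Lib.Lie.ChevParabolic
-- import your own Cfsg.Agent.* helpers here

set_option autoImplicit false
open Cfsg

namespace Cfsg.Agent.S1047

/-- `P_J = ⟨H, X_r : r ∈ Φ⁺ ∪ Φ_J⟩`. -/
theorem result {F : Type*} [Field F] (D : Cfsg.Lie.ChevalleyDatum) (hD : D ∈ [Cfsg.Lie.chevG2, Cfsg.Lie.chevB2, Cfsg.Lie.chevD4, Cfsg.Lie.chevF4, Cfsg.Lie.chevE6, Cfsg.Lie.chevE7, Cfsg.Lie.chevE8]) (J : Set ℕ) :
    D.parabolicSubgroup F J = D.diagonalSubgroup F ⊔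
      Subgroup.closure {g : GL D.Idx F | ∃ (r : ℕ) (t : F), (D.IsPosRoot r ∨ D.InRootSub J r) ∧ (g : Matrix D.Idx D.Idx F) = D.x F r t} := by
  obtain ⟨T, K, gK, rfl⟩ := Chev.exists_goodK hD
  have hg := gK.toGood
  rw [Chev.Tab.parabolic_eq hg]
  congr 1
  refine le_antisymm (Chev.Tab.genS_le hg fun r hr t => ?_) ((Subgroup.closure_le _).2 ?_)
  · refine Subgroup.subset_closure ⟨r, t, ?_, rfl⟩
    rcases hr with hr | hr
    · exact Or.inl ((hg.isPosRoot_iff r).2 hr)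
    · exact Or.inr ((hg.inRootSub_iff J r).2 hr)
  · rintro y ⟨r, t, hr, hy⟩
    rw [Chev.Tab.eq_xg hg hy]
    refine Chev.Tab.xg_mem_genS hg ?_ t
    rcases hr with hr | hr
    · exact Or.inl ((hg.isPosRoot_iff r).1 hr)
    · exact Or.inr ((hg.inRootSub_iff J r).1 hr)

end Cfsg.Agent.S1047
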