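import Cfsg.Statements.S1058
import Cfsg.Agent.S1060
-- import your own Cfsg.Agent.* helpers here

set_option autoImplicit false
open Cfsg

namespace Cfsg.Agent.S1058

local notation "K" => ZMod 2
local notation "D" => Cfsg.Lie.chevB2

/-- A fixed vector of the adjoint module over the field with two elements. -/
def cvec : Cfsg.Lie.chevB2.Idx → K := fun x =>
  match x with
  | Sum.inl i => if i.val = 0 then 1 else 0
  | Sum.inr _ => 0

/-- Six vectors permuted modulo the fixed one. -/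
def vvec (i : Fin 6) : Cfsg.Lie.chevB2.Idx → K := fun x =>
  let t : List (List K) := [[0, 1, 0, 0, 1, 0, 0, 1, 0, 0], [0, 1, 0, 0, 1, 0, 0, 1, 1, 0],
    [0, 1, 0, 1, 0, 0, 0, 0, 1, 0], [0, 1, 0, 1, 0, 0, 0, 1, 1, 0],
    [0, 1, 0, 1, 1, 0, 0, 0, 1, 0], [0, 1, 0, 1, 1, 0, 0, 1, 0, 0]]
  let j : ℕ := match x with
    | Sum.inl a => a.val
    | Sum.inr a => 2 + a.val
  (t.getD i.val []).getD j 0

/-- `g` induces `π` on the six vectors modulo the fixed one. -/
def R (g : Matrix (Cfsg.Lie.chevB2.Idx) (Cfsg.Lie.chevB2.Idx) K) (π : Equiv.Perm (Fin 6)) : Prop :=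
  g.mulVec cvec = cvec ∧ ∀ i, ∃ e : K, g.mulVec (vvec i) = vvec (π i) + e • cvec

theorem R.one : R 1 1 := ⟨Matrix.one_mulVec _, fun i => ⟨0, by simp⟩⟩

theorem R.mul {g h : Matrix (Cfsg.Lie.chevB2.Idx) (Cfsg.Lie.chevB2.Idx) K}
    {π σ : Equiv.Perm (Fin 6)} (hg : R g π) (hh : R h σ) : R (g * h) (π * σ) := by
  refine ⟨by rw [← Matrix.mulVec_mulVec, hh.1, hg.1], fun i => ?_⟩
  obtain ⟨e, he⟩ := hh.2 i
  obtain ⟨e', he'⟩ := hg.2 (σ i)
  refine ⟨e' + e, ?_⟩
  rw [← Matrix.mulVec_mulVec, he, Matrix.mulVec_add, Matrix.mulVec_smul, hg.1, he', add_assoc,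
    ← add_smul]
  rfl

theorem R.inv {g h : Matrix (Cfsg.Lie.chevB2.Idx) (Cfsg.Lie.chevB2.Idx) K}
    {π : Equiv.Perm (Fin 6)} (hg : R g π) (hgh : h * g = 1) : R h π⁻¹ := by
  have hc : h.mulVec cvec = cvec := by
    conv_lhs => rw [← hg.1, Matrix.mulVec_mulVec, hgh, Matrix.one_mulVec]
  refine ⟨hc, fun i => ?_⟩
  obtain ⟨e, he⟩ := hg.2 (π⁻¹ i)
  have h1 := congrArg h.mulVec he
  rw [Matrix.mulVec_mulVec, hgh, Matrix.one_mulVec, Matrix.mulVec_add, Matrix.mulVec_smul, hc,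
    Equiv.Perm.coe_inv, Equiv.apply_symm_apply] at h1
  refine ⟨-e, ?_⟩
  rw [neg_smul, Equiv.Perm.coe_inv, h1, add_assoc, add_neg_cancel, add_zero]

theorem vvec_sep : ∀ a b : Fin 6, ∀ e : K, vvec a = vvec b + e • cvec → a = b := by
  decide +kernel

theorem R.unique {g : Matrix (Cfsg.Lie.chevB2.Idx) (Cfsg.Lie.chevB2.Idx) K}
    {π σ : Equiv.Perm (Fin 6)} (hg : R g π) (hg' : R g σ) : π = σ := by
  refine Equiv.ext fun i => ?_
  obtain ⟨e, he⟩ := hg.2 i
  obtain ⟨e', he'⟩ := hg'.2 i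
  refine vvec_sep _ _ (e' - e) ?_
  rw [sub_smul, ← add_sub_assoc, ← he', he, add_sub_cancel_right]

/-- The permutations induced by the root elements. -/
def rperm : Fin 8 → Equiv.Perm (Fin 6) :=
  let s := fun a b : Fin 6 => Equiv.swap a b
  ![s 0 5 * s 1 3 * s 2 4, s 0 5, s 2 4, s 0 5 * s 1 4 * s 2 3, s 0 1 * s 2 4 * s 3 5, s 2 3,
    s 0 1, s 0 1 * s 2 3 * s 4 5]

theorem root_spec_c : ∀ r : Fin 8,
    (Cfsg.Lie.chevB2.xMat K r 1).mulVec cvec = cvec := by
  decide +kernel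

theorem root_spec_v : ∀ (r : Fin 8) (i : Fin 6), ∃ e : K,
    (Cfsg.Lie.chevB2.xMat K r 1).mulVec (vvec i) = vvec (rperm r i) + e • cvec := by
  decide +kernel

theorem root_sq : ∀ r : Fin 8, Cfsg.Lie.chevB2.xMat K r 1 * Cfsg.Lie.chevB2.xMat K r 1 = 1 := by
  decide +kernel

theorem root_zero : ∀ r : Fin 8, Cfsg.Lie.chevB2.xMat K r 0 = 1 := by
  decide +kernel

theorem zmod_two_cases : ∀ c : K, c = 0 ∨ c = 1 := by decide

theorem exists_R (g : Cfsg.Lie.chevB2.group K) : ∃ π, R (g.1 : GL _ K).val π := by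
  obtain ⟨g, hg⟩ := g
  refine Subgroup.closure_induction (p := fun x _ => ∃ π, R (x : GL _ K).val π) ?_ ⟨1, R.one⟩
    ?_ ?_ hg
  · rintro x ⟨r, t, hx⟩
    rcases zmod_two_cases t with rfl | rfl
    · exact ⟨1, by rw [hx, root_zero r]; exact R.one⟩
    · exact ⟨rperm r, by rw [hx]; exact ⟨root_spec_c r, root_spec_v r⟩⟩
  · rintro x y _ _ ⟨π, hπ⟩ ⟨σ, hσ⟩
    exact ⟨π * σ, by rw [Units.val_mul]; exact hπ.mul hσ⟩
  · rintro x _ ⟨π, hπ⟩
    exact ⟨π⁻¹, hπ.inv x.inv_mul⟩

/-- The action on six letters. -/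
noncomputable def toPerm : Cfsg.Lie.chevB2.group K →* Equiv.Perm (Fin 6) :=
  MonoidHom.mk' (fun g => (exists_R g).choose) fun g h =>
    R.unique (exists_R (g * h)).choose_spec
      ((exists_R g).choose_spec.mul (exists_R h).choose_spec)

theorem rperm_mem (r : Fin 8) : rperm r ∈ toPerm.range := by
  let u : GL Cfsg.Lie.chevB2.Idx K :=
    ⟨Cfsg.Lie.chevB2.xMat K r 1, Cfsg.Lie.chevB2.xMat K r 1, root_sq r, root_sq r⟩
  have hu : u ∈ Cfsg.Lie.chevB2.group K := Subgroup.subset_closure ⟨r, 1, rfl⟩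
  exact ⟨⟨u, hu⟩, R.unique (exists_R ⟨u, hu⟩).choose_spec ⟨root_spec_c r, root_spec_v r⟩⟩

theorem toPerm_surjective : Function.Surjective toPerm := by
  intro π
  have h : ∀ i : Fin 5, Equiv.swap i.castSucc i.succ ∈ toPerm.range := by
    have e0 : Equiv.swap (0 : Fin 6) 1 = rperm 6 := by decide
    have e1 : Equiv.swap (1 : Fin 6) 2 = rperm 0 * rperm 2 * rperm 5 * rperm 0 * rperm 2 := by decide
    have e2 : Equiv.swap (2 : Fin 6) 3 = rperm 5 := by decide
    have e3 : Equiv.swap (3 : Fin 6) 4 = rperm 2 * rperm 5 * rperm 2 := by decide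
    have e4 : Equiv.swap (4 : Fin 6) 5 = rperm 3 * rperm 6 * rperm 3 := by decide
    intro i
    fin_cases i <;> simp only [Fin.reduceFinMk, Fin.reduceCastSucc, Fin.reduceSucc]
    all_goals first
      | (rw [e0]; exact rperm_mem _)
      | (rw [e2]; exact rperm_mem _)
      | (rw [e3]; exact mul_mem (mul_mem (rperm_mem _) (rperm_mem _)) (rperm_mem _))
      | (rw [e4]; exact mul_mem (mul_mem (rperm_mem _) (rperm_mem _)) (rperm_mem _))
      | (rw [e1]; exact mul_mem (mul_mem (mul_mem (mul_mem (rperm_mem _) (rperm_mem _)) (rperm_mem _))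
          (rperm_mem _)) (rperm_mem _))
  have hle : Submonoid.closure (Set.range fun i : Fin 5 => Equiv.swap i.castSucc i.succ) ≤
      toPerm.range.toSubmonoid := Submonoid.closure_le.2 (by rintro _ ⟨i, rfl⟩; exact h i)
  rw [Equiv.Perm.mclosure_swap_castSucc_succ] at hle
  exact hle (Submonoid.mem_top π)

/-- The same group over any field with two elements. -/
theorem exists_equiv_group {F : Type*} [Field F] (e : K ≃+* F) :
    Nonempty (Cfsg.Lie.chevB2.group K ≃* Cfsg.Lie.chevB2.group F) := by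
  let φ : GL Cfsg.Lie.chevB2.Idx K →* GL Cfsg.Lie.chevB2.Idx F :=
    Matrix.GeneralLinearGroup.map e.toRingHom
  have hφ : Function.Injective φ := fun a b h =>
    Units.ext (Matrix.map_injective e.injective (congrArg Units.val h))
  have hx : ∀ r t, (Cfsg.Lie.chevB2.xMat K r t).map e = Cfsg.Lie.chevB2.xMat F r (e t) := by
    intro r t
    ext a b
    have h2 : ∀ y : F, -y = y := fun y => by
      have : (2 : F) = 0 := by rw [← map_ofNat e 2, show (2 : K) = 0 by decide, map_zero]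
      linear_combination (-y) * this
    simp only [Lie.ChevalleyDatum.xMat, Matrix.map_apply, Matrix.of_apply]
    rcases zmod_two_cases t with rfl | rfl <;>
    rcases a with a | a <;> rcases b with b | b <;> simp only [] <;> split_ifs <;>
      simp [map_list_sum, List.map_map, Function.comp_def, h2]
  have hmap : (Cfsg.Lie.chevB2.group K).map φ = Cfsg.Lie.chevB2.group F := by
    unfold Lie.ChevalleyDatum.group
    rw [MonoidHom.map_closure]
    congr 1
    ext g
    constructor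
    · rintro ⟨k, ⟨r, t, hk⟩, rfl⟩
      refine ⟨r, e t, ?_⟩
      rw [← hx, ← hk]
      rfl
    · rintro ⟨r, t, hg⟩
      refine ⟨Matrix.GeneralLinearGroup.map e.symm.toRingHom g, ⟨r, e.symm t, ?_⟩, ?_⟩
      · show (g.val).map e.symm = _
        rw [hg]
        have := congrArg (fun M => M.map e.symm) (hx r (e.symm t))
        simp only [RingEquiv.apply_symm_apply, Matrix.map_map] at this
        rw [← this]
        ext a b
        simp
      · apply Units.ext
        ext a b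
        simp [φ]
  exact ⟨((Cfsg.Lie.chevB2.group K).equivMapOfInjective φ hφ).trans (MulEquiv.subgroupCongr hmap)⟩


/-- B₂(2) ≅ S₆. -/
theorem result {F : Type*} [Field F] [Fintype F] (hF : Fintype.card F = 2) :
    Nonempty (↥(Cfsg.Lie.chevB2.group F) ≃* Equiv.Perm (Fin 6)) := by
  classical
  let e : ZMod 2 ≃+* F := ZMod.ringEquivOfPrime F Nat.prime_two hF
  obtain ⟨E⟩ := exists_equiv_group e
  have hcard : Nat.card (Cfsg.Lie.chevB2.group (ZMod 2)) = 720 := by
    have h := S1060.result (F := ZMod 2) (q := 2) (ZMod.card 2)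
    rw [show Nat.gcd 2 (2 - 1) = 1 from rfl, one_mul] at h
    exact h.trans (by norm_num)
  refine ⟨E.symm.trans (MulEquiv.ofBijective toPerm
    ((Nat.bijective_iff_surjective_and_card toPerm).2 ⟨toPerm_surjective, ?_⟩))⟩
  rw [hcard, Nat.card_perm, Nat.card_fin]
  norm_num [Nat.factorial]

end Cfsg.Agent.S1058
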