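import Cfsg.Statements.S1080
import Cfsg.Agent.Lib.Lie.Good
import Cfsg.Agent.Lib.Lie.ChevGroup
-- import your own Cfsg.Agent.* helpers here

set_option autoImplicit false
open Cfsg

namespace Cfsg.Agent.S1080

/-- Field automorphisms: for every field automorphism `f` there is a group automorphism sending each `x_r(t)` to `x_r(f t)`. -/
theorem result {F : Type*} [Field F] (D : Cfsg.Lie.ChevalleyDatum) (hD : D ∈ [Cfsg.Lie.chevG2, Cfsg.Lie.chevB2, Cfsg.Lie.chevD4, Cfsg.Lie.chevF4, Cfsg.Lie.chevE6, Cfsg.Lie.chevE7, Cfsg.Lie.chevE8]) (f : F ≃+* F) :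
    ∃ α : ↥(D.group F) ≃* ↥(D.group F), ∀ (g : ↥(D.group F)) (r : ℕ) (t : F), r < D.nroots →
      ((g : GL D.Idx F) : Matrix D.Idx D.Idx F) = D.x F r t → ((α g : GL D.Idx F) : Matrix D.Idx D.Idx F) = D.x F r (f t) := by
  obtain ⟨T, g, rfl⟩ := Chev.exists_good hD
  have hmap : ∀ (r : ℕ) (t : F), (T.D.x F r t).map f = T.D.x F r (f t) := by
    intro r t
    by_cases hr : r < T.D.nroots
    · rw [Lie.ChevalleyDatum.x, Lie.ChevalleyDatum.x, dif_pos hr, dif_pos hr]
      ext a b
      rcases b with b | b <;> rcases a with a | a <;>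
        simp only [Matrix.map_apply, Lie.ChevalleyDatum.xMat, Matrix.of_apply] <;>
        (repeat' split) <;> simp [map_list_sum, List.map_map, Function.comp_def]
    · rw [Lie.ChevalleyDatum.x, Lie.ChevalleyDatum.x, dif_neg hr, dif_neg hr]
      exact Matrix.map_one _ (map_zero f) (map_one f)
  let φ : GL T.D.Idx F ≃* GL T.D.Idx F := Units.mapEquiv (f.mapMatrix : Matrix T.D.Idx T.D.Idx F ≃+* _).toMulEquiv
  have hφ : (T.D.group F).map φ.toMonoidHom = T.D.group F := by
    refine le_antisymm (Subgroup.map_le_iff_le_comap.2 ((Subgroup.closure_le _).2 ?_))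
      ((Subgroup.closure_le _).2 ?_)
    · rintro x ⟨r, t, hx⟩
      refine Subgroup.subset_closure ⟨r, f t, ?_⟩
      show (x : Matrix T.D.Idx T.D.Idx F).map f = _
      have h := hmap r t
      rw [Lie.ChevalleyDatum.x, Lie.ChevalleyDatum.x, dif_pos r.2, dif_pos r.2] at h
      rw [hx]
      exact h
    · rintro x ⟨r, t, hx⟩
      refine ⟨φ.symm x, Subgroup.subset_closure ⟨r, f.symm t, ?_⟩, φ.apply_symm_apply x⟩
      show (x : Matrix T.D.Idx T.D.Idx F).map f.symm = _
      have h := hmap r (f.symm t)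
      rw [Lie.ChevalleyDatum.x, Lie.ChevalleyDatum.x, dif_pos r.2, dif_pos r.2,
        RingEquiv.apply_symm_apply] at h
      rw [hx]
      show (T.D.xMat F r t).map f.symm = T.D.xMat F r (f.symm t)
      rw [← h]
      ext a b
      simp
  refine ⟨(φ.subgroupMap (T.D.group F)).trans (MulEquiv.subgroupCongr hφ), fun x r t _ hx => ?_⟩
  show (x : GL T.D.Idx F).val.map f = _
  rw [hx, hmap]

end Cfsg.Agent.S1080
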