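import Cfsg.Statements.S1092
import Cfsg.Agent.Lib.Lie.ChevCoxeter
import Cfsg.Agent.Lib.Lie.OrderB2
import Cfsg.Agent.Lib.Lie.OrderG2
import Cfsg.Agent.Lib.Lie.OrderD4
import Cfsg.Agent.Lib.Lie.OrderF4
-- import your own Cfsg.Agent.* helpers here

set_option autoImplicit false
open Cfsg

namespace Cfsg.Agent.S1092

/-- `|W(B₂)| = 8`, `|W(G₂)| = 12`, `|W(D₄)| = 192`, `|W(F₄)| = 1152` for the groups presented by the Coxeter matrices (the product of the degrees of the basic invariants). -/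
theorem result (p : (Σ n : ℕ, CoxeterMatrix (Fin n)) × ℕ)
    (hp : p ∈ [(⟨2, CoxeterMatrix.B 2⟩, 8), (⟨2, CoxeterMatrix.G₂⟩, 12), (⟨4, Cfsg.Lie.coxeterD4⟩, 192), (⟨4, CoxeterMatrix.F₄⟩, 1152)]) :
    Nat.card p.1.2.Group = p.2 := by
  simp only [List.mem_cons, List.not_mem_nil, or_false] at hp
  rcases hp with rfl | rfl | rfl | rfl
  · obtain ⟨J, hJ, e⟩ := Chev.Tab.checkChain_spec (T := Chev.B2Data.tab) Chev.B2Data.good 1 Chev.B2Data.steps [] Chev.B2Data.chainOK
    rw [Chev.Tab.poinc_nil, Nat.cast_one, mul_one] at e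
    refine (Chev.Tab.card_coxGroup (T := Chev.B2Data.tab) ⟨Chev.B2Data.good, by decide +kernel⟩ (by decide +kernel) hJ).trans (Int.ofNat.inj ?_)
    refine e.trans ?_
    decide +kernel
  · obtain ⟨J, hJ, e⟩ := Chev.Tab.checkChain_spec (T := Chev.G2Data.tab) Chev.G2Data.good 1 Chev.G2Data.steps [] Chev.G2Data.chainOK
    rw [Chev.Tab.poinc_nil, Nat.cast_one, mul_one] at e
    refine (Chev.Tab.card_coxGroup (T := Chev.G2Data.tab) ⟨Chev.G2Data.good, by decide +kernel⟩ (by decide +kernel) hJ).trans (Int.ofNat.inj ?_)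
    refine e.trans ?_
    decide +kernel
  · obtain ⟨J, hJ, e⟩ := Chev.Tab.checkChain_spec (T := Chev.D4Data.tab) Chev.D4Data.good 1 Chev.D4Data.steps [] Chev.D4Data.chainOK
    rw [Chev.Tab.poinc_nil, Nat.cast_one, mul_one] at e
    refine (Chev.Tab.card_coxGroup (T := Chev.D4Data.tab) ⟨Chev.D4Data.good, by decide +kernel⟩ (by decide +kernel) hJ).trans (Int.ofNat.inj ?_)
    refine e.trans ?_
    decide +kernel
  · obtain ⟨J, hJ, e⟩ := Chev.Tab.checkChain_spec (T := Chev.F4Data.tab) Chev.F4Data.good 1 Chev.F4Data.steps [] Chev.F4Data.chainOK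
    rw [Chev.Tab.poinc_nil, Nat.cast_one, mul_one] at e
    refine (Chev.Tab.card_coxGroup (T := Chev.F4Data.tab) ⟨Chev.F4Data.good, by decide +kernel⟩ (by decide +kernel) hJ).trans (Int.ofNat.inj ?_)
    refine e.trans ?_
    decide +kernel

end Cfsg.Agent.S1092
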