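import Cfsg.Statements.S1095
import Cfsg.Agent.Lib.Lie.Good
import Cfsg.Agent.Lib.Lie.ChevGroup
-- import your own Cfsg.Agent.* helpers here

set_option autoImplicit false
open Cfsg

namespace Cfsg.Agent.S1095

/-- `n_p` (p = p_{i+1} fundamental) is the signed monomial matrix `h_{p_j} ↦ h_{p_j} - A_{p_j,p} h_p`, `e_s ↦ η_s e_{w_p(s)}`, with `η_s = ±1`, `η_p = η_{-p} = -1`, `η_s η_{w_p(s)} = (-1)^{A_{p,s}}`, `η_s η_{-s} = 1`. -/
theorem result {F : Type*} [Field F] (D : Cfsg.Lie.ChevalleyDatum) (hD : D ∈ [Cfsg.Lie.chevG2, Cfsg.Lie.chevB2, Cfsg.Lie.chevD4, Cfsg.Lie.chevF4, Cfsg.Lie.chevE6, Cfsg.Lie.chevE7, Cfsg.Lie.chevE8]) (i : ℕ) (hi : i < D.rank) :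
    ∃ η : ℕ → ℤ, (∀ s < D.nroots, η s = 1 ∨ η s = -1) ∧ η (D.simple i) = -1 ∧ η (D.neg (D.simple i)) = -1 ∧
      (∀ s < D.nroots, η s * η (D.reflectRoot i s) = (-1) ^ (D.cartan i s).natAbs ∧ η s * η (D.neg s) = 1) ∧
      D.nMat F (D.simple i) 1 = Matrix.of (fun (row col : D.Idx) =>
        Sum.elim
          (fun j' : Fin D.rank => Sum.elim
            (fun j : Fin D.rank => (if j' = j then (1 : F) else 0) - (if (j' : ℕ) = i then ((D.cartan j (D.simple i) : ℤ) : F) else 0))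
            (fun _ => (0 : F)) col)
          (fun s' : Fin D.nroots => Sum.elim
            (fun _ => (0 : F))
            (fun s : Fin D.nroots => if (s' : ℕ) = D.reflectRoot i s then ((η s : ℤ) : F) else 0) col)
          row) := by
  obtain ⟨T, g, rfl⟩ := Chev.exists_good hD
  rw [g.rank_eq] at hi
  refine ⟨fun s => T.eta i s, fun s hs => Chev.Tab.eta_cases T i s, ?_, ?_, fun s hs => ?_, ?_⟩
  · rw [g.simple_eq hi]; exact g.eta_smp hi
  · beta_reduce
    rw [g.simple_eq hi, g.neg_eq (g.smp_lt hi), g.eta_neg hi (g.smp_lt hi)]; exact g.eta_smp hi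
  · rw [g.nroots_eq] at hs
    beta_reduce
    rw [g.reflectRoot_eq hi hs, g.cartan_eq hi hs, g.neg_eq hs, g.eta_neg hi hs]
    exact ⟨(g.refl' hi hs).2.2.2.2.2.1, Chev.Tab.eta_sq_int T i s⟩
  · refine Chev.Tab.ext_col g fun j hj => ?_
    rw [show T.D.nMat F (T.D.simple i) 1 = Chev.Tab.nM T F i from rfl]
    obtain ⟨col, rfl⟩ := Chev.Tab.exists_code g hj
    rw [Chev.Tab.bas_code g, Matrix.mulVec_single_one, Matrix.mulVec_single_one]
    rcases col with ⟨v, hv⟩ | ⟨s, hs⟩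
    · have hv' : v < T.l := by rwa [← g.rank_eq]
      have h := Chev.Tab.n_col_h (F := F) g hi hv'
      rw [show v = T.code (Sum.inl ⟨v, hv⟩) from rfl, Chev.Tab.bas_code g,
        Matrix.mulVec_single_one] at h
      rw [h]
      funext row
      rw [show T.code (Sum.inl ⟨v, hv⟩) = v from rfl]
      rcases row with ⟨a, ha⟩ | ⟨a, ha⟩
      · by_cases e : a = i <;> simp [Chev.Tab.bas, Chev.Tab.code, Pi.single_apply, Fin.ext_iff,
          g.simple_eq hi, g.cartan_eq hv' (g.smp_lt hi), e]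
      · simp [Chev.Tab.bas, Chev.Tab.code, Pi.single_apply, show T.l + a ≠ i by omega]
    · have hs' : s < T.n := by rwa [← g.nroots_eq]
      have h := Chev.Tab.n_col_root (F := F) g hi hs'
      rw [show T.l + s = T.code (Sum.inr ⟨s, hs⟩) from rfl, Chev.Tab.bas_code g,
        Matrix.mulVec_single_one] at h
      rw [h]
      funext row
      rcases row with ⟨a, ha⟩ | ⟨a, ha⟩
      · have ha' : a < T.l := by rwa [← g.rank_eq]
        simp [Chev.Tab.bas, Chev.Tab.code, g.reflectRoot_eq hi hs',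
          show a ≠ T.l + T.ref i s by omega]
      · by_cases e : a = T.ref i s <;>
          simp [Chev.Tab.bas, Chev.Tab.code, g.reflectRoot_eq hi hs', e]

end Cfsg.Agent.S1095
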