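import Cfsg.Statements.S1098
import Cfsg.Agent.Lib.Lie.ChevIsog
-- import your own Cfsg.Agent.* helpers here

set_option autoImplicit false
open Cfsg

namespace Cfsg.Agent.S1098

/-- Graph automorphisms in characteristic 2 (K perfect): for B₂ (a short, b long) `x_a(t) ↦ x_b(t²)`, `x_b(t) ↦ x_a(t)`, and for F₄ (p₁, p₂ short, p₃, p₄ long) `x_{p₁}(t) ↦ x_{p₄}(t²)`, `x_{p₂}(t) ↦ x_{p₃}(t²)`, `x_{p₃}(t) ↦ x_{p₂}(t)`, `x_{p₄}(t) ↦ x_{p₁}(t)`, likewise on the negatives, extend to an automorphism of the group. -/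
theorem result {K : Type*} [Field K] [CharP K 2] (hperf : ∀ x : K, ∃ y : K, y ^ 2 = x)
    (p : Cfsg.Lie.ChevalleyDatum × List (ℕ × ℕ))
    (hp : p ∈ [(Cfsg.Lie.chevB2, [(1, 2), (0, 1)]), (Cfsg.Lie.chevF4, [(3, 2), (2, 2), (1, 1), (0, 1)])]) :
    ∃ α : ↥(p.1.group K) ≃* ↥(p.1.group K), ∀ (g : ↥(p.1.group K)) (i : ℕ) (t : K), i < p.1.rank →
      (((g : GL p.1.Idx K) : Matrix p.1.Idx p.1.Idx K) = p.1.x K (p.1.simple i) t →
        ((α g : GL p.1.Idx K) : Matrix p.1.Idx p.1.Idx K) = p.1.x K (p.1.simple (p.2.getD i (0, 1)).1) (t ^ (p.2.getD i (0, 1)).2)) ∧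
      (((g : GL p.1.Idx K) : Matrix p.1.Idx p.1.Idx K) = p.1.x K (p.1.neg (p.1.simple i)) t →
        ((α g : GL p.1.Idx K) : Matrix p.1.Idx p.1.Idx K) = p.1.x K (p.1.neg (p.1.simple (p.2.getD i (0, 1)).1)) (t ^ (p.2.getD i (0, 1)).2)) := by
  simp only [List.mem_cons, List.not_mem_nil, or_false] at hp
  haveI : Fact (Nat.Prime 2) := ⟨Nat.prime_two⟩
  rcases hp with rfl | rfl
  · haveI : CharP K Chev.B2Data.isog.p := inferInstanceAs (CharP K 2)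
    haveI : ExpChar K Chev.B2Data.isog.p := ExpChar.prime Nat.prime_two
    obtain ⟨K', W', g⟩ : ∃ K' W', Chev.B2Data.tab.GoodW K' W' :=
      ⟨[[2, 2], [1, 2]], [(1, 7, 0), (0, 6, 1)],
        ⟨⟨⟨Chev.B2Data.good, by decide +kernel⟩, by decide +kernel⟩, by decide +kernel⟩⟩
    obtain ⟨α, hα⟩ := Chev.Tab.exists_isog (F := K) g Chev.B2Data.isog_ok hperf
    refine ⟨α, fun x i t hi => ?_⟩
    have hb : i < 2 := lt_of_lt_of_eq hi g.toGood.rank_eq
    have e : ([(1, 2), (0, 1)] : List (ℕ × ℕ)).getD i (0, 1) =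
        (Chev.B2Data.isog.ρ.getD i 0, Chev.B2Data.isog.ν.getD i 0) := by
      interval_cases i <;> rfl
    dsimp only
    rw [e]
    exact hα x i t hi
  · haveI : CharP K Chev.F4Data.isog.p := inferInstanceAs (CharP K 2)
    haveI : ExpChar K Chev.F4Data.isog.p := ExpChar.prime Nat.prime_two
    obtain ⟨K', W', g⟩ : ∃ K' W', Chev.F4Data.tab.GoodW K' W' :=
      ⟨[[2, 3, 4, 2], [3, 6, 8, 4], [2, 4, 6, 3], [1, 2, 3, 2]],
        [(7, 44, 0), (3, 45, 0), (0, 39, 1), (1, 47, 0)],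
        ⟨⟨⟨Chev.F4Data.good, by decide +kernel⟩, by decide +kernel⟩, by decide +kernel⟩⟩
    obtain ⟨α, hα⟩ := Chev.Tab.exists_isog (F := K) g Chev.F4Data.isog_ok hperf
    refine ⟨α, fun x i t hi => ?_⟩
    have hb : i < 4 := lt_of_lt_of_eq hi g.toGood.rank_eq
    have e : ([(3, 2), (2, 2), (1, 1), (0, 1)] : List (ℕ × ℕ)).getD i (0, 1) =
        (Chev.F4Data.isog.ρ.getD i 0, Chev.F4Data.isog.ν.getD i 0) := by
      interval_cases i <;> rfl
    dsimp only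
    rw [e]
    exact hα x i t hi

end Cfsg.Agent.S1098
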