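import Cfsg.Statements.S1100
import Cfsg.Agent.Lib.Lie.ChevBruhat
-- import your own Cfsg.Agent.* helpers here

set_option autoImplicit false
open Cfsg

namespace Cfsg.Agent.S1100

/-- Canonical form `g = b n_w u` (`b ∈ B`, `u ∈ U_w⁻ = ⟨X_r : r > 0, n_w X_r n_w⁻¹ ≤ V⟩`): such a decomposition exists for every element of the group; the coset `n_w H` is determined by `g`; and for a fixed representative `n_w` the factors `b`, `u` are unique. -/
theorem result {F : Type*} [Field F] (D : Cfsg.Lie.ChevalleyDatum) (hD : D ∈ [Cfsg.Lie.chevG2, Cfsg.Lie.chevB2, Cfsg.Lie.chevD4, Cfsg.Lie.chevF4, Cfsg.Lie.chevE6, Cfsg.Lie.chevE7, Cfsg.Lie.chevE8]) :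
    (∀ g ∈ D.group F, ∃ b ∈ D.borelSubgroup F, ∃ n ∈ D.monomialSubgroup F,
      ∃ u ∈ Subgroup.closure {x : GL D.Idx F | ∃ (r : ℕ) (t : F), D.IsPosRoot r ∧
            (D.rootSubgroup F r).map (MulAut.conj n).toMonoidHom ≤ D.negUnipotent F ∧ (x : Matrix D.Idx D.Idx F) = D.x F r t},
        g = b * n * u) ∧
    (∀ (b b' n n' u u' : GL D.Idx F), b ∈ D.borelSubgroup F → b' ∈ D.borelSubgroup F →
      n ∈ D.monomialSubgroup F → n' ∈ D.monomialSubgroup F →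
      u ∈ Subgroup.closure {x : GL D.Idx F | ∃ (r : ℕ) (t : F), D.IsPosRoot r ∧
            (D.rootSubgroup F r).map (MulAut.conj n).toMonoidHom ≤ D.negUnipotent F ∧ (x : Matrix D.Idx D.Idx F) = D.x F r t} →
      u' ∈ Subgroup.closure {x : GL D.Idx F | ∃ (r : ℕ) (t : F), D.IsPosRoot r ∧
            (D.rootSubgroup F r).map (MulAut.conj n').toMonoidHom ≤ D.negUnipotent F ∧ (x : Matrix D.Idx D.Idx F) = D.x F r t} →
      b * n * u = b' * n' * u' → n⁻¹ * n' ∈ D.diagonalSubgroup F ∧ (n = n' → b = b' ∧ u = u')) := by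
  obtain ⟨T, g, rfl⟩ := Chev.exists_goodA hD
  have hg := g.toGood
  have key : ∀ (n : GL T.D.Idx F) (L : List ℕ), T.Wd L →
      (∃ c, n = Chev.Tab.tor T F c * Chev.Tab.nWd hg F L) →
      Subgroup.closure {x : GL T.D.Idx F | ∃ (r : ℕ) (t : F), T.D.IsPosRoot r ∧
        (T.D.rootSubgroup F r).map (MulAut.conj n).toMonoidHom ≤ T.D.negUnipotent F ∧
        (x : Matrix T.D.Idx T.D.Idx F) = T.D.x F r t} = Chev.Tab.uMinus hg F L := by
    rintro n L hL ⟨c, rfl⟩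
    refine le_antisymm ((Subgroup.closure_le _).2 ?_) (Chev.Tab.genS_le hg ?_)
    · rintro x ⟨r, t, hr, hmap, hx⟩
      rw [hg.isPosRoot_iff] at hr
      rw [Chev.Tab.eq_xg hg hx]
      refine Chev.Tab.xg_mem_genS hg (S := {r | T.N ≤ r ∧ r < T.n ∧ T.rw' L r < T.N}) (r := r) ⟨hr.1, hr.2, ?_⟩ t
      by_contra hc
      obtain ⟨v, hv⟩ := Chev.Tab.mono_conj (F := F) hg hL c hr.2
      have hmem := hmap (Subgroup.mem_map_of_mem _ ((Chev.Tab.mem_rootSubgroup_iff hg).2 ⟨1, rfl⟩))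
      rw [MulEquiv.coe_toMonoidHom, MulAut.conj_apply, hv, Chev.Tab.negUnipotent_eq hg] at hmem
      have hq := Chev.Tab.rw'_lt hg hL hr.2
      have h1 := Chev.Tab.borel_inf_neg hg (Chev.Tab.pos_le_borel hg (not_lt.1 hc) hq _) hmem
      rw [← Chev.Tab.xg_zero hg (T.rw' L r)] at h1
      exact Units.ne_zero v (by simpa using Chev.Tab.xg_injective hg hq h1)
    · rintro r ⟨h1, h2, h3⟩ t
      refine Subgroup.subset_closure ⟨r, t, (hg.isPosRoot_iff r).2 ⟨h1, h2⟩, ?_, rfl⟩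
      rintro _ ⟨y, hy, rfl⟩
      obtain ⟨a, rfl⟩ := (Chev.Tab.mem_rootSubgroup_iff hg).1 hy
      obtain ⟨v, hv⟩ := Chev.Tab.mono_conj (F := F) hg hL c h2
      rw [MulEquiv.coe_toMonoidHom, MulAut.conj_apply, hv, Chev.Tab.negUnipotent_eq hg]
      exact Chev.Tab.xg_mem_genS hg (S := Set.Iio T.N) (r := T.rw' L r) h3 _
  refine ⟨fun x hx => ?_, ?_⟩
  · obtain ⟨b, hb, n, hn, L, hL, hc, u, hu, e⟩ := Chev.Tab.bruhat_exists g hx
    exact ⟨b, hb, n, hn, u, by rw [key n L hL hc]; exact hu, e⟩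
  · intro b b' n n' u u' hb hb' hn hn' hu hu' h
    obtain ⟨L, hL, c, hc⟩ := (Chev.Tab.mem_monomial_iff hg).1 hn
    obtain ⟨L', hL', c', hc'⟩ := (Chev.Tab.mem_monomial_iff hg).1 hn'
    rw [key n L hL ⟨c, hc⟩] at hu
    rw [key n' L' hL' ⟨c', hc'⟩] at hu'
    refine ⟨(Chev.Tab.bruhat_unique g hb hb' hn hn' hL hc hu hu' h).1, fun he => ?_⟩
    have e : Chev.Tab.uMinus hg F L' = Chev.Tab.uMinus hg F L :=
      Chev.Tab.uMinus_congr hg fun s hs => Chev.Tab.rw'_of_nWd_eq hg hL' hL (c := c') (d := c)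
        (by rw [← hc', ← hc, he]) hs
    exact (Chev.Tab.bruhat_unique g hb hb' hn hn' hL hc hu (e ▸ hu') h).2 he rfl

end Cfsg.Agent.S1100
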