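import Cfsg.Statements.S1167
import Cfsg.Agent.Lib.ZassAbelian.EvenSimple

set_option autoImplicit false
open Cfsg

namespace Cfsg.Agent.S1167

/-- Let `G` be a finite simple Zassenhaus group on `Ω`, `U` a normal subgroup of `G_a` regular on `Ω` minus `a` which is an abelian 2-group, and `v` an involution with `v • a ≠ a`. Then there is a unique `u₀ ∈ U`, `u₀ ≠ 1`, with `v u₀ v = u₀ v u₀`. -/
theorem result {G Ω : Type*} [Group G] [Finite G] [MulAction G Ω] [Finite Ω]
    (hZ : Cfsg.IsZassenhausGroup G Ω) [IsSimpleGroup G] {a : Ω}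
    (U : Subgroup G) (hUle : U ≤ MulAction.stabilizer G a)
    (hUn : ∀ h ∈ MulAction.stabilizer G a, ∀ u ∈ U, h * u * h⁻¹ ∈ U)
    (hreg : ∀ c d : Ω, c ≠ a → d ≠ a → ∃! u : U, (u : G) • c = d)
    (hU2 : IsPGroup 2 U) (hUab : ∀ u ∈ U, ∀ u' ∈ U, u * u' = u' * u)
    (v : G) (hv1 : v ≠ 1) (hv2 : v * v = 1) (hva : v • a ≠ a) :
    ∃! u₀ : G, u₀ ∈ U ∧ u₀ ≠ 1 ∧ v * u₀ * v = u₀ * v * u₀ := by
  classical
  haveI := Fintype.ofFinite Ω
  haveI := Fintype.ofFinite G
  haveI : Fact (Nat.Prime 2) := ⟨Nat.prime_two⟩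
  set b := v • a with hb
  have hab : a ≠ b := fun h => hva h.symm
  have A : Cfsg.Agent.ZassAb.Ab a b U := ⟨hZ, hab, hUle, hUn, hUab, hreg⟩
  have he2 := A.two_pos
  have hh2 : 2 ≤ Nat.card U := by
    have := A.card_group
    by_contra hlt
    obtain ⟨g, hg1, p, q, hpq, hgp, hgq⟩ := hZ.2.2.2.1
    refine hg1 (hZ.1.eq_of_smul_eq_smul fun c => ?_)
    rw [one_smul]
    by_contra hne
    have hc3 := Finset.card_le_univ ({c, p, q} : Finset Ω)
    rw [Finset.card_insert_of_notMem (by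
      simp only [Finset.mem_insert, Finset.mem_singleton]
      rintro (rfl | rfl)
      exacts [hne hgp, hne hgq]), Finset.card_pair hpq, ← A.card_H] at hc3
    omega
  obtain ⟨m, hm⟩ := IsPGroup.iff_card.mp hU2
  have hUeven : 2 ∣ Nat.card U := hm ▸ dvd_pow_self 2 (fun h => by rw [h, pow_zero] at hm; omega)
  have heq : Nat.card (Cfsg.Agent.Zass.two (G := G) a b) = Nat.card U - 1 :=
    A.dichotomy.resolve_right fun h => by omega
  obtain ⟨h3t, -⟩ := A.sharply heq
  -- exponent two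
  obtain ⟨w, hw⟩ := exists_prime_orderOf_dvd_card' (G := U) 2 hUeven
  have hexp : ∀ u ∈ U, u * u = 1 := by
    intro u hu
    rcases eq_or_ne (⟨u, hu⟩ : U) 1 with h | h
    · rw [show u = 1 from congrArg Subtype.val h, one_mul]
    obtain ⟨k, -, hk⟩ := A.exists_conj heq (u := w) (v := ⟨u, hu⟩)
      (fun e => by rw [e, orderOf_one] at hw; omega) h
    obtain ⟨hw2, -⟩ := Cfsg.Agent.Zass.orderOf_two_iff.mp ((Subgroup.orderOf_coe w).trans hw)
    have hk' : k * (w : G) * k⁻¹ = u := hk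
    rw [← hk']
    show k * (w : G) * k⁻¹ * (k * (w : G) * k⁻¹) = 1
    rw [show k * (w : G) * k⁻¹ * (k * (w : G) * k⁻¹) = k * ((w : G) * w) * k⁻¹ by group, hw2]; group
  have hvb : v • b = a := by rw [hb, ← mul_smul, hv2, one_smul]
  -- the relation in terms of a fixed point of `v`
  have key : ∀ u ∈ U, u ≠ 1 → v * u * v = u * v * u → v • (u • b) = u • b := by
    intro u hu _ he
    have hua : u • a = a := hUle hu
    have h1 : (v * u * v) • a = (u * v * u) • a := by rw [he]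
    rw [mul_smul, mul_smul, mul_smul, mul_smul, hua, ← hb] at h1
    exact h1
  have huniq : ∀ c d : Ω, v • c = c → v • d = d → c = d := by
    intro c d hc hd
    by_contra hcd
    obtain ⟨g, g1, g2⟩ := Cfsg.Agent.Zass.move hZ hcd hab
    have hmem : g * v * g⁻¹ ∈ Cfsg.Agent.Zass.two (G := G) a b := Cfsg.Agent.Zass.mem_two.mpr
      ⟨by rw [← g1, mul_smul, mul_smul, inv_smul_smul, hc], by rw [← g2, mul_smul, mul_smul, inv_smul_smul, hd]⟩
    have ho : orderOf (g * v * g⁻¹) = 2 := Cfsg.Agent.Zass.orderOf_two_iff.mpr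
      ⟨by rw [show g * v * g⁻¹ * (g * v * g⁻¹) = g * (v * v) * g⁻¹ by group, hv2]; group,
        fun e => hv1 (conj_eq_one_iff.mp e)⟩
    have hdvd := Subgroup.orderOf_dvd_natCard _ hmem
    rw [ho, heq] at hdvd
    obtain ⟨i, hi⟩ := hdvd
    obtain ⟨j, hj⟩ := hUeven
    omega
  obtain ⟨c, hc⟩ : ∃ c : Ω, v • c = c := by
    refine Equiv.Perm.exists_fixed_point_of_prime (p := 2) (n := 1) (σ := MulAction.toPerm v) ?_ ?_
    · rw [← A.card_H]; omega
    · refine Equiv.ext fun x => ?_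
      rw [pow_one, pow_two, Equiv.Perm.mul_apply]
      show v • v • x = x
      rw [← mul_smul, hv2, one_smul]
  have hca : c ≠ a := fun e => hva (by rw [e, ← hb] at hc; exact hc)
  have hcb : c ≠ b := fun e => by
    rw [e, hvb] at hc
    exact hab hc
  obtain ⟨u, hu, huu⟩ := hreg b c hab.symm hca
  have hua : (u : G) • a = a := hUle u.2
  have hu2 := hexp _ u.2
  have huc : (u : G) • c = b := by rw [← hu, ← mul_smul, hu2, one_smul]
  refine ⟨u, ⟨u.2, fun e => hcb (by rw [← hu, e, one_smul]), ?_⟩, fun w hw => ?_⟩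
  · have h3 : v * u * v * u * v * u = 1 :=
      Cfsg.Agent.Zass.three hZ hab hcb.symm hca.symm
        (by simp only [mul_smul, hua, ← hb, hu, hc, huc, hvb])
        (by simp only [mul_smul, hu, hc, huc, hvb, hua, ← hb])
        (by simp only [mul_smul, huc, hvb, hua, ← hb, hu, hc])
    calc v * (u : G) * v = (v * u * v * u * v * u) * ((u : G)⁻¹ * v⁻¹ * (u : G)⁻¹) := by group
      _ = u * v * u := by
        rw [h3, one_mul, inv_eq_of_mul_eq_one_right hu2, inv_eq_of_mul_eq_one_right hv2]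
  · obtain ⟨hwU, hw1, hweq⟩ := hw
    exact congrArg Subtype.val (huu ⟨w, hwU⟩ (huniq _ _ (key w hwU hw1 hweq) hc))

end Cfsg.Agent.S1167
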