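import Cfsg.Statements.S1176
import Cfsg.Agent.Lib.Involutions.Basic

set_option autoImplicit false
open Cfsg

namespace Cfsg.Agent.S1176

open scoped commutatorElement

/-- Let x₀ be an involution of the finite group G and D its conjugacy class. Assume (a) for each x ∈ D the subgroup W(x) generated by the members of D commuting with x is a 2-group of nilpotency class at most 2, and (b) the product of two distinct commuting members of D again lies in D. Then for all x, y ∈ D, if xy has even order greater than 2, its order is 4. -/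
theorem result {G : Type*} [Group G] [Finite G] (x₀ : G) (hx₀ : orderOf x₀ = 2) (ha : ∀ x : G, IsConj x₀ x → IsPGroup 2 ↥(Subgroup.closure {y : G | IsConj x₀ y ∧ Commute y x}) ∧ ⁅⁅Subgroup.closure {y : G | IsConj x₀ y ∧ Commute y x}, Subgroup.closure {y : G | IsConj x₀ y ∧ Commute y x}⁆, Subgroup.closure {y : G | IsConj x₀ y ∧ Commute y x}⁆ = ⊥) (hb : ∀ x y : G, IsConj x₀ x → IsConj x₀ y → x ≠ y → Commute x y → IsConj x₀ (x * y)) (x y : G) (hx : IsConj x₀ x) (hy : IsConj x₀ y) (heven : Even (orderOf (x * y))) (hgt : 2 < orderOf (x * y)) : orderOf (x * y) = 4 := by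
  open Cfsg.Agent.Invol in
  have ho : ∀ w : G, IsConj x₀ w → orderOf w = 2 := fun w hw => by
    obtain ⟨c, rfl⟩ := isConj_iff.mp hw
    rw [order_conj, hx₀]
  open Cfsg.Agent.Invol in
  have h0 : 0 < orderOf (x * y) := orderOf_pos _
  obtain ⟨hcx, hcy⟩ := Cfsg.Agent.Invol.half_commute (ho x hx) (ho y hy) heven
  obtain ⟨hc, hne⟩ := Cfsg.Agent.Invol.mul_half_spec (ho x hx) (ho y hy) heven h0
  set u := (x * y) ^ (orderOf (x * y) / 2) with hu
  have hxu : IsConj x₀ (x * u) := by
    by_cases h4 : 4 ∣ orderOf (x * y)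
    · obtain ⟨d, -, hd⟩ := Cfsg.Agent.Invol.conj_mul_half_of_four_dvd (ho x hx) (ho y hy) h4
      exact hx.trans (isConj_iff.mpr ⟨d, hd⟩)
    · obtain ⟨d, -, hd⟩ := Cfsg.Agent.Invol.conj_y_mul_half (ho x hx) (ho y hy) heven h4
      exact hy.trans (isConj_iff.mpr ⟨d, hd⟩)
  have huD : IsConj x₀ u := by
    have h := hb x (x * u) hx hxu hne.symm hc
    rwa [← mul_assoc, Cfsg.Agent.Invol.mul_self (ho x hx), one_mul] at h
  obtain ⟨hW2, hW3⟩ := ha u huD
  set W := Subgroup.closure {w : G | IsConj x₀ w ∧ Commute w u}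
  have hxW : x ∈ W := Subgroup.subset_closure ⟨hx, hcx.symm⟩
  have hyW : y ∈ W := Subgroup.subset_closure ⟨hy, hcy.symm⟩
  have h1 : ⁅⁅x, y⁆, x⁆ = 1 := by
    rw [← Subgroup.mem_bot, ← hW3]
    exact Subgroup.commutator_mem_commutator (Subgroup.commutator_mem_commutator hxW hyW) hxW
  have hinv := Cfsg.Agent.Invol.conj_mul (ho x hx) (ho y hy)
  have hxy : ⁅x, y⁆ = (x * y) ^ 2 := by
    rw [commutatorElement_def, Cfsg.Agent.Invol.inv_self (ho x hx),
      Cfsg.Agent.Invol.inv_self (ho y hy), pow_two]; group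
  have h4 : (x * y) ^ 4 = 1 := by
    have h2 := Cfsg.Agent.Invol.conj_pow hinv 2
    rw [hxy, commutatorElement_def] at h1
    calc (x * y) ^ 4 = (x * y) ^ 2 * ((x * y) ^ 2) := by rw [← pow_add]
      _ = (x * y) ^ 2 * (x * ((x * y) ^ 2) * x⁻¹)⁻¹ := by rw [h2, inv_inv]
      _ = 1 := by rw [← h1]; group
  have hd := orderOf_dvd_of_pow_eq_one h4
  have hle := Nat.le_of_dvd (by norm_num) hd
  interval_cases hn : orderOf (x * y) <;> first | rfl | omega

end Cfsg.Agent.S1176
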