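import Cfsg.Statements.S1177
import Cfsg.Agent.Lib.Involutions.Basic

set_option autoImplicit false
open Cfsg

namespace Cfsg.Agent.S1177

/-- Let A be a nontrivial elementary abelian 2-subgroup of a finite group G which is a T.I. set (each conjugate of A meets A trivially or equals A) and which does not commute elementwise with any conjugate of A other than A itself. Then for every a ∈ A, a ≠ 1, every conjugate of A contained in C_G(a) is equal to A (A is weakly closed in C_G(a)). -/
theorem result {G : Type*} [Group G] [Finite G] (A : Subgroup G) (hA : Cfsg.IsElementaryAbelian 2 A) (hA1 : A ≠ ⊥) (hTI : ∀ g : G, A.map (MulAut.conj g).toMonoidHom ⊓ A = ⊥ ∨ A.map (MulAut.conj g).toMonoidHom = A) (hb : ∀ g : G, (∀ a ∈ A, ∀ b ∈ A.map (MulAut.conj g).toMonoidHom, a * b = b * a) → A.map (MulAut.conj g).toMonoidHom = A) (a : G) (ha : a ∈ A) (ha1 : a ≠ 1) (g : G) (hg : A.map (MulAut.conj g).toMonoidHom ≤ Subgroup.centralizer ({a} : Set G)) : A.map (MulAut.conj g).toMonoidHom = A :=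 by
  set B := A.map (MulAut.conj g).toMonoidHom with hB
  by_contra hne
  have hBA : ∀ b ∈ B, ∀ x ∈ A, b * x * b⁻¹ ∈ A := by
    intro b hb x hx
    have hca : b * a = a * b := Subgroup.mem_centralizer_singleton_iff.mp (hg hb)
    have h := hTI b
    rcases h with h | h
    · exfalso
      apply ha1
      rw [← Subgroup.mem_bot, ← h]
      exact ⟨⟨a, ha, by simp [hca]⟩, ha⟩
    · rw [← h]; exact ⟨x, hx, by simp⟩
  have hdisj : ∀ y, y ∈ B → y ∈ A → y = 1 := by
    intro y hyB hyA
    rcases hTI g with h | h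
    · exact Subgroup.mem_bot.mp (h ▸ (Subgroup.mem_inf.mpr ⟨hyB, hyA⟩))
    · exact absurd h hne
  -- some element of A does not centralize B
  obtain ⟨x, hxA, b₀, hb₀, hxb⟩ : ∃ x ∈ A, ∃ b ∈ B, x * b ≠ b * x := by
    by_contra h
    push Not at h
    exact hne (hb g h)
  have hx1 : x ≠ 1 := by rintro rfl; simp at hxb
  have hBcomm : ∀ u ∈ B, ∀ v ∈ B, u * v = v * u := by
    rintro _ ⟨u, hu, rfl⟩ _ ⟨v, hv, rfl⟩
    rw [← map_mul, ← map_mul, show u * v = v * u from congrArg Subtype.val (hA.1.is_comm.comm ⟨u, hu⟩ ⟨v, hv⟩)]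
  -- an element of B commuting with x is trivial
  have hfix : ∀ c ∈ B, c * x = x * c → c = 1 := by
    intro c hc hcx
    by_contra hc1
    have hBx : B.map (MulAut.conj x).toMonoidHom = B := by
      have hcB : c ∈ B.map (MulAut.conj x).toMonoidHom := ⟨c, hc, by simp [← hcx]⟩
      rcases hTI (g⁻¹ * x * g) with h | h
      · exfalso
        obtain ⟨c₀, hc₀, rfl⟩ := hc
        simp only [MulEquiv.coe_toMonoidHom, MulAut.conj_apply] at hcx hc1
        apply hc1
        have h1 : c₀ ∈ A.map (MulAut.conj (g⁻¹ * x * g)).toMonoidHom := by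
          refine ⟨c₀, hc₀, ?_⟩
          simp only [MulEquiv.coe_toMonoidHom, MulAut.conj_apply]
          calc g⁻¹ * x * g * c₀ * (g⁻¹ * x * g)⁻¹ = g⁻¹ * (x * (g * c₀ * g⁻¹)) * x⁻¹ * g := by group
            _ = g⁻¹ * (g * c₀ * g⁻¹ * x) * x⁻¹ * g := by rw [← hcx]
            _ = c₀ := by group
        have : c₀ ∈ (⊥ : Subgroup G) := h ▸ (Subgroup.mem_inf.mpr ⟨h1, hc₀⟩)
        rw [Subgroup.mem_bot.mp this]; group
      · rw [hB, Subgroup.map_map]
        conv_rhs => rw [← h, Subgroup.map_map]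
        congr 1
        ext y; simp [mul_assoc]
    have hm : x * b₀ * x⁻¹ * b₀⁻¹ ∈ B := by
      refine mul_mem ?_ (inv_mem hb₀)
      rw [← hBx]; exact ⟨b₀, hb₀, by simp⟩
    have hm' : x * b₀ * x⁻¹ * b₀⁻¹ ∈ A := by
      rw [show x * b₀ * x⁻¹ * b₀⁻¹ = x * (b₀ * x⁻¹ * b₀⁻¹) by group]
      exact mul_mem hxA (hBA b₀ hb₀ _ (inv_mem hxA))
    exact hxb (mul_inv_eq_iff_eq_mul.mp (mul_inv_eq_one.mp (hdisj _ hm hm')))
  -- conjugation of x is an injective map of B into the nontrivial elements of A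
  let F : B → {y : A // y ≠ 1} := fun b => ⟨⟨(b : G) * x * (b : G)⁻¹, hBA _ b.2 x hxA⟩, fun h =>
    hx1 (by have := congrArg Subtype.val h; simpa using this)⟩
  have hF : Function.Injective F := by
    intro b c h
    have h' : (b : G) * x * (b : G)⁻¹ = (c : G) * x * (c : G)⁻¹ :=
      congrArg Subtype.val (congrArg Subtype.val h)
    have := hfix ((c : G)⁻¹ * b) (mul_mem (inv_mem c.2) b.2) (by
      calc (c : G)⁻¹ * b * x = (c : G)⁻¹ * ((b : G) * x * (b : G)⁻¹) * b := by group
        _ = (c : G)⁻¹ * ((c : G) * x * (c : G)⁻¹) * b := by rw [h']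
        _ = x * ((c : G)⁻¹ * b) := by group)
    exact Subtype.ext (inv_mul_eq_one.mp this).symm
  have hle := Nat.card_le_card_of_injective F hF
  have hBcard : Nat.card B = Nat.card A :=
    (Nat.card_congr (A.equivMapOfInjective _ (MulAut.conj g).injective).toEquiv).symm
  have := Fintype.ofFinite A
  classical
  rw [hBcard, Nat.card_eq_fintype_card, Nat.card_eq_fintype_card, Fintype.card_subtype_compl,
    Fintype.card_subtype_eq] at hle
  have := Fintype.card_pos (α := A)
  omega

end Cfsg.Agent.S1177
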