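import Cfsg.Statements.S1178
import Cfsg.Agent.Lib.Small.Burnside

set_option autoImplicit false
open Cfsg

namespace Cfsg.Agent.S1178

theorem weakly_eq {G : Type*} [Group G] [Finite G] {p : ℕ} [Fact p.Prime] (S : Sylow p G) (A : Subgroup G)
    (hW : Cfsg.IsWeaklyClosed A (S : Subgroup G)) (Q : Sylow p G) (hAQ : A ≤ Q) (g : G)
    (hg : A.map (MulAut.conj g).toMonoidHom ≤ Q) : A.map (MulAut.conj g).toMonoidHom = A := by
  obtain ⟨c, rfl⟩ := MulAction.exists_smul_eq G S Q
  have mem : ∀ x : G, x ∈ ((c • S : Sylow p G) : Subgroup G) → c⁻¹ * x * c ∈ (S : Subgroup G) := by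
    intro x hx
    rw [Sylow.smul_def, Sylow.pointwise_smul_def, Subgroup.mem_pointwise_smul_iff_inv_smul_mem,
      ← map_inv, MulAut.smul_def, MulAut.conj_apply, inv_inv] at hx
    exact hx
  have e1 := hW.2 c⁻¹ (by rintro _ ⟨x, hx, rfl⟩; simpa using mem x (hAQ hx))
  have e2 := hW.2 (c⁻¹ * g) (by
    rintro _ ⟨x, hx, rfl⟩
    simpa [mul_assoc] using mem _ (hg ⟨x, hx, rfl⟩))
  have hinj := Subgroup.map_injective (f := (MulAut.conj c⁻¹).toMonoidHom) (MulAut.conj c⁻¹).injective
  apply hinj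
  rw [Subgroup.map_map, e1]
  convert e2 using 2
  ext x; simp

/-- Let A be a subgroup of a Sylow 2-subgroup S of the finite group G which is weakly closed in S. If a conjugate g A g⁻¹ commutes elementwise with A, then g A g⁻¹ = A. -/
theorem result {G : Type*} [Group G] [Finite G] (S : Sylow 2 G) (A : Subgroup G) (hW : Cfsg.IsWeaklyClosed A (S : Subgroup G)) (g : G) (hc : ∀ a ∈ A, ∀ b ∈ A.map (MulAut.conj g).toMonoidHom, a * b = b * a) : A.map (MulAut.conj g).toMonoidHom = A := by
  set B := A.map (MulAut.conj g).toMonoidHom with hB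
  have hAp : IsPGroup 2 A := S.2.to_le hW.1
  have hnorm : B ≤ Subgroup.normalizer (A : Set G) := by
    intro b hb
    rw [Subgroup.mem_normalizer_iff]
    intro x
    constructor
    · intro hx
      rw [← hc x hx b hb, mul_inv_cancel_right]; exact hx
    · intro hx
      have h := hc _ hx b hb
      have e : b * (b * x * b⁻¹) * b⁻¹ = b * x * b⁻¹ := by rw [← h, mul_inv_cancel_right]
      have : b * x * b⁻¹ = x := mul_left_cancel (a := b) (mul_right_cancel e)
      rwa [this] at hx
  obtain ⟨Q, hQ⟩ := ((hAp.map _).to_sup_of_normal_right' hAp hnorm : IsPGroup 2 ↥(B ⊔ A)).exists_le_sylow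
  exact weakly_eq S A hW Q (le_sup_right.trans hQ) g (le_sup_left.trans hQ)

end Cfsg.Agent.S1178
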