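import Cfsg.Statements.S1181
import Cfsg.Agent.Lib.Involutions.Isolated
import Mathlib.GroupTheory.QuotientGroup.Basic

set_option autoImplicit false
open Cfsg

namespace Cfsg.Agent.S1181

/-- Let z be an isolated involution of the finite group G and N a normal subgroup with z ∉ N. Then the centralizer of zN in G/N is the image of C_G(z), and zN is an isolated involution of G/N. -/
theorem result {G : Type*} [Group G] [Finite G] (z : G) (hz : Cfsg.IsIsolatedInvolution z) (N : Subgroup G) [N.Normal] (hzN : z ∉ N) : Subgroup.centralizer ({(QuotientGroup.mk z : G ⧸ N)} : Set (G ⧸ N)) = (Subgroup.centralizer ({z} : Set G)).map (QuotientGroup.mk' N) ∧ Cfsg.IsIsolatedInvolution (QuotientGroup.mk z : G ⧸ N) := by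
  constructor
  · refine le_antisymm ?_ ?_
    · intro y hy
      induction y using QuotientGroup.induction_on with
      | _ g =>
        have hc := Subgroup.mem_centralizer_singleton_iff.mp hy
        set u := g * z * g⁻¹ with hu
        have hv : orderOf u = 2 := by rw [hu, Invol.order_conj, hz.1]
        obtain ⟨m, hm⟩ : Odd (orderOf (z * u)) := Invol.iso_conj_odd hz g
        have hN : z * u ∈ N := by
          rw [← QuotientGroup.eq_one_iff, hu, QuotientGroup.mk_mul, QuotientGroup.mk_mul,
            QuotientGroup.mk_mul, hc, QuotientGroup.mk_inv, mul_inv_cancel_right,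
            ← QuotientGroup.mk_mul, Invol.mul_self hz.1, QuotientGroup.mk_one]
        have he : (z * u) ^ (m : ℤ) * z * ((z * u) ^ (m : ℤ))⁻¹ = u := by
          rw [Invol.zpow_mul_conj (Invol.conj_mul hz.1 hv)]
          conv_rhs => rw [Invol.y_eq hz.1 hv]
          congr 1
          have h1 : (z * u) ^ (2 * (m : ℤ) + 1) = 1 := by
            have := pow_orderOf_eq_one (z * u)
            rw [hm, ← zpow_natCast] at this
            push_cast at this; exact this
          rw [zpow_add, zpow_one] at h1
          rw [zpow_neg_one]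
          exact mul_eq_one_iff_eq_inv.mp h1
        refine ⟨((z * u) ^ (m : ℤ))⁻¹ * g, Subgroup.mem_centralizer_singleton_iff.mpr ?_, ?_⟩
        · calc ((z * u) ^ (m : ℤ))⁻¹ * g * z = ((z * u) ^ (m : ℤ))⁻¹ * u * g := by rw [hu]; group
            _ = ((z * u) ^ (m : ℤ))⁻¹ * ((z * u) ^ (m : ℤ) * z * ((z * u) ^ (m : ℤ))⁻¹) * g := by rw [he]
            _ = z * (((z * u) ^ (m : ℤ))⁻¹ * g) := by group
        · rw [map_mul]
          have : QuotientGroup.mk' N (((z * u) ^ (m : ℤ))⁻¹) = 1 := by
            rw [QuotientGroup.mk'_apply, QuotientGroup.eq_one_iff]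
            exact inv_mem (zpow_mem hN _)
          rw [this, one_mul]; rfl
    · rintro _ ⟨g, hg, rfl⟩
      rw [Subgroup.mem_centralizer_singleton_iff]
      show (g : G ⧸ N) * (z : G ⧸ N) = (z : G ⧸ N) * (g : G ⧸ N)
      rw [← QuotientGroup.mk_mul, ← QuotientGroup.mk_mul, Subgroup.mem_centralizer_singleton_iff.mp hg]
  · have hzo : orderOf (z : G ⧸ N) = 2 := by
      refine Invol.order_two_of_sq ?_ ?_
      · rw [← QuotientGroup.mk_mul, Invol.mul_self hz.1, QuotientGroup.mk_one]
      · rwa [Ne, QuotientGroup.eq_one_iff]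
    refine ⟨hzo, fun y hy => ?_⟩
    induction y using QuotientGroup.induction_on with
    | _ g =>
      have h1 : (z : G ⧸ N) * ((g : G ⧸ N) * (z : G ⧸ N) * (g : G ⧸ N)⁻¹) = 1 := by
        refine Invol.eq_one_of_sq_of_odd ?_ ?_
        · refine (Invol.iso_conj_odd hz g).of_dvd_nat ?_
          have := orderOf_map_dvd (QuotientGroup.mk' N) (z * (g * z * g⁻¹))
          simpa using this
        · rw [hy.mul_pow, pow_two, pow_two, Invol.mul_self hzo, one_mul,
            Invol.mul_self (by rw [Invol.order_conj, hzo])]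
      rw [eq_inv_of_mul_eq_one_right h1, Invol.inv_self hzo]

end Cfsg.Agent.S1181
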