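import Cfsg.Statements.S1182
import Cfsg.Agent.Lib.Involutions.Isolated

set_option autoImplicit false
open Cfsg

namespace Cfsg.Agent.S1182

/-- Let z be an isolated involution of the finite group G and H a subgroup normalized by z. If x, y ∈ H both commute with z and y = h x h⁻¹ for some h ∈ H, then y = c x c⁻¹ for some c ∈ H commuting with z. -/
theorem result {G : Type*} [Group G] [Finite G] (z : G) (hz : Cfsg.IsIsolatedInvolution z) (H : Subgroup G) (hzH : z ∈ Subgroup.normalizer (H : Set G)) (x y : G) (hx : x ∈ H) (hy : y ∈ H) (hxz : Commute x z) (hyz : Commute y z) (h : G) (hh : h ∈ H) (hconj : h * x * h⁻¹ = y) : ∃ c ∈ H, Commute c z ∧ c * x * c⁻¹ = y := by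
  set u := h⁻¹ * z * h with hu
  have hu' : u = h⁻¹ * z * h⁻¹⁻¹ := by rw [hu, inv_inv]
  have huo : orderOf u = 2 := by rw [hu', Invol.order_conj, hz.1]
  have hodd : Odd (orderOf (z * u)) := hu' ▸ Invol.iso_conj_odd hz h⁻¹
  obtain ⟨m, hm⟩ := hodd
  have hux : Commute u x := by
    have : Commute z y := hyz.symm
    rw [← hconj] at this
    show u * x = x * u
    calc u * x = h⁻¹ * (z * (h * x * h⁻¹)) * h := by rw [hu]; group
      _ = h⁻¹ * (h * x * h⁻¹ * z) * h := by rw [this.eq]
      _ = x * u := by rw [hu]; group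
  have hkH : z * u ∈ H := by
    have h1 := (Subgroup.mem_normalizer_iff.mp hzH h⁻¹).mp (inv_mem hh)
    have : z * u = z * h⁻¹ * z⁻¹ * h := by rw [hu, Invol.inv_self hz.1]; group
    rw [this]; exact mul_mem h1 hh
  set d := (z * u) ^ (m : ℤ) with hd
  have hdx : Commute d x := ((Commute.mul_left hxz.symm hux)).zpow_left _
  have he : d * z * d⁻¹ = u := by
    rw [hd, Invol.zpow_mul_conj (Invol.conj_mul hz.1 huo)]
    conv_rhs => rw [Invol.y_eq hz.1 huo]
    congr 1
    have h1 : (z * u) ^ (2 * (m : ℤ) + 1) = 1 := by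
      have := pow_orderOf_eq_one (z * u)
      rw [hm, ← zpow_natCast] at this
      push_cast at this; exact this
    rw [zpow_add, zpow_one] at h1
    rw [zpow_neg_one]
    exact mul_eq_one_iff_eq_inv.mp h1
  refine ⟨h * d, mul_mem hh (zpow_mem hkH _), ?_, ?_⟩
  · show h * d * z = z * (h * d)
    calc h * d * z = h * (d * z * d⁻¹) * d := by group
      _ = h * u * d := by rw [he]
      _ = z * (h * d) := by rw [hu]; group
  · rw [mul_inv_rev, show h * d * x * (d⁻¹ * h⁻¹) = h * (d * x * d⁻¹) * h⁻¹ by group, hdx.eq,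
      mul_inv_cancel_right, hconj]

end Cfsg.Agent.S1182
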