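import Cfsg.Statements.S1183
import Cfsg.Agent.Lib.Involutions.IsolatedFusion
import Cfsg.Agent.Lib.Isolated.Basic
import Cfsg.Agent.Lib.Transfer.Fusion

set_option autoImplicit false
open Cfsg

namespace Cfsg.Agent.S1183

/-- Let z be an isolated involution of the finite group G and C = C_G(z). Then the subgroup of G generated by its elements of odd order is all of G if and only if the subgroup of C generated by its elements of odd order is all of C. -/
theorem result {G : Type*} [Group G] [Finite G] (z : G) (hz : Cfsg.IsIsolatedInvolution z) : Cfsg.pResidual 2 G = ⊤ ↔ Cfsg.pResidual 2 ↥(Subgroup.centralizer ({z} : Set G)) = ⊤ := by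
  haveI : Fact (Nat.Prime 2) := ⟨Nat.prime_two⟩
  set C := Subgroup.centralizer ({z} : Set G)
  constructor
  · intro htop
    obtain ⟨P, hP⟩ := (Cfsg.Agent.IsolatedP.isPGroup_zpowers (p := 2)
      ⟨1, by rw [hz.1, pow_one]⟩ : IsPGroup 2 ↥(Subgroup.zpowers z)).exists_le_sylow
    have hPC : (P : Subgroup G) ≤ C :=
      Cfsg.Agent.IsolatedP.le_centralizer (p := 2) hz.2 P.isPGroup' (hP (Subgroup.mem_zpowers z))
    have h := Cfsg.Agent.Fusion.inf_pResidual_eq_of_controlsFusion P C hPC
      fun x hx g hy => Cfsg.Agent.Invol.iso_controls_fusion hz (hPC hx) (hPC hy)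
    rw [htop, inf_top_eq] at h
    have h2 := inf_eq_left.mp h.symm
    have hle : ((P.subtype hPC : Sylow 2 C) : Subgroup C) ≤ Cfsg.pResidual 2 C := by
      intro x hx
      obtain ⟨w, hw, hwx⟩ := h2 (show (x : G) ∈ (P : Subgroup G) from hx)
      rwa [← Subtype.ext (hwx : (w : G) = x)]
    rw [← Cfsg.Agent.PBasic.sylow_sup_pResidual (P.subtype hPC : Sylow 2 C), sup_eq_right.mpr hle]
  · intro htop
    have hC : C ≤ Cfsg.pResidual 2 G := by
      have h := Cfsg.Agent.PBasic.map_pResidual_le (p := 2) C.subtype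
      rwa [htop, ← MonoidHom.range_eq_map, Subgroup.range_subtype] at h
    rw [eq_top_iff]
    intro g _
    obtain ⟨k, ⟨hk, -⟩, hgk⟩ := Cfsg.Agent.Invol.iso_decomp hz g
    have := mul_mem (Cfsg.Agent.PBasic.mem_pResidual (p := 2) hk.coprime_two_right) (inv_mem (hC hgk))
    simpa using this

end Cfsg.Agent.S1183
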