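import Cfsg.Statements.S1184
import Cfsg.Agent.Lib.Involutions.Isolated

set_option autoImplicit false
open Cfsg

namespace Cfsg.Agent.S1184

/-- Let z be an isolated involution of the finite group G. If s and t are distinct conjugates of z, then st does not commute with z. -/
theorem result {G : Type*} [Group G] [Finite G] (z : G) (hz : Cfsg.IsIsolatedInvolution z) (g h : G) (hne : g * z * g⁻¹ ≠ h * z * h⁻¹) : ¬ Commute (g * z * g⁻¹ * (h * z * h⁻¹)) z := by
  intro hc
  set s := g * z * g⁻¹ with hs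
  set t := h * z * h⁻¹ with ht
  have hso : orderOf s = 2 := by rw [hs, Invol.order_conj, hz.1]
  have hto : orderOf t = 2 := by rw [ht, Invol.order_conj, hz.1]
  have hodd : Odd (orderOf (s * t)) := Invol.iso_pair_odd hz g h
  have hne1 : s * t ≠ 1 := fun h1 =>
    hne ((mul_eq_one_iff_eq_inv.mp h1).trans (Invol.inv_self hto))
  obtain ⟨m, hm⟩ : Odd (orderOf (z * s)) := Invol.iso_conj_odd hz g
  set a := s * t with ha
  let K : Subgroup G := Subgroup.normalizer ((Subgroup.zpowers a : Subgroup G) : Set G)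
  obtain ⟨d, hd, he⟩ := Invol.conj_of_odd hz.1 hso ⟨m, hm⟩
  -- conjugation by d sends a to itself or its inverse
  have hdd : d * a * d⁻¹ = a ∨ d * a * d⁻¹ = a⁻¹ := by
    have hsinv : s * a * s⁻¹ = a⁻¹ := Invol.conj_mul hso hto
    have hzfix : z * a * z⁻¹ = a := by rw [← hc.eq, mul_inv_cancel_right]
    obtain ⟨k, hk⟩ := Invol.mem_closure_pair hz.1 hso hd
    have hstep : (z * s) * a * (z * s)⁻¹ = a⁻¹ := by
      rw [show z * s * a * (z * s)⁻¹ = z * (s * a * s⁻¹) * z⁻¹ by group, hsinv, ← _root_.conj_inv,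
        hzfix]
    have hiter : ∀ n : ℕ, (z * s) ^ n * a * ((z * s) ^ n)⁻¹ = a ∨
        (z * s) ^ n * a * ((z * s) ^ n)⁻¹ = a⁻¹ := by
      intro n
      induction n with
      | zero => left; simp
      | succ n ih =>
        rw [pow_succ', show z * s * (z * s) ^ n * a * (z * s * (z * s) ^ n)⁻¹ =
          (z * s) * ((z * s) ^ n * a * ((z * s) ^ n)⁻¹) * (z * s)⁻¹ by
            simp only [mul_inv_rev, mul_assoc]]
        rcases ih with ih | ih
        · rw [ih]; exact Or.inr hstep
        · rw [ih, ← _root_.conj_inv, hstep, inv_inv]; exact Or.inl rfl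
    have hall : ∀ k : ℤ, (z * s) ^ k * a * ((z * s) ^ k)⁻¹ = a ∨
        (z * s) ^ k * a * ((z * s) ^ k)⁻¹ = a⁻¹ := by
      intro k
      obtain ⟨n, hn⟩ := (mem_powers_iff_mem_zpowers (x := z * s)).mpr ⟨k, rfl⟩
      simp only at hn; rw [← hn]; exact hiter n
    rcases hk with rfl | rfl
    · exact hall k
    · rw [show (z * s) ^ k * z * a * ((z * s) ^ k * z)⁻¹ =
        (z * s) ^ k * (z * a * z⁻¹) * ((z * s) ^ k)⁻¹ by group, hzfix]
      exact hall k
  have hsa : Commute s a := by
    have hcz : Commute z a := hc.symm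
    have h1 : Commute (d * z * d⁻¹) (d * a * d⁻¹) := by
      show _ = _
      calc d * z * d⁻¹ * (d * a * d⁻¹) = d * (z * a) * d⁻¹ := by group
        _ = d * (a * z) * d⁻¹ := by rw [hcz.eq]
        _ = _ := by group
    rw [he] at h1
    rcases hdd with e | e <;> rw [e] at h1
    · exact h1
    · simpa using h1.inv_right
  have := Invol.conj_mul hso hto
  rw [← ha, hsa.eq, mul_inv_cancel_right] at this
  exact hne1 (Invol.eq_one_of_sq_of_odd hodd (by rw [pow_two]; exact mul_eq_one_iff_eq_inv.mpr this))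

end Cfsg.Agent.S1184
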