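import Cfsg.Statements.S1186
import Cfsg.Agent.Lib.Involutions.IsolatedFusion

set_option autoImplicit false
open Cfsg

namespace Cfsg.Agent.S1186

/-- Let z be an isolated involution of the finite group G, C = C_G(z), K the set of elements of odd order inverted by z, and s an involution of C. Then |G| = |C| · |C_K(sz)| · |C_K(s)|. -/
theorem result {G : Type*} [Group G] [Finite G] (z : G) (hz : Cfsg.IsIsolatedInvolution z) (s : G) (hs : orderOf s = 2) (hsz : Commute s z) : Nat.card G = Nat.card (Subgroup.centralizer ({z} : Set G)) * Nat.card {k : G // Odd (orderOf k) ∧ z * k * z⁻¹ = k⁻¹ ∧ Commute k (s * z)} * Nat.card {k : G // Odd (orderOf k) ∧ z * k * z⁻¹ = k⁻¹ ∧ Commute k s} := by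
  classical
  set C := Subgroup.centralizer ({z} : Set G) with hCdef
  have hzo := hz.1
  have hzs : Commute z s := hsz.symm
  have hcomm_of_sq : ∀ {k t : G}, Odd (orderOf k) → Commute (k ^ 2) t → Commute k t := by
    intro k t hk h
    obtain ⟨m, hm⟩ := hk
    have : (k ^ 2) ^ (m + 1) = k := by
      rw [← pow_mul, show 2 * (m + 1) = orderOf k + 1 by omega, pow_succ, pow_orderOf_eq_one, one_mul]
    rw [← this]; exact h.pow_left _
  have hsinv : s⁻¹ = s := Cfsg.Agent.Invol.inv_self hs
  have hzinv : z⁻¹ = z := Cfsg.Agent.Invol.inv_self hzo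
  -- characterization: `b` commutes with `s * z` iff conjugation by `z` and `s` agree on `b z b⁻¹`
  let Φ : {k : G // Odd (orderOf k) ∧ z * k * z⁻¹ = k⁻¹ ∧ Commute k s} ×
      {k : G // Odd (orderOf k) ∧ z * k * z⁻¹ = k⁻¹ ∧ Commute k (s * z)} → G ⧸ C :=
    fun p => QuotientGroup.mk (p.1.1 * p.2.1)
  have hkey : ∀ a b : G, Commute a s → z * b * z⁻¹ = b⁻¹ → Commute b (s * z) →
      a * z * a⁻¹ * (a * b * z * (a * b)⁻¹) * (a * z * a⁻¹) = s * (a * b * z * (a * b)⁻¹) * s := by
    intro a b ha hb hbs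
    have e1 : Commute (b * z * b⁻¹) (s * z) := by
      have e2 : z * (s * z) = (s * z) * z := (hzs.mul_right (Commute.refl z)).eq
      exact ((hbs.mul_left (show Commute z (s * z) from e2)).mul_left hbs.inv_left)
    have e3 : z * (b * z * b⁻¹) * z = s * (b * z * b⁻¹) * s := by
      calc z * (b * z * b⁻¹) * z = s⁻¹ * ((s * z) * (b * z * b⁻¹)) * z := by group
        _ = s⁻¹ * ((b * z * b⁻¹) * (s * z)) * z := by rw [e1.eq]
        _ = s * (b * z * b⁻¹) * s * (z * z) := by rw [hsinv]; group
        _ = _ := by rw [Cfsg.Agent.Invol.mul_self hzo, mul_one]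
    calc a * z * a⁻¹ * (a * b * z * (a * b)⁻¹) * (a * z * a⁻¹)
        = a * (z * (b * z * b⁻¹) * z) * a⁻¹ := by group
      _ = a * s * (b * z * b⁻¹) * (s * a⁻¹) := by rw [e3]; group
      _ = s * a * (b * z * b⁻¹) * (a⁻¹ * s) := by rw [ha.eq, ha.inv_left.eq]
      _ = _ := by group
  have hbij : Function.Bijective Φ := by
    constructor
    · rintro ⟨⟨a, haodd, hainv, has⟩, ⟨b, hbodd, hbinv, hbs⟩⟩
        ⟨⟨a', haodd', hainv', has'⟩, ⟨b', hbodd', hbinv', hbs'⟩⟩ h
      have hc : (a * b)⁻¹ * (a' * b') ∈ C := QuotientGroup.eq.mp h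
      have hc' := Subgroup.mem_centralizer_singleton_iff.mp hc
      have hx : a * b * z * (a * b)⁻¹ = a' * b' * z * (a' * b')⁻¹ := by
        calc a * b * z * (a * b)⁻¹
            = a * b * (z * ((a * b)⁻¹ * (a' * b'))) * (a' * b')⁻¹ := by group
          _ = a * b * ((a * b)⁻¹ * (a' * b') * z) * (a' * b')⁻¹ := by rw [hc']
          _ = _ := by group
      have hm := Cfsg.Agent.Invol.iso_midpoint_unique hz (a * b) a a'
        ((hkey a b has hbinv hbs).trans (by rw [hx, ← hkey a' b' has' hbinv' hbs']))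
      have haa : a = a' := by
        refine Cfsg.Agent.Invol.sqrt_unique haodd haodd' (mul_right_cancel (b := z) ?_)
        rwa [← Cfsg.Agent.Invol.inverted_conj hzo hainv, ← Cfsg.Agent.Invol.inverted_conj hzo hainv']
      subst haa
      have hbb : b = b' := by
        refine Cfsg.Agent.Invol.sqrt_unique hbodd hbodd' (mul_right_cancel (b := z) ?_)
        rw [← Cfsg.Agent.Invol.inverted_conj hzo hbinv, ← Cfsg.Agent.Invol.inverted_conj hzo hbinv']
        calc b * z * b⁻¹ = a⁻¹ * (a * b * z * (a * b)⁻¹) * a := by group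
          _ = b' * z * b'⁻¹ := by rw [hx]; group
      subst hbb
      rfl
    · intro q
      obtain ⟨g, rfl⟩ := QuotientGroup.mk_surjective q
      set x := g * z * g⁻¹ with hxdef
      have hxo : orderOf x = 2 := by rw [hxdef, Cfsg.Agent.Invol.order_conj, hzo]
      have hx'o : orderOf (s * x * s) = 2 := by
        nth_rewrite 2 [← hsinv]; rw [Cfsg.Agent.Invol.order_conj, hxo]
      have hodd : Odd (orderOf (x * (s * x * s))) := by
        have := Cfsg.Agent.Invol.iso_pair_odd hz g (s * g)
        rwa [show s * g * z * (s * g)⁻¹ = s * x * s by rw [hxdef, mul_inv_rev, hsinv]; group] at this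
      set w := x * (s * x * s) with hw
      obtain ⟨j, hj⟩ := Cfsg.Agent.Invol.exists_sqrt hodd
      set c := w ^ j with hcdef
      have hinvw : x * w * x⁻¹ = w⁻¹ := Cfsg.Agent.Invol.conj_mul hxo hx'o
      have hcx : x * c * x⁻¹ = c⁻¹ := Cfsg.Agent.Invol.conj_pow hinvw j
      have hsw : s * w * s⁻¹ = w⁻¹ := by
        rw [hw, hsinv, mul_inv_rev, Cfsg.Agent.Invol.inv_self hxo,
          Cfsg.Agent.Invol.inv_self hx'o]
        calc s * (x * (s * x * s)) * s = s * x * s * x * (s * s) := by group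
          _ = _ := by rw [Cfsg.Agent.Invol.mul_self hs, mul_one]
      have hsc : s * c * s⁻¹ = c⁻¹ := Cfsg.Agent.Invol.conj_pow hsw j
      -- `m = x c = h z h⁻¹`
      obtain ⟨l, hl⟩ := Cfsg.Agent.Invol.exists_sqrt (hodd.of_dvd_nat (orderOf_pow_dvd j) : Odd (orderOf c))
      set d := c ^ l with hd
      have hxd : x * d * x⁻¹ = d⁻¹ := Cfsg.Agent.Invol.conj_pow hcx l
      have hm : x * c = d⁻¹ * g * z * (d⁻¹ * g)⁻¹ := by
        calc x * c = x * d * x⁻¹ * (x * d) := by rw [← hl, pow_two]; group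
          _ = d⁻¹ * x * d := by rw [hxd]; group
          _ = _ := by rw [hxdef]; group
      set h := d⁻¹ * g
      obtain ⟨a, ⟨haodd, hainv⟩, hha⟩ := Cfsg.Agent.Invol.iso_decomp hz h
      have ham : a * z * a⁻¹ = x * c := by
        rw [hm]
        have e := Subgroup.mem_centralizer_singleton_iff.mp hha
        calc a * z * a⁻¹ = h * (h⁻¹ * a * z) * a⁻¹ := by group
          _ = h * (z * (h⁻¹ * a)) * a⁻¹ := by rw [e]
          _ = _ := by group
      have hsm : Commute s (x * c) := by
        show s * (x * c) = x * c * s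
        calc s * (x * c) = (s * x * s⁻¹) * (s * c * s⁻¹) * s := by group
          _ = x⁻¹ * w * c⁻¹ * s := by rw [hsc, hw, hsinv]; group
          _ = x⁻¹ * c * s := by rw [← hj, pow_two]; group
          _ = x * c * s := by rw [Cfsg.Agent.Invol.inv_self hxo]
      have has : Commute a s := by
        refine hcomm_of_sq haodd ?_
        have e : a ^ 2 = x * c * z := by
          rw [← ham, Cfsg.Agent.Invol.inverted_conj hzo hainv, mul_assoc,
            Cfsg.Agent.Invol.mul_self hzo, mul_one]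
        rw [e]; exact (hsm.mul_right hzs.symm).symm
      obtain ⟨b, ⟨hbodd, hbinv⟩, hgb⟩ := Cfsg.Agent.Invol.iso_decomp hz (a⁻¹ * g)
      have hbz : b * z * b⁻¹ = a⁻¹ * x * a := by
        have e := Subgroup.mem_centralizer_singleton_iff.mp hgb
        calc b * z * b⁻¹ = a⁻¹ * g * ((a⁻¹ * g)⁻¹ * b * z) * b⁻¹ := by group
          _ = a⁻¹ * g * (z * ((a⁻¹ * g)⁻¹ * b)) * b⁻¹ := by rw [e]
          _ = _ := by rw [hxdef]; group
      have hrefl : z * (a⁻¹ * x * a) * z = s * (a⁻¹ * x * a) * s := by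
        have e1 : x * c * x * (x * c) = s * x * s := by
          calc x * c * x * (x * c) = x * c * (x * x) * c := by group
            _ = x * c ^ 2 := by rw [Cfsg.Agent.Invol.mul_self hxo, pow_two]; group
            _ = s * x * s := by
              rw [hj, hw, ← mul_assoc, Cfsg.Agent.Invol.mul_self hxo, one_mul]
        calc z * (a⁻¹ * x * a) * z = a⁻¹ * ((a * z * a⁻¹) * x * (a * z * a⁻¹)) * a := by group
          _ = a⁻¹ * s * x * (s * a) := by rw [ham, e1]; group
          _ = s * a⁻¹ * x * (a * s) := by rw [has.inv_left.eq, has.eq]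
          _ = _ := by group
      have hbs : Commute b (s * z) := by
        refine hcomm_of_sq hbodd ?_
        have e1 : Commute (b * z * b⁻¹) (s * z) := by
          rw [hbz]
          show a⁻¹ * x * a * (s * z) = s * z * (a⁻¹ * x * a)
          calc a⁻¹ * x * a * (s * z) = s⁻¹ * (s * (a⁻¹ * x * a) * s) * z := by group
            _ = s⁻¹ * z * (a⁻¹ * x * a) * (z * z) := by rw [← hrefl]; group
            _ = _ := by rw [Cfsg.Agent.Invol.mul_self hzo, hsinv, mul_one]
        have e : b ^ 2 = b * z * b⁻¹ * z := by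
          rw [Cfsg.Agent.Invol.inverted_conj hzo hbinv, mul_assoc,
            Cfsg.Agent.Invol.mul_self hzo, mul_one]
        rw [e]; exact e1.mul_left (hzs.mul_right (Commute.refl z))
      refine ⟨(⟨a, haodd, hainv, has⟩, ⟨b, hbodd, hbinv, hbs⟩), QuotientGroup.eq.mpr ?_⟩
      have := inv_mem hgb
      rwa [show ((a⁻¹ * g)⁻¹ * b)⁻¹ = (a * b)⁻¹ * g by group] at this
  have hcard := Nat.card_eq_of_bijective Φ hbij
  rw [Nat.card_prod] at hcard
  rw [Subgroup.card_eq_card_quotient_mul_card_subgroup C, ← hcard]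
  ring

end Cfsg.Agent.S1186
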