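import Cfsg.Statements.S1189
import Cfsg.Agent.Lib.TwoGroups.QuasiDihedral

set_option autoImplicit false
open Cfsg

namespace Cfsg.Agent.S1189



/-- A quasi-dihedral 2-group has exactly two conjugacy classes of elements of order 2 and exactly two conjugacy classes of elements of order 4. -/
theorem result {S : Type*} [Group S] [Finite S] (hS : Cfsg.IsQuasiDihedral S) : Nat.card {C : ConjClasses S // ∃ t : S, orderOf t = 2 ∧ ConjClasses.mk t = C} = 2 ∧ Nat.card {C : ConjClasses S // ∃ t : S, orderOf t = 4 ∧ ConjClasses.mk t = C} = 2 := by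
  obtain ⟨d, -⟩ := QD.exists_pres hS
  have ho2 : ∀ a : S, a * a = 1 → a ≠ 1 → orderOf a = 2 := fun a h h1 =>
    orderOf_eq_prime (by rw [pow_two]; exact h) h1
  have hne' : ∀ i : ℤ, d.x ^ i * d.y ≠ 1 := fun i e =>
    d.ne_form 0 i (by rw [zpow_zero]; exact e.symm)
  constructor
  · refine (TwoLift.card_classes (ι := Bool) (fun b => bif b then d.z else d.x ^ (0 : ℤ) * d.y)
      ?_ ?_ ?_).trans (by simp)
    · rintro (_ | _)
      · exact ho2 _ ((d.form_sq_eq_one_iff 0).mpr (dvd_zero 2)) (hne' 0)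
      · exact ho2 _ d.zz d.z_ne_one
    · rintro (_ | _) (_ | _) h
      · rfl
      · exact absurd h.symm (d.not_conj_form_pow 0 (4 * d.r))
      · exact absurd h (d.not_conj_form_pow 0 (4 * d.r))
      · rfl
    · intro t ht
      have h1 : t * t = 1 := by rw [← pow_two, ← ht]; exact pow_orderOf_eq_one t
      rcases d.sq_eq_one_cases h1 with rfl | rfl | ⟨i, hi, rfl⟩
      · simp at ht
      · exact ⟨true, IsConj.refl _⟩
      · obtain ⟨j, hj⟩ := d.conj_form 0 i (by omega)
        exact ⟨false, isConj_iff.mpr ⟨_, hj⟩⟩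
  · refine (TwoLift.card_classes (ι := Bool)
      (fun b => bif b then d.x ^ (2 * d.r) else d.x ^ (1 : ℤ) * d.y) ?_ ?_ ?_).trans (by simp)
    · rintro (_ | _)
      · have h : d.x ^ (1 : ℤ) * d.y * (d.x ^ (1 : ℤ) * d.y) = d.z := by
          rw [d.form_sq, QD.Pres.z, mul_one]
        refine orderOf_eq_prime_pow (p := 2) (n := 1) (hp := ⟨Nat.prime_two⟩) ?_ ?_
        · simp only [cond_false, pow_one, pow_two]
          rw [h]; exact d.z_ne_one
        · simp only [cond_false]
          rw [show 2 ^ (1 + 1) = 2 * 2 from rfl, pow_mul, pow_two, pow_two, h, d.zz]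
      · exact d.orderOf_q
    · rintro (_ | _) (_ | _) h
      · rfl
      · exact absurd h.symm (d.not_conj_form_pow 1 (2 * d.r))
      · exact absurd h (d.not_conj_form_pow 1 (2 * d.r))
      · rfl
    · intro t ht
      have h4 : t * t * (t * t) = 1 := by
        rw [← mul_assoc, ← pow_three', ← pow_succ]
        show t ^ 4 = 1
        rw [← ht]; exact pow_orderOf_eq_one t
      have h2 : t * t ≠ 1 := fun h => by
        have := orderOf_dvd_of_pow_eq_one (x := t) (n := 2) (by rw [pow_two]; exact h)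
        rw [ht] at this; omega
      rcases d.cases t with ⟨k, rfl⟩ | ⟨k, rfl⟩
      · refine ⟨true, ?_⟩
        rw [d.pp, d.zpow_sq_eq_one_iff, show k + k = 2 * k by ring,
          show 4 * d.r = 2 * (2 * d.r) by ring, mul_dvd_mul_iff_left two_ne_zero] at h4
        obtain ⟨c, rfl⟩ := h4
        have hc : ¬ 2 ∣ c := fun ⟨e, he⟩ => h2 (by
          rw [d.zpow_sq_eq_one_iff]; exact ⟨e, by rw [he]; ring⟩)
        obtain ⟨e, rfl⟩ : ∃ e, c = 2 * e + 1 := ⟨c / 2, by omega⟩
        rcases Int.even_or_odd' e with ⟨f, rfl | rfl⟩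
        · have : d.x ^ (2 * d.r) = d.x ^ (2 * d.r * (2 * (2 * f) + 1)) := by
            rw [d.zpow_eq_iff]; exact ⟨-f, by ring⟩
          rw [← this]; exact IsConj.refl _
        · refine isConj_iff.mpr ⟨d.y, ?_⟩
          simp only [cond_true]
          rw [d.conj_y_pow, d.zpow_eq_iff]
          exact ⟨d.r - f - 1, by ring⟩
      · have hk : ¬ 2 ∣ k := fun h => h2 ((d.form_sq_eq_one_iff k).mpr h)
        obtain ⟨j, hj⟩ := d.conj_form 1 k (by omega)
        exact ⟨false, isConj_iff.mpr ⟨_, hj⟩⟩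

end Cfsg.Agent.S1189
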