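import Cfsg.Statements.S1192
import Cfsg.Agent.Lib.TwoGroups.QuasiDihedral

set_option autoImplicit false
open Cfsg

namespace Cfsg.Agent.S1192



/-- A quasi-dihedral group S of order 2^(n+1) has exactly three maximal subgroups; one is cyclic, one is isomorphic to the generalized quaternion group of order 2^n and one to the dihedral group of order 2^n. -/
theorem result {S : Type*} [Group S] [Finite S] (hS : Cfsg.IsQuasiDihedral S) (n : ℕ) (hn : Nat.card S = 2 ^ (n + 1)) : ∃ M₁ M₂ M₃ : Subgroup S, IsCoatom M₁ ∧ IsCoatom M₂ ∧ IsCoatom M₃ ∧ M₁ ≠ M₂ ∧ M₁ ≠ M₃ ∧ M₂ ≠ M₃ ∧ (∀ M : Subgroup S, IsCoatom M → M = M₁ ∨ M = M₂ ∨ M = M₃) ∧ IsCyclic M₁ ∧ Nonempty (M₂ ≃* QuaternionGroup (2 ^ (n - 2))) ∧ Nonempty (M₃ ≃* DihedralGroup (2 ^ (n - 1))) := by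
  obtain ⟨d, rfl⟩ := QD.exists_pres_card hS hn
  refine ⟨Subgroup.zpowers d.x, d.maxQ, d.maxD, QD.Pres.coatom_of_index_two d.index_zpowers,
    QD.Pres.coatom_of_index_two (d.index_of_card d.card_maxQ),
    QD.Pres.coatom_of_index_two (d.index_of_card d.card_maxD), d.maxQ_ne_zpowers.symm,
    d.maxD_ne_zpowers.symm, d.maxQ_ne_maxD, fun M hM => d.index_two_cases (d.coatom_index hM),
    inferInstance, ?_, ?_⟩
  · rw [show d.p + 3 - 2 = d.p + 1 by omega]; exact d.maxQ_equiv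
  · rw [show d.p + 3 - 1 = d.p + 2 by omega]; exact d.maxD_equiv

end Cfsg.Agent.S1192
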