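import Cfsg.Statements.S1193
import Cfsg.Agent.Lib.TwoGroups.QuasiDihedral

set_option autoImplicit false
open Cfsg

namespace Cfsg.Agent.S1193



/-- Let S be quasi-dihedral of order 2^(n+1). Then S' = Φ(S) is cyclic of order 2^(n-1), the centre of S has order 2, and the subgroup generated by the involutions of S is dihedral of order 2^n. -/
theorem result {S : Type*} [Group S] [Finite S] (hS : Cfsg.IsQuasiDihedral S) (n : ℕ) (hn : Nat.card S = 2 ^ (n + 1)) : commutator S = frattini S ∧ IsCyclic (commutator S) ∧ Nat.card (commutator S) = 2 ^ (n - 1) ∧ Nat.card (Subgroup.center S) = 2 ∧ Nonempty (↥(Subgroup.closure {x : S | orderOf x = 2}) ≃* DihedralGroup (2 ^ (n - 1))) := by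
  obtain ⟨d, rfl⟩ := QD.exists_pres_card hS hn
  refine ⟨d.commutator_eq.trans d.frattini_eq.symm, ?_, ?_, ?_, ?_⟩
  · rw [d.commutator_eq]; infer_instance
  · rw [d.commutator_eq, Nat.card_zpowers, d.orderOf_x2, show d.p + 3 - 1 = d.p + 2 by omega]
  · rw [d.center_eq, Nat.card_zpowers]
    exact orderOf_eq_prime (by rw [pow_two]; exact d.zz) d.z_ne_one
  · rw [d.closure_invol, show d.p + 3 - 1 = d.p + 2 by omega]; exact d.maxD_equiv

end Cfsg.Agent.S1193
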