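import Cfsg.Statements.S1195
import Cfsg.Agent.Lib.TwoGroups.WreathedSubgroups

set_option autoImplicit false
open Cfsg

namespace Cfsg.Agent.S1195



/-- A wreathed 2-group has exactly three conjugacy classes of elements of order 2. -/
theorem result {S : Type*} [Group S] [Finite S] (hS : Cfsg.IsWreathed S) : Nat.card {C : ConjClasses S // ∃ t : S, orderOf t = 2 ∧ ConjClasses.mk t = C} = 3 := by
  obtain ⟨d, -⟩ := Wreath.exists_pres hS
  have ho2 : ∀ a : S, a * a = 1 → a ≠ 1 → orderOf a = 2 := fun a h h1 =>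
    orderOf_eq_prime (by rw [pow_two]; exact h) h1
  have hsne : d.u 0 0 * d.s ≠ 1 := fun h => d.u_ne_us 0 0 0 0 (d.u_zero.trans h.symm)
  have hns : ∀ a b : ℤ, ¬ IsConj (d.u a b) (d.u 0 0 * d.s) := fun a b h => by
    obtain ⟨g, hg⟩ := isConj_iff.mp h
    rcases d.conj_u g a b with h1 | h1 <;> exact d.u_ne_us _ _ _ _ (h1.symm.trans hg)
  have hcd : ¬ IsConj (d.u d.h d.h) (d.u d.h 0) := fun h => by
    obtain ⟨g, hg⟩ := isConj_iff.mp h
    rcases d.conj_u g d.h d.h with h1 | h1 <;>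
      · have h2 := h1.symm.trans hg
        rw [d.u_eq_iff, sub_zero] at h2
        exact d.not_dvd_h h2.2
  refine (TwoLift.card_classes (ι := Option Bool)
    (fun o => o.elim (d.u 0 0 * d.s) (fun b => bif b then d.u d.h d.h else d.u d.h 0)) ?_ ?_ ?_).trans
      (by simp)
  · rintro (_ | _ | _)
    · exact ho2 _ ((d.us_sq_eq_one 0 0).mpr (by simp)) hsne
    · exact ho2 _ ((d.u_sq_eq_one _ _).mpr ⟨dvd_rfl, dvd_zero _⟩)
        (by simp only [Option.elim, cond_false, ne_eq, d.u_eq_one]; exact fun h => d.not_dvd_h h.1)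
    · exact ho2 _ ((d.u_sq_eq_one _ _).mpr ⟨dvd_rfl, dvd_rfl⟩)
        (by simp only [Option.elim, cond_true, ne_eq, d.u_eq_one]; exact fun h => d.not_dvd_h h.1)
  · rintro (_ | _ | _) (_ | _ | _) h <;> simp only [Option.elim, cond_true, cond_false] at h
    · rfl
    · exact absurd h.symm (hns _ _)
    · exact absurd h.symm (hns _ _)
    · exact absurd h (hns _ _)
    · rfl
    · exact absurd h.symm hcd
    · exact absurd h (hns _ _)
    · exact absurd h hcd
    · rfl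
  · intro t ht
    have h1 : t * t = 1 := by rw [← pow_two, ← ht]; exact pow_orderOf_eq_one t
    rcases d.cases t with ⟨a, b, rfl⟩ | ⟨a, b, rfl⟩
    · obtain ⟨⟨i, rfl⟩, ⟨j, rfl⟩⟩ := (d.u_sq_eq_one a b).mp h1
      rcases Int.even_or_odd' i with ⟨i', rfl | rfl⟩ <;> rcases Int.even_or_odd' j with ⟨j', rfl | rfl⟩
      · exfalso
        rw [(d.u_eq_one _ _).mpr ⟨⟨i', by ring⟩, ⟨j', by ring⟩⟩] at ht
        simp at ht
      · refine ⟨some false, isConj_iff.mpr ⟨d.u 0 0 * d.s, ?_⟩⟩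
        simp only [Option.elim, cond_false]
        rw [d.us_mul_u, d.us_inv, d.us_mul_us, d.u_eq_iff]
        exact ⟨⟨-i', by ring⟩, ⟨-j', by ring⟩⟩
      · refine ⟨some false, ?_⟩
        simp only [Option.elim, cond_false]
        rw [(d.u_eq_iff d.h 0 (d.h * (2 * i' + 1)) (d.h * (2 * j'))).mpr ⟨⟨-i', by ring⟩, ⟨-j', by ring⟩⟩]
      · refine ⟨some true, ?_⟩
        simp only [Option.elim, cond_true]
        rw [(d.u_eq_iff d.h d.h (d.h * (2 * i' + 1)) (d.h * (2 * j' + 1))).mpr ⟨⟨-i', by ring⟩, ⟨-j', by ring⟩⟩]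
    · refine ⟨none, isConj_iff.mpr ⟨d.u a 0, ?_⟩⟩
      simp only [Option.elim]
      rw [d.conj_us_u, mul_left_inj, d.u_eq_iff]
      have := (d.us_sq_eq_one a b).mp h1
      exact ⟨⟨0, by ring⟩, by
        rw [show 0 + 0 - a - b = -(a + b) by ring, Int.dvd_neg]; exact this⟩

end Cfsg.Agent.S1195
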