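import Cfsg.Statements.S1202
import Cfsg.Agent.Lib.TwoGroups.WreathedOdd

set_option autoImplicit false
open Cfsg

namespace Cfsg.Agent.S1202

/-- Let S be a wreathed 2-group of order 2^(2n+1) and X a subgroup with C_S(X) ≤ X such that Aut(X) is not a 2-group. Then |N_S(X) : X| = 2, and either X is the commutative subgroup of order 2^(2n), or X = Q·Z(S) for some subgroup Q ≅ Q₈; in the latter case any two such subgroups are conjugate in S. -/
theorem result {S : Type*} [Group S] [Finite S] (hS : Cfsg.IsWreathed S) (n : ℕ) (hn : Nat.card S = 2 ^ (2 * n + 1)) (X : Subgroup S) (hC : Subgroup.centralizer (X : Set S) ≤ X) (hA : ¬ IsPGroup 2 (MulAut X)) : X.relIndex (Subgroup.normalizer (X : Set S)) = 2 ∧ ((IsMulCommutative X ∧ Nat.card X = 2 ^ (2 * n)) ∨ ∃ Q : Subgroup S, Nonempty (Q ≃* QuaternionGroup 2) ∧ X = Q ⊔ Subgroup.center S) ∧ ∀ X' : Subgroup S, Subgroup.centralizer (X' : Set S) ≤ X' → ¬ IsPGroup 2 (MulAut X') →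 ¬ IsMulCommutative X → ¬ IsMulCommutative X' → ∃ s : S, X.map (MulAut.conj s).toMonoidHom = X' := by
  obtain ⟨d, rfl⟩ := Wreath.exists_pres_card hS hn
  have key : ∀ Y : Subgroup S, Subgroup.centralizer (Y : Set S) ≤ Y → ¬ IsPGroup 2 (MulAut Y) →
      Y = d.U ∨ ∃ e : ℤ, 2 ∣ e ∧ Y = d.Ve e := by
    intro Y hY hY2
    haveI : Fact (Nat.Prime 2) := ⟨Nat.prime_two⟩
    rw [IsPGroup.iff_orderOf] at hY2
    push Not at hY2
    obtain ⟨ψ, hψ⟩ := hY2
    obtain ⟨a, m, hm, ho⟩ : ∃ a m, ¬ 2 ∣ m ∧ orderOf ψ = 2 ^ a * m :=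
      Nat.exists_eq_pow_mul_and_not_dvd (orderOf_pos ψ).ne' 2 (by norm_num)
    have ho' : orderOf (ψ ^ 2 ^ a) = m := by
      rw [orderOf_pow' _ (by positivity), ho, Nat.gcd_eq_right (dvd_mul_right _ _),
        Nat.mul_div_cancel_left _ (by positivity)]
    refine d.classify (ψ ^ 2 ^ a) ?_ hY fun h => hψ a ?_
    · rw [ho']; exact Nat.odd_iff.mpr (Nat.two_dvd_ne_zero.mp hm)
    · rw [h, orderOf_one] at ho'
      rw [ho, ← ho', mul_one]
  refine ⟨?_, ?_, ?_⟩
  · rcases key X hC hA with rfl | ⟨e, he, rfl⟩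
    · exact d.U_relIndex
    · exact d.Ve_relIndex he
  · rcases key X hC hA with rfl | ⟨e, he, rfl⟩
    · exact Or.inl ⟨d.U_comm, d.card_U⟩
    · obtain ⟨Q, hQ, hQe⟩ := d.exists_quat he
      exact Or.inr ⟨Q, hQ, hQe.symm⟩
  · intro X' hC' hA' hX hX'
    rcases key X hC hA with rfl | ⟨e, he, rfl⟩
    · exact absurd d.U_comm hX
    rcases key X' hC' hA' with rfl | ⟨e', he', rfl⟩
    · exact absurd d.U_comm hX'
    exact d.Ve_conj_all he he'

end Cfsg.Agent.S1202
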