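import Cfsg.Statements.S1214
import Cfsg.Agent.Lib.TwoGroups.SimpleSection
import Cfsg.Agent.S1213

set_option autoImplicit false
open Cfsg

namespace Cfsg.Agent.S1214

open Cfsg.Agent in
theorem core {H : Type*} [Group H] [Finite H] (P : Sylow 2 H)
    (hP : Cfsg.IsQuasiDihedral (P : Subgroup H) ∨ Cfsg.IsWreathed (P : Subgroup H))
    (hO : Cfsg.pPrimeCore 2 H = ⊥) (hno : ∀ M : Subgroup H, M.index ≠ 2) :
    ∃ L : Subgroup H, L.Normal ∧ Odd L.index ∧ IsSimpleGroup L ∧ ¬ IsMulCommutative L := by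
  rcases hP with hS | hS
  · obtain ⟨d, -⟩ := QD.exists_pres hS
    have hF := (InvCent.qd_full P d hno).1
    have hone : ∀ a b : H, orderOf a = 2 → orderOf b = 2 → IsConj a b := fun a b ha hb =>
      (InvCent.qd_one_class P d hF ha).symm.trans (InvCent.qd_one_class P d hF hb)
    set y' : (P : Subgroup H) := d.x ^ (2 : ℤ) * d.y with hy'
    have hy'o : orderOf y' = 2 := orderOf_eq_prime
      (by rw [pow_two]; exact (d.form_sq_eq_one_iff 2).mpr dvd_rfl)
      (fun e => d.ne_form 0 2 (by rw [zpow_zero]; exact e.symm))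
    refine SimpleSection.exists_simple_normal P hO hone hno
      ⟨d.y, d.y.2, y', y'.2, by rw [Subgroup.orderOf_coe]; exact d.hy,
        by rw [Subgroup.orderOf_coe]; exact hy'o, ?_⟩ ⟨d.x, d.x.2, fun M hM => ?_⟩
    · intro h
      have h' : d.y * (d.x ^ (2 : ℤ) * d.y) = d.x ^ (2 : ℤ) * d.y * d.y := Subtype.ext h
      rw [← mul_assoc, d.swap, mul_assoc, d.yy, mul_one, mul_assoc, d.yy, mul_one, d.zpow_eq_iff] at h'
      have h2 : 8 * d.r ∣ 8 * d.r - 4 := by
        rw [show 8 * d.r - 4 = (4 * d.r - 1) * 2 - 2 by ring]; exact h'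
      have h3 : 8 * d.r ∣ 4 := by simpa using dvd_sub dvd_rfl h2
      have := Int.le_of_dvd (by norm_num) h3
      have := d.r_pos
      omega
    · intro v hv
      have hy : (d.y : H) ∈ M := hM _ d.y.2 (by rw [Subgroup.orderOf_coe]; exact d.hy)
      rcases d.cases ⟨v, hv⟩ with ⟨i, e⟩ | ⟨i, e⟩
      · rw [show v = ((d.x ^ i : (P : Subgroup H)) : H) from congrArg Subtype.val e, Subgroup.coe_zpow]
        exact Subgroup.mem_sup_right (zpow_mem (Subgroup.mem_zpowers _) i)
      · rw [show v = ((d.x ^ i * d.y : (P : Subgroup H)) : H) from congrArg Subtype.val e,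
          Subgroup.coe_mul, Subgroup.coe_zpow]
        exact mul_mem (Subgroup.mem_sup_right (zpow_mem (Subgroup.mem_zpowers _) i))
          (Subgroup.mem_sup_left hy)
  · obtain ⟨d, -⟩ := Wreath.exists_pres hS
    obtain ⟨hU, hV⟩ := InvCent.wr_full P d hno
    have hone : ∀ a b : H, orderOf a = 2 → orderOf b = 2 → IsConj a b := fun a b ha hb =>
      (InvCent.wr_one_class P d hU hV ha).symm.trans (InvCent.wr_one_class P d hU hV hb)
    refine SimpleSection.exists_simple_normal P hO hone hno
      ⟨WrFus.ss P d, d.s.2, WrFus.tt P d, (d.u d.h 0).2, WrFus.order_ss P d, WrFus.order_tt P d, ?_⟩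
      ⟨(d.u 1 0 : (P : Subgroup H)), (d.u 1 0).2, fun M hM => ?_⟩
    · intro h
      have h' : d.u 0 0 * d.s * d.u d.h 0 = d.u d.h 0 * (d.u 0 0 * d.s) := by
        rw [d.u_zero, one_mul]; exact Subtype.ext h
      have h2 := (d.commute_us d.h 0 0 0).mp h'
      rw [sub_zero] at h2
      exact d.not_dvd_h h2
    · have h1 : d.omega.map (P : Subgroup H).subtype ≤ M := by
        rw [← d.closure_invol, MonoidHom.map_closure, Subgroup.closure_le]
        rintro _ ⟨w, hw, rfl⟩
        exact hM _ w.2 (by rw [Subgroup.coe_subtype, Subgroup.orderOf_coe]; exact hw)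
      calc (P : Subgroup H) = (⊤ : Subgroup (P : Subgroup H)).map (P : Subgroup H).subtype := by
            rw [← MonoidHom.range_eq_map, Subgroup.range_subtype]
        _ = d.omega.map (P : Subgroup H).subtype ⊔
            Subgroup.zpowers ((d.u 1 0 : (P : Subgroup H)) : H) := by
            rw [← d.omega_card_and_top.2, Subgroup.map_sup, MonoidHom.map_zpowers]; rfl
        _ ≤ _ := sup_le_sup_right h1 _

/-- Let G be a finite group with quasi-dihedral or wreathed Sylow 2-subgroups and no subgroup of index 2. Then G/O(G), the quotient by the largest normal subgroup of odd order, has a normal subgroup of odd index which is a non-abelian simple group. -/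
theorem result {G : Type*} [Group G] [Finite G] (S : Sylow 2 G) (hS : Cfsg.IsQuasiDihedral (S : Subgroup G) ∨ Cfsg.IsWreathed (S : Subgroup G)) (hG : ∀ H : Subgroup G, H.index ≠ 2) : ∃ L : Subgroup (G ⧸ Cfsg.oddCore G), L.Normal ∧ Odd L.index ∧ IsSimpleGroup L ∧ ¬ IsMulCommutative L := by
  haveI : Fact (Nat.Prime 2) := ⟨Nat.prime_two⟩
  haveI : (Cfsg.oddCore G).Normal := FittingCores.pPrimeCore_normal 2
  set π := QuotientGroup.mk' (Cfsg.oddCore G) with hπ
  have hsurj : Function.Surjective π := QuotientGroup.mk'_surjective _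
  set P : Sylow 2 (G ⧸ Cfsg.oddCore G) := S.mapSurjective hsurj with hP
  have hinj : Function.Injective (π.subgroupMap (S : Subgroup G)) := by
    rw [injective_iff_map_eq_one]
    intro v hv
    have h1 : (v : G) ∈ Cfsg.oddCore G := (QuotientGroup.eq_one_iff (v : G)).mp (congrArg Subtype.val hv)
    obtain ⟨k, hk⟩ := IsPGroup.iff_orderOf.mp S.isPGroup' v
    have h2 : orderOf (v : G) ∣ Nat.card (Cfsg.oddCore G) := Subgroup.orderOf_dvd_natCard _ h1
    rw [Subgroup.orderOf_coe, hk] at h2
    refine orderOf_eq_one_iff.mp ?_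
    rw [hk]
    exact Nat.eq_one_of_dvd_coprimes ((FittingCores.pPrimeCore_coprime 2).symm.pow_left k) dvd_rfl h2
  let eS : (S : Subgroup G) ≃* (P : Subgroup (G ⧸ Cfsg.oddCore G)) :=
    MulEquiv.ofBijective (π.subgroupMap (S : Subgroup G)) ⟨hinj, π.subgroupMap_surjective _⟩
  refine core P ?_ (FittingCores.pPrimeCore_quotient_eq_bot 2 _ rfl) fun M hM =>
    hG _ ((M.index_comap_of_surjective hsurj).trans hM)
  exact hS.imp (Cfsg.Agent.S1213.qd_transport eS) (Cfsg.Agent.S1213.wr_transport eS)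

end Cfsg.Agent.S1214
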