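import Cfsg.Statements.S1227
import Cfsg.Agent.Lib.Involutions.ElemCentralizer

set_option autoImplicit false
open Cfsg

namespace Cfsg.Agent.S1227

open Cfsg.Agent.Invol in
theorem inter_eq {G : Type*} [Group G] [Finite G] {T : Sylow 2 G} (hT : ElemCase T) (u : G)
    (hu : orderOf u = 2) :
    hT.N ⊓ hT.N.map (MulAut.conj u).toMonoidHom = hT.Stab2 hT.base (u • hT.base) := by
  have hiff : ∀ d : G, u⁻¹ * d * u ∈ hT.N ↔ d • u • hT.base = u • hT.base := by
    intro d
    rw [← hT.smul_base, mul_smul, mul_smul, inv_smul_eq_iff]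
  ext d
  constructor
  · rintro ⟨h1, h2⟩
    exact ⟨hT.smul_base.mpr h1, (hiff d).mp (mem_conj_map.mp h2)⟩
  · rintro ⟨h1, h2⟩
    exact ⟨hT.smul_base.mp h1, mem_conj_map.mpr ((hiff d).mpr h2)⟩

/-- Let G be a finite group with a Sylow 2-subgroup T that is neither cyclic nor normal, such that the centralizer of every involution is an elementary abelian 2-group; put H = N_G(T), let u be an involution outside H and D = H ∩ uHu⁻¹. Then u inverts every element of D, |H| = |T|·(|T| − 1), and D is a complement to T in H. -/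
theorem result {G : Type*} [Group G] [Finite G] (T : Sylow 2 G) (hnc : ¬ IsCyclic (T : Subgroup G)) (hnn : ¬ (T : Subgroup G).Normal) (hC : ∀ t : G, orderOf t = 2 → IsMulCommutative (Subgroup.centralizer ({t} : Set G)) ∧ ∀ c ∈ Subgroup.centralizer ({t} : Set G), c ^ 2 = 1) (u : G) (hu : orderOf u = 2) (huH : u ∉ Subgroup.normalizer ((T : Subgroup G) : Set G)) : (∀ d ∈ Subgroup.normalizer ((T : Subgroup G) : Set G) ⊓ (Subgroup.normalizer ((T : Subgroup G) : Set G)).map (MulAut.conj u).toMonoidHom, u * d * u⁻¹ = d⁻¹) ∧ Nat.card (Subgroup.normalizer ((T : Subgroup G) : Set G)) = Nat.card T * (Nat.card T - 1) ∧ Subgroup.IsComplement' ((Subgroup.normalizer ((T : Subgroup G) : Set G) ⊓ (Subgroup.normalizer ((T : Subgroup G) : Set G)).map (MulAut.conj u).toMonoidHom).subgroupOf (Subgroup.normalizer ((T : Subgroup G) : Set G))) ((T : Subgroup G).subgroupOf (Subgroup.normalizer ((T : Subgroup G) : Set G))) := by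
  have hT : Invol.ElemCase T := ⟨hnc, hnn, hC⟩
  have hne : u • hT.base ≠ hT.base := fun h => huH (hT.smul_base.mp h)
  rw [show Subgroup.normalizer ((T : Subgroup G) : Set G) = hT.N from rfl]
  rw [inter_eq hT u hu]
  refine ⟨fun d hd => hT.inverts hne.symm ⟨u, hu, rfl⟩ hd, hT.card_N hne, ?_⟩
  refine Subgroup.isComplement'_of_card_mul_and_disjoint ?_ ?_
  · have e1 : Nat.card ((hT.Stab2 hT.base (u • hT.base)).subgroupOf hT.N) = Nat.card T - 1 := by
      rw [Nat.card_congr (Subgroup.subgroupOfEquivOfLe (fun d hd => hT.stab2_le_N hd)).toEquiv]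
      exact hT.card_stab hne.symm
    have e2 : Nat.card ((T : Subgroup G).subgroupOf hT.N) = Nat.card T :=
      Nat.card_congr (Subgroup.subgroupOfEquivOfLe Subgroup.le_normalizer).toEquiv
    rw [e1, e2, hT.card_N hne, mul_comm]
  · rw [Subgroup.disjoint_def]
    intro x hx hxT
    exact Subtype.ext (hT.T_free hne hxT (Subgroup.mem_subgroupOf.mp hx).2)

end Cfsg.Agent.S1227
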