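import Cfsg.Statements.S1228
import Cfsg.Agent.S1227

set_option autoImplicit false
open Cfsg

namespace Cfsg.Agent.S1228

/-- Let G be a finite group with a Sylow 2-subgroup T that is neither cyclic nor normal, such that the centralizer of every involution is an elementary abelian 2-group; put H = N_G(T), let u be an involution outside H and D = H ∩ uHu⁻¹. Then N_G(D) = D ⊔ ⟨u⟩, and a coset gH is fixed by every element of D exactly when gH = H or gH = uH. -/
theorem result {G : Type*} [Group G] [Finite G] (T : Sylow 2 G) (hnc : ¬ IsCyclic (T : Subgroup G)) (hnn : ¬ (T : Subgroup G).Normal) (hC : ∀ t : G, orderOf t = 2 → IsMulCommutative (Subgroup.centralizer ({t} : Set G)) ∧ ∀ c ∈ Subgroup.centralizer ({t} : Set G), c ^ 2 = 1) (u : G) (hu : orderOf u = 2) (huH : u ∉ Subgroup.normalizer ((T : Subgroup G) : Set G)) : Subgroup.normalizer ((Subgroup.normalizer ((T : Subgroup G) : Set G) ⊓ (Subgroup.normalizer ((T : Subgroup G) : Set G)).map (MulAut.conj u).toMonoidHom : Subgroup G) : Set G) = (Subgroup.normalizer ((T :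 Subgroup G) : Set G) ⊓ (Subgroup.normalizer ((T : Subgroup G) : Set G)).map (MulAut.conj u).toMonoidHom) ⊔ Subgroup.zpowers u ∧ ∀ g : G, ((∀ d ∈ Subgroup.normalizer ((T : Subgroup G) : Set G) ⊓ (Subgroup.normalizer ((T : Subgroup G) : Set G)).map (MulAut.conj u).toMonoidHom, d • (QuotientGroup.mk g : G ⧸ Subgroup.normalizer ((T : Subgroup G) : Set G)) = QuotientGroup.mk g) ↔ (QuotientGroup.mk g : G ⧸ Subgroup.normalizer ((T : Subgroup G) : Set G)) = QuotientGroup.mk 1 ∨ (QuotientGroup.mk g : G ⧸ Subgroup.normalizer ((T : Subgroup G) : Set G)) = QuotientGroup.mk u) := by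
  have hT : Invol.ElemCase T := ⟨hnc, hnn, hC⟩
  have hne : u • hT.base ≠ hT.base := fun h => huH (hT.smul_base.mp h)
  rw [show Subgroup.normalizer ((T : Subgroup G) : Set G) = hT.N from rfl]
  rw [S1227.inter_eq hT u hu]
  set D := hT.Stab2 hT.base (u • hT.base) with hD
  have huu : u • u • hT.base = hT.base := by rw [← mul_smul, Invol.mul_self hu, one_smul]
  have huD : ∀ d ∈ D, u * d * u⁻¹ = d⁻¹ := fun d hd => hT.inverts hne.symm ⟨u, hu, rfl⟩ hd
  refine ⟨le_antisymm ?_ (sup_le Subgroup.le_normalizer ?_), fun g => ⟨fun h => ?_, fun h d hd => ?_⟩⟩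
  · intro g hg
    have hmem : ∀ d ∈ D, g⁻¹ * d * g ∈ D := fun d hd => by
      have := (Subgroup.mem_normalizer_iff.mp (inv_mem hg) d).mp hd
      rwa [inv_inv] at this
    have hfix : ∀ a : G ⧸ hT.N, (∀ d ∈ D, d • a = a) → ∀ d ∈ D, d • g • a = g • a := by
      intro a ha d hd
      rw [← mul_smul, show d * g = g * (g⁻¹ * d * g) by group, mul_smul, ha _ (hmem d hd)]
    have hx := hT.fixed_eq hne.symm (hfix hT.base fun d hd => hd.1)
    have hy := hT.fixed_eq hne.symm (hfix (u • hT.base) fun d hd => hd.2)
    rcases hx with hx | hx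
    · refine Subgroup.mem_sup_left ⟨hx, ?_⟩
      rcases hy with hy | hy
      · exact absurd (smul_left_cancel g (hy.trans hx.symm)) hne
      · exact hy
    · have hmemD : u * g ∈ D := by
        refine ⟨?_, ?_⟩
        · show (u * g) • hT.base = hT.base
          rw [mul_smul, hx, huu]
        · show (u * g) • u • hT.base = u • hT.base
          rcases hy with hy | hy
          · rw [mul_smul, hy]
          · exact absurd (smul_left_cancel g (hy.trans hx.symm)) hne
      rw [show g = u * (u * g) by rw [← mul_assoc, Invol.mul_self hu, one_mul]]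
      exact mul_mem (Subgroup.mem_sup_right (Subgroup.mem_zpowers u)) (Subgroup.mem_sup_left hmemD)
  · rw [Subgroup.zpowers_le]
    refine Subgroup.mem_normalizer_fintype fun d hd => ?_
    rw [SetLike.mem_coe, huD d hd]; exact inv_mem hd
  · rcases hT.fixed_eq hne.symm h with e | e
    · exact Or.inl e
    · refine Or.inr ?_
      rw [e, MulAction.Quotient.smul_mk, smul_eq_mul, mul_one]
  · rcases h with e | e <;> rw [e]
    · exact hd.1
    · have h2 : d • u • hT.base = u • hT.base := hd.2
      rwa [MulAction.Quotient.smul_mk, smul_eq_mul, mul_one] at h2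

end Cfsg.Agent.S1228
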