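import Cfsg.Statements.S1231
import Cfsg.Agent.Lib.LocalEven.SylowAux

set_option autoImplicit false
open Cfsg

namespace Cfsg.Agent.S1231

open Cfsg.Agent.LEBasic

/-- `X` contains an elementary abelian `p`-subgroup of rank at least `k`. -/
def Big {G : Type*} [Group G] (p k : ℕ) (X : Subgroup G) : Prop :=
  ∃ A : Subgroup G, A ≤ X ∧ IsMulCommutative A ∧ (∀ a ∈ A, a ^ p = 1) ∧ p ^ (k - 1) < Nat.card A

theorem big_iff {G : Type*} [Group G] {p k : ℕ} (X : Subgroup G) :
    Big p k X ↔ ¬ Cfsg.PRankLE p (k - 1) ↥X := by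
  constructor
  · rintro ⟨A, hAX, hc, hp, hcard⟩ h
    haveI := hc
    have := h (A.subgroupOf X) inferInstance (fun a ha => Subtype.ext (hp _ ha))
    rw [Nat.card_congr (Subgroup.subgroupOfEquivOfLe hAX).toEquiv] at this
    omega
  · intro h
    simp only [Cfsg.PRankLE, not_forall, not_le] at h
    obtain ⟨B, hc, hp, hcard⟩ := h
    haveI := hc
    refine ⟨B.map X.subtype, Subgroup.map_subtype_le B, inferInstance, ?_, ?_⟩
    · rintro _ ⟨b, hb, rfl⟩
      exact congrArg Subtype.val (hp b hb)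
    · rwa [Nat.card_congr (B.equivMapOfInjective X.subtype (Subgroup.subtype_injective _)).toEquiv.symm]

theorem Big.mono {G : Type*} [Group G] {p k : ℕ} {X Y : Subgroup G} (h : Big p k X) (hXY : X ≤ Y) :
    Big p k Y := by
  obtain ⟨A, hAX, h⟩ := h
  exact ⟨A, hAX.trans hXY, h⟩

theorem Big.conj {G : Type*} [Group G] {p k : ℕ} {X : Subgroup G} (h : Big p k X) (g : G) :
    Big p k (X.map (MulAut.conj g).toMonoidHom) := by
  obtain ⟨A, hAX, hc, hp, hcard⟩ := h
  haveI := hc
  refine ⟨A.map (MulAut.conj g).toMonoidHom, Subgroup.map_mono hAX, inferInstance, ?_, ?_⟩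
  · rintro _ ⟨a, ha, rfl⟩
    rw [← map_pow, hp a ha, map_one]
  · rwa [card_map_conj]

theorem sylow_conj_of_big {G : Type*} [Group G] [Finite G] {p : ℕ} [Fact p.Prime] {k : ℕ}
    {H : Subgroup G} (P : Sylow p ↥H)
    (hN : ∀ X : Subgroup G, X ≤ (P : Subgroup ↥H).map H.subtype → Big p k X →
      Subgroup.normalizer (X : Set G) ≤ H) :
    ∀ Q : Sylow p G, Nat.card ((P : Subgroup ↥H).map H.subtype) = Nat.card (Q : Subgroup G) →
      Big p k ((Q : Subgroup G) ⊓ (P : Subgroup ↥H).map H.subtype) →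
      ∃ h ∈ H, ((P : Subgroup ↥H).map H.subtype).map (MulAut.conj h).toMonoidHom = (Q : Subgroup G) := by
  set P' := (P : Subgroup ↥H).map H.subtype with hP'
  suffices h : ∀ n : ℕ, ∀ Q : Sylow p G, Nat.card P' = Nat.card (Q : Subgroup G) →
      Nat.card G - Nat.card ↥((Q : Subgroup G) ⊓ P') ≤ n → Big p k ((Q : Subgroup G) ⊓ P') →
      ∃ h ∈ H, P'.map (MulAut.conj h).toMonoidHom = (Q : Subgroup G) from
    fun Q h1 h2 => h _ Q h1 le_rfl h2
  intro n
  induction n using Nat.strong_induction_on with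
  | _ n ih =>
    intro Q hcard hn hbig
    set D := (Q : Subgroup G) ⊓ P' with hD
    by_cases hQD : D = (Q : Subgroup G)
    · exact ⟨1, one_mem H, by
        rw [map_conj_one]
        exact (Subgroup.eq_of_le_of_card_ge (inf_eq_left.mp hQD) hcard.le).symm⟩
    set M := (Q : Subgroup G) ⊓ Subgroup.normalizer (D : Set G) with hM
    have hDM : D < M := by
      refine lt_of_le_of_ne (le_inf inf_le_left Subgroup.le_normalizer) fun he => ?_
      exact hQD (LESylow.eq_of_normalizer_inf_le Q.isPGroup' inf_le_left he.ge)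
    have hMH : M ≤ H := inf_le_right.trans (hN D inf_le_right hbig)
    obtain ⟨h, hh, hle⟩ := LESylow.exists_conj_le_of_le hMH (Q.isPGroup'.to_le inf_le_left) P
    obtain ⟨Q', hQ'⟩ := LESylow.exists_sylow_conj Q h
    have hlt : Nat.card D < Nat.card ↥((Q' : Subgroup G) ⊓ P') := by
      refine lt_of_lt_of_le ?_ (Subgroup.card_le_of_le
        (le_inf (hQ' ▸ map_conj_mono h inf_le_left) hle : M.map (MulAut.conj h).toMonoidHom ≤ _))
      rw [card_map_conj]
      rcases lt_or_ge (Nat.card D) (Nat.card M) with hc | hc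
      · exact hc
      · exact absurd (Subgroup.eq_of_le_of_card_ge hDM.le hc) hDM.ne
    have hle2 : Nat.card ↥((Q' : Subgroup G) ⊓ P') ≤ Nat.card G := Subgroup.card_le_card_group _
    obtain ⟨h', hh', he⟩ := ih _ (by omega) Q' (by rw [hQ', card_map_conj, hcard]) le_rfl
      ((hbig.conj h).mono ((map_conj_mono h hDM.le).trans
        (le_inf (hQ' ▸ map_conj_mono h inf_le_left) hle)))
    refine ⟨h⁻¹ * h', mul_mem (inv_mem hh) hh', ?_⟩
    rw [← map_conj_map_conj, he, hQ', map_conj_map_conj, inv_mul_cancel, map_conj_one]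

/-- Let H be a subgroup of the finite group G, p a prime, k ≥ 1, and P a Sylow p-subgroup of H whose p-rank is at least k. Then N_G(X) ≤ H for every subgroup X of P of p-rank at least k if and only if H ∩ gHg⁻¹ has p-rank less than k for every g ∉ H. -/
theorem result {G : Type*} [Group G] [Finite G] {p : ℕ} [Fact p.Prime] (k : ℕ) (hk : 1 ≤ k) (H : Subgroup G) (P : Sylow p ↥H) (hP : ¬ Cfsg.PRankLE p (k - 1) ↥(P : Subgroup ↥H)) : (∀ X : Subgroup G, X ≤ (P : Subgroup ↥H).map H.subtype → ¬ Cfsg.PRankLE p (k - 1) ↥X → Subgroup.normalizer (X : Set G) ≤ H) ↔ (∀ g : G, g ∉ H → Cfsg.PRankLE p (k - 1) ↥(H ⊓ H.map (MulAut.conj g).toMonoidHom)) := by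
  set P' := (P : Subgroup ↥H).map H.subtype with hP'
  have hPbig : Big p k P' := by
    obtain ⟨A, hA⟩ := (big_iff (p := p) (k := k) (P : Subgroup ↥H)).mpr hP
    haveI := hA.2.1
    refine ⟨A.map H.subtype, Subgroup.map_mono hA.1, inferInstance, ?_, ?_⟩
    · rintro _ ⟨a, ha, rfl⟩
      rw [← map_pow, hA.2.2.1 a ha, map_one]
    · rw [Nat.card_congr (A.equivMapOfInjective H.subtype (Subgroup.subtype_injective _)).toEquiv.symm]
      exact hA.2.2.2
  constructor
  · intro hN g hg
    by_contra hbig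
    obtain ⟨A, hA, hc, hp, hcard⟩ := (big_iff (p := p) (k := k) _).mpr hbig
    haveI := hc
    have hA1 : A ≤ H := hA.trans inf_le_left
    have hA2 : A.map (MulAut.conj g⁻¹).toMonoidHom ≤ H := by
      rw [map_conj_le_iff, inv_inv]; exact hA.trans inf_le_right
    have hAp : IsPGroup p A := fun a => ⟨1, Subtype.ext (by rw [pow_one]; exact hp _ a.2)⟩
    obtain ⟨h1, hh1, hle1⟩ := LESylow.exists_conj_le_of_le hA1 hAp P
    obtain ⟨h2, hh2, hle2⟩ := LESylow.exists_conj_le_of_le hA2 (isPGroup_map_conj hAp _) P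
    rw [map_conj_map_conj] at hle2
    have hN' : ∀ X : Subgroup G, X ≤ P' → Big p k X → Subgroup.normalizer (X : Set G) ≤ H :=
      fun X hX hb => hN X hX ((big_iff X).mp hb)
    have hP'N := hN' P' le_rfl hPbig
    obtain ⟨P₀, hP₀⟩ := LESylow.exists_sylow_eq (R := P') (P.isPGroup'.map _) (by
      intro Q hQ hPQ hQN
      obtain ⟨m, -, hm⟩ := LESylow.exists_conj_le_of_le (hQN.trans hP'N) hQ P
      have h1 : Nat.card Q ≤ Nat.card P' := card_map_conj Q m ▸ Subgroup.card_le_of_le hm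
      exact (Subgroup.eq_of_le_of_card_ge hPQ h1).ge)
    set a := h2 * g⁻¹ * h1⁻¹ with ha
    obtain ⟨Q, hQ⟩ := LESylow.exists_sylow_conj P₀ a
    rw [hP₀] at hQ
    have hbigA : Big p k A := ⟨A, le_rfl, hc, hp, hcard⟩
    have hb2 : Big p k ((Q : Subgroup G) ⊓ P') := by
      refine (hbigA.conj (h2 * g⁻¹)).mono (le_inf ?_ hle2)
      rw [hQ, show h2 * g⁻¹ = a * h1 by rw [ha]; group, ← map_conj_map_conj]
      exact map_conj_mono a hle1
    obtain ⟨h, hh, he⟩ := sylow_conj_of_big P hN' Q (by rw [hQ, card_map_conj]) hb2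
    have haH : a ∈ H := by
      have hn : h⁻¹ * a ∈ Subgroup.normalizer (P' : Set G) := by
        rw [← map_conj_eq_iff_mem_normalizer, ← map_conj_map_conj, ← hQ, ← he, map_conj_map_conj,
          inv_mul_cancel, map_conj_one]
      simpa using mul_mem hh (hP'N hn)
    refine hg ?_
    have := mul_mem (mul_mem (inv_mem hh2) haH) hh1
    rw [ha] at this
    simpa [mul_assoc] using this
  · intro h X hX hb n hn
    by_contra hnH
    have hXH : X ≤ H := hX.trans (Subgroup.map_subtype_le _)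
    refine (big_iff _).mp (((big_iff X).mpr hb).mono ?_) (h n hnH)
    refine le_inf hXH ?_
    conv_lhs => rw [← map_conj_eq_iff_mem_normalizer.mpr hn]
    exact map_conj_mono n hXH

end Cfsg.Agent.S1231
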