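import Cfsg.Statements.S1233
import Cfsg.Agent.Lib.TwoGroups.CentralQuaternion

set_option autoImplicit false
open Cfsg

namespace Cfsg.Agent.S1233

/-- Let S be a finite 2-group and Q a subgroup of order 32 generated by two elementwise-commuting subgroups Q₁, Q₂ each isomorphic to the quaternion group of order 8 (so Q = Q₁ ∗ Q₂). If C_S(Q) ≤ Q, then every section of S has 2-rank at most 4. -/
theorem result {S : Type*} [Group S] [Finite S] (hS : IsPGroup 2 S) (Q Q₁ Q₂ : Subgroup S) (e₁ : Q₁ ≃* QuaternionGroup 2) (e₂ : Q₂ ≃* QuaternionGroup 2) (hcomm : ∀ a ∈ Q₁, ∀ b ∈ Q₂, a * b = b * a) (hQ : Q₁ ⊔ Q₂ = Q) (hQ32 : Nat.card Q = 32) (hC : Subgroup.centralizer (Q : Set S) ≤ Q) : Cfsg.SectionalPRankLE 2 4 S := by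
  classical
  -- generators of a quaternion subgroup
  have hgen : ∀ (R : Subgroup S) (e : R ≃* QuaternionGroup 2), ∃ i j z : S, i ∈ R ∧ j ∈ R ∧ z ∈ R ∧ z ≠ 1 ∧
      z * z = 1 ∧ i * i = z ∧ j * j = z ∧ j * i = z * (i * j) ∧ z * i = i * z ∧ z * j = j * z ∧
      (∀ c ∈ R, (∀ x ∈ R, c * x = x * c) → c = 1 ∨ c = z) ∧ Nat.card R = 8 := by
    intro R e
    have tr : ∀ p q : QuaternionGroup 2, p = q → (e.symm p : S) = e.symm q := fun p q h => by rw [h]
    have mul : ∀ p q : QuaternionGroup 2, (e.symm p : S) * e.symm q = e.symm (p * q) := fun p q => by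
      rw [map_mul, Subgroup.coe_mul]
    have one : (e.symm 1 : S) = 1 := by rw [map_one, Subgroup.coe_one]
    refine ⟨e.symm (QuaternionGroup.a 1), e.symm (QuaternionGroup.xa 0), e.symm (QuaternionGroup.a 2),
      Subtype.prop _, Subtype.prop _, Subtype.prop _, ?_, ?_, ?_, ?_, ?_, ?_, ?_, fun c hc hcen => ?_, ?_⟩
    · intro h
      rw [← one] at h
      exact absurd (e.symm.injective (Subtype.ext h)) (by decide)
    · rw [mul, ← one]; exact tr _ _ (by decide)
    · rw [mul]; exact tr _ _ (by decide)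
    · rw [mul]; exact tr _ _ (by decide)
    · rw [mul, mul, mul]; exact tr _ _ (by decide)
    · rw [mul, mul]; exact tr _ _ (by decide)
    · rw [mul, mul]; exact tr _ _ (by decide)
    · have key : ∀ q : QuaternionGroup 2, q * QuaternionGroup.a 1 = QuaternionGroup.a 1 * q →
          q * QuaternionGroup.xa 0 = QuaternionGroup.xa 0 * q → q = 1 ∨ q = QuaternionGroup.a 2 := by
        intro q
        rcases q with u | u <;> revert u <;> decide
      have h1 : ∀ p : QuaternionGroup 2, e ⟨c, hc⟩ * p = p * e ⟨c, hc⟩ := fun p => by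
        apply e.symm.injective
        rw [map_mul, map_mul, e.symm_apply_apply]
        exact Subtype.ext (hcen _ (e.symm p).2)
      rcases key _ (h1 _) (h1 _) with h | h
      · left
        have := congrArg (fun q => (e.symm q : S)) h
        simpa [one] using this
      · right
        have := congrArg (fun q => (e.symm q : S)) h
        simpa using this
    · rw [Nat.card_congr e.toEquiv, Nat.card_eq_fintype_card, QuaternionGroup.card]
  obtain ⟨i, j, z, hi, hj, hz, hz1, hzz, hii, hjj, hji, hzi, hzj, hcen, hc1⟩ := hgen Q₁ e₁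
  obtain ⟨p, r, z', hp, hr, hz', hz1', hzz', hpp, hrr, hrp, hzp, hzr, hcen', hc2⟩ := hgen Q₂ e₂
  have hle1 : Q₁ ≤ Q := hQ ▸ le_sup_left
  have hle2 : Q₂ ≤ Q := hQ ▸ le_sup_right
  have hzz_eq : z' = z := by
    have hne : ∃ c ∈ Q₁ ⊓ Q₂, c ≠ 1 := by
      by_contra hcon
      push Not at hcon
      have h := Nat.card_le_card_of_injective
        (fun t : Q₁ × Q₂ => (⟨t.1 * t.2, Q.mul_mem (hle1 t.1.2) (hle2 t.2.2)⟩ : Q)) (by
          rintro ⟨x, y⟩ ⟨x', y'⟩ he
          have he' : (x : S) * y = x' * y' := congrArg Subtype.val he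
          have e : (x' : S)⁻¹ * x = y' * (y : S)⁻¹ := by
            rw [eq_mul_inv_iff_mul_eq, mul_assoc, he', inv_mul_cancel_left]
          have h1 := hcon _ ⟨Q₁.mul_mem (Q₁.inv_mem x'.2) x.2, e ▸ Q₂.mul_mem y'.2 (Q₂.inv_mem y.2)⟩
          have hx : (x : S) = x' := (inv_mul_eq_one.1 h1).symm
          rw [hx] at he'
          exact Prod.ext (Subtype.ext hx) (Subtype.ext (mul_left_cancel he')))
      rw [Nat.card_prod, hc1, hc2, hQ32] at h
      omega
    obtain ⟨c, ⟨hcQ1, hcQ2⟩, hc⟩ := hne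
    have h1 := (hcen c hcQ1 fun x hx => (hcomm x hx c hcQ2).symm).resolve_left hc
    have h2 := (hcen' c hcQ2 fun x hx => hcomm c hcQ1 x hx).resolve_left hc
    rw [← h1, ← h2]
  subst hzz_eq
  -- normalized products
  have hpi : p * i = i * p := (hcomm i hi p hp).symm
  have hri : r * i = i * r := (hcomm i hi r hr).symm
  have hpj : p * j = j * p := (hcomm j hj p hp).symm
  have hrj : r * j = j * r := (hcomm j hj r hr).symm
  have a1 : i * z' = z' * i := hzi.symm
  have a2 : j * z' = z' * j := hzj.symm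
  have a3 : p * z' = z' * p := hzp.symm
  have a4 : r * z' = z' * r := hzr.symm
  have L : ∀ {x y t : S}, x * y = t → ∀ w, x * (y * w) = t * w := fun {x y t} h w => by rw [← mul_assoc, h]
  have n0 := L hzz
  have n1 := L hii
  have n2 := L hjj
  have n3 := L hpp
  have n4 := L hrr
  have n5 := L hji
  have n6 := L hrp
  have n7 := L hpi
  have n8 := L hri
  have n9 := L hpj
  have n10 := L hrj
  have n11 := L a1
  have n12 := L a2
  have n13 := L a3
  have n14 := L a4
  have h : Cfsg.Agent.CentralQuat.Halves z' (i * p) (j * r) (i * (j * p)) (j * (p * r)) := by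
    constructor
    case z1 => exact hz1'
    case zz => exact hzz
    all_goals (try unfold Commute SemiconjBy)
    all_goals
      simp only [mul_assoc, one_mul, mul_one, hzz, hii, hjj, hpp, hrr, hji, hrp, hpi, hri, hpj, hrj, a1, a2, a3, a4,
        n0, n1, n2, n3, n4, n5, n6, n7, n8, n9, n10, n11, n12, n13, n14]
  obtain ⟨A, hAc, hAs, hA8, hAself⟩ := Cfsg.Agent.CentralQuat.exists_self hS h hQ32 (hle1 hz)
    (Q.mul_mem (hle1 hi) (hle2 hp)) (Q.mul_mem (hle1 hj) (hle2 hr))
    (Q.mul_mem (hle1 hi) (Q.mul_mem (hle1 hj) (hle2 hp))) (Q.mul_mem (hle1 hj) (Q.mul_mem (hle2 hp) (hle2 hr)))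
    (fun x hx => hC (Subgroup.mem_centralizer_iff.2 hx))
  exact Cfsg.Agent.SquareGen.sectional_of_card_le fun H =>
    Cfsg.Agent.Harada.card_le_main hS A hAc hAs hA8 hAself H

end Cfsg.Agent.S1233
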