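import Cfsg.Statements.S1234
import Cfsg.Agent.Lib.TwoGroups.HaradaMain

set_option autoImplicit false
open Cfsg

namespace Cfsg.Agent.S1234

/-- Let S be a finite 2-group and Q ≤ S a subgroup of order 32 having an elementary abelian subgroup E of order 16 and an involution s ∉ E whose centralizer in E has order 4 (so Q ≅ (Z₂ × Z₂) ≀ Z₂). If C_S(Z(Q)) = Q, then every section of S has 2-rank at most 4. -/
theorem result {S : Type*} [Group S] [Finite S] (hS : IsPGroup 2 S) (Q E : Subgroup S) (hEQ : E ≤ Q) (hE : Cfsg.IsElementaryAbelian 2 E) (hE16 : Nat.card E = 16) (hQ32 : Nat.card Q = 32) (s : S) (hsQ : s ∈ Q) (hsE : s ∉ E) (hs : orderOf s = 2) (hfix : Nat.card ↥(E ⊓ Subgroup.centralizer ({s} : Set S)) = 4) (hC : Subgroup.centralizer (((Subgroup.center Q).map Q.subtype : Subgroup S) : Set S) = Q) : Cfsg.SectionalPRankLE 2 4 S := by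
  classical
  obtain ⟨hEc, hE2⟩ := hE
  have hs2 : s * s = 1 := by rw [← pow_two, ← hs, pow_orderOf_eq_one]
  have hEcomm : ∀ a ∈ E, ∀ b ∈ E, a * b = b * a := fun a ha b hb =>
    congrArg Subtype.val (hEc.is_comm.comm (⟨a, ha⟩ : E) ⟨b, hb⟩)
  set Z : Subgroup S := E ⊓ Subgroup.centralizer ({s} : Set S) with hZdef
  have hZs : ∀ z ∈ Z, z * s = s * z := fun z hz => Subgroup.mem_centralizer_singleton_iff.1 hz.2
  -- elements of `Q` lie in `E` or in the coset of `s`
  have hQE : ∀ x ∈ Q, x ∉ E → s * x ∈ E := fun x hx hxE =>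
    Cfsg.Agent.Harada.mul_mem_of_card hEQ (by rw [hQ32, hE16]) hsQ hx hsE hxE
  -- the centre of `Q` is `Z`
  have hcenter : (Subgroup.center Q).map Q.subtype = Z := by
    apply le_antisymm
    · rintro _ ⟨z, hz, rfl⟩
      have hzc : ∀ x ∈ Q, x * (z : S) = z * x := fun x hx =>
        congrArg Subtype.val (Subgroup.mem_center_iff.1 hz ⟨x, hx⟩)
      refine ⟨?_, Subgroup.mem_centralizer_singleton_iff.2 (hzc s hsQ).symm⟩
      by_contra hzE
      have hle : E ≤ Subgroup.centralizer ({s} : Set S) := fun e he => by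
        rw [Subgroup.mem_centralizer_singleton_iff]
        have h1 : Commute e (s * z) := hEcomm e he _ (hQE z z.2 hzE)
        have h2 : Commute e (z : S) := hzc e (hEQ he)
        have h3 := h1.mul_right h2.inv_right
        rwa [mul_inv_cancel_right] at h3
      rw [hZdef, inf_eq_left.2 hle, hE16] at hfix
      omega
    · intro z hz
      refine ⟨⟨z, hEQ hz.1⟩, Subgroup.mem_center_iff.2 fun x => Subtype.ext ?_, rfl⟩
      show (x : S) * z = z * x
      by_cases hxE : (x : S) ∈ E
      · exact hEcomm _ hxE z hz.1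
      · have e : (x : S) = s * (s * x) := by rw [← mul_assoc, hs2, one_mul]
        rw [e]
        exact ((show Commute s z from (hZs z hz).symm).mul_left
          (show Commute (s * x) z from hEcomm _ (hQE x x.2 hxE) z hz.1)).eq
  rw [hcenter] at hC
  let A : Subgroup S :=
    { carrier := {x | x ∈ Z ∨ s * x ∈ Z}
      one_mem' := Or.inl Z.one_mem
      mul_mem' := fun {x y} hx hy => by
        rcases hx with hx | hx <;> rcases hy with hy | hy
        · exact Or.inl (Z.mul_mem hx hy)
        · refine Or.inr ?_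
          rw [← mul_assoc, ← hZs x hx, mul_assoc]
          exact Z.mul_mem hx hy
        · refine Or.inr ?_
          rw [← mul_assoc]
          exact Z.mul_mem hx hy
        · refine Or.inl ?_
          have h := Z.mul_mem hx hy
          rwa [← mul_assoc, hZs _ hx, ← mul_assoc s s x, hs2, one_mul] at h
      inv_mem' := fun {x} hx => by
        rcases hx with hx | hx
        · exact Or.inl (Z.inv_mem hx)
        · refine Or.inr ?_
          have h := Z.inv_mem hx
          rw [mul_inv_rev, inv_eq_of_mul_eq_one_right hs2] at h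
          have h' := hZs _ h
          rw [mul_assoc, hs2, mul_one] at h'
          show s * x⁻¹ ∈ Z
          rw [h', ← mul_assoc, hs2, one_mul]
          exact h }
  have hZA : Z ≤ A := fun z hz => Or.inl hz
  have hsA : s ∈ A := Or.inr (by rw [hs2]; exact Z.one_mem)
  have hsZ : s ∉ Z := fun h => hsE h.1
  have hA8 : Nat.card A = 8 := by
    have hset : (A : Set S) = (Z : Set S) ∪ (fun z => s * z) '' (Z : Set S) := by
      ext x
      constructor
      · rintro (h | h)
        exacts [Or.inl h, Or.inr ⟨_, h, by show s * (s * x) = x; rw [← mul_assoc, hs2, one_mul]⟩]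
      · rintro (h | ⟨z, hz, rfl⟩)
        exacts [Or.inl h, A.mul_mem hsA (hZA hz)]
    have hdis : Disjoint (Z : Set S) ((fun z => s * z) '' (Z : Set S)) := by
      rw [Set.disjoint_right]
      rintro _ ⟨z, hz, rfl⟩ h
      exact hsZ ((Subgroup.mul_mem_cancel_right _ hz).1 h)
    have h := congrArg Set.ncard hset
    rw [Set.ncard_union_eq hdis (Set.toFinite _) (Set.toFinite _),
      Set.ncard_image_of_injective _ (mul_right_injective s), ← Nat.card_coe_set_eq, ← Nat.card_coe_set_eq] at h
    change Nat.card A = Nat.card Z + Nat.card Z at h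
    omega
  have hsq : ∀ a ∈ A, a * a = 1 := by
    rintro a (ha | ha)
    · rw [← pow_two]; exact hE2 a ha.1
    · have e : a = s * (s * a) := by rw [← mul_assoc, hs2, one_mul]
      rw [e, (show Commute (s * a) s from hZs _ ha).mul_mul_mul_comm, hs2, one_mul, ← pow_two]
      exact hE2 _ ha.1
  have hcomm : ∀ a ∈ A, ∀ b ∈ A, a * b = b * a := fun a ha b hb => by
    have h := hsq _ (A.mul_mem ha hb)
    rw [← inv_eq_of_mul_eq_one_right h, mul_inv_rev, inv_eq_of_mul_eq_one_right (hsq a ha),
      inv_eq_of_mul_eq_one_right (hsq b hb)]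
  refine Cfsg.Agent.SquareGen.sectional_of_card_le fun H =>
    Cfsg.Agent.Harada.card_le_main hS A hcomm hsq hA8 (fun x hx => ?_) H
  have hxQ : x ∈ Q := by
    rw [← hC]
    exact Subgroup.mem_centralizer_iff.2 fun z hz => hx z (hZA hz)
  have hxs : Commute x s := (hx s hsA).symm
  by_cases hxE : x ∈ E
  · exact Or.inl ⟨hxE, Subgroup.mem_centralizer_singleton_iff.2 hxs.eq⟩
  · exact Or.inr ⟨hQE x hxQ hxE,
      Subgroup.mem_centralizer_singleton_iff.2 ((Commute.refl s).mul_left hxs).eq⟩

end Cfsg.Agent.S1234
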