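import Cfsg.Statements.S1236
import Cfsg.Agent.Lib.TwoGroups.QuasiDihedral

set_option autoImplicit false
open Cfsg

namespace Cfsg.Agent.S1236

theorem dih_bound (m : ℕ) [NeZero m] {V : Subgroup (DihedralGroup m)} (hV4 : Nat.card V = 4)
    (hV2 : ∀ v ∈ V, v * v = 1) (hcomm : ∀ v ∈ V, ∀ w ∈ V, v * w = w * v) :
    Subgroup.centralizer (V : Set (DihedralGroup m)) = V := by
  classical
  let Z : Finset (ZMod m) := Finset.univ.filter fun i => i + i = 0
  have hZ : Z.card ≤ 2 := by
    refine le_trans (Finset.card_le_card (t := {0, ((m / 2 : ℕ) : ZMod m)}) fun i hi => ?_) Finset.card_le_two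
    rw [Finset.mem_insert, Finset.mem_singleton]
    rcases (ZMod.neg_eq_self_iff i).mp (neg_eq_of_add_eq_zero_left (Finset.mem_filter.mp hi).2) with h | h
    · exact Or.inl h
    · refine Or.inr ?_
      rw [show m / 2 = i.val by omega, ZMod.natCast_zmod_val]
  have hrot : ∀ i : ZMod m, DihedralGroup.r i ∈ V → i ∈ Z := fun i hi => by
    have := hV2 _ hi
    rw [DihedralGroup.r_mul_r, ← DihedralGroup.r_zero] at this
    exact Finset.mem_filter.mpr ⟨Finset.mem_univ _, DihedralGroup.r.inj this⟩
  obtain ⟨j, hj⟩ : ∃ j : ZMod m, DihedralGroup.sr j ∈ V := by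
    by_contra hcon
    push Not at hcon
    have hle : Nat.card V ≤ (Z.image DihedralGroup.r).card := by
      rw [Nat.card_eq_fintype_card, ← Finset.card_univ]
      refine Finset.card_le_card_of_injOn (fun v => (v : DihedralGroup m)) (fun v _ => ?_)
        (fun a _ b _ h => Subtype.ext h)
      rcases hv : (v : DihedralGroup m) with i | i
      · exact Finset.mem_image.mpr ⟨i, hrot i (hv ▸ v.2), hv.symm⟩
      · exact absurd (hv ▸ v.2) (hcon i)
    have := le_trans hle (le_trans Finset.card_image_le hZ)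
    omega
  have hVle : V ≤ Subgroup.centralizer (V : Set (DihedralGroup m)) := fun v hv =>
    Subgroup.mem_centralizer_iff.mpr fun w hw => hcomm w hw v hv
  refine (Subgroup.eq_of_le_of_card_ge hVle ?_).symm
  rw [hV4, Nat.card_eq_fintype_card, ← Finset.card_univ]
  let T : Finset (DihedralGroup m) :=
    Z.image DihedralGroup.r ∪ Z.image (fun i => DihedralGroup.sr (j + i))
  refine le_trans (Finset.card_le_card_of_injOn (fun v => (v : DihedralGroup m)) (t := T) (fun v _ => ?_)
    (fun a _ b _ h => Subtype.ext h)) ?_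
  · have h1 := Subgroup.mem_centralizer_iff.mp v.2 _ hj
    rcases hv : (v : DihedralGroup m) with i | i <;> rw [hv] at h1
    · refine Finset.mem_union_left _ (Finset.mem_image.mpr ⟨i, ?_, hv.symm⟩)
      rw [DihedralGroup.sr_mul_r, DihedralGroup.r_mul_sr] at h1
      refine Finset.mem_filter.mpr ⟨Finset.mem_univ _, ?_⟩
      linear_combination DihedralGroup.sr.inj h1
    · refine Finset.mem_union_right _ (Finset.mem_image.mpr ⟨i - j, ?_, ?_⟩)
      · rw [DihedralGroup.sr_mul_sr, DihedralGroup.sr_mul_sr] at h1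
        refine Finset.mem_filter.mpr ⟨Finset.mem_univ _, ?_⟩
        linear_combination DihedralGroup.r.inj h1
      · exact Eq.trans (by congr 1; ring) hv.symm
  · refine le_trans (Finset.card_union_le _ _) ?_
    have h1 : (Z.image DihedralGroup.r).card ≤ 2 := le_trans Finset.card_image_le hZ
    have h2 : (Z.image (fun i => DihedralGroup.sr (j + i))).card ≤ 2 :=
      le_trans Finset.card_image_le hZ
    omega

/-- Let R be a finite group, t a central involution of R such that R ⧸ ⟨t⟩ is dihedral (of order ≥ 4) or quasi-dihedral, and A ≤ R an elementary abelian subgroup of order 8 containing t. Then C_R(A) = A. -/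
theorem result {R : Type*} [Group R] [Finite R] (t : R) (ht : orderOf t = 2) (htz : t ∈ Subgroup.center R) [(Subgroup.zpowers t).Normal] (hq : (∃ m : ℕ, 2 ≤ m ∧ Nonempty (R ⧸ Subgroup.zpowers t ≃* DihedralGroup m)) ∨ Cfsg.IsQuasiDihedral (R ⧸ Subgroup.zpowers t)) (A : Subgroup R) (hA : Cfsg.IsElementaryAbelian 2 A) (hA8 : Nat.card A = 8) (htA : t ∈ A) : Subgroup.centralizer (A : Set R) = A := by
  set f := QuotientGroup.mk' (Subgroup.zpowers t) with hf
  set V := A.map f with hV
  have hsq : ∀ a ∈ A, a * a = 1 := fun a ha => by rw [← pow_two]; exact hA.2 a ha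
  have hAc : ∀ a ∈ A, ∀ b ∈ A, a * b = b * a := fun a ha b hb => by
    haveI := hA.1
    exact congrArg Subtype.val (mul_comm' (⟨a, ha⟩ : A) ⟨b, hb⟩)
  have hV4 : Nat.card V = 4 := by
    have h1 := (f.subgroupMap A).ker.card_mul_index
    have h2 : Nat.card (f.subgroupMap A).ker = 2 := by
      have e : (f.subgroupMap A).ker = (Subgroup.zpowers t).subgroupOf A := by
        ext a
        rw [MonoidHom.mem_ker, Subgroup.mem_subgroupOf, Subtype.ext_iff, MonoidHom.subgroupMap_apply_coe]
        exact QuotientGroup.eq_one_iff (a : R)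
      rw [e, Nat.card_congr (Subgroup.subgroupOfEquivOfLe (Subgroup.zpowers_le.mpr htA)).toEquiv,
        Nat.card_zpowers, ht]
    rw [Subgroup.index_ker, MonoidHom.range_eq_top.mpr (f.subgroupMap_surjective A), Subgroup.card_top,
      h2, hA8] at h1
    rw [hV]
    omega
  have hV2 : ∀ v ∈ V, v * v = 1 := by
    rintro _ ⟨a, ha, rfl⟩; rw [← map_mul, hsq a ha, map_one]
  have hVc : ∀ v ∈ V, ∀ w ∈ V, v * w = w * v := by
    rintro _ ⟨a, ha, rfl⟩ _ ⟨b, hb, rfl⟩; rw [← map_mul, ← map_mul, hAc a ha b hb]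
  have hcen : Subgroup.centralizer (V : Set (R ⧸ Subgroup.zpowers t)) = V := by
    rcases hq with ⟨m, hm, ⟨e⟩⟩ | hq
    · haveI : NeZero m := ⟨by omega⟩
      have h := dih_bound m (V := V.map e.toMonoidHom)
        (by rw [Subgroup.card_map_of_injective e.injective]; exact hV4)
        (by rintro _ ⟨v, hv, rfl⟩; rw [← map_mul, hV2 v hv, map_one])
        (by rintro _ ⟨v, hv, rfl⟩ _ ⟨w, hw, rfl⟩; rw [← map_mul, ← map_mul, hVc v hv w hw])
      refine le_antisymm (fun g hg => ?_) fun g hg =>
        Subgroup.mem_centralizer_iff.mpr fun w hw => hVc w hw g hg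
      have hg' : e g ∈ Subgroup.centralizer ((V.map e.toMonoidHom : Subgroup _) : Set (DihedralGroup m)) := by
        refine Subgroup.mem_centralizer_iff.mpr ?_
        rintro _ ⟨w, hw, rfl⟩
        show e w * e g = e g * e w
        rw [← map_mul, ← map_mul, Subgroup.mem_centralizer_iff.mp hg w hw]
      rw [h] at hg'
      obtain ⟨w, hw, hwg⟩ := hg'
      rwa [← e.injective hwg]
    · obtain ⟨d, -⟩ := QD.exists_pres hq
      haveI : Nontrivial V := Finite.one_lt_card_iff_nontrivial.mp (by omega)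
      refine d.klein_self_centralizing ⟨hV4, (Monoid.exponent_eq_prime_iff Nat.prime_two).mpr fun g hg =>
        orderOf_eq_prime (by rw [pow_two]; exact Subtype.ext (hV2 g.1 g.2)) hg⟩
  refine le_antisymm (fun g hg => ?_) fun g hg => Subgroup.mem_centralizer_iff.mpr fun w hw => hAc w hw g hg
  have h1 : f g ∈ V := by
    rw [← hcen]
    refine Subgroup.mem_centralizer_iff.mpr ?_
    rintro _ ⟨a, ha, rfl⟩
    rw [← map_mul, ← map_mul, Subgroup.mem_centralizer_iff.mp hg a ha]
  obtain ⟨a, ha, hag⟩ := h1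
  have h2 : a⁻¹ * g ∈ Subgroup.zpowers t := QuotientGroup.eq.mp hag
  have h3 := mul_mem ha (Subgroup.zpowers_le.mpr htA h2)
  rwa [mul_inv_cancel_left] at h3

end Cfsg.Agent.S1236
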