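import Cfsg.Statements.S1239
import Cfsg.Agent.Lib.ZStarApps.QDWreathed

set_option autoImplicit false
open Cfsg

namespace Cfsg.Agent.S1239


/-- Let X be a finite group whose Sylow 2-subgroup S is quasi-dihedral or wreathed, and suppose some involution of S is isolated in X. Then the product of the largest normal odd-order subgroup O(X) with the centre of S is normal in X. -/
theorem result {X : Type*} [Group X] [Finite X] (S : Sylow 2 X) (hS : Cfsg.IsQuasiDihedral (S : Subgroup X) ∨ Cfsg.IsWreathed (S : Subgroup X)) (z : X) (hzS : z ∈ S) (hz : Cfsg.IsIsolatedInvolution z) : (Cfsg.oddCore X ⊔ (Subgroup.center (S : Subgroup X)).map (S : Subgroup X).subtype).Normal := by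
  classical
  haveI : Fact (Nat.Prime 2) := ⟨Nat.prime_two⟩
  refine Cfsg.Agent.ZStarApps.core_sup_center_normal S hS fun c hc hco g hg => ?_
  have hiso : Cfsg.IsIsolated z := hz.2
  have hzc := fun y hy => IsolatedP.commute_of_mem hiso S.2 hzS (y := y) hy
  rw [Cfsg.Agent.ZStarApps.center_invol_unique S hS hc ⟨⟨z, hzS⟩, Subgroup.mem_center_iff.2 fun y => Subtype.ext (hzc y y.2), rfl⟩ hco hz.1] at hg ⊢
  exact IsolatedP.eq_of_conj_mem hiso S.2 hzS hg

end Cfsg.Agent.S1239
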