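import Cfsg.Statements.S1242
import Cfsg.Agent.Lib.Small.TransferHom

set_option autoImplicit false
open Cfsg

namespace Cfsg.Agent.S1242

/-- Let G be a finite group, p a prime and H a subgroup of index prime to p such that any two elements of H of p-power order that are conjugate in G are conjugate in H. Then (O^p(G)·G') ∩ H = O^p(H)·H', where O^p denotes the subgroup generated by the elements of order prime to p. -/
theorem result {G : Type*} [Group G] [Finite G] {p : ℕ} [Fact p.Prime] (H : Subgroup G) (hidx : Nat.Coprime p H.index) (hfus : ∀ g ∈ H, (∃ k : ℕ, orderOf g = p ^ k) → ∀ a : G, a * g * a⁻¹ ∈ H → ∃ h ∈ H, h * g * h⁻¹ = a * g * a⁻¹) : (Cfsg.pResidual p G ⊔ commutator G) ⊓ H = (Cfsg.pResidual p ↥H ⊔ commutator ↥H).map H.subtype := by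
  classical
  have hnH : (Cfsg.pResidual p ↥H ⊔ commutator ↥H).Normal := by
    haveI := Cfsg.Agent.PBasic.pResidual_normal_inst p ↥H
    infer_instance
  set K' := Cfsg.pResidual p ↥H ⊔ commutator ↥H with hK'
  haveI := hnH
  haveI : IsMulCommutative (↥H ⧸ K') := ⟨⟨by
    intro u v
    obtain ⟨a, rfl⟩ := QuotientGroup.mk_surjective u
    obtain ⟨b, rfl⟩ := QuotientGroup.mk_surjective v
    rw [← mul_inv_eq_one, mul_inv_rev, ← mul_assoc]
    exact (QuotientGroup.eq_one_iff (a * b * a⁻¹ * b⁻¹)).mpr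
      ((le_sup_right : commutator ↥H ≤ K')
        (Subgroup.commutator_mem_commutator (Subgroup.mem_top a) (Subgroup.mem_top b)))⟩⟩
  letI : CommGroup (↥H ⧸ K') :=
    { (inferInstance : Group (↥H ⧸ K')) with mul_comm := fun a b => Std.Commutative.comm a b }
  refine le_antisymm ?_ ?_
  · rintro x ⟨hx, hxH⟩
    obtain ⟨u, w, huw, -, -, hu, hw⟩ := Cfsg.Agent.PBasic.exists_pPart_mul (p := p) (⟨x, hxH⟩ : H)
    have hwK : w ∈ K' := le_sup_left (α := Subgroup ↥H) (Cfsg.Agent.PBasic.mem_pResidual hw)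
    have hwG : (w : G) ∈ Cfsg.pResidual p G ⊔ commutator G :=
      le_sup_left (α := Subgroup G) (Cfsg.Agent.PBasic.mem_pResidual (by rwa [Subgroup.orderOf_coe]))
    have huG : (u : G) ∈ Cfsg.pResidual p G ⊔ commutator G := by
      have e : (u : G) = x * (w : G)⁻¹ := by rw [eq_mul_inv_iff_mul_eq]; exact congrArg Subtype.val huw
      rw [e]; exact mul_mem hx (inv_mem hwG)
    refine ⟨⟨x, hxH⟩, ?_, rfl⟩
    rw [← huw]
    refine mul_mem ?_ hwK
    by_contra huK
    set φ := QuotientGroup.mk' K'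
    have h1 : φ ⟨(u : G), u.2⟩ ≠ 1 := fun h => huK ((QuotientGroup.eq_one_iff _).mp h)
    obtain ⟨k, hk⟩ := hu
    have hgp : ∃ k : ℕ, orderOf (u : G) = p ^ k := ⟨k, by rw [Subgroup.orderOf_coe]; exact hk⟩
    have h2 := Cfsg.Agent.Small.transfer_ne_one φ hidx u.2 hgp h1 (by
      intro m a ha
      have hmp : ∃ k' : ℕ, orderOf ((u : G) ^ m) = p ^ k' :=
        ((Nat.dvd_prime_pow (Fact.out : p.Prime)).mp
          ((orderOf_pow_dvd m).trans (dvd_of_eq hgp.choose_spec))).elim fun k' h => ⟨k', h.2⟩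
      obtain ⟨h, hh, he⟩ := hfus _ (pow_mem u.2 m) hmp a⁻¹ (by simpa using ha)
      have e : (⟨a⁻¹ * (u : G) ^ m * a, ha⟩ : H) = ⟨h, hh⟩ * ⟨_, pow_mem u.2 m⟩ * ⟨h, hh⟩⁻¹ :=
        Subtype.ext (by simpa using he.symm)
      rw [e, map_mul, map_mul, map_inv, mul_inv_cancel_comm])
    refine h2 ?_
    have hle : Cfsg.pResidual p G ⊔ commutator G ≤ φ.transfer.ker := by
      refine sup_le ?_ (Cfsg.Agent.Small.commutator_le_ker _)
      rw [Cfsg.pResidual, Subgroup.closure_le]
      intro y hy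
      rw [SetLike.mem_coe, MonoidHom.mem_ker]
      obtain ⟨c, hc⟩ := QuotientGroup.mk_surjective (φ.transfer y)
      rw [← hc, QuotientGroup.eq_one_iff]
      obtain ⟨c1, c2, hcc, -, -, hc1, hc2⟩ := Cfsg.Agent.PBasic.exists_pPart_mul (p := p) c
      obtain ⟨k1, hk1⟩ := hc1
      have hc2K : c2 ∈ K' := le_sup_left (α := Subgroup ↥H) (Cfsg.Agent.PBasic.mem_pResidual hc2)
      have e : (QuotientGroup.mk c1 : ↥H ⧸ K') = φ.transfer y := by
        rw [← hc, ← hcc]; exact (QuotientGroup.mk_mul_of_mem c1 hc2K).symm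
      have d1 : orderOf (φ.transfer y) ∣ p ^ k1 := by
        rw [← e, ← hk1]; exact orderOf_map_dvd (QuotientGroup.mk' K') c1
      have d2 : orderOf (φ.transfer y) ∣ orderOf y := orderOf_map_dvd _ y
      have d3 := orderOf_eq_one_iff.mp
        (Nat.eq_one_of_dvd_coprimes ((show (orderOf y).Coprime p from hy).symm.pow_left k1) d1 d2)
      rw [← hcc]
      refine mul_mem ?_ hc2K
      rw [← QuotientGroup.eq_one_iff, e, d3]
    exact hle huG
  · rw [Subgroup.map_le_iff_le_comap]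
    refine sup_le ?_ ?_
    · intro y hy
      exact ⟨le_sup_left (α := Subgroup G)
        (Cfsg.Agent.PBasic.map_pResidual_le H.subtype ⟨y, hy, rfl⟩), y.2⟩
    · intro y hy
      refine ⟨le_sup_right (α := Subgroup G) ?_, y.2⟩
      exact ((Subgroup.map_commutator _ _ H.subtype).le.trans (Subgroup.commutator_mono le_top le_top) :
        (commutator ↥H).map H.subtype ≤ commutator G) ⟨y, hy, rfl⟩

end Cfsg.Agent.S1242
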