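import Cfsg.Statements.S1243
import Cfsg.Agent.S1178

set_option autoImplicit false
open Cfsg

namespace Cfsg.Agent.S1243

/-- Let T be a Sylow p-subgroup of the finite group G and W ≤ T a subgroup weakly closed in T. If d and g d g⁻¹ both centralize W, then g d g⁻¹ = h d h⁻¹ for some h ∈ N_G(W). -/
theorem result {G : Type*} [Group G] [Finite G] {p : ℕ} [Fact p.Prime] (T : Sylow p G) (W : Subgroup G) (hW : Cfsg.IsWeaklyClosed W (T : Subgroup G)) (d g : G) (hd : d ∈ Subgroup.centralizer (W : Set G)) (hgd : g * d * g⁻¹ ∈ Subgroup.centralizer (W : Set G)) : ∃ h ∈ Subgroup.normalizer (W : Set G), h * d * h⁻¹ = g * d * g⁻¹ := by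
  set R0 := Subgroup.centralizer ({d} : Set G) with hR0
  have hWd : W ≤ R0 := fun w hw => Subgroup.mem_centralizer_singleton_iff.mpr
    (Subgroup.mem_centralizer_iff.mp hd w hw)
  have hW'd : W.map (MulAut.conj g⁻¹).toMonoidHom ≤ R0 := by
    rintro _ ⟨w, hw, rfl⟩
    have h := Subgroup.mem_centralizer_iff.mp hgd w hw
    rw [hR0, Subgroup.mem_centralizer_singleton_iff]
    simp only [MulEquiv.coe_toMonoidHom, MulAut.conj_apply, inv_inv]
    calc g⁻¹ * w * g * d = g⁻¹ * (w * (g * d * g⁻¹)) * g := by group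
      _ = g⁻¹ * (g * d * g⁻¹ * w) * g := by rw [h]
      _ = d * (g⁻¹ * w * g) := by group
  have hWp : IsPGroup p W := T.2.to_le hW.1
  obtain ⟨R, hR⟩ := (hWp.comap_subtype (K := R0)).exists_le_sylow
  obtain ⟨R₂, hR₂⟩ := ((hWp.map (MulAut.conj g⁻¹).toMonoidHom).comap_subtype (K := R0)).exists_le_sylow
  obtain ⟨c, rfl⟩ := MulAction.exists_smul_eq R0 R R₂
  obtain ⟨Q, hQ⟩ := (R.2.map R0.subtype).exists_le_sylow
  have hWQ : W ≤ Q := fun w hw => hQ ⟨⟨w, hWd hw⟩, hR hw, rfl⟩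
  have hW'Q : W.map (MulAut.conj ((c : G)⁻¹ * g⁻¹)).toMonoidHom ≤ Q := by
    rintro _ ⟨w, hw, rfl⟩
    have hm : g⁻¹ * w * g ∈ W.map (MulAut.conj g⁻¹).toMonoidHom := ⟨w, hw, by simp⟩
    have h2 := hR₂ (show (⟨g⁻¹ * w * g, hW'd hm⟩ : R0) ∈ _ from hm)
    rw [Sylow.smul_def, Sylow.pointwise_smul_def, Subgroup.mem_pointwise_smul_iff_inv_smul_mem] at h2
    exact hQ ⟨_, h2, by simp [mul_assoc]⟩
  have he := S1178.weakly_eq T W hW Q hWQ _ hW'Q
  refine ⟨g * c, ?_, ?_⟩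
  · have : (g * (c : G))⁻¹ ∈ Subgroup.normalizer (W : Set G) := by
      refine Subgroup.mem_normalizer_fintype fun w hw => ?_
      show _ ∈ W
      rw [← he]
      exact ⟨w, hw, by simp [mul_assoc]⟩
    simpa using inv_mem this
  · rw [mul_inv_rev, show g * c * d * ((c : G)⁻¹ * g⁻¹) = g * ((c : G) * d * (c : G)⁻¹) * g⁻¹ by group,
      Subgroup.mem_centralizer_singleton_iff.mp c.2, mul_inv_cancel_right]

end Cfsg.Agent.S1243
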