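import Cfsg.Statements.S1244
import Cfsg.Agent.Lib.Small.TransferHom
import Cfsg.Agent.Lib.Transfer.Abelian

set_option autoImplicit false
open Cfsg

namespace Cfsg.Agent.S1244

theorem pResidual_eq_top {G : Type*} [Group G] [Finite G] (hG : ∀ H : Subgroup G, H.index ≠ 2) :
    Cfsg.pResidual 2 G = ⊤ := by
  haveI : Fact (Nat.Prime 2) := ⟨Nat.prime_two⟩
  haveI := Cfsg.Agent.PBasic.pResidual_normal_inst 2 G
  by_contra hne
  obtain ⟨k, hk⟩ := IsPGroup.iff_card.mp (Cfsg.Agent.PBasic.quotient_pResidual_isPGroup 2 G)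
  rcases Nat.eq_zero_or_pos k with rfl | hpos
  · exact hne (Subgroup.index_eq_one.mp (by rw [Subgroup.index]; simpa using hk))
  obtain ⟨M, hM⟩ := Sylow.exists_subgroup_card_pow_prime 2 (n := k - 1)
    (show 2 ^ (k - 1) ∣ Nat.card (G ⧸ Cfsg.pResidual 2 G) by
      rw [hk]; exact pow_dvd_pow 2 (Nat.sub_le k 1))
  refine hG (M.comap (QuotientGroup.mk' _)) ?_
  rw [Subgroup.index_comap_of_surjective _ (QuotientGroup.mk'_surjective _)]
  have h := Subgroup.card_mul_index M
  rw [hM, hk] at h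
  have e : 2 ^ (k - 1) * M.index = 2 ^ (k - 1) * 2 := by
    rw [h, ← pow_succ, Nat.sub_add_cancel hpos]
  exact Nat.eq_of_mul_eq_mul_left (by positivity) e

/-- Let G be a finite group with no subgroup of index 2 whose Sylow 2-subgroup S is commutative, and let R ≤ S be a subgroup whose 2-rank is exactly one less than the 2-rank r of S. Then every involution of S is conjugate, by an element of N_G(S), to an element of R. -/
theorem result {G : Type*} [Group G] [Finite G] (hG : ∀ H : Subgroup G, H.index ≠ 2) (S : Sylow 2 G) (hS : IsMulCommutative (S : Subgroup G)) (r : ℕ) (hr1 : 1 ≤ r) (hSr : Cfsg.PRankLE 2 r (S : Subgroup G) ∧ ¬ Cfsg.PRankLE 2 (r - 1) (S : Subgroup G)) (R : Subgroup G) (hRS : R ≤ S) (hRr : Cfsg.PRankLE 2 (r - 1) R ∧ (r = 1 ∨ ¬ Cfsg.PRankLE 2 (r - 2) R)) (t : G) (ht : orderOf t = 2) (htS : t ∈ S) : ∃ n ∈ Subgroup.normalizer ((S : Subgroup G) : Set G), n * t * n⁻¹ ∈ R := by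
  classical
  haveI : Fact (Nat.Prime 2) := ⟨Nat.prime_two⟩
  haveI := hS
  have hO := pResidual_eq_top hG
  set N := Subgroup.normalizer ((S : Subgroup G) : Set G) with hN
  have hcomm : ∀ a ∈ S, ∀ b ∈ S, a * b = b * a := fun a ha b hb =>
    congrArg Subtype.val (hS.is_comm.comm (⟨a, ha⟩ : (S : Subgroup G)) ⟨b, hb⟩)
  -- no nontrivial element of `S` is fixed by `N`
  have hfix : ∀ σ ∈ S, (∀ n ∈ N, n * σ * n⁻¹ = σ) → σ = 1 := by
    intro σ hσ hfix
    by_contra hne
    letI : CommGroup ↥(S : Subgroup G) :=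
      { (inferInstance : Group ↥(S : Subgroup G)) with mul_comm := fun a b => hS.is_comm.comm a b }
    have hidx : Nat.Coprime 2 (S : Subgroup G).index :=
      (Nat.prime_two.coprime_iff_not_dvd).mpr S.not_dvd_index
    have hσp : ∃ k : ℕ, orderOf σ = 2 ^ k := by
      obtain ⟨k, hk⟩ := IsPGroup.iff_orderOf.mp S.isPGroup' ⟨σ, hσ⟩
      exact ⟨k, by rw [← Subgroup.orderOf_coe] at hk; exact hk⟩
    have h := Cfsg.Agent.Small.transfer_ne_one (MonoidHom.id ↥(S : Subgroup G)) hidx hσ hσp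
      (fun h => hne (congrArg Subtype.val h)) (by
        intro k a ha
        refine Subtype.ext ?_
        obtain ⟨v, hv, he⟩ := Cfsg.Agent.AbelianSylow.fusion_normalizer S hS (σ ^ k)
          (pow_mem hσ k) a⁻¹ (by rw [inv_inv]; exact ha)
        show a⁻¹ * σ ^ k * a = σ ^ k
        rw [inv_inv] at he
        rw [← he, ← conj_pow, hfix v hv])
    refine h ?_
    have : Cfsg.pResidual 2 G ≤ (MonoidHom.transfer (MonoidHom.id ↥(S : Subgroup G))).ker :=
      Cfsg.Agent.PBasic.pResidual_le (IsPGroup.of_equiv (S.isPGroup'.to_subgroup _)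
        (QuotientGroup.quotientKerEquivRange _).symm)
    rw [hO] at this
    exact this (Subgroup.mem_top σ)
  -- the elementary abelian group `A`
  let A : Subgroup G :=
    { carrier := {a | a ∈ (S : Subgroup G) ∧ a * a = 1}
      one_mem' := ⟨one_mem _, by simp⟩
      mul_mem' := by
        rintro a b ⟨ha, ha2⟩ ⟨hb, hb2⟩
        refine ⟨mul_mem ha hb, ?_⟩
        calc a * b * (a * b) = a * (b * a) * b := by group
          _ = (a * a) * (b * b) := by rw [hcomm b hb a ha]; group
          _ = 1 := by rw [ha2, hb2, mul_one]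
      inv_mem' := by
        rintro a ⟨ha, ha2⟩
        exact ⟨inv_mem ha, by rw [← mul_inv_rev, ha2, inv_one]⟩ }
  have hA : ∀ a, a ∈ A ↔ a ∈ (S : Subgroup G) ∧ a * a = 1 := fun a => Iff.rfl
  have hAcard : Nat.card A = 2 ^ r := by
    have h1 : Nat.card A ≤ 2 ^ r := by
      have := hSr.1 (A.subgroupOf S) inferInstance (fun a ha => by
        refine Subtype.ext ?_; rw [pow_two]; exact ((hA _).mp ha).2)
      rwa [Nat.card_congr (Subgroup.subgroupOfEquivOfLe (fun a ha => ((hA a).mp ha).1)).toEquiv] at this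
    have h2 : 2 ^ (r - 1) < Nat.card A := by
      have := hSr.2
      simp only [Cfsg.PRankLE, not_forall, not_le] at this
      obtain ⟨B, -, hB2, hB3⟩ := this
      refine hB3.trans_le ?_
      rw [← Nat.card_congr (B.equivMapOfInjective (S : Subgroup G).subtype
        (Subgroup.subtype_injective _)).toEquiv.symm]
      refine Subgroup.card_le_of_le (fun a ha => ?_)
      obtain ⟨b, hb, rfl⟩ := ha
      exact (hA _).mpr ⟨b.2, by rw [← pow_two]; exact congrArg Subtype.val (hB2 b hb)⟩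
    obtain ⟨k, hk⟩ := IsPGroup.iff_card.mp (S.isPGroup'.to_le (fun a ha => ((hA a).mp ha).1) :
      IsPGroup 2 A)
    rw [hk] at h1 h2 ⊢
    have h1' := (Nat.pow_le_pow_iff_right (le_refl 2)).mp h1
    have h2' := (Nat.pow_lt_pow_iff_right (le_refl 2)).mp h2
    congr 1; omega
  set W := R ⊓ A with hW
  have hWcard : Nat.card W = 2 ^ (r - 1) := by
    have hWR : W ≤ R := inf_le_left
    haveI : IsMulCommutative (W.subgroupOf R) := ⟨⟨fun a b => Subtype.ext (Subtype.ext
      (hcomm _ (hRS a.1.2) _ (hRS b.1.2)))⟩⟩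
    have h1 := hRr.1 (W.subgroupOf R) inferInstance (fun a ha => by
      refine Subtype.ext ?_; rw [pow_two]; exact ((hA _).mp ha.2).2)
    rw [Nat.card_congr (Subgroup.subgroupOfEquivOfLe hWR).toEquiv] at h1
    rcases hRr.2 with rfl | h
    · simp only [Nat.sub_self, pow_zero] at h1 ⊢
      exact le_antisymm h1 Nat.card_pos
    · simp only [Cfsg.PRankLE, not_forall, not_le] at h
      obtain ⟨B, -, hB2, hB3⟩ := h
      have h2 : 2 ^ (r - 2) < Nat.card W := by
        refine hB3.trans_le ?_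
        rw [← Nat.card_congr (B.equivMapOfInjective R.subtype
          (Subgroup.subtype_injective _)).toEquiv.symm]
        refine Subgroup.card_le_of_le (fun a ha => ?_)
        obtain ⟨b, hb, rfl⟩ := ha
        exact ⟨b.2, (hA _).mpr ⟨hRS b.2, by rw [← pow_two]; exact congrArg Subtype.val (hB2 b hb)⟩⟩
      obtain ⟨k, hk⟩ := IsPGroup.iff_card.mp ((S.isPGroup'.to_le hRS).to_le hWR : IsPGroup 2 W)
      rw [hk] at h1 h2 ⊢
      have h1' := (Nat.pow_le_pow_iff_right (le_refl 2)).mp h1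
      have h2' := (Nat.pow_lt_pow_iff_right (le_refl 2)).mp h2
      congr 1; omega
  have hWA : W ≤ A := inf_le_right
  have hW2 : (W.subgroupOf A).index = 2 := by
    have h := Subgroup.card_mul_index (W.subgroupOf A)
    rw [Nat.card_congr (Subgroup.subgroupOfEquivOfLe hWA).toEquiv, hWcard, hAcard] at h
    refine Nat.eq_of_mul_eq_mul_left (show 0 < 2 ^ (r - 1) by positivity) ?_
    rw [h, ← pow_succ, Nat.sub_add_cancel hr1]
  by_contra hcon
  push Not at hcon
  -- product over the cosets of `S` in `N`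
  set S' := (S : Subgroup G).subgroupOf N with hS'
  have htA : t ∈ A := (hA t).mpr ⟨htS, by rw [← pow_two, ← ht]; exact pow_orderOf_eq_one t⟩
  have hmemA : ∀ n ∈ N, ∀ a ∈ A, n * a * n⁻¹ ∈ A := fun n hn a ha =>
    (hA _).mpr ⟨(Subgroup.mem_normalizer_iff.mp hn a).mp ((hA a).mp ha).1, by
      calc n * a * n⁻¹ * (n * a * n⁻¹) = n * (a * a) * n⁻¹ := by group
        _ = 1 := by rw [((hA a).mp ha).2]; group⟩
  haveI : IsMulCommutative A := ⟨⟨fun a b => Subtype.ext
    (hcomm _ ((hA _).mp a.2).1 _ ((hA _).mp b.2).1)⟩⟩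
  letI : CommGroup A :=
    { (inferInstance : Group A) with mul_comm := fun a b => Std.Commutative.comm a b }
  letI : Fintype (N ⧸ S') := Fintype.ofFinite _
  let f : N ⧸ S' → A := fun q => ⟨(q.out : G) * t * (q.out : G)⁻¹, hmemA _ q.out.2 t htA⟩
  have hpar : ∀ u : Finset (N ⧸ S'), (∏ q ∈ u, f q) ∈ W.subgroupOf A ↔ Even u.card := by
    intro u
    induction u using Finset.induction_on with
    | empty => simp
    | @insert q v hq ih =>
      rw [Finset.prod_insert hq, Subgroup.mul_mem_iff_of_index_two hW2, Finset.card_insert_of_notMem hq,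
        Nat.even_add_one, ← ih]
      have hfq : f q ∉ W.subgroupOf A := fun h => hcon _ q.out.2 h.1
      tauto
  set σ := ∏ q : N ⧸ S', f q with hσ
  have hodd : Odd (Fintype.card (N ⧸ S')) := by
    rw [← Nat.card_eq_fintype_card, ← Nat.not_even_iff_odd, even_iff_two_dvd]
    intro h
    refine S.not_dvd_index ?_
    rw [← Subgroup.relIndex_mul_index (Subgroup.le_normalizer : (S : Subgroup G) ≤ N)]
    exact dvd_mul_of_dvd_left h _
  have hσW : σ ∉ W.subgroupOf A := fun h => by
    have := (hpar Finset.univ).mp h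
    rw [Finset.card_univ] at this
    exact (Nat.not_even_iff_odd.mpr hodd) this
  refine hσW ?_
  suffices h : σ = 1 by rw [h]; exact one_mem _
  refine Subtype.ext (hfix _ ((hA _).mp σ.2).1 ?_)
  intro n hn
  let c : A →* A := MonoidHom.mk' (fun a => ⟨n * a * n⁻¹, hmemA n hn a a.2⟩)
    (fun a b => Subtype.ext (by show n * (a * b : G) * n⁻¹ = _; simp only [Subgroup.coe_mul]; group))
  show ((c σ : A) : G) = σ
  congr 1
  rw [hσ, map_prod]
  refine Fintype.prod_equiv (MulAction.toPerm (⟨n, hn⟩ : N)) _ _ fun q => Subtype.ext ?_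
  show n * ((q.out : G) * t * (q.out : G)⁻¹) * n⁻¹ = _
  have hmem : ((⟨n, hn⟩ : N) * q.out)⁻¹ * ((⟨n, hn⟩ : N) • q).out ∈ S' := by
    rw [← QuotientGroup.eq, ← smul_eq_mul, ← MulAction.Quotient.smul_mk, QuotientGroup.out_eq',
      QuotientGroup.out_eq']
  set o := ((⟨n, hn⟩ : N) • q).out with ho
  have hs : ((n * (q.out : G))⁻¹ * (o : G)) ∈ (S : Subgroup G) := hmem
  show _ = (o : G) * t * (o : G)⁻¹
  have hco := hcomm _ hs _ htS
  calc n * ((q.out : G) * t * (q.out : G)⁻¹) * n⁻¹
      = n * (q.out : G) * (t * ((n * (q.out : G))⁻¹ * (o : G))) * (o : G)⁻¹ := by group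
    _ = _ := by rw [← hco]; group

end Cfsg.Agent.S1244
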