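import Cfsg.Statements.S1246
import Cfsg.Agent.Lib.Techniques.CharP
import Cfsg.Agent.Lib.LocalEven.CharPAux

set_option autoImplicit false
open Cfsg

namespace Cfsg.Agent.S1246

open Cfsg.Agent.CharP in
theorem isCharP_centralizer_mono {G : Type*} [Group G] [Finite G] {p : ℕ} [Fact p.Prime]
    {U : Subgroup G} (hU : IsPGroup p U) : ∀ W : Subgroup G, W ≤ U →
      IsCharP p ↥(Subgroup.centralizer (W : Set G)) →
      IsCharP p ↥(Subgroup.centralizer (U : Set G)) := by
    intro W
    induction W using WellFoundedGT.induction with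
    | ind W ih =>
      intro hW hC
      by_cases hWU : W = U
      · exact hWU ▸ hC
      haveI : Group.IsNilpotent U := hU.isNilpotent
      have hlt := Group.normalizerCondition_of_isNilpotent (G := U) (W.subgroupOf U)
        (lt_top_iff_ne_top.2 fun h => hWU (le_antisymm hW (Subgroup.subgroupOf_eq_top.1 h)))
      obtain ⟨⟨y, hyU⟩, hyN, hyW⟩ := SetLike.exists_of_lt hlt
      set W1 := U ⊓ Subgroup.normalizer (W : Set G) with hW1
      have hWW1 : W ≤ W1 := le_inf hW Subgroup.le_normalizer
      have hy1 : y ∈ W1 := by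
        refine ⟨hyU, Subgroup.mem_normalizer_iff.2 fun w => ?_⟩
        by_cases hwU : w ∈ U
        · simpa [Subgroup.mem_subgroupOf] using Subgroup.mem_normalizer_iff.1 hyN ⟨w, hwU⟩
        · exact ⟨fun h => absurd (hW h) hwU, fun h => absurd (by
            simpa [mul_assoc] using mul_mem (mul_mem (inv_mem hyU) (hW h)) hyU) hwU⟩
      refine ih W1 (lt_of_le_of_ne hWW1 fun h => hyW ?_) inf_le_left ?_
      · rw [Subgroup.mem_subgroupOf]; exact h.symm ▸ hy1
      · have h1 := isCharP_inf_centralizer hC (hU.to_le (inf_le_left : W1 ≤ U))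
          (inf_le_right.trans (Subgroup.le_normalizer_iff.2 fun g hg c hc => ?_))
        · rwa [inf_eq_right.2 (Subgroup.centralizer_le hWW1)] at h1
        · rw [Subgroup.mem_centralizer_iff]
          intro w hw
          have hw' := (Subgroup.mem_normalizer_iff.1 (inv_mem hg) w).1 hw
          rw [inv_inv] at hw'
          calc w * (g * c * g⁻¹) = g * ((g⁻¹ * w * g) * c) * g⁻¹ := by group
            _ = g * (c * (g⁻¹ * w * g)) * g⁻¹ := by rw [Subgroup.mem_centralizer_iff.1 hc _ hw']
            _ = g * c * g⁻¹ * w := by group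

/-- Let V ≤ U be p-subgroups of the finite group G. If the generalized Fitting subgroup of C_G(V) is a p-group, then so is that of C_G(U). -/
theorem result {G : Type*} [Group G] [Finite G] {p : ℕ} [Fact p.Prime] (U V : Subgroup G) (hVU : V ≤ U) (hU : IsPGroup p U) (hV : IsPGroup p ↥(Cfsg.generalizedFittingSubgroup ↥(Subgroup.centralizer (V : Set G)))) : IsPGroup p ↥(Cfsg.generalizedFittingSubgroup ↥(Subgroup.centralizer (U : Set G))) := by
  have h1 : Cfsg.generalizedFittingSubgroup ↥(Subgroup.centralizer (V : Set G)) =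
      Cfsg.pCore p ↥(Subgroup.centralizer (V : Set G)) := by
    refine le_antisymm (Cfsg.Agent.PBasic.le_pCore ?_ hV) ?_
    · exact Cfsg.Agent.Components.generalizedFitting_normal
    · exact le_sup_of_le_right (le_sSup ⟨inferInstance, (Cfsg.Agent.PBasic.pCore_isPGroup p _).isNilpotent⟩)
  have h2 := isCharP_centralizer_mono hU V hVU (Cfsg.Agent.LECharP.fstar_eq_iff.1 h1)
  rw [Cfsg.Agent.CharP.generalizedFittingSubgroup_eq h2]
  exact Cfsg.Agent.PBasic.pCore_isPGroup p _

end Cfsg.Agent.S1246
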