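import Cfsg.Statements.S1248
import Cfsg.Agent.Lib.SU3Sylow.Embed

set_option autoImplicit false
open Cfsg

namespace Cfsg.Agent.S1248

open Cfsg.Agent.SU3Sylow Cfsg.Agent.Hermitian
open scoped commutatorElement

theorem aux {F : Type*} [Field F] [CharP F 2] [Finite F] {σ : F →+* F} [Inv2 σ]
    (hne : σ ≠ RingHom.id F) (hq : Nat.card (fixed σ) = 4) {S : Type*} [Group S] (e : S ≃* Heis σ) :
    Nat.card S = 64 ∧ IsKleinFour (Subgroup.center S) ∧
      Subgroup.center S = Subgroup.closure {x : S | orderOf x = 2} ∧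
      Subgroup.center S = commutator S ∧ Nat.card (S ⧸ Subgroup.center S) = 16 ∧
      ∀ x : S ⧸ Subgroup.center S, x ^ 2 = 1 := by
  haveI := Fintype.ofFinite F
  haveI : Finite S := Finite.of_equiv _ e.symm.toEquiv
  have hmem : ∀ x : S, x ∈ Subgroup.center S ↔ (e x).a = 0 := fun x => by
    rw [← Heis.mem_center_iff hne, Subgroup.mem_center_iff, Subgroup.mem_center_iff]
    refine ⟨fun h y => ?_, fun h y => e.injective (by rw [map_mul, map_mul]; exact h (e y))⟩
    rw [← e.apply_symm_apply y, ← map_mul, ← map_mul, h (e.symm y)]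
  have hsq : ∀ x : S, x * x = 1 ↔ (e x).a = 0 := fun x => by
    rw [← Heis.mul_self_eq_one_iff, ← map_mul, e.map_eq_one_iff]
  have hS : Nat.card S = 64 := by rw [Nat.card_congr e.toEquiv, Heis.card_eq hne hq]; norm_num
  have hZ : Nat.card (Subgroup.center S) = 4 := by
    rw [Nat.card_congr (Subgroup.centerCongr e).toEquiv, Heis.card_center hne hq]
  have hsqq : ∀ x : S, x * x ∈ Subgroup.center S := fun x => by
    rw [hmem, map_mul, Heis.mul_a, CharTwo.add_self_eq_zero]
  refine ⟨hS, ⟨hZ, ?_⟩, ?_, ?_, ?_, ?_⟩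
  · haveI : Nontrivial (Subgroup.center S) := Finite.one_lt_card_iff_nontrivial.1 (by omega)
    refine Monoid.exponent_eq_prime_iff Nat.prime_two |>.2 fun g hg => orderOf_eq_prime ?_ hg
    refine Subtype.ext ?_
    rw [Subgroup.coe_pow, Subgroup.coe_one, pow_two]
    exact (hsq _).2 ((hmem _).1 g.2)
  · refine le_antisymm (fun x hx => ?_) ((Subgroup.closure_le _).2 fun x hx => ?_)
    · by_cases h1 : x = 1
      · rw [h1]; exact one_mem _
      · refine Subgroup.subset_closure (orderOf_eq_prime ?_ h1)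
        rw [pow_two]; exact (hsq x).2 ((hmem x).1 hx)
    · exact (hmem x).2 ((hsq x).1 (by rw [← pow_two]; exact (orderOf_eq_iff (by norm_num)).1 hx |>.1))
  · refine le_antisymm (fun x hx => ?_) (Subgroup.commutator_le.2 fun x _ y _ => ?_)
    · obtain ⟨c, hc⟩ := exists_trace hne Inv2.inv2 (x := (e x).b) (Heis.b_fixed ((hmem x).1 hx))
      obtain ⟨u, hu⟩ := Heis.exists_mk (σ := σ) hne 1
      obtain ⟨v, hv⟩ := Heis.exists_mk (σ := σ) hne c
      have : x = ⁅e.symm u, e.symm v⁆ := e.injective (by
        rw [map_commutatorElement, e.apply_symm_apply, e.apply_symm_apply, commutatorElement_def]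
        have h1 := u.eq
        have h2 := v.eq
        rw [hu, map_one, mul_one] at h1
        rw [hv] at h2
        refine Heis.ext ?_ ?_
        · simp only [(hmem x).1 hx, Heis.mul_a, Heis.inv_a, hu, hv]
          linear_combination -(1 + c) * (CharTwo.two_eq_zero (R := F))
        · simp only [Heis.mul_b, Heis.mul_a, Heis.inv_a, Heis.inv_b, hu, hv, map_add, map_one]
          linear_combination -h1 - h2 - hc - c * (CharTwo.two_eq_zero (R := F)))
      rw [this]
      exact Subgroup.commutator_mem_commutator (Subgroup.mem_top _) (Subgroup.mem_top _)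
    · rw [hmem, map_commutatorElement, commutatorElement_def]
      simp only [Heis.mul_a, Heis.inv_a]
      linear_combination ((e x).a + (e y).a) * (CharTwo.two_eq_zero (R := F))
  · have h := Subgroup.card_eq_card_quotient_mul_card_subgroup (Subgroup.center S)
    rw [hS, hZ] at h
    omega
  · intro x
    obtain ⟨y, rfl⟩ := QuotientGroup.mk_surjective x
    rw [← QuotientGroup.mk_pow, QuotientGroup.eq_one_iff, pow_two]
    exact hsqq y

/-- Let F be a field with 16 elements and S a Sylow 2-subgroup of PSU(3) over F (the unitary group U₃(4)). Then |S| = 64; the centre Z(S) is a Klein four-group and coincides with the subgroup generated by the involutions of S and with the derived subgroup; and every element of S ⧸ Z(S) squares to the identity, S ⧸ Z(S) having order 16. -/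
theorem result {F : Type*} [Field F] [Fintype F] (hF : Fintype.card F = 16) (S : Sylow 2 (Cfsg.PSU 3 F 4)) : Nat.card S = 64 ∧ IsKleinFour (Subgroup.center (S : Subgroup (Cfsg.PSU 3 F 4))) ∧ Subgroup.center (S : Subgroup (Cfsg.PSU 3 F 4)) = Subgroup.closure {x : (S : Subgroup (Cfsg.PSU 3 F 4)) | orderOf x = 2} ∧ Subgroup.center (S : Subgroup (Cfsg.PSU 3 F 4)) = commutator (S : Subgroup (Cfsg.PSU 3 F 4)) ∧ Nat.card ((S : Subgroup (Cfsg.PSU 3 F 4)) ⧸ Subgroup.center (S : Subgroup (Cfsg.PSU 3 F 4))) = 16 ∧ ∀ x : (S : Subgroup (Cfsg.PSU 3 F 4)) ⧸ Subgroup.center (S : Subgroup (Cfsg.PSU 3 F 4)), x ^ 2 = 1 := by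
  have hF' : Fintype.card F = (2 ^ 2) ^ 2 := by rw [hF]; norm_num
  obtain ⟨_, σ, _, hne, hσ, hq⟩ := setup (by norm_num) hF'
  obtain ⟨e⟩ := sylow_PSU_equiv hne (n := 2) (by norm_num) hσ hq S
  exact aux hne hq e

end Cfsg.Agent.S1248
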