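import Cfsg.Statements.S1250
import Mathlib.GroupTheory.Sylow
import Mathlib.GroupTheory.QuotientGroup.Basic

set_option autoImplicit false
open Cfsg

namespace Cfsg.Agent.S1250

/-- Let S be a Sylow p-subgroup of the finite group G, A ≤ S strongly closed in S, and N a normal subgroup. Then the image of A in G ⧸ N is strongly closed in the image of S (which is a Sylow p-subgroup of G ⧸ N). -/
theorem result {G : Type*} [Group G] [Finite G] {p : ℕ} [Fact p.Prime] (S : Sylow p G) (A : Subgroup G) (hA : Cfsg.IsStronglyClosed A (S : Subgroup G)) (N : Subgroup G) [N.Normal] : Cfsg.IsStronglyClosed (A.map (QuotientGroup.mk' N)) ((S : Subgroup G).map (QuotientGroup.mk' N)) := by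
  refine ⟨Subgroup.map_mono hA.1, ?_⟩
  rintro _ ⟨x, hx, rfl⟩ y hy
  induction y using QuotientGroup.induction_on with
  | _ g =>
    obtain ⟨s, hs, hseq⟩ := hy
    set v := g * x * g⁻¹ with hv
    have hK : v ∈ (S : Subgroup G) ⊔ N := by
      have : s⁻¹ * v ∈ N := by
        rw [← QuotientGroup.eq]
        exact hseq
      rw [← mul_inv_cancel_left s v]
      exact mul_mem (le_sup_left (a := (S : Subgroup G)) (b := N) hs)
        (le_sup_right (a := (S : Subgroup G)) (b := N) this)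
    set K := (S : Subgroup G) ⊔ N with hKdef
    have hp : IsPGroup p (Subgroup.zpowers (⟨v, hK⟩ : K)) := by
      obtain ⟨k, hk⟩ := IsPGroup.iff_orderOf.mp S.2 ⟨x, hA.1 hx⟩
      rw [Subgroup.orderOf_mk] at hk
      refine IsPGroup.of_card (n := k) ?_
      rw [Nat.card_zpowers, Subgroup.orderOf_mk, hv,
        show g * x * g⁻¹ = MulAut.conj g x from rfl, MulEquiv.orderOf_eq, hk]
    obtain ⟨T, hT⟩ := hp.exists_le_sylow
    obtain ⟨d, rfl⟩ := MulAction.exists_smul_eq K (S.subtype le_sup_left) T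
    have hd := hT (Subgroup.mem_zpowers _)
    rw [Sylow.smul_def, Sylow.pointwise_smul_def, Subgroup.mem_pointwise_smul_iff_inv_smul_mem,
      Sylow.coe_subtype, Subgroup.mem_subgroupOf] at hd
    obtain ⟨n, hn, w, hw, hnw⟩ : ∃ n ∈ N, ∃ w ∈ (S : Subgroup G), (d : G) = n * w := by
      have h0 : (d : G) ∈ (S : Subgroup G) ⊔ N := d.2
      have : (d : G) ∈ N ⊔ (S : Subgroup G) := by rwa [sup_comm]
      obtain ⟨n, hn, w, hw, h⟩ := Subgroup.mem_sup_of_normal_left.mp this
      exact ⟨n, hn, w, hw, h.symm⟩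
    have hd' : (d : G)⁻¹ * v * d ∈ (S : Subgroup G) := by simpa [mul_assoc] using hd
    have hnv : n⁻¹ * v * n ∈ (S : Subgroup G) := by
      have := mul_mem (mul_mem hw hd') (inv_mem hw)
      rwa [hnw, show w * ((n * w)⁻¹ * v * (n * w)) * w⁻¹ = n⁻¹ * v * n by group] at this
    have hmemA : n⁻¹ * g * x * (n⁻¹ * g)⁻¹ ∈ A := by
      refine hA.2 x hx (n⁻¹ * g) ?_
      rwa [show n⁻¹ * g * x * (n⁻¹ * g)⁻¹ = n⁻¹ * v * n by rw [hv]; group]
    refine ⟨_, hmemA, ?_⟩
    simp [(QuotientGroup.eq_one_iff n).mpr hn]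

end Cfsg.Agent.S1250
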