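import Cfsg.Statements.S1251
import Cfsg.Agent.Lib.BrauerSuzuki.TwoElements

set_option autoImplicit false
open Cfsg

namespace Cfsg.Agent.S1251
open scoped Pointwise


/-- Let S be a Sylow 2-subgroup of the finite group G and A ≤ S strongly closed in S. If H is a subgroup normalized by A with no nontrivial normal subgroup of odd order and A ∩ H = 1, then A ≤ C_G(H). -/
theorem result {G : Type*} [Group G] [Finite G] (S : Sylow 2 G) (A : Subgroup G) (hA : Cfsg.IsStronglyClosed A (S : Subgroup G)) (H : Subgroup G) (hAH : A ≤ Subgroup.normalizer (H : Set G)) (hO : Cfsg.oddCore ↥H = ⊥) (hdisj : A ⊓ H = ⊥) : A ≤ Subgroup.centralizer (H : Set G) := by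
  haveI : Fact (Nat.Prime 2) := ⟨Nat.prime_two⟩
  intro a ha
  rw [Subgroup.mem_centralizer_iff]
  intro h₀ hh₀
  have hA2 : IsPGroup 2 A := S.2.to_le hA.1
  obtain ⟨i, hi⟩ := IsPGroup.iff_orderOf.1 hA2 ⟨a, ha⟩
  rw [Subgroup.orderOf_mk] at hi
  set Z := Subgroup.zpowers a with hZdef
  have hZA : Z ≤ A := Subgroup.zpowers_le.2 ha
  have hZN : Z ≤ Subgroup.normalizer (H : Set G) := hZA.trans hAH
  set L := H ⊔ Z with hLdef
  have haL : a ∈ L := Subgroup.mem_sup_right (Subgroup.mem_zpowers a)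
  have hHL : H ≤ L := le_sup_left
  have hdec : ∀ x ∈ L, ∃ h ∈ H, ∃ z ∈ Z, h * z = x := by
    intro x hx
    have h1 : ((H ⊔ Z : Subgroup G) : Set G) = (H : Set G) * (Z : Set G) :=
      Subgroup.coe_mul_of_right_le_normalizer_left H Z hZN
    exact Set.mem_mul.1 (h1 ▸ hx : x ∈ (H : Set G) * (Z : Set G))
  -- a Sylow subgroup of `H A` containing `A`
  set M := H ⊔ A with hMdef
  have hHM : H ≤ M := le_sup_left
  have hAM : A ≤ M := le_sup_right
  have hMN : M ≤ Subgroup.normalizer (H : Set G) := sup_le Subgroup.le_normalizer hAH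
  obtain ⟨T, hT⟩ := (hA2.comap_subtype (K := M)).exists_le_sylow
  set T' := (T : Subgroup M).map M.subtype with hT'def
  have hT'2 : IsPGroup 2 T' := T.2.map _
  have hAT : A ≤ T' := fun x hx => ⟨⟨x, hAM hx⟩, hT hx, rfl⟩
  have hclosed : ∀ g x : G, x ∈ A → g * x * g⁻¹ ∈ T' → g * x * g⁻¹ ∈ A := by
    intro g x hx hgx
    obtain ⟨Q, hQ⟩ := hT'2.exists_le_sylow
    obtain ⟨k, hk⟩ := MulAction.exists_smul_eq G Q S
    have hm : ∀ {z}, z ∈ (Q : Subgroup G) → k * z * k⁻¹ ∈ (S : Subgroup G) := by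
      intro z hz
      rw [← hk, Sylow.coe_subgroup_smul]
      exact Subgroup.smul_mem_pointwise_smul z (MulAut.conj k) _ hz
    have hmap : A.map (MulAut.conj k).toMonoidHom = A := by
      refine Subgroup.eq_of_le_of_card_ge ?_
        (Subgroup.card_map_of_injective (MulAut.conj k).injective).ge
      rintro _ ⟨z, hz, rfl⟩
      exact hA.2 z hz k (hm (hQ (hAT hz)))
    have h1 : k * (g * x * g⁻¹) * k⁻¹ ∈ A := by
      have e : k * (g * x * g⁻¹) * k⁻¹ = k * g * x * (k * g)⁻¹ := by group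
      rw [e]
      exact hA.2 x hx _ (e ▸ hm (hQ hgx))
    obtain ⟨z, hz, hze⟩ := hmap.ge h1
    have : z = g * x * g⁻¹ := (MulAut.conj k).injective hze
    rwa [← this]
  have hdisj' : ∀ x, x ∈ A → x ∈ H → x = 1 := fun x h1 h2 =>
    Subgroup.mem_bot.1 (hdisj ▸ Subgroup.mem_inf.2 ⟨h1, h2⟩)
  have hcomm : ∀ t ∈ T' ⊓ H, t * a = a * t := by
    intro t ht
    have h1 : t * a * t⁻¹ ∈ T' := mul_mem (mul_mem ht.1 (hAT ha)) (inv_mem ht.1)
    have h2 : t * a * t⁻¹ * a⁻¹ = 1 := hdisj' _ (mul_mem (hclosed t a ha h1) (inv_mem ha)) (by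
      rw [show t * a * t⁻¹ * a⁻¹ = t * (a * t⁻¹ * a⁻¹) by group]
      exact mul_mem ht.2 ((Subgroup.mem_normalizer_iff.1 (hAH ha) _).1 (inv_mem ht.2)))
    exact mul_inv_eq_iff_eq_mul.1 (mul_inv_eq_one.1 h2)
  have hcomm' : T' ⊓ H ≤ Subgroup.normalizer (Z : Set G) := fun t ht =>
    Subgroup.centralizer_le_normalizer _ (Subgroup.mem_centralizer_iff.2 fun z hz => by
      obtain ⟨j, rfl⟩ := Subgroup.mem_zpowers_iff.1 hz
      exact ((show Commute t a from hcomm t ht).zpow_right j).eq.symm)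
  have hP0 : IsPGroup 2 (T' ⊓ H ⊔ Z : Subgroup G) :=
    IsPGroup.to_sup_of_normal_right' (hT'2.to_le inf_le_left) (hA2.to_le hZA) hcomm'
  have hP0L : T' ⊓ H ⊔ Z ≤ L := sup_le (inf_le_right.trans hHL) le_sup_right
  obtain ⟨P, hP⟩ := (hP0.comap_subtype (K := L)).exists_le_sylow
  set P' := (P : Subgroup L).map L.subtype with hP'def
  have hP'2 : IsPGroup 2 P' := P.2.map _
  have hP'L : P' ≤ L := Subgroup.map_subtype_le _
  have hle : T' ⊓ H ⊔ Z ≤ P' := fun x hx => ⟨⟨x, hP0L hx⟩, hP hx, rfl⟩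
  have hR : P' ⊓ H = T' ⊓ H := by
    refine (Subgroup.eq_of_le_of_card_ge
      (le_inf (le_sup_left.trans hle) inf_le_right) ?_).symm
    obtain ⟨T1, hT1⟩ := ((hP'2.to_le inf_le_left : IsPGroup 2 (P' ⊓ H : Subgroup G)).comap_subtype
      (K := M)).exists_le_sylow
    obtain ⟨m, hm⟩ := MulAction.exists_smul_eq M T1 T
    have hsub : (P' ⊓ H).map (MulAut.conj (m : G)).toMonoidHom ≤ T' ⊓ H := by
      rintro _ ⟨x, hx, rfl⟩
      refine ⟨⟨m * ⟨x, hHM hx.2⟩ * m⁻¹, ?_, rfl⟩,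
        (Subgroup.mem_normalizer_iff.1 (hMN m.2) x).1 hx.2⟩
      rw [← hm, Sylow.coe_subgroup_smul]
      exact Subgroup.smul_mem_pointwise_smul _ (MulAut.conj m) _ (hT1 hx)
    exact le_trans (Subgroup.card_map_of_injective (MulAut.conj (m : G)).injective).ge
      (Subgroup.card_le_of_le hsub)
  have hP'T : P' ≤ T' := by
    intro x hx
    obtain ⟨h, hh, z, hz, rfl⟩ := hdec x (hP'L hx)
    have hzP : z ∈ P' := hle (Subgroup.mem_sup_right hz)
    have h1 : h ∈ P' ⊓ H := ⟨by simpa using mul_mem hx (inv_mem hzP), hh⟩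
    rw [hR] at h1
    exact mul_mem h1.1 (hAT (hZA hz))
  have hfix : BrauerSuzuki.Fixed (⟨a, haL⟩ : L) := by
    refine BrauerSuzuki.fixed_of_sylow (S := P)
      (hP (Subgroup.mem_sup_right (Subgroup.mem_zpowers a))) fun g hg => Subtype.ext ?_
    have h1 : (g : G) * a * (g : G)⁻¹ ∈ A := hclosed _ a ha (hP'T ⟨_, hg, by simp⟩)
    obtain ⟨h, hh, z, hz, hgz⟩ := hdec _ g.2
    have hza : z * a * z⁻¹ = a := by
      obtain ⟨j, rfl⟩ := Subgroup.mem_zpowers_iff.1 hz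
      group
    have h2 : (g : G) * a * (g : G)⁻¹ = h * a * h⁻¹ := by
      rw [← hgz, show h * z * a * (h * z)⁻¹ = h * (z * a * z⁻¹) * h⁻¹ by group, hza]
    rw [h2] at h1
    show (g : G) * a * (g : G)⁻¹ = a
    rw [h2]
    refine mul_inv_eq_one.1 (hdisj' _ (mul_mem h1 (inv_mem ha)) ?_)
    rw [show h * a * h⁻¹ * a⁻¹ = h * (a * h⁻¹ * a⁻¹) by group]
    exact mul_mem hh ((Subgroup.mem_normalizer_iff.1 (hAH ha) _).1 (inv_mem hh))
  have hz := BrauerSuzuki.zStar_two_element L ⟨a, haL⟩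
    ⟨i, by rw [← Subgroup.orderOf_coe]; exact hi⟩ hfix ⟨h₀, hHL hh₀⟩
  -- the core of `L` lies in the core of `H`
  set c : L := ⟨h₀, hHL hh₀⟩ * ⟨a, haL⟩ * ⟨h₀, hHL hh₀⟩⁻¹ * ⟨a, haL⟩⁻¹ with hc
  haveI hOn : (Cfsg.pPrimeCore 2 L).Normal := Cfsg.Agent.FittingCores.pPrimeCore_normal 2
  have hHn : ∀ x ∈ L, ∀ h ∈ H, x * h * x⁻¹ ∈ H := by
    intro x hx h hh
    exact (Subgroup.mem_normalizer_iff.1
      (sup_le (Subgroup.le_normalizer) hZN hx) h).1 hh
  haveI : (H.subgroupOf L).Normal := ⟨fun h hh x => hHn x x.2 h hh⟩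
  have hOH : Cfsg.pPrimeCore 2 L ≤ H.subgroupOf L := by
    intro x hx
    rw [← QuotientGroup.eq_one_iff, ← orderOf_eq_one_iff]
    have h3 : orderOf (x : L ⧸ H.subgroupOf L) ∣ Nat.card (Cfsg.pPrimeCore 2 L) :=
      (orderOf_map_dvd (QuotientGroup.mk' _) x).trans (Subgroup.orderOf_dvd_natCard _ hx)
    have h4 : orderOf (x : L ⧸ H.subgroupOf L) ∣ 2 ^ i := by
      obtain ⟨h, hh, z, hz, hxz⟩ := hdec _ x.2
      have hx' : x = ⟨h, hHL hh⟩ * ⟨z, Subgroup.mem_sup_right hz⟩ := Subtype.ext hxz.symm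
      rw [hx', QuotientGroup.mk_mul, (QuotientGroup.eq_one_iff _).2
        (show (⟨h, hHL hh⟩ : L) ∈ H.subgroupOf L from hh), one_mul]
      refine (orderOf_map_dvd (QuotientGroup.mk' _) _).trans ?_
      rw [← Subgroup.orderOf_coe, ← hi]
      exact orderOf_dvd_of_mem_zpowers hz
    exact Nat.eq_one_of_dvd_coprimes
      ((Cfsg.Agent.FittingCores.pPrimeCore_coprime (G := L) 2).pow_right i) h3 h4
  have hbot : (Cfsg.pPrimeCore 2 L).comap (Subgroup.inclusion hHL) ≤ Cfsg.pPrimeCore 2 H := by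
    refine Cfsg.Agent.FittingCores.le_pPrimeCore (hOn.comap _) ?_
    exact (Cfsg.Agent.FittingCores.pPrimeCore_coprime (G := L) 2).coprime_dvd_left
      (Subgroup.card_comap_dvd_of_injective _ _ (Subgroup.inclusion_injective hHL))
  have hcH : (c : G) ∈ H := hOH hz
  have h5 : (⟨(c : G), hcH⟩ : H) ∈ Cfsg.pPrimeCore 2 H := hbot (show Subgroup.inclusion hHL ⟨(c : G), hcH⟩ ∈ _ from hz)
  rw [show Cfsg.pPrimeCore 2 H = ⊥ from hO, Subgroup.mem_bot] at h5
  have h6 : h₀ * a * h₀⁻¹ * a⁻¹ = 1 := congrArg Subtype.val h5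
  exact mul_inv_eq_iff_eq_mul.1 (mul_inv_eq_one.1 h6)

end Cfsg.Agent.S1251
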