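import Cfsg.Statements.S1254
import Cfsg.Agent.Lib.TwoGroups.DihFusion

set_option autoImplicit false
open Cfsg

namespace Cfsg.Agent.S1254

open scoped Pointwise

/-- Let X be a finite group whose Sylow 2-subgroup S is dihedral (of order at least 4). Then X has a normal 2-complement if and only if, for every Klein four-subgroup U ≤ S, the normalizer N_X(U) is generated by C_X(U) and N_S(U). -/
theorem result {X : Type*} [Group X] [Finite X] (S : Sylow 2 X) (m : ℕ) (hm : 2 ≤ m) (eS : (S : Subgroup X) ≃* DihedralGroup m) : Cfsg.HasNormalPComplement 2 X ↔ ∀ U : Subgroup X, U ≤ S → IsKleinFour U → Subgroup.normalizer (U : Set X) = Subgroup.centralizer (U : Set X) ⊔ ((S : Subgroup X) ⊓ Subgroup.normalizer (U : Set X)) := by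
  haveI : Fact (Nat.Prime 2) := ⟨Nat.prime_two⟩
  obtain ⟨d, rfl⟩ := TwoFus.exists_dih S hm eS
  have hP := d.cycMax S.isPGroup'
  constructor
  · rintro ⟨P, K, hKn, hK⟩ U hUS hU
    set N := Subgroup.normalizer (U : Set X) with hN
    have hCN : Subgroup.centralizer (U : Set X) ≤ N := by
      intro g hg
      rw [hN, Subgroup.mem_normalizer_iff_map_conj_eq]
      refine Subgroup.eq_of_le_of_card_ge ?_
        (by rw [Subgroup.card_map_of_injective (MulAut.conj g).injective])
      rintro _ ⟨v, hv, rfl⟩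
      show g * v * g⁻¹ ∈ U
      rw [← Subgroup.mem_centralizer_iff.mp hg v hv, mul_inv_cancel_right]
      exact hv
    have hKS : ∀ a ∈ K, a ∈ (S : Subgroup X) → a = 1 := by
      intro a haK haS
      have h1 : (Nat.card K).Coprime (Nat.card (S : Subgroup X)) := by
        obtain ⟨k, hk⟩ := IsPGroup.iff_card.mp S.isPGroup'
        rw [hk]
        refine Nat.Coprime.pow_right _ (Nat.coprime_comm.mp ((Nat.Prime.coprime_iff_not_dvd Nat.prime_two).mpr ?_))
        intro h2
        have hPi : (P : Subgroup X).index = Nat.card K := hK.index_eq_card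
        exact P.not_dvd_index (hPi ▸ h2)
      have h2 := orderOf_dvd_natCard (⟨a, haK⟩ : K)
      have h3 := orderOf_dvd_natCard (⟨a, haS⟩ : (S : Subgroup X))
      rw [Subgroup.orderOf_mk] at h2 h3
      exact orderOf_eq_one_iff.mp (Nat.eq_one_of_dvd_coprimes h1 h2 h3)
    have hsup : K ⊔ (S : Subgroup X) = ⊤ := by
      obtain ⟨g, rfl⟩ := MulAction.exists_smul_eq X P S
      refine Subgroup.eq_top_of_card_eq _ (Nat.dvd_antisymm (Subgroup.card_subgroup_dvd_card _) ?_)
      rw [← hK.card_mul]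
      refine Nat.Coprime.mul_dvd_of_dvd_of_dvd ?_ (Subgroup.card_dvd_of_le le_sup_left) ?_
      · obtain ⟨k, hk⟩ := IsPGroup.iff_card.mp P.isPGroup'
        rw [hk]
        refine Nat.Coprime.pow_right _ (Nat.coprime_comm.mp ((Nat.Prime.coprime_iff_not_dvd Nat.prime_two).mpr ?_))
        exact fun h2 => P.not_dvd_index (hK.index_eq_card ▸ h2)
      · refine dvd_trans (dvd_of_eq ?_) (Subgroup.card_dvd_of_le le_sup_right)
        rw [P.card_eq_multiplicity, (g • P).card_eq_multiplicity]
    refine le_antisymm (fun n hn => ?_) (sup_le hCN inf_le_right)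
    obtain ⟨k, hk, s, hs, rfl⟩ : n ∈ ((K : Set X) * ((S : Subgroup X) : Set X)) := by
      rw [← Subgroup.normal_mul, hsup]; trivial
    have hsu : ∀ u ∈ U, s * u * s⁻¹ = k * s * u * (k * s)⁻¹ := by
      intro u hu
      have hm1 : k * s * u * (k * s)⁻¹ ∈ (S : Subgroup X) := hUS ((Subgroup.mem_normalizer_iff.mp hn u).mp hu)
      have hm2 : s * u * s⁻¹ ∈ (S : Subgroup X) := mul_mem (mul_mem hs (hUS hu)) (inv_mem hs)
      have hmK : (k * s * u * (k * s)⁻¹) * (s * u * s⁻¹)⁻¹ ∈ K := by
        rw [show k * s * u * (k * s)⁻¹ * (s * u * s⁻¹)⁻¹ =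
          k * (s * u * s⁻¹ * k⁻¹ * (s * u * s⁻¹)⁻¹) by group]
        exact mul_mem hk (hKn.conj_mem _ (inv_mem hk) _)
      exact (mul_inv_eq_one.mp (hKS _ hmK (mul_mem hm1 (inv_mem hm2)))).symm
    have hsN : s ∈ N := by
      rw [hN, Subgroup.mem_normalizer_iff_map_conj_eq]
      refine Subgroup.eq_of_le_of_card_ge ?_
        (by rw [Subgroup.card_map_of_injective (MulAut.conj s).injective])
      rintro _ ⟨v, hv, rfl⟩
      show s * v * s⁻¹ ∈ U
      rw [hsu v hv]; exact (Subgroup.mem_normalizer_iff.mp hn v).mp hv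
    refine mul_mem (Subgroup.mem_sup_left ?_) (Subgroup.mem_sup_right ⟨hs, hsN⟩)
    rw [Subgroup.mem_centralizer_iff]
    intro v hv
    have hv' : s⁻¹ * v * s ∈ U := by
      have := (Subgroup.mem_normalizer_iff.mp (inv_mem hsN) v).mp hv
      rwa [inv_inv] at this
    have := hsu _ hv'
    rw [show s * (s⁻¹ * v * s) * s⁻¹ = v by group,
      show k * s * (s⁻¹ * v * s) * (k * s)⁻¹ = k * v * k⁻¹ by group] at this
    exact (mul_inv_eq_iff_eq_mul.mp this.symm).symm
  · intro h
    refine TwoFus.hasNormalPComplement_of_oddTrivial S fun E hE => ?_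
    rcases hP.oddTrivial hE with h0 | h0 | h0
    · exact h0
    · intro w hw ho
      have hw' := h E hE h0 ▸ hw
      set f := E.normalizerMonoidHom with hf
      have hsub : (Subgroup.centralizer (E : Set X)).subgroupOf (Subgroup.normalizer (E : Set X)) ⊔
          ((S : Subgroup X) ⊓ Subgroup.normalizer (E : Set X)).subgroupOf (Subgroup.normalizer (E : Set X)) = ⊤ := by
        refine (Subgroup.subgroupOf_sup ?_ inf_le_right).symm.trans ?_
        · rw [h E hE h0]; exact le_sup_left
        · rw [← h E hE h0, Subgroup.subgroupOf_self]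
      have hker : f.ker = (Subgroup.centralizer (E : Set X)).subgroupOf (Subgroup.normalizer (E : Set X)) :=
        Subgroup.normalizerMonoidHom_ker _
      have hm : f ⟨w, hw⟩ ∈ (((S : Subgroup X) ⊓ Subgroup.normalizer (E : Set X)).subgroupOf
          (Subgroup.normalizer (E : Set X))).map f := by
        have h1 : f ⟨w, hw⟩ ∈ Subgroup.map f ⊤ := ⟨_, trivial, rfl⟩
        rwa [← hsub, Subgroup.map_sup, (Subgroup.map_eq_bot_iff _).mpr hker.ge, bot_sup_eq] at h1
      obtain ⟨⟨t, htN⟩, ⟨ht, -⟩, hft⟩ := hm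
      obtain ⟨k, hk⟩ := IsPGroup.iff_orderOf.mp S.isPGroup' (⟨t, ht⟩ : (S : Subgroup X))
      rw [← orderOf_injective (S : Subgroup X).subtype (S : Subgroup X).subtype_injective] at hk
      change orderOf t = 2 ^ k at hk
      have h2 : orderOf (f ⟨w, hw⟩) ∣ 2 ^ k := by
        rw [← hft, ← hk]
        have := orderOf_map_dvd f ⟨t, htN⟩
        rwa [Subgroup.orderOf_mk] at this
      have h3 : orderOf (f ⟨w, hw⟩) ∣ orderOf w := by
        have := orderOf_map_dvd f ⟨w, hw⟩
        rwa [Subgroup.orderOf_mk] at this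
      have h4 := Nat.eq_one_of_dvd_coprimes ((Nat.coprime_two_left.mpr ho).pow_left k) h2 h3
      rw [orderOf_eq_one_iff, ← MonoidHom.mem_ker, hker, Subgroup.mem_subgroupOf] at h4
      exact h4
    · exact absurd h0 (TwoFus.no_quat (fun a ha => d.out_sq a ha) hE)

end Cfsg.Agent.S1254
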