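import Cfsg.Statements.S1255
import Cfsg.Agent.Lib.TwoGroups.DihFusion

set_option autoImplicit false
open Cfsg

namespace Cfsg.Agent.S1255



/-- Let X be a finite group whose Sylow 2-subgroup S is dihedral of order 2m ≥ 4. Then X has no subgroup of index 2 and no isolated involution if and only if either all involutions of X are conjugate, or for every Klein four-subgroup U ≤ S the index |N_X(U) : C_X(U)| equals 3 when |S| = 4 and equals 6 when |S| > 4. -/
theorem result {X : Type*} [Group X] [Finite X] (S : Sylow 2 X) (m : ℕ) (hm : 2 ≤ m) (eS : (S : Subgroup X) ≃* DihedralGroup m) : ((∀ H : Subgroup X, H.index ≠ 2) ∧ (∀ z : X, ¬ Cfsg.IsIsolatedInvolution z)) ↔ ((∀ a b : X, orderOf a = 2 → orderOf b = 2 → IsConj a b) ∨ (∀ U : Subgroup X, U ≤ S → IsKleinFour U → (Subgroup.centralizer (U : Set X)).relIndex (Subgroup.normalizer (U : Set X)) = (if Nat.card S = 4 then 3 else 6))) := by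
  classical
  haveI : Fact (Nat.Prime 2) := ⟨Nat.prime_two⟩
  obtain ⟨d, rfl⟩ := TwoFus.exists_dih S hm eS
  have hP := d.cycMax S.isPGroup'
  have h4le : 4 ≤ Nat.card (S : Subgroup X) := by rw [d.card]; omega
  constructor
  · rintro ⟨hno, -⟩
    refine Or.inr ?_
    by_contra hbad
    push Not at hbad
    obtain ⟨U, hUS, hU, hne⟩ := hbad
    obtain ⟨hz, i, hi⟩ := d.klein_exists_form hU hUS
    obtain ⟨K, -, hK⟩ := TwoFus.dih_index_two S d (i + 1) fun E hE hEk => by
      by_cases h4 : Nat.card (S : Subgroup X) = 4
      · left
        have eE := Subgroup.eq_of_le_of_card_ge hE (by rw [hEk.card_four]; exact h4.le)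
        have eU := Subgroup.eq_of_le_of_card_ge hUS (by rw [hU.card_four]; exact h4.le)
        subst eE; subst eU
        rw [if_pos h4] at hne
        rcases TwoFus.klein_index_cases_four S hU with e | e
        · exact TwoFus.klein_oddTrivial (by rw [e]; exact one_dvd 2)
        · exact absurd e hne
      · have h4' : 4 < Nat.card (S : Subgroup X) := by omega
        rw [if_neg h4] at hne
        have h2 := (TwoFus.klein_index_cases S hP h4' hUS hU).resolve_right hne
        obtain ⟨-, j, hj⟩ := d.klein_exists_form hEk hE
        by_cases hp : 2 ∣ j - i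
        · obtain ⟨s, -, hs⟩ := d.klein_conj hU hEk hUS hE hi hj hp
          left
          refine TwoFus.klein_oddTrivial ?_
          rw [← hs, TwoFus.relIndex_centralizer_conj, h2]
        · exact Or.inr (d.klein_le_half (d.four_dvd S.isPGroup' h4') hEk hE hj (by omega))
    exact hno K hK
  · intro h
    have hcl : ∀ a b : X, orderOf a = 2 → orderOf b = 2 → IsConj a b := by
      rcases h with h | h
      · exact h
      · refine TwoFus.dih_one_class S d fun U hUS hU => ?_
        rw [h U hUS hU]
        split <;> norm_num
    exact ⟨TwoFus.dih_no_index_two S d hcl, TwoFus.dih_no_isolated S d hcl⟩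

end Cfsg.Agent.S1255
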