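import Cfsg.Statements.S1256
import Cfsg.Agent.Lib.TwoGroups.DihFusion

set_option autoImplicit false
open Cfsg

namespace Cfsg.Agent.S1256



/-- Let X be a finite group whose Sylow 2-subgroup S is dihedral of order 2m ≥ 4. If |S| = 4, any two Klein four-subgroups of X are conjugate; if |S| > 4, there are Klein four-subgroups U₁, U₂ of X that are not conjugate, and every Klein four-subgroup of X is conjugate to U₁ or to U₂. -/
theorem result {X : Type*} [Group X] [Finite X] (S : Sylow 2 X) (m : ℕ) (hm : 2 ≤ m) (eS : (S : Subgroup X) ≃* DihedralGroup m) : (Nat.card S = 4 → ∀ U V : Subgroup X, IsKleinFour U → IsKleinFour V → (∃ x : X, U.map (MulAut.conj x).toMonoidHom = V)) ∧ (4 < Nat.card S → ∃ U₁ U₂ : Subgroup X, IsKleinFour U₁ ∧ IsKleinFour U₂ ∧ ¬ (∃ x : X, U₁.map (MulAut.conj x).toMonoidHom = U₂) ∧ ∀ V : Subgroup X, IsKleinFour V → (∃ x : X, V.map (MulAut.conj x).toMonoidHom = U₁) ∨ (∃ x : X, V.map (MulAut.conj x).toMonoidHom = U₂)) := by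
  obtain ⟨d, rfl⟩ := TwoFus.exists_dih S hm eS
  refine ⟨fun h4 U V hU hV => ?_, fun h4 => ?_⟩
  · obtain ⟨g, hg⟩ := TwoFus.exists_klein_conj_le S hU
    obtain ⟨k, hk⟩ := TwoFus.exists_klein_conj_le S hV
    have eU := Subgroup.eq_of_le_of_card_ge hg (by rw [(TwoFus.klein_map_conj hU g).card_four]; exact h4.le)
    have eV := Subgroup.eq_of_le_of_card_ge hk (by rw [(TwoFus.klein_map_conj hV k).card_four]; exact h4.le)
    refine ⟨k⁻¹ * g, ?_⟩
    have e : (V.map (MulAut.conj k).toMonoidHom).map (MulAut.conj k⁻¹).toMonoidHom = V := by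
      rw [Subgroup.map_map]; convert Subgroup.map_id V; ext x; simp [mul_assoc]
    rw [← e, eV, ← eU, Subgroup.map_map]
    congr 1; ext x; simp [mul_assoc]
  · have hm4 := d.four_dvd S.isPGroup' h4
    obtain ⟨U₁, l1, k1, -, u1⟩ := d.exists_klein 0
    obtain ⟨U₂, l2, k2, -, u2⟩ := d.exists_klein 1
    refine ⟨U₁, U₂, k1, k2, ?_, fun V hV => ?_⟩
    · rintro ⟨g, hg⟩
      have := TwoFus.dih_klein_type S d hm4 k1 l1 l2 hg 0 (d.klein_le_half hm4 k1 l1 u1 (by simp))
      have h2 := d.form_mem_half.mp (this u2)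
      omega
    · obtain ⟨g, hg⟩ := TwoFus.exists_klein_conj_le S hV
      have hk := TwoFus.klein_map_conj hV g
      obtain ⟨-, i, hi⟩ := d.klein_exists_form hk hg
      rcases Int.even_or_odd' i with ⟨j, hj | hj⟩
      · obtain ⟨s, -, hs⟩ := d.klein_conj hk k1 hg l1 hi u1 ⟨-j, by rw [hj]; ring⟩
        refine Or.inl ⟨s * g, ?_⟩
        rw [← hs, Subgroup.map_map]; congr 1; ext x; simp [mul_assoc]
      · obtain ⟨s, -, hs⟩ := d.klein_conj hk k2 hg l2 hi u2 ⟨-j, by rw [hj]; ring⟩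
        refine Or.inr ⟨s * g, ?_⟩
        rw [← hs, Subgroup.map_map]; congr 1; ext x; simp [mul_assoc]

end Cfsg.Agent.S1256
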