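import Cfsg.Statements.S1263
import Cfsg.Agent.Lib.Components.FStar
-- import your own Cfsg.Agent.* helpers here

set_option autoImplicit false
set_option linter.style.haveILetI false
open Cfsg

namespace Cfsg.Agent.S1263

/-- For a finite group G, Z(E(G)) is the subgroup generated by the centres Z(L) of the components L of G (all viewed as subgroups of G). -/
theorem result {G : Type*} [Group G] [Finite G] : (Subgroup.center ↥(Cfsg.layer G)).map (Cfsg.layer G).subtype = ⨆ L : {K : Subgroup G // Cfsg.IsComponent K}, (Subgroup.center ↥(L : Subgroup G)).map (L : Subgroup G).subtype := by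
  open Subgroup Cfsg.Agent.Components in
  classical
  rw [center_map_subtype]
  apply le_antisymm
  · suffices key : ∀ s : Finset {K : Subgroup G // IsComponent K}, ∀ x ∈ s.sup (fun L => (L : Subgroup G)),
        (∀ L ∈ s, x ∈ centralizer ((L : Subgroup G) : Set G)) →
        x ∈ ⨆ L : {K : Subgroup G // IsComponent K}, (center ↥(L : Subgroup G)).map (L : Subgroup G).subtype by
      haveI := Fintype.ofFinite {K : Subgroup G // IsComponent K}
      rintro x ⟨hx, hxc⟩
      refine key Finset.univ x ?_ (fun L _ => centralizer_le (component_le_layer L.2) hxc)
      have hE : layer G ≤ Finset.univ.sup (fun L : {K : Subgroup G // IsComponent K} => (L : Subgroup G)) :=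
        layer_le_iff.2 fun L hL => Finset.le_sup (f := fun L : {K : Subgroup G // IsComponent K} =>
          (L : Subgroup G)) (Finset.mem_univ ⟨L, hL⟩)
      exact hE hx
    intro s
    induction s using Finset.induction_on with
    | empty =>
      intro x hx _
      rw [Finset.sup_empty, mem_bot] at hx
      rw [hx]
      exact one_mem _
    | @insert L s hLs ih =>
      intro x hx hxc
      rw [Finset.sup_insert] at hx
      have hR : s.sup (fun M => (M : Subgroup G)) ≤ centralizer ((L : Subgroup G) : Set G) := by
        refine Finset.sup_le fun M hM => commutator_eq_bot_iff_le_centralizer.1 ?_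
        exact components_commute M.2 L.2 fun e => hLs (Subtype.ext e ▸ hM)
      rw [← SetLike.mem_coe, coe_mul_of_right_le_normalizer_left _ _
        (hR.trans (centralizer_le_normalizer _))] at hx
      obtain ⟨y, hy, z, hz, rfl⟩ := hx
      have hxL := hxc L (Finset.mem_insert_self _ _)
      have hyL : y ∈ centralizer ((L : Subgroup G) : Set G) := by
        have := mul_mem hxL (inv_mem (hR hz))
        rwa [mul_inv_cancel_right] at this
      refine mul_mem (mem_iSup_of_mem L ?_) (ih z hz fun M hM => ?_)
      · rw [center_map_subtype]
        exact ⟨hy, hyL⟩
      · have hyM : y ∈ centralizer ((M : Subgroup G) : Set G) :=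
          commutator_eq_bot_iff_le_centralizer.1
            (components_commute L.2 M.2 fun e => hLs (Subtype.ext e ▸ hM)) hy
        have := mul_mem (inv_mem hyM) (hxc M (Finset.mem_insert_of_mem hM))
        rwa [inv_mul_cancel_left] at this
  · refine iSup_le fun L => ?_
    rw [center_map_subtype]
    refine le_inf (inf_le_left.trans (component_le_layer L.2)) ?_
    rw [le_centralizer_iff, layer_le_iff]
    intro M hM
    rcases eq_or_ne M L with e | e
    · rw [e]; exact le_centralizer_iff.1 inf_le_right
    · exact (commutator_eq_bot_iff_le_centralizer.1 (components_commute hM L.2 e)).trans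
        (centralizer_le inf_le_left)

end Cfsg.Agent.S1263
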