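import Cfsg.Statements.S1264
import Cfsg.Agent.Lib.Components.FStar
-- import your own Cfsg.Agent.* helpers here

set_option autoImplicit false
set_option linter.style.haveILetI false
open Cfsg

namespace Cfsg.Agent.S1264

/-- Let G be finite, C = C_G(F(G)) the centralizer of the Fitting subgroup, and N a solvable subgroup of C normalized by C. Then N ≤ Z(F(G)). -/
theorem result {G : Type*} [Group G] [Finite G] (N : Subgroup G) (hN : N ≤ Subgroup.centralizer (Cfsg.fittingSubgroup G : Set G)) (hnorm : Subgroup.centralizer (Cfsg.fittingSubgroup G : Set G) ≤ Subgroup.normalizer (N : Set G)) (hsolv : Group.IsSolvable ↥N) : N ≤ (Subgroup.center ↥(Cfsg.fittingSubgroup G)).map (Cfsg.fittingSubgroup G).subtype := by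
  open Subgroup Cfsg.Agent.Components in
  set C := centralizer (fittingSubgroup G : Set G)
  haveI hFn : (fittingSubgroup G).Normal := fittingSubgroup_normal
  haveI hCn : C.Normal := inferInstance
  have hsub : N.IsSubnormal :=
    IsSubnormal.step N C hN hCn.isSubnormal ((normal_subgroupOf_iff_le_normalizer hN).2 hnorm)
  have hNR : N ≤ solvRadical G := subnormal_solvable_le_radical hsub hsolv
  haveI : (solvRadical G).Normal := solvRadical_normal
  haveI := layer_normal (G := G)
  set M := C ⊓ solvRadical G
  have hMF : M ≤ generalizedFittingSubgroup G := by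
    refine le_trans ?_ centralizer_generalizedFitting_le
    rw [le_centralizer_iff, generalizedFittingSubgroup]
    refine sup_le ?_ ?_
    · exact (commutator_eq_bot_iff_le_centralizer.1 layer_solvRadical_commute).trans
        (centralizer_le inf_le_right)
    · exact le_centralizer_iff.1 inf_le_left
  rw [center_map_subtype]
  refine le_inf ?_ hN
  intro x hx
  have hxM : x ∈ M := ⟨hN hx, hNR hx⟩
  have hxF := hMF hxM
  rw [generalizedFittingSubgroup] at hxF
  obtain ⟨e, he, f, hf, rfl⟩ := mem_sup_of_normal_left.1 hxF
  have heR : e ∈ solvRadical G := by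
    have := (solvRadical G).mul_mem (hNR hx) ((solvRadical G).inv_mem (fitting_le_solvRadical hf))
    rwa [mul_inv_cancel_right] at this
  have hec : e ∈ layer G ⊓ centralizer (layer G : Set G) :=
    ⟨he, commutator_eq_bot_iff_le_centralizer.1
      (by rw [commutator_comm]; exact layer_solvRadical_commute) heR⟩
  rw [center_layer_eq] at hec
  exact mul_mem hec.1 hf

end Cfsg.Agent.S1264
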