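import Cfsg.Statements.S1266
import Cfsg.Agent.Lib.Components.Extended
-- import your own Cfsg.Agent.* helpers here

set_option autoImplicit false
set_option linter.style.haveILetI false
open Cfsg

namespace Cfsg.Agent.S1266

/-- Let P be a p-subgroup of the finite group G and N = N_G(P). Then the preimage in N of E(N / O_{p'}(N)) centralizes O_p(G). -/
theorem result {G : Type*} [Group G] [Finite G] (p : ℕ) [Fact p.Prime] (P : Subgroup G) (hP : IsPGroup p ↥P) : (((Cfsg.layer (↥(Subgroup.normalizer ((P : Subgroup G) : Set G)) ⧸ Cfsg.pPrimeCore p ↥(Subgroup.normalizer ((P : Subgroup G) : Set G)))).comap (QuotientGroup.mk' (Cfsg.pPrimeCore p ↥(Subgroup.normalizer ((P : Subgroup G) : Set G))))).map (Subgroup.normalizer ((P : Subgroup G) : Set G)).subtype) ≤ Subgroup.centralizer (Cfsg.pCore p G : Set G) := by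
  set N := Subgroup.normalizer (P : Set G) with hN
  set O := Cfsg.pPrimeCore p ↥N
  haveI : O.Normal := FittingCores.pPrimeCore_normal p
  haveI := FittingCores.pCore_normal (G := G) p
  set M := (Cfsg.layer (↥N ⧸ O)).comap (QuotientGroup.mk' O) with hM
  haveI : (Cfsg.layer (↥N ⧸ O)).Normal := Components.layer_normal
  have key : ∀ A : Subgroup ↥N, A.Normal → IsPGroup p A → M ≤ Subgroup.centralizer (A : Set ↥N) := by
    intro A hA hAp
    haveI := hA
    rw [← Subgroup.commutator_eq_bot_iff_le_centralizer, eq_bot_iff]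
    have h1 : ⁅M, A⁆ ≤ O := by
      rw [← QuotientGroup.ker_mk' O, ← Subgroup.map_eq_bot_iff, Subgroup.map_commutator]
      haveI := hA.map (QuotientGroup.mk' O) (QuotientGroup.mk'_surjective O)
      haveI : Group.IsNilpotent ↥(A.map (QuotientGroup.mk' O)) :=
        IsPGroup.isNilpotent (p := p) (hAp.map _)
      have h2 : ⁅Cfsg.layer (↥N ⧸ O), A.map (QuotientGroup.mk' O)⁆ = ⊥ :=
        Components.layer_commute_solvable inferInstance Subgroup.le_normalizer_of_normal
      rw [eq_bot_iff, ← h2]
      exact Subgroup.commutator_mono (Subgroup.map_comap_le _ _) le_rfl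
    refine (le_inf h1 (Subgroup.commutator_le_right _ _)).trans ?_
    exact (PBasic.inf_eq_bot_of_coprime (FittingCores.pPrimeCore_coprime (G := ↥N) p) hAp).le
  have hP' := key (P.subgroupOf N) Subgroup.normal_in_normalizer hP.comap_subtype
  have hQ' := key ((Cfsg.pCore p G).subgroupOf N) inferInstance
    (FittingCores.pCore_isPGroup p).comap_subtype
  have hgen : ∀ y ∈ M, (orderOf y).Coprime p →
      (y : G) ∈ Subgroup.centralizer (Cfsg.pCore p G : Set G) := by
    intro y hy hcop
    refine Components.centralizes_pCore_of_coprime hP (by rwa [Subgroup.orderOf_coe]) ?_ ?_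
    · exact Subgroup.mem_centralizer_iff.2 fun a ha => congrArg Subtype.val
        (Subgroup.mem_centralizer_iff.1 (hP' hy) ⟨a, Subgroup.le_normalizer ha⟩ ha)
    · exact Subgroup.mem_centralizer_iff.2 fun a ha => congrArg Subtype.val
        (Subgroup.mem_centralizer_iff.1 (hQ' hy)
          ⟨a, Subgroup.centralizer_le_normalizer _ ha.2⟩ ha.1)
  suffices htop : Cfsg.pResidual p ↥M = ⊤ by
    rintro _ ⟨y, hy, rfl⟩
    have h : (⟨y, hy⟩ : ↥M) ∈ Cfsg.pResidual p ↥M := htop ▸ Subgroup.mem_top _
    rw [Cfsg.pResidual] at h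
    refine (show Subgroup.closure _ ≤
      (Subgroup.centralizer (Cfsg.pCore p G : Set G)).comap (N.subtype.comp M.subtype) from
        (Subgroup.closure_le _).2 fun z hz => ?_) h
    exact hgen z z.2 (by rw [Subgroup.orderOf_coe]; exact hz)
  refine top_le_iff.1 ?_
  let r : ↥M →* ↥(M.map (QuotientGroup.mk' O)) := (QuotientGroup.mk' O).subgroupMap M
  have hr : Function.Surjective r := (QuotientGroup.mk' O).subgroupMap_surjective M
  have hkr : r.ker ≤ Cfsg.pResidual p ↥M := fun x hx =>
    PBasic.mem_pResidual (by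
      have hxO : (x : ↥N) ∈ O :=
        (QuotientGroup.eq_one_iff _).1 (congrArg Subtype.val (MonoidHom.mem_ker.1 hx))
      refine Nat.Coprime.coprime_dvd_left ?_ (FittingCores.pPrimeCore_coprime (G := ↥N) p)
      rw [← Subgroup.orderOf_coe x]
      exact Subgroup.orderOf_dvd_natCard _ hxO)
  haveI : Group.IsPerfect ↥(M.map (QuotientGroup.mk' O)) := by
    rw [hM, Components.map_mk'_comap]
    exact Components.layer_isPerfect
  intro x _
  have h := Components.pResidual_eq_top_of_perfect (p := p) (G := ↥(M.map (QuotientGroup.mk' O)))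
  rw [← PBasic.map_pResidual_eq r hr] at h
  obtain ⟨w, hw, hwx⟩ := (h.ge (Subgroup.mem_top (r x)) :)
  have hdiv : w⁻¹ * x ∈ r.ker := by rw [MonoidHom.mem_ker, map_mul, map_inv, hwx, inv_mul_cancel]
  simpa using mul_mem hw (hkr hdiv)

end Cfsg.Agent.S1266
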