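import Cfsg.Statements.S1267
import Cfsg.Agent.Lib.Components.Extended
-- import your own Cfsg.Agent.* helpers here

set_option autoImplicit false
set_option linter.style.haveILetI false
open Cfsg

namespace Cfsg.Agent.S1267

/-- Let G be finite and P ≤ O_p(G). Then E(N_G(P)) = E(G). -/
theorem result {G : Type*} [Group G] [Finite G] (p : ℕ) [Fact p.Prime] (P : Subgroup G) (hP : P ≤ Cfsg.pCore p G) : (Cfsg.layer ↥(Subgroup.normalizer ((P : Subgroup G) : Set G))).map (Subgroup.normalizer ((P : Subgroup G) : Set G)).subtype = Cfsg.layer G := by
  set N := Subgroup.normalizer (P : Set G) with hN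
  haveI hQn := FittingCores.pCore_normal (G := G) p
  have hQp : IsPGroup p ↥(Cfsg.pCore p G) := FittingCores.pCore_isPGroup p
  have hPp : IsPGroup p ↥P := hQp.to_le hP
  apply le_antisymm
  · rw [Subgroup.map_le_iff_le_comap, Components.layer_le_iff]
    intro L hL
    haveI : Group.IsPerfect ↥L := hL.2.1
    have key : ∀ A : Subgroup ↥N, A.Normal → IsPGroup p A →
        L ≤ Subgroup.centralizer (A : Set ↥N) := by
      intro A hA hAp
      haveI := hA
      haveI : Group.IsNilpotent ↥A := IsPGroup.isNilpotent (p := p) hAp
      exact Subgroup.commutator_eq_bot_iff_le_centralizer.1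
        (Components.component_commute_solvable hL inferInstance Subgroup.le_normalizer_of_normal)
    have hP' := key (P.subgroupOf N) Subgroup.normal_in_normalizer hPp.comap_subtype
    have hQ' := key ((Cfsg.pCore p G).subgroupOf N) inferInstance hQp.comap_subtype
    have hLQ : L.map N.subtype ≤ Subgroup.centralizer (Cfsg.pCore p G : Set G) := by
      rintro _ ⟨y, hy, rfl⟩
      have h : (⟨y, hy⟩ : ↥L) ∈ Cfsg.pResidual p ↥L :=
        Components.pResidual_eq_top_of_perfect (p := p) (G := ↥L) ▸ Subgroup.mem_top _
      rw [Cfsg.pResidual] at h
      refine (show Subgroup.closure _ ≤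
        (Subgroup.centralizer (Cfsg.pCore p G : Set G)).comap (N.subtype.comp L.subtype) from
          (Subgroup.closure_le _).2 fun z hz => ?_) h
      refine Components.centralizes_pCore_of_coprime hPp
        (by simpa [Subgroup.orderOf_coe] using hz) ?_ ?_
      · exact Subgroup.mem_centralizer_iff.2 fun a ha => congrArg Subtype.val
          (Subgroup.mem_centralizer_iff.1 (hP' z.2) ⟨a, Subgroup.le_normalizer ha⟩ ha)
      · exact Subgroup.mem_centralizer_iff.2 fun a ha => congrArg Subtype.val
          (Subgroup.mem_centralizer_iff.1 (hQ' z.2)
            ⟨a, Subgroup.centralizer_le_normalizer _ ha.2⟩ ha.1)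
    set R := Subgroup.centralizer (Cfsg.pCore p G : Set G) with hR
    have hRN : R ≤ N := (Subgroup.centralizer_le (SetLike.coe_subset_coe.2 hP)).trans
      (Subgroup.centralizer_le_normalizer _)
    haveI : R.Normal := inferInstance
    refine Subgroup.map_le_iff_le_comap.1 (Components.component_le_layer ⟨?_, ?_⟩)
    · have hs : ((L.map N.subtype).subgroupOf R).IsSubnormal := by
        have h := hL.1.comap (f := Subgroup.inclusion hRN)
        convert h using 1
        ext x
        constructor
        · rintro ⟨y, hy, hyx⟩
          rw [Subgroup.mem_comap, ← show y = Subgroup.inclusion hRN x from Subtype.ext hyx]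
          exact hy
        · intro hx
          exact ⟨_, hx, rfl⟩
      have h := hs.trans' (Subgroup.Normal.isSubnormal (inferInstance : R.Normal))
      rwa [Subgroup.map_subgroupOf_eq_of_le hLQ] at h
    · exact (Components.quasisimple_congr
        (Subgroup.equivMapOfInjective L _ N.subtype_injective)).1 hL.2
  · rw [Components.layer_le_iff]
    intro L hL
    have hLN : L ≤ N := by
      have h : Cfsg.layer G ≤ Subgroup.centralizer (P : Set G) :=
        Components.layer_le_centralizer_fitting.trans (Subgroup.centralizer_le
          (SetLike.coe_subset_coe.2 (hP.trans Components.pCore_le_fittingSubgroup)))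
      exact ((Components.component_le_layer hL).trans h).trans
        (Subgroup.centralizer_le_normalizer _)
    rw [← Subgroup.map_subgroupOf_eq_of_le hLN]
    exact Subgroup.map_mono (Components.component_le_layer (Components.component_subgroupOf hL hLN))

end Cfsg.Agent.S1267
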