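import Cfsg.Statements.S1271
import Cfsg.Agent.Lib.Components.Balance
-- import your own Cfsg.Agent.* helpers here

set_option autoImplicit false
set_option linter.style.haveILetI false
open Cfsg
open scoped Pointwise commutatorElement

namespace Cfsg.Agent.S1271

/-- Let G be finite with O_{p'}(G) = 1. Suppose that for every component L of G and every subgroup H ≥ L in which L is normal, the quotient H / C_H(L) is balanced for the prime p. Then G is balanced for p. -/
theorem result {G : Type*} [Group G] [Finite G] (p : ℕ) [Fact p.Prime] (hO : Cfsg.pPrimeCore p G = ⊥) (h : ∀ L : Subgroup G, Cfsg.IsComponent L → ∀ H : Subgroup G, L ≤ H → (L.subgroupOf H).Normal → ∀ [((Subgroup.centralizer (L : Set G)).subgroupOf H).Normal], Cfsg.IsBalancedFor p (↥H ⧸ (Subgroup.centralizer (L : Set G)).subgroupOf H)) : Cfsg.IsBalancedFor p G := by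
  classical
  intro x hx
  rw [hO]
  obtain ⟨h1, h2, h3⟩ := Cfsg.Agent.Components.centralizerPPrimeCore_props (p := p) x
  have hxp : x ^ p = 1 := hx ▸ pow_orderOf_eq_one x
  set R := Cfsg.centralizerPPrimeCore p x
  have hPp : IsPGroup p (Subgroup.zpowers x) :=
    IsPGroup.of_card (n := 1) (by rw [Nat.card_zpowers, hx, pow_one])
  refine (Cfsg.Agent.Components.eq_bot_of_centralizes_layer hO hPp h1 h2 h3 ?_).le
  rw [← Subgroup.commutator_eq_bot_iff_le_centralizer, Subgroup.commutator_comm,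
    Subgroup.commutator_eq_bot_iff_le_centralizer, Cfsg.Agent.Components.layer_le_iff]
  intro L hL
  rw [← Subgroup.commutator_eq_bot_iff_le_centralizer]
  by_cases hLx : ⁅L, Subgroup.zpowers x⁆ = L
  swap
  · exact Cfsg.Agent.Components.component_commute_coprime hO hxp h1 h2 h3 hL hLx
  by_contra hR
  have hLL := Cfsg.Agent.Components.component_commutator_eq hL
  have hfix := Cfsg.Agent.Components.coprime_fixesComponents hO hPp h1 h2 h3
  have hRL : R ≤ Subgroup.normalizer (L : Set G) := fun r hr =>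
    Cfsg.Agent.Components.mem_fixesComponents.1 (hfix hr) L hL
  have hxL : Subgroup.zpowers x ≤ Subgroup.normalizer (L : Set G) :=
    Subgroup.le_normalizer_iff_commutator_le_left.2 hLx.le
  let U := R ⊔ Subgroup.zpowers x
  let H := L ⊔ U
  have hLH : L ≤ H := le_sup_left
  have hUn : U ≤ Subgroup.normalizer (L : Set G) := sup_le hRL hxL
  have hHn : H ≤ Subgroup.normalizer (L : Set G) := sup_le Subgroup.le_normalizer hUn
  haveI hLn : (L.subgroupOf H).Normal := (Subgroup.normal_subgroupOf_iff_le_normalizer hLH).2 hHn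
  let K := (Subgroup.centralizer (L : Set G)).subgroupOf H
  haveI hKn : K.Normal := by
    have hNC : Subgroup.normalizer (L : Set G) ≤
        Subgroup.normalizer (Subgroup.centralizer (L : Set G) : Set G) :=
      Cfsg.Agent.Components.normalizer_le_normalizer_centralizer L
    constructor
    intro a ha b
    show (b : G) * a * (b : G)⁻¹ ∈ Subgroup.centralizer (L : Set G)
    exact (Subgroup.mem_normalizer_iff.1 (hNC (hHn b.2)) _).1 ha
  have hbal := h L hL H hLH hLn
  let f := QuotientGroup.mk' K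
  have hxH : x ∈ H := Subgroup.mem_sup_right (Subgroup.mem_sup_right (Subgroup.mem_zpowers x))
  have hxK : ⟨x, hxH⟩ ∉ K := fun hc => by
    have hzc : Subgroup.zpowers x ≤ Subgroup.centralizer (L : Set G) := Subgroup.zpowers_le.2 hc
    rw [Subgroup.commutator_comm, Subgroup.commutator_eq_bot_iff_le_centralizer.2 hzc] at hLx
    exact Cfsg.Agent.Components.component_ne_bot hL hLx.symm
  have hfx : orderOf (f ⟨x, hxH⟩) = p := by
    refine orderOf_eq_prime ?_ fun hc => hxK ((QuotientGroup.eq_one_iff _).1 hc)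
    rw [← map_pow, show (⟨x, hxH⟩ : H) ^ p = 1 from Subtype.ext hxp, map_one]
  have hcore := hbal _ hfx
  haveI : Finite (↥H ⧸ K) := Quotient.finite _
  -- the core of `H / C_H(L)` is trivial
  have hbot : Cfsg.pPrimeCore p (↥H ⧸ K) = ⊥ := by
    haveI := Cfsg.Agent.PBasic.pPrimeCore_characteristic p (↥H ⧸ K)
    set O := Cfsg.pPrimeCore p (↥H ⧸ K)
    let J := (O.comap f).map H.subtype
    have hJH : J ≤ H := Subgroup.map_subtype_le _
    have hHJ : H ≤ Subgroup.normalizer (J : Set G) := Cfsg.Agent.AxB.le_normalizer_map_subtype inferInstance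
    let D := L ⊓ J
    have hDn : L ≤ Subgroup.normalizer (D : Set G) :=
      (le_inf Subgroup.le_normalizer (hLH.trans hHJ)).trans Subgroup.inf_normalizer_le_normalizer_inf
    have hDc : D ≤ Subgroup.centralizer (L : Set G) := by
      rcases Cfsg.Agent.Components.component_normal_cases hL inf_le_left hDn with h | h
      · exfalso
        obtain ⟨l, hl, ⟨k, hk⟩, hlc⟩ := Cfsg.Agent.Components.component_not_le_pPrime hO hL
        obtain ⟨l', hl', rfl⟩ := (h.ge hl).2
        apply hlc
        refine (QuotientGroup.eq_one_iff (N := K) l').1 ?_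
        rw [← orderOf_eq_one_iff]
        refine Nat.eq_one_of_dvd_coprimes ((Cfsg.Agent.PBasic.pPrimeCore_coprime p (↥H ⧸ K)).pow_right k) ?_
          (orderOf_dvd_of_pow_eq_one ?_)
        · show orderOf (f l') ∣ _
          rw [← Subgroup.orderOf_mk (H := O) (f l') hl']
          exact orderOf_dvd_natCard _
        · rw [show ((l' : ↥H ⧸ K)) = f l' from rfl, ← map_pow,
            show l' ^ p ^ k = 1 from Subtype.ext (by simpa using hk), map_one]
      · exact h
    have hLJ : ⁅L, J⁆ = ⊥ := Cfsg.Agent.Components.commute_of_commutator_central hLL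
      (le_trans (le_inf (Cfsg.Agent.Components.commutator_le_of_le_normalizer (hJH.trans hHn))
        (by rw [Subgroup.commutator_comm]; exact Cfsg.Agent.Components.commutator_le_of_le_normalizer (hLH.trans hHJ))) hDc)
    rw [eq_bot_iff]
    intro y hy
    obtain ⟨j, rfl⟩ := QuotientGroup.mk'_surjective _ y
    refine Subgroup.mem_bot.2 ((QuotientGroup.eq_one_iff j).2 ?_)
    have hJc : J ≤ Subgroup.centralizer (L : Set G) := by
      rw [← Subgroup.commutator_eq_bot_iff_le_centralizer, Subgroup.commutator_comm]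
      exact hLJ
    exact hJc ⟨j, hy, rfl⟩
  rw [hbot, le_bot_iff] at hcore
  -- `R` maps into that core
  let CL := L ⊓ Subgroup.centralizer ((Subgroup.zpowers x : Subgroup G) : Set G)
  let Y := CL ⊔ R
  have hYC : Y ≤ Subgroup.centralizer ((Subgroup.zpowers x : Subgroup G) : Set G) := sup_le inf_le_right h1
  have hYH : Y ≤ H := sup_le (inf_le_left.trans hLH) (le_sup_of_le_right le_sup_left)
  let R' := (Cfsg.pPrimeCore p ↥Y).map Y.subtype
  haveI := Cfsg.Agent.PBasic.pPrimeCore_characteristic p ↥Y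
  have hR'Y : R' ≤ Y := Subgroup.map_subtype_le _
  have hRR' : R ≤ R' := by
    intro r hr
    refine ⟨⟨r, Subgroup.mem_sup_right hr⟩, Cfsg.Agent.PBasic.le_pPrimeCore
      (N := R.subgroupOf Y) ?_ ?_ hr, rfl⟩
    · exact (Subgroup.normal_subgroupOf_iff_le_normalizer le_sup_right).2 (hYC.trans h2)
    · rwa [Nat.card_congr (Subgroup.subgroupOfEquivOfLe (le_sup_right : R ≤ Y)).toEquiv]
  have hZc : R ≤ Subgroup.centralizer (Cfsg.Agent.Components.layerCenter G : Set G) :=
    Cfsg.Agent.Components.coprime_centralizes_layerCenter hO hPp h1 h2 h3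
  have hnormY : ∀ g : H, f g ∈ Subgroup.centralizer {f ⟨x, hxH⟩} →
      (g : G) ∈ Subgroup.normalizer (Y : Set G) := by
    intro g hg
    have hgH : (g : G) ∈ ((L ⊔ U : Subgroup G) : Set G) := g.2
    rw [Subgroup.coe_mul_of_right_le_normalizer_left L U hUn] at hgH
    obtain ⟨l, hl, u, hu, hlu⟩ := hgH
    have hcomm : (g : G) * x * (g : G)⁻¹ * x⁻¹ ∈ Subgroup.centralizer (L : Set G) := by
      have h' := Subgroup.mem_centralizer_iff.1 hg _ rfl
      have : f (g * ⟨x, hxH⟩ * g⁻¹ * ⟨x, hxH⟩⁻¹) = 1 := by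
        rw [map_mul, map_mul, map_mul, map_inv, map_inv, ← h']; group
      exact (QuotientGroup.eq_one_iff (N := K) _).1 this
    have hux : u * x = x * u := by
      have hU : U ≤ Subgroup.centralizer ({x} : Set G) := by
        refine sup_le (fun r hr => ?_) (Subgroup.zpowers_le.2 ?_) <;> rw [Subgroup.mem_centralizer_iff] <;>
          intro z hz <;> rw [show z = x from hz]
        exact Subgroup.mem_centralizer_iff.1 (h1 hr) x (Subgroup.mem_zpowers x)
      exact (Subgroup.mem_centralizer_iff.1 (hU hu) x rfl).symm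
    have hz : l * x * l⁻¹ * x⁻¹ ∈ L ⊓ Subgroup.centralizer (L : Set G) := by
      refine ⟨?_, ?_⟩
      · rw [show l * x * l⁻¹ * x⁻¹ = l * (x * l⁻¹ * x⁻¹) by group]
        exact L.mul_mem hl ((Subgroup.mem_normalizer_iff.1 (hxL (Subgroup.mem_zpowers x)) _).1 (L.inv_mem hl))
      · have : (g : G) * x * (g : G)⁻¹ * x⁻¹ = l * x * l⁻¹ * x⁻¹ := by
          rw [← hlu]
          calc l * u * x * (l * u)⁻¹ * x⁻¹ = l * (u * x) * u⁻¹ * l⁻¹ * x⁻¹ := by group
            _ = _ := by rw [hux]; group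
        rw [← this]; exact hcomm
    have hzZ : l * x * l⁻¹ * x⁻¹ ∈ Cfsg.Agent.Components.layerCenter G :=
      Cfsg.Agent.Components.layerCenter_of_component hL hz.1 hz.2
    have hmemC : ∀ y : G, x * y = y * x → y ∈ Subgroup.centralizer ((Subgroup.zpowers x : Subgroup G) : Set G) := by
      intro y hy
      rw [Subgroup.mem_centralizer_iff]
      intro z hz
      obtain ⟨i, rfl⟩ := Subgroup.mem_zpowers_iff.1 hz
      exact ((show Commute x y from hy).zpow_left i).eq
    have hlY : l ∈ Subgroup.normalizer (Y : Set G) := by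
      refine Subgroup.mem_normalizer_fintype (fun y hy => ?_)
      suffices hle : Y ≤ Y.comap (MulAut.conj l).toMonoidHom from hle hy
      refine sup_le (fun c hc => ?_) (fun r hr => ?_)
      · show l * c * l⁻¹ ∈ Y
        refine Subgroup.mem_sup_left ⟨L.mul_mem (L.mul_mem hl hc.1) (L.inv_mem hl), hmemC _ ?_⟩
        have hcx := Subgroup.mem_centralizer_iff.1 hc.2 x (Subgroup.mem_zpowers x)
        have hlc : l * c * l⁻¹ ∈ L := L.mul_mem (L.mul_mem hl hc.1) (L.inv_mem hl)
        have hzc := Subgroup.mem_centralizer_iff.1 hz.2 _ hlc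
        calc x * (l * c * l⁻¹) = (l * x * l⁻¹ * x⁻¹)⁻¹ * (l * (x * c) * l⁻¹) := by group
          _ = (l * x * l⁻¹ * x⁻¹)⁻¹ * ((l * c * l⁻¹) * (l * x * l⁻¹ * x⁻¹)) * x := by rw [hcx]; group
          _ = _ := by rw [hzc]; group
      · show l * r * l⁻¹ ∈ Y
        rw [show l * r * l⁻¹ = (l * r * l⁻¹ * r⁻¹) * r by group]
        refine Y.mul_mem (Subgroup.mem_sup_left ⟨?_, hmemC _ ?_⟩) (Subgroup.mem_sup_right hr)
        · rw [show l * r * l⁻¹ * r⁻¹ = l * (r * l⁻¹ * r⁻¹) by group]
          exact L.mul_mem hl ((Subgroup.mem_normalizer_iff.1 (hRL hr) _).1 (L.inv_mem hl))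
        · have hrx := Subgroup.mem_centralizer_iff.1 (h1 hr) x (Subgroup.mem_zpowers x)
          have hrz := Subgroup.mem_centralizer_iff.1 (hZc hr) _ hzZ
          set z := l * x * l⁻¹ * x⁻¹ with hzdef
          have hzl : z * l = l * z := (Subgroup.mem_centralizer_iff.1 hz.2 l hl).symm
          have hzl' : z⁻¹ * l⁻¹ = l⁻¹ * z⁻¹ := by rw [← mul_inv_rev, ← mul_inv_rev, hzl]
          have e1 : x * l = z⁻¹ * (l * x) := by rw [hzdef]; group
          have e2 : x * l⁻¹ = l⁻¹ * z * x := by rw [hzdef]; group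
          have e3 : x * r⁻¹ = r⁻¹ * x := ((show Commute x r from hrx).inv_right).eq
          calc x * (l * r * l⁻¹ * r⁻¹) = x * l * r * l⁻¹ * r⁻¹ := by group
            _ = z⁻¹ * (l * (x * r)) * l⁻¹ * r⁻¹ := by rw [e1]; group
            _ = z⁻¹ * (l * r * (x * l⁻¹)) * r⁻¹ := by rw [hrx]; group
            _ = z⁻¹ * (l * r * (l⁻¹ * z)) * (x * r⁻¹) := by rw [e2]; group
            _ = z⁻¹ * (l * r * (z * l⁻¹)) * (r⁻¹ * x) := by
                rw [e3, show l⁻¹ * z = z * l⁻¹ from ((show Commute z l from hzl).inv_right).eq.symm]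
            _ = z⁻¹ * (l * (r * z) * l⁻¹) * (r⁻¹ * x) := by group
            _ = z⁻¹ * ((l * z) * r * l⁻¹) * (r⁻¹ * x) := by rw [← hrz]; group
            _ = _ := by rw [← hzl]; group
    have huY : U ≤ Subgroup.normalizer (Y : Set G) := by
      refine sup_le (le_trans le_sup_right Subgroup.le_normalizer) (Subgroup.zpowers_le.2 ?_)
      refine Subgroup.mem_normalizer_fintype (fun y hy => ?_)
      rwa [Subgroup.mem_centralizer_iff.1 (hYC hy) x (Subgroup.mem_zpowers x), mul_inv_cancel_right]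
    rw [← hlu]
    exact mul_mem hlY (huY hu)
  have hnormR' : ∀ g : G, g ∈ Subgroup.normalizer (Y : Set G) → g ∈ Subgroup.normalizer (R' : Set G) := by
    intro g hg
    rw [Subgroup.mem_normalizer_iff_map_conj_eq]
    let e : MulAut Y := Y.normalizerMonoidHom ⟨g, hg⟩
    have he := Subgroup.characteristic_iff_map_eq.1 (inferInstance : (Cfsg.pPrimeCore p ↥Y).Characteristic) e
    conv_rhs => rw [show R' = (Cfsg.pPrimeCore p ↥Y).map Y.subtype from rfl, ← he]
    rw [Subgroup.map_map, Subgroup.map_map]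
    rfl
  apply hR
  rw [Subgroup.commutator_comm, Subgroup.commutator_eq_bot_iff_le_centralizer]
  intro r hr
  have hrH : r ∈ H := Subgroup.mem_sup_right (Subgroup.mem_sup_left hr)
  refine ((QuotientGroup.eq_one_iff (N := K) (⟨r, hrH⟩ : H)).1 ?_ : (⟨r, hrH⟩ : H) ∈ K)
  rw [← Subgroup.mem_bot, ← hcore]
  set C := Subgroup.centralizer ({f ⟨x, hxH⟩} : Set (↥H ⧸ K))
  have hR'C : ∀ (a : G) (ha : a ∈ H), a ∈ R' → f ⟨a, ha⟩ ∈ C := fun a ha haR => by
    rw [Subgroup.mem_centralizer_iff]
    rintro _ rfl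
    rw [← map_mul, ← map_mul]
    exact congrArg f (Subtype.ext (Subgroup.mem_centralizer_iff.1 (hYC (hR'Y haR)) x (Subgroup.mem_zpowers x)))
  have hS : (((R'.subgroupOf H).map f).subgroupOf C) ≤ Cfsg.pPrimeCore p ↥C := by
    refine Cfsg.Agent.PBasic.le_pPrimeCore ⟨?_⟩ ?_
    · rintro ⟨a, ha⟩ ⟨a', ha', haa⟩ ⟨c, hc⟩
      obtain ⟨c', rfl⟩ := QuotientGroup.mk'_surjective _ c
      refine ⟨c' * a' * c'⁻¹, ?_, ?_⟩
      · exact (Subgroup.mem_normalizer_iff.1 (hnormR' _ (hnormY c' hc)) _).1 ha'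
      · rw [map_mul, map_mul, map_inv, haa]
        rfl
    · rw [Nat.card_congr (Subgroup.subgroupOfEquivOfLe ?_).toEquiv]
      · refine Nat.Coprime.coprime_dvd_left (Subgroup.card_map_dvd _ f) ?_
        rw [Nat.card_congr (Subgroup.subgroupOfEquivOfLe (hR'Y.trans hYH)).toEquiv,
          Subgroup.card_map_of_injective Y.subtype_injective]
        exact Cfsg.Agent.PBasic.pPrimeCore_coprime p ↥Y
      · rintro _ ⟨a, ha, rfl⟩
        exact hR'C a a.2 ha
  exact ⟨⟨f ⟨r, hrH⟩, hR'C r hrH (hRR' hr)⟩, hS ⟨⟨r, hrH⟩, hRR' hr, rfl⟩, rfl⟩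

end Cfsg.Agent.S1271
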