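import Cfsg.Statements.S1276
import Cfsg.Agent.Lib.Components.Extended
-- import your own Cfsg.Agent.* helpers here

set_option autoImplicit false
set_option linter.style.haveILetI false
open Cfsg

namespace Cfsg.Agent.S1276

/-- Let K be a 2-component of the finite group X. Then K is quasisimple if and only if ⁅K, O(K)⁆ = 1. -/
theorem result {X : Type*} [Group X] [Finite X] (K : Subgroup X) (hK : Cfsg.IsPComponent 2 K) : Cfsg.IsQuasisimple ↥K ↔ ⁅K, ((Cfsg.oddCore ↥K).map K.subtype)⁆ = ⊥ := by
  haveI : (Cfsg.oddCore ↥K).Normal := FittingCores.pPrimeCore_normal 2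
  have htop : (⊤ : Subgroup ↥K).map K.subtype = K := by
    rw [← MonoidHom.range_eq_map, Subgroup.range_subtype]
  have hbr : ⁅K, (Cfsg.oddCore ↥K).map K.subtype⁆ = ⊥ ↔
      Cfsg.oddCore ↥K ≤ Subgroup.center ↥K := by
    conv_lhs => lhs; arg 1; rw [← htop]
    rw [← Subgroup.map_commutator, Subgroup.map_eq_bot_iff_of_injective _ K.subtype_injective,
      Subgroup.commutator_comm, Subgroup.commutator_eq_bot_iff_le_centralizer, Subgroup.coe_top,
      Subgroup.centralizer_univ]
  rw [hbr]
  constructor
  · intro h
    refine (Components.quasisimple_normal h _).resolve_left fun e => ?_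
    have h1 := FittingCores.pPrimeCore_coprime (G := ↥K) 2
    rw [show Cfsg.pPrimeCore 2 ↥K = ⊤ from e, Subgroup.card_top] at h1
    exact (Nat.Prime.coprime_iff_not_dvd Nat.prime_two).1 h1.symm (Components.pComponent_not_coprime hK)
  · intro h
    haveI : Group.IsPerfect ↥K :=
      Subgroup.isPerfect_iff.2 (Components.pComponent_commutator_eq hK)
    exact Components.quasisimple_of_quotient_central _ h
      (Components.pComponent_quotient_quasisimple hK)

end Cfsg.Agent.S1276
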