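import Cfsg.Statements.S1277
import Cfsg.Agent.Lib.Components.Extended
-- import your own Cfsg.Agent.* helpers here

set_option autoImplicit false
set_option linter.style.haveILetI false
open Cfsg

namespace Cfsg.Agent.S1277

/-- For a finite group X with core O(X): the image of E(X) in X / O(X) is all of E(X / O(X)) if and only if every 2-component of X is a component, i.e. L_{2'}(X) ≤ E(X). -/
theorem result {X : Type*} [Group X] [Finite X] : (Cfsg.layer X).map (QuotientGroup.mk' (Cfsg.oddCore X)) = Cfsg.layer (X ⧸ Cfsg.oddCore X) ↔ Cfsg.pLayer 2 X ≤ Cfsg.layer X := by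
  set q := QuotientGroup.mk' (Cfsg.oddCore X) with hq
  haveI := Fact.mk Nat.prime_two
  have himg : ∀ L : Subgroup X, Cfsg.IsComponent L → L.map q = ⊥ ∨ Cfsg.IsComponent (L.map q) := by
    intro L hL
    by_cases hb : L.map q = ⊥
    · exact Or.inl hb
    · haveI : Nontrivial ↥(L.map q) := (Subgroup.nontrivial_iff_ne_bot _).2 hb
      exact Or.inr ⟨hL.1.map (QuotientGroup.mk'_surjective _),
        Components.quasisimple_of_surjective hL.2 _ (q.subgroupMap_surjective L)⟩
  have hle : (Cfsg.layer X).map q ≤ Cfsg.layer (X ⧸ Cfsg.oddCore X) := by
    rw [Subgroup.map_le_iff_le_comap, Components.layer_le_iff]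
    intro L hL
    rw [← Subgroup.map_le_iff_le_comap]
    rcases himg L hL with e | e
    · rw [e]; exact bot_le
    · exact Components.component_le_layer e
  constructor
  · intro h
    refine sSup_le fun K hK => ?_
    by_contra hKE
    have hall : (Cfsg.layer X).map q ≤ Subgroup.centralizer ((K.map q : Subgroup _) : Set _) := by
      rw [Subgroup.map_le_iff_le_comap, Components.layer_le_iff]
      intro L hL
      rw [← Subgroup.map_le_iff_le_comap]
      rcases himg L hL with e | e
      · rw [e]; exact bot_le
      · refine Subgroup.commutator_eq_bot_iff_le_centralizer.1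
          (Components.components_commute e hK.2.1 fun heq => hKE ?_)
        refine le_trans ?_ (Components.component_le_layer hL)
        conv_lhs => rw [← Components.pComponent_eq_pGen hK]
        have hn : (K.map q).comap q ≤ Subgroup.normalizer (Cfsg.oddCore X : Set X) := by
          haveI : (Cfsg.oddCore X).Normal := FittingCores.pPrimeCore_normal 2
          exact Subgroup.le_normalizer_of_normal
        refine Components.pGen_le_of_subnormal (FittingCores.pPrimeCore_coprime (G := X) 2) hn
          (Components.le_comap_mk' _) ?_ hL.1.subgroupOf ?_
        · rw [← Subgroup.map_le_iff_le_comap]; exact le_of_eq heq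
        · rw [← heq, Subgroup.comap_map_eq, QuotientGroup.ker_mk']
    have hb := Subgroup.commutator_eq_bot_iff_le_centralizer.2
      (((Components.component_le_layer hK.2.1).trans h.ge).trans hall)
    rw [Components.component_commutator_eq hK.2.1] at hb
    exact Components.component_ne_bot hK.2.1 hb
  · intro h
    exact le_antisymm hle (Components.map_pLayer.ge.trans (Subgroup.map_mono h))

end Cfsg.Agent.S1277
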