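import Cfsg.Statements.S1278
import Cfsg.Agent.Lib.Components.Extended
-- import your own Cfsg.Agent.* helpers here

set_option autoImplicit false
set_option linter.style.haveILetI false
open Cfsg

namespace Cfsg.Agent.S1278

/-- Let K ≠ L be 2-components of the finite group X. Then ⁅K, L⁆ ≤ O(K) ⊓ O(L), and if K is quasisimple then ⁅K, L⁆ = 1. -/
theorem result {X : Type*} [Group X] [Finite X] (K L : Subgroup X) (hK : Cfsg.IsPComponent 2 K) (hL : Cfsg.IsPComponent 2 L) (hne : K ≠ L) : ⁅K, L⁆ ≤ ((Cfsg.oddCore ↥K).map K.subtype) ⊓ ((Cfsg.oddCore ↥L).map L.subtype) ∧ (Cfsg.IsQuasisimple ↥K → ⁅K, L⁆ = ⊥) := by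
  have hle := Components.pComponent_commutator_le hK hL hne
  refine ⟨?_, fun hq => ?_⟩
  · rw [show Cfsg.oddCore ↥K = Cfsg.pPrimeCore 2 ↥K from rfl, show Cfsg.oddCore ↥L = Cfsg.pPrimeCore 2 ↥L from rfl,
      Components.pComponent_core hK, Components.pComponent_core hL]
    exact le_inf (le_inf (hle.trans (inf_le_left.trans inf_le_left)) (hle.trans inf_le_right))
      (le_inf (hle.trans (inf_le_left.trans inf_le_right)) (hle.trans inf_le_right))
  · refine (Components.component_le_or_commute ⟨hK.1, hq⟩ hL.1).resolve_left fun h => hne ?_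
    exact Components.pComponent_unique hK hL
      (Components.component_eq_of_le hK.2.1 hL.2.1 (Subgroup.map_mono h))

end Cfsg.Agent.S1278
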