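import Cfsg.Statements.S1281
import Cfsg.Agent.Lib.Signalizer.Transitivity
-- import your own Cfsg.Agent.* helpers here

set_option autoImplicit false
set_option linter.style.haveILetI false
open Cfsg

namespace Cfsg.Agent.S1281

/-- Let θ be a solvable A-signalizer functor on the finite group G (A a noncyclic elementary abelian p-subgroup) and N a normal subgroup of order prime to p. Then for all non-identity a, b ∈ A, the image of θ a in G / N meets the centralizer of the image of b inside the image of θ b. -/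
theorem result {G : Type*} [Group G] [Finite G] (p : ℕ) [Fact p.Prime] (A : Subgroup G) (hA : Cfsg.IsElementaryAbelian p A) (hA2 : p ^ 2 ≤ Nat.card ↥A) (θ : G → Subgroup G) (hθ : Cfsg.IsSolvableSignalizerFunctor p A θ) (N : Subgroup G) [N.Normal] (hN : ¬ p ∣ Nat.card ↥N) (a b : G) (ha : a ∈ A) (ha1 : a ≠ 1) (hb : b ∈ A) (hb1 : b ≠ 1) : (θ a).map (QuotientGroup.mk' N) ⊓ Subgroup.centralizer {QuotientGroup.mk' N b} ≤ (θ b).map (QuotientGroup.mk' N) := by
  rintro _ ⟨⟨t, ht, rfl⟩, htb⟩
  have hzA : Subgroup.zpowers b ≤ A := Subgroup.zpowers_le.2 hb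
  have hN' : θ a ≤ Subgroup.normalizer (N : Set G) := Subgroup.le_normalizer_of_normal
  have hfix : ∀ z ∈ Subgroup.zpowers b, z * t * z⁻¹ * t⁻¹ ∈ θ a ⊓ N := by
    intro z hz
    refine ⟨(θ a).mul_mem ((Subgroup.mem_normalizer_iff.1
      ((hzA.trans (Signalizer.functor_normalizer hθ.1 ha ha1)) hz) t).1 ht) ((θ a).inv_mem ht), ?_⟩
    show z * t * z⁻¹ * t⁻¹ ∈ N
    rw [← QuotientGroup.eq_one_iff]
    show QuotientGroup.mk' N (z * t * z⁻¹ * t⁻¹) = 1
    obtain ⟨i, rfl⟩ := Subgroup.mem_zpowers_iff.1 hz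
    have hc : Commute (QuotientGroup.mk' N b ^ i) (QuotientGroup.mk' N t) :=
      Commute.zpow_left (Subgroup.mem_centralizer_singleton_iff.1 htb).symm i
    rw [map_mul, map_mul, map_mul, map_inv, map_inv, map_zpow, hc.eq, mul_inv_cancel_right,
      mul_inv_cancel]
  obtain ⟨c, hc, htc⟩ := CoprimeAct.exists_mem_centralizer (A := Subgroup.zpowers b) (K := θ a)
    (hzA.trans (Signalizer.functor_normalizer hθ.1 ha ha1))
    (Signalizer.coprime_card (Signalizer.ea_isPGroup (Signalizer.ea_mono hA hzA)) (hθ.1.2.1 a ha ha1))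
    (Or.inl (Group.isSolvable_of_comm fun x y => mul_comm' x y)) (N := θ a ⊓ N) inf_le_left
    ((le_inf Subgroup.le_normalizer hN').trans Subgroup.inf_normalizer_le_normalizer_inf)
    (Signalizer.le_normalizer_inf (hzA.trans (Signalizer.functor_normalizer hθ.1 ha ha1))
      Subgroup.le_normalizer_of_normal) ht hfix
  refine ⟨c, hθ.1.2.2.2 a ha ha1 b hb hb1 ⟨hc.1, Subgroup.centralizer_le (by simp) hc.2⟩, ?_⟩
  exact (QuotientGroup.eq.2 htc.2).symm

end Cfsg.Agent.S1281
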