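import Cfsg.Statements.S1284
import Cfsg.Agent.Lib.Signalizer.Transitivity
-- import your own Cfsg.Agent.* helpers here

set_option autoImplicit false
set_option linter.style.haveILetI false
open Cfsg
open scoped Pointwise

namespace Cfsg.Agent.S1284

/-- Let θ be a solvable A-signalizer functor on the finite group G, A elementary abelian of rank at least 3, q a prime dividing some |θ a|, and Q maximal among the q-subgroups in the family of θ. Then (a) for every member H of the family, some c in the intersection of the θ a (a ∈ A non-identity) makes c Q c⁻¹ ∩ H a Sylow q-subgroup of H; and (b) for every nontrivial subgroup B ≤ A, C_Q(B) is a Sylow q-subgroup of the intersection of the θ b over the non-identity b ∈ B. -/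
theorem result {G : Type*} [Group G] [Finite G] (p : ℕ) [Fact p.Prime] (A : Subgroup G) (hA : Cfsg.IsElementaryAbelian p A) (hA3 : p ^ 3 ≤ Nat.card ↥A) (θ : G → Subgroup G) (hθ : Cfsg.IsSolvableSignalizerFunctor p A θ) (q : ℕ) [Fact q.Prime] (hq : ∃ a ∈ A, a ≠ 1 ∧ q ∣ Nat.card ↥(θ a)) (Q : Subgroup G) (hQW : Q ∈ Cfsg.signalizerFamily p A θ) (hQq : IsPGroup q ↥Q) (hQmax : ∀ R ∈ Cfsg.signalizerFamily p A θ, IsPGroup q ↥R → Q ≤ R → R = Q) : (∀ H : Subgroup G, H ∈ Cfsg.signalizerFamily p A θ → ∃ c ∈ Cfsg.signalizerInf A θ, ∃ S : Sylow q ↥H, (S : Subgroup ↥H).map H.subtype = Q.map (MulAut.conj c).toMonoidHom ⊓ H) ∧ (∀ B : Subgroup G, B ≤ A → B ≠ ⊥ → ∃ S : Sylow q ↥(Cfsg.signalizerInf B θ), (S : Subgroup ↥(Cfsg.signalizerInf B θ)).map (Cfsg.signalizerInf B θ).subtype = Q ⊓ Subgroup.centralizer (B : Set G)) := by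
  obtain ⟨a₀, ha₀, ha₀1, hqa⟩ := hq
  have hqp : q ≠ p := fun e => hθ.1.2.1 a₀ ha₀ ha₀1 (e ▸ hqa)
  have hQ : Signalizer.IsMaxMember p q A θ Q := ⟨hQW, hQq, hQmax⟩
  have key : ∀ H : Subgroup G, H ∈ Cfsg.signalizerFamily p A θ →
      ∃ c ∈ Cfsg.signalizerInf A θ, ∃ S : Sylow q ↥H,
        (S : Subgroup ↥H).map H.subtype = Q.map (MulAut.conj c).toMonoidHom ⊓ H := by
    intro H hH
    obtain ⟨S, hSA⟩ := CoprimeAct.exists_invariant_sylow (Signalizer.family_normalizer hH)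
      (Signalizer.coprime_card (Signalizer.ea_isPGroup hA) hH.2.1) (Or.inr hH.1) q
    have hSfam := Signalizer.family_mono hH (Subgroup.map_subtype_le (S : Subgroup ↥H)) hSA
    obtain ⟨R, hSR, hR⟩ := Signalizer.exists_maxMember_ge hSfam (S.isPGroup'.map _)
    obtain ⟨c, hc, hcR⟩ := Signalizer.transitivity hA hA3 hθ hqp hQ hR
    refine ⟨c, hc, S, ?_⟩
    rw [hcR]
    have h1 : R.subgroupOf H = (S : Subgroup ↥H) :=
      S.is_maximal' hR.2.1.comap_subtype fun x hx => hSR ⟨x, hx, rfl⟩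
    rw [← h1, Subgroup.subgroupOf, Subgroup.map_comap_eq, Subgroup.range_subtype, inf_comm]
  refine ⟨key, fun B hB hB1 => ?_⟩
  set H := Cfsg.signalizerInf B θ with hHdef
  obtain ⟨c, hc, S, hS⟩ := key H (Signalizer.signalizerInf_mem_family hθ hA.1 hB hB1)
  have hcH : c ∈ H := Signalizer.signalizerInf_anti hB hc
  refine ⟨(⟨c, hcH⟩ : ↥H)⁻¹ • S, ?_⟩
  have hQH : Q ⊓ H = Q ⊓ Subgroup.centralizer (B : Set G) :=
    le_antisymm (inf_le_inf_left _ (Signalizer.signalizerInf_le_centralizer hθ.1 hB))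
      (le_inf inf_le_left (Signalizer.family_inf_centralizer_le hQW hB))
  rw [← hQH]
  ext x
  constructor
  · rintro ⟨_, ⟨s, hs, rfl⟩, rfl⟩
    obtain ⟨⟨y, hy, hys⟩, -⟩ :=
      (hS.le (Subgroup.mem_map_of_mem H.subtype hs) : (s : G) ∈ Q.map (MulAut.conj c).toMonoidHom ⊓ H)
    refine ⟨?_, Subtype.prop _⟩
    show c⁻¹ * (s : G) * c⁻¹⁻¹ ∈ Q
    rw [← hys]
    simpa [mul_assoc] using hy
  · rintro ⟨hxQ, hxH⟩
    obtain ⟨s, hs, hsx⟩ := (hS.ge ⟨⟨x, hxQ, rfl⟩, H.mul_mem (H.mul_mem hcH hxH) (H.inv_mem hcH)⟩ :)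
    refine ⟨(⟨c, hcH⟩ : ↥H)⁻¹ * s * ((⟨c, hcH⟩ : ↥H)⁻¹)⁻¹, ⟨s, hs, rfl⟩, ?_⟩
    show c⁻¹ * (s : G) * c⁻¹⁻¹ = x
    rw [show (s : G) = c * x * c⁻¹ from hsx]
    group

end Cfsg.Agent.S1284
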