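import Cfsg.Statements.S1285
import Cfsg.Agent.Lib.Signalizer.Transitivity
-- import your own Cfsg.Agent.* helpers here

set_option autoImplicit false
set_option linter.style.haveILetI false
open Cfsg

namespace Cfsg.Agent.S1285

/-- Let θ be a solvable A-signalizer functor on the finite group G with A elementary abelian of rank at least 3, and suppose that for some prime q every θ a (a ∈ A non-identity) is a q-group. Then θ is complete. -/
theorem result {G : Type*} [Group G] [Finite G] (p : ℕ) [Fact p.Prime] (A : Subgroup G) (hA : Cfsg.IsElementaryAbelian p A) (hA3 : p ^ 3 ≤ Nat.card ↥A) (θ : G → Subgroup G) (hθ : Cfsg.IsSolvableSignalizerFunctor p A θ) (q : ℕ) [Fact q.Prime] (hq : ∀ a ∈ A, a ≠ 1 → IsPGroup q ↥(θ a)) : Cfsg.IsCompleteSignalizerFunctor p A θ := by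
  haveI : Nontrivial ↥A := by
    rw [← Finite.one_lt_card_iff_nontrivial]
    exact lt_of_lt_of_le (Nat.one_lt_pow (by norm_num) (Fact.out : p.Prime).one_lt) hA3
  obtain ⟨⟨a₀, ha₀⟩, hne⟩ := exists_ne (1 : ↥A)
  have ha₀1 : a₀ ≠ 1 := fun e => hne (Subtype.ext e)
  by_cases hqp : q = p
  · have hbot : ∀ a ∈ A, a ≠ 1 → θ a = ⊥ := by
      intro a ha ha1
      obtain ⟨k, hk⟩ := (hq a ha ha1).exists_card_eq
      have hk0 : k = 0 := by
        by_contra hk0
        exact hθ.1.2.1 a ha ha1 (by rw [hk, hqp]; exact dvd_pow_self p hk0)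
      rw [← Subgroup.card_eq_one, hk, hk0, pow_zero]
    refine ⟨hθ.1, ⊥, by simp, ?_, fun a ha ha1 => by rw [bot_inf_eq, hbot a ha ha1]⟩
    rw [Subgroup.card_bot]
    exact (Fact.out : p.Prime).not_dvd_one
  have hA1 : A ≠ ⊥ := (Subgroup.nontrivial_iff_ne_bot A).1 inferInstance
  have hinf := Signalizer.signalizerInf_mem_family hθ hA.1 le_rfl hA1
  obtain ⟨Q, hQ, hQmax⟩ := Signalizer.exists_maxMember_ge (q := q) hinf
    ((hq a₀ ha₀ ha₀1).to_le (Signalizer.signalizerInf_le (θ := θ) ha₀ ha₀1))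
  refine ⟨hθ.1, Q, hQmax.1.2.2.1, hQmax.1.2.1, fun a ha ha1 => le_antisymm (hQmax.1.2.2.2 a ha ha1) ?_⟩
  obtain ⟨Q', hQ', hQ'max⟩ :=
    Signalizer.exists_maxMember_ge (Signalizer.functor_mem_family hθ ha ha1) (hq a ha ha1)
  obtain ⟨c, hc, hcQ⟩ := Signalizer.transitivity hA hA3 hθ hqp hQmax hQ'max
  have hcQ' : Q = Q' :=
    (Subgroup.mem_normalizer_iff_map_conj_eq.1 (Subgroup.le_normalizer (hQ hc))).symm.trans hcQ
  exact le_inf (hQ'.trans hcQ'.ge) (hθ.1.1 a ha ha1)

end Cfsg.Agent.S1285
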