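import Cfsg.Statements.S1286
import Mathlib.GroupTheory.Perm.Cycle.Type
import Mathlib.GroupTheory.Solvable
-- import your own Cfsg.Agent.* helpers here

set_option autoImplicit false
set_option linter.style.haveILetI false
open Cfsg

namespace Cfsg.Agent.S1286

def a : Equiv.Perm (Fin 5) := Equiv.swap 0 1
def b : Equiv.Perm (Fin 5) := Equiv.swap 2 3
def c : Equiv.Perm (Fin 5) := Equiv.swap 2 3 * Equiv.swap 3 4
def d : Equiv.Perm (Fin 5) := Equiv.swap 0 1 * Equiv.swap 1 4

def A : Subgroup (Equiv.Perm (Fin 5)) where
  carrier := {x | x = 1 ∨ x = a ∨ x = b ∨ x = a * b}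
  one_mem' := Or.inl rfl
  mul_mem' := by
    rintro x y (rfl | rfl | rfl | rfl) (rfl | rfl | rfl | rfl) <;>
      first
        | exact Or.inl (by decide)
        | exact Or.inr (Or.inl (by decide))
        | exact Or.inr (Or.inr (Or.inl (by decide)))
        | exact Or.inr (Or.inr (Or.inr (by decide)))
  inv_mem' := by
    rintro x (rfl | rfl | rfl | rfl) <;>
      first
        | exact Or.inl (by decide)
        | exact Or.inr (Or.inl (by decide))
        | exact Or.inr (Or.inr (Or.inl (by decide)))
        | exact Or.inr (Or.inr (Or.inr (by decide)))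

def C : Subgroup (Equiv.Perm (Fin 5)) where
  carrier := {x | x = 1 ∨ x = c ∨ x = c⁻¹}
  one_mem' := Or.inl rfl
  mul_mem' := by
    rintro x y (rfl | rfl | rfl) (rfl | rfl | rfl) <;>
      first
        | exact Or.inl (by decide)
        | exact Or.inr (Or.inl (by decide))
        | exact Or.inr (Or.inr (by decide))
  inv_mem' := by
    rintro x (rfl | rfl | rfl) <;>
      first
        | exact Or.inl (by decide)
        | exact Or.inr (Or.inl (by decide))
        | exact Or.inr (Or.inr (by decide))

def D : Subgroup (Equiv.Perm (Fin 5)) where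
  carrier := {x | x = 1 ∨ x = d ∨ x = d⁻¹}
  one_mem' := Or.inl rfl
  mul_mem' := by
    rintro x y (rfl | rfl | rfl) (rfl | rfl | rfl) <;>
      first
        | exact Or.inl (by decide)
        | exact Or.inr (Or.inl (by decide))
        | exact Or.inr (Or.inr (by decide))
  inv_mem' := by
    rintro x (rfl | rfl | rfl) <;>
      first
        | exact Or.inl (by decide)
        | exact Or.inr (Or.inl (by decide))
        | exact Or.inr (Or.inr (by decide))

theorem mem_A (x : Equiv.Perm (Fin 5)) : x ∈ A ↔ x = 1 ∨ x = a ∨ x = b ∨ x = a * b := Iff.rfl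
theorem mem_C (x : Equiv.Perm (Fin 5)) : x ∈ C ↔ x = 1 ∨ x = c ∨ x = c⁻¹ := Iff.rfl
theorem mem_D (x : Equiv.Perm (Fin 5)) : x ∈ D ↔ x = 1 ∨ x = d ∨ x = d⁻¹ := Iff.rfl

def th (x : Equiv.Perm (Fin 5)) : Subgroup (Equiv.Perm (Fin 5)) :=
  if x = a then C else if x = b then D else ⊥

theorem th_a : th a = C := if_pos rfl
theorem th_b : th b = D := by rw [th, if_neg (by decide), if_pos rfl]
theorem th_ab : th (a * b) = ⊥ := by rw [th, if_neg (by decide), if_neg (by decide)]


/-- There exist a finite group X, an elementary abelian subgroup A of order 4 and a solvable A-signalizer functor θ on X for the prime 2 which is not complete. -/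
theorem result : ∃ (X : Type) (_ : Group X) (_ : Finite X) (A : Subgroup X) (θ : X → Subgroup X), Cfsg.IsElementaryAbelian 2 A ∧ Nat.card ↥A = 4 ∧ Cfsg.IsSolvableSignalizerFunctor 2 A θ ∧ ¬ Cfsg.IsCompleteSignalizerFunctor 2 A θ := by
  classical
  refine ⟨Equiv.Perm (Fin 5), inferInstance, inferInstance, A, th, ⟨⟨⟨fun x y => ?_⟩⟩, ?_⟩, ?_,
    ⟨⟨?_, ?_, ?_, ?_⟩, ?_⟩, ?_⟩
  · obtain ⟨x, hx⟩ := x; obtain ⟨y, hy⟩ := y
    rcases hx with rfl | rfl | rfl | rfl <;> rcases hy with rfl | rfl | rfl | rfl <;>
      exact Subtype.ext (by decide)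
  · intro x hx
    rcases hx with rfl | rfl | rfl | rfl <;> decide
  · have h : Nat.card ↥A = ({1, a, b, a * b} : Finset (Equiv.Perm (Fin 5))).card :=
      Nat.subtype_card _ fun x => by simp [mem_A]
    rw [h]; decide
  · intro x hx hx1 y hy
    rw [Subgroup.mem_centralizer_singleton_iff]
    rcases hx with rfl | rfl | rfl | rfl
    · exact absurd rfl hx1
    · rw [th_a] at hy; rcases hy with rfl | rfl | rfl <;> decide
    · rw [th_b] at hy; rcases hy with rfl | rfl | rfl <;> decide
    · rw [th_ab] at hy; rw [Subgroup.mem_bot.1 hy]; simp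
  · intro x hx hx1
    rcases hx with rfl | rfl | rfl | rfl
    · exact absurd rfl hx1
    · rw [th_a, show Nat.card ↥C = ({1, c, c⁻¹} : Finset (Equiv.Perm (Fin 5))).card from
        Nat.subtype_card _ fun x => by simp [mem_C]]
      decide
    · rw [th_b, show Nat.card ↥D = ({1, d, d⁻¹} : Finset (Equiv.Perm (Fin 5))).card from
        Nat.subtype_card _ fun x => by simp [mem_D]]
      decide
    · rw [th_ab, Subgroup.card_bot]; decide
  · intro x hx hx1 y hy z hz
    rcases hx with rfl | rfl | rfl | rfl
    · exact absurd rfl hx1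
    · rw [th_a] at hz ⊢
      rcases hy with rfl | rfl | rfl | rfl <;> rcases hz with rfl | rfl | rfl <;>
        first
          | exact Or.inl (by decide)
          | exact Or.inr (Or.inl (by decide))
          | exact Or.inr (Or.inr (by decide))
    · rw [th_b] at hz ⊢
      rcases hy with rfl | rfl | rfl | rfl <;> rcases hz with rfl | rfl | rfl <;>
        first
          | exact Or.inl (by decide)
          | exact Or.inr (Or.inl (by decide))
          | exact Or.inr (Or.inr (by decide))
    · rw [th_ab] at hz ⊢
      rw [Subgroup.mem_bot.1 hz]; simp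
  · intro x hx hx1 y hy hy1
    rintro z ⟨hz, hzy⟩
    have hzy' := Subgroup.mem_centralizer_singleton_iff.1 hzy
    rcases hx with rfl | rfl | rfl | rfl
    · exact absurd rfl hx1
    · rw [th_a] at hz
      rcases hy with rfl | rfl | rfl | rfl
      · exact absurd rfl hy1
      · rw [th_a]; exact hz
      · rcases hz with rfl | rfl | rfl
        · exact one_mem _
        · exact absurd hzy' (by decide)
        · exact absurd hzy' (by decide)
      · rcases hz with rfl | rfl | rfl
        · exact one_mem _
        · exact absurd hzy' (by decide)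
        · exact absurd hzy' (by decide)
    · rw [th_b] at hz
      rcases hy with rfl | rfl | rfl | rfl
      · exact absurd rfl hy1
      · rcases hz with rfl | rfl | rfl
        · exact one_mem _
        · exact absurd hzy' (by decide)
        · exact absurd hzy' (by decide)
      · rw [th_b]; exact hz
      · rcases hz with rfl | rfl | rfl
        · exact one_mem _
        · exact absurd hzy' (by decide)
        · exact absurd hzy' (by decide)
    · rw [th_ab] at hz
      rw [Subgroup.mem_bot.1 hz]; exact one_mem _
  · intro x hx hx1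
    rcases hx with rfl | rfl | rfl | rfl
    · exact absurd rfl hx1
    · rw [th_a]
      refine Group.isSolvable_of_comm fun x y => Subtype.ext ?_
      obtain ⟨x, hx⟩ := x; obtain ⟨y, hy⟩ := y
      rcases hx with rfl | rfl | rfl <;> rcases hy with rfl | rfl | rfl <;> decide
    · rw [th_b]
      refine Group.isSolvable_of_comm fun x y => Subtype.ext ?_
      obtain ⟨x, hx⟩ := x; obtain ⟨y, hy⟩ := y
      rcases hx with rfl | rfl | rfl <;> rcases hy with rfl | rfl | rfl <;> decide
    · rw [th_ab]
      exact Group.isSolvable_of_comm fun x y => Subsingleton.elim _ _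
  · rintro ⟨-, X, -, hcop, hX⟩
    have hc : c ∈ X := by
      have h := hX a (Or.inr (Or.inl rfl)) (by decide)
      rw [th_a] at h
      exact (h.ge (Or.inr (Or.inl rfl))).1
    have hd : d ∈ X := by
      have h := hX b (Or.inr (Or.inr (Or.inl rfl))) (by decide)
      rw [th_b] at h
      exact (h.ge (Or.inr (Or.inl rfl))).1
    have hw : c * d * c * d⁻¹ ∈ X := mul_mem (mul_mem (mul_mem hc hd) hc) (inv_mem hd)
    apply hcop
    haveI := Fact.mk Nat.prime_two
    rw [show (2 : ℕ) = orderOf (c * d * c * d⁻¹) from (orderOf_eq_prime (by decide) (by decide)).symm]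
    exact Subgroup.orderOf_dvd_natCard _ hw

end Cfsg.Agent.S1286
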