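import Cfsg.Statements.S1287
import Cfsg.Agent.Lib.Solvable.WielandtOrder
-- import your own Cfsg.Agent.* helpers here

set_option autoImplicit false
set_option linter.style.haveILetI false
open scoped Pointwise
open Cfsg

namespace Cfsg.Agent.S1287

/-- Let A be a noncyclic elementary abelian p-subgroup of a finite group H normalizing a subgroup K of order prime to p, and X, Y ≤ K subgroups normalized by A with C_K(a) = C_X(a) C_Y(a) (as sets) for every non-identity a ∈ A, where X is also normalized by C_K(A). Then K = XY as sets. -/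
theorem result {H : Type*} [Group H] [Finite H] (p : ℕ) [Fact p.Prime] (A K X Y : Subgroup H) (hA : Cfsg.IsElementaryAbelian p A) (hA2 : p ^ 2 ≤ Nat.card ↥A) (hK : ¬ p ∣ Nat.card ↥K) (hAK : A ≤ Subgroup.normalizer (K : Set H)) (hX : X ≤ K) (hY : Y ≤ K) (hAX : A ≤ Subgroup.normalizer (X : Set H)) (hAY : A ≤ Subgroup.normalizer (Y : Set H)) (hCX : K ⊓ Subgroup.centralizer (A : Set H) ≤ Subgroup.normalizer (X : Set H)) (hfac : ∀ a ∈ A, a ≠ 1 → ((K ⊓ Subgroup.centralizer {a} : Subgroup H) : Set H) = ((X ⊓ Subgroup.centralizer {a} : Subgroup H) : Set H) * ((Y ⊓ Subgroup.centralizer {a} : Subgroup H) : Set H)) : (K : Set H) = (X : Set H) * (Y : Set H) := by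
  classical
  have hp := (Fact.out : p.Prime)
  have hAp : IsPGroup p A := fun a => ⟨1, by rw [pow_one]; exact Subtype.ext (hA.2 a.1 a.2)⟩
  obtain ⟨n, hn⟩ := hAp.exists_card_eq
  have hn2 : 2 ≤ n := by
    rw [hn] at hA2
    exact (Nat.pow_le_pow_iff_right hp.one_lt).1 hA2
  obtain ⟨B₀, hB₀⟩ := Sylow.exists_subgroup_card_pow_prime (G := A) p (n := 2) (hn ▸ pow_dvd_pow p hn2)
  set B : Subgroup H := B₀.map A.subtype with hBdef
  have hBA : B ≤ A := Subgroup.map_subtype_le _
  have hBc : Nat.card B = p ^ 2 := by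
    rw [hBdef, Subgroup.card_map_of_injective A.subtype_injective, hB₀]
  have hB : IsElementaryAbelian p B :=
    ⟨⟨⟨fun a b => by
      have h : (⟨a.1, hBA a.2⟩ : A) * ⟨b.1, hBA b.2⟩ = ⟨b.1, hBA b.2⟩ * ⟨a.1, hBA a.2⟩ := hA.1.is_comm.comm _ _
      exact Subtype.ext (congrArg Subtype.val h :)⟩⟩,
      fun a ha => hA.2 a (hBA ha)⟩
  have hcop : (Nat.card B).Coprime (Nat.card K) := by
    rw [hBc]
    exact ((hp.coprime_iff_not_dvd).2 hK).pow_left 2
  have hBs : Group.IsSolvable B := by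
    exact Group.isSolvable_of_comm fun a b => hB.1.is_comm.comm a b
  have hI : X ⊓ Y ≤ K := inf_le_left.trans hX
  have hBI : B ≤ Subgroup.normalizer ((X ⊓ Y : Subgroup H) : Set H) :=
    (hBA.trans (le_inf hAX hAY)).trans Subgroup.inf_normalizer_le_normalizer_inf
  have fK := WielandtOrder.formula hB hBc K (hBA.trans hAK) hcop
  have fX := WielandtOrder.formula hB hBc X (hBA.trans hAX) (hcop.coprime_dvd_right (Subgroup.card_dvd_of_le hX))
  have fY := WielandtOrder.formula hB hBc Y (hBA.trans hAY) (hcop.coprime_dvd_right (Subgroup.card_dvd_of_le hY))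
  have fI := WielandtOrder.formula hB hBc (X ⊓ Y) hBI (hcop.coprime_dvd_right (Subgroup.card_dvd_of_le hI))
  have hkey : ∀ S : Subgroup H,
      ((K ⊓ Subgroup.centralizer (S : Set H) : Subgroup H) : Set H) =
        ((X ⊓ Subgroup.centralizer (S : Set H) : Subgroup H) : Set H) *
          ((Y ⊓ Subgroup.centralizer (S : Set H) : Subgroup H) : Set H) →
      Nat.card ↥(K ⊓ Subgroup.centralizer (S : Set H)) * Nat.card ↥(X ⊓ Y ⊓ Subgroup.centralizer (S : Set H)) =
        Nat.card ↥(X ⊓ Subgroup.centralizer (S : Set H)) * Nat.card ↥(Y ⊓ Subgroup.centralizer (S : Set H)) := by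
    intro S hS
    rw [← WielandtOrder.card_mul_set (X ⊓ Subgroup.centralizer (S : Set H)) (Y ⊓ Subgroup.centralizer (S : Set H)),
      ← hS, ← inf_inf_distrib_right]
    rfl
  have hsub : ∀ S : Subgroup H, ((X ⊓ Subgroup.centralizer (S : Set H) : Subgroup H) : Set H) *
        ((Y ⊓ Subgroup.centralizer (S : Set H) : Subgroup H) : Set H) ⊆
      ((K ⊓ Subgroup.centralizer (S : Set H) : Subgroup H) : Set H) := by
    rintro S _ ⟨x, hx, y, hy, rfl⟩
    exact ⟨K.mul_mem (hX hx.1) (hY hy.1), Subgroup.mul_mem _ hx.2 hy.2⟩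
  have hline : ∀ D : WielandtOrder.lines p B, ∃ a ∈ B, a ≠ 1 ∧
      Subgroup.centralizer ((D.1 : Subgroup H) : Set H) = Subgroup.centralizer {a} := by
    intro D
    have hne : D.1 ≠ ⊥ := fun h => by
      have := D.2.2
      rw [h, Subgroup.card_bot] at this
      exact hp.one_lt.ne this
    obtain ⟨a, ha, ha1⟩ := D.1.bot_or_exists_ne_one.resolve_left hne
    have hz : Subgroup.zpowers a = D.1 := Subgroup.eq_of_le_of_card_ge (Subgroup.zpowers_le.2 ha) (by
      rw [D.2.2, Nat.card_zpowers, orderOf_eq_prime (hB.2 a (D.2.1 ha)) ha1])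
    refine ⟨a, D.2.1 ha, ha1, ?_⟩
    rw [← hz, Subgroup.zpowers_eq_closure, Subgroup.centralizer_closure]
  have hD : ∀ D : WielandtOrder.lines p B,
      Nat.card ↥(K ⊓ Subgroup.centralizer ((D : Subgroup H) : Set H)) *
          Nat.card ↥(X ⊓ Y ⊓ Subgroup.centralizer ((D : Subgroup H) : Set H)) =
        Nat.card ↥(X ⊓ Subgroup.centralizer ((D : Subgroup H) : Set H)) *
          Nat.card ↥(Y ⊓ Subgroup.centralizer ((D : Subgroup H) : Set H)) := by
    intro D
    obtain ⟨a, ha, ha1, hc⟩ := hline D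
    refine hkey _ ?_
    rw [hc]
    exact hfac a (hBA ha) ha1
  have hCB : Nat.card ↥(K ⊓ Subgroup.centralizer (B : Set H)) * Nat.card ↥(X ⊓ Y ⊓ Subgroup.centralizer (B : Set H)) =
        Nat.card ↥(X ⊓ Subgroup.centralizer (B : Set H)) * Nat.card ↥(Y ⊓ Subgroup.centralizer (B : Set H)) := by
    refine hkey _ (Set.Subset.antisymm ?_ (hsub B))
    intro k hk
    obtain ⟨a, ha, ha1⟩ := B.bot_or_exists_ne_one.resolve_left (fun h => by
      rw [h, Subgroup.card_bot] at hBc
      exact (Nat.one_lt_pow two_ne_zero hp.one_lt).ne hBc)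
    have hk' : k ∈ ((K ⊓ Subgroup.centralizer {a} : Subgroup H) : Set H) :=
      ⟨hk.1, Subgroup.centralizer_le (Set.singleton_subset_iff.2 ha) hk.2⟩
    rw [hfac a (hBA ha) ha1] at hk'
    obtain ⟨x, hx, y, hy, rfl⟩ := hk'
    obtain ⟨x', hx', y', hy', he⟩ := CoprimeAct.exists_centralizer_mul (hBA.trans hAK) hcop (Or.inl hBs) hX hY
      (hBA.trans hAX) (hBA.trans hAY) hx.1 hy.1 hk.2
    exact ⟨x', hx', y', hy', he.symm⟩
  have hprod := Finset.prod_congr (s₁ := (Finset.univ : Finset (WielandtOrder.lines p B))) rfl (fun D _ => hD D)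
  rw [Finset.prod_mul_distrib, Finset.prod_mul_distrib, ← fK, ← fX, ← fY, ← fI] at hprod
  have hcard : Nat.card K * Nat.card ↥(X ⊓ Y) = Nat.card X * Nat.card Y := by
    have hpos : 0 < (Nat.card ↥(K ⊓ Subgroup.centralizer (B : Set H)) *
        Nat.card ↥(X ⊓ Y ⊓ Subgroup.centralizer (B : Set H))) ^ p :=
      pow_pos (Nat.mul_pos Nat.card_pos Nat.card_pos) p
    refine Nat.eq_of_mul_eq_mul_right hpos ?_
    conv_rhs => rw [hCB]
    rw [mul_pow, mul_pow]
    linarith
  rw [← WielandtOrder.card_mul_set X Y, Nat.mul_right_cancel_iff Nat.card_pos] at hcard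
  refine (Set.eq_of_subset_of_ncard_le ?_ ?_ (Set.toFinite _)).symm
  · rintro _ ⟨x, hx, y, hy, rfl⟩
    exact K.mul_mem (hX hx) (hY hy)
  · rw [← Nat.card_coe_set_eq, ← Nat.card_coe_set_eq]
    exact hcard.le

end Cfsg.Agent.S1287
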