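import Cfsg.Statements.S1288
import Cfsg.Agent.Lib.Signalizer.Basic
import Cfsg.Agent.Lib.Solvable.Fitting
import Cfsg.Agent.Lib.Components.Extended
-- import your own Cfsg.Agent.* helpers here

set_option autoImplicit false
set_option linter.style.haveILetI false
open Cfsg
open scoped commutatorElement

namespace Cfsg.Agent.S1288

/-- Let A be a noncyclic elementary abelian p-subgroup of a finite group H normalizing a solvable subgroup K of order prime to p, q a prime dividing |K|, and U ≤ K a subgroup of order prime to q such that ⁅U, C_K(B)⁆ has order prime to q for every subgroup B of index p in A. Then U ≤ O_{q'}(K). -/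
theorem result {H : Type*} [Group H] [Finite H] (p : ℕ) [Fact p.Prime] (A K : Subgroup H) (hA : Cfsg.IsElementaryAbelian p A) (hA2 : p ^ 2 ≤ Nat.card ↥A) (hK : ¬ p ∣ Nat.card ↥K) (hKs : Group.IsSolvable ↥K) (hAK : A ≤ Subgroup.normalizer (K : Set H)) (q : ℕ) [Fact q.Prime] (hqK : q ∣ Nat.card ↥K) (U : Subgroup H) (hU : U ≤ K) (hUq : ¬ q ∣ Nat.card ↥U) (hcomm : ∀ B : Subgroup H, B ≤ A → B.relIndex A = p → ¬ q ∣ Nat.card ↥⁅U, K ⊓ Subgroup.centralizer (B : Set H)⁆) : U ≤ (Cfsg.pPrimeCore q ↥K).map K.subtype := by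
  classical
  haveI := hKs
  have hq := (Fact.out : q.Prime)
  set N := pPrimeCore q ↥K with hN
  haveI hNn : N.Normal := FittingCores.pPrimeCore_normal q
  let φ := QuotientGroup.mk' N
  set V := pPrimePCore q ↥K with hV
  have hO : pPrimeCore q (↥K ⧸ N) = ⊥ := FittingCores.pPrimeCore_quotient_eq_bot q N hN
  let W : Subgroup H := V.map K.subtype
  have hWK : W ≤ K := Subgroup.map_subtype_le _
  have hAW : A ≤ Subgroup.normalizer (W : Set H) := by
    refine Signalizer.le_normalizer_iff_conj_mem.2 ?_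
    rintro b hb _ ⟨v, hv, rfl⟩
    let c := K.normalizerMonoidHom ⟨b, hAK hb⟩
    refine ⟨c v, ?_, rfl⟩
    rw [hV, ← Components.pPrimePCore_map_equiv c]
    exact Subgroup.mem_map_of_mem _ hv
  haveI hVn : V.Normal := (FittingCores.pCore_normal q).comap φ
  let Ub : Subgroup (↥K ⧸ N) := (U.subgroupOf K).map φ
  have hcent : ∀ v : ↥K, v ∈ V → φ v ∈ Subgroup.centralizer (Ub : Set (↥K ⧸ N)) := by
    intro v hv
    let Y : Subgroup H := ((Subgroup.centralizer (Ub : Set (↥K ⧸ N))).comap φ).map K.subtype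
    suffices h : W ≤ Y by
      obtain ⟨w, hw, hwv⟩ := h ⟨v, hv, rfl⟩
      rw [← Subgroup.subtype_injective K hwv]
      exact hw
    refine Signalizer.le_of_hyperplane_le hA hA2 hAW (fun hd => hK (hd.trans (Subgroup.card_dvd_of_le hWK)))
      fun B hB hcard => ?_
    rintro _ ⟨⟨w, hw, rfl⟩, hwB⟩
    refine ⟨w, ?_, rfl⟩
    rw [SetLike.mem_coe, Subgroup.mem_comap, Subgroup.mem_centralizer_iff]
    rintro _ ⟨u, hu, rfl⟩
    rw [← commutatorElement_eq_one_iff_mul_comm, ← map_commutatorElement]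
    have h1 : (⁅u, w⁆ : ↥K) ∈ V :=
      Subgroup.commutator_le_right (H₁ := (⊤ : Subgroup ↥K)) V
        (Subgroup.commutator_mem_commutator (Subgroup.mem_top u) hw)
    obtain ⟨n, hn⟩ := (FittingCores.pCore_isPGroup q).exists_card_eq (p := q) (G := ↥(pCore q (↥K ⧸ N)))
    have ho1 : orderOf (φ ⁅u, w⁆) ∣ q ^ n := by
      rw [← hn]
      have := orderOf_dvd_natCard (⟨φ ⁅u, w⁆, h1⟩ : ↥(pCore q (↥K ⧸ N)))
      rwa [← Subgroup.orderOf_coe] at this
    have hmem : ((⁅u, w⁆ : ↥K) : H) ∈ ⁅U, K ⊓ Subgroup.centralizer (B : Set H)⁆ := by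
      simpa [commutatorElement_def] using
        Subgroup.commutator_mem_commutator (g₁ := (u : H)) (g₂ := (w : H)) hu (Subgroup.mem_inf.2 ⟨w.2, hwB⟩)
    have ho2 : orderOf (φ ⁅u, w⁆) ∣ Nat.card ↥⁅U, K ⊓ Subgroup.centralizer (B : Set H)⁆ := by
      refine (orderOf_map_dvd φ _).trans ?_
      rw [← Subgroup.orderOf_coe]
      have := orderOf_dvd_natCard (⟨_, hmem⟩ : ↥⁅U, K ⊓ Subgroup.centralizer (B : Set H)⁆)
      rwa [← Subgroup.orderOf_coe] at this
    rw [← orderOf_eq_one_iff]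
    exact Nat.eq_one_of_dvd_coprimes
      ((hq.coprime_iff_not_dvd.2 (hcomm B hB ((Signalizer.relIndex_eq_prime_iff hB).2 hcard))).pow_left n) ho1 ho2
  intro x hx
  let u : ↥K := ⟨x, hU hx⟩
  have hu : u ∈ U.subgroupOf K := hx
  have hmem : φ u ∈ pCore q (↥K ⧸ N) := by
    refine FittingCores.centralizer_pCore_le hq hO ?_
    refine Subgroup.mem_centralizer_iff.2 fun y hy => ?_
    obtain ⟨v, rfl⟩ := QuotientGroup.mk'_surjective N y
    exact (Subgroup.mem_centralizer_iff.1 (hcent v hy) _ ⟨u, hu, rfl⟩).symm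
  obtain ⟨n, hn⟩ := (FittingCores.pCore_isPGroup q).exists_card_eq (p := q) (G := ↥(pCore q (↥K ⧸ N)))
  have ho1 : orderOf (φ u) ∣ q ^ n := by
    rw [← hn]
    have := orderOf_dvd_natCard (⟨φ u, hmem⟩ : ↥(pCore q (↥K ⧸ N)))
    rwa [← Subgroup.orderOf_coe] at this
  have ho2 : orderOf (φ u) ∣ Nat.card U := by
    refine (orderOf_map_dvd φ _).trans ?_
    rw [← Subgroup.orderOf_coe]
    have := orderOf_dvd_natCard (⟨x, hx⟩ : U)
    rwa [← Subgroup.orderOf_coe] at this
  exact ⟨u, (QuotientGroup.eq_one_iff (N := N) u).1 (orderOf_eq_one_iff.1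
    (Nat.eq_one_of_dvd_coprimes ((hq.coprime_iff_not_dvd.2 hUq).pow_left n) ho1 ho2)), rfl⟩

end Cfsg.Agent.S1288
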