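import Cfsg.Statements.S1289
import Cfsg.Agent.Lib.Components.Extended
-- import your own Cfsg.Agent.* helpers here

set_option autoImplicit false
set_option linter.style.haveILetI false
open Cfsg

namespace Cfsg.Agent.S1289

/-- A p-component K of the finite group X is subnormal, perfect, of order divisible by p, and minimal among the subnormal perfect subgroups of X of order divisible by p. -/
theorem result {X : Type*} [Group X] [Finite X] (p : ℕ) [Fact p.Prime] (K : Subgroup X) (hK : Cfsg.IsPComponent p K) : K.IsSubnormal ∧ ⁅K, K⁆ = K ∧ p ∣ Nat.card ↥K ∧ ∀ H : Subgroup X, H ≤ K → H.IsSubnormal → ⁅H, H⁆ = H → p ∣ Nat.card ↥H → H = K := by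
  refine ⟨hK.1, Components.pComponent_commutator_eq hK, Components.pComponent_not_coprime hK,
    fun H hle hs hperf hdvd => ?_⟩
  set q := QuotientGroup.mk' (Cfsg.pPrimeCore p X)
  have hsub : (((H.map q).subgroupOf (K.map q))).IsSubnormal :=
    (hs.map (f := q) (QuotientGroup.mk'_surjective _)).subgroupOf
  rcases Components.quasisimple_subnormal hK.2.1.2 hsub with e | e
  · exact hK.2.2 H hs hle (le_antisymm (Subgroup.map_mono hle) (Subgroup.subgroupOf_eq_top.1 e))
  · exfalso
    have h0 : H.map q = ⊥ := by
      rw [← hperf, Subgroup.map_commutator, Subgroup.commutator_eq_bot_iff_le_centralizer]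
      intro x hx
      refine Subgroup.mem_centralizer_iff.2 fun y hy => ?_
      exact congrArg Subtype.val (Subgroup.mem_center_iff.1
        (e (Subgroup.mem_subgroupOf.2 hx : (⟨x, Subgroup.map_mono hle hx⟩ : ↥(K.map q)) ∈ _))
        ⟨y, Subgroup.map_mono hle hy⟩)
    rw [Subgroup.map_eq_bot_iff, QuotientGroup.ker_mk'] at h0
    exact (Nat.Prime.coprime_iff_not_dvd Fact.out).1
      ((FittingCores.pPrimeCore_coprime (G := X) p).coprime_dvd_left (Subgroup.card_dvd_of_le h0)).symm
      hdvd

end Cfsg.Agent.S1289
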