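import Cfsg.Statements.S1296
import Cfsg.Agent.Lib.Dichotomy.Main
import Cfsg.Agent.S0221
import Cfsg.Agent.S1292

set_option autoImplicit false
set_option linter.style.haveILetI false
open Cfsg Subgroup

namespace Cfsg.Agent.S1296

/-- Dichotomy Theorem. Let G be a finite group of even order with no normal subgroup of index 2 and with O(G) = 1. Then G has 2-rank at most 2, or G is of component type, or G is of characteristic 2 type. -/
theorem result {G : Type*} [Group G] [Finite G] (heven : Even (Nat.card G)) (hO2 : ∀ N : Subgroup G, N.Normal → N.index ≠ 2) (hO : Cfsg.oddCore G = ⊥) : Cfsg.PRankLE 2 2 G ∨ Cfsg.IsComponentType G ∨ Cfsg.IsCharacteristicTwoType G := by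
  haveI : Fact (Nat.Prime 2) := ⟨Nat.prime_two⟩
  refine or_iff_not_imp_left.2 fun h3 => or_iff_not_imp_left.2 fun hc => ⟨heven, ?_⟩
  have hcon : Agent.Dichotomy.AllConstrained G := by
    intro t ht
    refine Components.isPConstrained_iff_pLayer.2 (Components.pLayer_eq_bot_iff.2 ?_)
    refine le_bot_iff.1 (Components.layer_le_iff.2 fun L hL => ?_)
    exact absurd ⟨t, ht, L, hL.1, hL.2⟩ hc
  have hdeep : ∀ t : G, orderOf t = 2 → Signalizer.SFT.IsDeep 2 t := by
    intro t ht
    have hrank : ∃ E : Subgroup G, Nat.card E = 8 ∧ ∀ e ∈ E, e ^ 2 = 1 := by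
      simp only [Cfsg.PRankLE, not_forall, not_le] at h3
      obtain ⟨A, -, hA2, hA⟩ := h3
      have hp : IsPGroup 2 ↥A := fun a => ⟨1, Subtype.ext (by simpa using hA2 a a.2)⟩
      obtain ⟨k, hk⟩ := hp.exists_card_eq
      rw [hk] at hA
      obtain ⟨F, hF⟩ := Sylow.exists_subgroup_card_pow_prime 2 (G := ↥A) (n := 3)
        (hk ▸ pow_dvd_pow 2 (Nat.succ_le_of_lt ((Nat.pow_lt_pow_iff_right (by norm_num)).1 hA)))
      refine ⟨F.map A.subtype, by rw [card_map_of_injective A.subtype_injective, hF]; norm_num, ?_⟩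
      rintro _ ⟨e, -, rfl⟩
      exact hA2 _ e.2
    obtain ⟨E, hEC, hE8, hE2⟩ := S0221.result
      (fun H hH => hO2 H (normal_of_index_eq_two hH) hH) hrank t ht
    refine ⟨ht, fun h => ?_⟩
    have hc' : ∀ a ∈ E, ∀ b ∈ E, a * b = b * a := fun a ha b hb => by
      have hi : ∀ x ∈ E, x⁻¹ = x := fun x hx =>
        inv_eq_of_mul_eq_one_left (by rw [← pow_two]; exact hE2 x hx)
      calc a * b = (a * b)⁻¹ := (hi _ (mul_mem ha hb)).symm
        _ = b * a := by rw [mul_inv_rev, hi a ha, hi b hb]
    have h8 := h (E.subgroupOf _)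
      (.of_setLike_mul_comm fun a ha b hb => Subtype.ext (hc' _ ha _ hb))
      fun a ha => Subtype.ext (by simpa using hE2 (a : G) ha)
    rw [Nat.card_congr (subgroupOfEquivOfLe hEC).toEquiv, hE8] at h8
    norm_num at h8
  have hF : ∀ t : G, orderOf t = 2 → Cfsg.generalizedFittingSubgroup ↥(centralizer ({t} : Set G)) =
      Cfsg.pCore 2 ↥(centralizer ({t} : Set G)) := by
    intro t ht
    refine Signalizer.SFT.generalizedFitting_eq_pCore_of_bot ?_
      (Components.isPConstrained_iff_pLayer.1 (hcon t ht))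
    exact (map_eq_bot_iff_of_injective _ (subtype_injective _)).1
      (Agent.Dichotomy.cores_trivial h3 hO hcon hdeep ht)
  exact fun T hT hT1 => Components.generalizedFitting_eq_pCore_iff.1 (S1292.result hF T hT hT1)

end Cfsg.Agent.S1296
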