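import Cfsg.Statements.S1297
import Cfsg.Agent.Lib.Components.LocalBalance
-- import your own Cfsg.Agent.* helpers here

set_option autoImplicit false
set_option linter.style.haveILetI false
open Cfsg

namespace Cfsg.Agent.S1297

/-- Let G be finite. Suppose that for every involution x, writing C = C_G(x), every component K of C / O(C) has K / Z(K) locally balanced. Then G is balanced. -/
theorem result {G : Type*} [Group G] [Finite G] (h : ∀ x : G, orderOf x = 2 → ∀ K : Subgroup (↥(Subgroup.centralizer ({x} : Set G)) ⧸ Cfsg.oddCore ↥(Subgroup.centralizer ({x} : Set G))), Cfsg.IsComponent K → Cfsg.IsLocallyBalanced (↥K ⧸ Subgroup.center ↥K)) : Cfsg.IsBalanced G := by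
  classical
  haveI : Fact (Nat.Prime 2) := ⟨Nat.prime_two⟩
  have key : ∀ x y : G, orderOf x = 2 → orderOf y = 2 → x * y = y * x →
      Cfsg.centralizerPPrimeCore 2 x ⊓ Subgroup.centralizer {y} ≤
        Cfsg.centralizerPPrimeCore 2 y ⊓ Subgroup.centralizer {x} := by
    intro x y hx hy hxy
    let A := Subgroup.zpowers x
    have hAc : Nat.card ↥A = 2 ^ 1 := by rw [Nat.card_zpowers, hx, pow_one]
    have hAmem : ∀ a ∈ A, a = 1 ∨ a = x := fun a ha => by
      obtain ⟨i, rfl⟩ := Subgroup.mem_zpowers_iff.1 ha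
      have hx2 : x ^ (2 : ℤ) = 1 := by rw [zpow_two, ← pow_two, ← hx, pow_orderOf_eq_one]
      rw [← Int.emod_add_mul_ediv i 2, zpow_add, zpow_mul, hx2, one_zpow, mul_one]
      rcases Int.emod_two_eq i with h | h <;> rw [h] <;> simp
    have hA : Cfsg.IsElementaryAbelian 2 A := by
      refine ⟨⟨⟨?_⟩⟩, fun a ha => ?_⟩
      · rintro ⟨a, ha⟩ ⟨a', ha'⟩
        refine Subtype.ext ?_
        show a * a' = a' * a
        rcases hAmem a ha with rfl | rfl <;> rcases hAmem a' ha' with rfl | rfl <;> simp
      · rcases hAmem a ha with rfl | rfl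
        · simp
        · rw [← hx, pow_orderOf_eq_one]
    have hcomm : ∀ a ∈ A, a * y = y * a := fun a ha => by
      rcases hAmem a ha with rfl | rfl <;> simp [hxy]
    have hle := Cfsg.Agent.Components.delta_inf_centralizer_le le_rfl hA hAc hcomm fun K hK H hH B hB hBc => by
      obtain ⟨b, hb, hb1⟩ : ∃ b ∈ B, b ≠ 1 := by
        refine B.bot_or_exists_ne_one.resolve_left fun hb => ?_
        rw [hb, Subgroup.card_bot] at hBc
        norm_num at hBc
      refine le_bot_iff.1 ?_
      rw [← h y hy K hK H hH b (Cfsg.Agent.Signalizer.ea_orderOf hB hb hb1)]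
      exact iInf_le (fun b : {b // b ∈ B ∧ b ≠ 1} => Cfsg.centralizerPPrimeCore 2 (b : ↥H)) ⟨b, hb, hb1⟩
    intro z hz
    have h1 := (Cfsg.Agent.Components.centralizerPPrimeCore_props (p := 2) x).1 hz.1
    rw [Subgroup.zpowers_eq_closure, Subgroup.centralizer_closure] at h1
    refine ⟨hle ⟨Subgroup.mem_iInf.2 fun a => ?_, hz.2⟩, h1⟩
    rcases hAmem a a.2.1 with ha | ha
    · exact absurd ha a.2.2
    · rw [ha]; exact hz.1
  exact fun x y hx hy hxy => le_antisymm (key x y hx hy hxy) (key y x hy hx hxy.symm)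

end Cfsg.Agent.S1297
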