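import Cfsg.Statements.S1299
import Cfsg.Agent.Lib.Components.Balance
import Cfsg.Agent.Lib.Signalizer.Local
-- import your own Cfsg.Agent.* helpers here

set_option autoImplicit false
set_option linter.style.haveILetI false
open Cfsg

namespace Cfsg.Agent.S1299

/-- Let G be finite and k-balanced for the prime p (k ≥ 1), A an elementary abelian p-subgroup of order at least p^(k+2) such that O_{p'}(C_G(a)) is solvable for every non-identity a ∈ A. For a ∈ A put θ a = the subgroup generated by the Δ_G(D) ∩ C_G(a) over the subgroups D ≤ A of order p^k. Then θ is an A-signalizer functor. -/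
theorem result {G : Type*} [Group G] [Finite G] (p k : ℕ) [Fact p.Prime] (hk : 1 ≤ k) (hbal : Cfsg.IsKBalanced p k G) (A : Subgroup G) (hA : Cfsg.IsElementaryAbelian p A) (hAk : p ^ (k + 2) ≤ Nat.card ↥A) (hsolv : ∀ a ∈ A, a ≠ 1 → Group.IsSolvable ↥(Cfsg.centralizerPPrimeCore p a)) : Cfsg.IsSignalizerFunctor p A (fun a => ⨆ D : {D : Subgroup G // D ≤ A ∧ Nat.card ↥D = p ^ k}, Cfsg.signalizerDelta p (D : Subgroup G) ⊓ Subgroup.centralizer {a}) := by
  classical
  have hp := (Fact.out : p.Prime)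
  have hpk : ∀ j, j ≤ k + 2 → p ^ j ≤ Nat.card ↥A := fun j hj => (Nat.pow_le_pow_right hp.pos hj).trans hAk
  have hA2 : p ^ 2 ≤ Nat.card ↥A := hpk 2 (by omega)
  have hdelta : ∀ (D : Subgroup G) (d : G), d ∈ D → d ≠ 1 →
      Cfsg.signalizerDelta p D ≤ Cfsg.centralizerPPrimeCore p d :=
    fun D d hd hd1 => iInf_le (fun a : {a : G // a ∈ D ∧ a ≠ 1} => Cfsg.centralizerPPrimeCore p (a : G)) ⟨d, hd, hd1⟩
  have hanti : ∀ D E : Subgroup G, D ≤ E → Cfsg.signalizerDelta p E ≤ Cfsg.signalizerDelta p D :=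
    fun D E hDE => le_iInf fun a => hdelta E a (hDE a.2.1) a.2.2
  have hk' : ∀ D : Subgroup G, D ≤ A → Nat.card ↥D = p ^ k → ∀ b ∈ A, b ≠ 1 →
      Cfsg.signalizerDelta p D ⊓ Subgroup.centralizer {b} ≤ Cfsg.centralizerPPrimeCore p b :=
    fun D hD hDc b hb hb1 => hbal D (Cfsg.Agent.Signalizer.ea_mono hA hD) hDc b
      (Cfsg.Agent.Signalizer.ea_orderOf hA hb hb1) fun d hd => Cfsg.Agent.Signalizer.ea_comm hA (hD hd) hb
  have hAC : ∀ b ∈ A, A ≤ Subgroup.centralizer ({b} : Set G) := fun b hb x hx => by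
    rw [Subgroup.mem_centralizer_iff]
    rintro _ rfl
    exact Cfsg.Agent.Signalizer.ea_comm hA hb hx
  have hAn : ∀ D : Subgroup G, D ≤ A → A ≤ Subgroup.normalizer (Cfsg.signalizerDelta p D : Set G) := by
    intro D hD
    refine le_trans ?_ (Subgroup.iInf_normalizer_le_normalizer_iInf _)
    refine le_iInf fun d => ?_
    obtain ⟨-, h2, -⟩ := Cfsg.Agent.Components.centralizerPPrimeCore_props (p := p) (d : G)
    refine le_trans ?_ h2
    rw [Subgroup.zpowers_eq_closure, Subgroup.centralizer_closure]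
    exact hAC _ (hD d.2.1)
  have hAnC : ∀ b ∈ A, A ≤ Subgroup.normalizer (Subgroup.centralizer ({b} : Set G) : Set G) :=
    fun b hb => (hAC b hb).trans Subgroup.le_normalizer
  have hle : ∀ a ∈ A, a ≠ 1 →
      (⨆ D : {D : Subgroup G // D ≤ A ∧ Nat.card ↥D = p ^ k},
        Cfsg.signalizerDelta p (D : Subgroup G) ⊓ Subgroup.centralizer {a}) ≤
        Cfsg.centralizerPPrimeCore p a :=
    fun a ha ha1 => iSup_le fun D => hk' D D.2.1 D.2.2 a ha ha1
  refine ⟨fun a _ _ => iSup_le fun D => inf_le_right, fun a ha ha1 => ?_, fun a ha _ b hb x hx => ?_,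
    fun a ha ha1 b hb hb1 => ?_⟩
  · intro hdvd
    have h3 := (Cfsg.Agent.Components.centralizerPPrimeCore_props (p := p) a).2.2
    have := hdvd.trans (Subgroup.card_dvd_of_le (hle a ha ha1))
    exact (hp.coprime_iff_not_dvd.1 h3.symm) this
  · refine (Subgroup.mem_normalizer_iff.1 ?_ x).1 hx
    exact ((le_iInf fun D : {D : Subgroup G // D ≤ A ∧ Nat.card ↥D = p ^ k} =>
      (le_inf (hAn D D.2.1) (hAnC a ha)).trans Subgroup.inf_normalizer_le_normalizer_inf).trans
      (Subgroup.iInf_normalizer_le_normalizer_iSup _)) hb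
  · set K := Cfsg.centralizerPPrimeCore p a
    have hKc : (Nat.card ↥K).Coprime p := (Cfsg.Agent.Components.centralizerPPrimeCore_props (p := p) a).2.2
    have hKp : ∀ X : Subgroup G, X ≤ K → ¬ p ∣ Nat.card ↥X := fun X hX hd =>
      (hp.coprime_iff_not_dvd.1 hKc.symm) (hd.trans (Subgroup.card_dvd_of_le hX))
    let I := {E : Subgroup G // E ≤ A ∧ Nat.card ↥E * p = Nat.card ↥A}
    have hsub : ∀ E F : I, ∃ D : Subgroup G, D ≤ (E : Subgroup G) ⊓ F ∧ Nat.card ↥D = p ^ k := by
      intro E F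
      have hF : (F : Subgroup G).relIndex A = p :=
        Nat.eq_of_mul_eq_mul_left Nat.card_pos ((Cfsg.Agent.PBasic.card_mul_relIndex F.2.1).trans F.2.2.symm)
      have hEF : Nat.card ↥(E : Subgroup G) ≤ Nat.card ↥((E : Subgroup G) ⊓ F) * p := by
        rw [← Cfsg.Agent.PBasic.card_mul_relIndex (inf_le_left : (E : Subgroup G) ⊓ F ≤ E),
          Subgroup.inf_relIndex_left]
        refine Nat.mul_le_mul_left _ (le_trans ?_ hF.le)
        exact Subgroup.relIndex_le_of_le_right E.2.1 (by rw [hF]; exact hp.ne_zero)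
      have hk2 : p ^ k * (p * p) ≤ Nat.card ↥((E : Subgroup G) ⊓ F) * (p * p) := by
        rw [← mul_assoc (Nat.card _), ← pow_two, ← pow_add]
        exact le_trans hAk (E.2.2.ge.trans (Nat.mul_le_mul_right p hEF))
      have hk3 := Nat.le_of_mul_le_mul_right hk2 (Nat.mul_pos hp.pos hp.pos)
      obtain ⟨n, hn⟩ := ((Cfsg.Agent.Signalizer.ea_isPGroup hA).to_le
        (inf_le_left.trans E.2.1 : (E : Subgroup G) ⊓ F ≤ A)).exists_card_eq
      have hkn : k ≤ n := (Nat.pow_le_pow_iff_right hp.one_lt).1 (hn ▸ hk3)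
      obtain ⟨D, hD⟩ := Sylow.exists_subgroup_card_pow_prime p
        (show p ^ k ∣ Nat.card ↥((E : Subgroup G) ⊓ F) from hn ▸ pow_dvd_pow p hkn)
      exact ⟨D.map ((E : Subgroup G) ⊓ F).subtype, Subgroup.map_subtype_le _,
        by rw [Subgroup.card_map_of_injective ((E : Subgroup G) ⊓ F).subtype_injective, hD]⟩
    let Y : I → Subgroup G := fun E =>
      Cfsg.signalizerDelta p (E : Subgroup G) ⊓ Subgroup.centralizer ((E : Subgroup G) : Set G) ⊓
        Subgroup.centralizer {a}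
    have hYX : ∀ (E : I) (D : Subgroup G), D ≤ E →
        Y E ≤ Cfsg.signalizerDelta p D ⊓ Subgroup.centralizer {a} :=
      fun E D hD => inf_le_inf_right _ (inf_le_left.trans (hanti _ _ hD))
    have hXY : ∀ D : Subgroup G, D ≤ A → Nat.card ↥D = p ^ k → ∀ E : I,
        Cfsg.signalizerDelta p D ⊓ Subgroup.centralizer {a} ⊓
          Subgroup.centralizer ((E : Subgroup G) : Set G) ≤ Y E := by
      intro D hD hDc E x hx
      refine ⟨⟨Subgroup.mem_iInf.2 fun e => ?_, hx.2⟩, hx.1.2⟩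
      refine hk' D hD hDc e (E.2.1 e.2.1) e.2.2 ⟨hx.1.1, Subgroup.mem_centralizer_iff.2 ?_⟩
      intro z hz
      rw [show z = (e : G) from hz]
      exact Subgroup.mem_centralizer_iff.1 hx.2 _ e.2.1
    have hgen : ∀ X Z : Subgroup G, A ≤ Subgroup.normalizer (X : Set G) → X ≤ K →
        (∀ E : I, X ⊓ Subgroup.centralizer ((E : Subgroup G) : Set G) ≤ Z) → X ≤ Z :=
      fun X Z hAX hXK h => Cfsg.Agent.Signalizer.le_of_hyperplane_le hA hA2 hAX (hKp X hXK)
        fun E hE hEc => h ⟨E, hE, hEc⟩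
    have hcomp := Cfsg.Agent.Signalizer.complete_of_coherent (A := A) (K := K) (hsolv a ha ha1)
      (Cfsg.Agent.Signalizer.coprime_card (Cfsg.Agent.Signalizer.ea_isPGroup hA) (hKp K le_rfl))
      (fun E : I => (E : Subgroup G)) Y (fun E => E.2.1)
      (fun E => by
        obtain ⟨D, hD, hDc⟩ := hsub E E
        exact (hYX E D (hD.trans inf_le_left)).trans (hk' D (hD.trans (inf_le_left.trans E.2.1)) hDc a ha ha1))
      (fun E => by
        have h1 : A ≤ Subgroup.normalizer (Subgroup.centralizer ((E : Subgroup G) : Set G) : Set G) :=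
          le_trans (fun x hx => Subgroup.mem_centralizer_iff.2 fun e he =>
            Cfsg.Agent.Signalizer.ea_comm hA (E.2.1 he) hx) Subgroup.le_normalizer
        exact (le_inf ((le_inf (hAn _ E.2.1) h1).trans Subgroup.inf_normalizer_le_normalizer_inf)
          (hAnC a ha)).trans Subgroup.inf_normalizer_le_normalizer_inf)
      hgen (fun E F => by
        obtain ⟨D, hD, hDc⟩ := hsub E F
        have hDA : D ≤ A := hD.trans (inf_le_left.trans E.2.1)
        exact ⟨_, hk' D hDA hDc a ha ha1,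
          (le_inf (hAn D hDA) (hAnC a ha)).trans Subgroup.inf_normalizer_le_normalizer_inf,
          hYX E D (hD.trans inf_le_left), hYX F D (hD.trans inf_le_right), hXY D hDA hDc⟩)
    set θa := ⨆ D : {D : Subgroup G // D ≤ A ∧ Nat.card ↥D = p ^ k},
        Cfsg.signalizerDelta p (D : Subgroup G) ⊓ Subgroup.centralizer {a}
    have hθW : θa ≤ ⨆ E, Y E := iSup_le fun D =>
      hgen _ _ ((le_inf (hAn D D.2.1) (hAnC a ha)).trans Subgroup.inf_normalizer_le_normalizer_inf)
        (hk' D D.2.1 D.2.2 a ha ha1) fun E => (hXY D D.2.1 D.2.2 E).trans (le_iSup Y E)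
    have hAθ : A ≤ Subgroup.normalizer (θa : Set G) :=
      (le_iInf fun D : {D : Subgroup G // D ≤ A ∧ Nat.card ↥D = p ^ k} =>
        (le_inf (hAn D D.2.1) (hAnC a ha)).trans Subgroup.inf_normalizer_le_normalizer_inf).trans
        (Subgroup.iInf_normalizer_le_normalizer_iSup _)
    refine hgen _ _ ((le_inf hAθ (hAnC b hb)).trans Subgroup.inf_normalizer_le_normalizer_inf)
      (inf_le_left.trans (hle a ha ha1)) fun E x hx => ?_
    have hxY : x ∈ Y E := hcomp E ⟨hθW hx.1.1, hx.2⟩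
    obtain ⟨D, hD, hDc⟩ := hsub E E
    exact le_iSup (fun D : {D : Subgroup G // D ≤ A ∧ Nat.card ↥D = p ^ k} =>
      Cfsg.signalizerDelta p (D : Subgroup G) ⊓ Subgroup.centralizer {b})
      ⟨D, hD.trans (inf_le_left.trans E.2.1), hDc⟩ ⟨hanti D E (hD.trans inf_le_left) hxY.1.1, hx.1.2⟩

end Cfsg.Agent.S1299
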