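import Cfsg.Statements.S1300

-- import your own Cfsg.Agent.* helpers here

set_option autoImplicit false
set_option linter.style.haveILetI false
open Cfsg

namespace Cfsg.Agent.S1300

private theorem exists_ne_one_of_card {A : Type*} [Group A] (h : Nat.card A = 2) : ∃ a : A, a ≠ 1 := by
  haveI : Finite A := Nat.finite_of_card_ne_zero (by omega)
  haveI : Nontrivial A := Finite.one_lt_card_iff_nontrivial.1 (by omega)
  exact exists_ne 1

/-- For a finite group G, balance in the sense of commuting involutions is the same as 1-balance for the prime 2. -/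
theorem result {G : Type*} [Group G] [Finite G] : Cfsg.IsBalanced G ↔ Cfsg.IsKBalanced 2 1 G := by
  constructor
  · intro hb A hA hcard b hb2 hcomm
    rw [pow_one] at hcard
    haveI : Finite A := inferInstance
    obtain ⟨a, ha⟩ := exists_ne_one_of_card hcard
    have hao : orderOf (a : G) = 2 := orderOf_eq_prime (hA.2 a a.2) (fun e => ha (Subtype.ext e))
    intro x hx
    have hx1 : x ∈ centralizerPPrimeCore 2 (a : G) := by
      have := Subgroup.mem_iInf.1 hx.1 ⟨(a : G), a.2, fun e => ha (Subtype.ext e)⟩
      exact this
    have h := hb (a : G) b hao hb2 (hcomm a a.2)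
    have hx2 : x ∈ centralizerPPrimeCore 2 (a : G) ⊓ Subgroup.centralizer {b} := ⟨hx1, hx.2⟩
    rw [h] at hx2
    exact hx2.1
  · intro hb x y hx hy hxy
    have key : ∀ x y : G, orderOf x = 2 → orderOf y = 2 → x * y = y * x →
        centralizerPPrimeCore 2 x ⊓ Subgroup.centralizer {y} ≤
          centralizerPPrimeCore 2 y ⊓ Subgroup.centralizer {x} := by
      intro x y hx hy hxy g hg
      have hcent : g ∈ Subgroup.centralizer ({x} : Set G) := Subgroup.map_subtype_le _ hg.1
      refine ⟨hb (Subgroup.zpowers x) ⟨inferInstance, ?_⟩ ?_ y hy ?_ ⟨?_, hg.2⟩, hcent⟩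
      · intro a ha
        obtain ⟨n, rfl⟩ := Subgroup.mem_zpowers_iff.1 ha
        rw [← zpow_natCast, ← zpow_mul, mul_comm, zpow_mul, zpow_natCast, ← hx, pow_orderOf_eq_one,
          one_zpow]
      · rw [Nat.card_zpowers, hx, pow_one]
      · intro a ha
        obtain ⟨n, rfl⟩ := Subgroup.mem_zpowers_iff.1 ha
        exact ((show Commute x y from hxy).zpow_left n).eq
      · refine Subgroup.mem_iInf.2 fun a => ?_
        obtain ⟨a, ha, ha1⟩ := a
        have : a = x := by
          obtain ⟨n, rfl⟩ := Subgroup.mem_zpowers_iff.1 ha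
          rw [← zpow_mod_orderOf, hx] at ha1 ⊢
          rcases Int.emod_two_eq_zero_or_one n with e | e
          · exact absurd (by simp [e]) ha1
          · simp [e]
        show g ∈ centralizerPPrimeCore 2 a
        subst this
        exact hg.1
    exact le_antisymm (key x y hx hy hxy) (key y x hy hx hxy.symm)

end Cfsg.Agent.S1300
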