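import Cfsg.Statements.S1302
import Cfsg.Agent.Lib.Signalizer.OddPAction
import Cfsg.Agent.Lib.Components.Local
import Cfsg.Agent.Lib.Transfer.Basic
-- import your own Cfsg.Agent.* helpers here

set_option autoImplicit false
set_option linter.style.haveILetI false
open Cfsg

namespace Cfsg.Agent.S1302

/-- Let X be a finite p-constrained group, p an odd prime, and A an abelian p-subgroup of X containing every element of order p of C_X(A). Then every subgroup of X of order prime to p that is normalized by A lies in O_{p'}(X). -/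
theorem result {X : Type*} [Group X] [Finite X] (p : ℕ) [Fact p.Prime] (hp : p ≠ 2) (hX : Cfsg.IsPConstrained p X) (A : Subgroup X) (hA : IsMulCommutative ↥A) (hAp : IsPGroup p ↥A) (hΩ : ∀ x ∈ Subgroup.centralizer (A : Set X), orderOf x = p → x ∈ A) (Q : Subgroup X) (hQ : ¬ p ∣ Nat.card ↥Q) (hAQ : A ≤ Subgroup.normalizer (Q : Set X)) : Q ≤ Cfsg.pPrimeCore p X := by
  classical
  obtain hX' := Cfsg.Agent.Components.isPConstrained_iff_charP.1 hX
  haveI hKn : (Cfsg.pPrimeCore p X).Normal := by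
    haveI := Cfsg.Agent.PBasic.pPrimeCore_characteristic p X; infer_instance
  set K := Cfsg.pPrimeCore p X
  have hKc : (Nat.card K).Coprime p := Cfsg.Agent.PBasic.pPrimeCore_coprime p X
  let f := QuotientGroup.mk' K
  have hfsurj : Function.Surjective f := QuotientGroup.mk'_surjective K
  haveI : Finite (X ⧸ K) := Finite.of_surjective f hfsurj
  set P := Cfsg.pCore p (X ⧸ K)
  haveI hPn : P.Normal := by
    haveI := Cfsg.Agent.PBasic.pCore_characteristic p (X ⧸ K); infer_instance
  have hP : IsPGroup p P := Cfsg.Agent.PBasic.pCore_isPGroup p _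
  have hQc : (Nat.card Q).Coprime p := by
    rw [Nat.coprime_comm, (Fact.out : p.Prime).coprime_iff_not_dvd]; exact hQ
  have hQc' : (Nat.card (Q.map f)).Coprime p := Nat.Coprime.coprime_dvd_left (Q.card_map_dvd f) hQc
  have hAQ' : A.map f ≤ Subgroup.normalizer ((Q.map f : Subgroup (X ⧸ K)) : Set (X ⧸ K)) :=
    (Subgroup.map_mono hAQ).trans (Subgroup.le_normalizer_map f)
  have hnorm : ∀ S : Subgroup (X ⧸ K), S ≤ Subgroup.normalizer (P : Set (X ⧸ K)) := fun S => by
    rw [Subgroup.normalizer_eq_top_iff.2 hPn]; exact le_top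
  suffices h : ⁅P, Q.map f⁆ = ⊥ by
    intro x hx
    have h1 : f x ∈ P := by
      apply hX'
      have := Subgroup.commutator_eq_bot_iff_le_centralizer.1 ((Subgroup.commutator_comm _ _).trans h)
      exact this ⟨x, hx, rfl⟩
    have h2 : f x = 1 := Cfsg.Agent.PBasic.eq_one_of_isPGroup_of_coprime hP h1
      (Cfsg.Agent.PBasic.coprime_orderOf_of_mem hQc' ⟨x, hx, rfl⟩)
    exact (QuotientGroup.eq_one_iff x).1 h2
  refine Cfsg.Agent.Signalizer.centralizes_of_centralizes_fixed_omega hp (hAp.map f) hQc' hAQ' P hP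
    (hnorm _) (hnorm _) fun xb hxb hxp hxA => ?_
  let D := A.map f ⊔ Subgroup.zpowers xb
  have hDcomm : ∀ a ∈ D, ∀ b ∈ D, a * b = b * a := by
    have hgen : D ≤ Subgroup.centralizer (((A.map f : Subgroup (X ⧸ K)) : Set (X ⧸ K)) ∪ {xb}) := by
      refine sup_le ?_ (Subgroup.zpowers_le.2 ?_)
      · rintro _ ⟨a, ha, rfl⟩
        rw [Subgroup.mem_centralizer_iff]
        rintro y (⟨b, hb, rfl⟩ | rfl)
        · rw [← map_mul, ← map_mul]
          exact congrArg f (congrArg Subtype.val (hA.is_comm.comm (⟨b, hb⟩ : A) ⟨a, ha⟩))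
        · exact (Subgroup.mem_centralizer_iff.1 hxA _ ⟨a, ha, rfl⟩).symm
      · rw [Subgroup.mem_centralizer_iff]
        rintro y (hy | rfl)
        · exact Subgroup.mem_centralizer_iff.1 hxA y hy
        · rfl
    intro a ha b hb
    have hb' : D ≤ Subgroup.centralizer ({a} : Set (X ⧸ K)) := by
      refine sup_le (fun y hy => ?_) (Subgroup.zpowers_le.2 ?_) <;>
        rw [Subgroup.mem_centralizer_iff] <;> rintro z rfl
      · exact (Subgroup.mem_centralizer_iff.1 (hgen ha) y (Or.inl hy)).symm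
      · exact (Subgroup.mem_centralizer_iff.1 (hgen ha) xb (Or.inr rfl)).symm
    exact Subgroup.mem_centralizer_iff.1 (hb' hb) a rfl
  have hDp : IsPGroup p D := by
    have hz : IsPGroup p (Subgroup.zpowers xb) := hP.to_le (Subgroup.zpowers_le.2 hxb)
    refine IsPGroup.to_sup_of_normal_left' (hAp.map f) hz fun y hy => ?_
    rw [Subgroup.mem_normalizer_iff]
    intro w
    have hc : ∀ w ∈ A.map f, y * w * y⁻¹ = w := fun w hw => by
      rw [hDcomm y (Subgroup.mem_sup_right hy) w (Subgroup.mem_sup_left hw), mul_inv_cancel_right]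
    refine ⟨fun hw => by rw [hc w hw]; exact hw, fun hw => ?_⟩
    have := hc _ hw
    rw [mul_left_inj, mul_right_inj] at this
    rwa [this] at hw
  let g : (D.comap f) →* D := (f.comp (D.comap f).subtype).codRestrict D fun y => y.2
  have hg : Function.Surjective g := fun d => by
    obtain ⟨y, hy⟩ := hfsurj d.1
    exact ⟨⟨y, show f y ∈ D by rw [hy]; exact d.2⟩, Subtype.ext hy⟩
  have hAD : A ≤ D.comap f := fun a ha => Subgroup.mem_sup_left ⟨a, ha, rfl⟩
  obtain ⟨S, hS⟩ := (hAp.comap_of_injective (D.comap f).subtype (D.comap f).subtype_injective :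
    IsPGroup p (A.subgroupOf (D.comap f))).exists_le_sylow
  have htop : ((S.mapSurjective hg : Sylow p D) : Subgroup D) = ⊤ :=
    ((S.mapSurjective hg).is_maximal' (hDp.of_equiv Subgroup.topEquiv.symm) le_top).symm
  have hxD : (⟨xb, Subgroup.mem_sup_right (Subgroup.mem_zpowers xb)⟩ : D) ∈
      ((S.mapSurjective hg : Sylow p D) : Subgroup D) := htop ▸ Subgroup.mem_top _
  rw [Sylow.coe_mapSurjective] at hxD
  obtain ⟨z, hzS, hzx⟩ := hxD
  have hzx' : f z.1 = xb := congrArg Subtype.val hzx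
  have hinj : ∀ w : D.comap f, w ∈ (S : Subgroup (D.comap f)) → f w.1 = 1 → w = 1 := by
    intro w hw h1
    have hwK : w.1 ∈ K := (QuotientGroup.eq_one_iff w.1).1 h1
    refine Cfsg.Agent.PBasic.eq_one_of_isPGroup_of_coprime S.isPGroup' hw ?_
    rw [← Subgroup.orderOf_coe w]
    exact Cfsg.Agent.PBasic.coprime_orderOf_of_mem hKc hwK
  have hScomm : ∀ u v : D.comap f, u ∈ (S : Subgroup (D.comap f)) → v ∈ (S : Subgroup (D.comap f)) →
      u * v = v * u := by
    intro u v hu hv
    have := hinj (u * v * (v * u)⁻¹) (Subgroup.mul_mem _ (Subgroup.mul_mem _ hu hv)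
      (Subgroup.inv_mem _ (Subgroup.mul_mem _ hv hu))) (by
        simp only [Subgroup.coe_mul, Subgroup.coe_inv, map_mul, map_inv]
        rw [hDcomm _ u.2 _ v.2, mul_inv_cancel])
    exact mul_inv_eq_one.1 this
  have hzA : z.1 ∈ Subgroup.centralizer (A : Set X) := by
    rw [Subgroup.mem_centralizer_iff]
    intro a ha
    exact congrArg Subtype.val (hScomm ⟨a, hAD ha⟩ z (hS ha) hzS)
  have hzp : z.1 ^ p = 1 := by
    have := hinj (z ^ p) (Subgroup.pow_mem _ hzS p) (by
      rw [Subgroup.coe_pow, map_pow, hzx', hxp])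
    rw [← Subgroup.coe_pow, this, Subgroup.coe_one]
  have hzmem : z.1 ∈ A := by
    rcases eq_or_ne z.1 1 with h | h
    · rw [h]; exact A.one_mem
    · exact hΩ _ hzA (orderOf_eq_prime hzp h)
  rw [Subgroup.mem_centralizer_iff]
  intro q hq
  have hxb' : xb ∈ A.map f := ⟨z.1, hzmem, hzx'⟩
  have h1 : q * xb * q⁻¹ * xb⁻¹ ∈ P := P.mul_mem (hPn.conj_mem xb hxb q) (P.inv_mem hxb)
  have h2 : q * xb * q⁻¹ * xb⁻¹ ∈ Q.map f := by
    rw [show q * xb * q⁻¹ * xb⁻¹ = q * (xb * q⁻¹ * xb⁻¹) by group]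
    exact Subgroup.mul_mem _ hq ((Subgroup.mem_normalizer_iff.1 (hAQ' hxb') _).1 (Subgroup.inv_mem _ hq))
  have h3 := Cfsg.Agent.PBasic.eq_one_of_isPGroup_of_coprime hP h1
    (Cfsg.Agent.PBasic.coprime_orderOf_of_mem hQc' h2)
  exact mul_inv_eq_iff_eq_mul.1 (mul_inv_eq_one.1 h3)

end Cfsg.Agent.S1302
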