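import Cfsg.Statements.S1303
import Cfsg.Agent.Lib.Components.Local
import Mathlib.LinearAlgebra.Matrix.SpecialLinearGroup
-- import your own Cfsg.Agent.* helpers here

set_option autoImplicit false
set_option linter.style.haveILetI false
open Cfsg

namespace Cfsg.Agent.S1303

/-- The group X = SL(2, 3): it is 2-constrained, O_{2'}(X) = 1, its centre A = Z(X) contains every involution of X = C_X(A), and X has a subgroup of order 3 (normalized by A) not contained in O_{2'}(X). -/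
theorem result : Cfsg.IsPConstrained 2 (Matrix.SpecialLinearGroup (Fin 2) (ZMod 3)) ∧ Cfsg.pPrimeCore 2 (Matrix.SpecialLinearGroup (Fin 2) (ZMod 3)) = ⊥ ∧ (∀ t : Matrix.SpecialLinearGroup (Fin 2) (ZMod 3), orderOf t = 2 → t ∈ Subgroup.center (Matrix.SpecialLinearGroup (Fin 2) (ZMod 3))) ∧ ∃ Q : Subgroup (Matrix.SpecialLinearGroup (Fin 2) (ZMod 3)), Nat.card ↥Q = 3 ∧ ¬ (Q ≤ Cfsg.pPrimeCore 2 (Matrix.SpecialLinearGroup (Fin 2) (ZMod 3))) := by
  classical
  haveI := Fact.mk Nat.prime_two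
  have hexp : ∀ x : Matrix.SpecialLinearGroup (Fin 2) (ZMod 3), x ^ 2 = 1 ∨
      ∃ g, (g * x * g⁻¹ * x⁻¹) ^ 4 = 1 ∧ g * x * g⁻¹ * x⁻¹ ≠ 1 := by decide +kernel
  have hO : Cfsg.pPrimeCore 2 (Matrix.SpecialLinearGroup (Fin 2) (ZMod 3)) = ⊥ := by
    rw [eq_bot_iff]
    intro x hx
    rw [Subgroup.mem_bot]
    rcases hexp x with h | ⟨g, h4, h1⟩
    · have hcop := (FittingCores.pPrimeCore_coprime
        (G := Matrix.SpecialLinearGroup (Fin 2) (ZMod 3)) 2).coprime_dvd_left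
          (Subgroup.orderOf_dvd_natCard _ hx)
      exact orderOf_eq_one_iff.1 (Nat.eq_one_of_dvd_coprimes hcop dvd_rfl (orderOf_dvd_of_pow_eq_one h))
    · exfalso
      have hn := FittingCores.pPrimeCore_normal (G := Matrix.SpecialLinearGroup (Fin 2) (ZMod 3)) 2
      have hc : g * x * g⁻¹ * x⁻¹ ∈ Cfsg.pPrimeCore 2 (Matrix.SpecialLinearGroup (Fin 2) (ZMod 3)) :=
        mul_mem (hn.conj_mem x hx g) (inv_mem hx)
      have hcop := (FittingCores.pPrimeCore_coprime
        (G := Matrix.SpecialLinearGroup (Fin 2) (ZMod 3)) 2).coprime_dvd_left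
          (Subgroup.orderOf_dvd_natCard _ hc)
      have hd : orderOf (g * x * g⁻¹ * x⁻¹) ∣ 2 ^ 2 := orderOf_dvd_of_pow_eq_one h4
      have h2 := hcop.pow_right 2
      exact h1 (orderOf_eq_one_iff.1 (Nat.eq_one_of_dvd_coprimes h2 dvd_rfl hd))
  refine ⟨?_, hO, fun t ht => ?_, ?_⟩
  · have hclosed : ∀ x y : Matrix.SpecialLinearGroup (Fin 2) (ZMod 3),
        x ^ 4 = 1 → y ^ 4 = 1 → (x * y) ^ 4 = 1 ∧ (x⁻¹) ^ 4 = 1 := by decide +kernel
    let Q : Subgroup (Matrix.SpecialLinearGroup (Fin 2) (ZMod 3)) :=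
      { carrier := {x | x ^ 4 = 1}
        one_mem' := one_pow 4
        mul_mem' := fun {x y} hx hy => (hclosed x y hx hy).1
        inv_mem' := fun {x} hx => (hclosed x x hx hx).2 }
    have hQ : Q ≤ Cfsg.pCore 2 (Matrix.SpecialLinearGroup (Fin 2) (ZMod 3)) :=
      FittingCores.le_pCore ⟨fun x hx g => show (g * x * g⁻¹) ^ 4 = 1 by
          rw [conj_pow, (hx : x ^ 4 = 1), mul_one, mul_inv_cancel]⟩
        (fun x => ⟨2, Subtype.ext (show ((x : Matrix.SpecialLinearGroup (Fin 2) (ZMod 3))) ^ 4 = 1 from x.2)⟩)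
    have hcen : ∀ x : Matrix.SpecialLinearGroup (Fin 2) (ZMod 3),
        (∀ y, y ^ 4 = 1 → y * x = x * y) → x ^ 4 = 1 := by decide +kernel
    rw [Components.isPConstrained_iff_charP]
    refine Components.charP_congr ((QuotientGroup.quotientMulEquivOfEq hO).trans
      QuotientGroup.quotientBot).symm fun x hx => hQ ?_
    exact hcen x fun y hy => Subgroup.mem_centralizer_iff.1 hx y (hQ hy)
  · rw [Subgroup.mem_center_iff]
    have h : ∀ t : Matrix.SpecialLinearGroup (Fin 2) (ZMod 3), t * t = 1 → ∀ g, g * t = t * g := by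
      decide +kernel
    exact h t (by have h2 := pow_orderOf_eq_one t; rwa [ht, sq] at h2)
  · haveI := Fact.mk Nat.prime_three
    obtain ⟨u, hu3, hu1⟩ : ∃ u : Matrix.SpecialLinearGroup (Fin 2) (ZMod 3), u ^ 3 = 1 ∧ u ≠ 1 := by
      clear hO hexp
      decide +kernel
    have hu : orderOf u = 3 := orderOf_eq_prime hu3 hu1
    refine ⟨Subgroup.zpowers u, by rw [Nat.card_zpowers, hu], fun h => ?_⟩
    rw [hO] at h
    have h1 := Subgroup.mem_bot.1 (h (Subgroup.mem_zpowers u))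
    rw [h1, orderOf_one] at hu
    omega

end Cfsg.Agent.S1303
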