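import Cfsg.Statements.S1304
import Mathlib.Tactic.Group
-- import your own Cfsg.Agent.* helpers here

set_option autoImplicit false
set_option linter.style.haveILetI false
open Cfsg

namespace Cfsg.Agent.S1304

/-- Let X be a perfect group and α an automorphism of X with α(x) x⁻¹ central for every x. Then α is the identity. -/
theorem result {X : Type*} [Group X] (hperf : commutator X = ⊤) (α : X ≃* X) (h : ∀ x : X, α x * x⁻¹ ∈ Subgroup.center X) : ∀ x : X, α x = x := by
  intro x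
  have hkey : ∀ a b : X, α (a * b * a⁻¹ * b⁻¹) = a * b * a⁻¹ * b⁻¹ := by
    intro a b
    obtain ⟨za, hza, ea⟩ : ∃ z ∈ Subgroup.center X, α a = z * a := ⟨_, h a, (inv_mul_cancel_right (α a) a).symm⟩
    obtain ⟨zb, hzb, eb⟩ : ∃ z ∈ Subgroup.center X, α b = z * b := ⟨_, h b, (inv_mul_cancel_right (α b) b).symm⟩
    have hA : ∀ g : X, g * za = za * g := Subgroup.mem_center_iff.1 hza
    have hB : ∀ g : X, g * zb = zb * g := Subgroup.mem_center_iff.1 hzb
    rw [map_mul, map_mul, map_mul, map_inv, map_inv, ea, eb]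
    calc za * a * (zb * b) * (za * a)⁻¹ * (zb * b)⁻¹
        = za * (a * zb) * b * a⁻¹ * za⁻¹ * b⁻¹ * zb⁻¹ := by group
      _ = za * (zb * a) * b * a⁻¹ * za⁻¹ * b⁻¹ * zb⁻¹ := by rw [hB]
      _ = za * zb * (a * b * a⁻¹) * za⁻¹ * b⁻¹ * zb⁻¹ := by group
      _ = (a * b * a⁻¹) * (za * zb) * za⁻¹ * b⁻¹ * zb⁻¹ := by
          rw [show za * zb * (a * b * a⁻¹) = (a * b * a⁻¹) * (za * zb) from
            (Subgroup.mem_center_iff.1 ((Subgroup.center X).mul_mem hza hzb) _).symm]
      _ = (a * b * a⁻¹) * (za * zb * za⁻¹) * b⁻¹ * zb⁻¹ := by group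
      _ = (a * b * a⁻¹) * zb * b⁻¹ * zb⁻¹ := by rw [hB za, mul_inv_cancel_right]
      _ = (a * b * a⁻¹) * (zb * b⁻¹) * zb⁻¹ := by group
      _ = a * b * a⁻¹ * b⁻¹ := by rw [← hB]; group
  have : commutator X ≤ α.toMonoidHom.eqLocus (MonoidHom.id X) := by
    rw [commutator_def]
    exact Subgroup.commutator_le.2 fun a _ b _ => hkey a b
  rw [hperf] at this
  exact this (Subgroup.mem_top x)

end Cfsg.Agent.S1304
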