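import Cfsg.Statements.S1305
import Cfsg.Agent.Lib.LBalance.Balance
import Cfsg.Agent.Lib.Components.PTerminalPump

set_option autoImplicit false
open Cfsg

namespace Cfsg.Agent.S1305

open Subgroup Cfsg.Agent.Components
open Cfsg.Agent.BpBalance (PCIn)
open scoped commutatorElement

universe u

/-- A quasisimple group of 2-rank at least 2 is generated by its 2-elements. -/
theorem quasisimple_gen {K : Type u} [Group K] [Finite K] (hK : Cfsg.IsQuasisimple K)
    (hrk : ¬ Cfsg.PRankLE 2 1 K) : (⊤ : Subgroup K) ≤ pGen 2 (⊤ : Subgroup K) := by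
  haveI : Fact (Nat.Prime 2) := ⟨Nat.prime_two⟩
  haveI := hK.1
  haveI : (pGen 2 (⊤ : Subgroup K)).Normal :=
    normalizer_eq_top_iff.1 (top_le_iff.1 (le_trans (by rw [normalizer_eq_top_iff.2 inferInstance])
      (normalizer_le_pGen (p := 2) (⊤ : Subgroup K))))
  rcases quasisimple_normal hK (pGen 2 (⊤ : Subgroup K)) with h | h
  · exact h.ge
  exfalso
  let P : Sylow 2 K := default
  have hPc : (P : Subgroup K) ≤ center K := (isPGroup_le_pGen P.2 le_top).trans h
  have hN : normalizer ((P : Subgroup K) : Set K) ≤ centralizer ((P : Subgroup K) : Set K) := fun x _ =>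
    mem_centralizer_iff.2 fun y hy => ((mem_center_iff.1 (hPc hy)) x).symm
  have hker : (MonoidHom.transferSylow P hN).ker = ⊤ := top_le_iff.1 (by
    haveI : IsMulCommutative (P : Subgroup K) := ⟨⟨fun a b => Subtype.ext ((mem_center_iff.1 (hPc b.2)) a)⟩⟩
    letI : CommGroup (P : Subgroup K) := { mul_comm := fun a b => mul_comm' a b }
    exact (Group.IsPerfect.commutator_eq_top (G := K)).ge.trans (Abelianization.commutator_subset_ker _))
  have hcompl := MonoidHom.ker_transferSylow_isComplement' P hN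
  rw [hker, Subgroup.isComplement'_top_left] at hcompl
  apply hrk
  intro A _ hA
  have hAp : IsPGroup 2 A := fun a => ⟨1, Subtype.ext (by simpa using hA a a.2)⟩
  obtain ⟨Q, hQ⟩ := hAp.exists_le_sylow
  have h1 := Subgroup.card_le_of_le hQ
  rw [Q.card_eq_multiplicity, ← P.card_eq_multiplicity, hcompl, Subgroup.card_bot] at h1
  simp only [pow_one]
  omega

/-- With the B-property the 2-layer of an involution centralizer is its layer. -/
theorem pLayer_le_layer {G : Type u} [Group G] [Finite G] (hO : Cfsg.oddCore G = ⊥) (hB : Cfsg.HasBProperty G)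
    {b : G} (hb : orderOf b = 2) :
    Cfsg.pLayer 2 ↥(centralizer ({b} : Set G)) ≤ Cfsg.layer ↥(centralizer ({b} : Set G)) := by
  haveI : Fact (Nat.Prime 2) := ⟨Nat.prime_two⟩
  set C := centralizer ({b} : Set G) with hC
  have h := hB b hb
  rw [hO, le_bot_iff, Subgroup.map_eq_bot_iff_of_injective _ C.subtype_injective] at h
  refine sSup_le fun K hK => ?_
  have hP : PCIn 2 K ⊤ := BpBalance.pcin_top_iff.2 hK
  have hq : Cfsg.IsQuasisimple ↥K := hP.qs_of_core (by
    haveI := FittingCores.pPrimeCore_normal (G := C) 2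
    rw [BpBalance.pPrimeCore_eq_subgroupOf hK.1]
    rintro _ ⟨z, hz, rfl⟩
    rw [mem_centralizer_iff]
    intro k hk
    have hm : ⁅(k : C), (z : C)⁆ ∈ ⁅Cfsg.pLayer 2 ↥C, Cfsg.oddCore ↥C⁆ :=
      commutator_mem_commutator (le_sSup (show K ∈ {K : Subgroup C | Cfsg.IsPComponent 2 K} from hK) hk) hz
    rw [h, mem_bot, commutatorElement_eq_one_iff_mul_comm] at hm
    exact hm)
  exact component_le_layer ⟨hK.1, hq⟩


/-- Let G be a finite group of component type with the B-property and no nontrivial normal subgroup of odd order. Let a be an involution and K a component of C_G(a) such that (a) |K| is maximal among the orders of components of centralizers of involutions of G, (b) subject to (a) the 2-rank of the centralizer of K in C_G(a) is as large as possible, and (c) K has 2-rank at least 2. If B is an elementary abelian 2-subgroup of that centralizer of the largest possible order, then K is a component of C_G(b) for every non-identity b ∈ B. -/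
theorem result {G : Type*} [Group G] [Finite G] (hO : Cfsg.oddCore G = ⊥) (hB : Cfsg.HasBProperty G) (hct : Cfsg.IsComponentType G) (a : G) (ha : orderOf a = 2) (K : Subgroup G) (hKa : K ≤ Subgroup.centralizer ({a} : Set G)) (hK : Cfsg.IsComponent (K.subgroupOf (Subgroup.centralizer ({a} : Set G)))) (hmax : ∀ y : G, orderOf y = 2 → ∀ K' : Subgroup G, K' ≤ Subgroup.centralizer ({y} : Set G) → Cfsg.IsComponent (K'.subgroupOf (Subgroup.centralizer ({y} : Set G))) → Nat.card ↥K' ≤ Nat.card ↥K ∧ (Nat.card ↥K' = Nat.card ↥K → ∀ k : ℕ, Cfsg.PRankLE 2 k ↥(Subgroup.centralizer ({a} : Set G) ⊓ Subgroup.centralizer (K : Set G)) → Cfsg.PRankLE 2 k ↥(Subgroup.centralizer ({y} : Set G) ⊓ Subgroup.centralizer (K' : Set G)))) (hrk : ¬ Cfsg.PRankLE 2 1 ↥K) (B : Subgroup G) (hBle : B ≤ Subgroup.centralizer ({a} : Set G) ⊓ Subgroup.centralizer (K : Set G)) (hBel : Cfsg.IsElementaryAbelian 2 B) (hBmax : ∀ B' : Subgroup G, B' ≤ Subgroup.centralizer ({a} : Set G) ⊓ Subgroup.centralizer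 (K : Set G) → Cfsg.IsElementaryAbelian 2 B' → Nat.card ↥B' ≤ Nat.card ↥B) (b : G) (hb : b ∈ B) (hb1 : b ≠ 1) : K ≤ Subgroup.centralizer ({b} : Set G) ∧ Cfsg.IsComponent (K.subgroupOf (Subgroup.centralizer ({b} : Set G))) := by
  classical
  haveI : Fact (Nat.Prime 2) := ⟨Nat.prime_two⟩
  have hcC := hBle hb
  have hba : b * a = a * b := mem_centralizer_singleton_iff.1 hcC.1
  have hb2 : b * b = 1 := by rw [← pow_two]; exact hBel.2 b hb
  have hbo : orderOf b = 2 := orderOf_eq_prime (by rw [pow_two]; exact hb2) hb1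
  have ha2 : a ^ 2 = 1 := by rw [← ha]; exact pow_orderOf_eq_one a
  set Z := centralizer ({b} : Set G) with hZ
  have hKb : K ≤ Z := fun k hk => mem_centralizer_singleton_iff.2 (mem_centralizer_iff.1 hcC.2 k hk)
  refine ⟨hKb, ?_⟩
  set x : Z := ⟨a, mem_centralizer_singleton_iff.2 hba.symm⟩ with hx
  have hxp : x ^ 2 = 1 := Subtype.ext (by rw [Subgroup.coe_pow]; exact ha2)
  set L := K.subgroupOf Z with hL
  have hKq : Cfsg.IsQuasisimple ↥K := (quasisimple_congr (subgroupOfEquivOfLe hKa)).1 hK.2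
  have hgen : K ≤ pGen 2 K := by
    have h1 := (Subgroup.map_mono (f := K.subtype) (quasisimple_gen hKq hrk)).trans (map_pGen_le K.subtype ⊤)
    rwa [← MonoidHom.range_eq_map, range_subtype] at h1
  have hqs : Cfsg.IsQuasisimple (↥K ⧸ Cfsg.pPrimeCore 2 ↥K) := by
    haveI := FittingCores.pPrimeCore_normal (G := ↥K) 2
    haveI : Nontrivial (↥K ⧸ Cfsg.pPrimeCore 2 ↥K) := by
      rw [← not_subsingleton_iff_nontrivial]
      intro hs
      have htop := QuotientGroup.subgroup_eq_top_of_subsingleton _ hs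
      apply hrk
      intro A _ hA
      have hc : Nat.Coprime (Nat.card K) 2 := by
        rw [← Subgroup.card_top, ← htop]; exact FittingCores.pPrimeCore_coprime 2
      have : A = ⊥ := by
        rw [Subgroup.eq_bot_iff_forall]
        intro y hy
        rw [← orderOf_eq_one_iff]
        exact Nat.eq_one_of_dvd_coprimes hc (orderOf_dvd_natCard y) (orderOf_dvd_of_pow_eq_one (hA y hy))
      rw [this, Subgroup.card_bot]
      norm_num
    exact quasisimple_of_surjective hKq (QuotientGroup.mk' _) (QuotientGroup.mk'_surjective _)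
  have hPK : PCIn 2 K (centralizer ({a} : Set G) ⊓ Z) := by
    have h0 : PCIn 2 K (centralizer ({a} : Set G)) := ⟨hKa, hK.1, hgen, hqs⟩
    exact h0.mono (le_inf hKa hKb) inf_le_left
  have hPL : PCIn 2 L (centralizer ({x} : Set Z)) := by
    have h1 := hPK.comap_inj Z.subtype Z.subtype_injective (by rw [range_subtype]; exact hKb)
    refine h1.mono ?_ ?_
    · intro y hy
      rw [mem_centralizer_singleton_iff]
      exact Subtype.ext (mem_centralizer_singleton_iff.1 (hKa (mem_subgroupOf.1 hy)))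
    · intro y hy
      have h2 : (y : G) ∈ centralizer ({a} : Set G) := mem_centralizer_singleton_iff.2
        (congrArg Subtype.val (mem_centralizer_singleton_iff.1 hy))
      exact ⟨h2, y.2⟩
  have hxz : centralizer ((zpowers x : Subgroup Z) : Set Z) = centralizer ({x} : Set Z) := by
    rw [zpowers_eq_closure, centralizer_closure]
  have hLE : L ≤ Cfsg.layer ↥Z := by
    have hbal := Cfsg.Agent.LBalance.pLayer_centralizer_le_two (G := Z) (R := zpowers x)
      (IsPGroup.of_card (n := 1) (by rw [Nat.card_zpowers, ← Subgroup.orderOf_coe, pow_one]; exact ha))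
    refine le_trans ?_ (hbal.trans (pLayer_le_layer hO hB hbo))
    have h1 := hPL.mono (hxz.symm ▸ hPL.le) hxz.le
    conv_lhs => rw [← map_subgroupOf_eq_of_le h1.le]
    exact map_mono (le_sSup (show _ ∈ {K | Cfsg.IsPComponent 2 K} from h1.toComp))
  obtain ⟨J, hJ, hne⟩ : ∃ J, Cfsg.IsComponent J ∧ ⁅L, J⁆ ≠ ⊥ := by
    refine Classical.byContradiction fun hn => ?_
    push Not at hn
    refine hPL.not_abelian (hLE.trans (layer_le_iff.2 fun J hJ => ?_))
    rw [← commutator_eq_bot_iff_le_centralizer, commutator_comm]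
    exact hn J hJ
  set J' := J.map Z.subtype with hJ'
  have hJZ : J' ≤ Z := by rintro _ ⟨y, -, rfl⟩; exact y.2
  have hcardJ : Nat.card J' = Nat.card J := card_map_of_injective Z.subtype_injective
  have hcardL : Nat.card L = Nat.card K := Nat.card_congr (subgroupOfEquivOfLe hKb).toEquiv
  have hJc : Cfsg.IsComponent (J'.subgroupOf Z) := by
    rw [hJ', subgroupOf, comap_map_eq_self_of_injective Z.subtype_injective]; exact hJ
  obtain ⟨hJle, hJeq⟩ := hmax b hbo J' hJZ hJc
  rw [hcardJ] at hJle hJeq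
  rcases PTerm.fixed_or_orbit hxp hPL hLE hJ hne with ⟨-, hLJ⟩ | ⟨hxJ, hpsi⟩
  · have : L = J := eq_of_le_of_card_ge hLJ (hcardL ▸ hJle)
    rw [this]
    exact hJ
  exfalso
  let f : ↥J →* ↥Z :=
    { toFun := fun j => PTerm.psi 2 x (j : ↥Z)
      map_one' := by simp [PTerm.psi, hxp]
      map_mul' := fun u v => PTerm.psi_mul hxp hJ hxJ u.2 v.2 }
  have hLf : L ≤ f.range := fun e he => by
    obtain ⟨j, hj, rfl⟩ := hpsi e he
    exact ⟨⟨j, hj⟩, rfl⟩
  have hfc : Nat.card f.range ≤ Nat.card J := Nat.card_le_card_of_surjective f.rangeRestrict f.rangeRestrict_surjective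
  have hLr : L = f.range := eq_of_le_of_card_ge hLf (hfc.trans (hcardL ▸ hJle))
  have heq : Nat.card J = Nat.card K := le_antisymm hJle (hcardL ▸ (card_le_of_le hLf).trans hfc)
  have hbij := (Nat.bijective_iff_surjective_and_card f.rangeRestrict).2
    ⟨f.rangeRestrict_surjective, by rw [← hLr, hcardL, heq]⟩
  have hfinj : Function.Injective f := fun u v huv => hbij.1 (Subtype.ext huv)
  have hxinv : x⁻¹ = x := inv_eq_of_mul_eq_one_right (by rw [← pow_two]; exact hxp)
  have hpsi2 : ∀ j : ↥Z, PTerm.psi 2 x j = j * (x * j * x) := fun j => by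
    simp only [PTerm.psi, pow_two]; group
  set J₂ := J.map (MulAut.conj x).toMonoidHom with hJ₂
  have hJ₂c : Cfsg.IsComponent J₂ := component_conj hJ x
  have hJ₂ne : J₂ ≠ J := fun e => hxJ (mem_normalizer_fintype fun y hy => e.le ⟨y, hy, rfl⟩)
  have hJJ₂ : ∀ u ∈ J, ∀ v ∈ J₂, u * v = v * u := fun u hu v hv =>
    (mem_centralizer_iff.1 (commutator_eq_bot_iff_le_centralizer.1 (components_commute hJ hJ₂c hJ₂ne.symm) hu) v hv).symm
  have hxx : ∀ y : ↥Z, x * (x * y * x) * x = y := fun y => by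
    rw [show x * (x * y * x) * x = x * x * y * (x * x) by group, ← pow_two, hxp, one_mul, mul_one]
  have hmemJ₂ : ∀ y, y ∈ J₂ ↔ x * y * x ∈ J := by
    intro y
    constructor
    · rintro ⟨u, hu, rfl⟩
      show x * (x * u * x⁻¹) * x ∈ J
      rw [hxinv, hxx]
      exact hu
    · intro hy
      exact ⟨_, hy, show x * (x * y * x) * x⁻¹ = y by rw [hxinv, hxx]⟩
  have hA2 : ∀ z ∈ J, z ∈ J₂ → z * z = 1 → z = 1 := by
    intro z hzJ hzJ₂ hz2
    have key : ∀ w ∈ J, x * w * x = w⁻¹ → w = 1 := fun w hw he => by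
      have h1 : f ⟨w, hw⟩ = f 1 := by
        show PTerm.psi 2 x w = PTerm.psi 2 x 1
        rw [hpsi2, hpsi2, he, mul_inv_cancel, one_mul, mul_one, ← pow_two, hxp]
      exact congrArg Subtype.val (hfinj h1)
    have hzinv : z⁻¹ = z := inv_eq_of_mul_eq_one_right hz2
    by_cases hfix : x * z * x = z
    · exact key z hzJ (hfix.trans hzinv.symm)
    exfalso
    have hxz2 : x * z * x ∈ J := (hmemJ₂ z).1 hzJ₂
    have hcz : z * (x * z * x) = x * z * x * z :=
      hJJ₂ z hzJ _ ((hmemJ₂ _).2 (by rw [hxx]; exact hzJ))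
    have hw := key (z * (x * z * x)) (J.mul_mem hzJ hxz2) (by
      have hs : x * z * x * (x * z * x) = 1 := by
        rw [show x * z * x * (x * z * x) = x * z * (x * x) * z * x by group, ← pow_two, hxp, mul_one,
          mul_assoc x z z, hz2, mul_one, ← pow_two, hxp]
      rw [mul_inv_rev, inv_eq_of_mul_eq_one_right hs, hzinv]
      calc x * (z * (x * z * x)) * x = x * z * x * (z * (x * x)) := by group
        _ = x * z * x * z := by rw [← pow_two, hxp, mul_one])
    have := eq_inv_of_mul_eq_one_right hw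
    rw [hzinv] at this
    exact hfix this
  -- B acts
  set B0 := B ⊓ normalizer (J' : Set G) with hB0
  have hBZ : B ≤ Z := fun β hβ => mem_centralizer_singleton_iff.2 (hBel.1.is_comm.comm ⟨β, hβ⟩ ⟨b, hb⟩ |> congrArg Subtype.val)
  have hswap : ∀ β : G, ∀ hβ : β ∈ B, J.map (MulAut.conj (⟨β, hBZ hβ⟩ : Z)).toMonoidHom = J ∨
      J.map (MulAut.conj (⟨β, hBZ hβ⟩ : Z)).toMonoidHom = J₂ := by
    intro β hβ
    set β' : Z := ⟨β, hBZ hβ⟩ with hβ'
    by_contra hn
    push Not at hn
    have hβc := component_conj hJ β'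
    set J₃ := J.map (MulAut.conj β').toMonoidHom with hJ₃
    have h1 := commutator_eq_bot_iff_le_centralizer.1 (components_commute hJ hβc (Ne.symm hn.1))
    have h2 := commutator_eq_bot_iff_le_centralizer.1 (components_commute hJ₂c hβc (Ne.symm hn.2))
    have h3 : L ≤ centralizer (J₃ : Set Z) := by
      rw [hLr]
      rintro _ ⟨j, rfl⟩
      show PTerm.psi 2 x (j : ↥Z) ∈ _
      rw [hpsi2]
      exact mul_mem (h1 j.2) (h2 ((hmemJ₂ _).2 (by rw [hxx]; exact j.2)))
    apply hne
    have hfixL : L.map (MulAut.conj β').toMonoidHom = L := by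
      have hc : ∀ l ∈ L, β' * l * β'⁻¹ = l := fun l hl => by
        apply Subtype.ext
        show β * (l : G) * β⁻¹ = l
        rw [← mem_centralizer_iff.1 (hBle hβ).2 _ (mem_subgroupOf.1 hl), mul_inv_cancel_right]
      ext y
      constructor
      · rintro ⟨l, hl, rfl⟩
        show β' * l * β'⁻¹ ∈ L
        rw [hc l hl]; exact hl
      · exact fun hy => ⟨y, hy, hc y hy⟩
    apply Subgroup.map_injective (f := (MulAut.conj β').toMonoidHom) (MulAut.conj β').injective
    rw [map_commutator, hfixL, Subgroup.map_bot, ← hJ₃, commutator_eq_bot_iff_le_centralizer]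
    exact h3
  have hmemB0 : ∀ β : G, ∀ hβ : β ∈ B, (β ∈ B0 ↔ J.map (MulAut.conj (⟨β, hBZ hβ⟩ : Z)).toMonoidHom = J) := by
    intro β hβ
    have e : (J.map (MulAut.conj (⟨β, hBZ hβ⟩ : Z)).toMonoidHom).map Z.subtype = J'.map (MulAut.conj β).toMonoidHom := by
      rw [hJ', Subgroup.map_map, Subgroup.map_map]; rfl
    constructor
    · intro hh
      apply Subgroup.map_injective Z.subtype_injective
      rw [e]
      have hn : β ∈ normalizer (J' : Set G) := hh.2
      ext y
      constructor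
      · rintro ⟨u, hu, rfl⟩
        exact (mem_normalizer_iff.1 hn u).1 hu
      · intro hy
        exact ⟨β⁻¹ * y * β, (mem_normalizer_iff''.1 hn y).1 hy, show β * (β⁻¹ * y * β) * β⁻¹ = y by group⟩
    · intro hh
      refine ⟨hβ, ?_⟩
      refine Cfsg.Agent.FusionSys.mem_normalizer_of_conj_mem_finite fun y hy => ?_
      have : J'.map (MulAut.conj β).toMonoidHom = J' := by rw [← e, hh, ← hJ']
      exact this.le ⟨y, hy, rfl⟩
  have hidx : B0.relIndex B ≤ 2 := by
    by_cases hall : B ≤ B0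
    · rw [Subgroup.relIndex_eq_one.2 hall]; norm_num
    obtain ⟨γ, hγ, hγ0⟩ := SetLike.not_le_iff_exists.1 hall
    refine le_of_eq ?_
    rw [Subgroup.relIndex, Subgroup.index_eq_two_iff']
    refine ⟨⟨γ, hγ⟩, fun β => ?_⟩
    have hγJ : J.map (MulAut.conj (⟨γ, hBZ hγ⟩ : Z)).toMonoidHom = J₂ :=
      (hswap γ hγ).resolve_left fun h => hγ0 ((hmemB0 γ hγ).2 h)
    have hcomp : ∀ (β : G) (hβ : β ∈ B), (γ * β ∈ B0 ↔ J.map (MulAut.conj (⟨β, hBZ hβ⟩ : Z)).toMonoidHom = J₂) := by
      intro β hβ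
      set β' : Z := ⟨β, hBZ hβ⟩
      set γ' : Z := ⟨γ, hBZ hγ⟩
      rw [hmemB0 _ (B.mul_mem hγ hβ), show (⟨γ * β, hBZ (B.mul_mem hγ hβ)⟩ : Z) = γ' * β' from rfl, map_mul]
      have hcomp2 : (MulAut.conj γ' * MulAut.conj β').toMonoidHom = (MulAut.conj γ').toMonoidHom.comp (MulAut.conj β').toMonoidHom := rfl
      rw [hcomp2, ← Subgroup.map_map]
      constructor
      · intro he
        refine (hswap β hβ).resolve_left fun h => ?_
        rw [h, hγJ] at he
        exact hJ₂ne he
      · intro he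
        rw [he, hJ₂, Subgroup.map_map]
        have hxg : (MulAut.conj γ').toMonoidHom.comp (MulAut.conj x).toMonoidHom =
            (MulAut.conj x).toMonoidHom.comp (MulAut.conj γ').toMonoidHom := by
          have hcm : γ' * x = x * γ' := Subtype.ext
            (mem_centralizer_singleton_iff.1 (hBle hγ).1 : γ * a = a * γ)
          ext y
          show ((γ' * (x * y * x⁻¹) * γ'⁻¹ : Z) : G) = ((x * (γ' * y * γ'⁻¹) * x⁻¹ : Z) : G)
          congr 1
          calc γ' * (x * y * x⁻¹) * γ'⁻¹ = (γ' * x) * y * (γ' * x)⁻¹ := by group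
            _ = (x * γ') * y * (x * γ')⁻¹ := by rw [hcm]
            _ = _ := by group
        rw [hxg, ← Subgroup.map_map, hγJ, hJ₂, Subgroup.map_map]
        have h1 : (MulAut.conj x).toMonoidHom.comp (MulAut.conj x).toMonoidHom = MonoidHom.id ↥Z := by
          ext y
          show ((x * (x * y * x⁻¹) * x⁻¹ : Z) : G) = (y : G)
          rw [hxinv, hxx]
        rw [h1, Subgroup.map_id]
    rw [mem_subgroupOf, mem_subgroupOf, Subgroup.coe_mul]
    show Xor' (γ * (β : G) ∈ B0) ((β : G) ∈ B0)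
    rw [hcomp β β.2, hmemB0 β β.2]
    rcases hswap β β.2 with h | h
    · exact Or.inr ⟨h, by rw [h]; exact hJ₂ne.symm⟩
    · exact Or.inl ⟨h, by rw [h]; exact hJ₂ne⟩
  have hB0J : ∀ β ∈ B0, ∀ j ∈ J', j * β = β * j := by
    rintro β hβ _ ⟨j, hj, rfl⟩
    set β' : Z := ⟨β, hBZ hβ.1⟩
    have hj' : β' * j * β'⁻¹ ∈ J := ((hmemB0 β hβ.1).1 hβ).le ⟨j, hj, rfl⟩
    have hcm : β' * x = x * β' := Subtype.ext (mem_centralizer_singleton_iff.1 (hBle hβ.1).1 : β * a = a * β)
    have h1 : f ⟨_, hj'⟩ = f ⟨j, hj⟩ := by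
      show PTerm.psi 2 x (β' * j * β'⁻¹) = PTerm.psi 2 x j
      have e : PTerm.psi 2 x (β' * j * β'⁻¹) = β' * PTerm.psi 2 x j * β'⁻¹ := by
        simp only [PTerm.psi]
        rw [show β' * j * β'⁻¹ * x = β' * (j * (β'⁻¹ * x * β')) * β'⁻¹ by group, conj_pow,
          show β'⁻¹ * x * β' = x by rw [mul_assoc, ← hcm, inv_mul_cancel_left]]
      rw [e]
      have hK1 : ((PTerm.psi 2 x j : Z) : G) ∈ K :=
        mem_subgroupOf.1 (show PTerm.psi 2 x j ∈ L by rw [hLr]; exact ⟨⟨j, hj⟩, rfl⟩)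
      apply Subtype.ext
      show β * _ * β⁻¹ = _
      rw [← mem_centralizer_iff.1 (hBle hβ.1).2 _ hK1, mul_inv_cancel_right]
    have := congrArg (fun u : ↥J => ((u : ↥Z) : G)) (hfinj h1)
    change β * (j : G) * β⁻¹ = j at this
    exact (mul_inv_eq_iff_eq_mul.1 this).symm
  -- a four-group in the conjugate component
  obtain ⟨A, hAc, hA2', hA4⟩ : ∃ A : Subgroup ↥K, IsMulCommutative A ∧ (∀ y ∈ A, y ^ 2 = 1) ∧ 2 < Nat.card A := by
    by_contra hn
    push Not at hn
    exact hrk fun A hA hA' => hn A hA hA'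
  let e : ↥J ≃* ↥L := (MulEquiv.ofBijective f.rangeRestrict hbij).trans (MulEquiv.subgroupCongr hLr.symm)
  let ι : ↥K →* G := (((Z.subtype.comp (MulAut.conj x).toMonoidHom).comp J.subtype).comp e.symm.toMonoidHom).comp
    (subgroupOfEquivOfLe hKb).symm.toMonoidHom
  have hιinj : Function.Injective ι :=
    (((Z.subtype_injective.comp (MulAut.conj x).injective).comp J.subtype_injective).comp e.symm.injective).comp
      (subgroupOfEquivOfLe hKb).symm.injective
  set E := A.map ι with hE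
  have hEJ : ∀ y ∈ E, ∃ u ∈ J₂, (u : G) = y := by
    rintro _ ⟨k, -, rfl⟩
    exact ⟨_, ⟨(e.symm ((subgroupOfEquivOfLe hKb).symm k) : ↥Z), SetLike.coe_mem _, rfl⟩, rfl⟩
  have hcomm : ∀ β ∈ B0, ∀ y ∈ E, β * y = y * β := by
    intro β hβ y hy
    obtain ⟨u, ⟨j, hj, rfl⟩, rfl⟩ := hEJ y hy
    show β * (a * (j : G) * a⁻¹) = a * (j : G) * a⁻¹ * β
    have h1 := hB0J β hβ _ (mem_map_of_mem Z.subtype hj)
    change (j : G) * β = β * (j : G) at h1
    have h2 : β * a = a * β := mem_centralizer_singleton_iff.1 (hBle hβ.1).1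
    have h3 : a⁻¹ * β = β * a⁻¹ := by
      rw [eq_comm, eq_inv_mul_iff_mul_eq, ← mul_assoc, ← h2, mul_inv_cancel_right]
    calc β * (a * (j : G) * a⁻¹) = β * a * (j : G) * a⁻¹ := by group
      _ = a * (β * (j : G)) * a⁻¹ := by rw [h2]; group
      _ = a * ((j : G) * β) * a⁻¹ := by rw [h1]
      _ = a * (j : G) * (β * a⁻¹) := by group
      _ = a * (j : G) * (a⁻¹ * β) := by rw [h3]
      _ = _ := by group
  have hdisj : B0 ⊓ E = ⊥ := by
    rw [Subgroup.eq_bot_iff_forall]
    rintro y ⟨hyB, hyE⟩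
    obtain ⟨u, hu, rfl⟩ := hEJ y hyE
    have hfixu : x * u * x = u := by
      apply Subtype.ext
      show a * (u : G) * a = u
      rw [show a * (u : G) = (u : G) * a from (mem_centralizer_singleton_iff.1 (hBle hyB.1).1).symm,
        mul_assoc, ← pow_two, ha2, mul_one]
    have h2 : u * u = 1 := Subtype.ext (by
      show (u : G) * u = 1
      rw [← pow_two]; exact hBel.2 _ hyB.1)
    exact congrArg Subtype.val (hA2 u (hfixu ▸ (hmemJ₂ u).1 hu) hu h2)
  haveI : IsMulCommutative E := by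
    haveI := hAc
    refine ⟨⟨?_⟩⟩
    rintro ⟨_, p, hp, rfl⟩ ⟨_, q, hq, rfl⟩
    apply Subtype.ext
    show ι p * ι q = ι q * ι p
    rw [← map_mul, ← map_mul]
    exact congrArg ι (congrArg Subtype.val (mul_comm' (⟨p, hp⟩ : A) ⟨q, hq⟩))
  set B₂ := B0 ⊔ E with hB₂
  have hmul : ∀ y ∈ B₂, ∃ p ∈ B0, ∃ q ∈ E, p * q = y := fun y hy => BpBalance.mem_sup_of_commute
    (commutator_eq_bot_iff_le_centralizer.2 fun p hp => mem_centralizer_iff.2 fun q hq => (hcomm p hp q hq).symm) hy
  have hE2 : ∀ q ∈ E, q ^ 2 = 1 := by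
    rintro _ ⟨k, hk, rfl⟩
    rw [← map_pow, hA2' k hk, map_one]
  have hB₂e : Cfsg.IsElementaryAbelian 2 B₂ := by
    constructor
    · refine ⟨⟨?_⟩⟩
      rintro ⟨y, hy⟩ ⟨z, hz⟩
      obtain ⟨p, hp, q, hq, rfl⟩ := hmul y hy
      obtain ⟨p', hp', q', hq', rfl⟩ := hmul z hz
      apply Subtype.ext
      show p * q * (p' * q') = p' * q' * (p * q)
      have e1 : p * p' = p' * p := congrArg Subtype.val (hBel.1.is_comm.comm ⟨p, hp.1⟩ ⟨p', hp'.1⟩)
      have e2 : q * q' = q' * q := congrArg Subtype.val (mul_comm' (⟨q, hq⟩ : E) ⟨q', hq'⟩)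
      exact (((show Commute p p' from e1).mul_right (hcomm p hp q' hq')).mul_left
        ((show Commute q p' from (hcomm p' hp' q hq).symm).mul_right e2)).eq
    · intro y hy
      obtain ⟨p, hp, q, hq, rfl⟩ := hmul y hy
      rw [(show Commute p q from hcomm p hp q hq).mul_pow, hBel.2 p hp.1, hE2 q hq, one_mul]
  have hB₂c : 4 * Nat.card B0 ≤ Nat.card B₂ := by
    have hE4 : 4 ≤ Nat.card E := by
      rw [hE, card_map_of_injective hιinj]
      haveI := hAc
      obtain ⟨e, he⟩ := IsPGroup.iff_card.1 (show IsPGroup 2 A from fun y => ⟨1, Subtype.ext (by simpa using hA2' y y.2)⟩)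
      rw [he] at hA4 ⊢
      rcases e with _ | _ | e
      · norm_num at hA4
      · norm_num at hA4
      · rw [pow_succ, pow_succ]
        have := Nat.one_le_two_pow (n := e)
        omega
    let g : ↥B0 × ↥E → ↥B₂ := fun pq => ⟨pq.1 * pq.2, mul_mem (mem_sup_left pq.1.2) (mem_sup_right pq.2.2)⟩
    have hg : Function.Injective g := by
      rintro ⟨p, q⟩ ⟨p', q'⟩ h
      have h' : (p : G) * q = p' * q' := congrArg Subtype.val h
      have hm : (p' : G)⁻¹ * p = q' * (q : G)⁻¹ := by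
        rw [eq_mul_inv_iff_mul_eq, mul_assoc, h', inv_mul_cancel_left]
      have h1 : (p' : G)⁻¹ * p ∈ B0 ⊓ E := ⟨B0.mul_mem (B0.inv_mem p'.2) p.2, hm ▸ E.mul_mem q'.2 (E.inv_mem q.2)⟩
      rw [hdisj, mem_bot] at h1
      rw [h1, eq_comm, mul_inv_eq_one] at hm
      exact Prod.ext (Subtype.ext (inv_mul_eq_one.1 h1).symm) (Subtype.ext hm.symm)
    have := Nat.card_le_card_of_injective g hg
    rw [Nat.card_prod, mul_comm] at this
    exact (Nat.mul_le_mul_right _ hE4).trans this
  have hB₂le : B₂ ≤ Z ⊓ centralizer (J' : Set G) := by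
    refine sup_le (fun β hβ => ⟨hBZ hβ.1, mem_centralizer_iff.2 fun j hj => hB0J β hβ j hj⟩) fun y hy => ?_
    obtain ⟨u, hu, rfl⟩ := hEJ y hy
    refine ⟨u.2, mem_centralizer_iff.2 ?_⟩
    rintro _ ⟨j, hj, rfl⟩
    exact congrArg Subtype.val (hJJ₂ j hj u hu)
  obtain ⟨k, hk⟩ := IsPGroup.iff_card.1 (show IsPGroup 2 B from fun y => ⟨1, Subtype.ext (by simpa using hBel.2 y y.2)⟩)
  have hrank : Cfsg.PRankLE 2 k ↥(centralizer ({a} : Set G) ⊓ centralizer (K : Set G)) := by
    intro A hAc hA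
    rw [← hk, ← card_map_of_injective (centralizer ({a} : Set G) ⊓ centralizer (K : Set G)).subtype_injective (K := A)]
    refine hBmax _ (map_subtype_le _) ⟨?_, ?_⟩
    · infer_instance
    · rintro _ ⟨y, hy, rfl⟩
      rw [← map_pow, hA y hy, map_one]
  have h1 := hJeq heq k hrank (B₂.subgroupOf (Z ⊓ centralizer (J' : Set G)))
    (by
      haveI := hB₂e.1
      refine ⟨⟨fun p q => ?_⟩⟩
      have := congrArg Subtype.val (mul_comm' (⟨_, mem_subgroupOf.1 p.2⟩ : B₂) ⟨_, mem_subgroupOf.1 q.2⟩)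
      exact Subtype.ext (Subtype.ext (by simpa using this)))
    (fun p hp => Subtype.ext (by rw [Subgroup.coe_pow]; exact hB₂e.2 _ (mem_subgroupOf.1 hp)))
  rw [Nat.card_congr (subgroupOfEquivOfLe hB₂le).toEquiv, ← hk] at h1
  have h2 : Nat.card B ≤ 2 * Nat.card B0 := by
    have h3 := Subgroup.card_mul_index (B0.subgroupOf B)
    rw [Nat.card_congr (subgroupOfEquivOfLe (inf_le_left : B0 ≤ B)).toEquiv] at h3
    change Nat.card B0 * B0.relIndex B = _ at h3
    calc Nat.card B = Nat.card B0 * B0.relIndex B := h3.symm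
      _ ≤ Nat.card B0 * 2 := Nat.mul_le_mul_left _ hidx
      _ = _ := mul_comm _ _
  have : 0 < Nat.card B0 := Nat.card_pos
  omega

end Cfsg.Agent.S1305
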