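import Cfsg.Statements.S1306
import Cfsg.Agent.Lib.Components.Basic
-- import your own Cfsg.Agent.* helpers here

set_option autoImplicit false
set_option linter.style.haveILetI false
open Cfsg

namespace Cfsg.Agent.S1306

/-- Let G be finite, x an involution and L ≤ C_G(x) a component of C_G(x). Suppose L is a component of C_G(y) for every involution y ∈ C_G(L), and ⁅L, g L g⁻¹⁆ ≠ 1 whenever g L g⁻¹ ≠ L. Then L is a standard subgroup of G. -/
theorem result {G : Type*} [Group G] [Finite G] (x : G) (hx : orderOf x = 2) (L : Subgroup G) (hLx : L ≤ Subgroup.centralizer ({x} : Set G)) (hL : Cfsg.IsComponent (L.subgroupOf (Subgroup.centralizer ({x} : Set G)))) (hne : ∀ y : G, orderOf y = 2 → y ∈ Subgroup.centralizer (L : Set G) → L ≤ Subgroup.centralizer ({y} : Set G) ∧ Cfsg.IsComponent (L.subgroupOf (Subgroup.centralizer ({y} : Set G)))) (hnc : ∀ g : G, L.map (MulAut.conj g).toMonoidHom ≠ L → ⁅L, L.map (MulAut.conj g).toMonoidHom⁆ ≠ ⊥) : Cfsg.IsStandardSubgroup L := by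
  classical
  have hxL : x ∈ Subgroup.centralizer (L : Set G) := by
    rw [Subgroup.mem_centralizer_iff]
    exact fun l hl => (Subgroup.mem_centralizer_iff.1 (hLx hl) x rfl).symm
  have key : ∀ (g : G) (y : G), orderOf y = 2 → y ∈ Subgroup.centralizer (L : Set G) →
      g⁻¹ * y * g ∈ Subgroup.centralizer (L : Set G) → L.map (MulAut.conj g).toMonoidHom = L := by
    intro g y hy hyL hygL
    by_contra hne'
    apply hnc g hne'
    have hy' : orderOf (g⁻¹ * y * g) = 2 := by
      rw [← hy, show g⁻¹ * y * g = MulAut.conj g⁻¹ y by simp, MulEquiv.orderOf_eq]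
    obtain ⟨h1, h2⟩ := hne y hy hyL
    obtain ⟨h3, h4⟩ := hne _ hy' hygL
    set Lg := L.map (MulAut.conj g).toMonoidHom
    set C := Subgroup.centralizer ({y} : Set G)
    let e : ↥(Subgroup.centralizer ({g⁻¹ * y * g} : Set G)) ≃* ↥C :=
      ((Subgroup.centralizer ({g⁻¹ * y * g} : Set G)).equivMapOfInjective
        (MulAut.conj g).toMonoidHom (MulAut.conj g).injective).trans (MulEquiv.subgroupCongr (by
          ext w
          constructor
          · rintro ⟨v, hv, rfl⟩
            refine Subgroup.mem_centralizer_iff.2 fun z hz => ?_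
            rw [show z = y from hz]
            have := Subgroup.mem_centralizer_iff.1 hv _ rfl
            show y * (g * v * g⁻¹) = g * v * g⁻¹ * y
            calc y * (g * v * g⁻¹) = g * (g⁻¹ * y * g * v) * g⁻¹ := by group
              _ = _ := by rw [this]; group
          · intro hw
            refine ⟨g⁻¹ * w * g, Subgroup.mem_centralizer_iff.2 fun z hz => ?_, by simp [mul_assoc]⟩
            rw [show z = g⁻¹ * y * g from hz]
            have := Subgroup.mem_centralizer_iff.1 hw y rfl
            calc g⁻¹ * y * g * (g⁻¹ * w * g) = g⁻¹ * (y * w) * g := by group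
              _ = _ := by rw [this]; group))
    have hLgC : Lg ≤ C := by
      rintro _ ⟨l, hl, rfl⟩
      exact (e ⟨l, h3 hl⟩).2
    have hcomp : Cfsg.IsComponent (Lg.subgroupOf C) := by
      have h5 := Cfsg.Agent.Components.component_map_equiv e h4
      suffices (L.subgroupOf (Subgroup.centralizer ({g⁻¹ * y * g} : Set G))).map e.toMonoidHom
          = Lg.subgroupOf C by rwa [this] at h5
      ext w
      constructor
      · rintro ⟨v, hv, rfl⟩
        exact ⟨v.1, hv, rfl⟩
      · rintro ⟨l, hl, hlw⟩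
        exact ⟨⟨l, h3 hl⟩, hl, Subtype.ext hlw⟩
    have h6 := Cfsg.Agent.Components.components_commute h2 hcomp (fun h => hne' (by
      have := congrArg (Subgroup.map C.subtype) h
      rwa [Subgroup.map_subgroupOf_eq_of_le h1, Subgroup.map_subgroupOf_eq_of_le hLgC, eq_comm] at this))
    have h7 := congrArg (Subgroup.map C.subtype) h6
    rw [Subgroup.map_commutator, Subgroup.map_subgroupOf_eq_of_le h1,
      Subgroup.map_subgroupOf_eq_of_le hLgC, Subgroup.map_bot] at h7
    exact h7
  have hmapK : ∀ g : G, L.map (MulAut.conj g).toMonoidHom = L →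
      (Subgroup.centralizer (L : Set G)).map (MulAut.conj g).toMonoidHom =
        Subgroup.centralizer (L : Set G) := by
    intro g hg
    conv_rhs => rw [← hg]
    ext w
    constructor
    · rintro ⟨v, hv, rfl⟩
      refine Subgroup.mem_centralizer_iff.2 ?_
      rintro _ ⟨l, hl, rfl⟩
      rw [← map_mul, Subgroup.mem_centralizer_iff.1 hv l hl, map_mul]
    · intro hw
      refine ⟨g⁻¹ * w * g, Subgroup.mem_centralizer_iff.2 fun l hl => ?_, by simp [mul_assoc]⟩
      have := Subgroup.mem_centralizer_iff.1 hw _ ⟨l, hl, rfl⟩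
      simp only [MulEquiv.toMonoidHom_eq_coe, MonoidHom.coe_coe, MulAut.conj_apply] at this
      calc l * (g⁻¹ * w * g) = g⁻¹ * (g * l * g⁻¹ * w) * g := by group
        _ = _ := by rw [this]; group
  refine ⟨?_, ⟨?_, fun g hg => ?_⟩, hnc, ?_⟩
  · exact (Cfsg.Agent.Components.quasisimple_congr (Subgroup.subgroupOfEquivOfLe hLx)).1 hL.2
  · rw [even_iff_two_dvd, ← hx, ← Subgroup.orderOf_mk x hxL]
    exact orderOf_dvd_natCard _
  · by_contra hodd
    rw [Nat.not_odd_iff_even, even_iff_two_dvd] at hodd
    haveI : Fact (Nat.Prime 2) := ⟨Nat.prime_two⟩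
    obtain ⟨⟨y, hy1, hy2⟩, hy⟩ := exists_prime_orderOf_dvd_card' 2 hodd
    replace hy : orderOf y = 2 := by rw [← hy, ← Subgroup.orderOf_coe]
    obtain ⟨z, hz, hzy⟩ := hy2
    simp only [MulEquiv.toMonoidHom_eq_coe, MonoidHom.coe_coe, MulAut.conj_apply] at hzy
    have h2 : g⁻¹ * y * g ∈ Subgroup.centralizer (L : Set G) := by
      rw [← hzy]; simpa [mul_assoc] using hz
    exact hg (Subgroup.mem_normalizer_iff_map_conj_eq.2 (hmapK g (key g y hy hy1 h2)))
  · refine le_antisymm (fun g hg => ?_) (fun g hg => ?_)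
    · rw [Subgroup.mem_normalizer_iff_map_conj_eq] at hg ⊢
      exact hmapK g hg
    · rw [Subgroup.mem_normalizer_iff_map_conj_eq]
      refine key g x hx hxL ?_
      simpa [mul_assoc] using (Subgroup.mem_normalizer_iff.1 (Subgroup.inv_mem _ hg) x).1 hxL

end Cfsg.Agent.S1306
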