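import Cfsg.Statements.S1307
import Cfsg.Agent.Lib.Solvable.FixedPointFree
import Cfsg.Agent.Lib.BrauerSuzuki.ZStar
import Cfsg.Agent.Lib.Isolated.HSubgroup
import Cfsg.Agent.Lib.ExtremelyClosed.InEvery
import Cfsg.Agent.Lib.TwoGroups.NormalFour
import Cfsg.Agent.Lib.Components.Basic
-- import your own Cfsg.Agent.* helpers here

set_option autoImplicit false
set_option linter.style.haveILetI false
open Cfsg
open scoped commutatorElement

namespace Cfsg.Agent.S1307

/-- Let G be finite, x an involution and L ≤ C_G(x) a component of C_G(x) of even order and 2-rank 1, such that L is a component of C_G(y) for every involution y ∈ C_G(L). Then some involution of L is a classical involution of G. -/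
theorem result {G : Type*} [Group G] [Finite G] (x : G) (hx : orderOf x = 2) (L : Subgroup G) (hLx : L ≤ Subgroup.centralizer ({x} : Set G)) (hL : Cfsg.IsComponent (L.subgroupOf (Subgroup.centralizer ({x} : Set G)))) (heven : Even (Nat.card ↥L)) (hrk : Cfsg.PRankLE 2 1 ↥L) (hne : ∀ y : G, orderOf y = 2 → y ∈ Subgroup.centralizer (L : Set G) → L ≤ Subgroup.centralizer ({y} : Set G) ∧ Cfsg.IsComponent (L.subgroupOf (Subgroup.centralizer ({y} : Set G)))) : ∃ t ∈ L, Cfsg.IsClassicalInvolution t := by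
  classical
  haveI : Fact (Nat.Prime 2) := ⟨Nat.prime_two⟩
  have hq : IsQuasisimple ↥L :=
    (Components.quasisimple_congr (Subgroup.subgroupOfEquivOfLe hLx)).1 hL.2
  haveI := hq.1
  have hsq : ∀ a b : ↥L, a ^ 2 = 1 → b ^ 2 = 1 → a * b = b * a → a ≠ 1 → b ≠ 1 → a = b := by
    intro a b ha hb hab ha1 hb1
    by_contra hne
    let V : Subgroup ↥L := Subgroup.closure {a, b}
    haveI hVc : IsMulCommutative ↥V := Subgroup.isMulCommutative_closure (by
      rintro x (rfl | rfl) y (rfl | rfl)
      · rfl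
      · exact hab
      · exact hab.symm
      · rfl)
    have hV2 : ∀ v ∈ V, v ^ 2 = 1 := by
      intro v hv
      induction hv using Subgroup.closure_induction with
      | mem z hz => rcases hz with rfl | rfl <;> assumption
      | one => exact one_pow 2
      | mul y z hy hz ihy ihz =>
        rw [(show Commute y z from congrArg Subtype.val (mul_comm' (⟨y, hy⟩ : V) ⟨z, hz⟩)).mul_pow, ihy, ihz, one_mul]
      | inv y _ ihy => rw [inv_pow, ihy, inv_one]
    have h3 : 3 ≤ Nat.card V := by
      refine le_trans (le_of_eq ?_) (Nat.card_mono (Set.toFinite _)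
        (show ({1, a, b} : Set ↥L) ⊆ (V : Set ↥L) from ?_))
      · rw [Nat.card_coe_set_eq, Set.ncard_insert_of_notMem (by simp [Ne.symm ha1, Ne.symm hb1]),
          Set.ncard_pair hne]
      · rintro z (rfl | rfl | rfl)
        · exact V.one_mem
        · exact Subgroup.subset_closure (by simp)
        · exact Subgroup.subset_closure (by simp)
    have := hrk V hVc hV2
    norm_num at this
    omega
  obtain ⟨t, ht⟩ := exists_prime_orderOf_dvd_card' (G := ↥L) 2 (even_iff_two_dvd.1 heven)
  have ht2 : t ^ 2 = 1 := by rw [← ht]; exact pow_orderOf_eq_one t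
  have ht1 : t ≠ 1 := fun h => by simp [h] at ht
  have hiso : IsIsolated t := fun g hg =>
    (hsq t (g * t * g⁻¹) ht2 (by rw [conj_pow, ht2, mul_one, mul_inv_cancel]) hg.eq ht1
      (fun h => ht1 (by simpa using h))).symm
  have hcore : pPrimeCore 2 ↥L ≤ Subgroup.center ↥L := by
    haveI := FittingCores.pPrimeCore_normal (G := ↥L) 2
    rcases (Components.quasisimple_normal hq (pPrimeCore 2 ↥L)).symm with h | h
    · exact h
    · exfalso
      have := FittingCores.pPrimeCore_coprime (G := ↥L) 2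
      rw [h, Subgroup.card_top, Nat.coprime_comm, Nat.coprime_two_left] at this
      exact Nat.not_even_iff_odd.2 this heven
  have hc : ∀ g : ↥L, g * t * g⁻¹ * t⁻¹ ∈ Subgroup.center ↥L := fun g =>
    hcore (BrauerSuzuki.zStar _ t ht hiso g)
  have htc : ∀ g : ↥L, g * t = t * g := by
    let f : ↥L →* Subgroup.center ↥L :=
      { toFun := fun g => ⟨g * t * g⁻¹ * t⁻¹, hc g⟩
        map_one' := Subtype.ext (by simp)
        map_mul' := fun a b => Subtype.ext (by
          show a * b * t * (a * b)⁻¹ * t⁻¹ = a * t * a⁻¹ * t⁻¹ * (b * t * b⁻¹ * t⁻¹)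
          have h1 := Subgroup.mem_center_iff.1 (hc b)
          rw [h1 (a * t * a⁻¹ * t⁻¹)]
          calc a * b * t * (a * b)⁻¹ * t⁻¹ = a * (b * t * b⁻¹ * t⁻¹) * (t * a⁻¹ * t⁻¹) := by group
            _ = _ := by rw [h1 a]; group) }
    have hker : ∀ g : ↥L, f g = 1 := by
      intro g
      have hle : _root_.commutator ↥L ≤ f.ker := by
        rw [_root_.commutator_def, Subgroup.commutator_le]
        intro a _ b _
        rw [MonoidHom.mem_ker, map_commutatorElement, commutatorElement_eq_one_iff_mul_comm]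
        exact mul_comm' _ _
      rw [Group.isPerfect_def.1 hq.1] at hle
      exact hle (Subgroup.mem_top g)
    intro g
    exact mul_inv_eq_iff_eq_mul.1 (mul_inv_eq_one.1 (congrArg Subtype.val (hker g) : g * t * g⁻¹ * t⁻¹ = 1))
  have ht' : orderOf (t : G) = 2 := (Subgroup.orderOf_coe t).trans ht
  obtain ⟨hle, hcomp⟩ := hne (t : G) ht' (Subgroup.mem_centralizer_iff.2 fun y hy =>
    congrArg Subtype.val (htc ⟨y, hy⟩))
  refine ⟨(t : G), t.2, ht', L, hle, t.2, hcomp.1, ?_⟩
  let S : Sylow 2 ↥L := default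
  have hab : AbCyc.AbCyclic ↥(S : Subgroup ↥L) := by
    intro V hV
    haveI := hV
    letI : CommGroup ↥V := { (inferInstance : Group ↥V) with mul_comm := mul_comm' }
    refine NormalFour.isCyclic_of_sqrt_le_two (S.isPGroup'.to_subgroup V) ?_
    set W := (((powMonoidHom 2 : ↥V →* ↥V).ker).map V.subtype).map (S : Subgroup ↥L).subtype with hW
    have hWc : IsMulCommutative ↥W := by
      refine .of_setLike_mul_comm ?_
      rintro _ ⟨_, ⟨a, -, rfl⟩, rfl⟩ _ ⟨_, ⟨b, -, rfl⟩, rfl⟩
      rw [← map_mul, ← map_mul, mul_comm, map_mul, map_mul]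
    have hW2 : ∀ w ∈ W, w ^ 2 = 1 := by
      rintro _ ⟨_, ⟨a, ha, rfl⟩, rfl⟩
      rw [← map_pow, ← map_pow, show a ^ 2 = 1 from ha, map_one, map_one]
    have := hrk W hWc hW2
    rwa [hW, Subgroup.card_map_of_injective (Subgroup.subtype_injective _),
      Subgroup.card_map_of_injective (Subgroup.subtype_injective _)] at this
  have hCyc : ∀ S : Sylow 2 ↥L, IsCyclic ↥(S : Subgroup ↥L) → False := by
    intro S hcy
    haveI := hcy
    obtain ⟨P, N, hNn, hN⟩ := HSub.hasNormalPComplement_of_cyclic S (fun q hq' _ => hq'.two_le)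
    haveI := hNn
    have hNtop : N = ⊤ := by
      rw [eq_top_iff, ← Group.isPerfect_def.1 hq.1, _root_.commutator_def, Subgroup.commutator_le]
      intro a _ b _
      obtain ⟨c, hc⟩ := (IsCyclic.exists_generator (α := ↥(S : Subgroup ↥L)))
      obtain ⟨s, hs⟩ : ∃ s : ↥L, ∀ a : ↥L, ∃ i : ℤ, (QuotientGroup.mk' N) a = (QuotientGroup.mk' N) s ^ i := by
        obtain ⟨g, hg⟩ := MulAction.exists_smul_eq ↥L S P
        refine ⟨g * c * g⁻¹, fun a => ?_⟩
        obtain ⟨⟨m, hm⟩, ⟨x, hx⟩, rfl⟩ : ∃ (m : N) (x : (P : Subgroup ↥L)), (m : ↥L) * x = a := by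
          obtain ⟨⟨m, x⟩, hmx⟩ := hN.2 a
          exact ⟨m, x, hmx⟩
        rw [← hg] at hx
        obtain ⟨y, hy, rfl⟩ := hx
        obtain ⟨i, hi⟩ := hc ⟨y, hy⟩
        refine ⟨i, ?_⟩
        have hy' : y = (c : ↥L) ^ i := (congrArg Subtype.val hi).symm.trans (Subgroup.coe_zpow _ _ _)
        rw [map_mul, show QuotientGroup.mk' N m = 1 from (QuotientGroup.eq_one_iff m).2 hm, one_mul, ← map_zpow,
          conj_zpow, ← hy']
        rfl
      obtain ⟨i, hi⟩ := hs a
      obtain ⟨j, hj⟩ := hs b
      refine (QuotientGroup.eq_one_iff _).1 ?_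
      show QuotientGroup.mk' N ⁅a, b⁆ = 1
      rw [map_commutatorElement, hi, hj, commutatorElement_eq_one_iff_mul_comm]
      exact ((Commute.refl _).zpow_zpow i j).eq
    have hPbot : (P : Subgroup ↥L) = ⊥ := by
      have := hN.disjoint
      rwa [hNtop, top_disjoint] at this
    exact P.ne_bot_of_dvd_card (even_iff_two_dvd.1 heven) hPbot
  rcases FpfStruct.cyclic_or_quaternion S.isPGroup' hab with hcy | ⟨-, n, ⟨e⟩⟩
  · exact absurd hcy (hCyc S)
  · rcases Nat.eq_zero_or_pos n with rfl | hn
    · exfalso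
      -- `QuaternionGroup 1` is cyclic, excluded above
      have hcy : IsCyclic ↥(S : Subgroup ↥L) := by
        haveI : IsCyclic (QuaternionGroup (2 ^ 0)) := InEvery.isCyclic_quaternion_one
        exact isCyclic_of_surjective e.symm.toMonoidHom e.symm.surjective
      exact hCyc S hcy
    · exact ⟨S, n - 1, ⟨by rwa [Nat.sub_add_cancel hn]⟩⟩

end Cfsg.Agent.S1307
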