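import Cfsg.Statements.S1313
import Cfsg.Agent.Lib.Components.FStar
-- import your own Cfsg.Agent.* helpers here

set_option autoImplicit false
set_option linter.style.haveILetI false
open Cfsg

namespace Cfsg.Agent.S1313

/-- For a finite group H, |H| ≤ |F*(H)|!. -/
theorem result {H : Type*} [Group H] [Finite H] : Nat.card H ≤ Nat.factorial (Nat.card ↥(Cfsg.generalizedFittingSubgroup H)) := by
  open Subgroup Cfsg.Agent.Components in
  haveI hFn := generalizedFitting_normal (G := H)
  set F := generalizedFittingSubgroup H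
  let φ : H →* MulAut ↥F := MulAut.conjNormal
  let ψ : MulAut ↥F →* Equiv.Perm {x : ↥F // x ≠ 1} :=
    { toFun := fun e => e.toEquiv.subtypeEquiv (fun x => by
        show x ≠ 1 ↔ e x ≠ 1
        rw [Ne, Ne, EmbeddingLike.map_eq_one_iff])
      map_one' := by ext x; rfl
      map_mul' := fun a b => by ext x; rfl }
  have hker : (ψ.comp φ).ker ≤ F := by
    intro g hg
    refine centralizer_generalizedFitting_le (mem_centralizer_iff.2 fun f hf => ?_)
    rcases eq_or_ne (⟨f, hf⟩ : ↥F) 1 with e | e
    · have : f = 1 := congrArg Subtype.val e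
      simp [this]
    · have h1 := congrArg (fun π : Equiv.Perm {x : ↥F // x ≠ 1} => ((π ⟨⟨f, hf⟩, e⟩ : ↥F) : H)) hg
      have h2 : g * f * g⁻¹ = f := h1
      exact (eq_mul_inv_iff_mul_eq.1 h2.symm)
  haveI := Fintype.ofFinite ↥F
  calc Nat.card H = Nat.card (ψ.comp φ).ker * (ψ.comp φ).ker.index := (card_mul_index _).symm
    _ ≤ Nat.card ↥F * Nat.card (Equiv.Perm {x : ↥F // x ≠ 1}) := by
        refine Nat.mul_le_mul (card_le_of_le hker) ?_
        rw [index_ker]
        exact Subgroup.card_le_card_group _
    _ = Nat.card ↥F * (Nat.card ↥F - 1).factorial := by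
        classical
        rw [Nat.card_perm]
        congr 2
        rw [Nat.card_eq_fintype_card, Fintype.card_subtype_compl, Fintype.card_subtype_eq,
          Nat.card_eq_fintype_card]
    _ = (Nat.card ↥F).factorial := Nat.mul_factorial_pred Nat.card_pos.ne'

end Cfsg.Agent.S1313
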