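import Cfsg.Statements.S1314
import Cfsg.Agent.Lib.Solvable.Basic
-- import your own Cfsg.Agent.* helpers here

set_option autoImplicit false
set_option linter.style.haveILetI false
open Cfsg

namespace Cfsg.Agent.S1314

/-- Let x be an involution of a group G and L a perfect subgroup with ⁅L, x L x⁻¹⁆ = 1. Then l ↦ l (x l x⁻¹) is a group homomorphism π from L to G whose kernel is central in L and whose image lies in C_G(x); and the commutator subgroup of C_{L ⊔ xLx⁻¹}(x) equals the image of π. -/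
theorem result {G : Type*} [Group G] [Finite G] (x : G) (hx : orderOf x = 2) (L : Subgroup G) (hperf : ⁅L, L⁆ = L) (hcomm : ⁅L, L.map (MulAut.conj x).toMonoidHom⁆ = ⊥) : ∃ π : ↥L →* G, (∀ l : ↥L, π l = (l : G) * (x * (l : G) * x⁻¹)) ∧ π.ker ≤ Subgroup.center ↥L ∧ π.range ≤ Subgroup.centralizer ({x} : Set G) ∧ ⁅(L ⊔ L.map (MulAut.conj x).toMonoidHom) ⊓ Subgroup.centralizer ({x} : Set G), (L ⊔ L.map (MulAut.conj x).toMonoidHom) ⊓ Subgroup.centralizer ({x} : Set G)⁆ = π.range := by
  set L' := L.map (MulAut.conj x).toMonoidHom with hL'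
  have hxx : x * x = 1 := by rw [← sq, ← hx, pow_orderOf_eq_one]
  have hxi : x⁻¹ = x := inv_eq_of_mul_eq_one_right hxx
  have hc : ∀ l ∈ L, ∀ m ∈ L', l * m = m * l := fun l hl m hm =>
    (Subgroup.mem_centralizer_iff.1 (Subgroup.commutator_eq_bot_iff_le_centralizer.1 hcomm hl) m hm).symm
  have hmem : ∀ l ∈ L, x * l * x⁻¹ ∈ L' := fun l hl => ⟨l, hl, rfl⟩
  have hmem' : ∀ m ∈ L', x * m * x⁻¹ ∈ L := by
    rintro _ ⟨l, hl, rfl⟩
    rw [show x * ((MulAut.conj x).toMonoidHom l) * x⁻¹ = (x * x) * l * (x * x)⁻¹ by simp; group]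
    simpa [hxx] using hl
  let π : ↥L →* G := MonoidHom.mk' (fun l => (l : G) * (x * (l : G) * x⁻¹)) fun l m => by
    calc ((l * m : ↥L) : G) * (x * ((l * m : ↥L) : G) * x⁻¹)
        = (l : G) * ((m : G) * (x * (l : G) * x⁻¹)) * (x * (m : G) * x⁻¹) := by
          rw [Subgroup.coe_mul]; group
      _ = (l : G) * ((x * (l : G) * x⁻¹) * (m : G)) * (x * (m : G) * x⁻¹) := by
          rw [hc m m.2 _ (hmem l l.2)]
      _ = (l : G) * (x * (l : G) * x⁻¹) * ((m : G) * (x * (m : G) * x⁻¹)) := by group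
  have hπ : ∀ l : ↥L, π l = (l : G) * (x * (l : G) * x⁻¹) := fun l => rfl
  have hkerle : π.ker ≤ Subgroup.center ↥L := by
    intro l hl
    rw [MonoidHom.mem_ker, hπ, mul_eq_one_iff_eq_inv] at hl
    rw [Subgroup.mem_center_iff]
    intro m
    have hl' : (l : G) ∈ L' := by rw [hl]; exact inv_mem (hmem l l.2)
    exact Subtype.ext (hc m m.2 l hl')
  have hrange : π.range ≤ Subgroup.centralizer ({x} : Set G) := by
    rintro _ ⟨l, rfl⟩
    rw [Subgroup.mem_centralizer_singleton_iff, hπ]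
    calc (l : G) * (x * (l : G) * x⁻¹) * x
        = x * (x⁻¹ * (l : G) * x) * (l : G) := by group
      _ = x * ((x * (l : G) * x⁻¹) * (l : G)) := by rw [hxi]; group
      _ = x * ((l : G) * (x * (l : G) * x⁻¹)) := by rw [hc l l.2 _ (hmem l l.2)]
  refine ⟨π, hπ, hkerle, hrange, le_antisymm ?_ ?_⟩
  · have hdec : ∀ c ∈ (L ⊔ L') ⊓ Subgroup.centralizer ({x} : Set G), ∃ l : ↥L, ∃ z : G,
        c = π l * z ∧ ∀ w ∈ L ⊔ L', z * w = w * z := by
      rintro c ⟨hc', hcx⟩
      have hn : L ≤ Subgroup.normalizer (L' : Set G) :=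
        (Subgroup.commutator_eq_bot_iff_le_centralizer.1 hcomm).trans
          (Subgroup.centralizer_le_normalizer _)
      rw [sup_comm] at hc'
      obtain ⟨m, hm, a, ha, rfl⟩ := (SolvBasic.mem_sup_iff_of_le_normalizer hn).1 hc'
      obtain ⟨b, hb, rfl⟩ := hm
      have hconj : (MulAut.conj x).toMonoidHom b = x * b * x⁻¹ := rfl
      rw [hconj] at hcx ⊢
      have hcb := hc b hb _ (hmem a ha)
      have hfix : (x * b * x⁻¹) * a = (x * a * x⁻¹) * b := by
        have h1 := Subgroup.mem_centralizer_singleton_iff.1 hcx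
        calc (x * b * x⁻¹) * a = x * ((x * b * x⁻¹) * a) * x⁻¹ := by
              rw [← h1, mul_inv_cancel_right]
          _ = (x * x) * b * (x * x)⁻¹ * (x * a * x⁻¹) := by group
          _ = b * (x * a * x⁻¹) := by rw [hxx]; group
          _ = (x * a * x⁻¹) * b := hcb
      refine ⟨⟨b, hb⟩, b⁻¹ * a, ?_, ?_⟩
      · rw [hπ]
        show x * b * x⁻¹ * a = b * (x * b * x⁻¹) * (b⁻¹ * a)
        rw [hc b hb _ (hmem b hb)]; group
      · have hz1 : b⁻¹ * a ∈ L := mul_mem (inv_mem hb) ha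
        have hz2 : b⁻¹ * a ∈ L' := by
          have h3 : a * b⁻¹ = (x * b * x⁻¹)⁻¹ * (x * a * x⁻¹) := by
            rw [eq_inv_mul_iff_mul_eq, ← mul_assoc, hfix, mul_inv_cancel_right]
          have h4 : a * b⁻¹ ∈ L' := h3 ▸ mul_mem (inv_mem (hmem b hb)) (hmem a ha)
          have h5 : b⁻¹ * a = a * b⁻¹ := by
            have h6 := hc b hb _ h4
            calc b⁻¹ * a = b⁻¹ * ((a * b⁻¹) * b) := by group
              _ = b⁻¹ * (b * (a * b⁻¹)) := by rw [h6]
              _ = a * b⁻¹ := by group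
          rw [h5]; exact h4
        have hcen : L ⊔ L' ≤ Subgroup.centralizer ({b⁻¹ * a} : Set G) :=
          sup_le (fun w hw => Subgroup.mem_centralizer_singleton_iff.2 (hc w hw _ hz2))
            (fun w hw => Subgroup.mem_centralizer_singleton_iff.2 (hc _ hz1 w hw).symm)
        exact fun w hw => (Subgroup.mem_centralizer_singleton_iff.1 (hcen hw)).symm
    rw [Subgroup.commutator_le]
    intro c hc₁ d hd₁
    obtain ⟨l, z, rfl, hz⟩ := hdec c hc₁
    obtain ⟨m, w, rfl, hw⟩ := hdec d hd₁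
    have hπsup : ∀ l : ↥L, π l ∈ L ⊔ L' := fun l => by
      rw [hπ]; exact mul_mem (Subgroup.mem_sup_left l.2) (Subgroup.mem_sup_right (hmem l l.2))
    have e1 : z * π m = π m * z := hz _ (hπsup m)
    have e2 : w * π l = π l * w := hw _ (hπsup l)
    have e3 : z * w = w * z := by
      have : w ∈ L ⊔ L' := by
        have := mul_mem (inv_mem (hπsup m)) hd₁.1
        simpa using this
      exact hz w this
    refine ⟨l * m * l⁻¹ * m⁻¹, ?_⟩
    rw [commutatorElement_def, map_mul, map_mul, map_mul, map_inv, map_inv]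
    have f1 : Commute z (π l) := hz _ (hπsup l)
    have f2 : Commute z (π m) := e1
    have f3 : Commute w (π l) := e2
    have f4 : Commute w (π m) := hw _ (hπsup m)
    have f5 : Commute z w := e3
    have g1 : Commute z (π m * w) := f2.mul_right f5
    symm
    calc π l * z * (π m * w) * (π l * z)⁻¹ * (π m * w)⁻¹
        = π l * (z * (π m * w) * z⁻¹) * (π l)⁻¹ * (π m * w)⁻¹ := by group
      _ = π l * (π m * w) * (π l)⁻¹ * (π m * w)⁻¹ := by rw [g1.eq, mul_inv_cancel_right]
      _ = π l * π m * (w * (π l)⁻¹) * w⁻¹ * (π m)⁻¹ := by group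
      _ = π l * π m * (π l)⁻¹ * (π m)⁻¹ := by rw [f3.inv_right.eq]; group
  · have hLL : ⁅π.range, π.range⁆ = π.range := by
      rw [MonoidHom.range_eq_map, ← Subgroup.map_commutator]
      congr 1
      apply Subgroup.map_injective L.subtype_injective
      rw [Subgroup.map_commutator, ← MonoidHom.range_eq_map, Subgroup.range_subtype, hperf]
    rw [← hLL]
    have hle : π.range ≤ (L ⊔ L') ⊓ Subgroup.centralizer ({x} : Set G) := le_inf (by
      rintro _ ⟨l, rfl⟩
      rw [hπ]; exact mul_mem (Subgroup.mem_sup_left l.2) (Subgroup.mem_sup_right (hmem l l.2))) hrange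
    exact Subgroup.commutator_mono hle hle

end Cfsg.Agent.S1314
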