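import Cfsg.Statements.S1315
import Cfsg.Agent.Lib.Intrinsic.Main
import Cfsg.Agent.Lib.Classical.TwoByTwo

set_option autoImplicit false
open Cfsg

namespace Cfsg.Agent.S1315

open Subgroup Cfsg.Agent.Intrinsic

theorem intr_of {G : Type*} [Group G] [Finite G] {K : Subgroup G} {z : G} {m : ℕ}
    (hz : z ∈ K ∧ orderOf z = 2 ∧ ∀ t ∈ K, orderOf t = 2 → t = z)
    (hK : K ≤ centralizer ({z} : Set G) ∧ IsPComponent 2 (K.subgroupOf (centralizer ({z} : Set G))))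
    (hc : Nat.card (center (↥K ⧸ oddCore ↥K)) = 2) (hm : Nat.card (↥K ⧸ oddCore ↥K) = m) (h4 : 4 ∣ m) :
    Intr m K z := by
  haveI : Fact (Nat.Prime 2) := ⟨Nat.prime_two⟩
  refine ⟨hz.2.1, hz.1, hz.2.2, ?_, hc, hm, ?_⟩
  · have := BpBalance.pcin_of_comp hK.2
    rwa [map_subgroupOf_eq_of_le hK.1] at this
  · rw [Subgroup.card_eq_card_quotient_mul_card_subgroup (oddCore ↥K), hm]
    exact h4.mul_right _

theorem sl_two_facts {F : Type} [Field F] [Fintype F] (hF : Odd (Fintype.card F)) {Q : Type*} [Group Q]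
    (e : Q ≃* Matrix.SpecialLinearGroup (Fin 2) F) :
    Nat.card (center Q) = 2 ∧ Nat.card Q = Nat.card F * (Nat.card F ^ 2 - 1) ∧
      4 ∣ Nat.card F * (Nat.card F ^ 2 - 1) := by
  rw [← Nat.card_eq_fintype_card] at hF
  obtain ⟨k, hk⟩ := hF
  refine ⟨?_, ?_, ?_⟩
  · rw [Nat.card_congr (Subgroup.centerCongr e).toEquiv, ClassicalSL.card_center_sl, Fintype.card_fin, hk,
      Nat.add_sub_cancel, Nat.gcd_mul_right_right]
  · rw [Nat.card_congr e.toEquiv, TwoByTwo.card_sl_two]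
  · refine Dvd.dvd.mul_left ?_ _
    rw [hk, show (2 * k + 1) ^ 2 = 4 * (k * k + k) + 1 by ring, Nat.add_sub_cancel]
    exact dvd_mul_right 4 _

theorem cover_facts {Q : Type*} [Group Q] [Finite Q]
    (h : IsNonsplitDoubleCover Q ↥(alternatingGroup (Fin 7))) :
    Nat.card (center Q) = 2 ∧ Nat.card Q = 5040 := by
  obtain ⟨h2, ⟨e⟩, -⟩ := h
  refine ⟨h2, ?_⟩
  have h7 := two_mul_nat_card_alternatingGroup (α := Fin 7)
  rw [Subgroup.card_eq_card_quotient_mul_card_subgroup (center Q), h2, Nat.card_congr e.toEquiv, mul_comm, h7,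
    Nat.card_perm, Nat.card_fin]
  rfl

/-- Let G be finite and J ≠ K subgroups, each containing exactly one involution, z(J) resp. z(K), each a 2-component of the centralizer of its involution, with J / O(J) and K / O(K) both isomorphic to SL(2, F) for one finite field F of odd order, or both non-split double covers of A7. Then (i) every 2-element of K of order at least 4 centralizing z(J) normalizes J; (ii) if z(J) normalizes K then z(K) normalizes J. -/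
theorem result {G : Type*} [Group G] [Finite G] (J K : Subgroup G) (hJK : J ≠ K) (zJ zK : G) (hzJ : zJ ∈ J ∧ orderOf zJ = 2 ∧ ∀ t ∈ J, orderOf t = 2 → t = zJ) (hzK : zK ∈ K ∧ orderOf zK = 2 ∧ ∀ t ∈ K, orderOf t = 2 → t = zK) (hJ : J ≤ Subgroup.centralizer ({zJ} : Set G) ∧ Cfsg.IsPComponent 2 (J.subgroupOf (Subgroup.centralizer ({zJ} : Set G)))) (hK : K ≤ Subgroup.centralizer ({zK} : Set G) ∧ Cfsg.IsPComponent 2 (K.subgroupOf (Subgroup.centralizer ({zK} : Set G)))) (htype : (∃ (F : Type) (_ : Field F) (_ : Fintype F), Odd (Fintype.card F) ∧ Nonempty (↥J ⧸ Cfsg.oddCore ↥J ≃* Matrix.SpecialLinearGroup (Fin 2) F) ∧ Nonempty (↥K ⧸ Cfsg.oddCore ↥K ≃* Matrix.SpecialLinearGroup (Fin 2) F)) ∨ (Cfsg.IsNonsplitDoubleCover (↥J ⧸ Cfsg.oddCore ↥J) ↥(alternatingGroup (Fin 7)) ∧ Cfsg.IsNonsplitDoubleCover (↥K ⧸ Cfsg.oddCore ↥K) ↥(alternatingGroup (Fin 7)))) : (∀ y ∈ K, IsPGroup 2 ↥(Subgroup.zpowers y) → 4 ≤ orderOf y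 → y * zJ = zJ * y → y ∈ Subgroup.normalizer (J : Set G)) ∧ (zJ ∈ Subgroup.normalizer (K : Set G) → zK ∈ Subgroup.normalizer (J : Set G)) := by
  obtain ⟨m, hiJ, hiK⟩ : ∃ m, Intr m J zJ ∧ Intr m K zK := by
    rcases htype with ⟨F, hFf, hFt, hodd, ⟨eJ⟩, ⟨eK⟩⟩ | ⟨hcJ, hcK⟩
    · obtain ⟨a1, a2, a3⟩ := sl_two_facts hodd eJ
      obtain ⟨b1, b2, -⟩ := sl_two_facts hodd eK
      exact ⟨_, intr_of hzJ hJ a1 a2 a3, intr_of hzK hK b1 b2 a3⟩
    · obtain ⟨a1, a2⟩ := cover_facts hcJ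
      obtain ⟨b1, b2⟩ := cover_facts hcK
      exact ⟨5040, intr_of hzJ hJ a1 a2 (by norm_num), intr_of hzK hK b1 b2 (by norm_num)⟩
  refine ⟨fun y hy hp h4 hc => normalizer_of_two hiJ hiK hy ?_ h4 hc, normalizer_symm hiJ hiK⟩
  exact IsTwo.of_group hp (mem_zpowers y)

end Cfsg.Agent.S1315
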