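import Cfsg.Statements.S1316
import Cfsg.Agent.Lib.Components.FStar
-- import your own Cfsg.Agent.* helpers here

set_option autoImplicit false
set_option linter.style.haveILetI false
open Cfsg

namespace Cfsg.Agent.S1316

/-- For a finite group X, E(X) equals the intersection of the derived series of F*(X) (its last term). -/
theorem result {X : Type*} [Group X] [Finite X] : (⨅ n : ℕ, (derivedSeries ↥(Cfsg.generalizedFittingSubgroup X) n).map (Cfsg.generalizedFittingSubgroup X).subtype) = Cfsg.layer X := by
  open Subgroup Cfsg.Agent.Components in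
  haveI := generalizedFitting_normal (G := X)
  haveI := layer_normal (G := X)
  set F := generalizedFittingSubgroup X
  haveI : Group.IsPerfect ↥(layer X) := layer_isPerfect
  apply le_antisymm
  · haveI : Group.IsSolvable (↥F ⧸ (layer X).subgroupOf F) := by
      haveI := fitting_solvable (G := X)
      refine Group.isSolvable_of_surjective (f := (QuotientGroup.mk' ((layer X).subgroupOf F)).comp
        (inclusion (fitting_le_generalizedFitting (G := X)))) ?_
      intro y
      obtain ⟨⟨w, hw⟩, rfl⟩ := QuotientGroup.mk'_surjective _ y
      obtain ⟨e, he, f, hf, rfl⟩ := mem_sup_of_normal_left.1 hw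
      refine ⟨⟨f, hf⟩, QuotientGroup.eq.2 ?_⟩
      show f⁻¹ * (e * f) ∈ layer X
      have := (inferInstance : (layer X).Normal).conj_mem e he f⁻¹
      rwa [inv_inv, mul_assoc] at this
    obtain ⟨n, hn⟩ := Group.IsSolvable.solvable (G := ↥F ⧸ (layer X).subgroupOf F)
    refine iInf_le_of_le n ?_
    rw [map_le_iff_le_comap]
    have := map_derivedSeries_le_derivedSeries (QuotientGroup.mk' ((layer X).subgroupOf F)) n
    rw [hn, le_bot_iff, Subgroup.map_eq_bot_iff, QuotientGroup.ker_mk'] at this
    exact this
  · refine le_iInf fun n => ?_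
    have h := map_derivedSeries_le_derivedSeries (inclusion (layer_le_generalizedFitting (G := X))) n
    rw [Group.IsPerfect.derivedSeries_eq_top] at h
    intro x hx
    exact ⟨_, h ⟨⟨x, hx⟩, mem_top _, rfl⟩, rfl⟩

end Cfsg.Agent.S1316
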