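import Cfsg.Statements.S1319
import Cfsg.Agent.Lib.Components.FStar
-- import your own Cfsg.Agent.* helpers here

set_option autoImplicit false
set_option linter.style.haveILetI false
open Cfsg

namespace Cfsg.Agent.S1319

/-- Let A be a subnormal subgroup of the finite group X with E(A) = A. Then A ≤ E(X) and A is normal in E(X). -/
theorem result {X : Type*} [Group X] [Finite X] (A : Subgroup X) (hsn : A.IsSubnormal) (hA : Cfsg.layer ↥A = ⊤) : A ≤ Cfsg.layer X ∧ (A.subgroupOf (Cfsg.layer X)).Normal := by
  open Subgroup Cfsg.Agent.Components in
  have h : A ≤ layer X := by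
    have := layer_map_le_of_subnormal hsn
    rwa [hA, ← MonoidHom.range_eq_map, range_subtype] at this
  refine ⟨h, (normal_subgroupOf_iff_le_normalizer h).2 ?_⟩
  rw [layer_le_iff]
  intro L hL
  rcases component_le_or_commute hL hsn with e | e
  · exact e.trans le_normalizer
  · exact normalizes_of_commute e

end Cfsg.Agent.S1319
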