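import Cfsg.Statements.S1321
import Cfsg.Agent.Lib.Components.FStar
-- import your own Cfsg.Agent.* helpers here

set_option autoImplicit false
set_option linter.style.haveILetI false
open Cfsg

namespace Cfsg.Agent.S1321

/-- Let X be finite and U ≤ X. Then E(X) is generated by C_{E(X)}(U) together with ⁅E(X), U⁆ (indeed it is their product, ⁅E(X), U⁆ being normal in E(X)). -/
theorem result {X : Type*} [Group X] [Finite X] (U : Subgroup X) : Cfsg.layer X = (Cfsg.layer X ⊓ Subgroup.centralizer (U : Set X)) ⊔ ⁅Cfsg.layer X, U⁆ ∧ ⁅Cfsg.layer X, U⁆ ≤ Cfsg.layer X := by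
  open Subgroup Cfsg.Agent.Components in
  haveI := layer_normal (G := X)
  have hle : ⁅layer X, U⁆ ≤ layer X := commutator_le_of_le_normalizer le_normalizer_of_normal
  refine ⟨le_antisymm ?_ (sup_le inf_le_left hle), hle⟩
  have hn : (⁅layer X, U⁆.subgroupOf (layer X)).Normal :=
    (normal_subgroupOf_iff_le_normalizer hle).2 (normalizer_commutator_ge_left _ _)
  have hsn : ⁅layer X, U⁆.IsSubnormal :=
    IsSubnormal.step _ _ hle (layer_normal (G := X)).isSubnormal hn
  rw [layer_le_iff]
  intro L hL
  by_cases h : L ≤ ⁅layer X, U⁆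
  · exact h.trans le_sup_right
  · refine le_trans (le_inf (component_le_layer hL) ?_) le_sup_left
    have hK := (component_le_or_commute hL hsn).resolve_left h
    have h1 : ⁅⁅L, U⁆, L⁆ = ⊥ := by
      rw [commutator_comm, eq_bot_iff]
      exact le_of_le_of_eq (commutator_mono le_rfl (commutator_mono (component_le_layer hL) le_rfl)) hK
    have h2 : ⁅⁅U, L⁆, L⁆ = ⊥ := by rw [commutator_comm U L]; exact h1
    have := commutator_commutator_eq_bot_of_rotate (H₁ := L) (H₂ := L) (H₃ := U) h1 h2
    rw [component_commutator_eq hL] at this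
    exact commutator_eq_bot_iff_le_centralizer.1 this

end Cfsg.Agent.S1321
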