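import Cfsg.Statements.S1323
import Mathlib.GroupTheory.SpecificGroups.Alternating.Simple
import Cfsg.Agent.Lib.Components.Basic
import Cfsg.Agent.Lib.Signalizer.Basic
-- import your own Cfsg.Agent.* helpers here

set_option autoImplicit false
set_option linter.style.haveILetI false
open Cfsg

namespace Cfsg.Agent.S1323

open Equiv Finset

open scoped Pointwise

variable {n : ℕ}

/-- A permutation commuting with the alternating group on `s` fixes `s` pointwise, if `5 ≤ #s`. -/
theorem fix_of_commute (s : Finset (Fin n)) (hs : 5 ≤ #s) {g : alternatingGroup (Fin n)}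
    (hg : g ∈ Subgroup.centralizer ((alternatingGroup.ofSubtype s).range : Set (alternatingGroup (Fin n))))
    {i : Fin n} (hi : i ∈ s) : (g : Perm (Fin n)) i = i := by
  by_contra hne
  -- a three-cycle of `s` fixing `i` and moving `g i`, or moving `i` and fixing `g i`
  obtain ⟨k, hk, l, hl, hkl⟩ := Finset.one_lt_card.1 (show 1 < #(s \ {i, (g : Perm (Fin n)) i}) by
    have h1 := Finset.le_card_sdiff {i, (g : Perm (Fin n)) i} s
    have h2 := Finset.card_le_two (a := i) (b := (g : Perm (Fin n)) i)
    omega)
  simp only [mem_sdiff, Finset.mem_insert, Finset.mem_singleton, not_or] at hk hl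
  set c := swap i k * swap i l with hc
  have hc3 : c.IsThreeCycle := Perm.isThreeCycle_swap_mul_swap_same (Ne.symm hk.2.1) (Ne.symm hl.2.1) hkl
  let x : alternatingGroup (Fin n) := ⟨c, hc3.mem_alternatingGroup⟩
  have hx : x ∈ (alternatingGroup.ofSubtype s).range := by
    rw [alternatingGroup.mem_range_ofSubtype_iff]
    intro z hz
    by_contra hzs
    apply Perm.mem_support.1 hz
    have h1 : z ≠ i := fun h => hzs (h ▸ hi)
    have h2 : z ≠ k := fun h => hzs (h ▸ hk.1)
    have h3 : z ≠ l := fun h => hzs (h ▸ hl.1)
    show (swap i k * swap i l) z = z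
    rw [Perm.mul_apply, swap_apply_of_ne_of_ne h1 h3, swap_apply_of_ne_of_ne h1 h2]
  have he := congrArg (fun y : alternatingGroup (Fin n) => (y : Perm (Fin n)) i) (Subgroup.mem_centralizer_iff.1 hg x hx)
  change c ((g : Perm (Fin n)) i) = (g : Perm (Fin n)) (c i) at he
  have hci : c i = l := by
    show (swap i k * swap i l) i = l
    rw [Perm.mul_apply, swap_apply_left, swap_apply_of_ne_of_ne hl.2.1 (Ne.symm hkl)]
  have hcg : c ((g : Perm (Fin n)) i) = (g : Perm (Fin n)) i := by
    show (swap i k * swap i l) _ = _
    rw [Perm.mul_apply, swap_apply_of_ne_of_ne hne (Ne.symm hl.2.2), swap_apply_of_ne_of_ne hne (Ne.symm hk.2.2)]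
  rw [hcg, hci] at he
  exact hl.2.1 ((g : Perm (Fin n)).injective he).symm

theorem centralizer_range (s : Finset (Fin n)) (hs : 5 ≤ #s) :
    Subgroup.centralizer ((alternatingGroup.ofSubtype s).range : Set (alternatingGroup (Fin n))) =
      (alternatingGroup.ofSubtype sᶜ).range := by
  ext g
  rw [alternatingGroup.mem_range_ofSubtype_iff]
  constructor
  · intro hg i hi
    rw [Finset.mem_compl]
    exact fun his => Perm.mem_support.1 hi (fix_of_commute s hs hg his)
  · intro hg
    rw [Subgroup.mem_centralizer_iff]
    intro x hx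
    rw [SetLike.mem_coe, alternatingGroup.mem_range_ofSubtype_iff] at hx
    exact Subtype.ext ((Perm.Disjoint.commute (Perm.disjoint_iff_disjoint_support.2
      (disjoint_compl_right.mono hx hg))).eq)


/-- For n ≥ 9, the subgroup of the alternating group on Fin n fixing each of the points 0, 1, 2, 3 is a standard subgroup. -/
theorem result (n : ℕ) (h4 : 4 ≤ n) (hn : 9 ≤ n) : Cfsg.IsStandardSubgroup (⨅ i : Fin 4, MulAction.stabilizer ↥(alternatingGroup (Fin n)) (Fin.castLE h4 i : Fin n)) := by
  classical
  let S : Finset (Fin n) := (Finset.univ : Finset (Fin 4)).image (Fin.castLE h4)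
  have hS : #S = 4 := by
    rw [Finset.card_image_of_injective _ (Fin.castLE_injective h4), Finset.card_univ, Fintype.card_fin]
  set T := Sᶜ with hT
  have hTc : 5 ≤ #T := by
    rw [hT, Finset.card_compl, hS, Fintype.card_fin]
    omega
  have hLeq : (⨅ i : Fin 4, MulAction.stabilizer ↥(alternatingGroup (Fin n)) (Fin.castLE h4 i : Fin n)) =
      (alternatingGroup.ofSubtype T).range := by
    ext g
    rw [Subgroup.mem_iInf, alternatingGroup.mem_range_ofSubtype_iff]
    constructor
    · intro h z hz
      rw [hT, Finset.mem_compl]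
      intro hzS
      obtain ⟨i, -, rfl⟩ := Finset.mem_image.1 hzS
      exact Perm.mem_support.1 hz (h i)
    · intro h i
      by_contra hne
      have := h (Perm.mem_support.2 hne)
      rw [hT, Finset.mem_compl] at this
      exact this (Finset.mem_image_of_mem _ (Finset.mem_univ i))
  rw [hLeq]
  set L := (alternatingGroup.ofSubtype T).range with hL
  set K := (alternatingGroup.ofSubtype S).range with hK
  have hC : Subgroup.centralizer (L : Set ↥(alternatingGroup (Fin n))) = K := by
    rw [hL, centralizer_range T hTc, hK, hT, compl_compl]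
  rw [IsStandardSubgroup, hC]
  have hconj : ∀ (g : ↥(alternatingGroup (Fin n))) (s : Finset (Fin n)),
      (alternatingGroup.ofSubtype s).range.map (MulAut.conj g).toMonoidHom =
        (alternatingGroup.ofSubtype (g • s)).range := fun g s =>
    alternatingGroup.conj_smul_range_ofSubtype s g
  have hrange : ∀ {s t : Finset (Fin n)}, 3 ≤ #s →
      (alternatingGroup.ofSubtype s).range ≤ (alternatingGroup.ofSubtype t).range → s ⊆ t := by
    intro s t hs hle i hi
    obtain ⟨k, hk, l, hl, hkl⟩ := Finset.one_lt_card.1 (show 1 < #(s \ {i}) by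
      rw [Finset.card_sdiff_of_subset (Finset.singleton_subset_iff.2 hi), Finset.card_singleton]; omega)
    simp only [mem_sdiff, Finset.mem_singleton] at hk hl
    have h3 := Perm.isThreeCycle_swap_mul_swap_same (Ne.symm hk.2) (Ne.symm hl.2) hkl
    have hci : (swap i k * swap i l) i = l := by
      rw [Perm.mul_apply, swap_apply_left, swap_apply_of_ne_of_ne hl.2 (Ne.symm hkl)]
    have hmem : (⟨_, h3.mem_alternatingGroup⟩ : ↥(alternatingGroup (Fin n))) ∈
        (alternatingGroup.ofSubtype s).range := by
      rw [alternatingGroup.mem_range_ofSubtype_iff]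
      intro z hz
      by_contra hzs
      apply Perm.mem_support.1 hz
      have h1 : z ≠ i := fun h => hzs (h ▸ hi)
      have h2 : z ≠ k := fun h => hzs (h ▸ hk.1)
      have h3 : z ≠ l := fun h => hzs (h ▸ hl.1)
      show (swap i k * swap i l) z = z
      rw [Perm.mul_apply, swap_apply_of_ne_of_ne h1 h3, swap_apply_of_ne_of_ne h1 h2]
    have := hle hmem
    rw [alternatingGroup.mem_range_ofSubtype_iff] at this
    exact this (Perm.mem_support.2 (by show (swap i k * swap i l) i ≠ i; rw [hci]; exact hl.2))
  have hsimple : IsSimpleGroup (alternatingGroup T) :=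
    alternatingGroup.isSimpleGroup (by rw [Nat.card_eq_fintype_card, Fintype.card_coe]; exact hTc)
  refine ⟨?_, ⟨?_, ?_⟩, ?_, ?_⟩
  · refine (Components.quasisimple_congr (MonoidHom.ofInjective (alternatingGroup.ofSubtype_injective (s := T)))).1 ?_
    have hnab : ¬ IsMulCommutative (alternatingGroup T) := by
      intro h
      have h1 : L ≤ K := hC ▸ (Subgroup.le_centralizer_iff.2 (fun a ha => Subgroup.mem_centralizer_iff.2 fun b hb => by
        obtain ⟨a, rfl⟩ := ha
        obtain ⟨b, rfl⟩ := hb
        rw [← map_mul, ← map_mul, h.is_comm.comm]))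
      have h2 := Finset.card_le_card (hrange (by omega : 3 ≤ #T) h1)
      omega
    have hcen : Subgroup.center (alternatingGroup T) = ⊥ :=
      (Subgroup.Normal.eq_bot_or_eq_top inferInstance).resolve_right fun h => hnab
        ⟨⟨fun a b => (Subgroup.mem_center_iff.1 (h ▸ Subgroup.mem_top a) b).symm⟩⟩
    refine ⟨Group.isPerfect_def.2 ((Subgroup.Normal.eq_bot_or_eq_top inferInstance).resolve_left fun h => hnab
      ⟨⟨fun a b => ?_⟩⟩), ?_⟩
    · rw [← commutatorElement_eq_one_iff_mul_comm, ← Subgroup.mem_bot, ← h, _root_.commutator_def]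
      exact Subgroup.commutator_mem_commutator (Subgroup.mem_top a) (Subgroup.mem_top b)
    · exact (((QuotientGroup.quotientMulEquivOfEq hcen).trans QuotientGroup.quotientBot).isSimpleGroup_congr).2 hsimple
  · obtain ⟨a, b, c, d, hab, hac, had, hbc, hbd, hcd, hSeq⟩ : ∃ a b c d, a ≠ b ∧ a ≠ c ∧ a ≠ d ∧ b ≠ c ∧ b ≠ d ∧ c ≠ d ∧ S = {a, b, c, d} :=
      Finset.card_eq_four.1 hS
    let x : ↥(alternatingGroup (Fin n)) := ⟨swap a b * swap c d, by
      rw [Equiv.Perm.mem_alternatingGroup, map_mul, Perm.sign_swap hab, Perm.sign_swap hcd]; rfl⟩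
    have hxK : x ∈ K := by
      rw [hK, alternatingGroup.mem_range_ofSubtype_iff]
      intro z hz
      by_contra hzs
      apply Perm.mem_support.1 hz
      simp only [hSeq, Finset.mem_insert, Finset.mem_singleton, not_or] at hzs
      show (swap a b * swap c d) z = z
      rw [Perm.mul_apply, swap_apply_of_ne_of_ne hzs.2.2.1 hzs.2.2.2, swap_apply_of_ne_of_ne hzs.1 hzs.2.1]
    have hx2 : orderOf x = 2 := by
      refine orderOf_eq_prime (Subtype.ext ?_) fun h => ?_
      · show (swap a b * swap c d) ^ 2 = 1
        have hcm : Commute (swap a b) (swap c d) := Perm.Disjoint.commute (by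
          intro z
          rcases eq_or_ne z a with rfl | h1
          · exact Or.inr (swap_apply_of_ne_of_ne hac had)
          · rcases eq_or_ne z b with rfl | h2
            · exact Or.inr (swap_apply_of_ne_of_ne hbc hbd)
            · exact Or.inl (swap_apply_of_ne_of_ne h1 h2))
        rw [hcm.mul_pow, pow_two, pow_two, swap_mul_self, swap_mul_self, one_mul]
      · have := congrArg (fun y : ↥(alternatingGroup (Fin n)) => (y : Perm (Fin n)) a) h
        simp only [Subgroup.coe_one, Perm.one_apply] at this
        change (swap a b * swap c d) a = a at this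
        rw [Perm.mul_apply, swap_apply_of_ne_of_ne hac had, swap_apply_left] at this
        exact hab this.symm
    exact even_iff_two_dvd.2 (hx2 ▸ Subgroup.orderOf_dvd_natCard K hxK)
  · intro g hg
    rw [← Nat.not_even_iff_odd, even_iff_two_dvd]
    intro h2
    haveI : Fact (Nat.Prime 2) := ⟨Nat.prime_two⟩
    obtain ⟨⟨x, hx1, hx2⟩, hx⟩ := exists_prime_orderOf_dvd_card' 2 h2
    rw [← Subgroup.orderOf_coe] at hx
    rw [hconj] at hx2
    replace hx2 : x ∈ (alternatingGroup.ofSubtype (g • S)).range := hx2
    rw [alternatingGroup.mem_range_ofSubtype_iff] at hx2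
    replace hx1 : x ∈ K := hx1
    rw [hK, alternatingGroup.mem_range_ofSubtype_iff] at hx1
    apply hg
    rw [Subgroup.mem_normalizer_iff_map_conj_eq, hK]
    suffices hgs : g • S = S by exact (hconj g S).trans (by rw [hgs])
    have hcard : #(g • S) = #S := Finset.card_smul_finset g S
    refine Finset.eq_of_subset_of_card_le (fun z hz => ?_) hcard.ge
    by_contra hzS
    have hsub : (x : Perm (Fin n)).support ⊆ (g • S).erase z := fun w hw =>
      Finset.mem_erase.2 ⟨fun h => hzS (h ▸ hx1 hw), hx2 hw⟩
    have h3 := Finset.card_le_card hsub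
    rw [Finset.card_erase_of_mem hz, hcard, hS] at h3
    have hxo : orderOf (x : Perm (Fin n)) = 2 := (Subgroup.orderOf_coe x).trans hx
    obtain ⟨m, hm⟩ := Perm.cycleType_prime_order (σ := (x : Perm (Fin n))) (hxo ▸ Nat.prime_two)
    have h4 := Perm.sum_cycleType (x : Perm (Fin n))
    rw [hm, Multiset.sum_replicate, hxo, smul_eq_mul] at h4
    have hswap : (x : Perm (Fin n)).IsSwap := Perm.card_support_eq_two.1 (by omega)
    have h5 := hswap.sign_eq
    rw [Equiv.Perm.mem_alternatingGroup.1 x.2] at h5
    exact absurd h5 (by decide)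
  · intro g hne hbot
    rw [Subgroup.commutator_comm, Subgroup.commutator_eq_bot_iff_le_centralizer, hC, hK, hL, hconj] at hbot
    have hcard : #(g • T) = #T := Finset.card_smul_finset g T
    have := Finset.card_le_card (hrange (by omega) hbot)
    omega
  · ext g
    rw [Subgroup.mem_normalizer_iff_map_conj_eq, Subgroup.mem_normalizer_iff_map_conj_eq]
    have hrw : ∀ s : Finset (Fin n), 3 ≤ #s →
        ((alternatingGroup.ofSubtype s).range.map ((MulAut.conj g : MulAut ↥(alternatingGroup (Fin n))) : _ →* _) =
          (alternatingGroup.ofSubtype s).range ↔ g • s = s) := by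
      intro s hs
      constructor
      · intro h
        have h' : (alternatingGroup.ofSubtype (g • s)).range = (alternatingGroup.ofSubtype s).range :=
          (hconj g s).symm.trans h
        exact Finset.Subset.antisymm (hrange (by rw [Finset.card_smul_finset]; exact hs) h'.le) (hrange hs h'.ge)
      · intro h
        exact (hconj g s).trans (by rw [h])
    rw [hL, hK, hrw T (by omega), hrw S (by omega), hT]
    have hcompl : g • Sᶜ = (g • S)ᶜ := by
      ext z
      rw [Finset.mem_compl, ← Finset.inv_smul_mem_iff, ← Finset.inv_smul_mem_iff, Finset.mem_compl]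
    rw [hcompl, compl_inj_iff]

end Cfsg.Agent.S1323
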