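import Cfsg.Statements.S1326
import Cfsg.Agent.Lib.Components.FStar
-- import your own Cfsg.Agent.* helpers here

set_option autoImplicit false
set_option linter.style.haveILetI false
open Cfsg

namespace Cfsg.Agent.S1326

/-- For a finite group X: the Fitting subgroup contains its centralizer if and only if the layer of X is trivial. -/
theorem result {X : Type*} [Group X] [Finite X] : Subgroup.centralizer (Cfsg.fittingSubgroup X : Set X) ≤ Cfsg.fittingSubgroup X ↔ Cfsg.layer X = ⊥ := by
  open Subgroup Cfsg.Agent.Components in
  constructor
  · intro h
    haveI := fitting_solvable (G := X)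
    have hs : Group.IsSolvable ↥(layer X) :=
      isSolvable_mono (layer_le_centralizer_fitting.trans h)
    by_contra hne
    haveI : Nontrivial ↥(layer X) := (nontrivial_iff_ne_bot _).2 hne
    haveI : Group.IsPerfect ↥(layer X) := layer_isPerfect
    exact Group.IsPerfect.not_isSolvable _ hs
  · intro h
    have := centralizer_generalizedFitting_le (G := X)
    rwa [generalizedFittingSubgroup, h, bot_sup_eq] at this

end Cfsg.Agent.S1326
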