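import Cfsg.Statements.S1328
import Cfsg.Agent.Lib.Components.Balance
-- import your own Cfsg.Agent.* helpers here

set_option autoImplicit false
set_option linter.style.haveILetI false
open Cfsg
open scoped Pointwise commutatorElement

namespace Cfsg.Agent.S1328

/-- Let G be finite, H ≤ G with O(H) = 1, t an involution of G normalizing H, and Y a nontrivial subgroup of O(C_H(t)). Then some component E of H is normalized by t and by Y and centralized by neither t nor Y. -/
theorem result {G : Type*} [Group G] [Finite G] (H : Subgroup G) (hO : Cfsg.oddCore ↥H = ⊥) (t : G) (ht : orderOf t = 2) (htH : t ∈ Subgroup.normalizer (H : Set G)) (Y : Subgroup G) (hY1 : Y ≠ ⊥) (hY : Y ≤ (Cfsg.oddCore ↥(H ⊓ Subgroup.centralizer ({t} : Set G))).map (H ⊓ Subgroup.centralizer ({t} : Set G)).subtype) : ∃ E : Subgroup ↥H, Cfsg.IsComponent E ∧ (E.map H.subtype).map (MulAut.conj t).toMonoidHom = E.map H.subtype ∧ Y ≤ Subgroup.normalizer ((E.map H.subtype : Subgroup G) : Set G) ∧ ¬ (t ∈ Subgroup.centralizer ((E.map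 H.subtype : Subgroup G) : Set G)) ∧ ¬ (Y ≤ Subgroup.centralizer ((E.map H.subtype : Subgroup G) : Set G)) := by
  classical
  haveI : Fact (Nat.Prime 2) := ⟨Nat.prime_two⟩
  let M := H ⊔ Subgroup.zpowers t
  have hHM : H ≤ M := le_sup_left
  have htn : Subgroup.zpowers t ≤ Subgroup.normalizer (H : Set G) := Subgroup.zpowers_le.2 htH
  haveI hHn : (H.subgroupOf M).Normal := (Subgroup.normal_subgroupOf_iff_le_normalizer hHM).2
    (sup_le Subgroup.le_normalizer htn)
  have htM : t ∈ M := Subgroup.mem_sup_right (Subgroup.mem_zpowers t)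
  let f := QuotientGroup.mk' (H.subgroupOf M)
  -- `M / H` has order at most two and is generated by the image of `t`
  have hgen : ∀ m : M, ∃ j : ℤ, f m = f ⟨t, htM⟩ ^ j := by
    intro m
    have hm : (m : G) ∈ ((H ⊔ Subgroup.zpowers t : Subgroup G) : Set G) := m.2
    rw [Subgroup.coe_mul_of_right_le_normalizer_left _ _ htn] at hm
    obtain ⟨h', hh, w, hw, hhw⟩ := hm
    obtain ⟨j, rfl⟩ := Subgroup.mem_zpowers_iff.1 hw
    refine ⟨j, ?_⟩
    have : m = (⟨h', hHM hh⟩ : M) * ⟨t, htM⟩ ^ j := Subtype.ext (by simpa using hhw.symm)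
    rw [this, map_mul, map_zpow, show f ⟨h', hHM hh⟩ = 1 from (QuotientGroup.eq_one_iff _).2 hh, one_mul]
  have hsq : ∀ m : M, f m ^ 2 = 1 := by
    intro m
    obtain ⟨j, hj⟩ := hgen m
    rw [hj, ← zpow_natCast, ← zpow_mul, mul_comm, zpow_mul, zpow_natCast, ← map_pow,
      show (⟨t, htM⟩ : M) ^ 2 = 1 from Subtype.ext (ht ▸ pow_orderOf_eq_one t), map_one, one_zpow]
  let e : ↥(H.subgroupOf M) ≃* ↥H := Subgroup.subgroupOfEquivOfLe hHM
  have hOM : Cfsg.pPrimeCore 2 ↥M = ⊥ := by
    haveI := Cfsg.Agent.PBasic.pPrimeCore_characteristic 2 ↥M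
    have hle : Cfsg.pPrimeCore 2 ↥M ≤ H.subgroupOf M := fun m hm => by
      refine (QuotientGroup.eq_one_iff m).1 ?_
      show f m = 1
      rw [← orderOf_eq_one_iff]
      refine Nat.eq_one_of_dvd_coprimes (Cfsg.Agent.PBasic.pPrimeCore_coprime 2 ↥M) ?_
        (orderOf_dvd_of_pow_eq_one (hsq m))
      refine (orderOf_map_dvd f m).trans ?_
      rw [← Subgroup.orderOf_mk (H := Cfsg.pPrimeCore 2 ↥M) m hm]
      exact orderOf_dvd_natCard _
    have hmap : ((Cfsg.pPrimeCore 2 ↥M).subgroupOf (H.subgroupOf M)).map e.toMonoidHom ≤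
        Cfsg.pPrimeCore 2 ↥H := by
      refine Cfsg.Agent.PBasic.le_pPrimeCore (Subgroup.Normal.map inferInstance _ e.surjective) ?_
      rw [Subgroup.card_map_of_injective e.injective,
        Nat.card_congr (Subgroup.subgroupOfEquivOfLe hle).toEquiv]
      exact Cfsg.Agent.PBasic.pPrimeCore_coprime 2 ↥M
    rw [show Cfsg.pPrimeCore 2 ↥H = ⊥ from hO, le_bot_iff,
      Subgroup.map_eq_bot_iff_of_injective _ e.injective] at hmap
    rw [← Subgroup.map_subgroupOf_eq_of_le hle, hmap, Subgroup.map_bot]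
  let tM : M := ⟨t, htM⟩
  let C := H ⊓ Subgroup.centralizer ({t} : Set G)
  haveI := Cfsg.Agent.PBasic.pPrimeCore_characteristic 2 ↥C
  let R := ((Cfsg.oddCore ↥C).map C.subtype).subgroupOf M
  have hRC : (Cfsg.oddCore ↥C).map C.subtype ≤ C := Subgroup.map_subtype_le _
  have hRM : (Cfsg.oddCore ↥C).map C.subtype ≤ M := (hRC.trans inf_le_left).trans hHM
  have hmemC : ∀ m : M, m ∈ Subgroup.centralizer ((Subgroup.zpowers tM : Subgroup M) : Set M) →
      (m : G) * t = t * (m : G) := fun m hm =>
    (congrArg Subtype.val (Subgroup.mem_centralizer_iff.1 hm tM (Subgroup.mem_zpowers _))).symm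
  have hRP : R ≤ Subgroup.centralizer ((Subgroup.zpowers tM : Subgroup M) : Set M) := by
    intro r hr
    rw [Subgroup.mem_centralizer_iff]
    intro z hz
    obtain ⟨i, rfl⟩ := Subgroup.mem_zpowers_iff.1 hz
    exact ((show Commute tM r from Subtype.ext (Subgroup.mem_centralizer_iff.1 (hRC hr).2 t rfl)).zpow_left i).eq
  have hRn : Subgroup.centralizer ((Subgroup.zpowers tM : Subgroup M) : Set M) ≤
      Subgroup.normalizer (R : Set M) := by
    intro m hm
    obtain ⟨j, hj⟩ := hgen m
    let h' : M := m * (tM ^ j)⁻¹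
    have hh' : (h' : G) ∈ H := (QuotientGroup.eq_one_iff h').1 (by
      show f h' = 1
      rw [map_mul, map_inv, map_zpow, hj, mul_inv_cancel])
    have hh'C : (h' : G) ∈ C := by
      refine ⟨hh', Subgroup.mem_centralizer_iff.2 fun z hz => ?_⟩
      rw [show z = t from hz]
      have := (show Commute (m : G) t from hmemC m hm).mul_left
        ((Commute.refl t).zpow_left j).inv_left
      simpa [h', tM] using this.eq.symm
    have h1 := Cfsg.Agent.AxB.le_normalizer_map_subtype (H := C) (N := Cfsg.oddCore ↥C) inferInstance hh'C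
    rw [show m = h' * tM ^ j by simp [h']]
    refine mul_mem ?_ (Subgroup.zpow_mem _ ?_ j)
    · rw [Subgroup.mem_normalizer_iff]
      exact fun y => Subgroup.mem_normalizer_iff.1 h1 (y : G)
    · rw [Subgroup.mem_normalizer_iff]
      intro y
      refine ⟨fun hy => ?_, fun hy => ?_⟩
      · have := Subgroup.mem_centralizer_iff.1 (hRP hy) tM (Subgroup.mem_zpowers _)
        rwa [this, mul_inv_cancel_right]
      · have h2 := Subgroup.mem_centralizer_iff.1 (hRP hy) tM (Subgroup.mem_zpowers _)
        have h3 : y = tM * y * tM⁻¹ := by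
          have := congrArg (fun z => tM⁻¹ * z) h2
          calc y = tM⁻¹ * (tM * y * tM⁻¹ * tM) := by group
            _ = tM⁻¹ * (tM * (tM * y * tM⁻¹)) := by rw [h2]
            _ = _ := by group
        rw [h3]; exact hy
  have hRc : (Nat.card R).Coprime 2 := by
    rw [Nat.card_congr (Subgroup.subgroupOfEquivOfLe hRM).toEquiv,
      Subgroup.card_map_of_injective C.subtype_injective]
    exact Cfsg.Agent.PBasic.pPrimeCore_coprime 2 ↥C
  have htp : tM ^ 2 = 1 := Subtype.ext (ht ▸ pow_orderOf_eq_one t)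
  have hto : orderOf tM = 2 := by rw [← Subgroup.orderOf_coe]; exact ht
  have hPp : IsPGroup 2 (Subgroup.zpowers tM) :=
    IsPGroup.of_card (n := 1) (by rw [Nat.card_zpowers, hto, pow_one])
  -- some component is not centralised by `Y`
  obtain ⟨L, hL, hLY⟩ : ∃ L : Subgroup M, Cfsg.IsComponent L ∧
      ¬ Y.subgroupOf M ≤ Subgroup.centralizer (L : Set M) := by
    by_contra hne
    push Not at hne
    have hYE : Y.subgroupOf M ≤ Subgroup.centralizer (Cfsg.layer M : Set M) := by
      rw [← Subgroup.commutator_eq_bot_iff_le_centralizer, Subgroup.commutator_comm,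
        Subgroup.commutator_eq_bot_iff_le_centralizer, Cfsg.Agent.Components.layer_le_iff]
      intro L hL
      rw [← Subgroup.commutator_eq_bot_iff_le_centralizer, Subgroup.commutator_comm,
        Subgroup.commutator_eq_bot_iff_le_centralizer]
      exact hne L hL
    haveI := Cfsg.Agent.Components.layer_normal (G := M)
    haveI : (Subgroup.centralizer (Cfsg.layer M : Set M)).Normal := Subgroup.normal_centralizer
    have := Cfsg.Agent.Components.eq_bot_of_centralizes_layer hOM hPp
      (R := R ⊓ Subgroup.centralizer (Cfsg.layer M : Set M)) (inf_le_left.trans hRP)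
      ((le_inf hRn Subgroup.le_normalizer_of_normal).trans Subgroup.inf_normalizer_le_normalizer_inf)
      (Nat.Coprime.coprime_dvd_left (Subgroup.card_dvd_of_le inf_le_left) hRc) inf_le_right
    apply hY1
    rw [eq_bot_iff]
    intro y hy
    have hy' : (⟨y, hRM (hY hy)⟩ : M) ∈ R ⊓ Subgroup.centralizer (Cfsg.layer M : Set M) :=
      ⟨hY hy, hYE (show (⟨y, hRM (hY hy)⟩ : M) ∈ Y.subgroupOf M from hy)⟩
    rw [this] at hy'
    exact Subgroup.mem_bot.2 (congrArg Subtype.val (Subgroup.mem_bot.1 hy'))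
  have hYR : Y.subgroupOf M ≤ R := fun y hy => hY hy
  have hLt : ⁅L, Subgroup.zpowers tM⁆ = L := by
    by_contra hne
    apply hLY
    have := Cfsg.Agent.Components.component_commute_coprime hOM htp hRP hRn hRc hL hne
    rw [Subgroup.commutator_comm, Subgroup.commutator_eq_bot_iff_le_centralizer] at this
    exact hYR.trans this
  have hLH : L ≤ H.subgroupOf M := by
    have := Cfsg.Agent.Components.le_ker_of_perfect (p := 2)
      (Cfsg.Agent.Components.component_commutator_eq hL) f (fun y _ => ⟨1, by simpa using hsq y⟩)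
    rwa [QuotientGroup.ker_mk'] at this
  let E := (L.subgroupOf (H.subgroupOf M)).map e.toMonoidHom
  have hEm : E.map H.subtype = L.map M.subtype := by
    ext y
    constructor
    · rintro ⟨_, ⟨z, hz, rfl⟩, rfl⟩
      exact ⟨z.1, hz, rfl⟩
    · rintro ⟨z, hz, rfl⟩
      exact ⟨e ⟨z, hLH hz⟩, ⟨⟨z, hLH hz⟩, hz, rfl⟩, rfl⟩
  have hmn : ∀ m ∈ Subgroup.normalizer (L : Set M), (m : G) ∈ Subgroup.normalizer (L.map M.subtype : Set G) :=
    fun m hm => Subgroup.le_normalizer_map (H := L) M.subtype ⟨m, hm, rfl⟩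
  have htL : tM ∈ Subgroup.normalizer (L : Set M) :=
    Subgroup.le_normalizer_iff_commutator_le_left.2 hLt.le (Subgroup.mem_zpowers _)
  have hmc : ∀ m : M, (m : G) ∈ Subgroup.centralizer (L.map M.subtype : Set G) →
      m ∈ Subgroup.centralizer (L : Set M) := fun m hm => by
    rw [Subgroup.mem_centralizer_iff]
    exact fun l hl => Subtype.ext (Subgroup.mem_centralizer_iff.1 hm l ⟨l, hl, rfl⟩)
  refine ⟨E, Cfsg.Agent.Components.component_map_equiv e
    (Cfsg.Agent.Components.component_subgroupOf hL hLH), ?_, ?_, ?_, ?_⟩ <;> rw [hEm]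
  · exact Subgroup.mem_normalizer_iff_map_conj_eq.1 (hmn tM htL)
  · intro y hy
    have hfix := Cfsg.Agent.Components.coprime_fixesComponents hOM hPp hRP hRn hRc
    exact hmn ⟨y, hRM (hY hy)⟩ (Cfsg.Agent.Components.mem_fixesComponents.1
      (hfix (hY hy)) L hL)
  · intro hc
    have hzc : Subgroup.zpowers tM ≤ Subgroup.centralizer (L : Set M) := Subgroup.zpowers_le.2 (hmc tM hc)
    rw [Subgroup.commutator_comm, Subgroup.commutator_eq_bot_iff_le_centralizer.2 hzc] at hLt
    exact Cfsg.Agent.Components.component_ne_bot hL hLt.symm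
  · intro hc
    exact hLY fun m hm => hmc m (hc hm)

end Cfsg.Agent.S1328
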