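import Cfsg.Statements.S1335
import Mathlib.GroupTheory.Sylow
import Mathlib.GroupTheory.Nilpotent
-- import your own Cfsg.Agent.* helpers here

set_option autoImplicit false
set_option linter.style.haveILetI false
open Cfsg

namespace Cfsg.Agent.S1335

/-- Let H be a subgroup of the finite group G, p a prime, k ≥ 1, P a Sylow p-subgroup of H of p-rank at least k, and suppose N_G(X) ≤ H for every subgroup X ≤ P of p-rank at least k. Then P is a Sylow p-subgroup of G. -/
theorem result {G : Type*} [Group G] [Finite G] {p : ℕ} [Fact p.Prime] (k : ℕ) (hk : 1 ≤ k) (H : Subgroup G) (P : Sylow p ↥H) (hP : ¬ Cfsg.PRankLE p (k - 1) ↥(P : Subgroup ↥H)) (hΓ : (∀ X : Subgroup G, X ≤ (P : Subgroup ↥H).map H.subtype → ¬ Cfsg.PRankLE p (k - 1) ↥X → Subgroup.normalizer (X : Set G) ≤ H)) : ∃ Q : Sylow p G, (Q : Subgroup G) = (P : Subgroup ↥H).map H.subtype := by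
  set P' := (P : Subgroup ↥H).map H.subtype with hP'def
  have hp' : IsPGroup p ↥P' := P.isPGroup'.map _
  have hN : Subgroup.normalizer (P' : Set G) ≤ H := by
    refine hΓ P' le_rfl fun hle => hP fun B hB hexp => ?_
    let e := Subgroup.equivMapOfInjective (P : Subgroup ↥H) H.subtype H.subtype_injective
    haveI := hB
    have hBc : IsMulCommutative ↥(B.map e.toMonoidHom) := ⟨⟨fun x y => by
      obtain ⟨x', hx', hx⟩ := x.2
      obtain ⟨y', hy', hy⟩ := y.2
      refine Subtype.ext ?_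
      show (x : ↥P') * y = y * x
      rw [← hx, ← hy, ← map_mul, ← map_mul]
      exact congrArg _ (congrArg Subtype.val (hB.is_comm.comm ⟨x', hx'⟩ ⟨y', hy'⟩))⟩⟩
    have h := hle (B.map e.toMonoidHom) hBc (fun z hz => by
      obtain ⟨z', hz', rfl⟩ := hz
      rw [← map_pow, hexp z' hz', map_one])
    rwa [Subgroup.card_map_of_injective e.injective] at h
  obtain ⟨S, hS⟩ := hp'.exists_le_sylow
  refine ⟨S, le_antisymm ?_ hS⟩
  by_contra hne
  haveI : Group.IsNilpotent ↥(S : Subgroup G) := S.isPGroup'.isNilpotent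
  have hlt : P'.subgroupOf S < ⊤ := lt_top_iff_ne_top.2 fun e => hne (Subgroup.subgroupOf_eq_top.1 e)
  obtain ⟨x, hx, hxP⟩ :=
    SetLike.exists_of_lt (Group.normalizerCondition_of_isNilpotent (P'.subgroupOf S) hlt)
  apply hxP
  have hxN : (x : G) ∈ Subgroup.normalizer (P' : Set G) :=
    Subgroup.mem_normalizer_fintype fun d hd =>
      ((Subgroup.mem_normalizer_iff.1 hx ⟨d, hS hd⟩).1 hd :)
  have hxH : (x : G) ∈ H := hN hxN
  have hPle : (P : Subgroup ↥H) ≤ ((S : Subgroup G) ⊓ H).subgroupOf H := fun y hy =>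
    ⟨hS ⟨y, hy, rfl⟩, y.2⟩
  have heq : ((S : Subgroup G) ⊓ H).subgroupOf H = (P : Subgroup ↥H) :=
    P.is_maximal' ((S.isPGroup'.to_le inf_le_left).comap_subtype) hPle
  exact ⟨⟨x, hxH⟩, heq.le (⟨x.2, hxH⟩ : (x : G) ∈ (S : Subgroup G) ⊓ H), rfl⟩

end Cfsg.Agent.S1335
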