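import Cfsg.Statements.S1336
import Cfsg.Agent.Lib.Signalizer.Basic
import Mathlib.GroupTheory.Sylow
-- import your own Cfsg.Agent.* helpers here

set_option autoImplicit false
set_option linter.style.haveILetI false
open Cfsg

namespace Cfsg.Agent.S1336

/-- Let G be finite and p prime. Then G has a proper subgroup H with p ∣ |H| and p ∤ |H ∩ gHg⁻¹| for every g ∉ H (a strongly p-embedded subgroup) if and only if G is not 1-connected for p. -/
theorem result {G : Type*} [Group G] [Finite G] (p : ℕ) [Fact p.Prime] : (∃ H : Subgroup G, H ≠ ⊤ ∧ p ∣ Nat.card ↥H ∧ ∀ g : G, g ∉ H → ¬ p ∣ Nat.card ↥(H ⊓ H.map (MulAut.conj g).toMonoidHom)) ↔ ¬ Cfsg.IsKConnected p 1 G := by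
  classical
  have hp := (Fact.out : p.Prime)
  have hcyc : ∀ x : G, orderOf x = p → Cfsg.IsElementaryAbelian p (Subgroup.zpowers x) ∧
      p ^ 1 ≤ Nat.card ↥(Subgroup.zpowers x) := fun x hx => by
    refine ⟨⟨inferInstance, fun a ha => ?_⟩, by rw [Nat.card_zpowers, hx, pow_one]⟩
    obtain ⟨i, rfl⟩ := Subgroup.mem_zpowers_iff.1 ha
    rw [← zpow_natCast, ← zpow_mul, mul_comm, zpow_mul, zpow_natCast, ← hx, pow_orderOf_eq_one,
      one_zpow]
  have hdvd : ∀ E : Subgroup G, Cfsg.IsElementaryAbelian p E → p ^ 1 ≤ Nat.card ↥E →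
      ∃ x ∈ E, orderOf x = p := by
    intro E hE hc
    obtain ⟨k, hk⟩ := (Signalizer.ea_isPGroup hE).exists_card_eq
    have hk0 : k ≠ 0 := by
      rintro rfl
      rw [hk, pow_one, pow_zero] at hc
      exact absurd hc (not_le.2 hp.one_lt)
    obtain ⟨x, hx⟩ := exists_prime_orderOf_dvd_card' p (hk ▸ dvd_pow_self p hk0 : p ∣ Nat.card ↥E)
    exact ⟨x, x.2, by rw [Subgroup.orderOf_coe, hx]⟩
  set R : Subgroup G → Subgroup G → Prop := fun A B => Cfsg.IsElementaryAbelian p A ∧
    p ^ 1 ≤ Nat.card ↥A ∧ Cfsg.IsElementaryAbelian p B ∧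
    p ^ 1 ≤ Nat.card ↥B ∧ ∀ a ∈ A, ∀ b ∈ B, a * b = b * a with hR
  have hsymm : ∀ {A B}, Relation.ReflTransGen R A B → Relation.ReflTransGen R B A := by
    intro A B h
    induction h with
    | refl => exact Relation.ReflTransGen.refl
    | tail _ h2 ih =>
      exact Relation.ReflTransGen.head
        ⟨h2.2.2.1, h2.2.2.2.1, h2.1, h2.2.1, fun a ha b hb => (h2.2.2.2.2 b hb a ha).symm⟩ ih
  have hconjR : ∀ (g : G) {A B}, Relation.ReflTransGen R A B →
      Relation.ReflTransGen R (A.map (MulAut.conj g).toMonoidHom) (B.map (MulAut.conj g).toMonoidHom) := by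
    have hea : ∀ (g : G) (A : Subgroup G), Cfsg.IsElementaryAbelian p A → p ^ 1 ≤ Nat.card ↥A →
        Cfsg.IsElementaryAbelian p (A.map (MulAut.conj g).toMonoidHom) ∧
          p ^ 1 ≤ Nat.card ↥(A.map (MulAut.conj g).toMonoidHom) := by
      intro g A hA hc
      refine ⟨⟨⟨⟨fun x y => ?_⟩⟩, ?_⟩, by
        rwa [Subgroup.card_map_of_injective (MulAut.conj g).injective]⟩
      · obtain ⟨x', hx', hx⟩ := x.2
        obtain ⟨y', hy', hy⟩ := y.2
        refine Subtype.ext ?_
        show (x : G) * y = y * x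
        rw [← hx, ← hy, ← map_mul, ← map_mul, Signalizer.ea_comm hA hx' hy']
      · rintro _ ⟨a, ha, rfl⟩
        rw [← map_pow, hA.2 a ha, map_one]
    intro g A B h
    induction h with
    | refl => exact Relation.ReflTransGen.refl
    | tail _ h2 ih =>
      refine ih.tail ⟨(hea g _ h2.1 h2.2.1).1, (hea g _ h2.1 h2.2.1).2, (hea g _ h2.2.2.1 h2.2.2.2.1).1,
        (hea g _ h2.2.2.1 h2.2.2.2.1).2, ?_⟩
      rintro _ ⟨a, ha, rfl⟩ _ ⟨b, hb, rfl⟩
      rw [← map_mul, ← map_mul, h2.2.2.2.2 a ha b hb]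
  constructor
  · rintro ⟨H, hH, hpH, hint⟩ hconn
    obtain ⟨x, hx⟩ := exists_prime_orderOf_dvd_card' p hpH
    have hxG : orderOf (x : G) = p := by rw [Subgroup.orderOf_coe, hx]
    have hin : ∀ g : G, ∀ y : G, y ∈ H → orderOf y = p → g * y * g⁻¹ = y → g ∈ H := by
      intro g y hy hoy hfix
      by_contra hg
      apply hint g hg
      rw [← hoy]
      exact Subgroup.orderOf_dvd_natCard _ ⟨hy, ⟨y, hy, hfix⟩⟩
    have hprop : ∀ {A B}, Relation.ReflTransGen R A B → A ≤ H → B ≤ H := by
      intro A B h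
      induction h with
      | refl => exact id
      | @tail B C _ h2 ih =>
        intro hA c hc
        obtain ⟨y, hy, hoy⟩ := hdvd B h2.1 h2.2.1
        exact hin c y (ih hA hy) hoy (by rw [← h2.2.2.2.2 y hy c hc, mul_inv_cancel_right])
    apply hH
    rw [eq_top_iff]
    intro g _
    have hgx : orderOf (g * (x : G) * g⁻¹) = p := by
      rw [show g * (x : G) * g⁻¹ = (MulAut.conj g).toMonoidHom (x : G) from rfl,
        orderOf_injective _ (MulAut.conj g).injective, hxG]
    have h := hprop (hconn _ _ (hcyc _ hxG).1 (hcyc _ hxG).2 (hcyc _ hgx).1 (hcyc _ hgx).2)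
      (Subgroup.zpowers_le.2 x.2) (Subgroup.mem_zpowers _)
    by_contra hg
    have hg' : g⁻¹ ∉ H := fun e => hg (inv_inv g ▸ H.inv_mem e)
    apply hint g⁻¹ hg'
    rw [← hxG]
    exact Subgroup.orderOf_dvd_natCard _ ⟨x.2, ⟨g * x * g⁻¹, h, by simp [mul_assoc]⟩⟩
  · intro hnc
    simp only [Cfsg.IsKConnected, not_forall] at hnc
    obtain ⟨E, E', hE, hEc, hE', hE'c, hne⟩ := hnc
    have htoZ : ∀ (P : Sylow p G) (z : G), z ∈ (P : Subgroup G) → orderOf z = p →
        (∀ y ∈ (P : Subgroup G), y * z = z * y) → ∀ X : Subgroup G, Cfsg.IsElementaryAbelian p X →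
        p ^ 1 ≤ Nat.card ↥X → X ≤ (P : Subgroup G) → Relation.ReflTransGen R X (Subgroup.zpowers z) := by
      intro P z hz hoz hzc X hX hXc hXP
      refine Relation.ReflTransGen.single ⟨hX, hXc, (hcyc z hoz).1, (hcyc z hoz).2, fun a ha b hb => ?_⟩
      obtain ⟨i, rfl⟩ := Subgroup.mem_zpowers_iff.1 hb
      exact (Commute.zpow_right (hzc a (hXP ha)) i).eq
    obtain ⟨P, hEP⟩ := (Signalizer.ea_isPGroup hE).exists_le_sylow
    haveI : Nontrivial ↥(P : Subgroup G) := by
      obtain ⟨x, hx, hox⟩ := hdvd E hE hEc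
      exact ⟨⟨⟨x, hEP hx⟩, 1, fun e => hp.ne_one (by
        rw [← hox, show x = 1 from congrArg Subtype.val e, orderOf_one])⟩⟩
    haveI := P.isPGroup'.center_nontrivial
    obtain ⟨z₀, hz₀⟩ := exists_prime_orderOf_dvd_card' p (G := ↥(Subgroup.center ↥(P : Subgroup G)))
      (((P.isPGroup'.to_subgroup _).exists_card_eq).elim fun k hk => by
        rw [hk]
        refine dvd_pow_self p ?_
        rintro rfl
        exact (Finite.one_lt_card (α := ↥(Subgroup.center ↥(P : Subgroup G)))).ne' (by rw [hk, pow_zero]))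
    set z : G := ((z₀ : ↥(P : Subgroup G)) : G) with hzdef
    have hzP : z ∈ (P : Subgroup G) := (z₀ : ↥(P : Subgroup G)).2
    have hoz : orderOf z = p := by rw [hzdef, Subgroup.orderOf_coe, Subgroup.orderOf_coe, hz₀]
    have hzc : ∀ y ∈ (P : Subgroup G), y * z = z * y := fun y hy =>
      congrArg Subtype.val (Subgroup.mem_center_iff.1 z₀.2 ⟨y, hy⟩)
    have hEz := htoZ P z hzP hoz hzc E hE hEc hEP
    let H : Subgroup G :=
      { carrier := {g | Relation.ReflTransGen R E (E.map (MulAut.conj g).toMonoidHom)}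
        one_mem' := by
          show Relation.ReflTransGen R E (E.map (MulAut.conj (1 : G)).toMonoidHom)
          rw [show E.map (MulAut.conj (1 : G)).toMonoidHom = E by ext y; simp]
        mul_mem' := fun {a b} ha hb => by
          show Relation.ReflTransGen R E (E.map (MulAut.conj (a * b)).toMonoidHom)
          rw [show (MulAut.conj (a * b)).toMonoidHom =
            (MulAut.conj a).toMonoidHom.comp (MulAut.conj b).toMonoidHom from by ext y; simp,
            ← Subgroup.map_map]
          exact ha.trans (hconjR a hb)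
        inv_mem' := fun {a} ha => by
          have h := hconjR a⁻¹ ha
          rw [Subgroup.map_map, show (MulAut.conj a⁻¹).toMonoidHom.comp (MulAut.conj a).toMonoidHom =
            MonoidHom.id G from by ext y; simp [mul_assoc], Subgroup.map_id] at h
          exact hsymm h }
    have hmemH : ∀ g, g ∈ H ↔ Relation.ReflTransGen R E (E.map (MulAut.conj g).toMonoidHom) :=
      fun g => Iff.rfl
    have hPH : (P : Subgroup G) ≤ H := by
      intro y hy
      rw [hmemH]
      have h := hconjR y hEz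
      rw [show (Subgroup.zpowers z).map (MulAut.conj y).toMonoidHom = Subgroup.zpowers z by
        rw [MonoidHom.map_zpowers]
        congr 1
        show y * z * y⁻¹ = z
        rw [hzc y hy, mul_inv_cancel_right]] at h
      exact hEz.trans (hsymm h)
    refine ⟨H, fun htop => hne ?_, ?_, fun g hg hd => ?_⟩
    · obtain ⟨P', hE'P⟩ := (Signalizer.ea_isPGroup hE').exists_le_sylow
      obtain ⟨g, hg⟩ := MulAction.exists_smul_eq G P P'
      have h1 := hconjR g hEz
      rw [MonoidHom.map_zpowers] at h1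
      have hz' : g * z * g⁻¹ ∈ (P' : Subgroup G) := by
        rw [← hg]; exact ⟨z, hzP, rfl⟩
      have h2 := htoZ P' (g * z * g⁻¹) hz' (by
          rw [show g * z * g⁻¹ = (MulAut.conj g).toMonoidHom z from rfl,
            orderOf_injective _ (MulAut.conj g).injective, hoz])
        (fun y hy => by
          rw [← hg] at hy
          obtain ⟨w, hw, rfl⟩ := hy
          show g * w * g⁻¹ * (g * z * g⁻¹) = g * z * g⁻¹ * (g * w * g⁻¹)
          calc g * w * g⁻¹ * (g * z * g⁻¹) = g * (w * z) * g⁻¹ := by group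
            _ = g * (z * w) * g⁻¹ := by rw [hzc w hw]
            _ = g * z * g⁻¹ * (g * w * g⁻¹) := by group)
        E' hE' hE'c hE'P
      exact ((hmemH g).1 (htop ▸ Subgroup.mem_top g)).trans (h1.trans (hsymm h2))
    · obtain ⟨x, hx, hox⟩ := hdvd E hE hEc
      rw [← hox]
      exact Subgroup.orderOf_dvd_natCard _ (hPH (hEP hx))
    · obtain ⟨x, hx⟩ := exists_prime_orderOf_dvd_card' p hd
      have hox : orderOf (x : G) = p := by rw [Subgroup.orderOf_coe, hx]
      obtain ⟨hxH, y, hyH, hyx⟩ := x.2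
      have hoy : orderOf y = p := by
        rw [← hox, ← hyx, orderOf_injective _ (MulAut.conj g).injective]
      -- every element of order p of H is connected to E
      have hall : ∀ u ∈ H, orderOf u = p → Relation.ReflTransGen R E (Subgroup.zpowers u) := by
        intro u hu hou
        have hup : IsPGroup p ↥(Subgroup.zpowers (⟨u, hu⟩ : ↥H)) :=
          IsPGroup.of_card (n := 1) (by rw [Nat.card_zpowers, ← Subgroup.orderOf_coe, hou, pow_one])
        obtain ⟨Q, hQ⟩ := hup.exists_le_sylow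
        let P0 : Sylow p ↥H := P.subtype hPH
        obtain ⟨k, hk⟩ := MulAction.exists_smul_eq ↥H P0 Q
        have huQ := hQ (Subgroup.mem_zpowers (⟨u, hu⟩ : ↥H))
        rw [← hk] at huQ
        obtain ⟨w, hw, hwu⟩ := huQ
        have hwu' : (k : G) * (w : G) * (k : G)⁻¹ = u := congrArg Subtype.val hwu
        have how : orderOf (w : G) = p := by
          rw [← hou, ← hwu', show (k : G) * w * (k : G)⁻¹ = (MulAut.conj (k : G)).toMonoidHom (w : G)
            from rfl, orderOf_injective _ (MulAut.conj (k : G)).injective]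
        have h1 := hconjR k (htoZ P z hzP hoz hzc _ (hcyc _ how).1 (hcyc _ how).2
          (Subgroup.zpowers_le.2 hw))
        rw [MonoidHom.map_zpowers, show (MulAut.conj (k : G)).toMonoidHom (w : G) = u from hwu'] at h1
        exact ((hmemH k).1 k.2).trans ((hconjR k hEz).trans (hsymm h1))
      apply hg
      rw [hmemH]
      have h1 := hconjR g (hall y hyH hoy)
      rw [MonoidHom.map_zpowers, hyx] at h1
      exact (hall _ hxH hox).trans (hsymm h1)

end Cfsg.Agent.S1336
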