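import Cfsg.Statements.S1337
import Cfsg.Agent.Lib.TwoGroups.NormalFour
import Cfsg.Agent.S0126
import Cfsg.Agent.Lib.Signalizer.Basic
import Cfsg.Agent.Lib.Solvable.Structure
-- import your own Cfsg.Agent.* helpers here

set_option autoImplicit false
set_option linter.style.haveILetI false
open Cfsg

namespace Cfsg.Agent.S1337

/-- Let P be a finite p-group of p-rank greater than 2. Then P has a normal elementary abelian subgroup U of order p², and for every elementary abelian X ≤ P with |X| ≥ p²: X is joined to U by a chain of pairwise commuting elementary abelian subgroups of order ≥ p² if and only if C_P(X) has p-rank greater than 2. -/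
theorem result {P : Type*} [Group P] [Finite P] (p : ℕ) [Fact p.Prime] (hP : IsPGroup p P) (hrk : ¬ Cfsg.PRankLE p 2 P) : ∃ U : Subgroup P, U.Normal ∧ Cfsg.IsElementaryAbelian p U ∧ Nat.card ↥U = p ^ 2 ∧ ∀ X : Subgroup P, Cfsg.IsElementaryAbelian p X → p ^ 2 ≤ Nat.card ↥X → (Relation.ReflTransGen (fun A B : Subgroup P => Cfsg.IsElementaryAbelian p A ∧ p ^ 2 ≤ Nat.card ↥A ∧ Cfsg.IsElementaryAbelian p B ∧ p ^ 2 ≤ Nat.card ↥B ∧ ∀ a ∈ A, ∀ b ∈ B, a * b = b * a) X U ↔ ¬ Cfsg.PRankLE p 2 ↥(Subgroup.centralizer (X : Set P))) := by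
  classical
  have hp := (Fact.out : p.Prime)
  haveI := hP.isNilpotent
  -- an elementary abelian subgroup of order `p ^ 3` from rank above two
  have hcube : ∀ T : Subgroup P, ¬ PRankLE p 2 T →
      ∃ E : Subgroup P, E ≤ T ∧ IsElementaryAbelian p E ∧ Nat.card E = p ^ 3 := by
    intro T hT
    simp only [PRankLE, not_forall, not_le] at hT
    obtain ⟨A, hAc, hAp, hA⟩ := hT
    have hA' : IsElementaryAbelian p A := ⟨hAc, hAp⟩
    obtain ⟨n, hn⟩ := (Signalizer.ea_isPGroup hA').exists_card_eq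
    rw [hn] at hA
    have hn3 : 2 < n := (Nat.pow_lt_pow_iff_right hp.one_lt).1 hA
    obtain ⟨B, hB⟩ := Sylow.exists_subgroup_card_pow_prime (G := A) p (n := 3)
      (hn ▸ pow_dvd_pow p (by omega))
    refine ⟨(B.map A.subtype).map T.subtype, Subgroup.map_subtype_le _, ?_, ?_⟩
    · have hB' := Signalizer.ea_mono hA' (Subgroup.map_subtype_le B : B.map A.subtype ≤ A)
      refine ⟨⟨⟨?_⟩⟩, ?_⟩
      · rintro ⟨_, x, hx, rfl⟩ ⟨_, y, hy, rfl⟩
        exact Subtype.ext (by
          simpa using congrArg Subtype.val (Signalizer.ea_comm hB' hx hy))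
      · rintro _ ⟨x, hx, rfl⟩
        simpa using congrArg Subtype.val (hB'.2 x hx)
    · rw [Subgroup.card_map_of_injective T.subtype_injective,
        Subgroup.card_map_of_injective A.subtype_injective, hB]
  have hrank : ∀ T E : Subgroup P, E ≤ T → IsElementaryAbelian p E → p ^ 3 ≤ Nat.card E → ¬ PRankLE p 2 T := by
    intro T E hET hE hcard h
    have h1 := h (E.subgroupOf T) ⟨⟨fun x y => Subtype.ext (Subtype.ext (Signalizer.ea_comm hE x.2 y.2))⟩⟩
      (fun a ha => Subtype.ext (hE.2 a ha))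
    rw [Nat.card_congr (Subgroup.subgroupOfEquivOfLe hET).toEquiv] at h1
    have h2 : p ^ 2 < p ^ 3 := Nat.pow_lt_pow_right hp.one_lt (by norm_num)
    omega
  have hsup : ∀ {A B : Subgroup P}, IsElementaryAbelian p A → IsElementaryAbelian p B →
      (∀ a ∈ A, ∀ b ∈ B, a * b = b * a) → IsElementaryAbelian p ↑(A ⊔ B) := by
    intro A B hA hB h
    have hn : B ≤ Subgroup.normalizer (A : Set P) :=
      le_trans (fun b hb => Subgroup.mem_centralizer_iff.2 fun a ha => h a ha b hb : B ≤ Subgroup.centralizer (A : Set P))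
        (Subgroup.centralizer_le_normalizer _)
    refine ⟨⟨⟨fun x y => Subtype.ext ?_⟩⟩, fun x hx => ?_⟩
    · obtain ⟨a, ha, b, hb, hab⟩ := (SolvBasic.mem_sup_iff_of_le_normalizer hn).1 x.2
      obtain ⟨a', ha', b', hb', hab'⟩ := (SolvBasic.mem_sup_iff_of_le_normalizer hn).1 y.2
      show (x : P) * y = y * x
      rw [hab, hab']
      exact ((show Commute a a' from Signalizer.ea_comm hA ha ha').mul_right (h a ha b' hb')).mul_left
        ((show Commute b a' from (h a' ha' b hb).symm).mul_right (Signalizer.ea_comm hB hb hb'))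
    · obtain ⟨a, ha, b, hb, rfl⟩ := (SolvBasic.mem_sup_iff_of_le_normalizer hn).1 hx
      rw [(show Commute a b from h a ha b hb).mul_pow, hA.2 a ha, hB.2 b hb, one_mul]
  obtain ⟨E, -, hE, hEc⟩ := hcube ⊤ (by
    intro h
    refine hrk fun A hAc hAp => ?_
    have := h (A.subgroupOf ⊤)
      ⟨⟨fun x y => Subtype.ext (Subtype.ext (Signalizer.ea_comm (⟨hAc, hAp⟩ : IsElementaryAbelian p A) x.2 y.2))⟩⟩
      (fun a ha => Subtype.ext (hAp a ha))
    rwa [Nat.card_congr (Subgroup.subgroupOfEquivOfLe le_top).toEquiv] at this)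
  obtain ⟨U, hUn, hU, hUc⟩ : ∃ U : Subgroup P, U.Normal ∧ IsElementaryAbelian p U ∧ Nat.card U = p ^ 2 := by
    rcases eq_or_ne p 2 with rfl | hp2
    · obtain ⟨V, hVn, hVc, hV2⟩ := NormalFour.exists_normal_four hP (E := E) (by rw [hEc]; norm_num)
        (fun e he => by rw [← pow_two]; exact hE.2 e he)
      refine ⟨V, hVn, ⟨⟨⟨fun x y => ?_⟩⟩, fun v hv => by rw [pow_two]; exact hV2 v hv⟩, by rw [hVc]; norm_num⟩
      have hinv : ∀ z : V, z⁻¹ = z := fun z => inv_eq_of_mul_eq_one_left (Subtype.ext (hV2 z z.2))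
      calc x * y = (x * y)⁻¹ := (hinv _).symm
        _ = y * x := by rw [mul_inv_rev, hinv, hinv]
    · exact S0126.result hp2 hP fun hc => Signalizer.ea_not_isCyclic hE
        (by rw [hEc]; exact Nat.pow_le_pow_right hp.pos (by norm_num)) (Subgroup.isCyclic E)
  -- centralisers of `U` in elementary abelian subgroups have index at most `p`
  have hCU : ∀ F : Subgroup P, p ^ 3 ≤ Nat.card F → p ^ 2 ≤ Nat.card ↥(F ⊓ Subgroup.centralizer (U : Set P)) := by
    intro F hF
    haveI := hUn
    have hU1 : U ≠ ⊥ := fun h => by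
      rw [h, Subgroup.card_bot] at hUc
      exact (Nat.one_lt_pow two_ne_zero hp.one_lt).ne hUc
    obtain ⟨z, hz, hz1⟩ := ((U ⊓ Subgroup.center P).bot_or_exists_ne_one).resolve_left (SolvStruct.inf_center_ne_bot hU1)
    set Z := Subgroup.zpowers z with hZdef
    have hZc : Z ≤ Subgroup.center P := Subgroup.zpowers_le.2 hz.2
    haveI : Z.Normal := ⟨fun x hx g => by
      rw [Subgroup.mem_center_iff.1 (hZc hx) g, mul_inv_cancel_right]; exact hx⟩
    have hZU : Z ≤ U := Subgroup.zpowers_le.2 hz.1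
    have hZp : Nat.card Z = p := by rw [Nat.card_zpowers, Signalizer.ea_orderOf hU hz.1 hz1]
    obtain ⟨u, hu, huZ⟩ := SetLike.exists_of_lt (lt_of_le_of_ne hZU fun h => by
      have := hUc; rw [← h, hZp] at this
      exact (Nat.pow_lt_pow_right hp.one_lt (by norm_num : 1 < 2)).ne (by rw [pow_one]; exact this))
    have hmem : ∀ e : P, e * u * e⁻¹ * u⁻¹ ∈ Z := by
      intro e
      let π := QuotientGroup.mk' Z
      haveI : (U.map π).Normal := hUn.map π (QuotientGroup.mk'_surjective Z)
      have hne : U.map π ≠ ⊥ := fun h => huZ ((QuotientGroup.eq_one_iff (N := Z) u).1 (Subgroup.mem_bot.1 (h ▸ ⟨u, hu, rfl⟩)))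
      haveI : Group.IsNilpotent (P ⧸ Z) := inferInstance
      obtain ⟨w, hw, hw1⟩ := ((U.map π ⊓ Subgroup.center (P ⧸ Z)).bot_or_exists_ne_one).resolve_left
        (SolvStruct.inf_center_ne_bot hne)
      have hcard : Nat.card (U.map π) = p := by
        have h1 := (Z.subgroupOf U).card_mul_index
        rw [Nat.card_congr (Subgroup.subgroupOfEquivOfLe hZU).toEquiv, hZp, hUc] at h1
        have h2 : Nat.card (U.map π) = Z.relIndex U := by
          rw [← Subgroup.relIndex_ker π (K := U), QuotientGroup.ker_mk']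
        rw [h2]
        exact Nat.eq_of_mul_eq_mul_left hp.pos (show p * Z.relIndex U = p * p by rw [← pow_two]; exact h1)
      haveI : Fact (Nat.card (U.map π)).Prime := ⟨hcard.symm ▸ hp⟩
      have htop : Subgroup.zpowers (⟨w, hw.1⟩ : U.map π) = ⊤ := zpowers_eq_top_of_prime_card rfl
        (fun h => hw1 (congrArg Subtype.val h))
      have huc : π u ∈ Subgroup.center (P ⧸ Z) := by
        obtain ⟨i, hi⟩ := Subgroup.mem_zpowers_iff.1 (htop ▸ Subgroup.mem_top (⟨π u, u, hu, rfl⟩ : U.map π))
        have := congrArg Subtype.val hi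
        rw [Subgroup.coe_zpow] at this
        change w ^ i = π u at this
        rw [← this]
        exact Subgroup.zpow_mem _ hw.2 i
      refine (QuotientGroup.eq_one_iff (N := Z) _).1 ?_
      show π (e * u * e⁻¹ * u⁻¹) = 1
      rw [map_mul, map_mul, map_mul, Subgroup.mem_center_iff.1 huc (π e), map_inv, map_inv]
      group
    let f : F →* Z :=
      { toFun := fun e => ⟨(e : P) * u * (e : P)⁻¹ * u⁻¹, hmem e⟩
        map_one' := Subtype.ext (by simp)
        map_mul' := fun a b => Subtype.ext (by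
          show (a : P) * b * u * ((a : P) * b)⁻¹ * u⁻¹ = (a : P) * u * (a : P)⁻¹ * u⁻¹ * ((b : P) * u * (b : P)⁻¹ * u⁻¹)
          have hc : (a : P) * ((b : P) * u * (b : P)⁻¹ * u⁻¹) = ((b : P) * u * (b : P)⁻¹ * u⁻¹) * a :=
            Subgroup.mem_center_iff.1 (hZc (hmem b)) _
          have hc' := Subgroup.mem_center_iff.1 (hZc (hmem b)) ((a : P) * u * (a : P)⁻¹ * u⁻¹)
          rw [hc']
          calc (a : P) * b * u * ((a : P) * b)⁻¹ * u⁻¹
              = (a : P) * ((b : P) * u * (b : P)⁻¹ * u⁻¹) * (u * (a : P)⁻¹ * u⁻¹) := by group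
            _ = _ := by rw [hc]; group) }
    have hker : f.ker.map F.subtype ≤ F ⊓ Subgroup.centralizer (U : Set P) := by
      rintro _ ⟨e, he, rfl⟩
      refine ⟨e.2, ?_⟩
      have h1 : Commute (e : P) u := by
        have h0 : (e : P) * u * (e : P)⁻¹ * u⁻¹ = 1 := congrArg Subtype.val he
        show (e : P) * u = u * e
        exact (mul_inv_eq_iff_eq_mul.1 (mul_inv_eq_one.1 h0))
      have hle : U ≤ Subgroup.centralizer ({(e : P)} : Set P) := by
        have hlt : Z < Subgroup.centralizer ({(e : P)} : Set P) ⊓ U := by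
          refine lt_of_le_of_ne (le_inf (fun x hx => Subgroup.mem_centralizer_singleton_iff.2
            (Subgroup.mem_center_iff.1 (hZc hx) _).symm) hZU) fun h => huZ ?_
          rw [h]
          exact ⟨Subgroup.mem_centralizer_singleton_iff.2 h1.symm, hu⟩
        obtain ⟨k, hk⟩ := (hP.to_subgroup (Subgroup.centralizer ({(e : P)} : Set P) ⊓ U)).exists_card_eq
        have h2 : p < p ^ k := by
          rw [← hk, ← hZp]
          exact lt_of_le_of_ne (Subgroup.card_le_of_le hlt.le)
            fun h => hlt.ne (Subgroup.eq_of_le_of_card_ge hlt.le h.ge)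
        have hk2 : 1 < k := (Nat.pow_lt_pow_iff_right hp.one_lt).1 (by rwa [pow_one])
        exact inf_eq_right.1 (Subgroup.eq_of_le_of_card_ge inf_le_right (by
          rw [hUc, hk]; exact Nat.pow_le_pow_right hp.pos hk2))
      exact Subgroup.mem_centralizer_iff.2 fun x hx => Subgroup.mem_centralizer_singleton_iff.1 (hle hx)
    have h3 := f.ker.card_mul_index
    rw [Subgroup.index_ker] at h3
    have h4 : Nat.card f.range ≤ p := hZp ▸ Nat.card_le_card_of_injective _ f.range.subtype_injective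
    have h5 : Nat.card f.ker ≤ Nat.card ↥(F ⊓ Subgroup.centralizer (U : Set P)) := by
      rw [← Subgroup.card_map_of_injective F.subtype_injective]
      exact Subgroup.card_le_of_le hker
    have h6 : p ^ 2 * p ≤ Nat.card ↥(F ⊓ Subgroup.centralizer (U : Set P)) * p :=
      calc p ^ 2 * p = p ^ 3 := by ring
        _ ≤ Nat.card f.ker * Nat.card f.range := h3 ▸ hF
        _ ≤ _ := Nat.mul_le_mul h5 h4
    exact Nat.le_of_mul_le_mul_right h6 hp.pos
  refine ⟨U, hUn, hU, hUc, fun X hX hXc => ⟨?_, ?_⟩⟩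
  · intro hchain hle
    -- `X` has no neighbour but itself
    have hiso : ∀ Y : Subgroup P, IsElementaryAbelian p Y → p ^ 2 ≤ Nat.card Y →
        (∀ a ∈ X, ∀ b ∈ Y, a * b = b * a) → Y = X := by
      intro Y hY hYc hXY
      have hS := hsup hX hY hXY
      have hSC : X ⊔ Y ≤ Subgroup.centralizer (X : Set P) := sup_le
        (fun a ha => Subgroup.mem_centralizer_iff.2 fun x hx => Signalizer.ea_comm hX hx ha)
        (fun b hb => Subgroup.mem_centralizer_iff.2 fun x hx => hXY x hx b hb)
      obtain ⟨k, hk⟩ := (hP.to_subgroup (X ⊔ Y)).exists_card_eq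
      have hk2 : Nat.card ↥(X ⊔ Y) ≤ p ^ 2 := by
        rw [hk]
        refine Nat.pow_le_pow_right hp.pos ?_
        by_contra hk3
        exact hrank _ _ hSC hS (hk ▸ Nat.pow_le_pow_right hp.pos (by omega : 3 ≤ k)) hle
      have e1 : X = X ⊔ Y := Subgroup.eq_of_le_of_card_ge le_sup_left (hk2.trans hXc)
      have e2 : Y = X ⊔ Y := Subgroup.eq_of_le_of_card_ge le_sup_right (hk2.trans hYc)
      exact e2.trans e1.symm
    have hXU : U = X := by
      clear hU hUc hUn hCU
      induction hchain with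
      | refl => rfl
      | tail _ hstep ih =>
        subst ih
        exact hiso _ hstep.2.2.1 hstep.2.2.2.1 hstep.2.2.2.2
    subst hXU
    -- but `U` is centralised by an elementary abelian group of order `p ^ 3`
    set V := E ⊓ Subgroup.centralizer (U : Set P) with hVdef
    have hVU : V = U := hiso V (Signalizer.ea_mono hE inf_le_left) (hCU E hEc.ge)
      (fun a ha b hb => Subgroup.mem_centralizer_iff.1 hb.2 a ha)
    have hUE : U ≤ E := hVU ▸ inf_le_left
    exact hrank _ _ (fun e he => Subgroup.mem_centralizer_iff.2 fun x hx => Signalizer.ea_comm hE (hUE hx) he)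
      hE hEc.ge hle
  · intro hrk3
    obtain ⟨F, hFX, hF, hFc⟩ := hcube _ hrk3
    have hF2 : p ^ 2 ≤ Nat.card F := hFc ▸ Nat.pow_le_pow_right hp.pos (by norm_num)
    have hV2 := hCU F hFc.ge
    refine Relation.ReflTransGen.head ⟨hX, hXc, hF, hF2, fun a ha b hb => Subgroup.mem_centralizer_iff.1 (hFX hb) a ha⟩
      (Relation.ReflTransGen.head ⟨hF, hF2, Signalizer.ea_mono hF inf_le_left, hV2, ?_⟩
        (Relation.ReflTransGen.single ⟨Signalizer.ea_mono hF inf_le_left, hV2, hU, hUc.ge, ?_⟩))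
    · exact fun a ha b hb => Signalizer.ea_comm hF ha hb.1
    · exact fun a ha b hb => (Subgroup.mem_centralizer_iff.1 ha.2 b hb).symm

end Cfsg.Agent.S1337
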