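import Cfsg.Statements.S1338
import Cfsg.Agent.S1337
import Cfsg.Agent.S0122
import Mathlib.Tactic.Abel
-- import your own Cfsg.Agent.* helpers here

set_option autoImplicit false
open Cfsg

namespace Cfsg.Agent.S1338

/-- A finite 3-group of 3-rank at least 4 is 2-connected for the prime 3: its commuting graph on elementary abelian subgroups of order ≥ 9 is connected. -/
theorem result {P : Type*} [Group P] [Finite P] (hP : IsPGroup 3 P) (hrk : ¬ Cfsg.PRankLE 3 3 P) : Cfsg.IsKConnected 3 2 P := by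
  classical
  haveI : Fact (Nat.Prime 3) := ⟨Nat.prime_three⟩
  have hrk2 : ¬ Cfsg.PRankLE 3 2 P := fun h => hrk fun A h1 h2 =>
    (h A h1 h2).trans (by norm_num)
  obtain ⟨U, -, -, -, hconn⟩ := S1337.result 3 hP hrk2
  -- a normal elementary abelian subgroup of order `81`
  obtain ⟨A, hAn, hA, hA4⟩ : ∃ A : Subgroup P, A.Normal ∧ Cfsg.IsElementaryAbelian 3 A ∧
      Nat.card A = 3 ^ 4 := by
    simp only [Cfsg.PRankLE, not_forall, not_le] at hrk
    obtain ⟨B, hB1, hB2, hB3⟩ := hrk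
    obtain ⟨j, hj⟩ := (IsPGroup.iff_card (p := 3)).1 (hP.to_subgroup B)
    have hj4 : 4 ≤ j := by
      rw [hj] at hB3
      have := (Nat.pow_lt_pow_iff_right (by norm_num : 1 < 3)).1 hB3
      omega
    obtain ⟨C, hC⟩ := Sylow.exists_subgroup_card_pow_prime (G := B) 3 (hj ▸ pow_dvd_pow 3 hj4)
    refine S0122.result (by norm_num) hP (C.map B.subtype) ⟨?_, ?_⟩ ?_
    · refine ⟨⟨?_⟩⟩
      rintro ⟨_, a, ha, rfl⟩ ⟨_, b, hb, rfl⟩
      exact Subtype.ext (show (a : P) * b = b * a from congrArg Subtype.val (hB1.is_comm.comm a b))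
    · rintro _ ⟨a, -, rfl⟩
      exact hB2 a a.2
    · rw [Nat.card_congr (C.equivMapOfInjective _ B.subtype_injective).toEquiv.symm, hC]
  haveI := hAn
  have hAc : ∀ a ∈ A, ∀ b ∈ A, a * b = b * a := fun a ha b hb =>
    congrArg Subtype.val (hA.1.is_comm.comm ⟨a, ha⟩ ⟨b, hb⟩)
  -- the commutation map
  have hf : ∀ w : P, ∃ f : A →* A, (∀ a : A, (f a : P) = w * a * w⁻¹ * (a : P)⁻¹) ∧
      (w ^ 3 = 1 → ∀ a, f (f (f a)) = 1) := by
    intro w
    let φ : A →* A := MonoidHom.mk' (fun a => ⟨w * a * w⁻¹, hAn.conj_mem a a.2 w⟩)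
      (fun a b => Subtype.ext (by simp [mul_assoc]))
    letI : CommGroup A := { (inferInstance : Group A) with mul_comm := hA.1.is_comm.comm }
    let f : A →* A := φ / MonoidHom.id A
    refine ⟨f, fun a => ?_, fun hw a => ?_⟩
    · show ((φ a / a : A) : P) = _
      rw [div_eq_mul_inv]; rfl
    · have hφ3 : φ (φ (φ a)) = a := by
        refine Subtype.ext ?_
        show w * (w * (w * a * w⁻¹) * w⁻¹) * w⁻¹ = a
        calc w * (w * (w * a * w⁻¹) * w⁻¹) * w⁻¹ = (w * w * w) * a * (w * w * w)⁻¹ := by group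
          _ = a := by rw [show w * w * w = 1 by rw [← hw, pow_succ, pow_two]]; simp
      have hcube : ∀ b : A, b ^ 3 = 1 := fun b => Subtype.ext (hA.2 b b.2)
      show φ (φ (φ a / a) / (φ a / a)) / (φ (φ a / a) / (φ a / a)) = 1
      simp only [map_div, hφ3]
      have e : a / φ (φ a) / (φ (φ a) / φ a) / (φ (φ a) / φ a / (φ a / a)) =
          (φ a) ^ 3 / (φ (φ a)) ^ 3 := by
        apply Additive.ofMul.injective
        simp only [ofMul_div, ofMul_pow]
        abel
      rw [e, hcube, hcube, div_one]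
  have hker : ∀ w : P, w ^ 3 = 1 → 9 ≤ Nat.card ↥(A ⊓ Subgroup.centralizer ({w} : Set P)) := by
    intro w hw
    obtain ⟨f, hf1, hf3⟩ := hf w
    have hK : Nat.card f.ker ≤ Nat.card ↥(A ⊓ Subgroup.centralizer ({w} : Set P)) := by
      refine Nat.card_le_card_of_injective (fun a => ⟨(a.1 : P), a.1.2, ?_⟩) ?_
      · have h := congrArg Subtype.val (MonoidHom.mem_ker.1 a.2)
        rw [hf1, OneMemClass.coe_one, mul_inv_eq_one, mul_inv_eq_iff_eq_mul] at h
        exact Subgroup.mem_centralizer_singleton_iff.2 h.symm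
      · intro a b h
        have h' := congrArg Subtype.val h
        exact Subtype.ext (Subtype.ext h')
    have h1 : ∀ (H : Subgroup A), Nat.card H ≤ Nat.card f.ker * Nat.card (H.map f) := by
      intro H
      have h := Subgroup.card_eq_card_quotient_mul_card_subgroup (f.comp H.subtype).ker
      rw [Nat.card_congr (QuotientGroup.quotientKerEquivRange (f.comp H.subtype)).toEquiv] at h
      have hr : (f.comp H.subtype).range = H.map f := by
        ext x; simp [MonoidHom.mem_range]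
      rw [hr] at h
      rw [h, mul_comm]
      refine Nat.mul_le_mul_right _ ?_
      refine Nat.card_le_card_of_injective (fun a => (⟨a.1.1, a.2⟩ : f.ker)) ?_
      intro a b h
      exact Subtype.ext (Subtype.ext (congrArg (fun t : f.ker => (t : A)) h))
    have e3 : ((⊤ : Subgroup A).map f |>.map f |>.map f) = ⊥ := by
      rw [eq_bot_iff]
      rintro _ ⟨_, ⟨_, ⟨a, -, rfl⟩, rfl⟩, rfl⟩
      exact hf3 hw a
    have a1 := h1 ⊤
    have a2 := h1 ((⊤ : Subgroup A).map f)
    have a3 := h1 (((⊤ : Subgroup A).map f).map f)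
    rw [e3, Subgroup.card_bot, mul_one] at a3
    rw [Subgroup.card_top, hA4] at a1
    obtain ⟨j, hj⟩ := (IsPGroup.iff_card (p := 3)).1 ((hP.to_subgroup A).to_subgroup f.ker)
    rw [hj] at a1 a2 a3 hK
    have : 2 ≤ j := by
      by_contra hlt
      have hle : 3 ^ j ≤ 3 := le_of_le_of_eq (Nat.pow_le_pow_right (by norm_num) (show j ≤ 1 by omega)) (pow_one 3)
      have b1 := a2.trans (Nat.mul_le_mul hle (a3.trans hle))
      have b2 := a1.trans (Nat.mul_le_mul hle b1)
      omega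
    exact le_trans (le_trans (by norm_num) (Nat.pow_le_pow_right (by norm_num) this)) hK
  -- every node reaches `U`
  have key : ∀ X : Subgroup P, Cfsg.IsElementaryAbelian 3 X → 3 ^ 2 ≤ Nat.card X →
      ¬ Cfsg.PRankLE 3 2 ↥(Subgroup.centralizer (X : Set P)) := by
    intro X hX hX2 hle
    have hXc : ∀ a ∈ X, ∀ b ∈ X, a * b = b * a := fun a ha b hb =>
      congrArg Subtype.val (hX.1.is_comm.comm ⟨a, ha⟩ ⟨b, hb⟩)
    -- elementary subgroups commuting with `X` have order at most nine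
    have bound : ∀ E : Subgroup P, (∀ a ∈ E, ∀ b ∈ E, a * b = b * a) → (∀ a ∈ E, a ^ 3 = 1) →
        (∀ a ∈ E, ∀ x ∈ X, x * a = a * x) → Nat.card E ≤ 9 := by
      intro E h1 h2 h3
      have hEC : E ≤ Subgroup.centralizer (X : Set P) := fun a ha =>
        Subgroup.mem_centralizer_iff.2 fun x hx => h3 a ha x hx
      rw [← Nat.card_congr (Subgroup.subgroupOfEquivOfLe hEC).toEquiv]
      refine hle _ ⟨⟨fun a b => Subtype.ext (Subtype.ext (h1 _ a.2 _ b.2))⟩⟩ fun a ha => ?_
      exact Subtype.ext (h2 _ ha)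
    have join : ∀ E F : Subgroup P, (∀ a ∈ E, ∀ b ∈ E, a * b = b * a) → (∀ a ∈ E, a ^ 3 = 1) →
        (∀ a ∈ F, ∀ b ∈ F, a * b = b * a) → (∀ a ∈ F, a ^ 3 = 1) → (∀ a ∈ E, ∀ b ∈ F, a * b = b * a) →
        (∀ a ∈ E ⊔ F, ∀ b ∈ E ⊔ F, a * b = b * a) ∧ (∀ a ∈ E ⊔ F, a ^ 3 = 1) ∧
        (∀ x, (∀ a ∈ E, x * a = a * x) → (∀ a ∈ F, x * a = a * x) → ∀ a ∈ E ⊔ F, x * a = a * x) := by
      intro E F hE1 hE2 hF1 hF2 hEF
      have hgen : ∀ x, (∀ a ∈ E, x * a = a * x) → (∀ a ∈ F, x * a = a * x) →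
          ∀ a ∈ E ⊔ F, x * a = a * x := by
        intro x h1 h2 a ha
        have : E ⊔ F ≤ Subgroup.centralizer ({x} : Set P) := sup_le
          (fun e he => Subgroup.mem_centralizer_singleton_iff.2 (h1 e he).symm)
          (fun e he => Subgroup.mem_centralizer_singleton_iff.2 (h2 e he).symm)
        exact (Subgroup.mem_centralizer_singleton_iff.1 (this ha)).symm
      have hcomm : ∀ a ∈ E ⊔ F, ∀ b ∈ E ⊔ F, a * b = b * a := fun a ha =>
        hgen a (fun e he => (hgen e (hE1 e he) (fun f hf => hEF e he f hf) a ha).symm)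
          (fun f hf => (hgen f (fun e he => (hEF e he f hf).symm) (hF1 f hf) a ha).symm)
      refine ⟨hcomm, fun a ha => ?_, hgen⟩
      let S : Subgroup P :=
        { carrier := {a | a ∈ E ⊔ F ∧ a ^ 3 = 1}
          one_mem' := ⟨one_mem _, one_pow 3⟩
          mul_mem' := fun {a b} ha hb => ⟨mul_mem ha.1 hb.1, by
            rw [(show Commute a b from hcomm a ha.1 b hb.1).mul_pow, ha.2, hb.2, one_mul]⟩
          inv_mem' := fun {a} ha => ⟨inv_mem ha.1, by rw [inv_pow, ha.2, inv_one]⟩ }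
      have : E ⊔ F ≤ S := sup_le (fun e he => ⟨Subgroup.mem_sup_left he, hE2 e he⟩)
        (fun e he => ⟨Subgroup.mem_sup_right he, hF2 e he⟩)
      exact (this ha).2
    have hX9 : Nat.card X = 9 := le_antisymm (bound X hXc hX.2 (fun a ha x hx => hXc x hx a ha)) hX2
    set K := A ⊓ Subgroup.centralizer (X : Set P) with hKdef
    have hKX : K ≤ X := by
      obtain ⟨h1, h2, h3⟩ := join X K hXc hX.2 (fun a ha b hb => hAc a ha.1 b hb.1)
        (fun a ha => hA.2 a ha.1) (fun a ha b hb => Subgroup.mem_centralizer_iff.1 hb.2 a ha)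
      have hb := bound (X ⊔ K) h1 h2 (fun a ha x hx => h1 x (Subgroup.mem_sup_left hx) a ha)
      exact le_sup_right.trans (Subgroup.eq_of_le_of_card_ge le_sup_left (by omega)).ge
    by_cases hXA : X ≤ A
    · have := bound A hAc hA.2 (fun a ha x hx => hAc x (hXA hx) a ha)
      omega
    obtain ⟨w, hwX, hwA⟩ := SetLike.not_le_iff_exists.1 hXA
    -- a nontrivial element of `A` fixed by `X`
    have hXA1 : X ⊓ A ≠ ⊥ := by
      intro hbot
      have hK1 : K = ⊥ := le_bot_iff.1 (hbot ▸ le_inf hKX inf_le_left)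
      let act : MulAction X A :=
        { smul := fun x a => ⟨x * a * (x : P)⁻¹, hAn.conj_mem a a.2 x⟩
          one_smul := fun a => Subtype.ext (by
            show ((1 : X) : P) * a * ((1 : X) : P)⁻¹ = a
            simp)
          mul_smul := fun x y a => Subtype.ext (by
            show ((x * y : X) : P) * a * ((x * y : X) : P)⁻¹ =
              x * ((y : P) * a * (y : P)⁻¹) * (x : P)⁻¹
            simp [mul_assoc]) }
      have h1A : (1 : A) ∈ MulAction.fixedPoints X A := fun x => Subtype.ext (by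
        show (x : P) * ((1 : A) : P) * (x : P)⁻¹ = 1
        simp)
      obtain ⟨b, hb, hne⟩ := (hP.to_subgroup X).exists_fixed_point_of_prime_dvd_card_of_fixed_point
        A (by rw [hA4]; norm_num) h1A
      apply hne
      have : (b : P) ∈ K := ⟨b.2, Subgroup.mem_centralizer_iff.2 fun x hx => by
        have h := congrArg Subtype.val (hb ⟨x, hx⟩)
        exact mul_inv_eq_iff_eq_mul.1 (show x * (b : P) * x⁻¹ = b from h)⟩
      rw [hK1, Subgroup.mem_bot] at this
      exact Subtype.ext this.symm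
    have hXgen : X = (X ⊓ A) ⊔ Subgroup.zpowers w := by
      refine (Subgroup.eq_of_le_of_card_ge (sup_le inf_le_left (Subgroup.zpowers_le.2 hwX)) ?_).symm
      rw [hX9]
      set Y := (X ⊓ A) ⊔ Subgroup.zpowers w
      obtain ⟨i, hi⟩ := (IsPGroup.iff_card (p := 3)).1 (hP.to_subgroup (X ⊓ A))
      obtain ⟨j, hj⟩ := (IsPGroup.iff_card (p := 3)).1 (hP.to_subgroup Y)
      have hi1 : i ≠ 0 := fun h => hXA1 (Subgroup.card_eq_one.1 (by rw [hi, h, pow_zero]))
      have hlt : X ⊓ A < Y := lt_of_le_of_ne le_sup_left fun h => hwA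
        ((h.symm ▸ Subgroup.mem_sup_right (Subgroup.mem_zpowers w) : w ∈ X ⊓ A).2)
      have hcl : Nat.card ↥(X ⊓ A) < Nat.card Y := by
        by_contra hge
        exact hlt.ne (Subgroup.eq_of_le_of_card_ge hlt.le (not_lt.1 hge))
      rw [hi, hj, Nat.pow_lt_pow_iff_right (by norm_num)] at hcl
      rw [hj]
      calc 9 = 3 ^ 2 := by norm_num
        _ ≤ 3 ^ j := Nat.pow_le_pow_right (by norm_num) (by omega)
    have hw3 : w ^ 3 = 1 := hX.2 w hwX
    set Kw := A ⊓ Subgroup.centralizer ({w} : Set P)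
    have hzc : ∀ a ∈ Subgroup.zpowers w, ∀ b ∈ Kw, a * b = b * a := by
      rintro a ⟨i, rfl⟩ b hb
      exact ((show Commute b w from Subgroup.mem_centralizer_singleton_iff.1 hb.2).zpow_right i).symm.eq
    have hz3 : ∀ a ∈ Subgroup.zpowers w, a ^ 3 = 1 := fun a ha => hX.2 a (Subgroup.zpowers_le.2 hwX ha)
    obtain ⟨h1, h2, h3⟩ := join (Subgroup.zpowers w) Kw
      (fun a ha b hb => hXc a (Subgroup.zpowers_le.2 hwX ha) b (Subgroup.zpowers_le.2 hwX hb)) hz3
      (fun a ha b hb => hAc a ha.1 b hb.1) (fun a ha => hA.2 a ha.1) hzc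
    have hXcomm : ∀ a ∈ Subgroup.zpowers w ⊔ Kw, ∀ x ∈ X, x * a = a * x := by
      intro a ha x hx
      have : X ≤ Subgroup.centralizer ({a} : Set P) := by
        rw [hXgen]
        refine sup_le (fun y hy => Subgroup.mem_centralizer_singleton_iff.2 ?_)
          (Subgroup.zpowers_le.2 (Subgroup.mem_centralizer_singleton_iff.2
            (h1 w (Subgroup.mem_sup_left (Subgroup.mem_zpowers w)) a ha)))
        exact h3 y (fun e he => hXc y hy.1 e (Subgroup.zpowers_le.2 hwX he))
          (fun e he => hAc y hy.2 e he.1) a ha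
      exact Subgroup.mem_centralizer_singleton_iff.1 (this hx)
    have hb := bound _ h1 h2 hXcomm
    have hKw : Kw < Subgroup.zpowers w ⊔ Kw := lt_of_le_of_ne le_sup_right fun h => hwA
      ((h.symm ▸ Subgroup.mem_sup_left (Subgroup.mem_zpowers w) : w ∈ Kw).1)
    have hlt : Nat.card Kw < Nat.card ↥(Subgroup.zpowers w ⊔ Kw) := by
      by_contra hge
      exact hKw.ne (Subgroup.eq_of_le_of_card_ge hKw.le (not_lt.1 hge))
    have := hker w hw3
    change 9 ≤ Nat.card Kw at this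
    omega
  intro E E' hE hE2 hE' hE'2
  have h1 := (hconn E hE hE2).2 (key E hE hE2)
  have h2 := (hconn E' hE' hE'2).2 (key E' hE' hE'2)
  have swap : ∀ A B : Subgroup P, Relation.ReflTransGen
      (fun A B : Subgroup P => Cfsg.IsElementaryAbelian 3 A ∧ 3 ^ 2 ≤ Nat.card ↥A ∧
        Cfsg.IsElementaryAbelian 3 B ∧ 3 ^ 2 ≤ Nat.card ↥B ∧ ∀ a ∈ A, ∀ b ∈ B, a * b = b * a) A B →
      Relation.ReflTransGen
      (fun A B : Subgroup P => Cfsg.IsElementaryAbelian 3 A ∧ 3 ^ 2 ≤ Nat.card ↥A ∧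
        Cfsg.IsElementaryAbelian 3 B ∧ 3 ^ 2 ≤ Nat.card ↥B ∧ ∀ a ∈ A, ∀ b ∈ B, a * b = b * a) B A := by
    intro A B h
    induction h with
    | refl => exact Relation.ReflTransGen.refl
    | tail _ hbc ih =>
      obtain ⟨a, b, c, d, e⟩ := hbc
      exact (Relation.ReflTransGen.single ⟨c, d, a, b, fun x hx y hy => (e y hy x hx).symm⟩).trans ih
  exact h1.trans (swap _ _ h2)

end Cfsg.Agent.S1338
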