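import Cfsg.Statements.S1339
import Cfsg.Agent.Lib.Techniques.CharP
-- import your own Cfsg.Agent.* helpers here

set_option autoImplicit false
set_option linter.style.haveILetI false
open Cfsg

namespace Cfsg.Agent.S1339

/-- Let F be a field with 2 elements, n ≥ 3, and t ∈ SL(n, F) a transvection (t = 1 + E_{ij}, i ≠ j). Then the generalized Fitting subgroup of C(t) is O_2(C(t)). -/
theorem result {F : Type*} [Field F] [Fintype F] [DecidableEq F] (hF : Fintype.card F = 2) (n : ℕ) (hn : 3 ≤ n) (i j : Fin n) (hij : i ≠ j) (t : Matrix.SpecialLinearGroup (Fin n) F) (ht : (t : Matrix (Fin n) (Fin n) F) = Matrix.transvection i j 1) : Cfsg.generalizedFittingSubgroup ↥(Subgroup.centralizer ({t} : Set (Matrix.SpecialLinearGroup (Fin n) F))) = Cfsg.pCore 2 ↥(Subgroup.centralizer ({t} : Set (Matrix.SpecialLinearGroup (Fin n) F))) := by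
  classical
  haveI : Fact (Nat.Prime 2) := ⟨Nat.prime_two⟩
  haveI : Finite (Matrix.SpecialLinearGroup (Fin n) F) := inferInstance
  have h2 : (2 : F) = 0 := by
    have := FiniteField.cast_card_eq_zero F
    rw [hF] at this
    exact_mod_cast this
  refine CharP.generalizedFittingSubgroup_eq ?_
  set C := Subgroup.centralizer ({t} : Set (Matrix.SpecialLinearGroup (Fin n) F)) with hC
  let M : C → Matrix (Fin n) (Fin n) F := fun g => (g : Matrix.SpecialLinearGroup (Fin n) F).1
  have hMmul : ∀ g h : C, M (g * h) = M g * M h := fun g h => Matrix.SpecialLinearGroup.coe_mul _ _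
  have hM1 : M 1 = 1 := Matrix.SpecialLinearGroup.coe_one
  have hMinj : Function.Injective M := fun g h e => Subtype.ext (Subtype.ext e)
  -- commuting with `t` is commuting with the matrix unit
  have hE : ∀ g : C, M g * Matrix.single i j (1 : F) = Matrix.single i j (1 : F) * M g := by
    intro g
    have h := congrArg (fun x : Matrix.SpecialLinearGroup (Fin n) F => (x : Matrix (Fin n) (Fin n) F))
      (Subgroup.mem_centralizer_singleton_iff.1 g.2)
    simp only [Matrix.SpecialLinearGroup.coe_mul, ht, Matrix.transvection, mul_add, add_mul, mul_one, one_mul] at h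
    exact add_left_cancel h
  have hcol : ∀ (g : C) (r : Fin n), r ≠ i → M g r i = 0 := by
    intro g r hr
    have := congrFun (congrFun (hE g) r) j
    rwa [Matrix.mul_single_apply_same, Matrix.single_mul_apply_of_ne _ _ _ _ _ hr, mul_one] at this
  have hdiag : ∀ g : C, M g i i = M g j j := by
    intro g
    have := congrFun (congrFun (hE g) i) j
    rwa [Matrix.mul_single_apply_same, Matrix.single_mul_apply_same, mul_one, one_mul] at this
  let Q : Subgroup C :=
    { carrier := {g | ∀ k, k ≠ i → ∀ c, M g k c = (1 : Matrix (Fin n) (Fin n) F) k c}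
      one_mem' := fun k _ c => by rw [hM1]
      mul_mem' := fun {g h} hg hh k hk c => by
        rw [hMmul, Matrix.mul_apply, Finset.sum_eq_single k (fun r _ hr => by
          rw [hg k hk r, Matrix.one_apply_ne (Ne.symm hr), zero_mul]) (fun h => absurd (Finset.mem_univ k) h),
          hg k hk k, Matrix.one_apply_eq, one_mul, hh k hk c]
      inv_mem' := fun {g} hg k hk c => by
        have h1 : (M g * M g⁻¹) k c = (1 : Matrix (Fin n) (Fin n) F) k c := by rw [← hMmul, mul_inv_cancel, hM1]
        rwa [Matrix.mul_apply, Finset.sum_eq_single k (fun r _ hr => by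
          rw [hg k hk r, Matrix.one_apply_ne (Ne.symm hr), zero_mul]) (fun h => absurd (Finset.mem_univ k) h),
          hg k hk k, Matrix.one_apply_eq, one_mul] at h1 }
  have hQn : Q.Normal := ⟨fun g hg x k hk c => by
    have h1 : ∀ r, (M x * (M g - 1)) k r = 0 := by
      intro r
      rw [Matrix.mul_apply]
      refine Finset.sum_eq_zero fun l _ => ?_
      rcases eq_or_ne l i with rfl | hl
      · rw [hcol x k hk, zero_mul]
      · rw [Matrix.sub_apply, hg l hl r, sub_self, mul_zero]
    have h2' : M (x * g * x⁻¹) = 1 + M x * (M g - 1) * M x⁻¹ := by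
      have h3 : M x * M x⁻¹ = 1 := by rw [← hMmul, mul_inv_cancel, hM1]
      rw [mul_sub, sub_mul, mul_one, h3, hMmul, hMmul, add_sub_cancel]
    rw [h2', Matrix.add_apply, add_eq_left, Matrix.mul_apply]
    exact Finset.sum_eq_zero fun r _ => by rw [h1 r, zero_mul]⟩
  have hQ2 : IsPGroup 2 Q := by
    intro g
    refine ⟨1, Subtype.ext (hMinj ?_)⟩
    have hg := g.2
    set B := M (g : C) - 1 with hB
    have hgii : M (g : C) i i = 1 := by rw [hdiag, hg j (Ne.symm hij) j, Matrix.one_apply_eq]
    have hBB : B * B = 0 := by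
      ext k c
      rw [Matrix.mul_apply, Matrix.zero_apply]
      refine Finset.sum_eq_zero fun r _ => ?_
      rcases eq_or_ne r i with rfl | hr
      · rcases eq_or_ne k r with rfl | hk
        · rw [hB, Matrix.sub_apply, hgii, Matrix.one_apply_eq, sub_self, zero_mul]
        · rw [hB, Matrix.sub_apply, hg k hk r, sub_self, zero_mul]
      · rw [show B r c = 0 by rw [hB, Matrix.sub_apply, hg r hr c, sub_self], mul_zero]
    show M (((g ^ 2 ^ 1 : Q) : C)) = M ((1 : Q) : C)
    rw [Subgroup.coe_pow, Subgroup.coe_one, hM1, pow_one, pow_two, hMmul, show M (g : C) = 1 + B by rw [hB]; abel]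
    rw [add_mul, mul_add, mul_add, hBB, one_mul, one_mul, mul_one, add_zero, add_assoc, ← two_smul F B, h2,
      zero_smul, add_zero]
  have hCQ : Subgroup.centralizer (Q : Set C) ≤ Q := by
    intro g hg k hk c
    let τ : Matrix.SpecialLinearGroup (Fin n) F :=
      ⟨Matrix.transvection i k 1, Matrix.det_transvection_of_ne i k (Ne.symm hk) 1⟩
    have hτC : τ ∈ C := by
      rw [hC, Subgroup.mem_centralizer_singleton_iff]
      refine Subtype.ext ?_
      simp only [Matrix.SpecialLinearGroup.coe_mul, ht]
      show Matrix.transvection i k 1 * Matrix.transvection i j 1 = Matrix.transvection i j 1 * Matrix.transvection i k 1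
      simp only [Matrix.transvection, mul_add, add_mul, mul_one, one_mul]
      rw [Matrix.single_mul_single_of_ne _ _ _ _ hk, Matrix.single_mul_single_of_ne _ _ _ _ (Ne.symm hij)]
      abel
    have hτQ : (⟨τ, hτC⟩ : C) ∈ Q := by
      intro l hl r
      show Matrix.transvection i k (1 : F) l r = _
      rw [Matrix.transvection, Matrix.add_apply, Matrix.single_apply_of_ne _ _ _ _ _ (fun h => hl h.1.symm), add_zero]
    have hc := congrArg M (Subgroup.mem_centralizer_iff.1 hg _ hτQ)
    rw [hMmul, hMmul, show M ⟨τ, hτC⟩ = Matrix.transvection i k 1 from rfl] at hc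
    simp only [Matrix.transvection, mul_add, add_mul, mul_one, one_mul] at hc
    have hc' := add_left_cancel hc
    rcases eq_or_ne c k with rfl | hck
    · have e1 := congrFun (congrFun hc' i) c
      rw [Matrix.mul_single_apply_same, Matrix.single_mul_apply_same, mul_one, one_mul] at e1
      rw [Matrix.one_apply_eq, e1]
      have hne : M g i i ≠ 0 := by
        intro h0
        have hd := (g : Matrix.SpecialLinearGroup (Fin n) F).2
        rw [Matrix.det_eq_zero_of_column_eq_zero i (fun r => (eq_or_ne r i).elim (fun h => h ▸ h0) (hcol g r))] at hd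
        exact zero_ne_one hd
      by_contra h1
      haveI : DecidableEq F := inferInstance
      have : ({0, 1, M g i i} : Finset F).card = 3 := by
        rw [Finset.card_insert_of_notMem, Finset.card_pair (Ne.symm h1)]
        simp [Ne.symm hne]
      have := Finset.card_le_univ ({0, 1, M g i i} : Finset F)
      omega
    · have e1 := congrFun (congrFun hc' i) c
      rw [Matrix.mul_single_apply_of_ne _ _ _ _ _ hck, Matrix.single_mul_apply_same, one_mul] at e1
      rw [Matrix.one_apply_ne (Ne.symm hck), e1]
  haveI := hQn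
  have hle : Q ≤ pCore 2 C := le_sSup ⟨hQn, hQ2⟩
  exact (Subgroup.centralizer_le (SetLike.coe_subset_coe.2 hle)).trans (hCQ.trans hle)

end Cfsg.Agent.S1339
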