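import Cfsg.Statements.S1341
import Cfsg.Agent.Lib.Components.Extended
-- import your own Cfsg.Agent.* helpers here

set_option autoImplicit false
set_option linter.style.haveILetI false
open Cfsg

namespace Cfsg.Agent.S1341

/-- Let X be finite and T a Sylow 2-subgroup of L_{2'}(X) O_{2',2}(X). Then L*_{2'}(X) = L_{2'}(X) ⊔ O(X) ⊔ O(C_X(T)). -/
theorem result {X : Type*} [Group X] [Finite X] (T : Sylow 2 ↥(Cfsg.pLayer 2 X ⊔ Cfsg.pPrimePCore 2 X)) : Cfsg.extendedTwoLayer X = Cfsg.pLayer 2 X ⊔ Cfsg.oddCore X ⊔ ((Cfsg.oddCore ↥(Subgroup.centralizer (((T : Subgroup ↥(Cfsg.pLayer 2 X ⊔ Cfsg.pPrimePCore 2 X)).map (Cfsg.pLayer 2 X ⊔ Cfsg.pPrimePCore 2 X).subtype : Subgroup X) : Set X))).map (Subgroup.centralizer (((T : Subgroup ↥(Cfsg.pLayer 2 X ⊔ Cfsg.pPrimePCore 2 X)).map (Cfsg.pLayer 2 X ⊔ Cfsg.pPrimePCore 2 X).subtype : Subgroup X) : Set X)).subtype) := by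
  haveI := Fact.mk Nat.prime_two
  haveI hL := Components.pLayer_normal (G := X) (p := 2)
  haveI hO : (Cfsg.oddCore X).Normal := FittingCores.pPrimeCore_normal 2
  set N := Cfsg.pLayer 2 X ⊔ Cfsg.oddCore X with hN
  haveI : N.Normal := Subgroup.sup_normal _ _
  refine le_antisymm (sup_le le_sup_left (iSup_le fun T' => ?_)) (sup_le le_sup_left ?_)
  swap
  · exact le_sup_of_le_right (le_iSup_of_le T le_rfl)
  obtain ⟨w, hw⟩ := MulAction.exists_smul_eq (↥(Cfsg.pLayer 2 X ⊔ Cfsg.pPrimePCore 2 X)) T T'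
  have hwG : (w : X) ∈ N ⊔ (T : Subgroup ↥(Cfsg.pLayer 2 X ⊔ Cfsg.pPrimePCore 2 X)).map
      (Cfsg.pLayer 2 X ⊔ Cfsg.pPrimePCore 2 X).subtype :=
    (Components.pPrimePCore_le_sup T).le w.2
  obtain ⟨n, hn, t, ht, hnt⟩ := Subgroup.mem_sup_of_normal_left.1 hwG
  have hmap : (T' : Subgroup ↥(Cfsg.pLayer 2 X ⊔ Cfsg.pPrimePCore 2 X)).map
      (Cfsg.pLayer 2 X ⊔ Cfsg.pPrimePCore 2 X).subtype =
      ((T : Subgroup ↥(Cfsg.pLayer 2 X ⊔ Cfsg.pPrimePCore 2 X)).map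
        (Cfsg.pLayer 2 X ⊔ Cfsg.pPrimePCore 2 X).subtype).map (MulAut.conj n).toMonoidHom := by
    have h1 : (T' : Subgroup ↥(Cfsg.pLayer 2 X ⊔ Cfsg.pPrimePCore 2 X)).map
      (Cfsg.pLayer 2 X ⊔ Cfsg.pPrimePCore 2 X).subtype =
      ((T : Subgroup ↥(Cfsg.pLayer 2 X ⊔ Cfsg.pPrimePCore 2 X)).map
        (Cfsg.pLayer 2 X ⊔ Cfsg.pPrimePCore 2 X).subtype).map (MulAut.conj (w : X)).toMonoidHom := by
      rw [← hw]
      ext x
      constructor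
      · rintro ⟨y, ⟨s, hs, rfl⟩, rfl⟩
        exact ⟨(s : X), ⟨s, hs, rfl⟩, rfl⟩
      · rintro ⟨y, ⟨s, hs, rfl⟩, rfl⟩
        exact ⟨w * s * w⁻¹, ⟨s, hs, rfl⟩, rfl⟩
    rw [h1, ← hnt, map_mul]
    conv_lhs => rw [show (MulAut.conj n * MulAut.conj t).toMonoidHom =
      (MulAut.conj n).toMonoidHom.comp (MulAut.conj t).toMonoidHom from rfl, ← Subgroup.map_map]
    congr 1
    exact Subgroup.mem_normalizer_iff_map_conj_eq.1 (Subgroup.le_normalizer ht)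
  rw [hmap, ← Components.centralizerCore_map_equiv]
  rintro _ ⟨y, hy, rfl⟩
  exact mul_mem (mul_mem (Subgroup.mem_sup_left hn) (Subgroup.mem_sup_right hy))
    (inv_mem (Subgroup.mem_sup_left hn))

end Cfsg.Agent.S1341
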