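import Cfsg.Statements.S1342
import Cfsg.Agent.Lib.Components.Extended
-- import your own Cfsg.Agent.* helpers here

set_option autoImplicit false
set_option linter.style.haveILetI false
open Cfsg

namespace Cfsg.Agent.S1342

/-- For a finite group X, L*_{2'}(X) is normal in X. -/
theorem result {X : Type*} [Group X] [Finite X] : (Cfsg.extendedTwoLayer X).Normal := by
  haveI := Fact.mk Nat.prime_two
  haveI hL := Components.pLayer_normal (G := X) (p := 2)
  haveI hO : (Cfsg.oddCore X).Normal := FittingCores.pPrimeCore_normal 2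
  haveI : (Cfsg.pPrimePCore 2 X).Normal := (FittingCores.pCore_normal 2).comap _
  rw [Cfsg.extendedTwoLayer]
  refine @Subgroup.sup_normal _ _ _ _ inferInstance ⟨fun n hn g => ?_⟩
  set W := Cfsg.pLayer 2 X ⊔ Cfsg.pPrimePCore 2 X with hW
  induction hn using Subgroup.iSup_induction' with
  | hp T x hx =>
    haveI : W.Normal := Subgroup.sup_normal _ _
    obtain ⟨T', hT'⟩ := Components.exists_sylow_map_conj T g
    refine Subgroup.mem_iSup_of_mem T' ?_
    have h := Subgroup.mem_map_of_mem (MulAut.conj g).toMonoidHom hx
    rw [Components.centralizerCore_map_equiv, ← hT'] at h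
    exact h
  | h1 => simp
  | hmul x y _ _ hx hy => rw [show g * (x * y) * g⁻¹ = (g * x * g⁻¹) * (g * y * g⁻¹) by group]; exact mul_mem hx hy

end Cfsg.Agent.S1342
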