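import Cfsg.Statements.S1343
import Cfsg.Agent.Lib.Components.Extended
import Cfsg.Agent.S1341
-- import your own Cfsg.Agent.* helpers here

set_option autoImplicit false
set_option linter.style.haveILetI false
open Cfsg

namespace Cfsg.Agent.S1343

/-- Let X be finite. Then L*_{2'}(X) = L_{2'}(X) ⊔ F for some subgroup F of odd order normalized by a Sylow 2-subgroup of X. -/
theorem result {X : Type*} [Group X] [Finite X] : ∃ F : Subgroup X, Odd (Nat.card ↥F) ∧ (∃ S : Sylow 2 X, (S : Subgroup X) ≤ Subgroup.normalizer (F : Set X)) ∧ Cfsg.extendedTwoLayer X = Cfsg.pLayer 2 X ⊔ F := by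
  haveI := Fact.mk Nat.prime_two
  haveI hL := Components.pLayer_normal (G := X) (p := 2)
  haveI hO : (Cfsg.oddCore X).Normal := FittingCores.pPrimeCore_normal 2
  haveI : (Cfsg.pPrimePCore 2 X).Normal := (FittingCores.pCore_normal 2).comap _
  set W := Cfsg.pLayer 2 X ⊔ Cfsg.pPrimePCore 2 X with hW
  haveI : W.Normal := Subgroup.sup_normal _ _
  obtain ⟨T⟩ := (inferInstance : Nonempty (Sylow 2 ↥W))
  obtain ⟨S, hS⟩ := (T.isPGroup'.map W.subtype).exists_le_sylow
  set TG := (T : Subgroup ↥W).map W.subtype with hTG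
  set Fc := ((Cfsg.oddCore ↥(Subgroup.centralizer (TG : Set X))).map
    (Subgroup.centralizer (TG : Set X)).subtype) with hFc
  have hTeq : (S : Subgroup X) ⊓ W = TG := by
    refine le_antisymm ?_ (le_inf hS (Subgroup.map_subtype_le _))
    have h1 : (T : Subgroup ↥W) = (S : Subgroup X).subgroupOf W :=
      (T.is_maximal' (Q := (S : Subgroup X).subgroupOf W) S.isPGroup'.comap_subtype
        fun x hx => hS (Subgroup.mem_map_of_mem _ hx)).symm
    rw [hTG, h1, Subgroup.subgroupOf, Subgroup.map_comap_eq, Subgroup.range_subtype, inf_comm]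
  refine ⟨Cfsg.oddCore X ⊔ Fc, ?_, ⟨S, ?_⟩, ?_⟩
  · have h1 : (Nat.card ↥(Cfsg.oddCore X)).Coprime 2 := FittingCores.pPrimeCore_coprime 2
    have h2 : (Nat.card ↥Fc).Coprime 2 := by
      rw [hFc, Subgroup.card_map_of_injective (Subgroup.subtype_injective _)]
      exact FittingCores.pPrimeCore_coprime 2
    rw [← Nat.coprime_two_right]
    refine Nat.Coprime.coprime_dvd_left ?_ (h1.mul_left h2)
    rw [← Subgroup.relIndex_bot_left, ← Subgroup.relIndex_mul_relIndex ⊥ (Cfsg.oddCore X) _
      bot_le le_sup_left, Subgroup.relIndex_bot_left, Subgroup.relIndex_sup_left]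
    exact Nat.mul_dvd_mul_left _ (Subgroup.relIndex_dvd_card _ _)
  · intro s hs
    rw [Subgroup.mem_normalizer_iff_map_conj_eq, Subgroup.map_sup]
    have hsT : TG.map (MulAut.conj s).toMonoidHom = TG := by
      refine Subgroup.mem_normalizer_iff_map_conj_eq.1 ?_
      rw [← hTeq]
      exact Subgroup.inf_normalizer_le_normalizer_inf
        ⟨Subgroup.le_normalizer hs, by rw [Subgroup.normalizer_eq_top (H := W)]; trivial⟩
    congr 1
    · exact Subgroup.mem_normalizer_iff_map_conj_eq.1
        (by rw [Subgroup.normalizer_eq_top (H := Cfsg.oddCore X)]; trivial)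
    · exact (Components.centralizerCore_map_equiv (MulAut.conj s) TG).trans (by rw [hsT])
  · rw [← sup_assoc]
    refine le_antisymm (sup_le le_sup_left (iSup_le fun T' => ?_))
      (sup_le le_sup_left (le_sup_of_le_right (le_iSup_of_le T le_rfl)))
    exact le_trans (le_sup_of_le_right (le_iSup_of_le T' le_rfl)) (S1341.result T).le

end Cfsg.Agent.S1343
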