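import Cfsg.Statements.S1344
import Cfsg.Agent.Lib.Components.Extended
-- import your own Cfsg.Agent.* helpers here

set_option autoImplicit false
set_option linter.style.haveILetI false
open Cfsg

namespace Cfsg.Agent.S1344

/-- Let K be a 2-component of the finite group X. Then K ≤ L*_{2'}(X) and K is normal in L*_{2'}(X). -/
theorem result {X : Type*} [Group X] [Finite X] (K : Subgroup X) (hK : Cfsg.IsPComponent 2 K) : K ≤ Cfsg.extendedTwoLayer X ∧ (K.subgroupOf (Cfsg.extendedTwoLayer X)).Normal := by
  haveI := Fact.mk Nat.prime_two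
  have hle : K ≤ Cfsg.extendedTwoLayer X :=
    le_trans (le_sSup hK : K ≤ Cfsg.pLayer 2 X) (le_sup_of_le_left le_sup_left)
  refine ⟨hle, (Subgroup.normal_subgroupOf_iff_le_normalizer hle).2 ?_⟩
  refine sup_le (sup_le (Components.pLayer_le_normalizer hK)
    (Components.pPrimeCore_le_normalizer_pComponent hK)) (iSup_le fun T => ?_)
  exact (Subgroup.map_subtype_le _).trans
    (Components.centralizer_sylow_le_normalizer_pComponent T hK)

end Cfsg.Agent.S1344
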