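import Cfsg.Statements.S1348
import Cfsg.Agent.S1340
import Cfsg.Agent.Lib.Components.FStar

set_option autoImplicit false
open Cfsg

namespace Cfsg.Agent.S1348

open Matrix Subgroup

theorem standard_of {G : Type*} [Group G] [Finite G] (t : G) (ht : orderOf t = 2) (L : Subgroup G)
    (hq : Cfsg.IsQuasisimple ↥L)
    (hLC : L ≤ centralizer ({t} : Set G)) (hn : centralizer ({t} : Set G) ≤ normalizer (L : Set G))
    (hKC : centralizer (L : Set G) ≤ centralizer ({t} : Set G))
    (hKab : IsMulCommutative ↥(centralizer (L : Set G)))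
    (hinv : ∀ x ∈ centralizer (L : Set G), orderOf x = 2 → x = t) :
    Cfsg.IsStandardSubgroup ((Cfsg.layer ↥(centralizer ({t} : Set G))).map
      (centralizer ({t} : Set G)).subtype) := by
  classical
  set C := centralizer ({t} : Set G) with hC
  set K := centralizer (L : Set G) with hK
  have htK : t ∈ K := mem_centralizer_iff.mpr fun l hl => mem_centralizer_singleton_iff.mp (hLC hl)
  have hconj : ∀ g : G, g * t * g⁻¹ = t → g ∈ C := fun g h =>
    mem_centralizer_singleton_iff.mpr (mul_inv_eq_iff_eq_mul.mp h)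
  have hord : ∀ g : G, orderOf (g * t * g⁻¹) = 2 := fun g => by
    exact (orderOf_injective (MulAut.conj g).toMonoidHom (MulAut.conj g).injective t).trans ht
  have hLK : normalizer (L : Set G) ≤ normalizer (K : Set G) :=
    Subgroup.le_normalizer_iff.2 fun g hg c hc => mem_centralizer_iff.mpr fun l hl => by
      have hl' := (Subgroup.mem_normalizer_iff''.1 hg l).1 hl
      have h := mem_centralizer_iff.mp hc _ hl'
      calc l * (g * c * g⁻¹) = g * ((g⁻¹ * l * g) * c) * g⁻¹ := by group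
        _ = g * (c * (g⁻¹ * l * g)) * g⁻¹ := by rw [h]
        _ = g * c * g⁻¹ * l := by group
  have hcompL : Cfsg.IsComponent (L.subgroupOf C) :=
    ⟨((normal_subgroupOf_iff_le_normalizer hLC).2 hn).isSubnormal,
      (Cfsg.Agent.Components.quasisimple_congr (subgroupOfEquivOfLe hLC)).2 hq⟩
  have hlayer : Cfsg.layer ↥C = L.subgroupOf C := by
    refine le_antisymm (Cfsg.Agent.Components.layer_le_iff.mpr fun M hM => ?_)
      (Cfsg.Agent.Components.component_le_layer hcompL)
    by_contra hne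
    have hne' : M ≠ L.subgroupOf C := fun e => hne e.le
    have hcom := Cfsg.Agent.Components.components_commute hM hcompL hne'
    have hMK : ∀ x ∈ M, ((x : ↥C) : G) ∈ K := fun x hx => mem_centralizer_iff.mpr fun l hl => by
      have h := commutatorElement_eq_one_iff_mul_comm.mp (mem_bot.mp (hcom ▸
        commutator_mem_commutator hx (show (⟨l, hLC hl⟩ : ↥C) ∈ L.subgroupOf C from hl)))
      exact (congrArg Subtype.val h).symm
    refine Cfsg.Agent.Components.quasisimple_not_commutative hM.2 ⟨⟨fun a b => ?_⟩⟩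
    have h := congrArg Subtype.val (hKab.is_comm.comm (⟨_, hMK a a.2⟩ : ↥K) ⟨_, hMK b b.2⟩)
    exact Subtype.ext (Subtype.ext h)
  rw [hlayer, map_subgroupOf_eq_of_le hLC]
  refine ⟨hq, ⟨?_, fun g hg => ?_⟩, fun g _ hcom => ?_, le_antisymm hLK fun g hg => ?_⟩
  · rw [even_iff_two_dvd, ← ht]
    exact orderOf_dvd_natCard K htK
  · rw [← Nat.not_even_iff_odd, even_iff_two_dvd]
    intro h2
    haveI : Fact (Nat.Prime 2) := ⟨Nat.prime_two⟩
    obtain ⟨x, hx⟩ := exists_prime_orderOf_dvd_card' 2 h2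
    have hx' : orderOf (x : G) = 2 := by rw [Subgroup.orderOf_coe]; exact hx
    obtain ⟨hxK, k, hk, hkx⟩ := Subgroup.mem_inf.mp x.2
    have hk' : orderOf k = 2 := by
      rw [← orderOf_injective (MulAut.conj g).toMonoidHom (MulAut.conj g).injective k]
      exact (congrArg orderOf hkx).trans hx'
    have h1 : g * t * g⁻¹ = t := by
      have e := hkx
      rw [hinv k hk hk', hinv _ hxK hx'] at e
      exact e
    exact hg (hLK (hn (hconj g h1)))
  · have hle : L.map (MulAut.conj g).toMonoidHom ≤ K :=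
      Subgroup.commutator_eq_bot_iff_le_centralizer.mp (by rw [Subgroup.commutator_comm]; exact hcom)
    refine Cfsg.Agent.Components.quasisimple_not_commutative hq ⟨⟨fun a b => Subtype.ext ?_⟩⟩
    have h := congrArg Subtype.val (hKab.is_comm.comm
      (⟨_, hle ⟨a, a.2, rfl⟩⟩ : ↥K) ⟨_, hle ⟨b, b.2, rfl⟩⟩)
    exact (MulAut.conj g).injective (by rw [Subgroup.coe_mul, Subgroup.coe_mul, map_mul, map_mul]; exact h)
  · exact hn (hconj g (hinv _ ((mem_normalizer_iff.mp hg t).mp htK) (hord g)))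

theorem main {F : Type*} [Field F] [Fintype F] [DecidableEq F] (hF : Odd (Fintype.card F)) (m : ℕ) (hm : 6 ≤ m) (hev : Even m)
    (t : Matrix.SpecialLinearGroup (Fin (m + 1)) F)
    (ht : (t : Matrix (Fin (m + 1)) (Fin (m + 1)) F) = Matrix.diagonal (fun i : Fin (m + 1) => if (i : ℕ) = m then (1 : F) else -1)) :
    Cfsg.IsStandardSubgroup ((Cfsg.layer ↥(Subgroup.centralizer ({t} : Set (Matrix.SpecialLinearGroup (Fin (m + 1)) F)))).map (Subgroup.centralizer ({t} : Set (Matrix.SpecialLinearGroup (Fin (m + 1)) F))).subtype) := by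
  classical
  have hq2 : (2 : F) ≠ 0 := by
    intro h2
    haveI : CharP F 2 := CharTwo.of_one_ne_zero_of_two_eq_zero one_ne_zero h2
    obtain ⟨k, -, hk⟩ := FiniteField.card F 2
    rw [hk] at hF
    exact Nat.not_even_iff_odd.2 hF ((Nat.even_pow' k.ne_zero).2 even_two)
  let E : Matrix (Fin m ⊕ Fin 1) (Fin m ⊕ Fin 1) F ≃ₐ[F] Matrix (Fin (m + 1)) (Fin (m + 1)) F :=
    Matrix.reindexAlgEquiv F F finSumFinEquiv
  let D0 : Matrix (Fin m ⊕ Fin 1) (Fin m ⊕ Fin 1) F := Matrix.fromBlocks (-1) 0 0 1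
  have htE : (t : Matrix (Fin (m + 1)) (Fin (m + 1)) F) = E D0 := by
    have hD : D0 = Matrix.diagonal (fun i : Fin m ⊕ Fin 1 => if ((finSumFinEquiv i : Fin (m + 1)) : ℕ) = m then (1 : F) else -1) := by
      ext i j
      rcases i with i | i <;> rcases j with j | j <;>
        simp [D0, Matrix.diagonal_apply, Matrix.one_apply, Fin.val_eq_zero]
      all_goals (split_ifs with h <;> simp_all <;> (try omega))
    rw [ht, hD]
    ext i j
    simp [E, Matrix.diagonal_apply]
  have hdet : ∀ M, (E M).det = M.det := fun M => Matrix.det_reindexAlgEquiv F F _ M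
  let φ : Matrix.SpecialLinearGroup (Fin m) F →* Matrix.SpecialLinearGroup (Fin (m + 1)) F :=
    { toFun := fun A => ⟨E (Matrix.fromBlocks (A : Matrix (Fin m) (Fin m) F) 0 0 1), by
        rw [hdet, Matrix.det_fromBlocks_zero₂₁, A.2, Matrix.det_one, mul_one]⟩
      map_one' := Subtype.ext (by
        show E _ = _
        rw [Matrix.SpecialLinearGroup.coe_one, Matrix.fromBlocks_one, map_one]; rfl)
      map_mul' := fun A B => Subtype.ext (by
        show E _ = E _ * E _
        rw [← map_mul, Matrix.fromBlocks_multiply]; simp) }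
  have hφv : ∀ A, (φ A : Matrix (Fin (m + 1)) (Fin (m + 1)) F) =
      E (Matrix.fromBlocks (A : Matrix (Fin m) (Fin m) F) 0 0 1) := fun A => rfl
  have hφinj : Function.Injective φ := fun A B h => by
    have h1 := E.injective (congrArg Subtype.val h :)
    exact Subtype.ext (Matrix.fromBlocks_inj.1 h1).1
  have hcomm : ∀ (g : Matrix.SpecialLinearGroup (Fin (m + 1)) F) (X Y : Matrix (Fin m ⊕ Fin 1) (Fin m ⊕ Fin 1) F)
      (h : Matrix.SpecialLinearGroup (Fin (m + 1)) F), (g : Matrix (Fin (m + 1)) (Fin (m + 1)) F) = E X →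
      (h : Matrix (Fin (m + 1)) (Fin (m + 1)) F) = E Y → (g * h = h * g ↔ X * Y = Y * X) := by
    intro g X Y h hg hh
    constructor
    · intro e
      apply E.injective
      rw [map_mul, map_mul, ← hg, ← hh]
      exact congrArg Subtype.val e
    · intro e
      refine Subtype.ext ?_
      show _ * _ = _ * _
      rw [hg, hh, ← map_mul, ← map_mul, e]
  have blockdiag : ∀ g ∈ centralizer ({t} : Set (Matrix.SpecialLinearGroup (Fin (m + 1)) F)),
      ∃ a d, (g : Matrix (Fin (m + 1)) (Fin (m + 1)) F) = E (Matrix.fromBlocks a 0 0 d) := by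
    intro g hg
    obtain ⟨M, hM⟩ := E.surjective (g : Matrix (Fin (m + 1)) (Fin (m + 1)) F)
    have h2 := (hcomm g M D0 t hM.symm htE).mp (mem_centralizer_singleton_iff.1 hg)
    rw [← Matrix.fromBlocks_toBlocks M] at h2 hM
    simp only [D0, Matrix.fromBlocks_multiply, Matrix.fromBlocks_inj, Matrix.mul_zero, Matrix.zero_mul, Matrix.mul_one, Matrix.one_mul, Matrix.mul_neg, Matrix.neg_mul, add_zero, zero_add] at h2
    refine ⟨M.toBlocks₁₁, M.toBlocks₂₂, hM.symm.trans ?_⟩
    have z1 : M.toBlocks₁₂ = 0 := Matrix.ext fun i j => by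
      have h3 := congrFun (congrFun h2.2.1 i) j
      try simp only [Matrix.neg_apply] at h3
      rw [Matrix.zero_apply]; exact mul_left_cancel₀ hq2 (by rw [mul_zero]; linear_combination h3)
    have z2 : M.toBlocks₂₁ = 0 := Matrix.ext fun i j => by
      have h3 := congrFun (congrFun h2.2.2.1 i) j
      try simp only [Matrix.neg_apply] at h3
      rw [Matrix.zero_apply]; exact mul_left_cancel₀ hq2 (by rw [mul_zero]; linear_combination -h3)
    rw [z1, z2]
  have centL : ∀ g ∈ centralizer (φ.range : Set (Matrix.SpecialLinearGroup (Fin (m + 1)) F)),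
      ∃ (r : F) (d : Matrix (Fin 1) (Fin 1) F), (g : Matrix (Fin (m + 1)) (Fin (m + 1)) F) = E (Matrix.fromBlocks (Matrix.scalar (Fin m) r) 0 0 d) := by
    intro g hg
    obtain ⟨M, hM⟩ := E.surjective (g : Matrix (Fin (m + 1)) (Fin (m + 1)) F)
    rw [← Matrix.fromBlocks_toBlocks M] at hM
    have hA : ∀ A : Matrix.SpecialLinearGroup (Fin m) F, M.toBlocks₁₁ * (A : Matrix (Fin m) (Fin m) F) = (A : Matrix (Fin m) (Fin m) F) * M.toBlocks₁₁ ∧ M.toBlocks₁₂ = (A : Matrix (Fin m) (Fin m) F) * M.toBlocks₁₂ ∧ M.toBlocks₂₁ * (A : Matrix (Fin m) (Fin m) F) = M.toBlocks₂₁ := fun A => by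
      have h2 := (hcomm g _ _ (φ A) hM.symm (hφv A)).mp (mem_centralizer_iff.1 hg (φ A) ⟨A, rfl⟩).symm
      simp only [Matrix.fromBlocks_multiply, Matrix.fromBlocks_inj, Matrix.mul_zero, Matrix.zero_mul, Matrix.mul_one, Matrix.one_mul, add_zero, zero_add] at h2
      exact ⟨h2.1, h2.2.1, h2.2.2.1⟩
    have hneg : (-1 : Matrix (Fin m) (Fin m) F).det = 1 := by
      rw [Matrix.det_neg, Matrix.det_one, Fintype.card_fin, hev.neg_one_pow, mul_one]
    obtain ⟨-, hb, hc⟩ := hA ⟨-1, hneg⟩
    have z1 : M.toBlocks₁₂ = 0 := Matrix.ext fun i j => by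
      have h3 := congrFun (congrFun hb i) j
      simp only [Matrix.neg_mul, Matrix.one_mul, Matrix.neg_apply] at h3
      rw [Matrix.zero_apply]; exact mul_left_cancel₀ hq2 (by rw [mul_zero]; linear_combination h3)
    have z2 : M.toBlocks₂₁ = 0 := Matrix.ext fun i j => by
      have h3 := congrFun (congrFun hc i) j
      simp only [Matrix.mul_neg, Matrix.mul_one, Matrix.neg_apply] at h3
      rw [Matrix.zero_apply]; exact mul_left_cancel₀ hq2 (by rw [mul_zero]; linear_combination -h3)
    obtain ⟨r, hr⟩ := Matrix.mem_range_scalar_of_commute_transvectionStruct (M := M.toBlocks₁₁)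
      (fun τ => ((hA ⟨τ.toMatrix, τ.det⟩).1).symm)
    refine ⟨r, M.toBlocks₂₂, hM.symm.trans ?_⟩
    rw [z1, z2, hr]
  refine standard_of t ?_ φ.range ?_ ?_ ?_ ?_ ?_ ?_
  · refine orderOf_eq_prime (Subtype.ext ?_) fun h => ?_
    · rw [Matrix.SpecialLinearGroup.coe_pow, pow_two, htE, ← map_mul]
      simp [D0, Matrix.fromBlocks_multiply, Matrix.fromBlocks_one]
    · have h1 : E D0 = E 1 := by rw [← htE, h, map_one]; rfl
      have h2 := congrFun (congrFun (E.injective h1) (Sum.inl ⟨0, by omega⟩)) (Sum.inl ⟨0, by omega⟩)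
      simp [D0] at h2
      exact hq2 (by linear_combination -h2)
  · exact (Cfsg.Agent.Components.quasisimple_congr (MonoidHom.ofInjective hφinj)).mp
      (S1340.sl_quasisimple m (by omega) (fun h => by omega))
  · rintro _ ⟨A, rfl⟩
    rw [mem_centralizer_singleton_iff, hcomm _ _ _ _ (hφv A) htE]
    simp [D0, Matrix.fromBlocks_multiply]
  · refine Subgroup.le_normalizer_iff.2 ?_
    rintro g hg _ ⟨A, rfl⟩
    obtain ⟨a, d, hg1⟩ := blockdiag g hg
    obtain ⟨a', d', hg2⟩ := blockdiag g⁻¹ (inv_mem hg)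
    have hDD : a * a' = 1 ∧ d * d' = 1 := by
      have h2 := (congrArg Subtype.val (mul_inv_cancel g) :)
      rw [Matrix.SpecialLinearGroup.coe_mul, hg1, hg2, ← map_mul, Matrix.SpecialLinearGroup.coe_one, ← map_one E] at h2
      have h3 := E.injective h2
      simp only [Matrix.fromBlocks_multiply, ← Matrix.fromBlocks_one, Matrix.fromBlocks_inj, Matrix.mul_zero, Matrix.zero_mul, add_zero, zero_add] at h3
      exact ⟨h3.1, h3.2.2.2⟩
    refine ⟨⟨a * (A : Matrix (Fin m) (Fin m) F) * a', ?_⟩, Subtype.ext ?_⟩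
    · rw [Matrix.det_mul, Matrix.det_mul, A.2, mul_one, ← Matrix.det_mul, hDD.1, Matrix.det_one]
    · show E _ = _
      rw [Matrix.SpecialLinearGroup.coe_mul, Matrix.SpecialLinearGroup.coe_mul, hg1, hg2, hφv, ← map_mul, ← map_mul]
      congr 1
      simp [Matrix.fromBlocks_multiply, hDD.2]
  · intro g hg
    obtain ⟨r, d, h⟩ := centL g hg
    rw [mem_centralizer_singleton_iff, hcomm _ _ _ _ h htE]
    simp [D0, Matrix.fromBlocks_multiply]
  · refine ⟨⟨fun g h => Subtype.ext ?_⟩⟩
    obtain ⟨r, d, h1⟩ := centL g g.2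
    obtain ⟨s, e, h2⟩ := centL h h.2
    rw [Subgroup.coe_mul, Subgroup.coe_mul, hcomm _ _ _ _ h1 h2]
    have hde : d * e = e * d := by
      ext i j
      simp [Matrix.mul_apply, Fin.eq_zero, mul_comm]
    simp [Matrix.fromBlocks_multiply, hde, mul_comm r s]
  · intro x hx hxo
    obtain ⟨r, d, h⟩ := centL x hx
    have hx2 : x * x = 1 := by rw [← pow_two, ← hxo]; exact pow_orderOf_eq_one x
    have h2 : E (Matrix.fromBlocks (Matrix.scalar (Fin m) r) 0 0 d * Matrix.fromBlocks (Matrix.scalar (Fin m) r) 0 0 d) = E 1 := by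
      rw [map_mul, ← h, map_one, ← Matrix.SpecialLinearGroup.coe_mul, hx2]; rfl
    have h3 := E.injective h2
    simp only [Matrix.fromBlocks_multiply, ← Matrix.fromBlocks_one, Matrix.fromBlocks_inj, Matrix.mul_zero, Matrix.zero_mul, add_zero, zero_add] at h3
    have hr : r * r = 1 := by
      have := congrFun (congrFun h3.1 ⟨0, by omega⟩) ⟨0, by omega⟩
      simpa using this
    have hdt := x.2
    rw [h, hdet, Matrix.det_fromBlocks_zero₂₁] at hdt
    have hrm : r ^ m = 1 := by
      obtain ⟨k, hk⟩ := hev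
      rw [hk, ← two_mul, pow_mul, pow_two, hr, one_pow]
    simp [Matrix.det_fin_one, hrm] at hdt
    have hd : d = 1 := by
      ext i j
      obtain rfl : i = 0 := Fin.eq_zero i
      obtain rfl : j = 0 := Fin.eq_zero j
      simpa using hdt
    rcases mul_self_eq_one_iff.mp hr with hr1 | hr1
    · exfalso
      have : x = 1 := Subtype.ext (by
        rw [h, hd, hr1, Matrix.SpecialLinearGroup.coe_one, map_one, Matrix.fromBlocks_one, map_one])
      rw [this, orderOf_one] at hxo
      exact absurd hxo (by decide)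
    · refine Subtype.ext ?_
      rw [h, htE, hd, hr1, map_neg, map_one]

/-- Let F be a finite field of odd order, n ≥ 7 odd, and t ∈ SL(n, F) the diagonal matrix with entries −1, …, −1, 1. Then E(C(t)) is a standard subgroup of SL(n, F). -/
theorem result {F : Type*} [Field F] [Fintype F] [DecidableEq F] (hF : Odd (Fintype.card F)) (n : ℕ) (hn : 7 ≤ n) (hodd : Odd n) (t : Matrix.SpecialLinearGroup (Fin n) F) (ht : (t : Matrix (Fin n) (Fin n) F) = Matrix.diagonal (fun i : Fin n => if (i : ℕ) + 1 = n then (1 : F) else -1)) : Cfsg.IsStandardSubgroup ((Cfsg.layer ↥(Subgroup.centralizer ({t} : Set (Matrix.SpecialLinearGroup (Fin n) F)))).map (Subgroup.centralizer ({t} : Set (Matrix.SpecialLinearGroup (Fin n) F))).subtype) := by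
  obtain ⟨m, rfl⟩ : ∃ m, n = m + 1 := ⟨n - 1, by omega⟩
  refine main hF m (by omega) ?_ t (by rw [ht]; simp)
  obtain ⟨k, hk⟩ := hodd
  exact ⟨k, by omega⟩

end Cfsg.Agent.S1348
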