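import Cfsg.Statements.S1349
import Cfsg.Agent.Lib.Signalizer.Basic
import Cfsg.Agent.Lib.Solvable.Fitting
import Cfsg.Agent.Lib.TwoGroups.Lifts
-- import your own Cfsg.Agent.* helpers here

set_option autoImplicit false
set_option linter.style.haveILetI false
open Cfsg
open scoped commutatorElement

namespace Cfsg.Agent.S1349

open Subgroup

theorem odd_eq_one {G : Type*} [Group G] [Finite G] {F : Subgroup G} (hF : Odd (Nat.card F)) {z : G}
    (hz : z ∈ F) (h2 : z * z = 1) : z = 1 := by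
  rw [← orderOf_eq_one_iff]
  exact Nat.eq_one_of_dvd_coprimes (Nat.coprime_two_left.2 hF)
    (orderOf_dvd_of_pow_eq_one (by rw [pow_two, h2])) (Subgroup.orderOf_dvd_natCard F hz)

theorem commute_of_sq {G : Type*} [Group G] [Finite G] {F : Subgroup G} (hF : Odd (Nat.card F)) {x y : G}
    (hx : x ∈ F) (h : Commute (x * x) y) : Commute x y := by
  obtain ⟨m, hm⟩ := exists_pow_eq_self_of_coprime (x := x) (n := 2)
    ((Nat.coprime_two_left.2 hF).coprime_dvd_right (Subgroup.orderOf_dvd_natCard F hx))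
  rw [← hm, pow_two]
  exact h.pow_left m

theorem aux {G : Type*} [Group G] [Finite G] : ∀ (d : ℕ) (A F : Subgroup G), IsElementaryAbelian 2 A →
    Nat.card A = 2 ^ d → A ≤ normalizer (F : Set G) → Group.IsNilpotent F → Odd (Nat.card F) →
    A ⊓ centralizer (F : Set G) = ⊥ →
    ∃ a x : Fin d → G, (∀ i, a i ∈ A ∧ a i ≠ 1 ∧ x i ∈ F ∧ x i ≠ 1 ∧ a i * x i * (a i)⁻¹ = (x i)⁻¹) ∧
      A ≤ closure (Set.range a) ∧ ∀ i j, i ≠ j → Commute (a i) (x j) ∧ Commute (x i) (x j) := by
  intro d
  induction d with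
  | zero =>
    intro A F _ hc _ _ _ _
    rw [pow_zero, card_eq_one] at hc
    subst hc
    exact ⟨Fin.elim0, Fin.elim0, fun i => i.elim0, bot_le, fun i => i.elim0⟩
  | succ d ih =>
    intro A F hA hc hAF hFn hFo hf
    classical
    haveI : Fact (Nat.Prime 2) := ⟨Nat.prime_two⟩
    have hF2 : ¬ 2 ∣ Nat.card F := Nat.two_dvd_ne_zero.2 (Nat.odd_iff.1 hFo)
    let Eff : Subgroup G → Prop := fun H =>
      H ≤ A ∧ Nat.card H * 2 = Nat.card A ∧ ¬ F ⊓ centralizer (H : Set G) ≤ centralizer (A : Set G)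
    have hplane : ∀ (X : Subgroup G), A ≤ normalizer (X : Set G) → X ≤ F → ¬ X ≤ centralizer (A : Set G) →
        ∃ H ≤ A, Nat.card H * 2 = Nat.card A ∧ ¬ X ⊓ centralizer (H : Set G) ≤ centralizer (A : Set G) := by
      intro X hAX hXF hX
      by_contra hno
      apply hX
      rcases Nat.eq_zero_or_pos d with hd | hd
      · subst hd
        refine le_trans (le_inf le_rfl fun _ _ => mem_centralizer_iff.2 fun y hy => ?_)
          (Classical.not_not.1 fun h => hno ⟨⊥, bot_le, by simp [hc], h⟩)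
        rw [mem_bot.1 hy, one_mul, mul_one]
      · exact Signalizer.le_of_hyperplane_le hA (by rw [hc]; exact Nat.pow_le_pow_right two_pos (by omega)) hAX
          (fun h => hF2 (h.trans (card_dvd_of_le hXF)))
          (fun H hH hcard => Classical.not_not.1 fun h => hno ⟨H, hH, hcard, h⟩)
    have hfaith : ∀ k ∈ A, k ≠ 1 → ∃ H, Eff H ∧ k ∉ H := by
      intro k hk hk1
      by_contra hno
      have hle : F ≤ centralizer {k} := by
        rcases Nat.eq_zero_or_pos d with hd | hd
        · subst hd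
          exfalso
          refine hno ⟨⊥, ⟨bot_le, by simp [hc], fun h => hk1 ?_⟩, by simpa using hk1⟩
          have hFA : F ≤ centralizer (A : Set G) := le_trans (le_inf le_rfl (fun _ _ => by
            rw [mem_centralizer_iff]; intro y hy; rw [mem_bot.1 hy, one_mul, mul_one])) h
          have : k ∈ A ⊓ centralizer (F : Set G) := ⟨hk, le_centralizer_iff.1 hFA hk⟩
          rwa [hf, mem_bot] at this
        · refine Signalizer.le_of_hyperplane_le hA (by rw [hc]; exact Nat.pow_le_pow_right two_pos (by omega)) hAF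
            hF2 fun H hH hcard => ?_
          by_cases hE : F ⊓ centralizer (H : Set G) ≤ centralizer (A : Set G)
          · exact hE.trans (centralizer_le (by simpa using hk))
          · have hkH : k ∈ H := Classical.not_not.1 fun h => hno ⟨H, ⟨hH, hcard, hE⟩, h⟩
            exact inf_le_right.trans (centralizer_le (by simpa using hkH))
      have : k ∈ A ⊓ centralizer (F : Set G) := ⟨hk, mem_centralizer_iff.2 fun f hf' =>
        ((mem_centralizer_singleton_iff.1 (hle hf')))⟩
      rw [hf, mem_bot] at this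
      exact hk1 this
    -- the upper central series of `F`, in `G`
    let U : ℕ → Subgroup G := fun n => (Subgroup.upperCentralSeries F n).map F.subtype
    have hUA : ∀ n, A ≤ normalizer (U n : Set G) := by
      intro n
      refine Signalizer.le_normalizer_iff_conj_mem.2 ?_
      rintro b hb _ ⟨v, hv, rfl⟩
      let c := F.normalizerMonoidHom ⟨b, hAF hb⟩
      refine ⟨c v, ?_, rfl⟩
      have h := Subgroup.comap_upperCentralSeries (G := F) c n
      rw [← h] at hv
      exact hv
    have hex : ∃ n, ¬ U n ≤ centralizer (A : Set G) := by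
      obtain ⟨n, hn⟩ := hFn.nilpotent
      refine ⟨n, fun h => ?_⟩
      have hFA : F ≤ centralizer (A : Set G) := fun f hf' => h ⟨⟨f, hf'⟩, hn ▸ mem_top _, rfl⟩
      have hAle : A ≤ A ⊓ centralizer (F : Set G) := le_inf le_rfl (le_centralizer_iff.1 hFA)
      rw [hf, le_bot_iff] at hAle
      rw [hAle, card_bot] at hc
      exact (Nat.one_lt_pow (Nat.succ_ne_zero d) (by decide : 1 < 2)).ne hc
    obtain ⟨m, hm⟩ : ∃ m, Nat.find hex = m + 1 := by
      refine Nat.exists_eq_succ_of_ne_zero fun h0 => ?_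
      have := Nat.find_spec hex
      rw [h0] at this
      exact this (by simp [U])
    have hUn : ¬ U (m + 1) ≤ centralizer (A : Set G) := hm ▸ Nat.find_spec hex
    have hUm : U m ≤ centralizer (A : Set G) := Classical.not_not.1 (Nat.find_min hex (by omega))
    have hUF : ∀ n, U n ≤ F := fun n => map_subtype_le _
    obtain ⟨D, hDA, hDc, hDU⟩ := hplane _ (hUA _) (hUF _) hUn
    obtain ⟨y, hy, hyA⟩ := SetLike.not_le_iff_exists.1 hDU
    -- an element outside `D` lying in few effective hyperplanes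
    let R : G → Subgroup G := fun g => A ⊓ ⨅ H : {H : Subgroup G // Eff H ∧ g ∈ H}, (H : Subgroup G)
    have hRmem : ∀ {g z : G}, z ∈ R g ↔ z ∈ A ∧ ∀ H, Eff H → g ∈ H → z ∈ H := by
      intro g z
      simp only [R, mem_inf, mem_iInf, Subtype.forall, and_imp]
    have hne : {g | g ∈ A ∧ g ∉ D}.Nonempty := by
      by_contra hno
      have : A ≤ D := fun g hg => Classical.not_not.1 fun h => hno ⟨g, hg, h⟩
      rw [le_antisymm hDA this] at hDc
      have := Nat.card_pos (α := A)
      omega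
    obtain ⟨a, ⟨haA, haD⟩, hamin⟩ :=
      Set.exists_min_image {g | g ∈ A ∧ g ∉ D} (fun g => Nat.card (R g)) (Set.toFinite _) hne
    have hidx : ∀ {H : Subgroup G}, H ≤ A → Nat.card H * 2 = Nat.card A → ∀ {u v : G}, u ∈ A → v ∈ A →
        u ∉ H → v ∉ H → u * v ∈ H := by
      intro H hH hcard u v hu hv huH hvH
      have hrel : (H.subgroupOf A).index = 2 := by
        change H.relIndex A = 2
        exact (Signalizer.relIndex_eq_prime_iff hH).2 hcard
      exact ((mul_mem_iff_of_index_two hrel (a := (⟨u, hu⟩ : A)) (b := ⟨v, hv⟩)).2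
        (iff_of_false huH hvH) :)
    have hRD : ∀ k ∈ R a, k ∈ D → k = 1 := by
      intro k hk hkD
      by_contra hk1
      obtain ⟨H, hH, hkH⟩ := hfaith k (hDA hkD) hk1
      have haH : a ∉ H := fun h => hkH ((hRmem.1 hk).2 H hH h)
      have hmA : a * k ∈ A := A.mul_mem haA (hDA hkD)
      have hmD : a * k ∉ D := fun h => haD ((Subgroup.mul_mem_cancel_right D hkD).1 h)
      have hlt : R (a * k) < R a := by
        refine lt_of_le_of_ne (fun z hz => hRmem.2 ⟨(hRmem.1 hz).1, fun H' hH' ha' => ?_⟩) fun heq => ?_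
        · exact (hRmem.1 hz).2 H' hH' (H'.mul_mem ha' ((hRmem.1 hk).2 H' hH' ha'))
        · exact hkH ((hRmem.1 (heq ▸ hk)).2 H hH (hidx hH.1 hH.2.1 haA (hDA hkD) haH hkH))
      refine absurd (hamin (a * k) ⟨hmA, hmD⟩) (not_le.2 ?_)
      exact lt_of_le_of_ne (card_le_of_le hlt.le) fun e => hlt.ne (eq_of_le_of_card_ge hlt.le e.ge)
    have ha1 : a ≠ 1 := fun h => haD (h ▸ D.one_mem)
    have haa : a * a = 1 := by rw [← pow_two]; exact hA.2 a haA
    have hAeq : ∀ z ∈ A, z ∈ D ∨ z * a ∈ D := by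
      intro z hz
      by_cases hzD : z ∈ D
      · exact Or.inl hzD
      · exact Or.inr (hidx hDA hDc hz haA hzD haD)
    have hDa : A ≤ D ⊔ zpowers a := by
      intro z hz
      rcases hAeq z hz with h | h
      · exact mem_sup_left h
      · rw [show z = z * a * a by rw [mul_assoc, haa, mul_one]]
        exact mul_mem (mem_sup_left h) (mem_sup_right (mem_zpowers a))
    set F' := F ⊓ centralizer {a} with hF'
    have hDF' : D ≤ normalizer (F' : Set G) :=
      hDA.trans (Signalizer.le_normalizer_inf hAF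
        (Signalizer.le_normalizer_of_le_centralizer (Signalizer.ea_le_centralizer_singleton hA haA)))
    have hfD : D ⊓ centralizer (F' : Set G) = ⊥ := by
      rw [eq_bot_iff]
      rintro k ⟨hkD, hkC⟩
      rw [mem_bot]
      refine hRD k (hRmem.2 ⟨hDA hkD, fun H hH ha => ?_⟩) hkD
      by_contra hkH
      refine hH.2.2 fun f hf' => mem_centralizer_iff.2 fun z hz => ?_
      have hfk : f ∈ centralizer ({k} : Set G) := mem_centralizer_singleton_iff.2
        ((mem_centralizer_iff.1 hkC f ⟨hf'.1, centralizer_le (by simpa using ha) hf'.2⟩))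
      by_cases hzH : z ∈ H
      · exact mem_centralizer_iff.1 hf'.2 z hzH
      · have hzk : z * k ∈ H := hidx hH.1 hH.2.1 hz (hDA hkD) hzH hkH
        have h1 : Commute (z * k) f := mem_centralizer_iff.1 hf'.2 _ hzk
        have h2 : Commute k f := (mem_centralizer_singleton_iff.1 hfk).symm
        have := h1.mul_left h2.inv_left
        rwa [mul_inv_cancel_right] at this
    have hDd : Nat.card D = 2 ^ d := by
      rw [hc, pow_succ] at hDc
      omega
    haveI := hFn
    have hF'n : Group.IsNilpotent F' :=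
      Group.nilpotent_of_mulEquiv (subgroupOfEquivOfLe (inf_le_left : F' ≤ F))
    obtain ⟨a', x', hax, hgen, hcomm⟩ := ih D F' (Signalizer.ea_mono hA hDA) hDd hDF' hF'n
      (hFo.of_dvd_nat (card_dvd_of_le inf_le_left)) hfD
    -- the element inverted by `a`
    set x := y⁻¹ * (a * y * a⁻¹) with hxdef
    have hyU : y ∈ U (m + 1) := hy.1
    have hxU : x ∈ U (m + 1) :=
      mul_mem (Subgroup.inv_mem _ hyU) (Signalizer.le_normalizer_iff_conj_mem.1 (hUA _) a haA y hyU)
    have hainv : a⁻¹ = a := inv_eq_of_mul_eq_one_left haa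
    have hxinv : a * x * a⁻¹ = x⁻¹ := by
      have h2 : a * (a * y * a⁻¹) * a⁻¹ = y := by
        rw [hainv, ← mul_assoc, ← mul_assoc, haa, one_mul, mul_assoc, haa, mul_one]
      calc a * x * a⁻¹ = (a * y * a⁻¹)⁻¹ * (a * (a * y * a⁻¹) * a⁻¹) := by rw [hxdef]; group
        _ = x⁻¹ := by rw [h2, hxdef]; group
    have hDA' : ∀ {u v : G}, u ∈ A → v ∈ A → Commute u v := fun hu hv => Signalizer.ea_comm hA hu hv
    have hxD : ∀ u ∈ D, Commute u x := by
      intro u hu
      have h1 : Commute u y := mem_centralizer_iff.1 hy.2 u hu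
      have h2 : Commute u a := hDA' (hDA hu) haA
      exact h1.inv_right.mul_right ((h2.mul_right h1).mul_right h2.inv_right)
    have hx1 : x ≠ 1 := by
      intro h
      apply hyA
      have hay : Commute a y := by
        rw [hxdef, inv_mul_eq_one, eq_mul_inv_iff_mul_eq] at h
        exact h.symm
      refine mem_centralizer_iff.2 fun z hz => ?_
      rcases hAeq z hz with hzD | hzD
      · exact mem_centralizer_iff.1 hy.2 z hzD
      · have h3 : Commute (z * a * a) y :=
          (show Commute (z * a) y from mem_centralizer_iff.1 hy.2 _ hzD).mul_left hay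
        rwa [mul_assoc, haa, mul_one] at h3
    have hxF : x ∈ F := hUF _ hxU
    have hxy : ∀ f ∈ F', Commute x f := by
      intro f hf'
      obtain ⟨xF, hxFm, hxeq⟩ := hxU
      have hc1 : x * f * x⁻¹ * f⁻¹ ∈ U m :=
        ⟨⁅xF, (⟨f, hf'.1⟩ : F)⁆, Subgroup.mem_upperCentralSeries_succ_iff.1 hxFm _, by
          rw [← hxeq]; simp [commutatorElement_def]⟩
      have hc2 : Commute a (x * f * x⁻¹ * f⁻¹) := mem_centralizer_iff.1 (hUm hc1) a haA
      have haf : a * f * a⁻¹ = f := by
        rw [show a * f = f * a from (mem_centralizer_singleton_iff.1 hf'.2).symm, mul_inv_cancel_right]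
      have h3 : x⁻¹ * f * x * f⁻¹ = x * f * x⁻¹ * f⁻¹ := by
        have h4 : a * (x * f * x⁻¹ * f⁻¹) * a⁻¹ = x * f * x⁻¹ * f⁻¹ := by
          rw [hc2.eq, mul_inv_cancel_right]
        calc x⁻¹ * f * x * f⁻¹ = x⁻¹ * f * (x⁻¹)⁻¹ * f⁻¹ := by group
          _ = (a * x * a⁻¹) * (a * f * a⁻¹) * (a * x * a⁻¹)⁻¹ * (a * f * a⁻¹)⁻¹ := by rw [hxinv, haf]
          _ = a * (x * f * x⁻¹ * f⁻¹) * a⁻¹ := by group
          _ = _ := h4
      refine commute_of_sq hFo hxF (Commute.symm ?_)
      show f * (x * x) = x * x * f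
      calc f * (x * x) = x * (x⁻¹ * f * x * f⁻¹) * f * x := by group
        _ = x * (x * f * x⁻¹ * f⁻¹) * f * x := by rw [h3]
        _ = x * x * f := by group
    refine ⟨Fin.cons a a', Fin.cons x x', ?_, ?_, ?_⟩
    · intro i
      induction i using Fin.cases with
      | zero => exact ⟨haA, ha1, hxF, hx1, hxinv⟩
      | succ i => exact ⟨hDA (hax i).1, (hax i).2.1, (hax i).2.2.1.1, (hax i).2.2.2.1, (hax i).2.2.2.2⟩
    · refine hDa.trans (sup_le (hgen.trans (closure_mono ?_)) (zpowers_le.2 (subset_closure ⟨0, rfl⟩)))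
      rintro _ ⟨i, rfl⟩
      exact ⟨i.succ, by simp⟩
    · intro i j hij
      induction i using Fin.cases with
      | zero =>
        induction j using Fin.cases with
        | zero => exact absurd rfl hij
        | succ j =>
          exact ⟨(mem_centralizer_singleton_iff.1 (hax j).2.2.1.2).symm, hxy _ (hax j).2.2.1⟩
      | succ i =>
        induction j using Fin.cases with
        | zero => exact ⟨hxD _ (hax i).1, (hxy _ (hax i).2.2.1).symm⟩
        | succ j => exact hcomm i j fun h => hij (congrArg Fin.succ h)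


/-- Let G be finite, L ≤ G solvable of odd order, and A an elementary abelian 2-subgroup of order 2^d (d ≥ 1) normalizing L with C_A(L) = 1. Then there are subgroups A_1, …, A_d of A of order 2 generating A and subgroups L_1, …, L_d of L such that each A_i ⊔ L_i is dihedral of order 2 n_i with n_i odd and at least 3, and A_i ⊔ L_i commutes elementwise with A_j ⊔ L_j for i ≠ j. -/
theorem result {G : Type*} [Group G] [Finite G] (L A : Subgroup G) (hLs : Group.IsSolvable ↥L) (hLodd : Odd (Nat.card ↥L)) (hA : Cfsg.IsElementaryAbelian 2 A) (d : ℕ) (hd : 1 ≤ d) (hAd : Nat.card ↥A = 2 ^ d) (hAL : A ≤ Subgroup.normalizer (L : Set G)) (hfaith : A ⊓ Subgroup.centralizer (L : Set G) = ⊥) : ∃ (Ai : Fin d → Subgroup G) (Li : Fin d → Subgroup G) (n : Fin d → ℕ), (∀ i, Ai i ≤ A ∧ Nat.card ↥(Ai i) = 2 ∧ Li i ≤ L ∧ Odd (n i) ∧ 3 ≤ n i ∧ Nonempty (↥(Ai i ⊔ Li i) ≃* DihedralGroup (n i))) ∧ (⨆ i, Ai i) = A ∧ ∀ i j, i ≠ j → ∀ x ∈ Ai i ⊔ Li i, ∀ y ∈ Ai j ⊔ Li j, x * y = y * x := by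
  classical
  haveI := hLs
  set F0 := fittingSubgroup ↥L with hF0
  haveI : F0.Normal := FittingCores.fitting_normal
  set F := F0.map L.subtype with hF
  have hFL : F ≤ L := Subgroup.map_subtype_le _
  have hFo : Odd (Nat.card F) := hLodd.of_dvd_nat (Subgroup.card_dvd_of_le hFL)
  haveI : Group.IsNilpotent ↥F0 := FittingCores.fitting_nilpotent
  have hFn : Group.IsNilpotent F :=
    Group.nilpotent_of_mulEquiv (F0.equivMapOfInjective _ L.subtype_injective)
  have hAF : A ≤ Subgroup.normalizer (F : Set G) := by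
    refine Signalizer.le_normalizer_iff_conj_mem.2 ?_
    rintro b hb _ ⟨v, hv, rfl⟩
    let c := L.normalizerMonoidHom ⟨b, hAL hb⟩
    refine ⟨c v, ?_, rfl⟩
    rw [hF0, ← FittingCores.fitting_map_equiv c]
    exact Subgroup.mem_map_of_mem _ hv
  have hfF : A ⊓ Subgroup.centralizer (F : Set G) = ⊥ := by
    rw [eq_bot_iff, ← hfaith]
    rintro a ⟨ha, haF⟩
    refine ⟨ha, Subgroup.mem_centralizer_iff.2 fun l hl => ?_⟩
    have hfix : ∀ f ∈ F, a * f * a⁻¹ = f := fun f hf => by
      rw [← Subgroup.mem_centralizer_iff.1 haF f hf, mul_inv_cancel_right]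
    have hal : a * l * a⁻¹ ∈ L := Signalizer.le_normalizer_iff_conj_mem.1 hAL a ha l hl
    let z : ↥L := ⟨l, hl⟩⁻¹ * ⟨a * l * a⁻¹, hal⟩
    have hz : z ∈ F0 := by
      refine FittingCores.centralizer_fitting_le (Subgroup.mem_centralizer_iff.2 fun f hf => ?_)
      refine Subtype.ext ?_
      show (f : G) * (l⁻¹ * (a * l * a⁻¹)) = l⁻¹ * (a * l * a⁻¹) * (f : G)
      have hmem : l * (f : G) * l⁻¹ ∈ F :=
        ⟨⟨l, hl⟩ * f * ⟨l, hl⟩⁻¹, Subgroup.Normal.conj_mem inferInstance f hf _, rfl⟩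
      have h1 : a * (l * (f : G) * l⁻¹) * a⁻¹ = l * (f : G) * l⁻¹ := hfix _ hmem
      have h2 : a * (f : G) * a⁻¹ = f := hfix _ ⟨f, hf, rfl⟩
      calc (f : G) * (l⁻¹ * (a * l * a⁻¹)) = l⁻¹ * (l * (f : G) * l⁻¹) * (a * l * a⁻¹) := by group
        _ = l⁻¹ * (a * (l * (f : G) * l⁻¹) * a⁻¹) * (a * l * a⁻¹) := by rw [h1]
        _ = l⁻¹ * (a * l * a⁻¹) * (a * (f : G) * a⁻¹) := by group
        _ = _ := by rw [h2]
    have hzF : (z : G) ∈ F := ⟨z, hz, rfl⟩
    have hz1 : (z : G) = 1 := by
      refine odd_eq_one hFo hzF ?_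
      have haa : a * a = 1 := by rw [← pow_two]; exact hA.2 a ha
      have haa' : a⁻¹ * a⁻¹ = 1 := by rw [← mul_inv_rev, haa, inv_one]
      have h3 : a * (z : G) * a⁻¹ = (z : G)⁻¹ := by
        calc a * (l⁻¹ * (a * l * a⁻¹)) * a⁻¹ = (a * l * a⁻¹)⁻¹ * (a * a) * l * (a⁻¹ * a⁻¹) := by group
          _ = (a * l * a⁻¹)⁻¹ * l := by rw [haa, haa', mul_one, mul_one]
          _ = (l⁻¹ * (a * l * a⁻¹))⁻¹ := by group
      rw [hfix _ hzF] at h3
      nth_rw 1 [h3]
      rw [inv_mul_cancel]
    have h4 : l = a * l * a⁻¹ := inv_mul_eq_one.1 (show l⁻¹ * (a * l * a⁻¹) = 1 from hz1)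
    exact eq_mul_inv_iff_mul_eq.1 h4
  obtain ⟨a, x, hax, hgen, hcomm⟩ := aux d A F hA hAd hAF hFn hFo hfF
  have hord : ∀ i, orderOf (a i) = 2 := fun i =>
    orderOf_eq_prime (hA.2 _ (hax i).1) (hax i).2.1
  refine ⟨fun i => Subgroup.zpowers (a i), fun i => Subgroup.zpowers (x i), fun i => orderOf (x i),
    fun i => ⟨Subgroup.zpowers_le.2 (hax i).1, by rw [Nat.card_zpowers, hord],
      Subgroup.zpowers_le.2 (hFL (hax i).2.2.1),
      hFo.of_dvd_nat (Subgroup.orderOf_dvd_natCard F (hax i).2.2.1), ?_, ?_⟩, ?_, ?_⟩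
  · have h1 := orderOf_pos (x i)
    have h2 : orderOf (x i) ≠ 1 := fun h => (hax i).2.2.2.1 (orderOf_eq_one_iff.1 h)
    have h3 := Nat.odd_iff.1 (hFo.of_dvd_nat (Subgroup.orderOf_dvd_natCard F (hax i).2.2.1))
    show 3 ≤ orderOf (x i)
    omega
  · refine TwoLift.dihedral_equiv rfl (by rw [← pow_two]; exact hA.2 _ (hax i).1) (hax i).2.2.2.2 ?_ ?_
    · intro hmem
      refine (hax i).2.1 (odd_eq_one hFo (Subgroup.zpowers_le.2 (hax i).2.2.1 hmem) ?_)
      rw [← pow_two]; exact hA.2 _ (hax i).1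
    · show Subgroup.zpowers (a i) ⊔ Subgroup.zpowers (x i) = _
      rw [Subgroup.zpowers_eq_closure, Subgroup.zpowers_eq_closure, ← Subgroup.closure_union,
        Set.union_comm, Set.singleton_union]
  · refine le_antisymm (iSup_le fun i => Subgroup.zpowers_le.2 (hax i).1)
      (hgen.trans ((Subgroup.closure_le _).2 ?_))
    rintro _ ⟨i, rfl⟩
    exact (le_iSup (fun i => Subgroup.zpowers (a i)) i) (Subgroup.mem_zpowers _)
  · intro i j hij
    have hle : ∀ g : G, Commute g (a j) → Commute g (x j) →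
        Subgroup.zpowers (a j) ⊔ Subgroup.zpowers (x j) ≤ Subgroup.centralizer ({g} : Set G) := fun g h1 h2 =>
      sup_le (Subgroup.zpowers_le.2 (Subgroup.mem_centralizer_singleton_iff.2 h1.symm.eq))
        (Subgroup.zpowers_le.2 (Subgroup.mem_centralizer_singleton_iff.2 h2.symm.eq))
    intro u hu v hv
    have hu' : Subgroup.zpowers (a i) ⊔ Subgroup.zpowers (x i) ≤ Subgroup.centralizer ({v} : Set G) := by
      refine sup_le (Subgroup.zpowers_le.2 ?_) (Subgroup.zpowers_le.2 ?_)
      · have := Subgroup.mem_centralizer_singleton_iff.1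
          (hle (a i) (Signalizer.ea_comm hA (hax i).1 (hax j).1) (hcomm i j hij).1 hv)
        exact Subgroup.mem_centralizer_singleton_iff.2 this.symm
      · have := Subgroup.mem_centralizer_singleton_iff.1
          (hle (x i) (hcomm j i hij.symm).1.symm (hcomm i j hij).2 hv)
        exact Subgroup.mem_centralizer_singleton_iff.2 this.symm
    exact (Subgroup.mem_centralizer_singleton_iff.1 (hu' hu))

end Cfsg.Agent.S1349
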