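import Cfsg.Statements.S1371
import Cfsg.Agent.Lib.OddOrder.DerivedSigma

set_option autoImplicit false
open Cfsg

namespace Cfsg.Agent.S1371

open scoped Pointwise

/-- Let G be a minimal simple group of odd order, M a maximal subgroup with standard factorisation M = K U M_σ, K ≠ 1, K* = M_σ ∩ C_G(K), and Ẑ the set of elements of K K* outside K ∪ K*. Then the union of the M-conjugates of Ẑ equals A₀(M) with A(M) removed, and it is a TI-subset of G. -/
theorem result {G : Type*} [Group G] [Finite G] (hG : Cfsg.IsMinSimpleOddOrder G)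
    (M : Subgroup G) (hM : IsCoatom M) (K U : Subgroup G) (hKU : Cfsg.IsSigmaDecomposition M K U) (hK1 : K ≠ ⊥) :
    {a : G | ∃ m ∈ M, ∃ z ∈ ((↑(K ⊔ (Cfsg.sigmaCore M ⊓ Subgroup.centralizer (K : Set G))) : Set G) \ ((K : Set G) ∪ ↑(Cfsg.sigmaCore M ⊓ Subgroup.centralizer (K : Set G)))), a = m * z * m⁻¹} = Cfsg.sigmaA0 M K \ Cfsg.sigmaA M U ∧
      Cfsg.IsTISubset (Cfsg.sigmaA0 M K \ Cfsg.sigmaA M U) := by
  have m := OddOrder.Pairing.Member.of_hall hM hKU.hall hK1
  obtain ⟨N, D, P⟩ := m.exists_pair hG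
  obtain ⟨E, V, hE, F⟩ := P.left.factor hG
  haveI := hKU.cyclic
  haveI := P.comm hG
  have hnW := OddOrder.Pairing.normalizer_UK hG hM hKU
  have hT := P.outer_eq hG
  rw [← P.D_eq] at hT
  rw [← hT]
  set Z := K ⊔ (Cfsg.sigmaCore M ⊓ Subgroup.centralizer (K : Set G)) with hZdef
  have heq : {a : G | ∃ m ∈ M, ∃ z ∈ OddOrder.Pairing.outer Z, a = m * z * m⁻¹} =
      Cfsg.sigmaA0 M K \ Cfsg.sigmaA M U := by
    ext a
    constructor
    · rintro ⟨n, hn, z, hz, rfl⟩
      obtain ⟨k, hk, d, hd, rfl, hkd⟩ := P.left.sup_split hz.1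
      have hd1 : d ≠ 1 := fun e => by
        rw [e, mul_one] at hz
        exact hz.2 N ⟨D, P.right⟩ (P.right_inf.ge hk).1
      have hdZ : d ∈ Z := (P.left.inf_eq.ge hd).2
      refine ⟨⟨⟨M.mul_mem (M.mul_mem hn (P.left.Z_le hz.1)) (M.inv_mem hn), n * d * n⁻¹,
        (Subgroup.mem_normalizer_iff.1 (OddOrder.Exceptional.le_normalizer_sigmaCore M hn) d).1 hd.1,
        fun e => hd1 (conj_eq_one_iff.1 e), ?_⟩, ?_⟩, ?_⟩
      · exact ((Commute.conj_iff n).2 (show Commute (k * d) d from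
          (Subgroup.mem_centralizer_iff.1 (Subgroup.le_centralizer Z hdZ) (k * d) hz.1))).eq
      · rintro ⟨k', hk', -, n', -, he⟩
        obtain ⟨r, hr, hrd⟩ := Nat.exists_prime_and_dvd fun e => hd1 (orderOf_eq_one_iff.1 e)
        refine P.left.K_primes hk' hr ?_ (OddOrder.Support.primes_of_mem_sigmaCore hd.1 hr hrd)
        have h1 : orderOf (k * d) = orderOf k' := by
          rw [← MulEquiv.orderOf_eq (MulAut.conj n) (k * d), ← MulEquiv.orderOf_eq (MulAut.conj n') k']
          exact congrArg orderOf he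
        rw [← h1, hkd.orderOf_mul_eq_mul_orderOf_of_coprime (Nat.coprime_of_dvd fun t ht h1 h2 =>
          P.left.K_primes hk ht h1 (OddOrder.Support.primes_of_mem_sigmaCore hd.1 ht h2))]
        exact hrd.trans (dvd_mul_left _ _)
      · rintro ⟨-, hW⟩
        have hzW : k * d ∈ U ⊔ Cfsg.sigmaCore M := (Subgroup.mem_normalizer_iff.1 (hnW hn) (k * d)).2 hW
        have hkW : k ∈ (U : Set G) * (Cfsg.sigmaCore M : Set G) := by
          rw [← Subgroup.coe_mul_of_left_le_normalizer_right _ _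
            (hKU.compl.1.trans (OddOrder.Exceptional.le_normalizer_sigmaCore M))]
          have := mul_mem hzW (inv_mem (Subgroup.mem_sup_right hd.1))
          rwa [mul_inv_cancel_right] at this
        obtain ⟨u, hu, s, hs, he⟩ := hkW
        have he' : u * s = k := he
        have hu1 : u = 1 := Subgroup.mem_bot.1 (hKU.compl.2.2.1.le ⟨hu, by
          rw [show u = k * s⁻¹ by rw [← he']; group]
          exact mul_mem (Subgroup.mem_sup_left hk) (Subgroup.mem_sup_right (inv_mem hs))⟩)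
        rw [hu1, one_mul] at he'
        have hk1 : k = 1 := by
          by_contra hk1
          obtain ⟨r, hr, hrd⟩ := Nat.exists_prime_and_dvd fun e => hk1 (orderOf_eq_one_iff.1 e)
          exact P.left.K_primes hk hr hrd (OddOrder.Support.primes_of_mem_sigmaCore (he' ▸ hs) hr hrd)
        rw [hk1, one_mul] at hz
        exact hz.2 M ⟨K, P.left⟩ hd.1
    · rintro ⟨⟨ha, hnK⟩, hnA⟩
      have haW : a ∉ U ⊔ Cfsg.sigmaCore M := fun h => hnA ⟨ha, h⟩
      obtain ⟨r, hr, hrκ, hra⟩ : ∃ r, r.Prime ∧ r ∈ Cfsg.kappa M ∧ r ∣ orderOf a := by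
        by_contra hno
        push Not at hno
        haveI : ((U ⊔ Cfsg.sigmaCore M).subgroupOf M).Normal := Subgroup.normal_subgroupOf_of_le_normalizer hnW
        have hWM : U ⊔ Cfsg.sigmaCore M ≤ M := sup_le hKU.compl.1 (OddOrder.Exceptional.sigmaCore_le M)
        refine haW (Subgroup.mem_subgroupOf.1 (OddOrder.Exceptional.le_of_coprime_index
          (N := (U ⊔ Cfsg.sigmaCore M).subgroupOf M) (X := (Subgroup.zpowers a).subgroupOf M)
          (Nat.coprime_of_dvd fun t ht h1 h2 => ?_) (show (⟨a, ha.1⟩ : M) ∈ _ from Subgroup.mem_zpowers a)))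
        rw [Nat.card_congr (Subgroup.subgroupOfEquivOfLe (Subgroup.zpowers_le.2 ha.1)).toEquiv, Nat.card_zpowers] at h1
        refine hno t ht (hKU.hall.2.1 t ht (h2.trans ?_)) h1
        have htop : ((U ⊔ Cfsg.sigmaCore M).subgroupOf M) ⊔ K.subgroupOf M = ⊤ := by
          rw [← Subgroup.subgroupOf_sup hWM hKU.hall.1, Subgroup.subgroupOf_eq_top]
          intro x hx
          obtain ⟨w, hw, k, hk, rfl⟩ := OddOrder.Pairing.exists_UK hG hM hKU hx
          exact mul_mem (Subgroup.mem_sup_left hw) (Subgroup.mem_sup_right hk)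
        have h3 := SolvBasic.card_sup_mul_card_inf (N := (U ⊔ Cfsg.sigmaCore M).subgroupOf M) (H := K.subgroupOf M)
          (fun x _ => by rw [Subgroup.normalizer_eq_top]; trivial)
        rw [htop, Subgroup.card_top, Nat.card_congr (Subgroup.subgroupOfEquivOfLe hKU.hall.1).toEquiv,
          ← ((U ⊔ Cfsg.sigmaCore M).subgroupOf M).card_mul_index, mul_assoc] at h3
        exact Dvd.intro _ (Nat.eq_of_mul_eq_mul_left Nat.card_pos h3)
      obtain ⟨b, hb, hbo⟩ : ∃ b ∈ Subgroup.zpowers a, orderOf b = r :=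
        ⟨a ^ (orderOf a / r), Subgroup.pow_mem _ (Subgroup.mem_zpowers a) _,
          orderOf_pow_orderOf_div (orderOf_pos a).ne' hra⟩
      obtain ⟨n, hn, hnb⟩ : ∃ n ∈ M, n * b * n⁻¹ ∈ K := by
        haveI := OddOrder.MinSimple.isSolvable hG hM.1
        have hcard : Nat.card M = Nat.card K * K.relIndex M := by
          have := Subgroup.relIndex_mul_relIndex ⊥ K M bot_le hKU.hall.1
          rw [Subgroup.relIndex_bot_left, Subgroup.relIndex_bot_left] at this
          exact this.symm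
        have hbM : Subgroup.zpowers b ≤ M := Subgroup.zpowers_le.2 (Subgroup.zpowers_le.2 ha.1 hb)
        obtain ⟨⟨g, hg⟩, hle⟩ := HallSolv.hall_conj_le (G := M) hcard
          (Nat.coprime_of_dvd fun t ht h1 h2 => hKU.hall.2.2 t ht (hKU.hall.2.1 t ht h1) h2)
          (H := K.subgroupOf M) (K := (Subgroup.zpowers b).subgroupOf M)
          (Nat.card_congr (Subgroup.subgroupOfEquivOfLe hKU.hall.1).toEquiv)
          (Nat.coprime_of_dvd fun t ht h1 h2 => by
            rw [Nat.card_congr (Subgroup.subgroupOfEquivOfLe hbM).toEquiv, Nat.card_zpowers, hbo,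
              Nat.prime_dvd_prime_iff_eq ht hr] at h1
            exact hKU.hall.2.2 t ht (h1 ▸ hrκ) h2)
        exact ⟨g, hg, hle (Subgroup.smul_mem_pointwise_smul (⟨b, hbM (Subgroup.mem_zpowers b)⟩ : M)
          (MulAut.conj (⟨g, hg⟩ : M)) ((Subgroup.zpowers b).subgroupOf M) (Subgroup.mem_zpowers b))⟩
      have hb1 : n * b * n⁻¹ ≠ 1 := fun e => by
        rw [conj_eq_one_iff.1 e, orderOf_one] at hbo
        exact hr.ne_one hbo.symm
      obtain ⟨i, hi⟩ := hb
      have hzC : n * a * n⁻¹ ∈ Z := by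
        rw [← P.left.sup, ← F.centralizer_of_mem hE inferInstance hnb hb1]
        refine ⟨M.mul_mem (M.mul_mem hn ha.1) (M.inv_mem hn), Subgroup.mem_centralizer_singleton_iff.2 ?_⟩
        exact ((Commute.conj_iff n).2 (show Commute a b from hi ▸ Commute.self_zpow a i)).eq
      refine ⟨n⁻¹, M.inv_mem hn, n * a * n⁻¹, ?_, by group⟩
      rw [hT]
      refine ⟨hzC, ?_⟩
      rintro (h | h)
      · refine hnK ⟨_, h, fun e => ?_, n⁻¹, M.inv_mem hn, by group⟩
        rw [conj_eq_one_iff.1 e] at haW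
        exact haW (one_mem _)
      · exact haW (Subgroup.mem_sup_right ((Subgroup.mem_normalizer_iff.1
          (OddOrder.Exceptional.le_normalizer_sigmaCore M hn) a).2 h.1))
  refine ⟨heq, ?_⟩
  rw [← heq]
  intro g hg x hx hgx
  refine absurd (Subgroup.mem_set_normalizer_iff.2 fun y => ?_) hg
  obtain ⟨n, hn, z, hz, rfl⟩ := hx
  obtain ⟨n', hn', z', hz', he⟩ := hgx
  have hgM : g ∈ M := by
    have h1 : n'⁻¹ * g * n * z * (n'⁻¹ * g * n)⁻¹ = z' := by
      calc n'⁻¹ * g * n * z * (n'⁻¹ * g * n)⁻¹ = n'⁻¹ * (g * (n * z * n⁻¹) * g⁻¹) * n' := by group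
        _ = z' := by rw [he]; group
    have h2 := P.left.Z_le (OddOrder.Pairing.mem_Z_of_outer hG P.left hz (h1.symm ▸ hz'))
    have : g = n' * (n'⁻¹ * g * n) * n⁻¹ := by group
    rw [this]
    exact M.mul_mem (M.mul_mem hn' h2) (M.inv_mem hn)
  constructor
  · rintro ⟨n₁, hn₁, z₁, hz₁, rfl⟩
    exact ⟨g * n₁, M.mul_mem hgM hn₁, z₁, hz₁, by group⟩
  · rintro ⟨n₁, hn₁, z₁, hz₁, he₁⟩
    refine ⟨g⁻¹ * n₁, M.mul_mem (M.inv_mem hgM) hn₁, z₁, hz₁, ?_⟩
    calc y = g⁻¹ * (g * y * g⁻¹) * g := by group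
      _ = g⁻¹ * n₁ * z₁ * (g⁻¹ * n₁)⁻¹ := by rw [he₁]; group

end Cfsg.Agent.S1371
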