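import Cfsg.Statements.S1380
import Cfsg.Agent.Lib.OddOrder.TypeOne

set_option autoImplicit false
open Cfsg

namespace Cfsg.Agent.S1380

/-- Let G be a minimal simple group of odd order and M a maximal subgroup with standard factorisation M = K U M_σ. Then M is of Type I if and only if K = 1 and U ≠ 1. -/
theorem result {G : Type*} [Group G] [Finite G] (hG : Cfsg.IsMinSimpleOddOrder G)
    (M : Subgroup G) (hM : IsCoatom M) (K U : Subgroup G) (hKU : Cfsg.IsSigmaDecomposition M K U) :
    Cfsg.IsOfTypeI M ↔ (K = ⊥ ∧ U ≠ ⊥) := by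
  have main : Cfsg.IsOfTypeI M → Cfsg.kappa M = ∅ := fun h => OddOrder.Types.typeI_kappa hG hM h
  constructor
  · intro hI
    have hκ := main hI
    have hK : K = ⊥ := by
      by_contra hK
      obtain ⟨r, hr⟩ := OddOrder.Types.kappa_nonempty hKU hK
      rw [hκ] at hr
      exact hr
    refine ⟨hK, fun hU => hI.1.2.2.2.1 ?_⟩
    obtain ⟨he, -⟩ := OddOrder.Types.decomp_of_kappa_empty hG hM hκ
    have hMS : M ≤ Cfsg.sigmaCore M := fun m hm => by
      obtain ⟨u, hu, w, hw, rfl⟩ := hKU.compl.2.2.2 m hm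
      rw [hU, Subgroup.mem_bot] at hu
      rw [hK, bot_sup_eq] at hw
      rwa [hu, one_mul]
    refine top_le_iff.1 fun x _ => ?_
    have hx : (x : G) ∈ Cfsg.fittingHallOf M := he ▸ hMS x.2
    obtain ⟨y, hy, e⟩ := hx
    exact (Subtype.ext e : y = x) ▸ hy
  · rintro ⟨hK, hU⟩
    subst hK
    exact OddOrder.TypeOne.typeI hG hM hKU hU

end Cfsg.Agent.S1380
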