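import Cfsg.Statements.S1384
import Cfsg.Agent.Lib.OddOrder.HallFusion

set_option autoImplicit false
open Cfsg

namespace Cfsg.Agent.S1384

/-- Let G be a minimal simple group of odd order and H a nilpotent subgroup whose order is coprime to its index. If x ∈ H and gxg⁻¹ ∈ H for some g ∈ G, then nxn⁻¹ = gxg⁻¹ for some n in the normalizer of H. -/
theorem result {G : Type*} [Group G] [Finite G] (hG : Cfsg.IsMinSimpleOddOrder G)
    (H : Subgroup G) (hHn : Group.IsNilpotent H) (hHall : (Nat.card H).Coprime H.index) :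
    ∀ x ∈ H, ∀ g : G, g * x * g⁻¹ ∈ H → ∃ n ∈ Subgroup.normalizer (H : Set G), n * x * n⁻¹ = g * x * g⁻¹ := by
  intro x hx g hgx
  by_cases hH1 : H = ⊥
  · rw [hH1, Subgroup.mem_bot] at hx
    exact ⟨1, one_mem _, by simp [hx]⟩
  -- normal Sylow subgroups of `H` are Sylow subgroups of `G`
  have hsyl : ∀ (r : ℕ) [Fact r.Prime] (P : Sylow r H), (P : Subgroup H).Normal := fun r hr P =>
    (Group.isNilpotent_of_finite_tfae (G := H)).out 0 3 rfl rfl |>.1 hHn r hr P
  have hidx : ∀ (r : ℕ) [Fact r.Prime] (P : Sylow r H) (Y : Subgroup G), r ∣ Nat.card H →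
      (P : Subgroup H).map H.subtype ≤ Y → ¬ r ∣ ((P : Subgroup H).map H.subtype).relIndex Y := by
    intro r hr P Y hd hle h
    have h1 : r ∣ ((P : Subgroup H).map H.subtype).index := h.trans (by
      rw [← Subgroup.relIndex_top_right, ← Subgroup.relIndex_mul_relIndex _ Y ⊤ hle le_top]
      exact Dvd.intro _ rfl)
    rw [← Subgroup.relIndex_top_right,
      ← Subgroup.relIndex_mul_relIndex _ H ⊤ (Subgroup.map_subtype_le _) le_top, Subgroup.relIndex, Subgroup.subgroupOf,
      Subgroup.comap_map_eq_self_of_injective H.subtype_injective, Subgroup.relIndex_top_right] at h1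
    rcases hr.out.dvd_mul.1 h1 with h1 | h1
    · exact P.not_dvd_index h1
    · exact hr.out.ne_one (Nat.eq_one_of_dvd_coprimes hHall hd h1)
  obtain ⟨p, hp, hpd⟩ := Nat.exists_prime_and_dvd fun e => hH1 (Subgroup.card_eq_one.1 e)
  haveI := Fact.mk hp
  obtain ⟨P⟩ : Nonempty (Sylow p H) := inferInstance
  set Pm := (P : Subgroup H).map H.subtype with hPm
  have hPm1 : Pm ≠ ⊥ := fun e =>
    P.ne_bot_of_dvd_card hpd ((Subgroup.map_eq_bot_iff_of_injective _ H.subtype_injective).1 e)
  obtain ⟨M, hM, hPM⟩ := OddOrder.Uniq.exists_maximal_ge (OddOrder.MinSimple.normalizer_ne_top hG hPm1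
    (OddOrder.MinSimple.pSubgroup_ne_top hG (P.isPGroup'.map H.subtype)))
  have hHM : H ≤ M := (AxB.le_normalizer_map_subtype (hsyl p P)).trans hPM
  have hPM' : Pm ≤ M := (Subgroup.map_subtype_le _).trans hHM
  have hpσ : p ∈ Cfsg.sigma M := by
    refine ⟨hp, hpd.trans (Subgroup.card_dvd_of_le hHM),
      ((P.isPGroup'.map H.subtype).of_equiv (Subgroup.subgroupOfEquivOfLe hPM').symm).toSylow
        (hidx p P M hpd hPM'), ?_⟩
    show Subgroup.normalizer (((Pm.subgroupOf M).map M.subtype : Subgroup G) : Set G) ≤ M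
    rw [Subgroup.map_subgroupOf_eq_of_le hPM']
    exact hPM
  have hPS : Pm ≤ Cfsg.sigmaCore M := OddOrder.Exceptional.le_sigmaCore hG hM hpσ (P.isPGroup'.map H.subtype) hPM'
  have hPhall : (Nat.card Pm).Coprime (Pm.relIndex (Cfsg.sigmaCore M)) := by
    obtain ⟨n, hn⟩ := IsPGroup.iff_card.1 (P.isPGroup'.map H.subtype)
    rw [hn]
    exact ((hp.coprime_iff_not_dvd).2 (hidx p P _ hpd hPS)).pow_left n
  have hσ : ∀ r : ℕ, r.Prime → r ∣ Nat.card H → r ∈ Cfsg.sigma M := by
    intro t ht htd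
    by_contra htσ
    haveI := Fact.mk ht
    have htp : t ≠ p := fun e => htσ (e ▸ hpσ)
    obtain ⟨T⟩ : Nonempty (Sylow t H) := inferInstance
    set Tm := (T : Subgroup H).map H.subtype with hTm
    have hTM : Tm ≤ M := (Subgroup.map_subtype_le _).trans hHM
    have hcomm : Tm ≤ Subgroup.centralizer (Pm : Set G) := by
      rintro _ ⟨a, ha, rfl⟩
      refine Subgroup.mem_centralizer_iff.2 ?_
      rintro _ ⟨b, hb, rfl⟩
      exact congrArg H.subtype (Subgroup.commute_of_normal_of_disjoint _ _ (hsyl p P) (hsyl t T)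
        (IsPGroup.disjoint_of_ne p t (Ne.symm htp) _ _ P.isPGroup' T.isPGroup') b a hb ha).eq
    obtain ⟨X, hXc, hXτ, hXe⟩ := OddOrder.HallFus.centralizer_structure hG hM hPS hPm1 hPhall
    set C := M ⊓ Subgroup.centralizer (Pm : Set G) with hC
    set CS := Cfsg.sigmaCore M ⊓ Subgroup.centralizer (Pm : Set G) with hCS
    have hTC : Tm ≤ C := le_inf hTM hcomm
    have hXC : X ≤ C := hXe.ge.trans' le_sup_right
    have hXn : X ≤ Subgroup.normalizer (CS : Set G) :=
      (le_inf ((hXC.trans inf_le_left).trans (OddOrder.Exceptional.le_normalizer_sigmaCore M))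
        ((hXC.trans inf_le_right).trans Subgroup.le_normalizer)).trans Subgroup.inf_normalizer_le_normalizer_inf
    have hcop : (Nat.card CS).Coprime (Nat.card X) := Nat.coprime_of_dvd fun r hr h1 h2 =>
      (hXτ r hr h2).2.1 (OddOrder.Exceptional.mem_sigma_of_dvd hr (h1.trans (Subgroup.card_dvd_of_le inf_le_left)))
    have hcard : Nat.card C = Nat.card X * Nat.card CS := by
      have := SolvBasic.card_sup_mul_card_inf hXn
      rw [← hXe, Subgroup.inf_eq_bot_of_coprime hcop, Subgroup.card_bot, mul_one] at this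
      rw [this, mul_comm]
    haveI : Group.IsSolvable C := OddOrder.MinSimple.isSolvable hG (ne_top_of_le_ne_top hM.1 inf_le_left)
    obtain ⟨⟨c, hc⟩, hle⟩ := HallSolv.hall_conj_le (G := C) hcard hcop.symm (H := X.subgroupOf C) (K := Tm.subgroupOf C)
      (Nat.card_congr (Subgroup.subgroupOfEquivOfLe hXC).toEquiv) (by
        rw [Nat.card_congr (Subgroup.subgroupOfEquivOfLe hTC).toEquiv]
        obtain ⟨n, hn⟩ := IsPGroup.iff_card.1 (T.isPGroup'.map H.subtype)
        rw [hn]
        exact ((ht.coprime_iff_not_dvd).2 fun h => htσ (OddOrder.Exceptional.mem_sigma_of_dvd ht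
          (h.trans (Subgroup.card_dvd_of_le inf_le_left)))).pow_left n)
    set T' := Tm.map (MulAut.conj c).toMonoidHom with hT'
    have hT'X : T' ≤ X := by
      rintro _ ⟨z, hz, rfl⟩
      exact hle (Subgroup.smul_mem_pointwise_smul (⟨z, hTC hz⟩ : C) (MulAut.conj (⟨c, hc⟩ : C)) (Tm.subgroupOf C) hz)
    have htX : t ∈ Cfsg.tau2 M := by
      refine hXτ t ht (dvd_trans ?_ (Subgroup.card_dvd_of_le hT'X))
      rw [hT', Subgroup.card_map_of_injective (MulAut.conj c).injective, hTm,
        Subgroup.card_map_of_injective H.subtype_injective]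
      exact T.isPGroup'.card_eq_or_dvd.resolve_left fun e => T.ne_bot_of_dvd_card htd (Subgroup.card_eq_one.1 e)
    obtain ⟨A, hA, hAe, hAc⟩ := OddOrder.ComplBasics.exists_plane_sylow htX
      (((T.isPGroup'.map H.subtype).of_equiv (Subgroup.subgroupOfEquivOfLe hTM).symm).toSylow (hidx t T M htd hTM))
    have hAT : A ≤ Tm := hA.trans (Subgroup.map_subgroupOf_eq_of_le hTM).le
    haveI := hXc
    haveI : IsCyclic A := by
      haveI : IsCyclic T' := isCyclic_of_injective (Subgroup.inclusion hT'X) (Subgroup.inclusion_injective _)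
      haveI : IsCyclic Tm :=
        (Tm.equivMapOfInjective (MulAut.conj c).toMonoidHom (MulAut.conj c).injective).isCyclic.2 inferInstance
      exact isCyclic_of_injective (Subgroup.inclusion hAT) (Subgroup.inclusion_injective _)
    have hexp : Monoid.exponent A ∣ t :=
      Monoid.exponent_dvd_of_forall_pow_eq_one fun a => Subtype.ext (by simpa using hAe.2 a a.2)
    rw [IsCyclic.exponent_eq_card, hAc] at hexp
    exact Nat.not_le.2 (lt_self_pow₀ ht.one_lt one_lt_two) (Nat.le_of_dvd ht.pos hexp)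
  have hHS : H ≤ Cfsg.sigmaCore M := OddOrder.Pairing.le_sigmaCore_of_primes hG hM hHM hσ
  obtain ⟨n, hn, he⟩ := OddOrder.HallFus.fusion hG hM hHS (hHall.coprime_dvd_right (by
    rw [← Subgroup.relIndex_top_right H, ← Subgroup.relIndex_mul_relIndex H _ ⊤ hHS le_top]
    exact Dvd.intro _ rfl)) hx hgx
  exact ⟨n, hn.2, he⟩

end Cfsg.Agent.S1384
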