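import Cfsg.Statements.S1391
import Cfsg.Agent.Lib.OddOrder.TypeA
import Cfsg.Agent.Lib.FiniteGroup.FrobKernelQuat
import Cfsg.Agent.S1375
import Cfsg.Agent.S1376

set_option autoImplicit false
open Cfsg

namespace Cfsg.Agent.S1391

/-- Let G be a minimal simple group of odd order, M a maximal subgroup, X = A(M) or A₀(M), and D the set of x ∈ X with C_G(x) not contained in M. Then two elements of X conjugate in G are conjugate in M; D ⊆ A₁(M) and for x ∈ D the centralizer C_G(x) lies in exactly one maximal subgroup; and for x ∈ D and the maximal subgroup L containing C_G(x): M ∩ L complements L_F in L, C_M(x) complements the normal subgroup C_{L_F}(x) of C_G(x), the order of L_F is coprime to that of C_M(y) for every y ∈ X, x ∈ A(L) but x ∉ A₁(L), L is of Type I or II, and if L is of Type II then M is a Frobenius group with kernel M_F. -/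
theorem result {G : Type*} [Group G] [Finite G] (hG : Cfsg.IsMinSimpleOddOrder G)
    (M : Subgroup G) (hM : IsCoatom M) (X : Set G) (hX : X = Cfsg.typeA M ∨ X = Cfsg.typeA0 M) :
    (∀ x ∈ X, ∀ g : G, g * x * g⁻¹ ∈ X → ∃ m ∈ M, m * x * m⁻¹ = g * x * g⁻¹) ∧
      (∀ x ∈ X, ¬ Subgroup.centralizer ({x} : Set G) ≤ M → x ∈ Cfsg.typeA1 M ∧ ∃! L : Subgroup G, IsCoatom L ∧ Subgroup.centralizer ({x} : Set G) ≤ L) ∧
      ∀ x ∈ X, ¬ Subgroup.centralizer ({x} : Set G) ≤ M → ∀ L : Subgroup G, IsCoatom L → Subgroup.centralizer ({x} : Set G) ≤ L →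
        Cfsg.IsComplIn (Cfsg.fittingHallOf L) (M ⊓ L) L ∧
        Subgroup.centralizer ({x} : Set G) ≤ Subgroup.normalizer ((Cfsg.fittingHallOf L ⊓ Subgroup.centralizer ({x} : Set G) : Subgroup G) : Set G) ∧
        Cfsg.IsComplIn (Cfsg.fittingHallOf L ⊓ Subgroup.centralizer ({x} : Set G)) (M ⊓ Subgroup.centralizer ({x} : Set G)) (Subgroup.centralizer ({x} : Set G)) ∧
        (∀ y ∈ X, (Nat.card (Cfsg.fittingHallOf L)).Coprime (Nat.card ↥(M ⊓ Subgroup.centralizer ({y} : Set G)))) ∧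
        (x ∈ Cfsg.typeA L ∧ x ∉ Cfsg.typeA1 L) ∧
        (Cfsg.IsOfTypeI L ∨ Cfsg.IsOfTypeII L) ∧
        (Cfsg.IsOfTypeII L → ∃ E : Subgroup ↥M, Cfsg.IsFrobeniusComplement E ∧ Cfsg.frobeniusKernel E = ((Cfsg.fittingHall ↥M : Subgroup ↥M) : Set ↥M)) := by
  have hX0 : X ⊆ Cfsg.typeA0 M := by
    rcases hX with rfl | rfl
    exacts [fun a ha => Or.inl ha, subset_rfl]
  refine ⟨fun x hx g hg => OddOrder.TypeA.fusion hG hM (hX0 hx) (hX0 hg), fun x hx hno => ?_,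
    fun x hx hno L hL hC => ?_⟩
  · obtain ⟨hxσ, hx1⟩ := OddOrder.TypeA.mem_sigma_of_large hG hM (hX0 hx) hno
    obtain ⟨N, ⟨hN, hCN⟩, hu, -⟩ := S1375.result hG M hM x hxσ hx1 hno
    refine ⟨?_, N, ⟨hN, hCN⟩, fun L' h => hu L' h.1 h.2⟩
    rw [OddOrder.TypeA.typeA1_eq hG hM]
    exact ⟨hxσ, hx1⟩
  obtain ⟨hxσ, hx1⟩ := OddOrder.TypeA.mem_sigma_of_large hG hM (hX0 hx) hno
  obtain ⟨N, ⟨hN, hCN⟩, hu, hFeq, hCn, hcC, hcN, hdec⟩ := S1375.result hG M hM x hxσ hx1 hno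
  obtain rfl := hu L hL hC
  obtain ⟨K, U, hKU⟩ := OddOrder.FStruct.exists_decomp hG hL
  obtain ⟨hU, hxA, hxL⟩ := hdec K U hKU
  rw [← hFeq]
  have hxsup : x ∈ U ⊔ Cfsg.sigmaCore L := hxA.2
  obtain ⟨hxLm, y, hy, hy1, hxy⟩ := hxA.1
  refine ⟨OddOrder.TypeA.compl_swap hcN, hCn, OddOrder.TypeA.compl_swap hcC,
    fun z hz => OddOrder.TypeA.coprime_cent hG hM hxσ hx1 hno hL hC (hX0 hz),
    ⟨OddOrder.TypeA.mem_typeA hG hL hxLm hx1 (fun hI => ?_) ⟨y, hy, hy1, hxy⟩, fun h => ?_⟩, ?_, fun hII => ?_⟩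
  · have hK1 : K ≠ ⊥ := fun e => hI ((OddOrder.TypeA.typeI_iff hG hL).2 (Set.eq_empty_iff_forall_notMem.2
      fun r hr => OddOrder.Types.K_ne hKU ⟨r, hr⟩ e))
    exact (S1365.result hG L hL K U hKU hK1).1.ge hxsup
  · rw [OddOrder.TypeA.typeA1_eq hG hL] at h
    exact hxL h.1
  · by_cases hK1 : K = ⊥
    · exact Or.inl ((OddOrder.TypeA.typeI_iff hG hL).2 (Set.eq_empty_iff_forall_notMem.2
        fun r hr => OddOrder.Types.K_ne hKU ⟨r, hr⟩ hK1))
    · exact Or.inr ((OddOrder.Types.typeII_iff hG hL hKU).2 ⟨hK1, hU⟩)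
  · have hne : (Cfsg.kappa L).Nonempty :=
      OddOrder.Types.kappa_nonempty hKU ((OddOrder.Types.typeII_iff hG hL hKU).1 hII).1
    obtain ⟨E, hE, -, hF⟩ := OddOrder.PSupp.frobenius hG hM hxσ hx1 hno hL hC hne
    refine ⟨E.subgroupOf M, hF, ?_⟩
    have he : Cfsg.fittingHall ↥M = (Cfsg.sigmaCore M).subgroupOf M := by
      rw [← OddOrder.Support.fittingHall_eq hG hM (OddOrder.PSupp.nilpotent_of_kappa_empty hG hM
        (OddOrder.PSupp.kappa_empty hG hM hxσ hx1 hno hL hC hne)), Cfsg.fittingHallOf, Subgroup.subgroupOf,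
        Subgroup.comap_map_eq_self_of_injective M.subtype_injective]
    rw [he]
    refine FrobKernelQuat.kernel_eq ⟨Subgroup.normal_subgroupOf_of_le_normalizer
      (OddOrder.Exceptional.le_normalizer_sigmaCore M), Subgroup.isComplement'_of_coprime ?_ ?_,
      Char.malnormal_of_isFrobeniusComplement hF, fun e => ?_, hF.1⟩
    · rw [Nat.card_congr (Subgroup.subgroupOfEquivOfLe (OddOrder.Exceptional.sigmaCore_le M)).toEquiv,
        Nat.card_congr (Subgroup.subgroupOfEquivOfLe hE.1).toEquiv, mul_comm]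
      exact (OddOrder.Compl.card_eq hE).symm
    · rw [Nat.card_congr (Subgroup.subgroupOfEquivOfLe (OddOrder.Exceptional.sigmaCore_le M)).toEquiv,
        Nat.card_congr (Subgroup.subgroupOfEquivOfLe hE.1).toEquiv]
      exact (OddOrder.ComplBasics.coprime_card hG hM hE).symm
    · refine hx1 (congrArg Subtype.val (Subgroup.mem_bot.1 (e.le
        (show (⟨x, OddOrder.Exceptional.sigmaCore_le M hxσ⟩ : M) ∈ _ from hxσ))))

end Cfsg.Agent.S1391
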