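import Cfsg.Statements.S1413
import Cfsg.Agent.Lib.OddOrder.PLengthFusion

set_option autoImplicit false
open Cfsg

namespace Cfsg.Agent.S1413

/-- Let G be a minimal simple group of odd order, p a prime and P a Sylow p-subgroup. (c) If Q ≤ P and xQx⁻¹ ≤ P then xQx⁻¹ = yQy⁻¹ for some y ∈ N_G(P). (d) For every Q ≤ P, p does not divide the index of N_P(Q) in N_G(Q). (e) If R is a p-subgroup and Q ≤ P ∩ R is normal in N_G(P), then Q is normal in N_G(R). -/
theorem result {G : Type*} [Group G] [Finite G] (hG : Cfsg.IsMinSimpleOddOrder G) (p : ℕ) [Fact p.Prime] (P : Sylow p G) :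
    (∀ (Q : Subgroup G) (x : G), Q ≤ (P : Subgroup G) → Q.map (MulAut.conj x).toMonoidHom ≤ (P : Subgroup G) →
        ∃ y ∈ Subgroup.normalizer ((P : Subgroup G) : Set G), Q.map (MulAut.conj x).toMonoidHom = Q.map (MulAut.conj y).toMonoidHom) ∧
      (∀ Q : Subgroup G, Q ≤ (P : Subgroup G) →
        ¬ p ∣ ((P : Subgroup G) ⊓ Subgroup.normalizer (Q : Set G)).relIndex (Subgroup.normalizer (Q : Set G))) ∧
      (∀ (R Q : Subgroup G), IsPGroup p R → Q ≤ (P : Subgroup G) ⊓ R →
        Subgroup.normalizer ((P : Subgroup G) : Set G) ≤ Subgroup.normalizer (Q : Set G) →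
        Subgroup.normalizer (R : Set G) ≤ Subgroup.normalizer (Q : Set G)) := by
  classical
  have hc := fun (Q : Subgroup G) (x : G) hQ hx => OddOrder.PLengthFusion.exists_conj_eq hG P (Q := Q) (x := x) hQ hx
  have hconj : ∀ (X : Subgroup G) (a b : G), (X.map (MulAut.conj b).toMonoidHom).map (MulAut.conj a).toMonoidHom =
      X.map (MulAut.conj (a * b)).toMonoidHom := fun X a b => OddOrder.Sigma.map_conj_map X b a
  have hmem : ∀ {g : G} {X : Subgroup G}, X.map (MulAut.conj g).toMonoidHom = X → g ∈ Subgroup.normalizer (X : Set G) :=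
    fun h => Subgroup.mem_normalizer_iff_map_conj_eq.2 h
  refine ⟨fun Q x hQ hx => hc Q x hQ hx, fun Q hQ => ?_, fun R Q hR hQ hN n hn => ?_⟩
  · -- a Sylow subgroup of `N(Q)` inside `P`
    set L := Subgroup.normalizer (Q : Set G) with hL
    obtain ⟨U, hQU, hUd⟩ := Alperin.exists_sylow_inf (p := p) L Q (P.isPGroup'.to_le hQ) Subgroup.le_normalizer
    obtain ⟨g, hg⟩ := MulAction.exists_smul_eq G U P
    have hgU : (U : Subgroup G).map (MulAut.conj g).toMonoidHom = (P : Subgroup G) := by
      rw [← hg]; rfl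
    obtain ⟨y, hy, hyQ⟩ := hc Q g hQ (hgU ▸ Subgroup.map_mono hQU)
    have hyP : (P : Subgroup G).map (MulAut.conj y⁻¹).toMonoidHom = (P : Subgroup G) :=
      Subgroup.mem_normalizer_iff_map_conj_eq.1 (inv_mem hy)
    have hz : y⁻¹ * g ∈ L := hmem (by
      rw [← hconj, hyQ, hconj, inv_mul_cancel, OddOrder.Sigma.map_conj_one])
    have hLz : L.map (MulAut.conj (y⁻¹ * g)).toMonoidHom = L :=
      Subgroup.mem_normalizer_iff_map_conj_eq.1 (Subgroup.le_normalizer (H := L) hz)
    have himg : ((U : Subgroup G) ⊓ L).map (MulAut.conj (y⁻¹ * g)).toMonoidHom = (P : Subgroup G) ⊓ L := by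
      rw [Subgroup.map_inf _ _ _ (MulEquiv.injective _), hLz, ← hconj, hgU, hyP]
    rw [← himg]
    conv => arg 1; arg 2; arg 2; rw [← hLz]
    rw [Subgroup.relIndex_map_map_of_injective _ _ (MulEquiv.injective _)]
    exact hUd
  · -- weak closure
    have hweak : ∀ g : G, Q.map (MulAut.conj g).toMonoidHom ≤ (P : Subgroup G) →
        Q.map (MulAut.conj g).toMonoidHom = Q := fun g hg => by
      obtain ⟨y, hy, hyQ⟩ := hc Q g (hQ.trans inf_le_left) hg
      exact hyQ.trans (Subgroup.mem_normalizer_iff_map_conj_eq.1 (hN hy))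
    obtain ⟨U, hRU⟩ := hR.exists_le_sylow
    obtain ⟨g, hg⟩ := MulAction.exists_smul_eq G U P
    have hgR : R.map (MulAut.conj g).toMonoidHom ≤ (P : Subgroup G) := by
      refine (Subgroup.map_mono hRU).trans (le_of_eq ?_)
      rw [← hg]; rfl
    have h1 := hweak g ((Subgroup.map_mono (hQ.trans inf_le_right)).trans hgR)
    have h2 := hweak (g * n) (by
      rw [← hconj]
      refine (Subgroup.map_mono ?_).trans hgR
      exact (Subgroup.map_mono (hQ.trans inf_le_right)).trans
        (Subgroup.mem_normalizer_iff_map_conj_eq.1 hn).le)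
    rw [← hconj] at h2
    exact hmem ((Subgroup.map_injective (MulEquiv.injective _)) (h2.trans h1.symm))

end Cfsg.Agent.S1413
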