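import Cfsg.Statements.S1421
import Cfsg.Agent.Lib.OddOrder.TauTwoCore

set_option autoImplicit false
open Cfsg

namespace Cfsg.Agent.S1421

/-- Let G be a minimal simple group of odd order, M a maximal subgroup and E a complement to M_σ in M. Suppose that every non-identity element e of E all of whose order's prime divisors lie in τ₁(M) ∪ τ₃(M) has M_σ ∩ C_G(e) = 1. Then E has an abelian normal subgroup A₀ with E ∩ C_G(x) ≤ A₀ for every non-identity x ∈ M_σ, and E has a subgroup E₀ of the same exponent as E such that no non-identity element of E₀ centralizes a non-identity element of M_σ. -/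
theorem result {G : Type*} [Group G] [Finite G] (hG : Cfsg.IsMinSimpleOddOrder G)
    (M : Subgroup G) (hM : IsCoatom M) (E : Subgroup G) (hE : Cfsg.IsComplIn E (Cfsg.sigmaCore M) M)
    (h : ∀ e ∈ E, e ≠ 1 → (∀ p : ℕ, p.Prime → p ∣ orderOf e → p ∈ Cfsg.tau1 M ∪ Cfsg.tau3 M) →
      Cfsg.sigmaCore M ⊓ Subgroup.centralizer ({e} : Set G) = ⊥) :
    (∃ A₀ : Subgroup G, A₀ ≤ E ∧ E ≤ Subgroup.normalizer (A₀ : Set G) ∧ IsMulCommutative A₀ ∧
        ∀ x ∈ Cfsg.sigmaCore M, x ≠ 1 → E ⊓ Subgroup.centralizer ({x} : Set G) ≤ A₀) ∧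
      ∃ E₀ : Subgroup G, E₀ ≤ E ∧ Monoid.exponent E₀ = Monoid.exponent E ∧
        ∀ e ∈ E₀, e ≠ 1 → Cfsg.sigmaCore M ⊓ Subgroup.centralizer ({e} : Set G) = ⊥ := by
  classical
  have hreg : OddOrder.TauTwoAb.Regular M E := fun x hx hxp hr1 => by
    refine h x hx (fun e => hxp.ne_one (by rw [e, orderOf_one])) fun q hq hqx => ?_
    obtain rfl := (Nat.prime_dvd_prime_iff_eq hq hxp).1 hqx
    have hd : orderOf x ∣ Nat.card E := Subgroup.orderOf_dvd_natCard E hx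
    have hσ := OddOrder.Exceptional.not_dvd_complement hG hM hE hxp hd
    by_cases hD : orderOf x ∣ Nat.card ↥⁅M, M⁆
    · exact Or.inr ⟨hxp, hσ, hD, hr1⟩
    · exact Or.inl ⟨hxp, hσ, hd.trans (Subgroup.card_dvd_of_le hE.1), hD, hr1⟩
  have hidx : ∀ q ∈ Cfsg.tau2 M, ¬ q ∣ E.relIndex E := fun q hq => by
    rw [Subgroup.relIndex_self]; exact hq.1.not_dvd_one
  by_cases hna : ∃ p, p ∈ Cfsg.tau2 M ∧ ∀ _ : Fact p.Prime, ∀ S : Sylow p G, ¬ IsMulCommutative (S : Subgroup G)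
  · obtain ⟨p, hp, hS⟩ := hna
    haveI := Fact.mk hp.1
    obtain ⟨A, hAE, hAe, hA⟩ := OddOrder.TauTwo.exists_plane (p := p) hG hM hE hp
    exact OddOrder.TauTwoAb.main_nonabelian hG hM hE hp (hS inferInstance) hAE hAe hA le_rfl hidx hreg
  · refine OddOrder.TauTwoAb.main_abelian hG hM hE le_rfl hidx hreg fun p hp => ?_
    haveI := Fact.mk hp.1
    obtain ⟨A, hAE, hAe, hA⟩ := OddOrder.TauTwo.exists_plane (p := p) hG hM hE hp
    obtain ⟨S, hAS, hS⟩ := OddOrder.TauTwoAb.exists_abelian_sylow (p := p)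
      (fun hall => hna ⟨p, hp, fun _ => hall⟩) (OddOrder.Plane.isPGroup hA)
    exact ⟨A, S, fun _ => ⟨hG, hM, hE, hp, hAE, hAe, hA, hAS, hS⟩⟩

end Cfsg.Agent.S1421
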