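import Cfsg.Statements.S1427
import Cfsg.Agent.Lib.OddOrder.PrimeAction

set_option autoImplicit false
open Cfsg

namespace Cfsg.Agent.S1427

/-- Let G be a minimal simple group of odd order, M a maximal subgroup, E a complement to M_σ in M, and S a nontrivial cyclic Sylow subgroup of E (for some prime). Then M_σ ∩ C_G(x) = M_σ ∩ C_G(S) for every non-identity x ∈ S. -/
theorem result {G : Type*} [Group G] [Finite G] (hG : Cfsg.IsMinSimpleOddOrder G)
    (M : Subgroup G) (hM : IsCoatom M) (E : Subgroup G) (hE : Cfsg.IsComplIn E (Cfsg.sigmaCore M) M) (p : ℕ) [Fact p.Prime] (S : Sylow p E) (hS1 : (S : Subgroup E) ≠ ⊥) (hSc : IsCyclic (S : Subgroup E)) :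
    ∀ x ∈ (S : Subgroup E).map E.subtype, x ≠ 1 →
        Cfsg.sigmaCore M ⊓ Subgroup.centralizer ({x} : Set G) = Cfsg.sigmaCore M ⊓ Subgroup.centralizer (((S : Subgroup E).map E.subtype : Subgroup G) : Set G) := by
  intro x hx hx1
  set Sm := (S : Subgroup E).map E.subtype with hSm
  have hSp : IsPGroup p Sm := S.isPGroup'.map E.subtype
  have hxp' : IsPGroup p (Subgroup.zpowers x) := hSp.to_le (Subgroup.zpowers_le.2 hx)
  have hd : p ∣ Nat.card E := (S.isPGroup'.card_eq_or_dvd.resolve_left fun e =>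
    hS1 (Subgroup.card_eq_one.1 e)).trans (Subgroup.card_subgroup_dvd_card _)
  have hpσ : p ∉ Cfsg.sigma M := OddOrder.Exceptional.not_dvd_complement hG hM hE (Fact.out : p.Prime) hd
  have hr1 := OddOrder.PrimeAction.rank_one_of_cyclic hG hM hE S hSc hpσ
  haveI : Nontrivial (Subgroup.zpowers x) := (Subgroup.nontrivial_iff_ne_bot _).2 fun h => hx1 (Subgroup.zpowers_eq_bot.1 h)
  obtain ⟨k, hk, hk'⟩ := hxp'.nontrivial_iff_card.1 inferInstance
  obtain ⟨y, hy⟩ := exists_prime_orderOf_dvd_card' (G := Subgroup.zpowers x) p (hk' ▸ dvd_pow_self p hk.ne')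
  rw [← Subgroup.orderOf_coe] at hy
  have hyS : Subgroup.zpowers (y : G) ≤ Sm := Subgroup.zpowers_le.2 (Subgroup.zpowers_le.2 hx y.2)
  haveI : IsCyclic Sm := by
    haveI := hSc
    exact isCyclic_of_surjective _ (((S : Subgroup E).equivMapOfInjective _ E.subtype_injective)).surjective
  haveI : IsMulCommutative Sm := IsCyclic.isMulCommutative
  have hSy : Sm ≤ Subgroup.centralizer ((Subgroup.zpowers (y : G) : Subgroup G) : Set G) :=
    (Subgroup.le_centralizer Sm).trans (Subgroup.centralizer_le hyS)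
  have key := OddOrder.PrimeAction.centralizer_le hG hM hpσ hr1 (X := Subgroup.zpowers (y : G))
    (by rw [Nat.card_zpowers, hy]) hSp ((Subgroup.map_subtype_le _).trans hE.1) hyS hSy
  refine le_antisymm (le_inf inf_le_left (le_trans ?_ key)) (le_inf inf_le_left (inf_le_right.trans (Subgroup.centralizer_le ?_)))
  · refine le_inf inf_le_left (inf_le_right.trans ?_)
    rw [← OddOrder.Plane.centralizer_zpowers x]
    exact Subgroup.centralizer_le (Subgroup.zpowers_le.2 y.2)
  · simpa using hx

end Cfsg.Agent.S1427
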