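import Cfsg.Statements.S1434
import Cfsg.Agent.Lib.OddOrder.DerivedSigma

set_option autoImplicit false
open Cfsg

namespace Cfsg.Agent.S1434

/-- Let G be a minimal simple group of odd order, M a maximal subgroup with standard factorisation M = K U M_σ, K ≠ 1, K* = M_σ ∩ C_G(K), and M* a maximal subgroup with K = M*_σ ∩ C_G(K*) and K* a Hall κ(M*)-subgroup of M*. Then κ(M) = τ₁(M); K* is a Hall σ(M)-subgroup of M*; for non-identity x ∈ K and y ∈ K*, C_M(x), C_{M*}(y) and C_G(xy) all equal K K*; the set Ẑ of elements of K K* outside K ∪ K* meets no gMg⁻¹ with g ∉ M; and with k = #K, k* = #K*, the union of the conjugates of Ẑ has k·k*·(number of elements) = (k k* − k − k* + 1)·#G and more than #G / 2 elements. -/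
theorem result {G : Type*} [Group G] [Finite G] (hG : Cfsg.IsMinSimpleOddOrder G)
    (M : Subgroup G) (hM : IsCoatom M) (K U : Subgroup G) (hKU : Cfsg.IsSigmaDecomposition M K U) (hK1 : K ≠ ⊥) (Mstar : Subgroup G) (hMstar : IsCoatom Mstar)
    (hKst : K = Cfsg.sigmaCore Mstar ⊓ Subgroup.centralizer ((Cfsg.sigmaCore M ⊓ Subgroup.centralizer (K : Set G)) : Set G))
    (hKstH : Cfsg.IsPiHallOf (Cfsg.kappa Mstar) (Cfsg.sigmaCore M ⊓ Subgroup.centralizer (K : Set G)) Mstar) :
    Cfsg.kappa M = Cfsg.tau1 M ∧ Cfsg.IsPiHallOf (Cfsg.sigma M) (Cfsg.sigmaCore M ⊓ Subgroup.centralizer (K : Set G)) Mstar ∧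
      (∀ x ∈ K, x ≠ 1 → ∀ y ∈ (Cfsg.sigmaCore M ⊓ Subgroup.centralizer (K : Set G)), y ≠ 1 →
        M ⊓ Subgroup.centralizer ({x} : Set G) = K ⊔ (Cfsg.sigmaCore M ⊓ Subgroup.centralizer (K : Set G)) ∧ Mstar ⊓ Subgroup.centralizer ({y} : Set G) = K ⊔ (Cfsg.sigmaCore M ⊓ Subgroup.centralizer (K : Set G)) ∧
        Subgroup.centralizer ({x * y} : Set G) = K ⊔ (Cfsg.sigmaCore M ⊓ Subgroup.centralizer (K : Set G))) ∧
      (∀ g : G, g ∉ M → ∀ z ∈ ((↑(K ⊔ (Cfsg.sigmaCore M ⊓ Subgroup.centralizer (K : Set G))) : Set G) \ ((K : Set G) ∪ ↑(Cfsg.sigmaCore M ⊓ Subgroup.centralizer (K : Set G)))), z ∉ M.map (MulAut.conj g).toMonoidHom) ∧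
      Nat.card K * Nat.card ↥(Cfsg.sigmaCore M ⊓ Subgroup.centralizer (K : Set G)) * Set.ncard {a : G | ∃ g : G, ∃ z ∈ ((↑(K ⊔ (Cfsg.sigmaCore M ⊓ Subgroup.centralizer (K : Set G))) : Set G) \ ((K : Set G) ∪ ↑(Cfsg.sigmaCore M ⊓ Subgroup.centralizer (K : Set G)))), a = g * z * g⁻¹} =
        (Nat.card K * Nat.card ↥(Cfsg.sigmaCore M ⊓ Subgroup.centralizer (K : Set G)) - Nat.card K - Nat.card ↥(Cfsg.sigmaCore M ⊓ Subgroup.centralizer (K : Set G)) + 1) * Nat.card G ∧
      Nat.card G < 2 * Set.ncard {a : G | ∃ g : G, ∃ z ∈ ((↑(K ⊔ (Cfsg.sigmaCore M ⊓ Subgroup.centralizer (K : Set G))) : Set G) \ ((K : Set G) ∪ ↑(Cfsg.sigmaCore M ⊓ Subgroup.centralizer (K : Set G)))), a = g * z * g⁻¹} := by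
  have P := OddOrder.Pairing.pair_of_data hG hM hKU.hall hK1 hMstar hKst hKstH
  have hgen := OddOrder.Pairing.decomp_generic hG hM hKU hK1
  set D := Cfsg.sigmaCore M ⊓ Subgroup.centralizer (K : Set G) with hDdef
  set Z := K ⊔ D with hZdef
  obtain ⟨E, V, hE, F⟩ := P.left.factor hG
  obtain ⟨E', V', hE', F'⟩ := P.right.factor hG
  haveI := P.comm hG
  have hmemD : ∀ y ∈ D, y ∈ Z := fun y hy => P.D_le_Z hy
  refine ⟨Set.Subset.antisymm hgen.2 ?_, ⟨P.D_le_Z.trans P.right.Z_le, fun r hr hd => ?_, ?_⟩, ?_, ?_, ?_, ?_⟩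
  · intro r hr
    have hd : r ∣ Nat.card M := hr.2.2.1
    rw [OddOrder.Compl.card_eq (OddOrder.Kappa.decomp_compl hKU), OddOrder.Kappa.decomp_card hKU] at hd
    rcases hr.1.dvd_mul.1 hd with h | h
    · rcases hr.1.dvd_mul.1 h with h | h
      · exact absurd (h.trans (Subgroup.card_dvd_of_le (OddOrder.Pairing.U_le_derived hG hM hKU hK1))) hr.2.2.2.1
      · exact hKU.hall.2.1 r hr.1 h
    · exact absurd (OddOrder.Exceptional.mem_sigma_of_dvd hr.1 h) hr.2.1
  · exact OddOrder.Exceptional.mem_sigma_of_dvd hr (hd.trans (Subgroup.card_dvd_of_le P.D_le))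
  · intro t ht htσ hd
    haveI := Fact.mk ht
    have htD : ¬ t ∣ Nat.card D := fun h => P.right.hall.2.2 t ht (P.right.hall.2.1 t ht h) hd
    have htN : t ∣ Nat.card Mstar := hd.trans (Subgroup.relIndex_dvd_card _ _)
    rw [OddOrder.Compl.card_eq hE'] at htN
    have htV : t ∣ Nat.card V' := by
      have h := (ht.dvd_mul.1 htN).resolve_right fun h =>
        P.disjoint hG htσ (OddOrder.Exceptional.mem_sigma_of_dvd ht h)
      have hsup : V' ⊔ D = E' := le_antisymm (sup_le F'.U_le F'.K_le) fun e he => by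
        obtain ⟨v, hv, k, hk, rfl⟩ := F'.sup e he
        exact mul_mem (Subgroup.mem_sup_left hv) (Subgroup.mem_sup_right hk)
      rw [← hsup] at h
      exact (ht.dvd_mul.1 (h.trans (Dvd.intro _ (SolvBasic.card_sup_mul_card_inf (F'.K_le.trans F'.norm))))).resolve_right htD
    haveI := F'.comm
    set R := Subgroup.closure {x : G | x ∈ V' ∧ x ^ t = 1} with hRdef
    have hR : ∀ x ∈ R, x ∈ V' ∧ x ^ t = 1 := fun x hx => by
      induction hx using Subgroup.closure_induction with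
      | mem x hx => exact hx
      | one => exact ⟨one_mem _, one_pow t⟩
      | mul x y _ _ hx hy => exact ⟨mul_mem hx.1 hy.1, by
          rw [(show Commute x y from Subgroup.mem_centralizer_iff.1 (Subgroup.le_centralizer V' hy.1) x hx.1).mul_pow,
            hx.2, hy.2, one_mul]⟩
      | inv x _ hx => exact ⟨inv_mem hx.1, by rw [inv_pow, hx.2, inv_one]⟩
    have hRp : IsPGroup t R := fun x => ⟨1, Subtype.ext (by rw [pow_one]; exact (hR x x.2).2)⟩
    have hRn : D ≤ Subgroup.normalizer (R : Set G) := fun g hg => OddOrder.ComplAbelian.mem_normalizer_of_map_le fun x hx =>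
      Subgroup.subset_closure ⟨(Subgroup.mem_normalizer_iff.1 (F'.norm (F'.K_le hg)) x).1 (hR x hx).1, by
        rw [conj_pow, (hR x hx).2, mul_one, mul_inv_cancel]⟩
    obtain ⟨X, hXV, hX⟩ := OddOrder.Kappa.exists_line_of_dvd ht htV
    have hXR : X ≤ R := fun x hx => Subgroup.subset_closure ⟨hXV hx, by
      have := pow_card_eq_one' (G := X) (x := ⟨x, hx⟩)
      rw [hX] at this
      exact congrArg Subtype.val this⟩
    have hY : R ⊔ D ≤ Cfsg.sigmaCore M := by
      refine (S1431.result hG M hM K hKU.hall hK1).2.2.2 (R ⊔ D) (fun r hr hrd => ?_) ?_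
      · have h := hrd.trans (Dvd.intro _ (SolvBasic.card_sup_mul_card_inf hRn))
        rcases hr.dvd_mul.1 h with h | h
        · obtain ⟨n, hn⟩ := IsPGroup.iff_card.1 hRp
          exact (Nat.prime_dvd_prime_iff_eq hr ht).1 (hr.dvd_of_dvd_pow (hn ▸ h)) ▸ htσ
        · exact OddOrder.Exceptional.mem_sigma_of_dvd hr (h.trans (Subgroup.card_dvd_of_le P.D_le))
      · exact fun e => P.right.ne (le_bot_iff.1 ((le_inf le_sup_right le_rfl).trans e.le))
    refine htD (hX ▸ Subgroup.card_dvd_of_le ?_)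
    have h1 : X ≤ Cfsg.sigmaCore M := (hXR.trans le_sup_left).trans hY
    have h2 : X ≤ Z := (le_inf (h1.trans (OddOrder.Exceptional.sigmaCore_le M))
      ((hXV.trans F'.U_le).trans hE'.1)).trans (P.inter hG).le
    exact (le_inf h1 h2).trans P.left_inf.le
  · intro x hx hx1 y hy hy1
    haveI := hKU.cyclic
    haveI := P.right.cyclic hG
    refine ⟨?_, ?_, ?_⟩
    · exact (F.centralizer_of_mem hE inferInstance hx hx1).trans P.left.sup
    · exact (F'.centralizer_of_mem hE' inferInstance hy hy1).trans P.right.sup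
    · have hz : x * y ∈ OddOrder.Pairing.outer Z := by
        rw [P.outer_eq hG]
        refine ⟨Z.mul_mem (P.left.K_le hx) (hmemD y hy), ?_⟩
        rintro (h | h)
        · exact hy1 (Subgroup.mem_bot.1 (P.inf_eq.le ⟨by
            have := K.mul_mem (K.inv_mem hx) h
            rwa [inv_mul_cancel_left] at this, hy⟩))
        · exact hx1 (Subgroup.mem_bot.1 (P.inf_eq.le ⟨hx, by
            have := D.mul_mem h (D.inv_mem hy)
            rwa [mul_inv_cancel_right] at this⟩))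
      refine le_antisymm (fun g hg => OddOrder.Pairing.mem_Z_of_outer hG P.left hz ?_) fun g hg => ?_
      · rwa [Subgroup.mem_centralizer_singleton_iff.1 hg, mul_inv_cancel_right]
      · exact Subgroup.mem_centralizer_singleton_iff.2
          (Subgroup.mem_centralizer_iff.1 (Subgroup.le_centralizer Z (Z.mul_mem (P.left.K_le hx) (hmemD y hy))) g hg)
  · intro g hg z hz
    rw [← P.outer_eq hG] at hz
    rintro ⟨w, hw, hwz⟩
    obtain ⟨k, hk, d, hd, rfl, hkd⟩ := P.left.sup_split hz.1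
    have hd1 : d ≠ 1 := fun e => by
      rw [e, mul_one] at hz
      exact hz.2 Mstar ⟨D, P.right⟩ (P.right_inf.ge hk).1
    have hcop : (orderOf d).Coprime (orderOf k) := Nat.coprime_of_dvd fun t ht h1 h2 =>
      P.left.K_primes hk ht h2 (OddOrder.Support.primes_of_mem_sigmaCore hd.1 ht h1)
    have hd' := OddOrder.Pairing.mem_zpowers_mul hkd.symm hcop.symm
    obtain ⟨i, hi⟩ := hd'
    refine hg (inv_mem_iff.1 (P.left.mem_of_conj hG (g := g⁻¹) (P.left.inf_eq.ge hd) hd1 ?_))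
    have hw' : g⁻¹ * (k * d) * g ∈ M := by
      have : g⁻¹ * (k * d) * g = w := by rw [← hwz]; simp [mul_assoc]
      rw [this]; exact hw
    have h3 : (g⁻¹ * (d * k) * g⁻¹⁻¹) ^ i = g⁻¹ * d * g⁻¹⁻¹ := by
      rw [conj_zpow]; exact congrArg (fun e => g⁻¹ * e * g⁻¹⁻¹) hi
    rw [← h3, inv_inv, ← hkd.eq]
    exact M.zpow_mem hw' i
  · rw [← P.outer_eq hG]
    have h1 := P.ncard_outer_add hG
    have h2 : 0 < (OddOrder.Pairing.outer Z).ncard := (Set.ncard_pos).2 (OddOrder.Pairing.outer_nonempty hG P.left)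
    rw [show Nat.card K * Nat.card D - Nat.card K - Nat.card D + 1 = (OddOrder.Pairing.outer Z).ncard by omega]
    exact P.card_mul_ncard hG
  · rw [← P.outer_eq hG]
    exact P.card_lt hG

end Cfsg.Agent.S1434
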