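import Cfsg.Statements.S1440
import Cfsg.Agent.Lib.OddOrder.NonTIStruct

set_option autoImplicit false
open Cfsg

namespace Cfsg.Agent.S1440

/-- Let G be a minimal simple group of odd order, M a maximal subgroup with standard factorisation M = K U M_σ, H = M_F, and g ∉ M such that X = F(M) ∩ gF(M)g⁻¹ is nontrivial. Then X ≤ H and X is cyclic; M' = F(M), which is generated by M_σ and O_{σ(M)'}(F(M)); and one of: (1) K = 1 and H is abelian of rank exactly 2; (2) p = #X is a prime in σ(M) but not in β(M), O_p(H) is nonabelian, O_{p'}(H) is cyclic, and the exponent of M/H divides q − 1 for every prime q dividing #H; (3) p = #X is a prime in σ(M) but not β(M), O_{p'}(H) is cyclic, O_p(H) is nonabelian of order p ^ 3, K ≠ 1, U = 1, and the index of H in M divides p + 1. -/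
theorem result {G : Type*} [Group G] [Finite G] (hG : Cfsg.IsMinSimpleOddOrder G)
    (M : Subgroup G) (hM : IsCoatom M) (K U : Subgroup G) (hKU : Cfsg.IsSigmaDecomposition M K U) (g : G) (hg : g ∉ M) (hX : Cfsg.fittingOf M ⊓ (Cfsg.fittingOf M).map (MulAut.conj g).toMonoidHom ≠ ⊥) :
    (Cfsg.fittingOf M ⊓ (Cfsg.fittingOf M).map (MulAut.conj g).toMonoidHom ≤ Cfsg.fittingHallOf M ∧ IsCyclic ↥(Cfsg.fittingOf M ⊓ (Cfsg.fittingOf M).map (MulAut.conj g).toMonoidHom)) ∧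
      (⁅M, M⁆ = Cfsg.fittingOf M ∧ Cfsg.fittingOf M = Cfsg.sigmaCore M ⊔ Cfsg.piCoreOf {q | q.Prime ∧ q ∉ Cfsg.sigma M} (Cfsg.fittingOf M)) ∧
      ((K = ⊥ ∧ IsMulCommutative (Cfsg.fittingHallOf M) ∧ Cfsg.RankLE 2 (Cfsg.fittingHallOf M) ∧ ¬ Cfsg.RankLE 1 (Cfsg.fittingHallOf M)) ∨
       (∃ p : ℕ, p.Prime ∧ Nat.card ↥(Cfsg.fittingOf M ⊓ (Cfsg.fittingOf M).map (MulAut.conj g).toMonoidHom) = p ∧ p ∈ Cfsg.sigma M ∧ p ∉ Cfsg.beta M ∧
          ¬ IsMulCommutative (Cfsg.pCore p ↥(Cfsg.fittingHallOf M)) ∧ IsCyclic (Cfsg.pPrimeCore p ↥(Cfsg.fittingHallOf M)) ∧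
          ∀ q : ℕ, q.Prime → q ∣ Nat.card (Cfsg.fittingHallOf M) → Monoid.exponent (↥M ⧸ Cfsg.fittingHall ↥M) ∣ q - 1) ∨
       (∃ p : ℕ, p.Prime ∧ Nat.card ↥(Cfsg.fittingOf M ⊓ (Cfsg.fittingOf M).map (MulAut.conj g).toMonoidHom) = p ∧ p ∈ Cfsg.sigma M ∧ p ∉ Cfsg.beta M ∧
          IsCyclic (Cfsg.pPrimeCore p ↥(Cfsg.fittingHallOf M)) ∧ Nat.card (Cfsg.pCore p ↥(Cfsg.fittingHallOf M)) = p ^ 3 ∧
          ¬ IsMulCommutative (Cfsg.pCore p ↥(Cfsg.fittingHallOf M)) ∧ K ≠ ⊥ ∧ U = ⊥ ∧ (Cfsg.fittingHallOf M).relIndex M ∣ p + 1)) := by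
  classical
  have key : ∀ a ∈ Cfsg.fittingOf M ⊓ (Cfsg.fittingOf M).map (MulAut.conj g).toMonoidHom, ∃ z, g * z * g⁻¹ = a ∧
      z ∈ Cfsg.fittingOf M ∧ a ∈ Cfsg.fittingOf M := fun a ha => by
    obtain ⟨z, hz, rfl⟩ := ha.2
    exact ⟨z, rfl, hz, ha.1⟩
  obtain ⟨a, ha, ha1⟩ := (Subgroup.bot_or_exists_ne_one _).resolve_left hX
  obtain ⟨z, rfl, hz, hgz⟩ := key a ha
  have hz1 : z ≠ 1 := fun e => ha1 (by simp [e])
  have hnil : Group.IsNilpotent (Cfsg.sigmaCore M) := by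
    by_contra hnn
    refine hz1 (OddOrder.FTI.ti_of_nonnil hG hM hnn g (fun h => hg ?_) z hz hgz)
    rwa [OddOrder.FTI.normalizer_of_normal hG hM (OddOrder.FitOf.fittingOf_le M)
      (fun e => hz1 (Subgroup.mem_bot.1 (e.le hz))) (OddOrder.FitOf.le_normalizer_fittingOf M)] at h
  obtain ⟨hzS, hgzS⟩ := OddOrder.NTI.inter_sigma hG hM hg hz hgz
  have hzM := OddOrder.NTI.cent_not_le hG hM hg hzS hgzS
  have hH := OddOrder.Support.fittingHall_eq hG hM hnil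
  have hXS : Cfsg.fittingOf M ⊓ (Cfsg.fittingOf M).map (MulAut.conj g).toMonoidHom ≤ Cfsg.sigmaCore M := fun b hb => by
    obtain ⟨w, rfl, hw, hgw⟩ := key b hb
    exact (OddOrder.NTI.inter_sigma hG hM hg hw hgw).2
  obtain ⟨E, hE⟩ := OddOrder.Exceptional.exists_complement hG hM
  have hcyc : IsCyclic ↥(Cfsg.fittingOf M ⊓ (Cfsg.fittingOf M).map (MulAut.conj g).toMonoidHom) := by
    haveI := ((S1426.result hG M hM E hE).2.2 g hg).1
    exact isCyclic_of_injective (Subgroup.inclusion (le_inf hXS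
        (inf_le_right.trans (Subgroup.map_mono (OddOrder.FitOf.fittingOf_le M)))))
      (Subgroup.inclusion_injective _)
  refine ⟨⟨hXS.trans hH.ge, hcyc⟩, ?_⟩
  have hcases := OddOrder.NTI.cases hG hM hnil hzS hz1 hzM
  have hUK : K ≠ ⊥ → U = ⊥ := OddOrder.NTI.U_eq_bot hG hM hnil hzS hz1 hzM hKU
  refine ⟨⟨OddOrder.NTI.derived_eq_fitting hG hM hnil (hcases.imp (fun h => h.2.1) id) hKU hUK,
    OddOrder.NTI.fittingOf_sigma hG hM hnil⟩, ?_⟩
  rcases hcases with ⟨hab, hr2, hr1, hκ⟩ | ⟨p, n⟩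
  · left
    rw [hH]
    refine ⟨?_, hab, hr2, hr1⟩
    by_contra hK
    obtain ⟨r, hr, hrd⟩ := Nat.exists_prime_and_dvd fun e => hK (Subgroup.card_eq_one.1 e)
    exact (Set.eq_empty_iff_forall_notMem.1 hκ r) (hKU.hall.2.1 r hr hrd)
  right
  have hcard := OddOrder.NTI.card_inter hG hM hnil n hg hX hcyc
  by_cases hK : K = ⊥
  · left
    refine ⟨p, n.prime, hcard, n.sigma, n.not_beta, ?_, ?_,
      fun q hq hqd => OddOrder.NTI.exponent_dvd hG hM hnil hKU hK n hq hqd⟩ <;> rw [hH]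
    exacts [n.noncomm, n.cyclic]
  rcases OddOrder.NTI.kappa_dvd hG hM hKU hK (hUK hK) hnil n with h | ⟨hp3, h⟩
  · left
    refine ⟨p, n.prime, hcard, n.sigma, n.not_beta, ?_, ?_,
      fun q hq hqd => OddOrder.NTI.exponent_kappa hG hM hnil hKU hK (hUK hK) n h hq hqd⟩ <;> rw [hH]
    exacts [n.noncomm, n.cyclic]
  · right
    refine ⟨p, n.prime, hcard, n.sigma, n.not_beta, ?_, ?_, ?_, hK, hUK hK, ?_⟩ <;> rw [hH]
    exacts [n.cyclic, hp3, n.noncomm, by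
      have hc := OddOrder.Kappa.decomp_compl hKU
      rw [hUK hK, bot_sup_eq] at hc
      rw [OddOrder.Compl.relIndex_right hc]
      exact h]

end Cfsg.Agent.S1440
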