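import Cfsg.Statements.S1441
import Cfsg.Agent.Lib.CharP.AxB
import Cfsg.Agent.Lib.Transfer.Basic

set_option autoImplicit false
open Cfsg

namespace Cfsg.Agent.S1441

open scoped commutatorElement

/-- Let G be a finite group, H a solvable subgroup and A a subgroup normalizing H. Suppose there is a chain H = H₀ ≥ H₁ ≥ ⋯ ≥ H_n = 1 of subgroups normal in H and normalized by A such that A acts trivially on each factor H_{i-1}/H_i (that is, [H_{i-1}, A] ≤ H_i). Then every prime dividing the index of C_A(H) in A divides the order of H. -/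
theorem result {G : Type*} [Group G] [Finite G] (H A : Subgroup G) (hH : Group.IsSolvable H) (hA : (A ≤ Subgroup.normalizer (H : Set G)))
    (n : ℕ) (c : Fin (n + 1) → Subgroup G) (hc0 : c 0 = H) (hcn : c (Fin.last n) = ⊥) (hanti : Antitone c)
    (hcN : ∀ i, H ≤ Subgroup.normalizer ((c i : Subgroup G) : Set G)) (hcA : ∀ i, A ≤ Subgroup.normalizer ((c i : Subgroup G) : Set G))
    (htriv : ∀ i : Fin n, ⁅c i.castSucc, A⁆ ≤ c i.succ) :
    ∀ p : ℕ, p.Prime → p ∣ (A ⊓ Subgroup.centralizer (H : Set G)).relIndex A → p ∣ Nat.card H := by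
  intro p hp hdvd
  by_contra hpH
  haveI := Fact.mk hp
  set C := A ⊓ Subgroup.centralizer (H : Set G) with hC
  obtain ⟨P⟩ : Nonempty (Sylow p A) := inferInstance
  have hle : (P : Subgroup A) ≤ C.subgroupOf A := by
    intro a ha
    refine Subgroup.mem_inf.2 ⟨a.2, Subgroup.mem_centralizer_iff.2 ?_⟩
    obtain ⟨k, hk⟩ := IsPGroup.iff_orderOf.1 P.isPGroup' ⟨a, ha⟩
    rw [Subgroup.orderOf_mk] at hk
    have key : ∀ m : ℕ, ∀ i : Fin (n + 1), n ≤ i.1 + m → ∀ x ∈ c i, (a : G) * x = x * a := by
      intro m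
      induction m with
      | zero =>
        intro i hi x hx
        have : i = Fin.last n := Fin.ext (by simp only [Fin.val_last]; omega)
        rw [this, hcn, Subgroup.mem_bot] at hx
        simp [hx]
      | succ m ih =>
        intro i hi x hx
        by_cases hin : i.1 = n
        · exact ih i (by omega) x hx
        have hlt : i.1 < n := by omega
        have hu : x⁻¹ * ((a : G) * x * (a : G)⁻¹) ∈ c (⟨i.1, hlt⟩ : Fin n).succ := by
          refine htriv ⟨i.1, hlt⟩ ?_
          have e : x⁻¹ * ((a : G) * x * (a : G)⁻¹) = ⁅x⁻¹, (a : G)⁆ := by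
            rw [commutatorElement_def, inv_inv]; group
          rw [e]
          refine Subgroup.commutator_mem_commutator (inv_mem ?_) a.2
          exact hx
        have hau := ih (⟨i.1, hlt⟩ : Fin n).succ (by simp only [Fin.val_succ]; omega) _ hu
        have huH : x⁻¹ * ((a : G) * x * (a : G)⁻¹) ∈ H := hc0 ▸ hanti (Fin.zero_le _) hu
        have hco : (orderOf (x⁻¹ * ((a : G) * x * (a : G)⁻¹))).Coprime (orderOf (a : G)) := by
          rw [Subgroup.orderOf_coe, hk]
          exact Nat.Coprime.pow_right k (Nat.Coprime.coprime_dvd_left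
            (Subgroup.orderOf_dvd_natCard H huH) ((Nat.Prime.coprime_iff_not_dvd hp).2 hpH).symm)
        have h1 := AxB.fixed_of_conj_eq_mul (q := x) (n := orderOf (a : G)) hau (by group)
          (pow_orderOf_eq_one _) hco
        exact mul_inv_eq_iff_eq_mul.1 (inv_mul_eq_one.1 h1).symm
    intro x hx
    exact (key n 0 (by simp) x (hc0.symm ▸ hx)).symm
  exact P.not_dvd_index (hdvd.trans (Subgroup.index_dvd_of_le hle))

end Cfsg.Agent.S1441
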