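import Cfsg.Statements.S1442
import Cfsg.Agent.Lib.CharP.AxB

set_option autoImplicit false
open Cfsg

namespace Cfsg.Agent.S1442

/-- Let G be a finite group, H a nilpotent subgroup and A a subgroup normalizing H with the orders of A and H coprime. Put C = H ∩ C_G(A). If H ∩ C_G(C) ≤ C then A centralizes H. -/
theorem result {G : Type*} [Group G] [Finite G] (H A : Subgroup G) (hH : Group.IsNilpotent H) (hA : (A ≤ Subgroup.normalizer (H : Set G))) (hcop : (Nat.card A).Coprime (Nat.card H))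
    (hC : H ⊓ Subgroup.centralizer (((H ⊓ Subgroup.centralizer (A : Set G)) : Subgroup G) : Set G) ≤ (H ⊓ Subgroup.centralizer (A : Set G))) :
    A ≤ Subgroup.centralizer (H : Set G) := by
  set C := H ⊓ Subgroup.centralizer (A : Set G) with hC'
  by_contra hne
  have hCH : C ≤ H := inf_le_left
  have hlt : C.subgroupOf H < ⊤ := lt_top_iff_ne_top.2 fun h => hne
    (Subgroup.le_centralizer_iff.1 ((Subgroup.subgroupOf_eq_top.1 h).trans inf_le_right))
  obtain ⟨n, hn, hnC⟩ := SetLike.exists_of_lt (Group.normalizerCondition_of_isNilpotent _ hlt)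
  refine hnC (Subgroup.mem_subgroupOf.2 (Subgroup.mem_inf.2 ⟨n.2, Subgroup.mem_centralizer_iff.2 fun a ha => ?_⟩))
  set u := (n : G)⁻¹ * (a * n * a⁻¹) with hu
  have huH : u ∈ H := mul_mem (inv_mem n.2) ((Subgroup.mem_normalizer_iff.1 (hA ha) n).1 n.2)
  have huC : u ∈ C := hC (Subgroup.mem_inf.2 ⟨huH, Subgroup.mem_centralizer_iff.2 fun c hc => by
    have hc' : (n : G) * c * (n : G)⁻¹ ∈ C := (Subgroup.mem_normalizer_iff.1 hn ⟨c, hCH hc⟩).1 hc
    have e1 := Subgroup.mem_centralizer_iff.1 (Subgroup.mem_inf.1 hc').2 a ha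
    have e2 := Subgroup.mem_centralizer_iff.1 (Subgroup.mem_inf.1 hc).2 a ha
    calc c * u = (n : G)⁻¹ * ((n : G) * c * (n : G)⁻¹ * a) * (n : G) * a⁻¹ := by rw [hu]; group
      _ = (n : G)⁻¹ * (a * ((n : G) * c * (n : G)⁻¹)) * (n : G) * a⁻¹ := by rw [e1]
      _ = (n : G)⁻¹ * a * (n : G) * (c * a⁻¹) := by group
      _ = (n : G)⁻¹ * a * (n : G) * (a⁻¹ * c) := by
        rw [((show Commute a c from e2).inv_left).eq]
      _ = u * c := by rw [hu]; group⟩)
  have h1 := AxB.fixed_of_conj_eq_mul (q := (n : G)) (n := orderOf a)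
    (Subgroup.mem_centralizer_iff.1 (Subgroup.mem_inf.1 huC).2 a ha) (by rw [hu]; group)
    (pow_orderOf_eq_one a)
    ((hcop.symm.coprime_dvd_left (Subgroup.orderOf_dvd_natCard H huH)).coprime_dvd_right
      (Subgroup.orderOf_dvd_natCard A ha))
  exact mul_inv_eq_iff_eq_mul.1 (inv_mul_eq_one.1 h1).symm

end Cfsg.Agent.S1442
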