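import Cfsg.Statements.S1443
import Cfsg.Agent.Lib.Classification.Transitivity
import Cfsg.Agent.Lib.LocalEven.OmegaOne

set_option autoImplicit false
open Cfsg

namespace Cfsg.Agent.S1443

/-- Let G be a finite group, p an odd prime, H a p-subgroup, E an elementary abelian subgroup of H, and A a subgroup of order coprime to p normalizing H. If A centralizes every element of order p in H ∩ C_G(E), then A centralizes H. -/
theorem result {G : Type*} [Group G] [Finite G] (p : ℕ) [Fact p.Prime] (hp : p ≠ 2) (H E A : Subgroup G) (hH : IsPGroup p H) (hE : E ≤ H) (hEe : Cfsg.IsElementaryAbelian p E)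
    (hA : (A ≤ Subgroup.normalizer (H : Set G))) (hcop : (Nat.card A).Coprime p)
    (hfix : ∀ x ∈ (H ⊓ Subgroup.centralizer (E : Set G)), orderOf x = p → A ≤ Subgroup.centralizer ({x} : Set G)) :
    A ≤ Subgroup.centralizer (H : Set G) := by
  have hEA : ∀ e ∈ E, ∀ a ∈ A, a * e = e * a := by
    intro e he a ha
    by_cases he1 : e = 1
    · simp [he1]
    refine Subgroup.mem_centralizer_singleton_iff.1 (hfix e (Subgroup.mem_inf.2 ⟨hE he, ?_⟩)
      (orderOf_eq_prime (hEe.2 e he) he1) ha)
    exact Subgroup.mem_centralizer_iff.2 fun e' he' =>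
      congrArg Subtype.val (hEe.1.is_comm.comm (⟨e', he'⟩ : E) ⟨e, he⟩)
  have hAE : A ≤ Subgroup.centralizer (E : Set G) := fun a ha =>
    Subgroup.mem_centralizer_iff.2 fun e he => (hEA e he a ha).symm
  set T := H ⊓ Subgroup.centralizer (E : Set G) with hT
  have hfixT : H ⊓ Subgroup.centralizer (E : Set G) ≤ Subgroup.centralizer (A : Set G) := by
    intro t ht
    rw [Subgroup.mem_centralizer_iff]
    intro a ha
    refine LEOmega.commute_of_omega hp (x := a)
      (hcop.coprime_dvd_left (Subgroup.orderOf_dvd_natCard A ha)) _ T le_rfl (hH.to_le inf_le_left)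
      (Subgroup.inf_normalizer_le_normalizer_inf (Subgroup.mem_inf.2
        ⟨hA ha, Subgroup.le_normalizer (hAE ha)⟩)) ?_ t ht
    intro x hx hxp
    by_cases hx1 : x = 1
    · simp [hx1]
    exact Subgroup.mem_centralizer_singleton_iff.1 (hfix x hx (orderOf_eq_prime hxp hx1) ha)
  exact Subgroup.le_centralizer_iff.1 (CTransitivity.le_centralizer_of_fixed hp (hH.to_le hE) hcop
    ((Subgroup.le_centralizer_iff.1 hAE).trans (Subgroup.centralizer_le_normalizer _)) H hH hA
    (hE.trans Subgroup.le_normalizer) hfixT)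

end Cfsg.Agent.S1443
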