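import Cfsg.Statements.S1449
import Cfsg.Agent.Lib.OddOrder.RankTwoAut

set_option autoImplicit false
open Cfsg

namespace Cfsg.Agent.S1449

/-- Let G be a finite group, p an odd prime, R a p-subgroup with no elementary abelian subgroup of order p ^ 3, and A a solvable subgroup of odd order normalizing R with A ∩ C_G(R) = 1. Then the derived subgroup [A, A] is a p-group. -/
theorem result {G : Type*} [Group G] [Finite G] (p : ℕ) [Fact p.Prime] (hp : p ≠ 2) (R A : Subgroup G) (hR : IsPGroup p R) (hr : Cfsg.PRankLE p 2 R)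
    (hA : (A ≤ Subgroup.normalizer (R : Set G))) (hAs : Group.IsSolvable A) (hAodd : Odd (Nat.card A)) (hfaith : A ⊓ Subgroup.centralizer (R : Set G) = ⊥) :
    IsPGroup p ↥⁅A, A⁆ := by
  haveI := hAs
  set c : A →* MulAut R := (Subgroup.normalizerMonoidHom R).comp (Subgroup.inclusion hA) with hc
  have hinj : ∀ a : A, c a = 1 → a = 1 := by
    intro a ha
    have hmem : (a : G) ∈ A ⊓ Subgroup.centralizer (R : Set G) := by
      refine ⟨a.2, Subgroup.mem_centralizer_iff.2 fun r hr => ?_⟩
      have h := congrArg (fun φ : MulAut R => ((φ ⟨r, hr⟩ : R) : G)) ha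
      exact (mul_inv_eq_iff_eq_mul.1 (show (a : G) * r * (a : G)⁻¹ = r from h)).symm
    rw [hfaith, Subgroup.mem_bot] at hmem
    exact Subtype.ext hmem
  have hmap : ⁅A, A⁆ = (commutator A).map A.subtype := (Subgroup.map_subtype_commutator A).symm
  rw [hmap]
  rintro ⟨_, a, ha, rfl⟩
  obtain ⟨k, hk⟩ := OddOrder.RankTwoAut.aut_derived hp hR hr hAodd c ha
  rw [← map_pow] at hk
  exact ⟨k, Subtype.ext (by simpa using congrArg Subtype.val (hinj _ hk))⟩

end Cfsg.Agent.S1449
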