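import Cfsg.Statements.S1450
import Cfsg.Agent.Lib.OddOrder.RankTwoSolvable

set_option autoImplicit false
open Cfsg

namespace Cfsg.Agent.S1450

/-- Let G be a solvable group of odd order, p a prime dividing its order with G having no elementary abelian subgroup of order p ^ 3. Then every prime dividing the index of O_{p'}(G) is at most p; if p = 3 or p is the smallest prime divisor of #G then G has a normal p-complement; the derived subgroup G' has a normal p-complement; every subgroup of G' of order coprime to p lies in O_{p'}(G'); and G/O_{p',p}(G) is abelian of order coprime to p. -/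
theorem result {G : Type*} [Group G] [Finite G] [Group.IsSolvable G] (hodd : Odd (Nat.card G)) (p : ℕ) [Fact p.Prime] (hpG : p ∣ Nat.card G) (hr : Cfsg.PRankLE p 2 G) :
    (∀ q : ℕ, q.Prime → q ∣ (Cfsg.pPrimeCore p G).index → q ≤ p) ∧
      ((p = 3 ∨ ∀ q : ℕ, q.Prime → q ∣ Nat.card G → p ≤ q) → Cfsg.HasNormalPComplement p G) ∧
      Cfsg.HasNormalPComplement p ↥(commutator G) ∧
      (∀ L : Subgroup ↥(commutator G), (Nat.card L).Coprime p → L ≤ Cfsg.pPrimeCore p ↥(commutator G)) ∧
      commutator G ≤ Cfsg.pPrimePCore p G ∧ ((Cfsg.pPrimePCore p G).index).Coprime p := by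
  have hp2 : p ≠ 2 := fun h => by
    obtain ⟨k, hk⟩ := hodd.of_dvd_nat hpG
    omega
  obtain ⟨h1, h2, h3⟩ := OddOrder.RankTwo.structure_general hodd hp2 hr
  haveI := FittingCores.pPrimeCore_normal (G := G) p
  set O := Cfsg.pPrimeCore p G with hO
  set G' := commutator G with hG'
  set O' := O.subgroupOf G' with hO'
  have hO'c : (Nat.card O').Coprime p := Nat.Coprime.coprime_dvd_left
    (O.card_comap_dvd_of_injective _ G'.subtype_injective) (FittingCores.pPrimeCore_coprime p)
  have hO'p : IsPGroup p (G' ⧸ O') := by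
    intro x
    induction x using QuotientGroup.induction_on with | H x => ?_
    have hx : QuotientGroup.mk' O (x : G) ∈ Cfsg.pCore p (G ⧸ O) := h1 x.2
    obtain ⟨k, hk⟩ := FittingCores.pCore_isPGroup (G := G ⧸ O) p ⟨_, hx⟩
    refine ⟨k, ?_⟩
    rw [← QuotientGroup.mk_pow, QuotientGroup.eq_one_iff, Subgroup.mem_subgroupOf, SubmonoidClass.coe_pow,
      ← QuotientGroup.eq_one_iff]
    have := congrArg Subtype.val hk
    simpa using this
  refine ⟨fun q hq hd => ?_, fun hcase => ?_, OddOrder.RankTwo.hasNormalPComplement_of O' hO'c hO'p,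
    fun L hL => ?_, h1, h2⟩
  · by_cases hqp : q = p
    · exact hqp.le
    · exact (h3 q hq hd hqp).2.le
  · refine OddOrder.RankTwo.hasNormalPComplement_of O (FittingCores.pPrimeCore_coprime p) ?_
    refine IsPGroup.of_card (n := (Nat.card (G ⧸ O)).primeFactorsList.length)
      (Nat.eq_prime_pow_of_unique_prime_dvd Nat.card_pos.ne' fun {q} hq hd => ?_)
    by_contra hqp
    rw [← Subgroup.index_eq_card] at hd
    obtain ⟨-, hlt⟩ := h3 q hq hd hqp
    have hdG : q ∣ Nat.card G := hd.trans O.index_dvd_card
    rcases hcase with h | h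
    · obtain ⟨k, hk⟩ := hodd.of_dvd_nat hdG
      have := hq.two_le
      omega
    · exact absurd (h q hq hdG) (not_le.2 hlt)
  · intro x hx
    haveI := FittingCores.pPrimeCore_normal (G := G') p
    refine FittingCores.le_pPrimeCore inferInstance hO'c ?_
    rw [← QuotientGroup.eq_one_iff]
    exact PBasic.eq_one_of_isPGroup_of_coprime (p := p) (hO'p.to_subgroup ⊤) (Subgroup.mem_top _)
      (Nat.Coprime.coprime_dvd_left ((orderOf_map_dvd (QuotientGroup.mk' O') x).trans
        (Subgroup.orderOf_dvd_natCard L hx)) hL)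

end Cfsg.Agent.S1450
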