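import Cfsg.Statements.S1452
import Cfsg.Agent.Lib.OddOrder.OmegaCentral
import Cfsg.Agent.S1894

set_option autoImplicit false
open Cfsg

namespace Cfsg.Agent.S1452

/-- Let p be an odd prime and R a finite p-group containing an elementary abelian subgroup of order p ^ 3. If E is a normal elementary abelian subgroup of R of order p ^ 2, then E ≤ A for some normal subgroup A of R with C_R(A) = A that contains an elementary abelian subgroup of order p ^ 3. -/
theorem result {R : Type*} [Group R] [Finite R] (p : ℕ) [Fact p.Prime] (hp : p ≠ 2) (hR : IsPGroup p R) (hr : ¬ Cfsg.PRankLE p 2 R)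
    (E : Subgroup R) [E.Normal] (hE : Cfsg.IsElementaryAbelian p E) (hE2 : Nat.card E = p ^ 2) :
    ∃ A : Subgroup R, E ≤ A ∧ A.Normal ∧ Subgroup.centralizer (A : Set R) = A ∧ ¬ Cfsg.PRankLE p 2 A := by
  unfold Cfsg.PRankLE at hr
  push Not at hr
  obtain ⟨F, hFc, hFp, hF⟩ := hr
  obtain ⟨A₀, hA₀n, hA₀e, hEA, hA₀3⟩ :=
    OddOrder.OmegaCen.exists_normal_elementary_three hp hR F hFc hFp hF E hE
  haveI := hA₀n
  haveI : (⊤ : Subgroup R).Normal := inferInstance
  obtain ⟨A, hAn, hA₀A, -, -, hAc⟩ := S1894.result hR ⊤ A₀ le_top hA₀e.1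
  rw [top_inf_eq] at hAc
  refine ⟨A, hEA.trans hA₀A, hAn, hAc, fun h => ?_⟩
  haveI := hA₀e.1
  have := h (A₀.subgroupOf A) inferInstance fun a ha => Subtype.ext (hA₀e.2 a ha)
  rw [Nat.card_congr (Subgroup.subgroupOfEquivOfLe hA₀A).toEquiv] at this
  have h2 := hA₀3.trans this
  exact absurd ((Nat.pow_le_pow_iff_right (Fact.out : p.Prime).one_lt).1 h2) (by omega)

end Cfsg.Agent.S1452
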