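import Cfsg.Statements.S1454
import Cfsg.Agent.Lib.OddOrder.NarrowGroup

set_option autoImplicit false
open Cfsg

namespace Cfsg.Agent.S1454

/-- Let G be a finite group, p an odd prime, R a narrow p-subgroup and A a solvable subgroup of odd order normalizing R with A ∩ C_G(R) = 1. Then [A, A] ≤ O_p(A) and the index of O_p(A) in A is coprime to p; if R has an elementary abelian subgroup of order p ^ 3 then the order of every element of A of order coprime to p divides p − 1; and if the order of A is a prime not dividing p(p − 1), then 2·#A divides p + 1, and if in addition [R, A] = R and R is non-abelian then #R = p ^ 3. -/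
theorem result {G : Type*} [Group G] [Finite G] (p : ℕ) [Fact p.Prime] (hp : p ≠ 2) (R A : Subgroup G) (hR : IsPGroup p R) (hRn : Cfsg.IsNarrow p R)
    (hA : (A ≤ Subgroup.normalizer (R : Set G))) (hAs : Group.IsSolvable A) (hAodd : Odd (Nat.card A)) (hfaith : A ⊓ Subgroup.centralizer (R : Set G) = ⊥) :
    (commutator ↥A ≤ Cfsg.pCore p ↥A ∧ ((Cfsg.pCore p ↥A).index).Coprime p) ∧
      (¬ Cfsg.PRankLE p 2 R → ∀ a ∈ A, (orderOf a).Coprime p → orderOf a ∣ p - 1) ∧
      ((Nat.card A).Prime → ¬ Nat.card A ∣ p * (p - 1) →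
        2 * Nat.card A ∣ p + 1 ∧ (⁅R, A⁆ = R → ¬ IsMulCommutative R → Nat.card R = p ^ 3)) := by
  haveI := hAs
  have hinj := OddOrder.NarrowGroup.conjAct_injective R A hA hfaith
  refine ⟨OddOrder.NarrowGroup.core_of_derived
    (OddOrder.NarrowGroup.derived_pgroup hp hR hRn hAodd _ hinj), fun hr a ha hc => ?_, fun hq hnd => ?_⟩
  · rw [← Subgroup.orderOf_mk a ha] at hc ⊢
    exact OddOrder.NarrowGroup.orderOf_dvd hp hR hRn hr _ hinj hc
  · set q := Nat.card A with hqdef
    haveI := Fact.mk hq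
    obtain ⟨a, ha⟩ := exists_prime_orderOf_dvd_card' (G := A) q dvd_rfl
    have hqp : q ≠ p := fun h => hnd (h ▸ dvd_mul_right _ _)
    have hr : Cfsg.PRankLE p 2 R := by
      by_contra hr
      refine hnd ((ha ▸ OddOrder.NarrowGroup.orderOf_dvd hp hR hRn hr _ hinj ?_).trans (dvd_mul_left _ _))
      rw [ha]
      exact (Nat.coprime_primes hq Fact.out).2 hqp
    obtain ⟨hdvd, -⟩ := OddOrder.RankTwoAut.aut_prime hp hR hr hq hqp
      ((orderOf_injective _ hinj a).trans ha)
    refine ⟨?_, OddOrder.NarrowGroup.card_eq_cube hp R A hR hr hA hAodd hq hnd⟩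
    have hsq : p ^ 2 - 1 = (p + 1) * (p - 1) := by simpa using Nat.sq_sub_sq p 1
    rw [hsq] at hdvd
    rcases hq.dvd_mul.1 hdvd with h | h
    · refine (Nat.coprime_two_left.2 hAodd).mul_dvd_of_dvd_of_dvd ?_ h
      obtain ⟨k, hk⟩ := (Fact.out : p.Prime).odd_of_ne_two hp
      exact ⟨k + 1, by omega⟩
    · exact absurd (h.trans (dvd_mul_left _ _)) hnd

end Cfsg.Agent.S1454
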