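import Cfsg.Statements.S1456
import Cfsg.Agent.Lib.FGStruct.SmallCentralizerRank

set_option autoImplicit false
open Cfsg

namespace Cfsg.Agent.S1456

/-- Let G be a solvable group of odd order, p a prime, and E an elementary abelian p-subgroup of the Fitting subgroup F(G) such that F(G) ∩ C_G(E) has no elementary abelian subgroup of order q ^ 3 for any prime q. Then the derived subgroup of G is contained in F(G). -/
theorem result {G : Type*} [Group G] [Finite G] [Group.IsSolvable G] (hodd : Odd (Nat.card G)) (p : ℕ) [Fact p.Prime] (E : Subgroup G) (hE : E ≤ Cfsg.fittingSubgroup G) (hEe : Cfsg.IsElementaryAbelian p E)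
    (hr : Cfsg.RankLE 2 ↥(Cfsg.fittingSubgroup G ⊓ Subgroup.centralizer (E : Set G))) :
    commutator G ≤ Cfsg.fittingSubgroup G := by
  have hrk0 := hr
  haveI := FittingCores.fitting_nilpotent (G := G)
  haveI := FittingCores.fitting_normal (G := G)
  have hEp : E ≤ Cfsg.pCore p G := by
    have hpg : IsPGroup p (E.subgroupOf (Cfsg.fittingSubgroup G)) := fun x =>
      ⟨1, Subtype.ext (Subtype.ext (by rw [pow_one]; exact hEe.2 x.1.1 x.2))⟩
    obtain ⟨P, hP⟩ := hpg.exists_le_sylow
    refine le_trans (fun e he => ?_) (FittingCores.sylow_le_pCore_of_nilpotent inferInstance p P)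
    exact ⟨⟨e, hE he⟩, hP he, rfl⟩
  refine FGStruct.SmallCent.commutator_le_fitting_of_act hodd fun r hr hr2 x hx => ?_
  haveI := Fact.mk hr
  haveI := FittingCores.pCore_normal (G := G) r
  set R := Cfsg.pCore r G with hR
  have hRF : R ≤ Cfsg.fittingSubgroup G := FittingCores.pCore_le_fitting hr
  -- subgroups of `R` centralising `E` have rank at most two
  have hrk : ∀ B : Subgroup R, IsMulCommutative B → (∀ b ∈ B, b ^ r = 1) →
      (∀ b ∈ B, (b : G) ∈ Subgroup.centralizer (E : Set G)) → Nat.card B ≤ r ^ 2 := by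
    intro B hB hBr hBC
    haveI := hB
    have hle : B.map R.subtype ≤ Cfsg.fittingSubgroup G ⊓ Subgroup.centralizer (E : Set G) := by
      rintro _ ⟨b, hb, rfl⟩
      exact ⟨hRF b.2, hBC b hb⟩
    have hab : IsMulCommutative (B.map R.subtype) := inferInstance
    have h := hrk0 r hr ((B.map R.subtype).subgroupOf _) ⟨⟨fun u v => Subtype.ext (Subtype.ext
        (show (u.1.1 : G) * v.1.1 = v.1.1 * u.1.1 from congrArg Subtype.val (@mul_comm' _ _ hab (⟨u.1.1, u.2⟩ : B.map R.subtype) ⟨v.1.1, v.2⟩)))⟩⟩
      (by
        rintro u ⟨b, hb, hbu⟩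
        refine Subtype.ext ?_
        show (u : G) ^ r = 1
        rw [← show (b : G) = u from hbu, ← SubgroupClass.coe_pow, hBr b hb, OneMemClass.coe_one])
    rwa [Nat.card_congr (Subgroup.subgroupOfEquivOfLe hle).toEquiv,
      Subgroup.card_map_of_injective R.subtype_injective] at h
  have hn : IsNarrow r R := by
    by_cases hrp : r = p
    · subst hrp
      refine FGStruct.SmallCent.isNarrow_of_centralizer hr2 (FittingCores.pCore_isPGroup r)
        (E := E.subgroupOf R) ⟨⟨⟨fun u v => Subtype.ext (Subtype.ext (show (u.1.1 : G) * v.1.1 = v.1.1 * u.1.1 from congrArg Subtype.val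
          (@mul_comm' _ _ hEe.1 (⟨u.1.1, u.2⟩ : E) ⟨v.1.1, v.2⟩)))⟩⟩, fun u hu => Subtype.ext (hEe.2 u.1 hu)⟩ ?_
      intro B hB hBr
      haveI := hB
      have h := hrk (B.map (Subgroup.subtype _)) inferInstance (by
          rintro _ ⟨b, hb, rfl⟩
          rw [← map_pow, hBr b hb, map_one]) (by
          rintro _ ⟨b, hb, rfl⟩
          refine Subgroup.mem_centralizer_iff.2 fun e he => ?_
          exact congrArg Subtype.val (Subgroup.mem_centralizer_iff.1 b.2 ⟨e, hEp he⟩ he))
      rwa [Subgroup.card_map_of_injective (Subgroup.subtype_injective _)] at h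
    · refine Or.inl fun B hB hBr => hrk B hB hBr fun b hb => ?_
      refine Subgroup.mem_centralizer_iff.2 fun e he => ?_
      haveI := FittingCores.pCore_normal (G := G) p
      refine Subgroup.commute_of_normal_of_disjoint (Cfsg.pCore p G) R inferInstance inferInstance ?_ e b
        (hEp he) b.2
      exact IsPGroup.disjoint_of_ne p r (Ne.symm hrp) _ _ (FittingCores.pCore_isPGroup p)
        (FittingCores.pCore_isPGroup r)
  set c := MulAut.conjNormal (H := R) with hc
  have hsol : Group.IsSolvable c.range := Group.isSolvable_of_surjective c.rangeRestrict_surjective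
  have hp := OddOrder.NarrowGroup.derived_pgroup hr2 (FittingCores.pCore_isPGroup r) hn
    (A := c.range) (hodd.of_dvd_nat (Subgroup.card_range_dvd c)) c.range.subtype c.range.subtype_injective
  obtain ⟨k, hk⟩ := hp ⟨c.rangeRestrict x, by
    rw [commutator_def, ← Subgroup.map_top_of_surjective _ c.rangeRestrict_surjective, ← Subgroup.map_commutator]
    exact ⟨x, by rwa [← commutator_def], rfl⟩⟩
  exact ⟨k, congrArg (fun y : commutator c.range => (y.1.1)) hk⟩

end Cfsg.Agent.S1456
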