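import Cfsg.Statements.S1457
import Cfsg.Agent.Lib.OddOrder.PStable

set_option autoImplicit false
open Cfsg

namespace Cfsg.Agent.S1457

/-- Let G be a solvable group of odd order, p a prime, S a Sylow p-subgroup of G and A an abelian subgroup of S normal in S. Then A ≤ O_{p',p}(G). -/
theorem result {G : Type*} [Group G] [Finite G] [Group.IsSolvable G] (hodd : Odd (Nat.card G)) (p : ℕ) [Fact p.Prime] (S : Sylow p G) (A : Subgroup G) (hA : A ≤ (S : Subgroup G)) (hAc : IsMulCommutative A)
    (hAn : (S : Subgroup G) ≤ Subgroup.normalizer (A : Set G)) :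
    A ≤ Cfsg.pPrimePCore p G := by
  by_cases hA1 : A = ⊥
  · rw [hA1]; exact bot_le
  have hAp : IsPGroup p A := S.isPGroup'.to_le hA
  have hp2 : p ≠ 2 := by
    rintro rfl
    refine Nat.not_even_iff_odd.2 hodd (even_iff_two_dvd.2 ?_)
    exact (hAp.card_eq_or_dvd.resolve_left fun h => hA1 (Subgroup.card_eq_one.1 h)).trans
      (Subgroup.card_subgroup_dvd_card A)
  haveI : (Cfsg.pPrimeCore p G).Normal := FittingCores.pPrimeCore_normal p
  set f := QuotientGroup.mk' (Cfsg.pPrimeCore p G) with hf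
  have hfs : Function.Surjective f := QuotientGroup.mk'_surjective _
  have hO : Cfsg.pPrimeCore p (G ⧸ Cfsg.pPrimeCore p G) = ⊥ := FittingCores.pPrimeCore_quotient_eq_bot p _ rfl
  have hodd' : Odd (Nat.card (G ⧸ Cfsg.pPrimeCore p G)) := hodd.of_dvd_nat (Subgroup.card_quotient_dvd_card _)
  have hR : Cfsg.pCore p (G ⧸ Cfsg.pPrimeCore p G) ≤ ((S : Subgroup G)).map f := by
    rw [← Sylow.coe_mapSurjective hfs]
    exact PBasic.pCore_le_sylow _
  haveI := FittingCores.pCore_normal (G := G ⧸ Cfsg.pPrimeCore p G) p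
  haveI := hAc
  show A ≤ (Cfsg.pCore p (G ⧸ Cfsg.pPrimeCore p G)).comap f
  rw [← Subgroup.map_le_iff_le_comap]
  exact OddOrder.PStable.le_pCore_of_normalized hodd' hp2 _ (FittingCores.pCore_isPGroup p)
    (OddOrder.PStable.isPGroup_centralizer_pCore hO) _ (hAp.map f) inferInstance
    (hR.trans ((Subgroup.map_mono hAn).trans (Subgroup.le_normalizer_map f)))

end Cfsg.Agent.S1457
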