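import Cfsg.Statements.S1458
import Cfsg.Agent.Lib.OddOrder.PStable

set_option autoImplicit false
open Cfsg

namespace Cfsg.Agent.S1458

/-- Let G be a solvable group of odd order, p a prime and S a Sylow p-subgroup of G. Then the subgroup generated by the centre of the Thompson subgroup of S and O_{p'}(G) is normal in G. -/
theorem result {G : Type*} [Group G] [Finite G] [Group.IsSolvable G] (hodd : Odd (Nat.card G)) (p : ℕ) [Fact p.Prime] (S : Sylow p G) :
    (Cfsg.centerThompsonOf p (S : Subgroup G) ⊔ Cfsg.pPrimeCore p G).Normal := by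
  haveI : (Cfsg.pPrimeCore p G).Normal := FittingCores.pPrimeCore_normal p
  rw [ZJ.centerThompsonOf_eq]
  by_cases hp2 : p = 2
  · subst hp2
    have hS : (S : Subgroup G) = ⊥ := by
      rw [← Subgroup.card_eq_one]
      refine S.isPGroup'.card_eq_or_dvd.resolve_right fun h => ?_
      exact Nat.not_even_iff_odd.2 hodd (even_iff_two_dvd.2 (h.trans (Subgroup.card_subgroup_dvd_card _)))
    have h1 : ZJ.zJ 2 True (S : Subgroup G) = ⊥ := by
      rw [← le_bot_iff, ← hS]
      exact inf_le_left.trans (sSup_le fun A hA => hA.1)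
    rw [h1, bot_sup_eq]
    infer_instance
  set f := QuotientGroup.mk' (Cfsg.pPrimeCore p G) with hf
  have hfs : Function.Surjective f := QuotientGroup.mk'_surjective _
  have hO : Cfsg.pPrimeCore p (G ⧸ Cfsg.pPrimeCore p G) = ⊥ := FittingCores.pPrimeCore_quotient_eq_bot p _ rfl
  have hodd' : Odd (Nat.card (G ⧸ Cfsg.pPrimeCore p G)) := hodd.of_dvd_nat (Subgroup.card_quotient_dvd_card _)
  have hinj : Set.InjOn f ((S : Subgroup G) : Set G) := fun a ha b hb hab => by
    have h : a⁻¹ * b ∈ Cfsg.pPrimeCore p G := QuotientGroup.eq.1 hab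
    exact inv_mul_eq_one.1 (PBasic.eq_one_of_isPGroup_of_coprime (p := p) S.isPGroup'
      (mul_mem (inv_mem ha) hb) (PBasic.coprime_orderOf_of_mem (FittingCores.pPrimeCore_coprime p) h))
  have hn : ((ZJ.zJ p True (S : Subgroup G)).map f).Normal := by
    rw [ZJ.zJ_map f hinj, ← Sylow.coe_mapSurjective hfs]
    exact ZJ.zJ_normal hp2 (OddOrder.PStable.isQuad hodd' hp2)
      (FittingCores.centralizer_pCore_le Fact.out hO) _ True
  have := hn.comap f
  rwa [Subgroup.comap_map_eq, hf, QuotientGroup.ker_mk'] at this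

end Cfsg.Agent.S1458
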