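import Cfsg.Statements.S1461
import Cfsg.Agent.Lib.OddOrder.Factor
import Cfsg.Agent.Lib.OddOrder.PLengthOne

set_option autoImplicit false
open Cfsg

namespace Cfsg.Agent.S1461

/-- Let G be a finite solvable group, p a prime with G = O_{p',p,p'}(G), and S a Sylow p-subgroup. Then: if S ≤ G' then S ≤ [N_G(S), N_G(S)]; if Y ⊆ S and xYx⁻¹ ⊆ S then x = g c for some g ∈ N_G(S) and c centralizing Y; and for every p-subgroup Q there is x ∈ C_G(Q ∩ S) with xQx⁻¹ ≤ S. -/
theorem result {G : Type*} [Group G] [Finite G] [Group.IsSolvable G] (p : ℕ) [Fact p.Prime] (hpl : Cfsg.PLengthLE p 1 G) (S : Sylow p G) :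
    ((S : Subgroup G) ≤ commutator G → (S : Subgroup G) ≤ ⁅Subgroup.normalizer ((S : Subgroup G) : Set G), Subgroup.normalizer ((S : Subgroup G) : Set G)⁆) ∧
      (∀ (Y : Set G) (x : G), Y ⊆ (S : Subgroup G) → (fun y => x * y * x⁻¹) '' Y ⊆ (S : Subgroup G) →
        ∃ g ∈ Subgroup.normalizer ((S : Subgroup G) : Set G), ∃ c ∈ Subgroup.centralizer Y, g * c = x) ∧
      ∀ Q : Subgroup G, IsPGroup p Q → ∃ x ∈ Subgroup.centralizer ((Q ⊓ (S : Subgroup G) : Subgroup G) : Set G), Q.map (MulAut.conj x).toMonoidHom ≤ (S : Subgroup G) := by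
  haveI : (Cfsg.pPrimeCore p G).Normal := FittingCores.pPrimeCore_normal p
  set K := Cfsg.pPrimeCore p G with hK
  set U := Subgroup.normalizer ((S : Subgroup G) : Set G) with hU
  have hSU : (S : Subgroup G) ≤ U := Subgroup.le_normalizer
  have hcop : ∀ {H : Subgroup G}, IsPGroup p H → (Nat.card H).Coprime (Nat.card K) := fun {H} hH => by
    obtain ⟨k, hk⟩ := IsPGroup.iff_card.1 hH
    rw [hk]
    exact Nat.Coprime.pow_left k (FittingCores.pPrimeCore_coprime p).symm
  have hKU : K ⊔ U = ⊤ := by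
    haveI := OddOrder.PLengthOne.sup_sylow_normal hpl S
    have h := Sylow.normalizer_sup_eq_top' (N := K ⊔ (S : Subgroup G)) S le_sup_right
    rw [← h]
    refine le_antisymm (sup_le (le_sup_left.trans le_sup_right) le_sup_left) (sup_le le_sup_right
      (sup_le le_sup_left (hSU.trans le_sup_right)))
  have fusion : ∀ (Y : Set G) (x : G), Y ⊆ (S : Subgroup G) →
      (fun y => x * y * x⁻¹) '' Y ⊆ (S : Subgroup G) →
      ∃ g ∈ U, ∃ c ∈ Subgroup.centralizer Y, g * c = x := by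
    intro Y x hY hxY
    have hle : Subgroup.closure Y ≤ (S : Subgroup G) := (Subgroup.closure_le _).2 hY
    obtain ⟨u, hu, c, hc, rfl⟩ := OddOrder.Factor.conj_factor K U (Subgroup.closure Y) hKU
      (hle.trans hSU) (hcop (S.isPGroup'.to_le hle)) x (by
        rw [MonoidHom.map_closure]
        exact (Subgroup.closure_le _).2 (hxY.trans hSU))
    exact ⟨u, hu, c, Subgroup.centralizer_le Subgroup.subset_closure (Subgroup.mem_inf.1 hc).2, rfl⟩
  refine ⟨fun hS => ?_, fusion, fun Q hQ => ?_⟩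
  · have h := OddOrder.Factor.inf_commutator_eq K U (S : Subgroup G) hKU hSU (hcop S.isPGroup')
    rw [inf_eq_left.2 hS] at h
    exact h.le.trans inf_le_right
  · obtain ⟨T, hT⟩ := hQ.exists_le_sylow
    obtain ⟨x, hx⟩ := MulAction.exists_smul_eq G T S
    have hQS : ∀ q ∈ Q, x * q * x⁻¹ ∈ (S : Subgroup G) := fun q hq => by
      rw [← hx]
      exact Subgroup.smul_mem_pointwise_smul q (MulAut.conj x) (T : Subgroup G) (hT hq)
    obtain ⟨g, hg, c, hc, rfl⟩ := fusion ((Q ⊓ (S : Subgroup G) : Subgroup G) : Set G) x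
      (fun y hy => (Subgroup.mem_inf.1 hy).2)
      (by rintro _ ⟨y, hy, rfl⟩; exact hQS y (Subgroup.mem_inf.1 hy).1)
    refine ⟨c, hc, ?_⟩
    rintro _ ⟨q, hq, rfl⟩
    have h := (Subgroup.mem_normalizer_iff.1 hg (c * q * c⁻¹)).2 (by
      simpa [mul_assoc] using hQS q hq)
    exact h

end Cfsg.Agent.S1461
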