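import Cfsg.Statements.S1462
import Cfsg.Agent.Lib.OddOrder.PLengthOne

set_option autoImplicit false
open Cfsg

namespace Cfsg.Agent.S1462

/-- Let G be a finite solvable group, p an odd prime with G = O_{p',p,p'}(G), E an elementary abelian p-subgroup contained in no larger elementary abelian p-subgroup of G, and L a subgroup of order coprime to p normalized by E. Then L ≤ O_{p'}(G). -/
theorem result {G : Type*} [Group G] [Finite G] [Group.IsSolvable G] (p : ℕ) [Fact p.Prime] (hp : p ≠ 2) (hpl : Cfsg.PLengthLE p 1 G) (E L : Subgroup G) (hE : Cfsg.IsElementaryAbelian p E)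
    (hEmax : ∀ B : Subgroup G, Cfsg.IsElementaryAbelian p B → E ≤ B → B = E) (hL : (Nat.card L).Coprime p) (hEL : E ≤ Subgroup.normalizer (L : Set G)) :
    L ≤ Cfsg.pPrimeCore p G := by
  refine OddOrder.PLengthOne.le_pPrimeCore hp hpl
    (fun x => ⟨1, Subtype.ext (by simpa using hE.2 x x.2)⟩) (fun y hy hyp => ?_) hL hEL
  have hyc : ∀ e ∈ E, e * y = y * e := Subgroup.mem_centralizer_iff.1 hy
  have hEc : ∀ a ∈ E, ∀ b ∈ E, a * b = b * a := fun a ha b hb =>
    congrArg Subtype.val (hE.1.is_comm.comm (⟨a, ha⟩ : E) ⟨b, hb⟩)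
  set B := E ⊔ Subgroup.zpowers y with hB
  have hBc : B ≤ Subgroup.centralizer (B : Set G) := by
    have h1 : E ≤ Subgroup.centralizer (B : Set G) := by
      rw [Subgroup.le_centralizer_iff, hB, sup_le_iff, Subgroup.zpowers_le]
      exact ⟨fun a ha => Subgroup.mem_centralizer_iff.2 fun b hb => hEc b hb a ha, hy⟩
    refine sup_le h1 (Subgroup.zpowers_le.2 ?_)
    rw [← Subgroup.zpowers_le, Subgroup.le_centralizer_iff, hB, sup_le_iff, Subgroup.zpowers_le]
    refine ⟨fun a ha => ?_, Subgroup.mem_centralizer_iff.2 ?_⟩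
    · rw [Subgroup.mem_centralizer_iff]
      rintro _ ⟨i, rfl⟩
      exact ((show Commute a y from hyc a ha).zpow_right i).eq.symm
    · rintro _ ⟨i, rfl⟩
      exact ((Commute.refl y).zpow_left i).eq
  have hcomm : ∀ a ∈ B, ∀ b ∈ B, a * b = b * a := fun a ha b hb =>
    Subgroup.mem_centralizer_iff.1 (hBc hb) a ha
  have hexp : ∀ b ∈ B, b ^ p = 1 := by
    intro b hb
    refine Subgroup.closure_induction (p := fun x _ => x ^ p = 1) ?_ (one_pow p) ?_ ?_
      (show b ∈ Subgroup.closure ((B : Set G) ∩ {x | x ^ p = 1}) from ?_)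
    · exact fun x hx => hx.2
    · intro x z hx hz hxp hzp
      have hxB : x ∈ B := (Subgroup.closure_le B).2 Set.inter_subset_left hx
      have hzB : z ∈ B := (Subgroup.closure_le B).2 Set.inter_subset_left hz
      rw [(show Commute x z from hcomm x hxB z hzB).mul_pow, hxp, hzp, one_mul]
    · intro x _ hxp
      rw [inv_pow, hxp, inv_one]
    · refine (sup_le ?_ (Subgroup.zpowers_le.2 ?_) : E ⊔ Subgroup.zpowers y ≤ _) hb
      · exact fun e he => Subgroup.subset_closure ⟨Subgroup.mem_sup_left he, hE.2 e he⟩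
      · exact Subgroup.subset_closure ⟨Subgroup.mem_sup_right (Subgroup.mem_zpowers y), hyp⟩
  exact hEmax B ⟨⟨⟨fun a b => Subtype.ext (hcomm a a.2 b b.2)⟩⟩, hexp⟩ le_sup_left ▸
    Subgroup.mem_sup_right (Subgroup.mem_zpowers y)

end Cfsg.Agent.S1462
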