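import Cfsg.Statements.S1464
import Cfsg.Agent.Lib.OddOrder.PStable

set_option autoImplicit false
open Cfsg

namespace Cfsg.Agent.S1464

open scoped commutatorElement

/-- Let p be an odd prime and G a solvable group of odd order, P a p-subgroup with O_{p'}(G)P normal in G, and A a p-subgroup of N_G(P) with [[P, A], A] = 1. Then the image of A in the quotient N_G(P)/C_G(P) is contained in the p-core of that quotient. -/
theorem result {G : Type*} [Group G] [Finite G] [Group.IsSolvable G] (hodd : Odd (Nat.card G)) (p : ℕ) [Fact p.Prime] (hp : p ≠ 2) (P A : Subgroup G) (hP : IsPGroup p P) (hPn : (Cfsg.pPrimeCore p G ⊔ P).Normal)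
    (hA : IsPGroup p A) (hAN : A ≤ Subgroup.normalizer (P : Set G)) (hquad : ⁅⁅P, A⁆, A⁆ = ⊥) :
    (A.subgroupOf (Subgroup.normalizer (P : Set G))).map
        (QuotientGroup.mk' ((Subgroup.centralizer (P : Set G)).subgroupOf (Subgroup.normalizer (P : Set G))))
      ≤ Cfsg.pCore p _ := by
  set N := Subgroup.normalizer (P : Set G) with hN
  haveI : (P.subgroupOf N).Normal := Subgroup.normal_in_normalizer
  refine OddOrder.PStable.map_le_pCore (hodd.of_dvd_nat (Subgroup.card_subgroup_dvd_card N)) hp
    (P.subgroupOf N) hP.comap_subtype _ ?_ _ hA.comap_subtype ?_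
  · ext x
    rw [Subgroup.mem_subgroupOf, Subgroup.mem_centralizer_iff, Subgroup.mem_centralizer_iff]
    exact ⟨fun h y hy => Subtype.ext (h (y : G) hy),
      fun h y hy => congrArg Subtype.val (h ⟨y, Subgroup.le_normalizer hy⟩ hy)⟩
  · intro a ha v hv
    apply Subtype.ext
    have hav : ⁅(v : G), (a : G)⁆ ∈ ⁅P, A⁆ := Subgroup.commutator_mem_commutator hv ha
    have h2 := Subgroup.commutator_mem_commutator (inv_mem hav) (show (a : G) ∈ A from ha)
    rw [hquad, Subgroup.mem_bot, commutatorElement_eq_one_iff_mul_comm, commutatorElement_inv] at h2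
    exact h2.symm

end Cfsg.Agent.S1464
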