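import Cfsg.Statements.S1466
import Cfsg.Agent.Lib.OddOrder.Puig
import Mathlib.GroupTheory.PGroup

set_option autoImplicit false
open Cfsg

namespace Cfsg.Agent.S1466

/-- Let p be a prime and R a nontrivial finite p-group. Then for every i > 0, Z(R) ≤ C_R(L_i(R)) ≤ L_i(R); likewise Z(R) ≤ C_R(L_*(R)) ≤ L_*(R) and Z(R) ≤ C_R(L(R)) ≤ L(R); and L(R) ≠ 1, L_*(R) ≠ 1. -/
theorem result {R : Type*} [Group R] [Finite R] (p : ℕ) [Fact p.Prime] (hR : IsPGroup p R) [Nontrivial R] :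
    (∀ i : ℕ, 0 < i → Subgroup.center R ≤ Subgroup.centralizer ((Cfsg.puigSeq R i : Subgroup R) : Set R) ∧
        Subgroup.centralizer ((Cfsg.puigSeq R i : Subgroup R) : Set R) ≤ Cfsg.puigSeq R i) ∧
      (Subgroup.center R ≤ Subgroup.centralizer ((Cfsg.puigLower R : Subgroup R) : Set R) ∧ Subgroup.centralizer ((Cfsg.puigLower R : Subgroup R) : Set R) ≤ Cfsg.puigLower R) ∧
      (Subgroup.center R ≤ Subgroup.centralizer ((Cfsg.puigSubgroup R : Subgroup R) : Set R) ∧ Subgroup.centralizer ((Cfsg.puigSubgroup R : Subgroup R) : Set R) ≤ Cfsg.puigSubgroup R) ∧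
      Cfsg.puigSubgroup R ≠ ⊥ ∧ Cfsg.puigLower R ≠ ⊥ := by
  have hn : Group.IsNilpotent R := hR.isNilpotent
  obtain ⟨k, hk0, hk⟩ := Cfsg.Agent.OddOrder.Puig.exists_stable (G := R)
  have key : ∀ i : ℕ, 0 < i →
      Subgroup.center R ≤ Subgroup.centralizer ((Cfsg.puigSeq R i : Subgroup R) : Set R) ∧
        Subgroup.centralizer ((Cfsg.puigSeq R i : Subgroup R) : Set R) ≤ Cfsg.puigSeq R i := by
    intro i hi
    obtain ⟨j, rfl⟩ := Nat.exists_eq_add_of_le' hi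
    exact ⟨Subgroup.center_le_centralizer _, Cfsg.Agent.OddOrder.Puig.centralizer_puigStep_le _⟩
  have h1 := key (2 * k) (by omega)
  have h2 := key (2 * k + 1) (by omega)
  rw [(hk k le_rfl).1] at h1
  rw [(hk k le_rfl).2] at h2
  have hz : Subgroup.center R ≠ ⊥ := Group.IsNilpotent.center_ne_bot R
  exact ⟨key, h1, h2, fun h => hz (le_bot_iff.mp (h ▸ h2.1.trans h2.2)),
    fun h => hz (le_bot_iff.mp (h ▸ h1.1.trans h1.2))⟩

end Cfsg.Agent.S1466
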