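import Cfsg.Statements.S1469
import Cfsg.Agent.Lib.OddOrder.PuigNormal
import Cfsg.Agent.Lib.Solvable.Coprime

set_option autoImplicit false
open Cfsg

namespace Cfsg.Agent.S1469

open scoped Pointwise

/-- Let p be an odd prime, G a solvable group of odd order and S a Sylow p-subgroup, and let Z be the centre of the Puig subgroup L(S), viewed inside G. Then G is generated by O_{p'}(G) and N_G(Z); and if O_{p'}(G) = 1 then Z is normal in G. -/
theorem result {G : Type*} [Group G] [Finite G] [Group.IsSolvable G] (hodd : Odd (Nat.card G)) (p : ℕ) [Fact p.Prime] (hp : p ≠ 2) (S : Sylow p G) :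
    Cfsg.pPrimeCore p G ⊔ Subgroup.normalizer ((((Subgroup.center ↥(Cfsg.puigSubgroup ↥(S : Subgroup G))).map (Cfsg.puigSubgroup ↥(S : Subgroup G)).subtype).map (S : Subgroup G).subtype : Subgroup G) : Set G) = ⊤ ∧
      (Cfsg.pPrimeCore p G = ⊥ → (((Subgroup.center ↥(Cfsg.puigSubgroup ↥(S : Subgroup G))).map (Cfsg.puigSubgroup ↥(S : Subgroup G)).subtype).map (S : Subgroup G).subtype).Normal) := by
  rw [OddOrder.PuigIn.center_puig_eq]
  refine ⟨?_, fun hO => OddOrder.PuigNormal.zPuig_normal hodd hp hO S⟩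
  haveI : (Cfsg.pPrimeCore p G).Normal := FittingCores.pPrimeCore_normal p
  set f := QuotientGroup.mk' (Cfsg.pPrimeCore p G) with hf
  have hfs : Function.Surjective f := QuotientGroup.mk'_surjective _
  have hO : Cfsg.pPrimeCore p (G ⧸ Cfsg.pPrimeCore p G) = ⊥ := FittingCores.pPrimeCore_quotient_eq_bot p _ rfl
  have hodd' : Odd (Nat.card (G ⧸ Cfsg.pPrimeCore p G)) := hodd.of_dvd_nat (Subgroup.card_quotient_dvd_card _)
  have hinj : Set.InjOn f ((S : Subgroup G) : Set G) := fun a ha b hb hab => by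
    have h : a⁻¹ * b ∈ Cfsg.pPrimeCore p G := QuotientGroup.eq.1 hab
    exact inv_mul_eq_one.1 (PBasic.eq_one_of_isPGroup_of_coprime (p := p) S.isPGroup'
      (mul_mem (inv_mem ha) hb) (PBasic.coprime_orderOf_of_mem (FittingCores.pPrimeCore_coprime p) h))
  set L := OddOrder.PuigIn.upper (S : Subgroup G) with hL
  set Z := L ⊓ Subgroup.centralizer (L : Set G) with hZ
  have hn : (Z.map f).Normal := by
    rw [hZ, ZJ.inf_centralizer_map f (hinj.mono (OddOrder.PuigIn.upper_le _)),
      OddOrder.PuigIn.upper_map f _ hinj, ← Sylow.coe_mapSurjective hfs]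
    exact OddOrder.PuigNormal.zPuig_normal hodd' hp hO _
  have hn' : (Z ⊔ Cfsg.pPrimeCore p G).Normal := by
    have := hn.comap f
    rwa [Subgroup.comap_map_eq, hf, QuotientGroup.ker_mk'] at this
  have hZp : IsPGroup p Z := S.isPGroup'.to_le (inf_le_left.trans (OddOrder.PuigIn.upper_le _))
  have hcop : (Nat.card Z).Coprime (Nat.card (Cfsg.pPrimeCore p G)) := by
    obtain ⟨k, hk⟩ := IsPGroup.iff_card.1 hZp
    rw [hk]
    exact Nat.Coprime.pow_left k (FittingCores.pPrimeCore_coprime p).symm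
  rw [eq_top_iff]
  intro g _
  have hB : MulAut.conj g • Z ≤ Cfsg.pPrimeCore p G ⊔ Z := by
    rintro _ ⟨z, hz, rfl⟩
    rw [sup_comm]
    exact hn'.conj_mem z (Subgroup.mem_sup_left hz) g
  obtain ⟨k, hk, hkZ⟩ := SchurZ.conj_in Subgroup.le_normalizer_of_normal hcop (Or.inl inferInstance)
    hB (SolvBasic.card_conjSmul _ _)
  have hmem : k⁻¹ * g ∈ Subgroup.normalizer (Z : Set G) := by
    rw [SolvBasic.mem_normalizer_iff_conjSmul, ← SolvBasic.conjSmul_conjSmul, ← hkZ,
      SolvBasic.conjSmul_inv_conjSmul]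
  rw [show g = k * (k⁻¹ * g) by group]
  exact mul_mem (Subgroup.mem_sup_left hk) (Subgroup.mem_sup_right hmem)

end Cfsg.Agent.S1469
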