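import Cfsg.Statements.S1471
import Cfsg.Agent.Lib.OddOrder.NormCount

set_option autoImplicit false
open Cfsg

namespace Cfsg.Agent.S1471

/-- Let p and q be odd primes with (p^q − 1)/(p − 1) coprime to p − 1. Then there are at least two elements a of the field with p ^ q elements such that both a and 2 − a have norm 1 to the prime field. -/
theorem result (p q : ℕ) [Fact p.Prime] [Fact q.Prime] (hp : p ≠ 2) (hq : q ≠ 2) (hA : Nat.Coprime ((p ^ q - 1) / (p - 1)) (p - 1)) :
    2 ≤ Set.ncard {a : GaloisField p q | Algebra.norm (ZMod p) a = 1 ∧ Algebra.norm (ZMod p) (2 - a) = 1} := by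
  refine Cfsg.Agent.OddOrder.NormCount.two_le_ncard hp hq ?_
  have hqp : q.Prime := Fact.out
  refine (Nat.Prime.coprime_iff_not_dvd hqp).2 fun hdvd => hqp.ne_one ?_
  have hp2 : 2 ≤ p := (Fact.out : p.Prime).two_le
  rw [← Nat.geomSum_eq hp2 q] at hA
  refine Nat.eq_one_of_dvd_coprimes hA ?_ hdvd
  rw [← Nat.modEq_zero_iff_dvd]
  have h1 : p ≡ 1 [MOD q] := ((Nat.modEq_iff_dvd' (by omega)).2 hdvd).symm
  have h2 : ∀ n, (∑ i ∈ Finset.range n, p ^ i) ≡ n [MOD q] := by
    intro n
    induction n with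
    | zero => rfl
    | succ n ih =>
      rw [Finset.sum_range_succ]
      exact ih.add (by simpa using h1.pow n)
  exact (h2 q).trans ((Nat.modEq_zero_iff_dvd).2 dvd_rfl)

end Cfsg.Agent.S1471
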