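import Cfsg.Statements.S1480
import Cfsg.Agent.Lib.OddOrder.Transitive
import Cfsg.Agent.Lib.OddOrder.InvSubgroups
import Mathlib.GroupTheory.Transfer

set_option autoImplicit false
open Cfsg

namespace Cfsg.Agent.S1480

open scoped commutatorElement

theorem class_two {G : Type*} [Group G] [Finite G] {p : ℕ} [Fact p.Prime]
    (hS : ∀ S : Sylow p G, Group.IsNilpotent (S : Subgroup G) ∧
      Group.nilpotencyClass (S : Subgroup G) ≤ 2)
    {T : Subgroup G} (hT : IsPGroup p T) :
    ∀ a ∈ T, ∀ b ∈ T, ∀ c ∈ T, ⁅a, b⁆ * c = c * ⁅a, b⁆ := by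
  intro a ha b hb c hc
  obtain ⟨S, hTS⟩ := hT.exists_le_sylow
  obtain ⟨hn, hcl⟩ := hS S
  haveI := hn
  have htop : Subgroup.upperCentralSeries (S : Subgroup G) 2 = ⊤ :=
    upperCentralSeries_eq_top_iff_nilpotencyClass_le.mpr hcl
  have h2 : (⟨a, hTS ha⟩ : (S : Subgroup G)) ∈ Subgroup.upperCentralSeries (S : Subgroup G) (1 + 1) := by
    rw [htop]; exact Subgroup.mem_top _
  have h1 := Subgroup.mem_upperCentralSeries_succ_iff.1 h2 ⟨b, hTS hb⟩
  rw [Subgroup.upperCentralSeries_one, Subgroup.mem_center_iff] at h1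
  exact (congrArg Subtype.val (h1 ⟨c, hTS hc⟩)).symm

theorem class_two_quotient {G : Type*} [Group G] [Finite G] {p : ℕ} [Fact p.Prime]
    (hS : ∀ S : Sylow p G, Group.IsNilpotent (S : Subgroup G) ∧
      Group.nilpotencyClass (S : Subgroup G) ≤ 2)
    (H : Subgroup G) (N : Subgroup H) [N.Normal] (R : Subgroup (H ⧸ N)) (hR : IsPGroup p R) :
    ∀ a ∈ R, ∀ b ∈ R, ∀ c ∈ R, ⁅a, b⁆ * c = c * ⁅a, b⁆ := by
  intro a ha b hb c hc
  obtain ⟨P', hP'⟩ := hR.exists_le_sylow
  obtain ⟨P, rfl⟩ := Sylow.mapSurjective_surjective (QuotientGroup.mk'_surjective N) p P'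
  rw [Sylow.coe_mapSurjective] at hP'
  obtain ⟨a', ha', rfl⟩ := hP' ha
  obtain ⟨b', hb', rfl⟩ := hP' hb
  obtain ⟨c', hc', rfl⟩ := hP' hc
  have h := class_two hS (P.2.map H.subtype) (a' : G) ⟨a', ha', rfl⟩ (b' : G) ⟨b', hb', rfl⟩
    (c' : G) ⟨c', hc', rfl⟩
  have h' : ⁅a', b'⁆ * c' = c' * ⁅a', b'⁆ := by
    apply Subtype.ext
    simpa [commutatorElement_def] using h
  rw [← map_commutatorElement, ← map_mul, ← map_mul, h']


/-- Let G be a finite group and p a prime such that the normalizer of every nontrivial p-subgroup of G is p-constrained; if p = 2 assume also that the Sylow 2-subgroups of G have nilpotency class at most 2. Let E be an abelian p-subgroup containing an elementary abelian subgroup of order p ^ 3 and containing every element of p-power order of C_G(E). Then for every prime q ≠ p, any two maximal E-invariant q-subgroups of G are conjugate by an element of O_{p'}(C_G(E)). -/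
theorem result {G : Type*} [Group G] [Finite G] (p : ℕ) [Fact p.Prime]
    (hloc : ∀ T : Subgroup G, IsPGroup p T → T ≠ ⊥ → Cfsg.IsPConstrained p ↥(Subgroup.normalizer (T : Set G)))
    (h2 : p = 2 → ∀ S : Sylow p G, Group.IsNilpotent (S : Subgroup G) ∧ Group.nilpotencyClass (S : Subgroup G) ≤ 2)
    (E : Subgroup G) (hEp : IsPGroup p E) (hEc : IsMulCommutative E) (hE3 : ¬ Cfsg.PRankLE p 2 E)
    (hEfull : ∀ x ∈ Subgroup.centralizer (E : Set G), IsPGroup p (Subgroup.zpowers x) → x ∈ E)
    (q : ℕ) [Fact q.Prime] (hqp : q ≠ p) :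
    ∀ Q₁ ∈ Cfsg.maxInvSubgroups ⊤ E {q}, ∀ Q₂ ∈ Cfsg.maxInvSubgroups ⊤ E {q},
        ∃ k ∈ Cfsg.piCoreOf (Cfsg.primesNotDvd p) (Subgroup.centralizer (E : Set G)), Q₂ = Q₁.map (MulAut.conj k).toMonoidHom := by
  have hp := (Fact.out : p.Prime)
  haveI := hEc
  have hcomm : ∀ x ∈ E, ∀ y ∈ E, x * y = y * x := fun x hx y hy =>
    congrArg Subtype.val (mul_comm' (⟨x, hx⟩ : E) ⟨y, hy⟩)
  have hcent : ∀ y ∈ Subgroup.centralizer (E : Set G), (∃ k, orderOf y = p ^ k) → y ∈ E :=
    fun y hy ⟨k, hk⟩ => hEfull y hy (IsPGroup.of_card (n := k) (by rw [Nat.card_zpowers, hk]))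
  obtain ⟨A₀, hA₀E, hA₀e, hA₀c⟩ : ∃ A₀ : Subgroup G, A₀ ≤ E ∧ (∀ e ∈ A₀, e ^ p = 1) ∧
      p ^ 3 ≤ Nat.card A₀ := by
    unfold Cfsg.PRankLE at hE3
    push Not at hE3
    obtain ⟨A, -, hA, hcard⟩ := hE3
    refine ⟨A.map E.subtype, Subgroup.map_subtype_le _, ?_, ?_⟩
    · rintro _ ⟨e, he, rfl⟩
      exact (map_pow E.subtype e p).symm.trans (by rw [hA e he, map_one])
    · rw [Subgroup.card_map_of_injective E.subtype_injective]
      obtain ⟨k, hk⟩ := IsPGroup.iff_card.1 (hEp.to_subgroup A)
      rw [hk] at hcard ⊢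
      exact Nat.pow_le_pow_right hp.pos ((Nat.pow_lt_pow_iff_right hp.one_lt).1 hcard)
  intro Q₁ h₁ Q₂ h₂
  rw [Cfsg.Agent.OddOrder.Inv.mem_max_iff] at h₁ h₂
  obtain ⟨c, hc, hQ⟩ := Cfsg.Agent.CTransitivity.transitivity hEp hA₀E hA₀e hA₀c hqp
    (fun b hb hb1 => by
      set H := Subgroup.centralizer ({b} : Set G) with hH
      have hT : IsPGroup p (Subgroup.zpowers b) := hEp.to_le (Subgroup.zpowers_le.2 (hA₀E hb))
      have hcon : Cfsg.IsPConstrained p H := by
        set N := Subgroup.normalizer (Subgroup.zpowers b : Set G) with hN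
        have hbN : b ∈ N := Subgroup.le_normalizer (Subgroup.mem_zpowers b)
        have hHN : H ≤ N := by
          refine le_trans ?_ (Subgroup.centralizer_le_normalizer _)
          intro g hg
          rw [Subgroup.mem_centralizer_iff]
          intro a ha
          obtain ⟨k, rfl⟩ := Subgroup.mem_zpowers_iff.1 ha
          exact ((show Commute g b from Subgroup.mem_centralizer_singleton_iff.1 hg).zpow_right k).eq.symm
        have hU : IsPGroup p ((Subgroup.zpowers b).subgroupOf N) :=
          hT.comap_of_injective N.subtype N.subtype_injective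
        have h := Cfsg.Agent.PConstr.isPConstrained_centralizer
          (hloc _ hT (by simpa using hb1)) hU
        have heq : Subgroup.centralizer (((Subgroup.zpowers b).subgroupOf N : Subgroup N) : Set N) =
            H.subgroupOf N := by
          ext x
          rw [Subgroup.mem_subgroupOf, hH, Subgroup.mem_centralizer_singleton_iff,
            Subgroup.mem_centralizer_iff]
          constructor
          · intro h
            exact (congrArg Subtype.val (h ⟨b, hbN⟩ (Subgroup.mem_zpowers b))).symm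
          · intro h a ha
            obtain ⟨k, hk⟩ := Subgroup.mem_zpowers_iff.1 (Subgroup.mem_subgroupOf.1 ha)
            apply Subtype.ext
            show (a : G) * x = x * a
            rw [← hk]
            exact ((show Commute (x : G) b from h).zpow_right k).eq.symm
        rw [heq] at h
        exact Cfsg.Agent.PConstr.isPConstrained_congr (Subgroup.subgroupOfEquivOfLe hHN) h
      have hEH : E ≤ H := fun a ha =>
        Subgroup.mem_centralizer_singleton_iff.2 (hcomm a ha b (hA₀E hb))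
      refine ⟨(Cfsg.pPrimeCore p H).map H.subtype, ?_, ?_, fun U hU hEU hUH => ?_⟩
      · rw [Subgroup.card_map_of_injective H.subtype_injective]
        exact Cfsg.Agent.FittingCores.pPrimeCore_coprime p
      · intro a ha
        haveI := Cfsg.Agent.FittingCores.pPrimeCore_normal p (G := H)
        rw [Subgroup.mem_normalizer_iff]
        intro x
        constructor
        · rintro ⟨w, hw, rfl⟩
          exact ⟨_, Subgroup.Normal.conj_mem inferInstance w hw ⟨a, hEH ha⟩, rfl⟩
        · rintro ⟨w, hw, hwe⟩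
          refine ⟨_, Subgroup.Normal.conj_mem inferInstance w hw (⟨a, hEH ha⟩⁻¹), ?_⟩
          have hwe' : (w : G) = a * x * a⁻¹ := hwe
          simp [hwe', mul_assoc]
      · have key : U.subgroupOf H ≤ Cfsg.pPrimeCore p H := by
          refine Cfsg.Agent.OddOrder.Transitive.le_pPrimeCore_of_constrained hcon
            (A := E.subgroupOf H)
            (hEp.of_equiv (Subgroup.subgroupOfEquivOfLe hEH).symm) ?_ (fun y hy hyp => ?_) ?_ ?_
          · by_cases hp2 : p = 2
            · exact Or.inr (class_two_quotient (h2 hp2) H _)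
            · exact Or.inl hp2
          · refine Subgroup.mem_subgroupOf.2 (hcent y ?_ ?_)
            · exact Subgroup.mem_centralizer_iff.2 fun a ha => congrArg Subtype.val
                (Subgroup.mem_centralizer_iff.1 hy ⟨a, hEH ha⟩ (Subgroup.mem_subgroupOf.2 ha))
            · rwa [Subgroup.orderOf_coe]
          · rw [Nat.card_congr (Subgroup.subgroupOfEquivOfLe hUH).toEquiv]
            obtain ⟨j, hj⟩ := IsPGroup.iff_card.1 hU
            rw [hj]
            exact ((Nat.coprime_primes (Fact.out : q.Prime) hp).2 hqp).pow_left j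
          · intro a ha
            rw [Subgroup.mem_normalizer_iff]
            intro x
            simp only [Subgroup.mem_subgroupOf, Subgroup.coe_mul, Subgroup.coe_inv]
            exact Subgroup.mem_normalizer_iff.1 (hEU (Subgroup.mem_subgroupOf.1 ha)) x
        exact fun u hu => ⟨⟨u, hUH hu⟩, key (Subgroup.mem_subgroupOf.2 hu), rfl⟩) h₁ h₂
  -- adjust the conjugating element
  set C := Subgroup.centralizer (E : Set G) with hC
  have hEC : E ≤ C := fun a ha => Subgroup.mem_centralizer_iff.2 fun b hb => hcomm b hb a ha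
  have hEmax : ∀ T : Subgroup C, IsPGroup p T → T ≤ E.subgroupOf C := fun T hT t ht => by
    obtain ⟨k, hk⟩ := IsPGroup.iff_orderOf.1 hT ⟨t, ht⟩
    rw [Subgroup.orderOf_mk] at hk
    exact Subgroup.mem_subgroupOf.2 (hcent t t.2 ⟨k, by rw [Subgroup.orderOf_coe, hk]⟩)
  obtain ⟨S⟩ : Nonempty (Sylow p C) := Sylow.nonempty
  have hS : (S : Subgroup C) = E.subgroupOf C :=
    (S.is_maximal' (hEp.of_equiv (Subgroup.subgroupOfEquivOfLe hEC).symm) (hEmax _ S.2)).symm
  have hcentral : Subgroup.normalizer ((S : Subgroup C) : Set C) ≤ Subgroup.centralizer (S : Set C) := by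
    intro x _
    rw [Subgroup.mem_centralizer_iff]
    intro s hs
    have hs' : (s : G) ∈ E := Subgroup.mem_subgroupOf.1 (hS ▸ hs)
    exact Subtype.ext (Subgroup.mem_centralizer_iff.1 x.2 s hs')
  have hK := MonoidHom.ker_transferSylow_isComplement' S hcentral
  set N := (MonoidHom.transferSylow S hcentral).ker
  obtain ⟨⟨⟨n, hn⟩, ⟨s, hs⟩⟩, hns⟩ := hK.2 ⟨c, hc⟩
  have hsE : (s : G) ∈ E := Subgroup.mem_subgroupOf.1 (hS ▸ hs)
  refine ⟨n, ?_, ?_⟩
  · refine ⟨n, ?_, rfl⟩
    refine le_sSup (show N ∈ {M : Subgroup C | M.Normal ∧ _} from ⟨inferInstance, ?_⟩) hn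
    intro r hr hrd
    refine ⟨hr, fun hrp => ?_⟩
    have := (Nat.prime_dvd_prime_iff_eq hr hp).1 hrp
    subst this
    exact MonoidHom.not_dvd_card_ker_transferSylow S hcentral hrd
  · rw [hQ]
    have hsQ : Q₁.map (MulAut.conj (s : G)).toMonoidHom = Q₁ :=
      Subgroup.mem_normalizer_iff_map_conj_eq.1 (h₁.2.1 hsE)
    have hcns : c = (n : G) * (s : G) := (congrArg Subtype.val hns).symm
    conv_lhs => rw [hcns]
    conv_rhs => rw [← hsQ, Subgroup.map_map]
    congr 1
    ext x
    simp [mul_assoc]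

end Cfsg.Agent.S1480
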