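import Cfsg.Statements.S1481
import Cfsg.Agent.Lib.OddOrder.LocalFitting

set_option autoImplicit false
open Cfsg

namespace Cfsg.Agent.S1481

/-- Let G be a finite group and H a local subgroup (the normalizer of a nontrivial subgroup of prime-power order) not properly contained in any local subgroup; let F = F(H), suppose at least two primes divide #F, put X = H ∩ C_G(F), let M ≤ F with F ∩ C_G(M) ≤ M, and let R be a solvable subgroup normalized by M and by X. Then for every prime q not dividing #F there is exactly one maximal M-invariant q-subgroup of R, and it is a Sylow q-subgroup of the largest normal subgroup of R of order coprime to #F. -/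
theorem result {G : Type*} [Group G] [Finite G] (H : Subgroup G) (hH : Cfsg.IsLocalSubgroup H) (hHmax : ∀ L : Subgroup G, Cfsg.IsLocalSubgroup L → H ≤ L → L = H)
    (hF2 : 2 ≤ (Nat.card (Cfsg.fittingOf H)).primeFactors.card)
    (M : Subgroup G) (hM : M ≤ Cfsg.fittingOf H) (hCM : Cfsg.fittingOf H ⊓ Subgroup.centralizer (M : Set G) ≤ M)
    (R : Subgroup G) (hR : Group.IsSolvable R) (hMR : M ≤ Subgroup.normalizer (R : Set G))
    (hXR : H ⊓ Subgroup.centralizer (Cfsg.fittingOf H : Set G) ≤ Subgroup.normalizer (R : Set G))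
    (q : ℕ) [Fact q.Prime] (hq : ¬ q ∣ Nat.card (Cfsg.fittingOf H)) :
    ∃! Q : Subgroup G, Q ∈ Cfsg.maxInvSubgroups R M {q} ∧
      (∀ Q' : Subgroup G, Q' ∈ Cfsg.maxInvSubgroups R M {q} →
        Q' ≤ Cfsg.piCoreOf (Cfsg.primesNotDvd (Nat.card (Cfsg.fittingOf H))) R ∧
        ¬ q ∣ Q'.relIndex (Cfsg.piCoreOf (Cfsg.primesNotDvd (Nat.card (Cfsg.fittingOf H))) R)) := by
  have d : Cfsg.Agent.OddOrder.LocalFit.Data H M R := ⟨hHmax, hF2, hM, hCM, hR, hMR, hXR⟩
  set π := Cfsg.primesNotDvd (Nat.card (Cfsg.fittingOf H)) with hπ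
  set O := Cfsg.piCoreOf π R with hO
  have hOpi : Cfsg.Agent.OddOrder.MinSimple.IsPi π (Nat.card O) :=
    Cfsg.Agent.OddOrder.MinSimple.isPi_piCoreOf
  have hOR : O ≤ R := Cfsg.Agent.OddOrder.MinSimple.piCoreOf_le
  have hMO : M ≤ Subgroup.normalizer (O : Set G) :=
    hMR.trans Cfsg.Agent.OddOrder.MinSimple.normalizer_le
  have hcop : (Nat.card M).Coprime (Nat.card O) :=
    Cfsg.Agent.OddOrder.LocalFit.Data.coprime_of_le_fitting hOpi hM
  haveI := hR
  have hsolv : Group.IsSolvable M ∨ Group.IsSolvable O :=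
    Or.inr (Cfsg.Agent.Components.isSolvable_mono hOR)
  have main : ∀ Q ∈ Cfsg.maxInvSubgroups R M {q},
      ∃ S : Sylow q O, Q = (S : Subgroup O).map O.subtype := by
    intro Q hQ
    have hQq := Cfsg.Agent.OddOrder.Inv.isPGroup_of_primes hQ.1.2.1
    have hQO : Q ≤ O := d.le_core hQ.1.1
      (fun r hr hd => by
        have h := Set.mem_singleton_iff.1 (hQ.1.2.1 r hr hd)
        exact ⟨hr, h ▸ hq⟩) hQ.1.2.2
    obtain ⟨S, hQS, hS⟩ :=
      Cfsg.Agent.CoprimeAct.exists_invariant_sylow_ge hMO hcop hsolv hQO hQq hQ.1.2.2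
    exact ⟨S, (hQ.2 _ ⟨(Subgroup.map_subtype_le _).trans hOR,
      Cfsg.Agent.OddOrder.Inv.primes_of_isPGroup (S.isPGroup'.map _), hS⟩ hQS).symm⟩
  have uniq : ∀ Q ∈ Cfsg.maxInvSubgroups R M {q}, ∀ Q' ∈ Cfsg.maxInvSubgroups R M {q}, Q' = Q := by
    intro Q hQ Q' hQ'
    obtain ⟨S, rfl⟩ := main Q hQ
    obtain ⟨S', rfl⟩ := main Q' hQ'
    obtain ⟨c, hc, hcS⟩ :=
      Cfsg.Agent.CoprimeAct.invariant_sylow_conj hMO hcop hsolv S S' hQ.1.2.2 hQ'.1.2.2
    have hc1 : c = 1 := by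
      apply Subtype.ext
      refine (Subgroup.eq_bot_iff_forall _).1 (d.fixed_bot (W := O ⊓ Subgroup.centralizer (M : Set G))
        (inf_le_left.trans hOR) inf_le_right
        (Cfsg.Agent.OddOrder.MinSimple.isPi_of_dvd (Subgroup.card_dvd_of_le inf_le_left) hOpi))
        _ ⟨c.2, hc⟩
    rw [← hcS, hc1, map_one, one_smul]
  obtain ⟨Q, hQ, -⟩ := Cfsg.Agent.OddOrder.Inv.exists_max (H := R) (A := M) (π := {q}) (Y := ⊥)
    ⟨bot_le, fun r hr hd => absurd (Nat.dvd_one.1 (Subgroup.card_bot (G := G) ▸ hd)) hr.ne_one,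
      by rw [Subgroup.normalizer_eq_top_iff.2 inferInstance]; exact le_top⟩
  refine ⟨Q, ⟨hQ, fun Q' hQ' => ?_⟩, fun Q' hQ' => uniq Q hQ Q' hQ'.1⟩
  obtain ⟨S, rfl⟩ := main Q' hQ'
  refine ⟨Subgroup.map_subtype_le _, ?_⟩
  rw [Subgroup.relIndex, show ((S : Subgroup O).map O.subtype).subgroupOf O = (S : Subgroup O) from
    Subgroup.comap_map_eq_self_of_injective O.subtype_injective _]
  exact S.not_dvd_index

end Cfsg.Agent.S1481
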