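import Cfsg.Statements.S1485
import Cfsg.Agent.Lib.Char.Orbit
-- import your own Cfsg.Agent.* helpers here

set_option autoImplicit false
open Cfsg

namespace Cfsg.Agent.S1485

/-- Let H be a normal subgroup of the finite group G and θ an irreducible character of H. On H, the function induced from θ equals r times the sum of the distinct G-conjugates of θ, where r is the number of elements of G fixing θ under conjugation divided by the order of H (the index of H in the inertia group). -/
theorem result {G : Type*} [Group G] [Fintype G] (H : Subgroup G) [hN : H.Normal] (θ : H → ℂ) (hθ : Cfsg.IsIrrCharacter H θ) : (fun h : H => Cfsg.indFun H θ h) = ((Nat.card {g : G // ∀ h : H, θ ⟨g * h * g⁻¹, hN.conj_mem h h.2 g⟩ = θ h} : ℂ) / (Nat.card H : ℂ)) • ∑ᶠ ψ ∈ {ψ : H → ℂ | ∃ g : G, ψ = fun h : H => θ ⟨g * h * g⁻¹, hN.conj_mem h h.2 g⟩}, ψ := by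
  classical
  have hset : {ψ : H → ℂ | ∃ g : G, ψ = fun h : H => θ ⟨g * h * g⁻¹, hN.conj_mem h h.2 g⟩} =
      ↑(Cfsg.Agent.Char.conjOrbit H θ) := by
    ext ψ
    simp only [Set.mem_setOf_eq, Finset.mem_coe, Cfsg.Agent.Char.mem_conjOrbit]
  rw [hset, finsum_mem_coe_finset]
  funext h
  rw [Cfsg.Agent.Char.indFun_normal_apply, Pi.smul_apply, Finset.sum_apply, smul_eq_mul,
    ← Finset.sum_fiberwise_of_maps_to (g := fun x : G => Cfsg.Agent.Char.conjChar H x θ)
      (t := Cfsg.Agent.Char.conjOrbit H θ)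
      (fun x _ => (Cfsg.Agent.Char.mem_conjOrbit H).mpr ⟨x, rfl⟩),
    Finset.mul_sum, Finset.mul_sum]
  refine Finset.sum_congr rfl fun φ hφ => ?_
  rw [Finset.sum_congr rfl fun x hx => congrFun (Finset.mem_filter.mp hx).2 h, Finset.sum_const,
    nsmul_eq_mul, ← Fintype.card_subtype, ← Nat.card_eq_fintype_card,
    Cfsg.Agent.Char.card_fiber H hφ, ← mul_assoc, div_eq_inv_mul]
  congr 3
  exact Nat.card_congr (Equiv.subtypeEquivRight fun g => Cfsg.Agent.Char.mem_inertia_iff H)


end Cfsg.Agent.S1485
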