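import Cfsg.Statements.S1487
import Cfsg.Agent.Lib.Char.Orbit
-- import your own Cfsg.Agent.* helpers here

set_option autoImplicit false
open Cfsg

namespace Cfsg.Agent.S1487

/-- Let A ≤ H be normal subgroups of the finite group G and θ an irreducible character of H. Then θ takes the value θ 1 on all of A if and only if the function induced from θ to G takes its value at 1 on all of A. -/
theorem result {G : Type*} [Group G] [Fintype G] (A H : Subgroup G) [A.Normal] [H.Normal] (hAH : A ≤ H) (θ : H → ℂ) (hθ : Cfsg.IsIrrCharacter H θ) : (∀ a : H, (a : G) ∈ A → θ a = θ 1) ↔ (∀ a : G, a ∈ A → Cfsg.indFun H θ a = Cfsg.indFun H θ 1) := by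
  classical
  haveI : Fintype H := Fintype.ofFinite H
  constructor
  · intro h a ha
    rw [show a = ((⟨a, hAH ha⟩ : H) : G) from rfl, Cfsg.Agent.Char.indFun_normal_apply,
      show (1 : G) = ((1 : H) : G) from rfl, Cfsg.Agent.Char.indFun_normal_apply]
    congr 1
    refine Finset.sum_congr rfl fun x _ => ?_
    refine (h _ (Subgroup.Normal.conj_mem ‹A.Normal› a ha x)).trans ?_
    exact congrArg θ (Subtype.ext (by simp))
  · intro h a ha
    obtain ⟨n, ρ, hρ, rfl⟩ := hθ
    have := h a ha
    rw [Cfsg.Agent.Char.indFun_normal_apply, Cfsg.Agent.Char.indFun_one_apply,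
      Representation.char_one] at this
    have hcard : (H.index : ℂ) * (Nat.card H : ℂ) = (Fintype.card G : ℂ) := by
      rw [← Nat.card_eq_fintype_card]
      exact_mod_cast Subgroup.index_mul_card H
    rw [inv_mul_eq_iff_eq_mul₀ (Nat.cast_ne_zero.mpr Nat.card_pos.ne')] at this
    have hre : ∀ x : G, (ρ.character (Cfsg.Agent.Char.conjHom H x a)).re ≤
        (Module.finrank ℂ (Fin n → ℂ) : ℝ) := fun x =>
      (Complex.re_le_norm _).trans (Cfsg.Agent.Char.norm_char_le ρ _)
    have hsum : ∑ x : G, (ρ.character (Cfsg.Agent.Char.conjHom H x a)).re =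
        ∑ x : G, (Module.finrank ℂ (Fin n → ℂ) : ℝ) := by
      rw [← Complex.re_sum, Finset.sum_const, nsmul_eq_mul, Finset.card_univ]
      have e := this.trans (show (Nat.card H : ℂ) * ((H.index : ℂ) *
        (Module.finrank ℂ (Fin n → ℂ) : ℂ)) = (((Fintype.card G : ℝ) *
          (Module.finrank ℂ (Fin n → ℂ) : ℝ) : ℝ) : ℂ) by
        push_cast
        rw [← hcard]; ring)
      exact (congrArg Complex.re e).trans (Complex.ofReal_re _)
    have h1 := (Finset.sum_eq_sum_iff_of_le fun x _ => hre x).mp hsum 1 (Finset.mem_univ _)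
    rw [Cfsg.Agent.Char.conjHom_one] at h1
    rw [Representation.char_one]
    have hle := Cfsg.Agent.Char.norm_char_le ρ a
    have him : (ρ.character a).im = 0 := by
      have h2 := Complex.normSq_apply (ρ.character a)
      rw [Complex.normSq_eq_norm_sq, h1] at h2
      have h3 := pow_le_pow_left₀ (norm_nonneg _) hle 2
      nlinarith [sq_nonneg (ρ.character a).im]
    exact Complex.ext (by simpa using h1) (by simpa using him)


end Cfsg.Agent.S1487
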