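import Cfsg.Statements.S1488
import Cfsg.Agent.Lib.Char.Orbit
-- import your own Cfsg.Agent.* helpers here

set_option autoImplicit false
open Cfsg

namespace Cfsg.Agent.S1488

/-- Let A be a normal subgroup of the finite group G contained in the subgroup H, let θ be a function on H and θ₁ a function on the image of H in G ⧸ A whose composite with the projection is θ. Then the function induced from θ₁ to G ⧸ A, composed with the projection G → G ⧸ A, equals the function induced from θ to G. -/
theorem result {G : Type*} [Group G] [Fintype G] (A H : Subgroup G) [A.Normal] (hAH : A ≤ H) [Fintype (G ⧸ A)] [Fintype ↥(H.map (QuotientGroup.mk' A))] (θ : H → ℂ) (θ₁ : ↥(H.map (QuotientGroup.mk' A)) → ℂ) (hθ : ∀ x : H, θ₁ ⟨QuotientGroup.mk' A x, Subgroup.mem_map_of_mem _ x.2⟩ = θ x) (g : G) : Cfsg.indFun (H.map (QuotientGroup.mk' A)) θ₁ (QuotientGroup.mk' A g) = Cfsg.indFun H θ g := by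
  classical
  haveI : Fintype A := Fintype.ofFinite A
  have hmem : ∀ y : G, QuotientGroup.mk' A y ∈ H.map (QuotientGroup.mk' A) ↔ y ∈ H := by
    refine fun y => ⟨?_, fun hy => Subgroup.mem_map_of_mem _ hy⟩
    rintro ⟨z, hz, e⟩
    have := hAH (QuotientGroup.eq.mp e)
    simpa using H.mul_mem hz this
  have hext : ∀ y : G, Cfsg.extendByZero (H.map (QuotientGroup.mk' A)) θ₁ (QuotientGroup.mk' A y) =
      Cfsg.extendByZero H θ y := by
    intro y
    by_cases hy : y ∈ H
    · rw [Cfsg.Agent.Char.extendByZero_mem _ _ ((hmem y).mpr hy),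
        Cfsg.Agent.Char.extendByZero_mem _ _ hy]
      exact hθ ⟨y, hy⟩
    · rw [Cfsg.Agent.Char.extendByZero_not_mem _ _ (fun h => hy ((hmem y).mp h)),
        Cfsg.Agent.Char.extendByZero_not_mem _ _ hy]
  have hcard : Nat.card H = Nat.card A * Nat.card (H.map (QuotientGroup.mk' A)) := by
    have h1 := Subgroup.card_mul_index H
    have h2 := Subgroup.card_mul_index (H.map (QuotientGroup.mk' A))
    have h3 : (H.map (QuotientGroup.mk' A)).index = H.index :=
      Subgroup.index_map_eq _ (QuotientGroup.mk'_surjective A) (by simpa using hAH)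
    have h4 := Subgroup.card_mul_index A
    rw [h3] at h2
    refine mul_right_cancel₀ (Subgroup.index_ne_zero_of_finite (H := H)) ?_
    rw [h1, mul_assoc, h2, ← h4]
    rfl
  rw [Cfsg.Agent.Char.indFun_apply, Cfsg.Agent.Char.indFun_apply, hcard, Nat.cast_mul]
  have hsum : ∑ x : G, Cfsg.extendByZero H θ (x⁻¹ * g * x) = (Nat.card A : ℂ) *
      ∑ q : G ⧸ A, Cfsg.extendByZero (H.map (QuotientGroup.mk' A)) θ₁
        (q⁻¹ * QuotientGroup.mk' A g * q) := by
    rw [← Finset.sum_fiberwise Finset.univ (QuotientGroup.mk' A), Finset.mul_sum]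
    refine Finset.sum_congr rfl fun q _ => ?_
    rw [Finset.sum_congr rfl fun x hx => show Cfsg.extendByZero H θ (x⁻¹ * g * x) =
        Cfsg.extendByZero (H.map (QuotientGroup.mk' A)) θ₁ (q⁻¹ * QuotientGroup.mk' A g * q) by
      rw [← (Finset.mem_filter.mp hx).2, ← hext, map_mul, map_mul, map_inv],
      Finset.sum_const, nsmul_eq_mul, ← Fintype.card_subtype, ← Nat.card_eq_fintype_card]
    congr 2
    obtain ⟨x, rfl⟩ := QuotientGroup.mk'_surjective A q
    refine Nat.card_congr ((Equiv.mulLeft x⁻¹).subtypeEquiv fun y => ?_)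
    rw [Equiv.coe_mulLeft, ← QuotientGroup.eq]
    exact eq_comm
  rw [hsum, mul_inv]
  have : (Nat.card A : ℂ) ≠ 0 := Nat.cast_ne_zero.mpr Nat.card_pos.ne'
  field_simp


end Cfsg.Agent.S1488
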