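import Cfsg.Statements.S1489
import Cfsg.Agent.Lib.Char.Orbit
-- import your own Cfsg.Agent.* helpers here

set_option autoImplicit false
open Cfsg

namespace Cfsg.Agent.S1489

/-- Let H be a normal subgroup of the finite group G, θ an irreducible character of H, and T the inertia group of θ (the elements g with θ(g h g⁻¹) = θ(h) for all h ∈ H). If ψ and ψ' are irreducible characters of T having nonzero inner product with the function induced from θ to T, then the function induced from ψ to G is an irreducible character of G, and it equals the one induced from ψ' only if ψ = ψ'. -/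
theorem result {G : Type*} [Group G] [Fintype G] (H T : Subgroup G) [hN : H.Normal] [Fintype T] (θ : H → ℂ) (hθ : Cfsg.IsIrrCharacter H θ) (hT : ∀ g : G, g ∈ T ↔ ∀ h : H, θ ⟨g * h * g⁻¹, hN.conj_mem h h.2 g⟩ = θ h) (hHT : H ≤ T) (ψ ψ' : T → ℂ) (hψ : Cfsg.IsIrrCharacter T ψ) (hψ' : Cfsg.IsIrrCharacter T ψ') (hc : Cfsg.classInner (Cfsg.indFun (H.subgroupOf T) (fun x => θ ⟨(x : T), Subgroup.mem_subgroupOf.mp x.2⟩)) ψ ≠ 0) (hc' : Cfsg.classInner (Cfsg.indFun (H.subgroupOf T) (fun x => θ ⟨(x : T), Subgroup.mem_subgroupOf.mp x.2⟩)) ψ' ≠ 0) : Cfsg.IsIrrCharacter G (Cfsg.indFun T ψ) ∧ (Cfsg.indFun T ψ = Cfsg.indFun T ψ' → ψ = ψ') := by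
  classical
  haveI : Fintype H := Fintype.ofFinite H
  haveI : Fintype (H.subgroupOf T) := Fintype.ofFinite _
  have hTe : T = Cfsg.Agent.Char.inertia H θ :=
    Subgroup.ext fun g => (hT g).trans (Cfsg.Agent.Char.mem_inertia_iff H).symm
  have key : ∀ {φ : T → ℂ}, Cfsg.IsIrrCharacter T φ →
      Cfsg.classInner (Cfsg.indFun (H.subgroupOf T)
        (fun x => θ ⟨(x : T), Subgroup.mem_subgroupOf.mp x.2⟩)) φ ≠ 0 →
      Cfsg.classInner (fun h : H => φ ⟨(h : G), hHT h.2⟩) θ ≠ 0 := by
    intro φ hφ hne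
    rw [Cfsg.Agent.Char.classInner_indFun_left _ _ (Cfsg.Agent.Char.IsCharacter.isClassFunction
      (Cfsg.Agent.Char.IsIrrCharacter.isCharacter hφ))] at hne
    rw [← Cfsg.Agent.Char.classInner_conj_symm] at hne
    intro h0
    apply hne
    rw [map_eq_zero, ← h0]
    simp only [Cfsg.classInner]
    rw [Nat.card_congr (Subgroup.subgroupOfEquivOfLe hHT).toEquiv]
    congr 1
    exact Fintype.sum_equiv (Subgroup.subgroupOfEquivOfLe hHT).toEquiv _ _ fun x => rfl
  exact ⟨(Cfsg.Agent.Char.clifford_correspondence H hθ hTe hHT hψ (key hψ hc)).1,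
    Cfsg.Agent.Char.clifford_correspondence_injective H hθ hTe hHT hψ hψ' (key hψ hc) (key hψ' hc')⟩


end Cfsg.Agent.S1489
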