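import Cfsg.Statements.S1490
import Cfsg.Agent.Lib.Char.Orbit
-- import your own Cfsg.Agent.* helpers here

set_option autoImplicit false
open Cfsg

namespace Cfsg.Agent.S1490

/-- Let H be a normal subgroup of the finite group G, θ an irreducible character of H with inertia group T, and suppose the commutator of any two elements of T lies in H (T/H abelian). Then there are a positive integer e and a finite set C of irreducible characters of G with e ^ 2 * |C| * |H| = |T|, such that the function induced from θ is e times the sum of the members of C and every member of C has degree [G:T] * e * θ(1). -/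
theorem result {G : Type*} [Group G] [Fintype G] (H T : Subgroup G) [hN : H.Normal] (θ : H → ℂ) (hθ : Cfsg.IsIrrCharacter H θ) (hT : ∀ g : G, g ∈ T ↔ ∀ h : H, θ ⟨g * h * g⁻¹, hN.conj_mem h h.2 g⟩ = θ h) (hab : ∀ x ∈ T, ∀ y ∈ T, x * y * x⁻¹ * y⁻¹ ∈ H) : ∃ (e : ℕ) (C : Finset (G → ℂ)), 0 < e ∧ (∀ χ ∈ C, Cfsg.IsIrrCharacter G χ) ∧ e ^ 2 * C.card * Nat.card H = Nat.card T ∧ Cfsg.indFun H θ = (e : ℂ) • ∑ χ ∈ C, χ ∧ ∀ χ ∈ C, χ 1 = (T.index : ℂ) * e * θ 1 := by
  classical
  haveI : Fintype H := Fintype.ofFinite H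
  haveI : Fintype T := Fintype.ofFinite T
  haveI : Fintype (H.subgroupOf T) := Fintype.ofFinite _
  have hTe : T = Cfsg.Agent.Char.inertia H θ :=
    Subgroup.ext fun g => (hT g).trans (Cfsg.Agent.Char.mem_inertia_iff H).symm
  have hHT : H ≤ T := hTe ▸ Cfsg.Agent.Char.le_inertia H
    (Cfsg.Agent.Char.IsCharacter.isClassFunction (Cfsg.Agent.Char.IsIrrCharacter.isCharacter hθ))
  let eqv := Subgroup.subgroupOfEquivOfLe hHT
  let θ' : H.subgroupOf T → ℂ := fun y => θ ⟨(y : T), Subgroup.mem_subgroupOf.mp y.2⟩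
  have hθ' : Cfsg.IsIrrCharacter (H.subgroupOf T) θ' :=
    Cfsg.Agent.Char.IsIrrCharacter.comp hθ eqv.toMonoidHom eqv.surjective
  have hinner : ∀ φ : T → ℂ, Cfsg.classInner (fun y : H.subgroupOf T => φ y) θ' =
      Cfsg.classInner (fun a : H => φ ⟨(a : G), hHT a.2⟩) θ := fun φ => by
    simp only [Cfsg.classInner]
    rw [Nat.card_congr eqv.toEquiv]
    congr 1
    exact Fintype.sum_equiv eqv.toEquiv _ _ fun y => rfl
  obtain ⟨e, s, he, hdec, hcount, hs, hres⟩ := Cfsg.Agent.Char.indFun_invariant_abelian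
    (H.subgroupOf T) (fun x y => Subgroup.mem_subgroupOf.mpr (by simpa using hab x x.2 y y.2)) hθ'
    (fun t => funext fun y => (hT t).mp t.2 (eqv y))
  have hc : ∀ ψ ∈ s, Cfsg.classInner (fun a : H => (ψ : T → ℂ) ⟨(a : G), hHT a.2⟩) θ ≠ 0 :=
    fun ψ hψ => hinner _ ▸ (hs ψ).mp hψ
  have hinj : Set.InjOn (fun ψ : Cfsg.IrrCharacter T => Cfsg.indFun T (ψ : T → ℂ)) s :=
    fun a ha b hb hab' => Subtype.ext (Cfsg.Agent.Char.clifford_correspondence_injective H hθ hTe
      hHT a.2 b.2 (hc a ha) (hc b hb) hab')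
  refine ⟨e, s.image fun ψ : Cfsg.IrrCharacter T => Cfsg.indFun T (ψ : T → ℂ), he, ?_, ?_, ?_, ?_⟩
  · intro χ hχ
    obtain ⟨ψ, hψ, rfl⟩ := Finset.mem_image.mp hχ
    exact (Cfsg.Agent.Char.clifford_correspondence H hθ hTe hHT ψ.2 (hc ψ hψ)).1
  · rw [Finset.card_image_of_injOn hinj, ← hcount, Nat.card_congr eqv.toEquiv]
  · rw [← Cfsg.Agent.Char.indFun_trans H T hHT θ, hdec, Cfsg.Agent.Char.indFun_smul,
      Cfsg.Agent.Char.indFun_sum, Finset.sum_image hinj]
  · intro χ hχ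
    obtain ⟨ψ, hψ, rfl⟩ := Finset.mem_image.mp hχ
    rw [Cfsg.Agent.Char.indFun_one_apply, mul_assoc]
    congr 1
    exact congrFun (hres ψ hψ) 1


end Cfsg.Agent.S1490
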