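import Cfsg.Statements.S1491
import Cfsg.Agent.Lib.Char.Orbit
import Cfsg.Agent.Lib.Char.ExtensionChar
import Cfsg.Agent.S0867
-- import your own Cfsg.Agent.* helpers here

set_option autoImplicit false
open Cfsg

namespace Cfsg.Agent.S1491

/-- Let H be a normal subgroup of the finite group G and θ an irreducible character of H with inertia group T, where T/H is abelian (commutators of T lie in H) and the index of H in T is coprime to the order of H. Then the function induced from θ is the sum of a set of exactly [T:H] irreducible characters of G, each of degree [G:T] * θ(1). -/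
theorem result {G : Type*} [Group G] [Fintype G] (H T : Subgroup G) [hN : H.Normal] (θ : H → ℂ) (hθ : Cfsg.IsIrrCharacter H θ) (hT : ∀ g : G, g ∈ T ↔ ∀ h : H, θ ⟨g * h * g⁻¹, hN.conj_mem h h.2 g⟩ = θ h) (hab : ∀ x ∈ T, ∀ y ∈ T, x * y * x⁻¹ * y⁻¹ ∈ H) (hcop : Nat.Coprime (Nat.card H) (H.relIndex T)) : ∃ C : Finset (G → ℂ), (∀ χ ∈ C, Cfsg.IsIrrCharacter G χ) ∧ C.card = H.relIndex T ∧ Cfsg.indFun H θ = ∑ χ ∈ C, χ ∧ ∀ χ ∈ C, χ 1 = (T.index : ℂ) * θ 1 := by
  classical
  haveI : Fintype H := Fintype.ofFinite H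
  haveI : Fintype T := Fintype.ofFinite T
  haveI : Fintype (H.subgroupOf T) := Fintype.ofFinite _
  have hTe : T = Cfsg.Agent.Char.inertia H θ :=
    Subgroup.ext fun g => (hT g).trans (Cfsg.Agent.Char.mem_inertia_iff H).symm
  have hHT : H ≤ T := hTe ▸ Cfsg.Agent.Char.le_inertia H
    (Cfsg.Agent.Char.IsCharacter.isClassFunction (Cfsg.Agent.Char.IsIrrCharacter.isCharacter hθ))
  let eqv := Subgroup.subgroupOfEquivOfLe hHT
  let θ' : H.subgroupOf T → ℂ := fun y => θ ⟨(y : T), Subgroup.mem_subgroupOf.mp y.2⟩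
  have hθ' : Cfsg.IsIrrCharacter (H.subgroupOf T) θ' :=
    Cfsg.Agent.Char.IsIrrCharacter.comp hθ eqv.toMonoidHom eqv.surjective
  have hinner : ∀ φ : T → ℂ, Cfsg.classInner (fun y : H.subgroupOf T => φ y) θ' =
      Cfsg.classInner (fun a : H => φ ⟨(a : G), hHT a.2⟩) θ := fun φ => by
    simp only [Cfsg.classInner]
    rw [Nat.card_congr eqv.toEquiv]
    congr 1
    exact Fintype.sum_equiv eqv.toEquiv _ _ fun y => rfl
  obtain ⟨e, s, he, hdec, hcount, hs, hres⟩ := Cfsg.Agent.Char.indFun_invariant_abelian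
    (H.subgroupOf T) (fun x y => Subgroup.mem_subgroupOf.mpr (by simpa using hab x x.2 y y.2)) hθ'
    (fun t => funext fun y => (hT t).mp t.2 (eqv y))
  -- extend `θ'` to the inertia group
  obtain ⟨d, hd0, hd⟩ := Cfsg.Agent.Char.IsIrrCharacter.exists_degree hθ'
  have hcopT : Nat.Coprime (H.subgroupOf T).index (Nat.card (H.subgroupOf T)) := by
    rw [Nat.card_congr eqv.toEquiv]
    exact hcop.symm
  have hdet : Cfsg.detOrder θ' ∣ Nat.card (H.subgroupOf T) := by
    obtain ⟨m, σ, -, hσ⟩ := id hθ'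
    rw [← hσ, Cfsg.Agent.CharExtend.detOrder_eq]
    refine orderOf_dvd_of_pow_eq_one (MonoidHom.ext fun y => ?_)
    rw [MonoidHom.pow_apply, ← map_pow, pow_card_eq_one', map_one, MonoidHom.one_apply]
  obtain ⟨χ₀, ⟨hχ₀, hχ₀r, -⟩, -⟩ := Cfsg.Agent.S0867.result (H.subgroupOf T) θ' hθ'
    (fun t y => (hT t).mp t.2 (eqv y)) d hd
    (Nat.Coprime.mul_right (Nat.Coprime.coprime_dvd_right hdet hcopT)
      (Nat.Coprime.coprime_dvd_right (Cfsg.Agent.Char.degree_dvd_card hθ' hd) hcopT))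
  have hmem : (⟨χ₀, hχ₀⟩ : Cfsg.IrrCharacter T) ∈ s := by
    rw [hs]
    show Cfsg.classInner (fun y : H.subgroupOf T => χ₀ y) θ' ≠ 0
    rw [show (fun y : H.subgroupOf T => χ₀ y) = θ' from funext hχ₀r,
      Cfsg.Agent.Char.classInner_self_irr hθ']
    exact one_ne_zero
  obtain rfl : e = 1 := by
    have h1 := congrFun (hres _ hmem) 1
    simp only [Pi.smul_apply, smul_eq_mul] at h1
    have h2 : θ' 1 = χ₀ ((1 : H.subgroupOf T) : T) := (hχ₀r 1).symm
    rw [← h2, hd] at h1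
    have : d = e * d := by exact_mod_cast h1
    nlinarith
  have hc : ∀ ψ ∈ s, Cfsg.classInner (fun a : H => (ψ : T → ℂ) ⟨(a : G), hHT a.2⟩) θ ≠ 0 :=
    fun ψ hψ => hinner _ ▸ (hs ψ).mp hψ
  have hinj : Set.InjOn (fun ψ : Cfsg.IrrCharacter T => Cfsg.indFun T (ψ : T → ℂ)) s :=
    fun a ha b hb hab' => Subtype.ext (Cfsg.Agent.Char.clifford_correspondence_injective H hθ hTe
      hHT a.2 b.2 (hc a ha) (hc b hb) hab')
  refine ⟨s.image fun ψ : Cfsg.IrrCharacter T => Cfsg.indFun T (ψ : T → ℂ), ?_, ?_, ?_, ?_⟩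
  · intro χ hχ
    obtain ⟨ψ, hψ, rfl⟩ := Finset.mem_image.mp hχ
    exact (Cfsg.Agent.Char.clifford_correspondence H hθ hTe hHT ψ.2 (hc ψ hψ)).1
  · rw [Finset.card_image_of_injOn hinj]
    rw [one_pow, one_mul, ← Subgroup.card_mul_index (H.subgroupOf T)] at hcount
    exact mul_left_cancel₀ Nat.card_pos.ne' ((mul_comm _ _).trans hcount)
  · rw [← Cfsg.Agent.Char.indFun_trans H T hHT θ, hdec, Nat.cast_one, one_smul,
      Cfsg.Agent.Char.indFun_sum, Finset.sum_image hinj]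
  · intro χ hχ
    obtain ⟨ψ, hψ, rfl⟩ := Finset.mem_image.mp hχ
    rw [Cfsg.Agent.Char.indFun_one_apply]
    congr 1
    exact (congrFun (hres ψ hψ) 1).trans (by rw [Nat.cast_one, one_smul]; rfl)


end Cfsg.Agent.S1491
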