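import Cfsg.Statements.S1492
import Cfsg.Agent.Lib.Char.PermChar
import Cfsg.Agent.Lib.Char.Clifford
-- import your own Cfsg.Agent.* helpers here

set_option autoImplicit false
open Cfsg

namespace Cfsg.Agent.S1492

/-- Let ψ be an irreducible character of the finite group G and B ≤ D ≤ C subgroups with B normal in C, every commutator of an element of D with an element of C lying in B (so D/B is central in C/B), and ψ constant equal to ψ 1 on B. Then ψ(1) ^ 2 * |C| * |D| ≤ |G| ^ 2. -/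
theorem result {G : Type*} [Group G] [Finite G] (ψ : G → ℂ) (hψ : Cfsg.IsIrrCharacter G ψ) (B C D : Subgroup G) (hBD : B ≤ D) (hDC : D ≤ C) (hBn : ∀ c ∈ C, ∀ b ∈ B, c * b * c⁻¹ ∈ B) (hcent : ∀ d ∈ D, ∀ c ∈ C, d * c * d⁻¹ * c⁻¹ ∈ B) (hker : ∀ b ∈ B, ψ b = ψ 1) : ‖ψ 1‖ ^ 2 * (Nat.card C : ℝ) * (Nat.card D : ℝ) ≤ (Nat.card G : ℝ) ^ 2 := by
  classical
  haveI : Fintype G := Fintype.ofFinite G
  haveI : Fintype C := Fintype.ofFinite C
  obtain ⟨m, hm⟩ := Cfsg.Agent.Char.IsCharacter.exists_decomp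
    (Cfsg.Agent.Char.IsCharacter.restrict (Cfsg.Agent.Char.IsIrrCharacter.isCharacter hψ) C)
  obtain ⟨θ, hθ⟩ := Cfsg.Agent.Char.exists_restrict_constituent hψ C
  have hmθ : m θ ≠ 0 := by
    rw [hm, Cfsg.Agent.Char.classInner_combination] at hθ
    exact_mod_cast hθ
  have hB : ∀ (b : G) (hb : b ∈ B), (θ : C → ℂ) ⟨b, hDC (hBD hb)⟩ = (θ : C → ℂ) 1 := by
    intro b hb
    refine Cfsg.Agent.Char.kernel_constituent m ?_ θ hmθ
    have e1 := congrFun hm ⟨b, hDC (hBD hb)⟩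
    have e2 := congrFun hm 1
    simp only [Finset.sum_apply, Pi.smul_apply, smul_eq_mul] at e1 e2
    rw [← e1, ← e2]
    exact hker b hb
  obtain ⟨a, -, ha⟩ := Cfsg.Agent.Char.IsIrrCharacter.exists_degree hψ
  obtain ⟨k, hk0, hk⟩ := Cfsg.Agent.Char.IsIrrCharacter.exists_degree θ.2
  have h1 : a ≤ C.index * k := by
    refine Cfsg.Agent.Char.degree_le_of_constituent (Cfsg.Agent.Char.isCharacter_indFun C
      (Cfsg.Agent.Char.IsIrrCharacter.isCharacter θ.2)) hψ ?_ (by rw [Cfsg.Agent.Char.indFun_one_apply, hk]; simp) ha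
    rw [Cfsg.Agent.Char.classInner_indFun_left C _ (Cfsg.Agent.Char.IsCharacter.isClassFunction (Cfsg.Agent.Char.IsIrrCharacter.isCharacter hψ)),
      ← Cfsg.Agent.Char.classInner_conj_symm]
    simpa using hθ
  have hsc : ∀ x : C, (x : G) ∈ D → ‖(θ : C → ℂ) x‖ = k := by
    intro x hx
    obtain ⟨n, ρ, hρ, hρθ⟩ := θ.2
    have hid : ∀ (b : G) (hb : b ∈ B), ρ ⟨b, hDC (hBD hb)⟩ = LinearMap.id := fun b hb => by
      rw [← Cfsg.Agent.Char.char_eq_degree_iff, ← Representation.char_one ρ, hρθ]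
      exact hB b hb
    obtain ⟨c, hc⟩ := Cfsg.Agent.Char.schur_scalar ρ (ρ x) (fun g v => by
      have hb := hcent x hx g g.2
      have e : x * g = ⟨(x : G) * g * (x : G)⁻¹ * (g : G)⁻¹, hDC (hBD hb)⟩ * (g * x) :=
        Subtype.ext (by simp [mul_assoc])
      have e2 : ρ (x * g) = ρ (g * x) := by
        rw [e, map_mul, hid _ hb, ← Module.End.one_eq_id, one_mul]
      rw [map_mul, map_mul] at e2
      exact LinearMap.congr_fun e2 v)
    have h2 := (Cfsg.Agent.Char.norm_char_eq_iff ρ x).mpr ⟨c, hc⟩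
    have h3 : (Module.finrank ℂ (Fin n → ℂ) : ℂ) = k := by rw [← Representation.char_one ρ, hρθ, hk]
    rw [← hρθ, h2]
    exact_mod_cast h3
  have h2 : (Nat.card D : ℝ) * k ^ 2 ≤ Nat.card C := by
    have he := Cfsg.Agent.Char.classInner_self_irr θ.2
    rw [Cfsg.Agent.Char.classInner_self_eq, Complex.ofReal_eq_one, inv_mul_eq_one₀ (Nat.cast_ne_zero.mpr Nat.card_pos.ne')] at he
    rw [he]
    refine le_of_eq_of_le ?_ (Finset.sum_le_sum_of_subset_of_nonneg (Finset.subset_univ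
      (Finset.univ.filter fun x : C => (x : G) ∈ D)) fun i _ _ => by positivity)
    rw [Finset.sum_congr rfl (fun x hx => by rw [hsc x (Finset.mem_filter.mp hx).2]), Finset.sum_const, nsmul_eq_mul]
    congr 2
    rw [← Nat.card_congr (Subgroup.subgroupOfEquivOfLe hDC).toEquiv]
    exact Nat.subtype_card _ (by simp [Subgroup.mem_subgroupOf])
  have h3 : (Nat.card G : ℝ) = Nat.card C * C.index := by rw [← Subgroup.card_mul_index C, Nat.cast_mul]
  have h1' : (a : ℝ) ≤ C.index * k := by exact_mod_cast h1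
  rw [ha, Complex.norm_natCast, h3]
  calc (a : ℝ) ^ 2 * Nat.card C * Nat.card D
      ≤ ((C.index : ℝ) * k) ^ 2 * Nat.card C * Nat.card D := by gcongr
    _ = (C.index : ℝ) ^ 2 * Nat.card C * (Nat.card D * k ^ 2) := by ring
    _ ≤ (C.index : ℝ) ^ 2 * Nat.card C * Nat.card C := by gcongr
    _ = _ := by ring


end Cfsg.Agent.S1492
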