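import Cfsg.Statements.S1493
import Cfsg.Agent.Lib.Char.Galois
-- import your own Cfsg.Agent.* helpers here

set_option autoImplicit false
open Cfsg

namespace Cfsg.Agent.S1493

/-- Let G be a finite group of order a * b with a and b coprime, let k be coprime to a, and let χ be a character of G. Then there is a character χ' of G such that χ'(g) = χ(g ^ k) whenever the order of g divides a and χ'(g) = χ(g) whenever the order of g is coprime to a; moreover χ' is irreducible if χ is. -/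
theorem result {G : Type*} [Group G] [Finite G] (a b k : ℕ) (hab : Nat.card G = a * b) (hcop : Nat.Coprime a b) (hk : Nat.Coprime k a) (χ : G → ℂ) (hχ : Cfsg.IsCharacter G χ) : ∃ χ' : G → ℂ, Cfsg.IsCharacter G χ' ∧ (Cfsg.IsIrrCharacter G χ → Cfsg.IsIrrCharacter G χ') ∧ (∀ g : G, orderOf g ∣ a → χ' g = χ (g ^ k)) ∧ (∀ g : G, Nat.Coprime (orderOf g) a → χ' g = χ g) := by
  classical
  haveI : Fintype G := Fintype.ofFinite G
  have ha0 : 0 < a := Nat.pos_of_ne_zero fun h => by simp [h, Nat.card_pos.ne'] at hab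
  obtain ⟨k', hk'a, hk'b⟩ := Nat.chineseRemainder hcop k 1
  have hk' : Nat.Coprime k' (Nat.card G) := by
    rw [hab]
    refine Nat.Coprime.mul_right ?_ ?_
    · rw [Nat.coprime_iff_gcd_eq_one, hk'a.gcd_eq]
      exact hk
    · rw [Nat.coprime_iff_gcd_eq_one, hk'b.gcd_eq, Nat.gcd_one_left]
  obtain ⟨σ, hσ⟩ := Cfsg.Agent.CharGalois.exists_galoisAut (Nat.card_pos (α := G)).ne' hk'
  have hval : ∀ g, σ (χ g) = χ (g ^ k') := fun g => Cfsg.Agent.CharGalois.map_char hχ σ.toRingHom hσ g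
  refine ⟨fun g => σ (χ g), ?_, fun hirr => Cfsg.Agent.CharGalois.IsIrrCharacter.twist hirr σ, fun g hg => ?_, fun g hg => ?_⟩
  · obtain ⟨n, ρ, rfl⟩ := hχ
    exact ⟨n, Cfsg.Agent.CharGalois.twistRep σ ρ, funext (Cfsg.Agent.CharGalois.character_twistRep σ ρ)⟩
  · simp only [hval]
    rw [pow_eq_pow_iff_modEq.mpr (Nat.ModEq.of_dvd hg hk'a)]
  · simp only [hval]
    have hd : orderOf g ∣ b := hg.dvd_of_dvd_mul_left (hab ▸ orderOf_dvd_natCard g)
    rw [pow_eq_pow_iff_modEq.mpr (Nat.ModEq.of_dvd hd hk'b), pow_one]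


end Cfsg.Agent.S1493
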