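import Cfsg.Statements.S1494
import Cfsg.Agent.Lib.Char.Orbit
import Cfsg.Agent.Lib.Char.Induction
-- import your own Cfsg.Agent.* helpers here

set_option autoImplicit false
open Cfsg

namespace Cfsg.Agent.S1494

/-- Let χ be a generalized character of the finite group G, p a prime, x an element of order p and y an element commuting with x. Then χ(x * y) − χ(y) = (1 − ε) * ω for some algebraic integer ω, where ε = exp(2πi/p). -/
theorem result {G : Type*} [Group G] [Finite G] (χ : G → ℂ) (hχ : Cfsg.IsGeneralizedCharacter G χ) (p : ℕ) (hp : p.Prime) (x y : G) (hx : orderOf x = p) (hxy : x * y = y * x) : ∃ ω : ℂ, IsIntegral ℤ ω ∧ χ (x * y) - χ y = (1 - Complex.exp (2 * Real.pi * Complex.I / p)) * ω := by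
  classical
  haveI : Fintype G := Fintype.ofFinite G
  set A : Subgroup G := Subgroup.closure {x, y} with hA
  haveI : IsMulCommutative A := Subgroup.isMulCommutative_closure (by
    rintro a (rfl | rfl) b (rfl | rfl) <;> first | rfl | exact hxy | exact hxy.symm)
  have hcomm : ∀ u v : A, u * v = v * u := fun u v => mul_comm' u v
  haveI : Fintype A := Fintype.ofFinite A
  set X : A := ⟨x, Subgroup.subset_closure (by simp)⟩ with hX
  set Y : A := ⟨y, Subgroup.subset_closure (by simp)⟩ with hY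
  obtain ⟨c, hc, -⟩ := Cfsg.Agent.Char.IsGeneralizedCharacter.exists_coeff (Cfsg.Agent.Char.IsGeneralizedCharacter.restrict hχ A)
  have hprim : IsPrimitiveRoot (Complex.exp (2 * Real.pi * Complex.I / p)) p := Complex.isPrimitiveRoot_exp p hp.ne_zero
  set ε := Complex.exp (2 * Real.pi * Complex.I / p) with hε
  have hw : ∀ l : Cfsg.IrrCharacter A, ∃ w : ℂ, IsIntegral ℤ w ∧ (l : A → ℂ) (X * Y) - (l : A → ℂ) Y = (1 - ε) * w := by
    intro l
    obtain ⟨f, hf⟩ := Cfsg.Agent.Char.exists_hom_of_degree_one (Cfsg.Agent.Char.IsIrrCharacter.isCharacter l.2)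
      (Cfsg.Agent.Char.degree_one_of_comm hcomm l.2)
    have hXp : X ^ p = 1 := Subtype.ext (by rw [SubmonoidClass.coe_pow, hX, ← hx, pow_orderOf_eq_one]; rfl)
    have hz : (f X : ℂ) ^ p = 1 := by rw [← Units.val_pow_eq_pow_val, ← map_pow, hXp, map_one, Units.val_one]
    haveI : NeZero p := ⟨hp.ne_zero⟩
    obtain ⟨j, -, hj⟩ := hprim.eq_pow_of_pow_eq_one hz
    refine ⟨-((∑ i ∈ Finset.range j, ε ^ i) * (l : A → ℂ) Y),
      ((IsIntegral.sum _ fun i _ => (Cfsg.Agent.Char.isIntegral_of_pow_eq_one hp.pos hprim.pow_eq_one).pow i).mul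
        (Cfsg.Agent.Char.IsCharacter.isIntegral (Cfsg.Agent.Char.IsIrrCharacter.isCharacter l.2) Y)).neg, ?_⟩
    rw [mul_neg, ← mul_assoc, mul_neg_geom_sum, hf]
    simp only
    rw [map_mul, Units.val_mul, hj]
    ring
  choose w hw1 hw2 using hw
  refine ⟨∑ l, (c l : ℂ) * w l, IsIntegral.sum _ fun l _ => isIntegral_algebraMap.mul (hw1 l), ?_⟩
  have e1 := congrFun hc (X * Y)
  have e2 := congrFun hc Y
  simp only [Finset.sum_apply, Pi.smul_apply, smul_eq_mul, Subgroup.coe_mul] at e1 e2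
  rw [show χ (x * y) = _ from e1, show χ y = _ from e2, Finset.mul_sum, ← Finset.sum_sub_distrib]
  refine Finset.sum_congr rfl fun l _ => ?_
  rw [← mul_sub, hw2 l]
  ring


end Cfsg.Agent.S1494
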