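import Cfsg.Statements.S1495
import Cfsg.Agent.Lib.Char.Integral
import Mathlib
-- import your own Cfsg.Agent.* helpers here

set_option autoImplicit false
open Cfsg

namespace Cfsg.Agent.S1495

/-- Let p be a prime, ε = exp(2πi/p), and n an integer such that n = (1 − ε) * ω for some algebraic integer ω. Then p divides n. -/
theorem result (p : ℕ) (hp : p.Prime) (n : ℤ) (ω : ℂ) (hω : IsIntegral ℤ ω) (h : (n : ℂ) = (1 - Complex.exp (2 * Real.pi * Complex.I / p)) * ω) : (p : ℤ) ∣ n := by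
  haveI := Fact.mk hp
  set ε := Complex.exp (2 * Real.pi * Complex.I / p) with hε
  have hprim : IsPrimitiveRoot ε p := Complex.isPrimitiveRoot_exp p hp.ne_zero
  have hprod : ∏ μ ∈ primitiveRoots p ℂ, (1 - μ) = (p : ℂ) := by
    have h1 := congrArg (Polynomial.eval (1 : ℂ)) (Polynomial.cyclotomic_eq_prod_X_sub_primitiveRoots hprim)
    rw [Polynomial.eval_one_cyclotomic_prime, Polynomial.eval_prod] at h1
    simpa using h1.symm
  have hdiv : ∀ μ ∈ primitiveRoots p ℂ, ∃ t : ℂ, IsIntegral ℤ t ∧ 1 - ε = (1 - μ) * t := by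
    intro μ hμ
    rw [mem_primitiveRoots hp.pos] at hμ
    obtain ⟨j, -, hj⟩ := hμ.eq_pow_of_pow_eq_one hprim.pow_eq_one
    refine ⟨∑ i ∈ Finset.range j, μ ^ i, IsIntegral.sum _ fun i _ =>
      (Cfsg.Agent.Char.isIntegral_of_pow_eq_one hp.pos hμ.pow_eq_one).pow i, ?_⟩
    rw [mul_neg_geom_sum, hj]
  choose! t ht1 ht2 using hdiv
  have hkey : (n : ℂ) ^ (primitiveRoots p ℂ).card = (p : ℂ) * ((∏ μ ∈ primitiveRoots p ℂ, t μ) * ω ^ (primitiveRoots p ℂ).card) := by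
    rw [h, mul_pow, ← mul_assoc, ← hprod, ← Finset.prod_mul_distrib,
      ← Finset.prod_congr rfl fun μ hμ => ht2 μ hμ, Finset.prod_const]
  obtain ⟨q, hq⟩ := Cfsg.Agent.Char.exists_int_of_isIntegral (q := (n : ℚ) ^ (primitiveRoots p ℂ).card / p) (by
    have : (((n : ℚ) ^ (primitiveRoots p ℂ).card / p : ℚ) : ℂ) = (∏ μ ∈ primitiveRoots p ℂ, t μ) * ω ^ (primitiveRoots p ℂ).card := by
      push_cast
      rw [hkey, mul_div_cancel_left₀ _ (Nat.cast_ne_zero.mpr hp.ne_zero)]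
    rw [this]
    exact (IsIntegral.prod _ ht1).mul (hω.pow _))
  refine (Nat.prime_iff_prime_int.mp hp).dvd_of_dvd_pow (n := (primitiveRoots p ℂ).card) ⟨q, ?_⟩
  rw [div_eq_iff (Nat.cast_ne_zero.mpr hp.ne_zero)] at hq
  have : (n : ℚ) ^ (primitiveRoots p ℂ).card = ((p : ℤ) : ℚ) * q := by rw [hq]; push_cast; ring
  exact_mod_cast this


end Cfsg.Agent.S1495
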