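import Cfsg.Statements.S1497
import Cfsg.Agent.Lib.Char.Dade
-- import your own Cfsg.Agent.* helpers here

set_option autoImplicit false
open Cfsg

namespace Cfsg.Agent.S1497

/-- Let A be a nonempty subset of the finite group G not containing 1 and L a subgroup. Then A is a TI-subset whose normaliser is L if and only if the Dade hypothesis holds for A, L and the constant choice H(a) = ⊥. -/
theorem result {G : Type*} [Group G] [Finite G] (A : Set G) (hA : A.Nonempty) (h1 : (1 : G) ∉ A) (L : Subgroup G) : (Cfsg.IsTISubset A ∧ Subgroup.normalizer A = L) ↔ Cfsg.DadeHypothesis A L (fun _ => ⊥) := by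
  have hbot : ∀ {P : G} , P ∈ (⊥ : Subgroup G) → P = 1 := fun h => Subgroup.mem_bot.mp h
  constructor
  · rintro ⟨hTI, rfl⟩
    have hC : ∀ a ∈ A, ∀ g : G, g * a * g⁻¹ ∈ A → g ∈ Subgroup.normalizer A := by
      intro a ha g hg
      by_contra hc
      exact h1 (hTI g hc a ha hg ▸ ha)
    have hCA : ∀ a ∈ A, Subgroup.centralizer ({a} : Set G) ≤ Subgroup.normalizer A := by
      intro a ha c hc
      refine hC a ha c ?_
      rw [Subgroup.mem_centralizer_singleton_iff.mp hc, mul_inv_cancel_right]
      exact ha
    refine ⟨h1, fun a ha => hC a ha a (by simpa using ha), fun x hx a ha => ?_, fun a ha g hg => ⟨g, hC a ha g hg, rfl⟩,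
      fun a _ => bot_le, fun a _ c _ u hu => by rw [hbot hu]; simp, fun a _ => bot_inf_eq _,
      fun a ha => ?_, fun a _ b _ => by simp⟩
    · exact (Subgroup.mem_set_normalizer_iff.mp hx a).mp ha
    · simp [hCA a ha]
  · intro hD
    have hle : L ≤ Subgroup.normalizer A := by
      intro x hx
      rw [Subgroup.mem_set_normalizer_iff]
      refine fun a => ⟨fun ha => hD.conj_mem x hx a ha, fun ha => ?_⟩
      have := hD.conj_mem x⁻¹ (L.inv_mem hx) _ ha
      simpa [mul_assoc] using this
    have key : ∀ a ∈ A, ∀ g : G, g * a * g⁻¹ ∈ A → g ∈ L := by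
      intro a ha g hg
      obtain ⟨x, hx, e⟩ := hD.fusion a ha g hg
      have hc : x⁻¹ * g ∈ Subgroup.centralizer ({a} : Set G) := by
        rw [Subgroup.mem_centralizer_singleton_iff]
        calc x⁻¹ * g * a = x⁻¹ * (g * a * g⁻¹) * g := by group
          _ = a * (x⁻¹ * g) := by rw [← e]; group
      rw [← hD.sup_eq a ha, bot_sup_eq] at hc
      simpa using L.mul_mem hx hc.1
    have heq : Subgroup.normalizer A = L := by
      refine le_antisymm (fun g hg => ?_) hle
      obtain ⟨a, ha⟩ := hA
      exact key a ha g ((Subgroup.mem_set_normalizer_iff.mp hg a).mp ha)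
    refine ⟨fun g hg a ha hga => absurd (key a ha g hga) (by rwa [← heq]), heq⟩


end Cfsg.Agent.S1497
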