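import Cfsg.Statements.S1499
import Cfsg.Agent.Lib.Char.Dade
-- import your own Cfsg.Agent.* helpers here

set_option autoImplicit false
open Cfsg

namespace Cfsg.Agent.S1499

/-- Under the Dade hypothesis for (A, L, H), let a, b ∈ A. If an element of the coset a·H(a) is conjugate in G to an element of b·H(b), then a and b are conjugate by an element of L. Moreover the set normaliser of the coset a·H(a) is the centraliser of a. -/
theorem result {G : Type*} [Group G] [Finite G] (A : Set G) (L : Subgroup G) (H : G → Subgroup G) (hD : Cfsg.DadeHypothesis A L H) (a b : G) (ha : a ∈ A) (hb : b ∈ A) : ((∃ u ∈ H a, ∃ v ∈ H b, ∃ g : G, g * (a * u) * g⁻¹ = b * v) → ∃ x ∈ L, x * a * x⁻¹ = b) ∧ Subgroup.normalizer ((fun u : G => a * u) '' (H a : Set G)) = Subgroup.centralizer ({a} : Set G) := by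
  classical
  haveI := Fintype.ofFinite G
  refine ⟨?_, ?_⟩
  · rintro ⟨u, hu, v, hv, g, e⟩
    have := Cfsg.Agent.Char.Dade.extract hD ha hb hu hv e
    obtain ⟨x, hx, e'⟩ := hD.fusion a ha g (by rw [this]; exact hb)
    exact ⟨x, hx, e'.trans this⟩
  · ext g
    constructor
    · intro hg
      obtain ⟨u, hu, e⟩ := (Subgroup.mem_set_normalizer_iff.mp hg a).mp ⟨1, (H a).one_mem, mul_one a⟩
      have := Cfsg.Agent.Char.Dade.extract hD ha ha (H a).one_mem hu (g := g) (by rw [mul_one]; exact e.symm)
      rw [Subgroup.mem_centralizer_singleton_iff]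
      exact mul_inv_eq_iff_eq_mul.mp this
    · intro hg
      have aux : ∀ c ∈ Subgroup.centralizer ({a} : Set G), ∀ u ∈ H a, ∃ v ∈ H a, a * v = c * (a * u) * c⁻¹ := by
        intro c hc u hu
        refine ⟨_, hD.conj_mem_H a ha c hc u hu, ?_⟩
        have := Subgroup.mem_centralizer_singleton_iff.mp hc
        calc a * (c * u * c⁻¹) = a * c * u * c⁻¹ := by group
          _ = c * a * u * c⁻¹ := by rw [this]
          _ = _ := by group
      rw [Subgroup.mem_set_normalizer_iff]
      intro n
      constructor
      · rintro ⟨u, hu, rfl⟩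
        exact aux g hg u hu
      · rintro ⟨u, hu, e⟩
        obtain ⟨v, hv, e'⟩ := aux g⁻¹ (Subgroup.inv_mem _ hg) u hu
        refine ⟨v, hv, e'.trans ?_⟩
        simp only at e
        rw [e]
        group


end Cfsg.Agent.S1499
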