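import Cfsg.Statements.S1504
import Cfsg.Agent.Lib.Char.CyclicTI.Basic

set_option autoImplicit false
open Cfsg

namespace Cfsg.Agent.S1504

/-- Let W₁, W₂ be subgroups of a finite group with W₁ ⊓ W₂ = ⊥ whose elements commute, and W = W₁ ⊔ W₂. For linear characters φ, ψ of W with φ trivial on W₂ and ψ trivial on W₁, the function (1 − φ)(1 − ψ) vanishes on W₁ ∪ W₂; and the family of these functions, indexed by pairs (φ, ψ) with φ ≠ 1 ≠ ψ, is linearly independent over ℂ. -/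
theorem result {G : Type*} [Group G] [Finite G] (W₁ W₂ : Subgroup G) (hdisj : W₁ ⊓ W₂ = ⊥) (hcomm : ∀ a ∈ W₁, ∀ b ∈ W₂, a * b = b * a) : (∀ φ ψ : ↥(W₁ ⊔ W₂) →* ℂˣ, (∀ w : ↥(W₁ ⊔ W₂), (w : G) ∈ W₂ → φ w = 1) → (∀ w : ↥(W₁ ⊔ W₂), (w : G) ∈ W₁ → ψ w = 1) → ∀ w : ↥(W₁ ⊔ W₂), ((w : G) ∈ W₁ ∨ (w : G) ∈ W₂) → (1 - (φ w : ℂ) - (ψ w : ℂ) + (φ w : ℂ) * (ψ w : ℂ)) = 0) ∧ LinearIndependent ℂ (fun p : {p : (↥(W₁ ⊔ W₂) →* ℂˣ) × (↥(W₁ ⊔ W₂) →* ℂˣ) // p.1 ≠ 1 ∧ p.2 ≠ 1 ∧ (∀ w : ↥(W₁ ⊔ W₂), (w : G) ∈ W₂ → p.1 w = 1) ∧ (∀ w : ↥(W₁ ⊔ W₂), (w : G) ∈ W₁ → p.2 w = 1)} => fun w : ↥(W₁ ⊔ W₂) => 1 - (p.1.1 w : ℂ) - (p.1.2 w : ℂ) + (p.1.1 w : ℂ) * (p.1.2 w : ℂ)) := by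
  classical
  haveI : Fintype ↥(W₁ ⊔ W₂) := Fintype.ofFinite _
  have S : Cfsg.Agent.Char.CyclicTI.Split W₁ W₂ := ⟨hdisj, hcomm⟩
  refine ⟨fun φ ψ hφ hψ w hw => Cfsg.Agent.Char.CyclicTI.alpha_vanish hφ hψ w hw, ?_⟩
  rw [linearIndependent_iff']
  intro s c hc p hp
  obtain ⟨hp1, hp2, hp3, hp4⟩ := p.2
  have e : Cfsg.classInner (∑ q ∈ s, c q • Cfsg.Agent.Char.CyclicTI.alpha q.1.1 q.1.2)
      (fun w => ((p.1.1 * p.1.2) w : ℂ)) = 0 := by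
    rw [show (∑ q ∈ s, c q • Cfsg.Agent.Char.CyclicTI.alpha q.1.1 q.1.2) = 0 from hc,
      Cfsg.Agent.Char.classInner_zero_left]
  rw [Cfsg.Agent.Char.classInner_sum_left, Finset.sum_eq_single p (fun q _ hqp => ?_)
    (fun h => absurd hp h)] at e
  · rw [Cfsg.Agent.Char.classInner_smul_left, ← Cfsg.Agent.Char.classInner_conj_symm] at e
    have h1 := Cfsg.Agent.Char.CyclicTI.hom_eq_pull1 S hp3
    have h2 := Cfsg.Agent.Char.CyclicTI.hom_eq_pull2 S hp4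
    rw [h1, h2, Cfsg.Agent.Char.CyclicTI.classInner_pull_alpha S] at e
    have n1 : p.1.1.comp (Cfsg.Agent.Char.CyclicTI.inc1 W₁ W₂) ≠ 1 := fun h => hp1 (by
      rw [h1, h, Cfsg.Agent.Char.CyclicTI.pull1_one])
    have n2 : p.1.2.comp (Cfsg.Agent.Char.CyclicTI.inc2 W₁ W₂) ≠ 1 := fun h => hp2 (by
      rw [h2, h, Cfsg.Agent.Char.CyclicTI.pull2_one])
    simpa [n1, n2] using e
  · obtain ⟨hq1, hq2, hq3, hq4⟩ := q.2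
    rw [Cfsg.Agent.Char.classInner_smul_left, ← Cfsg.Agent.Char.classInner_conj_symm]
    have h1 := Cfsg.Agent.Char.CyclicTI.hom_eq_pull1 S hp3
    have h2 := Cfsg.Agent.Char.CyclicTI.hom_eq_pull2 S hp4
    have k1 := Cfsg.Agent.Char.CyclicTI.hom_eq_pull1 S hq3
    have k2 := Cfsg.Agent.Char.CyclicTI.hom_eq_pull2 S hq4
    rw [h1, h2, k1, k2, Cfsg.Agent.Char.CyclicTI.classInner_pull_alpha S]
    have n1 : p.1.1.comp (Cfsg.Agent.Char.CyclicTI.inc1 W₁ W₂) ≠ 1 := fun h => hp1 (by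
      rw [h1, h, Cfsg.Agent.Char.CyclicTI.pull1_one])
    have n2 : p.1.2.comp (Cfsg.Agent.Char.CyclicTI.inc2 W₁ W₂) ≠ 1 := fun h => hp2 (by
      rw [h2, h, Cfsg.Agent.Char.CyclicTI.pull2_one])
    have : p.1.1.comp (Cfsg.Agent.Char.CyclicTI.inc1 W₁ W₂) ≠
        q.1.1.comp (Cfsg.Agent.Char.CyclicTI.inc1 W₁ W₂) ∨
        p.1.2.comp (Cfsg.Agent.Char.CyclicTI.inc2 W₁ W₂) ≠
        q.1.2.comp (Cfsg.Agent.Char.CyclicTI.inc2 W₁ W₂) := by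
      by_contra h
      push Not at h
      exact hqp (Subtype.ext (Prod.ext (by rw [k1, h1, h.1]) (by rw [k2, h2, h.2])))
    rcases this with h | h <;> simp [n1, n2, h]

end Cfsg.Agent.S1504
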