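import Cfsg.Statements.S1505
import Cfsg.Agent.Lib.Char.CyclicTI.Basic

set_option autoImplicit false
open Cfsg

namespace Cfsg.Agent.S1505

open Classical in
/-- Let W₁, W₂ ≤ G form a self-normalising cyclic subgroup W = W₁ ⊔ W₂. For nontrivial linear characters φ, φ' of W trivial on W₂ and ψ, ψ' trivial on W₁, put α = (1 − φ)(1 − ψ) and α' = (1 − φ')(1 − ψ'). Then the function induced from α to G has inner product 1 with the principal character, and the inner product of the functions induced from α and α' is 1 + a + b + ab where a = 1 if φ = φ' (else 0) and b = 1 if ψ = ψ' (else 0). -/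
theorem result {G : Type*} [Group G] [Fintype G] (W₁ W₂ : Subgroup G) (hW : Cfsg.IsSelfNormalizingCyclic W₁ W₂) (φ φ' ψ ψ' : ↥(W₁ ⊔ W₂) →* ℂˣ) (hφ : φ ≠ 1) (hφ' : φ' ≠ 1) (hψ : ψ ≠ 1) (hψ' : ψ' ≠ 1) (hφ₂ : ∀ w : ↥(W₁ ⊔ W₂), (w : G) ∈ W₂ → φ w = 1 ∧ φ' w = 1) (hψ₁ : ∀ w : ↥(W₁ ⊔ W₂), (w : G) ∈ W₁ → ψ w = 1 ∧ ψ' w = 1) : Cfsg.classInner (Cfsg.indFun (W₁ ⊔ W₂) (fun w => 1 - (φ w : ℂ) - (ψ w : ℂ) + (φ w : ℂ) * (ψ w : ℂ))) (fun _ => 1) = 1 ∧ Cfsg.classInner (Cfsg.indFun (W₁ ⊔ W₂) (fun w => 1 - (φ w : ℂ) - (ψ w : ℂ) + (φ w : ℂ) * (ψ w : ℂ))) (Cfsg.indFun (W₁ ⊔ W₂) (fun w => 1 - (φ' w : ℂ) - (ψ' w : ℂ) + (φ' w : ℂ) * (ψ' w : ℂ))) = 1 + (if φ = φ' then 1 else 0) + (if ψ = ψ' then 1 else 0) + (if φ = φ' then 1 else 0) * (if ψ = ψ' then 1 else 0) := by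
  haveI : Fintype ↥(W₁ ⊔ W₂) := Fintype.ofFinite _
  have S := Cfsg.Agent.Char.CyclicTI.split_of hW
  have e1 := Cfsg.Agent.Char.CyclicTI.hom_eq_pull1 S fun w hw => (hφ₂ w hw).1
  have e1' := Cfsg.Agent.Char.CyclicTI.hom_eq_pull1 S fun w hw => (hφ₂ w hw).2
  have e2 := Cfsg.Agent.Char.CyclicTI.hom_eq_pull2 S fun w hw => (hψ₁ w hw).1
  have e2' := Cfsg.Agent.Char.CyclicTI.hom_eq_pull2 S fun w hw => (hψ₁ w hw).2
  set f := φ.comp (Cfsg.Agent.Char.CyclicTI.inc1 W₁ W₂)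
  set f' := φ'.comp (Cfsg.Agent.Char.CyclicTI.inc1 W₁ W₂)
  set g := ψ.comp (Cfsg.Agent.Char.CyclicTI.inc2 W₁ W₂)
  set g' := ψ'.comp (Cfsg.Agent.Char.CyclicTI.inc2 W₁ W₂)
  have hf : f ≠ 1 := fun h => hφ (by rw [e1, h, Cfsg.Agent.Char.CyclicTI.pull1_one])
  have hf' : f' ≠ 1 := fun h => hφ' (by rw [e1', h, Cfsg.Agent.Char.CyclicTI.pull1_one])
  have hg : g ≠ 1 := fun h => hψ (by rw [e2, h, Cfsg.Agent.Char.CyclicTI.pull2_one])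
  have hg' : g' ≠ 1 := fun h => hψ' (by rw [e2', h, Cfsg.Agent.Char.CyclicTI.pull2_one])
  have iff1 : φ = φ' ↔ f = f' := ⟨fun h => by simp only [f, f', h], fun h => by rw [e1, e1', h]⟩
  have iff2 : ψ = ψ' ↔ g = g' := ⟨fun h => by simp only [g, g', h], fun h => by rw [e2, e2', h]⟩
  show Cfsg.classInner (Cfsg.indFun (W₁ ⊔ W₂) (Cfsg.Agent.Char.CyclicTI.alpha φ ψ)) _ = 1 ∧
    Cfsg.classInner (Cfsg.indFun (W₁ ⊔ W₂) (Cfsg.Agent.Char.CyclicTI.alpha φ ψ))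
      (Cfsg.indFun (W₁ ⊔ W₂) (Cfsg.Agent.Char.CyclicTI.alpha φ' ψ')) = _
  constructor
  · rw [Cfsg.Agent.Char.classInner_indFun_left _ _ (fun _ _ => rfl),
      ← Cfsg.Agent.Char.classInner_conj_symm, e1, e2,
      Cfsg.Agent.Char.CyclicTI.classInner_one_alpha S hf hg, map_one]
  · rw [Cfsg.Agent.Char.CyclicTI.classInner_indFun hW
      (Cfsg.Agent.Char.CyclicTI.alpha_vanish (fun w hw => (hφ₂ w hw).1) (fun w hw => (hψ₁ w hw).1))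
      (Cfsg.Agent.Char.CyclicTI.alpha_vanish (fun w hw => (hφ₂ w hw).2) (fun w hw => (hψ₁ w hw).2))]
    simp only [iff1, iff2]
    rw [e1, e2, e1', e2', Cfsg.Agent.Char.CyclicTI.classInner_alpha_alpha S hf hf' hg hg']
    ring

end Cfsg.Agent.S1505
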