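import Cfsg.Statements.S1507
import Cfsg.Agent.Lib.Char.CyclicTI.Exist

set_option autoImplicit false
open Cfsg

namespace Cfsg.Agent.S1507

open Classical in
/-- Let W₁, W₂ ≤ G form a self-normalising cyclic subgroup W = W₁ ⊔ W₂ of odd order with Nat.card W₁ < Nat.card W₂, and χ an orthonormal family of irreducible characters of G up to sign, indexed by the linear characters ω of W, with χ_1 = 1, χ_ω = ω on W outside W₁ ∪ W₂, and the induction identity for (1 − φ)(1 − ψ). Let θ be a class function of G vanishing on W outside W₁ ∪ W₂, and suppose fewer than 2 · Nat.card W₁ linear characters ω of W have ⟨θ, χ ω⟩ ≠ 0. Then one of: all ⟨θ, χ ω⟩ vanish; or there are ψ₀ and a with ⟨θ, χ ω⟩ = a when ω ψ₀⁻¹ is trivial on W₂ and 0 otherwise; or there are φ₀ and a with ⟨θ, χ ω⟩ = a when ω φ₀⁻¹ is trivial on W₁ and 0 otherwise. -/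
theorem result {G : Type*} [Group G] [Fintype G] (W₁ W₂ : Subgroup G) (hW : Cfsg.IsSelfNormalizingCyclic W₁ W₂) (hodd : Odd (Nat.card ↥(W₁ ⊔ W₂))) (χ : (↥(W₁ ⊔ W₂) →* ℂˣ) → (G → ℂ)) (hχ : Cfsg.IsCyclicTIFamily W₁ W₂ χ) (hlt : Nat.card W₁ < Nat.card W₂) (θ : G → ℂ) (hθ : Cfsg.IsClassFunction G θ) (hθV : ∀ w : ↥(W₁ ⊔ W₂), (w : G) ∉ W₁ → (w : G) ∉ W₂ → θ w = 0) (hfew : Nat.card {ω : ↥(W₁ ⊔ W₂) →* ℂˣ // Cfsg.classInner θ (χ ω) ≠ 0} < 2 * Nat.card W₁) : (∀ ω, Cfsg.classInner θ (χ ω) = 0) ∨ (∃ (ψ₀ : ↥(W₁ ⊔ W₂) →* ℂˣ) (a : ℂ), ∀ ω, Cfsg.classInner θ (χ ω) = if (∀ w : ↥(W₁ ⊔ W₂), (w : G) ∈ W₂ → (ω * ψ₀⁻¹) w = 1) then a else 0) ∨ (∃ (φ₀ : ↥(W₁ ⊔ W₂) →* ℂˣ) (a : ℂ), ∀ ω, Cfsg.classInner θ (χ ω) = if (∀ w : ↥(W₁ ⊔ W₂), (w : G) ∈ W₁ → (ω * φ₀⁻¹) w = 1) then a else 0) := by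
  classical
  haveI : Fintype ↥(W₁ ⊔ W₂) := Fintype.ofFinite _
  have S := Cfsg.Agent.Char.CyclicTI.split_of hW
  haveI := Cfsg.Agent.Char.CyclicTI.isMulCommutative1 hW
  haveI := Cfsg.Agent.Char.CyclicTI.isMulCommutative2 hW
  haveI := Cfsg.Agent.Char.CyclicTI.finite_dual W₁
  haveI := Cfsg.Agent.Char.CyclicTI.finite_dual W₂
  haveI : Fintype (W₁ →* ℂˣ) := Fintype.ofFinite _
  haveI : Fintype (W₂ →* ℂˣ) := Fintype.ofFinite _
  let f : (W₁ →* ℂˣ) → ℂ := fun a =>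
    Cfsg.classInner θ (χ (Cfsg.Agent.Char.CyclicTI.pull1 S a)) - Cfsg.classInner θ (χ 1)
  let g : (W₂ →* ℂˣ) → ℂ := fun b => Cfsg.classInner θ (χ (Cfsg.Agent.Char.CyclicTI.pull2 S b))
  have key : ∀ p, Cfsg.classInner θ (χ (Cfsg.Agent.Char.CyclicTI.dualEquiv S p)) = f p.1 + g p.2 := by
    intro p
    show Cfsg.classInner θ (χ (Cfsg.Agent.Char.CyclicTI.pull1 S p.1 *
      Cfsg.Agent.Char.CyclicTI.pull2 S p.2)) = _
    rw [Cfsg.Agent.Char.CyclicTI.coeff_add hW hχ hθ hθV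
      (Cfsg.Agent.Char.CyclicTI.pull1_apply_of_mem S _)
      (Cfsg.Agent.Char.CyclicTI.pull2_apply_of_mem S _)]
    simp only [f, g]
    ring
  obtain ⟨-, -, ⟨a1, ha1⟩, ⟨a2, ha2⟩, -⟩ := Cfsg.Agent.Char.CyclicTI.odd_cards hW hodd
  have hcA : Fintype.card (W₁ →* ℂˣ) = Nat.card W₁ := by
    rw [← Nat.card_eq_fintype_card, Cfsg.Agent.Char.CyclicTI.card_hom]
  have hcB : Fintype.card (W₂ →* ℂˣ) = Nat.card W₂ := by
    rw [← Nat.card_eq_fintype_card, Cfsg.Agent.Char.CyclicTI.card_hom]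
  have h3 := (Cfsg.Agent.Char.CyclicTI.odd_cards hW hodd).1
  have hfew' : Nat.card {p : (W₁ →* ℂˣ) × (W₂ →* ℂˣ) // f p.1 + g p.2 ≠ 0} <
      2 * Fintype.card (W₁ →* ℂˣ) := by
    rw [hcA]
    refine lt_of_eq_of_lt (Nat.card_congr
      ((Cfsg.Agent.Char.CyclicTI.dualEquiv S).subtypeEquiv fun p => ?_)) hfew
    rw [key]
  rcases Cfsg.Agent.Char.CyclicTI.few_nonzero (by omega) (by omega) f g hfew' with
    h | ⟨b₀, a, h⟩ | ⟨a₀, a, h⟩
  · left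
    intro ω
    rw [← (Cfsg.Agent.Char.CyclicTI.dualEquiv S).apply_symm_apply ω, key]
    exact h _
  · right; left
    refine ⟨Cfsg.Agent.Char.CyclicTI.pull2 S b₀, a, fun ω => ?_⟩
    obtain ⟨⟨x, y⟩, rfl⟩ := (Cfsg.Agent.Char.CyclicTI.dualEquiv S).surjective ω
    rw [key, h]
    have hiff : (∀ w : ↥(W₁ ⊔ W₂), (w : G) ∈ W₂ →
        (Cfsg.Agent.Char.CyclicTI.dualEquiv S (x, y) *
          (Cfsg.Agent.Char.CyclicTI.pull2 S b₀)⁻¹) w = 1) ↔ y = b₀ := by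
      constructor
      · intro hw
        ext b
        have := congrArg Units.val (hw (Cfsg.Agent.Char.CyclicTI.inc2 W₁ W₂ b) b.2)
        simp [Cfsg.Agent.Char.CyclicTI.dualEquiv, Cfsg.Agent.Char.CyclicTI.pull1,
          Cfsg.Agent.Char.CyclicTI.pull2, mul_inv_eq_one₀] at this
        exact this
      · rintro rfl w hw
        have h1 := Cfsg.Agent.Char.CyclicTI.pull1_apply_of_mem S x w hw
        show Cfsg.Agent.Char.CyclicTI.pull1 S x w * Cfsg.Agent.Char.CyclicTI.pull2 S y w *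
          (Cfsg.Agent.Char.CyclicTI.pull2 S y w)⁻¹ = 1
        rw [h1, one_mul, mul_inv_cancel]
    by_cases hy : y = b₀
    · rw [if_pos hy, if_pos (hiff.mpr hy)]
    · rw [if_neg hy, if_neg fun hh => hy (hiff.mp hh)]
  · right; right
    refine ⟨Cfsg.Agent.Char.CyclicTI.pull1 S a₀, a, fun ω => ?_⟩
    obtain ⟨⟨x, y⟩, rfl⟩ := (Cfsg.Agent.Char.CyclicTI.dualEquiv S).surjective ω
    rw [key, h]
    have hiff : (∀ w : ↥(W₁ ⊔ W₂), (w : G) ∈ W₁ →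
        (Cfsg.Agent.Char.CyclicTI.dualEquiv S (x, y) *
          (Cfsg.Agent.Char.CyclicTI.pull1 S a₀)⁻¹) w = 1) ↔ x = a₀ := by
      constructor
      · intro hw
        ext b
        have := congrArg Units.val (hw (Cfsg.Agent.Char.CyclicTI.inc1 W₁ W₂ b) b.2)
        simp [Cfsg.Agent.Char.CyclicTI.dualEquiv, Cfsg.Agent.Char.CyclicTI.pull1,
          Cfsg.Agent.Char.CyclicTI.pull2, mul_inv_eq_one₀] at this
        exact this
      · rintro rfl w hw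
        have h1 := Cfsg.Agent.Char.CyclicTI.pull2_apply_of_mem S y w hw
        show Cfsg.Agent.Char.CyclicTI.pull1 S x w * Cfsg.Agent.Char.CyclicTI.pull2 S y w *
          (Cfsg.Agent.Char.CyclicTI.pull1 S x w)⁻¹ = 1
        rw [h1, mul_one, mul_inv_cancel]
    by_cases hy : x = a₀
    · rw [if_pos hy, if_pos (hiff.mpr hy)]
    · rw [if_neg hy, if_neg fun hh => hy (hiff.mp hh)]

end Cfsg.Agent.S1507
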