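import Cfsg.Statements.S1509
import Cfsg.Agent.Lib.Char.Induction
-- import your own Cfsg.Agent.* helpers here

set_option autoImplicit false
open Cfsg

namespace Cfsg.Agent.S1509

/-- Let α, β, γ, δ be functions on a finite group X each of which is an irreducible character or the negative of one, and u, v nonzero real numbers. Suppose ⟨α, β⟩ = ⟨γ, δ⟩ = 0, ⟨α − β, uγ − vδ⟩ = 0, α 1 = β 1 and u γ 1 = v δ 1. Then also ⟨α, γ⟩ = ⟨α, δ⟩ = ⟨β, γ⟩ = ⟨β, δ⟩ = 0. -/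
theorem result {X : Type*} [Group X] [Fintype X] (α β γ δ : X → ℂ) (hα : Cfsg.IsIrrCharacter X α ∨ Cfsg.IsIrrCharacter X (-α)) (hβ : Cfsg.IsIrrCharacter X β ∨ Cfsg.IsIrrCharacter X (-β)) (hγ : Cfsg.IsIrrCharacter X γ ∨ Cfsg.IsIrrCharacter X (-γ)) (hδ : Cfsg.IsIrrCharacter X δ ∨ Cfsg.IsIrrCharacter X (-δ)) (u v : ℝ) (hu : u ≠ 0) (hv : v ≠ 0) (hab : Cfsg.classInner α β = 0) (hcd : Cfsg.classInner γ δ = 0) (hmix : Cfsg.classInner (α - β) ((u : ℂ) • γ - (v : ℂ) • δ) = 0) (h1 : α 1 = β 1) (h2 : (u : ℂ) * γ 1 = (v : ℂ) * δ 1) : Cfsg.classInner α γ = 0 ∧ Cfsg.classInner α δ = 0 ∧ Cfsg.classInner β γ = 0 ∧ Cfsg.classInner β δ = 0 := by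
  classical
  have sgn : ∀ θ : X → ℂ, (Cfsg.IsIrrCharacter X θ ∨ Cfsg.IsIrrCharacter X (-θ)) →
      ∃ (s : ℂ) (μ : Cfsg.IrrCharacter X), (s = 1 ∨ s = -1) ∧ θ = s • (μ : X → ℂ) := by
    rintro θ (h | h)
    · exact ⟨1, ⟨θ, h⟩, Or.inl rfl, (one_smul _ _).symm⟩
    · exact ⟨-1, ⟨-θ, h⟩, Or.inr rfl, by simp⟩
  have main : ∀ α β γ δ : X → ℂ, ∀ u v : ℂ,
      (Cfsg.IsIrrCharacter X α ∨ Cfsg.IsIrrCharacter X (-α)) →
      (Cfsg.IsIrrCharacter X β ∨ Cfsg.IsIrrCharacter X (-β)) →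
      (Cfsg.IsIrrCharacter X γ ∨ Cfsg.IsIrrCharacter X (-γ)) →
      (Cfsg.IsIrrCharacter X δ ∨ Cfsg.IsIrrCharacter X (-δ)) →
      u ≠ 0 → (starRingEnd ℂ) u = u → (starRingEnd ℂ) v = v → Cfsg.classInner α β = 0 → Cfsg.classInner γ δ = 0 →
      Cfsg.classInner (α - β) (u • γ - v • δ) = 0 → α 1 = β 1 → u * γ 1 = v * δ 1 →
      Cfsg.classInner α γ = 0 := by
    intro α β γ δ u v hα hβ hγ hδ hu cu cv hab hcd hmix h1 h2
    obtain ⟨a, A, ha, rfl⟩ := sgn α hα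
    obtain ⟨b, B, hb, rfl⟩ := sgn β hβ
    obtain ⟨c, C, hc, rfl⟩ := sgn γ hγ
    obtain ⟨d, D, hd, rfl⟩ := sgn δ hδ
    have nz : ∀ s : ℂ, (s = 1 ∨ s = -1) → s ≠ 0 := by rintro s (rfl | rfl) <;> norm_num
    have cj : ∀ s : ℂ, (s = 1 ∨ s = -1) → (starRingEnd ℂ) s = s := by rintro s (rfl | rfl) <;> simp
    simp only [Cfsg.Agent.Char.classInner_smul_left, Cfsg.Agent.Char.classInner_smul_right,
      Cfsg.Agent.Char.classInner_sub_left, Cfsg.Agent.Char.classInner_sub_right,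
      cj c hc, cj b hb, cj d hd, cu, cv, map_mul,
      Cfsg.Agent.Char.classInner_irr A.2 B.2, Cfsg.Agent.Char.classInner_irr C.2 D.2,
      Cfsg.Agent.Char.classInner_irr A.2 C.2, Cfsg.Agent.Char.classInner_irr A.2 D.2,
      Cfsg.Agent.Char.classInner_irr B.2 C.2, Cfsg.Agent.Char.classInner_irr B.2 D.2,
      Subtype.coe_inj, Pi.smul_apply, smul_eq_mul] at hab hcd hmix h1 h2 ⊢
    split_ifs at hab with hAB
    · exact absurd hab (by simp [nz a ha, nz b hb])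
    split_ifs at hcd with hCD
    · exact absurd hcd (by simp [nz c hc, nz d hd])
    by_cases hAC : A = C
    · exfalso
      subst hAC
      rw [if_pos rfl, if_neg (show A ≠ D from hCD), if_neg (show B ≠ A from Ne.symm hAB)] at hmix
      by_cases hBD : B = D
      · subst hBD
        rw [if_pos rfl] at hmix
        have hA0 := Cfsg.Agent.Char.IsIrrCharacter.one_ne_zero A.2
        have : (2 : ℂ) * (a * (u * c) * (A : X → ℂ) 1) = 0 := by
          rcases ha with rfl | rfl <;> rcases hb with rfl | rfl <;>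
            first
              | linear_combination ((A : X → ℂ) 1) * hmix + h2 + (v * d) * h1
              | linear_combination ((A : X → ℂ) 1) * hmix - h2 + (v * d) * h1
              | linear_combination ((A : X → ℂ) 1) * hmix + h2 - (v * d) * h1
              | linear_combination ((A : X → ℂ) 1) * hmix - h2 - (v * d) * h1
        simp [nz a ha, nz c hc, hu, hA0] at this
      · rw [if_neg hBD] at hmix
        simp [nz a ha, nz c hc, hu] at hmix
    · rw [if_neg hAC]; simp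
  have cu : (starRingEnd ℂ) (u : ℂ) = u := Complex.conj_ofReal u
  have cv : (starRingEnd ℂ) (v : ℂ) = v := Complex.conj_ofReal v
  have hu' : (u : ℂ) ≠ 0 := Complex.ofReal_ne_zero.mpr hu
  have hv' : (v : ℂ) ≠ 0 := Complex.ofReal_ne_zero.mpr hv
  have hba : Cfsg.classInner β α = 0 := by
    rw [← Cfsg.Agent.Char.classInner_conj_symm, hab, map_zero]
  have hdc : Cfsg.classInner δ γ = 0 := by
    rw [← Cfsg.Agent.Char.classInner_conj_symm, hcd, map_zero]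
  have hmix2 : Cfsg.classInner (β - α) ((u : ℂ) • γ - (v : ℂ) • δ) = 0 := by
    rw [← neg_sub α β, Cfsg.Agent.Char.classInner_neg_left, hmix, neg_zero]
  have hmix3 : Cfsg.classInner (α - β) ((v : ℂ) • δ - (u : ℂ) • γ) = 0 := by
    rw [← neg_sub ((u : ℂ) • γ), Cfsg.Agent.Char.classInner_neg_right, hmix, neg_zero]
  have hmix4 : Cfsg.classInner (β - α) ((v : ℂ) • δ - (u : ℂ) • γ) = 0 := by
    rw [← neg_sub ((u : ℂ) • γ), Cfsg.Agent.Char.classInner_neg_right, hmix2, neg_zero]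
  exact ⟨main α β γ δ u v hα hβ hγ hδ hu' cu cv hab hcd hmix h1 h2,
    main α β δ γ v u hα hβ hδ hγ hv' cv cu hab hdc hmix3 h1 h2.symm,
    main β α γ δ u v hβ hα hγ hδ hu' cu cv hba hcd hmix2 h1.symm h2,
    main β α δ γ v u hβ hα hδ hγ hv' cv cu hba hdc hmix4 h1.symm h2.symm⟩


end Cfsg.Agent.S1509
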