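import Cfsg.Statements.S1511
import Cfsg.Agent.Lib.Char.CyclicTI.SemiChar

set_option autoImplicit false
open Cfsg

namespace Cfsg.Agent.S1511

/-- Let L be a finite group with K normal with complement W₁ ≠ 1 a cyclic Hall subgroup, and W₂ ≠ 1 a cyclic subgroup of K equal to C_K(x) for every non-identity x ∈ W₁, with W₁W₂ of odd order. Then there are a map μ from the linear characters of W = W₁ ⊔ W₂ to irreducible characters of L, injective, and a sign δ(ω) ∈ {1, −1} depending only on the values of ω on W₂, such that: for ω, ω' agreeing on W₂, the function induced to L from ω − ω' equals δ(ω) • (μ ω − μ ω'); μ ω x = δ(ω) ω x for x ∈ W outside W₂; every irreducible character of L not of the form μ ω vanishes on W outside W₂; and μ ω 1 − δ(ω) is an integer multiple of Nat.card W₁. -/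
theorem result {L : Type*} [Group L] [Fintype L] (K W₁ W₂ : Subgroup L) [hK : K.Normal] (hKW₁ : K ⊓ W₁ = ⊥) (hKW₁' : K ⊔ W₁ = ⊤) (hW₁ : W₁ ≠ ⊥) (hW₁c : IsCyclic W₁) (hHall : Nat.Coprime (Nat.card W₁) W₁.index) (hW₂ : W₂ ≠ ⊥) (hW₂c : IsCyclic W₂) (hW₂K : W₂ ≤ K) (hC : ∀ x ∈ W₁, x ≠ 1 → K ⊓ Subgroup.centralizer ({x} : Set L) = W₂) (hodd : Odd (Nat.card ↥(W₁ ⊔ W₂))) : ∃ (μ : (↥(W₁ ⊔ W₂) →* ℂˣ) → (L → ℂ)) (δ : (↥(W₁ ⊔ W₂) →* ℂˣ) → ℂ), Function.Injective μ ∧ (∀ ω, Cfsg.IsIrrCharacter L (μ ω)) ∧ (∀ ω, δ ω = 1 ∨ δ ω = -1) ∧ (∀ ω ω' : ↥(W₁ ⊔ W₂) →* ℂˣ, (∀ w : ↥(W₁ ⊔ W₂), (w : L) ∈ W₂ → ω w = ω' w) → δ ω = δ ω' ∧ Cfsg.indFun (W₁ ⊔ W₂) (fun w => (ω w : ℂ) - (ω' w : ℂ)) = δ ω • (μ ω - μ ω')) ∧ (∀ ω, ∀ w : ↥(W₁ ⊔ W₂), (w : L) ∉ W₂ → μ ω w = δ ω * (ω w : ℂ)) ∧ (∀ θ : L → ℂ, Cfsg.IsIrrCharacter L θ → (∀ ω, θ ≠ μ ω) → ∀ w : ↥(W₁ ⊔ W₂), (w : L) ∉ W₂ → θ w = 0) ∧ (∀ ω, ∃ n : ℤ, μ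 ω 1 - δ ω = n * (Nat.card W₁ : ℂ)) := by
  classical
  have D : Cfsg.Agent.Char.CyclicTI.Semi K W₁ W₂ :=
    ⟨hK, hKW₁, hKW₁', hW₁, hW₁c, hHall, hW₂, hW₂c, hW₂K, hC⟩
  haveI : Fintype ↥(W₁ ⊔ W₂) := Fintype.ofFinite _
  haveI := D.comm1
  obtain ⟨μ, δ, hinj, hirr, hsgn, hgood, hV, hmul, -, hothers⟩ := D.exists_mu hodd
  refine ⟨μ, δ, hinj, hirr, hsgn, ?_, hV, fun θ hθ h => hothers θ hθ h, fun ω => ?_⟩
  · intro ω ω' hag
    have S := D.split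
    obtain ⟨f, hf⟩ : ∃ f : W₁ →* ℂˣ, ω' = Cfsg.Agent.Char.CyclicTI.pull1 S f * ω := by
      refine ⟨(ω' * ω⁻¹).comp (Cfsg.Agent.Char.CyclicTI.inc1 W₁ W₂), ?_⟩
      have h := Cfsg.Agent.Char.CyclicTI.hom_eq_pull1 S (φ := ω' * ω⁻¹) (fun w hw => by
        show ω' w * (ω w)⁻¹ = 1
        rw [← hag w hw, mul_inv_cancel])
      rw [← h]
      ext w
      simp
    obtain ⟨hδ, hμ⟩ := hmul ω f
    rw [← hf] at hδ hμ
    refine ⟨hδ.symm, ?_⟩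
    funext g
    have hβ : ∀ w : ↥(W₁ ⊔ W₂), (w : L) ∈ W₂ → (ω w : ℂ) - (ω' w : ℂ) = 0 := fun w hw => by
      rw [hag w hw, sub_self]
    by_cases hg : g ∈ K
    · rw [D.ind_K hβ hg, Pi.smul_apply, Pi.sub_apply, hμ]
      simp [(D.pr_eq_one_iff g).mpr hg]
    · obtain ⟨t, v, hv, rfl⟩ := D.exists_conj hg
      rw [Cfsg.Agent.Char.isClassFunction_indFun (W₁ ⊔ W₂) _ v t, D.ind_V hβ hv, Pi.smul_apply,
        Pi.sub_apply,
        Cfsg.Agent.Char.IsCharacter.isClassFunction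
          (Cfsg.Agent.Char.IsIrrCharacter.isCharacter (hirr ω)) v t,
        Cfsg.Agent.Char.IsCharacter.isClassFunction
          (Cfsg.Agent.Char.IsIrrCharacter.isCharacter (hirr ω')) v t,
        hV ω v hv, hV ω' v hv, hδ, smul_eq_mul]
      rcases hsgn ω with h | h <;> rw [h] <;> ring
  · haveI : Fintype W₁ := Fintype.ofFinite W₁
    obtain ⟨a, ha, ha1⟩ := (Subgroup.bot_or_exists_ne_one W₁).resolve_left hW₁
    obtain ⟨f, hf⟩ := Cfsg.Agent.Char.CyclicTI.exists_hom_ne_one (x := (⟨a, ha⟩ : W₁))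
      (fun e => ha1 (congrArg Subtype.val e))
    set l₀ := ω.comp (Cfsg.Agent.Char.CyclicTI.inc1 W₁ W₂) with hl₀
    set l' := l₀ * f with hl'
    obtain ⟨n, hn⟩ := Cfsg.Agent.Char.IsCharacter.exists_classInner_nat
      (Cfsg.Agent.Char.IsCharacter.restrict
        (Cfsg.Agent.Char.IsIrrCharacter.isCharacter (hirr ω)) W₁)
      (Cfsg.Agent.Char.IsIrrCharacter.isCharacter (Cfsg.Agent.Char.isIrrCharacter_linear l'))
    refine ⟨(n : ℤ), ?_⟩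
    have h1 : ∀ x : W₁, μ ω (x : L) * (starRingEnd ℂ) (l' x : ℂ) =
        δ ω * ((l₀ x : ℂ) * (starRingEnd ℂ) (l' x : ℂ)) +
          if x = 1 then μ ω 1 - δ ω else 0 := by
      intro x
      by_cases hx : x = 1
      · subst hx; simp
      · rw [if_neg hx, add_zero, show (x : L) = ((Cfsg.Agent.Char.CyclicTI.inc1 W₁ W₂ x :
          ↥(W₁ ⊔ W₂)) : L) from rfl, hV ω _ (fun h => hx (Subtype.ext ?_)), mul_assoc]
        · rfl
        · have : (x : L) ∈ W₁ ⊓ W₂ := ⟨x.2, h⟩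
          rwa [D.split.disj, Subgroup.mem_bot] at this
    have h2 : Cfsg.classInner (fun x : W₁ => (l₀ x : ℂ)) (fun x => (l' x : ℂ)) = 0 := by
      rw [Cfsg.Agent.Char.CyclicTI.classInner_lin, if_neg]
      intro e
      rw [hl'] at e
      apply hf
      have := DFunLike.congr_fun e ⟨a, ha⟩
      rw [MonoidHom.mul_apply] at this
      exact (left_eq_mul.mp this)
    simp only [Cfsg.classInner] at hn h2
    rw [Finset.sum_congr rfl fun x _ => h1 x, Finset.sum_add_distrib, ← Finset.mul_sum,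
      Finset.sum_ite_eq', if_pos (Finset.mem_univ _)] at hn
    have h2' := (mul_eq_zero.mp h2).resolve_left
      (inv_ne_zero (Nat.cast_ne_zero.mpr Nat.card_pos.ne'))
    rw [h2', mul_zero, zero_add, inv_mul_eq_iff_eq_mul₀
      (Nat.cast_ne_zero.mpr Nat.card_pos.ne')] at hn
    rw [hn]
    push_cast
    ring

end Cfsg.Agent.S1511
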