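import Cfsg.Statements.S1512
import Cfsg.Agent.Lib.Char.Fixed
-- import your own Cfsg.Agent.* helpers here

set_option autoImplicit false
open Cfsg

namespace Cfsg.Agent.S1512

/-- Let K be a normal subgroup of the finite group L and x a non-identity element whose order is coprime to the order of K, such that K ⊓ C_L(y) = W₂ for every non-identity element y of the cyclic group generated by x. Then the number of conjugacy classes of K mapped to themselves by conjugation by x is at most Nat.card W₂. -/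
theorem result {L : Type*} [Group L] [Finite L] (K W₂ : Subgroup L) [hK : K.Normal] (x : L) (hx1 : x ≠ 1) (hx : Nat.Coprime (orderOf x) (Nat.card K)) (hC : ∀ y ∈ Subgroup.zpowers x, y ≠ 1 → K ⊓ Subgroup.centralizer ({y} : Set L) = W₂) : Nat.card {C : ConjClasses K // ConjClasses.map (MulEquiv.toMonoidHom ((MulAut.conjNormal x : MulAut K))) C = C} ≤ Nat.card W₂ := by
  classical
  have hxn : x ∈ Subgroup.normalizer (K : Set L) := by
    rw [Subgroup.normalizer_eq_top (H := K)]; trivial
  have hC' := hC x (Subgroup.mem_zpowers x) hx1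
  haveI : Finite (ConjClasses K) := Finite.of_surjective ConjClasses.mk ConjClasses.mk_surjective
  have hmemK : ∀ w ∈ W₂, w ∈ K := fun w hw => (hC' ▸ hw).1
  have hcommW : ∀ w ∈ W₂, x * w = w * x := fun w hw =>
    ((Subgroup.mem_centralizer_singleton_iff.mp (hC' ▸ hw).2)).symm
  refine Nat.card_le_card_of_surjective (fun w : W₂ =>
    (⟨ConjClasses.mk ⟨(w : L), hmemK w w.2⟩, ?_⟩ :
      {C : ConjClasses K // ConjClasses.map (MulEquiv.toMonoidHom ((MulAut.conjNormal x : MulAut K))) C = C})) ?_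
  · refine congrArg ConjClasses.mk (Subtype.ext ?_)
    show x * (w : L) * x⁻¹ = w
    rw [hcommW w w.2, mul_inv_cancel_right]
  · rintro ⟨C, hCf⟩
    obtain ⟨c, rfl⟩ := ConjClasses.mk_surjective C
    obtain ⟨a, ha⟩ := isConj_iff.mp (ConjClasses.mk_eq_mk_iff_isConj.mp hCf.symm)
    have ha' : (a : L) * c * (a : L)⁻¹ = x * c * x⁻¹ := congrArg Subtype.val ha
    obtain ⟨k, hk, hcm⟩ := Cfsg.Agent.Char.exists_fixed_of_class K hxn hx c.2 a.2 ha'
    have hw : k * (c : L) * k⁻¹ ∈ W₂ := hC' ▸ ⟨K.mul_mem (K.mul_mem hk c.2) (K.inv_mem hk),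
      Subgroup.mem_centralizer_singleton_iff.mpr hcm.symm⟩
    refine ⟨⟨_, hw⟩, Subtype.ext (ConjClasses.mk_eq_mk_iff_isConj.mpr
      (IsConj.symm (isConj_iff.mpr ⟨⟨k, hk⟩, rfl⟩)))⟩


end Cfsg.Agent.S1512
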