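import Cfsg.Statements.S1513
import Cfsg.Agent.Lib.Char.CyclicTI.SemiChar

set_option autoImplicit false
open Cfsg

namespace Cfsg.Agent.S1513

/-- Let L be a finite group with K normal with complement W₁ ≠ 1 a cyclic Hall subgroup, and W₂ ≠ 1 a cyclic subgroup of K equal to C_K(x) for every non-identity x ∈ W₁, with W₁W₂ of odd order. For an irreducible character θ of K: if θ is not fixed under conjugation by some element of W₁, then the function induced from θ to L is an irreducible character of L; and the irreducible characters of K fixed by all of W₁ are exactly Nat.card W₂ in number, each inducing to the sum of Nat.card W₁ pairwise distinct irreducible characters of L. -/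
theorem result {L : Type*} [Group L] [Fintype L] (K W₁ W₂ : Subgroup L) [hK : K.Normal] (hKW₁ : K ⊓ W₁ = ⊥) (hKW₁' : K ⊔ W₁ = ⊤) (hW₁ : W₁ ≠ ⊥) (hW₁c : IsCyclic W₁) (hHall : Nat.Coprime (Nat.card W₁) W₁.index) (hW₂ : W₂ ≠ ⊥) (hW₂c : IsCyclic W₂) (hW₂K : W₂ ≤ K) (hC : ∀ x ∈ W₁, x ≠ 1 → K ⊓ Subgroup.centralizer ({x} : Set L) = W₂) (hodd : Odd (Nat.card ↥(W₁ ⊔ W₂))) : (∀ θ : K → ℂ, Cfsg.IsIrrCharacter K θ → (∃ x ∈ W₁, (fun k : K => θ ⟨x * k * x⁻¹, hK.conj_mem (k : L) k.2 x⟩) ≠ θ) → Cfsg.IsIrrCharacter L (Cfsg.indFun K θ)) ∧ Nat.card {θ : Cfsg.IrrCharacter K // ∀ x ∈ W₁, (fun k : K => (θ : K → ℂ) ⟨x * k * x⁻¹, hK.conj_mem (k : L) k.2 x⟩) = θ} = Nat.card W₂ ∧ (∀ θ : K → ℂ, Cfsg.IsIrrCharacter K θ → (∀ x ∈ W₁, (fun k : K => θ ⟨x * k * x⁻¹, hK.conj_mem (k : L) k.2 x⟩) = θ) → ∃ C : Finset (L → ℂ), C.card = Nat.card W₁ ∧ (∀ μ ∈ C, Cfsg.IsIrrCharacter L μ) ∧ Cfsg.indFun K θ = ∑ μ ∈ C, μ) := by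
  classical
  have D : Cfsg.Agent.Char.CyclicTI.Semi K W₁ W₂ :=
    ⟨hK, hKW₁, hKW₁', hW₁, hW₁c, hHall, hW₂, hW₂c, hW₂K, hC⟩
  haveI : Fintype ↥(W₁ ⊔ W₂) := Fintype.ofFinite _
  haveI := D.comm1
  refine ⟨fun θ hθ ⟨x, _, hne⟩ => D.isIrr_ind hθ fun hall => hne (hall x), D.card_invariant, ?_⟩
  intro θ hθ hW
  have hinv := D.invariant_of_W1 (Cfsg.Agent.Char.IsCharacter.isClassFunction
    (Cfsg.Agent.Char.IsIrrCharacter.isCharacter hθ)) hW
  obtain ⟨η, hη, hres⟩ := D.exists_extension hθ hinv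
  obtain ⟨μ, δ, hinj, hirr, -, -, -, hmul, hsurj, -⟩ := D.exists_mu hodd
  obtain ⟨ω, hω⟩ := hsurj η hη ((funext hres : (fun k : K => η k) = θ) ▸ hθ)
  haveI := Cfsg.Agent.Char.CyclicTI.finite_dual W₁
  haveI : Fintype (W₁ →* ℂˣ) := Fintype.ofFinite _
  have hF : Function.Injective (fun f : W₁ →* ℂˣ =>
      μ (Cfsg.Agent.Char.CyclicTI.pull1 D.split f * ω)) := by
    intro f f' h
    have h' := mul_right_cancel (hinj h)
    have h'' : Cfsg.Agent.Char.CyclicTI.pull1 D.split f * Cfsg.Agent.Char.CyclicTI.pull2 D.split 1 =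
        Cfsg.Agent.Char.CyclicTI.pull1 D.split f' * Cfsg.Agent.Char.CyclicTI.pull2 D.split 1 := by
      rw [h']
    exact (Cfsg.Agent.Char.CyclicTI.pull_injective D.split h'').1
  refine ⟨Finset.univ.image fun f : W₁ →* ℂˣ =>
    μ (Cfsg.Agent.Char.CyclicTI.pull1 D.split f * ω), ?_, ?_, ?_⟩
  · rw [Finset.card_image_of_injective _ hF, Finset.card_univ, ← Nat.card_eq_fintype_card,
      Cfsg.Agent.Char.CyclicTI.card_hom]
  · intro m hm
    obtain ⟨f, -, rfl⟩ := Finset.mem_image.mp hm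
    exact hirr _
  · rw [Finset.sum_image fun a _ b _ h => hF h]
    funext g
    rw [Finset.sum_apply, Finset.sum_congr rfl fun f _ => congrFun (hmul ω f).2 g, ← Finset.sum_mul,
      Cfsg.Agent.Char.CyclicTI.sum_hom, hω]
    by_cases hg : g ∈ K
    · rw [if_pos ((D.pr_eq_one_iff g).mpr hg), show g = ((⟨g, hg⟩ : K) : L) from rfl,
        Cfsg.Agent.Char.indFun_normal_apply, hres,
        Finset.sum_congr rfl fun x _ => congrFun (hinv x) _, Finset.sum_const, Finset.card_univ,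
        nsmul_eq_mul, ← Nat.card_eq_fintype_card, ← Subgroup.card_mul_index K, D.index_eq,
        Nat.cast_mul, ← mul_assoc, ← mul_assoc,
        inv_mul_cancel₀ (Nat.cast_ne_zero.mpr Nat.card_pos.ne'), one_mul]
    · rw [if_neg fun h => hg ((D.pr_eq_one_iff g).mp h), zero_mul,
        Cfsg.Agent.Char.indFun_eq_zero_of_not_mem K θ hg]

end Cfsg.Agent.S1513
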