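import Cfsg.Statements.S1515
import Cfsg.Agent.Lib.Char.CoherenceThm
-- import your own Cfsg.Agent.* helpers here

set_option autoImplicit false
open Cfsg

namespace Cfsg.Agent.S1515

/-- Let (S, τ, R) be a coherence system from L to G, χ ∈ S, and ψ an integer combination of S with ⟨χ, ψ⟩ = ⟨conj χ, ψ⟩ = 0. Let τ₁ be a linear isometry on the integer combinations of χ − ψ and χ − conj χ, with virtual-character values, agreeing with τ on integer multiples of χ − conj χ. Then the sum over α ∈ R χ of the squared absolute values of ⟨τ₁(χ − ψ), α⟩ is at least ⟨χ, χ⟩; and if ⟨τ₁(χ − ψ), τ₁(χ − ψ)⟩ minus that sum is at least ⟨ψ, ψ⟩, then the sum equals ⟨χ, χ⟩ and every ⟨τ₁(χ − ψ), α⟩ with α ∈ R χ is 0 or 1. -/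
theorem result {L : Type*} [Group L] [Fintype L] {G : Type*} [Group G] [Fintype G] (S : Set (L → ℂ)) (τ : (L → ℂ) → (G → ℂ)) (R : (L → ℂ) → Finset (G → ℂ)) (hS : Cfsg.IsCoherenceSystem S τ R) (χ : L → ℂ) (hχ : χ ∈ S) (ψ : L → ℂ) (hψ : ψ ∈ Cfsg.zspan S) (h1 : Cfsg.classInner χ ψ = 0) (h2 : Cfsg.classInner (Cfsg.conjFun χ) ψ = 0) (τ₁ : (L → ℂ) → (G → ℂ)) (hτ₁ : Cfsg.IsLinearIsometryOn (Cfsg.zspan {χ - ψ, χ - Cfsg.conjFun χ}) τ₁) (hagree : ∀ n : ℤ, τ₁ (n • (χ - Cfsg.conjFun χ)) = τ (n • (χ - Cfsg.conjFun χ))) : (Cfsg.classInner χ χ).re ≤ ∑ α ∈ R χ, ‖Cfsg.classInner (τ₁ (χ - ψ)) α‖ ^ 2 ∧ ((Cfsg.classInner ψ ψ).re ≤ (Cfsg.classInner (τ₁ (χ - ψ)) (τ₁ (χ - ψ))).re - ∑ α ∈ R χ, ‖Cfsg.classInner (τ₁ (χ - ψ)) α‖ ^ 2 → (∑ α ∈ R χ, ‖Cfsg.classInner (τ₁ (χ - ψ)) α‖ ^ 2 = (Cfsg.classInner χ χ).re ∧ ∀ α ∈ R χ, Cfsg.classInner (τ₁ (χ - ψ)) α = 0 ∨ Cfsg.classInner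 (τ₁ (χ - ψ)) α = 1)) := by
  classical
  obtain ⟨n, -, hn⟩ := Cfsg.Agent.Char.Coherence.sys_norm hS hχ
  set c := Cfsg.conjFun χ with hc
  have hM1 : χ - ψ ∈ Submodule.span ℤ ({χ - ψ, χ - c} : Set (L → ℂ)) := Submodule.subset_span (by simp)
  have hM2 : χ - c ∈ Submodule.span ℤ ({χ - ψ, χ - c} : Set (L → ℂ)) := Submodule.subset_span (by simp)
  have hag : τ₁ (χ - c) = τ (χ - c) := by simpa using hagree 1
  have hψg : Cfsg.IsGeneralizedCharacter L ψ :=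
    Cfsg.Agent.Char.Coherence.zspan_gen (fun φ hφ => Cfsg.Agent.Char.Coherence.sys_gen hS hφ) hψ
  have h1' : Cfsg.classInner ψ χ = 0 := by rw [← Cfsg.Agent.Char.classInner_conj_symm, h1, map_zero]
  have h2' : Cfsg.classInner ψ c = 0 := by rw [← Cfsg.Agent.Char.classInner_conj_symm, h2, map_zero]
  obtain ⟨a, ha, hle, h01⟩ := Cfsg.Agent.Char.Coherence.exists_coeff_R hS hχ (Cfsg.Agent.Char.Coherence.iso_gen hτ₁ hM1) (n := n)
    (by rw [← hag, Cfsg.Agent.Char.Coherence.iso_inner hτ₁ hM1 hM2, Cfsg.Agent.Char.classInner_sub_left,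
      Cfsg.Agent.Char.Coherence.inner_diff hS hχ, Cfsg.Agent.Char.classInner_sub_right ψ, h1', h2', hn]; simp)
  have hsum : ∑ α ∈ R χ, ‖Cfsg.classInner (τ₁ (χ - ψ)) α‖ ^ 2 = ((∑ α ∈ R χ, a α ^ 2 : ℤ) : ℝ) := by
    rw [Int.cast_sum]
    refine Finset.sum_congr rfl fun α hα => ?_
    rw [ha α hα, Complex.norm_intCast, Int.cast_pow, sq_abs]
  have hN : (Cfsg.classInner (τ₁ (χ - ψ)) (τ₁ (χ - ψ))).re = (n : ℝ) + (Cfsg.classInner ψ ψ).re := by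
    rw [Cfsg.Agent.Char.Coherence.iso_inner hτ₁ hM1 hM1, Cfsg.Agent.Char.classInner_sub_left,
      Cfsg.Agent.Char.classInner_sub_right, Cfsg.Agent.Char.classInner_sub_right, h1, h1', hn]
    simp
  rw [hsum, hN, hn, Complex.natCast_re]
  refine ⟨by exact_mod_cast hle, fun h => ?_⟩
  have h' : ((∑ α ∈ R χ, a α ^ 2 : ℤ) : ℝ) ≤ (n : ℝ) := by linarith
  have hle' : (∑ α ∈ R χ, a α ^ 2 : ℤ) ≤ (n : ℤ) := by exact_mod_cast h'
  refine ⟨le_antisymm h' (by exact_mod_cast hle), fun α hα => ?_⟩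
  rw [ha α hα]
  exact_mod_cast h01 hle' α hα


end Cfsg.Agent.S1515
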