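import Cfsg.Statements.S1524
import Cfsg.Agent.Lib.Char.TICases
-- import your own Cfsg.Agent.* helpers here

set_option autoImplicit false
open Cfsg

namespace Cfsg.Agent.S1524

/-- Let G be a finite group and H ≤ L subgroups with L of odd order, H ≠ ⊥ nilpotent and normal in L with a nontrivial complement W₁ in L (H ⊓ W₁ = ⊥, H ⊔ W₁ = L) acting on H without non-identity fixed points (L is a Frobenius group with kernel H), and suppose the underlying set of H is a TI-subset of G whose normaliser is L. Let S be the set of functions on L induced from the non-principal irreducible characters of H. Then (S, L minus 1, induction to G) is coherent. -/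
theorem result {G : Type*} [Group G] [Fintype G] (H L W₁ : Subgroup G) [Fintype L] (hodd : Odd (Nat.card L)) (hHL : H ≤ L) (hW₁L : W₁ ≤ L) (hH1 : H ≠ ⊥) (hW1 : W₁ ≠ ⊥) (hnil : Group.IsNilpotent H) (hHn : ∀ x ∈ L, ∀ h ∈ H, x * h * x⁻¹ ∈ H) (hinf : H ⊓ W₁ = ⊥) (hsup : H ⊔ W₁ = L) (hfpf : ∀ w ∈ W₁, w ≠ 1 → ∀ h ∈ H, w * h = h * w → h = 1) (hTI : Cfsg.IsTISubset (H : Set G)) (hN : Subgroup.normalizer (H : Set G) = L) : Cfsg.IsCoherent (Cfsg.inducedIrrAbove (H.subgroupOf L) ⊥) {1}ᶜ (fun α : L → ℂ => Cfsg.indFun L α) := by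
  classical
  subst hN
  have hfr : ∀ k ∈ H.subgroupOf (Subgroup.normalizer (H : Set G)), k ≠ 1 →
      Subgroup.centralizer ({k} : Set ↥(Subgroup.normalizer (H : Set G))) ≤
        H.subgroupOf (Subgroup.normalizer (H : Set G)) := by
    intro k hk hk1 c hc
    rw [Subgroup.mem_subgroupOf] at hk ⊢
    rw [Subgroup.mem_centralizer_singleton_iff] at hc
    have hc' : (c : G) * k = k * c := congrArg Subtype.val hc
    have hk1' : (k : G) ≠ 1 := fun h => hk1 (Subtype.ext h)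
    have hW : W₁ ≤ Subgroup.normalizer (H : Set G) := hW₁L
    have hcmem : (c : G) ∈ H ⊔ W₁ := hsup.symm ▸ c.2
    rw [← SetLike.mem_coe, Subgroup.coe_mul_of_right_le_normalizer_left H W₁ hW] at hcmem
    obtain ⟨u, hu, w, hw, huw⟩ := Set.mem_mul.mp hcmem
    by_cases hw1 : w = 1
    · rw [← huw, hw1, mul_one]; exact hu
    exfalso
    let f : H → H := fun x => ⟨(x : G) * w * (x : G)⁻¹ * w⁻¹, by
      rw [show (x : G) * w * (x : G)⁻¹ * w⁻¹ = (x : G) * (w * (x : G)⁻¹ * w⁻¹) by group]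
      exact H.mul_mem x.2 (hHn w (hW₁L hw) _ (H.inv_mem x.2))⟩
    have hf : Function.Injective f := by
      intro x y e
      have e' : (x : G) * w * (x : G)⁻¹ = (y : G) * w * (y : G)⁻¹ :=
        mul_right_cancel (congrArg Subtype.val e)
      refine Subtype.ext (inv_mul_eq_one.mp (hfpf w hw hw1 ((y : G)⁻¹ * x)
        (H.mul_mem (H.inv_mem y.2) x.2) ?_)).symm
      calc w * ((y : G)⁻¹ * x) = (y : G)⁻¹ * ((y : G) * w * (y : G)⁻¹) * x := by group
        _ = (y : G)⁻¹ * ((x : G) * w * (x : G)⁻¹) * x := by rw [e']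
        _ = (y : G)⁻¹ * x * w := by group
    obtain ⟨x, hx⟩ := (Finite.injective_iff_surjective.mp hf) ⟨u, hu⟩
    have hx' : (x : G) * w * (x : G)⁻¹ * w⁻¹ = u := congrArg Subtype.val hx
    have hcx : (c : G) = (x : G) * w * (x : G)⁻¹ := by rw [← huw, ← hx']; group
    refine hk1' (conj_eq_one_iff.mp (hfpf w hw hw1 ((x : G)⁻¹ * k * ((x : G)⁻¹)⁻¹) ?_ ?_))
    · exact H.mul_mem (H.mul_mem (H.inv_mem x.2) hk) (H.inv_mem (H.inv_mem x.2))
    · rw [hcx] at hc'
      calc w * ((x : G)⁻¹ * k * ((x : G)⁻¹)⁻¹)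
          = (x : G)⁻¹ * ((x : G) * w * (x : G)⁻¹ * k) * x := by group
        _ = (x : G)⁻¹ * (k * ((x : G) * w * (x : G)⁻¹)) * x := by rw [hc']
        _ = (x : G)⁻¹ * k * ((x : G)⁻¹)⁻¹ * w := by group
  refine Cfsg.Agent.Char.CohTI.coherent_TI H hTI hodd hH1 (fun h => hW1 ?_) hfr
  rw [← hinf]
  exact (inf_eq_right.mpr (hW₁L.trans h)).symm

end Cfsg.Agent.S1524
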