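import Cfsg.Statements.S1528
import Cfsg.Agent.Lib.Char.Orbit
-- import your own Cfsg.Agent.* helpers here

set_option autoImplicit false
open Cfsg

namespace Cfsg.Agent.S1528

/-- Let N be a normal subgroup of the finite group G such that every element of G commuting with a non-identity element of N lies in N. If χ is an irreducible character of G with χ n ≠ χ 1 for some n ∈ N, then χ is the function induced from some irreducible character of N. -/
theorem result {G : Type*} [Group G] [Fintype G] (N : Subgroup G) [N.Normal] (hC : ∀ n ∈ N, n ≠ 1 → Subgroup.centralizer ({n} : Set G) ≤ N) (χ : G → ℂ) (hχ : Cfsg.IsIrrCharacter G χ) (hker : ∃ n ∈ N, χ n ≠ χ 1) : ∃ φ : N → ℂ, Cfsg.IsIrrCharacter N φ ∧ χ = Cfsg.indFun N φ := by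
  classical
  haveI : Fintype N := Fintype.ofFinite N
  have hχc := Cfsg.Agent.Char.IsIrrCharacter.isCharacter hχ
  obtain ⟨θ, hθ⟩ := Cfsg.Agent.Char.exists_restrict_constituent hχ N
  have hθ1 : (θ : N → ℂ) ≠ fun _ => 1 := by
    intro e
    obtain ⟨n, hn, hne⟩ := hker
    rw [e] at hθ
    exact hne (Cfsg.Agent.Char.restrict_over_one N hχ hθ ⟨n, hn⟩)
  refine ⟨θ, θ.2, ?_⟩
  have hirr : Cfsg.IsIrrCharacter G (Cfsg.indFun N (θ : N → ℂ)) := by
    refine Cfsg.Agent.Char.IsCharacter.isIrr_of_norm_one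
      (Cfsg.Agent.Char.isCharacter_indFun N (Cfsg.Agent.Char.IsIrrCharacter.isCharacter θ.2)) ?_
    rw [Cfsg.Agent.Char.classInner_indFun_normal N θ.2 θ.2]
    have hiff : ∀ g : G, Cfsg.Agent.Char.conjChar N g (θ : N → ℂ) = θ ↔ g ∈ N := by
      refine fun g => ⟨fun hg => ?_, fun hg =>
        Cfsg.Agent.Char.conjChar_of_mem N (Cfsg.Agent.Char.IsCharacter.isClassFunction
          (Cfsg.Agent.Char.IsIrrCharacter.isCharacter θ.2)) hg⟩
      by_contra hgN
      refine hθ1 (Cfsg.Agent.Char.eq_one_of_fixed (Cfsg.Agent.Char.conjHom N g) (map_one _)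
        (fun χ hχ => Cfsg.Agent.Char.isIrrCharacter_conjChar N hχ g) (fun k hk => ?_) θ.2 hg)
      by_contra hk1
      obtain ⟨x, hx⟩ := isConj_iff.mp hk
      have hx' : (x : G) * (g * k * g⁻¹) * (x : G)⁻¹ = k := by simpa using congrArg Subtype.val hx
      have hmem : (x : G) * g ∈ N := hC k k.2 (fun e => hk1 (Subtype.ext e)) (by
        rw [Subgroup.mem_centralizer_singleton_iff]
        calc (x : G) * g * k = (x : G) * (g * k * g⁻¹) * (x : G)⁻¹ * ((x : G) * g) := by group
          _ = k * ((x : G) * g) := by rw [hx'])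
      exact hgN (by simpa using N.mul_mem (N.inv_mem x.2) hmem)
    rw [Nat.card_congr (Equiv.subtypeEquivRight hiff)]
    exact inv_mul_cancel₀ (Nat.cast_ne_zero.mpr Nat.card_pos.ne')
  by_contra hne
  apply hθ
  rw [← Cfsg.Agent.Char.classInner_indFun_right N _
    (Cfsg.Agent.Char.IsCharacter.isClassFunction hχc)]
  exact Cfsg.Agent.Char.classInner_irr_of_ne hχ hirr hne


end Cfsg.Agent.S1528
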