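import Cfsg.Statements.S1532
import Cfsg.Agent.Lib.Char.TICases
-- import your own Cfsg.Agent.* helpers here

set_option autoImplicit false
open Cfsg

namespace Cfsg.Agent.S1532

/-- Let G be a finite group, p an odd prime and P a Sylow p-subgroup that is non-abelian, whose underlying set is a TI-subset of G, with P properly contained in its set normaliser N and C_G(x) ≤ P for every non-identity x ∈ P. Let Z be a nontrivial subgroup of the centre of P normalised by N. Then the set of irreducible characters χ of N with χ z ≠ χ 1 for some z ∈ Z is coherent for the map induced by induction from N to G. -/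
theorem result {G : Type*} [Group G] [Fintype G] (p : ℕ) [Fact p.Prime] (hp : p ≠ 2) (P : Sylow p G) (hna : ¬ IsMulCommutative (P : Subgroup G)) (hTI : Cfsg.IsTISubset ((P : Subgroup G) : Set G)) (hlt : (P : Subgroup G) < Subgroup.normalizer ((P : Subgroup G) : Set G)) (hC : ∀ k ∈ (P : Subgroup G), k ≠ 1 → Subgroup.centralizer ({k} : Set G) ≤ (P : Subgroup G)) [Fintype ↥(Subgroup.normalizer ((P : Subgroup G) : Set G))] (Z : Subgroup G) (hZ1 : Z ≠ ⊥) (hZP : ∀ z ∈ Z, z ∈ (P : Subgroup G) ∧ ∀ y ∈ (P : Subgroup G), z * y = y * z) (hZn : ∀ x ∈ Subgroup.normalizer ((P : Subgroup G) : Set G), ∀ z ∈ Z, x * z * x⁻¹ ∈ Z) : Cfsg.IsCoherent {χ : ↥(Subgroup.normalizer ((P : Subgroup G) : Set G)) → ℂ | Cfsg.IsIrrCharacter ↥(Subgroup.normalizer ((P : Subgroup G) : Set G)) χ ∧ ∃ z : ↥(Subgroup.normalizer ((P : Subgroup G) : Set G)), (z : G) ∈ Z ∧ χ z ≠ χ 1} {1}ᶜ (fun α => Cfsg.indFun (Subgroup.normalizer ((P : Subgroup G) : Set G)) α) := by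
  classical
  have hne : (P : Subgroup G) ≠ ⊥ := fun h => hna (by
    rw [h]; exact ⟨⟨fun a b => Subsingleton.elim _ _⟩⟩)
  have hF := Cfsg.Agent.Char.TIK.frob hC
  have hHL : (P : Subgroup G) ≤ Subgroup.normalizer ((P : Subgroup G) : Set G) := Subgroup.le_normalizer
  have hab : ¬ ∀ a ∈ (P : Subgroup G).subgroupOf (Subgroup.normalizer ((P : Subgroup G) : Set G)), ∀ b ∈ (P : Subgroup G).subgroupOf (Subgroup.normalizer ((P : Subgroup G) : Set G)), a * b = b * a :=
    fun h => hna ⟨⟨fun a b => Subtype.ext (Cfsg.Agent.Char.TICases.comm_iff (P : Subgroup G) h a a.2 b b.2)⟩⟩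
  have hidx : Odd ((P : Subgroup G).subgroupOf (Subgroup.normalizer ((P : Subgroup G) : Set G))).index :=
    Nat.not_even_iff_odd.mp fun h => hab (Cfsg.Agent.Char.Feit.comm_of_even _ hF (even_iff_two_dvd.mp h))
  have hodd : Odd (Nat.card (Subgroup.normalizer ((P : Subgroup G) : Set G))) := by
    obtain ⟨m, hm⟩ := IsPGroup.iff_card.mp P.isPGroup'
    rw [← Subgroup.card_mul_index ((P : Subgroup G).subgroupOf (Subgroup.normalizer ((P : Subgroup G) : Set G))),
      Cfsg.Agent.Char.TICases.sub_card (P : Subgroup G), hm]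
    exact ((Fact.out : p.Prime).odd_of_ne_two hp).pow.mul hidx
  have hcoh := Cfsg.Agent.Char.CohTI.coherent_TI (P : Subgroup G) hTI hodd hne hlt.not_ge hF
  have hrel := Cfsg.Agent.Char.TICases.rel_eq (P : Subgroup G) hC
  rw [← hrel] at hcoh
  haveI : (Z.subgroupOf (Subgroup.normalizer ((P : Subgroup G) : Set G))).Normal := ⟨fun z hz g => by
    rw [Subgroup.mem_subgroupOf] at hz ⊢
    exact hZn g g.2 _ hz⟩
  have hZK : Z.subgroupOf (Subgroup.normalizer ((P : Subgroup G) : Set G)) ≤ (P : Subgroup G).subgroupOf (Subgroup.normalizer ((P : Subgroup G) : Set G)) := fun z hz => (hZP _ hz).1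
  have hZ1' : Z.subgroupOf (Subgroup.normalizer ((P : Subgroup G) : Set G)) ≠ ⊥ := fun h => hZ1 (by
    rw [← Subgroup.map_subgroupOf_eq_of_le (fun z hz => hHL (hZP z hz).1 : Z ≤ (Subgroup.normalizer ((P : Subgroup G) : Set G))), h, Subgroup.map_bot])
  obtain ⟨θ, hθ⟩ := Cfsg.Agent.Char.Central.exists_nontrivial_on ((P : Subgroup G).subgroupOf (Subgroup.normalizer ((P : Subgroup G) : Set G)))
    (Z.subgroupOf (Subgroup.normalizer ((P : Subgroup G) : Set G))) hZ1' hZK
  have hθ1 : (θ : ((P : Subgroup G).subgroupOf (Subgroup.normalizer ((P : Subgroup G) : Set G))) → ℂ) ≠ fun _ => 1 := fun h => hθ fun a _ => by rw [h]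
  set χ := Cfsg.indFun ((P : Subgroup G).subgroupOf (Subgroup.normalizer ((P : Subgroup G) : Set G))) (θ : ((P : Subgroup G).subgroupOf (Subgroup.normalizer ((P : Subgroup G) : Set G))) → ℂ)
  have hχmem : χ ∈ Cfsg.inducedIrrAbove ((P : Subgroup G).subgroupOf (Subgroup.normalizer ((P : Subgroup G) : Set G))) ⊥ \
      Cfsg.inducedIrrAbove ((P : Subgroup G).subgroupOf (Subgroup.normalizer ((P : Subgroup G) : Set G))) (Z.subgroupOf (Subgroup.normalizer ((P : Subgroup G) : Set G))) := by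
    refine ⟨⟨θ, θ.2, hθ1, fun a ha => ?_, rfl⟩,
      fun h => hθ ((Cfsg.Agent.Char.IndSet.mem_above_iff _ _ θ.2 hθ1).mp h)⟩
    rw [Subgroup.mem_bot] at ha
    rw [show a = 1 from Subtype.ext ha]
  rw [Cfsg.Agent.Char.Central.irr_over_central _ _ hZK
    (fun φ h => Cfsg.Agent.Char.Feit.above_irr _ hF h.1)] at hχmem
  obtain ⟨hχirr, z, hz, hzne⟩ := hχmem
  refine Cfsg.Agent.Char.TICases.coherent_sub hcoh (fun φ ⟨h1, x, hx, hx'⟩ => ⟨h1, x, (hZP _ hx).1, hx'⟩)
    (fun φ h => h.1) (χ := χ) ⟨hχirr, z, hz, hzne⟩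
    ⟨Cfsg.Agent.Char.IsIrrCharacter.conj hχirr, z, hz, fun h => hzne ?_⟩ (fun h => hzne ?_)
  · exact (starRingEnd ℂ).injective h
  · rw [Cfsg.Agent.Char.eq_one_of_real hodd hχirr fun g => congrFun h g]

end Cfsg.Agent.S1532
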