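import Cfsg.Statements.S1533
import Cfsg.Agent.Lib.Char.TICases
-- import your own Cfsg.Agent.* helpers here

set_option autoImplicit false
open Cfsg

namespace Cfsg.Agent.S1533

/-- Let G be a finite group, p an odd prime, and P a nontrivial Sylow p-subgroup whose underlying set is a TI-subset of G, with P properly contained in its set normaliser N and C_G(x) ≤ P for every non-identity x ∈ P. Let S be the set of irreducible characters χ of N with χ x ≠ χ 1 for some x ∈ P. Then either S has exactly one member, P is elementary abelian and Nat.card P = [N:P] + 1; or (S, N minus 1, induction to G) is coherent. -/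
theorem result {G : Type*} [Group G] [Fintype G] (p : ℕ) [Fact p.Prime] (hp : p ≠ 2) (P : Sylow p G) (hP1 : (P : Subgroup G) ≠ ⊥) (hTI : Cfsg.IsTISubset ((P : Subgroup G) : Set G)) (hlt : (P : Subgroup G) < Subgroup.normalizer ((P : Subgroup G) : Set G)) (hC : ∀ k ∈ (P : Subgroup G), k ≠ 1 → Subgroup.centralizer ({k} : Set G) ≤ (P : Subgroup G)) [Fintype ↥(Subgroup.normalizer ((P : Subgroup G) : Set G))] : (Nat.card {χ : ↥(Subgroup.normalizer ((P : Subgroup G) : Set G)) → ℂ // Cfsg.IsIrrCharacter ↥(Subgroup.normalizer ((P : Subgroup G) : Set G)) χ ∧ ∃ x : ↥(Subgroup.normalizer ((P : Subgroup G) : Set G)), (x : G) ∈ (P : Subgroup G) ∧ χ x ≠ χ 1} = 1 ∧ Cfsg.IsElementaryAbelian p (P : Subgroup G) ∧ Nat.card (P : Subgroup G) = ((P : Subgroup G).subgroupOf (Subgroup.normalizer ((P : Subgroup G) : Set G))).index + 1) ∨ Cfsg.IsCoherent {χ : ↥(Subgroup.normalizer ((P : Subgroup G) : Set G)) → ℂ | Cfsg.IsIrrCharacter ↥(Subgroup.normalizer ((P : Subgroup G)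 : Set G)) χ ∧ ∃ x : ↥(Subgroup.normalizer ((P : Subgroup G) : Set G)), (x : G) ∈ (P : Subgroup G) ∧ χ x ≠ χ 1} {1}ᶜ (fun α => Cfsg.indFun (Subgroup.normalizer ((P : Subgroup G) : Set G)) α) := by
  classical
  rcases Cfsg.Agent.Char.TICases.coherent_cases (P : Subgroup G) hTI hC hP1 hlt with he | ⟨m, hm, -⟩ | h
  · left
    obtain ⟨h1, q, hq, hel⟩ := Cfsg.Agent.Char.TICases.exception (P : Subgroup G) hC hP1 he
    refine ⟨h1, ⟨hel.1, fun a ha => ?_⟩, he⟩
    by_cases ha1 : a = 1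
    · simp [ha1]
    haveI := Fact.mk hq
    have hoq : orderOf a = q := orderOf_eq_prime_iff.mpr ⟨hel.2 a ha, ha1⟩
    obtain ⟨k, hk⟩ := P.isPGroup' ⟨a, ha⟩
    have hd : q ∣ p ^ k := hoq ▸ orderOf_dvd_of_pow_eq_one (congrArg Subtype.val hk)
    have hqp : q = p := (Nat.prime_dvd_prime_iff_eq hq Fact.out).mp (hq.dvd_of_dvd_pow hd)
    exact hqp ▸ hel.2 a ha
  · exfalso
    obtain ⟨n, hn⟩ := IsPGroup.iff_card.mp P.isPGroup'
    rw [hn] at hm
    have hn0 : n ≠ 0 := fun h => hP1 (Subgroup.card_eq_one.mp (by rw [hn, h, pow_zero]))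
    have h2 : p ∣ 2 ^ m := hm ▸ dvd_pow_self p hn0
    exact hp ((Nat.prime_dvd_prime_iff_eq Fact.out Nat.prime_two).mp ((Fact.out : p.Prime).dvd_of_dvd_pow h2))
  · right
    rwa [Cfsg.Agent.Char.TICases.rel_eq (P : Subgroup G) hC]

end Cfsg.Agent.S1533
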