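import Cfsg.Statements.S1534
import Cfsg.Agent.Lib.Char.TICases
import Mathlib.GroupTheory.Sylow
-- import your own Cfsg.Agent.* helpers here

set_option autoImplicit false
open Cfsg

namespace Cfsg.Agent.S1534

/-- Let G be a finite group and K a nontrivial nilpotent subgroup whose underlying set is a TI-subset of G, properly contained in its set normaliser N, with C_G(k) ≤ K for every non-identity k ∈ K; let e be the index of K in N and S the set of irreducible characters χ of N with χ k ≠ χ 1 for some k ∈ K. Then one of: S has exactly one member, Nat.card K = e + 1 and K is an elementary abelian p-group for some prime p; or K is a Sylow 2-subgroup of G (Nat.card K is the largest power of 2 dividing Nat.card G) and [K : [K,K]] < 4e²; or (S, N minus 1, induction to G) is coherent. -/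
theorem result {G : Type*} [Group G] [Fintype G] (K : Subgroup G) (hK1 : K ≠ ⊥) (hnil : Group.IsNilpotent K) (hTI : Cfsg.IsTISubset (K : Set G)) (hlt : K < Subgroup.normalizer (K : Set G)) (hC : ∀ k ∈ K, k ≠ 1 → Subgroup.centralizer ({k} : Set G) ≤ K) [Fintype ↥(Subgroup.normalizer (K : Set G))] : (Nat.card {χ : ↥(Subgroup.normalizer (K : Set G)) → ℂ // Cfsg.IsIrrCharacter ↥(Subgroup.normalizer (K : Set G)) χ ∧ ∃ k : ↥(Subgroup.normalizer (K : Set G)), (k : G) ∈ K ∧ χ k ≠ χ 1} = 1 ∧ Nat.card K = (K.subgroupOf (Subgroup.normalizer (K : Set G))).index + 1 ∧ ∃ p : ℕ, p.Prime ∧ Cfsg.IsElementaryAbelian p K) ∨ (Nat.card K = 2 ^ (Nat.card G).factorization 2 ∧ (⁅K, K⁆.subgroupOf K).index < 4 * (K.subgroupOf (Subgroup.normalizer (K : Set G))).index ^ 2) ∨ Cfsg.IsCoherent {χ : ↥(Subgroup.normalizer (K : Set G)) → ℂ | Cfsg.IsIrrCharacter ↥(Subgroup.normalizer (K : Set G)) χ ∧ ∃ k : ↥(Subgroup.normalizer (K : Set G)), (k : G) ∈ K ∧ χ k ≠ χ 1} {1}ᶜ (fun α => Cfsg.indFun (Subgroup.normalizer (K : Set G)) α) :=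 by
  classical
  rcases Cfsg.Agent.Char.TICases.coherent_cases K hTI hC hK1 hlt with he | ⟨m, hm, hq, hodd⟩ | h
  · left
    obtain ⟨h1, q, hq, hel⟩ := Cfsg.Agent.Char.TICases.exception K hC hK1 he
    exact ⟨h1, he, q, hq, hel⟩
  · right; left
    haveI := Fact.mk Nat.prime_two
    have hKN := Cfsg.Agent.Char.TICases.sub_card K
    have hsyl : Nat.card K = 2 ^ (Nat.card G).factorization 2 := by
      rw [hm]
      congr 1
      have h1 : 2 ^ m ∣ Nat.card G := hm ▸ Subgroup.card_subgroup_dvd_card K
      have h2 : ¬ 2 ^ (m + 1) ∣ Nat.card G := fun h => by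
        have h3 : 2 ∣ (K.subgroupOf (Subgroup.normalizer (K : Set G))).index :=
          Sylow.prime_dvd_card_quotient_normalizer h hm
        exact (Nat.not_even_iff_odd.mpr hodd) (even_iff_two_dvd.mpr h3)
      have h3 := (Nat.prime_two.pow_dvd_iff_le_factorization Nat.card_pos.ne').mp h1
      have h4 : ¬ m + 1 ≤ (Nat.card G).factorization 2 := fun h =>
        h2 ((Nat.prime_two.pow_dvd_iff_le_factorization Nat.card_pos.ne').mpr h)
      omega
    refine ⟨hsyl, ?_⟩
    set N := Subgroup.normalizer (K : Set G)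
    have hKL : K ≤ N := Subgroup.le_normalizer
    have he : (⁅K, K⁆.subgroupOf K).index =
        (⁅K.subgroupOf N, K.subgroupOf N⁆).relIndex (K.subgroupOf N) := by
      have hmap : ⁅K.subgroupOf N, K.subgroupOf N⁆ = ⁅K, K⁆.subgroupOf N := by
        refine Subgroup.map_injective N.subtype_injective ?_
        rw [Subgroup.map_commutator, Subgroup.map_subgroupOf_eq_of_le hKL,
          Subgroup.map_subgroupOf_eq_of_le ((Subgroup.commutator_le_self K).trans hKL)]
      rw [hmap, Subgroup.relIndex_subgroupOf hKL]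
      rfl
    rw [he]
    set q := (⁅K.subgroupOf N, K.subgroupOf N⁆).relIndex (K.subgroupOf N)
    set e := (K.subgroupOf N).index
    have hdvd : q ∣ 2 ^ m := hm ▸ hKN ▸ Subgroup.relIndex_dvd_card _ _
    obtain ⟨a, -, ha⟩ := (Nat.dvd_prime_pow Nat.prime_two).mp hdvd
    have he1 : e ≠ 1 := fun h => hlt.not_ge (Subgroup.subgroupOf_eq_top.mp (Subgroup.index_eq_one.mp h))
    have hne1 : q ≠ 4 * e ^ 2 + 1 := fun h => by
      rcases a with _ | a
      · rw [ha, pow_zero] at h
        have := hodd.pos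
        nlinarith
      · rw [ha, pow_succ] at h
        omega
    have hne2 : q ≠ 4 * e ^ 2 := fun h => by
      have hd : e ∣ 2 ^ a := ⟨4 * e, by rw [← ha, h]; ring⟩
      obtain ⟨b, -, hb⟩ := (Nat.dvd_prime_pow Nat.prime_two).mp hd
      rcases b with _ | b
      · exact he1 (by rw [hb, pow_zero])
      · rw [hb, pow_succ, Nat.odd_iff] at hodd
        omega
    omega
  · right; right
    rwa [Cfsg.Agent.Char.TICases.rel_eq K hC]

end Cfsg.Agent.S1534
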