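import Cfsg.Statements.S1536
import Cfsg.Agent.Lib.Char.Fixed
-- import your own Cfsg.Agent.* helpers here

set_option autoImplicit false
open Cfsg

namespace Cfsg.Agent.S1536

/-- Let H be a normal subgroup of the finite group M whose order is coprime to its index. For x ∈ M: some non-principal irreducible character of H is unchanged under h ↦ θ(x h x⁻¹) if and only if some non-identity element of H commutes with x. -/
theorem result {M : Type*} [Group M] [Finite M] (H : Subgroup M) [hN : H.Normal] (hHall : Nat.Coprime (Nat.card H) H.index) (x : M) : (∃ θ : H → ℂ, Cfsg.IsIrrCharacter H θ ∧ θ ≠ (fun _ => 1) ∧ (fun h : H => θ ⟨x * h * x⁻¹, hN.conj_mem h h.2 x⟩) = θ) ↔ ∃ h ∈ H, h ≠ 1 ∧ x * h = h * x := by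
  classical
  haveI : Fintype M := Fintype.ofFinite M
  haveI : Fintype H := Fintype.ofFinite H
  constructor
  · rintro ⟨θ, hθ, hθ1, hfix⟩
    by_contra hno
    push_neg at hno
    refine hθ1 (Cfsg.Agent.Char.eq_one_of_fixed (Cfsg.Agent.Char.conjHom H x) (map_one _)
      (fun χ hχ => Cfsg.Agent.Char.isIrrCharacter_conjChar H hχ x) (fun k hk => ?_) hθ hfix)
    -- split `x` into its parts
    have hdvd : Nat.card M ∣ Nat.card H * H.index := (Subgroup.card_mul_index H).symm ▸ dvd_rfl
    have hxpow := Cfsg.Agent.Char.pow_card_mul hdvd x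
    set u := x ^ Cfsg.Agent.Char.hallExp hHall with hu
    set y := x ^ Cfsg.Agent.Char.hallExp hHall.symm with hy
    have hmul : u * y = x := Cfsg.Agent.Char.hallExp_mul hHall hxpow
    have huH : u ∈ H := by
      rw [← QuotientGroup.eq_one_iff (N := H), ← orderOf_eq_one_iff]
      exact Nat.eq_one_of_dvd_coprimes hHall
        ((orderOf_map_dvd (QuotientGroup.mk' H) u).trans
          (orderOf_dvd_of_pow_eq_one (Cfsg.Agent.Char.hallExp_pow_pow hHall hxpow)))
        (orderOf_dvd_natCard _)
    have hcx : u * x = x * u := (Commute.pow_self x _).eq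
    by_cases hu1 : u = 1
    · rw [hu1, one_mul] at hmul
      have hcop : Nat.Coprime (orderOf x) (Nat.card H) := by
        rw [← hmul]
        exact hHall.symm.coprime_dvd_left (orderOf_dvd_of_pow_eq_one
          (Cfsg.Agent.Char.hallExp_pow_pow hHall.symm (by rwa [mul_comm])))
      obtain ⟨a, ha⟩ := isConj_iff.mp (IsConj.symm hk)
      have ha' : (a : M) * k * (a : M)⁻¹ = x * k * x⁻¹ := congrArg Subtype.val ha
      obtain ⟨t, ht, hcm⟩ := Cfsg.Agent.Char.exists_fixed_of_class H
        (by rw [Subgroup.normalizer_eq_top (H := H)]; trivial) hcop k.2 a.2 ha'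
      by_contra hk1
      refine hno _ (H.mul_mem (H.mul_mem ht k.2) (H.inv_mem ht)) (fun e => hk1 ?_) hcm
      exact Subtype.ext (conj_eq_one_iff.mp e)
    · exact absurd hcx.symm (hno u huH hu1)
  · rintro ⟨h, hh, hh1, hcomm⟩
    have hcard := Cfsg.Agent.Char.card_fixed_irr (fun k : H => Cfsg.Agent.Char.conjHom H x k)
      (fun a b h => MonoidHom.map_isConj _ h)
      (fun χ hχ => Cfsg.Agent.Char.isIrrCharacter_conjChar H hχ x)
    haveI : Finite (ConjClasses H) := Finite.of_surjective ConjClasses.mk ConjClasses.mk_surjective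
    by_contra hno
    push_neg at hno
    have hle : Nat.card {χ : Cfsg.IrrCharacter H //
        (fun k => (χ : H → ℂ) (Cfsg.Agent.Char.conjHom H x k)) = (χ : H → ℂ)} ≤ 1 := by
      rw [Finite.card_le_one_iff_subsingleton]
      have key : ∀ χ : {χ : Cfsg.IrrCharacter H //
          (fun k => (χ : H → ℂ) (Cfsg.Agent.Char.conjHom H x k)) = (χ : H → ℂ)},
          ((χ : Cfsg.IrrCharacter H) : H → ℂ) = fun _ => 1 := fun χ => by
        by_contra hne
        exact hno _ χ.1.2 hne χ.2
      exact ⟨fun a b => Subtype.ext (Subtype.ext ((key a).trans (key b).symm))⟩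
    rw [hcard, Finite.card_le_one_iff_subsingleton] at hle
    have hmem : ∀ k : H, x * (k : M) = k * x →
        ∀ g, ConjClasses.mk g = ConjClasses.mk k → IsConj (Cfsg.Agent.Char.conjHom H x g) g := by
      intro k hk g hg
      have hgk := ConjClasses.mk_eq_mk_iff_isConj.mp hg
      refine (MonoidHom.map_isConj (Cfsg.Agent.Char.conjHom H x) hgk).trans (IsConj.trans ?_ hgk.symm)
      rw [show Cfsg.Agent.Char.conjHom H x k = k from Subtype.ext (by
        rw [Cfsg.Agent.Char.conjHom_coe, hk, mul_inv_cancel_right])]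
    have := congrArg Subtype.val (hle.elim ⟨_, hmem ⟨h, hh⟩ hcomm⟩ ⟨_, hmem 1 (by simp)⟩)
    have h1 := ConjClasses.mk_eq_mk_iff_isConj.mp this
    exact hh1 (congrArg Subtype.val (isConj_one_left.mp h1))


end Cfsg.Agent.S1536
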