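import Cfsg.Statements.S1546
import Mathlib
-- import your own Cfsg.Agent.* helpers here

set_option autoImplicit false
open Cfsg

namespace Cfsg.Agent.S1546

/-- Let p and q be odd primes and N = (p ^ q − 1) / (p − 1) = 1 + p + ⋯ + p^(q−1). Then N is odd; if p ≡ 1 (mod q) then q ∣ N; and if p is not ≡ 1 (mod q) then N is coprime to p − 1 and every divisor of N is ≡ 1 (mod q). -/
theorem result (p q : ℕ) (hp : p.Prime) (hq : q.Prime) (hp2 : p ≠ 2) (hq2 : q ≠ 2) : Odd ((p ^ q - 1) / (p - 1)) ∧ (p % q = 1 → q ∣ (p ^ q - 1) / (p - 1)) ∧ (p % q ≠ 1 → Nat.Coprime ((p ^ q - 1) / (p - 1)) (p - 1) ∧ ∀ x : ℕ, x ∣ (p ^ q - 1) / (p - 1) → x % q = 1) := by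
  set N := (p ^ q - 1) / (p - 1) with hN
  have hsum : N = ∑ i ∈ Finset.range q, p ^ i := (Nat.geomSum_eq hp.two_le q).symm
  have hpodd : Odd p := hp.odd_of_ne_two hp2
  have hqodd : Odd q := hq.odd_of_ne_two hq2
  have hmul : N * (p - 1) + 1 = p ^ q := by
    rw [hsum, geom_sum_mul_of_one_le hp.one_le, Nat.sub_add_cancel (Nat.one_le_pow q p hp.pos)]
  refine ⟨?_, ?_, ?_⟩
  · rw [hsum, Finset.odd_sum_iff_odd_card_odd,
      Finset.filter_true_of_mem fun i _ => hpodd.pow, Finset.card_range]
    exact hqodd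
  · intro hmod
    haveI := Fact.mk hq
    have h1 : (p : ZMod q) = 1 := by
      rw [← ZMod.natCast_mod, hmod, Nat.cast_one]
    rw [← ZMod.natCast_eq_zero_iff, hsum]
    simp [h1]
  · intro hmod
    haveI := Fact.mk hq
    have key : ∀ r : ℕ, r.Prime → r ∣ N → r % q = 1 := by
      intro r hr hrN
      haveI := Fact.mk hr
      have hN0 : (N : ZMod r) = 0 := (ZMod.natCast_eq_zero_iff N r).mpr hrN
      have hpq : (p : ZMod r) ^ q = 1 := by
        have := congrArg (fun m : ℕ => (m : ZMod r)) hmul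
        simp only [Nat.cast_add, Nat.cast_mul, Nat.cast_pow, Nat.cast_one, hN0, zero_mul, zero_add] at this
        exact this.symm
      have hp0 : (p : ZMod r) ≠ 0 := fun h => by simp [h, hq.ne_zero] at hpq
      have hdvd := ZMod.orderOf_dvd_card_sub_one hp0
      rcases (Nat.dvd_prime hq).mp (orderOf_dvd_of_pow_eq_one hpq) with h | h
      · rw [orderOf_eq_one_iff] at h
        rw [hsum] at hN0
        simp [h] at hN0
        have hrq : r = q := (Nat.prime_dvd_prime_iff_eq hr hq).mp ((ZMod.natCast_eq_zero_iff q r).mp hN0)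
        subst hrq
        exfalso
        have h' := congrArg ZMod.val h
        rw [ZMod.val_natCast, ZMod.val_one] at h'
        exact hmod h'
      · rw [h] at hdvd
        obtain ⟨t, ht⟩ := hdvd
        rw [show r = 1 + q * t by have := hr.one_le; omega, Nat.add_mul_mod_self_left, Nat.mod_eq_of_lt hq.one_lt]
    refine ⟨Nat.coprime_of_dvd fun r hr hrN hrp => ?_, fun x hx => ?_⟩
    · have h := key r hr hrN
      haveI := Fact.mk hr
      have h1 : (p : ZMod r) = 1 := by
        have := (ZMod.natCast_eq_zero_iff (p - 1) r).mpr hrp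
        rw [Nat.cast_sub hp.one_le, Nat.cast_one, sub_eq_zero] at this
        exact this
      have hN0 : (N : ZMod r) = 0 := (ZMod.natCast_eq_zero_iff N r).mpr hrN
      rw [hsum] at hN0
      simp [h1] at hN0
      have hrq : r = q := (Nat.prime_dvd_prime_iff_eq hr hq).mp ((ZMod.natCast_eq_zero_iff q r).mp hN0)
      subst hrq
      simp at h
    · have hN' : N ≠ 0 := fun h0 => by
        have := Nat.one_lt_pow hq.ne_zero hp.one_lt
        rw [h0] at hmul
        omega
      induction x using Nat.recOnMul with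
      | zero => exact absurd (Nat.eq_zero_of_zero_dvd hx) hN'
      | one => exact Nat.mod_eq_of_lt hq.one_lt
      | prime r hr => exact key r hr hx
      | mul a b ha hb =>
        rw [Nat.mul_mod, ha (dvd_of_mul_right_dvd hx), hb (dvd_of_mul_left_dvd hx), one_mul,
          Nat.mod_eq_of_lt hq.one_lt]


end Cfsg.Agent.S1546
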