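import Cfsg.Statements.S1547
import Cfsg.Agent.Lib.OddChar.S11.Final
import Cfsg.Agent.Lib.OddChar.Chain

set_option autoImplicit false
open Cfsg

namespace Cfsg.Agent.S1547

/-- Let G be a minimal simple group of odd order with maximal subgroups S and T of type P meeting in W₁W₂, one of Type II and both of Types II–V. If U is the complement in the type P structure of S, then U has trivial centralizer in S_F, that is, no non-identity element of U centralizes S_F. -/
theorem result {G : Type*} [Group G] [Finite G] (hG : Cfsg.IsMinSimpleOddOrder G) (S T W₁ W₂ U V : Subgroup G) (hS : IsCoatom S) (hT : IsCoatom T) (hSP : Cfsg.IsTypePWith S W₁ U W₂) (hTP : Cfsg.IsTypePWith T W₂ V W₁) (hST : S ⊓ T = W₁ ⊔ W₂) (hII : Cfsg.IsOfTypeII S ∨ Cfsg.IsOfTypeII T) (hS25 : Cfsg.IsOfTypeII S ∨ Cfsg.IsOfTypeIII S ∨ Cfsg.IsOfTypeIV S ∨ Cfsg.IsOfTypeV S) (hT25 : Cfsg.IsOfTypeII T ∨ Cfsg.IsOfTypeIII T ∨ Cfsg.IsOfTypeIV T ∨ Cfsg.IsOfTypeV T) : U ⊓ Subgroup.centralizer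 ((Cfsg.fittingHallOf S : Subgroup G) : Set G) = ⊥ := by
  haveI := Fintype.ofFinite G
  exact OddChar.Chain.pairCentralizerTrivial hG (OddChar.S11.noTypeIV hG) (OddChar.S11.typeThreeFacts hG)
    S T W₁ W₂ U V ⟨hS, hT, hSP, hTP, hST, hII, hS25, hT25⟩

end Cfsg.Agent.S1547
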