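import Cfsg.Statements.S1551
import Cfsg.Agent.Lib.Golay.Local.SextetKernel

set_option autoImplicit false
open scoped Pointwise
open Cfsg

namespace Cfsg.Agent.S1551

open Cfsg.Agent.Golay Cfsg.Agent.Golay.Local
open scoped Pointwise

attribute [local irreducible] Cfsg.Agent.Golay.Local.famSet

/-- Structure of a sextet stabiliser: it induces every permutation of the six tetrads, the subgroup fixing each tetrad setwise has order 192, and there is a normal subgroup of order 64 consisting of elements squaring to the identity. -/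
theorem result (S : Finset (Finset Cfsg.GolayPt)) (hS : S ∈ Cfsg.sextets) : (∀ e : Equiv.Perm ↥S, ∃ g ∈ MulAction.stabilizer Cfsg.M24 S, ∀ t : ↥S, (g : Equiv.Perm Cfsg.GolayPt) • (t : Finset Cfsg.GolayPt) = ((e t : ↥S) : Finset Cfsg.GolayPt)) ∧ Nat.card {g : ↥(MulAction.stabilizer Cfsg.M24 S) // ∀ t ∈ S, ((g : Cfsg.M24) : Equiv.Perm Cfsg.GolayPt) • t = t} = 192 ∧ ∃ N : Subgroup ↥(MulAction.stabilizer Cfsg.M24 S), N.Normal ∧ Nat.card N = 64 ∧ ∀ x ∈ N, x * x = 1 := by
  obtain ⟨g, hg⟩ := exists_smul_sextet stdSext_mem hS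
  have hsw : Swaps S := hg ▸ swaps_stdSext.move g
  refine ⟨fun e => ?_, ?_, ?_⟩
  · obtain ⟨h, hh⟩ := induced_surjective hsw e
    exact ⟨h, h.2, fun t => by rw [← hh]; rfl⟩
  · rw [← card_Ker_sextet hS, ← Nat.card_coe_set_eq]
    exact Nat.card_congr
      { toFun := fun h => ⟨(h.1 : Cfsg.M24), h.2⟩
        invFun := fun h => ⟨⟨h.1, Ker_le_stab h.2⟩, h.2⟩
        left_inv := fun _ => rfl
        right_inv := fun _ => rfl }
  · obtain ⟨hcard, hcomm⟩ := invKer_sextet hS
    let N : Subgroup ↥(MulAction.stabilizer Cfsg.M24 S) :=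
      { carrier := {x | (x : Cfsg.M24) ∈ InvKer S}
        one_mem' := ⟨fun t _ => one_smul _ t, one_mul 1⟩
        mul_mem' := fun {a b} ha hb => ⟨fun t ht => by
          show ((a : Cfsg.M24) * b) • t = t
          rw [mul_smul, hb.1 t ht, ha.1 t ht], by
          show (a : Cfsg.M24) * b * ((a : Cfsg.M24) * b) = 1
          rw [mul_assoc, ← mul_assoc (b : Cfsg.M24), ← hcomm _ ha _ hb, mul_assoc, hb.2, mul_one, ha.2]⟩
        inv_mem' := fun {a} ha => by
          show (a : Cfsg.M24)⁻¹ ∈ InvKer S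
          rw [inv_eq_of_mul_eq_one_right ha.2]
          exact ha }
    refine ⟨N, ⟨?_⟩, ?_, fun x hx => Subtype.ext hx.2⟩
    · intro a ha k
      have hS' : (k : Cfsg.M24) • S = S := k.2
      show ((k * a * k⁻¹ : ↥(MulAction.stabilizer Cfsg.M24 S)) : Cfsg.M24) ∈ InvKer S
      conv => arg 1; rw [← hS']
      rw [InvKer_move]
      exact ⟨_, ha, rfl⟩
    · rw [← hcard, ← Nat.card_coe_set_eq]
      exact Nat.card_congr
        { toFun := fun h => ⟨(h.1 : Cfsg.M24), h.2⟩
          invFun := fun h => ⟨⟨h.1, Ker_le_stab h.2.1⟩, h.2⟩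
          left_inv := fun _ => rfl
          right_inv := fun _ => rfl }

end Cfsg.Agent.S1551
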