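import Cfsg.Statements.S1552
import Cfsg.Agent.Lib.Golay.Local.SelfOrbits

set_option autoImplicit false
open scoped Pointwise
open Cfsg

namespace Cfsg.Agent.S1552

open Cfsg.Agent.Golay Cfsg.Agent.Golay.Local
open scoped Pointwise

attribute [local irreducible] Cfsg.Agent.Golay.Local.famSet

/-- A sextet stabiliser has four orbits on the 1771 sextets, of sizes 1, 90, 240, 1440; and the stabiliser is a maximal proper subgroup. -/
theorem result (S : Finset (Finset Cfsg.GolayPt)) (hS : S ∈ Cfsg.sextets) : ∃ X₁ ∈ Cfsg.sextets, ∃ X₂ ∈ Cfsg.sextets, ∃ X₃ ∈ Cfsg.sextets, (MulAction.orbit ↥(MulAction.stabilizer Cfsg.M24 S) X₁).ncard = 90 ∧ (MulAction.orbit ↥(MulAction.stabilizer Cfsg.M24 S) X₂).ncard = 240 ∧ (MulAction.orbit ↥(MulAction.stabilizer Cfsg.M24 S) X₃).ncard = 1440 ∧ Cfsg.sextets = {S} ∪ MulAction.orbit ↥(MulAction.stabilizer Cfsg.M24 S) X₁ ∪ MulAction.orbit ↥(MulAction.stabilizer Cfsg.M24 S) X₂ ∪ MulAction.orbit ↥(MulAction.stabilizer Cfsg.M24 S) X₃ ∧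 IsCoatom (MulAction.stabilizer Cfsg.M24 S) := by
  obtain ⟨g, rfl⟩ := exists_smul_sextet stdSext_mem hS
  obtain ⟨h0, h1, h2, h3⟩ := sextSelf_classes
  have c0 := h0.move g
  have c1 := h1.move g
  have c2 := h2.move g
  have c3 := h3.move g
  have hv := values_move sexUniv g fun Y hY => values_spec sexUniv sextRef_ok sextSexSelf_values hY
  have hS' : _ ∈ sexUniv.set := hS
  have hself := class_self c0 hS' ((prof_smul_self g _).trans prof_stdSext)
  refine ⟨_, c1.1, _, c2.1, _, c3.1, c1.2.2, c2.2.2, c3.2.2, ?_, ?_⟩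
  · rw [← hself]; exact IsClass.cover₄ c0 c1 c2 c3 hv
  · refine isCoatom_of_classes sexUniv _ hS' (fun X hX => ?_) sexLit_length (by norm_num) {1536, 192, 180, 80}
      (fun c => if c = 1536 then 1 else if c = 192 then 90 else if c = 180 then 240 else 1440) (fun Y hY => ?_) ?_ ?_
    · exact exists_smul_sextet hS hX
    · simpa using hv Y hY
    · intro c hc
      simp only [Finset.mem_insert, Finset.mem_singleton] at hc
      rcases hc with rfl | rfl | rfl | rfl
      exacts [⟨_, c0⟩, ⟨_, c1⟩, ⟨_, c2⟩, ⟨_, c3⟩]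
    · rw [show wProf _ _ = 1536 from (prof_smul_self g _).trans prof_stdSext]
      decide +kernel

end Cfsg.Agent.S1552
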