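import Cfsg.Statements.S1553
import Cfsg.Agent.Lib.Golay.OctadStab
-- import your own Cfsg.Agent.* helpers here

set_option autoImplicit false
open scoped Pointwise
open Cfsg

namespace Cfsg.Agent.S1553

open Cfsg.Agent.Golay Cfsg.Agent.Golay.Cert
open scoped Pointwise

/-- The stabiliser of an octad in the group of the length-24 code induces on the octad exactly its alternating group. -/
theorem result (o : Finset Cfsg.GolayPt) (ho : o ∈ Cfsg.octads) : {e : Equiv.Perm ↥o | ∃ g : Equiv.Perm Cfsg.GolayPt, g ∈ Cfsg.M24 ∧ ∃ h : (∀ x, g x ∈ o ↔ x ∈ o), g.subtypePerm h = e} = (alternatingGroup ↥o : Set (Equiv.Perm ↥o)) := by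
  ext e
  rw [SetLike.mem_coe, ← range_restrict ho]
  constructor
  · rintro ⟨g, hg, h, rfl⟩
    refine ⟨⟨g, mem_stOct.2 ⟨hg, ?_⟩⟩, rfl⟩
    refine Finset.eq_of_subset_of_card_le (fun p hp => ?_) (Finset.card_smul_finset g o).ge
    obtain ⟨q, hq, rfl⟩ := Finset.mem_smul_finset.1 hp
    exact (h q).2 hq
  · rintro ⟨g, rfl⟩
    exact ⟨g, (mem_stOct.1 g.2).1, stOct_mem_iff g, rfl⟩

end Cfsg.Agent.S1553
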