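import Cfsg.Statements.S1554
import Cfsg.Agent.Lib.Golay.OctadStab
-- import your own Cfsg.Agent.* helpers here

set_option autoImplicit false
open scoped Pointwise
open Cfsg

namespace Cfsg.Agent.S1554

open Cfsg.Agent.Golay Cfsg.Agent.Golay.Cert
open scoped Pointwise

/-- An octad stabiliser is a split extension: the joint stabiliser of the octad and a point outside it is a complement to the pointwise stabiliser of the octad, and is isomorphic to the alternating group of degree 8. -/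
theorem result (o : Finset Cfsg.GolayPt) (ho : o ∈ Cfsg.octads) (p : Cfsg.GolayPt) (hp : p ∉ o) : (Cfsg.M24 ⊓ fixingSubgroup (Equiv.Perm Cfsg.GolayPt) (o : Set Cfsg.GolayPt)) ⊓ (Cfsg.M24 ⊓ MulAction.stabilizer (Equiv.Perm Cfsg.GolayPt) o ⊓ MulAction.stabilizer (Equiv.Perm Cfsg.GolayPt) p) = ⊥ ∧ (Cfsg.M24 ⊓ fixingSubgroup (Equiv.Perm Cfsg.GolayPt) (o : Set Cfsg.GolayPt)) ⊔ (Cfsg.M24 ⊓ MulAction.stabilizer (Equiv.Perm Cfsg.GolayPt) o ⊓ MulAction.stabilizer (Equiv.Perm Cfsg.GolayPt) p) = (Cfsg.M24 ⊓ MulAction.stabilizer (Equiv.Perm Cfsg.GolayPt) o) ∧ Nonempty (↥(Cfsg.M24 ⊓ MulAction.stabilizer (Equiv.Perm Cfsg.GolayPt) o ⊓ MulAction.stabilizer (Equiv.Perm Cfsg.GolayPt) p) ≃* alternatingGroup (Fin 8)) := by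
  classical
  set K := Cfsg.M24 ⊓ MulAction.stabilizer (Equiv.Perm Cfsg.GolayPt) o ⊓
    MulAction.stabilizer (Equiv.Perm Cfsg.GolayPt) p with hK
  have hmemK : ∀ g, g ∈ K ↔ g ∈ stOct o ∧ g p = p := fun g => Subgroup.mem_inf
  have hNle : fixOct o ≤ stOct o := fun g hg =>
    mem_stOct.2 ⟨(mem_fixOct.1 hg).1, smul_eq_self_of_fix (mem_fixOct.1 hg).2⟩
  have hNK : fixOct o ⊓ K = ⊥ := by
    rw [eq_bot_iff]
    rintro g ⟨hg, hg'⟩
    exact Subgroup.mem_bot.2 (fixOct_inj ho hp hg ((hmemK g).1 hg').2)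
  have hfac : ∀ h ∈ stOct o, ∃ n ∈ fixOct o, ∃ k ∈ K, h = n * k := fun h hh => by
    have hhp : h p ∉ o := fun e => hp ((stOct_mem_iff ⟨h, hh⟩ p).1 e)
    obtain ⟨n, hn, hnp⟩ := fixOct_transitive ho hp hhp
    refine ⟨n, hn, n⁻¹ * h, (hmemK _).2 ⟨mul_mem (inv_mem (hNle hn)) hh, ?_⟩, by group⟩
    rw [Equiv.Perm.mul_apply, ← hnp]
    exact n.symm_apply_apply p
  refine ⟨hNK, ?_, ?_⟩
  · refine le_antisymm (sup_le hNle fun g hg => ((hmemK g).1 hg).1) fun h hh => ?_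
    obtain ⟨n, hn, k, hk, rfl⟩ := hfac h hh
    exact Subgroup.mul_mem_sup hn hk
  · let ρ : K →* Equiv.Perm ↥o :=
      (restrictOct o).comp (Subgroup.inclusion (fun g hg => ((hmemK g).1 hg).1))
    have hinj : Function.Injective ρ := (injective_iff_map_eq_one ρ).2 fun g hg => by
      have h1 := (restrictOct_ker _).1 (MonoidHom.mem_ker.2 hg)
      exact Subtype.ext (fixOct_inj ho hp h1 ((hmemK g).1 g.2).2)
    have hrange : ρ.range = alternatingGroup ↥o := by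
      rw [← range_restrict ho]
      refine le_antisymm (by rintro _ ⟨g, rfl⟩; exact ⟨_, rfl⟩) ?_
      rintro _ ⟨⟨h, hh⟩, rfl⟩
      obtain ⟨n, hn, k, hk, rfl⟩ := hfac h hh
      refine ⟨⟨k, hk⟩, ?_⟩
      have e : (⟨n * k, hh⟩ : stOct o) = ⟨n, hNle hn⟩ * ⟨k, ((hmemK k).1 hk).1⟩ := rfl
      rw [e, map_mul, MonoidHom.mem_ker.1 ((restrictOct_ker ⟨n, hNle hn⟩).2 hn), one_mul]
      rfl
    exact ⟨((MonoidHom.ofInjective hinj).trans (MulEquiv.subgroupCongr hrange)).trans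
      (Equiv.altCongrHom (Fintype.equivFinOfCardEq (by rw [Fintype.card_coe, card_octad ho])))⟩

end Cfsg.Agent.S1554
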