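import Cfsg.Statements.S1556
import Cfsg.Agent.Lib.Golay.OrbitChecks
-- import your own Cfsg.Agent.* helpers here

set_option autoImplicit false
open scoped Pointwise
open Cfsg

namespace Cfsg.Agent.S1556

open Cfsg.Agent.Golay Cfsg.Agent.Golay.Cert
open scoped Pointwise

/-- Two octads meeting a fixed octad in equally many points are in the same orbit of its stabiliser. -/
theorem result (o o' o'' : Finset Cfsg.GolayPt) (ho : o ∈ Cfsg.octads) (ho' : o' ∈ Cfsg.octads) (ho'' : o'' ∈ Cfsg.octads) (h : (o ∩ o').card = (o ∩ o'').card) : ∃ g : Equiv.Perm Cfsg.GolayPt, g ∈ Cfsg.M24 ∧ g • o = o ∧ g • o' = o'' := by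
  obtain ⟨g, hg, hgo⟩ := exists_M24_octad ho refOct_mem
  obtain ⟨m, hm, hm'⟩ := mem_octads.1 (smul_mem_octads hg ho')
  obtain ⟨n, hn, hn'⟩ := mem_octads.1 (smul_mem_octads hg ho'')
  obtain ⟨k, hk, hkm⟩ := classes_transitive oct_classes hm hn (by
    simp only [← card_maskSet, maskSet_and]
    rw [hm', hn', show maskSet refOctad = g • o from hgo.symm, card_inter_smul, card_inter_smul, h])
  rw [hm', hn'] at hkm
  exact ⟨g⁻¹ * k * g, mul_mem (mul_mem (inv_mem hg) hk.1) hg,
    conj_fix hgo (hk.2 _ List.mem_cons_self), conj_map hkm⟩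

end Cfsg.Agent.S1556
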