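import Cfsg.Statements.S1557
import Cfsg.Agent.Lib.Steiner.Triangles
import Cfsg.Agent.Lib.Golay.Basic
-- import your own Cfsg.Agent.* helpers here

set_option autoImplicit false
open scoped Pointwise
open Cfsg

namespace Cfsg.Agent.S1557

open Cfsg.Agent.Steiner Finset

theorem card24 : Fintype.card GolayPt = 24 := by simp [GolayPt]

theorem compl_mem (o o' : Finset GolayPt) (ho : o ∈ octads) (ho' : o' ∈ octads)
    (hd : Disjoint o o') : (o ∪ o')ᶜ ∈ octads := by
  have hB := Cfsg.Agent.Golay.isSteinerSystem_octads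
  refine mem_of_even card24 hB ?_ fun d hdm => ?_
  · rw [card_compl, card_union_of_disjoint hd, card_of_mem hB ho, card_of_mem hB ho', card24]
  · have hev : ∀ x ∈ octads, Even (d ∩ x).card := fun x hx => by
      rcases eq_or_ne d x with rfl | hne
      · rw [inter_self, card_of_mem hB hdm]; decide
      · rcases inter24 card24 hB hdm hx hne with h | h | h <;> rw [h] <;> decide
    obtain ⟨p, hp⟩ := hev o ho
    obtain ⟨q, hq⟩ := hev o' ho'
    have h1 := card_sdiff_add_card_inter d (o ∪ o')
    rw [inter_union_distrib_left, card_union_of_disjoint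
      (hd.mono inter_subset_right inter_subset_right), card_of_mem hB hdm] at h1
    rw [← sdiff_eq_inter_compl, Nat.even_iff]
    omega

/-- The complement of the union of two disjoint octads is an octad, and the code has exactly 3795 trios of pairwise disjoint octads. -/
theorem result : (∀ o o' : Finset Cfsg.GolayPt, o ∈ Cfsg.octads → o' ∈ Cfsg.octads → Disjoint o o' → (o ∪ o')ᶜ ∈ Cfsg.octads) ∧ Cfsg.trios.ncard = 3795 := by
  refine ⟨compl_mem, ?_⟩
  classical
  have hB := Cfsg.Agent.Golay.isSteinerSystem_octads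
  rw [Set.ncard_eq_toFinset_card Cfsg.trios]
  set Q := (Set.toFinite Cfsg.trios).toFinset with hQ
  have hQm : ∀ T, T ∈ Q ↔ T ∈ Cfsg.trios := fun T => by simp [hQ]
  set P := (blocks Cfsg.octads).sigma fun o => (blocks Cfsg.octads).filter fun o' => Disjoint o o' with hP
  have hPm : ∀ p ∈ P, p.1 ∈ Cfsg.octads ∧ p.2 ∈ Cfsg.octads ∧ Disjoint p.1 p.2 := fun p hp => by
    simp only [hP, mem_sigma, mem_filter, mem_blocks] at hp
    exact ⟨hp.1, hp.2.1, hp.2.2⟩
  have hne : ∀ o ∈ Cfsg.octads, ∀ o', Disjoint o o' → o ≠ o' := fun o ho o' hd e => by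
    subst e
    have := card_of_mem hB ho
    rw [Finset.disjoint_self_iff_empty _ |>.1 hd] at this; simp at this
  let f : (Σ _ : Finset Cfsg.GolayPt, Finset Cfsg.GolayPt) → Finset (Finset Cfsg.GolayPt) :=
    fun p => {p.1, p.2, (p.1 ∪ p.2)ᶜ}
  have hf : ∀ p ∈ P, f p ∈ Q := fun p hp => by
    obtain ⟨h1, h2, hd⟩ := hPm p hp
    have h3 := compl_mem _ _ h1 h2 hd
    have d13 : Disjoint p.1 (p.1 ∪ p.2)ᶜ := disjoint_compl_right.mono_left subset_union_left
    have d23 : Disjoint p.2 (p.1 ∪ p.2)ᶜ := disjoint_compl_right.mono_left subset_union_right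
    refine (hQm _).2 ⟨card_eq_three.2 ⟨_, _, _, hne _ h1 _ hd, hne _ h1 _ d13, hne _ h2 _ d23, rfl⟩, ?_, ?_⟩
    · simp only [f, mem_insert, mem_singleton]
      rintro o (rfl | rfl | rfl) <;> assumption
    · simp only [f, mem_insert, mem_singleton]
      rintro o (rfl | rfl | rfl) o' (rfl | rfl | rfl) h <;>
        first | exact absurd rfl h | assumption | exact hd.symm | exact d13.symm | exact d23.symm
  have h := card_eq_sum_card_fiberwise (s := P) (t := Q) (f := f) hf
  have hcard : P.card = 759 * 30 := by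
    rw [hP, card_sigma, sum_congr rfl (fun o ho => ?_), sum_const, smul_eq_mul]
    · have := card_blocks hB
      rw [card24] at this
      norm_num [Nat.choose] at this
      have e : (blocks Cfsg.octads).card = 759 := by omega
      rw [e]
    · have := exactly24 card24 hB (mem_blocks.1 ho) ∅ (empty_subset _)
      simpa [exactly, row24, ← disjoint_iff_inter_eq_empty] using this
  have hfib : ∀ T ∈ Q, (P.filter fun p => f p = T).card = 6 := by
    intro T hT
    obtain ⟨h3, hoct, hdis⟩ := (hQm T).1 hT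
    have : (T.offDiag).card = 6 := by rw [offDiag_card, h3]
    rw [← this]
    refine card_bij (fun p _ => (p.1, p.2)) ?_ ?_ ?_
    · intro p hp
      obtain ⟨hp', rfl⟩ := mem_filter.1 hp
      obtain ⟨h1, h2, hd⟩ := hPm p hp'
      simp [f, hne _ h1 _ hd]
    · rintro ⟨a, b⟩ _ ⟨c, d⟩ _ e
      simp only [Prod.mk.injEq] at e
      obtain ⟨rfl, rfl⟩ := e; rfl
    · rintro ⟨o, o'⟩ hp
      obtain ⟨ho, ho', hoo⟩ := mem_offDiag.1 hp
      have hd := hdis o ho o' ho' hoo
      have hmem : (⟨o, o'⟩ : Σ _ : Finset Cfsg.GolayPt, Finset Cfsg.GolayPt) ∈ P := by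
        simp [hP, mem_blocks, hoct o ho, hoct o' ho', hd]
      refine ⟨⟨o, o'⟩, mem_filter.2 ⟨hmem, ?_⟩, rfl⟩
      obtain ⟨o'', ho'', hn⟩ : ∃ o'' ∈ T, o'' ∉ ({o, o'} : Finset _) :=
        exists_mem_notMem_of_card_lt_card (by rw [card_pair hoo, h3]; norm_num)
      simp only [mem_insert, mem_singleton, not_or] at hn
      have hsub : o'' = (o ∪ o')ᶜ := by
        refine eq_of_subset_of_card_le (subset_compl_comm.1 (union_subset
          (subset_compl_iff_disjoint_right.2 (hdis o ho o'' ho'' (Ne.symm hn.1)))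
          (subset_compl_iff_disjoint_right.2 (hdis o' ho' o'' ho'' (Ne.symm hn.2))))) ?_
        rw [card_compl, card_union_of_disjoint hd, card_of_mem hB (hoct o ho),
          card_of_mem hB (hoct o' ho'), card24, card_of_mem hB (hoct o'' ho'')]
      refine eq_of_subset_of_card_le ?_ (by rw [h3, ((hQm _).1 (hf _ hmem)).1])
      simp only [f, insert_subset_iff, singleton_subset_iff]
      exact ⟨ho, ho', hsub ▸ ho''⟩
  rw [sum_congr rfl hfib, sum_const, smul_eq_mul, hcard] at h
  omega

end Cfsg.Agent.S1557
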