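import Cfsg.Statements.S1558
import Cfsg.Agent.Lib.Golay.Local.TrioKernel
import Mathlib.GroupTheory.QuotientGroup.Basic

set_option autoImplicit false
open scoped Pointwise
open Cfsg

namespace Cfsg.Agent.S1558

open Cfsg.Agent.Golay Cfsg.Agent.Golay.Local
open scoped Pointwise

attribute [local irreducible] Cfsg.Agent.Golay.Local.famSet

/-- Structure of a trio stabiliser: every permutation of the three octads is induced, and there is a normal subgroup of order 64 of elements squaring to the identity whose quotient is isomorphic to the product of GL(3, 2) with the symmetric group of degree 3. -/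
theorem result (T : Finset (Finset Cfsg.GolayPt)) (hT : T ∈ Cfsg.trios) : (∀ e : Equiv.Perm ↥T, ∃ g ∈ MulAction.stabilizer Cfsg.M24 T, ∀ o : ↥T, (g : Equiv.Perm Cfsg.GolayPt) • (o : Finset Cfsg.GolayPt) = ((e o : ↥T) : Finset Cfsg.GolayPt)) ∧ ∃ (N : Subgroup ↥(MulAction.stabilizer Cfsg.M24 T)) (_ : N.Normal), Nat.card N = 64 ∧ (∀ x ∈ N, x * x = 1) ∧ Nonempty (↥(MulAction.stabilizer Cfsg.M24 T) ⧸ N ≃* GL (Fin 3) (ZMod 2) × Equiv.Perm (Fin 3)) := by
  obtain ⟨g, hg⟩ := exists_smul_stdTrio hT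
  have hsw : Swaps T := hg ▸ swaps_stdTrio.move g
  obtain ⟨heq, hcard, hsq⟩ := G0_structure
  refine ⟨fun e => ?_, ?_⟩
  · obtain ⟨h, hh⟩ := induced_surjective hsw e
    exact ⟨h, h.2, fun t => by rw [← hh]; rfl⟩
  let c : ↥(MulAction.stabilizer Cfsg.M24 T) ≃* ↥G0 :=
    { toFun := fun h => ⟨g⁻¹ * h * g, by
        rw [heq, MulAction.mem_stabilizer_iff, mul_smul, mul_smul, hg, show (h : Cfsg.M24) • T = T from h.2,
          inv_smul_eq_iff, hg]⟩
      invFun := fun h => ⟨g * h * g⁻¹, by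
        have hh : (h : Cfsg.M24) • stdTrio = stdTrio := G0_le h.2
        rw [MulAction.mem_stabilizer_iff, mul_smul, mul_smul, ← hg, inv_smul_smul, hh]⟩
      left_inv := fun h => Subtype.ext (show g * (g⁻¹ * (h : Cfsg.M24) * g) * g⁻¹ = h by group)
      right_inv := fun h => Subtype.ext (show g⁻¹ * (g * (h : Cfsg.M24) * g⁻¹) * g = h by group)
      map_mul' := fun a b => Subtype.ext
        (show g⁻¹ * ((a : Cfsg.M24) * b) * g = g⁻¹ * a * g * (g⁻¹ * b * g) by group) }
  let Ψ := psi.comp c.toMonoidHom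
  refine ⟨Ψ.ker, inferInstance, ?_, fun x hx => c.injective ?_,
    ⟨QuotientGroup.quotientKerEquivOfSurjective Ψ (psi_surjective.comp c.surjective)⟩⟩
  · rw [← hcard]
    exact Nat.card_congr (c.toEquiv.subtypeEquiv fun x => Iff.rfl)
  · rw [map_mul, map_one]
    exact hsq _ hx

end Cfsg.Agent.S1558
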