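import Cfsg.Statements.S1559
import Cfsg.Agent.Lib.Golay.Local.SelfOrbits

set_option autoImplicit false
open scoped Pointwise
open Cfsg

namespace Cfsg.Agent.S1559

open Cfsg.Agent.Golay Cfsg.Agent.Golay.Local
open scoped Pointwise

attribute [local irreducible] Cfsg.Agent.Golay.Local.famSet

/-- A trio stabiliser has five orbits on the 3795 trios, of sizes 1, 42, 56, 1008, 2688; and the stabiliser is a maximal proper subgroup. -/
theorem result (T : Finset (Finset Cfsg.GolayPt)) (hT : T ∈ Cfsg.trios) : ∃ X₁ ∈ Cfsg.trios, ∃ X₂ ∈ Cfsg.trios, ∃ X₃ ∈ Cfsg.trios, ∃ X₄ ∈ Cfsg.trios, (MulAction.orbit ↥(MulAction.stabilizer Cfsg.M24 T) X₁).ncard = 42 ∧ (MulAction.orbit ↥(MulAction.stabilizer Cfsg.M24 T) X₂).ncard = 56 ∧ (MulAction.orbit ↥(MulAction.stabilizer Cfsg.M24 T) X₃).ncard = 1008 ∧ (MulAction.orbit ↥(MulAction.stabilizer Cfsg.M24 T) X₄).ncard = 2688 ∧ Cfsg.trios = {T} ∪ MulAction.orbit ↥(MulAction.stabilizer Cfsg.M24 T) X₁ ∪ MulAction.orbit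 ↥(MulAction.stabilizer Cfsg.M24 T) X₂ ∪ MulAction.orbit ↥(MulAction.stabilizer Cfsg.M24 T) X₃ ∪ MulAction.orbit ↥(MulAction.stabilizer Cfsg.M24 T) X₄ ∧ IsCoatom (MulAction.stabilizer Cfsg.M24 T) := by
  obtain ⟨g, rfl⟩ := exists_smul_stdTrio hT
  obtain ⟨h0, h1, h2, h3, h4⟩ := trioSelf_classes
  have c0 := h0.move g
  have c1 := h1.move g
  have c2 := h2.move g
  have c3 := h3.move g
  have c4 := h4.move g
  have hv := values_move triUniv g fun Y hY => values_spec triUniv trioRef_ok trioTriSelf_values hY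
  have hS' : _ ∈ triUniv.set := hT
  have hself := class_self c0 hS' ((prof_smul_self g _).trans prof_stdTrio)
  refine ⟨_, c1.1, _, c2.1, _, c3.1, _, c4.1, c1.2.2, c2.2.2, c3.2.2, c4.2.2, ?_, ?_⟩
  · rw [← hself]; exact cover₅ c0 c1 c2 c3 c4 hv
  · refine isCoatom_of_classes triUniv _ hS' (fun X hX => ?_) triList_length (by norm_num) {12288, 5120, 1536, 1088, 864}
      (fun c => if c = 12288 then 1 else if c = 5120 then 42 else if c = 1536 then 56 else if c = 1088 then 1008 else 2688) (fun Y hY => ?_) ?_ ?_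
    · obtain ⟨k, hk⟩ := exists_smul_stdTrio hX
      exact ⟨k * g⁻¹, by rw [mul_smul, inv_smul_smul, hk]⟩
    · simpa using hv Y hY
    · intro c hc
      simp only [Finset.mem_insert, Finset.mem_singleton] at hc
      rcases hc with rfl | rfl | rfl | rfl | rfl
      exacts [⟨_, c0⟩, ⟨_, c1⟩, ⟨_, c2⟩, ⟨_, c3⟩, ⟨_, c4⟩]
    · rw [show wProf _ _ = 12288 from (prof_smul_self g _).trans prof_stdTrio]
      decide +kernel

end Cfsg.Agent.S1559
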