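import Cfsg.Statements.S1560
import Cfsg.Agent.Lib.Golay.OrbitChecks
-- import your own Cfsg.Agent.* helpers here

set_option autoImplicit false
open scoped Pointwise
open Cfsg

namespace Cfsg.Agent.S1560

open Cfsg.Agent.Golay Cfsg.Agent.Golay.Cert
open scoped Pointwise

theorem count_any {d : Finset GolayPt} (hd : d ∈ dodecads) (k : ℕ) :
    {d' : Finset GolayPt | d' ∈ dodecads ∧ (d ∩ d').card = k}.ncard
      = (dodecadList.filter fun m => meetsB sqMask k m).length := by
  obtain ⟨g, hg, hgd⟩ := dodecad_move hd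
  rw [← ncard_dodecads_filter (fun s => (maskSet sqMask ∩ s).card = k) _ fun m => meetsB_iff.symm]
  exact ncard_smul g _ _ fun s => by rw [smul_mem_dodecads_iff hg, ← hgd, card_inter_smul]

/-- Intersection numbers of dodecads: a dodecad meets every other dodecad in 0, 4, 6 or 8 points, meeting 495 of them in 4 points, 1584 in 6 points and 495 in 8 points. -/
theorem result (d : Finset Cfsg.GolayPt) (hd : d ∈ Cfsg.dodecads) : (∀ d' ∈ Cfsg.dodecads, d' ≠ d → (d ∩ d').card = 0 ∨ (d ∩ d').card = 4 ∨ (d ∩ d').card = 6 ∨ (d ∩ d').card = 8) ∧ {d' : Finset Cfsg.GolayPt | d' ∈ Cfsg.dodecads ∧ (d ∩ d').card = 4}.ncard = 495 ∧ {d' : Finset Cfsg.GolayPt | d' ∈ Cfsg.dodecads ∧ (d ∩ d').card = 6}.ncard = 1584 ∧ {d' : Finset Cfsg.GolayPt | d' ∈ Cfsg.dodecads ∧ (d ∩ d').card = 8}.ncard = 495 := by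
  refine ⟨fun d' hd' hne => ?_, by rw [count_any hd]; decide +kernel,
    by rw [count_any hd]; decide +kernel, by rw [count_any hd]; decide +kernel⟩
  obtain ⟨g, hg, hgd⟩ := dodecad_move hd
  obtain ⟨m, hm, hm'⟩ := mem_dodecads.1 (smul_mem_dodecads hg hd')
  have hall : dodecadList.all (fun m => memB (popCount (sqMask &&& m) 24) [0, 4, 6, 8]
      || Nat.beq m sqMask) = true := by
    decide +kernel
  have h := List.all_eq_true.1 hall m hm
  simp only [Bool.or_eq_true, Nat.beq_eq] at h
  rcases h with h | h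
  · have := memB_spec h
    rw [← card_maskSet, maskSet_and, hm', ← hgd, card_inter_smul] at this
    simpa using this
  · exact absurd (MulAction.injective g (show g • d' = g • d by rw [hgd, ← hm', h])) hne

end Cfsg.Agent.S1560
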