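import Cfsg.Statements.S1561
import Cfsg.Agent.Lib.Golay.OrbitChecks
-- import your own Cfsg.Agent.* helpers here

set_option autoImplicit false
open scoped Pointwise
open Cfsg

namespace Cfsg.Agent.S1561

open Cfsg.Agent.Golay Cfsg.Agent.Golay.Cert
open scoped Pointwise

/-- Two dodecads meeting a fixed dodecad in equally many points lie in one orbit of its stabiliser. -/
theorem result (d d' d'' : Finset Cfsg.GolayPt) (hd : d ∈ Cfsg.dodecads) (hd' : d' ∈ Cfsg.dodecads) (hd'' : d'' ∈ Cfsg.dodecads) (h : (d ∩ d').card = (d ∩ d'').card) : ∃ g : Equiv.Perm Cfsg.GolayPt, g ∈ Cfsg.M24 ∧ g • d = d ∧ g • d' = d'' := by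
  obtain ⟨g, hg, hgd⟩ := dodecad_move hd
  obtain ⟨m, hm, hm'⟩ := mem_dodecads.1 (smul_mem_dodecads hg hd')
  obtain ⟨n, hn, hn'⟩ := mem_dodecads.1 (smul_mem_dodecads hg hd'')
  obtain ⟨k, hk, hkm⟩ := classes_transitive dod_classes hm hn (by
    simp only [← card_maskSet, maskSet_and]
    rw [hm', hn', ← hgd, card_inter_smul, card_inter_smul, h])
  rw [hm', hn'] at hkm
  exact ⟨g⁻¹ * k * g, mul_mem (mul_mem (inv_mem hg) hk.1) hg,
    conj_fix hgd (hk.2 _ List.mem_cons_self), conj_map hkm⟩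

end Cfsg.Agent.S1561
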