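import Cfsg.Statements.S1562
import Cfsg.Agent.Lib.Golay.SetOrbitChecks
-- import your own Cfsg.Agent.* helpers here

set_option autoImplicit false
open scoped Pointwise
open Cfsg

namespace Cfsg.Agent.S1562

open Cfsg.Agent.Golay Cfsg.Agent.Golay.Cert
open scoped Pointwise

/-- Orbits of a triad stabiliser on the triads disjoint from it: the 210 triads inside a common octad with it form one orbit and the remaining 1120 another. -/
theorem result (T : Finset Cfsg.GolayPt) (hT : T.card = 3) : {U : Finset Cfsg.GolayPt | U.card = 3 ∧ Disjoint T U ∧ (∃ o ∈ Cfsg.octads, T ∪ U ⊆ o)}.ncard = 210 ∧ {U : Finset Cfsg.GolayPt | U.card = 3 ∧ Disjoint T U ∧ ¬ (∃ o ∈ Cfsg.octads, T ∪ U ⊆ o)}.ncard = 1120 ∧ ∀ U U' : Finset Cfsg.GolayPt, U.card = 3 → U'.card = 3 → Disjoint T U → Disjoint T U' → ((∃ o ∈ Cfsg.octads, T ∪ U ⊆ o) ↔ (∃ o ∈ Cfsg.octads, T ∪ U' ⊆ o)) → ∃ g : Equiv.Perm Cfsg.GolayPt, g ∈ Cfsg.M24 ∧ g • T = T ∧ g • U = U' := by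
  obtain ⟨g, hg, hgT⟩ := exists_smul_eq (s := T) (t := maskSet refTriad) (by omega)
    (by rw [hT, card_maskSet]; decide)
  have hoct : ∀ U : Finset Cfsg.GolayPt, (∃ o ∈ Cfsg.octads, T ∪ U ⊆ o) ↔
      ∃ o ∈ Cfsg.octads, maskSet refTriad ∪ g • U ⊆ o := by
    intro U
    rw [← hgT, ← Finset.smul_finset_union]
    constructor
    · rintro ⟨o, ho, h⟩
      exact ⟨g • o, smul_mem_octads hg ho, Finset.smul_finset_subset_smul_finset h⟩
    · rintro ⟨o, ho, h⟩
      refine ⟨g⁻¹ • o, smul_mem_octads (inv_mem hg) ho, ?_⟩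
      have := Finset.smul_finset_subset_smul_finset (a := g⁻¹) h
      rwa [inv_smul_smul] at this
  have hdis : ∀ U : Finset Cfsg.GolayPt, Disjoint T U ↔ Disjoint (maskSet refTriad) (g • U) := by
    intro U
    rw [← hgT, Finset.disjoint_iff_inter_eq_empty, Finset.disjoint_iff_inter_eq_empty,
      ← Finset.card_eq_zero, ← Finset.card_eq_zero, card_inter_smul]
  have hd : ∀ m, Disjoint (maskSet refTriad) (maskSet m) ↔ Nat.beq (m &&& refTriad) 0 = true := by
    intro m
    rw [Finset.disjoint_iff_inter_eq_empty, Finset.inter_comm, ← maskSet_and, Nat.beq_eq]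
    constructor
    · intro h
      exact maskSet_inj (Nat.and_lt_two_pow m (by decide)) (by norm_num)
        (h.trans (by ext p; simp [mem_maskSet]))
    · intro h; rw [h]; ext p; simp [mem_maskSet]
  refine ⟨?_, ?_, fun U U' hU hU' hdU hdU' h => ?_⟩
  · rw [ncard_smul g _ (fun U => U.card = 3 ∧ (Disjoint (maskSet refTriad) U ∧
        ∃ o ∈ Cfsg.octads, maskSet refTriad ∪ U ⊆ o)) fun U => by
      rw [Finset.card_smul_finset, ← hdis, ← hoct]]
    simp only [card_eq_iff_mask]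
    rw [ncard_filter_image (masksOfWeight_nodup _ _) (fun m hm => (lt_of_mem_masksOfWeight _ _ _ hm).1)
      _ (fun m => Nat.beq (m &&& refTriad) 0 && inOctB triadOctads m) fun m hm => by
        rw [Bool.and_eq_true, hd,
          inOctB_iff triadOctads_eq (by decide) (lt_of_mem_masksOfWeight _ _ _ hm).1]]
    decide +kernel
  · rw [ncard_smul g _ (fun U => U.card = 3 ∧ (Disjoint (maskSet refTriad) U ∧
        ¬ ∃ o ∈ Cfsg.octads, maskSet refTriad ∪ U ⊆ o)) fun U => by
      rw [Finset.card_smul_finset, ← hdis, ← hoct]]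
    simp only [card_eq_iff_mask]
    rw [ncard_filter_image (masksOfWeight_nodup _ _) (fun m hm => (lt_of_mem_masksOfWeight _ _ _ hm).1)
      _ (fun m => Nat.beq (m &&& refTriad) 0 && !(inOctB triadOctads m)) fun m hm => by
        rw [Bool.and_eq_true, hd, Bool.not_eq_true', ← Bool.not_eq_true,
          inOctB_iff triadOctads_eq (by decide) (lt_of_mem_masksOfWeight _ _ _ hm).1]]
    decide +kernel
  · obtain ⟨m, hm, hm'⟩ := card_eq_iff_mask.1 ((Finset.card_smul_finset g U).trans hU)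
    obtain ⟨n, hn, hn'⟩ := card_eq_iff_mask.1 ((Finset.card_smul_finset g U').trans hU')
    have e : ∀ {W : Finset Cfsg.GolayPt} {m : ℕ}, m ∈ masksOfWeight 24 3 → maskSet m = g • W →
        ((∃ o ∈ Cfsg.octads, T ∪ W ⊆ o) ↔ inOctB triadOctads m = true) := fun hm hm' => by
      rw [← inOctB_iff triadOctads_eq (by decide) (lt_of_mem_masksOfWeight _ _ _ hm).1, hm', hoct]
    rw [e hm hm', e hn hn', ← Bool.eq_iff_iff] at h
    obtain ⟨k, hk, hkm⟩ := classes_transitive triad_classes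
      (List.mem_filter.2 ⟨hm, (hd m).1 (hm' ▸ (hdis U).1 hdU)⟩)
      (List.mem_filter.2 ⟨hn, (hd n).1 (hn' ▸ (hdis U').1 hdU')⟩) (by rw [h])
    rw [hm', hn'] at hkm
    exact ⟨g⁻¹ * k * g, mul_mem (mul_mem (inv_mem hg) hk.1) hg,
      conj_fix hgT (hk.2 _ List.mem_cons_self), conj_map hkm⟩

end Cfsg.Agent.S1562
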