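import Cfsg.Statements.S1565
import Cfsg.Agent.Lib.Golay.SmallSets
import Cfsg.Agent.Lib.Golay.Maximal
import Cfsg.Agent.S1556
-- import your own Cfsg.Agent.* helpers here

set_option autoImplicit false
open scoped Pointwise
open Cfsg

namespace Cfsg.Agent.S1565

open Cfsg.Agent.Golay Cfsg.Agent.Golay.Cert
open scoped Pointwise

/-- The stabiliser of an octad is a maximal proper subgroup of the group of the length-24 code. -/
theorem result (o : Finset Cfsg.GolayPt) (ho : o ∈ Cfsg.octads) : IsCoatom (MulAction.stabilizer Cfsg.M24 o) := by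
  have horb : MulAction.orbit Cfsg.M24 o = Cfsg.octads := by
    ext t
    constructor
    · rintro ⟨g, rfl⟩; exact smul_mem_octads g.2 ho
    · intro ht
      obtain ⟨g, hg, h⟩ := exists_M24_octad ho ht
      exact ⟨⟨g, hg⟩, h⟩
  refine isCoatom_stabilizer_of_classes o (fun y => (o ∩ y).card) {0, 2, 4, 8}
    (fun k => if k = 0 then 30 else if k = 2 then 448 else if k = 4 then 280 else 1) 759
    (by rw [horb, ncard_octads]) (by norm_num) (fun y hy => ?_) (fun k hk => ?_)
    (fun y hy z hz h => ?_) ?_
  · rw [horb] at hy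
    obtain ⟨g, hg, hgo⟩ := exists_M24_octad ho refOct_mem
    obtain ⟨m, hm, hm'⟩ := mem_octads.1 (smul_mem_octads hg hy)
    have hall : octadList.all (fun m => memB (popCount (refOctad &&& m) 24) [0, 2, 4, 8]) = true := by
      decide +kernel
    have h := memB_spec (List.all_eq_true.1 hall m hm)
    rw [← card_maskSet, maskSet_and, hm', show maskSet refOctad = g • o from hgo.symm,
      card_inter_smul] at h
    simpa using h
  · rw [horb]
    obtain ⟨g, hg, hgo⟩ := exists_M24_octad ho refOct_mem
    rw [ncard_smul g _ (fun y => y ∈ Cfsg.octads ∧ (refOct ∩ y).card = k) fun y => by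
        rw [smul_mem_octads_iff hg, ← hgo, card_inter_smul],
      ncard_octads_filter (fun y => (refOct ∩ y).card = k) _ fun m => meetsB_iff.symm]
    simp only [Finset.mem_insert, Finset.mem_singleton] at hk
    rcases hk with rfl | rfl | rfl | rfl <;> decide +kernel
  · rw [horb] at hy hz
    obtain ⟨g, hg, hgo, hgy⟩ := Cfsg.Agent.S1556.result o y z ho hy hz h
    exact ⟨⟨g, hg⟩, hgo, hgy⟩
  · simp only [Finset.inter_self, card_octad ho]
    decide

end Cfsg.Agent.S1565
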