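import Cfsg.Statements.S1639
import Cfsg.Agent.Lib.Golay.OrbitChecks
-- import your own Cfsg.Agent.* helpers here

set_option autoImplicit false
open scoped Pointwise
open Cfsg

namespace Cfsg.Agent.S1639

open Cfsg.Agent.Golay Cfsg.Agent.Golay.Cert
open scoped Pointwise

/-- The point stabiliser acts on the 1288 dodecads through the point with rank 4 and subdegrees 1, 165, 330, 792, distinguished by intersection 4, 8, 6 with the fixed dodecad. -/
theorem result (x : Cfsg.GolayPt) (d : Finset Cfsg.GolayPt) (hd : d ∈ Cfsg.dodecads) (hx : x ∈ d) : {d' : Finset Cfsg.GolayPt | d' ∈ Cfsg.dodecads ∧ x ∈ d' ∧ (d ∩ d').card = 4}.ncard = 165 ∧ {d' : Finset Cfsg.GolayPt | d' ∈ Cfsg.dodecads ∧ x ∈ d' ∧ (d ∩ d').card = 8}.ncard = 330 ∧ {d' : Finset Cfsg.GolayPt | d' ∈ Cfsg.dodecads ∧ x ∈ d' ∧ (d ∩ d').card = 6}.ncard = 792 ∧ ∀ d' d'' : Finset Cfsg.GolayPt, d' ∈ Cfsg.dodecads → d'' ∈ Cfsg.dodecads → x ∈ d' → x ∈ d'' → (d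 ∩ d').card = (d ∩ d'').card → ∃ g : Equiv.Perm Cfsg.GolayPt, g ∈ Cfsg.M24 ∧ g x = x ∧ g • d = d ∧ g • d' = d'' := by
  obtain ⟨g', hg', hgd', hgx'⟩ := exists_M24_dodecad_map hd (k := 1) (x := fun _ => ptA) (y := fun _ => x)
    (by norm_num) (Function.injective_of_subsingleton _) (Function.injective_of_subsingleton _)
    (fun _ => by rw [squareDodecad_eq, mem_maskSet]; decide) (fun _ => hx)
  obtain ⟨g, hg, hgd, hgx⟩ : ∃ g ∈ Cfsg.M24, g • d = maskSet sqMask ∧ g x = ptA :=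
    ⟨g'⁻¹, inv_mem hg', by rw [inv_smul_eq_iff, ← squareDodecad_eq, hgd'],
      by rw [← hgx' 0]; exact g'.symm_apply_apply _⟩
  have hiff : ∀ s : Finset Cfsg.GolayPt, x ∈ s ↔ ptA ∈ g • s := fun s => by
    rw [← hgx, apply_mem_smul_iff]
  have cnt : ∀ k, {d' : Finset Cfsg.GolayPt | d' ∈ Cfsg.dodecads ∧ x ∈ d' ∧ (d ∩ d').card = k}.ncard
      = (dodecadList.filter fun m => m.testBit (0 : Fin 24) && meetsB sqMask k m).length := fun k => by
    rw [← ncard_dodecads_filter (fun s => ptA ∈ s ∧ (maskSet sqMask ∩ s).card = k) _ fun m => by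
      rw [Bool.and_eq_true, meetsB_iff, testBit_iff_mem]]
    exact ncard_smul g _ _ fun s => by
      rw [smul_mem_dodecads_iff hg, hiff, ← hgd, card_inter_smul]
  refine ⟨by rw [cnt]; decide +kernel, by rw [cnt]; decide +kernel, by rw [cnt]; decide +kernel,
    fun d' d'' hd' hd'' hx' hx'' h => ?_⟩
  obtain ⟨m, hm, hm'⟩ := mem_dodecads.1 (smul_mem_dodecads hg hd')
  obtain ⟨n, hn, hn'⟩ := mem_dodecads.1 (smul_mem_dodecads hg hd'')
  obtain ⟨k, hk, hkm⟩ := classes_transitive dodIn_classes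
    (List.mem_filter.2 ⟨hm, (testBit_iff_mem (i := 0)).2 (hm' ▸ (hiff d').1 hx')⟩)
    (List.mem_filter.2 ⟨hn, (testBit_iff_mem (i := 0)).2 (hn' ▸ (hiff d'').1 hx'')⟩) (by
    simp only [← card_maskSet, maskSet_and]
    rw [hm', hn', ← hgd, card_inter_smul, card_inter_smul, h])
  rw [hm', hn'] at hkm
  exact ⟨g⁻¹ * k * g, mul_mem (mul_mem (inv_mem hg) hk.1) hg,
    conj_fix (X := Cfsg.GolayPt) hgx (fix_of_mem_stabIn hk (by norm_num) (by simp)),
    conj_fix hgd (hk.2 _ List.mem_cons_self), conj_map hkm⟩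

end Cfsg.Agent.S1639
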