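import Cfsg.Statements.S1566
import Cfsg.Agent.Lib.Golay.SmallSets
import Cfsg.Agent.Lib.Golay.Maximal
import Cfsg.Agent.S1560
import Cfsg.Agent.S1561
import Cfsg.Agent.S1639
-- import your own Cfsg.Agent.* helpers here

set_option autoImplicit false
open scoped Pointwise
open Cfsg

namespace Cfsg.Agent.S1566

open Cfsg.Agent.Golay Cfsg.Agent.Golay.Cert
open scoped Pointwise

/-- The setwise stabiliser of a dodecad together with its complement is a maximal proper subgroup of the group of the length-24 code. -/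
theorem result (d : Finset Cfsg.GolayPt) (hd : d ∈ Cfsg.dodecads) : IsCoatom (MulAction.stabilizer Cfsg.M24 ({d, dᶜ} : Finset (Finset Cfsg.GolayPt))) := by
  classical
  have hdc := compl_mem_dodecads hd
  obtain ⟨x, hx⟩ := Finset.card_pos.1 (show 0 < d.card by rw [card_dodecad hd]; norm_num)
  set P : Finset Cfsg.GolayPt → Finset (Finset Cfsg.GolayPt) := fun e => {e, eᶜ} with hP
  have hsm : ∀ (g : Equiv.Perm Cfsg.GolayPt) e, g • P e = P (g • e) := fun g e => by
    have hcm : g • eᶜ = (g • e)ᶜ := by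
      ext p; simp [Finset.mem_compl, ← Finset.inv_smul_mem_iff]
    simp only [hP, Finset.smul_finset_insert, Finset.smul_finset_singleton, hcm]
  have hPc : ∀ e, P eᶜ = P e := fun e => by simp only [hP, compl_compl, Finset.pair_comm]
  have hPinj : ∀ e f : Finset Cfsg.GolayPt, x ∈ e → x ∈ f → P e = P f → e = f := fun e f he hf h => by
    have : e ∈ P f := h ▸ Finset.mem_insert_self _ _
    simp only [hP, Finset.mem_insert, Finset.mem_singleton] at this
    rcases this with this | this
    · exact this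
    · exact absurd hf (Finset.mem_compl.1 (this ▸ he))
  set A := {e : Finset Cfsg.GolayPt | e ∈ Cfsg.dodecads ∧ x ∈ e} with hA
  have horb : MulAction.orbit Cfsg.M24 ({d, dᶜ} : Finset (Finset Cfsg.GolayPt)) = P '' A := by
    ext y
    constructor
    · rintro ⟨g, rfl⟩
      have hg := smul_mem_dodecads g.2 hd
      show ((g : Equiv.Perm Cfsg.GolayPt) • P d) ∈ _
      rw [hsm]
      by_cases hxg : x ∈ (g : Equiv.Perm Cfsg.GolayPt) • d
      · exact ⟨_, ⟨hg, hxg⟩, rfl⟩
      · exact ⟨_, ⟨compl_mem_dodecads hg, Finset.mem_compl.2 hxg⟩, hPc _⟩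
    · rintro ⟨e, ⟨he, -⟩, rfl⟩
      obtain ⟨a, ha, ha'⟩ := exists_M24_dodecad hd
      obtain ⟨b, hb, hb'⟩ := exists_M24_dodecad he
      refine ⟨⟨b * a⁻¹, mul_mem hb (inv_mem ha)⟩, ?_⟩
      show (b * a⁻¹) • P d = P e
      rw [hsm, mul_smul, ← ha', inv_smul_smul, hb']
  have hc : ∀ e ∈ Cfsg.dodecads, (d ∩ eᶜ).card + (d ∩ e).card = 12 := fun e _ => by
    rw [← Finset.sdiff_eq_inter_compl, Finset.card_sdiff_add_card_inter, card_dodecad hd]
  let key : Finset (Finset Cfsg.GolayPt) → ℕ := fun y =>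
    if ∃ e ∈ y, (d ∩ e).card = 6 then 6 else if ∃ e ∈ y, (d ∩ e).card = 4 then 4 else 0
  have keyP : ∀ e ∈ A, key (P e) = if (d ∩ e).card = 6 then 6
      else if (d ∩ e).card = 4 ∨ (d ∩ e).card = 8 then 4 else 0 := fun e he => by
    have := hc e he.1
    simp only [key, hP, Finset.mem_insert, Finset.mem_singleton, exists_eq_or_imp, exists_eq_left]
    split_ifs <;> omega
  have kk : ∀ e ∈ A, (d ∩ e).card = 12 ∨ (d ∩ e).card = 4 ∨ (d ∩ e).card = 6 ∨ (d ∩ e).card = 8 := by
    intro e he
    rcases eq_or_ne e d with rfl | hne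
    · left; rw [Finset.inter_self, card_dodecad hd]
    · rcases (Cfsg.Agent.S1560.result d hd).1 e he.1 hne with h | h
      · exfalso
        have : x ∈ d ∩ e := Finset.mem_inter.2 ⟨hx, he.2⟩
        rw [Finset.card_eq_zero.1 h] at this
        simp at this
      · exact Or.inr h
  have hcls : ∀ k, {y | y ∈ P '' A ∧ key y = k}.ncard = {e | e ∈ A ∧ key (P e) = k}.ncard := by
    intro k
    rw [show {y | y ∈ P '' A ∧ key y = k} = P '' {e | e ∈ A ∧ key (P e) = k} by
      ext y; constructor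
      · rintro ⟨⟨e, he, rfl⟩, hk⟩; exact ⟨e, ⟨he, hk⟩, rfl⟩
      · rintro ⟨e, ⟨he, hk⟩, rfl⟩; exact ⟨⟨e, he, rfl⟩, hk⟩]
    exact Set.ncard_image_of_injOn fun e he f hf h => hPinj e f he.1.2 hf.1.2 h
  obtain ⟨c4, c8, c6, -⟩ := Cfsg.Agent.S1639.result x d hd hx
  have hA_card : A.ncard = 1288 := by
    obtain ⟨g, hg, hgx⟩ := exists_M24_map' (k := 1) (x := fun _ => x) (y := fun _ => ptA) (by norm_num)
      (Function.injective_of_subsingleton _) (Function.injective_of_subsingleton _)
    rw [hA, ncard_smul g _ (fun e => e ∈ Cfsg.dodecads ∧ ptA ∈ e) fun e => by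
        rw [smul_mem_dodecads_iff hg, ← hgx 0, apply_mem_smul_iff],
      ncard_dodecads_filter (fun e => ptA ∈ e) (fun m => m.testBit (0 : Fin 24)) fun m => testBit_iff_mem.symm]
    decide +kernel
  refine isCoatom_stabilizer_of_classes _ key {0, 4, 6}
    (fun k => if k = 0 then 1 else if k = 4 then 495 else 792) 1288 ?_ (by norm_num) (fun y _ => ?_)
    (fun k hk => ?_) (fun y hy z hz h => ?_) ?_
  · rw [horb, Set.ncard_image_of_injOn fun e he f hf h => hPinj e f he.2 hf.2 h, hA_card]
  · simp only [key, Finset.mem_insert, Finset.mem_singleton]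
    split_ifs <;> omega
  · rw [horb, hcls]
    simp only [Finset.mem_insert, Finset.mem_singleton] at hk
    rcases hk with rfl | rfl | rfl
    · rw [if_pos rfl]
      refine Set.ncard_eq_one.2 ⟨d, Set.ext fun e => ⟨fun h => ?_, ?_⟩⟩
      · obtain ⟨he, h⟩ := h
        rw [keyP e he] at h
        have := kk e he
        split_ifs at h <;> first | omega | skip
        have h12 : (d ∩ e).card = 12 := by omega
        have h1 := Finset.eq_of_subset_of_card_le (Finset.inter_subset_left (s₁ := d) (s₂ := e))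
          (by rw [h12, card_dodecad hd])
        have h2 := Finset.eq_of_subset_of_card_le (Finset.inter_subset_right (s₁ := d) (s₂ := e))
          (by rw [h12, card_dodecad he.1])
        exact Set.mem_singleton_iff.2 (h2.symm.trans h1)
      · rintro rfl
        refine ⟨⟨hd, hx⟩, ?_⟩
        rw [keyP _ ⟨hd, hx⟩, Finset.inter_self, card_dodecad hd]
        rfl
    · rw [if_neg (by norm_num), if_pos rfl]
      rw [show {e | e ∈ A ∧ key (P e) = 4}
          = {d' : Finset Cfsg.GolayPt | d' ∈ Cfsg.dodecads ∧ x ∈ d' ∧ (d ∩ d').card = 4}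
          ∪ {d' : Finset Cfsg.GolayPt | d' ∈ Cfsg.dodecads ∧ x ∈ d' ∧ (d ∩ d').card = 8} from ?_,
        Set.ncard_union_eq ?_, c4, c8]
      · exact Set.disjoint_left.2 fun e h1 h2 => by have := h1.2.2.symm.trans h2.2.2; omega
      · ext e
        simp only [Set.mem_ofPred_eq, Set.mem_union]
        constructor
        · rintro ⟨he, h⟩
          rw [keyP e he] at h
          split_ifs at h with h1 h2 <;> first | omega | skip
          rcases h2 with h2 | h2
          · exact Or.inl ⟨he.1, he.2, h2⟩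
          · exact Or.inr ⟨he.1, he.2, h2⟩
        · rintro (⟨a, b, c⟩ | ⟨a, b, c⟩) <;> refine ⟨⟨a, b⟩, ?_⟩ <;> rw [keyP e ⟨a, b⟩, c] <;> rfl
    · rw [if_neg (by norm_num), if_neg (by norm_num), ← c6]
      congr 1
      ext e
      constructor
      · rintro ⟨he, h⟩
        rw [keyP e he] at h
        split_ifs at h with h1 <;> first | omega | exact ⟨he.1, he.2, h1⟩
      · rintro ⟨a, b, c⟩
        refine ⟨⟨a, b⟩, ?_⟩
        rw [keyP e ⟨a, b⟩, c]; rfl
  · rw [horb] at hy hz
    obtain ⟨e, he, rfl⟩ := hy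
    obtain ⟨f, hf, rfl⟩ := hz
    rw [keyP e he, keyP f hf] at h
    have := kk e he
    have := kk f hf
    have := hc f hf.1
    obtain ⟨f', hf', hfe, hPf⟩ : ∃ f' ∈ Cfsg.dodecads, (d ∩ e).card = (d ∩ f').card ∧ P f' = P f := by
      by_cases heq : (d ∩ e).card = (d ∩ f).card
      · exact ⟨f, hf.1, heq, rfl⟩
      · refine ⟨fᶜ, compl_mem_dodecads hf.1, ?_, hPc f⟩
        split_ifs at h <;> omega
    obtain ⟨g, hg, hgd, hge⟩ := Cfsg.Agent.S1561.result d e f' hd he.1 hf' hfe
    refine ⟨⟨g, hg⟩, ?_, ?_⟩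
    · show g • P d = P d
      rw [hsm, hgd]
    · show g • P e = P f
      rw [hsm, hge, hPf]
  · have : key ({d, dᶜ} : Finset (Finset Cfsg.GolayPt)) = 0 := by
      have := keyP d ⟨hd, hx⟩
      rw [Finset.inter_self, card_dodecad hd] at this
      exact this
    simp only [this]
    decide

end Cfsg.Agent.S1566
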