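import Cfsg.Statements.S1567
import Cfsg.Agent.Lib.Leech.Basic
-- import your own Cfsg.Agent.* helpers here

set_option autoImplicit false
open Cfsg

namespace Cfsg.Agent.S1567

open Cfsg.Agent.Leech
open Cfsg.Agent.Golay

/-- Twelve octads spanning the code. -/
def octBasis : List ℕ := [5279, 10558, 18147, 36294, 69395, 133817, 262637, 525274, 1050548, 2101096, 4196943, 8391797]


/-- The rank-24 lattice is the additive subgroup generated by its 196560 minimal vectors. -/
theorem result : AddSubgroup.closure {x : Cfsg.GolayPt → ℤ | x ∈ Cfsg.leechLattice ∧ Cfsg.sqNorm x = 32} = Cfsg.leechLattice := by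
  refine le_antisymm ((AddSubgroup.closure_le _).2 fun x hx => hx.1) ?_
  set M := AddSubgroup.closure {x : Cfsg.GolayPt → ℤ | x ∈ Cfsg.leechLattice ∧ Cfsg.sqNorm x = 32} with hM
  have gen : ∀ m x, InLeech m x → Cfsg.sqNorm x = 32 → x ∈ M := fun m x h hn =>
    AddSubgroup.subset_closure ⟨mem_leech.2 ⟨m, h⟩, hn⟩
  have hzero : ∀ m : ℤ, ∀ x : Cfsg.GolayPt → ℤ, (∀ i, (4 : ℤ) ∣ x i - m) → hword m x ∈ Cfsg.golayCode := by
    intro m x h
    convert Cfsg.golayCode.zero_mem
    funext i
    obtain ⟨a, ha⟩ := h i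
    rw [hword, show (x i - m) / 2 = 2 * a by omega]
    simp [show (2 : ZMod 2) = 0 from rfl]
  let e : Cfsg.GolayPt → Cfsg.GolayPt → ℤ := fun p i => if i = p then 4 else 0
  have he : ∀ p i, e p i = 4 ∨ e p i = 0 := fun p i => by simp only [e]; split_ifs <;> simp
  have pair : ∀ p q, p ≠ q → e p + e q ∈ M ∧ e p - e q ∈ M := by
    intro p q hpq
    have key : ∀ p q : Cfsg.GolayPt, p ≠ q → (∑ i, (e p + e q) i = 8 ∧ Cfsg.sqNorm (e p + e q) = 32) ∧
        ∑ i, (e p - e q) i = 0 ∧ Cfsg.sqNorm (e p - e q) = 32 := by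
      intro p q hpq
      have hsum : ∀ r, ∑ i, e r i = 4 := fun r => by simp only [e, Finset.sum_ite_eq', Finset.mem_univ, if_true]
      have hsq : ∀ (f : Cfsg.GolayPt → ℤ), (∀ i, i ≠ p → i ≠ q → f i = 0) →
          Cfsg.sqNorm f = f p ^ 2 + f q ^ 2 := fun f hf => by
        rw [Cfsg.sqNorm, ← Finset.sum_pair (f := fun i => f i ^ 2) hpq]
        refine (Finset.sum_subset (Finset.subset_univ _) fun i _ hi => ?_).symm
        simp only [Finset.mem_insert, Finset.mem_singleton, not_or] at hi
        rw [hf i hi.1 hi.2]; norm_num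
      refine ⟨⟨by simp only [Pi.add_apply, Finset.sum_add_distrib, hsum]; norm_num, ?_⟩,
        by simp only [Pi.sub_apply, Finset.sum_sub_distrib, hsum]; norm_num, ?_⟩
      all_goals
        rw [hsq _ (fun i hi hi' => by simp [e, hi, hi'])]
        simp [e, hpq, hpq.symm]
    obtain ⟨⟨s1, n1⟩, s2, n2⟩ := key p q hpq
    constructor
    · refine gen 0 _ ⟨fun i => ?_, by rw [s1]; norm_num, hzero 0 _ fun i => ?_⟩ n1 <;>
        rcases he p i with h | h <;> rcases he q i with h' | h' <;> simp [h, h']
    · refine gen 0 _ ⟨fun i => ?_, by rw [s2]; norm_num, hzero 0 _ fun i => ?_⟩ n2 <;>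
        rcases he p i with h | h <;> rcases he q i with h' | h' <;> simp [h, h']
  let v : Cfsg.GolayPt → ℤ := fun i => if i = none then -3 else 1
  have hv : InLeech 1 v := ⟨fun i => by simp only [v]; split_ifs <;> norm_num, by decide +kernel,
    hzero 1 v fun i => by simp only [v]; split_ifs <;> norm_num⟩
  have hvM : v ∈ M := gen 1 v hv (by decide +kernel)
  let W : Submodule (ZMod 2) (Cfsg.GolayPt → ZMod 2) :=
    { carrier := {w | ∃ y ∈ M, InLeech 0 y ∧ hword 0 y = w}
      zero_mem' := ⟨0, M.zero_mem, inLeech_zero, by funext i; simp [hword]⟩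
      add_mem' := by
        rintro a b ⟨y, hy, hyL, rfl⟩ ⟨z, hz, hzL, rfl⟩
        refine ⟨y + z, M.add_mem hy hz, by simpa using hyL.add hzL, ?_⟩
        funext i
        have h1 := hyL.1 i
        have h2 := hzL.1 i
        simp only [hword, Pi.add_apply, ← Int.cast_add]
        congr 1
        omega
      smul_mem' := by
        rintro c a ⟨y, hy, hyL, rfl⟩
        rcases zmod2_cases c with rfl | rfl
        · exact ⟨0, M.zero_mem, inLeech_zero, by funext i; simp [hword]⟩
        · exact ⟨y, hy, hyL, by simp⟩ }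
  have hW : ∀ b ∈ octBasis, ofMask b ∈ W := by
    intro b hb
    obtain ⟨hc, h8⟩ := (show inCode b = true ∧ popCount b 24 = 8 by
      have hall : octBasis.all (fun b => inCode b && Nat.beq (popCount b 24) 8) = true := by decide +kernel
      simpa using List.all_eq_true.1 hall b hb)
    let y : Cfsg.GolayPt → ℤ := fun i => if b.testBit (idx i) then 2 else 0
    have hh : hword 0 y = ofMask b := by
      funext i; simp only [hword, y, ofMask]; cases b.testBit (idx i) <;> rfl
    have hs : ∀ c : ℤ, (∑ i, if b.testBit (idx i) then c else 0) = 8 * c := fun c => by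
      rw [Finset.sum_ite, Finset.sum_const, Finset.sum_const_zero, add_zero, nsmul_eq_mul]
      have : (Finset.univ.filter fun i => b.testBit (idx i) = true).card = 8 := by
        rw [← h8, ← card_maskSet]; rfl
      rw [this]; norm_num
    have hy : InLeech 0 y := ⟨fun i => by simp only [y]; split_ifs <;> norm_num,
      by rw [hs 2]; norm_num, by rw [hh]; exact ofMask_mem_golayCode hc⟩
    refine ⟨y, gen 0 y hy ?_, hy, hh⟩
    have : Cfsg.sqNorm y = ∑ i, if b.testBit (idx i) then (4 : ℤ) else 0 :=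
      Finset.sum_congr rfl fun i _ => by simp only [y]; split_ifs <;> norm_num
    rw [this, hs]; norm_num
  intro x hx
  obtain ⟨m, hm01, hm⟩ := exists_parity hx
  obtain ⟨x1, hx1, hx1e⟩ : ∃ x1, InLeech 0 x1 ∧ x - x1 ∈ M := by
    rcases hm01 with rfl | rfl
    · exact ⟨x, hm, by rw [sub_self]; exact M.zero_mem⟩
    · exact ⟨x - v, by simpa [sub_eq_add_neg] using hm.add hv.neg, by rw [sub_sub_cancel]; exact hvM⟩
  obtain ⟨a, ha, hae⟩ := mem_golayCode.1 hx1.2.2
  obtain ⟨y, hyM, hyL, hyh⟩ : ofMask a ∈ W :=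
    spanList_mem_submodule _ (fun b hb => by
      have hspan : (gBasis.map fun u => u.2).all (fun b => memB b (spanList octBasis)) = true := by decide +kernel
      exact spanList_mem_submodule _ hW b (memB_spec (List.all_eq_true.1 hspan b hb))) a ha
  have hq : ∀ i, ∃ q, (x1 - y) i = 4 * q := by
    intro i
    obtain ⟨s, hs⟩ := hx1.1 i
    obtain ⟨t, ht⟩ := hyL.1 i
    have h := congrFun (hyh.trans hae) i
    simp only [hword, show (y i - 0) / 2 = t by omega, show (x1 i - 0) / 2 = s by omega,
      ZMod.intCast_eq_intCast_iff'] at h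
    exact ⟨(s - t) / 2, by simp only [Pi.sub_apply]; omega⟩
  choose q hq using hq
  have hsumq : (2 : ℤ) ∣ ∑ i, q i := by
    have h1 := hx1.2.1; have h2 := hyL.2.1
    have : ∑ i, x1 i - ∑ i, y i = 4 * ∑ i, q i := by
      rw [← Finset.sum_sub_distrib, Finset.mul_sum]; exact Finset.sum_congr rfl fun i _ => hq i
    omega
  obtain ⟨r, hr⟩ := hsumq
  have hrest : x1 - y ∈ M := by
    have heq : x1 - y = (∑ i, q i • (e i - e none)) + r • ((e none + e (some 0)) + (e none - e (some 0))) := by
      funext j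
      simp only [Pi.add_apply, Finset.sum_apply, Pi.smul_apply, Pi.sub_apply, smul_eq_mul, mul_sub,
        Finset.sum_sub_distrib, ← Finset.sum_mul]
      have h1 : ∑ i, q i * e i j = 4 * q j := by
        simp only [e, mul_ite, mul_zero, Finset.sum_ite_eq, Finset.mem_univ, if_true]
        ring
      have h2 := hq j
      simp only [Pi.sub_apply] at h2
      rw [h1, h2, hr]; ring
    rw [heq]
    refine M.add_mem (M.sum_mem fun i _ => ?_) (M.zsmul_mem (M.add_mem (pair _ _ (by simp)).1 (pair _ _ (by simp)).2) r)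
    rcases eq_or_ne i none with rfl | hi
    · rw [sub_self, smul_zero]; exact M.zero_mem
    · exact M.zsmul_mem (pair i none hi).2 _
  have : x = (x - x1) + ((x1 - y) + y) := by abel
  rw [this]
  exact M.add_mem hx1e (M.add_mem hrest hyM)

end Cfsg.Agent.S1567
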