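import Cfsg.Statements.S1568
import Cfsg.Agent.Lib.Leech.Census
-- import your own Cfsg.Agent.* helpers here

set_option autoImplicit false
open Cfsg

namespace Cfsg.Agent.S1568

open Cfsg.Agent.Leech
open Cfsg.Agent.Golay

/-- Shape census of the lattice vectors of sum of squares 48 (customary norm 6): the four families (2^12, 0^12), (±3^3, ±1^21), (±4, ±2^8, 0^15) and (±5, ±1^23) have 5275648, 8290304, 3108864 and 98304 members. -/
theorem result : {x : Cfsg.GolayPt → ℤ | x ∈ Cfsg.leechLattice ∧ Cfsg.sqNorm x = 48 ∧ ∀ i, x i = 0 ∨ x i = 2 ∨ x i = -2}.ncard = 5275648 ∧ {x : Cfsg.GolayPt → ℤ | x ∈ Cfsg.leechLattice ∧ Cfsg.sqNorm x = 48 ∧ ∃ i j k, i ≠ j ∧ j ≠ k ∧ i ≠ k ∧ |x i| = 3 ∧ |x j| = 3 ∧ |x k| = 3}.ncard = 8290304 ∧ {x : Cfsg.GolayPt → ℤ | x ∈ Cfsg.leechLattice ∧ Cfsg.sqNorm x = 48 ∧ ∃ i, |x i| = 4}.ncard = 3108864 ∧ {x : Cfsg.GolayPt → ℤ | x ∈ Cfsg.leechLattice ∧ Cfsg.sqNorm x = 48 ∧ ∃ i, |x i| = 5}.ncard = 98304 := by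
  have hnorm : ∀ x : Cfsg.GolayPt → ℤ, Cfsg.sqNorm x = 48 → ∀ i, -6 ≤ x i ∧ x i ≤ 6 := by
    intro x hx i
    have := single_le_sqNorm x i
    constructor <;> nlinarith
  have h48 : ∀ x : Cfsg.GolayPt → ℤ, Cfsg.sqNorm x = ((48 : ℕ) : ℤ) ↔ Cfsg.sqNorm x = 48 := fun x => by norm_num
  have count : ∀ (P : ℤ → Bool) (S : Set (Cfsg.GolayPt → ℤ)) (n : ℕ),
      (∀ x, x ∈ S ↔ x ∈ Cfsg.leechLattice ∧ Cfsg.sqNorm x = 48 ∧ ∀ i, P (x i) = true) →
      census P 48 = n → S.ncard = n := by
    intro P S n hS hn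
    rw [← hn, ← ncard_census P (N := 48) (by norm_num)]
    congr 1
    ext x
    rw [hS]
    exact and_congr Iff.rfl (and_congr (h48 x).symm Iff.rfl)
  have odd_rest : ∀ x : Cfsg.GolayPt → ℤ, x ∈ Cfsg.leechLattice → ∀ i, (x i) % 2 = 1 → ∀ j, 1 ≤ x j ^ 2 := by
    intro x hx i hi j
    obtain ⟨m, hm⟩ := mem_leech.1 hx
    have := hm.1 i; have := hm.1 j
    have : x j ≤ -1 ∨ 1 ≤ x j := by omega
    rcases this with h | h <;> nlinarith
  have split : ∀ (x : Cfsg.GolayPt → ℤ) (s : Finset Cfsg.GolayPt) (i : Cfsg.GolayPt), i ∉ s →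
      (∀ j, 1 ≤ x j ^ 2) → ∑ j ∈ s, x j ^ 2 + x i ^ 2 + (23 - s.card : ℤ) ≤ Cfsg.sqNorm x := by
    intro x s i his h1
    have h : ∑ j ∈ (insert i s)ᶜ, (1 : ℤ) ≤ ∑ j ∈ (insert i s)ᶜ, x j ^ 2 := Finset.sum_le_sum fun j _ => h1 j
    rw [Finset.sum_const, nsmul_eq_mul, mul_one, Finset.card_compl,
      show Fintype.card Cfsg.GolayPt = 24 from rfl, Finset.card_insert_of_notMem his] at h
    have hle : s.card + 1 ≤ 24 := by
      have := Finset.card_le_univ (insert i s)
      rwa [Finset.card_insert_of_notMem his, show Fintype.card Cfsg.GolayPt = 24 from rfl] at this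
    rw [Nat.cast_sub hle] at h
    have : Cfsg.sqNorm x = ∑ j ∈ insert i s, x j ^ 2 + ∑ j ∈ (insert i s)ᶜ, x j ^ 2 :=
      (Finset.sum_add_sum_compl _ _).symm
    rw [this, Finset.sum_insert his]
    push_cast at h
    linarith
  refine ⟨count (fun v => decide (v = 0 ∨ v = 2 ∨ v = -2)) _ _ (fun x => by simp) (by decide +kernel),
    count (fun v => decide (v = 1 ∨ v = -1 ∨ v = 3 ∨ v = -3)) _ _ (fun x => ?_) (by decide +kernel), ?_,
    count (fun v => decide (v = 1 ∨ v = -1 ∨ v = 5 ∨ v = -5)) _ _ (fun x => ?_) (by decide +kernel)⟩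
  · constructor
    · rintro ⟨hx, hn, i, j, k, hij, hjk, hik, hi, hj, hk⟩
      refine ⟨hx, hn, fun l => ?_⟩
      have h9 : ∀ a : ℤ, |a| = 3 → a ^ 2 = 9 := fun a h => by rw [← sq_abs, h]; norm_num
      have h1 := odd_rest x hx i (by rcases abs_choice (x i) with h | h <;> omega)
      simp only [decide_eq_true_eq]
      by_cases hl : l = i ∨ l = j ∨ l = k
      · have : |x l| = 3 := by rcases hl with rfl | rfl | rfl <;> assumption
        rcases abs_choice (x l) with h | h <;> omega
      · push_neg at hl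
        have := split x {i, j, k} l (by simp [hl.1, hl.2.1, hl.2.2]) h1
        rw [Finset.sum_insert (by simp [hij, hik]), Finset.sum_pair hjk, h9 _ hi, h9 _ hj, h9 _ hk, hn,
          Finset.card_insert_of_notMem (by simp [hij, hik]), Finset.card_pair hjk] at this
        push_cast at this
        have hb := hnorm x hn l
        have h2 := h1 l
        have h3 : -1 ≤ x l ∧ x l ≤ 1 := by constructor <;> nlinarith
        have : x l ≠ 0 := fun h0 => by rw [h0] at h2; norm_num at h2
        omega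
    · rintro ⟨hx, hn, hP⟩
      refine ⟨hx, hn, ?_⟩
      simp only [decide_eq_true_eq] at hP
      let s := Finset.univ.filter fun i => |x i| = 3
      have hs : ∀ i, x i ^ 2 = if |x i| = 3 then (9 : ℤ) else 1 := fun i => by
        rcases hP i with h | h | h | h <;> rw [h] <;> norm_num
      have hsum : Cfsg.sqNorm x = 8 * (s.card : ℤ) + 24 := by
        rw [Cfsg.sqNorm, Finset.sum_congr rfl (fun i _ => hs i), Finset.sum_ite, Finset.sum_const, Finset.sum_const,
          nsmul_eq_mul, nsmul_eq_mul, mul_one]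
        have h24 := Finset.card_filter_add_card_filter_not (s := (Finset.univ : Finset Cfsg.GolayPt)) (fun i => |x i| = 3)
        rw [show (Finset.univ : Finset Cfsg.GolayPt).card = 24 from rfl] at h24
        push_cast
        have h24' : (s.card : ℤ) + ((Finset.univ.filter fun i => ¬ |x i| = 3).card : ℤ) = 24 := by exact_mod_cast h24
        linarith
      obtain ⟨i, j, k, hij, hik, hjk, hs3⟩ := Finset.card_eq_three.1 (by omega : s.card = 3)
      have hm : ∀ l ∈ s, |x l| = 3 := fun l hl => (Finset.mem_filter.1 hl).2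
      exact ⟨i, j, k, hij, hjk, hik, hm i (by simp [hs3]), hm j (by simp [hs3]), hm k (by simp [hs3])⟩
  · let A := {x : Cfsg.GolayPt → ℤ | x ∈ Cfsg.leechLattice ∧ Cfsg.sqNorm x = 48 ∧
      ∀ i, (fun v => decide (v % 2 = 0)) (x i) = true}
    let B := {x : Cfsg.GolayPt → ℤ | x ∈ Cfsg.leechLattice ∧ Cfsg.sqNorm x = 48 ∧
      ∀ i, (fun v => decide (v = 0 ∨ v = 2 ∨ v = -2 ∨ v = 4 ∨ v = -4)) (x i) = true}
    let D := {x : Cfsg.GolayPt → ℤ | x ∈ Cfsg.leechLattice ∧ Cfsg.sqNorm x = 48 ∧
      ∀ i, x i = 0 ∨ x i = 2 ∨ x i = -2}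
    have hA : A.ncard = 8384512 := count (fun v => decide (v % 2 = 0)) A _ (fun x => Iff.rfl) (by decide +kernel)
    have hB : B.ncard = 8384512 := count (fun v => decide (v = 0 ∨ v = 2 ∨ v = -2 ∨ v = 4 ∨ v = -4)) B _ (fun x => Iff.rfl) (by decide +kernel)
    have hD : D.ncard = 5275648 := count (fun v => decide (v = 0 ∨ v = 2 ∨ v = -2)) D _ (fun x => by simp [D]) (by decide +kernel)
    have hBA : B = A := by
      refine Set.eq_of_subset_of_ncard_le ?_ (by rw [hA, hB]) (Set.finite_of_ncard_ne_zero (by rw [hA]; norm_num))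
      rintro x ⟨hx, hn, h⟩
      refine ⟨hx, hn, fun i => ?_⟩
      have := h i
      simp only [decide_eq_true_eq] at this ⊢
      omega
    have hDB : D ⊆ B := fun x hx => ⟨hx.1, hx.2.1, fun i => by
      have := hx.2.2 i; simp only [decide_eq_true_eq]; omega⟩
    have hset : {x : Cfsg.GolayPt → ℤ | x ∈ Cfsg.leechLattice ∧ Cfsg.sqNorm x = 48 ∧ ∃ i, |x i| = 4} = B \ D := by
      ext x
      constructor
      · rintro ⟨hx, hn, i, hi⟩
        have hxA : x ∈ A := by
          refine ⟨hx, hn, fun j => ?_⟩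
          obtain ⟨m, hm⟩ := mem_leech.1 hx
          have := hm.1 i; have := hm.1 j
          simp only [decide_eq_true_eq]
          rcases abs_choice (x i) with h | h <;> omega
        exact ⟨hBA ▸ hxA, fun hd => by rcases hd.2.2 i with h | h | h <;> rw [h] at hi <;> norm_num at hi⟩
      · rintro ⟨⟨hx, hn, h⟩, hd⟩
        refine ⟨hx, hn, ?_⟩
        by_contra hcon
        push_neg at hcon
        refine hd ⟨hx, hn, fun i => ?_⟩
        have := h i
        simp only [decide_eq_true_eq] at this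
        rcases this with h' | h' | h' | h' | h'
        · exact Or.inl h'
        · exact Or.inr (Or.inl h')
        · exact Or.inr (Or.inr h')
        · exact absurd (by rw [h']; norm_num) (hcon i)
        · exact absurd (by rw [h']; norm_num) (hcon i)
    rw [hset, Set.ncard_sdiff hDB (Set.finite_of_ncard_ne_zero (by rw [hD]; norm_num)), hB, hD]
  · constructor
    · rintro ⟨hx, hn, i, hi⟩
      refine ⟨hx, hn, fun l => ?_⟩
      have h25 : x i ^ 2 = 25 := by rw [← sq_abs, hi]; norm_num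
      have h1 := odd_rest x hx i (by rcases abs_choice (x i) with h | h <;> omega)
      simp only [decide_eq_true_eq]
      by_cases hl : l = i
      · subst hl; rcases abs_choice (x l) with h | h <;> omega
      · have := split x {i} l (by simp [hl]) h1
        rw [Finset.sum_singleton, h25, hn, Finset.card_singleton] at this
        push_cast at this
        have h2 := h1 l
        have h3 : -1 ≤ x l ∧ x l ≤ 1 := by constructor <;> nlinarith
        have : x l ≠ 0 := fun h0 => by rw [h0] at h2; norm_num at h2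
        omega
    · rintro ⟨hx, hn, hP⟩
      refine ⟨hx, hn, ?_⟩
      simp only [decide_eq_true_eq] at hP
      by_contra hcon
      push_neg at hcon
      have : ∀ i, x i ^ 2 = 1 := fun i => by
        rcases hP i with h | h | h | h
        · rw [h]; norm_num
        · rw [h]; norm_num
        · exact absurd (by rw [h]; norm_num) (hcon i)
        · exact absurd (by rw [h]; norm_num) (hcon i)
      rw [Cfsg.sqNorm, Finset.sum_congr rfl (fun i _ => this i)] at hn
      simp at hn

end Cfsg.Agent.S1568
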