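import Cfsg.Statements.S1573
import Cfsg.Agent.Lib.Leech.Pairs
-- import your own Cfsg.Agent.* helpers here

set_option autoImplicit false
open Cfsg

namespace Cfsg.Agent.S1573

open Cfsg Cfsg.Agent.Golay Cfsg.Agent.Leech

theorem ip4 {x : leechLattice} (h : sqNorm (x : GolayPt → ℤ) = 32) : ip x x = 4 := by
  have := eight_ip_self x; omega

theorem ipd {x y : leechLattice} {d : ℤ} (h : dotInt (x : GolayPt → ℤ) y = 8 * d) : ip x y = d := by
  have := eight_ip x y; omega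

/-- Census of minimal vectors by inner product with a fixed minimal vector: 4600 have customary inner product −2, 47104 have −1, and 93150 are orthogonal. -/
theorem result (v : Cfsg.GolayPt → ℤ) (hv : v ∈ Cfsg.leechLattice) (hvn : Cfsg.sqNorm v = 32) : {w : Cfsg.GolayPt → ℤ | w ∈ Cfsg.leechLattice ∧ Cfsg.sqNorm w = 32 ∧ Cfsg.dotInt v w = -16}.ncard = 4600 ∧ {w : Cfsg.GolayPt → ℤ | w ∈ Cfsg.leechLattice ∧ Cfsg.sqNorm w = 32 ∧ Cfsg.dotInt v w = -8}.ncard = 47104 ∧ {w : Cfsg.GolayPt → ℤ | w ∈ Cfsg.leechLattice ∧ Cfsg.sqNorm w = 32 ∧ Cfsg.dotInt v w = 0}.ncard = 93150 := by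
  have key : ∀ n : ℤ, {w : GolayPt → ℤ | w ∈ leechLattice ∧ sqNorm w = 32 ∧ dotInt v w = 8 * n}
      = Subtype.val '' withIp ⟨v, hv⟩ n := by
    intro n
    ext w
    constructor
    · rintro ⟨hw, h1, h2⟩
      refine ⟨⟨w, hw⟩, ⟨ip4 h1, ipd h2⟩, rfl⟩
    · rintro ⟨w, ⟨h1, h2⟩, rfl⟩
      have e1 := eight_ip_self w
      have e2 := eight_ip ⟨v, hv⟩ w
      exact ⟨w.2, by omega, by rw [← e2, h2]⟩
  obtain ⟨a, b, c⟩ := census4 (v := ⟨v, hv⟩) (ip4 hvn)
  refine ⟨?_, ?_, ?_⟩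
  · rw [← a, ← Set.ncard_image_of_injective _ Subtype.val_injective, ← key]; rfl
  · rw [← b, ← Set.ncard_image_of_injective _ Subtype.val_injective, ← key]; rfl
  · rw [← c, ← Set.ncard_image_of_injective _ Subtype.val_injective, ← key]; rfl

end Cfsg.Agent.S1573
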