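import Cfsg.Statements.S1575
import Cfsg.Agent.Lib.Leech.Pairs
-- import your own Cfsg.Agent.* helpers here

set_option autoImplicit false
open Cfsg

namespace Cfsg.Agent.S1575

open Cfsg Cfsg.Agent.Golay Cfsg.Agent.Leech

theorem ip4 {x : leechLattice} (h : sqNorm (x : GolayPt → ℤ) = 32) : ip x x = 4 := by
  have := eight_ip_self x; omega

theorem ipd {x y : leechLattice} {d : ℤ} (h : dotInt (x : GolayPt → ℤ) y = 8 * d) : ip x y = d := by
  have := eight_ip x y; omega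

/-- The stabiliser of a minimal vector is transitive on the minimal vectors of customary inner product −1 with it. -/
theorem result (v w w' : ↥Cfsg.leechLattice) (hv : Cfsg.sqNorm (v : Cfsg.GolayPt → ℤ) = 32) (hw : Cfsg.sqNorm (w : Cfsg.GolayPt → ℤ) = 32) (hw' : Cfsg.sqNorm (w' : Cfsg.GolayPt → ℤ) = 32) (hd : Cfsg.dotInt (v : Cfsg.GolayPt → ℤ) (w : Cfsg.GolayPt → ℤ) = -8) (hd' : Cfsg.dotInt (v : Cfsg.GolayPt → ℤ) (w' : Cfsg.GolayPt → ℤ) = -8) : ∃ g : ↥Cfsg.Co0, g • v = v ∧ g • w = w' := by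
  exact transitive_neg1 (ip4 hv) (ip4 hw) (ip4 hw') (ipd (by rw [hd]; rfl)) (ipd (by rw [hd']; rfl))

end Cfsg.Agent.S1575
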