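import Cfsg.Statements.S1576
import Cfsg.Agent.Lib.Leech.Pairs
-- import your own Cfsg.Agent.* helpers here

set_option autoImplicit false
open Cfsg

namespace Cfsg.Agent.S1576

open Cfsg Cfsg.Agent.Golay Cfsg.Agent.Leech

theorem ip4 {x : leechLattice} (h : sqNorm (x : GolayPt → ℤ) = 32) : ip x x = 4 := by
  have := eight_ip_self x; omega

theorem ipd {x y : leechLattice} {d : ℤ} (h : dotInt (x : GolayPt → ℤ) y = 8 * d) : ip x y = d := by
  have := eight_ip x y; omega

/-- The stabiliser of a minimal vector is transitive on the pairs of opposite minimal vectors orthogonal to it. -/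
theorem result (v w w' : ↥Cfsg.leechLattice) (hv : Cfsg.sqNorm (v : Cfsg.GolayPt → ℤ) = 32) (hw : Cfsg.sqNorm (w : Cfsg.GolayPt → ℤ) = 32) (hw' : Cfsg.sqNorm (w' : Cfsg.GolayPt → ℤ) = 32) (hd : Cfsg.dotInt (v : Cfsg.GolayPt → ℤ) (w : Cfsg.GolayPt → ℤ) = 0) (hd' : Cfsg.dotInt (v : Cfsg.GolayPt → ℤ) (w' : Cfsg.GolayPt → ℤ) = 0) : ∃ g : ↥Cfsg.Co0, g • v = v ∧ (g • w = w' ∨ g • w = -w') := by
  have hab : (none : GolayPt) ≠ some 0 := by simp
  obtain ⟨g, g1, g2⟩ := exists_pair_frame' (ip4 hv) (ip4 hw) (ipd (by rw [hd]; rfl)) hab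
  obtain ⟨k, k1, k2⟩ := exists_pair_frame' (ip4 hv) (ip4 hw') (ipd (by rw [hd']; rfl)) hab
  have ev : g • v = k • v := half_unique (by
    calc g • v + g • v = g • (v + w) + g • (v - w) := by rw [co0_add, co0_sub]; abel
      _ = k • (v + w') + k • (v - w') := by rw [g1, g2, k1, k2]
      _ = k • v + k • v := by rw [co0_add, co0_sub]; abel)
  refine ⟨k⁻¹ * g, by rw [mul_smul, ev, inv_smul_smul], Or.inl ?_⟩
  have e : g • (v + w) = k • (v + w') := by rw [g1, k1]
  rw [co0_add, co0_add, ev] at e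
  rw [mul_smul, add_left_cancel e, inv_smul_smul]

end Cfsg.Agent.S1576
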