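import Cfsg.Statements.S1578
import Cfsg.Agent.Lib.Leech.Pairs
-- import your own Cfsg.Agent.* helpers here

set_option autoImplicit false
open Cfsg

namespace Cfsg.Agent.S1578

open Cfsg Cfsg.Agent.Golay Cfsg.Agent.Leech

theorem ip4 {x : leechLattice} (h : sqNorm (x : GolayPt → ℤ) = 32) : ip x x = 4 := by
  have := eight_ip_self x; omega

theorem ipd {x y : leechLattice} {d : ℤ} (h : dotInt (x : GolayPt → ℤ) y = 8 * d) : ip x y = d := by
  have := eight_ip x y; omega

theorem ip3 {u v : leechLattice} (hu : sqNorm (u : GolayPt → ℤ) = 48)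
    (hv : sqNorm (v : GolayPt → ℤ) = 32 ∧ sqNorm ((u - v) : GolayPt → ℤ) = 32) : ip u v = 3 := by
  have h := LatticeMod2.norm_sub rootless_ip u v
  have e1 := eight_ip_self u
  have e2 := eight_ip_self v
  have e3 := eight_ip_self (u - v)
  rw [AddSubgroup.coe_sub, hv.2] at e3
  omega

/-- A lattice vector of customary norm 6 is the sum of an unordered pair of minimal vectors in exactly 276 ways (552 ordered summands). -/
theorem result (u : ↥Cfsg.leechLattice) (hu : Cfsg.sqNorm (u : Cfsg.GolayPt → ℤ) = 48) : {v : ↥Cfsg.leechLattice | Cfsg.sqNorm (v : Cfsg.GolayPt → ℤ) = 32 ∧ Cfsg.sqNorm ((u - v) : Cfsg.GolayPt → ℤ) = 32}.ncard = 552 := by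
  have hu6 : ip u u = 6 := by have := eight_ip_self u; omega
  rw [← ncard_decomp hu6]
  congr 1
  ext v
  refine ⟨fun h => ⟨ip4 h.1, ip3 hu h⟩, fun h => ?_⟩
  obtain ⟨h4, h3⟩ := h
  have e2 := eight_ip_self v
  have e3 := eight_ip_self (u - v)
  rw [AddSubgroup.coe_sub] at e3
  rw [LatticeMod2.norm_sub rootless_ip, hu6, h4, h3] at e3
  exact ⟨by omega, by linarith⟩

end Cfsg.Agent.S1578
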