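import Cfsg.Statements.S1580
import Cfsg.Agent.Lib.Leech.McLConfig
-- import your own Cfsg.Agent.* helpers here

set_option autoImplicit false
open Cfsg

namespace Cfsg.Agent.S1580

open Cfsg Cfsg.Agent.Golay Cfsg.Agent.Leech

theorem ip3_iff {u v : leechLattice} (hu : ip u u = 6) :
    sqNorm (v : GolayPt → ℤ) = 32 ∧ sqNorm ((u - v) : GolayPt → ℤ) = 32 ↔ ip v v = 4 ∧ ip u v = 3 := by
  have h := LatticeMod2.norm_sub rootless_ip u v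
  have e2 := eight_ip_self v
  have e3 := eight_ip_self (u - v)
  rw [AddSubgroup.coe_sub] at e3
  omega

/-- The McLaughlin configuration: for u of customary norm 6 and v minimal with u − v minimal, there are 275 further such summands x of customary inner product 2 with v, permuted transitively by the stabiliser of u and v. -/
theorem result (u v : ↥Cfsg.leechLattice) (hu : Cfsg.sqNorm (u : Cfsg.GolayPt → ℤ) = 48) (hv : Cfsg.sqNorm (v : Cfsg.GolayPt → ℤ) = 32 ∧ Cfsg.sqNorm ((u - v) : Cfsg.GolayPt → ℤ) = 32) : {x : ↥Cfsg.leechLattice | Cfsg.sqNorm (x : Cfsg.GolayPt → ℤ) = 32 ∧ Cfsg.sqNorm ((u - x) : Cfsg.GolayPt → ℤ) = 32 ∧ Cfsg.dotInt (v : Cfsg.GolayPt → ℤ) (x : Cfsg.GolayPt → ℤ) = 16}.ncard = 275 ∧ ∀ x ∈ {x : ↥Cfsg.leechLattice | Cfsg.sqNorm (x : Cfsg.GolayPt → ℤ) = 32 ∧ Cfsg.sqNorm ((u - x) : Cfsg.GolayPt → ℤ) = 32 ∧ Cfsg.dotInt (v : Cfsg.GolayPt → ℤ)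 (x : Cfsg.GolayPt → ℤ) = 16}, ∀ x' ∈ {x : ↥Cfsg.leechLattice | Cfsg.sqNorm (x : Cfsg.GolayPt → ℤ) = 32 ∧ Cfsg.sqNorm ((u - x) : Cfsg.GolayPt → ℤ) = 32 ∧ Cfsg.dotInt (v : Cfsg.GolayPt → ℤ) (x : Cfsg.GolayPt → ℤ) = 16}, ∃ g : ↥Cfsg.Co0, g • u = u ∧ g • v = v ∧ g • x = x' := by
  have hu6 : ip u u = 6 := by have := eight_ip_self u; omega
  obtain ⟨hv4, huv⟩ := (ip3_iff hu6).1 hv
  have hset : {x : leechLattice | sqNorm (x : GolayPt → ℤ) = 32 ∧ sqNorm ((u - x) : GolayPt → ℤ) = 32 ∧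
      dotInt (v : GolayPt → ℤ) x = 16} = mclSet u v := by
    ext x
    have := eight_ip v x
    have := ip3_iff hu6 (v := x)
    show _ ∧ _ ∧ _ ↔ _ ∧ _ ∧ _
    constructor
    · rintro ⟨a, b, c⟩
      obtain ⟨p, q⟩ := (ip3_iff hu6).1 ⟨a, b⟩
      exact ⟨p, q, by omega⟩
    · rintro ⟨p, q, c⟩
      obtain ⟨a, b⟩ := (ip3_iff hu6).2 ⟨p, q⟩
      exact ⟨a, b, by omega⟩
  rw [hset]
  exact ⟨ncard_mclSet hu6 hv4 huv, fun x hx x' hx' => mcl_transitive hu6 hv4 huv hx hx'⟩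

end Cfsg.Agent.S1580
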