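import Cfsg.Statements.S1581
import Cfsg.Agent.Lib.Leech.McLRank3
-- import your own Cfsg.Agent.* helpers here

set_option autoImplicit false
open Cfsg

namespace Cfsg.Agent.S1581

open Cfsg Cfsg.Agent.Golay Cfsg.Agent.Leech

theorem ip3_iff {u v : leechLattice} (hu : ip u u = 6) :
    sqNorm (v : GolayPt → ℤ) = 32 ∧ sqNorm ((u - v) : GolayPt → ℤ) = 32 ↔ ip v v = 4 ∧ ip u v = 3 := by
  have h := LatticeMod2.norm_sub rootless_ip u v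
  have e2 := eight_ip_self v
  have e3 := eight_ip_self (u - v)
  rw [AddSubgroup.coe_sub] at e3
  omega


/-- The McLaughlin group acts with rank 3 and subdegrees 1, 112, 162 on its 275 points: the point stabiliser has two orbits on the remaining points, distinguished by customary inner product 1 or 2 with the fixed point. -/
theorem result (u v x : ↥Cfsg.leechLattice) (hu : Cfsg.sqNorm (u : Cfsg.GolayPt → ℤ) = 48) (hv : Cfsg.sqNorm (v : Cfsg.GolayPt → ℤ) = 32 ∧ Cfsg.sqNorm ((u - v) : Cfsg.GolayPt → ℤ) = 32) (hx : x ∈ {x : ↥Cfsg.leechLattice | Cfsg.sqNorm (x : Cfsg.GolayPt → ℤ) = 32 ∧ Cfsg.sqNorm ((u - x) : Cfsg.GolayPt → ℤ) = 32 ∧ Cfsg.dotInt (v : Cfsg.GolayPt → ℤ) (x : Cfsg.GolayPt → ℤ) = 16}) : {y : ↥Cfsg.leechLattice | y ∈ {x : ↥Cfsg.leechLattice | Cfsg.sqNorm (x : Cfsg.GolayPt → ℤ) = 32 ∧ Cfsg.sqNorm ((u - x) :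 Cfsg.GolayPt → ℤ) = 32 ∧ Cfsg.dotInt (v : Cfsg.GolayPt → ℤ) (x : Cfsg.GolayPt → ℤ) = 16} ∧ Cfsg.dotInt (x : Cfsg.GolayPt → ℤ) (y : Cfsg.GolayPt → ℤ) = 8}.ncard = 112 ∧ {y : ↥Cfsg.leechLattice | y ∈ {x : ↥Cfsg.leechLattice | Cfsg.sqNorm (x : Cfsg.GolayPt → ℤ) = 32 ∧ Cfsg.sqNorm ((u - x) : Cfsg.GolayPt → ℤ) = 32 ∧ Cfsg.dotInt (v : Cfsg.GolayPt → ℤ) (x : Cfsg.GolayPt → ℤ) = 16} ∧ y ≠ x ∧ Cfsg.dotInt (x : Cfsg.GolayPt → ℤ) (y : Cfsg.GolayPt → ℤ) = 16}.ncard = 162 ∧ ∀ y ∈ {x : ↥Cfsg.leechLattice | Cfsg.sqNorm (x : Cfsg.GolayPt → ℤ) = 32 ∧ Cfsg.sqNorm ((u - x) : Cfsg.GolayPt → ℤ) = 32 ∧ Cfsg.dotInt (v : Cfsg.GolayPt → ℤ) (x : Cfsg.GolayPt → ℤ) = 16}, ∀ y' ∈ {x : ↥Cfsg.leechLattice | Cfsg.sqNorm (x : Cfsg.GolayPt → ℤ) = 32 ∧ Cfsg.sqNorm ((u - x) : Cfsg.GolayPt → ℤ) = 32 ∧ Cfsg.dotInt (v : Cfsg.GolayPt → ℤ) (x : Cfsg.GolayPt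 → ℤ) = 16}, y ≠ x → y' ≠ x → Cfsg.dotInt (x : Cfsg.GolayPt → ℤ) (y : Cfsg.GolayPt → ℤ) = Cfsg.dotInt (x : Cfsg.GolayPt → ℤ) (y' : Cfsg.GolayPt → ℤ) → ∃ g : ↥Cfsg.Co0, g • u = u ∧ g • v = v ∧ g • x = x ∧ g • y = y' := by
  have hu6 : ip u u = 6 := by have := eight_ip_self u; omega
  obtain ⟨hv4, huv⟩ := (ip3_iff hu6).1 hv
  have hset : {x : leechLattice | sqNorm (x : GolayPt → ℤ) = 32 ∧ sqNorm ((u - x) : GolayPt → ℤ) = 32 ∧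
      dotInt (v : GolayPt → ℤ) x = 16} = mclSet u v := by
    ext x
    have := eight_ip v x
    show _ ∧ _ ∧ _ ↔ _ ∧ _ ∧ _
    constructor
    · rintro ⟨a, b, c⟩
      obtain ⟨p, q⟩ := (ip3_iff hu6).1 ⟨a, b⟩
      exact ⟨p, q, by omega⟩
    · rintro ⟨p, q, c⟩
      obtain ⟨a, b⟩ := (ip3_iff hu6).2 ⟨p, q⟩
      exact ⟨a, b, by omega⟩
  rw [hset] at hx ⊢
  obtain ⟨r1, r2, r3⟩ := mcl_rank3 hu6 hv4 huv hx
  have h1 : ∀ y : leechLattice, dotInt (x : GolayPt → ℤ) y = 8 ↔ ip x y = 1 := fun y => by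
    have := eight_ip x y; omega
  have h2 : ∀ y : leechLattice, dotInt (x : GolayPt → ℤ) y = 16 ↔ ip x y = 2 := fun y => by
    have := eight_ip x y; omega
  simp only [h1, h2]
  refine ⟨r1, r2, fun y hy y' hy' a b e => r3 y hy y' hy' a b ?_⟩
  have := eight_ip x y; have := eight_ip x y'; omega

end Cfsg.Agent.S1581
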