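import Cfsg.Statements.S1582
import Cfsg.Agent.Lib.Leech.TripleStab

set_option autoImplicit false
open Cfsg

namespace Cfsg.Agent.S1582

/-- The point stabiliser in the rank-3 action of the McLaughlin group on 275 points is isomorphic to PSU(4, 3). -/
theorem result (u v x : ↥Cfsg.leechLattice) (hu : Cfsg.sqNorm (u : Cfsg.GolayPt → ℤ) = 48) (hv : Cfsg.sqNorm (v : Cfsg.GolayPt → ℤ) = 32 ∧ Cfsg.sqNorm ((u - v) : Cfsg.GolayPt → ℤ) = 32) (hx : x ∈ {x : ↥Cfsg.leechLattice | Cfsg.sqNorm (x : Cfsg.GolayPt → ℤ) = 32 ∧ Cfsg.sqNorm ((u - x) : Cfsg.GolayPt → ℤ) = 32 ∧ Cfsg.dotInt (v : Cfsg.GolayPt → ℤ) (x : Cfsg.GolayPt → ℤ) = 16}) (F : Type) [Field F] [Fintype F] (hF : Fintype.card F = 9) : Nonempty (↥(MulAction.stabilizer ↥Cfsg.Co0 u ⊓ MulAction.stabilizer ↥Cfsg.Co0 v ⊓ MulAction.stabilizer ↥Cfsg.Co0 x) ≃* Cfsg.PSU 4 F 3) := by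
  open Cfsg.Agent.Leech in
  have hu6 : ip u u = 6 := by have := eight_ip_self u; omega
  open Cfsg.Agent.Leech in
  have h3 : ∀ y : ↥Cfsg.leechLattice, sqNorm (y : GolayPt → ℤ) = 32 →
      sqNorm ((u - y) : GolayPt → ℤ) = 32 → ip y y = 4 ∧ ip u y = 3 := fun y p q => by
    have h := Cfsg.Agent.LatticeMod2.norm_sub rootless_ip u y
    have e2 := eight_ip_self y
    have e3 := eight_ip_self (u - y)
    rw [AddSubgroup.coe_sub] at e3
    omega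
  open Cfsg.Agent.Leech in
  have hx' : x ∈ mclSet u v ∧ ip v v = 4 ∧ ip u v = 3 := by
    obtain ⟨a, b, c⟩ := hx
    obtain ⟨p, q⟩ := h3 x a b
    obtain ⟨p', q'⟩ := h3 v hv.1 hv.2
    have := eight_ip v x
    exact ⟨⟨p, q, by omega⟩, p', q'⟩
  exact Cfsg.Agent.Leech.TripleStab.stab_equiv_psu hu6 hx'.2.1 hx'.2.2 hx'.1 F hF

end Cfsg.Agent.S1582

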