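import Cfsg.Statements.S1583
import Cfsg.Agent.Lib.Leech.HS
-- import your own Cfsg.Agent.* helpers here

set_option autoImplicit false
open Cfsg

namespace Cfsg.Agent.S1583

open Cfsg Cfsg.Agent.Golay Cfsg.Agent.Leech

theorem ipn {x : leechLattice} {n : ℤ} (h : sqNorm (x : GolayPt → ℤ) = 8 * n) : ip x x = n := by
  have := eight_ip_self x; omega

theorem ipd {x y : leechLattice} {d : ℤ} (h : dotInt (x : GolayPt → ℤ) y = 8 * d) : ip x y = d := by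
  have := eight_ip x y; omega

/-- The Higman–Sims configuration: for two vectors of customary norm 6 with inner product −4, exactly 100 minimal vectors have customary inner products 3 and −3 with them, and the joint stabiliser permutes these transitively. -/
theorem result (v w : ↥Cfsg.leechLattice) (hv : Cfsg.sqNorm (v : Cfsg.GolayPt → ℤ) = 48) (hw : Cfsg.sqNorm (w : Cfsg.GolayPt → ℤ) = 48) (hvw : Cfsg.dotInt (v : Cfsg.GolayPt → ℤ) (w : Cfsg.GolayPt → ℤ) = -32) : {x : ↥Cfsg.leechLattice | Cfsg.sqNorm (x : Cfsg.GolayPt → ℤ) = 32 ∧ Cfsg.dotInt (v : Cfsg.GolayPt → ℤ) (x : Cfsg.GolayPt → ℤ) = 24 ∧ Cfsg.dotInt (w : Cfsg.GolayPt → ℤ) (x : Cfsg.GolayPt → ℤ) = -24}.ncard = 100 ∧ ∀ x ∈ {x : ↥Cfsg.leechLattice | Cfsg.sqNorm (x : Cfsg.GolayPt → ℤ) = 32 ∧ Cfsg.dotInt (v : Cfsg.GolayPt → ℤ) (x : Cfsg.GolayPt → ℤ) = 24 ∧ Cfsg.dotInt (w : Cfsg.GolayPt → ℤ) (x : Cfsg.GolayPt →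 ℤ) = -24}, ∀ x' ∈ {x : ↥Cfsg.leechLattice | Cfsg.sqNorm (x : Cfsg.GolayPt → ℤ) = 32 ∧ Cfsg.dotInt (v : Cfsg.GolayPt → ℤ) (x : Cfsg.GolayPt → ℤ) = 24 ∧ Cfsg.dotInt (w : Cfsg.GolayPt → ℤ) (x : Cfsg.GolayPt → ℤ) = -24}, ∃ g : ↥Cfsg.Co0, g • v = v ∧ g • w = w ∧ g • x = x' := by
  have hset : {x : leechLattice | sqNorm (x : GolayPt → ℤ) = 32 ∧ dotInt (v : GolayPt → ℤ) x = 24 ∧
      dotInt (w : GolayPt → ℤ) x = -24} = hsSet v w := by
    ext x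
    have := eight_ip_self x; have := eight_ip v x; have := eight_ip w x
    show _ ∧ _ ∧ _ ↔ _ ∧ _ ∧ _
    omega
  rw [hset]
  exact ⟨ncard_hsSet (ipn (n := 6) (by rw [hv]; rfl)) (ipn (n := 6) (by rw [hw]; rfl)) (ipd (d := -4) (by rw [hvw]; rfl)), fun x hx x' hx' => hs_transitive (ipn (n := 6) (by rw [hv]; rfl)) (ipn (n := 6) (by rw [hw]; rfl)) (ipd (d := -4) (by rw [hvw]; rfl)) hx hx'⟩

end Cfsg.Agent.S1583
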