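import Cfsg.Statements.S1589
import Cfsg.Agent.Lib.Golay.Odd24
import Cfsg.Agent.Lib.Golay.Index276

set_option autoImplicit false
open scoped Pointwise
open Cfsg

namespace Cfsg.Agent.S1589

/-- Subgroups of the group of the length-24 code of index 759, 276 and 1771 are exactly the octad, duad and sextet stabilisers, and no subgroup has index 253. -/
theorem result : (∀ H : Subgroup ↥Cfsg.M24, H.index = 759 → ∃ o ∈ Cfsg.octads, H = MulAction.stabilizer Cfsg.M24 o) ∧ (∀ H : Subgroup ↥Cfsg.M24, H.index = 276 → ∃ s : Finset Cfsg.GolayPt, s.card = 2 ∧ H = MulAction.stabilizer Cfsg.M24 s) ∧ (∀ H : Subgroup ↥Cfsg.M24, H.index = 1771 → ∃ S ∈ Cfsg.sextets, H = MulAction.stabilizer Cfsg.M24 S) ∧ ∀ H : Subgroup ↥Cfsg.M24, H.index ≠ 253 := by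
  refine ⟨fun H hH => ?_, fun H hH => Cfsg.Agent.Golay.Index276.index276 hH, fun H hH => ?_, fun H hH => ?_⟩
  · rcases Cfsg.Agent.Golay.Odd24.odd_index (Or.inl rfl) hH with ⟨-, h⟩ | ⟨h, -⟩
    · exact h
    · norm_num at h
  · rcases Cfsg.Agent.Golay.Odd24.odd_index (Or.inr (Or.inl rfl)) hH with ⟨h, -⟩ | ⟨-, h⟩
    · norm_num at h
    · exact h
  · rcases Cfsg.Agent.Golay.Odd24.odd_index (Or.inr (Or.inr rfl)) hH with ⟨h, -⟩ | ⟨h, -⟩ <;> norm_num at h

end Cfsg.Agent.S1589
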