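import Cfsg.Statements.S1590
import Cfsg.Agent.Lib.Codes.Ternary

set_option autoImplicit false
open Cfsg

namespace Cfsg.Agent.S1590

open Cfsg.Agent.Ternary

theorem ncard_weight (k : ℕ) :
    {x : Cfsg.ArrayPt → ZMod 3 | x ∈ Cfsg.ternaryGolayCode ∧ (Cfsg.ternarySupport x).card = k}.ncard =
      ((List.range 729).filter fun n => Nat.beq (wgt n) k).length := by
  set l := (List.range 729).filter fun n => Nat.beq (wgt n) k with hl
  have hset : {x : Cfsg.ArrayPt → ZMod 3 | x ∈ Cfsg.ternaryGolayCode ∧ (Cfsg.ternarySupport x).card = k} =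
      (fun n => word (dig n)) '' (l.toFinset : Set ℕ) := by
    ext x
    simp only [Set.mem_setOf_eq, Set.mem_image, List.coe_toFinset, hl, List.mem_filter, Nat.beq_eq, List.mem_range]
    constructor
    · rintro ⟨hx, hk⟩
      obtain ⟨n, hn, rfl⟩ := exists_word hx
      exact ⟨n, ⟨hn, by rw [← card_support]; exact hk⟩, rfl⟩
    · rintro ⟨n, ⟨-, hk⟩, rfl⟩
      exact ⟨word_mem _, by rw [card_support]; exact hk⟩
  rw [hset, Set.InjOn.ncard_image, Set.ncard_coe_finset, List.toFinset_card_of_nodup (List.nodup_range.filter _)]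
  intro m hm n hn h
  simp only [List.coe_toFinset, hl, List.mem_filter, Set.mem_setOf_eq, List.mem_range] at hm hn
  exact word_dig_injective hm.1 hn.1 h


/-- The length-12 ternary code has 729 words with weight distribution 0^1 6^264 9^440 12^24. -/
theorem result : Nat.card ↥Cfsg.ternaryGolayCode = 729 ∧ (∀ x ∈ Cfsg.ternaryGolayCode, x ≠ 0 → (Cfsg.ternarySupport x).card = 6 ∨ (Cfsg.ternarySupport x).card = 9 ∨ (Cfsg.ternarySupport x).card = 12) ∧ {x : Cfsg.ArrayPt → ZMod 3 | x ∈ Cfsg.ternaryGolayCode ∧ (Cfsg.ternarySupport x).card = 6}.ncard = 264 ∧ {x : Cfsg.ArrayPt → ZMod 3 | x ∈ Cfsg.ternaryGolayCode ∧ (Cfsg.ternarySupport x).card = 9}.ncard = 440 ∧ {x : Cfsg.ArrayPt → ZMod 3 | x ∈ Cfsg.ternaryGolayCode ∧ (Cfsg.ternarySupport x).card = 12}.ncard = 24 := by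
  refine ⟨?_, fun x hx hx0 => ?_, (ncard_weight 6).trans weight_table.2.1,
    (ncard_weight 9).trans weight_table.2.2.1, (ncard_weight 12).trans weight_table.2.2.2.1⟩
  · let f : Fin 729 → Cfsg.ternaryGolayCode := fun n => ⟨word (dig n), word_mem _⟩
    have hf : Function.Bijective f := by
      refine ⟨fun m n h => Fin.ext (word_dig_injective m.2 n.2 (congrArg Subtype.val h)), fun x => ?_⟩
      obtain ⟨n, hn, e⟩ := exists_word x.2
      exact ⟨⟨n, hn⟩, Subtype.ext e.symm⟩
    rw [← Nat.card_eq_of_bijective f hf, Nat.card_fin]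
  · obtain ⟨n, hn, rfl⟩ := exists_word hx
    rw [card_support]
    have h := weight_table.1
    rw [List.all_eq_true] at h
    have e := h n (List.mem_range.mpr hn)
    simp only [Bool.or_eq_true, Bool.and_eq_true, Nat.beq_eq] at e
    rcases e with ((e | e) | e) | e
    · exfalso
      apply hx0
      subst e
      funext p
      simp [word, dig]
    · exact Or.inl e.1
    · exact Or.inr (Or.inl e)
    · exact Or.inr (Or.inr e)

end Cfsg.Agent.S1590
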