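import Cfsg.Statements.S1591
import Cfsg.Agent.Lib.Codes.Ternary

set_option autoImplicit false
open Cfsg

namespace Cfsg.Agent.S1591

open Cfsg.Agent.Ternary


/-- Any two words of the length-12 ternary code have dot product zero. -/
theorem result (x y : Cfsg.ArrayPt → ZMod 3) (hx : x ∈ Cfsg.ternaryGolayCode) (hy : y ∈ Cfsg.ternaryGolayCode) : ∑ p, x p * y p = 0 := by
  rw [eq_word hx, eq_word hy]
  simp only [word, Finset.sum_mul, Finset.mul_sum]
  rw [Finset.sum_comm]
  refine Finset.sum_eq_zero fun k _ => ?_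
  rw [Finset.sum_comm]
  refine Finset.sum_eq_zero fun l _ => ?_
  rw [Finset.sum_congr rfl fun p _ => (mul_mul_mul_comm (x (inf l)) (gen l p) (y (inf k)) (gen k p)),
    ← Finset.mul_sum, gen_table.2.2.1, mul_zero]

end Cfsg.Agent.S1591
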