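import Cfsg.Statements.S1594
import Cfsg.Agent.Lib.Codes.TernaryAut

set_option autoImplicit false
open Cfsg

namespace Cfsg.Agent.S1594

open Cfsg.Agent.Ternary

theorem natCard_pairs :
    Nat.card {f : Equiv.Perm Cfsg.ArrayPt × (Cfsg.ArrayPt → (ZMod 3)ˣ) // Pres f.1 f.2} = 190080 := by
  choose w hw using fun σ : Cfsg.setSystemAut hexads => exists_pres σ.2
  let Ψ : Cfsg.setSystemAut hexads × (ZMod 3)ˣ →
      {f : Equiv.Perm Cfsg.ArrayPt × (Cfsg.ArrayPt → (ZMod 3)ˣ) // Pres f.1 f.2} :=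
    fun p => ⟨((p.1 : Equiv.Perm Cfsg.ArrayPt), fun i => p.2 * w p.1 i), fun x hx => by
      have : Cfsg.monomialMap (p.1 : Equiv.Perm Cfsg.ArrayPt) (fun i => p.2 * w p.1 i) x =
          (p.2 : ZMod 3) • Cfsg.monomialMap (p.1 : Equiv.Perm Cfsg.ArrayPt) (w p.1) x := by
        funext i; simp [Cfsg.monomialMap, mul_assoc]
      rw [this]
      exact Submodule.smul_mem _ _ (hw p.1 x hx)⟩
  have hΨ : Function.Bijective Ψ := by
    refine ⟨fun p q e => ?_, ?_⟩
    · obtain ⟨σ, a⟩ := p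
      obtain ⟨σ', a'⟩ := q
      have e' := congrArg Subtype.val e
      have e1 : (σ : Equiv.Perm Cfsg.ArrayPt) = σ' := congrArg Prod.fst e'
      obtain rfl : σ = σ' := Subtype.ext e1
      have e2 : a * w σ (inf 0) = a' * w σ (inf 0) := congrFun (congrArg Prod.snd e') (inf 0)
      exact Prod.ext rfl (mul_right_cancel e2)
    · rintro ⟨⟨σ, c⟩, h⟩
      let s : Cfsg.setSystemAut hexads := ⟨σ, mem_aut_of_pres h⟩
      let d : Cfsg.ArrayPt → (ZMod 3)ˣ := fun j => c (σ j) * (w s (σ j))⁻¹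
      have hd : Pres 1 d := by
        refine pres_cancel (hw s) ?_
        convert h using 1
        · exact mul_one _
        · funext i
          simp only [d, s, Equiv.apply_symm_apply]
          rw [mul_comm (c i) _, mul_inv_cancel_left]
      refine ⟨(s, d (inf 0)), Subtype.ext (Prod.ext rfl (funext fun i => ?_))⟩
      show d (inf 0) * w s i = c i
      rw [← diag_eq hd (σ.symm i)]
      simp only [d, Equiv.apply_symm_apply, inv_mul_cancel_right]
  rw [← Nat.card_eq_of_bijective Ψ hΨ, Nat.card_prod, card_aut,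
    show Nat.card (ZMod 3)ˣ = 2 from by rw [Nat.card_eq_fintype_card]; rfl]


/-- The monomial automorphism group of the length-12 ternary code has order 190080 and its permutation parts are exactly the automorphisms of its hexad system. -/
theorem result : Nat.card {f : Equiv.Perm Cfsg.ArrayPt × (Cfsg.ArrayPt → (ZMod 3)ˣ) // (∀ x ∈ Cfsg.ternaryGolayCode, Cfsg.monomialMap f.1 f.2 x ∈ Cfsg.ternaryGolayCode)} = 190080 ∧ {σ : Equiv.Perm Cfsg.ArrayPt | ∃ c : Cfsg.ArrayPt → (ZMod 3)ˣ, (∀ x ∈ Cfsg.ternaryGolayCode, Cfsg.monomialMap σ c x ∈ Cfsg.ternaryGolayCode)} = (Cfsg.setSystemAut {h : Finset Cfsg.ArrayPt | ∃ x ∈ Cfsg.ternaryGolayCode, Cfsg.ternarySupport x = h ∧ h.card = 6} : Set (Equiv.Perm Cfsg.ArrayPt)) := by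
  refine ⟨natCard_pairs, ?_⟩
  ext σ
  exact ⟨fun ⟨c, h⟩ => mem_aut_of_pres h, fun h => exists_pres h⟩

end Cfsg.Agent.S1594
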