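import Cfsg.Statements.S1596
import Cfsg.Agent.Lib.Golay.Local.Quartets
-- import your own Cfsg.Agent.* helpers here

set_option autoImplicit false
open scoped Pointwise
open Cfsg

namespace Cfsg.Agent.S1596

open Cfsg.Agent.Golay Cfsg.Agent.Golay.Local
open scoped Pointwise

/-- A quartet of a dodecad is determined by any two of its triples: two disjoint triples uniting to a hexad extend to exactly one quartet. -/
theorem result (d : Finset Cfsg.GolayPt) (hd : d ∈ Cfsg.dodecads) (t u : Finset Cfsg.GolayPt) (ht : t.card = 3) (hu : u.card = 3) (htu : Disjoint t u) (hh : t ∪ u ∈ Cfsg.hexadsOn d) : ∃! Q : Finset (Finset Cfsg.GolayPt), Q ∈ Cfsg.quartets d ∧ t ∈ Q ∧ u ∈ Q := by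
  obtain ⟨g, hgd, hgt, hgu⟩ := exists_pair_map hd ht hu htu hh
  obtain ⟨-, -, -, -, -, m0, m1, -⟩ := pair_facts
  refine ⟨g • qSet 0, ⟨hgd ▸ quartets_smul g (qSet_mem_quartets (by norm_num)),
    hgt ▸ Finset.smul_mem_smul_finset m0, hgu ▸ Finset.smul_mem_smul_finset m1⟩, fun Q hQ => ?_⟩
  obtain ⟨hQ, hQt, hQu⟩ := hQ
  have h : g⁻¹ • Q = qSet 0 := by
    refine std_unique ?_ ?_ ?_
    · rw [← quartets_smul_iff g, smul_inv_smul, hgd]; exact hQ
    · rw [Finset.mem_inv_smul_finset_iff, hgt]; exact hQt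
    · rw [Finset.mem_inv_smul_finset_iff, hgu]; exact hQu
  rw [← h, smul_inv_smul]

end Cfsg.Agent.S1596
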