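import Cfsg.Statements.S1598
import Cfsg.Agent.Lib.Golay.Local.QuartetStab
-- import your own Cfsg.Agent.* helpers here

set_option autoImplicit false
open scoped Pointwise
open Cfsg

namespace Cfsg.Agent.S1598

open Cfsg.Agent.Golay Cfsg.Agent.Golay.Local
open scoped Pointwise

/-- A quartet stabiliser inside the dodecad stabiliser has order 432, a normal subgroup of order 9 with quotient GL(2, 3), and is transitive on the dodecad. -/
theorem result (d : Finset Cfsg.GolayPt) (hd : d ∈ Cfsg.dodecads) (Q : Finset (Finset Cfsg.GolayPt)) (hQ : Q ∈ Cfsg.quartets d) : Nat.card ↥(MulAction.stabilizer Cfsg.M24 d ⊓ MulAction.stabilizer Cfsg.M24 Q) = 432 ∧ (∃ (N : Subgroup ↥(MulAction.stabilizer Cfsg.M24 d ⊓ MulAction.stabilizer Cfsg.M24 Q)) (_ : N.Normal), Nat.card N = 9 ∧ Nonempty (↥(MulAction.stabilizer Cfsg.M24 d ⊓ MulAction.stabilizer Cfsg.M24 Q) ⧸ N ≃* GL (Fin 2) (ZMod 3))) ∧ ∀ p ∈ d,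 ∀ q ∈ d, ∃ g ∈ (MulAction.stabilizer Cfsg.M24 d ⊓ MulAction.stabilizer Cfsg.M24 Q), ((g : ↥Cfsg.M24) : Equiv.Perm Cfsg.GolayPt) p = q := by
  obtain ⟨g, hgd, hgQ⟩ := exists_quartet_map hd hQ
  have hc : ∀ x, x ∈ stdK ↔ g * x * g⁻¹ ∈ (MulAction.stabilizer Cfsg.M24 d ⊓ MulAction.stabilizer Cfsg.M24 Q) := fun x => by
    simp only [stdK, Subgroup.mem_inf, mem_stab_conj g x hgd, mem_stab_conj g x hgQ]
  let e : ↥stdK ≃* ↥(MulAction.stabilizer Cfsg.M24 d ⊓ MulAction.stabilizer Cfsg.M24 Q) := conjEquiv g hc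
  obtain ⟨φ, hφ⟩ := exists_psi432
  let Ψ := φ.comp e.symm.toMonoidHom
  have hΨ : Function.Surjective Ψ := hφ.comp e.symm.surjective
  have hcard : Nat.card ↥(MulAction.stabilizer Cfsg.M24 d ⊓ MulAction.stabilizer Cfsg.M24 Q) = 432 := by
    rw [← Nat.card_congr e.toEquiv, card_stdK]
  refine ⟨hcard, ⟨Ψ.ker, inferInstance, ?_, ⟨QuotientGroup.quotientKerEquivOfSurjective Ψ hΨ⟩⟩, ?_⟩
  · haveI : Fact (Nat.Prime 3) := ⟨Nat.prime_three⟩
    have h := Subgroup.card_mul_index Ψ.ker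
    rw [hcard, Subgroup.index_ker, MonoidHom.range_eq_top.2 hΨ, Subgroup.card_top, Matrix.card_GL_field,
      ZMod.card] at h
    rw [show (∏ i : Fin 2, (3 ^ 2 - 3 ^ (i : ℕ))) = 48 by simp [Fin.prod_univ_two]] at h
    omega
  · intro p hp q hq
    have inD : ∀ r ∈ d, g⁻¹ • r ∈ maskSet sqMask := fun r hr => Finset.inv_smul_mem_iff.2 (hgd.symm ▸ hr)
    obtain ⟨a, ha⟩ := stdK_transitive (inD p hp)
    obtain ⟨b, hb⟩ := stdK_transitive (inD q hq)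
    refine ⟨g * ((b : Cfsg.M24) * (a : Cfsg.M24)⁻¹) * g⁻¹, (hc _).1 (mul_mem b.2 (inv_mem a.2)), ?_⟩
    show (g * ((b : Cfsg.M24) * (a : Cfsg.M24)⁻¹) * g⁻¹) • p = q
    have ha' : (a : Cfsg.M24)⁻¹ • g⁻¹ • p = pt 0 := by rw [← ha, inv_smul_smul]
    rw [mul_smul, mul_smul, mul_smul, ha', hb, smul_inv_smul]

end Cfsg.Agent.S1598
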