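import Cfsg.Statements.S1599
import Cfsg.Agent.Lib.Golay.Local.QuartetStab
-- import your own Cfsg.Agent.* helpers here

set_option autoImplicit false
open scoped Pointwise
open Cfsg

namespace Cfsg.Agent.S1599

open Cfsg.Agent.Golay Cfsg.Agent.Golay.Local
open scoped Pointwise

/-- A quartet stabiliser has five orbits on the quartets of its dodecad, of sizes 1, 12, 27, 72, 108. -/
theorem result (d : Finset Cfsg.GolayPt) (hd : d ∈ Cfsg.dodecads) (Q : Finset (Finset Cfsg.GolayPt)) (hQ : Q ∈ Cfsg.quartets d) : ∃ X₁ ∈ Cfsg.quartets d, ∃ X₂ ∈ Cfsg.quartets d, ∃ X₃ ∈ Cfsg.quartets d, ∃ X₄ ∈ Cfsg.quartets d, (MulAction.orbit ↥(MulAction.stabilizer Cfsg.M24 d ⊓ MulAction.stabilizer Cfsg.M24 Q) X₁).ncard = 12 ∧ (MulAction.orbit ↥(MulAction.stabilizer Cfsg.M24 d ⊓ MulAction.stabilizer Cfsg.M24 Q) X₂).ncard = 27 ∧ (MulAction.orbit ↥(MulAction.stabilizer Cfsg.M24 d ⊓ MulAction.stabilizer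 Cfsg.M24 Q) X₃).ncard = 72 ∧ (MulAction.orbit ↥(MulAction.stabilizer Cfsg.M24 d ⊓ MulAction.stabilizer Cfsg.M24 Q) X₄).ncard = 108 ∧ Cfsg.quartets d = {Q} ∪ MulAction.orbit ↥(MulAction.stabilizer Cfsg.M24 d ⊓ MulAction.stabilizer Cfsg.M24 Q) X₁ ∪ MulAction.orbit ↥(MulAction.stabilizer Cfsg.M24 d ⊓ MulAction.stabilizer Cfsg.M24 Q) X₂ ∪ MulAction.orbit ↥(MulAction.stabilizer Cfsg.M24 d ⊓ MulAction.stabilizer Cfsg.M24 Q) X₃ ∪ MulAction.orbit ↥(MulAction.stabilizer Cfsg.M24 d ⊓ MulAction.stabilizer Cfsg.M24 Q) X₄ := by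
  obtain ⟨g, hgd, hgQ⟩ := exists_quartet_map hd hQ
  have hc : ∀ x, x ∈ stdK ↔ g * x * g⁻¹ ∈ (MulAction.stabilizer Cfsg.M24 d ⊓ MulAction.stabilizer Cfsg.M24 Q) := fun x => by
    simp only [stdK, Subgroup.mem_inf, mem_stab_conj g x hgd, mem_stab_conj g x hgQ]
  obtain ⟨X₁, m1, X₂, m2, X₃, m3, X₄, m4, n1, n2, n3, n4, he⟩ := five_orbits
  refine ⟨g • X₁, hgd ▸ quartets_smul g m1, g • X₂, hgd ▸ quartets_smul g m2, g • X₃, hgd ▸ quartets_smul g m3,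
    g • X₄, hgd ▸ quartets_smul g m4, ?_, ?_, ?_, ?_, ?_⟩ <;> simp only [orbit_conj g hc]
  · rw [Set.ncard_smul_set, n1]
  · rw [Set.ncard_smul_set, n2]
  · rw [Set.ncard_smul_set, n3]
  · rw [Set.ncard_smul_set, n4]
  · rw [← hgd, quartets_smul_eq, he, Set.smul_set_union, Set.smul_set_union, Set.smul_set_union,
      Set.smul_set_union, Set.smul_set_singleton, hgQ]

end Cfsg.Agent.S1599
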