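import Cfsg.Statements.S1600
import Cfsg.Agent.Lib.Golay.DodStab
-- import your own Cfsg.Agent.* helpers here

set_option autoImplicit false
open scoped Pointwise
open Cfsg

namespace Cfsg.Agent.S1600

open Cfsg.Agent.Golay Cfsg.Agent.Golay.Cert
open scoped Pointwise

/-- The pointwise stabiliser of three points of a dodecad inside the dodecad stabiliser (order 72) is transitive on the complementary dodecad. -/
theorem result (d : Finset Cfsg.GolayPt) (hd : d ∈ Cfsg.dodecads) (p q r : Cfsg.GolayPt) (hp : p ∈ d) (hq : q ∈ d) (hr : r ∈ d) (hpq : p ≠ q) (hpr : p ≠ r) (hqr : q ≠ r) : Nat.card ↥(MulAction.stabilizer Cfsg.M24 d ⊓ MulAction.stabilizer Cfsg.M24 p ⊓ MulAction.stabilizer Cfsg.M24 q ⊓ MulAction.stabilizer Cfsg.M24 r) = 72 ∧ ∀ x ∉ d, ∀ y ∉ d, ∃ g ∈ (MulAction.stabilizer Cfsg.M24 d ⊓ MulAction.stabilizer Cfsg.M24 p ⊓ MulAction.stabilizer Cfsg.M24 q ⊓ MulAction.stabilizer Cfsg.M24 r), ((g : ↥Cfsg.M24) : Equiv.Perm Cfsg.GolayPt) x = y := by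
  classical
  obtain ⟨g, hg, hgd, hgx⟩ := exists_M24_dodecad_map hd (k := 3) (x := fun i => pt ⟨i, by omega⟩) (y := ![p, q, r])
    (by norm_num) (by decide)
    (by intro i j e; fin_cases i <;> fin_cases j <;> simp_all [hpq.symm, hpr.symm, hqr.symm])
    (by intro i; rw [squareDodecad_eq, mem_maskSet, idx_pt]; fin_cases i <;> decide)
    (by intro i; fin_cases i <;> simp [hp, hq, hr])
  have hgd' : g • maskSet sqMask = d := by rw [← squareDodecad_eq]; exact hgd
  have hL : stabIn dodThreeInv = stabSets ([maskSet sqMask, {pt 0}, {pt 1}, {pt 2}]) := by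
    rw [stabIn_eq_stabSets]
    congr 1
  have hmap : [maskSet sqMask, {pt 0}, {pt 1}, {pt 2}].map (fun s => g • s)
      = [d, {p}, {q}, {r}] := by
    simp only [List.map_cons, List.map_nil, hgd', smul_singleton']
    rw [show g (pt 0) = p from hgx 0, show g (pt 1) = q from hgx 1, show g (pt 2) = r from hgx 2]
  set H := MulAction.stabilizer Cfsg.M24 d ⊓ MulAction.stabilizer Cfsg.M24 p ⊓
    MulAction.stabilizer Cfsg.M24 q ⊓ MulAction.stabilizer Cfsg.M24 r with hH
  have hiff : ∀ a : Cfsg.M24, a ∈ H ↔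
      ∀ s ∈ [d, {p}, {q}, {r}], (a : Equiv.Perm Cfsg.GolayPt) • s = s := fun a => by
    simp only [hH, Subgroup.mem_inf, mem_stab_pt, mem_stab_set, List.mem_cons, List.not_mem_nil,
      or_false, forall_eq_or_imp, forall_eq, and_assoc]
  refine ⟨?_, fun x hx y hy => ?_⟩
  · rw [Nat.card_congr ((equivStabSets H _ hiff).trans
      (stabSetsEquiv hg hmap).symm).toEquiv, ← hL, (stabCert_spec dodThree_ok).2, dodThree_order]
  · have hm : ∀ z, z ∉ d → 1 <<< idx (g.symm z) ∈
        (masksOfWeight 24 1).filter fun m => Nat.beq (m &&& sqMask) 0 := fun z hz => by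
      have key : ∀ a : Cfsg.GolayPt, sqMask.testBit (idx a) = false →
          memB (1 <<< idx a) ((masksOfWeight 24 1).filter fun m => Nat.beq (m &&& sqMask) 0) = true := by
        decide +kernel
      refine memB_spec (key _ ?_)
      exact Bool.eq_false_iff.2 fun h => hz (by
        rw [← hgd', ← g.apply_symm_apply z]; exact (apply_mem_smul_iff g _ _).2 (mem_maskSet.2 h))
    obtain ⟨k, hk, hkxy⟩ := class_transitive dodThree_trans (hm x hx) rfl (hm y hy) rfl
    have e : ∀ a : Cfsg.GolayPt, maskSet (1 <<< idx a) = {a} := fun a => by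
      rw [maskSet_pow ⟨idx a, idx_lt a⟩, pt_idx]
    rw [e, e, smul_singleton', Finset.singleton_inj] at hkxy
    let m := stabSetsEquiv hg hmap ⟨k, hL ▸ hk⟩
    refine ⟨⟨g * k * g⁻¹, mul_mem (mul_mem hg hk.1) (inv_mem hg)⟩, (hiff _).2 m.2.2, ?_⟩
    show (g * k * g⁻¹) x = y
    rw [Equiv.Perm.mul_apply, Equiv.Perm.mul_apply, show g⁻¹ x = g.symm x from rfl, hkxy,
      g.apply_symm_apply]

end Cfsg.Agent.S1600
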