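import Cfsg.Statements.S1601
import Cfsg.Agent.Lib.Golay.Local.M11Subgroups
-- import your own Cfsg.Agent.* helpers here

set_option autoImplicit false
open scoped Pointwise
open Cfsg

namespace Cfsg.Agent.S1601

open Cfsg.Agent.Golay Cfsg.Agent.Golay.Local
open scoped Pointwise

/-- In the 3-transitive action of the smallest Mathieu group on the complementary dodecad, a point stabiliser is isomorphic to PSL(2, 11). -/
theorem result (d : Finset Cfsg.GolayPt) (hd : d ∈ Cfsg.dodecads) (p q : Cfsg.GolayPt) (hp : p ∈ d) (hq : q ∉ d) : Nonempty (↥(MulAction.stabilizer Cfsg.M24 d ⊓ MulAction.stabilizer Cfsg.M24 p ⊓ MulAction.stabilizer Cfsg.M24 q) ≃* Matrix.ProjectiveSpecialLinearGroup (Fin 2) (ZMod 11)) := by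
  obtain ⟨g, hgd, hgp, hgq⟩ : ∃ g : Cfsg.M24, g • maskSet sqMask = d ∧ g • dp0 = p ∧ g • dq0 = q := by
    obtain ⟨g, hgd, hgp⟩ := exists_stdA_conj hd hp
    have hq' : g⁻¹ • q ∉ maskSet sqMask := fun h => hq (by
      rw [← hgd]; exact Finset.inv_smul_mem_iff.1 h)
    obtain ⟨a, ha⟩ := stdA_map (k := 1) (by norm_num) (x := ![dq0]) (y := ![g⁻¹ • q])
      (Function.injective_of_subsingleton _) (Function.injective_of_subsingleton _)
      (fun i => by fin_cases i; exact dq_not_mem.1) (fun i => by fin_cases i; exact hq')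
    have h1 : (a : Cfsg.M24) • maskSet sqMask = maskSet sqMask := a.2.1
    have h2 : (a : Cfsg.M24) • dp0 = dp0 := a.2.2
    have h3 : (a : Cfsg.M24) • dq0 = g⁻¹ • q := ha 0
    exact ⟨g * a, by rw [mul_smul, h1, hgd], by rw [mul_smul, h2, hgp], by rw [mul_smul, h3, smul_inv_smul]⟩
  obtain ⟨E⟩ := nonempty_stab_q_psl
  exact ⟨(conjEquiv g (H := stdA ⊓ MulAction.stabilizer Cfsg.M24 dq0) fun x => by
    simp only [stdA, Subgroup.mem_inf, mem_stab_conj g x hgd, mem_stab_conj g x hgp, mem_stab_conj g x hgq]).symm.trans E⟩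

end Cfsg.Agent.S1601
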