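import Cfsg.Statements.S1602
import Cfsg.Agent.Lib.Golay.Local.M11Subgroups
-- import your own Cfsg.Agent.* helpers here

set_option autoImplicit false
open scoped Pointwise
open Cfsg

namespace Cfsg.Agent.S1602

open Cfsg.Agent.Golay Cfsg.Agent.Golay.Local
open scoped Pointwise

/-- In the 12-point action of the smallest Mathieu group the setwise stabiliser of a pair is isomorphic to the symmetric group of degree 5. -/
theorem result (d : Finset Cfsg.GolayPt) (hd : d ∈ Cfsg.dodecads) (p q q' : Cfsg.GolayPt) (hp : p ∈ d) (hq : q ∉ d) (hq' : q' ∉ d) (hqq' : q ≠ q') : Nonempty (↥(MulAction.stabilizer Cfsg.M24 d ⊓ MulAction.stabilizer Cfsg.M24 p ⊓ MulAction.stabilizer Cfsg.M24 ({q, q'} : Finset Cfsg.GolayPt)) ≃* Equiv.Perm (Fin 5)) := by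
  obtain ⟨g, hgd, hgp, hgq⟩ : ∃ g : Cfsg.M24, g • maskSet sqMask = d ∧ g • dp0 = p ∧
      g • ({dq0, dq1} : Finset Cfsg.GolayPt) = {q, q'} := by
    obtain ⟨g, hgd, hgp⟩ := exists_stdA_conj hd hp
    have out : ∀ u, u ∉ d → g⁻¹ • u ∉ maskSet sqMask := fun u hu h => hu (by
      rw [← hgd]; exact Finset.inv_smul_mem_iff.1 h)
    have hne : g⁻¹ • q ≠ g⁻¹ • q' := fun h => hqq' (MulAction.injective g⁻¹ h)
    obtain ⟨a, ha⟩ := stdA_map (k := 2) (by norm_num) (x := ![dq0, dq1]) (y := ![g⁻¹ • q, g⁻¹ • q'])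
      (by intro i j; fin_cases i <;> fin_cases j <;> simp [dq_not_mem.2.2, dq_not_mem.2.2.symm])
      (by intro i j; fin_cases i <;> fin_cases j <;> simp [hne, hne.symm])
      (fun i => by fin_cases i <;> simp [dq_not_mem.1, dq_not_mem.2.1])
      (fun i => by fin_cases i; exacts [out q hq, out q' hq'])
    have h1 : (a : Cfsg.M24) • maskSet sqMask = maskSet sqMask := a.2.1
    have h2 : (a : Cfsg.M24) • dp0 = dp0 := a.2.2
    have h3 : (a : Cfsg.M24) • dq0 = g⁻¹ • q := ha 0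
    have h4 : (a : Cfsg.M24) • dq1 = g⁻¹ • q' := ha 1
    refine ⟨g * a, by rw [mul_smul, h1, hgd], by rw [mul_smul, h2, hgp], ?_⟩
    rw [Finset.smul_finset_insert, Finset.smul_finset_singleton, mul_smul, mul_smul, h3, h4, smul_inv_smul,
      smul_inv_smul]
  obtain ⟨E⟩ := nonempty_stab_pair_s5
  exact ⟨(conjEquiv g (H := stdA ⊓ MulAction.stabilizer Cfsg.M24 ({dq0, dq1} : Finset Cfsg.GolayPt)) fun x => by
    simp only [stdA, Subgroup.mem_inf, mem_stab_conj g x hgd, mem_stab_conj g x hgp, mem_stab_conj g x hgq]).symm.trans E⟩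

end Cfsg.Agent.S1602
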