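import Cfsg.Statements.S1603
import Cfsg.Agent.Lib.Golay.Local.M11Involution
-- import your own Cfsg.Agent.* helpers here

set_option autoImplicit false
open scoped Pointwise
open Cfsg

namespace Cfsg.Agent.S1603

open Cfsg.Agent.Golay Cfsg.Agent.Golay.Local
open scoped Pointwise

/-- Involution centralisers in the smallest Mathieu group are isomorphic to GL(2, 3). -/
theorem result (d : Finset Cfsg.GolayPt) (hd : d ∈ Cfsg.dodecads) (p : Cfsg.GolayPt) (hp : p ∈ d) (x : ↥(MulAction.stabilizer Cfsg.M24 d ⊓ MulAction.stabilizer Cfsg.M24 p)) (hx : orderOf x = 2) : Nonempty (↥(Subgroup.centralizer ({x} : Set ↥(MulAction.stabilizer Cfsg.M24 d ⊓ MulAction.stabilizer Cfsg.M24 p))) ≃* GL (Fin 2) (ZMod 3)) := by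
  obtain ⟨g, hgd, hgp⟩ := exists_stdA_conj hd hp
  let e : ↥stdA ≃* ↥(MulAction.stabilizer Cfsg.M24 d ⊓ MulAction.stabilizer Cfsg.M24 p) :=
    conjEquiv g fun x => by
      simp only [stdA, Subgroup.mem_inf, mem_stab_conj g x hgd, mem_stab_conj g x hgp]
  obtain ⟨E⟩ := nonempty_centralizer_of_involution (a := e.symm x) (by rw [MulEquiv.orderOf_eq, hx])
  exact ⟨(centEquiv e.symm rfl).trans E⟩

end Cfsg.Agent.S1603
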