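import Cfsg.Statements.S1604
import Cfsg.Agent.Lib.Golay.OrbitChecks
-- import your own Cfsg.Agent.* helpers here

set_option autoImplicit false
open scoped Pointwise
open Cfsg

namespace Cfsg.Agent.S1604

open Cfsg.Agent.Golay Cfsg.Agent.Golay.Cert
open scoped Pointwise

/-- A hexad stabiliser in the two-point stabiliser has orbits of sizes 1, 16, 60 on the 77 hexads: the 16 hexads disjoint from it and the 60 meeting it in two points. -/
theorem result (p q : Cfsg.GolayPt) (hpq : p ≠ q) (o o' o'' : Finset Cfsg.GolayPt) (ho : o ∈ Cfsg.octads) (ho' : o' ∈ Cfsg.octads) (ho'' : o'' ∈ Cfsg.octads) (hp : p ∈ o ∧ p ∈ o' ∧ p ∈ o'') (hq : q ∈ o ∧ q ∈ o' ∧ q ∈ o'') (h : (o ∩ o').card = (o ∩ o'').card) : {x : Finset Cfsg.GolayPt | x ∈ Cfsg.octads ∧ p ∈ x ∧ q ∈ x ∧ (o ∩ x).card = 2}.ncard = 16 ∧ {x : Finset Cfsg.GolayPt | x ∈ Cfsg.octads ∧ p ∈ x ∧ q ∈ x ∧ (o ∩ x).card = 4}.ncard = 60 ∧ ∃ g : Equiv.Perm Cfsg.GolayPt,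 g ∈ Cfsg.M24 ∧ g p = p ∧ g q = q ∧ g • o = o ∧ g • o' = o'' := by
  obtain ⟨g, hg, hgo, hgx⟩ := octad_move ho (k := 2) (x := ![p, q]) (y := ![ptA, ptB])
    (by norm_num) (by intro i j e; fin_cases i <;> fin_cases j <;> simp_all [hpq, hpq.symm])
    (by intro i; fin_cases i <;> simp [hp.1, hq.1])
    (by decide) (by intro i; fin_cases i <;> simp [ptA_mem, ptB_mem])
  have hgp : g p = ptA := hgx 0
  have hgq : g q = ptB := hgx 1
  have hiff : ∀ s : Finset Cfsg.GolayPt, (p ∈ s ↔ ptA ∈ g • s) ∧ (q ∈ s ↔ ptB ∈ g • s) := fun s =>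
    ⟨by rw [← hgp, apply_mem_smul_iff], by rw [← hgq, apply_mem_smul_iff]⟩
  have cnt : ∀ k, {x : Finset Cfsg.GolayPt | x ∈ Cfsg.octads ∧ p ∈ x ∧ q ∈ x ∧ (o ∩ x).card = k}.ncard
      = (octadList.filter fun m =>
          m.testBit (0 : Fin 24) && m.testBit (1 : Fin 24) && meetsB refOctad k m).length := fun k => by
    rw [← ncard_octads_filter (fun s => (ptA ∈ s ∧ ptB ∈ s) ∧ (refOct ∩ s).card = k) _ fun m => by
      rw [Bool.and_eq_true, Bool.and_eq_true, meetsB_iff, testBit_iff_mem, testBit_iff_mem]]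
    exact ncard_smul g _ _ fun s => by
      rw [smul_mem_octads_iff hg, (hiff s).1, (hiff s).2, ← hgo, card_inter_smul, and_assoc]
  refine ⟨by rw [cnt]; decide +kernel, by rw [cnt]; decide +kernel, ?_⟩
  obtain ⟨m, hm, hm'⟩ := mem_octads.1 (smul_mem_octads hg ho')
  obtain ⟨n, hn, hn'⟩ := mem_octads.1 (smul_mem_octads hg ho'')
  have mem : ∀ m ∈ octadList, ptA ∈ maskSet m → ptB ∈ maskSet m →
      m ∈ octadList.filter fun m => m.testBit 0 && m.testBit 1 := fun m hm h1 h2 =>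
    List.mem_filter.2 ⟨hm, by
      rw [Bool.and_eq_true]
      exact ⟨(testBit_iff_mem (i := 0)).2 h1, (testBit_iff_mem (i := 1)).2 h2⟩⟩
  obtain ⟨k, hk, hkm⟩ := classes_transitive octTwo_classes
    (mem m hm (hm' ▸ (hiff o').1.1 hp.2.1) (hm' ▸ (hiff o').2.1 hq.2.1))
    (mem n hn (hn' ▸ (hiff o'').1.1 hp.2.2) (hn' ▸ (hiff o'').2.1 hq.2.2)) (by
    simp only [← card_maskSet, maskSet_and]
    rw [hm', hn', show maskSet refOctad = g • o from hgo.symm, card_inter_smul, card_inter_smul, h])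
  rw [hm', hn'] at hkm
  exact ⟨g⁻¹ * k * g, mul_mem (mul_mem (inv_mem hg) hk.1) hg,
    conj_fix (X := Cfsg.GolayPt) hgp (fix_of_mem_stabIn hk (by norm_num) (by simp)),
    conj_fix (X := Cfsg.GolayPt) hgq (fix_of_mem_stabIn hk (by norm_num) (by simp)),
    conj_fix hgo (hk.2 _ List.mem_cons_self), conj_map hkm⟩

end Cfsg.Agent.S1604
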