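import Cfsg.Statements.S1605
import Cfsg.Agent.Lib.Golay.OrbitChecks
-- import your own Cfsg.Agent.* helpers here

set_option autoImplicit false
open scoped Pointwise
open Cfsg

namespace Cfsg.Agent.S1605

open Cfsg.Agent.Golay Cfsg.Agent.Golay.Cert
open scoped Pointwise

/-- The two-point stabiliser acts on the 176 octads through the first point avoiding the second with rank 3 and subdegrees 1, 70, 105 (intersections 8, 2, 4). -/
theorem result (p q : Cfsg.GolayPt) (hpq : p ≠ q) : {x : Finset Cfsg.GolayPt | (x ∈ Cfsg.octads ∧ p ∈ x ∧ q ∉ x)}.ncard = 176 ∧ (∀ o o' : Finset Cfsg.GolayPt, (o ∈ Cfsg.octads ∧ p ∈ o ∧ q ∉ o) → (o' ∈ Cfsg.octads ∧ p ∈ o' ∧ q ∉ o') → ∃ g : Equiv.Perm Cfsg.GolayPt, g ∈ Cfsg.M24 ∧ g p = p ∧ g q = q ∧ g • o = o') ∧ ∀ o : Finset Cfsg.GolayPt, (o ∈ Cfsg.octads ∧ p ∈ o ∧ q ∉ o) → {x : Finset Cfsg.GolayPt | (x ∈ Cfsg.octads ∧ p ∈ x ∧ q ∉ x) ∧ (o ∩ x).card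 = 2}.ncard = 70 ∧ {x : Finset Cfsg.GolayPt | (x ∈ Cfsg.octads ∧ p ∈ x ∧ q ∉ x) ∧ (o ∩ x).card = 4}.ncard = 105 ∧ ∀ o' o'' : Finset Cfsg.GolayPt, (o' ∈ Cfsg.octads ∧ p ∈ o' ∧ q ∉ o') → (o'' ∈ Cfsg.octads ∧ p ∈ o'' ∧ q ∉ o'') → (o ∩ o').card = (o ∩ o'').card → ∃ g : Equiv.Perm Cfsg.GolayPt, g ∈ Cfsg.M24 ∧ g p = p ∧ g q = q ∧ g • o = o ∧ g • o' = o'' := by
  have move : ∀ o : Finset Cfsg.GolayPt, (o ∈ Cfsg.octads ∧ p ∈ o ∧ q ∉ o) →
      ∃ g ∈ Cfsg.M24, g • o = refOct ∧ g p = ptA ∧ g q = ptC := by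
    rintro o ⟨ho, hp, hq⟩
    obtain ⟨g, hg, hgo, hgx, hgq⟩ := octad_out_move ho (k := 1) (x := fun _ => p) (y := fun _ => ptA)
      (by norm_num) (Function.injective_of_subsingleton _) (fun _ => hp)
      (Function.injective_of_subsingleton _) (fun _ => ptA_mem) hq
    exact ⟨g, hg, hgo, hgx 0, hgq⟩
  have trans : ∀ o o' : Finset Cfsg.GolayPt, (o ∈ Cfsg.octads ∧ p ∈ o ∧ q ∉ o) →
      (o' ∈ Cfsg.octads ∧ p ∈ o' ∧ q ∉ o') →
      ∃ g : Equiv.Perm Cfsg.GolayPt, g ∈ Cfsg.M24 ∧ g p = p ∧ g q = q ∧ g • o = o' := by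
    intro o o' ho ho'
    obtain ⟨a, ha, hao, hap, haq⟩ := move o ho
    obtain ⟨b, hb, hbo, hbp, hbq⟩ := move o' ho'
    refine ⟨b⁻¹ * a, mul_mem (inv_mem hb) ha, ?_, ?_, ?_⟩
    · rw [Equiv.Perm.mul_apply, hap, ← hbp]; exact b.symm_apply_apply p
    · rw [Equiv.Perm.mul_apply, haq, ← hbq]; exact b.symm_apply_apply q
    · rw [mul_smul, hao, ← hbo, inv_smul_smul]
  obtain ⟨g0, hg0, hgp0, hgq0⟩ : ∃ g ∈ Cfsg.M24, g p = ptA ∧ g q = ptC := by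
    obtain ⟨g, hg, h⟩ := exists_M24_map' (k := 2) (x := ![p, q]) (y := ![ptA, ptC]) (by norm_num)
      (by intro i j e; fin_cases i <;> fin_cases j <;> simp_all [hpq, hpq.symm]) (by decide)
    exact ⟨g, hg, h 0, h 1⟩
  refine ⟨?_, trans, fun o ho => ?_⟩
  · rw [ncard_smul g0 _ (fun s => s ∈ Cfsg.octads ∧ (ptA ∈ s ∧ ptC ∉ s)) fun s => by
        rw [smul_mem_octads_iff hg0, ← hgp0, ← hgq0, apply_mem_smul_iff, apply_mem_smul_iff],
      ncard_octads_filter (fun s => ptA ∈ s ∧ ptC ∉ s)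
        (fun m => m.testBit (0 : Fin 24) && !(m.testBit (5 : Fin 24))) fun m => by
        rw [Bool.and_eq_true, Bool.not_eq_true', ← Bool.not_eq_true, testBit_iff_mem, testBit_iff_mem]]
    decide +kernel
  obtain ⟨g, hg, hgo, hgp, hgq⟩ := move o ho
  have hiff : ∀ s : Finset Cfsg.GolayPt, (s ∈ Cfsg.octads ∧ p ∈ s ∧ q ∉ s) ↔
      g • s ∈ Cfsg.octads ∧ ptA ∈ g • s ∧ ptC ∉ g • s := fun s => by
    rw [smul_mem_octads_iff hg, ← hgp, ← hgq, apply_mem_smul_iff, apply_mem_smul_iff]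
  have cnt : ∀ k, {x : Finset Cfsg.GolayPt | (x ∈ Cfsg.octads ∧ p ∈ x ∧ q ∉ x) ∧ (o ∩ x).card = k}.ncard
      = (octadList.filter fun m =>
          (m.testBit (0 : Fin 24) && !(m.testBit (5 : Fin 24))) && meetsB refOctad k m).length := fun k => by
    rw [← ncard_octads_filter (fun s => (ptA ∈ s ∧ ptC ∉ s) ∧ (refOct ∩ s).card = k) _ fun m => by
      rw [Bool.and_eq_true, Bool.and_eq_true, Bool.not_eq_true', ← Bool.not_eq_true, meetsB_iff,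
        testBit_iff_mem, testBit_iff_mem]]
    exact ncard_smul g _ _ fun s => by rw [hiff, ← hgo, card_inter_smul, and_assoc]
  refine ⟨by rw [cnt]; decide +kernel, by rw [cnt]; decide +kernel, fun o' o'' ho' ho'' h => ?_⟩
  have h1 := (hiff o').1 ho'
  have h2 := (hiff o'').1 ho''
  obtain ⟨m, hm, hm'⟩ := mem_octads.1 h1.1
  obtain ⟨n, hn, hn'⟩ := mem_octads.1 h2.1
  have mem : ∀ m ∈ octadList, ptA ∈ maskSet m → ptC ∉ maskSet m →
      m ∈ octadList.filter fun m => m.testBit 0 && !(m.testBit 5) := fun m hm h1 h2 =>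
    List.mem_filter.2 ⟨hm, by
      rw [Bool.and_eq_true, Bool.not_eq_true', ← Bool.not_eq_true]
      exact ⟨(testBit_iff_mem (i := 0)).2 h1, fun e => h2 ((testBit_iff_mem (i := 5)).1 e)⟩⟩
  obtain ⟨k, hk, hkm⟩ := classes_transitive octOutIn_classes
    (mem m hm (hm' ▸ h1.2.1) (hm' ▸ h1.2.2)) (mem n hn (hn' ▸ h2.2.1) (hn' ▸ h2.2.2)) (by
    simp only [← card_maskSet, maskSet_and]
    rw [hm', hn', show maskSet refOctad = g • o from hgo.symm, card_inter_smul, card_inter_smul, h])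
  rw [hm', hn'] at hkm
  exact ⟨g⁻¹ * k * g, mul_mem (mul_mem (inv_mem hg) hk.1) hg,
    conj_fix (X := Cfsg.GolayPt) hgp (fix_of_mem_stabIn hk (by norm_num) (by simp)),
    conj_fix (X := Cfsg.GolayPt) hgq (fix_of_mem_stabIn hk (by norm_num) (by simp)),
    conj_fix hgo (hk.2 _ List.mem_cons_self), conj_map hkm⟩

end Cfsg.Agent.S1605
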