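import Cfsg.Statements.S1606
import Cfsg.Agent.Lib.Golay.Local.M22Small
import Cfsg.Agent.Lib.Golay.Local.M11Tables
-- import your own Cfsg.Agent.* helpers here

set_option autoImplicit false
open scoped Pointwise
open Cfsg

namespace Cfsg.Agent.S1606

open Cfsg.Agent.Golay Cfsg.Agent.Golay.Local

/-- The stabiliser of two points in the group of the length-24 code has no subgroups of index 56 or 210. -/
theorem result (p q : Cfsg.GolayPt) (hpq : p ≠ q) (H : Subgroup ↥(MulAction.stabilizer Cfsg.M24 p ⊓ MulAction.stabilizer Cfsg.M24 q)) : H.index ≠ 56 ∧ H.index ≠ 210 := by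
  obtain ⟨g, hg, h⟩ := exists_M24_map' (k := 2) (by norm_num) (x := ![pt 23, pt 0]) (y := ![p, q])
    (by decide) (by intro i j; fin_cases i <;> fin_cases j <;> simp [hpq, hpq.symm])
  have hp : (⟨g, hg⟩ : Cfsg.M24) • pt 23 = p := h 0
  have hq : (⟨g, hg⟩ : Cfsg.M24) • pt 0 = q := h 1
  let e : ↥stdG ≃* ↥(MulAction.stabilizer Cfsg.M24 p ⊓ MulAction.stabilizer Cfsg.M24 q) :=
    conjEquiv ⟨g, hg⟩ fun x => by
      simp only [stdG, Subgroup.mem_inf, mem_stab_conj _ x hp, mem_stab_conj _ x hq]
  have hi : (H.comap e.toMonoidHom).index = H.index := Subgroup.index_comap_of_surjective H e.surjective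
  rw [← hi]
  exact no_small_index _

end Cfsg.Agent.S1606
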