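import Cfsg.Statements.S1607
import Cfsg.Agent.Lib.Golay.OrbitChecks
-- import your own Cfsg.Agent.* helpers here

set_option autoImplicit false
open scoped Pointwise
open Cfsg

namespace Cfsg.Agent.S1607

open Cfsg.Agent.Golay Cfsg.Agent.Golay.Cert
open scoped Pointwise

/-- The point stabiliser acts on the 253 heptads of its S(4, 7, 23) with rank 3 and subdegrees 1, 112, 140 (intersections 8, 2, 4). -/
theorem result (x : Cfsg.GolayPt) (o : Finset Cfsg.GolayPt) (ho : o ∈ Cfsg.octads) (hx : x ∈ o) : {o' : Finset Cfsg.GolayPt | o' ∈ Cfsg.octads ∧ x ∈ o' ∧ (o ∩ o').card = 2}.ncard = 112 ∧ {o' : Finset Cfsg.GolayPt | o' ∈ Cfsg.octads ∧ x ∈ o' ∧ (o ∩ o').card = 4}.ncard = 140 ∧ ∀ o' o'' : Finset Cfsg.GolayPt, o' ∈ Cfsg.octads → o'' ∈ Cfsg.octads → x ∈ o' → x ∈ o'' → (o ∩ o').card = (o ∩ o'').card → ∃ g : Equiv.Perm Cfsg.GolayPt, g ∈ Cfsg.M24 ∧ g x = x ∧ g • o = o ∧ g • o' = o'' := by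
  obtain ⟨g, hg, hgo, hgx⟩ := octad_move ho (k := 1) (x := fun _ => x) (y := fun _ => ptA)
    (by norm_num) (Function.injective_of_subsingleton _) (fun _ => hx)
    (Function.injective_of_subsingleton _) (fun _ => ptA_mem)
  have hgx : g x = ptA := hgx 0
  have hiff : ∀ s : Finset Cfsg.GolayPt, x ∈ s ↔ ptA ∈ g • s := fun s => by
    rw [← hgx, apply_mem_smul_iff]
  have cnt : ∀ k, {o' : Finset Cfsg.GolayPt | o' ∈ Cfsg.octads ∧ x ∈ o' ∧ (o ∩ o').card = k}.ncard
      = (octadList.filter fun m => m.testBit (0 : Fin 24) && meetsB refOctad k m).length := fun k => by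
    rw [← ncard_octads_filter (fun s => ptA ∈ s ∧ (refOct ∩ s).card = k) _ fun m => by
      rw [Bool.and_eq_true, meetsB_iff, testBit_iff_mem]]
    exact ncard_smul g _ _ fun s => by
      rw [smul_mem_octads_iff hg, hiff, ← hgo, card_inter_smul]
  refine ⟨by rw [cnt]; decide +kernel, by rw [cnt]; decide +kernel, fun o' o'' ho' ho'' hx' hx'' h => ?_⟩
  obtain ⟨m, hm, hm'⟩ := mem_octads.1 (smul_mem_octads hg ho')
  obtain ⟨n, hn, hn'⟩ := mem_octads.1 (smul_mem_octads hg ho'')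
  obtain ⟨k, hk, hkm⟩ := classes_transitive octIn_classes
    (List.mem_filter.2 ⟨hm, (testBit_iff_mem (i := 0)).2 (hm' ▸ (hiff o').1 hx')⟩)
    (List.mem_filter.2 ⟨hn, (testBit_iff_mem (i := 0)).2 (hn' ▸ (hiff o'').1 hx'')⟩) (by
    simp only [← card_maskSet, maskSet_and]
    rw [hm', hn', show maskSet refOctad = g • o from hgo.symm, card_inter_smul, card_inter_smul, h])
  rw [hm', hn'] at hkm
  exact ⟨g⁻¹ * k * g, mul_mem (mul_mem (inv_mem hg) hk.1) hg,
    conj_fix (X := Cfsg.GolayPt) hgx (fix_of_mem_stabIn hk (by norm_num) (by simp)),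
    conj_fix hgo (hk.2 _ List.mem_cons_self), conj_map hkm⟩

end Cfsg.Agent.S1607
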