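import Cfsg.Statements.S1609
import Cfsg.Agent.Lib.Golay.Local.M23Index253
-- import your own Cfsg.Agent.* helpers here

set_option autoImplicit false
open scoped Pointwise
open Cfsg

namespace Cfsg.Agent.S1609

open Cfsg.Agent.Golay Cfsg.Agent.Golay.Local
open scoped Pointwise

/-- Subgroups of index 253 in the Mathieu group of degree 23 are exactly the duad stabilisers and the heptad stabilisers. -/
theorem result (x : Cfsg.GolayPt) (H : Subgroup ↥(MulAction.stabilizer Cfsg.M24 x)) (hH : H.index = 253) : (∃ s : Finset Cfsg.GolayPt, s.card = 2 ∧ x ∉ s ∧ H = (MulAction.stabilizer Cfsg.M24 s).subgroupOf (MulAction.stabilizer Cfsg.M24 x)) ∨ ∃ o ∈ Cfsg.octads, x ∈ o ∧ H = (MulAction.stabilizer Cfsg.M24 o).subgroupOf (MulAction.stabilizer Cfsg.M24 x) := by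
  obtain ⟨g, hg, h⟩ := exists_M24_map' (k := 1) (by norm_num) (x := ![pt 23]) (y := ![x])
    (Function.injective_of_subsingleton _) (Function.injective_of_subsingleton _)
  set g' : Cfsg.M24 := ⟨g, hg⟩
  have hx : g' • pt 23 = x := h 0
  let e : ↥stdP ≃* ↥(MulAction.stabilizer Cfsg.M24 x) :=
    conjEquiv g' fun y => (mem_stab_conj g' y hx).symm
  have hi : (H.comap e.toMonoidHom).index = 253 := by
    rw [Subgroup.index_comap_of_surjective H (f := e.toMonoidHom) e.surjective, hH]
  have back : ∀ C : Finset Cfsg.GolayPt, H.comap e.toMonoidHom = (MulAction.stabilizer Cfsg.M24 C).subgroupOf stdP →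
      H = (MulAction.stabilizer Cfsg.M24 (g' • C)).subgroupOf (MulAction.stabilizer Cfsg.M24 x) := by
    intro C hC
    ext a
    have h1 : a ∈ H ↔ e.symm a ∈ H.comap e.toMonoidHom := by simp
    rw [h1, hC, Subgroup.mem_subgroupOf, Subgroup.mem_subgroupOf,
      ← mem_stab_conj g' ((e.symm a : ↥stdP) : Cfsg.M24) (rfl : g' • C = g' • C)]
    have h2 : g' * ((e.symm a : ↥stdP) : Cfsg.M24) * g'⁻¹ = (a : Cfsg.M24) :=
      congrArg (fun z : ↥(MulAction.stabilizer Cfsg.M24 x) => (z : Cfsg.M24)) (e.apply_symm_apply a)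
    rw [h2]
  rcases index253 _ hi with ⟨s, hs, hs', e'⟩ | ⟨o, ho, ho', e'⟩
  · refine Or.inl ⟨g' • s, ?_, ?_, back s e'⟩
    · rw [Finset.card_smul_finset, hs]
    · rw [← hx, Finset.smul_mem_smul_finset_iff]; exact hs'
  · refine Or.inr ⟨g' • o, (smul_mem_octads_iff g'.2).2 ho, ?_, back o e'⟩
    rw [← hx, Finset.smul_mem_smul_finset_iff]; exact ho'

end Cfsg.Agent.S1609
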