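import Cfsg.Statements.S1610
import Cfsg.Agent.Lib.Codes.Hexacode

set_option autoImplicit false
open Cfsg

namespace Cfsg.Agent.S1610

open Cfsg.Agent.Hexacode

theorem ncard_wt {F : Type*} [Field F] [Fintype F] [DecidableEq F] (hF : Fintype.card F = 4) {ω : F}
    (hω : ω ^ 2 + ω + 1 = 0) (k : ℕ) :
    {x : Fin 6 → F | x ∈ Cfsg.hexacode F ω ∧ (Finset.univ.filter fun i => x i ≠ 0).card = k}.ncard =
      (hexList.filter fun n => Nat.beq (wt (dec n)) k).length := by
  have hinj : ∀ n ∈ hexList, ∀ m ∈ hexList, evV ω (dec n) = evV ω (dec m) → n = m := by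
    intro n hn m hm h
    have hh := table.2.1
    rw [List.all_eq_true] at hh
    have e1 := hh n hn
    have e2 := hh m hm
    rw [Bool.and_eq_true] at e1 e2
    rw [← Nat.eq_of_beq_eq_true e1.1, ← Nat.eq_of_beq_eq_true e2.1, evV_injective hF hω h]
  set l := hexList.filter fun n => Nat.beq (wt (dec n)) k with hl
  have hset : {x : Fin 6 → F | x ∈ Cfsg.hexacode F ω ∧ (Finset.univ.filter fun i => x i ≠ 0).card = k} =
      (fun n => evV ω (dec n)) '' (l.toFinset : Set ℕ) := by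
    ext x
    simp only [Set.mem_setOf_eq, Set.mem_image, List.coe_toFinset, hl, List.mem_filter, Nat.beq_eq]
    constructor
    · rintro ⟨hx, hk⟩
      obtain ⟨a, b, c, rfl⟩ := (mem_iff hF hω _).mp hx
      rw [wt_eq hF hω] at hk
      exact ⟨enc (comb a b c), ⟨by simpa [isW] using table.1 a b c, by rw [dec_enc]; exact hk⟩, by rw [dec_enc]⟩
    · rintro ⟨n, ⟨hn, hk⟩, rfl⟩
      exact ⟨(evV_mem_iff hF hω _).mpr (dec_isW hn), by rw [wt_eq hF hω]; exact hk⟩
  rw [hset, Set.InjOn.ncard_image, Set.ncard_coe_finset, List.toFinset_card_of_nodup (table.2.2.2.1.filter _)]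
  intro n hn m hm h
  simp only [List.coe_toFinset, hl, List.mem_filter, Set.mem_setOf_eq] at hn hm
  exact hinj n hn.1 m hm.1 h


/-- The hexacode has 64 words, minimum weight 4, and weight distribution 0^1 4^45 6^18. -/
theorem result (F : Type*) [Field F] [Fintype F] [DecidableEq F] (hF : Fintype.card F = 4) (ω : F) (hω : ω ^ 2 + ω + 1 = 0) : Nat.card ↥(Cfsg.hexacode F ω) = 64 ∧ (∀ x ∈ Cfsg.hexacode F ω, x ≠ 0 → (Finset.univ.filter fun i => x i ≠ 0).card = 4 ∨ (Finset.univ.filter fun i => x i ≠ 0).card = 6) ∧ {x : Fin 6 → F | x ∈ Cfsg.hexacode F ω ∧ (Finset.univ.filter fun i => x i ≠ 0).card = 4}.ncard = 45 ∧ {x : Fin 6 → F | x ∈ Cfsg.hexacode F ω ∧ (Finset.univ.filter fun i => x i ≠ 0).card = 6}.ncard = 18 := by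
  refine ⟨natCard_code hF hω, fun x hx hx0 => ?_, (ncard_wt hF hω 4).trans table.2.2.2.2.2.1,
    (ncard_wt hF hω 6).trans table.2.2.2.2.2.2⟩
  obtain ⟨a, b, c, rfl⟩ := (mem_iff hF hω _).mp hx
  rw [wt_eq hF hω]
  have h := table.2.2.2.2.1
  rw [List.all_eq_true] at h
  have e := h (enc (comb a b c)) (by simpa [isW] using table.1 a b c)
  simp only [dec_enc, Bool.or_eq_true, Nat.beq_eq] at e
  rcases e with (e | e) | e
  · exfalso
    apply hx0
    have e2 : comb a b c = 0 := enc_injective (by rw [e]; rfl)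
    rw [e2]
    funext i
    exact (ev_zero_iff hF hω _).mpr rfl
  · exact Or.inl e
  · exact Or.inr e

end Cfsg.Agent.S1610
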