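import Cfsg.Statements.S1611
import Cfsg.Agent.Lib.Codes.Hexacode
import Mathlib.GroupTheory.SpecificGroups.Alternating

set_option autoImplicit false
open Cfsg

namespace Cfsg.Agent.S1611

open Cfsg.Agent.Hexacode

section

variable {F : Type*} [Field F] [Fintype F] (hF : Fintype.card F = 4) {ω : F} (hω : ω ^ 2 + ω + 1 = 0)

/-- The monomial map preserves the code. -/
def Pres (ω : F) (σ : Equiv.Perm (Fin 6)) (c : Fin 6 → Fˣ) : Prop :=
  ∀ x ∈ Cfsg.hexacode F ω, Cfsg.monomialMap σ c x ∈ Cfsg.hexacode F ω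

omit [Fintype F] in
theorem monomialMap_lin (σ : Equiv.Perm (Fin 6)) (c : Fin 6 → Fˣ) (a b : F) (x y : Fin 6 → F) :
    Cfsg.monomialMap σ c (a • x + b • y) = a • Cfsg.monomialMap σ c x + b • Cfsg.monomialMap σ c y := by
  funext i; simp [Cfsg.monomialMap]; ring

omit [Fintype F] in
theorem monomialMap_injective (σ : Equiv.Perm (Fin 6)) (c : Fin 6 → Fˣ) :
    Function.Injective (Cfsg.monomialMap σ c) := fun x y h => funext fun i => by
  have := congrFun h (σ i)
  simpa [Cfsg.monomialMap] using this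

include hF hω

theorem exists_sym (c : Fin 6 → Fˣ) : ∃ d : Fin 6 → Fin 4, (∀ i, d i ≠ 0) ∧ ∀ i, ev ω (d i) = c i := by
  choose d hd using fun i => ev_surjective hF hω (c i : F)
  exact ⟨d, fun i h => (c i).ne_zero (by rw [← hd i, h]; rfl), hd⟩

theorem map_evV {σ : Equiv.Perm (Fin 6)} {c : Fin 6 → Fˣ} {d : Fin 6 → Fin 4} {inv : Fin 6 → Fin 6}
    (hd : ∀ i, ev ω (d i) = c i) (hi : ∀ i, σ.symm i = inv i) (v : V4) :
    Cfsg.monomialMap σ c (evV ω v) = evV ω (mono inv d v) := by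
  funext i; simp [Cfsg.monomialMap, evV, mono, ev_mul hF hω, hd, hi]

theorem pres_iff {σ : Equiv.Perm (Fin 6)} {c : Fin 6 → Fˣ} {d : Fin 6 → Fin 4} {inv : Fin 6 → Fin 6}
    (hd : ∀ i, ev ω (d i) = c i) (hi : ∀ i, σ.symm i = inv i) :
    Pres ω σ c ↔ presGens inv d = true := by
  obtain ⟨e1, e2, e3⟩ := evV_gens hF hω
  constructor
  · intro h
    have hg : ∀ a b c', isW (mono inv d (comb a b c')) = true := fun a b c' => by
      rw [← evV_mem_iff hF hω, ← map_evV hF hω hd hi]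
      exact h _ ((mem_iff hF hω _).mpr ⟨a, b, c', rfl⟩)
    have hc : comb 1 0 0 = g1 ∧ comb 0 1 0 = g2 ∧ comb 0 0 1 = g3 := by decide
    simp only [presGens, Bool.and_eq_true]
    exact ⟨⟨hc.1 ▸ hg 1 0 0, hc.2.1 ▸ hg 0 1 0⟩, hc.2.2 ▸ hg 0 0 1⟩
  · intro h x hx
    simp only [presGens, Bool.and_eq_true] at h
    obtain ⟨a, b, c', rfl⟩ := (mem_iff hF hω _).mp hx
    have key : ∀ v, isW (mono inv d v) = true → Cfsg.monomialMap σ c (evV ω v) ∈ Cfsg.hexacode F ω :=
      fun v hv => by rw [map_evV hF hω hd hi]; exact (evV_mem_iff hF hω _).mpr hv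
    have heq : evV ω (comb a b c') =
        (1 : F) • ((ev ω a) • evV ω g1 + (ev ω b) • evV ω g2) + (ev ω c') • evV ω g3 := by
      rw [one_smul, evV_comb hF hω]
    rw [heq, monomialMap_lin, monomialMap_lin]
    exact Submodule.add_mem _ (Submodule.smul_mem _ _ (Submodule.add_mem _ (Submodule.smul_mem _ _ (key _ h.1.1))
      (Submodule.smul_mem _ _ (key _ h.1.2)))) (Submodule.smul_mem _ _ (key _ h.2))

theorem diag {c : Fin 6 → Fˣ} (h : Pres ω 1 c) (i j : Fin 6) : c i = c j := by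
  obtain ⟨d, hd0, hd⟩ := exists_sym hF hω c
  have h2 := (scalar_spec hd0).2 ((pres_iff hF hω hd (inv := id) (fun _ => rfl)).mp h)
  apply Units.ext
  rw [← hd, ← hd, h2 i, h2 j]

theorem exists_wit {σ : Equiv.Perm (Fin 6)} (h : Equiv.Perm.sign σ = 1) : ∃ c, Pres ω σ c := by
  have h2 := wit_table.2 σ h
  rw [List.mem_map] at h2
  obtain ⟨w, hw, hp⟩ := h2
  have h3 := wit_table.1
  rw [List.all_eq_true] at h3
  have e := h3 w hw
  simp only [Bool.and_eq_true, List.all_eq_true, List.mem_finRange, bne_iff_ne, forall_true_left] at e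
  refine ⟨fun i => Units.mk0 (ev ω (getFin w.2 i)) fun e0 => e.2 i ((ev_zero_iff hF hω _).mp e0), ?_⟩
  refine (pres_iff hF hω (d := getFin w.2) (inv := getFin w.1) (fun i => rfl) (fun i => ?_)).mpr e.1
  rw [hp]
  apply Fin.ext
  simp only [getFin, pl, Fin.ofNat]
  rw [List.getD_eq_getElem _ _ (by simp), List.getElem_ofFn, Fin.eta, Nat.mod_eq_of_lt (Fin.isLt _)]

theorem pres_comp {σ τ : Equiv.Perm (Fin 6)} {w d : Fin 6 → Fˣ} (hw : Pres ω σ w)
    (h : Pres ω (σ * τ) fun i => w i * d (σ.symm i)) : Pres ω τ d := by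
  intro x hx
  have hsurj : ∀ y ∈ Cfsg.hexacode F ω, ∃ z ∈ Cfsg.hexacode F ω, Cfsg.monomialMap σ w z = y := by
    intro y hy
    let f : Cfsg.hexacode F ω → Cfsg.hexacode F ω := fun z => ⟨Cfsg.monomialMap σ w z, hw _ z.2⟩
    have hf : Function.Injective f := fun z z' e =>
      Subtype.ext (monomialMap_injective σ w (congrArg Subtype.val e))
    obtain ⟨z, hz⟩ := (Finite.injective_iff_surjective.mp hf) ⟨y, hy⟩
    exact ⟨z, z.2, congrArg Subtype.val hz⟩
  obtain ⟨z, hz, e⟩ := hsurj _ (h x hx)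
  have : z = Cfsg.monomialMap τ d x := by
    refine monomialMap_injective σ w (e.trans (funext fun i => ?_))
    simp [Cfsg.monomialMap, ← Equiv.Perm.inv_def, mul_assoc]
  exact this ▸ hz

theorem even_of_pres {σ : Equiv.Perm (Fin 6)} {c : Fin 6 → Fˣ} (h : Pres ω σ c) : Equiv.Perm.sign σ = 1 := by
  by_contra hs
  have hs' : Equiv.Perm.sign σ = -1 := (Int.units_eq_one_or _).resolve_left hs
  set τ : Equiv.Perm (Fin 6) := Equiv.swap 4 5
  have he : Equiv.Perm.sign (σ * τ) = 1 := by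
    rw [map_mul, hs', Equiv.Perm.sign_swap (by decide)]; decide
  obtain ⟨w, hw⟩ := exists_wit hF hω he
  let d : Fin 6 → Fˣ := fun j => c ((σ * τ) j) * (w ((σ * τ) j))⁻¹
  have hd' : Pres ω τ d := by
    refine pres_comp hF hω hw ?_
    convert h using 1
    · rw [mul_assoc, Equiv.swap_mul_self, mul_one]
    · funext i
      have e : (σ * τ) ((σ * τ).symm i) = i := Equiv.apply_symm_apply _ _
      simp only [d, e, mul_comm (c i), mul_inv_cancel_left]
  obtain ⟨ds, hds0, hds⟩ := exists_sym hF hω d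
  have := (pres_iff hF hω hds (inv := ⇑τ) (fun i => by simp [τ])).mp hd'
  rw [(scalar_spec hds0).1] at this
  exact Bool.false_ne_true this

theorem natCard_pairs :
    Nat.card {f : Equiv.Perm (Fin 6) × (Fin 6 → Fˣ) // Pres ω f.1 f.2} = 1080 := by
  choose w hw using fun σ : alternatingGroup (Fin 6) => exists_wit hF hω (Equiv.Perm.mem_alternatingGroup.mp σ.2)
  let Ψ : alternatingGroup (Fin 6) × Fˣ → {f : Equiv.Perm (Fin 6) × (Fin 6 → Fˣ) // Pres ω f.1 f.2} :=
    fun p => ⟨((p.1 : Equiv.Perm (Fin 6)), fun i => p.2 * w p.1 i), fun x hx => by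
      have : Cfsg.monomialMap (p.1 : Equiv.Perm (Fin 6)) (fun i => p.2 * w p.1 i) x =
          (p.2 : F) • Cfsg.monomialMap (p.1 : Equiv.Perm (Fin 6)) (w p.1) x := by
        funext i; simp [Cfsg.monomialMap, mul_assoc]
      rw [this]
      exact Submodule.smul_mem _ _ (hw p.1 x hx)⟩
  have hΨ : Function.Bijective Ψ := by
    refine ⟨fun p q e => ?_, ?_⟩
    · obtain ⟨σ, a⟩ := p
      obtain ⟨σ', a'⟩ := q
      have e' := congrArg Subtype.val e
      have e1 : (σ : Equiv.Perm (Fin 6)) = σ' := congrArg Prod.fst e'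
      obtain rfl : σ = σ' := Subtype.ext e1
      have e2 : a * w σ (0 : Fin 6) = a' * w σ (0 : Fin 6) := congrFun (congrArg Prod.snd e') 0
      exact Prod.ext rfl (mul_right_cancel e2)
    · rintro ⟨⟨σ, c⟩, h⟩
      let s : alternatingGroup (Fin 6) := ⟨σ, Equiv.Perm.mem_alternatingGroup.mpr (even_of_pres hF hω h)⟩
      let d : Fin 6 → Fˣ := fun j => c (σ j) * (w s (σ j))⁻¹
      have hd : Pres ω 1 d := by
        refine pres_comp hF hω (hw s) ?_
        convert h using 1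
        · exact mul_one _
        · funext i
          simp only [d, s, Equiv.apply_symm_apply]
          rw [mul_comm (c i) _, mul_inv_cancel_left]
      refine ⟨(s, d 0), Subtype.ext (Prod.ext rfl (funext fun i => ?_))⟩
      show d 0 * w s i = c i
      rw [diag hF hω hd 0 (σ.symm i)]
      simp only [d, Equiv.apply_symm_apply, inv_mul_cancel_right]
  rw [← Nat.card_eq_of_bijective Ψ hΨ, Nat.card_prod, nat_card_alternatingGroup, Nat.card_fin, Nat.card_units,
    Nat.card_eq_fintype_card, hF]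
  rfl

end


/-- The monomial automorphism group of the hexacode has order 1080: its diagonal part is the scalars and its permutation parts form the alternating group of degree 6. -/
theorem result (F : Type*) [Field F] [Fintype F] [DecidableEq F] (hF : Fintype.card F = 4) (ω : F) (hω : ω ^ 2 + ω + 1 = 0) : Nat.card {f : Equiv.Perm (Fin 6) × (Fin 6 → Fˣ) // (∀ x ∈ Cfsg.hexacode F ω, Cfsg.monomialMap f.1 f.2 x ∈ Cfsg.hexacode F ω)} = 1080 ∧ (∀ c : Fin 6 → Fˣ, (∀ x ∈ Cfsg.hexacode F ω, Cfsg.monomialMap 1 c x ∈ Cfsg.hexacode F ω) → ∀ i j, c i = c j) ∧ {σ : Equiv.Perm (Fin 6) | ∃ c : Fin 6 → Fˣ, (∀ x ∈ Cfsg.hexacode F ω, Cfsg.monomialMap σ c x ∈ Cfsg.hexacode F ω)} = (alternatingGroup (Fin 6) : Set (Equiv.Perm (Fin 6))) := by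
  refine ⟨natCard_pairs hF hω, fun c h => diag hF hω h, ?_⟩
  ext σ
  simp only [Set.mem_setOf_eq, SetLike.mem_coe, Equiv.Perm.mem_alternatingGroup]
  exact ⟨fun ⟨c, h⟩ => even_of_pres hF hω h, fun h => exists_wit hF hω h⟩

end Cfsg.Agent.S1611
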