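import Cfsg.Statements.S1612
import Cfsg.Agent.Lib.Fischer.Classes

set_option autoImplicit false
open Cfsg

namespace Cfsg.Agent.S1612

open Cfsg.Agent.Fischer Cfsg.Agent


/-- In a 3-transposition group (no solvable normal subgroup, perfect derived group), the normaliser of a commuting set of transpositions of maximum size contains a Sylow 2-subgroup and is doubly transitive on the set. -/
theorem result {G : Type*} [Group G] [Finite G] (hsol : ∀ N : Subgroup G, N.Normal → Group.IsSolvable ↥N → N = ⊥) (hperf : ⁅commutator G, commutator G⁆ = commutator G) {D : Set G} (hD : Cfsg.IsThreeTranspositionClass D) {E : Set G} (hE : E ⊆ D) (hc : ∀ a ∈ E, ∀ b ∈ E, Commute a b) (hmax : ∀ E' : Set G, E' ⊆ D → (∀ a ∈ E', ∀ b ∈ E', Commute a b) → E'.ncard ≤ E.ncard) : (∃ P : Sylow 2 G, (P : Subgroup G) ≤ Subgroup.normalizer E) ∧ ∀ a ∈ E, ∀ b ∈ E, ∀ c ∈ E, ∀ d ∈ E, a ≠ b → c ≠ d → ∃ g ∈ Subgroup.normalizer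 E, g * a * g⁻¹ = c ∧ g * b * g⁻¹ = d := by
  have hT := TClass.toGroup hD
  obtain ⟨-, h2, h3, hD2⟩ := TClass.of_no_solvable hD hsol
  have hprim := TClass.primitive_of_perfect hD hD2 (h2.le.trans bot_le) (h3.le.trans bot_le) hperf
  have hw := exists_commuting_pair hT hD2 (h3.le.trans bot_le)
  have hmaxP : ∀ (E' : Set G), E' ⊆ D → (∀ a ∈ E', ∀ b ∈ E', Commute a b) →
      E'.ncard = E.ncard → ∀ P : Subgroup G, IsPGroup 2 P → (∀ a ∈ E', a ∈ P) →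
      {y : G | y ∈ D ∧ y ∈ P} = E' := by
    intro E' hE' _ hcard P hP hEP
    refine (Set.eq_of_subset_of_ncard_le (show E' ⊆ {y : G | y ∈ D ∧ y ∈ P} from fun a ha => ⟨hE' ha, hEP a ha⟩) ?_ (Set.toFinite _)).symm
    rw [hcard]
    exact hmax _ (fun y hy => hy.1)
      (fun a ha b hb => TSet.commute_of_mem_twoGroup hD.1 hP ha.1 hb.1 ha.2 hb.2)
  have key : ∀ (S : Set G) (E₁ E₂ : Set G), S ⊆ E₁ → S ⊆ E₂ → E₁ ⊆ D → E₂ ⊆ D →
      (∀ a ∈ E₁, ∀ b ∈ E₁, Commute a b) → (∀ a ∈ E₂, ∀ b ∈ E₂, Commute a b) →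
      E₁.ncard = E.ncard → E₂.ncard = E.ncard →
      ∃ h : G, (∀ s ∈ S, Commute h s) ∧ ∀ y, y ∈ E₂ ↔ h * y * h⁻¹ ∈ E₁ := by
    intro S E₁ E₂ hS1 hS2 hD1 hD2' hc1 hc2 hn1 hn2
    set C := Subgroup.centralizer S with hC
    have hle : ∀ (E' : Set G), S ⊆ E' → (∀ a ∈ E', ∀ b ∈ E', Commute a b) →
        Subgroup.closure E' ≤ C := fun E' hS' hc' => (Subgroup.closure_le _).2 fun a ha =>
      Subgroup.mem_centralizer_iff.2 fun s hs => (hc' s (hS' hs) a ha).eq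
    have hp : ∀ (E' : Set G), E' ⊆ D → S ⊆ E' → (∀ a ∈ E', ∀ b ∈ E', Commute a b) →
        IsPGroup 2 ((Subgroup.closure E').subgroupOf C) := fun E' hE' hS' hc' =>
      (isPGroup_closure_of_commute (fun a ha => TSet.sq hD.1 (hE' ha)) hc').of_equiv
        (Subgroup.subgroupOfEquivOfLe (hle E' hS' hc')).symm
    obtain ⟨P₁, hP1⟩ := (hp E₁ hD1 hS1 hc1).exists_le_sylow
    obtain ⟨P₂, hP2⟩ := (hp E₂ hD2' hS2 hc2).exists_le_sylow
    obtain ⟨h, hh⟩ := MulAction.exists_smul_eq C P₂ P₁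
    refine ⟨h, fun s hs => (Subgroup.mem_centralizer_iff.1 h.2 s hs).symm, fun y => ?_⟩
    have e1 := hmaxP E₁ hD1 hc1 hn1 ((P₁ : Subgroup C).map C.subtype) (P₁.2.map _) (fun a ha =>
      ⟨⟨a, hle E₁ hS1 hc1 (Subgroup.subset_closure ha)⟩, hP1 (Subgroup.subset_closure ha), rfl⟩)
    have e2 := hmaxP E₂ hD2' hc2 hn2 ((P₂ : Subgroup C).map C.subtype) (P₂.2.map _) (fun a ha =>
      ⟨⟨a, hle E₂ hS2 hc2 (Subgroup.subset_closure ha)⟩, hP2 (Subgroup.subset_closure ha), rfl⟩)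
    rw [← e1, ← e2]
    constructor
    · rintro ⟨hy, z, hz, rfl⟩
      refine ⟨hT.2.1 _ _ hy, h * z * h⁻¹, ?_, rfl⟩
      rw [← hh]
      exact ⟨z, hz, rfl⟩
    · rintro ⟨hy, z, hz, hzy⟩
      have hy' : y ∈ D := by
        have := conj_inv_mem hT.2.1 (h : G) hy
        rwa [show (h : G)⁻¹ * ((h : G) * y * (h : G)⁻¹) * h = y by group] at this
      rw [← hh] at hz
      obtain ⟨w, hw', rfl⟩ := hz
      refine ⟨hy', w, hw', ?_⟩
      change (h : G) * (w : G) * (h : G)⁻¹ = (h : G) * y * (h : G)⁻¹ at hzy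
      simpa using hzy
  constructor
  · obtain ⟨P, hP⟩ := (isPGroup_closure_of_commute (fun a ha => TSet.sq hD.1 (hE ha))
      hc).exists_le_sylow
    refine ⟨P, fun g hg => ?_⟩
    have hEP := hmaxP E hE hc rfl P P.2 fun a ha => hP (Subgroup.subset_closure ha)
    rw [Subgroup.mem_set_normalizer_iff]
    intro y
    rw [← hEP]
    constructor
    · rintro ⟨hy, hyP⟩
      exact ⟨hT.2.1 g y hy, mul_mem (mul_mem hg hyP) (inv_mem hg)⟩
    · rintro ⟨hy, hyP⟩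
      have h1 := conj_inv_mem hT.2.1 g hy
      have h2 := mul_mem (mul_mem (inv_mem hg) hyP) hg
      rw [show g⁻¹ * (g * y * g⁻¹) * g = y by group] at h1 h2
      exact ⟨h1, h2⟩
  intro a ha b hb c hc' d hd hab hcd
  obtain ⟨g₁, hg₁⟩ := TClass.transitive hD a (hE ha) c (hE hc')
  have hb₁ : g₁ * b * g₁⁻¹ ∈ {y : G | y ∈ D ∧ y ≠ c ∧ Commute c y} := by
    refine ⟨hT.2.1 g₁ b (hE hb), fun h => hab ?_, ?_⟩
    · rw [← hg₁] at h; simpa using h.symm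
    · rw [← hg₁]; exact (commute_conj_iff g₁ a b).2 (hc a ha b hb)
  obtain ⟨g₂, hg₂, hg₂'⟩ := prim_trans_commuting hT hprim hw (hE hc') _ hb₁ d
    ⟨hE hd, hcd.symm, hc c hc' d hd⟩
  have hg₂c : Commute g₂ c := by
    refine commute_of_mem_commClosure (D := D) ?_
    exact Subgroup.closure_mono (show {y : G | y ∈ D ∧ y ≠ c ∧ Commute c y} ⊆
      {y : G | y ∈ D ∧ Commute c y} from fun y hy => ⟨hy.1, hy.2.2⟩) hg₂
  have ha2 : g₂ * g₁ * a * (g₂ * g₁)⁻¹ = c := by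
    calc g₂ * g₁ * a * (g₂ * g₁)⁻¹ = g₂ * (g₁ * a * g₁⁻¹) * g₂⁻¹ := by group
      _ = c := by rw [hg₁, conj_eq_self_of_commute hg₂c]
  have hb2 : g₂ * g₁ * b * (g₂ * g₁)⁻¹ = d := by
    calc g₂ * g₁ * b * (g₂ * g₁)⁻¹ = g₂ * (g₁ * b * g₁⁻¹) * g₂⁻¹ := by group
      _ = d := hg₂'
  set g := g₂ * g₁
  set E₂ := (fun y => g * y * g⁻¹) '' E
  obtain ⟨h, hcomm, hiff⟩ := key {c, d} E E₂
    (Set.insert_subset hc' (Set.singleton_subset_iff.2 hd))
    (Set.insert_subset ⟨a, ha, ha2⟩ (Set.singleton_subset_iff.2 ⟨b, hb, hb2⟩)) hE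
    (by rintro _ ⟨y, hy, rfl⟩; exact hT.2.1 g y (hE hy)) hc
    (by rintro _ ⟨x, hx, rfl⟩ _ ⟨y, hy, rfl⟩; exact (commute_conj_iff g x y).2 (hc x hx y hy))
    rfl (Set.ncard_image_of_injective _ (MulAut.conj g).injective)
  refine ⟨h * g, ?_, ?_, ?_⟩
  · rw [Subgroup.mem_set_normalizer_iff]
    intro y
    rw [show h * g * y * (h * g)⁻¹ = h * (g * y * g⁻¹) * h⁻¹ by group, ← hiff]
    exact ⟨fun hy => ⟨y, hy, rfl⟩, fun ⟨z, hz, hzy⟩ =>
      (show z = y by simpa using hzy) ▸ hz⟩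
  · rw [show h * g * a * (h * g)⁻¹ = h * (g * a * g⁻¹) * h⁻¹ by group, ha2]
    exact conj_eq_self_of_commute (hcomm c (Set.mem_insert _ _))
  · rw [show h * g * b * (h * g)⁻¹ = h * (g * b * g⁻¹) * h⁻¹ by group, hb2]
    exact conj_eq_self_of_commute (hcomm d (Set.mem_insert_of_mem _ rfl))

end Cfsg.Agent.S1612
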