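import Cfsg.Statements.S1613
import Cfsg.Agent.Lib.Fischer.Classes

set_option autoImplicit false
open Cfsg

namespace Cfsg.Agent.S1613

open Cfsg.Agent.Fischer Cfsg.Agent


/-- For a transposition x of a Fischer 3-transposition group, the transpositions commuting with x (other than x) form one conjugacy class of the subgroup they generate. -/
theorem result {G : Type*} [Group G] [Finite G] (hsol : ∀ N : Subgroup G, N.Normal → Group.IsSolvable ↥N → N = ⊥) (hperf : ⁅commutator G, commutator G⁆ = commutator G) {D : Set G} (hD : Cfsg.IsThreeTranspositionClass D) (x : G) (hx : x ∈ D) : ∀ y ∈ {y : G | y ∈ D ∧ y ≠ x ∧ Commute x y}, ∀ y' ∈ {y : G | y ∈ D ∧ y ≠ x ∧ Commute x y}, ∃ g ∈ Subgroup.closure {y : G | y ∈ D ∧ y ≠ x ∧ Commute x y}, g * y * g⁻¹ = y' := by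
  have hT := TClass.toGroup hD
  obtain ⟨-, h2, h3, hD2⟩ := TClass.of_no_solvable hD hsol
  have hprim := TClass.primitive_of_perfect hD hD2 (h2.le.trans bot_le) (h3.le.trans bot_le) hperf
  exact prim_trans_commuting hT hprim
    (exists_commuting_pair hT hD2 (h3.le.trans bot_le)) hx

end Cfsg.Agent.S1613
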