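import Cfsg.Statements.S1616
import Cfsg.Agent.Lib.FischerTwins.SympIso
import Cfsg.Agent.Lib.FischerTwins.Final
import Cfsg.Agent.Lib.FischerSolvable.Main

set_option autoImplicit false
open Cfsg

namespace Cfsg.Agent.S1616

open Cfsg.Agent Cfsg.Agent.Fischer Cfsg.Agent.FischerTwins
open Cfsg.Agent.Fischer.OddCoreLocal (Ctx)
open Cfsg.Agent.Fischer.LocalSymThree (nb)

/-- If O₂(⟨D_x⟩) is not central in ⟨D_x⟩ for some transposition x, the 3-transposition group is some Sp(2n, 2) or PSU(n, 2). -/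
theorem result {G : Type*} [Group G] [Finite G] (hsol : ∀ N : Subgroup G, N.Normal → Group.IsSolvable ↥N → N = ⊥) (hperf : ⁅commutator G, commutator G⁆ = commutator G) {D : Set G} (hD : Cfsg.IsThreeTranspositionClass D) (x : G) (hx : x ∈ D) (h : ¬ Cfsg.pCore 2 ↥(Subgroup.closure {y : G | y ∈ D ∧ y ≠ x ∧ Commute x y}) ≤ Subgroup.center ↥(Subgroup.closure {y : G | y ∈ D ∧ y ≠ x ∧ Commute x y})) : (∃ n : ℕ, Nonempty (G ≃* Matrix.symplecticGroup (Fin n) (ZMod 2))) ∨ ∃ (F : Type) (_ : Field F) (_ : Fintype F) (n : ℕ), Fintype.card F = 4 ∧ Nonempty (G ≃* Cfsg.PSU n F 2) := by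
  classical
  have hT := TClass.toGroup hD
  obtain ⟨hz, h2, h3, hD2⟩ := TClass.of_no_solvable hD hsol
  have hprim := TClass.primitive_of_perfect hD hD2 (h2.le.trans bot_le) (h3.le.trans bot_le) hperf
  have hw := exists_commuting_pair hT hD2 (h3.le.trans bot_le)
  have hC : Ctx D := ⟨hT, TClass.transitive hD, fun d hd => prim_trans_commuting hT hprim hw hd,
    fun d hd => prim_trans_noncommuting hT hprim hw hd,
    fun d hd w hsame => prim_sameNbr_trivial hT hprim hw hd hsame⟩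
  have hH : FischerTwins.Hyp D := hyp_of_base hC hz (prim_connected hT hprim hw) hx h
  obtain ⟨a, ha⟩ := hH.res x hx
  rcases hH.ncard_line hx ha with h3' | h5
  · exact Or.inl (hH.symplectic (fun p hp q hq => (hH.ncard_line_eq hp hq hx ha).trans h3') ⟨x, hx⟩)
  · obtain ⟨n, hn⟩ := hH.unitary (fun p hp q hq => (hH.ncard_line_eq hp hq hx ha).trans h5) ⟨x, hx⟩
    exact Or.inr ⟨RigidGraph.He.K4, inferInstance, inferInstance, n, RigidGraph.He.K4.card_K4, hn⟩

end Cfsg.Agent.S1616
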