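import Cfsg.Statements.S1618
import Cfsg.Agent.Lib.ZStarApps.Fischer

set_option autoImplicit false
open Cfsg

namespace Cfsg.Agent.S1618


/-- A group generated by a class of involutions whose pairwise products (of distinct members) have p-power order for a fixed odd prime p has nilpotent derived subgroup. -/
theorem result {G : Type*} [Group G] [Finite G] (p : ℕ) (hp : p.Prime) (hodd : p ≠ 2) {D : Set G} (hinv : ∀ d ∈ D, orderOf d = 2) (hconj : ∃ d ∈ D, D = conjugatesOf d) (hgen : Subgroup.closure D = ⊤) (hprod : ∀ x ∈ D, ∀ y ∈ D, x ≠ y → ∃ k : ℕ, orderOf (x * y) = p ^ k) : Group.IsNilpotent ↥(commutator G) := by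
  obtain ⟨d, hdD, rfl⟩ := hconj
  have hd := hinv d hdD
  have hd2 : d * d = 1 := by rw [← pow_two, ← hd]; exact pow_orderOf_eq_one d
  have hall := ZStarApps.products_mem_pCore hp hodd d hd (fun a ha b hb => by
    rcases eq_or_ne a b with rfl | hne
    · refine ⟨0, ?_⟩
      have h2 : a * a = 1 := by rw [← pow_two, ← hinv a ha]; exact pow_orderOf_eq_one a
      simp [h2]
    · exact hprod a ha b hb hne)
  haveI hn : (Cfsg.pCore p G).Normal := Cfsg.Agent.FittingCores.pCore_normal p
  have himg : ∀ g : G, (g : G ⧸ Cfsg.pCore p G) ∈ Subgroup.zpowers (d : G ⧸ Cfsg.pCore p G) := by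
    have hle : (⊤ : Subgroup G) ≤
        (Subgroup.zpowers (d : G ⧸ Cfsg.pCore p G)).comap (QuotientGroup.mk' (Cfsg.pCore p G)) := by
      rw [← hgen, Subgroup.closure_le]
      intro a ha
      show (a : G ⧸ Cfsg.pCore p G) ∈ Subgroup.zpowers (d : G ⧸ Cfsg.pCore p G)
      have he : (a : G ⧸ Cfsg.pCore p G) * d = 1 := by
        rw [← QuotientGroup.mk_mul, QuotientGroup.eq_one_iff]; exact hall a ha d hdD
      rw [eq_inv_of_mul_eq_one_left he]
      exact inv_mem (Subgroup.mem_zpowers _)
    exact fun g => hle (Subgroup.mem_top g)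
  have hle : commutator G ≤ Cfsg.pCore p G := by
    rw [commutator_def, Subgroup.commutator_le]
    intro x _ y _
    rw [← QuotientGroup.eq_one_iff]
    obtain ⟨i, hi⟩ := Subgroup.mem_zpowers_iff.1 (himg x)
    obtain ⟨j, hj⟩ := Subgroup.mem_zpowers_iff.1 (himg y)
    simp only [commutatorElement_def, QuotientGroup.mk_mul, QuotientGroup.mk_inv, ← hi, ← hj]
    group
  haveI : Fact p.Prime := ⟨hp⟩
  exact ((Cfsg.Agent.FittingCores.pCore_isPGroup p).to_le hle).isNilpotent

end Cfsg.Agent.S1618
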