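import Cfsg.Statements.S1621
import Cfsg.Agent.Lib.J2.Centre

set_option autoImplicit false
open Quaternion
open Cfsg

namespace Cfsg.Agent.S1621

theorem units_distinct : (List.range 120).all (fun a => (List.range a).all fun b =>
    !decide (J2.Q.unit a = J2.Q.unit b)) = true := by decide +kernel

theorem unit_index {a b : ℕ} (ha : a < 120) (hb : b < 120) (h : J2.Q.unit a = J2.Q.unit b) :
    a = b := by
  have key : ∀ {a b : ℕ}, a < 120 → b < a → J2.Q.unit a ≠ J2.Q.unit b := by
    intro a b ha hb
    have := List.all_eq_true.1 (List.all_eq_true.1 units_distinct a (List.mem_range.2 ha)) b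
      (List.mem_range.2 hb)
    simpa using this
  rcases Nat.lt_trichotomy a b with h' | h' | h'
  · exact absurd h.symm (key hb h')
  · exact h'
  · exact absurd h (key ha h')

/-- The icosian Leech lattice has 37800 minimal vectors giving 315 distinct reflections. -/
theorem result : {r : Fin 3 → ℍ[ℝ] | r ∈ Cfsg.Spor.icoLeech ∧ Cfsg.Spor.qip r r = 4}.ncard = 37800 ∧ {f : Equiv.Perm ↥Cfsg.Spor.icoLeech | Cfsg.Spor.IsIcoReflection f}.ncard = 315 := by
  refine ⟨?_, ?_⟩
  · have hS : {r : Fin 3 → ℍ[ℝ] | r ∈ Cfsg.Spor.icoLeech ∧ Cfsg.Spor.qip r r = 4} =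
        Set.range (fun p : Fin 120 × Fin 315 =>
          fun t => J2.toH (J2.Q.unit p.1) * J2.toV (J2.line p.2) t) := by
      ext r
      constructor
      · rintro ⟨hr, hn⟩
        obtain ⟨u, hu, i, e⟩ := J2.census hr hn
        exact ⟨(⟨u, hu⟩, i), e.symm⟩
      · rintro ⟨⟨u, i⟩, rfl⟩
        refine ⟨J2.leech_smul (J2.unit_mem u) (J2.lineVec i).2, ?_⟩
        rw [J2.qip_smul_left, J2.qip_smul_right, (J2.lineAt_spec i).2.2.1, J2.four_eq,
          smul_mul_assoc, one_mul, mul_smul_comm, (J2.unit_mul_star u.2).1]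
    have hinj : Function.Injective (fun p : Fin 120 × Fin 315 =>
          fun t => J2.toH (J2.Q.unit p.1) * J2.toV (J2.line p.2) t) := by
      rintro ⟨u, i⟩ ⟨v, j⟩ e
      simp only at e
      have hij : i = j := by
        refine J2.F_injective (Equiv.ext fun x => Subtype.ext ?_)
        rw [J2.F_apply, J2.F_apply, ← J2.qrefl_scalar _ (J2.unit_mul_star u.2).2, e,
          J2.qrefl_scalar _ (J2.unit_mul_star v.2).2]
      subst hij
      have hne : ∃ t, J2.toV (J2.line i) t ≠ 0 := by
        by_contra hc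
        simp only [not_exists, not_not] at hc
        have h4 := (J2.lineAt_spec i).2.2.1
        simp [Cfsg.Spor.qip, hc] at h4
        have h5 := congrArg QuaternionAlgebra.re h4
        simp [show (4 : ℍ[ℝ]) = ((4 : ℝ) : ℍ[ℝ]) from by norm_cast] at h5
      obtain ⟨t, ht⟩ := hne
      have h := J2.toH_injective (mul_right_cancel₀ ht (congrFun e t))
      exact Prod.ext (Fin.ext (unit_index u.2 v.2 h)) rfl
    rw [hS, Set.ncard_range_of_injective hinj, Nat.card_prod, Nat.card_fin, Nat.card_fin]
  · rw [J2.refl_set_eq, Set.ncard_range_of_injective J2.F_injective, Nat.card_fin]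

end Cfsg.Agent.S1621
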