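import Cfsg.Statements.S1622
import Cfsg.Agent.Lib.J2.Centre

set_option autoImplicit false
open Quaternion
open Cfsg

namespace Cfsg.Agent.S1622

/-- The reflection group is transitive on its 315 reflections by conjugation. -/
theorem result (f f' : Equiv.Perm ↥Cfsg.Spor.icoLeech) (hf : Cfsg.Spor.IsIcoReflection f) (hf' : Cfsg.Spor.IsIcoReflection f') : ∃ g ∈ Cfsg.Spor.twoJ2, g * f * g⁻¹ = f' := by
  obtain ⟨i, rfl⟩ := J2.isRefl_eq hf
  obtain ⟨j, rfl⟩ := J2.isRefl_eq hf'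
  obtain ⟨p, hp, hpi⟩ := J2.reach i
  obtain ⟨q, hq, hqj⟩ := J2.reach j
  refine ⟨q.1 * p.1⁻¹, ?_, ?_⟩
  · rw [← J2.map_fst_pairK]
    exact mul_mem ⟨q, hq, rfl⟩ (inv_mem ⟨p, hp, rfl⟩)
  · have h1 := J2.pairK_le hp 0
    have h2 := J2.pairK_le hq 0
    rw [hpi] at h1
    rw [hqj] at h2
    rw [← h2, ← h1]
    group

end Cfsg.Agent.S1622
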