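import Cfsg.Statements.S1623
import Cfsg.Agent.Lib.J2.Inv
import Cfsg.Agent.Lib.J2.Group
import Cfsg.Agent.Lib.Qd.Basic

set_option autoImplicit false
open Quaternion
open Cfsg

namespace Cfsg.Agent.S1623

theorem theta_gen0 :
    ((J2.theta ⟨J2.F (J2.gIdx 0), J2.F_mem _⟩ : Equiv.Perm (Fin 100))) = J2.tauP := by
  have h1 : J2.lineHom ⟨J2.F (J2.gIdx 0), J2.F_mem _⟩ = J2.gPerm 0 :=
    J2.pairT_unique (J2.pairK_le (J2.lineHom_mem _))
      (J2.pairK_le (Subgroup.subset_closure ⟨0, rfl⟩))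
  have h2 := J2.setT_unique_right (σ := J2.gPerm 0)
    (h1 ▸ J2.setK_le (J2.theta_mem ⟨J2.F (J2.gIdx 0), J2.F_mem _⟩))
    (J2.setK_le (Subgroup.subset_closure ⟨0, rfl⟩))
  rw [h2, J2.tau_eq_gen]
  rfl

/-- A reflection centraliser in the Hall–Janko group is an extension of an extraspecial group of order 32 by the alternating group of degree 5. -/
theorem result (f : Equiv.Perm ↥Cfsg.Spor.icoLeech) (hf : Cfsg.Spor.IsIcoReflection f) (hfm : f ∈ Cfsg.Spor.twoJ2) : ∃ (Q : Subgroup ↥(Subgroup.centralizer {(QuotientGroup.mk ⟨f, hfm⟩ : Cfsg.Spor.J2)})) (_ : Q.Normal), Nat.card Q = 32 ∧ Cfsg.IsExtraspecial 2 Q ∧ Nonempty (↥(Subgroup.centralizer {(QuotientGroup.mk ⟨f, hfm⟩ : Cfsg.Spor.J2)}) ⧸ Q ≃* alternatingGroup (Fin 5)) := by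
  haveI : Fact (Nat.Prime 2) := ⟨Nat.prime_two⟩
  obtain ⟨i, rfl⟩ := J2.isRefl_eq hf
  obtain ⟨p, hp, hpi⟩ := J2.reach i
  have hw : p.1 ∈ Cfsg.Spor.twoJ2 := by rw [← J2.map_fst_pairK]; exact ⟨p, hp, rfl⟩
  let w : Cfsg.Spor.twoJ2 := ⟨p.1, hw⟩
  set x : Cfsg.Spor.J2 := QuotientGroup.mk (⟨J2.F i, hfm⟩ : Cfsg.Spor.twoJ2) with hx
  have himg : ((J2.j2Equiv x : J2.G100) : Equiv.Perm (Fin 100)) =
      J2.theta w * J2.tauP * (J2.theta w)⁻¹ := by
    have h0 : J2.gIdx 0 = 0 := Fin.ext (J2.gIdx_val 0)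
    have e : (⟨J2.F i, hfm⟩ : Cfsg.Spor.twoJ2) =
        w * ⟨J2.F (J2.gIdx 0), J2.F_mem _⟩ * w⁻¹ := by
      apply Subtype.ext
      show J2.F i = p.1 * J2.F (J2.gIdx 0) * p.1⁻¹
      rw [h0, J2.pairK_le hp 0, hpi]
    rw [hx, J2.j2Equiv_mk, e, map_mul, map_mul, map_inv, theta_gen0]
  let W : J2.G100 := ⟨J2.theta w, by rw [← J2.theta_range]; exact ⟨w, rfl⟩⟩
  let Φ : Cfsg.Spor.J2 →* Equiv.Perm (Fin 100) :=
    J2.G100.subtype.comp ((MulAut.conj W⁻¹).toMonoidHom.comp J2.j2Equiv.toMonoidHom)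
  have hΦ : Function.Injective Φ := fun a b h =>
    J2.j2Equiv.injective ((MulAut.conj W⁻¹).injective (Subtype.ext h))
  have hΦx : Φ x = J2.tauP := by
    show (J2.theta w)⁻¹ * ((J2.j2Equiv x : J2.G100) : Equiv.Perm (Fin 100)) * (J2.theta w)⁻¹⁻¹ = _
    rw [himg, inv_inv]
    group
  have hmap : (Subgroup.centralizer {x}).map Φ = J2.C100 := by
    apply le_antisymm
    · rintro _ ⟨y, hy, rfl⟩
      refine J2.centralizer_eq _ ((MulAut.conj W⁻¹) (J2.j2Equiv y)).2 ?_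
      rw [← hΦx, ← map_mul, Subgroup.mem_centralizer_singleton_iff.1 hy, map_mul]
    · intro z hz
      have hzG : z ∈ J2.G100 := J2.C100_le_P100 hz
      let y : Cfsg.Spor.J2 := J2.j2Equiv.symm ((MulAut.conj W⁻¹).symm ⟨z, hzG⟩)
      have hy : Φ y = z := by
        show (((MulAut.conj W⁻¹) (J2.j2Equiv (J2.j2Equiv.symm ((MulAut.conj W⁻¹).symm ⟨z, hzG⟩))) :
          J2.G100) : Equiv.Perm (Fin 100)) = z
        rw [MulEquiv.apply_symm_apply, MulEquiv.apply_symm_apply]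
      refine ⟨y, Subgroup.mem_centralizer_singleton_iff.2 (hΦ ?_), hy⟩
      rw [map_mul, map_mul, hy, hΦx]
      exact J2.C100_comm hz
  let e : ↥(Subgroup.centralizer {x}) ≃* J2.C100 :=
    ((Subgroup.centralizer {x}).equivMapOfInjective Φ hΦ).trans (MulEquiv.subgroupCongr hmap)
  have hn : (J2.Q100.subgroupOf J2.C100).Normal :=
    ⟨fun a ha g => J2.Q100_conj g.2 ha⟩
  let eQ : ↥((J2.Q100.subgroupOf J2.C100).comap e.toMonoidHom) ≃* J2.Q100 :=
    (e.subgroupMap _).trans ((MulEquiv.subgroupCongr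
      (show ((J2.Q100.subgroupOf J2.C100).comap e.toMonoidHom).map
          (e : ↥(Subgroup.centralizer {x}) →* J2.C100) = J2.Q100.subgroupOf J2.C100 from
        Subgroup.map_comap_eq_self_of_surjective e.surjective _)).trans
      (Subgroup.subgroupOfEquivOfLe J2.Q100_le_C100))
  refine ⟨(J2.Q100.subgroupOf J2.C100).comap e.toMonoidHom, hn.comap _,
    (Nat.card_congr eQ.toEquiv).trans J2.card_Q100, Qd.isExtraspecial_congr eQ J2.isExtraspecial_Q100, ?_⟩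
  have hker : (J2.fiveHom.comp e.toMonoidHom).ker =
      (J2.Q100.subgroupOf J2.C100).comap e.toMonoidHom := by
    rw [← MonoidHom.comap_ker, J2.fiveHom_ker]
  have hran : (J2.fiveHom.comp e.toMonoidHom).range = alternatingGroup (Fin 5) := by
    rw [MonoidHom.range_comp, MonoidHom.range_eq_top.2 e.surjective, ← MonoidHom.range_eq_map,
      J2.fiveHom_range]
  haveI := hn.comap e.toMonoidHom
  exact ⟨((QuotientGroup.quotientMulEquivOfEq hker.symm).trans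
    (QuotientGroup.quotientKerEquivRange _)).trans (MulEquiv.subgroupCongr hran)⟩

end Cfsg.Agent.S1623
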