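import Cfsg.Statements.S1624
import Cfsg.Agent.Lib.J2.Rank3
import Cfsg.Agent.Lib.J2.Group

set_option autoImplicit false
open Quaternion
open Cfsg

namespace Cfsg.Agent.S1624

/-- The Hall–Janko group contains PSU(3, 3) with index 100 and acts on the 100 cosets with rank 3 and subdegrees 1, 36, 63. -/
theorem result : ∃ H : Subgroup Cfsg.Spor.J2, H.index = 100 ∧ (∃ (F : Type) (_ : Field F) (_ : Fintype F), Fintype.card F = 9 ∧ Nonempty (↥H ≃* Cfsg.PSU 3 F 3)) ∧ ∃ c₁ c₂ : Cfsg.Spor.J2 ⧸ H, (MulAction.orbit ↥H c₁).ncard = 36 ∧ (MulAction.orbit ↥H c₂).ncard = 63 := by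
  let H : Subgroup Cfsg.Spor.J2 :=
    (J2.H100.subgroupOf J2.P100).comap J2.j2Equiv.toMonoidHom
  let eH : ↥H ≃* J2.H100 :=
    (J2.j2Equiv.subgroupMap H).trans ((MulEquiv.subgroupCongr
      (show H.map (J2.j2Equiv : Cfsg.Spor.J2 →* J2.P100) = J2.H100.subgroupOf J2.P100 from
        Subgroup.map_comap_eq_self_of_surjective J2.j2Equiv.surjective _)).trans
      (Subgroup.subgroupOfEquivOfLe J2.P100_le))
  have hmem : ∀ x : Cfsg.Spor.J2, x ∈ H ↔ ((J2.j2Equiv x : J2.P100) : Equiv.Perm (Fin 100)) 0 = 0 :=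
    fun x => by
      show ((J2.j2Equiv x : J2.P100) : Equiv.Perm (Fin 100)) ∈ J2.H100 ↔ _
      rw [J2.mem_H100]
      exact ⟨fun h => h.2, fun h => ⟨(J2.j2Equiv x).2, h⟩⟩
  refine ⟨H, ?_, ⟨J2.F9, inferInstance, inferInstance, J2.F9.card, ⟨eH.trans J2.hEquivPSU⟩⟩, ?_⟩
  · have h := H.card_mul_index
    rw [Nat.card_congr eH.toEquiv, J2.card_H100, J2.card_J2] at h
    omega
  let f : Cfsg.Spor.J2 ⧸ H → Fin 100 := Quotient.lift
    (fun x => ((J2.j2Equiv x : J2.P100) : Equiv.Perm (Fin 100)) 0) (fun a b h => by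
      have h' := (hmem _).1 (QuotientGroup.leftRel_apply.1 h)
      rw [map_mul, map_inv] at h'
      have := congrArg ((J2.j2Equiv a : J2.P100) : Equiv.Perm (Fin 100)) h'
      simpa using this.symm)
  have hf : Function.Injective f := by
    intro a b
    induction a using QuotientGroup.induction_on with
    | _ a =>
      induction b using QuotientGroup.induction_on with
      | _ b =>
        intro e
        refine QuotientGroup.eq.2 ((hmem _).2 ?_)
        rw [map_mul, map_inv]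
        show ((J2.j2Equiv a : J2.P100) : Equiv.Perm (Fin 100))⁻¹
          (((J2.j2Equiv b : J2.P100) : Equiv.Perm (Fin 100)) 0) = 0
        rw [show ((J2.j2Equiv b : J2.P100) : Equiv.Perm (Fin 100)) 0 =
          ((J2.j2Equiv a : J2.P100) : Equiv.Perm (Fin 100)) 0 from e.symm]
        exact ((J2.j2Equiv a : J2.P100) : Equiv.Perm (Fin 100)).symm_apply_apply 0
  have key : ∀ p : Fin 100, ∃ c : Cfsg.Spor.J2 ⧸ H,
      (MulAction.orbit ↥H c).ncard = (MulAction.orbit J2.H100 p).ncard := by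
    intro p
    obtain ⟨g, hg, hgp⟩ := J2.transitive p
    refine ⟨(J2.j2Equiv.symm ⟨g, hg⟩ : Cfsg.Spor.J2), ?_⟩
    rw [← Set.ncard_image_of_injective _ hf]
    congr 1
    have hfm : ∀ h : Cfsg.Spor.J2,
        f ((h * J2.j2Equiv.symm ⟨g, hg⟩ : Cfsg.Spor.J2) : Cfsg.Spor.J2 ⧸ H) =
          ((J2.j2Equiv h : J2.P100) : Equiv.Perm (Fin 100)) p := fun h => by
      show ((J2.j2Equiv (h * J2.j2Equiv.symm ⟨g, hg⟩) : J2.P100) : Equiv.Perm (Fin 100)) 0 = _
      rw [map_mul, MulEquiv.apply_symm_apply]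
      simp [hgp]
    ext y
    constructor
    · rintro ⟨_, ⟨h, rfl⟩, rfl⟩
      exact ⟨⟨_, h.2⟩, (hfm h.1).symm⟩
    · rintro ⟨k, rfl⟩
      refine ⟨_, ⟨eH.symm k, rfl⟩, ?_⟩
      refine (hfm (eH.symm k).1).trans ?_
      have e2 : ((J2.j2Equiv (eH.symm k).1 : J2.P100) : Equiv.Perm (Fin 100)) = k := by
        show ((eH (eH.symm k) : J2.H100) : Equiv.Perm (Fin 100)) = k
        rw [MulEquiv.apply_symm_apply]
      rw [e2]
      rfl
  obtain ⟨c₁, h₁⟩ := key (Fin.ofNat 100 5)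
  obtain ⟨c₂, h₂⟩ := key (Fin.ofNat 100 1)
  exact ⟨c₁, c₂, h₁.trans J2.ncard_O36, h₂.trans J2.ncard_O63⟩

end Cfsg.Agent.S1624
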