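import Cfsg.Statements.S1631
import Cfsg.Agent.Lib.Transvec.HermGen
import Cfsg.Agent.Lib.Transvec.HermStd
-- import your own Cfsg.Agent.* helpers here

set_option autoImplicit false
set_option linter.unusedSectionVars false
set_option maxHeartbeats 400000
open scoped MatrixGroups
open Cfsg

namespace Cfsg.Agent.S1631

open Cfsg.Agent.Transvec Cfsg.Agent.Transvec.Herm
open Matrix

section

variable {ι : Type} [Fintype ι] [DecidableEq ι] {F : Type*} [Field F] [Fintype F]
variable {σ : F ≃+* F} {f : (ι → F) → (ι → F) → F} (hf : Geo.IsUnitaryForm σ f)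
variable (hF : Fintype.card F = 4) (hσ : ∀ x, σ x = x ^ 2)

include hF in
theorem cube {a : F} (ha : a ≠ 0) : a ^ 3 = 1 := by
  simpa [hF] using FiniteField.pow_card_sub_one_eq_one a ha

include hF in
theorem two_zero : (2 : F) = 0 := by
  have h : ((Fintype.card F : ℕ) : F) = 0 := FiniteField.cast_card_eq_zero F
  rw [hF] at h
  exact mul_self_eq_zero.1 (show (2 : F) * 2 = 0 by push_cast at h; linear_combination h)

include hF in
theorem neg_eq (a : F) : -a = a := by linear_combination -a * two_zero hF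

include hF in
theorem norm_one (hσ : ∀ x, σ x = x ^ 2) {a : F} (ha : a ≠ 0) : a * σ a = 1 := by
  rw [hσ, ← pow_succ', cube hF ha]

include hF hσ in
theorem anti_cases {c : F} (hc : σ c = -c) : c = 0 ∨ c = 1 := by
  rw [hσ, neg_eq hF] at hc
  rcases mul_eq_zero.1 (show c * (c - 1) = 0 by linear_combination hc) with h | h
  · exact Or.inl h
  · exact Or.inr (sub_eq_zero.1 h)

include hF in
theorem one_anti : σ (1 : F) = -1 := by rw [map_one, neg_eq hF]

include hf in
theorem exists_one {v : ι → F} (hv : v ≠ 0) : ∃ y, f v y = 1 ∧ f y v = 1 := by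
  obtain ⟨x, hx⟩ := (hf.nondegenerate v hv).1
  have h : f ((f x v)⁻¹ • x) v = 1 := by rw [hf.smul_left, inv_mul_cancel₀ hx]
  exact ⟨_, by rw [hf.herm, h, map_one], h⟩

include hf hF hσ in
theorem rank_iff {g : GL ι F} (hg : ∀ x y, f (mv g x) (mv g y) = f x y)
    (hdet : (g : Matrix ι ι F).det = 1) :
    ((g : Matrix ι ι F) - 1).rank = 1 ↔ ∃ v, v ≠ 0 ∧ ∃ hv : f v v = 0, g = htv hf v hv 1 := by
  have hd : ∀ z, ((g : Matrix ι ι F) - 1).mulVecLin z = mv g z - z := fun z => by
    rw [Matrix.mulVecLin_apply, Matrix.sub_mulVec, Matrix.one_mulVec]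
  constructor
  · intro h
    rw [Matrix.rank] at h
    obtain ⟨⟨v, hvm⟩, hv0, hspan⟩ := finrank_eq_one_iff'.1 h
    have hv : v ≠ 0 := fun e => hv0 (Subtype.ext e)
    obtain ⟨y₀, hy, hy'⟩ := exists_one hf hv
    set φ : Module.Dual F (ι → F) := (formH hf y₀).comp ((g : Matrix ι ι F) - 1).mulVecLin with hφ
    have hgx : ∀ x, mv g x = x + φ x • v := fun x => by
      obtain ⟨c, hc⟩ := hspan ⟨_, LinearMap.mem_range_self _ x⟩
      have hc' : c • v = mv g x - x := (congrArg Subtype.val hc).trans (hd x)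
      rw [hφ, LinearMap.comp_apply, hd, formH_apply, ← hc', hf.smul_left, hy, mul_one, hc']
      abel
    have hmat : (g : Matrix ι ι F) = tvMat v φ := Matrix.ext_of_mulVec_single fun i => by
      rw [tvMat_mulVec]; exact hgx _
    have hφv : φ v = 0 := by
      rw [hmat, det_tvMat] at hdet
      simpa using hdet
    have hgv : mv g v = v := by rw [hgx, hφv, zero_smul, add_zero]
    obtain ⟨z, hz⟩ : ∃ z, φ z ≠ 0 := by
      by_contra hh
      push Not at hh
      obtain ⟨x, hx⟩ := hvm
      apply hv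
      rw [← hx, hd, hgx, hh, zero_smul, add_zero, sub_self]
    have hvv : f v v = 0 := by
      have h1 := hg z v
      rw [hgv, hgx, hf.add_left, hf.smul_left] at h1
      exact (mul_eq_zero.1 (show φ z * f v v = 0 by linear_combination h1)).resolve_left hz
    have hrel : ∀ x y, φ x * f v y + σ (φ y) * f x v = 0 := fun x y => by
      have h1 := hg x y
      rw [hgx, hgx, hf.add_left, add_right hf, add_right hf, hf.smul_left, hf.smul_left, smul_right hf,
        smul_right hf, hvv] at h1
      linear_combination h1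
    set c := φ y₀ with hc
    have hc' : σ c = -c := by
      have h1 := hrel y₀ y₀
      rw [← hc, hy, hy', mul_one, mul_one] at h1
      linear_combination h1
    have hval : ∀ x, φ x = c * f x v := fun x => by
      have h1 := hrel x y₀
      rw [← hc, hy, mul_one, hc'] at h1
      linear_combination h1
    refine ⟨v, hv, hvv, ?_⟩
    rcases anti_cases hF hσ hc' with h0 | h1
    · exact absurd (by rw [hval, h0, zero_mul]) hz
    · refine ext_mv fun x => ?_
      rw [mv_htv, hgx, hval, h1]
  · rintro ⟨v, hv, hvv, rfl⟩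
    rw [Matrix.rank]
    have e : LinearMap.range ((htv hf v hvv 1 : Matrix ι ι F) - 1).mulVecLin = Submodule.span F {v} := by
      refine le_antisymm ?_ ((Submodule.span_singleton_le_iff_mem _ _).2 ?_)
      · rintro _ ⟨z, rfl⟩
        rw [hd, mv_htv, add_sub_cancel_left]
        exact Submodule.smul_mem _ _ (Submodule.mem_span_singleton_self v)
      · obtain ⟨y, -, hy⟩ := exists_one hf hv
        exact ⟨y, by rw [hd, mv_htv, hy, mul_one, one_smul, add_sub_cancel_left]⟩
    rw [e, finrank_span_singleton hv]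

include hf hF in
theorem htv_sq (v : ι → F) (hv : f v v = 0) : htv hf v hv 1 * htv hf v hv 1 = 1 := by
  rw [htv_add, show (1 : F) + 1 = 0 from (one_add_one_eq_two).trans (two_zero hF), htv_zero]

omit [Fintype F] in
include hf in
theorem htv_congr {v w : ι → F} (h : v = w) (hv : f v v = 0) (hw : f w w = 0) (c : F) :
    htv hf v hv c = htv hf w hw c := by
  subst h; rfl

include hf hF hσ in
theorem sandwich {v w : ι → F} (hv : f v v = 0) (hw : f w w = 0) (h' : f (w + f w v • v) (w + f w v • v) = 0) :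
    htv hf v hv 1 * htv hf w hw 1 * htv hf v hv 1 = htv hf (w + f w v • v) h' 1 := by
  have hg : ∀ x y, f (mv (htv hf v hv 1) x) (mv (htv hf v hv 1) y) = f x y :=
    htv_mem hf v hv (one_anti hF)
  conv_lhs => arg 2; rw [← inv_eq_of_mul_eq_one_right (htv_sq hf hF v hv)]
  rw [htv_conj hf hg]
  exact htv_congr hf (by rw [mv_htv, one_mul]) _ _ _

include hf hF hσ in
theorem product {v w : ι → F} (hv : f v v = 0) (hw : f w w = 0) :
    (htv hf v hv 1 * htv hf w hw 1) ^ 2 = 1 ∨ (htv hf v hv 1 * htv hf w hw 1) ^ 3 = 1 := by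
  have h1 : ∀ {v w : ι → F}, f v v = 0 → f w w = 0 → f (w + f w v • v) (w + f w v • v) = 0 := by
    intro v w hv hw
    have := htv_mem hf v hv (one_anti hF) w w
    change f (mv (htv hf v hv 1) w) (mv (htv hf v hv 1) w) = f w w at this
    rwa [mv_htv, one_mul, hw] at this
  by_cases h : f w v = 0
  · left
    rw [pow_two, ← mul_assoc, sandwich hf hF hσ hv hw (h1 hv hw),
      htv_congr hf (by rw [h, zero_smul, add_zero]) (h1 hv hw) hw, htv_sq hf hF]
  · right
    set u := w + f w v • v with hu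
    have hscal : v + f v w • w = σ (f w v) • u := by
      rw [hu, smul_add, smul_smul, mul_comm, norm_one hF hσ h, one_smul, ← hf.herm, add_comm]
    rw [show (htv hf v hv 1 * htv hf w hw 1) ^ 3
        = (htv hf v hv 1 * htv hf w hw 1 * htv hf v hv 1) * (htv hf w hw 1 * htv hf v hv 1 * htv hf w hw 1) by
          simp only [pow_succ, pow_zero, one_mul, mul_assoc],
      sandwich hf hF hσ hv hw (h1 hv hw), sandwich hf hF hσ hw hv (h1 hw hv),
      htv_congr hf hscal (h1 hw hv) (by rw [hf.smul_left, smul_right hf, h1 hv hw, mul_zero, mul_zero]),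
      htv_smul hf u (h1 hv hw), norm_one hF hσ (fun e => h (σ.injective (e.trans (map_zero σ).symm))),
      one_mul, htv_sq hf hF]

end


/-- The unitary transvections of SU(n, 2), n ≥ 4, form a generating conjugacy class of 3-transpositions. -/
theorem result (F : Type) [Field F] [Fintype F] [DecidableEq F] (hF : Fintype.card F = 4) (n : ℕ) (hn : 4 ≤ n) : Cfsg.IsThreeTranspositionClass {g : ↥(Cfsg.SU n F 2) | (((g : Matrix.SpecialLinearGroup (Fin n) F) : Matrix (Fin n) (Fin n) F) - 1).rank = 1} := by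
  classical
  obtain ⟨σ, hσ, -, hf⟩ := exists_unitary_std (n := n) (q := 2) (F := F) (by rw [hF]; norm_num) (by omega)
  set D := {g : ↥(Cfsg.SU n F 2) | (((g : Matrix.SpecialLinearGroup (Fin n) F) : Matrix (Fin n) (Fin n) F) - 1).rank = 1}
  let inc : ↥(Cfsg.SU n F 2) →* GL (Fin n) F :=
    Matrix.SpecialLinearGroup.toGL.comp (Cfsg.SU n F 2).subtype
  have hinc : Function.Injective inc := Matrix.SpecialLinearGroup.toGL_injective.comp Subtype.coe_injective
  have hpres : ∀ (g : ↥(Cfsg.SU n F 2)) x y,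
      hermForm n F 2 (mv (inc g) x) (mv (inc g) y) = hermForm n F 2 x y := fun g x y => g.2 x y
  have hD : ∀ g : ↥(Cfsg.SU n F 2), g ∈ D ↔ ∃ v, v ≠ 0 ∧ ∃ hv : hermForm n F 2 v v = 0, inc g = htv hf v hv 1 :=
    fun g => by
      have hval : ((inc g : GL (Fin n) F) : Matrix (Fin n) (Fin n) F)
          = ((g : Matrix.SpecialLinearGroup (Fin n) F) : Matrix (Fin n) (Fin n) F) := rfl
      have h := rank_iff hf hF hσ (hpres g) (hval.symm ▸ (g : Matrix.SpecialLinearGroup (Fin n) F).2)
      rw [hval] at h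
      exact h
  let S := preserving (Units.coeHom (Matrix (Fin n) (Fin n) F)) (hermForm n F 2) ⊓ Geo.specialLinear (Fin n) F
  have hlift : ∀ k ∈ S, ∃ g : ↥(Cfsg.SU n F 2), inc g = k := fun k hk => by
    have hdet : (k : Matrix (Fin n) (Fin n) F).det = 1 := by
      rw [← Matrix.GeneralLinearGroup.val_det_apply, MonoidHom.mem_ker.1 hk.2]; rfl
    exact ⟨⟨⟨(k : Matrix (Fin n) (Fin n) F), hdet⟩, fun x y => hk.1 x y⟩, Units.ext rfl⟩
  have hS : ∀ v (hv : hermForm n F 2 v v = 0) (c : F), σ c = -c → htv hf v hv c ∈ S := fun v hv c hc =>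
    ⟨htv_mem hf v hv hc, htv_mem_specialLinear hf v hv c⟩
  have htop := nondeg_top hf
  have hdim : 4 ≤ Module.finrank F (⊤ : Submodule F (Fin n → F)) := by
    rw [finrank_top, Module.finrank_fin_fun]; exact hn
  refine ⟨⟨fun d hd => ?_, fun d hd e he => ?_⟩, ?_, ?_⟩
  · obtain ⟨v, hv, hvv, hdv⟩ := (hD d).1 hd
    refine orderOf_eq_prime (hinc ?_) fun h1 => ?_
    · rw [pow_two, map_mul, hdv, htv_sq hf hF, map_one]
    · obtain ⟨y, -, hy⟩ := exists_one hf hv
      rw [h1, map_one] at hdv
      have := congrArg (fun g => mv g y) hdv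
      simp only [mv_one, mv_htv, hy, mul_one, one_smul] at this
      exact hv (by simpa using this)
  · obtain ⟨v, -, hvv, hdv⟩ := (hD d).1 hd
    obtain ⟨w, -, hww, hew⟩ := (hD e).1 he
    exact (product hf hF hσ hvv hww).imp (fun h => hinc (by rw [map_pow, map_mul, hdv, hew, h, map_one]))
      fun h => hinc (by rw [map_pow, map_mul, hdv, hew, h, map_one])
  · obtain ⟨a, -, ha, haa⟩ := exists_isotropic hf htop (by omega)
    obtain ⟨d, hd⟩ := hlift _ (hS a haa 1 (one_anti hF))
    refine ⟨d, (hD d).2 ⟨a, ha, haa, hd⟩, ?_⟩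
    ext g
    rw [hD, conjugatesOf, Set.mem_setOf_eq, isConj_iff]
    constructor
    · rintro ⟨v, hv, hvv, hg⟩
      obtain ⟨k, hk, hka, -⟩ := exists_move hf htop hdim (K := S) (fun x _ hx c hc => hS x hx c hc)
        (u := a) (w := v) Submodule.mem_top Submodule.mem_top ha hv haa hvv
      obtain ⟨k', rfl⟩ := hlift k hk
      refine ⟨k', hinc ?_⟩
      rw [map_mul, map_mul, map_inv, hd, hg, htv_conj hf (hpres k')]
      exact htv_congr hf hka _ _ _
    · rintro ⟨k, hk⟩
      refine ⟨mv (inc k) a, fun h => ha (mv_inj (inc k) (by rw [h, mv_zero])), by rw [hpres, haa], ?_⟩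
      rw [← hk, map_mul, map_mul, map_inv, hd, htv_conj hf (hpres k)]
  · rw [eq_top_iff]
    intro g _
    have hM : ∀ v (hv : hermForm n F 2 v v = 0) (c : F), σ c = -c →
        htv hf v hv c ∈ (Subgroup.closure D).map inc := by
      intro v hv c hc
      rcases anti_cases hF hσ hc with rfl | rfl
      · rw [htv_zero]; exact one_mem _
      by_cases h0 : v = 0
      · have : htv hf v hv 1 = 1 := ext_mv fun x => by rw [mv_htv, mv_one, h0, smul_zero, add_zero]
        rw [this]; exact one_mem _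
      obtain ⟨k, hk⟩ := hlift _ (hS v hv 1 hc)
      exact ⟨k, Subgroup.subset_closure ((hD k).2 ⟨v, h0, hv, hk⟩), hk⟩
    have hg : inc g ∈ S := ⟨hpres g, by
      show inc g ∈ Geo.specialLinear (Fin n) F
      rw [Geo.specialLinear, MonoidHom.mem_ker]
      ext
      rw [Matrix.GeneralLinearGroup.val_det_apply]
      exact g.1.2⟩
    obtain ⟨k, hk, e⟩ := su_le hf hM (Or.inr (by rw [Fintype.card_fin]; exact hn)) hg
    rwa [← hinc e]

end Cfsg.Agent.S1631
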