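import Cfsg.Statements.S1633
import Cfsg.Agent.Lib.LeechOrbit.Dot
import Cfsg.Agent.Lib.LeechOrbit.HS352

set_option autoImplicit false
open Cfsg

namespace Cfsg.Agent.S1633

open Cfsg.Agent.Leech Cfsg.Agent.LeechOrbit

/-- The Higman–Sims group acts transitively on 352 vectors, a set closed under x ↦ −w − x, with vector stabiliser isomorphic to PSU(3, 5). -/
theorem result (v w : ↥Cfsg.leechLattice) (hv : Cfsg.sqNorm (v : Cfsg.GolayPt → ℤ) = 48) (hw : Cfsg.sqNorm (w : Cfsg.GolayPt → ℤ) = 48) (hvw : Cfsg.dotInt (v : Cfsg.GolayPt → ℤ) (w : Cfsg.GolayPt → ℤ) = -32) (F : Type) [Field F] [Fintype F] (hF : Fintype.card F = 25) : {x : ↥Cfsg.leechLattice | Cfsg.sqNorm (x : Cfsg.GolayPt → ℤ) = 32 ∧ Cfsg.dotInt (v : Cfsg.GolayPt → ℤ) (x : Cfsg.GolayPt → ℤ) = 16 ∧ Cfsg.dotInt (w : Cfsg.GolayPt → ℤ) (x : Cfsg.GolayPt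 → ℤ) = -24}.ncard = 352 ∧ (∀ x ∈ {x : ↥Cfsg.leechLattice | Cfsg.sqNorm (x : Cfsg.GolayPt → ℤ) = 32 ∧ Cfsg.dotInt (v : Cfsg.GolayPt → ℤ) (x : Cfsg.GolayPt → ℤ) = 16 ∧ Cfsg.dotInt (w : Cfsg.GolayPt → ℤ) (x : Cfsg.GolayPt → ℤ) = -24}, -w - x ∈ {x : ↥Cfsg.leechLattice | Cfsg.sqNorm (x : Cfsg.GolayPt → ℤ) = 32 ∧ Cfsg.dotInt (v : Cfsg.GolayPt → ℤ) (x : Cfsg.GolayPt → ℤ) = 16 ∧ Cfsg.dotInt (w : Cfsg.GolayPt → ℤ) (x : Cfsg.GolayPt → ℤ) = -24}) ∧ (∀ x ∈ {x : ↥Cfsg.leechLattice | Cfsg.sqNorm (x : Cfsg.GolayPt → ℤ) = 32 ∧ Cfsg.dotInt (v : Cfsg.GolayPt → ℤ) (x : Cfsg.GolayPt → ℤ) = 16 ∧ Cfsg.dotInt (w : Cfsg.GolayPt → ℤ) (x : Cfsg.GolayPt → ℤ) = -24}, ∀ x' ∈ {x : ↥Cfsg.leechLattice | Cfsg.sqNorm (x : Cfsg.GolayPt → ℤ) = 32 ∧ Cfsg.dotInt (v : Cfsg.GolayPt → ℤ) (x : Cfsg.GolayPt → ℤ) = 16 ∧ Cfsg.dotInt (w : Cfsg.GolayPt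 → ℤ) (x : Cfsg.GolayPt → ℤ) = -24}, ∃ g : ↥Cfsg.Co0, g • v = v ∧ g • w = w ∧ g • x = x') ∧ ∀ x ∈ {x : ↥Cfsg.leechLattice | Cfsg.sqNorm (x : Cfsg.GolayPt → ℤ) = 32 ∧ Cfsg.dotInt (v : Cfsg.GolayPt → ℤ) (x : Cfsg.GolayPt → ℤ) = 16 ∧ Cfsg.dotInt (w : Cfsg.GolayPt → ℤ) (x : Cfsg.GolayPt → ℤ) = -24}, Nonempty (↥(MulAction.stabilizer ↥Cfsg.Co0 v ⊓ MulAction.stabilizer ↥Cfsg.Co0 w ⊓ MulAction.stabilizer ↥Cfsg.Co0 x) ≃* Cfsg.PSU 3 F 5) := by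
  have e : {x : ↥Cfsg.leechLattice | Cfsg.sqNorm (x : Cfsg.GolayPt → ℤ) = 32 ∧
      Cfsg.dotInt (v : Cfsg.GolayPt → ℤ) (x : Cfsg.GolayPt → ℤ) = 16 ∧
      Cfsg.dotInt (w : Cfsg.GolayPt → ℤ) (x : Cfsg.GolayPt → ℤ) = -24} = hsSet352 v w := by
    ext y
    exact and_congr (norm_iff y 4) (and_congr (dot_iff v y 2) (dot_iff w y (-3)))
  rw [e]
  have hv6 : ip v v = 6 := (norm_iff v 6).1 hv
  have hw6 : ip w w = 6 := (norm_iff w 6).1 hw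
  have h4 : ip v w = -4 := (dot_iff v w (-4)).1 hvw
  refine ⟨ncard352 hv6 hw6 h4, ?_, ?_, fun x hx => stab352 hv6 hw6 h4 hx F hF⟩
  · rintro x ⟨h1, h2, h3⟩
    have key : ∀ y, ip y (-w - x) = -ip y w - ip y x := fun y => by
      rw [show -w - x = -(w + x) by abel, ip_neg_right, ip_comm, rootless_ip.add, ip_comm w, ip_comm x]
      ring
    refine ⟨?_, ?_, ?_⟩
    · have hc : ip (-w - x) w = -6 - -3 := by rw [ip_comm, key, hw6, h3]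
      have hd : ip (-w - x) x = - -3 - 4 := by rw [ip_comm, key, ip_comm x w, h3, h1]
      rw [key, hc, hd]; norm_num
    · rw [key, h4, h2]; norm_num
    · rw [key, hw6, h3]; norm_num
  · intro x hx x' hx'
    obtain ⟨y, hy, -, -⟩ := std352
    obtain ⟨k, k1, k2, k3⟩ := exists_std352 hv6 hw6 h4 hx hy
    obtain ⟨k', q1, q2, q3⟩ := exists_std352 hv6 hw6 h4 hx' hy
    exact ⟨k' * k⁻¹, by rw [mul_smul, ← k1, inv_smul_smul, q1, k1],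
      by rw [mul_smul, ← k2, inv_smul_smul, q2, k2], by rw [mul_smul, ← k3, inv_smul_smul, q3]⟩

end Cfsg.Agent.S1633
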