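import Cfsg.Statements.S1634
import Cfsg.Agent.Lib.LeechOrbit.Dot
import Cfsg.Agent.Lib.LeechOrbit.Levels

set_option autoImplicit false
open Cfsg

namespace Cfsg.Agent.S1634

open Cfsg.Agent.Leech Cfsg.Agent.LeechOrbit

/-- The McLaughlin group acts on 2025 points (minimal vectors orthogonal to v with customary inner product 2 with w) transitively with rank 4 and subdegrees 1, 330, 462, 1232. -/
theorem result (v w : ↥Cfsg.leechLattice) (hv : Cfsg.sqNorm (v : Cfsg.GolayPt → ℤ) = 32) (hw : Cfsg.sqNorm (w : Cfsg.GolayPt → ℤ) = 32) (hvw : Cfsg.dotInt (v : Cfsg.GolayPt → ℤ) (w : Cfsg.GolayPt → ℤ) = -8) : {x : ↥Cfsg.leechLattice | Cfsg.sqNorm (x : Cfsg.GolayPt → ℤ) = 32 ∧ Cfsg.dotInt (v : Cfsg.GolayPt → ℤ) (x : Cfsg.GolayPt → ℤ) = 0 ∧ Cfsg.dotInt (w : Cfsg.GolayPt → ℤ) (x : Cfsg.GolayPt → ℤ) = 16}.ncard = 2025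 ∧ (∀ x ∈ {x : ↥Cfsg.leechLattice | Cfsg.sqNorm (x : Cfsg.GolayPt → ℤ) = 32 ∧ Cfsg.dotInt (v : Cfsg.GolayPt → ℤ) (x : Cfsg.GolayPt → ℤ) = 0 ∧ Cfsg.dotInt (w : Cfsg.GolayPt → ℤ) (x : Cfsg.GolayPt → ℤ) = 16}, ∀ x' ∈ {x : ↥Cfsg.leechLattice | Cfsg.sqNorm (x : Cfsg.GolayPt → ℤ) = 32 ∧ Cfsg.dotInt (v : Cfsg.GolayPt → ℤ) (x : Cfsg.GolayPt → ℤ) = 0 ∧ Cfsg.dotInt (w : Cfsg.GolayPt → ℤ) (x : Cfsg.GolayPt → ℤ) = 16}, ∃ g : ↥Cfsg.Co0, g • v = v ∧ g • w = w ∧ g • x = x') ∧ ∀ x ∈ {x : ↥Cfsg.leechLattice | Cfsg.sqNorm (x : Cfsg.GolayPt → ℤ) = 32 ∧ Cfsg.dotInt (v : Cfsg.GolayPt → ℤ) (x : Cfsg.GolayPt → ℤ) = 0 ∧ Cfsg.dotInt (w : Cfsg.GolayPt → ℤ) (x : Cfsg.GolayPt → ℤ) = 16}, ∃ y₁ ∈ {x : ↥Cfsg.leechLattice | Cfsg.sqNorm (x : Cfsg.GolayPt → ℤ) = 32 ∧ Cfsg.dotInt (v : Cfsg.GolayPt → ℤ) (x : Cfsg.GolayPt → ℤ) = 0 ∧ Cfsg.dotInt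 (w : Cfsg.GolayPt → ℤ) (x : Cfsg.GolayPt → ℤ) = 16}, ∃ y₂ ∈ {x : ↥Cfsg.leechLattice | Cfsg.sqNorm (x : Cfsg.GolayPt → ℤ) = 32 ∧ Cfsg.dotInt (v : Cfsg.GolayPt → ℤ) (x : Cfsg.GolayPt → ℤ) = 0 ∧ Cfsg.dotInt (w : Cfsg.GolayPt → ℤ) (x : Cfsg.GolayPt → ℤ) = 16}, ∃ y₃ ∈ {x : ↥Cfsg.leechLattice | Cfsg.sqNorm (x : Cfsg.GolayPt → ℤ) = 32 ∧ Cfsg.dotInt (v : Cfsg.GolayPt → ℤ) (x : Cfsg.GolayPt → ℤ) = 0 ∧ Cfsg.dotInt (w : Cfsg.GolayPt → ℤ) (x : Cfsg.GolayPt → ℤ) = 16}, (MulAction.orbit ↥(MulAction.stabilizer ↥Cfsg.Co0 v ⊓ MulAction.stabilizer ↥Cfsg.Co0 w ⊓ MulAction.stabilizer ↥Cfsg.Co0 x) y₁).ncard = 330 ∧ (MulAction.orbit ↥(MulAction.stabilizer ↥Cfsg.Co0 v ⊓ MulAction.stabilizer ↥Cfsg.Co0 w ⊓ MulAction.stabilizer ↥Cfsg.Co0 x) y₂).ncard = 462 ∧ (MulAction.orbit ↥(MulAction.stabilizer ↥Cfsg.Co0 v ⊓ MulAction.stabilizer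 ↥Cfsg.Co0 w ⊓ MulAction.stabilizer ↥Cfsg.Co0 x) y₃).ncard = 1232 := by
  have e : {x : ↥Cfsg.leechLattice | Cfsg.sqNorm (x : Cfsg.GolayPt → ℤ) = 32 ∧
      Cfsg.dotInt (v : Cfsg.GolayPt → ℤ) (x : Cfsg.GolayPt → ℤ) = 0 ∧
      Cfsg.dotInt (w : Cfsg.GolayPt → ℤ) (x : Cfsg.GolayPt → ℤ) = 16} =
      {x | ip x x = 4 ∧ ip v x = 0 ∧ ip w x = 2} := by
    ext y
    exact and_congr (norm_iff y 4) (and_congr (dot_iff v y 0) (dot_iff w y 2))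
  rw [e]
  have hv4 : ip v v = 4 := (norm_iff v 4).1 hv
  have hw4 : ip w w = 4 := (norm_iff w 4).1 hw
  have hvw1 : ip v w = -1 := (dot_iff v w (-1)).1 hvw
  obtain ⟨g, g1, g2⟩ := exists_norm6_pair (u := v + w) (a := v)
    (by rw [LatticeMod2.norm_add rootless_ip, hv4, hw4, hvw1]; norm_num) hv4
    (by rw [rootless_ip.add, hv4, ip_comm, hvw1]; norm_num)
  have a1 : g⁻¹ • stdA = v := by rw [← g2, inv_smul_smul]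
  have a2 : g⁻¹ • w1 = w := by
    rw [w1, vec6, ← g1, ← g2, co0_sub, inv_smul_smul, inv_smul_smul, add_sub_cancel_left]
  have hS : {x | ip x x = 4 ∧ ip v x = 0 ∧ ip w x = 2} = (fun y => g⁻¹ • y) '' mclSet2025 := by
    ext z
    constructor
    · rintro ⟨z1, z2, z3⟩
      refine ⟨g • z, ⟨(co0_ip _ _ _).trans z1, ?_, ?_⟩, inv_smul_smul _ _⟩
      · rw [← co0_ip g⁻¹, a1, inv_smul_smul]; exact z2
      · rw [← co0_ip g⁻¹, a2, inv_smul_smul]; exact z3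
    · rintro ⟨z, ⟨z1, z2, z3⟩, rfl⟩
      exact ⟨(co0_ip _ _ _).trans z1, by rw [← a1, co0_ip]; exact z2, by rw [← a2, co0_ip]; exact z3⟩
  have move : ∀ z ∈ mclSet2025, ∃ h : Co0, h • stdA = v ∧ h • w1 = w ∧ h • dVec = g⁻¹ • z := fun z hz => by
    obtain ⟨k, ⟨k1, k2⟩, k3⟩ := transitive_2025 hz
    exact ⟨g⁻¹ * k, by rw [mul_smul, show k • stdA = stdA from k1, a1],
      by rw [mul_smul, show k • w1 = w1 from k2, a2], by rw [mul_smul, k3]⟩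
  refine ⟨by rw [hS, Set.ncard_image_of_injective _ (MulAction.injective _), ncard_2025], ?_, ?_⟩
  · intro x hx x' hx'
    rw [hS] at hx hx'
    obtain ⟨z, hz, rfl⟩ := hx
    obtain ⟨z', hz', rfl⟩ := hx'
    obtain ⟨k, k1, k2, k3⟩ := move z hz
    obtain ⟨k', q1, q2, q3⟩ := move z' hz'
    exact ⟨k' * k⁻¹, by rw [mul_smul, ← k1, inv_smul_smul, q1, k1],
      by rw [mul_smul, ← k2, inv_smul_smul, q2, k2],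
      by show (k' * k⁻¹) • g⁻¹ • z = g⁻¹ • z'; rw [← k3, mul_smul, inv_smul_smul, q3]⟩
  · intro x hx
    rw [hS] at hx
    obtain ⟨z, hz, rfl⟩ := hx
    obtain ⟨k, k1, k2, k3⟩ := move z hz
    have hconj : ∀ a, a ∈ MulAction.stabilizer Co0 v ⊓ MulAction.stabilizer Co0 w ⊓
        MulAction.stabilizer Co0 (g⁻¹ • z) ↔ k⁻¹ * a * k ∈ mclH := fun a => by
      simp only [Subgroup.mem_inf, MulAction.mem_stabilizer_iff, ← k1, ← k2, ← k3, fix_conj]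
    have mem : ∀ y ∈ mclSet2025, k • y ∈ {x | ip x x = 4 ∧ ip v x = 0 ∧ ip w x = 2} := fun y hy =>
      ⟨(co0_ip _ _ _).trans hy.1, by rw [← k1, co0_ip]; exact hy.2.1, by rw [← k2, co0_ip]; exact hy.2.2⟩
    obtain ⟨y₁, m1, y₂, m2, y₃, m3, n1, n2, n3⟩ := mcl_levels
    exact ⟨_, mem y₁ m1, _, mem y₂ m2, _, mem y₃ m3, (ncard_orbit_conj _ hconj y₁).trans n1,
      (ncard_orbit_conj _ hconj y₂).trans n2, (ncard_orbit_conj _ hconj y₃).trans n3⟩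

end Cfsg.Agent.S1634
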