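import Cfsg.Statements.S1635
import Cfsg.Agent.Lib.Golay.Cosets
-- import your own Cfsg.Agent.* helpers here

set_option autoImplicit false
open Cfsg

namespace Cfsg.Agent.S1635

open Cfsg.Agent.Golay
open scoped Pointwise

/-- Coset leaders of the length-24 code: a coset contains a unique word of weight ≤ 3, or else exactly six words of weight 4 and none lighter. -/
theorem result (w : Cfsg.GolayPt → ZMod 2) : ({v : Cfsg.GolayPt → ZMod 2 | hammingNorm v ≤ 4 ∧ w - v ∈ Cfsg.golayCode}.ncard = 1 ∧ ∃ v : Cfsg.GolayPt → ZMod 2, hammingNorm v ≤ 3 ∧ w - v ∈ Cfsg.golayCode) ∨ ({v : Cfsg.GolayPt → ZMod 2 | hammingNorm v ≤ 4 ∧ w - v ∈ Cfsg.golayCode}.ncard = 6 ∧ ∀ v : Cfsg.GolayPt → ZMod 2, w - v ∈ Cfsg.golayCode → hammingNorm v ≤ 4 → hammingNorm v = 4) := by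
  classical
  set a := support₂ w with ha
  have hmem : ∀ v : Cfsg.GolayPt → ZMod 2, (hammingNorm v ≤ 4 ∧ w - v ∈ Cfsg.golayCode) ↔
      ((support₂ v).card ≤ 4 ∧ SameCoset a (support₂ v)) := fun v => by
    rw [sub_mem_iff]; rfl
  obtain ⟨b, hb, hab⟩ := exists_light_set a
  by_cases h3 : b.card ≤ 3
  · left
    obtain ⟨v, hv⟩ := support_surjective b
    refine ⟨Set.ncard_eq_one.2 ⟨v, Set.ext fun u => ⟨fun hu => ?_, ?_⟩⟩, v, ?_, ?_⟩
    · obtain ⟨h1, h2⟩ := (hmem u).1 hu
      exact Set.mem_singleton_iff.2 (support_injective (by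
        rw [hv]; exact (light_eq_or (sameCoset_trans hab h2) (by omega)).symm))
    · rintro rfl
      exact (hmem _).2 ⟨hv.symm ▸ hb, hv.symm ▸ hab⟩
    · show (support₂ v).card ≤ 3
      rw [hv]; exact h3
    · rw [sub_mem_iff, hv]; exact hab
  · right
    have h4 : b.card = 4 := by omega
    refine ⟨?_, fun v hv hv4 => ?_⟩
    · rw [show {v : Cfsg.GolayPt → ZMod 2 | hammingNorm v ≤ 4 ∧ w - v ∈ Cfsg.golayCode}
          = support₂ ⁻¹' (Cfsg.Agent.S1550.canon b : Set (Finset Cfsg.GolayPt)) from ?_,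
        Set.ncard_preimage_of_injective_subset_range support_injective
          (fun s _ => ⟨_, (support_surjective s).choose_spec⟩), Set.ncard_coe_finset,
        (Cfsg.Agent.S1550.canon_mem h4).1.1]
      ext v
      simp only [Set.mem_ofPred_eq, Set.mem_preimage, Finset.mem_coe, hmem]
      refine ⟨fun h => coset_of_four h4 hab h.1 h.2, fun h => ?_⟩
      obtain ⟨h1, h2⟩ := coset_canon h4 hab h
      exact ⟨h1.le, h2⟩
    · exact (coset_canon h4 hab (coset_of_four h4 hab hv4 ((sub_mem_iff w v).1 hv))).1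

end Cfsg.Agent.S1635
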