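import Cfsg.Statements.S1637
import Cfsg.Agent.Lib.Golay.Cosets
import Cfsg.Agent.Lib.Golay.Punctured
-- import your own Cfsg.Agent.* helpers here

set_option autoImplicit false
open Cfsg

namespace Cfsg.Agent.S1637

open Cfsg.Agent.Golay
open scoped Pointwise

/-- The punctured length-23 code is a perfect 3-error-correcting code: each word of length 23 is within distance 3 of exactly one codeword. -/
theorem result (u : ZMod 23 → ZMod 2) : ∃! c : ZMod 23 → ZMod 2, c ∈ {u : ZMod 23 → ZMod 2 | ∃ w ∈ Cfsg.golayCode, ∀ x : ZMod 23, u x = w (some x)} ∧ hammingDist u c ≤ 3 := by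
  classical
  set w : Cfsg.GolayPt → ZMod 2 := fun p => p.elim 0 u with hw
  have hwu : rest23 w = u := rfl
  have huniq : ∀ a ∈ Cfsg.golayCode, ∀ c ∈ Cfsg.golayCode,
      hammingDist u (rest23 a) ≤ 3 → hammingDist u (rest23 c) ≤ 3 → a = c := by
    intro a ha c hc h1 h2
    refine code_eq_of_rest ha hc ?_
    rw [show rest23 a - rest23 c = -rest23 c + rest23 a by abel, ← hammingDist_eq_hammingNorm,
      hammingDist_comm (rest23 c)]
    have := hammingDist_triangle (rest23 a) u (rest23 c)
    rw [hammingDist_comm (rest23 a) u] at this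
    omega
  obtain ⟨c, hc, hd⟩ : ∃ c ∈ Cfsg.golayCode, hammingDist u (rest23 c) ≤ 3 := by
    have key : ∀ b : Finset Cfsg.GolayPt, b.card ≤ 4 → SameCoset (support₂ w) b →
        (b.card = 4 → none ∈ b) → ∃ c ∈ Cfsg.golayCode, hammingDist u (rest23 c) ≤ 3 := by
      intro b hb hab hnone
      obtain ⟨v, hv⟩ := support_surjective b
      refine ⟨w - v, (sub_mem_iff w v).2 (hv.symm ▸ hab), ?_⟩
      rw [hammingDist_eq_hammingNorm, rest23_sub, hwu, show -u + (u - rest23 v) = rest23 v from
        funext fun x => (by decide : ∀ a b : ZMod 2, -a + (a - b) = b) (u x) (rest23 v x)]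
      unfold hammingNorm
      refine le_trans (le_of_eq ?_) (show (b.erase none).card ≤ 3 from ?_)
      · rw [← Finset.card_image_of_injective _ (Option.some_injective (ZMod 23))]
        congr 1
        ext p
        rw [← hv]
        cases p <;> simp [support₂, rest23]
        exact ⟨fun h => (Finset.mem_filter.1 h).2, fun h => Finset.mem_filter.2 ⟨Finset.mem_univ _, h⟩⟩
      · by_cases h4 : b.card = 4
        · rw [Finset.card_erase_of_mem (hnone h4), h4]
        · exact (Finset.card_erase_le).trans (by omega)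
    obtain ⟨b, hb, hab⟩ := exists_light_set (support₂ w)
    by_cases h4 : b.card = 4
    · obtain ⟨hS, hbS⟩ := Cfsg.Agent.S1550.canon_mem h4
      obtain ⟨t, ht, hnt⟩ : ∃ t ∈ Cfsg.Agent.S1550.canon b, none ∈ t := by
        have hdis : ∀ t ∈ Cfsg.Agent.S1550.canon b, ∀ s ∈ Cfsg.Agent.S1550.canon b, t ≠ s →
            Disjoint t s := fun t ht s hs hne => by
          have := Finset.card_union_add_card_inter t s
          rw [hS.2.1 t ht, hS.2.1 s hs, card_octad (hS.2.2 t ht s hs hne)] at this
          rw [Finset.disjoint_iff_inter_eq_empty, ← Finset.card_eq_zero]; omega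
        have hall : (Cfsg.Agent.S1550.canon b).biUnion id = Finset.univ := by
          refine Finset.eq_univ_of_card _ ?_
          rw [Finset.card_biUnion (t := id) fun t ht s hs hne => hdis t ht s hs hne,
            Finset.sum_congr rfl (g := fun _ => 4) fun t ht => (by simpa using hS.2.1 t ht), Finset.sum_const, hS.1]
          simp [Cfsg.GolayPt]
        have hn : (none : Cfsg.GolayPt) ∈ (Cfsg.Agent.S1550.canon b).biUnion id :=
          hall ▸ Finset.mem_univ _
        obtain ⟨t, ht, h⟩ := Finset.mem_biUnion.1 hn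
        exact ⟨t, ht, h⟩
      obtain ⟨h1, h2⟩ := coset_canon h4 hab ht
      exact key t h1.le h2 fun _ => hnt
    · exact key b hb hab fun h => absurd h h4
  refine ⟨rest23 c, ⟨⟨c, hc, fun x => rfl⟩, hd⟩, ?_⟩
  rintro c' ⟨⟨a, ha, hac⟩, hd'⟩
  obtain rfl : rest23 a = c' := funext fun x => (hac x).symm
  rw [huniq a ha c hc hd' hd]

end Cfsg.Agent.S1637
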