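import Cfsg.Statements.S1638
import Cfsg.Agent.Lib.Golay.SetOrbitChecks
-- import your own Cfsg.Agent.* helpers here

set_option autoImplicit false
open scoped Pointwise
open Cfsg

namespace Cfsg.Agent.S1638

open Cfsg.Agent.Golay Cfsg.Agent.Golay.Cert
open scoped Pointwise

/-- Fix two points p ≠ q and a pair s of two further points. Among the pairs avoiding p, q and disjoint from s, exactly 30 lie in an octad together with p, q and s and exactly 160 do not; and any two pairs other than s that meet s in equally many points and agree on that octad property are carried to one another by an element of the group of the length-24 code fixing p, q and s. -/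
theorem result (p q : Cfsg.GolayPt) (hpq : p ≠ q) (s : Finset Cfsg.GolayPt) (hs : (s.card = 2 ∧ p ∉ s ∧ q ∉ s)) : {t : Finset Cfsg.GolayPt | (t.card = 2 ∧ p ∉ t ∧ q ∉ t) ∧ Disjoint s t ∧ (∃ o ∈ Cfsg.octads, p ∈ o ∧ q ∈ o ∧ s ∪ t ⊆ o)}.ncard = 30 ∧ {t : Finset Cfsg.GolayPt | (t.card = 2 ∧ p ∉ t ∧ q ∉ t) ∧ Disjoint s t ∧ ¬ (∃ o ∈ Cfsg.octads, p ∈ o ∧ q ∈ o ∧ s ∪ t ⊆ o)}.ncard = 160 ∧ ∀ t t' : Finset Cfsg.GolayPt, (t.card = 2 ∧ p ∉ t ∧ q ∉ t) → (t'.card = 2 ∧ p ∉ t' ∧ q ∉ t') → t ≠ s → t' ≠ s → (s ∩ t).card = (s ∩ t').card → ((∃ o ∈ Cfsg.octads, p ∈ o ∧ q ∈ o ∧ s ∪ t ⊆ o) ↔ (∃ o ∈ Cfsg.octads, p ∈ o ∧ q ∈ o ∧ s ∪ t' ⊆ o)) → ∃ g : Equiv.Perm Cfsg.GolayPt, g ∈ Cfsg.M24 ∧ g p = p ∧ g q = q ∧ g • s = s ∧ g • t = t' := by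
  obtain ⟨hs2, hps, hqs⟩ := hs
  obtain ⟨a, b, hab, rfl⟩ := Finset.card_eq_two.1 hs2
  simp only [Finset.mem_insert, Finset.mem_singleton, not_or] at hps hqs
  obtain ⟨g, hg, hgv⟩ := exists_M24_map' (k := 4) (x := ![p, q, a, b])
    (y := ![pt 23, pt 0, pt 1, pt 2]) (by norm_num)
    (by intro i j e; fin_cases i <;> fin_cases j <;>
      simp_all [hpq.symm, hab.symm, Ne.symm hps.1, Ne.symm hps.2, Ne.symm hqs.1, Ne.symm hqs.2])
    (by decide)
  have hgp : g p = pt 23 := hgv 0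
  have hgq : g q = pt 0 := hgv 1
  set s : Finset Cfsg.GolayPt := {a, b} with hsdef
  have hgs : g • s = maskSet 6 := by
    rw [hsdef, Finset.smul_finset_insert, Finset.smul_finset_singleton, Equiv.Perm.smul_def,
      Equiv.Perm.smul_def, show g a = pt 1 from hgv 2, show g b = pt 2 from hgv 3]
    decide +kernel
  have hfour : ({pt 23, pt 0} : Finset Cfsg.GolayPt) ∪ maskSet 6 = maskSet refFour := by decide +kernel
  have hoct : ∀ t : Finset Cfsg.GolayPt, (∃ o ∈ Cfsg.octads, p ∈ o ∧ q ∈ o ∧ s ∪ t ⊆ o) ↔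
      ∃ o ∈ Cfsg.octads, maskSet refFour ∪ g • t ⊆ o := by
    intro t
    rw [← hfour, ← hgs]
    simp only [Finset.union_subset_iff, Finset.insert_subset_iff, Finset.singleton_subset_iff,
      ← hgp, ← hgq]
    constructor
    · rintro ⟨o, ho, h1, h2, h3, h4⟩
      exact ⟨g • o, smul_mem_octads hg ho, ⟨⟨(apply_mem_smul_iff g p o).2 h1,
        (apply_mem_smul_iff g q o).2 h2⟩, Finset.smul_finset_subset_smul_finset h3⟩,
        Finset.smul_finset_subset_smul_finset h4⟩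
    · rintro ⟨o, ho, ⟨⟨h1, h2⟩, h3⟩, h4⟩
      obtain ⟨o', rfl⟩ : ∃ o', g • o' = o := ⟨g⁻¹ • o, smul_inv_smul g o⟩
      exact ⟨o', (smul_mem_octads_iff hg).1 ho, (apply_mem_smul_iff g p o').1 h1,
        (apply_mem_smul_iff g q o').1 h2, Finset.smul_finset_subset_smul_finset_iff.1 h3,
        Finset.smul_finset_subset_smul_finset_iff.1 h4⟩
  have hbase : ∀ t : Finset Cfsg.GolayPt, (t.card = 2 ∧ p ∉ t ∧ q ∉ t) ↔
      (g • t).card = 2 ∧ pt 23 ∉ g • t ∧ pt 0 ∉ g • t := fun t => by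
    rw [Finset.card_smul_finset, ← hgp, ← hgq, apply_mem_smul_iff, apply_mem_smul_iff]
  have hdis : ∀ t : Finset Cfsg.GolayPt, Disjoint s t ↔ (maskSet 6 ∩ g • t).card = 0 := fun t => by
    rw [← hgs, card_inter_smul, Finset.card_eq_zero, Finset.disjoint_iff_inter_eq_empty]
  have hav : ∀ m : ℕ, (pt 23 ∉ maskSet m ∧ pt 0 ∉ maskSet m) ↔ Nat.beq (m &&& 8388609) 0 = true := by
    intro m
    rw [Nat.beq_eq]
    constructor
    · intro h
      refine maskSet_inj (Nat.and_lt_two_pow m (by norm_num)) (by norm_num) ?_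
      have e : maskSet 8388609 = {pt 23, pt 0} := by decide +kernel
      rw [maskSet_and, e]
      ext x
      simp [mem_maskSet]
      intro hx
      constructor <;> rintro rfl
      · exact h.1 (mem_maskSet.2 hx)
      · exact h.2 (mem_maskSet.2 hx)
    · intro h
      constructor <;> intro hx
      · have h' := Finset.mem_inter.2 ⟨hx, show pt 23 ∈ maskSet 8388609 by decide +kernel⟩
        rw [← maskSet_and, h] at h'
        simp [mem_maskSet] at h'
      · have h' := Finset.mem_inter.2 ⟨hx, show pt 0 ∈ maskSet 8388609 by decide +kernel⟩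
        rw [← maskSet_and, h] at h'
        simp [mem_maskSet] at h'
  have key : ∀ m ∈ masksOfWeight 24 2, (∃ o ∈ Cfsg.octads, maskSet refFour ∪ maskSet m ⊆ o) ↔
      inOctB fourOctads m = true := fun m hm =>
    inOctB_iff fourOctads_eq (by decide) (lt_of_mem_masksOfWeight _ _ _ hm).1
  refine ⟨?_, ?_, fun t t' ht ht' hts hts' hint hiff => ?_⟩
  · rw [ncard_smul g _ (fun t => t.card = 2 ∧ ((pt 23 ∉ t ∧ pt 0 ∉ t) ∧ (maskSet 6 ∩ t).card = 0 ∧
        ∃ o ∈ Cfsg.octads, maskSet refFour ∪ t ⊆ o)) fun t => by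
      rw [hbase, hdis, hoct]; simp only [and_assoc]]
    simp only [card_eq_iff_mask (k := 2)]
    rw [ncard_filter_image (masksOfWeight_nodup _ _) (fun m hm => (lt_of_mem_masksOfWeight _ _ _ hm).1)
      _ (fun m => Nat.beq (m &&& 8388609) 0 && (meetsB 6 0 m && inOctB fourOctads m)) fun m hm => by
        rw [Bool.and_eq_true, Bool.and_eq_true, meetsB_iff, key m hm, hav]]
    decide +kernel
  · rw [ncard_smul g _ (fun t => t.card = 2 ∧ ((pt 23 ∉ t ∧ pt 0 ∉ t) ∧ (maskSet 6 ∩ t).card = 0 ∧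
        ¬ ∃ o ∈ Cfsg.octads, maskSet refFour ∪ t ⊆ o)) fun t => by
      rw [hbase, hdis, hoct]; simp only [and_assoc]]
    simp only [card_eq_iff_mask (k := 2)]
    rw [ncard_filter_image (masksOfWeight_nodup _ _) (fun m hm => (lt_of_mem_masksOfWeight _ _ _ hm).1)
      _ (fun m => Nat.beq (m &&& 8388609) 0 && (meetsB 6 0 m && !(inOctB fourOctads m))) fun m hm => by
        rw [Bool.and_eq_true, Bool.and_eq_true, Bool.not_eq_true', ← Bool.not_eq_true, meetsB_iff,
          key m hm, hav]]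
    decide +kernel
  · obtain ⟨m, hm, hm'⟩ := card_eq_iff_mask.1 ((Finset.card_smul_finset g t).trans ht.1)
    obtain ⟨n, hn, hn'⟩ := card_eq_iff_mask.1 ((Finset.card_smul_finset g t').trans ht'.1)
    have mem : ∀ {W : Finset Cfsg.GolayPt} {m : ℕ}, W.card = 2 ∧ p ∉ W ∧ q ∉ W → W ≠ s →
        m ∈ masksOfWeight 24 2 → maskSet m = g • W →
        m ∈ (masksOfWeight 24 2).filter fun m => Nat.beq (m &&& 8388609) 0 && !(Nat.beq m 6) :=
      fun {W m} hW hne hm hm' => List.mem_filter.2 ⟨hm, by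
        rw [Bool.and_eq_true, ← hav, Bool.not_eq_true', ← Bool.not_eq_true, Nat.beq_eq]
        refine ⟨hm' ▸ ((hbase W).1 hW).2, ?_⟩
        rintro rfl
        exact hne (MulAction.injective g (show g • W = g • s by rw [hgs, hm']))⟩
    rw [hoct, hoct, ← hm', ← hn', key m hm, key n hn, ← Bool.eq_iff_iff] at hiff
    obtain ⟨k, hk, hkm⟩ := classes_transitive pair_classes (mem ht hts hm hm') (mem ht' hts' hn hn') (by
      simp only [pairKey, ← card_maskSet, maskSet_and]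
      rw [hm', hn', ← hgs, card_inter_smul, card_inter_smul, hint, hiff])
    rw [hm', hn'] at hkm
    exact ⟨g⁻¹ * k * g, mul_mem (mul_mem (inv_mem hg) hk.1) hg,
      conj_fix (X := Cfsg.GolayPt) hgp (fix_of_mem_stabIn (i := 23) hk (by norm_num) (by simp)),
      conj_fix (X := Cfsg.GolayPt) hgq (fix_of_mem_stabIn (i := 0) hk (by norm_num) (by simp)),
      conj_fix hgs (hk.2 _ (by simp)), conj_map hkm⟩

end Cfsg.Agent.S1638
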