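import Cfsg.Statements.S1641
import Cfsg.Agent.Lib.LeechOrbit.Dot
import Cfsg.Agent.Lib.LeechOrbit.Levels

set_option autoImplicit false
open Cfsg

namespace Cfsg.Agent.S1641

open Cfsg.Agent.Leech Cfsg.Agent.LeechOrbit

/-- The third Conway group acts on the 11178 cosets of the Higman–Sims group with rank 5 and subdegrees 1, 352, 1100, 4125, 5600. -/
theorem result (u x : ↥Cfsg.leechLattice) (hu : Cfsg.sqNorm (u : Cfsg.GolayPt → ℤ) = 48) (hx : x ∈ {x : ↥Cfsg.leechLattice | Cfsg.sqNorm (x : Cfsg.GolayPt → ℤ) = 32 ∧ Cfsg.dotInt (u : Cfsg.GolayPt → ℤ) (x : Cfsg.GolayPt → ℤ) = -16}) : ∃ y₁ ∈ {x : ↥Cfsg.leechLattice | Cfsg.sqNorm (x : Cfsg.GolayPt → ℤ) = 32 ∧ Cfsg.dotInt (u : Cfsg.GolayPt → ℤ) (x : Cfsg.GolayPt → ℤ) = -16}, ∃ y₂ ∈ {x : ↥Cfsg.leechLattice | Cfsg.sqNorm (x : Cfsg.GolayPt → ℤ) = 32 ∧ Cfsg.dotInt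 (u : Cfsg.GolayPt → ℤ) (x : Cfsg.GolayPt → ℤ) = -16}, ∃ y₃ ∈ {x : ↥Cfsg.leechLattice | Cfsg.sqNorm (x : Cfsg.GolayPt → ℤ) = 32 ∧ Cfsg.dotInt (u : Cfsg.GolayPt → ℤ) (x : Cfsg.GolayPt → ℤ) = -16}, ∃ y₄ ∈ {x : ↥Cfsg.leechLattice | Cfsg.sqNorm (x : Cfsg.GolayPt → ℤ) = 32 ∧ Cfsg.dotInt (u : Cfsg.GolayPt → ℤ) (x : Cfsg.GolayPt → ℤ) = -16}, (MulAction.orbit ↥(MulAction.stabilizer ↥Cfsg.Co0 u ⊓ MulAction.stabilizer ↥Cfsg.Co0 x) y₁).ncard = 352 ∧ (MulAction.orbit ↥(MulAction.stabilizer ↥Cfsg.Co0 u ⊓ MulAction.stabilizer ↥Cfsg.Co0 x) y₂).ncard = 1100 ∧ (MulAction.orbit ↥(MulAction.stabilizer ↥Cfsg.Co0 u ⊓ MulAction.stabilizer ↥Cfsg.Co0 x) y₃).ncard = 4125 ∧ (MulAction.orbit ↥(MulAction.stabilizer ↥Cfsg.Co0 u ⊓ MulAction.stabilizer ↥Cfsg.Co0 x) y₄).ncard = 5600 ∧ {x : ↥Cfsg.leechLattice | Cfsg.sqNorm (x : Cfsg.GolayPt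 → ℤ) = 32 ∧ Cfsg.dotInt (u : Cfsg.GolayPt → ℤ) (x : Cfsg.GolayPt → ℤ) = -16} = {x} ∪ MulAction.orbit ↥(MulAction.stabilizer ↥Cfsg.Co0 u ⊓ MulAction.stabilizer ↥Cfsg.Co0 x) y₁ ∪ MulAction.orbit ↥(MulAction.stabilizer ↥Cfsg.Co0 u ⊓ MulAction.stabilizer ↥Cfsg.Co0 x) y₂ ∪ MulAction.orbit ↥(MulAction.stabilizer ↥Cfsg.Co0 u ⊓ MulAction.stabilizer ↥Cfsg.Co0 x) y₃ ∪ MulAction.orbit ↥(MulAction.stabilizer ↥Cfsg.Co0 u ⊓ MulAction.stabilizer ↥Cfsg.Co0 x) y₄ := by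
  have e : {x : ↥Cfsg.leechLattice | Cfsg.sqNorm (x : Cfsg.GolayPt → ℤ) = 32 ∧
      Cfsg.dotInt (u : Cfsg.GolayPt → ℤ) (x : Cfsg.GolayPt → ℤ) = -16} = {x | ip x x = 4 ∧ ip u x = -2} := by
    ext y
    exact and_congr (norm_iff y 4) (dot_iff u y (-2))
  rw [e] at hx ⊢
  have hu6 : ip u u = 6 := (norm_iff u 6).1 hu
  obtain ⟨k, hk⟩ := transitive6 norm_vec6 hu6
  obtain ⟨h, h1, h2⟩ := (neg2_count hu6).2 (k • x0)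
    ⟨(co0_ip k _ _).trans x0_mem.1.1, by rw [← hk, co0_ip]; exact x0_mem.1.2⟩ x hx
  have a1 : (h * k) • vec6 = u := by rw [mul_smul, hk, h1]
  have a2 : (h * k) • x0 = x := by rw [mul_smul, h2]
  have hconj : ∀ g, g ∈ MulAction.stabilizer Co0 u ⊓ MulAction.stabilizer Co0 x ↔
      (h * k)⁻¹ * g * (h * k) ∈ co3H := fun g => by
    simp only [Subgroup.mem_inf, MulAction.mem_stabilizer_iff, ← a1, ← a2, fix_conj]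
  have hS : {x | ip x x = 4 ∧ ip u x = -2} = (fun y => (h * k) • y) '' co3Set := by
    ext z
    constructor
    · rintro ⟨z1, z2⟩
      exact ⟨(h * k)⁻¹ • z, ⟨(co0_ip _ _ _).trans z1, by
        rw [← co0_ip (h * k), smul_inv_smul, a1]; exact z2⟩, smul_inv_smul _ _⟩
    · rintro ⟨z, ⟨z1, z2⟩, rfl⟩
      exact ⟨(co0_ip _ _ _).trans z1, by rw [← a1, co0_ip]; exact z2⟩
  obtain ⟨y₁, m1, y₂, m2, y₃, m3, y₄, m4, n1, n2, n3, n4, hU, -⟩ := co3_levels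
  rw [hS]
  refine ⟨_, ⟨y₁, m1, rfl⟩, _, ⟨y₂, m2, rfl⟩, _, ⟨y₃, m3, rfl⟩, _, ⟨y₄, m4, rfl⟩,
    (ncard_orbit_conj _ hconj y₁).trans n1, (ncard_orbit_conj _ hconj y₂).trans n2,
    (ncard_orbit_conj _ hconj y₃).trans n3, (ncard_orbit_conj _ hconj y₄).trans n4, ?_⟩
  simp only [orbit_conj _ hconj]
  conv_lhs => rw [hU]
  simp only [Set.image_union, Set.image_singleton, a2]

end Cfsg.Agent.S1641
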