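import Cfsg.Statements.S1643
import Cfsg.Agent.Lib.Golay.Local.L223Max

set_option autoImplicit false
open Cfsg

namespace Cfsg.Agent.S1643

open Cfsg.Agent.Golay.L223

/-- PSL(2, 23) = ⟨t ↦ t+1, t ↦ u t (u square), t ↦ −1/t⟩ is maximal of order 6072 in the group of the length-24 code, and its point stabiliser 23:11 (order 253) is maximal in the Mathieu group of degree 23. -/
theorem result : (Subgroup.closure ({Equiv.optionCongr (Equiv.addRight (1 : ZMod 23)), Cfsg.projInv} ∪ {g : Equiv.Perm Cfsg.GolayPt | ∃ u : (ZMod 23)ˣ, IsSquare u ∧ g = Equiv.optionCongr (Units.mulLeft u)}) ≤ Cfsg.M24 ∧ Nat.card ↥(Subgroup.closure ({Equiv.optionCongr (Equiv.addRight (1 : ZMod 23)), Cfsg.projInv} ∪ {g : Equiv.Perm Cfsg.GolayPt | ∃ u : (ZMod 23)ˣ, IsSquare u ∧ g = Equiv.optionCongr (Units.mulLeft u)})) = 6072 ∧ IsCoatom ((Subgroup.closure ({Equiv.optionCongr (Equiv.addRight (1 : ZMod 23)), Cfsg.projInv} ∪ {g :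 Equiv.Perm Cfsg.GolayPt | ∃ u : (ZMod 23)ˣ, IsSquare u ∧ g = Equiv.optionCongr (Units.mulLeft u)})).subgroupOf Cfsg.M24)) ∧ (Subgroup.closure ({Equiv.optionCongr (Equiv.addRight (1 : ZMod 23))} ∪ {g : Equiv.Perm Cfsg.GolayPt | ∃ u : (ZMod 23)ˣ, IsSquare u ∧ g = Equiv.optionCongr (Units.mulLeft u)}) ≤ Cfsg.M24 ⊓ MulAction.stabilizer (Equiv.Perm Cfsg.GolayPt) (none : Cfsg.GolayPt) ∧ Nat.card ↥(Subgroup.closure ({Equiv.optionCongr (Equiv.addRight (1 : ZMod 23))} ∪ {g : Equiv.Perm Cfsg.GolayPt | ∃ u : (ZMod 23)ˣ, IsSquare u ∧ g = Equiv.optionCongr (Units.mulLeft u)})) = 253 ∧ IsCoatom (((Subgroup.closure ({Equiv.optionCongr (Equiv.addRight (1 : ZMod 23))} ∪ {g : Equiv.Perm Cfsg.GolayPt | ∃ u : (ZMod 23)ˣ, IsSquare u ∧ g = Equiv.optionCongr (Units.mulLeft u)})).subgroupOf Cfsg.M24).subgroupOf (MulAction.stabilizer Cfsg.M24 (none : Cfsg.GolayPt)))) := by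
  refine ⟨⟨all_le_M24, card_all, isCoatom_of_max all_le_M24 card_M24_ne max_all⟩,
    inf_le_M23, card_inf, isCoatom_of_max ?_ ?_ ?_⟩
  · intro x hx
    exact (inf_le_M23 hx).2
  · intro e
    refine card_M23_ne (le_antisymm inf_le_M23 fun x hx => ?_)
    exact (e.symm ▸ (hx.2 : (⟨x, hx.1⟩ : M24) ∈ MulAction.stabilizer M24 (none : GolayPt)) :
      (⟨x, hx.1⟩ : M24) ∈ (Subgroup.closure genInf).subgroupOf M24)
  · intro K hK hKs
    have h := max_inf (K.map M24.subtype) (lt_of_le_of_ne (fun x hx =>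
      ⟨⟨x, (inf_le_M23 hx).1⟩, hK.le hx, rfl⟩) fun e => hK.ne ?_) ?_
    · refine le_antisymm hKs fun x hx => ?_
      have hx' : (x : Equiv.Perm GolayPt) ∈ Spor.M23 := ⟨x.2, hx⟩
      rw [← h] at hx'
      obtain ⟨y, hy, hyx⟩ := hx'
      exact Subtype.ext hyx ▸ hy
    · show (Subgroup.closure genInf).subgroupOf M24 = K
      rw [e]
      exact Subgroup.comap_map_eq_self_of_injective M24.subtype_injective K
    · rintro _ ⟨y, hy, rfl⟩
      exact ⟨y.2, hKs hy⟩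

end Cfsg.Agent.S1643
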