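import Cfsg.Statements.S1646
import Cfsg.Agent.Lib.JankoFour.Reduce.Entry
import Cfsg.Agent.Lib.JankoFour.Order
import Cfsg.Agent.Lib.JankoFour.OCountMain

set_option autoImplicit false
open Cfsg Cfsg.Agent.JankoFour

namespace Cfsg.Agent.S1646

theorem not_comm {G : Type*} [Group G] [Finite G] [IsSimpleGroup G] {t : G} (ht : orderOf t = 2)
    {Q : Subgroup (Subgroup.centralizer ({t} : Set G))} (hcard : Nat.card Q = 2 ^ 13) : ¬ IsMulCommutative G := by
  intro h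
  letI : CommGroup G := { (inferInstance : Group G) with mul_comm := h.is_comm.comm }
  have hp := IsSimpleGroup.prime_card (α := G)
  have h1 : Nat.card Q ∣ Nat.card G := (Subgroup.card_subgroup_dvd_card Q).trans (Subgroup.card_subgroup_dvd_card _)
  rw [hcard] at h1
  have h2 := (Nat.prime_dvd_prime_iff_eq Nat.prime_two hp).1 ((dvd_pow_self 2 (by norm_num)).trans h1)
  rw [← h2] at h1
  exact absurd (Nat.le_of_dvd (by norm_num) h1) (by norm_num)

theorem result {G : Type*} [Group G] [Finite G] [IsSimpleGroup G] (t : G) (ht : orderOf t = 2) (Q N M : Subgroup (Subgroup.centralizer ({t} : Set G))) [Q.Normal] [N.Normal] [M.Normal] (hQN : Q ≤ N) (hNM : N ≤ M) (hM : M.index = 2) (hQ : Cfsg.IsExtraspecial 2 Q) (hcard : Nat.card Q = 2 ^ 13) (hplus : ∃ E : Subgroup Q, Cfsg.IsElementaryAbelian 2 E ∧ Nat.card E = 2 ^ 7) (hN : Nat.card N = 3 * Nat.card Q) (hcent : ⁅M, N⁆ ≤ Q) (hperf : M ≤ ⁅M, M⁆ ⊔ Q) (h2c : Subgroup.centralizer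 (Q : Set (Subgroup.centralizer ({t} : Set G))) ≤ Q) (hout : ∀ c : Subgroup.centralizer ({t} : Set G), (∀ m ∈ M, c * m * c⁻¹ * m⁻¹ ∈ N) → c ∈ M) (hM22 : Cfsg.Spor.IsoM22 (M ⧸ N.subgroupOf M)) : Cfsg.IsJ4 G ∧ ∃ x y : G, orderOf x = 2 ∧ orderOf y = 2 ∧ ¬ IsConj x y ∧ ∀ z : G, orderOf z = 2 → IsConj z x ∨ IsConj z y := by
  have hG : ¬ IsMulCommutative G := not_comm ht hcard
  have hJ := Reduce.type_at_of_centraliser ht hQN hNM hM hQ hcard hN hcent hperf h2c hout hM22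
  refine ⟨⟨inferInstance, ?_⟩, exists_two_classes hG hJ⟩
  obtain ⟨P, hP⟩ := hJ
  obtain ⟨M', B, ⟨F⟩⟩ := exists_facts hP
  exact F.card_eq hG fun D _ => BigData.one_count F hG D TC.card_duad2

end Cfsg.Agent.S1646
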