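import Cfsg.Statements.S1656
import Cfsg.Agent.Lib.HNRecog.Amal.Embed
import Cfsg.Agent.Lib.HNRecog.Assign.Main
import Cfsg.Agent.Lib.HNRecog.Consequences
-- import your own Cfsg.Agent.* helpers here

set_option autoImplicit false
open Cfsg

namespace Cfsg.Agent.S1656

/-- A group of Harada–Norton type contains A₁₂: if a finite simple group has an involution whose centraliser has a normal subgroup M of index 2, containing its own centraliser in the involution centraliser, which is a non-split double cover of the Higman–Sims group, then it has a subgroup isomorphic to the alternating group of degree 12. -/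
theorem result {G : Type*} [Group G] [Finite G] [IsSimpleGroup G] (t : G) (ht : orderOf t = 2) (M : Subgroup (Subgroup.centralizer ({t} : Set G))) [M.Normal] (hM : M.index = 2) (hout : Subgroup.centralizer (M : Set (Subgroup.centralizer ({t} : Set G))) ≤ M) (hcov : Cfsg.IsNonsplitDoubleCover M Cfsg.Spor.HS) : ∃ H : Subgroup G, Nonempty (H ≃* alternatingGroup (Fin 12)) := by
  obtain ⟨ψ, q, hinj, hran, hsq, h1, h2, -, hat, hz, hzu, -⟩ :=
    HNRecog.Assign.exists_local_classes t ht M hM hout hcov
  obtain ⟨F, hF, -⟩ := HNRecog.exists_embedding ψ hinj hran hsq q h1 h2 hat hz hzu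
  obtain ⟨φ, hφ⟩ := HN.exists_alt_hom HN.Dat.xok HN.Dat.defsOK HN.Dat.maxOK HN.Dat.altU_ok HN.Dat.altS_ok
    HN.Dat.cubes_ok HN.Dat.pairs_ok (show 6 < 10 by norm_num) HN.Dat.altRun_ok
  exact ⟨_, ⟨(MonoidHom.ofInjective (f := F.comp φ) (hF.comp hφ)).symm⟩⟩

end Cfsg.Agent.S1656
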