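import Cfsg.Statements.S1681
import Cfsg.Agent.Lib.Compute.CosetData.SuzBSetup

set_option autoImplicit false
open Cfsg

namespace Cfsg.Agent.S1681

open Cfsg.Agent.CosetCert
open Cfsg.Agent.CosetData.SuzB in
theorem main {H : Subgroup setup.G}
    (hH : H = Subgroup.closure {g | ∃ w ∈ sw, g = wprod setup.gen w}) : H.index = 22880 := by
  obtain ⟨hi, -, -⟩ := setup.exists_equiv hH (by decide +kernel) rots_ok cert_ok fix_ok tree_ok tree_len
  exact hi

/-- In the presented sporadic Suzuki group (generators a, …, g), the subgroup generated by the images of a, b, c, d, f, g has index 22880. -/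
theorem result : (((Subgroup.closure ({Cfsg.Spor.Suz.a, Cfsg.Spor.Suz.b, Cfsg.Spor.Suz.c, Cfsg.Spor.Suz.d, Cfsg.Spor.Suz.f, Cfsg.Spor.Suz.g} : Set (FreeGroup Cfsg.Spor.Suz.Gen))).map (PresentedGroup.mk (Cfsg.Spor.coxRelators Cfsg.Spor.Suz.edges ∪ {r | r ∈ Cfsg.Spor.Suz.extra})))).index = 22880 := by
  refine main ?_
  rw [MonoidHom.map_closure]
  congr 1
  ext g
  simp only [Set.mem_image, Set.mem_insert_iff, Set.mem_singleton_iff, Set.mem_ofPred_eq,
    Cfsg.Agent.CosetData.SuzB.sw, List.mem_cons, List.not_mem_nil, or_false]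
  constructor
  · rintro ⟨r, hr, rfl⟩
    rcases hr with rfl | rfl | rfl | rfl | rfl | rfl
    · exact ⟨[0], by simp, by simp [wprod_cons, wprod_nil]; rfl⟩
    · exact ⟨[1], by simp, by simp [wprod_cons, wprod_nil]; rfl⟩
    · exact ⟨[2], by simp, by simp [wprod_cons, wprod_nil]; rfl⟩
    · exact ⟨[3], by simp, by simp [wprod_cons, wprod_nil]; rfl⟩
    · exact ⟨[5], by simp, by simp [wprod_cons, wprod_nil]; rfl⟩
    · exact ⟨[6], by simp, by simp [wprod_cons, wprod_nil]; rfl⟩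
  · rintro ⟨w, hw, rfl⟩
    rcases hw with rfl | rfl | rfl | rfl | rfl | rfl
    · exact ⟨_, Or.inl rfl, by simp [wprod_cons, wprod_nil]; rfl⟩
    · exact ⟨_, Or.inr (Or.inl rfl), by simp [wprod_cons, wprod_nil]; rfl⟩
    · exact ⟨_, Or.inr (Or.inr (Or.inl rfl)), by simp [wprod_cons, wprod_nil]; rfl⟩
    · exact ⟨_, Or.inr (Or.inr (Or.inr (Or.inl rfl))), by simp [wprod_cons, wprod_nil]; rfl⟩
    · exact ⟨_, Or.inr (Or.inr (Or.inr (Or.inr (Or.inl rfl)))), by simp [wprod_cons, wprod_nil]; rfl⟩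
    · exact ⟨_, Or.inr (Or.inr (Or.inr (Or.inr (Or.inr rfl)))), by simp [wprod_cons, wprod_nil]; rfl⟩

end Cfsg.Agent.S1681
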