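import Cfsg.Statements.S1682
import Cfsg.Agent.Lib.RigidGraph.He.PresentedStab

set_option autoImplicit false
open Cfsg
open Cfsg.Agent.CosetCert

namespace Cfsg.Agent.S1682

theorem main {H : Subgroup Cfsg.Agent.CosetData.HeH.setup.G}
    (hH : H = Subgroup.closure {g | ∃ w ∈ Cfsg.Agent.CosetData.HeH.sw, g = wprod Cfsg.Agent.CosetData.HeH.setup.gen w}) :
    ∃ (N : Subgroup H) (K : Type) (_ : Field K) (_ : Fintype K),
      N.Normal ∧ N.index = 2 ∧ Fintype.card K = 4 ∧ Nonempty (N ≃* Matrix.symplecticGroup (Fin 2) K) := by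
  obtain ⟨N, h1, h2, h3⟩ := Cfsg.Agent.RigidGraph.He.stab_presented hH
  exact ⟨N, Cfsg.Agent.RigidGraph.He.K4, inferInstance, inferInstance, h1, h2, Cfsg.Agent.RigidGraph.He.K4.card_K4, h3⟩

/-- In the presented Held group, the subgroup H generated by the images of a, c, d, e, f, (ab)^2 and (bcde)^7 has a normal subgroup of index 2 isomorphic to the 4-dimensional symplectic group over a field with four elements. -/
theorem result : ∃ (N : Subgroup (((Subgroup.closure ({Cfsg.Spor.He.a, Cfsg.Spor.He.c, Cfsg.Spor.He.d, Cfsg.Spor.He.e, Cfsg.Spor.He.f, (Cfsg.Spor.He.a * Cfsg.Spor.He.b) ^ 2, (Cfsg.Spor.He.b * Cfsg.Spor.He.c * Cfsg.Spor.He.d * Cfsg.Spor.He.e) ^ 7} : Set (FreeGroup Cfsg.Spor.He.Gen))).map (PresentedGroup.mk (Cfsg.Spor.coxRelators Cfsg.Spor.He.edges ∪ {r | r ∈ Cfsg.Spor.He.extra}))))) (K : Type) (_ : Field K) (_ : Fintype K), N.Normal ∧ N.index = 2 ∧ Fintype.card K = 4 ∧ Nonempty (N ≃* Matrix.symplecticGroup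 (Fin 2) K) := by
  refine main ?_
  rw [MonoidHom.map_closure]
  congr 1
  ext g
  simp only [Set.mem_image, Set.mem_insert_iff, Set.mem_singleton_iff, Set.mem_setOf_eq,
    Cfsg.Agent.CosetData.HeH.sw, List.mem_cons, List.not_mem_nil, or_false]
  constructor
  · rintro ⟨r, hr, rfl⟩
    rcases hr with rfl | rfl | rfl | rfl | rfl | rfl | rfl
    all_goals first
      | exact ⟨_, Or.inl rfl, by simp [wprod_cons, wprod_nil]; rfl⟩
      | exact ⟨_, Or.inr (Or.inl rfl), by simp [wprod_cons, wprod_nil]; rfl⟩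
      | exact ⟨_, Or.inr (Or.inr (Or.inl rfl)), by simp [wprod_cons, wprod_nil]; rfl⟩
      | exact ⟨_, Or.inr (Or.inr (Or.inr (Or.inl rfl))), by simp [wprod_cons, wprod_nil]; rfl⟩
      | exact ⟨_, Or.inr (Or.inr (Or.inr (Or.inr (Or.inl rfl)))), by simp [wprod_cons, wprod_nil]; rfl⟩
      | exact ⟨_, Or.inr (Or.inr (Or.inr (Or.inr (Or.inr (Or.inl rfl))))), by simp [wprod_cons, wprod_nil, pow_succ, mul_assoc]; rfl⟩
      | exact ⟨_, Or.inr (Or.inr (Or.inr (Or.inr (Or.inr (Or.inr rfl))))), by simp [wprod_cons, wprod_nil, pow_succ, mul_assoc]; rfl⟩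
  · rintro ⟨w, hw, rfl⟩
    rcases hw with rfl | rfl | rfl | rfl | rfl | rfl | rfl
    · exact ⟨_, Or.inl rfl, by simp [wprod_cons, wprod_nil]; rfl⟩
    · exact ⟨_, Or.inr (Or.inl rfl), by simp [wprod_cons, wprod_nil]; rfl⟩
    · exact ⟨_, Or.inr (Or.inr (Or.inl rfl)), by simp [wprod_cons, wprod_nil]; rfl⟩
    · exact ⟨_, Or.inr (Or.inr (Or.inr (Or.inl rfl))), by simp [wprod_cons, wprod_nil]; rfl⟩
    · exact ⟨_, Or.inr (Or.inr (Or.inr (Or.inr (Or.inl rfl)))), by simp [wprod_cons, wprod_nil]; rfl⟩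
    · exact ⟨_, Or.inr (Or.inr (Or.inr (Or.inr (Or.inr (Or.inl rfl))))), by simp [wprod_cons, wprod_nil, pow_succ, mul_assoc]; rfl⟩
    · exact ⟨_, Or.inr (Or.inr (Or.inr (Or.inr (Or.inr (Or.inr rfl))))), by simp [wprod_cons, wprod_nil, pow_succ, mul_assoc]; rfl⟩

end Cfsg.Agent.S1682
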