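import Cfsg.Statements.S1683
import Cfsg.Agent.Lib.Compute.CosetData.HeSetup


set_option autoImplicit false
open Cfsg

namespace Cfsg.Agent.S1683

open Cfsg.Agent.CosetCert
open Cfsg.Agent.CosetData.HeH in
theorem main {H : Subgroup setup.G}
    (hH : H = Subgroup.closure {g | ∃ w ∈ sw, g = wprod setup.gen w}) :
    H.index = 2058 ∧ ∃ q₁ q₂ q₃ q₄ : setup.G ⧸ H,
      MulAction.orbit H q₁ ≠ MulAction.orbit H q₂ ∧ (MulAction.orbit H q₁).ncard = 136 ∧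
      (MulAction.orbit H q₂).ncard = 136 ∧ (MulAction.orbit H q₃).ncard = 425 ∧
      (MulAction.orbit H q₄).ncard = 1360 := by
  obtain ⟨hi, e, he⟩ := setup.exists_equiv hH (by decide +kernel) rots_ok cert_ok fix_ok tree_ok tree_len
  obtain ⟨q₁, -, h1, m1⟩ := orbit_spec setup.gen_invol hH setup.hom_gen he orb1_ok
  obtain ⟨q₂, hc2, h2, -⟩ := orbit_spec setup.gen_invol hH setup.hom_gen he orb2_ok
  obtain ⟨q₃, -, h3, -⟩ := orbit_spec setup.gen_invol hH setup.hom_gen he orb3_ok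
  obtain ⟨q₄, -, h4, -⟩ := orbit_spec setup.gen_invol hH setup.hom_gen he orb4_ok
  refine ⟨hi, q₁, q₂, q₃, q₄, fun h => ?_, h1, h2, h3, h4⟩
  have hm := (m1 q₂).1 (h ▸ MulAction.mem_orbit_self q₂)
  rw [hc2] at hm
  revert hm
  decide +kernel


/-- In the presented Held group, let H be the subgroup generated by the images of a, c, d, e, f, (ab)^2 and (bcde)^7. Then H has index 2058, there are four distinct H-orbits on the cosets of H other than H itself, of sizes 136, 136, 425 and 1360. -/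
theorem result : (((Subgroup.closure ({Cfsg.Spor.He.a, Cfsg.Spor.He.c, Cfsg.Spor.He.d, Cfsg.Spor.He.e, Cfsg.Spor.He.f, (Cfsg.Spor.He.a * Cfsg.Spor.He.b) ^ 2, (Cfsg.Spor.He.b * Cfsg.Spor.He.c * Cfsg.Spor.He.d * Cfsg.Spor.He.e) ^ 7} : Set (FreeGroup Cfsg.Spor.He.Gen))).map (PresentedGroup.mk (Cfsg.Spor.coxRelators Cfsg.Spor.He.edges ∪ {r | r ∈ Cfsg.Spor.He.extra})))).index = 2058 ∧ ∃ q₁ q₂ q₃ q₄ : Cfsg.Spor.He ⧸ (((Subgroup.closure ({Cfsg.Spor.He.a, Cfsg.Spor.He.c, Cfsg.Spor.He.d, Cfsg.Spor.He.e, Cfsg.Spor.He.f, (Cfsg.Spor.He.a * Cfsg.Spor.He.b) ^ 2, (Cfsg.Spor.He.b * Cfsg.Spor.He.c * Cfsg.Spor.He.d * Cfsg.Spor.He.e) ^ 7} : Set (FreeGroup Cfsg.Spor.He.Gen))).map (PresentedGroup.mk (Cfsg.Spor.coxRelators Cfsg.Spor.He.edges ∪ {r | r ∈ Cfsg.Spor.He.extra})))), MulAction.orbit (((Subgroup.closure ({Cfsg.Spor.He.a, Cfsg.Spor.He.c, Cfsg.Spor.He.d,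 Cfsg.Spor.He.e, Cfsg.Spor.He.f, (Cfsg.Spor.He.a * Cfsg.Spor.He.b) ^ 2, (Cfsg.Spor.He.b * Cfsg.Spor.He.c * Cfsg.Spor.He.d * Cfsg.Spor.He.e) ^ 7} : Set (FreeGroup Cfsg.Spor.He.Gen))).map (PresentedGroup.mk (Cfsg.Spor.coxRelators Cfsg.Spor.He.edges ∪ {r | r ∈ Cfsg.Spor.He.extra})))) q₁ ≠ MulAction.orbit (((Subgroup.closure ({Cfsg.Spor.He.a, Cfsg.Spor.He.c, Cfsg.Spor.He.d, Cfsg.Spor.He.e, Cfsg.Spor.He.f, (Cfsg.Spor.He.a * Cfsg.Spor.He.b) ^ 2, (Cfsg.Spor.He.b * Cfsg.Spor.He.c * Cfsg.Spor.He.d * Cfsg.Spor.He.e) ^ 7} : Set (FreeGroup Cfsg.Spor.He.Gen))).map (PresentedGroup.mk (Cfsg.Spor.coxRelators Cfsg.Spor.He.edges ∪ {r | r ∈ Cfsg.Spor.He.extra})))) q₂ ∧ (MulAction.orbit (((Subgroup.closure ({Cfsg.Spor.He.a, Cfsg.Spor.He.c, Cfsg.Spor.He.d, Cfsg.Spor.He.e, Cfsg.Spor.He.f, (Cfsg.Spor.He.a * Cfsg.Spor.He.b) ^ 2, (Cfsg.Spor.He.b * Cfsg.Spor.He.c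 * Cfsg.Spor.He.d * Cfsg.Spor.He.e) ^ 7} : Set (FreeGroup Cfsg.Spor.He.Gen))).map (PresentedGroup.mk (Cfsg.Spor.coxRelators Cfsg.Spor.He.edges ∪ {r | r ∈ Cfsg.Spor.He.extra})))) q₁).ncard = 136 ∧ (MulAction.orbit (((Subgroup.closure ({Cfsg.Spor.He.a, Cfsg.Spor.He.c, Cfsg.Spor.He.d, Cfsg.Spor.He.e, Cfsg.Spor.He.f, (Cfsg.Spor.He.a * Cfsg.Spor.He.b) ^ 2, (Cfsg.Spor.He.b * Cfsg.Spor.He.c * Cfsg.Spor.He.d * Cfsg.Spor.He.e) ^ 7} : Set (FreeGroup Cfsg.Spor.He.Gen))).map (PresentedGroup.mk (Cfsg.Spor.coxRelators Cfsg.Spor.He.edges ∪ {r | r ∈ Cfsg.Spor.He.extra})))) q₂).ncard = 136 ∧ (MulAction.orbit (((Subgroup.closure ({Cfsg.Spor.He.a, Cfsg.Spor.He.c, Cfsg.Spor.He.d, Cfsg.Spor.He.e, Cfsg.Spor.He.f, (Cfsg.Spor.He.a * Cfsg.Spor.He.b) ^ 2, (Cfsg.Spor.He.b * Cfsg.Spor.He.c * Cfsg.Spor.He.d * Cfsg.Spor.He.e) ^ 7} : Set (FreeGroup Cfsg.Spor.He.Gen))).map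 (PresentedGroup.mk (Cfsg.Spor.coxRelators Cfsg.Spor.He.edges ∪ {r | r ∈ Cfsg.Spor.He.extra})))) q₃).ncard = 425 ∧ (MulAction.orbit (((Subgroup.closure ({Cfsg.Spor.He.a, Cfsg.Spor.He.c, Cfsg.Spor.He.d, Cfsg.Spor.He.e, Cfsg.Spor.He.f, (Cfsg.Spor.He.a * Cfsg.Spor.He.b) ^ 2, (Cfsg.Spor.He.b * Cfsg.Spor.He.c * Cfsg.Spor.He.d * Cfsg.Spor.He.e) ^ 7} : Set (FreeGroup Cfsg.Spor.He.Gen))).map (PresentedGroup.mk (Cfsg.Spor.coxRelators Cfsg.Spor.He.edges ∪ {r | r ∈ Cfsg.Spor.He.extra})))) q₄).ncard = 1360 := by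
  refine main ?_
  rw [MonoidHom.map_closure]
  congr 1
  ext g
  simp only [Set.mem_image, Set.mem_insert_iff, Set.mem_singleton_iff, Set.mem_setOf_eq,
    Cfsg.Agent.CosetData.HeH.sw, List.mem_cons, List.not_mem_nil, or_false]
  constructor
  · rintro ⟨r, hr, rfl⟩
    rcases hr with rfl | rfl | rfl | rfl | rfl | rfl | rfl
    all_goals first
      | exact ⟨_, Or.inl rfl, by simp [wprod_cons, wprod_nil]; rfl⟩
      | exact ⟨_, Or.inr (Or.inl rfl), by simp [wprod_cons, wprod_nil]; rfl⟩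
      | exact ⟨_, Or.inr (Or.inr (Or.inl rfl)), by simp [wprod_cons, wprod_nil]; rfl⟩
      | exact ⟨_, Or.inr (Or.inr (Or.inr (Or.inl rfl))), by simp [wprod_cons, wprod_nil]; rfl⟩
      | exact ⟨_, Or.inr (Or.inr (Or.inr (Or.inr (Or.inl rfl)))), by simp [wprod_cons, wprod_nil]; rfl⟩
      | exact ⟨_, Or.inr (Or.inr (Or.inr (Or.inr (Or.inr (Or.inl rfl))))), by simp [wprod_cons, wprod_nil, pow_succ, mul_assoc]; rfl⟩
      | exact ⟨_, Or.inr (Or.inr (Or.inr (Or.inr (Or.inr (Or.inr rfl))))), by simp [wprod_cons, wprod_nil, pow_succ, mul_assoc]; rfl⟩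
  · rintro ⟨w, hw, rfl⟩
    rcases hw with rfl | rfl | rfl | rfl | rfl | rfl | rfl
    · exact ⟨_, Or.inl rfl, by simp [wprod_cons, wprod_nil]; rfl⟩
    · exact ⟨_, Or.inr (Or.inl rfl), by simp [wprod_cons, wprod_nil]; rfl⟩
    · exact ⟨_, Or.inr (Or.inr (Or.inl rfl)), by simp [wprod_cons, wprod_nil]; rfl⟩
    · exact ⟨_, Or.inr (Or.inr (Or.inr (Or.inl rfl))), by simp [wprod_cons, wprod_nil]; rfl⟩
    · exact ⟨_, Or.inr (Or.inr (Or.inr (Or.inr (Or.inl rfl)))), by simp [wprod_cons, wprod_nil]; rfl⟩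
    · exact ⟨_, Or.inr (Or.inr (Or.inr (Or.inr (Or.inr (Or.inl rfl))))), by simp [wprod_cons, wprod_nil, pow_succ, mul_assoc]; rfl⟩
    · exact ⟨_, Or.inr (Or.inr (Or.inr (Or.inr (Or.inr (Or.inr rfl))))), by simp [wprod_cons, wprod_nil, pow_succ, mul_assoc]; rfl⟩

end Cfsg.Agent.S1683
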