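import Cfsg.Statements.S1684
import Cfsg.Agent.Lib.FischerPresented.U62Group

set_option autoImplicit false
open Cfsg

namespace Cfsg.Agent.S1684

open Cfsg.Agent.CosetCert

/-- In the presented Fischer group Fi₂₂, the subgroup generated by the images of a, c, d, e, f, g, h, i and (abcdeh)^5 is a non-split double cover of PSU(6, 2) (realised over a field with four elements). -/
theorem result : ∃ (K : Type) (_ : Field K) (_ : Fintype K), Fintype.card K = 4 ∧ Cfsg.IsNonsplitDoubleCover (((Subgroup.closure ({Cfsg.Spor.Fi22.a, Cfsg.Spor.Fi22.c, Cfsg.Spor.Fi22.d, Cfsg.Spor.Fi22.e, Cfsg.Spor.Fi22.f, Cfsg.Spor.Fi22.g, Cfsg.Spor.Fi22.h, Cfsg.Spor.Fi22.i, (Cfsg.Spor.Fi22.a * Cfsg.Spor.Fi22.b * Cfsg.Spor.Fi22.c * Cfsg.Spor.Fi22.d * Cfsg.Spor.Fi22.e * Cfsg.Spor.Fi22.h) ^ 5} : Set (FreeGroup Cfsg.Spor.Fi22.Gen))).map (PresentedGroup.mk (Cfsg.Spor.coxRelators Cfsg.Spor.Fi22.edges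 ∪ {r | r ∈ Cfsg.Spor.Fi22.extra})))) (Cfsg.PSU 6 K 2) := by
  refine ⟨Cfsg.Agent.RigidGraph.He.K4, inferInstance, inferInstance, Cfsg.Agent.RigidGraph.He.K4.card_K4, ?_⟩
  have h : (Cfsg.Agent.FischerPresented.Fi22.H : Subgroup (Cfsg.Agent.CosetCert.Setup.G
      Cfsg.Agent.CosetData.Fi22B.setup)) = (((Subgroup.closure ({Cfsg.Spor.Fi22.a, Cfsg.Spor.Fi22.c, Cfsg.Spor.Fi22.d, Cfsg.Spor.Fi22.e, Cfsg.Spor.Fi22.f, Cfsg.Spor.Fi22.g, Cfsg.Spor.Fi22.h, Cfsg.Spor.Fi22.i, (Cfsg.Spor.Fi22.a * Cfsg.Spor.Fi22.b * Cfsg.Spor.Fi22.c * Cfsg.Spor.Fi22.d * Cfsg.Spor.Fi22.e * Cfsg.Spor.Fi22.h) ^ 5} : Set (FreeGroup Cfsg.Spor.Fi22.Gen))).map (PresentedGroup.mk (Cfsg.Spor.coxRelators Cfsg.Spor.Fi22.edges ∪ {r | r ∈ Cfsg.Spor.Fi22.extra})))) := ?_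
  · exact Cfsg.Agent.FischerPresented.CoverCongr.isNonsplitDoubleCover_congr
      (H := ↥Cfsg.Agent.FischerPresented.Fi22.H) (MulEquiv.subgroupCongr h)
      Cfsg.Agent.FischerPresented.U62.isNonsplitDoubleCover
  symm
  unfold Cfsg.Agent.FischerPresented.Fi22.H
  rw [MonoidHom.map_closure]
  congr 1
  ext g
  simp only [Set.mem_image, Set.mem_insert_iff, Set.mem_singleton_iff, Set.mem_ofPred_eq,
    Cfsg.Agent.CosetData.Fi22B.sw, List.mem_cons, List.not_mem_nil, or_false]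
  constructor
  · rintro ⟨r, hr, rfl⟩
    rcases hr with rfl | rfl | rfl | rfl | rfl | rfl | rfl | rfl | rfl
    · exact ⟨_, Or.inl rfl, by simp [wprod_cons, wprod_nil, pow_succ, mul_assoc]; rfl⟩
    · exact ⟨_, Or.inr (Or.inl rfl), by simp [wprod_cons, wprod_nil, pow_succ, mul_assoc]; rfl⟩
    · exact ⟨_, Or.inr (Or.inr (Or.inl rfl)), by simp [wprod_cons, wprod_nil, pow_succ, mul_assoc]; rfl⟩
    · exact ⟨_, Or.inr (Or.inr (Or.inr (Or.inl rfl))), by simp [wprod_cons, wprod_nil, pow_succ, mul_assoc]; rfl⟩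
    · exact ⟨_, Or.inr (Or.inr (Or.inr (Or.inr (Or.inl rfl)))), by simp [wprod_cons, wprod_nil, pow_succ, mul_assoc]; rfl⟩
    · exact ⟨_, Or.inr (Or.inr (Or.inr (Or.inr (Or.inr (Or.inl rfl))))), by simp [wprod_cons, wprod_nil, pow_succ, mul_assoc]; rfl⟩
    · exact ⟨_, Or.inr (Or.inr (Or.inr (Or.inr (Or.inr (Or.inr (Or.inl rfl)))))), by simp [wprod_cons, wprod_nil, pow_succ, mul_assoc]; rfl⟩
    · exact ⟨_, Or.inr (Or.inr (Or.inr (Or.inr (Or.inr (Or.inr (Or.inr (Or.inl rfl))))))), by simp [wprod_cons, wprod_nil, pow_succ, mul_assoc]; rfl⟩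
    · exact ⟨_, Or.inr (Or.inr (Or.inr (Or.inr (Or.inr (Or.inr (Or.inr (Or.inr (rfl)))))))), by simp [wprod_cons, wprod_nil, pow_succ, mul_assoc]; rfl⟩
  · rintro ⟨w, hw, rfl⟩
    rcases hw with rfl | rfl | rfl | rfl | rfl | rfl | rfl | rfl | rfl
    · exact ⟨_, Or.inl rfl, by simp [wprod_cons, wprod_nil, pow_succ, mul_assoc]; rfl⟩
    · exact ⟨_, Or.inr (Or.inl rfl), by simp [wprod_cons, wprod_nil, pow_succ, mul_assoc]; rfl⟩
    · exact ⟨_, Or.inr (Or.inr (Or.inl rfl)), by simp [wprod_cons, wprod_nil, pow_succ, mul_assoc]; rfl⟩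
    · exact ⟨_, Or.inr (Or.inr (Or.inr (Or.inl rfl))), by simp [wprod_cons, wprod_nil, pow_succ, mul_assoc]; rfl⟩
    · exact ⟨_, Or.inr (Or.inr (Or.inr (Or.inr (Or.inl rfl)))), by simp [wprod_cons, wprod_nil, pow_succ, mul_assoc]; rfl⟩
    · exact ⟨_, Or.inr (Or.inr (Or.inr (Or.inr (Or.inr (Or.inl rfl))))), by simp [wprod_cons, wprod_nil, pow_succ, mul_assoc]; rfl⟩
    · exact ⟨_, Or.inr (Or.inr (Or.inr (Or.inr (Or.inr (Or.inr (Or.inl rfl)))))), by simp [wprod_cons, wprod_nil, pow_succ, mul_assoc]; rfl⟩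
    · exact ⟨_, Or.inr (Or.inr (Or.inr (Or.inr (Or.inr (Or.inr (Or.inr (Or.inl rfl))))))), by simp [wprod_cons, wprod_nil, pow_succ, mul_assoc]; rfl⟩
    · exact ⟨_, Or.inr (Or.inr (Or.inr (Or.inr (Or.inr (Or.inr (Or.inr (Or.inr (rfl)))))))), by simp [wprod_cons, wprod_nil, pow_succ, mul_assoc]; rfl⟩

end Cfsg.Agent.S1684
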