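import Cfsg.Statements.S1686
import Cfsg.Agent.Lib.FischerPresented.O73Group
import Cfsg.Agent.S1685

set_option autoImplicit false
open Cfsg

namespace Cfsg.Agent.S1686

/-- In the presented Fischer group Fi₂₂, the subgroup generated by the images of b, …, i is isomorphic to PΩ(7, 3), the commutator subgroup of the isometry group of the quadratic form x₀² + x₁y₁ + x₂y₂ + x₃y₃ over the integers mod 3, modulo its centre. -/
theorem result : Nonempty ((((Subgroup.closure ({Cfsg.Spor.Fi22.b, Cfsg.Spor.Fi22.c, Cfsg.Spor.Fi22.d, Cfsg.Spor.Fi22.e, Cfsg.Spor.Fi22.f, Cfsg.Spor.Fi22.g, Cfsg.Spor.Fi22.h, Cfsg.Spor.Fi22.i} : Set (FreeGroup Cfsg.Spor.Fi22.Gen))).map (PresentedGroup.mk (Cfsg.Spor.coxRelators Cfsg.Spor.Fi22.edges ∪ {r | r ∈ Cfsg.Spor.Fi22.extra})))) ≃* Cfsg.POmega (ZMod 3) (Cfsg.quadFormOdd 3 (ZMod 3))) := by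
  refine Cfsg.Agent.FischerPresented.O73.exists_embedding ?_ ?_
  · rw [MonoidHom.map_closure]
    refine congrArg Subgroup.closure (Set.ext fun g => ⟨?_, ?_⟩)
    · rintro ⟨r, hr, rfl⟩
      simp only [Set.mem_insert_iff, Set.mem_singleton_iff] at hr
      rcases hr with rfl | rfl | rfl | rfl | rfl | rfl | rfl | rfl
      · exact ⟨0, by norm_num, rfl⟩
      · exact ⟨1, by norm_num, rfl⟩
      · exact ⟨2, by norm_num, rfl⟩
      · exact ⟨3, by norm_num, rfl⟩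
      · exact ⟨4, by norm_num, rfl⟩
      · exact ⟨5, by norm_num, rfl⟩
      · exact ⟨6, by norm_num, rfl⟩
      · exact ⟨7, by norm_num, rfl⟩
    · rintro ⟨x, hx, rfl⟩
      change x < 8 at hx
      interval_cases x
      · exact ⟨Cfsg.Spor.Fi22.b, by simp, rfl⟩
      · exact ⟨Cfsg.Spor.Fi22.c, by simp, rfl⟩
      · exact ⟨Cfsg.Spor.Fi22.d, by simp, rfl⟩
      · exact ⟨Cfsg.Spor.Fi22.e, by simp, rfl⟩
      · exact ⟨Cfsg.Spor.Fi22.f, by simp, rfl⟩
      · exact ⟨Cfsg.Spor.Fi22.g, by simp, rfl⟩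
      · exact ⟨Cfsg.Spor.Fi22.h, by simp, rfl⟩
      · exact ⟨Cfsg.Spor.Fi22.i, by simp, rfl⟩
  · exact Cfsg.Agent.S1685.result

end Cfsg.Agent.S1686
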