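import Cfsg.Statements.S1688
import Cfsg.Agent.Lib.FischerPresented.Transport

set_option autoImplicit false
open Cfsg

namespace Cfsg.Agent.S1688

/-- In the presented Fischer group Fi₂₃, the subgroup generated by the images of a, …, i is a non-split double cover of the presented Fischer group Fi₂₂. -/
theorem result : Cfsg.IsNonsplitDoubleCover (((Subgroup.closure ({Cfsg.Spor.Fi23.a, Cfsg.Spor.Fi23.b, Cfsg.Spor.Fi23.c, Cfsg.Spor.Fi23.d, Cfsg.Spor.Fi23.e, Cfsg.Spor.Fi23.f, Cfsg.Spor.Fi23.g, Cfsg.Spor.Fi23.h, Cfsg.Spor.Fi23.i} : Set (FreeGroup Cfsg.Spor.Fi23.Gen))).map (PresentedGroup.mk (Cfsg.Spor.coxRelators Cfsg.Spor.Fi23.edges ∪ {r | r ∈ Cfsg.Spor.Fi23.extra})))) Cfsg.Spor.Fi22 := by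
  have h : (Cfsg.Agent.FischerPresented.Fi23.K : Subgroup (Cfsg.Agent.CosetCert.Setup.G
      Cfsg.Agent.CosetData.Fi23A.setup)) = (((Subgroup.closure ({Cfsg.Spor.Fi23.a, Cfsg.Spor.Fi23.b, Cfsg.Spor.Fi23.c, Cfsg.Spor.Fi23.d, Cfsg.Spor.Fi23.e, Cfsg.Spor.Fi23.f, Cfsg.Spor.Fi23.g, Cfsg.Spor.Fi23.h, Cfsg.Spor.Fi23.i} : Set (FreeGroup Cfsg.Spor.Fi23.Gen))).map (PresentedGroup.mk (Cfsg.Spor.coxRelators Cfsg.Spor.Fi23.edges ∪ {r | r ∈ Cfsg.Spor.Fi23.extra})))) := ?_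
  · exact Cfsg.Agent.FischerPresented.isNonsplitDoubleCover_congr
      (H := ↥Cfsg.Agent.FischerPresented.Fi23.K) (K := Cfsg.Agent.CosetCert.Setup.G
      Cfsg.Agent.CosetData.Fi22B.setup) (MulEquiv.subgroupCongr h)
      Cfsg.Agent.FischerPresented.Fi23.isNonsplitDoubleCover
  rw [MonoidHom.map_closure]
  refine congrArg Subgroup.closure (Set.ext fun g => ⟨?_, ?_⟩)
  · rintro ⟨x, hx, rfl⟩
    change x < 9 at hx
    interval_cases x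
    · exact ⟨Cfsg.Spor.Fi23.a, by simp, rfl⟩
    · exact ⟨Cfsg.Spor.Fi23.b, by simp, rfl⟩
    · exact ⟨Cfsg.Spor.Fi23.c, by simp, rfl⟩
    · exact ⟨Cfsg.Spor.Fi23.d, by simp, rfl⟩
    · exact ⟨Cfsg.Spor.Fi23.e, by simp, rfl⟩
    · exact ⟨Cfsg.Spor.Fi23.f, by simp, rfl⟩
    · exact ⟨Cfsg.Spor.Fi23.g, by simp, rfl⟩
    · exact ⟨Cfsg.Spor.Fi23.h, by simp, rfl⟩
    · exact ⟨Cfsg.Spor.Fi23.i, by simp, rfl⟩
  · rintro ⟨r, hr, rfl⟩
    simp only [Set.mem_insert_iff, Set.mem_singleton_iff] at hr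
    rcases hr with rfl | rfl | rfl | rfl | rfl | rfl | rfl | rfl | rfl
    · exact ⟨0, by norm_num, rfl⟩
    · exact ⟨1, by norm_num, rfl⟩
    · exact ⟨2, by norm_num, rfl⟩
    · exact ⟨3, by norm_num, rfl⟩
    · exact ⟨4, by norm_num, rfl⟩
    · exact ⟨5, by norm_num, rfl⟩
    · exact ⟨6, by norm_num, rfl⟩
    · exact ⟨7, by norm_num, rfl⟩
    · exact ⟨8, by norm_num, rfl⟩

end Cfsg.Agent.S1688
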