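import Cfsg.Statements.S1690
import Cfsg.Agent.Lib.Fi24Pres.Core
-- import your own Cfsg.Agent.* helpers here

set_option autoImplicit false
open Cfsg

namespace Cfsg.Agent.S1690

open Cfsg.Agent.Fi24Pres in
theorem map_eq {S : Set (FreeGroup Cfsg.Spor.Fi24.Gen)}
    (hS : S = (fun x => FreeGroup.of (gi x)) '' {x | x < 11}) :
    (Subgroup.closure S).map (PresentedGroup.mk
      (Cfsg.Spor.coxRelators Cfsg.Spor.Fi24.edges ∪ {r | r ∈ Cfsg.Spor.Fi24.extra})) = HH := by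
  subst hS
  rw [MonoidHom.map_closure, ← Set.image_comp]
  rfl

/-- In the presented group Fi₂₄ = Fi₂₄′:2, the subgroup generated by the images of a, b, c, d, e, f, g, h, i, j and l (every generator but k) has index 306936. -/
theorem result : (((Subgroup.closure ({Cfsg.Spor.Fi24.a, Cfsg.Spor.Fi24.b, Cfsg.Spor.Fi24.c, Cfsg.Spor.Fi24.d, Cfsg.Spor.Fi24.e, Cfsg.Spor.Fi24.f, Cfsg.Spor.Fi24.g, Cfsg.Spor.Fi24.h, Cfsg.Spor.Fi24.i, Cfsg.Spor.Fi24.j, Cfsg.Spor.Fi24.l} : Set (FreeGroup Cfsg.Spor.Fi24.Gen))).map (PresentedGroup.mk (Cfsg.Spor.coxRelators Cfsg.Spor.Fi24.edges ∪ {r | r ∈ Cfsg.Spor.Fi24.extra})))).index = 306936 := by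
  rw [map_eq]
  · exact Cfsg.Agent.Fi24Pres.index_HH
  ext r
  constructor
  · intro h
    simp only [Set.mem_insert_iff, Set.mem_singleton_iff] at h
    rcases h with rfl | rfl | rfl | rfl | rfl | rfl | rfl | rfl | rfl | rfl | rfl
    exacts [⟨0, by simp, rfl⟩, ⟨1, by simp, rfl⟩, ⟨2, by simp, rfl⟩, ⟨3, by simp, rfl⟩, ⟨4, by simp, rfl⟩,
      ⟨5, by simp, rfl⟩, ⟨6, by simp, rfl⟩, ⟨7, by simp, rfl⟩, ⟨8, by simp, rfl⟩, ⟨9, by simp, rfl⟩,
      ⟨10, by simp, rfl⟩]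
  · rintro ⟨x, hx, rfl⟩
    have : x < 11 := hx
    interval_cases x <;> simp [Cfsg.Agent.Fi24Pres.gi]

end Cfsg.Agent.S1690
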