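import Cfsg.Statements.S1691


set_option autoImplicit false
open Cfsg

namespace Cfsg.Agent.S1691

open Cfsg.Spor

/-- every generator goes to 1 in Z/2 -/
def parityGen : Cfsg.Spor.Fi24.Gen → Multiplicative (ZMod 2) := fun _ => Multiplicative.ofAdd 1

theorem two_mul_zero (x : Multiplicative (ZMod 2)) : x * x = 1 := by
  revert x; decide

theorem two_cases : ∀ m : Multiplicative (ZMod 2), m = 1 ∨ m = Multiplicative.ofAdd 1 := by decide

theorem parity_rel (r : FreeGroup Cfsg.Spor.Fi24.Gen)
    (hr : r ∈ coxRelators Cfsg.Spor.Fi24.edges ∪ {r | r ∈ Cfsg.Spor.Fi24.extra}) :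
    FreeGroup.lift parityGen r = 1 := by
  rcases hr with ⟨x, _, y, _, rfl⟩ | hr
  · simp [parityGen, two_mul_zero]
  · simp only [Set.mem_ofPred_eq, Fi24.extra, List.mem_cons, List.not_mem_nil, or_false] at hr
    rcases hr with rfl | rfl <;> simp [parityGen] <;> decide

/-- the parity homomorphism -/
def parity : Cfsg.Spor.Fi24 →* Multiplicative (ZMod 2) :=
  PresentedGroup.toGroup parity_rel

theorem node_rel (x y : Cfsg.Spor.Fi24.Gen) (hx : x ∈ coxNodes Cfsg.Spor.Fi24.edges)
    (hy : y ∈ coxNodes Cfsg.Spor.Fi24.edges) :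
    ((PresentedGroup.of x : Cfsg.Spor.Fi24) * PresentedGroup.of y) ^ coxLabel Cfsg.Spor.Fi24.edges x y = 1 := by
  have h := PresentedGroup.one_of_mem
    (rels := coxRelators Cfsg.Spor.Fi24.edges ∪ {r | r ∈ Cfsg.Spor.Fi24.extra})
    (x := (FreeGroup.of x * FreeGroup.of y) ^ coxLabel Cfsg.Spor.Fi24.edges x y)
    (Or.inl ⟨x, hx, y, hy, rfl⟩)
  rw [map_pow, map_mul] at h
  exact h

theorem mem_nodes (x : Cfsg.Spor.Fi24.Gen) : x ∈ coxNodes Cfsg.Spor.Fi24.edges := by
  cases x <;> decide

/-- image in the abelianisation -/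
def ab (x : Cfsg.Spor.Fi24.Gen) : Abelianization Cfsg.Spor.Fi24 :=
  Abelianization.of (PresentedGroup.of x : Cfsg.Spor.Fi24)

theorem ab_rel (x y : Cfsg.Spor.Fi24.Gen) : (ab x * ab y) ^ coxLabel Cfsg.Spor.Fi24.edges x y = 1 := by
  have h := congrArg Abelianization.of (node_rel x y (mem_nodes x) (mem_nodes y))
  rw [map_pow, map_mul, map_one] at h
  exact h

theorem ab_sq (x : Cfsg.Spor.Fi24.Gen) : ab x * ab x = 1 := by
  have h := ab_rel x x
  simpa [coxLabel] using h

theorem ab_adj {x y : Cfsg.Spor.Fi24.Gen} (h : coxLabel Cfsg.Spor.Fi24.edges x y = 3) : ab x = ab y := by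
  have h3 := ab_rel x y
  rw [h] at h3
  have hx := ab_sq x
  have hy := ab_sq y
  have h2 : (ab x * ab y) ^ 2 = 1 := by rw [mul_pow, sq, sq, hx, hy, one_mul]
  have h1 : ab x * ab y = 1 := by
    have := pow_succ (ab x * ab y) 2
    rw [h3, h2, one_mul] at this
    exact this.symm
  calc ab x = ab x * (ab y * ab y) := by rw [hy, mul_one]
    _ = ab y := by rw [← mul_assoc, h1, one_mul]

theorem ab_const (x : Cfsg.Spor.Fi24.Gen) : ab x = ab .d := by
  have hc : ab .c = ab .d := ab_adj (by decide)
  have hb : ab .b = ab .c := ab_adj (by decide)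
  have ha : ab .a = ab .b := ab_adj (by decide)
  have hk : ab .k = ab .a := ab_adj (by decide)
  have hl : ab .l = ab .k := ab_adj (by decide)
  have he : ab .e = ab .d := ab_adj (by decide)
  have hf : ab .f = ab .e := ab_adj (by decide)
  have hg : ab .g = ab .f := ab_adj (by decide)
  have hj : ab .j = ab .g := ab_adj (by decide)
  have hh : ab .h = ab .d := ab_adj (by decide)
  have hi : ab .i = ab .h := ab_adj (by decide)
  cases x <;> simp [hc, hb, ha, hk, hl, he, hf, hg, hj, hh, hi]

/-- section of parity -/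
noncomputable def sect : Multiplicative (ZMod 2) →* Abelianization Cfsg.Spor.Fi24 where
  toFun m := if m = 1 then 1 else ab .d
  map_one' := by simp
  map_mul' m n := by
    rcases two_cases m with rfl | rfl <;> rcases two_cases n with rfl | rfl <;> simp [two_mul_zero, ab_sq]

theorem ker_parity : parity.ker = commutator Cfsg.Spor.Fi24 := by
  refine le_antisymm ?_ (Abelianization.commutator_subset_ker parity)
  intro g hg
  have h : sect.comp parity = Abelianization.of := by
    apply PresentedGroup.ext
    intro x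
    show sect (parity (PresentedGroup.of x)) = ab x
    rw [parity, PresentedGroup.toGroup.of, ab_const x]
    simp [parityGen, sect]
  have h2 : Abelianization.of g = 1 := by
    rw [← h]; simp [MonoidHom.mem_ker.1 hg]
  rwa [← MonoidHom.mem_ker, Abelianization.ker_of] at h2


/-- The commutator subgroup of the presented group Fi₂₄ has index 2 (the presented group is Fi₂₄′:2 with Fi₂₄′ its derived subgroup). -/
theorem result : (commutator Cfsg.Spor.Fi24).index = 2 := by
  have hs : Function.Surjective parity := by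
    intro m
    rcases two_cases m with rfl | rfl
    · exact ⟨1, map_one _⟩
    · exact ⟨PresentedGroup.of .d, by simp [parity, parityGen]⟩
  rw [← ker_parity, Subgroup.index_ker, MonoidHom.range_eq_top.2 hs, Subgroup.card_top]
  simp

end Cfsg.Agent.S1691
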