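import Cfsg.Statements.S1717
import Cfsg.Agent.Lib.Classical.SL


set_option autoImplicit false
open Cfsg

namespace Cfsg.Agent.S1717

open Matrix

/-- the rank of an index in the order 0, 2, 3, 4, 1 -/
def rk : Fin 5 → Fin 5 := ![0, 4, 1, 2, 3]

/-- the order 0, 2, 3, 4, 1 -/
def ord : Fin 5 ≃ Fin 5 :=
  { toFun := ![0, 2, 3, 4, 1], invFun := rk, left_inv := by decide, right_inv := by decide }

/-- membership predicate of the unipotent group -/
def IsUni (g : Matrix (Fin 5) (Fin 5) (ZMod 2)) : Prop :=
  (∀ i, g i i = 1) ∧ ∀ i j, rk j < rk i → g i j = 0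

theorem isUni_one : IsUni 1 :=
  ⟨fun _ => one_apply_eq _, fun i j h => one_apply_ne (fun e => (lt_irrefl _) (e ▸ h))⟩

theorem isUni_mul {g h : Matrix (Fin 5) (Fin 5) (ZMod 2)} (hg : IsUni g) (hh : IsUni h) : IsUni (g * h) := by
  constructor
  · intro i
    rw [mul_apply, Finset.sum_eq_single i]
    · rw [hg.1, hh.1, one_mul]
    · intro k _ hk
      rcases lt_trichotomy (rk k) (rk i) with h1 | h1 | h1
      · rw [hg.2 i k h1, zero_mul]
      · exact absurd (ord.symm.injective h1) hk
      · rw [hh.2 k i h1, mul_zero]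
    · simp
  · intro i j hij
    rw [mul_apply]
    refine Finset.sum_eq_zero fun k _ => ?_
    rcases lt_or_ge (rk k) (rk i) with h1 | h1
    · rw [hg.2 i k h1, zero_mul]
    · rw [hh.2 k j (lt_of_lt_of_le hij h1), mul_zero]

theorem isUni_det {g : Matrix (Fin 5) (Fin 5) (ZMod 2)} (hg : IsUni g) : g.det = 1 := by
  rw [← det_submatrix_equiv_self ord g, det_of_upperTriangular]
  · exact Finset.prod_eq_one fun i _ => hg.1 _
  · intro i j hij
    refine hg.2 _ _ ?_
    show ord.symm (ord j) < ord.symm (ord i)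
    simpa using hij

/-- the unipotent group as a subgroup -/
def uni : Subgroup (Matrix.SpecialLinearGroup (Fin 5) (ZMod 2)) :=
  let S : Submonoid (Matrix.SpecialLinearGroup (Fin 5) (ZMod 2)) :=
    { carrier := {g | IsUni (g : Matrix (Fin 5) (Fin 5) (ZMod 2))}
      one_mem' := isUni_one
      mul_mem' := fun ha hb => by
        show IsUni _
        rw [Matrix.SpecialLinearGroup.coe_mul]; exact isUni_mul ha hb }
  { S with
    inv_mem' := fun {x} hx => by
      have h := pow_orderOf_eq_one x
      have : x⁻¹ = x ^ (orderOf x - 1) := by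
        rw [inv_eq_iff_mul_eq_one, ← pow_succ', Nat.sub_add_cancel (orderOf_pos x), h]
      rw [this]
      exact Submonoid.pow_mem S hx _ }

theorem mem_uni {g : Matrix.SpecialLinearGroup (Fin 5) (ZMod 2)} :
    g ∈ uni ↔ IsUni (g : Matrix (Fin 5) (Fin 5) (ZMod 2)) := Iff.rfl

theorem card_uni : Nat.card uni = 2 ^ 10 := by
  classical
  let P := {p : Fin 5 × Fin 5 // rk p.1 < rk p.2}
  let mat : (P → ZMod 2) → Matrix (Fin 5) (Fin 5) (ZMod 2) := fun f i j =>
    if h : rk i < rk j then f ⟨(i, j), h⟩ else if i = j then 1 else 0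
  have hmat : ∀ f, IsUni (mat f) := fun f =>
    ⟨fun i => by simp [mat], fun i j h => by
      have hne : i ≠ j := fun e => (lt_irrefl _) (e ▸ h)
      simp [mat, not_lt.2 h.le, hne]⟩
  let e : uni ≃ (P → ZMod 2) :=
    { toFun := fun g p => (g.1 : Matrix (Fin 5) (Fin 5) (ZMod 2)) p.1.1 p.1.2
      invFun := fun f => ⟨⟨mat f, isUni_det (hmat f)⟩, hmat f⟩
      left_inv := by
        rintro ⟨⟨g, hd⟩, hg⟩
        refine Subtype.ext (Subtype.ext ?_)
        ext i j
        show mat (fun p => g p.1.1 p.1.2) i j = g i j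
        rcases lt_trichotomy (rk i) (rk j) with h | h | h
        · simp [mat, h]
        · obtain rfl := ord.symm.injective h
          simp [mat, hg.1 i]; exact (hg.1 i).symm
        · have hne : i ≠ j := fun e => (lt_irrefl _) (e ▸ h)
          simp [mat, not_lt.2 h.le, hne]
          exact (hg.2 i j h).symm
      right_inv := by
        intro f; funext p
        show mat f p.1.1 p.1.2 = f p
        simp [mat, p.2] }
  rw [Nat.card_congr e, Nat.card_fun, Nat.card_zmod, Nat.card_eq_fintype_card]
  rfl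

theorem center_uni {g : Matrix.SpecialLinearGroup (Fin 5) (ZMod 2)} (hg : g ∈ uni)
    (hc : ∀ h ∈ uni, h * g = g * h) (i j : Fin 5) (hij : i ≠ j) (hne : ¬ (i = 0 ∧ j = 1)) :
    (g : Matrix (Fin 5) (Fin 5) (ZMod 2)) i j = 0 := by
  rcases lt_trichotomy (rk i) (rk j) with h | h | h
  · have key : ∀ a b : Fin 5, rk a < rk b → ∀ x y,
        (Matrix.single a b (1 : ZMod 2) * (g : Matrix (Fin 5) (Fin 5) (ZMod 2)) :
            Matrix (Fin 5) (Fin 5) (ZMod 2)) x y =
          ((g : Matrix (Fin 5) (Fin 5) (ZMod 2)) * Matrix.single a b (1 : ZMod 2) :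
            Matrix (Fin 5) (Fin 5) (ZMod 2)) x y := by
      intro a b hab x y
      have hab' : a ≠ b := fun e => (lt_irrefl _) (e ▸ hab)
      have hu : IsUni (transvection a b (1 : ZMod 2)) := by
        refine ⟨fun k => ?_, fun k l hkl => ?_⟩
        · rw [transvection, Matrix.add_apply, one_apply_eq, single_apply, if_neg, add_zero]
          rintro ⟨e1, e2⟩
          exact hab' (e1.trans e2.symm)
        · have hkl' : k ≠ l := fun e => (lt_irrefl _) (e ▸ hkl)
          rw [transvection, Matrix.add_apply, one_apply_ne hkl', single_apply, if_neg, add_zero]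
          rintro ⟨e1, e2⟩
          exact (lt_asymm hab) (e1 ▸ e2 ▸ hkl)
      have h := congrArg Subtype.val (hc (⟨_, isUni_det hu⟩ : Matrix.SpecialLinearGroup (Fin 5) (ZMod 2)) hu)
      change transvection a b (1 : ZMod 2) * (g : Matrix (Fin 5) (Fin 5) (ZMod 2)) =
        (g : Matrix (Fin 5) (Fin 5) (ZMod 2)) * transvection a b (1 : ZMod 2) at h
      simp only [transvection, add_mul, mul_add, one_mul, mul_one, add_right_inj] at h
      exact congrFun (congrFun h x) y
    by_cases hj : rk j = 4
    · have hi : rk i ≠ 0 := fun e => hne ⟨ord.symm.injective (e.trans rfl), ord.symm.injective (hj.trans rfl)⟩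
      have hpos : rk 0 < rk i := lt_of_le_of_ne (Fin.zero_le _) (fun e => hi e.symm)
      have := key 0 i hpos 0 j
      rw [single_mul_apply_same, mul_single_apply_of_ne] at this
      · simpa using this
      · exact hij.symm
    · have hlt : rk j < rk 1 := lt_of_le_of_ne (Fin.le_last _) hj
      have := key j 1 hlt i 1
      rw [mul_single_apply_same, single_mul_apply_of_ne] at this
      · simpa using this.symm
      · exact hij
  · exact absurd (ord.symm.injective h) hij
  · exact hg.2 i j h


theorem zmod_two_cases : ∀ x : ZMod 2, x = 0 ∨ x = 1 := by decide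


/-- Let G be a finite group with an involution z whose centraliser C is isomorphic to the centraliser of a transvection of SL(5, 2). Then a Sylow 2-subgroup of C, viewed in G, is a Sylow 2-subgroup of G (its index in G is odd). -/
theorem result {G : Type*} [Group G] [Finite G] (s : Matrix.SpecialLinearGroup (Fin 5) (ZMod 2)) (hs : (s : Matrix (Fin 5) (Fin 5) (ZMod 2)) = Matrix.transvection 0 1 1) (z : G) (hz : orderOf z = 2) (e : (Subgroup.centralizer ({z} : Set G)) ≃* Subgroup.centralizer ({s} : Set (Matrix.SpecialLinearGroup (Fin 5) (ZMod 2)))) (T : Sylow 2 (Subgroup.centralizer ({z} : Set G))) : ¬ 2 ∣ ((T : Subgroup (Subgroup.centralizer ({z} : Set G))).map (Subgroup.subtype (Subgroup.centralizer ({z} : Set G)))).index := by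
  haveI : Fact (Nat.Prime 2) := ⟨Nat.prime_two⟩
  set CS := Subgroup.centralizer ({s} : Set (Matrix.SpecialLinearGroup (Fin 5) (ZMod 2))) with hCS
  have hrank : rk 0 < rk 1 := by decide
  have hsU : s ∈ uni := by
    rw [mem_uni, hs]
    refine ⟨fun k => ?_, fun k l hkl => ?_⟩
    · rw [Matrix.transvection, Matrix.add_apply, Matrix.one_apply_eq, Matrix.single_apply, if_neg, add_zero]
      rintro ⟨e1, e2⟩
      exact absurd (e1.trans e2.symm) (by decide)
    · have hkl' : k ≠ l := fun e => (lt_irrefl _) (e ▸ hkl)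
      rw [Matrix.transvection, Matrix.add_apply, Matrix.one_apply_ne hkl', Matrix.single_apply, if_neg, add_zero]
      rintro ⟨e1, e2⟩
      exact (lt_asymm hrank) (e1 ▸ e2 ▸ hkl)
  have hUC : uni ≤ CS := by
    intro g hg
    rw [hCS, Subgroup.mem_centralizer_singleton_iff]
    refine Subtype.ext ?_
    rw [Matrix.SpecialLinearGroup.coe_mul, Matrix.SpecialLinearGroup.coe_mul, hs]
    simp only [Matrix.transvection, add_mul, mul_add, one_mul, mul_one, add_right_inj]
    ext x y
    by_cases hx : x = 0 <;> by_cases hy : y = 1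
    · subst hx hy; simp [hg.1 0, hg.1 1]
    · subst hx
      rw [Matrix.mul_single_apply_of_ne (hbj := hy), Matrix.single_mul_apply_same, one_mul]
      exact (hg.2 1 y (lt_of_le_of_ne (Fin.le_last _) (fun e => hy (ord.symm.injective (e.trans rfl))))).symm
    · subst hy
      rw [Matrix.mul_single_apply_same, Matrix.single_mul_apply_of_ne (h := hx), mul_one]
      exact hg.2 x 0 (lt_of_le_of_ne (Fin.zero_le _) (fun e => hx (ord.symm.injective e.symm)))
    · rw [Matrix.mul_single_apply_of_ne (hbj := hy), Matrix.single_mul_apply_of_ne (h := hx)]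
  -- 2-part of the order
  have hbound : ∀ n, 2 ^ n ∣ Nat.card CS → n ≤ 10 := by
    intro n hn
    have h1 : Nat.card (Matrix.SpecialLinearGroup (Fin 5) (ZMod 2)) = 9999360 := by
      have h := ClassicalSL.card_sl_mul (ι := Fin 5) (F := ZMod 2)
      rw [ClassicalSL.card_gl_fin (q := 2) (Nat.card_zmod 2), Nat.card_zmod] at h
      rw [show (∏ i : Fin 5, (2 ^ 5 - 2 ^ (i : ℕ))) = 9999360 by decide, show (2 : ℕ) - 1 = 1 from rfl,
        one_mul] at h
      exact h
    have h2 := hn.trans (Subgroup.card_subgroup_dvd_card CS)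
    rw [h1] at h2
    by_contra hn'
    exact absurd ((pow_dvd_pow 2 (show 11 ≤ n by omega)).trans h2) (by norm_num)
  -- transfer the unipotent group to (Subgroup.centralizer ({z} : Set G))
  set U' : Subgroup (Subgroup.centralizer ({z} : Set G)) := (uni.subgroupOf CS).map e.symm.toMonoidHom with hU'
  have hU'c : Nat.card U' = 2 ^ 10 := by
    rw [hU', ← Nat.card_congr (Subgroup.equivMapOfInjective _ _ e.symm.injective).toEquiv,
      Nat.card_congr (Subgroup.subgroupOfEquivOfLe hUC).toEquiv, card_uni]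
  have hU'p : IsPGroup 2 U' := IsPGroup.iff_card.2 ⟨10, hU'c⟩
  obtain ⟨S0, hS0⟩ := hU'p.exists_le_sylow
  have hS0c : Nat.card S0 ≤ 2 ^ 10 := by
    obtain ⟨n, hn⟩ := IsPGroup.iff_card.1 S0.2
    refine hn.trans_le (Nat.pow_le_pow_right (by norm_num) (hbound n ?_))
    rw [← hn, ← Nat.card_congr e.toEquiv]
    exact Subgroup.card_subgroup_dvd_card _
  have hS0eq : U' = (S0 : Subgroup (Subgroup.centralizer ({z} : Set G))) := Subgroup.eq_of_le_of_card_ge hS0 (hU'c ▸ hS0c)
  obtain ⟨c, hc⟩ := MulAction.exists_smul_eq (Subgroup.centralizer ({z} : Set G)) S0 T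
  set zC : (Subgroup.centralizer ({z} : Set G)) := ⟨z, Subgroup.mem_centralizer_singleton_iff.2 rfl⟩ with hzC
  have hzcen : ∀ g : (Subgroup.centralizer ({z} : Set G)), g * zC = zC * g := fun g => Subtype.ext (Subgroup.mem_centralizer_singleton_iff.1 g.2)
  have hzT : zC ∈ (T : Subgroup (Subgroup.centralizer ({z} : Set G))) := by
    have hzp : IsPGroup 2 (Subgroup.zpowers zC) :=
      IsPGroup.iff_card.2 ⟨1, by rw [Nat.card_zpowers, hzC, Subgroup.orderOf_mk, hz, pow_one]⟩
    have hn : Subgroup.zpowers zC ≤ Subgroup.normalizer ((T : Subgroup (Subgroup.centralizer ({z} : Set G))) : Set (Subgroup.centralizer ({z} : Set G))) := by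
      rw [Subgroup.zpowers_le, Subgroup.mem_normalizer_iff]
      intro x
      rw [← hzcen x, mul_inv_cancel_right]
    have := T.3 (hzp.to_sup_of_normal_right' T.2 hn) le_sup_right
    exact this ▸ Subgroup.mem_sup_left (Subgroup.mem_zpowers zC)
  -- the centre of T has at most two elements
  have hcenU : ∀ a ∈ uni, (∀ h ∈ uni, h * a = a * h) → a = 1 ∨ a = s := by
    intro a ha hac
    have hent := zmod_two_cases
    rcases hent ((a : Matrix (Fin 5) (Fin 5) (ZMod 2)) 0 1) with h | h
    · left
      refine Subtype.ext (Matrix.ext fun i j => ?_)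
      rw [Matrix.SpecialLinearGroup.coe_one]
      by_cases hij : i = j
      · subst hij; rw [ha.1, Matrix.one_apply_eq]
      · rw [Matrix.one_apply_ne hij]
        by_cases hne : i = 0 ∧ j = 1
        · rw [hne.1, hne.2, h]
        · exact center_uni ha hac i j hij hne
    · right
      refine Subtype.ext (Matrix.ext fun i j => ?_)
      rw [hs, Matrix.transvection, Matrix.add_apply, Matrix.single_apply]
      by_cases hij : i = j
      · subst hij; rw [ha.1, Matrix.one_apply_eq, if_neg (fun e => absurd (e.1.trans e.2.symm) (by decide)), add_zero]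
      · rw [Matrix.one_apply_ne hij, zero_add]
        by_cases hne : i = 0 ∧ j = 1
        · rw [if_pos ⟨hne.1.symm, hne.2.symm⟩, hne.1, hne.2, h]
        · rw [if_neg (fun e => hne ⟨e.1.symm, e.2.symm⟩)]; exact center_uni ha hac i j hij hne
  have hcenT : ∀ a ∈ (T : Subgroup (Subgroup.centralizer ({z} : Set G))), (∀ h ∈ (T : Subgroup (Subgroup.centralizer ({z} : Set G))), h * a = a * h) → a = 1 ∨ a = zC := by
    have hzC1 : zC ≠ 1 := fun h => by
      have := congrArg Subtype.val h
      change z = 1 at this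
      rw [this, orderOf_one] at hz
      omega
    suffices h : ∀ a b : (Subgroup.centralizer ({z} : Set G)), a ∈ (T : Subgroup (Subgroup.centralizer ({z} : Set G))) → b ∈ (T : Subgroup (Subgroup.centralizer ({z} : Set G))) →
        (∀ h ∈ (T : Subgroup (Subgroup.centralizer ({z} : Set G))), h * a = a * h) → (∀ h ∈ (T : Subgroup (Subgroup.centralizer ({z} : Set G))), h * b = b * h) →
        a ≠ 1 → b ≠ 1 → a = b by
      intro a ha hac
      rcases eq_or_ne a 1 with h1 | h1
      · exact Or.inl h1
      · exact Or.inr (h a zC ha hzT hac (fun g _ => hzcen g) h1 hzC1)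
    have key : ∀ a : (Subgroup.centralizer ({z} : Set G)), a ∈ (T : Subgroup (Subgroup.centralizer ({z} : Set G))) → (∀ h ∈ (T : Subgroup (Subgroup.centralizer ({z} : Set G))), h * a = a * h) → a ≠ 1 →
        ((e (c⁻¹ * a * c) : CS) : Matrix.SpecialLinearGroup (Fin 5) (ZMod 2)) = s := by
      intro a ha hac ha1
      have hconj : ∀ y : (Subgroup.centralizer ({z} : Set G)), y ∈ (T : Subgroup (Subgroup.centralizer ({z} : Set G))) ↔ c⁻¹ * y * c ∈ U' := by
        intro y
        rw [← hc, Sylow.coe_subgroup_smul, Subgroup.mem_pointwise_smul_iff_inv_smul_mem, hS0eq]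
        simp
      have hmemU : ∀ y : (Subgroup.centralizer ({z} : Set G)), y ∈ U' ↔ ((e y : CS) : Matrix.SpecialLinearGroup (Fin 5) (ZMod 2)) ∈ uni := by
        intro y
        rw [hU', Subgroup.mem_map]
        constructor
        · rintro ⟨x, hx, rfl⟩; simpa [Subgroup.mem_subgroupOf] using hx
        · intro hy; exact ⟨e y, Subgroup.mem_subgroupOf.2 hy, by simp⟩
      have haU := (hmemU _).1 ((hconj a).1 ha)
      refine (hcenU _ haU ?_).resolve_left ?_
      · intro h hh
        obtain ⟨y, hy⟩ := e.surjective ⟨h, hUC hh⟩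
        have hyT : c * y * c⁻¹ ∈ (T : Subgroup (Subgroup.centralizer ({z} : Set G))) := by
          rw [hconj, show c⁻¹ * (c * y * c⁻¹) * c = y by group, hmemU, hy]; exact hh
        have h2 := hac _ hyT
        have h3 : y * (c⁻¹ * a * c) = (c⁻¹ * a * c) * y := by
          calc y * (c⁻¹ * a * c) = c⁻¹ * ((c * y * c⁻¹) * a) * c := by group
            _ = _ := by rw [h2]; group
        have h4 := congrArg (fun x => ((e x : CS) : Matrix.SpecialLinearGroup (Fin 5) (ZMod 2))) h3
        simpa [hy] using h4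
      · intro h
        apply ha1
        have h' : e (c⁻¹ * a * c) = e 1 := Subtype.ext (by rw [h, map_one]; rfl)
        have h'' := e.injective h'
        calc a = c * (c⁻¹ * a * c) * c⁻¹ := by group
          _ = 1 := by rw [h'']; group
    intro a b ha hb hac hbc ha1 hb1
    have h := e.injective (Subtype.ext ((key a ha hac ha1).trans (key b hb hbc hb1).symm))
    exact mul_left_cancel (mul_right_cancel h)
  -- T is Sylow in G
  set TG : Subgroup G := (T : Subgroup (Subgroup.centralizer ({z} : Set G))).map (Subgroup.centralizer ({z} : Set G)).subtype with hTG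
  have hTGp : IsPGroup 2 TG := T.2.map _
  obtain ⟨R, hR⟩ := hTGp.exists_le_sylow
  suffices hRT : (R : Subgroup G) = TG by rw [← hRT]; exact R.not_dvd_index
  by_contra hne
  haveI : Group.IsNilpotent ↥(R : Subgroup G) := R.2.isNilpotent
  have hne' : TG.subgroupOf (R : Subgroup G) ≠ ⊤ := fun h => hne (le_antisymm (Subgroup.subgroupOf_eq_top.1 h) hR)
  obtain ⟨x, hxN, hxT⟩ := SetLike.exists_of_lt
    ((Group.normalizerCondition_of_isNilpotent (G := ↥(R : Subgroup G))) _ (lt_top_iff_ne_top.2 hne'))
  have hxN' : ∀ y ∈ TG, (x : G) * y * (x : G)⁻¹ ∈ TG ∧ (x : G)⁻¹ * y * (x : G) ∈ TG := by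
    intro y hy
    constructor
    · exact Subgroup.mem_subgroupOf.1
        ((Subgroup.mem_normalizer_iff.1 hxN ⟨y, hR hy⟩).1 (Subgroup.mem_subgroupOf.2 hy))
    · exact Subgroup.mem_subgroupOf.1
        ((Subgroup.mem_normalizer_iff''.1 hxN ⟨y, hR hy⟩).1 (Subgroup.mem_subgroupOf.2 hy))
  have hzTG : z ∈ TG := ⟨zC, hzT, rfl⟩
  have hxC : (x : G) ∈ (Subgroup.centralizer ({z} : Set G)) := by
    obtain ⟨w, hw, hwe⟩ := (hxN' z hzTG).1
    change (w : G) = _ at hwe
    have hwc : ∀ h ∈ (T : Subgroup (Subgroup.centralizer ({z} : Set G))), h * w = w * h := by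
      intro h hh
      obtain ⟨h', hh', hhe⟩ := (hxN' h ⟨h, hh, rfl⟩).2
      change (h' : G) = _ at hhe
      apply Subtype.ext
      show (h : G) * w = w * h
      have h2 := Subgroup.mem_centralizer_singleton_iff.1 h'.2
      rw [hhe] at h2
      rw [hwe]
      calc (h : G) * ((x : G) * z * (x : G)⁻¹) = (x : G) * (((x : G)⁻¹ * h * x) * z) * (x : G)⁻¹ := by group
        _ = _ := by rw [h2]; group
    rcases hcenT w hw hwc with h | h
    · exfalso
      rw [h] at hwe
      have h1 : z = 1 := by
        calc z = (x : G)⁻¹ * ((x : G) * z * (x : G)⁻¹) * x := by group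
          _ = 1 := by rw [← hwe]; simp
      rw [h1, orderOf_one] at hz
      omega
    · rw [h] at hwe
      exact Subgroup.mem_centralizer_singleton_iff.2 (mul_inv_eq_iff_eq_mul.1 hwe.symm)
  have hsub : (T : Subgroup (Subgroup.centralizer ({z} : Set G))) ≤ (R : Subgroup G).subgroupOf (Subgroup.centralizer ({z} : Set G)) := fun y hy =>
    Subgroup.mem_subgroupOf.2 (hR ⟨y, hy, rfl⟩)
  have heq := T.3 R.2.comap_subtype hsub
  have hxm : (⟨x, hxC⟩ : Subgroup.centralizer ({z} : Set G)) ∈
      Subgroup.comap (Subgroup.centralizer ({z} : Set G)).subtype (R : Subgroup G) := x.2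

  rw [heq] at hxm
  exact hxT (Subgroup.mem_subgroupOf.2 ⟨_, hxm, rfl⟩)

end Cfsg.Agent.S1717
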