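import Cfsg.Statements.S1723
import Cfsg.Agent.Lib.HJ.Wrap
import Cfsg.Agent.Lib.HJ.ThreeSylow
import Cfsg.Agent.Lib.Qd.Basic
-- import your own Cfsg.Agent.* helpers here

set_option autoImplicit false
open Cfsg

namespace Cfsg.Agent.S1723

/-- Sylow 3-structure of a group of Hall–Janko type (large-extraspecial hypothesis with Q of order 32, quotient Ω⁻(4, 2), z not weakly closed in Q, more than one class of involutions): a Sylow 3-subgroup P is extraspecial of order 27, its normaliser has order 216, and the elements of order 3 form exactly two conjugacy classes. -/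
theorem result {G : Type*} [Group G] [Finite G] (z : G) (hz : orderOf z = 2) (Q : Subgroup (Subgroup.centralizer ({z} : Set G))) [Q.Normal] (hF : Cfsg.generalizedFittingSubgroup (Subgroup.centralizer ({z} : Set G)) = Q) (hQ : Cfsg.IsExtraspecial 2 Q) (hcard : Nat.card Q = 2 ^ 5) (e : (Subgroup.centralizer ({z} : Set G)) ⧸ Q ≃* Cfsg.Omega (ZMod 2) (Cfsg.quadFormMinus 1 (ZMod 2) 1 1)) (hnwc : ∃ g : G, (∃ hq : g * z * g⁻¹ ∈ Subgroup.centralizer ({z} : Set G), (⟨g * z * g⁻¹, hq⟩ : Subgroup.centralizer ({z} : Set G)) ∈ Q) ∧ g * z * g⁻¹ ≠ z) (hcl : ∃ x y : G, orderOf x = 2 ∧ orderOf y = 2 ∧ ¬ IsConj x y) (P : Sylow 3 G) : Cfsg.IsExtraspecial 3 (P : Subgroup G) ∧ Nat.card P = 27 ∧ Nat.card (Subgroup.normalizer ((P : Subgroup G) : Set G)) = 216 ∧ ∃ a b : G, orderOf a = 3 ∧ orderOf b = 3 ∧ ¬ IsConj a b ∧ ∀ c : G, orderOf c = 3 → IsConj c a ∨ IsConj c b := by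
  classical
  haveI : Fact (Nat.Prime 3) := ⟨Nat.prime_three⟩
  obtain ⟨φ, S⟩ := Agent.HJ.setup_of_omega z hz Q hF hQ hcard e hnwc hcl
  obtain ⟨u, a, x, s, K, V, C⟩ := S.exists_ctx
  obtain ⟨P0, -, hE, hN⟩ := C.sylow_three
  obtain ⟨g, rfl⟩ := MulAction.exists_smul_eq G P0 P
  have hmap : ((g • P0 : Sylow 3 G) : Subgroup G) = (P0 : Subgroup G).map (MulAut.conj g).toMonoidHom := rfl
  refine ⟨?_, ?_, ?_, x, a, C.orderOf_x,
    orderOf_eq_prime C.L.a3 C.a_ne, C.x_not_a, fun c hc => C.three_classes hc⟩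
  · rw [hmap]
    exact Agent.Qd.isExtraspecial_congr
      (Subgroup.equivMapOfInjective _ _ (MulAut.conj g).injective).symm hE
  · rw [(g • P0).card_eq_multiplicity, C.factor_three]; norm_num
  · rw [hmap, ← Subgroup.map_equiv_normalizer_eq,
      Subgroup.card_map_of_injective (f := (MulAut.conj g).toMonoidHom) (MulAut.conj g).injective, hN]

end Cfsg.Agent.S1723
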