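import Cfsg.Statements.S1743
import Cfsg.Agent.Lib.G2Sylow.Fusion
import Cfsg.Agent.Lib.G2Sylow.Model

set_option autoImplicit false
open Cfsg

namespace Cfsg.Agent.S1743

/-- Let G be a finite simple group whose Sylow 2-subgroups are isomorphic to a Sylow 2-subgroup of the Chevalley group of type G₂ over a finite field of odd order, and let S be a Sylow 2-subgroup of G. Then either all involutions of G are conjugate, or S has order 64 and the involutions of G form exactly two conjugacy classes. -/
theorem result {G : Type*} [Group G] [Finite G] [IsSimpleGroup G]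
    {F : Type*} [Field F] [Fintype F] (hF : Odd (Fintype.card F)) (S : Sylow 2 G) (P : Sylow 2 ↥(Cfsg.Lie.chevG2.group F))
    (hS : Nonempty (↥(S : Subgroup G) ≃* ↥(P : Subgroup ↥(Cfsg.Lie.chevG2.group F)))) :
    (∀ x y : G, orderOf x = 2 → orderOf y = 2 → IsConj x y) ∨
      (Nat.card ↥(S : Subgroup G) = 64 ∧ ∃ x y : G, orderOf x = 2 ∧ orderOf y = 2 ∧ ¬ IsConj x y ∧
        ∀ z : G, orderOf z = 2 → IsConj z x ∨ IsConj z y) := by
  obtain ⟨e⟩ := hS
  obtain ⟨m, z, g₁, a₁, g₂, a₂, w, D⟩ := G2Sylow.exists_shape hF P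
  have D' := D.map e.symm
  have hna : ¬ IsMulCommutative G := by
    intro h
    have he := congrArg Subtype.val D'.F₁.inv
    simp only [Subgroup.coe_mul, Subgroup.coe_inv] at he
    rw [mul_comm' ((e.symm a₁ : ↥(S : Subgroup G)) : G), mul_inv_cancel_right] at he
    have h2 : (e.symm g₁) ^ 2 = 1 := Subtype.ext (by
      rw [Subgroup.coe_pow, pow_two, OneMemClass.coe_one]
      exact mul_eq_one_iff_eq_inv.2 he)
    have := Nat.le_of_dvd two_pos (orderOf_dvd_of_pow_eq_one h2)
    have := D'.F₁.ord
    have := D'.F₁.pos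
    omega
  exact D'.classes hna

end Cfsg.Agent.S1743
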