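import Cfsg.Statements.S1755
import Cfsg.Agent.Lib.Classification.Basic


set_option autoImplicit false
open Cfsg

namespace Cfsg.Agent.S1755


/-- Let G be a finite group and let z be an involution of G such that Q, the generalized Fitting subgroup of the centralizer C of z, is a 2-group of symplectic type (every characteristic abelian subgroup of Q is cyclic). Let B be a characteristic abelian subgroup of Q, viewed as a subgroup of G. Then for every g in G, the conjugate of B by g either equals B or meets B trivially. -/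
theorem result {G : Type*} [Group G] [Finite G] (z : G) (hz : orderOf z = 2) (hQ : Cfsg.IsOfSymplecticType ↥(Cfsg.generalizedFittingSubgroup ↥(Subgroup.centralizer ({z} : Set G))))
    (B : Subgroup ↥(Cfsg.generalizedFittingSubgroup ↥(Subgroup.centralizer ({z} : Set G)))) (hBc : B.Characteristic) (hBa : IsMulCommutative ↥B) (g : G) :
    ((B.map (Cfsg.generalizedFittingSubgroup ↥(Subgroup.centralizer ({z} : Set G))).subtype).map (Subgroup.centralizer ({z} : Set G)).subtype).map (MulAut.conj g).toMonoidHom =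
        (B.map (Cfsg.generalizedFittingSubgroup ↥(Subgroup.centralizer ({z} : Set G))).subtype).map (Subgroup.centralizer ({z} : Set G)).subtype ∨
      ((B.map (Cfsg.generalizedFittingSubgroup ↥(Subgroup.centralizer ({z} : Set G))).subtype).map (Subgroup.centralizer ({z} : Set G)).subtype).map (MulAut.conj g).toMonoidHom ⊓
        (B.map (Cfsg.generalizedFittingSubgroup ↥(Subgroup.centralizer ({z} : Set G))).subtype).map (Subgroup.centralizer ({z} : Set G)).subtype = ⊥ := by
  have hFn : (generalizedFittingSubgroup ↥(Subgroup.centralizer ({z} : Set G))).Normal := by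
    haveI : (generalizedFittingSubgroup ↥(Subgroup.centralizer ({z} : Set G))).Characteristic := ClassBasic.generalizedFitting_characteristic _
    infer_instance
  rcases eq_or_ne B ⊥ with rfl | hB
  · exact Or.inl (by simp)
  haveI : IsCyclic ↥B := hQ.2 B hBc hBa
  haveI := hBc
  haveI : B.Normal := inferInstance
  haveI : Fact (Nat.Prime 2) := ⟨Nat.prime_two⟩
  have hBp : IsPGroup 2 ↥B := hQ.1.to_subgroup B
  haveI : Nontrivial ↥B := (Subgroup.nontrivial_iff_ne_bot B).2 hB
  obtain ⟨b, hb⟩ : ∃ b : ↥B, orderOf b = 2 := by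
    obtain ⟨n, hn, hc⟩ := (IsPGroup.nontrivial_iff_card (p := 2) hBp).1 inferInstance
    exact exists_prime_orderOf_dvd_card' 2 (hc ▸ dvd_pow_self 2 hn.ne')
  have hbc : (b : ↥(generalizedFittingSubgroup ↥(Subgroup.centralizer ({z} : Set G)))) ∈ Subgroup.center ↥(generalizedFittingSubgroup ↥(Subgroup.centralizer ({z} : Set G))) := by
    rw [Subgroup.mem_center_iff]
    intro f
    have h1 : f * (b : ↥(generalizedFittingSubgroup ↥(Subgroup.centralizer ({z} : Set G)))) * f⁻¹ ∈ B := Subgroup.Normal.conj_mem inferInstance _ b.2 f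
    have h2 : orderOf (⟨_, h1⟩ : ↥B) = 2 := by
      rw [Subgroup.orderOf_mk, ← hb, ← Subgroup.orderOf_coe b]
      exact MulEquiv.orderOf_eq (MulAut.conj f) (b : ↥(generalizedFittingSubgroup ↥(Subgroup.centralizer ({z} : Set G))))
    have h3 := congrArg Subtype.val (ClassBasic.eq_of_isCyclic_of_orderOf_two h2 hb)
    exact mul_inv_eq_iff_eq_mul.1 h3
  set zF : ↥(generalizedFittingSubgroup ↥(Subgroup.centralizer ({z} : Set G))) := ⟨ClassBasic.selfCent z, ClassBasic.selfCent_mem_gfit z⟩ with hzF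
  have hzc : zF ∈ Subgroup.center ↥(generalizedFittingSubgroup ↥(Subgroup.centralizer ({z} : Set G))) := Subgroup.mem_center_iff.2 fun f =>
    Subtype.ext (Subgroup.mem_center_iff.1 (ClassBasic.selfCent_mem_center z) (f : ↥(Subgroup.centralizer ({z} : Set G))))
  have hzo : orderOf (⟨zF, hzc⟩ : ↥(Subgroup.center ↥(generalizedFittingSubgroup ↥(Subgroup.centralizer ({z} : Set G))))) = 2 := by
    rw [Subgroup.orderOf_mk, hzF, Subgroup.orderOf_mk, ClassBasic.selfCent, Subgroup.orderOf_mk, hz]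
  haveI : IsCyclic ↥(Subgroup.center ↥(generalizedFittingSubgroup ↥(Subgroup.centralizer ({z} : Set G)))) := hQ.2 _ inferInstance inferInstance
  have hbz : (b : ↥(generalizedFittingSubgroup ↥(Subgroup.centralizer ({z} : Set G)))) = zF := by
    have hbo : orderOf (⟨(b : ↥(generalizedFittingSubgroup ↥(Subgroup.centralizer ({z} : Set G)))), hbc⟩ : ↥(Subgroup.center ↥(generalizedFittingSubgroup ↥(Subgroup.centralizer ({z} : Set G))))) = 2 := by
      rw [Subgroup.orderOf_mk, Subgroup.orderOf_coe, hb]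
    exact congrArg Subtype.val (ClassBasic.eq_of_isCyclic_of_orderOf_two hbo hzo)
  set BG : Subgroup G := (B.map (generalizedFittingSubgroup ↥(Subgroup.centralizer ({z} : Set G))).subtype).map (Subgroup.centralizer ({z} : Set G)).subtype with hBG
  refine or_iff_not_imp_right.2 fun hne => ?_
  obtain ⟨⟨x, hx⟩, hx0⟩ := Subgroup.ne_bot_iff_exists_ne_one.1 hne
  have hx1 : x ≠ 1 := fun h => hx0 (Subtype.ext h)
  obtain ⟨⟨w, hwB, hwx⟩, ⟨y, ⟨u, huB, rfl⟩, rfl⟩⟩ := Subgroup.mem_inf.1 hx
  have hzB : z ∈ BG := ⟨_, ⟨_, hbz ▸ b.2, rfl⟩, rfl⟩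
  -- every non-identity element of `BG` has a power equal to `z`
  have hpow : ∀ v ∈ BG, v ≠ 1 → ∃ n : ℕ, v ^ n = z := by
    rintro _ ⟨_, ⟨v, hv, rfl⟩, rfl⟩ hv1
    have hv1' : (⟨v, hv⟩ : ↥B) ≠ 1 := fun h => hv1 (by rw [show v = 1 from congrArg Subtype.val h]; rfl)
    obtain ⟨k, hk⟩ := (IsPGroup.iff_orderOf (p := 2)).1 hBp ⟨v, hv⟩
    have hk0 : k ≠ 0 := by rintro rfl; exact hv1' (orderOf_eq_one_iff.1 hk)
    have h2 : orderOf ((⟨v, hv⟩ : ↥B) ^ (2 ^ (k - 1))) = 2 := by
      rw [orderOf_pow' _ (by positivity), hk, Nat.gcd_eq_right (pow_dvd_pow 2 (Nat.sub_le k 1)),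
        Nat.pow_div (Nat.sub_le k 1) (by norm_num), Nat.sub_sub_self (Nat.one_le_iff_ne_zero.2 hk0), pow_one]
    have h3 := congrArg Subtype.val (ClassBasic.eq_of_isCyclic_of_orderOf_two h2 hb)
    refine ⟨2 ^ (k - 1), ?_⟩
    have h4 : v ^ (2 ^ (k - 1)) = zF := by rw [← hbz]; exact h3
    exact congrArg (fun f : ↥(generalizedFittingSubgroup ↥(Subgroup.centralizer ({z} : Set G))) => ((f : ↥(Subgroup.centralizer ({z} : Set G))) : G)) h4
  have hgz : g * z * g⁻¹ = z := by
    have hw1 : w ≠ 1 := by rintro rfl; exact hx1 (by rw [← hwx]; simp)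
    obtain ⟨n, hn⟩ := hpow _ ⟨_, ⟨u, huB, rfl⟩, rfl⟩ hx1
    obtain ⟨m, hm⟩ := hpow w hwB hw1
    have hwn : g * w ^ n * g⁻¹ = z := by
      rw [← conj_pow, show g * w * g⁻¹ = _ from hwx, hn]
    have hz1 : z ≠ 1 := fun h => by rw [h, orderOf_one] at hz; omega
    have hwn1 : w ^ n ≠ 1 := fun h => hz1 (by rw [← hwn, h, mul_one, mul_inv_cancel])
    have hwn2 : orderOf (w ^ n) = 2 := by
      rw [← hz, ← hwn]; exact (MulEquiv.orderOf_eq (MulAut.conj g) _).symm
    obtain ⟨l, hl⟩ := hpow _ (pow_mem hwB n) hwn1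
    have hz' : (w ^ n) ^ l = z := hl
    rw [← pow_mod_orderOf, hwn2] at hz'
    rcases Nat.mod_two_eq_zero_or_one l with h | h <;> rw [h] at hz'
    · exact absurd (by simpa using hz'.symm) hz1
    · rw [pow_one] at hz'; rwa [hz'] at hwn
  have hgC : g ∈ (Subgroup.centralizer ({z} : Set G)) := Subgroup.mem_centralizer_singleton_iff.2 (mul_inv_eq_iff_eq_mul.1 hgz)
  have hBn : (B.map (generalizedFittingSubgroup ↥(Subgroup.centralizer ({z} : Set G))).subtype).Normal := inferInstance
  rw [hBG, Subgroup.map_map]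
  conv_rhs => rw [← Subgroup.Normal.map_conj_eq (H := B.map (generalizedFittingSubgroup ↥(Subgroup.centralizer ({z} : Set G))).subtype) (⟨g, hgC⟩ : ↥(Subgroup.centralizer ({z} : Set G))), Subgroup.map_map]
  rfl

end Cfsg.Agent.S1755
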