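import Cfsg.Statements.S1756
import Mathlib.GroupTheory.IndexNormal


set_option autoImplicit false
open Cfsg

namespace Cfsg.Agent.S1756

section

variable {P : Type*} [Group P]

/-- commutators land in the centre -/
theorem comm_mem (hc : commutator P = Subgroup.center P) (a b : P) : a * b * a⁻¹ * b⁻¹ ∈ Subgroup.center P := by
  rw [← hc]
  exact Subgroup.commutator_mem_commutator (Subgroup.mem_top a) (Subgroup.mem_top b)

theorem comm_left (hc : commutator P = Subgroup.center P) (a b x : P) :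
    (a * b) * x * (a * b)⁻¹ * x⁻¹ = (a * x * a⁻¹ * x⁻¹) * (b * x * b⁻¹ * x⁻¹) := by
  have hb := Subgroup.mem_center_iff.1 (comm_mem hc b x)
  calc (a * b) * x * (a * b)⁻¹ * x⁻¹ = a * (b * x * b⁻¹ * x⁻¹) * (x * a⁻¹ * x⁻¹) := by group
    _ = (a * x * a⁻¹ * x⁻¹) * (b * x * b⁻¹ * x⁻¹) := by
      rw [mul_assoc a, ← hb (x * a⁻¹ * x⁻¹), ← mul_assoc]; group

/-- `a ↦ [a, x]` into the centre -/
def commHom (hc : commutator P = Subgroup.center P) (x : P) : P →* Subgroup.center P where
  toFun a := ⟨a * x * a⁻¹ * x⁻¹, comm_mem hc a x⟩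
  map_one' := Subtype.ext (by simp)
  map_mul' a b := Subtype.ext (comm_left hc a b x)

variable [Finite P]

theorem card_le_two_mul (hc : commutator P = Subgroup.center P) (h2 : Nat.card (Subgroup.center P) = 2)
    (K : Subgroup P) (x : P) : Nat.card K ≤ 2 * Nat.card ↥(K ⊓ Subgroup.centralizer {x}) := by
  set f := (commHom hc x).comp K.subtype with hf
  have h1 := f.ker.card_mul_index
  rw [Subgroup.index_ker] at h1
  have h3 : Nat.card f.range ≤ 2 := h2 ▸ Subgroup.card_le_card_group _
  have h4 : Nat.card f.ker ≤ Nat.card ↥(K ⊓ Subgroup.centralizer {x}) := by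
    refine Nat.card_le_card_of_injective (fun a : f.ker => (⟨(a : K), (a : K).2, ?_⟩ :
      ↥(K ⊓ Subgroup.centralizer {x}))) ?_
    · have := congrArg Subtype.val (MonoidHom.mem_ker.1 a.2)
      change ((a : K) : P) * x * ((a : K) : P)⁻¹ * x⁻¹ = 1 at this
      exact Subgroup.mem_centralizer_singleton_iff.2
        (mul_inv_eq_iff_eq_mul.1 (mul_inv_eq_one.1 this))
    · intro a b h
      exact Subtype.ext (Subtype.ext (congrArg (fun y : ↥(K ⊓ Subgroup.centralizer {x}) => (y : P)) h))
  calc Nat.card K = Nat.card f.ker * Nat.card f.range := h1.symm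
    _ ≤ Nat.card ↥(K ⊓ Subgroup.centralizer {x}) * 2 := Nat.mul_le_mul h4 h3
    _ = _ := mul_comm _ _

/-- A subgroup of index 2 containing the centre is centralised by a non-central element. -/
theorem exists_centralizing (hc : commutator P = Subgroup.center P) (h2 : Nat.card (Subgroup.center P) = 2)
    (C : Subgroup P) (hZ : Subgroup.center P ≤ C) (hi : C.index = 2) :
    ∃ a, a ∈ Subgroup.centralizer (C : Set P) ∧ a ∉ Subgroup.center P := by
  let good : Set (Subgroup P) := {H | H ≤ C ∧ 2 * Nat.card P ≤ Nat.card H * Nat.card (Subgroup.centralizer (H : Set P))}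
  have hne : good.Nonempty := by
    refine ⟨Subgroup.center P, hZ, ?_⟩
    rw [h2, Subgroup.centralizer_eq_top_iff_subset.2 (le_refl _), Subgroup.card_top]
  obtain ⟨H, ⟨hHC, hH⟩, hmax⟩ := good.toFinite.exists_maximal hne
  have hHC' : H = C := by
    by_contra hne'
    obtain ⟨x, hxC, hxH⟩ := SetLike.exists_of_lt (lt_of_le_of_ne hHC hne')
    set H' := H ⊔ Subgroup.zpowers x with hH'
    have hxH' : x ∈ H' := Subgroup.mem_sup_right (Subgroup.mem_zpowers x)
    have hlt : H < H' := lt_of_le_of_ne le_sup_left fun h => hxH (h ▸ hxH')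
    have hH'C : H' ≤ C := sup_le hHC (Subgroup.zpowers_le.2 hxC)
    have hdbl : 2 * Nat.card H ≤ Nat.card H' := by
      obtain ⟨k, hk⟩ := Subgroup.card_dvd_of_le hlt.le
      have : Nat.card H < Nat.card H' := by
        refine lt_of_le_of_ne (Subgroup.card_le_of_le hlt.le) fun h => hlt.ne ?_
        exact Subgroup.eq_of_le_of_card_ge hlt.le h.ge
      rw [hk] at this ⊢
      rcases k with - | - | k
      · simp at this
      · simp at this
      · nlinarith
    have hcent : Subgroup.centralizer (H : Set P) ⊓ Subgroup.centralizer {x} ≤ Subgroup.centralizer (H' : Set P) := by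
      rintro a ⟨ha1, ha2⟩
      have : H' ≤ Subgroup.centralizer {a} := by
        refine sup_le (fun h hh => Subgroup.mem_centralizer_singleton_iff.2 (Subgroup.mem_centralizer_iff.1 ha1 h hh)) ?_
        rw [Subgroup.zpowers_le, Subgroup.mem_centralizer_singleton_iff]
        exact (Subgroup.mem_centralizer_singleton_iff.1 ha2).symm
      exact Subgroup.mem_centralizer_iff.2 fun h hh => Subgroup.mem_centralizer_singleton_iff.1 (this hh)
    have hgood : H' ∈ good := by
      refine ⟨hH'C, ?_⟩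
      have := card_le_two_mul hc h2 (Subgroup.centralizer (H : Set P)) x
      have hc' := Subgroup.card_le_of_le hcent
      nlinarith
    exact hlt.not_ge (hmax hgood hlt.le)
  subst hHC'
  have hcard := H.card_mul_index
  rw [hi] at hcard
  by_contra hcon
  push Not at hcon
  have hsub : Nat.card (Subgroup.centralizer (H : Set P)) ≤ 2 := h2 ▸ Subgroup.card_le_of_le hcon
  have hpos : 0 < Nat.card P := Nat.card_pos
  nlinarith

end


/-- Let Q be an extraspecial 2-subgroup of the finite group G (special with centre of order 2) and t an involution of G normalizing Q such that the centralizer of t in Q has index at most 2 in Q. Then t lies in the product of Q with the centralizer of Q. -/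
theorem result {G : Type*} [Group G] [Finite G] (Q : Subgroup G)
    (hQ : Cfsg.IsExtraspecial 2 ↥Q) (t : G) (ht : orderOf t = 2) (htN : t ∈ Subgroup.normalizer (Q : Set G))
    (hi : (Subgroup.centralizer ({t} : Set G) ⊓ Q).relIndex Q ≤ 2) :
    t ∈ Q ⊔ Subgroup.centralizer (Q : Set G) := by
  obtain ⟨⟨_, _, hcomm⟩, h2⟩ := hQ
  set τ : MulAut ↥Q := Subgroup.normalizerMonoidHom Q ⟨t, htN⟩ with hτ
  have hτv : ∀ q : ↥Q, ((τ q : ↥Q) : G) = t * (q : G) * t⁻¹ := fun q => rfl
  have ht2 : t * t = 1 := by rw [← sq, ← ht, pow_orderOf_eq_one]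
  have hττ : ∀ q, τ (τ q) = q := by
    intro q
    apply Subtype.ext
    rw [hτv, hτv, show t * (t * (q : G) * t⁻¹) * t⁻¹ = (t * t) * (q : G) * (t * t)⁻¹ by group, ht2]
    group
  set C : Subgroup ↥Q := (Subgroup.centralizer ({t} : Set G) ⊓ Q).subgroupOf Q with hCdef
  have hmem : ∀ q : ↥Q, q ∈ C ↔ τ q = q := by
    intro q
    rw [hCdef, Subgroup.mem_subgroupOf, Subgroup.mem_inf, Subgroup.mem_centralizer_singleton_iff]
    constructor
    · rintro ⟨h, -⟩
      apply Subtype.ext
      rw [hτv, ← h, mul_inv_cancel_right]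
    · intro h
      have := congrArg Subtype.val h
      rw [hτv] at this
      exact ⟨(mul_inv_eq_iff_eq_mul.1 this).symm, q.2⟩
  have htC : ∀ a : ↥Q, (∀ q, τ q = a * q * a⁻¹) → t ∈ Q ⊔ Subgroup.centralizer (Q : Set G) := by
    intro a ha
    have h : (a : G)⁻¹ * t ∈ Subgroup.centralizer (Q : Set G) := by
      rw [Subgroup.mem_centralizer_iff]
      intro q hq
      have := congrArg Subtype.val (ha ⟨q, hq⟩)
      rw [hτv] at this
      change t * q * t⁻¹ = (a : G) * q * (a : G)⁻¹ at this
      calc q * ((a : G)⁻¹ * t) = (a : G)⁻¹ * ((a : G) * q * (a : G)⁻¹) * t := by group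
        _ = (a : G)⁻¹ * (t * q * t⁻¹) * t := by rw [this]
        _ = (a : G)⁻¹ * t * q := by group
    have := mul_mem (Subgroup.mem_sup_left (T := Subgroup.centralizer (Q : Set G)) a.2) (Subgroup.mem_sup_right h)
    rwa [mul_inv_cancel_left] at this
  have hCi : C.index ≤ 2 := hi
  have hC0 : C.index ≠ 0 := Subgroup.FiniteIndex.index_ne_zero
  rcases (show C.index = 1 ∨ C.index = 2 by omega) with h1 | h1
  · refine htC 1 fun q => ?_
    rw [one_mul, inv_one, mul_one]
    exact (hmem q).1 (by rw [Subgroup.index_eq_one.1 h1]; trivial)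
  have hC2 : ∀ a b : ↥Q, a * b ∈ C ↔ (a ∈ C ↔ b ∈ C) := fun a b => Subgroup.mul_mem_iff_of_index_two h1
  have hcent : ∀ a ∈ Subgroup.center ↥Q, ∀ b ∈ Subgroup.center ↥Q, a ≠ 1 → b ≠ 1 → a = b := by
    intro a ha b hb ha1 hb1
    have h := h2
    rw [Nat.card_eq_two_iff' (⟨1, one_mem _⟩ : ↥(Subgroup.center ↥Q))] at h
    exact congrArg Subtype.val
      (h.unique (fun h => ha1 (congrArg Subtype.val h) : (⟨a, ha⟩ : ↥(Subgroup.center ↥Q)) ≠ ⟨1, one_mem _⟩)
        (fun h => hb1 (congrArg Subtype.val h) : (⟨b, hb⟩ : ↥(Subgroup.center ↥Q)) ≠ ⟨1, one_mem _⟩))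
  have hZC : Subgroup.center ↥Q ≤ C := by
    intro x hx
    rw [hmem]
    rcases eq_or_ne x 1 with rfl | hx1
    · exact map_one τ
    refine hcent _ (Subgroup.mem_center_iff.2 fun g => ?_) x hx (fun h => hx1 (τ.injective (h.trans (map_one τ).symm))) hx1
    rw [← τ.apply_symm_apply g, ← map_mul, ← map_mul, Subgroup.mem_center_iff.1 hx]
  have hsq : ∀ q : ↥Q, q * q ∈ Subgroup.center ↥Q := by
    intro q
    rw [Subgroup.mem_center_iff]
    intro r
    have h := comm_left hcomm q q r
    have hc2 : (q * r * q⁻¹ * r⁻¹) * (q * r * q⁻¹ * r⁻¹) = 1 := by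
      have := pow_card_eq_one' (x := (⟨_, comm_mem hcomm q r⟩ : ↥(Subgroup.center ↥Q)))
      rw [h2, sq] at this
      exact congrArg Subtype.val this
    rw [hc2] at h
    exact (mul_inv_eq_iff_eq_mul.1 (mul_inv_eq_one.1 h)).symm
  have htau : ∀ q, q ∉ C → q⁻¹ * τ q ∈ Subgroup.center ↥Q ∧ q⁻¹ * τ q ≠ 1 := by
    intro q hq
    have hne : q⁻¹ * τ q ≠ 1 := fun h => hq ((hmem q).2 (inv_mul_eq_one.1 h).symm)
    refine ⟨?_, hne⟩
    have hτq : τ q ∉ C := fun h => hq ((hmem q).2 (by have := (hmem _).1 h; rw [hττ] at this; exact this.symm))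
    have hdC : q⁻¹ * τ q ∈ C := by
      rw [hC2, inv_mem_iff]; simp [hq, hτq]
    obtain ⟨d, hd⟩ : ∃ d, d = q⁻¹ * τ q := ⟨_, rfl⟩
    rw [← hd] at hdC ⊢
    have hdinv : d⁻¹ = d := by
      have h1 := (hmem d).1 hdC
      rw [hd, map_mul, map_inv, hττ] at h1
      rw [hd, mul_inv_rev, inv_inv]
      exact h1
    have hqd : τ q = q * d := by rw [hd]; group
    have hcC : ∀ c ∈ C, d * c = c * d := by
      intro c hc
      have hn : C.Normal := Subgroup.normal_of_index_eq_two h1
      have h3 := (hmem _).1 (hn.conj_mem c hc q)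
      rw [map_mul, map_mul, map_inv, (hmem c).1 hc, hqd] at h3
      calc d * c = q⁻¹ * ((q * d) * c * (q * d)⁻¹) * q * d := by group
        _ = q⁻¹ * (q * c * q⁻¹) * q * d := by rw [h3]
        _ = c * d := by group
    have hdq : d * q = q * d := by
      have h3 := (hmem _).1 (hZC (hsq q))
      rw [map_mul, hqd] at h3
      have h4 : d * q * d = q := mul_left_cancel (a := q) (by simpa [mul_assoc] using h3)
      calc d * q = d * q * (d * d⁻¹) := by rw [mul_inv_cancel, mul_one]
        _ = d * q * d * d⁻¹ := by rw [mul_assoc (d * q)]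
        _ = q * d := by rw [h4, hdinv]
    rw [Subgroup.mem_center_iff]
    intro r
    by_cases hr : r ∈ C
    · exact (hcC r hr).symm
    · have hc : q⁻¹ * r ∈ C := by rw [hC2, inv_mem_iff]; simp [hq, hr]
      calc r * d = q * ((q⁻¹ * r) * d) := by group
        _ = (q * d) * (q⁻¹ * r) := by rw [← hcC _ hc]; group
        _ = d * r := by rw [← hdq]; group
  obtain ⟨a, haC, haZ⟩ := exists_centralizing hcomm h2 C hZC h1
  refine htC a fun q => ?_
  by_cases hq : q ∈ C
  · rw [(hmem q).1 hq, ← Subgroup.mem_centralizer_iff.1 haC q hq, mul_inv_cancel_right]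
  have hne : q⁻¹ * a * q * a⁻¹ ≠ 1 := by
    intro h
    apply haZ
    have haq : a * q = q * a := by
      calc a * q = q * (q⁻¹ * a * q * a⁻¹) * a := by group
        _ = q * a := by rw [h, mul_one]
    rw [Subgroup.mem_center_iff]
    intro r
    by_cases hr : r ∈ C
    · exact Subgroup.mem_centralizer_iff.1 haC r hr
    · have hc : q⁻¹ * r ∈ C := by rw [hC2, inv_mem_iff]; simp [hq, hr]
      calc r * a = q * ((q⁻¹ * r) * a) := by group
        _ = (q * a) * (q⁻¹ * r) := by rw [Subgroup.mem_centralizer_iff.1 haC _ hc]; group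
        _ = a * r := by rw [← haq]; group
  have hz : q⁻¹ * τ q = q⁻¹ * a * q * a⁻¹ := by
    refine hcent _ (htau q hq).1 _ ?_ (htau q hq).2 hne
    have := comm_mem hcomm q⁻¹ a
    rwa [inv_inv] at this
  calc τ q = q * (q⁻¹ * τ q) := by group
    _ = a * q * a⁻¹ := by rw [hz]; group

end Cfsg.Agent.S1756
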