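import Cfsg.Statements.S1774
import Cfsg.Agent.Lib.SympQ.Basic
import Cfsg.Agent.Lib.FGStruct.SymplecticType
import Cfsg.Agent.Lib.Components.FStar
import Cfsg.Agent.Lib.Classification.Basic
-- import your own Cfsg.Agent.* helpers here

set_option autoImplicit false
set_option linter.style.haveILetI false
open Cfsg

namespace Cfsg.Agent.S1774

/-- In exponent four symplectic type the squares and commutators lie in a central subgroup of order two. -/
theorem structure_facts {T : Type*} [Group T] [Finite T] (hT : Cfsg.IsOfSymplecticType T) {z : T}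
    (hz : orderOf z = 2) (hzc : z ∈ Subgroup.center T) (h4 : ∀ q : T, q ^ 4 = 1) :
    (∀ q : T, q * q ∈ Subgroup.zpowers z) ∧
      ∀ u : T, u * u = 1 → u ∈ Subgroup.center T → u ∈ Subgroup.zpowers z := by
  haveI : Fact (Nat.Prime 2) := ⟨Nat.prime_two⟩
  have hcen : IsCyclic ↥(Subgroup.center T) := hT.2 _ inferInstance inferInstance
  have hu : ∀ u : T, u * u = 1 → u ∈ Subgroup.center T → u ∈ Subgroup.zpowers z := fun u h2 hc =>
    SymplecticType.mem_zpowers_of_cyclic Nat.prime_two hcen hzc hz hc (by rwa [pow_two])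
  refine ⟨fun q => ?_, hu⟩
  set N := frattini T with hN
  haveI : (N ⊓ Subgroup.centralizer (N : Set T)).Characteristic := inferInstance
  haveI hcyc : IsCyclic ↥(N ⊓ Subgroup.centralizer (N : Set T)) :=
    hT.2 _ inferInstance ⟨⟨fun a b => Subtype.ext (Subgroup.mem_centralizer_iff.1 b.2.2 a a.2.1)⟩⟩
  have hNc : IsCyclic N := SymplecticType.frattini_cyclic _ T N rfl hT.1 le_rfl hcyc
  refine hu _ ?_ ?_
  · rw [← h4 q, show (4 : ℕ) = 2 + 2 from rfl, pow_add, pow_two]
  · by_cases h1 : q * q = 1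
    · rw [h1]; exact one_mem _
    have hsN : q * q ∈ N := by rw [← pow_two]; exact PGroupBasics.pow_mem_frattini hT.1 q
    have h2 : q * q * (q * q) = 1 := by rw [← h4 q, show (4 : ℕ) = 2 + 2 from rfl, pow_add, pow_two]
    have hso : orderOf (q * q) = 2 := orderOf_eq_prime (by rw [pow_two]; exact h2) h1
    refine Subgroup.mem_center_iff.2 fun f => ?_
    have hfN : f * (q * q) * f⁻¹ ∈ N := Subgroup.Normal.conj_mem inferInstance _ hsN f
    obtain ⟨k, hk : (q * q) ^ k = f * (q * q) * f⁻¹⟩ :=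
      SymplecticType.mem_zpowers_of_cyclic Nat.prime_two hNc hsN hso hfN (by
        rw [conj_pow, pow_two, h2]; group)
    rw [← zpow_mod_orderOf, hso] at hk
    rcases Int.emod_two_eq_zero_or_one k with h0 | h0
    · rw [show ((2 : ℕ) : ℤ) = 2 from rfl, h0, zpow_zero, eq_comm, conj_eq_one_iff] at hk
      exact absurd hk h1
    · rw [show ((2 : ℕ) : ℤ) = 2 from rfl, h0, zpow_one] at hk
      exact (mul_inv_eq_iff_eq_mul.1 hk.symm)

/-- Let G be a finite group and let z be an involution of G such that Q, the generalized Fitting subgroup of the centralizer C of z, is a 2-group of symplectic type (every characteristic abelian subgroup of Q is cyclic); suppose every element of Q has order dividing 4. Let g ∈ G with z' = g z g⁻¹ ≠ z and z' ∈ Q. Then z lies in the conjugate g Q g⁻¹, and the subgroup X generated by Q and g Q g⁻¹ induces every automorphism of the four-group generated by z and z': for any two distinct non-identity elements u, v of that four-group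 there is x ∈ X with x z x⁻¹ = u and x z' x⁻¹ = v. -/
theorem result {G : Type*} [Group G] [Finite G] (z : G) (hz : orderOf z = 2) (hQ : Cfsg.IsOfSymplecticType ↥(Cfsg.generalizedFittingSubgroup ↥(Subgroup.centralizer ({z} : Set G))))
    (h4 : ∀ q ∈ (Cfsg.generalizedFittingSubgroup ↥(Subgroup.centralizer ({z} : Set G))).map (Subgroup.centralizer ({z} : Set G)).subtype, q ^ 4 = 1) (g : G) (hne : g * z * g⁻¹ ≠ z) (hin : g * z * g⁻¹ ∈ (Cfsg.generalizedFittingSubgroup ↥(Subgroup.centralizer ({z} : Set G))).map (Subgroup.centralizer ({z} : Set G)).subtype) :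
    z ∈ ((Cfsg.generalizedFittingSubgroup ↥(Subgroup.centralizer ({z} : Set G))).map (Subgroup.centralizer ({z} : Set G)).subtype).map (MulAut.conj g).toMonoidHom ∧
      ∀ u ∈ Subgroup.closure ({z, g * z * g⁻¹} : Set G), ∀ v ∈ Subgroup.closure ({z, g * z * g⁻¹} : Set G),
        u ≠ 1 → v ≠ 1 → u ≠ v →
          ∃ x ∈ (Cfsg.generalizedFittingSubgroup ↥(Subgroup.centralizer ({z} : Set G))).map (Subgroup.centralizer ({z} : Set G)).subtype ⊔ ((Cfsg.generalizedFittingSubgroup ↥(Subgroup.centralizer ({z} : Set G))).map (Subgroup.centralizer ({z} : Set G)).subtype).map (MulAut.conj g).toMonoidHom, x * z * x⁻¹ = u ∧ x * (g * z * g⁻¹) * x⁻¹ = v := by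
  classical
  set C := Subgroup.centralizer ({z} : Set G) with hC
  set Qc := Cfsg.generalizedFittingSubgroup C with hQc
  set Q := Qc.map C.subtype with hQdef
  haveI hQn : Qc.Normal := Components.generalizedFitting_normal
  have hzC : z ∈ C := Subgroup.mem_centralizer_singleton_iff.2 rfl
  have hzq : (⟨z, hzC⟩ : C) ∈ Qc := ClassBasic.selfCent_mem_gfit z
  set zT : Qc := ⟨⟨z, hzC⟩, hzq⟩ with hzT
  have hcomm : ∀ q ∈ Q, q * z = z * q := by
    rintro _ ⟨q, -, rfl⟩
    exact Subgroup.mem_centralizer_singleton_iff.1 q.2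
  have hzc : zT ∈ Subgroup.center Qc :=
    Subgroup.mem_center_iff.2 fun q => Subtype.ext (Subtype.ext (hcomm _ ⟨q, q.2, rfl⟩))
  have hzo : orderOf zT = 2 := by rw [← Subgroup.orderOf_coe, ← Subgroup.orderOf_coe, hzT]; exact hz
  obtain ⟨hsq, hcen⟩ := structure_facts hQ hzo hzc fun q =>
    Subtype.ext (Subtype.ext (by simpa using h4 _ ⟨q, q.2, rfl⟩))
  have hz2 : z * z = 1 := by rw [← pow_two, ← hz, pow_orderOf_eq_one]
  have hz1 : z ≠ 1 := fun e => by rw [e, orderOf_one] at hz; omega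
  have hzp : ∀ w : Qc, w ∈ Subgroup.zpowers zT → ((w : C) : G) = 1 ∨ ((w : C) : G) = z := by
    rintro _ ⟨k, rfl⟩
    have hzi : z⁻¹ = z := inv_eq_of_mul_eq_one_right hz2
    show (((zT ^ k : Qc) : C) : G) = 1 ∨ (((zT ^ k : Qc) : C) : G) = z
    rw [← zpow_mod_orderOf, hzo]
    rcases Int.emod_two_eq_zero_or_one k with h0 | h0 <;> rw [show ((2 : ℕ) : ℤ) = 2 from rfl, h0]
    · exact Or.inl (by rw [zpow_zero]; rfl)
    · exact Or.inr (by rw [zpow_one])
  have hQS : SympQ.SQ Q z := by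
    refine ⟨⟨_, hzq, rfl⟩, hz2, hz1, hcomm, ?_, ?_, ?_, fun a ha => ?_, fun p hp => ?_⟩
    · rintro _ ⟨q, hq, rfl⟩
      exact hzp _ (hsq ⟨q, hq⟩)
    · rintro _ ⟨q, hq, rfl⟩ _ ⟨r, hr, rfl⟩
      set a : Qc := ⟨q, hq⟩
      set b : Qc := ⟨r, hr⟩
      have hmem : a * b * a⁻¹ * b⁻¹ ∈ Subgroup.zpowers zT := by
        rw [show a * b * a⁻¹ * b⁻¹ = a * a * (a⁻¹ * b * (a⁻¹ * b)) * (b⁻¹ * b⁻¹) by group]
        exact mul_mem (mul_mem (hsq _) (hsq _)) (hsq _)
      rcases hzp _ hmem with e | e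
      · left
        change (q : G) * r * (q : G)⁻¹ * (r : G)⁻¹ = 1 at e
        exact mul_inv_eq_one.1 e
      · right
        change (q : G) * r * (q : G)⁻¹ * (r : G)⁻¹ = z at e
        show (q : G) * r * (q : G)⁻¹ = r * z
        rw [show (r : G) * z = z * r from hcomm _ ⟨r, hr, rfl⟩]
        exact mul_inv_eq_iff_eq_mul.1 e
    · rintro _ ⟨q, hq, rfl⟩ h2 hc
      refine hzp _ (hcen ⟨q, hq⟩ (Subtype.ext (Subtype.ext h2)) (Subgroup.mem_center_iff.2 fun r => ?_))
      exact Subtype.ext (Subtype.ext (hc _ ⟨r, r.2, rfl⟩).symm)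
    · have haC : a ∈ C := Subgroup.mem_centralizer_singleton_iff.2 (ha z ⟨_, hzq, rfl⟩).symm
      exact ⟨⟨a, haC⟩, Components.centralizer_generalizedFitting_le
        (Subgroup.mem_centralizer_iff.2 fun q hq => Subtype.ext (ha _ ⟨q, hq, rfl⟩)), rfl⟩
    · rintro _ ⟨q, hq, rfl⟩
      exact ⟨_, hQn.conj_mem q hq ⟨p, Subgroup.mem_centralizer_singleton_iff.2 hp⟩, rfl⟩
  have hzQ' := hQS.mem_conj hin hne
  refine ⟨hzQ', ?_⟩
  set x := g * z * g⁻¹ with hx
  have h' := hQS.conj g
  obtain ⟨q, hq, eq⟩ := hQS.exists_conj hin h'.sq h'.ne_one hne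
  obtain ⟨q', hq', eq'⟩ := h'.exists_conj hzQ' hz2 hz1 (fun e => hne e.symm)
  have hzx : z * x = x * z := (hQS.comm x hin).symm
  have eqz : q * z * q⁻¹ = z := by rw [hQS.comm q hq, mul_inv_cancel_right]
  have eqx : q' * x * q'⁻¹ = x := by rw [h'.comm q' hq', mul_inv_cancel_right]
  set X := Q ⊔ Q.map (MulAut.conj g).toMonoidHom with hX
  have hqX : q ∈ X := Subgroup.mem_sup_left hq
  have hq'X : q' ∈ X := Subgroup.mem_sup_right hq'
  have step : ∀ y u v : G, y * z * y⁻¹ = u → y * x * y⁻¹ = v → ∀ w : G,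
      w * y * z * (w * y)⁻¹ = w * u * w⁻¹ ∧ w * y * x * (w * y)⁻¹ = w * v * w⁻¹ := by
    intro y u v e1 e2 w
    rw [← e1, ← e2]; constructor <;> group
  intro u hu v hv hu1 hv1 huv
  rw [LargeExtra.mem_closure_pair hz2 h'.sq hzx] at hu hv
  have q1 : q * (z * x) * q⁻¹ = x := by
    rw [show q * (z * x) * q⁻¹ = q * z * q⁻¹ * (q * x * q⁻¹) by group, eqz, eq, hQS.comm x hin, ← mul_assoc,
      hz2, one_mul]
  have q2 : q' * (x * z) * q'⁻¹ = z := by
    rw [show q' * (x * z) * q'⁻¹ = q' * x * q'⁻¹ * (q' * z * q'⁻¹) by group, eqx, eq', ← mul_assoc, ← hzx,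
      mul_assoc, h'.sq, mul_one]
  -- the images of the pair `(z, x)`
  obtain ⟨a1, a2⟩ := step q z (x * z) eqz eq q'
  rw [eq'] at a1
  rw [q2] at a2
  obtain ⟨b1, b2⟩ := step q' (z * x) x eq' eqx q
  rw [q1] at b1
  rw [eq] at b2
  obtain ⟨c1, c2⟩ := step (q * q') x (x * z) b1 b2 q'
  rw [eqx] at c1
  rw [q2] at c2
  rcases hu with e | e | e | e
  · exact absurd e hu1
  all_goals rcases hv with f | f | f | f
  all_goals first
    | exact absurd f hv1
    | exact absurd (e.trans f.symm) huv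
    | skip
  all_goals rw [e, f]
  · exact ⟨1, one_mem _, by group, by rw [inv_one, one_mul, mul_one]⟩
  · exact ⟨q, hqX, eqz, eq.trans hzx.symm⟩
  · exact ⟨q' * (q * q'), mul_mem hq'X (mul_mem hqX hq'X), c1, c2⟩
  · exact ⟨q * q', mul_mem hqX hq'X, b1, b2.trans hzx.symm⟩
  · exact ⟨q' * q, mul_mem hq'X hqX, a1, a2⟩
  · exact ⟨q', hq'X, eq', eqx⟩

end Cfsg.Agent.S1774
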