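import Cfsg.Statements.S1775
import Cfsg.Agent.Lib.Components.BpPCIn
import Cfsg.Agent.Lib.Components.BpBalance
import Cfsg.Agent.Lib.Components.FStar
import Cfsg.Agent.Lib.Transfer.CoprimeQuotient
-- import your own Cfsg.Agent.* helpers here

set_option autoImplicit false
set_option linter.style.haveILetI false
open Cfsg
open scoped commutatorElement

namespace Cfsg.Agent.S1775

open Cfsg.Agent.Components in
/-- A component generated by its 2-elements centralizes every subgroup of odd order it normalizes. -/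
theorem commutator_eq_bot {X : Type*} [Group X] [Finite X] {L E : Subgroup X} (hL : Cfsg.IsComponent L)
    (hg : L ≤ pGen 2 L) (hE : Odd (Nat.card E)) (hn : L ≤ Subgroup.normalizer (E : Set X)) :
    ⁅L, E⁆ = ⊥ := by
  haveI : Fact (Nat.Prime 2) := ⟨Nat.prime_two⟩
  have hperf : ⁅L, L⁆ = L := Subgroup.isPerfect_iff.1 hL.2.1
  have hnab : ¬ L ≤ Subgroup.centralizer (L : Set X) := fun h => component_ne_bot hL (by
    rw [← hperf, Subgroup.commutator_eq_bot_iff_le_centralizer]; exact h)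
  have hzero : ∀ d ∈ E, ∀ k : ℕ, d ^ 2 ^ k = 1 → d = 1 := fun d hd k hk => by
    rw [← orderOf_eq_one_iff]
    exact Nat.eq_one_of_dvd_coprimes ((Nat.coprime_two_left.2 hE).pow_left k)
      (orderOf_dvd_of_pow_eq_one hk) (Subgroup.orderOf_dvd_natCard E hd)
  have hEL : E ≤ Subgroup.normalizer (L : Set X) := by
    intro e he
    rcases component_le_or_commute hL (component_conj hL e).1 with h | h
    · rw [Subgroup.mem_normalizer_iff_map_conj_eq]
      exact (Subgroup.eq_of_le_of_card_ge h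
        (by rw [Subgroup.card_map_of_injective (MulAut.conj e).injective])).symm
    · exfalso
      apply hnab
      refine hg.trans ((Subgroup.closure_le _).2 ?_)
      rintro j ⟨hj, k, hk⟩
      have hj' : e * j * e⁻¹ ∈ L.map (MulAut.conj e).toMonoidHom := ⟨j, hj, rfl⟩
      have hc : Commute j (e * j * e⁻¹) :=
        (Subgroup.mem_centralizer_iff.1 (Subgroup.commutator_eq_bot_iff_le_centralizer.1 h hj) _ hj').symm
      have hd : j * (e * j * e⁻¹)⁻¹ ∈ E := by
        rw [show j * (e * j * e⁻¹)⁻¹ = j * e * j⁻¹ * e⁻¹ by group]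
        exact mul_mem ((Subgroup.mem_normalizer_iff.1 (hn hj) e).1 he) (inv_mem he)
      have h1 : j = e * j * e⁻¹ := by
        refine mul_inv_eq_one.1 (hzero _ hd k ?_)
        rw [hc.inv_right.mul_pow, hk, inv_pow, conj_pow, hk]
        group
      rw [SetLike.mem_coe, Subgroup.mem_centralizer_iff]
      intro l hl
      rw [h1]
      exact (Subgroup.mem_centralizer_iff.1 (Subgroup.commutator_eq_bot_iff_le_centralizer.1 h hl) _ hj').symm
  have hle : ⁅L, E⁆ ≤ L ⊓ E := le_inf (Subgroup.le_normalizer_iff_commutator_le_left.1 hEL)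
    (Subgroup.le_normalizer_iff_commutator_le_right.1 hn)
  haveI : ((L ⊓ E).subgroupOf L).Normal := ⟨fun x hx l =>
    ⟨Subgroup.mul_mem _ (Subgroup.mul_mem _ l.2 x.2) (Subgroup.inv_mem _ l.2), (Subgroup.mem_normalizer_iff.1 (hn l.2) _).1 hx.2⟩⟩
  have hcen : L ⊓ E ≤ Subgroup.centralizer (L : Set X) := by
    rcases quasisimple_normal hL.2 ((L ⊓ E).subgroupOf L) with h | h
    · refine absurd ?_ (component_ne_bot hL)
      rw [eq_bot_iff]
      refine hg.trans ((Subgroup.closure_le _).2 ?_)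
      rintro j ⟨hj, k, hk⟩
      exact hzero j ((Subgroup.subgroupOf_eq_top.1 h) hj).2 k hk
    · intro a ha
      exact Subgroup.mem_centralizer_iff.2 fun l hl =>
        congrArg Subtype.val (Subgroup.mem_center_iff.1 (h (show (⟨a, ha.1⟩ : L) ∈ _ from ha)) ⟨l, hl⟩)
  have h1 : ⁅⁅L, E⁆, L⁆ = ⊥ := Subgroup.commutator_eq_bot_iff_le_centralizer.2 (hle.trans hcen)
  have h2 : ⁅⁅E, L⁆, L⁆ = ⊥ := by rw [Subgroup.commutator_comm E L]; exact h1
  have h3 := Subgroup.commutator_commutator_eq_bot_of_rotate (H₁ := L) (H₂ := L) (H₃ := E) h1 h2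
  rwa [hperf] at h3

/-- Let G be a finite group whose generalized Fitting subgroup is a non-abelian simple group and in which every proper section (every quotient H/N of a proper subgroup H, or of G by a nontrivial normal subgroup) has the B-property. Let x, y be commuting involutions, let D be the intersection of the 2-layer of C_G(x) with C_G(y), and let J be a 2-component of D. Write Q for the quotient of C_G(y) by its largest normal odd-order subgroup. Then (i) the image of J in Q is a component of the centralizer in Q of the image of x; and (ii) for every J-invariant subgroup E of odd order of C_G(x) ∩ C_G(y), the commutator subgroup [J, E] lies in the largest normal odd-order subgroup of C_G(y). -/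
theorem result {G : Type*} [Group G] [Finite G]
    (hF : IsSimpleGroup ↥(Cfsg.generalizedFittingSubgroup G)) (hF' : ¬ IsMulCommutative ↥(Cfsg.generalizedFittingSubgroup G))
    (hsec : ∀ (H : Subgroup G) (N : Subgroup ↥H) [N.Normal], (H ≠ ⊤ ∨ N ≠ ⊥) → Cfsg.HasBProperty (↥H ⧸ N))
    (x y : G) (hx : orderOf x = 2) (hy : orderOf y = 2) (hxy : x * y = y * x)
    (J : Subgroup ↥((Cfsg.pLayer 2 ↥(Subgroup.centralizer ({x} : Set G))).map (Subgroup.centralizer ({x} : Set G)).subtype ⊓ Subgroup.centralizer ({y} : Set G)))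
    (hJ : Cfsg.IsPComponent 2 J) :
    Cfsg.IsComponent
        ((((J.map (Subgroup.subtype _)).subgroupOf (Subgroup.centralizer ({y} : Set G))).map (QuotientGroup.mk' (Cfsg.oddCore ↥(Subgroup.centralizer ({y} : Set G))))).subgroupOf
          (Subgroup.centralizer ({(QuotientGroup.mk' (Cfsg.oddCore ↥(Subgroup.centralizer ({y} : Set G))) ⟨x, Subgroup.mem_centralizer_singleton_iff.mpr hxy⟩ : ↥(Subgroup.centralizer ({y} : Set G)) ⧸ Cfsg.oddCore ↥(Subgroup.centralizer ({y} : Set G)))} : Set _))) ∧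
      ∀ E : Subgroup G, E ≤ Subgroup.centralizer ({x} : Set G) ⊓ Subgroup.centralizer ({y} : Set G) → Odd (Nat.card ↥E) →
        (∀ j ∈ J.map (Subgroup.subtype _), ∀ e ∈ E, j * e * j⁻¹ ∈ E) →
          ⁅J.map (Subgroup.subtype _), E⁆ ≤ (Cfsg.oddCore ↥(Subgroup.centralizer ({y} : Set G))).map (Subgroup.centralizer ({y} : Set G)).subtype := by
  classical
  haveI : Fact (Nat.Prime 2) := ⟨Nat.prime_two⟩
  let H := Subgroup.centralizer ({y} : Set G)
  let Cx := Subgroup.centralizer ({x} : Set G)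
  let L := (Cfsg.pLayer 2 ↥Cx).map Cx.subtype
  set N := Cfsg.oddCore ↥H with hN
  haveI hNn : N.Normal := FittingCores.pPrimeCore_normal 2
  -- `y` is not central
  have hHtop : H ≠ ⊤ := by
    intro htop
    have hyF : y ∈ Cfsg.generalizedFittingSubgroup G :=
      Components.centralizer_generalizedFitting_le (Subgroup.mem_centralizer_iff.2 fun f _ =>
        Subgroup.mem_centralizer_singleton_iff.1 (htop.ge (Subgroup.mem_top f) : f ∈ H))
    have hyc : (⟨y, hyF⟩ : Cfsg.generalizedFittingSubgroup G) ∈ Subgroup.center _ :=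
      Subgroup.mem_center_iff.2 fun f => Subtype.ext
        (Subgroup.mem_centralizer_singleton_iff.1 (htop.ge (Subgroup.mem_top (f : G)) : (f : G) ∈ H))
    haveI := hF
    rcases (inferInstance : (Subgroup.center ↥(Cfsg.generalizedFittingSubgroup G)).Normal).eq_bot_or_eq_top
      with h | h
    · rw [h, Subgroup.mem_bot] at hyc
      rw [show y = 1 from congrArg Subtype.val hyc, orderOf_one] at hy
      omega
    · exact hF' ⟨⟨fun a b => (Subgroup.mem_center_iff.1 (h.ge (Subgroup.mem_top b) :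
        b ∈ Subgroup.center _) a)⟩⟩
  have hB : Cfsg.HasBProperty (↥H ⧸ N) := hsec H N (Or.inl hHtop)
  set π := QuotientGroup.mk' N with hπ
  set xh : ↥H := ⟨x, Subgroup.mem_centralizer_singleton_iff.mpr hxy⟩ with hxh
  set Cq := Subgroup.centralizer ({π xh} : Set (↥H ⧸ N)) with hCq
  have hNodd : (Nat.card N).Coprime 2 := FittingCores.pPrimeCore_coprime 2
  have hxq : orderOf (π xh) = 2 := by
    refine orderOf_eq_prime ?_ fun e => ?_
    · rw [← map_pow, show xh ^ 2 = 1 from Subtype.ext (by rw [Subgroup.coe_pow, ← hx]; exact pow_orderOf_eq_one x),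
        map_one]
    · have h1 : orderOf xh ∣ Nat.card N := Subgroup.orderOf_dvd_natCard N ((QuotientGroup.eq_one_iff xh).1 e)
      rw [← Subgroup.orderOf_coe] at h1
      have h2 := Nat.eq_one_of_dvd_coprimes hNodd (hx ▸ h1) dvd_rfl
      omega
  -- the 2-component inside `C(x) ∩ C(y)`
  set K := J.map (Subgroup.subtype (L ⊓ H)) with hK
  have hX : Cx ⊓ H ≤ Subgroup.normalizer ((L ⊓ H : Subgroup G) : Set G) := by
    haveI hLn : (Cfsg.pLayer 2 ↥Cx).Normal := Components.pLayer_normal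
    have hLN : Cx ≤ Subgroup.normalizer (L : Set G) := fun c hc => by
      refine Subgroup.mem_normalizer_iff.2 fun b => ⟨?_, ?_⟩
      · rintro ⟨l, hl, rfl⟩
        exact ⟨_, hLn.conj_mem l hl ⟨c, hc⟩, rfl⟩
      · rintro ⟨l, hl, hlb⟩
        refine ⟨_, hLn.conj_mem' l hl ⟨c, hc⟩, ?_⟩
        change c⁻¹ * (l : G) * c = b
        rw [show (l : G) = c * b * c⁻¹ from hlb]; group
    refine fun a ha => Subgroup.mem_normalizer_iff.2 fun b => ?_
    have h1 := Subgroup.mem_normalizer_iff.1 (hLN ha.1) b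
    have h2 : b ∈ H ↔ a * b * a⁻¹ ∈ H := Subgroup.mem_normalizer_iff.1 (Subgroup.le_normalizer ha.2) b
    exact and_congr h1 h2
  have hKX : BpBalance.PCIn 2 K (Cx ⊓ H) :=
    (BpBalance.pcin_of_comp hJ).up (inf_le_inf_right _ (Subgroup.map_subtype_le _)) hX
  have hKH : K ≤ H := hKX.le.trans inf_le_right
  have hJh : BpBalance.PCIn 2 (K.subgroupOf H) ((Cx ⊓ H).subgroupOf H) :=
    hKX.comap_inj H.subtype H.subtype_injective (by rw [Subgroup.range_subtype]; exact hKH)
  have hXq : ((Cx ⊓ H).subgroupOf H).map π = Cq := by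
    have hX2 : IsPGroup 2 ↥(Subgroup.zpowers xh) :=
      IsPGroup.of_card (n := 1) (by rw [Nat.card_zpowers, pow_one, ← Subgroup.orderOf_coe]; exact hx)
    have h := CoprimeQuotient.centralizer_map π (QuotientGroup.mk'_surjective N) (by rw [QuotientGroup.ker_mk']; exact hNodd) hX2
    rw [MonoidHom.map_zpowers, Subgroup.zpowers_eq_closure, Subgroup.zpowers_eq_closure, Subgroup.centralizer_closure, Subgroup.centralizer_closure] at h
    rw [hCq, h]
    congr 1
    ext a
    rw [Subgroup.mem_subgroupOf, Subgroup.mem_centralizer_singleton_iff, Subtype.ext_iff]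
    exact ⟨fun ha => Subgroup.mem_centralizer_singleton_iff.1 ha.1,
      fun ha => ⟨Subgroup.mem_centralizer_singleton_iff.2 ha, a.2⟩⟩
  set Jb := (K.subgroupOf H).map π with hJb
  have hne : Jb ≠ ⊥ := by
    intro h
    rw [hJb, Subgroup.map_eq_bot_iff, QuotientGroup.ker_mk'] at h
    refine hJh.ne_bot (le_bot_iff.1 (hJh.gen.trans ((Subgroup.closure_le _).2 ?_)))
    rintro a ⟨ha, k, hk⟩
    show a = 1
    rw [← orderOf_eq_one_iff]
    exact Nat.eq_one_of_dvd_coprimes (hNodd.symm.pow_left k) (orderOf_dvd_of_pow_eq_one hk)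
      (Subgroup.orderOf_dvd_natCard N (h ha))
  have hJq : BpBalance.PCIn 2 Jb Cq := hXq ▸ hJh.map π hne
  -- the B-property of `C(y)/O(C(y))`
  have hbal : ⁅Cfsg.pLayer 2 ↥Cq, Cfsg.oddCore ↥Cq⁆ = ⊥ := by
    have h := hB (π xh) hxq
    rw [show Cfsg.oddCore (↥H ⧸ N) = ⊥ from PBasic.pPrimeCore_quotient_pPrimeCore 2 _, le_bot_iff,
      Subgroup.map_eq_bot_iff_of_injective _ Cq.subtype_injective] at h
    exact h
  have hqs : IsQuasisimple ↥Jb := by
    refine hJq.qs_of_core ?_
    refine hJq.core_le.trans ?_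
    rintro _ ⟨o, ho, rfl⟩
    refine Subgroup.mem_centralizer_iff.2 fun j hj => ?_
    have hjL : (⟨j, hJq.le hj⟩ : Cq) ∈ Cfsg.pLayer 2 ↥Cq :=
      (le_sSup (show Jb.subgroupOf Cq ∈ {M : Subgroup ↥Cq | IsPComponent 2 M} from hJq.toComp)) hj
    exact congrArg Subtype.val (Subgroup.mem_centralizer_iff.1
      (Subgroup.commutator_eq_bot_iff_le_centralizer.1 hbal hjL) o ho).symm
  have hcomp : Cfsg.IsComponent (Jb.subgroupOf Cq) :=
    ⟨hJq.sub, (Components.quasisimple_congr (Subgroup.subgroupOfEquivOfLe hJq.le)).2 hqs⟩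
  refine ⟨hcomp, fun E hE hEodd hinv => ?_⟩
  have hEH : E ≤ H := hE.trans inf_le_right
  set Eb := (E.subgroupOf H).map π with hEb
  have hEq : Eb ≤ Cq := hXq ▸ Subgroup.map_mono (Subgroup.comap_mono hE)
  have hEbo : Odd (Nat.card ↥(Eb.subgroupOf Cq)) := by
    rw [Nat.card_congr (Subgroup.subgroupOfEquivOfLe hEq).toEquiv]
    refine hEodd.of_dvd_nat ((Subgroup.card_map_dvd _ _).trans ?_)
    rw [Nat.card_congr (Subgroup.subgroupOfEquivOfLe hEH).toEquiv]
  have hn : Jb.subgroupOf Cq ≤ Subgroup.normalizer ((Eb.subgroupOf Cq : Subgroup Cq) : Set Cq) := by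
    rw [Subgroup.le_normalizer_iff]
    rintro ⟨_, hjc⟩ ⟨j, hj, rfl⟩ ⟨_, hec⟩ ⟨e, he, rfl⟩
    exact ⟨j * e * j⁻¹, hinv _ hj _ he, by simp⟩
  have hc := commutator_eq_bot hcomp
    (BpBalance.le_pGen_comap Cq.subtype Cq.subtype_injective (by rw [Subgroup.range_subtype]; exact hJq.le) hJq.gen)
    hEbo hn
  rw [Subgroup.commutator_le]
  intro j hj e he
  refine ⟨⁅(⟨j, hKH hj⟩ : ↥H), ⟨e, hEH he⟩⁆, ?_, by simp [commutatorElement_def]⟩
  refine (QuotientGroup.eq_one_iff (N := N) _).1 ?_
  change π ⁅(⟨j, hKH hj⟩ : ↥H), ⟨e, hEH he⟩⁆ = 1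
  rw [map_commutatorElement, commutatorElement_eq_one_iff_mul_comm]
  have hjb : π ⟨j, hKH hj⟩ ∈ Jb := ⟨_, hj, rfl⟩
  have heb : π ⟨e, hEH he⟩ ∈ Eb := ⟨_, he, rfl⟩
  exact congrArg Subtype.val (Subgroup.mem_centralizer_iff.1
    (Subgroup.commutator_eq_bot_iff_le_centralizer.1 hc (show (⟨_, hJq.le hjb⟩ : Cq) ∈ Jb.subgroupOf Cq from hjb))
    ⟨_, hEq heb⟩ heb).symm

end Cfsg.Agent.S1775
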