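import Cfsg.Statements.S1781
import Cfsg.Agent.Lib.Classification.TI


set_option autoImplicit false
open Cfsg

namespace Cfsg.Agent.S1781


/-- Let A be an abelian 2-subgroup of the finite group G such that every conjugate of A equals A or meets A trivially, and let g ∈ G with g A g⁻¹ ≠ A. Then either the subgroup of those elements of A that normalize g A g⁻¹ is an elementary abelian 2-group, or A and g A g⁻¹ commute elementwise. -/
theorem result {G : Type*} [Group G] [Finite G] (A : Subgroup G)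
    (hA2 : IsPGroup 2 ↥A) (hAa : IsMulCommutative ↥A)
    (hti : ∀ h : G, A.map (MulAut.conj h).toMonoidHom = A ∨ A.map (MulAut.conj h).toMonoidHom ⊓ A = ⊥)
    (g : G) (hg : A.map (MulAut.conj g).toMonoidHom ≠ A) :
    Cfsg.IsElementaryAbelian 2 (A ⊓ Subgroup.normalizer ((A.map (MulAut.conj g).toMonoidHom : Subgroup G) : Set G)) ∨
      ⁅A, A.map (MulAut.conj g).toMonoidHom⁆ = ⊥ := by
  haveI : Fact (Nat.Prime 2) := ⟨Nat.prime_two⟩
  set B := A.map (MulAut.conj g).toMonoidHom with hB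
  by_cases hS : IsElementaryAbelian 2 (A ⊓ Subgroup.normalizer (B : Set G))
  · exact Or.inl hS
  right
  have hAB : A ⊓ B = ⊥ := by rw [inf_comm]; exact (hti g).resolve_left hg
  haveI := hAa
  haveI : IsMulCommutative ↥B := Subgroup.map_isMulCommutative A _
  obtain ⟨a, ⟨haA, haN⟩, ha2⟩ : ∃ a ∈ A ⊓ Subgroup.normalizer (B : Set G), a ^ 2 ≠ 1 := by
    by_contra hcon
    push Not at hcon
    refine hS ⟨⟨⟨fun x y => Subtype.ext ?_⟩⟩, hcon⟩
    exact Subgroup.mem_centralizer_iff.1 (Subgroup.le_centralizer A y.2.1) _ x.2.1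
  have hAconj : ∀ n ∈ A, n ≠ 1 → ∀ b : G, b * n * b⁻¹ = n → b ∈ Subgroup.normalizer (A : Set G) := by
    intro n hn hn1 b hb
    rw [Subgroup.mem_normalizer_iff_map_conj_eq]
    refine (hti b).resolve_right fun h => hn1 ?_
    exact (Subgroup.eq_bot_iff_forall _).1 h n ⟨⟨n, hn, hb⟩, hn⟩
  have hcomm : ∀ n ∈ A, n ∈ Subgroup.normalizer (B : Set G) → ∀ b ∈ B, b ∈ Subgroup.normalizer (A : Set G) →
      n * b = b * n := by
    intro n hn hnB b hb hbA
    have h1 : n * b * n⁻¹ * b⁻¹ ∈ B :=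
      mul_mem ((Subgroup.mem_normalizer_iff.1 hnB b).1 hb) (inv_mem hb)
    have h2 : n * b * n⁻¹ * b⁻¹ ∈ A := by
      have : n * (b * n⁻¹ * b⁻¹) ∈ A :=
        mul_mem hn ((Subgroup.mem_normalizer_iff.1 hbA n⁻¹).1 (inv_mem hn))
      simpa [mul_assoc] using this
    have h3 : n * b * n⁻¹ * b⁻¹ = 1 := (Subgroup.eq_bot_iff_forall _).1 hAB _ ⟨h2, h1⟩
    have h4 : n * b * (b * n)⁻¹ = 1 := by rw [mul_inv_rev, ← mul_assoc, h3]
    exact mul_inv_eq_one.1 h4
  letI : CommGroup ↥B := { (inferInstance : Group ↥B) with mul_comm := mul_comm' }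
  have hBp : IsPGroup 2 ↥B := hA2.map _
  set t : MulAut ↥B := Subgroup.normalizerMonoidHom B ⟨a, haN⟩ with ht
  have htb : ∀ b : ↥B, ((t b : ↥B) : G) = a * (b : G) * a⁻¹ := fun b => rfl
  have hpow : ∃ k : ℕ, orderOf t = 2 ^ k := by
    obtain ⟨k, hk⟩ := hA2 ⟨a, haA⟩
    have hk' : a ^ 2 ^ k = 1 := congrArg Subtype.val hk
    have : t ^ 2 ^ k = 1 := by
      rw [ht, ← map_pow]
      have : (⟨a, haN⟩ : ↥(Subgroup.normalizer (B : Set G))) ^ 2 ^ k = 1 := Subtype.ext hk'
      rw [this, map_one]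
    obtain ⟨i, _, hi⟩ := (Nat.dvd_prime_pow Nat.prime_two).1 (orderOf_dvd_of_pow_eq_one this)
    exact ⟨i, hi⟩
  have hC : ∀ b : ↥B, t (t b) = b → t b = b := by
    intro b hb
    have h1 : a * (a * (b : G) * a⁻¹) * a⁻¹ = b := by
      have := congrArg Subtype.val hb
      rwa [htb, htb] at this
    have hbN : (b : G) ∈ Subgroup.normalizer (A : Set G) := by
      refine hAconj (a ^ 2) (pow_mem haA 2) ha2 _ ?_
      have h1' : a ^ 2 * (b : G) = b * a ^ 2 := by
        calc a ^ 2 * (b : G) = a * (a * (b : G) * a⁻¹) * a⁻¹ * (a * a) := by rw [sq]; group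
          _ = b * a ^ 2 := by rw [h1, sq]
      rw [← h1']; group
    apply Subtype.ext
    rw [htb, hcomm a haA haN b b.2 hbN]; group
  have hfix := TI.mulAut_eq_one_of_fix_sq hBp t hpow hC
  have hBN : B ≤ Subgroup.normalizer (A : Set G) := by
    intro b hb
    refine hAconj a haA (fun h => ha2 (by rw [h, one_pow])) b ?_
    have h1 := congrArg Subtype.val (hfix ⟨b, hb⟩)
    rw [htb] at h1
    have h2 : b * a = a * b := by
      calc b * a = a * b * a⁻¹ * a := by rw [h1]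
        _ = a * b := by group
    rw [h2]; group
  exact TI.comm_eq_bot_of_ti hA2 hBp (fun x _ => TI.Conj.ti_map_conj hti g x)
    (TI.Conj.card_map_conj A g).ge hAB hBN

end Cfsg.Agent.S1781
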