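import Cfsg.Statements.S1782
import Mathlib.GroupTheory.Nilpotent
import Mathlib.GroupTheory.Sylow
import Mathlib.GroupTheory.Frattini

set_option autoImplicit false
open Cfsg

namespace Cfsg.Agent.S1782

theorem frattini_eq_bot_of_exp_two {R : Type*} [Group R] [Finite R] (h : ∀ x : R, x * x = 1) :
    frattini R = ⊥ := by
  classical
  refine (Subgroup.eq_bot_iff_forall _).2 fun x hx => ?_
  by_contra hx1
  haveI := Fintype.ofFinite (Subgroup R)
  have hcomm : ∀ a b : R, a * b = b * a := fun a b => by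
    have hab := inv_eq_of_mul_eq_one_right (h (a * b))
    rw [mul_inv_rev, inv_eq_of_mul_eq_one_right (h a), inv_eq_of_mul_eq_one_right (h b)] at hab
    exact hab.symm
  obtain ⟨U, hU, hmax⟩ := (Finset.univ.filter fun U : Subgroup R => x ∉ U).exists_maximal
    ⟨⊥, by simpa using hx1⟩
  rw [Finset.mem_filter] at hU
  refine hU.2 (frattini_le_coatom ⟨fun e => hU.2 (by rw [e]; exact Subgroup.mem_top x), fun W hW => ?_⟩ hx)
  have hxW : x ∈ W := by
    by_contra hxW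
    exact hW.not_ge (hmax (Finset.mem_filter.2 ⟨Finset.mem_univ _, hxW⟩) hW.le)
  refine eq_top_iff.2 fun y _ => ?_
  by_contra hy
  -- adjoining `y` to `U` gives a larger subgroup avoiding `x`
  let U' : Subgroup R :=
    { carrier := {z | z ∈ U ∨ z * y ∈ U}
      one_mem' := Or.inl (one_mem _)
      mul_mem' := fun {a b} ha hb => by
        rcases ha with ha | ha <;> rcases hb with hb | hb
        · exact Or.inl (mul_mem ha hb)
        · exact Or.inr (by rw [mul_assoc]; exact mul_mem ha hb)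
        · exact Or.inr (by rw [mul_assoc, hcomm b y, ← mul_assoc]; exact mul_mem ha hb)
        · refine Or.inl ?_
          have h2 : a * y * (b * y) = a * b := by
            rw [hcomm b y, mul_assoc, ← mul_assoc y y b, h, one_mul]
          exact h2 ▸ mul_mem ha hb
      inv_mem' := fun {a} ha => by
        simp only [Set.mem_setOf_eq] at ha ⊢
        rw [inv_eq_of_mul_eq_one_right (h a)]
        exact ha }
  have hle : U ≤ U' := fun z hz => Or.inl hz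
  have hyU' : y ∈ U' := Or.inr (by rw [h]; exact one_mem _)
  by_cases hxU' : x ∈ U'
  · rcases hxU' with hz | hz
    · exact hU.2 hz
    · refine hy ?_
      have := W.mul_mem (W.inv_mem hxW) (hW.le hz)
      rwa [inv_mul_cancel_left] at this
  · exact hy (hW.le (hmax (Finset.mem_filter.2 ⟨Finset.mem_univ _, hxU'⟩) hle hyU'))

theorem commute_core {S : Type*} [Group S] [Finite S] (hS : IsPGroup 2 S) (R T : Subgroup S)
    (hcard : Nat.card R = Nat.card T) (hRT : R ⊓ T = ⊥) (hΦ : ∃ x ∈ R, x * x ≠ 1)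
    (hR : ∀ t ∈ T, (∀ r ∈ R, t * r * t⁻¹ ∈ R) ∨ ((∀ r ∈ R, t * r * t⁻¹ ∈ R → r = 1) ∧
      ∀ a ∈ R, ∀ r ∈ R, a * (t * r * t⁻¹) = (t * r * t⁻¹) * a))
    (hT : ∀ r ∈ R, (∀ t ∈ T, r * t * r⁻¹ ∈ T) ∨ ((∀ t ∈ T, r * t * r⁻¹ ∈ T → t = 1) ∧
      ∀ a ∈ T, ∀ t ∈ T, a * (r * t * r⁻¹) = (r * t * r⁻¹) * a)) :
    ∀ r ∈ R, ∀ t ∈ T, r * t = t * r := by
  classical
  have hswap : ∀ (A B : Subgroup S), A ⊓ B = ⊥ → (∀ b ∈ B, ∀ a ∈ A, b * a * b⁻¹ ∈ A) →
      (∀ a ∈ A, ∀ b ∈ B, a * b * a⁻¹ ∈ B) → ∀ a ∈ A, ∀ b ∈ B, a * b = b * a := by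
    intro A B hAB h1 h2 a ha b hb
    have hmem : a * b * a⁻¹ * b⁻¹ ∈ A ⊓ B := Subgroup.mem_inf.2
      ⟨by rw [mul_assoc, mul_assoc, ← mul_assoc b]; exact A.mul_mem ha (h1 b hb _ (A.inv_mem ha)),
        B.mul_mem (h2 a ha b hb) (B.inv_mem hb)⟩
    rw [hAB, Subgroup.mem_bot, mul_inv_eq_one] at hmem
    exact mul_inv_eq_iff_eq_mul.1 hmem
  -- if `T` normalised by `R` and some `t` moves `R`: impossible
  have hone : ∀ (A B : Subgroup S), Nat.card A = Nat.card B → (∀ a ∈ A, ∀ b ∈ B, a * b * a⁻¹ ∈ B) →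
      ∀ t ∈ B, (∀ a ∈ A, t * a * t⁻¹ ∈ A → a = 1) →
      (∀ a ∈ A, ∀ r ∈ A, a * (t * r * t⁻¹) = (t * r * t⁻¹) * a) → A = ⊥ := by
    intro A B hc hn t ht hti hcm
    let f : A → B := fun a => ⟨(a : S) * t * (a : S)⁻¹ * t⁻¹, B.mul_mem (hn a a.2 t ht) (B.inv_mem ht)⟩
    have hf : Function.Injective f := by
      intro a a' e
      have e' : (a : S) * t * (a : S)⁻¹ * t⁻¹ = (a' : S) * t * (a' : S)⁻¹ * t⁻¹ := congrArg Subtype.val e
      have key : t * ((a : S)⁻¹ * a') * t⁻¹ = (a : S)⁻¹ * a' := by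
        calc t * ((a : S)⁻¹ * a') * t⁻¹
            = (a : S)⁻¹ * ((a : S) * t * (a : S)⁻¹ * t⁻¹) * (t * a' * t⁻¹) := by group
          _ = (a : S)⁻¹ * a' := by rw [e']; group
      exact Subtype.ext (inv_mul_eq_one.1 (hti _ (A.mul_mem (A.inv_mem a.2) a'.2)
        (key.symm ▸ A.mul_mem (A.inv_mem a.2) a'.2)))
    obtain ⟨a, ha⟩ := ((Nat.bijective_iff_injective_and_card f).2 ⟨hf, hc⟩).2 ⟨t, ht⟩
    have e : (a : S) * t * (a : S)⁻¹ * t⁻¹ = t := congrArg Subtype.val ha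
    refine (Subgroup.eq_bot_iff_forall _).2 fun x hx => hti x hx ?_
    have hc' := hcm a a.2
    have e2 : t = (a : S) * (t * (a : S)⁻¹ * t⁻¹) := by
      calc t = (a : S) * t * (a : S)⁻¹ * t⁻¹ := e.symm
        _ = _ := by group
    have hd : t * (a : S)⁻¹ * t⁻¹ * x = x * (t * (a : S)⁻¹ * t⁻¹) := (hcm x hx _ (A.inv_mem a.2)).symm
    rw [e2]
    rw [show (a : S) * (t * (a : S)⁻¹ * t⁻¹) * x * ((a : S) * (t * (a : S)⁻¹ * t⁻¹))⁻¹ =
      (a : S) * ((t * (a : S)⁻¹ * t⁻¹) * x * (t * (a : S)⁻¹ * t⁻¹)⁻¹) * (a : S)⁻¹ by group, hd,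
      mul_inv_cancel_right]
    exact A.mul_mem (A.mul_mem a.2 hx) (A.inv_mem a.2)
  have hRne : R ≠ ⊥ := fun e => by
    obtain ⟨x, hx, hx2⟩ := hΦ
    rw [e, Subgroup.mem_bot] at hx
    exact hx2 (by rw [hx, one_mul])
  have hTne : T ≠ ⊥ := fun e => hRne (Subgroup.card_eq_one.1 (by rw [hcard, e, Subgroup.card_bot]))
  by_cases hRn : ∀ t ∈ T, ∀ r ∈ R, t * r * t⁻¹ ∈ R
  · by_cases hTn : ∀ r ∈ R, ∀ t ∈ T, r * t * r⁻¹ ∈ T
    · exact hswap R T hRT hRn hTn
    push_neg at hTn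
    obtain ⟨r, hr, t, ht, hrt⟩ := hTn
    have h := (hT r hr).resolve_left fun h => hrt (h t ht)
    exact absurd (hone T R hcard.symm hRn r hr h.1 h.2) hTne
  by_cases hTn : ∀ r ∈ R, ∀ t ∈ T, r * t * r⁻¹ ∈ T
  · push_neg at hRn
    obtain ⟨t, ht, r, hr, hrt⟩ := hRn
    have h := (hR t ht).resolve_left fun h => hrt (h r hr)
    exact absurd (hone R T hcard hTn t ht h.1 h.2) hRne
  exfalso
  push_neg at hRn hTn
  obtain ⟨t0, ht0, r0, hr0, ht0r⟩ := hRn
  -- a mover whose square normalises `R`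
  obtain ⟨t, ht, htR, htsq⟩ : ∃ t ∈ T, (¬ ∀ r ∈ R, t * r * t⁻¹ ∈ R) ∧
      ∀ r ∈ R, t * t * r * (t * t)⁻¹ ∈ R := by
    obtain ⟨n, hn⟩ := hS t0
    have key : ∀ n : ℕ, ∀ t ∈ T, t ^ 2 ^ n = 1 → (¬ ∀ r ∈ R, t * r * t⁻¹ ∈ R) →
        ∃ t ∈ T, (¬ ∀ r ∈ R, t * r * t⁻¹ ∈ R) ∧ ∀ r ∈ R, t * t * r * (t * t)⁻¹ ∈ R := by
      intro n
      induction n with
      | zero =>
        intro t _ h1 h2
        rw [pow_zero, pow_one] at h1
        exact absurd (fun r hr => by rw [h1]; simpa using hr) h2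
      | succ n ih =>
        intro t ht h1 h2
        by_cases h3 : ∀ r ∈ R, t * t * r * (t * t)⁻¹ ∈ R
        · exact ⟨t, ht, h2, h3⟩
        · exact ih (t * t) (T.mul_mem ht ht) (by rw [← pow_two, ← pow_mul, ← pow_succ', h1]) h3
    exact key n t0 ht0 hn fun h => ht0r (h r0 hr0)
  obtain ⟨hti, htc⟩ := (hR t ht).resolve_left htR
  -- every element outside the normaliser of `T` is an involution
  have hinv : ∀ r ∈ R, (¬ ∀ u ∈ T, r * u * r⁻¹ ∈ T) → r * r = 1 := by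
    intro r hr hrT
    obtain ⟨-, hrc⟩ := (hT r hr).resolve_left hrT
    set y := t * r * t⁻¹ with hy
    have hc1 : (r * y⁻¹) * r = r * (r * y⁻¹) := by
      have := htc r hr _ (R.inv_mem hr)
      rw [show t * r⁻¹ * t⁻¹ = y⁻¹ by rw [hy]; group] at this
      rw [mul_assoc, ← this]
    have hc2 : t * (r * y⁻¹) = (r * y⁻¹) * t := by
      have e : r * y⁻¹ = r * t * r⁻¹ * t⁻¹ := by rw [hy]; group
      rw [e, ← mul_assoc, hrc t ht t ht]; group
    have hx : t * t * r * (t * t)⁻¹ ∈ R := htsq r hr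
    set x := t * t * r * (t * t)⁻¹ with hxdef
    have h1 : y * x⁻¹ = r * y⁻¹ := by
      calc y * x⁻¹ = t * (r * y⁻¹) * t⁻¹ := by rw [hy, hxdef]; group
        _ = r * y⁻¹ := by rw [hc2, mul_inv_cancel_right]
    have hxy : x * y = y * x := by rw [hy]; exact htc x hx r hr
    have hy2 : y * y = r * x := by
      calc y * y = (y * x⁻¹) * (x * y) := by group
        _ = r * y⁻¹ * (y * x) := by rw [h1, hxy]
        _ = r * x := by group
    have : t * (r * r) * t⁻¹ ∈ R := by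
      rw [show t * (r * r) * t⁻¹ = y * y by rw [hy]; group, hy2]
      exact R.mul_mem hr hx
    exact hti (r * r) (R.mul_mem hr hr) this
  obtain ⟨s, hs, u0, hu0, hsu⟩ := hTn
  have hsT : ¬ ∀ u ∈ T, s * u * s⁻¹ ∈ T := fun h => hsu (h u0 hu0)
  obtain ⟨hsi, hsc⟩ := (hT s hs).resolve_left hsT
  haveI : Nontrivial R := (Subgroup.nontrivial_iff_ne_bot _).2 hRne
  haveI : Fact (Nat.Prime 2) := ⟨Nat.prime_two⟩
  haveI := (hS.to_subgroup R).center_nontrivial
  obtain ⟨z, hz⟩ := exists_ne (1 : Subgroup.center R)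
  have hzc : ∀ r ∈ R, r * ((z : R) : S) = ((z : R) : S) * r := fun r hr =>
    congrArg Subtype.val (Subgroup.mem_center_iff.1 z.2 ⟨r, hr⟩)
  have hz1 : ((z : R) : S) ≠ 1 := fun e => hz (Subtype.ext (Subtype.ext e))
  have hwR : ((z : R) : S) ∈ R := SetLike.coe_mem _
  generalize ((z : R) : S) = w at hzc hz1 hwR
  by_cases hzT : ∀ u ∈ T, w * u * w⁻¹ ∈ T
  · set d := w * t * w⁻¹ * t⁻¹ with hd
    have hdT : d ∈ T := T.mul_mem (hzT t ht) (T.inv_mem ht)
    have hcm := htc s hs _ (R.inv_mem hwR)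
    have hdfix : s * d * s⁻¹ = d := by
      calc s * d * s⁻¹ = (s * w) * (t * w⁻¹ * t⁻¹) * s⁻¹ := by rw [hd]; group
        _ = w * (s * (t * w⁻¹ * t⁻¹)) * s⁻¹ := by rw [hzc s hs]; group
        _ = d := by rw [hcm, hd]; group
    have hd1 : d = 1 := hsi d hdT (by rw [hdfix]; exact hdT)
    refine hz1 (hti w hwR ?_)
    rw [hd, mul_inv_eq_one, mul_inv_eq_iff_eq_mul] at hd1
    rw [← hd1, mul_inv_cancel_right]
    exact hwR
  · obtain ⟨x, hx, hx2⟩ := hΦ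
    by_cases hxT : ∀ u ∈ T, x * u * x⁻¹ ∈ T
    · have hw2 := hinv w hwR hzT
      refine hx2 ?_
      have hxw : ¬ ∀ u ∈ T, x * w * u * (x * w)⁻¹ ∈ T := fun h => hzT fun u hu => by
        have hxinv : ∀ u ∈ T, x⁻¹ * u * x ∈ T := by
          intro u hu
          have hf : Function.Injective (fun u : T => (⟨x * u * x⁻¹, hxT u u.2⟩ : T)) := fun a b e =>
            Subtype.ext (mul_left_cancel (mul_right_cancel (congrArg Subtype.val e)))
          obtain ⟨v, hv⟩ := (Finite.injective_iff_surjective.1 hf) ⟨u, hu⟩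
          have hv' : x * (v : S) * x⁻¹ = u := congrArg Subtype.val hv
          rw [← hv']
          simpa [mul_assoc] using v.2
        have h1 := hxinv _ (h u hu)
        simpa [mul_assoc] using h1
      have h1 := hinv (x * w) (R.mul_mem hx hwR) hxw
      have e : x * w * (x * w) = x * x * (w * w) := by
        rw [mul_assoc, ← mul_assoc w x w, ← hzc x hx]; group
      rwa [e, hw2, mul_one] at h1
    · exact hx2 (hinv x hx hxT)

theorem commute_all {S : Type*} [Group S] [Finite S] (hS : IsPGroup 2 S) (Δ : Set (Subgroup S))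
    (hinv : ∀ s : S, ∀ R ∈ Δ, R.map (MulAut.conj s).toMonoidHom ∈ Δ)
    (hΦ : ∀ R ∈ Δ, frattini ↥R ≠ ⊥) (hord : ∀ R ∈ Δ, ∀ T ∈ Δ, Nat.card ↥R = Nat.card ↥T)
    (hti : ∀ R ∈ Δ, ∀ T ∈ Δ, R = T ∨ R ⊓ T = ⊥) :
    ∀ n : ℕ, ∀ R ∈ Δ, ∀ T ∈ Δ, R ≠ T → Nat.card ↥(R ⊔ T) ≤ n → ∀ r ∈ R, ∀ t ∈ T, r * t = t * r := by
  classical
  haveI : Fact (Nat.Prime 2) := ⟨Nat.prime_two⟩
  intro n
  induction n using Nat.strong_induction_on with
  | _ n ih =>
  intro R hR T hT hne hcard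
  have hbot : R ⊓ T = ⊥ := (hti R hR T hT).resolve_left hne
  have key : ∀ (A B : Subgroup S), A ∈ Δ → B ∈ Δ → A ⊔ B = R ⊔ T → A ⊓ B = ⊥ → ∀ b ∈ B,
      (∀ a ∈ A, b * a * b⁻¹ ∈ A) ∨ ((∀ a ∈ A, b * a * b⁻¹ ∈ A → a = 1) ∧
        ∀ c ∈ A, ∀ a ∈ A, c * (b * a * b⁻¹) = (b * a * b⁻¹) * c) := by
    intro A B hA hB hJ hAB b hb
    set A' := A.map (MulAut.conj b).toMonoidHom with hA'
    have hA'm : A' ∈ Δ := hinv b A hA
    have hmem : ∀ a ∈ A, b * a * b⁻¹ ∈ A' := fun a ha => Subgroup.mem_map.2 ⟨a, ha, rfl⟩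
    rcases hti A' hA'm A hA with e | e
    · exact Or.inl fun a ha => e ▸ hmem a ha
    refine Or.inr ⟨fun a ha h => ?_, ?_⟩
    · have := Subgroup.mem_inf.2 ⟨hmem a ha, h⟩
      rw [e, Subgroup.mem_bot] at this
      exact conj_eq_one_iff.1 this
    have hne' : A ≠ A' := fun h => by
      rw [← h, inf_idem] at e
      refine hΦ A hA ((Subgroup.eq_bot_iff_forall _).2 fun x _ => ?_)
      exact Subtype.ext (Subgroup.mem_bot.1 (e ▸ x.2))
    -- a maximal subgroup of `J` containing `A`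
    set J := A ⊔ B with hJdef
    have hAJ : A ≤ J := le_sup_left
    haveI : Group.IsNilpotent J := (hS.to_subgroup J).isNilpotent
    have hAtop : A.subgroupOf J ≠ ⊤ := fun h => by
      rw [Subgroup.subgroupOf_eq_top] at h
      have hBA : B ≤ A := le_sup_right.trans h
      rw [inf_eq_right.2 hBA] at hAB
      refine hΦ B hB ((Subgroup.eq_bot_iff_forall _).2 fun x _ => ?_)
      exact Subtype.ext (Subgroup.mem_bot.1 (hAB ▸ x.2))
    obtain ⟨M, hM, hAM⟩ := (eq_top_or_exists_le_coatom (A.subgroupOf J)).resolve_left hAtop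
    haveI := Subgroup.NormalizerCondition.normal_of_coatom M Group.normalizerCondition_of_isNilpotent hM
    have hle : A ⊔ A' ≤ M.map J.subtype := by
      refine sup_le (fun a ha => Subgroup.mem_map.2 ⟨⟨a, hAJ ha⟩, hAM ha, rfl⟩) ?_
      rintro _ ⟨a, ha, rfl⟩
      exact Subgroup.mem_map.2 ⟨⟨b, Subgroup.mem_sup_right hb⟩ * ⟨a, hAJ ha⟩ * ⟨b, Subgroup.mem_sup_right hb⟩⁻¹,
        ‹M.Normal›.conj_mem _ (hAM (show (⟨a, hAJ ha⟩ : J) ∈ A.subgroupOf J from ha)) _, rfl⟩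
    have hlt : Nat.card ↥(A ⊔ A') < n := by
      refine lt_of_lt_of_le (lt_of_le_of_lt (Nat.le_of_dvd Nat.card_pos (Subgroup.card_dvd_of_le hle)) ?_) (hJ ▸ hcard)
      rw [Subgroup.card_map_of_injective J.subtype_injective]
      refine lt_of_le_of_ne (Nat.le_of_dvd Nat.card_pos M.card_subgroup_dvd_card) fun h => hM.1 ?_
      exact Subgroup.eq_top_of_card_eq _ h
    intro c hc a ha
    exact ih _ hlt A hA A' hA'm hne' le_rfl c hc _ (hmem a ha)
  refine commute_core hS R T (hord R hR T hT) hbot ?_ ?_ ?_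
  · by_contra! h
    exact hΦ R hR (frattini_eq_bot_of_exp_two fun x => Subtype.ext (h x x.2))
  · exact key R T hR hT rfl hbot
  · exact key T R hT hR (sup_comm _ _) (by rw [inf_comm]; exact hbot)

/-- Let S be a finite 2-group and Δ a set of subgroups of S closed under conjugation by S, all of the same order, each with nontrivial Frattini subgroup, and such that two distinct members of Δ meet trivially. Then any two distinct members of Δ commute elementwise. -/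
theorem result {S : Type*} [Group S] [Finite S] (hS : IsPGroup 2 S)
    (Δ : Set (Subgroup S)) (hinv : ∀ s : S, ∀ R ∈ Δ, R.map (MulAut.conj s).toMonoidHom ∈ Δ)
    (hΦ : ∀ R ∈ Δ, frattini ↥R ≠ ⊥) (hord : ∀ R ∈ Δ, ∀ T ∈ Δ, Nat.card ↥R = Nat.card ↥T)
    (hti : ∀ R ∈ Δ, ∀ T ∈ Δ, R = T ∨ R ⊓ T = ⊥) :
    ∀ R ∈ Δ, ∀ T ∈ Δ, R ≠ T → ⁅R, T⁆ = ⊥ := by
  intro R hR T hT hne
  rw [Subgroup.commutator_eq_bot_iff_le_centralizer]
  intro r hr
  rw [Subgroup.mem_centralizer_iff]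
  intro t ht
  exact (commute_all hS Δ hinv hΦ hord hti _ R hR T hT hne le_rfl r hr t ht).symm

end Cfsg.Agent.S1782
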