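import Cfsg.Statements.S1783
import Cfsg.Agent.Lib.Transfer.Basic
import Cfsg.Agent.Lib.Transfer.PGroup
import Cfsg.Agent.Lib.Transfer.Hall
import Cfsg.Agent.Lib.Solvable.Coprime
import Cfsg.Agent.Lib.Components.FStar
-- import your own Cfsg.Agent.* helpers here

set_option autoImplicit false
set_option linter.style.haveILetI false
set_option linter.unusedSectionVars false
open Cfsg

namespace Cfsg.Agent.S1783

section TI

variable {X : Type*} [Group X]

/-- Abelian, trivial intersection with its other conjugates, with an element of order four. -/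
structure Good (A : Subgroup X) : Prop where
  comm : ∀ a ∈ A, ∀ b ∈ A, a * b = b * a
  ti : ∀ h : X, A.map (MulAut.conj h).toMonoidHom = A ∨ A.map (MulAut.conj h).toMonoidHom ⊓ A = ⊥
  four : ∃ x ∈ A, x ^ 4 = 1 ∧ x ^ 2 ≠ 1

theorem map_conj_map (A : Subgroup X) (g h : X) :
    (A.map (MulAut.conj g).toMonoidHom).map (MulAut.conj h).toMonoidHom =
      A.map (MulAut.conj (h * g)).toMonoidHom := by
  rw [Subgroup.map_map]; congr 1; ext x; simp [MulAut.conj_apply, mul_assoc]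

theorem mem_conj_iff {A : Subgroup X} {g x : X} :
    x ∈ A.map (MulAut.conj g).toMonoidHom ↔ g⁻¹ * x * g ∈ A := by
  constructor
  · rintro ⟨a, ha, rfl⟩
    simpa [mul_assoc] using ha
  · intro h
    exact ⟨_, h, by simp [mul_assoc]⟩

theorem Good.conj {A : Subgroup X} (hA : Good A) (g : X) :
    Good (A.map (MulAut.conj g).toMonoidHom) := by
  refine ⟨?_, fun h => ?_, ?_⟩
  · rintro _ ⟨a, ha, rfl⟩ _ ⟨b, hb, rfl⟩
    rw [← map_mul, hA.comm a ha b hb, map_mul]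
  · rw [map_conj_map, show h * g = g * (g⁻¹ * h * g) by group, ← map_conj_map]
    rcases hA.ti (g⁻¹ * h * g) with e | e
    · exact Or.inl (by rw [e])
    · refine Or.inr ?_
      rw [← Subgroup.map_inf _ _ _ (MulAut.conj g).injective, e, Subgroup.map_bot]
  · obtain ⟨x, hx, h4, h2⟩ := hA.four
    refine ⟨_, Subgroup.mem_map_of_mem _ hx, by rw [← map_pow, h4, map_one], fun e => h2 ?_⟩
    rw [← map_pow, MulEquiv.coe_toMonoidHom, MulEquiv.map_eq_one_iff] at e
    exact e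

/-- A nontrivial element of `A` is centralised only by normalisers of `A`. -/
theorem Good.eq_of_commute {A : Subgroup X} (hA : Good A) {a c : X} (ha : a ∈ A) (ha1 : a ≠ 1)
    (hc : a * c = c * a) : A.map (MulAut.conj c).toMonoidHom = A := by
  rcases hA.ti c with e | e
  · exact e
  · exfalso
    apply ha1
    rw [← Subgroup.mem_bot, ← e]
    exact ⟨mem_conj_iff.2 (by rw [mul_assoc, hc, inv_mul_cancel_left]; exact ha), ha⟩

theorem conj_mem {A : Subgroup X} {c x : X} (h : A.map (MulAut.conj c).toMonoidHom = A) (hx : x ∈ A) :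
    c * x * c⁻¹ ∈ A := by
  rw [← h]; exact ⟨x, hx, rfl⟩

theorem sq_comm {x b : X} (h : (x * b * x⁻¹ * b⁻¹) * x = x * (x * b * x⁻¹ * b⁻¹)) :
    x ^ 2 * b * (x ^ 2)⁻¹ * b⁻¹ = (x * b * x⁻¹ * b⁻¹) ^ 2 := by
  rw [pow_two, pow_two]
  calc x * x * b * (x * x)⁻¹ * b⁻¹ = x * (x * b * x⁻¹ * b⁻¹) * (b * x⁻¹ * b⁻¹) := by group
    _ = (x * b * x⁻¹ * b⁻¹) * x * (b * x⁻¹ * b⁻¹) := by rw [h]
    _ = _ := by group

theorem comm_sq {x b : X} (h : (x * b * x⁻¹ * b⁻¹) * b = b * (x * b * x⁻¹ * b⁻¹)) :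
    x * b ^ 2 * x⁻¹ * (b ^ 2)⁻¹ = (x * b * x⁻¹ * b⁻¹) ^ 2 := by
  rw [pow_two, pow_two]
  calc x * (b * b) * x⁻¹ * (b * b)⁻¹
      = (x * b * x⁻¹ * b⁻¹) * (b * (x * b * x⁻¹ * b⁻¹)) * b⁻¹ := by group
    _ = (x * b * x⁻¹ * b⁻¹) * ((x * b * x⁻¹ * b⁻¹) * b) * b⁻¹ := by rw [h]
    _ = _ := by group

theorem eq_of_comm_eq_one {x b : X} (h : x * b * x⁻¹ * b⁻¹ = 1) : x * b = b * x := by
  rw [mul_inv_eq_one, mul_inv_eq_iff_eq_mul] at h; exact h

/-- Inside a `2`-group, the conjugates of a good subgroup commute with each other. -/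
theorem comm_conj [Finite X] : ∀ n : ℕ, ∀ A : Subgroup X, Good A → ∀ g : X,
    IsPGroup 2 ↥(A ⊔ A.map (MulAut.conj g).toMonoidHom) →
    Nat.card ↥(A ⊔ A.map (MulAut.conj g).toMonoidHom) = n →
    ∀ a ∈ A, ∀ b ∈ A.map (MulAut.conj g).toMonoidHom, a * b = b * a := by
  intro n
  induction n using Nat.strong_induction_on with
  | _ n ih =>
  intro A hA g hp hn
  haveI : Fact (Nat.Prime 2) := ⟨Nat.prime_two⟩
  set B := A.map (MulAut.conj g).toMonoidHom with hBdef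
  by_cases hBA : B = A
  · rw [hBA]; exact hA.comm
  have hB : Good B := hA.conj g
  have hint : ∀ x ∈ A, x ∈ B → x = 1 := by
    intro x hx hxB
    rcases hA.ti g with e | e
    · exact absurd e hBA
    · rw [← Subgroup.mem_bot, ← e]; exact ⟨hxB, hx⟩
  -- a good subgroup inside `L` commutes with its conjugates under `L`
  set L := A ⊔ B with hL
  have key : ∀ C : Subgroup X, Good C → C ≤ L → C ≠ L → ∀ l ∈ L,
      ∀ a ∈ C, ∀ b ∈ C.map (MulAut.conj l).toMonoidHom, a * b = b * a := by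
    intro C hC hCL hne l hl
    haveI := hp.isNilpotent
    have hne' : C.subgroupOf L ≠ ⊤ := fun e => hne (le_antisymm hCL (Subgroup.subgroupOf_eq_top.1 e))
    obtain ⟨M, hM, hCM⟩ := (IsCoatomic.eq_top_or_exists_le_coatom (C.subgroupOf L)).resolve_left hne'
    haveI : M.Normal := TransferHall.normal_of_isCoatom hM
    have hle : C ⊔ C.map (MulAut.conj l).toMonoidHom ≤ M.map L.subtype := by
      refine sup_le ?_ ?_
      · exact fun x hx => ⟨⟨x, hCL hx⟩, hCM hx, rfl⟩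
      · rintro _ ⟨x, hx, rfl⟩
        exact ⟨⟨l, hl⟩ * ⟨x, hCL hx⟩ * ⟨l, hl⟩⁻¹,
          Subgroup.Normal.conj_mem inferInstance _ (hCM hx) _, rfl⟩
    have hlt : Nat.card ↥(C ⊔ C.map (MulAut.conj l).toMonoidHom) < n := by
      refine lt_of_le_of_lt (Subgroup.card_le_of_le hle) ?_
      rw [Subgroup.card_map_of_injective L.subtype_injective, ← hn]
      exact lt_of_le_of_ne (Subgroup.card_le_card_group M)
        fun e => hM.1 (Subgroup.eq_top_of_card_eq M e)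
    exact ih _ hlt C hC l (hp.to_le (hle.trans (Subgroup.map_subtype_le M))) rfl
  have hAne : A ≠ L := fun e => hBA (Subgroup.eq_of_le_of_card_ge (e ▸ le_sup_right)
    (by rw [hBdef, Subgroup.card_map_of_injective (MulAut.conj g).injective]))
  have hBne : B ≠ L := fun e => hBA (Subgroup.eq_of_le_of_card_ge (e ▸ le_sup_left)
    (by rw [hBdef, Subgroup.card_map_of_injective (MulAut.conj g).injective])).symm
  have hzA : ∀ x ∈ A, ∀ b ∈ B, (x * b * x⁻¹ * b⁻¹) * x = x * (x * b * x⁻¹ * b⁻¹) := by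
    intro x hx b hb
    have := key A hA le_sup_left hAne b (Subgroup.mem_sup_right hb) x hx (b * x⁻¹ * b⁻¹)
      ⟨x⁻¹, inv_mem hx, rfl⟩
    calc (x * b * x⁻¹ * b⁻¹) * x = x * (b * x⁻¹ * b⁻¹ * x) := by group
      _ = x * (x * (b * x⁻¹ * b⁻¹)) := by rw [this]
      _ = _ := by group
  have hzB : ∀ x ∈ A, ∀ b ∈ B, (x * b * x⁻¹ * b⁻¹) * b = b * (x * b * x⁻¹ * b⁻¹) := by
    intro x hx b hb
    have := key B hB le_sup_right hBne x (Subgroup.mem_sup_left hx) b hb (x * b * x⁻¹)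
      ⟨b, hb, rfl⟩
    calc (x * b * x⁻¹ * b⁻¹) * b = (x * b * x⁻¹) * (b⁻¹ * b) := by group
      _ = b * (x * b * x⁻¹) * b⁻¹ := by rw [this]; group
      _ = _ := by group
  have hsqA : ∀ b ∈ B, A.map (MulAut.conj (b ^ 2)).toMonoidHom = A := by
    intro b hb
    obtain ⟨x, hx, h4, h2⟩ := hA.four
    have hx2 : x ^ 2 ∈ A := pow_mem hx 2
    refine hA.eq_of_commute hx2 h2 (eq_of_comm_eq_one ?_)
    rw [comm_sq (hzB _ hx2 b hb), ← sq_comm (hzA _ hx2 b hb), ← pow_mul, h4]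
    group
  have hsqB : ∀ x ∈ A, B.map (MulAut.conj (x ^ 2)).toMonoidHom = B := by
    intro x hx
    obtain ⟨y, hy, h4, h2⟩ := hB.four
    have hy2 : y ^ 2 ∈ B := pow_mem hy 2
    refine hB.eq_of_commute hy2 h2 (eq_of_comm_eq_one ?_).symm
    rw [sq_comm (hzA x hx _ hy2), ← comm_sq (hzB x hx _ hy2), ← pow_mul, h4]
    group
  have hsq : ∀ x ∈ A, ∀ b ∈ B, x ^ 2 * b = b * x ^ 2 ∧ x * b ^ 2 = b ^ 2 * x := by
    intro x hx b hb
    have hA' : x * b ^ 2 * x⁻¹ * (b ^ 2)⁻¹ ∈ A := by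
      rw [show x * b ^ 2 * x⁻¹ * (b ^ 2)⁻¹ = x * (b ^ 2 * x⁻¹ * (b ^ 2)⁻¹) by group]
      exact mul_mem hx (conj_mem (hsqA b hb) (inv_mem hx))
    have hB' : x ^ 2 * b * (x ^ 2)⁻¹ * b⁻¹ ∈ B := mul_mem (conj_mem (hsqB x hx) hb) (inv_mem hb)
    rw [sq_comm (hzA x hx b hb)] at hB'
    rw [comm_sq (hzB x hx b hb)] at hA'
    have h1 := hint _ hA' hB'
    exact ⟨eq_of_comm_eq_one (by rw [sq_comm (hzA x hx b hb), h1]),
      eq_of_comm_eq_one (by rw [comm_sq (hzB x hx b hb), h1])⟩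
  intro a ha b hb
  obtain ⟨x, hx, -, hx2⟩ := hA.four
  obtain ⟨y, hy, -, hy2⟩ := hB.four
  refine eq_of_comm_eq_one (hint _ ?_ ?_)
  · rw [show a * b * a⁻¹ * b⁻¹ = a * (b * a⁻¹ * b⁻¹) by group]
    exact mul_mem ha (conj_mem (hA.eq_of_commute (pow_mem hx 2) hx2 (hsq x hx b hb).1) (inv_mem ha))
  · exact mul_mem (conj_mem (hB.eq_of_commute (pow_mem hy 2) hy2 (hsq a ha y hy).2.symm) hb) (inv_mem hb)

theorem exists_four [Finite X] {A : Subgroup X} (hA2 : IsPGroup 2 ↥A) {x : X} (hx : x ∈ A)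
    (h : x ^ 2 ≠ 1) : ∃ y ∈ A, y ^ 4 = 1 ∧ y ^ 2 ≠ 1 := by
  haveI : Fact (Nat.Prime 2) := ⟨Nat.prime_two⟩
  obtain ⟨k, hk⟩ := IsPGroup.iff_orderOf.1 hA2 ⟨x, hx⟩
  rw [Subgroup.orderOf_mk] at hk
  rcases Nat.lt_or_ge k 2 with hk2 | hk2
  · exfalso
    apply h
    rw [← orderOf_dvd_iff_pow_eq_one, hk]
    exact (pow_dvd_pow 2 (Nat.lt_succ_iff.1 hk2)).trans (pow_one 2).dvd
  · obtain ⟨j, rfl⟩ := Nat.exists_eq_add_of_le hk2
    refine ⟨x ^ 2 ^ j, pow_mem hx _, ?_, ?_⟩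
    · rw [← pow_mul, ← orderOf_dvd_iff_pow_eq_one, hk, pow_add, mul_comm]; norm_num
    · rw [← pow_mul, Ne, ← orderOf_dvd_iff_pow_eq_one, hk, ← pow_succ,
        Nat.pow_dvd_pow_iff_le_right (by norm_num)]
      omega

end TI

/-- Let X be a finite group whose generalized Fitting subgroup equals its largest normal 2-subgroup Q, and let A be an abelian 2-subgroup of X such that every conjugate of A equals A or meets A trivially. Let B be the subgroup generated by the squares of the elements of A. Then B lies in Q, and if B is not an elementary abelian 2-group then the normal closure of B in X is commutative. -/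
theorem result {X : Type*} [Group X] [Finite X]
    (hX : Cfsg.generalizedFittingSubgroup X = Cfsg.pCore 2 X) (A : Subgroup X) (hA2 : IsPGroup 2 ↥A) (hAa : IsMulCommutative ↥A)
    (hti : ∀ h : X, A.map (MulAut.conj h).toMonoidHom = A ∨ A.map (MulAut.conj h).toMonoidHom ⊓ A = ⊥) :
    Subgroup.closure ((fun a : X => a ^ 2) '' (A : Set X)) ≤ Cfsg.pCore 2 X ∧
      (¬ Cfsg.IsElementaryAbelian 2 (Subgroup.closure ((fun a : X => a ^ 2) '' (A : Set X))) →
        IsMulCommutative ↥(Subgroup.normalClosure ((fun a : X => a ^ 2) '' (A : Set X)))) := by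
  classical
  haveI : Fact (Nat.Prime 2) := ⟨Nat.prime_two⟩
  set Q := Cfsg.pCore 2 X with hQ
  haveI hQn : Q.Normal := Cfsg.pCore_normal 2 X
  have hQp : IsPGroup 2 Q := PBasic.pCore_isPGroup 2 X
  have hCQ : Subgroup.centralizer (Q : Set X) ≤ Q := by
    rw [← hX]; exact Components.centralizer_generalizedFitting_le
  have hAc : ∀ a ∈ A, ∀ b ∈ A, a * b = b * a := fun a ha b hb =>
    congrArg Subtype.val (hAa.is_comm.comm (⟨a, ha⟩ : A) ⟨b, hb⟩)
  -- the squares lie in `Q`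
  have hBQ : ∀ a ∈ A, a ^ 2 ∈ Q := by
    intro a ha
    by_cases ha2 : a ^ 2 = 1
    · rw [ha2]; exact one_mem Q
    have hG : Good A := ⟨hAc, hti, exists_four hA2 ha ha2⟩
    set Φ := (frattini ↥Q).map Q.subtype with hΦ
    haveI : Φ.Normal := inferInstance
    set π := QuotientGroup.mk' Φ with hπ
    set D := (Subgroup.centralizer (Q.map π : Set (X ⧸ Φ))).comap π with hD
    haveI : (Q.map π).Normal := Subgroup.Normal.map inferInstance π (QuotientGroup.mk'_surjective Φ)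
    haveI hDn : D.Normal := inferInstance
    have hDp : IsPGroup 2 D := by
      refine PBasic.isPGroup_iff_forall_coprime.2 fun y hy => ?_
      have hy' : (orderOf (y : X)).Coprime 2 := by rwa [Subgroup.orderOf_coe]
      have hyQ : Subgroup.zpowers (y : X) ≤ Subgroup.centralizer (Q : Set X) := by
        refine CoprimeAct.le_centralizer_of_frattini (by rw [Subgroup.normalizer_eq_top]; exact le_top)
          ?_ fun b hb q hq => ?_
        · obtain ⟨n, hn⟩ := IsPGroup.iff_card.1 (hQp.to_subgroup (frattini ↥Q))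
          rw [Nat.card_zpowers, hn]
          exact hy'.pow_right n
        · have hbD : b ∈ D := (Subgroup.zpowers_le.2 y.2) hb
          have h2 := Subgroup.mem_centralizer_iff.1 hbD _ (Subgroup.mem_map_of_mem π hq)
          rw [← QuotientGroup.eq_one_iff]
          change π (b * q * b⁻¹ * q⁻¹) = 1
          rw [map_mul, map_mul, map_mul, map_inv, map_inv, ← h2]
          group
      exact Subtype.ext (PBasic.eq_one_of_isPGroup_of_coprime hQp (hCQ (hyQ (Subgroup.mem_zpowers _))) hy')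
    refine PBasic.le_pCore hDn hDp (Subgroup.mem_centralizer_iff.2 ?_)
    rintro _ ⟨q, hq, rfl⟩
    set c := a * q * a⁻¹ * q⁻¹ with hc
    have hcQ : c ∈ Q := mul_mem (hQn.conj_mem q hq a) (inv_mem hq)
    have hca : c * a = a * c := by
      have hle : A ⊔ A.map (MulAut.conj q).toMonoidHom ≤ A ⊔ Q := sup_le le_sup_left (by
        rintro _ ⟨x, hx, rfl⟩
        exact mul_mem (mul_mem (Subgroup.mem_sup_right hq) (Subgroup.mem_sup_left hx))
          (inv_mem (Subgroup.mem_sup_right hq)))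
      have hp : IsPGroup 2 ↥(A ⊔ Q) := IsPGroup.to_sup_of_normal_right hA2 hQp
      have := comm_conj _ A hG q (hp.to_le hle) rfl a ha (q * a⁻¹ * q⁻¹) ⟨a⁻¹, inv_mem ha, rfl⟩
      calc c * a = a * (q * a⁻¹ * q⁻¹ * a) := by rw [hc]; group
        _ = a * (a * (q * a⁻¹ * q⁻¹)) := by rw [this]
        _ = a * c := by rw [hc]; group
    have hsq : π (a ^ 2 * q * (a ^ 2)⁻¹ * q⁻¹) = 1 := by
      rw [sq_comm hca, ← hc]
      exact (QuotientGroup.eq_one_iff _).2
        ⟨⟨c, hcQ⟩ ^ 2, PGroupBasics.pow_mem_frattini hQp _, rfl⟩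
    rw [map_mul, map_mul, map_mul, map_inv, map_inv] at hsq
    exact (eq_of_comm_eq_one hsq).symm
  refine ⟨(Subgroup.closure_le _).2 (by rintro _ ⟨a, ha, rfl⟩; exact hBQ a ha), fun hne => ?_⟩
  obtain ⟨x, hxA, hxQ, hx2⟩ : ∃ x ∈ A, x ∈ Q ∧ x ^ 2 ≠ 1 := by
    by_contra h
    push Not at h
    have hle : Subgroup.closure ((fun a : X => a ^ 2) '' (A : Set X)) ≤ A ⊓ Q :=
      (Subgroup.closure_le _).2 (by rintro _ ⟨a, ha, rfl⟩; exact ⟨pow_mem ha 2, hBQ a ha⟩)
    exact hne ⟨⟨⟨fun a b => Subtype.ext (hAc a (hle a.2).1 b (hle b.2).1)⟩⟩,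
      fun a ha => h a (hle ha).1 (hle ha).2⟩
  have hG : Good (A ⊓ Q) := by
    refine ⟨fun a ha b hb => hAc a ha.1 b hb.1, fun h => ?_,
      exists_four (hA2.to_le inf_le_left) ⟨hxA, hxQ⟩ hx2⟩
    rcases hti h with e | e
    · refine Or.inl ?_
      rw [Subgroup.map_inf _ _ _ (MulAut.conj h).injective, e]
      congr 1
      ext y
      rw [mem_conj_iff]
      exact ⟨fun hy => by simpa [mul_assoc] using hQn.conj_mem _ hy h,
        fun hy => hQn.conj_mem' y hy h⟩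
    · exact Or.inr (eq_bot_iff.2 ((inf_le_inf (Subgroup.map_mono inf_le_left) inf_le_left).trans e.le))
  refine ⟨⟨fun a b => Subtype.ext ?_⟩⟩
  suffices hc : Subgroup.normalClosure ((fun a : X => a ^ 2) '' (A : Set X)) ≤
      Subgroup.centralizer (Subgroup.normalClosure ((fun a : X => a ^ 2) '' (A : Set X)) : Set X) from
    (Subgroup.mem_centralizer_iff.1 (hc a.2) b b.2).symm
  unfold Subgroup.normalClosure
  rw [Subgroup.closure_le, Subgroup.centralizer_closure]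
  intro u hu v hv
  obtain ⟨_, ⟨a', ha', rfl⟩, hu⟩ := Group.mem_conjugatesOfSet_iff.1 hu
  obtain ⟨_, ⟨b', hb', rfl⟩, hv⟩ := Group.mem_conjugatesOfSet_iff.1 hv
  obtain ⟨g, rfl⟩ := isConj_iff.1 hu
  obtain ⟨k, rfl⟩ := isConj_iff.1 hv
  have hle : A ⊓ Q ⊔ (A ⊓ Q).map (MulAut.conj (g⁻¹ * k)).toMonoidHom ≤ Q := sup_le inf_le_right (by
    rintro _ ⟨y, hy, rfl⟩
    exact hQn.conj_mem y hy.2 _)
  have h := comm_conj _ _ hG (g⁻¹ * k) (hQp.to_le hle) rfl _ ⟨pow_mem ha' 2, hBQ a' ha'⟩ _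
    ⟨_, ⟨pow_mem hb' 2, hBQ b' hb'⟩, rfl⟩
  rw [MulEquiv.coe_toMonoidHom, MulAut.conj_apply] at h
  calc k * b' ^ 2 * k⁻¹ * (g * a' ^ 2 * g⁻¹)
      = g * ((g⁻¹ * k) * b' ^ 2 * (g⁻¹ * k)⁻¹ * a' ^ 2) * g⁻¹ := by group
    _ = g * (a' ^ 2 * ((g⁻¹ * k) * b' ^ 2 * (g⁻¹ * k)⁻¹)) * g⁻¹ := by rw [h]
    _ = _ := by group

end Cfsg.Agent.S1783
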