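import Cfsg.Statements.S1784
import Cfsg.Agent.Lib.Extraspecial.InvolutionAut
import Cfsg.Agent.Lib.Components.FStar
open scoped Pointwise

set_option autoImplicit false
open Cfsg

namespace Cfsg.Agent.S1784


/-- Let G be a finite group and let z be an involution of G such that Q, the generalized Fitting subgroup of the centralizer C of z, is a 2-group of symplectic type (every characteristic abelian subgroup of Q is cyclic); suppose Q is extraspecial, and view Q inside G. Let α be an involution of C that is not in Q, and let Q₀ be the subgroup of those q ∈ Q whose commutator with α lies in the subgroup generated by z. Then (a) the subgroup generated by the commutators α q α⁻¹ q⁻¹, q ∈ Q, equals the centre of Q₀; and (b) if Q₀ is not contained in the product of the centralizer of α in Q with the subgroup generated by z, then some element of Q conjugates α to α z. -/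
theorem result {G : Type*} [Group G] [Finite G] (z : G) (hz : orderOf z = 2) (hQ : Cfsg.IsOfSymplecticType ↥(Cfsg.generalizedFittingSubgroup ↥(Subgroup.centralizer ({z} : Set G)))) (hE : Cfsg.IsExtraspecial 2 ↥(Cfsg.generalizedFittingSubgroup ↥(Subgroup.centralizer ({z} : Set G))))
    (α : G) (hα : orderOf α = 2) (hαC : α ∈ Subgroup.centralizer ({z} : Set G)) (hαQ : α ∉ (Cfsg.generalizedFittingSubgroup ↥(Subgroup.centralizer ({z} : Set G))).map (Subgroup.centralizer ({z} : Set G)).subtype)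
    (Q₀ : Subgroup G) (hQ₀ : ∀ q : G, q ∈ Q₀ ↔ (q ∈ (Cfsg.generalizedFittingSubgroup ↥(Subgroup.centralizer ({z} : Set G))).map (Subgroup.centralizer ({z} : Set G)).subtype ∧ α * q * α⁻¹ * q⁻¹ ∈ Subgroup.zpowers z)) :
    Subgroup.closure ((fun q : G => α * q * α⁻¹ * q⁻¹) '' ((Cfsg.generalizedFittingSubgroup ↥(Subgroup.centralizer ({z} : Set G))).map (Subgroup.centralizer ({z} : Set G)).subtype : Set G)) = (Subgroup.center ↥Q₀).map Q₀.subtype ∧
      (¬ Q₀ ≤ ((Cfsg.generalizedFittingSubgroup ↥(Subgroup.centralizer ({z} : Set G))).map (Subgroup.centralizer ({z} : Set G)).subtype ⊓ Subgroup.centralizer ({α} : Set G)) ⊔ Subgroup.zpowers z →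
        ∃ q ∈ (Cfsg.generalizedFittingSubgroup ↥(Subgroup.centralizer ({z} : Set G))).map (Subgroup.centralizer ({z} : Set G)).subtype, q * α * q⁻¹ = α * z) := by
  set C := Subgroup.centralizer ({z} : Set G) with hCdef
  set Qc := Cfsg.generalizedFittingSubgroup C with hQc
  haveI : Qc.Normal := Cfsg.Agent.Components.generalizedFitting_normal
  set a : C := ⟨α, hαC⟩
  have haQ : a ∉ Qc := fun h => hαQ ⟨a, h, rfl⟩
  have hzC : z ∈ C := Subgroup.mem_centralizer_singleton_iff.2 rfl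
  have hzcen : (⟨z, hzC⟩ : C) ∈ Subgroup.centralizer (Qc : Set C) := by
    rw [Subgroup.mem_centralizer_iff]
    exact fun q _ => Subtype.ext (Subgroup.mem_centralizer_singleton_iff.1 q.2)
  have hzQ : (⟨z, hzC⟩ : C) ∈ Qc := Cfsg.Agent.Components.centralizer_generalizedFitting_le hzcen
  have hzZ : (⟨⟨z, hzC⟩, hzQ⟩ : Qc) ∈ Subgroup.center Qc :=
    Subgroup.mem_center_iff.2 fun q => Subtype.ext (Subgroup.mem_centralizer_iff.1 hzcen q q.2)
  have hZ : Subgroup.center Qc = Subgroup.zpowers (⟨⟨z, hzC⟩, hzQ⟩ : Qc) := by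
    refine (Subgroup.eq_of_le_of_card_ge (Subgroup.zpowers_le.2 hzZ) ?_).symm
    rw [hE.2, Nat.card_zpowers, ← Subgroup.orderOf_coe, ← Subgroup.orderOf_coe]
    exact hz.ge
  have hmemZ : ∀ q : Qc, q ∈ Subgroup.center Qc ↔ ((q : C) : G) ∈ Subgroup.zpowers z := by
    intro q
    rw [hZ, Subgroup.mem_zpowers_iff, Subgroup.mem_zpowers_iff]
    exact exists_congr fun k => ⟨fun e => by simp [← e], fun e => Subtype.ext (Subtype.ext (by simpa using e))⟩
  set β : Qc ≃* Qc := (MulAut.conjNormal a : MulAut Qc) with hβdef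
  have hβe : ∀ q : Qc, ((β q : C) : G) = α * ((q : C) : G) * α⁻¹ := fun q => rfl
  have hα2 : α * α = 1 := by rw [← pow_two, ← hα]; exact pow_orderOf_eq_one α
  have hαinv : α⁻¹ = α := inv_eq_of_mul_eq_one_left hα2
  have hβ : ∀ q, β (β q) = q := fun q => Subtype.ext (Subtype.ext (by
    rw [hβe, hβe, hαinv]
    calc α * (α * ((q : C) : G) * α) * α = α * α * ((q : C) : G) * (α * α) := by group
      _ = _ := by rw [hα2, one_mul, mul_one]))
  have hne : ∃ q, β q ≠ q := by
    by_contra h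
    push Not at h
    refine haQ (Cfsg.Agent.Components.centralizer_generalizedFitting_le
      (Subgroup.mem_centralizer_iff.2 fun q hq => ?_))
    have h1 : a * q * a⁻¹ = q := congrArg Subtype.val (h ⟨q, hq⟩)
    exact (mul_inv_eq_iff_eq_mul.1 h1).symm
  set V : Subgroup Qc := (Q₀.subgroupOf C).subgroupOf Qc
  have hV : ∀ q, q ∈ V ↔ β q * q⁻¹ ∈ Subgroup.center Qc := fun q => by
    rw [Subgroup.mem_subgroupOf, Subgroup.mem_subgroupOf, hQ₀, hmemZ]
    exact ⟨fun h => h.2, fun h => ⟨⟨q, q.2, rfl⟩, h⟩⟩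
  have key := Cfsg.Agent.XSInvol.centre_fix_mod hE β hβ hne _ rfl V hV
  constructor
  · have h1 := congrArg (Subgroup.map (C.subtype.comp Qc.subtype)) key
    rw [MonoidHom.map_closure] at h1
    refine Eq.trans ?_ (h1.symm.trans ?_)
    · congr 1
      ext y
      constructor
      · rintro ⟨_, ⟨q, hq, rfl⟩, rfl⟩
        exact ⟨_, ⟨⟨q, hq⟩, rfl⟩, rfl⟩
      · rintro ⟨_, ⟨q, rfl⟩, rfl⟩
        exact ⟨_, ⟨q, q.2, rfl⟩, rfl⟩
    · ext y
      constructor
      · rintro ⟨q, ⟨hqV, hqC⟩, rfl⟩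
        refine ⟨⟨_, hqV⟩, Subgroup.mem_center_iff.2 fun r => Subtype.ext ?_, rfl⟩
        obtain ⟨⟨r', hr', hre⟩, -⟩ := (hQ₀ _).1 r.2
        have h2 := Subgroup.mem_centralizer_iff.1 hqC ⟨r', hr'⟩ (show r' ∈ Q₀.subgroupOf C from by
          rw [Subgroup.mem_subgroupOf, show (r' : G) = r from hre]; exact r.2)
        rw [Subgroup.coe_mul, Subgroup.coe_mul, ← hre]
        exact congrArg (fun w : Qc => ((w : C) : G)) h2
      · rintro ⟨⟨q, hq0⟩, hqc, rfl⟩
        obtain ⟨⟨q', hq', rfl⟩, -⟩ := (hQ₀ _).1 hq0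
        refine ⟨⟨q', hq'⟩, ⟨hq0, Subgroup.mem_centralizer_iff.2 fun r hr => Subtype.ext (Subtype.ext ?_)⟩, rfl⟩
        exact congrArg (fun w : Q₀ => (w : G)) (Subgroup.mem_center_iff.1 hqc ⟨_, hr⟩)
  · intro hle
    by_contra hno
    push Not at hno
    refine hle fun q hq => Subgroup.mem_sup_left ?_
    obtain ⟨hqQ, hqc⟩ := (hQ₀ q).1 hq
    refine ⟨hqQ, Subgroup.mem_centralizer_singleton_iff.2 ?_⟩
    obtain ⟨k, hk : z ^ k = α * q * α⁻¹ * q⁻¹⟩ := Subgroup.mem_zpowers_iff.1 hqc
    rw [← zpow_mod_orderOf, hz] at hk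
    rcases Int.emod_two_eq_zero_or_one k with h0 | h0
    · rw [show ((2 : ℕ) : ℤ) = 2 from rfl, h0, zpow_zero] at hk
      rw [eq_comm, mul_inv_eq_one, mul_inv_eq_iff_eq_mul] at hk
      exact hk.symm
    · rw [show ((2 : ℕ) : ℤ) = 2 from rfl, h0, zpow_one] at hk
      refine absurd ?_ (hno q hqQ)
      rw [hk]
      calc q * α * q⁻¹ = α * α * q * α * q⁻¹ := by rw [hα2, one_mul]
        _ = α * (α * q * α⁻¹ * q⁻¹) := by rw [hαinv]; group

end Cfsg.Agent.S1784
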