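import Cfsg.Statements.S1785
import Cfsg.Agent.Lib.Classification.ElemAb


set_option autoImplicit false
open Cfsg

namespace Cfsg.Agent.S1785

/-- the adjacency relation -/
abbrev Adj {X : Type*} [Group X] (C D : Subgroup X) : Prop :=
  Cfsg.IsElementaryAbelian 2 C ∧ Nat.card ↥C = 8 ∧ Cfsg.IsElementaryAbelian 2 D ∧ Nat.card ↥D = 8 ∧ ⁅C, D⁆ = ⊥

variable {X : Type*} [Group X] [Finite X] (E : Subgroup X) [E.Normal]

theorem fixed_one (hE : Cfsg.IsElementaryAbelian 2 E) (hE32 : 32 ≤ Nat.card E) {v : X} (hv : v ^ 2 = 1) :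
    8 ≤ Nat.card ↥(E ⊓ Subgroup.centralizer {v}) := by
  have h := ElemAb.card_le_sq_fixed hE (v := v) (by rw [Subgroup.normalizer_eq_top]; trivial)
    (by rw [← sq, hv]; exact one_mem _)
  obtain ⟨n, hn⟩ := ElemAb.card_eq_pow (ElemAb.of_le hE (inf_le_left (b := Subgroup.centralizer {v})))
  rw [hn] at h ⊢
  rcases n with - | - | - | n
  · simp only [Nat.zero_add, pow_zero, pow_succ] at h; omega
  · simp only [Nat.zero_add, pow_zero, pow_succ] at h; omega
  · simp only [Nat.zero_add, pow_zero, pow_succ] at h; omega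
  · exact le_trans (by norm_num) (Nat.pow_le_pow_right (n := 2) (by norm_num) (show 3 ≤ n + 3 by omega))

theorem fixed_two (hE : Cfsg.IsElementaryAbelian 2 E) (hE32 : 32 ≤ Nat.card E) {v w : X} (hv : v ^ 2 = 1)
    (hw : w ^ 2 = 1) (hvw : w * v = v * w) :
    4 ≤ Nat.card ↥(E ⊓ Subgroup.centralizer {v} ⊓ Subgroup.centralizer {w}) := by
  have h8 := fixed_one E hE hE32 hv
  have hK := ElemAb.of_le hE (inf_le_left (b := Subgroup.centralizer {v}))
  have h := ElemAb.card_le_sq_fixed hK (v := w) (ElemAb.le_normalizer_centralizer_inf hvw)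
    (by rw [← sq, hw]; exact one_mem _)
  obtain ⟨n, hn⟩ := ElemAb.card_eq_pow (ElemAb.of_le hK (inf_le_left (b := Subgroup.centralizer {w})))
  rw [hn] at h ⊢
  rcases n with - | - | n
  · simp only [Nat.zero_add, pow_zero, pow_succ] at h; omega
  · simp only [Nat.zero_add, pow_zero, pow_succ] at h; omega
  · exact le_trans (by norm_num) (Nat.pow_le_pow_right (n := 2) (by norm_num) (show 2 ≤ n + 2 by omega))

theorem klein_gen {V : Subgroup X} (hV : Cfsg.IsElementaryAbelian 2 V) (hc : Nat.card V = 4) :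
    ∃ u w, u ∈ V ∧ w ∈ V ∧ u * w = w * u ∧ u ≠ 1 ∧ V = Subgroup.zpowers u ⊔ Subgroup.zpowers w := by
  obtain ⟨u, hu, hu1⟩ := ElemAb.exists_mem_not_mem_of_card_lt (E := V) (V := (⊥ : Subgroup X))
    (by rw [Subgroup.card_bot]; omega)
  have hu1' : u ≠ 1 := fun h => hu1 (Subgroup.mem_bot.2 h)
  obtain ⟨hzu, hzu2⟩ := ElemAb.zpowers_inv (hV.2 u hu) hu1'
  obtain ⟨w, hw, hwu⟩ := ElemAb.exists_mem_not_mem_of_card_lt (E := V) (V := Subgroup.zpowers u) (by omega)
  obtain ⟨-, h2⟩ := ElemAb.adjoin hzu (hV.2 w hw)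
    (fun a ha => ElemAb.comm hV (Subgroup.zpowers_le.2 hu ha) hw) hwu
  refine ⟨u, w, hu, hw, ElemAb.comm hV hu hw, hu1', (Subgroup.eq_of_le_of_card_ge
    (sup_le (Subgroup.zpowers_le.2 hu) (Subgroup.zpowers_le.2 hw)) (by rw [h2, hzu2, hc])).symm⟩

theorem extend_klein (hE : Cfsg.IsElementaryAbelian 2 E) (hE32 : 32 ≤ Nat.card E) {V : Subgroup X}
    (hV : Cfsg.IsElementaryAbelian 2 V) (hc : Nat.card V = 4) :
    ∃ A, V ≤ A ∧ Cfsg.IsElementaryAbelian 2 A ∧ Nat.card A = 8 := by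
  obtain ⟨u, w, hu, hw, huw, -, hgen⟩ := klein_gen hV hc
  by_cases h : ∃ e ∈ E ⊓ Subgroup.centralizer {u} ⊓ Subgroup.centralizer {w}, e ∉ V
  · obtain ⟨e, ⟨⟨heE, heu⟩, hew⟩, heV⟩ := h
    have hc' : ∀ x ∈ V, x * e = e * x := by
      intro x hx
      rw [hgen] at hx
      have : Subgroup.zpowers u ⊔ Subgroup.zpowers w ≤ Subgroup.centralizer {e} :=
        sup_le (Subgroup.zpowers_le.2 (Subgroup.mem_centralizer_singleton_iff.2
            (Subgroup.mem_centralizer_singleton_iff.1 heu).symm))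
          (Subgroup.zpowers_le.2 (Subgroup.mem_centralizer_singleton_iff.2
            (Subgroup.mem_centralizer_singleton_iff.1 hew).symm))
      exact Subgroup.mem_centralizer_singleton_iff.1 (this hx)
    obtain ⟨h1, h2⟩ := ElemAb.adjoin hV (hE.2 e heE) hc' heV
    exact ⟨_, le_sup_left, h1, by rw [h2, hc]⟩
  · push Not at h
    have h4 := fixed_two E hE hE32 (hV.2 u hu) (hV.2 w hw) huw.symm
    have heq := Subgroup.eq_of_le_of_card_ge (fun e he => h e he :
      E ⊓ Subgroup.centralizer {u} ⊓ Subgroup.centralizer {w} ≤ V) (by omega)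
    have hVE : V ≤ E := heq ▸ inf_le_left.trans inf_le_left
    obtain ⟨W, hVW, hWE, hW⟩ := ElemAb.exists_le_card hE hVE 3 (by omega) (by omega)
    exact ⟨W, hVW, ElemAb.of_le hE hWE, hW⟩

theorem adj_of_le {C D : Subgroup X} (hC : Cfsg.IsElementaryAbelian 2 C) (hC8 : Nat.card C = 8)
    (hD : Cfsg.IsElementaryAbelian 2 D) (hD8 : Nat.card D = 8) (h : C ≤ Subgroup.centralizer (D : Set X)) :
    Adj C D :=
  ⟨hC, hC8, hD, hD8, Subgroup.commutator_eq_bot_iff_le_centralizer.2 h⟩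

theorem path_to_normal (hE : Cfsg.IsElementaryAbelian 2 E) (hE32 : 32 ≤ Nat.card E) {A : Subgroup X}
    (hA : Cfsg.IsElementaryAbelian 2 A) (hA8 : Nat.card A = 8) :
    ∃ F, F ≤ E ∧ Cfsg.IsElementaryAbelian 2 F ∧ Nat.card F = 8 ∧ Relation.ReflTransGen Adj A F := by
  by_cases hAE : A ≤ E
  · exact ⟨A, hAE, hA, hA8, .refl⟩
  obtain ⟨v, hv, hvE⟩ := SetLike.not_le_iff_exists.1 hAE
  have hv1 : v ≠ 1 := fun h => hvE (h ▸ one_mem E)
  by_cases hcase : ∀ w ∈ A, w ∈ E ∨ v * w ∈ E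
  · obtain ⟨F, -, hF, hF8⟩ := ElemAb.exists_le_card (ElemAb.of_le hE (inf_le_left (b := Subgroup.centralizer {v})))
      (bot_le) 3 (by rw [Subgroup.card_bot]; norm_num) (fixed_one E hE hE32 (hA.2 v hv))
    have hFe : Cfsg.IsElementaryAbelian 2 F := ElemAb.of_le hE (hF.trans inf_le_left)
    refine ⟨F, hF.trans inf_le_left, hFe, hF8, .single (adj_of_le hA hA8 hFe hF8 fun a ha => ?_)⟩
    refine Subgroup.mem_centralizer_iff.2 fun f hf => ?_
    rcases hcase a ha with h | h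
    · exact ElemAb.comm hE (hF hf).1 h
    · have hfv := Subgroup.mem_centralizer_singleton_iff.1 (hF hf).2
      have h2 := ElemAb.comm hE (hF hf).1 h
      rw [← mul_assoc, hfv, mul_assoc, mul_assoc] at h2
      exact mul_left_cancel h2
  push Not at hcase
  obtain ⟨w, hw, hwE, hvwE⟩ := hcase
  obtain ⟨hzv, hzv2⟩ := ElemAb.zpowers_inv (hA.2 v hv) hv1
  have hwv : w ∉ Subgroup.zpowers v := by
    intro h
    obtain ⟨n, rfl⟩ := Subgroup.mem_zpowers_iff.1 h
    rcases Int.emod_two_eq_zero_or_one n with h' | h'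
    · apply hwE
      rw [← zpow_mod_orderOf, orderOf_eq_prime (hA.2 v hv) hv1]; simp [h']
    · apply hvwE
      rw [← zpow_mod_orderOf, orderOf_eq_prime (hA.2 v hv) hv1]; simp [h', ← sq, hA.2 v hv]
  obtain ⟨hT, hT4⟩ := ElemAb.adjoin hzv (hA.2 w hw) (fun a ha => ElemAb.comm hA (Subgroup.zpowers_le.2 hv ha) hw) hwv
  set T := Subgroup.zpowers v ⊔ Subgroup.zpowers w with hTdef
  rw [hzv2] at hT4
  have hTA : T ≤ A := sup_le (Subgroup.zpowers_le.2 hv) (Subgroup.zpowers_le.2 hw)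
  have hTE : ∀ t ∈ T, t ∈ E → t = 1 := by
    intro t ht htE
    have hn : Subgroup.zpowers v ≤ Subgroup.normalizer (Subgroup.zpowers w : Set X) := by
      rw [Subgroup.le_normalizer_iff]
      intro a ha b hb
      rw [ElemAb.comm hA (Subgroup.zpowers_le.2 hv ha) (Subgroup.zpowers_le.2 hw hb), mul_inv_cancel_right]
      exact hb
    have ht' : t ∈ (↑T : Set X) := ht
    rw [hTdef, Subgroup.coe_mul_of_left_le_normalizer_right _ _ hn] at ht'
    obtain ⟨a, ha, b, hb, rfl⟩ := ht'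
    obtain ⟨i, rfl⟩ := Subgroup.mem_zpowers_iff.1 ha
    obtain ⟨j, rfl⟩ := Subgroup.mem_zpowers_iff.1 hb
    have hw1 : w ≠ 1 := fun h => hwE (h ▸ one_mem E)
    simp only [← zpow_mod_orderOf v i, ← zpow_mod_orderOf w j, orderOf_eq_prime (hA.2 v hv) hv1,
      orderOf_eq_prime (hA.2 w hw) hw1] at htE ⊢
    rcases Int.emod_two_eq_zero_or_one i with h' | h' <;> rcases Int.emod_two_eq_zero_or_one j with h'' | h'' <;>
      rw [Nat.cast_ofNat, h', h''] at htE ⊢ <;>
      simp only [zpow_zero, zpow_one, one_mul, mul_one] at htE ⊢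
    exacts [absurd htE hwE, absurd htE hvE, absurd htE hvwE]
  obtain ⟨a, ha, haT⟩ := ElemAb.exists_mem_not_mem_of_card_lt (E := A) (V := T) (by omega)
  have hgen : T ⊔ Subgroup.zpowers a = A := Subgroup.eq_of_le_of_card_ge (sup_le hTA (Subgroup.zpowers_le.2 ha))
    (by rw [(ElemAb.adjoin hT (hA.2 a ha) (fun x hx => ElemAb.comm hA (hTA hx) ha) haT).2, hT4, hA8])
  set L := E ⊓ Subgroup.centralizer {v} ⊓ Subgroup.centralizer {w} with hL
  have hLe : Cfsg.IsElementaryAbelian 2 L := ElemAb.of_le hE (inf_le_left.trans inf_le_left)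
  have hL4 : 4 ≤ Nat.card L := fixed_two E hE hE32 (hA.2 v hv) (hA.2 w hw) (ElemAb.comm hA hw hv)
  have haL : a ∈ Subgroup.normalizer (L : Set X) := by
    have h1 := ElemAb.le_normalizer_centralizer_inf (E := E) (ElemAb.comm hA ha hv)
    rw [Subgroup.mem_normalizer_iff] at h1 ⊢
    intro x
    rw [hL, Subgroup.mem_inf, Subgroup.mem_inf (p := E ⊓ Subgroup.centralizer {v})]
    refine and_congr (h1 x) ?_
    rw [Subgroup.mem_centralizer_singleton_iff, Subgroup.mem_centralizer_singleton_iff]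
    have haw := ElemAb.comm hA ha hw
    have hc : Commute a⁻¹ w := Commute.inv_left haw
    constructor <;> intro h
    · calc a * x * a⁻¹ * w = a * x * (a⁻¹ * w) := by group
        _ = a * (x * w) * a⁻¹ := by rw [hc.eq]; group
        _ = (a * w) * x * a⁻¹ := by rw [h]; group
        _ = w * (a * x * a⁻¹) := by rw [haw]; group
    · calc x * w = a⁻¹ * (a * x * a⁻¹) * (a * w) := by group
        _ = a⁻¹ * ((a * x * a⁻¹) * w) * a := by rw [haw]; group
        _ = (a⁻¹ * w) * (a * x * a⁻¹) * a := by rw [h]; group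
        _ = w * x := by rw [hc.eq]; group
  have hfix := ElemAb.card_le_sq_fixed hLe (v := a) haL (by rw [← sq, hA.2 a ha]; exact one_mem _)
  obtain ⟨e, ⟨heL, hea⟩, he1⟩ := ElemAb.exists_mem_not_mem_of_card_lt
    (E := L ⊓ Subgroup.centralizer {a}) (V := (⊥ : Subgroup X)) (by rw [Subgroup.card_bot]; nlinarith)
  obtain ⟨⟨heE, hev⟩, hew⟩ := heL
  have hev' := Subgroup.mem_centralizer_singleton_iff.1 hev
  have hew' := Subgroup.mem_centralizer_singleton_iff.1 hew
  have hea' := Subgroup.mem_centralizer_singleton_iff.1 hea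
  have he1' : e ≠ 1 := fun h => he1 (Subgroup.mem_bot.2 h)
  have heT : e ∉ T := fun h => he1' (hTE e h heE)
  have heA : A ≤ Subgroup.centralizer {e} := by
    rw [← hgen]
    exact sup_le (sup_le (Subgroup.zpowers_le.2 (Subgroup.mem_centralizer_singleton_iff.2 hev'.symm))
      (Subgroup.zpowers_le.2 (Subgroup.mem_centralizer_singleton_iff.2 hew'.symm)))
      (Subgroup.zpowers_le.2 (Subgroup.mem_centralizer_singleton_iff.2 hea'.symm))
  obtain ⟨hB1, hB18⟩ := ElemAb.adjoin hT (hE.2 e heE)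
    (fun x hx => Subgroup.mem_centralizer_singleton_iff.1 (heA (hTA hx))) heT
  rw [hT4] at hB18
  obtain ⟨Y, heY, hYL, hY4⟩ := ElemAb.exists_le_card hLe
    (Subgroup.zpowers_le.2 ⟨⟨heE, hev⟩, hew⟩) 2 (by rw [(ElemAb.zpowers_inv (hE.2 e heE) he1').2]; norm_num)
    (by omega)
  have hvY : v ∉ Y := fun h => hvE (hYL h).1.1
  obtain ⟨hB2, hB28⟩ := ElemAb.adjoin (ElemAb.of_le hLe hYL) (hA.2 v hv)
    (fun y hy => Subgroup.mem_centralizer_singleton_iff.1 (hYL hy).1.2) hvY
  rw [hY4] at hB28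
  obtain ⟨F, hYF, hF, hF8⟩ := ElemAb.exists_le_card (ElemAb.of_le hE (inf_le_left (b := Subgroup.centralizer {v})))
    (hYL.trans inf_le_left : Y ≤ E ⊓ Subgroup.centralizer {v}) 3 (by omega) (fixed_one E hE hE32 (hA.2 v hv))
  have hFe : Cfsg.IsElementaryAbelian 2 F := ElemAb.of_le hE (hF.trans inf_le_left)
  refine ⟨F, hF.trans inf_le_left, hFe, hF8, .head (adj_of_le hA hA8 hB1 hB18 ?_)
    (.head (adj_of_le hB1 hB18 hB2 hB28 ?_) (.single (adj_of_le hB2 hB28 hFe hF8 ?_)))⟩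
  · intro x hx
    refine Subgroup.mem_centralizer_iff.2 fun y hy => ?_
    have : T ⊔ Subgroup.zpowers e ≤ Subgroup.centralizer {x} :=
      sup_le (fun t ht => Subgroup.mem_centralizer_singleton_iff.2 (ElemAb.comm hA (hTA ht) hx))
        (Subgroup.zpowers_le.2 (Subgroup.mem_centralizer_singleton_iff.2
          (Subgroup.mem_centralizer_singleton_iff.1 (heA hx)).symm))
    exact Subgroup.mem_centralizer_singleton_iff.1 (this hy)
  · refine ElemAb.le_centralizer_sup (sup_le (Subgroup.zpowers_le.2 ?_) (Subgroup.zpowers_le.2 ?_)) ?_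
    · refine Subgroup.mem_centralizer_iff.2 fun y hy => ?_
      have : Y ⊔ Subgroup.zpowers v ≤ Subgroup.centralizer {v} :=
        sup_le (fun y hy => (hYL hy).1.2) (Subgroup.zpowers_le.2 (Subgroup.mem_centralizer_singleton_iff.2 rfl))
      exact Subgroup.mem_centralizer_singleton_iff.1 (this hy)
    · refine Subgroup.mem_centralizer_iff.2 fun y hy => ?_
      have : Y ⊔ Subgroup.zpowers v ≤ Subgroup.centralizer {w} :=
        sup_le (fun y hy => (hYL hy).2) (Subgroup.zpowers_le.2 (Subgroup.mem_centralizer_singleton_iff.2 (ElemAb.comm hA hv hw)))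
      exact Subgroup.mem_centralizer_singleton_iff.1 (this hy)
    · intro d hd
      have : Y ⊔ Subgroup.zpowers v ≤ Subgroup.centralizer {e} :=
        sup_le (fun y hy => Subgroup.mem_centralizer_singleton_iff.2 (ElemAb.comm hE (hYL hy).1.1 heE))
          (Subgroup.zpowers_le.2 (Subgroup.mem_centralizer_singleton_iff.2 hev'.symm))
      exact Subgroup.mem_centralizer_singleton_iff.1 (this hd)
  · exact ElemAb.le_centralizer_sup
      (fun y hy => Subgroup.mem_centralizer_iff.2 fun f hf => ElemAb.comm hE (hF hf).1 (hYL hy).1.1)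
      (fun f hf => Subgroup.mem_centralizer_singleton_iff.1 (hF hf).2)


/-- Let X be a finite 2-group having a normal elementary abelian subgroup of order at least 32. Then (a) for any two elementary abelian subgroups A, B of X of order 8 there is a chain A = A₁, A₂, …, Aₙ = B of elementary abelian subgroups of order 8 in which consecutive members commute elementwise; and (b) every elementary abelian subgroup of X of order 4 is contained in an elementary abelian subgroup of order 8. -/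
theorem result {X : Type*} [Group X] [Finite X]
    (hX : IsPGroup 2 X) (E : Subgroup X) [E.Normal] (hE : Cfsg.IsElementaryAbelian 2 E) (hE32 : 32 ≤ Nat.card ↥E) :
    (∀ A B : Subgroup X, Cfsg.IsElementaryAbelian 2 A → Nat.card ↥A = 8 → Cfsg.IsElementaryAbelian 2 B → Nat.card ↥B = 8 →
        Relation.ReflTransGen
          (fun C D : Subgroup X => Cfsg.IsElementaryAbelian 2 C ∧ Nat.card ↥C = 8 ∧ Cfsg.IsElementaryAbelian 2 D ∧ Nat.card ↥D = 8 ∧ ⁅C, D⁆ = ⊥)
          A B) ∧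
      (∀ V : Subgroup X, Cfsg.IsElementaryAbelian 2 V → Nat.card ↥V = 4 →
        ∃ A : Subgroup X, V ≤ A ∧ Cfsg.IsElementaryAbelian 2 A ∧ Nat.card ↥A = 8) := by
  refine ⟨fun A B hA hA8 hB hB8 => ?_, fun V hV hc => extend_klein E hE hE32 hV hc⟩
  obtain ⟨F1, h1E, h1, h18, p1⟩ := path_to_normal E hE hE32 hA hA8
  obtain ⟨F2, h2E, h2, h28, p2⟩ := path_to_normal E hE hE32 hB hB8
  haveI : Std.Symm (Adj (X := X)) := ⟨fun _ _ h => ⟨h.2.2.1, h.2.2.2.1, h.1, h.2.1, by rw [Subgroup.commutator_comm]; exact h.2.2.2.2⟩⟩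
  refine (p1.trans (.single (adj_of_le h1 h18 h2 h28 ?_))).trans ?_
  · exact fun x hx => Subgroup.mem_centralizer_iff.2 fun y hy => ElemAb.comm hE (h2E hy) (h1E hx)
  · exact Std.Symm.symm _ _ p2

end Cfsg.Agent.S1785
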