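import Cfsg.Statements.S1786
import Cfsg.Agent.Lib.Classification.TIRad.Main
import Cfsg.Agent.Lib.Components.FStar


set_option autoImplicit false
open Cfsg

namespace Cfsg.Agent.S1786

open Cfsg.Agent.TIRad


/-- Let G be a finite group, V an elementary abelian 2-subgroup of G and M the normalizer of V; write Q for the largest normal 2-subgroup of M. Suppose (1) the generalized Fitting subgroup of M equals Q; (2) V is a maximal abelian normal subgroup of M; (3) every conjugate of V equals V or meets V trivially, and for some g ∈ G the conjugate V' = g V g⁻¹ is different from V and contained in Q. Let P be the centralizer of V in Q, W the subgroup generated by V and V', and H the subgroup generated by P and g P g⁻¹. Then: (a) V is contained in g Q g⁻¹; (b) every non-identity element of W lies in exactly one conjugate of V contained in W, H normalizes W, and H modulo the centralizer of W in H is isomorphic to the special linear group of dimension 2 over the field with |V|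 elements; (c) P = Q, and V equals the Frattini subgroup, the centre and the commutator subgroup of Q. -/
theorem result {G : Type*} [Group G] [Finite G] (V : Subgroup G)
    (hV : Cfsg.IsElementaryAbelian 2 V)
    (h1 : (Cfsg.generalizedFittingSubgroup ↥(Subgroup.normalizer (V : Set G))).map (Subgroup.normalizer (V : Set G)).subtype =
      (Cfsg.pCore 2 ↥(Subgroup.normalizer (V : Set G))).map (Subgroup.normalizer (V : Set G)).subtype)
    (h2 : ∀ A : Subgroup G, V ≤ A → A ≤ Subgroup.normalizer (V : Set G) → IsMulCommutative ↥A →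
      (∀ m ∈ Subgroup.normalizer (V : Set G), ∀ a ∈ A, m * a * m⁻¹ ∈ A) → A = V)
    (hti : ∀ x : G, V.map (MulAut.conj x).toMonoidHom = V ∨ V.map (MulAut.conj x).toMonoidHom ⊓ V = ⊥)
    (g : G) (hg : V.map (MulAut.conj g).toMonoidHom ≠ V)
    (hgQ : V.map (MulAut.conj g).toMonoidHom ≤ (Cfsg.pCore 2 ↥(Subgroup.normalizer (V : Set G))).map (Subgroup.normalizer (V : Set G)).subtype) :
    let Q : Subgroup G := (Cfsg.pCore 2 ↥(Subgroup.normalizer (V : Set G))).map (Subgroup.normalizer (V : Set G)).subtype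
    let P : Subgroup G := Q ⊓ Subgroup.centralizer (V : Set G)
    let W : Subgroup G := V ⊔ V.map (MulAut.conj g).toMonoidHom
    let H : Subgroup G := P ⊔ P.map (MulAut.conj g).toMonoidHom
    V ≤ Q.map (MulAut.conj g).toMonoidHom ∧
      (∀ w ∈ W, w ≠ 1 → ∃! U : Subgroup G, (∃ x : G, U = V.map (MulAut.conj x).toMonoidHom) ∧ U ≤ W ∧ w ∈ U) ∧
      H ≤ Subgroup.normalizer (W : Set G) ∧
      (∀ hN : ((Subgroup.centralizer (W : Set G)).subgroupOf H).Normal, ∃ (F : Type) (_ : Field F) (_ : Fintype F), Fintype.card F = Nat.card ↥V ∧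
        Nonempty (↥H ⧸ (Subgroup.centralizer (W : Set G)).subgroupOf H ≃* Matrix.SpecialLinearGroup (Fin 2) F)) ∧
      P = Q ∧ (frattini ↥Q).map Q.subtype = V ∧ (Subgroup.center ↥Q).map Q.subtype = V ∧ (commutator ↥Q).map Q.subtype = V := by
  intro Q P W H
  have hyp : Hyp V := by
    refine ⟨hV, fun z hz hc => ?_, h2, hti⟩
    have hF : (⟨z, hz⟩ : ↥(Subgroup.normalizer (V : Set G))) ∈
        Subgroup.centralizer (generalizedFittingSubgroup ↥(Subgroup.normalizer (V : Set G)) : Set _) := by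
      refine Subgroup.mem_centralizer_iff.2 fun q hq => Subtype.ext ?_
      have hq' : (q : G) ∈ QQ V := (SetLike.ext_iff.1 h1 _).1 ⟨q, hq, rfl⟩
      exact (hc _ hq').symm
    exact (SetLike.ext_iff.1 h1 _).1 ⟨⟨z, hz⟩, Cfsg.Agent.Components.centralizer_generalizedFitting_le hF, rfl⟩
  have h : Pair V (TIRad.cj g V) := ⟨hyp, ⟨g, rfl⟩, hg, hgQ⟩
  have hPg : P.map (MulAut.conj g).toMonoidHom = PP (TIRad.cj g V) := cj_PP g V
  have hN : PP V ⊔ PP (TIRad.cj g V) ≤ Subgroup.normalizer ((V ⊔ TIRad.cj g V : Subgroup G) : Set G) :=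
    sup_le h.PP_le_normalizer_sup (sup_comm (TIRad.cj g V) V ▸ h.symm.PP_le_normalizer_sup)
  have hHN : H ≤ Subgroup.normalizer (W : Set G) := by
    show P ⊔ P.map (MulAut.conj g).toMonoidHom ≤ _
    rw [hPg]; exact hN
  refine ⟨?_, ?_, hHN, ?_, h.QQ_eq_PP.symm, h.frattini_eq, h.center_eq, h.commutator_eq⟩
  · exact h.symm.le.trans_eq (cj_QQ g V).symm
  · intro w hw hw1
    have hex : ∃ U : Subgroup G, (∃ x : G, U = V.map (MulAut.conj x).toMonoidHom) ∧ U ≤ W ∧ w ∈ U := by
      rcases h.mem_component hw with hwV | ⟨p, hp, hpw⟩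
      · exact ⟨V, ⟨1, (cj_one V).symm⟩, le_sup_left, hwV⟩
      · exact ⟨TIRad.cj p (TIRad.cj g V), ⟨p * g, cj_cj p g V⟩, h.cj_le_sup hp, hpw⟩
    obtain ⟨U, hU⟩ := hex
    refine ⟨U, hU, fun U' hU' => ?_⟩
    obtain ⟨⟨x, rfl⟩, -, hwU⟩ := hU
    obtain ⟨⟨x', rfl⟩, -, hwU'⟩ := hU'
    have e := ((hyp.cj x).ti (x' * x⁻¹)).resolve_right fun e => hw1 (Subgroup.mem_bot.1 (e ▸ Subgroup.mem_inf.2
      ⟨show w ∈ TIRad.cj (x' * x⁻¹) (TIRad.cj x V) by rw [cj_cj, inv_mul_cancel_right]; exact hwU', hwU⟩))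
    rwa [cj_cj, inv_mul_cancel_right] at e
  · intro hNm
    have hHeq : H = PP V ⊔ PP (TIRad.cj g V) := congrArg (P ⊔ ·) hPg
    obtain ⟨K, iK, iKf, hcard, ψ, hψ, hrange, -⟩ := h.exists_SL2 hN
    refine ⟨K, iK, iKf, hcard, ?_⟩
    set ρ := W.normalizerMonoidHom.comp (Subgroup.inclusion hHN) with hρ
    have hker : ρ.ker = (Subgroup.centralizer (W : Set G)).subgroupOf H := by
      rw [hρ, ← MonoidHom.comap_ker, Subgroup.normalizerMonoidHom_ker]
      ext k
      simp [Subgroup.mem_subgroupOf]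
    have hr : ρ.range = ψ.range := by
      rw [hrange]
      ext f
      constructor
      · rintro ⟨k, rfl⟩; exact ⟨⟨k, hHeq ▸ k.2⟩, rfl⟩
      · rintro ⟨k, rfl⟩; exact ⟨⟨k, hHeq.symm ▸ k.2⟩, rfl⟩
    exact ⟨((QuotientGroup.quotientMulEquivOfEq hker.symm).trans (QuotientGroup.quotientKerEquivRange ρ)).trans
      ((MulEquiv.subgroupCongr hr).trans (MonoidHom.ofInjective hψ).symm)⟩

end Cfsg.Agent.S1786
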