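import Cfsg.Statements.S1850
import Cfsg.Agent.Lib.Techniques.CharP

set_option autoImplicit false
open Cfsg

namespace Cfsg.Agent.S1850

/-- Let G be a non-abelian finite simple QTKE-group and T a Sylow 2-subgroup of G. If U is a nontrivial 2-subgroup of G with U ∩ Z(T) ≠ 1, then F*(N_G(U)) = O₂(N_G(U)). -/
theorem result {G : Type*} [Group G] [Finite G] [IsSimpleGroup G]
    (hG : ¬ IsMulCommutative G) (hQ : Cfsg.IsQTKE G) (T : Sylow 2 G) (U : Subgroup G)
    (hU : IsPGroup 2 ↥U) (hZ : U ⊓ ((T : Subgroup G) ⊓ Subgroup.centralizer ((T : Subgroup G) : Set G)) ≠ ⊥) :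
    Subgroup.normalizer (U : Set G) ∈ Cfsg.calHe G := by
  obtain ⟨⟨a, ha⟩, ha1⟩ := Subgroup.ne_bot_iff_exists_ne_one.1 hZ
  obtain ⟨haU, haT, haC⟩ : a ∈ U ∧ a ∈ (T : Subgroup G) ∧
      a ∈ Subgroup.centralizer ((T : Subgroup G) : Set G) :=
    ⟨(Subgroup.mem_inf.1 ha).1, (Subgroup.mem_inf.1 (Subgroup.mem_inf.1 ha).2).1,
      (Subgroup.mem_inf.1 (Subgroup.mem_inf.1 ha).2).2⟩
  obtain ⟨k, hk⟩ := IsPGroup.iff_orderOf.1 hU ⟨a, haU⟩
  rw [Subgroup.orderOf_mk] at hk
  rcases k with _ | k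
  · exact absurd (Subtype.ext (orderOf_eq_one_iff.1 (by simpa using hk))) ha1
  have hz : orderOf (a ^ 2 ^ k) = 2 := by
    rw [orderOf_pow, hk, pow_succ, Nat.gcd_mul_right_left, Nat.mul_div_cancel_left _ (by positivity)]
  set z := a ^ 2 ^ k with hzdef
  have hzU : z ∈ U := pow_mem haU _
  have hz2 : IsPGroup 2 ↥(Subgroup.zpowers z) := IsPGroup.of_card (n := 1) (by rw [Nat.card_zpowers, hz, pow_one])
  have hz1 : Subgroup.zpowers z ≠ ⊥ := by
    rw [Ne, Subgroup.zpowers_eq_bot]; intro h; rw [h, orderOf_one] at hz; omega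
  have hN : Subgroup.normalizer (Subgroup.zpowers z : Set G) = Subgroup.centralizer ({z} : Set G) := by
    ext g
    rw [Subgroup.mem_centralizer_singleton_iff, Subgroup.mem_normalizer_iff]
    constructor
    · intro h
      have h1 := (h z).1 (Subgroup.mem_zpowers z)
      obtain ⟨m, hm⟩ := Subgroup.mem_zpowers_iff.1 h1
      have h2 : z ^ (2 : ℤ) = 1 := by
        rw [show (2 : ℤ) = ((2 : ℕ) : ℤ) from rfl, zpow_natCast, ← hz, pow_orderOf_eq_one]
      rcases Int.even_or_odd m with ⟨j, rfl⟩ | ⟨j, rfl⟩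
      · rw [show j + j = 2 * j by ring, zpow_mul, h2, one_zpow] at hm
        have : z = 1 := by
          calc z = g⁻¹ * (g * z * g⁻¹) * g := by group
            _ = 1 := by rw [← hm]; group
        rw [this, orderOf_one] at hz
        omega
      · rw [zpow_add, zpow_mul, h2, one_zpow, one_mul, zpow_one] at hm
        calc g * z = (g * z * g⁻¹) * g := by group
          _ = z * g := by rw [← hm]
    · intro h n
      have hc : ∀ n : ℤ, g * z ^ n * g⁻¹ = z ^ n := fun n => by
        have h' : Commute g z := h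
        rw [(h'.zpow_right n).eq, mul_inv_cancel_right]
      constructor
      · intro hn
        obtain ⟨m, rfl⟩ := Subgroup.mem_zpowers_iff.1 hn
        exact Subgroup.mem_zpowers_iff.2 ⟨m, (hc m).symm⟩
      · intro hn
        obtain ⟨m, hm⟩ := Subgroup.mem_zpowers_iff.1 hn
        refine Subgroup.mem_zpowers_iff.2 ⟨m, ?_⟩
        calc z ^ m = g⁻¹ * (g * z ^ m * g⁻¹) * g := by group
          _ = g⁻¹ * z ^ m * g := by rw [hc m]
          _ = n := by rw [hm]; group
  have hTC : (T : Subgroup G) ≤ Subgroup.centralizer ({z} : Set G) := fun t ht =>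
    Subgroup.mem_centralizer_singleton_iff.2
      ((show Commute t a from Subgroup.mem_centralizer_iff.1 haC t ht).pow_right (2 ^ k))
  have hC : CharP.IsCharP 2 ↥(Subgroup.centralizer ({z} : Set G)) :=
    hQ.2.2 _ ⟨_, hz2, hz1, hN.symm⟩ ⟨T, hTC⟩
  exact CharP.generalizedFittingSubgroup_eq (CharP.isCharP_normalizer_of_mem hU hzU hC)

end Cfsg.Agent.S1850
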