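import Cfsg.Statements.S1851
import Cfsg.Agent.Lib.Techniques.CharP
import Cfsg.Agent.Lib.CharP.AxB
import Cfsg.Agent.Lib.Components.Local
import Mathlib.GroupTheory.Solvable

set_option autoImplicit false
set_option linter.style.haveILetI false
set_option linter.unusedVariables false
open Cfsg

namespace Cfsg.Agent.S1851

open Cfsg.Agent
open Cfsg.Agent.CharP (opIn opIn_le opIn_isPGroup conj_mem_opIn le_opIn le_normalizer_opIn)
open scoped commutatorElement

/-- A normal `p`-subgroup normalizes every perfect subnormal subgroup. -/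
lemma perfect_subnormal_normalized {J : Type*} [Group J] [Finite J] {p : ℕ} [Fact p.Prime]
    {L R : Subgroup J} [R.Normal] (hR : IsPGroup p R) (hL : L.IsSubnormal) (hperf : ⁅L, L⁆ = L) :
    R ≤ Subgroup.normalizer (L : Set J) := by
  set W := L ⊔ R with hW
  have hLW : L ≤ W := le_sup_left
  set L' := L.subgroupOf W with hL'
  have hL'sn : L'.IsSubnormal := hL.subgroupOf
  have hmap : L'.map W.subtype = L := Subgroup.map_subgroupOf_eq_of_le hLW
  have hperf' : ⁅L', L'⁆ = L' := by
    apply Subgroup.map_injective W.subtype_injective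
    rw [Subgroup.map_commutator, hmap, hperf]
  obtain ⟨a, ha⟩ : ∃ a, L'.index = p ^ a := by
    obtain ⟨k, hk⟩ := IsPGroup.iff_card.1 hR
    have h1 : Nat.card L' * L'.index ∣ Nat.card L' * p ^ k := by
      rw [Subgroup.card_mul_index, ← hk, hL', Nat.card_congr (Subgroup.subgroupOfEquivOfLe hLW).toEquiv]
      exact AxB.card_sup_dvd L R
    obtain ⟨a, -, ha⟩ := (Nat.dvd_prime_pow Fact.out).1 (Nat.dvd_of_mul_dvd_mul_left Nat.card_pos h1)
    exact ⟨a, ha⟩
  have hall : ∀ H : Subgroup W, H.IsSubnormal → L' ≤ H → ∃ n, derivedSeries W n ≤ H := by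
    intro H hH
    induction hH with
    | top => exact fun _ => ⟨0, by rw [derivedSeries_zero]⟩
    | step H K hle _ hn ih =>
      intro hLH
      obtain ⟨n, hn'⟩ := ih (hLH.trans hle)
      obtain ⟨b, -, hb⟩ : ∃ b, b ≤ a ∧ (H.subgroupOf K).index = p ^ b := by
        refine (Nat.dvd_prime_pow Fact.out).1 ?_
        rw [← ha]
        exact (dvd_mul_right _ _).trans ((Subgroup.relIndex_mul_index hle).dvd.trans
          (Subgroup.index_dvd_of_le hLH))
      haveI := hn
      have hq : IsPGroup p (K ⧸ H.subgroupOf K) :=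
        IsPGroup.of_card (n := b) (by rw [← hb]; rfl)
      haveI := hq.isNilpotent
      haveI : Group.IsSolvable (K ⧸ H.subgroupOf K) := inferInstance
      obtain ⟨m, hm⟩ := Group.IsSolvable.solvable (G := K ⧸ H.subgroupOf K)
      have h3 : (derivedSeries K m) ≤ H.subgroupOf K := by
        intro x hx
        have h4 := map_derivedSeries_le_derivedSeries (QuotientGroup.mk' (H.subgroupOf K)) m
          (Subgroup.mem_map_of_mem _ hx)
        rw [hm, Subgroup.mem_bot] at h4
        exact (QuotientGroup.eq_one_iff x).1 h4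
      refine ⟨n + m, ?_⟩
      have key : ∀ i, derivedSeries W (n + i) ≤ (derivedSeries K i).map K.subtype := by
        intro i
        induction i with
        | zero => rw [derivedSeries_zero, add_zero, ← MonoidHom.range_eq_map, K.range_subtype]; exact hn'
        | succ i ihi =>
          rw [← add_assoc, derivedSeries_succ, derivedSeries_succ, Subgroup.map_commutator]
          exact Subgroup.commutator_mono ihi ihi
      exact (key m).trans (Subgroup.map_le_iff_le_comap.2 h3)
  obtain ⟨n, hn⟩ := hall L' hL'sn le_rfl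
  have hge : ∀ i, L' ≤ derivedSeries W i := by
    intro i
    induction i with
    | zero => rw [derivedSeries_zero]; exact le_top
    | succ i ihi =>
      rw [derivedSeries_succ, ← hperf']
      exact Subgroup.commutator_mono ihi ihi
  haveI : (L.subgroupOf W).Normal := by
    rw [← hL', le_antisymm (hge n) hn]; exact inferInstance
  exact le_sup_right.trans ((Subgroup.normal_subgroupOf_iff_le_normalizer hLW).1 inferInstance)

variable {G : Type*} [Group G] [Finite G]

/-- The same, inside a subgroup. -/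
lemma opIn_le_normalizer {J L : Subgroup G} (hLJ : L ≤ J) (hL : (L.subgroupOf J).IsSubnormal)
    (hperf : ⁅L.subgroupOf J, L.subgroupOf J⁆ = L.subgroupOf J) :
    opIn 2 J ≤ Subgroup.normalizer (L : Set G) := by
  haveI := Fact.mk Nat.prime_two
  haveI : (Cfsg.pCore 2 J).Normal := Cfsg.pCore_normal 2 J
  have h := perfect_subnormal_normalized (PBasic.pCore_isPGroup 2 J) hL hperf
  rintro _ ⟨x, hx, rfl⟩
  have h2 := Subgroup.le_normalizer_map J.subtype ⟨x, h hx, rfl⟩
  rwa [Subgroup.map_subgroupOf_eq_of_le hLJ] at h2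

lemma opIn_le_of_subnormal {J L : Subgroup G} (hLJ : L ≤ J) (hL : (L.subgroupOf J).IsSubnormal) :
    opIn 2 L ≤ opIn 2 J := by
  intro x hx
  have h : (opIn 2 L).subgroupOf J ≤ Cfsg.pCore 2 J := by
    refine CharP.isPGroup_le_pCore_of_isSubnormal ?_ ((opIn_isPGroup L).comap_subtype)
    have hn : ((opIn 2 L).subgroupOf J).subgroupOf (L.subgroupOf J) |>.Normal := by
      refine (Subgroup.normal_subgroupOf_iff_le_normalizer ?_).2 ?_
      · exact fun z hz => opIn_le L hz
      · intro g hg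
        refine Subgroup.mem_normalizer_fintype fun z hz => ?_
        exact conj_mem_opIn (Subgroup.le_normalizer hg) hz
    exact Subgroup.IsSubnormal.trans (fun z hz => opIn_le L hz) hn.isSubnormal hL
  exact ⟨⟨x, hLJ (opIn_le L hx)⟩, h hx, rfl⟩

/-- A group inside a group of characteristic two and containing a Sylow 2-subgroup has
characteristic two. -/
lemma charP_of_sylow_le (T : Sylow 2 G) {H M : Subgroup G} (hTH : (T : Subgroup G) ≤ H) (hHM : H ≤ M)
    (hM : CharP.IsCharP 2 M) : CharP.IsCharP 2 H := by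
  haveI := Fact.mk Nat.prime_two
  rw [CharP.isCharP_iff] at hM ⊢
  intro x hx hxo hxc
  refine hM x (hHM hx) hxo fun y hy => hxc y ?_
  have hT : opIn 2 M ≤ (T : Subgroup G) := by
    have hp := IsPGroup.to_sup_of_normal_left' (opIn_isPGroup (p := 2) M) T.isPGroup'
      ((hTH.trans hHM).trans (le_normalizer_opIn M))
    exact le_sup_left.trans (T.3 hp le_sup_right).le
  exact le_opIn (hT.trans hTH) (hHM.trans (le_normalizer_opIn M)) (opIn_isPGroup M) hy

lemma commute_of_odd_generated {L : Subgroup G} (hgen : Cfsg.oddGenerated L = L) {y : G}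
    (h : ∀ x ∈ L, Odd (orderOf x) → x * y = y * x) : ∀ x ∈ L, x * y = y * x := by
  intro x hx
  rw [← hgen] at hx
  have : x ∈ Subgroup.centralizer ({y} : Set G) := by
    refine (Subgroup.closure_le _).2 ?_ hx
    exact fun z hz => Subgroup.mem_centralizer_singleton_iff.2 (h z hz.1 hz.2)
  exact Subgroup.mem_centralizer_singleton_iff.1 this

/-- Involutions central in `O_2(L)` are centralized if those central in `O_2(J)` are. -/
lemma descend {J L : Subgroup G} (hLJ : L ≤ J) (hsn : (L.subgroupOf J).IsSubnormal)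
    (hperf : ⁅L.subgroupOf J, L.subgroupOf J⁆ = L.subgroupOf J) (hgen : Cfsg.oddGenerated L = L)
    (hA : ∀ z ∈ opIn 2 J, z * z = 1 → (∀ r ∈ opIn 2 J, r * z = z * r) → ∀ x ∈ L, x * z = z * x) :
    ∀ y ∈ opIn 2 L, y * y = 1 → (∀ r ∈ opIn 2 L, r * y = y * r) → ∀ x ∈ L, x * y = y * x := by
  haveI := Fact.mk Nat.prime_two
  set R := opIn 2 J with hR
  set D := opIn 2 L with hD
  have hDR : D ≤ R := opIn_le_of_subnormal hLJ hsn
  have hRL : R ≤ Subgroup.normalizer (L : Set G) := opIn_le_normalizer hLJ hsn hperf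
  have hRp : IsPGroup 2 R := opIn_isPGroup J
  suffices h : ∀ n : ℕ, ∀ y : R, (y : G) ∈ D → (y : G) * y = 1 → (∀ r ∈ D, r * (y : G) = y * r) →
      y ∈ Subgroup.upperCentralSeries R n → ∀ x ∈ L, x * (y : G) = y * x by
    intro y hy hy2 hyc
    haveI := hRp.isNilpotent
    obtain ⟨n, hn⟩ := Group.IsNilpotent.nilpotent R
    exact h n ⟨y, hDR hy⟩ hy hy2 hyc (hn ▸ Subgroup.mem_top _)
  intro n
  induction n with
  | zero =>
    intro y _ _ _ hy x _
    rw [Subgroup.upperCentralSeries_zero, Subgroup.mem_bot] at hy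
    rw [hy]; simp
  | succ n ih =>
    intro y hyD hy2 hyc hyZ
    refine commute_of_odd_generated hgen fun x hxL hxo => ?_
    have hxc : (orderOf x).Coprime 2 := Nat.coprime_two_right.2 hxo
    have hconjD : ∀ g ∈ Subgroup.normalizer (L : Set G), g * (y : G) * g⁻¹ ∈ D ∧
        ∀ r ∈ D, r * (g * y * g⁻¹) = g * y * g⁻¹ * r := by
      intro g hg
      refine ⟨conj_mem_opIn hg hyD, fun r hr => ?_⟩
      have h := hyc _ (conj_mem_opIn (Subgroup.inv_mem _ hg) hr)
      calc r * (g * y * g⁻¹) = g * ((g⁻¹ * r * g⁻¹⁻¹) * y) * g⁻¹ := by group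
        _ = g * (y * (g⁻¹ * r * g⁻¹⁻¹)) * g⁻¹ := by rw [h]
        _ = g * y * g⁻¹ * r := by group
    obtain ⟨hxyD, hxyc⟩ := hconjD x (Subgroup.le_normalizer hxL)
    have hxy2 : (x * y * x⁻¹) * (x * y * x⁻¹) = 1 := by
      calc (x * y * x⁻¹) * (x * y * x⁻¹) = x * (y * y) * x⁻¹ := by group
        _ = 1 := by rw [hy2]; group
    set d := (y : G)⁻¹ * (x * y * x⁻¹) with hd
    have hdD : d ∈ D := D.mul_mem (D.inv_mem hyD) hxyD
    have hd2 : d * d = 1 := by
      have e1 : (y : G)⁻¹ = y := inv_eq_of_mul_eq_one_right hy2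
      calc d * d = (y : G) * ((x * y * x⁻¹) * y) * (x * y * x⁻¹) := by rw [hd, e1]; group
        _ = (y : G) * (y * (x * y * x⁻¹)) * (x * y * x⁻¹) := by rw [hxyc _ hyD]
        _ = (y * y : G) * ((x * y * x⁻¹) * (x * y * x⁻¹)) := by group
        _ = 1 := by rw [hy2, hxy2, one_mul]
    refine CharP.commute_of_conj_eq_mul hRp (hDR hdD) hxc (c := d) (by rw [hd]; group) ?_
    refine hA d (hDR hdD) hd2 (fun r hr => ?_) x hxL
    -- `e` is the displacement of `y` under `r`
    obtain ⟨hryD, hryc⟩ := hconjD r (hRL hr)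
    have hry2 : (r * y * r⁻¹) * (r * y * r⁻¹) = 1 := by
      calc (r * y * r⁻¹) * (r * y * r⁻¹) = r * (y * y) * r⁻¹ := by group
        _ = 1 := by rw [hy2]; group
    set e := (y : G)⁻¹ * (r * y * r⁻¹) with he
    have heD : e ∈ D := D.mul_mem (D.inv_mem hyD) hryD
    have he2 : e * e = 1 := by
      have e1 : (y : G)⁻¹ = y := inv_eq_of_mul_eq_one_right hy2
      calc e * e = (y : G) * ((r * y * r⁻¹) * y) * (r * y * r⁻¹) := by rw [he, e1]; group
        _ = (y : G) * (y * (r * y * r⁻¹)) * (r * y * r⁻¹) := by rw [hryc _ hyD]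
        _ = (y * y : G) * ((r * y * r⁻¹) * (r * y * r⁻¹)) := by group
        _ = 1 := by rw [hy2, hry2, one_mul]
    have hec : ∀ s ∈ D, s * e = e * s := by
      intro s hs
      calc s * e = s * (y : G)⁻¹ * (r * y * r⁻¹) := by rw [he]; group
        _ = (y : G)⁻¹ * s * (r * y * r⁻¹) := by
          rw [((show Commute s (y : G) from hyc s hs).inv_right).eq]
        _ = (y : G)⁻¹ * (s * (r * y * r⁻¹)) := by group
        _ = e * s := by rw [hryc s hs, he]; group
    have hez : (⟨e, hDR heD⟩ : R) ∈ Subgroup.upperCentralSeries R n := by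
      have h1 := Subgroup.mem_upperCentralSeries_succ_iff.1 (Subgroup.inv_mem _ hyZ) ⟨r, hr⟩
      convert h1 using 1
      refine Subtype.ext ?_
      simp [he, commutatorElement_def, mul_assoc]
    have hex : x * e = e * x := ih ⟨e, hDR heD⟩ heD he2 hec hez x hxL
    have hs : r⁻¹ * x * r * x⁻¹ ∈ D := by
      have hLR : R.subgroupOf J |>.Normal :=
        (Subgroup.normal_subgroupOf_iff_le_normalizer (opIn_le J)).2 (le_normalizer_opIn J)
      have h1 : r⁻¹ * x * r * x⁻¹ ∈ L ⊓ R := by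
        refine ⟨L.mul_mem ?_ (L.inv_mem hxL), ?_⟩
        · have := (Subgroup.mem_normalizer_iff.1 (Subgroup.inv_mem _ (hRL hr)) x).1 hxL
          rwa [inv_inv] at this
        · have := R.mul_mem (R.inv_mem hr)
            (conj_mem_opIn (p := 2) (K := J) (Subgroup.le_normalizer (hLJ hxL)) hr)
          simpa [mul_assoc] using this
      refine le_opIn (N := L ⊓ R) inf_le_left ?_ (hRp.to_le inf_le_right) h1
      exact (le_inf Subgroup.le_normalizer ((hLJ).trans (le_normalizer_opIn J))).trans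
        Subgroup.inf_normalizer_le_normalizer_inf
    set s := r⁻¹ * x * r * x⁻¹ with hsdef
    have hey : Commute e (y : G) := (hec _ hyD).symm
    have hexy : Commute e (x * y * x⁻¹) := (hec _ hxyD).symm
    have hmain : r * (x * y * x⁻¹) * r⁻¹ = x * y * x⁻¹ * e := by
      calc r * (x * y * x⁻¹) * r⁻¹ = r * (s * (x * y * x⁻¹)) * s⁻¹ * r⁻¹ := by
            rw [hxyc s hs]; group
        _ = x * (r * y * r⁻¹) * x⁻¹ := by rw [hsdef]; group
        _ = x * (y * e) * x⁻¹ := by rw [he]; group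
        _ = x * y * (e * x⁻¹) := by group
        _ = x * y * (x⁻¹ * e) := by rw [((show Commute x e from hex).inv_left).symm.eq]
        _ = x * y * x⁻¹ * e := by group
    have hrd : r * d * r⁻¹ = d := by
      calc r * d * r⁻¹ = (r * y * r⁻¹)⁻¹ * (r * (x * y * x⁻¹) * r⁻¹) := by rw [hd]; group
        _ = (y * e)⁻¹ * (x * y * x⁻¹ * e) := by rw [hmain, he]; group
        _ = e⁻¹ * ((y : G)⁻¹ * (x * y * x⁻¹) * e) := by group
        _ = e⁻¹ * (e * ((y : G)⁻¹ * (x * y * x⁻¹))) := by rw [(hey.inv_right.mul_right hexy).eq]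
        _ = d := by rw [hd]; group
    exact mul_inv_eq_iff_eq_mul.1 hrd

/-- The main step. -/
lemma main (hev : Cfsg.IsOfEvenCharacteristic G) (T : Sylow 2 G) {L K : Subgroup G}
    (hL : L ∈ Cfsg.calLf (T : Subgroup G)) (hK : K ∈ Cfsg.calL (T : Subgroup G)) (hLK : L ≤ K) :
    K ∈ Cfsg.calXf G := by
  haveI := Fact.mk Nat.prime_two
  obtain ⟨⟨hLC, -, -⟩, ⟨-, hLgen, -⟩, hLV⟩ := hL
  obtain ⟨hKC, -, hKO⟩ := hK
  set H := K ⊔ (T : Subgroup G) with hH
  set J := L ⊔ (T : Subgroup G) with hJ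
  have hKH : K ≤ H := le_sup_left
  have hLJ : L ≤ J := le_sup_left
  have hJH : J ≤ H := sup_le_sup_right hLK _
  set P := opIn 2 H with hP
  have hP1 : P ≠ ⊥ := fun h => hKO ((Subgroup.map_eq_bot_iff_of_injective _ H.subtype_injective).1 h)
  set M := Subgroup.normalizer (P : Set G) with hM
  have hHM : H ≤ M := le_normalizer_opIn H
  have hcM : CharP.IsCharP 2 M :=
    hev M ⟨P, opIn_isPGroup H, hP1, rfl⟩ ⟨T, le_sup_right.trans hHM⟩
  have hcH : CharP.IsCharP 2 H := charP_of_sylow_le T le_sup_right hHM hcM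
  have hcK' : CharP.IsCharP 2 (K.subgroupOf H) := CharP.isCharP_of_isSubnormal hcH hKC.2.2.1
  have hcK : CharP.IsCharP 2 K := CharP.isCharP_congr (Subgroup.subgroupOfEquivOfLe hKH) hcK'
  have hKperf : ⁅K, K⁆ = K := by
    have h := congrArg (Subgroup.map H.subtype) hKC.2.1
    rwa [Subgroup.map_commutator, Subgroup.map_subgroupOf_eq_of_le hKH] at h
  have hKne : K ≠ ⊥ := fun h => hKC.1 (by rw [h, Subgroup.bot_subgroupOf])
  have hKgen : Cfsg.oddGenerated K = K := by
    haveI : Group.IsPerfect K := ⟨by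
      apply Subgroup.map_injective K.subtype_injective
      rw [commutator_def, Subgroup.map_commutator, ← MonoidHom.range_eq_map, K.range_subtype, hKperf]⟩
    refine le_antisymm ((Subgroup.closure_le _).2 fun x hx => hx.1) fun x hx => ?_
    have hmem : (⟨x, hx⟩ : K) ∈ Cfsg.pResidual 2 K := by
      rw [Components.pResidual_eq_top_of_perfect]; trivial
    have hle : Cfsg.pResidual 2 K ≤ (Cfsg.oddGenerated K).comap K.subtype :=
      (Subgroup.closure_le _).2 fun z hz => Subgroup.subset_closure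
        ⟨z.2, (show Odd (orderOf (z : G)) by rw [Subgroup.orderOf_coe]; exact Nat.coprime_two_right.1 hz)⟩
    exact hle hmem
  refine ⟨⟨hKne, hKgen, CharP.generalizedFittingSubgroup_eq hcK⟩, fun hbot => hLV ?_⟩
  -- `K` centralizes the involutions central in `O_2(K)`
  have hKc : ∀ c ∈ opIn 2 K, c * c = 1 → (∀ r ∈ opIn 2 K, r * c = c * r) → ∀ k ∈ K, k * c = c * k := by
    intro c hc hc2 hcc k hk
    refine (Subgroup.mem_centralizer_iff.1 (Subgroup.commutator_eq_bot_iff_le_centralizer.1 hbot ?_) k hk)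
    exact Subgroup.subset_closure ⟨⟨hc, Subgroup.mem_centralizer_iff.2 fun r hr => hcc r hr⟩,
      by rw [pow_two, hc2]⟩
  have hPJ : P ≤ opIn 2 J := by
    have hPT : P ≤ (T : Subgroup G) := by
      have hp := IsPGroup.to_sup_of_normal_left' (opIn_isPGroup (p := 2) H) T.isPGroup'
        ((le_sup_right : (T : Subgroup G) ≤ H).trans (le_normalizer_opIn H))
      exact le_sup_left.trans (T.3 hp le_sup_right).le
    exact le_opIn (hPT.trans le_sup_right) (hJH.trans (le_normalizer_opIn H)) (opIn_isPGroup H)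
  have hKP : opIn 2 K ≤ P := opIn_le_of_subnormal hKH hKC.2.2.1
  have hPK : P ≤ Subgroup.normalizer (K : Set G) := opIn_le_normalizer hKH hKC.2.2.1 hKC.2.1
  have hA : ∀ z ∈ opIn 2 J, z * z = 1 → (∀ r ∈ opIn 2 J, r * z = z * r) → ∀ x ∈ L, x * z = z * x := by
    intro z hzJ hz2 hzc x hx
    have hzH : z ∈ H := hJH (opIn_le J hzJ)
    have hzP : z ∈ P := ⟨⟨z, hzH⟩, hcH (Subgroup.mem_centralizer_iff.2 fun r hr =>
      Subtype.ext (hzc _ (hPJ ⟨r, hr, rfl⟩))), rfl⟩
    have hzPc : ∀ r ∈ P, r * z = z * r := fun r hr => hzc r (hPJ hr)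
    have hdisp : ∀ k ∈ K, ∀ m ∈ K, m * (k * z * k⁻¹ * z⁻¹) = (k * z * k⁻¹ * z⁻¹) * m := by
      intro k hk
      have hkH : k ∈ H := hKH hk
      have hkzP : k * z * k⁻¹ ∈ P := conj_mem_opIn (Subgroup.le_normalizer hkH) hzP
      have hkzc : ∀ r ∈ P, r * (k * z * k⁻¹) = k * z * k⁻¹ * r := by
        intro r hr
        have h := hzPc _ (conj_mem_opIn (Subgroup.inv_mem _ (Subgroup.le_normalizer hkH)) hr)
        calc r * (k * z * k⁻¹) = k * ((k⁻¹ * r * k⁻¹⁻¹) * z) * k⁻¹ := by group
          _ = k * (z * (k⁻¹ * r * k⁻¹⁻¹)) * k⁻¹ := by rw [h]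
          _ = k * z * k⁻¹ * r := by group
      set c := k * z * k⁻¹ * z⁻¹ with hc
      have hcP : c ∈ P := P.mul_mem hkzP (P.inv_mem hzP)
      have hcKm : c ∈ K := by
        have h := K.mul_mem hk ((Subgroup.mem_normalizer_iff.1 (hPK hzP) k⁻¹).1 (K.inv_mem hk))
        simpa [hc, mul_assoc] using h
      have hcK2 : c ∈ opIn 2 K := le_opIn (N := K ⊓ P) inf_le_left
        ((le_inf Subgroup.le_normalizer (hKH.trans (le_normalizer_opIn H))).trans
          Subgroup.inf_normalizer_le_normalizer_inf) ((opIn_isPGroup H).to_le inf_le_right) ⟨hcKm, hcP⟩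
      refine hKc c hcK2 ?_ fun r hr => ?_
      · have e1 : z⁻¹ = z := inv_eq_of_mul_eq_one_right hz2
        calc c * c = k * z * k⁻¹ * (z * (k * z * k⁻¹)) * z := by rw [hc, e1]; group
          _ = k * z * k⁻¹ * (k * z * k⁻¹ * z) * z := by rw [hkzc z hzP]
          _ = k * (z * z) * k⁻¹ * (z * z) := by group
          _ = 1 := by rw [hz2]; group
      · rw [hc]
        exact ((show Commute r (k * z * k⁻¹) from hkzc r (hKP hr)).mul_right
          (show Commute r z from hzPc r (hKP hr)).inv_right).eq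
    -- the displacements form an abelian quotient of the perfect group `K`
    have hcomm : ⁅K, K⁆ ≤ Subgroup.centralizer ({z} : Set G) := by
      rw [Subgroup.commutator_le]
      intro a ha b hb
      have hmove : ∀ u ∈ K, ∀ v ∈ K, (u * v) * z * (u * v)⁻¹ =
          (v * z * v⁻¹ * z⁻¹) * (u * z * u⁻¹ * z⁻¹) * z := by
        intro u hu v hv
        have hw : u * (v * z * v⁻¹ * z⁻¹) = (v * z * v⁻¹ * z⁻¹) * u := hdisp v hv u hu
        calc (u * v) * z * (u * v)⁻¹ = u * (v * z * v⁻¹ * z⁻¹) * z * u⁻¹ := by group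
          _ = (v * z * v⁻¹ * z⁻¹) * u * z * u⁻¹ := by rw [hw]
          _ = _ := by group
      refine Subgroup.mem_centralizer_singleton_iff.2 (mul_inv_eq_iff_eq_mul.1 ?_)
      have heq : ∀ u ∈ K, ∀ v ∈ K, (u * v) * z * (u * v)⁻¹ = (v * u) * z * (v * u)⁻¹ := by
        intro u hu v hv
        have hcK : v * z * v⁻¹ * z⁻¹ ∈ K := by
          have h := K.mul_mem hv ((Subgroup.mem_normalizer_iff.1 (hPK hzP) v⁻¹).1 (K.inv_mem hv))
          simpa [mul_assoc] using h
        rw [hmove u hu v hv, hmove v hv u hu, hdisp u hu _ hcK]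
      have h := heq a⁻¹ (K.inv_mem ha) b⁻¹ (K.inv_mem hb)
      calc ⁅a, b⁆ * z * ⁅a, b⁆⁻¹ = (a * b) * ((a⁻¹ * b⁻¹) * z * (a⁻¹ * b⁻¹)⁻¹) * (a * b)⁻¹ := by
            rw [commutatorElement_def]; group
        _ = (a * b) * ((b⁻¹ * a⁻¹) * z * (b⁻¹ * a⁻¹)⁻¹) * (a * b)⁻¹ := by rw [h]
        _ = z := by group
    exact Subgroup.mem_centralizer_singleton_iff.1 (hcomm (hKperf.symm ▸ hLK hx))
  have hres := descend hLJ hLC.2.2.1 hLC.2.1 hLgen hA
  refine Subgroup.commutator_eq_bot_iff_le_centralizer.2 ?_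
  refine (Subgroup.closure_le _).2 fun y hy => ?_
  refine Subgroup.mem_centralizer_iff.2 fun x hx => ?_
  exact hres y hy.1.1 (by rw [← pow_two]; exact hy.2) (fun r hr => Subgroup.mem_centralizer_iff.1 hy.1.2 r hr) x hx

/-- Let G be a non-abelian finite simple QTKE-group and T a Sylow 2-subgroup of G, and let L be a member of ℒ_f(G, T) (a member of ℒ(G, T) that lies in 𝒳 — L ≠ 1, L = O²(L), F*(L) = O₂(L) — and acts nontrivially on Ω₁(Z(O₂(L)))). Then (1) every member K of ℒ(G, T) containing L is again in ℒ_f(G, T) (a sharper form of (1) also compares the modules [Ω₁(Z(R)), L] and [Ω₁(Z(R')), K] for suitable 2-subgroups R, R'; that comparison is not included); and (2) if L is maximal under inclusion among the members of ℒ_f(G, T), then L is a maximal member of ℒ(G, T), hence a member of ℒ_f*(G, T). -/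
theorem result {G : Type*} [Group G] [Finite G] [IsSimpleGroup G]
    (hG : ¬ IsMulCommutative G) (hQ : Cfsg.IsQTKE G) (T : Sylow 2 G) (L : Subgroup G)
    (hL : L ∈ Cfsg.calLf (T : Subgroup G)) :
    (∀ K ∈ Cfsg.calL (T : Subgroup G), L ≤ K → K ∈ Cfsg.calLf (T : Subgroup G)) ∧
    ((∀ K ∈ Cfsg.calLf (T : Subgroup G), L ≤ K → K = L) → L ∈ Cfsg.calLfMax (T : Subgroup G)) := by
  refine ⟨fun K hK hLK => ⟨hK, main hQ.2.2 T hL hK hLK⟩, fun hmax => ⟨⟨hL.1, fun K hK hLK => ?_⟩, hL.2⟩⟩
  exact hmax K ⟨hK, main hQ.2.2 T hL hK hLK⟩ hLK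

end Cfsg.Agent.S1851
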