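import Cfsg.Statements.S1892
import Cfsg.Agent.Lib.PLocal.PSolvable
import Cfsg.Agent.Lib.CharP.AxB

set_option autoImplicit false
set_option linter.style.haveILetI false
set_option linter.unusedVariables false
open Cfsg

namespace Cfsg.Agent.S1892

open Cfsg.Agent
open scoped commutatorElement

/-- Let S be a finite p-solvable group with no nontrivial normal subgroup of order prime to p, A a p-subgroup of S, and Q a nontrivial A-invariant subgroup of order prime to p with [A, Q] = Q. Then the commutator [O_p(S), A, Q] is nontrivial. -/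
theorem result {S : Type*} [Group S] [Finite S] {p : ℕ} [Fact p.Prime]
    (hS : Cfsg.IsPSolvable p S) (hred : Cfsg.pPrimeCore p S = ⊥)
    (A Q : Subgroup S) (hA : IsPGroup p A) (hQ : ¬ p ∣ Nat.card Q) (hQ1 : Q ≠ ⊥)
    (hinv : ∀ a ∈ A, ∀ x ∈ Q, a * x * a⁻¹ ∈ Q) (hAQ : ⁅A, Q⁆ = Q) :
    ⁅⁅Cfsg.pCore p S, A⁆, Q⁆ ≠ ⊥ := by
  set P := Cfsg.pCore p S with hP
  haveI hPn : P.Normal := Cfsg.pCore_normal p S
  have hPp : IsPGroup p P := PBasic.pCore_isPGroup p S
  intro hbot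
  set Y := ⁅P, A⁆ with hY
  have hYP : Y ≤ P := Subgroup.le_normalizer_iff_commutator_le_left.1
    Subgroup.le_normalizer_of_normal
  have hQY : Q ≤ Subgroup.centralizer (Y : Set S) := by
    rw [Subgroup.le_centralizer_iff]; exact Subgroup.commutator_eq_bot_iff_le_centralizer.1 hbot
  have hPY : ∀ t ∈ P, t ∈ Subgroup.normalizer (Y : Set S) := fun t ht =>
    Subgroup.normalizer_commutator_ge_left P A ht
  have hQn : ∀ x ∈ Q, x ∈ Subgroup.normalizer (Y : Set S) := fun x hx =>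
    Subgroup.centralizer_le_normalizer _ (hQY hx)
  have hAn : ∀ a ∈ A, a ∈ Subgroup.normalizer (Y : Set S) := fun a ha =>
    Subgroup.normalizer_commutator_ge_right P A ha
  let M : Subgroup S :=
    { carrier := {g | g ∈ Subgroup.normalizer (Y : Set S) ∧ ∀ t ∈ P, g * t * g⁻¹ * t⁻¹ ∈ Y}
      one_mem' := ⟨one_mem _, fun t _ => by simp⟩
      mul_mem' := by
        rintro g h ⟨hg1, hg2⟩ ⟨hh1, hh2⟩
        refine ⟨mul_mem hg1 hh1, fun t ht => ?_⟩
        rw [show g * h * t * (g * h)⁻¹ * t⁻¹ = (g * (h * t * h⁻¹ * t⁻¹) * g⁻¹) * (g * t * g⁻¹ * t⁻¹) by group]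
        exact mul_mem ((Subgroup.mem_normalizer_iff.1 hg1 _).1 (hh2 t ht)) (hg2 t ht)
      inv_mem' := by
        rintro g ⟨hg1, hg2⟩
        refine ⟨inv_mem hg1, fun t ht => ?_⟩
        rw [show g⁻¹ * t * g⁻¹⁻¹ * t⁻¹ = g⁻¹ * (g * t * g⁻¹ * t⁻¹)⁻¹ * g⁻¹⁻¹ by group]
        exact (Subgroup.mem_normalizer_iff.1 (inv_mem hg1) _).1 (inv_mem (hg2 t ht)) }
  have hAM : A ≤ M := fun a ha => ⟨hAn a ha, fun t ht => by
    have := inv_mem (Subgroup.commutator_mem_commutator ht ha : ⁅t, a⁆ ∈ Y)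
    simpa [commutatorElement_def, mul_assoc] using this⟩
  have hQM : ∀ x ∈ Q, ∀ g ∈ M, x * g * x⁻¹ ∈ M := fun x hx g hg => by
    refine ⟨mul_mem (mul_mem (hQn x hx) hg.1) (inv_mem (hQn x hx)), fun t ht => ?_⟩
    rw [show x * g * x⁻¹ * t * (x * g * x⁻¹)⁻¹ * t⁻¹ =
      x * (g * (x⁻¹ * t * x⁻¹⁻¹) * g⁻¹ * (x⁻¹ * t * x⁻¹⁻¹)⁻¹) * x⁻¹ by group]
    exact (Subgroup.mem_normalizer_iff.1 (hQn x hx) _).1 (hg.2 _ (hPn.conj_mem t ht x⁻¹))
  have hQle : Q ≤ M := by
    conv_lhs => rw [← hAQ]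
    rw [Subgroup.commutator_le]
    intro a ha x hx
    rw [commutatorElement_def, mul_assoc, mul_assoc, ← mul_assoc x]
    exact mul_mem (hAM ha) (hQM x hx _ (inv_mem (hAM ha)))
  refine hQ1 ((Subgroup.eq_bot_iff_forall _).2 fun x hx => ?_)
  have hxc : (orderOf x).Coprime p :=
    Nat.Coprime.coprime_dvd_left (Subgroup.orderOf_dvd_natCard Q hx)
      ((Fact.out : p.Prime).coprime_iff_not_dvd.2 hQ).symm
  have hxP : x ∈ P := PSolvable.centralizer_pCore_le hS hred (Subgroup.mem_centralizer_iff.2 fun t ht => by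
    have hd : t⁻¹ * (x * t * x⁻¹) ∈ Y := by
      have := (Subgroup.mem_normalizer_iff''.1 (hPY t ht) _).1 ((hQle hx).2 t ht)
      convert this using 1
      group
    exact (AxB.commute_of_conj_mem hPp (q := t) (hYP hd)
      (Subgroup.mem_centralizer_iff.1 (hQY hx) _ hd).symm (pow_orderOf_eq_one x) hxc.symm).symm)
  exact PBasic.eq_one_of_isPGroup_of_coprime hPp hxP hxc

end Cfsg.Agent.S1892
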