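import Cfsg.Statements.S1893
import Cfsg.Agent.Lib.Solvable.ScnCentralizer

set_option autoImplicit false
set_option linter.style.haveILetI false
set_option linter.unusedVariables false
open Cfsg

namespace Cfsg.Agent.S1893

/-- Let S be a finite solvable group, π a set of primes containing neither 2 nor 3, H a Hall π-subgroup of S, and A a self-centralizing normal subgroup of the Fitting subgroup F(H). Then C_S(A) = A × D for a normal subgroup D of C_S(A) whose order has no prime divisor in π. -/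
theorem result {S : Type*} [Group S] [Finite S] [Group.IsSolvable S]
    (π : Set ℕ) (h2 : 2 ∉ π) (h3 : 3 ∉ π) (H : Subgroup S) (hH : Cfsg.IsPiHall π H)
    (A : Subgroup S) (hA : Cfsg.IsSCN ((Cfsg.fittingSubgroup H).map H.subtype) A) :
    ∃ D : Subgroup S, D ≤ Subgroup.centralizer (A : Set S) ∧
      (∀ c ∈ Subgroup.centralizer (A : Set S), ∀ d ∈ D, c * d * c⁻¹ ∈ D) ∧
      A ⊓ D = ⊥ ∧ A ⊔ D = Subgroup.centralizer (A : Set S) ∧
      ∀ q : ℕ, q.Prime → q ∣ Nat.card D → q ∉ π := by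
  classical
  set C := Subgroup.centralizer (A : Set S) with hC
  have hAC : A ≤ C := fun a ha => (Subgroup.mem_inf.1 (hA.2.2.ge ha)).2
  set A' := A.subgroupOf C with hA'
  have hcen : ∀ a ∈ A, ∀ c ∈ C, a * c = c * a := fun a ha c hc => Subgroup.mem_centralizer_iff.1 hc a ha
  haveI : A'.Normal := ⟨fun a ha c => by
    have h : (a : S) ∈ A := ha
    show (c : S) * a * (c : S)⁻¹ ∈ A
    rw [← hcen _ h c c.2, mul_inv_cancel_right]
    exact h⟩
  have hsyl : ∀ r : ℕ, r.Prime → r ∈ π → ¬ r ∣ A'.index := by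
    intro r hr hrπ hd
    haveI := Fact.mk hr
    obtain ⟨P⟩ : Nonempty (Sylow r C) := inferInstance
    have hP : (P : Subgroup C) ≤ A' := fun x hx =>
      ScnCentralizer.main h2 h3 hH hA hrπ
        ((P.isPGroup'.map C.subtype).to_le (Subgroup.zpowers_le.2 ⟨x, hx, rfl⟩)) x.2
    exact P.not_dvd_index (hd.trans (Subgroup.index_dvd_of_le hP))
  have hAH : A ≤ H := hA.1.trans (Subgroup.map_subtype_le _)
  obtain ⟨D', hD'⟩ := Subgroup.exists_right_complement'_of_coprime (N := A') (Nat.coprime_of_dvd fun r hr h h' => by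
    refine hsyl r hr (hH.1 r hr ?_) h'
    rw [hA', Nat.card_congr (Subgroup.subgroupOfEquivOfLe hAC).toEquiv] at h
    exact h.trans (Subgroup.card_dvd_of_le hAH))
  refine ⟨D'.map C.subtype, Subgroup.map_subtype_le _, ?_, ?_, ?_, ?_⟩
  · intro c hc d hd
    obtain ⟨d, hd, rfl⟩ := hd
    have htop : (⟨c, hc⟩ : C) ∈ A' ⊔ D' := by rw [hD'.sup_eq_top]; exact Subgroup.mem_top _
    obtain ⟨a, ha, e, he, hae⟩ := Subgroup.mem_sup_of_normal_left.1 htop
    refine ⟨e * d * e⁻¹, D'.mul_mem (D'.mul_mem he hd) (D'.inv_mem he), ?_⟩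
    have hmem : (e : S) * d * (e : S)⁻¹ ∈ C :=
      mul_mem (mul_mem e.2 d.2) (inv_mem e.2)
    have hc' : c = (a : S) * e := (congrArg Subtype.val hae).symm
    show (e : S) * d * (e : S)⁻¹ = c * d * c⁻¹
    rw [hc', mul_inv_rev]
    have := hcen a ha _ hmem
    calc (e : S) * d * (e : S)⁻¹ = (e * d * (e : S)⁻¹) * a * (a : S)⁻¹ := by group
      _ = a * (e * d * (e : S)⁻¹) * (a : S)⁻¹ := by rw [this]
      _ = _ := by group
  · rw [← Subgroup.map_subgroupOf_eq_of_le hAC, ← Subgroup.map_inf _ _ _ C.subtype_injective, ← hA',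
      disjoint_iff.1 hD'.disjoint, Subgroup.map_bot]
  · rw [← Subgroup.map_subgroupOf_eq_of_le hAC, ← Subgroup.map_sup, ← hA', hD'.sup_eq_top, ← MonoidHom.range_eq_map,
      Subgroup.range_subtype]
  · intro r hr hd hrπ
    rw [Subgroup.card_map_of_injective C.subtype_injective] at hd
    refine hsyl r hr hrπ ?_
    rwa [hD'.symm.index_eq_card]

end Cfsg.Agent.S1893
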