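import Cfsg.Statements.S1895
import Cfsg.Agent.Lib.FGStruct.RankTwoOdd.Classify

set_option autoImplicit false
open Cfsg

namespace Cfsg.Agent.S1895

open scoped commutatorElement
open Cfsg.Agent

variable {p : ℕ} [hp : Fact p.Prime]

theorem card_le_of_pair {Q : Type*} [Group Q] [Finite Q] (hc : ∀ a b : Q, a * b = b * a) (he : ∀ a : Q, a ^ p = 1)
    {a b : Q} (hgen : Subgroup.closure ({a, b} : Set Q) = ⊤) : Nat.card Q ≤ p ^ 2 := by
  have hsurj : Function.Surjective (fun w : Subgroup.zpowers a × Subgroup.zpowers b => (w.1 : Q) * (w.2 : Q)) := by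
    intro q
    haveI : (Subgroup.zpowers a).Normal := ⟨fun u hu g => by rw [hc g u, mul_inv_cancel_right]; exact hu⟩
    have hsup : Subgroup.zpowers a ⊔ Subgroup.zpowers b = ⊤ := by
      rw [eq_top_iff, ← hgen, Subgroup.closure_le]
      rintro w (rfl | rfl)
      · exact Subgroup.mem_sup_left (Subgroup.mem_zpowers _)
      · exact Subgroup.mem_sup_right (Subgroup.mem_zpowers _)
    obtain ⟨u, hu, v, hv, rfl⟩ := Subgroup.mem_sup_of_normal_left.1 (hsup.symm ▸ Subgroup.mem_top q)
    exact ⟨⟨⟨u, hu⟩, ⟨v, hv⟩⟩, rfl⟩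
  refine (Nat.card_le_card_of_surjective _ hsurj).trans ?_
  rw [Nat.card_prod, Nat.card_zpowers, Nat.card_zpowers, sq]
  exact Nat.mul_le_mul (Nat.le_of_dvd hp.out.pos (orderOf_dvd_of_pow_eq_one (he a)))
    (Nat.le_of_dvd hp.out.pos (orderOf_dvd_of_pow_eq_one (he b)))

theorem small {R Q : Type*} [Group R] [Finite R] [Group Q] [Finite Q] (hp2 : p ≠ 2) (hR : IsPGroup p R)
    (hr : Cfsg.PRankLE p 2 R) (π : R →* Q) (hπ : Function.Surjective π)
    (hc : ∀ a b : Q, a * b = b * a) (he : ∀ a : Q, a ^ p = 1)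
    (hD : (Subgroup.center R).map π = ⊥ ∨ (Subgroup.center R).map π = ⊤) : Nat.card Q ≤ p ^ 2 := by
  obtain ⟨n, hn⟩ := IsPGroup.iff_card.1 hR
  have hgen : ∀ {S : Set R}, Subgroup.closure S = ⊤ → Subgroup.closure (π '' S) = ⊤ := fun {S} h => by
    rw [← MonoidHom.map_closure, h, Subgroup.map_top_of_surjective π hπ]
  rcases RankTwoOdd.classify hp2 _ R rfl hR hr n hn with ⟨N, hNn, hNc, hQc⟩ | ⟨E, t, x, F⟩ | ⟨-, hn2, hlcs⟩
  · obtain ⟨a, ha⟩ := (Subgroup.isCyclic_iff_exists_zpowers_eq_top N).1 hNc
    obtain ⟨q, hq⟩ := IsCyclic.exists_generator (α := R ⧸ N)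
    obtain ⟨b, rfl⟩ := QuotientGroup.mk'_surjective N q
    refine card_le_of_pair hc he (a := π a) (b := π b) ?_
    have h : Subgroup.closure ({a, b} : Set R) = ⊤ := eq_top_iff.2 fun g _ => by
      obtain ⟨i, hi⟩ := Subgroup.mem_zpowers_iff.1 (hq (QuotientGroup.mk' N g))
      have hmem : (b ^ i)⁻¹ * g ∈ N := QuotientGroup.eq.1 ((map_zpow (QuotientGroup.mk' N) b i).trans hi)
      rw [← mul_inv_cancel_left (b ^ i) g]
      refine mul_mem (zpow_mem (Subgroup.subset_closure (by simp)) i) ?_
      exact (Subgroup.zpowers_le.2 (Subgroup.subset_closure (by simp) : a ∈ Subgroup.closure ({a, b} : Set R)))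
        (ha.symm ▸ hmem)
    simpa [Set.image_pair] using hgen h
  · rcases F.types hp2 hR hr hn with ⟨-, x, y, z, hxyz, -, -, -, hxz, hyz, -⟩ |
      ⟨-, s, x, y, z, -, hxyz, -, -, -, -, -, hxzy⟩
    · have hzc : z ∈ Subgroup.center R := by
        refine Subgroup.mem_center_iff.2 fun g => ?_
        have hle : Subgroup.closure ({x, y, z} : Set R) ≤ Subgroup.centralizer {z} := by
          rw [Subgroup.closure_le]
          rintro w (rfl | rfl | rfl)
          · exact Subgroup.mem_centralizer_singleton_iff.2 hxz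
          · exact Subgroup.mem_centralizer_singleton_iff.2 hyz
          · exact Subgroup.mem_centralizer_singleton_iff.2 rfl
        exact Subgroup.mem_centralizer_singleton_iff.1 (hle (hxyz.symm ▸ Subgroup.mem_top g))
      rcases hD with h | h
      · have hz1 : π z = 1 := by rw [← Subgroup.mem_bot, ← h]; exact ⟨z, hzc, rfl⟩
        refine card_le_of_pair hc he (a := π x) (b := π y) ?_
        rw [eq_top_iff, ← hgen hxyz, Subgroup.closure_le]
        rintro _ ⟨w, rfl | rfl | rfl, rfl⟩
        · exact Subgroup.subset_closure (by simp)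
        · exact Subgroup.subset_closure (by simp)
        · rw [hz1]; exact one_mem _
      · -- the centre has rank at most two
        let φ : Subgroup.center R →* Subgroup.center R :=
          MonoidHom.mk' (fun a => a ^ p) fun a b => by
            exact Commute.mul_pow (Subtype.ext ((Subgroup.mem_center_iff.1 b.2) a)) p
        have hker : Nat.card φ.ker ≤ p ^ 2 := by
          have h1 := RankTwoOdd.rank_subgroup hr (Subgroup.center R) φ.ker
            ⟨⟨fun a b => Subtype.ext (Subtype.ext (Subgroup.mem_center_iff.1 b.1.2 a.1.1))⟩⟩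
          exact h1 fun a ha => ha
        have h2 := φ.ker.index_mul_card
        rw [Subgroup.index_ker] at h2
        have h3 := φ.range.index_mul_card
        have hidx : φ.range.index ≤ p ^ 2 := by
          refine le_trans (le_of_eq ?_) hker
          refine Nat.eq_of_mul_eq_mul_right (Nat.card_pos (α := φ.range)) ?_
          rw [h3, mul_comm, h2]
        refine le_trans ?_ hidx
        set f := π.comp (Subgroup.center R).subtype
        have hf : Function.Surjective f := fun q => by
          obtain ⟨c, hc, hcq⟩ := (h.symm ▸ Subgroup.mem_top q : q ∈ (Subgroup.center R).map π)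
          exact ⟨⟨c, hc⟩, hcq⟩
        have hle : φ.range ≤ f.ker := by
          rintro _ ⟨a, rfl⟩
          exact (map_pow f a p).trans (he _)
        refine le_trans (le_of_eq ?_) (Nat.le_of_dvd (Nat.pos_of_ne_zero Subgroup.index_ne_zero_of_finite)
          (Subgroup.index_dvd_of_le hle))
        rw [Subgroup.index_ker, MonoidHom.range_eq_top.2 hf, Subgroup.card_top]
    · refine card_le_of_pair hc he (a := π x) (b := π z) ?_
      rw [eq_top_iff, ← hgen hxyz, Subgroup.closure_le]
      rintro _ ⟨w, rfl | rfl | rfl, rfl⟩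
      · exact Subgroup.subset_closure (by simp)
      · have : w = x⁻¹ * z * x * z⁻¹ := by rw [hxzy, mul_inv_cancel_right]
        rw [this, map_mul, map_mul, map_mul, map_inv, map_inv]
        exact mul_mem (mul_mem (mul_mem (inv_mem (Subgroup.subset_closure (by simp))) (Subgroup.subset_closure (by simp)))
          (Subgroup.subset_closure (by simp))) (inv_mem (Subgroup.subset_closure (by simp)))
      · exact Subgroup.subset_closure (by simp)
  · rcases Nat.lt_or_ge n 3 with h | h
    · exact (Nat.card_le_card_of_surjective _ hπ).trans (hn ▸ Nat.pow_le_pow_right hp.out.pos (by omega))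
    have hidx := MaxClass.index_commutator_eq hn h (RankTwoOdd.class_eq hn hn2 hlcs)
    rw [← hidx]
    have hle : commutator R ≤ π.ker := by
      rw [commutator_def, Subgroup.commutator_le]
      intro a _ b _
      rw [MonoidHom.mem_ker, map_commutatorElement, commutatorElement_eq_one_iff_mul_comm]
      exact hc _ _
    refine le_trans (le_of_eq ?_) (Nat.le_of_dvd (Nat.pos_of_ne_zero Subgroup.index_ne_zero_of_finite)
      (Subgroup.index_dvd_of_le hle))
    rw [Subgroup.index_ker, MonoidHom.range_eq_top.2 hπ, Subgroup.card_top]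

/-- Let p be an odd prime and G a finite p-solvable group with no elementary abelian subgroup of order p³. Then every chief factor H/K of G (H, K normal in G with no normal subgroup of G strictly between them) whose order is a power of p has order p or p². -/
theorem result {G : Type*} [Group G] [Finite G] {p : ℕ} [Fact p.Prime] (hp : p ≠ 2)
    (hG : Cfsg.IsPSolvable p G) (hr : Cfsg.PRankLE p 2 G)
    (H K : Subgroup G) [H.Normal] [K.Normal] (hKH : K < H) (hpow : ∃ n : ℕ, K.relIndex H = p ^ n)
    (hchief : ∀ L : Subgroup G, L.Normal → K ≤ L → L ≤ H → L = K ∨ L = H) :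
    K.relIndex H = p ∨ K.relIndex H = p ^ 2 := by
  classical
  obtain ⟨k, hk⟩ := hpow
  set K' := K.subgroupOf H with hK'
  haveI : K'.Normal := inferInstance
  set Q := ↥H ⧸ K'
  have hQcard : Nat.card Q = p ^ k := hk
  have hQp : IsPGroup p Q := IsPGroup.of_card hQcard
  have hk0 : k ≠ 0 := by
    rintro rfl
    rw [pow_zero, Subgroup.relIndex_eq_one] at hk
    exact hKH.not_ge hk
  haveI : Nontrivial Q := Finite.one_lt_card_iff_nontrivial.1 (hQcard ▸ Nat.one_lt_pow hk0 (Fact.out : p.Prime).one_lt)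
  haveI := hQp.isNilpotent
  set f := QuotientGroup.mk' K' with hf
  have hfs : Function.Surjective f := QuotientGroup.mk'_surjective K'
  -- the image of a normal subgroup of `G` inside `H` is trivial or everything
  have himg : ∀ L : Subgroup G, (∀ g : G, ∀ l ∈ L, g * l * g⁻¹ ∈ L ⊔ K) → L ≤ H →
      (L.subgroupOf H).map f = ⊥ ∨ (L.subgroupOf H).map f = ⊤ := by
    intro L hL hLH
    have hn : (L ⊔ K).Normal := ⟨fun w hw g => by
      have hle : L ⊔ K ≤ (L ⊔ K).comap (MulAut.conj g).toMonoidHom := sup_le (fun l hl => hL g l hl)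
        (fun l hl => Subgroup.mem_sup_right (‹K.Normal›.conj_mem l hl g))
      exact hle hw⟩
    rcases hchief (L ⊔ K) hn le_sup_right (sup_le hLH hKH.le) with h | h
    · left
      rw [Subgroup.map_eq_bot_iff, hf, QuotientGroup.ker_mk']
      intro w hw
      exact Subgroup.mem_subgroupOf.2 (h ▸ Subgroup.mem_sup_left (Subgroup.mem_subgroupOf.1 hw))
    · right
      refine eq_top_iff.2 fun q _ => ?_
      obtain ⟨⟨w, hwH⟩, rfl⟩ := hfs q
      obtain ⟨l, hl, m, hm, rfl⟩ := Subgroup.mem_sup_of_normal_right.1 (h.symm ▸ hwH : w ∈ L ⊔ K)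
      refine ⟨⟨l, hLH hl⟩, hl, ?_⟩
      refine (QuotientGroup.eq.2 ?_)
      show (⟨l, hLH hl⟩ : H)⁻¹ * ⟨l * m, hwH⟩ ∈ K'
      rw [Subgroup.mem_subgroupOf]
      simpa using hm
  have hcomm : ∀ a b : Q, a * b = b * a := by
    have h0 := himg ⁅H, H⁆ (fun g l hl => Subgroup.mem_sup_left
      (Subgroup.Normal.conj_mem inferInstance l hl g)) (Subgroup.commutator_le_self H)
    have hmap : (⁅H, H⁆.subgroupOf H).map f = commutator Q := by
      rw [← Subgroup.map_subtype_commutator H, Subgroup.subgroupOf,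
        Subgroup.comap_map_eq_self_of_injective H.subtype_injective, commutator_def, commutator_def,
        Subgroup.map_commutator, Subgroup.map_top_of_surjective f hfs]
    rw [hmap] at h0
    rcases h0 with h0 | h0
    · intro a b
      rw [← commutatorElement_eq_one_iff_mul_comm, ← Subgroup.mem_bot, ← h0]
      exact Subgroup.commutator_mem_commutator (Subgroup.mem_top a) (Subgroup.mem_top b)
    · exfalso
      have h1 := MaxClass.succ_lt (G := Q) (k := 0) (by rw [Subgroup.lowerCentralSeries_zero]; exact top_ne_bot)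
      rw [Subgroup.top_lowerCentralSeries_one, Subgroup.lowerCentralSeries_zero, h0] at h1
      exact h1.false
  have hexp : ∀ a : Q, a ^ p = 1 := by
    set L := Subgroup.closure {w : G | ∃ h ∈ H, h ^ p = w} with hLdef
    have hLH : L ≤ H := (Subgroup.closure_le H).2 (by rintro _ ⟨h, hh, rfl⟩; exact pow_mem hh p)
    have hLn : ∀ g : G, ∀ l ∈ L, g * l * g⁻¹ ∈ L ⊔ K := by
      intro g l hl
      refine Subgroup.mem_sup_left ?_
      have hle : L ≤ L.comap (MulAut.conj g).toMonoidHom := by
        rw [hLdef, Subgroup.closure_le]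
        rintro _ ⟨h, hh, rfl⟩
        exact Subgroup.subset_closure ⟨g * h * g⁻¹, ‹H.Normal›.conj_mem h hh g, conj_pow⟩
      exact hle hl
    rcases himg L hLn hLH with h0 | h0
    · intro a
      obtain ⟨⟨h, hh⟩, rfl⟩ := hfs a
      rw [← map_pow, ← Subgroup.mem_bot, ← h0]
      exact ⟨_, Subgroup.subset_closure ⟨h, hh, by simp⟩, rfl⟩
    · exfalso
      let φ : Q →* Q := MonoidHom.mk' (fun a => a ^ p) fun a b => (show Commute a b from hcomm a b).mul_pow p
      have hsurj : Function.Surjective φ := by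
        rw [← MonoidHom.range_eq_top, eq_top_iff, ← h0]
        rintro _ ⟨⟨w, hwH⟩, hw, rfl⟩
        have hw' : w ∈ L := hw
        have key : ∀ w, w ∈ L → ∃ hwH : w ∈ H, f ⟨w, hwH⟩ ∈ φ.range := by
          intro w hw
          induction hw using Subgroup.closure_induction with
          | mem w hw =>
            obtain ⟨h, hh, rfl⟩ := hw
            exact ⟨pow_mem hh p, f ⟨h, hh⟩, (map_pow f _ p).symm⟩
          | one => exact ⟨one_mem _, by
              have : (⟨1, one_mem H⟩ : H) = 1 := rfl
              rw [this, map_one]; exact one_mem _⟩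
          | mul a b _ _ ha hb =>
            obtain ⟨ha1, ha2⟩ := ha
            obtain ⟨hb1, hb2⟩ := hb
            refine ⟨mul_mem ha1 hb1, ?_⟩
            have := mul_mem ha2 hb2
            rwa [← map_mul] at this
          | inv a _ ha =>
            obtain ⟨ha1, ha2⟩ := ha
            refine ⟨inv_mem ha1, ?_⟩
            have := inv_mem ha2
            rwa [← map_inv] at this
        obtain ⟨_, h'⟩ := key w hw'
        exact h'
      obtain ⟨q, hq⟩ := exists_prime_orderOf_dvd_card' (G := Q) p (hQcard ▸ dvd_pow_self p hk0)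
      have hinj := (Finite.injective_iff_surjective).2 hsurj
      have : q = 1 := hinj (show q ^ p = 1 ^ p by rw [one_pow, ← hq, pow_orderOf_eq_one])
      rw [this, orderOf_one] at hq
      exact (Fact.out : p.Prime).one_lt.ne hq
  -- a Sylow subgroup of `H`
  obtain ⟨P⟩ := (inferInstance : Nonempty (Sylow p H))
  have hPK : K' ⊔ (P : Subgroup H) = ⊤ := by
    rw [← Subgroup.index_eq_one]
    have h1 : (K' ⊔ (P : Subgroup H)).index ∣ p ^ k := by
      have := Subgroup.index_dvd_of_le (le_sup_left : K' ≤ K' ⊔ (P : Subgroup H))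
      rwa [show K'.index = p ^ k from hQcard] at this
    have h2 : (K' ⊔ (P : Subgroup H)).index ∣ (P : Subgroup H).index :=
      Subgroup.index_dvd_of_le le_sup_right
    obtain ⟨i, -, hi⟩ := (Nat.dvd_prime_pow Fact.out).1 h1
    rcases i with _ | i
    · rw [hi, pow_zero]
    · exact absurd ((hi ▸ dvd_pow_self p (Nat.succ_ne_zero i)).trans h2) P.not_dvd_index
  set Pg := (P : Subgroup H).map H.subtype with hPg
  have hPgH : Pg ≤ H := Subgroup.map_subtype_le _
  set N := Subgroup.normalizer (Pg : Set G) with hN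
  have hHle : H ≤ K ⊔ Pg := by
    intro h hh
    obtain ⟨a, ha, b, hb, hab⟩ := Subgroup.mem_sup_of_normal_left.1 (hPK.symm ▸ Subgroup.mem_top (⟨h, hh⟩ : H))
    have : h = (a : G) * (b : G) := congrArg Subtype.val hab.symm
    rw [this]
    exact mul_mem (Subgroup.mem_sup_left (Subgroup.mem_subgroupOf.1 ha)) (Subgroup.mem_sup_right ⟨b, hb, rfl⟩)
  have hNK : K ⊔ N = ⊤ := by
    rw [eq_top_iff, ← Sylow.normalizer_sup_eq_top P]
    refine sup_le le_sup_right ?_
    exact hHle.trans (sup_le le_sup_left (le_sup_of_le_right Subgroup.le_normalizer))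
  let π : Pg →* Q := f.comp (Subgroup.inclusion hPgH)
  have hπ : Function.Surjective π := by
    intro q
    obtain ⟨h, rfl⟩ := hfs q
    obtain ⟨a, ha, b, hb, rfl⟩ := Subgroup.mem_sup_of_normal_left.1 (hPK.symm ▸ Subgroup.mem_top h)
    refine ⟨⟨b, b, hb, rfl⟩, ?_⟩
    show f ⟨(b : G), _⟩ = f (a * b)
    rw [map_mul, show f a = 1 from (QuotientGroup.eq_one_iff a).2 ha, one_mul]
  have hZ : (Subgroup.center Pg).map π = ⊥ ∨ (Subgroup.center Pg).map π = ⊤ := by
    set L := (Subgroup.center Pg).map Pg.subtype with hL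
    have hLn : ∀ g : G, ∀ l ∈ L, g * l * g⁻¹ ∈ L ⊔ K := by
      intro g l hl
      have hg : g ∈ K ⊔ N := hNK.symm ▸ Subgroup.mem_top g
      obtain ⟨a, ha, b, hb, rfl⟩ := Subgroup.mem_sup_of_normal_left.1 hg
      have hbl : b * l * b⁻¹ ∈ L := by
        obtain ⟨⟨w, hw⟩, hwc, rfl⟩ := hl
        have hb' : b * w * b⁻¹ ∈ Pg := (Subgroup.mem_normalizer_iff.1 hb w).1 hw
        refine ⟨⟨_, hb'⟩, Subgroup.mem_center_iff.2 fun u => Subtype.ext ?_, rfl⟩
        have hu : b⁻¹ * (u : G) * b ∈ Pg := by
          have := (Subgroup.mem_normalizer_iff.1 (inv_mem hb) (u : G)).1 u.2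
          rwa [inv_inv] at this
        have h1 : (b⁻¹ * (u : G) * b) * w = w * (b⁻¹ * (u : G) * b) :=
          congrArg Subtype.val (Subgroup.mem_center_iff.1 hwc ⟨_, hu⟩)
        show (u : G) * (b * w * b⁻¹) = b * w * b⁻¹ * (u : G)
        calc (u : G) * (b * w * b⁻¹) = b * ((b⁻¹ * (u : G) * b) * w) * b⁻¹ := by group
          _ = _ := by rw [h1]; group
      rw [show a * b * l * (a * b)⁻¹ = a * (b * l * b⁻¹) * a⁻¹ * (b * l * b⁻¹)⁻¹ * (b * l * b⁻¹) by group]
      refine mul_mem (Subgroup.mem_sup_right ?_) (Subgroup.mem_sup_left hbl)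
      have := mul_mem ha (‹K.Normal›.conj_mem _ (inv_mem ha) (b * l * b⁻¹))
      simpa [mul_assoc] using this
    have hLH : L ≤ H := (Subgroup.map_subtype_le _).trans hPgH
    have heq : (Subgroup.center Pg).map π = (L.subgroupOf H).map f := by
      refine le_antisymm ?_ ?_
      · rintro _ ⟨w, hw, rfl⟩
        exact ⟨Subgroup.inclusion hPgH w, ⟨w, hw, rfl⟩, rfl⟩
      · rintro _ ⟨w, ⟨v, hv, hvw⟩, rfl⟩
        exact ⟨v, hv, congrArg f (Subtype.ext hvw)⟩
    rw [heq]
    exact himg L hLn hLH
  have hPgp : IsPGroup p Pg := P.isPGroup'.map H.subtype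
  have hle := small hp hPgp (RankTwoOdd.rank_subgroup hr Pg) π hπ hcomm hexp hZ
  rw [hQcard] at hle
  have hk2 := (Nat.pow_le_pow_iff_right (Fact.out : p.Prime).one_lt).1 hle
  rcases (show k = 1 ∨ k = 2 by omega) with rfl | rfl
  · exact Or.inl (hk.trans (pow_one p))
  · exact Or.inr hk

end Cfsg.Agent.S1895
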