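import Cfsg.Statements.S1896
import Cfsg.Agent.Lib.FiniteGroup.FrattiniAut
import Cfsg.Agent.Lib.Solvable.FixedPointFree
import Cfsg.Agent.Lib.Involutions.Basic
import Mathlib.GroupTheory.SpecificGroups.Quaternion

set_option autoImplicit false
set_option linter.style.haveILetI false
set_option linter.unusedVariables false
open Cfsg

namespace Cfsg.Agent.S1896

open Cfsg.Agent
open scoped commutatorElement

variable {X : Type*} [Group X]

lemma mul_pow_class_two {a b c : X} (hba : b * a = a * b * c) (hac : Commute a c) (hbc : Commute b c) :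
    ∀ n : ℕ, (a * b) ^ n = a ^ n * b ^ n * c ^ n.choose 2 := by
  have hswap : ∀ n : ℕ, b ^ n * a = a * b ^ n * c ^ n := by
    intro n
    induction n with
    | zero => simp
    | succ n ih =>
      calc b ^ (n + 1) * a = b ^ n * (b * a) := by rw [pow_succ, mul_assoc]
        _ = (b ^ n * a) * b * c := by rw [hba]; group
        _ = a * b ^ n * (c ^ n * b) * c := by rw [ih]; group
        _ = a * b ^ n * (b * c ^ n) * c := by rw [(hbc.pow_right n).eq]
        _ = a * b ^ (n + 1) * c ^ (n + 1) := by rw [pow_succ, pow_succ]; group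
  intro n
  induction n with
  | zero => simp
  | succ n ih =>
    have hcomm : Commute (c ^ n.choose 2) (a * b) := ((hac.mul_left hbc).pow_right _).symm
    calc (a * b) ^ (n + 1) = a ^ n * b ^ n * (c ^ n.choose 2 * (a * b)) := by rw [pow_succ, ih]; group
      _ = a ^ n * b ^ n * (a * b * c ^ n.choose 2) := by rw [hcomm.eq]
      _ = a ^ n * (b ^ n * a) * b * c ^ n.choose 2 := by group
      _ = a ^ n * a * b ^ n * (c ^ n * b) * c ^ n.choose 2 := by rw [hswap]; group
      _ = a ^ n * a * b ^ n * (b * c ^ n) * c ^ n.choose 2 := by rw [(hbc.pow_right n).eq]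
      _ = a ^ (n + 1) * b ^ (n + 1) * (c ^ n * c ^ n.choose 2) := by rw [pow_succ, pow_succ]; group
      _ = _ := by rw [← pow_add, Nat.choose_succ_succ' n 1, Nat.choose_one_right]

variable [Finite X]

lemma exists_moved (hX : IsPGroup 2 X) (hA : ¬ IsPGroup 2 (MulAut X)) :
    ∃ α : MulAut X, Odd (orderOf α) ∧ ∃ x : X, α x * x⁻¹ ∉ frattini X := by
  haveI := Fact.mk Nat.prime_two
  obtain ⟨n, hn⟩ := IsPGroup.iff_card.1 hX
  obtain ⟨r, hr, hr'⟩ := (Nat.dvd_prime_pow Nat.prime_two).1 (hn ▸ Subgroup.index_dvd_card (frattini X))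
  obtain ⟨q, hq, hqd, hq2⟩ : ∃ q, q.Prime ∧ q ∣ Nat.card (MulAut X) ∧ q ≠ 2 := by
    by_contra hcon
    push Not at hcon
    exact hA (IsPGroup.of_card (n := (Nat.card (MulAut X)).primeFactorsList.length)
      (Nat.eq_prime_pow_of_unique_prime_dvd Nat.card_pos.ne' fun {q} hq hqd => hcon q hq hqd))
  haveI := Fact.mk hq
  obtain ⟨α, hα⟩ := exists_prime_orderOf_dvd_card' (p := q) hqd
  refine ⟨α, hα ▸ hq.odd_of_ne_two hq2, ?_⟩
  by_contra hcon
  push Not at hcon
  have h := FrattiniAut.card_dvd_of_trivial (p := 2) hn hr' (Subgroup.zpowers α) fun β hβ x => by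
    obtain ⟨k, rfl⟩ := mem_powers_iff_mem_zpowers.2 hβ
    induction k with
    | zero => simp
    | succ k ih =>
      show (α ^ (k + 1)) x * x⁻¹ ∈ frattini X
      rw [pow_succ', MulAut.mul_apply]
      have h2 := (frattini X).mul_mem (hcon ((α ^ k) x)) (ih (Subgroup.npow_mem_zpowers α k))
      simpa [mul_assoc] using h2
  rw [Nat.card_zpowers, hα] at h
  exact hq2 ((Nat.prime_dvd_prime_iff_eq hq Nat.prime_two).1 (hq.dvd_of_dvd_pow h))

/-- Two conjugate cyclic normal generators. -/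
lemma exists_gens (hX : IsPGroup 2 X) (hm : Cfsg.IsMetacyclic X) (hA : ¬ IsPGroup 2 (MulAut X)) :
    ∃ (a : X) (α : MulAut X) (i j : ℕ), (Subgroup.zpowers a).Normal ∧ (Subgroup.zpowers (α a)).Normal ∧
      (∀ g : X, ∃ k l : ℕ, g = a ^ k * (α a) ^ l) ∧ a ∉ Subgroup.zpowers (α a) ∧ α a ∉ Subgroup.zpowers a ∧
      α (α a) = a ^ i * (α a) ^ j ∧ Odd i ∧ Odd j ∧ a ≠ 1 := by
  haveI := Fact.mk Nat.prime_two
  haveI : Group.IsNilpotent X := hX.isNilpotent
  obtain ⟨α, hαodd, x₀, hx₀⟩ := exists_moved hX hA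
  obtain ⟨N, hN, hNc, hNq⟩ := hm
  obtain ⟨⟨a, haN⟩, hga⟩ := IsCyclic.exists_generator (α := N)
  have hNeq : N = Subgroup.zpowers a := by
    refine le_antisymm (fun y hy => ?_) (Subgroup.zpowers_le.2 haN)
    obtain ⟨k, hk⟩ := Subgroup.mem_zpowers_iff.1 (hga ⟨y, hy⟩)
    exact Subgroup.mem_zpowers_iff.2 ⟨k, congrArg Subtype.val hk⟩
  obtain ⟨b₀', hgb⟩ := IsCyclic.exists_generator (α := X ⧸ N)
  obtain ⟨b₀, rfl⟩ := QuotientGroup.mk_surjective b₀'
  let π := QuotientGroup.mk' (frattini X)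
  have hπ : ∀ g : X, π g = 1 ↔ g ∈ frattini X := fun g => QuotientGroup.eq_one_iff g
  have hsq : ∀ g : X, π g * π g = 1 := fun g => by
    rw [← map_mul, hπ, ← pow_two]; exact PGroupBasics.pow_mem_frattini hX g
  have hpow : ∀ (g : X) (k : ℕ), π (g ^ k) = if k % 2 = 0 then 1 else π g := by
    intro g k
    rw [map_pow]
    conv_lhs => rw [← Nat.mod_add_div k 2]
    rw [pow_add, pow_mul, pow_two, hsq, one_pow, mul_one]
    rcases Nat.mod_two_eq_zero_or_one k with h | h <;> simp [h]
  have hcom : ∀ g h : X, π g * π h = π h * π g := fun g h => by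
    rw [← commutatorElement_eq_one_iff_mul_comm, ← map_commutatorElement, hπ]
    exact SolvStruct.commutator_le_frattini X (Subgroup.commutator_mem_commutator (Subgroup.mem_top _) (Subgroup.mem_top _))
  -- the four classes
  have hcls : ∀ g : X, π g = 1 ∨ π g = π a ∨ π g = π b₀ ∨ π g = π a * π b₀ := by
    intro g
    obtain ⟨l, hl⟩ := mem_powers_iff_mem_zpowers.2 (hgb g)
    have hn : g * (b₀ ^ l)⁻¹ ∈ N := by
      rw [← QuotientGroup.eq_one_iff, QuotientGroup.mk_mul, QuotientGroup.mk_inv, QuotientGroup.mk_pow,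
        show ((b₀ : X ⧸ N) ^ l) = (g : X ⧸ N) from hl, mul_inv_cancel]
    rw [hNeq] at hn
    obtain ⟨k, hk⟩ := mem_powers_iff_mem_zpowers.2 hn
    have hg : g = a ^ k * b₀ ^ l := by rw [show a ^ k = g * (b₀ ^ l)⁻¹ from hk]; group
    rw [hg, map_mul, hpow, hpow]
    split_ifs <;> simp
  have hchar : ∀ g : X, g ∈ frattini X ↔ α g ∈ frattini X := fun g => by
    conv_lhs => rw [← Subgroup.Characteristic.fixed (inferInstance : (frattini X).Characteristic) α]
    rfl
  have hαeq : ∀ g h : X, π g = π h → π (α g) = π (α h) := by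
    intro g h e
    have h1 : g⁻¹ * h ∈ frattini X := QuotientGroup.eq.1 e
    exact QuotientGroup.eq.2 (by rw [← map_inv, ← map_mul]; exact (hchar _).1 h1)
  have hαinj : ∀ g h : X, π (α g) = π (α h) → π g = π h := by
    intro g h e
    have h1 : (α g)⁻¹ * α h ∈ frattini X := QuotientGroup.eq.1 e
    exact QuotientGroup.eq.2 ((hchar _).2 (by rw [map_mul, map_inv]; exact h1))
  -- an automorphism whose square fixes every class fixes every class
  have hodd : (∀ g, π (α (α g)) = π g) → ∀ g, π (α g) = π g := by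
    intro h g
    have hk : ∀ k : ℕ, π ((α ^ (2 * k)) g) = π g := by
      intro k
      induction k with
      | zero => simp
      | succ k ih =>
        rw [show 2 * (k + 1) = 2 + 2 * k by ring, pow_add, MulAut.mul_apply, pow_two, MulAut.mul_apply, h, ih]
    obtain ⟨k, hk'⟩ := hαodd
    have h2 : (α ^ (2 * k + 1)) g = g := by rw [← hk', pow_orderOf_eq_one, MulAut.one_apply]
    conv_rhs => rw [← h2]
    rw [pow_succ', MulAut.mul_apply]
    exact hαeq _ _ (hk k).symm
  have hnot : ¬ ∀ g, π (α g) = π g := fun h => hx₀ (by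
    rw [← hπ, map_mul, map_inv, h, mul_inv_cancel])
  have hfix : ∀ β : X → X, (∀ u v, β (u * v) = β u * β v) → (∀ u v : X, π u = π v → π (β u) = π (β v)) →
      π (β a) = π a → π (β b₀) = π b₀ → ∀ g, π (β g) = π g := by
    intro β hβ hβc h1 h2 g
    have hb1 : β 1 = 1 := by
      have := hβ 1 1; rw [one_mul] at this; simpa using this.symm
    rcases hcls g with h | h | h | h
    · rw [h]; rw [show π (β g) = π (β 1) from hβc g 1 (by rw [h, map_one]), hb1, map_one]
    · rw [h, hβc g a h, h1]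
    · rw [h, hβc g b₀ h, h2]
    · rw [h, hβc g (a * b₀) (by rw [h, map_mul]), hβ, map_mul, h1, h2]
  have hAfix : π (α a) ≠ π a := by
    intro h1
    apply hnot
    refine hodd (hfix (fun g => α (α g)) (fun u v => by simp) (fun u v e => hαeq _ _ (hαeq _ _ e))
      (by rw [hαeq _ _ h1, h1]) ?_)
    rcases hcls (α b₀) with h | h | h | h
    · have : π b₀ = π 1 := hαinj _ _ (by rw [h, map_one, map_one])
      exact (hαeq _ _ (hαeq _ _ this)).trans (by rw [map_one α, map_one α, ← this])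
    · have : π b₀ = π a := hαinj _ _ (by rw [h, h1])
      exact (hαeq _ _ (hαeq _ _ this)).trans (by rw [hαeq _ _ h1, h1, this])
    · rw [hαeq _ _ h, h]
    · rw [hαeq (α b₀) (a * b₀) (by rw [h, map_mul]), map_mul α, map_mul π, h1, h, ← mul_assoc, hsq, one_mul]
  have hA1 : π a ≠ 1 := fun h => hAfix (by
    rw [h, show π (α a) = π (α 1) from hαeq a 1 (by rw [h, map_one]), map_one α, map_one π])
  have hB1 : π (α a) ≠ 1 := fun h => hA1 (by rw [hαinj a 1 (by rw [h, map_one α, map_one π]), map_one])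
  -- the classes of the new generators
  have hcls' : ∀ g : X, π g = 1 ∨ π g = π a ∨ π g = π (α a) ∨ π g = π a * π (α a) := by
    intro g
    rcases hcls (α a) with h | h | h | h
    · exact absurd h hB1
    · exact absurd h hAfix
    · rw [h]; exact hcls g
    · have hab : π a * (π a * π b₀) = π b₀ := by rw [← mul_assoc, hsq, one_mul]
      rw [h, hab]
      rcases hcls g with h' | h' | h' | h'
      · exact Or.inl h'
      · exact Or.inr (Or.inl h')
      · exact Or.inr (Or.inr (Or.inr h'))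
      · exact Or.inr (Or.inr (Or.inl h'))
  -- the product of the two cyclic subgroups is everything
  set b := α a with hb
  have han : (Subgroup.zpowers a).Normal := hNeq ▸ hN
  have hbn : (Subgroup.zpowers b).Normal := by
    rw [hb, show Subgroup.zpowers (α a) = (Subgroup.zpowers a).map α.toMonoidHom from
      (MonoidHom.map_zpowers α.toMonoidHom a).symm]
    exact han.map α.toMonoidHom α.surjective
  have htop : Subgroup.zpowers a ⊔ Subgroup.zpowers b = ⊤ := by
    refine frattini_nongenerating (eq_top_iff.2 fun g _ => ?_)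
    have key : ∀ u : X, u ∈ Subgroup.zpowers a ⊔ Subgroup.zpowers b → π g = π u →
        g ∈ Subgroup.zpowers a ⊔ Subgroup.zpowers b ⊔ frattini X := by
      intro u hu e
      rw [show g = u * (u⁻¹ * g) by group]
      exact Subgroup.mul_mem_sup hu (QuotientGroup.eq.1 e.symm)
    rcases hcls' g with h | h | h | h
    · exact key 1 (Subgroup.one_mem _) (by rw [h, map_one])
    · exact key a (Subgroup.mem_sup_left (Subgroup.mem_zpowers a)) h
    · exact key b (Subgroup.mem_sup_right (Subgroup.mem_zpowers b)) h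
    · exact key (a * b) (Subgroup.mul_mem_sup (Subgroup.mem_zpowers a) (Subgroup.mem_zpowers b))
        (by rw [h, map_mul])
  have hgen : ∀ g : X, ∃ k l : ℕ, g = a ^ k * b ^ l := by
    intro g
    have hg : g ∈ ((Subgroup.zpowers a ⊔ Subgroup.zpowers b : Subgroup X) : Set X) := by rw [htop]; trivial
    haveI := hbn
    rw [Subgroup.mul_normal] at hg
    obtain ⟨u, hu, v, hv, rfl⟩ := hg
    obtain ⟨k, rfl⟩ := mem_powers_iff_mem_zpowers.2 hu
    obtain ⟨l, rfl⟩ := mem_powers_iff_mem_zpowers.2 hv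
    exact ⟨k, l, rfl⟩
  have hnota : a ∉ Subgroup.zpowers b := by
    intro h
    obtain ⟨k, hk⟩ := mem_powers_iff_mem_zpowers.2 h
    have := hpow b k
    rw [show b ^ k = a from hk] at this
    split_ifs at this
    · exact hA1 this
    · exact hAfix this.symm
  have hnotb : b ∉ Subgroup.zpowers a := by
    intro h
    obtain ⟨k, hk⟩ := mem_powers_iff_mem_zpowers.2 h
    have := hpow a k
    rw [show a ^ k = b from hk] at this
    split_ifs at this
    · exact hB1 this
    · exact hAfix this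
  obtain ⟨i, j, hij⟩ := hgen (α b)
  have hcases : π (α b) = π a * π b := by
    rcases hcls' (α b) with h | h | h | h
    · exact absurd (hαinj b 1 (by rw [h, map_one α, map_one π])) (by rwa [map_one π])
    · exfalso
      apply hnot
      refine hodd fun g => ?_
      have h2 : π (α (α b)) = π b := hαeq _ _ h
      rcases hcls' g with h' | h' | h' | h'
      · rw [h', hαeq _ _ (hαeq g 1 (by rw [h', map_one])), map_one α, map_one α, map_one π]
      · rw [h', hαeq _ _ (hαeq _ _ h')]; exact h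
      · rw [h', hαeq _ _ (hαeq _ _ h')]; exact h2
      · rw [h', hαeq _ _ (hαeq g (a * b) (by rw [h', map_mul])), map_mul α, map_mul α, map_mul π, h2,
          ← hb, h]
    · exact absurd (hαinj b a h) hAfix
    · exact h
  have hi : Odd i := by
    rw [← Nat.not_even_iff_odd]
    intro he
    rw [hij, map_mul, hpow, hpow, if_pos (Nat.even_iff.1 he), one_mul] at hcases
    split_ifs at hcases
    · exact hAfix (mul_left_cancel (a := π a) (by rw [← hcases, hsq]))
    · exact hA1 (mul_right_cancel (b := π b) (by rw [one_mul]; exact hcases.symm))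
  have hj : Odd j := by
    rw [← Nat.not_even_iff_odd]
    intro he
    rw [hij, map_mul, hpow, hpow, if_pos (Nat.even_iff.1 he), mul_one,
      if_neg (by rw [Nat.odd_iff.1 hi]; exact one_ne_zero)] at hcases
    exact hB1 (mul_left_cancel (a := π a) (by rw [mul_one]; exact hcases.symm))
  exact ⟨a, α, i, j, han, hbn, hgen, hnota, hnotb, hij, hi, hj, fun h => hA1 (by rw [h, map_one])⟩

/-- A finite metacyclic 2-group whose automorphism group is not a 2-group is isomorphic to the quaternion group of order 8 or to a homocyclic abelian group Z_{2^n} × Z_{2^n}. -/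
theorem result {X : Type*} [Group X] [Finite X] (hX : IsPGroup 2 X)
    (hm : Cfsg.IsMetacyclic X) (hA : ¬ IsPGroup 2 (MulAut X)) :
    Nonempty (X ≃* QuaternionGroup 2) ∨
      ∃ n : ℕ, Nonempty (X ≃* Multiplicative (ZMod (2 ^ n)) × Multiplicative (ZMod (2 ^ n))) := by
  haveI := Fact.mk Nat.prime_two
  obtain ⟨a, α, i, j, han, hbn, hgen, hnota, hnotb, hij, hi, hj, ha1⟩ := exists_gens hX hm hA
  set b := α a with hbdef
  set I := Subgroup.zpowers a ⊓ Subgroup.zpowers b with hI
  obtain ⟨m, hm'⟩ := IsPGroup.iff_orderOf.1 hX a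
  have hbo : orderOf b = 2 ^ m := (α.orderOf_eq a).trans hm'
  -- commutators lie in the intersection, which is central
  have hIc : ∀ z ∈ I, ∀ g : X, g * z = z * g := by
    intro z hz g
    obtain ⟨k, l, rfl⟩ := hgen g
    have h1 : Commute a z := by
      obtain ⟨n, rfl⟩ := Subgroup.mem_zpowers_iff.1 hz.1; exact (Commute.refl a).zpow_right n
    have h2 : Commute b z := by
      obtain ⟨n, rfl⟩ := Subgroup.mem_zpowers_iff.1 hz.2; exact (Commute.refl b).zpow_right n
    exact ((h1.pow_left k).mul_left (h2.pow_left l)).eq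
  have hcI : ∀ k l : ℕ, (b ^ l)⁻¹ * (a ^ k)⁻¹ * b ^ l * a ^ k ∈ I := by
    intro k l
    constructor
    · have h := han.conj_mem _ ((Subgroup.zpowers a).inv_mem (Subgroup.npow_mem_zpowers a k)) (b ^ l)⁻¹
      have := (Subgroup.zpowers a).mul_mem h (Subgroup.npow_mem_zpowers a k)
      simpa [mul_assoc] using this
    · have h := hbn.conj_mem _ (Subgroup.npow_mem_zpowers b l) (a ^ k)⁻¹
      have := (Subgroup.zpowers b).mul_mem ((Subgroup.zpowers b).inv_mem (Subgroup.npow_mem_zpowers b l)) h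
      simpa [mul_assoc] using this
  have hpowmul : ∀ k l n : ℕ, (a ^ k * b ^ l) ^ n =
      (a ^ k) ^ n * (b ^ l) ^ n * ((b ^ l)⁻¹ * (a ^ k)⁻¹ * b ^ l * a ^ k) ^ n.choose 2 := fun k l n =>
    mul_pow_class_two (by group) (hIc _ (hcI k l) _) (hIc _ (hcI k l) _) n
  by_cases hbot : I = ⊥
  · -- homocyclic
    refine Or.inr ⟨m, ?_⟩
    have hc : ∀ u ∈ Subgroup.zpowers a, ∀ v ∈ Subgroup.zpowers b, u * v = v * u := by
      intro u hu v hv
      obtain ⟨k, rfl⟩ := mem_powers_iff_mem_zpowers.2 hu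
      obtain ⟨l, rfl⟩ := mem_powers_iff_mem_zpowers.2 hv
      have h := hcI k l
      rw [hbot, Subgroup.mem_bot] at h
      calc a ^ k * b ^ l = a ^ k * b ^ l * ((b ^ l)⁻¹ * (a ^ k)⁻¹ * b ^ l * a ^ k) := by rw [h, mul_one]
        _ = b ^ l * a ^ k := by group
    let f : Subgroup.zpowers a × Subgroup.zpowers b →* X :=
      MonoidHom.mk' (fun z => z.1 * z.2) fun z w => by
        show (z.1 : X) * w.1 * ((z.2 : X) * w.2) = z.1 * z.2 * (w.1 * w.2)
        calc (z.1 : X) * w.1 * ((z.2 : X) * w.2) = z.1 * ((w.1 : X) * z.2) * w.2 := by group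
          _ = z.1 * ((z.2 : X) * w.1) * w.2 := by rw [hc _ w.1.2 _ z.2.2]
          _ = _ := by group
    have hf : Function.Bijective f := by
      refine ⟨(injective_iff_map_eq_one f).2 fun z hz => ?_, fun g => ?_⟩
      · have h1 : (z.1 : X) = ((z.2 : X))⁻¹ := eq_inv_of_mul_eq_one_left hz
        have h2 : (z.1 : X) ∈ I := ⟨z.1.2, h1 ▸ (Subgroup.zpowers b).inv_mem z.2.2⟩
        rw [hbot, Subgroup.mem_bot] at h2
        rw [h2, eq_comm, inv_eq_one] at h1
        exact Prod.ext (Subtype.ext h2) (Subtype.ext h1)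
      · obtain ⟨k, l, rfl⟩ := hgen g
        exact ⟨⟨⟨a ^ k, Subgroup.npow_mem_zpowers a k⟩, ⟨b ^ l, Subgroup.npow_mem_zpowers b l⟩⟩, rfl⟩
    have e1 : Multiplicative (ZMod (2 ^ m)) ≃* Subgroup.zpowers a :=
      (by rw [← hm', ← Nat.card_zpowers]; exact zmodCyclicMulEquiv (inferInstance : IsCyclic (Subgroup.zpowers a)))
    have e2 : Multiplicative (ZMod (2 ^ m)) ≃* Subgroup.zpowers b :=
      (by rw [← hbo, ← Nat.card_zpowers]; exact zmodCyclicMulEquiv (inferInstance : IsCyclic (Subgroup.zpowers b)))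
    exact ⟨(MulEquiv.ofBijective f hf).symm.trans (e1.symm.prodCongr e2.symm)⟩
  -- the common involution
  obtain ⟨⟨z, hz⟩, hz1⟩ := Subgroup.ne_bot_iff_exists_ne_one.1 hbot
  obtain ⟨k, hk⟩ := IsPGroup.iff_orderOf.1 hX z
  have hk0 : k ≠ 0 := by
    rintro rfl
    exact hz1 (Subtype.ext (orderOf_eq_one_iff.1 hk))
  set t := z ^ 2 ^ (k - 1) with htdef
  have hto : orderOf t = 2 := by
    rw [htdef, orderOf_pow_of_dvd (pow_ne_zero _ two_ne_zero) (hk ▸ pow_dvd_pow 2 (Nat.sub_le k 1)), hk,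
      Nat.pow_div (Nat.sub_le k 1) two_pos, show k - (k - 1) = 1 by omega, pow_one]
  have htI : t ∈ I := I.pow_mem hz _
  have hta : t = a ^ (orderOf a / 2) := (Invol.eq_half hto htI.1).2
  have htb : t = b ^ (orderOf b / 2) := (Invol.eq_half hto htI.2).2
  rw [hm'] at hta
  rw [hbo] at htb
  have hm0 : m ≠ 0 := by
    rintro rfl
    rw [pow_zero, orderOf_eq_one_iff] at hm'
    exact ha1 hm'
  have hm1 : m ≠ 1 := by
    rintro rfl
    norm_num at hta htb
    exact hnota (by rw [← hta, htb]; exact Subgroup.mem_zpowers b)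
  have hαt : α t = t := by
    conv_lhs => rw [hta, map_pow, ← hbdef, ← htb]
  have hd : (a ^ i * b ^ j) ^ (2 ^ m / 2) = t := by
    rw [← hij, ← map_pow, ← htb, hαt]
  have ht1 : t ≠ 1 := Invol.ne_one hto
  have ht2 : t ^ 2 = 1 := hto ▸ pow_orderOf_eq_one t
  have hd' : (a ^ i * b ^ j) ^ (2 ^ m / 2) =
      ((b ^ j)⁻¹ * (a ^ i)⁻¹ * b ^ j * a ^ i) ^ (2 ^ m / 2).choose 2 := by
    obtain ⟨k, hk⟩ : Even (i + j) := hi.add_odd hj
    rw [hpowmul, ← pow_mul, ← pow_mul, mul_comm i, mul_comm j, pow_mul, pow_mul, ← hta, ← htb, ← pow_add, hk,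
      ← two_mul, pow_mul, ht2, one_pow, one_mul]
  by_cases hm3 : 3 ≤ m
  · exfalso
    apply ht1
    rw [← hd, hd']
    obtain ⟨n, rfl⟩ : ∃ n, m = n + 3 := ⟨m - 3, by omega⟩
    have hch : 2 ^ (n + 1) ∣ (2 ^ (n + 3) / 2).choose 2 := by
      have e : 2 ^ (n + 3) / 2 = 2 * 2 ^ (n + 1) := by rw [pow_succ 2 (n + 2), pow_succ 2 (n + 1)]; omega
      rw [e, Nat.choose_two_right, mul_assoc, Nat.mul_div_cancel_left _ two_pos]
      exact dvd_mul_right _ _
    obtain ⟨q, hq⟩ := hch
    set g := (b ^ j)⁻¹ with hg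
    set e := g * a * g⁻¹ * a⁻¹ with he
    have heI : e ∈ I := by
      have h := hcI 1 j
      rw [pow_one] at h
      have h2 : e = ((b ^ j)⁻¹ * a⁻¹ * b ^ j * a)⁻¹ * ((b ^ j)⁻¹ * a⁻¹ * b ^ j * a) * e := by group
      have hc := hIc _ h g
      refine ⟨(Subgroup.zpowers a).mul_mem (han.conj_mem a (Subgroup.mem_zpowers a) g)
        ((Subgroup.zpowers a).inv_mem (Subgroup.mem_zpowers a)), ?_⟩
      have h3 := hbn.conj_mem _ ((Subgroup.zpowers b).inv_mem (Subgroup.npow_mem_zpowers b j) : g ∈ _) a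
      have := (Subgroup.zpowers b).mul_mem
        ((Subgroup.zpowers b).inv_mem (Subgroup.npow_mem_zpowers b j) : g ∈ _) ((Subgroup.zpowers b).inv_mem h3)
      simpa [he, hg, mul_assoc] using this
    obtain ⟨u, hu⟩ := mem_powers_iff_mem_zpowers.2 heI.1
    have hu' : a ^ u = e := hu
    have hga : g * a * g⁻¹ = e * a := by rw [he]; group
    have heu : e ^ u = 1 := by
      have h1 : g * a ^ u * g⁻¹ = a ^ u := by rw [hu', hIc e heI g, mul_inv_cancel_right]
      rw [← conj_pow, hga, (show Commute e a from (hIc e heI a).symm).mul_pow, mul_eq_right] at h1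
      exact h1
    have huu : 2 ^ (n + 3) ∣ u * u := by
      rw [← hm']; exact orderOf_dvd_of_pow_eq_one (by rw [pow_mul, hu', heu])
    have h4u : 4 ∣ u := by
      obtain ⟨v, rfl⟩ : 2 ∣ u := by
        have h : 2 ∣ u * u := (dvd_pow_self 2 (by omega)).trans huu
        rcases Nat.prime_two.dvd_mul.1 h with h | h <;> exact h
      have h : 2 ∣ v * v := by
        rw [show 2 * v * (2 * v) = 2 ^ 2 * (v * v) by ring, show n + 3 = 2 + (n + 1) by ring, pow_add] at huu
        exact (dvd_pow_self 2 n.succ_ne_zero).trans (Nat.dvd_of_mul_dvd_mul_left (by norm_num) huu)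
      have hv : 2 ∣ v := by rcases Nat.prime_two.dvd_mul.1 h with h | h <;> exact h
      obtain ⟨w, rfl⟩ := hv
      exact ⟨w, by ring⟩
    have hepow : e ^ 2 ^ (n + 1) = 1 := by
      obtain ⟨w, hw⟩ := h4u
      rw [← hu', ← pow_mul, hw, ← orderOf_dvd_iff_pow_eq_one, hm']
      exact ⟨w, by rw [show n + 3 = (n + 1) + 2 by ring, pow_add]; ring⟩
    have hcval : (b ^ j)⁻¹ * (a ^ i)⁻¹ * b ^ j * a ^ i = (e ^ i)⁻¹ := by
      have h1 : g * a ^ i * g⁻¹ = e ^ i * a ^ i := by
        rw [← conj_pow, hga, (show Commute e a from (hIc e heI a).symm).mul_pow]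
      calc (b ^ j)⁻¹ * (a ^ i)⁻¹ * b ^ j * a ^ i = (g * a ^ i * g⁻¹)⁻¹ * a ^ i := by rw [hg]; group
        _ = (a ^ i)⁻¹ * ((e ^ i)⁻¹ * a ^ i) := by rw [h1]; group
        _ = (a ^ i)⁻¹ * (a ^ i * (e ^ i)⁻¹) := by rw [hIc _ (I.inv_mem (I.pow_mem heI i)) (a ^ i)]
        _ = (e ^ i)⁻¹ := by group
    rw [hcval, hq, inv_pow, ← pow_mul, show i * (2 ^ (n + 1) * q) = 2 ^ (n + 1) * (i * q) by ring, pow_mul,
      hepow, one_pow, inv_one]
  -- quaternion
  obtain rfl : m = 2 := by omega
  norm_num at hta htb hd hd'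
  have hIt : ∀ z ∈ I, z = 1 ∨ z = t := by
    intro z hz
    obtain ⟨k, rfl⟩ := mem_powers_iff_mem_zpowers.2 hz.1
    simp only at hz ⊢
    have hk : Even k := by
      rw [← Nat.not_odd_iff_even]
      rintro ⟨l, rfl⟩
      refine hnota ?_
      have h2 : (a ^ 2) ^ l ∈ Subgroup.zpowers b := by rw [← hta]; exact Subgroup.pow_mem _ htI.2 l
      have := (Subgroup.zpowers b).mul_mem ((Subgroup.zpowers b).inv_mem h2) hz.2
      rwa [show ((a ^ 2) ^ l)⁻¹ * a ^ (2 * l + 1) = a by rw [pow_succ a (2 * l), pow_mul]; group] at this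
    obtain ⟨l, rfl⟩ := hk
    rw [← two_mul, pow_mul, ← hta]
    rcases Nat.even_or_odd' l with ⟨w, rfl | rfl⟩
    · exact Or.inl (by rw [pow_mul, ht2, one_pow])
    · exact Or.inr (by rw [pow_succ, pow_mul, ht2, one_pow, one_mul])
  -- the generators do not commute
  have he0 : b⁻¹ * a⁻¹ * b * a = t := by
    have h := hcI 1 1
    rw [pow_one, pow_one] at h
    refine (hIt _ h).resolve_left fun h1 => ?_
    have hab : Commute a b := by
      calc a * b = a * b * (b⁻¹ * a⁻¹ * b * a) := by rw [h1, mul_one]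
        _ = b * a := by group
    apply ht1
    rw [← hd, hd']
    simp only [show (b ^ j)⁻¹ * (a ^ i)⁻¹ * b ^ j * a ^ i = 1 by
      rw [mul_assoc, ← ((hab.pow_pow i j)).eq]; group, one_pow]
  have hidx : (Subgroup.zpowers a).index = 2 ∧ ∀ g : X, g ∉ Subgroup.zpowers a → g ^ 2 = t := by
    have hb2 : b ^ 2 ∈ Subgroup.zpowers a := by rw [← htb]; exact htI.1
    have hform : ∀ g : X, g ∈ Subgroup.zpowers a ∨ ∃ k, g = a ^ k * b := by
      intro g
      obtain ⟨k, l, rfl⟩ := hgen g
      rcases Nat.even_or_odd' l with ⟨w, rfl | rfl⟩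
      · exact Or.inl (Subgroup.mul_mem _ (Subgroup.npow_mem_zpowers a k)
          (by rw [pow_mul]; exact Subgroup.pow_mem _ hb2 w))
      · obtain ⟨v, hv⟩ := mem_powers_iff_mem_zpowers.2 (Subgroup.mul_mem _ (Subgroup.npow_mem_zpowers a k)
          (Subgroup.pow_mem _ hb2 w) : a ^ k * (b ^ 2) ^ w ∈ Subgroup.zpowers a)
        refine Or.inr ⟨v, ?_⟩
        rw [pow_succ, ← mul_assoc, pow_mul, show a ^ v = a ^ k * (b ^ 2) ^ w from hv]
    constructor
    · rw [Subgroup.index_eq_two_iff']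
      refine ⟨b, fun g => ?_⟩
      rcases hform g with h | ⟨k, rfl⟩
      · exact Or.inr ⟨h, fun h' => hnotb (((Subgroup.zpowers a).mul_mem_cancel_right h).1 h')⟩
      · refine Or.inl ⟨?_, fun h' => hnotb (((Subgroup.zpowers a).mul_mem_cancel_left (Subgroup.npow_mem_zpowers a k)).1 h')⟩
        have h3 := (Subgroup.zpowers a).mul_mem (han.conj_mem _ (Subgroup.npow_mem_zpowers a k) b) hb2
        simpa [pow_two, mul_assoc] using h3
    · intro g hg
      obtain ⟨k, rfl⟩ := (hform g).resolve_left hg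
      rcases Nat.even_or_odd' k with ⟨w, rfl | rfl⟩
      · have hc : Commute (a ^ (2 * w)) b := by
          rw [pow_mul, ← hta]; exact ((show Commute t b from (hIc t htI b).symm).pow_left w)
        rw [hc.mul_pow, pow_mul, ← hta, ← pow_mul, mul_comm w 2, pow_mul, ht2, one_pow, one_mul, htb]
      · have hc : Commute (a ^ (2 * w)) (a * b) := by
          rw [pow_mul, ← hta]; exact ((show Commute t (a * b) from (hIc t htI (a * b)).symm).pow_left w)
        have hab2 : (a * b) ^ 2 = t := by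
          rw [mul_pow_class_two (c := t) (by rw [← he0]; group) (hIc t htI a) (hIc t htI b) 2, ← hta, ← htb,
            ← pow_two, ht2, one_mul]
          norm_num
        rw [pow_succ a (2 * w), mul_assoc, hc.mul_pow, hab2, pow_mul, ← hta, ← pow_mul, mul_comm w 2, pow_mul, ht2,
          one_pow, one_mul]
  obtain ⟨hidx, hout⟩ := hidx
  have hcard : Nat.card (Subgroup.zpowers a) = 4 := by rw [Nat.card_zpowers, hm']; norm_num
  obtain ⟨n, ⟨e⟩⟩ := FpfStruct.quaternion_of_structure hX (Subgroup.zpowers a) inferInstance hidx hcard.ge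
    (fun g hg => orderOf_eq_prime_pow (p := 2) (n := 1) (by rw [pow_one, hout g hg]; exact ht1)
      (by rw [pow_succ, pow_one, pow_mul, hout g hg, ht2]))
    (fun g hg => by
      by_contra h
      have := hout g h
      rw [← hg, pow_orderOf_eq_one] at this
      exact ht1 this.symm)
  refine Or.inl ⟨?_⟩
  have hn : n = 1 := by
    have h := Nat.card_congr e.toEquiv
    rw [← (Subgroup.zpowers a).index_mul_card, hidx, hcard, Nat.card_eq_fintype_card, QuaternionGroup.card] at h
    have h2 : 2 ^ n = 2 ^ 1 := by norm_num; linarith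
    exact Nat.pow_right_injective (le_refl 2) h2
  subst hn
  exact e

end Cfsg.Agent.S1896
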