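import Cfsg.Statements.S1897
import Cfsg.Agent.Lib.J2.U33
import Cfsg.Agent.Lib.U33L27.Data
import Cfsg.Agent.Lib.Recog.Simple168
import Cfsg.Agent.Lib.Classical.ProjLine

set_option autoImplicit false
set_option maxRecDepth 100000
open Cfsg

namespace Cfsg.Agent.S1897

open Cfsg.Agent.PermCert

abbrev Pair : Type := Equiv.Perm (Fin 8) × Equiv.Perm (Fin 63)

/-- Equality test for pairs of codes. -/
def same (a b : Elt × Elt) : Bool :=
  Nat.beq a.1.1 b.1.1 && Nat.beq a.2.1 b.2.1 && Nat.beq a.1.2 b.1.2 && Nat.beq a.2.2 b.2.2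

/-- The code fixes every point. -/
def isId (w n : ℕ) (e : Elt) : Bool := allBelow (fun i => Nat.beq (get w e.1 i) i) n

/-- A generator or its inverse. -/
def gens6 : List (Elt × Elt) :=
  U33L27.gens.flatMap fun g => [(g.1, g.2.1), ((g.1.2, g.1.1), (g.2.1.2, g.2.1.1))]

/-- The table is closed under multiplication by the generators. -/
def closedOK : Bool :=
  (U33L27.table.any fun t => same t (one 3 8, one 6 63)) &&
  U33L27.table.all fun t => gens6.all fun g => U33L27.table.any fun t' =>
    same t' (mul 3 8 g.1 t.1, mul 6 63 g.2 t.2)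

/-- Both projections are injective on the table. -/
def injOK : Bool :=
  U33L27.table.all fun t => isId 3 8 t.1 == isId 6 63 t.2

/-- The generators are valid codes, and those on 63 points are the given words. -/
def genOK : Bool :=
  U33L27.gens.all fun g => validElt 3 8 g.1 && validElt 6 63 g.2.1 &&
    Nat.beq (wordProd 6 63 J2.uGens g.2.2).1 g.2.1.1

theorem closed_ok : closedOK = true := by decide +kernel
theorem inj_ok : injOK = true := by decide +kernel
theorem gen_ok : genOK = true := by decide +kernel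

theorem same_spec {a b : Elt × Elt} (h : same a b = true) : a = b := by
  simp only [same, Bool.and_eq_true, Nat.beq_eq] at h
  obtain ⟨⟨⟨h1, h2⟩, h3⟩, h4⟩ := h
  exact Prod.ext (Prod.ext h1 h3) (Prod.ext h2 h4)

/-- The generating pairs of permutations. -/
def genPairs : List Pair :=
  U33L27.gens.map fun g => (toPerm 3 8 g.1, toPerm 6 63 g.2.1)

/-- The graph group. -/
def graph : Subgroup Pair := Subgroup.closure {p | p ∈ genPairs}

theorem gen_rep {g : Elt × Elt × List ℕ} (hg : g ∈ U33L27.gens) :
    Rep 3 g.1 (toPerm 3 8 g.1) ∧ Rep 6 g.2.1 (toPerm 6 63 g.2.1) := by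
  have h := gen_ok
  simp only [genOK, List.all_eq_true, Bool.and_eq_true] at h
  exact ⟨rep_toPerm (h g hg).1.1, rep_toPerm (h g hg).1.2⟩

theorem graph_table {p : Pair} (hp : p ∈ graph) :
    ∃ t ∈ U33L27.table, Rep 3 t.1 p.1 ∧ Rep 6 t.2 p.2 := by
  have h := closed_ok
  simp only [closedOK, Bool.and_eq_true, List.any_eq_true, List.all_eq_true] at h
  induction hp using Subgroup.closure_induction_left with
  | one =>
    obtain ⟨t, ht, hs⟩ := h.1
    exact ⟨t, ht, by rw [same_spec hs]; exact rep_one (by norm_num),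
      by rw [same_spec hs]; exact rep_one (by norm_num)⟩
  | mul_left x hx y _ ih =>
    obtain ⟨t, ht, h3, h6⟩ := ih
    obtain ⟨g, hg, rfl⟩ := List.mem_map.1 hx
    obtain ⟨t', ht', hs⟩ := h.2 t ht (g.1, g.2.1) (List.mem_flatMap.2 ⟨g, hg, by simp⟩)
    exact ⟨t', ht', by rw [same_spec hs]; exact rep_mul (gen_rep hg).1 h3,
      by rw [same_spec hs]; exact rep_mul (gen_rep hg).2 h6⟩
  | inv_mul_cancel x hx y _ ih =>
    obtain ⟨t, ht, h3, h6⟩ := ih
    obtain ⟨g, hg, rfl⟩ := List.mem_map.1 hx
    obtain ⟨t', ht', hs⟩ := h.2 t ht ((g.1.2, g.1.1), (g.2.1.2, g.2.1.1))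
      (List.mem_flatMap.2 ⟨g, hg, by simp⟩)
    refine ⟨t', ht', ?_, ?_⟩
    · rw [same_spec hs]
      exact rep_mul (fun i => ⟨((gen_rep hg).1 i).2, by simp only [Prod.fst_inv, Prod.snd_inv, inv_inv]; exact ((gen_rep hg).1 i).1⟩) h3
    · rw [same_spec hs]
      exact rep_mul (fun i => ⟨((gen_rep hg).2 i).2, by simp only [Prod.fst_inv, Prod.snd_inv, inv_inv]; exact ((gen_rep hg).2 i).1⟩) h6

theorem isId_iff {w n : ℕ} {e : Elt} {σ : Equiv.Perm (Fin n)} (h : Rep w e σ) :
    isId w n e = true ↔ σ = 1 := by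
  constructor
  · intro he
    refine Equiv.ext fun i => Fin.ext ?_
    have := allBelow_spec _ _ he i i.2
    rw [Nat.beq_eq] at this
    rw [← (h i).1, this]; rfl
  · rintro rfl
    have key : ∀ k, k ≤ n → allBelow (fun i => Nat.beq (get w e.1 i) i) k = true := by
      intro k hk
      induction k with
      | zero => rfl
      | succ k ih =>
        show (allBelow (fun i => Nat.beq (get w e.1 i) i) k && Nat.beq (get w e.1 k) k) = true
        rw [ih (by omega), Bool.true_and, Nat.beq_eq]
        exact (h ⟨k, by omega⟩).1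
    exact key n le_rfl

theorem fst_inj : Function.Injective (fun p : graph => (p : Pair).1) := by
  show Function.Injective ((MonoidHom.fst _ _).comp graph.subtype)
  rw [injective_iff_map_eq_one]
  intro p hp
  obtain ⟨t, ht, h3, h6⟩ := graph_table p.2
  have h := inj_ok
  simp only [injOK, List.all_eq_true, beq_iff_eq] at h
  have h1 : isId 3 8 t.1 = true := (isId_iff h3).2 hp
  rw [h t ht] at h1
  exact Subtype.ext (Prod.ext hp ((isId_iff h6).1 h1))

theorem snd_inj : Function.Injective ((MonoidHom.snd _ _).comp graph.subtype) := by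
  rw [injective_iff_map_eq_one]
  intro p hp
  obtain ⟨t, ht, h3, h6⟩ := graph_table p.2
  have h := inj_ok
  simp only [injOK, List.all_eq_true, beq_iff_eq] at h
  have h1 : isId 6 63 t.2 = true := (isId_iff h6).2 hp
  rw [← h t ht] at h1
  exact Subtype.ext (Prod.ext ((isId_iff h3).1 h1) hp)

theorem fst_range : ((MonoidHom.fst _ _).comp graph.subtype).range = Simple168.refGroup := by
  rw [MonoidHom.range_comp, Subgroup.range_subtype, graph, MonoidHom.map_closure]
  refine congrArg Subgroup.closure ?_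
  have hU : toPerm 3 8 (U33L27.gens.getD 0 ((0, 0), (0, 0), [])).1 = Simple168.permU := by decide +kernel
  have hV : toPerm 3 8 (U33L27.gens.getD 1 ((0, 0), (0, 0), [])).1 = Simple168.permV := by decide +kernel
  have hW : toPerm 3 8 (U33L27.gens.getD 2 ((0, 0), (0, 0), [])).1 = Simple168.permW := by decide +kernel
  ext σ
  simp only [Set.mem_image, Set.mem_setOf_eq, genPairs, List.mem_map, Set.mem_insert_iff,
    Set.mem_singleton_iff, MonoidHom.coe_fst]
  rw [← hU, ← hV, ← hW]
  simp [U33L27.gens, eq_comm]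

theorem snd_le : ((MonoidHom.snd _ _).comp graph.subtype).range ≤ J2.K63 := by
  rw [MonoidHom.range_comp, Subgroup.range_subtype, graph, MonoidHom.map_closure,
    Subgroup.closure_le]
  rintro σ ⟨_, hp, rfl⟩
  obtain ⟨g, hg, rfl⟩ := List.mem_map.1 hp
  have h := gen_ok
  simp only [genOK, List.all_eq_true, Bool.and_eq_true, Nat.beq_eq] at h
  obtain ⟨τ, hτ, hr⟩ := rep_wordProd (w := 6) (n := 63) (pool := J2.uGens) (by norm_num)
    (M := J2.K63.toSubmonoid) (fun e he => ⟨toPerm 6 63 e,
      Subgroup.subset_closure (List.mem_map.2 ⟨e, he, rfl⟩), rep_toPerm (J2.uGens_valid e he)⟩) g.2.2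
  have := rep_eq_code hr (gen_rep hg).2 (h g hg).2
  exact this ▸ hτ

/-- Transport of SU₃(3) along an isomorphism of fields. -/
def suTransport {F : Type*} [Field F] (e : F ≃+* J2.F9) : Cfsg.SU 3 F 3 ≃* J2.SU9 where
  toFun A := ⟨Matrix.SpecialLinearGroup.map (e : F →+* J2.F9) A.1, fun u v => by
    have h := congrArg e (A.2 (e.symm ∘ u) (e.symm ∘ v))
    simpa [Cfsg.hermForm, Cfsg.slToMat, Matrix.mulVec, dotProduct, map_sum, Function.comp] using h⟩
  invFun A := ⟨Matrix.SpecialLinearGroup.map (e.symm : J2.F9 →+* F) A.1, fun u v => by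
    have h := congrArg e.symm (A.2 (e ∘ u) (e ∘ v))
    simpa [Cfsg.hermForm, Cfsg.slToMat, Matrix.mulVec, dotProduct, map_sum, Function.comp] using h⟩
  left_inv A := Subtype.ext (Subtype.ext (by ext i j; simp))
  right_inv A := Subtype.ext (Subtype.ext (by ext i j; simp))
  map_mul' A B := Subtype.ext (by simp)

/-- The projective special unitary group PSU₃(3) (realised over the field with 9 elements) has a subgroup isomorphic to PSL₂(7). -/
theorem result {F : Type*} [Field F] [Fintype F] (hF : Fintype.card F = 9)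
    {K : Type*} [Field K] [Fintype K] (hK : Fintype.card K = 7) :
    ∃ H : Subgroup (Cfsg.PSU 3 F 3), Nonempty (H ≃* Matrix.ProjectiveSpecialLinearGroup (Fin 2) K) := by
  classical
  have hK' : Nat.card K = 7 := by rw [Nat.card_eq_fintype_card, hK]
  haveI : IsSimpleGroup (Matrix.ProjectiveSpecialLinearGroup (Fin 2) K) :=
    Matrix.ProjectiveSpecialLinearGroup.rank_two_simple (by omega)
  have hc : Nat.card (Matrix.ProjectiveSpecialLinearGroup (Fin 2) K) = 168 := by
    have h := ProjLine.two_mul_card_psl (F := K)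
    rw [hK', show Nat.gcd 2 (7 - 1) = 2 from rfl] at h
    norm_num at h
    rw [← Nat.card_eq_fintype_card] at h
    omega
  obtain ⟨eR⟩ := Simple168.equiv_refGroup hc
  let π : graph →* Equiv.Perm (Fin 63) := (MonoidHom.snd _ _).comp graph.subtype
  let eF : graph ≃* Simple168.refGroup :=
    (MonoidHom.ofInjective (f := (MonoidHom.fst _ _).comp graph.subtype) fst_inj).trans
      (MulEquiv.subgroupCongr fst_range)
  let π' : graph →* J2.K63 := π.codRestrict J2.K63 fun p => snd_le ⟨p, rfl⟩
  have hπ' : Function.Injective π' := fun a b h => snd_inj (congrArg Subtype.val h)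
  let e : F ≃+* J2.F9 := FiniteField.ringEquivOfCardEq (by rw [hF, J2.F9.card])
  have hbot : Subgroup.center (Cfsg.SU 3 F 3) = ⊥ := by
    rw [eq_bot_iff]
    intro z hz
    have h1 : suTransport e z ∈ Subgroup.center J2.SU9 := by
      rw [Subgroup.mem_center_iff]
      intro g
      obtain ⟨y, rfl⟩ := (suTransport e).surjective g
      rw [← map_mul, ← map_mul, Subgroup.mem_center_iff.1 hz y]
    rw [J2.center_SU9, Subgroup.mem_bot] at h1
    exact (suTransport e).injective (h1.trans (map_one _).symm)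
  let iso : Cfsg.PSU 3 F 3 ≃* J2.K63 :=
    ((QuotientGroup.quotientMulEquivOfEq hbot).trans QuotientGroup.quotientBot).trans
      ((suTransport e).trans J2.suEquivK)
  let f : Matrix.ProjectiveSpecialLinearGroup (Fin 2) K →* Cfsg.PSU 3 F 3 :=
    iso.symm.toMonoidHom.comp (π'.comp (eR.trans eF.symm).toMonoidHom)
  have hf : Function.Injective f :=
    iso.symm.injective.comp (hπ'.comp (eR.trans eF.symm).injective)
  exact ⟨f.range, ⟨(MonoidHom.ofInjective hf).symm⟩⟩

end Cfsg.Agent.S1897
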