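import Mathlib
import Cfsg.Statements.S1898

set_option autoImplicit false
open Cfsg
open scoped commutatorElement

namespace Cfsg.Agent.S1898

variable {X : Type*} [Group X]

theorem mul_sq_eq (hcen : commutator X ≤ Subgroup.center X) (x y : X) :
    (x * y) ^ 2 = x ^ 2 * y ^ 2 * ⁅y⁻¹, x⁻¹⁆ := by
  have hc : ⁅y⁻¹, x⁻¹⁆ ∈ Subgroup.center X := hcen (Subgroup.commutator_mem_commutator (Subgroup.mem_top _) (Subgroup.mem_top _))
  calc (x * y) ^ 2 = x * x * ⁅x⁻¹, y⁆ * (y * y) := by rw [pow_two]; simp only [commutatorElement_def]; group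
    _ = x ^ 2 * y ^ 2 * (y⁻¹ * y⁻¹ * ⁅x⁻¹, y⁆ * (y * y)) := by rw [pow_two, pow_two]; group
    _ = x ^ 2 * y ^ 2 * (y⁻¹ * (y⁻¹ * x⁻¹ * y * x) * y) := by simp only [commutatorElement_def]; group
    _ = x ^ 2 * y ^ 2 * (y⁻¹ * (y * ⁅y⁻¹, x⁻¹⁆)) := by
        have := Subgroup.mem_center_iff.1 hc y
        rw [this]; simp only [commutatorElement_def]; group
    _ = x ^ 2 * y ^ 2 * ⁅y⁻¹, x⁻¹⁆ := by group

theorem sq_central (hel : Cfsg.IsElementaryAbelian 2 (commutator X)) (hcen : commutator X ≤ Subgroup.center X)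
    (x : X) : x ^ 2 ∈ Subgroup.center X := by
  rw [Subgroup.mem_center_iff]
  intro y
  have hm : ⁅x, y⁆ ∈ commutator X := Subgroup.commutator_mem_commutator (Subgroup.mem_top _) (Subgroup.mem_top _)
  have hc := Subgroup.mem_center_iff.1 (hcen hm) x
  have h : ⁅x ^ 2, y⁆ = ⁅x, y⁆ ^ 2 := by
    calc ⁅x ^ 2, y⁆ = x * ⁅x, y⁆ * x⁻¹ * ⁅x, y⁆ := by simp only [commutatorElement_def, pow_two]; group
      _ = ⁅x, y⁆ ^ 2 := by rw [hc, pow_two]; group
  rw [hel.2 _ hm, commutatorElement_eq_one_iff_mul_comm] at h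
  exact h.symm

theorem pow_four_mul (hel : Cfsg.IsElementaryAbelian 2 (commutator X)) (hcen : commutator X ≤ Subgroup.center X)
    (x y : X) : (x * y) ^ 4 = x ^ 4 * y ^ 4 := by
  have hm : ⁅y⁻¹, x⁻¹⁆ ∈ commutator X := Subgroup.commutator_mem_commutator (Subgroup.mem_top _) (Subgroup.mem_top _)
  have hcm : ∀ w z : X, Commute (w ^ 2) z := fun w z => (Subgroup.mem_center_iff.1 (sq_central hel hcen w) z).symm
  rw [show 4 = 2 * 2 from rfl, pow_mul, pow_mul, pow_mul, mul_sq_eq hcen]
  rw [(Commute.mul_left (hcm x _) (hcm y _)).mul_pow, (hcm x _).mul_pow, hel.2 _ hm, mul_one]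

theorem result {X : Type*} [Group X] [Finite X] (hX : IsPGroup 2 X)
    (hel : Cfsg.IsElementaryAbelian 2 (commutator X)) (hcen : commutator X ≤ Subgroup.center X) :
    (∀ x ∈ Subgroup.closure {g : X | g ^ 4 = 1}, x ^ 4 = 1) ∧
      ∀ φ : MulAut X, (∀ g : X, g ^ 4 = 1 → φ g = g) → ∃ k : ℕ, φ ^ (2 ^ k) = 1 := by
  refine ⟨fun x hx => ?_, fun φ hφ => ?_⟩
  · induction hx using Subgroup.closure_induction with
    | mem x hx => exact hx
    | one => simp
    | mul x y _ _ hx hy => rw [pow_four_mul hel hcen, hx, hy, one_mul]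
    | inv x _ hx => rw [inv_pow, hx, inv_one]
  · obtain ⟨k, m, hm, hkm⟩ := Nat.exists_eq_two_pow_mul_odd (orderOf_pos φ).ne'
    refine ⟨k, ?_⟩
    set ψ := φ ^ (2 ^ k) with hψ
    have hfix : ∀ g : X, g ^ 4 = 1 → ψ g = g := by
      intro g hg
      rw [hψ]
      generalize 2 ^ k = j
      induction j with
      | zero => simp
      | succ j ih => rw [pow_succ', MulAut.mul_apply, ih, hφ g hg]
    have hψm : ψ ^ m = 1 := by rw [hψ, ← pow_mul, ← hkm, pow_orderOf_eq_one]
    -- by induction on the exponent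
    have key : ∀ (j : ℕ) (x : X), x ^ (2 ^ j) = 1 → ψ x = x := by
      intro j
      induction j with
      | zero => intro x hx; simp only [pow_zero, pow_one] at hx; simp [hx]
      | succ j ih =>
        intro x hx
        have hx2 : ψ (x ^ 2) = x ^ 2 := ih _ (by rw [← pow_mul, ← pow_succ']; exact hx)
        set e := x⁻¹ * ψ x with he
        have hψx : ψ x = x * e := by rw [he]; group
        have h4 : e ^ 4 = 1 := by
          have h := congrArg (fun w => w ^ 2) hx2
          simp only [map_pow, ← pow_mul] at h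
          rw [show 2 * 2 = 4 from rfl, hψx, pow_four_mul hel hcen] at h
          exact mul_eq_left.1 h
        have hit : ∀ i : ℕ, (ψ ^ i) x = x * e ^ i := by
          intro i
          induction i with
          | zero => simp
          | succ i ih' => rw [pow_succ', MulAut.mul_apply, ih', map_mul, map_pow, hfix e h4, hψx, mul_assoc, ← pow_succ']
        have h1 := hit m
        rw [hψm, MulAut.one_apply, eq_comm, mul_eq_left] at h1
        have hco : (4 : ℕ).Coprime m := (Nat.coprime_two_left.2 hm).pow_left 2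
        have : e = 1 := orderOf_eq_one_iff.1 (Nat.eq_one_of_dvd_coprimes hco (orderOf_dvd_of_pow_eq_one h4) (orderOf_dvd_of_pow_eq_one h1))
        rw [hψx, this, mul_one]
    ext x
    obtain ⟨j, hj⟩ := hX x
    exact key j x hj

end Cfsg.Agent.S1898
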