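import Mathlib
import Cfsg.Statements.S1899

set_option autoImplicit false
open Cfsg

namespace Cfsg.Agent.S1899

theorem result {A : Type*} [CommGroup A] [Finite A] (hA : IsPGroup 2 A)
    {n : ℕ} (hn : Odd n) (hn1 : 1 < n) (d t : MulAut A) (hd : d ^ n = 1) (ht : t ^ 2 = 1) (hdt : t * d * t⁻¹ = d⁻¹)
    (hfix : ∀ a : A, d a = a → a = 1) :
    (MulEquiv.toMonoidHom t).eqLocus (MonoidHom.id A) ⊓ ((MulEquiv.toMonoidHom t).eqLocus (MonoidHom.id A)).map d.toMonoidHom = ⊥ ∧
      (MulEquiv.toMonoidHom t).eqLocus (MonoidHom.id A) ⊔ ((MulEquiv.toMonoidHom t).eqLocus (MonoidHom.id A)).map d.toMonoidHom = ⊤ := by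
  set C := (MulEquiv.toMonoidHom t).eqLocus (MonoidHom.id A) with hC
  have memC : ∀ a, a ∈ C ↔ t a = a := fun a => Iff.rfl
  have htd : ∀ a, t (d a) = d⁻¹ (t a) := fun a => by
    have : t * d = d⁻¹ * t := by rw [← hdt]; group
    exact congrArg (fun f : MulAut A => f a) this
  have htdi : ∀ a, t (d⁻¹ a) = d (t a) := fun a => by
    have : t * d⁻¹ = d * t := by
      have h := congrArg (fun f => f⁻¹) hdt
      simp only [mul_inv_rev, inv_inv] at h
      calc t * d⁻¹ = t * (d⁻¹ * t⁻¹) * t := by group
        _ = d * t := by rw [h]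
    exact congrArg (fun f : MulAut A => f a) this
  have hdd : ∀ a, d (d⁻¹ a) = a := fun a => d.apply_symm_apply a
  have hdd' : ∀ a, d⁻¹ (d a) = a := fun a => d.symm_apply_apply a
  have ht2 : ∀ a, t (t a) = a := fun a => by
    have := congrArg (fun f : MulAut A => f a) ht
    simpa [pow_two] using this
  obtain ⟨m, hm⟩ := hn
  constructor
  · rw [eq_bot_iff]
    rintro a ⟨ha, b, hb, rfl⟩
    have ha' : t (d b) = d b := (memC _).1 ha
    rw [htd, (memC b).1 hb] at ha'
    have h2 : d (d b) = b := by rw [← ha', hdd]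
    have : ∀ j, (d ^ (2 * j)) b = b := by
      intro j
      induction j with
      | zero => simp
      | succ j ih => rw [mul_add, mul_one, pow_add, pow_two]; simp [h2, ih]
    have h3 := congrArg (fun f : MulAut A => f b) hd
    simp only [hm, pow_succ', MulAut.mul_apply, this, MulAut.one_apply] at h3
    rw [hfix b h3]; simp
  · rw [eq_top_iff]
    intro a _
    have hbase : ∀ c ∈ C, d (d c) ∈ C ⊔ C.map d.toMonoidHom := fun c hc => by
      have h : d c * d⁻¹ c ∈ C := by rw [memC, map_mul, htd, htdi, (memC c).1 hc, mul_comm]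
      have h2 : d (d c) * c ∈ C.map d.toMonoidHom := ⟨_, h, by simp [hdd]⟩
      have := mul_mem (Subgroup.mem_sup_right h2) (inv_mem (Subgroup.mem_sup_left (T := C.map d.toMonoidHom) hc))
      simpa using this
    have hinv : ∀ x ∈ C ⊔ C.map d.toMonoidHom, d x ∈ C ⊔ C.map d.toMonoidHom := by
      intro x hx
      obtain ⟨c, hc, y, ⟨e, he, rfl⟩, rfl⟩ := Subgroup.mem_sup.1 hx
      rw [map_mul]
      exact mul_mem (Subgroup.mem_sup_right ⟨c, hc, rfl⟩) (hbase e he)
    have hpow : ∀ (j : ℕ), ∀ x ∈ C ⊔ C.map d.toMonoidHom, (d ^ j) x ∈ C ⊔ C.map d.toMonoidHom := by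
      intro j
      induction j with
      | zero => simp
      | succ j ih => intro x hx; rw [pow_succ', MulAut.mul_apply]; exact hinv _ (ih x hx)
    -- the norm of every element is trivial
    have hnorm : ∀ x : A, ∏ i ∈ Finset.range n, (d ^ i) x = 1 := fun x => hfix _ (by
      rw [map_prod]
      have h1 := Finset.prod_range_succ' (fun i => (d ^ i) x) n
      rw [Finset.prod_range_succ, hd] at h1
      simp only [pow_zero, MulAut.one_apply, pow_succ', MulAut.mul_apply] at h1
      exact (mul_right_cancel h1).symm)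
    have hterm : ∀ i, a * (d ^ (2 * i)) (t a) ∈ C ⊔ C.map d.toMonoidHom := by
      intro i
      set b := ((d ^ i)⁻¹) a with hb
      have hab : (d ^ i) b = a := (d ^ i).apply_symm_apply a
      have htb : t a = ((d ^ i)⁻¹) (t b) := by
        rw [← hab]
        clear hab hb
        clear_value b
        induction i generalizing b with
        | zero => simp
        | succ i ih =>
          rw [pow_succ, MulAut.mul_apply, ih, htd, mul_inv_rev, MulAut.mul_apply]
          have : (d ^ i)⁻¹ * d⁻¹ = d⁻¹ * (d ^ i)⁻¹ := ((Commute.refl d).pow_left i).inv_inv.eq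
          exact congrArg (fun f : MulAut A => f (t b)) this
      have h1 : (d ^ (2 * i)) (t a) = (d ^ i) (t b) := by
        rw [htb, two_mul, pow_add, MulAut.mul_apply]
        congr 1
        exact (d ^ i).apply_symm_apply (t b)
      rw [h1, ← hab, ← map_mul]
      exact hpow i _ (Subgroup.mem_sup_left (by rw [memC, map_mul, ht2, mul_comm]))
    have hperm : ∏ i ∈ Finset.range n, (d ^ (2 * i)) (t a) = 1 := by
      have h2 : ∀ x, ∏ i ∈ Finset.range n, (d ^ (2 * i)) x * (d ^ (2 * i + 1)) x = 1 := by
        intro x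
        have h3 : ∀ k, ∏ i ∈ Finset.range k, (d ^ (2 * i)) x * (d ^ (2 * i + 1)) x =
            ∏ i ∈ Finset.range (k * 2), (d ^ i) x := by
          intro k
          induction k with
          | zero => simp
          | succ k ih => rw [Finset.prod_range_succ, ih, add_mul, one_mul, show k * 2 + 2 = k * 2 + 1 + 1 from rfl,
              Finset.prod_range_succ, Finset.prod_range_succ, mul_assoc, mul_comm 2 k]
        rw [h3, mul_two, Finset.prod_range_add, hnorm, one_mul]
        simp only [pow_add, hd, one_mul, hnorm]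
      set P := ∏ i ∈ Finset.range n, (d ^ (2 * i)) (t a) with hP
      have h4 := h2 (t a)
      rw [Finset.prod_mul_distrib] at h4
      have h5 : d P = ∏ i ∈ Finset.range n, (d ^ (2 * i + 1)) (t a) := by
        rw [hP, map_prod]; simp [pow_succ']
      rw [← h5] at h4
      have h6 : d P = P⁻¹ := eq_inv_of_mul_eq_one_right h4
      have h7 : ∀ j, (d ^ (2 * j)) P = P := by
        intro j
        induction j with
        | zero => simp
        | succ j ih => rw [mul_add, mul_one, pow_add, pow_two]; simp [h6, ih]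
      have h8 := congrArg (fun f : MulAut A => f P) hd
      simp only [hm, pow_succ', MulAut.mul_apply, h7, MulAut.one_apply] at h8
      exact hfix P h8
    have hsum : a ^ n ∈ C ⊔ C.map d.toMonoidHom := by
      have := prod_mem (t := Finset.range n) (fun i _ => hterm i)
      simpa [Finset.prod_mul_distrib, hperm] using this
    obtain ⟨k, hk⟩ := hA a
    have hcop : (2 ^ k).Coprime n := (Nat.coprime_two_left.2 ⟨m, hm⟩).pow_left k
    have hbez := Nat.gcd_eq_gcd_ab n (2 ^ k)
    rw [hcop.symm.gcd_eq_one] at hbez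
    have : a = (a ^ n) ^ Nat.gcdA n (2 ^ k) := by
      conv_lhs => rw [← zpow_one a, show (1 : ℤ) = _ from hbez]
      rw [zpow_add, zpow_mul, zpow_mul, zpow_natCast, zpow_natCast, hk, one_zpow, mul_one]
    rw [this]
    exact zpow_mem hsum _

end Cfsg.Agent.S1899
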