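import Cfsg.Statements.S1900
import Cfsg.Agent.Lib.Solvable.Coprime
import Cfsg.Agent.Lib.Solvable.NilpotentFrattini

set_option autoImplicit false
set_option linter.style.haveILetI false
set_option linter.unusedVariables false
open Cfsg

namespace Cfsg.Agent.S1900

open scoped commutatorElement Pointwise

variable {S : Type*} [Group S] [Finite S]

lemma mem_split {A B : Subgroup S} (h : ∀ a ∈ A, ∀ b ∈ B, a * b = b * a) {x : S} (hx : x ∈ A ⊔ B) :
    ∃ a ∈ A, ∃ b ∈ B, x = a * b := by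
  have hAB : A ≤ Subgroup.normalizer (B : Set S) :=
    le_trans (fun a ha => Subgroup.mem_centralizer_iff.2 fun b hb => (h a ha b hb).symm)
      (Subgroup.centralizer_le_normalizer (B : Set S))
  have hx' : x ∈ ((A ⊔ B : Subgroup S) : Set S) := hx
  rw [Subgroup.coe_mul_of_left_le_normalizer_right A B hAB] at hx'
  obtain ⟨a, ha, b, hb, rfl⟩ := Set.mem_mul.1 hx'
  exact ⟨a, ha, b, hb, rfl⟩

/-- One half of the commutation argument. -/
lemma half {H K : Subgroup S} {x y : S} (hK : ⁅H, H⁆ = K)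
    (hxH : x ∈ Subgroup.normalizer (H : Set S)) (hxy : x * y = y * x)
    (h0 : ∀ c ∈ H, c * x = x * c → c * y = y * c → c = 1)
    (hKsplit : ∀ k ∈ K, ∃ c₁ ∈ K ⊓ Subgroup.centralizer {x}, ∃ c₂ ∈ K ⊓ Subgroup.centralizer {y}, k = c₁ * c₂)
    (hcomm : ∀ c ∈ K ⊓ Subgroup.centralizer {x}, ∀ b ∈ H ⊓ Subgroup.centralizer {y}, c * b = b * c)
    {a b : S} (ha : a ∈ H) (hax : a * x = x * a) (hb : b ∈ H) (hby : b * y = y * b) :
    ⁅a, b⁆ ∈ Subgroup.centralizer {y} := by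
  have hKH : K ≤ H := hK ▸ Subgroup.commutator_le_self H
  let B : Subgroup S := H ⊓ Subgroup.centralizer {y}
  have hconjB : ∀ d ∈ B, x * d * x⁻¹ ∈ B := by
    intro d hd
    refine ⟨(Subgroup.mem_normalizer_iff.1 hxH d).1 hd.1, ?_⟩
    have hd2 := Subgroup.mem_centralizer_singleton_iff.1 hd.2
    refine Subgroup.mem_centralizer_singleton_iff.2 ?_
    have hc : Commute d y := hd2
    have hx' : Commute x y := hxy
    exact ((hx'.mul_left hc).mul_left hx'.inv_left).eq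
  let φ : B → B := fun d => ⟨(d : S)⁻¹ * (x * d * x⁻¹), B.mul_mem (B.inv_mem d.2) (hconjB _ d.2)⟩
  have hφ : Function.Injective φ := by
    intro d e hde
    have h1 : (d : S)⁻¹ * (x * d * x⁻¹) = (e : S)⁻¹ * (x * e * x⁻¹) := congrArg Subtype.val hde
    have h2 : (e : S) * (d : S)⁻¹ = x * ((e : S) * (d : S)⁻¹) * x⁻¹ := by
      calc (e : S) * (d : S)⁻¹ = (e : S) * ((d : S)⁻¹ * (x * d * x⁻¹)) * (x * (d : S)⁻¹ * x⁻¹) := by group
        _ = (e : S) * ((e : S)⁻¹ * (x * e * x⁻¹)) * (x * (d : S)⁻¹ * x⁻¹) := by rw [h1]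
        _ = x * ((e : S) * (d : S)⁻¹) * x⁻¹ := by group
    have h4 := B.mul_mem e.2 (B.inv_mem d.2)
    have h3 := h0 _ h4.1 (eq_mul_inv_iff_mul_eq.1 h2)
      (Subgroup.mem_centralizer_singleton_iff.1 h4.2)
    exact Subtype.ext (mul_inv_eq_one.1 h3).symm
  obtain ⟨⟨d, hd⟩, hd'⟩ := Finite.surjective_of_injective hφ ⟨b, hb, Subgroup.mem_centralizer_singleton_iff.2 hby⟩
  have hdb : d⁻¹ * (x * d * x⁻¹) = b := congrArg Subtype.val hd'
  obtain ⟨c₁, hc₁, c₂, hc₂, h12⟩ := hKsplit _ (hK ▸ Subgroup.commutator_mem_commutator ha hd.1)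
  obtain ⟨e₁, he₁, e₂, he₂, h34⟩ := hKsplit _ (hK ▸ Subgroup.commutator_mem_commutator ha hb)
  have hc₂B : c₂ ∈ B := ⟨hKH hc₂.1, hc₂.2⟩
  have he₂B : e₂ ∈ B := ⟨hKH he₂.1, he₂.2⟩
  have haxi : x * a * x⁻¹ = a := by rw [← hax]; group
  have hxdb : x * d * x⁻¹ = d * b := by rw [← hdb]; group
  have hbil : ⁅a, d * b⁆ = (c₁ * e₁) * (c₂ * (d * e₂ * d⁻¹)) := by
    calc ⁅a, d * b⁆ = ⁅a, d⁆ * (d * ⁅a, b⁆ * d⁻¹) := by simp only [commutatorElement_def]; group
      _ = c₁ * c₂ * ((d * e₁) * e₂ * d⁻¹) := by rw [h12, h34]; group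
      _ = c₁ * (c₂ * e₁) * d * e₂ * d⁻¹ := by rw [← hcomm e₁ he₁ d hd]; group
      _ = c₁ * (e₁ * c₂) * d * e₂ * d⁻¹ := by rw [← hcomm e₁ he₁ c₂ hc₂B]
      _ = (c₁ * e₁) * (c₂ * (d * e₂ * d⁻¹)) := by group
  have hc₁x : x * c₁ * x⁻¹ = c₁ := by
    rw [← Subgroup.mem_centralizer_singleton_iff.1 hc₁.2]; group
  have hequi : ⁅a, d * b⁆ = c₁ * (x * c₂ * x⁻¹) := by
    rw [← hxdb]
    calc ⁅a, x * d * x⁻¹⁆ = ⁅x * a * x⁻¹, x * d * x⁻¹⁆ := by rw [haxi]
      _ = x * ⁅a, d⁆ * x⁻¹ := by simp only [commutatorElement_def]; group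
      _ = (x * c₁ * x⁻¹) * (x * c₂ * x⁻¹) := by rw [h12]; group
      _ = c₁ * (x * c₂ * x⁻¹) := by rw [hc₁x]
  have hone : e₁ = 1 := by
    have hw : (x * c₂ * x⁻¹) * (c₂ * (d * e₂ * d⁻¹))⁻¹ ∈ B :=
      B.mul_mem (hconjB _ hc₂B) (B.inv_mem (B.mul_mem hc₂B (B.mul_mem (B.mul_mem hd he₂B) (B.inv_mem hd))))
    have heq : (x * c₂ * x⁻¹) * (c₂ * (d * e₂ * d⁻¹))⁻¹ = e₁ := by
      have h5 := hequi.symm.trans hbil
      calc (x * c₂ * x⁻¹) * (c₂ * (d * e₂ * d⁻¹))⁻¹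
          = c₁⁻¹ * (c₁ * (x * c₂ * x⁻¹)) * (c₂ * (d * e₂ * d⁻¹))⁻¹ := by group
        _ = c₁⁻¹ * ((c₁ * e₁) * (c₂ * (d * e₂ * d⁻¹))) * (c₂ * (d * e₂ * d⁻¹))⁻¹ := by rw [h5]
        _ = e₁ := by group
    rw [heq] at hw
    exact h0 e₁ (hKH he₁.1) (Subgroup.mem_centralizer_singleton_iff.1 he₁.2)
      (Subgroup.mem_centralizer_singleton_iff.1 hw.2)
  rw [h34, hone, one_mul]
  exact he₂.2

lemma commute_fixed {p : ℕ} [Fact p.Prime] {Q : Subgroup S} [IsMulCommutative Q] (hQ : ¬ IsCyclic Q)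
    {x y : S} (hx : x ∈ Q) (hy : y ∈ Q) {P : Subgroup S} (hP : IsPGroup p P)
    (hcop : (Nat.card Q).Coprime (Nat.card P))
    (hsplit : ∀ u ∈ Q, u ≠ 1 → P ⊓ Subgroup.centralizer {u} ≤ Subgroup.centralizer {x} ∨
      P ⊓ Subgroup.centralizer {u} ≤ Subgroup.centralizer {y})
    (h0 : ∀ c ∈ P, c * x = x * c → c * y = y * c → c = 1) :
    ∀ n : ℕ, ∀ H : Subgroup S, Nat.card H ≤ n → H ≤ P → Q ≤ Subgroup.normalizer (H : Set S) →
      H ⊓ Subgroup.centralizer {x} ⊔ H ⊓ Subgroup.centralizer {y} = H ∧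
      ∀ a ∈ H ⊓ Subgroup.centralizer {x}, ∀ b ∈ H ⊓ Subgroup.centralizer {y}, a * b = b * a := by
  intro n
  induction n with
  | zero => intro H hH; exact absurd hH (not_le.2 Nat.card_pos)
  | succ n ih =>
    intro H hH hHP hQH
    have gen : ∀ T : Subgroup S, T ≤ P → Q ≤ Subgroup.normalizer (T : Set S) →
        T ⊓ Subgroup.centralizer {x} ⊔ T ⊓ Subgroup.centralizer {y} = T := by
      intro T hTP hQT
      refine le_antisymm (sup_le inf_le_left inf_le_left) ?_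
      conv_lhs => rw [← CoprimeAct.generated_by_centralizers hQ hQT
        (hcop.coprime_dvd_right (Subgroup.card_dvd_of_le hTP))]
      refine iSup₂_le fun u hu => ?_
      rcases hsplit u hu.1 hu.2 with h | h
      · exact le_trans (le_inf inf_le_left ((inf_le_inf_right _ hTP).trans h)) le_sup_left
      · exact le_trans (le_inf inf_le_left ((inf_le_inf_right _ hTP).trans h)) le_sup_right
    refine ⟨gen H hHP hQH, fun a ha b hb => ?_⟩
    have hax := Subgroup.mem_centralizer_singleton_iff.1 ha.2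
    have hby := Subgroup.mem_centralizer_singleton_iff.1 hb.2
    have hcom : ∀ u ∈ Q, ∀ v ∈ Q, u * v = v * u := fun u hu v hv =>
      congrArg Subtype.val (mul_comm' (⟨u, hu⟩ : Q) ⟨v, hv⟩)
    have hxy : x * y = y * x := hcom x hx y hy
    have hK : ⁅H, H⁆ ≤ H := Subgroup.commutator_le_self H
    have hconj : ∀ u ∈ Q, ∀ v ∈ Q, ∀ T : Subgroup S, Q ≤ Subgroup.normalizer (T : Set S) →
        ∀ c ∈ T ⊓ Subgroup.centralizer {v}, u * c * u⁻¹ ∈ T ⊓ Subgroup.centralizer {v} := by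
      intro u hu v hv T hT c hc
      refine ⟨(Subgroup.mem_normalizer_iff.1 (hT hu) c).1 hc.1, Subgroup.mem_centralizer_singleton_iff.2 ?_⟩
      have h1 : Commute c v := Subgroup.mem_centralizer_singleton_iff.1 hc.2
      have h2 : Commute u v := hcom u hu v hv
      exact ((h2.mul_left h1).mul_left h2.inv_left).eq
    have hQK : Q ≤ Subgroup.normalizer ((⁅H, H⁆ : Subgroup S) : Set S) := by
      intro u hu
      rw [Subgroup.mem_normalizer_iff_map_conj_eq, Subgroup.map_commutator,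
        Subgroup.mem_normalizer_iff_map_conj_eq.1 (hQH hu)]
    have key : ∀ z w : S, z ∈ Q → w ∈ Q → (∀ c ∈ P, c * z = z * c → c * w = w * c → c = 1) →
        H ⊓ Subgroup.centralizer {z} ≠ ⊥ →
        ∀ T : Subgroup S, T = ⁅H, H⁆ ⊔ H ⊓ Subgroup.centralizer {w} →
        T ≤ P ∧ Q ≤ Subgroup.normalizer (T : Set S) ∧ Nat.card T ≤ n := by
      intro z w hz hw hzw hne T hT
      have hTH : T ≤ H := hT ▸ sup_le hK inf_le_left
      refine ⟨hTH.trans hHP, ?_, ?_⟩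
      · rw [hT]
        have hinv : Q ≤ Subgroup.normalizer ((H ⊓ Subgroup.centralizer {w} : Subgroup S) : Set S) := by
          intro u hu
          refine Subgroup.mem_normalizer_iff.2 fun c => ⟨hconj u hu w hw H hQH c, fun h => ?_⟩
          have h' := hconj u⁻¹ (Q.inv_mem hu) w hw H hQH _ h
          rwa [show u⁻¹ * (u * c * u⁻¹) * u⁻¹⁻¹ = c by group] at h'
        intro u hu
        rw [Subgroup.mem_normalizer_iff_map_conj_eq, Subgroup.map_sup,
          Subgroup.mem_normalizer_iff_map_conj_eq.1 (hQK hu),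
          Subgroup.mem_normalizer_iff_map_conj_eq.1 (hinv hu)]
      · by_contra hcard
        have heq : T = H := Subgroup.eq_of_le_of_card_ge hTH (by omega)
        let U : Subgroup H := (H ⊓ Subgroup.centralizer {w}).subgroupOf H
        have hU : U ⊔ commutator ↥H = ⊤ := by
          apply Subgroup.map_injective H.subtype_injective
          rw [Subgroup.map_sup, Subgroup.map_subgroupOf_eq_of_le inf_le_left, commutator_def,
            Subgroup.map_commutator, ← MonoidHom.range_eq_map, H.range_subtype, sup_comm, ← hT, heq]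
        have : Group.IsNilpotent H := (hP.to_le hHP).isNilpotent
        have hUt : U = ⊤ := frattini_nongenerating
          (top_unique (hU ▸ sup_le_sup_left (SolvStruct.commutator_le_frattini H) U))
        apply hne
        rw [eq_bot_iff]
        intro c hc
        have hcU : (⟨c, hc.1⟩ : H) ∈ U := hUt ▸ Subgroup.mem_top _
        exact Subgroup.mem_bot.2 (hzw c (hHP hc.1) (Subgroup.mem_centralizer_singleton_iff.1 hc.2)
          (Subgroup.mem_centralizer_singleton_iff.1 hcU.2))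
    by_cases h1 : H ⊓ Subgroup.centralizer {x} = ⊥
    · have ha1 : a = 1 := Subgroup.mem_bot.1 (h1 ▸ ha)
      rw [ha1, one_mul, mul_one]
    by_cases h2 : H ⊓ Subgroup.centralizer {y} = ⊥
    · have hb1 : b = 1 := Subgroup.mem_bot.1 (h2 ▸ hb)
      rw [hb1, one_mul, mul_one]
    have h0' : ∀ c ∈ P, c * y = y * c → c * x = x * c → c = 1 := fun c hc hcy hcx => h0 c hc hcx hcy
    obtain ⟨hTP, hQT, hTc⟩ := key x y hx hy h0 h1 _ rfl
    obtain ⟨-, hT⟩ := ih _ hTc hTP hQT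
    obtain ⟨hUP, hQU, hUc⟩ := key y x hy hx h0' h2 _ rfl
    obtain ⟨-, hU⟩ := ih _ hUc hUP hQU
    have hsplitK : ∀ k ∈ ⁅H, H⁆, ∃ c₁ ∈ ⁅H, H⁆ ⊓ Subgroup.centralizer {x},
        ∃ c₂ ∈ ⁅H, H⁆ ⊓ Subgroup.centralizer {y}, k = c₁ * c₂ := by
      intro k hk
      refine mem_split (fun c hc d hd => ?_) ((gen _ (hK.trans hHP) hQK).symm.le hk)
      exact hT c ⟨Subgroup.mem_sup_left hc.1, hc.2⟩ d ⟨Subgroup.mem_sup_left hd.1, hd.2⟩
    have hA : ⁅a, b⁆ ∈ Subgroup.centralizer {y} := half rfl (hQH hx) hxy (fun c hc => h0 c (hHP hc)) hsplitK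
      (fun c hc d hd => hT c ⟨Subgroup.mem_sup_left hc.1, hc.2⟩ d ⟨Subgroup.mem_sup_right hd, hd.2⟩)
      ha.1 hax hb.1 hby
    have hB : ⁅b, a⁆ ∈ Subgroup.centralizer {x} := half rfl (hQH hy) hxy.symm (fun c hc => h0' c (hHP hc))
      (fun k hk => by
        obtain ⟨c, hc, d, hd, rfl⟩ := hsplitK k hk
        exact ⟨d, hd, c, hc, hT c ⟨Subgroup.mem_sup_left hc.1, hc.2⟩ d ⟨Subgroup.mem_sup_left hd.1, hd.2⟩⟩)
      (fun c hc d hd => (hU d ⟨Subgroup.mem_sup_right hd, hd.2⟩ c ⟨Subgroup.mem_sup_left hc.1, hc.2⟩).symm)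
      hb.1 hby ha.1 hax
    rw [← commutatorElement_inv, Subgroup.inv_mem_iff] at hB
    exact commutatorElement_eq_one_iff_mul_comm.1 (h0 _ (hHP (hK (Subgroup.commutator_mem_commutator ha.1 hb.1)))
      (Subgroup.mem_centralizer_singleton_iff.1 hB) (Subgroup.mem_centralizer_singleton_iff.1 hA))

/-- Let S = PQ be a finite group with P a normal Sylow p-subgroup and Q elementary abelian of order q², q a prime different from p. If exactly two subgroups X₁, X₂ of order q in Q have a nontrivial centralizer in P, then P is the internal direct product of C_P(X₁) and C_P(X₂): they commute elementwise, meet trivially and generate P. -/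
theorem result {S : Type*} [Group S] [Finite S] {p q : ℕ} [Fact p.Prime] [Fact q.Prime] (hpq : p ≠ q)
    (P : Sylow p S) [(P : Subgroup S).Normal] (Q : Subgroup S) (hQ : Cfsg.IsElementaryAbelian q Q) (hQc : Nat.card Q = q ^ 2)
    (hS : (P : Subgroup S) ⊔ Q = ⊤)
    (X₁ X₂ : Subgroup S) (h₁ : X₁ ≤ Q) (h₂ : X₂ ≤ Q) (h₁₂ : X₁ ≠ X₂) (hc₁ : Nat.card X₁ = q) (hc₂ : Nat.card X₂ = q)
    (hf₁ : (P : Subgroup S) ⊓ Subgroup.centralizer (X₁ : Set S) ≠ ⊥)
    (hf₂ : (P : Subgroup S) ⊓ Subgroup.centralizer (X₂ : Set S) ≠ ⊥)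
    (honly : ∀ X : Subgroup S, X ≤ Q → Nat.card X = q →
      (P : Subgroup S) ⊓ Subgroup.centralizer (X : Set S) ≠ ⊥ → X = X₁ ∨ X = X₂) :
    ⁅(P : Subgroup S) ⊓ Subgroup.centralizer (X₁ : Set S), (P : Subgroup S) ⊓ Subgroup.centralizer (X₂ : Set S)⁆ = ⊥ ∧
      ((P : Subgroup S) ⊓ Subgroup.centralizer (X₁ : Set S)) ⊓ ((P : Subgroup S) ⊓ Subgroup.centralizer (X₂ : Set S)) = ⊥ ∧
      ((P : Subgroup S) ⊓ Subgroup.centralizer (X₁ : Set S)) ⊔ ((P : Subgroup S) ⊓ Subgroup.centralizer (X₂ : Set S)) = P := by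
  have hqP : q.Prime := Fact.out
  have hpP : p.Prime := Fact.out
  have : IsMulCommutative Q := hQ.1
  have hQn : ¬ IsCyclic Q := by
    intro h
    obtain ⟨g, hg⟩ := IsCyclic.exists_generator (α := Q)
    have h1 : orderOf g = q ^ 2 := hQc ▸ orderOf_eq_card_of_forall_mem_zpowers hg
    have h2 : (g : S) ^ q = 1 := hQ.2 _ g.2
    have h3 : orderOf g ∣ q := orderOf_dvd_of_pow_eq_one (Subtype.ext (by simpa using h2))
    rw [h1] at h3
    have := Nat.le_of_dvd hqP.pos h3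
    nlinarith [hqP.two_le]
  have gens : ∀ X : Subgroup S, Nat.card X = q → ∀ u ∈ X, u ≠ 1 → Subgroup.zpowers u = X := by
    intro X hX u hu hu1
    refine Subgroup.eq_of_le_of_card_ge (Subgroup.zpowers_le.2 hu) ?_
    rw [Nat.card_zpowers, hX]
    have hd : orderOf u ∣ q := hX ▸ X.orderOf_dvd_natCard hu
    rcases (Nat.dvd_prime hqP).1 hd with h | h
    · exact absurd (orderOf_eq_one_iff.1 h) hu1
    · exact h.ge
  have cent : ∀ u : S, Subgroup.centralizer (Subgroup.zpowers u : Set S) = Subgroup.centralizer {u} := fun u => by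
    rw [Subgroup.zpowers_eq_closure, Subgroup.centralizer_closure]
  have nontriv : ∀ X : Subgroup S, Nat.card X = q → ∃ u ∈ X, u ≠ 1 := by
    intro X hX
    by_contra hcon
    push Not at hcon
    have : X = ⊥ := (Subgroup.eq_bot_iff_forall X).2 hcon
    rw [this, Subgroup.card_bot] at hX
    exact hqP.one_lt.ne hX
  obtain ⟨x, hx, hx1⟩ := nontriv X₁ hc₁
  obtain ⟨y, hy, hy1⟩ := nontriv X₂ hc₂
  have hC₁ : Subgroup.centralizer (X₁ : Set S) = Subgroup.centralizer {x} := by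
    rw [← gens X₁ hc₁ x hx hx1, cent]
  have hC₂ : Subgroup.centralizer (X₂ : Set S) = Subgroup.centralizer {y} := by
    rw [← gens X₂ hc₂ y hy hy1, cent]
  have cyc : ∀ u ∈ Q, u ≠ 1 → Subgroup.zpowers u ≤ Q ∧ Nat.card (Subgroup.zpowers u) = q := fun u hu hu1 =>
    ⟨Subgroup.zpowers_le.2 hu, by rw [Nat.card_zpowers, orderOf_eq_prime (hQ.2 u hu) hu1]⟩
  have dich : ∀ u ∈ Q, u ≠ 1 → (P : Subgroup S) ⊓ Subgroup.centralizer {u} ≠ ⊥ →
      Subgroup.zpowers u = X₁ ∨ Subgroup.zpowers u = X₂ := fun u hu hu1 hne =>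
    honly _ (cyc u hu hu1).1 (cyc u hu hu1).2 (by rwa [cent])
  have hsplit : ∀ u ∈ Q, u ≠ 1 →
      (P : Subgroup S) ⊓ Subgroup.centralizer {u} ≤ Subgroup.centralizer {x} ∨
      (P : Subgroup S) ⊓ Subgroup.centralizer {u} ≤ Subgroup.centralizer {y} := by
    intro u hu hu1
    by_cases hne : (P : Subgroup S) ⊓ Subgroup.centralizer {u} = ⊥
    · exact Or.inl (hne ▸ bot_le)
    rcases dich u hu hu1 hne with h | h
    · exact Or.inl (inf_le_right.trans (by rw [← cent u, h, hC₁]))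
    · exact Or.inr (inf_le_right.trans (by rw [← cent u, h, hC₂]))
  have h0 : ∀ c ∈ (P : Subgroup S), c * x = x * c → c * y = y * c → c = 1 := by
    intro c hc hcx hcy
    by_contra hc1
    have hxy1 : x * y ∉ X₁ := fun h =>
      h₁₂ (by rw [← gens X₁ hc₁ y ((X₁.mul_mem_cancel_left hx).1 h) hy1, gens X₂ hc₂ y hy hy1])
    have hxy2 : x * y ∉ X₂ := fun h =>
      h₁₂ (by rw [← gens X₂ hc₂ x ((X₂.mul_mem_cancel_right hy).1 h) hx1, gens X₁ hc₁ x hx hx1])
    have hne : (P : Subgroup S) ⊓ Subgroup.centralizer {x * y} ≠ ⊥ := fun h =>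
      hc1 (Subgroup.mem_bot.1 (h ▸ Subgroup.mem_inf.2 ⟨hc, Subgroup.mem_centralizer_singleton_iff.2
        (Commute.mul_right hcx hcy).eq⟩))
    rcases dich (x * y) (Q.mul_mem (h₁ hx) (h₂ hy)) (fun h => hxy1 (h ▸ X₁.one_mem)) hne with h | h
    · exact hxy1 (h ▸ Subgroup.mem_zpowers _)
    · exact hxy2 (h ▸ Subgroup.mem_zpowers _)
  have hcop : (Nat.card Q).Coprime (Nat.card (P : Subgroup S)) := by
    obtain ⟨k, hk⟩ := IsPGroup.iff_card.1 P.isPGroup'
    rw [hQc, hk]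
    exact Nat.Coprime.pow _ _ ((Nat.coprime_primes hqP hpP).2 hpq.symm)
  have hQP : Q ≤ Subgroup.normalizer ((P : Subgroup S) : Set S) := by
    rw [Subgroup.normalizer_eq_top (H := (P : Subgroup S))]; exact le_top
  obtain ⟨hgen, hcomm⟩ := commute_fixed hQn (h₁ hx) (h₂ hy) P.isPGroup' hcop hsplit h0
    (Nat.card (P : Subgroup S)) (P : Subgroup S) le_rfl le_rfl hQP
  rw [hC₁, hC₂]
  refine ⟨?_, ?_, hgen⟩
  · rw [Subgroup.commutator_eq_bot_iff_le_centralizer]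
    exact fun a ha => Subgroup.mem_centralizer_iff.2 fun b hb => (hcomm a ha b hb).symm
  · rw [eq_bot_iff]
    exact fun c hc => Subgroup.mem_bot.2 (h0 c hc.1.1 (Subgroup.mem_centralizer_singleton_iff.1 hc.1.2)
      (Subgroup.mem_centralizer_singleton_iff.1 hc.2.2))

end Cfsg.Agent.S1900
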