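import Cfsg.Statements.S1901
import Cfsg.Agent.Lib.PLocal.PSolvable
import Cfsg.Agent.Lib.Solvable.Coprime
import Cfsg.Agent.Lib.Solvable.Fitting

set_option autoImplicit false
set_option linter.style.haveILetI false
set_option linter.unusedVariables false
open Cfsg

namespace Cfsg.Agent.S1901

open Cfsg.Agent
open scoped commutatorElement

universe v

/-- A `p`-group normalizing a `p'`-group that normalizes a Sylow subgroup centralizes it. -/
theorem centralizes_aux {p : ℕ} [Fact p.Prime] : ∀ (n : ℕ) (X : Type v) [Group X] [Finite X],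
    Nat.card X ≤ n → Cfsg.IsPSolvable p X → ∀ (P : Sylow p X) (A Q : Subgroup X),
    IsPGroup p A → (Nat.card Q).Coprime p → A ≤ Subgroup.normalizer (Q : Set X) →
    Q ≤ Subgroup.normalizer ((P : Subgroup X) : Set X) → ⁅Q, A⁆ = ⊥ := by
  intro n
  induction n with
  | zero => intro X _ _ hn; exact absurd hn (not_le.2 Nat.card_pos)
  | succ n ih =>
    intro X _ _ hn hX P A Q hA hQ hAQ hQP
    have hcc : ⁅⁅Q, A⁆, A⁆ = ⊥ → ⁅Q, A⁆ = ⊥ := fun h => by
      haveI := hA.isNilpotent
      have hcop : (Nat.card A).Coprime (Nat.card Q) := by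
        obtain ⟨k, hk⟩ := hA.exists_card_eq
        rw [hk]; exact (hQ.pow_right k).symm
      rw [← CoprimeAct.commutator_commutator hAQ hcop (Or.inl inferInstance)]; exact h
    by_cases hXn : Nontrivial X
    swap
    · rw [not_nontrivial_iff_subsingleton] at hXn
      exact Subsingleton.elim _ _
    -- the quotient step
    have step : ∀ (N : Subgroup X) [N.Normal], N ≠ ⊥ → ⁅Q, A⁆ ≤ N := by
      intro N _ hN
      set f := QuotientGroup.mk' N with hf
      have hcard : Nat.card (X ⧸ N) ≤ n := by
        have h1 := Subgroup.card_eq_card_quotient_mul_card_subgroup N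
        have h2 : 1 < Nat.card N := by
          haveI := (Subgroup.nontrivial_iff_ne_bot N).2 hN
          exact Finite.one_lt_card
        have h3 : 0 < Nat.card (X ⧸ N) := Nat.card_pos
        nlinarith
      have h := ih (X ⧸ N) hcard (PSolvable.quotient N hX) (P.mapSurjective (QuotientGroup.mk'_surjective N))
        (A.map f) (Q.map f) (hA.map f) (Nat.Coprime.coprime_dvd_left (Q.card_map_dvd f) hQ)
        ((Subgroup.map_mono hAQ).trans (Subgroup.le_normalizer_map f))
        ((Subgroup.map_mono hQP).trans (Subgroup.le_normalizer_map f))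
      rwa [← Subgroup.map_commutator, Subgroup.map_eq_bot_iff, hf, QuotientGroup.ker_mk'] at h
    have hQAle : ⁅Q, A⁆ ≤ Q := Subgroup.le_normalizer_iff_commutator_le_left.1 hAQ
    rcases PSolvable.exists_core_ne_bot hX with hc | hc
    · haveI := Cfsg.pCore_normal p X
      refine (Subgroup.eq_bot_iff_forall _).2 fun x hx => ?_
      exact PBasic.eq_one_of_isPGroup_of_coprime (PBasic.pCore_isPGroup p X) (step _ hc hx)
        (Nat.Coprime.coprime_dvd_left (Subgroup.orderOf_dvd_natCard Q (hQAle hx)) hQ)
    · haveI := FittingCores.pPrimeCore_normal (G := X) p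
      set K := Cfsg.pPrimeCore p X with hK
      have hQ1K : ⁅Q, A⁆ ≤ K := step K hc
      set C := Subgroup.centralizer ((⁅Q, A⁆ : Subgroup X) : Set X) with hC
      have hPC : (P : Subgroup X) ≤ C := by
        intro u hu
        refine Subgroup.mem_centralizer_iff.2 fun x hx => ?_
        have hxP := hQP (hQAle hx)
        have h1 : x * u * x⁻¹ * u⁻¹ ∈ (P : Subgroup X) :=
          mul_mem ((Subgroup.mem_normalizer_iff.1 hxP u).1 hu) (inv_mem hu)
        have h2 : x * u * x⁻¹ * u⁻¹ ∈ K := by
          have h3 := (inferInstance : K.Normal).conj_mem _ (inv_mem (hQ1K hx)) u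
          have := mul_mem (hQ1K hx) h3
          simpa [mul_assoc] using this
        have h4 := PBasic.eq_one_of_isPGroup_of_coprime P.isPGroup' h1
          (Nat.Coprime.coprime_dvd_left (Subgroup.orderOf_dvd_natCard K h2) (FittingCores.pPrimeCore_coprime p))
        exact mul_inv_eq_iff_eq_mul.1 (mul_inv_eq_one.1 h4)
      -- the normalizer of `[Q,A]`
      set N := Subgroup.normalizer ((⁅Q, A⁆ : Subgroup X) : Set X) with hN
      have hCN : C ≤ N := Subgroup.centralizer_le_normalizer _
      haveI : (C.subgroupOf N).Normal := ⟨fun c hc y => by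
        rw [Subgroup.mem_subgroupOf] at hc ⊢
        rw [hC, Subgroup.mem_centralizer_iff]
        intro b hb
        have hb' : (y : X)⁻¹ * b * y ∈ ⁅Q, A⁆ := (Subgroup.mem_normalizer_iff''.1 y.2 b).1 hb
        have h1 := Subgroup.mem_centralizer_iff.1 hc _ hb'
        push_cast
        calc b * ((y : X) * c * (y : X)⁻¹) = y * (((y : X)⁻¹ * b * y) * c) * (y : X)⁻¹ := by group
          _ = y * c * (y : X)⁻¹ * b := by rw [h1]; group⟩
      have hAC : A ≤ C := by
        intro a ha
        have haN : a ∈ N := Subgroup.normalizer_commutator_ge_right Q A ha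
        set q := QuotientGroup.mk' (C.subgroupOf N) with hq
        have hidx : ¬ p ∣ Nat.card (↥N ⧸ C.subgroupOf N) := by
          rw [← Subgroup.index_eq_card]
          refine fun hd => P.not_dvd_index (hd.trans ?_)
          have hPN : (P : Subgroup X) ≤ N := hPC.trans hCN
          exact ((Subgroup.index_dvd_of_le fun x hx => hPC hx :
            (C.subgroupOf N).index ∣ ((P : Subgroup X).subgroupOf N).index)).trans
            (Dvd.intro _ (Subgroup.relIndex_mul_index hPN))
        obtain ⟨k, hk⟩ := hA ⟨a, ha⟩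
        have hqa : q ⟨a, haN⟩ = 1 := by
          rw [← orderOf_eq_one_iff]
          exact Nat.eq_one_of_dvd_coprimes (((Fact.out : p.Prime).coprime_iff_not_dvd.2 hidx).pow_left k)
            (orderOf_dvd_of_pow_eq_one (show q ⟨a, haN⟩ ^ p ^ k = 1 by
              rw [← map_pow, show (⟨a, haN⟩ : N) ^ p ^ k = 1 from Subtype.ext (congrArg Subtype.val hk :), map_one]))
            (orderOf_dvd_natCard _)
        exact (QuotientGroup.eq_one_iff (N := C.subgroupOf N) ⟨a, haN⟩).1 hqa
      exact hcc (Subgroup.commutator_eq_bot_iff_le_centralizer.2 (Subgroup.le_centralizer_iff.1 hAC))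

/-- Let G be a finite p-solvable group and Q a subgroup of order prime to p such that p divides the index of C_G(Q) in N_G(Q). Then Q normalizes no Sylow p-subgroup of G. -/
theorem result {G : Type*} [Group G] [Finite G] {p : ℕ} [Fact p.Prime]
    (hG : Cfsg.IsPSolvable p G) (Q : Subgroup G) (hQ : ¬ p ∣ Nat.card Q)
    (hA : p ∣ (Subgroup.centralizer (Q : Set G)).relIndex (Subgroup.normalizer (Q : Set G)))
    (P : Sylow p G) : ¬ Q ≤ Subgroup.normalizer ((P : Subgroup G) : Set G) := by
  intro hQP
  set N := Subgroup.normalizer (Q : Set G) with hN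
  set C := Subgroup.centralizer (Q : Set G) with hC
  obtain ⟨T⟩ : Nonempty (Sylow p N) := inferInstance
  have hTA : (T : Subgroup N).map N.subtype ≤ C := by
    rw [← Subgroup.commutator_eq_bot_iff_le_centralizer, Subgroup.commutator_comm]
    exact centralizes_aux _ G le_rfl hG P _ Q (T.isPGroup'.map N.subtype)
      ((Fact.out : p.Prime).coprime_iff_not_dvd.2 hQ).symm (Subgroup.map_subtype_le _) hQP
  refine T.not_dvd_index (hA.trans (Subgroup.index_dvd_of_le fun x hx => ?_))
  exact hTA ⟨x, hx, rfl⟩

end Cfsg.Agent.S1901
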