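import Cfsg.Statements.S1902
import Cfsg.Agent.Lib.PLocal.PSolvable
import Cfsg.Agent.Lib.Signalizer.OddPAction
import Cfsg.Agent.Lib.Transfer.CoprimeQuotient
import Cfsg.Agent.Lib.Solvable.Fitting

set_option autoImplicit false
set_option linter.style.haveILetI false
set_option linter.unusedVariables false
open Cfsg

namespace Cfsg.Agent.S1902

open Cfsg.Agent
open scoped commutatorElement

/-- Let p be an odd prime, G a finite p-solvable group, and B an elementary abelian subgroup of order p² such that B is the subgroup generated by the elements of order p of some Sylow p-subgroup of C_G(b₀), for some nontrivial b₀ ∈ B. Then every B-invariant subgroup of G of order prime to p lies in O_{p'}(G). -/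
theorem result {G : Type*} [Group G] [Finite G] {p : ℕ} [Fact p.Prime] (hp : p ≠ 2)
    (hG : Cfsg.IsPSolvable p G) (B : Subgroup G) (hB : Cfsg.IsElementaryAbelian p B) (hBc : Nat.card B = p ^ 2)
    (b₀ : G) (hb₀ : b₀ ∈ B) (hb₁ : b₀ ≠ 1) (P : Sylow p ↥(Subgroup.centralizer ({b₀} : Set G)))
    (hBP : B = Subgroup.closure {x : G | x ∈ ((P : Subgroup ↥(Subgroup.centralizer ({b₀} : Set G))).map
      (Subgroup.centralizer ({b₀} : Set G)).subtype : Subgroup G) ∧ orderOf x = p})
    (Q : Subgroup G) (hQ : ¬ p ∣ Nat.card Q) (hinv : ∀ b ∈ B, ∀ x ∈ Q, b * x * b⁻¹ ∈ Q) :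
    Q ≤ Cfsg.pPrimeCore p G := by
  have hpp : p.Prime := Fact.out
  set N := Cfsg.pPrimeCore p G with hN
  haveI : N.Normal := Cfsg.pPrimeCore_normal p G
  let f := QuotientGroup.mk' N
  have hf : Function.Surjective f := QuotientGroup.mk'_surjective N
  have hker : (Nat.card f.ker).Coprime p := by
    rw [QuotientGroup.ker_mk']; exact PBasic.pPrimeCore_coprime p G
  have hBp : IsPGroup p B := fun b => ⟨1, Subtype.ext (by simpa using hB.2 b b.2)⟩
  have hA' : Subgroup.zpowers b₀ ≤ B := Subgroup.zpowers_le.2 hb₀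
  have hAp : IsPGroup p (Subgroup.zpowers b₀) := hBp.to_le hA'
  let A := (Subgroup.zpowers b₀).map f
  let R := Cfsg.pCore p (G ⧸ N)
  let Q' := Q.map f
  haveI hRn : R.Normal := Cfsg.pCore_normal p _
  have hRp : IsPGroup p R := PBasic.pCore_isPGroup p _
  have hQ' : (Nat.card Q').Coprime p :=
    ((hpp.coprime_iff_not_dvd.2 hQ).symm).coprime_dvd_left (Subgroup.card_map_dvd Q f)
  have hBQ : B ≤ Subgroup.normalizer (Q : Set G) := fun b hb =>
    Subgroup.mem_normalizer_fintype fun x hx => hinv b hb x hx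
  have hCA : Subgroup.centralizer (A : Set (G ⧸ N)) = (Subgroup.centralizer ({b₀} : Set G)).map f := by
    rw [CoprimeQuotient.centralizer_map f hf hker hAp, Subgroup.zpowers_eq_closure,
      Subgroup.centralizer_closure]
  have hzero : ⁅R, Q'⁆ = ⊥ := by
    refine Signalizer.centralizes_of_centralizes_fixed_omega hp (A := A) (hAp.map f) hQ' ?_ R hRp
      (Subgroup.normalizer_eq_top_iff.2 hRn ▸ le_top) (Subgroup.normalizer_eq_top_iff.2 hRn ▸ le_top) ?_
    · exact (Subgroup.map_mono (hA'.trans hBQ)).trans (Subgroup.le_normalizer_map f)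
    intro x hxR hxp hxA
    rw [hCA] at hxA
    -- `x` lifts to an element of `B`
    let g : (Subgroup.centralizer ({b₀} : Set G)) →* (Subgroup.centralizer ({b₀} : Set G)).map f := f.subgroupMap (Subgroup.centralizer ({b₀} : Set G))
    let P' : Sylow p ((Subgroup.centralizer ({b₀} : Set G)).map f) := P.mapSurjective (f := g) (f.subgroupMap_surjective (Subgroup.centralizer ({b₀} : Set G)))
    have hU : R.subgroupOf ((Subgroup.centralizer ({b₀} : Set G)).map f) ≤ (P' : Subgroup ((Subgroup.centralizer ({b₀} : Set G)).map f)) :=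
      (FittingCores.le_pCore (Subgroup.Normal.subgroupOf hRn _) hRp.comap_subtype).trans
        (FittingCores.pCore_le_sylow P')
    obtain ⟨y, hy, hyx⟩ := hU (show (⟨x, hxA⟩ : (Subgroup.centralizer ({b₀} : Set G)).map f) ∈ R.subgroupOf ((Subgroup.centralizer ({b₀} : Set G)).map f) from hxR)
    have hyx' : f (y : G) = x := congrArg Subtype.val hyx
    have hxB : x ∈ B.map f := by
      by_cases hy1 : (y : G) = 1
      · rw [← hyx', hy1]; exact Subgroup.mem_map_of_mem f B.one_mem
      refine ⟨y, ?_, hyx'⟩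
      have hyP : (y : G) ∈ (P : Subgroup (Subgroup.centralizer ({b₀} : Set G))).map (Subgroup.centralizer ({b₀} : Set G)).subtype := ⟨y, hy, rfl⟩
      have hyp : (y : G) ^ p = 1 := by
        refine CoprimeQuotient.injOn_of_coprime_ker f hker (P.isPGroup'.map (Subgroup.centralizer ({b₀} : Set G)).subtype)
          (Subgroup.pow_mem _ hyP p) (Subgroup.one_mem _) ?_
        rw [map_pow, hyx', hxp, map_one]
      rw [hBP]
      exact Subgroup.subset_closure ⟨hyP, orderOf_eq_prime hyp hy1⟩
    refine Subgroup.mem_centralizer_iff.2 fun q hq => ?_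
    have hxn : x ∈ Subgroup.normalizer (Q' : Set (G ⧸ N)) :=
      ((Subgroup.map_mono hBQ).trans (Subgroup.le_normalizer_map f)) hxB
    have h1 : ⁅x, q⁆ ∈ R ⊓ Q' := by
      constructor
      · have := R.mul_mem hxR (hRn.conj_mem x⁻¹ (R.inv_mem hxR) q)
        simpa [commutatorElement_def, mul_assoc] using this
      · have := Q'.mul_mem ((Subgroup.mem_normalizer_iff.1 hxn q).1 hq) (Q'.inv_mem hq)
        simpa [commutatorElement_def] using this
    rw [inf_comm, PBasic.inf_eq_bot_of_coprime hQ' hRp, Subgroup.mem_bot] at h1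
    exact (commutatorElement_eq_one_iff_mul_comm.1 h1).symm
  have hQR : Q' ≤ R := by
    refine le_trans ?_ (PSolvable.centralizer_pCore_le (PSolvable.quotient N hG)
      (PBasic.pPrimeCore_quotient_pPrimeCore p G))
    rw [Subgroup.le_centralizer_iff]
    exact Subgroup.commutator_eq_bot_iff_le_centralizer.1 hzero
  have hbot : Q' = ⊥ := by
    rw [← inf_eq_left.2 hQR]
    exact PBasic.inf_eq_bot_of_coprime hQ' hRp
  intro x hx
  have h1 : f x ∈ Q' := Subgroup.mem_map_of_mem f hx
  rw [hbot, Subgroup.mem_bot] at h1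
  exact (QuotientGroup.eq_one_iff x).1 h1

end Cfsg.Agent.S1902
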