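import Cfsg.Statements.S1903
import Cfsg.Agent.Lib.SU3Sylow.Embed
import Cfsg.Agent.Lib.SU3Sylow.Pairs
import Cfsg.Agent.Lib.Small.Order320
-- import your own Cfsg.Agent.* helpers here

set_option autoImplicit false
set_option linter.style.haveILetI false
open Cfsg

namespace Cfsg.Agent.S1903

open Matrix Cfsg.Agent.SU3Sylow Cfsg.Agent.Hermitian
open scoped commutatorElement

section
universe u
variable {F : Type u} [Field F] [CharP F 2] [Finite F] {σ : F →+* F} [hi : Inv2 σ]

theorem mem_imp (hσ : ∀ x, σ x = x ^ 4) {α : F} (hα : α + σ α = 1) {A : SpecialLinearGroup (Fin 3) F}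
    (h : baseChange α * A * (baseChange α)⁻¹ ∈ Cfsg.SU 3 F 4) :
    A.1ᵀ * !![0, 0, 1; 0, 1, 0; 1, 0, 0] * A.1.map σ = !![0, 0, 1; 0, 1, 0; 1, 0, 0] := by
  have e2 : (2 : F) = 0 := CharTwo.two_eq_zero
  rw [HermSU.mem_SU_iff hσ] at h
  set P := baseChange α with hP
  have k1 : P.1ᵀ * P.1.map σ = !![0, 0, 1; 0, 1, 0; 1, 0, 0] := by
    ext i j
    fin_cases i <;> fin_cases j <;>
      simp [hP, baseChange, Matrix.mul_apply, Fin.sum_univ_three, CharTwo.add_self_eq_zero]
    · linear_combination σ α * e2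
    · linear_combination α * e2
    · linear_combination hα + (α * σ α + 1) * e2
  set B := P * A * P⁻¹ with hB
  have hBP : B.1 * P.1 = P.1 * A.1 := by
    have := congrArg Subtype.val (show B * P = P * A by rw [hB]; group)
    exact this
  rw [← k1]
  calc A.1ᵀ * (P.1ᵀ * P.1.map σ) * A.1.map σ = (P.1 * A.1)ᵀ * (P.1 * A.1).map σ := by
        simp only [Matrix.transpose_mul, Matrix.map_mul, Matrix.mul_assoc]
    _ = P.1ᵀ * (B.1ᵀ * B.1.map σ) * P.1.map σ := by
        rw [← hBP]; simp only [Matrix.transpose_mul, Matrix.map_mul, Matrix.mul_assoc]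
    _ = P.1ᵀ * P.1.map σ := by rw [h, Matrix.mul_one]

theorem mem_of (hσ : ∀ x, σ x = x ^ 4) {α : F} (hα : α + σ α = 1) {A : SpecialLinearGroup (Fin 3) F}
    (h : A.1ᵀ * !![0, 0, 1; 0, 1, 0; 1, 0, 0] * A.1.map σ = !![0, 0, 1; 0, 1, 0; 1, 0, 0]) :
    baseChange α * A * (baseChange α)⁻¹ ∈ Cfsg.SU 3 F 4 := by
  have e2 : (2 : F) = 0 := CharTwo.two_eq_zero
  rw [HermSU.mem_SU_iff hσ]
  set P := baseChange α with hP
  have k1 : P.1ᵀ * P.1.map σ = !![0, 0, 1; 0, 1, 0; 1, 0, 0] := by
    ext i j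
    fin_cases i <;> fin_cases j <;>
      simp [hP, baseChange, Matrix.mul_apply, Fin.sum_univ_three, CharTwo.add_self_eq_zero]
    · linear_combination σ α * e2
    · linear_combination α * e2
    · linear_combination hα + (α * σ α + 1) * e2
  set Q := P⁻¹ with hQ
  have hPQ : P.1 * Q.1 = 1 := congrArg Subtype.val (mul_inv_cancel P)
  show (P.1 * A.1 * Q.1)ᵀ * (P.1 * A.1 * Q.1).map σ = 1
  rw [Matrix.transpose_mul, Matrix.transpose_mul, Matrix.map_mul, Matrix.map_mul]
  calc Q.1ᵀ * (A.1ᵀ * P.1ᵀ) * (P.1.map σ * A.1.map σ * Q.1.map σ)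
      = Q.1ᵀ * (A.1ᵀ * (P.1ᵀ * P.1.map σ) * A.1.map σ) * Q.1.map σ := by
        simp only [Matrix.mul_assoc]
    _ = Q.1ᵀ * (P.1ᵀ * P.1.map σ) * Q.1.map σ := by rw [k1, h]
    _ = (P.1 * Q.1)ᵀ * (P.1 * Q.1).map σ := by
        simp only [Matrix.transpose_mul, Matrix.map_mul, Matrix.mul_assoc]
    _ = 1 := by rw [hPQ]; simp

/-- the diagonal element of order five -/
def dia (l : F) (hl : l ^ 5 = 1) : SpecialLinearGroup (Fin 3) F :=
  ⟨!![l, 0, 0; 0, l ^ 3, 0; 0, 0, l], by
    simp [det_fin_three]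
    linear_combination hl⟩

theorem dia_sigma (hσ : ∀ x, σ x = x ^ 4) {l : F} (hl : l ^ 5 = 1) :
    l * σ l = 1 ∧ (l ^ 3) * σ (l ^ 3) = 1 := by
  rw [map_pow, hσ]
  constructor
  · linear_combination hl
  · linear_combination (l ^ 10 + l ^ 5 + 1) * hl

theorem dia_form (hσ : ∀ x, σ x = x ^ 4) {l : F} (hl : l ^ 5 = 1) :
    (dia l hl).1ᵀ * !![0, 0, 1; 0, 1, 0; 1, 0, 0] * (dia l hl).1.map σ = !![0, 0, 1; 0, 1, 0; 1, 0, 0] := by
  obtain ⟨h1, h2⟩ := dia_sigma hσ hl
  rw [map_pow] at h2
  ext i j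
  fin_cases i <;> fin_cases j <;> simp [dia, Matrix.mul_apply, Fin.sum_univ_three] <;>
    first | linear_combination h1 | linear_combination h2

/-- a form-preserving matrix commuting with a central pair is a diagonal element times a pair -/
theorem decompose (hσ : ∀ x, σ x = x ^ 4) {A : SpecialLinearGroup (Fin 3) F}
    (hA : A.1ᵀ * !![0, 0, 1; 0, 1, 0; 1, 0, 0] * A.1.map σ = !![0, 0, 1; 0, 1, 0; 1, 0, 0])
    {c : fixed σ} (hc : (c : F) ≠ 0) (hcomm : A * triHom (Heis.cen c) = triHom (Heis.cen c) * A) :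
    A.1 1 0 = 0 ∧ A.1 2 0 = 0 ∧ ∃ (l : F) (hl : l ^ 5 = 1) (h : Heis σ), A = dia l hl * triHom h := by
  have e2 : (2 : F) = 0 := CharTwo.two_eq_zero
  have hm : A.1 * triMat (Heis.cen c) = triMat (Heis.cen c) * A.1 := congrArg Subtype.val hcomm
  have t : ∀ i j, (A.1 * triMat (Heis.cen c)) i j = (triMat (Heis.cen c) * A.1) i j := fun i j => by rw [hm]
  have t00 := t 0 0
  have t02 := t 0 2
  have t01 := t 0 1
  have t12 := t 1 2
  simp [triMat, Matrix.mul_apply, Fin.sum_univ_three, hc] at t00 t02 t01 t12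
  have h20 : A.1 2 0 = 0 := t00
  have h21 : A.1 2 1 = 0 := t01
  have h10 : A.1 1 0 = 0 := t12
  have h22 : A.1 2 2 = A.1 0 0 := mul_right_cancel₀ hc (by linear_combination -t02)
  have f : ∀ i j : Fin 3, (A.1ᵀ * !![0, 0, 1; 0, 1, 0; 1, 0, 0] * A.1.map σ : Matrix (Fin 3) (Fin 3) F) i j =
      (!![0, 0, 1; 0, 1, 0; 1, 0, 0] : Matrix (Fin 3) (Fin 3) F) i j := fun i j => by rw [hA]
  have f02 := f 0 2
  have f12 := f 1 2
  have f22 := f 2 2
  have f11 := f 1 1
  simp [Matrix.mul_apply, Fin.sum_univ_three, h20, h21, h10, h22] at f02 f12 f22 f11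
  have hdet := A.2
  rw [det_fin_three] at hdet
  simp only [h20, h21, h10, h22, mul_zero, zero_mul, sub_zero, add_zero] at hdet
  set l := A.1 0 0 with hl'
  set m := A.1 1 1 with hm'
  set a := A.1 0 1
  set b := A.1 0 2
  set d := A.1 1 2
  have hl : l ^ 5 = 1 := by rw [← f02, hσ]; ring
  have hm3 : m = l ^ 3 := by
    calc m = m * l ^ 5 := by rw [hl, mul_one]
      _ = (l * m * l) * l ^ 3 := by ring
      _ = l ^ 3 := by rw [hdet, one_mul]
  obtain ⟨s1, s2⟩ := dia_sigma hσ hl
  rw [map_pow] at s2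
  rw [hm3] at f12 f11
  rw [map_pow] at f11
  refine ⟨h10, h20, l, hl, ⟨σ l ^ 3 * d, σ l * b, ?_⟩, ?_⟩
  · rw [map_mul, map_mul, map_pow, hi.inv2]
    linear_combination f22 + (d * σ d) * s2
  · refine Subtype.ext ?_
    show A.1 = (dia l hl).1 * triMat _
    ext i j
    fin_cases i <;> fin_cases j <;>
      simp [dia, triMat, Matrix.mul_apply, Fin.sum_univ_three, h20, h21, h10, h22, ← hm', hm3, hi.inv2]
    · rfl
    · show a = _
      linear_combination -a * s1 + l * f12 - (l ^ 4 * σ d) * e2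
    · show b = _
      linear_combination -b * s1
    · show d = _
      linear_combination -d * s2

variable [Fintype F] (hne : σ ≠ RingHom.id F)

theorem exists_five : ∀ _ : Fintype.card F = 16, ∃ l : F, l ^ 5 = 1 ∧ l ≠ 1 := by
  classical
  intro h16
  haveI : Fact (Nat.Prime 5) := ⟨by norm_num⟩
  obtain ⟨m, hm⟩ := exists_prime_orderOf_dvd_card (G := Fˣ) 5 (by rw [Fintype.card_units, h16]; norm_num)
  refine ⟨m, by rw [← Units.val_pow_eq_pow_val, ← hm, pow_orderOf_eq_one, Units.val_one], fun h => ?_⟩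
  rw [Units.val_eq_one.1 h, orderOf_one] at hm
  norm_num at hm

include hne in
theorem exists_centralizer (hF : Fintype.card F = 16) (hσ : ∀ x, σ x = x ^ 4)
    (hq : Nat.card (fixed σ) = 4) :
    ∃ t : Cfsg.SU 3 F 4, orderOf t = 2 ∧
      Nat.card (Subgroup.centralizer ({t} : Set (Cfsg.SU 3 F 4))) = 320 ∧
      Nat.card (commutator (Subgroup.centralizer ({t} : Set (Cfsg.SU 3 F 4)))) = 64 ∧
      IsKleinFour (Subgroup.center (commutator (Subgroup.centralizer ({t} : Set (Cfsg.SU 3 F 4))))) := by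
  classical
  obtain ⟨α, hα⟩ := exists_alpha (σ := σ) hne
  let c : fixed σ := 1
  have hc : (c : F) ≠ 0 := one_ne_zero
  set em : Heis σ →* Cfsg.SU 3 F 4 := embed 4 hσ hα with hem
  have hemi : Function.Injective em := embed_injective 4 hσ hα
  set t := em (Heis.cen c) with ht
  have ht2 : orderOf t = 2 := by
    haveI : Fact (Nat.Prime 2) := ⟨Nat.prime_two⟩
    refine orderOf_eq_prime ?_ fun h => ?_
    · rw [ht, ← map_pow, pow_two, (Heis.mul_self_eq_one_iff _).2 (Heis.cen_a c), map_one]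
    · exact hc (congrArg Heis.b (hemi (h.trans (map_one em).symm)))
  set C := Subgroup.centralizer ({t} : Set (Cfsg.SU 3 F 4)) with hC
  set P := baseChange α with hP
  have hinC : ∀ h : Heis σ, em h ∈ C := fun h => by
    rw [hC, Subgroup.mem_centralizer_singleton_iff, ht, ← map_mul, ← map_mul]
    congr 1
    exact (Heis.comm_iff _ _).2 (by simp)
  let emC : Heis σ →* ↥C := em.codRestrict C hinC
  have hemCi : Function.Injective emC := fun a b h => hemi (congrArg Subtype.val h)
  -- the coordinates of an element of the centralizer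
  let co : ↥C →* SpecialLinearGroup (Fin 3) F :=
    (MulAut.conj P⁻¹).toMonoidHom.comp ((Cfsg.SU 3 F 4).subtype.comp C.subtype)
  have hco : ∀ g : ↥C, co g = P⁻¹ * ((g : Cfsg.SU 3 F 4) : SpecialLinearGroup (Fin 3) F) * P := fun g => by
    simp [co]
  have hcoi : Function.Injective co :=
    (MulAut.conj P⁻¹).injective.comp ((Cfsg.SU 3 F 4).subtype_injective.comp C.subtype_injective)
  have hcoem : ∀ h, co (emC h) = triHom h := fun h => by
    rw [hco]
    show P⁻¹ * (P * triHom h * P⁻¹) * P = triHom h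
    group
  have hdec : ∀ g : ↥C, (co g).1 1 0 = 0 ∧ (co g).1 2 0 = 0 ∧
      ∃ (l : F) (hl : l ^ 5 = 1) (h : Heis σ), co g = dia l hl * triHom h := by
    intro g
    refine decompose hσ (mem_imp hσ hα ?_) hc ?_
    · rw [hco, ← hP, show P * (P⁻¹ * ((g : Cfsg.SU 3 F 4) : SpecialLinearGroup (Fin 3) F) * P) * P⁻¹ =
        ((g : Cfsg.SU 3 F 4) : SpecialLinearGroup (Fin 3) F) by group]
      exact (g : Cfsg.SU 3 F 4).2
    · rw [← hcoem, ← map_mul, ← map_mul]
      congr 1
      exact Subtype.ext (Subgroup.mem_centralizer_singleton_iff.1 g.2)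
  have hdia : ∀ (l : F) (hl : l ^ 5 = 1), ∃ g : ↥C, co g = dia l hl := by
    intro l hl
    have hmem := mem_of hσ hα (dia_form hσ hl)
    have hT : dia l hl * triHom (Heis.cen c) = triHom (Heis.cen c) * dia l hl := by
      refine Subtype.ext ?_
      show (dia l hl).1 * triMat (Heis.cen c) = triMat (Heis.cen c) * (dia l hl).1
      ext i j
      fin_cases i <;> fin_cases j <;> simp [dia, triMat, Matrix.mul_apply, Fin.sum_univ_three, mul_comm]
    refine ⟨⟨⟨_, hmem⟩, ?_⟩, ?_⟩
    · rw [hC, Subgroup.mem_centralizer_singleton_iff]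
      refine Subtype.ext ?_
      show P * dia l hl * P⁻¹ * (P * triHom (Heis.cen c) * P⁻¹) =
        P * triHom (Heis.cen c) * P⁻¹ * (P * dia l hl * P⁻¹)
      calc P * dia l hl * P⁻¹ * (P * triHom (Heis.cen c) * P⁻¹)
          = P * (dia l hl * triHom (Heis.cen c)) * P⁻¹ := by group
        _ = P * (triHom (Heis.cen c) * dia l hl) * P⁻¹ := by rw [hT]
        _ = _ := by group
    · rw [hco]
      show P⁻¹ * (P * dia l hl * P⁻¹) * P = dia l hl
      group
  -- the character
  let χ : ↥C →* F :=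
    { toFun := fun g => (co g).1 0 0
      map_one' := by simp
      map_mul' := fun a b => by
        rw [map_mul]
        show ((co a).1 * (co b).1) 0 0 = _
        rw [Matrix.mul_apply, Fin.sum_univ_three, (hdec b).1, (hdec b).2.1, mul_zero, mul_zero, add_zero,
          add_zero] }
  have hker : ∀ g : ↥C, χ g = 1 → g ∈ emC.range := by
    intro g hg
    obtain ⟨-, -, l, hl, h, he⟩ := hdec g
    have hl1 : l = 1 := by
      have e : χ g = l := by
        show (co g).1 0 0 = l
        rw [he]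
        show ((dia l hl).1 * triMat h) 0 0 = l
        simp [dia, triMat, Matrix.mul_apply, Fin.sum_univ_three]
      rw [← e, hg]
    refine ⟨h, hcoi ?_⟩
    rw [hcoem, he]
    have : dia l hl = 1 := by
      subst hl1
      refine Subtype.ext ?_
      ext i j
      fin_cases i <;> fin_cases j <;> simp [dia]
    rw [this, one_mul]
  have hcomm_le : commutator ↥C ≤ emC.range := by
    rw [commutator_def, Subgroup.commutator_le]
    intro a _ b _
    refine hker _ ?_
    rw [commutatorElement_def, map_mul, map_mul, map_mul,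
      show χ a * χ b * χ a⁻¹ * χ b⁻¹ = (χ a * χ a⁻¹) * (χ b * χ b⁻¹) by ring, ← map_mul, ← map_mul,
      mul_inv_cancel, mul_inv_cancel, map_one, mul_one]
  obtain ⟨l0, hl0, hl01⟩ := exists_five (F := F) hF
  obtain ⟨δ, hδ⟩ := hdia l0 hl0
  have hrange : emC.range ≤ commutator ↥C := by
    have hev : ∀ a : F, ∃ h : Heis σ, h.a = a ∧ emC h ∈ commutator ↥C := by
      intro a
      have hu : l0 ^ 2 + 1 ≠ 0 := fun h => hl01 (by
        have e : l0 ^ 2 = 1 := CharTwo.add_eq_zero.1 h
        calc l0 = l0 * (l0 ^ 2) ^ 2 := by rw [e, one_pow, mul_one]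
          _ = l0 ^ 5 := by ring
          _ = 1 := hl0)
      obtain ⟨h0, hh0⟩ := Heis.exists_mk (σ := σ) hne (a / (l0 ^ 2 + 1))
      have hmem : ⁅δ, emC h0⁆ ∈ commutator ↥C :=
        Subgroup.commutator_mem_commutator (Subgroup.mem_top _) (Subgroup.mem_top _)
      obtain ⟨h1, hh1⟩ := hcomm_le hmem
      refine ⟨h1, ?_, hh1 ▸ hmem⟩
      have e := congrArg co hh1
      rw [hcoem, map_commutatorElement, hδ, hcoem] at e
      have e' : triHom h1 * triHom h0 * dia l0 hl0 = dia l0 hl0 * triHom h0 := by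
        rw [e, commutatorElement_def]; group
      have e12 := congrFun (congrFun (congrArg Subtype.val e') 1) 2
      change (triMat h1 * triMat h0 * (dia l0 hl0).1) 1 2 = ((dia l0 hl0).1 * triMat h0) 1 2 at e12
      simp [dia, triMat, Matrix.mul_apply, Fin.sum_univ_three, hh0] at e12
      have hd : a / (l0 ^ 2 + 1) * (l0 ^ 2 + 1) = a := div_mul_cancel₀ a hu
      have hl0' : l0 ≠ 0 := fun h => by simp [h] at hl0
      refine mul_right_cancel₀ hl0' ?_
      linear_combination e12 + l0 * hd + (-(l0 * (a / (l0 ^ 2 + 1)))) * (CharTwo.two_eq_zero : (2 : F) = 0)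
    rintro _ ⟨h, rfl⟩
    obtain ⟨h', hh', hmem'⟩ := hev h.a
    have hd : (h'⁻¹ * h).a = 0 := by simp [hh', CharTwo.add_self_eq_zero]
    obtain ⟨a0, ha0⟩ := nrm_surjective (σ := σ) hne ⟨(h'⁻¹ * h).b, Heis.b_fixed hd⟩
    obtain ⟨g, hg, hgmem⟩ := hev a0
    have e : h'⁻¹ * h = g * g := by
      rw [Heis.mul_self, Heis.eq_cen hd, ← ha0]
      congr 1
      exact Subtype.ext (by simp [hg])
    rw [show h = h' * (g * g) by rw [← e, mul_inv_cancel_left], map_mul, map_mul]
    exact mul_mem hmem' (mul_mem hgmem hgmem)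
  have hcomm : commutator ↥C = emC.range := le_antisymm hcomm_le hrange
  have h64 : Nat.card (commutator ↥C) = 64 := by
    rw [hcomm, ← Nat.card_congr (MonoidHom.ofInjective hemCi).toEquiv, Heis.card_eq hne hq]; norm_num
  have h320 : Nat.card ↥C = 320 := by
    have hle : Nat.card ↥C ≤ 320 := by
      let L := {l : F // l ^ 5 = 1}
      have hL : Nat.card L ≤ 5 := by
        let R := Polynomial.X ^ 5 - (1 : Polynomial F)
        have hR : R ≠ 0 := (Polynomial.monic_X_pow_sub_C (1 : F) (by norm_num : (5 : ℕ) ≠ 0)).ne_zero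
        have h1 : Nat.card L ≤ R.roots.toFinset.card := by
          rw [← Nat.card_eq_finsetCard]
          exact Nat.card_le_card_of_injective
            (fun l : L => (⟨l.1, by simp [R, hR, Polynomial.mem_roots', l.2]⟩ : R.roots.toFinset))
            fun a b h => Subtype.ext (congrArg (fun z : R.roots.toFinset => (z : F)) h)
        refine h1.trans ((Multiset.toFinset_card_le _).trans ((Polynomial.card_roots' R).trans ?_))
        rw [show R = Polynomial.X ^ 5 - Polynomial.C (1 : F) by simp [R], Polynomial.natDegree_X_pow_sub_C]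
      choose fl fhl fh hdec' using fun g => (hdec g).2.2
      have hinj : Function.Injective (fun g => ((⟨fl g, fhl g⟩ : L), fh g)) := by
        intro a b hab
        simp only [Prod.mk.injEq, Subtype.mk.injEq] at hab
        refine hcoi ?_
        rw [hdec' a, hdec' b, hab.2]
        congr 1
        exact Subtype.ext (by simp only [dia, hab.1])
      refine (Nat.card_le_card_of_injective _ hinj).trans ?_
      rw [Nat.card_prod, Heis.card_eq hne hq]
      exact (Nat.mul_le_mul_right _ hL).trans (by norm_num)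
    have h5 : 5 ∣ Nat.card ↥C := by
      have : orderOf δ = 5 := by
        haveI : Fact (Nat.Prime 5) := ⟨by norm_num⟩
        refine orderOf_eq_prime (hcoi ?_) fun h => hl01 ?_
        · rw [map_pow, hδ, map_one]
          refine Subtype.ext ?_
          show (dia l0 hl0).1 ^ 5 = 1
          rw [show (dia l0 hl0).1 = Matrix.diagonal ![l0, l0 ^ 3, l0] by
            ext i j; fin_cases i <;> fin_cases j <;> simp [dia], Matrix.diagonal_pow, ← Matrix.diagonal_one]
          congr 1
          funext i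
          fin_cases i <;> simp [hl0, ← pow_mul]
          rw [show (15 : ℕ) = 5 * 3 from rfl, pow_mul, hl0, one_pow]
        · have := congrFun (congrFun (congrArg Subtype.val (hδ.symm.trans (by rw [h, map_one]))) 0) 0
          simpa [dia] using this
      rw [← this]
      exact orderOf_dvd_natCard δ
    have h64' : 64 ∣ Nat.card ↥C := h64 ▸ Subgroup.card_subgroup_dvd_card _
    exact le_antisymm hle (Nat.le_of_dvd Nat.card_pos
      ((by norm_num : Nat.Coprime 64 5).mul_dvd_of_dvd_of_dvd h64' h5))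
  refine ⟨t, ht2, h320, h64, ?_⟩
  let e : Heis σ ≃* ↥(commutator ↥C) := (MonoidHom.ofInjective hemCi).trans (MulEquiv.subgroupCongr hcomm.symm)
  let ec := Subgroup.centerCongr e
  have h4 : Nat.card (Subgroup.center (Heis σ)) = 4 := Heis.card_center hne hq
  refine ⟨by rw [← Nat.card_congr ec.toEquiv, h4], ?_⟩
  rw [← Monoid.exponent_eq_of_mulEquiv ec]
  refine Nat.dvd_antisymm (Monoid.exponent_dvd_of_forall_pow_eq_one fun z => Subtype.ext ?_) ?_
  · rw [Subgroup.coe_pow, Subgroup.coe_one, pow_two]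
    exact (Heis.mul_self_eq_one_iff _).2 ((Heis.mem_center_iff hne _).1 z.2)
  · haveI : Fact (Nat.Prime 2) := ⟨Nat.prime_two⟩
    obtain ⟨z, hz⟩ := exists_prime_orderOf_dvd_card' (G := Subgroup.center (Heis σ)) 2 (by rw [h4]; norm_num)
    rw [← hz]
    exact Monoid.order_dvd_exponent z

end

/-- A finite group of order 320 whose derived subgroup has order 64 and has centre a Klein four-group is isomorphic to the centralizer of an involution in PSU₃(4). -/
theorem result {G : Type*} [Group G] [Finite G] (hG : Nat.card G = 320) (hD : Nat.card (commutator G) = 64)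
    (hZ : IsKleinFour (Subgroup.center (commutator G)))
    {F : Type*} [Field F] [Fintype F] (hF : Fintype.card F = 16) :
    ∃ t : Cfsg.PSU 3 F 4, orderOf t = 2 ∧ Nonempty (G ≃* Subgroup.centralizer ({t} : Set (Cfsg.PSU 3 F 4))) := by
  obtain ⟨_, σ, _, hne, hσ, hq⟩ := SU3Sylow.setup (F := F) (n := 2) (by norm_num) (by rw [hF]; norm_num)
  have hσ4 : ∀ x, σ x = x ^ 4 := by simpa using hσ
  have hq4 : Nat.card (fixed σ) = 4 := by simpa using hq
  obtain ⟨t, ht, hC, hCD, hCZ⟩ := exists_centralizer hne hF hσ4 hq4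
  obtain ⟨e⟩ := Order320.iso_of_hyp hG hD hZ hC hCD hCZ
  have hcen : Subgroup.center (Cfsg.SU 3 F 4) = ⊥ := by
    refine Subgroup.card_eq_one.1 ?_
    rw [HermSU.card_center_SU hne Inv2.inv2 hσ4 (by norm_num) hq4]
    decide
  let m : Cfsg.SU 3 F 4 ≃* Cfsg.PSU 3 F 4 := MulEquiv.ofBijective (QuotientGroup.mk' _)
    ⟨(MonoidHom.ker_eq_bot_iff _).1 (by rw [QuotientGroup.ker_mk', hcen]), QuotientGroup.mk'_surjective _⟩
  refine ⟨m t, by rw [m.orderOf_eq, ht], ⟨e.trans ((m.subgroupMap _).trans (MulEquiv.subgroupCongr ?_))⟩⟩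
  ext y
  obtain ⟨y, rfl⟩ := m.surjective y
  rw [Subgroup.mem_centralizer_singleton_iff, ← map_mul, ← map_mul, m.injective.eq_iff,
    ← Subgroup.mem_centralizer_singleton_iff]
  exact ⟨fun ⟨z, hz, he⟩ => m.injective he ▸ hz, fun h => ⟨y, h, rfl⟩⟩

end Cfsg.Agent.S1903
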