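import Cfsg.Statements.S1905
import Cfsg.Agent.Lib.Involutions.StronglyEmbedded
import Mathlib.GroupTheory.Index
import Mathlib.Data.Finset.Card
import Mathlib.Combinatorics.Pigeonhole

set_option autoImplicit false
set_option linter.style.haveILetI false
set_option linter.unusedVariables false
open Cfsg

namespace Cfsg.Agent.S1905

open Cfsg.Agent Cfsg.Agent.Invol
open scoped Pointwise

variable {S : Type*} [Group S] [Finite S]

lemma odd_product {M : Subgroup S} (hC : ∀ i ∈ M, orderOf i = 2 → Subgroup.centralizer ({i} : Set S) ≤ M)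
    {x y : S} (hx : orderOf x = 2) (hy : orderOf y = 2) (hxM : x ∈ M) (hyM : y ∉ M) :
    Odd (orderOf (x * y)) := by
  rw [← Nat.not_even_iff_odd]
  intro he
  obtain ⟨h1, h2⟩ := half_commute hx hy he
  have hz := half_order hx hy he (orderOf_pos _)
  have hzM := hC x hxM hx (Subgroup.mem_centralizer_singleton_iff.2 h1.eq)
  exact hyM (hC _ hzM hz (Subgroup.mem_centralizer_singleton_iff.2 h2.symm.eq))

lemma fixed_inverted_eq_one {M : Subgroup S}
    (hC : ∀ i ∈ M, orderOf i = 2 → Subgroup.centralizer ({i} : Set S) ≤ M)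
    {i u e : S} (hi : orderOf i = 2) (hu : orderOf u = 2) (hiM : i ∈ M) (huM : u ∉ M)
    (hie : i * e * i⁻¹ = e) (hue : u * e * u⁻¹ = e⁻¹) (hodd : Odd (orderOf e)) : e = 1 := by
  obtain ⟨k, hk⟩ := odd_product hC hi hu hiM huM
  have hw : (i * u) * e * (i * u)⁻¹ = e⁻¹ := by
    calc (i * u) * e * (i * u)⁻¹ = i * (u * e * u⁻¹) * i⁻¹ := by group
      _ = (i * e * i⁻¹)⁻¹ := by rw [hue]; group
      _ = e⁻¹ := by rw [hie]
  have hw2 : Commute ((i * u) ^ 2) e := by
    refine mul_inv_eq_iff_eq_mul.1 ?_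
    rw [pow_two, mul_inv_rev]
    calc (i * u) * (i * u) * e * ((i * u)⁻¹ * (i * u)⁻¹)
        = (i * u) * ((i * u) * e * (i * u)⁻¹) * (i * u)⁻¹ := by group
      _ = (i * u) * e⁻¹ * (i * u)⁻¹ := by rw [hw]
      _ = ((i * u) * e * (i * u)⁻¹)⁻¹ := by group
      _ = e := by rw [hw, inv_inv]
  have hc : Commute (i * u) e := by
    have h := hw2.pow_left (k + 1)
    rwa [← pow_mul, show 2 * (k + 1) = orderOf (i * u) + 1 by omega, pow_succ, pow_orderOf_eq_one,
      one_mul] at h
  refine eq_one_of_sq_of_odd hodd ?_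
  rw [hc.eq, mul_inv_cancel_right] at hw
  rw [pow_two]
  exact (mul_eq_one_iff_eq_inv.2 hw)

lemma card_conj {K : Type*} [Group K] [Finite K] {I : K} (hI : orderOf I = 2)
    (htrans : ∀ x : K, orderOf x = 2 → IsConj I x) :
    Nat.card {x : K // orderOf x = 2} = (Subgroup.centralizer ({I} : Set K)).index := by
  classical
  let f : K ⧸ Subgroup.centralizer ({I} : Set K) → {x : K // orderOf x = 2} :=
    Quotient.lift (fun g => ⟨g * I * g⁻¹, by rw [order_conj, hI]⟩) (fun a b hab => by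
      have h := Subgroup.mem_centralizer_singleton_iff.1 (QuotientGroup.leftRel_apply.1 hab)
      refine Subtype.ext ?_
      show a * I * a⁻¹ = b * I * b⁻¹
      have hb : b = a * (a⁻¹ * b) := by group
      calc a * I * a⁻¹ = a * (I * (a⁻¹ * b)) * (a⁻¹ * b)⁻¹ * a⁻¹ := by group
        _ = a * ((a⁻¹ * b) * I) * (a⁻¹ * b)⁻¹ * a⁻¹ := by rw [h]
        _ = b * I * b⁻¹ := by group)
  refine (Nat.card_congr (Equiv.ofBijective f ⟨?_, ?_⟩)).symm
  · intro p q
    refine Quotient.inductionOn₂ p q fun a b h => ?_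
    have h' : a * I * a⁻¹ = b * I * b⁻¹ := congrArg Subtype.val h
    refine Quotient.sound (QuotientGroup.leftRel_apply.2 (Subgroup.mem_centralizer_singleton_iff.2 ?_))
    calc a⁻¹ * b * I = a⁻¹ * (b * I * b⁻¹) * b := by group
      _ = a⁻¹ * (a * I * a⁻¹) * b := by rw [h']
      _ = I * (a⁻¹ * b) := by group
  · rintro ⟨x, hx⟩
    obtain ⟨g, hg⟩ := isConj_iff.1 (htrans x hx)
    exact ⟨Quotient.mk'' g, Subtype.ext hg⟩

lemma exists_odd_factor {M : Subgroup S} (hse : Cfsg.IsStronglyEmbedded M)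
    (hC : ∀ i ∈ M, orderOf i = 2 → Subgroup.centralizer ({i} : Set S) ≤ M)
    {I : M} (hI : orderOf I = 2) (hall : ∀ x y : S, orderOf x = 2 → orderOf y = 2 → IsConj x y)
    (hallM : ∀ x y : M, orderOf x = 2 → orderOf y = 2 → IsConj x y) :
    ∃ M₀ : Subgroup M, Odd (Nat.card M₀) ∧
      ∀ m : M, ∃ a ∈ M₀, ∃ c ∈ Subgroup.centralizer ({I} : Set M), m = a * c := by
  classical
  have := Fintype.ofFinite S
  have := Fintype.ofFinite M
  have := Fintype.ofFinite (S ⧸ M)
  have hIS : orderOf (I : S) = 2 := by rw [Subgroup.orderOf_coe, hI]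
  have hIcard := card_conj hI (fun x hx => hallM I x hI hx)
  have hScard := card_conj hIS (fun x hx => hall I x hIS hx)
  have hcent : (Subgroup.centralizer ({(I : S)} : Set S)).subgroupOf M =
      Subgroup.centralizer ({I} : Set M) := by
    ext x
    simp only [Subgroup.mem_subgroupOf, Subgroup.mem_centralizer_singleton_iff]
    exact ⟨fun h => Subtype.ext h, fun h => congrArg Subtype.val h⟩
  have hindex : (Subgroup.centralizer ({I} : Set M)).index * M.index =
      (Subgroup.centralizer ({(I : S)} : Set S)).index := by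
    rw [← Subgroup.relIndex_mul_index (hC I I.2 hIS), ← hcent]; rfl
  let AM : Finset M := Finset.univ.filter fun x => orderOf x = 2
  let AS : Finset S := Finset.univ.filter fun x => orderOf x = 2
  let Ain : Finset S := AS.filter fun x => x ∈ M
  let Aout : Finset S := AS.filter fun x => x ∉ M
  have hAM : AM.card = (Subgroup.centralizer ({I} : Set M)).index := by
    rw [← hIcard, Nat.card_eq_fintype_card, Fintype.card_subtype]
  have hAS : AS.card = (Subgroup.centralizer ({(I : S)} : Set S)).index := by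
    rw [← hScard, Nat.card_eq_fintype_card, Fintype.card_subtype]
  have hAin : Ain = AM.map (Function.Embedding.subtype _) := by
    ext x
    simp only [Ain, AS, AM, Finset.mem_filter, Finset.mem_univ, true_and, Finset.mem_map,
      Function.Embedding.coe_subtype]
    exact ⟨fun h => ⟨⟨x, h.2⟩, by rw [Subgroup.orderOf_mk]; exact h.1, rfl⟩,
      fun ⟨y, hy, hyx⟩ => hyx ▸ ⟨by rw [Subgroup.orderOf_coe]; exact hy, y.2⟩⟩
  have hsum : Ain.card + Aout.card = AS.card := Finset.card_filter_add_card_filter_not _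
  rw [hAin, Finset.card_map, hAS, ← hindex, ← hAM] at hsum
  let T : Finset (S ⧸ M) := Finset.univ.erase ((1 : S) : S ⧸ M)
  have hTcard : T.card + 1 = M.index := by
    rw [Finset.card_erase_add_one (Finset.mem_univ _), Finset.card_univ, Subgroup.index, Nat.card_eq_fintype_card]
  obtain ⟨g, hg⟩ : ∃ g : S, g ∉ M := by
    by_contra hcon
    push Not at hcon
    exact hse.1 (top_unique fun x _ => hcon x)
  have hTne : T.Nonempty := by
    refine ⟨(g : S ⧸ M), Finset.mem_erase.2 ⟨fun h => hg ?_, Finset.mem_univ _⟩⟩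
    simpa using M.inv_mem (QuotientGroup.eq.1 h)
  have hmaps : ∀ u ∈ Aout, ((u : S) : S ⧸ M) ∈ T := by
    intro u hu
    refine Finset.mem_erase.2 ⟨fun h => (Finset.mem_filter.1 hu).2 ?_, Finset.mem_univ _⟩
    simpa using M.inv_mem (QuotientGroup.eq.1 h)
  obtain ⟨y, -, hy⟩ := Finset.exists_le_card_fiber_of_mul_le_card_of_maps_to (n := AM.card) hmaps hTne
    (by rw [← hTcard] at hsum; nlinarith)
  have hpos : 0 < AM.card := Finset.card_pos.2 ⟨I, Finset.mem_filter.2 ⟨Finset.mem_univ _, hI⟩⟩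
  obtain ⟨t, ht⟩ := Finset.card_pos.1 (lt_of_lt_of_le hpos hy)
  obtain ⟨ht', hty⟩ := Finset.mem_filter.1 ht
  obtain ⟨ht'', htM⟩ := Finset.mem_filter.1 ht'
  have hto : orderOf t = 2 := (Finset.mem_filter.1 ht'').2
  let D : Subgroup S := M ⊓ M.map (MulAut.conj t).toMonoidHom
  have hDodd : Odd (Nat.card D) := hse.2.2 t htM
  let F : Finset S := Aout.filter fun u => ((u : S) : S ⧸ M) = y
  have hspec : ∀ u ∈ F, orderOf u = 2 ∧ u ∉ M ∧ t * u ∈ D := by
    intro u hu
    obtain ⟨hu', huy⟩ := Finset.mem_filter.1 hu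
    obtain ⟨hu'', huM⟩ := Finset.mem_filter.1 hu'
    have huo : orderOf u = 2 := (Finset.mem_filter.1 hu'').2
    have h1 : t * u ∈ M := by
      have := QuotientGroup.eq.1 (hty.trans huy.symm)
      rwa [inv_self hto] at this
    refine ⟨huo, huM, h1, mem_conj_map.2 ?_⟩
    have h2 : t⁻¹ * (t * u) * t = (t * u)⁻¹ := by
      rw [mul_inv_rev, inv_self hto, inv_self huo, ← mul_assoc, mul_self hto, one_mul]
    rw [h2]; exact M.inv_mem h1
  let φ : F → AM := fun u => ⟨⟨(t * u)⁻¹ * I * (t * u), M.mul_mem (M.mul_mem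
    (M.inv_mem (hspec u u.2).2.2.1) I.2) (hspec u u.2).2.2.1⟩, Finset.mem_filter.2 ⟨Finset.mem_univ _, by
      rw [Subgroup.orderOf_mk]
      conv_lhs => rw [show (t * (u : S))⁻¹ * I * (t * u) = (t * u)⁻¹ * I * ((t * u)⁻¹)⁻¹ by group]
      rw [order_conj, hIS]⟩⟩
  have hφ : Function.Injective φ := by
    rintro ⟨u, hu⟩ ⟨v, hv⟩ huv
    obtain ⟨huo, huM, hud⟩ := hspec u hu
    obtain ⟨hvo, hvM, hvd⟩ := hspec v hv
    have h : (t * u)⁻¹ * I * (t * u) = (t * v)⁻¹ * I * (t * v) :=
      congrArg (fun z : AM => ((z : M) : S)) huv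
    have heq : u * v = (t * u)⁻¹ * (t * v) := by
      calc u * v = u⁻¹ * v := by rw [inv_self huo]
        _ = (t * u)⁻¹ * (t * v) := by group
    have heM : u * v ∈ M := heq ▸ M.mul_mem (M.inv_mem hud.1) hvd.1
    have hue : u * (u * v) * u⁻¹ = (u * v)⁻¹ := conj_mul huo hvo
    have heodd : Odd (orderOf (u * v)) := by
      have hmem : u * v ∈ M ⊓ M.map (MulAut.conj u).toMonoidHom := by
        refine ⟨heM, mem_conj_map.2 ?_⟩
        have : u⁻¹ * (u * v) * u = (u * v)⁻¹ := by
          rw [mul_inv_rev, inv_self huo, inv_self hvo, ← mul_assoc, mul_self huo, one_mul]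
        rw [this]; exact M.inv_mem heM
      exact Odd.of_dvd_nat (hse.2.2 u huM) (Subgroup.orderOf_dvd_natCard _ hmem)
    have hone : u * v = 1 := by
      refine fixed_inverted_eq_one hC (i := (t * u)⁻¹ * I * (t * u)) ?_ huo
        (M.mul_mem (M.mul_mem (M.inv_mem hud.1) I.2) hud.1) huM ?_ hue heodd
      · rw [show (t * u)⁻¹ * (I : S) * (t * u) = (t * u)⁻¹ * I * ((t * u)⁻¹)⁻¹ by group, order_conj, hIS]
      · rw [heq]
        calc (t * u)⁻¹ * I * (t * u) * ((t * u)⁻¹ * (t * v)) * ((t * u)⁻¹ * I * (t * u))⁻¹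
            = (t * u)⁻¹ * (t * v) * (((t * v)⁻¹ * I * (t * v))) * ((t * u)⁻¹ * I * (t * u))⁻¹ := by group
          _ = (t * u)⁻¹ * (t * v) := by rw [← h]; group
    have : u⁻¹ = v := inv_eq_of_mul_eq_one_right hone
    exact Subtype.ext ((inv_self huo).symm.trans this)
  have hsurj : Function.Surjective φ :=
    (hφ.bijective_of_nat_card_le (by rw [Nat.card_eq_fintype_card, Nat.card_eq_fintype_card,
      Fintype.card_coe, Fintype.card_coe]; exact hy)).2
  refine ⟨D.subgroupOf M, ?_, fun m => ?_⟩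
  · rwa [Nat.card_congr (Subgroup.subgroupOfEquivOfLe inf_le_left).toEquiv]
  obtain ⟨⟨u, hu⟩, hu'⟩ := hsurj ⟨m * I * m⁻¹, Finset.mem_filter.2 ⟨Finset.mem_univ _, by rw [order_conj, hI]⟩⟩
  obtain ⟨-, -, hud⟩ := hspec u hu
  have h : (t * u)⁻¹ * (I : S) * (t * u) = (m : S) * I * (m : S)⁻¹ :=
    congrArg (fun z : AM => ((z : M) : S)) hu'
  refine ⟨⟨(t * u)⁻¹, M.inv_mem hud.1⟩, D.inv_mem hud, ⟨t * u, hud.1⟩ * m,
    Subgroup.mem_centralizer_singleton_iff.2 (Subtype.ext ?_), Subtype.ext ?_⟩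
  · show (t * u) * m * (I : S) = I * ((t * u) * m)
    calc (t * u) * m * (I : S) = (t * u) * ((m : S) * I * (m : S)⁻¹) * m := by group
      _ = (t * u) * ((t * u)⁻¹ * (I : S) * (t * u)) * m := by rw [h]
      _ = I * ((t * u) * m) := by group
  · show (m : S) = (t * u)⁻¹ * ((t * u) * m)
    group

/-- Let M be a subgroup of even order of a finite group S such that M contains the centralizer in S of each of its involutions and the normal core of M in S has odd order. Then all involutions of S are conjugate. If moreover N_S(X) ≤ M for a Sylow 2-subgroup X of M and I is an involution in the centre of X, then all involutions of M are conjugate in M and M = M₀ C_M(I) for some subgroup M₀ of M of odd order. -/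
theorem result {S : Type*} [Group S] [Finite S] (M : Subgroup S) (hM : Even (Nat.card M))
    (hC : ∀ i ∈ M, orderOf i = 2 → Subgroup.centralizer ({i} : Set S) ≤ M) (hcore : Odd (Nat.card M.normalCore)) :
    (∀ x y : S, orderOf x = 2 → orderOf y = 2 → IsConj x y) ∧
      ∀ (X : Sylow 2 M) (I : M), I ∈ (Subgroup.center ↥(X : Subgroup ↥M)).map (X : Subgroup ↥M).subtype → orderOf I = 2 →
        Subgroup.normalizer (((X : Subgroup M).map M.subtype : Subgroup S) : Set S) ≤ M →
        (∀ x y : M, orderOf x = 2 → orderOf y = 2 → IsConj x y) ∧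
          ∃ M₀ : Subgroup M, Odd (Nat.card M₀) ∧
            ∀ m : M, ∃ a ∈ M₀, ∃ c ∈ Subgroup.centralizer ({I} : Set M), m = a * c := by
  have hMne : M ≠ ⊤ := by
    intro h
    have hc : M.normalCore = ⊤ := by
      rw [h]; exact Subgroup.normalCore_eq_self ⊤
    rw [hc] at hcore
    rw [h] at hM
    exact Nat.not_even_iff_odd.2 hcore hM
  obtain ⟨t₀, ht₀M, ht₀⟩ := exists_invol hM
  obtain ⟨u₀, hu₀, hu₀M⟩ : ∃ u : S, orderOf u = 2 ∧ u ∉ M := by
    by_contra hcon
    push Not at hcon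
    let N : Subgroup S := Subgroup.normalClosure {t₀}
    have hN : N ≤ M := by
      refine (Subgroup.closure_le M).2 fun z hz => ?_
      obtain ⟨w, hw, hwz⟩ := Group.mem_conjugatesOfSet_iff.1 hz
      rw [Set.mem_singleton_iff] at hw
      subst hw
      obtain ⟨c, rfl⟩ := isConj_iff.1 hwz
      exact hcon _ (by rw [order_conj, ht₀])
    have hcoreN : N ≤ M.normalCore := Subgroup.normal_le_normalCore.2 hN
    exact Nat.not_even_iff_odd.2 hcore
      (even_of_invol_mem ht₀ (hcoreN (Subgroup.subset_normalClosure rfl)))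
  have hcross : ∀ x y : S, orderOf x = 2 → orderOf y = 2 → x ∈ M → y ∉ M → IsConj x y := by
    intro x y hx hy hxM hyM
    obtain ⟨d, -, hd⟩ := conj_of_odd hx hy (odd_product hC hx hy hxM hyM)
    exact isConj_iff.2 ⟨d, hd⟩
  have hto : ∀ x : S, orderOf x = 2 → IsConj u₀ x := by
    intro x hx
    by_cases hxM : x ∈ M
    · exact (hcross x u₀ hx hu₀ hxM hu₀M).symm
    · exact ((hcross t₀ u₀ ht₀ hu₀ ht₀M hu₀M).symm).trans (hcross t₀ x ht₀ hx ht₀M hxM)
  have hall : ∀ x y : S, orderOf x = 2 → orderOf y = 2 → IsConj x y :=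
    fun x y hx hy => (hto x hx).symm.trans (hto y hy)
  refine ⟨hall, fun X I _ hI hX => ?_⟩
  have hse := se_of_centralizers hMne X hM hX hC
  have hallM : ∀ x y : M, orderOf x = 2 → orderOf y = 2 → IsConj x y := by
    intro x y hx hy
    have hxS : orderOf (x : S) = 2 := by rw [Subgroup.orderOf_coe, hx]
    obtain ⟨g, hg⟩ := isConj_iff.1 (hall x y hxS (by rw [Subgroup.orderOf_coe, hy]))
    refine isConj_iff.2 ⟨⟨g, se_mem_of_conj hse hxS x.2 (hg ▸ y.2)⟩, Subtype.ext hg⟩
  exact ⟨hallM, exists_odd_factor hse hC hI hall hallM⟩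

end Cfsg.Agent.S1905
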