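import Cfsg.Statements.S4584
import Mathlib.GroupTheory.PGroup
import Mathlib.GroupTheory.Commutator.Basic
import Mathlib.GroupTheory.QuotientGroup.Basic
import Mathlib.Tactic

set_option autoImplicit false
open Cfsg
open scoped commutatorElement

namespace Cfsg.Agent.S4584

variable {P : Type*} [Group P] [Finite P] {p : ℕ} [hpf : Fact p.Prime]

theorem inf_center_ne_bot (hP : IsPGroup p P) (N : Subgroup P) [N.Normal] (hN : N ≠ ⊥) :
    N ⊓ Subgroup.center P ≠ ⊥ := by
  haveI : Nontrivial N := (Subgroup.nontrivial_iff_ne_bot N).mpr hN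
  obtain ⟨n, hn0, hn⟩ := (hP.to_subgroup N).nontrivial_iff_card.mp inferInstance
  obtain ⟨y, hy, hy1⟩ := (hP.of_equiv ConjAct.toConjAct).exists_fixed_point_of_prime_dvd_card_of_fixed_point
    N (hn.symm ▸ dvd_pow_self p hn0.ne') (a := (1 : N)) (fun g => Subtype.ext (by simp [ConjAct.Subgroup.val_conj_smul]))
  intro h
  refine hy1 (Subtype.ext ?_).symm
  have hmem : (y : P) ∈ N ⊓ Subgroup.center P := by
    refine ⟨y.2, Subgroup.mem_center_iff.mpr fun g => ?_⟩
    have := congrArg Subtype.val (hy (ConjAct.toConjAct g))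
    rw [ConjAct.Subgroup.val_conj_smul, ConjAct.toConjAct_smul] at this
    exact (mul_inv_eq_iff_eq_mul).mp this
  rw [h, Subgroup.mem_bot] at hmem
  exact hmem

theorem comm_eq_top (h : commutator P = ⊥) : Subgroup.center P = ⊤ := by
  have hab : ∀ a b : P, a * b = b * a := fun a b => by
    have : ⁅a, b⁆ ∈ commutator P := Subgroup.commutator_mem_commutator trivial trivial
    rw [h, Subgroup.mem_bot] at this
    exact (commutatorElement_eq_one_iff_mul_comm).mp this
  exact eq_top_iff.mpr fun g _ => Subgroup.mem_center_iff.mpr fun x => hab x g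

theorem top_of_cyclic_quotient (N : Subgroup P) (hN : N ≤ Subgroup.center P)
    (g : P) (h : N ⊔ Subgroup.zpowers g = ⊤) : Subgroup.center P = ⊤ := by
  have hsub : N ⊔ Subgroup.zpowers g ≤ Subgroup.centralizer ({g} : Set P) := by
    refine sup_le (fun n hn => ?_) (Subgroup.zpowers_le.mpr ?_)
    · rw [Subgroup.mem_centralizer_singleton_iff]
      exact ((Subgroup.mem_center_iff.mp (hN hn)) g).symm
    · rw [Subgroup.mem_centralizer_singleton_iff]
  rw [h] at hsub
  have hg : g ∈ Subgroup.center P := Subgroup.mem_center_iff.mpr fun x =>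
    (Subgroup.mem_centralizer_singleton_iff.mp (hsub (Subgroup.mem_top x)))
  rw [eq_top_iff, ← h]
  exact sup_le hN (Subgroup.zpowers_le.mpr hg)

/-- If the centre has index `p ^ 2` then the derived subgroup has order `p`. -/
theorem derived_card (hi : (Subgroup.center P).index = p ^ 2) :
    Nat.card (commutator P) = p := by
  have hp : p.Prime := hpf.out
  set Z := Subgroup.center P with hZdef
  have hZ : Z ≠ ⊤ := by
    intro h
    rw [h, Subgroup.index_top] at hi
    exact (Nat.one_lt_pow (by norm_num) hp.one_lt).ne hi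
  obtain ⟨a, ha⟩ : ∃ a, a ∉ Z := by
    by_contra h
    push Not at h
    exact hZ (eq_top_iff.mpr fun x _ => h x)
  obtain ⟨b, hb⟩ : ∃ b, b ∉ Z ⊔ Subgroup.zpowers a := by
    by_contra h
    push Not at h
    exact hZ (top_of_cyclic_quotient Z le_rfl a (eq_top_iff.mpr fun x _ => h x))
  have hpow : ∀ x : P, x ^ p ∈ Z := by
    intro x
    have hx2 : x ^ (p ^ 2) ∈ Z := hi ▸ Z.pow_index_mem x
    by_contra hxp
    have hq : orderOf (QuotientGroup.mk x : P ⧸ Z) = p ^ 2 := by
      refine orderOf_eq_prime_pow (n := 1) ?_ ?_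
      · rw [← QuotientGroup.mk_pow, QuotientGroup.eq_one_iff, pow_one]; exact hxp
      · rw [← QuotientGroup.mk_pow, QuotientGroup.eq_one_iff]; exact hx2
    have htop : Subgroup.zpowers (QuotientGroup.mk x : P ⧸ Z) = ⊤ := by
      refine Subgroup.eq_top_of_card_eq _ ?_
      rw [Nat.card_zpowers, hq, ← hi]; rfl
    refine hZ (top_of_cyclic_quotient Z le_rfl x (eq_top_iff.mpr fun y _ => ?_))
    have : (QuotientGroup.mk y : P ⧸ Z) ∈ Subgroup.zpowers (QuotientGroup.mk x) :=
      htop ▸ Subgroup.mem_top _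
    obtain ⟨k, hk⟩ := this
    simp only [← QuotientGroup.mk_zpow] at hk
    have hm := QuotientGroup.eq.mp hk
    have : y = x ^ k * ((x ^ k)⁻¹ * y) := by group
    rw [this]
    exact mul_mem (Subgroup.mem_sup_right ⟨k, rfl⟩) (Subgroup.mem_sup_left hm)
  have htop : Z ⊔ Subgroup.zpowers a ⊔ Subgroup.zpowers b = ⊤ := by
    set A := Z ⊔ Subgroup.zpowers a with hA
    set B := A ⊔ Subgroup.zpowers b with hB
    have h1 := Subgroup.relIndex_mul_index (H := Z) (K := A) le_sup_left
    have h2 := Subgroup.relIndex_mul_index (H := A) (K := B) le_sup_left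
    rw [← h2, hi] at h1
    have d1 : Z.relIndex A ≠ 1 := fun h => ha
      ((Subgroup.relIndex_eq_one.mp h) (Subgroup.mem_sup_right (Subgroup.mem_zpowers a)))
    have d2 : A.relIndex B ≠ 1 := fun h => hb
      ((Subgroup.relIndex_eq_one.mp h) (Subgroup.mem_sup_right (Subgroup.mem_zpowers b)))
    rw [← Subgroup.index_eq_one]
    have hdvd1 : Z.relIndex A ∣ p ^ 2 := Dvd.intro _ h1
    have hdvd2 : A.relIndex B ∣ p ^ 2 := ⟨Z.relIndex A * B.index, by rw [← h1]; ring⟩
    obtain ⟨i, hi1, he1⟩ := (Nat.dvd_prime_pow hp).mp hdvd1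
    obtain ⟨j, hj1, he2⟩ := (Nat.dvd_prime_pow hp).mp hdvd2
    have hi0 : i ≠ 0 := fun h => d1 (by simp [he1, h])
    have hj0 : j ≠ 0 := fun h => d2 (by simp [he2, h])
    rw [he1, he2] at h1
    obtain ⟨k, hk1, hk2⟩ := (Nat.dvd_prime_pow hp).mp
      (⟨p ^ i * p ^ j, by rw [← h1]; ring⟩ : B.index ∣ p ^ 2)
    rw [hk2, ← pow_add, ← pow_add] at h1
    have := Nat.pow_right_injective hp.two_le h1
    rw [hk2]
    simp [show k = 0 by omega]
  set c := ⁅a, b⁆ with hc
  set H := Subgroup.zpowers c with hH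
  have hZc : ∀ z ∈ Z, ∀ g : P, g * z = z * g := fun z hz => Subgroup.mem_center_iff.mp hz
  have hcomm : commutator P ≤ Z := by
    have : IsMulCommutative (P ⧸ Z) := by
      refine IsPGroup.isMulCommutative_of_card_eq_prime_sq (p := p) ?_
      rw [← hi]; rfl
    rw [commutator_def, Subgroup.commutator_le]
    intro x _ y _
    rw [← QuotientGroup.eq_one_iff]
    have h' : ∀ u v : P ⧸ Z, u * v = v * u := fun u v => this.is_comm.comm u v
    change (QuotientGroup.mk' Z) ⁅x, y⁆ = 1
    rw [map_commutatorElement]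
    exact commutatorElement_eq_one_iff_mul_comm.mpr (h' _ _)
  have hcZ : c ∈ Z := hcomm (Subgroup.commutator_mem_commutator trivial trivial)
  haveI : H.Normal := ⟨fun n hn g => by
    rw [hZc n (Subgroup.zpowers_le.mpr hcZ hn) g, mul_inv_cancel_right]; exact hn⟩
  have hab : a * b = c * (b * a) := by rw [hc, commutatorElement_def]; group
  have hle : commutator P ≤ H := by
    let q := QuotientGroup.mk' H
    have key : ∀ x y : P, Commute (q x) (q y) := by
      have h0 : Commute (q a) (q b) := by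
        show q a * q b = q b * q a
        rw [← map_mul, ← map_mul, hab, map_mul,
          (QuotientGroup.eq_one_iff c).mpr (Subgroup.mem_zpowers c) |> fun h => (h : q c = 1),
          one_mul]
      have hgen : ∀ y : P, Commute (q a) (q y) → Commute (q b) (q y) → ∀ x, Commute (q x) (q y) := by
        intro y hya hyb x
        have hle : Z ⊔ Subgroup.zpowers a ⊔ Subgroup.zpowers b ≤
            (Subgroup.centralizer ({q y} : Set (P ⧸ H))).comap q := by
          refine sup_le (sup_le ?_ (Subgroup.zpowers_le.mpr ?_)) (Subgroup.zpowers_le.mpr ?_)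
          · intro z hz
            rw [Subgroup.mem_comap, Subgroup.mem_centralizer_singleton_iff, ← map_mul, ← map_mul,
              hZc z hz y]
          · exact Subgroup.mem_centralizer_singleton_iff.mpr hya
          · exact Subgroup.mem_centralizer_singleton_iff.mpr hyb
        rw [htop] at hle
        exact Subgroup.mem_centralizer_singleton_iff.mp (hle (Subgroup.mem_top x))
      intro x y
      refine hgen y ((hgen a ?_ h0.symm y).symm) ((hgen b h0 ?_ y).symm) x
      · rfl
      · rfl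
    rw [commutator_def, Subgroup.commutator_le]
    intro x _ y _
    rw [← QuotientGroup.eq_one_iff]
    change q ⁅x, y⁆ = 1
    rw [map_commutatorElement]
    exact commutatorElement_eq_one_iff_mul_comm.mpr (key x y)
  have hcp : c ^ p = 1 := by
    have hconj : a * b * a⁻¹ = c * b := by rw [hc, commutatorElement_def]; group
    have hp' : (a * b * a⁻¹) ^ p = a * b ^ p * a⁻¹ := by rw [conj_pow]
    rw [hconj, (show Commute c b from ((hZc c hcZ b).symm)).mul_pow] at hp'
    rw [hZc _ (hpow b) a, mul_assoc, mul_inv_cancel, mul_one] at hp'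
    simpa using hp'
  have hc1 : c ≠ 1 := by
    intro h
    have hcm : a * b = b * a := by rw [hab, h, one_mul]
    refine hb ?_
    have hbZ : b ∈ Z := by
      have hle2 : Z ⊔ Subgroup.zpowers a ⊔ Subgroup.zpowers b ≤
          Subgroup.centralizer ({b} : Set P) := by
        refine sup_le (sup_le ?_ (Subgroup.zpowers_le.mpr ?_)) (Subgroup.zpowers_le.mpr ?_)
        · intro z hz
          exact Subgroup.mem_centralizer_singleton_iff.mpr (hZc z hz b).symm
        · exact Subgroup.mem_centralizer_singleton_iff.mpr hcm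
        · exact Subgroup.mem_centralizer_singleton_iff.mpr rfl
      rw [htop] at hle2
      exact Subgroup.mem_center_iff.mpr fun g =>
        Subgroup.mem_centralizer_singleton_iff.mp (hle2 (Subgroup.mem_top g))
    exact Subgroup.mem_sup_left hbZ
  have : commutator P = H := le_antisymm hle
    (Subgroup.zpowers_le.mpr (Subgroup.commutator_mem_commutator trivial trivial))
  rw [this, Nat.card_zpowers, orderOf_eq_prime hcp hc1]


/-- Let p be a prime and P a group of order p^4. Then the derived subgroup P' has order p if and only if the centre Z(P) has index p^2 in P. -/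
theorem result {P : Type*} [Group P] [Finite P] (p : ℕ) [Fact p.Prime] (hP : Nat.card P = p ^ 4) :
    Nat.card (commutator P) = p ↔ (Subgroup.center P).index = p ^ 2 := by
  have hp : p.Prime := Fact.out
  refine ⟨fun hd => ?_, derived_card⟩
  set Z := Subgroup.center P with hZdef
  have hPp : IsPGroup p P := IsPGroup.of_card hP
  obtain ⟨k, hk0, hk⟩ := IsPGroup.card_center_eq_prime_pow hP (by norm_num)
  have hD : commutator P ≠ ⊥ := by
    intro h
    rw [h, Subgroup.card_bot] at hd
    exact hp.one_lt.ne hd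
  have hZtop : Z ≠ ⊤ := by
    intro h
    refine hD ?_
    rw [eq_bot_iff, commutator_def, Subgroup.commutator_le]
    intro x _ y _
    have hy : y ∈ Z := h ▸ Subgroup.mem_top y
    exact commutatorElement_eq_one_iff_mul_comm.mpr (Subgroup.mem_center_iff.mp hy x)
  have hmul := Z.card_mul_index
  rw [hP, hk] at hmul
  obtain ⟨j, -, hj⟩ := (Nat.dvd_prime_pow hp).mp (Dvd.intro_left _ hmul : Z.index ∣ p ^ 4)
  rw [hj, ← pow_add] at hmul
  have hkj := Nat.pow_right_injective hp.two_le hmul
  have hj0 : j ≠ 0 := fun h => hZtop (Subgroup.index_eq_one.mp (by simp [hj, h]))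
  have hj1 : j ≠ 1 := by
    intro h
    rw [h, pow_one] at hj
    obtain ⟨g, hg⟩ : ∃ g, g ∉ Z := by
      by_contra hh
      push Not at hh
      exact hZtop (eq_top_iff.mpr fun x _ => hh x)
    refine hZtop (top_of_cyclic_quotient Z le_rfl g ?_)
    set A := Z ⊔ Subgroup.zpowers g
    have h1 := Subgroup.relIndex_mul_index (H := Z) (K := A) le_sup_left
    rw [hj] at h1
    rcases hp.eq_one_or_self_of_dvd _ (Dvd.intro _ h1) with h2 | h2
    · exact absurd (Subgroup.relIndex_eq_one.mp h2
        (Subgroup.mem_sup_right (Subgroup.mem_zpowers g))) hg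
    · rw [h2] at h1
      refine Subgroup.index_eq_one.mp (Nat.eq_of_mul_eq_mul_left hp.pos ?_)
      rw [h1, mul_one]
  by_contra hne
  have hk1 : k = 1 := by
    have : j ≠ 2 := fun h => hne (by rw [hj, h])
    omega
  subst hk1
  rw [pow_one] at hk
  -- the derived subgroup is the centre
  have hDZ : commutator P ≤ Z := by
    obtain ⟨x, hx⟩ := exists_prime_orderOf_dvd_card' (G := commutator P) p (by rw [hd])
    intro g hg
    have hgen : Subgroup.zpowers x = ⊤ := Subgroup.eq_top_of_card_eq _ (by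
      rw [Nat.card_zpowers, hx, hd])
    haveI : Nontrivial (commutator P) := (Subgroup.nontrivial_iff_ne_bot _).mpr hD
    have hne2 : commutator P ⊓ Subgroup.center P ≠ ⊥ := by
      exact inf_center_ne_bot hPp (commutator P) hD
    obtain ⟨y, hy, hy1⟩ := (Subgroup.bot_or_exists_ne_one _).resolve_left hne2
    have hyy : Subgroup.zpowers (⟨y, hy.1⟩ : commutator P) = ⊤ := by
      refine Subgroup.eq_top_of_card_eq _ ?_
      rw [Nat.card_zpowers, hd]
      refine orderOf_eq_prime ?_ (by simpa [Subtype.ext_iff] using hy1)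
      rw [← hd]; exact pow_card_eq_one'
    obtain ⟨n, hn⟩ := (hyy ▸ Subgroup.mem_top (⟨g, hg⟩ : commutator P) :
      (⟨g, hg⟩ : commutator P) ∈ Subgroup.zpowers (⟨y, hy.1⟩ : commutator P))
    have hn' : y ^ n = g := by simpa using congrArg Subtype.val hn
    rw [← hn']
    exact Subgroup.zpow_mem Z hy.2 n
  obtain ⟨a, ha⟩ : ∃ a, a ∉ Z := by
    by_contra hh
    push Not at hh
    exact hZtop (eq_top_iff.mpr fun x _ => hh x)
  obtain ⟨b, hb⟩ : ∃ b, a * b ≠ b * a := by
    by_contra hh
    push Not at hh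
    exact ha (Subgroup.mem_center_iff.mpr fun x => (hh x).symm)
  have hcz : ∀ g h : P, ⁅g, h⁆ ∈ Z := fun g h =>
    hDZ (Subgroup.commutator_mem_commutator trivial trivial)
  have hml : ∀ g h x : P, ⁅g * h, x⁆ = ⁅g, x⁆ * ⁅h, x⁆ := by
    intro g h x
    have e : ⁅g * h, x⁆ = g * ⁅h, x⁆ * g⁻¹ * ⁅g, x⁆ := by
      simp [commutatorElement_def, mul_assoc]
    have hz : Subgroup.center P = Z := rfl
    rw [e, Subgroup.mem_center_iff.mp (hcz h x) g, mul_inv_cancel_right,
      Subgroup.mem_center_iff.mp (hcz g x) ⁅h, x⁆]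
  let f : P →* Z × Z :=
    { toFun := fun g => (⟨⁅g, a⁆, hcz g a⟩, ⟨⁅g, b⁆, hcz g b⟩)
      map_one' := by ext <;> simp [commutatorElement_def]
      map_mul' := fun g h => by ext <;> simp [hml] }
  have hc1 : ⁅a, b⁆ ≠ 1 := fun h => hb (commutatorElement_eq_one_iff_mul_comm.mp h)
  have hord : ∀ z : Z, z ≠ 1 → Subgroup.zpowers z = ⊤ := fun z hz =>
    Subgroup.eq_top_of_card_eq _ (by
      rw [Nat.card_zpowers, hk]
      exact orderOf_eq_prime (by rw [← hk]; exact pow_card_eq_one') hz)
  have hsurj : Function.Surjective f := by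
    intro uv
    obtain ⟨i, hi⟩ := (hord ⟨⁅b, a⁆, hcz b a⟩ (by
        simp only [ne_eq, Subtype.ext_iff, Subgroup.coe_one]
        exact fun h => hb (commutatorElement_eq_one_iff_mul_comm.mp h).symm) ▸
      Subgroup.mem_top uv.1 : uv.1 ∈ Subgroup.zpowers (⟨⁅b, a⁆, hcz b a⟩ : Z))
    obtain ⟨j, hj'⟩ := (hord ⟨⁅a, b⁆, hcz a b⟩ (by
        simp only [ne_eq, Subtype.ext_iff, Subgroup.coe_one]; exact hc1) ▸
      Subgroup.mem_top uv.2 : uv.2 ∈ Subgroup.zpowers (⟨⁅a, b⁆, hcz a b⟩ : Z))
    refine ⟨a ^ j * b ^ i, ?_⟩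
    have ha' : f a = (1, ⟨⁅a, b⁆, hcz a b⟩) := by ext <;> simp [f]
    have hb' : f b = (⟨⁅b, a⁆, hcz b a⟩, 1) := by ext <;> simp [f]
    rw [map_mul, map_zpow, map_zpow, ha', hb']
    refine Prod.ext ?_ ?_
    · simpa using hi
    · simpa using hj'
  have hK : Nat.card f.ker = p ^ 2 := by
    have h1 := f.ker.card_mul_index
    rw [hP, Subgroup.index_ker, MonoidHom.range_eq_top.mpr hsurj, Subgroup.card_top, Nat.card_prod,
      hk] at h1
    exact Nat.eq_of_mul_eq_mul_right (Nat.mul_pos hp.pos hp.pos) (by rw [h1]; ring)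
  have hKab := IsPGroup.isMulCommutative_of_card_eq_prime_sq hK
  have hKa : ∀ x ∈ f.ker, x * a = a * x ∧ x * b = b * x := by
    intro x hx
    rw [MonoidHom.mem_ker, Prod.ext_iff] at hx
    exact ⟨commutatorElement_eq_one_iff_mul_comm.mp (congrArg Subtype.val hx.1),
      commutatorElement_eq_one_iff_mul_comm.mp (congrArg Subtype.val hx.2)⟩
  have hKZ : f.ker ≤ Z := by
    intro x hx
    have hle : f.ker ⊔ Subgroup.zpowers a ⊔ Subgroup.zpowers b ≤
        Subgroup.centralizer ({x} : Set P) := by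
      refine sup_le (sup_le ?_ (Subgroup.zpowers_le.mpr ?_)) (Subgroup.zpowers_le.mpr ?_)
      · intro y hy
        exact Subgroup.mem_centralizer_singleton_iff.mpr
          (congrArg Subtype.val (hKab.is_comm.comm (⟨y, hy⟩ : f.ker) ⟨x, hx⟩))
      · exact Subgroup.mem_centralizer_singleton_iff.mpr (hKa x hx).1.symm
      · exact Subgroup.mem_centralizer_singleton_iff.mpr (hKa x hx).2.symm
    refine Subgroup.mem_center_iff.mpr fun y =>
      Subgroup.mem_centralizer_singleton_iff.mp (hle ?_)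
    have hy : ∃ i j : ℤ, f y = f (a ^ i * b ^ j) := by
      obtain ⟨i, hi⟩ := (hord ⟨⁅a, b⁆, hcz a b⟩ (by
          simp only [ne_eq, Subtype.ext_iff, Subgroup.coe_one]; exact hc1) ▸
        Subgroup.mem_top (f y).2 : (f y).2 ∈ Subgroup.zpowers (⟨⁅a, b⁆, hcz a b⟩ : Z))
      obtain ⟨j, hj'⟩ := (hord ⟨⁅b, a⁆, hcz b a⟩ (by
          simp only [ne_eq, Subtype.ext_iff, Subgroup.coe_one]
          exact fun h => hb (commutatorElement_eq_one_iff_mul_comm.mp h).symm) ▸
        Subgroup.mem_top (f y).1 : (f y).1 ∈ Subgroup.zpowers (⟨⁅b, a⁆, hcz b a⟩ : Z))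
      have ha' : f a = (1, ⟨⁅a, b⁆, hcz a b⟩) := by ext <;> simp [f]
      have hb' : f b = (⟨⁅b, a⁆, hcz b a⟩, 1) := by ext <;> simp [f]
      refine ⟨i, j, ?_⟩
      rw [map_mul, map_zpow, map_zpow, ha', hb']
      refine Prod.ext ?_ ?_
      · simpa using hj'.symm
      · simpa using hi.symm
    obtain ⟨i, j, hij⟩ := hy
    have hmem : y * (a ^ i * b ^ j)⁻¹ ∈ f.ker := by
      rw [MonoidHom.mem_ker, map_mul, map_inv, hij, mul_inv_cancel]
    have e : y = y * (a ^ i * b ^ j)⁻¹ * a ^ i * b ^ j := by group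
    rw [e]
    refine mul_mem (mul_mem (Subgroup.mem_sup_left (Subgroup.mem_sup_left hmem)) ?_) ?_
    · exact Subgroup.mem_sup_left (Subgroup.mem_sup_right ⟨i, rfl⟩)
    · exact Subgroup.mem_sup_right ⟨j, rfl⟩
  have := Subgroup.card_le_of_le hKZ
  rw [hK, hk] at this
  nlinarith [hp.two_le]

end Cfsg.Agent.S4584
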