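import Cfsg.Statements.S1906
import Cfsg.Agent.Lib.GL3Two.Split
import Cfsg.Agent.Lib.GL3Two.Transfer
import Cfsg.Agent.S4584

set_option autoImplicit false
open Cfsg

namespace Cfsg.Agent.S1906

open Matrix in
theorem elemAb_card {F : Type*} [Field F] (h2 : (2 : F) ≠ 0) {H : Type*} [Group H] [Finite H]
    (f : H →* GL (Fin 3) F) (hf : Function.Injective f) (D : Subgroup H) (hab : ∀ a ∈ D, ∀ b ∈ D, a * b = b * a)
    (hsq : ∀ a ∈ D, a ^ 2 = 1) :
    Nat.card D ≤ 8 ∧ (Nat.card D = 8 → (∃ d ∈ D, ∀ x, d * x = x * d ∧ ((f d : GL (Fin 3) F) : Matrix (Fin 3) (Fin 3) F).det = -1) ∧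
      ∀ x y : H, (∀ d ∈ D, x * d = d * x) → (∀ d ∈ D, y * d = d * y) → x * y = y * x) := by
  classical
  let L : H →* Module.End F (Fin 3 → F) :=
    ((Matrix.toLinAlgEquiv' : Matrix (Fin 3) (Fin 3) F ≃ₐ[F] _).toMonoidHom.comp
      (Units.coeHom (Matrix (Fin 3) (Fin 3) F))).comp f
  have hL : Function.Injective L := fun a b h => hf (Units.ext (Matrix.toLinAlgEquiv'.injective h))
  obtain ⟨hle, heq⟩ := Cfsg.Agent.GL3Two.restrict_card h2 (L.comp D.subtype)
    (fun e => by rw [← map_mul, ← map_one (L.comp D.subtype)]; congr 1; exact Subtype.ext (by simpa [pow_two] using hsq e e.2))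
    (fun e e' => by rw [← map_mul, ← map_mul]; congr 1; exact Subtype.ext (hab e e.2 e' e'.2))
    3 ⊤ (by simp) (fun _ _ _ => trivial)
  have hcard : (Set.range fun (e : D) (w : (⊤ : Submodule F (Fin 3 → F))) =>
      (L.comp D.subtype) e (w : Fin 3 → F)).ncard = Nat.card D := by
    rw [← Nat.card_coe_set_eq]
    refine Nat.card_range_of_injective fun a b h => Subtype.ext (hL ?_)
    exact LinearMap.ext fun w => congrFun h ⟨w, trivial⟩
  rw [hcard] at hle heq
  refine ⟨hle, fun h8 => ?_⟩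
  obtain ⟨⟨d, hd⟩, hcomm⟩ := heq h8
  have hdm : L d.1 = -1 := LinearMap.ext fun w => hd w trivial
  constructor
  · refine ⟨d.1, d.2, fun x => ⟨hL ?_, ?_⟩⟩
    · rw [map_mul, map_mul, hdm]; exact LinearMap.ext fun w => (map_neg (L x) w).symm
    · have e : ((f d.1 : GL (Fin 3) F) : Matrix (Fin 3) (Fin 3) F) = -1 :=
        Matrix.toLinAlgEquiv'.injective (by rw [map_neg, map_one]; exact hdm)
      rw [e, Matrix.det_neg, Matrix.det_one]; norm_num
  · intro x y hx hy
    refine hL (LinearMap.ext fun w => ?_)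
    have key : ∀ z : H, (∀ d ∈ D, z * d = d * z) → ∀ e : D, L z * (L.comp D.subtype) e = (L.comp D.subtype) e * L z :=
      fun z hz e => by simp only [MonoidHom.comp_apply, Subgroup.coe_subtype, ← map_mul, hz e e.2]
    simpa [map_mul] using hcomm (L x) (L y) (key x hx) (key y hy) (fun _ _ => trivial) (fun _ _ => trivial) w trivial

/-- Let G be a finite group with no subgroup of index 2 whose Sylow 2-subgroup X embeds in GL₃(F) for a finite field F of odd order. If X contains an elementary abelian subgroup of order 8, then X is abelian. -/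
theorem result {G : Type*} [Group G] [Finite G] (hG : ∀ H : Subgroup G, H.index ≠ 2) (X : Sylow 2 G)
    {F : Type*} [Field F] [Fintype F] (hF : Odd (Fintype.card F))
    (f : ↥(X : Subgroup G) →* GL (Fin 3) F) (hf : Function.Injective f)
    (E : Subgroup G) (hE : E ≤ (X : Subgroup G)) (hEa : Cfsg.IsElementaryAbelian 2 E) (hE8 : Nat.card E = 8) :
    IsMulCommutative (X : Subgroup G) := by
  classical
  haveI : Fintype (X : Subgroup G) := Fintype.ofFinite _
  have hF2 : (2 : F) ≠ 0 := fun h => by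
    obtain ⟨n, hp, hn⟩ := FiniteField.card F (ringChar F)
    have hr : ringChar F = 2 := CharP.ringChar_of_prime_eq_zero Nat.prime_two (by exact_mod_cast h)
    rw [hn, hr] at hF
    exact absurd hF (by simp [Nat.even_pow])
  have h21 : (-1 : Fˣ) ≠ 1 := fun h => hF2 (by
    have h' : (-1 : F) = 1 := by simpa using congrArg Units.val h
    linear_combination -h')
  by_contra hnon
  -- the elementary abelian subgroup of order eight
  let E' : Subgroup (X : Subgroup G) := E.subgroupOf (X : Subgroup G)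
  have hE'8 : Nat.card E' = 8 := hE8 ▸ Nat.card_congr (Subgroup.subgroupOfEquivOfLe hE).toEquiv
  obtain ⟨c, hcE, hc⟩ := (elemAb_card hF2 f hf E'
    (fun a ha b hb => Subtype.ext (show (a : G) * b = b * a from
      congrArg Subtype.val (hEa.1.is_comm.comm ⟨(a : G), ha⟩ ⟨(b : G), hb⟩)))
    (fun a ha => Subtype.ext (hEa.2 _ ha))).2 hE'8 |>.1
  let ψ : (X : Subgroup G) →* Fˣ := Matrix.GeneralLinearGroup.det.comp f
  have hψc : ψ c = -1 := Units.ext (by simpa [ψ] using (hc c).2)
  have hc2 : c ^ 2 = 1 := Subtype.ext (hEa.2 _ hcE)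
  -- central involutions
  let D : Subgroup (X : Subgroup G) :=
    { carrier := {x | x ∈ Subgroup.center _ ∧ x ^ 2 = 1}
      one_mem' := ⟨one_mem _, one_pow 2⟩
      mul_mem' := fun {a b} ha hb => ⟨mul_mem ha.1 hb.1, by
        rw [(show Commute a b from Subgroup.mem_center_iff.1 hb.1 a).mul_pow, ha.2, hb.2, one_mul]⟩
      inv_mem' := fun {a} ha => ⟨inv_mem ha.1, by rw [inv_pow, ha.2, inv_one]⟩ }
  have hcD : c ∈ D := ⟨Subgroup.mem_center_iff.2 fun x => ((hc x).1).symm, hc2⟩
  obtain ⟨hD8, hDeq⟩ := elemAb_card hF2 f hf D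
    (fun a _ b hb => Subgroup.mem_center_iff.1 hb.1 a) (fun a ha => ha.2)
  have hDne : Nat.card D ≠ 8 := fun h => hnon ⟨⟨fun x y => (hDeq h).2 x y
    (fun d hd => Subgroup.mem_center_iff.1 hd.1 x) (fun d hd => Subgroup.mem_center_iff.1 hd.1 y)⟩⟩
  haveI : Fact (Nat.Prime 2) := ⟨Nat.prime_two⟩
  obtain ⟨k, hk⟩ := IsPGroup.iff_card.1 (X.2.to_subgroup D)
  have hD4 : Nat.card D ≤ 4 := by
    rw [hk] at hD8 hDne ⊢
    have hk3 : k < 3 := by
      refine lt_of_le_of_ne ((Nat.pow_le_pow_iff_right (show 1 < 2 by norm_num)).1 (show 2 ^ k ≤ 2 ^ 3 by simpa using hD8)) ?_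
      rintro rfl; exact hDne rfl
    exact (Nat.pow_le_pow_right (by norm_num) (Nat.le_of_lt_succ hk3)).trans (by norm_num)
  -- a central involution in the commutator subgroup
  have hcomm : commutator (X : Subgroup G) ≠ ⊥ := fun h => hnon ⟨⟨fun x y => by
    have h' := Subgroup.commutator_mem_commutator (Subgroup.mem_top x) (Subgroup.mem_top y)
    rw [← commutator_def, h, Subgroup.mem_bot, commutatorElement_eq_one_iff_mul_comm] at h'
    exact h'⟩⟩
  haveI : Nontrivial (commutator (X : Subgroup G)) := (Subgroup.nontrivial_iff_ne_bot _).2 hcomm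
  obtain ⟨z, hzC, hzZ, hz1, hz2⟩ : ∃ z ∈ commutator (X : Subgroup G), z ∈ Subgroup.center _ ∧ z ≠ 1 ∧ z ^ 2 = 1 := by
    haveI : Group.IsNilpotent (X : Subgroup G) := X.2.isNilpotent
    have hinf : commutator (X : Subgroup G) ⊓ Subgroup.center _ ≠ ⊥ :=
      Cfsg.Agent.S4584.inf_center_ne_bot X.2 _ hcomm
    obtain ⟨k, hk⟩ := IsPGroup.iff_card.1
      (X.2.to_subgroup (commutator (X : Subgroup G) ⊓ Subgroup.center _))
    have hk0 : k ≠ 0 := fun e => hinf (Subgroup.card_eq_one.1 (by rw [hk, e, pow_zero]))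
    obtain ⟨z, hz⟩ := exists_prime_orderOf_dvd_card' 2 (hk ▸ dvd_pow_self 2 hk0)
    refine ⟨z.1, z.2.1, z.2.2, fun e => ?_, ?_⟩
    · rw [← Subgroup.orderOf_coe, e, orderOf_one] at hz; exact absurd hz (by norm_num)
    · have := pow_orderOf_eq_one z.1
      rwa [Subgroup.orderOf_coe, hz] at this
  have hψC : ∀ y ∈ commutator (X : Subgroup G), ψ y = 1 := fun y hy =>
    MonoidHom.mem_ker.1 (Abelianization.commutator_subset_ker ψ hy)
  have hzD : z ∈ D := ⟨hzZ, hz2⟩
  have hcC : c ∉ commutator (X : Subgroup G) := fun h => h21 (hψc.symm.trans (hψC c h))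
  have hall : ∀ y ∈ D, y ∉ commutator (X : Subgroup G) → ψ y = -1 := by
    intro y hy hyC
    by_contra hne
    have hy1 : y ≠ 1 := fun e => hyC (e ▸ one_mem _)
    have hzy : y ≠ z := fun e => hyC (e ▸ hzC)
    have hyc : y ≠ c := fun e => hne (e ▸ hψc)
    have hycz : y ≠ c * z := fun e => hne (by rw [e, map_mul, hψc, hψC z hzC, mul_one])
    have hsub : ({1, z, c, c * z, y} : Finset (X : Subgroup G)) ⊆ Finset.univ.filter (· ∈ D) := by
      intro w hw
      simp only [Finset.mem_insert, Finset.mem_singleton] at hw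
      rcases hw with rfl | rfl | rfl | rfl | rfl <;>
        simp [one_mem D, hzD, hcD, hy, D.mul_mem hcD hzD]
    have hcz : c ≠ z := fun e => hcC (e ▸ hzC)
    have hc1 : c ≠ 1 := fun e => hcC (e ▸ one_mem _)
    have hcz1 : c * z ≠ 1 := fun e => hcC (by
      rw [eq_inv_of_mul_eq_one_left e]; exact inv_mem hzC)
    have hczz : c * z ≠ z := fun e => hc1 (by simpa using e)
    have hczc : c * z ≠ c := fun e => hz1 (by simpa using e)
    have h5 : ({1, z, c, c * z, y} : Finset (X : Subgroup G)).card = 5 := by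
      simp [hz1.symm, hc1.symm, hcz1.symm, hy1.symm, hcz.symm, hczz.symm, hzy.symm, hczc.symm, hyc.symm, hycz.symm]
    have := Finset.card_le_card hsub
    rw [h5, ← Fintype.card_subtype, ← Nat.card_eq_fintype_card] at this
    omega
  obtain ⟨K, hK⟩ := Cfsg.Agent.GL3Two.exists_index_two X ψ h21 c.2 (congrArg Subtype.val hc2)
    (fun x hx => congrArg Subtype.val (Subgroup.mem_center_iff.1 hcD.1 ⟨x, hx⟩)) (fun g hg h => by
      let φ := Subgroup.normalizerMonoidHom (X : Subgroup G) ⟨g⁻¹, inv_mem hg⟩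
      have e : (⟨_, h⟩ : (X : Subgroup G)) = φ c := Subtype.ext (show g⁻¹ * (c : G) * g = g⁻¹ * (c : G) * g⁻¹⁻¹ by rw [inv_inv])
      rw [e]
      refine hall _ ⟨?_, by rw [← map_pow, hc2, map_one]⟩ fun h' => hcC ?_
      · refine Subgroup.mem_center_iff.2 fun x => ?_
        obtain ⟨x, rfl⟩ := φ.surjective x
        rw [← map_mul, ← map_mul, Subgroup.mem_center_iff.1 hcD.1 x]
      · have hch : (commutator (X : Subgroup G)).Characteristic := inferInstance
        have := Subgroup.characteristic_iff_comap_eq.1 hch φ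
        exact this ▸ h')
  exact hG K hK

end Cfsg.Agent.S1906
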