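import Cfsg.Statements.S1910
import Cfsg.Agent.Lib.Transfer.Alperin
import Cfsg.Agent.Lib.Transfer.Basic

set_option autoImplicit false
set_option linter.style.haveILetI false
set_option linter.unusedVariables false
open Cfsg

namespace Cfsg.Agent.S1910

open scoped Pointwise commutatorElement
open Cfsg.Agent
open Cfsg.Agent.Alperin (cj mem_cj card_cj exists_sylow_inf exists_conj_sylow)

variable {G : Type*} [Group G] [Finite G]

/-- `K` contains a nontrivial 2-element and its conjugate only for conjugation in the normalizer. -/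
def TI2 (K : Subgroup G) : Prop :=
  ∀ x t : G, t ∈ K → x * t * x⁻¹ ∈ K → t ≠ 1 → (∃ k : ℕ, orderOf t = 2 ^ k) → x ∈ Subgroup.normalizer (K : Set G)

lemma ti2_of_tight {K : Subgroup G} (hK : Cfsg.IsTightlyEmbedded K) : TI2 K := by
  intro x t ht hxt ht1 htk
  obtain ⟨k, hk⟩ := htk
  by_contra hx
  have hmem : x * t * x⁻¹ ∈ K ⊓ K.map (MulAut.conj x).toMonoidHom := ⟨hxt, t, ht, rfl⟩
  have hd := Subgroup.orderOf_dvd_natCard _ hmem
  have ho : orderOf (x * t * x⁻¹) = 2 ^ k := ((MulAut.conj x).orderOf_eq t).trans hk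
  rw [ho] at hd
  have hk0 : k ≠ 0 := by rintro rfl; exact ht1 (orderOf_eq_one_iff.1 hk)
  exact Nat.not_even_iff_odd.2 (hK.2 x hx) (even_iff_two_dvd.2 ((dvd_pow_self 2 hk0).trans hd))

omit [Finite G] in
lemma ti2_conj {K : Subgroup G} (hK : TI2 K) (g : G) : TI2 (K.map (MulAut.conj g).toMonoidHom) := by
  intro x t ht hxt ht1 htk
  obtain ⟨k, hk⟩ := htk
  obtain ⟨t', ht', rfl⟩ := ht
  have h1 : g⁻¹ * x * g * t' * (g⁻¹ * x * g)⁻¹ ∈ K := by
    obtain ⟨v, hv, hvx⟩ := hxt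
    have he : g * v * g⁻¹ = x * (g * t' * g⁻¹) * x⁻¹ := hvx
    rw [show g⁻¹ * x * g * t' * (g⁻¹ * x * g)⁻¹ = g⁻¹ * (x * (g * t' * g⁻¹) * x⁻¹) * g by group, ← he]
    rwa [show g⁻¹ * (g * v * g⁻¹) * g = v by group]
  have h2 := hK _ t' ht' h1 (fun h => ht1 (by rw [h]; exact map_one _))
    ⟨k, ((MulAut.conj g).orderOf_eq t').symm.trans hk⟩
  have h3 := Subgroup.le_normalizer_map (MulAut.conj g).toMonoidHom ⟨_, h2, rfl⟩
  have h4 : g * (g⁻¹ * x * g) * g⁻¹ = x := by group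
  rw [← h4]
  exact h3

lemma card_prod {A B C : Subgroup G} (hA : A ≤ C) (hB : B ≤ C) (hd : A ⊓ B = ⊥)
    (h : ∀ c ∈ C, ∃ a ∈ A, ∃ b ∈ B, c = a * b) : Nat.card C = Nat.card A * Nat.card B := by
  rw [← Nat.card_prod]
  refine (Nat.card_congr (Equiv.ofBijective (fun z : A × B => (⟨z.1 * z.2, C.mul_mem (hA z.1.2) (hB z.2.2)⟩ : C)) ⟨?_, ?_⟩)).symm
  · rintro ⟨a, b⟩ ⟨a', b'⟩ he
    have he' : (a : G) * b = a' * b' := congrArg Subtype.val he
    have h1 : (a' : G)⁻¹ * a ∈ A ⊓ B := by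
      refine ⟨A.mul_mem (A.inv_mem a'.2) a.2, ?_⟩
      rw [show (a' : G)⁻¹ * a = (b' : G) * (b : G)⁻¹ by
        calc (a' : G)⁻¹ * a = (a' : G)⁻¹ * (a * b) * (b : G)⁻¹ := by group
          _ = (a' : G)⁻¹ * (a' * b') * (b : G)⁻¹ := by rw [he']
          _ = _ := by group]
      exact B.mul_mem b'.2 (B.inv_mem b.2)
    rw [hd, Subgroup.mem_bot, inv_mul_eq_one] at h1
    have h2 : b = b' := Subtype.ext (mul_left_cancel (a := (a : G)) (he'.trans (by rw [h1])))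
    exact Prod.ext (Subtype.ext h1.symm) h2
  · rintro ⟨c, hc⟩
    obtain ⟨a, ha, b, hb, rfl⟩ := h c hc
    exact ⟨⟨⟨a, ha⟩, ⟨b, hb⟩⟩, rfl⟩

lemma two_bound {A T N : Subgroup G} (hA : IsPGroup 2 A) (hT : IsPGroup 2 T) (hAN : A ≤ N) (hTN : T ≤ N)
    (h : ¬ 2 ∣ T.relIndex N) : Nat.card A ≤ Nat.card T := by
  obtain ⟨k, hk⟩ := IsPGroup.iff_card.1 hA
  have h1 : Nat.card A ∣ Nat.card T * T.relIndex N := by
    rw [PBasic.card_mul_relIndex hTN]; exact Subgroup.card_dvd_of_le hAN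
  rw [hk] at h1 ⊢
  exact Nat.le_of_dvd Nat.card_pos
    (((Nat.coprime_two_left.2 (Nat.not_even_iff_odd.1 fun he => h he.two_dvd)).pow_left k).dvd_of_dvd_mul_right h1)

lemma disjoint_two {A K Q : Subgroup G} (hA : IsPGroup 2 A) (hAK : A ≤ K) (hodd : Odd (Nat.card (K ⊓ Q : Subgroup G))) :
    A ⊓ Q = ⊥ := by
  obtain ⟨k, hk⟩ := IsPGroup.iff_card.1 (hA.to_le (inf_le_left : A ⊓ Q ≤ A))
  refine Subgroup.eq_bot_of_card_eq _ ?_
  rcases k with _ | k
  · rw [hk, pow_zero]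
  · exact absurd (even_iff_two_dvd.2 ((hk ▸ dvd_pow_self 2 k.succ_ne_zero).trans
      (Subgroup.card_dvd_of_le (inf_le_inf_right Q hAK)))) (Nat.not_even_iff_odd.2 hodd)

lemma pair {K Q T S : Subgroup G} (hK : TI2 K) (hodd : Odd (Nat.card (K ⊓ Q : Subgroup G)))
    (hcard : Nat.card K = Nat.card Q) (hT1 : T ≠ ⊥) (hT : IsPGroup 2 T) (hTK : T ≤ K)
    (hTN : T ≤ Subgroup.normalizer (Q : Set G)) (hTS : T ≤ S) (hS : S ≤ Q ⊔ T)
    (hSp : IsPGroup 2 S) (hSidx : ¬ 2 ∣ S.relIndex (Q ⊔ T)) :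
    T ⊓ Q = ⊥ ∧ (∀ r ∈ S ⊓ Subgroup.normalizer (T : Set G) ⊓ Q, ∀ t ∈ T, t * r = r * t) ∧
    T ⊔ (S ⊓ Subgroup.normalizer (T : Set G) ⊓ Q) = S ⊓ Subgroup.normalizer (T : Set G) ∧
    S ⊓ Subgroup.normalizer (T : Set G) ⊓ Q ≤ Subgroup.normalizer (K : Set G) ∧
    Nat.card T ≤ Nat.card (S ⊓ Subgroup.normalizer (T : Set G) ⊓ Q : Subgroup G) ∧
    ((∃ f : T →* (S ⊓ Subgroup.normalizer (T : Set G) ⊓ Q : Subgroup G), Function.Injective f) ∨
      ¬ 2 ∣ (S ⊓ Subgroup.normalizer (T : Set G) ⊓ Q).relIndex Q) := by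
  set W := S ⊓ Subgroup.normalizer (T : Set G) with hW
  set R := W ⊓ Q with hR
  have hTQ : T ⊓ Q = ⊥ := disjoint_two hT hTK hodd
  have htwo : ∀ t ∈ T, ∃ k : ℕ, orderOf t = 2 ^ k := fun t ht => by
    obtain ⟨k, hk⟩ := IsPGroup.iff_orderOf.1 hT ⟨t, ht⟩
    exact ⟨k, by rwa [Subgroup.orderOf_mk] at hk⟩
  have hNTK : Subgroup.normalizer (T : Set G) ≤ Subgroup.normalizer (K : Set G) := by
    obtain ⟨⟨t, ht⟩, ht1⟩ := Subgroup.ne_bot_iff_exists_ne_one.1 hT1
    intro x hx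
    exact hK x t (hTK ht) (hTK ((Subgroup.mem_normalizer_iff.1 hx t).1 ht))
      (fun h => ht1 (Subtype.ext h)) (htwo t ht)
  have hTW : T ≤ W := le_inf hTS Subgroup.le_normalizer
  have hRT : R ≤ Subgroup.normalizer (T : Set G) := inf_le_left.trans inf_le_right
  have hcomm : ∀ r ∈ R, ∀ t ∈ T, t * r = r * t := by
    intro r hr t ht
    have h1 : ⁅t, r⁆ ∈ T ⊓ Q := by
      constructor
      · have := T.mul_mem ht ((Subgroup.mem_normalizer_iff.1 (hRT hr) t⁻¹).1 (T.inv_mem ht))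
        simpa [commutatorElement_def, mul_assoc] using this
      · have := Q.mul_mem ((Subgroup.mem_normalizer_iff.1 (hTN ht) r).1 hr.2) (Q.inv_mem hr.2)
        simpa [commutatorElement_def] using this
    rw [hTQ, Subgroup.mem_bot] at h1
    exact commutatorElement_eq_one_iff_mul_comm.1 h1
  have hdec : ∀ s ∈ S, ∃ q ∈ S ⊓ Q, ∃ t ∈ T, s = q * t := by
    intro s hs
    have hs' : s ∈ ((Q ⊔ T : Subgroup G) : Set G) := hS hs
    rw [Subgroup.coe_mul_of_right_le_normalizer_left Q T hTN] at hs'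
    obtain ⟨q, hq, t, ht, rfl⟩ := hs'
    refine ⟨q, ⟨?_, hq⟩, t, ht, rfl⟩
    have := S.mul_mem hs (S.inv_mem (hTS ht))
    simpa using this
  have hWdec : ∀ w ∈ W, ∃ t ∈ T, ∃ r ∈ R, w = t * r := by
    intro w hw
    obtain ⟨q, hq, t, ht, rfl⟩ := hdec w hw.1
    have hqN : q ∈ Subgroup.normalizer (T : Set G) := by
      have := Subgroup.mul_mem _ hw.2 (Subgroup.inv_mem _ (Subgroup.le_normalizer ht))
      simpa using this
    exact ⟨t, ht, q, ⟨⟨hq.1, hqN⟩, hq.2⟩, (hcomm q ⟨⟨hq.1, hqN⟩, hq.2⟩ t ht).symm⟩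
  have hsup : T ⊔ R = W := by
    refine le_antisymm (sup_le hTW inf_le_left) fun w hw => ?_
    obtain ⟨t, ht, r, hr, rfl⟩ := hWdec w hw
    exact Subgroup.mul_mem_sup ht hr
  have hinj : (∃ f : T →* R, Function.Injective f) → Nat.card T ≤ Nat.card R :=
    fun ⟨f, hf⟩ => Nat.card_le_card_of_injective f hf
  by_cases hWS : W = S
  · have hSQ : S ⊓ Q = R := by rw [hR, hWS]
    have hQidx : ¬ 2 ∣ R.relIndex Q := by
      have h1 : Nat.card (Q ⊔ T : Subgroup G) = Nat.card Q * Nat.card T := by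
        refine card_prod le_sup_left le_sup_right (by rw [inf_comm]; exact hTQ) fun c hc => ?_
        have hc' : c ∈ ((Q ⊔ T : Subgroup G) : Set G) := hc
        rw [Subgroup.coe_mul_of_right_le_normalizer_left Q T hTN] at hc'
        obtain ⟨q, hq, t, ht, rfl⟩ := hc'
        exact ⟨q, hq, t, ht, rfl⟩
      have h2 : Nat.card S = Nat.card R * Nat.card T := by
        rw [← hSQ]
        refine card_prod inf_le_left hTS ?_ hdec
        rw [eq_bot_iff, ← hTQ]
        exact le_inf inf_le_right (inf_le_left.trans inf_le_right)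
      have h3 := PBasic.card_mul_relIndex hS
      have h4 := PBasic.card_mul_relIndex (inf_le_right : R ≤ Q)
      rw [h1, ← h4, h2, mul_right_comm] at h3
      have h5 := Nat.eq_of_mul_eq_mul_right Nat.card_pos h3
      rwa [← Nat.eq_of_mul_eq_mul_left Nat.card_pos h5]
    refine ⟨hTQ, hcomm, hsup, hRT.trans hNTK, ?_, Or.inr hQidx⟩
    obtain ⟨k, hk⟩ := IsPGroup.iff_card.1 hT
    have h1 : Nat.card T ∣ Nat.card R * R.relIndex Q := by
      rw [PBasic.card_mul_relIndex (inf_le_right : R ≤ Q), ← hcard]; exact Subgroup.card_dvd_of_le hTK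
    rw [hk] at h1 ⊢
    exact Nat.le_of_dvd Nat.card_pos
      (((Nat.coprime_two_left.2 (Nat.not_even_iff_odd.1 fun he => hQidx he.two_dvd)).pow_left k).dvd_of_dvd_mul_right h1)
  · have hlt := Fusion.lt_inf_normalizer hSp.isNilpotent (lt_of_le_of_ne (inf_le_left : W ≤ S) hWS)
    obtain ⟨s, ⟨hsS, hsN⟩, hsW⟩ := SetLike.exists_of_lt hlt
    have huniq : ∀ a ∈ T, ∀ r ∈ R, ∀ a' ∈ T, ∀ r' ∈ R, a * r = a' * r' → r = r' := by
      intro a ha r hr a' ha' r' hr' he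
      have h1 : r' * r⁻¹ ∈ T ⊓ Q := by
        refine ⟨?_, Q.mul_mem hr'.2 (Q.inv_mem hr.2)⟩
        have : r' * r⁻¹ = a'⁻¹ * a := by
          calc r' * r⁻¹ = a'⁻¹ * (a' * r') * r⁻¹ := by group
            _ = a'⁻¹ * (a * r) * r⁻¹ := by rw [he]
            _ = a'⁻¹ * a := by group
        rw [this]; exact T.mul_mem (T.inv_mem ha') ha
      rw [hTQ, Subgroup.mem_bot, mul_inv_eq_one] at h1
      exact h1.symm
    have hsT : ∀ t : T, ∃ r : R, ∃ a ∈ T, s * (t : G) * s⁻¹ = a * r := by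
      intro t
      obtain ⟨a, ha, r, hr, he⟩ := hWdec _ ((Subgroup.mem_normalizer_iff.1 hsN _).1 (hTW t.2))
      exact ⟨⟨r, hr⟩, a, ha, he⟩
    choose f a haT hf using hsT
    let φ : T →* R := MonoidHom.mk' f fun x y => by
      refine Subtype.ext (huniq (a (x * y)) (haT _) _ (f _).2 (a x * a y) (T.mul_mem (haT x) (haT y)) _
        (R.mul_mem (f x).2 (f y).2) ?_)
      rw [← hf]
      calc s * ((x * y : T) : G) * s⁻¹ = (s * (x : G) * s⁻¹) * (s * (y : G) * s⁻¹) := by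
            rw [Subgroup.coe_mul]; group
        _ = a x * ((f x : G) * a y) * f y := by rw [hf, hf]; group
        _ = a x * (a y * (f x : G)) * f y := by rw [hcomm _ (f x).2 _ (haT y)]
        _ = _ := by rw [Subgroup.coe_mul]; group
    have hWK : ∀ w ∈ W, w ∈ K → w ∈ T := by
      intro w hw hwK
      obtain ⟨t, ht, r, hr, rfl⟩ := hWdec w hw
      have hr1 : r ∈ R ⊓ K := ⟨hr, by
        have := K.mul_mem (K.inv_mem (hTK ht)) hwK
        simpa using this⟩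
      have hb : R ⊓ K = ⊥ := disjoint_two (hSp.to_le (inf_le_left.trans inf_le_left)) inf_le_right
        (by rwa [inf_comm])
      rw [hb, Subgroup.mem_bot] at hr1
      rw [hr1, mul_one]
      exact ht
    have hφ : Function.Injective φ := by
      rw [injective_iff_map_eq_one]
      intro t ht
      by_contra ht1
      have he := hf t
      rw [show ((f t : R) : G) = 1 from congrArg Subtype.val ht, mul_one] at he
      have hsK : s ∈ Subgroup.normalizer (K : Set G) :=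
        hK s t (hTK t.2) (he ▸ hTK (haT t)) (fun h => ht1 (Subtype.ext h)) (htwo t t.2)
      refine hsW ⟨hsS, Subgroup.mem_normalizer_fintype fun x hx => ?_⟩
      exact hWK _ ((Subgroup.mem_normalizer_iff.1 hsN x).1 (hTW hx))
        ((Subgroup.mem_normalizer_iff.1 hsK x).1 (hTK hx))
    exact ⟨hTQ, hcomm, hsup, hRT.trans hNTK, hinj ⟨φ, hφ⟩, Or.inl ⟨φ, hφ⟩⟩

/-- Let Q be a tightly embedded subgroup of a finite group G, g an element outside N_G(Q), T a nontrivial Sylow 2-subgroup of Q^g ∩ N_G(Q), and S a Sylow 2-subgroup of QT containing T. Then T ∩ Q = 1, and N_S(T) is the direct product of T and N_S(T) ∩ Q, with N_S(T) ∩ Q isomorphic to T. -/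
theorem result {G : Type*} [Group G] [Finite G] (Q : Subgroup G) (hQ : Cfsg.IsTightlyEmbedded Q)
    (g : G) (hg : g ∉ Subgroup.normalizer (Q : Set G))
    (T : Subgroup G) (hT1 : T ≠ ⊥) (hT : T ≤ Q.map (MulAut.conj g).toMonoidHom ⊓ Subgroup.normalizer (Q : Set G))
    (hTsyl : IsPGroup 2 T ∧ ¬ 2 ∣ T.relIndex (Q.map (MulAut.conj g).toMonoidHom ⊓ Subgroup.normalizer (Q : Set G)))
    (S : Subgroup G) (hTS : T ≤ S) (hS : S ≤ Q ⊔ T) (hSsyl : IsPGroup 2 S ∧ ¬ 2 ∣ S.relIndex (Q ⊔ T)) :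
    T ⊓ Q = ⊥ ∧
      T ⊓ (S ⊓ Subgroup.normalizer (T : Set G) ⊓ Q) = ⊥ ∧
      ⁅T, S ⊓ Subgroup.normalizer (T : Set G) ⊓ Q⁆ = ⊥ ∧
      T ⊔ (S ⊓ Subgroup.normalizer (T : Set G) ⊓ Q) = S ⊓ Subgroup.normalizer (T : Set G) ∧
      Nonempty (↥(S ⊓ Subgroup.normalizer (T : Set G) ⊓ Q) ≃* T) := by
  haveI := Fact.mk Nat.prime_two
  set K := Q.map (MulAut.conj g).toMonoidHom with hKdef
  have hQ2 := ti2_of_tight hQ
  have hK2 : TI2 K := ti2_conj hQ2 g
  have hcard : Nat.card K = Nat.card Q := Subgroup.card_map_of_injective (MulAut.conj g).injective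
  have hodd : Odd (Nat.card (K ⊓ Q : Subgroup G)) := by rw [inf_comm]; exact hQ.2 g hg
  have hodd' : Odd (Nat.card (Q ⊓ K : Subgroup G)) := hQ.2 g hg
  have hTK : T ≤ K := hT.trans inf_le_left
  have hTN : T ≤ Subgroup.normalizer (Q : Set G) := hT.trans inf_le_right
  obtain ⟨hTQ, hcomm, hsup, hRK, hle, halt⟩ :=
    pair hK2 hodd hcard hT1 hTsyl.1 hTK hTN hTS hS hSsyl.1 hSsyl.2
  set R := S ⊓ Subgroup.normalizer (T : Set G) ⊓ Q with hR
  have hRp : IsPGroup 2 R := hSsyl.1.to_le (inf_le_left.trans inf_le_left)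
  -- the symmetric inequality
  have hRcard : Nat.card R = Nat.card T := by
    refine le_antisymm ?_ hle
    obtain ⟨U, hU, hUidx⟩ := exists_sylow_inf (p := 2) (Q ⊓ Subgroup.normalizer (K : Set G)) R hRp
      (le_inf inf_le_right hRK)
    set R' := (U : Subgroup G) ⊓ (Q ⊓ Subgroup.normalizer (K : Set G)) with hR'
    have hR'p : IsPGroup 2 R' := U.isPGroup'.to_le inf_le_left
    have hRR' : R ≤ R' := le_inf hU (le_inf inf_le_right hRK)
    have hR'1 : R' ≠ ⊥ := by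
      intro hb
      have h1 : Nat.card R ≤ 1 := (Subgroup.card_le_of_le hRR').trans (by rw [hb, Subgroup.card_bot])
      exact hT1 (Subgroup.eq_bot_of_card_le T (hle.trans h1))
    obtain ⟨U', hU', hU'idx⟩ := exists_sylow_inf (p := 2) (K ⊔ R') R' hR'p le_sup_right
    obtain ⟨-, hcomm', -, hNQ, hle', -⟩ := pair hQ2 hodd' hcard.symm hR'1 hR'p
      (inf_le_right.trans inf_le_left) (inf_le_right.trans inf_le_right)
      (S := (U' : Subgroup G) ⊓ (K ⊔ R')) (le_inf hU' le_sup_right) inf_le_right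
      (U'.isPGroup'.to_le inf_le_left) hU'idx
    refine (Subgroup.card_le_of_le hRR').trans (hle'.trans ?_)
    exact two_bound (U'.isPGroup'.to_le ((inf_le_left.trans inf_le_left).trans inf_le_left)) hTsyl.1
      (le_inf inf_le_right hNQ) hT hTsyl.2
  refine ⟨hTQ, ?_, ?_, hsup, ?_⟩
  · rw [eq_bot_iff, ← hTQ]
    exact inf_le_inf_left _ inf_le_right
  · rw [Subgroup.commutator_eq_bot_iff_le_centralizer]
    exact fun t ht => Subgroup.mem_centralizer_iff.2 fun r hr => (hcomm r hr t ht).symm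
  rcases halt with ⟨f, hf⟩ | hidx
  · exact ⟨(MulEquiv.ofBijective f (hf.bijective_of_nat_card_le hRcard.le)).symm⟩
  · set T' := T.map (MulAut.conj g⁻¹).toMonoidHom with hT'
    have hT'Q : T' ≤ Q := by
      rintro _ ⟨t, ht, rfl⟩
      obtain ⟨q, hq, rfl⟩ := hTK ht
      simpa [mul_assoc] using hq
    have hT'card : Nat.card T' = Nat.card T := Subgroup.card_map_of_injective (MulAut.conj g⁻¹).injective
    have hT'idx : ¬ 2 ∣ T'.relIndex Q := by
      have h := PBasic.card_mul_relIndex hT'Q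
      rw [← PBasic.card_mul_relIndex (inf_le_right : R ≤ Q), hT'card, ← hRcard] at h
      rwa [Nat.eq_of_mul_eq_mul_left Nat.card_pos h]
    obtain ⟨w, -, hw⟩ := exists_conj_sylow hRp (hTsyl.1.map _) inf_le_right hT'Q hidx hT'idx
    exact ⟨((Subgroup.equivSMul (MulAut.conj w⁻¹) R).trans (MulEquiv.subgroupCongr hw)).trans
      (T.equivMapOfInjective _ (MulAut.conj g⁻¹).injective).symm⟩

end Cfsg.Agent.S1910
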