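import Cfsg.Statements.S1914
import Cfsg.Agent.Lib.CyclicFourCent.Assembly
import Cfsg.Agent.Lib.LocalEven.KleinGammaRank

set_option autoImplicit false
open Cfsg

namespace Cfsg.Agent.S1914

/-- Let A be a semisimple subgroup (a central product of quasisimple groups, A = E(A)) of a finite group and t an involution normalizing A such that the Sylow 2-subgroups of C_A(t) are cyclic of order 4. Then A has 2-rank exactly 1. -/
theorem result {G : Type*} [Group G] [Finite G] (A : Subgroup G) (hA : Cfsg.layer ↥A = ⊤)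
    (t : G) (ht : orderOf t = 2) (htA : t ∈ Subgroup.normalizer (A : Set G))
    (hC : ∀ R : Sylow 2 ↥(A ⊓ Subgroup.centralizer ({t} : Set G)), IsCyclic R ∧ Nat.card R = 4) :
    Cfsg.PRankLE 2 1 A ∧ ¬ Cfsg.PRankLE 2 0 A := by
  haveI : Fact (Nat.Prime 2) := ⟨Nat.prime_two⟩
  have hperf : ⁅A, A⁆ = A := by
    have h := Cfsg.Agent.Components.layer_commutator_eq (G := ↥A)
    rw [hA] at h
    have := congrArg (Subgroup.map A.subtype) h
    rwa [Subgroup.map_commutator, ← MonoidHom.range_eq_map, Subgroup.range_subtype] at this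
  have htt : t * t = 1 := by rw [← pow_two, ← ht, pow_orderOf_eq_one]
  have ht1 : t ≠ 1 := fun h => by rw [h, orderOf_one] at ht; norm_num at ht
  set C := A ⊓ Subgroup.centralizer ({t} : Set G) with hCdef
  have small : ∀ P : Subgroup G, P ≤ A → IsPGroup 2 P → (∀ x ∈ P, x * t = t * x) → Nat.card P ≤ 4 := by
    intro P hP hP2 hPc
    have hle : P ≤ C := fun x hx => ⟨hP hx, Subgroup.mem_centralizer_singleton_iff.2 (hPc x hx)⟩
    obtain ⟨R, hR⟩ := (hP2.comap_of_injective C.subtype C.subtype_injective).exists_le_sylow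
    rw [← Nat.card_congr (Subgroup.subgroupOfEquivOfLe hle).toEquiv, ← (hC R).2]
    exact Subgroup.card_le_of_le hR
  obtain ⟨R⟩ := (inferInstance : Nonempty (Sylow 2 C))
  obtain ⟨hcyc, h4⟩ := hC R
  haveI := hcyc
  obtain ⟨σ, hσ⟩ := IsCyclic.exists_ofOrder_eq_natCard (α := R)
  set s : G := ((σ : C) : G) with hs
  have hs4 : orderOf s = 4 := by rw [hs, Subgroup.orderOf_coe, Subgroup.orderOf_coe, hσ, h4]
  have hts : t * s = s * t := (Subgroup.mem_centralizer_singleton_iff.1 (σ : C).2.2).symm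
  refine ⟨fun E hEc hE => ?_, fun h => ?_⟩
  · rw [pow_one, ← Subgroup.card_map_of_injective A.subtype_injective]
    refine Cfsg.Agent.CyclicFourCent.card_elementary_le A hperf htt htA (σ : C).2.1 hts hs4 small ht1 _
      (Subgroup.map_subtype_le E) ?_
    rintro _ ⟨x, hx, rfl⟩
    rw [← map_mul, ← pow_two, hE x hx, map_one]
  · set z : A := ⟨s, (σ : C).2.1⟩ * ⟨s, (σ : C).2.1⟩ with hz
    have hz2 : orderOf z = 2 := by
      rw [hz, ← pow_two, orderOf_pow, ← Subgroup.orderOf_coe, hs4]; rfl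
    have := h (Subgroup.zpowers z) inferInstance (fun a ha => by
      obtain ⟨i, rfl⟩ := ha
      show (z ^ i) ^ 2 = 1
      rw [← zpow_natCast, ← zpow_mul, mul_comm, zpow_mul, zpow_natCast, ← hz2, pow_orderOf_eq_one, one_zpow])
    rw [Nat.card_zpowers, hz2] at this
    norm_num at this

end Cfsg.Agent.S1914
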