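import Cfsg.Statements.S1915
import Cfsg.Agent.Lib.LocalEven.KleinGammaRank

set_option autoImplicit false
open Cfsg

namespace Cfsg.Agent.S1915

/-- Let A be a semisimple subgroup (A = E(A)) of a finite group and U a Klein four-group normalizing A. If the subgroup of A generated by the normalizers N_A(V) of the nontrivial subgroups V of U has 2-rank exactly 1, then A has 2-rank exactly 1. -/
theorem result {G : Type*} [Group G] [Finite G] (A : Subgroup G) (hA : Cfsg.layer ↥A = ⊤)
    (U : Subgroup G) (hU : IsKleinFour U) (hUA : U ≤ Subgroup.normalizer (A : Set G))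
    (hΓ : Cfsg.PRankLE 2 1 ↥(⨆ V : {V : Subgroup G // V ≤ U ∧ V ≠ ⊥}, A ⊓ Subgroup.normalizer ((V : Subgroup G) : Set G)) ∧
      ¬ Cfsg.PRankLE 2 0 ↥(⨆ V : {V : Subgroup G // V ≤ U ∧ V ≠ ⊥}, A ⊓ Subgroup.normalizer ((V : Subgroup G) : Set G))) :
    Cfsg.PRankLE 2 1 A ∧ ¬ Cfsg.PRankLE 2 0 A := by
  have hperf : ⁅A, A⁆ = A := by
    have h := Cfsg.Agent.Components.layer_commutator_eq (G := ↥A)
    rw [hA] at h
    have := congrArg (Subgroup.map A.subtype) h
    rwa [Subgroup.map_commutator, ← MonoidHom.range_eq_map, Subgroup.range_subtype] at this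
  set Γ := ⨆ V : {V : Subgroup G // V ≤ U ∧ V ≠ ⊥}, A ⊓ Subgroup.normalizer ((V : Subgroup G) : Set G) with hΓdef
  have hΓA : Γ ≤ A := iSup_le fun V => inf_le_left
  refine ⟨Cfsg.Agent.KleinGammaRank.main A hperf U hU hUA ?_, fun h => hΓ.2 ?_⟩
  · intro u hu hu1 z hz t ht hzz htt hzt huz hut hz1 ht1 htz
    have hle : A ⊓ Subgroup.normalizer ((Subgroup.zpowers u : Subgroup G) : Set G) ≤ Γ :=
      le_iSup (fun V : {V : Subgroup G // V ≤ U ∧ V ≠ ⊥} => A ⊓ Subgroup.normalizer ((V : Subgroup G) : Set G))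
        ⟨Subgroup.zpowers u, Subgroup.zpowers_le.2 hu, fun h => hu1 (Subgroup.zpowers_eq_bot.1 h)⟩
    have hmem : ∀ v ∈ A, u * v = v * u → v ∈ Γ := fun v hv h => hle ⟨hv, by
      refine Subgroup.centralizer_le_normalizer _ (Subgroup.mem_centralizer_iff.2 fun y hy => ?_)
      obtain ⟨i, rfl⟩ := hy
      exact ((show Commute v u from h.symm).zpow_right i).eq.symm⟩
    have hk := Cfsg.Agent.TwoFus.isKleinFour_of_pair hzz htt hzt.symm hz1 (fun h => by
      obtain ⟨i, hi⟩ := h
      rcases Int.even_or_odd' i with ⟨j, rfl | rfl⟩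
      · exact ht1 (by simp only at hi; rw [← hi, zpow_mul, zpow_two, hzz, one_zpow])
      · exact htz (by simp only at hi; rw [← hi, zpow_add, zpow_mul, zpow_two, hzz, one_zpow, one_mul, zpow_one]))
    set V := Subgroup.closure ({z, t} : Set G)
    have hVΓ : V ≤ Γ := (Subgroup.closure_le Γ).2 (by
      rintro v (rfl | rfl)
      exacts [hmem _ hz huz, hmem _ ht hut])
    haveI := hk
    have hsq : ∀ v ∈ V, v * v = 1 := by
      intro v hv
      have h := Monoid.pow_exponent_eq_one (⟨v, hv⟩ : V)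
      rw [hk.exponent_two, pow_two] at h
      exact congrArg Subtype.val h
    have hb := hΓ.1 (V.subgroupOf Γ) ⟨⟨fun a b => Subtype.ext (Subtype.ext (by
      have ha := hsq _ a.2
      have hb := hsq _ b.2
      have hab := hsq _ (a * b).2
      simp only [Subgroup.coe_mul, Subgroup.coe_subtype] at ha hb hab ⊢
      calc ((a : Γ) : G) * ((b : Γ) : G)
          = (((a : Γ) : G) * ((b : Γ) : G))⁻¹ := (inv_eq_of_mul_eq_one_right hab).symm
        _ = ((b : Γ) : G) * ((a : Γ) : G) := by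
          rw [mul_inv_rev, inv_eq_of_mul_eq_one_right ha, inv_eq_of_mul_eq_one_right hb]))⟩⟩
      (fun a ha => Subtype.ext (by rw [pow_two]; exact hsq _ ha))
    rw [Nat.card_congr (Subgroup.subgroupOfEquivOfLe hVΓ).toEquiv, hk.card_four] at hb
    norm_num at hb
  · intro B hB hB2
    haveI := hB
    refine le_of_eq_of_le ?_ (h (B.map (Subgroup.inclusion hΓA)) inferInstance ?_)
    · exact Nat.card_congr (Subgroup.equivMapOfInjective _ _ (Subgroup.inclusion_injective hΓA)).toEquiv
    · rintro _ ⟨b, hb, rfl⟩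
      rw [← map_pow, hB2 b hb, map_one]

end Cfsg.Agent.S1915

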