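import Cfsg.Statements.S1921
import Cfsg.Agent.Lib.Components.Basic

set_option autoImplicit false
set_option linter.style.haveILetI false
set_option linter.unusedVariables false
open Cfsg

namespace Cfsg.Agent.S1921

open Cfsg.Agent

/-- Let a be an involution of a finite group H and L a component of H with a L a⁻¹ ≠ L; put M = ⟨L, aLa⁻¹⟩ and let J be the subgroup generated by the elements x · a x a⁻¹ with x ∈ L (the diagonal). Then every element of M outside J·Z(M) generates M together with J. -/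
theorem result {H : Type*} [Group H] [Finite H] (a : H) (ha : orderOf a = 2) (L : Subgroup H) (hL : Cfsg.IsComponent L)
    (hLa : L.map (MulAut.conj a).toMonoidHom ≠ L) (x : H) (hxM : x ∈ L ⊔ L.map (MulAut.conj a).toMonoidHom)
    (hxJ : x ∉ Subgroup.closure {y : H | ∃ l ∈ L, y = l * (a * l * a⁻¹)} ⊔
      ((L ⊔ L.map (MulAut.conj a).toMonoidHom) ⊓ Subgroup.centralizer ((L ⊔ L.map (MulAut.conj a).toMonoidHom : Subgroup H) : Set H))) :
    Subgroup.closure {y : H | ∃ l ∈ L, y = l * (a * l * a⁻¹)} ⊔ Subgroup.zpowers x = L ⊔ L.map (MulAut.conj a).toMonoidHom := by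
  have ha2 : a * a = 1 := by rw [← sq, ← ha, pow_orderOf_eq_one]
  set L' := L.map (MulAut.conj a).toMonoidHom with hL'
  set M := L ⊔ L' with hM
  set J := Subgroup.closure {y : H | ∃ l ∈ L, y = l * (a * l * a⁻¹)} with hJ
  have hcomp' : Cfsg.IsComponent L' := Components.component_conj hL a
  have hcomm : ⁅L, L'⁆ = ⊥ := Components.components_commute hL hcomp' fun h => hLa h.symm
  have hc : ∀ u ∈ L, ∀ v ∈ L', u * v = v * u := fun u hu v hv => by
    have h := Subgroup.commutator_mem_commutator hu hv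
    rw [hcomm, Subgroup.mem_bot, commutatorElement_eq_one_iff_mul_comm] at h
    exact h
  have hmem' : ∀ l ∈ L, a * l * a⁻¹ ∈ L' := fun l hl => ⟨l, hl, by simp⟩
  have hJmem : ∀ l ∈ L, l * (a * l * a⁻¹) ∈ J := fun l hl => Subgroup.subset_closure ⟨l, hl, rfl⟩
  have hJM : J ≤ M := (Subgroup.closure_le _).2 fun y ⟨l, hl, hy⟩ => hy ▸
    mul_mem (Subgroup.mem_sup_left hl) (Subgroup.mem_sup_right (hmem' l hl))
  set U := J ⊔ Subgroup.zpowers x with hU
  refine le_antisymm (sup_le hJM (Subgroup.zpowers_le.2 hxM)) ?_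
  -- decompose `x`
  have hLn : L' ≤ Subgroup.normalizer (L : Set H) := fun v hv => Subgroup.mem_normalizer_iff.2 fun u => by
    have key : ∀ v ∈ L', ∀ u ∈ L, v * u * v⁻¹ = u := fun v hv u hu => by rw [← hc u hu v hv, mul_inv_cancel_right]
    constructor
    · intro hu; rw [key v hv u hu]; exact hu
    · intro hu
      have := key v⁻¹ (inv_mem hv) _ hu
      rw [show v⁻¹ * (v * u * v⁻¹) * v⁻¹⁻¹ = u by group] at this
      exact this ▸ hu
  have hdec : ∀ m ∈ M, ∃ l ∈ L, ∃ l2 ∈ L, m = l * (l2 * (a * l2 * a⁻¹)) := by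
    intro m hm
    have hm' : m ∈ ((L ⊔ L' : Subgroup H) : Set H) := hm
    rw [Subgroup.coe_mul_of_right_le_normalizer_left _ _ hLn] at hm'
    obtain ⟨l1, hl1, _, ⟨l2, hl2, rfl⟩, rfl⟩ := Set.mem_mul.1 hm'
    exact ⟨l1 * l2⁻¹, mul_mem hl1 (inv_mem hl2), l2, hl2, by simp [mul_assoc]⟩
  obtain ⟨l, hl, l2, hl2, hx⟩ := hdec x hxM
  have hlU : l ∈ U := by
    have := mul_mem (show x ∈ U from Subgroup.mem_sup_right (Subgroup.mem_zpowers x))
      (inv_mem (show l2 * (a * l2 * a⁻¹) ∈ U from Subgroup.mem_sup_left (hJmem l2 hl2)))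
    rwa [hx, mul_inv_cancel_right] at this
  have hlZ : ∃ u ∈ L, l * u ≠ u * l := by
    by_contra hcon
    push Not at hcon
    refine hxJ ?_
    rw [hx]
    refine mul_mem (Subgroup.mem_sup_right (Subgroup.mem_inf.2 ⟨Subgroup.mem_sup_left hl, ?_⟩))
      (Subgroup.mem_sup_left (hJmem l2 hl2))
    have : M ≤ Subgroup.centralizer ({l} : Set H) := sup_le
      (fun u hu => Subgroup.mem_centralizer_singleton_iff.2 (hcon u hu).symm)
      (fun v hv => Subgroup.mem_centralizer_singleton_iff.2 (hc l hl v hv).symm)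
    exact Subgroup.mem_centralizer_iff.2 fun m hm => Subgroup.mem_centralizer_singleton_iff.1 (this hm)
  -- `U ∩ L` is normal in `L`
  haveI : (U.subgroupOf L).Normal := ⟨fun u hu m => by
    rw [Subgroup.mem_subgroupOf] at hu ⊢
    have hd := show (m : H) * (a * m * a⁻¹) ∈ U from Subgroup.mem_sup_left (hJmem _ m.2)
    have := mul_mem (mul_mem hd hu) (inv_mem hd)
    have e : (m : H) * (a * m * a⁻¹) * u * ((m : H) * (a * m * a⁻¹))⁻¹ = m * u * (m : H)⁻¹ := by
      calc _ = (m : H) * ((a * m * a⁻¹) * u) * (a * m * a⁻¹)⁻¹ * (m : H)⁻¹ := by group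
        _ = (m : H) * ((u : H) * (a * m * a⁻¹)) * (a * m * a⁻¹)⁻¹ * (m : H)⁻¹ := by
          rw [← hc _ u.2 _ (hmem' _ m.2)]
        _ = _ := by group
    rw [e] at this
    exact_mod_cast this⟩
  have hLU : L ≤ U := by
    rcases Components.quasisimple_normal hL.2 (U.subgroupOf L) with h | h
    · exact Subgroup.subgroupOf_eq_top.1 h
    · obtain ⟨u, hu, hne⟩ := hlZ
      exact absurd (congrArg Subtype.val (Subgroup.mem_center_iff.1 (h (show (⟨l, hl⟩ : L) ∈ U.subgroupOf L from hlU)) ⟨u, hu⟩)).symm hne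
  refine sup_le hLU ?_
  rintro _ ⟨m, hm, rfl⟩
  have := mul_mem (inv_mem (hLU hm)) (show m * (a * m * a⁻¹) ∈ U from Subgroup.mem_sup_left (hJmem m hm))
  rwa [inv_mul_cancel_left] at this

end Cfsg.Agent.S1921
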