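import Cfsg.Statements.S1922
import Cfsg.Prelude.Def_Local
import Mathlib.GroupTheory.Sylow
import Mathlib.GroupTheory.PGroup
import Mathlib.GroupTheory.GroupAction.ConjAct

set_option autoImplicit false
set_option linter.style.haveILetI false
set_option linter.unusedVariables false
open Cfsg

namespace Cfsg.Agent.S1922

open Subgroup

variable {G : Type*} [Group G] [Finite G]

/-- Commuting elements: parity of a finite set stable under an involution. -/
theorem parity_fixed {α : Type*} [Finite α] (f : α → α) (hf : ∀ x, f (f x) = x) :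
    Nat.card α % 2 = Nat.card {x : α // f x = x} % 2 := by
  classical
  haveI := Fintype.ofFinite α
  let σ : Equiv.Perm α := ⟨f, f, hf, hf⟩
  have hσ : σ ^ 2 = 1 := Equiv.ext fun x => by simp [σ, sq, hf x]
  have h1 := (σ.sum_cycleType : _)
  have h2 : ∀ r ∈ σ.cycleType, r = 2 := fun r hr => by
    have h3 := Equiv.Perm.dvd_of_mem_cycleType hr
    have h4 := Equiv.Perm.two_le_of_mem_cycleType hr
    have h5 : orderOf σ ∣ 2 := orderOf_dvd_of_pow_eq_one hσ
    exact le_antisymm (Nat.le_of_dvd two_pos (h3.trans h5)) h4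
  have hsupp : 2 ∣ σ.support.card := by
    rw [← h1]
    exact Multiset.dvd_sum fun r hr => by rw [h2 r hr]
  have hsplit : Nat.card {x : α // f x = x} + σ.support.card = Nat.card α := by
    rw [Nat.card_eq_fintype_card, Nat.card_eq_fintype_card, Fintype.card_subtype]
    have h := Finset.card_filter_add_card_filter_not (s := (Finset.univ : Finset α)) (fun x => f x = x)
    rw [Finset.card_univ] at h
    have e : σ.support = Finset.univ.filter (fun x => ¬ f x = x) := by
      ext x; simp [σ]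
    rw [e]
    exact h
  omega

theorem two_central {z : G} (hz : orderOf z = 2) {H : Subgroup G} (hH : H ≠ ⊤)
    (h0 : ∀ g : G, g⁻¹ * z * g ∈ H ↔ g ∈ H)
    (h1 : ∀ t : G, IsConj z t → t ≠ z → t * z = z * t → ∀ g : G, g⁻¹ * (z * t) * g ∈ H ↔ g ∈ H) :
    ¬ 2 ∣ (centralizer ({z} : Set G)).index := by
  classical
  have hz2 : z * z = 1 := by rw [← sq, ← hz, pow_orderOf_eq_one]
  have hzi : z⁻¹ = z := inv_eq_of_mul_eq_one_right hz2
  have hzH : z ∈ H := by simpa using (h0 1).2 (one_mem _)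
  have hinv : ∀ e : G, IsConj z e → e * e = 1 := by
    intro e he
    obtain ⟨c, rfl⟩ := isConj_iff.1 he
    rw [show c * z * c⁻¹ * (c * z * c⁻¹) = c * (z * z) * c⁻¹ by group, hz2]; group
  have hmemH : ∀ k : G, k * z * k⁻¹ ∈ H ↔ k ∈ H := fun k => by
    have := h0 k⁻¹
    rwa [inv_inv, inv_mem_iff] at this
  have hinvH : ∀ e : G, IsConj z e → e * z * e ∈ H → e ∈ H := fun e he hh => by
    have : e⁻¹ = e := inv_eq_of_mul_eq_one_right (hinv e he)
    refine (hmemH e).1 ?_
    rwa [this]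
  -- conjugates outside `H` have odd product with `z`
  have hodd : ∀ s : G, IsConj z s → s ∉ H → ∃ j : ℕ, orderOf (z * s) = 2 * j + 1 := by
    intro s hs hsH
    have hsne : s ≠ z := fun h => hsH (h ▸ hzH)
    have hs2 := hinv s hs
    have hsi : s⁻¹ = s := inv_eq_of_mul_eq_one_right hs2
    set d := z * s with hd
    rcases Nat.even_or_odd (orderOf d) with ⟨m, hm⟩ | ⟨m, hm⟩
    swap
    · exact ⟨m, hm⟩
    exfalso
    have hm0 : 0 < m := by have := orderOf_pos d; omega
    set w := d ^ m with hw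
    have hw1 : w ≠ 1 := pow_ne_one_of_lt_orderOf hm0.ne' (by omega)
    have hww : w * w = 1 := by rw [hw, ← pow_add, ← hm, pow_orderOf_eq_one]
    have hzd : ∀ i : ℕ, z * d ^ i * z⁻¹ = (d ^ i)⁻¹ := by
      intro i
      rw [← inv_pow, show d⁻¹ = z * d * z⁻¹ by rw [hd, mul_inv_rev, hsi, hzi, ← mul_assoc z z, hz2, one_mul], conj_pow]
    have hwz : z * w = w * z := by
      have := hzd m
      rw [← hw, inv_eq_of_mul_eq_one_right hww] at this
      exact mul_inv_eq_iff_eq_mul.1 this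
    have hws : s * w = w * s := by
      have hdw : d * w = w * d := (Commute.self_pow d m).eq
      calc s * w = z * (d * w) := by rw [hd, ← mul_assoc, ← mul_assoc, hz2, one_mul]
        _ = (z * w) * d := by rw [hdw, mul_assoc]
        _ = w * (z * d) := by rw [hwz, mul_assoc]
        _ = w * s := by rw [hd, ← mul_assoc z z, hz2, one_mul]
    -- `t = z w` is conjugate to `z`
    have ht : IsConj z (z * w) := by
      rcases Nat.even_or_odd m with ⟨i, hi⟩ | ⟨i, hi⟩
      · refine isConj_iff.2 ⟨(d ^ i)⁻¹, ?_⟩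
        rw [inv_inv]
        have h2 : (d ^ i)⁻¹ * z = z * d ^ i := by rw [← hzd i, mul_assoc _ z⁻¹, inv_mul_cancel, mul_one]
        rw [h2, mul_assoc, ← pow_add, ← hi]
      · refine hs.trans (isConj_iff.2 ⟨(d ^ i)⁻¹, ?_⟩)
        rw [inv_inv]
        have h2 : (d ^ i)⁻¹ * z = z * d ^ i := by rw [← hzd i, mul_assoc _ z⁻¹, inv_mul_cancel, mul_one]
        have h3 : s = z * d := by rw [hd, ← mul_assoc, hz2, one_mul]
        rw [h3, ← mul_assoc, h2, mul_assoc, mul_assoc, ← pow_succ', ← pow_add, hw, hi]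
        congr 2
        omega
    refine hsH ((h1 (z * w) ht (fun h => hw1 (by simpa using h)) (by
      rw [mul_assoc, ← hwz]) s).1 ?_)
    rw [← mul_assoc z z, hz2, one_mul, hsi, hws, mul_assoc, hs2, mul_one]
    have hwC : w ∈ H := (h0 w).1 (by
      rw [mul_assoc, hwz, ← mul_assoc, inv_mul_cancel, one_mul]; exact hzH)
    exact hwC
  -- the square root map
  let Y := {e : G // IsConj z e ∧ e ∉ H}
  let Φ : Y → Y := fun e => ⟨(e : G) * z * e, by
    refine isConj_iff.2 ⟨(e : G), ?_⟩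
    rw [inv_eq_of_mul_eq_one_right (hinv _ e.2.1)], fun h => e.2.2 (hinvH _ e.2.1 h)⟩
  have hΦs : Function.Surjective Φ := by
    rintro ⟨s, hs, hsH⟩
    obtain ⟨j, hj⟩ := hodd s hs hsH
    set d := z * s with hd
    have hs2 := hinv s hs
    have hsi : s⁻¹ = s := inv_eq_of_mul_eq_one_right hs2
    have hzd : ∀ i : ℕ, z * d ^ i = (d ^ i)⁻¹ * z := by
      intro i
      have : z * d ^ i * z⁻¹ = (d ^ i)⁻¹ := by
        rw [← inv_pow, show d⁻¹ = z * d * z⁻¹ by rw [hd, mul_inv_rev, hsi, hzi, ← mul_assoc z z, hz2, one_mul], conj_pow]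
      rw [← this, inv_mul_cancel_right]
    have hd1 : d ^ (2 * j + 1) = 1 := by rw [← hj, pow_orderOf_eq_one]
    set e := d ^ j * z with he
    have heconj : IsConj z e := by
      refine isConj_iff.2 ⟨d ^ (j * (j + 1)), ?_⟩
      have hflip : ∀ i : ℕ, z * (d ^ i)⁻¹ = d ^ i * z := fun i => by
        rw [mul_inv_eq_iff_eq_mul, mul_assoc, hzd, mul_inv_cancel_left]
      rw [mul_assoc, hflip, ← mul_assoc, ← pow_add, he]
      congr 1
      rw [show j * (j + 1) + j * (j + 1) = j + j * (2 * j + 1) by ring, pow_add, mul_comm j, pow_mul, hd1,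
        one_pow, mul_one]
    have hval : e * z * e = s := by
      have h1' : d ^ j * d ^ j * d = 1 := by rw [← pow_add, ← pow_succ, ← two_mul, hd1]
      calc e * z * e = d ^ j * (z * z) * (d ^ j * z) := by rw [he]; group
        _ = d ^ j * d ^ j * z := by rw [hz2, mul_one, mul_assoc]
        _ = (d ^ j * d ^ j * d) * d⁻¹ * z := by group
        _ = s := by rw [h1', one_mul, hd, mul_inv_rev, hsi, hzi, mul_assoc, hz2, mul_one]
    have heH : e ∉ H := fun h => hsH (hval ▸ mul_mem (mul_mem h hzH) h)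
    exact ⟨⟨e, heconj, heH⟩, Subtype.ext hval⟩
  have hΦi : Function.Injective Φ := Finite.injective_iff_surjective.2 hΦs
  -- a base point
  obtain ⟨g₀, hg₀⟩ : ∃ g₀ : G, g₀ ∉ H := by
    by_contra h; push Not at h; exact hH ((Subgroup.eq_top_iff' H).2 h)
  set e₀ := g₀ * z * g₀⁻¹ with he₀
  have he₀c : IsConj z e₀ := isConj_iff.2 ⟨g₀, rfl⟩
  have he₀H : e₀ ∉ H := fun h => hg₀ ((hmemH g₀).1 h)
  have he₀2 := hinv e₀ he₀c
  let E := {e : G // IsConj z e ∧ e ∉ H ∧ e₀ * e ∈ H}
  let X := {r : G // IsConj z r ∧ r ∈ H}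
  -- `E` matches `X`
  have hEX : Nat.card E = Nat.card X := by
    have hto : ∀ e : E, IsConj z (e₀ * ((e : G) * z * e) * e₀) ∧ e₀ * ((e : G) * z * e) * e₀ ∈ H := by
      intro e
      have hei : (e : G)⁻¹ = e := inv_eq_of_mul_eq_one_right (hinv _ e.2.1)
      have he₀i : e₀⁻¹ = e₀ := inv_eq_of_mul_eq_one_right he₀2
      have e1 : e₀ * ((e : G) * z * e) * e₀ = (e₀ * e) * z * (e₀ * e)⁻¹ := by
        rw [mul_inv_rev, hei, he₀i]; group
      rw [e1]
      exact ⟨isConj_iff.2 ⟨_, rfl⟩, (hmemH _).2 e.2.2.2⟩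
    refine Nat.card_eq_of_bijective (fun e : E => (⟨_, hto e⟩ : X)) ⟨fun a b h => ?_, fun r => ?_⟩
    · have h' : (a : G) * z * a = (b : G) * z * b := by simpa using congrArg Subtype.val h
      exact Subtype.ext (congrArg (fun y : Y => (y : G))
        (@hΦi ⟨a, a.2.1, a.2.2.1⟩ ⟨b, b.2.1, b.2.2.1⟩ (Subtype.ext h')))
    · obtain ⟨c, hc⟩ := isConj_iff.1 r.2.1
      have he₀i : e₀⁻¹ = e₀ := inv_eq_of_mul_eq_one_right he₀2
      have hcH : c ∈ H := (hmemH c).1 (hc ▸ r.2.2)
      have hsH : e₀ * r * e₀ ∉ H := fun h => he₀H (by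
        have h' : (e₀ * c) * z * (e₀ * c)⁻¹ ∈ H := by
          rw [mul_inv_rev, he₀i]; convert h using 1; rw [← hc]; group
        have := mul_mem ((hmemH _).1 h') (inv_mem hcH)
        rwa [mul_inv_cancel_right] at this)
      have hsc : IsConj z (e₀ * r * e₀) :=
        r.2.1.trans (isConj_iff.2 ⟨e₀, by rw [he₀i]⟩)
      obtain ⟨⟨e, he, heH⟩, hee⟩ := hΦs ⟨_, hsc, hsH⟩
      have hee' : e * z * e = e₀ * r * e₀ := congrArg Subtype.val hee
      have hein : e₀ * e ∈ H := by
        refine (hmemH _).1 ?_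
        rw [mul_inv_rev, inv_eq_of_mul_eq_one_right (hinv e he), he₀i,
          show e₀ * e * z * (e * e₀) = e₀ * (e * z * e) * e₀ by group, hee',
          show e₀ * (e₀ * r * e₀) * e₀ = (e₀ * e₀) * r * (e₀ * e₀) by group, he₀2, one_mul, mul_one]
        exact r.2.2
      refine ⟨⟨e, he, heH, hein⟩, Subtype.ext ?_⟩
      show e₀ * (e * z * e) * e₀ = r
      rw [hee', show e₀ * (e₀ * r * e₀) * e₀ = (e₀ * e₀) * r * (e₀ * e₀) by group, he₀2, one_mul, mul_one]
  -- `E` is odd
  have hEodd : Nat.card E % 2 = 1 := by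
    have hE : ∀ e : E, IsConj z (e₀ * e * e₀) ∧ e₀ * (e : G) * e₀ ∉ H ∧ e₀ * (e₀ * e * e₀) ∈ H := by
      intro e
      have he₀i : e₀⁻¹ = e₀ := inv_eq_of_mul_eq_one_right he₀2
      have hei : (e : G)⁻¹ = e := inv_eq_of_mul_eq_one_right (hinv _ e.2.1)
      refine ⟨e.2.1.trans (isConj_iff.2 ⟨e₀, by rw [he₀i]⟩), fun h => he₀H ?_, ?_⟩
      · have := mul_mem (inv_mem e.2.2.2) h
        rwa [mul_inv_rev, hei, he₀i, show (e : G) * e₀ * (e₀ * e * e₀) = e * (e₀ * e₀) * e * e₀ by group,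
          he₀2, mul_one, hinv _ e.2.1, one_mul] at this
      · rw [show e₀ * (e₀ * e * e₀) = (e₀ * e₀) * ((e : G) * e₀) by group, he₀2, one_mul]
        simpa [hei, he₀i] using inv_mem e.2.2.2
    rw [parity_fixed (fun e : E => (⟨_, hE e⟩ : E)) fun e => Subtype.ext (by
      show e₀ * (e₀ * (e : G) * e₀) * e₀ = e
      rw [show e₀ * (e₀ * (e : G) * e₀) * e₀ = (e₀ * e₀) * e * (e₀ * e₀) by group, he₀2, one_mul, mul_one])]
    rw [Nat.card_eq_one_iff_exists.2 ⟨⟨⟨e₀, he₀c, he₀H, by rw [he₀2]; exact one_mem _⟩,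
      Subtype.ext (by show e₀ * e₀ * e₀ = e₀; rw [he₀2, one_mul])⟩, ?_⟩]
    rintro ⟨⟨e, hec, heH, hein⟩, hfix⟩
    refine Subtype.ext (Subtype.ext ?_)
    show e = e₀
    by_contra hne
    have hcomm : e₀ * e = e * e₀ := by
      have h' : e₀ * e * e₀ = e := congrArg Subtype.val hfix
      calc e₀ * e = e₀ * e * (e₀ * e₀) := by rw [he₀2, mul_one]
        _ = e * e₀ := by rw [← mul_assoc, h']
    set t := g₀⁻¹ * e * g₀ with ht
    have htc : IsConj z t := hec.trans (isConj_iff.2 ⟨g₀⁻¹, by rw [inv_inv]⟩)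
    have htne : t ≠ z := fun h => hne (by
      rw [he₀, ← h, ht]; group)
    have htz : t * z = z * t := by
      have := congrArg (fun u => g₀⁻¹ * u * g₀) hcomm
      simp only [he₀] at this
      rw [ht]
      calc g₀⁻¹ * e * g₀ * z = g₀⁻¹ * (e * (g₀ * z * g₀⁻¹)) * g₀ := by group
        _ = g₀⁻¹ * (g₀ * z * g₀⁻¹ * e) * g₀ := this.symm
        _ = z * (g₀⁻¹ * e * g₀) := by group
    refine hg₀ (inv_mem_iff.1 ((h1 t htc htne htz g₀⁻¹).1 ?_))
    rw [inv_inv, show g₀ * (z * t) * g₀⁻¹ = e₀ * e by rw [ht, he₀]; group]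
    exact hein
  -- the fixed points of `z` on its class
  have hclass : Nat.card {s : G // IsConj z s} % 2 = 1 := by
    have hf : ∀ s : {s : G // IsConj z s}, IsConj z (z * (s : G) * z) := fun s =>
      s.2.trans (isConj_iff.2 ⟨z, by rw [hzi]⟩)
    have hff : ∀ s : G, z * (z * s * z) * z = s :=
      fun s => by rw [show z * (z * s * z) * z = (z * z) * s * (z * z) by group, hz2, one_mul, mul_one]
    rw [parity_fixed (fun s => (⟨_, hf s⟩ : {s : G // IsConj z s})) fun s => Subtype.ext (hff s)]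
    have hg : ∀ s : X, IsConj z (z * (s : G) * z) ∧ z * (s : G) * z ∈ H := fun s =>
      ⟨hf ⟨s, s.2.1⟩, mul_mem (mul_mem hzH s.2.2) hzH⟩
    have hX := parity_fixed (fun s : X => (⟨_, hg s⟩ : X)) fun s => Subtype.ext (hff s)
    rw [← hEX, hEodd] at hX
    rw [hX]
    congr 1
    refine Nat.card_congr ⟨fun s => ⟨⟨s.1.1, s.1.2, ?_⟩, Subtype.ext (congrArg Subtype.val s.2 :)⟩,
      fun s => ⟨⟨s.1.1, s.1.2.1⟩, Subtype.ext (congrArg Subtype.val s.2 :)⟩, fun _ => rfl, fun _ => rfl⟩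
    obtain ⟨c, hc⟩ := isConj_iff.1 s.1.2
    have hfix : z * (s.1 : G) * z = s.1 := congrArg Subtype.val s.2
    have : (s.1 : G)⁻¹ * z * s.1 = z := by
      calc (s.1 : G)⁻¹ * z * s.1 = (s.1 : G)⁻¹ * (z * s.1 * z) * z := by rw [mul_assoc _ z, mul_assoc _ _ z, mul_assoc (z * _) z, hz2, mul_one]
        _ = z := by rw [hfix, inv_mul_cancel, one_mul]
    exact (h0 _).1 (this.symm ▸ hzH)
  intro hdvd
  have hcard : Nat.card {s : G // IsConj z s} = (centralizer ({z} : Set G)).index := by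
    show _ = (centralizer ({ConjAct.toConjAct z} : Set (ConjAct G))).index
    rw [← ConjAct.stabilizer_eq_centralizer, MulAction.index_stabilizer, ← Nat.card_coe_set_eq]
    refine Nat.card_congr (Equiv.subtypeEquivRight fun s => ?_)
    rw [isConj_comm, ← ConjAct.mem_orbit_conjAct]
  omega

/-- Let z be an involution of a finite group G and H a proper subgroup such that z lies in gHg⁻¹ exactly when g ∈ H. Then the following are equivalent: (1) for every conjugate t ≠ z of z commuting with z, the product zt lies in gHg⁻¹ exactly when g ∈ H; (2) z lies in the centre of some Sylow 2-subgroup of G, and for every conjugate t ≠ z of z commuting with z, the centralizer of zt is contained in H. -/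
theorem result {G : Type*} [Group G] [Finite G] (z : G) (hz : orderOf z = 2) (H : Subgroup G) (hH : H ≠ ⊤)
    (h0 : ∀ g : G, z ∈ H.map (MulAut.conj g).toMonoidHom ↔ g ∈ H) :
    (∀ t : G, IsConj z t → t ≠ z → t * z = z * t → ∀ g : G, z * t ∈ H.map (MulAut.conj g).toMonoidHom ↔ g ∈ H) ↔
      ((∃ P : Sylow 2 G, z ∈ (Subgroup.center ↥(P : Subgroup G)).map (P : Subgroup G).subtype) ∧
        ∀ t : G, IsConj z t → t ≠ z → t * z = z * t → Subgroup.centralizer ({z * t} : Set G) ≤ H) := by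
  have hrw : ∀ (u g : G), u ∈ H.map (MulAut.conj g).toMonoidHom ↔ g⁻¹ * u * g ∈ H := fun u g => by
    constructor
    · rintro ⟨h, hh, rfl⟩; simpa [mul_assoc] using hh
    · intro h; exact ⟨_, h, by simp [mul_assoc]⟩
  simp only [hrw] at h0 ⊢
  have hzH : z ∈ H := by simpa using (h0 1).2 (one_mem _)
  have hCz : Subgroup.centralizer ({z} : Set G) ≤ H := fun g hg => (h0 g).1 (by
    rw [mul_assoc, ← Subgroup.mem_centralizer_singleton_iff.1 hg, inv_mul_cancel_left]; exact hzH)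
  constructor
  · intro h1
    refine ⟨?_, fun t ht hne hc g hg => (h1 t ht hne hc g).1 ?_⟩
    · obtain ⟨Q⟩ : Nonempty (Sylow 2 ↥(Subgroup.centralizer ({z} : Set G))) := inferInstance
      have hind := two_central hz hH h0 h1
      set C := Subgroup.centralizer ({z} : Set G) with hC
      set P0 := (Q : Subgroup C).map C.subtype with hP0
      have hP0i : ¬ 2 ∣ P0.index := by
        rw [hP0, Subgroup.index_map_subtype]
        exact Nat.Prime.not_dvd_mul Nat.prime_two Q.not_dvd_index hind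
      have hzC : z ∈ C := Subgroup.mem_centralizer_singleton_iff.2 rfl
      have hzZ : ∀ q : C, q * ⟨z, hzC⟩ = ⟨z, hzC⟩ * q := fun q =>
        Subtype.ext (Subgroup.mem_centralizer_singleton_iff.1 q.2)
      have hzQ : (⟨z, hzC⟩ : C) ∈ (Q : Subgroup C) := by
        haveI : (Subgroup.zpowers (⟨z, hzC⟩ : C)).Normal := ⟨fun y hy q => by
          obtain ⟨i, rfl⟩ := hy
          show q * (⟨z, hzC⟩ : C) ^ i * q⁻¹ ∈ _
          rw [((show Commute q (⟨z, hzC⟩ : C) from hzZ q).zpow_right i).eq, mul_inv_cancel_right]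
          exact ⟨i, rfl⟩⟩
        refine IsPGroup.le_sylow_of_normal (IsPGroup.of_card (n := 1) ?_) Q (Subgroup.mem_zpowers _)
        rw [Nat.card_zpowers, ← Subgroup.orderOf_coe, pow_one]
        exact hz
      refine ⟨((Q.isPGroup'.map C.subtype : IsPGroup 2 P0)).toSylow hP0i, ?_⟩
      refine ⟨⟨z, ⟨_, hzQ, rfl⟩⟩, Subgroup.mem_center_iff.2 ?_, rfl⟩
      rintro ⟨_, q, hq, rfl⟩
      exact Subtype.ext (congrArg Subtype.val (hzZ q) :)
    · have hct : z * t ∈ H := mul_mem hzH (hCz (Subgroup.mem_centralizer_singleton_iff.2 hc))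
      rwa [mul_assoc, ← Subgroup.mem_centralizer_singleton_iff.1 hg, inv_mul_cancel_left]
  · rintro ⟨⟨P, hP⟩, h2⟩ t ht hne hc g
    obtain ⟨zP, hzP, hzPe⟩ := hP
    have hCt : Subgroup.centralizer ({z * t} : Set G) ≤ H := h2 t ht hne hc
    have hct : z * t ∈ H := mul_mem hzH (hCz (Subgroup.mem_centralizer_singleton_iff.2 hc))
    refine ⟨fun hu => ?_, fun hg => mul_mem (mul_mem (inv_mem hg) hct) hg⟩
    have hPC : (P : Subgroup G) ≤ Subgroup.centralizer ({z} : Set G) := fun q hq => by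
      rw [Subgroup.mem_centralizer_singleton_iff, ← hzPe]
      exact congrArg Subtype.val (Subgroup.mem_center_iff.1 hzP ⟨q, hq⟩)
    have hPH := hPC.trans hCz
    set u := g⁻¹ * (z * t) * g with hu'
    have hu2 : u ^ 2 = 1 := by
      have ht2 : t * t = 1 := by
        obtain ⟨c, rfl⟩ := isConj_iff.1 ht
        rw [show c * z * c⁻¹ * (c * z * c⁻¹) = c * (z * z) * c⁻¹ by group, ← sq z, ← hz, pow_orderOf_eq_one]; group
      rw [sq, hu', show g⁻¹ * (z * t) * g * (g⁻¹ * (z * t) * g) = g⁻¹ * (z * (t * z) * t) * g by group, hc,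
        show z * (z * t) * t = (z * z) * (t * t) by group, ht2, ← sq z, ← hz, pow_orderOf_eq_one]
      group
    obtain ⟨k, hk⟩ : ∃ k ∈ H, k * u * k⁻¹ ∈ (P : Subgroup G) := by
      have hzp : IsPGroup 2 (Subgroup.zpowers (⟨u, hu⟩ : H)) := by
        intro y
        obtain ⟨y, i, rfl⟩ := y
        refine ⟨1, Subtype.ext (Subtype.ext ?_)⟩
        show ((u ^ i : G)) ^ (2 ^ 1) = 1
        rw [pow_one, ← zpow_natCast, ← zpow_mul, mul_comm, zpow_mul, zpow_natCast, hu2, one_zpow]
      obtain ⟨R, hR⟩ := hzp.exists_le_sylow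
      obtain ⟨k, hk⟩ := MulAction.exists_smul_eq H R (P.subtype hPH)
      refine ⟨k, k.2, ?_⟩
      have h := Subgroup.smul_mem_pointwise_smul _ (MulAut.conj k) _ (hR (Subgroup.mem_zpowers (⟨u, hu⟩ : H)))
      rw [← Sylow.coe_subgroup_smul] at h
      change _ ∈ ((k • R : Sylow 2 H) : Subgroup H) at h
      rw [hk] at h
      exact h
    have hzin : (g * k⁻¹) * z * (g * k⁻¹)⁻¹ ∈ H := hCt (by
      rw [Subgroup.mem_centralizer_singleton_iff]
      have h := Subgroup.mem_centralizer_singleton_iff.1 (hPC hk.2)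
      have e : z * t = (g * k⁻¹) * (k * u * k⁻¹) * (g * k⁻¹)⁻¹ := by rw [hu']; group
      rw [e]
      generalize k * u * k⁻¹ = v at h
      calc g * k⁻¹ * z * (g * k⁻¹)⁻¹ * (g * k⁻¹ * v * (g * k⁻¹)⁻¹) = g * k⁻¹ * (z * v) * (g * k⁻¹)⁻¹ := by group
        _ = g * k⁻¹ * (v * z) * (g * k⁻¹)⁻¹ := by rw [h]
        _ = _ := by group)
    have h3 : (g * k⁻¹)⁻¹ ∈ H := (h0 _).1 (by rwa [inv_inv])
    have := mul_mem (inv_mem h3) hk.1
    rwa [inv_inv, inv_mul_cancel_right] at this

end Cfsg.Agent.S1922
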