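import Cfsg.Statements.S1930
import Cfsg.Agent.Lib.EquiQuad.Good
import Cfsg.Agent.Lib.Components.FStar

set_option autoImplicit false
open Cfsg

namespace Cfsg.Agent.S1930

/-- Inside a finite group let G be a nontrivial subgroup and R an r-subgroup (r a prime) normalizing G, with the order of G prime to r. Let p > 3 be a prime with F*(G) = O_p(G), and let P be the intersection of all R-invariant Sylow p-subgroups of G. Then P has a nontrivial characteristic subgroup that is normalized by G. -/
theorem result {X : Type*} [Group X] [Finite X] (G R : Subgroup X) (r : ℕ) [Fact r.Prime] (hR : IsPGroup r ↥R) (hcop : (Nat.card ↥G).Coprime r) (hnorm : R ≤ Subgroup.normalizer (G : Set X)) (hG : G ≠ ⊥) (p : ℕ) [Fact p.Prime] (hp : 3 < p) (hF : Cfsg.generalizedFittingSubgroup ↥G = Cfsg.pCore p ↥G) (P : Subgroup X) (hP : P = ⨅ S : {S : Sylow p ↥G // ∀ a ∈ R, ((S : Subgroup ↥G).map G.subtype).map (MulAut.conj a).toMonoidHom = (S : Subgroup ↥G).map G.subtype}, ((S : Sylow p ↥G) : Subgroup ↥G).map G.subtype) : ∃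 C : Subgroup ↥P, C.Characteristic ∧ C ≠ ⊥ ∧ G ≤ Subgroup.normalizer ((C.map P.subtype : Subgroup X) : Set X) := by
  classical
  open EquiQuad in
  haveI : Group.IsNilpotent R := hR.isNilpotent
  have hsolv : Group.IsSolvable R := inferInstance
  have hcopRG : (Nat.card R).Coprime (Nat.card G) := by
    obtain ⟨k, hk⟩ := IsPGroup.iff_card.1 hR
    rw [hk]
    exact (hcop.symm).pow_left k
  have hinv : ∀ T : Sylow p G, R ≤ Subgroup.normalizer (((T : Subgroup G).map G.subtype : Subgroup X) : Set X) ↔
      ∀ a ∈ R, ((T : Subgroup G).map G.subtype).map (MulAut.conj a).toMonoidHom =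
        (T : Subgroup G).map G.subtype := by
    intro T
    constructor
    · intro h a ha
      ext y
      rw [Subgroup.mem_map_equiv]
      have := Subgroup.mem_normalizer_iff.1 (h ha) ((MulAut.conj a).symm y)
      rw [this]
      simp [mul_assoc]
    · intro h a ha
      rw [Subgroup.mem_normalizer_iff]
      intro y
      conv_rhs => rw [← h a ha, Subgroup.mem_map_equiv]
      simp [mul_assoc]
  have hall : ∀ x ∈ P, InAllSyl p G R x := by
    intro x hx T hT
    rw [hP, Subgroup.mem_iInf] at hx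
    exact hx ⟨T, (hinv T).1 hT⟩
  obtain ⟨T0, hT0⟩ := CoprimeAct.exists_invariant_sylow hnorm hcopRG (Or.inl hsolv) p
  have hPG : P ≤ G := fun x hx => Subgroup.map_subtype_le _ (hall x hx T0 hT0)
  have hQP : core p G ≤ P := by
    rw [hP]
    refine le_iInf fun S => Subgroup.map_mono ?_
    haveI := FiniteGroup.pCore_normal (G := G) p
    have hs : IsPGroup p ↥((S.1 : Subgroup G) ⊔ Cfsg.pCore p G) :=
      S.1.2.to_sup_of_normal_right (FiniteGroup.pCore_isPGroup p)
    exact le_sup_right.trans (S.1.is_maximal' hs le_sup_left).le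
  have hF' : Subgroup.centralizer (Cfsg.pCore p G : Set G) ≤ Cfsg.pCore p G := by
    rw [← hF]; exact Components.centralizer_generalizedFitting_le
  have hp5 : 5 ≤ p := by
    rcases Nat.lt_or_ge p 5 with h | h
    · have h4 : p = 4 := by omega
      exact absurd (h4 ▸ (Fact.out : p.Prime)) (by norm_num)
    · exact h
  have hcent : ∀ k ∈ G, (orderOf k).Coprime p → (∀ q ∈ core p G, q * k = k * q) → ∀ x ∈ P, x * k = k * x := by
    intro k hk hko hkq x _
    have hkc := hF' (show (⟨k, hk⟩ : G) ∈ Subgroup.centralizer (Cfsg.pCore p G : Set G) from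
      Subgroup.mem_centralizer_iff.2 fun y hy => Subtype.ext (hkq y ⟨y, hy, rfl⟩))
    obtain ⟨e, he⟩ := FiniteGroup.pCore_isPGroup p ⟨_, hkc⟩
    have hk1 : k = 1 := coprime_pow_eq_one (congrArg Subtype.val (congrArg Subtype.val he))
      (pow_orderOf_eq_one k) (hko.symm.pow_left e)
    rw [hk1, mul_one, one_mul]
  obtain ⟨C, hCP, hfam, hn, hCtr⟩ := exists_universal (ι := Unit) P (fun _ => G) (fun _ => core p G)
    (fun _ => hQP) (fun _ g hg x hx => core_conj_self hg hx)
    (fun _ B hB hrel => absorb_core hp5 hnorm hcopRG hsolv hPG hall hQP hcent hB hrel)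
  refine ⟨C.subgroupOf P, ?_, ?_, ?_⟩
  · rw [Subgroup.characteristic_iff_map_le]
    intro φ
    rintro _ ⟨a, ha, rfl⟩
    exact hCtr φ (mem_tr.2 ⟨a, ha, rfl⟩)
  · have hPne : P ≠ ⊥ := by
      intro e
      refine hG ((Subgroup.eq_bot_iff_forall _).2 fun x hx => ?_)
      have e' : Cfsg.pCore p G = ⊥ := (Subgroup.eq_bot_iff_forall _).2 fun y hy => Subtype.ext
        (Subgroup.mem_bot.1 (show (y : X) ∈ (⊥ : Subgroup X) from e ▸ hQP ⟨y, hy, rfl⟩))
      have := hF' (show (⟨x, hx⟩ : G) ∈ Subgroup.centralizer (Cfsg.pCore p G : Set G) by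
        rw [e']
        exact Subgroup.mem_centralizer_iff.2 fun y hy => by rw [Subgroup.mem_bot.1 hy]; simp)
      rw [e', Subgroup.mem_bot] at this
      exact congrArg Subtype.val this
    haveI : Nontrivial P := (Subgroup.nontrivial_iff_ne_bot P).2 hPne
    have hPp : IsPGroup p P := (T0.2.map G.subtype).to_le fun x hx => hall x hx T0 hT0
    haveI := hPp.center_nontrivial
    obtain ⟨⟨z, hz⟩, hz1⟩ := exists_ne (1 : Subgroup.center P)
    intro e
    have hzC : (z : X) ∈ C := by
      refine hfam (P ⊓ Subgroup.centralizer (P : Set X)) (ab_mem_fam inf_le_left ?_ ?_) ⟨z.2, ?_⟩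
      · rw [Subgroup.commutator_eq_bot_iff_le_centralizer.2 inf_le_right]; exact bot_le
      · exact Subgroup.commutator_eq_bot_iff_le_centralizer.2
          (inf_le_right.trans (Subgroup.centralizer_le inf_le_left))
      · exact Subgroup.mem_centralizer_iff.2 fun y hy =>
          congrArg Subtype.val (Subgroup.mem_center_iff.1 hz ⟨y, hy⟩)
    have : z ∈ C.subgroupOf P := hzC
    rw [e, Subgroup.mem_bot] at this
    exact hz1 (Subtype.ext this)
  · rw [Subgroup.map_subgroupOf_eq_of_le hCP]
    exact fun g hg => Subgroup.mem_normalizer_fintype (hn () g hg)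

end Cfsg.Agent.S1930
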