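import Cfsg.Statements.S1931
import Cfsg.Agent.Lib.EquiQuad.GoodFStar

set_option autoImplicit false
open Cfsg

namespace Cfsg.Agent.S1931

/-- Inside a finite group let G be a subgroup and R a noncyclic abelian r-subgroup (r a prime) normalizing G, with the order of G prime to r, and let p > 3 be a prime. Suppose that for every nonidentity a ∈ R, R centralizes the subgroup O^p(F*(C_G(a))) generated by the p'-elements of the generalized Fitting subgroup of C_G(a). Then R centralizes O^p(F*(G)). -/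
theorem result {X : Type*} [Group X] [Finite X] (G R : Subgroup X) (r : ℕ) [Fact r.Prime] (hR : IsPGroup r ↥R) (hcop : (Nat.card ↥G).Coprime r) (hnorm : R ≤ Subgroup.normalizer (G : Set X)) (hab : IsMulCommutative ↥R) (hnc : ¬ IsCyclic ↥R) (p : ℕ) [Fact p.Prime] (hp : 3 < p) (hloc : ∀ a ∈ R, a ≠ 1 → R ≤ Subgroup.centralizer ((((Cfsg.pResidual p ↥(Cfsg.generalizedFittingSubgroup ↥(G ⊓ Subgroup.centralizer ({a} : Set X)))).map (Cfsg.generalizedFittingSubgroup ↥(G ⊓ Subgroup.centralizer ({a} : Set X))).subtype).map (G ⊓ Subgroup.centralizer ({a} : Set X)).subtype : Subgroup X) : Set X)) : R ≤ Subgroup.centralizer ((((Cfsg.pResidual p ↥(Cfsg.generalizedFittingSubgroup ↥G)).map (Cfsg.generalizedFittingSubgroup ↥G).subtype).map G.subtype : Subgroup X) : Set X) := by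
  classical
  open EquiQuad in
  have hcopRG : (Nat.card R).Coprime (Nat.card G) := by
    obtain ⟨k, hk⟩ := IsPGroup.iff_card.1 hR
    rw [hk]
    exact (hcop.symm).pow_left k
  have hp5 : 5 ≤ p := by
    rcases Nat.lt_or_ge p 5 with h | h
    · have h4 : p = 4 := by omega
      exact absurd (h4 ▸ (Fact.out : p.Prime)) (by norm_num)
    · exact h
  have hcomm : ∀ a ∈ R, ∀ b ∈ R, a * b = b * a := fun a ha b hb =>
    congrArg Subtype.val (hab.is_comm.comm (⟨a, ha⟩ : R) ⟨b, hb⟩)
  have hcn : ∀ a ∈ R,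
      R ≤ Subgroup.normalizer ((G ⊓ Subgroup.centralizer ({a} : Set X) : Subgroup X) : Set X) := by
    intro a ha s hs
    refine mem_normalizer_inf_centralizer' (hnorm hs) ?_
    exact hcomm s hs a ha
  have hyp : Hyp p G R := by
    refine ⟨hnorm, hcomm, hnc, hcopRG, fun a ha ha1 => ?_⟩
    refine good_of_fix (hcn a ha) (hcopRG.coprime_dvd_right (Subgroup.card_dvd_of_le inf_le_left))
      fun m hm hmo s hs => ?_
    refine Subgroup.mem_centralizer_iff.1 (hloc a ha ha1 hs) (m : X) ?_ |>.symm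
    exact ⟨m, ⟨⟨m, hm⟩, Subgroup.subset_closure (by
      show (orderOf (⟨m, hm⟩ : Cfsg.generalizedFittingSubgroup _)).Coprime p
      rwa [Subgroup.orderOf_mk]), rfl⟩, rfl⟩
  have hgood := good_of_centralizers hp5 hyp
  rw [Subgroup.le_centralizer_iff, Cfsg.pResidual, MonoidHom.map_closure, MonoidHom.map_closure,
    Subgroup.closure_le]
  rintro _ ⟨_, ⟨m, hm, rfl⟩, rfl⟩
  refine Subgroup.mem_centralizer_iff.2 fun s hs => ?_
  have hmo : (orderOf (m : G)).Coprime p := by rw [Subgroup.orderOf_coe]; exact hm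
  refine hgood _ (m : G).2 (by rw [Subgroup.orderOf_coe]; exact hmo) (fun q hq => ?_) s hs
  obtain ⟨q', hq', rfl⟩ := hq
  exact congrArg Subtype.val (Subgroup.mem_centralizer_iff.1 (fStar_cent m.2 hmo) q' hq')

end Cfsg.Agent.S1931
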