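import Cfsg.Statements.S1935
import Cfsg.Agent.Lib.FFEmbedded.Bridge
import Cfsg.Agent.Lib.QuadLimit.Main

set_option autoImplicit false
set_option linter.style.haveILetI false
open Cfsg
open scoped commutatorElement IsMulCommutative

namespace Cfsg.Agent.S1935

/-- Let p ≥ 5 be a prime and, inside an ambient finite group, let G be a p-subgroup acting faithfully by conjugation on an elementary abelian p-subgroup V that it normalizes (only the identity of G centralizes V). Suppose V is an F-module for G: some nontrivial elementary abelian subgroup E of G satisfies #E · #C_V(E) ≥ #V. Then G contains such an offender A that moreover acts quadratically on V ([V, A, A] = 1) and is normal in its normal closure in G. -/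
theorem result {Ω : Type*} [Group Ω] [Finite Ω] (p : ℕ) [Fact p.Prime] (hp : 5 ≤ p) (V G : Subgroup Ω) (hV : Cfsg.IsElementaryAbelian p V) (hG : IsPGroup p ↥G) (hGV : G ≤ Subgroup.normalizer (V : Set Ω)) (hfaith : G ⊓ Subgroup.centralizer (V : Set Ω) = ⊥) (hF : ∃ E : Subgroup Ω, E ≤ G ∧ E ≠ ⊥ ∧ Cfsg.IsElementaryAbelian p E ∧ Nat.card ↥V ≤ Nat.card ↥E * Nat.card ↥(V ⊓ Subgroup.centralizer (E : Set Ω))) : ∃ A : Subgroup Ω, A ≤ G ∧ A ≠ ⊥ ∧ Cfsg.IsElementaryAbelian p A ∧ Nat.card ↥V ≤ Nat.card ↥A * Nat.card ↥(V ⊓ Subgroup.centralizer (A : Set Ω)) ∧ ⁅⁅V, A⁆, A⁆ = ⊥ ∧ ∀ g ∈ Subgroup.closure {x : Ω | ∃ h ∈ G, ∃ a ∈ A, x = h * a * h⁻¹}, ∀ a ∈ A, g * a * g⁻¹ ∈ A := by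
  haveI := hV.1
  obtain ⟨E, hEG, hEne, hEel, hEcard⟩ := hF
  have hEc : ⁅E, E⁆ = ⊥ := by
    haveI := hEel.1
    rw [Subgroup.commutator_eq_bot_iff_le_centralizer]
    exact fun x hx => Subgroup.mem_centralizer_iff.2 fun y hy =>
      congrArg Subtype.val (mul_comm' (⟨y, hy⟩ : E) ⟨x, hx⟩)
  have hECV : E ⊓ Subgroup.centralizer (V : Set Ω) = ⊥ :=
    le_bot_iff.1 ((inf_le_inf_right _ hEG).trans hfaith.le)
  have hFF : Cfsg.IsFFModuleFor p V G :=
    ⟨hGV, E, hEG, hEG.trans hGV, hEc.le.trans bot_le, fun a ha => by rw [hEel.2 a ha]; exact one_mem _,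
      fun h => hEne (by rw [← hECV, inf_eq_left.2 h]), by
        rw [hECV, Subgroup.card_bot, mul_one]; exact hEcard⟩
  obtain ⟨B, hBG, -, hBne, hBcard, hBq⟩ := Cfsg.Agent.FFEmb.exists_quad_offender hV hGV hfaith hFF
  letI := Cfsg.Agent.FFEmb.conjAct (V := V) hGV
  have hsmul : ∀ (h : G) (v : Additive V),
      ((Additive.toMul (h • v) : V) : Ω) = (h : Ω) * ((Additive.toMul v : V) : Ω) * (h : Ω)⁻¹ := fun _ _ => rfl
  have hfix : ∀ (h : G) (v : Additive V),
      h • v = v ↔ (h : Ω) * ((Additive.toMul v : V) : Ω) = ((Additive.toMul v : V) : Ω) * (h : Ω) := by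
    intro h v
    rw [← Additive.toMul.injective.eq_iff, Subtype.ext_iff, hsmul, mul_inv_eq_iff_eq_mul]
  have hdisp : ∀ (h : G) (v : Additive V), ((Additive.toMul (h • v - v) : V) : Ω) =
      ⁅(h : Ω), ((Additive.toMul v : V) : Ω)⁆ := fun h v => by
    rw [toMul_sub, Subgroup.coe_div, hsmul, div_eq_mul_inv, commutatorElement_def]
  have hfx : ∀ (C : Subgroup G) (v : Additive V), v ∈ FFEmb.fx (Additive V) C ↔
      ((Additive.toMul v : V) : Ω) ∈ Subgroup.centralizer ((C.map G.subtype : Subgroup Ω) : Set Ω) := fun C v =>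
    ⟨fun h => Subgroup.mem_centralizer_iff.2 (by rintro _ ⟨c, hc, rfl⟩; exact (hfix c v).1 (h c hc)),
      fun h c hc => (hfix c v).2 (Subgroup.mem_centralizer_iff.1 h _ ⟨c, hc, rfl⟩)⟩
  have hfxcard : ∀ C : Subgroup G, Nat.card (FFEmb.fx (Additive V) C) =
      Nat.card ↥(V ⊓ Subgroup.centralizer ((C.map G.subtype : Subgroup Ω) : Set Ω)) := fun C =>
    Nat.card_congr
      { toFun := fun v => ⟨((Additive.toMul (v : Additive V) : V) : Ω), (Additive.toMul (v : Additive V)).2,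
          (hfx C _).1 v.2⟩
        invFun := fun v => ⟨Additive.ofMul ⟨(v : Ω), v.2.1⟩, (hfx C _).2 v.2.2⟩
        left_inv := fun _ => rfl
        right_inv := fun _ => rfl }
  have hmapc : ∀ C : Subgroup G, Nat.card (C.map G.subtype) = Nat.card C := fun C =>
    (Nat.card_congr (Subgroup.equivMapOfInjective C _ G.subtype_injective).toEquiv).symm
  have hf : ∀ g : G, (∀ v : Additive V, g • v = v) → g = 1 := fun g hg => by
    have : (g : Ω) ∈ G ⊓ Subgroup.centralizer (V : Set Ω) :=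
      ⟨g.2, fun v hv => ((hfix g (Additive.ofMul ⟨v, hv⟩)).1 (hg _)).symm⟩
    rw [hfaith, Subgroup.mem_bot] at this
    exact Subtype.ext this
  have hexp : ∀ v : Additive V, p • v = 0 := fun v => Additive.toMul.injective (Subtype.ext (by
    rw [toMul_nsmul, SubmonoidClass.coe_pow, toMul_zero]; exact hV.2 _ (Additive.toMul v).2))
  have hBmap : (B.subgroupOf G).map G.subtype = B := Subgroup.map_subgroupOf_eq_of_le hBG
  have h0 : QuadLimit.IsQOff (Additive V) (B.subgroupOf G) := by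
    refine ⟨fun h => hBne ?_, fun a ha v => (hfx _ _).2 ?_, ?_⟩
    · rw [← hBmap, h, Subgroup.map_bot]
    · rw [hdisp, hBmap]
      have hm : ⁅((Additive.toMul v : V) : Ω), (a : Ω)⁆ ∈ ⁅V, B⁆ :=
        Subgroup.commutator_mem_commutator (Additive.toMul v).2 ha
      have h := hBq (Subgroup.inv_mem _ hm)
      rwa [commutatorElement_inv] at h
    · rw [hfxcard, ← hmapc, hBmap, Nat.card_congr (Additive.toMul (α := V))]
      exact hBcard
  obtain ⟨A, ⟨hAne, hAq, hAb⟩, hAn⟩ := QuadLimit.exists_normal (W := Additive V) hG hp hexp hf ⟨_, h0⟩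
  refine ⟨A.map G.subtype, Subgroup.map_subtype_le A, fun h => hAne ?_, ⟨⟨⟨?_⟩⟩, ?_⟩, ?_, ?_, ?_⟩
  · rwa [Subgroup.map_eq_bot_iff_of_injective _ G.subtype_injective] at h
  · rintro ⟨_, a, ha, rfl⟩ ⟨_, b, hb, rfl⟩
    refine Subtype.ext ?_
    show (a : Ω) * b = b * a
    exact congrArg Subtype.val (QuadLimit.dis_injective (W := Additive V) hf
      (a₁ := a * b) (a₂ := b * a) (by rw [hAq.dis_mul ha hb, hAq.dis_mul hb ha, add_comm]))
  · rintro _ ⟨a, ha, rfl⟩
    have hpow : ∀ n : ℕ, QuadLimit.dis (Additive V) (a ^ n) = n • QuadLimit.dis (Additive V) a := by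
      intro n
      induction n with
      | zero => rw [pow_zero, QuadLimit.dis, map_one, sub_self, zero_smul]
      | succ n ih => rw [pow_succ, hAq.dis_mul (pow_mem ha n) ha, ih, succ_nsmul]
    have : a ^ p = 1 := QuadLimit.dis_injective (W := Additive V) hf (by
      rw [hpow, QuadLimit.dis, QuadLimit.dis, map_one, sub_self]
      exact DFunLike.ext _ _ fun w => hexp _)
    rw [← map_pow, this, map_one]
  · rw [← hfxcard, hmapc]
    exact le_of_eq_of_le (Nat.card_congr (Additive.toMul (α := V))).symm hAb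
  · rw [Subgroup.commutator_eq_bot_iff_le_centralizer, Subgroup.commutator_le]
    rintro v hv _ ⟨a, ha, rfl⟩
    have h := (hfx _ _).1 (hAq a ha (Additive.ofMul ⟨v, hv⟩))
    rw [hdisp] at h
    have h' := inv_mem h
    rwa [commutatorElement_inv] at h'
  · intro g hg x hx
    have hle : Subgroup.closure {x : Ω | ∃ h ∈ G, ∃ a ∈ A.map G.subtype, x = h * a * h⁻¹} ≤
        (Subgroup.normalizer (A : Set G)).map G.subtype := by
      rw [Subgroup.closure_le]
      rintro _ ⟨h, hh, _, ⟨a, ha, rfl⟩, rfl⟩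
      exact ⟨⟨h, hh⟩ * a * ⟨h, hh⟩⁻¹, hAn _ ⟨⟨h, hh⟩, a, ha, rfl⟩, rfl⟩
    obtain ⟨g', hg', rfl⟩ := hle hg
    obtain ⟨a, ha, rfl⟩ := hx
    exact ⟨g' * a * g'⁻¹, (Subgroup.mem_normalizer_iff.1 hg' a).1 ha, rfl⟩

end Cfsg.Agent.S1935
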