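import Mathlib
import Cfsg.Statements.S1939

set_option autoImplicit false
open Cfsg

namespace Cfsg.Agent.S1939

theorem result {G : Type*} [Group G] [Finite G] {p : ℕ} [Fact p.Prime] (S : Sylow p G) (a : G)
    (haS : a ∈ (S : Subgroup G)) (hwc : ∀ g : G, g * a * g⁻¹ ∈ (S : Subgroup G) → g * a * g⁻¹ = a) (n : ℕ) :
    ∀ g : G, g * a ^ n * g⁻¹ ∈ (S : Subgroup G) → g * a ^ n * g⁻¹ = a ^ n := by
  -- two conjugates of `a` in one Sylow subgroup are equal
  have huniq : ∀ (R : Sylow p G) (u v : G), u * a * u⁻¹ ∈ R → v * a * v⁻¹ ∈ R → u * a * u⁻¹ = v * a * v⁻¹ := by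
    intro R u v hu hv
    obtain ⟨c, hc⟩ := MulAction.exists_smul_eq G R S
    have key : ∀ w : G, w ∈ R → c * w * c⁻¹ ∈ (S : Subgroup G) := fun w hw => by
      rw [← hc, Sylow.smul_def, Sylow.pointwise_smul_def]
      exact Subgroup.smul_mem_pointwise_smul w (MulAut.conj c) _ hw
    have h1 := hwc (c * u) (by simpa [mul_assoc] using key _ hu)
    have h2 := hwc (c * v) (by simpa [mul_assoc] using key _ hv)
    have : c * (u * a * u⁻¹) * c⁻¹ = c * (v * a * v⁻¹) * c⁻¹ := by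
      calc _ = c * u * a * (c * u)⁻¹ := by group
        _ = a := h1
        _ = c * v * a * (c * v)⁻¹ := h2.symm
        _ = _ := by group
    simpa using this
  intro g hg
  -- a is central in S
  have hc : ∀ s ∈ (S : Subgroup G), s * a * s⁻¹ = a := fun s hs =>
    hwc s (mul_mem (mul_mem hs haS) (inv_mem hs))
  set b := g * a ^ n * g⁻¹ with hb
  let C : Subgroup G := Subgroup.centralizer {b}
  have haC : a ∈ C := by
    rw [Subgroup.mem_centralizer_singleton_iff]
    have := hc b hg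
    calc a * b = b * a * b⁻¹ * b := by rw [this]
      _ = b * a := by group
  have hgaC : g * a * g⁻¹ ∈ C := by
    rw [Subgroup.mem_centralizer_singleton_iff, hb]
    have : a * a ^ n = a ^ n * a := (pow_mul_comm' a n).symm
    calc g * a * g⁻¹ * (g * a ^ n * g⁻¹) = g * (a * a ^ n) * g⁻¹ := by group
      _ = g * (a ^ n * a) * g⁻¹ := by rw [this]
      _ = _ := by group
  obtain ⟨k, hk⟩ := IsPGroup.iff_orderOf.1 S.isPGroup' ⟨a, haS⟩
  rw [Subgroup.orderOf_mk] at hk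
  have ho : ∀ w : C, orderOf (w : G) = orderOf a → IsPGroup p (Subgroup.zpowers w) := fun w hw =>
    IsPGroup.of_card (n := k) (by rw [Nat.card_zpowers, ← Subgroup.orderOf_coe, hw, hk])
  obtain ⟨R₁, h₁⟩ := (ho ⟨a, haC⟩ rfl).exists_le_sylow
  obtain ⟨R₂, h₂⟩ := (ho ⟨g * a * g⁻¹, hgaC⟩ (MulEquiv.orderOf_eq (MulAut.conj g) a)).exists_le_sylow
  obtain ⟨d, hd⟩ := MulAction.exists_smul_eq C R₂ R₁
  have h3 : MulAut.conj d ⟨g * a * g⁻¹, hgaC⟩ ∈ (R₁ : Subgroup C) := by
    rw [← hd, Sylow.smul_def, Sylow.pointwise_smul_def]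
    exact Subgroup.smul_mem_pointwise_smul _ _ _ (h₂ (Subgroup.mem_zpowers _))
  obtain ⟨R, hR⟩ := (R₁.isPGroup'.map C.subtype).exists_le_sylow
  have h4 := huniq R ((d : G) * g) 1 (by
      have : (MulAut.conj d ⟨g * a * g⁻¹, hgaC⟩ : C).1 ∈ R := hR ⟨_, h3, rfl⟩
      simpa [mul_assoc] using this)
    (by rw [one_mul, inv_one, mul_one]; exact hR ⟨⟨a, haC⟩, h₁ (Subgroup.mem_zpowers _), rfl⟩)
  simp only [one_mul, inv_one, mul_one] at h4
  have hdb : (d : G) * b = b * (d : G) := Subgroup.mem_centralizer_singleton_iff.1 d.2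
  calc b = (d : G) * b * (d : G)⁻¹ := by rw [hdb]; group
    _ = (MulAut.conj ((d : G) * g) a) ^ n := by rw [← map_pow, hb, MulAut.conj_apply]; group
    _ = a ^ n := by rw [MulAut.conj_apply, h4]

end Cfsg.Agent.S1939
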