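import Cfsg.Statements.S1940
import Mathlib.GroupTheory.Sylow
import Mathlib.Algebra.BigOperators.Group.Finset.Basic

set_option autoImplicit false
set_option linter.style.haveILetI false
set_option linter.unusedVariables false
open Cfsg

namespace Cfsg.Agent.S1940

/-- Let the finite group L act by automorphisms on the finite abelian group M, and let N be an L-invariant subgroup of M such that M/N is a p-group on which L acts trivially (every l • m lies in the coset mN). If every element of M is a product of an element of N and an element fixed by a Sylow p-subgroup T of L, then every element of M is a product of an element of N and an element fixed by all of L. -/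
theorem result {L : Type*} [Group L] [Finite L] {M : Type*} [CommGroup M] [Finite M] [MulDistribMulAction L M]
    {p : ℕ} [Fact p.Prime] (N : Subgroup M) (hN : ∀ (l : L) (m : M), m ∈ N → l • m ∈ N)
    (hquot : IsPGroup p (M ⧸ N)) (htriv : ∀ (l : L) (m : M), (l • m) * m⁻¹ ∈ N) (T : Sylow p L)
    (hT : ∀ m : M, ∃ n ∈ N, ∃ c : M, (∀ t ∈ (T : Subgroup L), t • c = c) ∧ m = n * c) :
    ∀ m : M, ∃ n ∈ N, ∃ c : M, (∀ l : L, l • c = c) ∧ m = n * c := by
  classical
  intro m
  obtain ⟨n, hn, c, hc, rfl⟩ := hT m
  haveI : Fintype (L ⧸ (T : Subgroup L)) := Fintype.ofFinite _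
  let f : L ⧸ (T : Subgroup L) → M := fun q => Quotient.liftOn' q (fun l => l • c) (by
    intro a b hab
    rw [QuotientGroup.leftRel_apply] at hab
    change a • c = b • c
    calc a • c = a • ((a⁻¹ * b) • c) := by rw [hc _ hab]
      _ = b • c := by rw [smul_smul, mul_inv_cancel_left])
  have hfl : ∀ (l : L) q, l • f q = f (l • q) := by
    intro l q
    induction q using QuotientGroup.induction_on with
    | _ a => exact smul_smul l a c
  set w := ∏ q, f q with hw
  have hfix : ∀ l : L, l • w = w := by
    intro l
    rw [hw, Finset.smul_prod']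
    simp_rw [hfl]
    exact Equiv.prod_comp (MulAction.toPerm l) f
  set k := (T : Subgroup L).index with hk
  have hcong : (w : M ⧸ N) = (c : M ⧸ N) ^ k := by
    rw [hw, ← QuotientGroup.mk'_apply, map_prod]
    have : ∀ q, (QuotientGroup.mk' N) (f q) = (c : M ⧸ N) := by
      intro q
      induction q using QuotientGroup.induction_on with
      | _ a =>
        change ((a • c : M) : M ⧸ N) = (c : M ⧸ N)
        rw [QuotientGroup.eq_iff_div_mem, div_eq_mul_inv]
        exact htriv a c
    rw [Finset.prod_congr rfl (fun q _ => this q), Finset.prod_const, Finset.card_univ, hk,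
      Subgroup.index, Nat.card_eq_fintype_card]
  obtain ⟨e, he⟩ := IsPGroup.iff_orderOf.1 hquot (c : M ⧸ N)
  have hcop : k.Coprime (p ^ e) :=
    ((Fact.out : p.Prime).coprime_iff_not_dvd.2 T.not_dvd_index).symm.pow_right e
  obtain ⟨j, hj⟩ := exists_pow_eq_self_of_coprime (x := (c : M ⧸ N)) (he ▸ hcop)
  refine ⟨n * c * (w ^ j)⁻¹, ?_, w ^ j, fun l => by rw [smul_pow', hfix], by group⟩
  rw [mul_assoc]
  refine mul_mem hn ?_
  rw [← div_eq_mul_inv, ← QuotientGroup.eq_iff_div_mem, QuotientGroup.mk_pow, hcong]
  exact hj.symm

end Cfsg.Agent.S1940
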