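import Cfsg.Statements.S1941
import Cfsg.Agent.Lib.Components.FStar
import Cfsg.Agent.Lib.Components.PNormalizer
import Cfsg.Agent.Lib.Solvable.Fitting

set_option autoImplicit false
set_option linter.style.haveILetI false
set_option linter.unusedVariables false
open Cfsg

namespace Cfsg.Agent.S1941

open Cfsg.Agent

variable {G : Type*} [Group G] [Finite G] {p : ℕ} [Fact p.Prime]

omit [Fact p.Prime] in
/-- A cocycle into an abelian normal `p`-subgroup vanishing on a subgroup of index prime to `p` is inner. -/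
lemma cocycle_inner {T Z : Subgroup G} [Z.Normal] [IsMulCommutative Z]
    (hcop : (Nat.card Z).Coprime T.index) (α : MulAut G)
    (hfix : ∀ t ∈ T, α t = t) (hZ : ∀ x, x⁻¹ * α x ∈ Z) : ∃ g : G, ∀ x, α x = g * x * g⁻¹ := by
  classical
  letI : CommGroup Z := { (inferInstance : Group Z) with mul_comm := fun a b => mul_comm' a b }
  let c : G → Z := fun x => ⟨x⁻¹ * α x, hZ x⟩
  let f : G ⧸ T → Z := Quotient.lift (fun y => c y⁻¹) (fun a b hab => by
    have h := hfix _ (QuotientGroup.leftRel_apply.1 hab)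
    rw [map_mul, map_inv] at h
    refine Subtype.ext ?_
    show a⁻¹⁻¹ * α a⁻¹ = b⁻¹⁻¹ * α b⁻¹
    rw [map_inv, map_inv, inv_inv, inv_inv]
    calc a * (α a)⁻¹ = a * ((α a)⁻¹ * α b) * (α b)⁻¹ := by group
      _ = a * (a⁻¹ * b) * (α b)⁻¹ := by rw [h]
      _ = b * (α b)⁻¹ := by group)
  letI := Fintype.ofFinite (G ⧸ T)
  set A := ∏ q : G ⧸ T, f q with hA
  let φ : G → Z →* Z := fun x => (MulAut.conjNormal (H := Z) x⁻¹).toMonoidHom
  have hkey : ∀ x : G, ∀ q : G ⧸ T, f (x⁻¹ • q) = φ x (f q) * c x := by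
    intro x q
    refine QuotientGroup.induction_on q fun y => Subtype.ext ?_
    show (x⁻¹ * y)⁻¹⁻¹ * α (x⁻¹ * y)⁻¹ = x⁻¹ * (y⁻¹⁻¹ * α y⁻¹) * x⁻¹⁻¹ * (x⁻¹ * α x)
    simp only [inv_inv, mul_inv_rev, map_mul, map_inv]
    group
  have hsum : ∀ x : G, A = φ x A * c x ^ Nat.card (G ⧸ T) := by
    intro x
    calc A = ∏ q : G ⧸ T, f (x⁻¹ • q) :=
          (Fintype.prod_equiv (MulAction.toPerm x⁻¹) _ _ (fun q => rfl)).symm
      _ = ∏ q : G ⧸ T, φ x (f q) * c x := Finset.prod_congr rfl fun q _ => hkey x q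
      _ = _ := by rw [Finset.prod_mul_distrib, map_prod, Finset.prod_const, Finset.card_univ,
            Nat.card_eq_fintype_card]
  obtain ⟨B, hB⟩ := (powCoprime hcop).surjective A
  simp only [powCoprime_apply] at hB
  refine ⟨(B : G)⁻¹, fun x => ?_⟩
  have h := hsum x
  rw [← hB, map_pow, show Nat.card (G ⧸ T) = T.index from rfl, ← mul_pow] at h
  have h2 : (B : G) = x⁻¹ * B * x⁻¹⁻¹ * (x⁻¹ * α x) :=
    congrArg Subtype.val ((powCoprime hcop).injective (by simpa only [powCoprime_apply] using h))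
  calc α x = (B : G)⁻¹ * x * (x⁻¹ * B * x⁻¹⁻¹ * (x⁻¹ * α x)) := by group
    _ = (B : G)⁻¹ * x * (B : G)⁻¹⁻¹ := by rw [← h2, inv_inv]

/-- Let G be a finite group with no nontrivial normal subgroup of order prime to p, T a Sylow p-subgroup of G and E(G) the layer of G (the subgroup generated by its components). An automorphism of G of p-power order that fixes T and E(G) elementwise is inner. -/
theorem result {G : Type*} [Group G] [Finite G] {p : ℕ} [Fact p.Prime] (hcore : Cfsg.pPrimeCore p G = ⊥)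
    (T : Sylow p G) (α : MulAut G) (hα : ∃ j : ℕ, orderOf α = p ^ j) (hfixT : ∀ x ∈ (T : Subgroup G), α x = x)
    (hfixE : ∀ x ∈ Cfsg.layer G, α x = x) : ∃ g : G, ∀ x : G, α x = g * x * g⁻¹ := by
  set F := Cfsg.generalizedFittingSubgroup G with hF
  haveI hFn : F.Normal := Components.generalizedFitting_normal
  set Z := Subgroup.centralizer (F : Set G) with hZ
  haveI : Z.Normal := inferInstance
  have hZF : Z ≤ F := Components.centralizer_generalizedFitting_le
  haveI : IsMulCommutative Z := ⟨⟨fun a b => Subtype.ext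
    (Subgroup.mem_centralizer_iff.1 b.2 (a : G) (hZF a.2))⟩⟩
  haveI : Group.IsNilpotent Z := by
    letI : CommGroup Z := { (inferInstance : Group Z) with mul_comm := fun a b => mul_comm' a b }
    infer_instance
  have hZp : IsPGroup p Z := Components.isPGroup_of_normal_nilpotent hcore Z
  have hfitT : Cfsg.fittingSubgroup G ≤ (T : Subgroup G) := by
    haveI : (Cfsg.fittingSubgroup G).Normal := FittingCores.fitting_normal
    haveI : Group.IsNilpotent (Cfsg.fittingSubgroup G) := FittingCores.fitting_nilpotent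
    exact (FittingCores.le_pCore FittingCores.fitting_normal
      (Components.isPGroup_of_normal_nilpotent hcore (Cfsg.fittingSubgroup G))).trans
      (FittingCores.pCore_le_sylow T)
  have hfixF : F ≤ MonoidHom.eqLocus α.toMonoidHom (MonoidHom.id G) :=
    sup_le hfixE fun x hx => hfixT x (hfitT hx)
  refine cocycle_inner (T := (T : Subgroup G)) (Z := Z) ?_ α hfixT fun x => ?_
  · obtain ⟨k, hk⟩ := IsPGroup.iff_card.1 hZp
    rw [hk]
    exact (((Fact.out : p.Prime).coprime_iff_not_dvd.2 T.not_dvd_index)).pow_left k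
  · refine Subgroup.mem_centralizer_iff.2 fun y hy => ?_
    have h1 : α (x * y * x⁻¹) = x * y * x⁻¹ := hfixF (hFn.conj_mem y hy x)
    have h2 : α y = y := hfixF hy
    rw [map_mul, map_mul, map_inv, h2] at h1
    calc y * (x⁻¹ * α x) = x⁻¹ * (x * y * x⁻¹) * α x := by group
      _ = x⁻¹ * (α x * y * (α x)⁻¹) * α x := by rw [h1]
      _ = x⁻¹ * α x * y := by group

end Cfsg.Agent.S1941
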