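import Cfsg.Statements.S1944
import Cfsg.Agent.Lib.Techniques.PPrimePCore
import Mathlib.Data.Fintype.BigOperators

set_option autoImplicit false
set_option linter.style.haveILetI false
set_option linter.unusedVariables false
open Cfsg

namespace Cfsg.Agent.S1944

/-- Let S be a Sylow p-subgroup of the finite group G and suppose that the centre Z(S) lies in O_{p',p}(G). The elements of S each of which is its only G-conjugate in S form a subgroup W of Z(S); W is then a direct factor of Z(S): there is a subgroup K of Z(S) with W ∩ K = 1 and WK = Z(S). -/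
theorem result {G : Type*} [Group G] [Finite G] {p : ℕ} [Fact p.Prime] (S : Sylow p G)
    (hZ : ((S : Subgroup G) ⊓ Subgroup.centralizer ((S : Subgroup G) : Set G)) ≤ Cfsg.pPrimePCore p G) :
    ∃ W K : Subgroup G, (∀ x : G, x ∈ W ↔ (x ∈ (S : Subgroup G) ∧ ∀ g : G, g * x * g⁻¹ ∈ (S : Subgroup G) → g * x * g⁻¹ = x)) ∧
      K ≤ ((S : Subgroup G) ⊓ Subgroup.centralizer ((S : Subgroup G) : Set G)) ∧ W ⊓ K = ⊥ ∧ W ⊔ K = ((S : Subgroup G) ⊓ Subgroup.centralizer ((S : Subgroup G) : Set G)) := by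
  classical
  set H := PPrimePC.coreH p (S : Subgroup G) with hH
  set N := Subgroup.normalizer (H : Set G) with hN
  set Z := (S : Subgroup G) ⊓ Subgroup.centralizer ((S : Subgroup G) : Set G) with hZdef
  set W := Z ⊓ Subgroup.centralizer (N : Set G) with hW
  have hZmem : ∀ x, x ∈ Z ↔ x ∈ (S : Subgroup G) ∧ ∀ s ∈ (S : Subgroup G), s * x = x * s :=
    fun x => by rw [hZdef, Subgroup.mem_inf, Subgroup.mem_centralizer_iff]; rfl
  have hSN : (S : Subgroup G) ≤ N := PPrimePC.le_normalizer _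
  have hHS : H ≤ (S : Subgroup G) := inf_le_left
  have hZH : Z ≤ H := le_inf inf_le_left hZ
  set A := H ⊓ Subgroup.centralizer (H : Set G) with hA
  have hZA : Z ≤ A := le_inf hZH fun x hx =>
    Subgroup.mem_centralizer_iff.2 fun h hh => ((hZmem x).1 hx).2 h (hHS hh)
  letI : CommGroup ↥A :=
    { (inferInstance : Group ↥A) with
      mul_comm := fun a b => Subtype.ext
        (Subgroup.mem_centralizer_iff.1 (Subgroup.mem_inf.1 b.2).2 (a : G) (Subgroup.mem_inf.1 a.2).1) }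
  have hconj : ∀ n ∈ N, ∀ a ∈ A, n * a * n⁻¹ ∈ A := by
    intro n hn a ha
    refine Subgroup.mem_inf.2 ⟨(Subgroup.mem_normalizer_iff.1 hn a).1 (Subgroup.mem_inf.1 ha).1,
      Subgroup.mem_centralizer_iff.2 fun h hh => ?_⟩
    have h' := (Subgroup.mem_normalizer_iff.1 (inv_mem hn) h).1 hh
    rw [inv_inv] at h'
    have hcomm := Subgroup.mem_centralizer_iff.1 (Subgroup.mem_inf.1 ha).2 _ h'
    calc h * (n * a * n⁻¹) = n * ((n⁻¹ * h * n) * a) * n⁻¹ := by group
      _ = n * (a * (n⁻¹ * h * n)) * n⁻¹ := by rw [hcomm]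
      _ = n * a * n⁻¹ * h := by group
  set S' : Subgroup ↥N := (S : Subgroup G).subgroupOf N with hS'
  haveI : Fintype (↥N ⧸ S') := Fintype.ofFinite _
  have hidx : ¬ p ∣ Fintype.card (↥N ⧸ S') := by
    rw [← Nat.card_eq_fintype_card]
    exact (S.subtype hSN).not_dvd_index
  let f : ↥Z → (↥N ⧸ S') → ↥A := fun a q =>
    ⟨(q.out : G) * a * (q.out : G)⁻¹, hconj _ q.out.2 _ (hZA a.2)⟩
  have hf : ∀ (a : ↥Z) (n : ↥N), ((f a (n : ↥N ⧸ S') : ↥A) : G) = (n : G) * a * (n : G)⁻¹ := by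
    intro a n
    obtain ⟨s, hs⟩ := QuotientGroup.mk_out_eq_mul S' n
    simp only [f]
    rw [hs, Subgroup.coe_mul]
    have := ((hZmem a).1 a.2).2 ((s : ↥N) : G) (Subgroup.mem_subgroupOf.1 s.2)
    calc (n : G) * (s : ↥N) * a * ((n : G) * (s : ↥N))⁻¹
        = (n : G) * (((s : ↥N) : G) * a) * ((s : ↥N) : G)⁻¹ * (n : G)⁻¹ := by group
      _ = (n : G) * a * (n : G)⁻¹ := by rw [this]; group
  let τ : ↥Z →* ↥A :=
    { toFun := fun a => ∏ q, f a q
      map_one' := Finset.prod_eq_one fun q _ => Subtype.ext (by simp [f])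
      map_mul' := fun a b => by
        rw [← Finset.prod_mul_distrib]
        exact Finset.prod_congr rfl fun q _ => Subtype.ext (by simp [f, mul_assoc]) }
  have hτ : ∀ a : ↥Z, ∀ n ∈ N, n * (τ a : G) * n⁻¹ = (τ a : G) := by
    intro a n hn
    let φ : ↥A →* ↥A :=
      { toFun := fun x => ⟨n * x * n⁻¹, hconj n hn x x.2⟩
        map_one' := Subtype.ext (by simp)
        map_mul' := fun x y => Subtype.ext (by simp [mul_assoc]) }
    have h1 : φ (τ a) = τ a := by
      change φ (∏ q, f a q) = ∏ q, f a q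
      rw [map_prod, ← Equiv.prod_comp (MulAction.toPerm (⟨n, hn⟩ : ↥N)) (f a)]
      refine Finset.prod_congr rfl fun q _ => ?_
      induction q using QuotientGroup.induction_on with
      | _ m =>
        apply Subtype.ext
        change n * ((f a (m : ↥N ⧸ S') : ↥A) : G) * n⁻¹ = ((f a ((⟨n, hn⟩ * m : ↥N) : ↥N ⧸ S') : ↥A) : G)
        rw [hf, hf]
        simp [mul_assoc]
    exact congrArg Subtype.val h1
  have hτW : ∀ a : ↥Z, (τ a : G) ∈ W := by
    intro a
    have hmem := Subgroup.mem_inf.1 (τ a).2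
    refine Subgroup.mem_inf.2 ⟨(hZmem _).2 ⟨hHS hmem.1, fun s hs => ?_⟩,
      Subgroup.mem_centralizer_iff.2 fun n hn => mul_inv_eq_iff_eq_mul.1 (hτ a n hn)⟩
    exact mul_inv_eq_iff_eq_mul.1 (hτ a s (hSN hs))
  have hτpow : ∀ a : ↥Z, (a : G) ∈ W → (τ a : G) = (a : G) ^ Fintype.card (↥N ⧸ S') := by
    intro a ha
    have : ∀ q, f a q = ⟨(a : G), hZA a.2⟩ := by
      intro q
      apply Subtype.ext
      exact mul_inv_eq_iff_eq_mul.2
        (Subgroup.mem_centralizer_iff.1 (Subgroup.mem_inf.1 ha).2 _ q.out.2)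
    change ((∏ q, f a q : ↥A) : G) = _
    rw [Finset.prod_congr rfl fun q _ => this q, Finset.prod_const, Finset.card_univ, Subgroup.coe_pow]
  have hWp : IsPGroup p ↥W := S.isPGroup'.to_le (inf_le_left.trans inf_le_left)
  have hbij : Function.Bijective (fun w : ↥W => w ^ Fintype.card (↥N ⧸ S')) :=
    (hWp.powEquiv (((Fact.out : p.Prime).coprime_iff_not_dvd).2 hidx)).bijective
  refine ⟨W, τ.ker.map Z.subtype, fun x => ⟨fun hx => ?_, fun hx => ?_⟩, Subgroup.map_subtype_le _,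
    ?_, ?_⟩
  · obtain ⟨hxZ, hxC⟩ := Subgroup.mem_inf.1 hx
    refine ⟨((hZmem x).1 hxZ).1, fun g hg => ?_⟩
    obtain ⟨n, hn, hnx⟩ := PPrimePC.fusion S ((hZmem x).1 hxZ).1 hg (isConj_iff.2 ⟨g, rfl⟩)
    rw [← hnx]
    exact mul_inv_eq_iff_eq_mul.2 (Subgroup.mem_centralizer_iff.1 hxC n hn)
  · obtain ⟨hxS, hxw⟩ := hx
    have hxZ : x ∈ Z := (hZmem x).2 ⟨hxS, fun s hs =>
      mul_inv_eq_iff_eq_mul.1 (hxw s (mul_mem (mul_mem hs hxS) (inv_mem hs)))⟩
    refine Subgroup.mem_inf.2 ⟨hxZ, Subgroup.mem_centralizer_iff.2 fun n hn =>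
      mul_inv_eq_iff_eq_mul.1 (hxw n ?_)⟩
    exact hHS ((Subgroup.mem_normalizer_iff.1 hn x).1 (hZH hxZ))
  · rw [eq_bot_iff]
    intro x hx
    obtain ⟨hxW, a, ha, rfl⟩ := hx
    have h1 : (τ a : G) = 1 := by rw [MonoidHom.mem_ker.1 ha]; rfl
    rw [hτpow a hxW] at h1
    have h2 : (⟨(a : G), hxW⟩ : ↥W) = 1 := hbij.injective (Subtype.ext (by simpa using h1))
    exact congrArg Subtype.val h2
  · refine le_antisymm (sup_le inf_le_left (Subgroup.map_subtype_le _)) fun x hx => ?_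
    obtain ⟨w, hw⟩ := hbij.surjective ⟨_, hτW ⟨x, hx⟩⟩
    have hwW : (w : G) ∈ W := w.2
    have hker : (⟨x, hx⟩ * ⟨(w : G), (Subgroup.mem_inf.1 hwW).1⟩⁻¹ : ↥Z) ∈ τ.ker := by
      rw [MonoidHom.mem_ker, map_mul, map_inv, mul_inv_eq_one]
      apply Subtype.ext
      rw [hτpow ⟨(w : G), (Subgroup.mem_inf.1 hwW).1⟩ hwW]
      exact (congrArg Subtype.val hw).symm
    rw [show x = x * (w : G)⁻¹ * w by group]
    exact mul_mem (Subgroup.mem_sup_right ⟨_, hker, rfl⟩) (Subgroup.mem_sup_left hwW)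

end Cfsg.Agent.S1944
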