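import Cfsg.Statements.S1945
import Cfsg.Agent.Lib.Functors.KInfWeakClosure
import Cfsg.Agent.Lib.Functors.CentreSplit
import Cfsg.Agent.Lib.PLocal.PSolvable
import Cfsg.Agent.S1944

set_option autoImplicit false
set_option linter.style.haveILetI false
set_option linter.unusedVariables false
open Cfsg

namespace Cfsg.Agent.S1945

/-- Let S be a Sylow p-subgroup of the finite group G, and assume that p is odd or that G is solvable. The elements of S each of which is its only G-conjugate in S form a subgroup W of Z(S); W is then a direct factor of Z(S): there is a subgroup K of Z(S) with W ∩ K = 1 and WK = Z(S). (For p = 2 and G not solvable this can fail.) -/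
theorem result {G : Type*} [Group G] [Finite G] {p : ℕ} [Fact p.Prime] (S : Sylow p G) (h : p ≠ 2 ∨ Group.IsSolvable G) :
    ∃ W K : Subgroup G, (∀ x : G, x ∈ W ↔ (x ∈ (S : Subgroup G) ∧ ∀ g : G, g * x * g⁻¹ ∈ (S : Subgroup G) → g * x * g⁻¹ = x)) ∧
      K ≤ ((S : Subgroup G) ⊓ Subgroup.centralizer ((S : Subgroup G) : Set G)) ∧ W ⊓ K = ⊥ ∧ W ⊔ K = ((S : Subgroup G) ⊓ Subgroup.centralizer ((S : Subgroup G) : Set G)) := by
  by_cases hs : Group.IsSolvable G
  · refine Cfsg.Agent.S1944.result S fun x hx => ?_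
    obtain ⟨hxS, hxC⟩ := Subgroup.mem_inf.1 hx
    set π := QuotientGroup.mk' (Cfsg.pPrimeCore p G) with hπ
    change π x ∈ Cfsg.pCore p (G ⧸ Cfsg.pPrimeCore p G)
    refine Cfsg.Agent.PSolvable.centralizer_pCore_le
      (Cfsg.Agent.PSolvable.quotient _ (Cfsg.Agent.PSolvable.of_solvable hs))
      (Cfsg.Agent.PBasic.pPrimeCore_quotient_pPrimeCore p G) (Subgroup.mem_centralizer_iff.2 fun y hy => ?_)
    obtain ⟨z, hz, rfl⟩ := Cfsg.Agent.PBasic.pCore_le_sylow
      (S.mapSurjective (f := π) (QuotientGroup.mk'_surjective _)) hy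
    rw [← map_mul, ← map_mul, Subgroup.mem_centralizer_iff.1 hxC z hz]
  have hp : p ≠ 2 := h.resolve_right hs
  set H := Cfsg.inducedFunctor Cfsg.kInfLower (S : Subgroup G) with hH
  have hW := Cfsg.Agent.Functors.inducedFunctor_isConjugacyFunctor (G := G)
    (Cfsg.Agent.Functors.isCharPFunctor_kInfLower (p := p))
  refine Cfsg.Agent.Functors.exists_split_of_weakClosure S H
    (Cfsg.Agent.Functors.conjFunctor_le hW S.isPGroup')
    (Cfsg.Agent.Functors.zc_le_kInf (S : Subgroup G) S.isPGroup').1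
    (Cfsg.Agent.Functors.le_normalizer_conjFunctor hW S.isPGroup') fun x hxZ hxC g hg => ?_
  exact Cfsg.Agent.Functors.weakClosureElem_of_killers hW
    (fun P hP => (Cfsg.Agent.Functors.zc_le_kInf P hP).1) (Cfsg.Agent.Functors.locKill_kInfLower hp) ⊤
    (S : Subgroup G) (Cfsg.Agent.Functors.isSylowIn_sylow S) x hxZ.1
    (fun a ha => Cfsg.Agent.Functors.mem_centralizer_singleton.2
      (mul_inv_eq_iff_eq_mul.2 (Subgroup.mem_centralizer_iff.1 hxC a ha.2))) g (Subgroup.mem_top g) hg

end Cfsg.Agent.S1945
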