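import Cfsg.Statements.S1946
import Cfsg.Agent.Lib.Transfer.SmallFusion

set_option autoImplicit false
set_option linter.style.haveILetI false
set_option linter.unusedVariables false
open Cfsg

namespace Cfsg.Agent.S1946

open Cfsg.Agent
open scoped commutatorElement

/-- Let P be a Sylow p-subgroup of the finite group G. Then G has a normal p-complement if and only if P controls the fusion of its elements of order dividing p (dividing 4 when p = 2): whenever such an element a of P has a G-conjugate g a g⁻¹ in P, that conjugate is already x a x⁻¹ for some x in P. -/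
theorem result {G : Type*} [Group G] [Finite G] {p : ℕ} [Fact p.Prime] (P : Sylow p G) :
    Cfsg.HasNormalPComplement p G ↔
      ∀ a ∈ (P : Subgroup G), (a ^ p = 1 ∨ (p = 2 ∧ a ^ 4 = 1)) → ∀ g : G, g * a * g⁻¹ ∈ (P : Subgroup G) →
        ∃ x ∈ (P : Subgroup G), g * a * g⁻¹ = x * a * x⁻¹ := by
  refine ⟨fun h a ha _ g hg => ?_, fun h => ?_⟩
  · obtain ⟨v, hv, e⟩ := Fusion.controlsFusion_of_hasNormalPComplement P h a ha g hg
    exact ⟨v, hv, e.symm⟩
  refine Fusion.hasNormalPComplement_of_frobenius fun D hD g hg hgc => ?_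
  obtain ⟨R, hR⟩ := hD.exists_le_sylow
  obtain ⟨t, ht⟩ := MulAction.exists_smul_eq G R P
  set f : G →* G := (MulAut.conj t).toMonoidHom with hf
  have hfi : Function.Injective f := (MulAut.conj t).injective
  have hDP : D.map f ≤ (P : Subgroup G) := by
    rintro _ ⟨d, hd, rfl⟩
    rw [← ht, Sylow.coe_subgroup_smul]
    exact Subgroup.smul_mem_pointwise_smul d (MulAut.conj t) _ (hR hd)
  haveI : Group.IsNilpotent ↥(P : Subgroup G) := P.isPGroup'.isNilpotent
  set K : ℕ → Subgroup G := fun i => (P : Subgroup G).lowerCentralSeries i with hK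
  have hmem : f g ∈ Subgroup.centralizer ((D.map f : Subgroup G) : Set G) := by
    refine SmallFusion.mem_centralizer_of_series (hD.map f) (Subgroup.le_normalizer_map f ⟨g, hg, rfl⟩)
      (by rwa [orderOf_injective f hfi]) K
      (fun i => hDP.trans (Subgroup.self_le_normalizer_lowerCentralSeries _ i)) (fun a ha _ => ?_) ?_
      (fun i a ha hsm haK => ?_)
    · exact hDP ha
    · refine ⟨Group.nilpotencyClass ↥(P : Subgroup G), ?_⟩
      show (P : Subgroup G).lowerCentralSeries _ ⊓ _ = ⊥
      rw [Subgroup.lowerCentralSeries_eq_bot_of_nilpotencyClass_le le_rfl, bot_inf_eq]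
    · have hga : f g * a * (f g)⁻¹ ∈ D.map f :=
        (Subgroup.mem_normalizer_iff.1 (Subgroup.le_normalizer_map f ⟨g, hg, rfl⟩) a).1 ha
      obtain ⟨x, hx, e⟩ := h a (hDP ha) hsm (f g) (hDP hga)
      rw [e]
      show _ ∈ (P : Subgroup G).lowerCentralSeries (i + 1)
      rw [Subgroup.lowerCentralSeries_succ, show x * a * x⁻¹ * a⁻¹ = ⁅a, x⁆⁻¹ by
        rw [commutatorElement_def]; group]
      exact inv_mem (Subgroup.commutator_mem_commutator haK hx)
  refine Subgroup.mem_centralizer_iff.2 fun d hd => hfi ?_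
  rw [map_mul, map_mul]
  exact Subgroup.mem_centralizer_iff.1 hmem (f d) ⟨d, hd, rfl⟩

end Cfsg.Agent.S1946
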