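import Cfsg.Statements.S1947
import Cfsg.Agent.Lib.Transfer.SmallFusion

set_option autoImplicit false
set_option linter.style.haveILetI false
set_option linter.unusedVariables false
open Cfsg

namespace Cfsg.Agent.S1947

open Cfsg.Agent
open scoped commutatorElement

/-- Let G be a finite group and p a prime. If every element of G of order dividing p (dividing 4 when p = 2) lies in some fixed term Z_n(G) of the upper central series, then G has a normal p-complement. -/
theorem result {G : Type*} [Group G] [Finite G] {p : ℕ} [Fact p.Prime] (n : ℕ)
    (h : ∀ a : G, (a ^ p = 1 ∨ (p = 2 ∧ a ^ 4 = 1)) → a ∈ Subgroup.upperCentralSeries G n) : Cfsg.HasNormalPComplement p G := by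
  refine Fusion.hasNormalPComplement_of_frobenius fun D hD g hg hgc => ?_
  refine SmallFusion.mem_centralizer_of_series hD hg hgc
    (fun i => Subgroup.upperCentralSeries G (n - i)) (fun i => ?_) (fun a _ ha => by simpa using h a ha)
    ⟨n, by simp⟩ (fun i a _ _ haK => ?_)
  · rw [Subgroup.normalizer_eq_top]; exact le_top
  · rcases Nat.lt_or_ge i n with hi | hi
    · rw [show n - i = (n - (i + 1)) + 1 by omega] at haK
      have := inv_mem (Subgroup.mem_upperCentralSeries_succ_iff.1 haK g)
      simpa [commutatorElement_def, mul_assoc] using this
    · rw [show n - i = 0 by omega, Subgroup.upperCentralSeries_zero, Subgroup.mem_bot] at haK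
      simp [haK]

end Cfsg.Agent.S1947
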