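import Cfsg.Statements.S1948
import Cfsg.Agent.Lib.Functors.SectionInduction
import Cfsg.Agent.Lib.Functors.Conj
import Cfsg.Agent.Lib.PLocal.PSolvable
import Cfsg.Agent.Lib.Techniques.PConstrained

set_option autoImplicit false
set_option linter.style.haveILetI false
set_option linter.unusedVariables false
open Cfsg

namespace Cfsg.Agent.S1948

open Cfsg.Agent Cfsg.Agent.Functors

theorem hSn_le {X : Type*} [Group X] [Finite X] {p : ℕ} [Fact p.Prime] (P : Sylow p X)
    [hP : (P : Subgroup X).Normal] {u : X} (hu : ∃ k, orderOf u = p ^ k) : u ∈ (P : Subgroup X) := by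
  obtain ⟨k, hk⟩ := hu
  obtain ⟨Q, hQ⟩ := (IsPGroup.of_card (n := k) (show Nat.card (Subgroup.zpowers u) = p ^ k by
    rw [Nat.card_zpowers, hk])).exists_le_sylow
  haveI := Sylow.unique_of_normal P hP
  rw [Subsingleton.elim P Q]
  exact hQ (Subgroup.mem_zpowers u)

/-- Let S be a Sylow p-subgroup of the finite group G. Then G = N_G(S)·O_{p'}(G) if and only if G is p-constrained and N_G(S) controls fusion in S, in the sense that whenever a subgroup Q of S has a conjugate g Q g⁻¹ inside S, the element g is a product n c with n normalizing S and c centralizing Q. -/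
theorem result {G : Type*} [Group G] [Finite G] {p : ℕ} [Fact p.Prime] (S : Sylow p G) :
    Subgroup.normalizer ((S : Subgroup G) : Set G) ⊔ Cfsg.pPrimeCore p G = ⊤ ↔
      (Cfsg.IsPConstrained p G ∧
        ∀ Q : Subgroup G, Q ≤ (S : Subgroup G) → ∀ g : G, Q.map (MulAut.conj g).toMonoidHom ≤ (S : Subgroup G) →
          ∃ n ∈ Subgroup.normalizer ((S : Subgroup G) : Set G), ∃ c ∈ Subgroup.centralizer (Q : Set G), g = n * c) := by
  set N := Cfsg.pPrimeCore p G with hN
  haveI := PBasic.pPrimeCore_characteristic p G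
  haveI hNn : N.Normal := inferInstance
  set NS := Subgroup.normalizer ((S : Subgroup G) : Set G) with hNS
  have hNc : (Nat.card N).Coprime p := PBasic.pPrimeCore_coprime p G
  have hdec : ∀ g ∈ NS ⊔ N, ∃ n ∈ NS, ∃ o ∈ N, g = n * o := by
    intro g hg
    rw [← SetLike.mem_coe, Subgroup.mul_normal] at hg
    obtain ⟨n, hn, o, ho, h⟩ := Set.mem_mul.1 hg
    exact ⟨n, hn, o, ho, h.symm⟩
  set f := QuotientGroup.mk' N with hf
  have hfs : Function.Surjective f := QuotientGroup.mk'_surjective N
  have hfk : ∀ g : G, f g = 1 ↔ g ∈ N := fun g => QuotientGroup.eq_one_iff g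
  set Sb := S.mapSurjective hfs with hSb
  constructor
  · intro h
    refine ⟨PSolvable.isPConstrained_of_quotient ?_, fun Q hQ g hgQ => ?_⟩
    · have hmap : (Sb : Subgroup (G ⧸ N)) = (S : Subgroup G).map f := rfl
      haveI hSn : (Sb : Subgroup (G ⧸ N)).Normal := by
        refine Subgroup.normalizer_eq_top_iff.1 (eq_top_iff.2 fun y _ => ?_)
        obtain ⟨g, rfl⟩ := hfs y
        obtain ⟨n, hn, o, ho, rfl⟩ := hdec g (h ▸ Subgroup.mem_top g)
        rw [map_mul, (hfk o).2 ho, mul_one, hmap]
        exact Subgroup.le_normalizer_map f ⟨n, hn, rfl⟩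
      have hT : Cfsg.pCore p (G ⧸ N) = (Sb : Subgroup (G ⧸ N)) :=
        le_antisymm (PBasic.pCore_le_sylow Sb) (PBasic.le_pCore hSn Sb.isPGroup')
      set C := Subgroup.centralizer (Cfsg.pCore p (G ⧸ N) : Set (G ⧸ N)) with hC
      haveI : (Cfsg.pCore p (G ⧸ N)).Normal := Cfsg.pCore_normal p _
      haveI : C.Normal := inferInstance
      -- the coprime elements of `C` form a normal coprime subgroup
      intro z hz
      obtain ⟨u, v, huv, hu, hv, hup, hvc⟩ := PBasic.exists_pPart_mul (p := p) z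
      have huT : u ∈ Cfsg.pCore p (G ⧸ N) := by
        rw [hT]
        refine hSn_le Sb ?_
        obtain ⟨k, hk⟩ := hup
        exact ⟨k, hk⟩
      have hv1 : v = 1 := by
        have hCS : Subgroup.centralizer ((Cfsg.pCore p (G ⧸ N) : Subgroup _) : Set (G ⧸ N)) = C := rfl
        obtain ⟨P⟩ : Nonempty (Sylow p C) := inferInstance
        have hnpc : Cfsg.HasNormalPComplement p C := by
          refine Fusion.hasNormalPComplement_of_normalizer_le_centralizer P fun y _ x hx => ?_
          obtain ⟨k, hk⟩ := P.isPGroup' ⟨x, hx⟩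
          have hxT : (x : G ⧸ N) ∈ Cfsg.pCore p (G ⧸ N) := by
            rw [hT]
            refine hSn_le Sb ?_
            obtain ⟨i, -, hi⟩ := (Nat.dvd_prime_pow (Fact.out : p.Prime)).1
              (orderOf_dvd_of_pow_eq_one (show (x : G ⧸ N) ^ p ^ k = 1 from
                congrArg (fun w : ↥(P : Subgroup C) => ((w : C) : G ⧸ N)) hk))
            exact ⟨i, hi⟩
          exact Subtype.ext (Subgroup.mem_centralizer_iff.1 y.2 _ hxT)
        have hres := PBasic.hasNormalPComplement_iff_pResidual.1 hnpc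
        set O := (Cfsg.pResidual p C).map C.subtype with hO
        haveI := PBasic.pResidual_normal_inst p C
        haveI := PBasic.pResidual_characteristic p C
        haveI hOn : O.Normal := ConjAct.normal_of_characteristic_of_normal
        have hO1 : O = ⊥ := by
          have h1 : O ≤ Cfsg.pPrimeCore p (G ⧸ N) := PBasic.le_pPrimeCore hOn (by
            rw [hO, Subgroup.card_map_of_injective C.subtype_injective]; exact hres)
          exact le_bot_iff.1 (h1.trans_eq (PBasic.pPrimeCore_quotient_pPrimeCore p G))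
        have hvC : v ∈ C := Subgroup.zpowers_le.2 hz hv
        have : v ∈ O := ⟨⟨v, hvC⟩, PBasic.mem_pResidual (by rw [← Subgroup.orderOf_coe]; exact hvc), rfl⟩
        rwa [hO1, Subgroup.mem_bot] at this
      rw [← huv, hv1, mul_one]
      exact huT
    · obtain ⟨n, hn, o, ho, rfl⟩ := hdec g (h ▸ Subgroup.mem_top g)
      refine ⟨n, hn, o, Subgroup.mem_centralizer_iff.2 fun a ha => ?_, rfl⟩
      have hS' : o * a * o⁻¹ ∈ (S : Subgroup G) := by
        have h1 := (Subgroup.mem_normalizer_iff.1 hn (o * a * o⁻¹)).2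
        refine h1 ?_
        have h2 := hgQ ⟨a, ha, rfl⟩
        simpa [mul_assoc] using h2
      have h3 : o * a * o⁻¹ * a⁻¹ ∈ N ⊓ (S : Subgroup G) := by
        refine Subgroup.mem_inf.2 ⟨?_, mul_mem hS' (inv_mem (hQ ha))⟩
        have h4 := mul_mem ho (hNn.conj_mem _ (inv_mem ho) a)
        simpa [mul_assoc] using h4
      rw [PBasic.inf_eq_bot_of_coprime hNc S.isPGroup', Subgroup.mem_bot, mul_inv_eq_one,
        mul_inv_eq_iff_eq_mul] at h3
      exact h3.symm
  · rintro ⟨hcon, hfus⟩
    have hc := PConstr.isPConstrained_iff.1 hcon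
    set T := Cfsg.pCore p (G ⧸ N) with hT
    haveI : T.Normal := Cfsg.pCore_normal p _
    set M := T.comap f with hM
    set Q := (S : Subgroup G) ⊓ M with hQ
    have hsyl : IsSylowIn p Q M := (isSylowIn_sylow S).inf_normalized le_top
      (le_top.trans_eq (Subgroup.normalizer_eq_top (H := M)).symm)
    have hQT : Q.map f = T := by
      refine le_antisymm (Subgroup.map_le_iff_le_comap.2 inf_le_right) fun y hy => ?_
      obtain ⟨s, hs, rfl⟩ := (PBasic.pCore_le_sylow Sb hy : y ∈ (S : Subgroup G).map f)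
      exact ⟨s, Subgroup.mem_inf.2 ⟨hs, hy⟩, rfl⟩
    refine eq_top_iff.2 fun g _ => ?_
    obtain ⟨m, hm, hle⟩ := exists_conj_le_of_isSylowIn hsyl (hsyl.isPGroup.map (cj g)) (by
      rintro _ ⟨q, hq, rfl⟩
      exact (inferInstance : M.Normal).conj_mem q (Subgroup.mem_inf.1 hq).2 g)
    rw [map_map_cj] at hle
    obtain ⟨n, hn, c, hc', hmg⟩ := hfus Q inf_le_left (m * g) (hle.trans inf_le_left)
    have hcM : c ∈ M := by
      refine hc (Subgroup.mem_centralizer_iff.2 fun t ht => ?_)
      obtain ⟨q, hq, rfl⟩ := hQT.ge ht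
      rw [← map_mul, ← map_mul, Subgroup.mem_centralizer_iff.1 hc' q hq]
    have hMle : M ≤ NS ⊔ N := by
      intro w hw
      obtain ⟨q, hq, hqw⟩ := hQT.ge (show f w ∈ T from hw)
      have : q⁻¹ * w ∈ N := by rw [← hfk, map_mul, map_inv, hqw, inv_mul_cancel]
      have h1 := mul_mem (Subgroup.mem_sup_left (Subgroup.le_normalizer (Subgroup.mem_inf.1 hq).1) : q ∈ NS ⊔ N)
        (Subgroup.mem_sup_right this)
      rwa [mul_inv_cancel_left] at h1
    have : g = m⁻¹ * (n * c) := by rw [← hmg]; group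
    rw [this]
    exact mul_mem (inv_mem (hMle hm)) (mul_mem (Subgroup.mem_sup_left hn) (hMle hcM))

end Cfsg.Agent.S1948
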