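import Cfsg.Statements.S1949
import Cfsg.Agent.Lib.Functors.Critical
import Cfsg.Agent.Lib.Transfer.Basic

set_option autoImplicit false
set_option linter.style.haveILetI false
set_option linter.unusedVariables false
open Cfsg

namespace Cfsg.Agent.S1949

open Cfsg.Agent
open scoped commutatorElement

variable {P : Type*} [Group P] {p : ℕ} [Fact p.Prime]

omit [Fact p.Prime] in
lemma mul_pow_class_two {a b c : P} (hba : b * a = a * b * c) (hac : Commute a c) (hbc : Commute b c) :
    ∀ n : ℕ, (a * b) ^ n = a ^ n * b ^ n * c ^ n.choose 2 := by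
  have hswap : ∀ n : ℕ, b ^ n * a = a * b ^ n * c ^ n := by
    intro n
    induction n with
    | zero => simp
    | succ n ih =>
      calc b ^ (n + 1) * a = b ^ n * (b * a) := by rw [pow_succ, mul_assoc]
        _ = (b ^ n * a) * b * c := by rw [hba]; group
        _ = a * b ^ n * (c ^ n * b) * c := by rw [ih]; group
        _ = a * b ^ n * (b * c ^ n) * c := by rw [(hbc.pow_right n).eq]
        _ = a * b ^ (n + 1) * c ^ (n + 1) := by rw [pow_succ, pow_succ]; group
  intro n
  induction n with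
  | zero => simp
  | succ n ih =>
    have hcomm : Commute (c ^ n.choose 2) (a * b) := ((hac.mul_left hbc).pow_right _).symm
    calc (a * b) ^ (n + 1) = a ^ n * b ^ n * (c ^ n.choose 2 * (a * b)) := by rw [pow_succ, ih]; group
      _ = a ^ n * b ^ n * (a * b * c ^ n.choose 2) := by rw [hcomm.eq]
      _ = a ^ n * (b ^ n * a) * b * c ^ n.choose 2 := by group
      _ = a ^ n * a * b ^ n * (c ^ n * b) * c ^ n.choose 2 := by rw [hswap]; group
      _ = a ^ n * a * b ^ n * (b * c ^ n) * c ^ n.choose 2 := by rw [(hbc.pow_right n).eq]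
      _ = a ^ (n + 1) * b ^ (n + 1) * (c ^ n * c ^ n.choose 2) := by rw [pow_succ, pow_succ]; group
      _ = _ := by rw [← pow_add, Nat.choose_succ_succ' n 1, Nat.choose_one_right]

/-- Displacement fixed by an automorphism of order prime to `p` is trivial. -/
lemma fix_of_disp (hP : IsPGroup p P) {a : MulAut P} (ha : (orderOf a).Coprime p) {x : P}
    (h : a (x⁻¹ * a x) = x⁻¹ * a x) : a x = x := by
  have hpow : ∀ n : ℕ, (a ^ n) x = x * (x⁻¹ * a x) ^ n := by
    intro n
    induction n with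
    | zero => simp
    | succ n ih =>
      rw [pow_succ', MulAut.mul_apply, ih, map_mul, map_pow, h, pow_succ', ← mul_assoc x,
        mul_inv_cancel_left]
  have h2 := hpow (orderOf a)
  rw [pow_orderOf_eq_one, MulAut.one_apply, left_eq_mul] at h2
  obtain ⟨k, hk⟩ := hP (x⁻¹ * a x)
  have h3 : orderOf (x⁻¹ * a x) ∣ Nat.gcd (orderOf a) (p ^ k) :=
    Nat.dvd_gcd (orderOf_dvd_of_pow_eq_one h2) (orderOf_dvd_of_pow_eq_one hk)
  rw [(ha.pow_right k).gcd_eq_one, Nat.dvd_one, orderOf_eq_one_iff] at h3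
  exact (inv_mul_eq_one.1 h3).symm

/-- `p` for odd `p` and `4` for `p = 2`. -/
def smallExp (p : ℕ) : ℕ := if p = 2 then 4 else p

lemma p_dvd_choose : p ∣ (smallExp p).choose 2 := by
  unfold smallExp
  have hp : p.Prime := Fact.out
  split_ifs with h
  · subst h; decide
  · exact hp.dvd_choose_self (by omega) (by have := hp.two_le; omega)

lemma p_dvd_smallExp : p ∣ smallExp p := by
  unfold smallExp
  split_ifs with h
  · subst h; decide
  · exact dvd_rfl

lemma conj_res (G : Subgroup (MulAut P)) (α : G) (hα : α ∈ Cfsg.pResidual p ↥G) (β : G) :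
    β * α * β⁻¹ ∈ Cfsg.pResidual p ↥G :=
  (PBasic.pResidual_normal_inst p ↥G).conj_mem α hα β

lemma main [Finite P] (hP : IsPGroup p P) (G : Subgroup (MulAut P)) (hG : Cfsg.Inn P ≤ G) :
    ∃ D : Subgroup P,
      (∀ α ∈ G, D.map α.toMonoidHom = D) ∧
      D ≤ Subgroup.closure {y : P | ∃ α ∈ Cfsg.pResidual p ↥G, ∃ x : P, y = x⁻¹ * (α : MulAut P) x} ∧
      (∀ d ∈ D, d ^ p = 1 ∨ (p = 2 ∧ d ^ 4 = 1)) ∧
      ⁅D, (⊤ : Subgroup P)⁆ ≤ D ⊓ Subgroup.centralizer (D : Set P) ∧
      (∀ α ∈ G, (orderOf α).Coprime p → (∀ d ∈ D, α d = d) → α = 1) := by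
  have hp : p.Prime := Fact.out
  obtain ⟨H, hH⟩ := Critical.exists_critical hP
  haveI := hH.char
  have hHfix : ∀ (β : MulAut P) (x : P), x ∈ H → β x ∈ H := fun β x hx => by
    rw [← Subgroup.Characteristic.fixed hH.char β] at hx
    exact hx
  let S : Set P := {y | ∃ α ∈ Cfsg.pResidual p ↥G, ∃ x ∈ H, y = x⁻¹ * (α : MulAut P) x}
  let K := Subgroup.closure S
  have hKH : K ≤ H := (Subgroup.closure_le _).2 (by
    rintro _ ⟨α, -, x, hx, rfl⟩
    exact H.mul_mem (H.inv_mem hx) (hHfix _ x hx))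
  -- commutators inside `H`
  have hc : ∀ a ∈ H, ∀ b ∈ H, ∀ z ∈ H, z * (b⁻¹ * a⁻¹ * b * a) = (b⁻¹ * a⁻¹ * b * a) * z := by
    intro a ha b hb z hz
    have h1 : b⁻¹ * a⁻¹ * b * a ∈ H ⊓ Subgroup.centralizer (H : Set P) := by
      have h2 := hH.comm (Subgroup.commutator_mem_commutator (Subgroup.mem_top b⁻¹) (H.inv_mem ha))
      simpa [commutatorElement_def, mul_assoc] using h2
    exact Subgroup.mem_centralizer_iff.1 h1.2 z hz
  have hpowc : ∀ a ∈ H, ∀ b ∈ H, (b⁻¹ * a⁻¹ * b * a) ^ p = 1 := by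
    intro a ha b hb
    set c := b⁻¹ * a⁻¹ * b * a with hcdef
    have hbc : Commute b c := hc a ha b hb b hb
    have hac : Commute a c := hc a ha b hb a ha
    have h1 : a⁻¹ * b * a = b * c := by rw [hcdef]; group
    have h2 : (a⁻¹ * b * a) ^ p = b ^ p := by
      have h3 : b ^ p * a = a * b ^ p := (Subgroup.mem_centralizer_iff.1 (hH.pow b hb).2 a ha).symm
      calc (a⁻¹ * b * a) ^ p = (a⁻¹ * b * a⁻¹⁻¹) ^ p := by rw [inv_inv]
        _ = a⁻¹ * b ^ p * a⁻¹⁻¹ := conj_pow
        _ = a⁻¹ * (b ^ p * a) := by group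
        _ = b ^ p := by rw [h3]; group
    rw [h1, hbc.mul_pow, mul_eq_left] at h2
    exact h2
  have hmulpow : ∀ a ∈ H, ∀ b ∈ H, ∀ n, p ∣ n.choose 2 → (a * b) ^ n = a ^ n * b ^ n := by
    intro a ha b hb n hn
    obtain ⟨k, hk⟩ := hn
    have h := mul_pow_class_two (a := a) (b := b) (c := b⁻¹ * a⁻¹ * b * a) (by
      have h2 : (b⁻¹ * a⁻¹ * b * a) * a = a * (b⁻¹ * a⁻¹ * b * a) := (hc a ha b hb a ha).symm
      calc b * a = a * b * (b⁻¹ * a⁻¹ * b * a) := by group)
      (hc a ha b hb a ha) (hc a ha b hb b hb) n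
    rw [h, hk, pow_mul, hpowc a ha b hb, one_pow, mul_one]
  let D : Subgroup P :=
    { carrier := {x | x ∈ K ∧ x ^ smallExp p = 1}
      one_mem' := ⟨K.one_mem, one_pow _⟩
      mul_mem' := by
        rintro a b ⟨ha, ha'⟩ ⟨hb, hb'⟩
        exact ⟨K.mul_mem ha hb, by
          rw [hmulpow a (hKH ha) b (hKH hb) _ p_dvd_choose, ha', hb', one_mul]⟩
      inv_mem' := by
        rintro a ⟨ha, ha'⟩
        exact ⟨K.inv_mem ha, by rw [inv_pow, ha', inv_one]⟩ }
  have hKinv : ∀ β ∈ G, ∀ x ∈ K, β x ∈ K := by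
    intro β hβ x hx
    induction hx using Subgroup.closure_induction with
    | mem y hy =>
      obtain ⟨α, hα, x, hx, rfl⟩ := hy
      let β' : G := ⟨β, hβ⟩
      have hres := conj_res G α hα β'
      have hval : ((β' * α * β'⁻¹ : G) : MulAut P) (β x) = β ((α : MulAut P) x) := by
        show β ((α : MulAut P) (β.symm (β x))) = β ((α : MulAut P) x)
        rw [MulEquiv.symm_apply_apply]
      exact Subgroup.subset_closure ⟨β' * α * β'⁻¹, hres, β x, hHfix β x hx, by rw [hval, map_mul, map_inv]⟩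
    | one => rw [map_one]; exact K.one_mem
    | mul a b _ _ ha hb => rw [map_mul]; exact K.mul_mem ha hb
    | inv a _ ha => rw [map_inv]; exact K.inv_mem ha
  have hDinv : ∀ β ∈ G, ∀ x ∈ D, β x ∈ D := fun β hβ x hx =>
    ⟨hKinv β hβ x hx.1, by rw [← map_pow, hx.2, map_one]⟩
  refine ⟨D, fun α hα => ?_, ?_, fun d hd => ?_, ?_, fun α hα hcop hfix => ?_⟩
  · refine le_antisymm ?_ fun x hx => ⟨α⁻¹ x, hDinv _ (G.inv_mem hα) x hx, ?_⟩
    · rintro _ ⟨x, hx, rfl⟩
      exact hDinv α hα x hx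
    · exact α.apply_symm_apply x
  · refine fun x hx => (Subgroup.closure_mono ?_ : K ≤ _) hx.1
    rintro _ ⟨α, hα, x, -, rfl⟩
    exact ⟨α, hα, x, rfl⟩
  · have h := hd.2
    unfold smallExp at h
    split_ifs at h with h2
    · exact Or.inr ⟨h2, h⟩
    · exact Or.inl h
  · rw [Subgroup.commutator_le]
    intro d hd t _
    have hinn : MulAut.conj t ∈ G := hG ⟨t, rfl⟩
    refine ⟨?_, ?_⟩
    · have h := D.mul_mem hd (hDinv _ hinn d⁻¹ (D.inv_mem hd))
      simpa [commutatorElement_def, mul_assoc] using h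
    · have h1 : ⁅t, d⁆ ∈ H ⊓ Subgroup.centralizer (H : Set P) :=
        hH.comm (Subgroup.commutator_mem_commutator (Subgroup.mem_top t) (hKH hd.1))
      refine Subgroup.centralizer_le (fun x hx => hKH hx.1) ?_
      rw [← commutatorElement_inv]
      exact Subgroup.inv_mem _ h1.2
  -- detection
  have hfixK : ∀ n : ℕ, ∀ x ∈ K, x ^ p ^ n = 1 → α x = x := by
    intro n
    induction n with
    | zero => intro x _ hx; rw [pow_zero, pow_one] at hx; rw [hx, map_one]
    | succ n ih =>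
      intro x hx hxn
      refine fix_of_disp hP hcop (hfix _ ⟨K.mul_mem (K.inv_mem hx) (hKinv α hα x hx), ?_⟩)
      rw [hmulpow _ (H.inv_mem (hKH hx)) _ (hHfix α x (hKH hx)) _ p_dvd_choose]
      obtain ⟨m, hm⟩ := (p_dvd_smallExp : p ∣ smallExp p)
      have h2 : α (x ^ p) = x ^ p := ih _ (K.pow_mem hx p) (by rw [← pow_mul, ← pow_succ', hxn])
      rw [hm, pow_mul, pow_mul, ← map_pow α x p, h2, inv_pow, inv_pow, inv_mul_cancel]
  refine hH.mulAut_eq_one' hP hcop fun x hx => fix_of_disp hP hcop ?_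
  obtain ⟨k, hk⟩ := hP (x⁻¹ * α x)
  refine hfixK k _ (Subgroup.subset_closure ⟨⟨α, hα⟩, Subgroup.subset_closure ?_, x, hx, rfl⟩) hk
  show Nat.Coprime (orderOf (⟨α, hα⟩ : G)) p
  rwa [Subgroup.orderOf_mk]

/-- Let P be a finite p-group and G a group of automorphisms of P containing the inner automorphisms. Then there is a G-invariant subgroup D of P, contained in the subgroup generated by the elements x⁻¹α(x) with x in P and α in O^p(G), of exponent dividing p when p is odd and dividing 4 when p = 2, with [D, P] ≤ Z(D), such that every automorphism in G of order prime to p that fixes D elementwise is the identity; moreover every maximal abelian subgroup A of D is normal in P and every automorphism in G fixing A elementwise has p-power order. -/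
theorem result {P : Type*} [Group P] [Finite P] {p : ℕ} [Fact p.Prime] (hP : IsPGroup p P)
    (G : Subgroup (MulAut P)) (hG : Cfsg.Inn P ≤ G) :
    ∃ D : Subgroup P,
      (∀ α ∈ G, D.map α.toMonoidHom = D) ∧
      D ≤ Subgroup.closure {y : P | ∃ α ∈ Cfsg.pResidual p ↥G, ∃ x : P, y = x⁻¹ * (α : MulAut P) x} ∧
      (∀ d ∈ D, d ^ p = 1 ∨ (p = 2 ∧ d ^ 4 = 1)) ∧
      ⁅D, (⊤ : Subgroup P)⁆ ≤ D ⊓ Subgroup.centralizer (D : Set P) ∧
      (∀ α ∈ G, (orderOf α).Coprime p → (∀ d ∈ D, α d = d) → α = 1) ∧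
      ∀ A : Subgroup P, A ≤ D → IsMulCommutative ↥A →
        (∀ B : Subgroup P, A ≤ B → B ≤ D → IsMulCommutative ↥B → B = A) →
        A.Normal ∧ ∀ α ∈ G, (∀ a ∈ A, α a = a) → ∃ k : ℕ, orderOf α = p ^ k := by
  obtain ⟨D, h1, h2, h3, h4, h5⟩ := main hP G hG
  refine ⟨D, h1, h2, h3, h4, h5, fun A hAD hA hmax => ?_⟩
  have hAc : ∀ a ∈ A, ∀ b ∈ A, a * b = b * a := fun a ha b hb =>
    congrArg Subtype.val (hA.is_comm.comm (⟨a, ha⟩ : A) ⟨b, hb⟩)
  -- elements of `D` centralizing `A` lie in `A`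
  have hself : ∀ d ∈ D, (∀ a ∈ A, a * d = d * a) → d ∈ A := by
    intro d hd hda
    let B := Subgroup.closure (insert d (A : Set P))
    have hcm : ∀ u ∈ insert d (A : Set P), ∀ v ∈ insert d (A : Set P), u * v = v * u := by
      rintro u (rfl | hu) v (rfl | hv)
      · rfl
      · exact (hda v hv).symm
      · exact hda u hu
      · exact hAc u hu v hv
    have hBc : B ≤ Subgroup.centralizer (B : Set P) := by
      rw [Subgroup.centralizer_closure]
      exact (Subgroup.closure_le _).2 fun u hu => Subgroup.mem_centralizer_iff.2 fun v hv => hcm v hv u hu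
    have hBA : B = A := hmax B (fun a ha => Subgroup.subset_closure (Set.mem_insert_of_mem _ ha))
      ((Subgroup.closure_le _).2 (Set.insert_subset hd hAD))
      ⟨⟨fun u v => Subtype.ext (Subgroup.mem_centralizer_iff.1 (hBc v.2) u u.2)⟩⟩
    exact hBA ▸ Subgroup.subset_closure (Set.mem_insert _ _)
  have hcomA : ∀ t : P, ∀ a ∈ A, t * a * t⁻¹ ∈ A := by
    intro t a ha
    have h := h4 (Subgroup.commutator_mem_commutator (hAD ha) (Subgroup.mem_top t))
    have h' := hself _ h.1 fun b hb => Subgroup.mem_centralizer_iff.1 h.2 b (hAD hb)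
    have h6 := A.mul_mem (A.inv_mem h') ha
    simpa [commutatorElement_def, mul_assoc] using h6
  have hAn : A.Normal := ⟨fun a ha t => hcomA t a ha⟩
  refine ⟨hAn, fun α hα hfix => ?_⟩
  obtain ⟨k, m, hm, hkm⟩ := Nat.exists_eq_pow_mul_and_not_dvd (orderOf_pos α).ne' p (Fact.out : p.Prime).ne_one
  refine ⟨k, ?_⟩
  set β := α ^ p ^ k with hβ
  have hβo : orderOf β = m := by
    rw [hβ, orderOf_pow' _ (pow_ne_zero _ (Fact.out : p.Prime).ne_zero), hkm,
      Nat.gcd_mul_right_left, Nat.mul_div_cancel_left _ (pow_pos (Fact.out : p.Prime).pos k)]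
  have hβc : (orderOf β).Coprime p := by
    rw [hβo]; exact ((Fact.out : p.Prime).coprime_iff_not_dvd.2 hm).symm
  have hβG : β ∈ G := G.pow_mem hα _
  have hβA : ∀ a ∈ A, β a = a := by
    intro a ha
    have : ∀ n : ℕ, (α ^ n) a = a := fun n => by
      induction n with
      | zero => simp
      | succ n ih => rw [pow_succ', MulAut.mul_apply, ih, hfix a ha]
    exact this _
  have hone : β = 1 := by
    refine h5 β hβG hβc fun x hx => fix_of_disp hP hβc (hβA _ (hself _ ?_ fun a ha => ?_))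
    · refine D.mul_mem (D.inv_mem hx) ?_
      rw [← h1 β hβG]
      exact ⟨x, hx, rfl⟩
    · have e := hβA _ (hcomA x a ha)
      rw [map_mul, map_mul, map_inv, hβA a ha] at e
      calc a * (x⁻¹ * β x) = x⁻¹ * (x * a * x⁻¹) * β x := by group
        _ = x⁻¹ * (β x * a * (β x)⁻¹) * β x := by rw [e]
        _ = x⁻¹ * β x * a := by group
  have hm1 : m = 1 := by rw [← hβo, hone, orderOf_one]
  rw [hkm, hm1, mul_one]

end Cfsg.Agent.S1949
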