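import Cfsg.Statements.S1950
import Cfsg.Agent.Lib.Blocks.PairCyclicMain
import Cfsg.Agent.Lib.PLocal.PSolvable
import Cfsg.Agent.S4145

set_option autoImplicit false
set_option linter.style.haveILetI false
open Cfsg

namespace Cfsg.Agent.S1950

universe u

/-- All Sylow `p`-subgroups are cyclic if one is. -/
theorem cyclic_sylow_of_le {G : Type u} [Group G] [Finite G] {p : ℕ} [Fact p.Prime] (P : Sylow p G)
    (hP : IsCyclic (P : Subgroup G)) (H : Subgroup G) (Q : Sylow p H) :
    IsCyclic (Q : Subgroup H) := by
  obtain ⟨R, hR⟩ := (Q.2.map H.subtype).exists_le_sylow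
  obtain ⟨g, rfl⟩ := MulAction.exists_smul_eq G P R
  have hc : IsCyclic ((g • P : Sylow p G) : Subgroup G) := by
    haveI := hP
    exact isCyclic_of_surjective _ (Sylow.equivSMul P g).surjective
  haveI := hc
  haveI : IsCyclic (Subgroup.map H.subtype (Q : Subgroup H)) :=
    isCyclic_of_injective (Subgroup.inclusion hR) (Subgroup.inclusion_injective hR)
  exact ((Q : Subgroup H).equivMapOfInjective H.subtype H.subtype_injective).isCyclic.2 inferInstance

/-- The pair condition forces `p`-solvability. -/
theorem of_pairs {p : ℕ} [hp : Fact p.Prime] (k : ℕ) :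
    ∀ (G : Type u) [Group G] [Finite G] (P : Sylow p G), IsCyclic (P : Subgroup G) → Nat.card G = k →
      (∀ x y : G, orderOf x = p → orderOf y = p →
        IsPSolvable p ↥(Subgroup.closure ({x, y} : Set G))) → IsPSolvable p G := by
  classical
  induction k using Nat.strong_induction_on with
  | _ k ih =>
  intro G _ _ P hP hk hpairs
  by_cases hpG : p ∣ Nat.card G
  swap
  · exact PSolvable.of_coprime ((hp.out.coprime_iff_not_dvd).2 hpG).symm
  have hsub : ∀ H : Subgroup G, H ≠ ⊤ → IsPSolvable p H := by
    intro H hH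
    obtain ⟨Q⟩ : Nonempty (Sylow p H) := inferInstance
    refine ih (Nat.card H) (lt_of_lt_of_eq ?_ hk) H Q (cyclic_sylow_of_le P hP H Q) rfl fun x y hx hy => ?_
    · exact lt_of_le_of_ne (Nat.le_of_dvd Nat.card_pos (Subgroup.card_subgroup_dvd_card H))
        fun h => hH (Subgroup.eq_top_of_card_eq H h)
    · have h := hpairs x y (by rw [Subgroup.orderOf_coe, hx]) (by rw [Subgroup.orderOf_coe, hy])
      have e : (Subgroup.closure ({x, y} : Set H)).map H.subtype =
          Subgroup.closure ({(x : G), (y : G)} : Set G) := by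
        rw [MonoidHom.map_closure, Set.image_pair]; rfl
      exact (PSolvable.congr
        (((Subgroup.closure ({x, y} : Set H)).equivMapOfInjective H.subtype H.subtype_injective).trans
          (MulEquiv.subgroupCongr e))).2 h
  by_cases hN : ∃ N : Subgroup G, N.Normal ∧ N ≠ ⊥ ∧ N ≠ ⊤
  · obtain ⟨N, hNn, hN0, hN1⟩ := hN
    haveI := hNn
    by_cases hpN : p ∣ Nat.card N
    · by_cases hpI : p ∣ N.index
      · exact (Cfsg.Agent.S4145.result p P hP N hpN hpI).2
      · exact PSolvable.of_extension N (hsub N hN1)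
          (PSolvable.of_coprime ((hp.out.coprime_iff_not_dvd).2 hpI).symm)
    -- a normal `p'`-subgroup
    set π := QuotientGroup.mk' N with hπ
    have hπs : Function.Surjective π := QuotientGroup.mk'_surjective N
    have hlift : ∀ a : G ⧸ N, orderOf a = p → ∃ g : G, orderOf g = p ∧ π g = a := by
      intro a ha
      obtain ⟨g, rfl⟩ := hπs a
      obtain ⟨i, m, hm, hord⟩ :=
        Nat.exists_eq_pow_mul_and_not_dvd (orderOf_pos g).ne' p hp.out.ne_one
      obtain ⟨m', -, hm'⟩ := Nat.exists_mul_mod_eq_one_of_coprime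
        ((hp.out.coprime_iff_not_dvd).2 hm).symm hp.out.one_lt
      refine ⟨(g ^ m) ^ m', ?_, ?_⟩
      · have h1 : π ((g ^ m) ^ m') = π g := by
          rw [map_pow, map_pow, ← pow_mul, ← pow_mod_orderOf, ha, hm', pow_one]
        have hpow : ((g ^ m) ^ m') ^ (p ^ i) = 1 := by
          rw [← pow_mul, ← pow_mul, show m * (m' * p ^ i) = p ^ i * m * m' by ring, ← hord, pow_mul,
            pow_orderOf_eq_one, one_pow]
        refine orderOf_eq_prime ?_ fun h => ?_
        · have hmem : ((g ^ m) ^ m') ^ p ∈ N := (QuotientGroup.eq_one_iff _).1 (by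
            show π (((g ^ m) ^ m') ^ p) = 1
            rw [map_pow, h1, ← ha, pow_orderOf_eq_one])
          rw [← orderOf_eq_one_iff]
          refine Nat.eq_one_of_dvd_coprimes (((hp.out.coprime_iff_not_dvd).2 hpN).pow_left i)
            (orderOf_dvd_of_pow_eq_one ?_) (Subgroup.orderOf_dvd_natCard N hmem)
          rw [← pow_mul, mul_comm, pow_mul, hpow, one_pow]
        · rw [h, map_one] at h1
          rw [← h1, orderOf_one] at ha
          exact hp.out.ne_one ha.symm
      · rw [map_pow, map_pow, ← pow_mul, ← pow_mod_orderOf, ha, hm', pow_one]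
    refine PSolvable.of_quotient N (Or.inr ((hp.out.coprime_iff_not_dvd).2 hpN).symm) ?_
    haveI := hP
    refine ih (Nat.card (G ⧸ N)) (lt_of_lt_of_eq ?_ hk) (G ⧸ N) (P.mapSurjective hπs) ?_ rfl fun a b ha hb => ?_
    · show N.index < Nat.card G
      rw [← N.card_mul_index]
      exact (Nat.lt_mul_iff_one_lt_left (Nat.pos_of_ne_zero Subgroup.index_ne_zero_of_finite)).2
        ((Subgroup.one_lt_card_iff_ne_bot N).2 hN0)
    · rw [Sylow.coe_mapSurjective]
      exact isCyclic_of_surjective _ (π.subgroupMap_surjective (P : Subgroup G))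
    · obtain ⟨x, hx, rfl⟩ := hlift a ha
      obtain ⟨y, hy, rfl⟩ := hlift b hb
      have e : (Subgroup.closure ({x, y} : Set G)).map π =
          Subgroup.closure ({π x, π y} : Set (G ⧸ N)) := by
        rw [MonoidHom.map_closure, Set.image_pair]
      exact (PSolvable.congr (MulEquiv.subgroupCongr e)).1
        (PSolvable.of_surjective (π.subgroupMap _) (π.subgroupMap_surjective _) (hpairs x y hx hy))
  push Not at hN
  haveI : Nontrivial G := Finite.one_lt_card_iff_nontrivial.1
    (lt_of_lt_of_le hp.out.one_lt (Nat.le_of_dvd Nat.card_pos hpG))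
  haveI : IsSimpleGroup G :=
    { eq_bot_or_eq_top_of_normal := fun N hN' => or_iff_not_imp_left.2 (hN N hN') }
  by_cases hcomm : ∀ a b : G, a * b = b * a
  · exact PSolvable.of_solvable (Group.isSolvable_of_comm hcomm)
  exfalso
  rcases eq_or_ne p 2 with rfl | hp2
  · have hmin : (Nat.card G).minFac = 2 := (Nat.minFac_eq_two_iff _).2 hpG
    have hc := IsCyclic.isComplement' hmin hP
    haveI := hP
    rcases (MonoidHom.normal_ker (MonoidHom.transferSylow P
      (hP.normalizer_le_centralizer hmin))).eq_bot_or_eq_top with hb | ht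
    · rw [hb] at hc
      have := Subgroup.isComplement'_bot_left.1 hc
      exact hcomm fun a b => congrArg Subtype.val (IsMulCommutative.is_comm.comm
        (⟨a, this ▸ Subgroup.mem_top a⟩ : (P : Subgroup G)) ⟨b, this ▸ Subgroup.mem_top b⟩)
    · rw [ht] at hc
      exact P.ne_bot_of_dvd_card hpG (Subgroup.isComplement'_top_left.1 hc)
  · haveI : Fintype G := Fintype.ofFinite G
    refine Blocks.PairCyc.main hcomm hp2 hpG P hP (fun y hy => hsub _ fun htop => ?_) hpairs
    have hy1 : y ∈ Subgroup.center G := Subgroup.mem_center_iff.2 fun g =>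
      Subgroup.mem_centralizer_singleton_iff.1 (htop ▸ Subgroup.mem_top g)
    rcases (inferInstance : (Subgroup.center G).Normal).eq_bot_or_eq_top with hb | ht
    · rw [hb, Subgroup.mem_bot] at hy1
      rw [hy1, orderOf_one] at hy
      exact hp.out.ne_one hy.symm
    · exact hcomm fun a b => (Subgroup.mem_center_iff.1 (ht ▸ Subgroup.mem_top a) b).symm

/-- Let G be a finite group whose Sylow p-subgroups are cyclic. Then G is p-solvable if and only if every two elements of order p of G generate a p-solvable subgroup. -/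
theorem result {G : Type*} [Group G] [Finite G] {p : ℕ} [Fact p.Prime] (P : Sylow p G) (hP : IsCyclic ↥(P : Subgroup G)) :
    Cfsg.IsPSolvable p G ↔ ∀ x y : G, orderOf x = p → orderOf y = p → Cfsg.IsPSolvable p ↥(Subgroup.closure ({x, y} : Set G)) :=
  ⟨fun h x y _ _ => PSolvable.subgroup _ h, fun h => of_pairs _ G P hP rfl h⟩

end Cfsg.Agent.S1950
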