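import Cfsg.Statements.S1951
import Cfsg.Agent.Lib.Blocks.PairSingular

set_option autoImplicit false
open Cfsg

namespace Cfsg.Agent.S1951

/-- Let p be a prime and P a nontrivial elementary abelian Sylow p-subgroup of a finite nonabelian simple group G whose nonidentity elements are all conjugate in G. Suppose that two elements of P are conjugate in G only if they are conjugate in N_G(P), that the centralizer of every element of order p of P has a normal p-complement, and that every two elements of order p of G generate a p-solvable subgroup. Then p = 2. -/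
theorem result {G : Type*} [Group G] [Finite G] [IsSimpleGroup G] (hG : ¬ IsMulCommutative G) {p : ℕ} [Fact p.Prime] (P : Sylow p G)
    (hP1 : (P : Subgroup G) ≠ ⊥) (hPe : Cfsg.IsElementaryAbelian p (P : Subgroup G))
    (hconj : ∀ x ∈ (P : Subgroup G), ∀ y ∈ (P : Subgroup G), x ≠ 1 → y ≠ 1 → ∃ g : G, g * x * g⁻¹ = y)
    (ha : ∀ x ∈ (P : Subgroup G), ∀ y ∈ (P : Subgroup G), (∃ g : G, g * x * g⁻¹ = y) →
      ∃ n ∈ Subgroup.normalizer ((P : Subgroup G) : Set G), n * x * n⁻¹ = y)
    (hb : ∀ x ∈ (P : Subgroup G), orderOf x = p → Cfsg.HasNormalPComplement p ↥(Subgroup.centralizer ({x} : Set G)))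
    (hc : ∀ x y : G, orderOf x = p → orderOf y = p → Cfsg.IsPSolvable p ↥(Subgroup.closure ({x, y} : Set G))) :
    p = 2 := by
  classical
  haveI : Fintype G := Fintype.ofFinite G
  by_contra hp2
  obtain ⟨x, hxP, hx1⟩ := (Subgroup.ne_bot_iff_exists_ne_one.1 hP1).elim fun x hx =>
    (⟨(x : G), x.2, fun h => hx (Subtype.ext h)⟩ : ∃ x, x ∈ (P : Subgroup G) ∧ x ≠ 1)
  have hxo : orderOf x = p := orderOf_eq_prime (hPe.2 x hxP) hx1
  refine Blocks.PairSing.main hp2 P
    (fun u hu v hv => congrArg Subtype.val (hPe.1.is_comm.comm (⟨u, hu⟩ : (P : Subgroup G)) ⟨v, hv⟩))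
    hPe.2 x hxo (fun y hy => ?_) (hb x hxP hxo) hc
  have hQ : IsPGroup p (Subgroup.zpowers y) :=
    IsPGroup.of_card (n := 1) (by rw [Nat.card_zpowers, hy, pow_one])
  obtain ⟨R, hR⟩ := hQ.exists_le_sylow
  obtain ⟨g, rfl⟩ := MulAction.exists_smul_eq G P R
  obtain ⟨y', hy', hyy⟩ := hR (Subgroup.mem_zpowers y)
  have hy1 : y' ≠ 1 := fun h => by
    change g * y' * g⁻¹ = y at hyy
    rw [h, mul_one, mul_inv_cancel] at hyy
    rw [← hyy, orderOf_one] at hy
    exact (Fact.out : p.Prime).ne_one hy.symm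
  obtain ⟨c, hc'⟩ := hconj x hxP y' hy' hx1 hy1
  refine (isConj_iff.2 ⟨c, hc'⟩).trans (isConj_iff.2 ⟨g, ?_⟩)
  exact hyy

end Cfsg.Agent.S1951
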