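import Cfsg.Statements.S1952
import Mathlib.Algebra.MonoidAlgebra.Basic
import Mathlib.LinearAlgebra.Dual.Lemmas
import Mathlib.Data.Nat.Choose.Factorization
import Mathlib.Algebra.CharP.Lemmas
import Mathlib.Algebra.CharP.Algebra
import Mathlib.GroupTheory.Sylow
import Mathlib.FieldTheory.Finite.Basic
import Mathlib.Data.Finite.Perm
import Mathlib.LinearAlgebra.FreeModule.Basic
import Mathlib.Algebra.Module.ZMod
import Mathlib.LinearAlgebra.Basis.VectorSpace
import Mathlib.GroupTheory.GroupAction.Quotient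

set_option autoImplicit false
set_option linter.style.haveILetI false
set_option linter.unusedVariables false
open Cfsg

namespace Cfsg.Agent.S1952

/-- Translates of a function on `ZMod p` with non-zero total span all functions. -/
theorem mem_of_translates {p : ℕ} [Fact p.Prime] (v : ZMod p → ZMod p) (hv : ∑ i, v i ≠ 0)
    (M : AddSubgroup (ZMod p → ZMod p)) (hM : ∀ k : ZMod p, (fun j => v (j - k)) ∈ M) :
    ∀ w, w ∈ M := by
  classical
  haveI : CharP (AddMonoidAlgebra (ZMod p) (ZMod p)) p :=
    charP_of_injective_ringHom (f := (AddMonoidAlgebra.singleZeroRingHom :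
      ZMod p →+* AddMonoidAlgebra (ZMod p) (ZMod p))) (fun a b h => by
        simpa [AddMonoidAlgebra.singleZeroRingHom] using h) p
  set f : AddMonoidAlgebra (ZMod p) (ZMod p) := ∑ i, AddMonoidAlgebra.single i (v i) with hf
  have hfc : ∀ j, f.coeff j = v j := fun j => by
    rw [hf, AddMonoidAlgebra.coeff_sum, Finsupp.finsetSum_apply]
    simp only [AddMonoidAlgebra.coeff_single]
    rw [Finset.sum_eq_single j]
    · exact Finsupp.single_eq_same
    · intro b _ hb; exact Finsupp.single_eq_of_ne (Ne.symm hb)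
    · intro h; exact absurd (Finset.mem_univ j) h
  have hfp : f ^ p = AddMonoidAlgebra.single 0 (∑ i, v i) := by
    rw [hf, sum_pow_char p]
    refine Eq.trans ?_ (map_sum (AddMonoidAlgebra.singleAddHom (0 : ZMod p)) v Finset.univ).symm
    refine Finset.sum_congr rfl fun i _ => ?_
    rw [AddMonoidAlgebra.single_pow, ZMod.pow_card]
    congr 1
    simp
  obtain ⟨u, hu⟩ : ∃ u, f * u = 1 := by
    refine ⟨f ^ (p - 1) * AddMonoidAlgebra.single 0 (∑ i, v i)⁻¹, ?_⟩
    rw [← mul_assoc, ← pow_succ', Nat.sub_add_cancel (Fact.out : p.Prime).one_le, hfp,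
      AddMonoidAlgebra.single_mul_single, add_zero]
    rw [show (∑ i, v i) * (∑ i, v i)⁻¹ = 1 from mul_inv_cancel₀ hv]
    rfl
  have hmul : ∀ g : AddMonoidAlgebra (ZMod p) (ZMod p), (fun j => (f * g).coeff j) ∈ M := by
    intro g
    induction g using AddMonoidAlgebra.induction_linear with
    | zero => convert M.zero_mem; simp
    | add g h hg hh =>
      convert M.add_mem hg hh using 1
      funext j
      rw [mul_add]
      rfl
    | single k c =>
      have h := M.nsmul_mem (hM k) c.val
      convert h using 1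
      funext j
      rw [AddMonoidAlgebra.coeff_mul_single_apply, hfc]
      simp [mul_comm, sub_eq_add_neg]
  intro w
  have := hmul (u * AddMonoidAlgebra.ofCoeff (Finsupp.equivFunOnFinite.symm w))
  rw [← mul_assoc, hu, one_mul] at this
  simpa using this

/-- Let P be a finite p-group with a normal elementary abelian subgroup A of index p, and let x ∈ A and y ∈ P with y outside A. If the product of the p conjugates y^(-i) x y^i (i = 0, …, p−1) is not the identity, then the wreath product Z_p ≀ Z_p, realised as a Sylow p-subgroup of the symmetric group of degree p², is a homomorphic image of P. -/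
theorem result {P : Type*} [Group P] [Finite P] {p : ℕ} [Fact p.Prime] (hP : IsPGroup p P) (A : Subgroup P) [A.Normal]
    (hA : Cfsg.IsElementaryAbelian p A) (hidx : A.index = p) (x y : P) (hx : x ∈ A) (hy : y ∉ A)
    (hprod : ((List.range p).map (fun i => (y ^ i)⁻¹ * x * y ^ i)).prod ≠ 1) :
    ∃ (Q : Sylow p (Equiv.Perm (Fin (p ^ 2)))) (f : P →* ↥(Q : Subgroup (Equiv.Perm (Fin (p ^ 2))))), Function.Surjective f := by
  classical
  have hp := (Fact.out : p.Prime)
  haveI : NeZero p := ⟨hp.ne_zero⟩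
  haveI := hA.1
  letI cgA : CommGroup A :=
    { (inferInstance : Group A) with mul_comm := fun a b => IsMulCommutative.is_comm.comm a b }
  haveI hmod : Module (ZMod p) (Additive A) := AddCommGroup.zmodModule fun a => by
    show (Additive.toMul a) ^ p = 1
    exact Subtype.ext (by rw [SubmonoidClass.coe_pow]; exact hA.2 _ (Additive.toMul a).2)
  have hconj : ∀ (g : P) (a : A), g⁻¹ * a * g ∈ A := fun g a => by
    simpa using (inferInstance : A.Normal).conj_mem (a : P) a.2 g⁻¹
  have hyp : y ^ p ∈ A := by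
    rw [← QuotientGroup.eq_one_iff, QuotientGroup.mk_pow, ← hidx, Subgroup.index_eq_card]
    exact pow_card_eq_one'
  let c : ℕ → A → A := fun i a => ⟨(y ^ i)⁻¹ * a * y ^ i, hconj _ a⟩
  have hper : ∀ (a : A) (i : ℕ), c (i % p) a = c i a := by
    intro a i
    apply Subtype.ext
    show (y ^ (i % p))⁻¹ * (a : P) * y ^ (i % p) = (y ^ i)⁻¹ * a * y ^ i
    conv_rhs => rw [← Nat.mod_add_div i p, pow_add, pow_mul]
    have hb : ((y ^ p) ^ (i / p)) ∈ A := A.pow_mem hyp _
    have h1 := congrArg Subtype.val (mul_comm (⟨_, hb⟩ : A) ⟨_, hconj (y ^ (i % p)) a⟩)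
    change (y ^ p) ^ (i / p) * ((y ^ (i % p))⁻¹ * a * y ^ (i % p)) =
      (y ^ (i % p))⁻¹ * a * y ^ (i % p) * (y ^ p) ^ (i / p) at h1
    rw [mul_inv_rev]
    calc (y ^ (i % p))⁻¹ * (a : P) * y ^ (i % p)
        = ((y ^ p) ^ (i / p))⁻¹ * ((y ^ p) ^ (i / p) * ((y ^ (i % p))⁻¹ * a * y ^ (i % p))) := by group
      _ = _ := by rw [h1]; group
  -- the functional
  have hz : ∃ lam : Additive A →ₗ[ZMod p] ZMod p,
      lam (Additive.ofMul (((List.range p).map fun i => c i ⟨x, hx⟩).prod)) ≠ 0 := by
    by_contra hcon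
    push Not at hcon
    refine hprod ?_
    have h0 := (Module.forall_dual_apply_eq_zero_iff (ZMod p) _).1 hcon
    have h1 : ((List.range p).map fun i => c i ⟨x, hx⟩).prod = 1 := h0
    have h2 := congrArg A.subtype h1
    rw [map_one, map_list_prod, List.map_map] at h2
    exact h2
  obtain ⟨lam, hlam⟩ := hz
  let v : A → ZMod p → ZMod p := fun a j => lam (Additive.ofMul (c j.val a))
  let Φ : Additive A →+ (ZMod p → ZMod p) :=
    AddMonoidHom.mk' (fun a => v (Additive.toMul a)) fun a b => by
      funext j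
      show lam _ = lam _ + lam _
      rw [← map_add, ← ofMul_mul]
      congr 2
      apply Subtype.ext
      simp [c, mul_assoc]
  have hΦsum : ∑ i : ZMod p, v ⟨x, hx⟩ i ≠ 0 := by
    convert hlam using 1
    have hlp : ∀ n, ((List.range n).map fun i => c i ⟨x, hx⟩).prod = ∏ i ∈ Finset.range n, c i ⟨x, hx⟩ := by
      intro n
      induction n with
      | zero => simp
      | succ n ih => simp [List.range_succ, Finset.prod_range_succ, ih]
    rw [hlp, ofMul_prod, map_sum, ← Fin.sum_univ_eq_sum_range]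
    obtain ⟨q, rfl⟩ : ∃ q, p = q + 1 := ⟨p - 1, by have := hp.pos; omega⟩
    rfl
  have hΦ : Function.Surjective Φ := fun w => by
    refine mem_of_translates (v ⟨x, hx⟩) hΦsum Φ.range (fun k => ?_) w
    refine ⟨Additive.ofMul (c (p - k.val) ⟨x, hx⟩), ?_⟩
    funext j
    show lam (Additive.ofMul (c j.val (c (p - k.val) ⟨x, hx⟩))) = lam (Additive.ofMul (c (j - k).val ⟨x, hx⟩))
    congr 2
    have e : c j.val (c (p - k.val) ⟨x, hx⟩) = c (p - k.val + j.val) ⟨x, hx⟩ := by
      apply Subtype.ext
      simp [c, pow_add, mul_assoc]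
    rw [e, ← hper _ (p - k.val + j.val)]
    congr 1
    rw [← ZMod.val_natCast, Nat.cast_add, Nat.cast_sub k.val_lt.le]
    simp [sub_eq_add_neg, add_comm]
  -- the subgroup `K`
  let L : Subgroup A := ((lam.toAddMonoidHom.comp (MonoidHom.id A).toAdditive).toMultiplicativeRight :
    A →* Multiplicative (ZMod p)).ker
  have hLmem : ∀ a : A, a ∈ L ↔ lam (Additive.ofMul a) = 0 := fun a => Iff.rfl
  set K := L.map A.subtype with hK
  have hLidx : L.index = p := by
    rw [Subgroup.index_ker, MonoidHom.range_eq_top.2, Subgroup.card_top]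
    · simp
    intro w
    obtain ⟨a, ha⟩ := hΦ (fun _ => w.toAdd)
    refine ⟨c (0 : ZMod p).val (Additive.toMul a), ?_⟩
    exact congrArg Multiplicative.ofAdd (congrFun ha 0)
  have hKidx : K.index = p ^ 2 := by
    rw [hK, Subgroup.index_map_subtype, hLidx, hidx, sq]
  set φ := MulAction.toPermHom P (P ⧸ K) with hφ
  -- the kernel
  have hkerA : φ.ker ≤ A := by
    intro g hg
    rw [hφ, ← Subgroup.normalCore_eq_ker] at hg
    exact Subgroup.map_subtype_le L (K.normalCore_le hg)
  have hker : (φ.ker.subgroupOf A) ≤ ((AddSubgroup.toSubgroup' Φ.ker)) := by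
    intro a ha
    funext j
    have h1 : (a : P) ∈ K.normalCore := by rw [Subgroup.normalCore_eq_ker]; exact ha
    have h2 := h1 ((y ^ j.val)⁻¹)
    rw [inv_inv] at h2
    obtain ⟨b, hb, hbe⟩ := h2
    have : b = c j.val a := Subtype.ext hbe
    rw [this] at hb
    exact (hLmem _).1 hb
  have hdvd : p ^ (p + 1) ≤ φ.ker.index := by
    rw [← Subgroup.relIndex_mul_index hkerA, hidx, pow_succ]
    refine Nat.mul_le_mul_right _ ?_
    have h1 : Φ.ker.index = p ^ p := by
      rw [AddSubgroup.index_ker, AddMonoidHom.range_eq_top.2 hΦ, AddSubgroup.card_top, Nat.card_fun,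
        Nat.card_zmod]
    rw [← h1, show Φ.ker.index = (AddSubgroup.toSubgroup' Φ.ker).index from rfl]
    exact Nat.le_of_dvd (Nat.pos_of_ne_zero Subgroup.index_ne_zero_of_finite)
      (Subgroup.index_dvd_of_le hker)
  have e : Equiv.Perm (P ⧸ K) ≃* Equiv.Perm (Fin (p ^ 2)) := by
    refine Equiv.permCongrHom ((Finite.equivFin (P ⧸ K)).trans (finCongr ?_))
    rw [← hKidx]; rfl
  set ψ := e.toMonoidHom.comp φ with hψ
  have hψp : IsPGroup p ψ.range := hP.of_surjective ψ.rangeRestrict ψ.rangeRestrict_surjective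
  obtain ⟨Q, hQ⟩ := hψp.exists_le_sylow
  have hQcard : Nat.card (Q : Subgroup (Equiv.Perm (Fin (p ^ 2)))) = p ^ (p + 1) := by
    rw [Q.card_eq_multiplicity, Nat.card_perm, Nat.card_fin]
    congr 1
    rw [sq, Nat.factorization_factorial_mul hp]
    have := Nat.factorization_factorial_mul (n := 1) hp
    rw [mul_one, Nat.factorial_one, Nat.factorization_one] at this
    rw [this]
    simp
    ring
  have heq : ψ.range = (Q : Subgroup (Equiv.Perm (Fin (p ^ 2)))) := by
    refine Subgroup.eq_of_le_of_card_ge hQ ?_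
    rw [hQcard, ← Subgroup.index_ker, hψ,
      MonoidHom.ker_comp_of_injective _ _ e.injective]
    exact hdvd
  refine ⟨Q, ψ.codRestrict _ (fun g => heq.le ⟨g, rfl⟩), fun q => ?_⟩
  obtain ⟨g, hg⟩ := heq.ge q.2
  exact ⟨g, Subtype.ext hg⟩

end Cfsg.Agent.S1952
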