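import Cfsg.Statements.S1953
import Cfsg.Agent.Lib.Functors.AutFreeFusion

set_option autoImplicit false
set_option linter.style.haveILetI false
set_option linter.unusedVariables false
open Cfsg

namespace Cfsg.Agent.S1953

open Cfsg.Agent Cfsg.Agent.Functors Cfsg.Agent.ClosedZJ

theorem autFree_of_noSection {G : Type*} [Group G] [Finite G] {p : ℕ} [Fact p.Prime]
    (hfree : ∀ Q : Subgroup G, IsPGroup p ↥Q → ¬ ∃ (H K : Subgroup G) (_ : (K.subgroupOf H).Normal),
      Subgroup.centralizer (Q : Set G) ≤ K ∧ K ≤ H ∧ H ≤ Subgroup.normalizer (Q : Set G) ∧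
      Nonempty ((↥H ⧸ K.subgroupOf H) ≃* Matrix.SpecialLinearGroup (Fin 2) (ZMod p))) :
    AutFreeness.AutFree p G := by
  classical
  intro Q hQ H hH ψ hψ
  by_contra hcon
  push_neg at hcon
  set C := Subgroup.centralizer (Q : Set G) with hC
  have hHC : H ≤ Subgroup.normalizer (C : Set G) := by
    intro n hn
    refine Subgroup.mem_normalizer_iff.2 fun w => ?_
    have key : ∀ y ∈ Subgroup.normalizer (Q : Set G), ∀ w ∈ C, y * w * y⁻¹ ∈ C := fun y hy w hw =>
      Subgroup.mem_centralizer_iff.2 fun q hq => by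
        have hq' : y⁻¹ * q * y ∈ Q := by
          simpa using (Subgroup.mem_normalizer_iff.1 (inv_mem hy) q).1 hq
        calc q * (y * w * y⁻¹) = y * ((y⁻¹ * q * y) * w) * y⁻¹ := by group
          _ = y * w * y⁻¹ * q := by rw [Subgroup.mem_centralizer_iff.1 hw _ hq']; group
    exact ⟨key n (hH hn) w, fun h => by simpa [mul_assoc] using key _ (inv_mem (hH hn)) _ h⟩
  have hdec : ∀ x : ↥(H ⊔ C), ∃ h : H, (h : G)⁻¹ * x ∈ C := by
    intro x
    have hx : (x : G) ∈ ((H ⊔ C : Subgroup G) : Set G) := x.2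
    rw [Subgroup.coe_mul_of_left_le_normalizer_right _ _ hHC] at hx
    obtain ⟨h, hh, c, hc, hx⟩ := Set.mem_mul.1 hx
    exact ⟨⟨h, hh⟩, by rw [← hx]; simpa using hc⟩
  choose f hf using hdec
  have huniq : ∀ (x : ↥(H ⊔ C)) (h : H), (h : G)⁻¹ * x ∈ C → ψ (f x) = ψ h := by
    intro x h hh
    have h1 : ((h⁻¹ * f x : H) : G) ∈ C := by
      have := mul_mem hh (inv_mem (hf x))
      simpa [mul_assoc] using this
    have h2 := hcon _ h1
    rw [map_mul, map_inv, inv_mul_eq_one] at h2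
    exact h2.symm
  let φ : ↥(H ⊔ C) →* Matrix.SpecialLinearGroup (Fin 2) (ZMod p) :=
    MonoidHom.mk' (fun x => ψ (f x)) fun x y => by
      show ψ (f (x * y)) = _
      rw [huniq (x * y) (f x * f y) ?_, map_mul]
      have h1 : ((f y : G))⁻¹ * ((f x : G)⁻¹ * x) * (f y : G) ∈ C := by
        simpa using (Subgroup.mem_normalizer_iff.1 (hHC (inv_mem (f y).2)) _).1 (hf x)
      have := mul_mem h1 (hf y)
      simpa [mul_assoc] using this
  have hφ : Function.Surjective φ := fun M => by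
    obtain ⟨h, hh⟩ := hψ M
    refine ⟨⟨h, Subgroup.mem_sup_left h.2⟩, ?_⟩
    show ψ (f _) = M
    rw [huniq _ h (by simp), hh]
  have heq : (φ.ker.map (H ⊔ C).subtype).subgroupOf (H ⊔ C) = φ.ker :=
    Subgroup.comap_map_eq_self_of_injective (H ⊔ C).subtype_injective _
  haveI : ((φ.ker.map (H ⊔ C).subtype).subgroupOf (H ⊔ C)).Normal := by rw [heq]; infer_instance
  refine hfree Q hQ ⟨H ⊔ C, φ.ker.map (H ⊔ C).subtype, inferInstance, fun c hc => ?_,
    Subgroup.map_subtype_le _, sup_le hH (Subgroup.centralizer_le_normalizer _),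
    ⟨(QuotientGroup.quotientMulEquivOfEq heq).trans (QuotientGroup.quotientKerEquivOfSurjective φ hφ)⟩⟩
  refine ⟨⟨c, Subgroup.mem_sup_right hc⟩, ?_, rfl⟩
  show ψ (f _) = 1
  rw [huniq _ 1 (by simpa using hc), map_one]

/-- Let p be an odd prime and P a Sylow p-subgroup of the finite group G, and suppose that for no p-subgroup Q of G does N_G(Q)/C_G(Q) have a section isomorphic to SL₂(p). Call a subgroup Q of P centric-radical when Z(Q) is a Sylow p-subgroup of C_G(Q) and the only normal subgroup X of N_G(Q) containing Q·C_G(Q) such that the index of Q·C_G(Q) in X is a power of p is Q·C_G(Q) itself (that is, N_G(Q)/Q·C_G(Q) has no nontrivial normal p-subgroup). Then there is a centric-radical subgroup Q of P contained in every centric-radical subgroup of P; it is normal in P, and N_G(Q) controls strong fusion in P: whenever a subgroup A of P has g A g⁻¹ ≤ P, the element g is a product h c with h in N_G(Q) and c centralizing A. -/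
theorem result {G : Type*} [Group G] [Finite G] {p : ℕ} [Fact p.Prime] (hp : p ≠ 2) (P : Sylow p G)
    (hfree : ∀ Q : Subgroup G, IsPGroup p ↥Q → ¬ ∃ (H K : Subgroup G) (_ : (K.subgroupOf H).Normal),
      Subgroup.centralizer (Q : Set G) ≤ K ∧ K ≤ H ∧ H ≤ Subgroup.normalizer (Q : Set G) ∧
      Nonempty ((↥H ⧸ K.subgroupOf H) ≃* Matrix.SpecialLinearGroup (Fin 2) (ZMod p)))
    (cr : Subgroup G → Prop)
    (hcr : ∀ Q : Subgroup G, cr Q ↔ (Q ≤ (P : Subgroup G) ∧
      (∃ R : Sylow p ↥(Subgroup.centralizer (Q : Set G)),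
        (R : Subgroup ↥(Subgroup.centralizer (Q : Set G))).map (Subgroup.centralizer (Q : Set G)).subtype = Q ⊓ Subgroup.centralizer (Q : Set G)) ∧
      ∀ X : Subgroup G, X ≤ Subgroup.normalizer (Q : Set G) →
        (∀ n ∈ Subgroup.normalizer (Q : Set G), X.map (MulAut.conj n).toMonoidHom = X) →
        Q ⊔ Subgroup.centralizer (Q : Set G) ≤ X → (∃ k : ℕ, (Q ⊔ Subgroup.centralizer (Q : Set G)).relIndex X = p ^ k) →
        X = Q ⊔ Subgroup.centralizer (Q : Set G))) :
    ∃ Q : Subgroup G, cr Q ∧ (∀ R : Subgroup G, cr R → Q ≤ R) ∧ (∀ x ∈ (P : Subgroup G), Q.map (MulAut.conj x).toMonoidHom = Q) ∧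
      ∀ A : Subgroup G, A ≤ (P : Subgroup G) → ∀ g : G, A.map (MulAut.conj g).toMonoidHom ≤ (P : Subgroup G) →
        ∃ h ∈ Subgroup.normalizer (Q : Set G), ∃ c ∈ Subgroup.centralizer (A : Set G), g = h * c := by
  obtain ⟨Q, hQS, hSQ, hcen, hrad, hctl⟩ :=
    AutFreeFusion.exists_least hp (autFree_of_noSection hfree) P
  set S := (P : Subgroup G) with hS
  refine ⟨Q, (hcr Q).2 ⟨hQS, ?_, hrad⟩, fun R hR => ?_, fun x hx => map_cj_eq_iff.2 (hSQ hx),
    fun A hA g hgA => ?_⟩
  · obtain ⟨R, hR⟩ := (((isSylowIn_sylow P).of_le hSQ le_top :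
      IsSylowIn p S (Subgroup.normalizer (Q : Set G))).inf_normalized
      (E := Subgroup.centralizer (Q : Set G)) (Subgroup.centralizer_le_normalizer _) (by
        intro n hn
        refine map_cj_eq_iff.1 (Subgroup.eq_of_le_of_card_ge ?_ (card_map_cj _ _).ge)
        have h : Q.map (cj n) = Q := map_cj_eq_iff.2 hn
        rintro _ ⟨c, hc, rfl⟩
        refine Subgroup.mem_centralizer_iff.2 fun q hq => ?_
        obtain ⟨q', hq', rfl⟩ := h.ge hq
        rw [← map_mul, ← map_mul, Subgroup.mem_centralizer_iff.1 hc q' hq'])).exists_sylow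
    refine ⟨R, ?_⟩
    rw [hR, Subgroup.subgroupOf_map_subtype, inf_assoc, inf_idem]
    exact le_antisymm (le_inf hcen inf_le_right) (inf_le_inf_right _ hQS)
  · have hR' := (hcr R).1 hR
    set CR := Subgroup.centralizer (R : Set G) with hCR
    set NR := Subgroup.normalizer (R : Set G) with hNR
    obtain ⟨hRS, ⟨R0, hR0⟩, hRrad⟩ := hR'
    have hSC : S ⊓ CR ≤ R := by
      have hle : (R0 : Subgroup CR) ≤ S.subgroupOf CR := fun x hx =>
        hRS (Subgroup.mem_inf.1 (hR0.le ⟨x, hx, rfl⟩)).1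
      have h := R0.is_maximal' ((P.isPGroup').comap_of_injective CR.subtype CR.subtype_injective) hle
      rintro x ⟨hxS, hxC⟩
      exact (Subgroup.mem_inf.1 (hR0.le ⟨⟨x, hxC⟩, h.le hxS, rfl⟩)).1
    set Y := Q ⊓ NR with hY
    set RC := R ⊔ CR with hRC
    have hNRC : NR ≤ Subgroup.normalizer (RC : Set G) := by
      intro n hn
      refine map_cj_eq_iff.1 (Subgroup.eq_of_le_of_card_ge ?_ (card_map_cj _ _).ge)
      have h : R.map (cj n) = R := map_cj_eq_iff.2 hn
      rw [hRC, Subgroup.map_sup, h]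
      refine sup_le_sup_left ?_ _
      rintro _ ⟨c, hc, rfl⟩
      refine Subgroup.mem_centralizer_iff.2 fun q hq => ?_
      obtain ⟨q', hq', rfl⟩ := h.ge hq
      rw [← map_mul, ← map_mul, Subgroup.mem_centralizer_iff.1 hc q' hq']
    have hCN : CR ≤ NR := Subgroup.centralizer_le_normalizer _
    have hRCN : RC ≤ NR := sup_le Subgroup.le_normalizer hCN
    set X := Y ⊔ RC with hX
    have hXN : X ≤ NR := sup_le inf_le_right hRCN
    have hXn : ∀ n ∈ NR, X.map (MulAut.conj n).toMonoidHom = X := by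
      intro n hn
      obtain ⟨-, -, m, hm, hma⟩ := hctl (R : Set G) n hRS (by
        rintro _ ⟨r, hr, rfl⟩
        exact hRS ((Subgroup.mem_normalizer_iff.1 hn r).1 hr))
      have hmR : m ∈ NR := map_cj_eq_iff.1 (Subgroup.eq_of_le_of_card_ge (by
        rintro _ ⟨r, hr, rfl⟩
        rw [cj_apply, hma r hr]
        exact (Subgroup.mem_normalizer_iff.1 hn r).1 hr) (card_map_cj _ _).ge)
      have hc : m⁻¹ * n ∈ CR := Subgroup.mem_centralizer_iff.2 fun r hr => by
        have h := hma r hr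
        calc r * (m⁻¹ * n) = m⁻¹ * (m * r * m⁻¹) * n := by group
          _ = m⁻¹ * n * r := by rw [h]; group
      have hmX : m ∈ Subgroup.normalizer (X : Set G) := by
        refine map_cj_eq_iff.1 (Subgroup.eq_of_le_of_card_ge ?_ (card_map_cj _ _).ge)
        rw [hX, Subgroup.map_sup, map_cj_eq_iff.2 (hNRC hmR)]
        refine sup_le_sup_right ?_ _
        rintro _ ⟨y, ⟨hyQ, hyN⟩, rfl⟩
        exact Subgroup.mem_inf.2 ⟨(Subgroup.mem_normalizer_iff.1 hm y).1 hyQ,
          NR.mul_mem (NR.mul_mem hmR hyN) (NR.inv_mem hmR)⟩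
      have hcX : m⁻¹ * n ∈ X := Subgroup.mem_sup_right (Subgroup.mem_sup_right hc)
      have := mul_mem hmX (Subgroup.le_normalizer (H := X) hcX)
      rw [mul_inv_cancel_left] at this
      exact map_cj_eq_iff.2 this
    have hk : ∃ k : ℕ, RC.relIndex X = p ^ k := by
      haveI : (RC.subgroupOf X).Normal :=
        Subgroup.normal_subgroupOf_iff_le_normalizer le_sup_right |>.2 (hXN.trans hNRC)
      have hq : IsPGroup p (↥X ⧸ RC.subgroupOf X) := fun q => by
        induction q using QuotientGroup.induction_on with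
        | _ x =>
          have hx : (x : G) ∈ ((Y ⊔ RC : Subgroup G) : Set G) := x.2
          rw [Subgroup.coe_mul_of_left_le_normalizer_right _ _ ((inf_le_right : Y ≤ NR).trans hNRC)] at hx
          obtain ⟨y, hy, z, hz, hx⟩ := Set.mem_mul.1 hx
          obtain ⟨k, hk⟩ := P.isPGroup' ⟨y, hQS (Subgroup.mem_inf.1 hy).1⟩
          refine ⟨k, ?_⟩
          have hxy : (x : ↥X ⧸ RC.subgroupOf X) = ((⟨y, Subgroup.mem_sup_left hy⟩ : ↥X) : ↥X ⧸ RC.subgroupOf X) := by
            rw [eq_comm, QuotientGroup.eq, Subgroup.mem_subgroupOf]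
            simpa [← hx] using hz
          rw [hxy, ← QuotientGroup.mk_pow, QuotientGroup.eq_one_iff, Subgroup.mem_subgroupOf]
          have : y ^ p ^ k = 1 := congrArg Subtype.val hk
          simp [this]
      obtain ⟨k, hk⟩ := IsPGroup.iff_card.1 hq
      exact ⟨k, by rw [Subgroup.relIndex, Subgroup.index_eq_card, hk]⟩
    have hXeq := hRrad X hXN hXn le_sup_right hk
    have hYR : Y ≤ R := by
      intro y hy
      have hy' : y ∈ ((R ⊔ CR : Subgroup G) : Set G) := hXeq.le (Subgroup.mem_sup_left hy)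
      rw [Subgroup.coe_mul_of_right_le_normalizer_left _ _ hCN] at hy'
      obtain ⟨r, hr, c, hc, rfl⟩ := Set.mem_mul.1 hy'
      refine mul_mem hr (hSC (Subgroup.mem_inf.2 ⟨?_, hc⟩))
      have := mul_mem (inv_mem (hRS hr)) (hQS (Subgroup.mem_inf.1 hy).1)
      simpa using this
    by_contra hQR
    have hlt : R < Q ⊔ R := lt_of_le_of_ne le_sup_right fun h => hQR (le_sup_left.trans h.ge)
    refine (lt_inf_normalizer_of_lt (P.isPGroup'.to_le (sup_le hQS hRS)) hlt).not_ge fun z hz => ?_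
    obtain ⟨hz1, hz2⟩ := Subgroup.mem_inf.1 hz
    have hz' : z ∈ ((Q ⊔ R : Subgroup G) : Set G) := hz1
    rw [Subgroup.coe_mul_of_right_le_normalizer_left _ _ (hRS.trans hSQ)] at hz'
    obtain ⟨q, hq, r, hr, rfl⟩ := Set.mem_mul.1 hz'
    refine mul_mem (hYR (Subgroup.mem_inf.2 ⟨hq, ?_⟩)) hr
    have := mul_mem hz2 (inv_mem (Subgroup.le_normalizer hr))
    rwa [mul_inv_cancel_right] at this
  · obtain ⟨-, -, n, hn, hna⟩ := hctl (A : Set G) g hA (by
      rintro _ ⟨a, ha, rfl⟩
      exact hgA ⟨a, ha, rfl⟩)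
    refine ⟨n, hn, n⁻¹ * g, Subgroup.mem_centralizer_iff.2 fun a ha => ?_, by group⟩
    calc a * (n⁻¹ * g) = n⁻¹ * (n * a * n⁻¹) * g := by group
      _ = n⁻¹ * g * a := by rw [hna a ha]; group

end Cfsg.Agent.S1953
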