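import Cfsg.Statements.S1954
import Cfsg.Agent.Lib.Functors.SeriesNormal
import Cfsg.Agent.Lib.LocalEven.Basic

set_option autoImplicit false
set_option linter.style.haveILetI false
set_option linter.unusedVariables false
open Cfsg

namespace Cfsg.Agent.S1954

open Cfsg.Agent Cfsg.Agent.Functors Cfsg.Agent.ClosedZJ
open scoped commutatorElement

/-- Let N be a normal subgroup of the finite group G, P a Sylow p-subgroup of G, and V a subgroup of P ∩ N normal in P ∩ N such that N_N(V) controls strong fusion in P ∩ N with respect to N (whenever a subgroup A of P ∩ N has n A n⁻¹ ≤ P ∩ N for some n in N, then n = h c with h in N_N(V) and c in C_N(A)). Let W be the subgroup generated by the conjugates of V under N_G(P ∩ N). Then N_G(W) controls strong fusion in P with respect to G. -/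
theorem result {G : Type*} [Group G] [Finite G] {p : ℕ} [Fact p.Prime] (N : Subgroup G) [N.Normal] (P : Sylow p G) (V : Subgroup G)
    (hV : V ≤ (P : Subgroup G) ⊓ N) (hVn : ∀ x ∈ (P : Subgroup G) ⊓ N, V.map (MulAut.conj x).toMonoidHom = V)
    (hctrl : ∀ A : Subgroup G, A ≤ (P : Subgroup G) ⊓ N → ∀ n ∈ N, A.map (MulAut.conj n).toMonoidHom ≤ (P : Subgroup G) ⊓ N →
      ∃ h ∈ N ⊓ Subgroup.normalizer (V : Set G), ∃ c ∈ N ⊓ Subgroup.centralizer (A : Set G), n = h * c)
    (W : Subgroup G) (hW : W = Subgroup.closure (⋃ x ∈ Subgroup.normalizer (((P : Subgroup G) ⊓ N : Subgroup G) : Set G),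
      ((V.map (MulAut.conj x).toMonoidHom : Subgroup G) : Set G))) :
    ∀ A : Subgroup G, A ≤ (P : Subgroup G) → ∀ g : G, A.map (MulAut.conj g).toMonoidHom ≤ (P : Subgroup G) →
        ∃ h ∈ Subgroup.normalizer (W : Set G), ∃ c ∈ Subgroup.centralizer (A : Set G), g = h * c := by
  classical
  set P0 := (P : Subgroup G) ⊓ N with hP0
  set M := Subgroup.normalizer (P0 : Set G) with hM
  have hN : ∀ {n : G}, n ∈ N → ∀ m : G, m * n * m⁻¹ ∈ N := fun hn m => (inferInstance : N.Normal).conj_mem _ hn m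
  have hVm : ∀ m ∈ M, V.map (cj m) ≤ P0 := fun m hm => by
    rintro _ ⟨v, hv, rfl⟩
    exact (Subgroup.mem_normalizer_iff.1 hm v).1 (hV hv)
  -- simultaneous control by finitely many conjugates
  have key : ∀ s : Finset G, (∀ m ∈ s, m ∈ M) → ∀ A : Subgroup G, A ≤ P0 → ∀ n ∈ N, A.map (cj n) ≤ P0 →
      ∃ n' ∈ N, (∀ a ∈ A, n' * a * n'⁻¹ = n * a * n⁻¹) ∧ ∀ m ∈ s, (V.map (cj m)).map (cj n') = V.map (cj m) := by
    intro s
    induction s using Finset.induction_on with
    | empty => exact fun _ A _ n hn _ => ⟨n, hn, fun a _ => rfl, fun m hm => absurd hm (Finset.notMem_empty m)⟩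
    | @insert m0 s hm0 ih =>
      intro hs A hA n hn hnA
      obtain ⟨n1, hn1, hn1a, hn1s⟩ := ih (fun m hm => hs m (Finset.mem_insert_of_mem hm)) A hA n hn hnA
      have hm0M := hs m0 (Finset.mem_insert_self m0 s)
      set A1 := A ⊔ ⨆ m ∈ s, V.map (cj m) with hA1
      have hA1P : A1 ≤ P0 := sup_le hA (iSup₂_le fun m hm => hVm m (hs m (Finset.mem_insert_of_mem hm)))
      have hA1n : A1.map (cj n1) ≤ P0 := by
        rw [hA1, Subgroup.map_sup, Subgroup.map_iSup]
        refine sup_le ?_ (iSup_le fun m => ?_)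
        · rintro _ ⟨a, ha, rfl⟩
          rw [cj_apply, hn1a a ha]
          exact hnA ⟨a, ha, rfl⟩
        · rw [Subgroup.map_iSup]
          refine iSup_le fun hm => ?_
          rw [hn1s m hm]
          exact hVm m (hs m (Finset.mem_insert_of_mem hm))
      have hA2 : A1.map (cj m0⁻¹) ≤ P0 := by
        rintro _ ⟨a, ha, rfl⟩
        exact (Subgroup.mem_normalizer_iff.1 (inv_mem hm0M) a).1 (hA1P ha)
      obtain ⟨h, hh, c, hc, hhc⟩ := hctrl (A1.map (cj m0⁻¹)) hA2 (m0⁻¹ * n1 * m0⁻¹⁻¹) (hN hn1 m0⁻¹) (by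
        show (A1.map (cj m0⁻¹)).map (cj (m0⁻¹ * n1 * m0⁻¹⁻¹)) ≤ P0
        rw [map_map_cj, inv_inv, show m0⁻¹ * n1 * m0 * m0⁻¹ = m0⁻¹ * n1 by group, ← map_map_cj]
        rintro _ ⟨a, ha, rfl⟩
        exact (Subgroup.mem_normalizer_iff.1 (inv_mem hm0M) a).1 (hA1n ha))
      obtain ⟨hhN, hhV⟩ := Subgroup.mem_inf.1 hh
      have hagree : ∀ a ∈ A1, (m0 * h * m0⁻¹) * a * (m0 * h * m0⁻¹)⁻¹ = n1 * a * n1⁻¹ := by
        intro a ha
        have h1 := Subgroup.mem_centralizer_iff.1 (Subgroup.mem_inf.1 hc).2 _ ⟨a, ha, rfl⟩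
        rw [cj_apply] at h1
        have e : h = m0⁻¹ * n1 * m0⁻¹⁻¹ * c⁻¹ := by rw [hhc]; group
        rw [e]
        calc _ = n1 * m0 * (c⁻¹ * (m0⁻¹ * a * m0⁻¹⁻¹ * c)) * m0⁻¹ * n1⁻¹ := by group
          _ = n1 * m0 * (c⁻¹ * (c * (m0⁻¹ * a * m0⁻¹⁻¹))) * m0⁻¹ * n1⁻¹ := by rw [h1]
          _ = n1 * a * n1⁻¹ := by group
      refine ⟨m0 * h * m0⁻¹, hN hhN m0, fun a ha => (hagree a (Subgroup.mem_sup_left ha)).trans (hn1a a ha), ?_⟩
      intro m hm
      rcases Finset.mem_insert.1 hm with rfl | hm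
      · rw [map_map_cj, inv_mul_cancel_right, ← map_map_cj, map_cj_eq_iff.2 hhV]
      · refine Eq.trans ?_ (hn1s m hm)
        refine le_antisymm ?_ ?_
        all_goals
          rintro _ ⟨v, hv, rfl⟩
          refine ⟨v, hv, ?_⟩
          have := hagree v (Subgroup.mem_sup_right (Subgroup.mem_iSup_of_mem m (Subgroup.mem_iSup_of_mem hm hv)))
          simp only [cj_apply]
          first | exact this | exact this.symm
  have hVW : ∀ m ∈ M, V.map (cj m) ≤ W := fun m hm => by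
    rw [hW]
    exact fun v hv => Subgroup.subset_closure (Set.mem_biUnion hm hv)
  have hWn : ∀ y : G, (∀ m ∈ M, (V.map (cj m)).map (cj y) ≤ W) → y ∈ Subgroup.normalizer (W : Set G) := by
    intro y hy
    refine map_cj_eq_iff.1 (Subgroup.eq_of_le_of_card_ge ?_ (card_map_cj _ _).ge)
    refine Subgroup.map_le_iff_le_comap.2 ?_
    rw [hW, Subgroup.closure_le, Set.iUnion₂_subset_iff]
    rw [← hW]
    exact fun m hm v hv => hy m hm ⟨v, hv, rfl⟩
  have hMW : M ≤ Subgroup.normalizer (W : Set G) := fun y hy => hWn y fun m hm => by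
    rw [map_map_cj]; exact hVW _ (mul_mem hy hm)
  have hNW : ∀ A : Subgroup G, A ≤ P0 → ∀ n ∈ N, A.map (cj n) ≤ P0 →
      ∃ n' ∈ Subgroup.normalizer (W : Set G), ∀ a ∈ A, n' * a * n'⁻¹ = n * a * n⁻¹ := by
    intro A hA n hn hnA
    obtain ⟨n', -, hn'a, hn's⟩ := key (M : Set G).toFinite.toFinset (fun m hm => by simpa using hm) A hA n hn hnA
    refine ⟨n', hWn n' fun m hm => ?_, hn'a⟩
    rw [hn's m (by simpa using hm)]
    exact hVW m hm
  have hWP0 : W ≤ P0 := by
    rw [hW, Subgroup.closure_le, Set.iUnion₂_subset_iff]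
    exact fun m hm => hVm m hm
  haveI : Group.IsNilpotent ↥W := (P.isPGroup'.to_le (hWP0.trans inf_le_left)).isNilpotent
  set Ws : ℕ → Subgroup G := fun i => (Subgroup.upperCentralSeries ↥W i).map W.subtype with hWs
  have htop : Ws (Group.nilpotencyClass ↥W) = W := by
    show (Subgroup.upperCentralSeries ↥W _).map W.subtype = W
    rw [Subgroup.upperCentralSeries_nilpotencyClass, ← MonoidHom.range_eq_map, Subgroup.range_subtype]
  obtain ⟨Q, hQ⟩ := PBasic.exists_sylow_subgroupOf P N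
  have hfr := Sylow.normalizer_sup_eq_top Q
  rw [hQ, Subgroup.subgroupOf_map_subtype] at hfr
  have hclosed : ∀ i, IsStronglyClosed (Ws i) (P : Subgroup G) := by
    intro i
    have hle : Ws i ≤ W := Subgroup.map_subtype_le _
    refine ⟨hle.trans (hWP0.trans inf_le_left), fun x hx g hgx => ?_⟩
    obtain ⟨m, hm, c, hc, rfl⟩ := Subgroup.mem_sup_of_normal_right.1 (hfr.ge (Subgroup.mem_top g))
    have hchar : Subgroup.normalizer (W : Set G) ≤ Subgroup.normalizer (Ws i : Set G) :=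
      LEBasic.le_normalizer_map_of_characteristic inferInstance
    have hy : m * x * m⁻¹ ∈ Ws i := (Subgroup.mem_normalizer_iff.1 (hchar (hMW hm)) x).1 hx
    have hyP : m * x * m⁻¹ ∈ P0 := hWP0 (hle hy)
    have hgN : m * c * x * (m * c)⁻¹ ∈ P0 :=
      Subgroup.mem_inf.2 ⟨hgx, hN (Subgroup.mem_inf.1 (hWP0 (hle hx))).2 _⟩
    obtain ⟨n', hn', hn'a⟩ := hNW (Subgroup.zpowers (m * x * m⁻¹)) (Subgroup.zpowers_le.2 hyP)
      (m * c * m⁻¹) (hN hc m) (by
        rw [MonoidHom.map_zpowers, Subgroup.zpowers_le, cj_apply]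
        convert hgN using 1
        group)
    have h1 := hn'a _ (Subgroup.mem_zpowers _)
    have h2 := (Subgroup.mem_normalizer_iff.1 (hchar hn') _).1 hy
    rw [h1] at h2
    convert h2 using 1
    group
  intro A hA g hgA
  obtain ⟨-, -, n, hn, hna⟩ := SeriesNormal.realised_of_series P Ws (Group.nilpotencyClass ↥W)
    (by show (Subgroup.upperCentralSeries ↥W 0).map _ = ⊥; rw [Subgroup.upperCentralSeries_zero, Subgroup.map_bot])
    hclosed (fun i _ w hw u hu => by
      rw [htop] at hw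
      obtain ⟨u, hu, rfl⟩ := hu
      refine ⟨⁅(⟨w, hw⟩ : W), u⁆, ?_, by simp [commutatorElement_def]⟩
      have := inv_mem (Subgroup.mem_upperCentralSeries_succ_iff.1 hu ⟨w, hw⟩)
      simpa [commutatorElement_def, mul_assoc] using this)
    (A : Set G) g hA (by
      rintro _ ⟨a, ha, rfl⟩
      exact hgA ⟨a, ha, rfl⟩)
  rw [htop] at hn
  refine ⟨n, hn, n⁻¹ * g, Subgroup.mem_centralizer_iff.2 fun a ha => ?_, by group⟩
  calc a * (n⁻¹ * g) = n⁻¹ * (n * a * n⁻¹) * g := by group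
    _ = n⁻¹ * g * a := by rw [hna a ha]; group

end Cfsg.Agent.S1954
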