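import Cfsg.Statements.S1956
import Mathlib.GroupTheory.Sylow

set_option autoImplicit false
set_option linter.style.haveILetI false
set_option linter.unusedVariables false
open Cfsg

namespace Cfsg.Agent.S1956

/-- Let P be a Sylow p-subgroup of the finite group G such that every element of P of order dividing p (dividing 4 when p = 2) is central in P. Then the fusion of these elements is controlled by N_G(P): if such an element a of P has g a g⁻¹ in P, then g = n c with n normalizing P and c commuting with a. -/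
theorem result {G : Type*} [Group G] [Finite G] {p : ℕ} [Fact p.Prime] (P : Sylow p G)
    (hcen : ∀ a ∈ (P : Subgroup G), (a ^ p = 1 ∨ (p = 2 ∧ a ^ 4 = 1)) → ∀ y ∈ (P : Subgroup G), a * y = y * a) :
    ∀ a ∈ (P : Subgroup G), (a ^ p = 1 ∨ (p = 2 ∧ a ^ 4 = 1)) → ∀ g : G, g * a * g⁻¹ ∈ (P : Subgroup G) →
      ∃ n ∈ Subgroup.normalizer ((P : Subgroup G) : Set G), ∃ c : G, c * a = a * c ∧ g = n * c := by
  intro a ha hao g hg
  set b := g * a * g⁻¹ with hb
  have hbo : b ^ p = 1 ∨ (p = 2 ∧ b ^ 4 = 1) := by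
    rw [hb, conj_pow, conj_pow]
    rcases hao with h | ⟨h, h'⟩
    · left; simp [h]
    · right; exact ⟨h, by simp [h']⟩
  have h1 : b ∈ Subgroup.centralizer ((P : Subgroup G) : Set G) :=
    Subgroup.mem_centralizer_iff.2 fun y hy => (hcen b hg hbo y hy).symm
  have h2 : g⁻¹ * b * g ∈ Subgroup.centralizer ((P : Subgroup G) : Set G) := by
    rw [hb, show g⁻¹ * (g * a * g⁻¹) * g = a by group]
    exact Subgroup.mem_centralizer_iff.2 fun y hy => (hcen a ha hao y hy).symm
  obtain ⟨n, hn, hnb⟩ := Sylow.conj_eq_normalizer_conj_of_mem_centralizer P b g h1 h2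
  refine ⟨n, hn, n⁻¹ * g, ?_, by group⟩
  calc n⁻¹ * g * a = n⁻¹ * b * n * (n⁻¹ * g) := by rw [hb]; group
    _ = g⁻¹ * b * g * (n⁻¹ * g) := by rw [hnb]
    _ = a * (n⁻¹ * g) := by rw [hb]; group

end Cfsg.Agent.S1956
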