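import Cfsg.Statements.S1957
import Cfsg.Agent.S1892
import Cfsg.Agent.Lib.Solvable.Coprime
import Cfsg.Agent.Lib.Solvable.Structure
import Cfsg.Agent.Lib.Involutions.Basic
import Mathlib.GroupTheory.IndexNormal

set_option autoImplicit false
set_option linter.style.haveILetI false
set_option linter.unusedVariables false
open Cfsg

namespace Cfsg.Agent.S1957

open Cfsg.Agent
open scoped commutatorElement

variable {G : Type*} [Group G] [Finite G]

lemma four_cases {U : Subgroup G} (hU4 : IsKleinFour ↥U) {u a b : G} (hu : u ∈ U) (ha : a ∈ U) (hb : b ∈ U)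
    (hu1 : u ≠ 1) (ha1 : a ≠ 1) (hau : a ≠ u) (hb1 : b ≠ 1) (hbu : b ≠ u) : b = a ∨ b = a * u := by
  by_cases hba : b = a
  · exact Or.inl hba
  · refine Or.inr ?_
    have h := IsKleinFour.eq_mul_of_ne_all (x := (⟨a, ha⟩ : U)) (y := ⟨u, hu⟩) (z := ⟨b, hb⟩)
      (fun h => ha1 (congrArg Subtype.val h)) (fun h => hu1 (congrArg Subtype.val h))
      (fun h => hau (congrArg Subtype.val h)) (fun h => hb1 (congrArg Subtype.val h))
      (fun h => hba (congrArg Subtype.val h)) (fun h => hbu (congrArg Subtype.val h))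
    exact congrArg Subtype.val h

lemma four_sq {U : Subgroup G} (hU4 : IsKleinFour ↥U) {a : G} (ha : a ∈ U) : a * a = 1 :=
  congrArg Subtype.val (IsKleinFour.mul_self (⟨a, ha⟩ : U))

lemma four_comm {U : Subgroup G} (hU4 : IsKleinFour ↥U) {a b : G} (ha : a ∈ U) (hb : b ∈ U) :
    a * b = b * a := by
  have h := four_sq hU4 (U.mul_mem ha hb)
  calc a * b = a * (a * b * (a * b)) * b := by rw [h, mul_one]
    _ = (a * a) * (b * a) * (b * b) := by group
    _ = b * a := by rw [four_sq hU4 ha, four_sq hU4 hb, one_mul, mul_one]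

lemma unique_invol {Z : Subgroup G} (hZ : IsCyclic Z) {z b : G} (hz : z ∈ Z) (hb : b ∈ Z)
    (hz1 : z ≠ 1) (hb1 : b ≠ 1) (hz2 : z * z = 1) (hb2 : b * b = 1) : b = z := by
  obtain ⟨g, hg⟩ := IsCyclic.exists_generator (α := Z)
  have e1 := (Invol.eq_half (a := g) (z := (⟨z, hz⟩ : Z))
    (by rw [Subgroup.orderOf_mk]; exact Invol.order_two_of_sq hz2 hz1) (hg _)).2
  have e2 := (Invol.eq_half (a := g) (z := (⟨b, hb⟩ : Z))
    (by rw [Subgroup.orderOf_mk]; exact Invol.order_two_of_sq hb2 hb1) (hg _)).2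
  exact congrArg Subtype.val (e2.trans e1.symm)

/-- The 2-core of the centralizer of an involution of `U` normalizes `U`. -/
lemma pCore_normalizes (P : Sylow 2 G) {U : Subgroup G} (hUP : U ≤ (P : Subgroup G))
    (hUn : (P : Subgroup G) ≤ Subgroup.normalizer (U : Set G)) (hU4 : IsKleinFour ↥U)
    (hUZ : ¬ IsCyclic ↥((P : Subgroup G) ⊓ Subgroup.centralizer ((P : Subgroup G) : Set G)) →
      U ≤ Subgroup.centralizer ((P : Subgroup G) : Set G))
    {u : G} (hu : u ∈ U) (hu1 : u ≠ 1) :
    (Cfsg.pCore 2 ↥(Subgroup.centralizer ({u} : Set G))).map (Subgroup.centralizer ({u} : Set G)).subtype ≤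
      Subgroup.normalizer (U : Set G) := by
  set C := Subgroup.centralizer ({u} : Set G) with hC
  set O := Cfsg.pCore 2 C with hO
  haveI hOn : O.Normal := Cfsg.pCore_normal 2 C
  have hOp : IsPGroup 2 O := PBasic.pCore_isPGroup 2 C
  by_cases hcent : (P : Subgroup G) ≤ C
  · refine le_trans ?_ hUn
    have hp : IsPGroup 2 ((O.map C.subtype) ⊔ (P : Subgroup G) : Subgroup G) :=
      IsPGroup.to_sup_of_normal_left' (hOp.map _) P.isPGroup' (by
        intro g hg
        refine Subgroup.mem_normalizer_fintype fun x hx => ?_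
        obtain ⟨y, hy, rfl⟩ := Subgroup.mem_map.1 hx
        exact Subgroup.mem_map.2 ⟨_, hOn.conj_mem y hy ⟨g, hcent hg⟩, rfl⟩)
    exact le_sup_left.trans (P.3 hp le_sup_right).le
  obtain ⟨g, hgP, hgu⟩ : ∃ g ∈ (P : Subgroup G), g ∉ C := Set.not_subset.1 hcent
  have hgu' : g * u * g⁻¹ ≠ u := fun h =>
    hgu (Subgroup.mem_centralizer_singleton_iff.2 (mul_inv_eq_iff_eq_mul.1 h))
  have hcyc : IsCyclic ↥((P : Subgroup G) ⊓ Subgroup.centralizer ((P : Subgroup G) : Set G)) := by
    by_contra h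
    exact hgu (Subgroup.mem_centralizer_singleton_iff.2 (Subgroup.mem_centralizer_iff.1 (hUZ h hu) g hgP))
  have conjU : ∀ h ∈ (P : Subgroup G), ∀ a ∈ U, h * a * h⁻¹ ∈ U := fun h hh a ha =>
    (Subgroup.mem_normalizer_iff.1 (hUn hh) a).1 ha
  -- a central involution in U
  obtain ⟨z, hzU, hz1, hzc⟩ : ∃ z ∈ U, z ≠ 1 ∧ ∀ h ∈ (P : Subgroup G), h * z = z * h := by
    haveI : Group.IsNilpotent (P : Subgroup G) := P.isPGroup'.isNilpotent
    haveI : (U.subgroupOf (P : Subgroup G)).Normal := ⟨fun a ha h => conjU h h.2 a ha⟩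
    have hne : U.subgroupOf (P : Subgroup G) ≠ ⊥ := by
      intro h
      have : (⟨u, hUP hu⟩ : (P : Subgroup G)) ∈ U.subgroupOf (P : Subgroup G) := hu
      rw [h] at this
      exact hu1 (congrArg Subtype.val (Subgroup.mem_bot.1 this))
    obtain ⟨⟨z, hz⟩, hz1⟩ := Subgroup.ne_bot_iff_exists_ne_one.1 (SolvStruct.inf_center_ne_bot hne)
    exact ⟨z, hz.1, fun h => hz1 (Subtype.ext (Subtype.ext h)),
      fun h hh => congrArg Subtype.val (Subgroup.mem_center_iff.1 hz.2 ⟨h, hh⟩)⟩
  have hzu : z ≠ u := fun h => hgu (Subgroup.mem_centralizer_singleton_iff.2 (h ▸ hzc g hgP))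
  have hz2 : z * z = 1 := four_sq hU4 hzU
  have img : ∀ h ∈ (P : Subgroup G), h * u * h⁻¹ = u ∨ h * u * h⁻¹ = u * z := by
    intro h hh
    refine four_cases hU4 hzU hu (conjU h hh u hu) hz1 hu1 (Ne.symm hzu) (fun he => hu1 ?_) (fun he => hzu ?_)
    · simpa using he
    · calc z = h⁻¹ * (h * z) := by group
        _ = h⁻¹ * (z * h) := by rw [hzc h hh]
        _ = h⁻¹ * (h * u * h⁻¹ * h) := by rw [he]
        _ = u := by group
  have hguz : g * u * g⁻¹ = u * z := (img g hgP).resolve_left hgu'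
  set T := (P : Subgroup G) ⊓ C with hT
  have Tcent : ∀ t ∈ T, ∀ a ∈ U, t * a = a * t := by
    intro t ht a ha
    by_cases ha1 : a = 1
    · simp [ha1]
    by_cases hau : a = u
    · rw [hau]; exact Subgroup.mem_centralizer_singleton_iff.1 ht.2
    rcases four_cases hU4 hu hzU ha hu1 hz1 hzu ha1 hau with h | h
    · rw [h]; exact hzc t ht.1
    · rw [h]
      exact (Commute.mul_right (hzc t ht.1) (Subgroup.mem_centralizer_singleton_iff.1 ht.2)).eq
  have hUT : U ≤ T := fun a ha =>
    ⟨hUP ha, Subgroup.mem_centralizer_singleton_iff.2 (four_comm hU4 ha hu)⟩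
  have hTidx : (T.subgroupOf (P : Subgroup G)).index = 2 := by
    rw [Subgroup.index_eq_two_iff']
    refine ⟨⟨g, hgP⟩, fun b => ?_⟩
    simp only [Subgroup.mem_subgroupOf, hT, Subgroup.mem_inf, SetLike.coe_mem, true_and, Subgroup.coe_mul]
    rw [xor_iff_iff_not, hC, Subgroup.mem_centralizer_singleton_iff, Subgroup.mem_centralizer_singleton_iff,
      ← mul_inv_eq_iff_eq_mul, ← mul_inv_eq_iff_eq_mul]
    have e : g * (b : G) * u * (g * b)⁻¹ = g * ((b : G) * u * (b : G)⁻¹) * g⁻¹ := by group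
    have huz : u * z ≠ u := fun h => hz1 (mul_left_cancel (a := u) (by rw [mul_one]; exact h))
    rw [e]
    rcases img b b.2 with h | h <;> rw [h]
    · rw [hguz]
      simp [huz]
    · have : g * (u * z) * g⁻¹ = u := by
        calc g * (u * z) * g⁻¹ = (g * u * g⁻¹) * (g * z * g⁻¹) := by group
          _ = u * z * (g * z * g⁻¹) := by rw [hguz]
          _ = u * z * z := by rw [hzc g hgP, mul_inv_cancel_right]
          _ = u := by rw [mul_assoc, hz2, mul_one]
      rw [this]
      simp [huz, (P : Subgroup G).mul_mem hgP b.2]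
  have hTcard : Nat.card (P : Subgroup G) = Nat.card T * 2 := by
    have h := (T.subgroupOf (P : Subgroup G)).card_mul_index
    rw [hTidx, Nat.card_congr (Subgroup.subgroupOfEquivOfLe inf_le_left).toEquiv] at h
    exact h.symm
  set R := (O ⊔ T.subgroupOf C).map C.subtype with hR
  have hRp : IsPGroup 2 R :=
    (IsPGroup.to_sup_of_normal_left hOp ((P.isPGroup'.to_le inf_le_left).comap_subtype)).map _
  have hTR : T ≤ R := by
    rw [hR, Subgroup.map_sup, Subgroup.map_subgroupOf_eq_of_le inf_le_right]; exact le_sup_right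
  have hRcard : Nat.card R ≤ Nat.card (P : Subgroup G) := by
    obtain ⟨S, hS⟩ := hRp.exists_le_sylow
    exact (Subgroup.card_le_of_le hS).trans (le_of_eq (by rw [S.card_eq_multiplicity, P.card_eq_multiplicity]))
  have hRT : R ≤ Subgroup.normalizer (T : Set G) := by
    have hmul : Nat.card T * (T.subgroupOf R).index = Nat.card R := by
      rw [← (T.subgroupOf R).card_mul_index, Nat.card_congr (Subgroup.subgroupOfEquivOfLe hTR).toEquiv]
    have hle : (T.subgroupOf R).index ≤ 2 :=
      Nat.le_of_mul_le_mul_left (hmul.le.trans (hRcard.trans hTcard.le)) Nat.card_pos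
    have hpos : (T.subgroupOf R).index ≠ 0 := Subgroup.index_ne_zero_of_finite
    have hn : (T.subgroupOf R).Normal := by
      rcases (show (T.subgroupOf R).index = 1 ∨ (T.subgroupOf R).index = 2 by omega) with h | h
      · rw [Subgroup.index_eq_one.1 h]; infer_instance
      · exact Subgroup.normal_of_index_eq_two h
    intro r hr
    exact Subgroup.mem_normalizer_fintype fun t ht => hn.conj_mem ⟨t, hTR ht⟩ ht ⟨r, hr⟩
  -- every involution of T central in T lies in U
  have key : ∀ b ∈ T, b * b = 1 → (∀ t ∈ T, t * b = b * t) → b ∈ U := by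
    intro b hb hb2 hbT
    have hcenP : ∀ x ∈ T, x * x = 1 → (∀ t ∈ T, t * x = x * t) → g * x * g⁻¹ = x → x = 1 ∨ x = z := by
      intro x hx hx2 hxT hgx
      by_cases hx1 : x = 1
      · exact Or.inl hx1
      refine Or.inr (unique_invol hcyc (z := z) ⟨hUP hzU, ?_⟩ ⟨hx.1, ?_⟩ hz1 hx1 hz2 hx2)
      · exact Subgroup.mem_centralizer_iff.2 fun h hh => hzc h hh
      · refine Subgroup.mem_centralizer_iff.2 fun h hh => ?_
        rcases img h hh with he | he
        · exact hxT h ⟨hh, Subgroup.mem_centralizer_singleton_iff.2 (mul_inv_eq_iff_eq_mul.1 he)⟩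
        · have ht : g⁻¹ * h ∈ T := by
            refine ⟨(P : Subgroup G).mul_mem ((P : Subgroup G).inv_mem hgP) hh,
              Subgroup.mem_centralizer_singleton_iff.2 (mul_inv_eq_iff_eq_mul.1 ?_)⟩
            calc g⁻¹ * h * u * (g⁻¹ * h)⁻¹ = g⁻¹ * (h * u * h⁻¹) * g := by group
              _ = g⁻¹ * (g * u * g⁻¹) * g := by rw [he, hguz]
              _ = u := by group
          calc h * x = g * (g⁻¹ * h * x) := by group
            _ = g * (x * (g⁻¹ * h)) := by rw [hxT _ ht]
            _ = (g * x * g⁻¹) * h := by group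
            _ = x * h := by rw [hgx]
    have hTn : (T.subgroupOf (P : Subgroup G)).Normal := Subgroup.normal_of_index_eq_two hTidx
    have conjT : ∀ t ∈ T, ∀ h ∈ (P : Subgroup G), h * t * h⁻¹ ∈ T := fun t ht h hh =>
      hTn.conj_mem ⟨t, ht.1⟩ ht ⟨h, hh⟩
    have hgbT : g * b * g⁻¹ ∈ T := conjT b hb g hgP
    have hgb2 : (g * b * g⁻¹) * (g * b * g⁻¹) = 1 := by
      calc (g * b * g⁻¹) * (g * b * g⁻¹) = g * (b * b) * g⁻¹ := by group
        _ = 1 := by rw [hb2]; group
    have hgbc : ∀ t ∈ T, t * (g * b * g⁻¹) = (g * b * g⁻¹) * t := by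
      intro t ht
      have h := hbT _ (conjT t ht g⁻¹ ((P : Subgroup G).inv_mem hgP))
      calc t * (g * b * g⁻¹) = g * ((g⁻¹ * t * g⁻¹⁻¹) * b) * g⁻¹ := by group
        _ = g * (b * (g⁻¹ * t * g⁻¹⁻¹)) * g⁻¹ := by rw [h]
        _ = (g * b * g⁻¹) * t := by group
    have hg2 : g * g ∈ T := Subgroup.mem_subgroupOf.1
      (Subgroup.mul_self_mem_of_index_two hTidx ⟨g, hgP⟩)
    have hcomm : b * (g * b * g⁻¹) = g * b * g⁻¹ * b := hgbc b hb
    have hgg : g * (g * b * g⁻¹) * g⁻¹ = b := by
      calc g * (g * b * g⁻¹) * g⁻¹ = (g * g) * b * (g * g)⁻¹ := by group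
        _ = b := by rw [hbT _ hg2, mul_inv_cancel_right]
    have hc := hcenP (b * (g * b * g⁻¹)) (T.mul_mem hb hgbT)
      (by
        calc b * (g * b * g⁻¹) * (b * (g * b * g⁻¹)) = b * ((g * b * g⁻¹) * b) * (g * b * g⁻¹) := by group
          _ = b * (b * (g * b * g⁻¹)) * (g * b * g⁻¹) := by rw [hcomm]
          _ = (b * b) * ((g * b * g⁻¹) * (g * b * g⁻¹)) := by group
          _ = 1 := by rw [hb2, hgb2, one_mul])
      (fun t ht => (Commute.mul_right (hbT t ht) (hgbc t ht)).eq)
      (by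
        calc g * (b * (g * b * g⁻¹)) * g⁻¹ = (g * b * g⁻¹) * (g * (g * b * g⁻¹) * g⁻¹) := by group
          _ = b * (g * b * g⁻¹) := by rw [hgg, hcomm])
    have hbi : b⁻¹ = b := inv_eq_of_mul_eq_one_right hb2
    rcases hc with hc | hc
    · rcases hcenP b hb hb2 hbT ((inv_eq_of_mul_eq_one_right hc).symm.trans hbi) with h | h
      · rw [h]; exact U.one_mem
      · rw [h]; exact hzU
    · have hgbz : g * b * g⁻¹ = b * z := by rw [← hc, ← mul_assoc, hb2, one_mul]
      have hzb : z * b = b * z := hbT z (hUT hzU)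
      have hzu' : z * u = u * z := four_comm hU4 hzU hu
      have hbu : b * u = u * b := (hbT u (hUT hu)).symm
      rcases hcenP (b * u) (T.mul_mem hb (hUT hu))
        (by
          calc b * u * (b * u) = b * (u * b) * u := by group
            _ = b * (b * u) * u := by rw [hbu]
            _ = (b * b) * (u * u) := by group
            _ = 1 := by rw [hb2, four_sq hU4 hu, one_mul])
        (fun t ht => (Commute.mul_right (hbT t ht) (Tcent t ht u hu)).eq)
        (by
          calc g * (b * u) * g⁻¹ = (g * b * g⁻¹) * (g * u * g⁻¹) := by group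
            _ = b * z * (u * z) := by rw [hgbz, hguz]
            _ = b * (z * u) * z := by group
            _ = b * u * (z * z) := by rw [hzu']; group
            _ = b * u := by rw [hz2, mul_one]) with h | h
      · rw [show b = b * u * u⁻¹ by group, h]
        exact U.mul_mem U.one_mem (U.inv_mem hu)
      · rw [show b = b * u * u⁻¹ by group, h]
        exact U.mul_mem hzU (U.inv_mem hu)
  intro o ho
  have hoR : o ∈ R := Subgroup.map_mono le_sup_left ho
  refine Subgroup.mem_normalizer_fintype fun a ha => ?_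
  refine key _ ((Subgroup.mem_normalizer_iff.1 (hRT hoR) a).1 (hUT ha)) ?_ ?_
  · calc o * a * o⁻¹ * (o * a * o⁻¹) = o * (a * a) * o⁻¹ := by group
      _ = 1 := by rw [four_sq hU4 ha]; group
  · intro t ht
    have h := Tcent _ ((Subgroup.mem_normalizer_iff''.1 (hRT hoR) t).1 ht) a ha
    calc t * (o * a * o⁻¹) = o * ((o⁻¹ * t * o) * a) * o⁻¹ := by group
      _ = o * (a * (o⁻¹ * t * o)) * o⁻¹ := by rw [h]
      _ = o * a * o⁻¹ * t := by group

/-- Let `G` be a finite non-abelian simple group in which every local subgroup is solvable and which is of characteristic 2 type. Let `P` be a Sylow 2-subgroup of `G` and `U` a normal subgroup of `P` that is a four-group, with `U` central in `P` if the centre of `P` is not cyclic. Then `U` centralizes every subgroup of odd order of `G` that it normalizes. -/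
theorem result {G : Type*} [Group G] [Finite G]
    [IsSimpleGroup G] (hna : ¬ IsMulCommutative G) (hN : Cfsg.IsNGroup G) (h2 : Cfsg.IsCharacteristicTwoType G)
    (P : Sylow 2 G) (U : Subgroup G) (hUP : U ≤ (P : Subgroup G)) (hUn : (P : Subgroup G) ≤ Subgroup.normalizer (U : Set G))
    (hU4 : IsKleinFour ↥U)
    (hUZ : ¬ IsCyclic ↥((P : Subgroup G) ⊓ Subgroup.centralizer ((P : Subgroup G) : Set G)) →
      U ≤ Subgroup.centralizer ((P : Subgroup G) : Set G))
    (K : Subgroup G) (hK : Odd (Nat.card K)) (hUK : U ≤ Subgroup.normalizer (K : Set G)) :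
    U ≤ Subgroup.centralizer (K : Set G) := by
  have hU2 : IsPGroup 2 U := P.isPGroup'.to_le hUP
  haveI : IsMulCommutative U := ⟨⟨fun a b => Subtype.ext (four_comm hU4 a.2 b.2)⟩⟩
  have hcop : (Nat.card U).Coprime (Nat.card K) := by
    rw [IsKleinFour.card_four]
    have := (Nat.coprime_primes Nat.prime_two Nat.prime_two)
    exact (Nat.Coprime.pow_left 2 (Nat.coprime_two_left.2 hK))
  rw [Subgroup.le_centralizer_iff, ← CoprimeAct.generated_by_centralizers (A := U) (K := K)
    (by intro h; exact IsKleinFour.not_isCyclic h) hUK hcop]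
  refine iSup₂_le fun u hu => ?_
  obtain ⟨hu, hu1⟩ : u ∈ U ∧ u ≠ 1 := hu
  set C := Subgroup.centralizer ({u} : Set G) with hC
  set L := K ⊓ C with hL
  have hUC : U ≤ C := fun a ha => Subgroup.mem_centralizer_singleton_iff.2 (four_comm hU4 ha hu)
  have hUL : U ≤ Subgroup.normalizer (L : Set G) := by
    intro a ha
    refine Subgroup.mem_normalizer_fintype fun x hx => ⟨(Subgroup.mem_normalizer_iff.1 (hUK ha) x).1 hx.1, ?_⟩
    exact C.mul_mem (C.mul_mem (hUC ha) hx.2) (C.inv_mem (hUC ha))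
  have hcopL : (Nat.card U).Coprime (Nat.card L) :=
    hcop.coprime_dvd_right (Subgroup.card_dvd_of_le inf_le_left)
  set Q := ⁅L, U⁆ with hQ
  have hQL : Q ≤ L := CoprimeAct.commutator_le_left hUL
  by_cases hQ1 : Q = ⊥
  · exact Subgroup.commutator_eq_bot_iff_le_centralizer.1 hQ1
  exfalso
  have hu2 : orderOf u = 2 := orderOf_eq_prime (by rw [pow_two]; exact four_sq hU4 hu) hu1
  have hzp : IsPGroup 2 (Subgroup.zpowers u) :=
    IsPGroup.of_card (n := 1) (by rw [Nat.card_zpowers, hu2, pow_one])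
  have hne : Subgroup.zpowers u ≠ ⊥ := fun h => hu1 (Subgroup.zpowers_eq_bot.1 h)
  have hNC : Subgroup.normalizer ((Subgroup.zpowers u : Subgroup G) : Set G) = C := by
    refine le_antisymm ?_ ?_
    · intro x hx
      have h := (Subgroup.mem_normalizer_iff.1 hx u).1 (Subgroup.mem_zpowers u)
      obtain ⟨k, hk⟩ := Subgroup.mem_zpowers_iff.1 h
      refine Subgroup.mem_centralizer_singleton_iff.2 (mul_inv_eq_iff_eq_mul.1 ?_)
      have h2 : u ^ (k % 2) = x * u * x⁻¹ := by
        rw [← hk, ← zpow_mod_orderOf u k, hu2]; rfl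
      rcases Int.emod_two_eq_zero_or_one k with h0 | h0 <;> rw [h0] at h2
      · rw [zpow_zero] at h2
        have : u = 1 := by
          calc u = x⁻¹ * (x * u * x⁻¹) * x := by group
            _ = 1 := by rw [← h2]; group
        exact absurd this hu1
      · rw [zpow_one] at h2; exact h2.symm
    · intro x hx
      refine Subgroup.mem_normalizer_fintype fun y hy => ?_
      obtain ⟨k, rfl⟩ := Subgroup.mem_zpowers_iff.1 hy
      rw [← conj_zpow, Subgroup.mem_centralizer_singleton_iff.1 hx, mul_inv_cancel_right]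
      exact Subgroup.zpow_mem _ (Subgroup.mem_zpowers u) k
  have hsolv : Group.IsSolvable C := hNC ▸ hN _ ⟨2, _, Nat.prime_two, hzp, hne, rfl⟩
  have hchar : Cfsg.IsOfCharacteristicTwo C := hNC ▸ h2.2 _ hzp hne
  haveI : (Cfsg.pCore 2 C).Normal := Cfsg.pCore_normal 2 C
  haveI : (Cfsg.pPrimeCore 2 C).Normal := Cfsg.pPrimeCore_normal 2 C
  have hcore : Cfsg.pPrimeCore 2 C = ⊥ := by
    have hd : Cfsg.pPrimeCore 2 C ⊓ Cfsg.pCore 2 C = ⊥ := by
      refine Subgroup.inf_eq_bot_of_coprime ?_
      obtain ⟨k, hk⟩ := IsPGroup.iff_card.1 (PBasic.pCore_isPGroup 2 C)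
      rw [hk]
      exact (PBasic.pPrimeCore_coprime 2 C).pow_right k
    rw [eq_bot_iff]
    refine le_trans (le_inf le_rfl (le_trans ?_ hchar)) hd.le
    rw [← Subgroup.commutator_eq_bot_iff_le_centralizer, eq_bot_iff, ← hd]
    exact Subgroup.commutator_le_inf _ _
  have hQC : Q ≤ C := hQL.trans inf_le_right
  have hmapQ : (Q.subgroupOf C).map C.subtype = Q := Subgroup.map_subgroupOf_eq_of_le hQC
  have hmapU : (U.subgroupOf C).map C.subtype = U := Subgroup.map_subgroupOf_eq_of_le hUC
  have hcc : ⁅Q, U⁆ = Q := CoprimeAct.commutator_commutator hUL hcopL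
    (Or.inl (Group.isSolvable_of_comm fun a b => mul_comm' a b))
  have hne' : Q.subgroupOf C ≠ ⊥ := by
    intro h
    rw [h, Subgroup.map_bot] at hmapQ
    exact hQ1 hmapQ.symm
  refine S1892.result (p := 2) (PSolvable.of_solvable hsolv) hcore (U.subgroupOf C) (Q.subgroupOf C)
    (hU2.comap_subtype) ?_ hne' ?_ ?_ ?_
  · rw [Nat.card_congr (Subgroup.subgroupOfEquivOfLe hQC).toEquiv]
    intro hd
    exact Nat.not_even_iff_odd.2 hK
      (even_iff_two_dvd.2 (hd.trans (Subgroup.card_dvd_of_le (hQL.trans inf_le_left))))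
  · intro a ha x hx
    exact (Subgroup.mem_normalizer_iff.1 (Subgroup.normalizer_commutator_ge_right L U ha) (x : G)).1 hx
  · apply Subgroup.map_injective C.subtype_injective
    rw [Subgroup.map_commutator, hmapQ, hmapU, Subgroup.commutator_comm, hcc]
  · rw [Subgroup.commutator_eq_bot_iff_le_centralizer, Subgroup.commutator_le]
    intro o ho a ha
    have hoN := pCore_normalizes P hUP hUn hU4 hUZ hu hu1 (Subgroup.mem_map_of_mem C.subtype ho)
    have hb : (o : G) * a * (o : G)⁻¹ ∈ U := (Subgroup.mem_normalizer_iff.1 hoN (a : G)).1 ha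
    have hou : (o : G) * u * (o : G)⁻¹ = u := by
      rw [Subgroup.mem_centralizer_singleton_iff.1 o.2, mul_inv_cancel_right]
    have hval : (⁅o, a⁆ : C) = ⟨(o : G) * a * (o : G)⁻¹ * (a : G)⁻¹, C.mul_mem (hUC hb) (C.inv_mem a.2)⟩ :=
      Subtype.ext (by simp [commutatorElement_def])
    have hcase : (o : G) * a * (o : G)⁻¹ * (a : G)⁻¹ = 1 ∨ (o : G) * a * (o : G)⁻¹ * (a : G)⁻¹ = u := by
      by_cases ha1 : (a : G) = 1
      · left; rw [ha1]; group
      by_cases hau : (a : G) = u
      · left; rw [hau, hou, mul_inv_cancel]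
      have hb1 : (o : G) * a * (o : G)⁻¹ ≠ 1 := fun h => ha1 (conj_eq_one_iff.1 h)
      have hbu : (o : G) * a * (o : G)⁻¹ ≠ u := fun h => hau
        (mul_left_cancel (mul_right_cancel (h.trans hou.symm)))
      rcases four_cases hU4 hu ha hb hu1 ha1 hau hb1 hbu with h | h <;> rw [h]
      · left; exact mul_inv_cancel _
      · right
        show (a : G) * u * (a : G)⁻¹ = u
        exact mul_inv_eq_iff_eq_mul.2 (four_comm hU4 ha hu)
    rw [hval]
    refine Subgroup.mem_centralizer_iff.2 fun q hq => Subtype.ext ?_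
    show (q : G) * ((o : G) * a * (o : G)⁻¹ * (a : G)⁻¹) = ((o : G) * a * (o : G)⁻¹ * (a : G)⁻¹) * (q : G)
    rcases hcase with h | h <;> rw [h]
    · rw [mul_one, one_mul]
    · exact Subgroup.mem_centralizer_singleton_iff.1 q.2

end Cfsg.Agent.S1957
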