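import Cfsg.Statements.S1958
import Cfsg.Agent.Lib.CharP.AxB
import Cfsg.Agent.Lib.PLocal.PSolvable
import Cfsg.Agent.Lib.Components.Balance
import Cfsg.Agent.Lib.Transfer.Basic

set_option autoImplicit false
set_option linter.style.haveILetI false
set_option linter.unusedVariables false
open Cfsg

namespace Cfsg.Agent.S1958

open Cfsg.Agent

/-- A `p'`-subgroup centralized by the `p`-element `x` and normalized by `C(x)` lies in `O_{p'}`. -/
theorem le_core_of_centralized {H : Type*} [Group H] [Finite H] {p : ℕ} [Fact p.Prime]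
    (hH : Cfsg.IsPSolvable p H) {x : H} (hx : ∃ k, orderOf x = p ^ k) {D : Subgroup H}
    (hD : (Nat.card D).Coprime p) (hDx : ∀ d ∈ D, x * d = d * x)
    (hn : Subgroup.centralizer ({x} : Set H) ≤ Subgroup.normalizer (D : Set H)) :
    D ≤ Cfsg.pPrimeCore p H := by
  classical
  set N := Cfsg.pPrimeCore p H with hN
  set f := QuotientGroup.mk' N with hf
  set R := Cfsg.pCore p (H ⧸ N) with hR
  haveI hRn : R.Normal := FittingCores.pCore_normal p
  have hRp : IsPGroup p R := FittingCores.pCore_isPGroup p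
  have hA : IsPGroup p (Subgroup.zpowers (f x)) := by
    obtain ⟨k, hk⟩ := hx
    obtain ⟨j, -, hj⟩ := (Nat.dvd_prime_pow (Fact.out : p.Prime)).1 (hk ▸ orderOf_map_dvd f x)
    exact IsPGroup.of_card (by rw [Nat.card_zpowers, hj])
  have hA0 : IsPGroup p (Subgroup.zpowers x) := by
    obtain ⟨k, hk⟩ := hx
    exact IsPGroup.of_card (by rw [Nat.card_zpowers, hk])
  intro d hd
  rw [← QuotientGroup.eq_one_iff (N := N) d]
  show f d = 1
  have hdc : (orderOf (f d)).Coprime p :=
    Nat.Coprime.coprime_dvd_left ((orderOf_map_dvd f d).trans (Subgroup.orderOf_dvd_natCard D hd)) hD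
  have hfix : ∀ q ∈ R, (∀ a ∈ Subgroup.zpowers (f x), a * q = q * a) → f d * q = q * f d := by
    intro q hq hqa
    let S := {y : H // f y = q}
    letI act : MulAction (Subgroup.zpowers x) S :=
      { smul := fun a y => ⟨(a : H) * y * (a : H)⁻¹, by
          obtain ⟨i, hi⟩ := a.2
          rw [map_mul, map_mul, map_inv, y.2, hqa (f a) ⟨i, by rw [← hi, map_zpow]⟩, mul_inv_cancel_right]⟩
        one_smul := fun y => Subtype.ext (by
          show ((1 : Subgroup.zpowers x) : H) * (y : H) * ((1 : Subgroup.zpowers x) : H)⁻¹ = y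
          simp)
        mul_smul := fun a b y => Subtype.ext (by
          show ((a * b : Subgroup.zpowers x) : H) * (y : H) * ((a * b : Subgroup.zpowers x) : H)⁻¹ =
            (a : H) * ((b : H) * y * (b : H)⁻¹) * (a : H)⁻¹
          simp [mul_assoc]) }
    obtain ⟨y₀, hy₀⟩ := QuotientGroup.mk'_surjective N q
    have hScard : Nat.card S = Nat.card N :=
      Nat.card_congr (Equiv.subtypeEquiv (Equiv.mulLeft y₀⁻¹) fun y => by
        rw [Equiv.coe_mulLeft, ← QuotientGroup.eq_one_iff, QuotientGroup.mk_mul, QuotientGroup.mk_inv,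
          inv_mul_eq_one, ← hy₀]
        exact eq_comm)
    obtain ⟨y, hy⟩ := hA0.nonempty_fixed_point_of_prime_not_dvd_card S (by
      rw [hScard]
      exact (Nat.Prime.coprime_iff_not_dvd (Fact.out : p.Prime)).1 (FittingCores.pPrimeCore_coprime p).symm)
    have hyC : (y : H) ∈ Subgroup.centralizer ({x} : Set H) := by
      rw [Subgroup.mem_centralizer_singleton_iff]
      have h := congrArg Subtype.val (hy ⟨x, Subgroup.mem_zpowers x⟩)
      exact (mul_inv_eq_iff_eq_mul.1 h).symm
    -- the commutator is a coprime element of `R`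
    have hc1 : (y : H) * d * (y : H)⁻¹ * d⁻¹ ∈ D :=
      mul_mem ((Subgroup.mem_normalizer_iff.1 (hn hyC) d).1 hd) (inv_mem hd)
    have hc2 : f ((y : H) * d * (y : H)⁻¹ * d⁻¹) ∈ R := by
      rw [map_mul, map_mul, map_mul, map_inv, map_inv, y.2, mul_assoc, mul_assoc, ← mul_assoc (f d)]
      exact mul_mem hq (hRn.conj_mem _ (inv_mem hq) (f d))
    have := PBasic.eq_one_of_isPGroup_of_coprime hRp hc2 (Nat.Coprime.coprime_dvd_left
      ((orderOf_map_dvd f _).trans (Subgroup.orderOf_dvd_natCard D hc1)) hD)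
    rw [map_mul, map_mul, map_mul, map_inv, map_inv, y.2, mul_inv_eq_one, mul_inv_eq_iff_eq_mul] at this
    exact this.symm
  have hRd := AxB.thompson (n := orderOf (f d)) hRp hA Subgroup.le_normalizer_of_normal
    (fun r hr => hRn.conj_mem r hr (f d)) (fun a ha => by
      obtain ⟨i, rfl⟩ := ha
      exact ((show Commute x d from hDx d hd).map f).zpow_left i) (pow_orderOf_eq_one _) hdc.symm hfix
  have hdR : f d ∈ R := PSolvable.centralizer_pCore_le (PSolvable.quotient N hH)
    (PBasic.pPrimeCore_quotient_pPrimeCore p H) (Subgroup.mem_centralizer_iff.2 fun r hr => (hRd r hr).symm)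
  exact PBasic.eq_one_of_isPGroup_of_coprime hRp hdR hdc

theorem balance_le {G : Type*} [Group G] [Finite G] {p : ℕ} [Fact p.Prime] {x y : G}
    (hx : orderOf x = p) (hxy : x * y = y * x)
    (hCy : Group.IsSolvable ↥(Subgroup.centralizer ({y} : Set G))) :
    Cfsg.centralizerPPrimeCore p x ⊓ Subgroup.centralizer {y} ≤ Cfsg.centralizerPPrimeCore p y := by
  set C := Subgroup.centralizer ({y} : Set G) with hC
  haveI := hCy
  have hzc : Subgroup.centralizer ((Subgroup.zpowers x : Subgroup G) : Set G) =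
      Subgroup.centralizer ({x} : Set G) := by
    rw [Subgroup.zpowers_eq_closure, Subgroup.centralizer_closure]
  obtain ⟨hle, hnorm, hcop⟩ := Components.centralizerPPrimeCore_props (p := p) x
  rw [hzc] at hle hnorm
  set K := Cfsg.centralizerPPrimeCore p x with hK
  let x' : C := ⟨x, Subgroup.mem_centralizer_singleton_iff.2 hxy⟩
  intro d hd
  obtain ⟨hdK, hdC⟩ := Subgroup.mem_inf.1 hd
  have h := le_core_of_centralized (x := x') (PSolvable.of_solvable (p := p) (G := C) hCy) ⟨1, by
      rw [← Subgroup.orderOf_coe, show (x' : G) = x from rfl, hx, pow_one]⟩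
    (D := K.subgroupOf C) ?_ ?_ ?_ (show (⟨d, hdC⟩ : C) ∈ K.subgroupOf C from hdK)
  · exact ⟨⟨d, hdC⟩, h, rfl⟩
  · refine Nat.Coprime.coprime_dvd_left ?_ hcop
    exact Subgroup.card_comap_dvd_of_injective K C.subtype C.subtype_injective
  · intro k hk
    exact Subtype.ext (Subgroup.mem_centralizer_singleton_iff.1 (hle hk)).symm
  · intro c hc
    have hcx : (c : G) ∈ Subgroup.centralizer ({x} : Set G) :=
      Subgroup.mem_centralizer_singleton_iff.2
        (congrArg Subtype.val (Subgroup.mem_centralizer_singleton_iff.1 hc))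
    rw [Subgroup.mem_normalizer_iff]
    intro k
    simp only [Subgroup.mem_subgroupOf, Subgroup.coe_mul, Subgroup.coe_inv]
    exact Subgroup.mem_normalizer_iff.1 (hnorm hcx) (k : G)

/-- Let `G` be a finite group, `p` a prime, and `x, y` commuting elements of order `p` whose centralizers `C_G(x)` and `C_G(y)` are both solvable. Then `O_{p'}(C_G(x)) ∩ C_G(y) = O_{p'}(C_G(y)) ∩ C_G(x)` (balance). -/
theorem result {G : Type*} [Group G] [Finite G]
    (p : ℕ) [Fact p.Prime] (x y : G) (hx : orderOf x = p) (hy : orderOf y = p) (hxy : x * y = y * x)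
    (hCx : Group.IsSolvable ↥(Subgroup.centralizer ({x} : Set G))) (hCy : Group.IsSolvable ↥(Subgroup.centralizer ({y} : Set G))) :
    Cfsg.centralizerPPrimeCore p x ⊓ Subgroup.centralizer {y} = Cfsg.centralizerPPrimeCore p y ⊓ Subgroup.centralizer {x} := by
  refine le_antisymm (le_inf (balance_le hx hxy hCy) ?_) (le_inf (balance_le hy hxy.symm hCx) ?_)
  · exact inf_le_left.trans (Subgroup.map_subtype_le _)
  · exact inf_le_left.trans (Subgroup.map_subtype_le _)

end Cfsg.Agent.S1958
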