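import Cfsg.Statements.S1967
import Cfsg.Agent.Lib.Functors.Control

set_option autoImplicit false
set_option linter.style.haveILetI false
set_option linter.unusedVariables false
open Cfsg

namespace Cfsg.Agent.S1967

open Cfsg.Agent.Functors in
theorem sfAt_singleton {G : Type*} [Group G] {W : Subgroup G → Subgroup G} {H T : Subgroup G}
    (h : SFAt {W} H T) {A : Set G} {g : G} (hg : g ∈ H) (hA : A ⊆ T)
    (hgA : (fun a => g * a * g⁻¹) '' A ⊆ T) :
    ∃ x ∈ H ⊓ Subgroup.normalizer ((W T : Subgroup G) : Set G), ∀ a ∈ A, x * a * x⁻¹ = g * a * g⁻¹ := by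
  obtain ⟨n, c, hc0, hstep, -, hlast⟩ := h A g hg hA hgA
  have key : ∀ i : Fin (n + 1), c i ∈ H ⊓ Subgroup.normalizer ((W T : Subgroup G) : Set G) := by
    intro i
    induction i using Fin.induction with
    | zero => rw [hc0]; exact one_mem _
    | succ i ih =>
      obtain ⟨W', hW', hm⟩ := hstep i
      rw [Set.mem_singleton_iff.1 hW'] at hm
      simpa using mul_mem hm ih
  exact ⟨_, key _, hlast⟩

/-- Let p be a prime, G a finite group with Sylow p-subgroup S and W a conjugacy functor for p on G. Then W controls strong fusion in G if and only if, whenever T ≤ S and g ∈ G satisfy gTg⁻¹ ≤ S, one can write g = n c with n ∈ N_G(W(S)) and c ∈ C_G(T). -/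
theorem result {G : Type*} [Group G] [Finite G] {p : ℕ} [Fact p.Prime] (S : Sylow p G) (W : Subgroup G → Subgroup G) (hW : Cfsg.IsConjugacyFunctor p W) : Cfsg.ControlsStrongFusionIn p W ⊤ ↔ ∀ (T : Subgroup G) (g : G), T ≤ (S : Subgroup G) → T.map (MulAut.conj g).toMonoidHom ≤ (S : Subgroup G) → ∃ n ∈ Subgroup.normalizer ((W (S : Subgroup G) : Subgroup G) : Set G), ∃ c ∈ Subgroup.centralizer (T : Set G), g = n * c := by
  have hW' : ∀ V ∈ ({W} : Set (Subgroup G → Subgroup G)), Cfsg.IsConjugacyFunctor p V := by simpa using hW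
  constructor
  · intro h T g hT hgT
    obtain ⟨R, hR, hsf⟩ := (Cfsg.Agent.Functors.familySF_iff {W} ⊤).1
      ((Cfsg.Agent.Functors.singletonSF_iff W ⊤).2 h)
    obtain ⟨x, hx, hxa⟩ := sfAt_singleton (hsf.conj hW' hR (Cfsg.Agent.Functors.isSylowIn_sylow S))
      (A := (T : Set G)) (g := g) (Subgroup.mem_top _) hT
      (by rintro _ ⟨a, ha, rfl⟩; exact hgT ⟨a, ha, rfl⟩)
    refine ⟨x, (Subgroup.mem_inf.1 hx).2, x⁻¹ * g, ?_, by group⟩
    intro a ha
    have := hxa a ha
    calc a * (x⁻¹ * g) = x⁻¹ * (x * a * x⁻¹) * g := by group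
      _ = x⁻¹ * g * a := by rw [this]; group
  · intro h
    refine ⟨(S : Subgroup G), le_top, S.isPGroup',
      by rw [Subgroup.relIndex_top_right]; exact S.not_dvd_index, fun A g _ hA hgA => ?_⟩
    obtain ⟨n, hn, c, hc, rfl⟩ := h (Subgroup.closure A) g ((Subgroup.closure_le _).2 hA)
      (by rw [MonoidHom.map_closure, Subgroup.closure_le]; exact hgA)
    refine ⟨n, Subgroup.mem_inf.2 ⟨Subgroup.mem_top _, hn⟩, fun a ha => ?_⟩
    have := hc a (Subgroup.subset_closure ha)
    calc n * a * n⁻¹ = n * (a * c) * c⁻¹ * n⁻¹ := by group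
      _ = (n * c) * a * (n * c)⁻¹ := by rw [this]; group

end Cfsg.Agent.S1967
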