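import Cfsg.Statements.S1970
import Cfsg.Agent.Lib.Functors.SectionApps

set_option autoImplicit false
set_option linter.style.haveILetI false
set_option linter.unusedVariables false
universe u
open Cfsg

namespace Cfsg.Agent.S1970

/-- Let p be a prime, G a finite group and W an isomorphism-invariant p-group functor (W assigns to every group Q a subgroup W(Q), nontrivial whenever Q is a nontrivial finite p-group, and every isomorphism from a finite p-group Q onto a group R carries W(Q) onto W(R)). Suppose that for every section G* = K/R of G with C_{G*}(O_p(G*)) ≤ O_p(G*) and every Sylow p-subgroup S* of G*, one has O_p(G*) ∩ (G*)' = O_p(G*) ∩ (N_{G*}(W(S*)))'. Then W controls transfer in every section G* of G: S* ∩ (G*)' = S* ∩ (N_{G*}(W(S*)))' for a Sylow p-subgroup S* of G*. -/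
theorem result {G : Type u} [Group G] [Finite G] {p : ℕ} [Fact p.Prime] (W : ∀ (Q : Type u) [Group Q], Subgroup Q) (hW : Cfsg.IsCharPFunctor.{u} p W) (hloc : ∀ (K R : Subgroup G) [hR : (R.subgroupOf K).Normal], Subgroup.centralizer ((Cfsg.pCore p (↥K ⧸ R.subgroupOf K) : Subgroup (↥K ⧸ R.subgroupOf K)) : Set (↥K ⧸ R.subgroupOf K)) ≤ Cfsg.pCore p (↥K ⧸ R.subgroupOf K) → ∀ T : Sylow p (↥K ⧸ R.subgroupOf K), Cfsg.pCore p (↥K ⧸ R.subgroupOf K) ⊓ commutator (↥K ⧸ R.subgroupOf K) = Cfsg.pCore p (↥K ⧸ R.subgroupOf K) ⊓ ⁅Subgroup.normalizer ((Cfsg.inducedFunctor (G := (↥K ⧸ R.subgroupOf K)) W ((T : Subgroup (↥K ⧸ R.subgroupOf K))) : Subgroup (↥K ⧸ R.subgroupOf K)) : Set (↥K ⧸ R.subgroupOf K)), Subgroup.normalizer ((Cfsg.inducedFunctor (G := (↥K ⧸ R.subgroupOf K)) W ((T : Subgroup (↥K ⧸ R.subgroupOf K))) : Subgroup (↥K ⧸ R.subgroupOf K)) : Set (↥K ⧸ R.subgroupOf K))⁆) : ∀ (K R : Subgroup G) [hR : (R.subgroupOf K).Normal], Cfsg.ControlsTransferIn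 p (Cfsg.inducedFunctor (G := (↥K ⧸ R.subgroupOf K)) W) ⊤ := by
  intro K R hR
  refine (Cfsg.Agent.Functors.singletonTR_iff _ ⊤).1 ?_
  rw [← Cfsg.Agent.Functors.indSet_singleton W]
  refine Cfsg.Agent.Functors.ctlTR_of_sections (by simpa using hW) _ fun Y _ _ hY hC => ?_
  refine Cfsg.Agent.Functors.forall_constr_section (G := G) (p := p)
    (fun Y [Group Y] [Finite Y] => ∀ S : Sylow p Y, Cfsg.pCore p Y ⊓ commutator Y ≤
      Cfsg.Agent.Functors.transferPart (Cfsg.Agent.Functors.indSet Y {W}) ⊤ (S : Subgroup Y))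
    (fun _ _ _ _ _ _ e h => Cfsg.Agent.Functors.weakTR_congr (by simpa using hW) e h) ?_ Y
    (Cfsg.Agent.Functors.isSectionOf_trans K R hY) hC
  intro K' R' hR' h S
  rw [hloc K' R' h S]
  refine le_iSup₂_of_le (Cfsg.inducedFunctor (G := (↥K' ⧸ R'.subgroupOf K')) W) ⟨W, rfl, rfl⟩ ?_
  rw [top_inf_eq]
  exact inf_le_inf_right _ (Cfsg.Agent.PBasic.pCore_le_sylow S)

end Cfsg.Agent.S1970
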