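import Cfsg.Statements.S2007
import Cfsg.Agent.Lib.Transfer.Basic
import Cfsg.Agent.Lib.Transfer.Fusion

set_option autoImplicit false
set_option linter.style.haveILetI false
set_option linter.unusedVariables false
open Cfsg

namespace Cfsg.Agent.S2007

/-- Let p be a prime, G a finite group with Sylow p-subgroup S, and T a normal subgroup of S containing C_S(T). If N_G(T)/C_G(T) is a p-group (every element of N_G(T) of order prime to p centralizes T), then N_G(T) has a normal p-complement. -/
theorem result {G : Type*} [Group G] [Finite G] {p : ℕ} [Fact p.Prime] (S : Sylow p G) (T : Subgroup G) (hTS : T ≤ (S : Subgroup G)) (hTn : (S : Subgroup G) ≤ Subgroup.normalizer ((T : Subgroup G) : Set G)) (hC : (S : Subgroup G) ⊓ Subgroup.centralizer ((T : Subgroup G) : Set G) ≤ T) (hN : ∀ g ∈ Subgroup.normalizer ((T : Subgroup G) : Set G), (orderOf g).Coprime p → g ∈ Subgroup.centralizer ((T : Subgroup G) : Set G)) : Cfsg.HasNormalPComplement p ↥(Subgroup.normalizer ((T : Subgroup G) : Set G)) := by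
  set N := Subgroup.normalizer ((T : Subgroup G) : Set G) with hNdef
  have hTN : T ≤ N := Subgroup.le_normalizer
  haveI : (T.subgroupOf N).Normal := Subgroup.normal_in_normalizer
  set C : Subgroup ↥N := Subgroup.centralizer (T.subgroupOf N : Set ↥N) with hCdef
  have memC : ∀ g : ↥N, g ∈ C ↔ (g : G) ∈ Subgroup.centralizer ((T : Subgroup G) : Set G) := by
    intro g
    rw [hCdef, Subgroup.mem_centralizer_iff, Subgroup.mem_centralizer_iff]
    constructor
    · exact fun h t ht => congrArg Subtype.val (h ⟨t, hTN ht⟩ ht)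
    · exact fun h t ht => Subtype.ext (h (t : G) ht)
  obtain ⟨Q, hQ⟩ := PBasic.exists_sylow_subgroupOf (S.subtype hTn) C
  have hQc : Subgroup.normalizer (Q : Set ↥C) ≤ Subgroup.centralizer (Q : Set ↥C) := by
    intro n _
    rw [Subgroup.mem_centralizer_iff]
    intro q hq
    have hqT : (((q : ↥C) : ↥N) : G) ∈ T := by
      refine hC (Subgroup.mem_inf.2 ⟨?_, (memC _).1 q.2⟩)
      have : q ∈ (Q : Subgroup ↥C) := hq
      rw [hQ, Subgroup.mem_subgroupOf] at this
      exact this
    exact Subtype.ext (Subtype.ext (Subgroup.mem_centralizer_iff.1 ((memC _).1 n.2) _ hqT))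
  refine PBasic.hasNormalPComplement_of_normal C
    (Fusion.hasNormalPComplement_of_normalizer_le_centralizer Q hQc) ?_
  refine PBasic.quotient_isPGroup_of_pResidual_le ?_
  rw [Cfsg.pResidual, Subgroup.closure_le]
  intro g hg
  exact (memC g).2 (hN g g.2 (by rw [Subgroup.orderOf_coe]; exact hg))

end Cfsg.Agent.S2007
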