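import Cfsg.Statements.S1988
import Cfsg.Agent.Lib.Functors.NPCApps
import Cfsg.Agent.Lib.Functors.TransferApps
import Cfsg.Agent.S2007

set_option autoImplicit false
set_option linter.style.haveILetI false
set_option linter.unusedVariables false
universe u
open Cfsg

namespace Cfsg.Agent.S1988

/-- Let p be an odd prime, G a finite group with Sylow p-subgroup S and K the lower K-infinity subgroup of S. If N_G(K) has a normal p-complement, or if N_G(K)/C_G(K) is a p-group (every element of N_G(K) of order prime to p centralizes K), then G has a normal p-complement. -/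
theorem result {G : Type u} [Group G] [Finite G] {p : ℕ} [Fact p.Prime] (hp : p ≠ 2) (S : Sylow p G) (h : Cfsg.HasNormalPComplement p ↥(Subgroup.normalizer ((Cfsg.inducedFunctor Cfsg.kInfLower (S : Subgroup G) : Subgroup G) : Set G)) ∨ ∀ g ∈ Subgroup.normalizer ((Cfsg.inducedFunctor Cfsg.kInfLower (S : Subgroup G) : Subgroup G) : Set G), (orderOf g).Coprime p → g ∈ Subgroup.centralizer ((Cfsg.inducedFunctor Cfsg.kInfLower (S : Subgroup G) : Subgroup G) : Set G)) : Cfsg.HasNormalPComplement p G := by
  refine Cfsg.Agent.FunctorNPC.hasNormalPComplement_of_pStable_ctl hp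
    Cfsg.Agent.Functors.isCharPFunctor_kInfLower
    (fun K R _ hst T => Cfsg.Agent.Functors.controlsStrongFusion_of_ctl
      Cfsg.Agent.Functors.isCharPFunctor_kInfLower (Cfsg.Agent.Functors.ctlSF_kInf _ hst).1 T) S ?_
  rcases h with h | h
  · exact h
  have hW := Cfsg.Agent.Functors.inducedFunctor_isConjugacyFunctor (G := G)
    (Cfsg.Agent.Functors.isCharPFunctor_kInfLower (p := p))
  refine Cfsg.Agent.S2007.result S _ (Cfsg.Agent.Functors.conjFunctor_le hW S.isPGroup')
    (Cfsg.Agent.Functors.le_normalizer_conjFunctor hW S.isPGroup') (fun x hx => ?_) h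
  obtain ⟨hxS, hxC⟩ := Subgroup.mem_inf.1 hx
  refine ⟨⟨x, hxS⟩, (Cfsg.Agent.KInf.centralizer_kInf_le S.isPGroup').1
    (Subgroup.mem_centralizer_iff.2 fun k hk => Subtype.ext ?_), rfl⟩
  exact Subgroup.mem_centralizer_iff.1 hxC _ ⟨k, hk, rfl⟩

end Cfsg.Agent.S1988
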