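import Cfsg.Statements.S1992
import Cfsg.Agent.Lib.Functors.TransferApps
import Cfsg.Agent.Lib.Char.Burnside

set_option autoImplicit false
set_option linter.style.haveILetI false
set_option linter.unusedVariables false
open Cfsg

namespace Cfsg.Agent.S1992

open Cfsg.Agent.Functors

theorem isPGroup_of_index {G : Type*} [Group G] [Finite G]
    (h : ∀ q : ℕ, q.Prime → q ∣ Nat.card G → ∀ Q : Sylow q G, Subgroup.normalizer ((Q : Subgroup G) : Set G) = Q)
    {N : Subgroup G} [N.Normal] {q : ℕ} [hq : Fact q.Prime] (hidx : N.index = q) : IsPGroup q G := by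
  refine IsPGroup.of_card (n := (Nat.card G).primeFactorsList.length)
    (Nat.eq_prime_pow_of_unique_prime_dvd Nat.card_pos.ne' fun {r} hr hrd => ?_)
  by_contra hne
  haveI : Fact r.Prime := ⟨hr⟩
  obtain ⟨R⟩ : Nonempty (Sylow r G) := inferInstance
  have hRN : (R : Subgroup G) ≤ N := by
    intro x hx
    obtain ⟨k, hk⟩ := R.isPGroup' ⟨x, hx⟩
    have h1 : x ^ r ^ k = 1 := congrArg Subtype.val hk
    have h2 : (x : G ⧸ N) ^ r ^ k = 1 := by rw [← QuotientGroup.mk_pow, h1, QuotientGroup.mk_one]
    have h3 : (x : G ⧸ N) ^ q = 1 := by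
      rw [← hidx, Subgroup.index_eq_card, pow_card_eq_one']
    have h4 := Nat.dvd_gcd (orderOf_dvd_of_pow_eq_one h2) (orderOf_dvd_of_pow_eq_one h3)
    rw [(Nat.Coprime.pow_left k ((Nat.coprime_primes hr hq.out).2 hne)).gcd_eq_one, Nat.dvd_one,
      orderOf_eq_one_iff] at h4
    exact (QuotientGroup.eq_one_iff x).1 h4
  have hf := Sylow.normalizer_sup_eq_top (R.subtype hRN)
  rw [R.coe_subtype, Subgroup.map_subgroupOf_eq_of_le hRN, h r hr hrd R, sup_eq_right.2 hRN] at hf
  rw [hf, Subgroup.index_top] at hidx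
  exact hq.out.ne_one hidx.symm

/-- Let G be a finite group in which, for every prime q dividing the order of G, every Sylow q-subgroup is its own normalizer. Then the order of G is a power of a single prime (G is a q-group for some prime q; for G trivial any prime works). -/
theorem result {G : Type*} [Group G] [Finite G] (h : ∀ q : ℕ, q.Prime → q ∣ Nat.card G → ∀ Q : Sylow q G, Subgroup.normalizer ((Q : Subgroup G) : Set G) = Q) : ∃ q : ℕ, q.Prime ∧ IsPGroup q G := by
  by_cases h5 : ∃ q : ℕ, q.Prime ∧ 5 ≤ q ∧ q ∣ Nat.card G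
  · obtain ⟨q, hq, h5q, hqd⟩ := h5
    haveI : Fact q.Prime := ⟨hq⟩
    obtain ⟨S⟩ : Nonempty (Sylow q G) := inferInstance
    obtain ⟨N, hN, hidx⟩ := exists_index_prime_of_ctl isCharPFunctor_kInfLower G
      (fun Y _ _ _ => (ctlTR_kInf h5q Y).1) S (S.ne_bot_of_dvd_card hqd) (fun g hg hc => by
        rw [h q hq hqd S] at hg
        obtain ⟨k, hk⟩ := S.isPGroup' ⟨g, hg⟩
        have h1 : orderOf g ∣ q ^ k := orderOf_dvd_of_pow_eq_one (congrArg Subtype.val hk)
        rw [show g = 1 from orderOf_eq_one_iff.1 ((hc.pow_right k).eq_one_of_dvd h1)]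
        exact one_mem _)
    exact ⟨q, hq, isPGroup_of_index h hidx⟩
  · by_cases h1 : Nat.card G = 1
    · exact ⟨2, Nat.prime_two, IsPGroup.of_card (n := 0) (by simpa using h1)⟩
    haveI : Nontrivial G := Finite.one_lt_card_iff_nontrivial.1 (by have := Nat.card_pos (α := G); omega)
    have hsol : Group.IsSolvable G := by
      refine Cfsg.Agent.Char.isSolvable_of_card_pq 2 3 Nat.prime_two Nat.prime_three _ G rfl ?_
      refine ⟨(Nat.card G).factorization 2, (Nat.card G).factorization 3, ?_⟩
      refine Nat.eq_of_factorization_eq Nat.card_pos.ne' (by positivity) fun r => ?_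
      rw [Nat.factorization_mul (by positivity) (by positivity), Nat.prime_two.factorization_pow,
        Nat.prime_three.factorization_pow]
      simp only [Finsupp.coe_add, Pi.add_apply, Finsupp.single_apply]
      rcases eq_or_ne r 2 with rfl | h2
      · simp
      rcases eq_or_ne r 3 with rfl | h3
      · simp
      rw [if_neg (Ne.symm h2), if_neg (Ne.symm h3), add_zero]
      by_contra hne
      have hr := Nat.prime_of_mem_primeFactors (Finsupp.mem_support_iff.2 hne : r ∈ (Nat.card G).primeFactors)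
      refine h5 ⟨r, hr, ?_, Nat.dvd_of_mem_primeFactors (Finsupp.mem_support_iff.2 hne)⟩
      have := hr.two_le
      have : r ≠ 4 := fun h => by subst h; norm_num at hr
      omega
    have hlt : commutator G ≠ ⊤ := (Group.IsSolvable.commutator_lt_top_of_nontrivial G).ne
    have hidx1 : (commutator G).index ≠ 1 := fun h => hlt (Subgroup.index_eq_one.1 h)
    obtain ⟨q, hq, hqd⟩ := Nat.exists_prime_and_dvd hidx1
    haveI : Fact q.Prime := ⟨hq⟩
    obtain ⟨S⟩ : Nonempty (Sylow q G) := inferInstance
    obtain ⟨N, hN, hidx⟩ := exists_index_prime_of_not_le S fun hle =>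
      S.not_dvd_index (hqd.trans (Subgroup.index_dvd_of_le hle))
    exact ⟨q, hq, isPGroup_of_index h hidx⟩

end Cfsg.Agent.S1992
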