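import Cfsg.Statements.S1995
import Cfsg.Agent.Lib.Functors.SectionApps

set_option autoImplicit false
set_option linter.style.haveILetI false
set_option linter.unusedVariables false
universe u
open Cfsg

namespace Cfsg.Agent.S1995

open Cfsg.Agent.Functors in
theorem aux {G : Type u} [Group G] [Finite G] {p : ℕ} [Fact p.Prime] (𝓦 : Set (∀ (Q : Type u) [Group Q], Subgroup Q)) (h𝓦 : ∀ W ∈ 𝓦, Cfsg.IsCharPFunctor.{u} p W) (hloc : ∀ (K R : Subgroup G) [hR : (R.subgroupOf K).Normal], PConstr p (↥K ⧸ R.subgroupOf K) → CtlTR p 𝓦 (↥K ⧸ R.subgroupOf K)) : CtlTR p 𝓦 G := by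
  refine ctlTR_of_sections h𝓦 G fun Y _ _ hY hC S => ?_
  have h := forall_constr_section (fun Y [Group Y] [Finite Y] => CtlTR p 𝓦 Y)
    (fun _ _ _ _ _ _ e h => h.congr h𝓦 e) (fun K R hR h => hloc K R h) Y hY hC
  rw [← tr_top_of_ctl h𝓦 S h, ← commutator_def]
  exact inf_le_inf_right _ (Cfsg.Agent.PBasic.pCore_le_sylow S)

/-- Let p be a prime, G a finite group and 𝓦 a set of isomorphism-invariant p-group functors (W assigns to every group Q a subgroup W(Q), nontrivial whenever Q is a nontrivial finite p-group, and every isomorphism from a finite p-group Q onto a group R carries W(Q) onto W(R)). If the conjugacy functors induced by 𝓦 control transfer in every section G* = K/R of G with C_{G*}(O_p(G*)) ≤ O_p(G*), then they control transfer in G: S ∩ G' is generated by the subgroups S ∩ (N_G(W(S)))', W ∈ 𝓦, for a Sylow p-subgroup S. -/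
theorem result {G : Type u} [Group G] [Finite G] {p : ℕ} [Fact p.Prime] (𝓦 : Set (∀ (Q : Type u) [Group Q], Subgroup Q)) (h𝓦 : ∀ W ∈ 𝓦, Cfsg.IsCharPFunctor.{u} p W) (hloc : ∀ (K R : Subgroup G) [hR : (R.subgroupOf K).Normal], Subgroup.centralizer ((Cfsg.pCore p (↥K ⧸ R.subgroupOf K) : Subgroup (↥K ⧸ R.subgroupOf K)) : Set (↥K ⧸ R.subgroupOf K)) ≤ Cfsg.pCore p (↥K ⧸ R.subgroupOf K) → Cfsg.FamilyControlsTransferIn p ((fun W => Cfsg.inducedFunctor (G := (↥K ⧸ R.subgroupOf K)) W) '' 𝓦) ⊤) : Cfsg.FamilyControlsTransferIn p ((fun W => Cfsg.inducedFunctor (G := G) W) '' 𝓦) ⊤ := by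
  exact aux 𝓦 h𝓦 (fun K R hR h => hloc K R h)

end Cfsg.Agent.S1995
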