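import Cfsg.Statements.S1997
import Cfsg.Agent.Lib.Functors.SectionApps
import Cfsg.Agent.Lib.Techniques.PConstrained

set_option autoImplicit false
set_option linter.style.haveILetI false
set_option linter.unusedVariables false
universe u
open Cfsg

namespace Cfsg.Agent.S1997

open Cfsg.Agent Cfsg.Agent.Functors

theorem omega_mem {G : Type u} [Group G] (p : ℕ) {S : Subgroup G} {z : G} (hzS : z ∈ S)
    (hz : ∀ y ∈ S, y * z = z * y) (hzp : z ^ p = 1) :
    z ∈ Cfsg.omegaOne p (S ⊓ Subgroup.centralizer (S : Set G)) :=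
  Subgroup.subset_closure ⟨Subgroup.mem_inf.2 ⟨hzS, Subgroup.mem_centralizer_iff.2 hz⟩, hzp⟩

theorem omega_cent {G : Type u} [Group G] (p : ℕ) {S : Subgroup G} {x : G}
    (h : ∀ z ∈ S, (∀ y ∈ S, y * z = z * y) → z ^ p = 1 → z * x = x * z) :
    x ∈ Subgroup.centralizer ((Cfsg.omegaOne p (S ⊓ Subgroup.centralizer (S : Set G)) : Subgroup G) : Set G) := by
  have : Cfsg.omegaOne p (S ⊓ Subgroup.centralizer (S : Set G)) ≤ Subgroup.centralizer {x} := by
    refine (Subgroup.closure_le _).2 ?_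
    rintro z ⟨hz, hzp⟩
    obtain ⟨hzS, hzC⟩ := Subgroup.mem_inf.1 hz
    exact Subgroup.mem_centralizer_singleton_iff.2 (h z hzS (Subgroup.mem_centralizer_iff.1 hzC) hzp)
  exact Subgroup.mem_centralizer_iff.2 fun z hz => Subgroup.mem_centralizer_singleton_iff.1 (this hz)

/-- `Ω₁Z(S) ≤ T` normal, `C_S(T) ≤ T`: the factorization of `X/O_{p'}(X)` lifts. -/
theorem base {X : Type u} [Group X] [Finite X] {p : ℕ} [Fact p.Prime] (S : Sylow p X)
    (W : ∀ (Q : Type u) [Group Q], Subgroup Q) (hW : Cfsg.IsCharPFunctor.{u} p W)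
    (N : Subgroup X) [N.Normal] (hNeq : N = Cfsg.pPrimeCore p X)
    (hfac : PConstr p (X ⧸ N) → ∀ T' : Sylow p (X ⧸ N), ∀ x : X ⧸ N,
      ∃ a ∈ Subgroup.centralizer ((Cfsg.omegaOne p ((T' : Subgroup (X ⧸ N)) ⊓ Subgroup.centralizer ((T' : Subgroup (X ⧸ N)) : Set (X ⧸ N))) : Subgroup (X ⧸ N)) : Set (X ⧸ N)),
        ∃ b ∈ Subgroup.normalizer ((Cfsg.inducedFunctor W (T' : Subgroup (X ⧸ N)) : Subgroup (X ⧸ N)) : Set (X ⧸ N)), x = a * b)
    (T : Subgroup X) [hT : T.Normal] (hTS : T ≤ (S : Subgroup X))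
    (hΩ : Cfsg.omegaOne p ((S : Subgroup X) ⊓ Subgroup.centralizer ((S : Subgroup X) : Set X)) ≤ T)
    (hC : (S : Subgroup X) ⊓ Subgroup.centralizer (T : Set X) ≤ T) (x : X) :
    ∃ a ∈ Subgroup.centralizer ((Cfsg.omegaOne p ((S : Subgroup X) ⊓ Subgroup.centralizer ((S : Subgroup X) : Set X)) : Subgroup X) : Set X),
      ∃ b ∈ Subgroup.normalizer ((Cfsg.inducedFunctor W (S : Subgroup X) : Subgroup X) : Set X), x = a * b := by
  subst hNeq
  set N := Cfsg.pPrimeCore p X with hNdef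
  set π := QuotientGroup.mk' N with hπ
  have hN : (Nat.card ↥N).Coprime p := PBasic.pPrimeCore_coprime p X
  have hsurj : Function.Surjective π := QuotientGroup.mk'_surjective N
  set S' := S.mapSurjective hsurj with hS'
  have hS'c : (S' : Subgroup (X ⧸ N)) = (S : Subgroup X).map π := rfl
  have hTp : T.map π ≤ Cfsg.pCore p (X ⧸ N) :=
    PBasic.le_pCore (hT.map π hsurj) ((S.isPGroup'.to_le hTS).map π)
  have hconstr : PConstr p (X ⧸ N) := by
    refine centralizer_pCore_le_of_inf S' (PBasic.pPrimeCore_quotient_pPrimeCore p X) ?_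
    intro y hy
    obtain ⟨hy1, hy2⟩ := Subgroup.mem_inf.1 hy
    rw [hS'c] at hy1
    obtain ⟨s, hs, rfl⟩ := hy1
    refine hTp ⟨s, hC (Subgroup.mem_inf.2 ⟨hs, Subgroup.mem_centralizer_iff.2 fun t ht => ?_⟩), rfl⟩
    have h1 := Subgroup.mem_centralizer_iff.1 hy2 (π t) (hTp ⟨t, ht, rfl⟩)
    exact mk_injOn S hN (mul_mem (hTS ht) hs) (mul_mem hs (hTS ht)) (by rw [← hπ, map_mul, map_mul, h1])
  obtain ⟨a, ha, b, hb, hab⟩ := hfac hconstr S' (π x)
  rw [hS'c, inducedFunctor_map_mk S hN hW, PConstr.map_normalizer_eq π hsurj (ker_mk_coprime hN)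
    (U := Cfsg.inducedFunctor W (S : Subgroup X)) (S.isPGroup'.to_le (Subgroup.map_subtype_le _)) |>.symm] at hb
  obtain ⟨b₀, hb₀, rfl⟩ := hb
  refine ⟨x * b₀⁻¹, omega_cent p fun z hzS hzC hzp => ?_, b₀, hb₀, by group⟩
  have hz' : π z ∈ Cfsg.omegaOne p ((S' : Subgroup (X ⧸ N)) ⊓ Subgroup.centralizer ((S' : Subgroup (X ⧸ N)) : Set (X ⧸ N))) := by
    refine omega_mem p (by rw [hS'c]; exact ⟨z, hzS, rfl⟩) ?_ (by rw [← map_pow, hzp, map_one])
    rw [hS'c]
    rintro _ ⟨y, hy, rfl⟩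
    rw [← map_mul, ← map_mul, hzC y hy]
  have h1 := Subgroup.mem_centralizer_iff.1 ha _ hz'
  have hzT : z ∈ T := hΩ (omega_mem p hzS hzC hzp)
  have h2 : π (x * b₀⁻¹) = a := by rw [map_mul, map_inv, hab, mul_inv_cancel_right]
  have h3 : (x * b₀⁻¹) * z * (x * b₀⁻¹)⁻¹ = z := by
    refine mk_injOn S hN (hTS (hT.conj_mem z hzT _)) hzS ?_
    rw [← hπ, map_mul, map_mul, map_inv π (x * b₀⁻¹), h2, ← h1]
    group
  exact (mul_inv_eq_iff_eq_mul.1 h3).symm

theorem sup_normal_le {G : Type u} [Group G] {H A B : Subgroup G}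
    (hA : H ≤ Subgroup.normalizer (A : Set G)) (hB : H ≤ Subgroup.normalizer (B : Set G)) :
    H ≤ Subgroup.normalizer ((A ⊔ B : Subgroup G) : Set G) := fun h hh =>
  map_cj_eq_iff.1 (by rw [Subgroup.map_sup, map_cj_eq_iff.2 (hA hh), map_cj_eq_iff.2 (hB hh)])

/-- `Ω₁Z(S) ≤ T ⊴ H`, `T ≤ S ≤ H`: then `H ⊆ C(Ω₁Z(S)) N(W(S))`. -/
theorem key {G : Type u} [Group G] [Finite G] {p : ℕ} [Fact p.Prime] (S : Sylow p G)
    (W : ∀ (Q : Type u) [Group Q], Subgroup Q) (hW : Cfsg.IsCharPFunctor.{u} p W)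
    (hfac : ∀ (K R : Subgroup G) [hR : (R.subgroupOf K).Normal], PConstr p (↥K ⧸ R.subgroupOf K) →
      ∀ T : Sylow p (↥K ⧸ R.subgroupOf K), ∀ x : (↥K ⧸ R.subgroupOf K),
        ∃ a ∈ Subgroup.centralizer ((Cfsg.omegaOne p ((T : Subgroup (↥K ⧸ R.subgroupOf K)) ⊓ Subgroup.centralizer ((T : Subgroup (↥K ⧸ R.subgroupOf K)) : Set (↥K ⧸ R.subgroupOf K))) : Subgroup (↥K ⧸ R.subgroupOf K)) : Set (↥K ⧸ R.subgroupOf K)),
        ∃ b ∈ Subgroup.normalizer ((Cfsg.inducedFunctor W (T : Subgroup (↥K ⧸ R.subgroupOf K)) : Subgroup (↥K ⧸ R.subgroupOf K)) : Set (↥K ⧸ R.subgroupOf K)), x = a * b) :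
    ∀ (H T : Subgroup G), (S : Subgroup G) ≤ H → T ≤ (S : Subgroup G) → H ≤ Subgroup.normalizer (T : Set G) →
      Cfsg.omegaOne p ((S : Subgroup G) ⊓ Subgroup.centralizer ((S : Subgroup G) : Set G)) ≤ T →
      ∀ x ∈ H, ∃ a ∈ Subgroup.centralizer ((Cfsg.omegaOne p ((S : Subgroup G) ⊓ Subgroup.centralizer ((S : Subgroup G) : Set G)) : Subgroup G) : Set G),
        ∃ b ∈ Subgroup.normalizer ((Cfsg.inducedFunctor W (S : Subgroup G) : Subgroup G) : Set G), x = a * b := by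
  intro H
  induction hn : Nat.card ↥H using Nat.strong_induction_on generalizing H with
  | _ n ih =>
    intro T hSH hTS hHT hΩ x hx
    set Ω := Cfsg.omegaOne p ((S : Subgroup G) ⊓ Subgroup.centralizer ((S : Subgroup G) : Set G)) with hΩdef
    have hbase : ∀ T' : Subgroup G, T' ≤ (S : Subgroup G) → H ≤ Subgroup.normalizer (T' : Set G) → Ω ≤ T' →
        (S : Subgroup G) ⊓ Subgroup.centralizer (T' : Set G) ≤ T' →
        ∃ a ∈ Subgroup.centralizer (Ω : Set G),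
          ∃ b ∈ Subgroup.normalizer ((Cfsg.inducedFunctor W (S : Subgroup G) : Subgroup G) : Set G), x = a * b := by
      intro T' hT'S hHT' hΩT' hCT'
      set R := (Cfsg.pPrimeCore p ↥H).map H.subtype with hR
      have hRc : R.subgroupOf H = Cfsg.pPrimeCore p ↥H :=
        Subgroup.comap_map_eq_self_of_injective H.subtype_injective _
      haveI : (R.subgroupOf H).Normal := by rw [hRc]; exact Cfsg.pPrimeCore_normal p ↥H
      haveI : (T'.subgroupOf H).Normal := Subgroup.normal_subgroupOf_of_le_normalizer hHT'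
      set SH : Sylow p ↥H := S.subtype hSH with hSHdef
      have hSHc : (SH : Subgroup ↥H) = (S : Subgroup G).subgroupOf H := S.coe_subtype hSH
      obtain ⟨a, ha, b, hb, hab⟩ := base SH W hW (R.subgroupOf H) hRc
        (fun hc => hfac H R hc) (T'.subgroupOf H)
        (by rw [hSHc]; exact fun y hy => hT'S hy)
        (by
          refine (Subgroup.closure_le _).2 ?_
          rintro z ⟨hz, hzp⟩
          obtain ⟨hzS, hzC⟩ := Subgroup.mem_inf.1 hz
          rw [hSHc] at hzS hzC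
          refine hΩT' (omega_mem p hzS (fun y hy => ?_) (by
            have := congrArg Subtype.val hzp; simpa using this))
          exact congrArg Subtype.val (Subgroup.mem_centralizer_iff.1 hzC ⟨y, hSH hy⟩ hy))
        (by
          intro y hy
          obtain ⟨hyS, hyC⟩ := Subgroup.mem_inf.1 hy
          rw [hSHc] at hyS
          refine hCT' (Subgroup.mem_inf.2 ⟨hyS, Subgroup.mem_centralizer_iff.2 fun t ht => ?_⟩)
          exact congrArg Subtype.val
            (Subgroup.mem_centralizer_iff.1 hyC ⟨t, hSH (hT'S ht)⟩ ht))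
        ⟨x, hx⟩
      refine ⟨(a : G), omega_cent p fun z hzS hzC hzp => ?_, (b : G), ?_, congrArg Subtype.val hab⟩
      · have h1 := Subgroup.mem_centralizer_iff.1 ha ⟨z, hSH hzS⟩ (omega_mem p (by rw [hSHc]; exact hzS)
          (by
            rw [hSHc]
            intro y hy
            exact Subtype.ext (hzC y hy))
          (Subtype.ext (by simpa using hzp)))
        exact congrArg Subtype.val h1
      · have h1 : (Cfsg.inducedFunctor W (SH : Subgroup ↥H)).map H.subtype =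
            Cfsg.inducedFunctor W (S : Subgroup G) := by
          rw [← inducedFunctor_map_of_injective hW SH.isPGroup' H.subtype_injective, hSHc,
            Subgroup.map_subgroupOf_eq_of_le hSH]
        rw [← h1]
        exact Subgroup.le_normalizer_map H.subtype ⟨b, hb, rfl⟩
    set C := (S : Subgroup G) ⊓ Subgroup.centralizer (T : Set G) with hC
    by_cases hCT : C ≤ T
    · exact hbase T hTS hHT hΩ hCT
    by_cases hHC : H ≤ Subgroup.normalizer (C : Set G)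
    · refine hbase (T ⊔ C) (sup_le hTS inf_le_left) (sup_normal_le hHT hHC) (hΩ.trans le_sup_left) ?_
      exact le_trans (inf_le_inf_left _ (Subgroup.centralizer_le (SetLike.coe_subset_coe.2 le_sup_left)))
        le_sup_right
    -- Frattini
    set L := H ⊓ Subgroup.centralizer (T : Set G) with hL
    have hHL : H ≤ Subgroup.normalizer (L : Set G) := by
      intro h hh
      have hct : (Subgroup.centralizer (T : Set G)).map (cj h) = Subgroup.centralizer (T : Set G) := by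
        ext y
        rw [mem_map_cj, Subgroup.mem_centralizer_iff, Subgroup.mem_centralizer_iff]
        have hmem : ∀ t, t ∈ T ↔ h * t * h⁻¹ ∈ T := Subgroup.mem_normalizer_iff.1 (hHT hh)
        constructor
        · intro h1 t ht
          have h2 := h1 (h⁻¹ * t * h) ((hmem _).2 (by simpa [mul_assoc] using ht))
          calc t * y = h * (h⁻¹ * t * h * (h⁻¹ * y * h)) * h⁻¹ := by group
            _ = h * (h⁻¹ * y * h * (h⁻¹ * t * h)) * h⁻¹ := by rw [h2]
            _ = y * t := by group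
        · intro h1 t ht
          have h2 := h1 _ ((hmem t).1 ht)
          calc t * (h⁻¹ * y * h) = h⁻¹ * (h * t * h⁻¹ * y) * h := by group
            _ = h⁻¹ * (y * (h * t * h⁻¹)) * h := by rw [h2]
            _ = h⁻¹ * y * h * t := by group
      refine map_cj_eq_iff.1 ?_
      rw [hL, Subgroup.map_inf _ _ _ (cj_injective h), map_cj_eq_iff.2 (Subgroup.le_normalizer hh), hct]
    have hsyl : IsSylowIn p C L := by
      have h := ((isSylowIn_sylow S).of_le hSH le_top).inf_normalized (inf_le_left : L ≤ H) hHL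
      have e : (S : Subgroup G) ⊓ L = C := by
        rw [hL, hC, ← inf_assoc, inf_eq_left.2 hSH]
      rwa [e] at h
    have hsylx : IsSylowIn p (C.map (cj x)) L := by
      have h := hsyl.map_cj x
      rwa [map_cj_eq_iff.2 (hHL hx)] at h
    obtain ⟨c, hc, hcC⟩ := exists_conj_eq_of_isSylowIn hsyl hsylx
    rw [map_map_cj] at hcC
    obtain ⟨hcH, hcT⟩ := Subgroup.mem_inf.1 hc
    set M := H ⊓ Subgroup.normalizer (C : Set G) with hM
    have hSM : (S : Subgroup G) ≤ M := by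
      refine le_inf hSH ?_
      intro s hs
      refine map_cj_eq_iff.1 ?_
      have h1 := map_cj_eq_iff.2 (hHL (hSH hs))
      have e : C = (S : Subgroup G) ⊓ L := by rw [hL, hC, ← inf_assoc, inf_eq_left.2 hSH]
      rw [e, Subgroup.map_inf _ _ _ (cj_injective s), h1, map_cj_eq_iff.2 (Subgroup.le_normalizer hs)]
    have hlt : Nat.card ↥M < n := by
      subst hn
      exact Set.ncard_lt_ncard (SetLike.coe_ssubset_coe.2
        (lt_of_le_of_ne inf_le_left fun h => hHC (h.symm ▸ inf_le_right))) (Set.toFinite _)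
    obtain ⟨a, ha, b, hb, hab⟩ := ih _ hlt M rfl T hSM hTS (inf_le_left.trans hHT) hΩ (c * x)
      (Subgroup.mem_inf.2 ⟨mul_mem hcH hx, map_cj_eq_iff.1 hcC⟩)
    refine ⟨c⁻¹ * a, mul_mem (inv_mem (Subgroup.centralizer_le (SetLike.coe_subset_coe.2 hΩ) hcT)) ha,
      b, hb, ?_⟩
    rw [mul_assoc, ← hab, inv_mul_cancel_left]

/-- The conjugates of `Z` under `N`. -/
theorem nc_le {G : Type u} [Group G] {N Z B : Subgroup G} (hZN : Z ≤ N)
    (h : ∀ n ∈ N, ∀ z ∈ Z, n * z * n⁻¹ ∈ B) :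
    (Subgroup.normalClosure ((Z.subgroupOf N : Subgroup ↥N) : Set ↥N)).map N.subtype ≤ B := by
  rw [Subgroup.normalClosure, MonoidHom.map_closure, Subgroup.closure_le]
  rintro _ ⟨y, hy, rfl⟩
  obtain ⟨z, hz, hzy⟩ := Group.mem_conjugatesOfSet_iff.1 hy
  obtain ⟨c, rfl⟩ := isConj_iff.1 hzy
  exact h c c.2 z hz

theorem nc_ge {G : Type u} [Group G] {N Z : Subgroup G} (hZN : Z ≤ N) :
    Z ≤ (Subgroup.normalClosure ((Z.subgroupOf N : Subgroup ↥N) : Set ↥N)).map N.subtype :=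
  fun z hz => ⟨⟨z, hZN hz⟩, Subgroup.subset_normalClosure hz, rfl⟩

theorem nc_normal {G : Type u} [Group G] (N Z : Subgroup G) :
    N ≤ Subgroup.normalizer (((Subgroup.normalClosure ((Z.subgroupOf N : Subgroup ↥N) : Set ↥N)).map N.subtype : Subgroup G) : Set G) := by
  intro n hn
  refine Subgroup.le_normalizer_map N.subtype ⟨⟨n, hn⟩, ?_, rfl⟩
  rw [Subgroup.normalizer_eq_top]
  exact Subgroup.mem_top _

/-- Let p be a prime, G a finite group with Sylow p-subgroup S, and W₁, W₂ two isomorphism-invariant p-group functors (W assigns to every group Q a subgroup W(Q), nontrivial whenever Q is a nontrivial finite p-group, and every isomorphism from a finite p-group Q onto a group R carries W(Q) onto W(R)). Suppose that G* = C_{G*}(Ω₁Z(S*)) N_{G*}(W₁(S*)) = C_{G*}(Ω₁Z(S*)) N_{G*}(W₂(S*)) = N_{G*}(W₁(S*)) N_{G*}(W₂(S*)) whenever G* = K/R is a section of G with C_{G*}(O_p(G*)) ≤ O_p(G*) and S* is a Sylow p-subgroup of G*, where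 Ω₁Z denotes the subgroup generated by the elements of order dividing p in the centre. Suppose also Ω₁Z(S) ≤ W₁(S) ∩ W₂(S), and let A be the normal closure of Ω₁Z(S) in N_G(W₁(S)). Then A is an elementary abelian subgroup of S, strongly closed in S with respect to G, and A controls strong fusion in G. -/
theorem result {G : Type u} [Group G] [Finite G] {p : ℕ} [Fact p.Prime] (S : Sylow p G) (W₁ W₂ : ∀ (Q : Type u) [Group Q], Subgroup Q) (hW₁ : Cfsg.IsCharPFunctor.{u} p W₁) (hW₂ : Cfsg.IsCharPFunctor.{u} p W₂) (hfac : ∀ (K R : Subgroup G) [hR : (R.subgroupOf K).Normal], Subgroup.centralizer ((Cfsg.pCore p (↥K ⧸ R.subgroupOf K) : Subgroup (↥K ⧸ R.subgroupOf K)) : Set (↥K ⧸ R.subgroupOf K)) ≤ Cfsg.pCore p (↥K ⧸ R.subgroupOf K) → ∀ T : Sylow p (↥K ⧸ R.subgroupOf K), (∀ x : (↥K ⧸ R.subgroupOf K), ∃ a ∈ Subgroup.centralizer ((Cfsg.omegaOne p ((T : Subgroup (↥K ⧸ R.subgroupOf K)) ⊓ Subgroup.centralizer (((T : Subgroup (↥K ⧸ R.subgroupOf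 K)) : Subgroup (↥K ⧸ R.subgroupOf K)) : Set (↥K ⧸ R.subgroupOf K))) : Subgroup (↥K ⧸ R.subgroupOf K)) : Set (↥K ⧸ R.subgroupOf K)), ∃ b ∈ Subgroup.normalizer ((Cfsg.inducedFunctor (G := (↥K ⧸ R.subgroupOf K)) W₁ (T : Subgroup (↥K ⧸ R.subgroupOf K)) : Subgroup (↥K ⧸ R.subgroupOf K)) : Set (↥K ⧸ R.subgroupOf K)), x = a * b) ∧ (∀ x : (↥K ⧸ R.subgroupOf K), ∃ a ∈ Subgroup.centralizer ((Cfsg.omegaOne p ((T : Subgroup (↥K ⧸ R.subgroupOf K)) ⊓ Subgroup.centralizer (((T : Subgroup (↥K ⧸ R.subgroupOf K)) : Subgroup (↥K ⧸ R.subgroupOf K)) : Set (↥K ⧸ R.subgroupOf K))) : Subgroup (↥K ⧸ R.subgroupOf K)) : Set (↥K ⧸ R.subgroupOf K)), ∃ b ∈ Subgroup.normalizer ((Cfsg.inducedFunctor (G := (↥K ⧸ R.subgroupOf K)) W₂ (T : Subgroup (↥K ⧸ R.subgroupOf K)) : Subgroup (↥K ⧸ R.subgroupOf K)) : Set (↥K ⧸ R.subgroupOf K)), x = a * b) ∧ (∀ x : (↥K ⧸ R.subgroupOf K), ∃ a ∈ Subgroup.normalizer ((Cfsg.inducedFunctor (G := (↥K ⧸ R.subgroupOf K)) W₁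 (T : Subgroup (↥K ⧸ R.subgroupOf K)) : Subgroup (↥K ⧸ R.subgroupOf K)) : Set (↥K ⧸ R.subgroupOf K)), ∃ b ∈ Subgroup.normalizer ((Cfsg.inducedFunctor (G := (↥K ⧸ R.subgroupOf K)) W₂ (T : Subgroup (↥K ⧸ R.subgroupOf K)) : Subgroup (↥K ⧸ R.subgroupOf K)) : Set (↥K ⧸ R.subgroupOf K)), x = a * b)) (hZ : Cfsg.omegaOne p ((S : Subgroup G) ⊓ Subgroup.centralizer (((S : Subgroup G) : Subgroup G) : Set G)) ≤ Cfsg.inducedFunctor (G := G) W₁ (S : Subgroup G) ⊓ Cfsg.inducedFunctor (G := G) W₂ (S : Subgroup G)) (N₁ : Subgroup G) (hN₁ : N₁ = Subgroup.normalizer ((Cfsg.inducedFunctor (G := G) W₁ (S : Subgroup G) : Subgroup G) : Set G)) (A : Subgroup G) (hA : A = (Subgroup.normalClosure (((Cfsg.omegaOne p ((S : Subgroup G) ⊓ Subgroup.centralizer (((S : Subgroup G) : Subgroup G) : Set G))).subgroupOf N₁ : Subgroup ↥N₁) : Set ↥N₁)).map N₁.subtype) : A ≤ (S : Subgroup G) ∧ Cfsg.IsElementaryAbelian p A ∧ Cfsg.IsStronglyClosed A (S : Subgroup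 G) ∧ Cfsg.ControlsStrongFusion p A := by
  haveI := hW₁
  set S₀ : Subgroup G := (S : Subgroup G) with hS₀
  set Ω := Cfsg.omegaOne p (S₀ ⊓ Subgroup.centralizer (S₀ : Set G)) with hΩdef
  set V₁ := Cfsg.inducedFunctor (G := G) W₁ S₀ with hV₁
  set V₂ := Cfsg.inducedFunctor (G := G) W₂ S₀ with hV₂
  subst hN₁
  set N₁ := Subgroup.normalizer (V₁ : Set G) with hN₁
  set N₂ := Subgroup.normalizer (V₂ : Set G) with hN₂
  have hSN₁ : S₀ ≤ N₁ := le_normalizer_conjFunctor (inducedFunctor_isConjugacyFunctor hW₁) S.isPGroup'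
  have hSN₂ : S₀ ≤ N₂ := le_normalizer_conjFunctor (inducedFunctor_isConjugacyFunctor hW₂) S.isPGroup'
  have hV₁S : V₁ ≤ S₀ := Subgroup.map_subtype_le _
  have hV₂S : V₂ ≤ S₀ := Subgroup.map_subtype_le _
  have hΩ₁ : Ω ≤ V₁ := hZ.trans inf_le_left
  have hΩ₂ : Ω ≤ V₂ := hZ.trans inf_le_right
  have hΩN₁ : Ω ≤ N₁ := hΩ₁.trans Subgroup.le_normalizer
  have hΩN₂ : Ω ≤ N₂ := hΩ₂.trans Subgroup.le_normalizer
  have k₁ := key S W₁ hW₁ (fun K R hR hc T x => (hfac K R hc T).1 x) N₂ V₂ hSN₂ hV₂S le_rfl hΩ₂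
  have k₂ := key S W₂ hW₂ (fun K R hR hc T x => (hfac K R hc T).2.1 x) N₁ V₁ hSN₁ hV₁S le_rfl hΩ₁
  set A₂ := (Subgroup.normalClosure ((Ω.subgroupOf N₂ : Subgroup ↥N₂) : Set ↥N₂)).map N₂.subtype with hA₂
  have conj_eq : ∀ (a b : G) (z : G), a ∈ Subgroup.centralizer (Ω : Set G) → z ∈ Ω →
      (a * b)⁻¹ * z * (a * b) = b⁻¹ * z * b := by
    intro a b z ha hz
    calc (a * b)⁻¹ * z * (a * b) = b⁻¹ * (a⁻¹ * (z * a)) * b := by group
      _ = b⁻¹ * z * b := by rw [Subgroup.mem_centralizer_iff.1 ha z hz, inv_mul_cancel_left]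
  have hA₁ : N₁ ≤ Subgroup.normalizer (A : Set G) := hA ▸ nc_normal N₁ Ω
  have hA₂' : N₂ ≤ Subgroup.normalizer (A₂ : Set G) := nc_normal N₂ Ω
  have h21 : A₂ ≤ A := by
    refine nc_le hΩN₂ fun n hn z hz => ?_
    obtain ⟨a, ha, b, hb, hab⟩ := k₁ n⁻¹ (inv_mem hn)
    have e := conj_eq a b z ha hz
    rw [← hab, inv_inv] at e
    rw [e]
    have := (Subgroup.mem_normalizer_iff.1 (hA₁ (inv_mem hb)) z).1 (hA ▸ nc_ge hΩN₁ hz)
    rwa [inv_inv] at this
  have h12 : A ≤ A₂ := by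
    rw [hA]
    refine nc_le hΩN₁ fun n hn z hz => ?_
    obtain ⟨a, ha, b, hb, hab⟩ := k₂ n⁻¹ (inv_mem hn)
    have e := conj_eq a b z ha hz
    rw [← hab, inv_inv] at e
    rw [e]
    have := (Subgroup.mem_normalizer_iff.1 (hA₂' (inv_mem hb)) z).1 (nc_ge hΩN₂ hz)
    rwa [inv_inv] at this
  have hAeq : A = A₂ := le_antisymm h12 h21
  have hAN₂ : N₂ ≤ Subgroup.normalizer (A : Set G) := hAeq ▸ hA₂'
  have hAS : A ≤ S₀ := by
    rw [hA]
    refine nc_le hΩN₁ fun n hn z hz => hV₁S ((Subgroup.mem_normalizer_iff.1 hn z).1 (hΩ₁ hz))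
  have hΩC : ∀ z ∈ Ω, ∀ s ∈ S₀, s * z = z * s := by
    intro z hz
    have : Ω ≤ Subgroup.centralizer (S₀ : Set G) :=
      (Subgroup.closure_le _).2 fun y hy => (Subgroup.mem_inf.1 hy.1).2
    exact Subgroup.mem_centralizer_iff.1 (this hz)
  have hΩA : Ω ≤ A := hA ▸ nc_ge hΩN₁
  have hAC : A ≤ Subgroup.centralizer (A : Set G) := by
    conv_lhs => rw [hA]
    refine nc_le hΩN₁ fun n hn z hz => Subgroup.mem_centralizer_iff.2 fun a ha => ?_
    have h1 := hΩC z hz (n⁻¹ * a * n) (hAS (by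
      have h := (Subgroup.mem_normalizer_iff.1 (hA₁ (inv_mem hn)) a).1 ha
      rwa [inv_inv] at h))
    calc a * (n * z * n⁻¹) = n * ((n⁻¹ * a * n) * z) * n⁻¹ := by group
      _ = n * (z * (n⁻¹ * a * n)) * n⁻¹ := by rw [h1]
      _ = n * z * n⁻¹ * a := by group
  have hcomm : ∀ a ∈ A, ∀ b ∈ A, a * b = b * a := fun a ha b hb =>
    (Subgroup.mem_centralizer_iff.1 (hAC ha) b hb).symm
  have hpow : ∀ a ∈ A, a ^ p = 1 := by
    let B : Subgroup G :=
      { carrier := {a | a ∈ A ∧ a ^ p = 1}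
        one_mem' := ⟨one_mem _, one_pow _⟩
        mul_mem' := fun {a b} ha hb => ⟨mul_mem ha.1 hb.1, by
          rw [Commute.mul_pow (hcomm a ha.1 b hb.1), ha.2, hb.2, one_mul]⟩
        inv_mem' := fun {a} ha => ⟨inv_mem ha.1, by rw [inv_pow, ha.2, inv_one]⟩ }
    have hΩB : Ω ≤ B := (Subgroup.closure_le _).2 fun y hy =>
      ⟨hΩA (Subgroup.subset_closure hy), hy.2⟩
    have hAB : A ≤ B := by
      conv_lhs => rw [hA]
      refine nc_le hΩN₁ fun n hn z hz =>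
        ⟨(Subgroup.mem_normalizer_iff.1 (hA₁ hn) z).1 (hΩA hz), ?_⟩
      rw [conj_pow, (hΩB hz).2, mul_one, mul_inv_cancel]
    exact fun a ha => (hAB ha).2
  -- fusion
  have h𝓦 : ∀ W ∈ ({W₁, W₂} : Set (∀ (Q : Type u) [Group Q], Subgroup Q)), Cfsg.IsCharPFunctor.{u} p W := by
    rintro W (rfl | rfl) <;> assumption
  have hctl : CtlSF p {W₁, W₂} G :=
    ctlSF_of_sections h𝓦 G (forall_constr_section (fun Y [Group Y] [Finite Y] => CtlSF p {W₁, W₂} Y)
      (fun _ _ _ _ _ _ e h => h.congr h𝓦 e) fun K R hR hc => by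
        obtain ⟨T⟩ : Nonempty (Sylow p (↥K ⧸ R.subgroupOf K)) := inferInstance
        exact ctlSF_pair_of_factorization hW₁ hW₂ T (fun x => (hfac K R hc T).2.2 x))
  have hfus : ∀ (B : Set G) (g : G), B ⊆ S₀ → (fun a => g * a * g⁻¹) '' B ⊆ S₀ →
      ∃ x ∈ Subgroup.normalizer (A : Set G), ∀ a ∈ B, g * a * g⁻¹ = x * a * x⁻¹ := by
    intro B g hB hgB
    obtain ⟨n, c, hc0, hstep, -, hlast⟩ := sfAt_top_of_ctl h𝓦 S hctl B g (Subgroup.mem_top _) hB hgB
    have hkey : ∀ i : Fin (n + 1), c i ∈ Subgroup.normalizer (A : Set G) := by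
      intro i
      induction i using Fin.induction with
      | zero => rw [hc0]; exact one_mem _
      | succ i ih =>
        obtain ⟨W', ⟨W, hW, rfl⟩, hm⟩ := hstep i
        have hm' := (Subgroup.mem_inf.1 hm).2
        have : c i.succ * (c i.castSucc)⁻¹ ∈ Subgroup.normalizer (A : Set G) := by
          rcases hW with rfl | hW
          · exact hA₁ hm'
          · rw [Set.mem_singleton_iff] at hW
            subst hW
            exact hAN₂ hm'
        have := mul_mem this ih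
        rwa [inv_mul_cancel_right] at this
    exact ⟨_, hkey _, fun a ha => (hlast a ha).symm⟩
  refine ⟨hAS, ⟨⟨⟨fun a b => Subtype.ext (hcomm a a.2 b b.2)⟩⟩, hpow⟩, ⟨hAS, fun x hx g hgx => ?_⟩,
    ⟨S, hAS, fun B hB => ⟨hB, fun g hg => hfus B g hB hg⟩⟩⟩
  obtain ⟨n, hn, hnx⟩ := hfus {x} g (Set.singleton_subset_iff.2 (hAS hx)) (by
    rw [Set.image_singleton, Set.singleton_subset_iff]; exact hgx)
  rw [hnx x rfl]
  exact (Subgroup.mem_normalizer_iff.1 hn x).1 hx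

end Cfsg.Agent.S1997
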