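import Cfsg.Statements.S2000
import Cfsg.Agent.Lib.S3Free.Consequences

set_option autoImplicit false
universe u
open Cfsg

namespace Cfsg.Agent.S2000

/-- Let p be a prime and G a finite group. Then Qd(p) (the natural semidirect product of an elementary abelian group of order p² by SL₂(p)) is not involved in G if and only if there is a set 𝓦 of isomorphism-invariant p-group functors (each nontrivial on nontrivial finite p-groups and carried onto W(R) by every isomorphism from a finite p-group Q onto R, hence with characteristic values on finite p-groups) whose induced conjugacy functors control strong fusion in every section of G. -/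
theorem result {G : Type u} [Group G] [Finite G] {p : ℕ} [Fact p.Prime] : ¬ Cfsg.Involves ↥(Cfsg.qd p) G ↔ ∃ 𝓦 : Set (∀ (Q : Type u) [Group Q], Subgroup Q), (∀ W ∈ 𝓦, Cfsg.IsCharPFunctor.{u} p W) ∧ ∀ (K R : Subgroup G) [hR : (R.subgroupOf K).Normal], Cfsg.FamilyControlsStrongFusionIn p ((fun W => Cfsg.inducedFunctor (G := (↥K ⧸ R.subgroupOf K)) W) '' 𝓦) ⊤ := by
  constructor
  · intro h
    by_cases hp : p = 2
    · subst hp
      exact ⟨Cfsg.Agent.S3Free.zjPair.{u}, Cfsg.Agent.S3Free.zjPair_char, fun K R _ =>
        Cfsg.Agent.S3Free.ctlSF_zjPair_sections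
          (fun hi => h (Cfsg.Agent.S3Free.involves_qd_two_iff.2 hi)) K R⟩
    · refine ⟨{Cfsg.Agent.QdFree.zJF.{u} p True},
        by simpa using Cfsg.Agent.QdFree.isCharPFunctor_zJF.{u} True, fun K R _ => ?_⟩
      exact Cfsg.Agent.QdFree.ctlSF_zJ hp True
        (Cfsg.Agent.QdFree.pStable_subsections (Cfsg.Agent.QdFree.pStable_sections hp h) K R)
  · rintro ⟨𝓦, h𝓦, h⟩
    exact Cfsg.Agent.QdFree.not_involves_of_family h𝓦 fun K R _ => h K R

end Cfsg.Agent.S2000
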