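import Cfsg.Statements.S2002
import Cfsg.Agent.Lib.Functors.PairLocalGlobal

set_option autoImplicit false
set_option linter.style.haveILetI false
set_option linter.unusedVariables false
open Cfsg

namespace Cfsg.Agent.S2002

open Cfsg.Agent.Functors Cfsg.Agent.FunctorPair

theorem inv_form {G : Type*} [Group G] (a : G) (X : Set G) :
    (fun x => a⁻¹ * x * a) '' X = cj a⁻¹ '' X :=
  Set.image_congr fun x _ => by rw [cj_apply, inv_inv]

theorem reach_of_list {G : Type*} [Group G] {S : Subgroup G} {N₁ N₂ : Subgroup G} :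
    ∀ (l : List G) (A : Set G), (∀ y ∈ l, y ∈ N₁ ∨ y ∈ N₂) →
      (∀ k, k ≤ l.length → cj ((l.take k).prod)⁻¹ '' A ⊆ S) →
      Reach S {N₁, N₂} A (l.prod)⁻¹ := by
  intro l
  induction l with
  | nil =>
    intro A _ h
    refine .refl ?_ fun a _ => by simp
    have := h 0 le_rfl
    rwa [List.take_zero, List.prod_nil, inv_one, cj_image_one] at this
  | cons y l ih =>
    intro A hmem h
    have hA : A ⊆ (S : Set G) := by
      have := h 0 (Nat.zero_le _)
      rwa [List.take_zero, List.prod_nil, inv_one, cj_image_one] at this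
    have h1 : cj y⁻¹ '' A ⊆ (S : Set G) := by
      have := h 1 (by simp)
      simpa using this
    have hy : ∃ N ∈ ({N₁, N₂} : Set (Subgroup G)), y⁻¹ ∈ N := by
      rcases hmem y (List.mem_cons_self ..) with hy | hy
      · exact ⟨N₁, Or.inl rfl, inv_mem hy⟩
      · exact ⟨N₂, Or.inr rfl, inv_mem hy⟩
    rw [List.prod_cons, mul_inv_rev]
    refine (Reach.single hA hy h1).trans (ih _ (fun z hz => hmem z (List.mem_cons_of_mem _ hz)) ?_)
    intro k hk
    have := h (k + 1) (by simp only [List.length_cons]; omega)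
    rwa [List.take_succ_cons, List.prod_cons, mul_inv_rev, ← cj_image_image] at this

theorem list_of_reach {G : Type*} [Group G] {S : Subgroup G} {N₁ N₂ : Subgroup G} {A : Set G} {g : G}
    (r : Reach S {N₁, N₂} A g) :
    ∃ l : List G, (∀ y ∈ l, y ∈ N₁ ∨ y ∈ N₂) ∧
      (∀ k, k ≤ l.length → cj ((l.take k).prod)⁻¹ '' A ⊆ S) ∧
      ∀ a ∈ A, (l.prod)⁻¹ * a * l.prod = g * a * g⁻¹ := by
  induction r with
  | @refl A g hA hg =>
    refine ⟨[], by simp, fun k _ => ?_, fun a ha => by simp [hg a ha]⟩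
    rw [List.take_nil, List.prod_nil, inv_one, cj_image_one]
    exact hA
  | @cons A n g k hA hn _ hk ih =>
    obtain ⟨l, hl1, hl2, hl3⟩ := ih
    obtain ⟨N, hN, hnN⟩ := hn
    refine ⟨n⁻¹ :: l, ?_, ?_, ?_⟩
    · intro y hy
      rcases List.mem_cons.1 hy with rfl | hy
      · rcases hN with rfl | hN
        · exact Or.inl (inv_mem hnN)
        · rw [Set.mem_singleton_iff] at hN
          subst hN
          exact Or.inr (inv_mem hnN)
      · exact hl1 y hy
    · intro j hj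
      cases j with
      | zero =>
        rw [List.take_zero, List.prod_nil, inv_one, cj_image_one]
        exact hA
      | succ j =>
        rw [List.take_succ_cons, List.prod_cons, mul_inv_rev, inv_inv, ← cj_image_image]
        exact hl2 j (by simp only [List.length_cons] at hj; omega)
    · intro a ha
      have := hl3 _ ⟨a, ha, rfl⟩
      rw [cj_apply] at this
      rw [List.prod_cons, hk a ha]
      calc (n⁻¹ * l.prod)⁻¹ * a * (n⁻¹ * l.prod) = (l.prod)⁻¹ * (n * a * n⁻¹) * l.prod := by group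
        _ = g * n * a * (g * n)⁻¹ := by rw [this]; group

/-- Let p be a prime dividing the order of the finite group G, P a Sylow p-subgroup, W a conjugacy functor for p on G with Z(H) ≤ W(H) for every nontrivial p-subgroup H, and V a central functor (a conjugacy functor with V(H) ≤ Z(H), and V(H) ≤ V(K) whenever Z(H) ≤ Z(K)). Say that W with V controls strong fusion in a subgroup L when some Sylow p-subgroup Q of L has the property: whenever X ⊆ Q and a ∈ L with a⁻¹Xa ⊆ Q, then a = c b with c ∈ C_L(X) and b = b₁ ⋯ bₙ a product of elements each in N_L(W(Q)) or in C_L(V(Q)) such that every partial conjugate (b₁ ⋯ bₖ)⁻¹ X (b₁ ⋯ bₖ) lies in Q. If W with V controls strong fusion in N_G(H) for every subgroup H with Z(P) ≤ H ≤ P, then W with V controls strong fusion in G. -/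
theorem result {G : Type*} [Group G] [Finite G] {p : ℕ} [Fact p.Prime] (hdiv : p ∣ Nat.card G) (P : Sylow p G) (W V : Subgroup G → Subgroup G) (hW : Cfsg.IsConjugacyFunctor p W) (hV : Cfsg.IsConjugacyFunctor p V) (hWZ : ∀ H : Subgroup G, IsPGroup p ↥H → H ⊓ Subgroup.centralizer ((H : Subgroup G) : Set G) ≤ W H) (hVZ : ∀ H : Subgroup G, IsPGroup p ↥H → V H ≤ H ⊓ Subgroup.centralizer ((H : Subgroup G) : Set G)) (hVmono : ∀ H K : Subgroup G, IsPGroup p ↥H → IsPGroup p ↥K → H ≠ ⊥ → K ≠ ⊥ → H ⊓ Subgroup.centralizer ((H : Subgroup G) : Set G) ≤ K ⊓ Subgroup.centralizer ((K : Subgroup G) : Set G) → V H ≤ V K) (hloc : ∀ H : Subgroup G, (P : Subgroup G) ⊓ Subgroup.centralizer (((P : Subgroup G) : Subgroup G) : Set G) ≤ H → H ≤ (P : Subgroup G) → ∃ Q : Subgroup G, Q ≤ Subgroup.normalizer ((H : Subgroup G) : Set G) ∧ IsPGroup p ↥Q ∧ ¬ p ∣ (Q).relIndex (Subgroup.normalizer ((H : Subgroup G) : Set G)) ∧ ∀ (X : Set G) (a : G), X ⊆ Q → a ∈ Subgroup.normalizer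 ((H : Subgroup G) : Set G) → (fun x => a⁻¹ * x * a) '' X ⊆ Q → ∃ c ∈ Subgroup.normalizer ((H : Subgroup G) : Set G) ⊓ Subgroup.centralizer X, ∃ (n : ℕ) (b : Fin n → G), (∀ i, b i ∈ Subgroup.normalizer ((H : Subgroup G) : Set G) ⊓ Subgroup.normalizer ((W Q : Subgroup G) : Set G) ∨ b i ∈ Subgroup.normalizer ((H : Subgroup G) : Set G) ⊓ Subgroup.centralizer ((V Q : Subgroup G) : Set G)) ∧ a = c * (List.ofFn b).prod ∧ ∀ k : ℕ, k ≤ n → (fun x => (((List.ofFn b).take k).prod)⁻¹ * x * ((List.ofFn b).take k).prod) '' ((fun x => c⁻¹ * x * c) '' X) ⊆ Q) : ∃ Q : Subgroup G, IsPGroup p ↥Q ∧ ¬ p ∣ Q.index ∧ ∀ (X : Set G) (a : G), X ⊆ Q → (fun x => a⁻¹ * x * a) '' X ⊆ Q → ∃ c ∈ Subgroup.centralizer X, ∃ (n : ℕ) (b : Fin n → G), (∀ i, b i ∈ ⊤ ⊓ Subgroup.normalizer ((W Q : Subgroup G) : Set G) ∨ b i ∈ ⊤ ⊓ Subgroup.centralizer ((V Q : Subgroup G) : Set G)) ∧ a = c * (List.ofFn b).prod ∧ ∀ k : ℕ, k ≤ n → (fun x => (((List.ofFn b).take k).prod)⁻¹ * x * ((List.ofFn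 b).take k).prod) '' ((fun x => c⁻¹ * x * c) '' X) ⊆ Q := by
  have hP : IsPair p W V := ⟨hW, hV, hWZ, hVZ, hVmono⟩
  have h := fusion_of_local hP P (fun H h1 h2 => by
    obtain ⟨Q, hQ1, hQ2, hQ3, hQ4⟩ := hloc H h1 h2
    refine ⟨Q, ⟨hQ1, hQ2, hQ3⟩, fun A g hg hA hgA => ?_⟩
    obtain ⟨c, hc, n, b, hb, hab, hpart⟩ := hQ4 A g⁻¹ hA (inv_mem hg) (by rwa [inv_form, inv_inv])
    have hcA : ∀ x ∈ A, c⁻¹ * x * c = x := fun x hx => by
      rw [mul_assoc, Subgroup.mem_centralizer_iff.1 (Subgroup.mem_inf.1 hc).2 x hx, inv_mul_cancel_left]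
    have hcA' : (fun x => c⁻¹ * x * c) '' A = A := by
      rw [Set.image_congr hcA, Set.image_id']
    refine (reach_of_list (List.ofFn b) A ?_ ?_).congr ?_
    · intro y hy
      obtain ⟨i, rfl⟩ := List.mem_ofFn.1 hy
      exact hb i
    · intro k hk
      rw [List.length_ofFn] at hk
      have := hpart k hk
      rwa [hcA', inv_form] at this
    · intro x hx
      have e : g = (List.ofFn b).prod⁻¹ * c⁻¹ := by rw [← mul_inv_rev, ← hab, inv_inv]
      rw [e]
      calc (List.ofFn b).prod⁻¹ * c⁻¹ * x * ((List.ofFn b).prod⁻¹ * c⁻¹)⁻¹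
          = (List.ofFn b).prod⁻¹ * (c⁻¹ * x * c) * (List.ofFn b).prod := by group
        _ = _ := by rw [hcA x hx]; group)
  refine ⟨(P : Subgroup G), P.isPGroup', P.not_dvd_index, fun X a hX haX => ?_⟩
  rw [inv_form] at haX
  obtain ⟨l, hl1, hl2, hl3⟩ := list_of_reach (h X a⁻¹ hX haX)
  have hcX : ∀ x ∈ X, (a * l.prod⁻¹)⁻¹ * x * (a * l.prod⁻¹) = x := fun x hx => by
    have h1 := hl3 x hx
    rw [inv_inv] at h1
    calc (a * l.prod⁻¹)⁻¹ * x * (a * l.prod⁻¹) = l.prod * (a⁻¹ * x * a) * l.prod⁻¹ := by group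
      _ = l.prod * (l.prod⁻¹ * x * l.prod) * l.prod⁻¹ := by rw [h1]
      _ = x := by group
  refine ⟨a * l.prod⁻¹, ?_, l.length, l.get, fun i => ?_, ?_, fun k hk => ?_⟩
  · rw [Subgroup.mem_centralizer_iff]
    intro x hx
    conv_rhs => rw [← hcX x hx]
    group
  · rcases hl1 _ (l.get_mem i) with h' | h'
    · exact Or.inl (Subgroup.mem_inf.2 ⟨Subgroup.mem_top _, h'⟩)
    · exact Or.inr (Subgroup.mem_inf.2 ⟨Subgroup.mem_top _, h'⟩)
  · rw [List.ofFn_get, inv_mul_cancel_right]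
  · rw [Set.image_congr hcX, Set.image_id', List.ofFn_get, inv_form]
    exact hl2 k hk

end Cfsg.Agent.S2002
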