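import Mathlib
import Cfsg.Statements.S2008

set_option autoImplicit false
open Cfsg

namespace Cfsg.Agent.S2008

/-- An involution with no fixed point on a normal subgroup inverts it. -/
theorem inverts {H : Type*} [Group H] [Finite H] {N : Subgroup H} [N.Normal] {z : H} (hz : z * z = 1)
    (hfp : N ⊓ Subgroup.centralizer ({z} : Set H) = ⊥) : ∀ n ∈ N, z * n * z⁻¹ = n⁻¹ := by
  have hzi : z⁻¹ = z := inv_eq_of_mul_eq_one_right hz
  let f : N → N := fun n => ⟨(n : H)⁻¹ * (z * n * z⁻¹), mul_mem (inv_mem n.2) (Subgroup.Normal.conj_mem ‹_› _ n.2 z)⟩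
  have hinj : Function.Injective f := by
    intro a b hab
    have h : (a : H)⁻¹ * (z * a * z⁻¹) = (b : H)⁻¹ * (z * b * z⁻¹) := congrArg Subtype.val hab
    have : (b : H) * (a : H)⁻¹ ∈ N ⊓ Subgroup.centralizer ({z} : Set H) := by
      refine Subgroup.mem_inf.2 ⟨mul_mem b.2 (inv_mem a.2), ?_⟩
      rw [Subgroup.mem_centralizer_singleton_iff]
      have h2 : (b : H) * (a : H)⁻¹ = z * (b * (a : H)⁻¹) * z⁻¹ := by
        calc (b : H) * (a : H)⁻¹ = b * ((a : H)⁻¹ * (z * a * z⁻¹)) * (z * a * z⁻¹)⁻¹ := by group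
          _ = z * b * z⁻¹ * (z * a * z⁻¹)⁻¹ := by rw [h]; group
          _ = _ := by group
      conv_lhs => rw [h2]
      group
    rw [hfp, Subgroup.mem_bot, mul_inv_eq_one] at this
    exact Subtype.ext this.symm
  intro n hn
  obtain ⟨a, ha⟩ := (Finite.injective_iff_surjective.1 hinj) ⟨n, hn⟩
  have h : (a : H)⁻¹ * (z * a * z⁻¹) = n := congrArg Subtype.val ha
  rw [← h, hzi]
  calc z * ((a : H)⁻¹ * (z * a * z)) * z = z * (a : H)⁻¹ * z * a * (z * z) := by group
    _ = z * (a : H)⁻¹ * z * a := by rw [hz, mul_one]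
    _ = ((a : H)⁻¹ * (z * a * z))⁻¹ := by
      simp only [mul_inv_rev, inv_inv, hzi]; group

theorem result {H : Type*} [Group H] [Finite H] (z : H) (hz : orderOf z = 2) (hN : ∀ N : Subgroup H, N.Normal → N ≠ ⊤ → N ⊓ Subgroup.centralizer ({z} : Set H) = ⊥) (E : Subgroup H) (hE : IsKleinFour ↥E) (hzE : z ∈ E) (hc : ∀ e ∈ E, e ≠ 1 → IsConj z e) (N : Subgroup H) [N.Normal] (hab : IsMulCommutative ↥N) : N = ⊥ := by
  have hz2 : z * z = 1 := by rw [← pow_two, ← hz, pow_orderOf_eq_one]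
  by_cases hT : N = ⊤
  · subst hT
    -- then H is abelian, so every element of E other than 1 equals z
    exfalso
    have habel : ∀ a b : H, a * b = b * a := fun a b =>
      congrArg Subtype.val (mul_comm' (⟨a, Subgroup.mem_top a⟩ : (⊤ : Subgroup H)) ⟨b, Subgroup.mem_top b⟩)
    have : ∀ e ∈ E, e = 1 ∨ e = z := fun e he => by
      by_cases h : e = 1
      · exact Or.inl h
      · obtain ⟨g, hg⟩ := isConj_iff.1 (hc e he h)
        right; rw [← hg, habel g z, mul_inv_cancel_right]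
    have hcard : Nat.card E ≤ Nat.card ({1, z} : Set H) :=
      Nat.card_mono (Set.toFinite _) (fun e he => this e he)
    have h4 := hE.card_four
    have := Set.ncard_insert_le (1 : H) {z}
    rw [← Nat.card_coe_set_eq, Set.ncard_singleton] at this
    omega
  have hfp := hN N inferInstance hT
  have hconj : ∀ e ∈ E, e ≠ 1 → ∀ n ∈ N, e * n * e⁻¹ = n⁻¹ := by
    intro e he h1 n hn
    obtain ⟨g, rfl⟩ := isConj_iff.1 (hc e he h1)
    have := inverts hz2 hfp (g⁻¹ * n * g) (by simpa using Subgroup.Normal.conj_mem ‹_› n hn g⁻¹)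
    calc g * z * g⁻¹ * n * (g * z * g⁻¹)⁻¹ = g * (z * (g⁻¹ * n * g) * z⁻¹) * g⁻¹ := by group
      _ = n⁻¹ := by rw [this]; group
  obtain ⟨e, heE, he1, hez⟩ : ∃ e ∈ E, e ≠ 1 ∧ e ≠ z := by
    by_contra h
    push_neg at h
    have hcard : Nat.card E ≤ Nat.card ({1, z} : Set H) :=
      Nat.card_mono (Set.toFinite _) (fun e he => by
        by_cases h' : e = 1
        · simp [h']
        · simp [h e he h'])
    have h4 := hE.card_four
    have := Set.ncard_insert_le (1 : H) {z}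
    rw [← Nat.card_coe_set_eq, Set.ncard_singleton] at this
    omega
  have hze : z * e ≠ 1 := fun h => hez (by
    rw [← inv_eq_of_mul_eq_one_right h, inv_eq_of_mul_eq_one_right hz2])
  rw [eq_bot_iff]
  intro n hn
  have h1 := hconj (z * e) (mul_mem hzE heE) hze n hn
  have hz1 : z ≠ 1 := fun h => by simp [h] at hz
  have h2 : z * e * n * (z * e)⁻¹ = n := by
    calc _ = z * (e * n * e⁻¹) * z⁻¹ := by group
      _ = n := by rw [hconj e heE he1 n hn, hconj z hzE hz1 _ (inv_mem hn), inv_inv]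
  rw [h2] at h1
  rw [← hfp]
  refine Subgroup.mem_inf.2 ⟨hn, ?_⟩
  rw [Subgroup.mem_centralizer_singleton_iff]
  have h3 := hconj z hzE hz1 n hn
  rw [← h1] at h3
  calc n * z = z * n * z⁻¹ * z := by rw [h3]
    _ = z * n := by group

end Cfsg.Agent.S2008
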