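import Mathlib
import Cfsg.Statements.S2009
import Cfsg.Agent.S2008

set_option autoImplicit false
open Cfsg

namespace Cfsg.Agent.S2009

theorem result {H : Type*} [Group H] [Finite H] (z : H) (hz : orderOf z = 2) (hN : ∀ N : Subgroup H, N.Normal → N ≠ ⊤ → N ⊓ Subgroup.centralizer ({z} : Set H) = ⊥) (E : Subgroup H) (hE : IsKleinFour ↥E) (hzE : z ∈ E) (hc : ∀ e ∈ E, e ≠ 1 → IsConj z e) : IsSimpleGroup H := by
  haveI : Nontrivial H := ⟨⟨z, 1, fun h => by simp [h] at hz⟩⟩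
  refine ⟨fun N hNn => ?_⟩
  by_cases hT : N = ⊤
  · exact Or.inr hT
  refine Or.inl ?_
  haveI := hNn
  have hinv := S2008.inverts (N := N) (z := z) (by rw [← pow_two, ← hz, pow_orderOf_eq_one]) (hN N hNn hT)
  refine S2008.result z hz hN E hE hzE hc N ⟨⟨fun a b => Subtype.ext ?_⟩⟩
  have h := hinv _ (mul_mem (inv_mem a.2) (inv_mem b.2))
  have ha := hinv _ (inv_mem a.2)
  have hb := hinv _ (inv_mem b.2)
  rw [inv_inv] at ha hb
  show (a : H) * b = b * a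
  calc (a : H) * b = (z * (a : H)⁻¹ * z⁻¹) * (z * (b : H)⁻¹ * z⁻¹) := by rw [ha, hb]
    _ = z * ((a : H)⁻¹ * (b : H)⁻¹) * z⁻¹ := by group
    _ = b * a := by rw [h, mul_inv_rev, inv_inv, inv_inv]

end Cfsg.Agent.S2009
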