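import Cfsg.Statements.S2011
import Cfsg.Agent.Lib.Fusion.Group
import Cfsg.Agent.Lib.Transfer.Fusion
import Cfsg.Agent.Lib.PLocal.PSolvable

set_option autoImplicit false
set_option linter.style.haveILetI false
set_option linter.unusedVariables false
open Cfsg

namespace Cfsg.Agent.S2011

open Cfsg.Agent

/-- Let G be a finite group with Sylow p-subgroup P and Q ≤ P. Then Q is centric in the fusion system of G on P (C_P(R) ≤ R for every G-conjugate R of Q lying in P) if and only if C_G(Q) is the internal direct product of Z(Q) = Q ∩ C_G(Q) and the largest normal subgroup of C_G(Q) of order prime to p. -/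
theorem result {G : Type*} [Group G] [Finite G] (p : ℕ) [Fact p.Prime] (P : Sylow p G) (Q : Subgroup G) (hQ : Q ≤ P) : (Cfsg.groupFusionSystem (P : Subgroup G)).IsCentric Q ↔ Cfsg.IsInternalDirectProduct (Q ⊓ Subgroup.centralizer (Q : Set G)) ((Cfsg.pPrimeCore p ↥(Subgroup.centralizer (Q : Set G))).map (Subgroup.centralizer (Q : Set G)).subtype) (Subgroup.centralizer (Q : Set G)) := by
  set C := Subgroup.centralizer (Q : Set G) with hC
  set Z := Q ⊓ C with hZ
  set O := (Cfsg.pPrimeCore p C).map C.subtype with hO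
  have hZc : ∀ z ∈ Z, ∀ c ∈ C, z * c = c * z := fun z hz c hc =>
    Subgroup.mem_centralizer_iff.1 hc z (Subgroup.mem_inf.1 hz).1
  have hOC : O ≤ C := Subgroup.map_subtype_le _
  have hOc : (Nat.card O).Coprime p := by
    rw [hO, Subgroup.card_map_of_injective C.subtype_injective]
    exact PBasic.pPrimeCore_coprime p C
  have hQp : IsPGroup p Q := P.isPGroup'.to_le hQ
  have hZp : IsPGroup p Z := hQp.to_le inf_le_left
  constructor
  · rintro ⟨-, hcen⟩
    obtain ⟨T⟩ : Nonempty (Sylow p C) := inferInstance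
    set T0 := (T : Subgroup C).map C.subtype with hT0
    have hT0C : T0 ≤ C := Subgroup.map_subtype_le _
    have hQT : IsPGroup p ↥(Q ⊔ T0) := hQp.to_sup_of_normal_left' (T.isPGroup'.map _)
      (hT0C.trans (Subgroup.centralizer_le_normalizer _))
    obtain ⟨U, hU⟩ := hQT.exists_le_sylow
    obtain ⟨x, hx⟩ := MulAction.exists_smul_eq G U P
    have hle : (Q ⊔ T0).map (MulAut.conj x).toMonoidHom ≤ (P : Subgroup G) := by
      rintro _ ⟨y, hy, rfl⟩
      rw [← hx, Sylow.coe_subgroup_smul]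
      exact Subgroup.smul_mem_pointwise_smul y (MulAut.conj x) _ (hU hy)
    have hTQ : T0 ≤ Q := by
      intro t ht
      have h := hcen (Q.map (MulAut.conj x).toMonoidHom) (FusionSys.group_isConj_iff P |>.2
        ⟨hQ, (Subgroup.map_mono le_sup_left).trans hle, x, rfl⟩)
      have ht' : (MulAut.conj x).toMonoidHom t ∈ Q.map (MulAut.conj x).toMonoidHom := by
        refine h (Subgroup.mem_inf.2 ⟨hle ⟨t, Subgroup.mem_sup_right ht, rfl⟩, ?_⟩)
        refine Subgroup.mem_centralizer_iff.2 ?_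
        rintro _ ⟨q, hq, rfl⟩
        rw [← map_mul, ← map_mul, Subgroup.mem_centralizer_iff.1 (hT0C ht) q hq]
      obtain ⟨q, hq, hqt⟩ := ht'
      exact ((MulAut.conj x).injective hqt) ▸ hq
    have hnpc : Cfsg.HasNormalPComplement p C :=
      Fusion.hasNormalPComplement_of_normalizer_le_centralizer T fun y _ t ht =>
        Subtype.ext (Subgroup.mem_centralizer_iff.1 y.2 _ (hTQ ⟨t, ht, rfl⟩))
    haveI := PBasic.pResidual_normal_inst p C
    have hres : Cfsg.pResidual p C ≤ Cfsg.pPrimeCore p C :=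
      PBasic.le_pPrimeCore inferInstance (PBasic.hasNormalPComplement_iff_pResidual.1 hnpc)
    refine ⟨inf_le_right, hOC, fun a ha b hb => hZc a ha b (hOC hb), ?_, le_antisymm (sup_le inf_le_right hOC) ?_⟩
    · rw [inf_comm]; exact PBasic.inf_eq_bot_of_coprime hOc hZp
    · intro c hc
      obtain ⟨t, ht, o, ho, hto⟩ := Subgroup.mem_sup_of_normal_right.1
        ((PBasic.sylow_sup_pResidual T).ge (Subgroup.mem_top (⟨c, hc⟩ : C)))
      have e : (t : G) * o = c := congrArg Subtype.val hto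
      rw [← e]
      exact mul_mem (Subgroup.mem_sup_left (Subgroup.mem_inf.2 ⟨hTQ ⟨t, ht, rfl⟩, t.2⟩))
        (Subgroup.mem_sup_right ⟨o, hres ho, rfl⟩)
  · rintro ⟨-, -, -, -, hsup⟩
    refine ⟨hQ, fun R hR => ?_⟩
    obtain ⟨-, hRP, x, rfl⟩ := (FusionSys.group_isConj_iff P).1 hR
    intro s hs
    obtain ⟨hsP, hsC⟩ := Subgroup.mem_inf.1 hs
    have hy : x⁻¹ * s * x ∈ C := Subgroup.mem_centralizer_iff.2 fun q hq => by
      have h := Subgroup.mem_centralizer_iff.1 hsC _ ⟨q, hq, rfl⟩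
      simp only [MulEquiv.coe_toMonoidHom, MulAut.conj_apply] at h
      calc q * (x⁻¹ * s * x) = x⁻¹ * ((x * q * x⁻¹) * s) * x := by group
        _ = x⁻¹ * (s * (x * q * x⁻¹)) * x := by rw [h]
        _ = x⁻¹ * s * x * q := by group
    have hOn : C ≤ Subgroup.normalizer (Z : Set G) := fun c hc => Subgroup.mem_normalizer_iff.2 fun z => by
      have key : ∀ c ∈ C, ∀ z ∈ Z, c * z * c⁻¹ = z := fun c hc z hz => by rw [← hZc z hz c hc, mul_inv_cancel_right]
      constructor
      · intro hz; rw [key c hc z hz]; exact hz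
      · intro hz
        have := key c⁻¹ (inv_mem hc) _ hz
        rw [show c⁻¹ * (c * z * c⁻¹) * c⁻¹⁻¹ = z by group] at this
        exact this ▸ hz
    have hy' : x⁻¹ * s * x ∈ ((Z ⊔ O : Subgroup G) : Set G) := hsup.ge hy
    rw [Subgroup.coe_mul_of_right_le_normalizer_left _ _ (hOC.trans hOn)] at hy'
    obtain ⟨z, hz, o, ho, hzo⟩ := Set.mem_mul.1 hy'
    have ho1 : o = 1 := by
      obtain ⟨k, hk⟩ := P.isPGroup' ⟨s, hsP⟩
      obtain ⟨j, hj⟩ := hZp ⟨z, hz⟩
      have hk' : (x⁻¹ * s * x) ^ p ^ k = 1 := by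
        rw [show x⁻¹ * s * x = x⁻¹ * s * x⁻¹⁻¹ by rw [inv_inv], conj_pow,
          show s ^ p ^ k = 1 from congrArg Subtype.val hk]; group
      have hj' : z ^ p ^ j = 1 := congrArg Subtype.val hj
      have heq : o = z⁻¹ * (x⁻¹ * s * x) := by rw [← hzo, inv_mul_cancel_left]
      have hcomm : Commute z⁻¹ (x⁻¹ * s * x) := (show Commute z (x⁻¹ * s * x) from hZc z hz _ hy).inv_left
      have hopow : o ^ p ^ (j + k) = 1 := by
        rw [heq, hcomm.mul_pow, inv_pow, pow_add, pow_mul, hj', one_pow, inv_one, one_mul, mul_comm,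
          pow_mul, hk', one_pow]
      have h1 : orderOf o ∣ p ^ (j + k) := orderOf_dvd_of_pow_eq_one hopow
      exact orderOf_eq_one_iff.1 (Nat.eq_one_of_dvd_coprimes
        (Nat.Coprime.pow_left (j + k) hOc.symm) h1 (Subgroup.orderOf_dvd_natCard O ho))
    rw [ho1, mul_one] at hzo
    refine ⟨z, (Subgroup.mem_inf.1 hz).1, ?_⟩
    show x * z * x⁻¹ = s
    rw [hzo]; group

end Cfsg.Agent.S2011
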