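import Cfsg.Statements.S2012
import Cfsg.Agent.Lib.Transfer.Alperin

set_option autoImplicit false
set_option linter.style.haveILetI false
set_option linter.unusedVariables false
open Cfsg

namespace Cfsg.Agent.S2012

open scoped Pointwise
open Cfsg.Agent
open Cfsg.Agent.Alperin (cj cjs mem_cj coe_cj cj_mono cj_inf cj_cj card_cj cj_normalizer relIndex_cj cj_eq_of_mem_normalizer coe_smul_inv cjs_mul cjs_one cjs_mono Tame tame_self exists_sylow_inf exists_conj_sylow)

variable {G : Type*} [Group G] {p : ℕ}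

/-- `g` is a product of elements of normalizers of tame intersections, carrying `A` along. -/
inductive PChain (P : Sylow p G) : Set G → G → Prop
  | nil {A : Set G} : PChain P A 1
  | cons {A : Set G} {x g : G} (Q : Sylow p G) : Tame P Q →
      x ∈ Subgroup.normalizer ((((P : Subgroup G) ⊓ (Q : Subgroup G)) : Subgroup G) : Set G) →
      ((Q : Subgroup G) = (P : Subgroup G) ∨ ∃ k : ℕ, orderOf x = p ^ k) →
      A ⊆ (((P : Subgroup G) ⊓ (Q : Subgroup G) : Subgroup G) : Set G) →
      PChain P (cjs x A) g → PChain P A (x * g)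

theorem PChain.mono {P : Sylow p G} {A B : Set G} {g : G} (h : PChain P A g) (hB : B ⊆ A) :
    PChain P B g := by
  induction h generalizing B with
  | nil => exact .nil
  | cons Q hQ hx hp hA _ ih => exact .cons Q hQ hx hp (hB.trans hA) (ih (cjs_mono _ hB))

theorem PChain.trans {P : Sylow p G} {A : Set G} {g h : G} (h1 : PChain P A g)
    (h2 : PChain P (cjs g A) h) : PChain P A (g * h) := by
  induction h1 with
  | nil => rw [one_mul]; rwa [cjs_one] at h2
  | cons Q hQ hx hp hA _ ih =>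
    rw [mul_assoc]
    exact .cons Q hQ hx hp hA (ih (by rwa [cjs_mul]))

/-- A Sylow subgroup is carried to another one by a product of `p`-elements of the normalizer. -/
theorem pchain_conj [Finite G] [Fact p.Prime] {P U : Sylow p G} (hU : Tame P U) {E : Subgroup G}
    (hE : (P : Subgroup G) ⊓ (U : Subgroup G) = E) {A B : Subgroup G} (hA : IsPGroup p A) (hB : IsPGroup p B)
    (hAN : A ≤ Subgroup.normalizer (E : Set G)) (hBN : B ≤ Subgroup.normalizer (E : Set G))
    (hA' : ¬ p ∣ A.relIndex (Subgroup.normalizer (E : Set G)))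
    (hB' : ¬ p ∣ B.relIndex (Subgroup.normalizer (E : Set G))) :
    ∃ w ∈ Subgroup.normalizer (E : Set G), PChain P (E : Set G) w ∧ cj w A = B := by
  set N := Subgroup.normalizer (E : Set G) with hN
  let T : Set G := {x | x ∈ N ∧ ∃ k : ℕ, orderOf x = p ^ k}
  let H := Subgroup.closure T
  have hHN : H ≤ N := (Subgroup.closure_le _).2 fun x hx => hx.1
  have hle : ∀ C : Subgroup G, IsPGroup p C → C ≤ N → C ≤ H := by
    intro C hC hCN x hx
    obtain ⟨k, hk⟩ := IsPGroup.iff_orderOf.1 hC ⟨x, hx⟩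
    exact Subgroup.subset_closure ⟨hCN hx, k, by rwa [Subgroup.orderOf_mk] at hk⟩
  have hidx : ∀ C : Subgroup G, IsPGroup p C → C ≤ N → ¬ p ∣ C.relIndex N → ¬ p ∣ C.relIndex H := by
    intro C hC hCN hC' hd
    exact hC' (hd.trans ⟨H.relIndex N, (Subgroup.relIndex_mul_relIndex C H N (hle C hC hCN) hHN).symm⟩)
  obtain ⟨w, hw, hwA⟩ := exists_conj_sylow hA hB (hle A hA hAN) (hle B hB hBN) (hidx A hA hAN hA')
    (hidx B hB hBN hB')
  refine ⟨w, hHN hw, ?_, hwA⟩
  have hwM : w ∈ Submonoid.closure T := by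
    rw [← Subgroup.closure_toSubmonoid_of_finite]; exact hw
  suffices h : ∀ v ∈ Submonoid.closure T, v ∈ N ∧ PChain P (E : Set G) v from (h w hwM).2
  intro v hv
  induction hv using Submonoid.closure_induction with
  | mem x hx =>
    refine ⟨hx.1, ?_⟩
    rw [← mul_one x]
    exact .cons U hU (hE.symm ▸ hx.1) (Or.inr hx.2) (hE.symm ▸ subset_rfl) .nil
  | one => exact ⟨N.one_mem, .nil⟩
  | mul x y _ _ hx hy =>
    refine ⟨N.mul_mem hx.1 hy.1, hx.2.trans ?_⟩
    rw [← coe_cj, cj_eq_of_mem_normalizer hx.1]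
    exact hy.2

/-- Every Sylow subgroup is carried to `P` by a chain defined on the intersection. -/
theorem exists_chain [Finite G] [Fact p.Prime] (P R : Sylow p G) :
    ∃ x : G, PChain P (((P : Subgroup G) ⊓ (R : Subgroup G) : Subgroup G) : Set G) x ∧
      x⁻¹ • R = P := by
  suffices h : ∀ n : ℕ, ∀ R : Sylow p G,
      Nat.card G < n + Nat.card ((P : Subgroup G) ⊓ (R : Subgroup G) : Subgroup G) →
      ∃ x : G, PChain P (((P : Subgroup G) ⊓ (R : Subgroup G) : Subgroup G) : Set G) x ∧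
        x⁻¹ • R = P by
    exact h (Nat.card G + 1) R (by omega)
  intro n
  induction n with
  | zero =>
    intro R hR
    have := Subgroup.card_le_card_group ((P : Subgroup G) ⊓ (R : Subgroup G))
    omega
  | succ n ih =>
    intro R hR
    by_cases hRP : R = P
    · exact ⟨1, .nil, by rw [inv_one, one_smul, hRP]⟩
    have ih' : ∀ (S : Sylow p G) (X : Subgroup G),
        Nat.card ((P : Subgroup G) ⊓ (R : Subgroup G) : Subgroup G) < Nat.card X →
        X ≤ (P : Subgroup G) → X ≤ (S : Subgroup G) →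
        ∃ x : G, PChain P (((P : Subgroup G) ⊓ (S : Subgroup G) : Subgroup G) : Set G) x ∧
          x⁻¹ • S = P := by
      intro S X hX hXP hXS
      have := Nat.le_of_dvd Nat.card_pos (Subgroup.card_dvd_of_le (le_inf hXP hXS))
      exact ih S (by omega)
    set D := (P : Subgroup G) ⊓ (R : Subgroup G) with hD
    have hDP : D < (P : Subgroup G) := by
      refine lt_of_le_of_ne inf_le_left fun h => hRP ?_
      exact Sylow.ext (P.is_maximal' R.isPGroup' (inf_eq_left.1 h))
    have hcard : ∀ {X Y : Subgroup G}, X < Y → Nat.card X < Nat.card Y := fun {X Y} h =>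
      Set.ncard_lt_ncard (SetLike.coe_ssubset_coe.2 h) (Set.toFinite _)
    -- move `D` to a fully normalized position
    have hstep := Fusion.lt_inf_normalizer (Fusion.sylow_isNilpotent P) hDP
    obtain ⟨S, hS, hSidx⟩ := exists_sylow_inf (p := p) (Subgroup.normalizer (D : Set G))
      ((P : Subgroup G) ⊓ Subgroup.normalizer (D : Set G)) (P.isPGroup'.to_le inf_le_left)
      inf_le_right
    obtain ⟨u, huc, huS⟩ := ih' S _ (hcard hstep) inf_le_left hS
    have hSP : cj u (S : Subgroup G) = (P : Subgroup G) := by rw [← coe_smul_inv, huS]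
    set E := cj u D with hE
    have hDS : D ≤ (P : Subgroup G) ⊓ (S : Subgroup G) :=
      le_inf inf_le_left ((le_inf inf_le_left Subgroup.le_normalizer).trans hS)
    have huD : PChain P (D : Set G) u := huc.mono hDS
    have hEcoe : (E : Set G) = cjs u (D : Set G) := coe_cj u D
    have hEP : E ≤ (P : Subgroup G) := hSP ▸ cj_mono u (hDS.trans inf_le_right)
    set R' : Sylow p G := u⁻¹ • R with hR'
    have hR'coe : (R' : Subgroup G) = cj u (R : Subgroup G) := coe_smul_inv u R
    have hER' : E ≤ (R' : Subgroup G) := hR'coe ▸ cj_mono u inf_le_right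
    have hcardE : Nat.card E = Nat.card D := card_cj u D
    -- it suffices to find a chain on `E`
    suffices hE' : ∃ v : G, PChain P (E : Set G) v ∧ v⁻¹ • R' = P by
      obtain ⟨v, hv, hvR⟩ := hE'
      refine ⟨u * v, huD.trans (hEcoe ▸ hv), ?_⟩
      rw [mul_inv_rev, mul_smul, ← hR', hvR]
    have hfull : ¬ p ∣ ((P : Subgroup G) ⊓ Subgroup.normalizer (E : Set G)).relIndex
        (Subgroup.normalizer (E : Set G)) := by
      rw [← hSP, hE, ← cj_normalizer, ← cj_inf, relIndex_cj]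
      exact hSidx
    by_cases hbig : E < (P : Subgroup G) ⊓ (R' : Subgroup G)
    · obtain ⟨v, hv, hvR⟩ := ih' R' _ (hcardE ▸ hcard hbig) inf_le_left inf_le_right
      exact ⟨v, hv.mono hbig.le, hvR⟩
    have hPR' : (P : Subgroup G) ⊓ (R' : Subgroup G) = E :=
      ((le_inf hEP hER').eq_of_not_lt hbig).symm
    have hER'lt : E < (R' : Subgroup G) := by
      refine lt_of_le_of_ne hER' fun h => ?_
      have h1 := hcard hDP
      have h2 : Nat.card (P : Subgroup G) = Nat.card (R' : Subgroup G) := by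
        rw [P.card_eq_multiplicity, R'.card_eq_multiplicity]
      rw [← hcardE, h, ← h2] at h1
      exact h1.ne rfl
    set NR := (R' : Subgroup G) ⊓ Subgroup.normalizer (E : Set G) with hNR
    have hNRlt : E < NR := Fusion.lt_inf_normalizer (Fusion.sylow_isNilpotent R') hER'lt
    obtain ⟨U, hU, hUidx⟩ := exists_sylow_inf (p := p) (Subgroup.normalizer (E : Set G)) NR
      (R'.isPGroup'.to_le inf_le_left) inf_le_right
    have hEU : E ≤ (P : Subgroup G) ⊓ (U : Subgroup G) := le_inf hEP (hNRlt.le.trans hU)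
    by_cases hbigU : E < (P : Subgroup G) ⊓ (U : Subgroup G)
    · obtain ⟨v, hv, hvU⟩ := ih' U _ (hcardE ▸ hcard hbigU) inf_le_left inf_le_right
      have hUP : cj v (U : Subgroup G) = (P : Subgroup G) := by rw [← coe_smul_inv, hvU]
      have hbig2 : Nat.card D < Nat.card (cj v NR) := by
        rw [card_cj, ← hcardE]; exact hcard hNRlt
      obtain ⟨w, hw, hwR⟩ := ih' (v⁻¹ • R') (cj v NR) hbig2 (hUP ▸ cj_mono v hU)
        (by rw [coe_smul_inv]; exact cj_mono v inf_le_left)
      refine ⟨v * w, (hv.mono hEU).trans (hw.mono ?_), by rw [mul_inv_rev, mul_smul, hwR]⟩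
      rw [← coe_cj, SetLike.coe_subset_coe, le_inf_iff, coe_smul_inv]
      exact ⟨hUP ▸ cj_mono v (hEU.trans inf_le_right), cj_mono v hER'⟩
    have hPU : (P : Subgroup G) ⊓ (U : Subgroup G) = E :=
      ((hEU.eq_of_not_lt hbigU)).symm
    have htame : Tame P U := by
      unfold Tame
      rw [hPU]
      exact ⟨hfull, hUidx⟩
    obtain ⟨w, hwN, hwc, hw⟩ := pchain_conj htame hPU
      (U.isPGroup'.to_le inf_le_left : IsPGroup p
        ((U : Subgroup G) ⊓ Subgroup.normalizer (E : Set G) : Subgroup G))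
      (P.isPGroup'.to_le inf_le_left) inf_le_right inf_le_right hUidx hfull
    have hwE : cj w E = E := cj_eq_of_mem_normalizer hwN
    have hbig3 : Nat.card D < Nat.card (cj w NR) := by
      rw [card_cj, ← hcardE]; exact hcard hNRlt
    obtain ⟨v, hv, hvR⟩ := ih' (w⁻¹ • R') (cj w NR) hbig3
      ((cj_mono w (le_inf hU inf_le_right)).trans (hw.le.trans inf_le_left))
      (by rw [coe_smul_inv]; exact cj_mono w inf_le_left)
    refine ⟨w * v, hwc.trans (hv.mono ?_),
      by rw [mul_inv_rev, mul_smul, hvR]⟩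
    rw [← coe_cj, SetLike.coe_subset_coe, le_inf_iff, coe_smul_inv]
    exact ⟨by rw [hwE]; exact hEP, cj_mono w hER'⟩

/-- Alperin's fusion theorem. -/
theorem chain_of_conj [Finite G] [Fact p.Prime] (P : Sylow p G) (A : Set G) (g : G)
    (hA : A ⊆ (P : Set G)) (hAg : cjs g A ⊆ (P : Set G)) : PChain P A g := by
  obtain ⟨x, hx, hxR⟩ := exists_chain P (g • P)
  have hgP : A ⊆ ((g • P : Sylow p G) : Set G) := by
    intro a ha
    show a ∈ ((g • P : Sylow p G) : Subgroup G)
    rw [Sylow.coe_subgroup_smul, Subgroup.mem_pointwise_smul_iff_inv_smul_mem, ← map_inv,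
      MulAut.smul_def, MulAut.conj_apply, inv_inv]
    exact hAg ⟨a, ha, rfl⟩
  rw [smul_smul, Sylow.smul_eq_iff_mem_normalizer] at hxR
  have hAPR : A ⊆ (((P : Subgroup G) ⊓ ((g • P : Sylow p G) : Subgroup G) : Subgroup G) : Set G) :=
    fun a ha => ⟨hA ha, hgP ha⟩
  rw [show g = x * ((x⁻¹ * g) * 1) by group]
  refine (hx.mono hAPR).trans (.cons P (tame_self P) (by rw [inf_idem]; exact hxR) (Or.inl rfl) ?_ .nil)
  rintro _ ⟨a, ha, rfl⟩
  have h1 : g⁻¹ * a * g ∈ (P : Subgroup G) := hAg ⟨a, ha, rfl⟩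
  have h2 := (Subgroup.mem_normalizer_iff.1 hxR _).1 h1
  have h3 : x⁻¹ * g * (g⁻¹ * a * g) * (x⁻¹ * g)⁻¹ = x⁻¹ * a * x := by group
  rw [inf_idem]
  show x⁻¹ * a * x ∈ (P : Subgroup G)
  rw [← h3]
  exact h2

/-- Unfold a chain into a finite sequence. -/
theorem PChain.exists_fin {P : Sylow p G} {A : Set G} {g : G} (h : PChain P A g) :
    ∃ (n : ℕ) (Q : Fin n → Sylow p G) (x : Fin n → G), (List.ofFn x).prod = g ∧
      (∀ i : Fin n, x i ∈ Subgroup.normalizer ((((P : Subgroup G) ⊓ (Q i : Subgroup G)) : Subgroup G) : Set G) ∧ Tame P (Q i) ∧ ((Q i : Subgroup G) = (P : Subgroup G) ∨ ∃ k : ℕ, orderOf (x i) = p ^ k)) ∧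
      (∀ h : 0 < n, A ⊆ (((P : Subgroup G) ⊓ (Q ⟨0, h⟩ : Subgroup G) : Subgroup G) : Set G)) ∧
      ∀ i : Fin n, ∀ h : i.val + 1 < n, cjs (((List.ofFn x).take (i.val + 1)).prod) A ⊆
        (((P : Subgroup G) ⊓ (Q ⟨i.val + 1, h⟩ : Subgroup G) : Subgroup G) : Set G) := by
  induction h with
  | nil => exact ⟨0, Fin.elim0, Fin.elim0, by simp, fun i => i.elim0, fun h => absurd h (by omega),
      fun i => i.elim0⟩
  | @cons A x g Q hQ hx hp hA _ ih =>
    obtain ⟨n, Qs, xs, hprod, hall, hfirst, hnext⟩ := ih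
    refine ⟨n + 1, Fin.cons Q Qs, Fin.cons x xs, by simp [List.ofFn_succ, hprod], ?_, ?_, ?_⟩
    · intro i
      refine Fin.cases ?_ (fun j => ?_) i
      · simpa using ⟨hx, hQ, hp⟩
      · simpa using hall j
    · intro h
      simpa using hA
    · intro i
      refine Fin.cases ?_ (fun j => ?_) i
      · intro h
        have h1 : (⟨(0 : Fin (n + 1)).val + 1, h⟩ : Fin (n + 1)) =
            Fin.succ ⟨0, Nat.lt_of_succ_lt_succ h⟩ := rfl
        rw [h1, Fin.cons_succ, List.ofFn_succ, Fin.cons_zero]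
        simpa using hfirst (Nat.lt_of_succ_lt_succ h)
      · intro h
        have h1 : (⟨(Fin.succ j).val + 1, h⟩ : Fin (n + 1)) =
            Fin.succ ⟨j.val + 1, Nat.lt_of_succ_lt_succ h⟩ := rfl
        rw [h1, Fin.cons_succ, List.ofFn_succ, Fin.cons_zero, Fin.val_succ, List.take_succ_cons,
          List.prod_cons, ← cjs_mul]
        simp only [Fin.cons_succ]
        exact hnext j (Nat.lt_of_succ_lt_succ h)

/-- Alperin's fusion Theorem with the factors taken to be p-elements: let P be a Sylow p-subgroup of a finite group G, A a subset of P and g an element with g⁻¹Ag ⊆ P. Then g = x_1 ⋯ x_n where, for each i, Q_i is a Sylow p-subgroup with P ∩ Q_i a tame intersection (the normalizers in P and in Q_i of P ∩ Q_i are Sylow in N_G(P ∩ Q_i)), x_i normalizes P ∩ Q_i, x_i has p-power order unless Q_i = P, A ⊆ P ∩ Q_1, and (x_1 ⋯ x_i)⁻¹ A (x_1 ⋯ x_i) lies in P ∩ Q_{i+1} for i < n. -/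
theorem result {G : Type*} [Group G] [Finite G] {p : ℕ} [Fact p.Prime] (P : Sylow p G) (A : Set G) (g : G) (hA : A ⊆ (P : Set G)) (hAg : (fun a => g⁻¹ * a * g) '' A ⊆ (P : Set G)) : ∃ (n : ℕ) (Q : Fin n → Sylow p G) (x : Fin n → G), (List.ofFn x).prod = g ∧ (∀ i : Fin n, x i ∈ Subgroup.normalizer ((((P : Subgroup G) ⊓ (Q i : Subgroup G)) : Subgroup G) : Set G) ∧ ¬ p ∣ ((P : Subgroup G) ⊓ Subgroup.normalizer ((((P : Subgroup G) ⊓ (Q i : Subgroup G)) : Subgroup G) : Set G)).relIndex (Subgroup.normalizer ((((P : Subgroup G) ⊓ (Q i : Subgroup G)) : Subgroup G) : Set G)) ∧ ¬ p ∣ ((Q i : Subgroup G) ⊓ Subgroup.normalizer ((((P : Subgroup G) ⊓ (Q i : Subgroup G)) : Subgroup G) : Set G)).relIndex (Subgroup.normalizer ((((P : Subgroup G) ⊓ (Q i : Subgroup G)) : Subgroup G) : Set G)) ∧ ((Q i : Subgroup G) = (P : Subgroup G) ∨ ∃ k : ℕ, orderOf (x i) = p ^ k)) ∧ (∀ h : 0 < n, A ⊆ (((P : Subgroup G) ⊓ (Q ⟨0, h⟩ : Subgroup G) : Subgroup G) : Set G)) ∧ ∀ i : Fin n, ∀ h : i.val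 + 1 < n, (fun a => (((List.ofFn x).take (i.val + 1)).prod)⁻¹ * a * ((List.ofFn x).take (i.val + 1)).prod) '' A ⊆ (((P : Subgroup G) ⊓ (Q ⟨i.val + 1, h⟩ : Subgroup G) : Subgroup G) : Set G) := by
  obtain ⟨n, Q, x, h1, h2, h3, h4⟩ := (chain_of_conj P A g hA hAg).exists_fin
  exact ⟨n, Q, x, h1, fun i => ⟨(h2 i).1, (h2 i).2.1.1, (h2 i).2.1.2, (h2 i).2.2⟩, h3, h4⟩

end Cfsg.Agent.S2012
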