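import Cfsg.Statements.S2014
import Cfsg.Agent.Lib.Functors.Conj
import Cfsg.Agent.Lib.Transfer.Basic

set_option autoImplicit false
set_option linter.style.haveILetI false
set_option linter.unusedVariables false
open Cfsg

namespace Cfsg.Agent.S2014

open Cfsg.Agent.Functors in
theorem aux {G : Type*} [Group G] [Finite G] {p : ℕ} [Fact p.Prime] {A C U P : Subgroup G}
    (hT : IsSylowIn p (P ⊓ Subgroup.normalizer (C : Set G)) (Subgroup.normalizer (C : Set G)))
    (hU : IsPGroup p ↥U) (hUA : U ≤ Subgroup.normalizer (A : Set G))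
    {h : G} (hh : A.map (cj h) = C) :
    ∃ g : G, A.map (cj g) = C ∧ U.map (cj g) ≤ P ⊓ Subgroup.normalizer (C : Set G) ∧
      h * g⁻¹ ∈ (Cfsg.pResidual p ↥(Subgroup.normalizer (C : Set G))).map
        (Subgroup.normalizer (C : Set G)).subtype := by
  set N := Subgroup.normalizer (C : Set G) with hN
  have hUN : U.map (cj h) ≤ N := by
    rw [hN, ← hh, ← map_cj_normalizer]; exact Subgroup.map_mono hUA
  obtain ⟨n, hn, hnle⟩ := exists_conj_le_of_isSylowIn hT (hU.map _) hUN
  rw [map_map_cj] at hnle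
  obtain ⟨Q, hQ⟩ := hT.exists_sylow
  haveI : (Cfsg.pResidual p ↥N).Normal := by
    haveI := Cfsg.Agent.PBasic.pResidual_characteristic p ↥N
    infer_instance
  have hmem : (⟨n, hn⟩ : ↥N) ∈ (Q : Subgroup ↥N) ⊔ Cfsg.pResidual p ↥N := by
    rw [Cfsg.Agent.PBasic.sylow_sup_pResidual]; exact Subgroup.mem_top _
  obtain ⟨t, ht, r, hr, htr⟩ := Subgroup.mem_sup_of_normal_right.1 hmem
  have ht' : (t : G) ∈ P ⊓ N := by rw [hQ] at ht; exact ht
  have htrG : (t : G) * r = n := congrArg Subtype.val htr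
  refine ⟨r * h, ?_, ?_, ?_⟩
  · rw [← map_map_cj, hh]; exact map_cj_eq_iff.2 r.2
  · rintro _ ⟨u, hu, rfl⟩
    have h1 : cj (n * h) u ∈ P ⊓ N := hnle ⟨u, hu, rfl⟩
    have h2 := mul_mem (mul_mem (inv_mem ht') h1) ht'
    rw [cj_apply] at h2 ⊢
    rw [← htrG] at h2
    simpa [mul_assoc] using h2
  · rw [show h * ((r : G) * h)⁻¹ = (((r⁻¹ : ↥N)) : G) by push_cast; group]
    exact Subgroup.mem_map_of_mem _ (inv_mem hr)

/-- Let P be a Sylow p-subgroup of a finite group G and A, C ≤ P subgroups conjugate in G, with C extremal: N_P(C) is a Sylow p-subgroup of N_G(C). Then there is g with gAg⁻¹ = C and g N_P(A) g⁻¹ ≤ N_P(C); moreover, given any h with hAh⁻¹ = C, g can be chosen so that h g⁻¹ lies in O^p(N_G(C)), the subgroup of N_G(C) generated by its elements of order prime to p. -/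
theorem result {G : Type*} [Group G] [Finite G] (p : ℕ) [Fact p.Prime] (P : Sylow p G) (A C : Subgroup G) (hA : A ≤ P) (hC : C ≤ P) (hext : ¬ p ∣ ((P : Subgroup G) ⊓ Subgroup.normalizer ((C : Subgroup G) : Set G)).relIndex (Subgroup.normalizer ((C : Subgroup G) : Set G))) (h : G) (hh : A.map (MulAut.conj h).toMonoidHom = C) : ∃ g : G, A.map (MulAut.conj g).toMonoidHom = C ∧ ((P : Subgroup G) ⊓ Subgroup.normalizer ((A : Subgroup G) : Set G)).map (MulAut.conj g).toMonoidHom ≤ (P : Subgroup G) ⊓ Subgroup.normalizer ((C : Subgroup G) : Set G) ∧ h * g⁻¹ ∈ (Cfsg.pResidual p ↥(Subgroup.normalizer ((C : Subgroup G) : Set G))).map (Subgroup.normalizer ((C : Subgroup G) : Set G)).subtype := by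
  exact aux (⟨inf_le_right, P.isPGroup'.to_le inf_le_left, hext⟩) (P.isPGroup'.to_le inf_le_left)
    inf_le_right hh

end Cfsg.Agent.S2014
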