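import Cfsg.Statements.S2015
import Cfsg.Agent.Lib.Functors.TransferApps

set_option autoImplicit false
set_option linter.style.haveILetI false
set_option linter.unusedVariables false
universe u
open Cfsg

namespace Cfsg.Agent.S2015

/-- For p ≥ 5, every finite p-group P has a characteristic subgroup K containing Z(P), depending only on P, whose normalizer controls transfer wherever P is a Sylow subgroup: for every finite group G and every embedding ι of P onto a Sylow p-subgroup of G, the intersection of ι(P) with the derived subgroup of G equals its intersection with the derived subgroup of N_G(ι(K)). -/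
theorem result (p : ℕ) [Fact p.Prime] (hp : 5 ≤ p) (P : Type u) [Group P] [Finite P] (hP : IsPGroup p P) : ∃ K : Subgroup P, K.Characteristic ∧ Subgroup.center P ≤ K ∧ ∀ (G : Type u) [Group G] [Finite G] (ι : P →* G), Function.Injective ι → (∃ T : Sylow p G, (T : Subgroup G) = ι.range) → ι.range ⊓ commutator G = ι.range ⊓ (commutator ↥(Subgroup.normalizer ((K.map ι : Subgroup G) : Set G))).map (Subgroup.normalizer ((K.map ι : Subgroup G) : Set G)).subtype := by
  have hW := Cfsg.Agent.Functors.isCharPFunctor_kInfLower.{u} (p := p)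
  refine ⟨Cfsg.kInfLower P, Subgroup.characteristic_iff_map_eq.2 fun φ => (Cfsg.Agent.KInf.map_kInf_equiv φ).1,
    (Cfsg.Agent.Functors.center_le_kInf hP).1, fun G _ _ ι hι ⟨T, hT⟩ => ?_⟩
  have h := Cfsg.Agent.Functors.inf_commutator_eq_of_ctl hW (Cfsg.Agent.Functors.ctlTR_kInf hp G).1 T
  have e1 : Cfsg.inducedFunctor Cfsg.kInfLower (⊤ : Subgroup P) = Cfsg.kInfLower P := by
    have h2 := (Cfsg.Agent.KInf.map_kInf_equiv (Subgroup.topEquiv (G := P))).1
    exact h2
  have e2 : Cfsg.inducedFunctor (G := G) Cfsg.kInfLower (T : Subgroup G) = (Cfsg.kInfLower P).map ι := by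
    rw [hT, MonoidHom.range_eq_map, Cfsg.Agent.Functors.inducedFunctor_map_of_injective hW
      (hP.to_subgroup ⊤) hι, e1]
  rw [e2, hT] at h
  rw [h, Subgroup.map_subtype_commutator]

end Cfsg.Agent.S2015
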