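import Cfsg.Statements.S2034
import Cfsg.Agent.Lib.SchurMult.MathieuHom
import Cfsg.Agent.Lib.SchurMult.M11P2Cert
import Cfsg.Agent.Lib.SchurMult.M11P3Cert
import Cfsg.Agent.Lib.SchurMult.M11P5Cert
import Cfsg.Agent.Lib.SchurMult.M11P11Cert
-- import your own Cfsg.Agent.* helpers here

set_option autoImplicit false
open Cfsg

namespace Cfsg.Agent.S2034

/-- The Schur multiplier of the Mathieu group M₁₁ (the stabiliser of a dodecad and one of its points in the automorphism group of the length-24 binary code) is trivial; here the Schur multiplier is described through stem extensions, as in the definitions: surjective homomorphisms onto the group from a finite group, whose kernel is central in that finite group and contained in that finite group's commutator subgroup. -/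
theorem result : Cfsg.HasCyclicSchurMultiplier ↥Cfsg.Spor.M11 1 := by
  have hc : PermCert.checkCert 5 24 Golay.Cert.m11Gens Golay.Cert.m11Derived Golay.Cert.m11Levels = true := by
    have h := Golay.m11_ok
    simp only [Golay.stabCertOK, Bool.and_eq_true] at h
    exact h.1.1.1
  refine SchurMult.trivial_of (SchurMult.ptHom _) (SchurMult.ptHom_injective _) (SchurMult.ptHom_range ((Golay.stabCert_spec Golay.m11_ok).1.trans (Golay.stabIn_m11.trans Golay.sporM11_eq.symm)))
    [(495, 1), (880, 1), (1584, 1), (720, 1)] ?_ (by decide) (by decide)
  intro i hi
  simp only [List.mem_cons, List.not_mem_nil, or_false] at hi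
  rcases hi with rfl | rfl | rfl | rfl
  · exact SchurMult.certified_of hc SchurMult.m11P2_base SchurMult.m11P2_rows SchurMult.m11P2_rels SchurMult.m11P2_derived SchurMult.m11P2_orders SchurMult.m11P2_ext
  · exact SchurMult.certified_of hc SchurMult.m11P3_base SchurMult.m11P3_rows SchurMult.m11P3_rels SchurMult.m11P3_derived SchurMult.m11P3_orders SchurMult.m11P3_ext
  · exact SchurMult.certified_of hc SchurMult.m11P5_base SchurMult.m11P5_rows SchurMult.m11P5_rels SchurMult.m11P5_derived SchurMult.m11P5_orders SchurMult.m11P5_ext
  · exact SchurMult.certified_of hc SchurMult.m11P11_base SchurMult.m11P11_rows SchurMult.m11P11_rels SchurMult.m11P11_derived SchurMult.m11P11_orders SchurMult.m11P11_ext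

end Cfsg.Agent.S2034
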