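import Cfsg.Statements.S2035
import Cfsg.Agent.Lib.SchurMult.MathieuHom
import Cfsg.Agent.Lib.SchurMult.M12Cover
import Cfsg.Agent.Lib.SchurMult.M12P2Cert
import Cfsg.Agent.Lib.SchurMult.M12P3Cert
import Cfsg.Agent.Lib.SchurMult.M12P5Cert
import Cfsg.Agent.Lib.SchurMult.M12P11Cert
-- import your own Cfsg.Agent.* helpers here

set_option autoImplicit false
open Cfsg

namespace Cfsg.Agent.S2035

/-- The Schur multiplier of the Mathieu group M₁₂ (the stabiliser of a dodecad in the automorphism group of the length-24 binary code) is cyclic of order 2; here the Schur multiplier is described through stem extensions, as in the definitions: surjective homomorphisms onto the group from a finite group, whose kernel is central in that finite group and contained in that finite group's commutator subgroup. -/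
theorem result : Cfsg.HasCyclicSchurMultiplier ↥Cfsg.Spor.M12 2 := by
  have hc : PermCert.checkCert 5 24 Golay.Cert.m12Gens Golay.Cert.m12Derived Golay.Cert.m12Levels = true := by
    have h := Golay.m12_ok
    simp only [Golay.stabCertOK, Bool.and_eq_true] at h
    exact h.1.1.1
  refine SchurMult.cyclic_two_of SchurMult.dblHom SchurMult.dblHom_surjective SchurMult.dblHom_ker_le_center
    SchurMult.dblHom_nontrivial ?_
  refine (SchurMult.card_le (SchurMult.ptHom _) (SchurMult.ptHom_injective _)
    (SchurMult.ptHom_range ((Golay.stabCert_spec Golay.m12_ok).1.trans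
      (Golay.stabIn_m12.trans Golay.sporM12_eq.symm))) [(1485, 2), (3520, 1), (19008, 1), (8640, 1)]
    ?_ (by decide)).trans (by decide)
  intro i hi
  simp only [List.mem_cons, List.not_mem_nil, or_false] at hi
  rcases hi with rfl | rfl | rfl | rfl
  · exact SchurMult.certified_of hc SchurMult.m12P2_base SchurMult.m12P2_rows SchurMult.m12P2_rels
      SchurMult.m12P2_derived SchurMult.m12P2_orders SchurMult.m12P2_ext
  · exact SchurMult.certified_of hc SchurMult.m12P3_base SchurMult.m12P3_rows SchurMult.m12P3_rels
        SchurMult.m12P3_derived SchurMult.m12P3_orders SchurMult.m12P3_ext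
  · exact SchurMult.certified_of hc SchurMult.m12P5_base SchurMult.m12P5_rows SchurMult.m12P5_rels
        SchurMult.m12P5_derived SchurMult.m12P5_orders SchurMult.m12P5_ext
  · exact SchurMult.certified_of hc SchurMult.m12P11_base SchurMult.m12P11_rows SchurMult.m12P11_rels
        SchurMult.m12P11_derived SchurMult.m12P11_orders SchurMult.m12P11_ext

end Cfsg.Agent.S2035
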