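import Cfsg.Statements.S2036
import Cfsg.Agent.Lib.SchurMult.MathieuHom
import Cfsg.Agent.Lib.SchurMult.Surj
import Cfsg.Agent.Lib.Compute.IndSpec
import Cfsg.Agent.Lib.SchurMult.M22I2Cert
import Cfsg.Agent.Lib.SchurMult.M22I3Cert
import Cfsg.Agent.Lib.SchurMult.M22P2Cert
import Cfsg.Agent.Lib.SchurMult.M22P3Cert
import Cfsg.Agent.Lib.SchurMult.M22P5Cert
import Cfsg.Agent.Lib.SchurMult.M22P7Cert
import Cfsg.Agent.Lib.SchurMult.M22P11Cert
-- import your own Cfsg.Agent.* helpers here

set_option autoImplicit false
open Cfsg

namespace Cfsg.Agent.S2036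

/-- The Schur multiplier of the Mathieu group M₂₂ (the permutations in the automorphism group of the length-24 binary code that fix each of two given points) is cyclic of order 12; here the Schur multiplier is described through stem extensions, as in the definitions: surjective homomorphisms onto the group from a finite group, whose kernel is central in that finite group and contained in that finite group's commutator subgroup. -/
theorem result : Cfsg.HasCyclicSchurMultiplier ↥Cfsg.Spor.M22 12 := by
  have hc : PermCert.checkCert 5 24 Golay.Cert.m22Gens Golay.Cert.m22Derived Golay.Cert.m22Levels = true := by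
    have h := Golay.m22_ok
    simp only [Golay.stabCertOK, Bool.and_eq_true] at h
    exact h.1.1.1
  have hM : Golay.genPerm Golay.Cert.m22Gens = Spor.M22 :=
    (Golay.stabCert_spec Golay.m22_ok).1.trans (Golay.stabIn_m22.trans Golay.sporM22_eq.symm)
  let e : PermCert.genGroup 5 24 Golay.Cert.m22Gens ≃* Spor.M22 :=
    ((PermCert.genGroup 5 24 Golay.Cert.m22Gens).equivMapOfInjective Golay.phi.toMonoidHom
      Golay.phi.injective).trans (MulEquiv.subgroupCongr hM)
  have hk : ∀ {X : Type} [Group X] (σ : X →* PermCert.genGroup 5 24 Golay.Cert.m22Gens), Function.Surjective σ →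
      σ.ker ≤ Subgroup.center X → ∀ (q r : ℕ) [NeZero q],
      (∃ v : ↥(σ.ker ⊓ commutator X) →* Multiplicative (ZMod q × ZMod r), Function.Surjective v) →
        q ∣ Monoid.exponent (Schur.Multiplier Spor.M22) := by
    intro X _ σ hs hcen q r _ ⟨v, hv⟩
    have hker : (e.toMonoidHom.comp σ).ker = σ.ker := MonoidHom.ker_mulEquiv_comp σ e
    obtain ⟨f, hf⟩ := SchurMult.exists_surj (e.toMonoidHom.comp σ) (e.surjective.comp hs) (hker.le.trans hcen)
      (v.comp (Subgroup.inclusion (inf_le_inf_right _ hker.le)))
      (hv.comp fun z => ⟨⟨z, hker.ge z.2.1, z.2.2⟩, rfl⟩)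
    exact SchurMult.dvd_exponent hf
  refine SchurMult.cyclic_of 12 ?_ ?_
  · refine (SchurMult.card_le (SchurMult.ptHom _) (SchurMult.ptHom_injective _) (SchurMult.ptHom_range hM)
      [(3465, 4), (49280, 3), (88704, 1), (63360, 1), (40320, 1)] ?_ (by decide)).trans (by decide)
    intro i hi
    simp only [List.mem_cons, List.not_mem_nil, or_false] at hi
    rcases hi with rfl | rfl | rfl | rfl | rfl
    · exact SchurMult.certified_of hc SchurMult.m22P2_base SchurMult.m22P2_rows SchurMult.m22P2_rels
        SchurMult.m22P2_derived SchurMult.m22P2_orders SchurMult.m22P2_ext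
    · exact SchurMult.certified_of hc SchurMult.m22P3_base SchurMult.m22P3_rows SchurMult.m22P3_rels
        SchurMult.m22P3_derived SchurMult.m22P3_orders SchurMult.m22P3_ext
    · exact SchurMult.certified_of hc SchurMult.m22P5_base SchurMult.m22P5_rows SchurMult.m22P5_rels
        SchurMult.m22P5_derived SchurMult.m22P5_orders SchurMult.m22P5_ext
    · exact SchurMult.certified_of hc SchurMult.m22P7_base SchurMult.m22P7_rows SchurMult.m22P7_rels
        SchurMult.m22P7_derived SchurMult.m22P7_orders SchurMult.m22P7_ext
    · exact SchurMult.certified_of hc SchurMult.m22P11_base SchurMult.m22P11_rows SchurMult.m22P11_rels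
        SchurMult.m22P11_derived SchurMult.m22P11_orders SchurMult.m22P11_ext
  · refine Nat.Coprime.mul_dvd_of_dvd_of_dvd (show Nat.Coprime 4 3 by decide) ?_ ?_
    · obtain ⟨X, _, σ, hs, hcen, hv⟩ := PermInd.exists_extension hc SchurMult.m22I2_base
        SchurMult.m22I2_cosets SchurMult.m22I2_wits SchurMult.m22I2_words SchurMult.m22I2_span
      haveI : NeZero SchurMult.m22I2Data.q := ⟨by decide⟩
      exact hk σ hs hcen SchurMult.m22I2Data.q _ hv
    · obtain ⟨X, _, σ, hs, hcen, hv⟩ := PermInd.exists_extension hc SchurMult.m22I3_base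
        SchurMult.m22I3_cosets SchurMult.m22I3_wits SchurMult.m22I3_words SchurMult.m22I3_span
      haveI : NeZero SchurMult.m22I3Data.q := ⟨by decide⟩
      exact hk σ hs hcen SchurMult.m22I3Data.q _ hv

end Cfsg.Agent.S2036
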