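import Cfsg.Statements.S2040
import Cfsg.Agent.Lib.SchurMult.Bound
import Cfsg.Agent.Lib.SchurMult.J2P2Cert
import Cfsg.Agent.Lib.SchurMult.J2P3Cert
import Cfsg.Agent.Lib.SchurMult.J2P5Cert
import Cfsg.Agent.Lib.SchurMult.J2P7Cert
import Cfsg.Agent.Lib.SchurMult.J2Square
import Cfsg.Agent.S1620
-- import your own Cfsg.Agent.* helpers here

set_option autoImplicit false
open Cfsg

namespace Cfsg.Agent.S2040

/-- The Schur multiplier of the Hall–Janko group J₂ (the icosian reflection group modulo its centre) is cyclic of order 2; here the Schur multiplier is described through stem extensions, as in the definitions: surjective homomorphisms onto the group from a finite group, whose kernel is central in that finite group and contained in that finite group's commutator subgroup. -/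
theorem result : Cfsg.HasCyclicSchurMultiplier Cfsg.Spor.J2 2 := by
  obtain ⟨hsimple, a, b, hab⟩ := S1620.result
  haveI : IsSimpleGroup Spor.J2 := hsimple
  haveI : Finite Spor.J2 := Nat.finite_of_card_ne_zero (by rw [J2.card_J2]; norm_num)
  let φ : Spor.J2 →* Equiv.Perm (Fin 100) := J2.G100.subtype.comp J2.j2Equiv.toMonoidHom
  have hφ : Function.Injective φ := J2.G100.subtype_injective.comp J2.j2Equiv.injective
  have hr : φ.range = PermCert.genGroup 7 100 J2.j2Gens := by
    rw [MonoidHom.range_comp, MonoidHom.range_eq_top.2 J2.j2Equiv.surjective, ← MonoidHom.range_eq_map,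
      Subgroup.range_subtype]
  have hle : Nat.card (Schur.Multiplier Spor.J2) ≤ 2 := by
    refine (SchurMult.card_le φ hφ hr [(4725, 2), (22400, 1), (24192, 1), (86400, 1)] ?_ (by decide)).trans
      (by decide)
    intro i hi
    simp only [List.mem_cons, List.not_mem_nil, or_false] at hi
    rcases hi with rfl | rfl | rfl | rfl
    · exact SchurMult.certified_of J2.cert_ok SchurMult.j2P2_base SchurMult.j2P2_rows SchurMult.j2P2_rels
        SchurMult.j2P2_derived SchurMult.j2P2_orders SchurMult.j2P2_ext
    · exact SchurMult.certified_of J2.cert_ok SchurMult.j2P3_base SchurMult.j2P3_rows SchurMult.j2P3_rels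
          SchurMult.j2P3_derived SchurMult.j2P3_orders SchurMult.j2P3_ext
    · exact SchurMult.certified_of J2.cert_ok SchurMult.j2P5_base SchurMult.j2P5_rows SchurMult.j2P5_rels
          SchurMult.j2P5_derived SchurMult.j2P5_orders SchurMult.j2P5_ext
    · exact SchurMult.certified_of J2.cert_ok SchurMult.j2P7_base SchurMult.j2P7_rows SchurMult.j2P7_rels
          SchurMult.j2P7_derived SchurMult.j2P7_orders SchurMult.j2P7_ext
  let π : Spor.twoJ2 →* Spor.J2 := QuotientGroup.mk' (Subgroup.center Spor.twoJ2)
  have hπ : Function.Surjective π := QuotientGroup.mk'_surjective _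
  have hk : π.ker = Subgroup.center Spor.twoJ2 := QuotientGroup.ker_mk' _
  refine SchurMult.cyclic_two_of π hπ hk.le ?_ hle
  set z : Spor.twoJ2 := ⟨J2.negP, J2.negP_mem⟩ with hz
  have hzz : z * z = 1 := by
    refine Subtype.ext (Equiv.ext fun x => Subtype.ext ?_)
    show ((J2.negP (J2.negP x) : Spor.icoLeech) : Fin 3 → Quaternion ℝ) = _
    rw [J2.negP_apply, J2.negP_apply, neg_neg]
    rfl
  have hcomm : commutator Spor.J2 = ⊤ := by
    refine (Subgroup.Normal.eq_bot_or_eq_top (inferInstance : (commutator Spor.J2).Normal)).resolve_left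
      fun h => hab ?_
    rw [← commutatorElement_eq_one_iff_mul_comm, ← Subgroup.mem_bot, ← h]
    exact Subgroup.commutator_mem_commutator (Subgroup.mem_top a) (Subgroup.mem_top b)
  have hmap : (commutator Spor.twoJ2).map π = ⊤ := by
    rw [commutator_def, Subgroup.map_commutator, Subgroup.map_top_of_surjective π hπ, ← commutator_def, hcomm]
  obtain ⟨c, hc, hcq⟩ : π SchurMult.quad ∈ (commutator Spor.twoJ2).map π := hmap.symm ▸ Subgroup.mem_top _
  have hmem : c⁻¹ * SchurMult.quad ∈ Subgroup.center Spor.twoJ2 := by
    rw [← hk, MonoidHom.mem_ker, map_mul, map_inv, hcq, inv_mul_cancel]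
  have hzc : z ∈ commutator Spor.twoJ2 := by
    have hzq : SchurMult.quad * SchurMult.quad = z := SchurMult.quad_sq
    rcases J2.center_elems _ hmem with h | h
    · rw [← hzq, ← inv_mul_eq_one.1 h]; exact mul_mem hc hc
    · have hq : SchurMult.quad = c * z := inv_mul_eq_iff_eq_mul.1 h
      rw [← hzq, hq, show c * z * (c * z) = c * (z * c) * z by group,
        ← Subgroup.mem_center_iff.1 J2.negP_central c, show c * (c * z) * z = c * c * (z * z) by group,
        hzz, mul_one]
      exact mul_mem hc hc
  intro hbot
  exact J2.negP_ne_one (Subgroup.mem_bot.1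
    (hbot ▸ Subgroup.mem_inf.2 ⟨hk.symm ▸ J2.negP_central, hzc⟩))

end Cfsg.Agent.S2040
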