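import Cfsg.Statements.S2041
import Cfsg.Agent.Lib.J3Model.MultMain
import Cfsg.Agent.Lib.J3Model.Perfect
import Cfsg.Agent.Lib.Schur.PerfectQuot
-- import your own Cfsg.Agent.* helpers here

set_option autoImplicit false
open Cfsg

namespace Cfsg.Agent.S2041

/-- For any field with 4 elements and any element ω of it with ω² + ω + 1 = 0: the Schur multiplier of the Janko group J₃ (the group generated by explicit 9 × 9 matrices over that field built from ω, taken modulo its centre) is cyclic of order 3; here the Schur multiplier is described through stem extensions, as in the definitions: surjective homomorphisms onto the group from a finite group, whose kernel is central in that finite group and contained in that finite group's commutator subgroup. -/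
theorem result {F : Type*} [Field F] [Fintype F] (hF : Fintype.card F = 4) (ω : F) (hω : ω ^ 2 + ω + 1 = 0) : Cfsg.HasCyclicSchurMultiplier (Cfsg.Spor.J3 F ω) 3 := by
  haveI : Finite ↥(Cfsg.Spor.threeJ3 F ω) := inferInstance
  have h1 := Schur.hasCyclicSchurMultiplier_one_of (Q := ↥(Cfsg.Spor.threeJ3 F ω))
    fun X _ ξ hs hc => J3Model.Mult.inf_commutator hF hω ξ hs hc
  have hk : (QuotientGroup.mk' (Subgroup.center ↥(Cfsg.Spor.threeJ3 F ω))).ker = Subgroup.center _ :=
    QuotientGroup.ker_mk' _
  have hc : Nat.card (QuotientGroup.mk' (Subgroup.center ↥(Cfsg.Spor.threeJ3 F ω))).ker = 3 := by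
    rw [hk, J3Model.card_center hF hω]
  haveI : Fact (Nat.Prime 3) := ⟨Nat.prime_three⟩
  exact Schur.hasSchurMultiplier_of_perfect (J3Model.threeJ3_perfect hF hω) h1 (QuotientGroup.mk' _)
    (QuotientGroup.mk'_surjective _) hk.le (mulEquivOfPrimeCardEq (p := 3) (by simp) hc)

end Cfsg.Agent.S2041
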