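import Cfsg.Statements.S2047
import Cfsg.Agent.Lib.SchurMult.Bound
import Cfsg.Agent.Lib.SporPerm.McLModel
import Cfsg.Agent.Lib.SporPerm.McLP2Cert
import Cfsg.Agent.Lib.SporPerm.McLP3Cert
import Cfsg.Agent.Lib.SporPerm.McLP5Cert
import Cfsg.Agent.Lib.SporPerm.McLP7Cert
import Cfsg.Agent.Lib.SporPerm.McLP11Cert
import Cfsg.Agent.Lib.SporPerm.McLCoverCert
-- import your own Cfsg.Agent.* helpers here

set_option autoImplicit false
open Cfsg

namespace Cfsg.Agent.S2047

/-- The Schur multiplier of the McLaughlin group (as a two-vector stabiliser in the automorphism group of the rank-24 lattice) is cyclic of order 3; here the Schur multiplier is described through stem extensions, as in the definitions: surjective homomorphisms onto the group from a finite group, whose kernel is central in that finite group and contained in that finite group's commutator subgroup. -/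
theorem result : Cfsg.HasCyclicSchurMultiplier ↥Cfsg.Spor.McL 3 := by
  obtain ⟨e⟩ := SporPerm.mcl_equiv
  haveI : Finite Spor.McL := Nat.finite_of_card_ne_zero (by rw [Leech.isMcL_spor.2]; norm_num)
  let φ : Spor.McL →* Equiv.Perm (Fin 275) :=
    (PermCert.genGroup 9 275 SporPerm.mclGens).subtype.comp e.toMonoidHom
  have hφ : Function.Injective φ := (Subgroup.subtype_injective _).comp e.injective
  have hr : φ.range = PermCert.genGroup 9 275 SporPerm.mclGens := by
    rw [MonoidHom.range_comp, MonoidHom.range_eq_top.2 e.surjective, ← MonoidHom.range_eq_map,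
      Subgroup.range_subtype]
  have hle : Nat.card (Schur.Multiplier Spor.McL) ≤ 3 := by
    refine (SchurMult.card_le φ hφ hr
      [(7016625, 1), (1232000, 3), (7185024, 1), (128304000, 1), (81648000, 1)] ?_ (by decide)).trans (by decide)
    intro i hi
    simp only [List.mem_cons, List.not_mem_nil, or_false] at hi
    rcases hi with rfl | rfl | rfl | rfl | rfl
    · exact SchurMult.certified_of SporPerm.mcl_cert SporPerm.mclP2_base SporPerm.mclP2_rows SporPerm.mclP2_rels
        SporPerm.mclP2_derived SporPerm.mclP2_orders SporPerm.mclP2_ext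
    · exact SchurMult.certified_of SporPerm.mcl_cert SporPerm.mclP3_base SporPerm.mclP3_rows SporPerm.mclP3_rels
        SporPerm.mclP3_derived SporPerm.mclP3_orders SporPerm.mclP3_ext
    · exact SchurMult.certified_of SporPerm.mcl_cert SporPerm.mclP5_base SporPerm.mclP5_rows SporPerm.mclP5_rels
        SporPerm.mclP5_derived SporPerm.mclP5_orders SporPerm.mclP5_ext
    · exact SchurMult.certified_of SporPerm.mcl_cert SporPerm.mclP7_base SporPerm.mclP7_rows SporPerm.mclP7_rels
        SporPerm.mclP7_derived SporPerm.mclP7_orders SporPerm.mclP7_ext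
    · exact SchurMult.certified_of SporPerm.mcl_cert SporPerm.mclP11_base SporPerm.mclP11_rows SporPerm.mclP11_rels
        SporPerm.mclP11_derived SporPerm.mclP11_orders SporPerm.mclP11_ext
  obtain ⟨X, iX, σ, hσ, hc, z, hz, hord⟩ := SporPerm.Cyc.exists_induced_cover
    (fun g hg => List.all_eq_true.1 SporPerm.mcl3_valid g hg) SporPerm.mcl3_sheet SporPerm.mcl3_chain
    SporPerm.mcl3_reps SporPerm.mcl3_fact SporPerm.mcl3_witness Nat.prime_three
  let ξ : X →* Spor.McL := e.symm.toMonoidHom.comp σ
  have hk : ξ.ker = σ.ker := by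
    ext x
    simp [ξ, MonoidHom.mem_ker]
  exact SchurMult.cyclic_of 3 hle
    (hord.trans (SchurMult.exists_orderOf ξ (e.symm.surjective.comp hσ) (hk.le.trans hc) (hk ▸ hz)))

end Cfsg.Agent.S2047
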