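import Cfsg.Statements.S2045
import Cfsg.Agent.Lib.SchurMult.Bound
import Cfsg.Agent.Lib.SporPerm.Co3Model
import Cfsg.Agent.Lib.SporPerm.Co3P2Cert
import Cfsg.Agent.Lib.SporPerm.Co3P3Cert
import Cfsg.Agent.Lib.SporPerm.Co3P5Cert
import Cfsg.Agent.Lib.SporPerm.Co3P7Cert
import Cfsg.Agent.Lib.SporPerm.Co3P11Cert
import Cfsg.Agent.Lib.SporPerm.Co3P23Cert
-- import your own Cfsg.Agent.* helpers here

set_option autoImplicit false
open Cfsg

namespace Cfsg.Agent.S2045

/-- The Schur multiplier of the Conway group Co₃ (the stabiliser of a vector of the second shortest length in the rank-24 lattice) is trivial; here the Schur multiplier is described through stem extensions, as in the definitions: surjective homomorphisms onto the group from a finite group, whose kernel is central in that finite group and contained in that finite group's commutator subgroup. -/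
theorem result : Cfsg.HasCyclicSchurMultiplier ↥Cfsg.Spor.Co3 1 := by
  obtain ⟨e⟩ := SporPerm.co3_equiv
  haveI : Finite Spor.Co3 := Nat.finite_of_card_ne_zero (by rw [Leech.isCo3_spor.2]; norm_num)
  let φ : Spor.Co3 →* Equiv.Perm (Fin 276) :=
    (PermCert.genGroup 9 276 SporPerm.co3Gens).subtype.comp e.toMonoidHom
  have hφ : Function.Injective φ := (Subgroup.subtype_injective _).comp e.injective
  have hr : φ.range = PermCert.genGroup 9 276 SporPerm.co3Gens := by
    rw [MonoidHom.range_comp, MonoidHom.range_eq_top.2 e.surjective, ← MonoidHom.range_eq_map,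
      Subgroup.range_subtype]
  refine SchurMult.trivial_of φ hφ hr
    [(484147125, 1), (226688000, 1), (3966133248, 1), (70823808000, 1), (45069696000, 1), (21555072000, 1)] ?_ (by decide) (by decide)
  intro i hi
  simp only [List.mem_cons, List.not_mem_nil, or_false] at hi
  rcases hi with rfl | rfl | rfl | rfl | rfl | rfl
  · exact SchurMult.certified_of SporPerm.co3_cert SporPerm.co3P2_base SporPerm.co3P2_rows SporPerm.co3P2_rels
      SporPerm.co3P2_derived SporPerm.co3P2_orders SporPerm.co3P2_ext
  · exact SchurMult.certified_of SporPerm.co3_cert SporPerm.co3P3_base SporPerm.co3P3_rows SporPerm.co3P3_rels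
      SporPerm.co3P3_derived SporPerm.co3P3_orders SporPerm.co3P3_ext
  · exact SchurMult.certified_of SporPerm.co3_cert SporPerm.co3P5_base SporPerm.co3P5_rows SporPerm.co3P5_rels
      SporPerm.co3P5_derived SporPerm.co3P5_orders SporPerm.co3P5_ext
  · exact SchurMult.certified_of SporPerm.co3_cert SporPerm.co3P7_base SporPerm.co3P7_rows SporPerm.co3P7_rels
      SporPerm.co3P7_derived SporPerm.co3P7_orders SporPerm.co3P7_ext
  · exact SchurMult.certified_of SporPerm.co3_cert SporPerm.co3P11_base SporPerm.co3P11_rows SporPerm.co3P11_rels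
      SporPerm.co3P11_derived SporPerm.co3P11_orders SporPerm.co3P11_ext
  · exact SchurMult.certified_of SporPerm.co3_cert SporPerm.co3P23_base SporPerm.co3P23_rows SporPerm.co3P23_rels
      SporPerm.co3P23_derived SporPerm.co3P23_orders SporPerm.co3P23_ext

end Cfsg.Agent.S2045
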