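import Cfsg.Statements.S2048
import Cfsg.Agent.Lib.ProjCover.Suz
import Cfsg.Agent.Lib.SchurMult.SuzP2Cert
import Cfsg.Agent.Lib.SchurMult.SuzP3Cert
import Cfsg.Agent.Lib.SchurMult.SuzP5Cert
import Cfsg.Agent.Lib.SchurMult.SuzP7Cert
import Cfsg.Agent.Lib.SchurMult.SuzP11Cert
import Cfsg.Agent.Lib.SchurMult.SuzP13Cert
-- import your own Cfsg.Agent.* helpers here

set_option autoImplicit false
open Cfsg

namespace Cfsg.Agent.S2048

/-- The Schur multiplier of the Suzuki sporadic group (the finitely presented group of the definitions) is cyclic of order 6; here the Schur multiplier is described through stem extensions, as in the definitions: surjective homomorphisms onto the group from a finite group, whose kernel is central in that finite group and contained in that finite group's commutator subgroup. -/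
theorem result : Cfsg.HasCyclicSchurMultiplier Cfsg.Spor.Suz 6 := by
  classical
  let φ : Cfsg.Spor.Suz →* Equiv.Perm (Fin 1782) := RigidGraph.Suz.toPerm
  have hφ : Function.Injective φ := RigidGraph.Suz.range_eq.2
  have hr : φ.range = PermCert.genGroup 11 1782 SchurMult.suzGens := SchurMult.suz_range
  haveI : Finite Cfsg.Spor.Suz := RigidGraph.Suz.card_PG.1
  haveI : Finite RigidGraph.Suz.PG := RigidGraph.Suz.card_PG.1
  have hle : Nat.card (Schur.Multiplier Cfsg.Spor.Suz) ≤ 6 := by
    refine (SchurMult.card_le φ hφ hr [(54729675, 2), (205004800, 3), (17933819904, 1), (64049356800, 1),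
      (40758681600, 1), (34488115200, 1)] ?_ (by decide)).trans (by decide)
    intro i hi
    simp only [List.mem_cons, List.not_mem_nil, or_false] at hi
    rcases hi with rfl | rfl | rfl | rfl | rfl | rfl
    exacts [SchurMult.suzP2_certified, SchurMult.suzP3_certified, SchurMult.suzP5_certified,
      SchurMult.suzP7_certified, SchurMult.suzP11_certified, SchurMult.suzP13_certified]
  obtain ⟨X, iX, σ, hσ, hc, z, hz, hord⟩ := ProjCover.exists_suz_cover
  exact SchurMult.cyclic_of 6 hle (hord ▸ SchurMult.exists_orderOf σ hσ hc hz)

end Cfsg.Agent.S2048
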