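import Cfsg.Statements.S2053
import Cfsg.Agent.Lib.FischerPresented.Mult22
import Cfsg.Agent.Lib.FischerPresented.Cover22
-- import your own Cfsg.Agent.* helpers here

set_option autoImplicit false
open Cfsg

namespace Cfsg.Agent.S2053

/-- The Schur multiplier of the Fischer group Fi₂₂ (the finitely presented group of the definitions) is cyclic of order 6; here the Schur multiplier is described through stem extensions, as in the definitions: surjective homomorphisms onto the group from a finite group, whose kernel is central in that finite group and contained in that finite group's commutator subgroup. -/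
theorem result : Cfsg.HasCyclicSchurMultiplier Cfsg.Spor.Fi22 6 := by
  refine ⟨?_, fun Γ _ _ τ hτ => ?_⟩
  · obtain ⟨E, hE, hF, τ, hs, hc, hm, hn⟩ := FischerPresented.Cover22.exists_cover
    exact ⟨E, hE, hF, τ, ⟨hs, hc, hm⟩, hn⟩
  · obtain ⟨r, hr6, hrk, hle⟩ := FischerPresented.Mult22.exists_ker_gen hτ.2.1 hτ.1 hτ.2.2
    let r' : τ.ker := ⟨r, hrk⟩
    have hr6' : r' ^ 6 = 1 := Subtype.ext hr6
    let f : ℤ →+ Additive τ.ker := zmultiplesHom (Additive τ.ker) (Additive.ofMul r')
    have hf : f (6 : ℕ) = 0 := by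
      show ((6 : ℕ) : ℤ) • Additive.ofMul r' = 0
      rw [natCast_zsmul]
      exact hr6'
    refine ⟨AddMonoidHom.toMultiplicativeLeft (ZMod.lift 6 ⟨f, hf⟩), fun x => ?_⟩
    obtain ⟨n, hn⟩ := Subgroup.mem_zpowers_iff.1 (hle x.2)
    refine ⟨Multiplicative.ofAdd (n : ZMod 6), Subtype.ext ?_⟩
    show ((Additive.toMul (ZMod.lift 6 ⟨f, hf⟩ (n : ZMod 6)) : τ.ker) : Γ) = (x : Γ)
    rw [ZMod.lift_coe]
    show ((r' ^ n : τ.ker) : Γ) = (x : Γ)
    rw [SubgroupClass.coe_zpow]
    exact hn

end Cfsg.Agent.S2053
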