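import Cfsg.Statements.S2055
import Cfsg.Agent.Lib.Fi24Pres.GenType
import Cfsg.Agent.Lib.Fi24Pres.Cover3.Stem
import Cfsg.Agent.Lib.FischerMult24.OfType
-- import your own Cfsg.Agent.* helpers here

set_option autoImplicit false
open Cfsg

namespace Cfsg.Agent.S2055

/-- The Schur multiplier of the Fischer group Fi₂₄′ (the commutator subgroup of the presented group Fi₂₄) is cyclic of order 3; here the Schur multiplier is described through stem extensions, as in the definitions: surjective homomorphisms onto the group from a finite group, whose kernel is central in that finite group and contained in that finite group's commutator subgroup. -/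
theorem result : Cfsg.HasCyclicSchurMultiplier Cfsg.Spor.Fi24' 3 := by
  refine ⟨Fi24Pres.Cover3.exists_stem3, fun Γ _ _ τ hτ => ?_⟩
  have C := Fi24Pres.GenType.core
  haveI := C.finite
  haveI : Fact (Nat.Prime 2) := ⟨Nat.prime_two⟩
  haveI : Fact (Nat.Prime 3) := ⟨Nat.prime_three⟩
  exact FischerMult24.exists_stem_ker_surjection C.tgroup C.prim C.l_mem_D C.pCore_nb_le_center C.pCore_nb_le_center
    C.type_m24 τ hτ

end Cfsg.Agent.S2055
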