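import Cfsg.Statements.S2056
import Cfsg.Agent.Lib.HN.Main
import Cfsg.Agent.Lib.HNMult.Lift
import Cfsg.Agent.Lib.HNMult.CoverHS
-- import your own Cfsg.Agent.* helpers here

set_option autoImplicit false
open Cfsg

namespace Cfsg.Agent.S2056

/-- The Schur multiplier of the Harada–Norton group (the finitely presented group of the definitions) is trivial; here the Schur multiplier is described through stem extensions, as in the definitions: surjective homomorphisms onto the group from a finite group, whose kernel is central in that finite group and contained in that finite group's commutator subgroup. -/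
theorem result : Cfsg.HasCyclicSchurMultiplier Cfsg.Spor.HN 1 := by
  haveI : Finite Cfsg.Spor.HN := HN.finite_HN HN.Dat.xok
  haveI : Finite HN.H0 := Nat.finite_of_card_ne_zero (by rw [HN.card_H0]; norm_num)
  haveI : Subsingleton (Multiplicative (ZMod 1)) := inferInstance
  refine ⟨⟨Cfsg.Spor.HN, inferInstance, inferInstance, MonoidHom.id _, ⟨fun g => ⟨g, rfl⟩,
    fun a ha => by rw [show a = 1 from ha]; exact one_mem _, fun a ha => by rw [show a = 1 from ha]; exact one_mem _⟩,
    ?_⟩, fun Γ _ _ τ hτ => ?_⟩
  · haveI : Subsingleton ↥(MonoidHom.id Cfsg.Spor.HN).ker := ⟨fun a b => Subtype.ext (a.2.trans b.2.symm)⟩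
    exact ⟨{ toFun := fun _ => 1, invFun := fun _ => 1, left_inv := fun _ => Subsingleton.elim _ _,
             right_inv := fun _ => Subsingleton.elim _ _, map_mul' := fun _ _ => (one_mul 1).symm }⟩
  · obtain ⟨hxK, hyK⟩ := HNMult.gens_in_derived
    have h := HNMult.ker_eq_bot hxK hyK HNMult.toHS_facts.2.2.2 HNMult.exists_section_derived τ hτ
    refine ⟨1, fun x => ⟨1, Subtype.ext ?_⟩⟩
    exact ((Subgroup.mem_bot).1 (h ▸ x.2)).symm

end Cfsg.Agent.S2056
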