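import Cfsg.Statements.S2061
import Cfsg.Agent.Lib.MathieuOut.Congr
import Cfsg.Agent.Lib.MathieuOut.M12Cert
import Cfsg.Agent.Lib.MathieuOut.M12Tab0
-- import your own Cfsg.Agent.* helpers here

set_option autoImplicit false
open Cfsg

namespace Cfsg.Agent.S2061

/-- The outer automorphism group of the Mathieu group M₁₂ (the stabiliser of a dodecad in the automorphism group of the length-24 binary code) has order 2. -/
theorem result : Nat.card (Cfsg.Out ↥Cfsg.Spor.M12) = 2 := by
  obtain ⟨e⟩ := MathieuOut.nonempty_equiv (d := MathieuOut.m12Aut) MathieuOut.m12_cert Golay.m12_ok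
    (by decide +kernel) (by decide +kernel) (Golay.sporM12_eq.trans Golay.stabIn_m12.symm)
  rw [← MathieuOut.card_out_congr e]
  exact PermAut.card_out_two MathieuOut.m12_cert MathieuOut.m12_base
    (MathieuOut.cover_one (f := PermAut.closureOK 5 24 MathieuOut.m12Aut) MathieuOut.m12_closure0)
    MathieuOut.m12_scert MathieuOut.m12_sylow (show Nat.Prime 5 by norm_num)
    (MathieuOut.cover_one (f := PermAut.classifyOK 5 24 MathieuOut.m12Aut true) MathieuOut.m12_classify0)
    MathieuOut.m12_sigma MathieuOut.m12_noElt

end Cfsg.Agent.S2061
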