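import Cfsg.Statements.S2066
import Cfsg.Agent.Lib.J2.Out
import Cfsg.Agent.Lib.J2.Group
-- import your own Cfsg.Agent.* helpers here

set_option autoImplicit false
open Cfsg

namespace Cfsg.Agent.S2066

/-- The outer automorphism group of the Hall–Janko group J₂ (the icosian reflection group modulo its centre) has order 2. -/
theorem result : Nat.card (Cfsg.Out Cfsg.Spor.J2) = 2 := by
  have e : Cfsg.Spor.J2 ≃* J2.P100 := J2.j2Equiv
  have hI : Inn Cfsg.Spor.J2 = (Inn J2.P100).comap (MulAut.congr e).toMonoidHom := by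
    ext φ
    constructor
    · rintro ⟨g, rfl⟩
      exact ⟨e g, MulEquiv.ext fun a => by simp [MulAut.congr]⟩
    · rintro ⟨g, hg⟩
      refine ⟨e.symm g, MulEquiv.ext fun a => ?_⟩
      have h := DFunLike.congr_fun hg (e a)
      simp [MulAut.congr] at h
      apply e.injective
      simp [h]
  show Nat.card (MulAut Cfsg.Spor.J2 ⧸ Inn Cfsg.Spor.J2) = 2
  rw [← Subgroup.index_eq_card, hI, Subgroup.index_comap_of_surjective _ (MulAut.congr e).surjective,
    Subgroup.index_eq_card]
  exact J2.card_out

end Cfsg.Agent.S2066
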