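import Cfsg.Statements.S2068
import Cfsg.Agent.Lib.J4Cent.Presented
import Cfsg.Agent.Lib.J4Pres.Model.ModelCard
import Cfsg.Agent.Lib.JankoFour.Recog.Upper

set_option autoImplicit false
open Cfsg

namespace Cfsg.Agent.S2068

/-- The outer automorphism group of the Janko group J₄ (the finitely presented group of the definitions) is trivial: every automorphism is inner. -/
theorem result : Nat.card (Cfsg.Out Cfsg.Spor.J4) = 1 := by
  obtain ⟨hfin, hle⟩ := JankoFour.Recog.j4Upper
  haveI := hfin
  obtain ⟨hs, hc⟩ := J4Cent.isJ4_of_bounds hle J4Model.card_modG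
  haveI := hs
  exact J4Cent.presented_out hc

end Cfsg.Agent.S2068
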