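import Cfsg.Statements.S2070
import Cfsg.Agent.Lib.RigidGraph.Co2.Out.OutAut
import Cfsg.Agent.Lib.MathieuOut.Congr

set_option autoImplicit false
open Cfsg

namespace Cfsg.Agent.S2070

/-- The outer automorphism group of the Conway group Co₂ (the stabiliser of a minimal vector of the rank-24 lattice) is trivial: every automorphism is inner. -/
theorem result : Nat.card (Cfsg.Out ↥Cfsg.Spor.Co2) = 1 := by
  obtain ⟨-, ⟨e⟩⟩ := RigidGraph.Co2.co2_model
  rw [MathieuOut.card_out_congr e]
  exact RigidGraph.Co2.card_out_co2Group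

end Cfsg.Agent.S2070
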