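import Cfsg.Statements.S2071
import Cfsg.Agent.Lib.MathieuOut.Congr
import Cfsg.Agent.Lib.SporPerm.Co3Model
import Cfsg.Agent.Lib.SporPerm.Co3FrameCert
-- import your own Cfsg.Agent.* helpers here

set_option autoImplicit false
open Cfsg

namespace Cfsg.Agent.S2071

/-- The outer automorphism group of the Conway group Co₃ (the stabiliser of a vector of the second shortest length in the rank-24 lattice) is trivial: every automorphism is inner. -/
theorem result : Nat.card (Cfsg.Out ↥Cfsg.Spor.Co3) = 1 := by
  obtain ⟨e⟩ := SporPerm.co3_equiv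
  obtain ⟨hc, heq⟩ := CentAut.cert_of_model SporPerm.co3_cert SporPerm.co3Fr_light SporPerm.co3Fr_sift SporPerm.co3Fr_order
  rw [MathieuOut.card_out_congr (e.trans (MulEquiv.subgroupCongr heq.symm))]
  exact CentAut.card_out_one hc SporPerm.co3Fr_frame SporPerm.co3Fr_centX SporPerm.co3Fr_centN
    (by rw [show SporPerm.co3FrData.p = 23 from rfl]; norm_num) SporPerm.co3Fr_cases

end Cfsg.Agent.S2071
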