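import Cfsg.Statements.S2081
import Cfsg.Agent.Lib.Fi24Pres.GenType
import Cfsg.Agent.Lib.FischerOut24.OfType
-- import your own Cfsg.Agent.* helpers here

set_option autoImplicit false
open Cfsg

namespace Cfsg.Agent.S2081

/-- The outer automorphism group of the Fischer group Fi₂₄′ (the commutator subgroup of the presented group Fi₂₄) has order 2. -/
theorem result : Nat.card (Cfsg.Out Cfsg.Spor.Fi24') = 2 := by
  have C := Fi24Pres.GenType.core
  haveI := C.finite
  haveI : Fact (Nat.Prime 2) := ⟨Nat.prime_two⟩
  haveI : Fact (Nat.Prime 3) := ⟨Nat.prime_three⟩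
  exact FischerOut24.card_out_of_type C.tgroup C.prim C.l_mem_D C.pCore_nb_le_center C.pCore_nb_le_center C.type_m24

end Cfsg.Agent.S2081
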