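import Cfsg.Statements.S2082
import Cfsg.Agent.Lib.HNOut.Main
import Cfsg.Agent.S2072
-- import your own Cfsg.Agent.* helpers here

set_option autoImplicit false
open Cfsg

namespace Cfsg.Agent.S2082

/-- The outer automorphism group of the Harada–Norton group (the finitely presented group of the definitions) has order 2. -/
theorem result : Nat.card (Cfsg.Out Cfsg.Spor.HN) = 2 := by
  obtain ⟨e⟩ := SporPerm.hs_equiv
  exact HNOut.card_out ((MathieuOut.card_out_congr e).symm.trans Cfsg.Agent.S2072.result)

end Cfsg.Agent.S2082
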