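import Cfsg.Statements.S2087
import Cfsg.Agent.S2117
import Cfsg.Agent.S3961
import Cfsg.Agent.S0255
-- import your own Cfsg.Agent.* helpers here

set_option autoImplicit false
open Cfsg
open scoped commutatorElement

namespace Cfsg.Agent.S2087

/-- Exceptional Schur multiplier: over the field with 2 elements, PSL₃ has Schur multiplier cyclic of order 2 (here the Schur multiplier is described through stem extensions, as in the definitions). -/
theorem result {F : Type*} [Field F] [Fintype F] (hF : Fintype.card F = 2) : Cfsg.HasCyclicSchurMultiplier (Matrix.ProjectiveSpecialLinearGroup (Fin 3) F) 2 := by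
  classical
  haveI : Fact (Nat.Prime 7) := ⟨by norm_num⟩
  obtain ⟨E⟩ := S0255.result (F := ZMod 7) (K := F) (ZMod.card 7) hF
  refine Schur.hasCyclicSchurMultiplier_of_mulEquiv E ?_
  have hperf : commutator (Matrix.SpecialLinearGroup (Fin 2) (ZMod 7)) = ⊤ :=
    Matrix.SL2.commutator_eq_top (a := (2 : ZMod 7)) (by decide +revert) (by decide +revert)
  set π := QuotientGroup.mk' (Subgroup.center (Matrix.SpecialLinearGroup (Fin 2) (ZMod 7))) with hπ
  have hπs : Function.Surjective π := QuotientGroup.mk'_surjective _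
  have hker : π.ker = Subgroup.center (Matrix.SpecialLinearGroup (Fin 2) (ZMod 7)) :=
    QuotientGroup.ker_mk' _
  have hcard : Nat.card π.ker = 2 := by
    rw [hker, ClassicalSL.card_center_sl, Fintype.card_fin, Nat.card_zmod]
    rfl
  have hperf' : Group.IsPerfect (Matrix.SpecialLinearGroup (Fin 2) (ZMod 7)) := ⟨hperf⟩
  have h1 : Cfsg.HasCyclicSchurMultiplier (Matrix.SpecialLinearGroup (Fin 2) (ZMod 7)) 1 :=
    S2117.result (by rw [ZMod.card]; norm_num) (by rw [ZMod.card]; norm_num)
  haveI : IsCyclic π.ker := isCyclic_of_prime_card hcard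
  let A : Multiplicative (ZMod 2) ≃* π.ker := mulEquivOfCyclicCardEq (by rw [hcard]; simp)
  refine ⟨⟨_, inferInstance, inferInstance, π,
    ⟨hπs, hker.le, hperf ▸ le_top⟩, ⟨A.symm⟩⟩, ?_⟩
  intro Γ _ _ σ hσ
  obtain ⟨η, hη⟩ := (S3961.result hperf' π hπs hker.le).2 h1 Γ σ hσ.1 hσ.2.1
  have hsurj : Function.Surjective η := by
    have hrange : σ.ker ≤ η.range := by
      refine hσ.2.2.trans ?_
      rw [commutator_eq_closure, Subgroup.closure_le]
      rintro _ ⟨a, b, rfl⟩
      obtain ⟨a', ha⟩ := hπs (σ a)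
      obtain ⟨b', hb⟩ := hπs (σ b)
      have ha2 : (η a')⁻¹ * a ∈ Subgroup.center Γ := hσ.2.1 (by
        rw [MonoidHom.mem_ker, map_mul, map_inv, show σ (η a') = π a' from DFunLike.congr_fun hη a',
          ha, inv_mul_cancel])
      have hb2 : (η b')⁻¹ * b ∈ Subgroup.center Γ := hσ.2.1 (by
        rw [MonoidHom.mem_ker, map_mul, map_inv, show σ (η b') = π b' from DFunLike.congr_fun hη b',
          hb, inv_mul_cancel])
      have h := SL2Root.comm_congr ha2 hb2 (η a') (η b')
      rw [mul_inv_cancel_left, mul_inv_cancel_left] at h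
      exact ⟨⁅a', b'⁆, by rw [map_commutatorElement]; exact h.symm⟩
    intro g
    obtain ⟨a, ha⟩ := hπs (σ g)
    have hmem : (η a)⁻¹ * g ∈ η.range := hrange (by
      rw [MonoidHom.mem_ker, map_mul, map_inv, show σ (η a) = π a from DFunLike.congr_fun hη a, ha,
        inv_mul_cancel])
    obtain ⟨c, hc⟩ := hmem
    exact ⟨a * c, by rw [map_mul, hc, mul_inv_cancel_left]⟩
  let θ : π.ker →* σ.ker := (η.comp π.ker.subtype).codRestrict σ.ker fun x => by
    rw [MonoidHom.mem_ker, MonoidHom.comp_apply]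
    exact (DFunLike.congr_fun hη x.1).trans x.2
  refine ⟨θ.comp A.toMonoidHom, fun z => ?_⟩
  obtain ⟨x, hx⟩ := hsurj z.1
  have hxk : x ∈ π.ker := by
    rw [MonoidHom.mem_ker, ← show σ (η x) = π x from DFunLike.congr_fun hη x, hx]
    exact z.2
  exact ⟨A.symm ⟨x, hxk⟩, Subtype.ext (by simp [θ, hx])⟩

end Cfsg.Agent.S2087
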