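import Cfsg.Statements.S2089
import Cfsg.Agent.Lib.PSUMult.Main
import Cfsg.Agent.Lib.Schur.PerfectQuot

set_option autoImplicit false
open Cfsg

namespace Cfsg.Agent.S2089

/-- Schur multipliers of the unitary groups: for n ≥ 3 and a field F with q² elements, (n, q) ≠ (3, 2), apart from the exceptional pairs (n, q) = (4, 2), (4, 3), (6, 2), the Schur multiplier of PSU_n(q) is cyclic of order gcd(n, q + 1); here the Schur multiplier is described through stem extensions, as in the definitions. -/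
theorem result {F : Type*} [Field F] [Fintype F] (n q : ℕ) (hF : Fintype.card F = q ^ 2) (hn : 3 ≤ n) (h3 : ¬ (n = 3 ∧ q = 2)) (hexc : (n, q) ∉ ({(4, 2), (4, 3), (6, 2)} : Set (ℕ × ℕ))) : Cfsg.HasCyclicSchurMultiplier (Cfsg.PSU n F q) (Nat.gcd n (q + 1)) := by
  classical
  obtain ⟨σ, hσ, hne, hinv, hfix, -⟩ := Cfsg.Agent.HermStd.exists_sigma hF
  set π := QuotientGroup.mk' (Subgroup.center ↥(Cfsg.SU n F q)) with hπ
  have hperf := Cfsg.Agent.PSUMult.perfect_su hF hn (fun e => by
    have h1 : q ≠ 2 := fun h => h3 ⟨e, h⟩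
    have h2 : 2 ≤ q := by
      obtain ⟨σ, -, -, -, -, h⟩ := Cfsg.Agent.HermStd.exists_sigma hF
      exact h
    omega)
  have hker : π.ker = Subgroup.center ↥(Cfsg.SU n F q) := QuotientGroup.ker_mk' _
  haveI : NeZero (Nat.gcd n (q + 1)) := ⟨(Nat.gcd_pos_of_pos_left _ (by omega)).ne'⟩
  haveI : IsCyclic π.ker := by
    rw [hker]
    exact Cfsg.Agent.PSUMult.center_cyclic hF (by omega)
  refine Cfsg.Agent.Schur.hasSchurMultiplier_of_perfect hperf (Cfsg.Agent.PSUMult.mult_su hF hn h3 hexc) π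
    (QuotientGroup.mk'_surjective _) hker.le (mulEquivOfCyclicCardEq ?_)
  rw [hker, Cfsg.Agent.HermSU.card_center_SU hne hinv hσ (by omega) hfix, Nat.card_congr Multiplicative.toAdd,
    Nat.card_zmod]

end Cfsg.Agent.S2089
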