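import Cfsg.Statements.S2095
import Cfsg.Agent.Lib.FischerPresented.Mult7
import Cfsg.Agent.Lib.FischerPresented.Cover7
import Cfsg.Agent.Lib.FischerPresented.O73Field
import Cfsg.Agent.Lib.Schur.Congr
-- import your own Cfsg.Agent.* helpers here

set_option autoImplicit false
open Cfsg

namespace Cfsg.Agent.S2095

/-- Exceptional Schur multiplier: over the field with 3 elements, PΩ₇ (for the form x₀² + Σ xᵢyᵢ) has Schur multiplier cyclic of order 6 (the product of cyclic groups of orders 3 and 2; here the Schur multiplier is described through stem extensions, as in the definitions). -/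
theorem result {F : Type*} [Field F] [Fintype F] (hF : Fintype.card F = 3) : Cfsg.HasCyclicSchurMultiplier (Cfsg.POmega F (Cfsg.quadFormOdd 3 F)) 6 := by
  obtain ⟨e⟩ := FischerPresented.O73.nonempty_pomega_model hF
  obtain ⟨ι⟩ := FischerPresented.O73.nonempty_iso
  refine Schur.hasCyclicSchurMultiplier_of_mulEquiv (ι.trans e.symm) ⟨?_, fun Γ _ _ τ hτ => ?_⟩
  · obtain ⟨E, hE, hF', τ, hs, hc, hm, hn⟩ := FischerPresented.Cover7.exists_cover
    exact ⟨E, hE, hF', τ, ⟨hs, hc, hm⟩, hn⟩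
  · obtain ⟨r, hr6, hrk, hle⟩ := FischerPresented.Mult7.exists_ker_gen hτ.2.1 hτ.1 hτ.2.2
    let r' : τ.ker := ⟨r, hrk⟩
    have hr6' : r' ^ 6 = 1 := Subtype.ext hr6
    let f : ℤ →+ Additive τ.ker := zmultiplesHom (Additive τ.ker) (Additive.ofMul r')
    have hf : f (6 : ℕ) = 0 := by
      show ((6 : ℕ) : ℤ) • Additive.ofMul r' = 0
      rw [natCast_zsmul]
      exact hr6'
    refine ⟨AddMonoidHom.toMultiplicativeLeft (ZMod.lift 6 ⟨f, hf⟩), fun x => ?_⟩
    obtain ⟨n, hn⟩ := Subgroup.mem_zpowers_iff.1 (hle x.2)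
    refine ⟨Multiplicative.ofAdd (n : ZMod 6), Subtype.ext ?_⟩
    show ((Additive.toMul (ZMod.lift 6 ⟨f, hf⟩ (n : ZMod 6)) : τ.ker) : Γ) = (x : Γ)
    rw [ZMod.lift_coe]
    show ((r' ^ n : τ.ker) : Γ) = (x : Γ)
    rw [SubgroupClass.coe_zpow]
    exact hn

end Cfsg.Agent.S2095
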