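import Cfsg.Statements.S2096
import Cfsg.Agent.Lib.OmegaMult.Families
-- import your own Cfsg.Agent.* helpers here

set_option autoImplicit false
open Cfsg

namespace Cfsg.Agent.S2096

/-- Schur multipliers of the even-dimensional orthogonal groups of plus type and odd rank: for odd l ≥ 5 and a field F with q elements, the Schur multiplier of PΩ⁺_2l(F) (for the form Σ xᵢyᵢ) is cyclic of order gcd(4, q^l − 1); here the Schur multiplier is described through stem extensions, as in the definitions. -/
theorem result {F : Type*} [Field F] [Fintype F] {q : ℕ} (hF : Fintype.card F = q) (l : ℕ) (hl : 5 ≤ l) (hodd : Odd l) : Cfsg.HasCyclicSchurMultiplier (Cfsg.POmega F (Cfsg.quadFormPlus l F)) (Nat.gcd 4 (q ^ l - 1)) := by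
  subst hF
  have hl4 : 4 ≤ l := by omega
  rcases OmegaMult.card_odd_or_even (F := F) with ⟨h2, he⟩ | ⟨h2, ho⟩
  · have hn : (Fintype.card F ^ l - 1) % 2 = 1 := by
      have h0 : Fintype.card F ^ l % 2 = 0 :=
        Nat.even_iff.1 (Nat.even_pow.2 ⟨he, by omega⟩)
      have h1 : 0 < Fintype.card F ^ l := pow_pos Fintype.card_pos l
      omega
    rw [(OmegaMult.gcd_pow_two hn).1]
    exact OmegaMult.mult_plus_even_char F l hl4 (by omega) h2
  · obtain ⟨-, hl', h4⟩ := OmegaMult.mod_four ho l
    have hl' := hl' hodd
    rcases h4 with h4 | h4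
    · rw [OmegaMult.gcd_four (by omega)]
      exact OmegaMult.mult_plus_four F l hl4 hodd ho h4
    · rw [OmegaMult.gcd_four_two (by omega)]
      exact OmegaMult.mult_plus_two F l hl4 ho (by omega)

end Cfsg.Agent.S2096
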