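import Cfsg.Statements.S2097
import Cfsg.Agent.Lib.OmegaMult.Families
import Cfsg.Agent.Lib.Schur.Basic
-- import your own Cfsg.Agent.* helpers here

set_option autoImplicit false
open Cfsg

namespace Cfsg.Agent.S2097

/-- Schur multipliers of the even-dimensional orthogonal groups of plus type and even rank: for even l ≥ 4 and a field F with q elements, (l, q) ≠ (4, 2), the Schur multiplier of PΩ⁺_2l(F) (for the form Σ xᵢyᵢ) is the product of two cyclic groups of order gcd(2, q^l − 1) (so trivial for q even and a four-group for q odd; here the Schur multiplier is described through stem extensions, as in the definitions). -/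
theorem result {F : Type*} [Field F] [Fintype F] {q : ℕ} (hF : Fintype.card F = q) (l : ℕ) (hl : 4 ≤ l) (heven : Even l) (hexc : ¬ (l = 4 ∧ q = 2)) : Cfsg.HasSchurMultiplier (Cfsg.POmega F (Cfsg.quadFormPlus l F)) (Multiplicative (ZMod (Nat.gcd 2 (q ^ l - 1)) × ZMod (Nat.gcd 2 (q ^ l - 1)))) := by
  subst hF
  rcases OmegaMult.card_odd_or_even (F := F) with ⟨h2, he⟩ | ⟨h2, ho⟩
  · have hn : (Fintype.card F ^ l - 1) % 2 = 1 := by
      have h0 : Fintype.card F ^ l % 2 = 0 :=
        Nat.even_iff.1 (Nat.even_pow.2 ⟨he, by omega⟩)
      have h1 : 0 < Fintype.card F ^ l := pow_pos Fintype.card_pos l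
      omega
    rw [(OmegaMult.gcd_pow_two hn).2]
    have : Subsingleton (Multiplicative (ZMod 1)) := inferInstanceAs (Subsingleton (ZMod 1))
    have : Subsingleton (Multiplicative (ZMod 1 × ZMod 1)) := inferInstanceAs (Subsingleton (ZMod 1 × ZMod 1))
    let e : Multiplicative (ZMod 1) ≃* Multiplicative (ZMod 1 × ZMod 1) :=
      { toFun := fun _ => 1
        invFun := fun _ => 1
        left_inv := fun _ => Subsingleton.elim _ _
        right_inv := fun _ => Subsingleton.elim _ _
        map_mul' := fun _ _ => Subsingleton.elim _ _ }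
    exact Schur.hasSchurMultiplier_congr (OmegaMult.mult_plus_even_char F l hl hexc h2) e
  · have hl' := (OmegaMult.mod_four ho l).1 heven
    rw [OmegaMult.gcd_two (by omega)]
    exact OmegaMult.mult_plus_klein F l hl heven ho

end Cfsg.Agent.S2097
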