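import Cfsg.Statements.S2098
import Cfsg.Agent.Lib.SchurMult.Surj
import Cfsg.Agent.Lib.SchurMult.Bound
import Cfsg.Agent.Lib.SchurMult.BoundFast
import Cfsg.Agent.Lib.SchurMult.O82Hom
import Cfsg.Agent.Lib.SchurMult.O82Cover
import Cfsg.Agent.Lib.Schur.Congr
import Cfsg.Agent.Lib.SchurMult.O82P2Cert
import Cfsg.Agent.Lib.SchurMult.O82P3Cert
import Cfsg.Agent.Lib.SchurMult.O82P5Cert
import Cfsg.Agent.Lib.SchurMult.O82P7Cert
-- import your own Cfsg.Agent.* helpers here

set_option autoImplicit false
open Cfsg

namespace Cfsg.Agent.S2098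

/-- Exceptional Schur multiplier: over the field with 2 elements, PΩ⁺₈ (for the form Σ xᵢyᵢ) has Schur multiplier a four-group, the product of two cyclic groups of order 2 (here the Schur multiplier is described through stem extensions, as in the definitions). -/
theorem result {F : Type*} [Field F] [Fintype F] (hF : Fintype.card F = 2) : Cfsg.HasSchurMultiplier (Cfsg.POmega F (Cfsg.quadFormPlus 4 F)) (Multiplicative (ZMod 2 × ZMod 2)) := by
  obtain ⟨φ0, hφ0, hr0, hz⟩ := SchurMult.exists_o82_hom hF
  set Q := Cfsg.POmega F (Cfsg.quadFormPlus 4 F)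
  let e0 : Q ≃* Cfsg.Omega F (Cfsg.quadFormPlus 4 F) :=
    (QuotientGroup.quotientMulEquivOfEq hz).trans QuotientGroup.quotientBot
  let φ : Q →* Equiv.Perm (Fin 120) := φ0.comp e0.toMonoidHom
  have hφ : Function.Injective φ := hφ0.comp e0.injective
  have hr : φ.range = PermCert.genGroup 7 120 SchurMult.o82Gens := by
    rw [MonoidHom.range_comp, MonoidHom.range_eq_top.2 e0.surjective, ← MonoidHom.range_eq_map, hr0]
  have e : Q ≃* PermCert.genGroup 7 120 SchurMult.o82Gens :=
    (MonoidHom.ofInjective hφ).trans (MulEquiv.subgroupCongr hr)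
  have : Finite Q := Finite.of_injective φ hφ
  have hle : Nat.card (Schur.Multiplier Q) ≤ 4 := by
    refine (SchurMult.card_le φ hφ hr [(42525, 4), (716800, 1), (6967296, 1), (24883200, 1)] ?_ (by decide)).trans (by decide)
    intro i hi
    simp only [List.mem_cons, List.not_mem_nil, or_false] at hi
    rcases hi with rfl | rfl | rfl | rfl
    · exact SchurMult.certified_of_fast SchurMult.o82_cert SchurMult.o82P2_base SchurMult.o82P2_rows SchurMult.o82P2_rels
        SchurMult.o82P2_derived SchurMult.o82P2_proj SchurMult.o82P2_orders SchurMult.o82P2_ext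
    · exact SchurMult.certified_of SchurMult.o82_cert SchurMult.o82P3_base SchurMult.o82P3_rows SchurMult.o82P3_rels
        SchurMult.o82P3_derived SchurMult.o82P3_orders SchurMult.o82P3_ext
    · exact SchurMult.certified_of SchurMult.o82_cert SchurMult.o82P5_base SchurMult.o82P5_rows SchurMult.o82P5_rels
        SchurMult.o82P5_derived SchurMult.o82P5_orders SchurMult.o82P5_ext
    · exact SchurMult.certified_of SchurMult.o82_cert SchurMult.o82P7_base SchurMult.o82P7_rows SchurMult.o82P7_rels
        SchurMult.o82P7_derived SchurMult.o82P7_orders SchurMult.o82P7_ext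
  obtain ⟨g, hg⟩ := SchurMult.o82_multiplier_four
  obtain ⟨m⟩ := Schur.multiplierEquiv_of_mulEquiv e
  exact SchurMult.hasSchurMultiplier_of_surj (f := g.comp m.toMonoidHom) (hg.comp m.surjective) (hle.trans (by simp))

end Cfsg.Agent.S2098
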