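import Cfsg.Statements.S2099
import Cfsg.Agent.Lib.OmegaMult.Families
-- import your own Cfsg.Agent.* helpers here

set_option autoImplicit false
open Cfsg

namespace Cfsg.Agent.S2099

/-- Schur multipliers of the even-dimensional orthogonal groups of minus type: for l ≥ 4 and a field F with q elements, the Schur multiplier of PΩ⁻_2l(F) (for the form Σ_{i<l−1} xᵢyᵢ + z₁² + a z₁z₂ + b z₂² with the binary part anisotropic) is cyclic of order gcd(4, q^l + 1); here the Schur multiplier is described through stem extensions, as in the definitions. -/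
theorem result {F : Type*} [Field F] [Fintype F] {q : ℕ} (hF : Fintype.card F = q) (l : ℕ) (hl : 4 ≤ l) (a b : F) (hab : ∀ z₁ z₂ : F, z₁ ^ 2 + a * z₁ * z₂ + b * z₂ ^ 2 = 0 → z₁ = 0 ∧ z₂ = 0) : Cfsg.HasCyclicSchurMultiplier (Cfsg.POmega F (Cfsg.quadFormMinus (l - 1) F a b)) (Nat.gcd 4 (q ^ l + 1)) := by
  subst hF
  obtain ⟨j, rfl⟩ : ∃ j, l = j + 1 := ⟨l - 1, by omega⟩
  rw [show (j + 1 - 1 : ℕ) = j from rfl]
  have hj : 3 ≤ j := by omega
  rcases OmegaMult.card_odd_or_even (F := F) with ⟨h2, he⟩ | ⟨h2, ho⟩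
  · have hn : (Fintype.card F ^ (j + 1) + 1) % 2 = 1 := by
      have h0 : Fintype.card F ^ (j + 1) % 2 = 0 :=
        Nat.even_iff.1 (Nat.even_pow.2 ⟨he, by omega⟩)
      omega
    rw [(OmegaMult.gcd_pow_two hn).1]
    exact OmegaMult.mult_minus_even_char F j a b hab hj h2
  · obtain ⟨hle, hlo, h4⟩ := OmegaMult.mod_four ho (j + 1)
    rcases Nat.even_or_odd (j + 1) with hl' | hl'
    · rw [OmegaMult.gcd_four_two (by have := hle hl'; omega)]
      exact OmegaMult.mult_minus_two F j a b hab hj ho (hle hl')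
    · have hl2 := hlo hl'
      rcases h4 with h4 | h4
      · rw [OmegaMult.gcd_four_two (by omega)]
        exact OmegaMult.mult_minus_two F j a b hab hj ho (by omega)
      · rw [OmegaMult.gcd_four (by omega)]
        exact OmegaMult.mult_minus_four F j a b hab hj (by rcases hl' with ⟨k, hk⟩; exact ⟨k, by omega⟩) ho h4

end Cfsg.Agent.S2099
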