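import Cfsg.Statements.S2101
import Cfsg.Agent.Lib.SchurMult.Surj
import Cfsg.Agent.Lib.SchurMult.Bound
import Cfsg.Agent.Lib.SchurMult.G23Hom
import Cfsg.Agent.Lib.SchurMult.G23Cover
import Cfsg.Agent.Lib.Schur.Congr
import Cfsg.Agent.Lib.SchurMult.G23P2Cert
import Cfsg.Agent.Lib.SchurMult.G23P3Cert
import Cfsg.Agent.Lib.SchurMult.G23P7Cert
import Cfsg.Agent.Lib.SchurMult.G23P13Cert
-- import your own Cfsg.Agent.* helpers here

set_option autoImplicit false
open Cfsg

namespace Cfsg.Agent.S2101

/-- Exceptional Schur multiplier: over the field with 3 elements the Chevalley group of type G₂ has Schur multiplier cyclic of order 3 (here the Schur multiplier is described through stem extensions, as in the definitions). -/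
theorem result {F : Type*} [Field F] [Fintype F] (hF : Fintype.card F = 3) : Cfsg.HasCyclicSchurMultiplier ↥(Cfsg.Lie.chevG2.group F) 3 := by
  obtain ⟨φ, -, hφ, -, hr, -⟩ := SchurMult.exists_g23_homs
  obtain ⟨e⟩ := SchurMult.g23_equiv hF
  have : Finite G23.G3 := Finite.of_injective φ hφ
  have hle : Nat.card (Schur.Multiplier G23.G3) ≤ 3 := by
    refine (SchurMult.card_le φ hφ hr [(66339, 1), (5824, 3), (606528, 1), (326592, 1)] ?_ (by decide)).trans (by decide)
    intro i hi
    simp only [List.mem_cons, List.not_mem_nil, or_false] at hi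
    rcases hi with rfl | rfl | rfl | rfl
    · exact SchurMult.certified_of SchurMult.g23_cert SchurMult.g23P2_base SchurMult.g23P2_rows SchurMult.g23P2_rels
        SchurMult.g23P2_derived SchurMult.g23P2_orders SchurMult.g23P2_ext
    · exact SchurMult.certified_of SchurMult.g23_cert SchurMult.g23P3_base SchurMult.g23P3_rows SchurMult.g23P3_rels
        SchurMult.g23P3_derived SchurMult.g23P3_orders SchurMult.g23P3_ext
    · exact SchurMult.certified_of SchurMult.g23_cert SchurMult.g23P7_base SchurMult.g23P7_rows SchurMult.g23P7_rels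
        SchurMult.g23P7_derived SchurMult.g23P7_orders SchurMult.g23P7_ext
    · exact SchurMult.certified_of SchurMult.g23_cert SchurMult.g23P13_base SchurMult.g23P13_rows SchurMult.g23P13_rels
        SchurMult.g23P13_derived SchurMult.g23P13_orders SchurMult.g23P13_ext
  obtain ⟨f, hf⟩ := SchurMult.g23_multiplier_three
  have hm := SchurMult.hasSchurMultiplier_of_surj hf (hle.trans (by simp))
  exact Schur.hasCyclicSchurMultiplier_of_mulEquiv e.symm hm

end Cfsg.Agent.S2101
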