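import Cfsg.Statements.S2102
import Cfsg.Agent.Lib.ProjCover.G24
import Cfsg.Agent.S2518
import Mathlib.FieldTheory.Finite.GaloisField
import Cfsg.Agent.Lib.SchurMult.BoundFast
import Cfsg.Agent.Lib.SchurMult.G24P2Cert
import Cfsg.Agent.Lib.SchurMult.G24P3Cert
import Cfsg.Agent.Lib.SchurMult.G24P5Cert
import Cfsg.Agent.Lib.SchurMult.G24P7Cert
import Cfsg.Agent.Lib.SchurMult.G24P13Cert
-- import your own Cfsg.Agent.* helpers here

set_option autoImplicit false
open Cfsg

namespace Cfsg.Agent.S2102

/-- Exceptional Schur multiplier: over the field with 4 elements the Chevalley group of type G₂ has Schur multiplier cyclic of order 2 (here the Schur multiplier is described through stem extensions, as in the definitions). -/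
theorem result {F : Type*} [Field F] [Fintype F] (hF : Fintype.card F = 4) : Cfsg.HasCyclicSchurMultiplier ↥(Cfsg.Lie.chevG2.group F) 2 := by
  classical
  obtain ⟨f⟩ := S2518.group_equiv Lie.chevG2
    (FiniteField.ringEquivOfCardEq (K := F) (K' := G24.F4) (hF.trans (by decide +kernel)))
  obtain ⟨a⟩ := SuzG24.nonempty_equiv_G4
  let e : ↥(Lie.chevG2.group F) ≃* SuzG24.A6 := f.trans a.symm
  let φ : ↥(Lie.chevG2.group F) →* Equiv.Perm (Fin 416) := SchurMult.g24Perm.comp e.toMonoidHom
  have hφ : Function.Injective φ := SchurMult.g24Perm_injective.comp e.injective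
  have hr : φ.range = PermCert.genGroup 9 416 SchurMult.g24Gens := by
    rw [MonoidHom.range_comp, MonoidHom.range_eq_top.2 e.surjective, ← MonoidHom.range_eq_map,
      SchurMult.g24Perm_range]
  haveI : Finite ↥(Lie.chevG2.group F) := Finite.of_injective φ hφ
  have hle : Nat.card (Schur.Multiplier ↥(Lie.chevG2.group F)) ≤ 2 := by
    refine (SchurMult.card_le φ hφ hr
      [(61425, 2), (9318400, 1), (10063872, 1), (35942400, 1), (19353600, 1)] ?_ (by decide)).trans (by decide)
    intro i hi
    simp only [List.mem_cons, List.not_mem_nil, or_false] at hi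
    rcases hi with rfl | rfl | rfl | rfl | rfl
    · exact SchurMult.certified_of_fast SchurMult.g24_cert SchurMult.g24P2_base SchurMult.g24P2_rows SchurMult.g24P2_rels
        SchurMult.g24P2_derived SchurMult.g24P2_proj SchurMult.g24P2_orders SchurMult.g24P2_ext
    · exact SchurMult.certified_of SchurMult.g24_cert SchurMult.g24P3_base SchurMult.g24P3_rows SchurMult.g24P3_rels
        SchurMult.g24P3_derived SchurMult.g24P3_orders SchurMult.g24P3_ext
    · exact SchurMult.certified_of SchurMult.g24_cert SchurMult.g24P5_base SchurMult.g24P5_rows SchurMult.g24P5_rels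
        SchurMult.g24P5_derived SchurMult.g24P5_orders SchurMult.g24P5_ext
    · exact SchurMult.certified_of SchurMult.g24_cert SchurMult.g24P7_base SchurMult.g24P7_rows SchurMult.g24P7_rels
        SchurMult.g24P7_derived SchurMult.g24P7_orders SchurMult.g24P7_ext
    · exact SchurMult.certified_of SchurMult.g24_cert SchurMult.g24P13_base SchurMult.g24P13_rows
        SchurMult.g24P13_rels SchurMult.g24P13_derived SchurMult.g24P13_orders SchurMult.g24P13_ext
  obtain ⟨X, iX, σ, hσ, hc, z, hz, hord⟩ := ProjCover.exists_g24_cover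
  let ξ : X →* ↥(Lie.chevG2.group F) := e.symm.toMonoidHom.comp σ
  have hk : ξ.ker = σ.ker := MonoidHom.ker_mulEquiv_comp σ e.symm
  exact SchurMult.cyclic_of 2 hle
    (hord ▸ SchurMult.exists_orderOf ξ (e.symm.surjective.comp hσ) (hk.le.trans hc) (hk ▸ hz))

end Cfsg.Agent.S2102
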