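import Cfsg.Statements.S2103
import Cfsg.Agent.Lib.Lie.CovMultF4

set_option autoImplicit false
open Cfsg

namespace Cfsg.Agent.S2103

/-- Schur multipliers of the Chevalley groups of type F₄: over a finite field with more than 2 elements the Schur multiplier of F₄(q) is trivial (here the Schur multiplier is described through stem extensions, as in the definitions); q = 2 is exceptional. -/
theorem result {F : Type*} [Field F] [Fintype F] (hF : 3 ≤ Fintype.card F) : Cfsg.HasCyclicSchurMultiplier ↥(Cfsg.Lie.chevF4.group F) 1 := by
  refine Cfsg.Agent.Chev.mult_group_f4 ?_
  classical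
  by_contra hc
  push Not at hc
  have h := Finset.card_le_card (s := (Finset.univ : Finset F)) (t := {0, 1}) (fun x _ => by
    rw [Finset.mem_insert, Finset.mem_singleton]; exact (eq_or_ne x 0).imp_right (hc x))
  rw [Finset.card_univ] at h
  have := Finset.card_le_two (a := (0 : F)) (b := 1)
  omega

end Cfsg.Agent.S2103
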