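import Cfsg.Statements.S2112
import Cfsg.Agent.Lib.SchurMult.Surj
import Cfsg.Agent.Lib.SchurMult.Bound
import Cfsg.Agent.Lib.SchurMult.Sz8Hom
import Cfsg.Agent.Lib.Suzuki.Minor
import Cfsg.Agent.Lib.Compute.IndSpec
import Cfsg.Agent.Lib.Schur.Congr
import Cfsg.Agent.Lib.SchurMult.SZ8I2Cert
import Cfsg.Agent.Lib.SchurMult.SZ8P2Cert
import Cfsg.Agent.Lib.SchurMult.SZ8P5Cert
import Cfsg.Agent.Lib.SchurMult.SZ8P7Cert
import Cfsg.Agent.Lib.SchurMult.SZ8P13Cert
-- import your own Cfsg.Agent.* helpers here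

set_option autoImplicit false
open Cfsg

namespace Cfsg.Agent.S2112

/-- Exceptional Schur multiplier: the Suzuki group Sz(8), built over the field with 8 elements using the map x ↦ x⁴, has Schur multiplier a four-group, the product of two cyclic groups of order 2 (here the Schur multiplier is described through stem extensions, as in the definitions). -/
theorem result {F : Type*} [Field F] [Fintype F] (hF : Fintype.card F = 8) : Cfsg.HasSchurMultiplier ↥(Cfsg.Lie.Sz F 4) (Multiplicative (ZMod 2 × ZMod 2)) := by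
  have h := SchurMult.szField_one hF
  obtain ⟨φ, hφ, hr⟩ := SchurMult.exists_hom hF
  set Q := ↥(Cfsg.Sz F 1)
  have e : Q ≃* PermCert.genGroup 7 65 SchurMult.sz8Gens :=
    (MonoidHom.ofInjective hφ).trans (MulEquiv.subgroupCongr hr)
  have : Finite Q := Finite.of_injective φ hφ
  have hle : Nat.card (Schur.Multiplier Q) ≤ 4 := by
    refine (SchurMult.card_le φ hφ hr [(455, 4), (5824, 1), (4160, 1), (2240, 1)] ?_ (by decide)).trans (by decide)
    intro i hi
    simp only [List.mem_cons, List.not_mem_nil, or_false] at hi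
    rcases hi with rfl | rfl | rfl | rfl
    · exact SchurMult.certified_of SchurMult.sz8_cert SchurMult.sz8P2_base SchurMult.sz8P2_rows SchurMult.sz8P2_rels
        SchurMult.sz8P2_derived SchurMult.sz8P2_orders SchurMult.sz8P2_ext
    · exact SchurMult.certified_of SchurMult.sz8_cert SchurMult.sz8P5_base SchurMult.sz8P5_rows SchurMult.sz8P5_rels
        SchurMult.sz8P5_derived SchurMult.sz8P5_orders SchurMult.sz8P5_ext
    · exact SchurMult.certified_of SchurMult.sz8_cert SchurMult.sz8P7_base SchurMult.sz8P7_rows SchurMult.sz8P7_rels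
        SchurMult.sz8P7_derived SchurMult.sz8P7_orders SchurMult.sz8P7_ext
    · exact SchurMult.certified_of SchurMult.sz8_cert SchurMult.sz8P13_base SchurMult.sz8P13_rows SchurMult.sz8P13_rels
        SchurMult.sz8P13_derived SchurMult.sz8P13_orders SchurMult.sz8P13_ext
  obtain ⟨X, _, σ, hs, hcen, v, hv⟩ := PermInd.exists_extension SchurMult.sz8_cert SchurMult.sz8I2_base
    SchurMult.sz8I2_cosets SchurMult.sz8I2_wits SchurMult.sz8I2_words SchurMult.sz8I2_span
  have hker : (e.symm.toMonoidHom.comp σ).ker = σ.ker := MonoidHom.ker_mulEquiv_comp σ e.symm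
  obtain ⟨f, hf⟩ : ∃ f : Schur.Multiplier Q →* Multiplicative (ZMod 2 × ZMod 2), Function.Surjective f :=
    SchurMult.exists_surj (e.symm.toMonoidHom.comp σ) (e.symm.surjective.comp hs) (hker.le.trans hcen)
      (v.comp (Subgroup.inclusion (inf_le_inf_right _ hker.le)))
      (hv.comp fun z => ⟨⟨z, hker.ge z.2.1, z.2.2⟩, rfl⟩)
  have hm := SchurMult.hasSchurMultiplier_of_surj hf (hle.trans (by simp))
  exact Schur.hasSchurMultiplier_iff.2 (by
    obtain ⟨a⟩ := Schur.multiplierEquiv hm
    obtain ⟨b⟩ := Schur.multiplierEquiv_of_mulEquiv (Suzuki.minorEquiv h)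
    exact ⟨b.symm.trans a⟩)

end Cfsg.Agent.S2112
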