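import Cfsg.Statements.S2118
import Cfsg.Agent.Lib.SchurMult.AltSmall
import Cfsg.Agent.Lib.Schur.Congr
import Cfsg.Agent.Lib.Schur.Extra
import Cfsg.Agent.Lib.Classical.SL
import Cfsg.Agent.S0254
import Mathlib.LinearAlgebra.Matrix.SpecialLinearGroup
-- import your own Cfsg.Agent.* helpers here

set_option autoImplicit false
open Cfsg

namespace Cfsg.Agent.S2118

/-- For the field with 9 elements, the special linear group SL₂ has Schur multiplier cyclic of order 3 (here the Schur multiplier is described through stem extensions, as in the definitions). -/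
theorem result {F : Type*} [Field F] [Fintype F] (hF : Fintype.card F = 9) : Cfsg.HasCyclicSchurMultiplier (Matrix.SpecialLinearGroup (Fin 2) F) 3 := by
  classical
  set S := Matrix.SpecialLinearGroup (Fin 2) F with hS
  obtain ⟨e⟩ := S0254.result hF
  have hq : Nat.card F = 9 := by rw [Nat.card_eq_fintype_card, hF]
  obtain ⟨a, ha⟩ : ∃ a : Fˣ, a ^ 2 ≠ 1 := by
    by_contra hc
    simp only [not_exists, not_not] at hc
    obtain ⟨g, hg⟩ := IsCyclic.exists_ofOrder_eq_natCard (α := Fˣ)
    have h := Nat.le_of_dvd (by norm_num) (orderOf_dvd_of_pow_eq_one (hc g))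
    rw [hg, ClassicalSL.natCard_units, hq] at h
    omega
  have hperf : commutator S = ⊤ :=
    Matrix.SL2.commutator_eq_top (a := (a : F)) a.ne_zero fun h => ha (Units.ext (by simpa using h))
  let π : S →* alternatingGroup (Fin 6) := e.toMonoidHom.comp (QuotientGroup.mk' (Subgroup.center S))
  have hπs : Function.Surjective π := e.surjective.comp (QuotientGroup.mk'_surjective _)
  have hπk : π.ker = Subgroup.center S := by
    refine (MonoidHom.ker_mulEquiv_comp _ e).trans ?_
    exact QuotientGroup.ker_mk' _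
  have hπc : Nat.card π.ker = 2 := by
    rw [hπk, ClassicalSL.card_center_sl, Fintype.card_fin, hq]; rfl
  refine SchurMult.cyclic_of 3 ?_ ?_
  · obtain ⟨⟨Γ, iG, iF, σ, ⟨hs, hc, hm⟩, ⟨f⟩⟩, -⟩ := Schur.hasSchurMultiplier_multiplier S
    have hΓ : commutator Γ = ⊤ := by
      have hmap : (commutator Γ).map σ = ⊤ := by
        rw [commutator_def, Subgroup.map_commutator, Subgroup.map_top_of_surjective σ hs, ← commutator_def, hperf]
      rw [eq_top_iff]
      intro g _
      obtain ⟨c, hc', he⟩ : σ g ∈ (commutator Γ).map σ := hmap.symm ▸ Subgroup.mem_top _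
      rw [show g = c * (c⁻¹ * g) by group]
      exact mul_mem hc' (hm (by rw [MonoidHom.mem_ker, map_mul, map_inv, he, inv_mul_cancel]))
    have hcen : (π.comp σ).ker ≤ Subgroup.center Γ := by
      intro x hx
      have hx' : σ x ∈ Subgroup.center S := hπk ▸ (hx : σ x ∈ π.ker)
      have hk : ∀ y, x * y * x⁻¹ * y⁻¹ ∈ Subgroup.center Γ := fun y => hc (by
        rw [MonoidHom.mem_ker, map_mul, map_mul, map_mul, map_inv, map_inv,
          ← Subgroup.mem_center_iff.1 hx' (σ y), mul_inv_cancel_right, mul_inv_cancel])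
      let φ : Γ →* Subgroup.center Γ :=
        { toFun := fun y => ⟨x * y * x⁻¹ * y⁻¹, hk y⟩
          map_one' := Subtype.ext (by simp)
          map_mul' := fun y y' => Subtype.ext (by
            show x * (y * y') * x⁻¹ * (y * y')⁻¹ = (x * y * x⁻¹ * y⁻¹) * (x * y' * x⁻¹ * y'⁻¹)
            rw [show x * (y * y') * x⁻¹ * (y * y')⁻¹ = x * y * x⁻¹ * ((x * y' * x⁻¹ * y'⁻¹) * y⁻¹) by group,
              ← Subgroup.mem_center_iff.1 (hk y') y⁻¹]
            group) }
      rw [Subgroup.mem_center_iff]
      intro y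
      have hy : φ y = 1 := by
        have hle : commutator Γ ≤ φ.ker := by
          rw [commutator_def, Subgroup.commutator_le]
          intro a _ b _
          rw [MonoidHom.mem_ker, map_commutatorElement, commutatorElement_eq_one_iff_mul_comm]
          exact Subtype.ext ((Subgroup.mem_center_iff.1 (φ a).2 _).symm)
        exact hle (hΓ ▸ Subgroup.mem_top y)
      have h2 : x * y * x⁻¹ * y⁻¹ = 1 := congrArg Subtype.val hy
      rw [mul_inv_eq_one, mul_inv_eq_iff_eq_mul] at h2
      exact h2.symm
    have hdvd := Schur.card_dvd_card_multiplier (π.comp σ) (hπs.comp hs) hcen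
    rw [show (π.comp σ).ker ⊓ commutator Γ = (π.comp σ).ker by rw [hΓ, inf_top_eq]] at hdvd
    let r : (π.comp σ).ker →* π.ker := (σ.comp (π.comp σ).ker.subtype).codRestrict _ fun x => x.2
    have hrs : Function.Surjective r := fun k => by
      obtain ⟨x, hx⟩ := hs k
      exact ⟨⟨x, by rw [MonoidHom.mem_ker, MonoidHom.comp_apply, hx]; exact k.2⟩, Subtype.ext hx⟩
    have hrk : Nat.card r.ker = Nat.card σ.ker := Nat.card_congr
      { toFun := fun x => ⟨((x : (π.comp σ).ker) : Γ), congrArg Subtype.val x.2⟩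
        invFun := fun x => ⟨⟨x, by rw [MonoidHom.mem_ker, MonoidHom.comp_apply, show σ x = 1 from x.2, map_one]⟩,
          Subtype.ext x.2⟩
        left_inv := fun _ => rfl
        right_inv := fun _ => rfl }
    rw [Subgroup.card_eq_card_quotient_mul_card_subgroup r.ker,
      Nat.card_congr (QuotientGroup.quotientKerEquivOfSurjective r hrs).toEquiv, hπc, hrk,
      Nat.card_congr f.toEquiv] at hdvd
    haveI : Finite (Schur.Multiplier (alternatingGroup (Fin 6))) := inferInstance
    have := Nat.le_of_dvd Nat.card_pos hdvd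
    have := SchurMult.a6_card_le
    show Nat.card (Schur.Multiplier S) ≤ 3
    omega
  · obtain ⟨X, iX, τ', ht', hd', v, hv⟩ := PermInd.exists_extension SchurMult.a6_cert SchurMult.a6I3_base
      SchurMult.a6I3_cosets SchurMult.a6I3_wits SchurMult.a6I3_words SchurMult.a6I3_span
    let τ : X →* alternatingGroup (Fin 6) := (MulEquiv.subgroupCongr SchurMult.a6_eq).toMonoidHom.comp τ'
    have hτ : τ.ker = τ'.ker := by
      ext x
      simp [τ, MonoidHom.mem_ker]
    have ht : Function.Surjective τ := (MulEquiv.subgroupCongr SchurMult.a6_eq).surjective.comp ht'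
    have hd : τ.ker ≤ Subgroup.center X := hτ.le.trans hd'
    obtain ⟨z', hz'⟩ := hv (Multiplicative.ofAdd ((1 : ZMod 3), (0 : ZMod 1)))
    have hz : (z' : X) ∈ τ.ker ⊓ commutator X := ⟨hτ.ge z'.2.1, z'.2.2⟩
    have ho : 3 ∣ orderOf (z' : X) := by
      rw [Subgroup.orderOf_coe]
      refine Dvd.dvd.trans ?_ (orderOf_map_dvd v z')
      rw [hz', orderOf_ofAdd_eq_addOrderOf, Prod.addOrderOf]
      exact (ZMod.addOrderOf_one 3).symm.dvd.trans (Nat.dvd_lcm_left _ _)
    generalize (z' : X) = z at hz ho
    let Y := Schur.pullback π τ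
    have hs1 : Function.Surjective (Schur.pbFst π τ) := Schur.pbFst_surjective π τ ht
    have hs2 : Function.Surjective (Schur.pbSnd π τ) := Schur.pbSnd_surjective π τ hπs
    have hk1 : (Schur.pbFst π τ).ker ≤ Subgroup.center Y := Schur.ker_pbFst_le_center π τ hd
    have hmap : (commutator Y).map (Schur.pbSnd π τ) = commutator X := by
      rw [commutator_def, Subgroup.map_commutator, Subgroup.map_top_of_surjective _ hs2, ← commutator_def]
    obtain ⟨y, hy, hyz⟩ : z ∈ (commutator Y).map (Schur.pbSnd π τ) := hmap.symm ▸ hz.2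
    have h1 : Schur.pbFst π τ y ∈ π.ker := by
      rw [MonoidHom.mem_ker, Schur.pb_comm, hyz]; exact hz.1
    haveI : Finite π.ker := Nat.finite_of_card_ne_zero (by omega)
    have h2 : Schur.pbFst π τ (y * y) = 1 := by
      let k : π.ker := ⟨Schur.pbFst π τ y, h1⟩
      have h := pow_card_eq_one' (x := k)
      rw [hπc] at h
      have := congrArg Subtype.val h
      simpa [k, pow_two] using this
    have hdiv := SchurMult.exists_orderOf (Schur.pbFst π τ) hs1 hk1
      (show y * y ∈ (Schur.pbFst π τ).ker ⊓ commutator Y from ⟨h2, mul_mem hy hy⟩)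
    refine Dvd.dvd.trans ?_ hdiv
    refine Dvd.dvd.trans ?_ (orderOf_map_dvd (Schur.pbSnd π τ) (y * y))
    rw [map_mul, hyz, ← pow_two, orderOf_pow' _ two_ne_zero]
    obtain ⟨c, hc⟩ := ho
    rw [hc]
    refine Nat.dvd_div_of_mul_dvd ?_
    rw [Nat.mul_comm _ 3]
    exact Nat.mul_dvd_mul_left 3 (Nat.Coprime.dvd_of_dvd_mul_left
      (show Nat.Coprime (Nat.gcd (3 * c) 2) 3 from Nat.Coprime.coprime_dvd_left (Nat.gcd_dvd_right _ _) (by decide))
      (Nat.gcd_dvd_left _ _))

end Cfsg.Agent.S2118
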