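import Cfsg.Statements.S2122
import Cfsg.Agent.Lib.ChevAut.AutTypes
import Cfsg.Agent.S1098

set_option autoImplicit false
set_option maxRecDepth 8000
open Cfsg

namespace Cfsg.Agent.S2122

open Cfsg.Agent.Chev Cfsg.Agent.ChevAut in
/-- the symmetry of F₄ -/
def swap : Equiv.Perm (Fin F4Data.tab.l) :=
  (⟨![3, 2, 1, 0], ![3, 2, 1, 0], by decide, by decide⟩ : Equiv.Perm (Fin 4))

open Cfsg.Agent.Chev Cfsg.Agent.ChevAut in
theorem mem_swap {F : Type*} [Field F] [Finite F] [CharP F 2] : swap ∈ (piHom autOK_F4 F).range := by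
  have hg := autOK_F4.good.toGood
  obtain ⟨α, hα⟩ := S1098.result (K := F) (fun x => (frobeniusEquiv F 2).surjective x)
    (Cfsg.Lie.chevF4, [(3, 2), (2, 2), (1, 1), (0, 1)]) (by simp)
  refine mem_range_of_aut autOK_F4 swap
    (fun i => (([(3, 2), (2, 2), (1, 1), (0, 1)] : List (ℕ × ℕ)).getD (i : ℕ) (0, 1)).2)
    (fun i => ?_) (aut_images hg (α := α) fun x i t => ?_)
  · rw [exC, ringChar.eq F 2]
    revert i; decide +kernel
  · have hρ : (([(3, 2), (2, 2), (1, 1), (0, 1)] : List (ℕ × ℕ)).getD (i : ℕ) (0, 1)).1 = (swap i : ℕ) := by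
      revert i; decide
    have := hα x i t (hg.rank_eq.symm ▸ i.2)
    simp only [hρ] at this
    exact this

/-- Outer automorphisms of the Chevalley groups of type F₄: over a field with q = p^f (p prime) elements, the outer automorphism group of F₄(q) has order gcd(2, p) · f (field automorphisms, and in characteristic 2 also the exceptional graph automorphism). -/
theorem result {F : Type*} [Field F] [Fintype F] (p f : ℕ) [Fact p.Prime] [CharP F p] (hF : Fintype.card F = p ^ f) : Nat.card (Cfsg.Out ↥(Cfsg.Lie.chevF4.group F)) = Nat.gcd 2 p * f := by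
  rw [ChevAut.out_count p f hF ChevAut.autOK_F4 (D := Cfsg.Lie.chevF4) (by simp) rfl
    (show ChevAut.checkCoker Chev.F4Data.tab 0 1 [1, 0, 0, 0]
      [[2, 3, 4, 2], [3, 6, 8, 4], [2, 4, 6, 3], [1, 2, 3, 2]] = true by decide +kernel),
    Nat.gcd_one_left, mul_one]
  congr 1
  have hp : p.Prime := Fact.out
  by_cases h2 : p = 2
  · subst h2
    rw [ChevAut.range_two _ (by decide +kernel) mem_swap (by decide)]
    norm_num
  · rw [(Nat.coprime_primes Nat.prime_two hp).2 (Ne.symm h2)]
    refine ChevAut.range_trivial _ (L := [3, 2, 1, 0]) (by decide +kernel) fun θ hθ => h2 ?_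
    have e1 := congrArg (fun L : List ℕ => L.getD 1 0) hθ
    have e2 := congrArg (fun L : List ℕ => L.getD 2 0) hθ
    refine ChevAut.char_of_flip ChevAut.autOK_F4 θ p (i := (⟨2, by decide⟩ : Fin Chev.F4Data.tab.l))
      (j := (⟨1, by decide⟩ : Fin Chev.F4Data.tab.l)) (Or.inl rfl) (by decide +kernel) ?_ (Or.inl rfl)
    have l1 : (1 : ℕ) < Chev.F4Data.tab.l := by decide
    have l2 : (2 : ℕ) < Chev.F4Data.tab.l := by decide
    simp [ChevAut.permList, List.getD_eq_getElem?_getD, l1, l2] at e1 e2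
    rw [e1, e2]
    decide +kernel

end Cfsg.Agent.S2122
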