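import Cfsg.Statements.S2123
import Cfsg.Agent.Lib.ChevAut.AutTypes
import Cfsg.Agent.S1081

set_option autoImplicit false
set_option maxRecDepth 8000
open Cfsg

namespace Cfsg.Agent.S2123

open Cfsg.Agent.Chev Cfsg.Agent.ChevAut in
/-- the symmetry of E₆ -/
def swap : Equiv.Perm (Fin E6Data.tab.l) :=
  (⟨![5, 1, 4, 3, 2, 0], ![5, 1, 4, 3, 2, 0], by decide, by decide⟩ : Equiv.Perm (Fin 6))

open Cfsg.Agent.Chev Cfsg.Agent.ChevAut in
theorem mem_swap {F : Type*} [Field F] [Finite F] : swap ∈ (piHom autOK_E6 F).range := by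
  have hg := autOK_E6.good.toGood
  obtain ⟨α, hα⟩ := S1081.result (F := F) (Cfsg.Lie.chevE6, [5, 1, 4, 3, 2, 0]) (by simp)
  refine mem_range_of_aut autOK_E6 swap (fun _ => 1) (fun i => ?_) (aut_images hg (α := α) fun x i t => ?_)
  · rw [exC, if_neg]
    simp [expFlag]
  · have hρ : ([5, 1, 4, 3, 2, 0] : List ℕ).getD (i : ℕ) 0 = (swap i : ℕ) := by
      revert i; decide
    have := hα x i t (hg.rank_eq.symm ▸ i.2)
    simp only [hρ] at this
    rw [pow_one]
    exact this

/-- Outer automorphisms of the (adjoint, simple) Chevalley groups of type E₆: over a field with q = p^f (p prime) elements, the outer automorphism group of E₆(q) has order 2 · gcd(3, q − 1) · f (diagonal, field and graph automorphisms). -/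
theorem result {F : Type*} [Field F] [Fintype F] (p f : ℕ) [Fact p.Prime] [CharP F p] (hF : Fintype.card F = p ^ f) : Nat.card (Cfsg.Out ↥(Cfsg.Lie.chevE6.group F)) = 2 * Nat.gcd 3 (p ^ f - 1) * f := by
  rw [ChevAut.out_count p f hF ChevAut.autOK_E6 (D := Cfsg.Lie.chevE6) (by simp) rfl
    (show ChevAut.checkCoker Chev.E6Data.tab 0 3 [1, 0, 2, 0, 1, 2]
      [[4, 3, 5, 6, 4, 2], [1, 2, 2, 3, 2, 1], [-1, 0, 0, 0, 0, 0], [2, 3, 4, 6, 4, 2],
        [0, 1, 1, 2, 2, 1], [-2, -1, -2, -2, -1, 0]] = true by decide +kernel)]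
  rw [ChevAut.range_two _ (by decide +kernel) mem_swap (by decide)]
  ring

end Cfsg.Agent.S2123
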