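import Cfsg.Statements.S2124
import Cfsg.Agent.Lib.ChevAut.AutTypes

set_option autoImplicit false
set_option maxRecDepth 8000
open Cfsg

namespace Cfsg.Agent.S2124

/-- Outer automorphisms of the (adjoint, simple) Chevalley groups of type E₇: over a field with q = p^f (p prime) elements, the outer automorphism group of E₇(q) has order gcd(2, q − 1) · f (diagonal and field automorphisms). -/
theorem result {F : Type*} [Field F] [Fintype F] (p f : ℕ) [Fact p.Prime] [CharP F p] (hF : Fintype.card F = p ^ f) : Nat.card (Cfsg.Out ↥(Cfsg.Lie.chevE7.group F)) = Nat.gcd 2 (p ^ f - 1) * f := by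
  rw [ChevAut.out_count p f hF ChevAut.autOK_E7 (D := Cfsg.Lie.chevE7) (by simp) rfl
    (show ChevAut.checkCoker Chev.E7Data.tab 1 2 [0, 1, 0, 0, 1, 0, 1]
      [[2, 2, 3, 4, 3, 2, 1], [4, 7, 8, 12, 9, 6, 3], [3, 4, 6, 8, 6, 4, 2], [4, 6, 8, 12, 9, 6, 3],
        [1, 1, 2, 3, 3, 2, 1], [2, 3, 4, 6, 5, 4, 2], [-1, -2, -2, -3, -2, -1, 0]] = true by decide +kernel),
    ChevAut.range_one _ (by decide +kernel), one_mul, mul_comm]

end Cfsg.Agent.S2124
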