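import Cfsg.Statements.S2125
import Cfsg.Agent.Lib.ChevAut.AutTypes

set_option autoImplicit false
set_option maxRecDepth 8000
open Cfsg

namespace Cfsg.Agent.S2125

/-- Outer automorphisms of the Chevalley groups of type E₈: over a field with p^f elements, p prime, the outer automorphism group of E₈(p^f) has order f (field automorphisms only). -/
theorem result {F : Type*} [Field F] [Fintype F] (p f : ℕ) [Fact p.Prime] [CharP F p] (hF : Fintype.card F = p ^ f) : Nat.card (Cfsg.Out ↥(Cfsg.Lie.chevE8.group F)) = f := by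
  rw [ChevAut.out_count p f hF ChevAut.autOK_E8 (D := Cfsg.Lie.chevE8) (by simp) rfl
    (show ChevAut.checkCoker Chev.E8Data.tab 0 1 [1, 0, 0, 0, 0, 0, 0, 0]
      [[4, 5, 7, 10, 8, 6, 4, 2], [5, 8, 10, 15, 12, 9, 6, 3], [7, 10, 14, 20, 16, 12, 8, 4],
        [10, 15, 20, 30, 24, 18, 12, 6], [8, 12, 16, 24, 20, 15, 10, 5], [6, 9, 12, 18, 15, 12, 8, 4],
        [4, 6, 8, 12, 10, 8, 6, 3], [2, 3, 4, 6, 5, 4, 3, 2]] = true by decide +kernel),
    ChevAut.range_one _ (by decide +kernel), one_mul, Nat.gcd_one_left, mul_one]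

end Cfsg.Agent.S2125
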