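import Cfsg.Statements.S5394
import Cfsg.Agent.Lib.Golay.Local.FixCounts

set_option autoImplicit false
open Cfsg

namespace Cfsg.Agent.S5394

open Cfsg.Agent.Golay Cfsg.Agent.Golay.Local Cfsg.Agent.PermCert


/-- The automorphism group of the length-24 code built from the squares modulo 23 has exactly two conjugacy classes of involutions: an involution either fixes exactly the eight points of an octad or has no fixed points, both kinds occur, and any two involutions of the same kind are conjugate in the group. -/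
theorem result : (∀ g ∈ Cfsg.M24, orderOf g = 2 → (Finset.univ.filter fun p => g p = p) ∈ Cfsg.octads ∨ ∀ p, g p ≠ p) ∧ (∃ g ∈ Cfsg.M24, orderOf g = 2 ∧ (Finset.univ.filter fun p => g p = p) ∈ Cfsg.octads) ∧ (∃ g ∈ Cfsg.M24, orderOf g = 2 ∧ ∀ p, g p ≠ p) ∧ ∀ g ∈ Cfsg.M24, ∀ h ∈ Cfsg.M24, orderOf g = 2 → orderOf h = 2 → ((∀ p, g p ≠ p) ↔ (∀ p, h p ≠ p)) → ∃ k ∈ Cfsg.M24, k * g * k⁻¹ = h := by
  refine ⟨fun g hg h2 => ?_, ⟨R2A, reps_spec.1.2, orderOf_R2A, facts.1.2.2.2⟩,
    ⟨R2B, reps_spec.2.1.2, orderOf_R2B, facts.2.1.2.2⟩, fun g hg h hh hg2 hh2 hiff => ?_⟩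
  · obtain ⟨k, hk, rfl | rfl⟩ := class2 hg h2
    · left; rw [fixed_conj]; exact smul_mem_octads hk facts.1.2.2.2
    · right; exact free_of_card (by rw [conj_fixed_card, card_fixed_of_free facts.2.1.2.2])
  · by_cases h0 : ∀ p, g p ≠ p
    · obtain ⟨k, hk, rfl⟩ := class2B hg hg2 (card_fixed_of_free h0)
      obtain ⟨l, hl, rfl⟩ := class2B hh hh2 (card_fixed_of_free (hiff.1 h0))
      exact ⟨l * k⁻¹, mul_mem hl (inv_mem hk), by group⟩
    · obtain ⟨k, hk, rfl⟩ := class2A hg hg2 fun e => h0 (free_of_card e)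
      obtain ⟨l, hl, rfl⟩ := class2A hh hh2 fun e => h0 (hiff.2 (free_of_card e))
      exact ⟨l * k⁻¹, mul_mem hl (inv_mem hk), by group⟩

end Cfsg.Agent.S5394
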