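import Cfsg.Statements.S5424
import Cfsg.Agent.Lib.LargeExtra.Transvection
import Mathlib.LinearAlgebra.Matrix.SpecialLinearGroup

set_option autoImplicit false
open Cfsg

namespace Cfsg.Agent.S5424
open Cfsg.Agent.LargeExtra Matrix

local notation "F" => ZMod 2

/-- The special linear group over `F_2` is the general linear group. -/
noncomputable def slEquivGL (k : Type) [Fintype k] [DecidableEq k] :
    Matrix.SpecialLinearGroup k F ≃* GL k F :=
  MulEquiv.ofBijective Matrix.SpecialLinearGroup.toGL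
    ⟨fun a b h => Subtype.ext (congrArg Units.val h), fun g =>
      ⟨⟨(g : Matrix k k F), ((by decide : ∀ a : F, a = 0 ∨ a = 1) _).resolve_left
        (g.isUnit.map Matrix.detMonoidHom).ne_zero⟩, Units.ext rfl⟩⟩

/-- The index equivalence. -/
def idx (n : ℕ) : Tv.I n ≃ Fin (n + 2) := finSumFinEquiv.trans (finCongr (Nat.add_comm 2 n))

/-- The representation. -/
noncomputable def rep (n : ℕ) : Matrix.SpecialLinearGroup (Fin (n + 2)) F ≃* GL (Tv.I n) F :=
  (slEquivGL (Fin (n + 2))).trans (Units.mapEquiv (Matrix.reindexAlgEquiv F F (idx n).symm).toMulEquiv)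

theorem transvection_blk (n : ℕ) : (Matrix.transvection 0 1 1 : Matrix (Fin (n + 2)) (Fin (n + 2)) F).submatrix
    (idx n) (idx n) = Tv.tv n := by
  have h0 : (0 : Fin (n + 2)) = idx n (.inl 0) := Fin.ext rfl
  have h1 : (1 : Fin (n + 2)) = idx n (.inl 1) := Fin.ext rfl
  ext i j
  rw [Matrix.submatrix_apply, Matrix.transvection, Matrix.add_apply, h0, h1, Matrix.single_apply,
    Matrix.one_apply]
  rcases i with i | i <;> rcases j with j | j
  · fin_cases i <;> fin_cases j <;> simp [Tv.blk]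
  · fin_cases i <;> simp [Tv.blk]
  · fin_cases j <;> simp [Tv.blk]
  · simp [Tv.blk, Matrix.one_apply]


/-- Let G be the special linear group of degree n + 2 over the field with two elements, n ≥ 2, let z be a transvection, and let Q be the largest normal 2-subgroup of the centralizer C of z. Then Q is extraspecial of order 2^(2n+1) with an elementary abelian subgroup of order 2^(n+1) (plus type), Q is a large extraspecial 2-subgroup of G, and C is the split extension of Q by the special linear group of degree n over the field with two elements. -/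
theorem result (n : ℕ) (hn : 2 ≤ n) (z : Matrix.SpecialLinearGroup (Fin (n + 2)) (ZMod 2)) (hz : (z : Matrix (Fin (n + 2)) (Fin (n + 2)) (ZMod 2)) = Matrix.transvection 0 1 1) (Q : Subgroup (Matrix.SpecialLinearGroup (Fin (n + 2)) (ZMod 2))) (hQ : Q = (Cfsg.pCore 2 ↥(Subgroup.centralizer ({z} : Set (Matrix.SpecialLinearGroup (Fin (n + 2)) (ZMod 2))))).map (Subgroup.centralizer ({z} : Set (Matrix.SpecialLinearGroup (Fin (n + 2)) (ZMod 2)))).subtype) : Cfsg.IsExtraspecial 2 ↥Q ∧ Nat.card ↥Q = 2 ^ (2 * n + 1) ∧ (∃ E : Subgroup (Matrix.SpecialLinearGroup (Fin (n + 2)) (ZMod 2)), E ≤ Q ∧ Cfsg.IsElementaryAbelian 2 E ∧ Nat.card ↥E = 2 ^ (n + 1)) ∧ Cfsg.IsLargeExtraspecial Q ∧ ∃ K : Subgroup (Matrix.SpecialLinearGroup (Fin (n + 2)) (ZMod 2)), K ≤ Subgroup.centralizer ({z} : Set (Matrix.SpecialLinearGroup (Fin (n + 2)) (ZMod 2))) ∧ Q ⊓ K = ⊥ ∧ Q ⊔ K = Subgroup.centralizer ({z} : Set (Matrix.SpecialLinearGroup (Fin (n + 2)) (ZMod 2))) ∧ Nonempty (↥K ≃* Matrix.SpecialLinearGroup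 (Fin n) (ZMod 2)) := by
  have R : Tv.Rep (rep n).toMonoidHom z :=
    ⟨(rep n).injective, fun g _ => ⟨(rep n).symm g, (rep n).apply_symm_apply g⟩, by
      rw [← transvection_blk, ← hz]; rfl⟩
  subst hQ
  obtain ⟨h1, h2, h3, h4, K, k1, k2, k3, ⟨k4⟩⟩ := Tv.main R (by omega)
  exact ⟨h1, h2, h3, h4, K, k1, k2, k3, ⟨k4.trans (slEquivGL (Fin n)).symm⟩⟩

end Cfsg.Agent.S5424
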