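import Cfsg.Statements.S5423
import Cfsg.Agent.Lib.LargeExtra.Transvection
import Mathlib.LinearAlgebra.Matrix.ToLin
import Mathlib.LinearAlgebra.FiniteDimensional.Basic

set_option autoImplicit false
open Cfsg

namespace Cfsg.Agent.S5423
open Cfsg.Agent.LargeExtra Matrix Subgroup

local notation "F" => ZMod 2

variable {n : ℕ}

/-- Vectors of the normal subgroup. -/
abbrev W (n : ℕ) := Unit ⊕ Fin n → F

/-- The part without the last coordinate. -/
def low (x : Tv.I n → F) : W n := Sum.elim (fun _ => x (.inl 0)) fun i => x (.inr i)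

/-- The affine vector. -/
def up (w : W n) (t : F) : Tv.I n → F := Sum.elim ![w (.inl ()), t] fun i => w (.inr i)

theorem low_up (w : W n) (t : F) : low (up w t) = w := by
  funext j; rcases j with j | j <;> simp [low, up]

theorem up_low (x : Tv.I n → F) : up (low x) (x (.inl 1)) = x := by
  funext j
  rcases j with j | j
  · fin_cases j <;> simp [low, up]
  · simp [low, up]

theorem low_add (x y : Tv.I n → F) : low (x + y) = low x + low y := by
  funext j; rcases j with j | j <;> simp [low]

/-- An elementary abelian group of order `2 ^ (n+1)` with a given non-trivial element in coordinates. -/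
theorem exists_coords {A : Type*} [CommGroup A] [Finite A] (hA : ∀ a : A, a ^ 2 = 1)
    (hc : Nat.card A = 2 ^ (n + 1)) {z : A} (hz : z ≠ 1) :
    ∃ c : Additive A ≃+ W n, c (Additive.ofMul z) = Pi.single (.inl ()) 1 := by
  classical
  letI : Module F (Additive A) := AddCommGroup.zmodModule (n := 2) fun a => hA a.toMul
  haveI : Finite (Additive A) := inferInstanceAs (Finite A)
  haveI : Module.Finite F (Additive A) := Module.Finite.of_finite
  have hli : LinearIndepOn F id ({Additive.ofMul z} : Set (Additive A)) :=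
    (linearIndepOn_singleton_iff F).2 (show Additive.ofMul z ≠ 0 from hz)
  let b := Module.Basis.extend hli
  have hmem : Additive.ofMul z ∈ hli.extend (Set.subset_univ _) :=
    hli.subset_extend _ rfl
  haveI : Fintype (hli.extend (Set.subset_univ ({Additive.ofMul z} : Set (Additive A)))) :=
    Fintype.ofFinite _
  have hcard : Fintype.card (hli.extend (Set.subset_univ ({Additive.ofMul z} : Set (Additive A)))) =
      Fintype.card (Unit ⊕ Fin n) := by
    have h1 := Nat.card_congr b.equivFun.toEquiv
    rw [show Nat.card (Additive A) = Nat.card A from rfl, hc, Nat.card_fun, Nat.card_zmod,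
      Nat.card_eq_fintype_card] at h1
    rw [← Nat.pow_right_injective le_rfl h1]
    simp; omega
  let e0 := Fintype.equivOfCardEq hcard
  let e := e0.trans (Equiv.swap (e0 ⟨_, hmem⟩) (.inl ()))
  have he : e ⟨_, hmem⟩ = .inl () := by simp [e]
  refine ⟨(b.reindex e).equivFun.toAddEquiv, ?_⟩
  have hb : (b.reindex e) (.inl ()) = Additive.ofMul z := by
    rw [Module.Basis.reindex_apply, ← he, Equiv.symm_apply_apply, Module.Basis.extend_apply_self]
  show (b.reindex e).equivFun (Additive.ofMul z) = _
  refine ((congrArg (fun a => (b.reindex e).equivFun a) hb).symm.trans ?_)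
  funext j
  show (b.reindex e).equivFun ((b.reindex e) (.inl ())) j = _
  rw [Module.Basis.equivFun_self, Pi.single_apply]
  congr 1
  exact propext eq_comm

theorem exists_rep {G : Type*} [Group G] [Finite G] (U M : Subgroup G) [U.Normal]
    (hU : Cfsg.IsElementaryAbelian 2 U) (hUcard : Nat.card ↥U = 2 ^ (n + 1)) (hUM : U ⊓ M = ⊥)
    (hUM' : U ⊔ M = ⊤) (hfaith : ∀ m ∈ M, (∀ u ∈ U, m * u * m⁻¹ = u) → m = 1)
    (hfull : ∀ φ : ↥U ≃* ↥U, ∃ m ∈ M, ∀ u : ↥U, ((φ u : ↥U) : G) = m * u * m⁻¹)
    {z : G} (hzU : z ∈ U) (hz : z ≠ 1) :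
    ∃ ι : G →* GL (Tv.I n) F, Tv.Rep ι z := by
  classical
  letI : CommGroup U := { (inferInstance : Group U) with mul_comm := hU.1.is_comm.comm }
  obtain ⟨c, hcz⟩ := exists_coords (A := ↥U) (fun a => Subtype.ext (hU.2 a a.2)) hUcard
    (z := ⟨z, hzU⟩) fun e => hz (congrArg Subtype.val e)
  -- decomposition
  have hex : ∀ g : G, ∃ u : U, ∃ m ∈ M, g = u * m := by
    intro g
    obtain ⟨u, hu, m, hm, e⟩ := Subgroup.mem_sup_of_normal_left.1 (hUM'.symm ▸ mem_top g : g ∈ U ⊔ M)
    exact ⟨⟨u, hu⟩, m, hm, e.symm⟩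
  choose pu pm hpm hdec using hex
  have huniq : ∀ {g : G} {u : U} {m : G}, m ∈ M → g = u * m → pu g = u := by
    intro g u m hm e
    have h := (hdec g).symm.trans e
    have h1 : (u : G)⁻¹ * pu g ∈ U ⊓ M := by
      refine Subgroup.mem_inf.2 ⟨mul_mem (inv_mem u.2) (pu g).2, ?_⟩
      have : (u : G)⁻¹ * pu g = m * (pm g)⁻¹ := by
        rw [eq_mul_inv_iff_mul_eq, mul_assoc, h, inv_mul_cancel_left]
      rw [this]
      exact mul_mem hm (inv_mem (hpm g))
    rw [hUM, mem_bot, inv_mul_eq_one] at h1
    exact Subtype.ext h1.symm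
  -- the linear part
  let cj : G →* MulAut U := MulAut.conjNormal
  let A : G → (W n →+ W n) := fun g =>
    c.toAddMonoidHom.comp ((MonoidHom.toAdditive (cj g).toMonoidHom).comp c.symm.toAddMonoidHom)
  have hA : ∀ g (u : U), A g (c (Additive.ofMul u)) = c (Additive.ofMul (cj g u)) := fun g u => by
    simp [A]
  let L : G → ((Tv.I n → F) →ₗ[F] (Tv.I n → F)) := fun g => AddMonoidHom.toZModLinearMap 2 <|
    AddMonoidHom.mk' (fun x => up (A g (low x) + x (.inl 1) • c (Additive.ofMul (pu g))) (x (.inl 1)))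
      fun x y => by
        funext j
        rw [low_add, map_add, Pi.add_apply, add_smul]
        rcases j with j | j
        · fin_cases j <;> simp [up]; ring
        · simp [up]; ring
  have hL : ∀ g x, L g x = up (A g (low x) + x (.inl 1) • c (Additive.ofMul (pu g))) (x (.inl 1)) :=
    fun g x => rfl
  have hA1 : ∀ v, A 1 v = v := fun v => by simp [A]
  have hAm : ∀ g h v, A (g * h) v = A g (A h v) := fun g h v => by simp [A]
  have hp1 : pu 1 = 1 := huniq (one_mem M) (by simp)
  have hpm' : ∀ g h, pu (g * h) = pu g * cj g (pu h) := fun g h => by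
    refine huniq (mul_mem (hpm g) (hpm h)) ?_
    have hc' : (cj g (pu h) : G) = pm g * pu h * (pm g)⁻¹ := by
      have h0 : (cj g (pu h) : G) = g * pu h * g⁻¹ := MulAut.conjNormal_apply _ _
      rw [h0, show g * (pu h : G) * g⁻¹ = (pu g : G) * pm g * pu h * ((pu g : G) * pm g)⁻¹ by rw [← hdec g]]
      have := congrArg Subtype.val (hU.1.is_comm.comm (pu g) ⟨_, (inferInstance : U.Normal).conj_mem _ (pu h).2 (pm g)⟩)
      simp only [coe_mul] at this
      calc (pu g : G) * pm g * pu h * ((pu g : G) * pm g)⁻¹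
          = (pu g : G) * (pm g * pu h * (pm g)⁻¹) * (pu g : G)⁻¹ := by group
        _ = _ := by rw [this]; group
    rw [coe_mul, hc']
    conv_lhs => rw [hdec g, hdec h]
    group
  let Mat : G →* Matrix (Tv.I n) (Tv.I n) F :=
    { toFun := fun g => LinearMap.toMatrixAlgEquiv' (L g)
      map_one' := by
        rw [show L 1 = LinearMap.id from LinearMap.ext fun x => by
          rw [hL, hA1, hp1, ofMul_one, map_zero, smul_zero, add_zero, up_low]; rfl]
        exact map_one _
      map_mul' := fun g h => by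
        rw [← map_mul]
        refine congrArg _ (LinearMap.ext fun x => ?_)
        rw [Module.End.mul_apply, hL, hL h, hL g, low_up, show up _ (x (.inl 1)) (.inl 1) = x (.inl 1) from rfl,
          hAm, hpm', ofMul_mul, map_add, ← hA, smul_add, map_add]
        congr 1
        rcases (by decide : ∀ a : F, a = 0 ∨ a = 1) (x (.inl 1)) with e | e <;> rw [e] <;>
          simp only [zero_smul, one_smul, map_zero] <;> abel }
  have hmv : ∀ g x, Mat g *ᵥ x = L g x := fun g x => by
    show LinearMap.toMatrixAlgEquiv' (L g) *ᵥ x = _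
    rw [← Matrix.toLinAlgEquiv'_apply, Matrix.toLinAlgEquiv'_toMatrixAlgEquiv']
  refine ⟨Mat.toHomUnits, ⟨?_, ?_, ?_⟩⟩
  · refine (injective_iff_map_eq_one _).2 fun g hg => ?_
    have h1 : ∀ x, L g x = x := fun x => by
      rw [← hmv, show Mat g = 1 from congrArg Units.val hg, one_mulVec]
    have hb : pu g = 1 := by
      have := congrArg low (h1 (up 0 1))
      rw [hL, low_up, low_up, map_zero, zero_add, show up (0 : W n) 1 (.inl 1) = 1 from rfl, one_smul] at this
      exact Additive.ofMul.injective (c.injective (this.trans (map_zero c).symm))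
    have hm : pm g = g := by
      have := hdec g
      rwa [hb, coe_one, one_mul, eq_comm] at this
    refine hfaith g (hm ▸ hpm g) fun u hu => ?_
    have := congrArg low (h1 (up (c (Additive.ofMul ⟨u, hu⟩)) 0))
    rw [hL, low_up, low_up, show up _ (0 : F) (.inl 1) = 0 from rfl, zero_smul, add_zero, hA] at this
    have h2 := congrArg Subtype.val (Additive.ofMul.injective (c.injective this))
    rwa [show ((cj g ⟨u, hu⟩ : U) : G) = g * u * g⁻¹ from MulAut.conjNormal_apply _ _] at h2
  · intro g hg
    set N := (g : Matrix (Tv.I n) (Tv.I n) F)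
    have hlast : ∀ x, (N *ᵥ x) (.inl 1) = x (.inl 1) := fun x => by
      show ∑ j, N (.inl 1) j * x j = _
      simp only [hg, ite_mul, one_mul, zero_mul, Finset.sum_ite_eq', Finset.mem_univ, if_true]
    -- the automorphism
    let f : W n →+ W n := AddMonoidHom.mk' (fun w => low (N *ᵥ up w 0)) fun v w => by
      rw [← low_add, ← Matrix.mulVec_add]
      congr 2
      funext j
      rcases j with j | j
      · fin_cases j <;> simp [up]
      · simp [up]
    have hf : Function.Injective f := by
      intro v w e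
      have : N *ᵥ up v 0 = N *ᵥ up w 0 := by
        rw [← up_low (N *ᵥ up v 0), ← up_low (N *ᵥ up w 0), hlast, hlast]
        exact congrArg (fun t => up t (0 : F)) e
      have h2 := congrArg (fun x => ((g⁻¹ : GL (Tv.I n) F) : Matrix (Tv.I n) (Tv.I n) F) *ᵥ x) this
      simp only [N, Matrix.mulVec_mulVec, ← Units.val_mul, inv_mul_cancel, Units.val_one, one_mulVec] at h2
      rw [← low_up v 0, ← low_up w 0, h2]
    let φ : U ≃* U := MulEquiv.ofBijective
      (AddMonoidHom.toMultiplicative ((c.symm.toAddMonoidHom.comp f).comp c.toAddMonoidHom) : U →* U)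
      (Finite.injective_iff_bijective.1 fun a b e => Additive.ofMul.injective (c.injective (hf
        (c.symm.injective (Additive.toMul.injective e)))))
    obtain ⟨m, hm, hφ⟩ := hfull φ
    obtain ⟨u, hu⟩ : ∃ u : U, c (Additive.ofMul u) = low (N *ᵥ up 0 1) :=
      ⟨(c.symm (low (N *ᵥ up 0 1))).toMul, by simp⟩
    refine ⟨(u : G) * m, Units.ext (Matrix.ext_of_mulVec_single fun i => ?_)⟩
    show Mat ((u : G) * m) *ᵥ _ = N *ᵥ _
    generalize (Pi.single i 1 : Tv.I n → F) = x
    rw [hmv, hL, huniq hm rfl, hu]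
    have hAeq : ∀ v, A ((u : G) * m) v = f v := fun v => by
      obtain ⟨a, rfl⟩ := c.surjective v
      rw [show a = Additive.ofMul a.toMul from rfl, hA]
      have h1 : cj ((u : G) * m) a.toMul = φ a.toMul := by
        refine Subtype.ext ?_
        rw [show (cj ((u : G) * m) a.toMul : G) = (u : G) * m * (a.toMul : G) * ((u : G) * m)⁻¹ from
          MulAut.conjNormal_apply _ _]
        have h2 := congrArg Subtype.val (hU.1.is_comm.comm u (φ a.toMul))
        simp only [coe_mul] at h2
        calc (u : G) * m * (a.toMul : G) * ((u : G) * m)⁻¹ = (u : G) * (m * (a.toMul : G) * m⁻¹) * (u : G)⁻¹ := by group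
          _ = _ := by rw [← hφ, h2]; group
      rw [h1]
      exact c.apply_symm_apply _
    rw [hAeq, ← up_low (N *ᵥ x), hlast]
    congr 1
    have hx : x = up (low x) 0 + x (.inl 1) • up 0 1 := by
      funext j
      rcases j with j | j
      · fin_cases j <;> simp [low, up]
      · simp [low, up]
    conv_rhs => rw [hx, Matrix.mulVec_add, Matrix.mulVec_smul, low_add]
    congr 1
    funext j
    rcases j with j | j <;> simp [low]
  · refine Matrix.ext_of_mulVec_single fun i => ?_
    show Mat z *ᵥ _ = _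
    generalize (Pi.single i 1 : Tv.I n → F) = x
    have hpz : pu z = ⟨z, hzU⟩ := huniq (one_mem M) (mul_one z).symm
    have hAz : ∀ v, A z v = v := fun v => by
      obtain ⟨a, rfl⟩ := c.surjective v
      rw [show a = Additive.ofMul a.toMul from rfl, hA]
      congr 2
      refine Subtype.ext ?_
      rw [show (cj z a.toMul : G) = z * (a.toMul : G) * z⁻¹ from MulAut.conjNormal_apply _ _,
        show z * (a.toMul : G) = (a.toMul : G) * z from congrArg Subtype.val (hU.1.is_comm.comm ⟨z, hzU⟩ a.toMul),
        mul_inv_cancel_right]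
    rw [hmv, hL, hAz, hpz, hcz]
    funext j
    rcases j with j | j
    · fin_cases j <;> simp [up, low, Tv.blk, mulVec, dotProduct, Matrix.one_apply, Fintype.sum_sum_type,
        Fin.sum_univ_two, add_comm]
    · simp [up, low, Tv.blk, mulVec, dotProduct, Matrix.one_apply, Fintype.sum_sum_type, Fin.sum_univ_two]


/-- Let G be a finite group that is the split extension of an elementary abelian normal subgroup U of order 2^(n+1), n ≥ 1, by its full automorphism group: U has a complement M in G whose conjugation action on U is faithful and realizes every automorphism of U. Let Z be a subgroup of U of order 2 and Q the largest normal 2-subgroup of the centralizer C of Z. Then Q is extraspecial of order 2^(2n+1) with an elementary abelian subgroup of order 2^(n+1) (plus type), Q is a large extraspecial 2-subgroup of G, and C is the split extension of Q by the general linear group of degree n over the field with two elements. -/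
theorem result {G : Type*} [Group G] [Finite G] (n : ℕ) (hn : 1 ≤ n) (U M : Subgroup G) [U.Normal] (hU : Cfsg.IsElementaryAbelian 2 U) (hUcard : Nat.card ↥U = 2 ^ (n + 1)) (hUM : U ⊓ M = ⊥) (hUM' : U ⊔ M = ⊤) (hfaith : ∀ m ∈ M, (∀ u ∈ U, m * u * m⁻¹ = u) → m = 1) (hfull : ∀ φ : ↥U ≃* ↥U, ∃ m ∈ M, ∀ u : ↥U, ((φ u : ↥U) : G) = m * u * m⁻¹) (Z : Subgroup G) (hZU : Z ≤ U) (hZ : Nat.card ↥Z = 2) (Q : Subgroup G) (hQ : Q = (Cfsg.pCore 2 ↥(Subgroup.centralizer (Z : Set G))).map (Subgroup.centralizer (Z : Set G)).subtype) : Cfsg.IsExtraspecial 2 ↥Q ∧ Nat.card ↥Q = 2 ^ (2 * n + 1) ∧ (∃ E : Subgroup G, E ≤ Q ∧ Cfsg.IsElementaryAbelian 2 E ∧ Nat.card ↥E = 2 ^ (n + 1)) ∧ Cfsg.IsLargeExtraspecial Q ∧ ∃ K : Subgroup G, K ≤ Subgroup.centralizer (Z : Set G) ∧ Q ⊓ K = ⊥ ∧ Q ⊔ K = Subgroup.centralizer (Z : Set G) ∧ Nonempty (↥K ≃* Matrix.GeneralLinearGroup (Fin n) (ZMod 2)) := by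
  obtain ⟨⟨z, hzZ⟩, hz1, -⟩ := (Nat.card_eq_two_iff' (1 : Z)).1 hZ
  have hz1' : z ≠ 1 := fun e => hz1 (Subtype.ext e)
  have hz2 : orderOf z = 2 := by
    have h := orderOf_dvd_natCard (⟨z, hzZ⟩ : Z)
    rw [hZ, ← Subgroup.orderOf_coe] at h
    exact ((Nat.dvd_prime Nat.prime_two).1 h).resolve_left (fun e => hz1' (orderOf_eq_one_iff.1 e))
  have hZz : Z = Subgroup.zpowers z :=
    (Subgroup.eq_of_le_of_card_ge (Subgroup.zpowers_le.2 hzZ) (by rw [hZ, Nat.card_zpowers, hz2])).symm
  obtain ⟨ι, R⟩ := exists_rep U M hU hUcard hUM hUM' hfaith hfull (hZU hzZ) hz1'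
  subst hZz
  rw [centralizer_zpowers] at hQ ⊢
  subst hQ
  exact Tv.main R hn

end Cfsg.Agent.S5423
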