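import Cfsg.Statements.S5425
import Cfsg.Agent.Lib.LargeExtra.TransvectionLocal
import Cfsg.Agent.S5423
import Cfsg.Agent.S5424
import Cfsg.Agent.Lib.Golay.Constrained
import Cfsg.Agent.Lib.Golay.OctadStab
import Mathlib.LinearAlgebra.Matrix.GeneralLinearGroup.Card

set_option autoImplicit false
open Cfsg

namespace Cfsg.Agent.S5425
open Cfsg.Agent Cfsg.Agent.Golay Cfsg.Agent.PermCert Cfsg.Agent.LargeExtra
open scoped Pointwise

local notation "Pm" => Equiv.Perm Cfsg.GolayPt
local notation "F" => ZMod 2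

theorem smul_fixOct {o : Finset GolayPt} {g : Pm} (hg : g ∈ stOct o) {x : Pm} (hx : x ∈ fixOct o) :
    g * x * g⁻¹ ∈ fixOct o := by
  have h := fixOct_map (mem_stOct.1 hg).1 (mem_stOct.1 hg).2
  exact h.le ⟨x, hx, rfl⟩

theorem fixOct_le (o : Finset GolayPt) : fixOct o ≤ stOct o := fun _ hx =>
  mem_stOct.2 ⟨(mem_fixOct.1 hx).1, smul_eq_self_of_fix (mem_fixOct.1 hx).2⟩

theorem card_mulAut_le {U : Type*} [CommGroup U] [Finite U] (h2 : ∀ a : U, a ^ 2 = 1)
    (hc : Nat.card U = 2 ^ (3 + 1)) {z : U} (hz : z ≠ 1) : Nat.card (MulAut U) ≤ 20160 := by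
  classical
  obtain ⟨c, -⟩ := S5423.exists_coords h2 hc hz
  let Φ : MulAut U → GL (Unit ⊕ Fin 3) F := fun φ => Matrix.GeneralLinearGroup.toLin.symm
    (LinearMap.GeneralLinearGroup.ofLinearEquiv
      (AddEquiv.toLinearEquiv ((c.symm.trans (MulEquiv.toAdditive φ)).trans c) fun a x =>
        ZMod.map_smul ((c.symm.trans (MulEquiv.toAdditive φ)).trans c).toAddMonoidHom a x))
  refine le_trans (Nat.card_le_card_of_injective Φ fun φ ψ h => ?_) (le_of_eq ?_)
  · have h' := Units.ext_iff.1 (Matrix.GeneralLinearGroup.toLin.symm.injective h)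
    refine MulEquiv.ext fun u => ?_
    have h2 := LinearMap.congr_fun h' (c (Additive.ofMul u))
    simpa [LinearMap.GeneralLinearGroup.ofLinearEquiv, AddEquiv.toLinearEquiv] using h2
  · rw [← Nat.card_congr (Units.mapEquiv (Matrix.reindexAlgEquiv F F (finSumFinEquiv.symm.trans
      (Equiv.sumCongr finOneEquiv (Equiv.refl (Fin 3))))).toMulEquiv).toEquiv, Matrix.card_GL_field]
    simp [Fin.prod_univ_succ]

theorem faithful {o : Finset GolayPt} (ho : o ∈ octads) {m : Pm} (hm : m ∈ M24)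
    (hc : ∀ e ∈ fixOct o, Commute m e) : m ∈ fixOct o := by
  have hA : maskSet SB.octA ∈ octads :=
    mem_octads.2 ⟨SB.octA, memB_spec (show memB SB.octA octadList = true by decide +kernel), rfl⟩
  obtain ⟨g, hg, h⟩ := exists_M24_octad hA ho
  have hI := SB.isCore_zA.conj hg
  have hmap : SB.coreA.map (MulAut.conj g).toMonoidHom = fixOct o := by
    rw [← fixOct_map hg h]
    congr 1
    ext σ
    rw [mem_fixOct]
    exact and_congr_right fun _ => forall_congr' fun q => imp_congr mem_maskSet.symm Iff.rfl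
  rw [← hmap]
  refine hI.cent m hm ?_ fun e he => hc e (hmap.le he)
  have hz : permOf SB.zA ∈ SB.coreA := by
    have hv := SB.valid_zA
    exact ⟨permOf_mem_M24 hv (by decide +kernel), fun q hq => (SB.zA_fix_iff q).2 hq⟩
  exact hc _ (hmap.le ⟨_, hz, rfl⟩)

theorem exists_rep_octad {o : Finset GolayPt} (ho : o ∈ octads) (z : ↥((stOct o).subgroupOf M24))
    (hz : ((z : ↥M24) : Pm) ∈ fixOct o) (hz1 : z ≠ 1) :
    ∃ ι : ↥((stOct o).subgroupOf M24) →* GL (Tv.I 3) F, Tv.Rep ι z := by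
  classical
  let f : ↥((stOct o).subgroupOf M24) →* Pm := M24.subtype.comp ((stOct o).subgroupOf M24).subtype
  have hf : Function.Injective f := fun a b h => Subtype.ext (Subtype.ext h)
  have hst : ∀ g : ↥((stOct o).subgroupOf M24), f g ∈ stOct o := fun g => g.2
  have hrange : ∀ x ∈ stOct o, ∃ g : ↥((stOct o).subgroupOf M24), f g = x := fun x hx =>
    ⟨⟨⟨x, (mem_stOct.1 hx).1⟩, hx⟩, rfl⟩
  let U : Subgroup ↥((stOct o).subgroupOf M24) := (fixOct o).comap f
  haveI : U.Normal := ⟨fun u hu g => by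
    show f (g * u * g⁻¹) ∈ fixOct o
    rw [map_mul, map_mul, map_inv]
    exact smul_fixOct (hst g) hu⟩
  have hUc : Nat.card U = 16 := by
    rw [← card_fixOct ho]
    refine Nat.card_eq_of_bijective (fun u : U => (⟨f u, u.2⟩ : fixOct o))
      ⟨fun a b h => Subtype.ext (hf (congrArg (fun x : ↥(fixOct o) => (x : Pm)) h)), fun x => ?_⟩
    obtain ⟨g, hg⟩ := hrange x (fixOct_le o x.2)
    exact ⟨⟨g, show f g ∈ fixOct o from hg ▸ x.2⟩, Subtype.ext hg⟩
  have hUab : Cfsg.IsElementaryAbelian 2 U := by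
    have hsq : ∀ u ∈ U, u ^ 2 = 1 := fun u hu => hf (by
      rw [map_pow, map_one, pow_two]; exact sq_fixOct ho hu)
    refine ⟨⟨⟨fun a b => ?_⟩⟩, hsq⟩
    have e : ∀ u : U, u⁻¹ = u := fun u => inv_eq_of_mul_eq_one_right (Subtype.ext (by
      have := hsq u u.2
      rwa [pow_two] at this))
    have := e (a * b)
    rw [_root_.mul_inv_rev, e a, e b] at this
    exact this.symm
  obtain ⟨a, ha⟩ : ∃ a, a ∉ o := by
    by_contra h
    push Not at h
    have := congrArg Finset.card (Finset.eq_univ_iff_forall.2 h)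
    rw [card_octad ho] at this
    simp [GolayPt] at this
  let M : Subgroup ↥((stOct o).subgroupOf M24) := (MulAction.stabilizer Pm a).comap f
  have hUM : U ⊓ M = ⊥ := (Subgroup.eq_bot_iff_forall _).2 fun g ⟨hgU, hgM⟩ =>
    hf ((fixOct_inj ho ha hgU hgM).trans (map_one f).symm)
  have hdec : ∀ g : ↥((stOct o).subgroupOf M24), ∃ u ∈ U, u⁻¹ * g ∈ M := by
    intro g
    obtain ⟨n, hn, hna⟩ := fixOct_transitive ho ha
      (b := f g a) (fun e => ha ((stOct_mem_iff ⟨f g, hst g⟩ a).1 e))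
    obtain ⟨u, rfl⟩ := hrange n (fixOct_le o hn)
    refine ⟨u, hn, ?_⟩
    show f (u⁻¹ * g) • a = a
    rw [map_mul, map_inv, mul_smul, inv_smul_eq_iff]
    exact hna.symm
  have hUM' : U ⊔ M = ⊤ := by
    refine eq_top_iff.2 fun g _ => ?_
    obtain ⟨u, hu, hm⟩ := hdec g
    have := Subgroup.mul_mem_sup hu hm
    rwa [mul_inv_cancel_left] at this
  have hfaith : ∀ m ∈ M, (∀ u ∈ U, m * u * m⁻¹ = u) → m = 1 := by
    intro m hm hcomm
    have hmU : m ∈ U := by
      refine faithful ho (m : ↥M24).2 fun e he => ?_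
      obtain ⟨u, rfl⟩ := hrange e (fixOct_le o he)
      exact (show Commute m u from mul_inv_eq_iff_eq_mul.1 (hcomm u he)).map f
    have : m ∈ U ⊓ M := ⟨hmU, hm⟩
    rwa [hUM] at this
  let θ : M →* MulAut U := (MulAut.conjNormal (H := U)).comp M.subtype
  have hθ : Function.Injective θ := by
    refine (injective_iff_map_eq_one θ).2 fun m hm => Subtype.ext (hfaith m m.2 fun u hu => ?_)
    exact congrArg Subtype.val (DFunLike.congr_fun hm ⟨u, hu⟩)
  have hMc : 20160 ≤ Nat.card M := by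
    have hcompl : Subgroup.IsComplement' U M := Subgroup.isComplement'_of_disjoint_and_mul_eq_univ
      (disjoint_iff.2 hUM) (by rw [← Subgroup.normal_mul, hUM', Subgroup.coe_top])
    have hG : Nat.card ↥((stOct o).subgroupOf M24) = 322560 := by
      rw [← card_stOct ho]
      exact Nat.card_congr (Subgroup.subgroupOfEquivOfLe inf_le_left).toEquiv
    have := hcompl.card_mul
    rw [hUc, hG] at this
    omega
  letI : CommGroup U := { (inferInstance : Group U) with mul_comm := hUab.1.is_comm.comm }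
  have hzU : z ∈ U := hz
  haveI : Finite (MulAut U) := Finite.of_injective (fun e => (e : U → U)) DFunLike.coe_injective
  have hA := card_mulAut_le (U := U) (fun u => Subtype.ext (hUab.2 u u.2)) hUc (z := ⟨z, hzU⟩)
    (fun e => hz1 (congrArg Subtype.val e))
  haveI : Fintype M := Fintype.ofFinite _
  haveI : Fintype (MulAut U) := Fintype.ofFinite _
  have hsur : Function.Surjective θ := by
    refine ((Fintype.bijective_iff_injective_and_card θ).2 ⟨hθ, ?_⟩).2
    rw [← Nat.card_eq_fintype_card, ← Nat.card_eq_fintype_card]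
    exact le_antisymm (Nat.card_le_card_of_injective θ hθ) (hA.trans hMc)
  refine S5423.exists_rep U M hUab hUc hUM hUM' hfaith (fun φ => ?_) hzU hz1
  obtain ⟨m, rfl⟩ := hsur φ
  exact ⟨m, m.2, fun u => rfl⟩


/-- In the Mathieu group of degree 24 (the automorphism group of the length-24 binary Golay code, acting on the 24 coordinates), let z be an involution whose fixed points form an octad (the support of a code word of weight 8), and let Q be the largest normal 2-subgroup of the centralizer C of z. Then Q is extraspecial of order 2^7 with an elementary abelian subgroup of order 16 (plus type), Q is a large extraspecial 2-subgroup, and C is the split extension of Q by the special linear group of degree 3 over the field with two elements. -/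
theorem result (z : ↥Cfsg.M24) (hz : orderOf z = 2) (hfix : (Finset.univ.filter fun p : Cfsg.GolayPt => (z : Equiv.Perm Cfsg.GolayPt) p = p) ∈ Cfsg.octads) (Q : Subgroup ↥Cfsg.M24) (hQ : Q = (Cfsg.pCore 2 ↥(Subgroup.centralizer ({z} : Set ↥Cfsg.M24))).map (Subgroup.centralizer ({z} : Set ↥Cfsg.M24)).subtype) : Cfsg.IsExtraspecial 2 ↥Q ∧ Nat.card ↥Q = 2 ^ 7 ∧ (∃ E : Subgroup ↥Cfsg.M24, E ≤ Q ∧ Cfsg.IsElementaryAbelian 2 E ∧ Nat.card ↥E = 2 ^ 4) ∧ Cfsg.IsLargeExtraspecial Q ∧ ∃ K : Subgroup ↥Cfsg.M24, K ≤ Subgroup.centralizer ({z} : Set ↥Cfsg.M24) ∧ Q ⊓ K = ⊥ ∧ Q ⊔ K = Subgroup.centralizer ({z} : Set ↥Cfsg.M24) ∧ Nonempty (↥K ≃* Matrix.SpecialLinearGroup (Fin 3) (ZMod 2)) := by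
  set o := Finset.univ.filter fun p : Cfsg.GolayPt => (z : Equiv.Perm Cfsg.GolayPt) p = p with hoo
  have hzo : (z : Equiv.Perm Cfsg.GolayPt) ∈ fixOct o :=
    mem_fixOct.2 ⟨z.2, fun p hp => (Finset.mem_filter.1 hp).2⟩
  have hzG : z ∈ (stOct o).subgroupOf M24 := fixOct_le o hzo
  have hC : Subgroup.centralizer ({z} : Set ↥M24) ≤ (stOct o).subgroupOf M24 := by
    intro c hc
    have hc' := congrArg Subtype.val (Subgroup.mem_centralizer_singleton_iff.1 hc)
    refine mem_stOct.2 ⟨c.2, ?_⟩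
    refine Finset.eq_of_subset_of_card_le (fun q hq => ?_) (by rw [Finset.card_smul_finset])
    obtain ⟨p, hp, rfl⟩ := Finset.mem_smul_finset.1 hq
    refine Finset.mem_filter.2 ⟨Finset.mem_univ _, ?_⟩
    have := congrArg (fun σ : Equiv.Perm Cfsg.GolayPt => σ p) hc'
    simp only [Subgroup.coe_mul, Equiv.Perm.mul_apply, (Finset.mem_filter.1 hp).2] at this
    exact this.symm
  obtain ⟨ι, R⟩ := exists_rep_octad hfix ⟨z, hzG⟩ hzo fun e => by
    rw [show z = 1 from congrArg Subtype.val e, orderOf_one] at hz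
    omega
  subst hQ
  obtain ⟨h1, h2, h3, h4, K, k1, k2, k3, ⟨k4⟩⟩ := Tv.main_of_le (n := 3) (by omega) hzG hC R
  exact ⟨h1, h2, h3, h4, K, k1, k2, k3, ⟨k4.trans (S5424.slEquivGL (Fin 3)).symm⟩⟩

end Cfsg.Agent.S5425
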