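import Cfsg.Statements.S2133
import Cfsg.Agent.S5425
import Cfsg.Agent.S5394
import Cfsg.Agent.S5424
-- import your own Cfsg.Agent.* helpers here

set_option autoImplicit false
open Cfsg

namespace Cfsg.Agent.S2133
open Cfsg.Agent Cfsg.Agent.Golay Cfsg.Agent.LargeExtra
open scoped Pointwise

/-- Centralizers in two groups with transvection representations are isomorphic. -/
theorem centEquiv {n : ℕ} {G G' : Type*} [Group G] [Finite G] [Group G'] [Finite G'] {H : Subgroup G} {z : G}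
    {hzH : z ∈ H} {ι : H →* GL (Tv.I n) (ZMod 2)} {z' : G'} {ι' : G' ≃* GL (Tv.I n) (ZMod 2)}
    (R : Tv.Rep ι ⟨z, hzH⟩) (R' : Tv.Rep ι'.toMonoidHom z') (hmz : ι ⟨z, hzH⟩ = ι' z')
    (hC : Subgroup.centralizer ({z} : Set G) ≤ H) :
    Nonempty (↥(Subgroup.centralizer ({z} : Set G)) ≃* ↥(Subgroup.centralizer ({z'} : Set G'))) := by
  let φ : ↥(Subgroup.centralizer ({z} : Set G)) →* G' :=
    (ι'.symm.toMonoidHom.comp ι).comp (Subgroup.inclusion hC)
  have hι : ∀ g : ↥(Subgroup.centralizer ({z} : Set G)), ι' (φ g) = ι (Subgroup.inclusion hC g) :=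
    fun g => ι'.apply_symm_apply _
  have hm : ∀ g : ↥(Subgroup.centralizer ({z} : Set G)), φ g ∈ Subgroup.centralizer ({z'} : Set G') := by
    intro g
    rw [Subgroup.mem_centralizer_singleton_iff]
    apply ι'.injective
    rw [map_mul, map_mul, hι, ← hmz, ← map_mul, ← map_mul]
    exact congrArg ι (Subtype.ext (Subgroup.mem_centralizer_singleton_iff.1 g.2))
  refine ⟨MulEquiv.ofBijective (φ.codRestrict _ hm) ⟨fun a b h => ?_, fun x => ?_⟩⟩
  · have h' := congrArg (fun y => ι' (Subtype.val y)) h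
    simp only [MonoidHom.codRestrict_apply, hι] at h'
    exact Subgroup.inclusion_injective hC (R.inj h')
  · obtain ⟨h, hh⟩ := R.range (ι' x) fun j => by
      show Tv.mat ι'.toMonoidHom (x : G') (.inl 1) j = _
      rw [R'.eq_blk x.2]
      rcases j with j | j
      · fin_cases j <;> simp [Tv.blk]
      · simp [Tv.blk]
    have hhz : (h : G) ∈ Subgroup.centralizer ({z} : Set G) := by
      rw [Subgroup.mem_centralizer_singleton_iff]
      refine congrArg Subtype.val (R.inj (a₁ := h * ⟨z, hzH⟩) (a₂ := ⟨z, hzH⟩ * h) ?_)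
      rw [map_mul, map_mul, hh, hmz, ← map_mul, ← map_mul]
      exact congrArg ι' (Subgroup.mem_centralizer_singleton_iff.1 x.2)
    refine ⟨⟨h, hhz⟩, Subtype.ext (ι'.injective ?_)⟩
    rw [MonoidHom.codRestrict_apply, hι]
    exact (congrArg ι (Subtype.ext rfl)).trans hh

/-- The Mathieu group M₂₄ (the automorphism group of the length-24 binary code) has an involution whose centraliser is isomorphic to the centraliser of a transvection in SL(5, 2) (a group of shape 2^{1+6}:GL(3, 2)). -/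
theorem result (s : Matrix.SpecialLinearGroup (Fin 5) (ZMod 2)) (hs : (s : Matrix (Fin 5) (Fin 5) (ZMod 2)) = Matrix.transvection 0 1 1) : ∃ z : ↥Cfsg.M24, orderOf z = 2 ∧ Nonempty (↥(Subgroup.centralizer ({z} : Set ↥Cfsg.M24)) ≃* ↥(Subgroup.centralizer ({s} : Set (Matrix.SpecialLinearGroup (Fin 5) (ZMod 2))))) := by
  classical
  obtain ⟨g, hg, hg2, hfix⟩ : ∃ g ∈ Cfsg.M24, orderOf g = 2 ∧
      (Finset.univ.filter fun p => g p = p) ∈ Cfsg.octads := S5394.result.2.1
  have hz : orderOf (⟨g, hg⟩ : ↥Cfsg.M24) = 2 := by rwa [← Subgroup.orderOf_coe]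
  refine ⟨⟨g, hg⟩, hz, ?_⟩
  set z : ↥Cfsg.M24 := ⟨g, hg⟩ with hzdef
  set o := Finset.univ.filter fun p : Cfsg.GolayPt => (z : Equiv.Perm Cfsg.GolayPt) p = p with hoo
  have hzo : (z : Equiv.Perm Cfsg.GolayPt) ∈ fixOct o :=
    mem_fixOct.2 ⟨z.2, fun p hp => (Finset.mem_filter.1 hp).2⟩
  have hzG : z ∈ (stOct o).subgroupOf M24 := S5425.fixOct_le o hzo
  have hC : Subgroup.centralizer ({z} : Set ↥M24) ≤ (stOct o).subgroupOf M24 := by
    intro c hc
    have hc' := congrArg Subtype.val (Subgroup.mem_centralizer_singleton_iff.1 hc)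
    refine mem_stOct.2 ⟨c.2, ?_⟩
    refine Finset.eq_of_subset_of_card_le (fun q hq => ?_) (by rw [Finset.card_smul_finset])
    obtain ⟨p, hp, rfl⟩ := Finset.mem_smul_finset.1 hq
    refine Finset.mem_filter.2 ⟨Finset.mem_univ _, ?_⟩
    have := congrArg (fun σ : Equiv.Perm Cfsg.GolayPt => σ p) hc'
    simp only [Subgroup.coe_mul, Equiv.Perm.mul_apply, (Finset.mem_filter.1 hp).2] at this
    exact this.symm
  obtain ⟨ι, R⟩ := S5425.exists_rep_octad hfix ⟨z, hzG⟩ hzo fun e => by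
    rw [show z = 1 from congrArg Subtype.val e, orderOf_one] at hz
    omega
  have R' : Tv.Rep (S5424.rep 3).toMonoidHom s :=
    ⟨(S5424.rep 3).injective, fun g _ => ⟨(S5424.rep 3).symm g, (S5424.rep 3).apply_symm_apply g⟩, by
      rw [← S5424.transvection_blk, ← hs]; rfl⟩
  have hmz : ι ⟨z, hzG⟩ = S5424.rep 3 s := Units.ext (R.map_z.trans R'.map_z.symm)
  exact centEquiv R R' hmz hC

end Cfsg.Agent.S2133
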