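import Cfsg.Statements.S2143
import Cfsg.Agent.Lib.OrthMinIndex.Main
-- import your own Cfsg.Agent.* helpers here

set_option autoImplicit false
open Cfsg

namespace Cfsg.Agent.S2143

open Cfsg.Agent Matrix

set_option maxHeartbeats 1600000 in
/-- Minimal index of a proper subgroup of the odd-dimensional orthogonal groups: for m ≥ 3 and a field F with q elements, q odd and q ≥ 5, every proper subgroup of PΩ_(2m+1)(F) (for the form x₀² + Σ xᵢyᵢ) has index at least (q^(2m) − 1)/(q − 1), and that index is attained. -/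
theorem result {F : Type*} [Field F] [Fintype F] {q : ℕ} (hF : Fintype.card F = q) (hodd : Odd q) (h5 : 5 ≤ q) (m : ℕ) (hm : 3 ≤ m) : (∀ H : Subgroup (Cfsg.POmega F (Cfsg.quadFormOdd m F)), H ≠ ⊤ → (q ^ (2 * m) - 1) / (q - 1) ≤ H.index) ∧ (∃ H : Subgroup (Cfsg.POmega F (Cfsg.quadFormOdd m F)), H.index = (q ^ (2 * m) - 1) / (q - 1)) := by
  have hodd' : Odd (Fintype.card F) := hF ▸ hodd
  have h2 : (2 : F) ≠ 0 := OrthDeg.two_ne_of_odd (by rwa [Nat.card_eq_fintype_card])
  have hq : Nat.card F = q := Nat.card_eq_fintype_card.trans hF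
  rw [← Orth.coe_qOdd]
  have h := OrthMin.min_index_pomega (Orth.qOdd_nondeg h2 m) (OrthDeg.hasType_qOdd m) (by norm_num) (by omega) hm
    (by omega) (OrthMin.lowFive_qOdd hodd' (by omega) m)
  rw [hq, (OrthMin.pts_closed (by omega) m).1] at h
  exact h

end Cfsg.Agent.S2143
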