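import Cfsg.Statements.S2144
import Cfsg.Agent.Lib.OrthMinIndex.SmallProj
-- import your own Cfsg.Agent.* helpers here

set_option autoImplicit false
open Cfsg

namespace Cfsg.Agent.S2144

open Cfsg.Agent Matrix

set_option maxHeartbeats 1600000 in
/-- Minimal index of a proper subgroup of the odd-dimensional orthogonal groups over the field with 3 elements: for m ≥ 3, every proper subgroup of PΩ_(2m+1)(3) (for the form x₀² + Σ xᵢyᵢ) has index at least 3^m(3^m − 1)/2, and that index is attained. -/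
theorem result {F : Type*} [Field F] [Fintype F] (hF : Fintype.card F = 3) (m : ℕ) (hm : 3 ≤ m) : (∀ H : Subgroup (Cfsg.POmega F (Cfsg.quadFormOdd m F)), H ≠ ⊤ → 3 ^ m * (3 ^ m - 1) / 2 ≤ H.index) ∧ (∃ H : Subgroup (Cfsg.POmega F (Cfsg.quadFormOdd m F)), H.index = 3 ^ m * (3 ^ m - 1) / 2) := by
  have hq : Nat.card F = 3 := Nat.card_eq_fintype_card.trans hF
  have hodd : Odd (Fintype.card F) := by rw [hF]; decide
  have h2 : (2 : F) ≠ 0 := OrthDeg.two_ne_of_odd (by rwa [Nat.card_eq_fintype_card])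
  have hR := Orth.qOdd_nondeg (F := F) h2 m
  have hT := OrthDeg.hasType_qOdd (F := F) m
  rw [← Orth.coe_qOdd]
  obtain ⟨k, rfl⟩ : ∃ k, m = k + 1 := ⟨m - 1, by omega⟩
  have hzc : OrthDeg.zc 3 1 (k + 1) = 3 ^ (2 * (k + 1)) := (OrthMin.pts_closed (q := 3) (by norm_num) (k + 1)).1
  have hsq : 3 ^ (2 * (k + 1)) = 3 ^ (k + 1) * 3 ^ (k + 1) := by rw [two_mul, pow_add]
  obtain ⟨X, hX⟩ : ∃ X, 3 ^ (k + 1) = X := ⟨_, rfl⟩
  have hX0 : 1 ≤ X := hX ▸ Nat.one_le_pow _ _ (by norm_num)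
  have hmul : X * (X - 1) + X = X * X := by
    obtain ⟨p, rfl⟩ : ∃ p, X = p + 1 := ⟨X - 1, by omega⟩
    rw [Nat.add_sub_cancel]; ring
  rw [hX] at hsq ⊢
  refine ⟨fun H hH => OrthMin.small_le_index hR hT (by norm_num) (by omega) (Or.inr ?_) ?_ ?_ ?_ H hH, ?_⟩
  · rw [show 2 * k + 1 + 1 = 2 * (k + 1) by ring, hsq]
    refine ⟨hq, Or.inl rfl, by omega, by omega, fun h5 => ?_⟩
    obtain rfl : k = 2 := by omega
    subst hX
    norm_num
  · rcases Nat.lt_or_ge k 3 with h | h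
    · exact Or.inr (Or.inr ⟨by omega, Or.inr ⟨by omega, h2⟩⟩)
    · exact Or.inr (Or.inl (by omega))
  · rw [hq, hzc, hsq]; omega
  · intro t ht
    have h := OrthDeg.level_bound (k + 1) hR (c := 1) (by norm_num) hT ht
    simp only [OrthDeg.levelErr, hq] at h ⊢
    rw [show 2 * (k + 1) + 1 = 2 * (k + 1) + 1 from rfl, pow_succ _ (2 * (k + 1)), pow_succ _ (k + 1)] at h
    push_cast at h
    have e1 : ((3 : ℤ) ^ (2 * (k + 1))) = ((X * X : ℕ) : ℤ) := by rw [← hsq]; norm_cast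
    have e2 : ((3 : ℤ) ^ (k + 1)) = (X : ℤ) := by rw [← hX]; norm_cast
    rw [e1, e2] at h
    omega
  · obtain ⟨t, ht, hlev⟩ := OrthMin.exists_low_level hq (k + 1) hR hT
    obtain ⟨p, hp⟩ := Orth.exists_value hR (by rw [hT.1]; omega) t
    have hG : OrthDeg.Good (Orth.qOdd F (k + 1)) := ⟨hR, by rw [hT.1]; omega⟩
    obtain ⟨H, hH⟩ := OrthMin.exists_index_line hR (by rw [hT.1]; omega)
      (v := p) (fun h => ht (by rw [← hp, h, map_zero]))
    have h := OrthMin.index_of_level hG (Or.inr hq) ht hp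
    rw [hq] at h
    rw [hX, hsq] at hlev
    exact ⟨H, by omega⟩

end Cfsg.Agent.S2144
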