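import Cfsg.Statements.S2146
import Cfsg.Agent.Lib.OrthMinIndex.SmallProj
-- import your own Cfsg.Agent.* helpers here

set_option autoImplicit false
open Cfsg

namespace Cfsg.Agent.S2146

open Cfsg.Agent Matrix

set_option maxHeartbeats 1600000 in
/-- Minimal index of a proper subgroup of the even-dimensional orthogonal groups of plus type over the field with 2 elements: for m ≥ 4, every proper subgroup of Ω⁺_2m(2) (for the form Σ xᵢyᵢ) has index at least 2^(m−1)(2^m − 1), and that index is attained. -/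
theorem result {F : Type*} [Field F] [Fintype F] (hF : Fintype.card F = 2) (m : ℕ) (hm : 4 ≤ m) : (∀ H : Subgroup (Cfsg.POmega F (Cfsg.quadFormPlus m F)), H ≠ ⊤ → 2 ^ (m - 1) * (2 ^ m - 1) ≤ H.index) ∧ (∃ H : Subgroup (Cfsg.POmega F (Cfsg.quadFormPlus m F)), H.index = 2 ^ (m - 1) * (2 ^ m - 1)) := by
  have hq : Nat.card F = 2 := Nat.card_eq_fintype_card.trans hF
  haveI : CharP F 2 := charP_of_card_eq_prime hF
  have h2 : (2 : F) = 0 := CharTwo.two_eq_zero
  obtain ⟨k, rfl⟩ : ∃ k, m = k + 1 := ⟨m - 1, by omega⟩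
  have hR := Orth.qPlus_nondeg (F := F) (k + 1)
  have hT := OrthDeg.hasType_qPlus (F := F) (k + 1) (by omega)
  haveI : Finite ((Fin (k + 1) ⊕ Fin (k + 1)) → F) := inferInstance
  rw [← Orth.coe_qPlus, Nat.add_sub_cancel]
  obtain ⟨X, hX⟩ : ∃ X, 2 ^ k = X := ⟨_, rfl⟩
  have hX8 : 8 ≤ X := hX ▸ Nat.pow_le_pow_right (show 0 < 2 by norm_num) (show 3 ≤ k by omega)
  have hp : 2 ^ (k + 1) = 2 * X := by rw [pow_succ', hX]
  have hp2 : 2 ^ (2 * k + 1) = 2 * (X * X) := by rw [pow_succ', two_mul k, pow_add, hX]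
  have hzc : OrthDeg.zc 2 0 (k + 1) = 2 * (X * X) + X := by
    have h := OrthDeg.zc_spec 2 0 (by norm_num) (k + 1)
    simp only [add_zero] at h
    rw [show 2 * (k + 1) = 2 * k + 1 + 1 by ring, pow_succ' 2 (k + 1), pow_succ' 2 (2 * k + 1), hp, hp2] at h
    omega
  rw [hX, hp]
  have hmul : X * (2 * X - 1) + X = 2 * (X * X) := by
    obtain ⟨p, rfl⟩ : ∃ p, X = p + 1 := ⟨X - 1, by omega⟩
    rw [show 2 * (p + 1) - 1 = 2 * p + 1 by omega]; ring
  have hF2 : ∀ s : F, s ≠ 0 → s = 1 := fun s hs => by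
    have h := OrthMin.sq_eq_one_small (Or.inl hq) s hs
    rw [← sub_eq_zero] at h ⊢
    exact mul_self_eq_zero.1 (by linear_combination h + (1 - s) * h2)
  have hlevel : ∀ t : F, t ≠ 0 → Nat.card {v // Orth.qPlus F (k + 1) v = t} = X * (2 * X - 1) := by
    intro t ht
    have h := OrthMin.card_split (α := (Fin (k + 1) ⊕ Fin (k + 1)) → F) (fun _ => True)
      (fun v => Orth.qPlus F (k + 1) v = 0)
    simp only [true_and, Nat.card_congr (Equiv.subtypeUnivEquiv (α := (Fin (k + 1) ⊕ Fin (k + 1)) → F)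
      (p := fun _ => True) (fun _ => trivial))] at h
    have hV : Nat.card ((Fin (k + 1) ⊕ Fin (k + 1)) → F) = 2 * (2 * (X * X)) := by
      rw [Nat.card_fun, hq, Nat.card_eq_fintype_card, Fintype.card_sum, Fintype.card_fin,
        show k + 1 + (k + 1) = 2 * k + 1 + 1 by ring, pow_succ', hp2]
    rw [hV, hT.2, hq, hzc] at h
    rw [Nat.card_congr (Equiv.subtypeEquivRight (fun v => show Orth.qPlus F (k + 1) v = t ↔
      ¬ Orth.qPlus F (k + 1) v = 0 from ⟨fun hv h0 => ht (hv.symm.trans h0), fun hv => by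
        rw [hF2 _ hv, hF2 t ht]⟩))]
    omega
  refine ⟨fun H hH => OrthMin.small_le_index hR hT (by norm_num) (by omega) ?_ (Or.inl ⟨h2, by omega⟩) ?_ ?_ H hH, ?_⟩
  · rw [hq]
    refine Or.inl ⟨rfl, Or.inl rfl, by omega, ?_, fun h6 => ?_⟩
    · rw [add_zero, hp2]; omega
    · obtain rfl : k = 3 := by omega
      subst hX
      norm_num
  · rw [hq, hzc]; omega
  · intro t ht
    rw [hlevel t ht, hq]; omega
  · obtain ⟨p, hp'⟩ := Orth.exists_value hR (by rw [hT.1]; omega) (1 : F)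
    obtain ⟨H, hH⟩ := OrthMin.exists_index_line hR (by rw [hT.1]; omega)
      (v := p) (fun h => one_ne_zero (α := F) (by rw [← hp', h, map_zero]))
    have hG : OrthDeg.Good (Orth.qPlus F (k + 1)) := ⟨hR, by rw [hT.1]; omega⟩
    have h := OrthMin.index_of_level hG (Or.inl hq) one_ne_zero hp'
    rw [hlevel 1 one_ne_zero, hq] at h
    exact ⟨H, by omega⟩

end Cfsg.Agent.S2146
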