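import Cfsg.Statements.S2147
import Cfsg.Agent.Lib.OrthMinIndex.SmallProj
-- import your own Cfsg.Agent.* helpers here

set_option autoImplicit false
open Cfsg

namespace Cfsg.Agent.S2147

open Cfsg.Agent Matrix

set_option maxHeartbeats 1600000 in
/-- Minimal index of a proper subgroup of the even-dimensional orthogonal groups of minus type: for m ≥ 4 and a field F with q elements, every proper subgroup of PΩ⁻_2m(F) (for the form Σ_{i<m−1} xᵢyᵢ + z₁² + a z₁z₂ + b z₂² with anisotropic binary part) has index at least (q^m + 1)(q^(m−1) − 1)/(q − 1), and that index is attained. -/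
theorem result {F : Type*} [Field F] [Fintype F] {q : ℕ} (hF : Fintype.card F = q) (m : ℕ) (hm : 4 ≤ m) (a b : F) (hab : ∀ z₁ z₂ : F, z₁ ^ 2 + a * z₁ * z₂ + b * z₂ ^ 2 = 0 → z₁ = 0 ∧ z₂ = 0) : (∀ H : Subgroup (Cfsg.POmega F (Cfsg.quadFormMinus (m - 1) F a b)), H ≠ ⊤ → (q ^ m + 1) * (q ^ (m - 1) - 1) / (q - 1) ≤ H.index) ∧ (∃ H : Subgroup (Cfsg.POmega F (Cfsg.quadFormMinus (m - 1) F a b)), H.index = (q ^ m + 1) * (q ^ (m - 1) - 1) / (q - 1)) := by
  obtain ⟨k, rfl⟩ : ∃ k, m = k + 2 := ⟨m - 2, by omega⟩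
  rw [show k + 2 - 1 = k + 1 by omega]
  have hR := Orth.qMinus_nondeg (a := a) (b := b) hab (k + 1)
  have hT := OrthDeg.hasType_qMinus hab (k + 1)
  have hq : Nat.card F = q := Nat.card_eq_fintype_card.trans hF
  have hq2 : 2 ≤ q := by rw [← hq]; exact Finite.one_lt_card
  have hzc : OrthDeg.zc q 2 (k + 1) - 1 = (q ^ (k + 2) + 1) * (q ^ (k + 1) - 1) := (OrthMin.pts_closed hq2 (k + 1)).2.2
  rw [← Orth.coe_qMinus]
  rcases Nat.lt_or_ge q 4 with hq4 | hq4
  · have hd : Module.finrank F ((Fin (k + 1) ⊕ Fin (k + 1)) ⊕ Fin 2 → F) = 2 * (k + 1) + 2 := hT.1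
    have hG : OrthDeg.Good (Orth.qMinus F (k + 1) a b) := ⟨hR, by omega⟩
    haveI : Finite ((Fin (k + 1) ⊕ Fin (k + 1)) ⊕ Fin 2 → F) := inferInstance
    obtain ⟨e, he0, he⟩ := Orth.exists_singular hR (by omega)
    have hpts := OrthMin.card_points hG (by omega) he0 he
    rw [hT.2, hq] at hpts
    have hidx : (OrthMin.lineStab (Orth.qMinus F (k + 1) a b) e).index =
        (q ^ (k + 2) + 1) * (q ^ (k + 1) - 1) / (q - 1) := by
      rw [← hzc, ← hpts, Nat.add_sub_cancel, Nat.mul_div_cancel _ (by omega)]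
    obtain ⟨N, hN⟩ : ∃ N, (OrthMin.lineStab (Orth.qMinus F (k + 1) a b) e).index = N := ⟨_, rfl⟩
    rw [← hidx, hN]
    rw [hN] at hpts
    have hzs := OrthDeg.zc_spec q 2 (by omega) (k + 1)
    rw [← hpts] at hzs
    refine ⟨fun H hH => OrthMin.small_le_index hR hT le_rfl (by omega) ?_ ?_ ?_ ?_ H hH, ?_⟩
    · rw [hq]
      obtain ⟨X, hX⟩ : ∃ X, q ^ k = X := ⟨_, rfl⟩
      obtain rfl | rfl : q = 2 ∨ q = 3 := by omega
      · refine Or.inl ⟨rfl, Or.inr rfl, by omega, ?_, fun h6 => ?_⟩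
        · simp only [two_mul, pow_add, pow_one, pow_two, hX] at hzs ⊢
          ring_nf at hzs ⊢
          omega
        · obtain rfl : k = 2 := by omega
          norm_num at hzs
          omega
      · refine Or.inr ⟨rfl, Or.inr rfl, by omega, ?_, fun h5 => by omega⟩
        simp only [two_mul, pow_add, pow_one, pow_two, hX] at hzs ⊢
        ring_nf at hzs ⊢
        omega
    · rcases Nat.lt_or_ge k 3 with h | h
      · exact Or.inr (Or.inr ⟨by omega, Or.inl (by omega)⟩)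
      · exact Or.inr (Or.inl (by omega))
    · rw [hq]; exact hpts.le
    · intro t ht
      have h := OrthDeg.level_bound (k + 1) hR (c := 2) le_rfl hT ht
      simp only [OrthDeg.levelErr, hq] at h ⊢
      obtain ⟨X, hX⟩ : ∃ X, q ^ k = X := ⟨_, rfl⟩
      have e1 : ((q : ℤ) ^ (2 * (k + 1) + 2)) = ((q ^ (2 * (k + 1) + 2) : ℕ) : ℤ) := by push_cast; rfl
      have e2 : ((q : ℤ) ^ (k + 1 + 1)) = ((q ^ (k + 1 + 1) : ℕ) : ℤ) := by push_cast; rfl
      rw [e1, e2, ← Nat.cast_add, ← Nat.cast_mul, Nat.cast_le] at h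
      obtain rfl | rfl : q = 2 ∨ q = 3 := by omega
      all_goals
        simp only [two_mul, pow_add, pow_one, pow_two, hX] at hzs h ⊢
        ring_nf at hzs h ⊢
        omega
    · obtain ⟨H, hH⟩ := OrthMin.exists_index_line hR (by omega) he0
      exact ⟨H, hH.trans hN⟩
  · have h := OrthMin.min_index_pomega hR hT le_rfl (by omega) (by omega) (by omega) (fun h => by
      have := hT.1; omega)
    rw [hq, hzc] at h
    exact h

end Cfsg.Agent.S2147
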