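import Cfsg.Statements.S2149
import Cfsg.Agent.Lib.U35.Bound
import Mathlib.FieldTheory.Finite.GaloisField
-- import your own Cfsg.Agent.* helpers here

set_option autoImplicit false
open Cfsg Cfsg.Agent

namespace Cfsg.Agent.S2149

/-- Minimal index of a proper subgroup of PSU₃(5), realised over the field with 25 elements: every proper subgroup has index at least 50, and that index is attained. -/
theorem result {F : Type*} [Field F] [Fintype F] (hF : Fintype.card F = 25) : (∀ H : Subgroup (Cfsg.PSU 3 F 5), H ≠ ⊤ → 50 ≤ H.index) ∧ (∃ H : Subgroup (Cfsg.PSU 3 F 5), H.index = 50) := by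
  have eK : F ≃+* U35.F25 := FiniteField.ringEquivOfCardEq (by rw [hF, U35.F25.card])
  let su : Cfsg.SU 3 F 5 ≃* U35.SU25 :=
    { toFun := fun A => ⟨Matrix.SpecialLinearGroup.map (eK : F →+* U35.F25) A.1, fun u v => by
        have h := congrArg eK (A.2 (eK.symm ∘ u) (eK.symm ∘ v))
        simpa [Cfsg.hermForm, Cfsg.slToMat, Matrix.mulVec, dotProduct, map_sum, Function.comp] using h⟩
      invFun := fun A => ⟨Matrix.SpecialLinearGroup.map (eK.symm : U35.F25 →+* F) A.1, fun u v => by
        have h := congrArg eK.symm (A.2 (eK ∘ u) (eK ∘ v))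
        simpa [Cfsg.hermForm, Cfsg.slToMat, Matrix.mulVec, dotProduct, map_sum, Function.comp] using h⟩
      left_inv := fun A => Subtype.ext (Subtype.ext (by ext i j; simp))
      right_inv := fun A => Subtype.ext (Subtype.ext (by ext i j; simp))
      map_mul' := fun A B => Subtype.ext (by simp) }
  have hc : (Subgroup.center (Cfsg.SU 3 F 5)).map su.toMonoidHom = Subgroup.center U35.SU25 := by
    ext z
    constructor
    · rintro ⟨y, hy, rfl⟩
      rw [Subgroup.mem_center_iff]
      intro g
      obtain ⟨x, rfl⟩ := su.surjective g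
      show su x * su y = su y * su x
      rw [← map_mul, ← map_mul, Subgroup.mem_center_iff.1 hy x]
    · intro hz
      refine ⟨su.symm z, Subgroup.mem_center_iff.2 fun g => su.injective ?_, su.apply_symm_apply z⟩
      rw [map_mul, map_mul, su.apply_symm_apply, Subgroup.mem_center_iff.1 hz]
  let iso : Cfsg.PSU 3 F 5 ≃* U35.G126 :=
    (QuotientGroup.congr (Subgroup.center (Cfsg.SU 3 F 5)) (Subgroup.center U35.SU25) su hc).trans
      U35.psuEquiv
  refine ⟨fun H hH => ?_, ?_⟩
  · have h1 : H.map iso.toMonoidHom ≠ ⊤ := fun h => hH (Subgroup.map_injective iso.injective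
      (h.trans (Subgroup.map_top_of_surjective _ iso.surjective).symm))
    have h2 := U35.index_bound _ h1
    exact h2.trans_eq (Subgroup.index_map_equiv H iso)
  · obtain ⟨H, hH⟩ := U35.exists_index_fifty
    exact ⟨H.comap iso.toMonoidHom, by rw [Subgroup.index_comap_of_surjective _ iso.surjective, hH]⟩

end Cfsg.Agent.S2149
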