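import Cfsg.Statements.S2155
import Cfsg.Agent.Lib.ChevAut.ParabolicCharP
import Cfsg.Agent.Lib.Lie.ChevSylow
import Cfsg.Agent.Lib.Components.Local

set_option autoImplicit false
open Cfsg

namespace Cfsg.Agent.S2155

/-- In a Chevalley group of type G₂, B₂, D₄, F₄, E₆, E₇ or E₈ over a finite field of characteristic p (for types G₂ and B₂ the field is assumed to have at least 3 elements, so that the group is simple), the generalized Fitting subgroup of every proper standard parabolic subgroup P_J is a p-group (P_J is p-constrained with trivial largest normal subgroup of order prime to p). -/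
theorem result {F : Type*} [Field F] [Fintype F] (p : ℕ) [Fact p.Prime] [CharP F p] (D : Cfsg.Lie.ChevalleyDatum) (hD : D ∈ [Cfsg.Lie.chevG2, Cfsg.Lie.chevB2, Cfsg.Lie.chevD4, Cfsg.Lie.chevF4, Cfsg.Lie.chevE6, Cfsg.Lie.chevE7, Cfsg.Lie.chevE8]) (hq : (D = Cfsg.Lie.chevG2 ∨ D = Cfsg.Lie.chevB2) → 3 ≤ Fintype.card F) (J : Set ℕ) (hJ : ∃ i, i < D.rank ∧ i ∉ J) : IsPGroup p ↥(Cfsg.generalizedFittingSubgroup ↥(D.parabolicSubgroup F J)) := by
  have _ := hq
  obtain ⟨T, K, hT, rfl⟩ := Chev.exists_goodK hD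
  obtain ⟨T', hT', hTD, -⟩ := Chev.exists_goodS hD
  have hg := hT.toGood
  obtain ⟨k₀, hk₀, hk₀J⟩ := hJ
  rw [hg.rank_eq] at hk₀
  have hcent := ChevAut.centralizer_radical (F := F) hT
    (ChevAut.conn_transfer hg hT'.toGood hTD hT'.conn) hk₀ hk₀J
  set P := T.D.parabolicSubgroup F J
  set V := Chev.Tab.genS hg F (T.outJ J) with hV
  have hn : P ≤ Subgroup.normalizer (V : Set (GL T.D.Idx F)) := Chev.Tab.parabolic_normalizes hT J
  have hVP : V ≤ P := (Chev.Tab.genS_pos_le_borel hg fun r hr => ⟨hr.1, hr.2.1⟩).trans le_sup_left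
  have hN : (V.subgroupOf P).Normal := (Subgroup.normal_subgroupOf_iff_le_normalizer hVP).2 hn
  have hVp : IsPGroup p (V.subgroupOf P) :=
    ((Chev.Tab.posU_isPGroup hg p).to_le (Chev.Tab.genS_mono hg Chev.Tab.outJ_pos)).comap_subtype
  have hle : V.subgroupOf P ≤ Cfsg.pCore p ↥P := PBasic.le_pCore hN hVp
  have key : Subgroup.centralizer (Cfsg.pCore p ↥P : Set ↥P) ≤ Cfsg.pCore p ↥P := fun x hx => hle <| by
    refine hcent (Subgroup.mem_inf.2 ⟨x.2, Subgroup.mem_centralizer_iff.2 fun v hv => ?_⟩)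
    exact congrArg Subtype.val (Subgroup.mem_centralizer_iff.1 hx ⟨v, hVP hv⟩ (hle hv))
  rw [Components.generalizedFitting_eq_pCore_iff.2 key]
  exact FittingCores.pCore_isPGroup p

end Cfsg.Agent.S2155
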