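import Cfsg.Statements.S2163
import Mathlib
-- import your own Cfsg.Agent.* helpers here

set_option autoImplicit false
open Cfsg

namespace Cfsg.Agent.S2163

open Matrix in
theorem det_one_add_strictLower {F : Type*} [Field F] {n : ℕ} (E : Matrix (Fin n) (Fin n) F)
    (h : ∀ i j, E i j ≠ 0 → j < i) : (1 + E).det = 1 := by
  have ht : ((1 + E)ᵀ).IsUpperTriangular := by
    intro i j hij
    have hij' : j < i := hij
    by_contra hne
    simp [Matrix.one_apply_ne hij'.ne] at hne
    exact absurd (h j i hne) hij'.asymm
  rw [← Matrix.det_transpose, Matrix.det_of_isUpperTriangular ht]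
  refine Finset.prod_eq_one fun i _ => ?_
  have : E i i = 0 := by
    by_contra hne
    exact lt_irrefl _ (h i i hne)
  simp [this]

theorem rank_eq_of_factor {F : Type*} [Field F] {n ℓ : ℕ} (E : Matrix (Fin n) (Fin n) F)
    (A : Matrix (Fin n) (Fin ℓ) F) (B : Matrix (Fin ℓ) (Fin n) F) (hE : E = A * B)
    (r c : Fin ℓ → Fin n) (h : E.submatrix r c = 1) : E.rank = ℓ := by
  apply le_antisymm
  · rw [hE]
    exact (Matrix.rank_mul_le_left A B).trans (Matrix.rank_le_width A)
  · have h' := Matrix.rank_submatrix_le E r c
    rw [h, Matrix.rank_one] at h'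
    simpa using h'

/-- Over a finite field of characteristic two and for n ≥ 3: for every ℓ with 1 ≤ ℓ and 2ℓ ≤ n, the matrix j_ℓ that is the identity plus the entries 1 in positions (n − ℓ + i, i) for i < ℓ (an identity block of size ℓ in the lower left corner) lies in SL_n(F), has order 2, and j_ℓ − 1 has rank ℓ. Together with the conjugacy criterion by rank, these matrices represent the conjugacy classes of involutions of SL_n(F). -/
theorem result {F : Type*} [Field F] [Fintype F] [CharP F 2] {n : ℕ} (hn : 3 ≤ n) (ℓ : ℕ) (h1 : 1 ≤ ℓ) (h2 : 2 * ℓ ≤ n) :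
    ∃ a : Matrix.SpecialLinearGroup (Fin n) F, (a : Matrix (Fin n) (Fin n) F) = 1 + Matrix.of (fun i j : Fin n => if j.val < ℓ ∧ i.val = j.val + (n - ℓ) then (1 : F) else 0) ∧ orderOf a = 2 ∧ ((a : Matrix (Fin n) (Fin n) F) - 1).rank = ℓ := by
  set E : Matrix (Fin n) (Fin n) F :=
    Matrix.of (fun i j : Fin n => if j.val < ℓ ∧ i.val = j.val + (n - ℓ) then (1 : F) else 0) with hE
  have hlow : ∀ i j, E i j ≠ 0 → j < i := by
    intro i j h
    simp [hE] at h
    exact Fin.lt_def.mpr (by omega)
  have hsq : E * E = 0 := by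
    ext i k
    rw [Matrix.mul_apply]
    refine Finset.sum_eq_zero fun j _ => ?_
    simp only [hE, Matrix.of_apply]
    split_ifs <;> simp_all <;> omega
  refine ⟨⟨1 + E, det_one_add_strictLower E hlow⟩, rfl, ?_, ?_⟩
  · refine orderOf_eq_prime ?_ ?_
    · apply Subtype.ext
      show (1 + E) ^ 2 = 1
      have h2 : E + E = 0 := by ext i j; exact CharTwo.add_self_eq_zero _
      rw [pow_two, add_mul, mul_add, mul_add, hsq, one_mul, mul_one, one_mul, add_zero, add_assoc, h2, add_zero]
    · intro h
      have h' : E = 0 := by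
        have := congrArg Subtype.val h
        simpa using this
      have := congrFun (congrFun h' ⟨n - ℓ, by omega⟩) ⟨0, by omega⟩
      simp [hE] at this
      omega
  · show (1 + E - 1).rank = ℓ
    rw [add_sub_cancel_left]
    refine rank_eq_of_factor E (Matrix.of fun i k => if i.val = k.val + (n - ℓ) then 1 else 0)
      (Matrix.of fun k j => if j.val = k.val then 1 else 0) ?_
      (fun k => ⟨k.val + (n - ℓ), by omega⟩) (fun k => ⟨k.val, by omega⟩) ?_
    · ext i j
      rw [Matrix.mul_apply]
      by_cases hj : j.val < ℓ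
      · rw [Finset.sum_eq_single ⟨j.val, hj⟩]
        · simp [hE, hj]
        · intro k _ hk
          have : j.val ≠ k.val := fun e => hk (Fin.ext e.symm)
          simp [this]
        · simp
      · rw [Finset.sum_eq_zero]
        · simp [hE, hj]
        · intro k _
          have : j.val ≠ k.val := by omega
          simp [this]
    · ext a b
      simp [hE, Matrix.one_apply, Fin.ext_iff]

end Cfsg.Agent.S2163
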