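import Cfsg.Statements.S2164
import Cfsg.Agent.Lib.LinearBlock.SUInvolutionClasses

set_option autoImplicit false
open Cfsg

namespace Cfsg.Agent.S2164

/-- Conjugacy of involutions in the special unitary group SU_n(q), q even, n ≥ 3, realised over the field F with q² elements as the matrices of determinant 1 preserving the form Σ u_i v_i^q: for two elements of order 2 of SU_n(q) the following are equivalent — they are conjugate in SU_n(q); they are conjugate in SL_n(F); the matrices a − 1 and b − 1 have the same rank. -/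
theorem result {F : Type*} [Field F] [Fintype F] [CharP F 2] {n q : ℕ} (hF : Fintype.card F = q ^ 2) (hn : 3 ≤ n) (a b : ↥(Cfsg.SU n F q)) (ha : orderOf a = 2) (hb : orderOf b = 2) :
    (IsConj a b ↔ IsConj (a : Matrix.SpecialLinearGroup (Fin n) F) (b : Matrix.SpecialLinearGroup (Fin n) F)) ∧
    (IsConj a b ↔ (((a : Matrix.SpecialLinearGroup (Fin n) F) : Matrix (Fin n) (Fin n) F) - 1).rank = (((b : Matrix.SpecialLinearGroup (Fin n) F) : Matrix (Fin n) (Fin n) F) - 1).rank) := by
  have ha1 : a ≠ 1 := fun h => by rw [h, orderOf_one] at ha; omega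
  have h1 : IsConj a b → IsConj (a : Matrix.SpecialLinearGroup (Fin n) F) (b : Matrix.SpecialLinearGroup (Fin n) F) :=
    fun h => (Cfsg.SU n F q).subtype.map_isConj h
  have h2 : IsConj (a : Matrix.SpecialLinearGroup (Fin n) F) (b : Matrix.SpecialLinearGroup (Fin n) F) →
      (((a : Matrix.SpecialLinearGroup (Fin n) F) : Matrix (Fin n) (Fin n) F) - 1).rank =
        (((b : Matrix.SpecialLinearGroup (Fin n) F) : Matrix (Fin n) (Fin n) F) - 1).rank := by
    intro h
    obtain ⟨g, hg⟩ := isConj_iff.1 h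
    have hu : IsUnit (g : Matrix (Fin n) (Fin n) F).det := by rw [g.2]; exact isUnit_one
    have hga : (g : Matrix (Fin n) (Fin n) F) * a.1.1 = b.1.1 * g.1 :=
      congrArg (fun A : Matrix.SpecialLinearGroup (Fin n) F => A.1) (mul_inv_eq_iff_eq_mul.1 hg)
    rw [← Matrix.rank_mul_eq_right_of_isUnit_det g.1 (a.1.1 - 1) hu,
      ← Matrix.rank_mul_eq_left_of_isUnit_det g.1 (b.1.1 - 1) hu, mul_sub, sub_mul, hga, mul_one, one_mul]
  have h3 := fun hr => Cfsg.Agent.SUInv.isConj_su hF a b (ha ▸ pow_orderOf_eq_one a) (hb ▸ pow_orderOf_eq_one b) ha1 hr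
  exact ⟨⟨h1, fun h => h3 (h2 h)⟩, ⟨fun h => h2 (h1 h), h3⟩⟩

end Cfsg.Agent.S2164

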