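import Cfsg.Statements.S2165
import Mathlib
import Cfsg.Agent.S2163
-- import your own Cfsg.Agent.* helpers here

set_option autoImplicit false
open Cfsg

namespace Cfsg.Agent.S2165

/-- The involution of `Fin n` exchanging `i` and `i + (n - ℓ)` for `i < ℓ`. -/
def swapEndsFun (n ℓ : ℕ) (h : 2 * ℓ ≤ n) (i : Fin n) : Fin n :=
  if h1 : i.val < ℓ then ⟨i.val + (n - ℓ), by omega⟩
  else if h2 : n - ℓ ≤ i.val then ⟨i.val - (n - ℓ), by omega⟩ else i

theorem swapEndsFun_val (n ℓ : ℕ) (h : 2 * ℓ ≤ n) (i : Fin n) :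
    (swapEndsFun n ℓ h i).val =
      if i.val < ℓ then i.val + (n - ℓ) else if n - ℓ ≤ i.val then i.val - (n - ℓ) else i.val := by
  unfold swapEndsFun
  split_ifs <;> rfl

theorem swapEndsFun_invol (n ℓ : ℕ) (h : 2 * ℓ ≤ n) : Function.Involutive (swapEndsFun n ℓ h) := by
  intro i
  apply Fin.ext
  rw [swapEndsFun_val, swapEndsFun_val]
  split_ifs <;> omega

/-- In SU_n(q), q even, n ≥ 3 (matrices of determinant 1 over the field with q² elements preserving Σ u_i v_i^q): for every ℓ with 1 ≤ ℓ and 2ℓ ≤ n, the permutation matrix of the involution of {0, …, n−1} exchanging i and n − ℓ + i for each i < ℓ lies in SU_n(q), has order 2, and differs from the identity by a matrix of rank ℓ. So every rank between 1 and n/2 occurs for involutions of SU_n(q). -/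
theorem result {F : Type*} [Field F] [Fintype F] [CharP F 2] {n q : ℕ} (hF : Fintype.card F = q ^ 2) (hn : 3 ≤ n) (ℓ : ℕ) (h1 : 1 ≤ ℓ) (h2 : 2 * ℓ ≤ n) :
    ∃ a : ↥(Cfsg.SU n F q), (((a : Matrix.SpecialLinearGroup (Fin n) F) : Matrix (Fin n) (Fin n) F) = Matrix.of (fun i j : Fin n => if (j.val < ℓ ∧ i.val = j.val + (n - ℓ)) ∨ (i.val < ℓ ∧ j.val = i.val + (n - ℓ)) ∨ (i = j ∧ ℓ ≤ i.val ∧ i.val < n - ℓ) then (1 : F) else 0)) ∧ orderOf a = 2 ∧ ((((a : Matrix.SpecialLinearGroup (Fin n) F) : Matrix (Fin n) (Fin n) F)) - 1).rank = ℓ := by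
  set s : Equiv.Perm (Fin n) := (swapEndsFun_invol n ℓ h2).toPerm with hs
  have hsval : ∀ i, (s i).val =
      if i.val < ℓ then i.val + (n - ℓ) else if n - ℓ ≤ i.val then i.val - (n - ℓ) else i.val :=
    fun i => swapEndsFun_val n ℓ h2 i
  set M : Matrix (Fin n) (Fin n) F := s.permMatrix F with hM
  have hentry : M = Matrix.of (fun i j : Fin n => if (j.val < ℓ ∧ i.val = j.val + (n - ℓ)) ∨ (i.val < ℓ ∧ j.val = i.val + (n - ℓ)) ∨ (i = j ∧ ℓ ≤ i.val ∧ i.val < n - ℓ) then (1 : F) else 0) := by
    ext i j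
    simp only [hM, PEquiv.toMatrix_apply, Equiv.toPEquiv_apply, Option.mem_def, Option.some.injEq,
      Matrix.of_apply, Fin.ext_iff, hsval]
    congr 1
    apply propext
    split_ifs <;> omega
  have hdet : M.det = 1 := by
    rw [hM, Matrix.det_permutation]
    rcases Int.units_eq_one_or (Equiv.Perm.sign s) with h | h <;> simp [h, CharTwo.neg_eq]
  have hmul : ∀ (v : Fin n → F) (i : Fin n), (M.mulVec v) i = v (s i) := by
    intro v i; simp [hM, Matrix.permMatrix_mulVec]
  have hmem : (⟨M, hdet⟩ : Matrix.SpecialLinearGroup (Fin n) F) ∈ Cfsg.SU n F q := by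
    intro u v
    show Cfsg.hermForm n F q (M.mulVec u) (M.mulVec v) = Cfsg.hermForm n F q u v
    unfold Cfsg.hermForm
    simp only [hmul]
    exact Equiv.sum_comp s fun i => u i * v i ^ q
  refine ⟨⟨_, hmem⟩, hentry, ?_, ?_⟩
  · refine orderOf_eq_prime ?_ ?_
    · apply Subtype.ext
      apply Subtype.ext
      show M ^ 2 = 1
      rw [pow_two]
      apply Matrix.ext_of_mulVec_single
      intro i
      funext k
      rw [← Matrix.mulVec_mulVec, hmul, hmul, Matrix.one_mulVec]
      congr 1
      exact swapEndsFun_invol n ℓ h2 k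
    · intro h
      have h' : M = 1 := congrArg (fun a : ↥(Cfsg.SU n F q) => ((a : Matrix.SpecialLinearGroup (Fin n) F) : Matrix (Fin n) (Fin n) F)) h
      have := congrFun (congrFun h' ⟨0, by omega⟩) ⟨n - ℓ, by omega⟩
      simp [hentry, Matrix.one_apply, Fin.ext_iff] at this
      split_ifs at this <;> first | omega | exact one_ne_zero this | exact zero_ne_one this
  · show (M - 1).rank = ℓ
    let A : Matrix (Fin n) (Fin ℓ) F :=
      Matrix.of fun i k => if i.val = k.val ∨ i.val = k.val + (n - ℓ) then 1 else 0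
    refine Cfsg.Agent.S2163.rank_eq_of_factor (M - 1) A A.transpose ?_
      (fun k => ⟨k.val, by omega⟩) (fun k => ⟨k.val + (n - ℓ), by omega⟩) ?_
    · have hneg : M - 1 = M + 1 := by ext i j; simp [CharTwo.sub_eq_add]
      rw [hneg, hentry]
      ext i j
      rw [Matrix.mul_apply]
      simp only [Matrix.add_apply, Matrix.of_apply, Matrix.transpose_apply, A, Matrix.one_apply]
      by_cases hi : ℓ ≤ i.val ∧ i.val < n - ℓ
      · rw [Finset.sum_eq_zero]
        · by_cases hij : i = j
          · subst hij; simp [hi, CharTwo.add_self_eq_zero]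
          · rw [if_neg hij, if_neg]
            · simp
            · simp only [hij, false_and, or_false]; omega
        · intro k _
          rw [if_neg (by omega)]; simp
      · obtain ⟨k0, hk0⟩ : ∃ k : Fin ℓ, i.val = k.val ∨ i.val = k.val + (n - ℓ) := by
          by_cases h : i.val < ℓ
          · exact ⟨⟨i.val, h⟩, Or.inl rfl⟩
          · exact ⟨⟨i.val - (n - ℓ), by omega⟩, Or.inr (by simp; omega)⟩
        rw [Finset.sum_eq_single k0]
        · rw [if_pos hk0, one_mul]
          simp only [Fin.ext_iff]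
          split_ifs <;> first | omega | simp
        · intro k _ hk
          have : k.val ≠ k0.val := fun e => hk (Fin.ext e)
          rw [if_neg (by omega)]; simp
        · simp
    · ext a b
      simp [hentry, Matrix.one_apply, Fin.ext_iff]
      split_ifs <;> first | omega | simp

end Cfsg.Agent.S2165
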