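import Cfsg.Statements.S2167
import Mathlib
-- import your own Cfsg.Agent.* helpers here

set_option autoImplicit false
open Cfsg

namespace Cfsg.Agent.S2167

open Module in
theorem even_finrank_range_of_alt : ∀ (k : ℕ) {K : Type*} [Field K] {V : Type*} [AddCommGroup V]
    [Module K V] [FiniteDimensional K V] (B : V →ₗ[K] V →ₗ[K] K), (∀ x, B x x = 0) → finrank K V = k →
    Even (finrank K (LinearMap.range B)) := by
  intro k
  induction k using Nat.strong_induction_on with
  | _ k ih =>
    intro K _ V _ _ _ B hB hk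
    by_cases h0 : B = 0
    · rw [h0, LinearMap.range_zero, finrank_bot]
      exact ⟨0, rfl⟩
    obtain ⟨v, w, hvw⟩ : ∃ v w, B v w ≠ 0 := by
      by_contra h
      push Not at h
      exact h0 (LinearMap.ext fun v => LinearMap.ext fun w => h v w)
    have hskew : ∀ x y, B x y = - B y x := by
      intro x y
      have := hB (x + y)
      simp [hB x, hB y] at this
      linear_combination this
    have hwv : B w v ≠ 0 := by rw [hskew]; exact neg_ne_zero.mpr hvw
    let φ : V →ₗ[K] K × K := (B v).prod (B w)
    have hsurj : Function.Surjective φ := by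
      rintro ⟨a, b⟩
      refine ⟨(a * (B v w)⁻¹) • w + (b * (B w v)⁻¹) • v, ?_⟩
      simp [φ, hB, hvw, hwv]
    set U := LinearMap.ker φ with hU
    have hdim : finrank K U + 2 = finrank K V := by
      have := φ.finrank_range_add_finrank_ker
      rw [LinearMap.range_eq_top.mpr hsurj, finrank_top, Module.finrank_prod, finrank_self, ← hU] at this
      omega
    let B' : U →ₗ[K] U →ₗ[K] K := B.compl₁₂ U.subtype U.subtype
    have he := ih (finrank K U) (by omega) B' (fun x => hB x) rfl
    have hker : LinearMap.ker B ≤ U := by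
      intro x hx
      rw [LinearMap.mem_ker] at hx
      simp [U, φ, hskew v x, hskew w x, hx]
    have hk' : (LinearMap.ker B').map U.subtype = LinearMap.ker B := by
      apply le_antisymm
      · rintro _ ⟨x, hx, rfl⟩
        have hx' : B' x = 0 := hx
        obtain ⟨h1, h2⟩ : B v (x : V) = 0 ∧ B w (x : V) = 0 := by simpa [U, φ] using x.2
        rw [LinearMap.mem_ker]
        ext y
        set z := y - (B v y * (B v w)⁻¹) • w - (B w y * (B w v)⁻¹) • v with hz
        have hzU : z ∈ U := by simp [U, φ, hz, hB, hvw, hwv]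
        have h3 : B x z = 0 := by simpa [B'] using LinearMap.congr_fun hx' ⟨z, hzU⟩
        simp [hz, hskew (x : V) v, hskew (x : V) w, h1, h2] at h3
        simpa using h3
      · intro x hx
        refine ⟨⟨x, hker hx⟩, ?_, rfl⟩
        rw [SetLike.mem_coe, LinearMap.mem_ker] at *
        ext y
        simp [B', hx]
    have hkf : finrank K (LinearMap.ker B') = finrank K (LinearMap.ker B) := by
      rw [← hk', Submodule.finrank_map_subtype_eq]
    have r1 := B.finrank_range_add_finrank_ker
    have r2 := B'.finrank_range_add_finrank_ker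
    obtain ⟨t, ht⟩ := he
    exact ⟨t + 1, by omega⟩

open Matrix in
/-- An alternating matrix has even rank, in any characteristic. -/
theorem even_rank_of_alt {K : Type*} [Field K] {ι : Type*} [Fintype ι] [DecidableEq ι]
    (M : Matrix ι ι K) (hM : ∀ x : ι → K, x ⬝ᵥ (M *ᵥ x) = 0) : Even M.rank := by
  let B : (ι → K) →ₗ[K] (ι → K) →ₗ[K] K := Matrix.toLinearMap₂' K M
  have h := even_finrank_range_of_alt _ B (fun x => by simpa [B, Matrix.toLinearMap₂'_apply'] using hM x) rfl
  have hker : LinearMap.ker B = LinearMap.ker Mᵀ.mulVecLin := by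
    ext x
    have key : ∀ y, B x y = (Mᵀ *ᵥ x) ⬝ᵥ y := by
      intro y
      rw [Matrix.mulVec_transpose, ← Matrix.dotProduct_mulVec]
      simp [B, Matrix.toLinearMap₂'_apply']
    simp only [LinearMap.mem_ker, Matrix.mulVecLin_apply]
    constructor
    · intro hx
      exact dotProduct_eq_zero _ fun y => by rw [← key y, hx, LinearMap.zero_apply]
    · intro hx
      refine LinearMap.ext fun y => ?_
      rw [key y, hx, zero_dotProduct, LinearMap.zero_apply]
  have r1 := B.finrank_range_add_finrank_ker
  have r2 := Mᵀ.mulVecLin.finrank_range_add_finrank_ker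
  rw [hker] at r1
  have : Module.finrank K (LinearMap.range B) = Mᵀ.rank := by rw [Matrix.rank]; omega
  rw [this, Matrix.rank_transpose] at h
  exact h

/-- For an involution t of the symplectic group Sp_{2m}(F), m ≥ 2, F a finite field of characteristic two (matrices A with A J Aᵀ = J acting on column vectors, alternating form f(u, v) = u ⬝ (J v)): the set V(t) of vectors v with f(v, t v) = 0 has either q^{2m} or q^{2m−1} elements, q the order of F (it is a subspace of codimension at most 1), and if it is the whole space then t − 1 has even rank. -/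
theorem result {F : Type*} [Field F] [Fintype F] [CharP F 2] {m : ℕ} (hm : 2 ≤ m) (a : ↥(Matrix.symplecticGroup (Fin m) F)) (ha : orderOf a = 2) :
    (Nat.card {v : Fin m ⊕ Fin m → F // Cfsg.sympForm m F v (Matrix.mulVec ((a : ↥(Matrix.symplecticGroup (Fin m) F)) : Matrix (Fin m ⊕ Fin m) (Fin m ⊕ Fin m) F) v) = 0} = Fintype.card F ^ (2 * m) ∨ Nat.card {v : Fin m ⊕ Fin m → F // Cfsg.sympForm m F v (Matrix.mulVec ((a : ↥(Matrix.symplecticGroup (Fin m) F)) : Matrix (Fin m ⊕ Fin m) (Fin m ⊕ Fin m) F) v) = 0} * Fintype.card F = Fintype.card F ^ (2 * m)) ∧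
    ((∀ v : Fin m ⊕ Fin m → F, Cfsg.sympForm m F v (Matrix.mulVec ((a : ↥(Matrix.symplecticGroup (Fin m) F)) : Matrix (Fin m ⊕ Fin m) (Fin m ⊕ Fin m) F) v) = 0) → Even (((a : ↥(Matrix.symplecticGroup (Fin m) F)) : Matrix (Fin m ⊕ Fin m) (Fin m ⊕ Fin m) F) - 1).rank) := by
  set M : Matrix (Fin m ⊕ Fin m) (Fin m ⊕ Fin m) F := (a : Matrix (Fin m ⊕ Fin m) (Fin m ⊕ Fin m) F) with hM
  set J := Matrix.J (Fin m) F with hJ
  let f := Cfsg.sympForm m F
  have hsymm : M.transpose * J * M = J := SymplecticGroup.mem_iff'.mp a.2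
  have hMM : M * M = 1 := by
    have h : a * a = 1 := by rw [← pow_two, ← ha]; exact pow_orderOf_eq_one a
    exact congrArg Subtype.val h
  have hf : ∀ u v, f (M.mulVec u) (M.mulVec v) = f u v := by
    intro u v
    show dotProduct (M.mulVec u) (J.mulVec (M.mulVec v)) = dotProduct u (J.mulVec v)
    rw [Matrix.mulVec_mulVec, dotProduct_comm, Matrix.dotProduct_mulVec, ← Matrix.mulVec_transpose,
      Matrix.mulVec_mulVec, dotProduct_comm]
    congr 2
    rw [← Matrix.mul_assoc, hsymm]
  have hswap : ∀ u v, f u v = - f v u := by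
    intro u v
    show dotProduct u (J.mulVec v) = -(dotProduct v (J.mulVec u))
    rw [Matrix.dotProduct_mulVec, ← Matrix.mulVec_transpose, hJ, Matrix.J_transpose,
      Matrix.neg_mulVec, neg_dotProduct, dotProduct_comm]
  have hadd : ∀ u v, f (u + v) (M.mulVec (u + v)) = f u (M.mulVec u) + f v (M.mulVec v) := by
    intro u v
    have hcross : f v (M.mulVec u) = - f u (M.mulVec v) := by
      rw [← hf v, Matrix.mulVec_mulVec, hMM, Matrix.one_mulVec, hswap]
    simp only [f, Cfsg.sympForm, Matrix.mulVec_add, add_dotProduct, dotProduct_add] at hcross ⊢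
    linear_combination hcross
  let φ : (Fin m ⊕ Fin m → F) →+ F := AddMonoidHom.mk' (fun v => f v (M.mulVec v)) hadd
  have hsmul : ∀ (c : F) v, φ (c • v) = c ^ 2 * φ v := by
    intro c v
    simp [φ, f, Cfsg.sympForm, Matrix.mulVec_smul, smul_dotProduct, dotProduct_smul]
    ring
  refine ⟨?_, fun hall => ?_⟩
  · by_cases h0 : ∀ v, φ v = 0
    · left
      refine (Nat.card_congr (Equiv.subtypeUnivEquiv h0)).trans ?_
      rw [Nat.card_fun, Nat.card_eq_fintype_card,
        Nat.card_eq_fintype_card, Fintype.card_sum, Fintype.card_fin, two_mul]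
    · right
      push Not at h0
      obtain ⟨v, hv⟩ := h0
      have hrc : ringChar F = 2 := by rw [ringChar.eq F 2]
      have hsurj : Function.Surjective φ := by
        intro y
        obtain ⟨c, hc⟩ := FiniteField.isSquare_of_char_two hrc (y / φ v)
        refine ⟨c • v, ?_⟩
        rw [hsmul, pow_two, ← hc, div_mul_cancel₀ _ hv]
      have hcard := φ.ker.card_mul_index
      have hidx : φ.ker.index = Fintype.card F := by
        rw [AddSubgroup.index_ker, AddMonoidHom.range_eq_top.mpr hsurj]
        simp [Nat.card_eq_fintype_card]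
      rw [hidx, Nat.card_fun, Nat.card_eq_fintype_card (α := F), Nat.card_eq_fintype_card (α := Fin m ⊕ Fin m),
        Fintype.card_sum, Fintype.card_fin, ← two_mul] at hcard
      exact hcard
  · have hJu : IsUnit J.det := Matrix.isUnit_det_J (Fin m) F
    have halt := even_rank_of_alt (J * (M - 1)) (fun x => by
      rw [← Matrix.mulVec_mulVec, Matrix.sub_mulVec, Matrix.one_mulVec, Matrix.mulVec_sub, dotProduct_sub]
      have h1 : dotProduct x (J.mulVec (M.mulVec x)) = 0 := hall x
      have h2 : dotProduct x (J.mulVec x) = 0 := by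
        simp only [hJ, Matrix.J, Matrix.fromBlocks_mulVec]
        simp [dotProduct, Fintype.sum_sum_type, Matrix.neg_mulVec, ← Finset.sum_add_distrib, mul_comm]
      rw [h1, h2, sub_zero])
    rwa [Matrix.rank_mul_eq_right_of_isUnit_det J _ hJu] at halt

end Cfsg.Agent.S2167
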