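import Cfsg.Statements.S2172
import Cfsg.Agent.Lib.Orthogonal.CharTwoInv.Std

set_option autoImplicit false
open Cfsg Matrix

namespace Cfsg.Agent.S2172

/-- Splitting of involution classes from O to Ω for the hyperbolic quadratic form Q = Σ x_i y_i in dimension 2m over a finite field F of characteristic two, m ≥ 4. Let t, s be involutions of the commutator subgroup Ω that are conjugate in the full isometry group O. If it is not the case that t − 1 has rank m and Q(v + t v) = 0 for every vector v, then t and s are conjugate by an element of Ω. If t − 1 has rank m and Q(v + t v) = 0 for all v, then t and s are conjugate by an element of Ω exactly when the intersection of the images of t − 1 and s − 1 has even dimension (so the class of t in O meets at most two classes of Ω). -/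
theorem result {F : Type*} [Field F] [Fintype F] [CharP F 2] {m : ℕ} (hm : 4 ≤ m) (t s : ↥(Cfsg.isometryGroup F (Cfsg.quadFormPlus m F))) (ht : orderOf t = 2) (hs : orderOf s = 2) (htO : t ∈ Cfsg.Omega F (Cfsg.quadFormPlus m F)) (hsO : s ∈ Cfsg.Omega F (Cfsg.quadFormPlus m F)) (hconj : IsConj t s) :
    (¬ (((((t : ↥(Cfsg.isometryGroup F (Cfsg.quadFormPlus m F))) : GL (Fin m ⊕ Fin m) F) : Matrix (Fin m ⊕ Fin m) (Fin m ⊕ Fin m) F) - 1).rank = m ∧ ∀ v : Fin m ⊕ Fin m → F, Cfsg.quadFormPlus m F (v + Matrix.mulVec (((t : ↥(Cfsg.isometryGroup F (Cfsg.quadFormPlus m F))) : GL (Fin m ⊕ Fin m) F) : Matrix (Fin m ⊕ Fin m) (Fin m ⊕ Fin m) F) v) = 0) →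
      ∃ g ∈ Cfsg.Omega F (Cfsg.quadFormPlus m F), g * t * g⁻¹ = s) ∧
    ((((((t : ↥(Cfsg.isometryGroup F (Cfsg.quadFormPlus m F))) : GL (Fin m ⊕ Fin m) F) : Matrix (Fin m ⊕ Fin m) (Fin m ⊕ Fin m) F) - 1).rank = m ∧ ∀ v : Fin m ⊕ Fin m → F, Cfsg.quadFormPlus m F (v + Matrix.mulVec (((t : ↥(Cfsg.isometryGroup F (Cfsg.quadFormPlus m F))) : GL (Fin m ⊕ Fin m) F) : Matrix (Fin m ⊕ Fin m) (Fin m ⊕ Fin m) F) v) = 0) →
      ((∃ g ∈ Cfsg.Omega F (Cfsg.quadFormPlus m F), g * t * g⁻¹ = s) ↔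
        Even (Module.finrank F ↥(LinearMap.range (Matrix.toLin' ((((t : ↥(Cfsg.isometryGroup F (Cfsg.quadFormPlus m F))) : GL (Fin m ⊕ Fin m) F) : Matrix (Fin m ⊕ Fin m) (Fin m ⊕ Fin m) F) - 1)) ⊓ LinearMap.range (Matrix.toLin' ((((s : ↥(Cfsg.isometryGroup F (Cfsg.quadFormPlus m F))) : GL (Fin m ⊕ Fin m) F) : Matrix (Fin m ⊕ Fin m) (Fin m ⊕ Fin m) F) - 1)))))) := by
  revert t s
  rw [← Agent.Orth.coe_qPlus]
  intro t s ht hs htO hsO hconj
  have hQ := Agent.Orth.qPlus_nondeg (F := F) m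
  have hn : 2 ≤ Fintype.card (Fin m ⊕ Fin m) := by simp; omega
  have hne : Fintype.card F ≠ 2 ∨ Fintype.card (Fin m ⊕ Fin m) ≠ 4 := Or.inr (by simp; omega)
  have hV : Fintype.card (Fin m ⊕ Fin m) = 2 * m := by simp; omega
  obtain ⟨ht1, -⟩ := (Agent.OrthInv2.orderOf_two_iff t).1 ht
  obtain ⟨u, hu⟩ := isConj_iff.1 hconj
  have hu' : u * t = s * u := mul_inv_eq_iff_eq_mul.1 hu
  have halt : Agent.OrthInv2.AltInv t ↔ ∀ v, Agent.Orth.qPlus F m (v + Agent.OrthInv2.isoMat t *ᵥ v) = 0 :=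
    forall_congr' fun v => by rw [Agent.OrthInv2.nilOf_apply, add_comm]
  refine ⟨fun h => ?_, fun h => ?_⟩
  · obtain ⟨w, hw, hw0⟩ := Agent.OrthInv2.exists_fixed hQ (Agent.OrthInv2.isInv_nilOf ht1)
      (n := m) (by rw [Module.finrank_fintype_fun_eq_card, hV]) (by
        by_cases ha : Agent.OrthInv2.AltInv t
        · have hle := Agent.OrthInv2.rk_le hQ ht1
          rw [hV] at hle
          refine Or.inr (lt_of_le_of_ne (by rw [← Agent.OrthInv2.rk_eq]; omega) fun e => h ⟨e, halt.1 ha⟩)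
        · exact Or.inl (not_forall.1 ha))
    exact Agent.OrthInv2.conj_omega_of_fixed hQ hn hne hu' hw hw0
  · obtain ⟨r, hr⟩ := (Agent.OrthInv2.mem_omega_iff hQ hn hne ht1).1 htO
    have hm2 : Even m := ⟨r, by rw [← hr]; exact h.1.symm⟩
    refine (Agent.OrthInv2.conj_omega_split hQ hn hne hV ht1 hu' (halt.2 h.2) h.1).trans ?_
    rw [Nat.even_add]
    exact ⟨fun e => e.1 hm2, fun e => iff_of_true hm2 e⟩

end Cfsg.Agent.S2172
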