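import Cfsg.Statements.S2173
import Cfsg.Agent.Lib.Orthogonal.CharTwoInv.Std

set_option autoImplicit false
open Cfsg Matrix

namespace Cfsg.Agent.S2173

/-- For the quadratic form Σ x_i y_i + (z₁² + c z₁ z₂ + d z₂²) in dimension 2m with anisotropic binary part over a finite field F of characteristic two, m ≥ 4 (minus type): two involutions of the commutator subgroup Ω that are conjugate in the full isometry group O are conjugate by an element of Ω (no class of involutions of O inside Ω splits). -/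
theorem result {F : Type*} [Field F] [Fintype F] [CharP F 2] {m : ℕ} (hm : 4 ≤ m) (c d : F) (hcd : ∀ z₁ z₂ : F, z₁ ^ 2 + c * z₁ * z₂ + d * z₂ ^ 2 = 0 → z₁ = 0 ∧ z₂ = 0) (t s : ↥(Cfsg.isometryGroup F (Cfsg.quadFormMinus (m - 1) F c d))) (ht : orderOf t = 2) (hs : orderOf s = 2) (htO : t ∈ Cfsg.Omega F (Cfsg.quadFormMinus (m - 1) F c d)) (hsO : s ∈ Cfsg.Omega F (Cfsg.quadFormMinus (m - 1) F c d)) (hconj : IsConj t s) :
    ∃ g ∈ Cfsg.Omega F (Cfsg.quadFormMinus (m - 1) F c d), g * t * g⁻¹ = s := by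
  revert t s
  rw [← Agent.Orth.coe_qMinus]
  intro t s ht hs htO hsO hconj
  have hQ := Agent.Orth.qMinus_nondeg hcd (m - 1)
  obtain ⟨ht1, -⟩ := (Agent.OrthInv2.orderOf_two_iff t).1 ht
  obtain ⟨u, hu⟩ := isConj_iff.1 hconj
  obtain ⟨w, hw, hw0⟩ := Agent.OrthInv2.exists_fixed hQ (Agent.OrthInv2.isInv_nilOf ht1) (n := m - 1 + 1)
    (by rw [Module.finrank_fintype_fun_eq_card]; simp; omega) (by
      by_cases ha : Agent.OrthInv2.AltInv t
      · have hle : Agent.OrthInv2.rk t ≤ m - 1 := Agent.OrthInv2.singular_le_minus hcd (m - 1)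
          (W := LinearMap.range (Agent.OrthInv2.nilOf t)) (by rintro _ ⟨v, rfl⟩; exact ha v)
        exact Or.inr (by rw [← Agent.OrthInv2.rk_eq]; omega)
      · exact Or.inl (not_forall.1 ha))
  exact Agent.OrthInv2.conj_omega_of_fixed hQ (by simp) (Or.inr (by simp; omega)) (mul_inv_eq_iff_eq_mul.1 hu) hw hw0

end Cfsg.Agent.S2173
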