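import Cfsg.Statements.S2177
import Cfsg.Agent.Lib.ChevAut.G2InvClass

set_option autoImplicit false
set_option maxRecDepth 8000
open Cfsg

namespace Cfsg.Agent.S2177

/-- Conjugacy classes of involutions in the Chevalley group of type G₂ over a finite field F of characteristic two with at least four elements (the matrix group generated by the root elements x_r(t)). In this problem's root numbering for type G₂ (the Chevalley data module; p₁ = a short, p₂ = b long; roots indexed by coefficient vectors in increasing order) let 11 be the highest root 3a + 2b (long) and 9 the short root 2a + b; consider x_{3a+2b}(1) and x_{2a+b}(1). Then: each invertible matrix equal to one of these two products lies in the group and has order 2; every element of order 2 of the group is conjugate in the group to one of them; and no two of them are conjugate in the group (so, the two matrices being distinct, the group has exactly two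 conjugacy classes of involutions). -/
theorem result {F : Type*} [Field F] [Fintype F] [CharP F 2] (hF : 4 ≤ Fintype.card F) :
    (∀ y : GL Cfsg.Lie.chevG2.Idx F, ((y : GL Cfsg.Lie.chevG2.Idx F) : Matrix Cfsg.Lie.chevG2.Idx Cfsg.Lie.chevG2.Idx F) ∈ [Cfsg.Lie.chevG2.x F 11 1, Cfsg.Lie.chevG2.x F 9 1] → y ∈ Cfsg.Lie.chevG2.group F ∧ orderOf y = 2) ∧
    (∀ g ∈ Cfsg.Lie.chevG2.group F, orderOf g = 2 → ∃ y ∈ Cfsg.Lie.chevG2.group F, ((y : GL Cfsg.Lie.chevG2.Idx F) : Matrix Cfsg.Lie.chevG2.Idx Cfsg.Lie.chevG2.Idx F) ∈ [Cfsg.Lie.chevG2.x F 11 1, Cfsg.Lie.chevG2.x F 9 1] ∧ ∃ h ∈ Cfsg.Lie.chevG2.group F, h * g * h⁻¹ = y) ∧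
    (∀ y₁ ∈ Cfsg.Lie.chevG2.group F, ∀ y₂ ∈ Cfsg.Lie.chevG2.group F, ((y₁ : GL Cfsg.Lie.chevG2.Idx F) : Matrix Cfsg.Lie.chevG2.Idx Cfsg.Lie.chevG2.Idx F) ∈ [Cfsg.Lie.chevG2.x F 11 1, Cfsg.Lie.chevG2.x F 9 1] → ((y₂ : GL Cfsg.Lie.chevG2.Idx F) : Matrix Cfsg.Lie.chevG2.Idx Cfsg.Lie.chevG2.Idx F) ∈ [Cfsg.Lie.chevG2.x F 11 1, Cfsg.Lie.chevG2.x F 9 1] →
      (∃ h ∈ Cfsg.Lie.chevG2.group F, h * y₁ * h⁻¹ = y₂) → ((y₁ : GL Cfsg.Lie.chevG2.Idx F) : Matrix Cfsg.Lie.chevG2.Idx Cfsg.Lie.chevG2.Idx F) = ((y₂ : GL Cfsg.Lie.chevG2.Idx F) : Matrix Cfsg.Lie.chevG2.Idx Cfsg.Lie.chevG2.Idx F)) := by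
  have _ := hF
  have hg := (ChevAut.G2Inv.gA).toGood
  have e11 : Units.val (ChevAut.G2Inv.X 11 (1 : F)) = Cfsg.Lie.chevG2.x F 11 1 := Chev.Tab.xg_val hg _ _
  have e9 : Units.val (ChevAut.G2Inv.X 9 (1 : F)) = Cfsg.Lie.chevG2.x F 9 1 := Chev.Tab.xg_val hg _ _
  have hrep : ∀ y : GL Cfsg.Lie.chevG2.Idx F, ((y : GL Cfsg.Lie.chevG2.Idx F) : Matrix Cfsg.Lie.chevG2.Idx Cfsg.Lie.chevG2.Idx F) ∈
      [Cfsg.Lie.chevG2.x F 11 1, Cfsg.Lie.chevG2.x F 9 1] → y = ChevAut.G2Inv.X 11 (1 : F) ∨ y = ChevAut.G2Inv.X 9 (1 : F) := by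
    intro y hy
    simp only [List.mem_cons, List.not_mem_nil, or_false] at hy
    rcases hy with hy | hy
    · exact Or.inl (Units.ext (hy.trans e11.symm))
    · exact Or.inr (Units.ext (hy.trans e9.symm))
  refine ⟨fun y hy => ?_, fun g hg' ho => ?_, fun y₁ _ y₂ _ h₁ h₂ hc => ?_⟩
  · rcases hrep y hy with rfl | rfl
    · exact ⟨ChevAut.G2Inv.X_group _ _, ChevAut.G2Inv.order_two (by norm_num)⟩
    · exact ⟨ChevAut.G2Inv.X_group _ _, ChevAut.G2Inv.order_two (by norm_num)⟩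
  · have h2 : g * g = 1 := by rw [← pow_two, ← ho]; exact pow_orderOf_eq_one g
    have h1 : g ≠ 1 := fun h => by rw [h, orderOf_one] at ho; omega
    obtain ⟨h, hh, e | e⟩ := ChevAut.G2Inv.cls_group hg' h2 h1
    · exact ⟨_, ChevAut.G2Inv.X_group _ _, by rw [e11]; simp, h, hh, e⟩
    · exact ⟨_, ChevAut.G2Inv.X_group _ _, by rw [e9]; simp, h, hh, e⟩
  · obtain ⟨h, hh, e⟩ := hc
    rcases hrep y₁ h₁ with rfl | rfl <;> rcases hrep y₂ h₂ with rfl | rfl
    · rfl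
    · exact absurd e (ChevAut.G2Inv.not_conj hh)
    · exact absurd e (ChevAut.G2Inv.not_conj' hh)
    · rfl

end Cfsg.Agent.S2177
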