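import Cfsg.Statements.S2178
import Cfsg.Agent.Lib.ChevAut.LongCentralizer

set_option autoImplicit false
set_option maxRecDepth 8000
open Cfsg

namespace Cfsg.Agent.S2178

/-- Centralizers of the long and the short root involutions in the Chevalley group G of type F₄ over a finite field F of characteristic two (this problem's root numbering for type F₄, from the Chevalley data module: fundamental roots p₁, p₂ short, p₃, p₄ long, with indices 33, 27, 25, 24, their negatives 14, 20, 22, 23; highest root 47, highest short root 44; U the subgroup generated by the positive root subgroups). For an element t of G with matrix x_47(1): the centralizer of t in G is the subgroup generated by U and the root subgroups X_{−p₁}, X_{−p₂}, X_{−p₃} (the unipotent radical of the maximal parabolic subgroup whose Levi factor has fundamental roots p₁, p₂, p₃, together with that Levi factor's root subgroups; the Levi factor is of type C₃). For an element u of G with matrix x_44(1): the centralizer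 of u in G is generated by U and X_{−p₂}, X_{−p₃}, X_{−p₄} (the same construction for the Levi factor with fundamental roots p₂, p₃, p₄, of type B₃). -/
theorem result {F : Type*} [Field F] [Fintype F] [CharP F 2] (t u : GL Cfsg.Lie.chevF4.Idx F) (ht : (t : Matrix Cfsg.Lie.chevF4.Idx Cfsg.Lie.chevF4.Idx F) = Cfsg.Lie.chevF4.x F 47 1) (hu : (u : Matrix Cfsg.Lie.chevF4.Idx Cfsg.Lie.chevF4.Idx F) = Cfsg.Lie.chevF4.x F 44 1) :
    Cfsg.Lie.chevF4.group F ⊓ Subgroup.centralizer {t} = Cfsg.Lie.chevF4.posUnipotent F ⊔ Cfsg.Lie.chevF4.rootSubgroup F 14 ⊔ Cfsg.Lie.chevF4.rootSubgroup F 20 ⊔ Cfsg.Lie.chevF4.rootSubgroup F 22 ∧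
    Cfsg.Lie.chevF4.group F ⊓ Subgroup.centralizer {u} = Cfsg.Lie.chevF4.posUnipotent F ⊔ Cfsg.Lie.chevF4.rootSubgroup F 20 ⊔ Cfsg.Lie.chevF4.rootSubgroup F 22 ⊔ Cfsg.Lie.chevF4.rootSubgroup F 23 := by
  have key : ∀ (R : ℕ) (S : List ℕ) (i₀ : ℕ), ChevAut.checkCent Chev.F4Data.tab R S i₀ = true →
      ∀ x : GL Cfsg.Lie.chevF4.Idx F, (x : Matrix Cfsg.Lie.chevF4.Idx Cfsg.Lie.chevF4.Idx F) = Cfsg.Lie.chevF4.x F R 1 →
      Cfsg.Lie.chevF4.group F ⊓ Subgroup.centralizer {x} =
        Chev.Tab.genS (T := Chev.F4Data.tab) Chev.F4Data.good F {r | r < Chev.F4Data.tab.n ∧ (Chev.F4Data.tab.N ≤ r ∨ r ∈ S)} := by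
    intro R S i₀ hc x hx
    rw [show x = Chev.Tab.xg Chev.F4Data.good R (1 : F) from Chev.Tab.eq_xg Chev.F4Data.good hx]
    exact ChevAut.long_centralizer ⟨Chev.F4Data.good, by decide +kernel⟩ hc
  have key' : ∀ a b c : ℕ, a < Chev.F4Data.tab.n → b < Chev.F4Data.tab.n → c < Chev.F4Data.tab.n →
      Chev.Tab.genS (T := Chev.F4Data.tab) Chev.F4Data.good F {r | r < Chev.F4Data.tab.n ∧ (Chev.F4Data.tab.N ≤ r ∨ r ∈ [a, b, c])} =
      Cfsg.Lie.chevF4.posUnipotent F ⊔ Cfsg.Lie.chevF4.rootSubgroup F a ⊔ Cfsg.Lie.chevF4.rootSubgroup F b ⊔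
        Cfsg.Lie.chevF4.rootSubgroup F c := by
    intro a b c ha hb hc
    have hg := Chev.F4Data.good
    rw [show Cfsg.Lie.chevF4.posUnipotent F = _ from Chev.Tab.posUnipotent_eq hg]
    refine le_antisymm (Chev.Tab.genS_le hg ?_) (sup_le (sup_le (sup_le
      (Chev.Tab.genS_mono hg fun r hr => ⟨hr.2, Or.inl hr.1⟩) ?_) ?_) ?_)
    · rintro r ⟨hr, h⟩ t
      simp only [List.mem_cons, List.not_mem_nil, or_false] at h
      rcases h with h | rfl | rfl | rfl
      · exact Subgroup.mem_sup_left (Subgroup.mem_sup_left (Subgroup.mem_sup_left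
          (Chev.Tab.xg_mem_genS hg (show r ∈ Set.Ico Chev.F4Data.tab.N Chev.F4Data.tab.n from ⟨h, hr⟩) t)))
      · exact Subgroup.mem_sup_left (Subgroup.mem_sup_left (Subgroup.mem_sup_right
          ((Chev.Tab.mem_rootSubgroup_iff hg).2 ⟨t, rfl⟩)))
      · exact Subgroup.mem_sup_left (Subgroup.mem_sup_right ((Chev.Tab.mem_rootSubgroup_iff hg).2 ⟨t, rfl⟩))
      · exact Subgroup.mem_sup_right ((Chev.Tab.mem_rootSubgroup_iff hg).2 ⟨t, rfl⟩)
    all_goals
      intro y hy
      obtain ⟨t, rfl⟩ := (Chev.Tab.mem_rootSubgroup_iff hg).1 hy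
      exact Chev.Tab.xg_mem_genS hg (S := {r | r < Chev.F4Data.tab.n ∧ (Chev.F4Data.tab.N ≤ r ∨ r ∈ [a, b, c])})
        ⟨by assumption, Or.inr (by simp)⟩ t
  exact ⟨(key 47 [14, 20, 22] 3 (by decide +kernel) t ht).trans
      (key' 14 20 22 (by decide +kernel) (by decide +kernel) (by decide +kernel)),
    (key 44 [20, 22, 23] 0 (by decide +kernel) u hu).trans
      (key' 20 22 23 (by decide +kernel) (by decide +kernel) (by decide +kernel))⟩

end Cfsg.Agent.S2178
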