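import Cfsg.Statements.S2179
import Cfsg.Agent.Lib.ChevAut.F4InvCent

set_option autoImplicit false
set_option maxRecDepth 8000
open Cfsg

namespace Cfsg.Agent.S2179

/-- Centralizers of the two remaining classes of involutions in the Chevalley group G of type F₄ over a finite field F of characteristic two (this problem's root numbering for type F₄, from the Chevalley data module: p₁, p₂ short, p₃, p₄ long with indices 33, 27, 25, 24 and negatives 14, 20, 22, 23; U generated by the positive root subgroups). For an element of G with matrix x_47(1)x_44(1) (highest root times highest short root): its centralizer in G is generated by U, X_{−p₂} and X_{−p₃}. For an element of G with matrix x_39(1)x_45(1) (roots (1,2,2,1) and (2,4,2,1), an orthogonal short/long pair): its centralizer in G is generated by X_{p₁}, X_{−p₁}, X_{p₄}, X_{−p₄} and the root subgroups of all positive roots other than p₂ (27), p₃ (25), p₁ + p₂ (34) and p₃ + p₄ (26). -/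
theorem result {F : Type*} [Field F] [Fintype F] [CharP F 2] (w v : GL Cfsg.Lie.chevF4.Idx F) (hw : (w : Matrix Cfsg.Lie.chevF4.Idx Cfsg.Lie.chevF4.Idx F) = Cfsg.Lie.chevF4.x F 47 1 * Cfsg.Lie.chevF4.x F 44 1) (hv : (v : Matrix Cfsg.Lie.chevF4.Idx Cfsg.Lie.chevF4.Idx F) = Cfsg.Lie.chevF4.x F 39 1 * Cfsg.Lie.chevF4.x F 45 1) :
    Cfsg.Lie.chevF4.group F ⊓ Subgroup.centralizer {w} = Cfsg.Lie.chevF4.posUnipotent F ⊔ Cfsg.Lie.chevF4.rootSubgroup F 20 ⊔ Cfsg.Lie.chevF4.rootSubgroup F 22 ∧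
    Cfsg.Lie.chevF4.group F ⊓ Subgroup.centralizer {v} = Cfsg.Lie.chevF4.rootSubgroup F 33 ⊔ Cfsg.Lie.chevF4.rootSubgroup F 14 ⊔ Cfsg.Lie.chevF4.rootSubgroup F 24 ⊔ Cfsg.Lie.chevF4.rootSubgroup F 23 ⊔
      Subgroup.closure {g : GL Cfsg.Lie.chevF4.Idx F | ∃ (r : ℕ) (c : F), Cfsg.Lie.chevF4.IsPosRoot r ∧ r ∉ [27, 25, 34, 26] ∧ (g : Matrix Cfsg.Lie.chevF4.Idx Cfsg.Lie.chevF4.Idx F) = Cfsg.Lie.chevF4.x F r c} := by
  have hg := (ChevAut.F4Inv.gA).toGood
  have hw' : w = ChevAut.F4Inv.X 47 (1 : F) * ChevAut.F4Inv.X 44 (1 : F) :=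
    Units.ext (hw.trans (by rw [Units.val_mul, Chev.Tab.xg_val, Chev.Tab.xg_val]; rfl))
  have hv' : v = ChevAut.F4Inv.X 39 (1 : F) * ChevAut.F4Inv.X 45 (1 : F) :=
    Units.ext (hv.trans (by rw [Units.val_mul, Chev.Tab.xg_val, Chev.Tab.xg_val]; rfl))
  rw [show Cfsg.Lie.chevF4.posUnipotent F = _ from Chev.Tab.posUnipotent_eq hg, hw', hv']
  have hpos : ∀ r, Cfsg.Lie.chevF4.IsPosRoot r ↔ 24 ≤ r ∧ r < 48 := fun r =>
    hg.isPosRoot_iff r
  refine ⟨ChevAut.F4Inv.w_centralizer.trans ?_, ChevAut.F4Inv.v_centralizer.trans ?_⟩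
  · refine le_antisymm (Chev.Tab.genS_le hg ?_) (sup_le (sup_le (Chev.Tab.genS_mono hg fun r hr => ?_) ?_) ?_)
    · rintro r ⟨hr, h⟩ s
      simp only [ChevAut.F4Inv.inW, Bool.or_eq_true, Chev.nat_ble, List.elem_eq_mem, decide_eq_true_eq,
        List.mem_cons, List.not_mem_nil, or_false] at h
      rcases h with h | rfl | rfl
      · exact Subgroup.mem_sup_left (Subgroup.mem_sup_left (Chev.Tab.xg_mem_genS hg
          (show r ∈ Set.Ico ChevAut.F4Inv.T.N ChevAut.F4Inv.T.n from ⟨h, hr⟩) s))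
      · exact Subgroup.mem_sup_left (Subgroup.mem_sup_right ((Chev.Tab.mem_rootSubgroup_iff hg).2 ⟨s, rfl⟩))
      · exact Subgroup.mem_sup_right ((Chev.Tab.mem_rootSubgroup_iff hg).2 ⟨s, rfl⟩)
    · exact ⟨hr.2, by simp only [ChevAut.F4Inv.inW, Bool.or_eq_true, Chev.nat_ble]; exact Or.inl hr.1⟩
    all_goals
      intro y hy
      obtain ⟨s, rfl⟩ := (Chev.Tab.mem_rootSubgroup_iff hg).1 hy
      exact Chev.Tab.xg_mem_genS hg (S := {r | r < 48 ∧ ChevAut.F4Inv.inW r = true})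
        ⟨by norm_num, by decide⟩ s
  · refine le_antisymm (Chev.Tab.genS_le hg ?_) (sup_le (sup_le (sup_le (sup_le ?_ ?_) ?_) ?_) ?_)
    · rintro r ⟨hr, h⟩ s
      simp only [ChevAut.F4Inv.inV, Bool.or_eq_true, Bool.and_eq_true, Chev.nat_ble, Bool.not_eq_true',
        List.elem_eq_mem, decide_eq_true_eq, decide_eq_false_iff_not,
        List.mem_cons, List.not_mem_nil, or_false] at h
      rcases h with ⟨h, hne⟩ | rfl | rfl
      · refine Subgroup.mem_sup_right (Subgroup.subset_closure ⟨r, s, (hpos r).2 ⟨h, hr⟩, ?_,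
          Chev.Tab.xg_val hg _ _⟩)
        simp only [List.mem_cons, List.not_mem_nil, or_false]
        omega
      · exact Subgroup.mem_sup_left (Subgroup.mem_sup_left (Subgroup.mem_sup_left
          (Subgroup.mem_sup_right ((Chev.Tab.mem_rootSubgroup_iff hg).2 ⟨s, rfl⟩))))
      · exact Subgroup.mem_sup_left (Subgroup.mem_sup_right ((Chev.Tab.mem_rootSubgroup_iff hg).2 ⟨s, rfl⟩))
    rotate_right 1
    · refine (Subgroup.closure_le _).2 ?_
      rintro y ⟨r, s, hr, hne, hy⟩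
      obtain ⟨h1, h2⟩ := (hpos r).1 hr
      rw [show y = Chev.Tab.xg hg r s from Chev.Tab.eq_xg hg hy]
      refine Chev.Tab.xg_mem_genS hg (S := {r | r < 48 ∧ ChevAut.F4Inv.inV r = true}) ⟨h2, ?_⟩ s
      simp only [List.mem_cons, List.not_mem_nil, or_false] at hne
      simp only [ChevAut.F4Inv.inV, Bool.or_eq_true, Bool.and_eq_true, Chev.nat_ble, Bool.not_eq_true',
        List.elem_eq_mem, decide_eq_false_iff_not, List.mem_cons, List.not_mem_nil, or_false]
      exact Or.inl ⟨h1, by omega⟩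
    all_goals
      intro y hy
      obtain ⟨s, rfl⟩ := (Chev.Tab.mem_rootSubgroup_iff hg).1 hy
      exact Chev.Tab.xg_mem_genS hg (S := {r | r < 48 ∧ ChevAut.F4Inv.inV r = true})
        ⟨by norm_num, by decide⟩ s

end Cfsg.Agent.S2179
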