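import Cfsg.Statements.S2180
import Cfsg.Agent.Lib.ChevAut.G2InvCent
import Cfsg.Agent.Lib.ChevAut.LongCentralizer

set_option autoImplicit false
set_option maxRecDepth 8000
open Cfsg

namespace Cfsg.Agent.S2180

/-- Centralizers of involutions in the Chevalley group G of type G₂ over a finite field F of characteristic two with at least four elements (this problem's root numbering for type G₂, from the Chevalley data module: a = p₁ short with index 7, b = p₂ long with index 6, −a = 4, −b = 5, 2a + b = 9, 3a + b = 10, 3a + 2b = 11; U generated by the positive root subgroups). For an element z of G with matrix x_{3a+2b}(1): the centralizer of z in G is generated by U and X_{−a}. For an element t of G with matrix x_{2a+b}(1): the centralizer of t in G is generated by X_{2a+b}, X_{3a+b}, X_{3a+2b}, X_b and X_{−b}. -/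
theorem result {F : Type*} [Field F] [Fintype F] [CharP F 2] (hF : 4 ≤ Fintype.card F) (z t : GL Cfsg.Lie.chevG2.Idx F) (hz : (z : Matrix Cfsg.Lie.chevG2.Idx Cfsg.Lie.chevG2.Idx F) = Cfsg.Lie.chevG2.x F 11 1) (ht : (t : Matrix Cfsg.Lie.chevG2.Idx Cfsg.Lie.chevG2.Idx F) = Cfsg.Lie.chevG2.x F 9 1) :
    Cfsg.Lie.chevG2.group F ⊓ Subgroup.centralizer {z} = Cfsg.Lie.chevG2.posUnipotent F ⊔ Cfsg.Lie.chevG2.rootSubgroup F 4 ∧
    Cfsg.Lie.chevG2.group F ⊓ Subgroup.centralizer {t} = Cfsg.Lie.chevG2.rootSubgroup F 9 ⊔ Cfsg.Lie.chevG2.rootSubgroup F 10 ⊔ Cfsg.Lie.chevG2.rootSubgroup F 11 ⊔ Cfsg.Lie.chevG2.rootSubgroup F 6 ⊔ Cfsg.Lie.chevG2.rootSubgroup F 5 := by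
  have hg := (ChevAut.G2Inv.gA).toGood
  rw [show Cfsg.Lie.chevG2.posUnipotent F = _ from Chev.Tab.posUnipotent_eq hg,
    show z = Chev.Tab.xg hg 11 (1 : F) from Chev.Tab.eq_xg hg hz,
    show t = Chev.Tab.xg hg 9 (1 : F) from Chev.Tab.eq_xg hg ht]
  refine ⟨(ChevAut.long_centralizer ChevAut.G2Inv.gA (R := 11) (S := [4]) (i₀ := 1) (by decide +kernel)).trans ?_,
    ChevAut.G2Inv.short_centralizer.trans ?_⟩
  · refine le_antisymm (Chev.Tab.genS_le hg ?_) (sup_le (Chev.Tab.genS_mono hg fun r hr => ⟨hr.2, Or.inl hr.1⟩) ?_)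
    · rintro r ⟨hr, h⟩ s
      rcases h with h | h
      · exact Subgroup.mem_sup_left (Chev.Tab.xg_mem_genS hg
          (show r ∈ Set.Ico ChevAut.G2Inv.T.N ChevAut.G2Inv.T.n from ⟨h, hr⟩) s)
      · obtain rfl := List.mem_singleton.1 h
        exact Subgroup.mem_sup_right ((Chev.Tab.mem_rootSubgroup_iff hg).2 ⟨s, rfl⟩)
    · intro y hy
      obtain ⟨s, rfl⟩ := (Chev.Tab.mem_rootSubgroup_iff hg).1 hy
      exact Chev.Tab.xg_mem_genS hg (S := {r | r < ChevAut.G2Inv.T.n ∧ (ChevAut.G2Inv.T.N ≤ r ∨ r ∈ [4])})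
        ⟨by decide +kernel, Or.inr (by simp)⟩ s
  · refine le_antisymm (Chev.Tab.genS_le hg ?_) ?_
    · intro r hr s
      simp only [Set.mem_insert_iff, Set.mem_singleton_iff] at hr
      have hm : ∀ r : ℕ, Chev.Tab.xg hg r s ∈ Cfsg.Lie.chevG2.rootSubgroup F r :=
        fun r => (Chev.Tab.mem_rootSubgroup_iff hg).2 ⟨s, rfl⟩
      rcases hr with rfl | rfl | rfl | rfl | rfl
      · exact Subgroup.mem_sup_right (hm 5)
      · exact Subgroup.mem_sup_left (Subgroup.mem_sup_right (hm 6))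
      · exact Subgroup.mem_sup_left (Subgroup.mem_sup_left (Subgroup.mem_sup_left (Subgroup.mem_sup_left (hm 9))))
      · exact Subgroup.mem_sup_left (Subgroup.mem_sup_left (Subgroup.mem_sup_left (Subgroup.mem_sup_right (hm 10))))
      · exact Subgroup.mem_sup_left (Subgroup.mem_sup_left (Subgroup.mem_sup_right (hm 11)))
    · refine sup_le (sup_le (sup_le (sup_le ?_ ?_) ?_) ?_) ?_ <;>
      · intro y hy
        obtain ⟨s, rfl⟩ := (Chev.Tab.mem_rootSubgroup_iff hg).1 hy
        exact Chev.Tab.xg_mem_genS hg (S := ({5, 6, 9, 10, 11} : Set ℕ)) (by simp) s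

end Cfsg.Agent.S2180
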