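import Cfsg.Statements.S2205
import Cfsg.Agent.Lib.DoublyPrim.Normal
import Cfsg.Agent.Lib.DoublyPrim.Grid
import Cfsg.Agent.Lib.DoublyPrim.Reduce

set_option autoImplicit false
set_option linter.style.haveILetI false
open Cfsg

namespace Cfsg.Agent.S2205

open MulAction Finset Cfsg.Agent.DoublyPrim Pointwise

/-- An imprimitive point stabiliser gives a block system. -/
theorem exists_sys {G Ω : Type*} [Group G] [Finite G] [Fintype Ω] [DecidableEq Ω] [MulAction G Ω]
    [FaithfulSMul G Ω] (p : ℕ) (hp : p.Prime) (hΩ : Fintype.card Ω = p ^ 2 + 1)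
    (htr : ∀ x y x' y' : Ω, x ≠ y → x' ≠ y' → ∃ g : G, g • x = x' ∧ g • y = y') (a : Ω)
    (hprim : ¬ MulAction.IsPreprimitive (MulAction.stabilizer G a) (SubMulAction.ofStabilizer G a)) :
    Nonempty (Sys G Ω a p) := by
  classical
  set X := SubMulAction.ofStabilizer G a
  haveI hX : IsPretransitive (stabilizer G a) X := ⟨fun x y => by
    obtain ⟨g, hga, hgx⟩ := htr a x.1 a y.1 (Ne.symm x.2) (Ne.symm y.2)
    exact ⟨⟨g, hga⟩, Subtype.ext hgx⟩⟩
  obtain ⟨B, hB, hnt⟩ : ∃ B : Set X, IsBlock (stabilizer G a) B ∧ ¬ IsTrivialBlock B := by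
    by_contra h
    push Not at h
    exact hprim ⟨fun {B} hB => h B hB⟩
  obtain ⟨hns, hnu⟩ := not_or.1 hnt
  rw [Set.not_subsingleton_iff] at hns
  have hne : B.Nonempty := hns.nonempty
  have hXc : Nat.card X = p ^ 2 := by
    have e : Nat.card X = Nat.card {y : Ω // y ≠ a} :=
      Nat.card_congr (Equiv.subtypeEquivRight fun y => SubMulAction.mem_ofStabilizer_iff G a)
    rw [e, Nat.card_eq_fintype_card, Fintype.card_subtype_compl, hΩ]
    simp
  have hBc : B.ncard = p := by
    obtain ⟨i, hi, he⟩ := (Nat.dvd_prime_pow hp).1 (hXc ▸ hB.ncard_dvd_card hne)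
    interval_cases i
    · rw [pow_zero] at he
      obtain ⟨z, hz⟩ := Set.ncard_eq_one.1 he
      exact absurd (hz ▸ Set.subsingleton_singleton) (Set.not_subsingleton_iff.2 hns)
    · rwa [pow_one] at he
    · exact absurd ((Set.eq_univ_iff_ncard B).2 (he.trans hXc.symm)) hnu
  let C : Set Ω := Subtype.val '' B
  have hCa : ∀ u ∈ C, u ≠ a := by rintro _ ⟨x, -, rfl⟩; exact x.2
  have hkey : ∀ k : G, k • a = a → ∀ u ∈ C, k • u ∈ C → ∀ v ∈ C, k • v ∈ C := by
    rintro k hk _ ⟨x, hx, rfl⟩ ⟨x', hx', hxe⟩ _ ⟨v, hv, rfl⟩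
    let kk : stabilizer G a := ⟨k, hk⟩
    have e : x' = kk • x := Subtype.ext hxe
    have := hB.smul_eq_of_mem hx (e ▸ hx' : kk • x ∈ B)
    exact ⟨kk • v, this ▸ Set.smul_mem_smul_set hv, rfl⟩
  have hreach : ∀ y, y ≠ a → ∃ g : G, g • a = a ∧ g • y ∈ C := by
    intro y hy
    obtain ⟨x, hx⟩ := hne
    obtain ⟨g, hga, hgy⟩ := htr a y a x.1 hy.symm (Ne.symm x.2)
    exact ⟨g, hga, hgy ▸ ⟨x, hx, rfl⟩⟩
  let cl : Ω → Finset Ω := fun y => univ.filter fun z => ∃ g : G, g • a = a ∧ g • y ∈ C ∧ g • z ∈ C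
  have hcl : ∀ {y z : Ω}, z ∈ cl y ↔ ∃ g : G, g • a = a ∧ g • y ∈ C ∧ g • z ∈ C := fun {y z} => by simp [cl]
  have hmove : ∀ {y z : Ω}, z ∈ cl y → ∀ g : G, g • a = a → g • y ∈ C → g • z ∈ C := by
    intro y z hz g hga hgy
    obtain ⟨h, hha, hhy, hhz⟩ := hcl.1 hz
    have := hkey (g * h⁻¹) (by rw [mul_smul, inv_fix hha, hga]) (h • y) hhy
      (by rw [mul_smul, inv_smul_smul]; exact hgy) (h • z) hhz
    rwa [mul_smul, inv_smul_smul] at this
  refine ⟨⟨cl, fun y hy => ?_, fun y hy z hz hza => ?_, fun y hy z hz => ?_, fun g hg y hy => ?_,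
    fun y hy => ?_⟩⟩
  · obtain ⟨g, h1, h2⟩ := hreach y hy
    exact hcl.2 ⟨g, h1, h2, h2⟩
  · obtain ⟨g, h1, -, h3⟩ := hcl.1 hz
    exact hCa _ h3 (by rw [hza, h1])
  · have hs : y ∈ cl z := by
      obtain ⟨g, h1, h2, h3⟩ := hcl.1 hz
      exact hcl.2 ⟨g, h1, h3, h2⟩
    ext w
    constructor <;> intro hw <;> obtain ⟨g, h1, h2, h3⟩ := hcl.1 hw
    · exact hcl.2 ⟨g, h1, hmove hs g h1 h2, h3⟩
    · exact hcl.2 ⟨g, h1, hmove hz g h1 h2, h3⟩
  · ext w
    rw [Finset.mem_image]
    constructor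
    · intro hw
      obtain ⟨k, h1, h2, h3⟩ := hcl.1 hw
      refine ⟨g⁻¹ • w, hcl.2 ⟨k * g, by rw [mul_smul, hg, h1], ?_, ?_⟩, smul_inv_smul g w⟩
      · rwa [mul_smul]
      · rwa [mul_smul, smul_inv_smul]
    · rintro ⟨v, hv, rfl⟩
      obtain ⟨k, h1, h2, h3⟩ := hcl.1 hv
      refine hcl.2 ⟨k * g⁻¹, by rw [mul_smul, inv_fix hg, h1], ?_, ?_⟩ <;>
        rwa [mul_smul, inv_smul_smul]
  · obtain ⟨g, hga, hgy⟩ := hreach y hy
    have e : (cl y : Set Ω) = (g⁻¹ • ·) '' C := by
      ext w
      rw [mem_coe, Set.mem_image]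
      constructor
      · intro hw
        exact ⟨g • w, hmove hw g hga hgy, inv_smul_smul g w⟩
      · rintro ⟨c, hc, rfl⟩
        exact hcl.2 ⟨g, hga, hgy, by rwa [smul_inv_smul]⟩
    rw [← Set.ncard_coe_finset, e, Set.ncard_image_of_injective _ (MulAction.injective _),
      Set.ncard_image_of_injective _ Subtype.val_injective, hBc]

/-- the case `p = 2` -/
theorem card_twenty {G Ω : Type*} [Group G] [Finite G] [Fintype Ω] [DecidableEq Ω] [MulAction G Ω]
    [FaithfulSMul G Ω] (hΩ : Fintype.card Ω = 5)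
    (htr : ∀ x y x' y' : Ω, x ≠ y → x' ≠ y' → ∃ g : G, g • x = x' ∧ g • y = y') {a : Ω}
    (S : Sys G Ω a 2) : Nat.card G = 20 := by
  classical
  obtain ⟨b, -, hb⟩ : ∃ b ∈ (univ : Finset Ω), b ≠ a :=
    univ.exists_mem_ne (by rw [card_univ, hΩ]; norm_num) a
  let φ := MulAction.toPermHom G Ω
  have hφ : Function.Injective φ := MulAction.toPerm_injective
  have hperm : Nat.card (Equiv.Perm Ω) = 120 := by
    rw [Nat.card_perm, Nat.card_eq_fintype_card, hΩ]; rfl
  have hG : Nat.card G ∣ 120 := hperm ▸ Subgroup.card_dvd_of_injective φ hφ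
  haveI : IsPretransitive G Ω := ⟨fun x y => by
    obtain ⟨z, -, hz⟩ := univ.exists_mem_ne (show 1 < (univ : Finset Ω).card by rw [card_univ, hΩ]; norm_num) x
    obtain ⟨w, -, hw⟩ := univ.exists_mem_ne (show 1 < (univ : Finset Ω).card by rw [card_univ, hΩ]; norm_num) y
    obtain ⟨g, hg, -⟩ := htr x z y w hz.symm hw.symm
    exact ⟨g, hg⟩⟩
  have h5 : 5 * Nat.card (stabilizer G a) = Nat.card G := by
    rw [← (stabilizer G a).index_mul_card, index_stabilizer_of_transitive G a,
      Nat.card_eq_fintype_card (α := Ω), hΩ]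
  have h4 : 4 ∣ Nat.card (stabilizer G a) := by
    rw [← (stabilizer (stabilizer G a) b).index_mul_card, index_stabilizer]
    have : orbit (stabilizer G a) b = {a}ᶜ := by
      ext y
      rw [Set.mem_compl_singleton_iff]
      constructor
      · rintro ⟨g, rfl⟩
        exact smul_ne g.2 hb
      · intro hy
        obtain ⟨g, hga, hgy⟩ := htr a b a y hb.symm hy.symm
        exact ⟨⟨g, hga⟩, hgy⟩
    rw [this, Set.ncard_compl, Set.ncard_singleton, Nat.card_eq_fintype_card, hΩ]
    exact dvd_mul_right _ _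
  have h3 : ¬ 3 ∣ Nat.card (stabilizer G a) := by
    intro h
    haveI : Fact (Nat.Prime 3) := ⟨Nat.prime_three⟩
    obtain ⟨x, hx⟩ := exists_prime_orderOf_dvd_card' 3 h
    have hx3 : (x : G) ^ 3 = 1 := by
      rw [← Subgroup.coe_pow, ← hx, pow_orderOf_eq_one, Subgroup.coe_one]
    have hxa : (x : G) • a = a := x.2
    have hcls : ∀ y, y ≠ a → (x : G) • y ∈ S.cl y := by
      intro y hy
      set g := (x : G) with hgx
      by_contra hne
      have e1 := smul_ne hxa hy
      have e2 := smul_ne hxa e1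
      have hc0 : ∀ u v, u ≠ a → v ≠ a → S.cl u ≠ S.cl v → Disjoint (S.cl u) (S.cl v) := by
        intro u v hu hv h
        rw [Finset.disjoint_left]
        intro w hw hw'
        exact h ((S.eq_of_mem u hu w hw).symm.trans (S.eq_of_mem v hv w hw'))
      have hd1 : S.cl y ≠ S.cl (g • y) := fun e => hne (e ▸ S.self_mem _ e1)
      have hd2 : S.cl (g • y) ≠ S.cl (g • g • y) := fun e => hd1 (by
        have e' := congrArg (Finset.image (g⁻¹ • ·)) e
        rwa [← S.smul_cl _ (inv_fix hxa) _ e1, ← S.smul_cl _ (inv_fix hxa) _ e2, inv_smul_smul,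
          inv_smul_smul] at e')
      have hd3 : S.cl y ≠ S.cl (g • g • y) := fun e => hd1 (by
        have e' := congrArg (Finset.image (g • ·)) e
        rw [← S.smul_cl _ hxa _ hy, ← S.smul_cl _ hxa _ e2, smul_smul, smul_smul] at e'
        rw [show g * g * g = 1 by rw [← hx3]; simp [pow_succ], one_smul] at e'
        exact e'.symm)
      have hsub : S.cl y ∪ S.cl (g • y) ∪ S.cl (g • g • y) ⊆ univ.erase a := by
        intro w hw
        rw [mem_erase]
        refine ⟨?_, mem_univ _⟩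
        simp only [mem_union] at hw
        rcases hw with (hw | hw) | hw
        exacts [S.ne_of_mem _ hy w hw, S.ne_of_mem _ e1 w hw, S.ne_of_mem _ e2 w hw]
      have := card_le_card hsub
      rw [card_union_of_disjoint (disjoint_union_left.2 ⟨hc0 _ _ hy e2 hd3, hc0 _ _ e1 e2 hd2⟩),
        card_union_of_disjoint (hc0 _ _ hy e1 hd1), S.card_cl _ hy, S.card_cl _ e1, S.card_cl _ e2,
        card_erase_of_mem (mem_univ a), card_univ, hΩ] at this
      omega
    have hfix : ∀ y : Ω, (x : G) • y = y := by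
      intro y
      by_cases hy : y = a
      · rw [hy, hxa]
      set g := (x : G)
      by_contra hne
      have hc : S.cl y = {y, g • y} := by
        refine (eq_of_subset_of_card_le ?_ ?_).symm
        · rw [insert_subset_iff, singleton_subset_iff]
          exact ⟨S.self_mem y hy, hcls y hy⟩
        · rw [S.card_cl y hy, card_pair (Ne.symm hne)]
      have h2 : g • g • y ∈ S.cl y := S.eq_of_mem y hy _ (hcls y hy) ▸ hcls _ (smul_ne hxa hy)
      rw [hc, mem_insert, mem_singleton] at h2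
      rcases h2 with h2 | h2
      · refine hne ?_
        have : g • g • g • y = y := by rw [smul_smul, smul_smul, ← pow_three', hx3, one_smul]
        rwa [h2] at this
      · exact hne (smul_left_cancel g h2)
    rw [show x = 1 from Subtype.ext (eq_one_of_forall hfix), orderOf_one] at hx
    omega
  have h40 : Nat.card G ≠ 40 := by
    intro h
    have hR : Nat.card φ.range = 40 := (Nat.card_congr (MonoidHom.ofInjective hφ).toEquiv).symm.trans h
    have hidx : φ.range.index = 3 := by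
      have := φ.range.index_mul_card
      rw [hR, hperm] at this
      omega
    have hN : φ.range.normalCore.index ∣ 6 := by
      rw [Subgroup.normalCore_eq_ker, Subgroup.index_ker]
      refine (Subgroup.card_subgroup_dvd_card _).trans ?_
      rw [Nat.card_perm, ← Subgroup.index, hidx]
      rfl
    have hc := φ.range.normalCore.index_mul_card
    rw [hperm] at hc
    haveI hnt : Nontrivial φ.range.normalCore := by
      rw [← Finite.one_lt_card_iff_nontrivial]
      have := Nat.le_of_dvd (by norm_num) hN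
      nlinarith
    have hA := Equiv.Perm.alternatingGroup_le_of_normal
      (by rw [Nat.card_eq_fintype_card, hΩ]) hnt
    have hle := Subgroup.card_dvd_of_le (hA.trans (Subgroup.normalCore_le _))
    haveI : Nontrivial Ω := ⟨⟨a, b, hb.symm⟩⟩
    rw [hR, nat_card_alternatingGroup, Nat.card_eq_fintype_card, hΩ] at hle
    exact absurd hle (by decide)
  rw [← h5] at hG h40 ⊢
  obtain ⟨m, hm⟩ := h4
  rw [hm] at hG h40 h3 ⊢
  have : m ∣ 6 := by
    have : 20 * m ∣ 20 * 6 := by rwa [← mul_assoc] at hG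
    exact Nat.dvd_of_mul_dvd_mul_left (by norm_num) this
  have := Nat.le_of_dvd (by norm_num) this
  interval_cases m <;> omega

/-- A finite group acting faithfully and 2-transitively on a set with p² + 1 points, p a prime, is doubly primitive — a point stabilizer acts primitively on the remaining p² points — unless p = 2 and the group is the Frobenius group of order 20. -/
theorem result {G Ω : Type*} [Group G] [Finite G] [Fintype Ω] [MulAction G Ω] [FaithfulSMul G Ω] (p : ℕ) (hp : p.Prime) (hΩ : Fintype.card Ω = p ^ 2 + 1) (h2 : MulAction.IsMultiplyPretransitive G Ω 2) (a : Ω) :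
    MulAction.IsPreprimitive ↥(MulAction.stabilizer G a) ↥(SubMulAction.ofStabilizer G a) ∨ (p = 2 ∧ Nat.card G = 20) := by
  classical
  have htr : ∀ x y x' y' : Ω, x ≠ y → x' ≠ y' → ∃ g : G, g • x = x' ∧ g • y = y' :=
    fun x y x' y' h h' => MulAction.is_two_pretransitive_iff.1 h2 h h'
  by_cases hprim : MulAction.IsPreprimitive (MulAction.stabilizer G a) (SubMulAction.ofStabilizer G a)
  · exact Or.inl hprim
  obtain ⟨S⟩ := exists_sys p hp hΩ htr a hprim
  by_cases hp2 : p = 2
  · subst hp2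
    exact Or.inr ⟨rfl, card_twenty (by rw [hΩ]; norm_num) htr S⟩
  exfalso
  have H : Hyp G Ω p := ⟨hp, hp2, hΩ, htr⟩
  obtain ⟨T⟩ := exists_syl H S
  rcases reduce H S T with hT | ⟨S', hS'⟩
  · obtain ⟨b, -, hb⟩ := (univ : Finset Ω).exists_mem_ne (show 1 < (univ : Finset Ω).card by
      rw [card_univ, hΩ]; have := Nat.one_lt_pow (n := 2) (by norm_num) hp.one_lt; omega) a
    exact normal_case H S T hT hb
  · exact kernel_case H S' T hS'

end Cfsg.Agent.S2205
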