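import Cfsg.Statements.S2209
import Cfsg.Agent.Lib.ChevAut.LongCentralizer

set_option autoImplicit false
set_option maxRecDepth 8000
open Cfsg

namespace Cfsg.Agent.S2209

/-- Centralizer of a long root involution in the Chevalley groups of type E₆, E₇, E₈ over a finite field F of characteristic two. Let G be the group generated by the root elements, U the subgroup generated by the positive root subgroups, r the highest root (the last root index: 71, 125, 239 respectively), and t the element of G with matrix x_r(1). Then the centralizer of t in G is the subgroup generated by U together with the root subgroups X_{−p} for the fundamental roots p orthogonal to r — all fundamental roots except p₂ for E₆, except p₁ for E₇, except p₈ for E₈ (numbering with p₁–p₃–p₄–…–p_l the long chain and p₂ joined to p₄); the indices of these negative fundamental roots are 15, 29, 32, 34, 35 (E₆), 47, 52, 56, 59, 61, 62 (E₇), 77, 98, 104, 109, 113, 116, 118 (E₈). (This is the unipotent radical of the corresponding maximal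 parabolic subgroup extended by the root subgroups of its Levi factor, of type A₅, D₆, E₇ respectively.) -/
theorem result {F : Type*} [Field F] [Fintype F] [CharP F 2] (d : Cfsg.Lie.ChevalleyDatum × List ℕ)
    (hd : d ∈ [(Cfsg.Lie.chevE6, [15, 29, 32, 34, 35]), (Cfsg.Lie.chevE7, [47, 52, 56, 59, 61, 62]), (Cfsg.Lie.chevE8, [77, 98, 104, 109, 113, 116, 118])])
    (t : GL d.1.Idx F) (ht : (t : Matrix d.1.Idx d.1.Idx F) = d.1.x F (d.1.nroots - 1) 1) :
    d.1.group F ⊓ Subgroup.centralizer {t} = d.1.posUnipotent F ⊔ Subgroup.closure {g : GL d.1.Idx F | ∃ s ∈ d.2, ∃ c : F, (g : Matrix d.1.Idx d.1.Idx F) = d.1.x F s c} := by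
  have key : ∃ T : Chev.Tab, T.GoodA ∧ T.D = d.1 ∧ ∃ i₀, ChevAut.checkCent T (T.n - 1) d.2 i₀ = true := by
    simp only [List.mem_cons, List.not_mem_nil, or_false] at hd
    rcases hd with rfl | rfl | rfl
    exacts [⟨_, ⟨Chev.E6Data.good, by decide +kernel⟩, rfl, 1, by decide +kernel⟩,
      ⟨_, ⟨Chev.E7Data.good, by decide +kernel⟩, rfl, 0, by decide +kernel⟩,
      ⟨_, ⟨Chev.E8Data.good, by decide +kernel⟩, rfl, 7, by decide +kernel⟩]
  obtain ⟨D, S⟩ := d
  obtain ⟨T, hT, rfl, i₀, hc⟩ := key
  have hg := hT.toGood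
  have e : t = Chev.Tab.xg hg (T.n - 1) (1 : F) :=
    Chev.Tab.eq_xg hg (by rw [ht, show T.D.nroots = T.n from hg.nroots_eq])
  rw [e,
    ChevAut.long_centralizer hT hc, Chev.Tab.posUnipotent_eq hg]
  refine le_antisymm (Chev.Tab.genS_le hg ?_) (sup_le (Chev.Tab.genS_mono hg fun r hr => ⟨hr.2, Or.inl hr.1⟩) ?_)
  · rintro r ⟨hr, h | h⟩ a
    · exact Subgroup.mem_sup_left (Chev.Tab.xg_mem_genS hg (show r ∈ Set.Ico T.N T.n from ⟨h, hr⟩) a)
    · exact Subgroup.mem_sup_right (Subgroup.subset_closure ⟨r, h, a, rfl⟩)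
  · refine (Subgroup.closure_le _).2 ?_
    rintro y ⟨s, hs, a, hy⟩
    rw [Chev.Tab.eq_xg hg hy]
    by_cases hsn : s < T.n
    · exact Chev.Tab.xg_mem_genS hg (show s ∈ {r | r < T.n ∧ (T.N ≤ r ∨ r ∈ S)} from ⟨hsn, Or.inr hs⟩) a
    · rw [Chev.Tab.xg_out hg hsn]
      exact one_mem _

end Cfsg.Agent.S2209
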