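import Cfsg.Statements.S2214
import Cfsg.Agent.Lib.ChevAut.FixedPoints

set_option autoImplicit false
open Cfsg

namespace Cfsg.Agent.S2214

/-- Let k be an algebraically closed field of prime characteristic p, G the adjoint Chevalley group of type G₂, B₂, D₄, F₄, E₆, E₇ or E₈ over k (the matrix group generated by the root elements x_s(t), t ∈ k, acting on the Lie algebra), q = p^a with a ≥ 1, and K a subgroup of G containing every root element x_s(t) with t^q = t and consisting of matrices all of whose entries c satisfy c^q = c. Then the centralizer of K in G is trivial, and the normalizer of K in G is exactly the set of elements of G all of whose entries c satisfy c^q = c. -/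
theorem result {k : Type*} [Field k] [IsAlgClosed k] (p : ℕ) [Fact p.Prime] [CharP k p] (D : Cfsg.Lie.ChevalleyDatum) (hD : D ∈ [Cfsg.Lie.chevG2, Cfsg.Lie.chevB2, Cfsg.Lie.chevD4, Cfsg.Lie.chevF4, Cfsg.Lie.chevE6, Cfsg.Lie.chevE7, Cfsg.Lie.chevE8]) (a : ℕ) (ha : 1 ≤ a) (K : Subgroup (GL D.Idx k)) (hKG : K ≤ D.group k)
    (hLK : Subgroup.closure {g : GL D.Idx k | ∃ (s : ℕ) (t : k), t ^ (p ^ a) = t ∧ (g : Matrix D.Idx D.Idx k) = D.x k s t} ≤ K)
    (hKfix : ∀ g ∈ K, ∀ i j : D.Idx, ((g : Matrix D.Idx D.Idx k) i j) ^ (p ^ a) = (g : Matrix D.Idx D.Idx k) i j) :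
    D.group k ⊓ Subgroup.centralizer (K : Set (GL D.Idx k)) = ⊥ ∧
    ∀ g : GL D.Idx k, g ∈ D.group k → (g ∈ Subgroup.normalizer (K : Set (GL D.Idx k)) ↔ ∀ i j : D.Idx, ((g : Matrix D.Idx D.Idx k) i j) ^ (p ^ a) = (g : Matrix D.Idx D.Idx k) i j) := by
  have _ := ha
  obtain ⟨T, hT, rfl⟩ := Chev.exists_goodA hD
  have hg := hT.toGood
  have : ExpChar k p := ExpChar.prime Fact.out
  set σ : k →+* k := iterateFrobenius k p a with hσdef
  have hσ : ∀ x : k, σ x = x ^ p ^ a := fun x => iterateFrobenius_def p a x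
  have hfix : ∀ {y : GL T.D.Idx k}, (∀ i j, ((y : Matrix T.D.Idx T.D.Idx k) i j) ^ p ^ a =
      (y : Matrix T.D.Idx T.D.Idx k) i j) ↔ ChevAut.entryHom T σ y = y := by
    intro y
    constructor
    · intro h
      refine Units.ext (Matrix.ext fun i j => ?_)
      rw [ChevAut.entryHom_apply, hσ, h]
    · intro h i j
      have := congrArg (fun z : GL T.D.Idx k => (z : Matrix T.D.Idx T.D.Idx k) i j) h
      simpa only [ChevAut.entryHom_apply, hσ] using this
  have hEK : ChevAut.fixElem hg σ ≤ K := by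
    refine le_trans ((Subgroup.closure_le _).2 ?_) hLK
    rintro _ ⟨s, t, ht, rfl⟩
    exact Subgroup.subset_closure ⟨s, t, by rw [← hσ, ht], rfl⟩
  have hKfix' : ∀ y ∈ K, ChevAut.entryHom T σ y = y := fun y hy => hfix.1 (hKfix y hy)
  have hcent : ∀ y ∈ T.D.group k, (∀ z ∈ ChevAut.fixElem hg σ, z * y = y * z) → y = 1 := fun y hy hz =>
    ChevAut.eq_one_of_commute hT hy fun s _ => (hz _ (ChevAut.xg_mem_fixElem hg s (map_one σ))).symm
  refine ⟨eq_bot_iff.2 fun y hy => ?_, fun g hg' => ?_⟩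
  · obtain ⟨hy1, hy2⟩ := Subgroup.mem_inf.1 hy
    exact hcent y hy1 fun z hz => Subgroup.mem_centralizer_iff.1 hy2 z (hEK hz)
  · rw [hfix]
    refine ⟨fun hn => ?_, ChevAut.fixed_normalizes hT hKG hEK hKfix' hg'⟩
    refine (inv_mul_eq_one.1 (hcent _ (mul_mem (inv_mem hg') (ChevAut.entryHom_group hg σ hg')) fun z hz => ?_)).symm
    have h1 := hKfix' _ ((Subgroup.mem_normalizer_iff.1 hn z).1 (hEK hz))
    rw [map_mul, map_mul, map_inv, ChevAut.fixElem_fixed hg σ hz] at h1
    calc z * (g⁻¹ * ChevAut.entryHom T σ g) = g⁻¹ * (g * z * g⁻¹) * ChevAut.entryHom T σ g := by group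
      _ = _ := by rw [← h1]; group

end Cfsg.Agent.S2214
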