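import Cfsg.Statements.S2221
import Cfsg.Agent.Lib.Perm.SylowTwoDecompCases

set_option autoImplicit false
open Cfsg

namespace Cfsg.Agent.S2221

/-- Direct decomposability of the Sylow 2-subgroups of the alternating groups. Let n ≥ 4 and let P be a Sylow 2-subgroup of the alternating group of degree n. Then P is the internal direct product of two nontrivial subgroups if and only if n = 4, n = 5, or n ≡ 2, 3 (mod 4) with 4⌊n/4⌋ not a power of 2. In the remaining cases (n ≡ 0, 1 (mod 4) with n ≥ 8, or n ≡ 2, 3 (mod 4) with 4⌊n/4⌋ a power of 2) P is directly indecomposable. -/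
theorem result (n : ℕ) (hn : 4 ≤ n)
    (P : Sylow 2 (alternatingGroup (Fin n))) :
    (∃ S₁ S₂ : Subgroup (alternatingGroup (Fin n)), S₁ ≠ ⊥ ∧ S₂ ≠ ⊥ ∧
        Cfsg.IsInternalDirectProduct S₁ S₂ (P : Subgroup (alternatingGroup (Fin n)))) ↔
      (n = 4 ∨ n = 5 ∨ ((n % 4 = 2 ∨ n % 4 = 3) ∧ ∀ r : ℕ, 4 * (n / 4) ≠ 2 ^ r)) := by
  haveI : Fact (Nat.Prime 2) := ⟨Nat.prime_two⟩
  have hs : Subsingleton (Fin (n % 2)) := Fintype.card_le_one_iff_subsingleton.mp (by simp; omega)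
  let e : SylTwoNorm.Pts (Fin (n / 2)) (Fin (n % 2)) ≃ Fin n := Fintype.equivFinOfCardEq (by simp; omega)
  obtain ⟨Q⟩ : Nonempty (Sylow 2 (Equiv.Perm (Fin (n / 2)))) := inferInstance
  obtain ⟨W0, hW0⟩ := SylTwoNorm.exists_sylow_lifted (β := Fin (n % 2)) Q
  obtain ⟨W, hW⟩ := (P.isPGroup'.map (alternatingGroup (Fin n)).subtype).exists_le_sylow
  have heq : (P : Subgroup (alternatingGroup (Fin n))) =
      (W : Subgroup (Equiv.Perm (Fin n))).comap (alternatingGroup (Fin n)).subtype :=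
    (P.3 (W.isPGroup'.comap_of_injective _ (Subgroup.subtype_injective _)) (Subgroup.map_le_iff_le_comap.mp hW)).symm
  obtain ⟨c, hc⟩ := MulAction.exists_smul_eq (Equiv.Perm (Fin n))
    (W0.mapSurjective (f := e.permCongrHom.toMonoidHom) e.permCongrHom.surjective) W
  let ψ : Equiv.Perm (SylTwoNorm.Pts (Fin (n / 2)) (Fin (n % 2))) ≃* Equiv.Perm (Fin n) :=
    e.permCongrHom.trans (MulAut.conj c)
  have hWψ : (W : Subgroup (Equiv.Perm (Fin n))) = (W0 : Subgroup _).map ψ.toMonoidHom := by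
    rw [← hc]
    ext x
    constructor
    · rintro ⟨y, ⟨z, hz, rfl⟩, rfl⟩; exact ⟨z, hz, rfl⟩
    · rintro ⟨z, hz, rfl⟩; exact ⟨_, ⟨z, hz, rfl⟩, rfl⟩
  have hsgn : ∀ g, Equiv.Perm.sign (ψ g) = Equiv.Perm.sign g := fun g => by
    show Equiv.Perm.sign (c * e.permCongr g * c⁻¹) = _
    rw [map_mul, map_mul, map_inv, mul_comm, inv_mul_cancel_left, Equiv.Perm.sign_permCongr]
  have key : (P : Subgroup (alternatingGroup (Fin n))).map (alternatingGroup (Fin n)).subtype =
      (SylTwoDecomp.evenLift (β := Fin (n % 2)) (Q : Subgroup _)).map ψ.toMonoidHom := by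
    rw [heq, Subgroup.map_comap_eq, Subgroup.range_subtype, hWψ, hW0, SylTwoDecomp.evenLift]
    ext x
    constructor
    · rintro ⟨hA, g, hg, rfl⟩
      refine ⟨g, ⟨hg, ?_⟩, rfl⟩
      exact Equiv.Perm.mem_alternatingGroup.2 ((hsgn g).symm.trans (Equiv.Perm.mem_alternatingGroup.1 hA))
    · rintro ⟨g, ⟨hg, hA⟩, rfl⟩
      refine ⟨?_, g, hg, rfl⟩
      exact Equiv.Perm.mem_alternatingGroup.2 ((hsgn g).trans (Equiv.Perm.mem_alternatingGroup.1 hA))
  have hd : SylTwoDecomp.Decomp (P : Subgroup (alternatingGroup (Fin n))) ↔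
      SylTwoDecomp.Decomp (SylTwoDecomp.evenLift (β := Fin (n % 2)) (Q : Subgroup (Equiv.Perm (Fin (n / 2))))) := by
    rw [← SylTwoDecomp.decomp_map _ (Subgroup.subtype_injective _), key, SylTwoDecomp.decomp_map _ ψ.injective]
  refine hd.trans ?_
  by_cases h6 : n ≤ 5
  · refine iff_of_true (SylTwoDecomp.decomp_even_two Q (by simp; omega)) ?_
    omega
  rw [SylTwoDecomp.decomp_even_iff Q (by simp; omega), Fintype.card_fin, Nat.odd_iff]
  constructor
  · rintro ⟨h1, h2⟩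
    refine Or.inr (Or.inr ⟨by omega, fun r hr => ?_⟩)
    rcases r with _ | r
    · omega
    · exact h2 r (by rw [pow_succ] at hr; omega)
  · rintro (rfl | rfl | ⟨h1, h2⟩)
    · omega
    · omega
    refine ⟨by omega, fun j hj => h2 (j + 1) ?_⟩
    rw [pow_succ]
    omega

end Cfsg.Agent.S2221
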