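import Cfsg.Statements.S2226
import Cfsg.Agent.Lib.OddIndexPro.Unitary
import Cfsg.Agent.Lib.OddIndexPro.UnitaryEven
-- import your own Cfsg.Agent.* helpers here

set_option autoImplicit false
open Cfsg

namespace Cfsg.Agent.S2226

open Cfsg.Agent Matrix

set_option maxHeartbeats 1600000 in
/-- Let F be a finite field with q² elements and d = 2^w ≥ 4 a power of 2 such that the unitary group PSU_d(q) (realised over F) is simple. Then every subgroup H of PSU_d(q) of odd index is pronormal: for every g, H and gHg⁻¹ are conjugate by an element of the subgroup they generate. -/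
theorem result {F : Type*} [Field F] [Fintype F] (q : ℕ)
    (hF : Fintype.card F = q ^ 2) (w : ℕ) (hw : 2 ≤ w) (hs : IsSimpleGroup (Cfsg.PSU (2 ^ w) F q))
    (H : Subgroup (Cfsg.PSU (2 ^ w) F q)) (hH : Odd H.index) : Cfsg.IsPronormal H := by
  rcases Nat.even_or_odd q with he | ho
  · haveI : CharP F 2 := by
      have h2 : ringChar F = 2 := FiniteField.even_card_iff_char_two.2 (by
        rw [hF, Nat.pow_mod, Nat.even_iff.1 he])
      exact h2 ▸ ringChar.charP F
    exact OddPro.pronormal_psu_even (2 ^ w) q hF hH
  · exact OddPro.pronormal_psu_odd hF ho hw hH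

end Cfsg.Agent.S2226
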