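import Cfsg.Statements.S2238
import Cfsg.Agent.Lib.Suzuki.Tori
-- import your own Cfsg.Agent.* helpers here

set_option autoImplicit false
open Cfsg

namespace Cfsg.Agent.S2238

open Cfsg.Agent.Suzuki

/-- The partition of the Suzuki group: with q = 2^(2m+1), m ≥ 1, r = 2^m and the Suzuki group realised as the stabiliser in SL₄ of the Suzuki–Tits ovoid, every non-identity element lies in exactly one subgroup that is either a Sylow 2-subgroup or a cyclic subgroup of order q − 1, q + 2r + 1 or q − 2r + 1. -/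
theorem result {F : Type*} [Field F] [Fintype F] {m : ℕ} (hm : 1 ≤ m) (hF : Fintype.card F = 2 ^ (2 * m + 1)) (g : ↥(Cfsg.Sz F m)) (hg : g ≠ 1) :
    ∃! U : Subgroup ↥(Cfsg.Sz F m), ((∃ P : Sylow 2 ↥(Cfsg.Sz F m), U = (P : Subgroup ↥(Cfsg.Sz F m))) ∨
      (IsCyclic ↥U ∧ Nat.card ↥U ∈ ({2 ^ (2 * m + 1) - 1, 2 ^ (2 * m + 1) + 2 ^ (m + 1) + 1, 2 ^ (2 * m + 1) - 2 ^ (m + 1) + 1} : Set ℕ))) ∧ g ∈ U := by
  have h : SzField F m := ⟨hm, hF⟩
  have : Fact (Nat.Prime 2) := ⟨Nat.prime_two⟩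
  have hord : ∀ U : Subgroup (Cfsg.Sz F m), g ∈ U → orderOf g ∣ Nat.card U := fun U hU => by
    rw [← Subgroup.orderOf_mk g hU]; exact orderOf_dvd_natCard _
  have hsyl : ∀ P : Sylow 2 (Cfsg.Sz F m), Nat.card (P : Subgroup (Cfsg.Sz F m)) = (2 ^ (2 * m + 1)) ^ 2 :=
    fun P => by rw [← Nat.card_congr ((rootSylow h).equiv P).toEquiv, rootSylow_coe, card_rootGroup]
  rcases centralizer_cases h hg with ⟨u, hu⟩ | ⟨hc, hk⟩
  · let P : Sylow 2 (Cfsg.Sz F m) := u⁻¹ • rootSylow h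
    have hgP : g ∈ (P : Subgroup (Cfsg.Sz F m)) :=
      ⟨u * g * u⁻¹, hu, by simp [mul_assoc]⟩
    refine ⟨P, ⟨Or.inl ⟨P, rfl⟩, hgP⟩, ?_⟩
    rintro U ⟨hU, hgU⟩
    rcases hU with ⟨Q, rfl⟩ | ⟨-, hkU⟩
    · obtain ⟨v, hv⟩ := exists_conj_sylow h Q
      rw [hv]
      rw [hv] at hgU
      obtain ⟨t, ht, htg⟩ := hgU
      simp only [MulEquiv.coe_toMonoidHom, MulAut.conj_apply] at htg
      have hb : u * v ∈ borel F m := fix_pinf_of_conj_mem h ht
        (fun e => hg (by rw [← htg, e]; group)) (by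
          convert! hu using 1
          rw [← htg]; group)
      rw [← normalizer_rootGroup h] at hb
      show _ = (rootGroup h).map (MulAut.conj u⁻¹).toMonoidHom
      ext x
      rw [Subgroup.mem_map_equiv, Subgroup.mem_map_equiv]
      simp only [MulAut.conj_symm_apply, inv_inv]
      have := Subgroup.mem_normalizer_iff.mp hb (v⁻¹ * x * v)
      rw [this]
      group
    · exact absurd (orderOf_eq_one_iff.mp (Nat.eq_one_of_dvd_coprimes (torusOrders_spec hkU).1
        (hsyl P ▸ hord _ hgP) (hord U hgU))) hg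
  · have hgC : g ∈ Subgroup.centralizer {g} := Subgroup.mem_centralizer_singleton_iff.mpr rfl
    refine ⟨Subgroup.centralizer {g}, ⟨Or.inr ⟨hc, hk⟩, hgC⟩, ?_⟩
    rintro U ⟨hU, hgU⟩
    rcases hU with ⟨Q, rfl⟩ | ⟨hcU, hkU⟩
    · exact absurd (orderOf_eq_one_iff.mp (Nat.eq_one_of_dvd_coprimes (torusOrders_spec hk).1
        (hsyl Q ▸ hord _ hgU) (hord _ hgC))) hg
    · have hcard : Nat.card U = Nat.card (Subgroup.centralizer {g}) := by
        by_contra hne
        exact hg (orderOf_eq_one_iff.mp (Nat.eq_one_of_dvd_coprimes ((torusOrders_spec hk).2 _ hkU hne)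
          (hord U hgU) (hord _ hgC)))
      have hle : U ≤ Subgroup.centralizer {g} := fun w hw => by
        let : CommGroup U := IsCyclic.commGroup
        exact Subgroup.mem_centralizer_singleton_iff.mpr
          (congrArg Subtype.val (mul_comm (⟨w, hw⟩ : U) ⟨g, hgU⟩))
      exact Subgroup.eq_of_le_of_card_ge hle hcard.ge

end Cfsg.Agent.S2238
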