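import Cfsg.Statements.S2239
import Cfsg.Agent.Lib.Suzuki.Subfield
-- import your own Cfsg.Agent.* helpers here

set_option autoImplicit false
open Cfsg

namespace Cfsg.Agent.S2239

open Cfsg.Agent.Suzuki

/-- Subfield subgroups of the Suzuki group: let q = 2^(2m+1) and s = 2^(2k+1) with m, k ≥ 1 and 2k+1 dividing 2m+1 (so q is a power of s), both groups realised as stabilisers in SL₄ of the Suzuki–Tits ovoid. Then Sz(q) has a subgroup isomorphic to Sz(s), and any two subgroups of Sz(q) isomorphic to Sz(s) are conjugate. -/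
theorem result {F : Type*} [Field F] [Fintype F] {m : ℕ} (hm : 1 ≤ m) (hF : Fintype.card F = 2 ^ (2 * m + 1)) {K : Type*} [Field K] [Fintype K] {k : ℕ} (hk : 1 ≤ k) (hK : Fintype.card K = 2 ^ (2 * k + 1)) (hdiv : 2 * k + 1 ∣ 2 * m + 1) :
    (∃ S : Subgroup ↥(Cfsg.Sz F m), Nonempty (↥S ≃* ↥(Cfsg.Sz K k))) ∧
    ∀ S₁ S₂ : Subgroup ↥(Cfsg.Sz F m), Nonempty (↥S₁ ≃* ↥(Cfsg.Sz K k)) → Nonempty (↥S₂ ≃* ↥(Cfsg.Sz K k)) →
      ∃ g : ↥(Cfsg.Sz F m), S₂ = S₁.map (MulAut.conj g).toMonoidHom := by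
  have h : SzField F m := ⟨hm, hF⟩
  have hK' : SzField K k := ⟨hk, hK⟩
  obtain ⟨f⟩ := exists_ringHom h hK' hdiv
  refine ⟨⟨(emb h hK' hdiv f).range, ⟨(MonoidHom.ofInjective (emb_injective h hK' hdiv f)).symm⟩⟩, ?_⟩
  have key : ∀ S : Subgroup ↥(Cfsg.Sz F m), Nonempty (↥S ≃* ↥(Cfsg.Sz K k)) →
      ∃ u, S = (emb h hK' hdiv f).range.map (MulAut.conj u).toMonoidHom := by
    rintro S ⟨e⟩
    obtain ⟨u, σ, hu⟩ := exists_conj_emb h hK' hdiv (φ := S.subtype.comp e.symm.toMonoidHom)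
      (S.subtype_injective.comp e.symm.injective)
    refine ⟨u, ?_⟩
    rw [← range_emb_eq h hK' hdiv f σ]
    ext x
    constructor
    · intro hx
      refine ⟨emb h hK' hdiv σ (e ⟨x, hx⟩), ⟨_, rfl⟩, ?_⟩
      have := hu (e ⟨x, hx⟩)
      simp only [MonoidHom.coe_comp, MulEquiv.coe_toMonoidHom, Function.comp_apply, MulEquiv.symm_apply_apply,
        Subgroup.coe_subtype] at this
      exact this.symm
    · rintro ⟨_, ⟨g, rfl⟩, rfl⟩
      have := hu g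
      simp only [MonoidHom.coe_comp, MulEquiv.coe_toMonoidHom, Function.comp_apply, Subgroup.coe_subtype] at this
      show u * emb h hK' hdiv σ g * u⁻¹ ∈ S
      rw [← this]
      exact (e.symm g).2
  intro S₁ S₂ h₁ h₂
  obtain ⟨u₁, rfl⟩ := key S₁ h₁
  obtain ⟨u₂, rfl⟩ := key S₂ h₂
  refine ⟨u₂ * u₁⁻¹, ?_⟩
  rw [Subgroup.map_map]
  congr 1
  ext x
  simp [mul_assoc]

end Cfsg.Agent.S2239
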