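import Cfsg.Statements.S2240
import Cfsg.Agent.Lib.Suzuki.Structure
import Mathlib.GroupTheory.SpecificGroups.Cyclic
import Mathlib.FieldTheory.Finiteness
import Mathlib.LinearAlgebra.FreeModule.Finite.Matrix
-- import your own Cfsg.Agent.* helpers here

set_option autoImplicit false
open Cfsg

namespace Cfsg.Agent.S2240

open Cfsg.Agent.Suzuki

section
variable {F : Type*} [Field F] [Fintype F] {m : ℕ}

theorem card_pow_fixed (h : SzField F m) {n : ℕ} (hn : 0 < n) (hd : n ∣ 2 * m + 1) :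
    Nat.card {x : F // x ^ 2 ^ n = x} = 2 ^ n := by
  have hpos : 1 ≤ 2 ^ n := Nat.one_le_two_pow
  let K := (powMonoidHom (2 ^ n - 1) : Fˣ →* Fˣ).ker
  have hK : Nat.card K = 2 ^ n - 1 := by
    rw [IsCyclic.card_powMonoidHom_ker, h.card_units_natCard]
    exact Nat.gcd_eq_right (Nat.pow_sub_one_dvd_pow_sub_one 2 hd)
  have hz : (0 : F) ^ 2 ^ n = 0 := zero_pow (by omega)
  have hpow : ∀ x : F, x ^ 2 ^ n = x ^ (2 ^ n - 1) * x := fun x => by
    rw [← pow_succ, Nat.sub_add_cancel hpos]
  let f : Option K → {x : F // x ^ 2 ^ n = x} := fun o => o.elim ⟨0, hz⟩ fun u =>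
    ⟨((u : Fˣ) : F), by
      have hu : ((u : Fˣ)) ^ (2 ^ n - 1) = 1 := u.2
      rw [hpow, ← Units.val_pow_eq_pow_val, hu, Units.val_one, one_mul]⟩
  have hf : Function.Bijective f := by
    constructor
    · rintro (_ | u) (_ | v) e
      · rfl
      · exact absurd (congrArg Subtype.val e).symm (v : Fˣ).ne_zero
      · exact absurd (congrArg Subtype.val e) (u : Fˣ).ne_zero
      · exact congrArg some (Subtype.ext (Units.ext (congrArg Subtype.val e :)))
    · rintro ⟨x, hx⟩
      by_cases h0 : x = 0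
      · exact ⟨none, Subtype.ext h0.symm⟩
      · refine ⟨some ⟨Units.mk0 x h0, ?_⟩, rfl⟩
        show (Units.mk0 x h0) ^ (2 ^ n - 1) = 1
        apply Units.ext
        rw [Units.val_pow_eq_pow_val, Units.val_mk0, Units.val_one]
        rw [hpow] at hx
        exact mul_right_cancel₀ h0 (hx.trans (one_mul x).symm)
  rw [← Nat.card_eq_of_bijective f hf, Finite.card_option, hK]
  omega

/-- The subgroup of `T(0, b)` with `b` in the subfield of order `2^n`. -/
def subfieldGroup (h : SzField F m) (n : ℕ) : Subgroup (Cfsg.Sz F m) where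
  carrier := {g | ∃ b : F, b ^ 2 ^ n = b ∧ g = T h 0 b}
  one_mem' := ⟨0, zero_pow (by positivity), (T_zero h).symm⟩
  mul_mem' := by
    rintro _ _ ⟨b, hb, rfl⟩ ⟨d, hd, rfl⟩
    refine ⟨b + d, ?_, T_zero_mul h b 0 d⟩
    have := h.charP
    rw [add_pow_char_pow, hb, hd]
  inv_mem' := by rintro _ ⟨b, hb, rfl⟩; exact ⟨b, hb, by rw [T_inv]; simp⟩

end

/-- Elementary abelian TI-subgroups of the Suzuki group: let q = 2^(2m+1) with m ≥ 1, the group realised as the stabiliser in SL₄ of the Suzuki–Tits ovoid, and n ≥ 2. There is an elementary abelian 2-subgroup E of order 2^n that is a TI-subgroup (every conjugate of E meeting E nontrivially is E itself) if and only if n divides 2m + 1. -/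
theorem result {F : Type*} [Field F] [Fintype F] {m : ℕ} (hm : 1 ≤ m) (hF : Fintype.card F = 2 ^ (2 * m + 1)) (n : ℕ) (hn : 2 ≤ n) :
    (∃ E : Subgroup ↥(Cfsg.Sz F m), Cfsg.IsElementaryAbelian 2 E ∧ Nat.card ↥E = 2 ^ n ∧
      ∀ x : ↥(Cfsg.Sz F m), E ⊓ E.map (MulAut.conj x).toMonoidHom ≠ ⊥ → x ∈ Subgroup.normalizer (E : Set ↥(Cfsg.Sz F m))) ↔ n ∣ 2 * m + 1 := by
  have h : SzField F m := ⟨hm, hF⟩
  constructor
  · rintro ⟨E, hE, hcard, hTI⟩
    obtain ⟨g, hg⟩ := exists_conj_isPGroup_le h (IsPGroup.of_card hcard)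
    have hZ : ∀ x ∈ E, ∃ b, g * x * g⁻¹ = T h 0 b := fun x hx => by
      refine involution_in_rootGroup h (hg x hx) ?_
      rw [show g * x * g⁻¹ * (g * x * g⁻¹) = g * (x * x) * g⁻¹ by group, ← pow_two, hE.2 x hx]
      group
    let A : Set F := {b | g⁻¹ * T h 0 b * g ∈ E}
    have hA0 : (0 : F) ∈ A := by
      show g⁻¹ * T h 0 0 * g ∈ E
      rw [T_zero, mul_one, inv_mul_cancel]
      exact E.one_mem
    have hAadd : ∀ {a b}, a ∈ A → b ∈ A → a + b ∈ A := fun {a b} ha hb => by
      show g⁻¹ * T h 0 (a + b) * g ∈ E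
      rw [show T h 0 (a + b) = T h 0 a * T h 0 b from (T_zero_mul h a 0 b).symm]
      convert! E.mul_mem ha hb using 1
      group
    have hAcard : Nat.card A = 2 ^ n := by
      rw [← hcard]
      refine Nat.card_eq_of_bijective (fun b => (⟨g⁻¹ * T h 0 b.1 * g, b.2⟩ : E)) ⟨?_, ?_⟩
      · intro a b e
        exact Subtype.ext (T_injective h (mul_left_cancel (mul_right_cancel (congrArg Subtype.val e)))).2
      · rintro ⟨x, hx⟩
        obtain ⟨b, hb⟩ := hZ x hx
        have e : g⁻¹ * T h 0 b * g = x := by rw [← hb]; group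
        exact ⟨⟨b, by show g⁻¹ * T h 0 b * g ∈ E; rw [e]; exact hx⟩, Subtype.ext e⟩
    obtain ⟨a0, ha0, ha0ne⟩ : ∃ a ∈ A, a ≠ 0 := by
      by_contra hall
      push Not at hall
      have hsub : Nat.card A ≤ 1 := by
        rw [Nat.card_coe_set_eq]
        exact (Set.ncard_le_ncard (fun a ha => hall a ha : A ⊆ {0})).trans (Set.ncard_singleton _).le
      have : 2 ^ 2 ≤ 2 ^ n := Nat.pow_le_pow_right (by norm_num) hn
      omega
    have key : ∀ a ∈ A, ∀ b ∈ A, a / a0 * b ∈ A := by
      intro a ha b hb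
      by_cases ha' : a = 0
      · simpa [ha'] using hA0
      obtain ⟨k, hk0, hk⟩ := h.θ_mul_self_surjective (a / a0) (div_ne_zero ha' ha0ne)
      have hconj : ∀ c, (g⁻¹ * H h (Units.mk0 k hk0) * g) * (g⁻¹ * T h 0 c * g) *
          (g⁻¹ * H h (Units.mk0 k hk0) * g)⁻¹ = g⁻¹ * T h 0 (a / a0 * c) * g := fun c => by
        have e := H_conj_zero h (Units.mk0 k hk0) c
        rw [Units.val_mk0] at e
        rw [← hk, ← e]
        group
      have hN := hTI (g⁻¹ * H h (Units.mk0 k hk0) * g) (by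
        intro hbot
        have hmem : g⁻¹ * T h 0 a * g ∈ (⊥ : Subgroup (Cfsg.Sz F m)) := by
          rw [← hbot]
          exact ⟨ha, ⟨g⁻¹ * T h 0 a0 * g, ha0, by
            simp only [MulEquiv.coe_toMonoidHom, MulAut.conj_apply]
            rw [hconj, div_mul_cancel₀ _ ha0ne]⟩⟩
        rw [Subgroup.mem_bot, show g⁻¹ * T h 0 a * g = g⁻¹ * T h 0 a * g⁻¹⁻¹ by rw [inv_inv],
          conj_eq_one_iff, eq_one_iff_T] at hmem
        exact ha' hmem.2)
      have := (Subgroup.mem_normalizer_iff.mp hN _).mp hb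
      rwa [hconj] at this
    let L : Subfield F :=
      { carrier := {l | ∀ b ∈ A, l * b ∈ A}
        one_mem' := fun b hb => by simpa using hb
        zero_mem' := fun b _ => by simpa using hA0
        mul_mem' := fun {l l'} hl hl' b hb => by rw [mul_assoc]; exact hl _ (hl' b hb)
        add_mem' := fun {l l'} hl hl' b hb => by rw [add_mul]; exact hAadd (hl b hb) (hl' b hb)
        neg_mem' := fun {l} hl b hb => by rw [h.neg_eq]; exact hl b hb
        inv_mem' := fun l hl b hb => by
          by_cases hl0 : l = 0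
          · simpa [hl0] using hA0
          have hpow : ∀ j : ℕ, ∀ c ∈ A, l ^ j * c ∈ A := by
            intro j
            induction j with
            | zero => intro c hc; simpa using hc
            | succ j ih => intro c hc; rw [pow_succ, mul_assoc]; exact ih _ (hl c hc)
          have h8 := h.eight_le_card
          have e : l⁻¹ = l ^ (Fintype.card F - 2) := by
            refine inv_eq_of_mul_eq_one_right ?_
            rw [← pow_succ', show Fintype.card F - 2 + 1 = Fintype.card F - 1 by omega,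
              FiniteField.pow_card_sub_one_eq_one l hl0]
          rw [e]
          exact hpow _ b hb }
    have hLcard : Nat.card L = 2 ^ n := by
      rw [← hAcard]
      refine Nat.card_eq_of_bijective (fun l => (⟨(l : F) * a0, l.2 a0 ha0⟩ : A)) ⟨?_, ?_⟩
      · intro l l' e
        exact Subtype.ext (mul_right_cancel₀ ha0ne (congrArg Subtype.val e))
      · rintro ⟨a, ha⟩
        exact ⟨⟨a / a0, key a ha⟩, Subtype.ext (div_mul_cancel₀ a ha0ne)⟩
    have hfin := Module.natCard_eq_pow_finrank (K := L) (V := F)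
    rw [hLcard, Nat.card_eq_fintype_card, hF, ← pow_mul] at hfin
    exact ⟨_, Nat.pow_right_injective le_rfl hfin⟩
  · intro hd
    refine ⟨subfieldGroup h n, ⟨⟨⟨?_⟩⟩, ?_⟩, ?_, ?_⟩
    · rintro ⟨_, b, -, rfl⟩ ⟨_, d, -, rfl⟩
      exact Subtype.ext (T_zero_central h b 0 d)
    · rintro _ ⟨b, -, rfl⟩
      rw [pow_two, T_sq, θ_zero, zero_mul, T_zero]
    · rw [← card_pow_fixed h (show 0 < n by omega) hd]
      let f : {x : F // x ^ 2 ^ n = x} → subfieldGroup h n := fun b =>
        ⟨T h 0 b.1, ⟨b.1, b.2, rfl⟩⟩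
      have hfb : Function.Bijective f := by
        constructor
        · intro u v e
          exact Subtype.ext (T_injective h (congrArg Subtype.val e :)).2
        · rintro ⟨z, hz⟩
          obtain ⟨b, hb, hzb⟩ : ∃ e : F, e ^ 2 ^ n = e ∧ z = T h 0 e := hz
          exact ⟨⟨b, hb⟩, Subtype.ext hzb.symm⟩
      exact (Nat.card_eq_of_bijective f hfb).symm
    · intro x hx
      obtain ⟨z, hz, hz1⟩ := (Subgroup.bot_or_exists_ne_one _).resolve_left hx
      obtain ⟨hzE, hzM⟩ := Subgroup.mem_inf.mp hz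
      obtain ⟨y, hy, hbz⟩ := Subgroup.mem_map.mp hzM
      clear hz hzM hx
      obtain ⟨d, hd', hzd⟩ : ∃ e : F, e ^ 2 ^ n = e ∧ z = T h 0 e := hzE
      obtain ⟨b, hb, hyb⟩ : ∃ e : F, e ^ 2 ^ n = e ∧ y = T h 0 e := hy
      subst hyb
      simp only [MulEquiv.coe_toMonoidHom, MulAut.conj_apply] at hbz
      rw [hzd] at hbz hz1
      have hb0 : b ≠ 0 := by
        rintro rfl
        rw [T_zero, mul_one, mul_inv_cancel] at hbz
        exact hz1 hbz.symm
      have hxb : x ∈ borel F m := fix_pinf_of_conj_mem h ⟨0, b, rfl⟩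
        (fun e => hb0 ((eq_one_iff_T h).mp e).2) (by rw [hbz]; exact ⟨0, d, rfl⟩)
      obtain ⟨a, c, k, rfl⟩ := borel_form h hxb
      rw [TH_conj_zero] at hbz
      have hdb := (T_injective h hbz).2
      set l := θ m (k : F) * k with hl
      have hl0 : l ≠ 0 := mul_ne_zero (θ_ne_zero m k.ne_zero) k.ne_zero
      have hlL : l ^ 2 ^ n = l := by
        apply mul_right_cancel₀ hb0
        nth_rw 1 [← hb]
        rw [← mul_pow, hdb, hd']
      rw [Subgroup.mem_normalizer_iff]
      intro y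
      constructor
      · rintro ⟨e, he, rfl⟩
        rw [TH_conj_zero]
        exact ⟨l * e, by rw [mul_pow, he, hlL], rfl⟩
      · rintro ⟨e, he, hye⟩
        refine ⟨e / l, by rw [div_pow, he, hlL], ?_⟩
        rw [← mul_right_inj (T h a c * H h k), ← mul_left_inj (T h a c * H h k)⁻¹, hye, TH_conj_zero, ← hl,
          mul_div_cancel₀ _ hl0]

end Cfsg.Agent.S2240
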