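import Cfsg.Statements.S2244
import Cfsg.Agent.Lib.ChevAut.WeaklyClosed

set_option autoImplicit false
set_option maxRecDepth 8000
open Cfsg

namespace Cfsg.Agent.S2244

/-- Weakly closed unipotent subgroups of Chevalley groups: let G be the Chevalley group of type G₂, B₂, D₄, F₄, E₆, E₇ or E₈ over a finite field F (the matrix group generated by the root elements), with |F| ≠ 2, and |F| ≠ 3 as well for the types G₂, B₂, D₄, F₄. Let U be the subgroup generated by the positive root subgroups. If X ≤ U is weakly closed in U with respect to G (every G-conjugate of X lying in U equals X), then X is the unipotent radical U_J of a standard parabolic subgroup for some set J of fundamental roots. -/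
theorem result {F : Type*} [Field F] [Fintype F] (D : Cfsg.Lie.ChevalleyDatum) (hD : D ∈ [Cfsg.Lie.chevG2, Cfsg.Lie.chevB2, Cfsg.Lie.chevD4, Cfsg.Lie.chevF4, Cfsg.Lie.chevE6, Cfsg.Lie.chevE7, Cfsg.Lie.chevE8])
    (h2 : Fintype.card F ≠ 2) (h3 : D ∈ [Cfsg.Lie.chevG2, Cfsg.Lie.chevB2, Cfsg.Lie.chevD4, Cfsg.Lie.chevF4] → Fintype.card F ≠ 3)
    (X : Subgroup (GL D.Idx F)) (hXU : X ≤ D.posUnipotent F)
    (hwc : ∀ g ∈ D.group F, X.map (MulAut.conj g).toMonoidHom ≤ D.posUnipotent F → X.map (MulAut.conj g).toMonoidHom = X) :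
    ∃ J : Set ℕ, (∀ j ∈ J, j < D.rank) ∧ X = D.unipotentRadical F J := by
  have h2' : 3 ≤ Fintype.card F := by
    have := Fintype.one_lt_card (α := F)
    omega
  have h4 : Fintype.card F ≠ 3 → 4 ≤ Fintype.card F := fun h => by omega
  have key : ∃ (T : Chev.Tab) (K : List (List ℕ)), T.GoodK K ∧ T.D = D ∧ ∃ wk : Bool,
      ChevAut.checkSep T wk = true ∧ ChevAut.checkShapes T wk = true ∧ (wk = true → 4 ≤ Fintype.card F) := by
    simp only [List.mem_cons, List.not_mem_nil, or_false] at hD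
    rcases hD with rfl | rfl | rfl | rfl | rfl | rfl | rfl
    exacts [⟨_, [[2, 3], [1, 2]], ⟨⟨Chev.G2Data.good, by decide +kernel⟩, by decide +kernel⟩, rfl, true, by decide +kernel, by decide +kernel, fun _ => h4 (h3 (by simp))⟩,
      ⟨_, [[2, 2], [1, 2]], ⟨⟨Chev.B2Data.good, by decide +kernel⟩, by decide +kernel⟩, rfl, true, by decide +kernel, by decide +kernel, fun _ => h4 (h3 (by simp))⟩,
      ⟨_, [[4, 4, 2, 2], [4, 8, 4, 4], [2, 4, 4, 2], [2, 4, 2, 4]], ⟨⟨Chev.D4Data.good, by decide +kernel⟩, by decide +kernel⟩, rfl, true, by decide +kernel, by decide +kernel, fun _ => h4 (h3 (by simp))⟩,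
      ⟨_, [[2, 3, 4, 2], [3, 6, 8, 4], [2, 4, 6, 3], [1, 2, 3, 2]], ⟨⟨Chev.F4Data.good, by decide +kernel⟩, by decide +kernel⟩, rfl, true, by decide +kernel, by decide +kernel, fun _ => h4 (h3 (by simp))⟩,
      ⟨_, [[4, 3, 5, 6, 4, 2], [3, 6, 6, 9, 6, 3], [5, 6, 10, 12, 8, 4], [6, 9, 12, 18, 12, 6], [4, 6, 8, 12, 10, 5], [2, 3, 4, 6, 5, 4]], ⟨⟨Chev.E6Data.good, by decide +kernel⟩, by decide +kernel⟩, rfl, false, by decide +kernel, by decide +kernel, fun h => Bool.noConfusion h⟩,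
      ⟨_, [[4, 4, 6, 8, 6, 4, 2], [4, 7, 8, 12, 9, 6, 3], [6, 8, 12, 16, 12, 8, 4], [8, 12, 16, 24, 18, 12, 6], [6, 9, 12, 18, 15, 10, 5], [4, 6, 8, 12, 10, 8, 4], [2, 3, 4, 6, 5, 4, 3]], ⟨⟨Chev.E7Data.good, by decide +kernel⟩, by decide +kernel⟩, rfl, false, by decide +kernel, by decide +kernel, fun h => Bool.noConfusion h⟩,
      ⟨_, [[4, 5, 7, 10, 8, 6, 4, 2], [5, 8, 10, 15, 12, 9, 6, 3], [7, 10, 14, 20, 16, 12, 8, 4], [10, 15, 20, 30, 24, 18, 12, 6], [8, 12, 16, 24, 20, 15, 10, 5], [6, 9, 12, 18, 15, 12, 8, 4], [4, 6, 8, 12, 10, 8, 6, 3], [2, 3, 4, 6, 5, 4, 3, 2]], ⟨⟨Chev.E8Data.good, by decide +kernel⟩, by decide +kernel⟩, rfl, false, by decide +kernel, by decide +kernel, fun h => Bool.noConfusion h⟩]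
  obtain ⟨T, K, hT, rfl, wk, hsep, hsh, hwk⟩ := key
  have hg := hT.toGood
  rw [Chev.Tab.posUnipotent_eq hg] at hXU
  simp only [Chev.Tab.posUnipotent_eq hg] at hwc
  obtain ⟨J, hJ, e⟩ := ChevAut.weakly_closed hT hsep hsh h2' hwk X hXU hwc
  exact ⟨J, fun j hj => hg.rank_eq ▸ hJ j hj, e.trans (Chev.Tab.unipotentRadical_eq hg J).symm⟩

end Cfsg.Agent.S2244
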