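import Cfsg.Statements.S2245
import Cfsg.Agent.Lib.Perm.SylowTwoMaximal

set_option autoImplicit false
open Cfsg

namespace Cfsg.Agent.S2245

/-- For n ≥ 5 with n ≠ 6, a Sylow 2-subgroup of the alternating group A_n lies in exactly one maximal subgroup of A_n if and only if n = 2^k + 1 for some k ≥ 2; the same holds for the symmetric group S_n. -/
theorem result (n : ℕ) (hn : 5 ≤ n) (h6 : n ≠ 6) :
    ((∀ R : Sylow 2 ↥(alternatingGroup (Fin n)), (∃! M : Subgroup ↥(alternatingGroup (Fin n)), IsCoatom M ∧ (R : Subgroup ↥(alternatingGroup (Fin n))) ≤ M) ↔ ∃ k : ℕ, 2 ≤ k ∧ n = 2 ^ k + 1) ∧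
    (∀ R : Sylow 2 (Equiv.Perm (Fin n)), (∃! M : Subgroup (Equiv.Perm (Fin n)), IsCoatom M ∧ (R : Subgroup (Equiv.Perm (Fin n))) ≤ M) ↔ ∃ k : ℕ, 2 ≤ k ∧ n = 2 ^ k + 1)) := by
  have : Fact (Nat.Prime 2) := ⟨Nat.prime_two⟩
  refine ⟨fun R => ?_, fun W => ?_⟩
  · obtain ⟨W, hW⟩ := (R.isPGroup'.map (alternatingGroup (Fin n)).subtype).exists_le_sylow
    have heq : (R : Subgroup (alternatingGroup (Fin n))) =
        (W : Subgroup (Equiv.Perm (Fin n))).comap (alternatingGroup (Fin n)).subtype := by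
      refine (R.3 (W.isPGroup'.comap_of_injective _ (Subgroup.subtype_injective _)) ?_).symm
      exact Subgroup.map_le_iff_le_comap.mp hW
    rw [SylTwoMax.existsUnique_coatom_iff, heq,
      show ((W : Subgroup (Equiv.Perm (Fin n))).comap (alternatingGroup (Fin n)).subtype) =
        (W : Subgroup (Equiv.Perm (Fin n))).subgroupOf (alternatingGroup (Fin n)) from rfl,
      Subgroup.subgroupOf_map_subtype]
    exact SylTwoMax.uniqueMax_iff hn (Or.inr rfl) W
  · have h := SylTwoMax.uniqueMax_iff hn (Or.inl rfl) W (A := ⊤)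
    rw [inf_top_eq] at h
    have hc : ∀ M : Subgroup (Equiv.Perm (Fin n)), IsCoatom M ↔ SylTwoMax.IsMax ⊤ M := fun M =>
      ⟨fun h => ⟨lt_top_iff_ne_top.mpr h.1, fun K hK _ => h.2 K hK⟩,
        fun h => ⟨h.1.ne, fun K hK => h.2 K hK le_top⟩⟩
    simp only [hc]
    exact h

end Cfsg.Agent.S2245
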