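import Cfsg.Statements.S2247
import Cfsg.Agent.Lib.Suzuki.Structure
-- import your own Cfsg.Agent.* helpers here

set_option autoImplicit false
open Cfsg

namespace Cfsg.Agent.S2247

open Cfsg.Agent.Suzuki

/-- In the Suzuki group with q = 2^(2m+1), m ≥ 1 (realised as the stabiliser in SL₄ of the Suzuki–Tits ovoid), the normalizer of a Sylow 2-subgroup P is a maximal subgroup and is the only maximal subgroup containing P. -/
theorem result {F : Type*} [Field F] [Fintype F] {m : ℕ} (hm : 1 ≤ m) (hF : Fintype.card F = 2 ^ (2 * m + 1)) (P : Sylow 2 ↥(Cfsg.Sz F m)) :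
    IsCoatom (Subgroup.normalizer ((P : Subgroup ↥(Cfsg.Sz F m)) : Set ↥(Cfsg.Sz F m))) ∧
    ∀ M : Subgroup ↥(Cfsg.Sz F m), IsCoatom M → (P : Subgroup ↥(Cfsg.Sz F m)) ≤ M → M = Subgroup.normalizer ((P : Subgroup ↥(Cfsg.Sz F m)) : Set ↥(Cfsg.Sz F m)) := by
  have h : SzField F m := ⟨hm, hF⟩
  obtain ⟨g, hg⟩ := exists_conj_sylow h P
  let e : Subgroup (Cfsg.Sz F m) ≃o Subgroup (Cfsg.Sz F m) := (MulAut.conj g).mapSubgroup
  have hP : (P : Subgroup (Cfsg.Sz F m)) = e (rootGroup h) := hg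
  have hN : Subgroup.normalizer ((P : Subgroup (Cfsg.Sz F m)) : Set (Cfsg.Sz F m)) = e (borel F m) := by
    rw [hP, ← normalizer_rootGroup h]
    exact (Subgroup.map_normalizer_eq_of_bijective _ (f := (MulAut.conj g).toMonoidHom)
      (MulAut.conj g).bijective).symm
  rw [hN, hP]
  refine ⟨(OrderIso.isCoatom_iff e _).mpr (isCoatom_borel h), fun M hM hPM => ?_⟩
  obtain ⟨M, rfl⟩ := e.surjective M
  rw [OrderIso.isCoatom_iff] at hM
  rw [e.le_iff_le] at hPM
  have hle := le_borel_of_ne_top h hPM hM.1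
  rcases hle.lt_or_eq with hlt | heq
  · exact absurd (hM.2 _ hlt) (borel_ne_top h)
  · rw [heq]

end Cfsg.Agent.S2247
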