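import Cfsg.Statements.S2249
import Cfsg.Agent.Lib.LinearBlock.GLWreathTwo.Count

set_option autoImplicit false
open Cfsg

namespace Cfsg.Agent.S2249

open Cfsg.Agent.GLWreathTwo

theorem val_of_mod_four {m : ℕ} (h : m % 4 = 2) : padicValNat 2 m = 1 := by
  obtain ⟨d, rfl⟩ : 2 ∣ m := by omega
  rw [padicValNat.mul two_ne_zero (by omega), padicValNat.self one_lt_two,
    padicValNat.eq_zero_of_not_dvd (by omega)]

theorem val_card_gl (F : Type*) [Field F] [Fintype F] (n : ℕ) (hodd : Odd (Fintype.card F)) :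
    padicValNat 2 (Nat.card (GL (Fin n) F)) =
      ∑ i ∈ Finset.range n, padicValNat 2 (Fintype.card F ^ (i + 1) - 1) := by
  rw [Matrix.card_GL_field]
  have hq1 := Fintype.one_lt_card (α := F)
  generalize Fintype.card F = q at hodd hq1
  have hq : ¬ 2 ∣ q := by rw [Nat.odd_iff] at hodd; omega
  have hpow : ∀ i, q ^ (i + 1) - 1 ≠ 0 := fun i => by
    have := Nat.le_self_pow (show i + 1 ≠ 0 by omega) q; omega
  have e : ∏ i : Fin n, (q ^ n - q ^ (i : ℕ)) =
      q ^ (∑ i ∈ Finset.range n, i) * ∏ i ∈ Finset.range n, (q ^ (i + 1) - 1) := by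
    rw [Fin.prod_univ_eq_prod_range (fun i => q ^ n - q ^ i), ← Finset.prod_pow_eq_pow_sum,
      ← Finset.prod_range_reflect (fun i => q ^ (i + 1) - 1) n, ← Finset.prod_mul_distrib]
    refine Finset.prod_congr rfl fun i hi => ?_
    rw [Finset.mem_range] at hi
    rw [Nat.mul_sub, mul_one, ← pow_add, show i + (n - 1 - i + 1) = n by omega]
  rw [e, padicValNat.mul (pow_ne_zero _ (by omega)) (Finset.prod_ne_zero_iff.2 fun i _ => hpow i),
    padicValNat.eq_zero_of_not_dvd (fun h => hq (Nat.prime_two.dvd_of_dvd_pow h)), zero_add]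
  clear e
  induction n with
  | zero => simp
  | succ m ih =>
    rw [Finset.prod_range_succ, Finset.sum_range_succ,
      padicValNat.mul (Finset.prod_ne_zero_iff.2 fun i _ => hpow i) (hpow m), ih]

theorem pow_mod_four {q : ℕ} (i : ℕ) : (q % 4 = 1 → q ^ i % 4 = 1) ∧
    (q % 4 = 3 → Odd i → q ^ i % 4 = 3) := by
  refine ⟨fun h => by rw [Nat.pow_mod, h, one_pow]; rfl, fun h hi => ?_⟩
  obtain ⟨j, rfl⟩ := hi
  rw [Nat.pow_mod, h, pow_succ, pow_mul, Nat.mul_mod, Nat.pow_mod]
  norm_num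

theorem val_pow_one_mod_four {q : ℕ} (h1 : 1 < q) (hq : q % 4 = 1) {i : ℕ} (hi : i ≠ 0) :
    padicValNat 2 (q ^ i - 1) = padicValNat 2 (q - 1) + padicValNat 2 i := by
  have hq2 : ¬ 2 ∣ q := by omega
  have hp1 : padicValNat 2 (q + 1) = 1 := val_of_mod_four (by omega)
  rcases Nat.even_or_odd i with he | ho
  · have := padicValNat.pow_two_sub_one h1 hq2 hi he
    omega
  · have h2 := padicValNat.pow_two_sub_one h1 hq2 (n := 2 * i) (by omega) (even_two_mul i)
    have hi4 := (pow_mod_four (q := q) i).1 hq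
    have hgt : 1 < q ^ i := Nat.one_lt_pow hi h1
    rw [padicValNat.mul two_ne_zero hi, padicValNat.self one_lt_two, hp1,
      show q ^ (2 * i) - 1 = (q ^ i + 1) * (q ^ i - 1) by rw [← Nat.sq_sub_sq, one_pow, ← pow_mul, mul_comm],
      padicValNat.mul (by omega) (by omega), val_of_mod_four (show (q ^ i + 1) % 4 = 2 by omega)] at h2
    omega

theorem sum_one_mod_four {q : ℕ} (h1 : 1 < q) (hq : q % 4 = 1) (n : ℕ) :
    ∑ i ∈ Finset.range n, padicValNat 2 (q ^ (i + 1) - 1) =
      n * padicValNat 2 (q - 1) + padicValNat 2 n.factorial := by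
  induction n with
  | zero => simp
  | succ m ih =>
    rw [Finset.sum_range_succ, ih, val_pow_one_mod_four h1 hq (Nat.succ_ne_zero m), Nat.factorial_succ,
      padicValNat.mul (Nat.succ_ne_zero m) m.factorial_ne_zero]
    ring

theorem sum_three_mod_four {q : ℕ} (h1 : 1 < q) (hq : q % 4 = 3) (n : ℕ) :
    ∑ i ∈ Finset.range n, padicValNat 2 (q ^ (i + 1) - 1) =
      n / 2 * (padicValNat 2 (q + 1) + 2) + n % 2 + padicValNat 2 (n / 2).factorial := by
  induction n with
  | zero => simp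
  | succ m ih =>
    rw [Finset.sum_range_succ, ih]
    rcases Nat.even_or_odd' m with ⟨j, rfl | rfl⟩
    · have hgt : 1 < q ^ (2 * j + 1) := Nat.one_lt_pow (by omega) h1
      have h4 := (pow_mod_four (q := q) (2 * j + 1)).2 hq (odd_two_mul_add_one j)
      rw [val_of_mod_four (show (q ^ (2 * j + 1) - 1) % 4 = 2 by omega),
        show (2 * j + 1) / 2 = j by omega, show 2 * j / 2 = j by omega]
      omega
    · have h2 := padicValNat.pow_two_sub_one h1 (by omega) (n := 2 * j + 1 + 1) (by omega)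
        ⟨j + 1, by ring⟩
      rw [val_of_mod_four (show (q - 1) % 4 = 2 by omega),
        show padicValNat 2 (2 * j + 1 + 1) = 1 + padicValNat 2 (j + 1) by
          rw [show 2 * j + 1 + 1 = 2 * (j + 1) by ring, padicValNat.mul two_ne_zero (show j + 1 ≠ 0 by omega),
            padicValNat.self one_lt_two]] at h2
      rw [show (2 * j + 1 + 1) / 2 = j + 1 by omega, show (2 * j + 1) / 2 = j by omega,
        Nat.factorial_succ, padicValNat.mul (show j + 1 ≠ 0 by omega) j.factorial_ne_zero,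
        show (2 * j + 1) % 2 = 1 by omega, show (2 * j + 1 + 1) % 2 = 0 by omega, add_mul, one_mul]
      omega

theorem linear_of_one_dim {F : Type*} [Field F] (a : F ≃ₗ[F] F) (x : F) : a x = x * a 1 := by
  rw [← smul_eq_mul, ← map_smul, smul_eq_mul, mul_one]

theorem card_one_dim (F : Type*) [Field F] [Fintype F] :
    Nat.card (F ≃ₗ[F] F) = Fintype.card F - 1 := by
  classical
  rw [← Fintype.card_units, ← Nat.card_eq_fintype_card]
  refine Nat.card_congr
    { toFun := fun a => Units.mk0 (a 1) fun h => one_ne_zero (a.map_eq_zero_iff.1 h)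
      invFun := fun u => LinearEquiv.smulOfUnit u
      left_inv := fun a => LinearEquiv.ext fun x => by
        show (a 1 : F) • x = a x
        rw [linear_of_one_dim a x, smul_eq_mul, mul_comm]
      right_inv := fun u => Units.ext (by
        show (u : F) • (1 : F) = u
        rw [smul_eq_mul, mul_one]) }

theorem norm_one_dim {F : Type*} [Field F] (a : F ≃ₗ[F] F) (ha : a * a = 1) :
    a ∈ (sV F F).range := by
  have h : a (a 1) = 1 := by rw [← LinearEquiv.mul_apply, ha]; rfl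
  rw [linear_of_one_dim a (a 1)] at h
  rcases mul_self_eq_one_iff.1 h with e | e
  · exact ⟨1, LinearEquiv.ext fun x => by rw [linear_of_one_dim a x, e]; simp [sV_apply]⟩
  · exact ⟨-1, LinearEquiv.ext fun x => by rw [linear_of_one_dim a x, e]; simp [sV_apply]⟩

theorem sign_eq {e d : ℤˣ} (h : e = 1 ↔ d = 1) : e = d := by
  rcases Int.units_eq_one_or e with rfl | rfl
  · exact (h.1 rfl).symm
  · rcases Int.units_eq_one_or d with rfl | rfl
    · exact absurd (h.2 rfl) (by decide)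
    · rfl

theorem sign_pair {e e' d d' : ℤˣ} (h : e ≠ e') (h' : d ≠ d') (he : e = 1 ↔ d = 1) :
    e = d ∧ e' = d' := by
  have := sign_eq he
  subst this
  refine ⟨rfl, sign_eq ?_⟩
  rcases Int.units_eq_one_or e with rfl | rfl <;> rcases Int.units_eq_one_or e' with rfl | rfl <;>
    rcases Int.units_eq_one_or d' with rfl | rfl <;> first | exact absurd rfl h | exact absurd rfl h' | exact Iff.rfl

theorem two_dim {F : Type*} [Field F] [Fintype F] (h2 : (2 : F) ≠ 0)
    (hU : ∀ s : Fˣ, ∀ j, s ^ 2 ^ j = 1 → s ^ 2 = 1)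
    (P : Sylow 2 ((Fin 2 → F) ≃ₗ[F] (Fin 2 → F)))
    (hcard : 8 < Nat.card (P : Subgroup ((Fin 2 → F) ≃ₗ[F] (Fin 2 → F))))
    (A : Subgroup (P : Subgroup ((Fin 2 → F) ≃ₗ[F] (Fin 2 → F)))) (hA : A.Normal)
    (hA2 : ∀ a ∈ A, a ^ 2 = 1) :
    ∀ a ∈ A, (a : (Fin 2 → F) ≃ₗ[F] (Fin 2 → F)) ∈ (sV F (Fin 2 → F)).range := by
  classical
  intro a ha
  by_contra hns
  set g : (Fin 2 → F) ≃ₗ[F] (Fin 2 → F) := (a : (Fin 2 → F) ≃ₗ[F] (Fin 2 → F)) with hg
  have hgg : ∀ x, g (g x) = x := fun x => by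
    have h := congrArg Subtype.val (hA2 a ha)
    rw [SubgroupClass.coe_pow, ← hg, pow_two] at h
    rw [← LinearEquiv.mul_apply, h]; rfl
  have hne1 : ¬ ∀ x, g x = x := fun h =>
    hns ⟨1, LinearEquiv.ext fun x => by rw [h x]; simp [sV_apply]⟩
  have hne2 : ¬ ∀ x, g x = -x := fun h =>
    hns ⟨-1, LinearEquiv.ext fun x => by rw [h x]; simp [sV_apply]⟩
  push Not at hne1 hne2
  obtain ⟨x, hx⟩ := hne1
  obtain ⟨y, hy⟩ := hne2
  set w := g x - x with hw
  set v := g y + y with hv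
  have hw0 : w ≠ 0 := sub_ne_zero.2 hx
  have hv0 : v ≠ 0 := fun h => hy (eq_neg_of_add_eq_zero_left h)
  have hgw : g w = -w := by rw [hw, map_sub, hgg]; abel
  have hgv : g v = v := by rw [hv, map_add, hgg]; abel
  have hdbl : ∀ z : Fin 2 → F, z + z = 0 → z = 0 := fun z hz => by
    have : (2 : F) • z = 0 := by rw [two_smul]; exact hz
    exact (smul_eq_zero.1 this).resolve_left h2
  have hli : LinearIndependent F ![v, w] := by
    rw [LinearIndependent.pair_iff]
    intro s t hst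
    have h' := congrArg g hst
    rw [map_add, map_smul, map_smul, hgv, hgw, map_zero] at h'
    have hs : s • v = 0 := by
      refine hdbl _ ?_
      have := congrArg₂ (· + ·) hst h'
      simp only [add_zero] at this
      rw [← this]; module
    have ht : t • w = 0 := by rw [hs, zero_add] at hst; exact hst
    exact ⟨(smul_eq_zero.1 hs).resolve_right hv0, (smul_eq_zero.1 ht).resolve_right hw0⟩
  let b := basisOfLinearIndependentOfCardEqFinrank hli (by simp)
  have hb : (⇑b : Fin 2 → Fin 2 → F) = ![v, w] := by simp [b]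
  have hspan : ∀ z : Fin 2 → F, ∃ s t : F, z = s • v + t • w := fun z => by
    refine ⟨b.repr z 0, b.repr z 1, ?_⟩
    conv_lhs => rw [← b.sum_repr z]
    rw [Fin.sum_univ_two, hb]
    simp
  have hext : ∀ p p' : (Fin 2 → F) ≃ₗ[F] (Fin 2 → F), p v = p' v → p w = p' w → p = p' := by
    intro p p' h1 h2'
    refine LinearEquiv.ext fun z => ?_
    obtain ⟨s, t, rfl⟩ := hspan z
    simp [h1, h2']
  -- elements of P commuting with g square to one
  have hcomm : ∀ p : (P : Subgroup ((Fin 2 → F) ≃ₗ[F] (Fin 2 → F))),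
      (p : (Fin 2 → F) ≃ₗ[F] (Fin 2 → F)) * g = g * p →
      ∃ e e' : ℤˣ, (p : (Fin 2 → F) ≃ₗ[F] (Fin 2 → F)) v = ((e : ℤ) : F) • v ∧
        (p : (Fin 2 → F) ≃ₗ[F] (Fin 2 → F)) w = ((e' : ℤ) : F) • w := by
    intro p hp
    set q : (Fin 2 → F) ≃ₗ[F] (Fin 2 → F) := (p : (Fin 2 → F) ≃ₗ[F] (Fin 2 → F)) with hq
    have key : ∀ z, q (g z) = g (q z) := fun z => by
      have := congrArg (fun f : (Fin 2 → F) ≃ₗ[F] (Fin 2 → F) => f z) hp
      simpa [LinearEquiv.mul_apply] using this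
    obtain ⟨s, t, hqv⟩ := hspan (q v)
    obtain ⟨s', t', hqw⟩ := hspan (q w)
    have ht : t • w = 0 := by
      have := key v
      rw [hgv, hqv, map_add, map_smul, map_smul, hgv, hgw] at this
      refine hdbl _ ?_
      rw [smul_neg] at this
      have h3 := add_left_cancel this
      rw [eq_neg_iff_add_eq_zero] at h3
      exact h3
    have hs' : s' • v = 0 := by
      have := key w
      rw [hgw, map_neg, hqw, map_add, map_smul, map_smul, hgv, hgw, smul_neg, neg_add] at this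
      refine hdbl _ ?_
      have h3 := add_right_cancel this
      rw [neg_eq_iff_add_eq_zero] at h3
      exact h3
    rw [ht, add_zero] at hqv
    rw [hs', zero_add] at hqw
    have hs0 : s ≠ 0 := fun h => hv0 (by rw [h, zero_smul] at hqv; exact q.map_eq_zero_iff.1 hqv)
    have ht0 : t' ≠ 0 := fun h => hw0 (by rw [h, zero_smul] at hqw; exact q.map_eq_zero_iff.1 hqw)
    obtain ⟨j, hj⟩ := P.2 p
    have hpow : ∀ m, (q ^ m) v = s ^ m • v ∧ (q ^ m) w = t' ^ m • w := by
      intro m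
      induction m with
      | zero => simp
      | succ m ih =>
        refine ⟨?_, ?_⟩
        · rw [pow_succ, LinearEquiv.mul_apply, hqv, map_smul, ih.1, smul_smul, pow_succ, mul_comm]
        · rw [pow_succ, LinearEquiv.mul_apply, hqw, map_smul, ih.2, smul_smul, pow_succ, mul_comm]
    have hj' : q ^ 2 ^ j = 1 := by rw [hq, ← SubgroupClass.coe_pow, hj]; rfl
    have sq : ∀ c : F, c ≠ 0 → c ^ 2 ^ j = 1 → ∃ e : ℤˣ, c = ((e : ℤ) : F) := by
      intro c hc h
      have h' := congrArg Units.val (hU (Units.mk0 c hc) j (Units.ext (by simpa using h)))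
      simp only [Units.val_pow_eq_pow_val, Units.val_mk0, Units.val_one] at h'
      rcases sq_eq_one_iff.1 h' with e | e
      · exact ⟨1, by simp [e]⟩
      · exact ⟨-1, by simp [e]⟩
    have h1 := (hpow (2 ^ j)).1
    have h2' := (hpow (2 ^ j)).2
    rw [hj'] at h1 h2'
    obtain ⟨e, he⟩ := sq s hs0 (smul_left_injective F hv0
      (show s ^ 2 ^ j • v = (1 : F) • v by rw [one_smul]; exact h1.symm))
    obtain ⟨e', he'⟩ := sq t' ht0 (smul_left_injective F hw0
      (show t' ^ 2 ^ j • w = (1 : F) • w by rw [one_smul]; exact h2'.symm))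
    exact ⟨e, e', he ▸ hqv, he' ▸ hqw⟩
  have hAcomm : ∀ c ∈ A, c * a = a * c := by
    intro c hc
    have h1 : ∀ z ∈ A, z⁻¹ = z := fun z hz => inv_eq_of_mul_eq_one_right (by rw [← pow_two, hA2 z hz])
    have := h1 _ (A.mul_mem hc ha)
    rw [mul_inv_rev, h1 a ha, h1 c hc] at this
    exact this.symm
  let val : ↥(P : Subgroup ((Fin 2 → F) ≃ₗ[F] (Fin 2 → F))) → Bool := fun p =>
    decide ((((p * a * p⁻¹ : (P : Subgroup ((Fin 2 → F) ≃ₗ[F] (Fin 2 → F)))) :
      (Fin 2 → F) ≃ₗ[F] (Fin 2 → F)) v) = v)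
  -- conjugates of g are g or its negative
  have hconj : ∀ p p', val p = val p' → p * a * p⁻¹ = p' * a * p'⁻¹ := by
    intro p p' hpp
    have H : ∀ r : (P : Subgroup ((Fin 2 → F) ≃ₗ[F] (Fin 2 → F))), ∃ e e' : ℤˣ,
        ((r * a * r⁻¹ : (P : Subgroup ((Fin 2 → F) ≃ₗ[F] (Fin 2 → F)))) :
          (Fin 2 → F) ≃ₗ[F] (Fin 2 → F)) v = ((e : ℤ) : F) • v ∧
        ((r * a * r⁻¹ : (P : Subgroup ((Fin 2 → F) ≃ₗ[F] (Fin 2 → F)))) :
          (Fin 2 → F) ≃ₗ[F] (Fin 2 → F)) w = ((e' : ℤ) : F) • w ∧ e ≠ e' := by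
      intro r
      have hrA : r * a * r⁻¹ ∈ A := hA.conj_mem a ha r
      obtain ⟨e, e', he, he'⟩ := hcomm _ (congrArg Subtype.val (hAcomm _ hrA))
      refine ⟨e, e', he, he', fun hee => hns ?_⟩
      subst hee
      have hs : ((r * a * r⁻¹ : (P : Subgroup ((Fin 2 → F) ≃ₗ[F] (Fin 2 → F)))) :
          (Fin 2 → F) ≃ₗ[F] (Fin 2 → F)) = sV F (Fin 2 → F) e :=
        hext _ _ (by rw [he, sV_apply]) (by rw [he', sV_apply])
      refine ⟨e, ?_⟩
      rw [Subgroup.coe_mul, Subgroup.coe_mul, Subgroup.coe_inv, mul_inv_eq_iff_eq_mul,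
        ← sV_comm] at hs
      exact (mul_left_cancel hs).symm
    obtain ⟨e, e', h1, h1', hne⟩ := H p
    obtain ⟨d, d', h3, h3', hne'⟩ := H p'
    have hone : ∀ f : ℤˣ, (((f : ℤ) : F) • v = v) ↔ f = 1 := fun f => by
      refine ⟨fun h => sgn_cast_inj h2 ?_, fun h => by simp [h]⟩
      simpa using smul_left_injective F hv0 (show ((f : ℤ) : F) • v = (1 : F) • v by rw [one_smul]; exact h)
    have hed : e = 1 ↔ d = 1 := by
      have := decide_eq_decide.1 hpp
      rwa [h1, h3, hone, hone] at this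
    have : e = d ∧ e' = d' := sign_pair hne hne' hed
    exact Subtype.ext (hext _ _ (by rw [h1, h3, this.1]) (by rw [h1', h3', this.2]))
  let f : ↥(P : Subgroup ((Fin 2 → F) ≃ₗ[F] (Fin 2 → F))) → Bool × (Bool × Bool) := fun p =>
    (val p,
     (decide (((((Function.invFun val (val p))⁻¹ * p : (P : Subgroup ((Fin 2 → F) ≃ₗ[F] (Fin 2 → F)))) :
        (Fin 2 → F) ≃ₗ[F] (Fin 2 → F)) v) = v),
      decide (((((Function.invFun val (val p))⁻¹ * p : (P : Subgroup ((Fin 2 → F) ≃ₗ[F] (Fin 2 → F)))) :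
        (Fin 2 → F) ≃ₗ[F] (Fin 2 → F)) w) = w)))
  have hf : Function.Injective f := by
    intro p p' hpp
    obtain ⟨h1, h23⟩ := Prod.ext_iff.1 hpp
    obtain ⟨h2', h3'⟩ := Prod.ext_iff.1 h23
    change val p = val p' at h1
    simp only [f, h1] at h2' h3'
    set r := Function.invFun val (val p') with hr
    have hvr : val r = val p' := Function.invFun_eq ⟨p', rfl⟩
    have hc : ∀ z, val z = val p' → ((r⁻¹ * z : (P : Subgroup ((Fin 2 → F) ≃ₗ[F] (Fin 2 → F)))) :
        (Fin 2 → F) ≃ₗ[F] (Fin 2 → F)) * g = g * (r⁻¹ * z : (P : Subgroup ((Fin 2 → F) ≃ₗ[F] (Fin 2 → F)))) := by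
      intro z hz
      have h := hconj z r (hz.trans hvr.symm)
      have h' : (r⁻¹ * z) * a = a * (r⁻¹ * z) := by
        rw [mul_inv_eq_iff_eq_mul] at h
        rw [mul_assoc, h]; group
      exact congrArg Subtype.val h'
    obtain ⟨e, e', he, he'⟩ := hcomm _ (hc p h1)
    obtain ⟨d, d', hd, hd'⟩ := hcomm _ (hc p' rfl)
    have hone : ∀ (z : Fin 2 → F), z ≠ 0 → ∀ f : ℤˣ, (((f : ℤ) : F) • z = z) ↔ f = 1 := fun z hz f => by
      refine ⟨fun h => sgn_cast_inj h2 ?_, fun h => by simp [h]⟩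
      simpa using smul_left_injective F hz (show ((f : ℤ) : F) • z = (1 : F) • z by rw [one_smul]; exact h)
    have hv' := decide_eq_decide.1 h2'
    have hw' := decide_eq_decide.1 h3'
    rw [he, hd, hone v hv0, hone v hv0] at hv'
    rw [he', hd', hone w hw0, hone w hw0] at hw'
    have e1 : e = d := sign_eq hv'
    have e2 : e' = d' := sign_eq hw'
    exact mul_left_cancel (Subtype.ext (hext _ _ (by rw [he, hd, e1]) (by rw [he', hd', e2])))
  have := Nat.card_le_card_of_injective f hf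
  simp at this
  omega


/-- The normal 2-rank of the general linear group over a finite field of odd order q: for n ≥ 1 and S a Sylow 2-subgroup of GL_n(F), the largest rank of an elementary abelian subgroup of S that is normal in S equals n when q ≡ 1 (mod 4) and ⌊(n + 1)/2⌋ when q ≡ 3 (mod 4). -/
theorem result {F : Type*} [Field F] [Fintype F] {q : ℕ} (hF : Fintype.card F = q) (hodd : Odd q) (n : ℕ) (hn : 1 ≤ n) (S : Sylow 2 (Matrix.GeneralLinearGroup (Fin n) F)) :
    (q % 4 = 1 → ((∃ E : Subgroup ↥(S : Subgroup (Matrix.GeneralLinearGroup (Fin n) F)), E.Normal ∧ Cfsg.IsElementaryAbelian 2 E ∧ 2 ^ (n) ≤ Nat.card ↥E) ∧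
      ∀ E : Subgroup ↥(S : Subgroup (Matrix.GeneralLinearGroup (Fin n) F)), E.Normal → Cfsg.IsElementaryAbelian 2 E → Nat.card ↥E ≤ 2 ^ (n))) ∧
    (q % 4 = 3 → ((∃ E : Subgroup ↥(S : Subgroup (Matrix.GeneralLinearGroup (Fin n) F)), E.Normal ∧ Cfsg.IsElementaryAbelian 2 E ∧ 2 ^ ((n + 1) / 2) ≤ Nat.card ↥E) ∧
      ∀ E : Subgroup ↥(S : Subgroup (Matrix.GeneralLinearGroup (Fin n) F)), E.Normal → Cfsg.IsElementaryAbelian 2 E → Nat.card ↥E ≤ 2 ^ ((n + 1) / 2))) := by
  classical
  subst hF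
  have hq1 := Fintype.one_lt_card (α := F)
  have h2 : (2 : F) ≠ 0 := Ring.two_ne_zero fun h => by
    have := FiniteField.even_card_of_char_two h
    rw [Nat.odd_iff] at hodd; omega
  haveI : Fact (Nat.Prime 2) := ⟨Nat.prime_two⟩
  have hcardU : Nat.card Fˣ = Fintype.card F - 1 := by
    rw [Nat.card_eq_fintype_card, Fintype.card_units]
  obtain ⟨U⟩ : Nonempty (Sylow 2 Fˣ) := inferInstance
  refine ⟨fun h4 => ?_, fun h4 => ?_⟩
  · haveI : Finite (F ≃ₗ[F] F) := Finite.of_injective _ DFunLike.coe_injective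
    obtain ⟨P⟩ : Nonempty (Sylow 2 (F ≃ₗ[F] F)) := inferInstance
    have hP : Nat.card (P : Subgroup (F ≃ₗ[F] F)) = 2 ^ padicValNat 2 (Fintype.card F - 1) := by
      rw [P.card_eq_multiplicity, Nat.factorization_def _ Nat.prime_two, card_one_dim]
    have hval : 2 ≤ padicValNat 2 (Fintype.card F - 1) :=
      (padicValNat_dvd_iff_le (p := 2) (n := 2) (by omega)).1 (by omega)
    have := sylow_normal_two_rank (V := F) (k := n) (r := 0) h2 P U
      (fun A _ hA2 a ha => norm_one_dim _ (by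
        have := congrArg Subtype.val (hA2 a ha)
        rwa [SubgroupClass.coe_pow, pow_two] at this))
      (by rw [hP]; exact lt_of_lt_of_le (by norm_num) (Nat.pow_le_pow_right two_pos hval))
      (n := n) (by simp)
      (by rw [val_card_gl F n hodd, sum_one_mod_four hq1 h4, card_one_dim]; ring)
      S
    exact this
  · haveI : Finite ((Fin 2 → F) ≃ₗ[F] (Fin 2 → F)) := Finite.of_injective _ DFunLike.coe_injective
    obtain ⟨P⟩ : Nonempty (Sylow 2 ((Fin 2 → F) ≃ₗ[F] (Fin 2 → F))) := inferInstance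
    have hV : padicValNat 2 (Nat.card ((Fin 2 → F) ≃ₗ[F] (Fin 2 → F))) =
        padicValNat 2 (Fintype.card F + 1) + 2 := by
      rw [← Nat.card_congr (glAut (F := F) (M := Fin 2 → F) (n := 2) (by simp)).toEquiv,
        val_card_gl F 2 hodd, sum_three_mod_four hq1 h4]
      simp
    have hv1 : padicValNat 2 (Nat.card Fˣ) = 1 := by rw [hcardU]; exact val_of_mod_four (by omega)
    have hP : Nat.card (P : Subgroup ((Fin 2 → F) ≃ₗ[F] (Fin 2 → F))) =
        2 ^ (padicValNat 2 (Fintype.card F + 1) + 2) := by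
      rw [P.card_eq_multiplicity, Nat.factorization_def _ Nat.prime_two, hV]
    have hval : 2 ≤ padicValNat 2 (Fintype.card F + 1) :=
      (padicValNat_dvd_iff_le (p := 2) (n := 2) (by omega)).1 (by omega)
    have h16 : 16 ≤ Nat.card (P : Subgroup ((Fin 2 → F) ≃ₗ[F] (Fin 2 → F))) := by
      rw [hP]; exact le_trans (by norm_num) (Nat.pow_le_pow_right two_pos (show 4 ≤ _ by omega))
    have hsq : ∀ s : Fˣ, ∀ j, s ^ 2 ^ j = 1 → s ^ 2 = 1 := by
      intro s j hj
      obtain ⟨i, -, hi⟩ := (Nat.dvd_prime_pow Nat.prime_two).1 (orderOf_dvd_of_pow_eq_one hj)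
      refine orderOf_dvd_iff_pow_eq_one.1 ?_
      rw [hi]
      have hdvd : 2 ^ i ∣ Fintype.card F - 1 := hcardU ▸ hi ▸ orderOf_dvd_natCard s
      have : i ≤ 1 := by
        by_contra hc
        have : 2 ^ 2 ∣ Fintype.card F - 1 := (pow_dvd_pow 2 (by omega)).trans hdvd
        omega
      exact pow_dvd_pow 2 this |>.trans (by simp)
    have := sylow_normal_two_rank (V := Fin 2 → F) (k := n / 2) (r := n % 2) h2 P U
      (two_dim h2 hsq P (by omega)) (by omega) (n := n)
      (by rw [Module.finrank_prod, Module.finrank_pi_fintype]; simp; omega)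
      (by rw [val_card_gl F n hodd, sum_three_mod_four hq1 h4, hV, hv1, mul_one])
      S
    rwa [show n / 2 + n % 2 = (n + 1) / 2 by omega] at this

end Cfsg.Agent.S2249
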