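import Cfsg.Statements.S2250
import Cfsg.Agent.Lib.LinearBlock.SympWreath

set_option autoImplicit false
open Cfsg

namespace Cfsg.Agent.S2250

/-- The normal 2-rank of the symplectic group over a finite field of odd order: for n ≥ 1 and S a Sylow 2-subgroup of Sp_{2n}(F), the largest rank of an elementary abelian subgroup of S that is normal in S equals n. -/
theorem result {F : Type*} [Field F] [Fintype F] (hF : Odd (Fintype.card F)) (n : ℕ) (hn : 1 ≤ n) (S : Sylow 2 ↥(Matrix.symplecticGroup (Fin n) F)) :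
    ((∃ E : Subgroup ↥(S : Subgroup ↥(Matrix.symplecticGroup (Fin n) F)), E.Normal ∧ Cfsg.IsElementaryAbelian 2 E ∧ 2 ^ (n) ≤ Nat.card ↥E) ∧
      ∀ E : Subgroup ↥(S : Subgroup ↥(Matrix.symplecticGroup (Fin n) F)), E.Normal → Cfsg.IsElementaryAbelian 2 E → Nat.card ↥E ≤ 2 ^ (n)) := by
  have h2 : (2 : F) ≠ 0 := Ring.two_ne_zero fun h => by
    have := FiniteField.even_card_of_char_two h
    rw [Nat.odd_iff] at hF; omega
  refine ⟨?_, fun E _ hE => ?_⟩
  · obtain ⟨E, hN, hc, hx, hcard⟩ := Cfsg.Agent.SpWreath.exists_normal_elementary hF S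
    exact ⟨E, hN, ⟨hc, hx⟩, hcard.ge⟩
  · obtain ⟨⟨⟨hc⟩⟩, hx⟩ := hE
    rw [← Subgroup.card_subtype _ E]
    refine Cfsg.Agent.SympRank.pRankLE_two h2 n _ ⟨⟨?_⟩⟩ ?_
    · rintro ⟨_, a, ha, rfl⟩ ⟨_, b, hb, rfl⟩
      exact Subtype.ext (congrArg (S : Subgroup ↥(Matrix.symplecticGroup (Fin n) F)).subtype (congrArg Subtype.val (hc ⟨a, ha⟩ ⟨b, hb⟩)))
    · rintro _ ⟨a, ha, rfl⟩
      rw [← map_pow, hx a ha, map_one]

end Cfsg.Agent.S2250

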