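import Cfsg.Statements.S2251
import Cfsg.Agent.Lib.Suzuki.SubgroupMax

set_option autoImplicit false
open Cfsg

namespace Cfsg.Agent.S2251

/-- The subgroups of the Suzuki group: with q = 2^(2m+1), m ≥ 1, r = 2^m and the group realised as the stabiliser in SL₄ of the Suzuki–Tits ovoid, every proper subgroup is contained in the normalizer of a Sylow 2-subgroup, or in the normalizer of a cyclic subgroup of order q − 1, q + 2r + 1 or q − 2r + 1, or in a subgroup isomorphic to a smaller Suzuki group Sz(s) with s = 2^(2k+1) ≥ 8 and 2k+1 a proper divisor of 2m+1. -/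
theorem result {F : Type*} [Field F] [Fintype F] {m : ℕ} (hm : 1 ≤ m) (hF : Fintype.card F = 2 ^ (2 * m + 1)) (M : Subgroup ↥(Cfsg.Sz F m)) (hM : M ≠ ⊤) :
    (∃ P : Sylow 2 ↥(Cfsg.Sz F m), M ≤ Subgroup.normalizer ((P : Subgroup ↥(Cfsg.Sz F m)) : Set ↥(Cfsg.Sz F m))) ∨
    (∃ U : Subgroup ↥(Cfsg.Sz F m), IsCyclic ↥U ∧ Nat.card ↥U ∈ ({2 ^ (2 * m + 1) - 1, 2 ^ (2 * m + 1) + 2 ^ (m + 1) + 1, 2 ^ (2 * m + 1) - 2 ^ (m + 1) + 1} : Set ℕ) ∧
      M ≤ Subgroup.normalizer (U : Set ↥(Cfsg.Sz F m))) ∨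
    (∃ (K : Type) (_ : Field K) (_ : Fintype K) (k : ℕ), 1 ≤ k ∧ k < m ∧ Fintype.card K = 2 ^ (2 * k + 1) ∧ 2 * k + 1 ∣ 2 * m + 1 ∧
      ∃ S : Subgroup ↥(Cfsg.Sz F m), Nonempty (↥S ≃* ↥(Cfsg.Sz K k)) ∧ M ≤ S) := by
  have h : Agent.Suzuki.SzField F m := ⟨hm, hF⟩
  by_cases hns : Group.IsSolvable M
  swap
  · exact Or.inr (Or.inr (Agent.Suzuki.exists_subfield_subgroup h M hM hns))
  by_cases hbot : M = ⊥
  · exact Or.inl ⟨Agent.Suzuki.rootSylow h, hbot ▸ bot_le⟩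
  rcases Agent.Suzuki.solvable_le h hns hbot with ⟨p, hp, hfix⟩ | ⟨C, e, hC, hkind, hle⟩
  · left
    obtain ⟨g, rfl⟩ := Agent.Suzuki.exists_smul_pinf h hp
    refine ⟨g • Agent.Suzuki.rootSylow h, fun x hx => ?_⟩
    show x ∈ Subgroup.normalizer
      ((((Agent.Suzuki.rootSylow h : Sylow 2 ↥(Cfsg.Sz F m)) : Subgroup ↥(Cfsg.Sz F m)).map
        (MulAut.conj g).toMonoidHom : Subgroup ↥(Cfsg.Sz F m)) : Set ↥(Cfsg.Sz F m))
    rw [Agent.Suzuki.rootSylow_coe, Agent.Suzuki.normalizer_conjSub, Agent.Suzuki.mem_conjSub,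
      Agent.Suzuki.normalizer_rootGroup, MulAction.mem_stabilizer_iff, mul_smul, mul_smul, hfix x hx,
      inv_smul_smul]
  · refine Or.inr (Or.inl ⟨C, ?_, ?_, hle⟩)
    · rcases hkind with ⟨u, rfl⟩ | hm'
      · have := Agent.Suzuki.isCyclic_torus h
        exact isCyclic_of_surjective _
          ((Agent.Suzuki.torus h).equivMapOfInjective (MulAut.conj u).toMonoidHom (MulAut.conj u).injective).surjective
      · exact Agent.Suzuki.member_isCyclic h hm'
    · rcases hkind with ⟨u, rfl⟩ | hm'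
      · left
        rw [Subgroup.card_map_of_injective (MulAut.conj u).injective, Agent.Suzuki.card_torus]
      · obtain ⟨A, B, -, -, hA, hB, -, -, hall⟩ := Agent.Suzuki.exists_tori h
        rcases hall C hm' with e' | e'
        · exact Or.inr (Or.inl (by rw [Agent.Suzuki.ConjTo.card_eq h e', hA]))
        · exact Or.inr (Or.inr (Set.mem_singleton_iff.mpr (by rw [Agent.Suzuki.ConjTo.card_eq h e', hB])))

end Cfsg.Agent.S2251
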