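import Cfsg.Statements.S2254
import Cfsg.Agent.Lib.Perm.NilpotentExtremal

set_option autoImplicit false
open Cfsg

namespace Cfsg.Agent.S2254

/-- Let n ≡ 3 (mod 4). Then every nilpotent subgroup of the symmetric group on n letters has order at most 3 times the order of a Sylow 2-subgroup of the symmetric group on n − 3 letters; the bound is attained by a nilpotent subgroup isomorphic to the direct product of such a Sylow 2-subgroup with a cyclic group of order 3; and any two nilpotent subgroups attaining the bound are conjugate. -/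
theorem result  (n : ℕ) (hn : n % 4 = 3)
    (P : Sylow 2 (Equiv.Perm (Fin (n - 3)))) :
    (∀ N : Subgroup (Equiv.Perm (Fin n)), Group.IsNilpotent N → Nat.card N ≤ 3 * Nat.card P) ∧
    (∃ M : Subgroup (Equiv.Perm (Fin n)), Group.IsNilpotent M ∧ Nat.card M = 3 * Nat.card P ∧
      Nonempty (M ≃* (↥(P : Subgroup (Equiv.Perm (Fin (n - 3)))) × Multiplicative (ZMod 3)))) ∧
    (∀ N₁ N₂ : Subgroup (Equiv.Perm (Fin n)), Group.IsNilpotent N₁ → Group.IsNilpotent N₂ →
      Nat.card N₁ = 3 * Nat.card P → Nat.card N₂ = 3 * Nat.card P →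
      ∃ g : Equiv.Perm (Fin n), N₂ = N₁.map (MulAut.conj g).toMonoidHom) := by
  have : Fact (Nat.Prime 2) := ⟨Nat.prime_two⟩
  have hP : Nat.card P = 2 ^ padicValNat 2 (n - 3).factorial := by
    rw [P.card_eq_multiplicity, Nat.card_eq_fintype_card, Fintype.card_perm, Fintype.card_fin,
      Nat.factorization_def _ Nat.prime_two]
  have hv := NilPerm.val_step hn
  refine ⟨fun N hN => ?_, ?_, fun N₁ N₂ h1 h2 c1 c2 => NilPerm.conj_perm hn h1 h2 (hP ▸ c1) (hP ▸ c2)⟩
  · have h := NilPerm.card_le n (Fin n) (Fintype.card_fin n) N hN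
    rw [NilPerm.bd, if_pos hn, hv, pow_succ] at h
    omega
  · obtain ⟨φ, hφ, -⟩ := NilPerm.exists_embed (n := n) (by omega)
    let ψ := φ.comp (((P : Subgroup (Equiv.Perm (Fin (n - 3)))).subtype).prodMap (MonoidHom.id (Multiplicative (ZMod 3))))
    have hψ : Function.Injective ψ := hφ.comp ((Subgroup.subtype_injective _).prodMap fun _ _ h => h)
    have e := MonoidHom.ofInjective hψ
    have : Group.IsNilpotent (P : Subgroup (Equiv.Perm (Fin (n - 3)))) := P.isPGroup'.isNilpotent
    refine ⟨ψ.range, Group.nilpotent_of_mulEquiv e, ?_, ⟨e.symm⟩⟩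
    rw [← Nat.card_congr e.toEquiv, Nat.card_prod, mul_comm]
    congr 1
    simp

end Cfsg.Agent.S2254
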