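import Cfsg.Statements.S2255
import Cfsg.Agent.Lib.Perm.NilpotentOrderAlt

set_option autoImplicit false
open Cfsg

namespace Cfsg.Agent.S2255

/-- Let n be a natural number not congruent to 3 modulo 4, with n ∉ {5, 6, 9}. Then every nilpotent subgroup of the alternating group on n letters has order at most the order of a Sylow 2-subgroup of the alternating group (so the nilpotent subgroups of largest order are exactly the Sylow 2-subgroups). -/
theorem result  (n : ℕ) (hn : n % 4 ≠ 3)
    (h5 : n ≠ 5) (h6 : n ≠ 6) (h9 : n ≠ 9)
    (N : Subgroup (alternatingGroup (Fin n))) (hN : Group.IsNilpotent N)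
    (P : Sylow 2 (alternatingGroup (Fin n))) :
    Nat.card N ≤ Nat.card P := by
  have : Fact (Nat.Prime 2) := ⟨Nat.prime_two⟩
  by_cases hn1 : n ≤ 1
  · have : Subsingleton (Fin n) := Fintype.card_le_one_iff_subsingleton.mp (by simpa using hn1)
    have : Subsingleton (alternatingGroup (Fin n)) := ⟨fun a b => Subtype.ext (Subsingleton.elim _ _)⟩
    rw [Nat.card_of_subsingleton (1 : N)]
    exact Nat.card_pos
  have hexc : n ∉ NilPerm.exc := by
    simp only [NilPerm.exc, List.mem_cons, List.not_mem_nil, or_false]; omega
  have hN' : Group.IsNilpotent (N.map (alternatingGroup (Fin n)).subtype) :=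
    Group.nilpotent_of_mulEquiv (N.equivMapOfInjective _ (Subgroup.subtype_injective _))
  have h := (NilPerm.alt_card_le n (Fin n) (Fintype.card_fin n) _ hN' (Subgroup.map_subtype_le N)).1 hexc
  rw [← Nat.card_congr (N.equivMapOfInjective _ (Subgroup.subtype_injective _)).toEquiv, NilPerm.bd, if_neg hn] at h
  have : Nontrivial (Fin n) := Fin.nontrivial_iff_two_le.mpr (by omega)
  have hA : 2 * Nat.card (alternatingGroup (Fin n)) = n.factorial := by
    rw [Nat.card_eq_fintype_card, two_mul_card_alternatingGroup, Fintype.card_perm, Fintype.card_fin]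
  have hv : padicValNat 2 n.factorial = 1 + padicValNat 2 (Nat.card (alternatingGroup (Fin n))) := by
    rw [← hA, padicValNat.mul two_ne_zero Nat.card_pos.ne', padicValNat.self one_lt_two]
  rw [P.card_eq_multiplicity, Nat.factorization_def _ Nat.prime_two]
  rw [hv, pow_add] at h
  omega

end Cfsg.Agent.S2255
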