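import Cfsg.Statements.S2256
import Cfsg.Agent.Lib.Perm.NilpotentExtremal

set_option autoImplicit false
open Cfsg

namespace Cfsg.Agent.S2256

/-- Let n ≡ 3 (mod 4) with n ≥ 7. Then every nilpotent subgroup of the alternating group on n letters has order at most 3 times the order of a Sylow 2-subgroup of the alternating group on n − 3 letters; the bound is attained by a nilpotent subgroup isomorphic to the direct product of such a Sylow 2-subgroup with a cyclic group of order 3; and any two nilpotent subgroups of the alternating group attaining the bound are conjugate in it. -/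
theorem result  (n : ℕ) (hn : n % 4 = 3) (h7 : 7 ≤ n)
    (P : Sylow 2 (alternatingGroup (Fin (n - 3)))) :
    (∀ N : Subgroup (alternatingGroup (Fin n)), Group.IsNilpotent N → Nat.card N ≤ 3 * Nat.card P) ∧
    (∃ M : Subgroup (alternatingGroup (Fin n)), Group.IsNilpotent M ∧ Nat.card M = 3 * Nat.card P ∧
      Nonempty (M ≃* (↥(P : Subgroup (alternatingGroup (Fin (n - 3)))) × Multiplicative (ZMod 3)))) ∧
    (∀ N₁ N₂ : Subgroup (alternatingGroup (Fin n)), Group.IsNilpotent N₁ → Group.IsNilpotent N₂ →
      Nat.card N₁ = 3 * Nat.card P → Nat.card N₂ = 3 * Nat.card P →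
      ∃ g : alternatingGroup (Fin n), N₂ = N₁.map (MulAut.conj g).toMonoidHom) := by
  have : Fact (Nat.Prime 2) := ⟨Nat.prime_two⟩
  have hP : Nat.card P = 2 ^ (padicValNat 2 (n - 3).factorial - 1) := by
    rw [P.card_eq_multiplicity, Nat.factorization_def _ Nat.prime_two, NilPerm.val_card_alt (by omega)]
  have hv := NilPerm.val_step hn
  have hv1 : 1 ≤ padicValNat 2 (n - 3).factorial :=
    one_le_padicValNat_of_dvd (Nat.factorial_ne_zero _) (Nat.dvd_factorial two_pos (by omega))
  refine ⟨fun N hN => ?_, ?_, fun N₁ N₂ h1 h2 c1 c2 => NilPerm.conj_alt hn h7 h1 h2 (hP ▸ c1) (hP ▸ c2)⟩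
  · have hN' : Group.IsNilpotent (N.map (alternatingGroup (Fin n)).subtype) :=
      Group.nilpotent_of_mulEquiv (N.equivMapOfInjective _ (Subgroup.subtype_injective _))
    have hexc : n ∉ NilPerm.exc := by
      simp only [NilPerm.exc, List.mem_cons, List.not_mem_nil, or_false]; omega
    have h := (NilPerm.alt_card_le n (Fin n) (Fintype.card_fin n) _ hN' (Subgroup.map_subtype_le N)).1 hexc
    rw [← Nat.card_congr (N.equivMapOfInjective _ (Subgroup.subtype_injective _)).toEquiv, NilPerm.bd, if_pos hn, hv,
      show padicValNat 2 (n - 3).factorial + 1 = padicValNat 2 (n - 3).factorial - 1 + 2 by omega, pow_add] at h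
    omega
  · obtain ⟨φ, hφ, hsign⟩ := NilPerm.exists_embed (n := n) (by omega)
    let ι : (P : Subgroup (alternatingGroup (Fin (n - 3)))) →* Equiv.Perm (Fin (n - 3)) :=
      (alternatingGroup (Fin (n - 3))).subtype.comp (P : Subgroup (alternatingGroup (Fin (n - 3)))).subtype
    let ψ0 := φ.comp (ι.prodMap (MonoidHom.id (Multiplicative (ZMod 3))))
    let ψ := ψ0.codRestrict (alternatingGroup (Fin n)) (fun x => by
      rw [Equiv.Perm.mem_alternatingGroup]
      exact (hsign _ _).trans (Equiv.Perm.mem_alternatingGroup.mp x.1.1.2))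
    have hψ : Function.Injective ψ := (MonoidHom.injective_codRestrict _ _ _).mpr
      (hφ.comp (((Subgroup.subtype_injective _).comp (Subgroup.subtype_injective _)).prodMap fun _ _ h => h))
    have e := MonoidHom.ofInjective hψ
    have : Group.IsNilpotent (P : Subgroup (alternatingGroup (Fin (n - 3)))) := P.isPGroup'.isNilpotent
    refine ⟨ψ.range, Group.nilpotent_of_mulEquiv e, ?_, ⟨e.symm⟩⟩
    rw [← Nat.card_congr e.toEquiv, Nat.card_prod, mul_comm]
    congr 1
    simp

end Cfsg.Agent.S2256
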