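import Cfsg.Statements.S2257
import Mathlib.LinearAlgebra.Matrix.SpecialLinearGroup
import Mathlib.GroupTheory.Solvable
import Mathlib.Algebra.CharP.Two
import Mathlib.Tactic.LinearCombination
import Mathlib.Tactic.FieldSimp
import Mathlib.FieldTheory.Finite.Basic
import Mathlib.LinearAlgebra.Matrix.NonsingularInverse

set_option autoImplicit false
open Cfsg

namespace Cfsg.Agent.S2257

open Matrix

/-- The solubilizer. -/
def solY {G : Type*} [Group G] (x : G) : Set G := {y | Group.IsSolvable (Subgroup.closure ({x, y} : Set G))}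

theorem solY_map {G G' : Type*} [Group G] [Group G'] (e : G ≃* G') (x : G) :
    Nat.card (solY (e x)) = Nat.card (solY x) := by
  refine (Nat.card_congr (e.toEquiv.subtypeEquiv fun y => ?_)).symm
  have h1 : (Subgroup.closure ({x, y} : Set G)).map e.toMonoidHom = Subgroup.closure {e x, e y} := by
    rw [MonoidHom.map_closure, Set.image_pair]; rfl
  let f := Subgroup.equivMapOfInjective (Subgroup.closure ({x, y} : Set G)) e.toMonoidHom e.injective
  show Group.IsSolvable (Subgroup.closure ({x, y} : Set G)) ↔ Group.IsSolvable (Subgroup.closure ({e x, e y} : Set G'))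
  rw [← h1]
  exact ⟨fun _ => Group.isSolvable_of_surjective (f := f.toMonoidHom) f.surjective,
    fun _ => Group.isSolvable_of_surjective (f := f.symm.toMonoidHom) f.symm.surjective⟩

variable {F : Type*} [Field F] [CharP F 2]

local notation "M2" => Matrix (Fin 2) (Fin 2) F
local notation "SL" => Matrix.SpecialLinearGroup (Fin 2) F

omit [CharP F 2] in
theorem ext4 {A B : M2} (h00 : A 0 0 = B 0 0) (h01 : A 0 1 = B 0 1) (h10 : A 1 0 = B 1 0) (h11 : A 1 1 = B 1 1) :
    A = B := by
  ext i j; fin_cases i <;> fin_cases j <;> assumption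

theorem two0 : (2 : F) = 0 := CharTwo.two_eq_zero

omit [CharP F 2] in
theorem det2 (x : SL) : x.1 0 0 * x.1 1 1 - x.1 0 1 * x.1 1 0 = 1 := by
  rw [← Matrix.det_fin_two]; exact x.2

/-- The commutant of a matrix with nonzero trace. -/
theorem commutant {a B : M2} (ha : a 0 0 + a 1 1 ≠ 0) (h : B * a = a * B) :
    ∃ s t : F, B = s • (1 : M2) + t • a := by
  have e01 := congrFun (congrFun h 0) 1
  have e10 := congrFun (congrFun h 1) 0
  simp only [Matrix.mul_apply, Fin.sum_univ_two] at e01 e10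
  set τ := a 0 0 + a 1 1 with hτ'
  have h2 := two0 (F := F)
  refine ⟨B 0 0 - (B 0 0 + B 1 1) / τ * a 0 0, (B 0 0 + B 1 1) / τ, ext4 ?_ ?_ ?_ ?_⟩ <;>
    simp only [Matrix.add_apply, Matrix.smul_apply, Matrix.one_apply_eq, smul_eq_mul, mul_one, mul_zero, zero_add,
      Matrix.one_apply_ne (zero_ne_one (α := Fin 2)), Matrix.one_apply_ne (one_ne_zero (α := Fin 2))]
  · ring
  · field_simp
    linear_combination (norm := (ring_nf; (try simp [h2]))) e01 + B 0 1 * hτ'
  · field_simp
    linear_combination (norm := (ring_nf; (try simp [h2]))) e10 + B 1 0 * hτ'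
  · field_simp
    linear_combination (norm := (ring_nf; (try simp [h2]))) (B 1 1 - B 0 0) * hτ'

theorem cases_tr (h : F) : h + h = 0 := CharTwo.add_self_eq_zero h

/-- Fixing the line of `v`. -/
def Fixes (g : SL) (v : Fin 2 → F) : Prop := ∃ l : F, g.1 *ᵥ v = l • v

/-- Preserving the algebra of `n`. -/
def Pres (g : SL) (n : M2) : Prop := g.1 * n = n * g.1 ∨ g.1 * n = (n + 1) * g.1

theorem fix_of_tr_zero {a : SL} (ha : a ≠ 1) (ht : a.1 0 0 + a.1 1 1 = 0) :
    ∃ v : Fin 2 → F, v ≠ 0 ∧ a.1 *ᵥ v = v ∧ ∀ w, a.1 *ᵥ w = w → ∃ c : F, w = c • v := by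
  have hd := det2 a
  have h2 := two0 (F := F)
  have h11 : a.1 1 1 = a.1 0 0 := (CharTwo.add_eq_zero.1 ht).symm
  by_cases hc : a.1 1 0 = 0
  · have h00 : a.1 0 0 = 1 := by
      rw [hc, h11] at hd
      have : (a.1 0 0 - 1) * (a.1 0 0 - 1) = 0 := by linear_combination hd + (1 - a.1 0 0) * h2
      exact sub_eq_zero.1 (mul_self_eq_zero.1 this)
    refine ⟨![1, 0], fun h => one_ne_zero (congrFun h 0), ?_, fun w hw => ⟨w 0, ?_⟩⟩
    · ext i; fin_cases i <;> simp [Matrix.mulVec, dotProduct, Fin.sum_univ_two, hc, h00]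
    · have hb : a.1 0 1 ≠ 0 := fun hb => ha (Subtype.ext (ext4 (by simpa using h00) (by simpa using hb)
        (by simpa using hc) (by simpa [h11] using h00)))
      have h0 := congrFun hw 0
      simp [Matrix.mulVec, dotProduct, Fin.sum_univ_two, h00] at h0
      have hw1 : w 1 = 0 := h0.resolve_left hb
      ext i; fin_cases i <;> simp [hw1]
  · refine ⟨![a.1 0 0 + 1, a.1 1 0], fun h => hc (congrFun h 1), ?_, fun w hw => ⟨w 1 / a.1 1 0, ?_⟩⟩
    · ext i; fin_cases i <;> simp [Matrix.mulVec, dotProduct, Fin.sum_univ_two, h11]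
      · linear_combination (norm := (ring_nf; (try simp [h2]))) hd - a.1 0 0 * h11
      · linear_combination (norm := (ring_nf; (try simp [h2]))) (0 : F) * hd
    · have h1 := congrFun hw 1
      simp [Matrix.mulVec, dotProduct, Fin.sum_univ_two, h11] at h1
      ext i; fin_cases i <;> simp
      · field_simp
        linear_combination (norm := (ring_nf; (try simp [h2]))) h1
      · field_simp

/-- The structure of a solvable subgroup. -/
theorem structure_of_solvable (H : Subgroup SL) (hne : H ≠ ⊥) (hs : Group.IsSolvable H) :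
    (∃ v : Fin 2 → F, v ≠ 0 ∧ ∀ g ∈ H, Fixes g v) ∨
      ∃ n : M2, n 0 0 + n 1 1 = 1 ∧ ∀ g ∈ H, Pres g n := by
  classical
  haveI : Nontrivial H := (Subgroup.nontrivial_iff_ne_bot H).2 hne
  obtain ⟨k, hk⟩ := (Group.isSolvable_def H).1 hs
  have hex : ∃ j, derivedSeries H j = ⊥ := ⟨k, hk⟩
  obtain ⟨j, hj⟩ : ∃ j, Nat.find hex = j + 1 := Nat.exists_eq_succ_of_ne_zero fun h0 => by
    have := Nat.find_spec hex
    rw [h0, derivedSeries_zero] at this
    exact top_ne_bot this
  set A := derivedSeries H j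
  have hA : A ≠ ⊥ := Nat.find_min hex (by omega)
  have hA1 : ⁅A, A⁆ = ⊥ := by
    have := Nat.find_spec hex
    rwa [hj, derivedSeries_succ] at this
  have hAc : ∀ a ∈ A, ∀ b ∈ A, a * b = b * a := fun a ha b hb =>
    commutatorElement_eq_one_iff_mul_comm.1 (Subgroup.mem_bot.1 (hA1 ▸ Subgroup.commutator_mem_commutator ha hb))
  haveI hAn : A.Normal := derivedSeries_normal H j
  by_cases hall : ∀ a ∈ A, (a : SL).1 0 0 + (a : SL).1 1 1 = 0
  · left
    obtain ⟨a, ha, ha1⟩ := (Subgroup.bot_or_exists_ne_one A).resolve_left hA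
    have ha1' : (a : SL) ≠ 1 := fun h => ha1 (Subtype.ext h)
    obtain ⟨v, hv, hav, hu⟩ := fix_of_tr_zero ha1' (hall a ha)
    refine ⟨v, hv, fun g hg => ?_⟩
    have hb : (⟨g, hg⟩⁻¹ * a * ⟨g, hg⟩⁻¹⁻¹ : H) ∈ A := hAn.conj_mem a ha _
    rw [inv_inv] at hb
    set b : H := ⟨g, hg⟩⁻¹ * a * ⟨g, hg⟩ with hbdef
    have hb1 : (b : SL) ≠ 1 := fun h => ha1 (by
      have h' : b = 1 := Subtype.ext h
      rw [hbdef, mul_assoc, inv_mul_eq_one] at h'
      exact (mul_eq_right (a := a) (b := (⟨g, hg⟩ : H))).1 h'.symm)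
    obtain ⟨w, hw, hbw, hwu⟩ := fix_of_tr_zero hb1 (hall b hb)
    have hab : a.1.1 * b.1.1 = b.1.1 * a.1.1 := congrArg (fun z : H => z.1.1) (hAc a ha b hb)
    -- `a` fixes the fixed line of `b`
    obtain ⟨c, hc⟩ := hwu (a.1.1 *ᵥ w) (by rw [Matrix.mulVec_mulVec, ← hab, ← Matrix.mulVec_mulVec, hbw])
    have hd := det2 (a : SL)
    have hc1 : c = 1 := by
      have h0 := congrFun hc 0
      have h1 := congrFun hc 1
      simp [Matrix.mulVec, dotProduct, Fin.sum_univ_two] at h0 h1
      have ht : a.1.1 0 0 + a.1.1 1 1 = 0 := hall a ha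
      have key : (c * c + 1) • w = 0 := by
        ext i
        fin_cases i
        · show (c * c + 1) * w 0 = 0
          linear_combination (norm := (ring_nf; (try simp [two0 (F := F)])))
            (c + a.1.1 0 0) * h0 + a.1.1 0 1 * h1 + w 0 * hd + (a.1.1 0 0 * w 0 + a.1.1 0 1 * w 1) * ht
        · show (c * c + 1) * w 1 = 0
          linear_combination (norm := (ring_nf; (try simp [two0 (F := F)])))
            a.1.1 1 0 * h0 + (c + a.1.1 1 1) * h1 + w 1 * hd + (a.1.1 1 1 * w 1 + a.1.1 1 0 * w 0) * ht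
      have h2 : c * c + 1 = 0 := (smul_eq_zero.1 key).resolve_right hw
      have h3 : (c + 1) * (c + 1) = 0 := by linear_combination h2 + c * (two0 (F := F))
      exact CharTwo.add_eq_zero.1 (mul_self_eq_zero.1 h3)
    obtain ⟨d, hd'⟩ := hu w (by rw [hc, hc1, one_smul])
    have hd0 : d ≠ 0 := fun h => hw (by rw [hd', h, zero_smul])
    have hbv : b.1.1 *ᵥ v = v := by
      have h : d • (b.1.1 *ᵥ v) = d • v := by rw [← Matrix.mulVec_smul, ← hd', hbw]
      exact smul_right_injective _ hd0 h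
    have hgv : a.1.1 *ᵥ (g.1 *ᵥ v) = g.1 *ᵥ v := by
      have h : g.1 *ᵥ (b.1.1 *ᵥ v) = g.1 *ᵥ v := by rw [hbv]
      rw [Matrix.mulVec_mulVec, show g.1 * b.1.1 = a.1.1 * g.1 from congrArg (fun z : H => z.1.1)
        (show (⟨g, hg⟩ : H) * b = a * ⟨g, hg⟩ by rw [hbdef, ← mul_assoc, mul_inv_cancel_left]),
        ← Matrix.mulVec_mulVec] at h
      exact h
    exact hu _ hgv
  · right
    push_neg at hall
    obtain ⟨a, ha, hτ⟩ := hall
    set τ := a.1.1 0 0 + a.1.1 1 1 with hτdef
    refine ⟨τ⁻¹ • a.1.1, by simp only [Matrix.smul_apply, smul_eq_mul, ← mul_add]; exact inv_mul_cancel₀ hτ,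
      fun g hg => ?_⟩
    set b : H := ⟨g, hg⟩ * a * ⟨g, hg⟩⁻¹ with hbdef
    have hb : b ∈ A := hAn.conj_mem a ha _
    obtain ⟨s, t, hst⟩ := commutant hτ (congrArg (fun z : H => z.1.1) (hAc b hb a ha))
    have hga : g.1 * a.1.1 = b.1.1 * g.1 := congrArg (fun z : H => z.1.1)
      (show (⟨g, hg⟩ : H) * a = b * ⟨g, hg⟩ by rw [hbdef, inv_mul_cancel_right])
    have htr : b.1.1 0 0 + b.1.1 1 1 = τ := by
      have h := Matrix.trace_mul_comm g.1 (a.1.1 * (g⁻¹ : SL).1)
      rw [Matrix.mul_assoc a.1.1, ← Matrix.SpecialLinearGroup.coe_mul (g⁻¹ : SL) g, inv_mul_cancel,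
        Matrix.SpecialLinearGroup.coe_one, Matrix.mul_one, Matrix.trace_fin_two, Matrix.trace_fin_two] at h
      rw [hτdef, ← h, show b.1.1 = g.1 * (a.1.1 * (g⁻¹ : SL).1) from Matrix.mul_assoc _ _ _]
    have hdb := det2 (b : SL)
    have hda := det2 (a : SL)
    rw [hst] at htr hdb
    simp [Matrix.one_apply] at htr hdb
    have ht1 : t = 1 := by
      have h : (t - 1) * τ = 0 := by rw [hτdef]; linear_combination htr - s * two0 (F := F) + (hτdef)
      exact sub_eq_zero.1 ((mul_eq_zero.1 h).resolve_right hτ)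
    subst ht1
    have hs : s * (s + τ) = 0 := by rw [hτdef]; linear_combination hdb - hda
    rcases mul_eq_zero.1 hs with h | h
    · left
      rw [h, zero_smul, zero_add, one_smul] at hst
      rw [mul_smul_comm, hga, hst, smul_mul_assoc]
    · right
      rw [CharTwo.add_eq_zero.1 h, one_smul] at hst
      rw [mul_smul_comm, hga, hst, add_mul, add_mul, smul_mul_assoc, smul_add, one_mul, smul_smul,
        inv_mul_cancel₀ hτ, one_smul, add_comm, smul_mul_assoc]

theorem solvable_of_fixes (H : Subgroup SL) (v : Fin 2 → F) (hv : v ≠ 0) (h : ∀ g ∈ H, Fixes g v) :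
    Group.IsSolvable H := by
  choose l hl using fun g : H => h g.1 g.2
  have huniq : ∀ (g : H) (c : F), g.1.1 *ᵥ v = c • v → c = l g := fun g c hc =>
    smul_left_injective F hv ((hc.symm.trans (hl g)))
  have hmul : ∀ g g' : H, l (g * g') = l g * l g' := fun g g' => (huniq _ _ (by
    show (g.1.1 * g'.1.1) *ᵥ v = _
    rw [← Matrix.mulVec_mulVec, hl, Matrix.mulVec_smul, hl, smul_smul, mul_comm])).symm
  let φ : H →* F := ⟨⟨l, (huniq 1 1 (by rw [one_smul]; exact Matrix.one_mulVec v)).symm⟩, hmul⟩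
  let ψ : H →* Fˣ := φ.toHomUnits
  have hker : Group.IsSolvable ψ.ker := by
    refine Group.isSolvable_of_comm fun a b => Subtype.ext (Subtype.ext (Subtype.ext ?_))
    have ha : a.1.1.1 *ᵥ v = v := by
      rw [hl, show l a.1 = 1 from congrArg Units.val a.2, one_smul]
    have hb : b.1.1.1 *ᵥ v = v := by
      rw [hl, show l b.1 = 1 from congrArg Units.val b.2, one_smul]
    show a.1.1.1 * b.1.1.1 = b.1.1.1 * a.1.1.1
    have hda := det2 (a.1.1 : SL)
    have hdb := det2 (b.1.1 : SL)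
    obtain ⟨i, hi⟩ : ∃ i, v i ≠ 0 := by
      by_contra h'; push_neg at h'; exact hv (funext h')
    have a0 := congrFun ha 0
    have a1 := congrFun ha 1
    have b0 := congrFun hb 0
    have b1 := congrFun hb 1
    simp [Matrix.mulVec, dotProduct, Fin.sum_univ_two] at a0 a1 b0 b1
    set A := a.1.1.1
    set B := b.1.1.1
    fin_cases i
    · -- first coordinate nonzero
      have hA0 : A 0 0 = 1 - A 0 1 * (v 1 / v 0) := by simp at hi; field_simp; linear_combination a0
      have hA1 : A 1 0 = (1 - A 1 1) * (v 1 / v 0) := by simp at hi; field_simp; linear_combination a1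
      have hB0 : B 0 0 = 1 - B 0 1 * (v 1 / v 0) := by simp at hi; field_simp; linear_combination b0
      have hB1 : B 1 0 = (1 - B 1 1) * (v 1 / v 0) := by simp at hi; field_simp; linear_combination b1
      set r := v 1 / v 0
      have hA2 : A 1 1 = 1 + A 0 1 * r := by rw [hA0, hA1] at hda; linear_combination hda
      have hB2 : B 1 1 = 1 + B 0 1 * r := by rw [hB0, hB1] at hdb; linear_combination hdb
      apply ext4 <;> simp [Matrix.mul_apply, Fin.sum_univ_two, hA0, hA1, hA2, hB0, hB1, hB2] <;> ring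
    · have hA0 : A 1 1 = 1 - A 1 0 * (v 0 / v 1) := by simp at hi; field_simp; linear_combination a1
      have hA1 : A 0 1 = (1 - A 0 0) * (v 0 / v 1) := by simp at hi; field_simp; linear_combination a0
      have hB0 : B 1 1 = 1 - B 1 0 * (v 0 / v 1) := by simp at hi; field_simp; linear_combination b1
      have hB1 : B 0 1 = (1 - B 0 0) * (v 0 / v 1) := by simp at hi; field_simp; linear_combination b0
      set r := v 0 / v 1
      have hA2 : A 0 0 = 1 + A 1 0 * r := by rw [hA0, hA1] at hda; linear_combination hda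
      have hB2 : B 0 0 = 1 + B 1 0 * r := by rw [hB0, hB1] at hdb; linear_combination hdb
      apply ext4 <;> simp [Matrix.mul_apply, Fin.sum_univ_two, hA0, hA1, hA2, hB0, hB1, hB2] <;> ring
  haveI := hker
  exact Group.isSolvable_of_ker_le_range ψ.ker.subtype ψ (by rw [Subgroup.range_subtype])

theorem solvable_of_pres (H : Subgroup SL) (n : M2) (hn : n 0 0 + n 1 1 = 1) (h : ∀ g ∈ H, Pres g n) :
    Group.IsSolvable H := by
  classical
  let C : Subgroup H :=
    { carrier := {g | g.1.1 * n = n * g.1.1}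
      one_mem' := show (1 : M2) * n = n * 1 by rw [Matrix.one_mul, Matrix.mul_one]
      mul_mem' := fun {a b} ha hb => show a.1.1 * b.1.1 * n = n * (a.1.1 * b.1.1) by
        rw [Matrix.mul_assoc, hb, ← Matrix.mul_assoc, ha, Matrix.mul_assoc]
      inv_mem' := fun {a} ha => by
        show (a⁻¹ : H).1.1 * n = n * (a⁻¹ : H).1.1
        have h1 : (a⁻¹ : H).1.1 * a.1.1 = 1 := congrArg (fun z : H => z.1.1) (inv_mul_cancel a)
        have h2 : a.1.1 * (a⁻¹ : H).1.1 = 1 := congrArg (fun z : H => z.1.1) (mul_inv_cancel a)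
        calc (a⁻¹ : H).1.1 * n = (a⁻¹ : H).1.1 * (n * a.1.1) * (a⁻¹ : H).1.1 := by
              rw [Matrix.mul_assoc, Matrix.mul_assoc n, h2, Matrix.mul_one]
          _ = n * (a⁻¹ : H).1.1 := by rw [← ha, ← Matrix.mul_assoc, h1, Matrix.one_mul] }
  have hinv : ∀ g : H, g ∉ C → g.1.1 * n = (n + 1) * g.1.1 := fun g hg => (h g.1 g.2).resolve_left hg
  have hinv2 : ∀ g : H, g.1.1 * n = (n + 1) * g.1.1 → g.1.1 * (n + 1) = n * g.1.1 := fun g hg => by
    rw [Matrix.mul_add, hg, Matrix.mul_one, Matrix.add_mul, Matrix.one_mul, add_assoc]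
    simp [show g.1.1 + g.1.1 = 0 from ext4 (cases_tr _) (cases_tr _) (cases_tr _) (cases_tr _)]
  have hC2 : ∀ a b : H, a ∉ C → b ∉ C → a * b ∈ C := fun a b ha hb => by
    show a.1.1 * b.1.1 * n = n * (a.1.1 * b.1.1)
    rw [Matrix.mul_assoc, hinv b hb, ← Matrix.mul_assoc, hinv2 a (hinv a ha), Matrix.mul_assoc]
  have hcomm : ∀ x y : H, x * y * x⁻¹ * y⁻¹ ∈ C := fun x y => by
    have key : ∀ u w : H, (u * w ∈ C ↔ (u ∈ C ↔ w ∈ C)) := fun u w => by
      by_cases hu : u ∈ C <;> by_cases hw : w ∈ C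
      · simp [hu, hw, C.mul_mem hu hw]
      · simp [hu, hw, C.mul_mem_cancel_left hu]
      · simp [hu, hw, C.mul_mem_cancel_right hw]
      · simp [hu, hw, hC2 u w hu hw]
    simp only [key, inv_mem_iff]
    tauto
  have hCc : ∀ x ∈ C, ∀ y ∈ C, x * y = y * x := fun x hx y hy => by
    obtain ⟨s, t, hx'⟩ := commutant (by rw [hn]; exact one_ne_zero) hx
    refine Subtype.ext (Subtype.ext ?_)
    show x.1.1 * y.1.1 = y.1.1 * x.1.1
    rw [hx', Matrix.add_mul, Matrix.mul_add, smul_mul_assoc, mul_smul_comm, smul_mul_assoc, mul_smul_comm,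
      Matrix.one_mul, Matrix.mul_one, show n * y.1.1 = y.1.1 * n from hy.symm]
  have h1 : derivedSeries H 1 ≤ C := by
    rw [derivedSeries_one, commutator_def, Subgroup.commutator_le]
    exact fun x _ y _ => hcomm x y
  refine (Group.isSolvable_def H).2 ⟨2, eq_bot_iff.2 ?_⟩
  rw [derivedSeries_succ, Subgroup.commutator_le]
  intro x hx y hy
  rw [Subgroup.mem_bot, commutatorElement_eq_one_iff_mul_comm]
  exact hCc x (h1 hx) y (h1 hy)

/-- The stabilizer of a line. -/
def fixSub (v : Fin 2 → F) : Subgroup SL where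
  carrier := {g | Fixes g v}
  one_mem' := ⟨1, by rw [one_smul]; exact Matrix.one_mulVec v⟩
  mul_mem' := fun {a b} ⟨l, hl⟩ ⟨m, hm⟩ => ⟨m * l, by
    show (a.1 * b.1) *ᵥ v = _
    rw [← Matrix.mulVec_mulVec, hm, Matrix.mulVec_smul, hl, smul_smul]⟩
  inv_mem' := fun {a} ⟨l, hl⟩ => by
    have h1 : (a⁻¹ : SL).1 * a.1 = 1 := congrArg Subtype.val (inv_mul_cancel a)
    have h2 : l • ((a⁻¹ : SL).1 *ᵥ v) = v := by
      rw [← Matrix.mulVec_smul, ← hl, Matrix.mulVec_mulVec, h1, Matrix.one_mulVec]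
    by_cases hl0 : l = 0
    · rw [hl0, zero_smul] at h2
      exact ⟨1, by rw [← h2, Matrix.mulVec_zero, smul_zero]⟩
    · exact ⟨l⁻¹, by
        conv_rhs => rw [← h2, smul_smul, inv_mul_cancel₀ hl0, one_smul]⟩

/-- The stabilizer of an algebra. -/
def presSub (n : M2) : Subgroup SL where
  carrier := {g | Pres g n}
  one_mem' := Or.inl (show (1 : M2) * n = n * 1 by rw [Matrix.one_mul, Matrix.mul_one])
  mul_mem' := fun {a b} ha hb => by
    have h2 : ∀ X : M2, X + X = 0 := fun X => ext4 (cases_tr _) (cases_tr _) (cases_tr _) (cases_tr _)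
    have hshift : ∀ (g : SL) (m : M2), g.1 * n = m * g.1 → g.1 * (n + 1) = (m + 1) * g.1 := fun g m hg => by
      rw [Matrix.mul_add, hg, Matrix.mul_one, Matrix.add_mul, Matrix.one_mul]
    show a.1 * b.1 * n = n * (a.1 * b.1) ∨ a.1 * b.1 * n = (n + 1) * (a.1 * b.1)
    rcases ha with ha | ha <;> rcases hb with hb | hb
    · left; rw [Matrix.mul_assoc, hb, ← Matrix.mul_assoc, ha, Matrix.mul_assoc]
    · right; rw [Matrix.mul_assoc, hb, ← Matrix.mul_assoc, hshift a n ha, Matrix.mul_assoc]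
    · right; rw [Matrix.mul_assoc, hb, ← Matrix.mul_assoc, ha, Matrix.mul_assoc]
    · left
      rw [Matrix.mul_assoc, hb, ← Matrix.mul_assoc, hshift a _ ha, add_assoc, h2, add_zero, Matrix.mul_assoc]
  inv_mem' := fun {a} ha => by
    have h2 : ∀ X : M2, X + X = 0 := fun X => ext4 (cases_tr _) (cases_tr _) (cases_tr _) (cases_tr _)
    have e1 : (a⁻¹ : SL).1 * a.1 = 1 := congrArg Subtype.val (inv_mul_cancel a)
    have e2 : a.1 * (a⁻¹ : SL).1 = 1 := congrArg Subtype.val (mul_inv_cancel a)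
    have key : ∀ X Y : M2, a.1 * X = Y * a.1 → (a⁻¹ : SL).1 * Y = X * (a⁻¹ : SL).1 := fun X Y hXY => by
      calc (a⁻¹ : SL).1 * Y = (a⁻¹ : SL).1 * (Y * a.1) * (a⁻¹ : SL).1 := by
            rw [Matrix.mul_assoc, Matrix.mul_assoc Y, e2, Matrix.mul_one]
        _ = X * (a⁻¹ : SL).1 := by rw [← hXY, ← Matrix.mul_assoc, e1, Matrix.one_mul]
    rcases ha with ha | ha
    · exact Or.inl (key n n ha)
    · right
      refine key (n + 1) n ?_
      rw [Matrix.mul_add, ha, Matrix.mul_one, Matrix.add_mul, Matrix.one_mul, add_assoc, h2, add_zero]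

theorem mem_solY {x : SL} (hx : x ≠ 1) (y : SL) : y ∈ solY x ↔
    (∃ v : Fin 2 → F, v ≠ 0 ∧ Fixes x v ∧ Fixes y v) ∨ ∃ n : M2, n 0 0 + n 1 1 = 1 ∧ Pres x n ∧ Pres y n := by
  set H := Subgroup.closure ({x, y} : Set SL)
  have hxH : x ∈ H := Subgroup.subset_closure (Set.mem_insert _ _)
  have hyH : y ∈ H := Subgroup.subset_closure (Set.mem_insert_of_mem _ rfl)
  constructor
  · intro hs
    rcases structure_of_solvable H (fun h => hx (Subgroup.mem_bot.1 (h ▸ hxH))) hs with ⟨v, hv, h⟩ | ⟨n, hn, h⟩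
    · exact Or.inl ⟨v, hv, h x hxH, h y hyH⟩
    · exact Or.inr ⟨n, hn, h x hxH, h y hyH⟩
  · rintro (⟨v, hv, h1, h2⟩ | ⟨n, hn, h1, h2⟩)
    · refine solvable_of_fixes H v hv fun g hg => ?_
      exact (show H ≤ fixSub v from (Subgroup.closure_le _).2
        (Set.insert_subset h1 (Set.singleton_subset_iff.2 h2))) hg
    · refine solvable_of_pres H n hn fun g hg => ?_
      exact (show H ≤ presSub n from (Subgroup.closure_le _).2
        (Set.insert_subset h1 (Set.singleton_subset_iff.2 h2))) hg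

/-- Build an element from entries. -/
def mkSL (a b c d : F) (h : a * d - b * c = 1) : SL := ⟨!![a, b; c, d], by rw [Matrix.det_fin_two_of]; exact h⟩

omit [CharP F 2] in
theorem fixes_e0 (y : SL) : Fixes y ![1, 0] ↔ y.1 1 0 = 0 := by
  constructor
  · rintro ⟨l, hl⟩
    simpa [Matrix.mulVec, dotProduct, Fin.sum_univ_two] using congrFun hl 1
  · intro h
    exact ⟨y.1 0 0, by ext i; fin_cases i <;> simp [Matrix.mulVec, dotProduct, Fin.sum_univ_two, h]⟩

omit [CharP F 2] in
theorem fixes_e1 (y : SL) : Fixes y ![0, 1] ↔ y.1 0 1 = 0 := by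
  constructor
  · rintro ⟨l, hl⟩
    simpa [Matrix.mulVec, dotProduct, Fin.sum_univ_two] using congrFun hl 0
  · intro h
    exact ⟨y.1 1 1, by ext i; fin_cases i <;> simp [Matrix.mulVec, dotProduct, Fin.sum_univ_two, h]⟩

/-- The unipotent normal form. -/
def U : SL := mkSL 1 1 0 1 (by ring)

theorem U_val : (U : SL).1 = !![1, 1; 0, 1] := rfl

theorem solY_U (y : SL) : y ∈ solY (U : SL) ↔
    y.1 1 0 = 0 ∨ (y.1 1 0 ≠ 0 ∧ y.1 1 1 = y.1 0 0) ∨ (y.1 1 0 ≠ 0 ∧ y.1 1 1 = y.1 0 0 + y.1 1 0) := by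
  have h2 := two0 (F := F)
  have hU1 : (U : SL) ≠ 1 := fun h => one_ne_zero (congrFun (congrFun (congrArg Subtype.val h) 0) 1 : (1 : F) = 0)
  rw [mem_solY hU1]
  constructor
  · rintro (⟨v, hv, ⟨l, hl⟩, ⟨m, hm⟩⟩ | ⟨n, hn, hx, hy⟩)
    · left
      have h0 := congrFun hl 0
      have h1 := congrFun hl 1
      rw [U_val] at h0 h1
      simp [Matrix.mulVec, dotProduct, Fin.sum_univ_two] at h0 h1
      have hv1 : v 1 = 0 := by
        have : v 1 * v 1 = 0 := by linear_combination v 1 * h0 - v 0 * h1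
        exact mul_self_eq_zero.1 this
      have hv0 : v 0 ≠ 0 := fun h => hv (by ext i; fin_cases i <;> assumption)
      have h := congrFun hm 1
      simp [Matrix.mulVec, dotProduct, Fin.sum_univ_two, hv1] at h
      exact h.resolve_right hv0
    · by_cases hc : y.1 1 0 = 0
      · exact Or.inl hc
      right
      have hn10 : n 1 0 = 1 := by
        rcases hx with hx | hx
        · exfalso
          have e00 := congrFun (congrFun hx 0) 0
          have e01 := congrFun (congrFun hx 0) 1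
          rw [U_val] at e00 e01
          simp [Matrix.mul_apply, Fin.sum_univ_two] at e00 e01
          exact one_ne_zero (show (1 : F) = 0 by linear_combination (norm := (ring_nf; (try simp [h2]))) e01 - hn)
        · have e00 := congrFun (congrFun hx 0) 0
          rw [U_val] at e00
          simp [Matrix.mul_apply, Fin.sum_univ_two] at e00
          exact e00
      rcases hy with hy | hy
      · refine Or.inr ⟨hc, ?_⟩
        have e10 := congrFun (congrFun hy 1) 0
        simp [Matrix.mul_apply, Fin.sum_univ_two, hn10] at e10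
        linear_combination (norm := (ring_nf; (try simp [h2]))) e10 + y.1 1 0 * hn
      · refine Or.inl ⟨hc, ?_⟩
        have e10 := congrFun (congrFun hy 1) 0
        simp [Matrix.mul_apply, Fin.sum_univ_two, hn10, Matrix.one_apply] at e10
        linear_combination (norm := (ring_nf; (try simp [h2]))) e10 + y.1 1 0 * hn
  · rintro (hc | ⟨hc, hd⟩ | ⟨hc, hd⟩)
    · exact Or.inl ⟨![1, 0], fun h => one_ne_zero (congrFun h 0), (fixes_e0 _).2 rfl, (fixes_e0 _).2 hc⟩
    · refine Or.inr ⟨!![0, (y.1 0 1 - y.1 0 0) / y.1 1 0; 1, 1], by simp, Or.inr ?_, Or.inr ?_⟩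
      · rw [U_val]
        apply ext4 <;> simp [Matrix.mul_apply, Fin.sum_univ_two, CharTwo.add_self_eq_zero] <;> ring
      · apply ext4 <;>
          simp [Matrix.mul_apply, Fin.sum_univ_two, hd, one_add_one_eq_two, h2] <;> field_simp <;>
          linear_combination (norm := (ring_nf; (try simp [h2]))) (0 : F) * h2
    · refine Or.inr ⟨!![0, y.1 0 1 / y.1 1 0; 1, 1], by simp, Or.inr ?_, Or.inl ?_⟩
      · rw [U_val]
        apply ext4 <;> simp [Matrix.mul_apply, Fin.sum_univ_two, CharTwo.add_self_eq_zero] <;> ring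
      · apply ext4 <;>
          simp [Matrix.mul_apply, Fin.sum_univ_two, hd, one_add_one_eq_two, h2] <;> field_simp <;>
          linear_combination (norm := (ring_nf; (try simp [h2]))) (0 : F) * h2

/-- The diagonal normal form. -/
def D (l : Fˣ) : SL := mkSL l 0 0 (l⁻¹ : Fˣ) (by simp)

theorem D_val (l : Fˣ) : (D l : SL).1 = !![(l : F), 0; 0, ((l⁻¹ : Fˣ) : F)] := rfl

theorem solY_D {l : Fˣ} (hl : (l : F) ≠ ((l⁻¹ : Fˣ) : F)) (y : SL) : y ∈ solY (D l : SL) ↔
    y.1 1 0 = 0 ∨ (y.1 1 0 ≠ 0 ∧ y.1 0 1 = 0) ∨ (y.1 0 0 = 0 ∧ y.1 1 1 = 0) := by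
  have hD1 : (D l : SL) ≠ 1 := fun h => by
    have h0 : (l : F) = 1 := congrFun (congrFun (congrArg Subtype.val h) 0) 0
    have h1 : ((l⁻¹ : Fˣ) : F) = 1 := congrFun (congrFun (congrArg Subtype.val h) 1) 1
    exact hl (h0.trans h1.symm)
  rw [mem_solY hD1]
  constructor
  · rintro (⟨v, hv, ⟨c, hc⟩, ⟨m, hm⟩⟩ | ⟨n, hn, hx, hy⟩)
    · have h0 := congrFun hc 0
      have h1 := congrFun hc 1
      rw [D_val] at h0 h1
      simp [Matrix.mulVec, dotProduct, Fin.sum_univ_two] at h0 h1
      have hv01 : v 0 * v 1 = 0 := by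
        have : ((l : F) - ((l⁻¹ : Fˣ) : F)) * (v 0 * v 1) = 0 := by
          rw [Units.val_inv_eq_inv_val]
          rcases h0 with h0 | h0 <;> rcases h1 with h1 | h1 <;> first
            | (simp [h0]; done) | (simp [h1]; done) | linear_combination (v 0 * v 1) * (h0 - h1)
        exact (mul_eq_zero.1 this).resolve_left (sub_ne_zero.2 hl)
      rcases mul_eq_zero.1 hv01 with h | h
      · have hne : v 1 ≠ 0 := fun h' => hv (by ext i; fin_cases i <;> assumption)
        have e := congrFun hm 0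
        simp [Matrix.mulVec, dotProduct, Fin.sum_univ_two, h] at e
        by_cases hc' : y.1 1 0 = 0
        · exact Or.inl hc'
        · exact Or.inr (Or.inl ⟨hc', e.resolve_right hne⟩)
      · have hne : v 0 ≠ 0 := fun h' => hv (by ext i; fin_cases i <;> assumption)
        have e := congrFun hm 1
        simp [Matrix.mulVec, dotProduct, Fin.sum_univ_two, h] at e
        exact Or.inl (e.resolve_right hne)
    · rcases hx with hx | hx
      swap
      · have e00 := congrFun (congrFun hx 0) 0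
        rw [D_val] at e00
        simp [Matrix.mul_apply, Fin.sum_univ_two] at e00
        exact absurd (show (l : F) = 0 by linear_combination -e00) l.ne_zero
      have n01 : n 0 1 = 0 := by
        have e := congrFun (congrFun hx 0) 1
        rw [D_val] at e
        simp [Matrix.mul_apply, Fin.sum_univ_two, -Units.val_inv_eq_inv_val] at e
        have : ((l : F) - ((l⁻¹ : Fˣ) : F)) * n 0 1 = 0 := by linear_combination e
        exact (mul_eq_zero.1 this).resolve_left (sub_ne_zero.2 hl)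
      have n10 : n 1 0 = 0 := by
        have e := congrFun (congrFun hx 1) 0
        rw [D_val] at e
        simp [Matrix.mul_apply, Fin.sum_univ_two, -Units.val_inv_eq_inv_val] at e
        have : ((l : F) - ((l⁻¹ : Fˣ) : F)) * n 1 0 = 0 := by linear_combination -e
        exact (mul_eq_zero.1 this).resolve_left (sub_ne_zero.2 hl)
      rcases hy with hy | hy
      · left
        have e := congrFun (congrFun hy 1) 0
        simp [Matrix.mul_apply, Fin.sum_univ_two, n01, n10] at e
        linear_combination (norm := (ring_nf; (try simp [two0 (F := F)]))) e + (- y.1 1 0) * hn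
      · right; right
        have e := congrFun (congrFun hy 0) 0
        have e' := congrFun (congrFun hy 1) 1
        simp [Matrix.mul_apply, Fin.sum_univ_two, n01, n10] at e e'
        exact ⟨by linear_combination -e, by linear_combination -e'⟩
  · rintro (hc | ⟨-, hb⟩ | ⟨ha, hd⟩)
    · exact Or.inl ⟨![1, 0], fun h => one_ne_zero (congrFun h 0), (fixes_e0 _).2 rfl, (fixes_e0 _).2 hc⟩
    · exact Or.inl ⟨![0, 1], fun h => one_ne_zero (congrFun h 1), (fixes_e1 _).2 rfl, (fixes_e1 _).2 hb⟩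
    · refine Or.inr ⟨!![0, 0; 0, 1], by simp, Or.inl ?_, Or.inr ?_⟩
      · rw [D_val]
        apply ext4 <;> simp [Matrix.mul_apply, Fin.sum_univ_two]
      · apply ext4 <;> simp [Matrix.mul_apply, Fin.sum_univ_two, ha, hd, CharTwo.add_self_eq_zero]

/-- The companion normal form. -/
def K (τ : F) : SL := mkSL 0 1 1 τ (by linear_combination (norm := (ring_nf; simp [CharTwo.two_eq_zero])) (0 : F))

theorem K_val (τ : F) : (K τ : SL).1 = !![0, 1; 1, τ] := rfl

/-- The norm one pairs. -/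
def NormOne (τ : F) : Type _ := {st : F × F // st.1 * st.1 + τ * st.1 * st.2 + st.2 * st.2 = 1}

theorem solY_K {τ : F} (hτ : τ ≠ 0) (hroot : ∀ r : F, r * r + τ * r + 1 ≠ 0) (y : SL) : y ∈ solY (K τ : SL) ↔
    (y.1 0 1 = y.1 1 0 ∧ y.1 1 1 = y.1 0 0 + τ * y.1 1 0) ∨
      (y.1 1 1 = y.1 0 0 ∧ y.1 0 1 = τ * y.1 0 0 + y.1 1 0) := by
  have h2 := two0 (F := F)
  have hK1 : (K τ : SL) ≠ 1 := fun h => one_ne_zero (congrFun (congrFun (congrArg Subtype.val h) 0) 1 : (1 : F) = 0)
  rw [mem_solY hK1]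
  constructor
  · rintro (⟨v, hv, ⟨l, hl⟩, -⟩ | ⟨n, hn, hx, hy⟩)
    · exfalso
      have h0 := congrFun hl 0
      have h1 := congrFun hl 1
      rw [K_val] at h0 h1
      simp [Matrix.mulVec, dotProduct, Fin.sum_univ_two] at h0 h1
      have hv0 : v 0 ≠ 0 := fun h => hv (by
        ext i; fin_cases i
        · exact h
        · show v 1 = 0
          rw [h0, h, mul_zero])
      refine hroot l ((mul_eq_zero.1 (?_ : (l * l + τ * l + 1) * v 0 = 0)).resolve_right hv0)
      linear_combination (norm := (ring_nf; (try simp [h2]))) h1 + (l + τ) * h0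
    · rcases hx with hx | hx
      swap
      · exfalso
        have e00 := congrFun (congrFun hx 0) 0
        have e11 := congrFun (congrFun hx 1) 1
        rw [K_val] at e00 e11
        simp [Matrix.mul_apply, Fin.sum_univ_two] at e00 e11
        exact hτ (by linear_combination (norm := (ring_nf; (try simp [h2]))) e11 + e00)
      have e00 := congrFun (congrFun hx 0) 0
      have e01 := congrFun (congrFun hx 0) 1
      rw [K_val] at e00 e01
      simp [Matrix.mul_apply, Fin.sum_univ_two] at e00 e01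
      have hkey : τ * n 0 1 = 1 := by linear_combination (norm := (ring_nf; (try simp [h2]))) hn + e01
      have hn0 : n 0 1 ≠ 0 := fun h => by rw [h, mul_zero] at hkey; exact zero_ne_one hkey
      rcases hy with hy | hy
      · left
        have a00 := congrFun (congrFun hy 0) 0
        have a01 := congrFun (congrFun hy 0) 1
        simp [Matrix.mul_apply, Fin.sum_univ_two] at a00 a01
        have e1 : y.1 0 1 = y.1 1 0 := mul_right_cancel₀ hn0 (by linear_combination a00 - y.1 0 1 * e00)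
        exact ⟨e1, mul_right_cancel₀ hn0 (by
          linear_combination (norm := (ring_nf; (try simp [h2]))) a01 + y.1 0 1 * e01 - (τ * n 0 1) * e1)⟩
      · right
        have a00 := congrFun (congrFun hy 0) 0
        have a01 := congrFun (congrFun hy 0) 1
        simp [Matrix.mul_apply, Fin.sum_univ_two] at a00 a01
        have e1 : y.1 0 1 = τ * y.1 0 0 + y.1 1 0 := mul_right_cancel₀ hn0 (by
          linear_combination (norm := (ring_nf; (try simp [h2]))) a00 + y.1 0 1 * e00 + y.1 0 0 * hkey)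
        exact ⟨mul_right_cancel₀ hn0 (by
          linear_combination (norm := (ring_nf; (try simp [h2]))) a01 + y.1 0 1 * e01 + y.1 0 1 * hkey), e1⟩
  · intro h
    refine Or.inr ⟨τ⁻¹ • !![0, 1; 1, τ], by simp [hτ], Or.inl ?_, ?_⟩
    · rw [K_val, mul_smul_comm, smul_mul_assoc]
    rcases h with ⟨hb, hd⟩ | ⟨hd, hb⟩
    · left
      apply ext4 <;> simp [Matrix.mul_apply, Fin.sum_univ_two, hb, hd] <;> field_simp <;>
        linear_combination (norm := (ring_nf; (try simp [h2]))) (0 : F) * h2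
    · right
      apply ext4 <;> simp [Matrix.mul_apply, Fin.sum_univ_two, hb, hd] <;> field_simp <;>
        linear_combination (norm := (ring_nf; (try simp [h2]))) (0 : F) * h2

omit [CharP F 2] in
theorem card_three {α : Type*} [Finite α] (P Q R : α → Prop) (h12 : ∀ a, P a → ¬ Q a) (h13 : ∀ a, P a → ¬ R a)
    (h23 : ∀ a, Q a → ¬ R a) : Nat.card {a // P a ∨ Q a ∨ R a} = Nat.card {a // P a} + Nat.card {a // Q a} + Nat.card {a // R a} := by
  classical
  haveI := Fintype.ofFinite α
  simp only [Nat.card_eq_fintype_card, Fintype.card_subtype]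
  rw [Finset.filter_or, Finset.filter_or, Finset.card_union_of_disjoint, Finset.card_union_of_disjoint, add_assoc]
  · exact Finset.disjoint_filter.2 fun a _ ha => h23 a ha
  · refine Finset.disjoint_union_right.2 ⟨?_, ?_⟩
    · exact Finset.disjoint_filter.2 fun a _ ha => h12 a ha
    · exact Finset.disjoint_filter.2 fun a _ ha => h13 a ha

variable [Finite F]

omit [CharP F 2] in
theorem card_units' : Nat.card Fˣ = Nat.card F - 1 := Nat.card_units F

omit [CharP F 2] in
theorem card_borel : Nat.card {y : SL // y.1 1 0 = 0} = Nat.card F * (Nat.card F - 1) := by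
  rw [← card_units', ← Nat.card_prod]
  refine Nat.card_congr ⟨fun y => (y.1.1 0 1, Units.mk0 (y.1.1 0 0) fun h => ?_),
    fun p => ⟨mkSL p.2 p.1 0 (p.2⁻¹ : Fˣ) (by simp), rfl⟩, fun y => ?_, fun p => ?_⟩
  · have := det2 y.1
    rw [h, y.2] at this
    simp at this
  · have hd := det2 y.1
    rw [y.2] at hd
    refine Subtype.ext (Subtype.ext (ext4 rfl rfl y.2.symm ?_))
    refine (Units.val_inv_eq_inv_val _).trans ?_
    exact inv_eq_of_mul_eq_one_right (show y.1.1 0 0 * y.1.1 1 1 = 1 by linear_combination hd)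
  · exact Prod.ext rfl (Units.ext rfl)

omit [CharP F 2] in
theorem card_graph (f : F → F → F) :
    Nat.card {y : SL // y.1 1 0 ≠ 0 ∧ y.1 1 1 = f (y.1 0 0) (y.1 1 0)} = Nat.card F * (Nat.card F - 1) := by
  rw [← card_units', ← Nat.card_prod]
  refine Nat.card_congr ⟨fun y => (y.1.1 0 0, Units.mk0 (y.1.1 1 0) y.2.1),
    fun p => ⟨mkSL p.1 ((p.1 * f p.1 p.2 - 1) / p.2) p.2 (f p.1 p.2) (by
      rw [div_mul_cancel₀ _ p.2.ne_zero]; ring), p.2.ne_zero, rfl⟩, fun y => ?_, fun p => ?_⟩
  · have hd := det2 y.1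
    refine Subtype.ext (Subtype.ext (ext4 rfl ?_ rfl y.2.2.symm))
    show (y.1.1 0 0 * f (y.1.1 0 0) (y.1.1 1 0) - 1) / y.1.1 1 0 = y.1.1 0 1
    rw [div_eq_iff y.2.1, ← y.2.2]
    linear_combination hd
  · exact Prod.ext rfl (Units.ext rfl)

theorem card_solY_U : Nat.card (solY (U : SL)) = 3 * Nat.card F * (Nat.card F - 1) := by
  rw [Nat.card_congr (Equiv.subtypeEquivRight (p := (· ∈ solY (U : SL))) solY_U), card_three]
  · rw [card_borel, card_graph fun a _ => a, card_graph fun a c => a + c]; ring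
  · exact fun a h h' => h'.1 h
  · exact fun a h h' => h'.1 h
  · exact fun a h h' => h.1 (by linear_combination h.2 - h'.2)

theorem card_solY_D {l : Fˣ} (hl : (l : F) ≠ ((l⁻¹ : Fˣ) : F)) :
    Nat.card (solY (D l : SL)) = 2 * Nat.card F * (Nat.card F - 1) := by
  have hlow : Nat.card {y : SL // y.1 1 0 ≠ 0 ∧ y.1 0 1 = 0} = (Nat.card F - 1) * (Nat.card F - 1) := by
    rw [← card_units', ← Nat.card_prod]
    refine Nat.card_congr ⟨fun y => (Units.mk0 (y.1.1 0 0) fun h => ?_, Units.mk0 (y.1.1 1 0) y.2.1),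
      fun p => ⟨mkSL p.1 0 p.2 (p.1⁻¹ : Fˣ) (by simp), p.2.ne_zero, rfl⟩, fun y => ?_, fun p => ?_⟩
    · have := det2 y.1
      rw [h, y.2.2] at this
      simp at this
    · have hd := det2 y.1
      rw [y.2.2] at hd
      refine Subtype.ext (Subtype.ext (ext4 rfl y.2.2.symm rfl ?_))
      refine (Units.val_inv_eq_inv_val _).trans ?_
      exact inv_eq_of_mul_eq_one_right (show y.1.1 0 0 * y.1.1 1 1 = 1 by linear_combination hd)
    · exact Prod.ext (Units.ext rfl) (Units.ext rfl)
  have hanti : Nat.card {y : SL // y.1 0 0 = 0 ∧ y.1 1 1 = 0} = Nat.card F - 1 := by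
    rw [← card_units']
    refine Nat.card_congr ⟨fun y => Units.mk0 (y.1.1 1 0) fun h => ?_,
      fun c => ⟨mkSL 0 (-(c⁻¹ : Fˣ)) c 0 (by simp), rfl, rfl⟩, fun y => ?_, fun c => Units.ext rfl⟩
    · have := det2 y.1
      rw [h, y.2.1] at this
      simp at this
    · have hd := det2 y.1
      rw [y.2.1, y.2.2] at hd
      refine Subtype.ext (Subtype.ext (ext4 y.2.1.symm ?_ rfl y.2.2.symm))
      show -((Units.mk0 (y.1.1 1 0) _)⁻¹ : Fˣ).val = y.1.1 0 1
      rw [Units.val_inv_eq_inv_val, Units.val_mk0, neg_eq_iff_eq_neg]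
      exact inv_eq_of_mul_eq_one_right (by linear_combination hd)
  rw [Nat.card_congr (Equiv.subtypeEquivRight (p := (· ∈ solY (D l : SL))) (solY_D hl)), card_three]
  · rw [card_borel, hlow, hanti]
    obtain ⟨m, hm⟩ : ∃ m, Nat.card F = m + 1 := ⟨Nat.card F - 1, (Nat.succ_pred_eq_of_pos Nat.card_pos).symm⟩
    rw [hm, Nat.add_sub_cancel]; ring
  · exact fun a h h' => h'.1 h
  · intro a h h'
    have := det2 a
    rw [h'.1, h] at this
    simp at this
  · intro a h h'
    have := det2 a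
    rw [h'.1, h.2] at this
    simp at this

theorem isSquare' (d : F) : ∃ r : F, r * r = d := by
  haveI := Fintype.ofFinite F
  obtain ⟨r, hr⟩ := FiniteField.isSquare_of_char_two (ringChar.eq F 2) d
  exact ⟨r, hr.symm⟩

theorem card_normOne {τ : F} (hroot : ∀ r : F, r * r + τ * r + 1 ≠ 0) :
    Nat.card (NormOne τ) = Nat.card F + 1 := by
  classical
  have h2 := two0 (F := F)
  let Q : F × F → F := fun st => st.1 * st.1 + τ * st.1 * st.2 + st.2 * st.2
  have hQ : ∀ st : F × F, st ≠ 0 → Q st ≠ 0 := fun st hst h => by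
    by_cases ht : st.2 = 0
    · exact hst (Prod.ext (mul_self_eq_zero.1 (by simpa [Q, ht] using h)) ht)
    · refine hroot (st.1 / st.2) ?_
      field_simp
      linear_combination h
  choose r hr using fun d : F => isSquare' d
  have hrinj : ∀ a b : F, a * a = b * b → a = b := fun a b h => by
    have : (a + b) * (a + b) = 0 := by linear_combination (norm := (ring_nf; (try simp [h2]))) h
    exact CharTwo.add_eq_zero.1 (mul_self_eq_zero.1 this)
  have e : Nat.card {st : F × F // st ≠ 0} = Nat.card (NormOne τ) * Nat.card Fˣ := by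
    rw [← Nat.card_prod]
    refine Nat.card_congr ⟨fun v => (⟨((r (Q v.1))⁻¹ * v.1.1, (r (Q v.1))⁻¹ * v.1.2), ?_⟩,
        Units.mk0 (r (Q v.1)) fun h => hQ _ v.2 (by rw [← hr (Q v.1), h, mul_zero])),
      fun p => ⟨((p.2 : F) * p.1.1.1, (p.2 : F) * p.1.1.2), fun h => ?_⟩, fun v => ?_, fun p => ?_⟩
    · have hne : r (Q v.1) ≠ 0 := fun h => hQ _ v.2 (by rw [← hr (Q v.1), h, mul_zero])
      field_simp
      linear_combination -(hr (Q v.1))
    · have h1 := p.1.2
      have hs := congrArg Prod.fst h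
      have ht := congrArg Prod.snd h
      simp at hs ht
      rw [hs, ht] at h1
      simp at h1
    · have hne : r (Q v.1) ≠ 0 := fun h => hQ _ v.2 (by rw [← hr (Q v.1), h, mul_zero])
      refine Subtype.ext (Prod.ext ?_ ?_) <;> exact mul_inv_cancel_left₀ hne _
    · obtain ⟨⟨⟨s, t⟩, hst⟩, c⟩ := p
      have hc : r (Q ((c : F) * s, (c : F) * t)) = c := hrinj _ _ (by
        rw [hr]
        show (c : F) * s * ((c : F) * s) + τ * ((c : F) * s) * ((c : F) * t) + (c : F) * t * ((c : F) * t) = _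
        linear_combination (c : F) * (c : F) * hst)
      refine Prod.ext (Subtype.ext (Prod.ext ?_ ?_)) (Units.ext hc)
      · show (r (Q ((c : F) * s, (c : F) * t)))⁻¹ * ((c : F) * s) = s
        rw [hc, inv_mul_cancel_left₀ c.ne_zero]
      · show (r (Q ((c : F) * s, (c : F) * t)))⁻¹ * ((c : F) * t) = t
        rw [hc, inv_mul_cancel_left₀ c.ne_zero]
  haveI := Fintype.ofFinite F
  have e2 : Nat.card {st : F × F // st ≠ 0} = Nat.card F * Nat.card F - 1 := by
    rw [Nat.card_eq_fintype_card, Fintype.card_subtype_compl, Fintype.card_subtype_eq, Fintype.card_prod,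
      ← Nat.card_eq_fintype_card]
  obtain ⟨m, hm⟩ : ∃ m, Nat.card F = m + 2 := ⟨Nat.card F - 2, by have := Finite.one_lt_card (α := F); omega⟩
  rw [e2, card_units', hm] at e
  rw [show (m + 2) * (m + 2) - 1 = (m + 3) * (m + 1) from Nat.sub_eq_of_eq_add (by ring),
    show m + 2 - 1 = m + 1 from rfl] at e
  rw [hm]
  exact (Nat.eq_of_mul_eq_mul_right (Nat.succ_pos m) e).symm

theorem card_comm_K {τ : F} :
    Nat.card {y : SL // y.1 0 1 = y.1 1 0 ∧ y.1 1 1 = y.1 0 0 + τ * y.1 1 0} = Nat.card (NormOne τ) := by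
  have h2 := two0 (F := F)
  refine Nat.card_congr ⟨fun y => ⟨(y.1.1 0 0, y.1.1 1 0), ?_⟩,
    fun p => ⟨mkSL p.1.1 p.1.2 p.1.2 (p.1.1 + τ * p.1.2) ?_, rfl, rfl⟩, fun y => ?_, fun p => rfl⟩
  · have hd := det2 y.1
    rw [y.2.1, y.2.2] at hd
    linear_combination (norm := (ring_nf; (try simp [h2]))) hd
  · linear_combination (norm := (ring_nf; (try simp [h2]))) p.2
  · exact Subtype.ext (Subtype.ext (ext4 rfl y.2.1.symm rfl y.2.2.symm))

theorem card_solY_K {τ : F} (hτ : τ ≠ 0) (hroot : ∀ r : F, r * r + τ * r + 1 ≠ 0) :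
    Nat.card (solY (K τ : SL)) = 2 * (Nat.card F + 1) := by
  classical
  have h2 := two0 (F := F)
  have hinv : Nat.card {y : SL // y.1 1 1 = y.1 0 0 ∧ y.1 0 1 = τ * y.1 0 0 + y.1 1 0} = Nat.card (NormOne τ) := by
    refine Nat.card_congr ⟨fun y => ⟨(y.1.1 0 0, y.1.1 1 0), ?_⟩,
      fun p => ⟨mkSL p.1.1 (τ * p.1.1 + p.1.2) p.1.2 p.1.1 ?_, rfl, rfl⟩, fun y => ?_, fun p => rfl⟩
    · have hd := det2 y.1
      rw [y.2.1, y.2.2] at hd
      linear_combination (norm := (ring_nf; (try simp [h2]))) hd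
    · linear_combination (norm := (ring_nf; (try simp [h2]))) p.2
    · exact Subtype.ext (Subtype.ext (ext4 rfl y.2.2.symm rfl y.2.1.symm))
  rw [Nat.card_congr (Equiv.subtypeEquivRight (p := (· ∈ solY (K τ : SL))) (solY_K hτ hroot)),
    ← card_normOne hroot, two_mul]
  conv_rhs => arg 1; rw [← card_comm_K]
  conv_rhs => arg 2; rw [← hinv]
  haveI := Fintype.ofFinite SL
  simp only [Nat.card_eq_fintype_card, Fintype.card_subtype]
  rw [Finset.filter_or, Finset.card_union_of_disjoint]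
  refine Finset.disjoint_filter.2 fun a _ ⟨hb, hd⟩ ⟨hd', hb'⟩ => ?_
  have hc : a.1 1 0 = 0 := (mul_eq_zero.1 (by linear_combination hd' - hd : τ * a.1 1 0 = 0)).resolve_left hτ
  have ha : a.1 0 0 = 0 := (mul_eq_zero.1 (by linear_combination hb - hb' : τ * a.1 0 0 = 0)).resolve_left hτ
  have := det2 a
  rw [hc, ha] at this
  simp at this

omit [Finite F] in
/-- Passing to a normal form. -/
theorem exists_conj (x N : SL) (a b c d : F) (h : a * d - b * c ≠ 0) (hx : x.1 * !![a, b; c, d] = !![a, b; c, d] * N.1) :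
    ∃ e : SL ≃* SL, e N = x := by
  have hP : IsUnit (!![a, b; c, d] : M2) := (Matrix.isUnit_iff_isUnit_det _).2 (by
    rw [Matrix.det_fin_two_of]; exact isUnit_iff_ne_zero.2 h)
  obtain ⟨P, hP⟩ := hP
  let cj : (M2)ˣ → SL →* SL := fun Q =>
    { toFun := fun z => ⟨(Q : M2) * z.1 * ((Q⁻¹ : (M2)ˣ) : M2), by
        rw [Matrix.det_units_conj, z.2]⟩
      map_one' := Subtype.ext (by simp)
      map_mul' := fun z w => Subtype.ext (by
        show (Q : M2) * (z.1 * w.1) * ((Q⁻¹ : (M2)ˣ) : M2) =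
          ((Q : M2) * z.1 * ((Q⁻¹ : (M2)ˣ) : M2)) * ((Q : M2) * w.1 * ((Q⁻¹ : (M2)ˣ) : M2))
        simp [Matrix.mul_assoc]) }
  refine ⟨MulEquiv.mk' ⟨cj P, cj P⁻¹, fun z => Subtype.ext ?_, fun z => Subtype.ext ?_⟩ (cj P).map_mul, Subtype.ext ?_⟩
  · show ((P⁻¹ : (M2)ˣ) : M2) * ((P : M2) * z.1 * ((P⁻¹ : (M2)ˣ) : M2)) * ((P⁻¹⁻¹ : (M2)ˣ) : M2) = z.1
    simp [Matrix.mul_assoc]
  · show (P : M2) * (((P⁻¹ : (M2)ˣ) : M2) * z.1 * ((P⁻¹⁻¹ : (M2)ˣ) : M2)) * ((P⁻¹ : (M2)ˣ) : M2) = z.1
    simp [Matrix.mul_assoc]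
  · show (P : M2) * N.1 * ((P⁻¹ : (M2)ˣ) : M2) = x.1
    rw [← hP] at hx
    rw [← hx, Matrix.mul_assoc, Units.mul_inv, Matrix.mul_one]

theorem unipotent_form (x : SL) (hx : x ≠ 1) (ht : x.1 0 0 + x.1 1 1 = 0) : ∃ e : SL ≃* SL, e U = x := by
  have h2 := two0 (F := F)
  have hd := det2 x
  have h11 : x.1 1 1 = x.1 0 0 := (CharTwo.add_eq_zero.1 ht).symm
  rw [h11] at hd
  by_cases hc : x.1 1 0 = 0
  · have h00 : x.1 0 0 = 1 := by
      rw [hc] at hd
      have : (x.1 0 0 - 1) * (x.1 0 0 - 1) = 0 := by linear_combination hd + (1 - x.1 0 0) * h2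
      exact sub_eq_zero.1 (mul_self_eq_zero.1 this)
    have hb : x.1 0 1 ≠ 0 := fun hb => hx (Subtype.ext (ext4 (by simpa using h00) (by simpa using hb)
      (by simpa using hc) (by simpa [h11] using h00)))
    refine exists_conj x U (x.1 0 1) 0 0 1 (by simpa using hb) ?_
    rw [U_val]
    apply ext4 <;> simp [Matrix.mul_apply, Fin.sum_univ_two, h00, h11, hc]
  · refine exists_conj x U (x.1 0 0 + 1) 1 (x.1 1 0) 0 (by simpa using hc) ?_
    rw [U_val]
    apply ext4 <;> simp [Matrix.mul_apply, Fin.sum_univ_two, h11] <;>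
      first | (linear_combination (norm := (ring_nf; (try simp [h2]); done)) (0 : F) * hd) | (linear_combination (norm := (ring_nf; (try simp [h2]); done)) hd)

theorem companion_form (x : SL) (hroot : ∀ r : F, r * r + (x.1 0 0 + x.1 1 1) * r + 1 ≠ 0) :
    ∃ e : SL ≃* SL, e (K (x.1 0 0 + x.1 1 1)) = x := by
  have h2 := two0 (F := F)
  have hd := det2 x
  have hc : x.1 1 0 ≠ 0 := fun hc => hroot (x.1 0 0) (by
    rw [hc] at hd; linear_combination (norm := (ring_nf; (try simp [h2]))) hd)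
  refine exists_conj x _ 1 (x.1 0 0) 0 (x.1 1 0) (by simpa using hc) ?_
  rw [K_val]
  apply ext4 <;> simp [Matrix.mul_apply, Fin.sum_univ_two] <;>
    first | (linear_combination (norm := (ring_nf; (try simp [h2]); done)) (0 : F) * hd) | (linear_combination (norm := (ring_nf; (try simp [h2]); done)) hd)

theorem split_form (x : SL) (r : F) (hr : r * r + (x.1 0 0 + x.1 1 1) * r + 1 = 0)
    (hτ : x.1 0 0 + x.1 1 1 ≠ 0) :
    ∃ (l : Fˣ) (e : SL ≃* SL), (l : F) ≠ ((l⁻¹ : Fˣ) : F) ∧ e (D l) = x := by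
  have h2 := two0 (F := F)
  have hd := det2 x
  set τ := x.1 0 0 + x.1 1 1 with hτdef
  have hr0 : r ≠ 0 := fun h => by rw [h] at hr; simp at hr
  have hinv : r⁻¹ = r + τ := inv_eq_of_mul_eq_one_right (by linear_combination (norm := (ring_nf; (try simp [h2]))) hr)
  have hne : (Units.mk0 r hr0 : F) ≠ (((Units.mk0 r hr0)⁻¹ : Fˣ) : F) := by
    rw [Units.val_inv_eq_inv_val, Units.val_mk0, hinv]
    exact fun h => hτ (by linear_combination -h)
  by_cases hc : x.1 1 0 = 0
  · have hprod : x.1 0 0 * x.1 1 1 = 1 := by rw [hc] at hd; linear_combination hd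
    have h0 : x.1 0 0 ≠ 0 := left_ne_zero_of_mul_eq_one hprod
    have hl : ((Units.mk0 (x.1 0 0) h0)⁻¹ : Fˣ).val = x.1 1 1 := by
      rw [Units.val_inv_eq_inv_val, Units.val_mk0]; exact inv_eq_of_mul_eq_one_right hprod
    have hne' : x.1 0 0 ≠ x.1 1 1 := fun h => hτ (by rw [hτdef, h, CharTwo.add_self_eq_zero])
    obtain ⟨e, he⟩ := exists_conj x (D (Units.mk0 (x.1 0 0) h0)) 1 (x.1 0 1) 0 τ (by simpa using hτ) (by
      rw [D_val, hl, Units.val_mk0]
      apply ext4 <;> simp [Matrix.mul_apply, Fin.sum_univ_two, hc, hτdef] <;>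
        linear_combination (norm := (ring_nf; (try simp [h2]))) (0 : F) * h2)
    exact ⟨_, e, by rw [hl, Units.val_mk0]; exact hne', he⟩
  · obtain ⟨e, he⟩ := exists_conj x (D (Units.mk0 r hr0)) (r - x.1 1 1) (r + τ - x.1 1 1) (x.1 1 0) (x.1 1 0)
      (fun h => mul_ne_zero hc hτ (by linear_combination (norm := (ring_nf; (try simp [h2]))) h)) (by
      rw [D_val, Units.val_inv_eq_inv_val, Units.val_mk0, hinv]
      apply ext4 <;> simp [Matrix.mul_apply, Fin.sum_univ_two, hτdef] <;>
        first | (linear_combination (norm := (ring_nf; (try simp [h2]); done)) (0 : F) * hd) | (linear_combination (norm := (ring_nf; (try simp [h2]); done)) hd + hr) | (linear_combination (norm := (ring_nf; (try simp [h2]); done)) r * hτdef) | (linear_combination (norm := (ring_nf; (try simp [h2]); done)) hd) | (linear_combination (norm := (ring_nf; (try simp [h2]); done)) hr) | (linear_combination (norm := (ring_nf; (try simp [h2]); done)) hd + hr + r * hτdef) | (linear_combination (norm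 := (ring_nf; (try simp [h2]); done)) (x.1 1 0) * hτdef) | (linear_combination (norm := (ring_nf; (try simp [h2]); done)) hd + r * hτdef) | (linear_combination (norm := (ring_nf; (try simp [h2]); done)) hr + r * hτdef))
    exact ⟨_, e, hne, he⟩

theorem orderOf_dvd_card_commK {τ : F} (hroot : ∀ r : F, r * r + τ * r + 1 ≠ 0) :
    orderOf (K τ : SL) ∣ Nat.card F + 1 := by
  have h2 := two0 (F := F)
  let C : Subgroup SL := Subgroup.centralizer {(K τ : SL)}
  have hC : Nat.card C = Nat.card F + 1 := by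
    rw [← card_normOne hroot, ← card_comm_K (τ := τ)]
    refine Nat.card_congr (Equiv.subtypeEquivRight fun y => ?_)
    rw [Subgroup.mem_centralizer_singleton_iff]
    constructor
    · intro h
      have h' := congrArg Subtype.val h
      simp only [Matrix.SpecialLinearGroup.coe_mul, K_val] at h'
      have e00 := congrFun (congrFun h' 0) 0
      have e01 := congrFun (congrFun h' 0) 1
      simp [Matrix.mul_apply, Fin.sum_univ_two] at e00 e01
      refine ⟨by linear_combination e00, ?_⟩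
      linear_combination (norm := (ring_nf; (try simp [h2]))) e01 + τ * e00
    · rintro ⟨hb, hd⟩
      refine Subtype.ext ?_
      show y.1 * (K τ : SL).1 = (K τ : SL).1 * y.1
      rw [K_val]
      apply ext4 <;> simp [Matrix.mul_apply, Fin.sum_univ_two, hb, hd] <;>
        linear_combination (norm := (ring_nf; (try simp [h2]))) (0 : F) * h2
  have hmem : (K τ : SL) ∈ C := Subgroup.mem_centralizer_singleton_iff.2 rfl
  rw [← hC, ← Subgroup.orderOf_mk (K τ : SL) hmem]
  exact orderOf_dvd_natCard _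

theorem card_solY_cases (x : SL) :
    (orderOf x = 2 → Nat.card (solY x) = 3 * Nat.card F * (Nat.card F - 1)) ∧
    (x ≠ 1 → orderOf x ∣ Nat.card F - 1 → Nat.card (solY x) = 2 * Nat.card F * (Nat.card F - 1)) ∧
    (x ≠ 1 → orderOf x ∣ Nat.card F + 1 → Nat.card (solY x) = 2 * (Nat.card F + 1)) := by
  haveI := Fintype.ofFinite F
  have heven : 2 ∣ Nat.card F := by
    obtain ⟨n, -, hn⟩ := FiniteField.card F 2
    rw [Nat.card_eq_fintype_card, hn]
    exact dvd_pow_self 2 n.pos.ne'
  have hbig := Finite.one_lt_card (α := F)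
  set τ := x.1 0 0 + x.1 1 1 with hτdef
  have hU : (U : SL) * U = 1 := Subtype.ext (by
    show (U : SL).1 * (U : SL).1 = 1
    rw [U_val]; apply ext4 <;> simp [Matrix.mul_apply, Fin.sum_univ_two, CharTwo.add_self_eq_zero])
  have hinvol : x ≠ 1 → τ = 0 → orderOf x = 2 ∧ Nat.card (solY x) = 3 * Nat.card F * (Nat.card F - 1) := by
    intro hx ht
    obtain ⟨e, rfl⟩ := unipotent_form x hx ht
    haveI : Fact (Nat.Prime 2) := ⟨Nat.prime_two⟩
    exact ⟨orderOf_eq_prime (by rw [pow_two, ← map_mul, hU, map_one]) hx, by rw [solY_map, card_solY_U]⟩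
  have hsplit : x ≠ 1 → τ ≠ 0 → ∀ r, r * r + τ * r + 1 = 0 → orderOf x ∣ Nat.card F - 1 ∧
      Nat.card (solY x) = 2 * Nat.card F * (Nat.card F - 1) := by
    intro _ hτ r hr
    obtain ⟨l, e, hl, he⟩ := split_form x r hr hτ
    rw [← he, solY_map, card_solY_D hl, MulEquiv.orderOf_eq]
    refine ⟨orderOf_dvd_of_pow_eq_one ?_, rfl⟩
    have hpow : ∀ k : ℕ, (D l : SL) ^ k = D (l ^ k) := by
      intro k
      induction k with
      | zero =>
        refine Subtype.ext ?_
        rw [pow_zero, Matrix.SpecialLinearGroup.coe_one, D_val]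
        apply ext4 <;> simp
      | succ k ih =>
        rw [pow_succ, ih]
        refine Subtype.ext ?_
        rw [Matrix.SpecialLinearGroup.coe_mul, D_val, D_val, D_val]
        apply ext4 <;> simp [Matrix.mul_apply, Fin.sum_univ_two, pow_succ, mul_comm]
    rw [hpow, ← card_units', pow_card_eq_one']
    refine Subtype.ext ?_
    rw [Matrix.SpecialLinearGroup.coe_one, D_val]
    apply ext4 <;> simp
  have hnon : x ≠ 1 → τ ≠ 0 → (∀ r, r * r + τ * r + 1 ≠ 0) → orderOf x ∣ Nat.card F + 1 ∧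
      Nat.card (solY x) = 2 * (Nat.card F + 1) := by
    intro _ hτ hroot
    obtain ⟨e, he⟩ := companion_form x hroot
    rw [← he, solY_map, card_solY_K hτ hroot, MulEquiv.orderOf_eq]
    exact ⟨orderOf_dvd_card_commK hroot, rfl⟩
  have hexcl : ∀ a b : ℕ, x ≠ 1 → orderOf x ∣ a → orderOf x ∣ b → Nat.gcd a b = 1 → False := fun a b hx ha hb hg =>
    hx (orderOf_eq_one_iff.1 (Nat.eq_one_of_dvd_one (hg ▸ Nat.dvd_gcd ha hb)))
  obtain ⟨m, hm⟩ := heven
  have g1 : Nat.gcd 2 (Nat.card F - 1) = 1 := (Nat.prime_two.coprime_iff_not_dvd).2 (by omega)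
  have g2 : Nat.gcd 2 (Nat.card F + 1) = 1 := (Nat.prime_two.coprime_iff_not_dvd).2 (by omega)
  have g3 : Nat.gcd (Nat.card F - 1) (Nat.card F + 1) = 1 := by
    rw [show Nat.card F + 1 = 2 + (Nat.card F - 1) by omega, Nat.gcd_add_self_right, Nat.gcd_comm]
    exact g1
  refine ⟨fun ho => ?_, fun hx ho => ?_, fun hx ho => ?_⟩
  · have hx : x ≠ 1 := fun h => by rw [h, orderOf_one] at ho; omega
    by_cases ht : τ = 0
    · exact (hinvol hx ht).2
    exfalso
    by_cases hr : ∃ r, r * r + τ * r + 1 = 0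
    · obtain ⟨r, hr⟩ := hr
      exact hexcl 2 _ hx ho.dvd (hsplit hx ht r hr).1 g1
    · push_neg at hr
      exact hexcl 2 _ hx ho.dvd (hnon hx ht hr).1 g2
  · by_cases ht : τ = 0
    · exact (hexcl 2 _ hx (hinvol hx ht).1.dvd ho g1).elim
    by_cases hr : ∃ r, r * r + τ * r + 1 = 0
    · obtain ⟨r, hr⟩ := hr
      exact (hsplit hx ht r hr).2
    · push_neg at hr
      exact (hexcl _ _ hx ho (hnon hx ht hr).1 g3).elim
  · by_cases ht : τ = 0
    · exact (hexcl 2 _ hx (hinvol hx ht).1.dvd ho g2).elim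
    by_cases hr : ∃ r, r * r + τ * r + 1 = 0
    · obtain ⟨r, hr⟩ := hr
      exact (hexcl _ _ hx (hsplit hx ht r hr).1 ho g3).elim
    · push_neg at hr
      exact (hnon hx ht hr).2

/-- Let G = PSL_2(F) with F a field of order q = 2^p, p prime, and for x ∈ G call the solubilizer of x the set of y ∈ G such that x and y generate a solvable subgroup. Then the solubilizer of an involution has 3q(q − 1) elements; that of a non-identity element of order dividing q − 1 has 2q(q − 1) elements; and that of a non-identity element of order dividing q + 1 has 2(q + 1) elements. -/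
theorem result (p : ℕ) (hp : p.Prime) {F : Type*} [Field F] [Fintype F]
    (hF : Fintype.card F = 2 ^ p) (x : Matrix.ProjectiveSpecialLinearGroup (Fin 2) F) :
    (orderOf x = 2 → Nat.card {y : Matrix.ProjectiveSpecialLinearGroup (Fin 2) F // Group.IsSolvable ↥(Subgroup.closure ({x, y} : Set (Matrix.ProjectiveSpecialLinearGroup (Fin 2) F)))} = 3 * 2 ^ p * (2 ^ p - 1)) ∧
    (x ≠ 1 → orderOf x ∣ 2 ^ p - 1 → Nat.card {y : Matrix.ProjectiveSpecialLinearGroup (Fin 2) F // Group.IsSolvable ↥(Subgroup.closure ({x, y} : Set (Matrix.ProjectiveSpecialLinearGroup (Fin 2) F)))} = 2 * 2 ^ p * (2 ^ p - 1)) ∧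
    (x ≠ 1 → orderOf x ∣ 2 ^ p + 1 → Nat.card {y : Matrix.ProjectiveSpecialLinearGroup (Fin 2) F // Group.IsSolvable ↥(Subgroup.closure ({x, y} : Set (Matrix.ProjectiveSpecialLinearGroup (Fin 2) F)))} = 2 * (2 ^ p + 1)) := by
  haveI : CharP F 2 := by
    obtain ⟨r, hr⟩ := CharP.exists F
    obtain ⟨n, hrp, hn⟩ := FiniteField.card F r
    have h := hrp.dvd_of_dvd_pow (n := p) (m := 2) (by rw [← hF, hn]; exact dvd_pow_self r n.pos.ne')
    rwa [(Nat.prime_dvd_prime_iff_eq hrp Nat.prime_two).1 h] at hr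
  have hbot : Subgroup.center (Matrix.SpecialLinearGroup (Fin 2) F) = ⊥ := by
    rw [eq_bot_iff]
    intro z hz
    obtain ⟨r, hr, hz'⟩ := Matrix.SpecialLinearGroup.mem_center_iff.1 hz
    have hr1 : r = 1 := by
      rw [Fintype.card_fin, pow_two] at hr
      have : (r + 1) * (r + 1) = 0 := by linear_combination (norm := (ring_nf; (try simp [two0 (F := F)]))) hr
      exact CharTwo.add_eq_zero.1 (mul_self_eq_zero.1 this)
    rw [Subgroup.mem_bot]
    exact Subtype.ext (by rw [← hz', hr1, map_one]; rfl)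
  let e : Matrix.SpecialLinearGroup (Fin 2) F ≃* Matrix.ProjectiveSpecialLinearGroup (Fin 2) F :=
    (QuotientGroup.quotientBot.symm).trans (QuotientGroup.quotientMulEquivOfEq hbot.symm)
  obtain ⟨x', rfl⟩ := e.surjective x
  have hq : Nat.card F = 2 ^ p := by rw [Nat.card_eq_fintype_card, hF]
  have h := card_solY_cases x'
  rw [hq] at h
  have hs : Nat.card (solY (e x')) = Nat.card (solY x') := solY_map e x'
  refine ⟨fun ho => ?_, fun hx ho => ?_, fun hx ho => ?_⟩
  · rw [MulEquiv.orderOf_eq] at ho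
    exact hs.trans (h.1 ho)
  · rw [MulEquiv.orderOf_eq] at ho
    exact hs.trans (h.2.1 (fun h' => hx (by rw [h', map_one])) ho)
  · rw [MulEquiv.orderOf_eq] at ho
    exact hs.trans (h.2.2 (fun h' => hx (by rw [h', map_one])) ho)

end Cfsg.Agent.S2257
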