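import Cfsg.Statements.S2260
import Mathlib
-- import your own Cfsg.Agent.* helpers here

set_option autoImplicit false
open Cfsg

namespace Cfsg.Agent.S2260

theorem nilpotent_pow_size {F : Type*} [Field F] {d : ℕ} (N : Matrix (Fin d) (Fin d) F)
    (h : IsNilpotent N) : N ^ d = 0 := by
  have h1 := Matrix.isNilpotent_charpoly_sub_pow_of_isNilpotent h
  rw [isNilpotent_iff_eq_zero, sub_eq_zero] at h1
  have h2 := N.aeval_self_charpoly
  rw [h1] at h2
  simpa using h2

/-- Let F be a finite field of prime characteristic p and u an invertible d × d matrix over F with u − 1 nilpotent (a unipotent element). Then the order of u is at most p^⌈log_p d⌉; and if moreover (u − 1)^(d−1) ≠ 0 (u is a single Jordan block) then the order of u is exactly p^⌈log_p d⌉. -/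
theorem result {F : Type*} [Field F] [Finite F] (p : ℕ) [Fact p.Prime] [CharP F p] (d : ℕ)
    (u : GL (Fin d) F) (hu : IsNilpotent ((u : Matrix (Fin d) (Fin d) F) - 1)) :
    orderOf u ≤ p ^ Nat.clog p d ∧
    (((u : Matrix (Fin d) (Fin d) F) - 1) ^ (d - 1) ≠ 0 → orderOf u = p ^ Nat.clog p d) := by
  rcases Nat.eq_zero_or_pos d with rfl | hd
  · have : u = 1 := Subsingleton.elim _ _
    subst this
    simp
  have : Nonempty (Fin d) := ⟨⟨0, hd⟩⟩
  have hp : 1 < p := (Fact.out : p.Prime).one_lt
  have hN := nilpotent_pow_size _ hu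
  have key : ∀ j : ℕ, ((u : Matrix (Fin d) (Fin d) F) - 1) ^ p ^ j = 0 ↔ u ^ p ^ j = 1 := by
    intro j
    rw [sub_pow_char_pow_of_commute (p := p) (n := j) (Commute.one_right _), one_pow, sub_eq_zero,
      Units.ext_iff, Units.val_pow_eq_pow_val, Units.val_one]
  have hpow : u ^ p ^ Nat.clog p d = 1 :=
    (key _).mp (pow_eq_zero_of_le (Nat.le_pow_clog hp d) hN)
  refine ⟨Nat.le_of_dvd (by positivity) (orderOf_dvd_of_pow_eq_one hpow), fun hblock => ?_⟩
  rcases Nat.eq_zero_or_pos (Nat.clog p d) with hk | hk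
  · rw [hk] at hpow ⊢
    simpa using hpow
  · obtain ⟨j, hj⟩ := Nat.exists_eq_succ_of_ne_zero hk.ne'
    rw [hj] at hpow ⊢
    refine orderOf_eq_prime_pow (fun h => hblock ?_) hpow
    have hlt : p ^ j < d := by
      by_contra hle
      have := (Nat.clog_le_iff_le_pow hp).mpr (Nat.not_lt.mp hle)
      omega
    exact pow_eq_zero_of_le (Nat.le_sub_one_of_lt hlt) ((key j).mpr h)

end Cfsg.Agent.S2260
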