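import Cfsg.Statements.S2261
import Mathlib
-- import your own Cfsg.Agent.* helpers here

set_option autoImplicit false
open Cfsg

namespace Cfsg.Agent.S2261

open Polynomial in
theorem orderOf_bound {F : Type*} [Field F] [Fintype F] (d : ℕ) (hd : 1 ≤ d) (u : GL (Fin d) F) :
    (Fintype.card F - 1) * orderOf (QuotientGroup.mk u : GL (Fin d) F ⧸ Subgroup.center (GL (Fin d) F))
      ≤ Fintype.card F ^ d - 1 := by
  classical
  have : Nonempty (Fin d) := ⟨⟨0, hd⟩⟩
  set M : Matrix (Fin d) (Fin d) F := (u : Matrix (Fin d) (Fin d) F) with hM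
  let S : Subalgebra F (Matrix (Fin d) (Fin d) F) := (aeval M).range
  let c : (Fin d → F) → S := fun v => ⟨aeval M (∑ i : Fin d, C (v i) * X ^ i.val), ⟨_, rfl⟩⟩
  have hc : Function.Surjective c := by
    rintro ⟨_, p, rfl⟩
    refine ⟨fun i => (p %ₘ M.charpoly).coeff i, Subtype.ext ?_⟩
    show aeval M (∑ i : Fin d, C ((p %ₘ M.charpoly).coeff i) * X ^ i.val) = aeval M p
    have hdeg : (p %ₘ M.charpoly).natDegree < d := by
      have h1 := Polynomial.natDegree_modByMonic_lt p M.charpoly_monic
        (fun h => by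
          have := congrArg Polynomial.natDegree h
          rw [M.charpoly_natDegree_eq_dim, Fintype.card_fin, natDegree_one] at this
          omega)
      rwa [M.charpoly_natDegree_eq_dim, Fintype.card_fin] at h1
    rw [Fin.sum_univ_eq_sum_range (fun i => C ((p %ₘ M.charpoly).coeff i) * X ^ i) d,
      ← Polynomial.as_sum_range_C_mul_X_pow' _ hdeg]
    conv_rhs => rw [← modByMonic_add_div p M.charpoly]
    simp [M.aeval_self_charpoly]
  have : Finite S := Finite.of_surjective c hc
  have hS : Nat.card S ≤ Fintype.card F ^ d := by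
    refine (Nat.card_le_card_of_surjective c hc).trans ?_
    simp [Nat.card_fun, Nat.card_eq_fintype_card]
  let ψ : Sˣ →* GL (Fin d) F ⧸ Subgroup.center (GL (Fin d) F) :=
    (QuotientGroup.mk' _).comp (Units.map (S.val : S →* Matrix (Fin d) (Fin d) F))
  have hunits : Nat.card Sˣ ≤ Fintype.card F ^ d - 1 := by
    have h1 : Nat.card Sˣ ≤ Nat.card {x : S // x ≠ 0} :=
      Nat.card_le_card_of_injective (fun a : Sˣ => (⟨a, a.ne_zero⟩ : {x : S // x ≠ 0}))
        (fun a b h => Units.ext (congrArg Subtype.val h))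
    have : Fintype S := Fintype.ofFinite S
    rw [Nat.card_eq_fintype_card (α := {x : S // x ≠ 0}), Fintype.card_subtype_compl,
      Fintype.card_subtype_eq] at h1
    rw [Nat.card_eq_fintype_card] at hS
    omega
  -- the image contains the class of u
  have hu : (QuotientGroup.mk u : GL (Fin d) F ⧸ Subgroup.center (GL (Fin d) F)) ∈ ψ.range := by
    have hMS : M ∈ S := ⟨X, by simp⟩
    have hinv : ((u⁻¹ : GL (Fin d) F) : Matrix (Fin d) (Fin d) F) ∈ S := by
      have h : u⁻¹ = u ^ (orderOf u - 1) := by
        rw [eq_comm, ← mul_eq_one_iff_eq_inv, ← pow_succ,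
          Nat.sub_add_cancel (isOfFinOrder_of_finite u).orderOf_pos, pow_orderOf_eq_one]
      rw [h, Units.val_pow_eq_pow_val]
      exact pow_mem hMS _
    exact ⟨⟨⟨M, hMS⟩, ⟨_, hinv⟩, Subtype.ext (Units.mul_inv u), Subtype.ext (Units.inv_mul u)⟩,
      congrArg QuotientGroup.mk (Units.ext rfl)⟩
  have hord : orderOf (QuotientGroup.mk u : GL (Fin d) F ⧸ Subgroup.center (GL (Fin d) F)) ≤ Nat.card ψ.range := by
    rw [← Nat.card_zpowers]
    exact Nat.card_le_card_of_injective _ (Subgroup.inclusion_injective (Subgroup.zpowers_le.mpr hu))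
  have hker : Fintype.card F - 1 ≤ Nat.card ψ.ker := by
    let e : Fˣ → ψ.ker := fun a => ⟨Units.map (algebraMap F S : F →* S) a, by
      rw [MonoidHom.mem_ker]
      refine (QuotientGroup.eq_one_iff _).mpr ?_
      rw [Matrix.GeneralLinearGroup.center_eq_range_scalar]
      refine ⟨a, Units.ext ?_⟩
      ext i j
      simp [Matrix.algebraMap_matrix_apply, Matrix.scalar_apply, Matrix.diagonal_apply]⟩
    have hinj : Function.Injective e := fun a b h => by
      have := congrArg (fun x : ψ.ker => (((x : Sˣ) : S) : Matrix (Fin d) (Fin d) F) ⟨0, hd⟩ ⟨0, hd⟩) h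
      simp [e, Matrix.algebraMap_matrix_apply] at this
      exact Units.ext this
    have := Nat.card_le_card_of_injective e hinj
    rwa [Nat.card_units, Nat.card_eq_fintype_card] at this
  calc _ ≤ Nat.card ψ.ker * Nat.card ψ.range := Nat.mul_le_mul hker hord
    _ = Nat.card Sˣ := by rw [← Subgroup.index_ker, Subgroup.card_mul_index]
    _ ≤ _ := hunits

theorem exists_singer {F : Type*} [Field F] [Fintype F] (d : ℕ) (hd : 1 ≤ d) :
    ∃ g : (GL (Fin d) F ⧸ Subgroup.center (GL (Fin d) F)),
      (Fintype.card F - 1) * orderOf g = Fintype.card F ^ d - 1 := by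
  obtain ⟨p, hp⟩ := CharP.exists F
  have : Fact p.Prime := ⟨CharP.char_is_prime F p⟩
  have : NeZero d := ⟨by omega⟩
  let K := FiniteField.Extension F p d
  have hfr : Module.finrank F K = d := FiniteField.finrank_extension F p d
  let b : Module.Basis (Fin d) F K := Module.finBasisOfFinrankEq F K hfr
  let ι : Kˣ →* GL (Fin d) F :=
    Units.map (Algebra.leftMulMatrix b : K →* Matrix (Fin d) (Fin d) F)
  let ψ : Kˣ →* GL (Fin d) F ⧸ Subgroup.center (GL (Fin d) F) := (QuotientGroup.mk' _).comp ι
  have : Finite K := Module.finite_of_finite F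
  obtain ⟨γ, hγ⟩ := IsCyclic.exists_generator (α := Kˣ)
  refine ⟨ψ γ, ?_⟩
  have hrange : Subgroup.zpowers (ψ γ) = ψ.range := by
    rw [← MonoidHom.map_zpowers, MonoidHom.range_eq_map]
    congr 1
    exact (Subgroup.eq_top_iff' _).mpr hγ
  rw [← Nat.card_zpowers, hrange]
  have hker : ψ.ker = (Units.map (algebraMap F K : F →* K)).range := by
    ext x
    simp only [MonoidHom.mem_ker, MonoidHom.mem_range, ψ, MonoidHom.coe_comp, Function.comp_apply,
      QuotientGroup.mk'_apply, QuotientGroup.eq_one_iff,
      Matrix.GeneralLinearGroup.center_eq_range_scalar]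
    constructor
    · rintro ⟨a, ha⟩
      refine ⟨a, Units.ext (Algebra.leftMulMatrix_injective b ?_)⟩
      have := congrArg Units.val ha
      simp [ι] at this ⊢
      rw [← this]
      rfl
    · rintro ⟨a, rfl⟩
      refine ⟨a, Units.ext ?_⟩
      simp [ι]
      rfl
  have hk : Nat.card ψ.ker = Fintype.card F - 1 := by
    rw [hker, ← Nat.card_eq_fintype_card, ← Nat.card_units]
    exact (Nat.card_congr (MonoidHom.ofInjective
      (Units.map_injective (f := (algebraMap F K : F →* K)) (algebraMap F K).injective)).toEquiv).symm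
  rw [← hk, ← Subgroup.index_ker, Subgroup.card_mul_index, Nat.card_units,
    Module.natCard_eq_pow_finrank (K := F), hfr, Nat.card_eq_fintype_card]

/-- Let F be a finite field with q elements and d ≥ 1. Then every element of PGL_d(F) = GL_d(F)/Z has order at most (q^d − 1)/(q − 1), and some element (the image of a Singer cycle) has exactly this order. -/
theorem result {F : Type*} [Field F] [Fintype F] (d : ℕ) (hd : 1 ≤ d) :
    (∀ g : (GL (Fin d) F ⧸ Subgroup.center (GL (Fin d) F)), (Fintype.card F - 1) * orderOf g ≤ Fintype.card F ^ d - 1) ∧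
    (∃ g : (GL (Fin d) F ⧸ Subgroup.center (GL (Fin d) F)), (Fintype.card F - 1) * orderOf g = Fintype.card F ^ d - 1) := by
  refine ⟨fun g => ?_, exists_singer d hd⟩
  induction g using QuotientGroup.induction_on with
  | H u => exact orderOf_bound d hd u

end Cfsg.Agent.S2261
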