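import Cfsg.Statements.S2268
import Mathlib.GroupTheory.Sylow
-- import your own Cfsg.Agent.* helpers here

set_option autoImplicit false
open Cfsg

namespace Cfsg.Agent.S2268

/-- Let G be a finite group with an abelian Sylow p-subgroup P and let Q ≤ P. Then N_G(Q) = (N_G(Q) ∩ N_G(P))·C_G(Q), so that N_G(Q)/C_G(Q) is a homomorphic image of the subgroup (N_G(Q) ∩ N_G(P))/C_G(P) of N_G(P)/C_G(P); in particular the order of N_G(Q)/C_G(Q) divides the order of N_G(P)/C_G(P). -/
theorem result {G : Type*} [Group G] [Finite G] {p : ℕ} [Fact p.Prime]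
    (P : Sylow p G) (hP : IsMulCommutative (P : Subgroup G)) (Q : Subgroup G) (hQ : Q ≤ (P : Subgroup G)) :
    Subgroup.normalizer (Q : Set G) =
      (Subgroup.normalizer (Q : Set G) ⊓ Subgroup.normalizer ((P : Subgroup G) : Set G)) ⊔ Subgroup.centralizer (Q : Set G) ∧
    ((Subgroup.centralizer (Q : Set G)).subgroupOf (Subgroup.normalizer (Q : Set G))).index ∣ ((Subgroup.centralizer ((P : Subgroup G) : Set G)).subgroupOf (Subgroup.normalizer ((P : Subgroup G) : Set G))).index := by
  set A : Subgroup G := Subgroup.normalizer (Q : Set G) ⊓ Subgroup.normalizer ((P : Subgroup G) : Set G) with hA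
  have hPC : (P : Subgroup G) ≤ Subgroup.centralizer (Q : Set G) :=
    (Subgroup.le_centralizer (H := (P : Subgroup G))).trans (Subgroup.centralizer_le hQ)
  have hCN : Subgroup.centralizer (Q : Set G) ≤ Subgroup.normalizer (Q : Set G) :=
    Subgroup.centralizer_le_normalizer _
  -- every element of N(Q) is (element of C(Q)) * (element of A)
  have key : ∀ g ∈ Subgroup.normalizer (Q : Set G), ∃ c ∈ Subgroup.centralizer (Q : Set G), c⁻¹ * g ∈ A := by
    intro g hg
    have hgP : ((g • P : Sylow p G) : Subgroup G) ≤ Subgroup.centralizer (Q : Set G) := by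
      rintro x ⟨y, hy, rfl⟩
      intro q hq
      have hq' : g⁻¹ * q * g ∈ (Q : Set G) := (Subgroup.mem_set_normalizer_iff''.mp hg q).mp hq
      have := hPC hy _ hq'
      calc q * (g * y * g⁻¹) = g * ((g⁻¹ * q * g) * y) * g⁻¹ := by group
        _ = g * (y * (g⁻¹ * q * g)) * g⁻¹ := by rw [this]
        _ = (g * y * g⁻¹) * q := by group
    obtain ⟨c, hc⟩ := MulAction.exists_smul_eq (Subgroup.centralizer (Q : Set G))
      (P.subtype hPC) ((g • P).subtype hgP)
    rw [Sylow.smul_subtype] at hc
    have hc' : (c : G) • P = g • P := Sylow.subtype_injective hc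
    refine ⟨c, c.2, (Subgroup.normalizer (Q : Set G)).mul_mem
      ((Subgroup.normalizer (Q : Set G)).inv_mem (hCN c.2)) hg, ?_⟩
    refine Sylow.smul_eq_iff_mem_normalizer.mp ?_
    rw [mul_smul, ← hc', inv_smul_smul]
  refine ⟨le_antisymm (fun g hg => ?_) (sup_le inf_le_left hCN), ?_⟩
  · obtain ⟨c, hc, hcA⟩ := key g hg
    have h := mul_mem (Subgroup.mem_sup_right (S := A) hc)
      (Subgroup.mem_sup_left (T := Subgroup.centralizer (Q : Set G)) hcA)
    simpa using h
  · change (Subgroup.centralizer (Q : Set G)).relIndex _ ∣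
      (Subgroup.centralizer ((P : Subgroup G) : Set G)).relIndex _
    have h1 : (Subgroup.centralizer (Q : Set G)).relIndex (Subgroup.normalizer (Q : Set G)) =
        (Subgroup.centralizer (Q : Set G)).relIndex A := by
      let f := Q.normalizerMonoidHom
      let g : A →* MulAut Q := f.comp (Subgroup.inclusion inf_le_left)
      have hk : g.ker = (Subgroup.centralizer (Q : Set G)).subgroupOf A := by
        rw [← MonoidHom.comap_ker, Subgroup.normalizerMonoidHom_ker]
        rfl
      have hr : g.range = f.range := by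
        apply le_antisymm
        · rintro _ ⟨a, rfl⟩; exact ⟨_, rfl⟩
        · rintro _ ⟨x, rfl⟩
          obtain ⟨c, hc, hcA⟩ := key x x.2
          refine ⟨⟨c⁻¹ * x, hcA⟩, ?_⟩
          have hck : (⟨c, hCN hc⟩ : Subgroup.normalizer (Q : Set G)) ∈ f.ker := by
            rw [Subgroup.normalizerMonoidHom_ker]; exact hc
          have : (Subgroup.inclusion inf_le_left ⟨c⁻¹ * x, hcA⟩ : Subgroup.normalizer (Q : Set G)) =
              ⟨c, hCN hc⟩⁻¹ * x := Subtype.ext rfl
          change f _ = f x
          rw [this, map_mul, map_inv, (MonoidHom.mem_ker.mp hck), inv_one, one_mul]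
      unfold Subgroup.relIndex
      rw [← hk, ← Subgroup.normalizerMonoidHom_ker, Subgroup.index_ker, Subgroup.index_ker, hr]
    have h2 : Subgroup.centralizer ((P : Subgroup G) : Set G) ≤ A :=
      le_inf ((Subgroup.centralizer_le hQ).trans hCN) (Subgroup.centralizer_le_normalizer _)
    rw [h1, ← Subgroup.relIndex_mul_relIndex _ A _ h2 inf_le_right]
    exact dvd_mul_of_dvd_left (Subgroup.relIndex_dvd_of_le_left _ (Subgroup.centralizer_le hQ)) _

end Cfsg.Agent.S2268
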