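import Cfsg.Statements.S2270
import Cfsg.Agent.Lib.Perm.AbelianSylow
-- import your own Cfsg.Agent.* helpers here

set_option autoImplicit false
open Cfsg

namespace Cfsg.Agent.S2270

/-- Let n ≥ 3, p an odd prime, and P an abelian Sylow p-subgroup of the symmetric group S_n (with p dividing n!, so that P ≠ 1). Then N(P)/C(P) has even order. -/
theorem result (n : ℕ) (hn : 3 ≤ n) {p : ℕ} [Fact p.Prime] (hp : p ≠ 2) (hpn : p ≤ n)
    (P : Sylow p (Equiv.Perm (Fin n))) (hP : IsMulCommutative (P : Subgroup (Equiv.Perm (Fin n)))) :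
    2 ∣ ((Subgroup.centralizer ((P : Subgroup (Equiv.Perm (Fin n))) : Set (Equiv.Perm (Fin n)))).subgroupOf (Subgroup.normalizer ((P : Subgroup (Equiv.Perm (Fin n))) : Set (Equiv.Perm (Fin n))))).index := by
  have hd : p ∣ Nat.card (Equiv.Perm (Fin n)) := by
    rw [Nat.card_perm, Nat.card_fin]
    exact Nat.dvd_factorial (Fact.out : p.Prime).pos hpn
  obtain ⟨c, hc⟩ := exists_prime_orderOf_dvd_card' p hd
  obtain ⟨g, hg⟩ := PermAbSylow.exists_conj_mem P hc
  refine PermAbSylow.two_dvd_index P hg (PermAbSylow.exists_inv_ne hp ?_)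
    (PermAbSylow.perm_inv_isConj _)
  rw [← hc]
  exact (MulAut.conj g).orderOf_eq c

end Cfsg.Agent.S2270
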