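import Cfsg.Statements.S2272
import Mathlib

set_option autoImplicit false
open Cfsg

namespace Cfsg.Agent.S2272

open Matrix

section
variable {K : Type*} [Field K] {n : ℕ}

theorem exists_dual {p : Submodule K (Fin n → K)} {x : Fin n → K} (hx : x ∉ p) :
    ∃ b : Fin n → K, (∀ y ∈ p, b ⬝ᵥ y = 0) ∧ b ⬝ᵥ x = 1 := by
  obtain ⟨f, hf, hf'⟩ := Submodule.exists_dual_map_eq_bot_of_notMem hx inferInstance
  have hd : ∀ y, (fun i => f (Pi.single i 1)) ⬝ᵥ y = f y := by
    intro y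
    conv_rhs => rw [← Finset.univ_sum_single y]
    rw [map_sum, dotProduct]
    refine Finset.sum_congr rfl fun i _ => ?_
    rw [show Pi.single i (y i) = y i • Pi.single i (1 : K) by simp [← Pi.single_smul], map_smul,
      smul_eq_mul, mul_comm]
  refine ⟨(f x)⁻¹ • fun i => f (Pi.single i 1), fun y hy => ?_, by rw [smul_dotProduct, hd, smul_eq_mul, inv_mul_cancel₀ hf]⟩
  have : f y ∈ Submodule.map f p := Submodule.mem_map_of_mem hy
  rw [hf', Submodule.mem_bot] at this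
  rw [smul_dotProduct, hd, this, smul_zero]

theorem val_mul (A B : Matrix.SpecialLinearGroup (Fin n) K) : (A * B).1 = A.1 * B.1 := rfl

theorem val_one : (1 : Matrix.SpecialLinearGroup (Fin n) K).1 = 1 := rfl

/-- the special linear matrix `1 + a ⊗ b` -/
def tv (a b : Fin n → K) (h : b ⬝ᵥ a = 0) : Matrix.SpecialLinearGroup (Fin n) K :=
  ⟨1 + vecMulVec a b, by
    rw [vecMulVec_eq Unit, det_one_add_replicateCol_mul_replicateRow, h, add_zero]⟩

theorem tv_inv (a b : Fin n → K) (h : b ⬝ᵥ a = 0) :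
    (tv a b h)⁻¹ = tv (-a) b (by rw [dotProduct_neg, h, neg_zero]) := by
  refine inv_eq_of_mul_eq_one_right (Subtype.ext ?_)
  show (1 + vecMulVec a b) * (1 + vecMulVec (-a) b) = 1
  simp [mul_add, add_mul, vecMulVec_mul_vecMulVec, neg_vecMulVec, h]

theorem trace_conj_tv (v b : Fin n → K) (X Y : Matrix (Fin n) (Fin n) K) (h : b ⬝ᵥ (X *ᵥ v) = 0)
    (l : K) : ((1 + vecMulVec (l • v) b) * X * (1 + vecMulVec (-(l • v)) b) * Y).trace =
      (X * Y).trace + l * (b ⬝ᵥ (X *ᵥ (Y *ᵥ v) - Y *ᵥ (X *ᵥ v))) := by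
  have ht : ∀ M : Matrix (Fin n) (Fin n) K, (vecMulVec v b * M).trace = b ⬝ᵥ (M *ᵥ v) := fun M => by
    rw [vecMulVec_mul, Matrix.trace_vecMulVec, dotProduct_comm, ← dotProduct_mulVec]
  have h0 : vecMulVec v b * X * vecMulVec v b = 0 := by
    rw [mul_assoc, mul_vecMulVec, vecMulVec_mul_vecMulVec, h, zero_smul, vecMulVec_zero]
  rw [neg_vecMulVec, smul_vecMulVec]
  generalize hN : vecMulVec v b = N at h0 ht
  have e : (1 + l • N) * X * (1 + -(l • N)) * Y =
      X * Y + (l • (N * (X * Y)) - l • (X * N * Y)) := by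
    simp only [add_mul, mul_add, one_mul, mul_one, neg_mul, mul_neg, smul_mul_assoc, mul_smul_comm,
      h0, zero_mul, smul_zero, neg_zero, add_zero, mul_assoc]
    abel
  rw [e, Matrix.trace_add, Matrix.trace_sub, Matrix.trace_smul, Matrix.trace_smul, ht,
    mul_assoc X N, Matrix.trace_mul_comm X (N * Y), mul_assoc N Y X, ht, ← mulVec_mulVec, ← mulVec_mulVec,
    smul_eq_mul, smul_eq_mul, dotProduct_sub]
  ring

/-- some special linear conjugate maps `v` to a vector `w` off the line of `v` -/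
theorem exists_conj_mapsTo (B : Matrix.SpecialLinearGroup (Fin n) K) (hB : ∀ c : K, B.1 ≠ c • 1)
    {v w : Fin n → K} (hv : v ≠ 0) (hw : w ∉ Submodule.span K {v}) (hn : 3 ≤ n) :
    ∃ P : Matrix.SpecialLinearGroup (Fin n) K, (P * B * P⁻¹).1 *ᵥ v = w := by
  obtain ⟨u, hu⟩ : ∃ u, B.1 *ᵥ u ∉ Submodule.span K {u} := by
    by_contra hall
    push Not at hall
    have hend : ∀ x : Fin n → K, ∃ a : K, Matrix.toLin' B.1 x = a • x := fun x => by
      obtain ⟨a, ha⟩ := Submodule.mem_span_singleton.1 (hall x)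
      exact ⟨a, by rw [Matrix.toLin'_apply, ha]⟩
    have hne : Nonempty (Fin n) := ⟨⟨0, by omega⟩⟩
    obtain ⟨a, ha⟩ := hend (Pi.single ⟨0, by omega⟩ 1)
    refine hB a (Matrix.ext_of_mulVec_single fun j => ?_)
    rw [smul_mulVec, one_mulVec, ← Matrix.toLin'_apply]
    rcases eq_or_ne j ⟨0, by omega⟩ with rfl | hj
    · exact ha
    · obtain ⟨b, hb⟩ := hend (Pi.single j 1)
      obtain ⟨c, hc⟩ := hend (Pi.single ⟨0, by omega⟩ 1 + Pi.single j 1)
      rw [map_add, ha, hb] at hc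
      have e1 := congrFun hc ⟨0, by omega⟩
      have e2 := congrFun hc j
      simp [Pi.single_apply, hj, Ne.symm hj] at e1 e2
      rw [hb, e2, e1]
  have hu0 : u ≠ 0 := fun h => hu (by simp [h])
  have hl1 : LinearIndependent K ![u, B.1 *ᵥ u] :=
    (LinearIndependent.pair_iff' hu0).2 fun a h => hu (Submodule.mem_span_singleton.2 ⟨a, h⟩)
  have hl2 : LinearIndependent K ![v, w] :=
    (LinearIndependent.pair_iff' hv).2 fun a h => hw (Submodule.mem_span_singleton.2 ⟨a, h⟩)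
  obtain ⟨e, he⟩ : ∃ e : (Fin n → K) ≃ₗ[K] (Fin n → K), e u = v ∧ e (B.1 *ᵥ u) = w := by
    obtain ⟨W1, hW1⟩ := Submodule.exists_isCompl (Submodule.span K (Set.range ![u, B.1 *ᵥ u]))
    obtain ⟨W2, hW2⟩ := Submodule.exists_isCompl (Submodule.span K (Set.range ![v, w]))
    have hd : Module.finrank K W1 = Module.finrank K W2 := by
      have e1 := Submodule.finrank_add_eq_of_isCompl hW1
      have e2 := Submodule.finrank_add_eq_of_isCompl hW2
      rw [finrank_span_eq_card hl1] at e1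
      rw [finrank_span_eq_card hl2] at e2
      omega
    let e1 := (hl1.linearCombinationEquiv.symm.trans hl2.linearCombinationEquiv).prodCongr
      (LinearEquiv.ofFinrankEq W1 W2 hd)
    let e := ((Submodule.prodEquivOfIsCompl _ _ hW1).symm.trans e1).trans
      (Submodule.prodEquivOfIsCompl _ _ hW2)
    have key : ∀ i, e (![u, B.1 *ᵥ u] i) = ![v, w] i := by
      intro i
      have hm : ![u, B.1 *ᵥ u] i ∈ Submodule.span K (Set.range ![u, B.1 *ᵥ u]) :=
        Submodule.subset_span (Set.mem_range_self i)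
      have h1 : (Submodule.prodEquivOfIsCompl _ _ hW1).symm (![u, B.1 *ᵥ u] i) = (⟨_, hm⟩, 0) :=
        Submodule.prodEquivOfIsCompl_symm_apply_left _ _ hW1 ⟨_, hm⟩
      have h2 : hl1.linearCombinationEquiv.symm ⟨_, hm⟩ = Finsupp.single i 1 :=
        hl1.repr_eq_single i ⟨_, hm⟩ rfl
      show (Submodule.prodEquivOfIsCompl _ _ hW2) (e1 ((Submodule.prodEquivOfIsCompl _ _ hW1).symm _)) = _
      rw [h1]
      simp [e1, LinearEquiv.prodCongr_apply, h2, Submodule.coe_prodEquivOfIsCompl']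
    exact ⟨e, key 0, key 1⟩
  -- adjust the determinant on a complement of the plane of `v` and `w`
  obtain ⟨x, -, hx⟩ := SetLike.exists_of_lt (lt_top_iff_ne_top.2 (fun h => by
    have h1 := finrank_span_eq_card hl2
    rw [h, finrank_top, Module.finrank_fin_fun, Fintype.card_fin] at h1
    omega) : Submodule.span K (Set.range ![v, w]) < ⊤)
  obtain ⟨φ, hφ, hφx⟩ := exists_dual hx
  let E := LinearMap.toMatrix' e.toLinearMap
  have hE : E.det ≠ 0 := by
    intro h0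
    have h1 : (LinearMap.toMatrix' e.symm.toLinearMap * E).det = 1 := by
      rw [← LinearMap.toMatrix'_comp]; simp
    rw [det_mul, h0, mul_zero] at h1
    exact zero_ne_one h1
  let R : Matrix (Fin n) (Fin n) K := 1 + vecMulVec ((E.det⁻¹ - 1) • x) φ
  have hR : R.det = E.det⁻¹ := by
    show (1 + vecMulVec ((E.det⁻¹ - 1) • x) φ).det = _
    rw [vecMulVec_eq Unit, det_one_add_replicateCol_mul_replicateRow, dotProduct_smul, hφx,
      smul_eq_mul, mul_one, add_sub_cancel]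
  obtain ⟨P, hP⟩ : ∃ P : Matrix.SpecialLinearGroup (Fin n) K, P.1 = R * E :=
    ⟨⟨R * E, by rw [det_mul, hR, inv_mul_cancel₀ hE]⟩, rfl⟩
  refine ⟨P, ?_⟩
  have hfix : ∀ y ∈ Set.range ![v, w], R *ᵥ y = y := by
    intro y hy
    show (1 + vecMulVec _ φ) *ᵥ y = y
    rw [add_mulVec, one_mulVec, vecMulVec_mulVec, hφ y (Submodule.subset_span hy)]
    simp
  have h1 : P.1 *ᵥ u = v := by
    rw [hP]
    show (R * E) *ᵥ u = v
    rw [← mulVec_mulVec, LinearMap.toMatrix'_mulVec, LinearEquiv.coe_coe, he.1, hfix v ⟨0, rfl⟩]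
  have h2 : P.1 *ᵥ (B.1 *ᵥ u) = w := by
    rw [hP]
    show (R * E) *ᵥ (B.1 *ᵥ u) = w
    rw [← mulVec_mulVec, LinearMap.toMatrix'_mulVec, LinearEquiv.coe_coe, he.2, hfix w ⟨1, rfl⟩]
  have h3 : (P⁻¹).1 *ᵥ v = u := by
    rw [← h1, mulVec_mulVec, ← val_mul, inv_mul_cancel,
      val_one, one_mulVec]
  rw [val_mul, val_mul, ← mulVec_mulVec, h3, ← mulVec_mulVec, h2]

/-- a conjugate of `B` whose product with conjugates of `A` has non-constant linear trace -/
theorem exists_linear (A B : Matrix.SpecialLinearGroup (Fin n) K) (hA : ∀ c : K, A.1 ≠ c • 1)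
    (hB : ∀ c : K, B.1 ≠ c • 1) (hn : 3 ≤ n) :
    ∃ (P : Matrix.SpecialLinearGroup (Fin n) K) (v b : Fin n → K), b ⬝ᵥ v = 0 ∧
      b ⬝ᵥ (A.1 *ᵥ v) = 0 ∧
      b ⬝ᵥ (A.1 *ᵥ ((P * B * P⁻¹).1 *ᵥ v) - (P * B * P⁻¹).1 *ᵥ (A.1 *ᵥ v)) ≠ 0 := by
  obtain ⟨v, hv⟩ : ∃ v, A.1 *ᵥ v ∉ Submodule.span K {v} := by
    by_contra hall
    push Not at hall
    have h1 : ∀ x, ∃ t : K, t • x = A.1 *ᵥ x := fun x => Submodule.mem_span_singleton.1 (hall x)
    choose t ht using h1
    refine hA (t (Pi.single ⟨0, by omega⟩ 1)) (Matrix.ext_of_mulVec_single fun j => ?_)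
    rw [smul_mulVec, one_mulVec]
    rcases eq_or_ne j ⟨0, by omega⟩ with rfl | hj
    · exact (ht _).symm
    · have hs := ht (Pi.single ⟨0, by omega⟩ 1 + Pi.single j 1)
      rw [mulVec_add, ← ht (Pi.single ⟨0, by omega⟩ 1), ← ht (Pi.single j 1)] at hs
      have a := congrFun hs ⟨0, by omega⟩
      have b := congrFun hs j
      simp [Pi.single_apply, hj, hj.symm] at a b
      rw [← ht (Pi.single j 1), ← a, b]
  have hv0 : v ≠ 0 := fun h => hv (by simp [h])
  have hlA : LinearIndependent K ![v, A.1 *ᵥ v] :=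
    (LinearIndependent.pair_iff' hv0).2 fun a h => hv (Submodule.mem_span_singleton.2 ⟨a, h⟩)
  let S := Submodule.span K (Set.range ![v, A.1 *ᵥ v])
  have hvS : v ∈ S := Submodule.subset_span ⟨0, rfl⟩
  have hzS : A.1 *ᵥ v ∈ S := Submodule.subset_span ⟨1, rfl⟩
  obtain ⟨w, -, hw⟩ := SetLike.exists_of_lt (lt_top_iff_ne_top.2 (fun h => by
    have h1 := finrank_span_eq_card hlA
    rw [show Submodule.span K (Set.range ![v, A.1 *ᵥ v]) = ⊤ from h, finrank_top,
      Module.finrank_fin_fun, Fintype.card_fin] at h1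
    omega) : S < ⊤)
  have hwv : w ∉ Submodule.span K {v} := fun h => hw (Submodule.span_le.2 (by simpa using hvS) h)
  obtain ⟨P, hP⟩ := exists_conj_mapsTo B hB hv0 hwv hn
  -- some conjugate is off the plane
  obtain ⟨Q, hQ⟩ : ∃ Q : Matrix.SpecialLinearGroup (Fin n) K,
      A.1 *ᵥ ((Q * B * Q⁻¹).1 *ᵥ v) - (Q * B * Q⁻¹).1 *ᵥ (A.1 *ᵥ v) ∉ S := by
    by_contra hall
    push Not at hall
    have hz : A.1 *ᵥ v ∉ Submodule.span K (Set.range ![v, w]) := by
      intro h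
      rw [show Set.range ![v, w] = {v, w} from by simp [Matrix.range_cons, Matrix.range_empty, Set.pair_comm]] at h
      obtain ⟨a, b, hab⟩ := Submodule.mem_span_pair.1 h
      rcases eq_or_ne b 0 with rfl | hb
      · exact hv (Submodule.mem_span_singleton.2 ⟨a, by simpa using hab⟩)
      · refine hw ((Submodule.smul_mem_iff _ hb).1 ?_)
        rw [eq_sub_of_add_eq' hab]
        exact Submodule.sub_mem _ hzS (Submodule.smul_mem _ _ hvS)
    obtain ⟨φ, hφ, hφz⟩ := exists_dual hz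
    have hφv : φ ⬝ᵥ v = 0 := hφ v (Submodule.subset_span ⟨0, rfl⟩)
    have hφw : φ ⬝ᵥ w = 0 := hφ w (Submodule.subset_span ⟨1, rfl⟩)
    have d1 := hall P
    have d2 := hall (tv v φ hφv * P)
    rw [hP] at d1
    have hconj : ∀ y, (tv v φ hφv * P * B * (tv v φ hφv * P)⁻¹).1 *ᵥ y =
        (1 + vecMulVec v φ) *ᵥ ((P * B * P⁻¹).1 *ᵥ ((1 + vecMulVec (-v) φ) *ᵥ y)) := by
      intro y
      rw [show tv v φ hφv * P * B * (tv v φ hφv * P)⁻¹ =
          tv v φ hφv * (P * B * P⁻¹) * (tv v φ hφv)⁻¹ by group, tv_inv, val_mul,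
        val_mul, ← mulVec_mulVec, ← mulVec_mulVec]
      rfl
    rw [hconj, hconj] at d2
    simp only [add_mulVec, one_mulVec, vecMulVec_mulVec, op_smul_eq_smul, hφv, hφz, zero_smul,
      add_zero, one_smul, hP, hφw, mulVec_add, mulVec_neg, add_dotProduct, dotProduct_add,
      dotProduct_neg, neg_zero] at d2
    refine hw ?_
    have h3 := S.sub_mem d2 d1
    have h4 := S.add_mem h3 (S.smul_mem (φ ⬝ᵥ ((P * B * P⁻¹).1 *ᵥ (A.1 *ᵥ v))) hvS)
    convert h4 using 1
    abel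
  obtain ⟨b, hb, hb'⟩ := exists_dual hQ
  exact ⟨Q, v, b, hb v hvS, hb _ hzS, by rw [hb']; exact one_ne_zero⟩

end

/-- Let F be a finite field and d ≥ 3, and let a, b be non-identity elements of PSL_d(F). Then the product of the conjugacy classes of a and b is not a single conjugacy class: there are conjugates a′ of a and b′ of b such that a′b′ is not conjugate to ab. -/
theorem result {F : Type*} [Field F] [Fintype F] (d : ℕ) (hd : 3 ≤ d)
    (a b : Matrix.ProjectiveSpecialLinearGroup (Fin d) F) (ha : a ≠ 1) (hb : b ≠ 1) :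
    ∃ g h : Matrix.ProjectiveSpecialLinearGroup (Fin d) F, ¬ IsConj (a * b) (g * a * g⁻¹ * (h * b * h⁻¹)) := by
  obtain ⟨A, rfl⟩ := QuotientGroup.mk'_surjective _ a
  obtain ⟨B, rfl⟩ := QuotientGroup.mk'_surjective _ b
  have hns : ∀ M : Matrix.SpecialLinearGroup (Fin d) F,
      (QuotientGroup.mk' (Subgroup.center (Matrix.SpecialLinearGroup (Fin d) F)) M) ≠ 1 →
      ∀ c : F, M.1 ≠ c • 1 := by
    intro M hM c hc
    refine hM ((QuotientGroup.eq_one_iff M).2 (Subgroup.mem_center_iff.2 fun N => Subtype.ext ?_))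
    show N.1 * M.1 = M.1 * N.1
    rw [hc, mul_smul_comm, smul_mul_assoc, mul_one, one_mul]
  obtain ⟨P, v, b, hbv, hbA, hne⟩ := exists_linear A B (hns A ha) (hns B hb) hd
  by_contra hall
  push Not at hall
  let B' := P * B * P⁻¹
  have key : ∀ l : F, ∃ z : F, z ≠ 0 ∧ (A.1 * B'.1).trace +
      l * (b ⬝ᵥ (A.1 *ᵥ (B'.1 *ᵥ v) - B'.1 *ᵥ (A.1 *ᵥ v))) = z * (A.1 * B.1).trace := by
    intro l
    let T := tv (l • v) b (by rw [dotProduct_smul, hbv, smul_zero])
    obtain ⟨c, hc⟩ := isConj_iff.1 (hall (QuotientGroup.mk' _ T) (QuotientGroup.mk' _ P))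
    obtain ⟨C, rfl⟩ := QuotientGroup.mk'_surjective _ c
    simp only [← map_mul, ← map_inv] at hc
    obtain ⟨Z, hZ⟩ : ∃ Z ∈ Subgroup.center (Matrix.SpecialLinearGroup (Fin d) F),
        C * (A * B) * C⁻¹ * Z = T * A * T⁻¹ * (P * B * P⁻¹) :=
      ⟨_, QuotientGroup.eq.1 hc, by group⟩
    obtain ⟨hZc, hZe⟩ := hZ
    obtain ⟨z, hz, hzZ⟩ := Matrix.SpecialLinearGroup.mem_center_iff.1 hZc
    rw [Fintype.card_fin] at hz
    refine ⟨z, fun h0 => ?_, ?_⟩
    · rw [h0, zero_pow (by omega : d ≠ 0)] at hz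
      exact zero_ne_one hz
    have h1 := congrArg (fun M : Matrix.SpecialLinearGroup (Fin d) F => M.1.trace) hZe
    have hzZ' : Z.1 = z • (1 : Matrix (Fin d) (Fin d) F) := by
      rw [smul_one_eq_diagonal]; exact hzZ.symm
    simp only [val_mul, hzZ', mul_smul_comm, mul_one,
      Matrix.trace_smul, smul_eq_mul] at h1
    have h2 : (C.1 * (A.1 * B.1) * (C⁻¹).1).trace = (A.1 * B.1).trace := by
      rw [Matrix.trace_mul_comm, ← mul_assoc, ← val_mul, inv_mul_cancel,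
        val_one, one_mul]
    rw [h2, tv_inv] at h1
    rw [h1]
    show _ = ((1 + vecMulVec (l • v) b) * A.1 * (1 + vecMulVec (-(l • v)) b) *
      (P.1 * B.1 * (P⁻¹).1)).trace
    rw [show P.1 * B.1 * (P⁻¹).1 = B'.1 from rfl]
    rw [trace_conj_tv _ _ _ _ hbA]
  -- linear in `l`: it takes the values zero and non-zero
  generalize (A.1 * B'.1).trace = t₀ at key
  generalize hsl : b ⬝ᵥ (A.1 *ᵥ (B'.1 *ᵥ v) - B'.1 *ᵥ (A.1 *ᵥ v)) = sl at key
  have hsl0 : sl ≠ 0 := hsl ▸ hne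
  obtain ⟨z₁, hz₁, e₁⟩ := key (-t₀ / sl)
  obtain ⟨z₂, hz₂, e₂⟩ := key ((1 - t₀) / sl)
  rw [div_mul_cancel₀ _ hsl0, add_neg_cancel] at e₁
  rw [div_mul_cancel₀ _ hsl0, add_sub_cancel] at e₂
  rw [(mul_eq_zero.1 e₁.symm).resolve_left hz₁, mul_zero] at e₂
  exact one_ne_zero e₂

end Cfsg.Agent.S2272
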