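import Cfsg.Statements.S2276
import Cfsg.Agent.Lib.AltPPair.Main
-- import your own Cfsg.Agent.* helpers here

set_option autoImplicit false
open Cfsg

namespace Cfsg.Agent.S2276

/-- Let n ≥ 5, p ≥ 3 a prime, and u, w non-identity elements of p-power order in the alternating group A_n. Then there is g ∈ A_n such that u·(g w g⁻¹) does not have p-power order and ⟨u, g w g⁻¹⟩ is not solvable. -/
theorem result (n : ℕ) (hn : 5 ≤ n) (p : ℕ) (hp : p.Prime) (hp3 : 3 ≤ p) (u w : alternatingGroup (Fin n)) (hu : u ≠ 1) (hw : w ≠ 1)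
    (hu' : ∃ k : ℕ, orderOf u = p ^ k) (hw' : ∃ k : ℕ, orderOf w = p ^ k) :
    ∃ g : alternatingGroup (Fin n), (¬ ∃ k : ℕ, orderOf (u * (g * w * g⁻¹)) = p ^ k) ∧
      ¬ Group.IsSolvable ↥(Subgroup.closure ({u, g * w * g⁻¹} : Set (alternatingGroup (Fin n)))) := by
  obtain ⟨k, hk⟩ := hu'
  obtain ⟨l, hl⟩ := hw'
  have hU : (u : Equiv.Perm (Fin n)) ^ (p ^ (k + l)) = 1 := by
    rw [← Subgroup.coe_pow, pow_add, pow_mul, ← hk, pow_orderOf_eq_one, one_pow, Subgroup.coe_one]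
  have hW : (w : Equiv.Perm (Fin n)) ^ (p ^ (k + l)) = 1 := by
    rw [← Subgroup.coe_pow, pow_add, mul_comm, pow_mul, ← hl, pow_orderOf_eq_one, one_pow,
      Subgroup.coe_one]
  obtain ⟨σ, hσ, hg⟩ := Cfsg.Agent.AltPPair.main hp hp3 (by rw [Fintype.card_fin]; exact hn)
    (fun h => hu (Subtype.ext h)) (fun h => hw (Subtype.ext h)) hU hW
  refine ⟨⟨σ, Equiv.Perm.mem_alternatingGroup.2 hσ⟩, ?_⟩
  exact Cfsg.Agent.AltPPair.Good.map_injective hp (alternatingGroup (Fin n)).subtype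
    (alternatingGroup (Fin n)).subtype_injective hg

end Cfsg.Agent.S2276
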