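import Cfsg.Statements.S2277
import Cfsg.Agent.Lib.CoverAct.Nilpotent
import Cfsg.Agent.Lib.Functors.Conj
import Cfsg.Agent.Lib.Solvable.Coprime
import Cfsg.Agent.Lib.Solvable.Fitting
import Cfsg.Agent.Lib.Transfer.Basic
-- import your own Cfsg.Agent.* helpers here

set_option autoImplicit false
open Cfsg

namespace Cfsg.Agent.S2277

/-- Let p ≥ 3 be prime and G a finite group with a Sylow p-subgroup P and a normal p-complement N (N normal, of order prime to p, with NP = G). Suppose P is generated by a subset C and also by a subset D, and that ⟨x c x⁻¹, d⟩ is a p-group for all x ∈ N, c ∈ C, d ∈ D. Then P centralizes N, so that G = N × P. -/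
theorem result {G : Type*} [Group G] [Finite G] (p : ℕ) [Fact p.Prime] (hp3 : 3 ≤ p) (P : Sylow p G)
    (N : Subgroup G) [N.Normal] (hN : (Nat.card N).Coprime p) (hNP : N ⊔ (P : Subgroup G) = ⊤)
    (C D : Set G) (hC : Subgroup.closure C = (P : Subgroup G)) (hD : Subgroup.closure D = (P : Subgroup G))
    (h : ∀ x ∈ N, ∀ c ∈ C, ∀ d ∈ D, IsPGroup p ↥(Subgroup.closure ({x * c * x⁻¹, d} : Set G))) :
    ⁅(P : Subgroup G), N⁆ = ⊥ := by
  classical
  open scoped Pointwise in
  rw [Subgroup.commutator_comm, Subgroup.commutator_eq_bot_iff_le_centralizer,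
    ← Subgroup.subgroupOf_eq_top]
  have hp := (Fact.out : p.Prime)
  have hdis : ∀ a ∈ (P : Subgroup G), a ∈ N → a = 1 := fun a ha haN =>
    (Subgroup.eq_bot_iff_forall _).1 (PBasic.inf_eq_bot_of_coprime hN P.isPGroup') a ⟨haN, ha⟩
  have hcop : (Nat.card ↥(P : Subgroup G)).Coprime (Nat.card ↥N) := by
    obtain ⟨k, hk⟩ := IsPGroup.iff_card.1 P.isPGroup'
    rw [hk]
    exact hN.symm.pow_left k
  haveI := P.isPGroup'.isNilpotent
  refine FittingCores.eq_top_of_forall_sylow_le fun s hs => ?_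
  haveI := Fact.mk hs
  obtain ⟨R, hR⟩ := CoprimeAct.exists_invariant_sylow (A := (P : Subgroup G)) (K := N)
    (by rw [Subgroup.normalizer_eq_top]; exact le_top) hcop (Or.inl inferInstance) s
  refine ⟨R, ?_⟩
  set R' := (R : Subgroup ↥N).map N.subtype with hR'
  have hR'N : R' ≤ N := Subgroup.map_subtype_le _
  haveI : Group.IsNilpotent ↥R' := (R.isPGroup'.map _).isNilpotent
  have hconj : ∀ g ∈ (P : Subgroup G), ∀ x ∈ R', g * x * g⁻¹ ∈ R' := fun g hg x hx =>
    (Subgroup.mem_normalizer_iff.1 (hR hg) x).1 hx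
  let ρ : ↥(P : Subgroup G) →* MulAut ↥R' :=
    { toFun := fun g =>
        { toFun := fun x => ⟨g * x * (g : G)⁻¹, hconj g g.2 x x.2⟩
          invFun := fun x => ⟨(g : G)⁻¹ * x * (g : G)⁻¹⁻¹, hconj _ (inv_mem g.2) x x.2⟩
          left_inv := fun x => Subtype.ext (by simp [mul_assoc])
          right_inv := fun x => Subtype.ext (by simp [mul_assoc])
          map_mul' := fun x y => Subtype.ext (by simp [mul_assoc]) }
      map_one' := MulEquiv.ext fun x => Subtype.ext (by simp)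
      map_mul' := fun g h => MulEquiv.ext fun x => Subtype.ext (by simp [mul_assoc]) }
  have hpre : ∀ S : Set G, Subgroup.closure S = (P : Subgroup G) →
      Subgroup.closure ((P : Subgroup G).subtype ⁻¹' S) = ⊤ := by
    intro S hS
    apply Subgroup.map_injective (P : Subgroup G).subtype_injective
    rw [MonoidHom.map_closure, Set.image_preimage_eq_of_subset, hS, ← MonoidHom.range_eq_map,
      Subgroup.range_subtype]
    intro x hx
    exact ⟨⟨x, hS ▸ Subgroup.subset_closure hx⟩, rfl⟩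
  have hRp : ¬ p ∣ Nat.card ↥R' := fun h =>
    (hp.coprime_iff_not_dvd).1 hN.symm (h.trans (Subgroup.card_dvd_of_le hR'N))
  have key := CoverAct.trivial_nilpotent hp3 P.isPGroup' _ _ (hpre C hC) (hpre D hD)
    (Nat.card ↥R') ↥R' ρ rfl hRp ?_
  · intro x hx
    refine Subgroup.mem_centralizer_iff.2 fun g hg => ?_
    have h1 : g * (x : G) * g⁻¹ = (x : G) := congrArg Subtype.val
      (DFunLike.congr_fun (DFunLike.congr_fun key ⟨g, hg⟩) ⟨x, ⟨x, hx, rfl⟩⟩)
    exact mul_inv_eq_iff_eq_mul.1 h1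
  intro S hS c hc d hd x hx
  set S' := S.map R'.subtype with hS'
  have hPS : (P : Subgroup G) ≤ Subgroup.normalizer (S' : Set G) := by
    refine Subgroup.le_normalizer_iff.2 fun g hg y hy => ?_
    obtain ⟨y, hy, rfl⟩ := hy
    exact ⟨_, hS ⟨g, hg⟩ y hy, rfl⟩
  have hS'N : S' ≤ N := (Subgroup.map_subtype_le S).trans hR'N
  have hxS : (x : G) ∈ S' := ⟨x, hx, rfl⟩
  set K := Subgroup.closure ({(x : G) * c * (x : G)⁻¹, (d : G)} : Set G)
  obtain ⟨n, hn, hKn⟩ := Functors.exists_conj_le_of_isSylowIn (H := (P : Subgroup G) ⊔ S')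
    ((Functors.isSylowIn_sylow P).of_le le_sup_left le_top) (h _ (hR'N x.2) _ hc _ hd)
    ((Subgroup.closure_le _).2 (by
      rintro y (rfl | rfl)
      · exact mul_mem (mul_mem (Subgroup.mem_sup_right hxS) (Subgroup.mem_sup_left c.2))
          (inv_mem (Subgroup.mem_sup_right hxS))
      · exact Subgroup.mem_sup_left d.2))
  open scoped Pointwise in
  have hn' : n ∈ ((P : Subgroup G) : Set G) * (S' : Set G) := by
    rw [← Subgroup.coe_mul_of_left_le_normalizer_right _ _ hPS]
    exact hn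
  obtain ⟨m, hm, t, ht, rfl⟩ := hn'
  have hfix : ∀ g : G, g ∈ (P : Subgroup G) → ∀ y ∈ K, ∀ u ∈ N, y = u * g * u⁻¹ →
      Commute (t * u) g := by
    intro g hg y hy u hu hyu
    have h1 : m * t * y * (m * t)⁻¹ ∈ (P : Subgroup G) := hKn ⟨y, hy, rfl⟩
    have h2 : (t * u) * g * (t * u)⁻¹ ∈ (P : Subgroup G) := by
      have := (P : Subgroup G).mul_mem ((P : Subgroup G).mul_mem (inv_mem hm) h1) hm
      rw [hyu] at this
      convert this using 1
      group
    have h3 : (t * u) * g * (t * u)⁻¹ * g⁻¹ = 1 := by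
      refine hdis _ (mul_mem h2 (inv_mem hg)) ?_
      have htu : t * u ∈ N := mul_mem (hS'N ht) hu
      rw [show (t * u) * g * (t * u)⁻¹ * g⁻¹ = (t * u) * (g * (t * u)⁻¹ * g⁻¹) by group]
      exact mul_mem htu (Subgroup.Normal.conj_mem inferInstance _ (inv_mem htu) g)
    exact mul_inv_eq_iff_eq_mul.1 (mul_inv_eq_one.1 h3)
  have hd' := hfix d d.2 d (Subgroup.subset_closure (Or.inr rfl)) 1 N.one_mem (by group)
  have hc' := hfix c c.2 _ (Subgroup.subset_closure (Or.inl rfl)) x (hR'N x.2) rfl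
  rw [mul_one] at hd'
  obtain ⟨t', ht', rfl⟩ := ht
  refine ⟨t'⁻¹, S.inv_mem ht', t' * x, S.mul_mem ht' hx, Subtype.ext ?_, Subtype.ext ?_,
    by rw [inv_mul_cancel_left]⟩
  · show (d : G) * (t' : G)⁻¹ * (d : G)⁻¹ = (t' : G)⁻¹
    rw [(show Commute (d : G) (t' : G) from hd'.symm).inv_right.eq, mul_inv_cancel_right]
  · show (c : G) * ((t' : G) * x) * (c : G)⁻¹ = (t' : G) * x
    rw [(show Commute (c : G) ((t' : G) * x) from hc'.symm).eq]
    exact mul_inv_cancel_right _ _

end Cfsg.Agent.S2277
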