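import Cfsg.Statements.S2279
import Cfsg.Agent.Lib.Generation.TwoRegularTop
-- import your own Cfsg.Agent.* helpers here

set_option autoImplicit false
open Cfsg

namespace Cfsg.Agent.S2279

/-- Let F be a finite field with q elements and n ≥ 4. Then SL_n(F) is generated by two regular unipotent elements (elements u with u − 1 nilpotent and (u − 1)^(n−1) ≠ 0); if q is prime, the two can be taken conjugate in SL_n(F). -/
theorem result {F : Type*} [Field F] [Fintype F] (n : ℕ) (hn : 4 ≤ n) :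
    (∃ u v : Matrix.SpecialLinearGroup (Fin n) F, (IsNilpotent ((u : Matrix (Fin n) (Fin n) F) - 1) ∧ ((u : Matrix (Fin n) (Fin n) F) - 1) ^ (n - 1) ≠ 0) ∧ (IsNilpotent ((v : Matrix (Fin n) (Fin n) F) - 1) ∧ ((v : Matrix (Fin n) (Fin n) F) - 1) ^ (n - 1) ≠ 0) ∧
      Subgroup.closure ({u, v} : Set (Matrix.SpecialLinearGroup (Fin n) F)) = ⊤) ∧
    ((Fintype.card F).Prime → ∃ u g : Matrix.SpecialLinearGroup (Fin n) F, (IsNilpotent ((u : Matrix (Fin n) (Fin n) F) - 1) ∧ ((u : Matrix (Fin n) (Fin n) F) - 1) ^ (n - 1) ≠ 0) ∧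
      Subgroup.closure ({u, g * u * g⁻¹} : Set (Matrix.SpecialLinearGroup (Fin n) F)) = ⊤) := by
  classical
  obtain ⟨N, rfl⟩ : ∃ N, n = N + 1 := ⟨n - 1, by omega⟩
  obtain ⟨l, hl⟩ := IsCyclic.exists_generator (α := Fˣ)
  have hgen : ∀ S : Subring F, (l : F) ∈ S → S = ⊤ := by
    intro S hS
    refine top_le_iff.1 fun x _ => ?_
    by_cases hx : x = 0
    · subst hx; exact zero_mem _
    obtain ⟨k, hk⟩ := (IsOfFinOrder.mem_powers_iff_mem_zpowers (isOfFinOrder_of_finite l)).2 (hl (Units.mk0 x hx))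
    have h := congrArg Units.val hk
    simp only [Units.val_pow_eq_pow_val, Units.val_mk0] at h
    exact h ▸ pow_mem hS k
  have hN : 3 ≤ N := by omega
  set u := RegUnipotentGen.regU (N + 1) F with hu
  set g := TwoRegular.corner (l : F) hN with hg
  have hus := RegUnipotentGen.regU_spec (F := F) (n := N + 1) (by omega)
  have htop : Subgroup.closure ({u, g * u * g⁻¹} : Set (Matrix.SpecialLinearGroup (Fin (N + 1)) F)) = ⊤ :=
    TwoRegular.gen_eq_top hN (l : F) hgen l.ne_zero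
  have hgg : g.1 * (g⁻¹).1 = 1 := congrArg Subtype.val (mul_inv_cancel g)
  have hgg' : (g⁻¹).1 * g.1 = 1 := congrArg Subtype.val (inv_mul_cancel g)
  have hpow : ∀ k : ℕ, ((g * u * g⁻¹).1 - 1) ^ k = g.1 * (u.1 - 1) ^ k * (g⁻¹).1 := by
    intro k
    induction k with
    | zero => rw [pow_zero, pow_zero, mul_one, hgg]
    | succ k ih =>
      have e : (g * u * g⁻¹).1 - 1 = g.1 * (u.1 - 1) * (g⁻¹).1 := by
        rw [mul_sub, sub_mul, mul_one, hgg]; rfl
      rw [pow_succ, ih, e, pow_succ]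
      simp only [mul_assoc]
      rw [← mul_assoc (g⁻¹).1 g.1, hgg', one_mul]
  refine ⟨⟨u, g * u * g⁻¹, hus, ⟨?_, ?_⟩, htop⟩, fun _ => ⟨u, g, hus, htop⟩⟩
  · obtain ⟨k, hk⟩ := hus.1
    exact ⟨k, by rw [hpow, hk, mul_zero, zero_mul]⟩
  · intro h0
    refine hus.2 ?_
    have e := hpow (N + 1 - 1)
    rw [h0] at e
    have e2 := congrArg (fun M => (g⁻¹).1 * M * g.1) e
    simp only [mul_zero, zero_mul, ← mul_assoc, hgg', one_mul] at e2
    rw [mul_assoc, hgg', mul_one] at e2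
    exact e2.symm

end Cfsg.Agent.S2279
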