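import Cfsg.Statements.S2280
import Cfsg.Agent.Lib.Generation.RegularUnipotent
-- import your own Cfsg.Agent.* helpers here

set_option autoImplicit false
open Cfsg
open scoped Matrix

namespace Cfsg.Agent.S2280

/-- Let F be a finite field and n ≥ 3. Then SL_n(F) is generated by three conjugate regular unipotent elements: there are u with u − 1 nilpotent and (u − 1)^(n−1) ≠ 0, and g, h, such that u, g u g⁻¹ and h u h⁻¹ generate SL_n(F). -/
theorem result {F : Type*} [Field F] [Fintype F] (n : ℕ) (hn : 3 ≤ n) :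
    ∃ u g h : Matrix.SpecialLinearGroup (Fin n) F, (IsNilpotent ((u : Matrix (Fin n) (Fin n) F) - 1) ∧ ((u : Matrix (Fin n) (Fin n) F) - 1) ^ (n - 1) ≠ 0) ∧
      Subgroup.closure ({u, g * u * g⁻¹, h * u * h⁻¹} : Set (Matrix.SpecialLinearGroup (Fin n) F)) = ⊤ := by
  classical
  obtain ⟨m, rfl⟩ : ∃ m, n = m + 3 := ⟨n - 3, by omega⟩
  obtain ⟨l, hl⟩ := IsCyclic.exists_generator (α := Fˣ)
  set u := Cfsg.Agent.RegUnipotentGen.regU (m + 3) F with hu
  set e : Fin (m + 3) → (Fin (m + 3) → F) := fun k => Pi.single k 1 with he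
  -- reversal of the basis, with determinant one
  set P := Equiv.Perm.permMatrix F (Fin.revPerm : Equiv.Perm (Fin (m + 3))) with hP
  set d : Fin (m + 3) → F := fun k => if k = 0 then (P.det)⁻¹ else 1 with hd
  have hPd : P.det ≠ 0 := by
    rw [hP, Matrix.det_permutation]
    rcases Int.units_eq_one_or (Equiv.Perm.sign (Fin.revPerm : Equiv.Perm (Fin (m + 3)))) with h | h <;> simp [h]
  have hd0 : ∀ k, d k ≠ 0 := fun k => by simp only [hd]; split_ifs <;> simp [hPd]
  let S : Matrix.SpecialLinearGroup (Fin (m + 3)) F := ⟨P * Matrix.diagonal d, by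
    rw [Matrix.det_mul, Matrix.det_diagonal]
    simp only [hd, Finset.prod_ite_eq', Finset.mem_univ, if_true]
    exact mul_inv_cancel₀ hPd⟩
  have hS : ∀ j, S.1.mulVec (e j) = d j • e j.rev := by
    intro j
    ext i
    simp only [he, Matrix.mulVec_single_one, Matrix.col_apply, Pi.smul_apply, smul_eq_mul]
    change (P * Matrix.diagonal d) i j = _
    rw [Matrix.mul_diagonal, hP, Equiv.Perm.permMatrix, PEquiv.toMatrix_apply, mul_comm]
    congr 1
    by_cases h : i = j.rev
    · subst h; simp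
    · have : Fin.rev i ≠ j := fun h' => h (by rw [← h', Fin.rev_rev])
      simp [h, this]
  set v := S * u * S⁻¹ with hv
  set b : Fin (m + 3) → F := fun k => d ⟨(k.rev : ℕ) - 1, by omega⟩ / d k.rev with hb
  have hvS : v.1 * S.1 = S.1 * u.1 := congrArg Subtype.val (show v * S = S * u by simp [hv])
  have hu1 : u.1 = 1 + Cfsg.Agent.RegUnipotentGen.upperN (m + 3) F := rfl
  have hue : ∀ j : Fin (m + 3), u.1.mulVec (e j) =
      e j + if 1 ≤ (j : ℕ) then e ⟨(j : ℕ) - 1, by omega⟩ else 0 := by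
    intro j
    rw [hu1, Matrix.add_mulVec, Matrix.one_mulVec]
    congr 1
    ext i
    rw [Cfsg.Agent.RegUnipotentGen.upperN_mulVec]
    simp only [he]
    split_ifs with h1 h2 h2
    · simp [Pi.single_apply, Fin.ext_iff]
      split_ifs <;> first | rfl | omega
    · simp [Pi.single_apply, Fin.ext_iff]
      omega
    · simp [Pi.single_apply, Fin.ext_iff]
      omega
    · rfl
  have hve : ∀ k : Fin (m + 3), v.1.mulVec (e k) = e k +
      (if h : (k : ℕ) + 1 < m + 3 then b k • e ⟨k + 1, h⟩ else 0) := by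
    intro k
    have h1 : v.1.mulVec (S.1.mulVec (e k.rev)) = S.1.mulVec (u.1.mulVec (e k.rev)) := by
      rw [Matrix.mulVec_mulVec, Matrix.mulVec_mulVec, hvS]
    rw [hS, Fin.rev_rev, Matrix.mulVec_smul, hue, Matrix.mulVec_add, hS, Fin.rev_rev] at h1
    rw [← inv_smul_smul₀ (hd0 k.rev) (v.1.mulVec (e k)), h1, smul_add, inv_smul_smul₀ (hd0 k.rev)]
    congr 1
    have hkr : (k.rev : ℕ) = m + 3 - (k + 1) := Fin.val_rev k
    by_cases h : (k : ℕ) + 1 < m + 3
    · rw [if_pos (by omega), dif_pos h, hS, smul_smul]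
      simp only [hb]
      have : Fin.rev (⟨(k.rev : ℕ) - 1, by omega⟩ : Fin (m + 3)) = ⟨k + 1, h⟩ :=
        Fin.ext (by simp [Fin.val_rev]; omega)
      rw [this, div_eq_inv_mul]
    · rw [if_neg (by omega), dif_neg h, Matrix.mulVec_zero, smul_zero]
  have hb0 : ∀ k, b k ≠ 0 := fun k => div_ne_zero (hd0 _) (hd0 _)
  set β := ((e (Fin.last (m + 2))) ᵥ* (v⁻¹).1) 0 with hβ
  -- the parameter of the second element (if `β = 0` anything will do)
  have hβ0 : β ≠ 0 := Cfsg.Agent.RegUnipotentGen.last_row_inv_ne_zero m v b hb0 hve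
  set c : F := (l : F) / (β * b 0) with hc
  have hc0 : c ≠ 0 := div_ne_zero l.ne_zero (mul_ne_zero hβ0 (hb0 0))
  have h1L : (e (Fin.last (m + 2))) ⬝ᵥ ((-c) • e 1) = 0 := by
    simp [he, Pi.single_apply, Fin.ext_iff]
  set g := Cfsg.Agent.RegUnipotentGen.tv ((-c) • e 1) (e (Fin.last (m + 2))) h1L with hg
  refine ⟨u, g, S, Cfsg.Agent.RegUnipotentGen.regU_spec (by omega), ?_⟩
  set G := Subgroup.closure ({u, g * u * g⁻¹, S * u * S⁻¹} : Set (Matrix.SpecialLinearGroup (Fin (m + 3)) F))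
    with hG
  have huG : u ∈ G := Subgroup.subset_closure (by simp)
  have hgG : g * u * g⁻¹ ∈ G := Subgroup.subset_closure (by simp)
  have hvG : v ∈ G := Subgroup.subset_closure (by simp [hv])
  refine Cfsg.Agent.RegUnipotentGen.eq_top_of_chain m G u v huG hvG hu1 b hb0 hve c ?_ hc0 ?_
  · intro T hT
    rw [← hβ, hc, mul_div_cancel₀ _ (mul_ne_zero hβ0 (hb0 0))] at hT
    rw [eq_top_iff]
    intro x _
    by_cases hx : x = 0
    · rw [hx]; exact zero_mem T
    obtain ⟨k, hk⟩ := mem_powers_iff_mem_zpowers.2 (hl (Units.mk0 x hx))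
    have : ((l : F)) ^ k = x := by
      have := congrArg (fun z : Fˣ => (z : F)) hk
      simpa using this
    rw [← this]
    exact pow_mem hT k
  · -- the commutator of `g` and `u`
    have hdot : (e (Fin.last (m + 2))) ⬝ᵥ (c • e 0) = 0 := by simp [he, Pi.single_apply, Fin.ext_iff]
    refine ⟨hdot, ?_⟩
    suffices heq : g * u * g⁻¹ * u⁻¹ = Cfsg.Agent.RegUnipotentGen.tv (c • e 0) (e (Fin.last (m + 2))) hdot by
      have := mul_mem hgG (inv_mem huG)
      rwa [heq] at this
    rw [mul_inv_eq_iff_eq_mul, mul_inv_eq_iff_eq_mul]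
    apply Cfsg.Agent.RegUnipotentGen.sl_ext
    change (1 + Matrix.vecMulVec ((-c) • e 1) (e (Fin.last (m + 2)))) * u.1 =
      (1 + Matrix.vecMulVec (c • e 0) (e (Fin.last (m + 2)))) * u.1 *
        (1 + Matrix.vecMulVec ((-c) • e 1) (e (Fin.last (m + 2))))
    have h1 : e (Fin.last (m + 2)) ᵥ* u.1 = e (Fin.last (m + 2)) := by
      ext j
      rw [hu1, Matrix.vecMul_add, Matrix.vecMul_one]
      have : (j : ℕ) ≠ m + 3 := by omega
      simp [he, Matrix.row, Cfsg.Agent.RegUnipotentGen.upperN, this]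
    have h2 : u.1.mulVec (e 1) = e 1 + e 0 := by
      rw [hue, if_pos (by simp)]
      rfl
    rw [add_mul, one_mul, Matrix.vecMulVec_mul, h1, add_mul, one_mul, Matrix.vecMulVec_mul, h1, mul_add,
      mul_one, add_mul, Matrix.mul_vecMulVec, Cfsg.Agent.RegUnipotentGen.tv_mul_apply, h1L, zero_smul,
      add_zero, Matrix.mulVec_smul, h2, smul_add, Matrix.add_vecMulVec, Matrix.smul_vecMulVec,
      Matrix.smul_vecMulVec, Matrix.smul_vecMulVec, neg_smul, neg_smul]
    abel

end Cfsg.Agent.S2280
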