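import Cfsg.Statements.S2281
import Cfsg.Agent.Lib.Generation.SpWitness
import Cfsg.Agent.Lib.Classical.Symplectic

set_option autoImplicit false
open Cfsg

namespace Cfsg.Agent.S2281

open Matrix Transvec

/-- Let F be a finite field and n ≥ 2, excluding the case n = 2 with F of two elements (where the group is not quasisimple). Then the symplectic group Sp_2n(F) is generated by three conjugate regular unipotent elements: there are u ∈ Sp_2n(F) with u − 1 nilpotent and (u − 1)^(2n−1) ≠ 0, and g, h ∈ Sp_2n(F), such that u, g u g⁻¹ and h u h⁻¹ generate Sp_2n(F). -/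
theorem result {F : Type*} [Field F] [Fintype F] (n : ℕ) (hn : 2 ≤ n) (h22 : ¬ (n = 2 ∧ Fintype.card F = 2)) :
    ∃ u g h : Matrix.symplecticGroup (Fin n) F,
      IsNilpotent ((u : Matrix (Fin n ⊕ Fin n) (Fin n ⊕ Fin n) F) - 1) ∧
      ((u : Matrix (Fin n ⊕ Fin n) (Fin n ⊕ Fin n) F) - 1) ^ (2 * n - 1) ≠ 0 ∧
      Subgroup.closure ({u, g * u * g⁻¹, h * u * h⁻¹} : Set (Matrix.symplecticGroup (Fin n) F)) = ⊤ := by
  classical
  obtain ⟨g, h, hg, hh, hle⟩ := SpWitness.exists_witness hn h22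
  let T : Matrix.symplecticGroup (Fin n) F →* GL (Fin n ⊕ Fin n) F :=
    (Matrix.symplecticGroup (Fin n) F).subtype.toHomUnits
  have hT : Function.Injective T := fun a b e => Subtype.ext (congrArg Units.val e :)
  have lift : ∀ x ∈ preserving (Units.coeHom (Matrix (Fin n ⊕ Fin n) (Fin n ⊕ Fin n) F)) (sympForm n F),
      ∃ a, T a = x := fun x hx => ⟨⟨x, (ClassicalSp.mem_iff_preserves _).2 hx⟩, Units.ext rfl⟩
  obtain ⟨u', hu'⟩ := lift _ (SpReg.uu_mem hn)
  obtain ⟨g', rfl⟩ := lift g hg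
  obtain ⟨h', rfl⟩ := lift h hh
  have hval : (u' : Matrix (Fin n ⊕ Fin n) (Fin n ⊕ Fin n) F) = (SpReg.uu (F := F) hn : GL _ F) :=
    congrArg Units.val hu'
  refine ⟨u', g', h', ?_, ?_, ?_⟩
  · rw [hval]; exact (SpReg.uu_regular hn).1
  · rw [hval]; exact (SpReg.uu_regular hn).2
  · apply Subgroup.map_injective hT
    rw [MonoidHom.map_closure]
    simp only [Set.image_insert_eq, Set.image_singleton, map_mul, map_inv, hu']
    refine le_antisymm ?_ ?_
    · rw [Subgroup.closure_le]
      intro z hz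
      simp only [Set.mem_insert_iff, Set.mem_singleton_iff] at hz
      rcases hz with rfl | rfl | rfl
      · exact ⟨u', trivial, hu'⟩
      · exact ⟨g' * u' * g'⁻¹, trivial, by rw [map_mul, map_mul, map_inv, hu']⟩
      · exact ⟨h' * u' * h'⁻¹, trivial, by rw [map_mul, map_mul, map_inv, hu']⟩
    · rintro _ ⟨a, -, rfl⟩
      exact hle ((ClassicalSp.mem_iff_preserves _).1 a.2)

end Cfsg.Agent.S2281
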