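import Cfsg.Statements.S2283
import Cfsg.Agent.Lib.Generation.SU3Odd
import Cfsg.Agent.Lib.Generation.SU3Even
import Cfsg.Agent.Lib.Transvec.HermStd

set_option autoImplicit false
open Cfsg

namespace Cfsg.Agent.S2283

open scoped Matrix
open Matrix Cfsg.Agent.Transvec Cfsg.Agent.Transvec.Herm Cfsg.Agent.UnitaryGen Cfsg.Agent.SU3Regular

theorem core {F : Type*} [Field F] [Finite F] {σ : F ≃+* F} {f : (Fin 3 → F) → (Fin 3 → F) → F}
    (hf : Geo.IsUnitaryForm σ f) (hq : 3 ≤ Nat.card (fixedField σ)) :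
    ∃ u g : GL (Fin 3) F,
      u ∈ preserving (Units.coeHom (Matrix (Fin 3) (Fin 3) F)) f ⊓ Geo.specialLinear (Fin 3) F ∧
      g ∈ preserving (Units.coeHom (Matrix (Fin 3) (Fin 3) F)) f ⊓ Geo.specialLinear (Fin 3) F ∧
      (((u : Matrix (Fin 3) (Fin 3) F) - 1) ^ 3 = 0 ∧ ((u : Matrix (Fin 3) (Fin 3) F) - 1) ^ 2 ≠ 0) ∧
      ∀ M : Subgroup (GL (Fin 3) F), u ∈ M → g * u * g⁻¹ ∈ M →
        preserving (Units.coeHom (Matrix (Fin 3) (Fin 3) F)) f ⊓ Geo.specialLinear (Fin 3) F ≤ M := by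
  classical
  obtain ⟨e, d, v, hfr⟩ := exists_frame3 hf (Fintype.card_fin 3)
  have key : ∀ b : F, b + σ b + 1 * σ 1 = 0 →
      ((uni hf hfr 1 b : Matrix (Fin 3) (Fin 3) F) - 1) ^ 3 = 0 ∧
      ((uni hf hfr 1 b : Matrix (Fin 3) (Fin 3) F) - 1) ^ 2 ≠ 0 := by
    intro b hb
    set N := (uni hf hfr 1 b : Matrix (Fin 3) (Fin 3) F) - 1 with hN
    have hNv : ∀ p r c, N *ᵥ SU3Regular.vec e d v p r c = SU3Regular.vec e d v (c * b - r) c 0 := by
      intro p r c
      rw [hN, Matrix.sub_mulVec, Matrix.one_mulVec,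
        show (uni hf hfr 1 b : Matrix (Fin 3) (Fin 3) F) *ᵥ SU3Regular.vec e d v p r c = _ from uni_vec hf hfr 1 b p r c]
      simp only [SU3Regular.vec, map_one, mul_one]
      match_scalars <;> ring
    refine ⟨Matrix.ext_of_mulVec_single fun i => ?_, fun h => ?_⟩
    · obtain ⟨p, r, c, hx⟩ := exists_vec hf hfr (Pi.single i 1)
      rw [hx, Matrix.zero_mulVec, pow_succ, pow_two, ← Matrix.mulVec_mulVec, ← Matrix.mulVec_mulVec, hNv, hNv, hNv]
      simp [SU3Regular.vec]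
    · have h1 : N *ᵥ (N *ᵥ SU3Regular.vec e d v 0 0 1) = 0 := by
        rw [Matrix.mulVec_mulVec, ← pow_two, h, Matrix.zero_mulVec]
      rw [hNv, hNv] at h1
      have h2 := congrArg (fun x => f x d) h1
      simp [SU3Regular.vec, hf.add_left, hf.smul_left, hfr.ed, hfr.vd, hfr.dd, zero_left hf, neg_left hf] at h2
  obtain ⟨p, hp⟩ := CharP.exists F
  have : Fact p.Prime := ⟨(CharP.char_is_prime_or_zero F p).resolve_right fun h => by
    subst h
    have := CharP.charP_to_charZero F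
    exact not_finite F⟩
  by_cases h2 : p = 2
  · subst h2
    obtain ⟨b, hb, g, hg, hgen⟩ := even_generation hf hfr hq
    exact ⟨_, g, uni_mem hf hfr 1 b hb, hg, key b hb, hgen⟩
  · obtain ⟨b, hb, s, hs, hgen⟩ := odd_generation hf hfr p h2
    exact ⟨_, _, uni_mem hf hfr 1 b hb, ⟨htv_mem hf d hfr.dd hs, htv_mem_specialLinear hf d hfr.dd s⟩,
      key b hb, hgen⟩


/-- Let F be a field with q² elements, q ≥ 3, and SU_3(q) the special unitary group of the standard Hermitian form. Then SU_3(q) is generated by two conjugate regular unipotent elements: there are u ∈ SU_3(q) with u − 1 nilpotent and (u − 1)² ≠ 0, and g ∈ SU_3(q), such that u and g u g⁻¹ generate SU_3(q). -/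
theorem result {F : Type*} [Field F] [Fintype F] (q : ℕ) (hq : 3 ≤ q) (hF : Fintype.card F = q ^ 2) :
    ∃ u g : ↥(Cfsg.SU 3 F q), (IsNilpotent (((u : Matrix.SpecialLinearGroup (Fin 3) F) : Matrix (Fin 3) (Fin 3) F) - 1) ∧ (((u : Matrix.SpecialLinearGroup (Fin 3) F) : Matrix (Fin 3) (Fin 3) F) - 1) ^ (3 - 1) ≠ 0) ∧
      Subgroup.closure ({u, g * u * g⁻¹} : Set ↥(Cfsg.SU 3 F q)) = ⊤ := by
  classical
  obtain ⟨σ, hσ, -, hf⟩ := exists_unitary_std hF (n := 3) (by norm_num)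
  have hqc : Nat.card (fixedField σ) = q := by
    have h := card_eq_sq hf.ne_refl hf.involutive
    rw [Nat.card_eq_fintype_card, hF] at h
    exact (Nat.pow_left_injective two_ne_zero h).symm
  obtain ⟨u, g, hu, hg, hreg, hgen⟩ := core hf (hqc ▸ hq)
  have lift : ∀ x, x ∈ preserving (Units.coeHom (Matrix (Fin 3) (Fin 3) F)) (hermForm 3 F q) ⊓
      Geo.specialLinear (Fin 3) F →
      ∃ y : ↥(Cfsg.SU 3 F q), Matrix.SpecialLinearGroup.toGL (y : Matrix.SpecialLinearGroup (Fin 3) F) = x := by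
    intro x hx
    have hdet : (x : Matrix (Fin 3) (Fin 3) F).det = 1 := congrArg Units.val (MonoidHom.mem_ker.1 hx.2)
    exact ⟨⟨⟨x.1, hdet⟩, fun a b => hx.1 a b⟩, Units.ext rfl⟩
  obtain ⟨u', rfl⟩ := lift u hu
  obtain ⟨g', rfl⟩ := lift g hg
  refine ⟨u', g', ⟨⟨3, hreg.1⟩, hreg.2⟩, ?_⟩
  rw [eq_top_iff]
  rintro x -
  set φ : ↥(Cfsg.SU 3 F q) →* Matrix.GeneralLinearGroup (Fin 3) F :=
    Matrix.SpecialLinearGroup.toGL.comp (Cfsg.SU 3 F q).subtype with hφ
  have hx : φ x ∈ preserving (Units.coeHom (Matrix (Fin 3) (Fin 3) F)) (hermForm 3 F q) ⊓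
      Geo.specialLinear (Fin 3) F :=
    ⟨fun a b => x.2 a b, MonoidHom.mem_ker.2 (Units.ext (by
      simp [hφ, Matrix.SpecialLinearGroup.toGL]))⟩
  have := hgen ((Subgroup.closure ({u', g' * u' * g'⁻¹} : Set ↥(Cfsg.SU 3 F q))).map φ)
    ⟨u', Subgroup.subset_closure (by simp), rfl⟩
    ⟨g' * u' * g'⁻¹, Subgroup.subset_closure (by simp), by simp [hφ, map_mul, map_inv]⟩ hx
  obtain ⟨y, hy, he⟩ := this
  have : Function.Injective φ :=
    Matrix.SpecialLinearGroup.toGL_injective.comp Subtype.val_injective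
  exact this he ▸ hy

end Cfsg.Agent.S2283
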