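import Cfsg.Statements.S2282
import Cfsg.Agent.Lib.Generation.SUUnip
import Cfsg.Agent.Lib.Generation.SUWitness
import Cfsg.Agent.Lib.Classical.HermSU
import Cfsg.Agent.S2283

set_option autoImplicit false
open Cfsg

namespace Cfsg.Agent.S2282

open scoped Matrix
open Matrix Cfsg.Agent.Transvec Cfsg.Agent.Transvec.Herm Cfsg.Agent.SUGen

/-- Let F be a field with q² elements, n ≥ 3 odd with (n, q) ≠ (3, 2), and SU_n(q) the special unitary group of the standard Hermitian form Σ u_i v_i^q. Then SU_n(q) is generated by three conjugate regular unipotent elements: there are u ∈ SU_n(q) with u − 1 nilpotent and (u − 1)^(n−1) ≠ 0, and g, h ∈ SU_n(q), such that u, g u g⁻¹ and h u h⁻¹ generate SU_n(q). -/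
theorem result {F : Type*} [Field F] [Fintype F] (q : ℕ) (hF : Fintype.card F = q ^ 2) (n : ℕ) (hn : 3 ≤ n) (hodd : Odd n) (h32 : ¬ (n = 3 ∧ q = 2)) :
    ∃ u g h : ↥(Cfsg.SU n F q), (IsNilpotent (((u : Matrix.SpecialLinearGroup (Fin n) F) : Matrix (Fin n) (Fin n) F) - 1) ∧ (((u : Matrix.SpecialLinearGroup (Fin n) F) : Matrix (Fin n) (Fin n) F) - 1) ^ (n - 1) ≠ 0) ∧
      Subgroup.closure ({u, g * u * g⁻¹, h * u * h⁻¹} : Set ↥(Cfsg.SU n F q)) = ⊤ := by
  classical
  by_cases h3 : n = 3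
  · subst h3
    obtain ⟨σ, -, hq2, -⟩ := exists_unitary_std hF (n := 3) (by norm_num)
    obtain ⟨u, g, hu, hgen⟩ := Cfsg.Agent.S2283.result q (by omega) hF
    refine ⟨u, g, g, hu, ?_⟩
    rw [← hgen]; congr 1; simp
  obtain ⟨m, hm⟩ := hodd
  obtain ⟨σ, hσ, -, hf⟩ := exists_unitary_std hF (n := n) (by omega)
  obtain ⟨s, hs0, hs1⟩ := SUGen.exists_regular hF (n := n) (by omega)
  let φ : ↥(Cfsg.SU n F q) →* Matrix.GeneralLinearGroup (Fin n) F :=
    Matrix.SpecialLinearGroup.toGL.comp (Cfsg.SU n F q).subtype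
  set S := preserving (Units.coeHom (Matrix (Fin n) (Fin n) F)) (hermForm n F q) ⊓ Geo.specialLinear (Fin n) F
    with hSdef
  have hφS : ∀ x, φ x ∈ S := fun x =>
    ⟨fun a b => x.2 a b, MonoidHom.mem_ker.2 (Units.ext (by simp [φ, Matrix.SpecialLinearGroup.toGL]))⟩
  have lift : ∀ x ∈ S, ∃ y, φ y = x := by
    intro x hx
    exact ⟨⟨⟨x.1, congrArg Units.val (MonoidHom.mem_ker.1 hx.2)⟩, fun a b => hx.1 a b⟩, Units.ext rfl⟩
  set U := φ s
  have hUv : (U : Matrix (Fin n) (Fin n) F) = ((s : Matrix.SpecialLinearGroup (Fin n) F) : Matrix (Fin n) (Fin n) F) := rfl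
  obtain ⟨xh, hxh⟩ : ∃ xh, NP U (n - 1) xh ≠ 0 := by
    by_contra h
    push Not at h
    apply hs1
    refine Matrix.ext_of_mulVec_single fun i => ?_
    rw [Matrix.zero_mulVec]
    have := h (Pi.single i 1)
    rw [NP, hUv, Matrix.toLin'_apply] at this
    exact this
  have R : Reg σ (hermForm n F q) U n m (NP U (n - 1) xh) (-NP U (n - 2) xh) (NP U (n - 3) xh) (NP U m xh) xh :=
    { form := hf
      card := Fintype.card_fin n
      dim := hm
      two_le := by omega
      iso := (hφS s).1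
      nil := fun x => by rw [NP, hUv, hs0, map_zero, LinearMap.zero_apply]
      e_def := rfl
      e₂_def := rfl
      b₂_def := rfl
      v_def := rfl
      e_ne := hxh }
  obtain ⟨g, hg, h, hh, hgen⟩ := SUGen.exists_witness R (fun g hg =>
    HermSU.det_mem_normOne (σ := σ.toRingHom) hσ (g := g) hg)
  obtain ⟨g', rfl⟩ := lift g hg
  obtain ⟨h', rfl⟩ := lift h hh
  refine ⟨s, g', h', ⟨⟨n, hs0⟩, hs1⟩, ?_⟩
  apply Subgroup.map_injective (f := φ)
    (Matrix.SpecialLinearGroup.toGL_injective.comp Subtype.val_injective)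
  set K := (Subgroup.closure ({s, g' * s * g'⁻¹, h' * s * h'⁻¹} : Set ↥(Cfsg.SU n F q))).map φ with hK
  refine le_antisymm (Subgroup.map_mono le_top) ?_
  have hKS : K ≤ S := by
    rintro _ ⟨y, -, rfl⟩
    exact hφS y
  have hall := hgen K (hKS.trans inf_le_left) ⟨s, Subgroup.subset_closure (by simp), rfl⟩
    ⟨g' * s * g'⁻¹, Subgroup.subset_closure (by simp), by simp [U, map_mul, map_inv]⟩
    ⟨h' * s * h'⁻¹, Subgroup.subset_closure (by simp), by simp [U, map_mul, map_inv]⟩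
  have heq := eq_su hf (by rw [Fintype.card_fin]; omega) hKS hall
  rintro _ ⟨y, -, rfl⟩
  exact heq ▸ hφS y

end Cfsg.Agent.S2282
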