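import Cfsg.Statements.S2284
import Cfsg.Agent.Lib.ShortPres.Small
-- import your own Cfsg.Agent.* helpers here

set_option autoImplicit false
open Cfsg

namespace Cfsg.Agent.S2284

/-- For every n, the symmetric group S_n and the alternating group A_n each have a presentation with 2 generators and at most 8 relations. -/
theorem result (n : ℕ) : (∃ rels : Finset (FreeGroup (Fin 2)), rels.card ≤ 8 ∧ Nonempty (PresentedGroup (↑rels : Set (FreeGroup (Fin 2))) ≃* Equiv.Perm (Fin n))) ∧ (∃ rels : Finset (FreeGroup (Fin 2)), rels.card ≤ 8 ∧ Nonempty (PresentedGroup (↑rels : Set (FreeGroup (Fin 2))) ≃* ↥(alternatingGroup (Fin n)))) := by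
  by_cases hn : 5 ≤ n
  · obtain ⟨h1, h2⟩ := Cfsg.Agent.ShortPres.pres7_fin n hn
    obtain ⟨S, hS, hS'⟩ := h1.two
    obtain ⟨T, hT, hT'⟩ := h2.two
    exact ⟨⟨S, by omega, hS'⟩, ⟨T, by omega, hT'⟩⟩
  · obtain ⟨g, r, hg, hr, h⟩ := Cfsg.Agent.ShortPres.presG_alt_small n (by omega)
    exact ⟨Cfsg.Agent.ShortPres.sym_small n (by omega), Cfsg.Agent.ShortPres.two_of_presG h hg hr⟩

end Cfsg.Agent.S2284
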