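import Cfsg.Statements.S2291
import Cfsg.Agent.Lib.SUGlue.TwoGen
import Cfsg.Agent.Lib.SUGlue.Small

set_option autoImplicit false
open Cfsg

namespace Cfsg.Agent.S2291

/-- Let F be a field with q² elements and n ≥ 3 with (n, q) ≠ (3, 2). Then the simple group PSU_n(q) (for the standard Hermitian form) has a presentation with 2 generators and at most 80 relations. -/
theorem result {F : Type*} [Field F] [Fintype F] (q n : ℕ) (hF : Fintype.card F = q ^ 2) (hn : 3 ≤ n) (h32 : ¬ (n = 3 ∧ q = 2)) :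
    ∃ rels : Finset (FreeGroup (Fin 2)), rels.card ≤ 80 ∧ Nonempty (PresentedGroup (↑rels : Set (FreeGroup (Fin 2))) ≃* Cfsg.PSU n F q) := by
  have h2 := SUGlue.q_ge_two hF
  by_cases h4 : 4 ≤ q
  · exact SUGlue.two_gen_ge4 hF h4 hn
  rcases eq_or_lt_of_le hn with rfl | hn4
  · exact SUGlue.two_gen_three hF (by omega)
  · obtain ⟨R, hR, ⟨e⟩⟩ := SUGlue.psu_short_small (n := n) hn4 hF (by omega)
    exact SUGlue.two_of_psu hF hn (fun _ => by omega) (BoundedPres.of_presentation R le_rfl e)
      (hR.trans (by split_ifs <;> norm_num))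

end Cfsg.Agent.S2291
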