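import Cfsg.Statements.S2294
import Cfsg.Agent.Lib.SUGlue.Main
import Cfsg.Agent.Lib.SUGlue.TwoGen
import Cfsg.Agent.Lib.SUGlue.Small

set_option autoImplicit false
open Cfsg

namespace Cfsg.Agent.S2294

/-- Let F be a field with q² elements and n ≥ 4, and SU_n(q), PSU_n(q) the special unitary group of the standard Hermitian form and its central quotient. Then SU_n(q) has a presentation with 6 generators and at most 39 relations and PSU_n(q) one with 6 generators and at most 40 relations; moreover SU_4(q) and SU_5(q) have presentations with 6 generators and at most 35 relations, and PSU_4(q) one with 6 generators and at most 36 relations. -/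
theorem result {F : Type*} [Field F] [Fintype F] (q : ℕ) (hF : Fintype.card F = q ^ 2) (n : ℕ) (hn : 4 ≤ n) :
    (∃ rels : Finset (FreeGroup (Fin 6)), rels.card ≤ 39 ∧ Nonempty (PresentedGroup (↑rels : Set (FreeGroup (Fin 6))) ≃* ↥(Cfsg.SU n F q))) ∧ (∃ rels : Finset (FreeGroup (Fin 6)), rels.card ≤ 40 ∧ Nonempty (PresentedGroup (↑rels : Set (FreeGroup (Fin 6))) ≃* Cfsg.PSU n F q)) ∧
    (∃ rels : Finset (FreeGroup (Fin 6)), rels.card ≤ 35 ∧ Nonempty (PresentedGroup (↑rels : Set (FreeGroup (Fin 6))) ≃* ↥(Cfsg.SU 4 F q))) ∧ (∃ rels : Finset (FreeGroup (Fin 6)), rels.card ≤ 35 ∧ Nonempty (PresentedGroup (↑rels : Set (FreeGroup (Fin 6))) ≃* ↥(Cfsg.SU 5 F q))) ∧ (∃ rels : Finset (FreeGroup (Fin 6)), rels.card ≤ 36 ∧ Nonempty (PresentedGroup (↑rels : Set (FreeGroup (Fin 6))) ≃* Cfsg.PSU 4 F q)) := by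
  have hsu : ∀ m, 4 ≤ m → ∃ R : Finset (FreeGroup (Fin 6)), R.card ≤ (if m ≤ 5 then 35 else 39) ∧
      Nonempty (PresentedGroup (↑R : Set (FreeGroup (Fin 6))) ≃* ↥(Cfsg.SU m F q)) := fun m hm => by
    by_cases h4 : 4 ≤ q
    · exact SUGlue.su_short hF h4 hm
    · exact SUGlue.su_short_small hm hF (by have := SUGlue.q_ge_two hF; omega)
  have hpsu : ∀ m, 4 ≤ m → ∃ R : Finset (FreeGroup (Fin 6)), R.card ≤ (if m ≤ 5 then 36 else 40) ∧
      Nonempty (PresentedGroup (↑R : Set (FreeGroup (Fin 6))) ≃* Cfsg.PSU m F q) := fun m hm => by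
    by_cases h4 : 4 ≤ q
    · exact SUGlue.psu_short hF h4 hm
    · exact SUGlue.psu_short_small hm hF (by have := SUGlue.q_ge_two hF; omega)
  obtain ⟨R, hR, e⟩ := hsu n hn
  obtain ⟨S, hS, e'⟩ := hpsu n hn
  obtain ⟨R4, hR4, e4⟩ := hsu 4 le_rfl
  obtain ⟨R5, hR5, e5⟩ := hsu 5 (by norm_num)
  obtain ⟨S4, hS4, f4⟩ := hpsu 4 le_rfl
  exact ⟨⟨R, hR.trans (by split_ifs <;> norm_num), e⟩, ⟨S, hS.trans (by split_ifs <;> norm_num), e'⟩,
    ⟨R4, hR4.trans (by norm_num), e4⟩, ⟨R5, hR5.trans (by norm_num), e5⟩, ⟨S4, hS4.trans (by norm_num), f4⟩⟩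

end Cfsg.Agent.S2294
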