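import Cfsg.Statements.S2298
import Cfsg.Agent.Lib.Classical.GL2Chars
-- import your own Cfsg.Agent.* helpers here

set_option autoImplicit false
open Cfsg

namespace Cfsg.Agent.S2298

/-- Over a finite field F with q elements, every irreducible complex character of GL₂ has degree 1, q − 1, q or q + 1; and when q ≥ 3 (so that these four numbers are distinct) there are exactly q − 1 irreducible characters of degree 1, exactly q − 1 of degree q, exactly (q − 1)(q − 2)/2 of degree q + 1 and exactly q(q − 1)/2 of degree q − 1. -/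
theorem result {F : Type*} [Field F] [Fintype F] :
    (∀ χ : Matrix.GeneralLinearGroup (Fin 2) F → ℂ, Cfsg.IsIrrCharacter (Matrix.GeneralLinearGroup (Fin 2) F) χ →
      χ 1 = 1 ∨ χ 1 = (Fintype.card F : ℂ) - 1 ∨ χ 1 = (Fintype.card F : ℂ) ∨ χ 1 = (Fintype.card F : ℂ) + 1) ∧
    (3 ≤ Fintype.card F →
      Nat.card {χ : Cfsg.IrrCharacter (Matrix.GeneralLinearGroup (Fin 2) F) // (χ : Matrix.GeneralLinearGroup (Fin 2) F → ℂ) 1 = 1} = Fintype.card F - 1 ∧
      Nat.card {χ : Cfsg.IrrCharacter (Matrix.GeneralLinearGroup (Fin 2) F) // (χ : Matrix.GeneralLinearGroup (Fin 2) F → ℂ) 1 = (Fintype.card F : ℂ)} = Fintype.card F - 1 ∧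
      Nat.card {χ : Cfsg.IrrCharacter (Matrix.GeneralLinearGroup (Fin 2) F) // (χ : Matrix.GeneralLinearGroup (Fin 2) F → ℂ) 1 = (Fintype.card F : ℂ) + 1} = (Fintype.card F - 1) * (Fintype.card F - 2) / 2 ∧
      Nat.card {χ : Cfsg.IrrCharacter (Matrix.GeneralLinearGroup (Fin 2) F) // (χ : Matrix.GeneralLinearGroup (Fin 2) F → ℂ) 1 = (Fintype.card F : ℂ) - 1} = Fintype.card F * (Fintype.card F - 1) / 2) := by
  classical
  haveI : Fintype (MulChar F ℂ) := Fintype.ofFinite _
  haveI : Fintype (Matrix.GeneralLinearGroup (Fin 2) F) := Fintype.ofFinite _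
  have hq := Fintype.one_lt_card (α := F)
  refine ⟨fun χ hχ => ?_, fun hq3 => ⟨?_, ?_, ?_, ?_⟩⟩
  · rcases GL2Chars.classify hχ with ⟨h, -⟩ | ⟨h, -⟩ | ⟨h, -⟩ | ⟨h, -⟩ <;> simp [h]
  all_goals rw [Nat.card_eq_fintype_card, Fintype.card_subtype]
  · rw [← GL2Chars.card_linSet (F := F)]
    congr 1
    ext χ
    simp only [Finset.mem_filter, Finset.mem_univ, true_and, GL2Chars.linSet, Finset.mem_image]
    refine ⟨fun h => ?_, fun ⟨α, e⟩ => by simp [← e, GL2Chars.linC]⟩
    rcases GL2Chars.classify χ.2 with ⟨-, α, e⟩ | ⟨h', -⟩ | ⟨h', -⟩ | ⟨h', -⟩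
    · exact ⟨α, Subtype.ext e.symm⟩
    all_goals
      rw [h] at h'
      exfalso
    · norm_cast at h'
      omega
    · norm_cast at h'
      omega
    · rw [eq_sub_iff_add_eq] at h'
      norm_cast at h'
      omega
  · rw [← GL2Chars.card_stSet (F := F)]
    congr 1
    ext χ
    simp only [Finset.mem_filter, Finset.mem_univ, true_and, GL2Chars.stSet, Finset.mem_image]
    refine ⟨fun h => ?_, fun ⟨α, e⟩ => by simp [← e, GL2Chars.St_one]⟩
    rcases GL2Chars.classify χ.2 with ⟨h', -⟩ | ⟨-, α, e⟩ | ⟨h', -⟩ | ⟨h', -⟩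
    case inr.inl => exact ⟨α, Subtype.ext e.symm⟩
    all_goals
      rw [h] at h'
      exfalso
    · norm_cast at h'
      omega
    · norm_cast at h'
      omega
    · rw [eq_sub_iff_add_eq] at h'
      norm_cast at h'
      omega
  · rw [← GL2Chars.two_mul_card_psSet (F := F), Nat.mul_div_cancel_left _ two_pos]
    congr 1
    ext χ
    simp only [Finset.mem_filter, Finset.mem_univ, true_and, GL2Chars.psSet]
    refine ⟨fun h => ?_, fun ⟨α, β, _, e⟩ => by rw [e, GL2Chars.R_one]⟩
    rcases GL2Chars.classify χ.2 with ⟨h', -⟩ | ⟨h', -⟩ | ⟨-, e⟩ | ⟨h', -⟩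
    case inr.inr.inl => exact e
    all_goals
      rw [h] at h'
      exfalso
    · norm_cast at h'
      omega
    · norm_cast at h'
      omega
    · rw [eq_sub_iff_add_eq] at h'
      norm_cast at h'
      omega
  · rw [← (GL2Chars.cusp_count (F := F)).1, Nat.mul_div_cancel_left _ two_pos]
    congr 1
    ext χ
    refine ⟨fun h => ?_, fun h => Finset.mem_filter.2 ⟨Finset.mem_univ _,
      (GL2Chars.cusp_count (F := F)).2 χ h⟩⟩
    simp only [Finset.mem_filter, Finset.mem_univ, true_and] at h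
    simp only [GL2Chars.cuspSet, Finset.mem_filter, Finset.mem_univ, true_and]
    rcases GL2Chars.classify χ.2 with ⟨h', -⟩ | ⟨h', -⟩ | ⟨h', -⟩ | ⟨-, e⟩
    case inr.inr.inr => exact e
    all_goals
      rw [h, sub_eq_iff_eq_add] at h'
      exfalso
      norm_cast at h'
      omega

end Cfsg.Agent.S2298
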