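import Cfsg.Statements.S2299
import Cfsg.Agent.Lib.Classical.SL2TableValues
-- import your own Cfsg.Agent.* helpers here

set_option autoImplicit false
open Cfsg

namespace Cfsg.Agent.S2299

/-- Over a finite field F with q elements, q odd, every irreducible complex character of SL₂ has degree 1, q, q + 1, q − 1, (q + 1)/2 or (q − 1)/2; and when q ≥ 5 (so that these six numbers are distinct) there are exactly one irreducible character of degree 1, one of degree q, (q − 3)/2 of degree q + 1, (q − 1)/2 of degree q − 1, two of degree (q + 1)/2 and two of degree (q − 1)/2. -/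
theorem result {F : Type*} [Field F] [Fintype F] (hodd : Odd (Fintype.card F)) :
    (∀ χ : Matrix.SpecialLinearGroup (Fin 2) F → ℂ, Cfsg.IsIrrCharacter (Matrix.SpecialLinearGroup (Fin 2) F) χ →
      χ 1 = 1 ∨ χ 1 = (Fintype.card F : ℂ) ∨ χ 1 = (Fintype.card F : ℂ) + 1 ∨ χ 1 = (Fintype.card F : ℂ) - 1 ∨
        χ 1 = (((Fintype.card F + 1) / 2 : ℕ) : ℂ) ∨ χ 1 = (((Fintype.card F - 1) / 2 : ℕ) : ℂ)) ∧
    (5 ≤ Fintype.card F →
      Nat.card {χ : Cfsg.IrrCharacter (Matrix.SpecialLinearGroup (Fin 2) F) // (χ : Matrix.SpecialLinearGroup (Fin 2) F → ℂ) 1 = 1} = 1 ∧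
      Nat.card {χ : Cfsg.IrrCharacter (Matrix.SpecialLinearGroup (Fin 2) F) // (χ : Matrix.SpecialLinearGroup (Fin 2) F → ℂ) 1 = (Fintype.card F : ℂ)} = 1 ∧
      Nat.card {χ : Cfsg.IrrCharacter (Matrix.SpecialLinearGroup (Fin 2) F) // (χ : Matrix.SpecialLinearGroup (Fin 2) F → ℂ) 1 = (Fintype.card F : ℂ) + 1} = (Fintype.card F - 3) / 2 ∧
      Nat.card {χ : Cfsg.IrrCharacter (Matrix.SpecialLinearGroup (Fin 2) F) // (χ : Matrix.SpecialLinearGroup (Fin 2) F → ℂ) 1 = (Fintype.card F : ℂ) - 1} = (Fintype.card F - 1) / 2 ∧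
      Nat.card {χ : Cfsg.IrrCharacter (Matrix.SpecialLinearGroup (Fin 2) F) // (χ : Matrix.SpecialLinearGroup (Fin 2) F → ℂ) 1 = (((Fintype.card F + 1) / 2 : ℕ) : ℂ)} = 2 ∧
      Nat.card {χ : Cfsg.IrrCharacter (Matrix.SpecialLinearGroup (Fin 2) F) // (χ : Matrix.SpecialLinearGroup (Fin 2) F → ℂ) 1 = (((Fintype.card F - 1) / 2 : ℕ) : ℂ)} = 2) := by
  classical
  obtain ⟨g₀, hg₀⟩ := SL2Tori.exists_noEigen (F := F)
  obtain ⟨ν, -, hcls⟩ := SL2Table.exists_classes hodd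
  obtain ⟨d⟩ := SL2Table.exists_oddData hodd hg₀ hcls
  have hps := d.card_ps
  have hds := d.card_ds
  rw [Nat.odd_iff] at hodd
  haveI : Fintype (Matrix.SpecialLinearGroup (Fin 2) F) := Fintype.ofFinite _
  refine ⟨fun χ hχ => ?_, fun hq => ⟨?_, ?_, ?_, ?_, ?_, ?_⟩⟩
  · rcases SL2TableValues.cases_odd d hg₀ hχ with
      ⟨h, -⟩ | ⟨h, -⟩ | ⟨h, -⟩ | ⟨h, -⟩ | ⟨h, -⟩ | ⟨h, -⟩
    · exact Or.inl (h.trans Nat.cast_one)
    · exact Or.inr (Or.inl h)
    · exact Or.inr (Or.inr (Or.inl (h.trans SL2TableValues.deg_add.symm)))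
    · exact Or.inr (Or.inr (Or.inr (Or.inl (h.trans SL2TableValues.deg_sub.symm))))
    · exact Or.inr (Or.inr (Or.inr (Or.inr (Or.inl h))))
    · exact Or.inr (Or.inr (Or.inr (Or.inr (Or.inr h))))
  all_goals try simp only [SL2TableValues.deg_add, SL2TableValues.deg_sub]
  all_goals rw [Nat.card_eq_fintype_card, Fintype.card_subtype]
  · simp only [SL2TableValues.deg_one]
    rw [Finset.card_eq_one]
    refine ⟨SL2Table.oneI, Finset.ext fun χ => ?_⟩
    simp only [Finset.mem_filter, Finset.mem_univ, true_and, Finset.mem_singleton]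
    refine ⟨fun h => ?_, fun e => by simp [e, SL2Table.oneI]⟩
    rcases SL2TableValues.cases_odd d hg₀ χ.2 with
      ⟨h', e⟩ | ⟨h', -⟩ | ⟨h', -⟩ | ⟨h', -⟩ | ⟨h', -⟩ | ⟨h', -⟩
    · exact Subtype.ext e
    all_goals
      rw [h', Nat.cast_inj] at h
      omega
  · rw [Finset.card_eq_one]
    refine ⟨SL2Table.stI, Finset.ext fun χ => ?_⟩
    simp only [Finset.mem_filter, Finset.mem_univ, true_and, Finset.mem_singleton]
    refine ⟨fun h => ?_, fun e => by rw [e]; exact SL2Principal.St_one⟩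
    rcases SL2TableValues.cases_odd d hg₀ χ.2 with
      ⟨h', -⟩ | ⟨h', e⟩ | ⟨h', -⟩ | ⟨h', -⟩ | ⟨h', -⟩ | ⟨h', -⟩
    case inr.inl => exact Subtype.ext e
    all_goals
      rw [h', Nat.cast_inj] at h
      omega
  · refine Eq.trans (congrArg Finset.card (Finset.ext fun χ => ?_)) (show
      (SL2Table.psSet (F := F)).card = (Fintype.card F - 3) / 2 by omega)
    simp only [Finset.mem_filter, Finset.mem_univ, true_and, SL2Table.psSet]
    refine ⟨fun h => ?_, fun ⟨α, _, e⟩ => by rw [e, SL2Principal.R_one, SL2TableValues.deg_add]⟩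
    rcases SL2TableValues.cases_odd d hg₀ χ.2 with
      ⟨h', -⟩ | ⟨h', -⟩ | ⟨h', e⟩ | ⟨h', -⟩ | ⟨h', -⟩ | ⟨h', -⟩
    case inr.inr.inl => exact e
    all_goals
      rw [h', Nat.cast_inj] at h
      omega
  · refine Eq.trans (congrArg Finset.card (Finset.ext fun χ => ?_)) (show
      (SL2Table.dsSet g₀).card = (Fintype.card F - 1) / 2 by omega)
    simp only [Finset.mem_filter, Finset.mem_univ, true_and, SL2Table.dsSet]
    refine ⟨fun h => ?_, fun ⟨θ, _, e⟩ => by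
      rw [e, SL2Cuspidal.cusp_one hg₀, SL2TableValues.deg_sub]⟩
    rcases SL2TableValues.cases_odd d hg₀ χ.2 with
      ⟨h', -⟩ | ⟨h', -⟩ | ⟨h', -⟩ | ⟨h', e⟩ | ⟨h', -⟩ | ⟨h', -⟩
    case inr.inr.inr.inl => exact e
    all_goals
      rw [h', Nat.cast_inj] at h
      omega
  · refine Finset.card_eq_two.2 ⟨d.ξ₁, d.ξ₂, d.ξ_ne, Finset.ext fun χ => ?_⟩
    simp only [Finset.mem_filter, Finset.mem_univ, true_and, Finset.mem_insert,
      Finset.mem_singleton]
    refine ⟨fun h => ?_, fun e => by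
      rcases e with e | e <;> rw [e]
      exacts [d.ξ₁_one, d.ξ₂_one]⟩
    rcases SL2TableValues.cases_odd d hg₀ χ.2 with
      ⟨h', -⟩ | ⟨h', -⟩ | ⟨h', -⟩ | ⟨h', -⟩ | ⟨h', e⟩ | ⟨h', -⟩
    case inr.inr.inr.inr.inl => exact e.imp Subtype.ext Subtype.ext
    all_goals
      rw [h', Nat.cast_inj] at h
      omega
  · refine Finset.card_eq_two.2 ⟨d.η₁, d.η₂, d.η_ne, Finset.ext fun χ => ?_⟩
    simp only [Finset.mem_filter, Finset.mem_univ, true_and, Finset.mem_insert,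
      Finset.mem_singleton]
    refine ⟨fun h => ?_, fun e => by
      rcases e with e | e <;> rw [e]
      exacts [d.η₁_one, d.η₂_one]⟩
    rcases SL2TableValues.cases_odd d hg₀ χ.2 with
      ⟨h', -⟩ | ⟨h', -⟩ | ⟨h', -⟩ | ⟨h', -⟩ | ⟨h', -⟩ | ⟨h', e⟩
    case inr.inr.inr.inr.inr => exact e.imp Subtype.ext Subtype.ext
    all_goals
      rw [h', Nat.cast_inj] at h
      omega

end Cfsg.Agent.S2299
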