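import Cfsg.Statements.S2301
import Cfsg.Agent.Lib.Classical.SL2Classes
import Mathlib.NumberTheory.LegendreSymbol.QuadraticChar.Basic
-- import your own Cfsg.Agent.* helpers here

set_option autoImplicit false
open Cfsg

namespace Cfsg.Agent.S2301

/-- Over a finite field with q elements of odd characteristic p, the elements of order p of SL₂ (the non-identity unipotent elements) fall into exactly two conjugacy classes, each of size (q² − 1)/2; two upper unitriangular matrices with non-zero off-diagonal entries b and b′ are conjugate exactly when bb′ is a square. -/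
theorem result {F : Type*} [Field F] [Fintype F] (p : ℕ) [Fact p.Prime] [CharP F p] (hp : p ≠ 2) :
    Nat.card {C : ConjClasses (Matrix.SpecialLinearGroup (Fin 2) F) // ∃ g : Matrix.SpecialLinearGroup (Fin 2) F, orderOf g = p ∧ ConjClasses.mk g = C} = 2 ∧
    (∀ g : Matrix.SpecialLinearGroup (Fin 2) F, orderOf g = p → Nat.card (ConjClasses.mk g).carrier = (Fintype.card F ^ 2 - 1) / 2) ∧
    ∀ g h : Matrix.SpecialLinearGroup (Fin 2) F, (g : Matrix (Fin 2) (Fin 2) F) 0 0 = 1 → (g : Matrix (Fin 2) (Fin 2) F) 1 1 = 1 → (g : Matrix (Fin 2) (Fin 2) F) 1 0 = 0 → (g : Matrix (Fin 2) (Fin 2) F) 0 1 ≠ 0 →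
      (h : Matrix (Fin 2) (Fin 2) F) 0 0 = 1 → (h : Matrix (Fin 2) (Fin 2) F) 1 1 = 1 → (h : Matrix (Fin 2) (Fin 2) F) 1 0 = 0 → (h : Matrix (Fin 2) (Fin 2) F) 0 1 ≠ 0 →
      (IsConj g h ↔ IsSquare ((g : Matrix (Fin 2) (Fin 2) F) 0 1 * (h : Matrix (Fin 2) (Fin 2) F) 0 1)) := by
  classical
  have h2 : (2 : F) ≠ 0 := by
    intro h
    have h' : ((2 : ℕ) : F) = 0 := by exact_mod_cast h
    exact hp ((Nat.prime_dvd_prime_iff_eq (Fact.out : p.Prime) Nat.prime_two).1
      ((CharP.cast_eq_zero_iff F p 2).1 h'))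
  refine ⟨?_, ?_, ?_⟩
  · obtain ⟨ν, hν⟩ := FiniteField.exists_nonsquare (F := F) (by rw [ringChar.eq F p]; exact hp)
    have hν0 : ν ≠ 0 := fun e => hν (e ▸ IsSquare.zero)
    let P := fun C : ConjClasses (Matrix.SpecialLinearGroup (Fin 2) F) =>
      ∃ g : Matrix.SpecialLinearGroup (Fin 2) F, orderOf g = p ∧ ConjClasses.mk g = C
    refine Nat.card_eq_two_iff.2
      ⟨(⟨ConjClasses.mk (Cfsg.Agent.SL2Classes.upper 1), _,
          Cfsg.Agent.SL2Classes.orderOf_upper p one_ne_zero, rfl⟩ : {C // P C}),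
       ⟨ConjClasses.mk (Cfsg.Agent.SL2Classes.upper ν), _,
          Cfsg.Agent.SL2Classes.orderOf_upper p hν0, rfl⟩, fun h => ?_, ?_⟩
    · have := (Cfsg.Agent.SL2Classes.isConj_upper_iff one_ne_zero hν0).1
        (ConjClasses.mk_eq_mk_iff_isConj.1 (congrArg Subtype.val h))
      rw [one_mul] at this
      exact hν this
    · refine Set.eq_univ_of_forall fun C => ?_
      obtain ⟨g, hg, hC⟩ := C.2
      obtain ⟨b, hb, hgb⟩ := Cfsg.Agent.SL2Classes.exists_conj_upper p g hg
      rw [ConjClasses.mk_eq_mk_iff_isConj.2 hgb] at hC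
      by_cases hsq : IsSquare b
      · refine Or.inl (Subtype.ext (hC.symm.trans (ConjClasses.mk_eq_mk_iff_isConj.2 ?_)))
        exact (Cfsg.Agent.SL2Classes.isConj_upper_iff hb one_ne_zero).2 (by rwa [mul_one])
      · refine Or.inr (Subtype.ext (hC.symm.trans (ConjClasses.mk_eq_mk_iff_isConj.2 ?_)))
        refine (Cfsg.Agent.SL2Classes.isConj_upper_iff hb hν0).2 ?_
        refine (quadraticChar_one_iff_isSquare (mul_ne_zero hb hν0)).1 ?_
        rw [map_mul, quadraticChar_neg_one_iff_not_isSquare.2 hsq,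
          quadraticChar_neg_one_iff_not_isSquare.2 hν]
        norm_num
  · intro g hg
    have := Cfsg.Agent.SL2Classes.card_carrier_order_p p g hg
    rw [Cfsg.Agent.SL2Classes.card_sq_one_odd h2, Nat.card_eq_fintype_card (α := F)] at this
    rw [← this, Nat.mul_div_cancel _ two_pos]
  · intro g h g00 g11 g10 g01 h00 h11 h10 h01
    rw [Cfsg.Agent.SL2Classes.eq_upper g g00 g11 g10, Cfsg.Agent.SL2Classes.eq_upper h h00 h11 h10,
      Cfsg.Agent.SL2Classes.isConj_upper_iff g01 h01]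
    simp

end Cfsg.Agent.S2301
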