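import Cfsg.Statements.S2307
import Cfsg.Agent.Lib.Classical.SL2TableValues
-- import your own Cfsg.Agent.* helpers here

set_option autoImplicit false
open Cfsg

namespace Cfsg.Agent.S2307

/-- Over a finite field F with q elements, q odd, let α be the multiplicative character of F of order 2. The character of SL₂ induced from the linear character b ↦ α(b₁₁) of the upper triangular subgroup is the sum of two distinct irreducible characters, each of degree (q + 1)/2, which are conjugate under GL₂: some fixed element of GL₂ conjugates the one into the other. -/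
theorem result {F : Type*} [Field F] [Fintype F] [DecidableEq F] (hodd : Odd (Fintype.card F)) (α : MulChar F ℂ)
    (hα : α ^ 2 = 1) (hα1 : α ≠ 1) :
    ∃ χ₁ χ₂ : Matrix.SpecialLinearGroup (Fin 2) F → ℂ, Cfsg.IsIrrCharacter (Matrix.SpecialLinearGroup (Fin 2) F) χ₁ ∧ Cfsg.IsIrrCharacter (Matrix.SpecialLinearGroup (Fin 2) F) χ₂ ∧ χ₁ ≠ χ₂ ∧
      Cfsg.indFun ((Cfsg.upperTriangularGL 2 F).comap Matrix.SpecialLinearGroup.toGL) (fun b => α (((b : Matrix.SpecialLinearGroup (Fin 2) F) : Matrix (Fin 2) (Fin 2) F) 0 0)) = χ₁ + χ₂ ∧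
      χ₁ 1 = (((Fintype.card F + 1) / 2 : ℕ) : ℂ) ∧ χ₂ 1 = (((Fintype.card F + 1) / 2 : ℕ) : ℂ) ∧
      ∃ x : Matrix.GeneralLinearGroup (Fin 2) F, ∀ g h : Matrix.SpecialLinearGroup (Fin 2) F,
        Matrix.SpecialLinearGroup.toGL h = x * Matrix.SpecialLinearGroup.toGL g * x⁻¹ → χ₂ h = χ₁ g := by
  obtain ⟨g₀, hg₀⟩ := SL2Tori.exists_noEigen (F := F)
  obtain ⟨ν, -, hcls⟩ := SL2Table.exists_classes hodd
  obtain ⟨d⟩ := SL2Table.exists_oddData hodd hg₀ hcls
  obtain rfl : α = d.α₀ := (d.α₀_uniq α hα).resolve_left hα1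
  refine ⟨d.ξ₁.1, d.ξ₂.1, d.ξ₁.2, d.ξ₂.2, fun e => d.ξ_ne (Subtype.ext e), d.ξ_sum, d.ξ₁_one,
    d.ξ₂_one, Matrix.GeneralLinearGroup.mkOfDetNeZero !![(ν : F), 0; 0, 1]
      (by simp [Matrix.det_fin_two_of]), fun g h hgh => ?_⟩
  have e : h = SL2Principal.tw ν g := by
    apply Subtype.ext
    have h1 : h.1 * (!![(ν : F), 0; 0, 1] : Matrix (Fin 2) (Fin 2) F) =
        !![(ν : F), 0; 0, 1] * g.1 := congrArg Units.val (eq_mul_inv_iff_mul_eq.1 hgh)
    have e00 := congrFun (congrFun h1 0) 0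
    have e01 := congrFun (congrFun h1 0) 1
    have e10 := congrFun (congrFun h1 1) 0
    have e11 := congrFun (congrFun h1 1) 1
    simp [Matrix.mul_apply, Fin.sum_univ_two] at e00 e01 e10 e11
    show h.1 = !![g.1 0 0, (ν : F) * g.1 0 1; ((ν⁻¹ : Fˣ) : F) * g.1 1 0, g.1 1 1]
    have hv : (ν : F) * (ν : F)⁻¹ = 1 := mul_inv_cancel₀ ν.ne_zero
    ext i j
    fin_cases i <;> fin_cases j <;> simp
    · exact mul_right_cancel₀ ν.ne_zero (e00.trans (mul_comm _ _))
    · exact e01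
    · linear_combination (ν : F)⁻¹ * e10 - h.1 1 0 * hv
    · exact e11
  rw [e, ← congrFun d.ξ_tw' g]

end Cfsg.Agent.S2307
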