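import Cfsg.Statements.S2308
import Cfsg.Agent.Lib.Classical.GL2Induced
-- import your own Cfsg.Agent.* helpers here

set_option autoImplicit false
open Cfsg

namespace Cfsg.Agent.S2308

/-- Values of the permutation character of GL₂ over a finite field F with q elements on the cosets of its upper triangular subgroup (equivalently, the number of lines of F² that an element maps to themselves): q + 1 at a scalar matrix, 2 at a diagonal matrix with two different diagonal entries, 0 at an element with no eigenvector in F², and 1 at an upper triangular matrix with equal diagonal entries and non-zero upper right entry. -/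
theorem result {F : Type*} [Field F] [Fintype F] (g : Matrix.GeneralLinearGroup (Fin 2) F) :
    ((∃ a : F, (g : Matrix (Fin 2) (Fin 2) F) = a • (1 : Matrix (Fin 2) (Fin 2) F)) → Cfsg.fixedPointCharacter (Cfsg.upperTriangularGL 2 F) g = Fintype.card F + 1) ∧
    ((g : Matrix (Fin 2) (Fin 2) F) 0 1 = 0 → (g : Matrix (Fin 2) (Fin 2) F) 1 0 = 0 → (g : Matrix (Fin 2) (Fin 2) F) 0 0 ≠ (g : Matrix (Fin 2) (Fin 2) F) 1 1 →
      Cfsg.fixedPointCharacter (Cfsg.upperTriangularGL 2 F) g = 2) ∧
    ((∀ (c : F) (v : Fin 2 → F), v ≠ 0 → (g : Matrix (Fin 2) (Fin 2) F).mulVec v ≠ c • v) → Cfsg.fixedPointCharacter (Cfsg.upperTriangularGL 2 F) g = 0) ∧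
    ((g : Matrix (Fin 2) (Fin 2) F) 1 0 = 0 → (g : Matrix (Fin 2) (Fin 2) F) 0 0 = (g : Matrix (Fin 2) (Fin 2) F) 1 1 → (g : Matrix (Fin 2) (Fin 2) F) 0 1 ≠ 0 →
      Cfsg.fixedPointCharacter (Cfsg.upperTriangularGL 2 F) g = 1) := by
  classical
  refine ⟨?_, ?_, ?_, ?_⟩
  · rintro ⟨a, ha⟩
    have hs : Cfsg.Agent.TwoByTwo.IsScalar g.1 := ha ▸ Cfsg.Agent.TwoByTwo.isScalar_smul_one a
    refine Cfsg.Agent.GL2Induced.fixedPoint_gl g (fun v => if v = 0 then 0 else 1) (by simp)
      (fun v hv => Cfsg.Agent.GL2Induced.scalar_spec (fun _ => 1) hs v hv) _ ?_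
    rw [Cfsg.Agent.GL2Induced.sum_nonzero]
    ring
  · intro h01 h10 hne
    refine Cfsg.Agent.GL2Induced.fixedPoint_gl g (fun v => if v 1 = 0 then (if v 0 = 0 then 0 else 1)
      else (if v 0 = 0 then 1 else 0)) (by simp)
      (fun v hv => Cfsg.Agent.GL2Induced.axes_spec_diag (fun _ => 1) h01 h10 hne v hv) _ ?_
    rw [Cfsg.Agent.GL2Induced.sum_axes]
    norm_num
  · intro h
    exact Cfsg.Agent.GL2Induced.fixedPoint_gl g (fun _ => 0) rfl
      (fun v hv => ⟨fun c hc => absurd hc (h c v hv), fun _ => rfl⟩) _ (by simp)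
  · intro h10 heq h01
    refine Cfsg.Agent.GL2Induced.fixedPoint_gl g (fun v => if v 1 = 0 then (if v 0 = 0 then 0 else 1)
      else (if v 0 = 0 then 0 else 0)) (by simp)
      (fun v hv => Cfsg.Agent.GL2Induced.axes_spec_jordan (fun _ => 1) h10 heq h01 v hv) _ ?_
    rw [Cfsg.Agent.GL2Induced.sum_axes]
    ring

end Cfsg.Agent.S2308
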