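import Cfsg.Statements.S2309
import Cfsg.Agent.Lib.Classical.GL2Chars
-- import your own Cfsg.Agent.* helpers here

set_option autoImplicit false
open Cfsg

namespace Cfsg.Agent.S2309

/-- Over a finite field F with q elements: every irreducible complex character of GL₂ of degree q − 1 vanishes at every diagonal matrix with two distinct entries, and every irreducible complex character of degree q + 1 vanishes at every element with no eigenvector in F². -/
theorem result {F : Type*} [Field F] [Fintype F] (χ : Matrix.GeneralLinearGroup (Fin 2) F → ℂ) (hχ : Cfsg.IsIrrCharacter (Matrix.GeneralLinearGroup (Fin 2) F) χ) (g : Matrix.GeneralLinearGroup (Fin 2) F) :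
    (χ 1 = (Fintype.card F : ℂ) - 1 → (g : Matrix (Fin 2) (Fin 2) F) 0 1 = 0 → (g : Matrix (Fin 2) (Fin 2) F) 1 0 = 0 → (g : Matrix (Fin 2) (Fin 2) F) 0 0 ≠ (g : Matrix (Fin 2) (Fin 2) F) 1 1 → χ g = 0) ∧
    (χ 1 = (Fintype.card F : ℂ) + 1 → (∀ (c : F) (v : Fin 2 → F), v ≠ 0 → (g : Matrix (Fin 2) (Fin 2) F).mulVec v ≠ c • v) → χ g = 0) := by
  classical
  haveI : Fintype (Matrix.GeneralLinearGroup (Fin 2) F) := Fintype.ofFinite _
  have hq := Fintype.one_lt_card (α := F)
  have hcf := Char.IsCharacter.isClassFunction (Char.IsIrrCharacter.isCharacter hχ)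
  refine ⟨fun hd h01 h10 hne => ?_, fun hd hg => ?_⟩
  · have hdet := g.det_ne_zero
    rw [Matrix.det_fin_two, h01, zero_mul, sub_zero, mul_ne_zero_iff] at hdet
    have hge : GL2Chars.gm (Units.mk0 _ hdet.1) (Units.mk0 _ hdet.2) 0 = g := Units.ext (by
      ext i j; fin_cases i <;> fin_cases j <;> simp [h01, h10])
    by_cases hq2 : Fintype.card F = 2
    · refine absurd ?_ hne
      have h1 : ∀ x : F, x ≠ 0 → x = 1 := fun x hx => by
        simpa [hq2] using FiniteField.pow_card_sub_one_eq_one x hx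
      rw [h1 _ hdet.1, h1 _ hdet.2]
    rcases GL2Chars.classify hχ with ⟨h', -⟩ | ⟨h', -⟩ | ⟨h', -⟩ | ⟨-, hc⟩
    case inr.inr.inr =>
      rw [← hge]
      exact GL2Chars.cusp_diag hcf hc (by simpa using hne) 0
    all_goals
      rw [hd, sub_eq_iff_eq_add] at h'
      exfalso
      norm_cast at h'
    all_goals omega
  · rcases GL2Chars.classify hχ with ⟨h', -⟩ | ⟨h', -⟩ | ⟨-, α, β, -, rfl⟩ | ⟨h', -⟩
    case inr.inr.inl => exact GL2Chars.R_noEigen α β hg
    all_goals
      rw [hd] at h'
      exfalso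
    · norm_cast at h'
      omega
    · norm_cast at h'
      omega
    · rw [eq_sub_iff_add_eq] at h'
      norm_cast at h'
      omega

end Cfsg.Agent.S2309
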