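import Cfsg.Statements.S2310
import Cfsg.Agent.Lib.Classical.GL2Chars
-- import your own Cfsg.Agent.* helpers here

set_option autoImplicit false
open Cfsg

namespace Cfsg.Agent.S2310

/-- Over a finite field F with q ≥ 3 elements, let u be the upper unitriangular matrix of GL₂ with off-diagonal entry 1. An irreducible complex character χ of GL₂ takes at u the value 1 if χ has degree 1 or q + 1, the value −1 if χ has degree q − 1, and the value 0 if χ has degree q. -/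
theorem result {F : Type*} [Field F] [Fintype F] (hq : 3 ≤ Fintype.card F) (χ : Matrix.GeneralLinearGroup (Fin 2) F → ℂ) (hχ : Cfsg.IsIrrCharacter (Matrix.GeneralLinearGroup (Fin 2) F) χ)
    (u : Matrix.GeneralLinearGroup (Fin 2) F) (hu : (u : Matrix (Fin 2) (Fin 2) F) = !![1, 1; 0, 1]) :
    (χ 1 = 1 → χ u = 1) ∧ (χ 1 = (Fintype.card F : ℂ) + 1 → χ u = 1) ∧
    (χ 1 = (Fintype.card F : ℂ) - 1 → χ u = -1) ∧ (χ 1 = (Fintype.card F : ℂ) → χ u = 0) := by
  classical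
  haveI : Fintype (Matrix.GeneralLinearGroup (Fin 2) F) := Fintype.ofFinite _
  have hcf := Char.IsCharacter.isClassFunction (Char.IsIrrCharacter.isCharacter hχ)
  obtain rfl : u = GL2Chars.gm 1 1 1 := Units.ext (by simp [hu])
  have key : (χ 1 = 1 ∧ χ (GL2Chars.gm 1 1 1) = 1) ∨
      (χ 1 = (Fintype.card F : ℂ) ∧ χ (GL2Chars.gm 1 1 1) = 0) ∨
      (χ 1 = (Fintype.card F : ℂ) + 1 ∧ χ (GL2Chars.gm 1 1 1) = 1) ∨
      (χ 1 = (Fintype.card F : ℂ) - 1 ∧ χ (GL2Chars.gm 1 1 1) = -1) := by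
    rcases GL2Chars.classify hχ with ⟨h, α, rfl⟩ | ⟨h, α, rfl⟩ | ⟨h, α, β, -, rfl⟩ | ⟨h, hc⟩
    · exact Or.inl ⟨h, by simp [GL2Chars.linC_gm]⟩
    · exact Or.inr (Or.inl ⟨h, by
        simp [GL2Chars.St, GL2Chars.R_jordan α α 1 one_ne_zero, GL2Chars.linC_gm]⟩)
    · exact Or.inr (Or.inr (Or.inl ⟨h, by rw [GL2Chars.R_jordan α β 1 one_ne_zero]; simp⟩))
    · exact Or.inr (Or.inr (Or.inr ⟨h, by
        rw [GL2Chars.cusp_unipotent hcf hc, h, div_self GL2Chars.q_sub_one_ne_zero]⟩))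
  refine ⟨fun h => ?_, fun h => ?_, fun h => ?_, fun h => ?_⟩ <;>
    rcases key with ⟨h', e⟩ | ⟨h', e⟩ | ⟨h', e⟩ | ⟨h', e⟩ <;>
    first
      | exact e
      | (exfalso; rw [h] at h'
         first
           | (norm_cast at h'; omega)
           | (rw [eq_sub_iff_add_eq] at h'; norm_cast at h'; omega)
           | (rw [sub_eq_iff_eq_add] at h'; norm_cast at h'; omega))

end Cfsg.Agent.S2310
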