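import Cfsg.Statements.S2316
import Cfsg.Agent.Lib.Classical.SympUnipotentCount
import Cfsg.Agent.Lib.Classical.Symplectic
-- import your own Cfsg.Agent.* helpers here

set_option autoImplicit false
open Cfsg

namespace Cfsg.Agent.S2316

/-- Steinberg's count of unipotent elements for the symplectic group: over a finite field with q elements of characteristic p, the number of elements of Sp_{2m} of p-power order is q^(2m²). -/
theorem result {F : Type*} [Field F] [Fintype F] (p : ℕ) [Fact p.Prime] [CharP F p] (m : ℕ) :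
    Nat.card {g : ↥(Matrix.symplecticGroup (Fin m) F) // ∃ k : ℕ, orderOf g = p ^ k} = Fintype.card F ^ (2 * m ^ 2) := by
  classical
  rcases Nat.eq_zero_or_pos m with rfl | hm
  · haveI : Subsingleton (Matrix (Fin 0 ⊕ Fin 0) (Fin 0 ⊕ Fin 0) F) := ⟨fun a b => Matrix.ext fun i => by
      rcases i with i | i <;> exact i.elim0⟩
    rw [show 2 * 0 ^ 2 = 0 from rfl, pow_zero, Nat.card_eq_one_iff_unique]
    exact ⟨⟨fun a b => Subtype.ext (Subtype.ext (Subsingleton.elim _ _))⟩, ⟨⟨1, 0, by simp⟩⟩⟩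
  haveI : Nonempty (Fin m ⊕ Fin m) := ⟨Sum.inl ⟨0, hm⟩⟩
  rw [← SympUnip.card_unip (ClassicalSp.spBilin_isAlt (m := m) (F := F)) ClassicalSp.spBilin_nondeg
    ClassicalSp.finrank_space]
  have key : ∀ g : Matrix.symplecticGroup (Fin m) F, (∃ k, orderOf g = p ^ k) ↔
      IsNilpotent (g.1 - 1) := by
    intro g
    have hk : ∀ k, (g.1 - 1) ^ p ^ k = 0 ↔ g ^ p ^ k = 1 := by
      intro k
      rw [sub_pow_char_pow_of_commute p k (Commute.one_right _), one_pow, sub_eq_zero, Subtype.ext_iff,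
        SubmonoidClass.coe_pow, OneMemClass.coe_one]
    constructor
    · rintro ⟨k, h⟩
      exact ⟨p ^ k, (hk k).2 (by rw [← h, pow_orderOf_eq_one])⟩
    · rintro ⟨j, hj⟩
      obtain ⟨k, -, e⟩ := (Nat.dvd_prime_pow Fact.out).1 (orderOf_dvd_of_pow_eq_one ((hk j).1
        (pow_eq_zero_of_le (Nat.lt_pow_self (Fact.out : p.Prime).one_lt).le hj)))
      exact ⟨k, e⟩
  have hmap : ∀ g : Matrix.symplecticGroup (Fin m) F, IsNilpotent (g.1 - 1) ↔
      IsNilpotent ((ClassicalSp.toEquiv g : (Fin m ⊕ Fin m → F) →ₗ[F] (Fin m ⊕ Fin m → F)) - 1) := by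
    intro g
    rw [show ((ClassicalSp.toEquiv g : (Fin m ⊕ Fin m → F) →ₗ[F] (Fin m ⊕ Fin m → F)) - 1) = Matrix.toLinAlgEquiv' (g.1 - 1) from
      LinearMap.ext fun x => by simp [Matrix.sub_mulVec]]
    exact (IsNilpotent.map_iff (f := Matrix.toLinAlgEquiv') (AlgEquiv.injective _)).symm
  refine Nat.card_eq_of_bijective
    (fun g => ⟨ClassicalSp.toEquiv g.1, ClassicalSp.toEquiv_mem g.1, (hmap g.1).1 ((key g.1).1 g.2)⟩) ⟨?_, ?_⟩
  · intro a b h
    exact Subtype.ext (ClassicalSp.toEquiv_injective (congrArg Subtype.val h))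
  · rintro ⟨f, hf, hn⟩
    obtain ⟨A, rfl⟩ := ClassicalSp.toEquiv_surj hf
    exact ⟨⟨A, (key A).2 ((hmap A).2 hn)⟩, rfl⟩


end Cfsg.Agent.S2316
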