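import Cfsg.Statements.S2320
import Cfsg.Agent.Lib.Classical.GL2Chars
-- import your own Cfsg.Agent.* helpers here

set_option autoImplicit false
open Cfsg

namespace Cfsg.Agent.S2320

/-- Over a finite field F with q elements, every irreducible complex character of GL₂ of degree q takes a value of absolute value 1 at every diagonal matrix with two different diagonal entries and at every element with no eigenvector in F². -/
theorem result {F : Type*} [Field F] [Fintype F] (χ : Matrix.GeneralLinearGroup (Fin 2) F → ℂ) (hχ : Cfsg.IsIrrCharacter (Matrix.GeneralLinearGroup (Fin 2) F) χ) (hdeg : χ 1 = (Fintype.card F : ℂ)) (g : Matrix.GeneralLinearGroup (Fin 2) F) :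
    ((g : Matrix (Fin 2) (Fin 2) F) 0 1 = 0 → (g : Matrix (Fin 2) (Fin 2) F) 1 0 = 0 → (g : Matrix (Fin 2) (Fin 2) F) 0 0 ≠ (g : Matrix (Fin 2) (Fin 2) F) 1 1 → ‖χ g‖ = 1) ∧
    ((∀ (c : F) (v : Fin 2 → F), v ≠ 0 → (g : Matrix (Fin 2) (Fin 2) F).mulVec v ≠ c • v) → ‖χ g‖ = 1) := by
  classical
  haveI : Fintype (Matrix.GeneralLinearGroup (Fin 2) F) := Fintype.ofFinite _
  have hq := Fintype.one_lt_card (α := F)
  rcases GL2Chars.classify hχ with ⟨h', -⟩ | ⟨-, α, rfl⟩ | ⟨h', -⟩ | ⟨h', -⟩
  case inr.inl =>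
    refine ⟨fun h01 h10 hne => ?_, fun hg => ?_⟩
    · have hdet := g.det_ne_zero
      have hd : g.1.det = g.1 0 0 * g.1 1 1 := by
        rw [Matrix.det_fin_two, h01, zero_mul, sub_zero]
      show ‖GL2Chars.R α α g - α g.1.det‖ = 1
      rw [GL2Chars.R_diag_entries α α g h01 h10 hne, hd, map_mul,
        mul_comm (α (g.1 1 1)), add_sub_cancel_right, ← map_mul, ← hd]
      exact CharTools.norm_mulChar α hdet
    · show ‖GL2Chars.R α α g - α g.1.det‖ = 1
      rw [GL2Chars.R_noEigen α α hg, zero_sub, norm_neg]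
      exact CharTools.norm_mulChar α g.det_ne_zero
  all_goals
    rw [hdeg] at h'
    exfalso
  · norm_cast at h'
    omega
  · norm_cast at h'
    omega
  · rw [eq_sub_iff_add_eq] at h'
    norm_cast at h'
    omega

end Cfsg.Agent.S2320
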