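import Cfsg.Statements.S2321
import Cfsg.Agent.Lib.Classical.SL2TableValues
-- import your own Cfsg.Agent.* helpers here

set_option autoImplicit false
open Cfsg

namespace Cfsg.Agent.S2321

/-- Over a finite field F with q elements, an irreducible complex character of SL₂ of degree q (the Steinberg character) takes the value 1 at every diagonal matrix whose diagonal entry a has a² ≠ 1, the value −1 at every element with no eigenvector in F², and the value 0 at every upper triangular matrix with equal diagonal entries and non-zero upper right entry. -/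
theorem result {F : Type*} [Field F] [Fintype F] (χ : Matrix.SpecialLinearGroup (Fin 2) F → ℂ) (hχ : Cfsg.IsIrrCharacter (Matrix.SpecialLinearGroup (Fin 2) F) χ) (hdeg : χ 1 = (Fintype.card F : ℂ)) (g : Matrix.SpecialLinearGroup (Fin 2) F) :
    ((g : Matrix (Fin 2) (Fin 2) F) 0 1 = 0 → (g : Matrix (Fin 2) (Fin 2) F) 1 0 = 0 → (g : Matrix (Fin 2) (Fin 2) F) 0 0 ^ 2 ≠ 1 → χ g = 1) ∧
    ((∀ (c : F) (v : Fin 2 → F), v ≠ 0 → (g : Matrix (Fin 2) (Fin 2) F).mulVec v ≠ c • v) → χ g = -1) ∧
    ((g : Matrix (Fin 2) (Fin 2) F) 1 0 = 0 → (g : Matrix (Fin 2) (Fin 2) F) 0 0 = (g : Matrix (Fin 2) (Fin 2) F) 1 1 → (g : Matrix (Fin 2) (Fin 2) F) 0 1 ≠ 0 → χ g = 0) := by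
  classical
  haveI : Fintype (Matrix.SpecialLinearGroup (Fin 2) F) := Fintype.ofFinite _
  obtain ⟨g₀, hg₀⟩ := SL2Tori.exists_noEigen (F := F)
  obtain rfl := (SL2TableValues.by_degree hg₀ hχ).1 hdeg
  refine ⟨fun h01 h10 h => ?_, fun hg => ?_, fun h10 he h01 => ?_⟩
  · obtain ⟨a, ha, -, rfl⟩ := SL2TableValues.exists_sm_diag h01 h10 h
    show SL2Principal.R 1 (SL2Principal.sm a 0) - 1 = 1
    rw [SL2Principal.R_sm_ne _ ha, MulChar.one_apply_coe, MulChar.one_apply_coe]
    norm_num
  · show SL2Principal.R 1 g - 1 = -1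
    rw [SL2Principal.R_noEigen _ hg]
    norm_num
  · have hd := g.det_coe
    rw [Matrix.det_fin_two, h10, ← he, mul_zero, sub_zero] at hd
    have ha : g.1 0 0 ≠ 0 := fun e => by simp [e] at hd
    have hinv : (Units.mk0 _ ha)⁻¹ = Units.mk0 _ ha :=
      inv_eq_of_mul_eq_one_right (Units.ext hd)
    have e : g = SL2Principal.sm (Units.mk0 _ ha) (g.1 0 1) := Subtype.ext (by
      ext i j
      fin_cases i <;> fin_cases j <;> simp [h10, ← he, -Units.val_inv_eq_inv_val, hinv])
    show SL2Principal.R 1 g - 1 = 0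
    rw [e, SL2Principal.R_jordan _ hinv h01, MulChar.one_apply_coe, sub_self]

end Cfsg.Agent.S2321
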