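import Cfsg.Statements.S2322
import Cfsg.Agent.Lib.Classical.SL2TableValues
-- import your own Cfsg.Agent.* helpers here

set_option autoImplicit false
open Cfsg

namespace Cfsg.Agent.S2322

/-- Over a finite field F with q elements, q odd: every irreducible complex character of SL₂ of degree q − 1 or (q − 1)/2 vanishes at every diagonal matrix whose diagonal entry a has a² ≠ 1, and every irreducible complex character of degree q + 1 or (q + 1)/2 vanishes at every element with no eigenvector in F². -/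
theorem result {F : Type*} [Field F] [Fintype F] (hodd : Odd (Fintype.card F)) (χ : Matrix.SpecialLinearGroup (Fin 2) F → ℂ) (hχ : Cfsg.IsIrrCharacter (Matrix.SpecialLinearGroup (Fin 2) F) χ) (g : Matrix.SpecialLinearGroup (Fin 2) F) :
    ((χ 1 = (Fintype.card F : ℂ) - 1 ∨ χ 1 = (((Fintype.card F - 1) / 2 : ℕ) : ℂ)) →
      (g : Matrix (Fin 2) (Fin 2) F) 0 1 = 0 → (g : Matrix (Fin 2) (Fin 2) F) 1 0 = 0 → (g : Matrix (Fin 2) (Fin 2) F) 0 0 ^ 2 ≠ 1 → χ g = 0) ∧
    ((χ 1 = (Fintype.card F : ℂ) + 1 ∨ χ 1 = (((Fintype.card F + 1) / 2 : ℕ) : ℂ)) →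
      (∀ (c : F) (v : Fin 2 → F), v ≠ 0 → (g : Matrix (Fin 2) (Fin 2) F).mulVec v ≠ c • v) → χ g = 0) := by
  classical
  haveI : Fintype (Matrix.SpecialLinearGroup (Fin 2) F) := Fintype.ofFinite _
  obtain ⟨g₀, hg₀⟩ := SL2Tori.exists_noEigen (F := F)
  obtain ⟨ν, -, hcls⟩ := SL2Table.exists_classes hodd
  obtain ⟨d⟩ := SL2Table.exists_oddData hodd hg₀ hcls
  have hq := Fintype.one_lt_card (α := F)
  rw [Nat.odd_iff] at hodd
  simp only [SL2TableValues.deg_add, SL2TableValues.deg_sub]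
  refine ⟨fun hd h01 h10 h => ?_, fun hd hg => ?_⟩
  · obtain ⟨a, ha, -, rfl⟩ := SL2TableValues.exists_sm_diag h01 h10 h
    have hq5 : Fintype.card F ≠ 3 := fun hq3 => ha (inv_eq_of_mul_eq_one_right (Units.ext (by
      have h3 := FiniteField.pow_card_sub_one_eq_one (a : F) a.ne_zero
      rw [hq3] at h3
      simpa [pow_two] using h3)))
    rcases SL2TableValues.cases_odd d hg₀ hχ with
      ⟨h', -⟩ | ⟨h', -⟩ | ⟨h', -⟩ | ⟨-, θ, -, rfl⟩ | ⟨h', -⟩ | ⟨-, e⟩
    case inr.inr.inr.inl => exact SL2Cuspidal.cusp_ne hg₀ θ ha 0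
    case inr.inr.inr.inr.inr =>
      rcases e with rfl | rfl
      exacts [(SL2TableValues.η_diag d ha 0).1, (SL2TableValues.η_diag d ha 0).2]
    all_goals
      rcases hd with hd | hd <;>
        · rw [hd, Nat.cast_inj] at h'
          omega
  · rcases SL2TableValues.cases_odd d hg₀ hχ with
      ⟨h', -⟩ | ⟨h', -⟩ | ⟨-, α, -, rfl⟩ | ⟨h', θ, hθ, rfl⟩ | ⟨-, e⟩ | ⟨h', -⟩
    case inr.inr.inl => exact SL2Principal.R_noEigen α hg
    case inr.inr.inr.inr.inl =>
      rcases e with rfl | rfl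
      exacts [(SL2TableValues.ξ_elliptic d hg).1, (SL2TableValues.ξ_elliptic d hg).2]
    case inr.inr.inr.inl =>
      have hq3 : Fintype.card F = 3 := by
        rcases hd with hd | hd <;>
          · rw [hd, Nat.cast_inj] at h'
            omega
      obtain ⟨c, hc, hgc⟩ := SL2TableValues.cusp_at_elliptic hg₀ θ hg
      rw [Char.isClassFunction_iff.1 (SL2Cuspidal.isClassFunction_cusp θ) _ _ hgc,
        SL2Cuspidal.cusp_elliptic hg₀ θ c hc, SL2TableValues.cusp_q_three hg₀ hq3 hθ hc, neg_zero]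
    all_goals
      rcases hd with hd | hd <;>
        · rw [hd, Nat.cast_inj] at h'
          omega

end Cfsg.Agent.S2322
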