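import Cfsg.Statements.S2323
import Cfsg.Agent.Lib.Classical.SL2TableValues
-- import your own Cfsg.Agent.* helpers here

set_option autoImplicit false
open Cfsg

namespace Cfsg.Agent.S2323

/-- Over a finite field F with q ≥ 4 elements, let u be the upper unitriangular matrix of SL₂ with off-diagonal entry 1. An irreducible complex character of SL₂ takes at u the value 1 if its degree is q + 1 and the value −1 if its degree is q − 1. -/
theorem result {F : Type*} [Field F] [Fintype F] (hq : 4 ≤ Fintype.card F) (χ : Matrix.SpecialLinearGroup (Fin 2) F → ℂ) (hχ : Cfsg.IsIrrCharacter (Matrix.SpecialLinearGroup (Fin 2) F) χ)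
    (u : Matrix.SpecialLinearGroup (Fin 2) F) (hu : (u : Matrix (Fin 2) (Fin 2) F) = !![1, 1; 0, 1]) :
    (χ 1 = (Fintype.card F : ℂ) + 1 → χ u = 1) ∧ (χ 1 = (Fintype.card F : ℂ) - 1 → χ u = -1) := by
  classical
  haveI : Fintype (Matrix.SpecialLinearGroup (Fin 2) F) := Fintype.ofFinite _
  obtain ⟨g₀, hg₀⟩ := SL2Tori.exists_noEigen (F := F)
  obtain rfl : u = SL2Principal.sm 1 1 := Subtype.ext (by simp [hu])
  refine ⟨fun h => ?_, fun h => ?_⟩
  · obtain ⟨α, -, rfl⟩ := (SL2TableValues.by_degree hg₀ hχ).2.1 h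
    rw [SL2Principal.R_jordan _ inv_one one_ne_zero, Units.val_one, map_one]
  · obtain ⟨θ, -, rfl⟩ := (SL2TableValues.by_degree hg₀ hχ).2.2 hq h
    rw [SL2Cuspidal.cusp_jordan hg₀ θ inv_one one_ne_zero,
      show SL2Cuspidal.zT g₀ ⟨1, inv_one⟩ = 1 from
        Subtype.ext (by rw [SL2Cuspidal.zT_coe, SL2Principal.sm_one]; rfl), map_one, Units.val_one]

end Cfsg.Agent.S2323
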