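import Cfsg.Statements.S2324
import Cfsg.Agent.Lib.Classical.SL2TableValues
-- import your own Cfsg.Agent.* helpers here

set_option autoImplicit false
open Cfsg

namespace Cfsg.Agent.S2324

/-- Over a finite field F with q elements, q odd and q ≥ 5, let u be the upper unitriangular matrix of SL₂ with off-diagonal entry 1 and let δ = (−1)^((q−1)/2). Every irreducible complex character χ of SL₂ of degree (q + 1)/2 satisfies (2χ(u) − 1)² = δq, and every irreducible complex character χ of degree (q − 1)/2 satisfies (2χ(u) + 1)² = δq; that is, χ(u) = (1 ± √(δq))/2 in the first case and χ(u) = (−1 ± √(δq))/2 in the second. Moreover two different irreducible characters of degree (q + 1)/2 take the two different values (their values at u add up to 1), and likewise for degree (q − 1)/2 (values adding up to −1). -/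
theorem result {F : Type*} [Field F] [Fintype F] (hodd : Odd (Fintype.card F)) (hq : 5 ≤ Fintype.card F)
    (u : Matrix.SpecialLinearGroup (Fin 2) F) (hu : (u : Matrix (Fin 2) (Fin 2) F) = !![1, 1; 0, 1]) :
    (∀ χ : Matrix.SpecialLinearGroup (Fin 2) F → ℂ, Cfsg.IsIrrCharacter (Matrix.SpecialLinearGroup (Fin 2) F) χ → χ 1 = (((Fintype.card F + 1) / 2 : ℕ) : ℂ) → (2 * χ u - 1) ^ 2 = (-1 : ℂ) ^ ((Fintype.card F - 1) / 2) * (Fintype.card F : ℂ)) ∧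
    (∀ χ : Matrix.SpecialLinearGroup (Fin 2) F → ℂ, Cfsg.IsIrrCharacter (Matrix.SpecialLinearGroup (Fin 2) F) χ → χ 1 = (((Fintype.card F - 1) / 2 : ℕ) : ℂ) → (2 * χ u + 1) ^ 2 = (-1 : ℂ) ^ ((Fintype.card F - 1) / 2) * (Fintype.card F : ℂ)) ∧
    (∀ χ₁ χ₂ : Matrix.SpecialLinearGroup (Fin 2) F → ℂ, Cfsg.IsIrrCharacter (Matrix.SpecialLinearGroup (Fin 2) F) χ₁ → Cfsg.IsIrrCharacter (Matrix.SpecialLinearGroup (Fin 2) F) χ₂ → χ₁ ≠ χ₂ →
      χ₁ 1 = (((Fintype.card F + 1) / 2 : ℕ) : ℂ) → χ₂ 1 = (((Fintype.card F + 1) / 2 : ℕ) : ℂ) → χ₁ u + χ₂ u = 1) ∧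
    (∀ χ₁ χ₂ : Matrix.SpecialLinearGroup (Fin 2) F → ℂ, Cfsg.IsIrrCharacter (Matrix.SpecialLinearGroup (Fin 2) F) χ₁ → Cfsg.IsIrrCharacter (Matrix.SpecialLinearGroup (Fin 2) F) χ₂ → χ₁ ≠ χ₂ →
      χ₁ 1 = (((Fintype.card F - 1) / 2 : ℕ) : ℂ) → χ₂ 1 = (((Fintype.card F - 1) / 2 : ℕ) : ℂ) → χ₁ u + χ₂ u = -1) := by
  classical
  haveI : Fintype (Matrix.SpecialLinearGroup (Fin 2) F) := Fintype.ofFinite _
  obtain ⟨g₀, hg₀⟩ := SL2Tori.exists_noEigen (F := F)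
  obtain ⟨ν, -, hcls⟩ := SL2Table.exists_classes hodd
  obtain ⟨d⟩ := SL2Table.exists_oddData hodd hg₀ hcls
  obtain rfl : u = SL2Principal.sm 1 1 := Subtype.ext (by simp [hu])
  have sξ := SL2TableValues.ξ_sum_u d
  have sη := SL2TableValues.η_sum_u d hg₀
  have pξ := SL2TableValues.pair_sq hodd hcls d.ξ_ne d.ξ_tw d.ξ_tw'
  have pη := SL2TableValues.pair_sq hodd hcls d.η_ne d.η_tw d.η_tw'
  have hξ : ∀ χ, Cfsg.IsIrrCharacter (Matrix.SpecialLinearGroup (Fin 2) F) χ →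
      χ 1 = (((Fintype.card F + 1) / 2 : ℕ) : ℂ) → χ = d.ξ₁.1 ∨ χ = d.ξ₂.1 := by
    intro χ hχ hd
    rw [Nat.odd_iff] at hodd
    rcases SL2TableValues.cases_odd d hg₀ hχ with
      ⟨h, -⟩ | ⟨h, -⟩ | ⟨h, -⟩ | ⟨h, -⟩ | ⟨h, e⟩ | ⟨h, -⟩
    case inr.inr.inr.inr.inl => exact e
    all_goals
      rw [hd, Nat.cast_inj] at h
      omega
  have hη : ∀ χ, Cfsg.IsIrrCharacter (Matrix.SpecialLinearGroup (Fin 2) F) χ →
      χ 1 = (((Fintype.card F - 1) / 2 : ℕ) : ℂ) → χ = d.η₁.1 ∨ χ = d.η₂.1 := by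
    intro χ hχ hd
    rw [Nat.odd_iff] at hodd
    rcases SL2TableValues.cases_odd d hg₀ hχ with
      ⟨h, -⟩ | ⟨h, -⟩ | ⟨h, -⟩ | ⟨h, -⟩ | ⟨h, -⟩ | ⟨h, e⟩
    case inr.inr.inr.inr.inr => exact e
    all_goals
      rw [hd, Nat.cast_inj] at h
      omega
  refine ⟨fun χ hχ h => ?_, fun χ hχ h => ?_, fun χ₁ χ₂ h₁ h₂ hne e₁ e₂ => ?_,
    fun χ₁ χ₂ h₁ h₂ hne e₁ e₂ => ?_⟩
  · rcases hξ χ hχ h with rfl | rfl
    · rw [← pξ, show d.ξ₂.1 (SL2Principal.sm 1 1) = 1 - d.ξ₁.1 (SL2Principal.sm 1 1) by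
        linear_combination sξ]
      ring
    · rw [← pξ, show d.ξ₁.1 (SL2Principal.sm 1 1) = 1 - d.ξ₂.1 (SL2Principal.sm 1 1) by
        linear_combination sξ]
      ring
  · rcases hη χ hχ h with rfl | rfl
    · rw [← pη, show d.η₂.1 (SL2Principal.sm 1 1) = -1 - d.η₁.1 (SL2Principal.sm 1 1) by
        linear_combination sη]
      ring
    · rw [← pη, show d.η₁.1 (SL2Principal.sm 1 1) = -1 - d.η₂.1 (SL2Principal.sm 1 1) by
        linear_combination sη]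
      ring
  · rcases hξ χ₁ h₁ e₁ with rfl | rfl <;> rcases hξ χ₂ h₂ e₂ with rfl | rfl
    exacts [absurd rfl hne, sξ, (add_comm _ _).trans sξ, absurd rfl hne]
  · rcases hη χ₁ h₁ e₁ with rfl | rfl <;> rcases hη χ₂ h₂ e₂ with rfl | rfl
    exacts [absurd rfl hne, sη, (add_comm _ _).trans sη, absurd rfl hne]

end Cfsg.Agent.S2324
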