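import Cfsg.Statements.S2329
import Cfsg.Agent.Lib.Classical.GL2Count
-- import your own Cfsg.Agent.* helpers here

set_option autoImplicit false
open Cfsg

namespace Cfsg.Agent.S2329

/-- Over a finite field of characteristic p, any two elements of order p of GL₂ are conjugate: there is a single conjugacy class of non-identity unipotent elements. -/
theorem result {F : Type*} [Field F] [Fintype F] (p : ℕ) [Fact p.Prime] [CharP F p] (g h : Matrix.GeneralLinearGroup (Fin 2) F)
    (hg : orderOf g = p) (hh : orderOf h = p) : IsConj g h := by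
  have key : ∀ x : Matrix.GeneralLinearGroup (Fin 2) F, orderOf x = p →
      x.1.trace = 2 ∧ x.1.det = 1 ∧ ¬ Cfsg.Agent.TwoByTwo.IsScalar x.1 := by
    intro x hx
    refine Cfsg.Agent.GL2Count.trace_det_of_pow_char p ?_ ?_
    · rw [← hx, ← Units.val_pow_eq_pow_val, pow_orderOf_eq_one, Units.val_one]
    · intro e
      have : x = 1 := Units.ext e
      rw [this, orderOf_one] at hx
      exact (Fact.out : p.Prime).one_lt.ne hx
  obtain ⟨a1, a2, a3⟩ := key g hg
  obtain ⟨b1, b2, b3⟩ := key h hh
  exact (Cfsg.Agent.TwoByTwo.isConj_gl_iff g h).2 ⟨a1.trans b1.symm, a2.trans b2.symm, by simp [a3, b3]⟩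

end Cfsg.Agent.S2329
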