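import Cfsg.Statements.S2333
import Cfsg.Agent.Lib.MinDegree.SympEven

set_option autoImplicit false
open Cfsg

namespace Cfsg.Agent.S2333

/-- For a finite field F of even order q and n ≥ 2 with (n, q) ≠ (2, 2), every irreducible complex representation of the symplectic group Sp_{2n}(F) of degree at least 2 has degree at least (q^n − 1)(q^n − q)/(2(q + 1)). -/
theorem result {F : Type*} [Field F] [Fintype F] [DecidableEq F] (n : ℕ) (hn : 2 ≤ n) (heven : Even (Fintype.card F)) (hex : (n, Fintype.card F) ≠ (2, 2)) :
    (∀ (k : ℕ) (ρ : Representation ℂ (Matrix.symplecticGroup (Fin n) F) (Fin k → ℂ)), ρ.IsIrreducible → 2 ≤ k → (Fintype.card F ^ n - 1) * (Fintype.card F ^ n - Fintype.card F) / (2 * (Fintype.card F + 1)) ≤ k) := by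
  intro k ρ hirr hk
  have hch : ringChar F = 2 := by
    by_contra h2
    have := FiniteField.odd_card_of_char_ne_two h2
    rw [Nat.even_iff] at heven
    omega
  haveI : CharP F 2 := hch ▸ ringChar.charP F
  have hq : n = 2 → 3 ≤ Nat.card F := fun h => by
    rw [Nat.card_eq_fintype_card]
    have h2 : 2 ≤ Fintype.card F := Fintype.one_lt_card
    rcases h2.lt_or_eq with h3 | h3
    · omega
    · exact absurd (Prod.ext h h3.symm) hex
  have hne : ∃ g, ρ g ≠ 1 := by
    by_contra hall
    push Not at hall
    let x : Fin k → ℂ := Pi.single ⟨0, by omega⟩ 1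
    let S : Subrepresentation ρ :=
      { toSubmodule := Submodule.span ℂ {x}
        apply_mem_toSubmodule := fun g v hv => by rw [hall g]; exact hv }
    haveI := hirr
    have h1 : x ≠ 0 := fun hx => by
      have := congrFun hx ⟨0, by omega⟩
      simp [x] at this
    rcases IsSimpleOrder.eq_bot_or_eq_top S with h | h
    · have h' : Submodule.span ℂ {x} = ⊥ := congrArg Subrepresentation.toSubmodule h
      rw [Submodule.span_singleton_eq_bot] at h'
      exact h1 h'
    · have h' : Submodule.span ℂ {x} = ⊤ := congrArg Subrepresentation.toSubmodule h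
      have h2 := finrank_span_singleton (K := ℂ) h1
      rw [h', finrank_top, Module.finrank_pi, Fintype.card_fin] at h2
      omega
  exact Nat.div_le_of_le_mul (Cfsg.Agent.SympEvenDeg.le_degree hn hq ρ hne)

end Cfsg.Agent.S2333
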