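import Cfsg.Statements.S2337
import Cfsg.Agent.Lib.Rep.SzDegree
import Cfsg.Agent.Lib.Suzuki.Minor
-- import your own Cfsg.Agent.* helpers here

set_option autoImplicit false
open Cfsg

namespace Cfsg.Agent.S2337

/-- For the Suzuki group Sz(q), q = 2^(2m+1) with m ≥ 1 (realised inside Sp₄ over the field with q elements), every irreducible complex representation of degree at least 2 has degree at least 2^m·(q − 1). -/
theorem result {F : Type*} [Field F] [Fintype F] (m : ℕ) (hm : 1 ≤ m) (hF : Fintype.card F = 2 ^ (2 * m + 1)) :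
    (∀ (k : ℕ) (ρ : Representation ℂ (Cfsg.Lie.Sz F (2 ^ (m + 1))) (Fin k → ℂ)), ρ.IsIrreducible → 2 ≤ k → 2 ^ m * (2 ^ (2 * m + 1) - 1) ≤ k) := by
  intro k ρ hirr hk
  have h : Cfsg.Agent.Suzuki.SzField F m := ⟨hm, hF⟩
  let e := Cfsg.Agent.Suzuki.minorEquiv h
  have hsimple := Cfsg.Agent.Suzuki.isSimple h
  let σ : Cfsg.Sz F m →* GL (Fin k) ℂ :=
    (((LinearMap.toMatrixAlgEquiv' (R := ℂ) (n := Fin k)).toMonoidHom).comp (ρ.comp e.toMonoidHom)).toHomUnits
  refine Cfsg.Agent.SzDegree.bound h σ ((MonoidHom.ker_eq_bot_iff σ).1 ?_)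
  refine (hsimple.eq_bot_or_eq_top_of_normal σ.ker inferInstance).resolve_right fun htop => ?_
  have htriv : ∀ g, ρ g = 1 := fun g => by
    have h1 : σ (e.symm g) = 1 := MonoidHom.mem_ker.1 (htop ▸ Subgroup.mem_top _)
    have h2 := congrArg Units.val h1
    simp only [σ, MonoidHom.coe_toHomUnits, MonoidHom.coe_comp, Function.comp_apply, Units.val_one] at h2
    apply (LinearMap.toMatrixAlgEquiv' (R := ℂ) (n := Fin k)).injective
    rw [map_one, ← h2]
    simp
  let z : Fin k := ⟨0, by omega⟩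
  let W : Subrepresentation ρ :=
    { toSubmodule := Submodule.span ℂ {Pi.single z (1 : ℂ)}
      apply_mem_toSubmodule := fun g v hv => by rwa [htriv g] }
  have := hirr
  rcases eq_bot_or_eq_top W with hW | hW
  · have h1 : (Pi.single z 1 : Fin k → ℂ) ∈ W.toSubmodule := Submodule.mem_span_singleton_self _
    rw [hW] at h1
    have h2 := congrFun ((Submodule.mem_bot ℂ).1 h1) z
    simp at h2
  · have h1 : Submodule.span ℂ {(Pi.single z 1 : Fin k → ℂ)} = ⊤ := congrArg Subrepresentation.toSubmodule hW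
    have h2 := finrank_span_le_card (R := ℂ) ({Pi.single z 1} : Set (Fin k → ℂ))
    rw [h1, finrank_top, Module.finrank_fin_fun, Set.toFinset_singleton, Finset.card_singleton] at h2
    omega

end Cfsg.Agent.S2337
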