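import Cfsg.Statements.S2344
import Cfsg.Agent.Lib.OrthDeg.Std
-- import your own Cfsg.Agent.* helpers here

set_option autoImplicit false
open Cfsg

namespace Cfsg.Agent.S2344

open Cfsg.Agent Matrix

set_option maxHeartbeats 1600000 in
/-- For a finite field F of odd order q > 3 and n ≥ 3, every irreducible complex representation of degree at least 2 of Ω_{2n+1}(F) (the commutator subgroup of the isometry group of the quadratic form x₀² + x₁y₁ + ⋯ + x_ny_n) has degree at least (q^{2n} − 1)/(q² − 1). -/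
theorem result {F : Type*} [Field F] [Fintype F] (n : ℕ) (hn : 3 ≤ n) (hodd : Odd (Fintype.card F)) (h3 : 3 < Fintype.card F) :
    (∀ (k : ℕ) (ρ : Representation ℂ (Cfsg.Omega F (Cfsg.quadFormOdd n F)) (Fin k → ℂ)), ρ.IsIrreducible → 2 ≤ k → (Fintype.card F ^ (2 * n) - 1) / (Fintype.card F ^ 2 - 1) ≤ k) := by
  intro k ρ hρ hk
  rw [OrthDeg.closed_odd (Fintype.card F) n (by omega), ← Nat.card_eq_fintype_card]
  revert ρ
  rw [← Orth.coe_qOdd]
  intro ρ hρ
  have hq : 5 ≤ Nat.card F := by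
    rw [Nat.card_eq_fintype_card]; rcases hodd with ⟨t, ht⟩; omega
  have ho : Odd (Nat.card F) := by rwa [Nat.card_eq_fintype_card]
  obtain ⟨i, rfl⟩ : ∃ i, n = i + 2 := ⟨n - 2, by omega⟩
  exact OrthDeg.bound_of_low (Orth.qOdd_nondeg (OrthDeg.two_ne_of_odd ho) _) (OrthDeg.hasType_qOdd _)
    (OrthDeg.low_odd hq ho i (by omega)) k ρ hρ hk

end Cfsg.Agent.S2344
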