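import Cfsg.Statements.S2345
import Cfsg.Agent.Lib.OrthDeg.Std
-- import your own Cfsg.Agent.* helpers here

set_option autoImplicit false
open Cfsg

namespace Cfsg.Agent.S2345

open Cfsg.Agent Matrix

set_option maxHeartbeats 1600000 in
/-- For a finite field F with q > 3 elements and n ≥ 4, every irreducible complex representation of degree at least 2 of Ω⁺_{2n}(F) (the commutator subgroup of the isometry group of the hyperbolic quadratic form x₁y₁ + ⋯ + x_ny_n) has degree at least (q^n − 1)(q^{n−1} + q)/(q² − 1). -/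
theorem result {F : Type*} [Field F] [Fintype F] (n : ℕ) (hn : 4 ≤ n) (h3 : 3 < Fintype.card F) :
    (∀ (k : ℕ) (ρ : Representation ℂ (Cfsg.Omega F (Cfsg.quadFormPlus n F)) (Fin k → ℂ)), ρ.IsIrreducible → 2 ≤ k → (Fintype.card F ^ n - 1) * (Fintype.card F ^ (n - 1) + Fintype.card F) / (Fintype.card F ^ 2 - 1) ≤ k) := by
  intro k ρ hρ hk
  rw [OrthDeg.closed_plus (Fintype.card F) n (by omega) (by omega), ← Nat.card_eq_fintype_card]
  revert ρ
  rw [← Orth.coe_qPlus]
  intro ρ hρ
  have hq : 4 ≤ Nat.card F := by rw [Nat.card_eq_fintype_card]; omega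
  obtain ⟨i, rfl⟩ : ∃ i, n = i + 2 := ⟨n - 2, by omega⟩
  exact OrthDeg.bound_of_low (Orth.qPlus_nondeg _) (OrthDeg.hasType_qPlus _ (by omega))
    (OrthDeg.low_plus hq i (by omega)) k ρ hρ hk

end Cfsg.Agent.S2345
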