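import Cfsg.Statements.S2347
import Cfsg.Agent.Lib.MinDegree.WeilRep

set_option autoImplicit false
open Cfsg

namespace Cfsg.Agent.S2347

/-- Smallest degree of a non-linear irreducible complex representation of the symplectic group Sp_{2n} over a finite field of odd order q, n ≥ 2: every irreducible complex representation of degree at least 2 has degree at least (q^n − 1)/2, and there is an irreducible complex representation of exactly that degree (a Weil representation). -/
theorem result {F : Type*} [Field F] [Fintype F] [DecidableEq F] (n : ℕ) (hn : 2 ≤ n) (hodd : Odd (Fintype.card F)) :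
    (∀ (k : ℕ) (ρ : Representation ℂ (Matrix.symplecticGroup (Fin n) F) (Fin k → ℂ)), ρ.IsIrreducible → 2 ≤ k → (Fintype.card F ^ n - 1) / 2 ≤ k) ∧
    (∃ ρ : Representation ℂ (Matrix.symplecticGroup (Fin n) F) (Fin ((Fintype.card F ^ n - 1) / 2) → ℂ), ρ.IsIrreducible) := by
  have h2 : (2 : F) ≠ 0 := by
    refine Ring.two_ne_zero fun h => ?_
    have h' := FiniteField.even_card_of_char_two h
    rw [Nat.odd_iff] at hodd
    omega
  obtain ⟨ψ, hψ⟩ := Cfsg.Agent.AbelianOrbit.exists_addChar F ℂ (Nat.cast_ne_zero.2 Fintype.card_ne_zero)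
  refine ⟨fun k ρ hirr hk => ?_, Cfsg.Agent.WeilRep.exists_irreducible ψ h2 hψ hn⟩
  have hne : ∃ g, ρ g ≠ 1 := by
    by_contra hall
    push Not at hall
    let x : Fin k → ℂ := Pi.single ⟨0, by omega⟩ 1
    let S : Subrepresentation ρ :=
      { toSubmodule := Submodule.span ℂ {x}
        apply_mem_toSubmodule := fun g v hv => by rw [hall g]; exact hv }
    haveI := hirr
    have h1 : x ≠ 0 := fun hx => by
      have := congrFun hx ⟨0, by omega⟩
      simp [x] at this
    rcases IsSimpleOrder.eq_bot_or_eq_top S with h | h
    · have h' : Submodule.span ℂ {x} = ⊥ := congrArg Subrepresentation.toSubmodule h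
      rw [Submodule.span_singleton_eq_bot] at h'
      exact h1 h'
    · have h' : Submodule.span ℂ {x} = ⊤ := congrArg Subrepresentation.toSubmodule h
      have h3 := finrank_span_singleton (K := ℂ) h1
      rw [h', finrank_top, Module.finrank_pi, Fintype.card_fin] at h3
      omega
  have h := Cfsg.Agent.SympOddDeg.le_degree h2 hn ρ hne
  rw [Module.finrank_pi, Fintype.card_fin] at h
  omega

end Cfsg.Agent.S2347
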