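import Cfsg.Statements.S2354
import Cfsg.Agent.Lib.Laws.Suzuki
-- import your own Cfsg.Agent.* helpers here

set_option autoImplicit false
open Cfsg

namespace Cfsg.Agent.S2354

/-- A non-trivial law holds in only finitely many Suzuki groups: for every non-trivial element w of the free group on countably many generators there is N such that for q = 2^(2m+1) with m ≥ N some substitution of elements of the Suzuki group over the field with q elements into w is not the identity. -/
theorem result (w : FreeGroup ℕ) (hw : w ≠ 1) :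
    ∃ N : ℕ, ∀ (F : Type*) [Field F] [Fintype F] (m : ℕ), 1 ≤ m → N ≤ m →
      Fintype.card F = 2 ^ (2 * m + 1) →
      ∃ f : ℕ → ↥(Cfsg.Lie.Sz F (2 ^ (m + 1))), FreeGroup.lift f w ≠ 1 := by
  refine ⟨Cfsg.Agent.Laws.wordBound w, fun F _ _ m _ hNm hF => ?_⟩
  have : CharP F 2 := by
    obtain ⟨p, hc, ⟨n, hn⟩, hp, h⟩ := FiniteField.card' F
    have hdvd : p ∣ 2 ^ (2 * m + 1) := by rw [← hF, h]; exact dvd_pow_self p hn.ne'
    rwa [← (Nat.prime_dvd_prime_iff_eq hp Nat.prime_two).1 (hp.dvd_of_dvd_pow hdvd)]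
  exact Cfsg.Agent.Laws.exists_Sz_value hF w hw (lt_of_le_of_lt hNm Nat.lt_two_pow_self)

end Cfsg.Agent.S2354
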