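import Cfsg.Statements.S2355
import Cfsg.Agent.Lib.Laws.Unitary
-- import your own Cfsg.Agent.* helpers here

set_option autoImplicit false
open Cfsg

namespace Cfsg.Agent.S2355

/-- A non-trivial law is satisfied by only finitely many finite simple groups that are alternating or classical, up to isomorphism: for every non-trivial element w of the free group on countably many generators there is a bound N such that every alternating group of degree ≥ 5 and every simple classical group (linear, symplectic, unitary or orthogonal, in this problem's sense) in which w is a law has order at most N. -/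
theorem result (w : FreeGroup ℕ) (hw : w ≠ 1) :
    ∃ N : ℕ, ∀ (G : Type*) [Group G] [Finite G],
      (Cfsg.IsAlternating G ∨ Cfsg.IsPSL G ∨ Cfsg.IsPSp G ∨ Cfsg.IsPSU G ∨ Cfsg.IsPOmegaOdd G ∨
          Cfsg.IsPOmegaPlus G ∨ Cfsg.IsPOmegaMinus G) →
      (∀ f : ℕ → G, FreeGroup.lift f w = 1) → Nat.card G ≤ N := by
  obtain ⟨N₀, hN₀, hAlt⟩ := Cfsg.Agent.Laws.exists_alternating_value w hw
  refine ⟨max (Nat.factorial N₀)
    (((Cfsg.Agent.Laws.wordBound w + 6) ^ 2) ^ ((2 * N₀ + 3) ^ 2)), fun G _ _ hG hlaw => ?_⟩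
  have transfer : ∀ {H : Type} [Group H], (G ≃* H ⧸ Subgroup.center H) → ¬ Cfsg.Agent.Laws.NoLaw w H := by
    intro H _ e ⟨g, hg⟩
    apply hg
    have he : (FreeGroup.lift fun i => e.symm (g i)) = e.symm.toMonoidHom.comp (FreeGroup.lift g) := by
      ext i; simp
    have := hlaw fun i => e.symm (g i)
    rw [he] at this
    exact e.symm.injective (this.trans (map_one _).symm)
  -- orders of the small cases
  have small : ∀ {F : Type} [Field F] [Fintype F] {ι : Type} [Fintype ι] {H : Type} [Group H]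
      (e : G ≃* H ⧸ Subgroup.center H) (φ : H → Matrix ι ι F) (_ : Function.Injective φ),
      Fintype.card F ≤ (Cfsg.Agent.Laws.wordBound w + 6) ^ 2 → Fintype.card ι ≤ 2 * N₀ + 3 →
      Nat.card G ≤ max (Nat.factorial N₀)
        (((Cfsg.Agent.Laws.wordBound w + 6) ^ 2) ^ ((2 * N₀ + 3) ^ 2)) := by
    intro F _ _ ι _ H _ e φ hφ hF hι
    classical
    have : Finite H := Finite.of_injective φ hφ
    refine le_trans ?_ (le_max_right _ _)
    calc Nat.card G = Nat.card (H ⧸ Subgroup.center H) := Nat.card_congr e.toEquiv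
      _ ≤ Nat.card H := Nat.card_le_card_of_surjective _ QuotientGroup.mk_surjective
      _ ≤ Nat.card (Matrix ι ι F) := Nat.card_le_card_of_injective φ hφ
      _ = Fintype.card F ^ (Fintype.card ι ^ 2) := by
        simp [Matrix, Nat.card_eq_fintype_card, ← pow_mul, sq]
      _ ≤ ((Cfsg.Agent.Laws.wordBound w + 6) ^ 2) ^ (Fintype.card ι ^ 2) := Nat.pow_le_pow_left hF _
      _ ≤ _ := Nat.pow_le_pow_right (by positivity) (Nat.pow_le_pow_left hι _)
  have cases' : ∀ (F : Type) [Fintype F] (m : ℕ), Cfsg.Agent.Laws.IsBig w m N₀ F ∨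
      (m ≤ N₀ ∧ Fintype.card F ≤ (Cfsg.Agent.Laws.wordBound w + 6) ^ 2) := by
    intro F _ m
    by_cases h1 : N₀ ≤ m
    · exact Or.inl (Or.inl ⟨h1, hN₀, hAlt⟩)
    by_cases h2 : Cfsg.Agent.Laws.wordBound w + 4 ≤ Fintype.card F
    · exact Or.inl (Or.inr h2)
    · exact Or.inr ⟨by omega, by nlinarith⟩
  rcases hG with ⟨n, hn, ⟨e⟩⟩ | ⟨F, _, _, n, hn, -, ⟨e⟩⟩ | ⟨F, _, _, m, hm, -, ⟨e⟩⟩ |
    ⟨F, _, _, n, q, hF, hn, -, ⟨e⟩⟩ | ⟨F, _, _, m, hm, -, ⟨e⟩⟩ | ⟨F, _, _, m, hm, ⟨e⟩⟩ |
    ⟨F, _, _, m, a, b, hm, -, ⟨e⟩⟩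
  · -- alternating
    by_cases h : N₀ ≤ n
    · obtain ⟨f, hf⟩ := hAlt n h
      refine absurd ?_ hf
      have he : (FreeGroup.lift fun i => e.symm (f i)) = e.symm.toMonoidHom.comp (FreeGroup.lift f) := by
        ext i; simp
      have := hlaw fun i => e.symm (f i)
      rw [he] at this
      exact e.symm.injective (this.trans (map_one _).symm)
    · refine le_trans ?_ (le_max_left _ _)
      calc Nat.card G = Nat.card (alternatingGroup (Fin n)) := Nat.card_congr e.toEquiv
        _ ≤ Nat.card (Equiv.Perm (Fin n)) := Nat.card_le_card_of_injective _ Subtype.val_injective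
        _ = n.factorial := by rw [Nat.card_perm, Nat.card_fin]
        _ ≤ _ := Nat.factorial_le (by omega)
  · rcases cases' F n with hb | ⟨h1, h2⟩
    · exact absurd (Cfsg.Agent.Laws.noLaw_full hw hn hb (MonoidHom.id _) Function.injective_id) (transfer e)
    · exact small e (fun g => g.1) Subtype.val_injective h2 (by rw [Fintype.card_fin]; omega)
  · rcases cases' F m with hb | ⟨h1, h2⟩
    · exact absurd (Cfsg.Agent.Laws.noLaw_full hw hm hb (Cfsg.Agent.Laws.toSp F m)
        (Cfsg.Agent.Laws.toSp_injective m)) (transfer e)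
    · exact small e (fun g => g.1) Subtype.val_injective h2 (by simp; omega)
  · obtain ⟨σ, hσ, -, -⟩ := Cfsg.Agent.Laws.exists_frobenius hF
    by_cases h1 : N₀ ≤ n
    · exact absurd (Cfsg.Agent.Laws.noLaw_SU_of_alt σ hσ w hN₀ h1 hAlt) (transfer e)
    by_cases h2 : Cfsg.Agent.Laws.wordBound w + 5 ≤ q
    · exact absurd (Cfsg.Agent.Laws.noLaw_SU_of_card (by omega) hF w hw h2) (transfer e)
    · exact small e (fun g => g.1.1) (Subtype.val_injective.comp Subtype.val_injective)
        (by rw [hF]; exact Nat.pow_le_pow_left (show q ≤ Cfsg.Agent.Laws.wordBound w + 6 by omega) 2) (by rw [Fintype.card_fin]; omega)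
  · rcases cases' F m with hb | ⟨h1, h2⟩
    · exact absurd (Cfsg.Agent.Laws.noLaw_comm hw (by omega) hb
        (Cfsg.Agent.Laws.toIsometry (Cfsg.quadFormOdd m F) (Cfsg.Agent.Laws.oddHom F m) (fun g v => by
          simp only [Cfsg.quadFormOdd, Cfsg.Agent.Laws.oddHom, MonoidHom.coe_mk, OneHom.coe_mk,
            Matrix.fromBlocks_mulVec, Matrix.one_mulVec, Matrix.zero_mulVec, add_zero, zero_add,
            Sum.elim_inl, Sum.elim_inr, Function.comp_apply]
          congr 1
          exact Cfsg.Agent.Laws.dualPair_dot m g (v ∘ Sum.inr)))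
        (Cfsg.Agent.Laws.toIsometry_injective _ _ _ (fun g h e =>
          Cfsg.Agent.Laws.dualPair_injective m (Matrix.fromBlocks_inj.1 e).2.2.2))) (transfer e)
    · exact small e (fun g => g.1.1.1)
        (fun g h e => Subtype.ext (Subtype.ext (Units.ext e))) h2 (by simp; omega)
  · rcases cases' F m with hb | ⟨h1, h2⟩
    · exact absurd (Cfsg.Agent.Laws.noLaw_comm hw (by omega) hb
        (Cfsg.Agent.Laws.toIsometry (Cfsg.quadFormPlus m F) (Cfsg.Agent.Laws.dualPair F m) (fun g v =>
          Cfsg.Agent.Laws.dualPair_dot m g v))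
        (Cfsg.Agent.Laws.toIsometry_injective _ _ _ (Cfsg.Agent.Laws.dualPair_injective m))) (transfer e)
    · exact small e (fun g => g.1.1.1)
        (fun g h e => Subtype.ext (Subtype.ext (Units.ext e))) h2 (by simp; omega)
  · rcases cases' F (m - 1) with hb | ⟨h1, h2⟩
    · exact absurd (Cfsg.Agent.Laws.noLaw_comm hw (by omega) hb
        (Cfsg.Agent.Laws.toIsometry (Cfsg.quadFormMinus (m - 1) F a b) (Cfsg.Agent.Laws.minusHom F (m - 1))
          (fun g v => by
          simp only [Cfsg.quadFormMinus, Cfsg.Agent.Laws.minusHom, MonoidHom.coe_mk, OneHom.coe_mk,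
            Matrix.fromBlocks_mulVec, Matrix.one_mulVec, Matrix.zero_mulVec, add_zero, zero_add,
            Sum.elim_inl, Sum.elim_inr, Function.comp_apply]
          congr 1
          exact Cfsg.Agent.Laws.dualPair_dot (m - 1) g (v ∘ Sum.inl)))
        (Cfsg.Agent.Laws.toIsometry_injective _ _ _ (fun g h e =>
          Cfsg.Agent.Laws.dualPair_injective (m - 1) (Matrix.fromBlocks_inj.1 e).1))) (transfer e)
    · exact small e (fun g => g.1.1.1)
        (fun g h e => Subtype.ext (Subtype.ext (Units.ext e))) h2 (by simp; omega)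

end Cfsg.Agent.S2355
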