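import Cfsg.Statements.S2362
import Cfsg.Agent.Lib.Spectra.OddOrthogonalMixed
import Cfsg.Agent.Lib.Spectra.SympModels
import Cfsg.Agent.Lib.Orthogonal.POmega
import Cfsg.Agent.Lib.Orthogonal.Counts
-- import your own Cfsg.Agent.* helpers here

set_option autoImplicit false
open Cfsg

namespace Cfsg.Agent.S2362

/-- Let F be a finite field of odd order and n ≥ 3. The simple orthogonal group PΩ(2n+1, F) (type B_n) and the projective symplectic group PSp(2n, F) (type C_n), which have the same order, do not have the same set of element orders. -/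
theorem result {F : Type*} [Field F] [Fintype F] (hodd : Odd (Fintype.card F)) (n : ℕ) (hn : 3 ≤ n) :
    Set.range (orderOf : Cfsg.POmega F (Cfsg.quadFormOdd n F) → ℕ) ≠ Set.range (orderOf : Cfsg.PSp n F → ℕ) := by
  intro heq
  obtain ⟨p, hp⟩ := CharP.exists F
  obtain ⟨e, hpp, hpe⟩ := FiniteField.card F p
  haveI : Fact p.Prime := ⟨hpp⟩
  have h2 : (2 : F) ≠ 0 := Cfsg.Agent.Orth.two_ne_zero_of_odd hodd
  have hpodd : Odd p := by
    rw [hpe] at hodd
    exact hpp.odd_of_ne_two fun h => Nat.not_even_iff_odd.2 hodd (h ▸ Nat.even_pow.2 ⟨even_two, e.ne_zero⟩)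
  obtain ⟨k, hk⟩ : ∃ k, 2 * k = Fintype.card F ^ (n - 1) + 1 := by
    obtain ⟨j, hj⟩ : Odd (Fintype.card F ^ (n - 1)) := hodd.pow
    exact ⟨j + 1, by omega⟩
  obtain ⟨g, hg⟩ := (SympSpectra.exists_psp_tori (n := n) p h2 hpodd (d := n - 1) (by omega) (by omega) k
    (Or.inr hk)).1 (by omega)
  have hclog : Nat.clog p (2 * (n - (n - 1))) = 1 := by
    rw [show n - (n - 1) = 1 by omega]
    exact le_antisymm (Nat.clog_le_of_le_pow (by rw [pow_one]; exact hpp.two_le))
      (Nat.clog_pos hpp.one_lt (by norm_num))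
  have hcop : Nat.Coprime (2 * k) p := by
    rw [Nat.coprime_comm, hpp.coprime_iff_not_dvd, hk]
    intro hd
    have : p ∣ Fintype.card F ^ (n - 1) := hpe ▸ dvd_pow (dvd_pow_self p e.ne_zero) (by omega)
    exact hpp.not_dvd_one ((Nat.dvd_add_right this).1 hd)
  rw [hclog, pow_one, hcop.lcm_eq_mul, hk, mul_comm] at hg
  obtain ⟨x, hx⟩ : p * (Fintype.card F ^ (n - 1) + 1) ∈
      Set.range (orderOf : Cfsg.POmega F (⇑(Cfsg.Agent.Orth.qOdd F n)) → ℕ) := by
    rw [Cfsg.Agent.Orth.coe_qOdd, heq]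
    exact ⟨g, hg⟩
  obtain ⟨y, rfl⟩ := QuotientGroup.mk_surjective x
  have hι : Fintype.card (Unit ⊕ (Fin n ⊕ Fin n)) = 2 * n + 1 := by simp; omega
  have hZ := Cfsg.Agent.Orth.card_center_one (Q := Cfsg.Agent.Orth.qOdd F n) (Cfsg.Agent.Orth.qOdd_nondeg h2 n)
    (by omega) (Or.inr (hι ▸ odd_two_mul_add_one n))
  have hy : orderOf y = p * (Fintype.card F ^ (n - 1) + 1) := by
    rw [← hx]
    exact (orderOf_injective (QuotientGroup.mk' (Subgroup.center _))
      ((MonoidHom.ker_eq_bot_iff _).1 (by rw [QuotientGroup.ker_mk']; exact Subgroup.card_eq_one.1 hZ)) y).symm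
  rw [← Subgroup.orderOf_coe] at hy
  refine OddOrthMixed.orderOf_ne (q := Cfsg.Agent.Orth.qOdd F n) hodd (Cfsg.Agent.Orth.qOdd_nondeg h2 n) p (m := n - 1) ?_ ?_ y.2 hy
  · omega
  · omega


end Cfsg.Agent.S2362
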