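import Cfsg.Statements.S2366
import Cfsg.Agent.Lib.LinearBlock.PSU3Spectrum

set_option autoImplicit false
open Cfsg

namespace Cfsg.Agent.S2366

/-- The set of element orders of PSU(3, q) for an odd prime power q = p^n: writing d = gcd(3, q + 1), a positive integer is the order of some element exactly when it divides one of q + 1, p(q + 1)/d, (q² − 1)/d, (q² − q + 1)/d. -/
theorem result {F : Type*} [Field F] [Fintype F] (p : ℕ) [Fact p.Prime] [CharP F p] (hp : p ≠ 2) (q : ℕ) (hF : Fintype.card F = q ^ 2) :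
    Set.range (orderOf : Cfsg.PSU 3 F q → ℕ) =
      {s : ℕ | s ∣ q + 1} ∪ {s : ℕ | s ∣ p * (q + 1) / Nat.gcd 3 (q + 1)} ∪
        {s : ℕ | s ∣ (q ^ 2 - 1) / Nat.gcd 3 (q + 1)} ∪ {s : ℕ | s ∣ (q ^ 2 - q + 1) / Nat.gcd 3 (q + 1)} := by
  classical
  obtain ⟨⟨D⟩, a, ha, hqa⟩ := Cfsg.Agent.LBPSU3.exists_data (F := F) p hp hF
  have hpp : p.Prime := Fact.out
  have hp3 : 3 ≤ p := by have := hpp.two_le; omega
  have hpq : p ∣ q := hqa ▸ dvd_pow_self p (by omega)
  obtain ⟨d, hd⟩ : ∃ d, d = Nat.gcd 3 (q + 1) := ⟨_, rfl⟩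
  obtain ⟨N0, hN0⟩ : ∃ N0, N0 = q ^ 2 - q + 1 := ⟨_, rfl⟩
  rw [← hd, ← hN0]
  have hN : ((q : ℤ) + 1) * N0 = (q : ℤ) ^ 3 - (-1) ^ 3 := by
    rw [hN0]; push_cast [Nat.le_self_pow two_ne_zero q]; ring
  have hdN : d ∣ N0 := by
    rw [← Int.natCast_dvd_natCast]
    have h1 : (d : ℤ) ∣ ((q + 1 : ℕ) : ℤ) := by exact_mod_cast (hd ▸ Nat.gcd_dvd_right 3 (q + 1))
    have h3 : (d : ℤ) ∣ ((3 : ℕ) : ℤ) := by exact_mod_cast (hd ▸ Nat.gcd_dvd_left 3 (q + 1))
    have e : (N0 : ℤ) = ((q + 1 : ℕ) : ℤ) * ((q : ℤ) - 2) + ((3 : ℕ) : ℤ) := by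
      rw [hN0]; push_cast [Nat.le_self_pow two_ne_zero q]; ring
    rw [e]; exact dvd_add (h1.mul_right _) h3
  obtain ⟨T, hT, -⟩ := Cfsg.Agent.UnitarySpectra.exists_torus (n := 3) p a hqa hF D.σ D.hσ D.hσ2 le_rfl D.hζ D.hζ1 N0 hN
  rw [← hd] at hT
  obtain ⟨x1, hx1⟩ := D.exists_q_add_one
  obtain ⟨x2, hx2⟩ := D.exists_mixed p hpq hd
  obtain ⟨x3, hx3⟩ := D.exists_split hd
  have hmem : ∀ {n : ℕ} (y : Cfsg.PSU 3 F q), orderOf y = n → ∀ o, o ∣ n → o ∈ Set.range (orderOf : Cfsg.PSU 3 F q → ℕ) :=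
    fun y hy o ho => ⟨y ^ (orderOf y / o), orderOf_pow_orderOf_div (orderOf_pos y).ne' (hy ▸ ho)⟩
  ext o
  simp only [Set.mem_union, Set.mem_ofPred_eq]
  constructor
  · rintro ⟨x, rfl⟩
    induction x using QuotientGroup.induction_on with
    | H s =>
      rcases Cfsg.Agent.UnitarySpectra.bound (n := 3) p a hqa hF D.σ D.hσ le_rfl D.hζ D.hζ1 N0 hN s with
        ⟨E, hE, hEa, h0, h1, hc⟩ | h
      · rcases D.bound_left p hp hpq hd s E hE hEa h0 h1 hc with h | h | h
        · exact Or.inl (Or.inl (Or.inl h))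
        · exact Or.inl (Or.inl (Or.inr h))
        · exact Or.inl (Or.inr h)
      · rw [show Nat.clog p 3 = 1 from Nat.clog_eq_one (by norm_num) hp3, pow_one, ← hd] at h
        have hdvd := orderOf_dvd_of_pow_eq_one h
        obtain ⟨e, he⟩ : ∃ e, orderOf (QuotientGroup.mk s : Cfsg.PSU 3 F q) = e := ⟨_, rfl⟩
        rw [he] at hdvd ⊢
        by_cases hpe : p ∣ e
        swap
        · exact Or.inr ((Nat.Coprime.dvd_mul_right ((hpp.coprime_iff_not_dvd.2 hpe).symm)).1 hdvd)
        obtain ⟨b, rfl⟩ := hpe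
        have hb : b ∣ N0 / d := Nat.dvd_of_mul_dvd_mul_left hpp.pos (mul_comm (N0 / d) p ▸ hdvd)
        rcases eq_or_ne b 1 with rfl | hb1
        · refine Or.inl (Or.inl (Or.inr ?_))
          rw [mul_one, Nat.mul_div_assoc _ (hd ▸ Nat.gcd_dvd_right 3 (q + 1))]
          exact dvd_mul_right _ _
        exfalso
        obtain ⟨r, hr, hrb⟩ := Nat.exists_prime_and_dvd hb1
        have hrN : r ∣ N0 / d := hrb.trans hb
        have hrq1 : ¬ r ∣ q + 1 := fun hrq => by
          have h1 : (r : ℤ) ∣ ((q + 1 : ℕ) : ℤ) := by exact_mod_cast hrq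
          have h2 : (r : ℤ) ∣ (N0 : ℤ) := by exact_mod_cast (hrN.trans (Nat.div_dvd_of_dvd hdN))
          have e3 : ((3 : ℕ) : ℤ) = (N0 : ℤ) - ((q + 1 : ℕ) : ℤ) * ((q : ℤ) - 2) := by
            rw [hN0]; push_cast [Nat.le_self_pow two_ne_zero q]; ring
          have h3 : (r : ℤ) ∣ ((3 : ℕ) : ℤ) := e3 ▸ dvd_sub h2 (h1.mul_right _)
          obtain rfl := (Nat.prime_dvd_prime_iff_eq hr Nat.prime_three).1 (by exact_mod_cast h3)
          have hd3 : d = 3 := by rw [hd, Nat.gcd_eq_left hrq]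
          subst hd3
          have h9 : 3 * 3 ∣ N0 := Nat.mul_dvd_of_dvd_div hdN hrN
          obtain ⟨k, hk⟩ := hrq
          have hk' : (q : ℤ) = 3 * k - 1 := by omega
          have h9' : (9 : ℤ) ∣ (N0 : ℤ) := by exact_mod_cast h9
          have e9 : (N0 : ℤ) = 9 * ((k : ℤ) * k - k) + 3 := by
            rw [hN0]; push_cast [Nat.le_self_pow two_ne_zero q]; rw [hk']; ring
          omega
        have hrp : r ≠ p := by
          rintro rfl
          have h1 := hrN.trans (Nat.div_dvd_of_dvd hdN)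
          rw [hN0] at h1
          have h2 : r ∣ q ^ 2 - q := Nat.dvd_sub (dvd_pow hpq two_ne_zero) hpq
          exact hr.not_dvd_one ((Nat.dvd_add_right h2).1 h1)
        have hrcard : r.Coprime (Fintype.card F ^ 2 - 1) := by
          refine hr.coprime_iff_not_dvd.2 fun h4 => hrq1 ?_
          rw [hF, ← pow_mul] at h4
          have h4' : (r : ℤ) ∣ ((q ^ (2 * 2) - 1 : ℕ) : ℤ) := by exact_mod_cast h4
          rw [Nat.cast_sub (Nat.one_le_pow _ _ (by have := D.q3; omega))] at h4'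
          push_cast at h4'
          have h2 : (r : ℤ) ∣ (N0 : ℤ) := by exact_mod_cast (hrN.trans (Nat.div_dvd_of_dvd hdN))
          have e : ((q + 1 : ℕ) : ℤ) = (q : ℤ) * (((q : ℤ) + 1) * N0) - ((q : ℤ) ^ (2 * 2) - 1) := by
            rw [hN]; push_cast; ring
          rw [← Int.natCast_dvd_natCast, e]
          exact dvd_sub ((h2.mul_left _).mul_left _) h4'
        -- an element of order p r
        obtain ⟨j, hj⟩ := hrb
        obtain ⟨M, hM⟩ : ∃ M : Matrix (Fin 3) (Fin 3) F,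
          ((s ^ j : Cfsg.SU 3 F q) : Matrix.SpecialLinearGroup (Fin 3) F).1 = M := ⟨_, rfl⟩
        have hord : orderOf ((QuotientGroup.mk (s ^ j) : Cfsg.PSU 3 F q)) = p * r := by
          rw [QuotientGroup.mk_pow, orderOf_pow_of_dvd ?_ ?_, he, hj]
          · rw [← mul_assoc, Nat.mul_div_cancel]
            rcases Nat.eq_zero_or_pos j with rfl | hj0
            · rw [hj, mul_zero, mul_zero] at he
              exact absurd he (orderOf_pos _).ne'
            · exact hj0
          · rintro rfl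
            rw [hj, mul_zero, mul_zero] at he
            exact (orderOf_pos _).ne' he
          · rw [he, hj, ← mul_assoc]; exact dvd_mul_left _ _
        obtain ⟨c, hc⟩ := (D.psu_pow_iff (s ^ j) (p * r)).1 (hord ▸ pow_orderOf_eq_one _)
        rw [hM] at hc
        have hMdet : M.det = 1 := hM ▸ ((s ^ j : Cfsg.SU 3 F q) : Matrix.SpecialLinearGroup (Fin 3) F).2
        have hc3 : c ^ 3 = 1 := by
          have := congrArg Matrix.det hc
          rw [Matrix.det_pow, hMdet, one_pow, Matrix.det_smul, Fintype.card_fin, Matrix.det_one, mul_one] at this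
          exact this.symm
        obtain ⟨e, hec, hep, her⟩ : ∃ e : ℕ, c ^ e = 1 ∧ e.Coprime p ∧ e.Coprime r := by
          by_cases hp3' : p = 3
          · refine ⟨1, ?_, Nat.coprime_one_left _, Nat.coprime_one_left _⟩
            rw [pow_one]
            have : CharP F 3 := hp3' ▸ inferInstance
            exact sub_eq_zero.1 (eq_zero_of_pow_eq_zero (n := 3) (by rw [sub_pow_char, hc3, one_pow, sub_self]))
          · refine ⟨3, hc3, (Nat.coprime_primes Nat.prime_three hpp).2 (Ne.symm hp3'),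
              Nat.prime_three.coprime_iff_not_dvd.2 fun h3r => ?_⟩
            obtain rfl := (Nat.prime_dvd_prime_iff_eq Nat.prime_three hr).1 h3r
            have hh : (q + 1) % 3 ≠ 0 := fun h => hrq1 (Nat.dvd_of_mod_eq_zero h)
            have h2 : 3 ∣ N0 := hrN.trans (Nat.div_dvd_of_dvd hdN)
            have h2' : (3 : ℤ) ∣ (N0 : ℤ) := by exact_mod_cast h2
            have e3 : (3 : ℤ) ∣ ((q + 1 : ℕ) : ℤ) * ((q + 1 : ℕ) : ℤ) := by
              have : ((q + 1 : ℕ) : ℤ) * ((q + 1 : ℕ) : ℤ) = (N0 : ℤ) + 3 * q := by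
                rw [hN0]; push_cast [Nat.le_self_pow two_ne_zero q]; ring
              rw [this]; exact dvd_add h2' (dvd_mul_right _ _)
            have e4 : 3 ∣ (q + 1) * (q + 1) := by exact_mod_cast e3
            exact hrq1 ((Nat.prime_three.dvd_mul).1 e4 |>.elim id id)
        have hMe : M ^ (e * (p * r)) = 1 := by
          rw [mul_comm, pow_mul, hc, _root_.smul_pow, hec, one_pow, one_smul]
        have hw := Cfsg.Agent.LBPSU3.eq_one_of_commute_unipotent p r hp3 ((Nat.coprime_primes hr hpp).2 hrp) hrcard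
          (u := M ^ (e * r)) (w := M ^ (e * p))
          (by rw [← pow_mul, mul_assoc, mul_comm r p, hMe]) ?_ (by rw [← pow_mul, mul_assoc, hMe])
          (Commute.pow_pow (Commute.refl M) _ _)
        · have h1 := (D.psu_pow_iff (s ^ j) (e * p)).2 ⟨1, by rw [hM, hw, one_smul]⟩
          have h2 := orderOf_dvd_of_pow_eq_one h1
          rw [hord] at h2
          have h3 : r ∣ e * p := (dvd_mul_left r p).trans h2
          exact (hr.coprime_iff_not_dvd.1 her.symm) (Nat.Coprime.dvd_of_dvd_mul_right ((Nat.coprime_primes hr hpp).2 hrp) h3)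
        · intro hu
          have h1 := (D.psu_pow_iff (s ^ j) (e * r)).2 ⟨1, by rw [hM, hu, one_smul]⟩
          have h2 := orderOf_dvd_of_pow_eq_one h1
          rw [hord] at h2
          have h3 : p ∣ e * r := (dvd_mul_right p r).trans h2
          rcases hpp.dvd_mul.1 h3 with h4 | h4
          · exact (hpp.coprime_iff_not_dvd.1 hep.symm) h4
          · exact hrp ((Nat.prime_dvd_prime_iff_eq hpp hr).1 h4).symm
  · rintro (((h | h) | h) | h)
    · exact hmem x1 hx1 o h
    · exact hmem x2 hx2 o h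
    · exact hmem x3 hx3 o h
    · exact hmem T rfl o (h.trans hT)

end Cfsg.Agent.S2366

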