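import Cfsg.Statements.S2367
import Cfsg.Agent.Lib.Small.SporadicTable
-- import your own Cfsg.Agent.* helpers here

set_option autoImplicit false
open Cfsg

namespace Cfsg.Agent.S2367

/-- Let G be an alternating group of degree at least 5 or a simple group with the order of one of the 26 sporadic groups, and let p be an odd prime such that p³ is the exact power of p dividing the order of G. Then p³ is less than the 2-part of the order of G. -/
theorem result {G : Type*} [Group G] [Finite G] (hG : Cfsg.IsAlternating G ∨ Cfsg.IsSporadic G)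
    (p : ℕ) (hp : p.Prime) (hodd : p ≠ 2) (h3 : (Nat.card G).factorization p = 3) :
    p ^ 3 < 2 ^ (Nat.card G).factorization 2 := by
  rcases hG with ⟨n, hn, ⟨e⟩⟩ | hs
  · have hcard : Nat.card G = n.factorial / 2 := by
      haveI : Nontrivial (Fin n) := Fin.nontrivial_iff_two_le.2 (by omega)
      rw [Nat.card_congr e.toEquiv, nat_card_alternatingGroup, Nat.card_fin]
    have h2n : 2 ∣ n.factorial := Nat.dvd_factorial two_pos (by omega)
    have hp2 : (Nat.factorization 2) p = 0 :=
      Nat.factorization_eq_zero_of_not_dvd fun h => hodd ((Nat.prime_dvd_prime_iff_eq hp Nat.prime_two).1 h)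
    rw [hcard, Nat.factorization_div h2n] at h3 ⊢
    simp only [Finsupp.coe_tsub, Pi.sub_apply, hp2, Nat.Prime.factorization_self Nat.prime_two,
      Nat.sub_zero] at h3 ⊢
    have h5 : 5 ≤ p := by
      by_contra hlt
      have hp3 : p = 3 := by
        have := hp.two_le
        have : p ≠ 4 := fun e4 => by rw [e4] at hp; exact absurd hp (by decide)
        omega
      subst hp3
      by_cases h9 : n < 9
      · have hlog : Nat.log 3 n < 2 := Nat.log_lt_of_lt_pow (by omega) (by omega)
        rw [Nat.factorization_factorial hp hlog] at h3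
        simp at h3
        omega
      · have hdv : 3 ^ 4 ∣ n.factorial :=
          (show 3 ^ 4 ∣ Nat.factorial 9 by decide).trans (Nat.factorial_dvd_factorial (by omega))
        have := (hp.pow_dvd_iff_le_factorization n.factorial_ne_zero).1 hdv
        omega
    have h3p : 3 * p ≤ n := by
      by_contra hlt
      have hsq : n < p ^ 2 := by
        have := Nat.mul_le_mul_right p h5
        rw [pow_two]
        omega
      rw [Nat.factorization_factorial hp (Nat.log_lt_of_lt_pow (by omega) hsq)] at h3
      simp at h3
      have : n / p < 3 := Nat.div_lt_iff_lt_mul hp.pos |>.2 (by omega)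
      omega
    have hv : n / 2 ≤ n.factorial.factorization 2 := by
      rw [Nat.factorization_factorial Nat.prime_two (lt_add_one (Nat.log 2 n))]
      have hlog : 1 ≤ Nat.log 2 n := Nat.log_pos (by omega) (by omega)
      have := Finset.single_le_sum (f := fun i => n / 2 ^ i) (fun i _ => Nat.zero_le _)
        (Finset.mem_Ico.2 ⟨le_refl 1, by omega⟩ : 1 ∈ Finset.Ico 1 (Nat.log 2 n + 1))
      simpa using this
    rcases eq_or_lt_of_le h5 with h | h
    · subst h
      have hdv : 2 ^ 11 ∣ n.factorial :=
        (show 2 ^ 11 ∣ Nat.factorial 15 by decide).trans (Nat.factorial_dvd_factorial (by omega))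
      have := (Nat.prime_two.pow_dvd_iff_le_factorization n.factorial_ne_zero).1 hdv
      calc 5 ^ 3 < 2 ^ 10 := by norm_num
        _ ≤ _ := Nat.pow_le_pow_right two_pos (by omega)
    · obtain ⟨k, hk⟩ : ∃ k, p = 2 * k + 1 := ⟨p / 2, by
        have := hp.eq_two_or_odd.resolve_left hodd; omega⟩
      have key : ∀ j, 3 ≤ j → 2 * j + 1 < 2 ^ j := by
        intro j hj
        induction j, hj using Nat.le_induction with
        | base => norm_num
        | succ j hj ih => rw [pow_succ]; omega
      calc p ^ 3 < (2 ^ k) ^ 3 := Nat.pow_lt_pow_left (hk ▸ key k (by omega)) (by norm_num)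
        _ = 2 ^ (k * 3) := (pow_mul 2 k 3).symm
        _ ≤ _ := Nat.pow_le_pow_right two_pos (by omega)
  · obtain ⟨L, hL, hc⟩ := Cfsg.Agent.SporadicTable.sporadic_factored hs
    have hf := Cfsg.Agent.SporadicTable.factorization_prodPow L
      (Cfsg.Agent.SporadicTable.table_prime L hL)
    rw [hc, hf] at h3 ⊢
    obtain ⟨qe, hqe, rfl⟩ := Cfsg.Agent.SporadicTable.exists_mem_of_expo_ne_zero
      (L := L) (p := p) (by omega)
    have key : ∀ L ∈ Cfsg.Agent.SporadicTable.table, ∀ qe ∈ L, qe.1 ≠ 2 →
        Cfsg.Agent.SporadicTable.expo L qe.1 = 3 →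
        qe.1 ^ 3 < 2 ^ Cfsg.Agent.SporadicTable.expo L 2 := by decide +kernel
    exact key L hL qe hqe hodd h3

end Cfsg.Agent.S2367
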