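import Cfsg.Statements.S2368
import Cfsg.Agent.Lib.Spectra.LinearOrders
-- import your own Cfsg.Agent.* helpers here

set_option autoImplicit false
open Cfsg

namespace Cfsg.Agent.S2368

/-- Let F be a finite field of characteristic p and m ≥ 1. Every element of GL(m, F) of p-power order has order less than p·m, and GL(m, F) has an element of p-power order at least m; so the largest order of a p-element of GL(m, F) is the least power of p that is at least m. -/
theorem result {F : Type*} [Field F] [Fintype F] (p : ℕ) [Fact p.Prime] [CharP F p] (m : ℕ) (hm : 1 ≤ m) :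
    (∀ g : Matrix.GeneralLinearGroup (Fin m) F, (∃ j : ℕ, orderOf g = p ^ j) → orderOf g < p * m) ∧
      ∃ g : Matrix.GeneralLinearGroup (Fin m) F, (∃ j : ℕ, orderOf g = p ^ j) ∧ m ≤ orderOf g := by
  have hp := (Fact.out : p.Prime)
  refine ⟨?_, ?_⟩
  · rintro g ⟨j, hj⟩
    have hg : g.1 ^ p ^ j = 1 := by
      rw [← Units.val_pow_eq_pow_val, ← hj, pow_orderOf_eq_one, Units.val_one]
    haveI : Nonempty (Fin m) := ⟨⟨0, hm⟩⟩
    have hnil : IsNilpotent (g.1 - 1) :=
      ⟨p ^ j, by rw [sub_pow_char_pow_of_commute _ _ (Commute.one_right _), hg, one_pow, sub_self]⟩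
    have h0 := Cfsg.Agent.Spectra.pow_card_eq_zero_of_isNilpotent hnil
    rw [Fintype.card_fin] at h0
    have h1 := pow_eq_zero_of_le (Nat.le_pow_clog hp.one_lt m) h0
    rw [sub_pow_char_pow_of_commute _ _ (Commute.one_right _), one_pow, sub_eq_zero,
      ← Units.val_pow_eq_pow_val] at h1
    have h2 : orderOf g ≤ p ^ Nat.clog p m :=
      Nat.le_of_dvd (pow_pos hp.pos _) (orderOf_dvd_of_pow_eq_one (Units.ext h1))
    refine lt_of_le_of_lt h2 ?_
    rcases Nat.lt_or_ge 1 m with hm1 | hm1
    · have h3 := Nat.pow_pred_clog_lt_self hp.one_lt hm1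
      have h4 := Nat.clog_pos hp.one_lt hm1
      calc p ^ Nat.clog p m = p * p ^ (Nat.clog p m).pred := by
            rw [← pow_succ', Nat.pred_eq_sub_one, Nat.sub_add_cancel h4]
        _ < p * m := Nat.mul_lt_mul_of_pos_left h3 hp.pos
    · rw [show m = 1 by omega, Nat.clog_one_right, pow_zero, mul_one]
      exact hp.one_lt
  · obtain ⟨u, hu, -⟩ := Cfsg.Agent.Spectra.exists_unipotent_unit (F := F) p hm
    haveI : Module.Finite F (AdjoinRoot (Polynomial.X ^ m : Polynomial F)) :=
      (Polynomial.monic_X_pow m).finite_adjoinRoot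
    obtain ⟨g, hg⟩ := Cfsg.Agent.Spectra.exists_GL_orderOf
      (Cfsg.Agent.Spectra.finrank_adjoinRoot_X_pow (F := F) m).le u
    exact ⟨g, ⟨_, hg.trans hu⟩, by rw [hg, hu]; exact Nat.le_pow_clog hp.one_lt m⟩

end Cfsg.Agent.S2368
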