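import Cfsg.Statements.S2369
import Cfsg.Agent.Lib.TwistedF4Inv.Primes

set_option autoImplicit false
open Cfsg

namespace Cfsg.Agent.S2369

/-- Let q = 2^(2m+1) with m ≥ 1 and let a, b be commuting elements of the large Ree group ²F₄(q) with a an involution. Then every prime divisor of the order of b divides q(q⁴ − 1). -/
theorem result {K : Type*} [Field K] [Fintype K] (m : ℕ) (hm : 1 ≤ m) (hK : Fintype.card K = 2 ^ (2 * m + 1))
    (a b : ↥(Cfsg.Lie.twistedF4 K (2 ^ m))) (ha : orderOf a = 2) (hab : Commute a b) :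
    (orderOf b).primeFactors ⊆ (2 ^ (2 * m + 1) * ((2 ^ (2 * m + 1)) ^ 4 - 1)).primeFactors := by
  haveI : CharP K 2 := charP_of_card_eq_prime_pow (by rw [hK])
  intro r hr
  obtain ⟨hp, hd, -⟩ := Nat.mem_primeFactors.1 hr
  have hb0 : orderOf b ≠ 0 := fun h => by simp [h] at hr
  obtain ⟨k, hk⟩ := hd
  have hk0 : k ≠ 0 := by rintro rfl; rw [mul_zero] at hk; exact hb0 hk
  set c := b ^ k with hc
  have hord : orderOf c = r := by
    rw [hc, orderOf_pow_of_dvd hk0 ⟨r, by rw [hk, mul_comm]⟩, hk]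
    exact Nat.mul_div_cancel _ (Nat.pos_of_ne_zero hk0)
  have h := TwistedF4Inv.prime_dvd (F := K) hK (a := (a : GL Cfsg.Lie.chevF4.Idx K)) (b := (c : GL Cfsg.Lie.chevF4.Idx K)) a.2 c.2
    ((Subgroup.orderOf_coe a).trans ha)
    ((hab.pow_right k).map (Subgroup.subtype _)) hp ((Subgroup.orderOf_coe c).trans hord)
  rw [hK] at h
  refine Nat.mem_primeFactors.2 ⟨hp, h, ?_⟩
  have h1 : 2 ≤ 2 ^ (2 * m + 1) := Nat.le_self_pow (by omega) 2
  have h2 : 2 ^ (2 * m + 1) ≤ (2 ^ (2 * m + 1)) ^ 4 := Nat.le_self_pow (by omega) _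
  exact Nat.mul_ne_zero (by omega) (by omega)

end Cfsg.Agent.S2369
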