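import Cfsg.Statements.S2378
import Cfsg.Agent.Lib.SylHom.E6
import Cfsg.Agent.Lib.SylHom.E7
-- import your own Cfsg.Agent.* helpers here

set_option autoImplicit false
open Cfsg

namespace Cfsg.Agent.S2378

/-- Sylow subgroups for primes away from the characteristic and the Weyl group. Let `G` be the Chevalley group of type G₂, B₂, D₄, F₄, E₆, E₇ or E₈ over a field with `q` elements, with the degrees of its Weyl group listed beside the type (their product is the order of the Weyl group), and let `r` be a prime dividing the order of `G`, not dividing `q` and not dividing the order of the Weyl group. Let `d` be the multiplicative order of `q` modulo `r`, `a` the number of degrees divisible by `d`, and `m` the `r`-part of the value at `q` of the `d`-th cyclotomic polynomial. Then every Sylow `r`-subgroup of `G` is homocyclic: a direct product of `a` cyclic groups of order `m` (in particular abelian). -/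
theorem result {F : Type*} [Field F] [Fintype F] {q : ℕ} (hq : Fintype.card F = q)
    (c : Cfsg.Lie.ChevalleyDatum × List ℕ)
    (hc : c ∈ [(Cfsg.Lie.chevG2, [2, 6]), (Cfsg.Lie.chevB2, [2, 4]), (Cfsg.Lie.chevD4, [2, 4, 4, 6]), (Cfsg.Lie.chevF4, [2, 6, 8, 12]),
      (Cfsg.Lie.chevE6, [2, 5, 6, 8, 9, 12]), (Cfsg.Lie.chevE7, [2, 6, 8, 10, 12, 14, 18]), (Cfsg.Lie.chevE8, [2, 8, 12, 14, 18, 20, 24, 30])])
    (r : ℕ) [Fact r.Prime] (hrq : ¬ r ∣ q) (hrW : ¬ r ∣ c.2.prod) (hrG : r ∣ Nat.card ↥(c.1.group F)) (P : Sylow r ↥(c.1.group F)) :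
    Nonempty (↥(P : Subgroup ↥(c.1.group F)) ≃*
      (Fin (c.2.filter (fun e => orderOf (q : ZMod r) ∣ e)).length →
        Multiplicative (ZMod (r ^ padicValNat r ((Polynomial.cyclotomic (orderOf (q : ZMod r)) ℤ).eval (q : ℤ)).natAbs)))) := by
  simp only [List.mem_cons, List.not_mem_nil, or_false] at hc
  rcases hc with rfl | rfl | rfl | rfl | rfl | rfl | rfl
  · exact SylHom.sylow_homocyclic SylHom.gG2 (T := Chev.G2Data.tab) (dd := 1) (M := [[2, 1], [3, 2]])
      (by decide +kernel) Chev.G2Data.torOK Chev.G2Data.chainOK Chev.G2Data.polyOK (by decide +kernel)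
      (one_dvd _) (by decide +kernel) SylHom.boundG2 hq r hrq hrW hrG P
  · exact SylHom.sylow_homocyclic SylHom.gB2 (T := Chev.B2Data.tab) (dd := 2) (M := [[2, 1], [2, 2]])
      (by decide +kernel) Chev.B2Data.torOK Chev.B2Data.chainOK Chev.B2Data.polyOK (by decide +kernel)
      (by decide +kernel) (by decide +kernel) SylHom.boundB2 hq r hrq hrW hrG P
  · exact SylHom.sylow_homocyclic SylHom.gD4 (T := Chev.D4Data.tab) (dd := 2)
      (M := [[2, 2, 1, 1], [2, 4, 2, 2], [1, 2, 2, 1], [1, 2, 1, 2]])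
      (by decide +kernel) Chev.D4Data.torOK Chev.D4Data.chainOK Chev.D4Data.polyOK (by decide +kernel)
      (by decide +kernel) (by decide +kernel) SylHom.boundD4 hq r hrq hrW hrG P
  · exact SylHom.sylow_homocyclic SylHom.gF4 (T := Chev.F4Data.tab) (dd := 1)
      (M := [[2, 3, 2, 1], [3, 6, 4, 2], [4, 8, 6, 3], [2, 4, 3, 2]])
      (by decide +kernel) Chev.F4Data.torOK Chev.F4Data.chainOK Chev.F4Data.polyOK (by decide +kernel)
      (one_dvd _) (by decide +kernel) SylHom.boundF4 hq r hrq hrW hrG P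
  · exact SylHom.sylow_homocyclic CoxTorus.E6.gW.toGoodA CoxTorus.E6.dualOK Chev.E6Data.torOK
      Chev.E6Data.chainOK Chev.E6Data.polyOK (by decide +kernel) (by decide +kernel) (by decide +kernel)
      SylHom.boundE6 hq r hrq hrW hrG P
  · exact SylHom.sylow_homocyclic CoxTorus.E7.gW.toGoodA CoxTorus.E7.dualOK Chev.E7Data.torOK
      Chev.E7Data.chainOK Chev.E7Data.polyOK (by decide +kernel) (by decide +kernel) (by decide +kernel)
      SylHom.boundE7 hq r hrq hrW hrG P
  · exact SylHom.sylow_homocyclic SylHom.gE8 (T := Chev.E8Data.tab) (dd := 1)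
      (M := [[4, 5, 7, 10, 8, 6, 4, 2], [5, 8, 10, 15, 12, 9, 6, 3], [7, 10, 14, 20, 16, 12, 8, 4],
        [10, 15, 20, 30, 24, 18, 12, 6], [8, 12, 16, 24, 20, 15, 10, 5], [6, 9, 12, 18, 15, 12, 8, 4],
        [4, 6, 8, 12, 10, 8, 6, 3], [2, 3, 4, 6, 5, 4, 3, 2]])
      (by decide +kernel) Chev.E8Data.torOK Chev.E8Data.chainOK Chev.E8Data.polyOK (by decide +kernel)
      (one_dvd _) (by decide +kernel) SylHom.boundE8 hq r hrq hrW hrG P

end Cfsg.Agent.S2378
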