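import Cfsg.Statements.S2384
import Cfsg.Agent.Lib.Classical.SemisimpleClasses
-- import your own Cfsg.Agent.* helpers here

set_option autoImplicit false
open Cfsg

namespace Cfsg.Agent.S2384

/-- In `SL_n(q)`, `q` a power of the prime `p`, the number of conjugacy classes of elements of order prime to `p` (the semisimple classes) is `q^(n-1)`. -/
theorem result {F : Type*} [Field F] [Fintype F] {q : ℕ} (hq : Fintype.card F = q) (p : ℕ) [Fact p.Prime] [CharP F p] (n : ℕ) (hn : 1 ≤ n) :
    Nat.card {c : ConjClasses (Matrix.SpecialLinearGroup (Fin n) F) //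
      ∃ g : Matrix.SpecialLinearGroup (Fin n) F, ConjClasses.mk g = c ∧ (orderOf g).Coprime p} = q ^ (n - 1) := by
  classical
  subst hq
  obtain ⟨m, rfl⟩ : ∃ m, n = m + 1 := ⟨n - 1, by omega⟩
  rw [SemisimpleCl.card_semisimple (fun g : Matrix.SpecialLinearGroup (Fin (m + 1)) F => g.1)
    (fun a b h => by
      obtain ⟨x, rfl⟩ := isConj_iff.1 h
      show a.1.charpoly = ((x * a).1 * (x⁻¹).1).charpoly
      rw [Matrix.charpoly_mul_comm]
      exact congrArg Matrix.charpoly (congrArg Subtype.val (inv_mul_cancel_left x a)).symm)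
    (fun g => (orderOf g).Coprime p) (fun a b ha hb h => SemisimpleCl.isConj_sl p ha hb h)
    (fun f : Polynomial F => (f.Monic ∧ f.natDegree = m + 1) ∧ f.coeff 0 = (-1) ^ (m + 1))
    (fun g => ⟨⟨g.1.charpoly_monic, by rw [Matrix.charpoly_natDegree_eq_dim, Fintype.card_fin]⟩, by
      have h := g.det_coe
      rw [Matrix.det_eq_sign_charpoly_coeff, Fintype.card_fin] at h
      have e : ((-1 : F) ^ (m + 1)) * (-1) ^ (m + 1) = 1 := by
        rw [← mul_pow, neg_one_mul, neg_neg, one_pow]
      linear_combination ((-1 : F) ^ (m + 1)) * h - g.1.charpoly.coeff 0 * e⟩)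
    (fun f hf => SemisimpleCl.exists_sl_rep p hf.1.1 hf.1.2 hf.2),
    SemisimpleCl.card_coeff_eq m (fun c => c = (-1) ^ (m + 1)), Nat.card_unique, one_mul]
  rfl

end Cfsg.Agent.S2384
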