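import Cfsg.Statements.S2387
import Cfsg.Agent.Lib.Classical.SemisimpleClasses
-- import your own Cfsg.Agent.* helpers here

set_option autoImplicit false
open scoped MatrixGroups
open Cfsg

namespace Cfsg.Agent.S2387

/-- In `GL_n(q)` with `n ≥ 1`, `q` a power of the prime `p`, the number of conjugacy classes of elements of order prime to `p` (diagonalisable over the algebraic closure; determined by the characteristic polynomial) is `(q - 1) q^(n-1)`. -/
theorem result {F : Type*} [Field F] [Fintype F] {q : ℕ} (hq : Fintype.card F = q) (p : ℕ) [Fact p.Prime] [CharP F p] (n : ℕ) (hn : 1 ≤ n) :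
    Nat.card {c : ConjClasses (GL (Fin n) F) // ∃ g : GL (Fin n) F, ConjClasses.mk g = c ∧ (orderOf g).Coprime p} = (q - 1) * q ^ (n - 1) := by
  classical
  subst hq
  obtain ⟨m, rfl⟩ : ∃ m, n = m + 1 := ⟨n - 1, by omega⟩
  rw [SemisimpleCl.card_semisimple (fun g : GL (Fin (m + 1)) F => g.1)
    (fun a b h => by
      obtain ⟨x, rfl⟩ := isConj_iff.1 h
      rw [Units.val_mul, Units.val_mul, Matrix.coe_units_inv, Matrix.charpoly_units_conj])
    (fun g => (orderOf g).Coprime p) (fun a b ha hb h => SemisimpleCl.isConj_gl p ha hb h)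
    (fun f : Polynomial F => (f.Monic ∧ f.natDegree = m + 1) ∧ f.coeff 0 ≠ 0)
    (fun g => ⟨⟨g.1.charpoly_monic, by rw [Matrix.charpoly_natDegree_eq_dim, Fintype.card_fin]⟩,
      fun h => g.det_ne_zero (by rw [Matrix.det_eq_sign_charpoly_coeff, h, mul_zero])⟩)
    (fun f hf => SemisimpleCl.exists_gl_rep p hf.1.1 hf.1.2 hf.2),
    SemisimpleCl.card_coeff_eq m (fun c => c ≠ 0), ← Nat.card_congr unitsEquivNeZero, Nat.card_units,
    Nat.card_eq_fintype_card]
  rfl

end Cfsg.Agent.S2387
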