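import Cfsg.Statements.S2394
import Cfsg.Agent.Lib.Classical.Symplectic
import Cfsg.Agent.Lib.LocalEven.Zsigmondy
import Mathlib.LinearAlgebra.Matrix.GeneralLinearGroup.Card
-- import your own Cfsg.Agent.* helpers here

set_option autoImplicit false
open scoped MatrixGroups
open Cfsg

namespace Cfsg.Agent.S2394

/-- The smallest degree of a faithful representation of the symplectic group `Sp_{2n}(q)` over its own field `F_q` is `2n`: every injective homomorphism from `Sp_{2n}(F)` to `GL_d(F)`, `F` the field with `q` elements, has `d ≥ 2n`. -/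
theorem result {F : Type*} [Field F] [Fintype F] (n : ℕ) {d : ℕ}
    (ρ : ↥(Matrix.symplecticGroup (Fin n) F) →* GL (Fin d) F) (hρ : Function.Injective ρ) : 2 * n ≤ d := by
  classical
  have hdvd : Nat.card (Matrix.symplecticGroup (Fin n) F) ∣ Nat.card (GL (Fin d) F) :=
    Subgroup.card_dvd_of_injective ρ hρ
  rw [ClassicalSp.card_sp, Matrix.card_GL_field, Nat.card_eq_fintype_card (α := F)] at hdvd
  set q := Fintype.card F with hq
  have hq1 : 1 < q := Fintype.one_lt_card
  have hpos : 0 < ∏ i : Fin d, (q ^ d - q ^ (i : ℕ)) :=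
    Finset.prod_pos fun i _ => Nat.sub_pos_of_lt (Nat.pow_lt_pow_right hq1 i.2)
  by_contra hlt
  rcases Nat.lt_or_ge n 2 with hn | hn
  · obtain rfl : n = 1 := by omega
    have hle := Nat.le_of_dvd hpos hdvd
    norm_num at hle
    obtain hd | hd : d = 0 ∨ d = 1 := by omega
    · subst hd
      simp at hle
      have h4 : 4 ≤ q ^ 2 := by nlinarith
      have : q * 3 ≤ q * (q ^ 2 - 1) := Nat.mul_le_mul_left q (by omega)
      omega
    · subst hd
      simp at hle
      have h4 : 4 ≤ q ^ 2 := by nlinarith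
      have : q * 3 ≤ q * (q ^ 2 - 1) := Nat.mul_le_mul_left q (by omega)
      omega
  · by_cases h6 : q = 2 ∧ n = 3
    · obtain ⟨h2, rfl⟩ := h6
      rw [h2] at hdvd
      have hd : d < 6 := by omega
      interval_cases d <;> norm_num [Finset.prod_range_succ, Fin.prod_univ_succ] at hdvd
    · obtain ⟨r, hr, hrd, hprim⟩ := LEZsig.zsigmondy q (2 * n) hq1 (by omega)
        (fun h => h6 ⟨h.1, by omega⟩) (fun h => by omega)
      have hsp : r ∣ ∏ i : Fin d, (q ^ d - q ^ (i : ℕ)) := by
        refine dvd_trans (dvd_trans ?_ (dvd_mul_left _ _)) hdvd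
        refine dvd_trans hrd ?_
        have := Finset.dvd_prod_of_mem (fun i => q ^ (2 * (i + 1)) - 1)
          (Finset.mem_range.2 (show n - 1 < n by omega))
        simpa [show n - 1 + 1 = n by omega] using this
      obtain ⟨i, -, hi⟩ := (hr.prime.dvd_finsetProd_iff _).1 hsp
      have hd' : q ^ d - q ^ (i : ℕ) = q ^ (i : ℕ) * (q ^ (d - (i : ℕ)) - 1) := by
        rw [Nat.mul_sub, mul_one, ← pow_add, Nat.add_sub_cancel' i.2.le]
      rw [hd'] at hi
      rcases hr.dvd_mul.1 hi with h | h
      · have hrq : r ∣ q := hr.dvd_of_dvd_pow h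
        have h1 : r ∣ q ^ (2 * n) := dvd_pow hrq (by omega)
        have h0 := Nat.dvd_sub h1 hrd
        rw [Nat.sub_sub_self (Nat.one_le_pow _ _ (by omega))] at h0
        exact hr.ne_one (Nat.dvd_one.1 h0)
      · exact hprim (d - (i : ℕ)) (by have := i.2; omega) (by omega) h

end Cfsg.Agent.S2394
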