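import Cfsg.Statements.S2400
import Cfsg.Agent.Lib.Lie.CovMultBD
import Cfsg.Agent.Lib.Lie.CovMultE

set_option autoImplicit false
open Cfsg

namespace Cfsg.Agent.S2400

/-- Over a finite field `K`, the group presented by Steinberg's relators (R1)–(R3) (the universal Chevalley group) of type E₆ or E₇, or of type B₂ or D₄ with `K` of more than two elements, has trivial Schur multiplier: every finite stem extension of it is an isomorphism (Schur multiplier described through stem extensions as in the definitions). Types G₂, F₄ and E₈ are not covered here. -/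
theorem result {K : Type*} [Field K] [Fintype K] (e : Cfsg.Lie.ChevalleyDatum × ℕ)
    (he : e ∈ [(Cfsg.Lie.chevE6, 0), (Cfsg.Lie.chevE7, 0), (Cfsg.Lie.chevB2, 2), (Cfsg.Lie.chevD4, 2)]) (hK : Fintype.card K ≠ e.2) :
    Cfsg.HasCyclicSchurMultiplier (e.1.SteinbergGroup K) 1 := by
  simp only [List.mem_cons, List.not_mem_nil, or_false] at he
  have hK2 : e.2 = 2 → ∃ x : K, x ≠ 0 ∧ x ≠ 1 := fun h => by
    classical
    by_contra hc
    push Not at hc
    apply hK
    rw [h]
    have hu : (Finset.univ : Finset K) = {0, 1} := (Finset.eq_univ_of_forall fun x => by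
      rw [Finset.mem_insert, Finset.mem_singleton]; exact (eq_or_ne x 0).imp_right (hc x)).symm
    rw [← Finset.card_univ, hu, Finset.card_pair zero_ne_one]
  rcases he with rfl | rfl | rfl | rfl
  · exact Cfsg.Agent.Chev.mult_steinberg_e67 (p := (Cfsg.Lie.chevE6, 3)) (by simp)
  · exact Cfsg.Agent.Chev.mult_steinberg_e67 (p := (Cfsg.Lie.chevE7, 2)) (by simp)
  · exact Cfsg.Agent.Chev.mult_steinberg_bd (hK2 rfl) (by simp)
  · exact Cfsg.Agent.Chev.mult_steinberg_bd (hK2 rfl) (by simp)

end Cfsg.Agent.S2400
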