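import Cfsg.Statements.S2410
import Cfsg.Agent.Lib.Suzuki.Group
-- import your own Cfsg.Agent.* helpers here

set_option autoImplicit false
open Cfsg

namespace Cfsg.Agent.S2410

open Cfsg.Agent.Suzuki in
theorem two_gen {F : Type*} [Field F] [Fintype F] {m : ℕ} (h : SzField F m) :
    ∃ a b : ↥(Cfsg.Sz F m), Subgroup.closure ({a, b} : Set ↥(Cfsg.Sz F m)) = ⊤ := by
  obtain ⟨g, hg⟩ := IsCyclic.exists_generator (α := Fˣ)
  refine ⟨H h g, T h 1 0 * W h, ?_⟩
  set K := Subgroup.closure ({H h g, T h 1 0 * W h} : Set ↥(Cfsg.Sz F m)) with hK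
  have hH : ∀ k, H h k ∈ K := by
    intro k
    obtain ⟨i, rfl⟩ := hg k
    show HHom h (g ^ i) ∈ K
    rw [map_zpow]
    exact K.zpow_mem (Subgroup.subset_closure (by exact Or.inl rfl)) i
  have hX : T h 1 0 * W h ∈ K := Subgroup.subset_closure (Or.inr rfl)
  have hconj : ∀ k, T h 1 0 * H h k * (T h 1 0)⁻¹ ∈ K := by
    intro k
    have e : T h 1 0 * H h k * (T h 1 0)⁻¹ = (T h 1 0 * W h) * H h k⁻¹ * (T h 1 0 * W h)⁻¹ := by
      rw [mul_inv_rev, W_inv, show (T h 1 0 * W h) * H h k⁻¹ * (W h * (T h 1 0)⁻¹) =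
        T h 1 0 * (W h * H h k⁻¹ * W h) * (T h 1 0)⁻¹ by group, W_conj_H, inv_inv]
    rw [e]
    exact K.mul_mem (K.mul_mem hX (hH _)) (K.inv_mem hX)
  obtain ⟨k, hk⟩ : ∃ k : Fˣ, k ≠ 1 := by
    by_contra hall
    push Not at hall
    have : Subsingleton Fˣ := ⟨fun x y => (hall x).trans (hall y).symm⟩
    have h1 := h.card_units_natCard
    rw [Nat.card_unique, ← h.card] at h1
    have := h.eight_le_card
    omega
  have hk1 : (k : F) + 1 ≠ 0 := fun e => hk (Units.ext ((h.eq_iff_add_eq_zero _ _).mpr e))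
  -- an element of the root group outside its centre
  obtain ⟨d, hd⟩ : ∃ d, T h (1 + (k : F)) d ∈ K := by
    have h1 := K.mul_mem (hconj k) (K.inv_mem (hH k))
    rw [show T h 1 0 * H h k * (T h 1 0)⁻¹ * (H h k)⁻¹ = T h 1 0 * (H h k * (T h 1 0)⁻¹ * (H h k)⁻¹) by group,
      T_inv, H_conj_T, T_mul] at h1
    rw [mul_one] at h1
    exact ⟨_, h1⟩
  have hne : (1 : F) + k ≠ 0 := by rwa [add_comm]
  have hsq : ∀ a b, T h a b * T h a b = T h 0 (θ m a * a) := fun a b => by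
    rw [T_mul, h.add_self, h.add_self, zero_add]
  have hzero : ∀ b, T h 0 b ∈ K := by
    intro b
    by_cases hb : b = 0
    · rw [hb, T_zero]; exact K.one_mem
    have hc : θ m (1 + (k : F)) * (1 + k) ≠ 0 := mul_ne_zero (θ_ne_zero m hne) hne
    obtain ⟨l, hl0, hl⟩ := h.θ_mul_self_surjective (b / (θ m (1 + (k : F)) * (1 + k))) (div_ne_zero hb hc)
    have h2 := K.mul_mem (K.mul_mem (hH (Units.mk0 l hl0)) (hsq _ d ▸ K.mul_mem hd hd)) (K.inv_mem (hH (Units.mk0 l hl0)))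
    rw [H_conj_T, Units.val_mk0, mul_zero, hl, div_mul_cancel₀ _ hc] at h2
    exact h2
  have hT : ∀ a b, T h a b ∈ K := by
    intro a b
    by_cases ha : a = 0
    · rw [ha]; exact hzero b
    set l : Fˣ := Units.mk0 (a / (1 + k)) (div_ne_zero ha hne) with hl
    have h2 := K.mul_mem (K.mul_mem (hH l) hd) (K.inv_mem (hH l))
    rw [H_conj_T, hl, Units.val_mk0, div_mul_cancel₀ _ hne] at h2
    have h3 := K.mul_mem h2 (hzero (b + θ m (a / (1 + k)) * (a / (1 + k)) * d))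
    rw [T_mul] at h3
    convert! h3 using 2
    · simp
    · linear_combination (-(θ m (a / (1 + k)) * (a / (1 + k)) * d)) * h.two_eq_zero
  have hW : W h ∈ K := by simpa using K.mul_mem (K.inv_mem (hT 1 0)) hX
  refine eq_top_iff.mpr fun x _ => ?_
  by_cases hb : x ∈ borel F m
  · obtain ⟨a, b, l, rfl⟩ := borel_form h hb
    exact K.mul_mem (hT a b) (hH l)
  · obtain ⟨u, v, a, b, l, rfl⟩ := bruhat h hb
    exact K.mul_mem (K.mul_mem (hT u v) hW) (K.mul_mem (hT a b) (hH l))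

/-- The Suzuki group over the field with `2^(2m+1)` elements, `m ≥ 1` (realised as the stabiliser in `SL₄` of the Suzuki–Tits ovoid), is generated by two of its elements. -/
theorem result {F : Type*} [Field F] [Fintype F] {m : ℕ} (hm : 1 ≤ m) (hF : Fintype.card F = 2 ^ (2 * m + 1)) :
    ∃ a b : ↥(Cfsg.Sz F m), Subgroup.closure ({a, b} : Set ↥(Cfsg.Sz F m)) = ⊤ := by
  exact two_gen ⟨hm, hF⟩

end Cfsg.Agent.S2410
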