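import Cfsg.Statements.S2416
import Cfsg.Agent.Lib.Lie.RootGenerate
-- import your own Cfsg.Agent.* helpers here

set_option autoImplicit false
open scoped MatrixGroups
open Cfsg

namespace Cfsg.Agent.S2416

/-- A Chevalley group of type G₂, B₂, D₄, F₄, E₆, E₇ or E₈ over a finite field lies in (indeed equals) the subgroup generated by its monomial subgroup `N` and a single fundamental root subgroup `X_p`, where `p` is a short fundamental root if there are two root lengths (any fundamental root otherwise), provided the characteristic is not 2 for types B₂, F₄ and not 3 for type G₂ (and the field has more than two elements for B₂, G₂). -/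
theorem result {K : Type*} [Field K] [Finite K] (D : Cfsg.Lie.ChevalleyDatum) (hD : D ∈ [Cfsg.Lie.chevG2, Cfsg.Lie.chevB2, Cfsg.Lie.chevD4, Cfsg.Lie.chevF4, Cfsg.Lie.chevE6, Cfsg.Lie.chevE7, Cfsg.Lie.chevE8])
    (hK : D ∈ [Cfsg.Lie.chevB2, Cfsg.Lie.chevG2] → ∃ x : K, x ≠ 0 ∧ x ≠ 1)
    (h2 : D ∈ [Cfsg.Lie.chevB2, Cfsg.Lie.chevF4] → ringChar K ≠ 2) (h3 : D = Cfsg.Lie.chevG2 → ringChar K ≠ 3)
    (i : ℕ) (hi : i < D.rank) (hshort : D.isLong (D.simple i) = false) :
    D.group K ≤ D.monomialSubgroup K ⊔ D.rootSubgroup K (D.simple i) := by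
  obtain ⟨T, cls, good, g, rfl, hcls, hedge, hlc, hagree, hgood⟩ := Chev.exists_checkShortGen hD
  refine Chev.Tab.group_le_monomial_sup_short g hcls hedge (fun k hk => ?_) hlc hagree hi hshort
  have key : ∀ q : ℕ, q.Prime → ringChar K ≠ q → (q : K) ≠ 0 := by
    intro q hq hne h0
    rcases (Nat.dvd_prime hq).1 ((ringChar.spec K q).1 h0) with h | h
    · haveI : CharP K 1 := h ▸ ringChar.charP K
      exact CharP.char_ne_one K 1 rfl
    · exact hne h
  rcases hgood k hk with rfl | ⟨rfl, hm⟩ | ⟨rfl, hm⟩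
  · simp
  · exact key 2 Nat.prime_two (h2 hm)
  · exact key 3 Nat.prime_three (h3 hm)

end Cfsg.Agent.S2416
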