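import Cfsg.Statements.S2419
import Cfsg.Agent.Lib.CoxeterGen.Basic
-- import your own Cfsg.Agent.* helpers here

set_option autoImplicit false
open Cfsg
open Cfsg.Agent.CoxeterGen

namespace Cfsg.Agent.S2419

/-- The Coxeter groups of types B₂, G₂, E₆, E₇, E₈ are generated by the Coxeter element `s₁ s₂ ⋯ s_l` together with one suitable reflection (a conjugate of a simple reflection); for types D₄ and F₄ the Coxeter element together with two suitable reflections suffices. -/
theorem result (c : (Σ n : ℕ, CoxeterMatrix (Fin n)) × ℕ)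
    (hc : c ∈ [(⟨2, CoxeterMatrix.B 2⟩, 1), (⟨2, CoxeterMatrix.G₂⟩, 1), (⟨4, Cfsg.Lie.coxeterD4⟩, 2), (⟨4, CoxeterMatrix.F₄⟩, 2),
      (⟨6, CoxeterMatrix.E₆⟩, 1), (⟨7, CoxeterMatrix.E₇⟩, 1), (⟨8, CoxeterMatrix.E₈⟩, 1)]) :
    ∃ T : Finset c.1.2.Group, T.card = c.2 ∧ (∀ t ∈ T, ∃ (g : c.1.2.Group) (i : Fin c.1.1), t = g * c.1.2.simple i * g⁻¹) ∧
      Subgroup.closure (({((List.finRange c.1.1).map c.1.2.simple).prod} : Set c.1.2.Group) ∪ ↑T) = ⊤ := by
  classical
  simp only [List.mem_cons, List.not_mem_nil, or_false] at hc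
  obtain rfl | rfl | rfl | rfl | rfl | rfl | rfl := hc
  · -- B₂
    let M := CoxeterMatrix.B 2
    refine ⟨{M.simple 0}, Finset.card_singleton _, fun t ht => ⟨1, 0, by simpa using ht⟩,
      Cfsg.Agent.CoxeterGen.eq_top_of_mem M fun i => ?_⟩
    set H := Subgroup.closure (({((List.finRange 2).map M.simple).prod} : Set M.Group) ∪ ↑({M.simple 0} : Finset M.Group)) with hH
    have hprod : ((List.finRange 2).map M.simple).prod = M.simple 0 * M.simple 1 := by
      simp [List.finRange_succ]
    have h0 : M.simple 0 ∈ H := Subgroup.subset_closure (by simp)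
    have hcH : M.simple 0 * M.simple 1 ∈ H := hprod ▸ Subgroup.subset_closure (by simp)
    fin_cases i
    · exact h0
    · simpa using mul_mem (inv_mem h0) hcH
  · -- G₂
    let M := CoxeterMatrix.G₂
    refine ⟨{M.simple 0}, Finset.card_singleton _, fun t ht => ⟨1, 0, by simpa using ht⟩,
      Cfsg.Agent.CoxeterGen.eq_top_of_mem M fun i => ?_⟩
    set H := Subgroup.closure (({((List.finRange 2).map M.simple).prod} : Set M.Group) ∪ ↑({M.simple 0} : Finset M.Group)) with hH
    have hprod : ((List.finRange 2).map M.simple).prod = M.simple 0 * M.simple 1 := by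
      simp [List.finRange_succ]
    have h0 : M.simple 0 ∈ H := Subgroup.subset_closure (by simp)
    have hcH : M.simple 0 * M.simple 1 ∈ H := hprod ▸ Subgroup.subset_closure (by simp)
    fin_cases i
    · exact h0
    · simpa using mul_mem (inv_mem h0) hcH
  · -- D₄
    let M := Cfsg.Lie.coxeterD4
    have hne : M.simple 0 ≠ M.simple 2 := by
      let f : Fin 4 → Equiv.Perm (Fin 4) := ![Equiv.swap 0 1, Equiv.swap 1 2, Equiv.swap 2 3, Equiv.swap 2 3]
      have hf : M.IsLiftable f := by unfold CoxeterMatrix.IsLiftable; decide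
      intro h
      have := congrArg (M.toCoxeterSystem.lift ⟨f, hf⟩) h
      rw [← CoxeterMatrix.toCoxeterSystem_simple, M.toCoxeterSystem.lift_apply_simple hf,
        M.toCoxeterSystem.lift_apply_simple hf] at this
      revert this
      decide
    refine ⟨{M.simple 0, M.simple 2}, by rw [Finset.card_insert_of_notMem (by simpa using hne),
      Finset.card_singleton], fun t ht => ?_, Cfsg.Agent.CoxeterGen.eq_top_of_mem M fun i => ?_⟩
    · simp only [Finset.mem_insert, Finset.mem_singleton] at ht
      rcases ht with rfl | rfl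
      · exact ⟨1, 0, by simp; rfl⟩
      · exact ⟨1, 2, by simp; rfl⟩
    set H := Subgroup.closure (({((List.finRange 4).map M.simple).prod} : Set M.Group) ∪ ↑({M.simple 0, M.simple 2} : Finset M.Group)) with hH
    have hprod : ((List.finRange 4).map M.simple).prod = M.simple 0 * M.simple 1 * M.simple 2 * M.simple 3 := by
      simp [List.finRange_succ, mul_assoc]
    have h0 : M.simple 0 ∈ H := Subgroup.subset_closure (by simp)
    have h2 : M.simple 2 ∈ H := Subgroup.subset_closure (by simp)
    have hcH : M.simple 0 * M.simple 1 * M.simple 2 * M.simple 3 ∈ H := hprod ▸ Subgroup.subset_closure (by simp)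
    have h1 : M.simple 1 ∈ H := step_mem M (i := 0) (j := 1) 1 (M.simple 2 * M.simple 3) (by decide)
      (Commute.one_left _)
      ((simple_comm M (by decide)).symm.mul_left (simple_comm M (by decide)).symm)
      (by simpa [mul_assoc] using hcH) h0
    have h3 : M.simple 3 ∈ H := (Subgroup.mul_mem_cancel_left H (mul_mem (mul_mem h0 h1) h2)).1 hcH
    fin_cases i <;> assumption
  · -- F₄
    let M := CoxeterMatrix.F₄
    have hne : M.simple 0 ≠ M.simple 2 := by
      let f : Fin 4 → Multiplicative (ZMod 2 × ZMod 2) := ![Multiplicative.ofAdd (1, 0), Multiplicative.ofAdd (1, 0),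
        Multiplicative.ofAdd (0, 1), Multiplicative.ofAdd (0, 1)]
      have hf : M.IsLiftable f := by unfold CoxeterMatrix.IsLiftable; decide
      intro h
      have := congrArg (M.toCoxeterSystem.lift ⟨f, hf⟩) h
      rw [← CoxeterMatrix.toCoxeterSystem_simple, M.toCoxeterSystem.lift_apply_simple hf,
        M.toCoxeterSystem.lift_apply_simple hf] at this
      revert this
      decide
    refine ⟨{M.simple 0, M.simple 2}, by rw [Finset.card_insert_of_notMem (by simpa using hne),
      Finset.card_singleton], fun t ht => ?_, Cfsg.Agent.CoxeterGen.eq_top_of_mem M fun i => ?_⟩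
    · simp only [Finset.mem_insert, Finset.mem_singleton] at ht
      rcases ht with rfl | rfl
      · exact ⟨1, 0, by simp; rfl⟩
      · exact ⟨1, 2, by simp; rfl⟩
    set H := Subgroup.closure (({((List.finRange 4).map M.simple).prod} : Set M.Group) ∪ ↑({M.simple 0, M.simple 2} : Finset M.Group)) with hH
    have hprod : ((List.finRange 4).map M.simple).prod = M.simple 0 * M.simple 1 * M.simple 2 * M.simple 3 := by
      simp [List.finRange_succ, mul_assoc]
    have h0 : M.simple 0 ∈ H := Subgroup.subset_closure (by simp)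
    have h2 : M.simple 2 ∈ H := Subgroup.subset_closure (by simp)
    have hcH : M.simple 0 * M.simple 1 * M.simple 2 * M.simple 3 ∈ H := hprod ▸ Subgroup.subset_closure (by simp)
    have h1 : M.simple 1 ∈ H := step_mem M (i := 0) (j := 1) 1 (M.simple 2 * M.simple 3) (by decide)
      (Commute.one_left _)
      ((simple_comm M (by decide)).symm.mul_left (simple_comm M (by decide)).symm)
      (by simpa [mul_assoc] using hcH) h0
    have h3 : M.simple 3 ∈ H := (Subgroup.mul_mem_cancel_left H (mul_mem (mul_mem h0 h1) h2)).1 hcH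
    fin_cases i <;> assumption
  · -- E₆
    let M := CoxeterMatrix.E₆
    refine ⟨{M.simple 3}, Finset.card_singleton _, fun t ht => ⟨1, 3, by simp at ht; subst ht; simp; rfl⟩,
      Cfsg.Agent.CoxeterGen.eq_top_of_mem M fun i => ?_⟩
    set H := Subgroup.closure (({((List.finRange 6).map M.simple).prod} : Set M.Group) ∪ ↑({M.simple 3} : Finset M.Group)) with hH
    have hprod : ((List.finRange 6).map M.simple).prod =
        M.simple 0 * M.simple 1 * M.simple 2 * (M.simple 3 * M.simple 4 * M.simple 5) := by
      simp [List.finRange_succ, mul_assoc]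
    have h3 : M.simple 3 ∈ H := Subgroup.subset_closure (by simp)
    have hcH : M.simple 0 * M.simple 1 * M.simple 2 * (M.simple 3 * M.simple 4 * M.simple 5) ∈ H :=
      hprod ▸ Subgroup.subset_closure (by simp)
    have h4 : M.simple 4 ∈ H := step_mem M (i := 3) (j := 4) (M.simple 0 * M.simple 1 * M.simple 2) (M.simple 5)
      (by decide) (((simple_comm M (by decide)).mul_left (simple_comm M (by decide))).mul_left (simple_comm M (by decide)))
      (simple_comm M (by decide)) (by simpa [mul_assoc] using hcH) h3
    have h5 : M.simple 5 ∈ H := step_mem M (i := 4) (j := 5)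
      (M.simple 0 * M.simple 1 * M.simple 2 * M.simple 3) 1
      (by decide)
      ((((simple_comm M (by decide)).mul_left (simple_comm M (by decide))).mul_left (simple_comm M (by decide))).mul_left (simple_comm M (by decide)))
      (Commute.one_left _) (by simpa [mul_assoc] using hcH) h4
    have hc0 : M.simple 0 * M.simple 1 * M.simple 2 ∈ H :=
      (Subgroup.mul_mem_cancel_right H (mul_mem (mul_mem h3 h4) h5)).1 hcH
    obtain ⟨h0, h1, h2⟩ := branch_mem (simple_mul_self M 0) (simple_mul_self M 2) (simple_mul_self M 3)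
      (simple_mul_self M 1) (simple_comm M (by decide)) (simple_comm M (by decide)) (simple_comm M (by decide))
      (simple_pow M (by decide)) (simple_pow M (by decide)) hc0 h3
    fin_cases i <;> assumption
  · -- E₇
    let M := CoxeterMatrix.E₇
    refine ⟨{M.simple 3}, Finset.card_singleton _, fun t ht => ⟨1, 3, by simp at ht; subst ht; simp; rfl⟩,
      Cfsg.Agent.CoxeterGen.eq_top_of_mem M fun i => ?_⟩
    set H := Subgroup.closure (({((List.finRange 7).map M.simple).prod} : Set M.Group) ∪ ↑({M.simple 3} : Finset M.Group)) with hH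
    have hprod : ((List.finRange 7).map M.simple).prod =
        M.simple 0 * M.simple 1 * M.simple 2 * (M.simple 3 * M.simple 4 * M.simple 5 * M.simple 6) := by
      simp [List.finRange_succ, mul_assoc]
    have h3 : M.simple 3 ∈ H := Subgroup.subset_closure (by simp)
    have hcH : M.simple 0 * M.simple 1 * M.simple 2 * (M.simple 3 * M.simple 4 * M.simple 5 * M.simple 6) ∈ H :=
      hprod ▸ Subgroup.subset_closure (by simp)
    have c := fun (i j : Fin 7) (h : M i j = 2) => simple_comm M h
    have h4 : M.simple 4 ∈ H := step_mem M (i := 3) (j := 4) (M.simple 0 * M.simple 1 * M.simple 2)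
      (M.simple 5 * M.simple 6) (by decide)
      (((c 0 4 (by decide)).mul_left (c 1 4 (by decide))).mul_left (c 2 4 (by decide)))
      ((c 5 3 (by decide)).mul_left (c 6 3 (by decide))) (by simpa [mul_assoc] using hcH) h3
    have h5 : M.simple 5 ∈ H := step_mem M (i := 4) (j := 5)
      (M.simple 0 * M.simple 1 * M.simple 2 * M.simple 3) (M.simple 6) (by decide)
      ((((c 0 5 (by decide)).mul_left (c 1 5 (by decide))).mul_left (c 2 5 (by decide))).mul_left (c 3 5 (by decide)))
      (c 6 4 (by decide)) (by simpa [mul_assoc] using hcH) h4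
    have h6 : M.simple 6 ∈ H := step_mem M (i := 5) (j := 6)
      (M.simple 0 * M.simple 1 * M.simple 2 * M.simple 3 * M.simple 4) 1 (by decide)
      (((((c 0 6 (by decide)).mul_left (c 1 6 (by decide))).mul_left (c 2 6 (by decide))).mul_left (c 3 6 (by decide))).mul_left (c 4 6 (by decide)))
      (Commute.one_left _) (by simpa [mul_assoc] using hcH) h5
    have hc0 : M.simple 0 * M.simple 1 * M.simple 2 ∈ H :=
      (Subgroup.mul_mem_cancel_right H (mul_mem (mul_mem (mul_mem h3 h4) h5) h6)).1 hcH
    obtain ⟨h0, h1, h2⟩ := branch_mem (simple_mul_self M 0) (simple_mul_self M 2) (simple_mul_self M 3)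
      (simple_mul_self M 1) (c 0 1 (by decide)) (c 1 2 (by decide)) (c 0 3 (by decide))
      (simple_pow M (by decide)) (simple_pow M (by decide)) hc0 h3
    fin_cases i <;> assumption
  · -- E₈
    let M := CoxeterMatrix.E₈
    refine ⟨{M.simple 3}, Finset.card_singleton _, fun t ht => ⟨1, 3, by simp at ht; subst ht; simp; rfl⟩,
      Cfsg.Agent.CoxeterGen.eq_top_of_mem M fun i => ?_⟩
    set H := Subgroup.closure (({((List.finRange 8).map M.simple).prod} : Set M.Group) ∪ ↑({M.simple 3} : Finset M.Group)) with hH
    have hprod : ((List.finRange 8).map M.simple).prod =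
        M.simple 0 * M.simple 1 * M.simple 2 *
          (M.simple 3 * M.simple 4 * M.simple 5 * M.simple 6 * M.simple 7) := by
      simp [List.finRange_succ, mul_assoc]
    have h3 : M.simple 3 ∈ H := Subgroup.subset_closure (by simp)
    have hcH : M.simple 0 * M.simple 1 * M.simple 2 *
        (M.simple 3 * M.simple 4 * M.simple 5 * M.simple 6 * M.simple 7) ∈ H :=
      hprod ▸ Subgroup.subset_closure (by simp)
    have c := fun (i j : Fin 8) (h : M i j = 2) => simple_comm M h
    have h4 : M.simple 4 ∈ H := step_mem M (i := 3) (j := 4) (M.simple 0 * M.simple 1 * M.simple 2)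
      (M.simple 5 * M.simple 6 * M.simple 7) (by decide)
      (((c 0 4 (by decide)).mul_left (c 1 4 (by decide))).mul_left (c 2 4 (by decide)))
      (((c 5 3 (by decide)).mul_left (c 6 3 (by decide))).mul_left (c 7 3 (by decide)))
      (by simpa [mul_assoc] using hcH) h3
    have h5 : M.simple 5 ∈ H := step_mem M (i := 4) (j := 5)
      (M.simple 0 * M.simple 1 * M.simple 2 * M.simple 3) (M.simple 6 * M.simple 7) (by decide)
      ((((c 0 5 (by decide)).mul_left (c 1 5 (by decide))).mul_left (c 2 5 (by decide))).mul_left (c 3 5 (by decide)))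
      ((c 6 4 (by decide)).mul_left (c 7 4 (by decide))) (by simpa [mul_assoc] using hcH) h4
    have h6 : M.simple 6 ∈ H := step_mem M (i := 5) (j := 6)
      (M.simple 0 * M.simple 1 * M.simple 2 * M.simple 3 * M.simple 4) (M.simple 7) (by decide)
      (((((c 0 6 (by decide)).mul_left (c 1 6 (by decide))).mul_left (c 2 6 (by decide))).mul_left (c 3 6 (by decide))).mul_left (c 4 6 (by decide)))
      (c 7 5 (by decide)) (by simpa [mul_assoc] using hcH) h5
    have h7 : M.simple 7 ∈ H := step_mem M (i := 6) (j := 7)
      (M.simple 0 * M.simple 1 * M.simple 2 * M.simple 3 * M.simple 4 * M.simple 5) 1 (by decide)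
      ((((((c 0 7 (by decide)).mul_left (c 1 7 (by decide))).mul_left (c 2 7 (by decide))).mul_left (c 3 7 (by decide))).mul_left (c 4 7 (by decide))).mul_left (c 5 7 (by decide)))
      (Commute.one_left _) (by simpa [mul_assoc] using hcH) h6
    have hc0 : M.simple 0 * M.simple 1 * M.simple 2 ∈ H :=
      (Subgroup.mul_mem_cancel_right H (mul_mem (mul_mem (mul_mem (mul_mem h3 h4) h5) h6) h7)).1 hcH
    obtain ⟨h0, h1, h2⟩ := branch_mem (simple_mul_self M 0) (simple_mul_self M 2) (simple_mul_self M 3)
      (simple_mul_self M 1) (c 0 1 (by decide)) (c 1 2 (by decide)) (c 0 3 (by decide))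
      (simple_pow M (by decide)) (simple_pow M (by decide)) hc0 h3
    fin_cases i <;> assumption

end Cfsg.Agent.S2419
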