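import Cfsg.Statements.S2421
import Cfsg.Agent.Lib.Unipotent.Characters

set_option autoImplicit false
open scoped MatrixGroups
open Cfsg

namespace Cfsg.Agent.S2421

/-- Irreducible characters of `GL_n(q)` indexed by partitions: for `ν` a partition of `n` written with `n` non-decreasing parts `ν_0 ≤ ⋯ ≤ ν_{n−1}` (zeros allowed; positions counted from 0) and `λ_i = ν_i + i`, the alternating sum over permutations `κ` of `{0, …, n−1}` of `sign κ` times the permutation character on partial flags of type `λ − κ` (terms with a negative entry omitted) is an irreducible complex character of `GL_n(q)`. For `ν = (1, …, 1)` this is the Steinberg character. -/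
theorem result {F : Type*} [Field F] [Fintype F] {n : ℕ} (ν : Fin n → ℕ) (hmono : Monotone ν) (hsum : ∑ i, ν i = n) :
    Cfsg.IsIrrCharacter (GL (Fin n) F) (Cfsg.unipotentCharacterGL n F ν) := by
  classical
  have h1 : Cfsg.classInner (Cfsg.unipotentCharacterGL n F ν) (Cfsg.unipotentCharacterGL n F ν) = 1 := by
    rw [Cfsg.classInner]
    simp only [Cfsg.Agent.Unipotent.conj_unipotent]
    rw [Cfsg.Agent.Unipotent.sum_mul_unipotent hmono hsum hmono hsum, if_pos rfl]
  refine (Cfsg.Agent.Char.IsGeneralizedCharacter.of_norm_one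
    (Cfsg.Agent.Unipotent.isGeneralizedCharacter_unipotent ν) h1).resolve_right fun hn => ?_
  obtain ⟨d, hd⟩ := Cfsg.Agent.Char.IsCharacter.exists_degree
    (Cfsg.Agent.Char.IsIrrCharacter.isCharacter hn)
  have h := (Cfsg.Agent.Unipotent.degree_pos (F := F) hmono hsum).1
  have hd' : Cfsg.unipotentCharacterGL n F ν 1 = -(d : ℂ) := by
    rw [← hd]; simp
  rw [hd'] at h
  simp only [Complex.neg_re, Complex.natCast_re, neg_pos] at h
  exact absurd h (not_lt.2 (Nat.cast_nonneg d))

end Cfsg.Agent.S2421
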