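import Cfsg.Statements.S2425
import Cfsg.Agent.Lib.SteinbergGL.Moebius
import Cfsg.Agent.Lib.SteinbergGL.Chains
import Cfsg.Agent.Lib.SteinbergGL.Flags
import Cfsg.Agent.Lib.Unipotent.Characters

set_option autoImplicit false
open scoped MatrixGroups
open Cfsg

namespace Cfsg.Agent.S2425

open Polynomial StGL Module

section

variable {n : ℕ} {F : Type*} [Field F] [Fintype F] [DecidableEq F] (x : GL (Fin n) F)

local notation "V" => (Fin n → F)
local notation "fx" => Matrix.mulVecLin (x : Matrix (Fin n) (Fin n) F)
local notation "M" => Module.AEval' fx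

/-- a submodule as a subspace -/
noncomputable def toV (U : Submodule F[X] M) : Submodule F V :=
  (U.restrictScalars F).map (AEval'.of fx).symm.toLinearMap

theorem mem_toV (U : Submodule F[X] M) (v : V) : v ∈ toV x U ↔ AEval'.of fx v ∈ U := by
  rw [toV, Submodule.mem_map_equiv, LinearEquiv.symm_symm, Submodule.restrictScalars_mem]

theorem toV_le {U U' : Submodule F[X] M} : toV x U ≤ toV x U' ↔ U ≤ U' := by
  refine ⟨fun h m hm => ?_, fun h v hv => (mem_toV x U' v).2 (h ((mem_toV x U v).1 hv))⟩
  have := h ((mem_toV x U ((AEval'.of fx).symm m)).2 (by rwa [LinearEquiv.apply_symm_apply]))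
  rwa [mem_toV, LinearEquiv.apply_symm_apply] at this

theorem finrank_toV (U : Submodule F[X] M) : finrank F (toV x U) = finrank F U :=
  ((AEval'.of fx).symm.submoduleMap (U.restrictScalars F)).finrank_eq.symm

theorem mv_toV (U : Submodule F[X] M) : mv x (toV x U) = toV x U := by
  refine Submodule.eq_of_le_of_finrank_eq ?_ (finrank_mv x _)
  rintro _ ⟨v, hv, rfl⟩
  rw [SetLike.mem_coe, mem_toV] at hv
  rw [mem_toV]
  rw [← AEval'.X_smul_of]
  exact U.smul_mem _ hv

theorem aeval_mem {W : Submodule F V} (hW : mv x W = W) (g : F[X]) :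
    ∀ v ∈ W, aeval fx g v ∈ W := by
  induction g using Polynomial.induction_on' with
  | add a b ha hb => intro v hv; rw [map_add, LinearMap.add_apply]; exact W.add_mem (ha v hv) (hb v hv)
  | monomial k c =>
    intro v hv
    rw [aeval_monomial, Module.End.mul_apply, Module.algebraMap_end_apply]
    refine W.smul_mem _ ?_
    induction k with
    | zero => simpa using hv
    | succ k ih =>
      rw [pow_succ', Module.End.mul_apply]
      exact hW.le ⟨_, ih, rfl⟩

/-- an invariant subspace as a submodule -/
noncomputable def ofV (W : Submodule F V) (hW : mv x W = W) : Submodule F[X] M where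
  carrier := {m | (AEval'.of fx).symm m ∈ W}
  add_mem' := fun {a b} ha hb => by
    show (AEval'.of fx).symm (a + b) ∈ W
    rw [map_add]
    exact W.add_mem ha hb
  zero_mem' := by
    show (AEval'.of fx).symm (0 : M) ∈ W
    rw [map_zero]
    exact W.zero_mem
  smul_mem' := fun g m hm => by
    show (AEval'.of fx).symm (g • m) ∈ W
    rw [AEval'.of, AEval.of_symm_smul]
    exact aeval_mem x hW g _ hm

theorem toV_ofV (W : Submodule F V) (hW : mv x W = W) : toV x (ofV x W hW) = W := by
  ext v
  rw [mem_toV]
  show (AEval'.of fx).symm (AEval'.of fx v) ∈ W ↔ _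
  rw [LinearEquiv.symm_apply_apply]

theorem finite_module : Finite M := Finite.of_equiv _ (AEval'.of fx).toEquiv

theorem semisimple (p : ℕ) [CharP F p] (hx : (orderOf x).Coprime p) : IsSemisimpleModule F[X] M := by
  refine Module.End.isSemisimple_of_squarefree_aeval_eq_zero
    (Polynomial.separable_X_pow_sub_C (n := orderOf x) (1 : F) ?_ one_ne_zero).squarefree ?_
  · rw [Ne, CharP.cast_eq_zero_iff F p]
    intro h
    rcases CharP.char_is_prime_or_zero F p with hp | hp
    · exact hp.ne_one (Nat.Coprime.eq_one_of_dvd hx.symm h)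
    · exact CharP.char_ne_zero_of_finite F p hp
  · have h1 : (x : Matrix (Fin n) (Fin n) F) ^ orderOf x = 1 := by
      rw [← Units.val_pow_eq_pow_val, pow_orderOf_eq_one, Units.val_one]
    have h2 : (fx : Module.End F V) ^ orderOf x = 1 := by
      rw [← Matrix.toLin'_apply', ← Matrix.toLin'_pow, h1, Matrix.toLin'_one]
      rfl
    simp only [map_sub, map_pow, aeval_X, aeval_C, map_one, h2, sub_self]

theorem chi_top [Finite M] :
    chi (F := F) (⊤ : Submodule F[X] M) = (x : Matrix (Fin n) (Fin n) F).charpoly := by
  rw [chi_congr Submodule.topEquiv]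
  haveI : Module.Finite F M := Module.Finite.of_finite
  show (act M).charpoly = _
  have h : (AEval'.of fx).conj fx = act M := by
    ext m
    show AEval'.of fx (fx ((AEval'.of fx).symm m)) = (Polynomial.X : F[X]) • m
    rw [← AEval'.X_smul_of, LinearEquiv.apply_symm_apply]
  rw [← h, LinearEquiv.charpoly_conj, ← LinearMap.charpoly_toMatrix _ (Pi.basisFun F (Fin n)),
    LinearMap.toMatrix_eq_toMatrix', ← Matrix.toLin'_apply', LinearMap.toMatrix'_toLin']

theorem card_flags [Finite M] {μ : Fin n → ℕ} (hμ : ∑ i, μ i = n) :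
    Nat.card {W : Fin (n + 1) → Submodule F V // IsFlag μ W ∧ ∀ j, mv x (W j) = W j} =
      Nat.card {W : Fin (n + 1) → Submodule F[X] M //
        Cnt (fun U : Submodule F[X] M => finrank F U) μ W ∧ W (Fin.last n) = ⊤} := by
  haveI : Module.Finite F M := Module.Finite.of_finite
  have hflag : ∀ W : Fin (n + 1) → Submodule F[X] M,
      IsFlag μ (fun j => toV x (W j)) ↔
        Cnt (fun U : Submodule F[X] M => finrank F U) μ W ∧ W (Fin.last n) = ⊤ := by
    intro W
    constructor
    · rintro ⟨h1, h2⟩
      have h2' : ∀ j, finrank F (W j) = Unipotent.partSum μ j.val := fun j => (finrank_toV x _).symm.trans (h2 j)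
      refine ⟨⟨?_, fun i => ⟨(toV_le x).1 (h1 i), ?_⟩⟩, ?_⟩
      · have h := h2' 0
        rw [Fin.val_zero, Unipotent.partSum_zero] at h
        exact (Submodule.restrictScalars_eq_bot_iff F (p := W 0)).1 (Submodule.finrank_eq_zero.1 h)
      · show finrank F (W i.succ) = finrank F (W i.castSucc) + μ i
        rw [h2', h2', Fin.val_succ, Fin.val_castSucc, Unipotent.partSum_succ]
      · have h := h2' (Fin.last n)
        rw [Fin.val_last, Unipotent.partSum_last, hμ] at h
        refine (Submodule.restrictScalars_eq_top_iff F _ _ ).1 (Submodule.eq_top_of_finrank_eq (h.trans ?_))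
        rw [← (AEval'.of fx).finrank_eq, Module.finrank_fin_fun]
    · rintro ⟨⟨h0, hs⟩, -⟩
      refine ⟨fun i => (toV_le x).2 (hs i).1, fun j => (finrank_toV x _).trans ?_⟩
      induction j using Fin.induction with
      | zero =>
        rw [h0, Fin.val_zero, Unipotent.partSum_zero]
        exact Module.finrank_zero_of_subsingleton
      | succ j ih =>
        rw [Fin.val_castSucc] at ih
        rw [show finrank F (W j.succ) = finrank F (W j.castSucc) + μ j from (hs j).2, ih, Fin.val_succ,
          Unipotent.partSum_succ]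
  refine (Nat.card_eq_of_bijective (fun W => ⟨fun j => toV x (W.1 j), (hflag W.1).2 W.2, fun j => mv_toV x _⟩)
    ⟨?_, ?_⟩).symm
  · intro W W' h
    refine Subtype.ext (funext fun j => ?_)
    have h' := congrFun (congrArg Subtype.val h) j
    exact le_antisymm ((toV_le x).1 (le_of_eq h')) ((toV_le x).1 (le_of_eq h'.symm))
  · rintro ⟨W, hW, hfix⟩
    have he : (fun j => toV x (ofV x (W j) (hfix j))) = W := funext fun j => toV_ofV x _ _
    exact ⟨⟨fun j => ofV x (W j) (hfix j), (hflag _).1 (he.symm ▸ hW)⟩, Subtype.ext he⟩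

theorem value (p : ℕ) [CharP F p] (hx : (orderOf x).Coprime p) :
    Cfsg.unipotentCharacterGL n F (fun _ => 1) x =
      (-1 : ℂ) ^ (x : Matrix (Fin n) (Fin n) F).charpoly.natDegree * wt (Fintype.card F)
        (UniqueFactorizationMonoid.normalizedFactors (x : Matrix (Fin n) (Fin n) F).charpoly) := by
  classical
  haveI := finite_module x
  haveI := semisimple x p hx
  haveI : Module.Finite F M := Module.Finite.of_finite
  haveI : Fintype (Submodule F[X] M) := Fintype.ofFinite _
  have hdim : finrank F (⊤ : Submodule F[X] M) = n := by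
    rw [(Submodule.topEquiv.restrictScalars F).finrank_eq, ← (AEval'.of fx).finrank_eq, Module.finrank_fin_fun]
  have hmain := sum_perm_eq (L := Submodule F[X] M) (fun U : Submodule F[X] M => finrank F U)
    (fun U U' h => Submodule.finrank_lt_finrank_of_lt (s := U.restrictScalars F) (t := U'.restrictScalars F) h)
    Module.finrank_zero_of_subsingleton (fun U => wt (Nat.card F) (cs (F := F) U)) (wt_cs_bot _)
    (fun U hU => sum_wt_eq_zero hU) ⊤ hdim
  rw [Cfsg.Agent.StGL.cs, chi_top, Nat.card_eq_fintype_card] at hmain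
  rw [Matrix.charpoly_natDegree_eq_dim, Fintype.card_fin, ← hmain]
  refine Finset.sum_congr rfl fun κ _ => ?_
  by_cases hκ : UpOne κ
  · rw [if_pos hκ, if_pos (show ∀ i, (κ i).val ≤ 1 + i.val from hκ)]
    have hμ : ∑ i, stp κ i = n := Unipotent.sum_shiftComp (ν := fun _ => 1) (by simp) hκ
    rw [← card_flags x hμ, ← card_fixedBy hμ]
    rfl
  · rw [if_neg hκ, if_neg (show ¬ ∀ i, (κ i).val ≤ 1 + i.val from hκ)]

end

/-- Values of the Steinberg character of `GL_n(q)` (the partition-indexed character for `ν = (1,…,1)`, of degree `q^(n(n−1)/2)`) at elements of order prime to the characteristic: if the characteristic polynomial of such an element is `∏ f^(m_f)` over distinct monic irreducible `f`, the value is `∏_f (−1)^((deg f − 1) m_f) q^(deg f · m_f (m_f − 1)/2)`. (At elements of order divisible by the characteristic the value is 0; that is not part of this statement.) -/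
theorem result {F : Type*} [Field F] [Fintype F] [DecidableEq F] {q : ℕ} (hq : Fintype.card F = q) (p : ℕ) [Fact p.Prime] [CharP F p]
    {n : ℕ} (x : GL (Fin n) F) (hx : (orderOf x).Coprime p) :
    Cfsg.unipotentCharacterGL n F (fun _ => 1) x =
      ∏ f ∈ (UniqueFactorizationMonoid.normalizedFactors (x : Matrix (Fin n) (Fin n) F).charpoly).toFinset,
        (-1 : ℂ) ^ ((f.natDegree - 1) * (UniqueFactorizationMonoid.normalizedFactors (x : Matrix (Fin n) (Fin n) F).charpoly).count f) *
          (q : ℂ) ^ (f.natDegree * (UniqueFactorizationMonoid.normalizedFactors (x : Matrix (Fin n) (Fin n) F).charpoly).count f *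
            ((UniqueFactorizationMonoid.normalizedFactors (x : Matrix (Fin n) (Fin n) F).charpoly).count f - 1) / 2) := by
  rw [value x p hx, hq, neg_one_pow_mul_wt _ _ (Matrix.charpoly_monic _)]

end Cfsg.Agent.S2425
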