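import Cfsg.Statements.S2429
import Cfsg.Agent.Lib.Classical.SL2Tori
import Cfsg.Agent.Lib.Classical.SL2BorelTorus
-- import your own Cfsg.Agent.* helpers here

set_option autoImplicit false
open Cfsg

namespace Cfsg.Agent.S2429

/-- Let F be a finite field with q elements, q odd. Then SL₂ over F contains a cyclic subgroup T′ of order q + 1 (a non-split torus) with the following properties: T′ is its own centraliser, and indeed the centraliser of each element of T′ other than 1 and −1 is exactly T′; every element of SL₂ having no eigenvector in F² is conjugate to an element of T′; the normaliser of T′ has order 2(q + 1) and exactly (q + 7)/2 conjugacy classes; and every element of that normaliser outside T′ has square −1. -/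
theorem result {F : Type*} [Field F] [Fintype F] (hodd : Odd (Fintype.card F)) :
    ∃ T' : Subgroup (Matrix.SpecialLinearGroup (Fin 2) F), IsCyclic T' ∧ Nat.card T' = Fintype.card F + 1 ∧
      Subgroup.centralizer ((T' : Set (Matrix.SpecialLinearGroup (Fin 2) F))) = T' ∧
      (∀ g : Matrix.SpecialLinearGroup (Fin 2) F, g ∈ T' → (g : Matrix (Fin 2) (Fin 2) F) ≠ 1 → (g : Matrix (Fin 2) (Fin 2) F) ≠ -1 → Subgroup.centralizer ({g} : Set (Matrix.SpecialLinearGroup (Fin 2) F)) = T') ∧
      (∀ g : Matrix.SpecialLinearGroup (Fin 2) F, (∀ (c : F) (v : Fin 2 → F), v ≠ 0 → (g : Matrix (Fin 2) (Fin 2) F).mulVec v ≠ c • v) → ∃ h : Matrix.SpecialLinearGroup (Fin 2) F, h * g * h⁻¹ ∈ T') ∧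
      Nat.card (Subgroup.normalizer (T' : Set (Matrix.SpecialLinearGroup (Fin 2) F))) = 2 * (Fintype.card F + 1) ∧
      Nat.card (ConjClasses (Subgroup.normalizer (T' : Set (Matrix.SpecialLinearGroup (Fin 2) F)))) = (Fintype.card F + 7) / 2 ∧
      ∀ g : Matrix.SpecialLinearGroup (Fin 2) F, g ∈ Subgroup.normalizer (T' : Set (Matrix.SpecialLinearGroup (Fin 2) F)) → g ∉ T' → ((g * g) : Matrix (Fin 2) (Fin 2) F) = -1 := by
  have h2 := Cfsg.Agent.SL2BorelTorus.two_ne_zero_of_odd_card hodd
  obtain ⟨g₀, hg⟩ := Cfsg.Agent.SL2Tori.exists_noEigen (F := F)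
  obtain ⟨w, d, -, -⟩ := Cfsg.Agent.SL2Tori.exists_inverter hg
  refine ⟨Cfsg.Agent.SL2Tori.torus g₀, Cfsg.Agent.SL2Tori.isCyclic_torus hg,
    (Cfsg.Agent.SL2Tori.card_torus hg).trans (by rw [Nat.card_eq_fintype_card]),
    Cfsg.Agent.SL2Tori.centralizer_torus hg, ?_,
    fun g hgn => Cfsg.Agent.SL2Tori.exists_conj_mem hg hgn,
    (Cfsg.Agent.SL2Tori.card_normalizer hg).trans (by rw [Nat.card_eq_fintype_card]), ?_,
    fun g hgN hgT => Cfsg.Agent.SL2Tori.sq_outside hg hgN hgT⟩
  · intro g hgT h1 hm1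
    refine Cfsg.Agent.SL2Tori.torus_eq (Cfsg.Agent.SL2Tori.not_scalar hg) hgT fun hs => ?_
    rcases Cfsg.Agent.SL2Tori.val_eq_pm_one hs with e | e
    · exact h1 e
    · exact hm1 e
  · have h := Cfsg.Agent.InvertedTorus.card_conjClasses d (Cfsg.Agent.SL2Tori.card_sq_one h2)
    rw [Cfsg.Agent.SL2Tori.card_torus hg, Nat.card_eq_fintype_card (α := F)] at h
    omega

end Cfsg.Agent.S2429
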