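import Cfsg.Statements.S2433
import Cfsg.Agent.Lib.Classical.GL2Induced
-- import your own Cfsg.Agent.* helpers here

set_option autoImplicit false
open Cfsg

namespace Cfsg.Agent.S2433

/-- Let F be a finite field with q elements, q odd, α a multiplicative character of F, and R(α) the function on SL₂ induced from the linear character b ↦ α(b₁₁) of the upper triangular subgroup. Then R(α) takes the value α(a) + α(a⁻¹) at a diagonal element with entries a, a⁻¹, a² ≠ 1; the value 0 at every element with no eigenvector in F²; the value α(ε) at an upper triangular element with both diagonal entries ε and non-zero upper right entry; and the value (q + 1)α(ε) at the scalar element ε (ε = ±1). -/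
theorem result {F : Type*} [Field F] [Fintype F] [DecidableEq F] (hodd : Odd (Fintype.card F)) (α : MulChar F ℂ) (g : Matrix.SpecialLinearGroup (Fin 2) F) :
    ((g : Matrix (Fin 2) (Fin 2) F) 0 1 = 0 → (g : Matrix (Fin 2) (Fin 2) F) 1 0 = 0 → (g : Matrix (Fin 2) (Fin 2) F) 0 0 ^ 2 ≠ 1 →
      (Cfsg.indFun ((Cfsg.upperTriangularGL 2 F).comap Matrix.SpecialLinearGroup.toGL) (fun b => α (((b : Matrix.SpecialLinearGroup (Fin 2) F) : Matrix (Fin 2) (Fin 2) F) 0 0))) g = α ((g : Matrix (Fin 2) (Fin 2) F) 0 0) + α ((g : Matrix (Fin 2) (Fin 2) F) 1 1)) ∧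
    ((∀ (c : F) (v : Fin 2 → F), v ≠ 0 → (g : Matrix (Fin 2) (Fin 2) F).mulVec v ≠ c • v) → (Cfsg.indFun ((Cfsg.upperTriangularGL 2 F).comap Matrix.SpecialLinearGroup.toGL) (fun b => α (((b : Matrix.SpecialLinearGroup (Fin 2) F) : Matrix (Fin 2) (Fin 2) F) 0 0))) g = 0) ∧
    ((g : Matrix (Fin 2) (Fin 2) F) 1 0 = 0 → (g : Matrix (Fin 2) (Fin 2) F) 0 0 = (g : Matrix (Fin 2) (Fin 2) F) 1 1 → (g : Matrix (Fin 2) (Fin 2) F) 0 1 ≠ 0 →
      (Cfsg.indFun ((Cfsg.upperTriangularGL 2 F).comap Matrix.SpecialLinearGroup.toGL) (fun b => α (((b : Matrix.SpecialLinearGroup (Fin 2) F) : Matrix (Fin 2) (Fin 2) F) 0 0))) g = α ((g : Matrix (Fin 2) (Fin 2) F) 0 0)) ∧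
    ((g : Matrix (Fin 2) (Fin 2) F) 0 1 = 0 → (g : Matrix (Fin 2) (Fin 2) F) 1 0 = 0 → (g : Matrix (Fin 2) (Fin 2) F) 0 0 = (g : Matrix (Fin 2) (Fin 2) F) 1 1 →
      (Cfsg.indFun ((Cfsg.upperTriangularGL 2 F).comap Matrix.SpecialLinearGroup.toGL) (fun b => α (((b : Matrix.SpecialLinearGroup (Fin 2) F) : Matrix (Fin 2) (Fin 2) F) 0 0))) g = ((Fintype.card F : ℂ) + 1) * α ((g : Matrix (Fin 2) (Fin 2) F) 0 0)) := by
  refine ⟨?_, ?_, ?_, ?_⟩
  · intro h01 h10 ha
    have hd := g.det_coe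
    rw [Matrix.det_fin_two, h01, h10, mul_zero, sub_zero] at hd
    have hne : g.1 0 0 ≠ g.1 1 1 := fun e => ha (by rw [pow_two]; exact (by rw [← e] at hd; exact hd))
    refine Cfsg.Agent.GL2Induced.indFun_sl (fun x => α x) g (fun v => if v 1 = 0 then
      (if v 0 = 0 then 0 else α (g.1 0 0)) else (if v 0 = 0 then α (g.1 1 1) else 0)) (by simp)
      (fun v hv => Cfsg.Agent.GL2Induced.axes_spec_diag (fun x => α x) h01 h10 hne v hv) _ ?_
    rw [Cfsg.Agent.GL2Induced.sum_axes]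
  · intro h
    exact Cfsg.Agent.GL2Induced.indFun_sl (fun x => α x) g (fun _ => 0) rfl
      (fun v hv => ⟨fun c hc => absurd hc (h c v hv), fun _ => rfl⟩) _ (by simp)
  · intro h10 heq h01
    refine Cfsg.Agent.GL2Induced.indFun_sl (fun x => α x) g (fun v => if v 1 = 0 then
      (if v 0 = 0 then 0 else α (g.1 0 0)) else (if v 0 = 0 then 0 else 0)) (by simp)
      (fun v hv => Cfsg.Agent.GL2Induced.axes_spec_jordan (fun x => α x) h10 heq h01 v hv) _ ?_
    rw [Cfsg.Agent.GL2Induced.sum_axes, add_zero]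
  · intro h01 h10 heq
    refine Cfsg.Agent.GL2Induced.indFun_sl (fun x => α x) g
      (fun v => if v = 0 then 0 else α (g.1 0 0)) (by simp)
      (fun v hv => Cfsg.Agent.GL2Induced.scalar_spec (fun x => α x) ⟨h01, h10, heq⟩ v hv) _ ?_
    rw [Cfsg.Agent.GL2Induced.sum_nonzero]
    ring

end Cfsg.Agent.S2433
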