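import Cfsg.Statements.S2434
import Cfsg.Agent.Lib.Classical.SL2TableValues
-- import your own Cfsg.Agent.* helpers here

set_option autoImplicit false
open Cfsg

namespace Cfsg.Agent.S2434

/-- Let F be a finite field with q elements, q odd, and C a cyclic subgroup of order q + 1 of SL₂ over F (a non-split torus; it contains the centre). For every homomorphism θ from C to the non-zero complex numbers with θ² ≠ 1 there is an irreducible complex character χ of degree q − 1 such that χ(c) = −θ(c) − θ(c)⁻¹ for every non-central c in C, χ(zg) = θ(z)χ(g) for central z in C, χ vanishes at diagonal elements with entry a, a² ≠ 1, and χ takes the value −1 at every upper unitriangular element other than 1. Conversely every irreducible character of degree q − 1 has, for some such θ, the values −θ(c) − θ(c)⁻¹ at the non-central elements c of C (for q ≥ 5 these are exactly the cuspidal characters of degree q − 1). -/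
theorem result {F : Type*} [Field F] [Fintype F] (hodd : Odd (Fintype.card F))
    (C : Subgroup (Matrix.SpecialLinearGroup (Fin 2) F)) (hC : IsCyclic C) (hcard : Nat.card C = Fintype.card F + 1) :
    (∀ θ : C →* ℂˣ, (∃ c : C, θ c ^ 2 ≠ 1) →
      ∃ χ : Matrix.SpecialLinearGroup (Fin 2) F → ℂ, Cfsg.IsIrrCharacter (Matrix.SpecialLinearGroup (Fin 2) F) χ ∧ χ 1 = (Fintype.card F : ℂ) - 1 ∧
        (∀ c : C, (c : Matrix.SpecialLinearGroup (Fin 2) F) ∉ Subgroup.center (Matrix.SpecialLinearGroup (Fin 2) F) → χ c = -((θ c).val + (θ c)⁻¹.val)) ∧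
        (∀ c : C, (c : Matrix.SpecialLinearGroup (Fin 2) F) ∈ Subgroup.center (Matrix.SpecialLinearGroup (Fin 2) F) → ∀ g : Matrix.SpecialLinearGroup (Fin 2) F, χ ((c : Matrix.SpecialLinearGroup (Fin 2) F) * g) = (θ c).val * χ g) ∧
        (∀ g : Matrix.SpecialLinearGroup (Fin 2) F, (g : Matrix (Fin 2) (Fin 2) F) 0 1 = 0 → (g : Matrix (Fin 2) (Fin 2) F) 1 0 = 0 → (g : Matrix (Fin 2) (Fin 2) F) 0 0 ^ 2 ≠ 1 → χ g = 0) ∧
        (∀ g : Matrix.SpecialLinearGroup (Fin 2) F, (g : Matrix (Fin 2) (Fin 2) F) 1 0 = 0 → (g : Matrix (Fin 2) (Fin 2) F) 0 0 = 1 → (g : Matrix (Fin 2) (Fin 2) F) 1 1 = 1 → (g : Matrix (Fin 2) (Fin 2) F) 0 1 ≠ 0 → χ g = -1)) ∧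
    (∀ χ : Matrix.SpecialLinearGroup (Fin 2) F → ℂ, Cfsg.IsIrrCharacter (Matrix.SpecialLinearGroup (Fin 2) F) χ → χ 1 = (Fintype.card F : ℂ) - 1 →
      ∃ θ : C →* ℂˣ, (∃ c : C, θ c ^ 2 ≠ 1) ∧
        ∀ c : C, (c : Matrix.SpecialLinearGroup (Fin 2) F) ∉ Subgroup.center (Matrix.SpecialLinearGroup (Fin 2) F) → χ c = -((θ c).val + (θ c)⁻¹.val)) := by
  classical
  obtain ⟨g₀, hg₀, rfl⟩ := SL2TableValues.eq_torus C hC hcard
  haveI : Fintype (Matrix.SpecialLinearGroup (Fin 2) F) := Fintype.ofFinite _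
  have hsc : ∀ c : SL2Tori.torus g₀,
      (c : Matrix.SpecialLinearGroup (Fin 2) F) ∉ Subgroup.center (Matrix.SpecialLinearGroup (Fin 2) F) →
      ¬ TwoByTwo.IsScalar c.1.1 := by
    intro c hc hs
    obtain ⟨a, ha, e⟩ := SL2Principal.exists_sm_scalar hs
    exact hc (e ▸ SL2Principal.sm_zero_mem_center ha)
  refine ⟨fun θ ⟨c₁, hc₁⟩ => ?_, fun χ hχ hd => ?_⟩
  · have hθ : θ ^ 2 ≠ 1 := fun e => hc₁ (by
      simpa using congrArg (fun f : SL2Tori.torus g₀ →* ℂˣ => f c₁) e)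
    refine ⟨SL2Cuspidal.cusp θ, SL2Cuspidal.cusp_irr hg₀ hθ, SL2Cuspidal.cusp_one hg₀ θ,
      fun c hc => SL2Cuspidal.cusp_elliptic hg₀ θ c (hsc c hc), fun c hc g => ?_,
      fun g h01 h10 h => ?_, fun g h10 h00 h11 h01 => ?_⟩
    · rw [CharTools.irr_central_mul (SL2Cuspidal.cusp_irr hg₀ hθ) hc]
      congr 1
      obtain ⟨a, ha, e⟩ := SL2Principal.exists_sm_scalar
        (SL2TableValues.isScalar_of_mem_center hc)
      rw [e, SL2Cuspidal.cusp_scalar hg₀ θ ha, SL2Cuspidal.cusp_one hg₀ θ,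
        show SL2Cuspidal.zT g₀ ⟨a, ha⟩ = c from Subtype.ext e.symm,
        mul_div_cancel_left₀ _ (sub_ne_zero.2 (by exact_mod_cast (Fintype.one_lt_card (α := F)).ne'))]
    · obtain ⟨a, ha, -, rfl⟩ := SL2TableValues.exists_sm_diag h01 h10 h
      exact SL2Cuspidal.cusp_ne hg₀ θ ha 0
    · have e : g = SL2Principal.sm 1 (g.1 0 1) := Subtype.ext (by
        ext i j; fin_cases i <;> fin_cases j <;> simp [h10, h00, h11])
      rw [e, SL2Cuspidal.cusp_jordan hg₀ θ inv_one h01,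
        show SL2Cuspidal.zT g₀ ⟨1, inv_one⟩ = 1 from
          Subtype.ext (by rw [SL2Cuspidal.zT_coe, SL2Principal.sm_one]; rfl), map_one,
        Units.val_one]
  · obtain ⟨ν, -, hcls⟩ := SL2Table.exists_classes hodd
    obtain ⟨d⟩ := SL2Table.exists_oddData hodd hg₀ hcls
    have hq := Fintype.one_lt_card (α := F)
    have hwit : ∀ θ : SL2Tori.torus g₀ →* ℂˣ, θ ^ 2 ≠ 1 → ∃ c, θ c ^ 2 ≠ 1 := by
      intro θ h
      by_contra hc
      push Not at hc
      exact h (MonoidHom.ext fun c => by simpa using hc c)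
    rw [SL2TableValues.deg_sub] at hd
    have hodd' := Nat.odd_iff.1 hodd
    rcases SL2TableValues.cases_odd d hg₀ hχ with
      ⟨h', -⟩ | ⟨h', -⟩ | ⟨h', -⟩ | ⟨-, θ, hθ, rfl⟩ | ⟨h', e⟩ | ⟨h', -⟩
    case inr.inr.inr.inl =>
      exact ⟨θ, hwit θ hθ, fun c hc => SL2Cuspidal.cusp_elliptic hg₀ θ c (hsc c hc)⟩
    case inr.inr.inr.inr.inl =>
      rw [hd, Nat.cast_inj] at h'
      have hq3 : Fintype.card F = 3 := by omega
      obtain ⟨θ, hθ⟩ := SL2TableValues.exists_theta hg₀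
      refine ⟨θ, hwit θ hθ, fun c hc => ?_⟩
      rw [SL2TableValues.cusp_q_three hg₀ hq3 hθ (hsc c hc), neg_zero]
      have hn := SL2Tori.noEigen_of_mem hg₀ c.2 (hsc c hc)
      rcases e with rfl | rfl
      exacts [(SL2TableValues.ξ_elliptic d hn).1, (SL2TableValues.ξ_elliptic d hn).2]
    all_goals
      rw [hd, Nat.cast_inj] at h'
      omega

end Cfsg.Agent.S2434
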