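import Cfsg.Statements.S2435
import Cfsg.Agent.Lib.Classical.SL2TableValues
-- import your own Cfsg.Agent.* helpers here

set_option autoImplicit false
open Cfsg

namespace Cfsg.Agent.S2435

/-- Let F be a finite field with q elements, q odd and q ≥ 5, and χ an irreducible complex character of SL₂ over F. If χ has degree (q + 1)/2, then at a diagonal element with entry a, a² ≠ 1, χ takes the value 1 when a is a square in F and −1 otherwise. If χ has degree (q − 1)/2, then at an element g with no eigenvector in F² (so g has order dividing q + 1), χ takes the value −1 when g raised to the power (q + 1)/2 is the identity and the value 1 otherwise. -/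
theorem result {F : Type*} [Field F] [Fintype F] (hodd : Odd (Fintype.card F)) (hq : 5 ≤ Fintype.card F)
    (χ : Matrix.SpecialLinearGroup (Fin 2) F → ℂ) (hχ : Cfsg.IsIrrCharacter (Matrix.SpecialLinearGroup (Fin 2) F) χ) (g : Matrix.SpecialLinearGroup (Fin 2) F) :
    (χ 1 = (((Fintype.card F + 1) / 2 : ℕ) : ℂ) → (g : Matrix (Fin 2) (Fin 2) F) 0 1 = 0 → (g : Matrix (Fin 2) (Fin 2) F) 1 0 = 0 → (g : Matrix (Fin 2) (Fin 2) F) 0 0 ^ 2 ≠ 1 →
      (IsSquare ((g : Matrix (Fin 2) (Fin 2) F) 0 0) → χ g = 1) ∧ (¬ IsSquare ((g : Matrix (Fin 2) (Fin 2) F) 0 0) → χ g = -1)) ∧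
    (χ 1 = (((Fintype.card F - 1) / 2 : ℕ) : ℂ) → (∀ (c : F) (v : Fin 2 → F), v ≠ 0 → (g : Matrix (Fin 2) (Fin 2) F).mulVec v ≠ c • v) →
      (((g ^ ((Fintype.card F + 1) / 2)) : Matrix (Fin 2) (Fin 2) F) = 1 → χ g = -1) ∧ (((g ^ ((Fintype.card F + 1) / 2)) : Matrix (Fin 2) (Fin 2) F) ≠ 1 → χ g = 1)) := by
  classical
  haveI : Fintype (Matrix.SpecialLinearGroup (Fin 2) F) := Fintype.ofFinite _
  obtain ⟨g₀, hg₀⟩ := SL2Tori.exists_noEigen (F := F)
  obtain ⟨ν, -, hcls⟩ := SL2Table.exists_classes hodd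
  obtain ⟨d⟩ := SL2Table.exists_oddData hodd hg₀ hcls
  rw [Nat.odd_iff] at hodd
  refine ⟨fun hd h01 h10 h => ?_, fun hd hg => ?_⟩
  · obtain ⟨a, ha, ha0, rfl⟩ := SL2TableValues.exists_sm_diag h01 h10 h
    rw [← ha0]
    have hv : χ (SL2Principal.sm a 0) = d.α₀ (a : F) := by
      rcases SL2TableValues.cases_odd d hg₀ hχ with
        ⟨h', -⟩ | ⟨h', -⟩ | ⟨h', -⟩ | ⟨h', -⟩ | ⟨h', e⟩ | ⟨h', -⟩
      case inr.inr.inr.inr.inl =>
        rcases e with rfl | rfl
        exacts [(SL2TableValues.ξ_diag d ha 0).1, (SL2TableValues.ξ_diag d ha 0).2]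
      all_goals
        rw [hd, Nat.cast_inj] at h'
        omega
    rw [hv]
    exact d.α₀_val _ a.ne_zero
  · obtain ⟨c, hc, hgc⟩ := SL2TableValues.cusp_at_elliptic hg₀ 1 hg
    have hv : χ g = -(d.θ₀ c : ℂ) := by
      rcases SL2TableValues.cases_odd d hg₀ hχ with
        ⟨h', -⟩ | ⟨h', -⟩ | ⟨h', -⟩ | ⟨h', -⟩ | ⟨h', -⟩ | ⟨h', e⟩
      case inr.inr.inr.inr.inr =>
        rcases e with rfl | rfl
        exacts [(SL2TableValues.η_elliptic d hg₀ c hc hgc).1,
          (SL2TableValues.η_elliptic d hg₀ c hc hgc).2]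
      all_goals
        rw [hd, Nat.cast_inj] at h'
        omega
    obtain ⟨x, hx⟩ := isConj_iff.1 hgc
    set n := (Fintype.card F + 1) / 2
    have hiff : (((g ^ n : Matrix.SpecialLinearGroup (Fin 2) F)) : Matrix (Fin 2) (Fin 2) F) = 1 ↔
        c ^ n = 1 := by
      rw [← Subtype.coe_inj (a := c ^ n), SubmonoidClass.coe_pow, OneMemClass.coe_one, ← hx, conj_pow,
        conj_eq_one_iff]
      exact ⟨fun h => Subtype.ext h, fun h => by rw [h]; rfl⟩
    rw [hv]
    exact ⟨fun h => by rw [(d.θ₀_val c).1 (hiff.1 h)],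
      fun h => by rw [(d.θ₀_val c).2 (mt hiff.2 h), neg_neg]⟩

end Cfsg.Agent.S2435
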