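import Cfsg.Statements.S2436
import Cfsg.Agent.Lib.Classical.SL2McKayN
import Cfsg.Agent.Lib.Classical.SL2McKayG

set_option autoImplicit false
open Cfsg

namespace Cfsg.Agent.S2436

/-- Let F be a finite field with q elements, q odd, ℓ any prime and S a Sylow ℓ-subgroup of SL₂ over F with normaliser N. Then SL₂ and N have the same number of irreducible complex characters of degree not divisible by ℓ (the McKay equality holds for SL₂ over F at every prime). -/
theorem result {F : Type*} [Field F] [Fintype F] (hodd : Odd (Fintype.card F)) (ℓ : ℕ) [Fact ℓ.Prime] (S : Sylow ℓ (Matrix.SpecialLinearGroup (Fin 2) F)) :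
    Nat.card {χ : Cfsg.IrrCharacter (Matrix.SpecialLinearGroup (Fin 2) F) // ¬ ℓ ∣ Cfsg.charDegree (χ : Matrix.SpecialLinearGroup (Fin 2) F → ℂ)} =
      Nat.card {ψ : Cfsg.IrrCharacter (Subgroup.normalizer ((S : Subgroup (Matrix.SpecialLinearGroup (Fin 2) F)) : Set (Matrix.SpecialLinearGroup (Fin 2) F))) //
        ¬ ℓ ∣ Cfsg.charDegree (ψ : Subgroup.normalizer ((S : Subgroup (Matrix.SpecialLinearGroup (Fin 2) F)) : Set (Matrix.SpecialLinearGroup (Fin 2) F)) → ℂ)} := by
  classical
  show SL2McKay.countPrime ℓ _ = SL2McKay.countPrime ℓ _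
  have hp := (Fact.out : ℓ.Prime)
  obtain ⟨g1, g2, g3, g4, g5⟩ := SL2McKay.countPrime_sl hodd ℓ
  by_cases h2 : ℓ = 2
  · subst h2
    rw [g4 rfl, SL2McKay.count_two hodd S]
  by_cases hq : ℓ ∣ Fintype.card F
  · obtain ⟨n, hp', hn⟩ := FiniteField.card F (ringChar F)
    have e : ℓ = ringChar F := (Nat.prime_dvd_prime_iff_eq hp hp').1 (hp.dvd_of_dvd_pow (hn ▸ hq))
    haveI : CharP F ℓ := by rw [e]; exact ringChar.charP F
    rw [g1 hq, SL2McKay.count_char hodd ℓ S]
  by_cases hm : ℓ ∣ Fintype.card F - 1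
  · have := (SL2McKay.count_odd hodd ℓ h2 S).1 hm
    have := g2 h2 hm
    omega
  by_cases hP : ℓ ∣ Fintype.card F + 1
  · have := (SL2McKay.count_odd hodd ℓ h2 S).2 hP
    have := g3 h2 hP
    omega
  have hn : ¬ ℓ ∣ Nat.card (Matrix.SpecialLinearGroup (Fin 2) F) := by
    rw [TwoByTwo.card_sl_two, Nat.card_eq_fintype_card, show Fintype.card F ^ 2 - 1 =
      (Fintype.card F + 1) * (Fintype.card F - 1) by simpa using Nat.sq_sub_sq (Fintype.card F) 1]
    intro h
    rcases hp.dvd_mul.1 h with h | h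
    · exact hq h
    rcases hp.dvd_mul.1 h with h | h
    · exact hP h
    · exact hm h
  have hS : (S : Subgroup (Matrix.SpecialLinearGroup (Fin 2) F)) = ⊥ := by
    rw [← Subgroup.card_eq_one, S.card_eq_multiplicity,
      Nat.factorization_eq_zero_of_not_dvd hn, pow_zero]
  set N := Subgroup.normalizer ((S : Subgroup (Matrix.SpecialLinearGroup (Fin 2) F)) :
    Set (Matrix.SpecialLinearGroup (Fin 2) F)) with hN
  have hT : N = ⊤ := by
    rw [hN, hS]
    exact Subgroup.normalizer_eq_top ⊥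
  rw [g5 hn, SL2McKay.conjClasses_congr ((MulEquiv.subgroupCongr hT).trans Subgroup.topEquiv).symm]
  refine (SL2McKay.count_of_abelian_normal (⊥ : Subgroup N) inferInstance fun h => hn ?_).symm
  rw [Subgroup.index_bot] at h
  exact h.trans (Subgroup.card_subgroup_dvd_card N)

end Cfsg.Agent.S2436
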