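import Cfsg.Statements.S2455
import Cfsg.Agent.Lib.Classical.PSL2Products
-- import your own Cfsg.Agent.* helpers here

set_option autoImplicit false
open Cfsg

namespace Cfsg.Agent.S2455

/-- A strong covering result in the direction of Thompson's conjecture (non-identity elements) for PSL(2,q), q odd: let F be a finite field of odd characteristic p with at least 5 elements and let x ∈ PSL(2,F) have order greater than 2 and not divisible by p (so x is not unipotent). Then every non-identity element of PSL(2,F) is a product of two conjugates of x. -/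
theorem result {F : Type*} [Field F] [Fintype F] (p : ℕ) [Fact p.Prime] [CharP F p] (hp : p ≠ 2) (h5 : 5 ≤ Fintype.card F)
    (x : Matrix.ProjectiveSpecialLinearGroup (Fin 2) F) (hx2 : 2 < orderOf x) (hxp : ¬ p ∣ orderOf x) : ∀ g : Matrix.ProjectiveSpecialLinearGroup (Fin 2) F, g ≠ 1 → ∃ u v : Matrix.ProjectiveSpecialLinearGroup (Fin 2) F, g = (u * x * u⁻¹) * (v * x * v⁻¹) := by
  intro g hg
  have h2 : (2 : F) ≠ 0 := by
    intro h
    have h' : ((2 : ℕ) : F) = 0 := by exact_mod_cast h
    exact hp ((Nat.prime_dvd_prime_iff_eq (Fact.out : p.Prime) Nat.prime_two).1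
      ((CharP.cast_eq_zero_iff F p 2).1 h'))
  obtain ⟨X, rfl⟩ := Cfsg.Agent.PSL2Products.pr_surjective x
  have hns : ¬ Cfsg.Agent.TwoByTwo.IsScalar X.1 := fun h => by
    rw [(Cfsg.Agent.PSL2Products.pr_eq_one_iff X).2 h, orderOf_one] at hx2
    omega
  have hd : X.1.trace ^ 2 - 4 ≠ 0 := fun h => by
    have h' := orderOf_dvd_of_pow_eq_one (Cfsg.Agent.PSL2Products.trace_eq_two_cases h p)
    rcases (Nat.dvd_prime (Fact.out : p.Prime)).1 h' with e | e
    · omega
    · exact hxp (e ▸ dvd_rfl)
  have hs : X.1.trace ≠ 0 := fun h => by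
    have := Nat.le_of_dvd two_pos
      (orderOf_dvd_of_pow_eq_one (Cfsg.Agent.PSL2Products.mul_self_of_trace_zero h))
    omega
  exact Cfsg.Agent.PSL2Products.covering hns hd hs (fun h => absurd h h2) g hg

end Cfsg.Agent.S2455
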