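import Cfsg.Statements.S2456
import Cfsg.Agent.Lib.Classical.PSL2Products
-- import your own Cfsg.Agent.* helpers here

set_option autoImplicit false
open Cfsg

namespace Cfsg.Agent.S2456

/-- A strong covering result in the direction of Thompson's conjecture (non-identity elements) for PSL(2,q), q even: let F be a finite field of characteristic 2 with q ≥ 4 elements and let x ∈ PSL(2,F) have order greater than 2 and not dividing q + 1. Then every non-identity element of PSL(2,F) is a product of two conjugates of x. -/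
theorem result {F : Type*} [Field F] [Fintype F] [CharP F 2] (h4 : 4 ≤ Fintype.card F)
    (x : Matrix.ProjectiveSpecialLinearGroup (Fin 2) F) (hx2 : 2 < orderOf x) (hxq : ¬ orderOf x ∣ Fintype.card F + 1) : ∀ g : Matrix.ProjectiveSpecialLinearGroup (Fin 2) F, g ≠ 1 → ∃ u v : Matrix.ProjectiveSpecialLinearGroup (Fin 2) F, g = (u * x * u⁻¹) * (v * x * v⁻¹) := by
  intro g hg
  haveI : Fact (Nat.Prime 2) := ⟨Nat.prime_two⟩
  obtain ⟨X, rfl⟩ := Cfsg.Agent.PSL2Products.pr_surjective x
  have hns : ¬ Cfsg.Agent.TwoByTwo.IsScalar X.1 := fun h => by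
    rw [(Cfsg.Agent.PSL2Products.pr_eq_one_iff X).2 h, orderOf_one] at hx2
    omega
  have hs : X.1.trace ≠ 0 := fun h => by
    have := Nat.le_of_dvd two_pos
      (orderOf_dvd_of_pow_eq_one (Cfsg.Agent.PSL2Products.mul_self_of_trace_zero h))
    omega
  have h2 : (2 : F) = 0 := CharTwo.two_eq_zero
  have hd : X.1.trace ^ 2 - 4 ≠ 0 := by
    rw [show (4 : F) = 2 * 2 by norm_num, h2, mul_zero, sub_zero]
    exact pow_ne_zero 2 hs
  refine Cfsg.Agent.PSL2Products.covering hns hd hs (fun _ => ?_) g hg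
  by_contra hno
  simp only [not_exists] at hno
  have hN : Cfsg.Agent.SL2Tori.NoEigen X.1 := Cfsg.Agent.SL2Tori.noEigen_iff.2 fun a ha => hno a (by
    rw [X.det_coe] at ha
    exact ha)
  apply hxq
  have hmem : X ∈ Cfsg.Agent.SL2Tori.torus X := Subgroup.mem_centralizer_singleton_iff.2 rfl
  have h1 := Subgroup.orderOf_dvd_natCard _ hmem
  rw [Cfsg.Agent.SL2Tori.card_torus hN, Nat.card_eq_fintype_card] at h1
  exact (orderOf_map_dvd Cfsg.Agent.PSL2Products.pr X).trans h1

end Cfsg.Agent.S2456
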