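import Cfsg.Statements.S2459
import Cfsg.Agent.Lib.Thompson.PSL3
-- import your own Cfsg.Agent.* helpers here

set_option autoImplicit false
open Cfsg

namespace Cfsg.Agent.S2459

/-- A form of Thompson's conjecture for PSL(3,q), q > 2 (covering the non-identity elements), with a semisimple class: for F a finite field of characteristic p with more than 2 elements there is an element x of PSL(3,F) of order prime to p such that every non-identity element of PSL(3,F) is a product of two conjugates of x. -/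
theorem result {F : Type*} [Field F] [Fintype F] (p : ℕ) [Fact p.Prime] [CharP F p] (h3 : 3 ≤ Fintype.card F) :
    ∃ x : Matrix.ProjectiveSpecialLinearGroup (Fin 3) F, ¬ p ∣ orderOf x ∧ ∀ g : Matrix.ProjectiveSpecialLinearGroup (Fin 3) F, g ≠ 1 → ∃ u v : Matrix.ProjectiveSpecialLinearGroup (Fin 3) F, g = (u * x * u⁻¹) * (v * x * v⁻¹) := by
  classical
  -- elements of `SL₃` outside the centre are not scalar
  have nonscalar : ∀ g : Matrix.SpecialLinearGroup (Fin 3) F,
      (QuotientGroup.mk g : Matrix.ProjectiveSpecialLinearGroup (Fin 3) F) ≠ 1 →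
      ∀ z : F, g.1 ≠ Matrix.scalar (Fin 3) z := by
    intro g hg z hz
    apply hg
    rw [QuotientGroup.eq_one_iff, Matrix.SpecialLinearGroup.mem_center_iff]
    refine ⟨z, ?_, hz.symm⟩
    have h := g.2
    rw [hz, Matrix.scalar_apply, Matrix.det_diagonal] at h
    simpa using h
  suffices h : ∃ x : Matrix.SpecialLinearGroup (Fin 3) F, (∃ k, ¬ p ∣ k ∧ x ^ k = 1) ∧
      ∀ g : Matrix.SpecialLinearGroup (Fin 3) F, (∀ z : F, g.1 ≠ Matrix.scalar (Fin 3) z) →
        ∃ u v : Matrix.SpecialLinearGroup (Fin 3) F, g = (u * x * u⁻¹) * (v * x * v⁻¹) by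
    obtain ⟨x, ⟨k, hk, hxk⟩, hx⟩ := h
    refine ⟨QuotientGroup.mk x, fun hp => hk (hp.trans (orderOf_dvd_of_pow_eq_one ?_)), fun g hg => ?_⟩
    · rw [← QuotientGroup.mk_pow, hxk]; rfl
    · obtain ⟨g, rfl⟩ := QuotientGroup.mk_surjective g
      obtain ⟨u, v, huv⟩ := hx g (nonscalar g hg)
      exact ⟨QuotientGroup.mk u, QuotientGroup.mk v, by rw [huv]; rfl⟩
  rcases eq_or_lt_of_le h3 with h3 | h4
  · -- the field with three elements
    have : Fact (Nat.Prime 3) := ⟨Nat.prime_three⟩
    let e : F ≃+* ZMod 3 := (ZMod.ringEquivOfPrime F Nat.prime_three h3.symm).symm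
    have hp3 : p = 3 := by
      have h := ringChar.eq F p
      have : CharP F 3 := (RingHom.charP_iff_charP e.symm.toRingHom 3).1 inferInstance
      exact h.symm.trans (ringChar.eq F 3)
    let X : Matrix.SpecialLinearGroup (Fin 3) (ZMod 3) := ⟨Cfsg.Agent.Thompson3.x13, Cfsg.Agent.Thompson3.x13_det⟩
    let E := Matrix.SpecialLinearGroup.map (n := Fin 3) e.symm.toRingHom
    refine ⟨E X, ⟨13, by rw [hp3]; decide, ?_⟩, fun g hg => ?_⟩
    · rw [← map_pow, show X ^ 13 = 1 from Subtype.ext (by
        exact Cfsg.Agent.Thompson3.x13_pow), map_one]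
    · let g' := Matrix.SpecialLinearGroup.map e.toRingHom g
      have hg' : ∀ z : ZMod 3, g'.1 ≠ Matrix.scalar (Fin 3) z := by
        intro z hz
        apply hg (e.symm z)
        ext i j
        have := congrArg e.symm (congrFun₂ hz i j)
        by_cases hij : i = j
        · subst hij; simpa [g'] using this
        · simpa [g', hij] using this
      obtain ⟨u, v, hu, hv, huv⟩ := Cfsg.Agent.Thompson3.exists_two_conj3 g' hg'
      let U : Matrix.SpecialLinearGroup (Fin 3) (ZMod 3) := ⟨u, hu⟩
      let V : Matrix.SpecialLinearGroup (Fin 3) (ZMod 3) := ⟨v, hv⟩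
      refine ⟨E U, E V, ?_⟩
      have h1 : g' = (U * X * U⁻¹) * (V * X * V⁻¹) := Subtype.ext huv
      have h2 : E g' = g := Subtype.ext (by ext i j; simp [E, g'])
      rw [← h2, h1]; simp only [map_mul, map_inv]
  · -- at least four elements
    obtain ⟨a, ha0, ha1, ha2⟩ : ∃ a : F, a ≠ 0 ∧ a ≠ 1 ∧ a * a ≠ 1 := by
      by_contra h
      push Not at h
      have hsub : (Finset.univ : Finset F) ⊆ {0, 1, -1} := by
        intro y _
        by_cases h0 : y = 0
        · simp [h0]
        by_cases h1 : y = 1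
        · simp [h1]
        rcases mul_self_eq_one_iff.1 (h y h0 h1) with hy | hy <;> simp [hy]
      have h1 := Finset.card_le_card hsub
      have h2 := Finset.card_le_three (a := (0 : F)) (b := 1) (c := -1)
      simp only [Finset.card_univ] at h1
      omega
    let x : Matrix.SpecialLinearGroup (Fin 3) F := ⟨Matrix.diagonal ![1, a, a⁻¹], by
      simp [Matrix.det_diagonal, Fin.prod_univ_three, ha0]⟩
    refine ⟨x, ⟨Fintype.card F - 1, ?_, Subtype.ext ?_⟩,
      fun g hg => Cfsg.Agent.Thompson3.exists_two_conj a ha0 ha1 ha2 x rfl g hg⟩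
    · intro hd
      have hpc : p ∣ Fintype.card F := (CharP.cast_eq_zero_iff F p _).1 (FiniteField.cast_card_eq_zero F)
      have h1 : p ∣ Fintype.card F - (Fintype.card F - 1) := Nat.dvd_sub hpc hd
      rw [Nat.sub_sub_self (by omega)] at h1
      exact (Fact.out : p.Prime).one_lt.ne' (Nat.dvd_one.1 h1)
    · change (Matrix.diagonal ![1, a, a⁻¹]) ^ _ = 1
      rw [Matrix.diagonal_pow, ← Matrix.diagonal_one]
      congr 1
      ext i
      fin_cases i <;> simp [FiniteField.pow_card_sub_one_eq_one, ha0]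

end Cfsg.Agent.S2459
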