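import Cfsg.Statements.S2460
import Cfsg.Agent.Lib.Thompson.PSp4

set_option autoImplicit false
open Cfsg

namespace Cfsg.Agent.S2460

/-- A form of Thompson's conjecture for the simple groups PSp(4,q), q ≥ 3 (covering the non-identity elements), with a semisimple class: for F a finite field of characteristic p with at least 3 elements there is an element x of PSp(4,F) of order prime to p such that every non-identity element of PSp(4,F) is a product of two conjugates of x. -/
theorem result {F : Type*} [Field F] [Fintype F] (p : ℕ) [Fact p.Prime] [CharP F p] (h3 : 3 ≤ Fintype.card F) :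
    ∃ x : Cfsg.PSp 2 F, ¬ p ∣ orderOf x ∧ ∀ g : Cfsg.PSp 2 F, g ≠ 1 → ∃ u v : Cfsg.PSp 2 F, g = (u * x * u⁻¹) * (v * x * v⁻¹) := by
  classical
  obtain ⟨a, b, he⟩ := Cfsg.Agent.ThompsonSp4.exists_ell h3
  obtain ⟨B, hB⟩ : ∃ B : GL (Fin 2) F, B.1 = Cfsg.Agent.ThompsonSp4.comp a b :=
    ⟨Matrix.GeneralLinearGroup.mkOfDetNeZero (Cfsg.Agent.ThompsonSp4.comp a b) (by
      simpa [Cfsg.Agent.ThompsonSp4.comp, Matrix.det_fin_two] using he.ne_zero), rfl⟩
  refine ⟨QuotientGroup.mk (Cfsg.Agent.ThompsonSp4.dia B), fun hp => ?_, fun g hg => ?_⟩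
  · have hB1 : B ^ (Fintype.card F ^ 2 - 1) = 1 := Units.ext (by
      rw [Units.val_pow_eq_pow_val, hB, Cfsg.Agent.ThompsonSp4.comp_pow he, Units.val_one])
    have hd : Cfsg.Agent.ThompsonSp4.dia B ^ (Fintype.card F ^ 2 - 1) = 1 := by
      show Cfsg.Agent.ThompsonSp4.diaHom B ^ _ = 1
      rw [← map_pow, hB1, map_one]
    have h1 := hp.trans (orderOf_dvd_of_pow_eq_one (n := Fintype.card F ^ 2 - 1)
      (by rw [← QuotientGroup.mk_pow, hd]; rfl))
    have hpc : p ∣ Fintype.card F := (CharP.cast_eq_zero_iff F p _).1 (FiniteField.cast_card_eq_zero F)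
    have h2 := Nat.dvd_sub (dvd_pow hpc two_ne_zero) h1
    rw [Nat.sub_sub_self (Nat.one_le_pow _ _ Fintype.card_pos)] at h2
    exact (Fact.out : p.Prime).one_lt.ne' (Nat.dvd_one.1 h2)
  · obtain ⟨g, rfl⟩ := QuotientGroup.mk_surjective g
    obtain ⟨z, hz, u, v, huv⟩ := Cfsg.Agent.ThompsonSp4.cover he hB g fun h => hg ((QuotientGroup.eq_one_iff g).2 h)
    refine ⟨QuotientGroup.mk u, QuotientGroup.mk v, ?_⟩
    have h1 : (QuotientGroup.mk (z * g) : Cfsg.PSp 2 F) = QuotientGroup.mk g := by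
      rw [QuotientGroup.mk_mul, (QuotientGroup.eq_one_iff z).2 hz, one_mul]
    rw [← h1, huv]
    rfl

end Cfsg.Agent.S2460
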