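import Cfsg.Statements.S2466
import Cfsg.Agent.Lib.Spectrum.AltOrders
-- import your own Cfsg.Agent.* helpers here

set_option autoImplicit false
open Cfsg

namespace Cfsg.Agent.S2466

/-- Adjacency of odd primes in the prime graph of the alternating groups: let r ≠ s be odd primes at most n. The alternating group of degree n has an element of order r·s if and only if r + s ≤ n. -/
theorem result (n r s : ℕ) (hr : r.Prime) (hs : s.Prime) (hr2 : r ≠ 2) (hs2 : s ≠ 2) (hrs : r ≠ s) (hrn : r ≤ n) (hsn : s ≤ n) :
    (r * s ∈ Set.range (orderOf : alternatingGroup (Fin n) → ℕ)) ↔ r + s ≤ n := by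
  rw [Cfsg.Agent.AltOrders.mem_range_iff]
  constructor
  · rintro ⟨m, h1, h2, -, h4⟩
    obtain ⟨a, ha, hra⟩ := Cfsg.Agent.AltOrders.exists_dvd_of_prime_dvd_lcm hr m (h4 ▸ dvd_mul_right r s)
    obtain ⟨b, hb, hsb⟩ := Cfsg.Agent.AltOrders.exists_dvd_of_prime_dvd_lcm hs m (h4 ▸ dvd_mul_left s r)
    have la := Nat.le_of_dvd (by have := h2 a ha; omega) hra
    have lb := Nat.le_of_dvd (by have := h2 b hb; omega) hsb
    by_cases hab : a = b
    · subst hab
      have := Nat.le_of_dvd (by have := h2 a ha; omega)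
        (((Nat.coprime_primes hr hs).2 hrs).mul_dvd_of_dvd_of_dvd hra hsb)
      have := Multiset.le_sum_of_mem ha
      have := Nat.add_le_mul hr.two_le hs.two_le
      omega
    · have := Cfsg.Agent.AltOrders.le_sum_pair ha hb hab
      omega
  · intro h
    refine ⟨r ::ₘ s ::ₘ 0, by simpa using h, ?_, ?_, ?_⟩
    · intro a ha
      simp at ha
      rcases ha with rfl | rfl
      · exact hr.two_le
      · exact hs.two_le
    · have h1 := hr.eq_two_or_odd.resolve_left hr2
      have h2 := hs.eq_two_or_odd.resolve_left hs2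
      simp [Nat.even_iff]
      omega
    · simp only [Multiset.lcm_cons, Multiset.lcm_zero]
      show Nat.lcm r (Nat.lcm s 1) = r * s
      rw [Nat.lcm_one_right, ((Nat.coprime_primes hr hs).2 hrs).lcm_eq_mul]

end Cfsg.Agent.S2466
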