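import Cfsg.Statements.S2467
import Cfsg.Agent.Lib.Spectrum.AltOrders
-- import your own Cfsg.Agent.* helpers here

set_option autoImplicit false
open Cfsg

namespace Cfsg.Agent.S2467

/-- Adjacency of 2 and an odd prime in the prime graph of the alternating groups: let r be an odd prime at most n, with n ≥ 4. The alternating group of degree n has an element of order 2r if and only if r + 4 ≤ n. -/
theorem result (n r : ℕ) (hn : 4 ≤ n) (hr : r.Prime) (hr2 : r ≠ 2) (hrn : r ≤ n) :
    (2 * r ∈ Set.range (orderOf : alternatingGroup (Fin n) → ℕ)) ↔ r + 4 ≤ n := by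
  rw [Cfsg.Agent.AltOrders.mem_range_iff]
  constructor
  · rintro ⟨m, h1, h2, h3, h4⟩
    obtain ⟨a, ha, h2a⟩ := Cfsg.Agent.AltOrders.exists_dvd_of_prime_dvd_lcm Nat.prime_two m
      (h4 ▸ dvd_mul_right 2 r)
    obtain ⟨b, hb, hrb⟩ := Cfsg.Agent.AltOrders.exists_dvd_of_prime_dvd_lcm hr m (h4 ▸ dvd_mul_left r 2)
    obtain ⟨t, rfl⟩ := Multiset.exists_cons_of_mem ha
    have hodd : ∃ c ∈ t, ¬ Odd c := by
      by_contra hcon
      have ht := Cfsg.Agent.AltOrders.even_sum_add_card t fun x hx => by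
        by_contra hx'
        exact hcon ⟨x, hx, hx'⟩
      rw [Multiset.sum_cons, Multiset.card_cons, Nat.even_iff] at h3
      rw [Nat.even_iff] at ht
      omega
    obtain ⟨c, hc, hc2⟩ := hodd
    rw [Nat.not_odd_iff_even, Nat.even_iff] at hc2
    obtain ⟨u, rfl⟩ := Multiset.exists_cons_of_mem hc
    have la := h2 a ha
    have lc := h2 c (by simp)
    have hr3 : 3 ≤ r := by have := hr.two_le; omega
    have hcop : Nat.Coprime 2 r := (Nat.coprime_primes Nat.prime_two hr).2 (Ne.symm hr2)
    simp only [Multiset.sum_cons] at h1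
    simp only [Multiset.mem_cons] at hb
    rcases hb with rfl | rfl | hb
    · have := Nat.le_of_dvd (by omega) (hcop.mul_dvd_of_dvd_of_dvd h2a hrb)
      omega
    · have := Nat.le_of_dvd (by omega) (hcop.mul_dvd_of_dvd_of_dvd (Nat.dvd_of_mod_eq_zero hc2) hrb)
      omega
    · have lb := h2 b (by simp [hb])
      have := Nat.le_of_dvd (by omega) hrb
      have := Multiset.le_sum_of_mem hb
      omega
  · intro h
    refine ⟨r ::ₘ 2 ::ₘ 2 ::ₘ 0, by simpa using h, ?_, ?_, ?_⟩
    · intro a ha
      simp at ha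
      rcases ha with rfl | rfl
      · exact hr.two_le
      · exact le_rfl
    · have h1 := hr.eq_two_or_odd.resolve_left hr2
      simp [Nat.even_iff]
      omega
    · simp only [Multiset.lcm_cons, Multiset.lcm_zero]
      show Nat.lcm r (Nat.lcm 2 (Nat.lcm 2 1)) = 2 * r
      rw [show Nat.lcm 2 (Nat.lcm 2 1) = 2 from rfl,
        ((Nat.coprime_primes hr Nat.prime_two).2 hr2).lcm_eq_mul, mul_comm]

end Cfsg.Agent.S2467
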