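import Cfsg.Statements.S2468
import Cfsg.Agent.Lib.Classical.PrimeGraphPSL
-- import your own Cfsg.Agent.* helpers here

set_option autoImplicit false
open Cfsg

namespace Cfsg.Agent.S2468

/-- Adjacency of two odd primes in the prime graph of PSL(n,q): let F be a finite field of characteristic p with q elements, n ≥ 2 with PSL(n,F) simple, and let r ≠ s be odd primes different from p dividing the order of PSL(n,F). Let k and l be the multiplicative orders of q modulo r and modulo s, and suppose 2 ≤ k ≤ l. Then PSL(n,F) has NO element of order r·s if and only if k + l > n and k does not divide l. -/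
theorem result {F : Type*} [Field F] [Fintype F] (p : ℕ) [Fact p.Prime] [CharP F p] (n : ℕ) (hn : 2 ≤ n) (hsmall : n = 2 → 4 ≤ Fintype.card F)
    (r s : ℕ) (hr : r.Prime) (hs : s.Prime) (hr2 : r ≠ 2) (hs2 : s ≠ 2) (hrp : r ≠ p) (hsp : s ≠ p) (hrs : r ≠ s)
    (hrG : r ∣ Nat.card (Matrix.ProjectiveSpecialLinearGroup (Fin n) F)) (hsG : s ∣ Nat.card (Matrix.ProjectiveSpecialLinearGroup (Fin n) F))
    (k l : ℕ) (hk : k = orderOf ((Fintype.card F : ℕ) : ZMod r)) (hl : l = orderOf ((Fintype.card F : ℕ) : ZMod s))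
    (h2k : 2 ≤ k) (hkl : k ≤ l) :
    (r * s ∉ Set.range (orderOf : Matrix.ProjectiveSpecialLinearGroup (Fin n) F → ℕ)) ↔ (n < k + l ∧ ¬ k ∣ l) := by
  subst hk hl
  obtain ⟨-, hln⟩ := PrimeGraphPSL.orderOf_le_of_dvd_card hs p hsp hsG
  constructor
  · intro h
    by_contra hc
    rw [not_and_or, not_lt, not_not] at hc
    rcases hc with hc | hc
    · exact h (PrimeGraphPSL.exists_rs_of_add p hr hs hrs h2k (h2k.trans hkl) hc)
    · exact h (PrimeGraphPSL.exists_rs_of_dvd p hr hs hrs h2k (h2k.trans hkl) hln hc)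
  · rintro ⟨hsum, hndvd⟩ ⟨x, hx⟩
    rcases PrimeGraphPSL.rs_necessary p hr hs hrp hsp hx with ⟨d, hd0, hdn, hkd, hld⟩ | h
    · obtain ⟨c, rfl⟩ := hld
      rcases Nat.lt_or_ge c 2 with hc | hc
      · obtain rfl : c = 1 := by
          rcases Nat.eq_zero_or_pos c with rfl | hc0
          · simp at hd0
          · omega
        exact hndvd (by rwa [mul_one] at hkd)
      · have := Nat.mul_le_mul_left (orderOf ((Fintype.card F : ℕ) : ZMod s)) hc
        omega
    · omega

end Cfsg.Agent.S2468
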