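import Cfsg.Statements.S2470
import Cfsg.Agent.Lib.Classical.PrimeGraphPSL
-- import your own Cfsg.Agent.* helpers here

set_option autoImplicit false
open Cfsg

namespace Cfsg.Agent.S2470

/-- Adjacency of an odd prime and the characteristic in the prime graph of PSL(n,q): let F be a finite field of characteristic p with q elements, n ≥ 2 with PSL(n,F) simple, and let r ≠ p be an odd prime dividing the order of PSL(n,F), with k the multiplicative order of q modulo r. Then PSL(n,F) has NO element of order r·p if and only if either k > n − 2, or n = 3, r = 3 and 3 divides q − 1 exactly once. -/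
theorem result {F : Type*} [Field F] [Fintype F] (p : ℕ) [Fact p.Prime] [CharP F p] (n : ℕ) (hn : 2 ≤ n) (hsmall : n = 2 → 4 ≤ Fintype.card F)
    (r : ℕ) (hr : r.Prime) (hr2 : r ≠ 2) (hrp : r ≠ p) (hrG : r ∣ Nat.card (Matrix.ProjectiveSpecialLinearGroup (Fin n) F))
    (k : ℕ) (hk : k = orderOf ((Fintype.card F : ℕ) : ZMod r)) :
    (r * p ∉ Set.range (orderOf : Matrix.ProjectiveSpecialLinearGroup (Fin n) F → ℕ)) ↔
      (n - 2 < k ∨ (n = 3 ∧ r = 3 ∧ 3 ∣ Fintype.card F - 1 ∧ ¬ 9 ∣ Fintype.card F - 1)) := by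
  subst hk
  obtain ⟨hk1, -⟩ := PrimeGraphPSL.orderOf_le_of_dvd_card hr p hrp hrG
  refine ⟨fun h => ?_, fun h ⟨x, hx⟩ => PrimeGraphPSL.rp_necessary p hr hrp hn hx hk1 h⟩
  by_contra hc
  rw [not_or, not_lt] at hc
  refine h ?_
  rcases Nat.lt_or_ge (orderOf ((Fintype.card F : ℕ) : ZMod r)) 2 with hk2 | hk2
  · have hrq : r ∣ Fintype.card F - 1 := by
      have := (PrimeGraphPSL.orderOf_zmod_dvd_iff (r := r) (j := 1) (Fintype.card_pos (α := F))).1
        (by rw [Nat.dvd_one]; omega)
      rwa [pow_one] at this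
    rcases Nat.lt_or_ge n 4 with h4 | h4
    · refine PrimeGraphPSL.exists_rp_three p hr hrp hrq (by omega) fun h3 => ?_
      by_contra h9
      exact hc.2 ⟨by omega, h3, h3 ▸ hrq, h9⟩
    · exact PrimeGraphPSL.exists_rp_of_four_le p hr hrp hrq h4
  · exact PrimeGraphPSL.exists_rp_of_two_le p hr hrp hk2 (by omega)

end Cfsg.Agent.S2470
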