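import Cfsg.Statements.S2471
import Cfsg.Agent.Lib.Spectrum.PGL2
-- import your own Cfsg.Agent.* helpers here

set_option autoImplicit false
open Cfsg

namespace Cfsg.Agent.S2471

/-- In PSL(2,q) with q odd, the characteristic p is isolated from 2 in the prime graph: for F a finite field of odd characteristic p with at least 5 elements, PSL(2,F) has no element of order 2p. -/
theorem result {F : Type*} [Field F] [Fintype F] (p : ℕ) [Fact p.Prime] [CharP F p] (hp : p ≠ 2) (h5 : 5 ≤ Fintype.card F) (g : Matrix.ProjectiveSpecialLinearGroup (Fin 2) F) :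
    orderOf g ≠ 2 * p := by
  intro h
  have hpp := (Fact.out : p.Prime)
  have hr : ringChar F = p := ringChar.eq F p
  obtain ⟨x, rfl⟩ := QuotientGroup.mk_surjective g
  obtain ⟨n, -, hn⟩ := FiniteField.card F p
  have hq : p ∣ Fintype.card F := hn ▸ dvd_pow_self p n.ne_zero
  have hodd := FiniteField.odd_card_of_char_ne_two (F := F) (by rw [hr]; exact hp)
  rcases Cfsg.Agent.Spectrum.PGL2.psl_orderOf_dvd (by rw [hr]; exact hp) x with ⟨-, h1⟩ | ⟨-, h1⟩ | ⟨-, h1⟩
  · rw [h, hr] at h1
    have := Nat.le_of_dvd hpp.pos h1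
    have := hpp.two_le
    omega
  · rw [h] at h1
    have h2 : p ∣ Fintype.card F - 1 := by
      have : p ∣ 2 * ((Fintype.card F - 1) / 2) := ((Dvd.intro_left 2 rfl).trans h1).mul_left 2
      rwa [show 2 * ((Fintype.card F - 1) / 2) = Fintype.card F - 1 by omega] at this
    have := Nat.dvd_sub hq h2
    rw [Nat.sub_sub_self (by omega)] at this
    exact hpp.not_dvd_one this
  · rw [h] at h1
    have h2 : p ∣ Fintype.card F + 1 := by
      have : p ∣ 2 * ((Fintype.card F + 1) / 2) := ((Dvd.intro_left 2 rfl).trans h1).mul_left 2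
      rwa [show 2 * ((Fintype.card F + 1) / 2) = Fintype.card F + 1 by omega] at this
    exact hpp.not_dvd_one ((Nat.dvd_add_right hq).1 h2)

end Cfsg.Agent.S2471
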