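import Cfsg.Statements.S2472
import Cfsg.Agent.Lib.Classical.PrimeGraphSp
-- import your own Cfsg.Agent.* helpers here

set_option autoImplicit false
open Cfsg

namespace Cfsg.Agent.S2472

/-- Adjacency of a prime and the characteristic in the prime graph of PSp(2n,q): let F be a finite field of characteristic p with q elements, n ≥ 2 with PSp(2n,F) simple, and let r ≠ p be an odd prime dividing the order of PSp(2n,F), with k the multiplicative order of q modulo r and η(k) = k for odd k, k/2 for even k. Then PSp(2n,F) has NO element of order r·p if and only if η(k) > n − 1. -/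
theorem result {F : Type*} [Field F] [Fintype F] (p : ℕ) [Fact p.Prime] [CharP F p] (n : ℕ) (hn : 2 ≤ n) (hsmall : n = 2 → 3 ≤ Fintype.card F)
    (r : ℕ) (hr : r.Prime) (hr2 : r ≠ 2) (hrp : r ≠ p) (hrG : r ∣ Nat.card (Cfsg.PSp n F))
    (k ηk : ℕ) (hk : k = orderOf ((Fintype.card F : ℕ) : ZMod r)) (hηk : (Odd k ∧ ηk = k) ∨ (Even k ∧ 2 * ηk = k)) :
    (r * p ∉ Set.range (orderOf : Cfsg.PSp n F → ℕ)) ↔ n - 1 < ηk := by
  subst hk
  obtain ⟨ha0, -, hka⟩ := PrimeGraphSp.eta_le p hr hrp hrG hηk
  constructor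
  · intro h
    by_contra hc
    have hp : p.Prime := Fact.out
    refine h (PrimeGraphSp.exists_prod p (b := n - ηk) ha0 (by omega)
      ((Nat.coprime_primes hr hp).2 hrp) ?_ (PrimeGraphSp.exists_cauchy hr ha0 hka)
      (exists_prime_orderOf_dvd_card' p (PrimeGraphSp.char_dvd_card_sp p (by omega))))
    rcases eq_or_ne p 2 with h2 | h2
    · exact Or.inr h2
    · exact Or.inl ((hr.odd_of_ne_two hr2).mul (hp.odd_of_ne_two h2))
  · rintro h ⟨x, hx⟩
    have := PrimeGraphSp.rp_necessary p (by omega) hr hr2 hrp hx hηk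
    omega

end Cfsg.Agent.S2472
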