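import Cfsg.Statements.S2477
import Cfsg.Agent.Lib.Spectrum.AltOrders
-- import your own Cfsg.Agent.* helpers here

set_option autoImplicit false
open Cfsg

namespace Cfsg.Agent.S2477

/-- The set of element orders of the alternating group of degree 10 is {1, 2, 3, 4, 5, 6, 7, 8, 9, 10, 12, 15, 21}. -/
theorem result : Set.range (orderOf : alternatingGroup (Fin 10) → ℕ) = {1, 2, 3, 4, 5, 6, 7, 8, 9, 10, 12, 15, 21} := by
  have key : ∀ l ∈ Cfsg.Agent.AltOrders.enum 10 10 10, (l.sum + l.length) % 2 = 0 →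
      l.foldr Nat.lcm 1 ∈ [1, 2, 3, 4, 5, 6, 7, 8, 9, 10, 12, 15, 21] := by decide +kernel
  ext o
  constructor
  · intro h
    obtain ⟨l, hl, h1, h2⟩ := Cfsg.Agent.AltOrders.exists_enum h
    have := key l hl h1
    rw [h2] at this
    simpa using this
  · intro h
    rw [Cfsg.Agent.AltOrders.mem_range_iff]
    simp only [Set.mem_insert_iff, Set.mem_singleton_iff] at h
    rcases h with rfl | rfl | rfl | rfl | rfl | rfl | rfl | rfl | rfl | rfl | rfl | rfl | rfl
    · exact ⟨0, by decide⟩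
    · exact ⟨{2, 2}, by decide⟩
    · exact ⟨{3}, by decide⟩
    · exact ⟨{4, 2}, by decide⟩
    · exact ⟨{5}, by decide⟩
    · exact ⟨{3, 2, 2}, by decide⟩
    · exact ⟨{7}, by decide⟩
    · exact ⟨{8, 2}, by decide⟩
    · exact ⟨{9}, by decide⟩
    · exact ⟨{5, 2, 2}, by decide⟩
    · exact ⟨{4, 3, 2}, by decide⟩
    · exact ⟨{5, 3}, by decide⟩
    · exact ⟨{7, 3}, by decide⟩

end Cfsg.Agent.S2477
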