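import Cfsg.Statements.S2479
import Cfsg.Agent.Lib.Classical.SLClassArith

set_option autoImplicit false
open Cfsg

namespace Cfsg.Agent.S2479

/-- The number of conjugacy classes of SL(n,q): for F a finite field with q elements, the number k of conjugacy classes of SL(n,F) satisfies q^(n−1) < k and k ≤ (5/2)·q^(n−1) for n ≥ 2, and k ≤ q^(n−1) + 3q^(n−2) for n ≥ 3. -/
theorem result {F : Type*} [Field F] [Fintype F] (n : ℕ) (hn : 2 ≤ n) :
    Fintype.card F ^ (n - 1) < Nat.card (ConjClasses (Matrix.SpecialLinearGroup (Fin n) F)) ∧ 2 * Nat.card (ConjClasses (Matrix.SpecialLinearGroup (Fin n) F)) ≤ 5 * Fintype.card F ^ (n - 1) ∧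
      (3 ≤ n → Nat.card (ConjClasses (Matrix.SpecialLinearGroup (Fin n) F)) ≤ Fintype.card F ^ (n - 1) + 3 * Fintype.card F ^ (n - 2)) := by
  have hq : 2 ≤ Fintype.card F := Fintype.one_lt_card
  have hle := SLArith.card_mul_le (F := F) n
  have h3 : 3 ≤ n → Nat.card (ConjClasses (Matrix.SpecialLinearGroup (Fin n) F)) ≤
      Fintype.card F ^ (n - 1) + 3 * Fintype.card F ^ (n - 2) := fun h =>
    Nat.le_of_mul_le_mul_left (hle.trans (SLArith.bnd_three hq h)) (by omega)
  refine ⟨SLArith.card_gt n hn, ?_, h3⟩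
  rcases Nat.lt_or_ge n 3 with h | h
  · obtain rfl : n = 2 := by omega
    have h2 := SLArith.bnd_two hq
    refine Nat.le_of_mul_le_mul_left (c := Fintype.card F - 1) ?_ (by omega)
    rw [show (2 : ℕ) - 1 = 1 from rfl, pow_one, mul_left_comm]
    exact (Nat.mul_le_mul_left 2 hle).trans h2
  · obtain ⟨m, rfl⟩ : ∃ m, n = m + 2 := ⟨n - 2, by omega⟩
    have := h3 h
    simp only [show m + 2 - 1 = m + 1 by omega, Nat.add_sub_cancel] at this ⊢
    rw [pow_succ] at this ⊢
    have h4 : 2 * Fintype.card F ^ m ≤ Fintype.card F ^ m * Fintype.card F := by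
      rw [mul_comm]; exact Nat.mul_le_mul_left _ hq
    omega

end Cfsg.Agent.S2479
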