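import Cfsg.Statements.S2481
import Cfsg.Agent.Lib.Classical.GUCount.Main
import Cfsg.Agent.Lib.Classical.GUCount.Arith
import Cfsg.Agent.Lib.Classical.UnitaryCharpoly

set_option autoImplicit false
open Cfsg

namespace Cfsg.Agent.S2481

/-- The number of conjugacy classes of SU(n,q): for n ≥ 2, q a prime power and F the field with q² elements, the number k of conjugacy classes of SU(n,q) (the determinant-one isometries of the standard Hermitian form on F^n) satisfies q^(n−1) ≤ k ≤ 8.26·q^(n−1). -/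
theorem result {F : Type*} [Field F] [Fintype F] (n q : ℕ) (hn : 2 ≤ n) (hF : Fintype.card F = q ^ 2) :
    q ^ (n - 1) ≤ Nat.card (ConjClasses (Cfsg.SU n F q)) ∧ 100 * Nat.card (ConjClasses (Cfsg.SU n F q)) ≤ 826 * q ^ (n - 1) := by
  classical
  obtain ⟨σ₀, hσ₀, hne, hinv, -, hq⟩ := Cfsg.Agent.HermStd.exists_sigma hF
  obtain ⟨σ, hσ⟩ : ∃ σ : F ≃+* F, ∀ x, σ x = σ₀ x :=
    ⟨Cfsg.Agent.Hermitian.sEquiv hinv, Cfsg.Agent.Hermitian.sEquiv_apply hinv⟩
  have hσq : ∀ x, σ x = x ^ q := fun x => (hσ x).trans (hσ₀ x)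
  have hσσ : ∀ x, σ (σ x) = x := fun x => by rw [hσ, hσ, hinv]
  obtain ⟨μ, hμ⟩ : ∃ μ, σ μ ≠ μ := by
    by_contra hc'
    push Not at hc'
    exact hne (RingHom.ext fun x => (hσ x).symm.trans (hc' x))
  obtain ⟨p, hp⟩ := CharP.exists F
  haveI : Fact p.Prime := ⟨CharP.char_is_prime F p⟩
  refine ⟨?_, ?_⟩
  · rw [← Cfsg.Agent.UnitaryClasses.card_classes hF p n (by omega)]
    exact Nat.card_le_card_of_injective _ Subtype.val_injective
  · have h1 := Cfsg.Agent.GUCount.card_classes_le_sum (n := n) hσq hσσ hF hμ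
    have h2 := Cfsg.Agent.GUCount.totalU_le hF hq hσq hσσ n
    have h3 := Cfsg.Agent.GUCount.bnd_le hq hn
    refine Nat.le_of_mul_le_mul_right ?_ (Nat.succ_pos q)
    calc 100 * Nat.card (ConjClasses (Cfsg.SU n F q)) * (q + 1)
        = 100 * ((q + 1) * Nat.card (ConjClasses (Cfsg.SU n F q))) := by ring
      _ ≤ _ := (Nat.mul_le_mul_left _ ((Nat.mul_le_mul_left _ h1).trans h2)).trans h3

end Cfsg.Agent.S2481
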