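import Cfsg.Statements.S2488
import Mathlib
-- import your own Cfsg.Agent.* helpers here

set_option autoImplicit false
open scoped Pointwise
open Cfsg

namespace Cfsg.Agent.S2488

theorem a6_orders : ∀ y : alternatingGroup (Fin 6), y ^ 3 = 1 ∨ y ^ 4 = 1 ∨ y ^ 5 = 1 := by
  decide +kernel
theorem a6_three : Fintype.card {y : alternatingGroup (Fin 6) // y ^ 3 = 1 ∧ y ≠ 1} = 80 := by
  decide +kernel
theorem a6_five : Fintype.card {y : alternatingGroup (Fin 6) // y ^ 5 = 1 ∧ y ≠ 1} = 144 := by
  decide +kernel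


/-- Let G be a finite group with a normal subgroup N of index 4 isomorphic to the alternating group of degree 6 and with trivial centralizer in G (so G is the full automorphism group of A₆). Then any two Sylow 2-subgroups of G have a non-trivial intersection: for a Sylow 2-subgroup H and every x ∈ G, H ∩ H^x ≠ 1. -/
theorem result {G : Type*} [Group G] [Finite G] (N : Subgroup G) [N.Normal]
    (e : N ≃* alternatingGroup (Fin 6)) (hidx : N.index = 4)
    (hC : Subgroup.centralizer (N : Set G) = ⊥)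
    (H : Sylow 2 G) (x : G) :
    (H : Subgroup G) ⊓ MulAut.conj x • (H : Subgroup G) ≠ ⊥ := by
  classical
  open scoped Pointwise in
  haveI : Fact (Nat.Prime 2) := ⟨Nat.prime_two⟩
  have hNcard : Nat.card N = 360 := by
    rw [Nat.card_congr e.toEquiv, nat_card_alternatingGroup, Nat.card_fin]
    rfl
  have hGcard : Nat.card G = 1440 := by rw [← N.card_mul_index, hNcard, hidx]
  have hHcard : Nat.card (H : Subgroup G) = 32 := by
    rw [H.card_eq_multiplicity, hGcard, show (1440 : ℕ) = 2 ^ 5 * 45 by norm_num,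
      Nat.factorization_mul (by norm_num) (by norm_num), Finsupp.add_apply,
      Nat.prime_two.factorization_pow, Finsupp.single_eq_same,
      Nat.factorization_eq_zero_of_not_dvd (by norm_num : ¬ 2 ∣ 45)]
    rfl
  -- element orders in `N`
  have hord : ∀ y : G, y ∈ N → orderOf y ∣ 3 ∨ orderOf y ∣ 4 ∨ orderOf y ∣ 5 := by
    intro y hy
    have h0 : orderOf (e ⟨y, hy⟩) = orderOf y := by rw [e.orderOf_eq, Subgroup.orderOf_mk]
    rw [← h0]
    exact (a6_orders (e ⟨y, hy⟩)).imp orderOf_dvd_of_pow_eq_one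
      (Or.imp orderOf_dvd_of_pow_eq_one orderOf_dvd_of_pow_eq_one)
  have hodd : ∀ y : G, Odd (orderOf y) → y ∈ N := fun y hy => by
    rw [← QuotientGroup.eq_one_iff, ← orderOf_eq_one_iff]
    refine Nat.eq_one_of_dvd_coprimes (Nat.Coprime.pow_left 2 hy.coprime_two_left) ?_
      (orderOf_map_dvd (QuotientGroup.mk' N) y)
    have h4 : Nat.card (G ⧸ N) = 2 ^ 2 := hidx
    exact h4 ▸ orderOf_dvd_natCard _
  -- a central involution
  have hzex : ∃ z, z ∈ N ∧ orderOf z = 2 ∧
      Subgroup.centralizer ({z} : Set G) = (H : Subgroup G) := by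
    have hne : N.subgroupOf (H : Subgroup G) ≠ ⊥ := by
      intro h
      have h1 := N.relIndex_dvd_index_of_normal (H : Subgroup G)
      rw [Subgroup.relIndex, h, Subgroup.index_bot, hHcard, hidx] at h1
      norm_num at h1
    obtain ⟨z0, hz0⟩ : ∃ z0 : (H : Subgroup G), z0 ∈ N.subgroupOf (H : Subgroup G) ∧
        z0 ∈ Subgroup.center (H : Subgroup G) ∧ orderOf z0 = 2 := by
      let U := N.subgroupOf (H : Subgroup G)
      haveI : Fact (Nat.Prime 2) := ⟨Nat.prime_two⟩
      have hU : IsPGroup 2 U := H.2.to_subgroup U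
      obtain ⟨k, hk⟩ := IsPGroup.iff_card.1 hU
      have hdvd : 2 ∣ Nat.card U := by
        rcases k with _ | k
        · exact absurd (Subgroup.eq_bot_of_card_eq U (by rw [hk, pow_zero])) hne
        · exact hk ▸ dvd_pow_self 2 k.succ_ne_zero
      have h1 : ∀ (h : (H : Subgroup G)) (u : (H : Subgroup G)), u ∈ U → h * u * h⁻¹ ∈ U :=
        fun h u hu => Subgroup.Normal.conj_mem inferInstance u hu h
      letI : MulAction (H : Subgroup G) U :=
        { smul := fun h u => ⟨h * u * h⁻¹, h1 h u u.2⟩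
          one_smul := fun u => Subtype.ext (by
            show (1 : (H : Subgroup G)) * u * (1 : (H : Subgroup G))⁻¹ = u
            simp)
          mul_smul := fun a b u => Subtype.ext (by
            show (a * b) * (u : (H : Subgroup G)) * (a * b)⁻¹ = a * (b * u * b⁻¹) * a⁻¹
            simp [mul_assoc]) }
      obtain ⟨v, hv, hv1⟩ := H.2.exists_fixed_point_of_prime_dvd_card_of_fixed_point U hdvd (a := 1)
        (fun h => Subtype.ext (by
          show h * ((1 : U) : (H : Subgroup G)) * h⁻¹ = 1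
          simp))
      obtain ⟨m, hm⟩ := IsPGroup.iff_orderOf.1 hU v
      rcases m with _ | m
      · rw [pow_zero, orderOf_eq_one_iff] at hm
        exact absurd hm.symm hv1
      have hvc : (v : (H : Subgroup G)) ∈ Subgroup.center (H : Subgroup G) :=
        Subgroup.mem_center_iff.2 fun h => mul_inv_eq_iff_eq_mul.1 (congrArg Subtype.val (hv h))
      refine ⟨((v ^ 2 ^ m : U) : (H : Subgroup G)), (v ^ 2 ^ m).2,
        by push_cast; exact pow_mem hvc _, ?_⟩
      rw [Subgroup.orderOf_coe, orderOf_pow_of_dvd (by positivity) (hm ▸ pow_dvd_pow 2 (by omega)),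
        hm, pow_succ, Nat.mul_div_cancel_left _ (by positivity)]
    obtain ⟨hzN, hzc, hz2⟩ := hz0
    refine ⟨(z0 : G), hzN, by rwa [Subgroup.orderOf_coe], ?_⟩
    have hle : (H : Subgroup G) ≤ Subgroup.centralizer ({(z0 : G)} : Set G) := fun h hh =>
      Subgroup.mem_centralizer_singleton_iff.2
        (congrArg Subtype.val (Subgroup.mem_center_iff.1 hzc ⟨h, hh⟩))
    refine H.is_maximal' ?_ hle
    intro c
    have hco := orderOf_pos (c : G)
    obtain ⟨k, m, hm, hcm⟩ := Nat.exists_eq_pow_mul_and_not_dvd hco.ne' 2 (by norm_num)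
    refine ⟨k, Subtype.ext ?_⟩
    show (c : G) ^ 2 ^ k = 1
    by_contra hne1
    set u := (c : G) ^ 2 ^ k with hu
    have huo : orderOf u = m := by
      rw [hu, orderOf_pow_of_dvd (by positivity) (hcm ▸ dvd_mul_right _ _), hcm,
        Nat.mul_div_cancel_left _ (by positivity)]
    have huodd : Odd (orderOf u) := by rw [huo]; exact Nat.odd_iff.2 (by omega)
    have huc : Commute u (z0 : G) :=
      Commute.pow_left (Subgroup.mem_centralizer_singleton_iff.1 c.2) _
    have hprod : orderOf (u * (z0 : G)) = m * 2 := by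
      rw [huc.orderOf_mul_eq_mul_orderOf_of_coprime (by
        rw [Subgroup.orderOf_coe, hz2]; exact huodd.coprime_two_right), huo,
        Subgroup.orderOf_coe, hz2]
    have hmem : u * (z0 : G) ∈ N := mul_mem (hodd u huodd) hzN
    have hm1 : m ≠ 1 := fun h => hne1 (orderOf_eq_one_iff.1 (huo.trans h))
    have hmodd : Odd m := huo ▸ huodd
    rcases hord _ hmem with h | h | h <;> rw [hprod] at h
    · exact absurd ((dvd_mul_left 2 m).trans h) (by norm_num)
    · have h4 : m ∣ 2 ^ 2 := (dvd_mul_right m 2).trans h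
      exact hm1 (Nat.eq_one_of_dvd_coprimes (Nat.Coprime.pow_left 2 hmodd.coprime_two_left) h4 dvd_rfl)
    · exact absurd ((dvd_mul_left 2 m).trans h) (by norm_num)
  obtain ⟨z, hzN, hz2, hCz⟩ := hzex
  set w := x * z * x⁻¹ with hw
  have hw2 : orderOf w = 2 := by
    rw [hw, show x * z * x⁻¹ = MulAut.conj x z from rfl, MulEquiv.orderOf_eq, hz2]
  have hwN : w ∈ N := Subgroup.Normal.conj_mem inferInstance z hzN x
  have hzz : z * z = 1 := by rw [← sq, ← hz2, pow_orderOf_eq_one]
  have hww : w * w = 1 := by rw [← sq, ← hw2, pow_orderOf_eq_one]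
  suffices hs : ∃ s : G, s ≠ 1 ∧ Commute s z ∧ Commute s w by
    obtain ⟨s, hs1, hsz, hsw⟩ := hs
    refine fun h => hs1 ((Subgroup.eq_bot_iff_forall _).1 h s ⟨?_, ?_⟩)
    · rw [← hCz]; exact Subgroup.mem_centralizer_singleton_iff.2 hsz
    · refine Subgroup.mem_smul_pointwise_iff_exists _ _ _ |>.2 ⟨x⁻¹ * s * x, ?_, ?_⟩
      · rw [← hCz, Subgroup.mem_centralizer_singleton_iff]
        calc x⁻¹ * s * x * z = x⁻¹ * (s * w) * x := by rw [hw]; group
          _ = x⁻¹ * (w * s) * x := by rw [hsw.eq]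
          _ = z * (x⁻¹ * s * x) := by rw [hw]; group
      · rw [MulAut.smul_def, MulAut.conj_apply]; group
  set d := z * w with hd
  have hdN : d ∈ N := mul_mem hzN hwN
  have hzi : z⁻¹ = z := inv_eq_of_mul_eq_one_right hzz
  have hwi : w⁻¹ = w := inv_eq_of_mul_eq_one_right hww
  have hzd : z * d * z⁻¹ = d⁻¹ := by
    rw [hd, mul_inv_rev, hwi, ← mul_assoc, hzz, one_mul]
  by_cases hd1 : d = 1
  · refine ⟨z, fun h => ?_, Commute.refl z, ?_⟩
    · rw [h, orderOf_one] at hz2; exact absurd hz2 (by norm_num)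
    · rw [hd, mul_eq_one_iff_eq_inv, hwi] at hd1
      rw [hd1]
  have hdw : w = z * d := by rw [hd, ← mul_assoc, hzz, one_mul]
  rcases Nat.even_or_odd (orderOf d) with hev | hov
  · obtain ⟨j, hj⟩ := hev
    refine ⟨d ^ j, fun h => ?_, ?_, ?_⟩
    · have hpos := orderOf_pos d
      have hle' : orderOf d ≤ j := Nat.le_of_dvd (show 0 < j by omega) (orderOf_dvd_of_pow_eq_one h)
      omega
    all_goals
      have h1 : d ^ j * d ^ j = 1 := by rw [← pow_add, ← hj, pow_orderOf_eq_one]
      have h2 : z * d ^ j * z⁻¹ = d ^ j := by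
        rw [← conj_pow, hzd, inv_pow, inv_eq_of_mul_eq_one_right h1]
      have hcz : Commute (d ^ j) z := (mul_inv_eq_iff_eq_mul.1 h2).symm
    · exact hcz
    · rw [hdw]
      exact hcz.mul_right (Commute.pow_self d j)
  -- `d` of order three or five has centralizer of even order
  set C := Subgroup.centralizer ({d} : Set G) with hC'
  have heven : 2 ∣ Nat.card C := by
    by_contra hnd
    set A := MulAction.orbit (ConjAct G) d with hA
    have hcl : Nat.card A * Nat.card C = 1440 := by
      have h2 := MulAction.index_stabilizer (ConjAct G) d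
      have h3 := Subgroup.card_mul_index (MulAction.stabilizer (ConjAct G) d)
      rw [h2, ← Nat.card_coe_set_eq, mul_comm, ← hA,
        Nat.card_congr ConjAct.ofConjAct.toEquiv, hGcard] at h3
      rw [ConjAct.stabilizer_eq_centralizer] at h3
      convert h3 using 2
      refine Nat.card_congr (ConjAct.toConjAct.toEquiv.subtypeEquiv fun a => ?_)
      show a ∈ C ↔ ConjAct.toConjAct a ∈ Subgroup.centralizer ({ConjAct.toConjAct d} : Set (ConjAct G))
      rw [hC', Subgroup.mem_centralizer_singleton_iff, Subgroup.mem_centralizer_singleton_iff,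
        ← map_mul, ← map_mul]
      exact (ConjAct.toConjAct.injective.eq_iff).symm
    have hkey : ∀ (r s : ℕ), r.Prime → s.Prime → r ≠ s → (r * s) ∣ 15 → orderOf d ∣ r →
        ¬ s ∣ Nat.card C := by
      intro r s hr hs hrs h15 hdr hsC
      haveI := Fact.mk hs
      obtain ⟨c, hc⟩ := exists_prime_orderOf_dvd_card' (G := C) s hsC
      have hdo : orderOf d = r := ((Nat.dvd_prime hr).1 hdr).resolve_left
        fun h => hd1 (orderOf_eq_one_iff.1 h)
      have hcd : Commute (c : G) d := Subgroup.mem_centralizer_singleton_iff.1 c.2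
      have hcN : (c : G) ∈ N := hodd _ (by
        rw [Subgroup.orderOf_coe, hc]
        exact Odd.of_dvd_nat (by decide) ((dvd_mul_left s r).trans h15))
      have ho : orderOf ((c : G) * d) = s * r := by
        rw [hcd.orderOf_mul_eq_mul_orderOf_of_coprime
          (by rw [Subgroup.orderOf_coe, hc, hdo]; exact (Nat.coprime_primes hs hr).2 hrs.symm),
          Subgroup.orderOf_coe, hc, hdo]
      have := hord _ (mul_mem hcN hdN)
      rw [ho] at this
      have h35 : ∀ u : ℕ, u.Prime → u ∣ 15 → u = 3 ∨ u = 5 := fun u hu hu15 => by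
        rcases hu.dvd_mul.1 (show u ∣ 3 * 5 from hu15) with h | h
        · exact Or.inl ((Nat.prime_dvd_prime_iff_eq hu Nat.prime_three).1 h)
        · exact Or.inr ((Nat.prime_dvd_prime_iff_eq hu Nat.prime_five).1 h)
      have hr' := h35 r hr ((dvd_mul_right r s).trans h15)
      have hs' := h35 s hs ((dvd_mul_left s r).trans h15)
      rcases hr' with rfl | rfl <;> rcases hs' with rfl | rfl <;> simp at hrs this
      all_goals revert this; norm_num
    have hle : ∀ r : ℕ, d ^ r = 1 →
        Nat.card A ≤ Fintype.card {y : alternatingGroup (Fin 6) // y ^ r = 1 ∧ y ≠ 1} := by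
      intro r hr
      rw [← Nat.card_eq_fintype_card]
      have hmem : ∀ y ∈ A, y ∈ N ∧ y ^ r = 1 ∧ y ≠ 1 := by
        rintro _ ⟨g, rfl⟩
        show g • d ∈ N ∧ (g • d) ^ r = 1 ∧ g • d ≠ 1
        rw [ConjAct.smul_def]
        exact ⟨Subgroup.Normal.conj_mem inferInstance d hdN _, by rw [conj_pow, hr]; simp,
          by simpa using hd1⟩
      refine Nat.card_le_card_of_injective (fun y : A => ⟨e ⟨y, (hmem y y.2).1⟩, ?_, ?_⟩) ?_
      · rw [← map_pow]
        exact (congrArg e (Subtype.ext (hmem y y.2).2.1 : (⟨(y : G), _⟩ : N) ^ r = 1)).trans (map_one e)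
      · exact fun h => (hmem y y.2).2.2
          (congrArg Subtype.val (e.injective (h.trans (map_one e).symm)))
      · intro y y' h
        have h' := e.injective (congrArg Subtype.val h)
        exact Subtype.ext (congrArg (fun u : N => (u : G)) h')
    have h32 : 32 ∣ Nat.card A :=
      Nat.Coprime.dvd_of_dvd_mul_right (Nat.Coprime.pow_left 5
        ((Nat.prime_two.coprime_iff_not_dvd).2 hnd)) (hcl ▸ (by norm_num : 2 ^ 5 ∣ 1440))
    have hApos : 0 < Nat.card A := Nat.pos_of_ne_zero fun h => by simp [h] at hcl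
    rcases hord d hdN with h | h | h
    · have h5 : 5 ∣ Nat.card A := Nat.Coprime.dvd_of_dvd_mul_right
        ((Nat.prime_five.coprime_iff_not_dvd).2 (hkey 3 5 Nat.prime_three Nat.prime_five (by norm_num)
          (by norm_num) h)) (hcl ▸ (by norm_num : 5 ∣ 1440))
      have hb := hle 3 (orderOf_dvd_iff_pow_eq_one.1 h)
      rw [a6_three] at hb
      have := Nat.le_of_dvd hApos (Nat.Coprime.mul_dvd_of_dvd_of_dvd (by norm_num) h32 h5)
      omega
    · have h4 : orderOf d ∣ 2 ^ 2 := h
      exact hd1 (orderOf_eq_one_iff.1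
        (Nat.eq_one_of_dvd_coprimes (Nat.Coprime.pow_left 2 hov.coprime_two_left) h4 dvd_rfl))
    · have h3 : 9 ∣ Nat.card A := Nat.Coprime.dvd_of_dvd_mul_right
        (Nat.Coprime.pow_left 2 ((Nat.prime_three.coprime_iff_not_dvd).2
          (hkey 5 3 Nat.prime_five Nat.prime_three (by norm_num) (by norm_num) h)))
        (hcl ▸ (by norm_num : 3 ^ 2 ∣ 1440))
      have hb := hle 5 (orderOf_dvd_iff_pow_eq_one.1 h)
      rw [a6_five] at hb
      have := Nat.le_of_dvd hApos (Nat.Coprime.mul_dvd_of_dvd_of_dvd (by norm_num) h32 h3)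
      omega
  -- `z` fixes an involution of `C`
  have hzC : ∀ c ∈ C, z * c * z⁻¹ ∈ C := by
    intro c hc
    rw [hC', Subgroup.mem_centralizer_singleton_iff] at hc ⊢
    have hc' : Commute c d⁻¹ := (show Commute c d from hc).inv_right
    have hd' : d = z * d⁻¹ * z⁻¹ := by
      rw [show z * d⁻¹ * z⁻¹ = (z * d * z⁻¹)⁻¹ by group, hzd, inv_inv]
    calc z * c * z⁻¹ * d = z * (c * d⁻¹) * z⁻¹ := by
          conv_lhs => rw [hd']
          group
      _ = z * (d⁻¹ * c) * z⁻¹ := by rw [hc'.eq]
      _ = d * (z * c * z⁻¹) := by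
          conv_rhs => rw [hd']
          group
  set X := {c : C // c * c = 1} with hX
  have hXeven : 2 ∣ Nat.card X := by
    haveI : Fintype C := Fintype.ofFinite C
    let σ : Equiv.Perm C := Equiv.inv C
    have hσ : σ ^ 2 ^ 1 = 1 := Equiv.ext fun c => by simp [σ, pow_one, sq]
    have h := Equiv.Perm.card_compl_support_modEq hσ
    rw [← Nat.card_eq_fintype_card] at h
    have e2 : Nat.card X = σ.supportᶜ.card := by
      rw [← Nat.card_eq_finsetCard]
      refine Nat.card_congr (Equiv.subtypeEquivRight fun c => ?_)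
      simp [σ, inv_eq_iff_mul_eq_one]
    rw [e2]
    exact Nat.dvd_of_mod_eq_zero (Eq.trans (h : _ % 2 = _ % 2) (Nat.mod_eq_zero_of_dvd heven))
  letI act : MulAction (Subgroup.zpowers z) X :=
    { smul := fun g c => ⟨⟨g * (c.1 : G) * (g : G)⁻¹, by
        obtain ⟨k, hk⟩ := Subgroup.mem_zpowers_iff.1 g.2
        rw [← hk]
        have hz2' : z ^ (2 : ℤ) = 1 := by rw [zpow_two, hzz]
        rcases Int.even_or_odd k with ⟨i, rfl⟩ | ⟨i, rfl⟩
        · rw [← two_mul, zpow_mul, hz2', one_zpow]; simpa using c.1.2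
        · rw [zpow_add, zpow_mul, hz2', one_zpow, one_mul, zpow_one]; exact hzC _ c.1.2⟩,
        Subtype.ext (by
          have h := congrArg Subtype.val c.2
          push_cast at h ⊢
          rw [show (g : G) * c.1 * (g : G)⁻¹ * (g * c.1 * (g : G)⁻¹) = g * (c.1 * c.1) * (g : G)⁻¹ by group,
            h]
          simp)⟩
      one_smul := fun c => Subtype.ext (Subtype.ext (by
        show ((1 : Subgroup.zpowers z) : G) * c.1 * ((1 : Subgroup.zpowers z) : G)⁻¹ = c.1
        simp))
      mul_smul := fun a b c => Subtype.ext (Subtype.ext (by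
        show ((a * b : Subgroup.zpowers z) : G) * c.1 * ((a * b : Subgroup.zpowers z) : G)⁻¹ =
          (a : G) * ((b : G) * c.1 * (b : G)⁻¹) * (a : G)⁻¹
        simp [mul_assoc])) }
  have hzp : IsPGroup 2 (Subgroup.zpowers z) :=
    IsPGroup.of_card (n := 1) (by rw [Nat.card_zpowers, hz2, pow_one])
  obtain ⟨s, hs, hs1⟩ := hzp.exists_fixed_point_of_prime_dvd_card_of_fixed_point X hXeven
    (a := ⟨1, one_mul 1⟩) (fun g => Subtype.ext (Subtype.ext (by
      show (g : G) * ((1 : C) : G) * (g : G)⁻¹ = 1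
      simp)))
  have hsz : Commute (s.1 : G) z :=
    (mul_inv_eq_iff_eq_mul.1 (congrArg (fun c : X => (c.1 : G))
      (hs ⟨z, Subgroup.mem_zpowers z⟩))).symm
  refine ⟨s.1, fun h => hs1 (Subtype.ext (Subtype.ext h.symm)), hsz, ?_⟩
  rw [hdw]
  exact hsz.mul_right (Subgroup.mem_centralizer_singleton_iff.1 s.1.2)

end Cfsg.Agent.S2488
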