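import Cfsg.Statements.S2490
import Cfsg.Agent.Lib.PrimeGraph7920.Edges
import Cfsg.Agent.Lib.PrimeGraph7920.Simple

set_option autoImplicit false
open Cfsg

namespace Cfsg.Agent.S2490

/-- Let G be a finite group of order 7920 = 2⁴·3²·5·11 (the order of the smallest Mathieu group) and suppose its prime graph (vertices the prime divisors of the order, distinct p, q joined when there is an element of order pq) is disconnected: the prime divisors split into two non-empty parts with no element of order pq for p in one part and q in the other. Then G is simple. -/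
theorem result {G : Type*} [Group G] [Finite G] (hord : Nat.card G = 7920)
    (hdisc : (∃ A : Set ℕ, (∃ a ∈ A, a.Prime ∧ a ∣ Nat.card G) ∧ (∃ b ∉ A, b.Prime ∧ b ∣ Nat.card G) ∧
      ∀ a ∈ A, ∀ b ∉ A, a.Prime → b.Prime → a ∣ Nat.card G → b ∣ Nat.card G → ¬ ∃ g : G, orderOf g = a * b)) :
    IsSimpleGroup G := by
  obtain ⟨A, ⟨a, haA, hap, had⟩, ⟨b, hbA, hbp, hbd⟩, hno⟩ := hdisc
  refine PG7920.simple_of_no_pgroup hord fun p hp N hN hpN => by_contra fun hne => ?_
  have hconn := PG7920.connected_of_normal_pgroup hord hp N hpN hne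
  have hmem : ∀ q : ℕ, q.Prime → q ∣ Nat.card G → q ∈ [2, 3, 5, 11] := by
    intro q hq hqd
    rw [hord, show (7920 : ℕ) = 2 ^ 4 * 3 ^ 2 * 5 * 11 by norm_num] at hqd
    rcases hq.dvd_mul.1 hqd with h | h
    · rcases hq.dvd_mul.1 h with h | h
      · rcases hq.dvd_mul.1 h with h | h
        · simp [(Nat.prime_dvd_prime_iff_eq hq Nat.prime_two).1 (hq.dvd_of_dvd_pow h)]
        · simp [(Nat.prime_dvd_prime_iff_eq hq Nat.prime_three).1 (hq.dvd_of_dvd_pow h)]
      · simp [(Nat.prime_dvd_prime_iff_eq hq (by norm_num)).1 h]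
    · simp [(Nat.prime_dvd_prime_iff_eq hq (by norm_num)).1 h]
  have hlist : ∀ q ∈ [2, 3, 5, 11], q.Prime ∧ q ∣ Nat.card G := by
    intro q hq
    rw [hord]
    simp only [List.mem_cons, List.not_mem_nil, or_false] at hq
    rcases hq with rfl | rfl | rfl | rfl <;> norm_num
  refine hbA ((hconn (fun q => q ∈ A) (fun x hx y hy hxy => ?_) a (hmem a hap had) b (hmem b hbp hbd)).1 haA)
  by_contra hiff
  rcases (not_iff.1 hiff) with hi
  by_cases hxA : x ∈ A
  · exact hno x hxA y (fun hyA => (hi.2 hyA) hxA) (hlist x hx).1 (hlist y hy).1 (hlist x hx).2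
      (hlist y hy).2 hxy
  · exact hno y (hi.1 hxA) x hxA (hlist y hy).1 (hlist x hx).1 (hlist y hy).2 (hlist x hx).2 hxy.symm

end Cfsg.Agent.S2490
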