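import Cfsg.Statements.S2493
import Cfsg.Agent.S0447
import Cfsg.Agent.Lib.AltMult.Main
import Cfsg.Agent.Lib.AltMult.Count
import Cfsg.Agent.Lib.AltOre.Perm
-- import your own Cfsg.Agent.* helpers here

set_option autoImplicit false
open Cfsg

namespace Cfsg.Agent.S2493

open Equiv Equiv.Perm Cfsg.Agent.AltMult
open scoped commutatorElement

variable {G : Type*} [Group G] [Finite G] {n : ℕ} {π : G →* Perm (Fin n)}

theorem commutator_data (E : Ext π) (hK2 : ∀ t : G, π t = 1 → t * t = 1) {x y : G}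
    (h : Commute (π x) (π y)) : π ⁅x, y⁆ = 1 ∧ ⁅x, y⁆ * ⁅x, y⁆ = 1 := by
  have h1 : π ⁅x, y⁆ = 1 := by rw [map_commutatorElement, commutatorElement_eq_one_iff_commute]; exact h
  exact ⟨h1, hK2 _ h1⟩

/-- The lifts of a pair from the four group do not commute. -/
theorem not_commute (E : Ext π) (hn : 5 ≤ n) (hker : Nat.card π.ker = 2)
    (hND : Cfsg.IsNonsplitDoubleCover G (alternatingGroup (Fin n))) (hkc : π.ker = Subgroup.center G) :
    ∃ A B : G, π A = mgen n 2 ∧ π B = bgen n ∧ ¬ Commute A B := by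
  by_contra hne
  push Not at hne
  have hAB : ∀ A B : G, π A = mgen n 2 → π B = bgen n → Commute A B := hne
  by_cases h8 : 8 ≤ n
  · have h1 := E.card_le hAB (by omega) ⟨by omega, by omega⟩
    have h2 := E.card_ker_mul (by omega)
    rw [hker] at h2
    have := Nat.factorial_pos n
    omega
  · obtain ⟨S₀, hS₀⟩ := E.lift _ (sign_mgen (n := n) le_rfl (by omega))
    set u := S₀ * S₀ * S₀ with hu
    have hu1 : π u = 1 := by rw [hu, map_mul, map_mul, hS₀, mgen_one_cube (by omega)]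
    have hu2 : u * u = 1 := by
      have h := pow_card_eq_one' (x := (⟨u, MonoidHom.mem_ker.2 hu1⟩ : π.ker))
      rw [hker, pow_two] at h
      exact congrArg Subtype.val h
    obtain ⟨A, hA, hA2, -⟩ := E.exists_mgen_two hAB (by omega) (S := S₀ * u)
      (by rw [map_mul, hS₀, hu1, mul_one]) (by
        rw [cube_mul (E.cen hu1 S₀).symm, ← hu, hu2, one_mul, hu2])
    refine S0447.not_noncentral (by omega) hND A hA2 fun hc => ?_
    rw [← hkc, MonoidHom.mem_ker, hA, mgen, swp_def (by omega) (by omega), swp_def (by omega) (by omega)] at hc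
    have h0 := Equiv.ext_iff.1 hc ⟨2, by omega⟩
    simp [Fin.ext_iff, swap_apply_def] at h0

/-- An even permutation fixing four letters lifts to an element commuting with the lifts of the pairs on them. -/
theorem commute_rest (E : Ext π) (hK2 : ∀ t : G, π t = 1 → t * t = 1) (hn : 4 ≤ n) {B R : G}
    (hB : π B = bgen n) (hR : ∀ i : Fin n, i.1 < 4 → π R i = i) : Commute B R := by
  classical
  let P : Fin n → Prop := fun i => 4 ≤ i.1
  have hBfix : ∀ i, P i → bgen n i = i := fun i hi => by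
    change 4 ≤ i.1 at hi
    rw [bgen, swp_def (by omega) (by omega), swp_def (by omega) (by omega), Perm.mul_apply,
      swap_apply_of_ne_of_ne (a := (⟨1, _⟩ : Fin n)), swap_apply_of_ne_of_ne] <;>
      simp only [ne_eq, Fin.ext_iff] <;> omega
  have hdis : ∀ τ : Perm {i // P i}, Commute (bgen n) (ofSubtype τ) := fun τ => Perm.Disjoint.commute fun i => by
    by_cases hi : P i
    · exact Or.inl (hBfix i hi)
    · exact Or.inr (ofSubtype_apply_of_not_mem τ hi)
  let M : Subgroup (Perm {i // P i}) :=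
    { carrier := {τ | ∃ y : G, π y = ofSubtype τ ∧ Commute B y}
      one_mem' := ⟨1, by simp, Commute.one_right _⟩
      mul_mem' := fun {a b} ⟨y, hy, hy'⟩ ⟨w, hw, hw'⟩ => ⟨y * w, by simp [hy, hw], hy'.mul_right hw'⟩
      inv_mem' := fun {a} ⟨y, hy, hy'⟩ => ⟨y⁻¹, by simp [hy], hy'.inv_right⟩ }
  have hM : alternatingGroup {i // P i} ≤ M := by
    rw [← closure_three_cycles_eq_alternating, Subgroup.closure_le]
    intro τ hτ
    obtain ⟨y, hy⟩ := E.lift (ofSubtype τ) (by
      rw [Perm.sign_ofSubtype]; exact hτ.sign)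
    refine ⟨y, hy, ?_⟩
    obtain ⟨h1, h2⟩ := commutator_data E hK2 (x := B) (y := y) (by rw [hB, hy]; exact hdis τ)
    set c := ⁅B, y⁆ with hc
    have hy3 : π (y * y * y) = 1 := by
      have h3 := hτ.orderOf
      have h4 : τ * τ * τ = 1 := by rw [← pow_one (τ * τ * τ)]; simpa [pow_succ, h3] using pow_orderOf_eq_one τ
      rw [map_mul, map_mul, hy, ← map_mul, ← map_mul, h4, map_one]
    have hconj : B * y * B⁻¹ = y * c := by
      rw [← (E.cen h1 y).eq, hc, commutatorElement_def]; group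
    have h5 : y * y * y = y * c * (y * c) * (y * c) := by
      calc y * y * y = B * (y * y * y) * B⁻¹ := by rw [← (E.cen hy3 B).eq, mul_inv_cancel_right]
        _ = B * y * B⁻¹ * (B * y * B⁻¹) * (B * y * B⁻¹) := by group
        _ = _ := by rw [hconj]
    rw [cube_mul (E.cen h1 y).symm, h2, one_mul, left_eq_mul] at h5
    rw [h5, mul_one] at hconj
    exact mul_inv_eq_iff_eq_mul.1 hconj
  have hmem : ∀ i, P (π R i) ↔ P i := by
    intro i
    constructor
    · intro h
      by_contra h'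
      rw [hR i (by change ¬ 4 ≤ i.1 at h'; omega)] at h
      exact h' h
    · intro h
      by_contra h'
      have := hR (π R i) (by change ¬ 4 ≤ (π R i).1 at h'; omega)
      rw [(π R).injective this] at h'
      exact h' h
  have hof : ofSubtype (subtypePerm (π R) hmem) = π R := ofSubtype_subtypePerm _ fun i hi => by
    by_contra hP
    exact hi (hR i (by change ¬ 4 ≤ i.1 at hP; omega))
  obtain ⟨y, hy, hy'⟩ := hM (show subtypePerm (π R) hmem ∈ alternatingGroup {i // P i} by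
    rw [mem_alternatingGroup, ← sign_ofSubtype, hof]; exact E.even R)
  exact E.commute_of_eq (hy.trans hof).symm hy'

/-- A permutation with two pairs has a commuting partner with noncommuting lift. -/
theorem exists_anti (E : Ext π) (hK2 : ∀ t : G, π t = 1 → t * t = 1) (hn : 5 ≤ n) {A B : G}
    (hA : π A = mgen n 2) (hB : π B = bgen n) (hne : ¬ Commute A B) {b : G}
    (hb : AltOre.HasTwoPairs (π b)) : ∃ c : G, Commute (π c) (π b) ∧ ¬ Commute c b := by
  obtain ⟨p, q, u, v, hpq, huv, hpu, hpv, hqu, hqv, e1, e2, e3, e4⟩ := hb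
  obtain ⟨g₀, hg₀⟩ := Equiv.Perm.exists_extending_pair (fun i : Fin 4 => (⟨i.1, by omega⟩ : Fin n)) ![p, q, u, v]
    (fun i j e => Fin.ext (congrArg (fun w : Fin n => w.1) e :))
    (by
      intro i j e
      fin_cases i <;> fin_cases j <;> simp_all)
  obtain ⟨g, hg, hg0, hg1, hg2, hg3⟩ : ∃ g : Perm (Fin n), Perm.sign g = 1 ∧
      ((g ⟨0, by omega⟩ = p ∧ g ⟨1, by omega⟩ = q) ∨ (g ⟨0, by omega⟩ = q ∧ g ⟨1, by omega⟩ = p)) ∧
      (g ⟨0, by omega⟩ ≠ u ∧ g ⟨0, by omega⟩ ≠ v) ∧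
      g ⟨2, by omega⟩ = u ∧ g ⟨3, by omega⟩ = v := by
    have h0 : g₀ ⟨0, by omega⟩ = p := hg₀ 0
    have h1 : g₀ ⟨1, by omega⟩ = q := hg₀ 1
    have h2 : g₀ ⟨2, by omega⟩ = u := hg₀ 2
    have h3 : g₀ ⟨3, by omega⟩ = v := hg₀ 3
    rcases Int.units_eq_one_or (Perm.sign g₀) with hs | hs
    · exact ⟨g₀, hs, Or.inl ⟨h0, h1⟩, by rw [h0]; exact ⟨hpu, hpv⟩, h2, h3⟩
    · refine ⟨swap p q * g₀, by rw [map_mul, sign_swap hpq, hs]; rfl,
        Or.inr ⟨by rw [Perm.mul_apply, h0, swap_apply_left], by rw [Perm.mul_apply, h1, swap_apply_right]⟩,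
        ?_, ?_, ?_⟩
      · rw [Perm.mul_apply, h0, swap_apply_left]; exact ⟨hqu, hqv⟩
      · rw [Perm.mul_apply, h2, swap_apply_of_ne_of_ne hpu.symm hqu.symm]
      · rw [Perm.mul_apply, h3, swap_apply_of_ne_of_ne hpv.symm hqv.symm]
  obtain ⟨Gl, hGl⟩ := E.lift g hg
  set R := A * (Gl⁻¹ * b * Gl) with hR
  have hfix : ∀ i : Fin n, i.1 < 4 → π R i = i := by
    intro i hi
    have hA' : mgen n 2 = swap (⟨0, by omega⟩ : Fin n) ⟨1, by omega⟩ * swap ⟨2, by omega⟩ ⟨3, by omega⟩ := by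
      rw [mgen, swp_def (by omega) (by omega), swp_def (by omega) (by omega)]
    rw [hR, map_mul, map_mul, map_mul, map_inv, hGl, hA, hA', Perm.mul_apply, Perm.mul_apply, Perm.mul_apply,
      Perm.mul_apply]
    obtain ⟨j, hj⟩ : ∃ j : Fin 4, (⟨j.1, by omega⟩ : Fin n) = i := ⟨⟨i.1, hi⟩, rfl⟩
    have hgi : ∀ w z, g w = z → g⁻¹ z = w := fun w z h => by rw [← h]; exact g.symm_apply_apply w
    rw [← hj]
    fin_cases j
    · rcases hg0 with ⟨a0, a1⟩ | ⟨a0, a1⟩
      · simp only [a0, e1, hgi _ _ a1]; simp [swap_apply_def, Fin.ext_iff]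
      · simp only [a0, e2, hgi _ _ a1]; simp [swap_apply_def, Fin.ext_iff]
    · rcases hg0 with ⟨a0, a1⟩ | ⟨a0, a1⟩
      · simp only [a1, e2, hgi _ _ a0]; simp [swap_apply_def, Fin.ext_iff]
      · simp only [a1, e1, hgi _ _ a0]; simp [swap_apply_def, Fin.ext_iff]
    · simp only [hg2, e3, hgi _ _ hg3]; simp [swap_apply_def, Fin.ext_iff]
    · simp only [hg3, e4, hgi _ _ hg2]; simp [swap_apply_def, Fin.ext_iff]
  have hBR : Commute B R := commute_rest E hK2 (by omega) hB hfix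
  refine ⟨Gl * B * Gl⁻¹, ?_, fun h => hne ?_⟩
  · have h1 := (hBR.map π)
    have hbA : Commute (π B) (π A) := by
      rw [hA, hB]
      let v : Fin 4 → ℕ := ![0, 1, 2, 3]
      have hv : StrictMono v := strictMono_cons v fun j => by fin_cases j <;> simp [v]
      have hvn : ∀ x, v x < n := fun x => by fin_cases x <;> simp [v] <;> omega
      have e2' : mgen n 2 = phi v hv hvn (swap 0 1 * swap 2 3) := by rw [map_mul, phi_swap, phi_swap]; rfl
      have e3' : bgen n = phi v hv hvn (swap 0 3 * swap 1 2) := by rw [map_mul, phi_swap, phi_swap]; rfl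
      rw [e2', e3', commute_iff_eq, ← map_mul, ← map_mul]
      exact congrArg (phi v hv hvn) (by decide)
    have h2 : Commute (π B) (π (Gl⁻¹ * b * Gl)) := by
      have := hbA.inv_right.mul_right h1
      rwa [hR, map_mul π A, inv_mul_cancel_left] at this
    have h3 : Commute (π (Gl * B * Gl⁻¹)) (π (Gl * (Gl⁻¹ * b * Gl) * Gl⁻¹)) := by
      have h4 := h2.map (MulAut.conj (π Gl)).toMonoidHom
      rw [map_mul π (Gl * B), map_mul π Gl B, map_mul π (Gl * (Gl⁻¹ * b * Gl)), map_mul π Gl (Gl⁻¹ * b * Gl),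
        map_inv π Gl]
      exact h4
    rwa [show Gl * (Gl⁻¹ * b * Gl) * Gl⁻¹ = b by group] at h3
  · have h3 := h.map (MulAut.conj Gl⁻¹).toMonoidHom
    simp only [MulEquiv.coe_toMonoidHom, MulAut.conj_apply, inv_inv] at h3
    rw [show Gl⁻¹ * (Gl * B * Gl⁻¹) * Gl = B by group] at h3
    have h4 := hBR.mul_right h3.inv_right
    rw [hR, mul_inv_cancel_right] at h4
    exact h4.symm

/-- Let n ≥ 5 and let G be a finite perfect group whose centre has order 2 with G/Z(G) isomorphic to the alternating group of degree n (the double cover of the alternating group). Then every element of G is a commutator. -/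
theorem result {G : Type*} [Group G] [Finite G] (hperf : commutator G = ⊤) {n : ℕ} (hn : 5 ≤ n)
    (hZ : Nat.card (Subgroup.center G) = 2) (e : G ⧸ Subgroup.center G ≃* alternatingGroup (Fin n))
    (g : G) :
    ∃ a b : G, a * b * a⁻¹ * b⁻¹ = g := by
  classical
  set π : G →* Equiv.Perm (Fin n) := (alternatingGroup (Fin n)).subtype.comp
    (e.toMonoidHom.comp (QuotientGroup.mk' (Subgroup.center G))) with hπ
  have hkc : π.ker = Subgroup.center G := by
    ext t
    rw [MonoidHom.mem_ker, ← QuotientGroup.eq_one_iff, ← e.map_eq_one_iff]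
    exact ⟨fun h => Subtype.ext h, fun h => congrArg Subtype.val h⟩
  have hlift : ∀ σ : Equiv.Perm (Fin n), Equiv.Perm.sign σ = 1 → ∃ t, π t = σ := by
    intro σ hσ
    obtain ⟨t, ht⟩ := QuotientGroup.mk'_surjective _ (e.symm ⟨σ, hσ⟩)
    refine ⟨t, ?_⟩
    show ((e (QuotientGroup.mk' _ t)) : Equiv.Perm (Fin n)) = σ
    rw [ht, MulEquiv.apply_symm_apply]
  have E : Ext π :=
    { central := hkc.le
      comm := by rw [hperf]; exact le_top
      lift := hlift
      even := fun t => (e (QuotientGroup.mk' _ t)).2 }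
  have hker : Nat.card π.ker = 2 := by rw [hkc, hZ]
  have hK2 : ∀ t : G, π t = 1 → t * t = 1 := by
    intro t ht
    have h := pow_card_eq_one' (x := (⟨t, MonoidHom.mem_ker.2 ht⟩ : π.ker))
    rw [hker, pow_two] at h
    exact congrArg Subtype.val h
  have hND : Cfsg.IsNonsplitDoubleCover G (alternatingGroup (Fin n)) := by
    refine ⟨hZ, ⟨e⟩, fun L hL => ?_⟩
    have hLn : L.Normal := ⟨fun l hl t => by
      obtain ⟨⟨⟨z, hz⟩, ⟨l', hl'⟩⟩, ht⟩ := hL.2 t
      simp only at ht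
      subst ht
      have hm : l' * l * l'⁻¹ ∈ L := L.mul_mem (L.mul_mem hl' hl) (L.inv_mem hl')
      rw [show z * l' * l * (z * l')⁻¹ = z * (l' * l * l'⁻¹) * z⁻¹ by group,
        ← Subgroup.mem_center_iff.1 hz (l' * l * l'⁻¹), mul_inv_cancel_right]
      exact hm⟩
    haveI := hLn
    have hidx : L.index = 2 := by rw [← hZ]; exact hL.index_eq_card
    have h2 : ∀ a b : G ⧸ L, a * b = b * a := by
      haveI : Fact (Nat.Prime 2) := ⟨Nat.prime_two⟩
      have hc : IsCyclic (G ⧸ L) := isCyclic_of_prime_card (p := 2) (by rw [← Subgroup.index_eq_card, hidx])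
      intro a b
      exact hc.commGroup.mul_comm a b
    letI : CommGroup (G ⧸ L) := { (inferInstance : Group (G ⧸ L)) with mul_comm := h2 }
    have h3 : (⊤ : Subgroup G) ≤ L := by
      rw [← hperf, ← QuotientGroup.ker_mk' L]
      exact Abelianization.commutator_subset_ker _
    rw [top_le_iff.1 h3, Subgroup.index_top] at hidx
    omega
  obtain ⟨A, B, hA, hB, hne⟩ := not_commute E hn hker hND hkc
  obtain ⟨b₀, hb₀, hpairs, hconj⟩ := AltOre.exists_partner (α := Fin n) (by rw [Fintype.card_fin]; exact hn)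
    (x := π g) (E.even g)
  obtain ⟨b, rfl⟩ := hlift b₀ hb₀
  obtain ⟨a₀, ha₀⟩ := isConj_iff.1 hconj
  obtain ⟨a₁, hsa, ha₁⟩ : ∃ a₁ : Equiv.Perm (Fin n), Equiv.Perm.sign a₁ = 1 ∧ a₁ * π b * a₁⁻¹ = π g * π b := by
    rcases Int.units_eq_one_or (Equiv.Perm.sign a₀) with hs | hs
    · exact ⟨a₀, hs, ha₀⟩
    · obtain ⟨p, q, u, v, hpq, -, -, -, -, -, e1, e2, -, -⟩ := hpairs
      refine ⟨a₀ * Equiv.swap p q, by rw [map_mul, hs, Equiv.Perm.sign_swap hpq]; rfl, ?_⟩
      have hsw : Equiv.swap p q * π b * (Equiv.swap p q)⁻¹ = π b := by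
        have h : π b * Equiv.swap p q * (π b)⁻¹ = Equiv.swap p q := by
          rw [← Equiv.swap_apply_apply, e1, e2, Equiv.swap_comm]
        rw [mul_inv_eq_iff_eq_mul] at h ⊢
        exact h.symm
      rw [show a₀ * Equiv.swap p q * π b * (a₀ * Equiv.swap p q)⁻¹ =
        a₀ * (Equiv.swap p q * π b * (Equiv.swap p q)⁻¹) * a₀⁻¹ by group, hsw, ha₀]
  obtain ⟨a, rfl⟩ := hlift a₁ hsa
  obtain ⟨t, ht, hgt⟩ := E.exists_mul (x := g) (y := a * b * a⁻¹ * b⁻¹) (by
    simp only [map_mul, map_inv, ha₁, mul_inv_cancel_right])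
  by_cases ht1 : t = 1
  · exact ⟨a, b, by rw [hgt, ht1, mul_one]⟩
  obtain ⟨c, hcb, hncb⟩ := exists_anti E hK2 hn hA hB hne hpairs
  refine ⟨a * c, b, ?_⟩
  obtain ⟨hz1, -⟩ := commutator_data E hK2 (x := c) (y := b) hcb
  have hz : c * b * c⁻¹ * b⁻¹ = t := by
    have h2 : Nat.card π.ker = 2 := hker
    rw [Nat.card_eq_two_iff' (1 : π.ker)] at h2
    obtain ⟨w, -, hw⟩ := h2
    have e1 := hw ⟨⁅c, b⁆, MonoidHom.mem_ker.2 hz1⟩ fun h =>
      hncb (commutatorElement_eq_one_iff_commute.1 (congrArg Subtype.val h))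
    have e2 := hw ⟨t, MonoidHom.mem_ker.2 ht⟩ fun h => ht1 (congrArg Subtype.val h)
    rw [← commutatorElement_def]
    exact congrArg Subtype.val (e1.trans e2.symm)
  rw [hgt, show a * c * b * (a * c)⁻¹ * b⁻¹ = a * (c * b * c⁻¹ * b⁻¹) * b * a⁻¹ * b⁻¹ by group, hz,
    ← (E.cen ht a).eq, show t * a * b * a⁻¹ * b⁻¹ = t * (a * b * a⁻¹ * b⁻¹) by group, (E.cen ht _).eq]

end Cfsg.Agent.S2493
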