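import Cfsg.Statements.S2504
import Cfsg.Agent.Lib.LinearBlock.AbelBuild

set_option autoImplicit false
open Cfsg

namespace Cfsg.Agent.S2504

/-- The largest order of an abelian subgroup of the alternating group of degree n is 3^k when n = 3k, 4·3^(k−1) when n = 3k + 1, and 16·3^(k−2) when n = 3k + 2, for every k ≥ 2 (so for all degrees n ≥ 6). -/
theorem result (k : ℕ) (hk : 2 ≤ k) :
    IsGreatest {c : ℕ | ∃ A : Subgroup (alternatingGroup (Fin (3 * k))), IsMulCommutative A ∧ Nat.card A = c} (3 ^ k) ∧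
    IsGreatest {c : ℕ | ∃ A : Subgroup (alternatingGroup (Fin (3 * k + 1))), IsMulCommutative A ∧ Nat.card A = c}
      (4 * 3 ^ (k - 1)) ∧
    IsGreatest {c : ℕ | ∃ A : Subgroup (alternatingGroup (Fin (3 * k + 2))), IsMulCommutative A ∧ Nat.card A = c}
      (16 * 3 ^ (k - 2)) := by
  obtain ⟨i, rfl⟩ : ∃ i, k = i + 2 := ⟨k - 2, by omega⟩
  have h0 := LinearBlock.AbelPerm.isGreatest_alt (n := 3 * (i + 2)) (by omega) (by omega)
  have h1 := LinearBlock.AbelPerm.isGreatest_alt (n := 3 * (i + 2) + 1) (by omega) (by omega)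
  have h2 := LinearBlock.AbelPerm.isGreatest_alt (n := 3 * (i + 2) + 2) (by omega) (by omega)
  rw [LinearBlock.AbelPerm.h, if_pos (by omega), show 3 * (i + 2) / 3 = i + 2 by omega] at h0
  rw [LinearBlock.AbelPerm.h, if_neg (by omega), if_pos (by omega),
    show (3 * (i + 2) + 1) / 3 - 1 = i + 2 - 1 by omega] at h1
  rw [LinearBlock.AbelPerm.h, if_neg (by omega), if_neg (by omega),
    show (3 * (i + 2) + 2) / 3 - 2 = i + 2 - 2 by omega] at h2
  exact ⟨h0, h1, h2⟩

end Cfsg.Agent.S2504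

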