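import Cfsg.Statements.S2506
import Cfsg.Agent.Lib.LinearBlock.AbelBuild

set_option autoImplicit false
open scoped Pointwise
open Cfsg

namespace Cfsg.Agent.S2506

/-- In the alternating group of any degree, any two abelian subgroups of the largest possible order (among abelian subgroups) are conjugate. -/
theorem result (n : ℕ)
    (A B : Subgroup (alternatingGroup (Fin n))) (hA : IsMulCommutative A) (hB : IsMulCommutative B)
    (hAmax : ∀ C : Subgroup (alternatingGroup (Fin n)), IsMulCommutative C → Nat.card C ≤ Nat.card A)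
    (hBmax : ∀ C : Subgroup (alternatingGroup (Fin n)), IsMulCommutative C → Nat.card C ≤ Nat.card B) :
    ∃ g : alternatingGroup (Fin n), B = MulAut.conj g • A := by
  classical
  rcases Nat.lt_or_ge n 3 with hn | hn
  · have hs : Subsingleton (alternatingGroup (Fin n)) := by
      interval_cases n <;> exact ⟨by decide +kernel⟩
    exact ⟨1, Subsingleton.elim _ _⟩
  rcases eq_or_ne n 5 with rfl | h5
  · haveI : Fact (Nat.Prime 5) := ⟨by norm_num⟩
    have hcard : Nat.card (alternatingGroup (Fin 5)) = 60 := by rw [nat_card_alternatingGroup, Nat.card_fin]; rfl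
    obtain ⟨x, hx⟩ := exists_prime_orderOf_dvd_card' (G := alternatingGroup (Fin 5)) 5 (by rw [hcard]; norm_num)
    have hz : IsMulCommutative (Subgroup.zpowers x) := inferInstance
    have hA5 : Nat.card A = 5 := le_antisymm (LinearBlock.AbelPerm.card_le_five A hA)
      (by have := hAmax _ hz; rwa [Nat.card_zpowers, hx] at this)
    have hB5 : Nat.card B = 5 := le_antisymm (LinearBlock.AbelPerm.card_le_five B hB)
      (by have := hBmax _ hz; rwa [Nat.card_zpowers, hx] at this)
    have hf : (Nat.card (alternatingGroup (Fin 5))).factorization 5 = 1 := by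
      rw [hcard, show 60 = 5 ^ 1 * 12 by norm_num,
        Nat.factorization_mul (by norm_num) (by norm_num), Finsupp.add_apply,
        Nat.factorization_pow, Finsupp.smul_apply, Nat.Prime.factorization_self (by norm_num),
        Nat.factorization_eq_zero_of_not_dvd (by norm_num : ¬ 5 ∣ 12)]
      rfl
    obtain ⟨g, hg⟩ := MulAction.exists_smul_eq (alternatingGroup (Fin 5))
      (Sylow.ofCard A (by rw [hA5, hf, pow_one])) (Sylow.ofCard B (by rw [hB5, hf, pow_one]))
    exact ⟨g, (congrArg Sylow.toSubgroup hg).symm⟩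
  obtain ⟨M, hM, hMc⟩ := LinearBlock.AbelPerm.exists_alt (LinearBlock.AbelPerm.ex_h hn h5)
  obtain ⟨hcA, heA, hcardA⟩ := LinearBlock.AbelPerm.alt_view hA
  obtain ⟨hcB, heB, hcardB⟩ := LinearBlock.AbelPerm.alt_view hB
  obtain ⟨σ, hσ, hmap⟩ := LinearBlock.AbelPerm.exists_conj (Fintype.card_fin n) hn h5 _ _ hcA hcB heA heB
    (by rw [hcardA, ← hMc]; exact hAmax M hM) (by rw [hcardB, ← hMc]; exact hBmax M hM)
  refine ⟨⟨σ, Equiv.Perm.mem_alternatingGroup.2 hσ⟩, Subgroup.map_injective (alternatingGroup (Fin n)).subtype_injective ?_⟩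
  rw [← hmap, Subgroup.map_map, Subgroup.pointwise_smul_def]
  exact (Eq.symm (Subgroup.map_map _ _ _))

end Cfsg.Agent.S2506

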