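import Cfsg.Statements.S2510
import Cfsg.Agent.Lib.Spectra.Projective

set_option autoImplicit false
open Cfsg

namespace Cfsg.Agent.S2510

open Spectra Polynomial

theorem orderOf_abelian_dvd {r m : ℕ} (h : Multiplicative (Fin m → ZMod r)) : orderOf h ∣ r := by
  refine orderOf_dvd_of_pow_eq_one ?_
  apply Multiplicative.toAdd.injective
  rw [toAdd_pow, toAdd_one]
  funext i
  simp

theorem dvd_lcm_mul {M r N : ℕ} (h : M ∣ N) : Nat.lcm M r ∣ Nat.lcm N r :=
  Nat.lcm_dvd (h.trans (Nat.dvd_lcm_left _ _)) (Nat.dvd_lcm_right _ _)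

theorem exists_psl_pow_char {F : Type*} [Field F] (p : ℕ) [Fact p.Prime] [CharP F p] {n : ℕ}
    (hn : 1 ≤ n) :
    ∃ υ : Matrix.ProjectiveSpecialLinearGroup (Fin n) F, orderOf υ = p ^ Nat.clog p n := by
  obtain ⟨u, hu, -⟩ := exists_unipotent_unit (F := F) p hn
  have : Module.Finite F (AdjoinRoot (X ^ n : F[X])) := (monic_X_pow n).finite_adjoinRoot
  obtain ⟨g, hg⟩ := exists_GL_orderOf (n := n) (finrank_adjoinRoot_X_pow (F := F) n).le u
  have hg1 : g ^ p ^ Nat.clog p n = 1 := by rw [← hu, ← hg, pow_orderOf_eq_one]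
  obtain ⟨s, -, hs⟩ := exists_psl_of_pow_char_pow p hn g hg1
  exact ⟨_, hs.trans (hg.trans hu)⟩

/-- For `n - 1` not a power of `p` some element has order `r` times the largest `p`-power order. -/
theorem exists_psl_mixed {F : Type*} [Field F] [Fintype F] (p : ℕ) [Fact p.Prime] [CharP F p]
    {n r : ℕ} (hn : 2 ≤ n) (hr : r.Prime) (hrp : r.Coprime p)
    (hrq : r ∣ Fintype.card F - 1) (hrn : ¬ r ∣ n) (hpn : ¬ ∃ j : ℕ, n - 1 = p ^ j) :
    ∃ w : Matrix.ProjectiveSpecialLinearGroup (Fin n) F,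
      orderOf w = r * p ^ Nat.clog p n := by
  have hp : p.Prime := Fact.out
  obtain ⟨u, hu, -⟩ := exists_unipotent_unit (F := F) p (m := n - 1) (by omega)
  have hclog : Nat.clog p (n - 1) = Nat.clog p n := by
    refine le_antisymm (Nat.clog_mono_right p (by omega)) (Nat.clog_le_of_le_pow ?_)
    have h1 := Nat.le_pow_clog hp.one_lt (n - 1)
    rcases h1.eq_or_lt with h | h
    · exact absurd ⟨_, h⟩ hpn
    · omega
  have : Module.Finite F (AdjoinRoot (X ^ (n - 1) : F[X])) :=
    (monic_X_pow (n - 1)).finite_adjoinRoot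
  have hd : Module.finrank F (AdjoinRoot (X ^ (n - 1) : F[X]) × F) = n := by
    rw [Module.finrank_prod, finrank_adjoinRoot_X_pow, Module.finrank_self]; omega
  let b := Module.finBasisOfFinrankEq F (AdjoinRoot (X ^ (n - 1) : F[X]) × F) hd
  let g := unitsGL b (MulEquiv.prodUnits.symm (u, 1))
  have hgord : orderOf g = p ^ Nat.clog p n := by
    rw [orderOf_injective (unitsGL b) (unitsGL_injective b), MulEquiv.orderOf_eq, Prod.orderOf,
      orderOf_one, Nat.lcm_one_right, hu, hclog]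
  have hg1 : g ^ p ^ Nat.clog p n = 1 := by rw [← hgord, pow_orderOf_eq_one]
  obtain ⟨s, hsg, hs⟩ := exists_psl_of_pow_char_pow p (by omega) g hg1
  let E := Algebra.leftMulMatrix b ((0, 1) : AdjoinRoot (X ^ (n - 1) : F[X]) × F)
  have : Nontrivial (AdjoinRoot (X ^ (n - 1) : F[X])) :=
    AdjoinRoot.nontrivial _ (by rw [degree_X_pow]; exact_mod_cast (by omega : n - 1 ≠ 0))
  obtain ⟨z, hzs, hz⟩ := exists_commute_orderOf hr hrq hrn s E
    (by rw [← map_mul]; simp [E, Prod.mk_mul_mk])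
    (by
      intro h
      have := Algebra.leftMulMatrix_injective b (h.trans (map_zero (Algebra.leftMulMatrix b)).symm)
      exact one_ne_zero (congrArg Prod.snd this))
    (by
      intro h
      have := Algebra.leftMulMatrix_injective b (h.trans (map_one (Algebra.leftMulMatrix b)).symm)
      exact zero_ne_one (congrArg Prod.fst this))
    (by rw [hsg]; exact (Commute.all _ _).map (Algebra.leftMulMatrix b))
  refine ⟨z * QuotientGroup.mk s, ?_⟩
  have hcop : (orderOf z).Coprime (orderOf (QuotientGroup.mk s :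
      Matrix.ProjectiveSpecialLinearGroup (Fin n) F)) := by
    rw [hz, hs, hgord]; exact Nat.Coprime.pow_right _ hrp
  rw [hzs.orderOf_mul_eq_mul_orderOf_of_coprime hcop, hz, hs, hgord]

/-- Let F be a finite field with q = p^a elements, n ≥ 2 (with q ≥ 4 when n = 2), L = PSL(n, F), and let r be a prime dividing q − 1 and not dividing n. Then for every m the direct product L × L × L × (ℤ/r)^m has the same set of element orders as L × L × L; and if n − 1 ≠ p^j for every j ≥ 0 (so never when n = 2, since 1 = p^0), then already L × L × (ℤ/r)^m has the same set of element orders as L × L. -/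
theorem result {F : Type*} [Field F] [Fintype F] (p a n r m : ℕ) (hp : p.Prime) (ha : 1 ≤ a) (hF : Fintype.card F = p ^ a)
    (hn : 2 ≤ n) (hn2 : n = 2 → 4 ≤ Fintype.card F) (hr : r.Prime) (hrq : r ∣ Fintype.card F - 1) (hrn : ¬ r ∣ n) :
    Set.range (orderOf : Matrix.ProjectiveSpecialLinearGroup (Fin n) F × Matrix.ProjectiveSpecialLinearGroup (Fin n) F × Matrix.ProjectiveSpecialLinearGroup (Fin n) F × Multiplicative (Fin m → ZMod r) → ℕ) =
      Set.range (orderOf : Matrix.ProjectiveSpecialLinearGroup (Fin n) F × Matrix.ProjectiveSpecialLinearGroup (Fin n) F × Matrix.ProjectiveSpecialLinearGroup (Fin n) F → ℕ) ∧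
    ((¬ ∃ j : ℕ, n - 1 = p ^ j) →
      Set.range (orderOf : Matrix.ProjectiveSpecialLinearGroup (Fin n) F × Matrix.ProjectiveSpecialLinearGroup (Fin n) F × Multiplicative (Fin m → ZMod r) → ℕ) =
        Set.range (orderOf : Matrix.ProjectiveSpecialLinearGroup (Fin n) F × Matrix.ProjectiveSpecialLinearGroup (Fin n) F → ℕ)) := by
  classical
  have : Fact p.Prime := ⟨hp⟩
  have hchar : CharP F p := by
    obtain ⟨p', hp'⟩ := CharP.exists F
    obtain ⟨a', hpp, hcard⟩ := FiniteField.card F p'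
    have hd : p' ∣ p ^ a := by rw [← hF, hcard]; exact dvd_pow_self p' a'.pos.ne'
    exact ((Nat.prime_dvd_prime_iff_eq hpp hp).mp (hpp.dvd_of_dvd_pow hd)) ▸ hp'
  have hrp : r.Coprime p := by
    rw [hr.coprime_iff_not_dvd, Nat.prime_dvd_prime_iff_eq hr hp]
    rintro rfl
    rw [hF] at hrq
    have h1 : r ∣ r ^ a := dvd_pow_self r (by omega)
    have h2 : 1 ≤ r ^ a := Nat.one_le_pow _ _ hr.pos
    exact hr.not_dvd_one (by
      have := Nat.dvd_sub h1 hrq
      rwa [show r ^ a - (r ^ a - 1) = 1 by omega] at this)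
  obtain ⟨σ, hσr, hσp, hσ⟩ := exists_singer_psl (F := F) p a ha hF (n := n) (by omega) hr hrq hrn
  obtain ⟨υ, hυ⟩ := exists_psl_pow_char (F := F) p (n := n) (by omega)
  have key : ∀ x : Matrix.ProjectiveSpecialLinearGroup (Fin n) F,
      (∃ z, Commute z x ∧ orderOf z = r) ∨ orderOf x ∣ orderOf σ * p ^ Nat.clog p n := by
    intro x
    induction x using QuotientGroup.induction_on with
    | H s =>
      have : Nonempty (Fin n) := ⟨⟨0, by omega⟩⟩
      rcases idempotent_or_primary (s : Matrix (Fin n) (Fin n) F) with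
        ⟨f, hfm, hf, hnil, e, he⟩ | ⟨E, hE, h0, h1, hc⟩
      · exact Or.inr (orderOf_dvd_of_pow_eq_one (hσ s f e hfm hf hnil he))
      · exact Or.inl (exists_commute_orderOf hr hrq hrn s E hE h0 h1 hc)
  -- either some factor can be multiplied by an element of order `r`, or it is small
  have key' : ∀ x : Matrix.ProjectiveSpecialLinearGroup (Fin n) F,
      (∃ x' : Matrix.ProjectiveSpecialLinearGroup (Fin n) F, orderOf x' = Nat.lcm (orderOf x) r) ∨
        orderOf x ∣ orderOf σ * p ^ Nat.clog p n := by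
    intro x
    rcases key x with ⟨z, hzx, hz⟩ | h
    · refine Or.inl ?_
      by_cases hdvd : r ∣ orderOf x
      · exact ⟨x, (Nat.lcm_eq_left hdvd).symm⟩
      · refine ⟨z * x, ?_⟩
        have hcop : (orderOf z).Coprime (orderOf x) := by
          rw [hz]; exact hr.coprime_iff_not_dvd.mpr hdvd
        rw [hzx.orderOf_mul_eq_mul_orderOf_of_coprime hcop, hz,
          Nat.Coprime.lcm_eq_mul (Nat.coprime_comm.mp (hr.coprime_iff_not_dvd.mpr hdvd)), mul_comm]
    · exact Or.inr h
  have hσu : orderOf σ * p ^ Nat.clog p n ∣ Nat.lcm (orderOf σ) (p ^ Nat.clog p n) :=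
    dvd_of_eq (Nat.Coprime.lcm_eq_mul (hσp.pow_right _)).symm
  refine ⟨?_, fun hpn => ?_⟩
  · apply Set.Subset.antisymm
    · rintro _ ⟨⟨x, y, w, h⟩, rfl⟩
      simp only [Prod.orderOf]
      rcases (Nat.dvd_prime hr).mp (orderOf_abelian_dvd h) with h1 | h1
      · exact ⟨(x, y, w), by simp [Prod.orderOf, h1]⟩
      rw [h1]
      rcases key' x with ⟨x', hx'⟩ | hx
      · exact ⟨(x', y, w), by simp only [Prod.orderOf, hx']; ac_rfl⟩
      rcases key' y with ⟨y', hy'⟩ | hy
      · exact ⟨(x, y', w), by simp only [Prod.orderOf, hy']; ac_rfl⟩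
      rcases key' w with ⟨w', hw'⟩ | hw
      · exact ⟨(x, y, w'), by simp only [Prod.orderOf, hw']⟩
      obtain ⟨z, -, hz⟩ : ∃ z : Matrix.ProjectiveSpecialLinearGroup (Fin n) F,
          Commute z 1 ∧ orderOf z = r := by
        let E : Matrix (Fin n) (Fin n) F :=
          Matrix.diagonal fun i => if i.val = 0 then 1 else 0
        obtain ⟨z, -, hz⟩ := exists_commute_orderOf hr hrq hrn
          (1 : Matrix.SpecialLinearGroup (Fin n) F) E
          (by rw [Matrix.diagonal_mul_diagonal]; congr 1; funext i; split_ifs <;> simp)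
          (fun h => by simpa [E] using congrFun (congrFun h ⟨0, by omega⟩) ⟨0, by omega⟩)
          (fun h => by simpa [E] using congrFun (congrFun h ⟨1, by omega⟩) ⟨1, by omega⟩)
          (by rw [Matrix.SpecialLinearGroup.coe_one]; exact Commute.one_right E)
        exact ⟨z, Commute.one_right z, hz⟩
      refine ⟨(σ, υ, z) ^ (orderOf (σ, υ, z) / _), orderOf_pow_orderOf_div (orderOf_pos _).ne' ?_⟩
      simp only [Prod.orderOf, hυ, hz]
      rw [← Nat.lcm_assoc (orderOf σ), ← Nat.lcm_assoc (orderOf y), ← Nat.lcm_assoc (orderOf x)]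
      exact dvd_lcm_mul ((Nat.lcm_dvd hx (Nat.lcm_dvd hy hw)).trans hσu)
    · rintro _ ⟨⟨x, y, w⟩, rfl⟩
      exact ⟨(x, y, w, 1), by simp [Prod.orderOf]⟩
  · obtain ⟨v, hv⟩ := exists_psl_mixed (F := F) p hn hr hrp hrq hrn hpn
    apply Set.Subset.antisymm
    · rintro _ ⟨⟨x, y, h⟩, rfl⟩
      simp only [Prod.orderOf]
      rcases (Nat.dvd_prime hr).mp (orderOf_abelian_dvd h) with h1 | h1
      · exact ⟨(x, y), by simp [Prod.orderOf, h1]⟩
      rw [h1]
      rcases key' x with ⟨x', hx'⟩ | hx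
      · exact ⟨(x', y), by simp only [Prod.orderOf, hx']; ac_rfl⟩
      rcases key' y with ⟨y', hy'⟩ | hy
      · exact ⟨(x, y'), by simp only [Prod.orderOf, hy']⟩
      refine ⟨(σ, v) ^ (orderOf (σ, v) / _), orderOf_pow_orderOf_div (orderOf_pos _).ne' ?_⟩
      simp only [Prod.orderOf, hv]
      rw [← Nat.lcm_assoc (orderOf x), ← Nat.Coprime.lcm_eq_mul (hrp.pow_right (Nat.clog p n)),
        Nat.lcm_comm r, ← Nat.lcm_assoc (orderOf σ)]
      exact dvd_lcm_mul ((Nat.lcm_dvd hx hy).trans hσu)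
    · rintro _ ⟨⟨x, y⟩, rfl⟩
      exact ⟨(x, y, 1), by simp [Prod.orderOf]⟩

end Cfsg.Agent.S2510
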