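import Cfsg.Statements.S2511
import Cfsg.Agent.Lib.Spectra.UnitaryOrders

set_option autoImplicit false
open Cfsg

namespace Cfsg.Agent.S2511

open UnitarySpectra Polynomial

theorem orderOf_abelian_dvd {r m : ℕ} (h : Multiplicative (Fin m → ZMod r)) : orderOf h ∣ r := by
  refine orderOf_dvd_of_pow_eq_one ?_
  apply Multiplicative.toAdd.injective
  rw [toAdd_pow, toAdd_one]
  funext i
  simp

theorem dvd_lcm_mul {M r N : ℕ} (h : M ∣ N) : Nat.lcm M r ∣ Nat.lcm N r :=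
  Nat.lcm_dvd (h.trans (Nat.dvd_lcm_left _ _)) (Nat.dvd_lcm_right _ _)

theorem exists_quot (q : ℕ) (hq : 2 ≤ q) (n : ℕ) :
    ∃ N0 : ℕ, ((q : ℤ) + 1) * N0 = (q : ℤ) ^ n - (-1) ^ n := by
  obtain ⟨S, hS⟩ : ∃ S : ℤ, S = ∑ i ∈ Finset.range n, (q : ℤ) ^ i * (-1 : ℤ) ^ (n - 1 - i) := ⟨_, rfl⟩
  have h : S * ((q : ℤ) + 1) = (q : ℤ) ^ n - (-1) ^ n := by
    rw [hS, ← geom_sum₂_mul, sub_neg_eq_add]
  obtain ⟨N0, rfl⟩ : ∃ N0 : ℕ, S = N0 := by
    refine ⟨S.toNat, (Int.toNat_of_nonneg ?_).symm⟩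
    by_contra hneg
    push Not at hneg
    have h1 : (q : ℤ) ^ n - (-1) ^ n < 0 := h ▸ mul_neg_of_neg_of_pos hneg (by omega)
    have h2 : (1 : ℤ) ≤ (q : ℤ) ^ n := one_le_pow₀ (by omega)
    rcases Nat.even_or_odd n with he | ho
    · rw [he.neg_one_pow] at h1; omega
    · rw [ho.neg_one_pow] at h1; omega
  exact ⟨N0, by linear_combination h⟩

/-- Let F be a finite field with q² elements, q = p^a, n ≥ 3 with (n, q) ≠ (3, 2), L = PSU(n, q) realised over F, and let r be a prime dividing q + 1 and not dividing n. Then for every m the direct product L × L × L × (ℤ/r)^m has the same set of element orders as L × L × L; and if n − 1 is not a power of p, then already L × L × (ℤ/r)^m has the same set of element orders as L × L. -/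
theorem result {F : Type*} [Field F] [Fintype F] (p a n q r m : ℕ) (hp : p.Prime) (ha : 1 ≤ a) (hq : q = p ^ a) (hF : Fintype.card F = q ^ 2)
    (hn : 3 ≤ n) (hn3 : ¬ (n = 3 ∧ q = 2)) (hr : r.Prime) (hrq : r ∣ q + 1) (hrn : ¬ r ∣ n) :
    Set.range (orderOf : Cfsg.PSU n F q × Cfsg.PSU n F q × Cfsg.PSU n F q × Multiplicative (Fin m → ZMod r) → ℕ) = Set.range (orderOf : Cfsg.PSU n F q × Cfsg.PSU n F q × Cfsg.PSU n F q → ℕ) ∧
    ((¬ ∃ j : ℕ, n - 1 = p ^ j) →
      Set.range (orderOf : Cfsg.PSU n F q × Cfsg.PSU n F q × Multiplicative (Fin m → ZMod r) → ℕ) = Set.range (orderOf : Cfsg.PSU n F q × Cfsg.PSU n F q → ℕ)) := by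
  classical
  have : Fact p.Prime := ⟨hp⟩
  have hchar : CharP F p := by
    obtain ⟨p', hp'⟩ := CharP.exists F
    obtain ⟨a', hpp, hcard⟩ := FiniteField.card F p'
    have hd : p' ∣ p ^ (a * 2) := by
      rw [pow_mul, ← hq, ← hF, hcard]; exact dvd_pow_self p' a'.pos.ne'
    exact ((Nat.prime_dvd_prime_iff_eq hpp hp).mp (hpp.dvd_of_dvd_pow hd)) ▸ hp'
  have : ExpChar F p := ExpChar.prime hp
  have hq2 : 2 ≤ q := hq ▸ hp.two_le.trans (Nat.le_self_pow (by omega) p)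
  obtain ⟨σ, hσ⟩ : ∃ σ : F ≃+* F, ∀ x, σ x = x ^ q :=
    ⟨RingEquiv.ofBijective (iterateFrobenius F p a)
      (Finite.injective_iff_bijective.1 (RingHom.injective _)),
      fun x => by simp [iterateFrobenius_def, hq]⟩
  have hσσ : ∀ x, σ (σ x) = x := fun x => by
    rw [hσ, hσ, ← pow_mul, ← sq, ← hF, FiniteField.pow_card]
  obtain ⟨g, hg⟩ := IsCyclic.exists_ofOrder_eq_natCard (α := Fˣ)
  rw [Nat.card_units, Nat.card_eq_fintype_card, hF] at hg
  have hμ : σ (g : F) ≠ g := by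
    intro h
    have h1 : g ^ q = g := Units.ext (by rw [Units.val_pow_eq_pow_val, ← hσ, h])
    have h2 : g ^ (q - 1) = 1 := by
      have : g ^ (q - 1) * g = 1 * g := by
        rw [one_mul, ← pow_succ, Nat.sub_add_cancel (by omega), h1]
      exact mul_right_cancel this
    have h3 := Nat.le_of_dvd (by omega) (hg ▸ orderOf_dvd_of_pow_eq_one h2)
    have h4 : 2 * q ≤ q ^ 2 := by rw [sq]; exact Nat.mul_le_mul_right q hq2
    omega
  have hσ2 : orderOf σ = 2 := by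
    have : Fact (Nat.Prime 2) := ⟨Nat.prime_two⟩
    exact orderOf_eq_prime (RingEquiv.ext fun x => by rw [sq]; exact hσσ x)
      fun h => hμ (by rw [h]; rfl)
  obtain ⟨ζ, hζr, hζ1⟩ : ∃ ζ : F, ζ ^ r = 1 ∧ ζ ≠ 1 := by
    have : Fact r.Prime := ⟨hr⟩
    have hdvd : r ∣ orderOf g := by
      rw [hg]
      exact hrq.trans ⟨q - 1, by simpa using Nat.sq_sub_sq q 1⟩
    refine ⟨((g ^ (orderOf g / r) : Fˣ) : F), ?_, fun h => ?_⟩
    · rw [← Units.val_pow_eq_pow_val, orderOf_dvd_iff_pow_eq_one.1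
        (orderOf_pow_orderOf_div (orderOf_pos g).ne' hdvd).dvd, Units.val_one]
    · have := orderOf_pow_orderOf_div (orderOf_pos g).ne' hdvd
      rw [Units.ext (h.trans Units.val_one.symm), orderOf_one] at this
      exact hr.ne_one this.symm
  have hζ : σ ζ * ζ = 1 := by
    obtain ⟨k, hk⟩ := hrq
    rw [hσ, ← pow_succ, hk, pow_mul, hζr, one_pow]
  have hrp : r.Coprime p := by
    rw [hr.coprime_iff_not_dvd, Nat.prime_dvd_prime_iff_eq hr hp]
    rintro rfl
    exact hr.not_dvd_one ((Nat.dvd_add_right (hq ▸ dvd_pow_self r (by omega))).1 hrq)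
  obtain ⟨N0, hN0⟩ := exists_quot q hq2 n
  obtain ⟨σt, hσt, hσt'⟩ := exists_torus p a hq hF σ hσ hσ2 hn hζ hζ1 N0 hN0
  obtain ⟨υ, hυ⟩ := exists_unipotent (n := n) p σ hσ hσ2 hσσ hμ hn hζ hζ1
  have hσp : (orderOf σt).Coprime p := by
    refine Nat.Coprime.coprime_dvd_left hσt' ?_
    rw [Nat.coprime_comm, hp.coprime_iff_not_dvd]
    intro h
    have h1 : ((N0 : ℤ) : ZMod p) = 0 := by
      rw [Int.cast_natCast]; exact (ZMod.natCast_eq_zero_iff _ _).2 h
    have h2 := congrArg (Int.cast : ℤ → ZMod p) hN0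
    push_cast at h2 h1
    have h3 : ((q : ℕ) : ZMod p) = 0 := by
      rw [ZMod.natCast_eq_zero_iff, hq]; exact dvd_pow_self p (by omega)
    rw [h1, h3, mul_zero, zero_pow (by omega : n ≠ 0), zero_sub, eq_comm, neg_eq_zero] at h2
    exact pow_ne_zero n (neg_ne_zero.2 one_ne_zero) h2
  have key : ∀ x : Cfsg.PSU n F q,
      (∃ z, Commute z x ∧ orderOf z = r) ∨ orderOf x ∣ orderOf σt * p ^ Nat.clog p n := by
    intro x
    induction x using QuotientGroup.induction_on with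
    | H s =>
      rcases bound p a hq hF σ hσ hn hζ hζ1 N0 hN0 s with ⟨E, hE, hEa, h0, h1, hc⟩ | h
      · exact Or.inl (exists_commute_orderOf σ hσ hn hζ hζ1 hr hrq hζr hrn s E hE hEa h0 h1 hc)
      · exact Or.inr ((orderOf_dvd_of_pow_eq_one h).trans (Nat.mul_dvd_mul_right hσt _))
  have key' : ∀ x : Cfsg.PSU n F q,
      (∃ x' : Cfsg.PSU n F q, orderOf x' = Nat.lcm (orderOf x) r) ∨
        orderOf x ∣ orderOf σt * p ^ Nat.clog p n := by
    intro x
    rcases key x with ⟨z, hzx, hz⟩ | h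
    · refine Or.inl ?_
      by_cases hdvd : r ∣ orderOf x
      · exact ⟨x, (Nat.lcm_eq_left hdvd).symm⟩
      · refine ⟨z * x, ?_⟩
        have hcop : (orderOf z).Coprime (orderOf x) := by
          rw [hz]; exact hr.coprime_iff_not_dvd.mpr hdvd
        rw [hzx.orderOf_mul_eq_mul_orderOf_of_coprime hcop, hz,
          Nat.Coprime.lcm_eq_mul (Nat.coprime_comm.mp (hr.coprime_iff_not_dvd.mpr hdvd)), mul_comm]
    · exact Or.inr h
  have hσu : orderOf σt * p ^ Nat.clog p n ∣ Nat.lcm (orderOf σt) (p ^ Nat.clog p n) :=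
    dvd_of_eq (Nat.Coprime.lcm_eq_mul (hσp.pow_right _)).symm
  obtain ⟨v, hv⟩ := exists_mixed (n := n) p σ hσ hσ2 hσσ hμ hn hζ hζ1 hr hrq hζr hrn hrp
  refine ⟨?_, fun hpn => ?_⟩
  · apply Set.Subset.antisymm
    · rintro _ ⟨⟨x, y, w, h⟩, rfl⟩
      simp only [Prod.orderOf]
      rcases (Nat.dvd_prime hr).mp (orderOf_abelian_dvd h) with h1 | h1
      · exact ⟨(x, y, w), by simp [Prod.orderOf, h1]⟩
      rw [h1]
      rcases key' x with ⟨x', hx'⟩ | hx
      · exact ⟨(x', y, w), by simp only [Prod.orderOf, hx']; ac_rfl⟩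
      rcases key' y with ⟨y', hy'⟩ | hy
      · exact ⟨(x, y', w), by simp only [Prod.orderOf, hy']; ac_rfl⟩
      rcases key' w with ⟨w', hw'⟩ | hw
      · exact ⟨(x, y, w'), by simp only [Prod.orderOf, hw']⟩
      refine ⟨(σt, υ, v) ^ (orderOf (σt, υ, v) / _), orderOf_pow_orderOf_div (orderOf_pos _).ne' ?_⟩
      simp only [Prod.orderOf, hυ, hv, Nat.lcm_dvd_iff]
      have hall := (Nat.lcm_dvd hx (Nat.lcm_dvd hy hw)).trans hσu
      rw [Nat.lcm_dvd_iff, Nat.lcm_dvd_iff] at hall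
      have hle : Nat.lcm (orderOf σt) (p ^ Nat.clog p n) ∣
          Nat.lcm (orderOf σt) (Nat.lcm (p ^ Nat.clog p n) (r * p ^ Nat.clog p (n - 1))) :=
        Nat.lcm_dvd (Nat.dvd_lcm_left _ _)
          ((Nat.dvd_lcm_left _ _).trans (Nat.dvd_lcm_right _ _))
      exact ⟨hall.1.trans hle, hall.2.1.trans hle, hall.2.2.trans hle,
        (dvd_mul_right r _).trans ((Nat.dvd_lcm_right _ _).trans (Nat.dvd_lcm_right _ _))⟩
    · rintro _ ⟨⟨x, y, w⟩, rfl⟩
      exact ⟨(x, y, w, 1), by simp [Prod.orderOf]⟩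
  · have hc : Nat.clog p (n - 1) = Nat.clog p n := by
      refine le_antisymm (Nat.clog_mono_right p (by omega)) (Nat.clog_le_of_le_pow ?_)
      rcases (Nat.le_pow_clog hp.one_lt (n - 1)).eq_or_lt with h | h
      · exact absurd ⟨_, h⟩ hpn
      · omega
    rw [hc] at hv
    apply Set.Subset.antisymm
    · rintro _ ⟨⟨x, y, h⟩, rfl⟩
      simp only [Prod.orderOf]
      rcases (Nat.dvd_prime hr).mp (orderOf_abelian_dvd h) with h1 | h1
      · exact ⟨(x, y), by simp [Prod.orderOf, h1]⟩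
      rw [h1]
      rcases key' x with ⟨x', hx'⟩ | hx
      · exact ⟨(x', y), by simp only [Prod.orderOf, hx']; ac_rfl⟩
      rcases key' y with ⟨y', hy'⟩ | hy
      · exact ⟨(x, y'), by simp only [Prod.orderOf, hy']⟩
      refine ⟨(σt, v) ^ (orderOf (σt, v) / _), orderOf_pow_orderOf_div (orderOf_pos _).ne' ?_⟩
      simp only [Prod.orderOf, hv, Nat.lcm_dvd_iff]
      have hall := (Nat.lcm_dvd hx hy).trans hσu
      rw [Nat.lcm_dvd_iff] at hall
      have hle : Nat.lcm (orderOf σt) (p ^ Nat.clog p n) ∣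
          Nat.lcm (orderOf σt) (r * p ^ Nat.clog p n) :=
        Nat.lcm_dvd (Nat.dvd_lcm_left _ _) ((dvd_mul_left _ r).trans (Nat.dvd_lcm_right _ _))
      exact ⟨hall.1.trans hle, hall.2.trans hle, (dvd_mul_right r _).trans (Nat.dvd_lcm_right _ _)⟩
    · rintro _ ⟨⟨x, y⟩, rfl⟩
      exact ⟨(x, y, 1), by simp [Prod.orderOf]⟩

end Cfsg.Agent.S2511
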