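import Cfsg.Statements.S2512
import Cfsg.Agent.Lib.Spectra.SympOrders

set_option autoImplicit false
open Cfsg

namespace Cfsg.Agent.S2512

open SympSpectra

theorem orderOf_two_dvd {m : ℕ} (h : Multiplicative (Fin m → ZMod 2)) : orderOf h ∣ 2 := by
  refine orderOf_dvd_of_pow_eq_one ?_
  apply Multiplicative.toAdd.injective
  rw [toAdd_pow, toAdd_one]
  funext i
  simp [show (2 : ZMod 2) = 0 from rfl]

theorem exists_two_unipotent {F : Type*} [Field F] [Fintype F] (p : ℕ) [Fact p.Prime] [CharP F p]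
    (h2 : (2 : F) ≠ 0) (hpodd : Odd p) {n : ℕ} (hn : 2 ≤ n) :
    ∃ v : Cfsg.PSp n F, orderOf v = 2 * p ^ Nat.clog p (2 * (n - 1)) := by
  obtain ⟨τ, ℓ, u, hτ, hℓ, hnd, hu, -, -⟩ := swap_data (F := F) F (-1)
  obtain ⟨τ', ℓ', u', hτ', hℓ', hnd', hu', hord, -⟩ := swap_data (F := F) F (-1)
  obtain ⟨g, hg⟩ := exists_psp_mixed (n := n) p h2 hpodd τ' hτ' ℓ' hℓ' hnd' u' hu' (m := n - 1)
    (by omega) (by rw [Module.finrank_prod, Module.finrank_self]; omega)
  refine ⟨g, ?_⟩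
  have h : orderOf (-1 : Fˣ) = 2 := by
    have : Fact (Nat.Prime 2) := ⟨Nat.prime_two⟩
    refine orderOf_eq_prime (by simp) fun h => h2 ?_
    have := congrArg Units.val h
    push_cast at this
    linear_combination -this
  rw [hg, hord, h, Nat.Coprime.lcm_eq_mul]
  exact Nat.prime_two.coprime_iff_not_dvd.2 fun hd => Nat.not_even_iff_odd.2 hpodd.pow (even_iff_two_dvd.2 hd)

theorem exists_bound_data {F : Type*} [Field F] [Fintype F] (p n : ℕ) [Fact p.Prime] [CharP F p]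
    (hn : 2 ≤ n) (hodd : Odd (Fintype.card F)) (h2 : (2 : F) ≠ 0) (hpodd : Odd p) :
    ∃ M T : ℕ, (∀ x : Cfsg.PSp n F, (∃ y : Cfsg.PSp n F, Nat.lcm (orderOf x) 2 ∣ orderOf y) ∨
      orderOf x ∣ M ∨ orderOf x ∣ p ^ T) ∧ T = Nat.clog p (2 * n) ∧
      ∃ σ : Cfsg.PSp n F, orderOf σ = M := by
  have hp : p.Prime := Fact.out
  obtain ⟨k₀, hk₀⟩ : Odd (Fintype.card F ^ n) := hodd.pow
  have hM : ∃ M, Odd M ∧ (2 * M = Fintype.card F ^ n - 1 ∨ 2 * M = Fintype.card F ^ n + 1) := by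
    rcases Nat.even_or_odd k₀ with h | h
    · exact ⟨k₀ + 1, h.add_one, Or.inr (by omega)⟩
    · exact ⟨k₀, h, Or.inl (by omega)⟩
  obtain ⟨M, hModd, hM⟩ := hM
  refine ⟨M, Nat.clog p (2 * n), fun x => ?_, rfl,
    (exists_psp_tori p h2 hpodd (by omega) le_rfl M hM).2 rfl⟩
  rcases Nat.even_or_odd (orderOf x) with hx | hx
  · exact Or.inl ⟨x, Nat.lcm_dvd dvd_rfl (even_iff_two_dvd.1 hx)⟩
  have hx2 : (orderOf x).Coprime 2 := Nat.coprime_two_right.2 hx
  induction x using QuotientGroup.induction_on with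
  | H s =>
    rcases bound p hpodd h2 (by omega) hodd s with ⟨z, hzc, hz⟩ | h | ⟨d, a, k, hd, ha, had, hk, hpow⟩
    · refine Or.inl ⟨z * QuotientGroup.mk s, dvd_of_eq ?_⟩
      rw [hzc.orderOf_mul_eq_mul_orderOf_of_coprime (hz ▸ hx2.symm), hz, hx2.lcm_eq_mul, mul_comm]
    · exact Or.inr (Or.inr (orderOf_dvd_of_pow_eq_one h))
    · have hxd := orderOf_dvd_of_pow_eq_one hpow
      have hdle : d ≤ n := le_trans (Nat.le_mul_of_pos_left d ha) had
      rcases hdle.lt_or_eq with hdn | hdn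
      · obtain ⟨g, hg⟩ := (exists_psp_tori p h2 hpodd hd hdle k hk).1 hdn
        refine Or.inl ⟨g, hg ▸ ?_⟩
        have hkp : k.Coprime p := by
          rw [Nat.coprime_comm, hp.coprime_iff_not_dvd]
          intro hpk
          obtain ⟨aa, hpp, hcard⟩ := FiniteField.card F p
          have hq : p ∣ Fintype.card F ^ d := by
            rw [hcard, ← pow_mul]; exact dvd_pow_self p (Nat.mul_pos aa.pos hd).ne'
          refine hp.not_dvd_one ?_
          rcases hk with hk | hk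
          · have h' := Nat.dvd_sub hq (hk ▸ hpk.mul_left 2)
            rwa [show Fintype.card F ^ d - (Fintype.card F ^ d - 1) = 1 by
              have := Nat.one_le_pow d (Fintype.card F) Fintype.card_pos; omega] at h'
          · exact (Nat.dvd_add_right hq).1 (hk ▸ hpk.mul_left 2)
        refine Nat.lcm_dvd ?_ (dvd_trans (dvd_mul_right 2 k) (Nat.dvd_lcm_left _ _))
        refine hxd.trans ((hkp.pow_right _).mul_dvd_of_dvd_of_dvd ((dvd_mul_left k 2).trans (Nat.dvd_lcm_left _ _))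
          ((pow_dvd_pow p (Nat.clog_mono_right p ?_)).trans (Nat.dvd_lcm_right _ _)))
        rcases le_or_gt (2 * d) n with h | h
        · have := Nat.le_mul_of_pos_right a hd; omega
        · have : a ≤ 1 := by
            by_contra hc
            have : 2 * d ≤ a * d := Nat.mul_le_mul_right d (by omega)
            omega
          omega
      · subst hdn
        have ha1 : a = 1 := by
          have : a * d ≤ 1 * d := by omega
          exact le_antisymm (Nat.le_of_mul_le_mul_right this (by omega)) ha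
        subst ha1
        simp only [Nat.clog_one_right, pow_zero, mul_one] at hxd
        rcases Nat.even_or_odd k with hke | hko
        · obtain ⟨g, hg⟩ := (exists_psp_tori p h2 hpodd hd le_rfl k hk).2 rfl
          exact Or.inl ⟨g, hg ▸ Nat.lcm_dvd hxd (even_iff_two_dvd.1 hke)⟩
        · refine Or.inr (Or.inl ?_)
          obtain ⟨r, rfl⟩ := hko
          obtain ⟨r', rfl⟩ := hModd
          rwa [show 2 * r' + 1 = 2 * r + 1 by omega]

theorem absorb3 {G : Type*} [Group G] [Finite G] {M P : ℕ}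
    (key : ∀ x : G, (∃ y : G, Nat.lcm (orderOf x) 2 ∣ orderOf y) ∨ orderOf x ∣ M ∨ orderOf x ∣ P)
    {υ : G} (hυ : orderOf υ = P) {σ : G} (hσ : orderOf σ = M) (v : G) (hv : 2 ∣ orderOf v)
    (x y w : G) :
    ∃ t : G × G × G,
      Nat.lcm (Nat.lcm (Nat.lcm (orderOf x) (orderOf y)) (orderOf w)) 2 ∣ orderOf t := by
  have hsmall : ∀ z : G, (orderOf z ∣ M ∨ orderOf z ∣ P) →
      orderOf z ∣ orderOf ((σ, υ, v) : G × G × G) := by
    intro z hz
    simp only [Prod.orderOf, hσ, hυ]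
    rcases hz with h | h
    · exact h.trans (Nat.dvd_lcm_left _ _)
    · exact h.trans ((Nat.dvd_lcm_left _ _).trans (Nat.dvd_lcm_right _ _))
  rcases key x with ⟨x', hx⟩ | hx
  · refine ⟨(x', y, w), ?_⟩
    rw [Nat.lcm_dvd_iff] at hx
    simp only [Prod.orderOf, Nat.lcm_dvd_iff]
    exact ⟨⟨⟨hx.1.trans (Nat.dvd_lcm_left _ _), (Nat.dvd_lcm_left _ _).trans (Nat.dvd_lcm_right _ _)⟩,
      (Nat.dvd_lcm_right _ _).trans (Nat.dvd_lcm_right _ _)⟩, hx.2.trans (Nat.dvd_lcm_left _ _)⟩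
  rcases key y with ⟨y', hy⟩ | hy
  · refine ⟨(x, y', w), ?_⟩
    rw [Nat.lcm_dvd_iff] at hy
    simp only [Prod.orderOf, Nat.lcm_dvd_iff]
    exact ⟨⟨⟨Nat.dvd_lcm_left _ _, hy.1.trans ((Nat.dvd_lcm_left _ _).trans (Nat.dvd_lcm_right _ _))⟩,
      (Nat.dvd_lcm_right _ _).trans (Nat.dvd_lcm_right _ _)⟩,
      hy.2.trans ((Nat.dvd_lcm_left _ _).trans (Nat.dvd_lcm_right _ _))⟩
  rcases key w with ⟨w', hw⟩ | hw
  · refine ⟨(x, y, w'), ?_⟩
    rw [Nat.lcm_dvd_iff] at hw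
    simp only [Prod.orderOf, Nat.lcm_dvd_iff]
    exact ⟨⟨⟨Nat.dvd_lcm_left _ _, (Nat.dvd_lcm_left _ _).trans (Nat.dvd_lcm_right _ _)⟩,
      hw.1.trans ((Nat.dvd_lcm_right _ _).trans (Nat.dvd_lcm_right _ _))⟩,
      hw.2.trans ((Nat.dvd_lcm_right _ _).trans (Nat.dvd_lcm_right _ _))⟩
  exact ⟨(σ, υ, v), Nat.lcm_dvd (Nat.lcm_dvd (Nat.lcm_dvd (hsmall x hx) (hsmall y hy)) (hsmall w hw))
    (by simp only [Prod.orderOf]; exact hv.trans ((Nat.dvd_lcm_right _ _).trans (Nat.dvd_lcm_right _ _)))⟩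

theorem lcm4_dvd {a b c d N : ℕ} (h : Nat.lcm (Nat.lcm (Nat.lcm a b) c) 2 ∣ N) (hd : d ∣ 2) :
    Nat.lcm a (Nat.lcm b (Nat.lcm c d)) ∣ N := by
  simp only [Nat.lcm_dvd_iff] at h ⊢
  exact ⟨h.1.1.1, h.1.1.2, h.1.2, hd.trans h.2⟩

theorem lcm3_dvd {a b d N : ℕ} (h : Nat.lcm (Nat.lcm a b) 2 ∣ N) (hd : d ∣ 2) :
    Nat.lcm a (Nat.lcm b d) ∣ N := by
  simp only [Nat.lcm_dvd_iff] at h ⊢
  exact ⟨h.1.1, h.1.2, hd.trans h.2⟩

theorem absorb2 {G : Type*} [Group G] [Finite G] {M P : ℕ}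
    (key : ∀ x : G, (∃ y : G, Nat.lcm (orderOf x) 2 ∣ orderOf y) ∨ orderOf x ∣ M ∨ orderOf x ∣ P)
    {σ : G} (hσ : orderOf σ = M) (v : G) (hv : orderOf v = 2 * P) (x y : G) :
    ∃ t : G × G, Nat.lcm (Nat.lcm (orderOf x) (orderOf y)) 2 ∣ orderOf t := by
  have hsmall : ∀ z : G, (orderOf z ∣ M ∨ orderOf z ∣ P) → orderOf z ∣ orderOf ((σ, v) : G × G) := by
    intro z hz
    simp only [Prod.orderOf, hσ, hv]
    rcases hz with h | h
    · exact h.trans (Nat.dvd_lcm_left _ _)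
    · exact h.trans ((dvd_mul_left P 2).trans (Nat.dvd_lcm_right _ _))
  rcases key x with ⟨x', hx⟩ | hx
  · refine ⟨(x', y), ?_⟩
    rw [Nat.lcm_dvd_iff] at hx
    simp only [Prod.orderOf, Nat.lcm_dvd_iff]
    exact ⟨⟨hx.1.trans (Nat.dvd_lcm_left _ _), Nat.dvd_lcm_right _ _⟩,
      hx.2.trans (Nat.dvd_lcm_left _ _)⟩
  rcases key y with ⟨y', hy⟩ | hy
  · refine ⟨(x, y'), ?_⟩
    rw [Nat.lcm_dvd_iff] at hy
    simp only [Prod.orderOf, Nat.lcm_dvd_iff]
    exact ⟨⟨Nat.dvd_lcm_left _ _, hy.1.trans (Nat.dvd_lcm_right _ _)⟩,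
      hy.2.trans (Nat.dvd_lcm_right _ _)⟩
  exact ⟨(σ, v), Nat.lcm_dvd (Nat.lcm_dvd (hsmall x hx) (hsmall y hy))
    (by simp only [Prod.orderOf, hv]; exact (dvd_mul_right 2 P).trans (Nat.dvd_lcm_right _ _))⟩


/-- Let F be a finite field of odd order q = p^a, n ≥ 2 (with q ≥ 3 automatic), and L = PSp(2n, F). Then for every m the direct product L × L × L × (ℤ/2)^m has the same set of element orders as L × L × L; and if 2n − 1 is not a power of p, then already L × L × (ℤ/2)^m has the same set of element orders as L × L. -/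
theorem result {F : Type*} [Field F] [Fintype F] (p a n m : ℕ) (hp : p.Prime) (ha : 1 ≤ a) (hF : Fintype.card F = p ^ a) (hodd : Odd (Fintype.card F))
    (hn : 2 ≤ n) :
    Set.range (orderOf : Cfsg.PSp n F × Cfsg.PSp n F × Cfsg.PSp n F × Multiplicative (Fin m → ZMod 2) → ℕ) = Set.range (orderOf : Cfsg.PSp n F × Cfsg.PSp n F × Cfsg.PSp n F → ℕ) ∧
    ((¬ ∃ j : ℕ, 2 * n - 1 = p ^ j) →
      Set.range (orderOf : Cfsg.PSp n F × Cfsg.PSp n F × Multiplicative (Fin m → ZMod 2) → ℕ) = Set.range (orderOf : Cfsg.PSp n F × Cfsg.PSp n F → ℕ)) := by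
  classical
  have : Fact p.Prime := ⟨hp⟩
  have hchar : CharP F p := by
    obtain ⟨p', hp'⟩ := CharP.exists F
    obtain ⟨a', hpp, hcard⟩ := FiniteField.card F p'
    have hd : p' ∣ p ^ a := by rw [← hF, hcard]; exact dvd_pow_self p' a'.pos.ne'
    exact ((Nat.prime_dvd_prime_iff_eq hpp hp).mp (hpp.dvd_of_dvd_pow hd)) ▸ hp'
  have hpodd : Odd p := by
    rcases hp.eq_two_or_odd' with rfl | h
    · rw [hF] at hodd
      exact absurd hodd (by simp [Nat.not_odd_iff_even, (show a ≠ 0 by omega), Nat.even_pow])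
    · exact h
  have h2 : (2 : F) ≠ 0 := by
    have h : ((2 : ℕ) : F) ≠ 0 := by
      rw [Ne, CharP.cast_eq_zero_iff F p]
      intro h
      rw [(Nat.prime_dvd_prime_iff_eq hp Nat.prime_two).mp h] at hpodd
      exact absurd hpodd (by decide)
    exact_mod_cast h
  obtain ⟨M, T, hMd, hMT, hσ⟩ := exists_bound_data (F := F) p n hn hodd h2 hpodd
  obtain ⟨σ, hσM⟩ := hσ
  obtain ⟨υ, hυ⟩ := exists_psp_unipotent (F := F) p h2 hpodd (n := n) (by omega)
  obtain ⟨v, hv⟩ := exists_two_unipotent (F := F) p h2 hpodd (n := n) hn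
  have key : ∀ x : Cfsg.PSp n F, (∃ y : Cfsg.PSp n F, Nat.lcm (orderOf x) 2 ∣ orderOf y) ∨
      orderOf x ∣ M ∨ orderOf x ∣ p ^ T := fun x => hMd x
  subst hMT
  refine ⟨?_, fun hpn => ?_⟩
  · apply Set.Subset.antisymm
    · rintro _ ⟨⟨x, y, w, h⟩, rfl⟩
      obtain ⟨t, ht⟩ := absorb3 key hυ hσM v (hv ▸ dvd_mul_right 2 _) x y w
      refine ⟨t ^ (orderOf t / _), orderOf_pow_orderOf_div (orderOf_pos t).ne' ?_⟩
      simp only [Prod.orderOf] at ht ⊢
      exact lcm4_dvd ht (orderOf_two_dvd h)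
    · rintro _ ⟨⟨x, y, w⟩, rfl⟩
      exact ⟨(x, y, w, 1), by simp [Prod.orderOf]⟩
  · apply Set.Subset.antisymm
    · rintro _ ⟨⟨x, y, h⟩, rfl⟩
      have hc : Nat.clog p (2 * (n - 1)) = Nat.clog p (2 * n) := by
        refine le_antisymm (Nat.clog_mono_right p (by omega)) (Nat.clog_le_of_le_pow ?_)
        have h1 := Nat.le_pow_clog hp.one_lt (2 * (n - 1))
        obtain ⟨r, hr⟩ : Odd (p ^ Nat.clog p (2 * (n - 1))) := hpodd.pow
        by_contra hlt
        exact hpn ⟨Nat.clog p (2 * (n - 1)), by omega⟩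
      rw [hc] at hv
      obtain ⟨t, ht⟩ := absorb2 key hσM v hv x y
      refine ⟨t ^ (orderOf t / _), orderOf_pow_orderOf_div (orderOf_pos t).ne' ?_⟩
      simp only [Prod.orderOf] at ht ⊢
      exact lcm3_dvd ht (orderOf_two_dvd h)
    · rintro _ ⟨⟨x, y⟩, rfl⟩
      exact ⟨(x, y, 1), by simp [Prod.orderOf]⟩

end Cfsg.Agent.S2512
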