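import Cfsg.Statements.S2513
import Cfsg.Agent.Lib.Spectra.LinearOrders

set_option autoImplicit false
open Cfsg

namespace Cfsg.Agent.S2513

open Spectra Polynomial

theorem charP_two {F : Type*} [Field F] [Fintype F] (hF : Fintype.card F = 2) : CharP F 2 := by
  obtain ⟨p, hp⟩ := CharP.exists F
  obtain ⟨a, hpp, hcard⟩ := FiniteField.card F p
  have hd : p ∣ 2 := by
    rw [← hF, hcard]; exact dvd_pow_self p a.pos.ne'
  exact ((Nat.prime_dvd_prime_iff_eq hpp Nat.prime_two).mp hd) ▸ hp

theorem units_eq_one {F : Type*} [Field F] [Fintype F] (hF : Fintype.card F = 2) (x : Fˣ) :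
    x = 1 := by
  classical
  have h : Fintype.card Fˣ = 1 := by rw [Fintype.card_units, hF]
  have := Fintype.card_le_one_iff_subsingleton.mp h.le
  exact Subsingleton.elim _ _

theorem exists_psl_orderOf {F : Type*} [Field F] [Fintype F] (hF : Fintype.card F = 2) {n : ℕ}
    (hn : 2 ≤ n) (g : GL (Fin n) F) :
    ∃ x : Matrix.ProjectiveSpecialLinearGroup (Fin n) F, orderOf x = orderOf g := by
  have hdet : (g : Matrix (Fin n) (Fin n) F).det = 1 := by
    have := units_eq_one hF (Matrix.GeneralLinearGroup.det g)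
    exact congrArg Units.val this
  let s : Matrix.SpecialLinearGroup (Fin n) F := ⟨g, hdet⟩
  refine ⟨QuotientGroup.mk s, ?_⟩
  have hs : Matrix.SpecialLinearGroup.toGL s = g := Units.ext rfl
  have h1 : orderOf s = orderOf g := by
    rw [← hs, orderOf_injective _ Matrix.SpecialLinearGroup.toGL_injective]
  have hbot : Subgroup.center (Matrix.SpecialLinearGroup (Fin n) F) = ⊥ := by
    rw [Subgroup.eq_bot_iff_forall]
    intro A hA
    obtain ⟨r, hr, hrA⟩ := Matrix.SpecialLinearGroup.mem_center_iff.mp hA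
    have hr0 : r ≠ 0 := by
      rintro rfl
      simp [Fintype.card_fin, show n ≠ 0 by omega] at hr
    have hr1 : r = 1 := congrArg Units.val (units_eq_one hF (Units.mk0 r hr0))
    apply Subtype.ext
    change (A : Matrix (Fin n) (Fin n) F) = 1
    rw [← hrA, hr1, map_one]
  rw [← h1]
  refine orderOf_injective (QuotientGroup.mk' (Subgroup.center _)) ?_ s
  rw [← MonoidHom.ker_eq_bot_iff, QuotientGroup.ker_mk', hbot]

/-- The exponent of `GL_n(2)`. -/
def expo (n : ℕ) : ℕ := (Finset.Icc 1 n).lcm (fun d => 2 ^ d - 1) * 2 ^ Nat.clog 2 n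

theorem pow_expo {F : Type*} [Field F] [Fintype F] (hF : Fintype.card F = 2) {n : ℕ}
    (x : Matrix.ProjectiveSpecialLinearGroup (Fin n) F) : x ^ expo n = 1 := by
  have : CharP F 2 := charP_two hF
  induction x using QuotientGroup.induction_on with
  | H s =>
    rw [← QuotientGroup.mk_pow]
    suffices s ^ expo n = 1 by rw [this, QuotientGroup.mk_one]
    apply Subtype.ext
    change (↑(s ^ expo n) : Matrix (Fin n) (Fin n) F) = 1
    rw [Matrix.SpecialLinearGroup.coe_pow]
    have hu : IsUnit (s : Matrix (Fin n) (Fin n) F) :=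
      ⟨Matrix.SpecialLinearGroup.toGL s, rfl⟩
    have h := pow_eq_one_of_isUnit (F := F) 2 hu
      (N := (Finset.Icc 1 n).lcm fun d => 2 ^ d - 1) (fun d h1 h2 => by
        rw [Nat.card_eq_fintype_card, hF]
        exact Finset.dvd_lcm (f := fun d => 2 ^ d - 1)
          (Finset.mem_Icc.mpr ⟨h1, by rwa [Fintype.card_fin] at h2⟩))
    rwa [Fintype.card_fin] at h

theorem exists_singer {F : Type*} [Field F] [Fintype F] (hF : Fintype.card F = 2) {n d : ℕ}
    (hn : 2 ≤ n) (hd : 1 ≤ d) (hdn : d ≤ n) :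
    ∃ x : Matrix.ProjectiveSpecialLinearGroup (Fin n) F, orderOf x = 2 ^ d - 1 := by
  have : CharP F 2 := charP_two hF
  have : Fact (Nat.Prime 2) := ⟨Nat.prime_two⟩
  have : NeZero d := ⟨by omega⟩
  obtain ⟨u, hu⟩ := IsCyclic.exists_generator (α := (FiniteField.Extension F 2 d)ˣ)
  obtain ⟨g, hg⟩ := exists_GL_orderOf (n := n) (A := FiniteField.Extension F 2 d)
    ((FiniteField.finrank_extension F 2 d).le.trans hdn) u
  obtain ⟨x, hx⟩ := exists_psl_orderOf hF hn g
  refine ⟨x, ?_⟩
  rw [hx, hg, orderOf_eq_card_of_forall_mem_zpowers hu, Nat.card_units,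
    FiniteField.natCard_extension, Nat.card_eq_fintype_card, hF]

theorem exists_unipotent {F : Type*} [Field F] [Fintype F] (hF : Fintype.card F = 2) {n : ℕ}
    (hn : 2 ≤ n) :
    ∃ x : Matrix.ProjectiveSpecialLinearGroup (Fin n) F, orderOf x = 2 ^ Nat.clog 2 n := by
  have : CharP F 2 := charP_two hF
  have : Fact (Nat.Prime 2) := ⟨Nat.prime_two⟩
  obtain ⟨u, hu, -⟩ := exists_unipotent_unit (F := F) 2 (m := n) (by omega)
  have : Module.Finite F (AdjoinRoot (X ^ n : F[X])) := (monic_X_pow n).finite_adjoinRoot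
  obtain ⟨g, hg⟩ := exists_GL_orderOf (n := n) (finrank_adjoinRoot_X_pow (F := F) n).le u
  obtain ⟨x, hx⟩ := exists_psl_orderOf hF hn g
  exact ⟨x, hx.trans (hg.trans hu)⟩

theorem range_eq {F : Type*} [Field F] [Fintype F] (hF : Fintype.card F = 2) {n k : ℕ}
    (hn : 2 ≤ n) (hk : (n + 3) / 2 ≤ k) :
    Set.range (orderOf : (Fin k → Matrix.ProjectiveSpecialLinearGroup (Fin n) F) → ℕ) =
      {o | o ∣ expo n} := by
  classical
  obtain ⟨x0, hx0⟩ := exists_unipotent hF hn
  have hex : ∀ i : Fin k, ∃ x : Matrix.ProjectiveSpecialLinearGroup (Fin n) F,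
      (i.val = 0 → orderOf x = 2 ^ Nat.clog 2 n) ∧
      (1 ≤ i.val → i.val ≤ n → orderOf x = 2 ^ (n + 1 - i.val) - 1) := by
    intro i
    rcases Nat.eq_zero_or_pos i.val with h | h
    · exact ⟨x0, fun _ => hx0, fun h' => by omega⟩
    · by_cases hin : i.val ≤ n
      · obtain ⟨x, hx⟩ := exists_singer hF hn (d := n + 1 - i.val) (by omega) (by omega)
        exact ⟨x, fun h' => by omega, fun _ _ => hx⟩
      · exact ⟨x0, fun h' => by omega, fun _ h' => absurd h' hin⟩
  choose y hy0 hy1 using hex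
  refine range_orderOf_eq_divisors (fun g => funext fun i => pow_expo hF (g i)) y ?_
  have hdvd : ∀ i, orderOf (y i) ∣ orderOf y := fun i => by
    rw [Pi.orderOf]; exact Finset.dvd_lcm (f := fun i => orderOf (y i)) (Finset.mem_univ i)
  have h2 : 2 ^ Nat.clog 2 n ∣ orderOf y := by
    have := hdvd ⟨0, by omega⟩
    rwa [hy0 _ rfl] at this
  have hodd : ((Finset.Icc 1 n).lcm fun d => 2 ^ d - 1) ∣ orderOf y := by
    refine Finset.lcm_dvd fun d hd => ?_
    rw [Finset.mem_Icc] at hd
    have hnd : n / 2 + 1 ≤ d * (n / d) := by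
      rcases le_or_gt (n / 2 + 1) (d * (n / d)) with h | h
      · exact h
      · have h1 := Nat.div_add_mod n d
        have h3 := Nat.mod_lt n (show 0 < d by omega)
        have h4 : d ≤ d * (n / d) := Nat.le_mul_of_pos_right d (Nat.div_pos hd.2 (by omega))
        omega
    have hle : d * (n / d) ≤ n := Nat.mul_div_le n d
    have h := hdvd ⟨n + 1 - d * (n / d), by omega⟩
    rw [hy1 _ (by simp; omega) (by simp; omega)] at h
    have he : n + 1 - (n + 1 - d * (n / d)) = d * (n / d) := by omega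
    simp only [he] at h
    exact (Nat.pow_sub_one_dvd_pow_sub_one 2 (dvd_mul_right d (n / d))).trans h
  exact Nat.Coprime.mul_dvd_of_dvd_of_dvd (by
    refine (Nat.Coprime.pow_right _ ?_)
    rw [Nat.coprime_two_right, ← Nat.not_even_iff_odd, even_iff_two_dvd]
    intro hcon
    have : ∀ d ∈ Finset.Icc 1 n, Nat.Coprime (2 ^ d - 1) 2 := by
      intro d hd
      rw [Finset.mem_Icc] at hd
      rw [Nat.coprime_two_right]
      exact Nat.Even.sub_odd Nat.one_le_two_pow (Nat.even_pow.mpr ⟨even_two, by omega⟩) odd_one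
    have hp : ((Finset.Icc 1 n).lcm fun d => 2 ^ d - 1) ∣ ∏ d ∈ Finset.Icc 1 n, (2 ^ d - 1) :=
      Finset.lcm_dvd fun d hd => Finset.dvd_prod_of_mem _ hd
    have := (Nat.Coprime.prod_left this).symm
    exact absurd (Nat.eq_one_of_dvd_coprimes this dvd_rfl (hcon.trans hp)) (by omega)) hodd h2

/-- Let F be the field with two elements, n ≥ 2, L = PSL(n, F) and k₀ = ⌊(n + 3)/2⌋. Then for every k ≥ k₀ the direct product of k copies of L has the same set of element orders as the direct product of k₀ copies of L. -/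
theorem result {F : Type*} [Field F] [Fintype F] (hF : Fintype.card F = 2) (n k : ℕ) (hn : 2 ≤ n) (hk : (n + 3) / 2 ≤ k) :
    Set.range (orderOf : (Fin k → Matrix.ProjectiveSpecialLinearGroup (Fin n) F) → ℕ) = Set.range (orderOf : (Fin ((n + 3) / 2) → Matrix.ProjectiveSpecialLinearGroup (Fin n) F) → ℕ) := by
  rw [range_eq hF hn hk, range_eq hF hn le_rfl]

end Cfsg.Agent.S2513
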