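import Cfsg.Statements.S2514
import Mathlib.Data.Set.Finite.Lemmas
import Mathlib.Algebra.Group.Pi.Basic

set_option autoImplicit false
open Cfsg

namespace Cfsg.Agent.S2514

theorem orderOf_succAbove {G : Type*} [Group G] {j : ℕ} (v : Fin (j + 1) → G) (i : Fin (j + 1)) :
    orderOf v = Nat.lcm (orderOf (v i)) (orderOf fun l => v (i.succAbove l)) := by
  apply Nat.dvd_antisymm
  · refine orderOf_dvd_of_pow_eq_one (funext fun l => ?_)
    rcases Fin.eq_self_or_eq_succAbove i l with rfl | ⟨l', rfl⟩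
    · exact orderOf_dvd_iff_pow_eq_one.mp (Nat.dvd_lcm_left _ _)
    · exact congrFun (orderOf_dvd_iff_pow_eq_one.mp (Nat.dvd_lcm_right _ _) :
        (fun l => v (i.succAbove l)) ^ _ = 1) l'
  · exact Nat.lcm_dvd (orderOf_dvd_of_pow_eq_one (congrFun (pow_orderOf_eq_one v) i))
      (orderOf_dvd_of_pow_eq_one (funext fun l => congrFun (pow_orderOf_eq_one v) (i.succAbove l)))

theorem exists_max {G : Type*} [Group G] [Finite G] (g : G) :
    ∃ m ∈ {n : ℕ | n ∈ Set.range (orderOf : G → ℕ) ∧ ∀ m ∈ Set.range (orderOf : G → ℕ), n ∣ m → m = n},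
      orderOf g ∣ m := by
  obtain ⟨m, ⟨⟨x, rfl⟩, hgm⟩, hmax⟩ := Set.exists_max_image
    {m | m ∈ Set.range (orderOf : G → ℕ) ∧ orderOf g ∣ m} id
    ((Set.finite_range _).subset fun _ h => h.1) ⟨_, ⟨g, rfl⟩, dvd_rfl⟩
  exact ⟨_, ⟨⟨x, rfl⟩, fun m hm hxm => le_antisymm (hmax m ⟨hm, hgm.trans hxm⟩)
    (Nat.le_of_dvd (by obtain ⟨y, rfl⟩ := hm; exact orderOf_pos y) hxm)⟩, hgm⟩

theorem exists_orderOf {G : Type*} [Group G] [Finite G] {o m : ℕ}
    (hm : m ∈ Set.range (orderOf : G → ℕ)) (h : o ∣ m) : ∃ g : G, orderOf g = o := by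
  obtain ⟨x, rfl⟩ := hm
  exact ⟨x ^ (orderOf x / o), orderOf_pow_orderOf_div (orderOf_pos x).ne' h⟩

theorem orderOf_dvd_pi {G : Type*} [Group G] {ι : Type*} (v : ι → G) (a : ι) :
    orderOf (v a) ∣ orderOf v :=
  orderOf_dvd_of_pow_eq_one (congrFun (pow_orderOf_eq_one v) a)

/-- For a finite group X write μ(X) for the set of element orders of X that are maximal under divisibility. Let G and H be finite groups and k ≥ 1 such that μ(H) ⊆ μ(G) and μ(G) has fewer than k elements outside μ(H). Then the direct product of k copies of G has the same set of element orders as the direct product of k − 1 copies of G with H. -/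
theorem result {G H : Type*} [Group G] [Finite G] [Group H] [Finite H] (k : ℕ) (hk : 1 ≤ k)
    (hsub : {n : ℕ | n ∈ Set.range (orderOf : H → ℕ) ∧ ∀ m ∈ Set.range (orderOf : H → ℕ), n ∣ m → m = n} ⊆ {n : ℕ | n ∈ Set.range (orderOf : G → ℕ) ∧ ∀ m ∈ Set.range (orderOf : G → ℕ), n ∣ m → m = n})
    (hfew : ({n : ℕ | n ∈ Set.range (orderOf : G → ℕ) ∧ ∀ m ∈ Set.range (orderOf : G → ℕ), n ∣ m → m = n} \ {n : ℕ | n ∈ Set.range (orderOf : H → ℕ) ∧ ∀ m ∈ Set.range (orderOf : H → ℕ), n ∣ m → m = n}).ncard < k) :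
    Set.range (orderOf : (Fin k → G) → ℕ) = Set.range (orderOf : (Fin (k - 1) → G) × H → ℕ) := by
  classical
  obtain ⟨j, rfl⟩ : ∃ j, k = j + 1 := ⟨k - 1, by omega⟩
  apply Set.Subset.antisymm
  · rintro _ ⟨v, rfl⟩
    choose m hm hdvd using fun i => exists_max (v i)
    by_cases hex : ∃ i, m i ∈ {n : ℕ | n ∈ Set.range (orderOf : H → ℕ) ∧ ∀ m ∈ Set.range (orderOf : H → ℕ), n ∣ m → m = n}
    · obtain ⟨i, hi⟩ := hex
      obtain ⟨h, hh⟩ := exists_orderOf hi.1 (hdvd i)
      refine ⟨(fun l => v (i.succAbove l), h), ?_⟩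
      rw [Prod.orderOf, orderOf_succAbove v i, hh]
      exact Nat.lcm_comm _ _
    · push Not at hex
      have hlt := Set.ncard_le_ncard (s := Set.range m) (t := {n : ℕ | n ∈ Set.range (orderOf : G → ℕ) ∧ ∀ m ∈ Set.range (orderOf : G → ℕ), n ∣ m → m = n} \ {n : ℕ | n ∈ Set.range (orderOf : H → ℕ) ∧ ∀ m ∈ Set.range (orderOf : H → ℕ), n ∣ m → m = n}) (fun _ ⟨i, hi⟩ => hi ▸ ⟨hm i, hex i⟩)
        ((Set.finite_range (orderOf : G → ℕ)).subset fun _ h => h.1.1)
      obtain ⟨i, i', hne, heq⟩ : ∃ i i', i ≠ i' ∧ m i = m i' := by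
        by_contra hcon
        push Not at hcon
        have hinj : Function.Injective m := fun a b h => by
          by_contra hab; exact hcon a b hab h
        rw [Set.ncard_range_of_injective hinj, Nat.card_eq_fintype_card, Fintype.card_fin] at hlt
        omega
      obtain ⟨g, hg⟩ := exists_orderOf (hm i).1 (Nat.lcm_dvd (hdvd i) (heq ▸ hdvd i'))
      obtain ⟨l, rfl⟩ := Fin.exists_succAbove_eq hne
      refine ⟨(fun a => if a = l then g else v (i'.succAbove a), 1), ?_⟩
      rw [Prod.orderOf, orderOf_one, Nat.lcm_one_right, orderOf_succAbove v i']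
      apply Nat.dvd_antisymm
      · refine orderOf_dvd_of_pow_eq_one (funext fun a => ?_)
        simp only [Pi.pow_apply, Pi.one_apply]
        rw [← orderOf_dvd_iff_pow_eq_one]
        have hd : ∀ a, orderOf (v (i'.succAbove a)) ∣ orderOf fun l => v (i'.succAbove l) :=
          orderOf_dvd_pi _
        split_ifs with ha
        · rw [hg]
          exact Nat.lcm_dvd ((hd l).trans (Nat.dvd_lcm_right _ _)) (Nat.dvd_lcm_left _ _)
        · exact (hd a).trans (Nat.dvd_lcm_right _ _)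
      · have hd := orderOf_dvd_pi fun a => if a = l then g else v (i'.succAbove a)
        refine Nat.lcm_dvd ?_ (orderOf_dvd_of_pow_eq_one (funext fun a => ?_))
        · exact (Nat.dvd_lcm_right _ _).trans (by simpa [hg] using hd l)
        · simp only [Pi.pow_apply, Pi.one_apply]
          rw [← orderOf_dvd_iff_pow_eq_one]
          by_cases ha : a = l
          · subst ha
            exact (Nat.dvd_lcm_left _ _).trans (by simpa [hg] using hd a)
          · simpa [ha] using hd a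
  · rintro _ ⟨⟨v, h⟩, rfl⟩
    obtain ⟨m, hm, hdvd⟩ := exists_max h
    obtain ⟨g, hg⟩ := exists_orderOf (hsub hm).1 hdvd
    refine ⟨Fin.cons g v, ?_⟩
    rw [Prod.orderOf, orderOf_succAbove (Fin.cons g v) 0, Nat.lcm_comm]
    simp [hg]

end Cfsg.Agent.S2514
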