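import Cfsg.Statements.S2515
import Cfsg.Agent.Lib.Recog.SL2Orders
import Mathlib.FieldTheory.Finite.GaloisField
import Mathlib.GroupTheory.NoncommCoprod
import Mathlib.GroupTheory.SemidirectProduct
import Mathlib.NumberTheory.LegendreSymbol.QuadraticChar.GaussSum
-- import your own Cfsg.Agent.* helpers here

set_option autoImplicit false
open Cfsg

namespace Cfsg.Agent.S2515

open Matrix

variable (F : Type) [Field F] [CharP F 3]

local notation "M2" => Matrix (Fin 2) (Fin 2) F
local notation "SL2" => Matrix.SpecialLinearGroup (Fin 2) F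
local notation "PSL2" => Matrix.ProjectiveSpecialLinearGroup (Fin 2) F

/-- The twisted matrix. -/
def tw (g : SL2) : M2 :=
  ((g : M2).map (frobenius F 3))

/-- The action of a pair. -/
def act0 (k : ℤˣ × SL2) (X : M2) : M2 :=
  ((k.1 : ℤ) : F) • ((k.2 : M2) * X * (tw F k.2)ᵀ)

theorem tw_mul (g h : SL2) : tw F (g * h) = tw F g * tw F h := by
  rw [tw, tw, tw, SpecialLinearGroup.coe_mul, Matrix.map_mul]

theorem tw_one : tw F 1 = 1 := by
  rw [tw, SpecialLinearGroup.coe_one, Matrix.map_one _ (map_zero _) (map_one _)]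

theorem act0_mul (k l : ℤˣ × SL2) (X : M2) : act0 F (k * l) X = act0 F k (act0 F l X) := by
  simp only [act0, Prod.fst_mul, Prod.snd_mul, tw_mul, transpose_mul, SpecialLinearGroup.coe_mul,
    Units.val_mul, Int.cast_mul, Matrix.mul_smul, Matrix.smul_mul, smul_smul, Matrix.mul_assoc]

theorem act0_one (X : M2) : act0 F 1 X = X := by
  simp [act0, tw_one]

theorem act0_add (k : ℤˣ × SL2) (X Y : M2) : act0 F k (X + Y) = act0 F k X + act0 F k Y := by
  simp [act0, Matrix.mul_add, Matrix.add_mul, smul_add]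

/-- The action, lifted. -/
def actSL : ℤˣ × SL2 →* MulAut (Multiplicative M2) :=
  MonoidHom.mk'
    (fun k => AddEquiv.toMultiplicative
      { toFun := act0 F k
        invFun := act0 F k⁻¹
        left_inv := fun X => by rw [← act0_mul, inv_mul_cancel, act0_one]
        right_inv := fun X => by rw [← act0_mul, mul_inv_cancel, act0_one]
        map_add' := act0_add F k })
    fun k l => MulEquiv.ext fun X => congrArg Multiplicative.ofAdd (act0_mul F k l X.toAdd)

theorem center_act (g : SL2) (hg : g ∈ Subgroup.center SL2) : actSL F (1, g) = 1 := by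
  obtain ⟨c, hc, hgc⟩ := SL2Orders.exists_scalar_of_mem_center g hg
  refine MulEquiv.ext fun X => congrArg Multiplicative.ofAdd ?_
  show act0 F (1, g) X.toAdd = X.toAdd
  have ht : tw F g = (c ^ 3) • (1 : M2) := by
    ext i j
    simp [tw, hgc, Matrix.one_apply, apply_ite (frobenius F 3), frobenius_def]
  simp only [act0, ht, hgc, Matrix.transpose_smul, Matrix.transpose_one, Units.val_one, Int.cast_one,
    one_smul, Matrix.smul_mul, Matrix.mul_smul, Matrix.one_mul, Matrix.mul_one, smul_smul]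
  rw [show c ^ 3 * c = (c * c) * (c * c) by ring, hc]; simp

/-- The action on the module. -/
def actP : ℤˣ × PSL2 →* MulAut (Multiplicative M2) :=
  MonoidHom.noncommCoprod ((actSL F).comp (MonoidHom.inl _ _))
    (QuotientGroup.lift _ ((actSL F).comp (MonoidHom.inr _ _)) fun g hg => center_act F g hg)
    fun a b => by
      obtain ⟨b, rfl⟩ := QuotientGroup.mk_surjective b
      exact ((Commute.one_right a).prod (Commute.one_left b)).map (actSL F)

theorem actP_mk (ε : ℤˣ) (g : SL2) :
    actP F (ε, QuotientGroup.mk g) = actSL F (ε, g) := by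
  show actSL F (ε, 1) * actSL F (1, g) = _
  rw [← map_mul, Prod.mk_mul_mk, mul_one, one_mul]

/-- The group. -/
abbrev HG : Type := Multiplicative M2 ⋊[actP F] (ℤˣ × PSL2)

theorem cube_mult (w : Multiplicative M2) : w ^ 3 = 1 := by
  apply Multiplicative.toAdd.injective
  rw [toAdd_pow, toAdd_one]
  ext i j
  rw [Matrix.smul_apply, Matrix.zero_apply, nsmul_eq_mul, CharP.cast_eq_zero F 3, zero_mul]

theorem inl_fixed (h : HG F) (n : ℕ) (hn : h.right ^ n = 1) :
    ∃ w, h ^ n = SemidirectProduct.inl w ∧ actP F h.right w = w := by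
  have hr : (h ^ n).right = 1 := by
    rw [show (h ^ n).right = SemidirectProduct.rightHom (h ^ n) from rfl, map_pow]
    exact hn
  refine ⟨(h ^ n).left, SemidirectProduct.ext (by simp) (by simp [hr]), ?_⟩
  have e := congrArg SemidirectProduct.left ((Commute.refl h).pow_right n).eq
  rw [SemidirectProduct.mul_left, SemidirectProduct.mul_left, hr, map_one, MulAut.one_apply,
    mul_comm (h ^ n).left] at e
  exact mul_left_cancel e

theorem no_fixed {ε : ℤˣ} {g : SL2} (hq : ¬ IsSquare (-1 : F)) {X : M2} (hX : X ≠ 0)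
    (hfix : act0 F (ε, g) X = X) :
    g ^ 2 ∈ Subgroup.center SL2 ∨ g ^ 3 ∈ Subgroup.center SL2 := by
  set M : M2 := (g : M2) with hM
  set t := M.trace with ht
  set J : M2 := !![0, 1; -1, 0] with hJ
  set N := tw F g with hN
  have hMM : M ^ 2 = t • M - 1 := by
    linear_combination (norm := abel) SL2Orders.sq_eq g
  have hNN : N ^ 2 = (t ^ 3) • N - 1 := by
    have e := congrArg (fun A : M2 => (frobenius F 3).mapMatrix A) hMM
    simp only [map_pow, map_sub, map_one] at e
    rw [show (frobenius F 3).mapMatrix M = N from rfl] at e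
    rw [e]
    congr 1
    ext i j
    simp [hN, hM, tw, frobenius_def, mul_pow]
  have hNJ : Nᵀ * J * N = J := by
    have hdet : N.det = 1 := by
      show ((frobenius F 3).mapMatrix (g : M2)).det = 1
      rw [← RingHom.map_det, g.det_coe, map_one]
    rw [det_fin_two] at hdet
    ext i j
    fin_cases i <;> fin_cases j <;> simp [hJ, mul_apply, Fin.sum_univ_two] <;>
      first | linear_combination hdet | linear_combination -hdet | ring1
  have hY : X * J ≠ 0 := fun e => hX (by
    have : X * J * (-J) = X := by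
      rw [Matrix.mul_assoc]
      have : J * -J = 1 := by
        ext i j; fin_cases i <;> fin_cases j <;> simp [hJ, mul_apply, Fin.sum_univ_two]
      rw [this, Matrix.mul_one]
    rw [← this, e, Matrix.zero_mul])
  obtain ⟨e₀, he₀, hfix'⟩ : ∃ e₀ : F, e₀ * e₀ = 1 ∧ e₀ • (M * (X * J)) = X * J * N := by
    refine ⟨((ε : ℤ) : F), ?_, ?_⟩
    · rw [← Int.cast_mul, ← Units.val_mul, Int.units_mul_self, Units.val_one, Int.cast_one]
    · conv_rhs => rw [← hfix]
      simp only [act0, ← hM, ← hN]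
      simp only [Matrix.smul_mul, Matrix.mul_assoc] at hNJ ⊢
      rw [hNJ]
  have hMY : M * (X * J) = e₀ • (X * J * N) := by rw [← hfix', smul_smul, he₀, one_smul]
  have key : (t * e₀ - t ^ 3) • (X * J * N) = 0 := by
    have e1 : M ^ 2 * (X * J) = X * J * N ^ 2 := by
      rw [pow_two, pow_two, Matrix.mul_assoc, hMY, Matrix.mul_smul, ← Matrix.mul_assoc M, hMY,
        Matrix.smul_mul, smul_smul, he₀, one_smul, Matrix.mul_assoc]
    rw [hMM, hNN, Matrix.sub_mul, Matrix.mul_sub, Matrix.one_mul, Matrix.mul_one, Matrix.smul_mul,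
      Matrix.mul_smul, hMY, smul_smul, sub_left_inj] at e1
    rw [sub_smul, e1, sub_self]
  have hYN : X * J * N ≠ 0 := fun e => hY (by
    have hu : IsUnit N := by
      rw [Matrix.isUnit_iff_isUnit_det]
      show IsUnit ((frobenius F 3).mapMatrix (g : M2)).det
      rw [← RingHom.map_det, g.det_coe, map_one]
      exact isUnit_one
    exact hu.mul_left_eq_zero.1 e)
  have hscal := (smul_eq_zero.1 key).resolve_right hYN
  have hmem : ∀ (n : ℕ) (c : F), M ^ n = c • 1 → g ^ n ∈ Subgroup.center SL2 := fun n c e =>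
    SL2Orders.mem_center_of_scalar _ c (by rw [SpecialLinearGroup.coe_pow]; exact e)
  by_cases ht0 : t = 0
  · exact Or.inl (hmem 2 (-1) (by rw [hMM, ht0, zero_smul, zero_sub, neg_smul, one_smul]))
  have ht2 : t ^ 2 = e₀ := by
    have : t * (e₀ - t ^ 2) = 0 := by linear_combination hscal
    exact (sub_eq_zero.1 ((mul_eq_zero.1 this).resolve_left ht0)).symm
  rcases mul_self_eq_one_iff.1 he₀ with h1 | h1
  · refine Or.inr (hmem 3 (-t) ?_)
    rw [pow_succ, hMM, Matrix.sub_mul, Matrix.smul_mul, ← pow_two, hMM, Matrix.one_mul, smul_sub,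
      smul_smul, ← pow_two, ht2, h1, one_smul, neg_smul]
    abel
  · exact absurd ⟨t, by rw [← pow_two, ht2, h1]⟩ hq

variable [Fintype F]

theorem order_cases (q : ℕ) (hqF : Fintype.card F = q) (a b : ℕ) (ha : q - 1 = 2 * a)
    (hb : q + 1 = 2 * b) (haodd : Odd a) (hbev : Even b) (h : HG F) :
    orderOf h ∣ 9 ∨ orderOf h ∣ 6 ∨ orderOf h ∣ 2 * a ∨ orderOf h ∣ b := by
  haveI : Fact (Nat.Prime 3) := ⟨Nat.prime_three⟩
  have hq4 : ¬ IsSquare (-1 : F) := by
    rw [FiniteField.isSquare_neg_one_iff, not_not, hqF]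
    obtain ⟨a', rfl⟩ := haodd
    omega
  obtain ⟨g, hg⟩ := QuotientGroup.mk_surjective h.right.2
  have heq : h.right = (h.right.1, QuotientGroup.mk g) := Prod.ext rfl hg.symm
  by_cases h3 : h.right.2 ^ 3 = 1
  · rcases Int.units_eq_one_or h.right.1 with h1 | h1
    · obtain ⟨w, hw, -⟩ := inl_fixed F h 3 (Prod.ext (by simp [h1]) (by simpa using h3))
      refine Or.inl (orderOf_dvd_of_pow_eq_one ?_)
      rw [show 9 = 3 * 3 from rfl, pow_mul, hw, ← map_pow, cube_mult, map_one]
    · refine Or.inr (Or.inl (orderOf_dvd_of_pow_eq_one ?_))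
      obtain ⟨z, hz⟩ : ∃ z, z = h ^ 3 := ⟨_, rfl⟩
      have hzr : z.right = (-1, 1) := by
        rw [hz, show (h ^ 3).right = SemidirectProduct.rightHom (h ^ 3) from rfl, map_pow]
        exact Prod.ext (show h.right.1 ^ 3 = -1 by rw [h1]; rfl) h3
      rw [show 6 = 3 * 2 from rfl, pow_mul, ← hz, pow_two]
      refine SemidirectProduct.ext ?_ ?_
      · rw [SemidirectProduct.mul_left, hzr, show ((-1, 1) : ℤˣ × PSL2) = (-1, QuotientGroup.mk 1) from rfl,
          actP_mk]
        show Multiplicative.ofAdd (z.left.toAdd + act0 F (-1, 1) z.left.toAdd) = 1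
        simp [act0, tw_one]
      · rw [SemidirectProduct.mul_right, hzr]
        exact Prod.ext (by simp) (by simp)
  by_cases h2 : h.right.2 ^ 2 = 1
  · obtain ⟨w, hw, -⟩ := inl_fixed F h 2 (Prod.ext (by simp [Int.units_sq]) (by simpa using h2))
    refine Or.inr (Or.inl (orderOf_dvd_of_pow_eq_one ?_))
    rw [show 6 = 2 * 3 from rfl, pow_mul, hw, ← map_pow, cube_mult, map_one]
  have hdvd : ∀ n, h.right ^ n = 1 → orderOf h ∣ n := by
    intro n hn
    obtain ⟨w, hw, hfix⟩ := inl_fixed F h n hn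
    refine orderOf_dvd_of_pow_eq_one (hw.trans ?_)
    rw [show w = 1 from ?_, map_one]
    by_contra hw1
    rw [heq, actP_mk] at hfix
    have := no_fixed F hq4 (X := w.toAdd) (fun e => hw1 (Multiplicative.toAdd.injective e))
      (congrArg Multiplicative.toAdd hfix)
    simp only [← QuotientGroup.eq_one_iff, QuotientGroup.mk_pow, hg] at this
    exact this.elim h2 h3
  have hga : SL2Orders.halfPred q = a := by
    rw [SL2Orders.halfPred, ha, Nat.gcd_eq_right (Dvd.intro a rfl)]; omega
  have hgb : SL2Orders.halfSucc q = b := by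
    rw [SL2Orders.halfSucc, hb, Nat.gcd_eq_right (Dvd.intro b rfl)]; omega
  rcases SL2Orders.psl_cases (F := F) 3 h.right.2 with e | e | e
  · exact absurd e h3
  · rw [hqF, hga] at e
    refine Or.inr (Or.inr (Or.inl (hdvd _ (Prod.ext ?_ ?_))))
    · simp [pow_mul, Int.units_sq]
    · show h.right.2 ^ (2 * a) = 1
      rw [mul_comm, pow_mul, e, one_pow]
  · rw [hqF, hgb] at e
    refine Or.inr (Or.inr (Or.inr (hdvd _ (Prod.ext ?_ e))))
    obtain ⟨b', rfl⟩ := hbev
    show h.right.1 ^ (b' + b') = 1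
    rw [← two_mul, pow_mul, Int.units_sq, one_pow]

theorem exists_nine : ∃ h : HG F, orderOf h = 9 := by
  haveI : Fact (Nat.Prime 3) := ⟨Nat.prime_three⟩
  let u : SL2 := ⟨!![1, 1; 0, 1], by simp⟩
  let X : M2 := !![0, 0; 0, 1]
  obtain ⟨h, hh⟩ : ∃ h : HG F, h = ⟨Multiplicative.ofAdd X, (1, QuotientGroup.mk u)⟩ := ⟨_, rfl⟩
  refine ⟨h, orderOf_eq_prime_pow (p := 3) (n := 1) ?_ ?_⟩
  · intro e
    rw [pow_one, pow_succ, pow_two] at e
    have e1 := congrArg (fun z => Multiplicative.toAdd z.left) e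
    simp only [SemidirectProduct.mul_left, SemidirectProduct.mul_right, hh] at e1
    rw [Prod.mk_mul_mk, one_mul, ← QuotientGroup.mk_mul, actP_mk, actP_mk] at e1
    change X + act0 F (1, u) X + act0 F (1, u * u) X = 0 at e1
    have e2 := congrFun (congrFun e1 0) 0
    simp only [act0, tw, SpecialLinearGroup.coe_mul] at e2
    simp [u, X, mul_apply, Fin.sum_univ_two, frobenius_def, vecHead, vecMul, dotProduct] at e2
    have h3 : (3 : F) = 0 := by exact_mod_cast CharP.cast_eq_zero F 3
    exact one_ne_zero (α := F) (by linear_combination 6 * h3 - e2)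
  · have hr : h.right ^ 3 = 1 := by
      rw [hh]
      refine Prod.ext (by simp) ?_
      show (QuotientGroup.mk u : PSL2) ^ 3 = 1
      rw [← QuotientGroup.mk_pow, QuotientGroup.eq_one_iff,
        SL2Orders.pow_char_of_fixed 3 u ![1, 0] (fun h => by simpa using congrFun h 0) (by
          ext i; fin_cases i <;> simp [u, mulVec, dotProduct, Fin.sum_univ_two])]
      exact Subgroup.one_mem _
    obtain ⟨w, hw, -⟩ := inl_fixed F h 3 hr
    rw [show 3 ^ (1 + 1) = 3 * 3 from rfl, pow_mul, hw, ← map_pow, cube_mult, map_one]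


set_option maxHeartbeats 1600000 in
/-- Let q = 3^α with α ≥ 3 odd. There is a finite group H having a non-trivial normal 3-subgroup and whose element orders maximal under divisibility are exactly 6, 9, q − 1 and (q + 1)/2. -/
theorem result (α : ℕ) (hα : 3 ≤ α) (hodd : Odd α) :
    ∃ (H : Type) (_ : Group H) (_ : Fintype H), (∃ P : Subgroup H, P.Normal ∧ P ≠ ⊥ ∧ IsPGroup 3 ↥P) ∧
      {n : ℕ | n ∈ Set.range (orderOf : H → ℕ) ∧ ∀ m ∈ Set.range (orderOf : H → ℕ), n ∣ m → m = n} = ({6, 9, 3 ^ α - 1, (3 ^ α + 1) / 2} : Set ℕ) := by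
  classical
  haveI : Fact (Nat.Prime 3) := ⟨Nat.prime_three⟩
  let F := GaloisField 3 α
  let _ : Fintype F := Fintype.ofFinite F
  have hcard : Fintype.card F = 3 ^ α := by
    rw [← Nat.card_eq_fintype_card, GaloisField.card 3 α (by omega)]
  obtain ⟨j, hj⟩ := hodd
  have h9 : 9 ^ j % 4 = 1 ∧ 9 ^ j % 8 = 1 := by simp [Nat.pow_mod]
  have hq : 3 ^ α = 3 * 9 ^ j := by rw [hj, pow_succ, pow_mul]; ring
  have hq27 : 27 ≤ 3 ^ α := Nat.pow_le_pow_right (by norm_num : 0 < 3) hα
  obtain ⟨a, ha⟩ : ∃ a, 3 ^ α - 1 = 2 * a := ⟨(3 ^ α - 1) / 2, by omega⟩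
  obtain ⟨b, hb⟩ : ∃ b, 3 ^ α + 1 = 2 * b := ⟨(3 ^ α + 1) / 2, by omega⟩
  have haodd : Odd a := Nat.odd_iff.2 (by omega)
  have hbev : Even b := Nat.even_iff.2 (by omega)
  have ha3 : ¬ 3 ∣ a := fun h => by
    have : 3 ∣ 3 ^ α := dvd_pow_self 3 (by omega)
    omega
  have hb3 : ¬ 3 ∣ b := fun h => by
    have : 3 ∣ 3 ^ α := dvd_pow_self 3 (by omega)
    omega
  rw [show (3 ^ α + 1) / 2 = b by omega, ha]
  let H := HG F
  haveI : Finite H := Finite.of_equiv _ SemidirectProduct.equivProd.symm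
  refine ⟨H, inferInstance, Fintype.ofFinite _, ⟨(SemidirectProduct.inl : _ →* H).range, ?_, ?_, ?_⟩, ?_⟩
  · rw [SemidirectProduct.range_inl_eq_ker_rightHom]; infer_instance
  · intro e
    have : (SemidirectProduct.inl (Multiplicative.ofAdd (1 : Matrix (Fin 2) (Fin 2) F)) : H) = 1 :=
      Subgroup.mem_bot.1 (e ▸ ⟨_, rfl⟩)
    rw [← map_one (SemidirectProduct.inl : _ →* H)] at this
    exact one_ne_zero (congrArg Multiplicative.toAdd (SemidirectProduct.inl_injective this))
  · rintro ⟨_, w, rfl⟩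
    exact ⟨1, Subtype.ext (by simp [← map_pow, cube_mult])⟩
  have hrange : ∀ k : ℤˣ × Matrix.ProjectiveSpecialLinearGroup (Fin 2) F,
      orderOf k ∈ Set.range (orderOf : H → ℕ) := fun k =>
    ⟨SemidirectProduct.inr k, orderOf_injective _ SemidirectProduct.inr_injective k⟩
  have hneg : orderOf (-1 : ℤˣ) = 2 := orderOf_eq_prime (Int.units_sq _) (by decide)
  have hga : SL2Orders.halfPred (Fintype.card F) = a := by
    rw [hcard, SL2Orders.halfPred, ha, Nat.gcd_eq_right (Dvd.intro a rfl)]; omega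
  have hgb : SL2Orders.halfSucc (Fintype.card F) = b := by
    rw [hcard, SL2Orders.halfSucc, hb, Nat.gcd_eq_right (Dvd.intro b rfl)]; omega
  have m6 : 6 ∈ Set.range (orderOf : H → ℕ) := by
    obtain ⟨g, hg⟩ := SL2Orders.exists_orderOf_char (F := F) 3
    have := hrange (-1, g)
    rwa [Prod.orderOf_mk, hneg, hg] at this
  have ma : 2 * a ∈ Set.range (orderOf : H → ℕ) := by
    obtain ⟨g, hg⟩ := SL2Orders.exists_orderOf_split (F := F) (by omega)
    have := hrange (-1, g)
    rw [Prod.orderOf_mk, hneg, hg, hga, (Nat.coprime_two_left.2 haodd).lcm_eq_mul] at this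
    exact this
  have mb : b ∈ Set.range (orderOf : H → ℕ) := by
    obtain ⟨g, hg⟩ := SL2Orders.exists_orderOf_nonsplit (F := F) 3
    have := hrange (1, g)
    rwa [Prod.orderOf_mk, orderOf_one, hg, hgb, Nat.lcm_one_left] at this
  have m9 : 9 ∈ Set.range (orderOf : H → ℕ) := exists_nine F
  have hall : ∀ n ∈ Set.range (orderOf : H → ℕ), n ∣ 9 ∨ n ∣ 6 ∨ n ∣ 2 * a ∨ n ∣ b := by
    rintro _ ⟨h, rfl⟩
    exact order_cases F _ hcard a b ha hb haodd hbev h
  have e2a : ¬ 3 ∣ 2 * a := fun h => ha3 ((Nat.Coprime.dvd_mul_left (by norm_num)).1 h)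
  have hgab : ∀ d, d ∣ 2 * a → d ∣ b → d ≤ 2 := by
    intro d h1 h2
    have h3 : d ∣ 2 * b - 2 * a := Nat.dvd_sub (dvd_mul_of_dvd_right h2 2) h1
    rw [show 2 * b - 2 * a = 2 by omega] at h3
    exact Nat.le_of_dvd two_pos h3
  ext n
  simp only [Set.mem_insert_iff, Set.mem_singleton_iff]
  constructor
  · rintro ⟨hn, hmax⟩
    rcases hall n hn with h | h | h | h
    · exact Or.inr (Or.inl (hmax _ m9 h).symm)
    · exact Or.inl (hmax _ m6 h).symm
    · exact Or.inr (Or.inr (Or.inl (hmax _ ma h).symm))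
    · exact Or.inr (Or.inr (Or.inr (hmax _ mb h).symm))
  · have t96 : ∀ d, d ∣ 9 → d ∣ 6 → d ∣ 3 := fun d x y => Nat.dvd_gcd x y
    rintro (rfl | rfl | rfl | rfl)
    · refine ⟨m6, fun m hm hd => ?_⟩
      rcases hall m hm with h | h | h | h
      · exact absurd (t96 6 (hd.trans h) dvd_rfl) (by decide)
      · exact Nat.dvd_antisymm h hd
      · exact absurd ((Nat.dvd_trans (by norm_num) (hd.trans h) : 3 ∣ 2 * a)) e2a
      · exact absurd ((Nat.dvd_trans (by norm_num) (hd.trans h) : 3 ∣ b)) hb3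
    · refine ⟨m9, fun m hm hd => ?_⟩
      rcases hall m hm with h | h | h | h
      · exact Nat.dvd_antisymm h hd
      · exact absurd (t96 9 dvd_rfl (hd.trans h)) (by decide)
      · exact absurd ((Nat.dvd_trans (by norm_num) (hd.trans h) : 3 ∣ 2 * a)) e2a
      · exact absurd ((Nat.dvd_trans (by norm_num) (hd.trans h) : 3 ∣ b)) hb3
    · refine ⟨ma, fun m hm hd => ?_⟩
      rcases hall m hm with h | h | h | h
      · have := Nat.le_of_dvd (by norm_num) (hd.trans h); omega
      · have := Nat.le_of_dvd (by norm_num) (hd.trans h); omega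
      · exact Nat.dvd_antisymm h hd
      · have := hgab _ dvd_rfl (hd.trans h); omega
    · refine ⟨mb, fun m hm hd => ?_⟩
      rcases hall m hm with h | h | h | h
      · have := Nat.le_of_dvd (by norm_num) (hd.trans h); omega
      · have := Nat.le_of_dvd (by norm_num) (hd.trans h); omega
      · have := hgab _ (hd.trans h) dvd_rfl; omega
      · exact Nat.dvd_antisymm h hd

end Cfsg.Agent.S2515
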