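import Cfsg.Statements.S2516

set_option autoImplicit false
open Cfsg

namespace Cfsg.Agent.S2516

theorem pow_mk_left {V : Type*} [CommGroup V] {G : Type*} [Group G] (φ : G →* MulAut V) (v : V)
    (g : G) (m : ℕ) :
    (SemidirectProduct.mk v g : V ⋊[φ] G) ^ m =
      SemidirectProduct.mk (∏ i ∈ Finset.range m, φ (g ^ i) v) (g ^ m) := by
  induction m with
  | zero => ext <;> simp
  | succ m ih =>
    rw [pow_succ, ih]
    apply SemidirectProduct.ext
    · simp only [SemidirectProduct.mul_left, Finset.prod_range_succ]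
    · simp only [SemidirectProduct.mul_right, pow_succ]

/-- Let F be a field of characteristic p > 0, V a non-zero finite-dimensional F-vector space, G a finite group and ρ a representation of G on V; form the semidirect product V ⋊ G. For g ∈ G of order k, the coset Vg contains an element of order pk if and only if the minimal polynomial of ρ(g) does not divide 1 + X + ⋯ + X^(k−1). -/
theorem result {F : Type*} [Field F] (p : ℕ) [Fact p.Prime] [CharP F p] {V : Type*} [AddCommGroup V] [Module F V] [FiniteDimensional F V] [Nontrivial V]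
    {G : Type*} [Group G] [Finite G] (ρ : Representation F G V) (g : G) :
    (∃ x : Multiplicative V ⋊[(MulAutMultiplicative V).symm.toMonoidHom.comp
        ((DistribMulAction.toAddAut ((V →ₗ[F] V)ˣ) V).comp ρ.asGroupHom)] G,
        x.right = g ∧ orderOf x = p * orderOf g) ↔
      ¬ (minpoly F (ρ g) ∣ ∑ i ∈ Finset.range (orderOf g), (Polynomial.X : Polynomial F) ^ i) := by
  have hp : p.Prime := Fact.out
  obtain ⟨k, hk⟩ : ∃ k, orderOf g = k := ⟨_, rfl⟩
  have hkpos : 0 < k := hk ▸ orderOf_pos g
  have hpoly : ∀ v : V, (Polynomial.aeval (ρ g) (∑ i ∈ Finset.range k, (Polynomial.X : Polynomial F) ^ i)) v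
      = ∑ i ∈ Finset.range k, ρ (g ^ i) v := by
    intro v
    rw [map_sum, LinearMap.sum_apply]
    simp [map_pow]
  obtain ⟨φ, hφ⟩ : ∃ φ : G →* MulAut (Multiplicative V), φ = (MulAutMultiplicative V).symm.toMonoidHom.comp
        ((DistribMulAction.toAddAut ((V →ₗ[F] V)ˣ) V).comp ρ.asGroupHom) := ⟨_, rfl⟩
  rw [← hφ, hk]
  have hφv : ∀ (a : G) (v : V), φ a (Multiplicative.ofAdd v) = Multiplicative.ofAdd (ρ a v) := by
    intro a v
    subst hφ
    rfl
  have hkpow : ∀ v : V, (SemidirectProduct.mk (Multiplicative.ofAdd v) g : Multiplicative V ⋊[φ] G) ^ k =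
      SemidirectProduct.inl (Multiplicative.ofAdd (∑ i ∈ Finset.range k, ρ (g ^ i) v)) := by
    intro v
    rw [pow_mk_left, ← hk, pow_orderOf_eq_one, hk]
    ext
    · simp only [hφv, SemidirectProduct.left_inl]
      exact congrArg Multiplicative.toAdd (ofAdd_sum (M := V) (Finset.range k) fun i => ρ (g ^ i) v).symm
    · simp
  have hchar : ∀ w : V, p • w = 0 := fun w => by
    rw [← Nat.cast_smul_eq_nsmul F, CharP.cast_eq_zero, zero_smul]
  rw [minpoly.dvd_iff]
  constructor
  · rintro ⟨⟨l, r⟩, hr, hx⟩ h0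
    obtain rfl : r = g := hr
    have hv := hkpow (Multiplicative.toAdd l)
    rw [← hpoly, h0, LinearMap.zero_apply, ofAdd_zero, map_one, ofAdd_toAdd] at hv
    have h2 := Nat.le_of_dvd hkpos (hx ▸ orderOf_dvd_of_pow_eq_one hv)
    have := Nat.mul_le_mul_right k hp.two_le
    omega
  · intro h0
    obtain ⟨v, hv⟩ : ∃ v : V, ∑ i ∈ Finset.range k, ρ (g ^ i) v ≠ 0 := by
      by_contra hcon
      push Not at hcon
      exact h0 (LinearMap.ext fun v => by rw [hpoly, hcon, LinearMap.zero_apply])
    refine ⟨SemidirectProduct.mk (Multiplicative.ofAdd v) g, rfl, ?_⟩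
    have hdvd : k ∣ orderOf (SemidirectProduct.mk (Multiplicative.ofAdd v) g : Multiplicative V ⋊[φ] G) := by
      rw [← hk]; exact orderOf_map_dvd (SemidirectProduct.rightHom (φ := φ)) _
    obtain ⟨c, hc⟩ := hdvd
    have : Fact p.Prime := ⟨hp⟩
    have hord : orderOf ((SemidirectProduct.mk (Multiplicative.ofAdd v) g : Multiplicative V ⋊[φ] G) ^ k) = p := by
      rw [hkpow]
      refine orderOf_eq_prime ?_ ?_
      · rw [← map_pow, ← ofAdd_nsmul, hchar, ofAdd_zero, map_one]
      · rw [Ne, ← map_one SemidirectProduct.inl, SemidirectProduct.inl_injective.eq_iff, ofAdd_eq_one]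
        exact hv
    rw [orderOf_pow_of_dvd hkpos.ne' ⟨c, hc⟩, hc, Nat.mul_div_cancel_left _ hkpos] at hord
    rw [hc, hord, mul_comm]

end Cfsg.Agent.S2516
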