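import Cfsg.Statements.S2519
import Cfsg.Agent.Lib.G2OrdersOdd.Main

set_option autoImplicit false
open Cfsg

namespace Cfsg.Agent.S2519

/-- Let F be a finite field of odd order q = p^a ≥ 5. The element orders of the Chevalley group G₂(F) that are maximal under divisibility are exactly p(q + 1), p(q − 1), q² − 1, q² + q + 1, q² − q + 1, together with p² when p is 3 or 5. -/
theorem result {F : Type*} [Field F] [Fintype F] (p a : ℕ) (hp : p.Prime) (hp2 : p ≠ 2) (ha : 1 ≤ a) (hF : Fintype.card F = p ^ a) (hq5 : 5 ≤ Fintype.card F) :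
    {n : ℕ | n ∈ Set.range (orderOf : ↥(Cfsg.Lie.chevG2.group F) → ℕ) ∧ ∀ m ∈ Set.range (orderOf : ↥(Cfsg.Lie.chevG2.group F) → ℕ), n ∣ m → m = n} =
      ({p * (p ^ a + 1), p * (p ^ a - 1), p ^ (2 * a) - 1, p ^ (2 * a) + p ^ a + 1, p ^ (2 * a) - p ^ a + 1} : Set ℕ) ∪
        (if p = 3 ∨ p = 5 then ({p ^ 2} : Set ℕ) else ∅) := by
  obtain ⟨hup, hex⟩ := G2OrdersOdd.main p a hp hp2 ha hF (hF ▸ hq5)
  have hodd : Odd (p ^ a) := (hp.odd_of_ne_two hp2).pow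
  have hanti : ∀ n m : ℕ, n ∈ G2OrdersOdd.expListAll p (p ^ a) → m ∈ G2OrdersOdd.expListAll p (p ^ a) →
      n ∣ m → n = m := fun n m hn hm h =>
    G2OrdersOdd.antichain hp hp2 (hF ▸ hq5) hodd (dvd_pow_self p (by omega)) hn hm h
  have hmem : ∀ n : ℕ, n ∈ ({p * (p ^ a + 1), p * (p ^ a - 1), p ^ (2 * a) - 1, p ^ (2 * a) + p ^ a + 1,
      p ^ (2 * a) - p ^ a + 1} : Set ℕ) ∪ (if p = 3 ∨ p = 5 then ({p ^ 2} : Set ℕ) else ∅) ↔
      n ∈ G2OrdersOdd.expListAll p (p ^ a) := by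
    intro n
    rw [show p ^ (2 * a) = (p ^ a) ^ 2 by rw [← pow_mul, mul_comm]]
    by_cases h : p = 3 ∨ p = 5 <;> simp [G2OrdersOdd.expListAll, G2OrdersOdd.expList, h, or_assoc] <;> tauto
  ext n
  rw [hmem]
  refine ⟨fun hn => ?_, fun hn => ⟨?_, fun m hm hdvd => ?_⟩⟩
  · obtain ⟨⟨x, rfl⟩, hmax⟩ := hn
    obtain ⟨m, hm, hdvd⟩ := hup x
    obtain ⟨y, hy⟩ := hex m hm
    rw [← hmax m ⟨y, hy⟩ hdvd]
    exact hm
  · obtain ⟨x, hx⟩ := hex n hn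
    exact ⟨x, hx⟩
  · obtain ⟨x, rfl⟩ := hm
    obtain ⟨k, hk, hkd⟩ := hup x
    have hnk := hanti n k hn hk (hdvd.trans hkd)
    subst hnk
    exact Nat.dvd_antisymm hkd hdvd

end Cfsg.Agent.S2519
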