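import Cfsg.Statements.S2520
import Cfsg.Agent.Lib.G2Orders.Main

set_option autoImplicit false
open Cfsg

namespace Cfsg.Agent.S2520

/-- Let F be a finite field with q = 2^a ≥ 4 elements and G₂(F) the Chevalley group of type G₂ over it. Every element order of G₂(F) maximal under divisibility lies in the set {8, 12, 2(q + 1), 2(q − 1), q² − 1, q² + q + 1, q² − q + 1}, and every member of that set is an element order of G₂(F). -/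
theorem result {F : Type*} [Field F] [Fintype F] (a : ℕ) (ha : 2 ≤ a) (hF : Fintype.card F = 2 ^ a) :
    {n : ℕ | n ∈ Set.range (orderOf : ↥(Cfsg.Lie.chevG2.group F) → ℕ) ∧ ∀ m ∈ Set.range (orderOf : ↥(Cfsg.Lie.chevG2.group F) → ℕ), n ∣ m → m = n} ⊆ ({8, 12, 2 * (2 ^ a + 1), 2 * (2 ^ a - 1), 2 ^ (2 * a) - 1, 2 ^ (2 * a) + 2 ^ a + 1, 2 ^ (2 * a) - 2 ^ a + 1} : Set ℕ) ∧
    ({8, 12, 2 * (2 ^ a + 1), 2 * (2 ^ a - 1), 2 ^ (2 * a) - 1, 2 ^ (2 * a) + 2 ^ a + 1, 2 ^ (2 * a) - 2 ^ a + 1} : Set ℕ) ⊆ Set.range (orderOf : ↥(Cfsg.Lie.chevG2.group F) → ℕ) := by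
  obtain ⟨hup, hex⟩ := G2Orders.main a ha hF
  have hmem : ∀ n : ℕ, n ∈ ({8, 12, 2 * (2 ^ a + 1), 2 * (2 ^ a - 1), 2 ^ (2 * a) - 1, 2 ^ (2 * a) + 2 ^ a + 1, 2 ^ (2 * a) - 2 ^ a + 1} : Set ℕ) ↔
      n ∈ G2Orders.expList (2 ^ a) := by
    intro n
    rw [show 2 ^ (2 * a) = (2 ^ a) ^ 2 by rw [← pow_mul, mul_comm]]
    simp [G2Orders.expList]
  refine ⟨fun n hn => ?_, fun n hn => ?_⟩
  · obtain ⟨⟨x, rfl⟩, hmax⟩ := hn
    obtain ⟨m, hm, hdvd⟩ := hup x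
    obtain ⟨y, hy⟩ := hex m hm
    rw [hmem, ← hmax m ⟨y, hy⟩ hdvd]
    exact hm
  · obtain ⟨x, hx⟩ := hex n ((hmem n).1 hn)
    exact ⟨x, hx⟩

end Cfsg.Agent.S2520
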