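import Cfsg.Statements.S2522
import Cfsg.Agent.Lib.Classical.Commutator.Factor

set_option autoImplicit false
open Cfsg

namespace Cfsg.Agent.S2522

/-- Let K be a field with at least four elements (finite or infinite), n ≥ 3, and J ∈ GL(n, K) the regular unipotent matrix (ones on the diagonal and the superdiagonal, zeros elsewhere). Then every non-scalar g ∈ GL(n, K) with det g = 1 is a product of two GL(n, K)-conjugates of J. -/
theorem result {K : Type*} [Field K] (hK : 4 ≤ Cardinal.mk K) (n : ℕ) (hn : 3 ≤ n) (J g : GL (Fin n) K)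
    (hJ : ∀ i j : Fin n, (J : Matrix (Fin n) (Fin n) K) i j = if i = j then 1 else if j.val = i.val + 1 then 1 else 0)
    (hg : ¬ ∃ c : K, (g : Matrix (Fin n) (Fin n) K) = c • (1 : Matrix (Fin n) (Fin n) K))
    (hdet : (g : Matrix (Fin n) (Fin n) K).det = 1) :
    ∃ x y : GL (Fin n) K, g = (x * J * x⁻¹) * (y * J * y⁻¹) := by
  classical
  obtain ⟨m, rfl⟩ : ∃ m, n = m + 1 := ⟨n - 1, by omega⟩
  obtain ⟨s, hs⟩ : ∃ s : Finset K, 4 ≤ s.card := by
    rcases finite_or_infinite K with hf | hf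
    · let := Fintype.ofFinite K
      refine ⟨Finset.univ, ?_⟩
      rw [Cardinal.mk_fintype] at hK
      exact_mod_cast hK
    · obtain ⟨s, hs⟩ := Infinite.exists_subset_card_eq K 4
      exact ⟨s, hs.ge⟩
  obtain ⟨A, B, w, v, hAB, hA, hB⟩ := SLComm.exists_unipotent_factors s hs (by omega : 2 ≤ m) g.1
    hdet (fun a ha => hg ⟨a, ha⟩)
  obtain ⟨w₀, hw₀⟩ := SLComm.cyc_shift (K := K) (n := m + 1) (by omega) (fun _ => 1)
    (fun _ => one_ne_zero)
  have hJe : (J : Matrix (Fin (m + 1)) (Fin (m + 1)) K) = 1 + SLComm.shift (m + 1) fun _ => 1 := by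
    ext i j
    rw [hJ]
    rcases eq_or_ne i j with rfl | hij
    · simp [SLComm.shift]
    · simp [SLComm.shift, hij]
  rw [← hJe] at hw₀
  obtain ⟨x, hx⟩ := SLComm.similar_conj hw₀ hA
  obtain ⟨y, hy⟩ := SLComm.similar_conj hw₀ hB
  refine ⟨x, y, Units.ext ?_⟩
  simp only [Units.val_mul]
  rw [← hx, ← hy, hAB]

end Cfsg.Agent.S2522
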