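import Cfsg.Statements.S2530
import Cfsg.Agent.Lib.SymPres.Coxeter

set_option autoImplicit false
open Cfsg

namespace Cfsg.Agent.S2530

/-- The Coxeter presentation of the symmetric group: for every n, the symmetric group on n+1 letters is the Coxeter group of type A_n with the adjacent transpositions (i, i+1) as simple reflections; that is, it is presented by generators r_1, …, r_n subject to r_i² = 1, (r_i r_j)² = 1 for |i − j| > 1 and (r_i r_{i+1})³ = 1, with r_i mapping to (i, i+1). -/
theorem result (n : ℕ) :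
    ∃ cs : CoxeterSystem (CoxeterMatrix.A n) (Equiv.Perm (Fin (n + 1))), ∀ i : Fin n, cs.simple i = Equiv.swap i.castSucc i.succ := by
  classical
  let W := (CoxeterMatrix.A n).Group
  let c0 : CoxeterSystem (CoxeterMatrix.A n) W := (CoxeterMatrix.A n).toCoxeterSystem
  let s : ℕ → W := fun i => if h : i < n then c0.simple ⟨i, h⟩ else 1
  have hs : ∀ i : Fin n, s i = c0.simple i := fun i => dif_pos i.isLt
  have hM : ∀ i j : Fin n, CoxeterMatrix.A n i j =
      if i = j then 1 else (if (j : ℕ) + 1 = i ∨ (i : ℕ) + 1 = j then 3 else 2) := fun i j => rfl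
  have hsq : ∀ i : Fin n, c0.simple i * c0.simple i = 1 := c0.simple_mul_simple_self
  have hR : SymCoxeter.Rels s n := by
    refine ⟨fun i hi => ?_, fun i hi => ?_, fun i j hij hj => ?_⟩
    · rw [show s i = c0.simple ⟨i, hi⟩ from dif_pos hi]; exact hsq _
    · rw [show s i = c0.simple ⟨i, by omega⟩ from dif_pos _, show s (i + 1) = c0.simple ⟨i + 1, hi⟩ from dif_pos hi]
      have h := c0.simple_mul_simple_pow (⟨i, by omega⟩ : Fin n) ⟨i + 1, hi⟩
      rw [hM, if_neg (by simp [Fin.ext_iff]), if_pos (Or.inr rfl), pow_three] at h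
      have hinv : ∀ x : Fin n, (c0.simple x)⁻¹ = c0.simple x := fun x => inv_eq_of_mul_eq_one_left (hsq x)
      simp only [mul_assoc] at h ⊢
      rw [← mul_assoc, ← mul_assoc] at h
      have h2 := eq_inv_of_mul_eq_one_left h
      simp only [mul_inv_rev, hinv, mul_assoc] at h2
      exact h2
    · rw [show s i = c0.simple ⟨i, by omega⟩ from dif_pos _, show s j = c0.simple ⟨j, hj⟩ from dif_pos hj]
      have h := c0.simple_mul_simple_pow (⟨i, by omega⟩ : Fin n) ⟨j, hj⟩
      rw [hM, if_neg (by simp [Fin.ext_iff]; omega), if_neg (by simp; omega), pow_two] at h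
      have h2 := eq_inv_of_mul_eq_one_left h
      rwa [mul_inv_rev, inv_eq_of_mul_eq_one_left (hsq _), inv_eq_of_mul_eq_one_left (hsq _)] at h2
  obtain ⟨φ, hφ, -⟩ := SymCoxeter.exists_hom n s hR
  have hp := SymCoxeter.adj_rels n
  have hl : (CoxeterMatrix.A n).IsLiftable (fun i : Fin n => SymCoxeter.adj n i) := by
    have key3 : ∀ {G : Type} [Group G] (a b : G), a * a = 1 → b * b = 1 → a * b * a = b * a * b → (a * b) ^ 3 = 1 := by
      intro G _ a b ha hb hab
      rw [pow_three]
      calc a * b * (a * b * (a * b)) = a * b * a * (b * a * b) := by simp only [mul_assoc]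
        _ = a * b * a * (a * b * a) := by rw [hab]
        _ = a * (b * ((a * a) * (b * a))) := by simp only [mul_assoc]
        _ = a * ((b * b) * a) := by rw [ha, one_mul, mul_assoc]
        _ = 1 := by rw [hb, one_mul, ha]
    intro i j
    rw [hM]
    split_ifs with h1 h2
    · subst h1
      rw [pow_one]; exact hp.sq i i.isLt
    · refine key3 _ _ (hp.sq i i.isLt) (hp.sq j j.isLt) ?_
      rcases h2 with h | h
      · have hb := hp.braid j (h ▸ i.isLt)
        rw [h] at hb
        exact hb.symm
      · have hb := hp.braid i (h ▸ j.isLt)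
        rw [h] at hb
        exact hb
    · have hne : (i : ℕ) ≠ j := fun e => h1 (Fin.ext e)
      have hc : SymCoxeter.adj n i * SymCoxeter.adj n j = SymCoxeter.adj n j * SymCoxeter.adj n i := by
        rcases Nat.lt_or_ge (i : ℕ) j with h | h
        · exact hp.comm i j (by omega) j.isLt
        · exact (hp.comm j i (by omega) i.isLt).symm
      rw [(Commute.mul_pow (hc : Commute _ _)), pow_two, pow_two, hp.sq i i.isLt, hp.sq j j.isLt, one_mul]
  let ψ : W →* Equiv.Perm (Fin (n + 1)) := c0.lift ⟨_, hl⟩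
  have hψ : ∀ i : Fin n, ψ (c0.simple i) = SymCoxeter.adj n i := fun i => c0.lift_apply_simple hl i
  have h1 : φ.comp ψ = MonoidHom.id W := c0.ext_simple fun i => by
    rw [MonoidHom.comp_apply, hψ, hφ i i.isLt, hs]; rfl
  have h2 : ψ.comp φ = MonoidHom.id _ := by
    refine MonoidHom.eq_of_eqOn_dense (SymCoxeter.closure_adj n) ?_
    rintro _ ⟨i, hi, rfl⟩
    rw [MonoidHom.comp_apply, hφ i hi, MonoidHom.id_apply, show s i = s (⟨i, hi⟩ : Fin n) from rfl, hs, hψ]
  let e : Equiv.Perm (Fin (n + 1)) ≃* W := MulEquiv.mk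
    ⟨φ, ψ, fun x => DFunLike.congr_fun h2 x, fun x => DFunLike.congr_fun h1 x⟩ φ.map_mul
  refine ⟨⟨e⟩, fun i => ?_⟩
  show ψ (c0.simple i) = _
  rw [hψ]
  simp only [SymCoxeter.adj, i.isLt, dif_pos]
  rfl

end Cfsg.Agent.S2530

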