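import Cfsg.Statements.S2531

set_option autoImplicit false
open Cfsg

namespace Cfsg.Agent.S2531

variable {F : Type*} [Field F] {V : Type*} [AddCommGroup V] [Module F V]

theorem rep_mem_iff (W : Submodule F V) (v : V) (hv : v ≠ 0) :
    (Projectivization.mk F v hv).rep ∈ W ↔ v ∈ W := by
  obtain ⟨a, ha⟩ := Projectivization.exists_smul_eq_mk_rep F v hv
  rw [← ha]
  exact ⟨fun h => by simpa using W.smul_mem ((a⁻¹ : Fˣ) : F) h, fun h => W.smul_mem (a : F) h⟩

theorem card_points_mod [Finite F] [FiniteDimensional F V] (p : ℕ) [CharP F p] (hp : p.Prime)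
    (W : Submodule F V) (hW : W ≠ ⊥) :
    (Nat.card {x : Projectivization F V // x.rep ∈ W} : ZMod p) = 1 := by
  have : Fact p.Prime := ⟨hp⟩
  have : Fintype F := Fintype.ofFinite F
  have hinj : Function.Injective W.subtype := W.injective_subtype
  have hbij : Function.Bijective (fun x : Projectivization F W =>
      (⟨Projectivization.map W.subtype hinj x, by
        induction x using Projectivization.ind with
        | h v hv => rw [Projectivization.map_mk, rep_mem_iff]; exact v.2⟩ :
        {x : Projectivization F V // x.rep ∈ W})) := by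
    refine ⟨fun x y h => Projectivization.map_injective W.subtype hinj (congrArg Subtype.val h), ?_⟩
    rintro ⟨x, hx⟩
    refine ⟨Projectivization.mk F ⟨x.rep, hx⟩ (fun h => x.rep_nonzero (congrArg Subtype.val h)),
      Subtype.ext ?_⟩
    simp [Projectivization.map_mk, Projectivization.mk_rep]
  rw [← Nat.card_congr (Equiv.ofBijective _ hbij)]
  obtain ⟨d, hd⟩ : ∃ d, Module.finrank F W = d + 1 :=
    Nat.exists_eq_succ_of_ne_zero fun h => hW (Submodule.finrank_eq_zero.mp h)
  rw [Projectivization.card_of_finrank F W hd, Finset.sum_range_succ', Nat.cast_add]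
  have hq : ((Nat.card F : ℕ) : ZMod p) = 0 := by
    obtain ⟨a, -, ha⟩ := FiniteField.card F p
    rw [Nat.card_eq_fintype_card, ha, Nat.cast_pow, ZMod.natCast_self, zero_pow a.pos.ne']
  rw [Nat.cast_sum, Finset.sum_eq_zero fun i _ => by rw [Nat.cast_pow, hq, zero_pow (Nat.succ_ne_zero i)]]
  simp

/-- Let `F` be a finite field and `n ≥ 3`. No set of permutations of the points of the projective space of `Fⁿ`, each induced by an invertible semilinear transformation of `Fⁿ` (so a subset of the full projective semilinear group), is sharply 2-transitive on the points: it is impossible that for all pairs of distinct points `(a, b)` and `(c, d)` exactly one member of the set sends `a` to `c` and `b` to `d`. -/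
theorem result {F : Type*} [Field F] [Finite F]
    (n : ℕ) (hn : 3 ≤ n) (S : Set (Equiv.Perm (Projectivization F (Fin n → F))))
    (hS : ∀ s ∈ S, ∃ (σ : F ≃+* F) (f : (Fin n → F) →ₛₗ[(σ : F →+* F)] (Fin n → F)) (hf : Function.Injective f),
      ∀ x, s x = Projectivization.map f hf x) :
    ¬ (∀ a b c d : Projectivization F (Fin n → F), a ≠ b → c ≠ d →
        ∃! s, s ∈ S ∧ s a = c ∧ s b = d) := by
  classical
  intro hsharp
  have : Fintype F := Fintype.ofFinite F
  have : Finite (Projectivization F (Fin n → F)) := inferInstance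
  have : Fintype (Projectivization F (Fin n → F)) := Fintype.ofFinite _
  obtain ⟨p, hp⟩ := CharP.exists F
  have hpp : p.Prime := CharP.char_is_prime F p
  have : Fact p.Prime := ⟨hpp⟩
  obtain ⟨z, hz⟩ : ∃ z : Fin n, z.val = 0 := ⟨⟨0, by omega⟩, rfl⟩
  let W : Submodule F (Fin n → F) := LinearMap.ker (LinearMap.proj z)
  have hone : (Pi.single z (1 : F) : Fin n → F) ≠ 0 := by simp
  obtain ⟨a, ha⟩ : ∃ a, Projectivization.mk F (Pi.single z (1 : F) : Fin n → F) hone = a := ⟨_, rfl⟩
  have haW : a.rep ∉ W := by rw [← ha, rep_mem_iff]; simp [W]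
  have hWne : ∀ x : Projectivization F (Fin n → F), x.rep ∈ W → x ≠ a := fun x hx h => haW (h ▸ hx)
  have hWbot : W ≠ ⊥ := by
    intro h
    have hmem : (Pi.single ⟨1, by omega⟩ 1 : Fin n → F) ∈ W := by
      simp [W, Pi.single_apply, Fin.ext_iff, hz]
    rw [h, Submodule.mem_bot] at hmem
    simp at hmem
  let T : Finset (Equiv.Perm (Projectivization F (Fin n → F))) :=
    Finset.univ.filter fun s => s ∈ S ∧ s a = a
  let P : Finset (Projectivization F (Fin n → F)) := Finset.univ.filter fun x => x.rep ∈ W
  have hPcard : (P.card : ZMod p) = 1 := by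
    rw [← card_points_mod p hpp W hWbot, Nat.card_eq_fintype_card, Fintype.card_subtype]
  -- for every point `b` of the hyperplane, evaluation at `b` is a bijection
  have hbij : ∀ b ∈ P, ∀ Z : Finset (Projectivization F (Fin n → F)), a ∉ Z →
      (T.filter fun s => s b ∈ Z).card = Z.card := by
    intro b hb Z hZ
    have hba : b ≠ a := hWne b (Finset.mem_filter.mp hb).2
    refine Finset.card_bij (fun s _ => s b) (fun s hs => (Finset.mem_filter.mp hs).2) ?_ ?_
    · intro s hs t ht h
      obtain ⟨hs1, hs2⟩ := Finset.mem_filter.mp hs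
      obtain ⟨hs1', hs3⟩ := (Finset.mem_filter.mp hs1).2
      obtain ⟨ht1', ht3⟩ := (Finset.mem_filter.mp (Finset.mem_filter.mp ht).1).2
      obtain ⟨u, -, hu⟩ := hsharp a b a (s b) hba.symm (fun hh => hZ (hh ▸ hs2))
      exact (hu s ⟨hs1', hs3, rfl⟩).trans (hu t ⟨ht1', ht3, h.symm⟩).symm
    · intro y hy
      obtain ⟨u, ⟨hu1, hu2, hu3⟩, -⟩ := hsharp a b a y hba.symm (fun hh => hZ (hh ▸ hy))
      exact ⟨u, Finset.mem_filter.mpr ⟨Finset.mem_filter.mpr ⟨Finset.mem_univ _, hu1, hu2⟩, hu3 ▸ hy⟩, hu3⟩
  -- each member of `T` maps the hyperplane to one meeting it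
  have hmeet : ∀ s ∈ T, ((P.filter fun x => s x ∈ P).card : ZMod p) = 1 := by
    intro s hs
    obtain ⟨σ, f, hf, hsf⟩ := hS s (Finset.mem_filter.mp hs).2.1
    let M : Submodule F (Fin n → F) := W ⊓ W.comap f
    have hM : ∀ x : Projectivization F (Fin n → F), x.rep ∈ M ↔ x.rep ∈ W ∧ (s x).rep ∈ W := by
      intro x
      induction x using Projectivization.ind with
      | h v hv => rw [hsf, Projectivization.map_mk, rep_mem_iff, rep_mem_iff, rep_mem_iff]; rfl
    have hMbot : M ≠ ⊥ := by
      intro h
      -- then `(w, f w) ↦ w 0, f w` would embed the hyperplane into one coordinate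
      let G : W → F := fun w => f (w : Fin n → F) z
      have hG : Function.Injective G := by
        intro v w hvw
        have hmem : (v : Fin n → F) - w ∈ M := by
          refine ⟨W.sub_mem v.2 w.2, ?_⟩
          show f ((v : Fin n → F) - w) z = 0
          rw [map_sub, Pi.sub_apply, sub_eq_zero]
          exact hvw
        rw [h, Submodule.mem_bot, sub_eq_zero] at hmem
        exact Subtype.ext hmem
      have hle := Nat.card_le_card_of_injective G hG
      let H : F × F → W := fun c => ⟨Pi.single ⟨1, by omega⟩ c.1 + Pi.single ⟨2, by omega⟩ c.2, by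
        simp [W, Pi.single_apply, Fin.ext_iff, hz]⟩
      have hH : Function.Injective H := by
        intro c d hcd
        have h0 : ∀ i, (H c : Fin n → F) i = (H d : Fin n → F) i := fun i => by rw [hcd]
        have h1 := h0 ⟨1, by omega⟩
        have h2 := h0 ⟨2, by omega⟩
        simp [H, Pi.single_apply] at h1 h2
        exact Prod.ext h1 h2
      have hle2 := (Nat.card_le_card_of_injective H hH).trans hle
      rw [Nat.card_prod] at hle2
      have := Finite.one_lt_card (α := F)
      nlinarith
    rw [← card_points_mod p hpp M hMbot, Nat.card_eq_fintype_card, Fintype.card_subtype]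
    congr 2
    ext x
    simp [P, hM]
  -- double counting
  have hcount : ∑ s ∈ T, (P.filter fun x => s x ∈ P).card = ∑ b ∈ P, P.card := by
    simp only [Finset.card_filter]
    rw [Finset.sum_comm]
    refine Finset.sum_congr rfl fun b hb => ?_
    rw [← Finset.card_filter]
    exact hbij b hb P fun h => haW (Finset.mem_filter.mp h).2
  have hT : (T.card : ZMod p) = 0 := by
    obtain ⟨b, hb⟩ : P.Nonempty := Finset.card_pos.mp (Nat.pos_of_ne_zero fun h => by
      rw [h, Nat.cast_zero] at hPcard; exact zero_ne_one hPcard)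
    have h := hbij b hb (Finset.univ.erase a) (by simp)
    have hall : (T.filter fun s => s b ∈ Finset.univ.erase a) = T := by
      refine Finset.filter_true_of_mem fun s hs => Finset.mem_erase.mpr ⟨fun hh => ?_, Finset.mem_univ _⟩
      exact hWne b (Finset.mem_filter.mp hb).2
        (s.injective (hh.trans (Finset.mem_filter.mp hs).2.2.symm))
    have htot : (Nat.card (Projectivization F (Fin n → F)) : ZMod p) = 1 := by
      have htop : (⊤ : Submodule F (Fin n → F)) ≠ ⊥ := fun h =>
        hone ((Submodule.mem_bot F).mp (h ▸ Submodule.mem_top))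
      rw [← card_points_mod p hpp ⊤ htop]
      congr 1
      exact Nat.card_congr (Equiv.subtypeUnivEquiv (fun _ => Submodule.mem_top)).symm
    rw [hall, Finset.card_erase_of_mem (Finset.mem_univ a), Finset.card_univ,
      ← Nat.card_eq_fintype_card] at h
    have hpos : 1 ≤ Nat.card (Projectivization F (Fin n → F)) :=
      Nat.card_pos_iff.mpr ⟨⟨a⟩, inferInstance⟩
    rw [h, Nat.cast_sub hpos, htot, Nat.cast_one, sub_self]
  have h1 := congrArg (fun k : ℕ => (k : ZMod p)) hcount
  simp only [Nat.cast_sum] at h1
  rw [Finset.sum_congr rfl hmeet, Finset.sum_const, nsmul_one, hT, Finset.sum_const,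
    nsmul_eq_mul, hPcard, mul_one] at h1
  exact zero_ne_one h1

end Cfsg.Agent.S2531
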