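import Cfsg.Statements.S2532
-- import your own Cfsg.Agent.* helpers here

set_option autoImplicit false
open Cfsg

namespace Cfsg.Agent.S2532

set_option maxHeartbeats 1600000 in
/-- There is a function `f` of two natural-number arguments such that, whenever `m ≥ f(n, r)`, every subgroup of order `n` of the alternating group of degree `m` centralizes some subgroup of that alternating group isomorphic to the alternating group of degree `r`. -/
theorem result :
    ∃ f : ℕ → ℕ → ℕ, ∀ (m r : ℕ) (H : Subgroup ↥(alternatingGroup (Fin m))), f (Nat.card H) r ≤ m →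
      ∃ K : Subgroup ↥(alternatingGroup (Fin m)), Nonempty (↥K ≃* ↥(alternatingGroup (Fin r))) ∧
        K ≤ Subgroup.centralizer (H : Set ↥(alternatingGroup (Fin m))) := by
  classical
  refine ⟨fun n r => 2 ^ n * (n * r) + 1, fun m r H hm => ?_⟩
  set n := Nat.card H with hn
  let _ : MulAction H (Fin m) :=
    MulAction.compHom (Fin m) ((alternatingGroup (Fin m)).subtype.comp H.subtype)
  have : Fintype H := Fintype.ofFinite H
  have : Fintype (Subgroup H) := Fintype.ofFinite _
  have hsub : Fintype.card (Subgroup H) ≤ 2 ^ n := by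
    rw [hn, Nat.card_eq_fintype_card, ← Fintype.card_set]
    exact Fintype.card_le_of_injective (fun S : Subgroup H => (S : Set H)) SetLike.coe_injective
  obtain ⟨S, -, hS⟩ := Finset.exists_lt_card_fiber_of_mul_lt_card_of_maps_to
    (s := (Finset.univ : Finset (Fin m))) (t := (Finset.univ : Finset (Subgroup H)))
    (f := fun x => MulAction.stabilizer H x) (n := n * r) (fun _ _ => Finset.mem_univ _) (by
      rw [Finset.card_univ, Finset.card_univ, Fintype.card_fin]
      exact lt_of_lt_of_le (Nat.lt_succ_of_le (Nat.mul_le_mul_right _ hsub)) hm)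
  set T := Finset.univ.filter fun x : Fin m => MulAction.stabilizer H x = S with hT
  let o : Fin m → MulAction.orbitRel.Quotient H (Fin m) := Quotient.mk''
  have hcard : T.card ≤ n * (T.image o).card := Finset.card_le_mul_card_image T n fun q _ => by
    induction q using Quotient.inductionOn' with
    | _ a =>
      calc ((T.filter fun x => o x = o a)).card ≤ (Finset.univ.image fun h : H => h • a).card :=
            Finset.card_le_card fun x hx => by
              obtain ⟨h, hh⟩ := Quotient.eq''.1 (Finset.mem_filter.1 hx).2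
              exact Finset.mem_image.2 ⟨h, Finset.mem_univ _, hh⟩
        _ ≤ n := Finset.card_image_le.trans (by rw [Finset.card_univ, hn, Nat.card_eq_fintype_card])
  have hr : r ≤ (T.image o).card :=
    (Nat.lt_of_mul_lt_mul_left (lt_of_lt_of_le hS hcard)).le
  obtain ⟨e⟩ : Nonempty (Fin r ↪ ↥(T.image o)) :=
    Function.Embedding.nonempty_of_card_le (by rw [Fintype.card_fin, Fintype.card_coe]; exact hr)
  have hx : ∀ i : Fin r, ∃ x : Fin m, MulAction.stabilizer H x = S ∧ o x = (e i).1 := fun i => by
    obtain ⟨x, hx, hox⟩ := Finset.mem_image.1 (e i).2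
    exact ⟨x, (Finset.mem_filter.1 hx).2, hox⟩
  choose x hxS hxo using hx
  let f : Fin r × (H ⧸ S) → Fin m := fun p => Quotient.liftOn' p.2 (fun h => h • x p.1)
    fun a b hab => by
      have hab' := QuotientGroup.leftRel_apply.1 hab
      rw [← hxS p.1, MulAction.mem_stabilizer_iff, mul_smul, inv_smul_eq_iff] at hab'
      exact hab'.symm
  have hf : ∀ (i : Fin r) (h : H), f (i, QuotientGroup.mk h) = h • x i := fun _ _ => rfl
  have hinj : Function.Injective f := by
    rintro ⟨i, a⟩ ⟨j, b⟩ hij
    induction a using QuotientGroup.induction_on with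
    | _ a =>
      induction b using QuotientGroup.induction_on with
      | _ b =>
        rw [hf, hf] at hij
        obtain rfl : i = j := e.injective (Subtype.ext (by
          rw [← hxo i, ← hxo j]
          exact Quotient.eq''.2 ⟨a⁻¹ * b, by
            show (a⁻¹ * b) • x j = x i
            rw [mul_smul, ← hij, inv_smul_smul]⟩))
        refine Prod.ext rfl (QuotientGroup.eq.2 ?_)
        rw [← hxS i, MulAction.mem_stabilizer_iff, mul_smul, ← hij, inv_smul_smul]
  let ι : Fin r × (H ⧸ S) ↪ Fin m := ⟨f, hinj⟩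
  let ψ : Equiv.Perm (Fin r) →* Equiv.Perm (Fin m) :=
    (Equiv.Perm.viaEmbeddingHom ι).comp
      (MonoidHom.mk' (fun π => Equiv.prodCongrLeft fun _ : H ⧸ S => π) fun _ _ => rfl)
  have hmem : ∀ π : alternatingGroup (Fin r), ψ π ∈ alternatingGroup (Fin m) := fun π => by
    rw [Equiv.Perm.mem_alternatingGroup]
    show Equiv.Perm.sign (Equiv.Perm.viaEmbedding _ ι) = 1
    simp only [Equiv.Perm.viaEmbedding, Equiv.Perm.sign_extendDomain]
    show Equiv.Perm.sign (Equiv.prodCongrLeft fun _ : H ⧸ S => (π : Equiv.Perm (Fin r))) = 1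
    rw [Equiv.Perm.sign_prodCongrLeft]
    exact Finset.prod_eq_one fun _ _ => Equiv.Perm.mem_alternatingGroup.1 π.2
  let Ψ : alternatingGroup (Fin r) →* alternatingGroup (Fin m) :=
    (ψ.comp (alternatingGroup (Fin r)).subtype).codRestrict _ hmem
  have hΨ : Function.Injective Ψ := fun a b h => Subtype.ext (Equiv.ext fun i => by
    have h' := DFunLike.congr_fun (Equiv.Perm.viaEmbeddingHom_injective ι (congrArg Subtype.val h))
      (i, QuotientGroup.mk 1)
    exact congrArg Prod.fst h')
  refine ⟨Ψ.range, ⟨(MonoidHom.ofInjective hΨ).symm⟩, ?_⟩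
  rintro _ ⟨π, rfl⟩
  rw [Subgroup.mem_centralizer_iff]
  intro h hh
  refine Subtype.ext (Equiv.ext fun y => ?_)
  show (h : Equiv.Perm (Fin m)) (ψ π y) = ψ π ((h : Equiv.Perm (Fin m)) y)
  have hact : ∀ z, (h : Equiv.Perm (Fin m)) z = (⟨h, hh⟩ : H) • z := fun _ => rfl
  have hmove : ∀ (g : H) (z : Fin r × (H ⧸ S)), g • ι z = ι (z.1, g • z.2) := by
    rintro g ⟨i, a⟩
    induction a using QuotientGroup.induction_on with
    | _ a => exact (mul_smul g a (x i)).symm
  rw [hact, hact]
  show _ • Equiv.Perm.viaEmbedding _ ι y = Equiv.Perm.viaEmbedding _ ι _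
  by_cases hy : y ∈ Set.range ι
  · obtain ⟨z, rfl⟩ := hy
    rw [Equiv.Perm.viaEmbedding_apply, hmove, hmove, Equiv.Perm.viaEmbedding_apply]
    rfl
  · rw [Equiv.Perm.viaEmbedding_apply_of_notMem _ _ _ hy,
      Equiv.Perm.viaEmbedding_apply_of_notMem _ _ _ ?_]
    rintro ⟨z, hz⟩
    refine hy ⟨(z.1, (⟨h, hh⟩ : H)⁻¹ • z.2), ?_⟩
    rw [← hmove, hz, inv_smul_smul]

end Cfsg.Agent.S2532
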