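import Cfsg.Statements.S2533
-- import your own Cfsg.Agent.* helpers here

set_option autoImplicit false
open Cfsg

namespace Cfsg.Agent.S2533

open Matrix

variable {p : ℕ} [Fact p.Prime] {k : ℕ}

local notation "Fp" => ZMod p
local notation "Ix" => Fin k ⊕ Fin (k + 1)

/-- Three maps with trivial endomorphisms. -/
def X3 (v : Fin 3 → Fp) : Matrix (Fin (k + 1)) (Fin k) Fp :=
  Matrix.of fun i j => (if (i : ℕ) = j then v 0 else 0) + (if (i : ℕ) = j + 1 then v 1 else 0) +
    (if (i : ℕ) = 0 ∧ (j : ℕ) = 1 then v 2 else 0)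

theorem X3_add (v w : Fin 3 → Fp) : (X3 (v + w) : Matrix (Fin (k + 1)) (Fin k) Fp) = X3 v + X3 w := by
  ext i j
  simp only [X3, Matrix.of_apply, Matrix.add_apply, Pi.add_apply]
  split_ifs <;> ring

/-- Unipotent part. -/
def uni (v : Fin 3 → Fp) : Matrix Ix Ix Fp := fromBlocks 1 0 (X3 v) 1

/-- The involution. -/
def inv2 : Matrix Ix Ix Fp := fromBlocks 1 0 0 (-1)

theorem uni_mul (v w : Fin 3 → Fp) : (uni v : Matrix Ix Ix Fp) * uni w = uni (v + w) := by
  simp [uni, fromBlocks_multiply, X3_add]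

theorem inv2_sq : (inv2 : Matrix Ix Ix Fp) * inv2 = 1 := by
  simp [inv2, fromBlocks_multiply, fromBlocks_one]

theorem X3_neg (v : Fin 3 → Fp) : (X3 (-v) : Matrix (Fin (k + 1)) (Fin k) Fp) = -X3 v := by
  ext i j
  simp only [X3, Matrix.of_apply, Matrix.neg_apply, Pi.neg_apply]
  split_ifs <;> ring

theorem uni_zero : (uni 0 : Matrix Ix Ix Fp) = 1 := by
  have h : (X3 0 : Matrix (Fin (k + 1)) (Fin k) Fp) = 0 := by
    ext i j; simp [X3]
  rw [uni, h, fromBlocks_one]

theorem inv2_uni (v : Fin 3 → Fp) : (inv2 : Matrix Ix Ix Fp) * uni v = uni (-v) * inv2 := by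
  simp [inv2, uni, fromBlocks_multiply, X3_neg]

theorem end_scalar {A : Matrix (Fin k) (Fin k) Fp} {D : Matrix (Fin (k + 1)) (Fin (k + 1)) Fp}
    (h : ∀ v, D * X3 v = X3 v * A) :
    D = D 0 0 • 1 ∧ A = D 0 0 • 1 := by
  classical
  have e0 : ∀ (i : Fin (k + 1)) (j : Fin k), (D * (X3 (Pi.single 0 1) : Matrix (Fin (k + 1)) (Fin k) Fp)) i j = D i j.castSucc := fun i j => by
    rw [mul_apply, Finset.sum_eq_single j.castSucc]
    · simp [X3]
    · intro b _ hb
      have : (b : ℕ) ≠ j := fun e => hb (Fin.ext e)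
      simp [X3, this]
    · simp
  have e1 : ∀ (i : Fin (k + 1)) (j : Fin k), (D * (X3 (Pi.single 1 1) : Matrix (Fin (k + 1)) (Fin k) Fp)) i j = D i j.succ := fun i j => by
    rw [mul_apply, Finset.sum_eq_single j.succ]
    · simp [X3]
    · intro b _ hb
      have : (b : ℕ) ≠ (j : ℕ) + 1 := fun e => hb (Fin.ext e)
      simp [X3, this]
    · simp
  have f0 : ∀ (i : Fin k) j, ((X3 (Pi.single 0 1) : Matrix (Fin (k + 1)) (Fin k) Fp) * A) i.castSucc j = A i j := fun i j => by
    rw [mul_apply, Finset.sum_eq_single i]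
    · simp [X3]
    · intro b _ hb
      have : (i : ℕ) ≠ b := fun e => hb (Fin.ext e.symm)
      simp [X3, this]
    · simp
  have f0' : ∀ j, ((X3 (Pi.single 0 1) : Matrix (Fin (k + 1)) (Fin k) Fp) * A) (Fin.last k) j = 0 := fun j => by
    rw [mul_apply]
    refine Finset.sum_eq_zero fun b _ => ?_
    have : k ≠ (b : ℕ) := b.2.ne'
    simp [X3, this]
  have f1 : ∀ (i : Fin k) j, ((X3 (Pi.single 1 1) : Matrix (Fin (k + 1)) (Fin k) Fp) * A) i.succ j = A i j := fun i j => by
    rw [mul_apply, Finset.sum_eq_single i]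
    · simp [X3]
    · intro b _ hb
      have : (i : ℕ) ≠ b := fun e => hb (Fin.ext e.symm)
      simp [X3, this]
    · simp
  have f1' : ∀ j, ((X3 (Pi.single 1 1) : Matrix (Fin (k + 1)) (Fin k) Fp) * A) 0 j = 0 := fun j => by
    rw [mul_apply]
    exact Finset.sum_eq_zero fun b _ => by simp [X3]
  have a1 : ∀ i j, D (Fin.castSucc i) (Fin.castSucc j) = A i j := fun i j =>
    (e0 _ _).symm.trans ((congrFun (congrFun (h _) _) _).trans (f0 i j))
  have a2 : ∀ i j, D (Fin.succ i) (Fin.succ j) = A i j := fun i j =>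
    (e1 _ _).symm.trans ((congrFun (congrFun (h _) _) _).trans (f1 i j))
  have a3 : ∀ j : Fin k, D 0 j.succ = 0 := fun j =>
    (e1 _ _).symm.trans ((congrFun (congrFun (h _) _) _).trans (f1' j))
  have a4 : ∀ j : Fin k, D (Fin.last k) j.castSucc = 0 := fun j =>
    (e0 _ _).symm.trans ((congrFun (congrFun (h _) _) _).trans (f0' j))
  have up : ∀ (a : ℕ) (i j : Fin (k + 1)), (i : ℕ) = a → (i : ℕ) < j → D i j = 0 := by
    intro a
    induction a with
    | zero =>
      intro i j hi hij
      obtain rfl : i = 0 := Fin.ext hi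
      obtain ⟨j', rfl⟩ := Fin.exists_succ_eq.2 (show j ≠ 0 from fun e => by rw [e] at hij; exact lt_irrefl _ hij)
      exact a3 j'
    | succ a ih =>
      intro i j hi hij
      obtain ⟨i', rfl⟩ := Fin.exists_succ_eq.2 (show i ≠ 0 from fun e => by rw [e] at hi; simp at hi)
      obtain ⟨j', rfl⟩ := Fin.exists_succ_eq.2 (show j ≠ 0 from fun e => by rw [e] at hij; simp at hij)
      simp only [Fin.val_succ] at hi hij
      rw [a2, ← a1]
      exact ih _ _ (by simp; omega) (by simp; omega)
  have dn : ∀ (a : ℕ) (i j : Fin (k + 1)), (i : ℕ) + a = k → (j : ℕ) < i → D i j = 0 := by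
    intro a
    induction a with
    | zero =>
      intro i j hi hij
      obtain rfl : i = Fin.last k := Fin.ext (by simpa using hi)
      obtain ⟨j', rfl⟩ := Fin.exists_castSucc_eq.2 (show j ≠ Fin.last k from fun e => by rw [e] at hij; exact lt_irrefl _ hij)
      exact a4 j'
    | succ a ih =>
      intro i j hi hij
      obtain ⟨i', rfl⟩ := Fin.exists_castSucc_eq.2 (show i ≠ Fin.last k from fun e => by rw [e] at hi; simp at hi)
      obtain ⟨j', rfl⟩ := Fin.exists_castSucc_eq.2 (show j ≠ Fin.last k from fun e => by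
        rw [e] at hij; simp at hij; omega)
      simp only [Fin.val_castSucc] at hi hij
      rw [a1, ← a2]
      exact ih _ _ (by simp; omega) (by simp; omega)
  have dd : ∀ i, D i i = D 0 0 := by
    intro i
    induction i using Fin.induction with
    | zero => rfl
    | succ i ih => rw [a2, ← a1, ih]
  have hD : D = D 0 0 • 1 := by
    ext i j
    rcases lt_trichotomy (i : ℕ) j with hl | hl | hl
    · rw [up _ i j rfl hl, Matrix.smul_apply, one_apply_ne (fun e => by rw [e] at hl; exact lt_irrefl _ hl),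
        smul_zero]
    · obtain rfl : i = j := Fin.ext hl
      rw [dd, Matrix.smul_apply, one_apply_eq, smul_eq_mul, mul_one]
    · rw [dn (k - i) i j (by have := i.2; omega) hl, Matrix.smul_apply,
        one_apply_ne (fun e => by rw [e] at hl; exact lt_irrefl _ hl), smul_zero]
  refine ⟨hD, ?_⟩
  ext i j
  rw [← a1]
  conv_lhs => rw [hD]
  simp [Matrix.one_apply]

/-- The key computation. -/
theorem scalar_of_comm (hp : p ≠ 2) (hk : 0 < k) {G : Matrix Ix Ix Fp} (hG : IsUnit G) {c : Fp}
    (hz : G * inv2 = c • (inv2 * G)) (hx : ∀ v, ∃ c : Fp, G * uni v = c • (uni v * G)) :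
    ∃ a : Fp, G = a • 1 := by
  have h2 : (2 : Fp) ≠ 0 := fun e => hp ((Nat.prime_dvd_prime_iff_eq Fact.out Nat.prime_two).1
    ((CharP.cast_eq_zero_iff Fp p 2).1 (by exact_mod_cast e)))
  set A := G.toBlocks₁₁ with hA
  set B := G.toBlocks₁₂ with hB
  set C := G.toBlocks₂₁ with hC
  set D := G.toBlocks₂₂ with hD
  have hGe : G = fromBlocks A B C D := (fromBlocks_toBlocks G).symm
  clear_value A B C D
  subst hGe
  rw [inv2, fromBlocks_multiply, fromBlocks_multiply, fromBlocks_smul, fromBlocks_inj] at hz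
  simp only [Matrix.mul_one, Matrix.one_mul, Matrix.mul_zero, Matrix.zero_mul, add_zero, zero_add,
    Matrix.mul_neg, Matrix.neg_mul] at hz
  obtain ⟨zA, zB, zC, zD⟩ := hz
  have hinj := Matrix.mulVec_injective_iff_isUnit.2 hG
  have hc : c = 1 := by
    by_contra hne
    have hA0 : A = 0 := by
      have : (1 - c) • A = 0 := by rw [sub_smul, one_smul, ← zA, sub_self]
      exact (smul_eq_zero.1 this).resolve_left (sub_ne_zero.2 (Ne.symm hne))
    have hD0 : D = 0 := by
      have : (1 - c) • D = 0 := by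
        rw [sub_smul, one_smul, sub_eq_zero, ← neg_inj, zD, smul_neg]
      exact (smul_eq_zero.1 this).resolve_left (sub_ne_zero.2 (Ne.symm hne))
    have hBinj : Function.Injective B.mulVec := fun u w e => by
      have := @hinj (Sum.elim 0 u) (Sum.elim 0 w) (by
        rw [fromBlocks_mulVec, fromBlocks_mulVec]
        simp [hD0, e])
      exact funext fun i => congrFun this (Sum.inr i)
    have := LinearMap.finrank_le_finrank_of_injective (f := B.mulVecLin) hBinj
    simp at this
  subst hc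
  rw [one_smul] at zB zC zA zD
  have hB0 : B = 0 := by
    have : (2 : Fp) • B = 0 := by
      rw [two_smul]
      conv_lhs => arg 1; rw [← zB]
      exact neg_add_cancel B
    exact (smul_eq_zero.1 this).resolve_left h2
  have hC0 : C = 0 := by
    have : (2 : Fp) • C = 0 := by
      rw [two_smul]
      conv_lhs => arg 1; rw [zC]
      exact neg_add_cancel C
    exact (smul_eq_zero.1 this).resolve_left h2
  subst hB0 hC0
  have hA0 : A ≠ 0 := fun e => by
    have := @hinj (Sum.elim (Pi.single ⟨0, hk⟩ 1) 0) (Sum.elim 0 0) (by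
      rw [fromBlocks_mulVec, fromBlocks_mulVec]
      funext i
      rcases i with i | i <;> simp [e, Matrix.mulVec, dotProduct])
    simpa using congrFun this (Sum.inl ⟨0, hk⟩)
  have hcomm : ∀ v, D * X3 v = X3 v * A := fun v => by
    obtain ⟨c, hc⟩ := hx v
    rw [uni, fromBlocks_multiply, fromBlocks_multiply, fromBlocks_smul, fromBlocks_inj] at hc
    simp only [Matrix.mul_one, Matrix.one_mul, Matrix.mul_zero, Matrix.zero_mul, add_zero,
      zero_add] at hc
    obtain ⟨cA, -, cC, -⟩ := hc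
    have hc1 : c = 1 := by
      by_contra hne
      have : (1 - c) • A = 0 := by rw [sub_smul, one_smul, ← cA, sub_self]
      exact hA0 ((smul_eq_zero.1 this).resolve_left (sub_ne_zero.2 (Ne.symm hne)))
    rw [hc1, one_smul] at cC
    exact cC
  obtain ⟨h1, h2'⟩ := end_scalar hcomm
  refine ⟨D 0 0, ?_⟩
  conv_lhs => rw [h1, h2']
  rw [← fromBlocks_one, fromBlocks_smul, smul_zero, smul_zero]

/-- Inversion. -/
def invAct : Multiplicative (ZMod 2) →* MulAut (Multiplicative (Fin 3 → Fp)) :=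
  MonoidHom.mk' (fun b => if b.toAdd = 0 then 1 else MulEquiv.inv _) fun a b => by
    have h01 : ∀ z : ZMod 2, z = 0 ∨ z = 1 := by decide
    rcases h01 a.toAdd with ha | ha <;> rcases h01 b.toAdd with hb | hb <;>
      simp [ha, hb, show (1 : ZMod 2) + 1 = 0 by decide]
    ext x
    simp

/-- The group. -/
abbrev Hp (p : ℕ) [Fact p.Prime] : Type :=
  Multiplicative (Fin 3 → ZMod p) ⋊[invAct (p := p)] Multiplicative (ZMod 2)

theorem det_uni (v : Fin 3 → Fp) : (uni v : Matrix Ix Ix Fp).det = 1 := by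
  simp [uni]

theorem det_inv2 (hk : Odd k) : (inv2 : Matrix Ix Ix Fp).det = 1 := by
  simp [inv2, det_neg, hk.add_one.neg_one_pow]

set_option maxHeartbeats 1600000 in
/-- For every odd prime `p` there is a finite group `H` of order `2p³` which, for infinitely many `n`, embeds in the projective special linear group `PSL(n, p)` as a subgroup with trivial centralizer. -/
theorem result
    (p : ℕ) [Fact p.Prime] (hp : p ≠ 2) :
    ∃ (H : Type) (_ : Group H) (_ : Finite H), Nat.card H = 2 * p ^ 3 ∧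
      ∀ N : ℕ, ∃ n, N ≤ n ∧ ∃ φ : H →* Matrix.ProjectiveSpecialLinearGroup (Fin n) (ZMod p),
        Function.Injective φ ∧ Subgroup.centralizer (φ.range : Set (Matrix.ProjectiveSpecialLinearGroup (Fin n) (ZMod p))) = ⊥ := by
  classical
  have hH : Nat.card (Hp p) = 2 * p ^ 3 := by
    rw [SemidirectProduct.card, Nat.card_congr Multiplicative.toAdd, Nat.card_fun, Nat.card_fin,
      Nat.card_zmod, Nat.card_congr Multiplicative.toAdd, Nat.card_zmod, mul_comm]
  refine ⟨Hp p, inferInstance, Nat.finite_of_card_ne_zero (by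
    rw [hH]; exact Nat.mul_ne_zero two_ne_zero (pow_ne_zero _ (Fact.out : p.Prime).ne_zero)), hH, fun N => ?_⟩
  obtain ⟨k, hk⟩ : ∃ k, k = 2 * N + 3 := ⟨_, rfl⟩
  have hodd : Odd k := ⟨N + 1, by omega⟩
  let e : Fin k ⊕ Fin (k + 1) ≃ Fin (k + (k + 1)) := finSumFinEquiv
  let R := Matrix.reindexAlgEquiv (ZMod p) (ZMod p) e
  have hRdet : ∀ M, (R M).det = M.det := fun M => Matrix.det_reindexAlgEquiv _ _ _ _
  let U : Multiplicative (Fin 3 → ZMod p) →* Matrix.SpecialLinearGroup (Fin (k + (k + 1))) (ZMod p) :=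
    MonoidHom.mk' (fun v => ⟨R (uni v.toAdd), by rw [hRdet, det_uni]⟩) fun v w => Subtype.ext (by
      show R _ = R _ * R _
      rw [← map_mul R, uni_mul]; rfl)
  let z : Matrix.SpecialLinearGroup (Fin (k + (k + 1))) (ZMod p) :=
    ⟨R inv2, by rw [hRdet, det_inv2 hodd]⟩
  have hz2 : z * z = 1 := Subtype.ext (by
    show R _ * R _ = 1
    rw [← map_mul R, inv2_sq, map_one])
  have hzu : ∀ v, z * U v = U v⁻¹ * z := fun v => Subtype.ext (by
    show R _ * R _ = R _ * R _
    rw [← map_mul R, ← map_mul R, inv2_uni]; rfl)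
  let Z : Multiplicative (ZMod 2) →* Matrix.SpecialLinearGroup (Fin (k + (k + 1))) (ZMod p) :=
    MonoidHom.mk' (fun b => if b.toAdd = 0 then 1 else z) fun a b => by
      have h01 : ∀ z : ZMod 2, z = 0 ∨ z = 1 := by decide
      rcases h01 a.toAdd with ha | ha <;> rcases h01 b.toAdd with hb | hb <;>
        simp [ha, hb, show (1 : ZMod 2) + 1 = 0 by decide, hz2]
  let Φ : Hp p →* Matrix.SpecialLinearGroup (Fin (k + (k + 1))) (ZMod p) :=
    SemidirectProduct.lift U Z fun g => MonoidHom.ext fun v => by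
      have h01 : ∀ z : ZMod 2, z = 0 ∨ z = 1 := by decide
      show U (invAct g v) = Z g * U v * (Z g)⁻¹
      obtain ⟨g, rfl⟩ := Multiplicative.ofAdd.surjective g
      rcases h01 g with rfl | rfl
      · simp [show Multiplicative.ofAdd (0 : ZMod 2) = 1 from rfl]
      · show U ((if (1 : ZMod 2) = 0 then 1 else MulEquiv.inv (Multiplicative (Fin 3 → ZMod p))) v) =
          (if (1 : ZMod 2) = 0 then 1 else z) * U v * (if (1 : ZMod 2) = 0 then 1 else z)⁻¹
        rw [if_neg (by decide), if_neg (by decide), MulEquiv.inv_apply, hzu, mul_inv_cancel_right]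
  have hh1 : ∀ a : ZMod 2, a ≠ 0 → a = 1 := by decide
  have hΦc : ∀ h : Hp p, Φ h ∈ Subgroup.center _ → h = 1 := by
    intro h hc
    obtain ⟨a, -, ha⟩ := Matrix.SpecialLinearGroup.mem_center_iff.1 hc
    obtain ⟨v, b⟩ := h
    change Matrix.scalar (Fin (k + (k + 1))) a = ((U v * Z b : Matrix.SpecialLinearGroup (Fin (k + (k + 1))) (ZMod p)) :
      Matrix (Fin (k + (k + 1))) (Fin (k + (k + 1))) (ZMod p)) at ha
    have hb : b.toAdd = 0 := by
      by_contra hb
      have e1 : R (uni v.toAdd * inv2) = R (a • 1) := by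
        rw [map_mul R, map_smul, map_one, Matrix.smul_one_eq_diagonal, ← Matrix.scalar_apply, ha]
        rw [show Z b = z from if_neg hb]
        rfl
      have e2 := R.injective e1
      rw [uni, inv2, fromBlocks_multiply, ← fromBlocks_one, fromBlocks_smul, fromBlocks_inj] at e2
      simp at e2
      obtain ⟨p1, -, p2⟩ := e2
      have q1 := congrFun (congrFun p1 ⟨0, by omega⟩) ⟨0, by omega⟩
      have q2 := congrFun (congrFun p2 0) 0
      simp at q1 q2
      refine hp ((Nat.prime_dvd_prime_iff_eq Fact.out Nat.prime_two).1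
        ((CharP.cast_eq_zero_iff (ZMod p) p 2).1 ?_))
      push_cast
      linear_combination q1 - q2
    have e1 : R (uni v.toAdd) = R (a • 1) := by
      rw [map_smul, map_one, Matrix.smul_one_eq_diagonal, ← Matrix.scalar_apply, ha]
      rw [show Z b = 1 from if_pos hb, mul_one]
      rfl
    have e2 := R.injective e1
    rw [uni, ← fromBlocks_one, fromBlocks_smul, fromBlocks_inj] at e2
    obtain ⟨-, -, p3, -⟩ := e2
    rw [smul_zero] at p3
    refine SemidirectProduct.ext (Multiplicative.toAdd.injective (funext fun i => ?_))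
      (Multiplicative.toAdd.injective hb)
    have q0 := congrFun (congrFun p3 ⟨0, by omega⟩) ⟨0, by omega⟩
    have q1 := congrFun (congrFun p3 ⟨1, by omega⟩) ⟨0, by omega⟩
    have q2 := congrFun (congrFun p3 ⟨0, by omega⟩) ⟨1, by omega⟩
    simp [X3] at q0 q1 q2
    fin_cases i <;> simp [q0, q1, q2]
  refine ⟨k + (k + 1), by omega, (QuotientGroup.mk' _).comp Φ, ?_, ?_⟩
  · refine (injective_iff_map_eq_one _).2 fun h hh => hΦc h ?_
    rwa [MonoidHom.comp_apply, QuotientGroup.mk'_apply, QuotientGroup.eq_one_iff] at hh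
  rw [eq_bot_iff]
  intro g hg
  obtain ⟨G, rfl⟩ := QuotientGroup.mk_surjective g
  have hcomm : ∀ (h : Hp p) (M : Matrix (Fin k ⊕ Fin (k + 1)) (Fin k ⊕ Fin (k + 1)) (ZMod p)),
      (Φ h : Matrix _ _ (ZMod p)) = R M → ∃ c : ZMod p,
        R.symm (G : Matrix _ _ (ZMod p)) * M = c • (M * R.symm (G : Matrix _ _ (ZMod p))) := by
    intro h M hM
    have e1 := Subgroup.mem_centralizer_iff.1 hg _ ⟨h, rfl⟩
    simp only [MonoidHom.comp_apply, QuotientGroup.mk'_apply, ← QuotientGroup.mk_mul] at e1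
    obtain ⟨c, -, hc⟩ := Matrix.SpecialLinearGroup.mem_center_iff.1 (QuotientGroup.eq.1 e1)
    refine ⟨c, R.injective ?_⟩
    rw [map_mul R, AlgEquiv.apply_symm_apply, map_smul, map_mul R, AlgEquiv.apply_symm_apply, ← hM,
      ← Matrix.SpecialLinearGroup.coe_mul, ← Matrix.SpecialLinearGroup.coe_mul]
    conv_lhs => rw [show G * Φ h = (Φ h * G) * ((Φ h * G)⁻¹ * (G * Φ h)) from
      (mul_inv_cancel_left _ _).symm, Matrix.SpecialLinearGroup.coe_mul, ← hc]
    rw [Matrix.scalar_apply, ← Matrix.smul_one_eq_diagonal, Matrix.mul_smul, Matrix.mul_one]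
  have hone : Multiplicative.toAdd (Multiplicative.ofAdd (1 : ZMod 2)) ≠ 0 := by decide
  obtain ⟨c, hc⟩ := hcomm (SemidirectProduct.inr (Multiplicative.ofAdd 1)) inv2 (by
    rw [SemidirectProduct.lift_inr]
    simp [Z, z, hone])
  obtain ⟨a, ha⟩ := scalar_of_comm hp (by omega : 0 < k) (G := R.symm (G : Matrix _ _ (ZMod p))) (by
      have hu : IsUnit (G : Matrix (Fin (k + (k + 1))) (Fin (k + (k + 1))) (ZMod p)) := by
        rw [Matrix.isUnit_iff_isUnit_det, G.det_coe]; exact isUnit_one
      exact hu.map R.symm) hc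
    (fun v => hcomm (SemidirectProduct.inl (Multiplicative.ofAdd v)) (uni v) (by
      rw [SemidirectProduct.lift_inl]; rfl))
  rw [Subgroup.mem_bot, QuotientGroup.eq_one_iff, Matrix.SpecialLinearGroup.mem_center_iff]
  have hGa : (G : Matrix (Fin (k + (k + 1))) (Fin (k + (k + 1))) (ZMod p)) = a • 1 := by
    rw [← AlgEquiv.apply_symm_apply R (G : Matrix _ _ (ZMod p)), ha, map_smul, map_one]
  refine ⟨a, ?_, by rw [Matrix.scalar_apply, hGa, Matrix.smul_one_eq_diagonal]⟩
  have := G.det_coe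
  rwa [hGa, Matrix.det_smul, Matrix.det_one, mul_one] at this

end Cfsg.Agent.S2533
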