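import Cfsg.Statements.S2534
import Cfsg.Agent.Lib.AltHall.Hall

set_option autoImplicit false
open Cfsg

namespace Cfsg.Agent.S2534

open Cfsg.Agent.AltHall Equiv

theorem prime_dvd_alt {n r : ℕ} (hn : 5 ≤ n) (hr : r.Prime) :
    r ∣ Nat.card ↥(alternatingGroup (Fin n)) ↔ r ≤ n := by
  have h := card_alt_mul (α := Fin n) (by simp; omega)
  rw [Fintype.card_fin] at h
  refine ⟨fun hd => hr.dvd_factorial.1 (h ▸ hd.mul_left 2), fun hle => ?_⟩
  by_cases h2 : r = 2
  · subst h2
    have h4 : 4 ∣ n.factorial := (by decide : 4 ∣ Nat.factorial 4).trans (Nat.factorial_dvd_factorial (by omega))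
    omega
  · have hd := hr.dvd_factorial.2 hle
    rw [← h] at hd
    exact (hr.dvd_mul.1 hd).resolve_left fun h => h2 ((Nat.prime_dvd_prime_iff_eq hr Nat.prime_two).1 h)

/-- The pairs out of four points. -/
abbrev Pairs := {s : Finset (Fin 4) // s.card = 2}

/-- The action of `S₄` on the six pairs. -/
def pairHom : Perm (Fin 4) →* Perm Pairs where
  toFun g := (Equiv.finsetCongr g).subtypeEquiv (fun s => by simp)
  map_one' := by ext ⟨s, hs⟩; simp [Equiv.Perm.one_def]
  map_mul' g h := by ext ⟨s, hs⟩; simp [Equiv.Perm.mul_def]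

theorem pair_gens : (swap (0 : Fin 4) 1 * swap 1 2) ^ 3 = 1 ∧ (swap (1 : Fin 4) 2 * swap 2 3) ^ 3 = 1 := by
  decide

theorem pair_connected : ∀ S : Finset Pairs,
    (∀ p ∈ S, pairHom (swap 0 1 * swap 1 2) p ∈ S) → (∀ p ∈ S, pairHom (swap 1 2 * swap 2 3) p ∈ S) →
      S.card = 0 ∨ S.card = 6 := by
  decide +kernel

theorem pres_of_cube {n : ℕ} {Y : Finset (Fin n)} {g : Perm (Fin n)} (h3 : g ^ 3 = 1) (hg : g ∈ pStab Y) (a : Fin n) :
    g a ∈ Y ↔ a ∈ Y := by
  have hsq : ∀ a, g (g a) ∈ Y ↔ a ∈ Y := fun a => by have := hg a (g a); tauto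
  have h : g a = g (g (g (g a))) := by
    have h4 : g ^ 4 = g := by rw [pow_succ, h3, one_mul]
    conv_lhs => rw [← h4]
    rfl
  rw [h, hsq, hsq]

theorem card_pairs : Fintype.card Pairs = 6 := by decide +kernel

theorem exists_bad {n : ℕ} {π : Set ℕ} {X : Finset (Fin n)} (hX : Shape π X) :
    ∃ K : Subgroup (Perm (Fin n)), K ≤ alternatingGroup (Fin n) ∧
      (∀ p, p.Prime → p ∣ Nat.card K → p ∈ π) ∧
      ∀ Y : Finset (Fin n), Y.card = X.card → ∃ g ∈ K, g ∉ pStab Y := by
  classical
  rcases hX with ⟨hn, h5, hc, hπ⟩ | ⟨h78, hc, hπ⟩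
  · rw [Fintype.card_fin] at hn h5 hc hπ
    let z : Fin 3 ↪ Fin n := Fin.castLEEmb (by omega)
    let T : Finset (Fin n) := Finset.univ.map z
    let f : Fin n → Bool := fun x => decide (x ∈ T)
    refine ⟨fibStab f ⊓ alternatingGroup (Fin n), inf_le_right, fun p hp hd => ?_, fun Y hY => ?_⟩
    · have h := hd.trans (Subgroup.card_dvd_of_le inf_le_left)
      have hT : T.card = 3 := by simp [T]
      rw [card_fibStab, Fintype.prod_bool,
        show (Finset.univ.filter fun a => f a = true) = T by ext; simp [f],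
        show (Finset.univ.filter fun a => f a = false) = Tᶜ by ext; simp [f], Finset.card_compl, hT,
        Fintype.card_fin] at h
      have hlt : p < n := by
        rcases hp.dvd_mul.1 h with h | h <;> have := hp.dvd_factorial.1 h <;> omega
      exact (hπ p hp hlt.le).2 hlt
    · obtain ⟨o, ho⟩ := Finset.card_eq_one.1 (show Yᶜ.card = 1 by rw [Finset.card_compl, Fintype.card_fin]; omega)
      have hoY : ∀ x, x ∈ Y ↔ x ≠ o := fun x => by
        have := Finset.ext_iff.1 ho x; simp at this; tauto
      obtain ⟨g, hg, hgo⟩ : ∃ g ∈ fibStab f ⊓ alternatingGroup (Fin n), g o ≠ o := by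
        by_cases hoT : o ∈ T
        · let g : Perm (Fin n) := tri (z 0) (z 1) (z 2)
          have hne : ∀ i j : Fin 3, i ≠ j → z i ≠ z j := fun i j h e => h (z.injective e)
          obtain ⟨t1, t2, t3⟩ := tri_apply (hne 0 1 (by decide)) (hne 0 2 (by decide)) (hne 1 2 (by decide))
          refine ⟨g, Subgroup.mem_inf.2 ⟨?_, ?_⟩, ?_⟩
          · rw [mem_fibStab]; funext x
            by_cases hx : x ∈ T
            · obtain ⟨i, -, rfl⟩ := Finset.mem_map.1 hx
              fin_cases i <;> simp [f, T, g, t1, t2, t3]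
            · have hh : ∀ i, x ≠ z i := fun i h => hx (h ▸ Finset.mem_map.2 ⟨i, Finset.mem_univ _, rfl⟩)
              simp [g, tri_of_ne (hh 0) (hh 1) (hh 2)]
          · simp [g, tri, Perm.mem_alternatingGroup, Perm.sign_swap (hne 0 1 (by decide)), Perm.sign_swap (hne 1 2 (by decide))]
          · obtain ⟨i, -, rfl⟩ := Finset.mem_map.1 hoT
            fin_cases i <;> simp [g, t1, t2, t3]
        · obtain ⟨o', ho'⟩ : ∃ o', o' ∈ (insert o T)ᶜ := Finset.card_pos.1 (by
            rw [Finset.card_compl, Finset.card_insert_of_notMem hoT, Fintype.card_fin]; simp [T]; omega)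
          simp only [Finset.mem_compl, Finset.mem_insert, not_or] at ho'
          have h01 : z 0 ≠ z 1 := fun e => absurd (z.injective e) (by decide)
          have hz : ∀ i, z i ∈ T := fun i => Finset.mem_map.2 ⟨i, Finset.mem_univ _, rfl⟩
          refine ⟨swap (z 0) (z 1) * swap o o', Subgroup.mem_inf.2 ⟨?_, ?_⟩, ?_⟩
          · rw [mem_fibStab]; funext x
            refine decide_eq_decide.2 ?_
            rw [Perm.mul_apply, swap_apply_def o o' x]
            split_ifs with h1 h2
            · subst h1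
              rw [swap_apply_of_ne_of_ne (fun h => ho'.2 (by rw [h]; exact hz 0)) (fun h => ho'.2 (by rw [h]; exact hz 1))]
              exact iff_of_false ho'.2 hoT
            · subst h2
              rw [swap_apply_of_ne_of_ne (fun h => hoT (by rw [h]; exact hz 0)) (fun h => hoT (by rw [h]; exact hz 1))]
              exact iff_of_false hoT ho'.2
            · rw [swap_apply_def]
              split_ifs with h3 h4
              · subst h3; exact iff_of_true (hz 1) (hz 0)
              · subst h4; exact iff_of_true (hz 0) (hz 1)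
              · rfl
          · simp [Perm.mem_alternatingGroup, Perm.sign_swap h01, Perm.sign_swap (Ne.symm ho'.1)]
          · rw [Perm.mul_apply, swap_apply_left,
              swap_apply_of_ne_of_ne (fun h => ho'.2 (by rw [h]; exact hz 0)) (fun h => ho'.2 (by rw [h]; exact hz 1))]
            exact ho'.1
      refine ⟨g, hg, fun hmem => ?_⟩
      obtain ⟨b, hb⟩ : ∃ b, b ∈ ({o, g⁻¹ o} : Finset (Fin n))ᶜ := Finset.card_pos.1 (by
        have h2 : ({o, g⁻¹ o} : Finset (Fin n)).card ≤ 2 := Finset.card_le_two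
        rw [Finset.card_compl, Fintype.card_fin]; omega)
      simp only [Finset.mem_compl, Finset.mem_insert, Finset.mem_singleton, not_or] at hb
      have h1 := hmem o b
      simp only [hoY] at h1
      have h2 : g b ≠ o := fun h => hb.2 (by rw [← h]; simp)
      tauto
  · rw [Fintype.card_fin] at h78 hπ
    obtain ⟨ι⟩ : Nonempty (Pairs ↪ Fin n) := Function.Embedding.nonempty_of_card_le (by rw [card_pairs, Fintype.card_fin]; omega)
    let φ : Perm (Fin 4) →* Perm (Fin n) := (Perm.viaEmbeddingHom ι).comp pairHom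
    refine ⟨φ.range ⊓ alternatingGroup (Fin n), inf_le_right, fun p hp hd => ?_, fun Y hY => ?_⟩
    · have h := (hd.trans (Subgroup.card_dvd_of_le inf_le_left)).trans (Subgroup.card_range_dvd φ)
      rw [Nat.card_perm, Nat.card_fin] at h
      have hle := hp.dvd_factorial.1 h
      have := hp.two_le
      have : p ≠ 4 := by rintro rfl; norm_num at hp
      exact (hπ p hp (by omega)).2 (by omega)
    · have hmemA : ∀ c : Perm (Fin 4), c ^ 3 = 1 → φ c ∈ φ.range ⊓ alternatingGroup (Fin n) := by
        intro c hc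
        refine Subgroup.mem_inf.2 ⟨⟨c, rfl⟩, ?_⟩
        have h1 : Perm.sign (φ c) ^ 3 = 1 := by rw [← map_pow, ← map_pow, hc, map_one, map_one]
        rw [Perm.mem_alternatingGroup]
        rcases Int.units_eq_one_or (Perm.sign (φ c)) with hs | hs
        · exact hs
        · rw [hs] at h1; exact absurd h1 (by decide)
      by_contra hcon
      push Not at hcon
      have hinv : ∀ c : Perm (Fin 4), c ^ 3 = 1 → ∀ q, decide (ι (pairHom c q) ∈ Y) = decide (ι q ∈ Y) := by
        intro c hc q
        have h := pres_of_cube (g := φ c) (by rw [← map_pow, hc, map_one]) (hcon _ (hmemA c hc)) (ι q)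
        rw [show φ c (ι q) = ι (pairHom c q) from Perm.viaEmbedding_apply _ ι q] at h
        exact decide_eq_decide.2 h
      have hconst : ∀ q q', (ι q ∈ Y ↔ ι q' ∈ Y) := by
        let S : Finset Pairs := Finset.univ.filter fun q => ι q ∈ Y
        have hS : ∀ c : Perm (Fin 4), c ^ 3 = 1 → ∀ q ∈ S, pairHom c q ∈ S := fun c hc q hq => by
          simp only [S, Finset.mem_filter, Finset.mem_univ, true_and] at hq ⊢
          exact (decide_eq_decide.1 (hinv c hc q)).2 hq
        intro q q'
        rcases pair_connected S (hS _ pair_gens.1) (hS _ pair_gens.2) with h | h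
        · have h' := Finset.card_eq_zero.1 h
          have e : ∀ x, ι x ∉ Y := fun x hx => by
            have : x ∈ S := by simp [S, hx]
            simp [h'] at this
          simp [e]
        · have h' := Finset.eq_univ_of_card S (by rw [h, card_pairs])
          have e : ∀ x, ι x ∈ Y := fun x => by
            have : x ∈ S := by rw [h']; exact Finset.mem_univ _
            simpa [S] using this
          simp [e]
      have h6 : (Finset.univ.map ι).card = 6 := by rw [Finset.card_map, Finset.card_univ, card_pairs]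
      rw [hc] at hY
      by_cases hq : ∃ q, ι q ∈ Y
      · obtain ⟨q, hq⟩ := hq
        have := Finset.card_le_card (show Finset.univ.map ι ⊆ Y from fun y hy => by
          obtain ⟨q', -, rfl⟩ := Finset.mem_map.1 hy
          exact (hconst q q').1 hq)
        omega
      · push Not at hq
        have := Finset.card_le_card (show Finset.univ.map ι ⊆ Yᶜ from fun y hy => by
          obtain ⟨q', -, rfl⟩ := Finset.mem_map.1 hy
          exact Finset.mem_compl.2 (hq q'))
        rw [Finset.card_compl, Fintype.card_fin] at this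
        omega


/-- For `n ≥ 5` and a set of primes `π`, the alternating group of degree `n` satisfies the full Sylow analogue for `π` (its maximal `π`-subgroups are pairwise conjugate; for a finite group this says Hall `π`-subgroups exist, are all conjugate, and contain every `π`-subgroup up to conjugacy) if and only if either at most one prime of `π` divides its order or every prime dividing its order lies in `π`. -/
theorem result (n : ℕ) (hn : 5 ≤ n) (π : Set ℕ) :
    Cfsg.IsDPiGroup π ↥(alternatingGroup (Fin n)) ↔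
      ((∀ r s : ℕ, r.Prime → s.Prime → r ∈ π → s ∈ π → r ∣ Nat.card ↥(alternatingGroup (Fin n)) → s ∣ Nat.card ↥(alternatingGroup (Fin n)) → r = s) ∨
        ∀ r : ℕ, r.Prime → r ∣ Nat.card ↥(alternatingGroup (Fin n)) → r ∈ π) := by
  classical
  set A := alternatingGroup (Fin n)
  constructor
  · intro hD
    by_contra hcon
    rw [not_or] at hcon
    have hmax : ∀ K : Subgroup A, Cfsg.IsPiSubgroup π K → ∃ H, K ≤ H ∧ Maximal (Cfsg.IsPiSubgroup π) H := fun K hK =>
      Finite.exists_le_maximal hK
    obtain ⟨M, -, hM⟩ := hmax ⊥ (fun p hp h => absurd (by simpa using h) hp.ne_one)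
    have hinto : ∀ K : Subgroup A, Cfsg.IsPiSubgroup π K → ∃ g : A, K.map (MulAut.conj g).toMonoidHom ≤ M := by
      intro K hK
      obtain ⟨H, hKH, hH⟩ := hmax K hK
      obtain ⟨g, rfl⟩ := hD H M hH hM
      exact ⟨g, Subgroup.map_mono hKH⟩
    have hHall : Cfsg.IsPiHall π M := by
      refine ⟨hM.1, fun p hp hpπ => ?_⟩
      haveI := Fact.mk hp
      obtain ⟨P⟩ := (inferInstance : Nonempty (Sylow p A))
      obtain ⟨g, hg⟩ := hinto P (fun q hq h => by
        rw [P.card_eq_multiplicity] at h
        rw [(Nat.prime_dvd_prime_iff_eq hq hp).1 (hq.dvd_of_dvd_pow h)]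
        exact hpπ)
      intro hd
      exact P.not_dvd_index ((hd.trans (Subgroup.index_dvd_of_le hg)).trans
        (by rw [Subgroup.index_map_of_bijective (MulAut.conj g).bijective]))
    rcases (isPiHall_alt_iff.1 hHall).trichotomy with hf | ha | ⟨X, hX, hMX, -⟩
    · simp only [Few, Fintype.card_fin] at hf
      exact hcon.1 fun r s hr hs hrπ hsπ h1 h2 =>
        hf r s hr hs hrπ hsπ ((prime_dvd_alt hn hr).1 h1) ((prime_dvd_alt hn hs).1 h2)
    · simp only [All, Fintype.card_fin] at ha
      exact hcon.2 fun r hr h => ha r hr ((prime_dvd_alt hn hr).1 h)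
    · obtain ⟨K, hKA, hKπ, hbad⟩ := exists_bad hX
      obtain ⟨g, hg⟩ := hinto (K.subgroupOf A) (fun p hp h => hKπ p hp (by
        rwa [Nat.card_congr (Subgroup.subgroupOfEquivOfLe hKA).toEquiv] at h))
      let Y : Finset (Fin n) := X.map ((g : Equiv.Perm (Fin n))⁻¹).toEmbedding
      have hY : ∀ x, x ∈ Y ↔ (g : Equiv.Perm (Fin n)) x ∈ X := fun x => by
        simp [Y, Finset.mem_map_equiv, Equiv.Perm.inv_def]
      obtain ⟨k, hk, hkY⟩ := hbad Y (by simp [Y])
      apply hkY
      have h1 : ((g * ⟨k, hKA hk⟩ * g⁻¹ : A) : Equiv.Perm (Fin n)) ∈ M.map A.subtype :=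
        ⟨_, hg ⟨⟨k, hKA hk⟩, hk, rfl⟩, rfl⟩
      rw [hMX] at h1
      intro a b
      have := (Subgroup.mem_inf.1 h1).1 ((g : Equiv.Perm (Fin n)) a) ((g : Equiv.Perm (Fin n)) b)
      simpa [hY] using this
  · intro h
    rcases h with h | h
    · intro H K hH hK
      by_cases h0 : ∃ r, r.Prime ∧ r ∈ π ∧ r ∣ Nat.card A
      · obtain ⟨r, hr, hrπ, hrd⟩ := h0
        haveI := Fact.mk hr
        have e : ∀ L : Subgroup A, Maximal (Cfsg.IsPiSubgroup π) L → ∃ P : Sylow r A, (P : Subgroup A) = L := by
          intro L hL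
          have hp : IsPGroup r L := IsPGroup.of_card (Nat.eq_prime_pow_of_unique_prime_dvd Nat.card_pos.ne'
            fun {d} hd hdd => h d r hd hr (hL.1 d hd hdd) hrπ (hdd.trans (Subgroup.card_subgroup_dvd_card L)) hrd)
          obtain ⟨P, hP⟩ := hp.exists_le_sylow
          refine ⟨P, le_antisymm (hL.2 (fun q hq hqd => ?_) hP) hP⟩
          rw [P.card_eq_multiplicity] at hqd
          rw [(Nat.prime_dvd_prime_iff_eq hq hr).1 (hq.dvd_of_dvd_pow hqd)]
          exact hrπ
        obtain ⟨P, rfl⟩ := e H hH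
        obtain ⟨Q, rfl⟩ := e K hK
        obtain ⟨x, rfl⟩ := MulAction.exists_smul_eq A P Q
        exact ⟨x, rfl⟩
      · push Not at h0
        have e : ∀ L : Subgroup A, Cfsg.IsPiSubgroup π L → L = ⊥ := fun L hL => by
          rw [← Subgroup.card_eq_one]
          by_contra hne
          obtain ⟨p, hp, hd⟩ := Nat.exists_prime_and_dvd hne
          exact h0 p hp (hL p hp hd) (hd.trans (Subgroup.card_subgroup_dvd_card L))
        exact ⟨1, by rw [e H hH.1, e K hK.1, Subgroup.map_bot]⟩
    · intro H K hH hK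
      have e : ∀ L : Subgroup A, Maximal (Cfsg.IsPiSubgroup π) L → L = ⊤ := fun L hL =>
        top_le_iff.1 (hL.2 (fun p hp hd => h p hp (hd.trans (Subgroup.card_subgroup_dvd_card _))) le_top)
      refine ⟨1, ?_⟩
      rw [e H hH, e K hK]
      exact (Subgroup.map_top_of_surjective _ (MulAut.conj (1 : A)).surjective).symm

end Cfsg.Agent.S2534
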