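import Cfsg.Statements.S2535
import Cfsg.Agent.Lib.AltHall.Hall

set_option autoImplicit false
open Cfsg

namespace Cfsg.Agent.S2535

open Cfsg.Agent.AltHall


/-- For every `n` and every set of primes `π`, the following are equivalent for the symmetric group `S` of degree `n` and its alternating subgroup `A`: `S` has a Hall `π`-subgroup; `S` has a Hall `π`-subgroup and all of them are conjugate; `A` has a Hall `π`-subgroup; `A` has a Hall `π`-subgroup and all of them are conjugate. -/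
theorem result (n : ℕ) (π : Set ℕ) :
    (Cfsg.IsEPiGroup π (Equiv.Perm (Fin n)) ↔ Cfsg.IsCPiGroup π (Equiv.Perm (Fin n))) ∧
    (Cfsg.IsEPiGroup π (Equiv.Perm (Fin n)) ↔ Cfsg.IsEPiGroup π ↥(alternatingGroup (Fin n))) ∧
    (Cfsg.IsEPiGroup π ↥(alternatingGroup (Fin n)) ↔ Cfsg.IsCPiGroup π ↥(alternatingGroup (Fin n))) := by
  have hSA : Cfsg.IsEPiGroup π (Equiv.Perm (Fin n)) → Cfsg.IsEPiGroup π ↥(alternatingGroup (Fin n)) := by
    rintro ⟨M₀, h⟩
    refine ⟨M₀.subgroupOf _, ?_⟩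
    rw [isPiHall_alt_iff, Subgroup.subgroupOf_map_subtype]
    exact hallA_inter h
  have hAS : Cfsg.IsEPiGroup π ↥(alternatingGroup (Fin n)) → Cfsg.IsEPiGroup π (Equiv.Perm (Fin n)) := by
    rintro ⟨M, h⟩
    obtain ⟨M₀, h0, -⟩ := (isPiHall_alt_iff.1 h).extend
    exact ⟨M₀, h0⟩
  refine ⟨⟨fun h => ⟨h, fun H K hH hK => hall_conj hH hK⟩, fun h => h.1⟩, ⟨hSA, hAS⟩,
    ⟨fun h => ⟨h, fun H K hH hK => ?_⟩, fun h => h.1⟩⟩
  obtain ⟨g, hg, e⟩ := (isPiHall_alt_iff.1 hH).conj (isPiHall_alt_iff.1 hK)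
  refine ⟨⟨g, hg⟩, Subgroup.map_injective (alternatingGroup (Fin n)).subtype_injective ?_⟩
  rw [e, Subgroup.map_map, Subgroup.map_map]
  rfl

end Cfsg.Agent.S2535
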