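import Cfsg.Statements.S2536
import Cfsg.Agent.Lib.AltHall.Hall

set_option autoImplicit false
open Cfsg

namespace Cfsg.Agent.S2536

open Cfsg.Agent.AltHall


/-- Let `π` be a set of primes and `n` a natural number such that at least two primes of `π` divide `n!` but not every prime dividing `n!` lies in `π`. Then the symmetric group of degree `n` has a Hall `π`-subgroup if and only if either `n` is prime and the primes of `π` dividing `n!` are exactly the primes smaller than `n` (a point stabilizer is then such a subgroup), or `n ∈ {7, 8}` and the primes of `π` dividing `n!` are exactly 2 and 3. -/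
theorem result (n : ℕ) (π : Set ℕ)
    (h2 : ∃ r s : ℕ, r.Prime ∧ s.Prime ∧ r ≠ s ∧ r ∈ π ∧ s ∈ π ∧ r ≤ n ∧ s ≤ n)
    (hns : ∃ r : ℕ, r.Prime ∧ r ≤ n ∧ r ∉ π) :
    Cfsg.IsEPiGroup π (Equiv.Perm (Fin n)) ↔
      ((n.Prime ∧ ∀ r : ℕ, r.Prime → r ≤ n → (r ∈ π ↔ r < n)) ∨
       ((n = 7 ∨ n = 8) ∧ ∀ r : ℕ, r.Prime → r ≤ n → (r ∈ π ↔ (r = 2 ∨ r = 3)))) := by
  obtain ⟨r, s, hr, hs, hrs, hrπ, hsπ, hrn, hsn⟩ := h2
  obtain ⟨m, hm, hmn, hmπ⟩ := hns
  constructor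
  · rintro ⟨M₀, h⟩
    rcases (hallA_inter h).trichotomy with hf | ha | ⟨X, hX, -, -⟩
    · simp only [Few, Fintype.card_fin] at hf
      exact absurd (hf r s hr hs hrπ hsπ hrn hsn) hrs
    · simp only [All, Fintype.card_fin] at ha
      exact absurd (ha m hm hmn) hmπ
    · simp only [Shape, Fintype.card_fin] at hX
      rcases hX with ⟨hp, -, -, h⟩ | ⟨h78, -, h⟩
      · exact Or.inl ⟨hp, h⟩
      · exact Or.inr ⟨h78, h⟩
  · intro h
    have h5 : n.Prime → (∀ q : ℕ, q.Prime → q ≤ n → (q ∈ π ↔ q < n)) → 5 ≤ n := by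
      intro hp hc
      have := (hc r hr hrn).1 hrπ
      have := (hc s hs hsn).1 hsπ
      have := hr.two_le
      have := hs.two_le
      have : n ≠ 4 := by rintro rfl; norm_num at hp
      omega
    obtain ⟨k, hk, hk'⟩ : ∃ k, k ≤ n ∧ ((k = n - 1 ∧ n.Prime ∧ 5 ≤ n ∧ ∀ q : ℕ, q.Prime → q ≤ n → (q ∈ π ↔ q < n)) ∨
        (k = 4 ∧ (n = 7 ∨ n = 8) ∧ ∀ q : ℕ, q.Prime → q ≤ n → (q ∈ π ↔ (q = 2 ∨ q = 3)))) := by
      rcases h with ⟨hp, hc⟩ | ⟨h78, hc⟩
      · exact ⟨n - 1, by omega, Or.inl ⟨rfl, hp, h5 hp hc, hc⟩⟩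
      · exact ⟨4, by omega, Or.inr ⟨rfl, h78, hc⟩⟩
    obtain ⟨X, -, hX⟩ := Finset.exists_subset_card_eq (s := (Finset.univ : Finset (Fin n))) (n := k) (by simpa using hk)
    have hshape : Shape π X := by
      simp only [Shape, Fintype.card_fin, hX]
      rcases hk' with ⟨e, a, b, c⟩ | ⟨e, a, b⟩
      · exact Or.inl ⟨a, b, e, c⟩
      · exact Or.inr ⟨a, e, b⟩
    exact ⟨_, hshape.isPiHall⟩

end Cfsg.Agent.S2536
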