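import Cfsg.Statements.S2537
import Cfsg.Agent.Lib.Classical.DicksonMaxArith
import Cfsg.Agent.Lib.Classical.DihedralSub

set_option autoImplicit false
open Cfsg

namespace Cfsg.Agent.S2537

/-- Let `F` be a finite field with `q` elements of characteristic `p ≥ 5`, and `ε = 1` if `q ≡ 1 (mod 4)`, `ε = -1` otherwise. Then `PSL(2, F)` has a Hall `{2, 3}`-subgroup if and only if `3` divides `q − ε`, or the `{2,3}`-part of `q² − 1` is 24, or the `{2,3}`-part of `q² − 1` is 48 (the `{2,3}`-part of `m` being the largest divisor of `m` with no prime factor other than 2 and 3). -/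
theorem result {F : Type*} [Field F] [Fintype F] {p : ℕ} [Fact p.Prime] [CharP F p]
    (hp : 5 ≤ p) (q : ℕ) (hq : Fintype.card F = q) :
    (∃ H : Subgroup (Matrix.ProjectiveSpecialLinearGroup (Fin 2) F), Cfsg.IsPiHall ({2, 3} : Set ℕ) H) ↔
      (3 ∣ q - 1 ∧ q % 4 = 1) ∨ (3 ∣ q + 1 ∧ q % 4 = 3) ∨
        2 ^ (q ^ 2 - 1).factorization 2 * 3 ^ (q ^ 2 - 1).factorization 3 = 24 ∨
        2 ^ (q ^ 2 - 1).factorization 2 * 3 ^ (q ^ 2 - 1).factorization 3 = 48 := by
  classical
  set P := Matrix.ProjectiveSpecialLinearGroup (Fin 2) F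
  have hpp : p.Prime := Fact.out
  have hq' : Nat.card F = q := by rw [Nat.card_eq_fintype_card, hq]
  obtain ⟨n, -, hn⟩ := FiniteField.card F p
  rw [hq] at hn
  have hpodd : p % 2 = 1 := hpp.eq_two_or_odd.resolve_left (by omega)
  have hqodd : q % 2 = 1 := by rw [hn, Nat.pow_mod, hpodd, one_pow]; norm_num
  have hpq : p ∣ q := by rw [hn]; exact dvd_pow_self p n.ne_zero
  have hq5 : 5 ≤ q := le_trans hp (Nat.le_of_dvd (by omega) hpq)
  have hq3 : ¬ 3 ∣ q := fun h => by
    rw [hn] at h
    have := (Nat.prime_dvd_prime_iff_eq Nat.prime_three hpp).1 (Nat.prime_three.dvd_of_dvd_pow h)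
    omega
  have hq2 : ¬ 2 ∣ q := by omega
  have hz : Nat.card (Subgroup.center (Matrix.SpecialLinearGroup (Fin 2) F)) = 2 := by
    rw [Dickson.card_center, hq']
    exact Nat.gcd_eq_left (by omega)
  have h2P : 2 * Nat.card P = q * (q ^ 2 - 1) := hq' ▸ Dickson.two_mul_card_of_odd (by omega)
  set a := (q ^ 2 - 1).factorization 2 with ha
  set b := (q ^ 2 - 1).factorization 3 with hb
  have hsq : 1 < q ^ 2 := Nat.one_lt_pow (by norm_num) (by omega)
  have hne : q ^ 2 - 1 ≠ 0 := by omega
  have hprod : q ^ 2 - 1 = (q + 1) * (q - 1) := by simpa using Nat.sq_sub_sq q 1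
  have h8 : 2 ^ 3 ∣ q ^ 2 - 1 := by
    obtain ⟨t, ht⟩ : ∃ t, q = 2 * t + 1 := ⟨q / 2, by omega⟩
    obtain ⟨u, hu⟩ := even_iff_two_dvd.1 (Nat.even_mul_succ_self t)
    refine ⟨u, ?_⟩
    rw [ht, show (2 * t + 1) ^ 2 = 4 * (t * (t + 1)) + 1 by ring, hu, Nat.add_sub_cancel]
    ring
  have h3q : 3 ∣ q ^ 2 - 1 := by
    refine Nat.dvd_of_mod_eq_zero (Nat.sub_mod_eq_zero_of_mod_eq ?_)
    rw [Nat.pow_mod]
    rcases (show q % 3 = 1 ∨ q % 3 = 2 by omega) with h | h <;> rw [h]
  have ha3 : 3 ≤ a := (Nat.Prime.pow_dvd_iff_le_factorization Nat.prime_two hne).1 h8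
  have hb1 : 1 ≤ b := (Nat.Prime.pow_dvd_iff_le_factorization (k := 1) Nat.prime_three hne).1 (by simpa using h3q)
  have hP0 : Nat.card P ≠ 0 := Nat.card_pos.ne'
  have hfP : ∀ l, (if l = 2 then 1 else 0) + (Nat.card P).factorization l =
      q.factorization l + (q ^ 2 - 1).factorization l := fun l => by
    have h := congrArg (fun x => x.factorization l) h2P
    simp only [Nat.factorization_mul two_ne_zero hP0, Nat.factorization_mul (show q ≠ 0 by omega) hne,
      Finsupp.add_apply, Nat.prime_two.factorization, Finsupp.single_apply] at h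
    rw [← h]
    congr 1
    simp [eq_comm]
  have hf2 : (Nat.card P).factorization 2 = a - 1 := by
    have h := hfP 2
    rw [Nat.factorization_eq_zero_of_not_dvd hq2] at h
    simp [-Nat.card_eq_fintype_card] at h
    omega
  have hf3 : (Nat.card P).factorization 3 = b := by
    have h := hfP 3
    rw [Nat.factorization_eq_zero_of_not_dvd hq3] at h
    simp [-Nat.card_eq_fintype_card] at h
    omega
  set N := 2 ^ (a - 1) * 3 ^ b with hN
  have hN0 : N ≠ 0 := by positivity
  have hfN : ∀ l, N.factorization l = (if l = 2 then a - 1 else 0) + (if l = 3 then b else 0) := fun l => by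
    rw [hN, Nat.factorization_mul (by positivity) (by positivity), Finsupp.add_apply,
      Nat.prime_two.factorization_pow, Nat.prime_three.factorization_pow, Finsupp.single_apply, Finsupp.single_apply]
    simp [eq_comm]
  have hall_iff : ∀ H : Subgroup P, Cfsg.IsPiHall ({2, 3} : Set ℕ) H ↔ Nat.card H = N := by
    intro H
    have hH0 : Nat.card H ≠ 0 := Nat.card_pos.ne'
    have hI0 : H.index ≠ 0 := Subgroup.index_ne_zero_of_finite
    have hsum : ∀ l, (Nat.card H).factorization l + H.index.factorization l = (Nat.card P).factorization l :=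
      fun l => by rw [← H.card_mul_index, Nat.factorization_mul hH0 hI0, Finsupp.add_apply]
    constructor
    · rintro ⟨h1, h2⟩
      refine Nat.eq_of_factorization_eq hH0 hN0 fun l => ?_
      rw [hfN]
      rcases eq_or_ne l 2 with rfl | hl2
      · have := Nat.factorization_eq_zero_of_not_dvd (h2 2 Nat.prime_two (by simp))
        have := hsum 2
        simp [-Nat.card_eq_fintype_card]
        omega
      rcases eq_or_ne l 3 with rfl | hl3
      · have := Nat.factorization_eq_zero_of_not_dvd (h2 3 Nat.prime_three (by simp))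
        have := hsum 3
        simp [-Nat.card_eq_fintype_card]
        omega
      simp [-Nat.card_eq_fintype_card, hl2, hl3]
      by_contra hne'
      have hlp : l.Prime := Nat.prime_of_mem_primeFactors (Nat.support_factorization (Nat.card H) ▸ Finsupp.mem_support_iff.2 (by simpa using hne'))
      have hdvd : l ∣ Nat.card H := Nat.dvd_of_factorization_pos (by simpa using hne')
      rcases h1 l hlp hdvd with h | h
      · exact hl2 h
      · exact hl3 h
    · intro h
      refine ⟨fun l hl hd => ?_, fun l hl hlm hd => ?_⟩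
      · rw [h, hN] at hd
        rcases hl.dvd_mul.1 hd with h' | h'
        · exact Or.inl ((Nat.prime_dvd_prime_iff_eq hl Nat.prime_two).1 (hl.dvd_of_dvd_pow h'))
        · exact Or.inr ((Nat.prime_dvd_prime_iff_eq hl Nat.prime_three).1 (hl.dvd_of_dvd_pow h'))
      · have hpos := hl.factorization_pos_of_dvd hI0 hd
        have hs := hsum l
        rw [h, hfN] at hs
        rcases hlm with rfl | h'
        · simp [-Nat.card_eq_fintype_card] at hs; omega
        · rw [Set.mem_singleton_iff] at h'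
          subst h'
          simp [-Nat.card_eq_fintype_card] at hs; omega
  have hN2 : 2 * N = 2 ^ a * 3 ^ b := by
    rw [hN, ← mul_assoc, ← pow_succ', Nat.sub_add_cancel (by omega)]
  have hNdvd : 2 * N ∣ q ^ 2 - 1 := by
    rw [hN2]
    exact Nat.Coprime.mul_dvd_of_dvd_of_dvd (Nat.Coprime.pow _ _ (by norm_num)) (Nat.ordProj_dvd _ 2)
      (Nat.ordProj_dvd _ 3)
  have h4N : 4 ∣ N := dvd_mul_of_dvd_left (pow_dvd_pow 2 (show 2 ≤ a - 1 by omega)) _
  have h3N : 3 ∣ N := dvd_mul_of_dvd_right (dvd_pow_self 3 (show b ≠ 0 by omega)) _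
  constructor
  · rintro ⟨H, hH⟩
    have hcH := (hall_iff H).1 hH
    have hpN : ¬ p ∣ Nat.card H := fun h => by
      rcases hH.1 p hpp h with h' | h'
      · omega
      · rw [Set.mem_singleton_iff] at h'; omega
    have hne' : H ≠ ⊤ := fun h => hpN (by
      rw [h, Subgroup.card_top]
      refine (Nat.Coprime.dvd_mul_left ((Nat.coprime_primes hpp Nat.prime_two).2 (by omega))).1 ?_
      rw [h2P]
      exact dvd_mul_of_dvd_left hpq _)
    have hconc : ∀ k, 2 * k ∣ q + 1 ∨ 2 * k ∣ q - 1 → N ∣ 2 * k →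
        (3 ∣ q - 1 ∧ q % 4 = 1) ∨ (3 ∣ q + 1 ∧ q % 4 = 3) := by
      rintro k (hk | hk) hd
      · have := h4N.trans (hd.trans hk)
        exact Or.inr ⟨h3N.trans (hd.trans hk), by omega⟩
      · have := h4N.trans (hd.trans hk)
        exact Or.inl ⟨h3N.trans (hd.trans hk), by omega⟩
    rcases Dickson.classify_proper p hne' with ⟨k, hk, hc⟩ | ⟨S, hS⟩ | ⟨⟨e⟩⟩ | ⟨⟨e⟩⟩ | ⟨⟨e⟩⟩ | ⟨K, _, _, m, hm2, hm, hc⟩
    · rw [hz, hq'] at hk
      have hd : N ∣ 2 * k := by
        rw [← hcH]
        rcases hc with ⟨-, hc⟩ | ⟨⟨e⟩⟩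
        · exact ⟨2, by rw [hc, mul_comm]⟩
        · rw [Nat.card_congr e.toEquiv, DihedralGroup.nat_card]
      exact (hconc k hk hd).imp id Or.inl
    · exfalso
      have hd := Subgroup.card_dvd_of_le hS
      have hS' := Dickson.card_normalizer_sylow p S
      rw [hz, hq'] at hS'
      rw [hcH] at hd
      have h2a : 2 ^ a ∣ q * (q - 1) := by
        refine dvd_trans ⟨3 ^ b, ?_⟩ (hS' ▸ Nat.mul_dvd_mul_left 2 hd)
        rw [hN2]
      have hco : Nat.Coprime (2 ^ a) q := Nat.Coprime.pow_left _ (Nat.prime_two.coprime_iff_not_dvd.2 hq2)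
      have h1 := hco.dvd_of_dvd_mul_left h2a
      have h2 : 2 ^ (a + 1) ∣ q ^ 2 - 1 := by
        rw [hprod, pow_succ']
        exact Nat.mul_dvd_mul (by omega) h1
      have := (Nat.Prime.pow_dvd_iff_le_factorization Nat.prime_two hne).1 h2
      omega
    · right; right; left
      rw [← hN2, ← hcH, Nat.card_congr e.toEquiv, Dickson.card_a4]
    · right; right; right
      rw [← hN2, ← hcH, Nat.card_congr e.toEquiv, Dickson.card_s4]
    · exfalso
      have h5 : 5 ∣ Nat.card H := by rw [Nat.card_congr e.toEquiv, Dickson.card_a5]; norm_num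
      rcases hH.1 5 Nat.prime_five h5 with h | h <;> simp [-Nat.card_eq_fintype_card] at h
    · exfalso
      have hpK : p ∣ Nat.card K := by
        rw [Nat.card_eq_fintype_card]
        exact hpp.dvd_of_dvd_pow (n := m) (by rw [hm, hq']; exact hpq)
      refine hpN ?_
      rcases hc with ⟨⟨e⟩⟩ | ⟨⟨e⟩⟩
      · rw [Nat.card_congr e.toEquiv]
        have h := Dickson.gcd_mul_card_psl (K := K)
        have hd : p ∣ Nat.gcd 2 (Nat.card K - 1) * Nat.card (Matrix.ProjectiveSpecialLinearGroup (Fin 2) K) :=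
          h ▸ dvd_mul_of_dvd_left hpK _
        refine ((Nat.Prime.dvd_mul hpp).1 hd).resolve_left fun h' => ?_
        have := Nat.le_of_dvd two_pos (h'.trans (Nat.gcd_dvd_left _ _))
        omega
      · rw [Nat.card_congr e.toEquiv, Dickson.card_pgl2]
        exact dvd_mul_of_dvd_left hpK _
  · intro h
    suffices hsuff : ∃ H : Subgroup P, Nat.card H = N from hsuff.imp fun H hH => (hall_iff H).2 hH
    have hfac : ∀ a' b' : ℕ, 2 ^ a * 3 ^ b = 2 ^ a' * 3 ^ b' → a = a' := fun a' b' he => by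
      have := congrArg (fun x => x.factorization 2) he
      simp [Nat.factorization_mul, Nat.prime_two.factorization_pow, Nat.prime_three.factorization_pow] at this
      exact this
    have hdih : ∀ (x y : ℕ), x * y = q ^ 2 - 1 → 3 ∣ x → 4 ∣ x → ¬ 3 ∣ y → ¬ 4 ∣ y → 2 ∣ y →
        (∃ D : Subgroup P, Nonempty (D ≃* DihedralGroup (x / 2))) → ∃ H : Subgroup P, Nat.card H = N := by
      intro x y hxy h3 h4 hy3 hy4 hy2 hD
      obtain ⟨D, ⟨e⟩⟩ := hD
      obtain ⟨y', hy'⟩ := hy2
      have hx : N ∣ x := by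
        have hco : Nat.Coprime N y' := by
          refine Nat.Coprime.mul_left (Nat.Coprime.pow_left _ ?_) (Nat.Coprime.pow_left _ ?_)
          · exact Nat.prime_two.coprime_iff_not_dvd.2 fun h => hy4 (by omega)
          · exact Nat.prime_three.coprime_iff_not_dvd.2 fun h => hy3 (by omega)
        refine hco.dvd_of_dvd_mul_right (Nat.dvd_of_mul_dvd_mul_left two_pos ?_)
        rw [show 2 * (x * y') = x * y by rw [hy']; ring, hxy]
        exact hNdvd
      obtain ⟨m, hm⟩ : 2 ∣ N := dvd_trans (by norm_num) h4N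
      obtain ⟨c, hc⟩ : m ∣ x / 2 := by
        refine Nat.dvd_div_of_mul_dvd ?_
        rw [← hm]; exact hx
      obtain ⟨φ, hφ⟩ := DihedralSub.exists_hom (m := m) (h := x / 2) (c := c) hc (by omega) (Nat.div_pos (Nat.le_trans (by norm_num) (Nat.le_of_dvd (Nat.pos_of_ne_zero fun h0 => by rw [h0, zero_mul] at hxy; exact hne hxy.symm) h4)) two_pos)
      refine ⟨(D.subtype.comp (e.symm.toMonoidHom.comp φ)).range, ?_⟩
      rw [← Nat.card_congr (MonoidHom.ofInjective (f := D.subtype.comp (e.symm.toMonoidHom.comp φ))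
        (Subtype.val_injective.comp (e.symm.injective.comp hφ))).toEquiv, DihedralGroup.nat_card, hm]
    rcases h with ⟨h3, h4⟩ | ⟨h3, h4⟩ | h | h
    · refine hdih (q - 1) (q + 1) (by rw [hprod, mul_comm]) h3 (by omega) (by omega) (by omega) (by omega) ?_
      obtain ⟨D, e, -⟩ := Dickson.exists_dihedral_minus (F := F) (by omega)
      rw [hz, hq'] at e
      exact ⟨D, e⟩
    · refine hdih (q + 1) (q - 1) hprod.symm h3 (by omega) (by omega) (by omega) (by omega) ?_
      obtain ⟨D, e, -⟩ := Dickson.exists_dihedral_plus (F := F)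
      rw [hz, hq'] at e
      exact ⟨D, e⟩
    · obtain ⟨H, ⟨e⟩⟩ := (S0802.result p n (hq.trans hn)).2 (by omega : ¬ (p = 2 ∧ _))
      exact ⟨H, by rw [Nat.card_congr e.toEquiv, Dickson.card_a4]; omega⟩
    · have ha4 := hfac 4 1 (by rw [h]; norm_num)
      have h16 : 2 ^ 4 ∣ q ^ 2 - 1 := (Nat.Prime.pow_dvd_iff_le_factorization Nat.prime_two hne).2 ha4.ge
      obtain ⟨H, ⟨e⟩⟩ := (S0803.result (F := F) hq).2 (by
        obtain ⟨t, ht⟩ := h16
        rw [show q ^ 2 = 16 * t + 1 by omega, Nat.mul_add_mod])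
      exact ⟨H, by rw [Nat.card_congr e.toEquiv, Dickson.card_s4]; omega⟩

end Cfsg.Agent.S2537
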