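import Cfsg.Statements.S2540
import Cfsg.Agent.Lib.Classical.SL
import Mathlib.LinearAlgebra.Matrix.ProjectiveSpecialLinearGroup

set_option autoImplicit false
open Cfsg
open scoped commutatorElement


namespace Cfsg.Agent.S2540

/-- Let F be a finite field and n ≥ 1, excluding the case n = 2 with #F ≤ 3. A subgroup of GL_n(F) that is normalized by every element of SL_n(F) either consists of scalar matrices or contains SL_n(F). -/
theorem result {F : Type*} [Field F] [Fintype F] (n : ℕ) (hn : 1 ≤ n) (hex : ¬ (n = 2 ∧ Fintype.card F ≤ 3)) (G : Subgroup (Matrix.GeneralLinearGroup (Fin n) F)) (hG : ∀ s : Matrix.SpecialLinearGroup (Fin n) F, ∀ g ∈ G, (Matrix.SpecialLinearGroup.toGL s) * g * (Matrix.SpecialLinearGroup.toGL s)⁻¹ ∈ G) : (∀ g ∈ G, ∃ c : F, (g : Matrix (Fin n) (Fin n) F) = c • (1 : Matrix (Fin n) (Fin n) F)) ∨ (Matrix.SpecialLinearGroup.toGL : Matrix.SpecialLinearGroup (Fin n) F →* _).range ≤ G := by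
  classical
  let ι' : Matrix.SpecialLinearGroup (Fin n) F →* GL (Fin n) F := Matrix.SpecialLinearGroup.toGL
  rcases Nat.lt_or_ge n 2 with hn2 | hn2
  · obtain rfl : n = 1 := by omega
    left
    intro g _
    exact ⟨(g : Matrix (Fin 1) (Fin 1) F) 0 0, by ext i j; rw [Subsingleton.elim i 0, Subsingleton.elim j 0]; simp⟩
  haveI : Nontrivial (Fin n) := Fin.nontrivial_iff_two_le.2 hn2
  have h4 : n = 2 → 4 ≤ Fintype.card F := fun h => by
    by_contra hc
    exact hex ⟨h, by omega⟩
  have hperf : commutator (Matrix.SpecialLinearGroup (Fin n) F) = ⊤ := by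
    rcases Nat.lt_or_ge n 3 with h | h
    · obtain rfl : n = 2 := by omega
      obtain ⟨a, ha⟩ : ∃ a : F, a ∉ ({0, 1, -1} : Finset F) := by
        by_contra! hall
        have h1 := Finset.card_le_card (fun (a : F) (_ : a ∈ Finset.univ) => hall a)
        rw [Finset.card_univ] at h1
        have h2 : ({0, 1, -1} : Finset F).card ≤ 3 := Finset.card_le_three
        have h3 := h4 rfl
        omega
      simp only [Finset.mem_insert, Finset.mem_singleton, not_or] at ha
      obtain ⟨ha0, ha1, ha2⟩ := ha
      rw [eq_top_iff, ← ClassicalSL.closure_elemTransvections, Subgroup.closure_le]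
      rintro g ⟨i, j, hij, c, rfl⟩
      rw [SetLike.mem_coe, commutator_eq_closure]
      exact Subgroup.subset_closure (ClassicalSL.transvection_mem_commutatorSet_of_sq hij ha0
        (fun h => (sq_eq_one_iff.1 h).elim ha1 ha2) c)
    · exact ClassicalSL.isPerfect_sl (by simpa using h)
  haveI hsimple : IsSimpleGroup (Matrix.ProjectiveSpecialLinearGroup (Fin n) F) := by
    rcases Nat.lt_or_ge n 3 with h | h
    · obtain rfl : n = 2 := by omega
      have := h4 rfl
      exact Matrix.ProjectiveSpecialLinearGroup.rank_two_simple (by rw [Nat.card_eq_fintype_card]; omega)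
    · exact ClassicalSL.isSimpleGroup_psl (by simpa using h)
  let N : Subgroup (Matrix.SpecialLinearGroup (Fin n) F) := G.comap ι'
  haveI hN : N.Normal := ⟨fun x hx s => by
    show ι' (s * x * s⁻¹) ∈ G
    rw [map_mul, map_mul, map_inv]; exact hG s _ hx⟩
  have hdich : N ≤ Subgroup.center (Matrix.SpecialLinearGroup (Fin n) F) ∨ N = ⊤ := by
    set π := QuotientGroup.mk' (Subgroup.center (Matrix.SpecialLinearGroup (Fin n) F))
    haveI : (N.map π).Normal := hN.map π (QuotientGroup.mk'_surjective _)
    rcases IsSimpleGroup.eq_bot_or_eq_top_of_normal (G := Matrix.ProjectiveSpecialLinearGroup (Fin n) F) (N.map π)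
      (inferInstanceAs (N.map π).Normal) with h | h
    · left
      rwa [Subgroup.map_eq_bot_iff, QuotientGroup.ker_mk'] at h
    · right
      have hsup : N ⊔ Subgroup.center (Matrix.SpecialLinearGroup (Fin n) F) = ⊤ := by
        have := congrArg (Subgroup.comap π) h
        rwa [Subgroup.comap_map_eq, QuotientGroup.ker_mk', Subgroup.comap_top] at this
      rw [eq_top_iff, ← hperf, commutator_def, Subgroup.commutator_le]
      intro x _ y _
      obtain ⟨a, ha, z, hz, rfl⟩ := Subgroup.mem_sup_of_normal_left.1 (hsup ▸ Subgroup.mem_top x)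
      have e : ⁅a * z, y⁆ = a * (y * a⁻¹ * y⁻¹) := by
        rw [commutatorElement_def, mul_inv_rev, mul_assoc a z y, ← Subgroup.mem_center_iff.1 hz y]
        group
      rw [e]
      exact N.mul_mem ha (hN.conj_mem _ (N.inv_mem ha) y)
  rcases hdich with hc | htop
  · left
    intro g hg
    let γ : Matrix.SpecialLinearGroup (Fin n) F → Matrix.SpecialLinearGroup (Fin n) F := fun s =>
      ⟨((g * ι' s * g⁻¹ : GL (Fin n) F) : Matrix (Fin n) (Fin n) F), by
        rw [Units.val_mul, Units.val_mul, Matrix.det_units_conj]; exact s.2⟩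
    have hγ : ∀ s, ι' (γ s) = g * ι' s * g⁻¹ := fun s => Units.ext rfl
    clear_value γ
    have hinj : Function.Injective ι' := Matrix.SpecialLinearGroup.toGL_injective
    have hcen : ∀ s, γ s * s⁻¹ ∈ Subgroup.center (Matrix.SpecialLinearGroup (Fin n) F) := fun s => hc (by
      show ι' (γ s * s⁻¹) ∈ G
      rw [map_mul, map_inv, hγ, mul_assoc, mul_assoc, ← mul_assoc (ι' s) g⁻¹]
      exact G.mul_mem hg (hG s _ (G.inv_mem hg)))
    have hγ1 : γ 1 * 1⁻¹ = 1 := by
      have h1 : γ 1 = 1 := hinj (by rw [hγ 1, map_one ι', mul_one, mul_inv_cancel])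
      rw [h1, inv_one, mul_one]
    have hγmul : ∀ s t, γ (s * t) * (s * t)⁻¹ = γ s * s⁻¹ * (γ t * t⁻¹) := fun s t => by
      have hγm : γ (s * t) = γ s * γ t := hinj (by rw [hγ (s * t), map_mul ι' s t, map_mul ι' (γ s) (γ t), hγ s, hγ t]; group)
      rw [hγm, mul_inv_rev, mul_assoc (γ s) s⁻¹, Subgroup.mem_center_iff.1 (hcen t) s⁻¹]
      group
    let δ : Matrix.SpecialLinearGroup (Fin n) F →* Subgroup.center (Matrix.SpecialLinearGroup (Fin n) F) :=
      { toFun := fun s => ⟨γ s * s⁻¹, hcen s⟩
        map_one' := Subtype.ext hγ1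
        map_mul' := fun s t => Subtype.ext (hγmul s t) }
    have hδ : ∀ s, δ s = 1 := fun s => by
      have : commutator (Matrix.SpecialLinearGroup (Fin n) F) ≤ δ.ker := by
        rw [commutator_def, Subgroup.commutator_le]
        intro x _ y _
        rw [MonoidHom.mem_ker, map_commutatorElement, commutatorElement_eq_one_iff_commute]
        exact Subtype.ext (Subgroup.mem_center_iff.1 (δ y).2 (δ x : Matrix.SpecialLinearGroup (Fin n) F))
      rw [hperf] at this
      exact MonoidHom.mem_ker.1 (this (Subgroup.mem_top s))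
    have hcomm : ∀ s, g * ι' s = ι' s * g := fun s => by
      have h1 : γ s * s⁻¹ = 1 := congrArg Subtype.val (hδ s)
      have h2 := congrArg ι' h1
      rw [map_mul, map_inv, hγ, map_one, mul_inv_eq_one] at h2
      exact mul_inv_eq_iff_eq_mul.1 h2
    obtain ⟨c, hc'⟩ := Matrix.mem_range_scalar_of_commute_single (M := (g : Matrix (Fin n) (Fin n) F)) fun i j hij => by
      have h1 := congrArg Units.val (hcomm ⟨Matrix.transvection i j 1, Matrix.det_transvection_of_ne i j hij 1⟩)
      rw [Units.val_mul, Units.val_mul] at h1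
      change (g : Matrix (Fin n) (Fin n) F) * Matrix.transvection i j (1 : F) = Matrix.transvection i j (1 : F) * (g : Matrix (Fin n) (Fin n) F) at h1
      simp only [Matrix.transvection, mul_add, add_mul, mul_one, one_mul, add_right_inj] at h1
      exact h1.symm
    exact ⟨c, by rw [← hc', Matrix.scalar_apply, Matrix.smul_one_eq_diagonal]⟩
  · right
    rintro _ ⟨s, rfl⟩
    exact (htop ▸ Subgroup.mem_top s : s ∈ N)

end Cfsg.Agent.S2540

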