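import Cfsg.Statements.S2541
import Mathlib.LinearAlgebra.Matrix.GeneralLinearGroup.Projective
import Mathlib.RingTheory.IntegralDomain
import Mathlib.GroupTheory.Perm.Cycle.Type

set_option autoImplicit false
open Cfsg

namespace Cfsg.Agent.S2541

/-- Let F be a field with 9 elements. The symmetric group S_6 is not isomorphic to PGL_2(F) (although both have index-2 subgroups isomorphic to A_6). -/
theorem result {F : Type*} [Field F] [Fintype F] (hF : Fintype.card F = 9) : ¬ Nonempty (Equiv.Perm (Fin 6) ≃* Matrix.ProjGenLinGroup (Fin 2) F) := by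
  rintro ⟨e⟩
  classical
  obtain ⟨z, hz⟩ := IsCyclic.exists_ofOrder_eq_natCard (α := Fˣ)
  rw [Nat.card_eq_fintype_card, Fintype.card_units, hF] at hz
  let d : Fˣ →* Matrix.GeneralLinearGroup (Fin 2) F :=
    { toFun := fun u => ⟨Matrix.diagonal ![(u : F), 1], Matrix.diagonal ![((u⁻¹ : Fˣ) : F), 1],
          by ext i j; fin_cases i <;> fin_cases j <;> simp [Matrix.mul_apply, Fin.sum_univ_two],
          by ext i j; fin_cases i <;> fin_cases j <;> simp [Matrix.mul_apply, Fin.sum_univ_two]⟩
      map_one' := Units.ext (by ext i j; fin_cases i <;> fin_cases j <;> simp)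
      map_mul' := fun u v => Units.ext (by ext i j; fin_cases i <;> fin_cases j <;> simp [Matrix.mul_apply, Fin.sum_univ_two]) }
  have hinj : ∀ u, (Matrix.ProjGenLinGroup.mk (d u)) = 1 → u = 1 := by
    intro u hu
    have hc : d u ∈ Subgroup.center (Matrix.GeneralLinearGroup (Fin 2) F) :=
      (QuotientGroup.eq_one_iff _).1 hu
    let sw : Matrix.GeneralLinearGroup (Fin 2) F :=
      ⟨!![0, 1; 1, 0], !![0, 1; 1, 0],
        by ext i j; fin_cases i <;> fin_cases j <;> simp [Matrix.mul_apply, Fin.sum_univ_two],
        by ext i j; fin_cases i <;> fin_cases j <;> simp [Matrix.mul_apply, Fin.sum_univ_two]⟩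
    have h := congrArg (fun g : Matrix.GeneralLinearGroup (Fin 2) F => (g : Matrix (Fin 2) (Fin 2) F) 0 1)
      (Subgroup.mem_center_iff.1 hc sw)
    simp [d, sw, Matrix.mul_apply, Fin.sum_univ_two] at h
    exact Units.ext h.symm
  have hinj' : Function.Injective ((e.symm.toMonoidHom.comp Matrix.ProjGenLinGroup.mk).comp d) :=
    (injective_iff_map_eq_one _).2 fun u hu => hinj u (e.symm.injective (hu.trans (map_one _).symm))
  have hord : orderOf (((e.symm.toMonoidHom.comp Matrix.ProjGenLinGroup.mk).comp d) z) = 8 := by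
    rw [orderOf_injective _ hinj', hz]
  generalize ((e.symm.toMonoidHom.comp Matrix.ProjGenLinGroup.mk).comp d) z = s at hord
  have h8 : ∃ c ∈ s.cycleType, 8 ∣ c := by
    by_contra h
    push Not at h
    have h4 : s.cycleType.lcm ∣ 4 * 15 := Multiset.lcm_dvd.2 fun c hc => by
      have h6 : c ≤ 6 := by
        have := Multiset.le_sum_of_mem hc
        rw [Equiv.Perm.sum_cycleType] at this
        exact this.trans (s.support.card_le_univ.trans (by simp))
      have := Equiv.Perm.two_le_of_mem_cycleType hc
      interval_cases c <;> norm_num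
    rw [Equiv.Perm.lcm_cycleType, hord] at h4
    norm_num at h4
  obtain ⟨c, hc, hd⟩ := h8
  have h6 : c ≤ 6 := by
    have := Multiset.le_sum_of_mem hc
    rw [Equiv.Perm.sum_cycleType] at this
    exact this.trans (s.support.card_le_univ.trans (by simp))
  have := Nat.le_of_dvd (by have := Equiv.Perm.two_le_of_mem_cycleType hc; omega) hd
  omega

end Cfsg.Agent.S2541
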