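import Cfsg.Statements.S2542
import Cfsg.Agent.Lib.Classical.IcosahedralRep
import Cfsg.Agent.Lib.Classical.SL
import Mathlib.GroupTheory.GroupAction.MultipleTransitivity

set_option autoImplicit false
open Cfsg

namespace Cfsg.Agent.S2542

/-- Let F be a field with 11 elements. PSL_2(F) has a subgroup H of index 11 isomorphic to the alternating group A_5, and the action of PSL_2(F) on the cosets of H is 2-transitive (of degree 11). -/
theorem result {F : Type*} [Field F] [Fintype F] (hF : Fintype.card F = 11) : ∃ H : Subgroup (Matrix.ProjectiveSpecialLinearGroup (Fin 2) F), H.index = 11 ∧ Nonempty (H ≃* alternatingGroup (Fin 5)) ∧ MulAction.IsMultiplyPretransitive (Matrix.ProjectiveSpecialLinearGroup (Fin 2) F) ((Matrix.ProjectiveSpecialLinearGroup (Fin 2) F) ⧸ H) 2 := by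
  classical
  have hprime : Nat.Prime 11 := by norm_num
  have hne : ∀ m : ℕ, 0 < m → m < 11 → (m : F) ≠ 0 := by
    intro m h0 h1 hm
    haveI : Fact (Nat.Prime 11) := ⟨hprime⟩
    haveI : CharP F 11 := by
      obtain ⟨p, hp⟩ := CharP.exists F
      obtain ⟨e, hpr, he⟩ := FiniteField.card F p
      rw [hF] at he
      have : p = 11 := (Nat.prime_dvd_prime_iff_eq hpr hprime).1 (he ▸ dvd_pow_self p e.pos.ne')
      exact this ▸ hp
    have := Nat.le_of_dvd h0 ((CharP.cast_eq_zero_iff F 11 m).1 hm)
    omega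
  have h2 : (2 : F) ≠ 0 := hne 2 (by norm_num) (by norm_num)
  have h5 : (5 : F) ≠ 0 := hne 5 (by norm_num) (by norm_num)
  have hFn : Nat.card F = 11 := by rw [Nat.card_eq_fintype_card, hF]
  have hS : Nat.card (Matrix.SpecialLinearGroup (Fin 2) F) = 1320 := by
    have h := ClassicalSL.card_sl_mul (ι := Fin 2) (F := F)
    rw [ClassicalSL.card_gl_fin hFn 2, hFn, Fin.prod_univ_two] at h
    norm_num at h ⊢
    omega
  have hG : Nat.card (Matrix.ProjectiveSpecialLinearGroup (Fin 2) F) = 660 := by
    have h := ClassicalSL.card_psl_mul (ι := Fin 2) (F := F)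
    rw [ClassicalSL.card_gl_fin hFn 2, hFn, Fin.prod_univ_two, Fintype.card_fin] at h
    norm_num at h ⊢
    omega
  haveI hsimp : IsSimpleGroup (Matrix.ProjectiveSpecialLinearGroup (Fin 2) F) :=
    Matrix.ProjectiveSpecialLinearGroup.rank_two_simple (by rw [hFn]; norm_num)
  obtain ⟨f, hf⟩ := Icosahedral.exists_alternating_five h2 h5 (hS ▸ (by norm_num))
  let H := f.range
  have e : alternatingGroup (Fin 5) ≃* H := MonoidHom.ofInjective hf
  have hH : Nat.card H = 60 := by
    rw [← Nat.card_congr e.toEquiv, nat_card_alternatingGroup, Nat.card_fin]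
    decide
  have hidx : H.index = 11 := by
    have := Subgroup.card_mul_index H
    rw [hG, hH] at this
    omega
  refine ⟨H, hidx, ⟨e.symm⟩, ?_⟩
  set G := Matrix.ProjectiveSpecialLinearGroup (Fin 2) F with hGdef
  haveI : Nontrivial H := Finite.one_lt_card_iff_nontrivial.1 (by omega)
  haveI : IsSimpleGroup H := by
    haveI : IsSimpleGroup (alternatingGroup (Fin 5)) := alternatingGroup.isSimpleGroup (by simp)
    exact IsSimpleGroup.isSimpleGroup_of_surjective e.toMonoidHom e.surjective
  haveI : Fintype (G ⧸ H) := Fintype.ofFinite _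
  have hX : Fintype.card (G ⧸ H) = 11 := by rw [← Nat.card_eq_fintype_card]; exact hidx
  let x₀ : G ⧸ H := QuotientGroup.mk 1
  have hstab : ∀ g : G, g • x₀ = x₀ ↔ g ∈ H := by
    intro g
    show QuotientGroup.mk (g * 1) = QuotientGroup.mk (1 : G) ↔ g ∈ H
    rw [mul_one, QuotientGroup.eq, mul_one, inv_mem_iff]
  have hnorm : Subgroup.normalizer (H : Set G) = H := by
    have h1 : (Subgroup.normalizer (H : Set G)).index ∣ 11 := hidx ▸ Subgroup.index_dvd_of_le Subgroup.le_normalizer
    rcases (Nat.dvd_prime hprime).1 h1 with h | h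
    · exfalso
      have hn : H.Normal := Subgroup.normalizer_eq_top_iff.1 (Subgroup.index_eq_one.1 h)
      rcases hn.eq_bot_or_eq_top with hb | hb
      · rw [hb, Subgroup.card_bot] at hH; omega
      · rw [hb, Subgroup.index_top] at hidx; omega
    · refine (Subgroup.eq_of_le_of_card_ge Subgroup.le_normalizer ?_).symm
      have h2 := Subgroup.card_mul_index (Subgroup.normalizer (H : Set G))
      rw [h, hG] at h2
      rw [show Nat.card (Subgroup.normalizer (H : Set G)) = 60 by omega]
      exact hH.ge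
  -- suborbits have at least five points
  have horb : ∀ y : G ⧸ H, y ≠ x₀ → 5 ≤ Nat.card (MulAction.orbit H y) := by
    intro y hy
    by_contra hlt
    push Not at hlt
    rw [Nat.card_coe_set_eq, ← MulAction.index_stabilizer] at hlt
    set S := MulAction.stabilizer H y
    rcases S.normalCore_normal.eq_bot_or_eq_top with h | h
    · have hd : Nat.card H ∣ S.index.factorial := by
        rw [← Subgroup.index_bot, ← h]
        have h1 : S.normalCore = (MulAction.toPermHom H (H ⧸ S)).ker := Subgroup.normalCore_eq_ker S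
        rw [h1, Subgroup.index_ker, Subgroup.index, ← Nat.card_perm]
        exact Subgroup.card_subgroup_dvd_card _
      rw [hH] at hd
      have hle := Nat.le_of_dvd (Nat.factorial_pos _) hd
      have hfac := Nat.factorial_le (show S.index ≤ 4 by omega)
      norm_num [Nat.factorial] at hfac
      omega
    · have hS : S = ⊤ := top_le_iff.1 (h ▸ S.normalCore_le)
      obtain ⟨g, rfl⟩ := QuotientGroup.mk_surjective y
      apply hy
      have hg : g⁻¹ ∈ Subgroup.normalizer (H : Set G) := by
        have hle : ∀ a ∈ H, g⁻¹ * a * g ∈ H := fun a ha => by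
          have h1 : (⟨a, ha⟩ : H) ∈ S := hS ▸ Subgroup.mem_top _
          have h2 : QuotientGroup.mk (s := H) (a * g) = QuotientGroup.mk g := h1
          rw [QuotientGroup.eq] at h2
          have h3 := inv_mem h2
          simpa [mul_assoc] using h3
        have hfix : H.map (MulAut.conj g⁻¹).toMonoidHom = H := by
          refine Subgroup.eq_of_le_of_card_ge ?_ (le_of_eq (Subgroup.card_map_of_injective (MulAut.conj g⁻¹).injective).symm)
          rintro _ ⟨a, ha, rfl⟩
          simpa using hle a ha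
        rw [Subgroup.mem_normalizer_iff]
        intro a
        refine ⟨fun ha => by rw [inv_inv]; exact hle a ha, fun ha => ?_⟩
        have ha' : g⁻¹ * a * g⁻¹⁻¹ ∈ H.map (MulAut.conj g⁻¹).toMonoidHom := by rw [hfix]; exact ha
        obtain ⟨b, hb, hb'⟩ := ha'
        have hb'' : g⁻¹ * b * g⁻¹⁻¹ = g⁻¹ * a * g⁻¹⁻¹ := hb'
        have hab : b = a := mul_left_cancel (mul_right_cancel hb'')
        exact hab ▸ hb
      rw [hnorm] at hg
      exact (QuotientGroup.eq).2 (by rw [mul_one]; exact hg)
  -- an involution moving the base point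
  obtain ⟨t, htt, htx⟩ : ∃ t : G, t * t = 1 ∧ t • x₀ ≠ x₀ := by
    haveI : Fact (Nat.Prime 2) := ⟨Nat.prime_two⟩
    obtain ⟨s, hs⟩ := exists_prime_orderOf_dvd_card' (G := G) 2 (hG ▸ (by norm_num))
    have hss : s * s = 1 := by rw [← pow_two]; exact orderOf_dvd_iff_pow_eq_one.1 hs.dvd
    by_contra! hall
    have hall' : ∀ g : G, g * s * g⁻¹ ∈ H := fun g => (hstab _).1 (hall _ (by
      rw [show g * s * g⁻¹ * (g * s * g⁻¹) = g * (s * s) * g⁻¹ by group, hss, mul_one, mul_inv_cancel]))
    rcases H.normalCore_normal.eq_bot_or_eq_top with h | h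
    · have : s ∈ H.normalCore := hall'
      rw [h, Subgroup.mem_bot] at this
      rw [this, orderOf_one] at hs
      omega
    · have := top_le_iff.1 (h ▸ H.normalCore_le)
      rw [this, Subgroup.index_top] at hidx
      omega
  obtain ⟨y, hy⟩ : ∃ y, t • x₀ = y := ⟨_, rfl⟩
  rw [hy] at htx
  have hty : t • y = x₀ := by rw [← hy, smul_smul, htt, one_smul]
  let O : Finset (G ⧸ H) := Finset.univ.filter fun z => ∃ h ∈ H, h • y = z
  have hOcard : Nat.card (MulAction.orbit H y) = O.card := by
    rw [← Nat.card_eq_finsetCard]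
    exact Nat.card_congr (Equiv.subtypeEquivRight fun z => by
      simp only [O, Finset.mem_filter, Finset.mem_univ, true_and, MulAction.mem_orbit_iff]
      exact ⟨fun ⟨h, e⟩ => ⟨h.1, h.2, e⟩, fun ⟨h, hh, e⟩ => ⟨⟨h, hh⟩, e⟩⟩)
  have hO0 : x₀ ∉ O := by
    simp only [O, Finset.mem_filter, Finset.mem_univ, true_and]
    rintro ⟨h, hh, he⟩
    exact htx (MulAction.injective h (he.trans ((hstab h).2 hh).symm))
  -- pairs in the orbital of `(x₀, y)`
  let P : Finset ((G ⧸ H) × (G ⧸ H)) := Finset.univ.filter fun p => ∃ g : G, g • x₀ = p.1 ∧ g • y = p.2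
  have heven : 2 ∣ P.card := by
    have h0 : ∑ _p ∈ P, (1 : ZMod 2) = 0 := by
      refine Finset.sum_involution (fun p _ => p.swap) (fun p _ => by decide) ?_ ?_ (fun p _ => Prod.swap_swap p)
      · intro p hp _ hswap
        obtain ⟨g, hg1, hg2⟩ := (Finset.mem_filter.1 hp).2
        have h12 : p.1 = p.2 := congrArg Prod.snd hswap
        exact htx (MulAction.injective g (hg2.trans (h12.symm.trans hg1.symm)))
      · intro p hp
        obtain ⟨g, hg1, hg2⟩ := (Finset.mem_filter.1 hp).2
        exact Finset.mem_filter.2 ⟨Finset.mem_univ _, g * t, by rw [mul_smul, hy, hg2]; rfl,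
          by rw [mul_smul, hty, hg1]; rfl⟩
    simp only [Finset.sum_const, nsmul_eq_mul, mul_one] at h0
    exact (ZMod.natCast_eq_zero_iff_even.1 h0).two_dvd
  have hP : P.card = 11 * O.card := by
    have hfib : ∀ a : G ⧸ H, (P.filter fun p => p.1 = a).card = O.card := by
      intro a
      obtain ⟨g, rfl⟩ := QuotientGroup.mk_surjective a
      have hg : g • x₀ = QuotientGroup.mk g := congrArg QuotientGroup.mk (mul_one g)
      refine (Finset.card_bij (fun z _ => (QuotientGroup.mk g, g • z)) ?_ ?_ ?_).symm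
      · intro z hz
        obtain ⟨h, hh, rfl⟩ := (Finset.mem_filter.1 hz).2
        refine Finset.mem_filter.2 ⟨Finset.mem_filter.2 ⟨Finset.mem_univ _, g * h, ?_, ?_⟩, rfl⟩
        · rw [mul_smul, (hstab h).2 hh, hg]
        · rw [mul_smul]
      · intro z _ z' _ he
        exact MulAction.injective g (congrArg Prod.snd he)
      · rintro ⟨a, b⟩ hp
        obtain ⟨hp, rfl⟩ := Finset.mem_filter.1 hp
        obtain ⟨k, hk1, hk2⟩ := (Finset.mem_filter.1 hp).2
        refine ⟨g⁻¹ • b, Finset.mem_filter.2 ⟨Finset.mem_univ _, g⁻¹ * k, (hstab _).1 ?_, ?_⟩, ?_⟩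
        · rw [mul_smul, hk1]
          exact inv_smul_eq_iff.2 hg.symm
        · rw [mul_smul, hk2]
        · simp
    rw [Finset.card_eq_sum_card_fiberwise (t := Finset.univ) (fun p _ => Finset.mem_univ p.1),
      Finset.sum_congr rfl (fun a _ => hfib a), Finset.sum_const, Finset.card_univ, hX, smul_eq_mul]
  have hfull : ∀ z, z ≠ x₀ → z ∈ O := by
    intro z hz
    by_contra hzO
    let O' : Finset (G ⧸ H) := Finset.univ.filter fun w => ∃ h ∈ H, h • z = w
    have h5' : 5 ≤ O'.card := by
      refine le_of_le_of_eq (horb z hz) ?_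
      rw [← Nat.card_eq_finsetCard]
      exact Nat.card_congr (Equiv.subtypeEquivRight fun w => by
        simp only [O', Finset.mem_filter, Finset.mem_univ, true_and, MulAction.mem_orbit_iff]
        exact ⟨fun ⟨h, e⟩ => ⟨h.1, h.2, e⟩, fun ⟨h, hh, e⟩ => ⟨⟨h, hh⟩, e⟩⟩)
    have hd : Disjoint O O' := by
      rw [Finset.disjoint_left]
      intro w hw hw'
      obtain ⟨h, hh, e1⟩ := (Finset.mem_filter.1 hw).2
      obtain ⟨h', hh', e2⟩ := (Finset.mem_filter.1 hw').2
      refine hzO (Finset.mem_filter.2 ⟨Finset.mem_univ _, h'⁻¹ * h, mul_mem (inv_mem hh') hh, ?_⟩)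
      rw [mul_smul, e1, ← e2, inv_smul_smul]
    have hd0 : x₀ ∉ O' := by
      intro hx
      obtain ⟨h, hh, e1⟩ := (Finset.mem_filter.1 hx).2
      exact hz (MulAction.injective h (e1.trans ((hstab h).2 hh).symm))
    have hle := Finset.card_le_card (Finset.subset_univ (insert x₀ (O ∪ O')))
    rw [Finset.card_insert_of_notMem (by simp [hO0, hd0]), Finset.card_union_of_disjoint hd, Finset.card_univ, hX] at hle
    have := horb y htx
    rw [hOcard] at this
    rw [hP] at heven
    omega
  rw [MulAction.is_two_pretransitive_iff]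
  have key : ∀ a b : G ⧸ H, a ≠ b → ∃ g : G, g • x₀ = a ∧ g • y = b := by
    intro a b hab
    obtain ⟨g, rfl⟩ := QuotientGroup.mk_surjective a
    have hg : g • x₀ = QuotientGroup.mk g := congrArg QuotientGroup.mk (mul_one g)
    obtain ⟨h, hh, he⟩ := (Finset.mem_filter.1 (hfull (g⁻¹ • b) (fun e => hab (by
      rw [← hg]; exact (inv_smul_eq_iff.1 e).symm)))).2
    exact ⟨g * h, by rw [mul_smul, (hstab h).2 hh, hg], by rw [mul_smul, he, smul_inv_smul]⟩
  intro a b c d hab hcd
  obtain ⟨g, ha, hb⟩ := key a b hab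
  obtain ⟨k, hc, hd⟩ := key c d hcd
  exact ⟨k * g⁻¹, by rw [mul_smul, ← ha, inv_smul_smul, hc], by rw [mul_smul, ← hb, inv_smul_smul, hd]⟩

end Cfsg.Agent.S2542

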