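import Cfsg.Statements.S2543
import Cfsg.Agent.Lib.Golay.Local.PSL11A5
import Mathlib.GroupTheory.QuotientGroup.Basic
import Mathlib.Algebra.Field.ZMod
-- import your own Cfsg.Agent.* helpers here

set_option autoImplicit false
open scoped Pointwise
open Cfsg

namespace Cfsg.Agent.S2543

open Cfsg.Agent.Golay Cfsg.Agent.Golay.Local
open scoped Pointwise

/-- Isomorphic coefficient rings give isomorphic projective special linear groups. -/
theorem nonempty_psl_congr {R S : Type*} [CommRing R] [CommRing S] (e : R ≃+* S) :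
    Nonempty (Matrix.ProjectiveSpecialLinearGroup (Fin 2) R ≃* Matrix.ProjectiveSpecialLinearGroup (Fin 2) S) := by
  let E : Matrix.SpecialLinearGroup (Fin 2) R ≃* Matrix.SpecialLinearGroup (Fin 2) S :=
    { toFun := Matrix.SpecialLinearGroup.map e.toRingHom
      invFun := Matrix.SpecialLinearGroup.map e.symm.toRingHom
      left_inv := fun A => Subtype.ext (by ext i j; simp)
      right_inv := fun A => Subtype.ext (by ext i j; simp)
      map_mul' := map_mul _ }
  refine ⟨QuotientGroup.congr _ _ E ?_⟩
  ext z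
  rw [Subgroup.map_equiv_eq_comap_symm, Subgroup.mem_comap, Subgroup.mem_center_iff, Subgroup.mem_center_iff]
  constructor
  · intro h y
    have := congrArg E (h (E.symm y))
    simpa using this
  · intro h y
    apply E.injective
    simpa using h (E y)

theorem map_conj {G H : Type*} [Group G] [Group H] (E : G ≃* H) (g : G) (L : Subgroup G) :
    (MulAut.conj g • L).map E.toMonoidHom = MulAut.conj (E g) • L.map E.toMonoidHom := by
  ext y
  rw [Subgroup.mem_map_equiv, Subgroup.mem_pointwise_smul_iff_inv_smul_mem,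
    Subgroup.mem_pointwise_smul_iff_inv_smul_mem, Subgroup.mem_map_equiv]
  simp

/-- Let F be a field with 11 elements. PSL_2(F) has exactly 22 subgroups isomorphic to the alternating group A_5, and they form two conjugacy classes: there are two such subgroups that are not conjugate, and every such subgroup is conjugate to one of these two. -/
theorem result {F : Type*} [Field F] [Fintype F] (hF : Fintype.card F = 11) : Nat.card {H : Subgroup (Matrix.ProjectiveSpecialLinearGroup (Fin 2) F) // Nonempty (H ≃* alternatingGroup (Fin 5))} = 22 ∧ ∃ H K : Subgroup (Matrix.ProjectiveSpecialLinearGroup (Fin 2) F), Nonempty (H ≃* alternatingGroup (Fin 5)) ∧ Nonempty (K ≃* alternatingGroup (Fin 5)) ∧ (∀ g : Matrix.ProjectiveSpecialLinearGroup (Fin 2) F, MulAut.conj g • H ≠ K) ∧ ∀ L : Subgroup (Matrix.ProjectiveSpecialLinearGroup (Fin 2) F), Nonempty (L ≃* alternatingGroup (Fin 5)) → ∃ g : Matrix.ProjectiveSpecialLinearGroup (Fin 2) F, MulAut.conj g • L = H ∨ MulAut.conj g • L = K := by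
  haveI : Fact (Nat.Prime 11) := ⟨by norm_num⟩
  obtain ⟨e₀⟩ := nonempty_stab_q_psl
  obtain ⟨e₁⟩ := nonempty_psl_congr (ZMod.ringEquivOfPrime F (by norm_num) hF)
  let E : ↥stdQ ≃* Matrix.ProjectiveSpecialLinearGroup (Fin 2) F := e₀.trans e₁
  have iso : ∀ H : Subgroup ↥stdQ, Nonempty (H ≃* alternatingGroup (Fin 5)) ↔
      Nonempty (H.map E.toMonoidHom ≃* alternatingGroup (Fin 5)) := fun H =>
    ⟨fun ⟨f⟩ => ⟨(E.subgroupMap H).symm.trans f⟩, fun ⟨f⟩ => ⟨(E.subgroupMap H).trans f⟩⟩
  have back : ∀ L : Subgroup (Matrix.ProjectiveSpecialLinearGroup (Fin 2) F),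
      (L.comap E.toMonoidHom).map E.toMonoidHom = L := fun L =>
    Subgroup.map_comap_eq_self_of_surjective E.surjective L
  constructor
  · let f : {H : Subgroup ↥stdQ // Nonempty (H ≃* alternatingGroup (Fin 5))} →
        {H : Subgroup (Matrix.ProjectiveSpecialLinearGroup (Fin 2) F) // Nonempty (H ≃* alternatingGroup (Fin 5))} :=
      fun H => ⟨H.1.map E.toMonoidHom, (iso H.1).1 H.2⟩
    have hf : Function.Bijective f := by
      refine ⟨fun a b h => Subtype.ext (Subgroup.map_injective E.injective (congrArg Subtype.val h)), fun L => ?_⟩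
      exact ⟨⟨L.1.comap E.toMonoidHom, (iso _).2 (by rw [back]; exact L.2)⟩, Subtype.ext (back L.1)⟩
    rw [← Nat.card_eq_of_bijective f hf, a5_count]
  · obtain ⟨H, K, hH, hK, hne, hall⟩ := a5_two_classes
    refine ⟨H.map E.toMonoidHom, K.map E.toMonoidHom, (iso H).1 hH, (iso K).1 hK, fun g hg => ?_, fun L hL => ?_⟩
    · obtain ⟨g, rfl⟩ := E.surjective g
      rw [← map_conj] at hg
      exact hne g (Subgroup.map_injective E.injective hg)
    · obtain ⟨g, hg⟩ := hall (L.comap E.toMonoidHom) ((iso _).2 (by rw [back]; exact hL))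
      refine ⟨E g, hg.imp (fun h => ?_) (fun h => ?_)⟩ <;>
        · rw [← h, map_conj, back]

end Cfsg.Agent.S2543
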