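import Cfsg.Statements.S2551
import Cfsg.Agent.Lib.GL42.Embed

set_option autoImplicit false
open Cfsg

namespace Cfsg.Agent.S2551

/-- Let F be the field with 2 elements. GL_4(F) (≅ A_8) has a subgroup isomorphic to the alternating group A_7, and every such subgroup acts 2-transitively on the 15 non-zero vectors of F⁴: any ordered pair of distinct non-zero vectors is carried to any other by some element of the subgroup. -/
theorem result {F : Type*} [Field F] [Fintype F] (hF : Fintype.card F = 2) : (∃ H : Subgroup (Matrix.GeneralLinearGroup (Fin 4) F), Nonempty (H ≃* alternatingGroup (Fin 7))) ∧ ∀ H : Subgroup (Matrix.GeneralLinearGroup (Fin 4) F), Nonempty (H ≃* alternatingGroup (Fin 7)) → ∀ v w v' w' : Fin 4 → F, v ≠ 0 → w ≠ 0 → v ≠ w → v' ≠ 0 → w' ≠ 0 → v' ≠ w' → ∃ g ∈ H, (g : Matrix (Fin 4) (Fin 4) F).mulVec v = v' ∧ (g : Matrix (Fin 4) (Fin 4) F).mulVec w = w' := by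
  classical
  let e : ZMod 2 ≃+* F := ZMod.ringEquivOfPrime F Nat.prime_two hF
  let E : GL42.G42 ≃* Matrix.GeneralLinearGroup (Fin 4) F := Units.mapEquiv e.mapMatrix.toMulEquiv
  refine ⟨?_, ?_⟩
  · obtain ⟨H, ⟨f⟩⟩ := GL42.exists_alt_seven
    exact ⟨H.map E.toMonoidHom, ⟨(H.equivMapOfInjective E.toMonoidHom E.injective).symm.trans f⟩⟩
  · rintro H ⟨f⟩ v w v' w' hv hw hvw hv' hw' hvw'
    have hK : Nonempty ((H.map E.symm.toMonoidHom : Subgroup GL42.G42) ≃* alternatingGroup (Fin 7)) :=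
      ⟨(H.equivMapOfInjective E.symm.toMonoidHom E.symm.injective).symm.trans f⟩
    have nz : ∀ u : Fin 4 → F, u ≠ 0 → (fun i => e.symm (u i)) ≠ 0 := fun u hu h => hu (funext fun i =>
      e.symm.injective ((congrFun h i).trans (map_zero e.symm).symm))
    have inj : ∀ u u' : Fin 4 → F, u ≠ u' → (fun i => e.symm (u i)) ≠ fun i => e.symm (u' i) := fun u u' hu h =>
      hu (funext fun i => e.symm.injective (congrFun h i))
    obtain ⟨k, ⟨g, hg, rfl⟩, k1, k2⟩ := GL42.two_transitive hK (nz v hv) (nz w hw) (inj v w hvw)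
      (nz v' hv') (nz w' hw') (inj v' w' hvw')
    have key : ∀ u u' : Fin 4 → F, ((E.symm g : GL42.G42) : Matrix (Fin 4) (Fin 4) (ZMod 2)).mulVec
        (fun i => e.symm (u i)) = (fun i => e.symm (u' i)) → (g : Matrix (Fin 4) (Fin 4) F).mulVec u = u' := by
      intro u u' h
      funext i
      refine e.symm.injective ((RingHom.map_mulVec e.symm.toRingHom (g : Matrix (Fin 4) (Fin 4) F) u i).trans ?_)
      exact congrFun h i
    exact ⟨g, hg, key v v' k1, key w w' k2⟩

end Cfsg.Agent.S2551
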