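import Cfsg.Statements.S2552
import Cfsg.Agent.Lib.Transvec.Basic

set_option autoImplicit false
open Cfsg

namespace Cfsg.Agent.S2552

/-- Let F be a finite field and n ≥ 1. For every k, the special linear group SL_n(F) acts transitively on the set of k-dimensional subspaces of F^n: any two subspaces of the same dimension are carried onto each other by some matrix of determinant 1. -/
theorem result {F : Type*} [Field F] [Fintype F] (n : ℕ) (hn : 1 ≤ n) (U₁ U₂ : Submodule F (Fin n → F)) (h : Module.finrank F U₁ = Module.finrank F U₂) : ∃ g : Matrix.SpecialLinearGroup (Fin n) F, U₁.map ((Matrix.SpecialLinearGroup.toLin' g : (Fin n → F) ≃ₗ[F] (Fin n → F)) : (Fin n → F) →ₗ[F] (Fin n → F)) = U₂ := by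
  classical
  obtain ⟨C₁, h₁⟩ := Submodule.exists_isCompl U₁
  obtain ⟨C₂, h₂⟩ := Submodule.exists_isCompl U₂
  have hC : Module.finrank F C₁ = Module.finrank F C₂ := by
    have a := Submodule.finrank_add_eq_of_isCompl h₁
    have b := Submodule.finrank_add_eq_of_isCompl h₂
    omega
  let e := LinearEquiv.ofFinrankEq _ _ h
  let e' := LinearEquiv.ofFinrankEq _ _ hC
  let g₀ : (Fin n → F) ≃ₗ[F] (Fin n → F) := ((Submodule.prodEquivOfIsCompl _ _ h₁).symm.trans (e.prodCongr e')).trans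
    (Submodule.prodEquivOfIsCompl _ _ h₂)
  have hg₀ : ∀ x ∈ U₁, g₀ x ∈ U₂ := fun x hx => by
    show (Submodule.prodEquivOfIsCompl _ _ h₂) ((e.prodCongr e') ((Submodule.prodEquivOfIsCompl _ _ h₁).symm x)) ∈ U₂
    rw [show (Submodule.prodEquivOfIsCompl _ _ h₁).symm x = (⟨x, hx⟩, 0) from
      Submodule.prodEquivOfIsCompl_symm_apply_left _ _ h₁ ⟨x, hx⟩]
    simp
  rcases eq_or_ne U₁ ⊥ with rfl | hne
  · refine ⟨1, ?_⟩
    rw [finrank_bot, eq_comm, Submodule.finrank_eq_zero] at h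
    rw [h, Submodule.map_bot]
  obtain ⟨u, hu, hu0⟩ := (Submodule.ne_bot_iff _).1 hne
  obtain ⟨φ, -, hφ⟩ := Transvec.exists_dual (W := (⊥ : Submodule F (Fin n → F))) (u := u) (by simpa using hu0)
  set M := LinearMap.toMatrix' (g₀ : (Fin n → F) →ₗ[F] (Fin n → F)) with hM
  have hd : M.det ≠ 0 := by
    rw [hM, LinearMap.det_toMatrix']
    exact (LinearEquiv.isUnit_det' g₀).ne_zero
  have hdet : (M * Transvec.tvMat u ((M.det⁻¹ - 1) • φ)).det = 1 := by
    rw [Matrix.det_mul, Transvec.det_tvMat, LinearMap.smul_apply, hφ, smul_eq_mul, mul_one, add_sub_cancel,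
      mul_inv_cancel₀ hd]
  refine ⟨⟨_, hdet⟩, Submodule.eq_of_le_of_finrank_le ?_ ?_⟩
  · rintro _ ⟨x, hx, rfl⟩
    show (M * Transvec.tvMat u ((M.det⁻¹ - 1) • φ)).mulVec x ∈ U₂
    rw [← Matrix.mulVec_mulVec, Transvec.tvMat_mulVec, hM, LinearMap.toMatrix'_mulVec]
    exact hg₀ _ (U₁.add_mem hx (U₁.smul_mem _ hu))
  · rw [← LinearEquiv.finrank_eq (Submodule.equivMapOfInjective _ (LinearEquiv.injective _) U₁), h]

end Cfsg.Agent.S2552

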