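import Cfsg.Statements.S2553
import Cfsg.Agent.Lib.GLFourTwo.Subgroups
-- import your own Cfsg.Agent.* helpers here

set_option autoImplicit false
open Cfsg

namespace Cfsg.Agent.S2553

/-- Let H be a nontrivial subgroup of GL(4,2) (a group isomorphic to the alternating group of degree 8) whose largest normal 2-subgroup and largest normal subgroup of odd order are both trivial. Then H is isomorphic to an alternating group of degree n for some 5 ≤ n ≤ 8, to the symmetric group of degree 5 or 6, or to GL(3,2). -/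
theorem result (H : Subgroup (GL (Fin 4) (ZMod 2))) (hH : H ≠ ⊥) (hO : Cfsg.pPrimeCore 2 ↥H = ⊥) (hO2 : Cfsg.pCore 2 ↥H = ⊥) :
    (∃ n : ℕ, 5 ≤ n ∧ n ≤ 8 ∧ Nonempty (↥H ≃* alternatingGroup (Fin n))) ∨
    Nonempty (↥H ≃* Equiv.Perm (Fin 5)) ∨ Nonempty (↥H ≃* Equiv.Perm (Fin 6)) ∨ Nonempty (↥H ≃* GL (Fin 3) (ZMod 2)) := by
  obtain ⟨e⟩ := A8Sub.nonempty_equiv
    (Matrix.SpecialLinearGroup.toGL (n := Fin 4) (R := ZMod 2))
    Matrix.SpecialLinearGroup.toGL_injective (by
      haveI : Fact (Nat.Prime 2) := ⟨Nat.prime_two⟩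
      rw [GLFourTwo.card_sl_four_two, ClassicalSL.card_gl_fin (Nat.card_zmod 2) 4]
      decide)
  let a := e.symm.trans GLFourTwo.slEquivAlt
  let ι : ↥H →* Equiv.Perm (Fin 8) := ((alternatingGroup (Fin 8)).subtype.comp a.toMonoidHom).comp H.subtype
  have hι : Function.Injective ι := by
    intro x y hxy
    exact Subtype.ext (a.injective (Subtype.ext hxy))
  haveI : Nontrivial ↥H := (Subgroup.nontrivial_iff_ne_bot H).2 hH
  refine A8Sub.classify hι (fun g => Equiv.Perm.mem_alternatingGroup.1 (a (g : GL (Fin 4) (ZMod 2))).2) ?_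
  intro p hp K hK hKp
  haveI : Fact p.Prime := ⟨hp⟩
  by_cases h2 : p = 2
  · subst h2
    exact le_bot_iff.1 ((le_sSup (show K ∈ {N : Subgroup ↥H | N.Normal ∧ IsPGroup 2 N} from ⟨hK, hKp⟩)).trans hO2.le)
  · obtain ⟨k, hk⟩ := hKp.exists_card_eq
    refine le_bot_iff.1 ((le_sSup (show K ∈ {N : Subgroup ↥H | N.Normal ∧ (Nat.card N).Coprime 2} from
      ⟨hK, ?_⟩)).trans hO.le)
    rw [hk]
    exact ((Nat.coprime_primes hp Nat.prime_two).2 h2).pow_left k

end Cfsg.Agent.S2553
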