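import Cfsg.Statements.S2556
import Cfsg.Agent.Lib.Suzuki.SylowAut
import Cfsg.Agent.Lib.Suzuki.Minor

set_option autoImplicit false
open Cfsg

namespace Cfsg.Agent.S2556

/-- Let S be a Sylow 2-subgroup of the Suzuki group Sz(q), q = 2ⁿ with n = 2m + 1 ≥ 3 (realised as 4 × 4 matrices over the field with q elements). Then the largest normal 2-subgroup of the automorphism group of S is elementary abelian of order 2^(n²), and the automorphism group of S has order 2^(n²) · n · (q − 1). -/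
theorem result {S : Type*} [Group S] [Finite S] (m : ℕ) (hm : 1 ≤ m)
    {F : Type*} [Field F] [Fintype F] (hF : Fintype.card F = 2 ^ (2 * m + 1))
    (P : Sylow 2 ↥(Cfsg.Lie.Sz F (2 ^ (m + 1)))) (hS : Nonempty (S ≃* ↥(P : Subgroup ↥(Cfsg.Lie.Sz F (2 ^ (m + 1)))))) :
    Cfsg.IsElementaryAbelian 2 (Cfsg.pCore 2 (MulAut S)) ∧ Nat.card ↥(Cfsg.pCore 2 (MulAut S)) = 2 ^ ((2 * m + 1) ^ 2) ∧
      Nat.card (MulAut S) = 2 ^ ((2 * m + 1) ^ 2) * ((2 * m + 1) * (2 ^ (2 * m + 1) - 1)) := by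
  have h : Agent.Suzuki.SzField F m := ⟨hm, hF⟩
  obtain ⟨eS⟩ := hS
  have : Fact (Nat.Prime 2) := ⟨Nat.prime_two⟩
  let Q : Sylow 2 ↥(Cfsg.Lie.Sz F (2 ^ (m + 1))) :=
    ((Agent.Suzuki.isPGroup_rootGroup h).map (Agent.Suzuki.minorEquiv h).toMonoidHom).toSylow (by
      rw [Subgroup.index_map_of_bijective (Agent.Suzuki.minorEquiv h).bijective]
      exact Agent.Suzuki.odd_index_rootGroup h)
  have : Finite ↥(Cfsg.Lie.Sz F (2 ^ (m + 1))) := Finite.of_equiv _ (Agent.Suzuki.minorEquiv h).toEquiv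
  let eR : S ≃* Agent.Suzuki.rootGroup h :=
    (eS.trans (P.equiv Q)).trans
      ((Agent.Suzuki.rootGroup h).equivMapOfInjective _ (Agent.Suzuki.minorEquiv h).injective).symm
  let e : MulAut (Agent.Suzuki.rootGroup h) ≃* MulAut S := MulAut.congr eR.symm
  have hcore : Cfsg.pCore 2 (MulAut S) = (Agent.Suzuki.centralAut h).range.map e.toMonoidHom := by
    rw [← Agent.Suzuki.pCore_mulAut_rootGroup h, Agent.LEBasic.map_pCore_equiv]
  refine ⟨?_, ?_, ?_⟩
  · rw [hcore]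
    obtain ⟨hc, h2⟩ := Agent.Suzuki.centralAut_elementary h
    refine ⟨Subgroup.map_isMulCommutative _ _, ?_⟩
    rintro _ ⟨x, hx, rfl⟩
    rw [← map_pow, h2 x hx, map_one]
  · rw [hcore, ← Nat.card_congr ((Agent.Suzuki.centralAut h).range.equivMapOfInjective _ e.injective).toEquiv,
      Agent.Suzuki.card_centralAut_range]
  · rw [← Nat.card_congr e.toEquiv, Agent.Suzuki.card_mulAut_rootGroup]

end Cfsg.Agent.S2556
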