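import Cfsg.Statements.S2558
import Cfsg.Agent.Lib.Classical.FormCount.OLower
import Cfsg.Agent.Lib.Orthogonal.Counts

set_option autoImplicit false
open Cfsg

namespace Cfsg.Agent.S2558

/-- The number of conjugacy classes of the full orthogonal groups O⁺(2n,q) and O⁻(2n,q), q odd, 2n ≥ 4: for F a finite field of odd order q and n ≥ 2, the number k of conjugacy classes of the isometry group of the hyperbolic quadratic form Σ xᵢyᵢ on F^{2n}, and likewise of the elliptic form Σ xᵢyᵢ + (z₁² + a z₁z₂ + b z₂²) with anisotropic binary part, satisfies q^n/2 ≤ k ≤ 9.5·q^n. -/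
theorem result {F : Type*} [Field F] [Fintype F] (hodd : Odd (Fintype.card F)) (n : ℕ) (hn : 2 ≤ n) (a b : F) (hab : ∀ z₁ z₂ : F, z₁ ^ 2 + a * z₁ * z₂ + b * z₂ ^ 2 = 0 → z₁ = 0 ∧ z₂ = 0) :
    (Fintype.card F ^ n ≤ 2 * Nat.card (ConjClasses ↥(Cfsg.isometryGroup F (Cfsg.quadFormPlus n F))) ∧
      2 * Nat.card (ConjClasses ↥(Cfsg.isometryGroup F (Cfsg.quadFormPlus n F))) ≤ 19 * Fintype.card F ^ n) ∧
    (Fintype.card F ^ n ≤ 2 * Nat.card (ConjClasses ↥(Cfsg.isometryGroup F (Cfsg.quadFormMinus (n - 1) F a b))) ∧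
      2 * Nat.card (ConjClasses ↥(Cfsg.isometryGroup F (Cfsg.quadFormMinus (n - 1) F a b))) ≤ 19 * Fintype.card F ^ n) := by
  classical
  have h2 : (2 : F) ≠ 0 := fun h => by
    have hc := (FiniteField.even_card_iff_char_two (F := F)).1
      (CharP.ringChar_of_prime_eq_zero Nat.prime_two (by exact_mod_cast h))
    rw [Nat.odd_iff] at hodd
    omega
  have hq : 3 ≤ Fintype.card F := by
    have h1 := Fintype.one_lt_card (α := F)
    obtain ⟨k, hk⟩ := hodd
    omega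
  have hupper : ∀ {ι : Type} [Fintype ι] [DecidableEq ι] (e : ι ≃ Fin (2 * n))
      (Q : QuadraticForm F (ι → F)), (QuadraticMap.polarBilin Q).Nondegenerate →
      2 * Nat.card (ConjClasses ↥(Cfsg.isometryGroup F ⇑Q)) ≤ 19 * Fintype.card F ^ n :=
    fun e Q hQ => (FormCount.two_card_classes_le e Q hQ h2 rfl).trans (FormCount.total_bound hq _ n)
  let e₁ : Fin n ⊕ Fin n ≃ Fin (2 * n) := finSumFinEquiv.trans (finCongr (two_mul n).symm)
  let e₂ : (Fin (n - 1) ⊕ Fin (n - 1)) ⊕ Fin 2 ≃ Fin (2 * n) :=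
    Fintype.equivFinOfCardEq (by simp only [Fintype.card_sum, Fintype.card_fin]; omega)
  have h1 := FormCount.lower_bound e₁ (Orth.qPlus F n) (Orth.qPlus_nondeg n) h2 hn rfl
  have h1' := hupper e₁ (Orth.qPlus F n) (Orth.qPlus_nondeg n)
  have h3 := FormCount.lower_bound e₂ (Orth.qMinus F (n - 1) a b) (Orth.qMinus_nondeg hab _) h2 hn rfl
  have h3' := hupper e₂ (Orth.qMinus F (n - 1) a b) (Orth.qMinus_nondeg hab _)
  rw [Orth.coe_qPlus] at h1 h1'
  rw [Orth.coe_qMinus] at h3 h3'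
  exact ⟨⟨h1, h1'⟩, h3, h3'⟩

end Cfsg.Agent.S2558
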