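import Cfsg.Statements.S2560
import Cfsg.Agent.Lib.Classical.FormCount.OOdd
import Cfsg.Agent.Lib.Orthogonal.Counts

set_option autoImplicit false
open Cfsg

namespace Cfsg.Agent.S2560

/-- The number of conjugacy classes of Ω(2n+1,q), q odd, n ≥ 2: for F a finite field of odd order q, the number k of conjugacy classes of the commutator subgroup of the isometry group of the quadratic form x₀² + Σ xᵢyᵢ on F^{2n+1} satisfies q^n/2 ≤ k ≤ 7.3·q^n. -/
theorem result {F : Type*} [Field F] [Fintype F] (hodd : Odd (Fintype.card F)) (n : ℕ) (hn : 2 ≤ n) :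
    Fintype.card F ^ n ≤ 2 * Nat.card (ConjClasses ↥(Cfsg.Omega F (Cfsg.quadFormOdd n F))) ∧
      10 * Nat.card (ConjClasses ↥(Cfsg.Omega F (Cfsg.quadFormOdd n F))) ≤ 73 * Fintype.card F ^ n := by
  classical
  have h2 : (2 : F) ≠ 0 := by
    intro h
    have h1 : ringChar F = 2 := by
      haveI : CharP F 2 := CharTwo.of_one_ne_zero_of_two_eq_zero one_ne_zero h
      exact ringChar.eq F 2
    exact Nat.not_even_iff_odd.2 hodd ((FiniteField.even_card_iff_char_two.1 h1) |> Nat.even_iff.2)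
  have hc : Fintype.card (Unit ⊕ (Fin n ⊕ Fin n)) = 2 * n + 1 := by
    simp only [Fintype.card_sum, Fintype.card_unit, Fintype.card_fin]
    omega
  rw [← Cfsg.Agent.Orth.coe_qOdd]
  exact ⟨Cfsg.Agent.FormCount.omega_classes_ge (Fintype.equivFinOfCardEq hc) _
      (Cfsg.Agent.Orth.qOdd_nondeg h2 n) h2 rfl (by omega),
    Cfsg.Agent.FormCount.omega_classes_le (Fintype.equivFinOfCardEq hc) _
      (Cfsg.Agent.Orth.qOdd_nondeg h2 n) h2 rfl (by omega)⟩

end Cfsg.Agent.S2560
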