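import Cfsg.Statements.S2561
import Cfsg.Agent.Lib.LinearBlock.Arf

set_option autoImplicit false
open Cfsg

namespace Cfsg.Agent.S2561

/-- Fix the non-singular alternating form on the 2m-dimensional space over the field of two elements obtained by polarizing the plus-type form Σ xᵢyᵢ (m ≥ 1). The functions q on the space with q(u + v) = q(u) + q(v) + f(u, v) (the quadratic forms polarizing to f) number 2^(2m); each is equivalent under an invertible linear map either to the plus-type form or to the minus-type form Σ xᵢyᵢ + (z₁² + z₁z₂ + z₂²); and those of plus type number 2^(2m−1) + 2^(m−1), those of minus type 2^(2m−1) − 2^(m−1). -/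
theorem result (m : ℕ) (hm : 1 ≤ m) :
    Nat.card {q : (Fin m ⊕ Fin m → ZMod 2) → ZMod 2 // (∀ u v : (Fin m ⊕ Fin m → ZMod 2), q (u + v) = q u + q v + (Cfsg.quadFormPlus m (ZMod 2) (u + v) - Cfsg.quadFormPlus m (ZMod 2) u - Cfsg.quadFormPlus m (ZMod 2) v))} = 2 ^ (2 * m) ∧
    (∀ q : (Fin m ⊕ Fin m → ZMod 2) → ZMod 2, (∀ u v : (Fin m ⊕ Fin m → ZMod 2), q (u + v) = q u + q v + (Cfsg.quadFormPlus m (ZMod 2) (u + v) - Cfsg.quadFormPlus m (ZMod 2) u - Cfsg.quadFormPlus m (ZMod 2) v)) →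
      (∃ g : (Fin m ⊕ Fin m → ZMod 2) ≃ₗ[ZMod 2] (Fin m ⊕ Fin m → ZMod 2), ∀ v, q v = Cfsg.quadFormPlus m (ZMod 2) (g v)) ∨
      (∃ g : (Fin m ⊕ Fin m → ZMod 2) ≃ₗ[ZMod 2] ((Fin (m - 1) ⊕ Fin (m - 1)) ⊕ Fin 2 → ZMod 2), ∀ v, q v = Cfsg.quadFormMinus (m - 1) (ZMod 2) 1 1 (g v))) ∧
    Nat.card {q : (Fin m ⊕ Fin m → ZMod 2) → ZMod 2 // (∀ u v : (Fin m ⊕ Fin m → ZMod 2), q (u + v) = q u + q v + (Cfsg.quadFormPlus m (ZMod 2) (u + v) - Cfsg.quadFormPlus m (ZMod 2) u - Cfsg.quadFormPlus m (ZMod 2) v)) ∧ ∃ g : (Fin m ⊕ Fin m → ZMod 2) ≃ₗ[ZMod 2] (Fin m ⊕ Fin m → ZMod 2), ∀ v, q v = Cfsg.quadFormPlus m (ZMod 2) (g v)} = 2 ^ (2 * m - 1) + 2 ^ (m - 1) ∧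
    Nat.card {q : (Fin m ⊕ Fin m → ZMod 2) → ZMod 2 // (∀ u v : (Fin m ⊕ Fin m → ZMod 2), q (u + v) = q u + q v + (Cfsg.quadFormPlus m (ZMod 2) (u + v) - Cfsg.quadFormPlus m (ZMod 2) u - Cfsg.quadFormPlus m (ZMod 2) v)) ∧ ∃ g : (Fin m ⊕ Fin m → ZMod 2) ≃ₗ[ZMod 2] ((Fin (m - 1) ⊕ Fin (m - 1)) ⊕ Fin 2 → ZMod 2), ∀ v, q v = Cfsg.quadFormMinus (m - 1) (ZMod 2) 1 1 (g v)} = 2 ^ (2 * m - 1) - 2 ^ (m - 1) := by
  classical
  set P : ((Fin m ⊕ Fin m → ZMod 2) → ZMod 2) → Prop := fun q => ∀ u v : (Fin m ⊕ Fin m → ZMod 2),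
    q (u + v) = q u + q v + (Cfsg.quadFormPlus m (ZMod 2) (u + v) - Cfsg.quadFormPlus m (ZMod 2) u
      - Cfsg.quadFormPlus m (ZMod 2) v) with hP
  have hQ0 := Orth.qPlus_nondeg (F := ZMod 2) m
  set Q0 := Orth.qPlus (ZMod 2) m with hQ0def
  let Φ : (Fin m ⊕ Fin m → ZMod 2) → ((Fin m ⊕ Fin m → ZMod 2) → ZMod 2) :=
    fun w v => Q0 v + QuadraticMap.polar Q0 v w
  have hP' : ∀ w, P (Φ w) := fun w u v => by
    rw [← Orth.coe_qPlus, ← hQ0def, ← QuadraticMap.polar]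
    simp only [Φ, Orth.b_add_left, Orth.q_add]
    ring
  let Ψ : (Fin m ⊕ Fin m → ZMod 2) ≃ {q // P q} := Equiv.ofBijective (fun w => ⟨Φ w, hP' w⟩) ⟨fun a b hab => by
      refine sub_eq_zero.1 (Orth.eq_zero_of_b hQ0 fun v => ?_)
      have h := congrFun (congrArg Subtype.val hab) v
      simp only [Φ] at h
      rw [Orth.b_sub_left, Orth.b_comm a v, Orth.b_comm b v]
      linear_combination h, fun q => by
      obtain ⟨Q, hQq, -, hpol⟩ := LBArf.exists_qf q.2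
      let f : (Fin m ⊕ Fin m → ZMod 2) →+ ZMod 2 := AddMonoidHom.mk' (fun v => Q v - Q0 v) fun u v => by
        show Q (u + v) - Q0 (u + v) = Q u - Q0 u + (Q v - Q0 v)
        rw [Orth.q_add, Orth.q_add, hpol]; ring
      obtain ⟨w, hw⟩ := Orth.exists_rep hQ0 (f.toZModLinearMap 2)
      refine ⟨w, Subtype.ext (funext fun v => ?_)⟩
      show Q0 v + QuadraticMap.polar Q0 v w = q.1 v
      rw [hw, ← hQq]
      show Q0 v + (Q v - Q0 v) = Q v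
      ring⟩
  let RP : ((Fin m ⊕ Fin m → ZMod 2) → ZMod 2) → Prop := fun q =>
    ∃ g : (Fin m ⊕ Fin m → ZMod 2) ≃ₗ[ZMod 2] (Fin m ⊕ Fin m → ZMod 2), ∀ v, q v = Cfsg.quadFormPlus m (ZMod 2) (g v)
  let RM : ((Fin m ⊕ Fin m → ZMod 2) → ZMod 2) → Prop := fun q =>
    ∃ g : (Fin m ⊕ Fin m → ZMod 2) ≃ₗ[ZMod 2] ((Fin (m - 1) ⊕ Fin (m - 1)) ⊕ Fin 2 → ZMod 2),
      ∀ v, q v = Cfsg.quadFormMinus (m - 1) (ZMod 2) 1 1 (g v)
  have hcases : ∀ q, P q → RP q ∨ RM q := fun q hq => by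
    obtain ⟨Q, rfl, hQ, -⟩ := LBArf.exists_qf hq
    simp only [RP, RM, ← Orth.coe_qPlus, ← Orth.coe_qMinus]
    exact LBArf.type_cases hQ
  have hRP : ∀ w, RP (Φ w) ↔ Q0 w = 0 := fun w => by
    simp only [RP, ← Orth.coe_qPlus]
    exact LBArf.shift_iff hm hQ0 w
  have hRM : ∀ w, RM (Φ w) ↔ Q0 w = 1 := fun w => by
    constructor
    · rintro ⟨g, hg⟩
      refine (LBArf.cases_zmod _).resolve_left fun h0 => ?_
      obtain ⟨g', hg'⟩ := (hRP w).2 h0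
      refine LBQuad.plus_ne_minus LBArf.aniso_one hm (g'.symm.trans g) fun v => ?_
      rw [Orth.coe_qMinus, Orth.coe_qPlus, LinearEquiv.trans_apply, ← hg, hg', LinearEquiv.apply_symm_apply]
    · intro h1
      refine (hcases _ (hP' w)).resolve_left fun h => ?_
      rw [(hRP w).1 h] at h1
      exact zero_ne_one h1
  have hsub : ∀ (R : ((Fin m ⊕ Fin m → ZMod 2) → ZMod 2) → Prop) (c : ZMod 2), (∀ w, R (Φ w) ↔ Q0 w = c) →
      Nat.card {q // P q ∧ R q} = Nat.card {w // Q0 w = c} := fun R c h => by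
    rw [← Nat.card_congr (Equiv.subtypeSubtypeEquivSubtypeInter P R)]
    exact (Nat.card_congr (Ψ.subtypeEquiv fun w => (h w).symm)).symm
  obtain ⟨k, rfl⟩ : ∃ k, m = k + 1 := ⟨m - 1, by omega⟩
  have hz : Nat.card {v // Q0 v = 0} = 2 ^ (2 * k + 1) + 2 ^ k := LBArf.zeros_plus k
  have ho := LBArf.card_ones Q0
  refine ⟨?_, hcases, ?_, ?_⟩
  · refine (Nat.card_congr Ψ).symm.trans ?_
    rw [Nat.card_fun, Nat.card_zmod, Nat.card_sum, Nat.card_fin, ← two_mul]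
  · refine (hsub RP 0 hRP).trans ?_
    rw [hz, show 2 * (k + 1) - 1 = 2 * k + 1 by omega, Nat.add_sub_cancel]
  · refine (hsub RM 1 hRM).trans ?_
    rw [show 2 * (k + 1) - 1 = 2 * k + 1 by omega, Nat.add_sub_cancel]
    rw [show 2 ^ (2 * (k + 1)) = 2 * 2 ^ (2 * k + 1) by rw [← pow_succ']; congr 1] at ho
    omega

end Cfsg.Agent.S2561

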