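import Cfsg.Statements.S2562
import Cfsg.Agent.Lib.LinearBlock.QuadClass

set_option autoImplicit false
open Cfsg

namespace Cfsg.Agent.S2562

/-- Witt indices over the field of two elements, m ≥ 1: for the plus-type form Σ xᵢyᵢ in dimension 2m some m-dimensional subspace is totally singular and no totally singular subspace has larger dimension; for the minus-type form Σ xᵢyᵢ + (z₁² + z₁z₂ + z₂²) in dimension 2m the maximal dimension of a totally singular subspace is m − 1. -/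
theorem result (m : ℕ) (hm : 1 ≤ m) :
    (∃ U : Submodule (ZMod 2) (Fin m ⊕ Fin m → ZMod 2), (∀ u ∈ U, Cfsg.quadFormPlus m (ZMod 2) u = 0) ∧ Module.finrank (ZMod 2) ↥U = m) ∧
    (∀ U : Submodule (ZMod 2) (Fin m ⊕ Fin m → ZMod 2), (∀ u ∈ U, Cfsg.quadFormPlus m (ZMod 2) u = 0) → Module.finrank (ZMod 2) ↥U ≤ m) ∧
    (∃ U : Submodule (ZMod 2) ((Fin (m - 1) ⊕ Fin (m - 1)) ⊕ Fin 2 → ZMod 2), (∀ u ∈ U, Cfsg.quadFormMinus (m - 1) (ZMod 2) 1 1 u = 0) ∧ Module.finrank (ZMod 2) ↥U = m - 1) ∧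
    (∀ U : Submodule (ZMod 2) ((Fin (m - 1) ⊕ Fin (m - 1)) ⊕ Fin 2 → ZMod 2), (∀ u ∈ U, Cfsg.quadFormMinus (m - 1) (ZMod 2) 1 1 u = 0) → Module.finrank (ZMod 2) ↥U ≤ m - 1) := by
  have hz : ∀ z₁ z₂ : ZMod 2, z₁ ^ 2 + 1 * z₁ * z₂ + 1 * z₂ ^ 2 = 0 → z₁ = 0 ∧ z₂ = 0 := by decide
  obtain ⟨⟨U, hU, hU'⟩, hb⟩ := LBQuad.singular_bound (F := ZMod 2) (Orth.zero_nondeg)
    (fun w _ => Subsingleton.elim w 0) m
  obtain ⟨⟨W, hW, hW'⟩, hb'⟩ := LBQuad.singular_bound (F := ZMod 2) (Orth.qBin_nondeg hz)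
    (fun w hw => LBQuad.qBin_eq_zero hz hw) (m - 1)
  let e := Orth.plusPad (F := ZMod 2) m
  refine ⟨⟨U.map e.toLinearMap, ?_, ?_⟩, fun V hV => ?_, ⟨W, fun u hu => ?_, hW'⟩, fun V hV => hb' V fun u hu => ?_⟩
  · rintro _ ⟨u, hu, rfl⟩
    rw [← Orth.coe_qPlus]
    exact (Orth.plusPad_spec m u).trans (hU u hu)
  · rw [← LinearEquiv.finrank_eq (Submodule.equivMapOfInjective _ e.injective U), hU']
  · have h1 := hb (V.map e.symm.toLinearMap) ?_
    · rwa [← LinearEquiv.finrank_eq (Submodule.equivMapOfInjective _ e.symm.injective V)] at h1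
    · rintro _ ⟨u, hu, rfl⟩
      refine (Orth.plusPad_spec m _).symm.trans ?_
      show Orth.qPlus (ZMod 2) m (e (e.symm u)) = 0
      rw [e.apply_symm_apply, Orth.coe_qPlus]
      exact hV u hu
  · rw [← Orth.coe_qMinus]; exact hW u hu
  · have h1 := hV u hu
    rwa [← Orth.coe_qMinus] at h1

end Cfsg.Agent.S2562

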