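import Cfsg.Statements.S2563
import Cfsg.Agent.Lib.LinearBlock.Arf
import Mathlib.Analysis.Complex.Basic

set_option autoImplicit false
open Cfsg QuadraticMap Module Cfsg.Agent.Orth

namespace Cfsg.Agent.S2563

/-- The weight. -/
def wt {ι : Type} [Fintype ι] (x : ι → ZMod 2) : ℕ := ∑ i, (x i).val

/-- Half the weight, modulo two. -/
def half {ι : Type} [Fintype ι] (x : ι → ZMod 2) : ZMod 2 := (wt x / 2 : ℕ)

theorem wt_cast {ι : Type} [Fintype ι] (x : ι → ZMod 2) : (wt x : ZMod 2) = ∑ i, x i := by
  simp [wt]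

theorem wt_even {ι : Type} [Fintype ι] {x : ι → ZMod 2} (h : ∑ i, x i = 0) : 2 ∣ wt x :=
  (ZMod.natCast_eq_zero_iff_even.1 ((wt_cast x).trans h)).two_dvd

theorem wt_add {ι : Type} [Fintype ι] (x y : ι → ZMod 2) :
    wt (x + y) + 2 * wt (x * y) = wt x + wt y := by
  simp only [wt, Finset.mul_sum, ← Finset.sum_add_distrib]
  refine Finset.sum_congr rfl fun i _ => ?_
  simp only [Pi.add_apply, Pi.mul_apply]
  generalize x i = a; generalize y i = b
  revert a b; decide

theorem half_add {ι : Type} [Fintype ι] {x y : ι → ZMod 2} (hx : ∑ i, x i = 0) (hy : ∑ i, y i = 0) :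
    half (x + y) = half x + half y + ∑ i, x i * y i := by
  have hxy : ∑ i, (x + y) i = 0 := by simp [Finset.sum_add_distrib, hx, hy]
  obtain ⟨a, ha⟩ := wt_even hx
  obtain ⟨b, hb⟩ := wt_even hy
  obtain ⟨c, hc⟩ := wt_even hxy
  have h := wt_add x y
  rw [ha, hb, hc] at h
  have h' : ((c + wt (x * y) : ℕ) : ZMod 2) = ((a + b : ℕ) : ZMod 2) := by congr 1; omega
  simp only [Nat.cast_add, wt_cast, Pi.mul_apply] at h'
  simp only [half, ha, hb, hc, Nat.mul_div_cancel_left _ (show 0 < 2 by norm_num)]
  linear_combination h' - (LBArf.two_mul_zero (∑ i, x i * y i))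

variable (k : ℕ)

/-- Even vectors of odd length. -/
def E : Submodule (ZMod 2) (Fin (4 * k + 3) → ZMod 2) where
  carrier := {x | ∑ i, x i = 0}
  zero_mem' := by simp
  add_mem' := fun {x y} (hx : _ = _) (hy : _ = _) => by simp [Finset.sum_add_distrib, hx, hy]
  smul_mem' := fun c x (hx : _ = _) => by simp [← Finset.mul_sum, hx]

theorem mem_E {x : Fin (4 * k + 3) → ZMod 2} : x ∈ E k ↔ ∑ i, x i = 0 := Iff.rfl

theorem finrank_E : finrank (ZMod 2) (E k) = 4 * k + 2 := by
  let f : (Fin (4 * k + 3) → ZMod 2) →ₗ[ZMod 2] ZMod 2 := ∑ i, LinearMap.proj i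
  have hf : LinearMap.ker f = E k := by ext x; simp [f, mem_E]
  have hs : LinearMap.range f = ⊤ := LinearMap.range_eq_top.2 fun c => ⟨Pi.single 0 c, by simp [f]⟩
  have h := LinearMap.finrank_range_add_finrank_ker f
  rw [hf, hs, finrank_top, finrank_self, finrank_fin_fun] at h
  omega

/-- The quadratic form. -/
def form : QuadraticForm (ZMod 2) (E k) :=
  QuadraticMap.ofPolar (fun x => half x.1)
    (fun a x => by rcases LBArf.cases_zmod a with rfl | rfl <;> simp [half, wt])
    (fun x x' y => by
      simp only [polar, Submodule.coe_add, half_add (x.2) (y.2), half_add (x'.2) (y.2),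
        half_add ((x + x').2) (y.2), half_add x.2 x'.2, Pi.add_apply, add_mul, Finset.sum_add_distrib]
      rw [show (x : Fin (4 * k + 3) → ZMod 2) + x' + y = ((x + x' : E k) : Fin (4 * k + 3) → ZMod 2) + y from rfl,
        half_add ((x + x').2) y.2]
      simp only [Submodule.coe_add, half_add x.2 x'.2, Pi.add_apply, add_mul, Finset.sum_add_distrib]
      ring)
    (fun a x y => by rcases LBArf.cases_zmod a with rfl | rfl <;> simp [polar, half, wt])

theorem form_apply (x : E k) : form k x = half x.1 := rfl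

theorem polar_form (x y : E k) : polar (form k) x y = ∑ i, x.1 i * y.1 i := by
  simp only [polar, form_apply, Submodule.coe_add, half_add x.2 y.2]
  ring

theorem form_nondeg : (polarBilin (form k)).Nondegenerate := by
  refine nondeg_of fun x hx => ?_
  have hconst : ∀ a b, x.1 a = x.1 b := by
    intro a b
    rcases eq_or_ne a b with rfl | hab
    · rfl
    have hy : (Pi.single a 1 + Pi.single b 1 : Fin (4 * k + 3) → ZMod 2) ∈ E k := by
      simp [mem_E, Finset.sum_add_distrib, show (1 : ZMod 2) + 1 = 0 by decide]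
    have h := (polar_form k x ⟨_, hy⟩).symm.trans (hx _)
    simp [mul_add, Finset.sum_add_distrib, Pi.single_apply] at h
    revert h
    generalize x.1 a = p; generalize x.1 b = q
    revert p q; decide
  apply Subtype.ext
  funext i
  have h := x.2
  rw [mem_E, Finset.sum_congr rfl (fun j _ => hconst j i), Finset.sum_const, Finset.card_univ, Fintype.card_fin,
    nsmul_eq_mul, show ((4 * k + 3 : ℕ) : ZMod 2) = 1 by push_cast; linear_combination (LBArf.two_mul_zero (2 * (k : ZMod 2) + 1)), one_mul] at h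
  exact h

/-- Extension by a zero coordinate. -/
def ext0 (x : Fin (4 * k + 3) → ZMod 2) : Fin (4 * k + 4) → ZMod 2 := Fin.snoc x 0

/-- Reduction modulo the all-one vector. -/
def res (y : Fin (4 * k + 4) → ZMod 2) : Fin (4 * k + 3) → ZMod 2 := fun i => y i.castSucc + y (Fin.last _)

theorem res_mem {y : Fin (4 * k + 4) → ZMod 2} (h : ∑ i, y i = 0) : res k y ∈ E k := by
  rw [Fin.sum_univ_castSucc] at h
  simp only [mem_E, res, Finset.sum_add_distrib, Finset.sum_const, Finset.card_univ, Fintype.card_fin, nsmul_eq_mul]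
  push_cast
  linear_combination h + (LBArf.two_mul_zero ((2 * (k : ZMod 2) + 1) * y (Fin.last _)))

theorem half_res {y : Fin (4 * k + 4) → ZMod 2} (h : ∑ i, y i = 0) : half (res k y) = half y := by
  have hw : wt y = (∑ i : Fin (4 * k + 3), (y i.castSucc).val) + (y (Fin.last _)).val := Fin.sum_univ_castSucc _
  rcases LBArf.cases_zmod (y (Fin.last _)) with h0 | h1
  · simp [half, wt, res, h0, Fin.sum_univ_castSucc]
  · have hsum : wt (res k y) + wt y = 4 * k + 4 := by
      rw [hw, h1, ← add_assoc, wt, ← Finset.sum_add_distrib,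
        Finset.sum_congr rfl (fun i _ => show (res k y i).val + (y i.castSucc).val = 1 by
          simp only [res, h1]; generalize y i.castSucc = a; revert a; decide)]
      simp [ZMod.val_one]
    obtain ⟨b, hb⟩ := wt_even h
    have ha' : wt (res k y) = 2 * (2 * k + 2 - b) := by omega
    simp only [half, hb, ha', Nat.mul_div_cancel_left _ (show 0 < 2 by norm_num)]
    have hle : b ≤ 2 * k + 2 := by omega
    rw [Nat.cast_sub hle]
    push_cast
    linear_combination (LBArf.two_mul_zero ((k : ZMod 2) + 1 - (b : ZMod 2)))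

theorem sum_ext0 (x : E k) : ∑ i, ext0 k x.1 i = 0 := by
  rw [Fin.sum_univ_castSucc]
  simpa [ext0] using (mem_E k).1 x.2

theorem half_ext0 (x : Fin (4 * k + 3) → ZMod 2) : half (ext0 k x) = half x := by
  simp [half, wt, ext0, Fin.sum_univ_castSucc]

theorem sum_perm (x : E k) (g : Equiv.Perm (Fin (4 * k + 4))) : ∑ i, (ext0 k x.1 ∘ g.symm) i = 0 := by
  simp only [Function.comp_apply]
  rw [Equiv.sum_comp g.symm (ext0 k x.1)]
  exact sum_ext0 k x

/-- The action of a permutation. -/
def act (g : Equiv.Perm (Fin (4 * k + 4))) : E k →ₗ[ZMod 2] E k where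
  toFun x := ⟨res k (ext0 k x.1 ∘ g.symm), res_mem k (sum_perm k x g)⟩
  map_add' x y := Subtype.ext (funext fun i => by
    simp only [Submodule.coe_add, res, Function.comp_apply, Pi.add_apply]
    have : ∀ j, ext0 k (x.1 + y.1) j = ext0 k x.1 j + ext0 k y.1 j := fun j => by
      refine Fin.lastCases ?_ (fun l => ?_) j <;> simp [ext0]
    rw [this, this]; ring)
  map_smul' c x := Subtype.ext (funext fun i => by
    simp only [Submodule.coe_smul, res, Function.comp_apply, Pi.smul_apply, RingHom.id_apply, smul_eq_mul]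
    have : ∀ j, ext0 k (c • x.1) j = c * ext0 k x.1 j := fun j => by
      refine Fin.lastCases ?_ (fun l => ?_) j <;> simp [ext0]
    rw [this, this]; ring)

theorem act_apply (g : Equiv.Perm (Fin (4 * k + 4))) (x : E k) :
    (act k g x).1 = res k (ext0 k x.1 ∘ g.symm) := rfl

theorem act_form (g : Equiv.Perm (Fin (4 * k + 4))) (x : E k) : form k (act k g x) = form k x := by
  rw [form_apply, form_apply, act_apply, half_res k (sum_perm k x g), ← half_ext0]
  simp only [half, wt, Function.comp_apply]
  rw [Equiv.sum_comp g.symm (fun i => (ext0 k x.1 i).val)]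

/-- The action as a homomorphism. -/
def rho : Equiv.Perm (Fin (4 * k + 4)) →* Module.End (ZMod 2) (E k) where
  toFun := act k
  map_one' := LinearMap.ext fun x => Subtype.ext (funext fun i => by
    simp [act_apply, res, ext0, show (1 : Equiv.Perm (Fin (4 * k + 4))).symm = 1 from rfl])
  map_mul' g h := LinearMap.ext fun x => Subtype.ext (by
    have key : ∀ y j, ext0 k (res k y) j = y j + y (Fin.last _) := fun y j => by
      refine Fin.lastCases ?_ (fun l => ?_) j
      · simp only [ext0, Fin.snoc_last]; generalize y (Fin.last _) = a; revert a; decide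
      · simp [ext0, res]
    funext i
    simp only [Module.End.mul_apply, act_apply]
    simp only [res, Function.comp_apply, key]
    show ext0 k x.1 (h.symm (g.symm i.castSucc)) + ext0 k x.1 (h.symm (g.symm (Fin.last _))) = _
    linear_combination -(LBArf.two_mul_zero (ext0 k x.1 (h.symm (Fin.last _)))))

theorem rho_injective (hk : 1 ≤ k) : Function.Injective (rho k) := by
  rw [injective_iff_map_eq_one]
  intro g hg
  have hfix : ∀ (x : E k) (j), ext0 k x.1 (g.symm j) = ext0 k x.1 j + ext0 k x.1 (g.symm (Fin.last _)) := by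
    intro x
    have h : (act k g x).1 = x.1 := congrArg Subtype.val (LinearMap.congr_fun hg x)
    intro j
    refine Fin.lastCases ?_ (fun l => ?_) j
    · simp [ext0]
    · have h' := congrFun h l
      rw [act_apply] at h'
      simp only [res, Function.comp_apply] at h'
      simp only [ext0, Fin.snoc_castSucc] at h' ⊢
      linear_combination h' - (LBArf.two_mul_zero ((Fin.snoc x.1 0 : Fin (4 * k + 4) → ZMod 2) (g.symm (Fin.last _))))
  have key : ∀ a b : Fin (4 * k + 3), a ≠ b → g a.castSucc = a.castSucc ∨ g a.castSucc = b.castSucc := by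
    intro a b hab
    have hy : (Pi.single a 1 + Pi.single b 1 : Fin (4 * k + 3) → ZMod 2) ∈ E k := by
      simp [mem_E, Finset.sum_add_distrib, show (1 : ZMod 2) + 1 = 0 by decide]
    let x : E k := ⟨_, hy⟩
    have hsupp : ∀ j, ext0 k x.1 j = 1 ↔ (j = a.castSucc ∨ j = b.castSucc) := fun j => by
      refine Fin.lastCases ?_ (fun l => ?_) j
      · simp [ext0, (Fin.castSucc_lt_last _).ne']
      · simp only [ext0, x, Fin.snoc_castSucc, Pi.add_apply, Fin.castSucc_inj]
        rcases eq_or_ne l a with rfl | hla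
        · simp [hab]
        · rcases eq_or_ne l b with rfl | hlb <;> simp_all
    rcases LBArf.cases_zmod (ext0 k x.1 (g.symm (Fin.last _))) with h0 | h1
    · have h := hfix x (g a.castSucc)
      rw [h0, add_zero, Equiv.symm_apply_apply, (hsupp _).2 (Or.inl rfl)] at h
      exact (hsupp _).1 h.symm
    · exfalso
      -- the complement of a pair is too large
      have hall : ∀ j, j ≠ g a.castSucc → j ≠ g b.castSucc → ext0 k x.1 j = 1 := by
        intro j ha hb
        have h := hfix x j
        rw [h1] at h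
        have h0 : ext0 k x.1 (g.symm j) = 0 := (LBArf.cases_zmod _).resolve_right fun e => by
          rcases (hsupp _).1 e with e | e
          · exact ha (by rw [← e, Equiv.apply_symm_apply])
          · exact hb (by rw [← e, Equiv.apply_symm_apply])
        rw [h0] at h
        revert h; generalize ext0 k x.1 j = c; revert c; decide
      have hsub : (Finset.univ : Finset (Fin (4 * k + 4))) ⊆ {g a.castSucc, g b.castSucc, a.castSucc, b.castSucc} := by
        intro j _
        by_cases ha : j = g a.castSucc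
        · simp [ha]
        by_cases hb : j = g b.castSucc
        · simp [hb]
        rcases (hsupp j).1 (hall j ha hb) with e | e <;> simp [e]
      have := (Finset.card_le_card hsub).trans Finset.card_le_four
      rw [Finset.card_univ, Fintype.card_fin] at this
      omega
  refine Equiv.ext fun j => ?_
  have hcs : ∀ a : Fin (4 * k + 3), g a.castSucc = a.castSucc := by
    intro a
    by_contra hne
    obtain ⟨b, hb, c, hc, hbc⟩ : ∃ b, b ∈ ({a}ᶜ : Finset _) ∧ ∃ c, c ∈ ({a}ᶜ : Finset (Fin (4 * k + 3))) ∧ b ≠ c := by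
      obtain ⟨b, hb, c, hc, hbc⟩ := Finset.one_lt_card.1 (show 1 < ({a}ᶜ : Finset (Fin (4 * k + 3))).card by
        rw [Finset.card_compl, Finset.card_singleton, Fintype.card_fin]; omega)
      exact ⟨b, hb, c, hc, hbc⟩
    simp only [Finset.mem_compl, Finset.mem_singleton] at hb hc
    have h1 := (key a b (Ne.symm hb)).resolve_left hne
    have h2 := (key a c (Ne.symm hc)).resolve_left hne
    exact hbc (Fin.castSucc_injective _ (h1.symm.trans h2))
  refine Fin.lastCases ?_ hcs j
  by_contra hne
  obtain ⟨l, hl⟩ := Fin.exists_castSucc_eq.2 hne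
  exact (Fin.castSucc_lt_last l).ne (g.injective ((hcs l).trans hl))

theorem gauss : 2 * (Nat.card {x : E k // form k x = 0} : ℝ) - 2 ^ (4 * k + 2) = (-4) ^ k * (-2) := by
  classical
  have hI : ∑ x : Fin (4 * k + 3) → ZMod 2, (Complex.I) ^ wt x = (1 + Complex.I) ^ (4 * k + 3) := by
    have h := Fintype.prod_sum (fun (_ : Fin (4 * k + 3)) (a : ZMod 2) => (Complex.I) ^ a.val)
    simp only [Finset.prod_pow_eq_pow_sum] at h
    rw [show (Finset.univ : Finset (ZMod 2)) = {0, 1} by decide, Finset.sum_pair (by decide)] at h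
    rw [show (fun x : Fin (4 * k + 3) → ZMod 2 => Complex.I ^ wt x) = fun x => Complex.I ^ ∑ i, (x i).val from rfl, ← h]
    simp [ZMod.val_one]
  have hre : ∀ m : ℕ, ((Complex.I) ^ m).re = if 2 ∣ m then (if ((m / 2 : ℕ) : ZMod 2) = 0 then 1 else -1) else 0 := by
    intro m
    rcases Nat.even_or_odd' m with ⟨j, rfl | rfl⟩
    · rw [pow_mul, Complex.I_sq, if_pos (Dvd.intro _ rfl), Nat.mul_div_cancel_left _ two_pos]
      rcases Nat.even_or_odd j with hj | hj
      · rw [hj.neg_one_pow, if_pos (ZMod.natCast_eq_zero_iff_even.2 hj)]; simp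
      · rw [hj.neg_one_pow, if_neg (fun e => (Nat.not_even_iff_odd.2 hj) (ZMod.natCast_eq_zero_iff_even.1 e))]; simp
    · rw [pow_succ, pow_mul, Complex.I_sq, if_neg (by omega)]
      rcases Nat.even_or_odd j with hj | hj <;> simp [hj.neg_one_pow]
  have hpow : ((1 + Complex.I) ^ (4 * k + 3)).re = (-4) ^ k * (-2) := by
    have h4 : (1 + Complex.I) ^ 4 = ((-4 : ℝ) : ℂ) := by
      rw [show (1 + Complex.I) ^ 4 = ((1 + Complex.I) ^ 2) ^ 2 by ring, show (1 + Complex.I) ^ 2 = 2 * Complex.I by
        linear_combination Complex.I_sq]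
      push_cast; linear_combination 4 * Complex.I_sq
    have h3 : ((1 + Complex.I) ^ 3).re = -2 := by simp [pow_succ]; norm_num
    rw [pow_add, pow_mul, h4, ← Complex.ofReal_pow, Complex.re_ofReal_mul, h3]
  have heq : ∑ x : Fin (4 * k + 3) → ZMod 2, ((Complex.I) ^ wt x).re
      = ∑ x : E k, (if form k x = 0 then (1 : ℝ) else -1) := by
    simp only [hre]
    rw [← Finset.sum_filter, Finset.sum_subtype (p := fun x => x ∈ E k)]
    · rfl
    · intro x
      rw [Finset.mem_filter, mem_E, ← wt_cast, ZMod.natCast_eq_zero_iff_even, even_iff_two_dvd]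
      simp
  rw [← hpow, ← hI, Complex.re_sum, heq, Finset.sum_ite, Finset.sum_const, Finset.sum_const, nsmul_eq_mul, mul_one,
    nsmul_eq_mul, Nat.card_eq_fintype_card, Fintype.card_subtype]
  have hc := Finset.card_filter_add_card_filter_not (s := (Finset.univ : Finset (E k))) (fun x => form k x = 0)
  rw [Finset.card_univ, Module.card_eq_pow_finrank (K := ZMod 2), ZMod.card, finrank_E] at hc
  have hcR : ((Finset.univ.filter fun x : E k => form k x = 0).card : ℝ) + ((Finset.univ.filter fun x : E k => ¬ form k x = 0).card : ℝ) = 2 ^ (4 * k + 2) := by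
    exact_mod_cast hc
  linear_combination hcR

/-- Transport of the action along an isometry. -/
theorem transport {ι : Type} [Fintype ι] [DecidableEq ι] (q : (ι → ZMod 2) → ZMod 2)
    (e : E k ≃ₗ[ZMod 2] (ι → ZMod 2)) (he : ∀ v, form k v = q (e v)) (hk : 1 ≤ k) :
    ∃ φ : Equiv.Perm (Fin (4 * k + 4)) →* ↥(Cfsg.isometryGroup (ZMod 2) q), Function.Injective φ := by
  let T : Module.End (ZMod 2) (E k) →* Matrix ι ι (ZMod 2) :=
    (LinearMap.toMatrixAlgEquiv' : ((ι → ZMod 2) →ₗ[ZMod 2] (ι → ZMod 2)) ≃ₐ[ZMod 2] _).toMulEquiv.toMonoidHom.comp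
      e.conjRingEquiv.toMulEquiv.toMonoidHom
  have hT : Function.Injective T := fun a b h =>
    e.conjRingEquiv.injective (LinearMap.toMatrixAlgEquiv'.injective h)
  let ψ := (T.comp (rho k)).toHomUnits
  have hmem : ∀ g, ψ g ∈ Cfsg.isometryGroup (ZMod 2) q := by
    intro g u _
    show q ((LinearMap.toMatrixAlgEquiv' (e.conjRingEquiv (act k g))).mulVec u) = q u
    rw [← Matrix.toLinAlgEquiv'_apply, Matrix.toLinAlgEquiv'_toMatrixAlgEquiv']
    show q (e (act k g (e.symm u))) = q u
    rw [← he, act_form, he, e.apply_symm_apply]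
  refine ⟨ψ.codRestrict _ hmem, fun g h e' => rho_injective k hk (hT ?_)⟩
  exact congrArg (fun z : ↥(Cfsg.isometryGroup (ZMod 2) q) => (z.1 : Matrix ι ι (ZMod 2))) e'

/-- For k ≥ 1 the symmetric group of degree 4k + 4 embeds in a full orthogonal group in dimension 4k + 2 over the field of two elements: in the isometry group of the plus-type form Σ xᵢyᵢ when k is odd, and in that of the minus-type form Σ xᵢyᵢ + (z₁² + z₁z₂ + z₂²) when k is even (through its action on even partitions of a (4k+4)-set, with the form 'half the size of a part, modulo 2'). -/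
theorem result (k : ℕ) (hk : 1 ≤ k) :
    (Odd k → ∃ φ : Equiv.Perm (Fin (4 * k + 4)) →* ↥(Cfsg.isometryGroup (ZMod 2) (Cfsg.quadFormPlus (2 * k + 1) (ZMod 2))), Function.Injective φ) ∧
    (Even k → ∃ φ : Equiv.Perm (Fin (4 * k + 4)) →* ↥(Cfsg.isometryGroup (ZMod 2) (Cfsg.quadFormMinus (2 * k) (ZMod 2) 1 1)), Function.Injective φ) := by
  have hg := gauss k
  have hp : ((4 : ℝ) ^ k) = 2 ^ (2 * k) := by rw [pow_mul]; norm_num
  rcases LBQuad.classify_even (form_nondeg k) (m := 2 * k + 1) (by rw [finrank_E]; ring) with ⟨g, hgv⟩ | ⟨ζ, hζ, g, hgv⟩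
  · have hz := Nat.card_congr (zerosCongr g (fun x => (hgv x).symm))
    rw [LBArf.zeros_plus] at hz
    refine ⟨fun _ => transport k _ g (fun v => by rw [hgv, Orth.coe_qPlus]) hk, fun he => ?_⟩
    exfalso
    rw [he.neg_pow, hp, hz] at hg
    push_cast at hg
    have : (0 : ℝ) < 2 ^ (2 * k) := by positivity
    rw [show 2 * (2 * k) + 1 = 4 * k + 1 by ring, show (2:ℝ) ^ (4 * k + 2) = 2 * 2 ^ (4 * k + 1) by rw [← pow_succ']] at hg
    linarith
  · obtain rfl : ζ = 1 := (LBArf.cases_zmod ζ).resolve_left fun e => hζ 0 (by rw [e]; ring)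
    have hz := Nat.card_congr (zerosCongr g (fun x => (hgv x).symm))
    refine ⟨fun ho => ?_, fun _ => transport k _ g (fun v => by rw [hgv, Orth.coe_qMinus]; congr) hk⟩
    exfalso
    have hm := LBArf.zeros_minus (2 * k)
    rw [show 2 * k + 1 - 1 = 2 * k by omega] at hz
    rw [hz] at hg
    rw [ho.neg_pow, hp] at hg
    have hmR : (Nat.card {v // qMinus (ZMod 2) (2 * k) 1 1 v = 0} : ℝ) + 2 ^ (2 * k) = 2 ^ (2 * (2 * k) + 1) := by
      exact_mod_cast hm
    have : (0 : ℝ) < 2 ^ (2 * k) := by positivity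
    rw [show 2 * (2 * k) + 1 = 4 * k + 1 by ring] at hmR
    rw [show (2:ℝ) ^ (4 * k + 2) = 2 * 2 ^ (4 * k + 1) by rw [← pow_succ']] at hg
    linarith

end Cfsg.Agent.S2563
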