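import Cfsg.Statements.S2565
import Cfsg.Agent.Lib.OrthTwo.SymEight
import Mathlib.GroupTheory.SpecificGroups.Alternating.Centralizer

set_option autoImplicit false
open Cfsg

namespace Cfsg.Agent.S2565

/-- The commutator subgroup of the full orthogonal group of the plus-type form Σ xᵢyᵢ in dimension 6 over the field of two elements (the group Ω⁺₆(2), of index 2) is isomorphic to the alternating group of degree 8. -/
theorem result :
    (Cfsg.Omega (ZMod 2) (Cfsg.quadFormPlus 3 (ZMod 2))).index = 2 ∧
    Nonempty (↥(Cfsg.Omega (ZMod 2) (Cfsg.quadFormPlus 3 (ZMod 2))) ≃* alternatingGroup (Fin 8)) := by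
  have hmap : (alternatingGroup (Fin 8)).map SymEight.equiv.toMonoidHom =
      Cfsg.Omega (ZMod 2) (Cfsg.quadFormPlus 3 (ZMod 2)) := by
    rw [← alternatingGroup.commutator_perm_eq (by simp)]
    rw [commutator_def, Subgroup.map_commutator, Subgroup.map_top_of_surjective SymEight.equiv.toMonoidHom SymEight.equiv.surjective]
    rfl
  refine ⟨?_, ⟨((SymEight.equiv.subgroupMap _).trans (MulEquiv.subgroupCongr hmap)).symm⟩⟩
  rw [← hmap]
  exact (Subgroup.index_map_of_bijective (f := SymEight.equiv.toMonoidHom) SymEight.equiv.bijective _).trans alternatingGroup.index_eq_two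

end Cfsg.Agent.S2565
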