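import Cfsg.Statements.S2566

set_option autoImplicit false
open Cfsg Matrix

namespace Cfsg.Agent.S2566

abbrev V := Fin 2 ⊕ Fin 2 → ZMod 2

/-- The form. -/
abbrev Q : V → ZMod 2 := Cfsg.quadFormPlus 2 (ZMod 2)

/-- The six vectors of value one: two triples spanning orthogonal planes. -/
def w : Fin 6 → V :=
  ![Sum.elim ![1, 0] ![1, 0], Sum.elim ![1, 1] ![0, 1], Sum.elim ![0, 1] ![1, 1],
    Sum.elim ![0, 1] ![0, 1], Sum.elim ![1, 1] ![1, 0], Sum.elim ![1, 0] ![1, 1]]

/-- Positions of the basis. -/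
def base : Fin 2 ⊕ Fin 2 → Fin 6 := Sum.elim ![0, 1] ![3, 4]

/-- Matrix with the chosen columns. -/
def cols (f : Fin 2 ⊕ Fin 2 → Fin 6) : Matrix (Fin 2 ⊕ Fin 2) (Fin 2 ⊕ Fin 2) (ZMod 2) :=
  Matrix.of fun i j => w (f j) i

/-- Inverse of the basis matrix, computed by applying coordinates. -/
def Pinv : Matrix (Fin 2 ⊕ Fin 2) (Fin 2 ⊕ Fin 2) (ZMod 2) :=
  Matrix.of fun i j => match i, j with
    | .inl 0, .inl 0 => 0 | .inl 0, .inl 1 => 1 | .inl 0, .inr 0 => 1 | .inl 0, .inr 1 => 1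
    | .inl 1, .inl 0 => 1 | .inl 1, .inl 1 => 0 | .inl 1, .inr 0 => 1 | .inl 1, .inr 1 => 0
    | .inr 0, .inl 0 => 1 | .inr 0, .inl 1 => 0 | .inr 0, .inr 0 => 1 | .inr 0, .inr 1 => 1
    | .inr 1, .inl 0 => 0 | .inr 1, .inl 1 => 1 | .inr 1, .inr 0 => 0 | .inr 1, .inr 1 => 1

theorem base_mul_inv : cols base * Pinv = 1 := by decide +kernel

theorem inv_mul_base : Pinv * cols base = 1 := by decide +kernel

/-- The matrix sending the basis to the chosen vectors. -/
def mat (f : Fin 2 ⊕ Fin 2 → Fin 6) : Matrix (Fin 2 ⊕ Fin 2) (Fin 2 ⊕ Fin 2) (ZMod 2) := cols f * Pinv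

/-- Compatibility of four vectors with the form. -/
def ok (f : Fin 2 ⊕ Fin 2 → Fin 6) : Prop :=
  ∀ i j, Q (w (f i) + w (f j)) = Q (w (base i) + w (base j))

instance : DecidablePred ok := fun f => by unfold ok; infer_instance

theorem card_ok : Fintype.card {f // ok f} = 72 := by decide +kernel

theorem mat_iso : ∀ f, ok f → ∀ v : V, Q (mat f *ᵥ v) = Q v ∧ (mat f *ᵥ v = 0 → v = 0) := by
  decide +kernel

/-- The index of a vector of value one. -/
def idx (v : V) : Fin 6 := ((List.finRange 6).find? fun k => decide (w k = v)).getD 0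

theorem w_idx : ∀ v : V, Q v = 1 → w (idx v) = v := by decide +kernel

theorem idx_w : ∀ k, idx (w k) = k := by decide +kernel

theorem Q_w : ∀ k, Q (w k) = 1 := by decide +kernel

abbrev G := ↥(Cfsg.isometryGroup (ZMod 2) (Cfsg.quadFormPlus 2 (ZMod 2)))

theorem G_iso (g : G) (v : V) : Q (g.1.1 *ᵥ v) = Q v := g.2 v v

/-- The four images of the basis under an isometry. -/
def imgs (g : G) (i : Fin 2 ⊕ Fin 2) : Fin 6 := idx (g.1.1 *ᵥ w (base i))

theorem w_imgs (g : G) (i : Fin 2 ⊕ Fin 2) : w (imgs g i) = g.1.1 *ᵥ w (base i) :=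
  w_idx _ (by rw [G_iso, Q_w])

theorem ok_imgs (g : G) : ok (imgs g) := fun i j => by
  rw [w_imgs, w_imgs, ← Matrix.mulVec_add, G_iso]

/-- The isometry with prescribed basis images. -/
noncomputable def mk (f : Fin 2 ⊕ Fin 2 → Fin 6) (hf : ok f) : G :=
  ⟨Matrix.GeneralLinearGroup.mkOfDetNeZero (mat f) (fun h => by
      obtain ⟨v, hv0, hv⟩ := Matrix.exists_mulVec_eq_zero_iff.2 h
      exact hv0 ((mat_iso f hf v).2 hv)),
    fun u _ => (mat_iso f hf u).1⟩

theorem mat_mulVec (f : Fin 2 ⊕ Fin 2 → Fin 6) (i : Fin 2 ⊕ Fin 2) : mat f *ᵥ w (base i) = w (f i) := by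
  have h : mat f * cols base = cols f := by rw [mat, mul_assoc, inv_mul_base, mul_one]
  have h' := congrArg (fun M : Matrix _ _ (ZMod 2) => fun k => M k i) h
  exact h'

theorem ext_base {g h : G} (e : ∀ i, g.1.1 *ᵥ w (base i) = h.1.1 *ᵥ w (base i)) : g = h := by
  apply Subtype.ext
  apply Units.ext
  have h1 : g.1.1 * cols base = h.1.1 * cols base := by
    ext k i
    exact congrFun (e i) k
  have h2 := congrArg (· * Pinv) h1
  simpa [mul_assoc, base_mul_inv] using h2

/-- Isometries correspond to compatible quadruples. -/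
noncomputable def equiv : G ≃ {f // ok f} where
  toFun g := ⟨imgs g, ok_imgs g⟩
  invFun f := mk f.1 f.2
  left_inv g := ext_base fun i => (mat_mulVec _ i).trans (w_imgs g i)
  right_inv f := Subtype.ext (funext fun i => by
    show idx (mat f.1 *ᵥ w (base i)) = f.1 i
    rw [mat_mulVec, idx_w])

/-- The permutation of the six vectors attached to a pair of permutations. -/
def six (p : Equiv.Perm (Fin 3) × Equiv.Perm (Fin 3)) (k : Fin 6) : Fin 6 :=
  if h : k.1 < 3 then ⟨(p.1 ⟨k.1, h⟩).1, by omega⟩ else ⟨3 + (p.2 ⟨k.1 - 3, by omega⟩).1, by omega⟩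

theorem ok_six : ∀ p, ok (six p ∘ base) := by decide +kernel

theorem mat_six : ∀ p k, mat (six p ∘ base) *ᵥ w k = w (six p k) := by decide +kernel

theorem six_mul : ∀ p q k, six (p * q) k = six p (six q k) := by decide +kernel

theorem six_inj : ∀ p q, (∀ i, six p (base i) = six q (base i)) → p = q := by decide +kernel

/-- The two commuting symmetric groups. -/
noncomputable def hom : Equiv.Perm (Fin 3) × Equiv.Perm (Fin 3) →* G :=
  MonoidHom.mk' (fun p => mk _ (ok_six p)) fun p q => ext_base fun i => by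
    show mat (six (p * q) ∘ base) *ᵥ w (base i) = (mat (six p ∘ base) * mat (six q ∘ base)) *ᵥ w (base i)
    rw [← Matrix.mulVec_mulVec, mat_six, mat_six, mat_six, six_mul]

theorem hom_injective : Function.Injective hom := fun p q h =>
  six_inj p q (congrFun (congrArg Subtype.val (congrArg equiv h) |>.symm |> fun e => by
    have h1 : equiv (hom p) = ⟨six p ∘ base, ok_six p⟩ := equiv.apply_symm_apply ⟨_, ok_six p⟩
    have h2 : equiv (hom q) = ⟨six q ∘ base, ok_six q⟩ := equiv.apply_symm_apply ⟨_, ok_six q⟩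
    rw [h1, h2] at e
    exact e.symm))

/-- The quadruple swapping the two planes. -/
def swapQ : Fin 2 ⊕ Fin 2 → Fin 6 := Sum.elim ![3, 4] ![0, 1]

theorem ok_swap : ok swapQ := by decide +kernel

theorem swap_conj : ∀ σ : Equiv.Perm (Fin 3),
    mat swapQ * mat (six (σ, 1) ∘ base) = mat (six (1, σ) ∘ base) * mat swapQ := by decide +kernel

theorem val_mk (f : Fin 2 ⊕ Fin 2 → Fin 6) (hf : ok f) : (mk f hf).1.1 = mat f := rfl

theorem conj_eq (σ : Equiv.Perm (Fin 3)) :
    mk swapQ ok_swap * hom (σ, 1) = hom (1, σ) * mk swapQ ok_swap := by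
  apply Subtype.ext
  apply Units.ext
  rw [Subgroup.coe_mul, Subgroup.coe_mul, Units.val_mul, Units.val_mul, show hom (σ, 1) = mk _ (ok_six (σ, 1)) from rfl,
    show hom (1, σ) = mk _ (ok_six (1, σ)) from rfl, val_mk, val_mk, val_mk, swap_conj]

/-- The full orthogonal group of the plus-type form x₁y₁ + x₂y₂ in dimension 4 over the field of two elements has order 72 and is isomorphic to the wreath product of the symmetric group of degree 3 by a group of order 2: it has a normal subgroup isomorphic to the direct product of two symmetric groups of degree 3, of index 2, whose two direct factors are interchanged by conjugation by some element. -/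
theorem result :
    Nat.card ↥(Cfsg.isometryGroup (ZMod 2) (Cfsg.quadFormPlus 2 (ZMod 2))) = 72 ∧
    ∃ (A B : Subgroup ↥(Cfsg.isometryGroup (ZMod 2) (Cfsg.quadFormPlus 2 (ZMod 2)))),
      Nonempty (↥A ≃* Equiv.Perm (Fin 3)) ∧ Nonempty (↥B ≃* Equiv.Perm (Fin 3)) ∧ A ⊓ B = ⊥ ∧ (∀ a ∈ A, ∀ b ∈ B, a * b = b * a) ∧
      (A ⊔ B).index = 2 ∧ ∃ g : ↥(Cfsg.isometryGroup (ZMod 2) (Cfsg.quadFormPlus 2 (ZMod 2))), A.map (MulAut.conj g).toMonoidHom = B := by
  have hcard : Nat.card G = 72 := by rw [Nat.card_congr equiv, Nat.card_eq_fintype_card, card_ok]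
  let f1 : Equiv.Perm (Fin 3) →* G := hom.comp (MonoidHom.inl _ _)
  let f2 : Equiv.Perm (Fin 3) →* G := hom.comp (MonoidHom.inr _ _)
  have h1 : Function.Injective f1 := fun a b h => congrArg Prod.fst (hom_injective h)
  have h2 : Function.Injective f2 := fun a b h => congrArg Prod.snd (hom_injective h)
  refine ⟨hcard, f1.range, f2.range, ⟨(MonoidHom.ofInjective h1).symm⟩, ⟨(MonoidHom.ofInjective h2).symm⟩, ?_, ?_, ?_, mk swapQ ok_swap, ?_⟩
  · rw [Subgroup.eq_bot_iff_forall]
    rintro x ⟨⟨a, rfl⟩, ⟨b, hb⟩⟩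
    have := congrArg Prod.fst (hom_injective hb)
    rw [show a = 1 from this.symm, map_one]
  · rintro _ ⟨a, rfl⟩ _ ⟨b, rfl⟩
    simp only [f1, f2, MonoidHom.comp_apply, MonoidHom.inl_apply, MonoidHom.inr_apply, ← map_mul]
    simp
  · have hsup : f1.range ⊔ f2.range = hom.range := by
      refine le_antisymm (sup_le (by rintro _ ⟨a, rfl⟩; exact ⟨_, rfl⟩) (by rintro _ ⟨a, rfl⟩; exact ⟨_, rfl⟩)) ?_
      rintro _ ⟨⟨a, b⟩, rfl⟩
      rw [show (a, b) = ((a, 1) : _ × _) * (1, b) by simp, map_mul]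
      exact mul_mem (Subgroup.mem_sup_left ⟨a, rfl⟩) (Subgroup.mem_sup_right ⟨b, rfl⟩)
    rw [hsup]
    have hm := Subgroup.card_mul_index hom.range
    rw [hcard, ← Nat.card_congr (MonoidHom.ofInjective hom_injective).toEquiv, Nat.card_prod, Nat.card_perm, Nat.card_fin] at hm
    simp only [Nat.factorial] at hm
    omega
  · rw [MonoidHom.map_range]
    refine congrArg MonoidHom.range (MonoidHom.ext fun σ => ?_)
    simp only [f1, f2, MonoidHom.comp_apply, MulEquiv.coe_toMonoidHom, MulAut.conj_apply, MonoidHom.inl_apply, MonoidHom.inr_apply]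
    rw [mul_inv_eq_iff_eq_mul]
    exact conj_eq σ

end Cfsg.Agent.S2566
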