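import Cfsg.Statements.S2567

set_option autoImplicit false
open Cfsg

namespace Cfsg.Agent.S2567

theorem mem_center_iff_scalar {F : Type*} [Field F] {n : ℕ} (g : GL (Fin n) F) :
    g ∈ Subgroup.center (GL (Fin n) F) ↔
      ∃ c : Fˣ, g = Units.map (Matrix.scalar (Fin n)).toMonoidHom c := by
  rw [Matrix.GeneralLinearGroup.center_eq_range_scalar]
  constructor
  · rintro ⟨c, rfl⟩; exact ⟨c, rfl⟩
  · rintro ⟨c, rfl⟩; exact ⟨c, rfl⟩

/-- Lifting elements of prime order from PGL to GL: let F be a finite field with q elements, r a prime not dividing q − 1, and x an element of order r in GL_n(F) modulo its centre (the scalar matrices). Then x has exactly one preimage in GL_n(F) of order r. -/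
theorem result {F : Type*} [Field F] [Fintype F] {q n r : ℕ} (hF : Fintype.card F = q) (hr : r.Prime) (hdiv : ¬ r ∣ q - 1) (x : GL (Fin n) F ⧸ Subgroup.center (GL (Fin n) F)) (hx : orderOf x = r) : ∃! g : GL (Fin n) F, (QuotientGroup.mk g : GL (Fin n) F ⧸ Subgroup.center (GL (Fin n) F)) = x ∧ orderOf g = r := by
  classical
  induction x using QuotientGroup.induction_on with
  | H g0 =>
  have hfr : Fintype.card Fˣ = q - 1 := by rw [Fintype.card_units, hF]
  have hcop : (Nat.card Fˣ).Coprime r := by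
    rw [Nat.card_eq_fintype_card, hfr, Nat.coprime_comm, hr.coprime_iff_not_dvd]; exact hdiv
  have h0 := pow_orderOf_eq_one (QuotientGroup.mk g0 : GL (Fin n) F ⧸ Subgroup.center (GL (Fin n) F))
  rw [hx, ← QuotientGroup.mk_pow, QuotientGroup.eq_one_iff, mem_center_iff_scalar] at h0
  obtain ⟨c, hc⟩ := h0
  obtain ⟨d, rfl⟩ : ∃ d : Fˣ, d ^ r = c := ⟨(powCoprime hcop).symm c, (powCoprime hcop).apply_symm_apply c⟩
  obtain ⟨S, hS0⟩ : ∃ S : Fˣ →* GL (Fin n) F, Units.map (Matrix.scalar (Fin n)).toMonoidHom = S :=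
    ⟨_, rfl⟩
  rw [hS0] at hc
  have hS : ∀ c, S c ∈ Subgroup.center (GL (Fin n) F) := fun c =>
    (mem_center_iff_scalar _).mpr ⟨c, by rw [hS0]⟩
  have hmk : ∀ c, (QuotientGroup.mk (g0 * S c) : GL (Fin n) F ⧸ Subgroup.center (GL (Fin n) F)) =
      QuotientGroup.mk g0 := fun c => QuotientGroup.mk_mul_of_mem g0 (hS c)
  have hpow : (g0 * S d⁻¹) ^ r = 1 := by
    rw [(show Commute g0 (S d⁻¹) from Subgroup.mem_center_iff.mp (hS d⁻¹) g0).mul_pow, hc, ← map_pow,
      ← map_mul, inv_pow, mul_inv_cancel, map_one]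
  have hord : orderOf (g0 * S d⁻¹) = r := by
    have : Fact r.Prime := ⟨hr⟩
    refine orderOf_eq_prime hpow fun h => ?_
    have := hmk d⁻¹
    rw [h, QuotientGroup.mk_one] at this
    rw [← this, orderOf_one] at hx
    exact hr.one_lt.ne hx
  refine ⟨g0 * S d⁻¹, ⟨hmk _, hord⟩, ?_⟩
  rintro g ⟨hg, hgo⟩
  have hmem := QuotientGroup.eq.mp ((hmk d⁻¹).trans hg.symm)
  obtain ⟨z, hz⟩ := (mem_center_iff_scalar _).mp hmem
  rw [hS0] at hz
  have hg' : g = g0 * S d⁻¹ * S z := by rw [← hz, mul_inv_cancel_left]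
  have hzr : S (z ^ r) = 1 := by
    have h1 : g ^ r = 1 := by rw [← hgo, pow_orderOf_eq_one]
    rw [hg', (show Commute (g0 * S d⁻¹) (S z) from Subgroup.mem_center_iff.mp (hS z) (g0 * S d⁻¹)).mul_pow,
      hpow, one_mul, ← map_pow] at h1
    exact h1
  rcases Nat.eq_zero_or_pos n with rfl | hn
  · exact Subsingleton.elim _ _
  have hz1 : z ^ r = 1 := by
    have h2 := congrArg (fun M : GL (Fin n) F => (M : Matrix (Fin n) (Fin n) F) ⟨0, hn⟩ ⟨0, hn⟩) hzr
    simp [← hS0, Matrix.diagonal_pow] at h2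
    exact Units.ext (by simpa using h2)
  have : z = 1 := (powCoprime hcop).injective (by simpa using hz1)
  rw [hg', this, map_one, mul_one]

end Cfsg.Agent.S2567
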