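import Cfsg.Statements.S2569
import Cfsg.Agent.Lib.Classical.SemisimpleClasses

set_option autoImplicit false
open Cfsg

namespace Cfsg.Agent.S2569

/-- In GL_n over a finite field of characteristic p, the conjugacy class of a semisimple element (an element of order prime to p) under the special linear group is its whole GL-conjugacy class: for every such x and every invertible g there is h of determinant one with h x h⁻¹ = g x g⁻¹. -/
theorem result {F : Type*} [Field F] [Fintype F] {p : ℕ} [Fact p.Prime] [CharP F p] {n : ℕ} (x g : GL (Fin n) F) (hx : (orderOf x).Coprime p) : ∃ h : GL (Fin n) F, (h : Matrix (Fin n) (Fin n) F).det = 1 ∧ h * x * h⁻¹ = g * x * g⁻¹ := by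
  rcases Nat.eq_zero_or_pos n with rfl | hn
  · exact ⟨g, Matrix.det_isEmpty, rfl⟩
  have hx' : (x : Matrix (Fin n) (Fin n) F) ^ orderOf x = 1 := by
    rw [← Units.val_pow_eq_pow_val, pow_orderOf_eq_one]; rfl
  obtain ⟨y, hy, hyd⟩ := SemisimpleCl.exists_commute_det (Matrix.toLin' (x : Matrix (Fin n) (Fin n) F))
    (SemisimpleCl.isSemisimple_of_pow p hx' hx) (by rw [Module.finrank_fin_fun]; exact hn)
    ((g : Matrix (Fin n) (Fin n) F).det)⁻¹
  have hYd : (LinearMap.toMatrix' y).det = ((g : Matrix (Fin n) (Fin n) F).det)⁻¹ := by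
    rw [LinearMap.det_toMatrix', hyd]
  let Y : GL (Fin n) F := Matrix.GeneralLinearGroup.mkOfDetNeZero (LinearMap.toMatrix' y)
    (by rw [hYd]; exact inv_ne_zero g.det_ne_zero)
  have hYc : Y * x = x * Y := by
    refine Units.ext (Matrix.toLin'.injective ?_)
    show Matrix.toLin' (LinearMap.toMatrix' y * x.1) = Matrix.toLin' (x.1 * LinearMap.toMatrix' y)
    rw [Matrix.toLin'_mul, Matrix.toLin'_mul, Matrix.toLin'_toMatrix']
    exact hy
  refine ⟨g * Y, ?_, ?_⟩
  · show ((g : Matrix (Fin n) (Fin n) F) * LinearMap.toMatrix' y).det = 1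
    rw [Matrix.det_mul, hYd, mul_inv_cancel₀ g.det_ne_zero]
  · rw [_root_.mul_inv_rev, mul_assoc g Y x, hYc]
    group

end Cfsg.Agent.S2569

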