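import Cfsg.Statements.S2574
import Cfsg.Agent.Lib.LinearBlock.CyclicNilp
import Mathlib.LinearAlgebra.SymplecticGroup

set_option autoImplicit false
open Cfsg

namespace Cfsg.Agent.S2574

/-- A regular unipotent element of the symplectic group has totally isotropic small invariant subspaces: over a finite field, if u ∈ Sp_2m(F) satisfies (u − 1)^(2m) = 0 and rank(u − 1) = 2m − 1, and W is a u-invariant subspace with 2 dim W ≤ 2m, then the alternating form vanishes identically on W. -/
theorem result {F : Type*} [Field F] [Finite F] {m : ℕ} (u : Matrix.symplecticGroup (Fin m) F) (hnil : ((u : Matrix (Fin m ⊕ Fin m) (Fin m ⊕ Fin m) F) - 1) ^ (2 * m) = 0) (hreg : ((u : Matrix (Fin m ⊕ Fin m) (Fin m ⊕ Fin m) F) - 1).rank = 2 * m - 1) (W : Submodule F (Fin m ⊕ Fin m → F)) (hW : ∀ v ∈ W, (u : Matrix (Fin m ⊕ Fin m) (Fin m ⊕ Fin m) F).mulVec v ∈ W) (hdim : 2 * Module.finrank F W ≤ 2 * m) : ∀ v ∈ W, ∀ w ∈ W, Cfsg.sympForm m F v w = 0 := by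
  obtain ⟨h1, h2, h3⟩ := LBCyclic.mat_to_end (n := 2 * m) (by simp; omega) hnil hreg
  set U := (u : Matrix (Fin m ⊕ Fin m) (Fin m ⊕ Fin m) F) with hU
  set N : Module.End F (Fin m ⊕ Fin m → F) := Matrix.toLinAlgEquiv' (U - 1) with hN
  have hN1 : ∀ x, N x = U.mulVec x - x := fun x => by
    rw [hN, Matrix.toLinAlgEquiv'_apply, Matrix.sub_mulVec, Matrix.one_mulVec]
  have hWN : ∀ x ∈ W, N x ∈ W := fun x hx => by rw [hN1]; exact W.sub_mem (hW x hx) hx
  have hWk := LBCyclic.eq_ker_pow h1 h2 h3 hWN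
  have hpres : ∀ x y, Cfsg.sympForm m F (U.mulVec x) (U.mulVec y) = Cfsg.sympForm m F x y := fun x y => by
    have hsym : U.transpose * Matrix.J (Fin m) F * U = Matrix.J (Fin m) F := SymplecticGroup.mem_iff'.1 u.2
    unfold Cfsg.sympForm
    conv_rhs => rw [← hsym]
    rw [← Matrix.mulVec_mulVec, ← Matrix.mulVec_mulVec, Matrix.dotProduct_mulVec x U.transpose,
      Matrix.vecMul_transpose]
  have hsub : ∀ x y z, Cfsg.sympForm m F (x - y) z = Cfsg.sympForm m F x z - Cfsg.sympForm m F y z :=
    fun x y z => sub_dotProduct x y _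
  have hsub' : ∀ x y z, Cfsg.sympForm m F x (y - z) = Cfsg.sympForm m F x y - Cfsg.sympForm m F x z := fun x y z => by
    unfold Cfsg.sympForm; rw [Matrix.mulVec_sub, dotProduct_sub]
  have main : ∀ (k : ℕ) (x y : Fin m ⊕ Fin m → F), (N ^ k) y = 0 → Cfsg.sympForm m F ((N ^ k) x) y = 0 := by
    intro k
    induction k with
    | zero =>
      intro x y hy
      rw [pow_zero, Module.End.one_apply] at hy
      subst hy
      simp [Cfsg.sympForm]
    | succ k ih =>
      intro x y hy
      let V' : (Fin m ⊕ Fin m → F) := Matrix.mulVec ((u⁻¹ : Matrix.symplecticGroup (Fin m) F) :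
        Matrix (Fin m ⊕ Fin m) (Fin m ⊕ Fin m) F) y
      have hV : U.mulVec V' = y := by
        show U.mulVec (Matrix.mulVec _ y) = y
        rw [Matrix.mulVec_mulVec, hU, ← Submonoid.coe_mul, mul_inv_cancel, Submonoid.coe_one, Matrix.one_mulVec]
      have hzero : (N ^ k) (N V') = 0 := by
        have h0 : (N ^ (k + 1)) (U.mulVec V') = U.mulVec ((N ^ (k + 1)) V') := by
          have hc : Commute (N ^ (k + 1)) (Matrix.toLinAlgEquiv' U) := by
            refine Commute.pow_left ?_ _
            rw [hN, map_sub, map_one]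
            exact (Commute.refl _).sub_left (Commute.one_left _)
          have h5 := LinearMap.congr_fun hc.eq V'
          simpa [Module.End.mul_apply, Matrix.toLinAlgEquiv'_apply] using h5
        rw [hV, hy] at h0
        have h6 := congrArg (Matrix.mulVec ((u⁻¹ : Matrix.symplecticGroup (Fin m) F) :
          Matrix (Fin m ⊕ Fin m) (Fin m ⊕ Fin m) F)) h0
        rw [Matrix.mulVec_zero, Matrix.mulVec_mulVec, hU, ← Submonoid.coe_mul, inv_mul_cancel, Submonoid.coe_one,
          Matrix.one_mulVec, pow_succ, Module.End.mul_apply] at h6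
        exact h6.symm
      have key : Cfsg.sympForm m F (N ((N ^ k) x)) y = - Cfsg.sympForm m F ((N ^ k) x) (N V') := by
        conv_lhs => rw [hN1, hsub, ← hV, hpres]
        rw [hN1 V', hsub']
        ring
      rw [pow_succ', Module.End.mul_apply, key, ih x _ hzero, neg_zero]
  intro v hv w hw
  rw [hWk, ← LBCyclic.range_pow_eq h1 h2 h3 (by omega)] at hv
  obtain ⟨x, rfl⟩ := hv
  refine main _ x w ?_
  rw [hWk, LinearMap.mem_ker] at hw
  rw [show 2 * m - Module.finrank F W = (2 * m - 2 * Module.finrank F W) + Module.finrank F W by omega, pow_add,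
    Module.End.mul_apply, hw, map_zero]

end Cfsg.Agent.S2574

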