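import Cfsg.Statements.S2575
import Cfsg.Agent.Lib.LinearBlock.PowerResidue
import Mathlib.LinearAlgebra.Matrix.Determinant.Basic

set_option autoImplicit false
open Cfsg

namespace Cfsg.Agent.S2575

/-- Which diagonal involutions of PGL_n(q) lie in PSL_n(q), q odd: for the diagonal matrix t with i entries −1 and n − i entries 1, some non-zero scalar multiple of t has determinant one if and only if i is even or the 2-part of q − 1 exceeds the 2-part of n (that is, −1 is an n-th power in the field exactly in the latter case). -/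
theorem result {F : Type*} [Field F] [Fintype F] {q : ℕ} (hF : Fintype.card F = q) (hq : Odd q) {n : ℕ} (hn : 1 ≤ n) (i : ℕ) (hi : i ≤ n) : (∃ c : F, c ≠ 0 ∧ (c • Matrix.diagonal (fun j : Fin n => if (j : ℕ) < i then (-1 : F) else 1)).det = 1) ↔ (Even i ∨ padicValNat 2 n < padicValNat 2 (q - 1)) := by
  classical
  subst hF
  have hdet : ∀ c : F, (c • Matrix.diagonal (fun j : Fin n => if (j : ℕ) < i then (-1 : F) else 1)).det
      = c ^ n * (-1) ^ i := fun c => by
    rw [Matrix.det_smul, Matrix.det_diagonal, Fintype.card_fin, Finset.prod_ite, Finset.prod_const, Finset.prod_const,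
      one_pow, mul_one, Fin.card_filter_val_lt, min_eq_right hi]
  simp only [hdet]
  obtain ⟨v, hv, w, hw⟩ := LBPow.exists_two_element (F := F) hq
  have hw1 := LBPow.pow_two_part hw
  obtain ⟨l, hl, hn'⟩ := LBPow.exists_odd_part (n := n) (by omega)
  constructor
  · rintro ⟨c, hc, hc1⟩
    by_contra hcon
    simp only [not_or, not_lt, Nat.not_even_iff_odd] at hcon
    obtain ⟨hodd, hle⟩ := hcon
    rw [hodd.neg_one_pow, mul_neg_one] at hc1
    obtain ⟨k, hk, hN⟩ := LBPow.exists_odd_part (n := Fintype.card F - 1)
      (by have := Fintype.one_lt_card (α := F); omega)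
    obtain ⟨d, hd⟩ : Fintype.card F - 1 ∣ n * k := by
      rw [hN]
      exact Nat.mul_dvd_mul_right ((pow_dvd_pow 2 hle).trans ⟨l, hn'⟩) k
    have h1 : (c ^ n) ^ k = 1 := by rw [← pow_mul, hd, pow_mul, FiniteField.pow_card_sub_one_eq_one c hc, one_pow]
    rw [show c ^ n = -1 by linear_combination -hc1, hk.neg_one_pow] at h1
    have h2 : (2 : F) ≠ 0 := Ring.two_ne_zero fun h => by
      have := FiniteField.even_card_iff_char_two.1 h
      rw [Nat.odd_iff] at hq; omega
    exact h2 (by linear_combination -h1)
  · rintro (he | hlt)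
    · exact ⟨1, one_ne_zero, by rw [one_pow, one_mul, he.neg_one_pow]⟩
    · rcases Nat.even_or_odd i with he | ho
      · exact ⟨1, one_ne_zero, by rw [one_pow, one_mul, he.neg_one_pow]⟩
      · have hw0 : w ≠ 0 := fun h => by
          rw [h] at hw1; simp at hw1
        refine ⟨w ^ 2 ^ (v - padicValNat 2 n), pow_ne_zero _ hw0, ?_⟩
        rw [← pow_mul, show 2 ^ (v - padicValNat 2 n) * n = 2 ^ v * l by
            conv_lhs => arg 2; rw [hn']
            rw [← mul_assoc, ← pow_add, show v - padicValNat 2 n + padicValNat 2 n = v by omega],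
          pow_mul, hw1, hl.neg_one_pow, ho.neg_one_pow]
        ring

end Cfsg.Agent.S2575

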