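import Cfsg.Statements.S2576
import Cfsg.Agent.Lib.LinearBlock.PowerResidue
import Mathlib.LinearAlgebra.Matrix.Block

set_option autoImplicit false
open Cfsg

namespace Cfsg.Agent.S2576

/-- Which involutions of PGL_2m(q) coming from a scalar of the quadratic extension field lie in PSL_2m(q), q odd: let μ generate the Sylow 2-subgroup of the multiplicative group of the field with q elements (μ has order the 2-part of q − 1) and let t be the block-diagonal matrix with m diagonal blocks [[0, 1], [μ, 0]] (so t² is the scalar μ and t is an involution modulo scalars). Then some non-zero scalar multiple of t has determinant one if and only if q ≡ 3 (mod 4) or the 2-part of q − 1 is less than the 2-part of 2m. -/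
theorem result {F : Type*} [Field F] [Fintype F] {q : ℕ} (hF : Fintype.card F = q) (hq : Odd q) {m : ℕ} (hm : 1 ≤ m) (μ : F) (hμ : orderOf μ = 2 ^ padicValNat 2 (q - 1)) : (∃ c : F, c ≠ 0 ∧ (c • Matrix.blockDiagonal (fun _ : Fin m => !![(0 : F), 1; μ, 0])).det = 1) ↔ (q % 4 = 3 ∨ padicValNat 2 (q - 1) < padicValNat 2 (2 * m)) := by
  classical
  subst hF
  have hdet : ∀ c : F, (c • Matrix.blockDiagonal (fun _ : Fin m => !![(0 : F), 1; μ, 0])).det
      = (c ^ 2 * -μ) ^ m := fun c => by
    rw [Matrix.det_smul, Matrix.det_blockDiagonal, Finset.prod_const, Finset.card_univ, Fintype.card_fin,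
      Matrix.det_fin_two_of, Fintype.card_prod, Fintype.card_fin, Fintype.card_fin, mul_pow, ← pow_mul]
    ring
  simp only [hdet]
  have hN0 : Fintype.card F - 1 ≠ 0 := by have := Fintype.one_lt_card (α := F); omega
  obtain ⟨v, hv, -⟩ := LBPow.exists_two_element (F := F) hq
  rw [hv] at hμ ⊢
  have hμ1 := LBPow.pow_two_part hμ
  obtain ⟨k, hk, hN⟩ := LBPow.exists_odd_part hN0
  rw [hv] at hN
  obtain ⟨l, hl, hm'⟩ := LBPow.exists_odd_part (n := m) (by omega)
  rw [padicValNat.mul two_ne_zero (by omega), padicValNat.self one_lt_two]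
  constructor
  · rintro ⟨c, hc, hc1⟩
    by_contra hcon
    simp only [not_or, not_lt] at hcon
    obtain ⟨h4, hle⟩ := hcon
    obtain ⟨u, rfl⟩ : ∃ u, v = u + 1 := by
      refine ⟨v - 1, ?_⟩
      rcases Nat.eq_zero_or_pos v with rfl | h
      · rw [Nat.odd_iff] at hq hk; omega
      · omega
    have h1 : (c ^ 2 * -μ) ^ (2 ^ (u + 1) * k) = -1 := by
      rw [mul_pow, neg_pow μ, Even.neg_one_pow (Even.mul_right ⟨2 ^ u, by ring⟩ k), one_mul, pow_mul μ, hμ1,
        hk.neg_one_pow, ← pow_mul c,
        show 2 * (2 ^ (u + 1) * k) = Fintype.card F - 1 by rw [hN]; ring,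
        FiniteField.pow_card_sub_one_eq_one c hc, one_mul]
    obtain ⟨d, hd⟩ : m ∣ 2 ^ (u + 1) * k * l := by
      conv_lhs => rw [hm']
      exact Nat.mul_dvd_mul_right ((pow_dvd_pow 2 (by omega)).trans (Dvd.intro k rfl)) l
    have h2 := congrArg (· ^ l) h1
    simp only [← pow_mul, hd, hl.neg_one_pow] at h2
    rw [pow_mul, hc1, one_pow] at h2
    have h3 : (2 : F) ≠ 0 := Ring.two_ne_zero fun h => by
      have := FiniteField.even_card_iff_char_two.1 h
      rw [Nat.odd_iff] at hq; omega
    exact h3 (by linear_combination h2)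
  · rintro (h4 | hlt)
    · refine ⟨1, one_ne_zero, ?_⟩
      have hv0 : v = 0 := by
        rcases Nat.eq_zero_or_pos v with h | h
        · exact h
        · exfalso
          obtain ⟨j, rfl⟩ : ∃ j, v = j + 1 := ⟨v - 1, by omega⟩
          have : 2 ^ (j + 1 + 1) * k = 4 * (2 ^ j * k) := by ring
          omega
      subst hv0
      rw [pow_zero, pow_one] at hμ1
      rw [hμ1]; simp
    · refine ⟨1, one_ne_zero, ?_⟩
      rw [one_pow, one_mul]
      obtain ⟨d, hd⟩ : 2 ^ (v + 1) ∣ m := by
        rw [hm']; exact (pow_dvd_pow 2 (by omega)).mul_right l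
      rw [neg_pow μ, Even.neg_one_pow ⟨2 ^ v * d, by rw [hd]; ring⟩, one_mul, hd, pow_mul, ← hμ, pow_orderOf_eq_one,
        one_pow]

end Cfsg.Agent.S2576

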