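import Cfsg.Statements.S2578
import Cfsg.Agent.Lib.LinearBlock.CyclicNilp
import Cfsg.Agent.Lib.Generation.RegularUnipotent

set_option autoImplicit false
open Cfsg

namespace Cfsg.Agent.S2578

/-- Regular unipotent classes of SL_n(q): for n ≥ 2 over the field with q elements, the matrices u of determinant one with (u − 1)^n = 0 and rank(u − 1) = n − 1 form a single GL_n(q)-class which splits into exactly gcd(n, q − 1) conjugacy classes of SL_n(q). -/
theorem result {F : Type*} [Field F] [Fintype F] {q : ℕ} (hF : Fintype.card F = q) {n : ℕ} (hn : 2 ≤ n) : Nat.card {C : ConjClasses (Matrix.SpecialLinearGroup (Fin n) F) // ∃ u : Matrix.SpecialLinearGroup (Fin n) F, ConjClasses.mk u = C ∧ ((u : Matrix (Fin n) (Fin n) F) - 1) ^ n = 0 ∧ ((u : Matrix (Fin n) (Fin n) F) - 1).rank = n - 1} = Nat.gcd n (q - 1) := by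
  classical
  let P : Matrix.SpecialLinearGroup (Fin n) F → Prop := fun u =>
    ((u : Matrix (Fin n) (Fin n) F) - 1) ^ n = 0 ∧ ((u : Matrix (Fin n) (Fin n) F) - 1).rank = n - 1
  set u₀ := RegUnipotentGen.regU n F
  set N := RegUnipotentGen.upperN n F with hNdef
  have hu0N : (u₀ : Matrix (Fin n) (Fin n) F) - 1 = N := add_sub_cancel_left 1 N
  have h0 : P u₀ := by
    refine ⟨?_, ?_⟩
    · rw [hu0N]
      refine Matrix.ext_of_mulVec_single fun i => funext fun j => ?_
      rw [RegUnipotentGen.upperN_pow, dif_neg (by omega), Matrix.zero_mulVec]; rfl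
    · rw [hu0N]
      have hk : LinearMap.ker N.mulVecLin = Submodule.span F {Pi.single (⟨0, by omega⟩ : Fin n) (1 : F)} := by
        refine le_antisymm (fun x hx => ?_) ((Submodule.span_singleton_le_iff_mem _ _).2 ?_)
        · refine Submodule.mem_span_singleton.2 ⟨x ⟨0, by omega⟩, funext fun i => ?_⟩
          rcases Nat.eq_zero_or_pos (i : ℕ) with h | h
          · rw [show i = ⟨0, by omega⟩ from Fin.ext h]; simp
          · have h1 := congrFun (LinearMap.mem_ker.1 hx) ⟨(i : ℕ) - 1, by omega⟩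
            rw [Matrix.mulVecLin_apply, hNdef, RegUnipotentGen.upperN_mulVec, dif_pos (by simp only []; omega)] at h1
            rw [Pi.smul_apply, Pi.single_eq_of_ne (fun e => by rw [e] at h; exact lt_irrefl 0 h), smul_zero,
              show i = ⟨(i : ℕ) - 1 + 1, by omega⟩ from Fin.ext (by simp only []; omega)]
            exact h1.symm
        · rw [LinearMap.mem_ker, Matrix.mulVecLin_apply]
          funext i
          rw [hNdef, RegUnipotentGen.upperN_mulVec]
          split
          · exact Pi.single_eq_of_ne (fun e => by simp [Fin.ext_iff] at e) _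
          · rfl
      have h := N.mulVecLin.finrank_range_add_finrank_ker
      rw [hk, finrank_span_singleton (fun e => one_ne_zero (α := F) (by simpa using congrFun e ⟨0, by omega⟩)),
        Module.finrank_fintype_fun_eq_card, Fintype.card_fin] at h
      show Module.finrank F (LinearMap.range N.mulVecLin) = n - 1
      omega
  let D : Fˣ → GL (Fin n) F := fun d => Matrix.GeneralLinearGroup.mkOfDetNeZero
    (Matrix.diagonal (Function.update (fun _ => (1 : F)) ⟨0, by omega⟩ (d : F)))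
    (by rw [Matrix.det_diagonal, Finset.prod_update_of_mem (Finset.mem_univ _)]; simp)
  have hD : ∀ d, ((D d : GL (Fin n) F) : Matrix (Fin n) (Fin n) F).det = d := fun d => by
    show (Matrix.diagonal _).det = _
    rw [Matrix.det_diagonal, Finset.prod_update_of_mem (Finset.mem_univ _)]; simp
  let ι' : Matrix.SpecialLinearGroup (Fin n) F →* GL (Fin n) F := Matrix.SpecialLinearGroup.toGL
  have hι : ∀ s, ((ι' s : GL (Fin n) F) : Matrix (Fin n) (Fin n) F) = s.1 := fun s => rfl
  have hconjmat : ∀ g : GL (Fin n) F, ((g * ι' u₀ * g⁻¹ : GL (Fin n) F) : Matrix (Fin n) (Fin n) F) - 1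
      = g.1 * N * (g⁻¹ : GL (Fin n) F).1 := fun g => by
    rw [Units.val_mul, Units.val_mul, hι, show u₀.1 = 1 + N from rfl, mul_add, add_mul, mul_one, Units.mul_inv,
      add_sub_cancel_left]
  let U : Fˣ → Matrix.SpecialLinearGroup (Fin n) F := fun d => ⟨(D d * ι' u₀ * (D d)⁻¹ : GL (Fin n) F).1, by
    rw [Units.val_mul, Units.val_mul, Matrix.det_units_conj]
    exact u₀.2⟩
  have hιU : ∀ d, ι' (U d) = D d * ι' u₀ * (D d)⁻¹ := fun d => Units.ext rfl
  have hPU : ∀ d, P (U d) := fun d => by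
    refine ⟨?_, ?_⟩
    · show ((D d * ι' u₀ * (D d)⁻¹ : GL (Fin n) F).1 - 1) ^ n = 0
      rw [hconjmat, Units.conj_pow, show N ^ n = 0 from hu0N ▸ h0.1, mul_zero, zero_mul]
    · show ((D d * ι' u₀ * (D d)⁻¹ : GL (Fin n) F).1 - 1).rank = n - 1
      rw [hconjmat, Matrix.rank_mul_eq_left_of_isUnit_det _ _ ((Matrix.isUnit_iff_isUnit_det _).1 (Units.isUnit _)),
        Matrix.rank_mul_eq_right_of_isUnit_det _ _ ((Matrix.isUnit_iff_isUnit_det _).1 (Units.isUnit _)), ← hu0N]
      exact h0.2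
  let f : Fˣ → {C : ConjClasses (Matrix.SpecialLinearGroup (Fin n) F) //
      ∃ u : Matrix.SpecialLinearGroup (Fin n) F, ConjClasses.mk u = C ∧ ((u : Matrix (Fin n) (Fin n) F) - 1) ^ n = 0 ∧
        ((u : Matrix (Fin n) (Fin n) F) - 1).rank = n - 1} :=
    fun d => ⟨ConjClasses.mk (U d), U d, rfl, hPU d⟩
  have h0' : (((ι' u₀ : GL (Fin n) F) : Matrix (Fin n) (Fin n) F) - 1) ^ n = 0 ∧
      (((ι' u₀ : GL (Fin n) F) : Matrix (Fin n) (Fin n) F) - 1).rank = n - 1 := h0
  have hfeq : ∀ a b, f a = f b ↔ a⁻¹ * b ∈ (powMonoidHom n : Fˣ →* Fˣ).range := fun a b => by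
    simp only [f, Subtype.mk.injEq, ConjClasses.mk_eq_mk_iff_isConj, isConj_iff]
    constructor
    · rintro ⟨s, hs⟩
      have h1 := congrArg ι' hs
      rw [map_mul, map_mul, map_inv, hιU, hιU] at h1
      have hc : (D b)⁻¹ * ι' s * D a ∈ Subgroup.centralizer ({ι' u₀} : Set (GL (Fin n) F)) := by
        rw [Subgroup.mem_centralizer_singleton_iff]
        calc (D b)⁻¹ * ι' s * D a * ι' u₀ = (D b)⁻¹ * (ι' s * (D a * ι' u₀ * (D a)⁻¹) * (ι' s)⁻¹) * ι' s * D a := by
              group
          _ = ι' u₀ * ((D b)⁻¹ * ι' s * D a) := by rw [h1]; group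
      obtain ⟨c, hc0, hcd⟩ := LBCyclic.det_centralizer (by omega) h0'.1 h0'.2 hc
      rw [Units.val_mul, Units.val_mul, Matrix.det_mul, Matrix.det_mul, hι, s.2, mul_one, hD,
        Matrix.coe_units_inv, Matrix.det_nonsing_inv, hD, Ring.inverse_eq_inv'] at hcd
      refine ⟨(Units.mk0 c hc0)⁻¹, Units.ext ?_⟩
      rw [powMonoidHom_apply, Units.val_pow_eq_pow_val, Units.val_mul, Units.val_inv_eq_inv_val, Units.val_mk0,
        inv_pow, ← hcd, Units.val_inv_eq_inv_val]
      field_simp
    · rintro ⟨c, hc⟩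
      rw [powMonoidHom_apply] at hc
      let Z : GL (Fin n) F := Units.map (Matrix.scalar (Fin n)).toMonoidHom c⁻¹
      have hZ : ∀ g, Z * g = g * Z := fun g => Units.ext
        ((Matrix.scalar_commute ((c⁻¹ : Fˣ) : F) (fun r => Commute.all _ r) _).eq)
      have hdet : (D b * Z * (D a)⁻¹ : GL (Fin n) F).1.det = 1 := by
        rw [Units.val_mul, Units.val_mul, Matrix.det_mul, Matrix.det_mul, hD, Matrix.coe_units_inv,
          Matrix.det_nonsing_inv, hD, Ring.inverse_eq_inv']
        have hzd : (Z : Matrix (Fin n) (Fin n) F).det = ((c⁻¹ : Fˣ) : F) ^ n := by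
          show (Matrix.diagonal (fun _ : Fin n => ((c⁻¹ : Fˣ) : F))).det = _
          rw [Matrix.det_diagonal, Finset.prod_const, Finset.card_univ, Fintype.card_fin]
        rw [hzd, show (b : F) = (a : F) * (c : F) ^ n by
          rw [← Units.val_pow_eq_pow_val, hc, Units.val_mul, Units.mul_inv_cancel_left], Units.val_inv_eq_inv_val]
        have := c.ne_zero
        have := a.ne_zero
        rw [inv_pow]
        field_simp
      let s : Matrix.SpecialLinearGroup (Fin n) F := ⟨_, hdet⟩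
      refine ⟨s, Matrix.SpecialLinearGroup.toGL_injective ?_⟩
      show ι' (s * U a * s⁻¹) = ι' (U b)
      rw [map_mul, map_mul, map_inv, hιU, hιU, show ι' s = D b * Z * (D a)⁻¹ from Units.ext rfl]
      calc D b * Z * (D a)⁻¹ * (D a * ι' u₀ * (D a)⁻¹) * (D b * Z * (D a)⁻¹)⁻¹
          = D b * (Z * ι' u₀) * Z⁻¹ * (D b)⁻¹ := by group
        _ = D b * ι' u₀ * (D b)⁻¹ := by rw [hZ]; group
  have hfsurj : Function.Surjective f := by
    rintro ⟨C, u, rfl, hu1, hu2⟩
    obtain ⟨g, hg⟩ := LBCyclic.exists_conj (by omega) h0'.1 h0'.2 (u' := ι' u) hu1 hu2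
    let d : Fˣ := Units.mk0 _ g.det_ne_zero
    have hdet : (g * (D d)⁻¹ : GL (Fin n) F).1.det = 1 := by
      rw [Units.val_mul, Matrix.det_mul, Matrix.coe_units_inv, Matrix.det_nonsing_inv, hD, Ring.inverse_eq_inv']
      exact mul_inv_cancel₀ g.det_ne_zero
    let s : Matrix.SpecialLinearGroup (Fin n) F := ⟨_, hdet⟩
    refine ⟨d, Subtype.ext (ConjClasses.mk_eq_mk_iff_isConj.2 (isConj_iff.2 ⟨s,
      Matrix.SpecialLinearGroup.toGL_injective ?_⟩))⟩
    show ι' (s * U d * s⁻¹) = ι' u
    rw [map_mul, map_mul, map_inv, hιU, show ι' s = g * (D d)⁻¹ from Units.ext rfl, ← hg]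
    group
  let e : (Fˣ ⧸ (powMonoidHom n : Fˣ →* Fˣ).range) ≃ _ := Equiv.ofBijective
    (Quotient.lift f fun a b hab => (hfeq a b).2 (QuotientGroup.leftRel_apply.1 hab))
    ⟨fun x y => by
      induction x using Quotient.ind with | _ a => ?_
      induction y using Quotient.ind with | _ b => ?_
      exact fun h => Quotient.sound (QuotientGroup.leftRel_apply.2 ((hfeq a b).1 h)),
     fun y => by obtain ⟨a, ha⟩ := hfsurj y; exact ⟨Quotient.mk'' a, ha⟩⟩
  rw [← Nat.card_congr e]
  have hi := Subgroup.index_mul_card (powMonoidHom n : Fˣ →* Fˣ).range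
  rw [IsCyclic.card_powMonoidHom_range, Nat.card_units, Nat.card_eq_fintype_card, hF] at hi
  have hq1 : 0 < q - 1 := by have := Fintype.one_lt_card (α := F); omega
  show (powMonoidHom n : Fˣ →* Fˣ).range.index = _
  rw [Nat.gcd_comm]
  obtain ⟨j, hj⟩ := Nat.gcd_dvd_left (q - 1) n
  have hg0 : 0 < Nat.gcd (q - 1) n := Nat.gcd_pos_of_pos_left _ hq1
  rw [show (q - 1) / Nat.gcd (q - 1) n = j from Nat.div_eq_of_eq_mul_right hg0 hj] at hi
  exact Nat.eq_of_mul_eq_mul_right (Nat.pos_of_ne_zero fun h => by rw [h, mul_zero] at hj; omega) (hi.trans hj)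

end Cfsg.Agent.S2578

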