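import Cfsg.Statements.S2582
import Cfsg.Agent.Lib.LinearBlock.JordanForms

set_option autoImplicit false
open Cfsg

namespace Cfsg.Agent.S2582

/-- Which unipotent Jordan types occur in the finite symplectic group: over a finite field, a unipotent matrix with Jordan block sizes d_1, …, d_t (sum 2m, all at least 1) is similar to an element of Sp_2m(F) if and only if every odd block size occurs an even number of times. -/
theorem result {F : Type*} [Field F] [Fintype F] {m t : ℕ} (d : Fin t → ℕ) (hd : ∀ k, 1 ≤ d k) (hsum : ∑ k, d k = 2 * m) : (∃ e : ((k : Fin t) × Fin (d k)) ≃ (Fin m ⊕ Fin m), ∃ A : Matrix.symplecticGroup (Fin m) F, IsConj (Matrix.reindex e e (Cfsg.jordanTypeMatrix d F)) (A : Matrix (Fin m ⊕ Fin m) (Fin m ⊕ Fin m) F)) ↔ ∀ j : ℕ, Odd j → Even (Finset.univ.filter (fun k : Fin t => d k = j)).card := by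
  classical
  rw [← LBJordanForms.alt_iff (F := F) hd]
  constructor
  · rintro ⟨e, A, hA⟩
    have hinv := SymplecticGroup.mem_iff'.1 A.2
    obtain ⟨P, h1, h2⟩ := LBJordanForms.pull (G₀ := Matrix.J (Fin m) F) e hA hinv
      ((Matrix.isUnit_det_J (Fin m) F).ne_zero)
    obtain ⟨h3, h4⟩ := LBJordanForms.alt_congr (Matrix.J_transpose (Fin m) F) (fun a => by
      rcases a with i | i <;> simp [Matrix.J]) P
    exact ⟨_, h3, h4, h1, h2⟩
  · rintro ⟨G, hG, hG0, hdet, hinv⟩
    have hA : (Matrix.toBilin' G).IsAlt := fun x => by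
      rw [Matrix.toBilin'_apply']
      exact LBJordanForms.quad_zero hG hG0 x
    have hB : (Matrix.toBilin' G).Nondegenerate :=
      Matrix.nondegenerate_toBilin'_iff.2 (Matrix.nondegenerate_iff_det_ne_zero.2 hdet)
    obtain ⟨b, hb⟩ := SympSpectra.exists_std_basis hA hB (n := m) (by simp [hsum])
    let e : ((k : Fin t) × Fin (d k)) ≃ (Fin m ⊕ Fin m) := Fintype.equivOfCardEq (by simp [hsum, two_mul])
    obtain ⟨X, hX⟩ : ∃ X, X = LinearMap.toMatrix b b (Matrix.toLin' (Cfsg.jordanTypeMatrix d F)) := ⟨_, rfl⟩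
    have hXv : ∀ x, X.mulVec (b.equivFun x) = b.equivFun ((Cfsg.jordanTypeMatrix d F).mulVec x) := fun x => by
      rw [hX, Module.Basis.equivFun_apply, Module.Basis.equivFun_apply, LinearMap.toMatrix_mulVec_repr,
        Matrix.toLin'_apply]
    have hXmem : X ∈ Matrix.symplecticGroup (Fin m) F := (ClassicalSp.mem_iff_preserves X).2 fun u v => by
      obtain ⟨x, rfl⟩ := b.equivFun.surjective u
      obtain ⟨y, rfl⟩ := b.equivFun.surjective v
      rw [hXv, hXv, ← ClassicalSp.spBilin_apply, ← ClassicalSp.spBilin_apply, ← hb, ← hb, Matrix.toBilin'_apply',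
        Matrix.toBilin'_apply']
      conv_rhs => rw [← hinv]
      rw [← Matrix.mulVec_mulVec, ← Matrix.mulVec_mulVec, Matrix.dotProduct_mulVec x (Cfsg.jordanTypeMatrix d F).transpose,
        Matrix.vecMul_transpose]
    refine ⟨e, ⟨X, hXmem⟩, ?_⟩
    let T : (Fin m ⊕ Fin m → F) ≃ₗ[F] (Fin m ⊕ Fin m → F) :=
      (LinearEquiv.funCongrLeft F F e).trans b.equivFun
    let c : (Matrix (Fin m ⊕ Fin m) (Fin m ⊕ Fin m) F)ˣ :=
      ⟨LinearMap.toMatrix' T.toLinearMap, LinearMap.toMatrix' T.symm.toLinearMap,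
        by rw [← LinearMap.toMatrix'_comp]; simp, by rw [← LinearMap.toMatrix'_comp]; simp⟩
    refine ⟨c, ?_⟩
    show LinearMap.toMatrix' T.toLinearMap * _ = X * LinearMap.toMatrix' T.toLinearMap
    refine Matrix.ext_of_mulVec_single fun i => ?_
    rw [← Matrix.mulVec_mulVec, ← Matrix.mulVec_mulVec, LinearMap.toMatrix'_mulVec, LinearMap.toMatrix'_mulVec]
    show b.equivFun (fun a => (Matrix.reindex e e (Cfsg.jordanTypeMatrix d F)).mulVec (Pi.single i 1) (e a))
      = X.mulVec (b.equivFun fun a => (Pi.single i (1 : F) : Fin m ⊕ Fin m → F) (e a))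
    rw [hXv]
    congr 1
    funext a
    rw [Matrix.reindex_apply, Matrix.submatrix_mulVec_equiv]
    simp [Function.comp_def]

end Cfsg.Agent.S2582

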