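import Cfsg.Statements.S2583
import Cfsg.Agent.Lib.LinearBlock.JordanForms

set_option autoImplicit false
open Cfsg

namespace Cfsg.Agent.S2583

/-- Which unipotent Jordan types occur in a finite orthogonal group in odd characteristic: over a finite field of odd order, a unipotent matrix with Jordan block sizes d_1, …, d_t (sum n, all at least 1) is similar to an isometry of some quadratic form on F^n with non-degenerate polar form if and only if every even block size occurs an even number of times. -/
theorem result {F : Type*} [Field F] [Fintype F] (h2 : (2 : F) ≠ 0) {n t : ℕ} (d : Fin t → ℕ) (hd : ∀ k, 1 ≤ d k) (hsum : ∑ k, d k = n) : (∃ Q : QuadraticForm F (Fin n → F), (QuadraticMap.polarBilin Q).Nondegenerate ∧ ∃ e : ((k : Fin t) × Fin (d k)) ≃ Fin n, ∃ A : ↥(Cfsg.isometryGroup F ⇑Q), IsConj (Matrix.reindex e e (Cfsg.jordanTypeMatrix d F)) ((A : Matrix.GeneralLinearGroup (Fin n) F) : Matrix (Fin n) (Fin n) F)) ↔ ∀ j : ℕ, Even j → 0 < j → Even (Finset.univ.filter (fun k : Fin t => d k = j)).card := by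
  classical
  rw [← LBJordanForms.sym_iff (F := F) h2 hd]
  constructor
  · rintro ⟨Q, hQ, e, A, hA⟩
    obtain ⟨G₀, hG₀⟩ : ∃ G₀, G₀ = LinearMap.BilinForm.toMatrix' (QuadraticMap.polarBilin Q) := ⟨_, rfl⟩
    obtain ⟨M, hM⟩ : ∃ M, M = ((A : Matrix.GeneralLinearGroup (Fin n) F) : Matrix (Fin n) (Fin n) F) := ⟨_, rfl⟩
    have hdet : G₀.det ≠ 0 := by
      rw [hG₀]
      exact Matrix.nondegenerate_iff_det_ne_zero.1 (LinearMap.BilinForm.nondegenerate_toMatrix'_iff.2 hQ)
    have hsym : G₀.transpose = G₀ := by
      ext i j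
      rw [Matrix.transpose_apply, hG₀, LinearMap.BilinForm.toMatrix'_apply, LinearMap.BilinForm.toMatrix'_apply]
      exact QuadraticMap.polar_comm _ _ _
    have hiso : ∀ u, Q (M.mulVec u) = Q u := fun u => by rw [hM]; exact A.2 u u
    have hinv : M.transpose * G₀ * M = G₀ := by
      have hpol : ∀ u v, dotProduct u (G₀.mulVec v) = QuadraticMap.polar Q u v := fun u v => by
        rw [hG₀, ← Matrix.toBilin'_apply', Matrix.toBilin'_toMatrix', QuadraticMap.polarBilin_apply_apply]
      ext i j
      have e : dotProduct (M.mulVec (Pi.single i 1)) (G₀.mulVec (M.mulVec (Pi.single j 1)))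
          = dotProduct (Pi.single i 1) (G₀.mulVec (Pi.single j 1)) := by
        rw [hpol, hpol, QuadraticMap.polar, QuadraticMap.polar, ← Matrix.mulVec_add, hiso, hiso, hiso]
      simp only [Matrix.mulVec_single_one, single_one_dotProduct, Matrix.col_apply] at e
      rw [Matrix.mul_assoc]
      exact e
    rw [← hM] at hA
    obtain ⟨P, h1, h2'⟩ := LBJordanForms.pull e hA hinv hdet
    exact ⟨_, by rw [Matrix.transpose_mul, Matrix.transpose_mul, Matrix.transpose_transpose, hsym, Matrix.mul_assoc],
      h1, h2'⟩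
  · rintro ⟨G, hG, hdet, hinv⟩
    let e : ((k : Fin t) × Fin (d k)) ≃ Fin n := Fintype.equivOfCardEq (by simp [hsum])
    obtain ⟨G', hG'⟩ : ∃ G', G' = Matrix.reindex e e G := ⟨_, rfl⟩
    obtain ⟨M, hM⟩ : ∃ M, M = Matrix.reindex e e (Cfsg.jordanTypeMatrix d F) := ⟨_, rfl⟩
    have hdet' : G'.det ≠ 0 := by rw [hG', Matrix.det_reindex_self]; exact hdet
    have hMG : M.transpose * G' * M = G' := by
      conv_rhs => rw [hG', ← hinv]
      rw [hM, hG']
      simp only [Matrix.reindex_apply, Matrix.transpose_submatrix, Matrix.submatrix_mul_equiv]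
    have hMd : M.det ≠ 0 := fun h0 => hdet' (by rw [← hMG, Matrix.det_mul, h0, mul_zero])
    refine ⟨(Matrix.toBilin' G').toQuadraticMap, ?_, e, ⟨Matrix.GeneralLinearGroup.mkOfDetNeZero M hMd, ?_⟩, ?_⟩
    · have hp : QuadraticMap.polarBilin (Matrix.toBilin' G').toQuadraticMap = Matrix.toBilin' ((2 : F) • G') := by
        rw [LinearMap.BilinMap.polarBilin_toQuadraticMap]
        refine LinearMap.ext fun x => LinearMap.ext fun y => ?_
        have hs : G'.transpose = G' := by rw [hG', Matrix.reindex_apply, Matrix.transpose_submatrix, hG]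
        rw [map_smul, LinearMap.add_apply, LinearMap.add_apply, LinearMap.flip_apply, LinearMap.smul_apply,
          LinearMap.smul_apply, smul_eq_mul, Matrix.toBilin'_apply', Matrix.toBilin'_apply', Matrix.dotProduct_mulVec y,
          ← Matrix.mulVec_transpose, hs, dotProduct_comm (G'.mulVec y)]
        ring
      rw [hp]
      refine Matrix.nondegenerate_toBilin'_iff.2 (Matrix.nondegenerate_iff_det_ne_zero.2 ?_)
      rw [Matrix.det_smul]
      exact mul_ne_zero (pow_ne_zero _ h2) hdet'
    · intro u v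
      show (Matrix.toBilin' G').toQuadraticMap (M.mulVec u) = (Matrix.toBilin' G').toQuadraticMap u
      rw [LinearMap.BilinMap.toQuadraticMap_apply, LinearMap.BilinMap.toQuadraticMap_apply, Matrix.toBilin'_apply',
        Matrix.toBilin'_apply']
      conv_rhs => rw [← hMG]
      rw [← Matrix.mulVec_mulVec, ← Matrix.mulVec_mulVec, Matrix.dotProduct_mulVec u M.transpose,
        Matrix.vecMul_transpose]
    · show IsConj _ M
      rw [hM]

end Cfsg.Agent.S2583

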