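import Cfsg.Statements.S2584
import Cfsg.Agent.Lib.LinearBlock.JordanForms

set_option autoImplicit false
open Cfsg

namespace Cfsg.Agent.S2584

/-- Which unipotent Jordan types occur in a finite orthogonal group in characteristic two: over a finite field of characteristic 2 and in even dimension 2m, a unipotent matrix with Jordan block sizes d_1, …, d_t (sum 2m, all at least 1) is similar to an isometry of some quadratic form on F^(2m) with non-degenerate polar form if and only if every odd block size occurs an even number of times (the same condition as for the symplectic group, which contains these orthogonal groups). -/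
theorem result {F : Type*} [Field F] [Fintype F] [CharP F 2] {m t : ℕ} (d : Fin t → ℕ) (hd : ∀ k, 1 ≤ d k) (hsum : ∑ k, d k = 2 * m) : (∃ Q : QuadraticForm F (Fin (2 * m) → F), (QuadraticMap.polarBilin Q).Nondegenerate ∧ ∃ e : ((k : Fin t) × Fin (d k)) ≃ Fin (2 * m), ∃ A : ↥(Cfsg.isometryGroup F ⇑Q), IsConj (Matrix.reindex e e (Cfsg.jordanTypeMatrix d F)) ((A : Matrix.GeneralLinearGroup (Fin (2 * m)) F) : Matrix (Fin (2 * m)) (Fin (2 * m)) F)) ↔ ∀ j : ℕ, Odd j → Even (Finset.univ.filter (fun k : Fin t => d k = j)).card := by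
  classical
  have h20 : (2 : F) = 0 := CharTwo.two_eq_zero
  rw [← LBJordanForms.alt_iff (F := F) hd]
  constructor
  · rintro ⟨Q, hQ, e, A, hA⟩
    obtain ⟨G₀, hG₀⟩ : ∃ G₀, G₀ = LinearMap.BilinForm.toMatrix' (QuadraticMap.polarBilin Q) := ⟨_, rfl⟩
    obtain ⟨M, hM⟩ : ∃ M, M = ((A : Matrix.GeneralLinearGroup (Fin (2 * m)) F) : Matrix (Fin (2 * m)) (Fin (2 * m)) F) :=
      ⟨_, rfl⟩
    have hdet : G₀.det ≠ 0 := by
      rw [hG₀]
      exact Matrix.nondegenerate_iff_det_ne_zero.1 (LinearMap.BilinForm.nondegenerate_toMatrix'_iff.2 hQ)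
    have hsym : G₀.transpose = -G₀ := by
      ext i j
      rw [Matrix.transpose_apply, Matrix.neg_apply, CharTwo.neg_eq, hG₀, LinearMap.BilinForm.toMatrix'_apply,
        LinearMap.BilinForm.toMatrix'_apply]
      exact QuadraticMap.polar_comm _ _ _
    have hdiag : ∀ a, G₀ a a = 0 := fun a => by
      rw [hG₀, LinearMap.BilinForm.toMatrix'_apply]
      show QuadraticMap.polar Q _ _ = 0
      rw [QuadraticMap.polar_self, two_smul, CharTwo.add_self_eq_zero]
    have hiso : ∀ u, Q (M.mulVec u) = Q u := fun u => by rw [hM]; exact A.2 u u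
    have hinv : M.transpose * G₀ * M = G₀ := by
      have hpol : ∀ u v, dotProduct u (G₀.mulVec v) = QuadraticMap.polar Q u v := fun u v => by
        rw [hG₀, ← Matrix.toBilin'_apply', Matrix.toBilin'_toMatrix', QuadraticMap.polarBilin_apply_apply]
      ext i j
      have e : dotProduct (M.mulVec (Pi.single i 1)) (G₀.mulVec (M.mulVec (Pi.single j 1)))
          = dotProduct (Pi.single i 1) (G₀.mulVec (Pi.single j 1)) := by
        rw [hpol, hpol, QuadraticMap.polar, QuadraticMap.polar, ← Matrix.mulVec_add, hiso, hiso, hiso]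
      simp only [Matrix.mulVec_single_one, single_one_dotProduct, Matrix.col_apply] at e
      rw [Matrix.mul_assoc]
      exact e
    rw [← hM] at hA
    obtain ⟨P, h1, h2'⟩ := LBJordanForms.pull e hA hinv hdet
    obtain ⟨h3, h4⟩ := LBJordanForms.alt_congr hsym hdiag P
    exact ⟨_, h3, h4, h1, h2'⟩
  · rintro ⟨G, hG, hG0, hdet, hinv⟩
    let e : ((k : Fin t) × Fin (d k)) ≃ Fin (2 * m) := Fintype.equivOfCardEq (by simp [hsum])
    obtain ⟨G', hG'⟩ : ∃ G', G' = Matrix.reindex e e G := ⟨_, rfl⟩
    obtain ⟨M, hM⟩ : ∃ M, M = Matrix.reindex e e (Cfsg.jordanTypeMatrix d F) := ⟨_, rfl⟩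
    have hdet' : G'.det ≠ 0 := by rw [hG', Matrix.det_reindex_self]; exact hdet
    have hMG : M.transpose * G' * M = G' := by
      conv_rhs => rw [hG', ← hinv]
      rw [hM, hG']
      simp only [Matrix.reindex_apply, Matrix.transpose_submatrix, Matrix.submatrix_mul_equiv]
    have hMd : M.det ≠ 0 := fun h0 => hdet' (by rw [← hMG, Matrix.det_mul, h0, mul_zero])
    have hG's : G'.transpose = -G' := by rw [hG', Matrix.reindex_apply, Matrix.transpose_submatrix, hG]; rfl
    have hG'0 : ∀ a, G' a a = 0 := fun a => by rw [hG']; exact hG0 _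
    let qv : ((k : Fin t) × Fin (d k)) → F := fun a =>
      if 0 < (a.2 : ℕ) then G ⟨a.1, ⟨(a.2 : ℕ) - 1, by omega⟩⟩ a else 0
    obtain ⟨B, hB⟩ : ∃ B : Matrix (Fin (2 * m)) (Fin (2 * m)) F,
        B = Matrix.of fun i j => if i = j then qv (e.symm i) else if i < j then G' i j else 0 := ⟨_, rfl⟩
    obtain ⟨Q, hQd⟩ : ∃ Q : QuadraticForm F (Fin (2 * m) → F), Q = (Matrix.toBilin' B).toQuadraticMap := ⟨_, rfl⟩
    have hBB : B + B.transpose = G' := by
      ext i j
      rw [Matrix.add_apply, Matrix.transpose_apply, hB, Matrix.of_apply, Matrix.of_apply]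
      rcases lt_trichotomy i j with h | rfl | h
      · rw [if_neg h.ne, if_pos h, if_neg h.ne', if_neg (not_lt.2 h.le), add_zero]
      · rw [if_pos rfl, CharTwo.add_self_eq_zero, hG'0]
      · rw [if_neg h.ne', if_neg (not_lt.2 h.le), if_neg h.ne, if_pos h, zero_add]
        have := congrFun (congrFun hG's i) j
        rwa [Matrix.transpose_apply, Matrix.neg_apply, CharTwo.neg_eq] at this
    have hp : QuadraticMap.polarBilin Q = Matrix.toBilin' G' := by
      rw [hQd, LinearMap.BilinMap.polarBilin_toQuadraticMap, ← hBB, map_add]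
      congr 1
      refine LinearMap.ext fun x => LinearMap.ext fun y => ?_
      rw [LinearMap.flip_apply, Matrix.toBilin'_apply', Matrix.toBilin'_apply', Matrix.dotProduct_mulVec y,
        Matrix.mulVec_transpose, dotProduct_comm]
    have hpol : ∀ u v, QuadraticMap.polar Q u v = dotProduct u (G'.mulVec v) := fun u v => by
      rw [← QuadraticMap.polarBilin_apply_apply, hp, Matrix.toBilin'_apply']
    have hsingle : ∀ i, Q (Pi.single i 1) = qv (e.symm i) := fun i => by
      rw [hQd, LinearMap.BilinMap.toQuadraticMap_apply, Matrix.toBilin'_apply', Matrix.mulVec_single_one,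
        single_one_dotProduct, Matrix.col_apply, hB, Matrix.of_apply, if_pos rfl]
    have hcol : ∀ i, Q (M.mulVec (Pi.single i 1)) = Q (Pi.single i 1) := by
      intro i
      obtain ⟨⟨k, a⟩, rfl⟩ := e.surjective i
      by_cases ha : (a : ℕ) + 1 < d k
      · have hc : M.mulVec (Pi.single (e ⟨k, a⟩) 1)
            = Pi.single (e ⟨k, a⟩) 1 + Pi.single (e ⟨k, ⟨(a : ℕ) + 1, ha⟩⟩) 1 := by
          funext j
          obtain ⟨⟨l, b⟩, rfl⟩ := e.surjective j
          rw [Matrix.mulVec_single_one, Matrix.col_apply, hM, Matrix.reindex_apply, Matrix.submatrix_apply,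
            Equiv.symm_apply_apply, Equiv.symm_apply_apply, Pi.add_apply, Pi.single_apply, Pi.single_apply,
            Cfsg.jordanTypeMatrix]
          by_cases hl : l = k
          · subst hl
            simp only [Matrix.blockDiagonal'_apply_eq, Cfsg.jordanBlock, Matrix.of_apply, EmbeddingLike.apply_eq_iff_eq,
              Sigma.mk.injEq, heq_eq_eq, true_and, Fin.ext_iff]
            by_cases h1 : (b : ℕ) = (a : ℕ)
            · rw [if_pos h1, if_pos h1, if_neg (by omega), add_zero]
            · rw [if_neg h1, if_neg h1, zero_add]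
          · rw [Matrix.blockDiagonal'_apply_ne _ _ _ hl,
              if_neg (fun h => hl (congrArg Sigma.fst (e.injective h))),
              if_neg (fun h => hl (congrArg Sigma.fst (e.injective h))), add_zero]
        rw [hc, QuadraticMap.map_add (⇑Q), hsingle, hsingle, hpol, Matrix.mulVec_single_one, single_one_dotProduct,
          Matrix.col_apply, hG', Matrix.reindex_apply, Matrix.submatrix_apply, Equiv.symm_apply_apply,
          Equiv.symm_apply_apply]
        have hq : qv ⟨k, ⟨(a : ℕ) + 1, ha⟩⟩ = G ⟨k, a⟩ ⟨k, ⟨(a : ℕ) + 1, ha⟩⟩ := by simp [qv]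
        rw [hq, add_assoc, CharTwo.add_self_eq_zero, add_zero]
      · have hc : M.mulVec (Pi.single (e ⟨k, a⟩) 1) = Pi.single (e ⟨k, a⟩) 1 := by
          funext j
          obtain ⟨⟨l, b⟩, rfl⟩ := e.surjective j
          rw [Matrix.mulVec_single_one, Matrix.col_apply, hM, Matrix.reindex_apply, Matrix.submatrix_apply,
            Equiv.symm_apply_apply, Equiv.symm_apply_apply, Pi.single_apply, Cfsg.jordanTypeMatrix]
          by_cases hl : l = k
          · subst hl
            simp only [Matrix.blockDiagonal'_apply_eq, Cfsg.jordanBlock, Matrix.of_apply, EmbeddingLike.apply_eq_iff_eq,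
              Sigma.mk.injEq, heq_eq_eq, true_and, Fin.ext_iff]
            by_cases h1 : (b : ℕ) = (a : ℕ)
            · rw [if_pos h1, if_pos h1]
            · rw [if_neg h1, if_neg h1, if_neg (by omega)]
          · rw [Matrix.blockDiagonal'_apply_ne _ _ _ hl,
              if_neg (fun h => hl (congrArg Sigma.fst (e.injective h)))]
        rw [hc]
    have hall : ∀ v, Q (M.mulVec v) = Q v := by
      intro v
      rw [pi_eq_sum_univ' v]
      have hz : ∀ s : Finset (Fin (2 * m)), Q (M.mulVec (∑ i ∈ s, v i • Pi.single i (1 : F)))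
          = Q (∑ i ∈ s, v i • Pi.single i (1 : F)) := by
        intro s
        induction s using Finset.induction_on with
        | empty => simp
        | insert i s hi ih =>
          rw [Finset.sum_insert hi, Matrix.mulVec_add, QuadraticMap.map_add (⇑Q), QuadraticMap.map_add (⇑Q) (v i • _), ih,
            Matrix.mulVec_smul, QuadraticMap.map_smul, QuadraticMap.map_smul, hcol, hpol, hpol]
          congr 1
          conv_rhs => rw [← hMG]
          rw [← Matrix.mulVec_mulVec, ← Matrix.mulVec_mulVec, Matrix.dotProduct_mulVec (v i • _) M.transpose,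
            Matrix.vecMul_transpose, Matrix.mulVec_smul]
      exact hz _
    refine ⟨Q, ?_, e, ⟨Matrix.GeneralLinearGroup.mkOfDetNeZero M hMd, fun u v => hall u⟩, ?_⟩
    · rw [hp]
      exact Matrix.nondegenerate_toBilin'_iff.2 (Matrix.nondegenerate_iff_det_ne_zero.2 hdet')
    · show IsConj _ M
      rw [hM]

end Cfsg.Agent.S2584

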