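import Cfsg.Statements.S2588
import Cfsg.Agent.Lib.LinearBlock.UnitarySimilar

set_option autoImplicit false
open Cfsg

namespace Cfsg.Agent.S2588

/-- An invertible matrix A over the field with q² elements is conjugate in GL_n(q²) to an element of the general unitary group GU_n(q) (isometries of the Hermitian form Σ u_i v_i^q) if and only if A is similar to the inverse transpose of its entrywise q-th power (A ~ A^(−qT), the image of A under the map sending a matrix to the inverse transpose of its entrywise q-th power — inverse transpose composed with the field automorphism — whose fixed points form GU_n(q)). -/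
theorem result {K : Type*} [Field K] [Fintype K] {q n : ℕ} (hK : Fintype.card K = q ^ 2) (A : GL (Fin n) K) : (∃ B : ↥(Cfsg.GU n K q), IsConj A (B : GL (Fin n) K)) ↔ IsConj (A : Matrix (Fin n) (Fin n) K) (((A : Matrix (Fin n) (Fin n) K).map (fun x : K => x ^ q)).transpose)⁻¹ := by
  classical
  obtain ⟨σ, hσ, hne, hinv, -, -⟩ := HermStd.exists_sigma hK
  set M := (A : Matrix (Fin n) (Fin n) K) with hM
  have hmap : M.map (fun x : K => x ^ q) = M.map σ := by ext i j; simp [hσ]
  have hMd : M.det ≠ 0 := A.det_ne_zero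
  have hsd : IsUnit (LBUnitary.star' σ M).det := by
    rw [LBUnitary.det_star']; exact ((map_ne_zero σ).2 hMd).isUnit
  rw [hmap]
  change _ ↔ IsConj M (LBUnitary.star' σ M)⁻¹
  constructor
  · rintro ⟨⟨B, hB⟩, hc⟩
    obtain ⟨c, hc⟩ := isConj_iff.1 hc
    change c * A * c⁻¹ = B at hc
    have hBB := (LBUnitary.mem_GU hσ hinv B).1 hB
    set C := (c : Matrix (Fin n) (Fin n) K) with hC
    set C' := ((c⁻¹ : GL (Fin n) K) : Matrix (Fin n) (Fin n) K) with hC'
    have hCC : C' * C = 1 := by rw [hC, hC', ← Units.val_mul, inv_mul_cancel]; rfl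
    have hB' : (B : Matrix (Fin n) (Fin n) K) = C * M * C' := by rw [← hc]; rfl
    rw [hB', LBUnitary.star_mul', LBUnitary.star_mul'] at hBB
    set W := LBUnitary.star' σ C * C with hW
    have hWA : LBUnitary.star' σ M * W * M = W := by
      calc LBUnitary.star' σ M * W * M
          = LBUnitary.star' σ (C' * C) * (LBUnitary.star' σ M * (LBUnitary.star' σ C * C) * M) * (C' * C) := by
            rw [hCC, LBUnitary.star_one', one_mul, mul_one]
        _ = LBUnitary.star' σ C * ((LBUnitary.star' σ C' * (LBUnitary.star' σ M * LBUnitary.star' σ C)) *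
              (C * M * C')) * C := by rw [LBUnitary.star_mul']; simp only [mul_assoc]
        _ = W := by rw [hBB, mul_one]
    have hWd : W.det ≠ 0 := by
      rw [hW, Matrix.det_mul, LBUnitary.det_star']
      exact mul_ne_zero ((map_ne_zero σ).2 c.det_ne_zero) c.det_ne_zero
    refine ⟨Matrix.GeneralLinearGroup.mkOfDetNeZero W hWd, ?_⟩
    show W * M = (LBUnitary.star' σ M)⁻¹ * W
    conv_rhs => rw [← hWA]
    rw [mul_assoc (LBUnitary.star' σ M) W M, ← mul_assoc, Matrix.nonsing_inv_mul _ hsd, one_mul]
  · rintro ⟨P, hP⟩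
    change (P : Matrix (Fin n) (Fin n) K) * M = (LBUnitary.star' σ M)⁻¹ * P at hP
    have hPinv : LBUnitary.star' σ M * (P : Matrix (Fin n) (Fin n) K) * M = P := by
      rw [mul_assoc, hP, ← mul_assoc, Matrix.mul_nonsing_inv _ hsd, one_mul]
    obtain ⟨H, hHd, hH, hHA⟩ := LBUnitary.exists_hermitian hne hinv hMd (Matrix.GeneralLinearGroup.det_ne_zero P) hPinv
    obtain ⟨c, hc⟩ := LBUnitary.exists_sqrt hne hinv hHd hH
    set C := (c : Matrix (Fin n) (Fin n) K) with hC
    set C' := ((c⁻¹ : GL (Fin n) K) : Matrix (Fin n) (Fin n) K) with hC'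
    have hCC : C * C' = 1 := by rw [hC, hC', ← Units.val_mul, mul_inv_cancel]; rfl
    refine ⟨⟨c * A * c⁻¹, (LBUnitary.mem_GU hσ hinv _).2 ?_⟩, isConj_iff.2 ⟨c, rfl⟩⟩
    show LBUnitary.star' σ (C * M * C') * (C * M * C') = 1
    rw [LBUnitary.star_mul', LBUnitary.star_mul']
    calc LBUnitary.star' σ C' * (LBUnitary.star' σ M * LBUnitary.star' σ C) * (C * M * C')
        = LBUnitary.star' σ C' * (LBUnitary.star' σ M * (LBUnitary.star' σ C * C) * M) * C' := by
          simp only [mul_assoc]
      _ = LBUnitary.star' σ C' * (LBUnitary.star' σ C * C) * C' := by rw [hc, hHA]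
      _ = LBUnitary.star' σ (C * C') * (C * C') := by rw [LBUnitary.star_mul']; simp only [mul_assoc]
      _ = 1 := by rw [hCC, LBUnitary.star_one', one_mul]

end Cfsg.Agent.S2588

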