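import Cfsg.Statements.S2589
import Cfsg.Agent.Lib.Classical.SympClasses
-- import your own Cfsg.Agent.* helpers here

set_option autoImplicit false
open Cfsg

namespace Cfsg.Agent.S2589

/-- Two semisimple elements of the finite symplectic group Sp_2m(F) (elements of order prime to the characteristic) are conjugate in Sp_2m(F) if and only if they are conjugate in GL_2m(F). -/
theorem result {F : Type*} [Field F] [Fintype F] {p : ℕ} [Fact p.Prime] [CharP F p] {m : ℕ} (A B : Matrix.symplecticGroup (Fin m) F) (hA : (orderOf A).Coprime p) : IsConj A B ↔ IsConj (A : Matrix (Fin m ⊕ Fin m) (Fin m ⊕ Fin m) F) (B : Matrix (Fin m ⊕ Fin m) (Fin m ⊕ Fin m) F) := by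
  refine ⟨fun h => ?_, fun h => ?_⟩
  · exact (Matrix.symplecticGroup (Fin m) F).subtype.map_isConj h
  · obtain ⟨c, hc⟩ := h
    refine SympClasses.isConj_of_conjugator p A B hA (hA.coprime_dvd_left ?_) c hc
    refine orderOf_dvd_of_pow_eq_one (Subtype.ext ?_)
    have h1 := (hc.pow_right (orderOf A)).eq
    rw [← SubmonoidClass.coe_pow, pow_orderOf_eq_one, OneMemClass.coe_one, mul_one] at h1
    rw [SubmonoidClass.coe_pow, OneMemClass.coe_one]
    exact c.isUnit.mul_right_cancel (h1.symm.trans (one_mul _).symm)

end Cfsg.Agent.S2589
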