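import Cfsg.Statements.S2591
import Cfsg.Agent.Lib.LinearBlock.RegUnipSp

set_option autoImplicit false
open Cfsg

namespace Cfsg.Agent.S2591

/-- Over a finite field of odd order and for m ≥ 1, the regular unipotent elements of Sp_2m(F) (u − 1 nilpotent of rank 2m − 1, a single Jordan block) form exactly two conjugacy classes of Sp_2m(F) (one class under the similarity group, which splits in two). -/
theorem result {F : Type*} [Field F] [Fintype F] {q : ℕ} (hF : Fintype.card F = q) (hq : Odd q) {m : ℕ} (hm : 1 ≤ m) : Nat.card {C : ConjClasses ↥(Matrix.symplecticGroup (Fin m) F) // ∃ u : Matrix.symplecticGroup (Fin m) F, ConjClasses.mk u = C ∧ ((u : Matrix (Fin m ⊕ Fin m) (Fin m ⊕ Fin m) F) - 1) ^ (2 * m) = 0 ∧ ((u : Matrix (Fin m ⊕ Fin m) (Fin m ⊕ Fin m) F) - 1).rank = 2 * m - 1} = 2 := by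
  classical
  have hchar : ringChar F ≠ 2 := fun h => by
    have := FiniteField.even_card_iff_char_two.1 h
    rw [hF] at this
    rw [Nat.odd_iff] at hq
    omega
  have h2 : (2 : F) ≠ 0 := Ring.two_ne_zero hchar
  obtain ⟨δ, hδ⟩ := FiniteField.exists_nonsquare hchar
  have hδ0 : δ ≠ 0 := fun h => hδ (h ▸ IsSquare.zero)
  have hJ := Matrix.J_squared (Fin m) F
  have hJt := Matrix.J_transpose (Fin m) F
  obtain ⟨A, hA, hregA⟩ := LBRegSp.exists_reg (F := F) h2 hm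
  obtain ⟨S, hSd⟩ : ∃ S : Matrix (Fin m ⊕ Fin m) (Fin m ⊕ Fin m) F, S = Matrix.fromBlocks (δ • 1) 0 0 1 := ⟨_, rfl⟩
  have hS : LBRegForm.adj (Matrix.J (Fin m) F) S * S = δ • (1 : Matrix (Fin m ⊕ Fin m) (Fin m ⊕ Fin m) F) := by
    rw [hSd, LBRegForm.adj, Matrix.fromBlocks_transpose, Matrix.J, Matrix.fromBlocks_multiply,
      Matrix.fromBlocks_multiply, Matrix.fromBlocks_neg, Matrix.fromBlocks_multiply, ← Matrix.fromBlocks_one,
      Matrix.fromBlocks_smul]
    simp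
  obtain ⟨T, hTd⟩ : ∃ T, T = δ⁻¹ • LBRegForm.adj (Matrix.J (Fin m) F) S := ⟨_, rfl⟩
  have hTS : T * S = 1 := by rw [hTd, smul_mul_assoc, hS, smul_smul, inv_mul_cancel₀ hδ0, one_smul]
  have hST : S * T = 1 := mul_eq_one_comm.1 hTS
  have hTT : T * LBRegForm.adj (Matrix.J (Fin m) F) T = δ⁻¹ • (1 : Matrix (Fin m ⊕ Fin m) (Fin m ⊕ Fin m) F) := by
    conv_lhs => rw [hTd]
    rw [LBRegForm.adj_smul, LBRegForm.adj_adj hJ hJt, smul_mul_assoc, mul_smul_comm, hS, smul_smul, smul_smul]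
    congr 1
    field_simp
  have hTT' : LBRegForm.adj (Matrix.J (Fin m) F) T * T = δ⁻¹ • (1 : Matrix (Fin m ⊕ Fin m) (Fin m ⊕ Fin m) F) := by
    calc LBRegForm.adj (Matrix.J (Fin m) F) T * T
        = S * (T * LBRegForm.adj (Matrix.J (Fin m) F) T) * T := by rw [← mul_assoc, hST, one_mul]
      _ = δ⁻¹ • 1 := by rw [hTT, mul_smul_comm, smul_mul_assoc, mul_one, hST]
  obtain ⟨A', hA'd⟩ : ∃ A', A' = S * A * T := ⟨_, rfl⟩
  have hSS : S * LBRegForm.adj (Matrix.J (Fin m) F) S = δ • (1 : Matrix (Fin m ⊕ Fin m) (Fin m ⊕ Fin m) F) := by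
    calc S * LBRegForm.adj (Matrix.J (Fin m) F) S
        = S * (δ • T) := by rw [hTd, smul_smul, mul_inv_cancel₀ hδ0, one_smul]
      _ = δ • 1 := by rw [mul_smul_comm, hST]
  have hA' : A' * LBRegForm.adj (Matrix.J (Fin m) F) A' = 1 := by
    rw [hA'd, LBRegForm.adj_mul hJ, LBRegForm.adj_mul hJ]
    calc S * A * T * (LBRegForm.adj (Matrix.J (Fin m) F) T * (LBRegForm.adj (Matrix.J (Fin m) F) A *
          LBRegForm.adj (Matrix.J (Fin m) F) S))
        = S * A * (T * LBRegForm.adj (Matrix.J (Fin m) F) T) * LBRegForm.adj (Matrix.J (Fin m) F) A *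
          LBRegForm.adj (Matrix.J (Fin m) F) S := by simp only [mul_assoc]
      _ = δ⁻¹ • (S * (A * LBRegForm.adj (Matrix.J (Fin m) F) A) * LBRegForm.adj (Matrix.J (Fin m) F) S) := by
        rw [hTT, mul_smul_comm, mul_one, smul_mul_assoc, smul_mul_assoc, mul_assoc S A]
      _ = 1 := by rw [hA, mul_one, hSS, smul_smul, inv_mul_cancel₀ hδ0, one_smul]
  have hregA' : LBRegSp.IsReg A' := by
    have e : A' - 1 = S * (A - 1) * T := by rw [hA'd, mul_sub, sub_mul, mul_one, hST]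
    refine ⟨?_, ?_⟩
    · let u : (Matrix (Fin m ⊕ Fin m) (Fin m ⊕ Fin m) F)ˣ := ⟨S, T, hST, hTS⟩
      rw [e, show (S * (A - 1) * T) ^ (2 * m) = S * (A - 1) ^ (2 * m) * T from Units.conj_pow u _ _, hregA.1,
        mul_zero, zero_mul]
    · rw [e, Matrix.rank_mul_eq_left_of_isUnit_det _ _ (Matrix.isUnit_det_of_left_inverse hST),
        Matrix.rank_mul_eq_right_of_isUnit_det _ _ (Matrix.isUnit_det_of_left_inverse hTS)]
      exact hregA.2
  let g₀ : Matrix.symplecticGroup (Fin m) F := ⟨A, (LBRegSp.mem_iff A).2 hA⟩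
  let g₁ : Matrix.symplecticGroup (Fin m) F := ⟨A', (LBRegSp.mem_iff A').2 hA'⟩
  have hconj : ∀ (G : Matrix (Fin m ⊕ Fin m) (Fin m ⊕ Fin m) F) (a b : Matrix.symplecticGroup (Fin m) F),
      LBRegForm.adj (Matrix.J (Fin m) F) G * G = 1 → G * a.1 = b.1 * G → IsConj a b := fun G a b hG hab =>
    isConj_iff.2 ⟨⟨G, (LBRegSp.mem_iff G).2 (mul_eq_one_comm.1 hG)⟩,
      mul_inv_eq_iff_eq_mul.2 (Subtype.ext hab)⟩
  rw [Nat.card_eq_two_iff]
  refine ⟨⟨ConjClasses.mk g₀, g₀, rfl, hregA⟩, ⟨ConjClasses.mk g₁, g₁, rfl, hregA'⟩, ?_, ?_⟩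
  · intro h
    obtain ⟨G, hG⟩ := isConj_iff.1 (ConjClasses.mk_eq_mk_iff_isConj.1 (congrArg Subtype.val h))
    have hG1 := (LBRegSp.mem_iff G.1).1 G.2
    have hGA : G.1 * A = A' * G.1 := congrArg Subtype.val (mul_inv_eq_iff_eq_mul.1 hG)
    have hX : Commute (T * G.1) A := by
      show T * G.1 * A = A * (T * G.1)
      rw [mul_assoc, hGA, hA'd, ← mul_assoc, ← mul_assoc, ← mul_assoc, hTS, one_mul, mul_assoc A T]
    have hsq : IsSquare δ⁻¹ := LBRegSp.norm_square h2 hA hregA hm hX (by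
      rw [LBRegForm.adj_mul hJ, ← mul_assoc, mul_assoc T, hG1, mul_one, hTT])
    exact hδ (isSquare_inv.1 hsq)
  · rw [Set.eq_univ_iff_forall]
    rintro ⟨C, u, rfl, hu1, hu2⟩
    obtain ⟨Q, a, ha, hQ, hQA⟩ := LBRegSp.exists_similitude h2 hA hregA hm ((LBRegSp.mem_iff u.1).1 u.2) ⟨hu1, hu2⟩
    by_cases hsq : IsSquare a
    · obtain ⟨c, hc⟩ := hsq
      have hc0 : c ≠ 0 := fun h => ha (by rw [hc, h, mul_zero])
      refine Or.inl (Subtype.ext (ConjClasses.mk_eq_mk_iff_isConj.2 (hconj (c⁻¹ • Q) g₀ u ?_ ?_).symm))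
      · rw [LBRegForm.adj_smul, smul_mul_assoc, mul_smul_comm, hQ, smul_smul, smul_smul, hc,
          show c⁻¹ * c⁻¹ * (c * c) = 1 by field_simp, one_smul]
      · rw [smul_mul_assoc, mul_smul_comm, hQA]
    · have hsq' : IsSquare (a * δ) := by
        rw [← quadraticChar_one_iff_isSquare (mul_ne_zero ha hδ0), map_mul,
          quadraticChar_neg_one_iff_not_isSquare.2 hsq, quadraticChar_neg_one_iff_not_isSquare.2 hδ]
        norm_num
      obtain ⟨e, he⟩ := hsq'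
      have he0 : e ≠ 0 := fun h => mul_ne_zero ha hδ0 (by rw [he, h, mul_zero])
      refine Or.inr (Subtype.ext (ConjClasses.mk_eq_mk_iff_isConj.2
        (hconj ((δ / e) • (Q * T)) g₁ u ?_ ?_).symm))
      · rw [LBRegForm.adj_smul, smul_mul_assoc, mul_smul_comm, LBRegForm.adj_mul hJ,
          show LBRegForm.adj (Matrix.J (Fin m) F) T * LBRegForm.adj (Matrix.J (Fin m) F) Q * (Q * T)
            = LBRegForm.adj (Matrix.J (Fin m) F) T * (LBRegForm.adj (Matrix.J (Fin m) F) Q * Q) * T by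
            simp only [mul_assoc], hQ, mul_smul_comm, mul_one, smul_mul_assoc, hTT', smul_smul, smul_smul, smul_smul]
        rw [show δ / e * (δ / e) * a * δ⁻¹ = 1 by field_simp; linear_combination he, one_smul]
      · show (δ / e) • (Q * T) * A' = u.1 * ((δ / e) • (Q * T))
        rw [smul_mul_assoc, mul_smul_comm, hA'd, show Q * T * (S * A * T) = Q * (T * S) * A * T by
          simp only [mul_assoc], hTS, mul_one, hQA, mul_assoc]

end Cfsg.Agent.S2591

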