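import Cfsg.Statements.S2592
import Cfsg.Agent.Lib.LinearBlock.RegUnipSp

set_option autoImplicit false
open Cfsg

namespace Cfsg.Agent.S2592

/-- Over a finite field with q elements, q odd, the centraliser in Sp_2m(F) (m ≥ 1) of a regular unipotent element (u − 1 nilpotent of rank 2m − 1) has order 2 q^m. -/
theorem result {F : Type*} [Field F] [Fintype F] {q : ℕ} (hF : Fintype.card F = q) (hq : Odd q) {m : ℕ} (hm : 1 ≤ m) (u : Matrix.symplecticGroup (Fin m) F) (hnil : ((u : Matrix (Fin m ⊕ Fin m) (Fin m ⊕ Fin m) F) - 1) ^ (2 * m) = 0) (hreg : ((u : Matrix (Fin m ⊕ Fin m) (Fin m ⊕ Fin m) F) - 1).rank = 2 * m - 1) : Nat.card ↥(Subgroup.centralizer ({u} : Set ↥(Matrix.symplecticGroup (Fin m) F))) = 2 * q ^ m := by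
  classical
  have h2 : (2 : F) ≠ 0 := fun h => by
    have := FiniteField.even_card_iff_char_two.1
      (show ringChar F = 2 from CharP.ringChar_of_prime_eq_zero Nat.prime_two h)
    rw [hF] at this
    rw [Nat.odd_iff] at hq
    omega
  have hA := (LBRegSp.mem_iff u.1).1 u.2
  have h := LBRegSp.card_centralizer h2 hA ⟨hnil, hreg⟩ hm
  rw [Nat.card_eq_fintype_card (α := F), hF] at h
  rw [← h]
  refine Nat.card_congr ⟨fun g => ⟨g.1.1, ?_, (LBRegSp.mem_iff _).1 g.1.2⟩,
    fun X => ⟨⟨X.1, (LBRegSp.mem_iff _).2 X.2.2⟩, ?_⟩, fun g => rfl, fun X => rfl⟩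
  · exact congrArg Subtype.val (Subgroup.mem_centralizer_singleton_iff.1 g.2)
  · exact Subgroup.mem_centralizer_singleton_iff.2 (Subtype.ext X.2.1.eq)

end Cfsg.Agent.S2592

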