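import Cfsg.Statements.S2594
import Cfsg.Agent.Lib.Classical.Symplectic

set_option autoImplicit false
open Cfsg Matrix

namespace Cfsg.Agent.S2594

/-- Over a finite field with q elements, q even, an element t of Sp_2m(F) with rank(t − 1) = 1 (a symplectic transvection) has centraliser in Sp_2m(F) of order q^(2m−1) · |Sp_(2m−2)(q)| = q^(2m−1) · q^((m−1)²) · Π_(i=1)^(m−1) (q^(2i) − 1). -/
theorem result {F : Type*} [Field F] [Fintype F] [CharP F 2] {q : ℕ} (hF : Fintype.card F = q) {m : ℕ} (hm : 1 ≤ m) (t : Matrix.symplecticGroup (Fin m) F) (ht : ((t : Matrix (Fin m ⊕ Fin m) (Fin m ⊕ Fin m) F) - 1).rank = 1) : Nat.card ↥(Subgroup.centralizer ({t} : Set ↥(Matrix.symplecticGroup (Fin m) F))) = q ^ (2 * m - 1) * (q ^ ((m - 1) ^ 2) * ∏ i : Fin (m - 1), (q ^ (2 * ((i : ℕ) + 1)) - 1)) := by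
  classical
  let B := ClassicalSp.spBilin m F
  have hB : ∀ (g : Matrix.symplecticGroup (Fin m) F) x y, B (g.1 *ᵥ x) (g.1 *ᵥ y) = B x y := fun g x y => by
    have := (ClassicalSp.mem_iff_preserves g.1).1 g.2 x y
    simpa [B, ClassicalSp.spBilin_apply] using this
  have halt : B.IsAlt := ClassicalSp.spBilin_isAlt
  have h2 : (2 : F) = 0 := CharTwo.two_eq_zero
  obtain ⟨⟨u, hu⟩, hu0, hspan⟩ := finrank_eq_one_iff'.1 (show Module.finrank F
    (LinearMap.range ((t : Matrix (Fin m ⊕ Fin m) (Fin m ⊕ Fin m) F) - 1).mulVecLin) = 1 from ht)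
  have hu0' : u ≠ 0 := fun e => hu0 (Subtype.ext e)
  have hN : ∀ x, ∃ a : F, t.1 *ᵥ x = x + a • u := fun x => by
    obtain ⟨a, ha⟩ := hspan ⟨_, LinearMap.mem_range_self _ x⟩
    refine ⟨a, ?_⟩
    have : a • u = t.1 *ᵥ x - x := by
      simpa [Matrix.sub_mulVec] using congrArg Subtype.val ha
    rw [this, add_sub_cancel]
  choose φ hφ using hN
  obtain ⟨z, hz⟩ : ∃ z, B u z = 1 := by
    by_contra! h
    refine hu0' (ClassicalSp.spBilin_nondeg.1 u fun y => ?_)
    by_contra hy
    exact h ((B u y)⁻¹ • y) (by rw [map_smul, smul_eq_mul, inv_mul_cancel₀ hy])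
  have hform : ∀ x, t.1 *ᵥ x = x + (φ z * B u x) • u := by
    intro x
    have h := hB t x z
    rw [hφ x, hφ z] at h
    simp only [map_add, map_smul, LinearMap.add_apply, LinearMap.smul_apply, smul_eq_mul, halt u, hz] at h
    have hxu : B x u = -B u x := (LinearMap.IsAlt.neg halt u x).symm
    rw [hxu] at h
    rw [hφ x, show φ x = φ z * B u x by linear_combination h]
  have hc : φ z ≠ 0 := by
    intro h0
    have h1 : (t : Matrix (Fin m ⊕ Fin m) (Fin m ⊕ Fin m) F) = 1 := Matrix.toLin'.injective (LinearMap.ext fun x => by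
      simp [hform x, h0])
    rw [h1, sub_self, Matrix.rank_zero] at ht
    exact one_ne_zero ht.symm
  have hact : ∀ (g : Matrix.symplecticGroup (Fin m) F) x, g • x = g.1 *ᵥ x := fun g x => rfl
  have hcen : Subgroup.centralizer ({t} : Set ↥(Matrix.symplecticGroup (Fin m) F)) = MulAction.stabilizer _ u := by
    ext g
    rw [Subgroup.mem_centralizer_singleton_iff, MulAction.mem_stabilizer_iff, hact]
    constructor
    · intro hg
      have e : ∀ x, g.1 *ᵥ (t.1 *ᵥ x) = t.1 *ᵥ (g.1 *ᵥ x) := fun x => by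
        rw [Matrix.mulVec_mulVec, Matrix.mulVec_mulVec, ← Submonoid.coe_mul, ← Submonoid.coe_mul, hg]
      have h1 := e z
      rw [hform, hform, Matrix.mulVec_add, Matrix.mulVec_smul, hz, mul_one, add_right_inj] at h1
      have hgu : g.1 *ᵥ u = B u (g.1 *ᵥ z) • u := by
        rw [mul_smul] at h1
        exact smul_right_injective _ hc h1
      have h3 := hB g u z
      rw [hgu, map_smul, LinearMap.smul_apply, smul_eq_mul, hz] at h3
      have h4 : B u (g.1 *ᵥ z) = 1 := by
        have h5 : (B u (g.1 *ᵥ z) - 1) * (B u (g.1 *ᵥ z) - 1) = 0 := by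
          linear_combination h3 + (1 - B u (g.1 *ᵥ z)) * h2
        exact sub_eq_zero.1 (mul_self_eq_zero.1 h5)
      rw [hgu, h4, one_smul]
    · intro hg
      apply Subtype.ext
      apply Matrix.toLin'.injective
      refine LinearMap.ext fun x => ?_
      simp only [Submonoid.coe_mul, Matrix.toLin'_apply, ← Matrix.mulVec_mulVec, hform,
        Matrix.mulVec_add, Matrix.mulVec_smul, hg]
      congr 2
      congr 1
      conv_lhs => rw [← hB g u x, hg]
  have horb : MulAction.orbit (Matrix.symplecticGroup (Fin m) F) u = {x | x ≠ 0} := by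
    ext x
    constructor
    · rintro ⟨g, rfl⟩ h
      exact hu0' ((ClassicalSp.toEquiv g).map_eq_zero_iff.1 h)
    · intro hx
      exact ClassicalSp.exists_map_vec hu0' hx
  have horbcard : (MulAction.stabilizer (Matrix.symplecticGroup (Fin m) F) u).index = q ^ (2 * m) - 1 := by
    rw [MulAction.index_stabilizer, horb, ← Nat.card_coe_set_eq, Nat.card_eq_fintype_card]
    simp [Finset.filter_ne', hF, two_mul]
  have hmul := Subgroup.card_mul_index (MulAction.stabilizer (Matrix.symplecticGroup (Fin m) F) u)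
  rw [horbcard, ClassicalSp.card_sp, Nat.card_eq_fintype_card (α := F), hF, ← hcen] at hmul
  obtain ⟨j, rfl⟩ : ∃ j, m = j + 1 := ⟨m - 1, by omega⟩
  have hq : 2 ≤ q := hF ▸ Fintype.one_lt_card
  have hpos : 0 < q ^ (2 * (j + 1)) - 1 := by
    have : q ^ 1 ≤ q ^ (2 * (j + 1)) := Nat.pow_le_pow_right (by omega) (by omega)
    rw [pow_one] at this
    omega
  refine Nat.eq_of_mul_eq_mul_right hpos (hmul.trans ?_)
  rw [Finset.prod_range_succ, Nat.add_sub_cancel, ← Fin.prod_univ_eq_prod_range,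
    show (j + 1) ^ 2 = (2 * (j + 1) - 1) + j ^ 2 by rw [show (j + 1) ^ 2 = j ^ 2 + 2 * j + 1 by ring]; omega,
    pow_add]
  ring

end Cfsg.Agent.S2594

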