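import Cfsg.Statements.S2599

set_option autoImplicit false
open Cfsg Matrix

namespace Cfsg.Agent.S2599

/-- An irreducible invariant subspace of a semisimple isometry is non-degenerate or totally singular: let Q be a quadratic form on F^n (F finite of characteristic p) with non-degenerate polar form f, x an isometry of Q of order prime to p, and U a non-zero x-invariant subspace containing no x-invariant subspace other than 0 and U. Then U meets its f-orthogonal trivially, or Q vanishes on U, or p = 2, U is a line spanned by a non-singular vector and x fixes U pointwise. -/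
theorem result {F : Type*} [Field F] [Fintype F] {p : ℕ} [Fact p.Prime] [CharP F p] {n : ℕ} (Q : QuadraticForm F (Fin n → F)) (hQ : (QuadraticMap.polarBilin Q).Nondegenerate) (x : ↥(Cfsg.isometryGroup F ⇑Q)) (hx : (orderOf x).Coprime p) (U : Submodule F (Fin n → F)) (hU0 : U ≠ ⊥) (hUx : ∀ u ∈ U, ((x : Matrix.GeneralLinearGroup (Fin n) F) : Matrix (Fin n) (Fin n) F).mulVec u ∈ U) (hirr : ∀ W : Submodule F (Fin n → F), W ≤ U → (∀ w ∈ W, ((x : Matrix.GeneralLinearGroup (Fin n) F) : Matrix (Fin n) (Fin n) F).mulVec w ∈ W) → W = ⊥ ∨ W = U) : U ⊓ LinearMap.BilinForm.orthogonal (QuadraticMap.polarBilin Q) U = ⊥ ∨ (∀ u ∈ U, Q u = 0) ∨ (p = 2 ∧ Module.finrank F U = 1 ∧ (∃ u ∈ U, Q u ≠ 0) ∧ ∀ u ∈ U, ((x : Matrix.GeneralLinearGroup (Fin n) F) : Matrix (Fin n) (Fin n) F).mulVec u = u) := by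
  classical
  let B : LinearMap.BilinForm F (Fin n → F) := QuadraticMap.polarBilin Q
  let M : Matrix (Fin n) (Fin n) F := ((x : Matrix.GeneralLinearGroup (Fin n) F) : Matrix (Fin n) (Fin n) F)
  have hQM : ∀ v, Q (M *ᵥ v) = Q v := fun v => x.2 v 0
  have hMinj : Function.Injective fun v => M *ᵥ v :=
    Matrix.mulVec_injective_iff_isUnit.mpr (Units.isUnit _)
  -- the radical of the restriction is invariant
  have hsurj : ∀ u ∈ U, ∃ w ∈ U, M *ᵥ w = u := by
    intro u hu
    have hinj : Function.Injective (fun w : U => (⟨M *ᵥ (w : Fin n → F), hUx _ w.2⟩ : U)) :=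
      fun a b h => Subtype.ext (hMinj (congrArg Subtype.val h))
    obtain ⟨w, hw⟩ := Finite.surjective_of_injective hinj ⟨u, hu⟩
    exact ⟨w, w.2, congrArg Subtype.val hw⟩
  have hinv : ∀ w ∈ U ⊓ LinearMap.BilinForm.orthogonal B U, M *ᵥ w ∈ U ⊓ LinearMap.BilinForm.orthogonal B U := by
    rintro w ⟨hw, hw'⟩
    refine ⟨hUx w hw, fun u hu => ?_⟩
    obtain ⟨u', hu', rfl⟩ := hsurj u hu
    have := hw' u' hu'
    simp only [B, QuadraticMap.polarBilin_apply_apply] at this ⊢
    simpa [QuadraticMap.polar, ← Matrix.mulVec_add, hQM] using this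
  rcases hirr _ inf_le_left hinv with h | h
  · exact Or.inl h
  refine Or.inr ?_
  have hiso : ∀ u ∈ U, ∀ v ∈ U, Q (u + v) = Q u + Q v := by
    intro u hu v hv
    have hv' : v ∈ LinearMap.BilinForm.orthogonal B U := (h.ge hv).2
    have := hv' u hu
    simp only [B, QuadraticMap.polarBilin_apply_apply, QuadraticMap.polar] at this
    linear_combination this
  by_cases hp2 : p = 2
  · subst hp2
    by_cases h0 : ∀ u ∈ U, Q u = 0
    · exact Or.inl h0
    refine Or.inr ⟨rfl, ?_⟩
    push Not at h0
    obtain ⟨u0, hu0, hQu0⟩ := h0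
    -- squares are surjective
    have hsq : ∀ a : F, ∃ b : F, b * b = a := fun a => by
      obtain ⟨b, hb⟩ := FiniteField.isSquare_of_char_two (ringChar.eq F 2) a
      exact ⟨b, hb.symm⟩
    let K : Submodule F (Fin n → F) :=
      { carrier := {u | u ∈ U ∧ Q u = 0}
        add_mem' := fun {a b} ha hb => ⟨U.add_mem ha.1 hb.1, by rw [hiso a ha.1 b hb.1, ha.2, hb.2, add_zero]⟩
        zero_mem' := ⟨U.zero_mem, map_zero Q⟩
        smul_mem' := fun t {a} ha => ⟨U.smul_mem t ha.1, by rw [QuadraticMap.map_smul, ha.2, smul_zero]⟩ }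
    rcases hirr K (fun w hw => hw.1) (fun w hw => ⟨hUx w hw.1, (hQM w).trans hw.2⟩) with hK | hK
    · have hline : ∀ u ∈ U, ∃ t : F, u = t • u0 := by
        intro u hu
        obtain ⟨t, ht⟩ := hsq (Q u / Q u0)
        refine ⟨t, ?_⟩
        have hmem : u - t • u0 ∈ K := by
          refine ⟨U.sub_mem hu (U.smul_mem t hu0), ?_⟩
          rw [sub_eq_add_neg, ← neg_smul, hiso u hu _ (U.smul_mem _ hu0), QuadraticMap.map_smul,
            smul_eq_mul, neg_mul_neg, ht, div_mul_cancel₀ _ hQu0, CharTwo.add_self_eq_zero]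
        rw [hK, Submodule.mem_bot, sub_eq_zero] at hmem
        exact hmem
      have hu0ne : u0 ≠ 0 := fun h => hQu0 (by rw [h, map_zero])
      refine ⟨?_, ⟨u0, hu0, hQu0⟩, fun u hu => ?_⟩
      · have hspan : U = F ∙ u0 := le_antisymm (fun u hu => by
          obtain ⟨t, rfl⟩ := hline u hu
          exact Submodule.smul_mem _ _ (Submodule.mem_span_singleton_self u0))
          ((Submodule.span_singleton_le_iff_mem _ _).mpr hu0)
        rw [hspan, finrank_span_singleton hu0ne]
      · obtain ⟨t, rfl⟩ := hline u hu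
        obtain ⟨l, hl⟩ := hline (M *ᵥ u0) (hUx u0 hu0)
        have hll : l * l = 1 := by
          have := hQM u0
          rw [hl, QuadraticMap.map_smul, smul_eq_mul] at this
          exact mul_right_cancel₀ hQu0 (this.trans (one_mul _).symm)
        have hl1 : l = 1 := by
          have : (l - 1) * (l - 1) = 0 := by
            linear_combination hll + (1 - l) * (CharTwo.two_eq_zero : (2 : F) = 0)
          exact sub_eq_zero.mp (mul_self_eq_zero.mp this)
        change M *ᵥ (t • u0) = t • u0
        rw [Matrix.mulVec_smul, hl, hl1, one_smul]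
    · exact absurd (hK.ge hu0).2 hQu0
  · refine Or.inl fun u hu => ?_
    have h2 : (2 : F) ≠ 0 := by
      intro h2
      exact hp2 ((Nat.prime_dvd_prime_iff_eq Fact.out Nat.prime_two).mp
        ((CharP.cast_eq_zero_iff F p 2).mp (by exact_mod_cast h2)))
    have := hiso u hu u hu
    rw [← two_smul F u, QuadraticMap.map_smul, smul_eq_mul] at this
    have h3 : 2 * Q u = 0 := by linear_combination this
    exact (mul_eq_zero.mp h3).resolve_left h2

end Cfsg.Agent.S2599
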