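import Cfsg.Statements.S2600
import Cfsg.Agent.Lib.AutPSp.Graph
-- import your own Cfsg.Agent.* helpers here

set_option autoImplicit false
open Cfsg

namespace Cfsg.Agent.S2600

open Cfsg.Agent

theorem gam_sq {F : Type*} [Field F] [Finite F] (h2 : (2 : F) = 0) (fr : F ≃+* F)
    (hfr : ∀ x, fr x = x * x) :
    AutPSp.gam h2 * AutPSp.gam h2 = AutPSp.semi 1 fr := by
  refine MulEquiv.ext fun x => ?_
  induction x using QuotientGroup.induction_on with
  | _ s =>
    show AutPSp.gam h2 (AutPSp.gam h2 (QuotientGroup.mk' _ s)) = AutPSp.semi 1 fr (QuotientGroup.mk s)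
    rw [AutPSp.gam_mk, AutPSp.gam_mk, AutPSp.semi_mk]
    refine congrArg QuotientGroup.mk (Subtype.ext ?_)
    rw [AutPSp.psi_coe, AutPSp.psi_coe, AutPSp.psiM_psiM h2 s.2, AutPSp.spConj_coe]
    simp [funext hfr]


set_option maxHeartbeats 1600000 in
/-- Outer automorphism group of PSp_4(q) for q = 2^f even: it is cyclic of order 2f, generated by the class of the exceptional (graph-field) automorphism whose square is the Frobenius field automorphism. -/
theorem result {F : Type*} [Field F] [Fintype F] {f : ℕ} (hf : 1 ≤ f) (hF : Fintype.card F = 2 ^ f) : IsCyclic (Cfsg.Out (Cfsg.PSp 2 F)) ∧ Nat.card (Cfsg.Out (Cfsg.PSp 2 F)) = 2 * f := by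
  classical
  haveI : Fact (Nat.Prime 2) := ⟨Nat.prime_two⟩
  haveI : CharP F 2 := charP_of_card_eq_prime_pow (R := F) hF
  have h2 : (2 : F) = 0 := CharTwo.two_eq_zero
  let fr : F ≃+* F := frobeniusEquiv F 2
  have hfr : ∀ x, fr x = x * x := fun x => by
    simp [fr, frobeniusEquiv_apply, frobenius_def, pow_two]
  have hord : orderOf fr = f := by
    let _ : Algebra (ZMod 2) F := ZMod.algebra F 2
    have hfin : Module.finrank (ZMod 2) F = f := by
      have h := Module.card_eq_pow_finrank (K := ZMod 2) (V := F)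
      rw [hF, ZMod.card] at h
      exact (Nat.pow_right_injective le_rfl h).symm
    let ι : Gal(F/ZMod 2) →* (F ≃+* F) :=
      { toFun := fun σ => σ.toRingEquiv, map_one' := rfl, map_mul' := fun _ _ => rfl }
    have hι : Function.Injective ι := fun a b h => AlgEquiv.ext fun x => RingEquiv.congr_fun h x
    have e : ι (FiniteField.frobeniusAlgEquivOfAlgebraic (ZMod 2) F) = fr := RingEquiv.ext fun x => by
      rw [hfr, ← pow_two]
      show (FiniteField.frobeniusAlgEquivOfAlgebraic (ZMod 2) F) x = _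
      rw [FiniteField.coe_frobeniusAlgEquivOfAlgebraic, ZMod.card]
    rw [← e, orderOf_injective ι hι, FiniteField.orderOf_frobeniusAlgEquivOfAlgebraic, hfin]
  have hInn : Cfsg.Inn (Cfsg.PSp 2 F) ≤ AutPSp.semiSub := fun δ hδ => by
    obtain ⟨g, hg⟩ := AutPSp.inn_le_range hδ
    exact ⟨g, 1, hg.symm⟩
  have hsemi : Nat.card (AutPSp.semiSub : Subgroup (MulAut (Cfsg.PSp 2 F))) =
      f * Nat.card (Cfsg.PSp 2 F) := by
    rw [AutPSp.card_semiSub le_rfl 2 f hF]
    have : Nat.Coprime 2 (2 ^ f - 1) := Nat.coprime_two_left.2 (Nat.Even.sub_odd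
      Nat.one_le_two_pow (Nat.even_pow.2 ⟨even_two, by omega⟩) odd_one)
    rw [this.gcd_eq_one, one_mul]
  have hcard : Nat.card (Cfsg.Out (Cfsg.PSp 2 F)) = 2 * f := by
    have h := Subgroup.card_mul_index (AutPSp.semiSub : Subgroup (MulAut (Cfsg.PSp 2 F)))
    rw [AutPSp.index_semiSub h2, hsemi, Subgroup.card_eq_card_quotient_mul_card_subgroup
      (Cfsg.Inn (Cfsg.PSp 2 F)), AutPSp.card_inn le_rfl] at h
    refine Nat.eq_of_mul_eq_mul_right Nat.card_pos (h.symm.trans ?_)
    ring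
  refine ⟨isCyclic_of_orderOf_eq_card
    (QuotientGroup.mk (AutPSp.gam h2) : Cfsg.Out (Cfsg.PSp 2 F)) ?_, hcard⟩
  rw [hcard, orderOf_eq_iff (by omega)]
  have hpow : ∀ j : ℕ, (AutPSp.gam h2) ^ (2 * j) = AutPSp.semi 1 (fr ^ j) := fun j => by
    induction j with
    | zero => rw [mul_zero, pow_zero, pow_zero, AutPSp.semi_one]
    | succ j ih =>
      rw [show 2 * (j + 1) = 2 * j + 2 by ring, pow_add, ih, pow_two, gam_sq h2 fr hfr,
        AutPSp.semi_mul, AutPSp.mapGSp_one', mul_one, pow_succ]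
  refine ⟨?_, fun k hk hk0 e => ?_⟩
  · rw [← QuotientGroup.mk_pow, hpow, ← hord, pow_orderOf_eq_one, AutPSp.semi_one,
      QuotientGroup.mk_one]
  rw [← QuotientGroup.mk_pow, QuotientGroup.eq_one_iff] at e
  rcases Nat.even_or_odd' k with ⟨j, rfl | rfl⟩
  · rw [hpow] at e
    obtain ⟨g, hg⟩ := AutPSp.inn_le_range e
    obtain ⟨hτ, -⟩ := (AutPSp.semi_eq_semi le_rfl).1 hg
    have := Nat.le_of_dvd (by omega) (orderOf_dvd_of_pow_eq_one hτ.symm)
    omega
  · refine AutPSp.gam_not_mem h2 ?_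
    have h' := hInn e
    rw [pow_succ, hpow] at h'
    exact (Subgroup.mul_mem_cancel_left _ (show AutPSp.semi 1 (fr ^ j) ∈ AutPSp.semiSub from
      ⟨1, _, rfl⟩)).1 h'

end Cfsg.Agent.S2600
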