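import Cfsg.Statements.S2601
import Cfsg.Agent.Lib.AutPSL.Outer

set_option autoImplicit false
open Cfsg

namespace Cfsg.Agent.S2601

/-- Structure of the outer automorphism group of PSL_n(q), n ≥ 3, q = p^f: it has a normal cyclic subgroup of order gcd(n, q − 1) (the diagonal automorphisms) whose quotient is the direct product of a cyclic group of order f (field automorphisms) and a group of order 2 (the inverse-transpose graph automorphism). -/
theorem result {F : Type*} [Field F] [Fintype F] {p f n : ℕ} [Fact p.Prime] (hf : 1 ≤ f) (hF : Fintype.card F = p ^ f) (hn : 3 ≤ n) : ∃ φ : Cfsg.Out (Matrix.ProjectiveSpecialLinearGroup (Fin n) F) →* Multiplicative (ZMod f × ZMod 2), Function.Surjective φ ∧ IsCyclic φ.ker ∧ Nat.card φ.ker = Nat.gcd n (p ^ f - 1) := by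
  classical
  obtain ⟨φ, h1, h2, -, ⟨e⟩⟩ := AutPSL.exists_outer_hom (F := F) (n := n) (by omega)
  obtain ⟨E⟩ := AutPSL.exists_ringAut_equiv (F := F) p f hF
  let T : (F ≃+* F) × Multiplicative (ZMod 2) ≃* Multiplicative (ZMod f × ZMod 2) :=
    (MulEquiv.prodCongr E (MulEquiv.refl _)).trans (MulEquiv.prodMultiplicative (ZMod f) (ZMod 2)).symm
  have hsurj : Function.Surjective φ := by
    rintro ⟨σ, x⟩
    have hx : x = 1 ∨ x = Multiplicative.ofAdd (1 : ZMod 2) := by revert x; decide
    rcases hx with rfl | rfl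
    · exact h1 σ
    · obtain ⟨a, ha⟩ := h1 σ
      obtain ⟨b, hb⟩ := h2 hn
      exact ⟨a * b, by rw [map_mul, ha, hb, Prod.mk_mul_mk, mul_one, one_mul]⟩
  have hker : (T.toMonoidHom.comp φ).ker = φ.ker :=
    MonoidHom.ker_mulEquiv_comp φ T
  refine ⟨T.toMonoidHom.comp φ, T.surjective.comp hsurj, ?_, ?_⟩
  · rw [hker]
    exact isCyclic_of_surjective _ e.symm.surjective
  · rw [hker, Nat.card_congr e.toEquiv, AutPSL.card_quotient_powMonoidHom hF]

end Cfsg.Agent.S2601
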