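import Cfsg.Statements.S2608
import Cfsg.Agent.Lib.AutPOmega.OutPlus
import Cfsg.Agent.Lib.AutPOmega.D4Out
-- import your own Cfsg.Agent.* helpers here

set_option autoImplicit false
open Cfsg

namespace Cfsg.Agent.S2608

open Cfsg.Agent Matrix

set_option maxHeartbeats 1600000 in
/-- Outer automorphism group of PΩ⁺_2m(q), q = p^f odd: for m = 4 it is S_4 × C_f (triality); for m ≥ 5 it is C_2 × C_2 × C_f when q ≡ 3 (mod 4) and m is odd, and D_8 × C_f otherwise. -/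
theorem result {F : Type*} [Field F] [Fintype F] {p f m : ℕ} [Fact p.Prime] (hf : 1 ≤ f) (hF : Fintype.card F = p ^ f) (hp : p ≠ 2) (hm : 4 ≤ m) : if m = 4 then Nonempty (Cfsg.Out (Cfsg.POmega F (Cfsg.quadFormPlus m F)) ≃* Equiv.Perm (Fin 4) × Multiplicative (ZMod f)) else if p ^ f % 4 = 3 ∧ Odd m then Nonempty (Cfsg.Out (Cfsg.POmega F (Cfsg.quadFormPlus m F)) ≃* Multiplicative (ZMod 2 × ZMod 2 × ZMod f)) else Nonempty (Cfsg.Out (Cfsg.POmega F (Cfsg.quadFormPlus m F)) ≃* DihedralGroup 4 × Multiplicative (ZMod f)) := by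
  by_cases h4 : m = 4
  · subst h4
    rw [if_pos rfl]
    obtain ⟨E, -⟩ := AutPOmega.D4.exists_bridge F
    obtain ⟨e1⟩ := AutPOmega.D4.out_congr E.symm
    obtain ⟨e2⟩ := AutPOmega.D4.out_odd (F := F)
      (Agent.Orth.two_ne_zero_of_odd (hF ▸ ((Fact.out : p.Prime).odd_of_ne_two hp).pow))
    obtain ⟨e3⟩ := AutPSL.exists_ringAut_equiv (F := F) p f hF
    exact ⟨e1.trans (e2.trans ((MulEquiv.refl _).prodCongr e3))⟩
  · rw [if_neg h4]
    obtain ⟨hA, hB⟩ := AutPOmega.out_plus_odd (m := m) (by omega) hp hF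
    split_ifs with h
    · obtain ⟨e⟩ := hA h
      exact ⟨e.trans (((MulEquiv.prodMultiplicative (ZMod 2 × ZMod 2) (ZMod f)).symm).trans
        (AddEquiv.prodAssoc (M := ZMod 2) (N := ZMod 2) (P := ZMod f)).toMultiplicative)⟩
    · exact hB h

end Cfsg.Agent.S2608
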