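import Cfsg.Statements.S2610
import Cfsg.Agent.Lib.AutPOmega.SpinorApps
import Cfsg.Agent.Lib.Orthogonal.Frames
-- import your own Cfsg.Agent.* helpers here

set_option autoImplicit false
open Cfsg

namespace Cfsg.Agent.S2610

/-- For a quadratic form Q on F^n with non-degenerate polar form, F finite of odd order and n ≥ 2 even, the isometry −1 lies in Ω (the commutator subgroup of the orthogonal group) if and only if the discriminant of Q (the determinant of the Gram matrix of its polar form) is a square. -/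
theorem result {F : Type*} [Field F] [Fintype F] (h2 : (2 : F) ≠ 0) {n : ℕ} (hn : 2 ≤ n) (he : Even n) (Q : QuadraticForm F (Fin n → F)) (hQ : (QuadraticMap.polarBilin Q).Nondegenerate) : (∃ g : ↥(Cfsg.isometryGroup F ⇑Q), g ∈ Cfsg.Omega F ⇑Q ∧ ((g : Matrix.GeneralLinearGroup (Fin n) F) : Matrix (Fin n) (Fin n) F) = -1) ↔ IsSquare (Matrix.of (fun i j : Fin n => QuadraticMap.polar ⇑Q (Pi.single i 1) (Pi.single j 1))).det := by
  obtain ⟨k, rfl⟩ : ∃ k, n = k + 1 := ⟨n - 1, by omega⟩
  obtain ⟨α, hα⟩ := FiniteField.exists_nonsquare (F := F) fun h => h2 (by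
    haveI := ringChar.of_eq h; exact CharTwo.two_eq_zero)
  obtain ⟨e, hfr, -, -⟩ := Orth.exists_normal_frame hQ h2 (Module.finrank_fin_fun F) hα
  rw [Orth.neg_one_mem_iff Q hQ h2 (by simpa using hn) (by simpa using he) e hfr.1 hfr.2 rfl]
  let M := LinearMap.toMatrix₂' F (QuadraticMap.polarBilin Q)
  have hM : Matrix.of (fun i j : Fin (k + 1) => QuadraticMap.polar ⇑Q (Pi.single i 1) (Pi.single j 1)) = M := by
    ext i j
    show _ = LinearMap.toMatrix₂' F (QuadraticMap.polarBilin Q) i j
    rw [Matrix.of_apply, LinearMap.toMatrix₂'_apply]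
    rfl
  let P : Matrix (Fin (k + 1)) (Fin (k + 1)) F := Matrix.of fun i j => e j i
  have hD : P.transpose * M * P = Matrix.diagonal (fun i => 2 * Q (e i)) := by
    have h1 := LinearMap.toMatrix₂'_compl₁₂ (QuadraticMap.polarBilin Q) (Matrix.toLin' P) (Matrix.toLin' P)
    rw [LinearMap.toMatrix'_toLin'] at h1
    rw [← h1]
    ext i j
    rw [LinearMap.toMatrix₂'_apply]
    have hcol : ∀ l, Matrix.toLin' P (Pi.single l 1) = e l := fun l => by
      rw [Matrix.toLin'_apply]; ext x; simp [P, Matrix.mulVec_single]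
    show QuadraticMap.polar Q (Matrix.toLin' P (Pi.single i 1)) (Matrix.toLin' P (Pi.single j 1)) = _
    rw [hcol, hcol]
    rcases eq_or_ne i j with rfl | hij
    · rw [Matrix.diagonal_apply_eq, Orth.b_self]
    · rw [Matrix.diagonal_apply_ne _ hij, hfr.1 i j hij]
  have hd := congrArg Matrix.det hD
  rw [Matrix.det_mul, Matrix.det_mul, Matrix.det_transpose, Matrix.det_diagonal, Finset.prod_mul_distrib,
    Finset.prod_const, Finset.card_univ, Fintype.card_fin] at hd
  obtain ⟨r, hr⟩ := he
  rw [hM]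
  refine (AutPOmega.isSquare_congr (a := P.det) (b := 2 ^ r) (fun h0 => ?_) (pow_ne_zero _ h2) ?_).symm
  · rw [h0, zero_mul, zero_mul] at hd
    exact mul_ne_zero (pow_ne_zero _ h2) (Finset.prod_ne_zero_iff.2 fun i _ => hfr.2 i) hd.symm
  · rw [← pow_add, ← hr]
    linear_combination hd

end Cfsg.Agent.S2610
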