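import Cfsg.Statements.S2611
import Cfsg.Agent.Lib.AutPOmega.SpinorApps
-- import your own Cfsg.Agent.* helpers here

set_option autoImplicit false
open Cfsg

namespace Cfsg.Agent.S2611

/-- For the hyperbolic quadratic form Σ x_i y_i on F^(2m) (F finite, m ≥ 1, excluding m = 2 over the field of two elements) and an invertible m × m matrix A, the block-diagonal isometry diag(A, (A⁻¹)ᵀ), which stabilises the two maximal totally singular subspaces x = 0 and y = 0, lies in Ω⁺_2m(F) (the commutator subgroup of the orthogonal group) if and only if det A is a square in F. -/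
theorem result {F : Type*} [Field F] [Fintype F] {m : ℕ} (hm : 1 ≤ m) (h : Fintype.card F ≠ 2 ∨ m ≠ 2) (A : GL (Fin m) F) : (∃ g : ↥(Cfsg.isometryGroup F (Cfsg.quadFormPlus m F)), g ∈ Cfsg.Omega F (Cfsg.quadFormPlus m F) ∧ ((g : Matrix.GeneralLinearGroup (Fin m ⊕ Fin m) F) : Matrix (Fin m ⊕ Fin m) (Fin m ⊕ Fin m) F) = Matrix.fromBlocks (A : Matrix (Fin m) (Fin m) F) 0 0 ((A : Matrix (Fin m) (Fin m) F)⁻¹).transpose) ↔ IsSquare (A : Matrix (Fin m) (Fin m) F).det := by
  obtain ⟨χ, hker, -, hrefl⟩ := Orth.exists_matrix_spinor (Orth.qPlus F m) (Orth.qPlus_nondeg m)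
    (by simp; omega) (h.imp_right fun e => by simp; omega)
  obtain ⟨L, hL, hLv⟩ := AutPOmega.exists_levi (F := F) (m := m)
  have hdet : (A : Matrix (Fin m) (Fin m) F).det ≠ 0 := by simpa using (Matrix.GeneralLinearGroup.det A).ne_zero
  rw [← Orth.coe_qPlus, ← Orth.sqc_eq_one_iff hdet, ← hker]
  constructor
  · rintro ⟨g, hg, hgm⟩
    rw [show g = L A from Subtype.ext (Units.ext (hgm.trans (hL A).symm)), MonoidHom.mem_ker, hLv h hrefl,
      Prod.mk_eq_one] at hg
    exact hg.2
  · intro hs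
    exact ⟨L A, by rw [MonoidHom.mem_ker, hLv h hrefl, hs]; rfl, hL A⟩

end Cfsg.Agent.S2611
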