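import Cfsg.Statements.S2614
import Cfsg.Agent.Lib.AutPOmega.SpinorApps
-- import your own Cfsg.Agent.* helpers here

set_option autoImplicit false
open Cfsg

namespace Cfsg.Agent.S2614

/-- For the form x_0² + Σ x_j y_j on F^(2m+1), F finite with q elements, q odd, and 1 ≤ i ≤ m: the involution of determinant one negating the first i hyperbolic pairs (and fixing x_0 and the other pairs) lies in Ω_(2m+1)(q) (commutator subgroup of the orthogonal group) if and only if q^i ≡ 1 (mod 4); its (−1)-eigenspace is a hyperbolic 2i-space. -/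
theorem result {F : Type*} [Field F] [Fintype F] {q : ℕ} (hF : Fintype.card F = q) (hq : Odd q) {m : ℕ} (i : ℕ) (hi : 1 ≤ i) (him : i ≤ m) : (∃ g : ↥(Cfsg.isometryGroup F (Cfsg.quadFormOdd m F)), g ∈ Cfsg.Omega F (Cfsg.quadFormOdd m F) ∧ ((g : Matrix.GeneralLinearGroup (Unit ⊕ (Fin m ⊕ Fin m)) F) : Matrix (Unit ⊕ (Fin m ⊕ Fin m)) (Unit ⊕ (Fin m ⊕ Fin m)) F) = Matrix.diagonal (fun k : Unit ⊕ (Fin m ⊕ Fin m) => if (Sum.elim (fun _ : Unit => i) (Sum.elim (fun j : Fin m => (j : ℕ)) (fun j : Fin m => (j : ℕ))) k) < i then (-1 : F) else 1)) ↔ q ^ i % 4 = 1 := by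
  subst hF
  rw [← Orth.coe_qOdd]
  exact AutPOmega.sign_mem_omega hq (Orth.qOdd F m) (Orth.qOdd_nondeg (Orth.two_ne_zero_of_odd hq) m) (by simp; omega)
    (Sum.inr ∘ Sum.inl) (Sum.inr ∘ Sum.inr)
    (fun _ _ => by simp) (Sum.inr_injective.comp Sum.inl_injective) (Sum.inr_injective.comp Sum.inr_injective)
    (fun j s => by rw [Orth.coe_qOdd]; simp [Cfsg.quadFormOdd, Pi.single_apply])
    (fun z j s => by
      simp only [QuadraticMap.polar, Orth.coe_qOdd]
      simp [Cfsg.quadFormOdd, Pi.single_apply, add_mul, mul_add, Finset.sum_add_distrib]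
      ring)
    (MonoidHom.mk' (fun d => Sum.elim 1 (Sum.elim d fun j => (d j)⁻¹)) fun d d' => funext fun k => by
      rcases k with k | k | k <;> simp [mul_comm])
    (fun d z => by
      rw [Orth.coe_qOdd]
      simp only [Cfsg.quadFormOdd, MonoidHom.mk'_apply, Sum.elim_inl, Sum.elim_inr, Pi.one_apply, Units.val_one, one_mul]
      exact congrArg _ (Finset.sum_congr rfl fun j _ => by simp; field_simp))
    (fun d j => rfl) (fun d j => rfl)
    (fun d k hk => by rcases k with k | k | k; exacts [rfl, absurd rfl (hk k).1, absurd rfl (hk k).2])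
    i him _ (fun k => by rcases k with k | k | k <;>
      simp only [Sum.elim_inl, Sum.elim_inr, MonoidHom.mk'_apply, Pi.one_apply] <;> split_ifs with hh <;> simp [hh])

end Cfsg.Agent.S2614
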