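import Cfsg.Statements.S2615
import Cfsg.Agent.Lib.AutPOmega.SpinorApps
-- import your own Cfsg.Agent.* helpers here

set_option autoImplicit false
open Cfsg

namespace Cfsg.Agent.S2615

set_option maxHeartbeats 1000000

/-- For an elliptic form Σ_(j<m−1) x_j y_j + (z₁² + a z₁z₂ + b z₂²) (anisotropic binary part) on F^(2m), F finite with q elements, q odd, and 1 ≤ i ≤ m − 1: the involution negating the first i hyperbolic pairs and fixing the rest lies in Ω⁻_2m(q) (commutator subgroup of the orthogonal group) if and only if q^i ≡ 1 (mod 4). -/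
theorem result {F : Type*} [Field F] [Fintype F] {q : ℕ} (hF : Fintype.card F = q) (hq : Odd q) {m : ℕ} (a b : F) (hab : ∀ z₁ z₂ : F, z₁ ^ 2 + a * z₁ * z₂ + b * z₂ ^ 2 = 0 → z₁ = 0 ∧ z₂ = 0) (i : ℕ) (hi : 1 ≤ i) (him : i + 1 ≤ m) : (∃ g : ↥(Cfsg.isometryGroup F (Cfsg.quadFormMinus (m - 1) F a b)), g ∈ Cfsg.Omega F (Cfsg.quadFormMinus (m - 1) F a b) ∧ ((g : Matrix.GeneralLinearGroup ((Fin (m - 1) ⊕ Fin (m - 1)) ⊕ Fin 2) F) : Matrix ((Fin (m - 1) ⊕ Fin (m - 1)) ⊕ Fin 2) ((Fin (m - 1) ⊕ Fin (m - 1)) ⊕ Fin 2) F) = Matrix.diagonal (fun k : (Fin (m - 1) ⊕ Fin (m - 1)) ⊕ Fin 2 => if (Sum.elim (Sum.elim (fun j : Fin (m - 1) => (j : ℕ)) (fun j : Fin (m - 1) => (j : ℕ))) (fun _ : Fin 2 => i) k) < i then (-1 : F) else 1)) ↔ q ^ i % 4 = 1 := by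
  subst hF
  rw [← Orth.coe_qMinus]
  exact AutPOmega.sign_mem_omega hq (Orth.qMinus F (m - 1) a b) (Orth.qMinus_nondeg hab _) (by simp)
    (Sum.inl ∘ Sum.inl) (Sum.inl ∘ Sum.inr)
    (fun _ _ => by simp) (Sum.inl_injective.comp Sum.inl_injective) (Sum.inl_injective.comp Sum.inr_injective)
    (fun j s => by rw [Orth.coe_qMinus]; simp [Cfsg.quadFormMinus, Pi.single_apply])
    (fun z j s => by
      simp only [QuadraticMap.polar, Orth.coe_qMinus]
      simp [Cfsg.quadFormMinus, Pi.single_apply, add_mul, mul_add, Finset.sum_add_distrib]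
      ring)
    (MonoidHom.mk' (fun d => Sum.elim (Sum.elim d fun j => (d j)⁻¹) 1) fun d d' => funext fun k => by
      rcases k with (k | k) | k <;> simp [mul_comm])
    (fun d z => by
      rw [Orth.coe_qMinus]
      simp only [Cfsg.quadFormMinus, MonoidHom.mk'_apply, Sum.elim_inl, Sum.elim_inr, Pi.one_apply, Units.val_one, one_mul]
      exact congrArg (· + _) (Finset.sum_congr rfl fun j _ => by simp; field_simp))
    (fun d j => rfl) (fun d j => rfl)
    (fun d k hk => by rcases k with (k | k) | k; exacts [absurd rfl (hk k).1, absurd rfl (hk k).2, rfl])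
    i (by omega) _ (fun k => by rcases k with (k | k) | k <;>
      simp only [Sum.elim_inl, Sum.elim_inr, MonoidHom.mk'_apply, Pi.one_apply] <;> split_ifs with hh <;> simp [hh])

end Cfsg.Agent.S2615
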