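import Cfsg.Statements.S2619
import Mathlib.LinearAlgebra.Matrix.BilinearForm

set_option autoImplicit false
open Cfsg

namespace Cfsg.Agent.S2619

/-- Over a finite field of characteristic two, given an alternating bilinear form B on a finite-dimensional space, a basis (v_i) and scalars (λ_i), there is exactly one quadratic form whose polar form is B and whose value at each v_i is λ_i. -/
theorem result {F V ι : Type*} [Field F] [Finite F] [CharP F 2] [AddCommGroup V] [Module F V] [Fintype ι] (b : Module.Basis ι F V) (B : LinearMap.BilinForm F V) (hB : B.IsAlt) (c : ι → F) : ∃! Q : QuadraticForm F V, QuadraticMap.polarBilin Q = B ∧ ∀ i, Q (b i) = c i := by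
  classical
  let _ : LinearOrder ι := LinearOrder.lift' (Fintype.equivFin ι) (Fintype.equivFin ι).injective
  obtain ⟨β, hβ⟩ : ∃ β : LinearMap.BilinForm F V, ∀ i j,
      β (b i) (b j) = if i = j then c i else if i < j then B (b i) (b j) else 0 :=
    ⟨Matrix.toBilin b (Matrix.of fun i j => if i = j then c i else if i < j then B (b i) (b j) else 0),
      fun i j => by
        rw [← LinearMap.BilinForm.toMatrix_apply b, LinearMap.BilinForm.toMatrix_toBilin]; rfl⟩
  have hQ' : QuadraticMap.polarBilin β.toQuadraticMap = B := by
    refine LinearMap.BilinForm.ext_basis b fun i j => ?_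
    rw [QuadraticMap.polarBilin_apply_apply]
    have hp : QuadraticMap.polar β.toQuadraticMap (b i) (b j) = β (b i) (b j) + β (b j) (b i) := by
      simp [QuadraticMap.polar, LinearMap.BilinMap.toQuadraticMap_apply]
      ring
    rw [hp, hβ, hβ]
    rcases lt_trichotomy i j with h | rfl | h
    · simp [h, h.ne, h.ne', not_lt.mpr h.le]
    · rw [hB (b i)]
      simp [CharTwo.add_self_eq_zero]
    · simp only [h.ne', h.ne, if_false, not_lt.mpr h.le, h, if_true, zero_add]
      rw [← LinearMap.BilinForm.IsAlt.neg_eq hB (b i) (b j), CharTwo.neg_eq]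
  have hadd : ∀ Q : QuadraticForm F V, QuadraticMap.polarBilin Q = B →
      ∀ x y : V, Q (x + y) = Q x + Q y + B x y := by
    intro Q hQ x y
    have h := LinearMap.congr_fun (LinearMap.congr_fun hQ x) y
    rw [QuadraticMap.polarBilin_apply_apply, QuadraticMap.polar] at h
    linear_combination h
  refine ⟨β.toQuadraticMap, ⟨hQ', fun i => by simp [LinearMap.BilinMap.toQuadraticMap_apply, hβ]⟩, ?_⟩
  rintro Q ⟨hQ, hQc⟩
  ext x
  have hx : x ∈ Submodule.span F (Set.range b) := b.span_eq ▸ Submodule.mem_top
  induction hx using Submodule.span_induction with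
  | mem y hy =>
    obtain ⟨i, rfl⟩ := hy
    rw [hQc]; simp [LinearMap.BilinMap.toQuadraticMap_apply, hβ]
  | zero => simp
  | add y z _ _ hy hz => rw [hadd Q hQ, hadd _ hQ', hy, hz]
  | smul t y _ hy => rw [QuadraticMap.map_smul, QuadraticMap.map_smul, hy]

end Cfsg.Agent.S2619
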