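import Cfsg.Statements.S2620
import Cfsg.Agent.Lib.LinearBlock.Disc

set_option autoImplicit false
open Cfsg

namespace Cfsg.Agent.S2620

/-- Discriminant of the hyperbolic quadratic form Σ_(i<m) x_i y_i over a field with q elements, q odd, m ≥ 1: the determinant of the Gram matrix of its polar form in any basis is a square if and only if m(q − 1)/2 is even (equivalently q^m ≡ 1 (mod 4)). -/
theorem result {F : Type*} [Field F] [Fintype F] {q : ℕ} (hF : Fintype.card F = q) (hq : Odd q) {m : ℕ} (hm : 1 ≤ m) {ι : Type*} [Fintype ι] [DecidableEq ι] (b : Module.Basis ι F (Fin m ⊕ Fin m → F)) : IsSquare (Matrix.of (fun i j : ι => QuadraticMap.polar (Cfsg.quadFormPlus m F) (b i) (b j))).det ↔ Even (m * (q - 1) / 2) := by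
  classical
  subst hF
  have hq' : Odd (Fintype.card F) := hq
  have h2 : (2 : F) ≠ 0 := by
    refine Ring.two_ne_zero fun h => ?_
    have := FiniteField.even_card_iff_char_two.1 h
    rw [Nat.odd_iff] at hq'
    omega
  let e := Orth.plusPad (F := F) m
  obtain ⟨p, hp, hdet⟩ := LBQuad.gram_det (Orth.qPad F m (0 : QuadraticForm F (Fin 0 → F))) (b.map e.symm)
  have hG : (Matrix.of fun i j : ι => QuadraticMap.polar (Orth.qPad F m (0 : QuadraticForm F (Fin 0 → F)))
      (b.map e.symm i) (b.map e.symm j))
      = Matrix.of (fun i j : ι => QuadraticMap.polar (Cfsg.quadFormPlus m F) (b i) (b j)) := by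
    ext i j
    rw [← Orth.coe_qPlus]
    simp only [Matrix.of_apply, Module.Basis.map_apply, QuadraticMap.polar, ← map_add]
    rw [← Orth.plusPad_spec, ← Orth.plusPad_spec, ← Orth.plusPad_spec]
    simp [e]
  rw [hG, LBQuad.gram_qPad, Matrix.det_fin_zero, mul_one] at hdet
  rw [hdet, LBQuad.isSquare_sq_mul hp]
  exact LBQuad.isSquare_neg_one_pow hq' m

end Cfsg.Agent.S2620

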