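import Cfsg.Statements.S2621
import Cfsg.Agent.Lib.LinearBlock.Disc

set_option autoImplicit false
open Cfsg

namespace Cfsg.Agent.S2621

/-- Discriminant of an elliptic quadratic form Σ_(i<m−1) x_i y_i + z₁² + a z₁z₂ + c z₂² (binary part anisotropic) in dimension 2m over a field with q elements, q odd, m ≥ 1: the determinant of the Gram matrix of its polar form in any basis is a square if and only if m(q − 1)/2 is odd (equivalently q^m ≡ 3 (mod 4)). -/
theorem result {F : Type*} [Field F] [Fintype F] {q : ℕ} (hF : Fintype.card F = q) (hq : Odd q) {m : ℕ} (hm : 1 ≤ m) (a c : F) (hac : ∀ z₁ z₂ : F, z₁ ^ 2 + a * z₁ * z₂ + c * z₂ ^ 2 = 0 → z₁ = 0 ∧ z₂ = 0) {ι : Type*} [Fintype ι] [DecidableEq ι] (b : Module.Basis ι F ((Fin (m - 1) ⊕ Fin (m - 1)) ⊕ Fin 2 → F)) : IsSquare (Matrix.of (fun i j : ι => QuadraticMap.polar (Cfsg.quadFormMinus (m - 1) F a c) (b i) (b j))).det ↔ ¬ Even (m * (q - 1) / 2) := by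
  classical
  subst hF
  have hq' : Odd (Fintype.card F) := hq
  have h2 : (2 : F) ≠ 0 := by
    refine Ring.two_ne_zero fun h => ?_
    have := FiniteField.even_card_iff_char_two.1 h
    rw [Nat.odd_iff] at hq'
    omega
  obtain ⟨k, rfl⟩ : ∃ k, m = k + 1 := ⟨m - 1, by omega⟩
  obtain ⟨p, hp, hdet⟩ := LBQuad.gram_det (Orth.qMinus F (k + 1 - 1) a c) b
  have hG : (Matrix.of fun i j : ι => QuadraticMap.polar (Orth.qMinus F (k + 1 - 1) a c) (b i) (b j))
      = Matrix.of (fun i j : ι => QuadraticMap.polar (Cfsg.quadFormMinus (k + 1 - 1) F a c) (b i) (b j)) := by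
    rw [Orth.coe_qMinus]
  rw [hG] at hdet
  have hd := LBQuad.disc_not_square h2 hac
  have hd0 : a ^ 2 - 4 * c ≠ 0 := fun h => hd (h ▸ ⟨0, by ring⟩)
  rw [hdet, LBQuad.isSquare_sq_mul hp, Orth.qMinus, LBQuad.gram_qPad, LBQuad.gram_qBin,
    show (-1 : F) ^ (k + 1 - 1) * (4 * c - a ^ 2) = (-1) ^ (k + 1) * (a ^ 2 - 4 * c) by
      rw [Nat.add_sub_cancel, pow_succ]; ring,
    Orth.isSquare_mul_nonsquare h2 (pow_ne_zero _ (neg_ne_zero.2 one_ne_zero)) hd0 hd,
    LBQuad.isSquare_neg_one_pow hq']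

end Cfsg.Agent.S2621

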