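import Cfsg.Statements.S2622
import Mathlib.LinearAlgebra.BilinearForm.Properties
import Mathlib.FieldTheory.Finite.Basic

set_option autoImplicit false
open Cfsg

namespace Cfsg.Agent.S2622

/-- Over a finite field of characteristic two, a non-degenerate symmetric bilinear form that is not alternating (some vector v has B(v, v) ≠ 0) admits an orthonormal basis. -/
theorem result {F V : Type*} [Field F] [Finite F] [CharP F 2] [AddCommGroup V] [Module F V] [FiniteDimensional F V] {n : ℕ} (hV : Module.finrank F V = n) (B : LinearMap.BilinForm F V) (hS : B.IsSymm) (hB : B.Nondegenerate) (hna : ∃ v : V, B v v ≠ 0) : ∃ b : Module.Basis (Fin n) F V, ∀ i j, B (b i) (b j) = if i = j then 1 else 0 := by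
  subst hV
  suffices h : ∀ (n : ℕ) (W : Submodule F V), Module.finrank F W = n →
      (∀ x ∈ W, (∀ y ∈ W, B x y = 0) → x = 0) → (W = ⊥ ∨ ∃ v ∈ W, B v v ≠ 0) →
      ∃ b : Fin n → V, (∀ i, b i ∈ W) ∧ ∀ i j, B (b i) (b j) = if i = j then 1 else 0 by
    obtain ⟨b, -, hb⟩ := h (Module.finrank F V) ⊤ (finrank_top F V)
      (fun x _ hx => hB.1 x fun y => hx y trivial) (Or.inr ⟨hna.choose, trivial, hna.choose_spec⟩)
    have hli : LinearIndependent F b := linearIndependent_iff'.2 fun s c hc i hi => by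
      have h1 := congrArg (fun x => B (b i) x) hc
      simpa [map_sum, hb, Finset.sum_ite_eq, hi] using h1
    refine ⟨basisOfLinearIndependentOfCardEqFinrank' b hli (Fintype.card_fin _), fun i j => ?_⟩
    rw [coe_basisOfLinearIndependentOfCardEqFinrank']
    exact hb i j
  intro n
  induction n with
  | zero => exact fun W _ _ _ => ⟨Fin.elim0, fun i => i.elim0, fun i => i.elim0⟩
  | succ n ih =>
    intro W hn hW hor
    have hsymm : ∀ x y, B x y = B y x := fun x y => hS.eq x y
    have h2 : ∀ c : F, c + c = 0 := CharTwo.add_self_eq_zero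
    obtain ⟨u, huW, hu⟩ := hor.resolve_left (fun h => by rw [h, finrank_bot] at hn; omega)
    obtain ⟨t, ht⟩ := FiniteField.isSquare_of_char_two (ringChar.eq F 2) (B u u)⁻¹
    obtain ⟨v, hvW, hv, hperp⟩ : ∃ v ∈ W, B v v = 1 ∧
        (W ⊓ LinearMap.ker (B v) = ⊥ ∨ ∃ x ∈ W ⊓ LinearMap.ker (B v), B x x ≠ 0) := by
      have hv1 : B (t • u) (t • u) = 1 := by
        rw [map_smul, map_smul, LinearMap.smul_apply, smul_eq_mul, smul_eq_mul, ← mul_assoc, ← ht,
          inv_mul_cancel₀ hu]
      have hvW : t • u ∈ W := Submodule.smul_mem _ t huW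
      by_cases hor' : W ⊓ LinearMap.ker (B (t • u)) = ⊥ ∨ ∃ x ∈ W ⊓ LinearMap.ker (B (t • u)), B x x ≠ 0
      · exact ⟨_, hvW, hv1, hor'⟩
      · simp only [not_or, not_exists, not_and, not_not] at hor'
        obtain ⟨hne, halt⟩ := hor'
        obtain ⟨w, hw, hw0⟩ := (Submodule.ne_bot_iff _).1 hne
        generalize t • u = v at hv1 hvW hw halt
        have hvw : B v w = 0 := LinearMap.mem_ker.1 hw.2
        obtain ⟨y, hyW, hy⟩ : ∃ y ∈ W, B w y ≠ 0 := by
          by_contra! h
          exact hw0 (hW w hw.1 h)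
        obtain ⟨w', hw'W, hvw', hww'⟩ : ∃ w' ∈ W, B v w' = 0 ∧ B w w' = 1 := by
          refine ⟨(B w y)⁻¹ • (y - B v y • v), W.smul_mem _ (W.sub_mem hyW (W.smul_mem _ hvW)), ?_, ?_⟩
          · simp [map_smul, map_sub, hv1]
          · simp [map_smul, map_sub, hsymm w v, hvw, hy]
        have hw'm : w' ∈ W ⊓ LinearMap.ker (B v) := ⟨hw'W, LinearMap.mem_ker.2 hvw'⟩
        refine ⟨v + w, W.add_mem hvW hw.1, ?_, Or.inr ⟨v + w', ⟨W.add_mem hvW hw'W, LinearMap.mem_ker.2 ?_⟩, ?_⟩⟩
        · simp [map_add, hv1, hsymm w v, hvw, halt w hw]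
        · simp [map_add, hv1, hvw', hsymm w v, hvw, hww', h2 1]
        · simp [map_add, hv1, hsymm w' v, hvw', halt w' hw'm]
    have hv0 : v ≠ 0 := fun h => by rw [h] at hv; simp at hv
    have hdec : W = F ∙ v ⊔ W ⊓ LinearMap.ker (B v) := by
      refine le_antisymm (fun x hx => ?_) (sup_le ((Submodule.span_singleton_le_iff_mem _ _).2 hvW) inf_le_left)
      refine Submodule.mem_sup.2 ⟨B v x • v, Submodule.smul_mem _ _ (Submodule.mem_span_singleton_self v),
        x - B v x • v, ⟨W.sub_mem hx (W.smul_mem _ hvW), LinearMap.mem_ker.2 (by simp [hv])⟩, add_sub_cancel _ _⟩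
    have hdim : Module.finrank F ↥(W ⊓ LinearMap.ker (B v)) = n := by
      have h1 := Submodule.finrank_sup_add_finrank_inf_eq (F ∙ v) (W ⊓ LinearMap.ker (B v))
      rw [← hdec, finrank_span_singleton hv0, hn, show (F ∙ v) ⊓ (W ⊓ LinearMap.ker (B v)) = ⊥ from ?_,
        finrank_bot] at h1
      · omega
      · rw [eq_bot_iff]
        rintro x ⟨hx, -, hx2⟩
        obtain ⟨c, rfl⟩ := Submodule.mem_span_singleton.1 hx
        rw [SetLike.mem_coe, LinearMap.mem_ker, map_smul, hv, smul_eq_mul, mul_one] at hx2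
        simp [hx2]
    have hnd : ∀ x ∈ W ⊓ LinearMap.ker (B v), (∀ y ∈ W ⊓ LinearMap.ker (B v), B x y = 0) → x = 0 := by
      intro x hx hxy
      refine hW x hx.1 fun y hy => ?_
      rw [hdec] at hy
      obtain ⟨a, ha, z, hz, rfl⟩ := Submodule.mem_sup.1 hy
      obtain ⟨c, rfl⟩ := Submodule.mem_span_singleton.1 ha
      rw [map_add, hxy z hz, map_smul, hsymm x v, LinearMap.mem_ker.1 hx.2, smul_zero, add_zero]
    obtain ⟨b, hb, hb'⟩ := ih _ hdim hnd hperp
    refine ⟨Fin.cons v b, fun i => ?_, fun i j => ?_⟩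
    · cases i using Fin.cases with
      | zero => simpa using hvW
      | succ i => simpa using (hb i).1
    · cases i using Fin.cases with
      | zero =>
        cases j using Fin.cases with
        | zero => simpa using hv
        | succ j => simpa [(Fin.succ_ne_zero j).symm] using LinearMap.mem_ker.1 (hb j).2
      | succ i =>
        cases j using Fin.cases with
        | zero => simpa [hsymm (b i) v] using LinearMap.mem_ker.1 (hb i).2
        | succ j => simpa using hb' i j

end Cfsg.Agent.S2622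

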