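import Cfsg.Statements.S2623
import Cfsg.Agent.Lib.LinearBlock.Disc

set_option autoImplicit false
open Cfsg

namespace Cfsg.Agent.S2623

/-- Over a finite field of odd order, two quadratic forms on F^n with non-degenerate polar forms are isometric (related by an invertible linear change of variables) if and only if their discriminants (determinants of the Gram matrices of their polar forms) lie in the same square class. -/
theorem result {F : Type*} [Field F] [Fintype F] (h2 : (2 : F) ≠ 0) {n : ℕ} (Q₁ Q₂ : QuadraticForm F (Fin n → F)) (h₁ : (QuadraticMap.polarBilin Q₁).Nondegenerate) (h₂ : (QuadraticMap.polarBilin Q₂).Nondegenerate) : (∃ g : (Fin n → F) ≃ₗ[F] (Fin n → F), ∀ v, Q₂ (g v) = Q₁ v) ↔ IsSquare ((Matrix.of (fun i j : Fin n => QuadraticMap.polar ⇑Q₁ (Pi.single i 1) (Pi.single j 1))).det * (Matrix.of (fun i j : Fin n => QuadraticMap.polar ⇑Q₂ (Pi.single i 1) (Pi.single j 1))).det) := by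
  classical
  constructor
  · rintro ⟨g, hg⟩
    obtain ⟨p, hp, hdet⟩ := LBQuad.gram_det Q₂ ((Pi.basisFun F (Fin n)).map g)
    obtain ⟨p', hp', hdet'⟩ := LBQuad.gram_det Q₂ (Pi.basisFun F (Fin n))
    simp only [Module.Basis.map_apply, Pi.basisFun_apply] at hdet hdet'
    have hG : (Matrix.of fun i j : Fin n => QuadraticMap.polar Q₂ (g (Pi.single i 1)) (g (Pi.single j 1)))
        = Matrix.of (fun i j : Fin n => QuadraticMap.polar ⇑Q₁ (Pi.single i 1) (Pi.single j 1)) := by
      ext i j
      simp only [Matrix.of_apply, QuadraticMap.polar, ← map_add, hg]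
    rw [hG] at hdet
    rw [hdet, hdet']
    exact ⟨p * p' * (LinearMap.toMatrix₂' F (QuadraticMap.polarBilin Q₂)).det, by ring⟩
  · intro hsq
    rcases n with _ | n
    · exact ⟨LinearEquiv.refl F _, fun v => by rw [Subsingleton.elim v 0, map_zero, map_zero, map_zero]⟩
    · obtain ⟨α, hα⟩ := FiniteField.exists_nonsquare (F := F) (fun h => h2 (by
        haveI := ringChar.of_eq h; exact CharTwo.two_eq_zero))
      obtain ⟨e, he, he1, hel⟩ := Orth.exists_normal_frame h₁ h2 (n := n) (by simp) hα
      obtain ⟨e', he', he1', hel'⟩ := Orth.exists_normal_frame h₂ h2 (n := n) (by simp) hα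
      have key : ∀ {Q : QuadraticForm F (Fin (n + 1) → F)} {e : Fin (n + 1) → (Fin (n + 1) → F)},
          Orth.IsFrame Q e → (∀ i, i ≠ Fin.last n → Q (e i) = 1) → ∃ s : F, s ≠ 0 ∧
          (Matrix.of (fun i j : Fin (n + 1) => QuadraticMap.polar ⇑Q (Pi.single i 1) (Pi.single j 1))).det
            = s * s * (2 ^ (n + 1) * Q (e (Fin.last n))) := by
        intro Q e he he1
        let b := basisOfLinearIndependentOfCardEqFinrank (he.indep h2) (by simp)
        obtain ⟨p, hp, hdet⟩ := LBQuad.gram_det Q b
        obtain ⟨p', hp', hdet'⟩ := LBQuad.gram_det Q (Pi.basisFun F (Fin (n + 1)))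
        simp only [Pi.basisFun_apply] at hdet'
        have hD : (Matrix.of fun i j : Fin (n + 1) => QuadraticMap.polar ⇑Q (b i) (b j))
            = Matrix.diagonal (fun i => 2 * Q (e i)) := by
          ext i j
          simp only [Matrix.of_apply, b, coe_basisOfLinearIndependentOfCardEqFinrank]
          rcases eq_or_ne i j with rfl | hij
          · rw [Matrix.diagonal_apply_eq, Orth.b_self]
          · rw [Matrix.diagonal_apply_ne _ hij, he.1 i j hij]
        rw [hD, Matrix.det_diagonal, Finset.prod_mul_distrib, Finset.prod_const, Finset.card_univ, Fintype.card_fin,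
          Fintype.prod_eq_single (Fin.last n) (fun i hi => he1 i hi)] at hdet
        refine ⟨p' * p⁻¹, mul_ne_zero hp' (inv_ne_zero hp), ?_⟩
        rw [hdet', hdet]; field_simp
      obtain ⟨s, hs, hse⟩ := key he he1
      obtain ⟨s', hs', hse'⟩ := key he' he1'
      have heq : Q₂ (e' (Fin.last n)) = Q₁ (e (Fin.last n)) := by
        rw [hse, hse'] at hsq
        have h3 : IsSquare (Q₁ (e (Fin.last n)) * Q₂ (e' (Fin.last n))) := by
          obtain ⟨r, hr⟩ := hsq
          refine ⟨r / (s * s' * 2 ^ (n + 1)), ?_⟩
          field_simp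
          linear_combination hr
        rcases hel with a | a <;> rcases hel' with b | b <;> rw [a, b] at h3 ⊢
        · exact absurd (by simpa using h3) hα
        · exact absurd (by simpa using h3) hα
      exact Orth.exists_isometry_of_frames h2 he he' fun i => by
        rcases eq_or_ne i (Fin.last n) with rfl | hi
        · exact heq
        · rw [he1 i hi, he1' i hi]

end Cfsg.Agent.S2623

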