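import Cfsg.Statements.S2624
import Cfsg.Agent.Lib.LinearBlock.Disc

set_option autoImplicit false
open Cfsg

namespace Cfsg.Agent.S2624

/-- For a quadratic form Q on F^n with non-degenerate polar form, F finite and n ≥ 2 even, every non-zero scalar c is the multiplier of some similarity: there is an invertible linear map g with Q(g v) = c·Q(v) for all v. -/
theorem result {F : Type*} [Field F] [Fintype F] {n : ℕ} (hn : 2 ≤ n) (he : Even n) (Q : QuadraticForm F (Fin n → F)) (hQ : (QuadraticMap.polarBilin Q).Nondegenerate) (c : F) (hc : c ≠ 0) : ∃ g : (Fin n → F) ≃ₗ[F] (Fin n → F), ∀ v, Q (g v) = c * Q v := by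
  classical
  obtain ⟨m, rfl⟩ := he
  rcases LBQuad.classify_even hQ (m := m) (by simp; omega) with ⟨g, hg⟩ | ⟨ζ, hζ, g, hg⟩
  · obtain ⟨S, hS⟩ := LBQuad.exists_pad_similar (k := m) (QW := (0 : QuadraticForm F (Fin 0 → F))) hc
      (LinearEquiv.refl F _) (fun w => by simp)
    obtain ⟨e, he⟩ : ∃ e : (Fin (m + m) → F) ≃ₗ[F] ((Fin m ⊕ Fin m) ⊕ Fin 0 → F),
        ∀ v, Q v = Orth.qPad F m (0 : QuadraticForm F (Fin 0 → F)) (e v) :=
      ⟨g.trans (Orth.plusPad (F := F) m).symm, fun v => by rw [hg, ← Orth.plusPad_spec]; simp⟩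
    exact ⟨(e.trans S).trans e.symm, fun v => by
      rw [he, he v, LinearEquiv.trans_apply, LinearEquiv.apply_symm_apply, LinearEquiv.trans_apply, hS]⟩
  · obtain ⟨M, hM⟩ := LBQuad.exists_bin_similar hζ hc
    obtain ⟨S, hS⟩ := LBQuad.exists_pad_similar (k := m - 1) hc M hM
    refine ⟨(g.trans S).trans g.symm, fun v => ?_⟩
    rw [hg, hg v, LinearEquiv.trans_apply, LinearEquiv.apply_symm_apply, LinearEquiv.trans_apply]
    exact hS _

end Cfsg.Agent.S2624

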