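import Cfsg.Statements.S2625
import Mathlib.LinearAlgebra.Matrix.BilinearForm

set_option autoImplicit false
open Cfsg

namespace Cfsg.Agent.S2625

/-- For a quadratic form Q on F^n with non-degenerate polar form, F finite and n odd (so |F| is odd), the multiplier of any similarity is a square: if g is an invertible linear map with Q(g v) = c·Q(v) for all v then c is a square. -/
theorem result {F : Type*} [Field F] [Fintype F] {n : ℕ} (hn : Odd n) (Q : QuadraticForm F (Fin n → F)) (hQ : (QuadraticMap.polarBilin Q).Nondegenerate) (g : (Fin n → F) ≃ₗ[F] (Fin n → F)) (c : F) (hg : ∀ v, Q (g v) = c * Q v) : IsSquare c := by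
  classical
  let B := LinearMap.BilinForm.toMatrix (Pi.basisFun F (Fin n)) (QuadraticMap.polarBilin Q)
  have hpol : LinearMap.BilinForm.comp (QuadraticMap.polarBilin Q) (g : (Fin n → F) →ₗ[F] (Fin n → F))
      (g : (Fin n → F) →ₗ[F] (Fin n → F)) = c • QuadraticMap.polarBilin Q := by
    ext u v
    simp [QuadraticMap.polar, ← map_add, hg, mul_sub]
  have hd := congrArg (fun β => (LinearMap.BilinForm.toMatrix (Pi.basisFun F (Fin n)) β).det) hpol
  simp only [LinearMap.BilinForm.toMatrix_comp (Pi.basisFun F (Fin n)) (Pi.basisFun F (Fin n)),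
    Matrix.det_mul, Matrix.det_transpose, map_smul, Matrix.det_smul, Fintype.card_fin] at hd
  have hB : B.det ≠ 0 :=
    (LinearMap.BilinForm.nondegenerate_iff_det_ne_zero (Pi.basisFun F (Fin n))).mp hQ
  obtain ⟨d, hd0⟩ : ∃ d, (LinearMap.toMatrix (Pi.basisFun F (Fin n)) (Pi.basisFun F (Fin n))
    (g : (Fin n → F) →ₗ[F] (Fin n → F))).det = d := ⟨_, rfl⟩
  rw [hd0] at hd
  have hcn : d * d = c ^ n := by
    have : (d * d - c ^ n) * B.det = 0 := by linear_combination hd
    rcases mul_eq_zero.mp this with h | h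
    · exact sub_eq_zero.mp h
    · exact absurd h hB
  obtain ⟨k, rfl⟩ := hn
  by_cases hc : c = 0
  · exact ⟨0, by simp [hc]⟩
  refine ⟨d / c ^ k, ?_⟩
  field_simp
  linear_combination -hcn

end Cfsg.Agent.S2625
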