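import Cfsg.Statements.S2627
import Cfsg.Agent.Lib.AutPOmega.SpinorWitt
-- import your own Cfsg.Agent.* helpers here

set_option autoImplicit false
open Cfsg

namespace Cfsg.Agent.S2627

set_option maxHeartbeats 1000000

/-- For an orthogonal direct sum Q = Q₁ ⊕ Q₂ of quadratic forms with non-degenerate polar forms over a finite field, an isometry g₁ of Q₁ extended by the identity on the second summand lies in Ω(Q) (the commutator subgroup of the orthogonal group of Q) if and only if g₁ lies in Ω(Q₁). (Excluded: the field of two elements when the first summand or the whole space has dimension 4, where the commutator subgroup of O⁺₄(2) is smaller than the group usually called Ω.) -/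
theorem result {F : Type*} [Field F] [Fintype F] {k l : ℕ} (h : Fintype.card F ≠ 2 ∨ (k ≠ 4 ∧ k + l ≠ 4)) (Q₁ : QuadraticForm F (Fin k → F)) (Q₂ : QuadraticForm F (Fin l → F)) (h₁ : (QuadraticMap.polarBilin Q₁).Nondegenerate) (h₂ : (QuadraticMap.polarBilin Q₂).Nondegenerate) (g₁ : ↥(Cfsg.isometryGroup F ⇑Q₁)) : (∃ g : ↥(Cfsg.isometryGroup F (fun v : Fin k ⊕ Fin l → F => Q₁ (v ∘ Sum.inl) + Q₂ (v ∘ Sum.inr))), g ∈ Cfsg.Omega F (fun v : Fin k ⊕ Fin l → F => Q₁ (v ∘ Sum.inl) + Q₂ (v ∘ Sum.inr)) ∧ ((g : Matrix.GeneralLinearGroup (Fin k ⊕ Fin l) F) : Matrix (Fin k ⊕ Fin l) (Fin k ⊕ Fin l) F) = Matrix.fromBlocks ((g₁ : Matrix.GeneralLinearGroup (Fin k) F) : Matrix (Fin k) (Fin k) F) 0 0 1) ↔ g₁ ∈ Cfsg.Omega F ⇑Q₁ := by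
  obtain ⟨q, hq⟩ : ∃ q : QuadraticForm F (Fin k ⊕ Fin l → F),
      q = Q₁.comp (LinearMap.funLeft F F Sum.inl) + Q₂.comp (LinearMap.funLeft F F Sum.inr) := ⟨_, rfl⟩
  have hf : (fun v : Fin k ⊕ Fin l → F => Q₁ (v ∘ Sum.inl) + Q₂ (v ∘ Sum.inr)) = ⇑q := by
    subst hq; rfl
  rw [hf]
  have hqa : ∀ (x : Fin k → F) (y : Fin l → F), q (Sum.elim x y) = Q₁ x + Q₂ y := fun x y => by subst hq; rfl
  have hpol : ∀ (z w : Fin k ⊕ Fin l → F), QuadraticMap.polar q z w =
      QuadraticMap.polar Q₁ (z ∘ Sum.inl) (w ∘ Sum.inl) + QuadraticMap.polar Q₂ (z ∘ Sum.inr) (w ∘ Sum.inr) := by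
    intro z w
    subst hq
    simp only [QuadraticMap.polar]
    show Q₁ (z ∘ Sum.inl + w ∘ Sum.inl) + Q₂ (z ∘ Sum.inr + w ∘ Sum.inr) - (Q₁ (z ∘ Sum.inl) + Q₂ (z ∘ Sum.inr)) -
      (Q₁ (w ∘ Sum.inl) + Q₂ (w ∘ Sum.inr)) = _
    ring
  have hqn : (QuadraticMap.polarBilin q).Nondegenerate := Orth.nondeg_of fun z hz => by
    have e1 : z ∘ Sum.inl = 0 := Orth.eq_zero_of_b h₁ fun x => by
      have := hz (Sum.elim x 0)
      rwa [hpol, Sum.elim_comp_inl, Sum.elim_comp_inr, Orth.b_zero_right, add_zero] at this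
    have e2 : z ∘ Sum.inr = 0 := Orth.eq_zero_of_b h₂ fun y => by
      have := hz (Sum.elim 0 y)
      rwa [hpol, Sum.elim_comp_inl, Sum.elim_comp_inr, Orth.b_zero_right, zero_add] at this
    funext j; rcases j with j | j
    exacts [congrFun e1 j, congrFun e2 j]
  let E₀ : GL (Fin k) F → GL (Fin k ⊕ Fin l) F := fun A =>
    ⟨Matrix.fromBlocks (A : Matrix (Fin k) (Fin k) F) 0 0 1,
     Matrix.fromBlocks ((A⁻¹ : GL (Fin k) F) : Matrix (Fin k) (Fin k) F) 0 0 1,
     by rw [Matrix.fromBlocks_multiply]; simp,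
     by rw [Matrix.fromBlocks_multiply]; simp⟩
  let E : ↥(Cfsg.isometryGroup F ⇑Q₁) →* ↥(Cfsg.isometryGroup F ⇑q) := MonoidHom.mk'
    (fun a => ⟨E₀ (a : GL (Fin k) F), Transvec.Orth.mem_isometry.2 fun z => by
      show q (Matrix.fromBlocks ((a : GL (Fin k) F) : Matrix (Fin k) (Fin k) F) 0 0 1 |>.mulVec z) = q z
      rw [Matrix.fromBlocks_mulVec]
      conv_rhs => rw [← Sum.elim_comp_inl_inr z]
      rw [hqa, hqa]
      simp only [Matrix.zero_mulVec, add_zero, zero_add, Matrix.one_mulVec]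
      rw [Orth.mem_isometryGroup.1 a.2]⟩)
    fun a b => Subtype.ext (Units.ext (by
      show Matrix.fromBlocks _ 0 0 1 = Matrix.fromBlocks _ 0 0 1 * Matrix.fromBlocks _ 0 0 1
      rw [Matrix.fromBlocks_multiply]; simp))
  have hE : ∀ a, ((E a : GL (Fin k ⊕ Fin l) F) : Matrix (Fin k ⊕ Fin l) (Fin k ⊕ Fin l) F) =
      Matrix.fromBlocks ((a : GL (Fin k) F) : Matrix (Fin k) (Fin k) F) 0 0 1 := fun _ => rfl
  constructor
  swap
  · intro hg
    refine ⟨E g₁, ?_, hE g₁⟩
    have : (Cfsg.Omega F ⇑Q₁).map E ≤ Cfsg.Omega F ⇑q := by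
      show (commutator _).map E ≤ commutator _
      rw [commutator_def, Subgroup.map_commutator, commutator_def]
      exact Subgroup.commutator_mono le_top le_top
    exact this ⟨g₁, hg, rfl⟩
  rintro ⟨g, hg, hgm⟩
  rw [show g = E g₁ from Subtype.ext (Units.ext (hgm.trans (hE g₁).symm))] at hg
  obtain ⟨χ', hχ'⟩ := Orth.exists_spinor hqn (h.imp_right fun e => by rw [Module.finrank_fintype_fun_eq_card]; simpa using e.2)
  let ψ : ↥(Cfsg.isometryGroup F ⇑Q₁) →* Orth.SpinVal F := (χ'.comp (Orth.isoEquiv q).toMonoidHom).comp E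
  have hψ1 : ψ g₁ = 1 := by
    have : Cfsg.Omega F ⇑q ≤ (χ'.comp (Orth.isoEquiv q).toMonoidHom).ker := by
      show commutator _ ≤ _
      rw [commutator_def, Subgroup.commutator_le]
      intro a _ b _
      rw [MonoidHom.mem_ker, map_commutatorElement, commutatorElement_eq_one_iff_mul_comm]
      exact mul_comm (_ : Orth.SpinVal F) _
    exact this hg
  have hψ : ∀ (r : ↥(Cfsg.isometryGroup F ⇑Q₁)) (v : Fin k → F), Q₁ v ≠ 0 →
      ((r : GL (Fin k) F) : Matrix (Fin k) (Fin k) F) = Cfsg.reflectionMatrix ⇑Q₁ v → ψ r = Orth.reflVal Q₁ v := by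
    intro r v hv hr
    have hv' : q (Sum.elim v 0) = Q₁ v := by rw [hqa, QuadraticMap.map_zero, add_zero]
    have hr' : ((E r : GL (Fin k ⊕ Fin l) F) : Matrix (Fin k ⊕ Fin l) (Fin k ⊕ Fin l) F) =
        Cfsg.reflectionMatrix ⇑q (Sum.elim v 0) := Matrix.ext_iff_mulVec.2 fun z => by
      rw [hE, Matrix.fromBlocks_mulVec, Orth.reflectionMatrix_mulVec, hr, Orth.reflectionMatrix_mulVec, hv', hpol,
        Sum.elim_comp_inl, Sum.elim_comp_inr, Orth.b_zero_right, add_zero]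
      funext j
      rcases j with j | j <;> simp
    show χ' (Orth.isoEquiv q (E r)) = _
    rw [hχ' _ _ ((Orth.eq_reflectionMatrix_iff q (by rw [hv']; exact hv) (E r)).1 hr'), Orth.reflVal, hv', Orth.reflVal]
  have h4 : Fintype.card F ≠ 2 ∨ Fintype.card (Fin k) ≠ 4 := h.imp_right fun e => by simpa using e.1
  have htop := Orth.closure_reflections_eq_top Q₁ h₁ h4
  by_cases hk : 2 ≤ k
  · obtain ⟨χ₁, hker, -, hrefl⟩ := Orth.exists_matrix_spinor Q₁ h₁ (by simpa using hk) h4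
    have e : ψ = χ₁ := MonoidHom.eq_of_eqOn_dense htop fun r ⟨v, hv, hr⟩ => by
      rw [hψ r v hv hr, hrefl r v hv hr]
    rw [← hker, MonoidHom.mem_ker, ← e, hψ1]
  · have hsub : Subsingleton (Fin k) := Fin.subsingleton_iff_le_one.2 (by omega)
    have hcomm : ∀ a : ↥(Cfsg.isometryGroup F ⇑Q₁),
        a = 1 ∨ ∃ v, Q₁ v ≠ 0 ∧ ((a : GL (Fin k) F) : Matrix (Fin k) (Fin k) F) = Cfsg.reflectionMatrix ⇑Q₁ v := by
      intro a
      rcases Orth.det_eq_or Q₁ h₁ a with hd | hd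
      · refine Or.inl (Subtype.ext (Units.ext (Matrix.ext fun x y => ?_)))
        haveI : Unique (Fin k) := uniqueOfSubsingleton x
        rw [Matrix.det_unique] at hd
        rw [Subsingleton.elim x default, Subsingleton.elim y default, hd]
        simp
      · rcases isEmpty_or_nonempty (Fin k) with hemp | ⟨⟨x⟩⟩
        · exact Or.inl (Subtype.ext (Units.ext (Matrix.ext fun x => isEmptyElim x)))
        haveI : Nontrivial (Fin k → F) := by
          haveI : Inhabited (Fin k) := ⟨x⟩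
          exact Pi.nontrivial
        obtain ⟨v, hv⟩ := Orth.exists_ne_zero_value h₁
        refine Or.inr ⟨v, hv, Matrix.ext fun y z => ?_⟩
        haveI : Unique (Fin k) := uniqueOfSubsingleton x
        have hdv := Orth.det_reflectionMatrix Q₁ hv
        rw [Matrix.det_unique] at hd hdv
        rw [Subsingleton.elim y default, Subsingleton.elim z default, hd, hdv]
    rcases hcomm g₁ with e | ⟨v, hv, hgv⟩
    · rw [e]; exact Subgroup.one_mem _
    · rw [hψ g₁ v hv hgv] at hψ1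
      exact absurd (congrArg Prod.fst hψ1) (show Multiplicative.ofAdd (1 : ZMod 2) ≠ 1 by decide)

end Cfsg.Agent.S2627
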