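import Cfsg.Statements.S2628
import Cfsg.Agent.Lib.Orthogonal.Generation
import Cfsg.Agent.Lib.Orthogonal.Hyper

set_option autoImplicit false
open Cfsg Matrix
open scoped commutatorElement

namespace Cfsg.Agent.S2628

/-- For the orthogonal direct sum Q ⊕ Q of two copies of a quadratic form Q with non-degenerate polar form on F^k (F finite), every isometry g of Q acting diagonally, diag(g, g), lies in Ω(Q ⊕ Q), the commutator subgroup of the orthogonal group of Q ⊕ Q. (Excluded: k = 2 over the field of two elements, where Q ⊕ Q is the hyperbolic 4-space whose orthogonal group's commutator subgroup is smaller than the group usually called Ω.) -/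
theorem result {F : Type*} [Field F] [Fintype F] {k : ℕ} (h : Fintype.card F ≠ 2 ∨ k ≠ 2) (Q : QuadraticForm F (Fin k → F)) (hQ : (QuadraticMap.polarBilin Q).Nondegenerate) (g : ↥(Cfsg.isometryGroup F ⇑Q)) : ∃ x : ↥(Cfsg.isometryGroup F (fun v : Fin k ⊕ Fin k → F => Q (v ∘ Sum.inl) + Q (v ∘ Sum.inr))), x ∈ Cfsg.Omega F (fun v : Fin k ⊕ Fin k → F => Q (v ∘ Sum.inl) + Q (v ∘ Sum.inr)) ∧ ((x : Matrix.GeneralLinearGroup (Fin k ⊕ Fin k) F) : Matrix (Fin k ⊕ Fin k) (Fin k ⊕ Fin k) F) = Matrix.fromBlocks ((g : Matrix.GeneralLinearGroup (Fin k) F) : Matrix (Fin k) (Fin k) F) 0 0 ((g : Matrix.GeneralLinearGroup (Fin k) F) : Matrix (Fin k) (Fin k) F) := by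
  classical
  let P : QuadraticForm F (Fin k ⊕ Fin k → F) :=
    Q.comp (LinearMap.funLeft F F Sum.inl) + Q.comp (LinearMap.funLeft F F Sum.inr)
  have hPapp : ∀ v : Fin k ⊕ Fin k → F, P v = Q (v ∘ Sum.inl) + Q (v ∘ Sum.inr) := fun v => rfl
  have hP : (QuadraticMap.polarBilin P).Nondegenerate := by
    refine Orth.nondeg_of fun x hx => ?_
    have h1 : x ∘ Sum.inl = 0 := Orth.eq_zero_of_b hQ fun y => by
      have := hx (Sum.elim y (0 : Fin k → F))
      simp only [QuadraticMap.polar, hPapp, show (x + Sum.elim y (0 : Fin k → F)) ∘ Sum.inl = x ∘ Sum.inl + y from rfl,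
        show (x + Sum.elim y (0 : Fin k → F)) ∘ Sum.inr = x ∘ Sum.inr + (0 : Fin k → F) from rfl, add_zero, Sum.elim_comp_inl,
        Sum.elim_comp_inr, map_zero, zero_add] at this
      simp only [QuadraticMap.polar]
      linear_combination this
    have h2 : x ∘ Sum.inr = 0 := Orth.eq_zero_of_b hQ fun y => by
      have := hx (Sum.elim (0 : Fin k → F) y)
      simp only [QuadraticMap.polar, hPapp, show (x + Sum.elim (0 : Fin k → F) y) ∘ Sum.inr = x ∘ Sum.inr + y from rfl,
        show (x + Sum.elim (0 : Fin k → F) y) ∘ Sum.inl = x ∘ Sum.inl + (0 : Fin k → F) from rfl, add_zero, Sum.elim_comp_inl,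
        Sum.elim_comp_inr, map_zero, zero_add] at this
      simp only [QuadraticMap.polar]
      linear_combination this
    funext i
    rcases i with i | i
    · exact congrFun h1 i
    · exact congrFun h2 i
  set O := Cfsg.isometryGroup F (fun v : Fin k ⊕ Fin k → F => Q (v ∘ Sum.inl) + Q (v ∘ Sum.inr))
  have hsq : ∀ a : O, a * a ∈ commutator O := by
    have hgen := Orth.closure_reflections_eq_top P hP (by
      rcases h with h | h
      · exact Or.inl h
      · exact Or.inr (by rw [Fintype.card_sum, Fintype.card_fin]; omega))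
    intro a
    have hmem : ∀ r : ↥(Cfsg.isometryGroup F (⇑P)), (Abelianization.of r) * Abelianization.of r = 1 := by
      intro r
      have hr : r ∈ (⊤ : Subgroup _) := Subgroup.mem_top r
      rw [← hgen] at hr
      induction hr using Subgroup.closure_induction with
      | mem r hr =>
        obtain ⟨v, hv, hrv⟩ := hr
        rw [← map_mul]
        have hrr : r * r = 1 := by
          have hr' := (Orth.eq_reflectionMatrix_iff P hv r).1 hrv
          have := hr'.mul_self
          apply (Orth.isoEquiv P).injective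
          rw [map_mul, map_one]
          exact Subtype.ext this
        rw [hrr, map_one]
      | one => simp
      | mul x y _ _ hx hy => rw [map_mul, mul_mul_mul_comm, hx, hy, one_mul]
      | inv x _ hx => rw [map_inv, ← _root_.mul_inv_rev, hx, inv_one]
    have h3 : a * a ∈ (Abelianization.of (G := O)).ker := by
      rw [MonoidHom.mem_ker, map_mul]
      exact hmem a
    rwa [Abelianization.ker_of] at h3
  -- block diagonal isometries
  have mkD : ∀ p q : ↥(Cfsg.isometryGroup F ⇑Q), ∃ d : O,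
      ((d : GL (Fin k ⊕ Fin k) F) : Matrix (Fin k ⊕ Fin k) (Fin k ⊕ Fin k) F) =
        Matrix.fromBlocks p.1.1 0 0 q.1.1 := by
    intro p q
    refine ⟨⟨⟨Matrix.fromBlocks p.1.1 0 0 q.1.1, Matrix.fromBlocks (p⁻¹).1.1 0 0 (q⁻¹).1.1, ?_, ?_⟩, fun u _ => ?_⟩, rfl⟩
    · rw [Matrix.fromBlocks_multiply]
      simp [← Units.val_mul, ← Subgroup.coe_mul, Matrix.fromBlocks_one]
    · rw [Matrix.fromBlocks_multiply]
      simp [← Units.val_mul, ← Subgroup.coe_mul, Matrix.fromBlocks_one]
    · show Q ((Matrix.fromBlocks p.1.1 0 0 q.1.1 *ᵥ u) ∘ Sum.inl) + Q ((Matrix.fromBlocks p.1.1 0 0 q.1.1 *ᵥ u) ∘ Sum.inr) = _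
      rw [Matrix.fromBlocks_mulVec, Sum.elim_comp_inl, Sum.elim_comp_inr, Matrix.zero_mulVec, Matrix.zero_mulVec,
        add_zero, zero_add]
      exact congrArg₂ (· + ·) (p.2 _ (u ∘ Sum.inl)) (q.2 _ (u ∘ Sum.inr))
  choose D hD using mkD
  have hDmul : ∀ p q p' q', D p q * D p' q' = D (p * p') (q * q') := fun p q p' q' => by
    apply Subtype.ext; apply Units.ext
    rw [Subgroup.coe_mul, Units.val_mul, hD, hD, hD, Matrix.fromBlocks_multiply]
    simp
  obtain ⟨s, hs⟩ : ∃ s : O, ∀ p q, s * D p q = D q p * s := by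
    refine ⟨⟨⟨Matrix.fromBlocks 0 1 1 0, Matrix.fromBlocks 0 1 1 0, ?_, ?_⟩, fun u _ => ?_⟩, fun p q => ?_⟩
    · rw [Matrix.fromBlocks_multiply]; simp [Matrix.fromBlocks_one]
    · rw [Matrix.fromBlocks_multiply]; simp [Matrix.fromBlocks_one]
    · show Q ((Matrix.fromBlocks 0 1 1 0 *ᵥ u) ∘ Sum.inl) + Q ((Matrix.fromBlocks 0 1 1 0 *ᵥ u) ∘ Sum.inr) = _
      rw [Matrix.fromBlocks_mulVec, Sum.elim_comp_inl, Sum.elim_comp_inr, Matrix.zero_mulVec, Matrix.zero_mulVec,
        Matrix.one_mulVec, Matrix.one_mulVec, add_zero, zero_add, add_comm]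
    · apply Subtype.ext; apply Units.ext
      rw [Subgroup.coe_mul, Subgroup.coe_mul, Units.val_mul, Units.val_mul, hD, hD]
      show Matrix.fromBlocks 0 1 1 0 * _ = _ * Matrix.fromBlocks 0 1 1 0
      rw [Matrix.fromBlocks_multiply, Matrix.fromBlocks_multiply]
      simp
  refine ⟨D g g, ?_, hD g g⟩
  have hone : D 1 1 = 1 := by
    have e := hDmul 1 1 1 1
    rw [mul_one] at e
    exact mul_eq_left.1 e
  have hinv : D g⁻¹ 1 = (D g 1)⁻¹ := eq_inv_of_mul_eq_one_left (by rw [hDmul, inv_mul_cancel, one_mul, hone])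
  have hcomm : D g⁻¹ g ∈ commutator O := by
    have he : ⁅s, D g 1⁆ = D g⁻¹ g := by
      rw [commutatorElement_def, hs, mul_inv_cancel_right, ← hinv, hDmul, one_mul, mul_one]
    rw [← he, commutator_def]
    exact Subgroup.commutator_mem_commutator (Subgroup.mem_top _) (Subgroup.mem_top _)
  have he2 : D g g = (D g 1 * D g 1) * D g⁻¹ g := by
    rw [hDmul, hDmul]
    simp
  rw [he2]
  exact mul_mem (hsq _) hcomm

end Cfsg.Agent.S2628

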