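import Cfsg.Statements.S2629
import Cfsg.Agent.Lib.AutPOmega.SpinorApps
-- import your own Cfsg.Agent.* helpers here

set_option autoImplicit false
open Cfsg

namespace Cfsg.Agent.S2629

/-- For the hyperbolic form Σ x_i y_i on F^(2m) over a finite field of odd order (m ≥ 1), an isometry g preserves the class of the maximal totally singular subspace U₀ = {y = 0} (that is, m − dim(U₀ ∩ gU₀) is even) if and only if det g = 1: the stabiliser of each of the two classes of maximal totally singular subspaces is SO. -/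
theorem result {F : Type*} [Field F] [Fintype F] (h2 : (2 : F) ≠ 0) {m : ℕ} (hm : 1 ≤ m) (g : ↥(Cfsg.isometryGroup F (Cfsg.quadFormPlus m F))) : Even (m - Module.finrank F ↥(LinearMap.ker (LinearMap.funLeft F F (Sum.inr : Fin m → Fin m ⊕ Fin m)) ⊓ (LinearMap.ker (LinearMap.funLeft F F (Sum.inr : Fin m → Fin m ⊕ Fin m))).map (Matrix.mulVecLin ((g : Matrix.GeneralLinearGroup (Fin m ⊕ Fin m) F) : Matrix (Fin m ⊕ Fin m) (Fin m ⊕ Fin m) F)))) ↔ ((g : Matrix.GeneralLinearGroup (Fin m ⊕ Fin m) F) : Matrix (Fin m ⊕ Fin m) (Fin m ⊕ Fin m) F).det = 1 := by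
  revert g
  rw [← Orth.coe_qPlus]
  intro g
  obtain ⟨χ, -, -, hrefl⟩ := Orth.exists_matrix_spinor (Orth.qPlus F m) (Orth.qPlus_nondeg m)
    (by simp; omega) (Or.inl (AutPOmega.card_ne_two_of_two_ne h2))
  rw [AutPOmega.even_iff_fst (Or.inl (AutPOmega.card_ne_two_of_two_ne h2)) hrefl g,
    Orth.det_eq_sgn _ (Orth.qPlus_nondeg m) (Or.inl (AutPOmega.card_ne_two_of_two_ne h2)) χ hrefl g]
  rcases AutPOmega.zmod_two_cases (χ g).1 with e | e <;> rw [e]
  · simp [Orth.sgn]
  · refine iff_of_false (by decide) ?_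
    simp only [toAdd_ofAdd, Orth.sgn, if_neg (one_ne_zero : (1 : ZMod 2) ≠ 0)]
    intro h1
    exact h2 (by linear_combination -h1)

end Cfsg.Agent.S2629
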