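import Cfsg.Statements.S2631
import Cfsg.Agent.Lib.AutPOmega.SpinorWitt
-- import your own Cfsg.Agent.* helpers here

set_option autoImplicit false
open Cfsg

namespace Cfsg.Agent.S2631

/-- For the hyperbolic form Σ x_i y_i on F^(2m) over a finite field (m ≥ 1, excluding m = 2 over the field of two elements), Ω (the commutator subgroup of the orthogonal group) acts transitively on each of the two classes of maximal totally singular subspaces: if U and W are m-dimensional totally singular subspaces with m − dim(U ∩ W) even, some element of Ω carries U to W. -/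
theorem result {F : Type*} [Field F] [Fintype F] {m : ℕ} (hm : 1 ≤ m) (h : Fintype.card F ≠ 2 ∨ m ≠ 2) (U W : Submodule F (Fin m ⊕ Fin m → F)) (hU : Module.finrank F U = m) (hW : Module.finrank F W = m) (hU0 : ∀ u ∈ U, Cfsg.quadFormPlus m F u = 0) (hW0 : ∀ w ∈ W, Cfsg.quadFormPlus m F w = 0) (he : Even (m - Module.finrank F ↥(U ⊓ W))) : ∃ g : ↥(Cfsg.isometryGroup F (Cfsg.quadFormPlus m F)), g ∈ Cfsg.Omega F (Cfsg.quadFormPlus m F) ∧ U.map (Matrix.mulVecLin ((g : Matrix.GeneralLinearGroup (Fin m ⊕ Fin m) F) : Matrix (Fin m ⊕ Fin m) (Fin m ⊕ Fin m) F)) = W := by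
  rw [← Orth.coe_qPlus] at hU0 hW0 ⊢
  have h4 : Fintype.card F ≠ 2 ∨ Fintype.card (Fin m ⊕ Fin m) ≠ 4 :=
    h.imp_right fun e => by simp only [Fintype.card_sum, Fintype.card_fin]; omega
  obtain ⟨χ, hker, -, hrefl⟩ := Orth.exists_matrix_spinor (Orth.qPlus F m) (Orth.qPlus_nondeg m)
    (by simp; omega) h4
  obtain ⟨g, hgU, -⟩ := AutPOmega.exists_iso_map (Orth.qPlus_nondeg m) (LinearEquiv.ofFinrankEq U W (hU.trans hW.symm))
    fun x => by rw [hW0 _ (Subtype.coe_prop _), hU0 _ x.2]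
  have hfst : (χ g).1 = 1 := by
    rw [AutPOmega.fst_eq_one_iff_pres AutPOmega.hyp_plus h4 hrefl g,
      AutPOmega.pres_iff AutPOmega.hyp_plus (AutPOmega.isPair_iso g.2) ⟨hU, hU0⟩, AutPOmega.Same, Cfsg.imageSubmodule,
      Matrix.toLin'_apply', hgU]
    exact he
  obtain ⟨k, hk, -⟩ := AutPOmega.exists_iso_map (Orth.qPlus_nondeg m)
    (X := LinearMap.range (Orth.leftEmb F m)) (Y := U)
    (LinearEquiv.ofFinrankEq _ _ ((Orth.isMaxSing_left (F := F) (m := m)).1.trans hU.symm))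
    fun x => by rw [hU0 _ (Subtype.coe_prop _), (Orth.isMaxSing_left (F := F) (m := m)).2 _ x.2]
  obtain ⟨L, hL, hLv⟩ := AutPOmega.exists_levi (F := F) (m := m)
  obtain ⟨c, hc⟩ := QuotientGroup.mk_surjective (χ g)⁻¹.2
  rw [← Orth.sqc_unit] at hc
  obtain ⟨A, hA⟩ : ∃ A : GL (Fin m) F, (A : Matrix (Fin m) (Fin m) F).det = (c : F) := by
    refine ⟨Matrix.GeneralLinearGroup.mkOfDetNeZero
      (Matrix.diagonal fun l : Fin m => if l = ⟨0, hm⟩ then (c : F) else 1) ?_, ?_⟩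
    · rw [Matrix.det_diagonal, Finset.prod_ite_eq']; simp
    · show (Matrix.diagonal fun l : Fin m => if l = ⟨0, hm⟩ then (c : F) else 1).det = _
      rw [Matrix.det_diagonal, Finset.prod_ite_eq']; simp
  refine AutPOmega.exists_map_omega hker hgU (h := k * L A * k⁻¹) (fun u hu => ?_) ?_
  · rw [← hk] at hu ⊢
    obtain ⟨_, ⟨x, rfl⟩, rfl⟩ := hu
    refine ⟨_, ⟨(A : Matrix (Fin m) (Fin m) F).mulVec x, rfl⟩, ?_⟩
    rw [Matrix.mulVecLin_apply, Matrix.mulVecLin_apply]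
    show Cfsg.Agent.Transvec.mv (k : GL (Fin m ⊕ Fin m) F) _ = Cfsg.Agent.Transvec.mv _ (Cfsg.Agent.Transvec.mv (k : GL (Fin m ⊕ Fin m) F) _)
    rw [← Transvec.mv_mul, ← Subgroup.coe_mul, inv_mul_cancel_right, Subgroup.coe_mul, Transvec.mv_mul]
    refine congrArg _ ?_
    show _ = ((L A : GL (Fin m ⊕ Fin m) F) : Matrix (Fin m ⊕ Fin m) (Fin m ⊕ Fin m) F).mulVec _
    rw [hL, Matrix.fromBlocks_mulVec]
    funext l
    rcases l with l | l <;> simp [Orth.leftEmb, Function.comp_def, ← Pi.zero_def]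
  · have e : χ (k * L A * k⁻¹) = χ (L A) := by
      rw [map_mul, map_mul, map_inv, mul_comm (χ k)]
      exact mul_inv_cancel_right _ _
    rw [e, hLv h hrefl, hA, hc, ← inv_inv (χ g), inv_mul_eq_one]
    exact Prod.ext (by rw [Prod.fst_inv, hfst, inv_one]) (by simp)

end Cfsg.Agent.S2631
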