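import Cfsg.Statements.S2634
import Cfsg.Agent.Lib.AutPOmega.SpinorWitt
-- import your own Cfsg.Agent.* helpers here

set_option autoImplicit false
open Cfsg

namespace Cfsg.Agent.S2634

/-- Over a finite field of characteristic two, Ω (the commutator subgroup of the orthogonal group of a quadratic form Q on F^n with non-degenerate polar form; excluding dimension 4 over the field of two elements) acts transitively on the non-singular 1-spaces: for u, v with Q(u) ≠ 0 and Q(v) ≠ 0 some element of Ω carries the line through u to the line through v. -/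
theorem result {F : Type*} [Field F] [Fintype F] [CharP F 2] {n : ℕ} (h : Fintype.card F ≠ 2 ∨ n ≠ 4) (Q : QuadraticForm F (Fin n → F)) (hQ : (QuadraticMap.polarBilin Q).Nondegenerate) (u v : Fin n → F) (hu : Q u ≠ 0) (hv : Q v ≠ 0) : ∃ g : ↥(Cfsg.isometryGroup F ⇑Q), g ∈ Cfsg.Omega F ⇑Q ∧ (F ∙ ((g : Matrix.GeneralLinearGroup (Fin n) F) : Matrix (Fin n) (Fin n) F).mulVec u) = F ∙ v := by
  have h20 : (2 : F) = 0 := CharTwo.two_eq_zero
  have hu0 : u ≠ 0 := fun e => hu (by rw [e, QuadraticMap.map_zero])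
  have hv0 : v ≠ 0 := fun e => hv (by rw [e, QuadraticMap.map_zero])
  have hn : 2 ≤ n := by
    by_contra hcon
    refine hu0 (Orth.eq_zero_of_b hQ fun y => ?_)
    obtain ⟨c, rfl⟩ : ∃ c : F, y = c • u := by
      obtain ⟨i, hi⟩ : ∃ i, u i ≠ 0 := Function.ne_iff.1 hu0
      refine ⟨y i / u i, funext fun j => ?_⟩
      have hi1 : j = i := Fin.ext (by have := i.2; have := j.2; omega)
      subst hi1
      simp [div_mul_cancel₀ _ hi]
    rw [Orth.b_smul_right, Orth.b_self, h20, zero_mul, mul_zero]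
  obtain ⟨χ, hker, -, hrefl⟩ := Orth.exists_matrix_spinor Q hQ (by simpa using hn) (h.imp_right fun e => by simpa using e)
  obtain ⟨s, hs⟩ := FiniteField.isSquare_of_char_two (F := F) (ringChar.eq F 2) (Q u / Q v)
  have hs0 : s ≠ 0 := fun e => div_ne_zero hu hv (by rw [hs, e, zero_mul])
  have hvs : Q (s • v) = Q u := by rw [Orth.q_smul, ← hs, div_mul_cancel₀ _ hv]
  obtain ⟨φ, hφ⟩ : ∃ φ : ↥(F ∙ u) ≃ₗ[F] ↥(F ∙ (s • v)),
      φ = (LinearEquiv.toSpanNonzeroSingleton F _ u hu0).symm.trans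
        (LinearEquiv.toSpanNonzeroSingleton F _ (s • v) (smul_ne_zero hs0 hv0)) := ⟨_, rfl⟩
  have hiso : ∀ x : ↥(F ∙ u), Q (φ x : Fin n → F) = Q (x : Fin n → F) := by
    intro x
    obtain ⟨c, rfl⟩ := (LinearEquiv.toSpanNonzeroSingleton F _ u hu0).surjective x
    rw [hφ, LinearEquiv.trans_apply, LinearEquiv.symm_apply_apply]
    show Q (c • s • v) = Q (c • u)
    rw [Orth.q_smul, Orth.q_smul c u, hvs]
  obtain ⟨g, hgU, -⟩ := AutPOmega.exists_iso_map hQ φ hiso
  obtain ⟨g', hg', hg'U⟩ : ∃ g' : ↥(Cfsg.isometryGroup F ⇑Q), g' ∈ Cfsg.Omega F ⇑Q ∧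
      (F ∙ u).map (Matrix.mulVecLin ((g' : GL (Fin n) F) : Matrix (Fin n) (Fin n) F)) = F ∙ (s • v) := by
    obtain ⟨r, hr, -⟩ := Orth.exists_reflection Q hu
    obtain ⟨c, hc⟩ := QuotientGroup.mk_surjective (χ g).2
    rw [← Orth.sqc_unit, AutPOmega.sqc_char_two h20] at hc
    rcases AutPOmega.zmod_two_cases (χ g).1 with h1 | h1
    · exact AutPOmega.exists_map_omega hker hgU (h := 1) (fun x hx => by rw [OneMemClass.coe_one, Transvec.mv_one]; exact hx)
        (by rw [map_one, mul_one]; exact Prod.ext h1 hc.symm)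
    · refine AutPOmega.exists_map_omega hker hgU (h := r) (fun x hx => ?_) ?_
      · show ((r : GL (Fin n) F) : Matrix (Fin n) (Fin n) F).mulVec x ∈ _
        rw [hr, Orth.reflectionMatrix_mulVec]
        exact Submodule.sub_mem _ hx (Submodule.smul_mem _ _ (Submodule.mem_span_singleton_self u))
      · rw [hrefl r u hu hr]
        refine Prod.ext ?_ ?_
        · show (χ g).1 * Multiplicative.ofAdd 1 = 1
          rw [h1]; decide
        · show (χ g).2 * Orth.sqc F (Q u) = 1
          rw [← hc, AutPOmega.sqc_char_two h20, one_mul]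
  refine ⟨g', hg', ?_⟩
  rw [Submodule.map_span, Set.image_singleton, Matrix.mulVecLin_apply] at hg'U
  rw [hg'U]
  exact Submodule.span_singleton_smul_eq (Ne.isUnit hs0) v

end Cfsg.Agent.S2634
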