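import Cfsg.Statements.S2635
import Cfsg.Agent.Lib.AutPOmega.SpinorWitt
-- import your own Cfsg.Agent.* helpers here

set_option autoImplicit false
open Cfsg

namespace Cfsg.Agent.S2635

/-- Over a finite field of characteristic two, for a quadratic form Q on F^n with non-degenerate polar form, n ≥ 2, other than dimension 4 over the field of two elements, Ω (the commutator subgroup of the orthogonal group) is exactly the subgroup generated by the products of two reflections (orthogonal transvections) x ↦ x − Q(v)⁻¹ f(x, v) v, Q(v) ≠ 0: the products of an even number of reflections. -/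
theorem result {F : Type*} [Field F] [Fintype F] [CharP F 2] {n : ℕ} (hn : 2 ≤ n) (h : Fintype.card F ≠ 2 ∨ n ≠ 4) (Q : QuadraticForm F (Fin n → F)) (hQ : (QuadraticMap.polarBilin Q).Nondegenerate) : Cfsg.Omega F ⇑Q = Subgroup.closure {g : ↥(Cfsg.isometryGroup F ⇑Q) | ∃ u v : Fin n → F, Q u ≠ 0 ∧ Q v ≠ 0 ∧ ((g : Matrix.GeneralLinearGroup (Fin n) F) : Matrix (Fin n) (Fin n) F) = Cfsg.reflectionMatrix ⇑Q u * Cfsg.reflectionMatrix ⇑Q v} := by
  have h4 : Fintype.card F ≠ 2 ∨ Fintype.card (Fin n) ≠ 4 := h.imp_right fun e => by simpa using e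
  obtain ⟨χ, hker, -, hrefl⟩ := Orth.exists_matrix_spinor Q hQ (by simpa using hn) h4
  rw [← hker]
  refine le_antisymm (fun g hg => ?_) ((Subgroup.closure_le _).2 ?_)
  swap
  · rintro g ⟨u, v, hu, hv, hg⟩
    obtain ⟨r, hr, -⟩ := Orth.exists_reflection Q hu
    obtain ⟨r', hr', -⟩ := Orth.exists_reflection Q hv
    rw [SetLike.mem_coe, MonoidHom.mem_ker, show g = r * r' from Subtype.ext (Units.ext (by
      rw [Subgroup.coe_mul, Units.val_mul, hr, hr', hg])), map_mul, hrefl r u hu hr, hrefl r' v hv hr']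
    refine Prod.ext (show Multiplicative.ofAdd (1 : ZMod 2) * Multiplicative.ofAdd 1 = 1 by decide) ?_
    show Orth.sqc F (Q u) * Orth.sqc F (Q v) = 1
    rw [AutPOmega.sqc_char_two CharTwo.two_eq_zero, AutPOmega.sqc_char_two CharTwo.two_eq_zero, one_mul]
  · haveI : Nontrivial (Fin n → F) := Module.nontrivial_of_finrank_pos (R := F) (by rw [Module.finrank_fin_fun]; omega)
    obtain ⟨w, hw⟩ := Orth.exists_ne_zero_value hQ
    obtain ⟨r₀, hr₀, -⟩ := Orth.exists_reflection Q hw
    obtain ⟨H, hH⟩ : ∃ H, H = Subgroup.closure {g : ↥(Cfsg.isometryGroup F ⇑Q) | ∃ u v : Fin n → F, Q u ≠ 0 ∧ Q v ≠ 0 ∧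
      ((g : GL (Fin n) F) : Matrix (Fin n) (Fin n) F) = Cfsg.reflectionMatrix ⇑Q u * Cfsg.reflectionMatrix ⇑Q v} :=
      ⟨_, rfl⟩
    rw [← hH]
    have hpair : ∀ {u v : Fin n → F} {r r' : ↥(Cfsg.isometryGroup F ⇑Q)}, Q u ≠ 0 → Q v ≠ 0 →
        ((r : GL (Fin n) F) : Matrix (Fin n) (Fin n) F) = Cfsg.reflectionMatrix ⇑Q u →
        ((r' : GL (Fin n) F) : Matrix (Fin n) (Fin n) F) = Cfsg.reflectionMatrix ⇑Q v → r * r' ∈ H :=
      fun {u v r r'} hu hv hr hr' => hH ▸ Subgroup.subset_closure ⟨u, v, hu, hv, by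
        rw [Subgroup.coe_mul, Units.val_mul, hr, hr']⟩
    have hsq : ∀ {u : Fin n → F} {r : ↥(Cfsg.isometryGroup F ⇑Q)}, Q u ≠ 0 →
        ((r : GL (Fin n) F) : Matrix (Fin n) (Fin n) F) = Cfsg.reflectionMatrix ⇑Q u → r⁻¹ = r := fun {u r} hu hr => by
      have := ((Orth.eq_reflectionMatrix_iff Q hu r).1 hr).mul_self
      exact inv_eq_of_mul_eq_one_right ((Orth.isoEquiv Q).injective (Subtype.ext (by
        rw [map_mul, map_one]; exact this)))
    have key : g ∈ H ∨ r₀ * g ∈ H := by
      have hg' : g ∈ (⊤ : Subgroup _) := Subgroup.mem_top g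
      rw [← Orth.closure_reflections_eq_top Q hQ h4] at hg'
      clear hg
      have step : ∀ (u : Fin n → F) (r y : ↥(Cfsg.isometryGroup F ⇑Q)), Q u ≠ 0 →
          ((r : GL (Fin n) F) : Matrix (Fin n) (Fin n) F) = Cfsg.reflectionMatrix ⇑Q u →
          (y ∈ H ∨ r₀ * y ∈ H) → (r * y ∈ H ∨ r₀ * (r * y) ∈ H) := by
        intro u r y hu hr hy
        rcases hy with hy | hy
        · right; rw [← mul_assoc]; exact H.mul_mem (hpair hw hu hr₀ hr) hy
        · left
          have e : r * y = r * r₀ * (r₀ * y) := by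
            conv_rhs => rw [show r * r₀ = r * r₀⁻¹ by rw [hsq hw hr₀], mul_assoc, inv_mul_cancel_left]
          rw [e]; exact H.mul_mem (hpair hu hw hr hr₀) hy
      induction hg' using Subgroup.closure_induction_left with
      | one => exact Or.inl H.one_mem
      | mul_left r hr y _ hy =>
        obtain ⟨u, hu, hru⟩ := hr
        exact step u r y hu hru hy
      | inv_mul_cancel r hr y _ hy =>
        obtain ⟨u, hu, hru⟩ := hr
        rw [hsq hu hru]
        exact step u r y hu hru hy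
    refine key.resolve_right fun h0 => ?_
    have hle : H ≤ (χ.ker.comap (MonoidHom.id _)) := by
      rw [hH, Subgroup.closure_le]
      rintro x ⟨u, v, hu, hv, hx⟩
      obtain ⟨r, hr, -⟩ := Orth.exists_reflection Q hu
      obtain ⟨r', hr', -⟩ := Orth.exists_reflection Q hv
      show χ x = 1
      rw [show x = r * r' from Subtype.ext (Units.ext (by rw [Subgroup.coe_mul, Units.val_mul, hr, hr', hx])),
        map_mul, hrefl r u hu hr, hrefl r' v hv hr']
      refine Prod.ext (show Multiplicative.ofAdd (1 : ZMod 2) * Multiplicative.ofAdd 1 = 1 by decide) ?_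
      show Orth.sqc F (Q u) * Orth.sqc F (Q v) = 1
      rw [AutPOmega.sqc_char_two CharTwo.two_eq_zero, AutPOmega.sqc_char_two CharTwo.two_eq_zero, one_mul]
    have := hle h0
    rw [Subgroup.comap_id, MonoidHom.mem_ker, map_mul, MonoidHom.mem_ker.1 hg, mul_one, hrefl r₀ w hw hr₀] at this
    exact absurd (congrArg Prod.fst this) (show Multiplicative.ofAdd (1 : ZMod 2) ≠ 1 by decide)

end Cfsg.Agent.S2635
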