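import Cfsg.Statements.S2636
import Cfsg.Agent.Lib.Classical.SL
import Mathlib.FieldTheory.Fixed
import Mathlib.FieldTheory.Finiteness

set_option autoImplicit false
open Cfsg

namespace Cfsg.Agent.S2636

/-- Centraliser of a field automorphism in PGL_n: let F be the field with q = q₀^r elements, σ a field automorphism of F of prime order r (so its fixed field has q₀ elements) and n ≥ 1. The invertible matrices g whose entrywise image under σ is a scalar multiple of g — those whose coset modulo scalars is fixed by σ — number (q − 1)/(q₀ − 1) · |GL_n(q₀)|; equivalently the centraliser in PGL_n(q) of the induced automorphism has the order of PGL_n(q₀). -/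
theorem result {F : Type*} [Field F] [Fintype F] {q₀ r n : ℕ} (hr : r.Prime) (hn : 1 ≤ n) (hF : Fintype.card F = q₀ ^ r) (σ : F ≃+* F) (hσ : orderOf σ = r) : Nat.card {g : GL (Fin n) F // ∃ c : F, c ≠ 0 ∧ (g : Matrix (Fin n) (Fin n) F).map σ = c • (g : Matrix (Fin n) (Fin n) F)} = (q₀ ^ r - 1) / (q₀ - 1) * ∏ i : Fin n, (q₀ ^ n - q₀ ^ (i : ℕ)) := by
  classical
  let H : Subgroup (F ≃+* F) := Subgroup.zpowers σ
  haveI : Finite (F ≃+* F) := Finite.of_injective (fun e => (e : F → F)) DFunLike.coe_injective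
  haveI : Fintype H := Fintype.ofFinite H
  haveI : FaithfulSMul H F := ⟨fun {a b} h => Subtype.ext (RingEquiv.ext h)⟩
  let K := FixedPoints.subfield H F
  have hfin : Module.finrank K F = r := by
    rw [FixedPoints.finrank_eq_card, ← Nat.card_eq_fintype_card, Nat.card_zpowers, hσ]
  have hKmem : ∀ x : F, x ∈ K ↔ σ x = x := by
    intro x
    constructor
    · exact fun h => h ⟨σ, Subgroup.mem_zpowers σ⟩
    · rintro h ⟨τ, hτ⟩
      obtain ⟨k, rfl⟩ := Subgroup.mem_zpowers_iff.1 hτ
      have : σ ^ k ∈ MulAction.stabilizer (F ≃+* F) x :=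
        Subgroup.zpow_mem _ (MulAction.mem_stabilizer_iff.2 h) k
      exact this
  have hr0 : r ≠ 0 := hr.ne_zero
  have hKc : Nat.card K = q₀ := by
    have h := Module.natCard_eq_pow_finrank (K := K) (V := F)
    rw [hfin, Nat.card_eq_fintype_card, hF] at h
    exact (Nat.pow_left_injective hr0 h).symm
  haveI : Finite K := inferInstance
  let sc : Fˣ →* GL (Fin n) F := Units.map (Matrix.scalar (Fin n)).toMonoidHom
  let inc : GL (Fin n) K →* GL (Fin n) F := Matrix.GeneralLinearGroup.map K.subtype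
  have hsc : ∀ (μ : Fˣ) (g : GL (Fin n) F),
      ((sc μ * g : GL (Fin n) F) : Matrix (Fin n) (Fin n) F) = (μ : F) • (g : Matrix (Fin n) (Fin n) F) := by
    intro μ g
    ext i j
    simp [sc, Matrix.scalar_apply, Matrix.diagonal_mul]
  let ψ : Fˣ × GL (Fin n) K →* GL (Fin n) F := MonoidHom.noncommCoprod sc inc fun μ h =>
    Units.ext (Matrix.scalar_commute (μ : F) (Commute.all _) _).eq
  have hψ : ∀ p, (ψ p : Matrix (Fin n) (Fin n) F) =
      (p.1 : F) • (p.2 : Matrix (Fin n) (Fin n) K).map K.subtype := fun p => hsc p.1 (inc p.2)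
  let i0 : Fin n := ⟨0, hn⟩
  have hrange : ∀ g : GL (Fin n) F, g ∈ ψ.range ↔
      ∃ c : F, c ≠ 0 ∧ (g : Matrix (Fin n) (Fin n) F).map σ = c • (g : Matrix (Fin n) (Fin n) F) := by
    intro g
    constructor
    · rintro ⟨p, rfl⟩
      refine ⟨σ p.1 / p.1, div_ne_zero (by simp) p.1.ne_zero, ?_⟩
      ext i j
      have hfix : σ (((p.2 : Matrix (Fin n) (Fin n) K) i j : K) : F) = ((p.2 : Matrix (Fin n) (Fin n) K) i j : K) :=
        (hKmem _).1 ((p.2 : Matrix (Fin n) (Fin n) K) i j).2
      simp only [hψ, Matrix.map_apply, Matrix.smul_apply, smul_eq_mul, map_mul, Subfield.coe_subtype, hfix]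
      rw [← mul_assoc, div_mul_cancel₀ _ p.1.ne_zero]
    · rintro ⟨c, hc0, hc⟩
      obtain ⟨i, j, hij⟩ : ∃ i j, (g : Matrix (Fin n) (Fin n) F) i j ≠ 0 := by
        by_contra! h
        have h0 : (g : Matrix (Fin n) (Fin n) F) = 0 := Matrix.ext h
        have := g.mul_inv
        rw [h0, zero_mul] at this
        simpa using congrFun₂ this i0 i0
      obtain ⟨a, ha⟩ : ∃ a : F, (g : Matrix (Fin n) (Fin n) F) i j = a := ⟨_, rfl⟩
      rw [ha] at hij
      have hca : σ a = c * a := by
        have := congrFun₂ hc i j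
        simpa [ha] using this
      let A : Matrix (Fin n) (Fin n) K := fun k l => ⟨a⁻¹ * (g : Matrix (Fin n) (Fin n) F) k l, (hKmem _).2 (by
        have hkl := congrFun₂ hc k l
        simp only [Matrix.map_apply, Matrix.smul_apply, smul_eq_mul] at hkl
        rw [map_mul, map_inv₀, hca, hkl]
        field_simp)⟩
      have hA : A.map K.subtype = a⁻¹ • (g : Matrix (Fin n) (Fin n) F) := rfl
      have hdet : A.det ≠ 0 := by
        intro h
        have h1 := RingHom.map_det K.subtype A
        rw [RingHom.mapMatrix_apply, hA, h, map_zero, Matrix.det_smul] at h1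
        exact mul_ne_zero (pow_ne_zero _ (inv_ne_zero hij))
          ((Matrix.isUnit_iff_isUnit_det _).1 g.isUnit).ne_zero h1.symm
      refine ⟨(Units.mk0 a hij, Matrix.GeneralLinearGroup.mkOfDetNeZero A hdet), Units.ext ?_⟩
      rw [hψ]
      show a • A.map K.subtype = _
      rw [hA, smul_smul, mul_inv_cancel₀ hij, one_smul]
  let κ : Kˣ → ψ.ker := fun ν => ⟨(Units.map K.subtype.toMonoidHom ν, (Units.map (Matrix.scalar (Fin n)).toMonoidHom ν)⁻¹), by
    refine MonoidHom.mem_ker.2 (Units.ext ?_)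
    rw [hψ]
    ext k l
    by_cases hkl : k = l
    · subst hkl
      simp
    · simp [Matrix.diagonal, hkl]⟩
  have hκ : Function.Bijective κ := by
    constructor
    · intro a b h
      have h1 := congrArg (fun p : ψ.ker => ((p.1.1 : Fˣ) : F)) h
      exact Units.ext (Subtype.ext h1)
    · rintro ⟨⟨μ, h⟩, hp⟩
      have hp' : ∀ k l, (μ : F) * (((h : Matrix (Fin n) (Fin n) K) k l : K) : F) = (1 : Matrix (Fin n) (Fin n) F) k l := by
        intro k l
        have := congrArg (fun m : GL (Fin n) F => (m : Matrix (Fin n) (Fin n) F) k l) (MonoidHom.mem_ker.1 hp)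
        simpa [hψ] using this
      have hμ := hp' i0 i0
      rw [Matrix.one_apply_eq] at hμ
      have hμK : (μ : F) ∈ K := by
        rw [eq_inv_of_mul_eq_one_left hμ]
        exact K.inv_mem (SetLike.coe_mem _)
      let ν : Kˣ := Units.mk0 ⟨μ, hμK⟩ (fun e => μ.ne_zero (congrArg Subtype.val e))
      refine ⟨ν, Subtype.ext (Prod.ext (Units.ext rfl) (inv_eq_of_mul_eq_one_right (Units.ext ?_)))⟩
      ext k l
      simp only [Units.val_mul, Units.coe_map, RingHom.toMonoidHom_eq_coe, MonoidHom.coe_coe, Matrix.scalar_apply,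
        Matrix.diagonal_mul, Units.val_one]
      rw [Subfield.coe_mul]
      refine (hp' k l).trans ?_
      by_cases hkl : k = l
      · subst hkl; simp
      · simp [hkl]
  have hker : Nat.card ψ.ker = q₀ - 1 := by
    rw [← Nat.card_congr (Equiv.ofBijective κ hκ), Nat.card_units, hKc]
  have hmul := Subgroup.card_mul_index ψ.ker
  rw [Subgroup.index_ker, hker, Nat.card_prod, Nat.card_units, Nat.card_eq_fintype_card (α := F), hF,
    ClassicalSL.card_gl_fin hKc n] at hmul
  rw [← Nat.card_congr (Equiv.subtypeEquivRight hrange)]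
  have hpos : 0 < q₀ - 1 := by
    have := Finite.one_lt_card (α := K)
    omega
  have hdvd : q₀ - 1 ∣ q₀ ^ r - 1 := by simpa using Nat.sub_dvd_pow_sub_pow q₀ 1 r
  obtain ⟨d, hd⟩ := hdvd
  rw [hd, Nat.mul_div_cancel_left _ hpos]
  rw [hd, mul_assoc] at hmul
  exact Nat.eq_of_mul_eq_mul_left hpos hmul

end Cfsg.Agent.S2636

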