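import Cfsg.Statements.S2638
import Mathlib.RingTheory.AdjoinRoot
import Mathlib.LinearAlgebra.Matrix.Charpoly.Minpoly
import Mathlib.LinearAlgebra.Charpoly.Basic
import Mathlib.RingTheory.IntegralDomain
import Mathlib.FieldTheory.Finite.Basic
import Mathlib.LinearAlgebra.Matrix.GeneralLinearGroup.Defs

set_option autoImplicit false
open Cfsg

namespace Cfsg.Agent.S2638

/-- If an element x of GL_n(q), n ≥ 1, has prime order r and the multiplicative order of q modulo r is n (r is a primitive prime divisor of q^n − 1, so x acts irreducibly), then the centraliser of x in GL_n(q) is cyclic of order q^n − 1 (the multiplicative group of the field with q^n elements, a Singer cycle). -/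
theorem result {F : Type*} [Field F] [Fintype F] {p q : ℕ} [Fact p.Prime] [CharP F p] (hF : Fintype.card F = q) {n r : ℕ} (hn : 1 ≤ n) (hr : r.Prime) (hrp : r ≠ p) (hi : orderOf (q : ZMod r) = n) (x : GL (Fin n) F) (hx : orderOf x = r) : IsCyclic ↥(Subgroup.centralizer ({x} : Set (GL (Fin n) F))) ∧ Nat.card ↥(Subgroup.centralizer ({x} : Set (GL (Fin n) F))) = q ^ n - 1 := by
  classical
  subst hF
  set X' := (x : Matrix (Fin n) (Fin n) F) with hX'
  have hrn : x ≠ 1 := fun h => hr.ne_one (by rw [← hx, h, orderOf_one])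
  have hXr : X' ^ r = 1 := by rw [hX', ← Units.val_pow_eq_pow_val, ← hx, pow_orderOf_eq_one]; rfl
  have hint : IsIntegral F X' := Matrix.isIntegral X'
  set μ := minpoly F X' with hμ
  have hμdvd : μ ∣ Polynomial.X ^ r - 1 := minpoly.dvd F X' (by simp [hXr])
  have hμdeg : μ.natDegree ≤ n := by
    have := Polynomial.natDegree_le_of_dvd (Matrix.minpoly_dvd_charpoly X') (Matrix.charpoly_monic X').ne_zero
    rwa [Matrix.charpoly_natDegree_eq_dim, Fintype.card_fin] at this
  have hr0 : ((r : ℕ) : F) ≠ 0 := by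
    rw [Ne, CharP.cast_eq_zero_iff F p, Nat.prime_dvd_prime_iff_eq Fact.out hr]
    exact fun h => hrp h.symm
  have hsep : (Polynomial.X ^ r - 1 : Polynomial F).Separable := by
    have h := Polynomial.separable_X_pow_sub_C (1 : F) hr0 one_ne_zero
    rwa [map_one] at h
  haveI : NeZero n := ⟨by omega⟩
  haveI : Nonempty (Fin n) := ⟨0⟩
  obtain ⟨f, hfi, hfμ, hfX⟩ : ∃ f : Polynomial F, Irreducible f ∧ f ∣ μ ∧ ¬ f ∣ Polynomial.X - 1 := by
    by_contra! hall
    have hX1 : Irreducible (Polynomial.X - 1 : Polynomial F) := by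
      simpa using Polynomial.irreducible_X_sub_C (1 : F)
    have hnu : ¬ IsUnit μ := minpoly.not_isUnit F X'
    have hμle : μ ∣ Polynomial.X - 1 := by
      obtain ⟨g, hg, hgμ⟩ := WfDvdMonoid.exists_irreducible_factor hnu (minpoly.ne_zero hint)
      obtain ⟨a, ha⟩ : Polynomial.X - 1 ∣ μ := (hg.associated_of_dvd hX1 (hall g hg hgμ)).symm.dvd.trans hgμ
      by_cases hu : IsUnit a
      · rw [ha]; exact (IsUnit.mul_right_dvd hu).2 dvd_rfl
      · have ha0 : a ≠ 0 := fun h0 => (minpoly.ne_zero hint) (by rw [← hμ, ha, h0, mul_zero])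
        obtain ⟨g', hg', hga⟩ := WfDvdMonoid.exists_irreducible_factor hu ha0
        have h1 : Polynomial.X - 1 ∣ a :=
          (hg'.associated_of_dvd hX1 (hall g' hg' (hga.trans ⟨_, by rw [mul_comm]; exact ha⟩))).symm.dvd.trans hga
        exact absurd ((hsep.squarefree.squarefree_of_dvd hμdvd) _ (ha ▸ mul_dvd_mul_left _ h1)) hX1.not_isUnit
    have h2 : Polynomial.aeval X' (Polynomial.X - 1 : Polynomial F) = 0 := by
      obtain ⟨c, hc⟩ := hμle
      rw [hc, map_mul, hμ, minpoly.aeval, zero_mul]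
    rw [map_sub, Polynomial.aeval_X, map_one, sub_eq_zero] at h2
    exact hrn (Units.ext h2)
  haveI : Fact (Irreducible f) := ⟨hfi⟩
  let pb := AdjoinRoot.powerBasis (K := F) hfi.ne_zero
  haveI : FiniteDimensional F (AdjoinRoot f) := pb.finite
  haveI : Finite (AdjoinRoot f) := Module.finite_of_finite F
  have hcard : Nat.card (AdjoinRoot f) = Fintype.card F ^ f.natDegree := by
    rw [Module.natCard_eq_pow_finrank (K := F), pb.finrank, Nat.card_eq_fintype_card]; rfl
  have hroot : (AdjoinRoot.root f) ^ r = 1 := by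
    have h : AdjoinRoot.mk f (Polynomial.X ^ r - 1) = 0 := AdjoinRoot.mk_eq_zero.2 (hfμ.trans hμdvd)
    rwa [map_sub, map_pow, AdjoinRoot.mk_X, map_one, sub_eq_zero] at h
  have hroot1 : AdjoinRoot.root f ≠ 1 := fun h => hfX (AdjoinRoot.mk_eq_zero.1 (by
    rw [map_sub, AdjoinRoot.mk_X, map_one, h, sub_self]))
  have hroot0 : AdjoinRoot.root f ≠ 0 := fun h => by rw [h, zero_pow hr.ne_zero] at hroot; exact zero_ne_one hroot
  have hdvd : r ∣ Fintype.card F ^ f.natDegree - 1 := by
    haveI := Fact.mk hr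
    have h1 : orderOf (Units.mk0 _ hroot0) = r := orderOf_eq_prime (Units.ext (by simpa using hroot))
      (fun h => hroot1 (by simpa using congrArg Units.val h))
    rw [← hcard, ← Nat.card_units, ← h1]
    exact orderOf_dvd_natCard _
  have hle : n ≤ f.natDegree := by
    have h1 : ((Fintype.card F : ZMod r)) ^ f.natDegree = 1 := by
      rw [← Nat.cast_pow, ← Nat.cast_one, eq_comm, ZMod.natCast_eq_natCast_iff']
      exact Nat.ModEq.symm ((Nat.modEq_iff_dvd' (Nat.one_le_pow _ _ Fintype.card_pos)).2 hdvd).symm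
    exact hi ▸ Nat.le_of_dvd hfi.natDegree_pos (orderOf_dvd_of_pow_eq_one h1)
  have hfd : f.natDegree = n :=
    le_antisymm ((Polynomial.natDegree_le_of_dvd hfμ (minpoly.ne_zero hint)).trans hμdeg) hle
  have hfX' : Polynomial.aeval X' f = 0 := by
    have hass : Associated f μ := Polynomial.associated_of_dvd_of_natDegree_le hfμ (minpoly.ne_zero hint)
      (hμdeg.trans hle)
    obtain ⟨u, hu⟩ := hass.symm
    rw [← hu, map_mul, hμ, minpoly.aeval, zero_mul]
  let φ : AdjoinRoot f →+* Matrix (Fin n) (Fin n) F :=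
    Ideal.Quotient.lift (Ideal.span {f}) (Polynomial.aeval X').toRingHom fun g hg => by
      obtain ⟨c, rfl⟩ := Ideal.mem_span_singleton.1 hg
      simp [hfX']
  have hφmk : ∀ g, φ (AdjoinRoot.mk f g) = Polynomial.aeval X' g := fun g => rfl
  let v : Fin n → F := Pi.single 0 1
  let ev : AdjoinRoot f →ₗ[F] (Fin n → F) :=
    { toFun := fun z => (φ z).mulVec v
      map_add' := fun a b => by rw [map_add, Matrix.add_mulVec]
      map_smul' := fun c a => by
        obtain ⟨g, rfl⟩ := AdjoinRoot.mk_surjective a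
        rw [RingHom.id_apply, show c • AdjoinRoot.mk f g = AdjoinRoot.mk f (c • g) by
          rw [Algebra.smul_def, Algebra.smul_def, map_mul]; rfl, hφmk, hφmk, map_smul, Matrix.smul_mulVec] }
  have hevinj : Function.Injective ev := by
    rw [← LinearMap.ker_eq_bot, LinearMap.ker_eq_bot']
    intro z hz
    by_contra hz0
    have h1 : (φ z⁻¹).mulVec ((φ z).mulVec v) = v := by
      rw [Matrix.mulVec_mulVec, ← map_mul, inv_mul_cancel₀ hz0, map_one, Matrix.one_mulVec]
    rw [show (φ z).mulVec v = 0 from hz, Matrix.mulVec_zero] at h1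
    simpa [v] using congrFun h1.symm 0
  have hevsurj : Function.Surjective ev := (LinearMap.injective_iff_surjective_of_finrank_eq_finrank
    (by rw [pb.finrank, Module.finrank_fintype_fun_eq_card, Fintype.card_fin]; exact hfd)).1 hevinj
  let Φ : (AdjoinRoot f)ˣ →* GL (Fin n) F := Units.map φ.toMonoidHom
  have hΦ : Function.Injective Φ := fun a b hab => Units.ext (φ.injective (congrArg Units.val hab))
  have hrange : Φ.range = Subgroup.centralizer ({x} : Set (GL (Fin n) F)) := by
    refine le_antisymm ?_ fun g hg => ?_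
    · rintro _ ⟨u, rfl⟩
      rw [Subgroup.mem_centralizer_singleton_iff]
      refine Units.ext ?_
      show φ u.1 * X' = X' * φ u.1
      rw [show X' = φ (AdjoinRoot.root f) from (Polynomial.aeval_X (R := F) X').symm, ← map_mul, ← map_mul, mul_comm]
    · have hgX : (g : Matrix (Fin n) (Fin n) F) * X' = X' * g :=
        congrArg Units.val (Subgroup.mem_centralizer_singleton_iff.1 hg)
      have hgc : ∀ z, (g : Matrix (Fin n) (Fin n) F) * φ z = φ z * g := fun z => by
        obtain ⟨h, rfl⟩ := AdjoinRoot.mk_surjective z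
        rw [hφmk]
        exact (Algebra.commute_of_mem_adjoin_singleton_of_commute (Polynomial.aeval_mem_adjoin_singleton F X')
          (show Commute (g : Matrix (Fin n) (Fin n) F) X' from hgX)).eq
      obtain ⟨y, hy⟩ := hevsurj ((g : Matrix (Fin n) (Fin n) F).mulVec v)
      have hgy : (g : Matrix (Fin n) (Fin n) F) = φ y := by
        refine Matrix.ext_of_mulVec_single fun i => ?_
        obtain ⟨z, hz⟩ := hevsurj (Pi.single i 1)
        rw [← hz]
        show (g : Matrix (Fin n) (Fin n) F).mulVec ((φ z).mulVec v) = (φ y).mulVec ((φ z).mulVec v)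
        rw [Matrix.mulVec_mulVec, hgc, ← Matrix.mulVec_mulVec, show (g : Matrix (Fin n) (Fin n) F).mulVec v
          = (φ y).mulVec v from hy.symm, Matrix.mulVec_mulVec, Matrix.mulVec_mulVec, ← map_mul, ← map_mul, mul_comm]
      have hy0 : y ≠ 0 := fun h => by
        rw [h, map_zero] at hgy
        exact g.ne_zero hgy
      exact ⟨Units.mk0 y hy0, Units.ext hgy.symm⟩
  haveI : IsCyclic (AdjoinRoot f)ˣ := inferInstance
  have e : (AdjoinRoot f)ˣ ≃* ↥(Subgroup.centralizer ({x} : Set (GL (Fin n) F))) :=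
    (MonoidHom.ofInjective hΦ).trans (MulEquiv.subgroupCongr hrange)
  refine ⟨e.isCyclic.1 inferInstance, ?_⟩
  rw [← Nat.card_congr e.toEquiv, Nat.card_units, hcard, hfd]

end Cfsg.Agent.S2638

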