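import Cfsg.Statements.S2640
import Cfsg.Agent.Lib.LinearBlock.RestrictScalars

set_option autoImplicit false
open Cfsg

namespace Cfsg.Agent.S2640

/-- For m even, the unitary group GU_m(q) (over the field with q² elements) embeds in the orthogonal group O⁺_2m(q) of the hyperbolic form Σ x_i y_i over the field with q elements (there is an injective homomorphism). -/
theorem result {K F : Type*} [Field K] [Fintype K] [Field F] [Fintype F] {q : ℕ} (hK : Fintype.card K = q ^ 2) (hF : Fintype.card F = q) (m : ℕ) (hm : Even m) : ∃ φ : ↥(Cfsg.GU m K q) →* ↥(Cfsg.isometryGroup F (Cfsg.quadFormPlus m F)), Function.Injective φ := by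
  obtain ⟨ι, hι, hfix, hadd, hinv, t, ht⟩ := LBRestrict.exists_incl hK hF
  letI := ι.toAlgebra
  obtain ⟨l, rfl⟩ : ∃ l, m = l * 2 := ⟨m / 2, by obtain ⟨k, rfl⟩ := hm; omega⟩
  rcases Nat.eq_zero_or_pos l with rfl | hl
  · haveI : Subsingleton (GL (Fin (0 * 2)) K) := by
      rw [Nat.zero_mul]; infer_instance
    exact ⟨1, Function.injective_of_subsingleton _⟩
  exact LBRestrict.gu_plus hK hF l hl hι hfix hadd hinv ht (LBRestrict.finrank_K hK hF ι _)
    ((LBRestrict.finrank_K hK hF ι l).trans (mul_comm _ _))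

end Cfsg.Agent.S2640

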