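import Cfsg.Statements.S2642
import Cfsg.Agent.Lib.LinearBlock.UnipotentPrime
import Cfsg.Agent.Lib.LinearBlock.GUConj
import Cfsg.Agent.S2588

set_option autoImplicit false
open Cfsg

namespace Cfsg.Agent.S2642

/-- Number of conjugacy classes of elements of order p in the general unitary group GU_n(q), q a power of p: every unipotent Jordan type occurs and the classes correspond to the partitions of n with all parts at most p other than the all-ones partition, exactly as in GL_n; so there are (number of partitions of n with parts ≤ p) − 1 classes. -/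
theorem result {K : Type*} [Field K] [Fintype K] {p q n : ℕ} [Fact p.Prime] [CharP K p] (hK : Fintype.card K = q ^ 2) : Nat.card {C : ConjClasses ↥(Cfsg.GU n K q) // ∃ g : ↥(Cfsg.GU n K q), ConjClasses.mk g = C ∧ orderOf g = p} = (Finset.univ.filter (fun μ : Nat.Partition n => ∀ a ∈ μ.parts, a ≤ p)).card - 1 := by
  classical
  rw [← Cfsg.Agent.LBUnipPrime.card_order_p (F := K) (p := p) n]
  have hq0 : q ≠ 0 := fun e => by rw [e] at hK; simp at hK
  refine Nat.card_eq_of_bijective (fun C => ⟨ConjClasses.map (Cfsg.GU n K q).subtype C.1, by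
    obtain ⟨g, hg, ho⟩ := C.2
    exact ⟨(g : GL (Fin n) K), by rw [← hg]; rfl, by rw [Subgroup.orderOf_coe, ho]⟩⟩) ⟨?_, ?_⟩
  · rintro ⟨C, hC⟩ ⟨D, hD⟩ h
    obtain ⟨g, rfl⟩ := ConjClasses.mk_surjective C
    obtain ⟨k, rfl⟩ := ConjClasses.mk_surjective D
    refine Subtype.ext (ConjClasses.mk_eq_mk_iff_isConj.2 (Cfsg.Agent.LBGUConj.isConj_of_gl hK g k ?_))
    exact ConjClasses.mk_eq_mk_iff_isConj.1 (congrArg Subtype.val h)
  · rintro ⟨C, A, rfl, hA⟩
    have hAp : A ^ p = 1 := by rw [← hA, pow_orderOf_eq_one]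
    obtain ⟨σ, hσ, -, hinv, -, -⟩ := Cfsg.Agent.HermStd.exists_sigma hK
    obtain ⟨T, hT⟩ : ∃ T : Matrix (Fin n) (Fin n) K, T = (A.1.map σ).transpose := ⟨_, rfl⟩
    have hTd : T.det ≠ 0 := by
      rw [hT, Matrix.det_transpose, ← RingHom.mapMatrix_apply, ← RingHom.map_det]
      exact fun e => ((Matrix.isUnit_iff_isUnit_det _).1 A.isUnit).ne_zero (σ.injective (e.trans (map_zero σ).symm))
    obtain ⟨U, hU⟩ : ∃ U, U = Matrix.GeneralLinearGroup.mkOfDetNeZero T hTd := ⟨_, rfl⟩
    have hUv : U.1 = T := by rw [hU]; rfl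
    have hUp : U ^ p = 1 := by
      refine Units.ext ?_
      rw [Units.val_pow_eq_pow_val, hUv, hT, ← Matrix.transpose_pow, ← RingHom.mapMatrix_apply, ← map_pow,
        ← Units.val_pow_eq_pow_val, hAp, Units.val_one, map_one, Matrix.transpose_one]
    have hconj : IsConj A U⁻¹ := by
      refine Cfsg.Agent.LBUnipPrime.isConj_of_finrank hAp (by rw [inv_pow, hUp, inv_one]) fun j => ?_
      obtain ⟨N, hN⟩ : ∃ N, N = (A.1 - 1) ^ j := ⟨_, rfl⟩
      have hker : ∀ M : Matrix (Fin n) (Fin n) K,
          Module.finrank K (LinearMap.ker ((Matrix.toLinAlgEquiv' M : Module.End K (Fin n → K)) ^ j)) = n - (M ^ j).rank := by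
        intro M
        rw [← map_pow]
        have h1 := LinearMap.finrank_range_add_finrank_ker (Matrix.toLinAlgEquiv' (M ^ j) : Module.End K (Fin n → K))
        rw [Module.finrank_fin_fun] at h1
        have h2 : (M ^ j).rank = Module.finrank K (LinearMap.range (Matrix.toLinAlgEquiv' (M ^ j) : Module.End K (Fin n → K))) := rfl
        omega
      rw [hker, hker, ← hN]
      congr 1
      have e1 : (U⁻¹).1 - 1 = (U⁻¹).1 * -(T - 1) := by rw [neg_sub, mul_sub, mul_one, ← hUv, Units.inv_mul]
      have hc : Commute (U⁻¹).1 (-(T - 1)) := by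
        rw [← hUv]
        exact ((Commute.refl U).inv_left.map (Units.coeHom _) |>.sub_right (Commute.one_right _)).neg_right
      have e2 : (T - 1) ^ j = (N.map σ).transpose := by
        rw [hN, ← RingHom.mapMatrix_apply, map_pow, map_sub, map_one, RingHom.mapMatrix_apply, Matrix.transpose_pow,
          Matrix.transpose_sub, Matrix.transpose_one, hT]
      rw [e1, hc.mul_pow, Matrix.rank_mul_eq_right_of_isUnit_det _ _
        ((Matrix.isUnit_iff_isUnit_det _).1 ((U⁻¹).isUnit.pow j)), neg_pow (T - 1) j, Matrix.rank_mul_eq_right_of_isUnit_det _ _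
        ((Matrix.isUnit_iff_isUnit_det _).1 (IsUnit.pow j (isUnit_one (M := Matrix (Fin n) (Fin n) K)).neg)), e2, Matrix.rank_transpose]
      have hr : ∀ M : Matrix (Fin n) (Fin n) K, M.rank + Module.finrank K (LinearMap.ker M.mulVecLin) = n := by
        intro M
        have := LinearMap.finrank_range_add_finrank_ker M.mulVecLin
        rwa [Module.finrank_fin_fun] at this
      have hk : Nat.card (LinearMap.ker N.mulVecLin) = Nat.card (LinearMap.ker (N.map σ).mulVecLin) := by
        have hm : ∀ v : Fin n → K, (N.map σ).mulVec (σ ∘ v) = σ ∘ N.mulVec v := fun v =>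
          (funext fun a => RingHom.map_mulVec σ N v a).symm
        refine Nat.card_congr
          { toFun := fun v => ⟨σ ∘ v.1, ?_⟩
            invFun := fun v => ⟨σ ∘ v.1, ?_⟩
            left_inv := fun v => Subtype.ext (funext fun a => hinv _)
            right_inv := fun v => Subtype.ext (funext fun a => hinv _) }
        · have h0 : N.mulVec v.1 = 0 := v.2
          show (N.map σ).mulVec (σ ∘ v.1) = 0
          rw [hm, h0]; funext a; simp
        · have h0 : (N.map σ).mulVec v.1 = 0 := v.2
          show N.mulVec (σ ∘ v.1) = 0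
          have h1 := hm (σ ∘ v.1)
          rw [show σ ∘ σ ∘ v.1 = v.1 from funext fun a => hinv _, h0] at h1
          funext a
          exact σ.injective (((congrFun h1 a).symm).trans (map_zero σ).symm)
      rw [Module.natCard_eq_pow_finrank (K := K) (V := LinearMap.ker N.mulVecLin),
        Module.natCard_eq_pow_finrank (K := K) (V := LinearMap.ker (N.map σ).mulVecLin)] at hk
      have := Nat.pow_right_injective (Finite.one_lt_card (α := K)) hk
      have := hr N
      have := hr (N.map σ)
      omega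
    obtain ⟨B, hB⟩ := (Cfsg.Agent.S2588.result hK A).2 (by
      have := (Units.coeHom (Matrix (Fin n) (Fin n) K)).map_isConj hconj
      have e : ((A : Matrix (Fin n) (Fin n) K).map (fun x : K => x ^ q)) = A.1.map σ := by
        ext a b; exact (hσ _).symm
      rw [e, ← hT, ← hUv, ← Matrix.coe_units_inv]
      exact this)
    have e : ConjClasses.mk (B : GL (Fin n) K) = ConjClasses.mk A := ConjClasses.mk_eq_mk_iff_isConj.2 hB.symm
    refine ⟨⟨ConjClasses.mk B, B, rfl, ?_⟩, Subtype.ext e⟩
    obtain ⟨c, hc⟩ := isConj_iff.1 hB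
    rw [← Subgroup.orderOf_coe, ← hA, ← hc, SemiconjBy.orderOf_eq c (show SemiconjBy c A (c * A * c⁻¹) by simp [SemiconjBy, mul_assoc])]

end Cfsg.Agent.S2642

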