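import Cfsg.Statements.S2643
import Cfsg.Agent.Lib.LinearBlock.RegUnipForm
import Cfsg.Agent.Lib.LinearBlock.UnitarySimilar
import Cfsg.Agent.Lib.LinearBlock.GUConj
import Cfsg.Agent.Lib.Generation.RegularUnipotent

set_option autoImplicit false
open Cfsg

namespace Cfsg.Agent.S2643

/-- Regular unipotent classes of SU_n(q), n ≥ 2: the elements u of the special unitary group (isometries of Σ u_i v_i^q of determinant one over the field with q² elements) with (u − 1)^n = 0 and rank(u − 1) = n − 1 form exactly gcd(n, q + 1) conjugacy classes of SU_n(q). -/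
theorem result {K : Type*} [Field K] [Fintype K] {q n : ℕ} (hK : Fintype.card K = q ^ 2) (hn : 2 ≤ n) : Nat.card {C : ConjClasses ↥(Cfsg.SU n K q) // ∃ u : ↥(Cfsg.SU n K q), ConjClasses.mk u = C ∧ (((u : GL (Fin n) K) : Matrix (Fin n) (Fin n) K) - 1) ^ n = 0 ∧ (((u : GL (Fin n) K) : Matrix (Fin n) (Fin n) K) - 1).rank = n - 1} = Nat.gcd n (q + 1) := by
  classical
  obtain ⟨σ, hσ, hne, hinv, -, hq2⟩ := HermStd.exists_sigma hK
  let st : Matrix (Fin n) (Fin n) K → Matrix (Fin n) (Fin n) K := LBUnitary.star' σ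
  have hmemGU : ∀ B : GL (Fin n) K, B ∈ Cfsg.GU n K q ↔ st B.1 * B.1 = 1 := fun B => LBUnitary.mem_GU hσ hinv B
  -- the regular nilpotent
  obtain ⟨N, hN⟩ : ∃ N, N = RegUnipotentGen.upperN n K := ⟨_, rfl⟩
  have hNnil : N ^ n = 0 := by
    refine Matrix.ext_of_mulVec_single fun i => funext fun j => ?_
    rw [hN, RegUnipotentGen.upperN_pow, dif_neg (by omega), Matrix.zero_mulVec]; rfl
  have hNr : N.rank = n - 1 := by
    have hk : LinearMap.ker N.mulVecLin = Submodule.span K {Pi.single (⟨0, by omega⟩ : Fin n) (1 : K)} := by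
      refine le_antisymm (fun x hx => ?_) ((Submodule.span_singleton_le_iff_mem _ _).2 ?_)
      · refine Submodule.mem_span_singleton.2 ⟨x ⟨0, by omega⟩, funext fun i => ?_⟩
        rcases Nat.eq_zero_or_pos (i : ℕ) with h | h
        · rw [show i = ⟨0, by omega⟩ from Fin.ext h]; simp
        · have h1 := congrFun (LinearMap.mem_ker.1 hx) ⟨(i : ℕ) - 1, by omega⟩
          rw [Matrix.mulVecLin_apply, hN, RegUnipotentGen.upperN_mulVec, dif_pos (by simp only []; omega)] at h1
          rw [Pi.smul_apply, Pi.single_eq_of_ne (fun e => by rw [e] at h; exact lt_irrefl 0 h), smul_zero,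
            show i = ⟨(i : ℕ) - 1 + 1, by omega⟩ from Fin.ext (by simp only []; omega)]
          exact h1.symm
      · rw [LinearMap.mem_ker, Matrix.mulVecLin_apply]
        funext i
        rw [hN, RegUnipotentGen.upperN_mulVec]
        split
        · exact Pi.single_eq_of_ne (fun e => by simp [Fin.ext_iff] at e) _
        · rfl
    have h := N.mulVecLin.finrank_range_add_finrank_ker
    rw [hk, finrank_span_singleton (fun e => one_ne_zero (α := K) (by simpa using congrFun e ⟨0, by omega⟩)),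
      Module.finrank_fintype_fun_eq_card, Fintype.card_fin] at h
    show Module.finrank K (LinearMap.range N.mulVecLin) = n - 1
    omega
  obtain ⟨A, hAd⟩ : ∃ A, A = (RegUnipotentGen.regU n K).1 := ⟨_, rfl⟩
  have hAN : A = 1 + N := by rw [hAd, hN]; rfl
  have hA1 : A.det = 1 := hAd ▸ (RegUnipotentGen.regU n K).2
  -- a unitary regular unipotent
  have hstN : IsNilpotent (st N) := Matrix.isNilpotent_transpose_iff.2 (IsNilpotent.map (⟨n, hNnil⟩ : IsNilpotent N) σ.mapMatrix)
  obtain ⟨u, hu⟩ : IsUnit (1 + st N) := hstN.isUnit_one_add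
  obtain ⟨B, hB⟩ : ∃ B, B = ((u⁻¹ : (Matrix (Fin n) (Fin n) K)ˣ) : Matrix (Fin n) (Fin n) K) := ⟨_, rfl⟩
  have hBm : B * (1 + st N) = 1 := by rw [hB, ← hu, Units.inv_mul]
  have hBu : IsUnit B := hB ▸ Units.isUnit _
  have hcB : Commute B (st N) := by
    rw [hB]
    exact (hu ▸ ((Commute.one_left _).add_left (Commute.refl _)) : Commute (u : Matrix (Fin n) (Fin n) K) (st N)).units_inv_left
  have hstmap : st N = N.transpose := by
    ext i j
    show σ (N j i) = N j i
    rw [hN]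
    simp only [RegUnipotentGen.upperN, Matrix.of_apply]
    split <;> simp
  have hB1 : B - 1 = B * -(st N) := by
    rw [mul_add, mul_one] at hBm
    rw [mul_neg, eq_neg_iff_add_eq_zero, sub_add_eq_add_sub, hBm, sub_self]
  obtain ⟨P, hPu, hP⟩ := LBRegForm.exists_intertwine (Fintype.card_fin n) hNnil hNr (by omega) (η' := B - 1)
    (by rw [hB1, hcB.neg_right.mul_pow, neg_pow, hstmap, ← Matrix.transpose_pow, hNnil, Matrix.transpose_zero,
      mul_zero, mul_zero])
    (by rw [hB1, mul_neg, ← neg_mul, Matrix.rank_mul_eq_right_of_isUnit_det _ _ ((Matrix.isUnit_iff_isUnit_det _).1 hBu.neg),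
      hstmap, Matrix.rank_transpose, hNr])
  have hPA : st A * P * A = P := by
    have e : P * A = B * P := by
      rw [hAN, mul_add, mul_one, hP, sub_mul, one_mul, add_sub_cancel]
    show LBUnitary.star' σ A * P * A = P
    rw [mul_assoc, e, ← mul_assoc, hAN, LBUnitary.star_add', LBUnitary.star_one',
      mul_eq_one_comm.1 hBm, one_mul]
  obtain ⟨H, hHd, hHs, hHA⟩ := LBUnitary.exists_hermitian hne hinv (A := A) (P := P) (by rw [hA1]; exact one_ne_zero)
    ((Matrix.isUnit_iff_isUnit_det _).1 hPu).ne_zero hPA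
  obtain ⟨C, hC⟩ := LBUnitary.exists_sqrt hne hinv hHd hHs
  let A' : GL (Fin n) K := Matrix.SpecialLinearGroup.toGL (RegUnipotentGen.regU n K)
  obtain ⟨u₀, hu₀⟩ : ∃ u₀ : GL (Fin n) K, u₀ = C * A' * C⁻¹ := ⟨_, rfl⟩
  have hu₀G : u₀ ∈ Cfsg.GU n K q := by
    rw [hmemGU, hu₀, Units.val_mul, Units.val_mul, show A'.1 = A from hAd.symm]
    show LBUnitary.star' σ _ * _ = 1
    rw [LBUnitary.star_mul', LBUnitary.star_mul']
    calc LBUnitary.star' σ (C⁻¹ : GL (Fin n) K).1 * (LBUnitary.star' σ A * LBUnitary.star' σ C.1) * (C.1 * A * (C⁻¹ : GL (Fin n) K).1)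
        = LBUnitary.star' σ (C⁻¹ : GL (Fin n) K).1 * (LBUnitary.star' σ A * (LBUnitary.star' σ C.1 * C.1) * A) * (C⁻¹ : GL (Fin n) K).1 := by
          simp only [mul_assoc]
      _ = LBUnitary.star' σ (C⁻¹ : GL (Fin n) K).1 * LBUnitary.star' σ C.1 * (C.1 * (C⁻¹ : GL (Fin n) K).1) := by
          rw [hC, hHA]; conv_lhs => rw [← hC]
          simp only [mul_assoc]
      _ = 1 := by rw [← LBUnitary.star_mul', Units.mul_inv, LBUnitary.star_one', one_mul]
  have hu₀m : u₀.1 - 1 = C.1 * N * (C⁻¹ : GL (Fin n) K).1 := by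
    rw [hu₀, Units.val_mul, Units.val_mul, show A'.1 = A from hAd.symm, hAN, mul_add, add_mul, mul_one,
      Units.mul_inv, add_sub_cancel_left]
  have hdetu : ∀ M : Matrix (Fin n) (Fin n) K, IsUnit M → IsUnit M.det := fun M h => (Matrix.isUnit_iff_isUnit_det _).1 h
  have hu₀n : (u₀.1 - 1) ^ n = 0 := by rw [hu₀m, Units.conj_pow, hNnil, mul_zero, zero_mul]
  have hu₀r : (u₀.1 - 1).rank = n - 1 := by
    rw [hu₀m, Matrix.rank_mul_eq_left_of_isUnit_det _ _ (hdetu _ (Units.isUnit _)),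
      Matrix.rank_mul_eq_right_of_isUnit_det _ _ (hdetu _ (Units.isUnit _)), hNr]
  let w₀ : ↥(Cfsg.GU n K q) := ⟨u₀, hu₀G⟩
  -- the norm one group
  let U : Subgroup Kˣ := (powMonoidHom (q + 1)).ker
  have hU : ∀ {c : Kˣ}, c ∈ U ↔ σ c * c = 1 := fun {c} => by
    rw [MonoidHom.mem_ker, powMonoidHom_apply, Units.ext_iff, Units.val_pow_eq_pow_val, pow_succ, hσ,
      Units.val_one]
  have hdetGU : ∀ g : ↥(Cfsg.GU n K q), Matrix.GeneralLinearGroup.det g.1 ∈ U := fun g => hU.2 (by
    have := congrArg Matrix.det ((hmemGU g.1).1 g.2)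
    rwa [Matrix.det_mul, LBUnitary.det_star', Matrix.det_one] at this)
  let D₀ : U → GL (Fin n) K := fun d => Matrix.GeneralLinearGroup.mkOfDetNeZero
    (Matrix.diagonal (Function.update (fun _ => (1 : K)) ⟨0, by omega⟩ (d.1 : K)))
    (by rw [Matrix.det_diagonal, Finset.prod_update_of_mem (Finset.mem_univ _)]; simp)
  let D : U → ↥(Cfsg.GU n K q) := fun d => ⟨D₀ d, (hmemGU _).2 (by
    show LBUnitary.star' σ (Matrix.diagonal _) * Matrix.diagonal _ = 1
    rw [LBUnitary.star', Matrix.diagonal_map (map_zero σ), Matrix.diagonal_transpose, Matrix.diagonal_mul_diagonal,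
      ← Matrix.diagonal_one]
    congr 1
    funext i
    rcases eq_or_ne i ⟨0, by omega⟩ with rfl | hi
    · simpa using hU.1 d.2
    · simp [hi])⟩
  have hD : ∀ d, ((D d).1 : Matrix (Fin n) (Fin n) K).det = d.1 := fun d => by
    show (Matrix.diagonal _).det = _
    rw [Matrix.det_diagonal, Finset.prod_update_of_mem (Finset.mem_univ _)]; simp
  have hmemSU : ∀ s : Matrix.SpecialLinearGroup (Fin n) K, s ∈ Cfsg.SU n K q ↔ Matrix.SpecialLinearGroup.toGL s ∈ Cfsg.GU n K q :=
    fun s => Iff.rfl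
  let j : ↥(Cfsg.SU n K q) →* ↥(Cfsg.GU n K q) :=
    { toFun := fun s => ⟨Matrix.SpecialLinearGroup.toGL s.1, (hmemSU _).1 s.2⟩
      map_one' := Subtype.ext (map_one Matrix.SpecialLinearGroup.toGL)
      map_mul' := fun a b => Subtype.ext (map_mul Matrix.SpecialLinearGroup.toGL a.1 b.1) }
  have hjinj : Function.Injective j := fun a b h =>
    Subtype.ext (Matrix.SpecialLinearGroup.toGL_injective (congrArg Subtype.val h))
  have hlift : ∀ g : ↥(Cfsg.GU n K q), (g.1 : Matrix (Fin n) (Fin n) K).det = 1 → ∃ s, j s = g := fun g h =>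
    ⟨⟨⟨g.1.1, h⟩, (hmemSU _).2 (by
      rw [show Matrix.SpecialLinearGroup.toGL (⟨g.1.1, h⟩ : Matrix.SpecialLinearGroup (Fin n) K) = g.1 from Units.ext rfl]
      exact g.2)⟩, Subtype.ext (Units.ext rfl)⟩
  have hdetw : (w₀.1 : Matrix (Fin n) (Fin n) K).det = 1 := by
    show u₀.1.det = 1
    rw [hu₀, Units.val_mul, Units.val_mul, Matrix.det_units_conj, show A'.1 = A from hAd.symm, hA1]
  have hex : ∀ d : U, ∃ s, j s = D d * w₀ * (D d)⁻¹ := fun d => hlift _ (by
    show ((D d).1.1 * w₀.1.1 * ((D d).1⁻¹ : GL (Fin n) K).1).det = 1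
    rw [Matrix.det_units_conj]
    exact hdetw)
  choose W hW using hex
  let P' : ↥(Cfsg.SU n K q) → Prop := fun u =>
    (((u : GL (Fin n) K) : Matrix (Fin n) (Fin n) K) - 1) ^ n = 0 ∧
      (((u : GL (Fin n) K) : Matrix (Fin n) (Fin n) K) - 1).rank = n - 1
  have hPW : ∀ d, P' (W d) := fun d => by
    have e : ((j (W d)).1 : Matrix (Fin n) (Fin n) K) - 1 = (D d).1.1 * (u₀.1 - 1) * ((D d).1⁻¹ : GL (Fin n) K).1 := by
      rw [hW, mul_sub, sub_mul, mul_one, Units.mul_inv]; rfl
    show (((j (W d)).1 : Matrix (Fin n) (Fin n) K) - 1) ^ n = 0 ∧ (((j (W d)).1 : Matrix (Fin n) (Fin n) K) - 1).rank = n - 1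
    rw [e]
    refine ⟨by rw [Units.conj_pow, hu₀n, mul_zero, zero_mul], ?_⟩
    rw [Matrix.rank_mul_eq_left_of_isUnit_det _ _ (hdetu _ (Units.isUnit _)),
      Matrix.rank_mul_eq_right_of_isUnit_det _ _ (hdetu _ (Units.isUnit _)), hu₀r]
  let f : U → {C : ConjClasses ↥(Cfsg.SU n K q) // ∃ u, ConjClasses.mk u = C ∧
      (((u : GL (Fin n) K) : Matrix (Fin n) (Fin n) K) - 1) ^ n = 0 ∧
      (((u : GL (Fin n) K) : Matrix (Fin n) (Fin n) K) - 1).rank = n - 1} :=
    fun d => ⟨ConjClasses.mk (W d), W d, rfl, hPW d⟩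
  have hfeq : ∀ a b, f a = f b ↔ a⁻¹ * b ∈ (powMonoidHom n : U →* U).range := fun a b => by
    simp only [f, Subtype.mk.injEq, ConjClasses.mk_eq_mk_iff_isConj, isConj_iff]
    constructor
    · rintro ⟨s, hs⟩
      have h1 := congrArg j hs
      rw [map_mul, map_mul, map_inv, hW, hW] at h1
      obtain ⟨z, hz⟩ : ∃ z, z = (D b)⁻¹ * j s * D a := ⟨_, rfl⟩
      have hzc : z * w₀ = w₀ * z := by
        rw [hz]
        calc (D b)⁻¹ * j s * D a * w₀ = (D b)⁻¹ * (j s * (D a * w₀ * (D a)⁻¹) * (j s)⁻¹) * j s * D a := by group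
          _ = w₀ * ((D b)⁻¹ * j s * D a) := by rw [h1]; group
      have hzm : Commute (z.1 : Matrix (Fin n) (Fin n) K) (u₀.1 - 1) :=
        (show Commute (z.1 : Matrix (Fin n) (Fin n) K) u₀.1 from
          congrArg Units.val (congrArg Subtype.val hzc)).sub_right (Commute.one_right _)
      obtain ⟨c, hc⟩ := LBRegForm.exists_scalar (Fintype.card_fin n) hu₀n hu₀r (by omega) hzm
      have hzu : LBUnitary.star' σ z.1.1 * z.1.1 = 1 := (hmemGU _).1 z.2
      haveI : Nonempty (Fin n) := ⟨⟨0, by omega⟩⟩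
      have hc0 : c ≠ 0 := fun h0 => by
        rw [h0, zero_smul, sub_zero] at hc
        exact absurd z.1.isUnit hc.not_isUnit
      have hsn : IsNilpotent (LBUnitary.star' σ z.1.1 - σ c • 1) := by
        have h := Matrix.isNilpotent_transpose_iff.2 (hc.map σ.mapMatrix)
        rw [map_sub, Matrix.transpose_sub] at h
        convert h using 1
        show _ = LBUnitary.star' σ z.1.1 - LBUnitary.star' σ (c • (1 : Matrix (Fin n) (Fin n) K))
        rw [LBUnitary.star_smul', LBUnitary.star_one']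
      have hcn : σ c * c = 1 := by
        have hcm : Commute (LBUnitary.star' σ z.1.1) z.1.1 := hzu.trans (mul_eq_one_comm.1 hzu).symm
        have hk : IsNilpotent (((LBUnitary.star' σ z.1.1 - σ c • 1) * z.1.1) + σ c • (z.1.1 - c • 1)) := by
          refine Commute.isNilpotent_add ?_ ((hcm.sub_left ((Commute.one_left _).smul_left _)).isNilpotent_mul_right hsn) (hc.smul _)
          exact (((hcm.sub_right ((Commute.one_right _).smul_right _)).sub_left
            ((Commute.one_left _).smul_left _)).mul_left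
            ((Commute.refl z.1.1).sub_right ((Commute.one_right _).smul_right _))).smul_right _
        rw [sub_mul, hzu, smul_mul_assoc, one_mul, smul_sub, smul_smul,
          show (1 : Matrix (Fin n) (Fin n) K) - σ c • z.1.1 + (σ c • z.1.1 - (σ c * c) • 1)
            = (1 - σ c * c) • (1 : Matrix (Fin n) (Fin n) K) by rw [sub_smul, one_smul]; abel] at hk
        obtain ⟨k, hk⟩ := hk
        rw [smul_pow, one_pow] at hk
        have h00 := congrFun (congrFun hk ⟨0, by omega⟩) ⟨0, by omega⟩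
        simp only [Matrix.smul_apply, Matrix.one_apply_eq, smul_eq_mul, mul_one, Matrix.zero_apply] at h00
        exact (sub_eq_zero.1 (eq_zero_of_pow_eq_zero h00)).symm
      have hd := LBRegForm.det_of_scalar (Fintype.card_fin n) hc0 hc
      refine ⟨⟨(Units.mk0 c hc0)⁻¹, inv_mem (hU.2 hcn)⟩, Subtype.ext (Units.ext ?_)⟩
      have hz' : z.1 = (D b).1⁻¹ * (j s).1 * (D a).1 := by rw [hz]; rfl
      rw [hz', Units.val_mul, Units.val_mul, Matrix.det_mul, Matrix.det_mul, Matrix.coe_units_inv,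
        Matrix.det_nonsing_inv, hD, hD, Ring.inverse_eq_inv',
        show ((j s).1 : Matrix (Fin n) (Fin n) K).det = 1 from s.1.2, mul_one] at hd
      rw [powMonoidHom_apply]
      show (((Units.mk0 c hc0)⁻¹ ^ n : Kˣ) : K) = ((a.1⁻¹ * b.1 : Kˣ) : K)
      rw [Units.val_pow_eq_pow_val, Units.val_mul, Units.val_inv_eq_inv_val, Units.val_mk0,
        inv_pow, ← hd, Units.val_inv_eq_inv_val]
      field_simp
    · rintro ⟨c, hc⟩
      rw [powMonoidHom_apply] at hc
      let Z₀ : GL (Fin n) K := Units.map (Matrix.scalar (Fin n)).toMonoidHom (c⁻¹ : U).1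
      have hZ₀ : ∀ g, Z₀ * g = g * Z₀ := fun g => Units.ext
        ((Matrix.scalar_commute (((c⁻¹ : U).1 : Kˣ) : K) (fun r => Commute.all _ r) _).eq)
      let Z : ↥(Cfsg.GU n K q) := ⟨Z₀, (hmemGU _).2 (by
        show LBUnitary.star' σ (Matrix.diagonal _) * Matrix.diagonal _ = 1
        rw [LBUnitary.star', Matrix.diagonal_map (map_zero σ), Matrix.diagonal_transpose,
          Matrix.diagonal_mul_diagonal, ← Matrix.diagonal_one]
        congr 1
        funext i
        exact hU.1 (c⁻¹ : U).2)⟩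
      have hZ : ∀ g, Z * g = g * Z := fun g => Subtype.ext (hZ₀ g.1)
      have hdet : ((D b * Z * (D a)⁻¹).1 : Matrix (Fin n) (Fin n) K).det = 1 := by
        show ((D b).1 * Z₀ * (D a).1⁻¹ : GL (Fin n) K).1.det = 1
        rw [Units.val_mul, Units.val_mul, Matrix.det_mul, Matrix.det_mul, hD, Matrix.coe_units_inv,
          Matrix.det_nonsing_inv, hD, Ring.inverse_eq_inv']
        have hzd : (Z₀ : Matrix (Fin n) (Fin n) K).det = ((c.1⁻¹ : Kˣ) : K) ^ n := by
          show (Matrix.diagonal (fun _ : Fin n => (((c⁻¹ : U).1 : Kˣ) : K))).det = _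
          rw [Matrix.det_diagonal, Finset.prod_const, Finset.card_univ, Fintype.card_fin]
          rfl
        have hc' : c.1 ^ n = a.1⁻¹ * b.1 := congrArg Subtype.val hc
        rw [hzd, show (b.1 : K) = (a.1 : K) * (c.1 : K) ^ n by
          rw [← Units.val_pow_eq_pow_val, hc', Units.val_mul, Units.mul_inv_cancel_left], Units.val_inv_eq_inv_val]
        have := c.1.ne_zero
        have := a.1.ne_zero
        rw [inv_pow]
        field_simp
      obtain ⟨s, hs⟩ := hlift _ hdet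
      refine ⟨s, hjinj ?_⟩
      rw [map_mul, map_mul, map_inv, hW, hW, hs]
      calc D b * Z * (D a)⁻¹ * (D a * w₀ * (D a)⁻¹) * (D b * Z * (D a)⁻¹)⁻¹
          = D b * (Z * w₀) * Z⁻¹ * (D b)⁻¹ := by group
        _ = D b * w₀ * (D b)⁻¹ := by rw [hZ]; group
  have hfsurj : Function.Surjective f := by
    rintro ⟨C', u, rfl, hu1, hu2⟩
    obtain ⟨P, hP⟩ := LBCyclic.exists_conj (by omega) hu₀n hu₀r (u' := (j u).1) hu1 hu2
    obtain ⟨g, hg⟩ := isConj_iff.1 (LBGUConj.isConj_of_gl hK w₀ (j u) (isConj_iff.2 ⟨P, hP⟩))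
    let d : U := ⟨_, hdetGU g⟩
    obtain ⟨s, hs⟩ := hlift (g * (D d)⁻¹) (by
      show (g.1 * (D d).1⁻¹ : GL (Fin n) K).1.det = 1
      rw [Units.val_mul, Matrix.det_mul, Matrix.coe_units_inv, Matrix.det_nonsing_inv, hD, Ring.inverse_eq_inv']
      exact mul_inv_cancel₀ g.1.det_ne_zero)
    refine ⟨d, Subtype.ext (ConjClasses.mk_eq_mk_iff_isConj.2 (isConj_iff.2 ⟨s, hjinj ?_⟩))⟩
    rw [map_mul, map_mul, map_inv, hW, hs, ← hg]
    group
  let e : (U ⧸ (powMonoidHom n : U →* U).range) ≃ _ := Equiv.ofBijective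
    (Quotient.lift f fun a b hab => (hfeq a b).2 (QuotientGroup.leftRel_apply.1 hab))
    ⟨fun x y => by
      induction x using Quotient.ind with | _ a => ?_
      induction y using Quotient.ind with | _ b => ?_
      exact fun h => Quotient.sound (QuotientGroup.leftRel_apply.2 ((hfeq a b).1 h)),
     fun y => by obtain ⟨a, ha⟩ := hfsurj y; exact ⟨Quotient.mk'' a, ha⟩⟩
  rw [← Nat.card_congr e]
  have hUc : Nat.card U = q + 1 := by
    show Nat.card ↥(powMonoidHom (q + 1) : Kˣ →* Kˣ).ker = q + 1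
    rw [IsCyclic.card_powMonoidHom_ker, Nat.card_units, Nat.card_eq_fintype_card, hK]
    exact Nat.gcd_eq_right ⟨q - 1, by rw [show q ^ 2 - 1 = q ^ 2 - 1 ^ 2 from by rw [one_pow], Nat.sq_sub_sq]⟩
  have hi := Subgroup.index_mul_card (powMonoidHom n : U →* U).range
  rw [IsCyclic.card_powMonoidHom_range, hUc] at hi
  show (powMonoidHom n : U →* U).range.index = _
  rw [Nat.gcd_comm]
  obtain ⟨k, hk⟩ := Nat.gcd_dvd_left (q + 1) n
  have hg0 : 0 < Nat.gcd (q + 1) n := Nat.gcd_pos_of_pos_left _ (by omega)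
  rw [show (q + 1) / Nat.gcd (q + 1) n = k from Nat.div_eq_of_eq_mul_right hg0 hk] at hi
  exact Nat.eq_of_mul_eq_mul_right (Nat.pos_of_ne_zero fun h => by rw [h, mul_zero] at hk; omega) (hi.trans hk)

end Cfsg.Agent.S2643

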