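import Cfsg.Statements.S2644
import Cfsg.Agent.Lib.Classical.UnitaryParabolic
import Cfsg.Agent.Lib.Classical.HermSU

set_option autoImplicit false
open Cfsg Matrix

namespace Cfsg.Agent.S2644

/-- In the special unitary group SU_n(q) with n ≥ 3 (isometries of Σ u_i v_i^q of determinant one over the field with q² elements), any two transvections (elements t with t − 1 of rank one and square zero) are conjugate. -/
theorem result {K : Type*} [Field K] [Fintype K] {q n : ℕ} (hK : Fintype.card K = q ^ 2) (hn : 3 ≤ n) (s t : ↥(Cfsg.SU n K q)) (hs : Cfsg.IsTransvection (((s : GL (Fin n) K) : Matrix (Fin n) (Fin n) K))) (ht : Cfsg.IsTransvection (((t : GL (Fin n) K) : Matrix (Fin n) (Fin n) K))) : IsConj s t := by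
  classical
  obtain ⟨σ, hσ, hne, hinv, hfix, hq⟩ := HermStd.exists_sigma hK
  have hh := HermStd.isHerm_std hne hinv hσ n
  -- the shape of a transvection
  have shape : ∀ A : ↥(Cfsg.SU n K q), Cfsg.IsTransvection (((A : GL (Fin n) K) : Matrix (Fin n) (Fin n) K)) →
      ∃ (u : Fin n → K) (c : K), u ≠ 0 ∧ c ≠ 0 ∧ σ c = -c ∧ Cfsg.hermForm n K q u u = 0 ∧
        ∀ x, A.1.1 *ᵥ x = x + (c * Cfsg.hermForm n K q x u) • u := by
    intro A hA
    obtain ⟨⟨u, hu⟩, hu0', hspan⟩ := finrank_eq_one_iff'.1 (show Module.finrank K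
      (LinearMap.range ((A.1.1 : Matrix (Fin n) (Fin n) K) - 1).mulVecLin) = 1 from hA.1)
    have hu0 : u ≠ 0 := fun e => hu0' (Subtype.ext e)
    have hN : ∀ x, ∃ a : K, A.1.1 *ᵥ x = x + a • u := fun x => by
      obtain ⟨a, ha⟩ := hspan ⟨_, LinearMap.mem_range_self _ x⟩
      refine ⟨a, ?_⟩
      have : a • u = A.1.1 *ᵥ x - x := by
        simpa [Matrix.sub_mulVec] using congrArg Subtype.val ha
      rw [this, add_sub_cancel]
    choose φ hφ using hN
    have hφu : φ u = 0 := by
      obtain ⟨y, hy⟩ := hu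
      have hsq : ((A.1.1 : Matrix (Fin n) (Fin n) K) - 1) * (A.1.1 - 1) = 0 := hA.2
      have h1 : ((A.1.1 : Matrix (Fin n) (Fin n) K) - 1) *ᵥ u = 0 := by
        rw [← hy, Matrix.mulVecLin_apply, Matrix.mulVec_mulVec, hsq, Matrix.zero_mulVec]
      rw [Matrix.sub_mulVec, Matrix.one_mulVec, hφ, add_sub_cancel_left] at h1
      exact (smul_eq_zero.1 h1).resolve_right hu0
    have key : ∀ x y, φ x * σ (φ y) * Cfsg.hermForm n K q u u + φ x * Cfsg.hermForm n K q u y +
        σ (φ y) * Cfsg.hermForm n K q x u = 0 := by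
      intro x y
      have h : Cfsg.hermForm n K q (A.1.1 *ᵥ x) (A.1.1 *ᵥ y) = Cfsg.hermForm n K q x y := A.2 x y
      rw [hφ, hφ, hh.add_left, hh.add_right, hh.add_right, hh.smul_left, hh.smul_left, hh.smul_right,
        hh.smul_right] at h
      linear_combination h
    obtain ⟨z, hz⟩ : ∃ z, Cfsg.hermForm n K q u z = 1 := by
      by_contra! h
      refine hu0 (hh.nondeg u fun y => ?_)
      by_contra hy
      exact h ((σ (Cfsg.hermForm n K q u y))⁻¹ • y) (by rw [hh.smul_right, map_inv₀, hinv, inv_mul_cancel₀ hy])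
    have hzu : Cfsg.hermForm n K q z u = 1 := by rw [hh.symm, hz, map_one]
    have huu : Cfsg.hermForm n K q u u = 0 := by
      by_contra hne0
      have hall : ∀ x, φ x = 0 := fun x => by
        have h := key x u
        rw [hφu, map_zero, mul_zero, zero_mul, zero_add, zero_mul, add_zero] at h
        exact (mul_eq_zero.1 h).resolve_right hne0
      have h1 : ((A : GL (Fin n) K) : Matrix (Fin n) (Fin n) K) = 1 := Matrix.ext_of_mulVec_single fun i => by
        show A.1.1 *ᵥ _ = _
        rw [hφ, hall, zero_smul, add_zero, Matrix.one_mulVec]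
      have h2 := hA.1
      rw [h1, sub_self, Matrix.rank_zero] at h2
      exact one_ne_zero h2.symm
    have hlin : ∀ x, φ x = φ z * Cfsg.hermForm n K q x u := by
      intro x
      have h := key x z
      have h2 := key z z
      rw [huu, hz] at h h2
      rw [hzu] at h2
      linear_combination h - Cfsg.hermForm n K q x u * h2
    refine ⟨u, φ z, hu0, fun hc => ?_, ?_, huu, fun x => by rw [hφ, hlin]⟩
    · have h1 : ((A : GL (Fin n) K) : Matrix (Fin n) (Fin n) K) = 1 := Matrix.ext_of_mulVec_single fun i => by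
        show A.1.1 *ᵥ _ = _
        rw [hφ, hlin, hc, zero_mul, zero_smul, add_zero, Matrix.one_mulVec]
      have h2 := hA.1
      rw [h1, sub_self, Matrix.rank_zero] at h2
      exact one_ne_zero h2.symm
    · have h2 := key z z
      rw [huu, hz, hzu] at h2
      linear_combination h2
  obtain ⟨u, c, hu0, hc0, hcσ, huu, hsx⟩ := shape s hs
  obtain ⟨w₀, d, hw₀, hd0, hdσ, hww₀, htx⟩ := shape t ht
  obtain ⟨lam, hlam⟩ := Hermitian.exists_norm hne hinv (x := d / c) (by rw [map_div₀, hcσ, hdσ, neg_div_neg_eq])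
  have hlam0 : lam ≠ 0 := by
    rintro rfl
    rw [zero_mul] at hlam
    exact div_ne_zero hd0 hc0 hlam.symm
  set w := lam • w₀ with hwdef
  have hw : w ≠ 0 := smul_ne_zero hlam0 hw₀
  have hww : Cfsg.hermForm n K q w w = 0 := by rw [hwdef, hh.smul_left, hh.smul_right, hww₀, mul_zero, mul_zero]
  -- an isometry moving `u` to `w`
  obtain ⟨g₁, hg₁, hg₁u⟩ := hh.exists_iso_of_gram (x := fun _ : Fin 1 => u) (y := fun _ : Fin 1 => w)
    (by rw [linearIndependent_unique_iff]; exact hu0) (by rw [linearIndependent_unique_iff]; exact hw)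
    (fun i j => by rw [huu, hww])
  set M := LinearMap.toMatrix' g₁.toLinearMap with hMdef
  have hM : ∀ x, M *ᵥ x = g₁ x := fun x => by rw [hMdef, LinearMap.toMatrix'_mulVec]; rfl
  have hMdet : M.det ≠ 0 := by
    intro h
    obtain ⟨x, hx0, hx⟩ := Matrix.exists_mulVec_eq_zero_iff.2 h
    rw [hM] at hx
    exact hx0 (g₁.injective (hx.trans (map_zero g₁).symm))
  have hGU : Matrix.GeneralLinearGroup.mkOfDetNeZero M hMdet ∈ Cfsg.GU n K q := fun x y => by
    show Cfsg.hermForm n K q (M *ᵥ x) (M *ᵥ y) = _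
    rw [hM, hM]
    exact hg₁ x y
  have hδ : M.det * σ M.det = 1 := HermSU.det_mem_normOne hσ hGU
  set e := M.det⁻¹ with hedef
  have he : e * σ e = 1 := by rw [hedef, map_inv₀, ← mul_inv, hδ, inv_one]
  -- an anisotropic vector orthogonal to `w`
  obtain ⟨p, hwp, hpp⟩ := UnitaryCount.exists_partner hne hinv hσ hw hww
  have hpw : Cfsg.hermForm n K q p w = 1 := by rw [hh.symm, hwp, map_one]
  obtain ⟨hdim, hherm, -⟩ := hh.orth_spec (x := ![w, p]) (fun a ha => by
    have h0 := ha 0
    have h1 := ha 1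
    simp [Fin.sum_univ_two, hww, hwp, hpw, hpp] at h0 h1
    funext i; fin_cases i <;> simp [h0, h1])
  haveI : Nontrivial (hh.orth ![w, p]) := Module.nontrivial_of_finrank_pos (R := K) (by
    rw [Fintype.card_fin, Module.finrank_fin_fun] at hdim
    omega)
  obtain ⟨⟨a, ha⟩, haa⟩ := hherm.exists_anisotropic
  have haa' : Cfsg.hermForm n K q a a ≠ 0 := haa
  have haw : Cfsg.hermForm n K q a w = 0 := by simpa using hh.mem_orth.1 ha 0
  have hwa : Cfsg.hermForm n K q w a = 0 := hh.eq_zero_comm.1 haw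
  set k := (e - 1) / Cfsg.hermForm n K q a a with hkdef
  have hka : k * Cfsg.hermForm n K q a a = e - 1 := by rw [hkdef, div_mul_cancel₀ _ haa']
  set R := Transvec.tvMat a (k • hh.form a) with hRdef
  have hR : ∀ x, R *ᵥ x = x + (k * Cfsg.hermForm n K q x a) • a := fun x => by
    rw [hRdef, Transvec.tvMat_mulVec]; rfl
  have hRdet : R.det = e := by
    rw [hRdef, Transvec.det_tvMat, LinearMap.smul_apply, Hermitian.IsHerm.form_apply, smul_eq_mul, hka,
      add_sub_cancel]
  have hRiso : ∀ x y, Cfsg.hermForm n K q (R *ᵥ x) (R *ᵥ y) = Cfsg.hermForm n K q x y := fun x y => by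
    rw [hR, hR, hh.add_left, hh.add_right, hh.add_right, hh.smul_left, hh.smul_left, hh.smul_right,
      hh.smul_right, hh.symm y a]
    have hσk : σ k * Cfsg.hermForm n K q a a = σ e - 1 := by
      rw [← hh.self_fixed a, ← map_mul, hka, map_sub, map_one]
    simp only [map_mul]
    have hk3 : k + σ k + k * σ k * Cfsg.hermForm n K q a a = 0 := by
      apply mul_left_cancel₀ haa'
      linear_combination he + (1 + σ k * Cfsg.hermForm n K q a a) * hka + e * hσk
    linear_combination Cfsg.hermForm n K q x a * σ (Cfsg.hermForm n K q y a) * hk3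
  have hdet1 : (R * M).det = 1 := by rw [Matrix.det_mul, hRdet, hedef, inv_mul_cancel₀ hMdet]
  let g : ↥(Cfsg.SU n K q) := ⟨⟨R * M, hdet1⟩, fun x y => by
    show Cfsg.hermForm n K q ((R * M) *ᵥ x) ((R * M) *ᵥ y) = Cfsg.hermForm n K q x y
    rw [← Matrix.mulVec_mulVec, ← Matrix.mulVec_mulVec, hRiso, hM, hM]
    exact hg₁ x y⟩
  have hgu : g.1.1 *ᵥ u = w := by
    show (R * M) *ᵥ u = w
    rw [← Matrix.mulVec_mulVec, hM, hg₁u 0, hR, hwa, mul_zero, zero_smul, add_zero]
  refine isConj_iff.2 ⟨g, ?_⟩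
  rw [mul_inv_eq_iff_eq_mul]
  apply Subtype.ext
  apply Subtype.ext
  refine Matrix.ext_of_mulVec_single fun i => ?_
  simp only [Subgroup.coe_mul, Matrix.SpecialLinearGroup.coe_mul, ← Matrix.mulVec_mulVec]
  generalize (Pi.single i (1 : K) : Fin n → K) = x
  rw [hsx, htx, Matrix.mulVec_add, Matrix.mulVec_smul, hgu]
  congr 1
  have hgx : Cfsg.hermForm n K q x u = Cfsg.hermForm n K q (g.1.1 *ᵥ x) w := by
    rw [← hgu]; exact (g.2 x u).symm
  rw [hgx, hwdef, hh.smul_right, smul_smul]
  congr 1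
  have hl : lam * σ lam * c = d := by rw [hlam, div_mul_cancel₀ _ hc0]
  linear_combination Cfsg.hermForm n K q (g.1.1 *ᵥ x) w₀ * hl

end Cfsg.Agent.S2644

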