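import Cfsg.Statements.S2646
import Cfsg.Agent.Lib.LinearBlock.GUUnipCentralizer
-- import your own Cfsg.Agent.* helpers here

set_option autoImplicit false
open Cfsg

namespace Cfsg.Agent.S2646

/-- Order of the centraliser in the general unitary group GU_n(q) of a unipotent element of given Jordan type: if u ∈ GU_n(q) (isometries of Σ u_i v_i^q over the field with q² elements) is similar to the unipotent matrix with a_i Jordan blocks of size i (all sizes at least 1), then its centraliser in GU_n(q) has order q^γ · Π_i |GU_(a_i)(q)| with γ = 2 Σ_(i<j) i a_i a_j + Σ_i (i − 1) a_i², the same exponent as in GL_n(q), where |GU_a(q)| = q^(a(a−1)/2) Π_(k=1)^a (q^k − (−1)^k). -/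
theorem result {K : Type*} [Field K] [Fintype K] {q n t : ℕ} (hK : Fintype.card K = q ^ 2) (d : Fin t → ℕ) (hd : ∀ k, 1 ≤ d k) (e : ((k : Fin t) × Fin (d k)) ≃ Fin n) (u : ↥(Cfsg.GU n K q)) (hu : IsConj (Matrix.reindex e e (Cfsg.jordanTypeMatrix d K)) ((u : GL (Fin n) K) : Matrix (Fin n) (Fin n) K)) : (Nat.card ↥(Subgroup.centralizer ({u} : Set ↥(Cfsg.GU n K q))) : ℤ) = (q : ℤ) ^ (2 * (∑ i ∈ Finset.range (Finset.univ.sup d + 1), ∑ j ∈ Finset.range (Finset.univ.sup d + 1), if i < j then i * (Finset.univ.filter (fun k : Fin t => d k = i)).card * (Finset.univ.filter (fun k : Fin t => d k = j)).card else 0) + ∑ i ∈ Finset.range (Finset.univ.sup d + 1), (i - 1) * (Finset.univ.filter (fun k : Fin t => d k = i)).card ^ 2) * ∏ i ∈ Finset.range (Finset.univ.sup d + 1), ((q : ℤ) ^ ((Finset.univ.filter (fun k : Fin t => d k = i)).card * ((Finset.univ.filter (fun k : Fin t => d k = i)).card - 1) / 2) * ∏ j : Fin (Finset.univ.filter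 (fun k : Fin t => d k = i)).card, ((q : ℤ) ^ ((j : ℕ) + 1) - (-1) ^ ((j : ℕ) + 1))) := by
  classical
  obtain ⟨σ, hσ, hne, hinv, hq, -⟩ := Cfsg.Agent.HermStd.exists_sigma hK
  obtain ⟨H, hHd, hHs, hHT, hcard⟩ := Cfsg.Agent.GUUnipCentralizer.card_isometries d hd hne hinv (q := q)
    (by rw [Nat.card_eq_fintype_card, hK])
  obtain ⟨Φ, hΦ⟩ : ∃ Φ : Matrix ((k : Fin t) × Fin (d k)) ((k : Fin t) × Fin (d k)) K ≃ₐ[K] Matrix (Fin n) (Fin n) K,
      Φ = Matrix.reindexAlgEquiv K K e := ⟨_, rfl⟩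
  have hΦs : ∀ X, Φ (Cfsg.Agent.LBUnitary.star' σ X) = Cfsg.Agent.LBUnitary.star' σ (Φ X) := fun X => by rw [hΦ]; rfl
  obtain ⟨T, hT⟩ : ∃ T, T = Φ (Cfsg.jordanTypeMatrix d K) := ⟨_, rfl⟩
  obtain ⟨H', hH'⟩ : ∃ H', H' = Φ H := ⟨_, rfl⟩
  have hH'd : H'.det ≠ 0 := by rw [hH', hΦ, Matrix.reindexAlgEquiv_apply, Matrix.det_reindex_self]; exact hHd
  have hTH : Cfsg.Agent.LBUnitary.star' σ T * H' * T = H' := by
    rw [hT, hH', ← hΦs, ← map_mul, ← map_mul, hHT]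
  obtain ⟨C, hC⟩ := Cfsg.Agent.LBUnitary.exists_sqrt hne hinv hH'd
    (by rw [hH', ← hΦs, hHs] : Cfsg.Agent.LBUnitary.star' σ H' = H')
  have hTd : T.det ≠ 0 := by
    intro h0
    have := congrArg Matrix.det hTH
    rw [Matrix.det_mul, h0, mul_zero] at this
    exact hH'd this.symm
  obtain ⟨T₀, hT₀⟩ : ∃ T₀ : GL (Fin n) K, T₀.1 = T :=
    ⟨Matrix.GeneralLinearGroup.mkOfDetNeZero T hTd, rfl⟩
  have hgu : ∀ Y : GL (Fin n) K, C * Y * C⁻¹ ∈ Cfsg.GU n K q ↔ Cfsg.Agent.LBUnitary.star' σ Y.1 * H' * Y.1 = H' := by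
    intro Y
    rw [Cfsg.Agent.LBUnitary.mem_GU hσ hinv, Units.val_mul, Units.val_mul, Cfsg.Agent.LBUnitary.star_mul',
      Cfsg.Agent.LBUnitary.star_mul', ← hC]
    have hu : IsUnit (Cfsg.Agent.LBUnitary.star' σ C.1) := by
      refine IsUnit.of_mul_eq_one _ (?_ : _ * Cfsg.Agent.LBUnitary.star' σ (C⁻¹ : GL (Fin n) K).1 = 1)
      rw [← Cfsg.Agent.LBUnitary.star_mul', Units.inv_mul, Cfsg.Agent.LBUnitary.star_one']
    have e : Cfsg.Agent.LBUnitary.star' σ C.1 * Cfsg.Agent.LBUnitary.star' σ (C⁻¹ : GL (Fin n) K).1 = 1 := by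
      rw [← Cfsg.Agent.LBUnitary.star_mul', Units.inv_mul, Cfsg.Agent.LBUnitary.star_one']
    rw [← hu.mul_right_inj, ← Units.mul_left_inj C, mul_one]
    have key : ∀ A B : Matrix (Fin n) (Fin n) K,
        Cfsg.Agent.LBUnitary.star' σ C.1 * (Cfsg.Agent.LBUnitary.star' σ (C⁻¹ : GL (Fin n) K).1 *
          (A * Cfsg.Agent.LBUnitary.star' σ C.1) * (C.1 * B * (C⁻¹ : GL (Fin n) K).1)) * C.1 =
        A * (Cfsg.Agent.LBUnitary.star' σ C.1 * C.1) * B := fun A B => by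
      simp only [← mul_assoc, e, one_mul]
      simp only [mul_assoc, Units.inv_mul, mul_one]
    rw [key]
  obtain ⟨u₀, hu₀⟩ : ∃ u₀ : ↥(Cfsg.GU n K q), u₀.1 = C * T₀ * C⁻¹ :=
    ⟨⟨_, (hgu T₀).2 (by rw [hT₀]; exact hTH)⟩, rfl⟩
  have hconj : IsConj u₀ u := by
    refine Cfsg.Agent.LBGUConj.isConj_of_gl hK u₀ u ?_
    rw [hu₀]
    refine (isConj_iff.2 ⟨C, rfl⟩ : IsConj T₀ (C * T₀ * C⁻¹)).symm.trans ?_
    obtain ⟨c, hc⟩ := hu
    refine isConj_iff.2 ⟨c, ?_⟩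
    rw [mul_inv_eq_iff_eq_mul]
    refine Units.ext ?_
    rw [Units.val_mul, Units.val_mul, hT₀, hT, hΦ]
    exact hc
  obtain ⟨g, hg⟩ := isConj_iff.1 hconj
  have hcongr : Nat.card ↥(Subgroup.centralizer ({u} : Set ↥(Cfsg.GU n K q))) =
      Nat.card ↥(Subgroup.centralizer ({u₀} : Set ↥(Cfsg.GU n K q))) := by
    refine Nat.card_congr ((MulAut.conj g⁻¹).toEquiv.subtypeEquiv fun y => ?_)
    show y ∈ Subgroup.centralizer _ ↔ g⁻¹ * y * g⁻¹⁻¹ ∈ Subgroup.centralizer _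
    rw [Subgroup.mem_centralizer_singleton_iff, Subgroup.mem_centralizer_singleton_iff, inv_inv, ← hg]
    constructor <;> intro h
    · have := congrArg (fun z => g⁻¹ * z * g) h
      simpa [mul_assoc] using this
    · have := congrArg (fun z => g * z * g⁻¹) h
      simpa [mul_assoc] using this
  have hcard₀ : Nat.card ↥(Subgroup.centralizer ({u₀} : Set ↥(Cfsg.GU n K q))) =
      Nat.card {X : Matrix ((k : Fin t) × Fin (d k)) ((k : Fin t) × Fin (d k)) K //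
        X * Cfsg.jordanTypeMatrix d K = Cfsg.jordanTypeMatrix d K * X ∧
          Cfsg.Agent.LBUnitary.star' σ X * H * X = H} := by
    refine Nat.card_eq_of_bijective (fun y => ⟨Φ.symm (C⁻¹ * y.1.1 * C : GL (Fin n) K).1, ?_, ?_⟩) ⟨?_, ?_⟩
    · refine Φ.injective ?_
      rw [map_mul, map_mul, AlgEquiv.apply_symm_apply, ← hT, ← hT₀, ← Units.val_mul, ← Units.val_mul]
      congr 1
      have h := congrArg Subtype.val (Subgroup.mem_centralizer_singleton_iff.1 y.2)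
      rw [Subgroup.coe_mul, Subgroup.coe_mul, hu₀] at h
      calc C⁻¹ * y.1.1 * C * T₀ = C⁻¹ * (y.1.1 * (C * T₀ * C⁻¹)) * C := by group
        _ = C⁻¹ * (C * T₀ * C⁻¹ * y.1.1) * C := by rw [h]
        _ = T₀ * (C⁻¹ * y.1.1 * C) := by group
    · refine Φ.injective ?_
      rw [map_mul, map_mul, hΦs, AlgEquiv.apply_symm_apply, ← hH']
      refine (hgu _).1 ?_
      rw [show C * (C⁻¹ * y.1.1 * C) * C⁻¹ = y.1.1 by group]
      exact y.1.2
    · intro y z h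
      have h1 := Units.ext (Φ.symm.injective (congrArg Subtype.val h))
      exact Subtype.ext (Subtype.ext (mul_left_cancel (mul_right_cancel h1)))
    · rintro ⟨X, hX1, hX2⟩
      have hY : Cfsg.Agent.LBUnitary.star' σ (Φ X) * H' * Φ X = H' := by
        rw [hH', ← hΦs, ← map_mul, ← map_mul, hX2]
      have hYd : (Φ X).det ≠ 0 := by
        intro h0
        have := congrArg Matrix.det hY
        rw [Matrix.det_mul, h0, mul_zero] at this
        exact hH'd this.symm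
      obtain ⟨Y, hYv⟩ : ∃ Y : GL (Fin n) K, Y.1 = Φ X :=
        ⟨Matrix.GeneralLinearGroup.mkOfDetNeZero (Φ X) hYd, rfl⟩
      have hcT : Y * T₀ = T₀ * Y := Units.ext (by
        rw [Units.val_mul, Units.val_mul, hYv, hT₀, hT, ← map_mul, ← map_mul, hX1])
      refine ⟨⟨⟨C * Y * C⁻¹, (hgu Y).2 (by rw [hYv]; exact hY)⟩, ?_⟩, Subtype.ext ?_⟩
      · rw [Subgroup.mem_centralizer_singleton_iff]
        refine Subtype.ext ?_
        rw [Subgroup.coe_mul, Subgroup.coe_mul, hu₀]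
        show C * Y * C⁻¹ * (C * T₀ * C⁻¹) = C * T₀ * C⁻¹ * (C * Y * C⁻¹)
        calc C * Y * C⁻¹ * (C * T₀ * C⁻¹) = C * (Y * T₀) * C⁻¹ := by group
          _ = C * T₀ * C⁻¹ * (C * Y * C⁻¹) := by rw [hcT]; group
      · show Φ.symm (C⁻¹ * (C * Y * C⁻¹) * C : GL (Fin n) K).1 = X
        rw [show C⁻¹ * (C * Y * C⁻¹) * C = Y by group, hYv, AlgEquiv.symm_apply_apply]
  rw [hcongr, hcard₀, hcard, Cfsg.Agent.S2581.exponent d hd, Nat.cast_mul, Nat.cast_pow, Nat.cast_prod]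
  congr 1
  rw [← Fin.prod_univ_eq_prod_range]
  refine Finset.prod_congr rfl fun i _ => ?_
  rw [Cfsg.Agent.GUUnipCentralizer.card_unitary_matrices hne hinv hσ hq, Fintype.card_subtype]

end Cfsg.Agent.S2646
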