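import Cfsg.Statements.S4015
import Mathlib
import Cfsg.Agent.S4014
import Cfsg.Agent.Lib.Classical.HomocyclicSylow

set_option autoImplicit false
open Cfsg

namespace Cfsg.Agent.S4015


open scoped commutatorElement
open Module

section Mono

variable {F V D G X : Type*} [Field F] [AddCommGroup V] [Module F V] [Group D] [Group G]

/-- The monomial representation attached to a permutation action and a cocycle. -/
noncomputable def monoHom (f : D →* (V ≃ₗ[F] V)) (π : G →* Equiv.Perm X) (a : G → X → D)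
    (h : ∀ g g' x, a (g * g') x = a g x * a g' ((π g).symm x)) :
    G →* ((X → V) ≃ₗ[F] (X → V)) :=
  MonoidHom.mk'
    (fun g => (LinearEquiv.funCongrLeft F V (π g).symm).trans (LinearEquiv.piCongrRight fun x => f (a g x)))
    (fun g g' => by
      refine LinearEquiv.ext fun v => funext fun x => ?_
      show f (a (g * g') x) (v ((π (g * g')).symm x)) =
        f (a g x) (f (a g' ((π g).symm x)) (v ((π g').symm ((π g).symm x))))
      rw [h, map_mul, map_mul]
      rfl)

theorem monoHom_apply (f : D →* (V ≃ₗ[F] V)) (π : G →* Equiv.Perm X) (a : G → X → D)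
    (h : ∀ g g' x, a (g * g') x = a g x * a g' ((π g).symm x)) (g : G) (v : X → V) (x : X) :
    monoHom f π a h g v x = f (a g x) (v ((π g).symm x)) := rfl

theorem monoHom_injective [Nontrivial V] {f : D →* (V ≃ₗ[F] V)} (hf : Function.Injective f)
    {π : G →* Equiv.Perm X} {a : G → X → D}
    {h : ∀ g g' x, a (g * g') x = a g x * a g' ((π g).symm x)}
    (hker : ∀ g, π g = 1 → (∀ x, a g x = 1) → g = 1) : Function.Injective (monoHom f π a h) := by
  classical
  rw [injective_iff_map_eq_one]
  intro g hg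
  have happ : ∀ (v : X → V) (x : X), f (a g x) (v ((π g).symm x)) = v x := fun v x => by
    have := congrFun (LinearEquiv.congr_fun hg v) x
    simpa [monoHom_apply] using this
  have hπ : π g = 1 := by
    refine Equiv.ext fun x => ?_
    by_contra hne
    obtain ⟨w, hw⟩ := exists_ne (0 : V)
    have h1 := happ (Pi.single x w) (π g x)
    rw [Equiv.symm_apply_apply, Pi.single_eq_same,
      Pi.single_eq_of_ne (by simpa using hne)] at h1
    exact hw ((LinearEquiv.map_eq_zero_iff _).1 h1)
  refine hker g hπ fun x => hf ?_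
  rw [map_one]
  ext w
  have h1 := happ (fun _ => w) x
  simpa using h1

end Mono

section Lin

variable {F V : Type*} [Field F] [AddCommGroup V] [Module F V]

theorem exists_hom_GL [FiniteDimensional F V] {G : Type*} [Group G] (f : G →* (V ≃ₗ[F] V))
    (hf : Function.Injective f) {n : ℕ} (hn : finrank F V ≤ n) :
    ∃ Φ : G →* GL (Fin n) F, Function.Injective Φ := by
  have hfr : finrank F (V × (Fin (n - finrank F V) → F)) = n := by
    rw [finrank_prod, finrank_fin_fun]; omega
  let e := (Module.finBasisOfFinrankEq F (V × (Fin (n - finrank F V) → F)) hfr).equivFun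
  let h : (V ≃ₗ[F] V) →* ((Fin n → F) ≃ₗ[F] (Fin n → F)) :=
    MonoidHom.mk' (fun g => e.symm.trans ((g.prodCongr (LinearEquiv.refl F _)).trans e)) (fun g g' => by
      refine LinearEquiv.ext fun v => ?_
      show e ((g * g').prodCongr (LinearEquiv.refl F _) (e.symm v)) =
        e (g.prodCongr (LinearEquiv.refl F _) (e.symm (e (g'.prodCongr (LinearEquiv.refl F _) (e.symm v)))))
      rw [e.symm_apply_apply]
      rfl)
  have hh : Function.Injective h := fun g g' hgg => by
    refine LinearEquiv.ext fun v => ?_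
    have := LinearEquiv.congr_fun hgg (e (v, 0))
    simp only [h, MonoidHom.mk'_apply, LinearEquiv.trans_apply, e.symm_apply_apply] at this
    exact congrArg Prod.fst (e.injective this)
  let t : ((Fin n → F) ≃ₗ[F] (Fin n → F)) →* GL (Fin n) F :=
    Matrix.GeneralLinearGroup.toLin.symm.toMonoidHom.comp
      (LinearMap.GeneralLinearGroup.generalLinearEquiv F (Fin n → F)).symm.toMonoidHom
  have ht : Function.Injective t := Matrix.GeneralLinearGroup.toLin.symm.injective.comp
    (LinearMap.GeneralLinearGroup.generalLinearEquiv F (Fin n → F)).symm.injective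
  exact ⟨t.comp (h.comp f), ht.comp (hh.comp hf)⟩

end Lin

theorem wreath_step {D Q : Type} [Group D] [Group Q] [Nontrivial Q] (hQ : ∀ a b : Q, a * b = b * a)
    {k : ℕ} (hD : derivedSeries D k ≠ ⊥) : derivedSeries (D ≀ᵣ Q) (k + 1) ≠ ⊥ := by
  have hright : ∀ w ∈ commutator (D ≀ᵣ Q), RegularWreathProduct.right w = 1 := by
    intro w hw
    have h0 : commutator (D ≀ᵣ Q) ≤ (RegularWreathProduct.rightHom : D ≀ᵣ Q →* Q).ker := by
      rw [commutator_def, Subgroup.commutator_le]
      intro u _ v _
      rw [MonoidHom.mem_ker, map_commutatorElement]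
      exact commutatorElement_eq_one_iff_mul_comm.2 (hQ _ _)
    exact h0 hw
  let ev : commutator (D ≀ᵣ Q) →* D :=
    { toFun := fun w => (w : D ≀ᵣ Q).left 1
      map_one' := rfl
      map_mul' := fun a b => by
        show ((a : D ≀ᵣ Q) * (b : D ≀ᵣ Q)).left 1 = _
        rw [RegularWreathProduct.mul_left, Pi.mul_apply, hright _ a.2, inv_one, one_mul] }
  have hsur : Function.Surjective ev := by
    classical
    intro d
    obtain ⟨q, hq⟩ := exists_ne (1 : Q)
    let f : D ≀ᵣ Q := ⟨Function.update 1 1 d, 1⟩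
    refine ⟨⟨⁅f, (RegularWreathProduct.inl q : D ≀ᵣ Q)⁆,
      Subgroup.commutator_mem_commutator (Subgroup.mem_top _) (Subgroup.mem_top _)⟩, ?_⟩
    show (⁅f, (RegularWreathProduct.inl q : D ≀ᵣ Q)⁆).left 1 = d
    refine (S4014.comm_left (Function.update (1 : Q → D) 1 d) q).trans ?_
    rw [Function.update_self, Function.update_of_ne (inv_ne_one.2 hq), Pi.one_apply, inv_one, mul_one]
  intro hbot
  apply hD
  rw [← map_derivedSeries_eq hsur k]
  have h2 : derivedSeries (commutator (D ≀ᵣ Q)) k = ⊥ := by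
    have h3 := S4014.map_le_succ (le_refl (commutator (D ≀ᵣ Q))) k
    rw [hbot, le_bot_iff] at h3
    exact (Subgroup.map_eq_bot_iff_of_injective _ (Subgroup.subtype_injective _)).1 h3
  rw [h2, Subgroup.map_bot]

universe u v

theorem tower {F : Type u} [Field F] {K : Type v} [AddCommGroup K] [Module F K] [FiniteDimensional F K]
    [Nontrivial K] (p : ℕ) [Fact p.Prime] {C : Type} [Group C] [Finite C] (hCp : IsPGroup p C) [Nontrivial C]
    (f : C →* (K ≃ₗ[F] K)) (hf : Function.Injective f) : ∀ j : ℕ,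
    ∃ (D : Type) (_ : Group D) (_ : Finite D), IsPGroup p D ∧ derivedSeries D j ≠ ⊥ ∧
      ∃ (V : Type v) (_ : AddCommGroup V) (_ : Module F V) (_ : FiniteDimensional F V) (_ : Nontrivial V)
        (g : D →* (V ≃ₗ[F] V)), Function.Injective g ∧ finrank F V = finrank F K * p ^ j
  | 0 => ⟨C, inferInstance, inferInstance, hCp, by rw [derivedSeries_zero]; exact top_ne_bot,
      K, inferInstance, inferInstance, inferInstance, inferInstance, f, hf, by simp⟩
  | j + 1 => by
    obtain ⟨D, _, _, hDp, hDj, V, _, _, _, _, g, hg, hV⟩ := tower p hCp f hf j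
    let Q := Multiplicative (ZMod p)
    haveI : Nontrivial Q := inferInstanceAs (Nontrivial (ZMod p))
    let π : D ≀ᵣ Q →* Equiv.Perm Q := (MulAction.toPermHom Q Q).comp RegularWreathProduct.rightHom
    have hcoc : ∀ w w' : D ≀ᵣ Q, ∀ x, (w * w').left x = w.left x * w'.left ((π w).symm x) := fun w w' x => rfl
    refine ⟨D ≀ᵣ Q, inferInstance, inferInstance, ?_, wreath_step (fun a b => mul_comm a b) hDj,
      Q → V, inferInstance, inferInstance, inferInstance, inferInstance,
      monoHom g π (fun w x => w.left x) hcoc, monoHom_injective hg ?_, ?_⟩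
    · obtain ⟨b, hb⟩ := IsPGroup.iff_card.1 hDp
      refine IsPGroup.of_card (n := b * p + 1) ?_
      rw [RegularWreathProduct.card, hb, show Nat.card Q = p from Nat.card_zmod p, ← pow_mul, pow_succ]
    · intro w hw hw'
      refine RegularWreathProduct.ext (funext hw') ?_
      have := Equiv.Perm.congr_fun hw 1
      simpa [π] using this
    · rw [finrank_pi_fintype, Finset.sum_const, Finset.card_univ, smul_eq_mul, hV,
        show Fintype.card Q = p from Nat.card_eq_fintype_card.symm.trans (Nat.card_zmod p), pow_succ]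
      ring

theorem val_term {p q : ℕ} [Fact p.Prime] (hp : p ≠ 2) (hq : 2 ≤ q) (hpq : ¬ p ∣ q) {j : ℕ} (hj : j ≠ 0) :
    padicValNat p (q ^ j - 1) = if orderOf (q : ZMod p) ∣ j then
      HomocyclicSylow.expo p q + padicValNat p (j / orderOf (q : ZMod p)) else 0 := by
  have hd0 := HomocyclicSylow.orderOf_pos' hpq
  split_ifs with h
  · obtain ⟨c, rfl⟩ := h
    rw [Nat.mul_div_cancel_left _ hd0, ← HomocyclicSylow.expo_eq hq hpq, pow_mul]
    have hdvd : p ∣ q ^ orderOf (q : ZMod p) - 1 :=
      (PrimeGraphPSL.orderOf_zmod_dvd_iff (by omega)).1 dvd_rfl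
    have h1 : 1 < q ^ orderOf (q : ZMod p) := Nat.one_lt_pow hd0.ne' (by omega)
    have := padicValNat.pow_sub_pow (p := p) ((Fact.out : p.Prime).odd_of_ne_two hp) (x := q ^ orderOf (q : ZMod p)) (y := 1)
      h1 hdvd (fun h => hpq ((Fact.out : p.Prime).dvd_of_dvd_pow h)) (n := c) (fun hc => hj (by simp [hc]))
    rwa [one_pow] at this
  · exact padicValNat.eq_zero_of_not_dvd fun hdvd => h ((PrimeGraphPSL.orderOf_zmod_dvd_iff (by omega)).2 hdvd)

theorem val_gl {F : Type*} [Field F] [Fintype F] {p q : ℕ} [Fact p.Prime] (hp : p ≠ 2)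
    (hq : Fintype.card F = q) (hpq : ¬ p ∣ q) (n : ℕ) :
    padicValNat p (Nat.card (GL (Fin n) F)) = n / orderOf (q : ZMod p) * HomocyclicSylow.expo p q +
      padicValNat p (n / orderOf (q : ZMod p)).factorial := by
  have hq2 : 2 ≤ q := hq ▸ Fintype.one_lt_card
  have hd0 := HomocyclicSylow.orderOf_pos' hpq
  rw [Matrix.card_GL_field, hq, Fin.prod_univ_eq_prod_range (fun i => q ^ n - q ^ i) n]
  have e : ∀ i, i < n → q ^ n - q ^ i = q ^ i * (q ^ (n - i) - 1) := fun i hi => by
    rw [Nat.mul_sub, mul_one, ← pow_add, Nat.add_sub_cancel' hi.le]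
  have hne : ∀ i, i < n → q ^ (n - i) - 1 ≠ 0 := fun i hi => by
    have := Nat.le_self_pow (show n - i ≠ 0 by omega) q
    omega
  rw [HomocyclicSylow.val_prod_range n fun i hi => by
    rw [e i hi]; exact mul_ne_zero (pow_ne_zero _ (by omega)) (hne i hi)]
  have h1 : ∀ i ∈ Finset.range n, padicValNat p (q ^ n - q ^ i) =
      (fun j => padicValNat p (q ^ (j + 1) - 1)) (n - 1 - i) := by
    intro i hi
    rw [Finset.mem_range] at hi
    rw [e i hi, padicValNat.mul (pow_ne_zero _ (by omega)) (hne i hi),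
      padicValNat.eq_zero_of_not_dvd (fun h => hpq ((Fact.out : p.Prime).dvd_of_dvd_pow h)), zero_add]
    simp only [show n - 1 - i + 1 = n - i by omega]
  rw [Finset.sum_congr rfl h1, Finset.sum_range_reflect (fun j => padicValNat p (q ^ (j + 1) - 1)) n]
  clear h1 e hne
  induction n with
  | zero => simp
  | succ n ih =>
    rw [Finset.sum_range_succ, ih, val_term hp hq2 hpq (Nat.succ_ne_zero n), Nat.succ_div]
    split_ifs with h
    · rw [Nat.factorial_succ, padicValNat.mul (Nat.succ_ne_zero _) (Nat.factorial_ne_zero _)]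
      simp only [Nat.succ_eq_add_one]
      ring
    · simp


/-- Let p be an odd prime, F a finite field with q elements where p does not divide q, and e the multiplicative order of q modulo p. Let n ≥ e and write w = ⌊n/e⌋ and k = ⌊log_p w⌋. Then a Sylow p-subgroup of GL(n, F) has derived length exactly k + 1: its (k+1)-st derived subgroup is trivial and its k-th is not. -/
theorem result (p : ℕ) [Fact p.Prime] (hp : p ≠ 2) (F : Type*) [Field F] [Fintype F] (q : ℕ) (hq : Fintype.card F = q) (hpq : ¬ p ∣ q) (n : ℕ) (hn : orderOf (q : ZMod p) ≤ n) (P : Sylow p (Matrix.GeneralLinearGroup (Fin n) F)) : derivedSeries ↥(P : Subgroup (Matrix.GeneralLinearGroup (Fin n) F)) (Nat.log p (n / orderOf (q : ZMod p)) + 1) = ⊥ ∧ derivedSeries ↥(P : Subgroup (Matrix.GeneralLinearGroup (Fin n) F)) (Nat.log p (n / orderOf (q : ZMod p))) ≠ ⊥ := by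
  classical
  obtain ⟨ℓ, _⟩ := CharP.exists F
  haveI : Fact ℓ.Prime := ⟨CharP.char_is_prime F ℓ⟩
  subst hq
  have hq2 : 2 ≤ Fintype.card F := Fintype.one_lt_card
  obtain ⟨d, hd⟩ : ∃ d, orderOf ((Fintype.card F : ℕ) : ZMod p) = d := ⟨_, rfl⟩
  have hd0 : 0 < d := hd ▸ HomocyclicSylow.orderOf_pos' hpq
  haveI : NeZero d := ⟨hd0.ne'⟩
  obtain ⟨e, he⟩ : ∃ e, HomocyclicSylow.expo p (Fintype.card F) = e := ⟨_, rfl⟩
  have hdv := HomocyclicSylow.dvd_pow_expo hq2 hpq
  rw [he, hd] at hdv
  have he0 : e ≠ 0 := by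
    rw [← he, ← HomocyclicSylow.expo_eq hq2 hpq]
    have h0 : Fintype.card F ^ orderOf ((Fintype.card F : ℕ) : ZMod p) - 1 ≠ 0 := by
      have := Nat.one_lt_pow (HomocyclicSylow.orderOf_pos' hpq).ne' (show 1 < Fintype.card F by omega)
      omega
    exact (one_le_padicValNat_of_dvd h0 ((PrimeGraphPSL.orderOf_zmod_dvd_iff (by omega)).1 dvd_rfl)).trans_lt' one_pos |>.ne'
  rw [hd] at hn ⊢
  haveI : NeZero (p ^ e) := ⟨pow_ne_zero _ (Fact.out : p.Prime).ne_zero⟩
  obtain ⟨u, hu⟩ := PrimeGraphPSL.exists_unit_extension (F := F) ℓ (k := d) hdv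
  obtain ⟨f0, hf0⟩ := HomocyclicSylow.exists_cyclic_hom hu
  let K := FiniteField.Extension F ℓ d
  let f : Multiplicative (ZMod (p ^ e)) →* (K ≃ₗ[F] K) :=
    (DistribMulAction.toModuleAut F K).comp f0
  have hf : Function.Injective f := fun a b hab => hf0 (Units.ext (by
    simpa [f, Units.smul_def] using LinearEquiv.congr_fun hab 1))
  haveI : Nontrivial (Multiplicative (ZMod (p ^ e))) := by
    haveI : Fact (1 < p ^ e) := ⟨Nat.one_lt_pow he0 (Fact.out : p.Prime).one_lt⟩
    exact inferInstanceAs (Nontrivial (ZMod (p ^ e)))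
  have hCp : IsPGroup p (Multiplicative (ZMod (p ^ e))) := IsPGroup.of_card (Nat.card_zmod _)
  have hK : finrank F K = d := FiniteField.finrank_extension F ℓ d
  have hm0 : n / d ≠ 0 := (Nat.div_pos hn hd0).ne'
  obtain ⟨m, hm⟩ : ∃ m, n / d = m := ⟨_, rfl⟩
  rw [hm]
  constructor
  · obtain ⟨R⟩ : Nonempty (Sylow p (Equiv.Perm (Fin m))) := inferInstance
    let φ : (R : Subgroup (Equiv.Perm (Fin m))) →* MulAut (Fin m → Multiplicative (ZMod (p ^ e))) :=
      MonoidHom.mk' (fun σ => MulEquiv.arrowCongr (σ : Equiv.Perm (Fin m)) (MulEquiv.refl _))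
        (fun σ τ => by ext v x; rfl)
    let π : (Fin m → Multiplicative (ZMod (p ^ e))) ⋊[φ] (R : Subgroup (Equiv.Perm (Fin m))) →*
        Equiv.Perm (Fin m) := (R : Subgroup (Equiv.Perm (Fin m))).subtype.comp SemidirectProduct.rightHom
    let Φ0 := monoHom f π (fun w x => w.left x) (fun w w' x => rfl)
    have hΦ0 : Function.Injective Φ0 := monoHom_injective hf fun w hw hw' =>
      SemidirectProduct.ext (funext hw') (Subtype.ext hw)
    obtain ⟨Φ, hΦ⟩ := exists_hom_GL Φ0 hΦ0 (n := n) (by
      rw [finrank_pi_fintype, Finset.sum_const, Finset.card_univ, Fintype.card_fin, smul_eq_mul, hK, ← hm]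
      exact Nat.div_mul_le_self n d)
    obtain ⟨iso⟩ := HomocyclicSylow.sylow_equiv P Φ hΦ (by
      rw [SemidirectProduct.card, HomocyclicSylow.card_homocyclic, R.card_eq_multiplicity,
        Nat.factorization_def _ (Fact.out : p.Prime), Nat.card_perm, Nat.card_fin, ← pow_add,
        val_gl hp rfl hpq, hd, hm, he])
    have h1 := map_derivedSeries_le_derivedSeries
      (SemidirectProduct.rightHom : (Fin m → Multiplicative (ZMod (p ^ e))) ⋊[φ] _ →* _) (Nat.log p m)
    rw [S4014.derived_bot p _ R.isPGroup', le_bot_iff, Subgroup.map_eq_bot_iff] at h1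
    have h2 : derivedSeries ((Fin m → Multiplicative (ZMod (p ^ e))) ⋊[φ] (R : Subgroup (Equiv.Perm (Fin m))))
        (Nat.log p m + 1) = ⊥ := by
      rw [derivedSeries_succ, eq_bot_iff, Subgroup.commutator_le]
      intro a ha b hb
      have ha' : a.right = 1 := h1 ha
      have hb' : b.right = 1 := h1 hb
      rw [Subgroup.mem_bot, commutatorElement_eq_one_iff_mul_comm]
      refine SemidirectProduct.ext ?_ ?_
      · simp [SemidirectProduct.mul_left, ha', hb', mul_comm]
      · simp [ha', hb']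
    have h3 := map_derivedSeries_le_derivedSeries iso.toMonoidHom (Nat.log p m + 1)
    rw [h2, le_bot_iff] at h3
    exact (Subgroup.map_eq_bot_iff_of_injective _ iso.injective).1 h3
  · obtain ⟨D, _, _, hDp, hDj, V, _, _, _, _, g, hg, hV⟩ := tower (F := F) (K := K) p hCp f hf (Nat.log p m)
    obtain ⟨Φ, hΦ⟩ := exists_hom_GL g hg (n := n) (by
      rw [hV, hK]
      calc d * p ^ Nat.log p m ≤ d * m := Nat.mul_le_mul_left _ (Nat.pow_log_le_self p (hm ▸ hm0))
        _ ≤ n := hm ▸ Nat.mul_div_le n d)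
    obtain ⟨R, hR⟩ := (hDp.of_equiv (MonoidHom.ofInjective hΦ)).exists_le_sylow
    intro hbot
    apply hDj
    let F' : D →* (P : Subgroup (GL (Fin n) F)) :=
      (Sylow.equiv R P).toMonoidHom.comp ((Subgroup.inclusion hR).comp (MonoidHom.ofInjective hΦ).toMonoidHom)
    have hF' : Function.Injective F' := (Sylow.equiv R P).injective.comp
      ((Subgroup.inclusion_injective hR).comp (MonoidHom.ofInjective hΦ).injective)
    have h := map_derivedSeries_le_derivedSeries F' (Nat.log p m)
    rw [hbot, le_bot_iff] at h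
    exact (Subgroup.map_eq_bot_iff_of_injective _ hF').1 h

end Cfsg.Agent.S4015
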