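import Cfsg.Statements.S2648
import Mathlib
import Cfsg.Agent.S4014
import Cfsg.Agent.S4015
import Cfsg.Agent.Lib.LinearBlock.SympWreath
import Cfsg.Agent.Lib.Classical.SL2Sylow

set_option autoImplicit false
open Cfsg

namespace Cfsg.Agent.S2648


open scoped commutatorElement

/-- the coordinate permutations as automorphisms of a power -/
def powAct (C X : Type*) [Group C] : Equiv.Perm X →* MulAut (X → C) :=
  MonoidHom.mk' (fun σ => MulEquiv.arrowCongr σ (MulEquiv.refl C)) (fun σ τ => by ext v x; rfl)

theorem powAct_apply (C X : Type*) [Group C] (σ : Equiv.Perm X) (v : X → C) (x : X) :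
    powAct C X σ v x = v (σ.symm x) := rfl

/-- the full wreath product -/
abbrev W (C X : Type*) [Group C] := (X → C) ⋊[powAct C X] Equiv.Perm X

section Step

variable {C X D Q : Type*} [Group C] [Group D] [Group Q] (g : D →* W C X)

/-- the permutation part of the iterated action -/
def stepPerm (w : D ≀ᵣ Q) : Equiv.Perm (Q × X) where
  toFun z := (w.right * z.1, (g (w.left (w.right * z.1))).right z.2)
  invFun z := (w.right⁻¹ * z.1, (g (w.left z.1)).right.symm z.2)
  left_inv z := by simp
  right_inv z := by simp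

/-- the iterated action -/
noncomputable def stepHom : (D ≀ᵣ Q) →* W C (Q × X) :=
  MonoidHom.mk' (fun w => ⟨fun z => (g (w.left z.1)).left z.2, stepPerm g w⟩) (fun w w' => by
    refine SemidirectProduct.ext (funext fun z => ?_) (Equiv.ext fun z => ?_)
    · show (g ((w * w').left z.1)).left z.2 =
        (g (w.left z.1)).left z.2 * (g (w'.left (w.right⁻¹ * z.1))).left ((g (w.left z.1)).right.symm z.2)
      rw [RegularWreathProduct.mul_left, Pi.mul_apply, map_mul, SemidirectProduct.mul_left, Pi.mul_apply,
        powAct_apply]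
    · show ((w * w').right * z.1, (g ((w * w').left ((w * w').right * z.1))).right z.2) =
        (w.right * (w'.right * z.1), (g (w.left (w.right * (w'.right * z.1)))).right
          ((g (w'.left (w'.right * z.1))).right z.2))
      rw [RegularWreathProduct.mul_right, mul_assoc, RegularWreathProduct.mul_left, Pi.mul_apply, map_mul,
        SemidirectProduct.mul_right, inv_mul_cancel_left]
      rfl)

theorem stepHom_injective [Nonempty X] (hg : Function.Injective g) :
    Function.Injective (stepHom (Q := Q) g) := by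
  rw [injective_iff_map_eq_one]
  intro w hw
  obtain ⟨x⟩ := (inferInstance : Nonempty X)
  have hr : w.right = 1 := by
    have := congrArg Prod.fst (Equiv.Perm.congr_fun (congrArg SemidirectProduct.right hw) ((1 : Q), x))
    simpa [stepHom, stepPerm] using this
  refine RegularWreathProduct.ext (funext fun r => hg ?_) hr
  rw [show (1 : D ≀ᵣ Q).left r = 1 from rfl, map_one]
  refine SemidirectProduct.ext (funext fun y => ?_) (Equiv.ext fun y => ?_)
  · exact congrFun (congrArg SemidirectProduct.left hw) (r, y)
  · have h1 := congrArg Prod.snd (Equiv.Perm.congr_fun (congrArg SemidirectProduct.right hw) (r, y))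
    simpa [stepHom, stepPerm, hr] using h1

end Step

section Extend

variable {C X Y : Type*} [Group C] (ι : X ↪ Y)

open Classical in
/-- extension of the coordinate set -/
noncomputable def extendHom : W C X →* W C Y :=
  MonoidHom.mk' (fun w => ⟨Function.extend ι w.left 1, Equiv.Perm.viaEmbeddingHom ι w.right⟩) (fun w w' => by
    refine SemidirectProduct.ext ?_ (map_mul _ _ _)
    funext y
    show Function.extend ι (w * w').left 1 y = Function.extend ι w.left 1 y *
      Function.extend ι w'.left 1 ((Equiv.Perm.viaEmbedding w.right ι).symm y)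
    by_cases hy : y ∈ Set.range ι
    · obtain ⟨x, rfl⟩ := hy
      have hs : (Equiv.Perm.viaEmbedding w.right ι).symm (ι x) = ι (w.right.symm x) := by
        rw [Equiv.symm_apply_eq, Equiv.Perm.viaEmbedding_apply, Equiv.apply_symm_apply]
      rw [hs, ι.injective.extend_apply, ι.injective.extend_apply, ι.injective.extend_apply,
        SemidirectProduct.mul_left, Pi.mul_apply, powAct_apply]
    · have hs : (Equiv.Perm.viaEmbedding w.right ι).symm y = y := by
        rw [Equiv.symm_apply_eq, Equiv.Perm.viaEmbedding_apply_of_notMem _ _ _ hy]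
      rw [hs, Function.extend_apply' _ _ _ hy, Function.extend_apply' _ _ _ hy,
        Function.extend_apply' _ _ _ hy]
      simp)

theorem extendHom_injective : Function.Injective (extendHom (C := C) ι) := fun w w' h =>
  SemidirectProduct.ext (funext fun x => by
    have := congrFun (congrArg SemidirectProduct.left h) (ι x)
    simpa [extendHom, ι.injective.extend_apply] using this)
    (Equiv.Perm.viaEmbeddingHom_injective ι (congrArg SemidirectProduct.right h))

end Extend

theorem tower2 {C : Type*} [Group C] {D0 : Type} [Group D0] [Finite D0] (hp : IsPGroup 2 D0)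
    (h1 : derivedSeries D0 1 ≠ ⊥) (f : D0 →* C) (hf : Function.Injective f) : ∀ j : ℕ,
    ∃ (D : Type) (_ : Group D) (_ : Finite D), IsPGroup 2 D ∧ derivedSeries D (j + 1) ≠ ⊥ ∧
      ∃ (X : Type) (_ : Finite X) (_ : Nonempty X), Nat.card X = 2 ^ j ∧
        ∃ g : D →* W C X, Function.Injective g
  | 0 => by
    refine ⟨D0, inferInstance, inferInstance, hp, h1, Unit, inferInstance, inferInstance, by simp,
      SemidirectProduct.inl.comp (Pi.monoidHom fun _ => f), SemidirectProduct.inl_injective.comp ?_⟩
    intro a b h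
    exact hf (congrFun h ())
  | j + 1 => by
    obtain ⟨D, _, _, hDp, hDj, X, _, _, hX, g, hg⟩ := tower2 hp h1 f hf j
    let Q := Multiplicative (ZMod 2)
    haveI : Nontrivial Q := inferInstanceAs (Nontrivial (ZMod 2))
    refine ⟨D ≀ᵣ Q, inferInstance, inferInstance, ?_, S4015.wreath_step (fun a b => mul_comm a b) hDj,
      Q × X, inferInstance, inferInstance, ?_, stepHom g, stepHom_injective g hg⟩
    · obtain ⟨b, hb⟩ := IsPGroup.iff_card.1 hDp
      refine IsPGroup.of_card (n := b * 2 + 1) ?_
      rw [RegularWreathProduct.card, hb, show Nat.card Q = 2 from Nat.card_zmod 2, ← pow_mul, pow_succ]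
    · rw [Nat.card_prod, show Nat.card Q = 2 from Nat.card_zmod 2, hX, pow_succ']

theorem quaternion_derived (m : ℕ) [NeZero m] :
    derivedSeries (QuaternionGroup m) 2 = ⊥ := by
  have h1 : derivedSeries (QuaternionGroup m) 1 ≤ Subgroup.zpowers (QuaternionGroup.a 1) := by
    rw [derivedSeries_one, commutator_def, Subgroup.commutator_le]
    have hA : ∀ i : ZMod (2 * m), (QuaternionGroup.a i : QuaternionGroup m) ∈ Subgroup.zpowers (QuaternionGroup.a 1) :=
      fun i => ⟨(i.val : ℤ), by
        show (QuaternionGroup.a 1 : QuaternionGroup m) ^ (i.val : ℤ) = _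
        rw [zpow_natCast, QuaternionGroup.a_one_pow, ZMod.natCast_zmod_val]⟩
    intro x _ y _
    have e : ∃ i, ⁅x, y⁆ = QuaternionGroup.a i := by
      cases x <;> cases y <;> exact ⟨_, rfl⟩
    obtain ⟨i, hi⟩ := e
    rw [hi]; exact hA i
  rw [derivedSeries_succ, eq_bot_iff, Subgroup.commutator_le]
  intro x hx y hy
  obtain ⟨a, ha⟩ := h1 hx
  obtain ⟨b, hb⟩ := h1 hy
  rw [Subgroup.mem_bot, commutatorElement_eq_one_iff_mul_comm, ← ha, ← hb]
  exact ((Commute.refl _).zpow_zpow a b).eq


/-- Let q be odd, F a field with q elements and n ≥ 1. A Sylow 2-subgroup R of the symplectic group Sp_{2n}(F) has derived length exactly k + 1, where 2^k ≤ 2n < 2^{k+1}: the (k+1)-st term of its derived series is trivial and the k-th is not. -/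
theorem result {F : Type*} [Field F] [Fintype F] [DecidableEq F] (q : ℕ) (hF : Fintype.card F = q) (hq : Odd q) (n : ℕ) (hn : 1 ≤ n) (R : Sylow 2 ↥(Matrix.symplecticGroup (Fin n) F)) : derivedSeries ↥(R : Subgroup ↥(Matrix.symplecticGroup (Fin n) F)) (Nat.log 2 (2 * n) + 1) = ⊥ ∧ derivedSeries ↥(R : Subgroup ↥(Matrix.symplecticGroup (Fin n) F)) (Nat.log 2 (2 * n)) ≠ ⊥ := by
  classical
  subst hF
  obtain ⟨ℓ, _⟩ := CharP.exists F
  haveI : Fact ℓ.Prime := ⟨CharP.char_is_prime F ℓ⟩
  have hℓ : ℓ ≠ 2 := by
    rintro rfl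
    have := FiniteField.even_card_of_char_two (F := F) (ringChar.eq F 2)
    rw [Nat.odd_iff] at hq; omega
  let S2 := Matrix.SpecialLinearGroup (Fin 2) F
  obtain ⟨Q0, hQ0, x, hx, y, hy, hxy⟩ := SL2Sylow.exists_noncomm_twoGroup (F := F) ℓ hℓ
  obtain ⟨P0, hP0⟩ := hQ0.exists_le_sylow
  obtain ⟨a, -, ⟨e⟩⟩ := SL2Sylow.quaternion_of_twoGroup ℓ hℓ (P0 : Subgroup S2) P0.isPGroup'
    ⟨x, hP0 hx, y, hP0 hy, hxy⟩
  have hlog : Nat.log 2 (2 * n) = Nat.log 2 n + 1 := by
    rw [mul_comm, Nat.log_mul_base (by norm_num) (by omega)]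
  rw [hlog]
  have hemb : ∀ {X : Type} (ι : X ↪ Fin n), ∃ Φ : W S2 X →* Matrix.symplecticGroup (Fin n) F, Function.Injective Φ := by
    intro X ι
    refine ⟨(MonoidHom.mk' (fun w : W S2 (Fin n) => SpWreath.emb (w.left, w.right)) (fun w w' => by
      rw [SpWreath.emb_mul]; rfl)).comp (extendHom ι), ?_⟩
    rw [MonoidHom.coe_comp]
    refine Function.Injective.comp ?_ (extendHom_injective ι)
    intro w w' h
    exact SemidirectProduct.ext (congrArg Prod.fst (SpWreath.emb_injective h))
      (congrArg Prod.snd (SpWreath.emb_injective h))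
  constructor
  · obtain ⟨T⟩ : Nonempty (Sylow 2 (Equiv.Perm (Fin n))) := inferInstance
    let φ : (T : Subgroup (Equiv.Perm (Fin n))) →* MulAut (Fin n → (P0 : Subgroup S2)) :=
      (powAct (P0 : Subgroup S2) (Fin n)).comp (T : Subgroup (Equiv.Perm (Fin n))).subtype
    let M := (Fin n → (P0 : Subgroup S2)) ⋊[φ] (T : Subgroup (Equiv.Perm (Fin n)))
    let Φ : M →* Matrix.symplecticGroup (Fin n) F :=
      MonoidHom.mk' (fun w => SpWreath.emb ((fun i => ((w.left i : (P0 : Subgroup S2)) : S2)), (w.right : Equiv.Perm (Fin n)))) (fun w w' => by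
        rw [SpWreath.emb_mul]; rfl)
    have hΦ : Function.Injective Φ := fun w w' h => by
      have h' := SpWreath.emb_injective h
      exact SemidirectProduct.ext (funext fun i => Subtype.ext (congrFun (congrArg Prod.fst h') i))
        (Subtype.ext (congrArg Prod.snd h'))
    have hcard : Nat.card M = 2 ^ (Nat.card (Matrix.symplecticGroup (Fin n) F)).factorization 2 := by
      rw [Nat.factorization_def _ Nat.prime_two, ← SpWreath.val_eq hq, SemidirectProduct.card, Nat.card_fun,
        Nat.card_fin, P0.card_eq_multiplicity, T.card_eq_multiplicity, Nat.factorization_def _ Nat.prime_two,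
        Nat.factorization_def _ Nat.prime_two, Nat.card_perm, Nat.card_fin, ← pow_mul, ← pow_add]
      congr 1
      have hw : Nat.card (SpWreath.wreath F n) = Nat.card S2 ^ n * n.factorial := by
        rw [SpWreath.card_wreath, TwoByTwo.card_sl_two]
      rw [hw, padicValNat.mul (pow_ne_zero _ Nat.card_pos.ne') n.factorial_ne_zero, padicValNat.pow _ _]
      ring
    let Rc : Sylow 2 (Matrix.symplecticGroup (Fin n) F) := Sylow.ofCard Φ.range (by
      rw [← Nat.card_congr (MonoidHom.ofInjective hΦ).toEquiv, hcard])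
    let iso : M ≃* (R : Subgroup (Matrix.symplecticGroup (Fin n) F)) :=
      (MonoidHom.ofInjective hΦ).trans (Sylow.equiv Rc R)
    have h2 : ∀ j, derivedSeries M (Nat.log 2 n + j) ≤
        (derivedSeries (Fin n → (P0 : Subgroup S2)) j).map SemidirectProduct.inl := by
      intro j
      induction j with
      | zero =>
        have h1 := map_derivedSeries_le_derivedSeries
          (SemidirectProduct.rightHom : M →* (T : Subgroup (Equiv.Perm (Fin n)))) (Nat.log 2 n)
        rw [S4014.derived_bot 2 _ T.isPGroup', le_bot_iff, Subgroup.map_eq_bot_iff] at h1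
        intro w hw
        have hw' : w.right = 1 := h1 hw
        exact ⟨w.left, by simp, SemidirectProduct.ext rfl hw'.symm⟩
      | succ j ih =>
        rw [← Nat.add_assoc, derivedSeries_succ, derivedSeries_succ, Subgroup.map_commutator]
        exact Subgroup.commutator_mono ih ih
    haveI : NeZero (2 ^ a) := ⟨pow_ne_zero _ two_ne_zero⟩
    have hP2 : derivedSeries (P0 : Subgroup S2) 2 = ⊥ := by
      have h := map_derivedSeries_le_derivedSeries e.toMonoidHom 2
      rw [quaternion_derived, le_bot_iff] at h
      exact (Subgroup.map_eq_bot_iff_of_injective _ e.injective).1 h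
    have hpi : derivedSeries (Fin n → (P0 : Subgroup S2)) 2 = ⊥ := by
      rw [eq_bot_iff]
      intro v hv
      refine funext fun i => ?_
      have h := map_derivedSeries_le_derivedSeries
        (Pi.evalMonoidHom (fun _ : Fin n => (P0 : Subgroup S2)) i) 2 ⟨v, hv, rfl⟩
      rw [hP2] at h
      exact h
    have h3 : derivedSeries M (Nat.log 2 n + 1 + 1) = ⊥ := by
      have := h2 2
      rwa [hpi, Subgroup.map_bot, le_bot_iff] at this
    have h4 := map_derivedSeries_le_derivedSeries iso.symm.toMonoidHom (Nat.log 2 n + 1 + 1)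
    rw [h3, le_bot_iff] at h4
    exact (Subgroup.map_eq_bot_iff_of_injective _ iso.symm.injective).1 h4
  · haveI : NeZero (2 ^ a) := ⟨pow_ne_zero _ two_ne_zero⟩
    let f : QuaternionGroup (2 ^ a) →* S2 := (P0 : Subgroup S2).subtype.comp e.symm.toMonoidHom
    have hf : Function.Injective f := (P0 : Subgroup S2).subtype_injective.comp e.symm.injective
    have hd1 : derivedSeries (QuaternionGroup (2 ^ a)) 1 ≠ ⊥ := by
      rw [derivedSeries_one, commutator_def, Ne, eq_bot_iff, Subgroup.commutator_le]
      intro h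
      have := h (e ⟨x, hP0 hx⟩) (Subgroup.mem_top _) (e ⟨y, hP0 hy⟩) (Subgroup.mem_top _)
      rw [Subgroup.mem_bot, commutatorElement_eq_one_iff_mul_comm, ← map_mul, ← map_mul] at this
      exact hxy (congrArg Subtype.val (e.injective this))
    obtain ⟨D, _, _, hDp, hDj, X, _, _, hX, g, hg⟩ := tower2 (P0.isPGroup'.of_equiv e) hd1 f hf (Nat.log 2 n)
    let ι : X ↪ Fin n := (Finite.equivFinOfCardEq hX).toEmbedding.trans
      (Fin.castLEEmb (Nat.pow_log_le_self 2 (by omega)))
    obtain ⟨Φ, hΦ⟩ := hemb ι
    have hinj : Function.Injective (Φ.comp g) := hΦ.comp hg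
    obtain ⟨T, hT⟩ := (hDp.of_equiv (MonoidHom.ofInjective hinj)).exists_le_sylow
    intro hbot
    apply hDj
    let F' : D →* (R : Subgroup (Matrix.symplecticGroup (Fin n) F)) :=
      (Sylow.equiv T R).toMonoidHom.comp ((Subgroup.inclusion hT).comp (MonoidHom.ofInjective hinj).toMonoidHom)
    have hF' : Function.Injective F' := (Sylow.equiv T R).injective.comp
      ((Subgroup.inclusion_injective hT).comp (MonoidHom.ofInjective hinj).injective)
    have h := map_derivedSeries_le_derivedSeries F' (Nat.log 2 n + 1)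
    rw [hbot, le_bot_iff] at h
    exact (Subgroup.map_eq_bot_iff_of_injective _ hF').1 h

end Cfsg.Agent.S2648
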