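import Cfsg.Statements.S2651
import Cfsg.Agent.Lib.ExtM23.Cocode
import Cfsg.Agent.Lib.ExtM23.Iso

set_option autoImplicit false
open Cfsg
open Cfsg.Agent

namespace Cfsg.Agent.S2651

/-- The non-split extension of the Mathieu group M₂₃ by its cocode module is unique. Suppose E and E' are finite groups, each with a normal subgroup (N, N'), an isomorphism of the quotient onto M₂₃ = `Spor.M23`, and a surjective additive homomorphism from the binary words on the 24 points `GolayPt` onto the normal subgroup with kernel the Golay code `golayCode` together with its translate by the unit vector at the extra point `none`, intertwining the coordinate permutation w ↦ w ∘ σ⁻¹ (σ the image of gN) with conjugation by g; and suppose that in each group the normal subgroup has no complement. Then E and E' are isomorphic. -/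
theorem result
    {E : Type*} [Group E] [Finite E] (N : Subgroup E) [hN : N.Normal]
    (φ : E ⧸ N ≃* ↥Cfsg.Spor.M23) (θ : (Cfsg.GolayPt → ZMod 2) →+ Additive ↥N)
    (hsurj : Function.Surjective θ)
    (hker : ∀ w : Cfsg.GolayPt → ZMod 2, θ w = 0 ↔ (w ∈ Cfsg.golayCode ∨ w + Pi.single none 1 ∈ Cfsg.golayCode))
    (hθ : ∀ (g : E) (w : Cfsg.GolayPt → ZMod 2),
      ((θ (w ∘ ⇑(((φ (QuotientGroup.mk g) : ↥Cfsg.Spor.M23) : Equiv.Perm Cfsg.GolayPt)⁻¹))).toMul : E)
        = g * ((θ w).toMul : E) * g⁻¹)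
    (hns : ∀ H : Subgroup E, H ⊓ N = ⊥ → H ⊔ N ≠ ⊤)
    {E' : Type*} [Group E'] [Finite E'] (N' : Subgroup E') [hN' : N'.Normal]
    (φ' : E' ⧸ N' ≃* ↥Cfsg.Spor.M23) (θ' : (Cfsg.GolayPt → ZMod 2) →+ Additive ↥N')
    (hsurj' : Function.Surjective θ')
    (hker' : ∀ w : Cfsg.GolayPt → ZMod 2, θ' w = 0 ↔ (w ∈ Cfsg.golayCode ∨ w + Pi.single none 1 ∈ Cfsg.golayCode))
    (hθ' : ∀ (g : E') (w : Cfsg.GolayPt → ZMod 2),
      ((θ' (w ∘ ⇑(((φ' (QuotientGroup.mk g) : ↥Cfsg.Spor.M23) : Equiv.Perm Cfsg.GolayPt)⁻¹))).toMul : E')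
        = g * ((θ' w).toMul : E') * g⁻¹)
    (hns' : ∀ H : Subgroup E', H ⊓ N' = ⊥ → H ⊔ N' ≠ ⊤) :
    Nonempty (E ≃* E') := by
  have hk : (φ.toMonoidHom.comp (QuotientGroup.mk' N)).ker = N :=
    (MonoidHom.ker_mulEquiv_comp (QuotientGroup.mk' N) φ).trans (QuotientGroup.ker_mk' N)
  have hk' : (φ'.toMonoidHom.comp (QuotientGroup.mk' N')).ker = N' :=
    (MonoidHom.ker_mulEquiv_comp (QuotientGroup.mk' N') φ').trans (QuotientGroup.ker_mk' N')
  obtain ⟨ι, lift, hS, hι, hl, hr⟩ := ExtM23.cocode_lifts _ N θ hk hsurj hθ hker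
    (φ.surjective.comp (QuotientGroup.mk'_surjective N)) hns
  obtain ⟨ι', lift', hS', hι', hl', hr'⟩ := ExtM23.cocode_lifts _ N' θ' hk' hsurj' hθ' hker'
    (φ'.surjective.comp (QuotientGroup.mk'_surjective N')) hns'
  exact ExtM23.exists_iso ExtM23.m23_check ExtM23.cocode_base ExtM23.cocode_subs ExtM23.cocode_odd
    (ExtM23.cocode_ext _ N θ hk hsurj hθ) (ExtM23.cocode_ext _ N' θ' hk' hsurj' hθ')
    (fun w => (ExtM23.cocode_rel_one N θ hker w).trans (ExtM23.cocode_rel_one N' θ' hker' w).symm)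
    hS hS' hι hι' hl hl' hr hr'

end Cfsg.Agent.S2651
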