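import Cfsg.Statements.S2652
import Cfsg.Agent.Lib.FischerPresented.Fi23Two
-- import your own Cfsg.Agent.* helpers here

set_option autoImplicit false
open Cfsg Cfsg.Agent.FischerPresented

namespace Cfsg.Agent.S2652

/-- Let T be a Sylow 2-subgroup of the Fischer group Fi₂₃ (the finitely presented group `Spor.Fi23`; T has order 2¹⁸). Then every elementary abelian subgroup of Fi₂₃ contained in T and normal in T has order at most 2¹¹, and there is exactly one such subgroup of order 2¹¹. -/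
theorem result
    (T : Sylow 2 Cfsg.Spor.Fi23) :
    (∀ A : Subgroup Cfsg.Spor.Fi23, A ≤ T → (A.subgroupOf T).Normal → Cfsg.IsElementaryAbelian 2 A →
        Nat.card A ≤ 2 ^ 11) ∧
    ∃! A : Subgroup Cfsg.Spor.Fi23, A ≤ T ∧ (A.subgroupOf T).Normal ∧ Cfsg.IsElementaryAbelian 2 A ∧
        Nat.card A = 2 ^ 11 := by
  classical
  haveI : Finite Cfsg.Spor.Fi23 := Fi23.order_facts.1
  haveI : Fact (Nat.Prime 2) := ⟨Nat.prime_two⟩
  let T₀ : Subgroup Cfsg.Spor.Fi23 := Fi23Two.T0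
  let A₀ : Subgroup Cfsg.Spor.Fi23 := Fi23Two.A0
  have hT₀ : Nat.card T₀ = 2 ^ 18 := Fi23Two.card_T0
  have hcard : Nat.card Cfsg.Spor.Fi23 = 4089470473293004800 := Fi23.order_facts.2.1
  have hfac : Nat.card T₀ = 2 ^ (Nat.card Cfsg.Spor.Fi23).factorization 2 := by
    rw [hT₀, hcard]
    congr 1
    rw [show (4089470473293004800 : ℕ) = 2 ^ 18 * 15600091832325 by norm_num,
      Nat.factorization_mul (by norm_num) (by norm_num), Finsupp.add_apply,
      Nat.Prime.factorization_pow Nat.prime_two, Finsupp.single_eq_same,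
      Nat.factorization_eq_zero_of_not_dvd (by norm_num)]
  obtain ⟨g, hg⟩ := MulAction.exists_smul_eq Cfsg.Spor.Fi23 (Sylow.ofCard T₀ hfac) T
  set φ : Cfsg.Spor.Fi23 ≃* Cfsg.Spor.Fi23 := MulAut.conj g with hφ
  have hT : (T : Subgroup Cfsg.Spor.Fi23) = T₀.map φ.toMonoidHom := by
    rw [← hg]
    rfl
  have hel : ∀ (ψ : Cfsg.Spor.Fi23 ≃* Cfsg.Spor.Fi23) (B : Subgroup Cfsg.Spor.Fi23),
      Cfsg.IsElementaryAbelian 2 B → Cfsg.IsElementaryAbelian 2 (B.map ψ.toMonoidHom) := by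
    intro ψ B hB
    refine ⟨⟨⟨fun x y => ?_⟩⟩, ?_⟩
    · obtain ⟨a, ha, hx⟩ := x.2
      obtain ⟨b, hb, hy⟩ := y.2
      refine Subtype.ext ?_
      show (x : Cfsg.Spor.Fi23) * y = y * x
      rw [← hx, ← hy, ← map_mul, ← map_mul]
      exact congrArg ψ (congrArg Subtype.val (hB.1.is_comm.comm ⟨a, ha⟩ ⟨b, hb⟩))
    · rintro _ ⟨a, ha, rfl⟩
      rw [← map_pow, hB.2 a ha, map_one]
  have key : ∀ A : Subgroup Cfsg.Spor.Fi23, A ≤ T → Cfsg.IsElementaryAbelian 2 A →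
      Nat.card A ≤ 2 ^ 11 ∧ (Nat.card A = 2 ^ 11 → A = A₀.map φ.toMonoidHom) := by
    intro A hA he
    have hle : A.map φ.symm.toMonoidHom ≤ T₀ := by
      rintro _ ⟨a, ha, rfl⟩
      obtain ⟨t, ht, rfl⟩ := (hT ▸ hA ha : a ∈ T₀.map φ.toMonoidHom)
      simpa using ht
    have h1 := Fi23Two.elementary_le hle (hel φ.symm A he)
    have h2 : Nat.card (A.map φ.symm.toMonoidHom) = Nat.card A :=
      Subgroup.card_map_of_injective φ.symm.injective
    refine ⟨h2 ▸ h1.1, fun hc => ?_⟩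
    have h3 : A.map φ.symm.toMonoidHom = A₀ := h1.2 (h2.trans hc)
    rw [← h3, Subgroup.map_map]
    ext x
    simp
  refine ⟨fun A hA _ he => (key A hA he).1, A₀.map φ.toMonoidHom, ⟨?_, ?_, ?_, ?_⟩,
    fun A hA => (key A hA.1 hA.2.2.1).2 hA.2.2.2⟩
  · rw [hT]
    exact Subgroup.map_mono Fi23Two.A0_le
  · constructor
    intro x hx t
    rw [Subgroup.mem_subgroupOf] at hx ⊢
    obtain ⟨a, ha, hax⟩ := hx
    obtain ⟨s, hs, hst⟩ := (hT ▸ t.2 : (t : Cfsg.Spor.Fi23) ∈ T₀.map φ.toMonoidHom)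
    refine ⟨s * a * s⁻¹, Fi23Two.A0_conj hs ha, ?_⟩
    rw [map_mul, map_mul, map_inv, hax, hst]
    rfl
  · exact hel φ A₀ Fi23Two.A0_elementary
  · exact (Subgroup.card_map_of_injective φ.injective).trans Fi23Two.card_A0

end Cfsg.Agent.S2652
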