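import Cfsg.Statements.S2653
import Cfsg.Agent.Lib.AltSection.Reduce
import Mathlib.RingTheory.Algebraic.Integral
import Mathlib.LinearAlgebra.Matrix.GeneralLinearGroup.Defs

set_option autoImplicit false
open scoped MatrixGroups
open Cfsg

namespace Cfsg.Agent.S2653

/-- Alternating sections of finite linear groups. Let `F` be a finite field of characteristic `p` and `n` a natural number, and suppose some subgroup `H` of GL_n(F) has a normal subgroup `K` with `H ⧸ K` isomorphic to the alternating group of degree `r ≥ 9`. Then `n ≥ r - 2` when `p` divides `r`, and `n ≥ r - 1` otherwise (the smallest degree of a nontrivial projective representation of that alternating group in characteristic `p`). The same bound follows for every classical group with natural module of dimension `n` over `F`, since each is a section of a subgroup of GL_n(F). -/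
theorem result {F : Type*} [Field F] [Fintype F] (p : ℕ) [Fact p.Prime] [CharP F p]
    (n : ℕ) (r : ℕ) (H : Subgroup (GL (Fin n) F)) (K : Subgroup ↥H) [K.Normal]
    (h : Nonempty (↥H ⧸ K ≃* ↥(alternatingGroup (Fin r)))) (hr : 9 ≤ r) :
    r - 1 - (if p ∣ r then 1 else 0) ≤ n := by
  classical
  obtain ⟨e0⟩ := h
  letI : Algebra (ZMod p) F := ZMod.algebra F p
  haveI : Module.Finite (ZMod p) F := Module.Finite.of_finite
  haveI : Algebra.IsAlgebraic (ZMod p) F := Algebra.IsAlgebraic.of_finite (ZMod p) F
  let k0 := AlgebraicClosure (ZMod p)
  let ι : F →+* k0 := (IsAlgClosed.lift : F →ₐ[ZMod p] k0).toRingHom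
  let f : ↥H →* GL (Fin n) k0 := (Matrix.GeneralLinearGroup.map ι).comp H.subtype
  have hf : Function.Injective f := by
    intro x y hxy
    refine Subtype.ext (Units.ext (Matrix.map_injective ι.injective ?_))
    exact congr_arg (fun g : GL (Fin n) k0 => (g : Matrix (Fin n) (Fin n) k0)) hxy
  haveI : Finite f.range := Finite.of_equiv _ (MonoidHom.ofInjective hf).toEquiv
  let π : f.range →* ↥(alternatingGroup (Fin r)) :=
    e0.toMonoidHom.comp ((QuotientGroup.mk' K).comp (MonoidHom.ofInjective hf).symm.toMonoidHom)
  let ρ : f.range →* Module.End k0 (Fin n → k0) :=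
    (Matrix.toLinAlgEquiv' (R := k0)).toMonoidHom.comp
      ((Units.coeHom _).comp f.range.subtype)
  have hρ : Function.Injective ρ :=
    (Matrix.toLinAlgEquiv' (R := k0)).injective.comp
      (Units.val_injective.comp f.range.subtype_injective)
  have hπ : Function.Surjective π :=
    e0.surjective.comp ((QuotientGroup.mk'_surjective K).comp (MonoidHom.ofInjective hf).symm.surjective)
  haveI : CharP k0 p := charP_of_injective_algebraMap (algebraMap (ZMod p) k0).injective p
  rcases AltSection.claim_all hr n k0 (Fin n → k0) f.range ρ π hρ hπ (by simp) with hb | ⟨h0, hb⟩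
  · split_ifs <;> omega
  · rw [CharP.cast_eq_zero_iff k0 p] at h0
    rw [if_pos h0]
    omega

end Cfsg.Agent.S2653
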