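import Cfsg.Statements.S2663
import Cfsg.Agent.Lib.ChevAut.SubfieldGroup
import Cfsg.Agent.Lib.Lie.TabF4

set_option autoImplicit false
set_option maxRecDepth 8000
open scoped MatrixGroups
open Cfsg

namespace Cfsg.Agent.S2663

/-- Centralizers of field automorphisms of prime order, type F₄. Let `F` be a finite field and `G` the Chevalley group of type F₄ over `F` (for this type the group generated by the root elements is the whole group of rational points, with trivial centre). Let `φ` be a field automorphism of `G` (it sends each root element `x_s(t)` to `x_s(σ t)` for a fixed automorphism `σ` of `F`) whose order is a prime `r`. Then `F` has `q₀ ^ r` elements for some prime power `q₀`, and the subgroup of elements fixed by `φ` is isomorphic to the Chevalley group of type F₄ over a field with `q₀` elements. -/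
theorem result {F : Type*} [Field F] [Fintype F]
    (φ : MulAut ↥(Cfsg.Lie.chevF4.group F)) (hφ : Cfsg.Lie.chevF4.IsFieldAut φ) (r : ℕ) (hr : r.Prime) (ho : orderOf φ = r) :
    ∃ (F₀ : Type) (_ : Field F₀) (_ : Fintype F₀), Fintype.card F = Fintype.card F₀ ^ r ∧
      Nonempty (↥((MulEquiv.toMonoidHom φ).eqLocus (MonoidHom.id ↥(Cfsg.Lie.chevF4.group F))) ≃* ↥(Cfsg.Lie.chevF4.group F₀)) := by
  have hT : Chev.F4Data.tab.GoodA := ⟨Chev.F4Data.good, by decide +kernel⟩
  obtain ⟨K, iK, iK', hcard, he⟩ := ChevAut.fixed_points_equiv (F := F) hT (d := 1)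
    (M := [[2, 3, 2, 1], [3, 6, 4, 2], [4, 8, 6, 3], [2, 4, 3, 2]]) (by decide +kernel) (fun a b h => by simpa using h) hφ
    ((MulEquiv.toMonoidHom φ).eqLocus (MonoidHom.id ↥(Cfsg.Lie.chevF4.group F))) (fun _ => Iff.rfl)
  have _ := hr
  exact ⟨K, iK, iK', ho ▸ hcard, he⟩

end Cfsg.Agent.S2663
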