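import Cfsg.Statements.S2665
-- import your own Cfsg.Agent.* helpers here

set_option autoImplicit false
open scoped MatrixGroups
open Cfsg

namespace Cfsg.Agent.S2665

open Module Polynomial Matrix

variable {K : Type*} [Field K] [IsAlgClosed K] {N : ℕ}

theorem exists_root (hN : 1 < N) (c : K) (_h0 : (1 : K) ≠ 0) : ∃ y : K, y ^ N - y + c = 0 := by
  have hd : (X ^ N + (-X + C c) : K[X]).degree = N := by
    have h1 : (-X + C c : K[X]).degree ≤ 1 :=
      (degree_add_le _ _).trans (max_le (by rw [degree_neg]; exact degree_X_le)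
        (degree_C_le.trans zero_le_one))
    rw [degree_add_eq_left_of_degree_lt, degree_X_pow]
    rw [degree_X_pow]
    exact lt_of_le_of_lt h1 (by exact_mod_cast hN)
  obtain ⟨y, hy⟩ := IsAlgClosed.exists_root (X ^ N + (-X + C c) : K[X])
    (by rw [hd]; exact_mod_cast (by omega : N ≠ 0))
  refine ⟨y, ?_⟩
  simpa [IsRoot, sub_eq_add_neg, add_assoc] using hy

/-- A semilinear injective map has a nonzero fixed vector. -/
theorem exists_fixed {V : Type*} [AddCommGroup V] [Module K V] [FiniteDimensional K V]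
    (τ : K ≃+* K) (hN : 1 < N) (hτ : ∀ a, τ a = a ^ N)
    (φ : V → V) (hadd : ∀ x y, φ (x + y) = φ x + φ y) (hsmul : ∀ (a : K) x, φ (a • x) = τ a • φ x)
    (hinj : Function.Injective φ) {v : V} (hv : v ≠ 0) : ∃ w : V, w ≠ 0 ∧ φ w = w := by
  classical
  let u : ℕ → V := fun i => φ^[i] v
  have hu : ∀ i, φ (u i) = u (i + 1) := fun i => (Function.iterate_succ_apply' φ i v).symm
  have hφ0 : φ 0 = 0 := by
    have := hadd 0 0
    rw [add_zero] at this
    exact left_eq_add.1 this
  have hφs : ∀ (s : Finset ℕ) (c : ℕ → K), φ (∑ i ∈ s, c i • u i) = ∑ i ∈ s, τ (c i) • u (i + 1) := by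
    intro s c
    induction s using Finset.induction with
    | empty => simp [hφ0]
    | insert a s ha ih => rw [Finset.sum_insert ha, Finset.sum_insert ha, hadd, hsmul, hu, ih]
  have hex : ∃ k, ∃ a : ℕ → K, u k = ∑ i ∈ Finset.range k, a i • u i := by
    by_contra hno
    push Not at hno
    have hli : ∀ k, LinearIndependent K (fun i : Fin k => u i) := by
      intro k
      induction k with
      | zero => exact linearIndependent_empty_type
      | succ k ih =>
        rw [linearIndependent_fin_succ']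
        refine ⟨ih, fun hmem => ?_⟩
        obtain ⟨c, hc⟩ := (Submodule.mem_span_range_iff_exists_fun K).1 hmem
        refine hno k (fun i => if h : i < k then c ⟨i, h⟩ else 0) ?_
        rw [show u k = u (Fin.last k) from rfl, ← hc,
          ← Fin.sum_univ_eq_sum_range (fun i => (if h : i < k then c ⟨i, h⟩ else 0) • u i) k]
        refine Finset.sum_congr rfl fun i _ => ?_
        simp [Fin.init]
    have := (hli (finrank K V + 1)).fintype_card_le_finrank
    rw [Fintype.card_fin] at this
    omega
  set k := Nat.find hex with hk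
  obtain ⟨a, ha⟩ := Nat.find_spec hex
  obtain ⟨j, hj⟩ : ∃ j, k = j + 1 := by
    refine Nat.exists_eq_succ_of_ne_zero fun e => hv ?_
    rw [← hk, e] at ha
    simpa [u] using ha
  rw [← hk, hj] at ha
  have hmin : ∀ b : ℕ → K, u j ≠ ∑ i ∈ Finset.range j, b i • u i := fun b e =>
    Nat.find_min hex (by omega : j < Nat.find hex) ⟨b, e⟩
  -- the polynomials
  obtain ⟨P, hP0, hP⟩ : ∃ P : ℕ → K[X],
      P 0 = C (a 0) * X ^ N ∧ ∀ i, P (i + 1) = P i ^ N + C (a (i + 1)) * X ^ N :=
    ⟨fun i => Nat.rec (C (a 0) * X ^ N) (fun i q => q ^ N + C (a (i + 1)) * X ^ N) i, rfl,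
      fun _ => rfl⟩
  have ha0 : a 0 ≠ 0 := by
    intro e0
    refine hmin (fun i => τ.symm (a (i + 1))) (hinj ?_)
    rw [hφs, hu, ha, Finset.sum_range_succ', e0, zero_smul, add_zero]
    exact Finset.sum_congr rfl fun i _ => by rw [RingEquiv.apply_symm_apply]
  have hdeg : ∀ i, (P i).natDegree = N ^ (i + 1) := by
    intro i
    induction i with
    | zero => rw [hP0, natDegree_C_mul_X_pow N _ ha0, pow_one]
    | succ i ih =>
      have hlt : (C (a (i + 1)) * X ^ N : K[X]).natDegree < (P i ^ N).natDegree := by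
        rw [natDegree_pow, ih]
        refine lt_of_le_of_lt (natDegree_C_mul_X_pow_le _ _) ?_
        calc N = N * 1 := (mul_one N).symm
          _ < N * N ^ (i + 1) := Nat.mul_lt_mul_of_pos_left (Nat.one_lt_pow (by omega) hN) (by omega)
      rw [hP, natDegree_add_eq_left_of_natDegree_lt hlt, natDegree_pow, ih]
      ring
  have hdvd : ∀ i, ∃ R : K[X], P i = X ^ 2 * R := by
    have hX : ∀ c : K, ∃ R : K[X], C c * X ^ N = X ^ 2 * R := fun c => ⟨X ^ (N - 2) * C c, by
      rw [← mul_assoc, ← pow_add, show 2 + (N - 2) = N by omega, mul_comm]⟩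
    intro i
    induction i with
    | zero => rw [hP0]; exact hX _
    | succ i ih =>
      obtain ⟨R, hR⟩ := ih
      obtain ⟨R', hR'⟩ := hX (a (i + 1))
      refine ⟨(X ^ 2) ^ (N - 1) * R ^ N + R', ?_⟩
      rw [hP, hR, hR', mul_add, ← mul_assoc, ← pow_succ', show N - 1 + 1 = N by omega, mul_pow]
  obtain ⟨R, hR⟩ := hdvd j
  have hR0 : R ≠ 0 := fun e => by
    have := hdeg j
    rw [hR, e, mul_zero, natDegree_zero] at this
    exact (pow_pos (by omega : 0 < N) _).ne this
  have hXR : (X * R - 1 : K[X]).degree ≠ 0 := by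
    have hd : (X * R : K[X]).natDegree = R.natDegree + 1 := by rw [natDegree_X_mul hR0]
    have hne : (X * R : K[X]) ≠ 0 := mul_ne_zero X_ne_zero hR0
    rw [degree_sub_eq_left_of_degree_lt, degree_eq_natDegree hne, hd]
    · exact_mod_cast (Nat.succ_ne_zero R.natDegree)
    · rw [degree_one, degree_eq_natDegree hne, hd]
      exact_mod_cast (Nat.succ_pos R.natDegree)
  obtain ⟨y, hy⟩ := IsAlgClosed.exists_root _ hXR
  have hyR : y * R.eval y = 1 := by simpa [IsRoot, sub_eq_zero] using hy
  have hy0 : y ≠ 0 := fun e => by rw [e, zero_mul] at hyR; exact zero_ne_one hyR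
  have hPy : (P j).eval y = y := by
    rw [hR, eval_mul, eval_pow, eval_X, sq, mul_assoc, hyR, mul_one]
  refine ⟨∑ i ∈ Finset.range (j + 1), (P i).eval y • u i, fun e => ?_, ?_⟩
  · rw [Finset.sum_range_succ, hPy, ← neg_eq_iff_add_eq_zero] at e
    refine hmin (fun i => -y⁻¹ * (P i).eval y) ?_
    simp only [neg_mul, neg_smul, mul_smul, Finset.sum_neg_distrib, ← Finset.smul_sum]
    rw [← smul_neg, e, inv_smul_smul₀ hy0]
  · rw [hφs, Finset.sum_range_succ, ha, hPy, Finset.smul_sum]
    simp only [smul_smul, hτ]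
    rw [Finset.sum_range_succ' _ j, Finset.sum_range_succ' (fun i => (P i).eval y • u i) j,
      ← add_assoc, ← Finset.sum_add_distrib]
    congr 1
    · refine Finset.sum_congr rfl fun i _ => ?_
      rw [← add_smul, hP, eval_add, eval_pow, eval_mul, eval_C, eval_pow, eval_X]
      congr 1
      ring
    · rw [hP0, eval_mul, eval_C, eval_pow, eval_X, mul_comm]

/-- Fixed vectors span. -/
theorem span_fixed {V : Type*} [AddCommGroup V] [Module K V] [FiniteDimensional K V]
    (τ : K ≃+* K) (hN : 1 < N) (hτ : ∀ a, τ a = a ^ N)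
    (φ : V → V) (hadd : ∀ x y, φ (x + y) = φ x + φ y) (hsmul : ∀ (a : K) x, φ (a • x) = τ a • φ x)
    (hinj : Function.Injective φ) : Submodule.span K {v : V | φ v = v} = ⊤ := by
  classical
  set W := Submodule.span K {v : V | φ v = v} with hW
  by_contra hne
  let φl : V →ₛₗ[(τ : K →+* K)] V := { toFun := φ, map_add' := hadd, map_smul' := hsmul }
  have hmap : W ≤ W.comap φl := Submodule.span_le.2 fun v hv =>
    show φ v ∈ W from (show φ v = v from hv).symm ▸ Submodule.subset_span hv
  have hsolve : ∀ w ∈ W, ∀ c : K, ∃ x ∈ W, φ x - x = c • w := by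
    intro w hw
    induction hw using Submodule.span_induction with
    | mem v hv =>
      intro c
      obtain ⟨y, hy⟩ := exists_root (K := K) hN (-c) one_ne_zero
      refine ⟨y • v, W.smul_mem _ (Submodule.subset_span hv), ?_⟩
      rw [hsmul, show φ v = v from hv, ← sub_smul, hτ, show y ^ N - y = c by linear_combination hy]
    | zero => exact fun c => ⟨0, W.zero_mem, by rw [sub_zero, smul_zero]; exact φl.map_zero⟩
    | add x y _ _ hx hy =>
      intro c
      obtain ⟨a, ha, e⟩ := hx c
      obtain ⟨b, hb, e'⟩ := hy c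
      exact ⟨a + b, W.add_mem ha hb, by rw [hadd, smul_add, ← e, ← e']; abel⟩
    | smul d x _ hx =>
      intro c
      rw [smul_smul]
      exact hx _
  let ψ : V ⧸ W →ₛₗ[(τ : K →+* K)] V ⧸ W := W.mapQ W φl hmap
  have hker : ∀ v, φ v ∈ W → v ∈ W := by
    intro v hv
    suffices ∀ w ∈ W, ∃ x ∈ W, φ x = w by
      obtain ⟨x, hx, e⟩ := this _ hv
      exact hinj e ▸ hx
    intro w hw
    induction hw using Submodule.span_induction with
    | mem v hv => exact ⟨v, Submodule.subset_span hv, hv⟩
    | zero => exact ⟨0, W.zero_mem, φl.map_zero⟩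
    | add x y _ _ hx hy =>
      obtain ⟨a, ha, e⟩ := hx
      obtain ⟨b, hb, e'⟩ := hy
      exact ⟨a + b, W.add_mem ha hb, by rw [hadd, e, e']⟩
    | smul c x _ hx =>
      obtain ⟨a, ha, e⟩ := hx
      exact ⟨τ.symm c • a, W.smul_mem _ ha, by rw [hsmul, e, RingEquiv.apply_symm_apply]⟩
  have hψinj : Function.Injective ψ := by
    rw [injective_iff_map_eq_zero]
    intro x hx
    induction x using Submodule.Quotient.induction_on with
    | _ v => exact (Submodule.Quotient.mk_eq_zero W).2 (hker v ((Submodule.Quotient.mk_eq_zero W).1 hx))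
  obtain ⟨v, hv⟩ : ∃ v, v ∉ W := by
    by_contra h
    push Not at h
    exact hne (eq_top_iff.2 fun x _ => h x)
  obtain ⟨w, hw0, hw⟩ := exists_fixed τ hN hτ (fun x => ψ x) (map_add ψ) (fun a x => ψ.map_smulₛₗ a x)
    hψinj (v := Submodule.Quotient.mk v) (fun e => hv ((Submodule.Quotient.mk_eq_zero W).1 e))
  induction w using Submodule.Quotient.induction_on with
  | _ w =>
    obtain ⟨x, hx, e⟩ := hsolve (φ w - w) ((Submodule.Quotient.eq W).1 hw) 1
    refine hw0 ((Submodule.Quotient.mk_eq_zero W).2 ?_)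
    have hfix : w - x ∈ W := Submodule.subset_span (show φ (w - x) = w - x from by
      have e2 : φ (w - x) = φ w - φ x := φl.map_sub w x
      rw [e2, sub_eq_sub_iff_sub_eq_sub, e, one_smul])
    simpa using W.add_mem hfix hx

set_option maxHeartbeats 1600000 in
/-- The Lang–Steinberg Theorem for the general linear group. Let `K` be an algebraically closed field of prime characteristic `p`, let `q = p^f` with `f ≥ 1`, and let `σ` be the endomorphism of GL_n(K) raising every matrix entry to the `q`-th power. Then every element `g` of GL_n(K) can be written `g = x · σ(x)⁻¹` for some `x` in GL_n(K): the map `x ↦ x σ(x)⁻¹` is surjective. -/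
theorem result {K : Type*} [Field K] [IsAlgClosed K] (p : ℕ) [Fact p.Prime] [CharP K p]
    (f : ℕ) (hf : 1 ≤ f) (n : ℕ) (g : GL (Fin n) K) :
    ∃ x : GL (Fin n) K, g = x * (Matrix.GeneralLinearGroup.map (iterateFrobenius K p f) x)⁻¹ := by
  classical
  have hN : 1 < p ^ f := Nat.one_lt_pow (by omega) (Fact.out : p.Prime).one_lt
  haveI : PerfectRing K p := PerfectField.toPerfectRing p
  set τ : K ≃+* K := iterateFrobeniusEquiv K p f with hτ
  have hτa : ∀ a, τ a = a ^ p ^ f := fun a => iterateFrobeniusEquiv_def K p f a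
  let φ : (Fin n → K) → (Fin n → K) := fun v => (g : Matrix (Fin n) (Fin n) K) *ᵥ fun i => τ (v i)
  have hadd : ∀ x y, φ (x + y) = φ x + φ y := fun x y => by
    show _ *ᵥ _ = _
    simp only [Pi.add_apply, map_add]
    exact Matrix.mulVec_add _ _ _
  have hsmul : ∀ (a : K) x, φ (a • x) = τ a • φ x := fun a x => by
    show _ *ᵥ _ = τ a • (_ *ᵥ _)
    rw [← Matrix.mulVec_smul]
    simp only [Pi.smul_apply, smul_eq_mul, map_mul]
    rfl
  have hinj : Function.Injective φ := fun x y h => funext fun i =>
    τ.injective (congrFun (Matrix.mulVec_injective_iff_isUnit.2 g.isUnit h) i)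
  obtain ⟨b, hbs, hbspan, hbli⟩ := exists_linearIndependent K {v : Fin n → K | φ v = v}
  rw [span_fixed τ hN hτa φ hadd hsmul hinj] at hbspan
  let B := Module.Basis.mk hbli (by simpa using hbspan.ge)
  haveI : Fintype b := FiniteDimensional.fintypeBasisIndex B
  have hcard : Fintype.card b = n := by
    rw [← Module.finrank_eq_card_basis B, Module.finrank_pi, Fintype.card_fin]
  let e : Fin n ≃ b := (finCongr hcard.symm).trans (Fintype.equivFin b).symm
  let M : Matrix (Fin n) (Fin n) K := Matrix.of fun i j => ((e j : Fin n → K)) i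
  have hM : IsUnit M := Matrix.linearIndependent_cols_iff_isUnit.1 (hbli.comp e e.injective)
  have hx : (g : Matrix (Fin n) (Fin n) K) * M.map (iterateFrobenius K p f) = M := by
    ext i j
    exact congrFun (show φ (e j : Fin n → K) = (e j : Fin n → K) from hbs (e j).2) i
  refine ⟨hM.unit, eq_mul_inv_of_mul_eq (Units.ext ?_)⟩
  exact hx

end Cfsg.Agent.S2665
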