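import Cfsg.Statements.S2669
import Cfsg.Agent.Lib.Shintani.Basic

set_option autoImplicit false
open Cfsg

namespace Cfsg.Agent.S2669

/-- Shintani descent preserves numbers of fixed points on coset spaces (abstract form). Let `σ` be an automorphism of a group `X` and `e ≥ 1`; write `G` for the fixed points of `σᵉ` and `H` for the fixed points of `σ`, and assume `G` is finite. Let `Y` be a `σ`-stable subgroup of `X` on which the maps `a ↦ a σ(a)⁻¹` and `a ↦ a σᵉ(a)⁻¹` are surjective (as for a closed connected `σ`-stable subgroup of an algebraic group). Let `g ∈ G`, let `a ∈ X` satisfy `g = a σ(a)⁻¹` and put `x = σᵉ(a)⁻¹ a` (the Shintani image, an element of `H`). The element `g σ` of the semidirect product acts on the cosets of `Y ∩ G` in `G` by `k (Y ∩ G) ↦ g σ(k) (Y ∩ G)`, fixing that coset exactly when `k⁻¹ g σ(k) ∈ Y`; and `x` fixes the coset `h (Y ∩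 H)` of `H` exactly when `h⁻¹ x h ∈ Y`. Then the two numbers of fixed cosets agree; in cross-multiplied form, `#{k ∈ G : k⁻¹ g σ(k) ∈ Y} · |Y ∩ H| = #{h ∈ H : h⁻¹ x h ∈ Y} · |Y ∩ G|`. -/
theorem result {X : Type*} [Group X] (σ : MulAut X) (e : ℕ) (he : 1 ≤ e)
    [Finite ↥((MulEquiv.toMonoidHom (σ ^ e)).eqLocus (MonoidHom.id X))]
    (Y : Subgroup X) (hY : ∀ y : X, y ∈ Y ↔ σ y ∈ Y)
    (hYL : ∀ y ∈ Y, ∃ a ∈ Y, y = a * (σ a)⁻¹) (hYLe : ∀ y ∈ Y, ∃ a ∈ Y, y = a * ((σ ^ e) a)⁻¹)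
    (g : X) (hg : g ∈ (MulEquiv.toMonoidHom (σ ^ e)).eqLocus (MonoidHom.id X)) (a : X) (ha : g = a * (σ a)⁻¹) :
    Nat.card {k : ↥((MulEquiv.toMonoidHom (σ ^ e)).eqLocus (MonoidHom.id X)) // (k : X)⁻¹ * g * σ k ∈ Y} *
        Nat.card ↥(Y ⊓ (MulEquiv.toMonoidHom σ).eqLocus (MonoidHom.id X)) =
      Nat.card {h : ↥((MulEquiv.toMonoidHom σ).eqLocus (MonoidHom.id X)) // (h : X)⁻¹ * (((σ ^ e) a)⁻¹ * a) * h ∈ Y} *
        Nat.card ↥(Y ⊓ (MulEquiv.toMonoidHom (σ ^ e)).eqLocus (MonoidHom.id X)) := by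
  obtain ⟨G, hG⟩ : ∃ G, (MulEquiv.toMonoidHom (σ ^ e)).eqLocus (MonoidHom.id X) = G := ⟨_, rfl⟩
  obtain ⟨H, hH⟩ : ∃ H, (MulEquiv.toMonoidHom σ).eqLocus (MonoidHom.id X) = H := ⟨_, rfl⟩
  have memG : ∀ z, z ∈ G ↔ (σ ^ e) z = z := fun z => hG ▸ Iff.rfl
  have memH : ∀ z, z ∈ H ↔ σ z = z := fun z => hH ▸ Iff.rfl
  rw [hG, hH]
  rw [hG, memG] at hg
  have hY' : ∀ (n : ℕ) (y : X), y ∈ Y → (σ ^ n) y ∈ Y := by
    intro n
    induction n with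
    | zero => simp
    | succ n ih => intro y hy; rw [pow_succ, MulAut.mul_apply]; exact ih _ ((hY y).mp hy)
  let C := {p : ↥G × ↥Y // σ (a⁻¹ * (p.1 : X) * (p.2 : X)) = a⁻¹ * (p.1 : X) * (p.2 : X)}
  -- first projection
  have hk : ∀ (k : X) (c : X), σ (a⁻¹ * k * c) = a⁻¹ * k * c ↔ k⁻¹ * g * σ k = c * (σ c)⁻¹ := by
    intro k c
    rw [ha, map_mul, map_mul, map_inv]
    constructor
    · intro h
      calc k⁻¹ * (a * (σ a)⁻¹) * σ k = k⁻¹ * a * ((σ a)⁻¹ * σ k * σ c) * (σ c)⁻¹ := by group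
        _ = c * (σ c)⁻¹ := by rw [h]; group
    · intro h
      calc (σ a)⁻¹ * σ k * σ c = a⁻¹ * k * (k⁻¹ * (a * (σ a)⁻¹) * σ k) * σ c := by group
        _ = a⁻¹ * k * c := by rw [h]; group
  have e1 : Nat.card C = Nat.card {k : ↥G // (k : X)⁻¹ * g * σ k ∈ Y} * Nat.card ↥(Y ⊓ H) := by
    rw [← Nat.card_prod]
    choose c hcY hc using fun k : {k : ↥G // (k : X)⁻¹ * g * σ k ∈ Y} => hYL _ k.2
    refine Nat.card_congr (Equiv.ofBijective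
      (fun p => (⟨⟨p.1.1, (c p.1)⁻¹⁻¹ * (p.2 : X), ?_⟩, ?_⟩ : C)) ⟨?_, ?_⟩).symm
    · rw [inv_inv]; exact Y.mul_mem (hcY _) p.2.2.1
    · rw [hk]
      simp only [inv_inv, map_mul, (memH _).mp p.2.2.2]
      rw [hc p.1]; group
    · rintro ⟨k₁, y₁⟩ ⟨k₂, y₂⟩ h
      have h1 : k₁.1 = k₂.1 := congrArg (fun q : C => q.1.1) h
      obtain rfl : k₁ = k₂ := Subtype.ext h1
      have h2 : (c k₁)⁻¹⁻¹ * (y₁ : X) = (c k₁)⁻¹⁻¹ * (y₂ : X) :=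
        congrArg (fun q : C => (q.1.2 : X)) h
      exact Prod.ext rfl (Subtype.ext (mul_left_cancel h2))
    · rintro ⟨⟨k, y, hy⟩, hky⟩
      have hkK : (k : X)⁻¹ * g * σ k ∈ Y := by
        rw [(hk k y).mp hky]
        exact Y.mul_mem hy (Y.inv_mem ((hY y).mp hy))
      refine ⟨(⟨k, hkK⟩, ⟨(c ⟨k, hkK⟩)⁻¹ * y, Y.mul_mem (Y.inv_mem (hcY _)) hy, ?_⟩), ?_⟩
      · show _ ∈ H
        rw [memH, map_mul, map_inv]
        have h2 := (hc ⟨k, hkK⟩).symm.trans ((hk k y).mp hky)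
        calc (σ (c ⟨k, hkK⟩))⁻¹ * σ y
            = (c ⟨k, hkK⟩)⁻¹ * (c ⟨k, hkK⟩ * (σ (c ⟨k, hkK⟩))⁻¹) * σ y := by group
          _ = _ := by rw [h2]; group
      · simp
  obtain ⟨x, hx⟩ : ∃ x, ((σ ^ e) a)⁻¹ * a = x := ⟨_, rfl⟩
  rw [hx]
  have hh : ∀ h : X, σ h = h → ∀ y : X,
      (σ ^ e) (a * h * y⁻¹) = a * h * y⁻¹ ↔ y⁻¹ * (σ ^ e) y = h⁻¹ * x⁻¹ * h := by
    intro h hfix y
    rw [← hx, map_mul, map_mul, map_inv, Shintani.pow_fix σ hfix]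
    constructor
    · intro hh
      calc y⁻¹ * (σ ^ e) y
          = h⁻¹ * a⁻¹ * (a * h * y⁻¹) * (σ ^ e) y := by group
        _ = _ := by rw [← hh]; group
    · intro hh
      have : (σ ^ e) y = y * (h⁻¹ * (((σ ^ e) a)⁻¹ * a)⁻¹ * h) := by rw [← hh]; group
      rw [this]; group
  have e2 : Nat.card C = Nat.card {h : ↥H // (h : X)⁻¹ * x * h ∈ Y} * Nat.card ↥(Y ⊓ G) := by
    rw [← Nat.card_prod]
    have hex : ∀ h : {h : ↥H // (h : X)⁻¹ * x * h ∈ Y},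
        ∃ y ∈ Y, y⁻¹ * (σ ^ e) y = (h.1 : X)⁻¹ * x⁻¹ * h.1 := by
      intro h
      obtain ⟨z, hzY, hz⟩ := hYLe _ (Y.inv_mem h.2)
      refine ⟨z⁻¹, Y.inv_mem hzY, ?_⟩
      rw [inv_inv, map_inv, ← hz]
      group
    choose y hyY hy using hex
    have hfixH : ∀ h : ↥H, σ (h : X) = h := fun h => (memH _).mp h.2
    have hG' : ∀ p : {h : ↥H // (h : X)⁻¹ * x * h ∈ Y} × ↥(Y ⊓ G),
        a * (p.1.1 : X) * ((p.2 : X) * y p.1)⁻¹ ∈ G := by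
      intro p
      rw [memG, hh _ (hfixH _), mul_inv_rev, map_mul, (memG _).mp p.2.2.2, ← hy]
      group
    refine Nat.card_congr (Equiv.ofBijective
      (fun p => (⟨(⟨_, hG' p⟩, ⟨(p.2 : X) * y p.1, Y.mul_mem p.2.2.1 (hyY _)⟩), by
        have h : a⁻¹ * (a * (p.1.1 : X) * ((p.2 : X) * y p.1)⁻¹) * ((p.2 : X) * y p.1) = p.1.1 := by
          group
        rw [h, hfixH]⟩ : C)) ⟨?_, ?_⟩).symm
    · rintro ⟨h₁, u₁⟩ ⟨h₂, u₂⟩ heq
      have hc2 : (u₁ : X) * y h₁ = (u₂ : X) * y h₂ := congrArg (fun q : C => (q.1.2 : X)) heq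
      have hc1 : a * (h₁.1 : X) * ((u₁ : X) * y h₁)⁻¹ = a * (h₂.1 : X) * ((u₂ : X) * y h₂)⁻¹ :=
        congrArg (fun q : C => (q.1.1 : X)) heq
      rw [hc2] at hc1
      obtain rfl : h₁ = h₂ := Subtype.ext (Subtype.ext (mul_left_cancel (mul_right_cancel hc1)))
      exact Prod.ext rfl (Subtype.ext (mul_right_cancel hc2))
    · rintro ⟨⟨k, c, hcY⟩, hkc⟩
      have hk' : a * (a⁻¹ * (k : X) * c) * c⁻¹ = k := by group
      have hcw := (hh _ hkc c).mp (by rw [hk']; exact (memG _).mp k.2)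
      have hmem : (a⁻¹ * (k : X) * c)⁻¹ * x * (a⁻¹ * (k : X) * c) ∈ Y := by
        rw [show (a⁻¹ * (k : X) * c)⁻¹ * x * (a⁻¹ * (k : X) * c)
          = ((a⁻¹ * (k : X) * c)⁻¹ * x⁻¹ * (a⁻¹ * (k : X) * c))⁻¹ by group, ← hcw]
        exact Y.inv_mem (Y.mul_mem (Y.inv_mem hcY) (hY' e c hcY))
      obtain ⟨h', hh'⟩ : ∃ h' : {h : ↥H // (h : X)⁻¹ * x * h ∈ Y},
          (h'.1 : X) = a⁻¹ * (k : X) * c := ⟨⟨⟨_, (memH _).mpr hkc⟩, hmem⟩, rfl⟩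
      have hu : c * (y h')⁻¹ ∈ Y ⊓ G := by
        refine ⟨Y.mul_mem hcY (Y.inv_mem (hyY _)), (memG _).mpr ?_⟩
        have h1 := hy h'
        rw [hh'] at h1
        rw [map_mul, map_inv,
          show (σ ^ e) (y h') = y h' * ((y h')⁻¹ * (σ ^ e) (y h')) by group, h1, ← hcw]
        group
      refine ⟨(h', ⟨_, hu⟩), Subtype.ext (Prod.ext (Subtype.ext ?_) (Subtype.ext ?_))⟩
      · simp only [hh']; group
      · simp only; group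
  rw [← e1, e2]

end Cfsg.Agent.S2669
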