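import Cfsg.Statements.S2674
import Cfsg.Agent.Lib.LinearBlock.EvenRootClasses

set_option autoImplicit false
open Cfsg

namespace Cfsg.Agent.S2674

/-- Number of conjugacy classes of elements of odd prime order r ≠ p in the orthogonal group O⁺_2m(q) of Σ x_j y_j (m ≥ 1): with i the multiplicative order of q mod r and t = (r − 1)/i — if i is odd, C(⌊m/i⌋ + t/2, t/2) − 1; if i is even, C(⌊2m/i⌋ + t, t) − 1 minus, when i divides 2m with odd quotient, the C(2m/i + t − 1, t − 1) tuples using the whole space (an odd number of elliptic i-blocks fills an elliptic, not a hyperbolic, space). -/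
theorem result {F : Type*} [Field F] [Fintype F] {p q : ℕ} [Fact p.Prime] [CharP F p] (hF : Fintype.card F = q) (m r i t : ℕ) (hm : 1 ≤ m) (hr : r.Prime) (hr2 : r ≠ 2) (hrp : r ≠ p) (hi : i = orderOf (q : ZMod r)) (ht : t * i = r - 1) : Nat.card {C : ConjClasses ↥(Cfsg.isometryGroup F (Cfsg.quadFormPlus m F)) // ∃ g : ↥(Cfsg.isometryGroup F (Cfsg.quadFormPlus m F)), ConjClasses.mk g = C ∧ orderOf g = r} = if Odd i then Nat.choose (m / i + t / 2) (t / 2) - 1 else Nat.choose (2 * m / i + t) t - 1 - (if i ∣ 2 * m ∧ Odd (2 * m / i) then Nat.choose (2 * m / i + t - 1) (t - 1) else 0) := by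
  classical
  subst hF
  open Cfsg.Agent in
  rw [← Orth.coe_qPlus, LBEvenRoot.card_orth_even p hr hr2 hrp m i t hi ht hm (by simp; omega) (Orth.qPlus_nondeg m)]
  have hP : Cfsg.Agent.LBEven.IsPlus m (Cfsg.Agent.Orth.qPlus F m) := ⟨LinearEquiv.refl F _, fun v => rfl⟩
  simp only [iff_true_left hP]
  have hi0 : 0 < i := Nat.pos_of_ne_zero fun e => by rw [e, mul_zero] at ht; have := hr.two_le; omega
  by_cases ho : Odd i
  · rw [if_pos (show Cfsg.Agent.LBEvenRoot.Typ i m from fun h => absurd h (Nat.not_even_iff_odd.2 ho)), if_pos ho, if_pos ho, Nat.mul_div_mul_left m i (by norm_num : 0 < 2)]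
  · have he : Even i := Nat.not_odd_iff_even.1 ho
    simp only [if_neg ho]
    have hT : Cfsg.Agent.LBEvenRoot.Typ i m ↔ Even (2 * m / i) := ⟨fun h => h he, fun h _ => h⟩
    simp only [hT]
    by_cases hd : i ∣ 2 * m
    · obtain ⟨e1, e2⟩ := Cfsg.Agent.LBEvenRoot.pred_div_dvd hi0 (by omega) hd
      by_cases hs : Even (2 * m / i)
      · rw [if_pos hs, if_neg fun h => Nat.not_even_iff_odd.2 h.2 hs, Nat.sub_zero]
      · have ht1 : 1 ≤ t := Nat.pos_of_ne_zero fun e => by rw [e, zero_mul] at ht; have := hr.two_le; omega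
        rw [if_neg hs, if_pos ⟨hd, Nat.not_even_iff_odd.1 hs⟩, e1, Cfsg.Agent.LBEvenRoot.pascal e2 ht1]
    · rw [Cfsg.Agent.LBEvenRoot.pred_div_not_dvd hd, ite_self, if_neg fun h => hd h.1, Nat.sub_zero]

end Cfsg.Agent.S2674

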