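import Cfsg.Statements.S2675
import Cfsg.Agent.Lib.LinearBlock.EvenRootClasses

set_option autoImplicit false
open Cfsg

namespace Cfsg.Agent.S2675

/-- Number of conjugacy classes of elements of odd prime order r ≠ p in the orthogonal group O⁻_2m(q) of an elliptic form Σ_(j<m−1) x_j y_j + z₁² + a z₁z₂ + c z₂² (binary part anisotropic, m ≥ 1): with i the multiplicative order of q mod r and t = (r − 1)/i — if i is odd, C(⌊m/i⌋ + t/2, t/2) − 1 minus, when i divides m, the C(m/i + t/2 − 1, t/2 − 1) tuples filling the whole space (dual pairs of totally singular blocks fill a hyperbolic space); if i is even, C(⌊2m/i⌋ + t, t) − 1 minus, when i divides 2m with even quotient, the C(2m/i + t − 1, t − 1) tuples filling the whole space with an even number of elliptic blocks. -/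
theorem result {F : Type*} [Field F] [Fintype F] {p q : ℕ} [Fact p.Prime] [CharP F p] (hF : Fintype.card F = q) (m r i t : ℕ) (hm : 1 ≤ m) (a c : F) (hac : ∀ z₁ z₂ : F, z₁ ^ 2 + a * z₁ * z₂ + c * z₂ ^ 2 = 0 → z₁ = 0 ∧ z₂ = 0) (hr : r.Prime) (hr2 : r ≠ 2) (hrp : r ≠ p) (hi : i = orderOf (q : ZMod r)) (ht : t * i = r - 1) : Nat.card {C : ConjClasses ↥(Cfsg.isometryGroup F (Cfsg.quadFormMinus (m - 1) F a c)) // ∃ g : ↥(Cfsg.isometryGroup F (Cfsg.quadFormMinus (m - 1) F a c)), ConjClasses.mk g = C ∧ orderOf g = r} = if Odd i then Nat.choose (m / i + t / 2) (t / 2) - 1 - (if i ∣ m then Nat.choose (m / i + t / 2 - 1) (t / 2 - 1) else 0) else Nat.choose (2 * m / i + t) t - 1 - (if i ∣ 2 * m ∧ Even (2 * m / i) then Nat.choose (2 * m / i + t - 1) (t - 1) else 0) := by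
  classical
  subst hF
  open Cfsg.Agent in
  rw [← Orth.coe_qMinus, LBEvenRoot.card_orth_even p hr hr2 hrp m i t hi ht hm (by simp; omega) (Orth.qMinus_nondeg hac (m - 1))]
  have hP : ¬ Cfsg.Agent.LBEven.IsPlus m (Cfsg.Agent.Orth.qMinus F (m - 1) a c) :=
    Cfsg.Agent.LBEven.minus_not_plus hm hac (LinearEquiv.refl F _) (fun v => rfl)
  simp only [iff_false_left hP]
  have hi0 : 0 < i := Nat.pos_of_ne_zero fun e => by rw [e, mul_zero] at ht; have := hr.two_le; omega
  by_cases ho : Odd i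
  · have ht2 : 1 ≤ t / 2 := by
      have hev : Even (t * i) := ht ▸ Nat.Prime.even_sub_one hr hr2
      have htt : Even t := (Nat.even_mul.1 hev).resolve_right (Nat.not_even_iff_odd.2 ho)
      have : t ≠ 0 := fun e => by rw [e, zero_mul] at ht; have := hr.two_le; omega
      obtain ⟨u, rfl⟩ := htt
      omega
    rw [if_neg (fun h => h fun e => absurd e (Nat.not_even_iff_odd.2 ho)), if_pos ho, if_pos ho]
    by_cases hd : i ∣ m
    · obtain ⟨e1, e2⟩ := Cfsg.Agent.LBEvenRoot.pred_div_dvd (n := 2 * m) (i := 2 * i) (by omega) (by omega) (mul_dvd_mul_left 2 hd)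
      rw [Nat.mul_div_mul_left m i (by norm_num : 0 < 2)] at e1 e2
      rw [if_pos hd, e1, Cfsg.Agent.LBEvenRoot.pascal e2 ht2]
    · rw [Cfsg.Agent.LBEvenRoot.pred_div_not_dvd (fun h => hd ((mul_dvd_mul_iff_left (by norm_num : (2:ℕ) ≠ 0)).1 h)),
        Nat.mul_div_mul_left m i (by norm_num : 0 < 2), if_neg hd, Nat.sub_zero]
  · have he : Even i := Nat.not_odd_iff_even.1 ho
    simp only [if_neg ho]
    have hT : ¬ Cfsg.Agent.LBEvenRoot.Typ i m ↔ ¬ Even (2 * m / i) := not_congr ⟨fun h => h he, fun h _ => h⟩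
    simp only [hT]
    by_cases hd : i ∣ 2 * m
    · obtain ⟨e1, e2⟩ := Cfsg.Agent.LBEvenRoot.pred_div_dvd hi0 (by omega) hd
      by_cases hs : Even (2 * m / i)
      · have ht1 : 1 ≤ t := Nat.pos_of_ne_zero fun e => by rw [e, zero_mul] at ht; have := hr.two_le; omega
        rw [if_neg (not_not.2 hs), if_pos ⟨hd, hs⟩, e1, Cfsg.Agent.LBEvenRoot.pascal e2 ht1]
      · rw [if_pos hs, if_neg fun h => hs h.2, Nat.sub_zero]
    · rw [Cfsg.Agent.LBEvenRoot.pred_div_not_dvd hd, ite_self, if_neg fun h => hd h.1, Nat.sub_zero]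

end Cfsg.Agent.S2675

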