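import Cfsg.Statements.S2676
import Cfsg.Agent.Lib.LinearBlock.SympUnipOrbits
import Cfsg.Agent.Lib.LinearBlock.UnipotentPrime
import Cfsg.Agent.Lib.LinearBlock.RootUnityPolys
import Cfsg.Agent.Lib.LinearBlock.RegUnipSp
-- import your own Cfsg.Agent.* helpers here

set_option autoImplicit false
open Classical
open Cfsg

namespace Cfsg.Agent.S2676


open Matrix Module
open Cfsg.Agent.S2581 Cfsg.Agent.SympUnipOrbits Cfsg.Agent.NilJordan

variable {F : Type*} [Field F]

theorem nil_nf {t : ℕ} (d : Fin t → ℕ) (v : Ix d → F) (k : Fin t) (i : Fin (d k)) :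
    (S2581.nil d F *ᵥ v) ⟨k, i⟩ = nf F d (fun k i => v ⟨k, i⟩) k i := by
  rw [S2581.nil_mulVec]
  show _ = shift F (d k) (fun i => v ⟨k, i⟩) i
  simp only [shift, LinearMap.coe_mk, AddHom.coe_mk]
  split_ifs <;> first | rfl | (exfalso; omega)

theorem inv_nil {t : ℕ} (d : Fin t → ℕ) {n : ℕ} (s : Nat.Partition n) (hd : Finset.univ.val.map d = s.parts) :
    Inv (Matrix.toLinAlgEquiv' (S2581.nil d F) : Module.End F (Ix d → F)) s := by
  intro j
  have h : Sim (Matrix.toLinAlgEquiv' (S2581.nil d F) : Module.End F (Ix d → F)) (nf F d) :=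
    ⟨{ toFun := fun v k i => v ⟨k, i⟩
       invFun := fun w x => w x.1 x.2
       map_add' := fun _ _ => rfl
       map_smul' := fun _ _ => rfl
       left_inv := fun _ => rfl
       right_inv := fun _ => rfl }, fun v => funext fun k => funext fun i => nil_nf d v k i⟩
  rw [h.finrank_ker, finrank_ker_nf, ← hd, Multiset.map_map]
  rfl


/-- Number of conjugacy classes of elements of order p in Sp_2m(q), q a power of the odd prime p: the classes correspond to the signed partitions of 2m — partitions with all parts at most p in which every odd part has even multiplicity, each even part size that occurs carrying a sign — other than the all-ones partition; so the count is the sum over such partitions of 2^(number of distinct even parts), minus one. -/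
theorem result {F : Type*} [Field F] [Fintype F] {p : ℕ} [Fact p.Prime] [CharP F p] (hp : p ≠ 2) (m : ℕ) : Nat.card {C : ConjClasses ↥(Matrix.symplecticGroup (Fin m) F) // ∃ g : Matrix.symplecticGroup (Fin m) F, ConjClasses.mk g = C ∧ orderOf g = p} = (∑ μ ∈ Finset.univ.filter (fun μ : Nat.Partition (2 * m) => (∀ a ∈ μ.parts, a ≤ p) ∧ ∀ j : ℕ, Odd j → Even (μ.parts.count j)), 2 ^ ((μ.parts.toFinset.filter (fun j : ℕ => Even j)).card)) - 1 := by
  classical
  have hpp : p.Prime := Fact.out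
  have h2 : (2 : F) ≠ 0 := fun h => hp (by
    have := (CharP.cast_eq_zero_iff F p 2).1 (by exact_mod_cast h)
    exact (Nat.prime_dvd_prime_iff_eq hpp Nat.prime_two).1 this)
  let Mu : Type := {μ : Nat.Partition (2 * m) // (∀ a ∈ μ.parts, a ≤ p) ∧ ∀ j : ℕ, Odd j → Even (μ.parts.count j)}
  have hdex : ∀ μ : Mu, ∃ (t : ℕ) (d : Fin t → ℕ), Finset.univ.val.map d = μ.1.parts := fun μ =>
    ⟨μ.1.parts.toList.length, μ.1.parts.toList.get, by rw [Fin.univ_val_map, List.ofFn_get, Multiset.coe_toList]⟩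
  choose tt dd hdd using hdex
  have hd1 : ∀ (μ : Mu) k, 1 ≤ dd μ k := fun μ k =>
    μ.1.parts_pos (by rw [← hdd μ]; exact Multiset.mem_map_of_mem _ (Finset.mem_univ_val k))
  have hdsum : ∀ μ : Mu, ∑ k, dd μ k = 2 * m := fun μ => by
    show (Finset.univ.val.map (dd μ)).sum = _
    rw [hdd, μ.1.parts_sum]
  have hcnt : ∀ (μ : Mu) j, (Finset.univ.filter (fun k => dd μ k = j)).card = μ.1.parts.count j := fun μ j => by
    rw [← hdd μ, Multiset.count_map]
    simp [eq_comm, Finset.card, Finset.filter_val]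
  choose β hβ1 hβ2 using fun μ : Mu =>
    exists_invariant (F := F) (dd μ) (hd1 μ) h2 (fun j hj => by rw [hcnt]; exact μ.2.2 j hj)
  let H := Fin m ⊕ Fin m
  let J := Matrix.J (Fin m) F
  let Tm : ∀ μ : Mu, Matrix (Ix (dd μ)) (Ix (dd μ)) F := fun μ => Cfsg.jordanTypeMatrix (dd μ) F
  have hsp : ∀ g : Matrix.symplecticGroup (Fin m) F, (g.1)ᵀ * J * g.1 = J := fun g => SymplecticGroup.mem_iff'.1 g.2
  have hfinH : finrank F (H → F) = 2 * m := by simp [H]; ring
  have hpar : ∀ μ : Mu, ∀ j, finrank F (Ix (dd μ) → F) = 2 * m ∧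
      ((Matrix.toLinAlgEquiv' (S2581.nil (dd μ) F) : Module.End F (Ix (dd μ) → F)) ^ j = 0 ↔ ∀ a ∈ μ.1.parts, a ≤ j) := by
    intro μ j
    have h1 : finrank F (Ix (dd μ) → F) = 2 * m := by simp [Fintype.card_sigma, hdsum]
    exact ⟨h1, LBUnipPrime.pow_eq_zero_iff_parts h1 (inv_nil (dd μ) μ.1 (hdd μ)) j⟩
  have hnilp : ∀ μ : Mu, IsNilpotent (Matrix.toLinAlgEquiv' (S2581.nil (dd μ) F) : Module.End F (Ix (dd μ) → F)) :=
    fun μ => ⟨p, (hpar μ p).2.2 μ.2.1⟩
  -- intertwiners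
  let W : Mu → Matrix H H F → Type _ := fun μ g =>
    {P : Matrix H (Ix (dd μ)) F // ∃ Q : Matrix (Ix (dd μ)) H F, P * Q = 1 ∧ Q * P = 1 ∧ g * P = P * Tm μ}
  have hval : ∀ (μ : Mu) (g : Matrix.symplecticGroup (Fin m) F) (P : W μ g.1),
      Valid (dd μ) (P.1ᵀ * J * P.1) := by
    rintro μ g ⟨P, Q, hPQ, hQP, hgP⟩
    refine ⟨?_, ?_, ?_⟩
    · rw [transpose_mul, transpose_mul, transpose_transpose, show Jᵀ = -J from Matrix.J_transpose _ _,
        Matrix.mul_assoc, Matrix.neg_mul, Matrix.mul_neg]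
    · intro h0
      obtain ⟨v, hv, hv0⟩ := Matrix.exists_mulVec_eq_zero_iff.2 h0
      refine hv ?_
      have e : (Q * (-J) * Qᵀ) * (Pᵀ * J * P) = 1 := by
        rw [show Q * (-J) * Qᵀ * (Pᵀ * J * P) = Q * ((-J) * ((P * Q)ᵀ * J)) * P by
          simp only [transpose_mul, Matrix.mul_assoc], hPQ, transpose_one, Matrix.one_mul,
          show -J * J = 1 from by rw [Matrix.neg_mul, show J * J = -1 from Matrix.J_squared _ _, neg_neg],
          Matrix.mul_one, hQP]
      have := congrArg (fun M => M *ᵥ v) e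
      simp only [← Matrix.mulVec_mulVec, hv0, Matrix.mulVec_zero, Matrix.one_mulVec] at this
      exact this.symm
    · calc (Tm μ)ᵀ * (Pᵀ * J * P) * Tm μ = (P * Tm μ)ᵀ * J * (P * Tm μ) := by
            simp only [transpose_mul, Matrix.mul_assoc]
        _ = Pᵀ * (g.1ᵀ * J * g.1) * P := by rw [← hgP]; simp only [transpose_mul, Matrix.mul_assoc]
        _ = Pᵀ * J * P := by rw [hsp]
  have hwell : ∀ (μ : Mu) (g : Matrix.symplecticGroup (Fin m) F) (P P' : W μ g.1),
      β μ (P.1ᵀ * J * P.1) = β μ (P'.1ᵀ * J * P'.1) := by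
    intro μ g P P'
    refine (hβ1 μ _ _ (hval μ g P) (hval μ g P')).1 ?_
    obtain ⟨Q, hPQ, hQP, hgP⟩ := P.2
    obtain ⟨Q', hPQ', hQP', hgP'⟩ := P'.2
    refine ⟨Q * P'.1, ?_, ?_⟩
    · show Q * P'.1 * Tm μ = Tm μ * (Q * P'.1)
      have hQg : Q * g.1 = Tm μ * Q := by
        calc Q * g.1 = Q * g.1 * (P.1 * Q) := by rw [hPQ, Matrix.mul_one]
          _ = Q * (g.1 * P.1) * Q := by simp only [Matrix.mul_assoc]
          _ = Tm μ * Q := by rw [hgP, ← Matrix.mul_assoc, hQP, Matrix.one_mul]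
      rw [Matrix.mul_assoc, ← hgP', ← Matrix.mul_assoc, hQg, Matrix.mul_assoc]
    · rw [show (Q * P'.1)ᵀ * (P.1ᵀ * J * P.1) * (Q * P'.1) = P'.1ᵀ * ((P.1 * Q)ᵀ * J * (P.1 * Q)) * P'.1 by
        simp only [transpose_mul, Matrix.mul_assoc], hPQ, transpose_one, Matrix.one_mul, Matrix.mul_one]
  -- types of elements
  let φ : Matrix H H F → Module.End F (H → F) := fun g => Matrix.toLinAlgEquiv' (g - 1)
  have hWinv : ∀ (μ : Mu) (g : Matrix H H F) (P : W μ g), Inv (φ g) μ.1 := by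
    rintro μ g ⟨P, Q, hPQ, hQP, hgP⟩ j
    have hsim : Sim (Matrix.toLinAlgEquiv' (S2581.nil (dd μ) F) : Module.End F (Ix (dd μ) → F)) (φ g) := by
      refine ⟨{ toFun := fun v => P *ᵥ v
                invFun := fun v => Q *ᵥ v
                map_add' := fun a b => Matrix.mulVec_add _ _ _
                map_smul' := fun a b => Matrix.mulVec_smul _ _ _
                left_inv := fun v => by simp [Matrix.mulVec_mulVec, hQP]
                right_inv := fun v => by simp [Matrix.mulVec_mulVec, hPQ] }, fun v => ?_⟩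
      show P *ᵥ (S2581.nil (dd μ) F *ᵥ v) = (g - 1) *ᵥ (P *ᵥ v)
      rw [Matrix.mulVec_mulVec, Matrix.mulVec_mulVec, Matrix.sub_mul, Matrix.one_mul, hgP,
        show Tm μ = 1 + S2581.nil (dd μ) F from S2581.jordanType_eq _, Matrix.mul_add, Matrix.mul_one,
        add_sub_cancel_left]
    rw [← hsim.finrank_ker]
    exact inv_nil (dd μ) μ.1 (hdd μ) j
  have hexW : ∀ g : Matrix.symplecticGroup (Fin m) F, g ^ p = 1 → ∃ μ : Mu, Nonempty (W μ g.1) := by
    intro g hg
    have hgp : φ g.1 ^ p = 0 := by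
      rcases isEmpty_or_nonempty H with hH | hH
      · exact LinearMap.ext fun v => funext fun i => isEmptyElim i
      have h1 : (g.1 - 1) ^ p = 0 := by
        rw [sub_pow_char_of_commute p (Commute.one_right _), one_pow, sub_eq_zero, ← SubmonoidClass.coe_pow, hg]
        rfl
      show (Matrix.toLinAlgEquiv' (g.1 - 1)) ^ p = 0
      rw [← map_pow, h1, map_zero]
    obtain ⟨s, hs⟩ := exists_inv hfinH (φ g.1) ⟨p, hgp⟩
    have hsp' := (LBUnipPrime.pow_eq_zero_iff_parts hfinH hs p).1 hgp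
    have hd0 : ∃ (t : ℕ) (d : Fin t → ℕ), Finset.univ.val.map d = s.parts :=
      ⟨s.parts.toList.length, s.parts.toList.get, by rw [Fin.univ_val_map, List.ofFn_get, Multiset.coe_toList]⟩
    obtain ⟨t, d, hd⟩ := hd0
    have hfinI : finrank F (Ix d → F) = 2 * m := by
      simp only [Module.finrank_fintype_fun_eq_card, Fintype.card_sigma, Fintype.card_fin]
      show (Finset.univ.val.map d).sum = _
      rw [hd, s.parts_sum]
    have hinvd := inv_nil (F := F) d s hd
    obtain ⟨e, he⟩ := sim_of_inv hfinI hfinH ⟨p, (LBUnipPrime.pow_eq_zero_iff_parts hfinI hinvd p).2 hsp'⟩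
      ⟨p, hgp⟩ hinvd hs
    let P : Matrix H (Ix d) F := LinearMap.toMatrix' (e : (Ix d → F) →ₗ[F] (H → F))
    let Q : Matrix (Ix d) H F := LinearMap.toMatrix' (e.symm : (H → F) →ₗ[F] (Ix d → F))
    have hPQ : P * Q = 1 := by
      rw [← LinearMap.toMatrix'_comp, LinearEquiv.comp_coe, LinearEquiv.symm_trans_self, LinearEquiv.refl_toLinearMap,
        LinearMap.toMatrix'_id]
    have hQP : Q * P = 1 := by
      rw [← LinearMap.toMatrix'_comp, LinearEquiv.comp_coe, LinearEquiv.self_trans_symm, LinearEquiv.refl_toLinearMap,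
        LinearMap.toMatrix'_id]
    have hgP : g.1 * P = P * Cfsg.jordanTypeMatrix d F := by
      refine Matrix.toLin'.injective (LinearMap.ext fun v => ?_)
      have h := he v
      rw [Matrix.toLin'_apply, Matrix.toLin'_apply, S2581.jordanType_eq, ← Matrix.mulVec_mulVec,
        ← Matrix.mulVec_mulVec, Matrix.add_mulVec, Matrix.one_mulVec, Matrix.mulVec_add,
        LinearMap.toMatrix'_mulVec, LinearMap.toMatrix'_mulVec, LinearEquiv.coe_coe]
      change e (S2581.nil d F *ᵥ v) = (g.1 - 1) *ᵥ e v at h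
      rw [h, Matrix.sub_mulVec, Matrix.one_mulVec, add_sub_cancel]
    have hd1' : ∀ k, 1 ≤ d k := fun k => s.parts_pos (by
      rw [← hd]; exact Multiset.mem_map_of_mem _ (Finset.mem_univ_val k))
    have hev : ∀ j, Odd j → Even (s.parts.count j) := by
      intro j hj
      rw [← hd, Multiset.count_map]
      have hv : (Cfsg.jordanTypeMatrix d F)ᵀ * (Pᵀ * J * P) * Cfsg.jordanTypeMatrix d F = Pᵀ * J * P ∧
          (Pᵀ * J * P).det ≠ 0 := by
        refine ⟨?_, ?_⟩
        · calc (Cfsg.jordanTypeMatrix d F)ᵀ * (Pᵀ * J * P) * Cfsg.jordanTypeMatrix d F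
              = (P * Cfsg.jordanTypeMatrix d F)ᵀ * J * (P * Cfsg.jordanTypeMatrix d F) := by
                simp only [transpose_mul, Matrix.mul_assoc]
            _ = Pᵀ * (g.1ᵀ * J * g.1) * P := by rw [← hgP]; simp only [transpose_mul, Matrix.mul_assoc]
            _ = Pᵀ * J * P := by rw [hsp]
        · intro h0
          have e : (Q * (-J) * Qᵀ) * (Pᵀ * J * P) = 1 := by
            rw [show Q * (-J) * Qᵀ * (Pᵀ * J * P) = Q * ((-J) * ((P * Q)ᵀ * J)) * P by
              simp only [transpose_mul, Matrix.mul_assoc], hPQ, transpose_one, Matrix.one_mul,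
              show -J * J = 1 from by rw [Matrix.neg_mul, show J * J = -1 from Matrix.J_squared _ _, neg_neg],
              Matrix.mul_one, hQP]
          have := congrArg Matrix.det e
          rw [det_mul, h0, mul_zero, det_one] at this
          exact zero_ne_one this
      have hT' : (Pᵀ * J * P)ᵀ = -(Pᵀ * J * P) := by
        rw [transpose_mul, transpose_mul, transpose_transpose, show Jᵀ = -J from Matrix.J_transpose _ _,
          Matrix.mul_assoc, Matrix.neg_mul, Matrix.mul_neg]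
      have hd' := (LBJordanForms.alt_iff hd1').1 ⟨_, hT', fun a => by
        have := congrFun (congrFun hT' a) a
        rw [transpose_apply, Matrix.neg_apply, eq_neg_iff_add_eq_zero, ← two_mul] at this
        exact (mul_eq_zero.1 this).resolve_left h2, hv.2, hv.1⟩ j hj
      simpa [eq_comm, Finset.card, Finset.filter_val] using hd'
    refine ⟨⟨s, hsp', hev⟩, ?_⟩
    -- compare the two block lists
    have hinvd' := inv_nil (F := F) (dd ⟨s, hsp', hev⟩) s (hdd _)
    obtain ⟨f, hf⟩ := sim_of_inv (hpar ⟨s, hsp', hev⟩ 0).1 hfinI (hnilp ⟨s, hsp', hev⟩)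
      ⟨p, (LBUnipPrime.pow_eq_zero_iff_parts hfinI hinvd p).2 hsp'⟩ hinvd' hinvd
    let R : Matrix (Ix d) (Ix (dd ⟨s, hsp', hev⟩)) F := LinearMap.toMatrix' (f : (_ → F) →ₗ[F] (Ix d → F))
    let R' : Matrix (Ix (dd ⟨s, hsp', hev⟩)) (Ix d) F := LinearMap.toMatrix' (f.symm : (Ix d → F) →ₗ[F] (_ → F))
    have hR1 : R * R' = 1 := by
      rw [← LinearMap.toMatrix'_comp, LinearEquiv.comp_coe, LinearEquiv.symm_trans_self, LinearEquiv.refl_toLinearMap,
        LinearMap.toMatrix'_id]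
    have hR2 : R' * R = 1 := by
      rw [← LinearMap.toMatrix'_comp, LinearEquiv.comp_coe, LinearEquiv.self_trans_symm, LinearEquiv.refl_toLinearMap,
        LinearMap.toMatrix'_id]
    have hRT : Cfsg.jordanTypeMatrix d F * R = R * Tm ⟨s, hsp', hev⟩ := by
      refine Matrix.toLin'.injective (LinearMap.ext fun v => ?_)
      rw [Matrix.toLin'_apply, Matrix.toLin'_apply,
        show Tm ⟨s, hsp', hev⟩ = 1 + S2581.nil _ F from S2581.jordanType_eq _, S2581.jordanType_eq,
        ← Matrix.mulVec_mulVec, ← Matrix.mulVec_mulVec, Matrix.add_mulVec, Matrix.one_mulVec, Matrix.add_mulVec,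
        Matrix.one_mulVec, Matrix.mulVec_add, LinearMap.toMatrix'_mulVec, LinearMap.toMatrix'_mulVec]
      exact congrArg _ (hf v).symm
    exact ⟨⟨P * R, R' * Q, by rw [Matrix.mul_assoc, ← Matrix.mul_assoc R, hR1, Matrix.one_mul, hPQ],
      by rw [Matrix.mul_assoc, ← Matrix.mul_assoc Q, hQP, Matrix.one_mul, hR2],
      by rw [← Matrix.mul_assoc, hgP, Matrix.mul_assoc, hRT, ← Matrix.mul_assoc]⟩⟩
  rw [LBRootPoly.card_order_r hpp]
  congr 1
  -- the bijection
  let C1 := {C : ConjClasses ↥(Matrix.symplecticGroup (Fin m) F) // ∃ g, ConjClasses.mk g = C ∧ g ^ p = 1}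
  let Cod := (μ : Mu) × (EvenSizes (dd μ) → Bool)
  have hcard : Nat.card Cod = ∑ μ ∈ Finset.univ.filter (fun μ : Nat.Partition (2 * m) =>
      (∀ a ∈ μ.parts, a ≤ p) ∧ ∀ j : ℕ, Odd j → Even (μ.parts.count j)),
      2 ^ ((μ.parts.toFinset.filter (fun j : ℕ => Even j)).card) := by
    rw [Nat.card_eq_fintype_card, Fintype.card_sigma]
    rw [Finset.sum_subtype (p := fun μ : Nat.Partition (2 * m) => (∀ a ∈ μ.parts, a ≤ p) ∧ ∀ j : ℕ, Odd j → Even (μ.parts.count j))
      (Finset.univ.filter (fun μ : Nat.Partition (2 * m) => (∀ a ∈ μ.parts, a ≤ p) ∧ ∀ j : ℕ, Odd j → Even (μ.parts.count j)))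
      (fun μ => by simp) (fun μ => 2 ^ ((μ.parts.toFinset.filter (fun j : ℕ => Even j)).card))]
    refine Finset.sum_congr rfl fun μ _ => ?_
    rw [Fintype.card_fun, Fintype.card_bool, Fintype.card_coe, ← hdd μ]
    rfl
  rw [← hcard]
  let gC : C1 → Matrix.symplecticGroup (Fin m) F := fun C => C.2.choose
  let μC : C1 → Mu := fun C => (hexW (gC C) C.2.choose_spec.2).choose
  let PC : ∀ C : C1, W (μC C) (gC C).1 := fun C => (hexW (gC C) C.2.choose_spec.2).choose_spec.some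
  refine Nat.card_eq_of_bijective (α := C1) (β := Cod)
    (fun C => ⟨μC C, β (μC C) ((PC C).1ᵀ * J * (PC C).1)⟩) ⟨?_, ?_⟩
  · intro C D hCD
    have key : ∀ (μ ν : Mu) (g g' : Matrix.symplecticGroup (Fin m) F) (P : W μ g.1) (P' : W ν g'.1),
        (⟨μ, β μ (P.1ᵀ * J * P.1)⟩ : Cod) = ⟨ν, β ν (P'.1ᵀ * J * P'.1)⟩ → IsConj g' g := by
      intro μ ν g g' P P' h
      obtain ⟨rfl, h'⟩ := Sigma.mk.inj_iff.1 h
      obtain ⟨a, ha, haG⟩ := (hβ1 μ _ _ (hval μ g P) (hval μ g' P')).2 (eq_of_heq h')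
      obtain ⟨Q, hPQ, hQP, hgP⟩ := P.2
      obtain ⟨Q', hPQ', hQP', hgP'⟩ := P'.2
      have hh : (P.1 * a * Q')ᵀ * J * (P.1 * a * Q') = J := by
        rw [show (P.1 * a * Q')ᵀ * J * (P.1 * a * Q') = Q'ᵀ * (aᵀ * (P.1ᵀ * J * P.1) * a) * Q' by
          simp only [transpose_mul, Matrix.mul_assoc], haG,
          show Q'ᵀ * (P'.1ᵀ * J * P'.1) * Q' = (P'.1 * Q')ᵀ * J * (P'.1 * Q') by
            simp only [transpose_mul, Matrix.mul_assoc], hPQ', transpose_one, Matrix.one_mul, Matrix.mul_one]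
      refine isConj_iff.2 ⟨⟨P.1 * a * Q', SymplecticGroup.mem_iff'.2 hh⟩, ?_⟩
      rw [mul_inv_eq_iff_eq_mul]
      refine Subtype.ext ?_
      rw [Submonoid.coe_mul, Submonoid.coe_mul]
      show P.1 * a * Q' * g'.1 = g.1 * (P.1 * a * Q')
      rw [show g.1 * (P.1 * a * Q') = (g.1 * P.1) * a * Q' by simp only [Matrix.mul_assoc], hgP,
        show P.1 * Tm μ * a * Q' = P.1 * (Tm μ * a) * Q' by simp only [Matrix.mul_assoc],
        show Tm μ * a = a * Tm μ from ha.symm]
      have : Q' * g'.1 = Tm μ * Q' := by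
        calc Q' * g'.1 = Q' * g'.1 * (P'.1 * Q') := by rw [hPQ', Matrix.mul_one]
          _ = Q' * (g'.1 * P'.1) * Q' := by simp only [Matrix.mul_assoc]
          _ = Tm μ * Q' := by rw [hgP', ← Matrix.mul_assoc, hQP', Matrix.one_mul]
      rw [Matrix.mul_assoc _ Q', this]
      simp only [Matrix.mul_assoc]
    refine Subtype.ext ?_
    rw [← C.2.choose_spec.1, ← D.2.choose_spec.1]
    exact (ConjClasses.mk_eq_mk_iff_isConj.2 (key _ _ (gC C) (gC D) (PC C) (PC D) hCD)).symm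
  · rintro ⟨μ, c⟩
    obtain ⟨G, hG, hGc⟩ := hβ2 μ c
    obtain ⟨P, Q, hPQ, hQP, hPG⟩ := exists_pull h2 hG.1 hG.2.1 (m := m)
      (by simp [Fintype.card_sigma, hdsum])
    have hg : (P * Tm μ * Q)ᵀ * J * (P * Tm μ * Q) = J := by
      rw [show (P * Tm μ * Q)ᵀ * J * (P * Tm μ * Q) = Qᵀ * ((Tm μ)ᵀ * (Pᵀ * J * P) * Tm μ) * Q by
        simp only [transpose_mul, Matrix.mul_assoc], hPG, hG.2.2, ← hPG,
        show Qᵀ * (Pᵀ * J * P) * Q = (P * Q)ᵀ * J * (P * Q) by simp only [transpose_mul, Matrix.mul_assoc],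
        hPQ, transpose_one, Matrix.one_mul, Matrix.mul_one]
    let g : Matrix.symplecticGroup (Fin m) F := ⟨P * Tm μ * Q, SymplecticGroup.mem_iff'.2 hg⟩
    have hPW : g.1 * P = P * Tm μ := by
      show P * Tm μ * Q * P = _
      rw [Matrix.mul_assoc _ Q, hQP, Matrix.mul_one]
    have hgp : g ^ p = 1 := by
      refine Subtype.ext ?_
      rw [SubmonoidClass.coe_pow, OneMemClass.coe_one]
      show (P * Tm μ * Q) ^ p = 1
      have hT : Tm μ ^ p = 1 := by
        have h := (hpar μ p).2.2 μ.2.1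
        rw [← map_pow, map_eq_zero_iff _ (AlgEquiv.injective _)] at h
        show Cfsg.jordanTypeMatrix (dd μ) F ^ p = 1
        rcases isEmpty_or_nonempty (Ix (dd μ)) with hI | hI
        · exact Subsingleton.elim _ _
        rw [S2581.jordanType_eq, add_pow_char_of_commute p (Commute.one_left _), one_pow, h, add_zero]
      have hk : ∀ k, (P * Tm μ * Q) ^ k = P * Tm μ ^ k * Q := by
        intro k
        induction k with
        | zero => simp [hPQ]
        | succ k ih =>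
          rw [pow_succ, ih, pow_succ, show P * Tm μ ^ k * Q * (P * Tm μ * Q) = P * Tm μ ^ k * (Q * P) * (Tm μ * Q) by
            simp only [Matrix.mul_assoc], hQP, Matrix.mul_one]
          simp only [Matrix.mul_assoc]
      rw [hk, hT, Matrix.mul_one, hPQ]
    let C : C1 := ⟨ConjClasses.mk g, g, rfl, hgp⟩
    refine ⟨C, ?_⟩
    obtain ⟨h, hh⟩ := isConj_iff.1 (ConjClasses.mk_eq_mk_iff_isConj.1
      (C.2.choose_spec.1 : ConjClasses.mk (gC C) = ConjClasses.mk g))
    have hh' : (gC C).1 * ((h⁻¹ : Matrix.symplecticGroup (Fin m) F).1 * P) = (h⁻¹ : Matrix.symplecticGroup (Fin m) F).1 * P * Tm μ := by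
      rw [Matrix.mul_assoc _ P, ← hPW, ← Matrix.mul_assoc, ← Matrix.mul_assoc, ← Submonoid.coe_mul,
        ← Submonoid.coe_mul, show gC C * h⁻¹ = h⁻¹ * g by rw [← hh]; show gC C * h⁻¹ = h⁻¹ * (h * gC C * h⁻¹); group]
    let P₁ : W μ (gC C).1 := ⟨(h⁻¹ : Matrix.symplecticGroup (Fin m) F).1 * P, Q * h.1, by
      rw [show (h⁻¹ : Matrix.symplecticGroup (Fin m) F).1 * P * (Q * h.1) = (h⁻¹ : Matrix.symplecticGroup (Fin m) F).1 * (P * Q) * h.1 by
        simp only [Matrix.mul_assoc], hPQ, Matrix.mul_one, ← Submonoid.coe_mul, inv_mul_cancel]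
      rfl, by
      rw [show Q * h.1 * ((h⁻¹ : Matrix.symplecticGroup (Fin m) F).1 * P) = Q * (h.1 * (h⁻¹ : Matrix.symplecticGroup (Fin m) F).1) * P by
        simp only [Matrix.mul_assoc], ← Submonoid.coe_mul, mul_inv_cancel, OneMemClass.coe_one, Matrix.mul_one, hQP],
      hh'⟩
    have hμ : μC C = μ := Subtype.ext (inv_unique (hWinv _ _ (PC C)) (hWinv _ _ P₁))
    have key : ∀ (ν : Mu) (P' : W ν (gC C).1), ν = μ → (⟨ν, β ν (P'.1ᵀ * J * P'.1)⟩ : Cod) = ⟨μ, c⟩ := by
      rintro ν P' rfl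
      rw [hwell ν (gC C) P' P₁, ← hGc, ← hPG]
      show (⟨ν, β ν (((h⁻¹ : Matrix.symplecticGroup (Fin m) F).1 * P)ᵀ * J * ((h⁻¹ : Matrix.symplecticGroup (Fin m) F).1 * P))⟩ : Cod) = _
      rw [show ((h⁻¹ : Matrix.symplecticGroup (Fin m) F).1 * P)ᵀ * J * ((h⁻¹ : Matrix.symplecticGroup (Fin m) F).1 * P) =
        Pᵀ * ((h⁻¹ : Matrix.symplecticGroup (Fin m) F).1ᵀ * J * (h⁻¹ : Matrix.symplecticGroup (Fin m) F).1) * P by
          simp only [transpose_mul, Matrix.mul_assoc], hsp]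
    exact key _ (PC C) hμ

end Cfsg.Agent.S2676
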