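import Cfsg.Statements.S2680
import Cfsg.Agent.Lib.Orthogonal.CharTwoInv.SpMatrix

set_option autoImplicit false
open Cfsg

namespace Cfsg.Agent.S2680

/-- Centraliser order of an involution t of Sp_2m(q), q even, with s = rank(t − 1) odd (type b_s): |C(t)| = q^(2ms − (3s² − s)/2) · |Sp_(s−1)(q)| · |Sp_(2m−2s)(q)|, where |Sp_2k(q)| = q^(k²) Π_(i=1)^k (q^(2i) − 1). -/
theorem result {F : Type*} [Field F] [Fintype F] [CharP F 2] {q : ℕ} (hF : Fintype.card F = q) {m s : ℕ} (t : Matrix.symplecticGroup (Fin m) F) (ht : t ^ 2 = 1) (hs : ((t : Matrix (Fin m ⊕ Fin m) (Fin m ⊕ Fin m) F) - 1).rank = s) (hodd : Odd s) : Nat.card ↥(Subgroup.centralizer ({t} : Set ↥(Matrix.symplecticGroup (Fin m) F))) = q ^ (2 * m * s - (3 * s ^ 2 - s) / 2) * ((q : ℕ) ^ (((s - 1) / 2) ^ 2) * ∏ i : Fin ((s - 1) / 2), (q ^ (2 * ((i : ℕ) + 1)) - 1)) * ((q : ℕ) ^ ((m - s) ^ 2) * ∏ i : Fin (m - s), (q ^ (2 * ((i : ℕ) + 1)) - 1)) := by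
  have hq : Nat.card F = q := by rw [Nat.card_eq_fintype_card, hF]
  have hna : ∃ v, Agent.ClassicalSp.spBilin m F v (Agent.SpInv.nilPart t v) ≠ 0 := by
    by_contra h
    push Not at h
    have he := Agent.InvCent.alt_even_rank t ht h
    rw [hs] at he
    exact (Nat.not_even_iff_odd.2 hodd) he
  obtain ⟨-, hle, hcard⟩ := Agent.InvCent.card_centralizer_nonalt t ht hs hna
  obtain ⟨k, rfl⟩ := hodd
  rw [hcard, (Agent.InvCent.onCount_odd_even _ k).1, Agent.InvCent.exp_arith hle, Agent.InvCent.spOrd_fin,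
    Agent.InvCent.spOrd_fin, hq, show (2 * k + 1 - 1) / 2 = k by omega]
  ring

end Cfsg.Agent.S2680
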