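import Cfsg.Statements.S2682
import Cfsg.Agent.Lib.Orthogonal.CharTwoInv.SpMatrix

set_option autoImplicit false
open Cfsg

namespace Cfsg.Agent.S2682

/-- Centraliser order of an involution t of Sp_2m(q), q even, with s = rank(t − 1) even and f(v, tv) ≠ 0 for some v, f the symplectic form (type c_s): |C(t)| = q^(2ms − (3s² − 3s)/2 − 1) · |Sp_(s−2)(q)| · |Sp_(2m−2s)(q)|. -/
theorem result {F : Type*} [Field F] [Fintype F] [CharP F 2] {q : ℕ} (hF : Fintype.card F = q) {m s : ℕ} (t : Matrix.symplecticGroup (Fin m) F) (ht : t ^ 2 = 1) (hs : ((t : Matrix (Fin m ⊕ Fin m) (Fin m ⊕ Fin m) F) - 1).rank = s) (heven : Even s) (hna : ∃ v : Fin m ⊕ Fin m → F, Cfsg.sympForm m F v ((t : Matrix (Fin m ⊕ Fin m) (Fin m ⊕ Fin m) F).mulVec v) ≠ 0) : Nat.card ↥(Subgroup.centralizer ({t} : Set ↥(Matrix.symplecticGroup (Fin m) F))) = q ^ (2 * m * s - (3 * s ^ 2 - 3 * s) / 2 - 1) * ((q : ℕ) ^ (((s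 - 2) / 2) ^ 2) * ∏ i : Fin ((s - 2) / 2), (q ^ (2 * ((i : ℕ) + 1)) - 1)) * ((q : ℕ) ^ ((m - s) ^ 2) * ∏ i : Fin (m - s), (q ^ (2 * ((i : ℕ) + 1)) - 1)) := by
  have hq : Nat.card F = q := by rw [Nat.card_eq_fintype_card, hF]
  obtain ⟨v, hv⟩ := hna
  obtain ⟨h1, hle, hcard⟩ := Agent.InvCent.card_centralizer_nonalt t ht hs
    ⟨v, by rw [Agent.InvCent.alt_iff]; exact hv⟩
  have he := Agent.InvCent.exp_arith_even hle h1
  obtain ⟨k, hk⟩ := heven.two_dvd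
  obtain ⟨j, rfl⟩ : ∃ j, s = 2 * j + 2 := ⟨k - 1, by omega⟩
  rw [hcard, (Agent.InvCent.onCount_odd_even _ j).2, hq, ← he, Agent.InvCent.spOrd_fin, Agent.InvCent.spOrd_fin,
    show (2 * j + 2 - 2) / 2 = j by omega, show 2 * j + 2 - 1 = 2 * j + 1 by omega, pow_add]
  ring

end Cfsg.Agent.S2682
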