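import Cfsg.Statements.S2683
import Cfsg.Agent.Lib.Orthogonal.CharTwoInv.OmegaCent

set_option autoImplicit false
open Cfsg

namespace Cfsg.Agent.S2683

/-- For the hyperbolic form Σ x_j y_j on F^(2m) over a finite field with q elements, q even (excluding m = 2 over the field of two elements), and an involution x of the orthogonal group with s = rank(x − 1) odd (type b_s; such x lie outside Ω): the elements of Ω (the commutator subgroup of the orthogonal group) commuting with x number q^(2m(s−1) − (3s² − 3s)/2) · |Sp_(s−1)(q)| · |Sp_(2m−2s)(q)|, where |Sp_2k(q)| = q^(k²) Π_(i=1)^k (q^(2i) − 1). -/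
theorem result {F : Type*} [Field F] [Fintype F] [CharP F 2] {q : ℕ} (hF : Fintype.card F = q) {m s : ℕ} (h : Fintype.card F ≠ 2 ∨ m ≠ 2) (x : ↥(Cfsg.isometryGroup F (Cfsg.quadFormPlus m F))) (hx : x ^ 2 = 1) (hs : (((x : Matrix.GeneralLinearGroup (Fin m ⊕ Fin m) F) : Matrix (Fin m ⊕ Fin m) (Fin m ⊕ Fin m) F) - 1).rank = s) (hodd : Odd s) : Nat.card {g : ↥(Cfsg.Omega F (Cfsg.quadFormPlus m F)) // (g : ↥(Cfsg.isometryGroup F (Cfsg.quadFormPlus m F))) * x = x * (g : ↥(Cfsg.isometryGroup F (Cfsg.quadFormPlus m F)))} = q ^ (2 * m * (s - 1) - (3 * s ^ 2 - 3 * s) / 2) * ((q : ℕ) ^ (((s - 1) / 2) ^ 2) * ∏ i : Fin ((s - 1) / 2), (q ^ (2 * ((i : ℕ) + 1)) - 1)) * ((q : ℕ) ^ ((m - s) ^ 2) * ∏ i : Fin (m - s), (q ^ (2 * ((i : ℕ) + 1)) - 1)) := by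
  have hq : Nat.card F = q := by rw [Nat.card_eq_fintype_card, hF]
  revert x
  rw [← Agent.Orth.coe_qPlus]
  intro x hx hs
  rw [pow_two] at hx
  have hna : ∃ v, Agent.Orth.qPlus F m (Agent.OrthInv2.nilOf x v) ≠ 0 := by
    by_contra hall
    push Not at hall
    have he := Agent.OrthInv2.alt_even (Agent.Orth.qPlus_nondeg m) hx hall
    rw [show Agent.OrthInv2.rk x = s from hs] at he
    exact (Nat.not_even_iff_odd.2 hodd) he
  obtain ⟨h1, hle, hcard⟩ := Agent.InvCent.plus_nonalt x h hx hna hs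
  obtain ⟨k, rfl⟩ := hodd
  rw [← Agent.InvCent.exp_odd h1 hle, (Agent.InvCent.onCount_odd_even _ k).1, Agent.InvCent.spOrd_fin,
    Agent.InvCent.spOrd_fin, hq] at hcard
  refine Nat.eq_of_mul_eq_mul_right (pow_pos (by rw [← hF]; exact Fintype.card_pos) (2 * m - (2 * k + 1))) (hcard.trans ?_)
  rw [show (2 * k + 1 - 1) / 2 = k by omega, pow_add]
  ring

end Cfsg.Agent.S2683
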