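import Cfsg.Statements.S2684
import Cfsg.Agent.Lib.Orthogonal.CharTwoInv.OmegaCent

set_option autoImplicit false
open Cfsg

namespace Cfsg.Agent.S2684

/-- For the hyperbolic form Q = Σ x_j y_j on F^(2m) over a finite field with q elements, q even (excluding m = 2 over the field of two elements), and an involution x ≠ 1 of the orthogonal group with s = rank(x − 1) even and Q vanishing on the image of x − 1 (equivalently f(v, xv) = 0 for all v, where f(u, w) = Q(u + w) − Q(u) − Q(w) is the bilinear form of Q; type a_s, which lies in Ω): its centraliser in Ω (the commutator subgroup of the orthogonal group) has order q^(2ms − (3s² + s)/2) · |Sp_s(q)| · |Ω⁺_(2m−2s)(q)|, where |Ω⁺_2k(q)| = q^(k(k−1)) (q^k − 1) Π_(i=1)^(k−1) (q^(2i) − 1) for k ≥ 1 and the last factor is 1 when s = m. -/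
theorem result {F : Type*} [Field F] [Fintype F] [CharP F 2] {q : ℕ} (hF : Fintype.card F = q) {m s : ℕ} (h : Fintype.card F ≠ 2 ∨ m ≠ 2) (x : ↥(Cfsg.isometryGroup F (Cfsg.quadFormPlus m F))) (hx : x ^ 2 = 1) (hx1 : x ≠ 1) (hs : (((x : Matrix.GeneralLinearGroup (Fin m ⊕ Fin m) F) : Matrix (Fin m ⊕ Fin m) (Fin m ⊕ Fin m) F) - 1).rank = s) (heven : Even s) (halt : ∀ v : Fin m ⊕ Fin m → F, Cfsg.quadFormPlus m F ((((x : Matrix.GeneralLinearGroup (Fin m ⊕ Fin m) F) : Matrix (Fin m ⊕ Fin m) (Fin m ⊕ Fin m) F) - 1).mulVec v) = 0) : Nat.card {g : ↥(Cfsg.Omega F (Cfsg.quadFormPlus m F)) // (g : ↥(Cfsg.isometryGroup F (Cfsg.quadFormPlus m F))) * x = x * (g : ↥(Cfsg.isometryGroup F (Cfsg.quadFormPlus m F)))} = q ^ (2 * m * s - (3 * s ^ 2 + s) / 2) * ((q : ℕ) ^ ((s / 2) ^ 2) * ∏ i : Fin (s / 2), (q ^ (2 * ((i : ℕ) + 1)) - 1)) * (if s = m then 1 else q ^ ((m - s) * (m - s - 1)) * (q ^ (m - s) - 1) * ∏ i : Fin (m - s - 1), (q ^ (2 * ((i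 : ℕ) + 1)) - 1)) := by
  have hq : Nat.card F = q := by rw [Nat.card_eq_fintype_card, hF]
  have hqpos : 0 < q := by rw [← hF]; exact Fintype.card_pos
  revert x
  rw [← Agent.Orth.coe_qPlus]
  intro x hx hx1 hs halt
  rw [pow_two] at hx
  obtain ⟨j, rfl⟩ := heven.two_dvd
  obtain ⟨h1, hle, hcard⟩ := Agent.InvCent.plus_alt x h hx hx1 halt hs
  rw [← Agent.InvCent.exp_alt hle, hq] at hcard
  rw [show 2 * j / 2 = j by omega, ← Agent.InvCent.spOrd_fin]
  by_cases hm : 2 * j = m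
  · rw [if_pos hm, mul_one, show m - 2 * j = 0 by omega, show Agent.InvCent.spOrd q 0 = 1 by
      simp [Agent.InvCent.spOrd], mul_one] at hcard
    rw [if_pos hm, mul_one]
    refine Nat.eq_of_mul_eq_mul_right (pow_pos hqpos m) (hcard.trans ?_)
    rw [pow_add, hm]
    ring
  · obtain ⟨e, he⟩ : ∃ e, m - 2 * j = e + 1 := ⟨m - 2 * j - 1, by omega⟩
    rw [if_neg hm, he, show Agent.InvCent.spOrd q (e + 1) = q ^ ((e + 1) ^ 2) *
      ((∏ i ∈ Finset.range e, (q ^ (2 * (i + 1)) - 1)) * (q ^ (2 * (e + 1)) - 1)) by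
      rw [Agent.InvCent.spOrd, Finset.prod_range_succ]] at hcard
    rw [if_neg hm, he, show e + 1 - 1 = e by omega, ← Finset.prod_range (fun i => q ^ (2 * (i + 1)) - 1)]
    refine Nat.eq_of_mul_eq_mul_right (Nat.mul_pos (pow_pos hqpos m) (Nat.succ_pos (q ^ (e + 1)))) (hcard.trans ?_)
    rw [pow_add, show (e + 1) ^ 2 = (e + 1) * e + (e + 1) by ring, pow_add,
      show q ^ (2 * (e + 1)) - 1 = (q ^ (e + 1) - 1) * (q ^ (e + 1) + 1) by
        rw [Agent.Orth.sub_one_mul_add_one, ← pow_add, two_mul],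
      show q ^ m = q ^ (2 * j) * q ^ (e + 1) by rw [← pow_add]; congr 1; omega]
    simp only [Nat.succ_eq_add_one]
    ring

end Cfsg.Agent.S2684
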