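import Cfsg.Statements.S2686
import Cfsg.Agent.Lib.AutBalance.LinGraph
import Cfsg.Agent.Lib.AutBalance.LinField
import Cfsg.Agent.Lib.AutPSL.Classes
-- import your own Cfsg.Agent.* helpers here

set_option autoImplicit false
open Cfsg

namespace Cfsg.Agent.S2686

open Cfsg.Agent Matrix

set_option maxHeartbeats 1600000 in
/-- A criterion for the failure of local balance in almost simple groups with linear socle. Let F be a finite field of characteristic r and K = PSL_n(F) (n ≥ 2) simple. Let A be a group of automorphisms of K containing all inner automorphisms (an almost simple group with socle K), and β ∈ A an automorphism of prime order p ≠ r that is not inner-diagonal (not induced by conjugation by an invertible matrix). Then the largest normal subgroup of C_A(β) of order prime to p is nontrivial if and only if β is the composite of an inner-diagonal automorphism with the automorphism induced by a field automorphism applied entrywise (β is of field type) and p does not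 divide the number of fixed points of β on K. -/
theorem result
    (F : Type*) [Field F] [Fintype F] (r : ℕ) [Fact r.Prime] [CharP F r] (n : ℕ) (hn : 2 ≤ n)
    (hK : IsSimpleGroup (Matrix.ProjectiveSpecialLinearGroup (Fin n) F))
    (𝒢 : Subgroup (MulAut (Matrix.ProjectiveSpecialLinearGroup (Fin n) F))) (hinn : ∀ k : Matrix.ProjectiveSpecialLinearGroup (Fin n) F, MulAut.conj k ∈ 𝒢)
    (p : ℕ) [Fact p.Prime] (hpr : p ≠ r) (β : MulAut (Matrix.ProjectiveSpecialLinearGroup (Fin n) F)) (hβ : β ∈ 𝒢) (hord : orderOf β = p)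
    (hnot : ¬ Cfsg.IsInnerDiagonalAutPSL β) :
    Cfsg.pPrimeCore p ↥(𝒢 ⊓ Subgroup.centralizer {β}) ≠ ⊥ ↔
      ((∃ γ φ : MulAut (Matrix.ProjectiveSpecialLinearGroup (Fin n) F), Cfsg.IsInnerDiagonalAutPSL γ ∧ Cfsg.IsFieldAutPSL φ ∧ β = φ.trans γ) ∧
        Nat.Coprime p (Nat.card ↥(MonoidHom.eqLocus β.toMonoidHom (MonoidHom.id (Matrix.ProjectiveSpecialLinearGroup (Fin n) F))))) := by
  classical
  obtain ⟨τ, e, ⟨g, hg⟩, he⟩ := AutPSL.exists_hasType hn β
  have hID : ∀ g : GL (Fin n) F, Cfsg.IsInnerDiagonalAutPSL (AutPSL.semi g 1 : MulAut _) := fun g =>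
    ⟨g, fun s s' hs => congrArg QuotientGroup.mk (Subtype.ext (by rw [hs]; rfl))⟩
  have h01 : e = 0 ∨ e = 1 := (by decide : ∀ e : ZMod 2, e = 0 ∨ e = 1) e
  have hp := (Fact.out : p.Prime)
  have hβp : β ^ p = 1 := hord ▸ pow_orderOf_eq_one β
  rcases h01 with rfl | rfl
  · -- field type
    rw [AutPSL.invTPow, if_pos rfl, mul_one] at hg
    subst hg
    have hτ1 : τ ≠ 1 := fun h => hnot (h ▸ hID g)
    have hτp : orderOf τ = p := by
      refine orderOf_eq_prime ?_ hτ1
      rw [AutPSL.semi_pow, AutPSL.semi_eq_one_iff hn] at hβp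
      exact hβp.1
    have hfield : ∃ γ φ : MulAut (Matrix.ProjectiveSpecialLinearGroup (Fin n) F),
        Cfsg.IsInnerDiagonalAutPSL γ ∧ Cfsg.IsFieldAutPSL φ ∧ AutPSL.semi g τ = φ.trans γ := by
      refine ⟨AutPSL.semi g 1, AutPSL.semi 1 τ, hID g, ⟨τ, fun s s' hs => congrArg QuotientGroup.mk (Subtype.ext ?_)⟩, ?_⟩
      · show (AutPSL.slSemi 1 τ s : Matrix (Fin n) (Fin n) F) = _
        rw [AutPSL.slSemi_coe, hs, inv_one, Units.val_one, one_mul, mul_one]
      · show _ = AutPSL.semi g 1 * AutPSL.semi 1 τ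
        rw [AutPSL.semi_mul', map_one, mul_one, one_mul]
    rw [and_iff_right hfield]
    obtain ⟨P, hP⟩ := AutPSL.conj_of_pow_eq_one hn g τ (by rw [hτp]; exact hβp)
    rw [← hP]
    exact AutBalance.iff_conj p (AutPSL.semi P 1)
      (fun A hA _ => AutBalance.psl_field (r := r) hn hpr hK hτp A hA) 𝒢 hinn (hP ▸ hβ)
  · -- graph type
    have hn3 : 3 ≤ n := by
      rcases Nat.lt_or_ge n 3 with h2 | h3
      · exact absurd (he (by omega)) (by decide)
      · exact h3
    rw [AutPSL.invTPow_one] at hg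
    subst hg
    have hone : AutPSL.HasType (1 : MulAut (Matrix.ProjectiveSpecialLinearGroup (Fin n) F)) 1 0 :=
      AutPSL.semi_one (n := n) (F := F) ▸ AutPSL.hasType_semi 1 1
    have hpow : ∀ k : ℕ, AutPSL.HasType ((AutPSL.semi g τ * AutPSL.invT :
        MulAut (Matrix.ProjectiveSpecialLinearGroup (Fin n) F)) ^ k) (τ ^ k) (k : ZMod 2) := fun k => by
      induction k with
      | zero => simpa using hone
      | succ k ih =>
        rw [pow_succ, pow_succ, Nat.cast_succ]
        exact ih.mul ⟨g, by rw [AutPSL.invTPow_one]⟩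
    have hu := (hpow p)
    rw [hβp] at hu
    obtain ⟨hτ2, hp0⟩ := hu.unique hn hone fun h2 => by omega
    obtain rfl : p = 2 := ((Nat.prime_dvd_prime_iff_eq Nat.prime_two hp).1
      ((ZMod.natCast_eq_zero_iff_even.1 hp0).two_dvd)).symm
    have hF2 : (2 : F) ≠ 0 := fun h => hpr (CharP.eq F (CharTwo.of_one_ne_zero_of_two_eq_zero one_ne_zero h) ‹_›)
    have hrhs : ¬ ∃ γ φ : MulAut (Matrix.ProjectiveSpecialLinearGroup (Fin n) F),
        Cfsg.IsInnerDiagonalAutPSL γ ∧ Cfsg.IsFieldAutPSL φ ∧ AutPSL.semi g τ * AutPSL.invT = φ.trans γ := by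
      rintro ⟨γ, φ, hγ, ⟨σ, hσ⟩, h⟩
      obtain ⟨a, rfl⟩ := AutPSL.mem_inndiag.1 (Subgroup.subset_closure hγ : γ ∈ Cfsg.inndiagPSL n F)
      rw [AutPSL.eq_of_isStdFieldAut hσ] at h
      have h0 : AutPSL.HasType (AutPSL.semi g τ * AutPSL.invT :
          MulAut (Matrix.ProjectiveSpecialLinearGroup (Fin n) F)) (1 * σ) 0 := by
        rw [h]
        exact (show AutPSL.HasType (AutPSL.semi a 1 * AutPSL.semi 1 σ :
          MulAut (Matrix.ProjectiveSpecialLinearGroup (Fin n) F)) (1 * σ) 0 from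
          ⟨a, by rw [AutPSL.invTPow, if_pos rfl, mul_one, AutPSL.semi_mul', map_one, mul_one]⟩)
      have h1 := h0.unique hn ⟨g, by rw [AutPSL.invTPow_one]⟩ fun h2 => by omega
      exact absurd h1.2 zero_ne_one
    rw [iff_false_right (fun h => hrhs h.1), not_ne_iff]
    rw [pow_two] at hτ2
    by_cases hτ1 : τ = 1
    · subst hτ1
      have hA := (AutPSL.grf_sq hn g).1 hβp
      obtain ⟨c, hc⟩ := hA
      exact AutBalance.psl_grf hn3 (r := r) hF2 (AutPSL.sym_or_skew (by omega) hc) 𝒢 hinn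
    · have hτ : orderOf τ = 2 := orderOf_eq_prime (by rw [pow_two, hτ2]) hτ1
      obtain ⟨P, hP⟩ := AutPSL.conj_graph_of_sq_eq_one hn3 g τ hτ hβp
      rw [← hP]
      exact AutBalance.bot_conj 2 (AutPSL.semi P 1)
        (fun A hA => AutBalance.psl_graphfield hn3 (r := r) hF2 hτ A hA) 𝒢 hinn

end Cfsg.Agent.S2686
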