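import Cfsg.Statements.S2687
import Cfsg.Agent.Lib.AutBalance.UniGraph
import Cfsg.Agent.Lib.AutPSU.Classes
-- import your own Cfsg.Agent.* helpers here

set_option autoImplicit false
open Cfsg

namespace Cfsg.Agent.S2687

open Cfsg.Agent Matrix

set_option maxHeartbeats 1600000 in
/-- A criterion for the failure of local balance in almost simple groups with unitary socle. Let F be a finite field of characteristic r with q² elements and K = PSU_n(q) (n ≥ 3, the central quotient of the determinant-one isometries of the standard Hermitian form) simple. Let A be a group of automorphisms of K containing all inner automorphisms, and β ∈ A an automorphism of prime order p ≠ r that is not inner-diagonal (not induced by conjugation by a matrix of the general unitary group). Then the largest normal subgroup of C_A(β) of order prime to p is nontrivial if and only if β is the composite of an inner-diagonal automorphism with the automorphism induced by a field automorphism of F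 applied entrywise and p does not divide the number of fixed points of β on K. -/
theorem result
    (F : Type*) [Field F] [Fintype F] (r : ℕ) [Fact r.Prime] [CharP F r] (q : ℕ) (hF : Fintype.card F = q ^ 2)
    (n : ℕ) (hn : 3 ≤ n) (hK : IsSimpleGroup (Cfsg.PSU n F q))
    (𝒢 : Subgroup (MulAut (Cfsg.PSU n F q))) (hinn : ∀ k : Cfsg.PSU n F q, MulAut.conj k ∈ 𝒢)
    (p : ℕ) [Fact p.Prime] (hpr : p ≠ r) (β : MulAut (Cfsg.PSU n F q)) (hβ : β ∈ 𝒢) (hord : orderOf β = p)
    (hnot : ¬ Cfsg.IsInnerDiagonalAutPSU β) :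
    Cfsg.pPrimeCore p ↥(𝒢 ⊓ Subgroup.centralizer {β}) ≠ ⊥ ↔
      ((∃ γ φ : MulAut (Cfsg.PSU n F q), Cfsg.IsInnerDiagonalAutPSU γ ∧ (∃ σ : F ≃+* F, Cfsg.IsFieldAutPSUOf σ φ) ∧ β = φ.trans γ) ∧
        Nat.Coprime p (Nat.card ↥(MonoidHom.eqLocus β.toMonoidHom (MonoidHom.id (Cfsg.PSU n F q))))) := by
  classical
  have hs := AutBalance.not_three_two hF hK
  obtain ⟨C⟩ := AutPSU.exists_conj hF
  obtain ⟨g, τ, rfl⟩ := AutPSU.exists_semi' hn hF hs β
  have hp := (Fact.out : p.Prime)
  have hID : Cfsg.IsInnerDiagonalAutPSU (AutPSU.semi g 1 : MulAut (Cfsg.PSU n F q)) :=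
    ⟨g, g.2, fun s s' hs => AutPSU.induced_semi g 1 s s' (hs.trans (by simp))⟩
  have hfield : ∃ γ φ : MulAut (Cfsg.PSU n F q), Cfsg.IsInnerDiagonalAutPSU γ ∧
      (∃ σ : F ≃+* F, Cfsg.IsFieldAutPSUOf σ φ) ∧ AutPSU.semi g τ = φ.trans γ :=
    ⟨AutPSU.semi g 1, AutPSU.semi 1 τ, hID, ⟨τ, fun s s' hs => AutPSU.induced_semi 1 τ s s' (hs.trans (by simp))⟩,
      AutPSU.semi_decomp g τ⟩
  rw [and_iff_right hfield]
  have hβp : (AutPSU.semi g τ : MulAut (Cfsg.PSU n F q)) ^ p = 1 := hord ▸ pow_orderOf_eq_one _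
  have hτ1 : τ ≠ 1 := fun h => hnot (h ▸ hID)
  have hτp : orderOf τ = p := by
    refine orderOf_eq_prime ?_ hτ1
    have h := hβp
    rw [AutPSU.semi_pow] at h
    exact ((AutPSU.semi_eq_one_iff' C hn hF).1 h).1
  by_cases hp2 : p = 2
  · subst hp2
    have hF2 : (2 : F) ≠ 0 := fun h => hpr (CharP.eq F (CharTwo.of_one_ne_zero_of_two_eq_zero one_ne_zero h) ‹_›)
    obtain rfl := AutPSU.sigma_unique C (hτp ▸ pow_orderOf_eq_one τ) hτ1
    have hsq := hβp
    rw [pow_two, AutPSU.semi_mul, ← AutPSU.semi_one,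
      show C.σ * C.σ = 1 from RingEquiv.ext C.invol, AutPSU.semi_iff C hn hF] at hsq
    obtain ⟨a, ha⟩ := hsq
    rw [AutPSU.mat_mul, AutPSU.mat_mapGU] at ha
    have e : AutPSU.mat g = a • (AutPSU.mat g)ᵀ := by
      have := congrArg (· * (AutPSU.mat g)ᵀ) ha
      simp only [Matrix.mul_assoc, AutPSU.mat_sq C, Matrix.mul_one, Matrix.smul_mul] at this
      refine this.trans ?_
      show a • ((1 : Matrix (Fin n) (Fin n) F) * (AutPSU.mat g)ᵀ) = _
      rw [Matrix.one_mul]
    haveI : Nonempty (Fin n) := ⟨⟨0, by omega⟩⟩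
    have ha0 : a ≠ 0 := fun h0 => AutPSU.mat_ne_zero g (by rw [e, h0, zero_smul])
    obtain ⟨hbot, hne⟩ := AutBalance.psu_grf hn (r := r) hF2 hF hK C
      (AutPSL.sym_or_skew (by omega) (A := (g : GL (Fin n) F)) (c := Units.mk0 a ha0) e) 𝒢 hinn
    refine iff_of_false (fun h => h hbot) fun hco => ?_
    rw [AutBalance.card_eqLocus (AutBalance.center_psu hn hF hK)] at hco
    exact AutBalance.core_ne_bot_of_coprime 𝒢 hinn hco.symm hne hbot
  · obtain ⟨P, hP⟩ := AutPSU.conj_of_pow_eq_one C hn hF g τ (hτp ▸ hp.odd_of_ne_two hp2)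
      (by rw [hτp]; exact hβp)
    rw [← hP]
    exact AutBalance.iff_conj p (AutPSU.semi P 1)
      (fun A hA _ => AutBalance.psu_field (r := r) hn hpr hp2 hF hK hτp A hA) 𝒢 hinn (hP ▸ hβ)

end Cfsg.Agent.S2687
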