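import Cfsg.Statements.S2690
import Cfsg.Agent.Lib.AutPSL.Outer

set_option autoImplicit false
open Cfsg

namespace Cfsg.Agent.S2690

open AutPSL in
theorem std_inner {F : Type*} [Field F] {n : ℕ} (g : GL (Fin n) F) :
    Cfsg.IsInnerDiagonalAutPSL (semi g 1 : MulAut (Matrix.ProjectiveSpecialLinearGroup (Fin n) F)) := by
  refine ⟨g, fun s s' h => congrArg QuotientGroup.mk (Subtype.ext ?_)⟩
  rw [h]; rfl

open AutPSL in
theorem std_field {F : Type*} [Field F] {n : ℕ} (σ : F ≃+* F) :
    Cfsg.IsStdFieldAutPSL σ (semi 1 σ : MulAut (Matrix.ProjectiveSpecialLinearGroup (Fin n) F)) := by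
  refine fun s s' h => congrArg QuotientGroup.mk (Subtype.ext ?_)
  rw [h]
  show (1 : Matrix (Fin n) (Fin n) F) * _ * _ = _
  simp

open AutPSL in
theorem std_invT {F : Type*} [Field F] {n : ℕ} :
    Cfsg.IsInverseTransposeAutPSL (invT : MulAut (Matrix.ProjectiveSpecialLinearGroup (Fin n) F)) := by
  refine fun s s' h => congrArg QuotientGroup.mk (Subtype.ext ?_)
  rw [h]; rfl


/-- Every automorphism of a simple projective special linear group PSL_n(F) over a finite field (n ≥ 2; |F| ≥ 4 when n = 2) is a product δ φ γ of an inner-diagonal automorphism δ (induced by an invertible matrix), a standard field automorphism φ (one automorphism of F applied to every entry, possibly the identity) and γ either the identity or the inverse-transpose automorphism. -/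
theorem result {F : Type*} [Field F] [Fintype F] {p f : ℕ} [Fact p.Prime] (hF : Fintype.card F = p ^ f) (hf : 1 ≤ f) {n : ℕ} (hn : 2 ≤ n) (hs : n = 2 → 4 ≤ Fintype.card F) (β : MulAut (Matrix.ProjectiveSpecialLinearGroup (Fin n) F)) :
    ∃ (δ φ γ : MulAut (Matrix.ProjectiveSpecialLinearGroup (Fin n) F)) (σ : F ≃+* F), Cfsg.IsInnerDiagonalAutPSL δ ∧ Cfsg.IsStdFieldAutPSL σ φ ∧ (γ = 1 ∨ Cfsg.IsInverseTransposeAutPSL γ) ∧ β = δ * φ * γ := by
  obtain ⟨σ, e, ⟨g, hg⟩, -⟩ := AutPSL.exists_hasType hn β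
  refine ⟨AutPSL.semi g 1, AutPSL.semi 1 σ, AutPSL.invTPow e, σ, std_inner g, std_field σ, ?_, ?_⟩
  · unfold AutPSL.invTPow
    split_ifs
    · exact Or.inl rfl
    · exact Or.inr std_invT
  · rw [hg, AutPSL.semi_mul, map_one, mul_one, one_mul]

end Cfsg.Agent.S2690
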