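import Cfsg.Statements.S2697
import Cfsg.Agent.Lib.AutPSL.Classes

set_option autoImplicit false
open Cfsg

namespace Cfsg.Agent.S2697

/-- Let T = PSL_n(F) be simple over a finite field (n ≥ 2; |F| ≥ 4 when n = 2) and let x be a field automorphism or a graph-field automorphism of T of prime order r. Then an element y of the coset Inndiag(T)·x (that is, y = δ x with δ in the inner-diagonal group, the image of PGL_n(F)) has order r if and only if y is conjugate to x by an element of Inndiag(T). -/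
theorem result {F : Type*} [Field F] [Fintype F] {p f : ℕ} [Fact p.Prime] (hF : Fintype.card F = p ^ f) (hf : 1 ≤ f) {n : ℕ} (hn : 2 ≤ n) (hs : n = 2 → 4 ≤ Fintype.card F) (x δ : MulAut (Matrix.ProjectiveSpecialLinearGroup (Fin n) F)) (hx : Cfsg.IsFieldAutClassPSL x ∨ Cfsg.IsGraphFieldAutClassPSL x) {r : ℕ} (hr : r.Prime) (hxr : orderOf x = r) (hδ : δ ∈ Cfsg.inndiagPSL n F) :
    orderOf (δ * x) = r ↔ Cfsg.IsConjUnder (Cfsg.inndiagPSL n F) x (δ * x) := by
  constructor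
  · intro hord
    obtain ⟨d, rfl⟩ := AutPSL.mem_inndiag.1 hδ
    have mem : ∀ g : GL (Fin n) F, AutPSL.semi g 1 ∈ Cfsg.inndiagPSL n F := fun g =>
      AutPSL.mem_inndiag.2 ⟨g, rfl⟩
    rcases hx with hx | hx
    · obtain ⟨σ, P, -, ho, hP⟩ := AutPSL.exists_conj_field hn hx
      obtain ⟨g, hg⟩ : ∃ g, AutPSL.semi d 1 * x = AutPSL.semi g σ :=
        ⟨_, by rw [hP, AutPSL.semi_conj, AutPSL.semi_mul', AutPSL.mapGL_one, one_mul]⟩
      obtain ⟨Q, hQ⟩ := AutPSL.conj_of_pow_eq_one hn g σ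
        (by rw [← hg, ← ho, hxr, ← hord, pow_orderOf_eq_one])
      refine ⟨AutPSL.semi Q 1 * (AutPSL.semi P 1)⁻¹,
        Subgroup.mul_mem _ (mem Q) (Subgroup.inv_mem _ (mem P)), ?_⟩
      rw [hg, ← hQ, hP]
      group
    · obtain ⟨hr2, hn3, σ, P, hσ, hP⟩ := AutPSL.exists_conj_graph hx hr hxr
      obtain ⟨g, hg⟩ : ∃ g, AutPSL.semi d 1 * x = AutPSL.semi g σ * AutPSL.invT :=
        ⟨_, by rw [hP, AutPSL.semi_conj_graph, ← mul_assoc, AutPSL.semi_mul', AutPSL.mapGL_one, one_mul]⟩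
      obtain ⟨Q, hQ⟩ := AutPSL.conj_graph_of_sq_eq_one hn3 g σ hσ
        (by rw [← hg, ← hr2, ← hord, pow_orderOf_eq_one])
      refine ⟨AutPSL.semi Q 1 * (AutPSL.semi P 1)⁻¹,
        Subgroup.mul_mem _ (mem Q) (Subgroup.inv_mem _ (mem P)), ?_⟩
      rw [hg, ← hQ, hP]
      group
  · rintro ⟨h, -, hy⟩
    rw [hy, show h * x * h⁻¹ = MulAut.conj h x from (MulAut.conj_apply h x).symm,
      MulEquiv.orderOf_eq, hxr]

end Cfsg.Agent.S2697
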