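import Cfsg.Statements.S2698
import Cfsg.Agent.Lib.AutPSL.Centralizer

set_option autoImplicit false
open Cfsg

namespace Cfsg.Agent.S2698

/-- Let T = PSL_n(F) be simple over the field F with p^f elements (n ≥ 2; p^f ≥ 4 when n = 2), G = Inndiag(T) the image of PGL_n(F) in Aut(T), and x a field automorphism of T of prime order r. Then r divides f; the centralizer C_G(x) is isomorphic to PGL_n(F₀) for the subfield size |F₀| = p^(f/r); and the G-class of x is the union of exactly gcd(n, (p^f − 1)/(p^(f/r) − 1)) classes under conjugation by T (the inner automorphism group). -/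
theorem result {F : Type*} [Field F] [Fintype F] {p f : ℕ} [Fact p.Prime] (hF : Fintype.card F = p ^ f) (hf : 1 ≤ f) {n : ℕ} (hn : 2 ≤ n) (hs : n = 2 → 4 ≤ Fintype.card F) (x : MulAut (Matrix.ProjectiveSpecialLinearGroup (Fin n) F)) (hx : Cfsg.IsFieldAutClassPSL x) {r : ℕ} (hr : r.Prime) (hxr : orderOf x = r) (F₀ : Type*) [Field F₀] [Fintype F₀] (hF₀ : Fintype.card F₀ = p ^ (f / r)) :
    r ∣ f ∧ Nonempty (↥(Cfsg.inndiagPSL n F ⊓ Subgroup.centralizer {x}) ≃* Matrix.ProjGenLinGroup (Fin n) F₀) ∧ Cfsg.splitClassCount (Cfsg.inndiagPSL n F) (Cfsg.Inn (Matrix.ProjectiveSpecialLinearGroup (Fin n) F)) x = Nat.gcd n ((p ^ f - 1) / (p ^ (f / r) - 1)) := by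
  obtain ⟨σ, P, -, ho, rfl⟩ := AutPSL.exists_conj_field hn hx
  have hσr : orderOf σ = r := ho.symm.trans hxr
  obtain ⟨K, hK, hcard⟩ := AutPSL.exists_fixed_field σ
  have hK0 := AutPSL.card_fixed_field p f hF hcard
  rw [hσr] at hK0
  have hmem : AutPSL.semi P 1 ∈ Cfsg.inndiagPSL n F := AutPSL.mem_inndiag.2 ⟨P, rfl⟩
  have : Finite K := Subtype.finite
  have : Fintype K := Fintype.ofFinite _
  obtain ⟨e⟩ : Nonempty (F₀ ≃+* K) :=
    ⟨FiniteField.ringEquivOfCardEq (K := F₀) (K' := K) (by rw [hF₀, ← hK0, Nat.card_eq_fintype_card])⟩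
  obtain ⟨E1⟩ := AutPSL.centralizer_conj_equiv (Cfsg.inndiagPSL n F)
    (AutPSL.semi 1 σ) (AutPSL.semi P 1) hmem
  obtain ⟨E2⟩ := AutPSL.centralizer_field hn σ (K.subtype.comp e.toRingHom) (fun a => by
    rw [← hK]
    constructor
    · rintro ⟨b, rfl⟩
      exact (e b).2
    · intro ha
      exact ⟨e.symm ⟨a, ha⟩, by simp⟩)
  refine ⟨hσr ▸ AutPSL.orderOf_dvd_exponent p f hF σ, ⟨E1.trans E2⟩, ?_⟩
  rw [AutPSL.splitClassCount_conj _ _ _ _ hmem, AutPSL.split_field hn]
  congr 1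
  have h := Subgroup.card_mul_index (AutPSL.fixedUnits σ)
  rw [AutPSL.card_fixedUnits hK, Nat.card_units, Nat.card_eq_fintype_card (α := F), hF, hK0] at h
  have h1 : 0 < p ^ (f / r) - 1 := by
    have := Finite.one_lt_card (α := K)
    omega
  rw [← h, Nat.mul_div_cancel_left _ h1]

end Cfsg.Agent.S2698
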