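import Cfsg.Statements.S2699
import Cfsg.Agent.Lib.AutPSL.GraphInvClasses
-- import your own Cfsg.Agent.* helpers here

set_option autoImplicit false
open Cfsg

namespace Cfsg.Agent.S2699

open Cfsg.Agent Matrix

set_option maxHeartbeats 1600000 in
/-- Let T = PSL_n(F) over the field with p^f elements with n ≥ 3 odd, n = 2m + 1, and G = Inndiag(T) the image of PGL_n(F). Every involutory graph automorphism γ of T (an inner-diagonal automorphism followed by inverse-transpose, of order 2) has centralizer C_G(γ) isomorphic to the projective conformal orthogonal group of the form x₀² + Σ xᵢ yᵢ in dimension n (for q even this group is isomorphic to Sp_{n−1}(q)), and any two involutory graph automorphisms are G-conjugate. -/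
theorem result {F : Type*} [Field F] [Fintype F] {p f : ℕ} [Fact p.Prime] (hF : Fintype.card F = p ^ f) (hf : 1 ≤ f) {n : ℕ} (hn : 3 ≤ n) {m : ℕ} (hnm : n = 2 * m + 1) (γ γ' : MulAut (Matrix.ProjectiveSpecialLinearGroup (Fin n) F)) (hγ : Cfsg.IsGraphAutClassPSL γ) (hγ2 : orderOf γ = 2) (hγ' : Cfsg.IsGraphAutClassPSL γ') (hγ'2 : orderOf γ' = 2) :
    Nonempty (↥(Cfsg.inndiagPSL n F ⊓ Subgroup.centralizer {γ}) ≃* Cfsg.PGO F (Cfsg.quadFormOdd m F)) ∧ Cfsg.IsConjUnder (Cfsg.inndiagPSL n F) γ γ' := by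
  have hn2 : 2 ≤ n := by omega
  obtain ⟨A, rfl, hA⟩ := AutPSL.exists_grf hn hγ hγ2
  obtain ⟨B, rfl, hB⟩ := AutPSL.exists_grf hn hγ' hγ'2
  haveI : CharP F p := charP_of_card_eq_prime_pow (R := F) hF
  by_cases h2 : (2 : F) = 0
  · haveI : CharP F 2 := CharTwo.of_one_ne_zero_of_two_eq_zero one_ne_zero h2
    refine ⟨?_, (AutPSL.conj_grf hn2 A B).2
      ((AutPSL.cong_odd_dim_two hnm hA).trans (AutPSL.cong_odd_dim_two hnm hB).symm)⟩
    obtain ⟨e⟩ := AutPSL.centralizer_of_cong hn2 (AutPSL.cong_odd_dim_two hnm hA)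
    obtain ⟨e'⟩ := SimForms.projQuot_aOdd (F := F) m
    exact ⟨e.trans e'⟩
  · exact ⟨AutPSL.pgo_of_cong hn2 h2 (SimForms.mOdd_symm m) (SimForms.bl_mOdd m)
      (AutPSL.cong_odd_dim h2 hnm hA), (AutPSL.conj_grf hn2 A B).2
        ((AutPSL.cong_odd_dim h2 hnm hA).trans (AutPSL.cong_odd_dim h2 hnm hB).symm)⟩

end Cfsg.Agent.S2699
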