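import Cfsg.Statements.S2700
import Cfsg.Agent.Lib.AutPSL.GraphInvClasses
-- import your own Cfsg.Agent.* helpers here

set_option autoImplicit false
open Cfsg

namespace Cfsg.Agent.S2700

open Cfsg.Agent Matrix

set_option maxHeartbeats 1600000 in
/-- Let T = PSL_n(F) over a finite field of odd order with n = 2m ≥ 4 even, and G = Inndiag(T) the image of PGL_n(F). The involutory graph automorphisms of T fall into exactly three G-classes, with representatives γ₁, γ₂, γ₃ whose centralizers in G are isomorphic respectively to the projective conformal symplectic group PGSp_n(F), the projective conformal orthogonal group of the plus-type form Σ xᵢ yᵢ, and that of a minus-type form Σ xᵢ yᵢ + z₁² + a z₁ z₂ + b z₂² (anisotropic binary part) in dimension n. -/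
theorem result {F : Type*} [Field F] [Fintype F] (hodd : Odd (Fintype.card F)) {n m : ℕ} (hm : 2 ≤ m) (hnm : n = 2 * m) :
    ∃ (γ₁ γ₂ γ₃ : MulAut (Matrix.ProjectiveSpecialLinearGroup (Fin n) F)) (a b : F), (∀ z₁ z₂ : F, z₁ ^ 2 + a * z₁ * z₂ + b * z₂ ^ 2 = 0 → z₁ = 0 ∧ z₂ = 0) ∧ Cfsg.IsGraphAutClassPSL γ₁ ∧ orderOf γ₁ = 2 ∧ Cfsg.IsGraphAutClassPSL γ₂ ∧ orderOf γ₂ = 2 ∧ Cfsg.IsGraphAutClassPSL γ₃ ∧ orderOf γ₃ = 2 ∧ ¬ Cfsg.IsConjUnder (Cfsg.inndiagPSL n F) γ₁ γ₂ ∧ ¬ Cfsg.IsConjUnder (Cfsg.inndiagPSL n F) γ₁ γ₃ ∧ ¬ Cfsg.IsConjUnder (Cfsg.inndiagPSL n F) γ₂ γ₃ ∧ (∀ γ : MulAut (Matrix.ProjectiveSpecialLinearGroup (Fin n) F), Cfsg.IsGraphAutClassPSL γ → orderOf γ = 2 → Cfsg.IsConjUnder (Cfsg.inndiagPSL n F) γ₁ γ ∨ Cfsg.IsConjUnder (Cfsg.inndiagPSL n F) γ₂ γ ∨ Cfsg.IsConjUnder (Cfsg.inndiagPSL n F) γ₃ γ) ∧ Nonempty (↥(Cfsg.inndiagPSL n F ⊓ Subgroup.centralizer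 {γ₁}) ≃* Cfsg.PGSp m F) ∧ Nonempty (↥(Cfsg.inndiagPSL n F ⊓ Subgroup.centralizer {γ₂}) ≃* Cfsg.PGO F (Cfsg.quadFormPlus m F)) ∧ Nonempty (↥(Cfsg.inndiagPSL n F ⊓ Subgroup.centralizer {γ₃}) ≃* Cfsg.PGO F (Cfsg.quadFormMinus (m - 1) F a b)) := by
  have h2 : (2 : F) ≠ 0 := Orth.two_ne_zero_of_odd hodd
  have hn2 : 2 ≤ n := by omega
  have hn3 : 3 ≤ n := by omega
  haveI : Nonempty (Fin m ⊕ Fin m) := ⟨Sum.inl ⟨0, by omega⟩⟩
  obtain ⟨a, b, hab⟩ := AutPSL.exists_aniso (F := F) h2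
  obtain ⟨A₁, h₁, -, s₁⟩ := AutPSL.exists_model (n := n) (by simp; omega) (AutPSL.J_unit (F := F) m)
  obtain ⟨A₂, h₂, s₂, -⟩ := AutPSL.exists_model (n := n) (by simp; omega) (SimForms.mPlus_unit (F := F) m)
  obtain ⟨A₃, h₃, s₃, -⟩ := AutPSL.exists_model (n := n) (by simp; omega) (SimForms.mMinus_unit h2 (m - 1) hab)
  replace s₁ := s₁ (AutPSL.J_symm_or m)
  replace s₂ := s₂ (SimForms.mPlus_symm m)
  replace s₃ := s₃ (SimForms.mMinus_symm _ a b)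
  haveI : Nonempty (Fin n) := ⟨⟨0, by omega⟩⟩
  have hne : ∀ {B : GL (Fin n) F}, (B : Matrix (Fin n) (Fin n) F)ᵀ = (B : Matrix (Fin n) (Fin n) F) →
      ¬ SimForms.Cong (A₁ : Matrix (Fin n) (Fin n) F) (B : Matrix (Fin n) (Fin n) F) := fun hB h =>
    AutPSL.not_alt_of_sym h2 (Units.isUnit _) hB ((AutPSL.alt_of_skew h2 s₁).of_cong h)
  obtain ⟨e₁⟩ := AutPSL.centralizer_of_cong hn2 h₁
  refine ⟨AutPSL.grf A₁, AutPSL.grf A₂, AutPSL.grf A₃, a, b, hab,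
    AutPSL.isGraph_grf hn3 _, AutPSL.orderOf_grf hn3 (Or.inr s₁),
    AutPSL.isGraph_grf hn3 _, AutPSL.orderOf_grf hn3 (Or.inl s₂),
    AutPSL.isGraph_grf hn3 _, AutPSL.orderOf_grf hn3 (Or.inl s₃),
    fun h => hne s₂ ((AutPSL.conj_grf hn2 _ _).1 h), fun h => hne s₃ ((AutPSL.conj_grf hn2 _ _).1 h),
    fun h => AutPSL.plus_not_cong_minus h2 (by omega) hab
      ((h₂.symm.trans ((AutPSL.conj_grf hn2 _ _).1 h)).trans h₃),
    fun γ hγ hγ2 => ?_, ⟨e₁⟩,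
    AutPSL.pgo_of_cong hn2 h2 (SimForms.mPlus_symm m) (SimForms.bl_mPlus m) h₂,
    AutPSL.pgo_of_cong hn2 h2 (SimForms.mMinus_symm _ a b) (SimForms.bl_mMinus _ a b) h₃⟩
  obtain ⟨A, rfl, hA⟩ := AutPSL.exists_grf hn3 hγ hγ2
  rcases hA with hA | hA
  · rcases AutPSL.cong_plus_or_minus h2 (by omega) hnm hab hA with h | h
    · exact Or.inr (Or.inl ((AutPSL.conj_grf hn2 _ _).2 (h₂.trans h.symm)))
    · exact Or.inr (Or.inr ((AutPSL.conj_grf hn2 _ _).2 (h₃.trans h.symm)))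
  · exact Or.inl ((AutPSL.conj_grf hn2 _ _).2
      (h₁.trans (AutPSL.cong_J_of_alt hnm (AutPSL.alt_of_skew h2 hA)).symm))

end Cfsg.Agent.S2700
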