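import Cfsg.Statements.S2701
import Cfsg.Agent.Lib.AutPSL.GraphInvClasses
-- import your own Cfsg.Agent.* helpers here

set_option autoImplicit false
open Cfsg

namespace Cfsg.Agent.S2701

open Cfsg.Agent Matrix

set_option maxHeartbeats 1600000 in
/-- Let T = PSL_n(F) over a finite field of characteristic 2 with n = 2m ≥ 4 even, and G = Inndiag(T) the image of PGL_n(F). The involutory graph automorphisms of T fall into exactly two G-classes, with representatives γ₁ and γ₃ whose centralizers in G are isomorphic respectively to the symplectic group Sp_n(F) and to the centralizer in Sp_n(F) of a symplectic transvection. -/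
theorem result {F : Type*} [Field F] [Fintype F] [CharP F 2] {n m : ℕ} (hm : 2 ≤ m) (hnm : n = 2 * m) :
    ∃ (γ₁ γ₃ : MulAut (Matrix.ProjectiveSpecialLinearGroup (Fin n) F)) (t : ↥(Matrix.symplecticGroup (Fin m) F)), Cfsg.IsTransvection (t : Matrix (Fin m ⊕ Fin m) (Fin m ⊕ Fin m) F) ∧ Cfsg.IsGraphAutClassPSL γ₁ ∧ orderOf γ₁ = 2 ∧ Cfsg.IsGraphAutClassPSL γ₃ ∧ orderOf γ₃ = 2 ∧ ¬ Cfsg.IsConjUnder (Cfsg.inndiagPSL n F) γ₁ γ₃ ∧ (∀ γ : MulAut (Matrix.ProjectiveSpecialLinearGroup (Fin n) F), Cfsg.IsGraphAutClassPSL γ → orderOf γ = 2 → Cfsg.IsConjUnder (Cfsg.inndiagPSL n F) γ₁ γ ∨ Cfsg.IsConjUnder (Cfsg.inndiagPSL n F) γ₃ γ) ∧ Nonempty (↥(Cfsg.inndiagPSL n F ⊓ Subgroup.centralizer {γ₁}) ≃* ↥(Matrix.symplecticGroup (Fin m) F)) ∧ Nonempty (↥(Cfsg.inndiagPSL n F ⊓ Subgroup.centralizer {γ₃}) ≃* ↥(Subgroup.centralizer ({t} : Set ↥(Matrix.symplecticGroup (Fin m) F)))) := by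
  have hn2 : 2 ≤ n := by omega
  have hn3 : 3 ≤ n := by omega
  have hm0 : 0 < m := by omega
  obtain ⟨A₁, h₁, -, s₁⟩ := AutPSL.exists_model (n := n) (by simp; omega) (AutPSL.J_unit (F := F) m)
  obtain ⟨A₃, h₃, s₃, -⟩ := AutPSL.exists_model (n := n) (by simp; omega) (SimForms.a0_unit (F := F) m hm0)
  replace s₁ := s₁ (AutPSL.J_symm_or m)
  replace s₃ := s₃ (SimForms.a0_symm m hm0)
  obtain ⟨e₁⟩ := AutPSL.centralizer_of_cong hn2 h₁
  obtain ⟨e₁'⟩ := SimForms.projQuot_J (F := F) hm0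
  obtain ⟨e₃⟩ := AutPSL.centralizer_of_cong hn2 h₃
  obtain ⟨e₃'⟩ := SimForms.projQuot_a0 (F := F) m hm0
  refine ⟨AutPSL.grf A₁, AutPSL.grf A₃, ⟨_, SimForms.transv_mem m hm0⟩,
    SimForms.transv_isTransvection m hm0,
    AutPSL.isGraph_grf hn3 _, AutPSL.orderOf_grf hn3 (Or.inr s₁),
    AutPSL.isGraph_grf hn3 _, AutPSL.orderOf_grf hn3 (Or.inl s₃),
    fun h => SimForms.not_alt_a0 (F := F) m hm0
      ((SimForms.isAltM_J (F := F) m).of_cong ((h₁.symm.trans ((AutPSL.conj_grf hn2 _ _).1 h)).trans h₃)),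
    fun γ hγ hγ2 => ?_, ⟨e₁.trans e₁'⟩, ⟨e₃.trans e₃'⟩⟩
  obtain ⟨A, rfl, hA⟩ := AutPSL.exists_grf hn3 hγ hγ2
  by_cases halt : SimForms.IsAltM (A : Matrix (Fin n) (Fin n) F)
  · exact Or.inl ((AutPSL.conj_grf hn2 _ _).2 (h₁.trans (AutPSL.cong_J_of_alt hnm halt).symm))
  · exact Or.inr ((AutPSL.conj_grf hn2 _ _).2
      (h₃.trans (AutPSL.cong_even_dim_two hm0 hnm (AutPSL.sym_of_char_two hA) halt).symm))

end Cfsg.Agent.S2701
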