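import Cfsg.Statements.S2702
import Cfsg.Agent.Lib.AutPSL.GraphInvClasses
-- import your own Cfsg.Agent.* helpers here

set_option autoImplicit false
open Cfsg

namespace Cfsg.Agent.S2702

open Cfsg.Agent Matrix

set_option maxHeartbeats 1600000 in
/-- Let T = PSL_n(F) over the field with q = p^f elements, n ≥ 3, G = Inndiag(T) the image of PGL_n(F), and γ an involutory graph automorphism of T. The G-class of γ is the union of exactly c T-classes, where: if n is even and q is odd, c = gcd(n/2, q − 1) when C_G(γ) is isomorphic to the projective conformal symplectic group PGSp_n(F) (symplectic type) and c = gcd(n, q − 1)/2 otherwise; and c = gcd(n, q − 1) when n is odd or q is even. -/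
theorem result {F : Type*} [Field F] [Fintype F] {p f : ℕ} [Fact p.Prime] (hF : Fintype.card F = p ^ f) (hf : 1 ≤ f) {n : ℕ} (hn : 3 ≤ n) (γ : MulAut (Matrix.ProjectiveSpecialLinearGroup (Fin n) F)) (hγ : Cfsg.IsGraphAutClassPSL γ) (hγ2 : orderOf γ = 2) :
    ((Even n ∧ Odd p ∧ Nonempty (↥(Cfsg.inndiagPSL n F ⊓ Subgroup.centralizer {γ}) ≃* Cfsg.PGSp (n / 2) F)) → Cfsg.splitClassCount (Cfsg.inndiagPSL n F) (Cfsg.Inn (Matrix.ProjectiveSpecialLinearGroup (Fin n) F)) γ = Nat.gcd (n / 2) (p ^ f - 1)) ∧ ((Even n ∧ Odd p ∧ ¬ Nonempty (↥(Cfsg.inndiagPSL n F ⊓ Subgroup.centralizer {γ}) ≃* Cfsg.PGSp (n / 2) F)) → Cfsg.splitClassCount (Cfsg.inndiagPSL n F) (Cfsg.Inn (Matrix.ProjectiveSpecialLinearGroup (Fin n) F)) γ = Nat.gcd n (p ^ f - 1) / 2) ∧ (¬ (Even n ∧ Odd p) → Cfsg.splitClassCount (Cfsg.inndiagPSL n F) (Cfsg.Inn (Matrix.ProjectiveSpecialLinearGroup (Fin n) F)) γ = Nat.gcd n (p ^ f - 1)) := by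
  have hn2 : 2 ≤ n := by omega
  obtain ⟨A, rfl, hA⟩ := AutPSL.exists_grf hn hγ hγ2
  haveI : CharP F p := charP_of_card_eq_prime_pow (R := F) hF
  haveI : Nonempty (Fin n) := ⟨⟨0, by omega⟩⟩
  have hAd : (A : Matrix (Fin n) (Fin n) F).det ≠ 0 :=
    ((Matrix.isUnit_iff_isUnit_det _).1 A.isUnit).ne_zero
  have h2 : Odd p → (2 : F) ≠ 0 := fun hp e => by
    have hd : p ∣ 2 := (CharP.cast_eq_zero_iff F p 2).1 (by exact_mod_cast e)
    rw [(Nat.prime_dvd_prime_iff_eq Fact.out Nat.prime_two).1 hd] at hp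
    exact (by decide : ¬ Odd 2) hp
  rw [AutPSL.split_grf hn2]
  refine ⟨fun ⟨hne, hp, hs⟩ => ?_, fun ⟨hne, hp, hs⟩ => ?_, fun h => ?_⟩
  · obtain ⟨m, hm⟩ := hne
    have hnm : n = 2 * m := by omega
    rw [show n / 2 = m by omega] at hs ⊢
    have halt : SimForms.IsAltM (A : Matrix (Fin n) (Fin n) F) := by
      rcases hA with hA | hA
      · exact absurd hs (AutPSL.not_pgsp_of_sym (h2 hp) (by omega) hnm hA)
      · exact AutPSL.alt_of_skew (h2 hp) hA
    rw [(AutPSL.cong_J_of_alt hnm halt).detSub_eq, SimForms.detSub_J (by omega),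
      AutPSL.card_quotient_powMonoidHom hF]
  · obtain ⟨m, hm⟩ := hne
    have hnm : n = 2 * m := by omega
    have hev : Even (Fintype.card (Fin n)) := by rw [Fintype.card_fin]; exact ⟨m, hm⟩
    rcases hA with hA | hA
    · rw [SimForms.detSub_symm (h2 hp) hev A.isUnit hA, SimForms.card_quot_comap_sq (h2 hp) hev,
        Fintype.card_fin, Nat.card_eq_fintype_card, hF]
    · refine absurd ?_ hs
      rw [show n / 2 = m by omega]
      exact AutPSL.centralizer_of_cong hn2 (AutPSL.cong_J_of_alt hnm (AutPSL.alt_of_skew (h2 hp) hA))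
  · have hh : Odd (Fintype.card (Fin n)) ∨ CharP F 2 := by
      rw [Fintype.card_fin]
      rcases Nat.even_or_odd n with he | ho
      · refine Or.inr ?_
        rcases (Fact.out : p.Prime).eq_two_or_odd' with rfl | hp
        · infer_instance
        · exact absurd ⟨he, hp⟩ h
      · exact Or.inl ho
    rw [SimForms.detSub_square hAd hh, AutPSL.card_quotient_powMonoidHom hF, Fintype.card_fin]

end Cfsg.Agent.S2702
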