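import Cfsg.Statements.S2703
import Cfsg.Agent.Lib.AutPSL.GraphInvClasses
-- import your own Cfsg.Agent.* helpers here

set_option autoImplicit false
open Cfsg

namespace Cfsg.Agent.S2703

open Cfsg.Agent Matrix

set_option maxHeartbeats 1600000 in
/-- Let T = PSL_n(F) over the field with q elements, q odd, n = 2m ≥ 4 even, and ι the inverse-transpose automorphism. Its centralizer in G = Inndiag(T) (the image of PGL_n(F)) is isomorphic to the projective conformal orthogonal group of the plus-type form Σ xᵢ yᵢ in dimension n when n(q − 1)/4 is even, and to that of a minus-type form (Σ xᵢ yᵢ + z₁² + a z₁ z₂ + b z₂² with anisotropic binary part) when n(q − 1)/4 is odd. -/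
theorem result {F : Type*} [Field F] [Fintype F] (hodd : Odd (Fintype.card F)) {n m : ℕ} (hm : 2 ≤ m) (hnm : n = 2 * m) (ι : MulAut (Matrix.ProjectiveSpecialLinearGroup (Fin n) F)) (hι : Cfsg.IsInverseTransposeAutPSL ι) :
    (Even (n * (Fintype.card F - 1) / 4) → Nonempty (↥(Cfsg.inndiagPSL n F ⊓ Subgroup.centralizer {ι}) ≃* Cfsg.PGO F (Cfsg.quadFormPlus m F))) ∧ (¬ Even (n * (Fintype.card F - 1) / 4) → ∃ a b : F, (∀ z₁ z₂ : F, z₁ ^ 2 + a * z₁ * z₂ + b * z₂ ^ 2 = 0 → z₁ = 0 ∧ z₂ = 0) ∧ Nonempty (↥(Cfsg.inndiagPSL n F ⊓ Subgroup.centralizer {ι}) ≃* Cfsg.PGO F (Cfsg.quadFormMinus (m - 1) F a b))) := by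
  have h2 : (2 : F) ≠ 0 := Orth.two_ne_zero_of_odd hodd
  have hn2 : 2 ≤ n := by omega
  haveI : Nonempty (Fin n) := ⟨⟨0, by omega⟩⟩
  rw [AutPSL.eq_of_isInvT hι, ← AutPSL.grf_one]
  obtain ⟨j, hj⟩ := hodd
  have hexp : n * (Fintype.card F - 1) / 4 = m * j := by
    rw [hnm, hj, Nat.add_sub_cancel, show 2 * m * (2 * j) = m * j * 4 by ring, Nat.mul_div_cancel _ (by norm_num)]
  have hiff : IsSquare ((-1 : F) ^ m) ↔ Even (m * j) := by
    rcases Nat.even_or_odd m with he | ho
    · exact iff_of_true (by rw [he.neg_one_pow]; exact IsSquare.one) (he.mul_right j)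
    · rw [ho.neg_one_pow, FiniteField.isSquare_neg_one_iff, hj, Nat.even_mul,
        Nat.not_even_iff_odd.2 ho |> eq_false, false_or, Nat.even_iff]
      omega
  obtain ⟨a, b, hab⟩ := AutPSL.exists_aniso (F := F) h2
  have h1 : ((1 : GL (Fin n) F) : Matrix (Fin n) (Fin n) F)ᵀ = ((1 : GL (Fin n) F) : Matrix (Fin n) (Fin n) F) := by
    simp
  refine ⟨fun he => ?_, fun he => ⟨a, b, hab, ?_⟩⟩
  · refine AutPSL.pgo_of_cong hn2 h2 (SimForms.mPlus_symm m) (SimForms.bl_mPlus m) ?_
    refine SimForms.cong_of_square h2 (by simp; omega) (Units.isUnit _) h1 (SimForms.mPlus_unit m)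
      (SimForms.mPlus_symm m) ?_
    rw [Units.val_one, Matrix.det_one, one_mul, SimForms.det_mPlus, hiff, ← hexp]
    exact he
  · refine AutPSL.pgo_of_cong hn2 h2 (SimForms.mMinus_symm _ a b) (SimForms.bl_mMinus _ a b) ?_
    refine SimForms.cong_of_square h2 (by simp; omega) (Units.isUnit _) h1
      (SimForms.mMinus_unit h2 _ hab) (SimForms.mMinus_symm _ a b) ?_
    rw [Units.val_one, Matrix.det_one, one_mul, SimForms.det_mMinus, Nat.sub_add_cancel (by omega),
      Orth.isSquare_mul_nonsquare h2 (pow_ne_zero _ (neg_ne_zero.2 one_ne_zero))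
        (fun h => SimForms.disc_nonsquare h2 hab (by rw [h]; exact ⟨0, by ring⟩))
        (SimForms.disc_nonsquare h2 hab), hiff, ← hexp]
    exact he

end Cfsg.Agent.S2703
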