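import Cfsg.Statements.S2704
import Cfsg.Agent.Lib.AutPSL.Centralizer

set_option autoImplicit false
open Cfsg

namespace Cfsg.Agent.S2704

/-- Let T = PSL_n(F) over the field F with p^f elements, n ≥ 3, and G = Inndiag(T) the image of PGL_n(F). If x is an involutory graph-field automorphism of T then f is even; x is G-conjugate to every other involutory graph-field automorphism; C_G(x) is isomorphic to the projective general unitary group PGU_n(q₀) with q₀² = p^f, realised over F itself through the Hermitian form Σ uᵢ vᵢ^{q₀}; and the G-class of x is the union of exactly gcd(n, q₀ − 1) T-classes. -/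
theorem result {F : Type*} [Field F] [Fintype F] {p f : ℕ} [Fact p.Prime] (hF : Fintype.card F = p ^ f) (hf : 1 ≤ f) {n : ℕ} (hn : 3 ≤ n) (x : MulAut (Matrix.ProjectiveSpecialLinearGroup (Fin n) F)) (hx : Cfsg.IsGraphFieldAutClassPSL x) (hx2 : orderOf x = 2) :
    Even f ∧ (∀ y : MulAut (Matrix.ProjectiveSpecialLinearGroup (Fin n) F), Cfsg.IsGraphFieldAutClassPSL y → orderOf y = 2 → Cfsg.IsConjUnder (Cfsg.inndiagPSL n F) x y) ∧ Nonempty (↥(Cfsg.inndiagPSL n F ⊓ Subgroup.centralizer {x}) ≃* Cfsg.PGU n F (p ^ (f / 2))) ∧ Cfsg.splitClassCount (Cfsg.inndiagPSL n F) (Cfsg.Inn (Matrix.ProjectiveSpecialLinearGroup (Fin n) F)) x = Nat.gcd n (p ^ (f / 2) - 1) := by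
  obtain ⟨-, -, σ, P, hσ, rfl⟩ := AutPSL.exists_conj_graph hx Nat.prime_two hx2
  obtain ⟨hev, hpow⟩ := AutPSL.involution_eq_pow p f hF hσ
  have hmem : ∀ g : GL (Fin n) F, AutPSL.semi g 1 ∈ Cfsg.inndiagPSL n F := fun g =>
    AutPSL.mem_inndiag.2 ⟨g, rfl⟩
  obtain ⟨E1⟩ := AutPSL.centralizer_conj_equiv (Cfsg.inndiagPSL n F)
    (AutPSL.semi 1 σ * AutPSL.invT) (AutPSL.semi P 1) (hmem P)
  obtain ⟨E2⟩ := AutPSL.centralizer_graph hn hσ (p ^ (f / 2)) hpow
  refine ⟨hev, fun y hy hy2 => ?_, ⟨E1.trans E2⟩, ?_⟩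
  · obtain ⟨-, -, τ, Q, hτ, rfl⟩ := AutPSL.exists_conj_graph hy Nat.prime_two hy2
    have hστ : τ = σ := RingEquiv.ext fun a => by
      rw [(AutPSL.involution_eq_pow p f hF hτ).2, hpow]
    subst hστ
    refine ⟨AutPSL.semi Q 1 * (AutPSL.semi P 1)⁻¹,
      Subgroup.mul_mem _ (hmem Q) (Subgroup.inv_mem _ (hmem P)), ?_⟩
    group
  · rw [AutPSL.splitClassCount_conj _ _ _ _ (hmem P), AutPSL.split_graph hn hσ]
    congr 1
    obtain ⟨K, hK, hcard⟩ := AutPSL.exists_fixed_field σ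
    rw [AutPSL.card_fixedUnits hK, AutPSL.card_fixed_field p f hF hcard, hσ]

end Cfsg.Agent.S2704
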