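import Cfsg.Statements.S2705
import Cfsg.Agent.Lib.AutPSU.Centralizer

set_option autoImplicit false
open Cfsg

namespace Cfsg.Agent.S2705

/-- Let T = PSU_n(q) be simple (n ≥ 3, (n, q) ≠ (3, 2), q = p^f), realised over the field F with q² elements, G = Inndiag(T) the image of PGU_n(q) in Aut(T), and x a field automorphism of T (conjugate to a standard field automorphism of odd order) of odd prime order r. Then r divides f; C_G(x) is isomorphic to PGU_n(q₀) with q₀ = p^(f/r), realised over a field F₀ with q₀² elements; and the G-class of x is the union of exactly gcd(n, (q + 1)/(q₀ + 1)) T-classes. -/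
theorem result {F : Type*} [Field F] [Fintype F] {p f q : ℕ} [Fact p.Prime] (hq : q = p ^ f) (hf : 1 ≤ f) (hF : Fintype.card F = q ^ 2) {n : ℕ} (hn : 3 ≤ n) (hs : ¬ (n = 3 ∧ q = 2)) (x : MulAut (Cfsg.PSU n F q)) (hx : Cfsg.IsFieldAutClassPSU x) {r : ℕ} (hr : r.Prime) (hro : Odd r) (hxr : orderOf x = r) (F₀ : Type*) [Field F₀] [Fintype F₀] (hF₀ : Fintype.card F₀ = p ^ (2 * (f / r))) :
    r ∣ f ∧ Nonempty (↥(Cfsg.inndiagPSU n F q ⊓ Subgroup.centralizer {x}) ≃* Cfsg.PGU n F₀ (p ^ (f / r))) ∧ Cfsg.splitClassCount (Cfsg.inndiagPSU n F q) (Cfsg.Inn (Cfsg.PSU n F q)) x = Nat.gcd n ((q + 1) / (p ^ (f / r) + 1)) := by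
  obtain ⟨C⟩ := AutPSU.exists_conj hF
  obtain ⟨σ, P, -, hodd, ho, rfl⟩ := AutPSU.exists_conj_field C hn hF hs hx
  have hσr : orderOf σ = r := ho.symm.trans hxr
  obtain ⟨K, hK, hcard⟩ := AutPSL.exists_fixed_field σ
  obtain ⟨hKc, hKσ⟩ := AutPSU.conj_on_fixed C hF p f hq hodd hcard
  rw [hσr] at hKc hKσ
  have hmem : AutPSU.semi P 1 ∈ Cfsg.inndiagPSU n F q := AutPSU.mem_inndiag.2 ⟨P, rfl⟩
  have : Fintype K := Fintype.ofFinite _
  obtain ⟨e⟩ : Nonempty (F₀ ≃+* K) :=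
    ⟨FiniteField.ringEquivOfCardEq (K := F₀) (K' := K) (by
      rw [hF₀, ← Nat.card_eq_fintype_card, hKc, ← pow_mul, mul_comm])⟩
  obtain ⟨E1⟩ := AutPSL.centralizer_conj_equiv (Cfsg.inndiagPSU n F q)
    (AutPSU.semi 1 σ) (AutPSU.semi P 1) hmem
  obtain ⟨E2⟩ := AutPSU.centralizer_field C hn hF hodd (K.subtype.comp e.toRingHom) (fun a => by
    rw [← hK]
    constructor
    · rintro ⟨b, rfl⟩
      exact (e b).2
    · intro ha
      exact ⟨e.symm ⟨a, ha⟩, by simp⟩) (p ^ (f / r)) (fun a => by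
    show C.σ (e a : F) = (e (a ^ p ^ (f / r)) : F)
    rw [hKσ _ (e a).2, map_pow, SubmonoidClass.coe_pow])
  refine ⟨hσr ▸ AutPSU.odd_exponent C hF p f hq hodd, ⟨E1.trans E2⟩, ?_⟩
  rw [AutPSL.splitClassCount_conj _ _ _ _ hmem, AutPSU.split_field C hn hF hodd,
    AutPSU.index_fixN1 C hF p f hq hn hodd, hσr]

end Cfsg.Agent.S2705
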