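import Cfsg.Statements.S2706
import Cfsg.Agent.Lib.AutPSU.GraphInvTransfer
-- import your own Cfsg.Agent.* helpers here

set_option autoImplicit false
open Cfsg

namespace Cfsg.Agent.S2706

open Cfsg.Agent Matrix

set_option maxHeartbeats 1600000 in
/-- Let T = PSU_n(q) be simple with n = 2m + 1 ≥ 3 odd, realised over the field F with q² elements, and G = Inndiag(T) the image of PGU_n(q). Every involutory graph automorphism γ of T (an inner-diagonal automorphism times a standard field automorphism of even order, of order 2) has centralizer C_G(γ) isomorphic to the projective conformal orthogonal group of the form x₀² + Σ xᵢ yᵢ in dimension n over a field F₀ with q elements, and any two involutory graph automorphisms of T are G-conjugate. -/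
theorem result {F : Type*} [Field F] [Fintype F] {p f q : ℕ} [Fact p.Prime] (hq : q = p ^ f) (hf : 1 ≤ f) (hF : Fintype.card F = q ^ 2) {n : ℕ} (hn : 3 ≤ n) (hs : ¬ (n = 3 ∧ q = 2)) {m : ℕ} (hnm : n = 2 * m + 1) (F₀ : Type*) [Field F₀] [Fintype F₀] (hF₀ : Fintype.card F₀ = q) (γ γ' : MulAut (Cfsg.PSU n F q)) (hγ : Cfsg.IsGraphAutClassPSU γ) (hγ2 : orderOf γ = 2) (hγ' : Cfsg.IsGraphAutClassPSU γ') (hγ'2 : orderOf γ' = 2) :
    Nonempty (↥(Cfsg.inndiagPSU n F q ⊓ Subgroup.centralizer {γ}) ≃* Cfsg.PGO F₀ (Cfsg.quadFormOdd m F₀)) ∧ Cfsg.IsConjUnder (Cfsg.inndiagPSU n F q) γ γ' := by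
  obtain ⟨C⟩ := AutPSU.exists_conj hF
  obtain ⟨E⟩ := AutPSU.exists_emb C hF hF₀
  obtain ⟨g, rfl, hg⟩ := AutPSU.exists_grfU C hn hF hγ hγ2
  obtain ⟨g', rfl, hg'⟩ := AutPSU.exists_grfU C hn hF hγ' hγ'2
  obtain ⟨A, ⟨d⟩, hA⟩ := AutPSU.exists_form E hg
  obtain ⟨B, ⟨d'⟩, hB⟩ := AutPSU.exists_form E hg'
  by_cases h2 : (2 : F₀) = 0
  · haveI : CharP F₀ 2 := CharTwo.of_one_ne_zero_of_two_eq_zero one_ne_zero h2
    refine ⟨?_, (AutPSU.conj_grfU hn hF d' d).2
      ((AutPSL.cong_odd_dim_two hnm hB).trans (AutPSL.cong_odd_dim_two hnm hA).symm)⟩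
    obtain ⟨e⟩ := AutPSU.centralizer_congU hn hF d (AutPSL.cong_odd_dim_two hnm hA)
    obtain ⟨e'⟩ := SimForms.projQuot_aOdd (F := F₀) m
    exact ⟨e.trans e'⟩
  · exact ⟨AutPSU.pgo_of_congU hn hF h2 d (SimForms.mOdd_symm m) (SimForms.bl_mOdd m)
      (AutPSL.cong_odd_dim h2 hnm hA), (AutPSU.conj_grfU hn hF d' d).2
        ((AutPSL.cong_odd_dim h2 hnm hB).trans (AutPSL.cong_odd_dim h2 hnm hA).symm)⟩

end Cfsg.Agent.S2706
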