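import Cfsg.Statements.S2707
import Cfsg.Agent.Lib.AutPSU.GraphInvTransfer
-- import your own Cfsg.Agent.* helpers here

set_option autoImplicit false
open Cfsg

namespace Cfsg.Agent.S2707

open Cfsg.Agent Matrix

set_option maxHeartbeats 1600000 in
/-- Let T = PSU_n(q) with n = 2m ≥ 4 even and q odd, realised over the field F with q² elements, and G = Inndiag(T) the image of PGU_n(q). The involutory graph automorphisms of T fall into exactly three G-classes, with representatives whose centralizers in G are isomorphic respectively to the projective conformal symplectic group PGSp_n(F₀), the projective conformal orthogonal group of the plus-type form Σ xᵢ yᵢ, and that of a minus-type form Σ xᵢ yᵢ + z₁² + a z₁ z₂ + b z₂² (anisotropic binary part) in dimension n, all over a field F₀ with q elements. -/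
theorem result {F : Type*} [Field F] [Fintype F] {q : ℕ} (hodd : Odd q) (hF : Fintype.card F = q ^ 2) {n m : ℕ} (hm : 2 ≤ m) (hnm : n = 2 * m) (F₀ : Type*) [Field F₀] [Fintype F₀] (hF₀ : Fintype.card F₀ = q) :
    ∃ (γ₁ γ₂ γ₃ : MulAut (Cfsg.PSU n F q)) (a b : F₀), (∀ z₁ z₂ : F₀, z₁ ^ 2 + a * z₁ * z₂ + b * z₂ ^ 2 = 0 → z₁ = 0 ∧ z₂ = 0) ∧ Cfsg.IsGraphAutClassPSU γ₁ ∧ orderOf γ₁ = 2 ∧ Cfsg.IsGraphAutClassPSU γ₂ ∧ orderOf γ₂ = 2 ∧ Cfsg.IsGraphAutClassPSU γ₃ ∧ orderOf γ₃ = 2 ∧ ¬ Cfsg.IsConjUnder (Cfsg.inndiagPSU n F q) γ₁ γ₂ ∧ ¬ Cfsg.IsConjUnder (Cfsg.inndiagPSU n F q) γ₁ γ₃ ∧ ¬ Cfsg.IsConjUnder (Cfsg.inndiagPSU n F q) γ₂ γ₃ ∧ (∀ γ : MulAut (Cfsg.PSU n F q), Cfsg.IsGraphAutClassPSU γ → orderOf γ = 2 → Cfsg.IsConjUnder (Cfsg.inndiagPSU n F q) γ₁ γ ∨ Cfsg.IsConjUnder (Cfsg.inndiagPSU n F q) γ₂ γ ∨ Cfsg.IsConjUnder (Cfsg.inndiagPSU n F q) γ₃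 γ) ∧ Nonempty (↥(Cfsg.inndiagPSU n F q ⊓ Subgroup.centralizer {γ₁}) ≃* Cfsg.PGSp m F₀) ∧ Nonempty (↥(Cfsg.inndiagPSU n F q ⊓ Subgroup.centralizer {γ₂}) ≃* Cfsg.PGO F₀ (Cfsg.quadFormPlus m F₀)) ∧ Nonempty (↥(Cfsg.inndiagPSU n F q ⊓ Subgroup.centralizer {γ₃}) ≃* Cfsg.PGO F₀ (Cfsg.quadFormMinus (m - 1) F₀ a b)) := by
  have h2 : (2 : F₀) ≠ 0 := Orth.two_ne_zero_of_odd (hF₀.symm ▸ hodd)
  have hn3 : 3 ≤ n := by omega
  obtain ⟨C⟩ := AutPSU.exists_conj hF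
  obtain ⟨E⟩ := AutPSU.exists_emb C hF hF₀
  haveI : Nonempty (Fin m ⊕ Fin m) := ⟨Sum.inl ⟨0, by omega⟩⟩
  haveI : Nonempty (Fin n) := ⟨⟨0, by omega⟩⟩
  obtain ⟨a, b, hab⟩ := AutPSL.exists_aniso (F := F₀) h2
  obtain ⟨A₁, h₁, -, s₁⟩ := AutPSL.exists_model (n := n) (by simp; omega) (AutPSL.J_unit (F := F₀) m)
  obtain ⟨A₂, h₂, s₂, -⟩ := AutPSL.exists_model (n := n) (by simp; omega) (SimForms.mPlus_unit (F := F₀) m)
  obtain ⟨A₃, h₃, s₃, -⟩ := AutPSL.exists_model (n := n) (by simp; omega) (SimForms.mMinus_unit h2 (m - 1) hab)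
  replace s₁ := s₁ (AutPSL.J_symm_or m)
  replace s₂ := s₂ (SimForms.mPlus_symm m)
  replace s₃ := s₃ (SimForms.mMinus_symm _ a b)
  obtain ⟨g₁, ⟨d₁⟩, c₁, o₁⟩ := AutPSU.exists_rep_of_form E hn3 hF (A := A₁) (Or.inr s₁)
  obtain ⟨g₂, ⟨d₂⟩, c₂, o₂⟩ := AutPSU.exists_rep_of_form E hn3 hF (A := A₂) (Or.inl s₂)
  obtain ⟨g₃, ⟨d₃⟩, c₃, o₃⟩ := AutPSU.exists_rep_of_form E hn3 hF (A := A₃) (Or.inl s₃)
  have hne : ∀ {B : GL (Fin n) F₀}, (B : Matrix (Fin n) (Fin n) F₀)ᵀ = (B : Matrix (Fin n) (Fin n) F₀) →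
      ¬ SimForms.Cong (A₁ : Matrix (Fin n) (Fin n) F₀) (B : Matrix (Fin n) (Fin n) F₀) := fun hB h =>
    AutPSL.not_alt_of_sym h2 (Units.isUnit _) hB ((AutPSL.alt_of_skew h2 s₁).of_cong h)
  refine ⟨AutPSU.grfU C g₁, AutPSU.grfU C g₂, AutPSU.grfU C g₃, a, b, hab,
    c₁, o₁, c₂, o₂, c₃, o₃,
    fun h => hne s₂ ((AutPSU.conj_grfU hn3 hF d₂ d₁).1 h).symm,
    fun h => hne s₃ ((AutPSU.conj_grfU hn3 hF d₃ d₁).1 h).symm,
    fun h => AutPSL.plus_not_cong_minus h2 (by omega) hab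
      ((h₂.symm.trans ((AutPSU.conj_grfU hn3 hF d₃ d₂).1 h).symm).trans h₃),
    fun γ hγ hγ2 => ?_, AutPSU.centralizer_congU hn3 hF d₁ h₁,
    AutPSU.pgo_of_congU hn3 hF h2 d₂ (SimForms.mPlus_symm m) (SimForms.bl_mPlus m) h₂,
    AutPSU.pgo_of_congU hn3 hF h2 d₃ (SimForms.mMinus_symm _ a b) (SimForms.bl_mMinus _ a b) h₃⟩
  obtain ⟨g, rfl, hg⟩ := AutPSU.exists_grfU C hn3 hF hγ hγ2
  obtain ⟨A, ⟨d⟩, hA⟩ := AutPSU.exists_form E hg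
  rcases hA with hA | hA
  · rcases AutPSL.cong_plus_or_minus h2 (by omega) hnm hab hA with h | h
    · exact Or.inr (Or.inl ((AutPSU.conj_grfU hn3 hF d d₂).2 (h.trans h₂.symm)))
    · exact Or.inr (Or.inr ((AutPSU.conj_grfU hn3 hF d d₃).2 (h.trans h₃.symm)))
  · exact Or.inl ((AutPSU.conj_grfU hn3 hF d d₁).2
      ((AutPSL.cong_J_of_alt hnm (AutPSL.alt_of_skew h2 hA)).trans h₁.symm))

end Cfsg.Agent.S2707
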