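import Cfsg.Statements.S2708
import Cfsg.Agent.Lib.AutPSU.GraphInvTransfer
-- import your own Cfsg.Agent.* helpers here

set_option autoImplicit false
open Cfsg

namespace Cfsg.Agent.S2708

open Cfsg.Agent Matrix

set_option maxHeartbeats 1600000 in
/-- Let T = PSU_n(q) with n = 2m ≥ 4 even and q even, realised over the field F (of characteristic 2) with q² elements, and G = Inndiag(T) the image of PGU_n(q). The involutory graph automorphisms of T fall into exactly two G-classes, with representatives whose centralizers in G are isomorphic respectively to the symplectic group Sp_n(F₀) and to the centralizer in Sp_n(F₀) of a symplectic transvection, F₀ a field with q elements. -/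
theorem result {F : Type*} [Field F] [Fintype F] [CharP F 2] {q : ℕ} (hF : Fintype.card F = q ^ 2) {n m : ℕ} (hm : 2 ≤ m) (hnm : n = 2 * m) (F₀ : Type*) [Field F₀] [Fintype F₀] (hF₀ : Fintype.card F₀ = q) :
    ∃ (γ₁ γ₃ : MulAut (Cfsg.PSU n F q)) (t : ↥(Matrix.symplecticGroup (Fin m) F₀)), Cfsg.IsTransvection (t : Matrix (Fin m ⊕ Fin m) (Fin m ⊕ Fin m) F₀) ∧ Cfsg.IsGraphAutClassPSU γ₁ ∧ orderOf γ₁ = 2 ∧ Cfsg.IsGraphAutClassPSU γ₃ ∧ orderOf γ₃ = 2 ∧ ¬ Cfsg.IsConjUnder (Cfsg.inndiagPSU n F q) γ₁ γ₃ ∧ (∀ γ : MulAut (Cfsg.PSU n F q), Cfsg.IsGraphAutClassPSU γ → orderOf γ = 2 → Cfsg.IsConjUnder (Cfsg.inndiagPSU n F q) γ₁ γ ∨ Cfsg.IsConjUnder (Cfsg.inndiagPSU n F q) γ₃ γ) ∧ Nonempty (↥(Cfsg.inndiagPSU n F q ⊓ Subgroup.centralizer {γ₁}) ≃* ↥(Matrix.symplecticGroup (Fin m) F₀)) ∧ Nonempty (↥(Cfsg.inndiagPSU n F q ⊓ Subgroup.centralizer {γ₃}) ≃* ↥(Subgroup.centralizer ({t} : Set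 ↥(Matrix.symplecticGroup (Fin m) F₀)))) := by
  have hn3 : 3 ≤ n := by omega
  have hm0 : 0 < m := by omega
  obtain ⟨C⟩ := AutPSU.exists_conj hF
  obtain ⟨E⟩ := AutPSU.exists_emb C hF hF₀
  haveI : CharP F₀ 2 := CharTwo.of_one_ne_zero_of_two_eq_zero one_ne_zero
    (E.ι.injective (by rw [map_ofNat, map_zero]; exact CharTwo.two_eq_zero))
  obtain ⟨A₁, h₁, -, s₁⟩ := AutPSL.exists_model (n := n) (by simp; omega) (AutPSL.J_unit (F := F₀) m)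
  obtain ⟨A₃, h₃, s₃, -⟩ := AutPSL.exists_model (n := n) (by simp; omega) (SimForms.a0_unit (F := F₀) m hm0)
  replace s₁ := s₁ (AutPSL.J_symm_or m)
  replace s₃ := s₃ (SimForms.a0_symm m hm0)
  obtain ⟨g₁, ⟨d₁⟩, c₁, o₁⟩ := AutPSU.exists_rep_of_form E hn3 hF (A := A₁) (Or.inr s₁)
  obtain ⟨g₃, ⟨d₃⟩, c₃, o₃⟩ := AutPSU.exists_rep_of_form E hn3 hF (A := A₃) (Or.inl s₃)
  obtain ⟨e₁⟩ := AutPSU.centralizer_congU hn3 hF d₁ h₁
  obtain ⟨e₁'⟩ := SimForms.projQuot_J (F := F₀) hm0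
  obtain ⟨e₃⟩ := AutPSU.centralizer_congU hn3 hF d₃ h₃
  obtain ⟨e₃'⟩ := SimForms.projQuot_a0 (F := F₀) m hm0
  refine ⟨AutPSU.grfU C g₁, AutPSU.grfU C g₃, ⟨_, SimForms.transv_mem m hm0⟩,
    SimForms.transv_isTransvection m hm0, c₁, o₁, c₃, o₃,
    fun h => SimForms.not_alt_a0 (F := F₀) m hm0
      ((SimForms.isAltM_J (F := F₀) m).of_cong
        ((h₁.symm.trans ((AutPSU.conj_grfU hn3 hF d₃ d₁).1 h).symm).trans h₃)),
    fun γ hγ hγ2 => ?_, ⟨e₁.trans e₁'⟩, ⟨e₃.trans e₃'⟩⟩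
  obtain ⟨g, rfl, hg⟩ := AutPSU.exists_grfU C hn3 hF hγ hγ2
  obtain ⟨A, ⟨d⟩, hA⟩ := AutPSU.exists_form E hg
  by_cases halt : SimForms.IsAltM (A : Matrix (Fin n) (Fin n) F₀)
  · exact Or.inl ((AutPSU.conj_grfU hn3 hF d d₁).2 ((AutPSL.cong_J_of_alt hnm halt).trans h₁.symm))
  · exact Or.inr ((AutPSU.conj_grfU hn3 hF d d₃).2
      ((AutPSL.cong_even_dim_two hm0 hnm (AutPSL.sym_of_char_two hA) halt).trans h₃.symm))

end Cfsg.Agent.S2708
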