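import Cfsg.Statements.S2709
import Cfsg.Agent.Lib.AutPSU.GraphInvTransfer
-- import your own Cfsg.Agent.* helpers here

set_option autoImplicit false
open Cfsg

namespace Cfsg.Agent.S2709

open Cfsg.Agent Matrix

set_option maxHeartbeats 1600000 in
/-- Let T = PSU_n(q) be simple (n ≥ 3, (n,q) ≠ (3,2), q = p^f), realised over the field F with q² elements, G = Inndiag(T) the image of PGU_n(q), and γ an involutory graph automorphism of T. The G-class of γ is the union of exactly c T-classes, where: if n is even and q is odd, c = gcd(n/2, q + 1) when C_G(γ) is isomorphic to PGSp_n(F₀) for a field F₀ with q elements (symplectic type) and c = gcd(n, q + 1)/2 otherwise; and c = gcd(n, q + 1) when n is odd or q is even. -/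
theorem result {F : Type*} [Field F] [Fintype F] {p f q : ℕ} [Fact p.Prime] (hq : q = p ^ f) (hf : 1 ≤ f) (hF : Fintype.card F = q ^ 2) {n : ℕ} (hn : 3 ≤ n) (hs : ¬ (n = 3 ∧ q = 2)) (F₀ : Type*) [Field F₀] [Fintype F₀] (hF₀ : Fintype.card F₀ = q) (γ : MulAut (Cfsg.PSU n F q)) (hγ : Cfsg.IsGraphAutClassPSU γ) (hγ2 : orderOf γ = 2) :
    ((Even n ∧ Odd q ∧ Nonempty (↥(Cfsg.inndiagPSU n F q ⊓ Subgroup.centralizer {γ}) ≃* Cfsg.PGSp (n / 2) F₀)) → Cfsg.splitClassCount (Cfsg.inndiagPSU n F q) (Cfsg.Inn (Cfsg.PSU n F q)) γ = Nat.gcd (n / 2) (q + 1)) ∧ ((Even n ∧ Odd q ∧ ¬ Nonempty (↥(Cfsg.inndiagPSU n F q ⊓ Subgroup.centralizer {γ}) ≃* Cfsg.PGSp (n / 2) F₀)) → Cfsg.splitClassCount (Cfsg.inndiagPSU n F q) (Cfsg.Inn (Cfsg.PSU n F q)) γ = Nat.gcd n (q + 1) / 2) ∧ (¬ (Even n ∧ Odd q) → Cfsg.splitClassCount (Cfsg.inndiagPSU n F q) (Cfsg.Inn (Cfsg.PSU n F q)) γ = Nat.gcd n (q + 1)) := by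
  obtain ⟨C⟩ := AutPSU.exists_conj hF
  obtain ⟨E⟩ := AutPSU.exists_emb C hF hF₀
  obtain ⟨g, rfl, hg⟩ := AutPSU.exists_grfU C hn hF hγ hγ2
  obtain ⟨A, ⟨d⟩, hA⟩ := AutPSU.exists_form E hg
  have h2 : Odd q → (2 : F₀) ≠ 0 := fun h => Orth.two_ne_zero_of_odd (hF₀.symm ▸ h)
  rw [AutPSU.split_grfU hn hF C g]
  refine ⟨fun ⟨hne, hp, hs⟩ => ?_, fun ⟨hne, hp, hs⟩ => ?_, fun h => ?_⟩
  · obtain ⟨m, hm⟩ := hne
    have hnm : n = 2 * m := by omega
    rw [show n / 2 = m by omega] at hs ⊢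
    have halt : SimForms.IsAltM (A : Matrix (Fin n) (Fin n) F₀) := by
      rcases hA with hA | hA
      · obtain ⟨e⟩ := AutPSU.centralizer_iso hn hF d
        obtain ⟨e'⟩ := hs
        exact absurd ⟨e.symm.trans e'⟩ (AutPSL.not_pgsp_of_sym (h2 hp) (by omega) hnm hA)
      · exact AutPSL.alt_of_skew (h2 hp) hA
    rw [AutPSU.detC_alt hn hF d hnm (AutPSL.cong_J_of_alt hnm halt), AutPSU.card_quot_pow,
      AutPSU.card_N1 C hn hF]
  · obtain ⟨m, hm⟩ := hne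
    have hnm : n = 2 * m := by omega
    rcases hA with hA | hA
    · rw [AutPSU.detC_symm hn hF (h2 hp) d ⟨m, hm⟩ hA, AutPSU.card_quot_comap_two ⟨m, hm⟩
        (by rw [AutPSU.card_N1 C hn hF]; exact (hp.add_one).two_dvd), AutPSU.card_N1 C hn hF]
    · refine absurd ?_ hs
      rw [show n / 2 = m by omega]
      exact AutPSU.centralizer_congU hn hF d (AutPSL.cong_J_of_alt hnm (AutPSL.alt_of_skew (h2 hp) hA))
  · have hh : Odd n ∨ Even q := by
      rcases Nat.even_or_odd n with he | ho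
      · exact Or.inr (Nat.not_odd_iff_even.1 fun ho => h ⟨he, ho⟩)
      · exact Or.inl ho
    rw [AutPSU.detC_square hn hF d hh, AutPSU.card_quot_pow, AutPSU.card_N1 C hn hF]

end Cfsg.Agent.S2709
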