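import Cfsg.Statements.S2710
import Cfsg.Agent.Lib.AutPSU.GraphInvTransfer
-- import your own Cfsg.Agent.* helpers here

set_option autoImplicit false
open Cfsg

namespace Cfsg.Agent.S2710

open Cfsg.Agent Matrix

set_option maxHeartbeats 1600000 in
/-- Let T = PSU_n(q) with n ≥ 4 divisible by 4 (n = 2m) and q odd, realised over the field F with q² elements, G = Inndiag(T) the image of PGU_n(q), and φ the standard field automorphism of T attached to the q-th power map of F (it induces inverse-transpose on the unitary matrices and is a graph automorphism). Its centralizer in G is isomorphic to the projective conformal orthogonal group of the plus-type form Σ xᵢ yᵢ in dimension n over a field F₀ with q elements. (Dimensions n ≡ 2 (mod 4) are not covered.) -/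
theorem result {F : Type*} [Field F] [Fintype F] {q : ℕ} (hodd : Odd q) (hF : Fintype.card F = q ^ 2) {n m : ℕ} (hm : 2 ≤ m) (hnm : n = 2 * m) (h4 : 4 ∣ n) (F₀ : Type*) [Field F₀] [Fintype F₀] (hF₀ : Fintype.card F₀ = q) (σ : F ≃+* F) (hσ : ∀ a : F, σ a = a ^ q) (φ : MulAut (Cfsg.PSU n F q)) (hφ : Cfsg.IsFieldAutPSUOf σ φ) :
    Nonempty (↥(Cfsg.inndiagPSU n F q ⊓ Subgroup.centralizer {φ}) ≃* Cfsg.PGO F₀ (Cfsg.quadFormPlus m F₀)) := by
  have h2 : (2 : F₀) ≠ 0 := Orth.two_ne_zero_of_odd (hF₀.symm ▸ hodd)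
  have hn3 : 3 ≤ n := by omega
  obtain ⟨C⟩ := AutPSU.exists_conj hF
  obtain ⟨E⟩ := AutPSU.exists_emb C hF hF₀
  obtain rfl : σ = C.σ := RingEquiv.ext fun a => by rw [hσ, C.apply_eq]
  obtain rfl : φ = AutPSU.grfU C 1 :=
    AutPSU.semi_eq_of_induced 1 _ fun s s' hs => hφ s s' (hs.trans (by simp))
  haveI : Nonempty (Fin n) := ⟨⟨0, by omega⟩⟩
  have h1 : (AutPSU.mat (1 : ↥(Cfsg.GU n F q)))ᵀ = AutPSU.mat (1 : ↥(Cfsg.GU n F q)) :=
    Matrix.transpose_one
  obtain ⟨H, ⟨d⟩, hH, -⟩ := AutPSU.exists_dat E (Or.inl h1)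
  replace hH := hH h1
  obtain ⟨A, rfl⟩ := d.H_unit
  refine AutPSU.pgo_of_congU hn3 hF h2 d (SimForms.mPlus_symm m) (SimForms.bl_mPlus m) ?_
  refine SimForms.cong_of_square h2 (by simp; omega) A.isUnit hH (SimForms.mPlus_unit m)
    (SimForms.mPlus_symm m) ?_
  obtain ⟨j, hj⟩ : Even m := by obtain ⟨k, hk⟩ := h4; exact ⟨k, by omega⟩
  rw [SimForms.det_mPlus, Even.neg_one_pow ⟨j, hj⟩, mul_one]
  have htw : (d.B : Matrix (Fin n) (Fin n) F).map C.σ = d.z • (d.B : Matrix (Fin n) (Fin n) F) := by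
    have e := d.twist
    rw [show AutPSU.mat (1 : ↥(Cfsg.GU n F q)) = (1 : Matrix (Fin n) (Fin n) F) from rfl,
      Matrix.one_mul] at e
    exact e
  have hθ : C.σ d.θ = d.θ := by
    have e := d.herm_symm
    rw [hH] at e
    exact SimForms.smul_cancel (fun h0 => d.H_ne (AutPSU.emb_inj E.ι (by rw [h0]; ext i k; simp))) e
  obtain ⟨D, hD⟩ : ∃ D, D = (d.B : Matrix (Fin n) (Fin n) F).det := ⟨_, rfl⟩
  have hD0 : D ≠ 0 := hD ▸ ((Matrix.isUnit_iff_isUnit_det _).1 d.B.isUnit).ne_zero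
  have hσD : C.σ D = d.z ^ n * D := by
    rw [hD, RingEquiv.map_det, RingEquiv.mapMatrix_apply, htw, Matrix.det_smul, Fintype.card_fin]
  have hzz : C.σ d.z * d.z = 1 := by
    have e := congrArg (fun X : Matrix (Fin n) (Fin n) F => X.map C.σ) htw
    beta_reduce at e
    rw [AutPSU.map_map_conj C, AutPSU.map_smul', htw, smul_smul] at e
    have hB : (d.B : Matrix (Fin n) (Fin n) F) ≠ 0 := fun h0 => not_isUnit_zero (h0 ▸ d.B.isUnit)
    exact (SimForms.smul_cancel hB ((one_smul F _).trans e)).symm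
  have hp : ∀ x : F, x ^ n = x ^ m * x ^ m := fun x => by rw [← pow_add]; congr 1; omega
  obtain ⟨y, hy⟩ := E.mem (d.z ^ m * D / d.θ ^ m) (by
    rw [map_div₀, map_mul, map_pow, map_pow, hθ, hσD, hp,
      show C.σ d.z ^ m * (d.z ^ m * d.z ^ m * D) = (C.σ d.z * d.z) ^ m * (d.z ^ m * D) by
        rw [mul_pow]; ring, hzz, one_pow, one_mul])
  refine ⟨y, E.ι.injective ?_⟩
  have hher := congrArg Matrix.det d.herm
  rw [Matrix.det_mul, Matrix.det_transpose, Matrix.det_smul, Fintype.card_fin, ← hD,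
    ← RingEquiv.mapMatrix_apply, ← RingEquiv.map_det, ← hD, hσD, ← RingHom.mapMatrix_apply,
    ← RingHom.map_det, hp, hp] at hher
  rw [map_mul, hy, div_mul_div_comm, eq_div_iff (mul_ne_zero (pow_ne_zero _ d.θ_ne) (pow_ne_zero _ d.θ_ne))]
  linear_combination -hher

end Cfsg.Agent.S2710
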