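import Cfsg.Statements.S2712
import Cfsg.Agent.Lib.AutPSp.Centralizer

set_option autoImplicit false
open Cfsg

namespace Cfsg.Agent.S2712

/-- Let T = PSp_{2m}(F) be simple over the field F with p^f elements (m ≥ 2, (2m, |F|) ≠ (4, 2)), G = Inndiag(T) the image of the projective conformal symplectic group PGSp_{2m}(F), and x a field automorphism of T of prime order r. Then r divides f; C_G(x) is isomorphic to PGSp_{2m}(F₀) for a field F₀ with p^(f/r) elements; and the G-class of x is the union of exactly gcd(gcd(2, p^f − 1), r) T-classes. -/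
theorem result {F : Type*} [Field F] [Fintype F] {p f : ℕ} [Fact p.Prime] (hF : Fintype.card F = p ^ f) (hf : 1 ≤ f) {m : ℕ} (hm : 2 ≤ m) (hs : m = 2 → 3 ≤ Fintype.card F) (x : MulAut (Cfsg.PSp m F)) (hx : Cfsg.IsFieldAutClassPSp x) {r : ℕ} (hr : r.Prime) (hxr : orderOf x = r) (F₀ : Type*) [Field F₀] [Fintype F₀] (hF₀ : Fintype.card F₀ = p ^ (f / r)) :
    r ∣ f ∧ Nonempty (↥(Cfsg.inndiagPSp m F ⊓ Subgroup.centralizer {x}) ≃* Cfsg.PGSp m F₀) ∧ Cfsg.splitClassCount (Cfsg.inndiagPSp m F) (Cfsg.Inn (Cfsg.PSp m F)) x = Nat.gcd (Nat.gcd 2 (p ^ f - 1)) r := by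
  obtain ⟨σ, P, -, ho, rfl⟩ := AutPSp.exists_conj_field hm
    (fun e => by rw [Nat.card_eq_fintype_card]; exact hs e) hx
  have hσr : orderOf σ = r := ho.symm.trans hxr
  obtain ⟨K, hK, hcard⟩ := AutPSL.exists_fixed_field σ
  have hKc := AutPSL.card_fixed_field p f hF hcard
  rw [hσr] at hKc
  have hmem : AutPSp.semi P 1 ∈ Cfsg.inndiagPSp m F := AutPSp.mem_inndiag.2 ⟨P, rfl⟩
  have : Fintype K := Fintype.ofFinite _
  obtain ⟨e⟩ : Nonempty (F₀ ≃+* K) :=
    ⟨FiniteField.ringEquivOfCardEq (K := F₀) (K' := K) (by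
      rw [hF₀, ← Nat.card_eq_fintype_card, hKc])⟩
  obtain ⟨E1⟩ := AutPSL.centralizer_conj_equiv (Cfsg.inndiagPSp m F)
    (AutPSp.semi 1 σ) (AutPSp.semi P 1) hmem
  obtain ⟨E2⟩ := AutPSp.centralizer_field hm (σ := σ) (K.subtype.comp e.toRingHom) (fun a => by
    rw [← hK]
    constructor
    · rintro ⟨b, rfl⟩
      exact (e b).2
    · intro ha
      exact ⟨e.symm ⟨a, ha⟩, by simp⟩)
  refine ⟨hσr ▸ AutPSL.orderOf_dvd_exponent p f hF σ, ⟨E1.trans E2⟩, ?_⟩
  rw [AutPSL.splitClassCount_conj _ _ _ _ hmem, AutPSp.split_field hm,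
    AutPSp.gcd_index_fixedUnits p f hF, hσr]

end Cfsg.Agent.S2712
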