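import Cfsg.Statements.S2713
import Cfsg.Agent.Lib.AutPSp.Classes

set_option autoImplicit false
open Cfsg

namespace Cfsg.Agent.S2713

/-- Let T = PSp_{2m}(F) be simple over a finite field (m ≥ 2, (2m, |F|) ≠ (4, 2)) and let x be a field automorphism of T of prime order r. Then an element y of the coset Inndiag(T)·x (y = δ x with δ in the image of the projective conformal symplectic group) has order r if and only if y is conjugate to x by an element of Inndiag(T). -/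
theorem result {F : Type*} [Field F] [Fintype F] {m : ℕ} (hm : 2 ≤ m) (hs : m = 2 → 3 ≤ Fintype.card F) (x δ : MulAut (Cfsg.PSp m F)) (hx : Cfsg.IsFieldAutClassPSp x) {r : ℕ} (hr : r.Prime) (hxr : orderOf x = r) (hδ : δ ∈ Cfsg.inndiagPSp m F) :
    orderOf (δ * x) = r ↔ Cfsg.IsConjUnder (Cfsg.inndiagPSp m F) x (δ * x) := by
  obtain ⟨σ, P, -, ho, rfl⟩ := AutPSp.exists_conj_field hm
    (fun e => by rw [Nat.card_eq_fintype_card]; exact hs e) hx
  obtain ⟨d, rfl⟩ := AutPSp.mem_inndiag.1 hδ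
  constructor
  · intro hord
    obtain ⟨g, hg⟩ : ∃ g, AutPSp.semi d 1 * (AutPSp.semi P 1 * AutPSp.semi 1 σ * (AutPSp.semi P 1)⁻¹) =
        AutPSp.semi g σ := ⟨_, by rw [AutPSp.semi_conj, AutPSp.semi_mul_one]⟩
    obtain ⟨Q, hQ⟩ := AutPSp.conj_of_pow_eq_one hm g σ
      (by rw [← hg, ← ho, hxr, ← hord, pow_orderOf_eq_one])
    refine ⟨AutPSp.semi Q 1 * (AutPSp.semi P 1)⁻¹, Subgroup.mul_mem _ (AutPSp.mem_inndiag.2 ⟨Q, rfl⟩)
      (Subgroup.inv_mem _ (AutPSp.mem_inndiag.2 ⟨P, rfl⟩)), ?_⟩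
    rw [hg, ← hQ]
    group
  · rintro ⟨h, -, hy⟩
    rw [hy, ← hxr]
    exact (MulAut.conj h).orderOf_eq _

end Cfsg.Agent.S2713
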