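import Cfsg.Statements.S2714
import Cfsg.Agent.Lib.AutPOmega.Field

set_option autoImplicit false
open Cfsg

namespace Cfsg.Agent.S2714

/-- Let T = Ω_{2m+1}(F) (m ≥ 3, |F| = p^f odd; realised as PΩ of the form x₀² + Σ xᵢ yᵢ), G = Inndiag(T) the image of the conformal orthogonal group in Aut(T), and x a field automorphism of T of prime order r. Then r divides f; C_G(x) is isomorphic to Inndiag(Ω_{2m+1}(F₀)) for a field F₀ with p^(f/r) elements; and the G-class of x is a single T-class when r is odd and the union of exactly two T-classes when r = 2. -/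
theorem result {F : Type*} [Field F] [Fintype F] {p f : ℕ} [Fact p.Prime] (hF : Fintype.card F = p ^ f) (hf : 1 ≤ f) (hodd : Odd (Fintype.card F)) {m : ℕ} (hm : 3 ≤ m) (x : MulAut (Cfsg.POmega F (Cfsg.quadFormOdd m F))) (hx : Cfsg.IsFieldAutClassPOmega (Cfsg.quadFormOdd m F) x) {r : ℕ} (hr : r.Prime) (hxr : orderOf x = r) (F₀ : Type*) [Field F₀] [Fintype F₀] (hF₀ : Fintype.card F₀ = p ^ (f / r)) :
    r ∣ f ∧ Nonempty (↥(Cfsg.inndiagPOmegaOdd m F ⊓ Subgroup.centralizer {x}) ≃* ↥(Cfsg.inndiagPOmegaOdd m F₀)) ∧ (Odd r → Cfsg.splitClassCount (Cfsg.inndiagPOmegaOdd m F) (Cfsg.Inn (Cfsg.POmega F (Cfsg.quadFormOdd m F))) x = 1) ∧ (r = 2 → Cfsg.splitClassCount (Cfsg.inndiagPOmegaOdd m F) (Cfsg.Inn (Cfsg.POmega F (Cfsg.quadFormOdd m F))) x = 2) := by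
  have h2 : (2 : F) ≠ 0 := Cfsg.Agent.AutPOmega.two_ne_zero_of_odd hodd
  obtain ⟨σ, P, -, ho, rfl⟩ := Cfsg.Agent.AutPOmega.exists_conj_field h2 hm hx
  have hσr : orderOf σ = r := ho.symm.trans hxr
  obtain ⟨K, hK, hcard⟩ := Cfsg.Agent.AutPSL.exists_fixed_field σ
  have hKc := Cfsg.Agent.AutPSL.card_fixed_field p f hF hcard
  rw [hσr] at hKc
  have : Fintype K := Fintype.ofFinite _
  obtain ⟨e⟩ : Nonempty (F₀ ≃+* K) :=
    ⟨FiniteField.ringEquivOfCardEq (K := F₀) (K' := K) (by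
      rw [hF₀, ← Nat.card_eq_fintype_card, hKc])⟩
  have hφ : ∀ a, a ∈ (K.subtype.comp e.toRingHom).range ↔ σ a = a := fun a => by
    rw [← hK]
    constructor
    · rintro ⟨b, rfl⟩
      exact (e b).2
    · intro ha
      exact ⟨e.symm ⟨a, ha⟩, by simp⟩
  have hcard' : Fintype.card F = Fintype.card F₀ ^ orderOf σ := by
    rw [hcard, hF₀, hKc]
  have hmem : Cfsg.Agent.AutPOmega.sa P 1 ∈ Cfsg.inndiagPOmegaOdd m F := by
    rw [← Cfsg.Agent.AutPOmega.range_conjSO h2 hm]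
    exact ⟨P, rfl⟩
  obtain ⟨E1⟩ := Cfsg.Agent.AutPSL.centralizer_conj_equiv (Cfsg.inndiagPOmegaOdd m F)
    (Cfsg.Agent.AutPOmega.sa 1 σ) (Cfsg.Agent.AutPOmega.sa P 1) hmem
  obtain ⟨E2⟩ := Cfsg.Agent.AutPOmega.centralizer_field h2 _ hm hφ
  obtain ⟨hs1, hs2⟩ := Cfsg.Agent.AutPOmega.split_field h2 hm _ hφ hcard'
  refine ⟨hσr ▸ Cfsg.Agent.AutPSL.orderOf_dvd_exponent p f hF σ, ⟨E1.trans E2⟩, fun h => ?_, fun h => ?_⟩
  · rw [Cfsg.Agent.AutPSL.splitClassCount_conj _ _ _ _ hmem, hs1 (hσr.symm ▸ h)]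
  · rw [Cfsg.Agent.AutPSL.splitClassCount_conj _ _ _ _ hmem, hs2 (hσr.trans h)]

end Cfsg.Agent.S2714
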