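import Cfsg.Statements.S2715
import Cfsg.Agent.Lib.AutPOmega.FieldPlus
import Cfsg.Agent.Lib.AutPOmega.D4Aut
-- import your own Cfsg.Agent.* helpers here

set_option autoImplicit false
open Cfsg

namespace Cfsg.Agent.S2715

open Cfsg.Agent Matrix

set_option maxHeartbeats 1600000 in
/-- Let T = PΩ⁺_{2m}(F) (m ≥ 4, |F| = p^f; the form Σ xᵢ yᵢ), G = Inndiag(T) the image of the class-preserving similarities in Aut(T), and x a field automorphism of T of prime order r. Then r divides f; C_G(x) is isomorphic to Inndiag(PΩ⁺_{2m}(F₀)) for a field F₀ with p^(f/r) elements; and the G-class of x is the union of exactly c T-classes, where c = 1 if r is odd or p = 2, and otherwise (r = 2, p odd) c = 2 when m is odd and p^(f/2) ≡ 1 (mod 4), and c = 4 in the remaining cases. -/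
theorem result {F : Type*} [Field F] [Fintype F] {p f : ℕ} [Fact p.Prime] (hF : Fintype.card F = p ^ f) (hf : 1 ≤ f) {m : ℕ} (hm : 4 ≤ m) (x : MulAut (Cfsg.POmega F (Cfsg.quadFormPlus m F))) (hx : Cfsg.IsFieldAutClassPOmega (Cfsg.quadFormPlus m F) x) {r : ℕ} (hr : r.Prime) (hxr : orderOf x = r) (F₀ : Type*) [Field F₀] [Fintype F₀] (hF₀ : Fintype.card F₀ = p ^ (f / r)) :
    r ∣ f ∧ Nonempty (↥(Cfsg.inndiagPOmegaPlus m F ⊓ Subgroup.centralizer {x}) ≃* ↥(Cfsg.inndiagPOmegaPlus m F₀)) ∧ ((Odd r ∨ p = 2) → Cfsg.splitClassCount (Cfsg.inndiagPOmegaPlus m F) (Cfsg.Inn (Cfsg.POmega F (Cfsg.quadFormPlus m F))) x = 1) ∧ ((r = 2 ∧ p ≠ 2 ∧ Odd m ∧ p ^ (f / 2) % 4 = 1) → Cfsg.splitClassCount (Cfsg.inndiagPOmegaPlus m F) (Cfsg.Inn (Cfsg.POmega F (Cfsg.quadFormPlus m F))) x = 2) ∧ ((r = 2 ∧ p ≠ 2 ∧ ¬ (Odd m ∧ p ^ (f / 2) % 4 = 1)) → Cfsg.splitClassCount (Cfsg.inndiagPOmegaPlus m F) (Cfsg.Inn (Cfsg.POmega F (Cfsg.quadFormPlus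 m F))) x = 4) := by
  have h7 : 7 ≤ Fintype.card (Fin m ⊕ Fin m) := by simp; omega
  obtain ⟨α, φ', σ, hσ1, hφ', hαx⟩ := hx
  obtain rfl : φ' = AutPOmega.semi 1 σ (AutPOmega.isPair_field_plus (m := m) σ) :=
    AutPOmega.semi_eq_of_induced _ fun s s' hs => hφ' s s' (by simpa using hs)
  have hconj : MulAut.conj α x = AutPOmega.semi 1 σ (AutPOmega.isPair_field_plus (m := m) σ) := by
    rw [MulAut.conj_apply, hαx]
  have ho : orderOf σ = r := AutPOmega.orderOf_field (AutPOmega.geo_plus m) h7 (AutPOmega.isPair_field_plus σ) hr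
    (by rw [← hconj, MulEquiv.orderOf_eq (MulAut.conj α) x, hxr]) hσ1
  have hrf : r ∣ f := ho ▸ AutPSL.orderOf_dvd_exponent p f hF σ
  have hnorm : (Cfsg.inndiagPOmegaPlus m F).Normal := by
    rcases Nat.eq_or_lt_of_le hm with rfl | hm5
    · exact AutPOmega.D4.inndiag_normal F
    · exact AutPOmega.inndiag_normal_of_five hm5
  have hI : ∀ y, MulAut.conj α y ∈ Cfsg.inndiagPOmegaPlus m F ↔ y ∈ Cfsg.inndiagPOmegaPlus m F := fun y =>
    ⟨fun h => by simpa [mul_assoc] using hnorm.conj_mem _ h α⁻¹, fun h => hnorm.conj_mem y h α⟩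
  have hK : ∀ y, MulAut.conj α y ∈ Cfsg.Inn (Cfsg.POmega F (Cfsg.quadFormPlus m F)) ↔
      y ∈ Cfsg.Inn (Cfsg.POmega F (Cfsg.quadFormPlus m F)) := fun y =>
    ⟨fun h => by simpa [mul_assoc] using Subgroup.Normal.conj_mem inferInstance _ h α⁻¹,
      fun h => Subgroup.Normal.conj_mem inferInstance y h α⟩
  obtain ⟨K, hK', hcard⟩ := AutPSL.exists_fixed_field σ
  have hKc := AutPSL.card_fixed_field p f hF hcard
  rw [ho] at hKc
  have : Fintype K := Fintype.ofFinite _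
  obtain ⟨e⟩ : Nonempty (F₀ ≃+* K) :=
    ⟨FiniteField.ringEquivOfCardEq (K := F₀) (K' := K) (by rw [hF₀, ← Nat.card_eq_fintype_card, hKc])⟩
  obtain ⟨φ, hφe⟩ : ∃ φ : F₀ →+* F, φ = K.subtype.comp e.toRingHom := ⟨_, rfl⟩
  have hfix : ∀ a, a ∈ φ.range ↔ σ a = a := fun a => by
    rw [← hK', hφe]
    constructor
    · rintro ⟨b, rfl⟩
      exact (e b).2
    · intro ha
      exact ⟨e.symm ⟨a, ha⟩, by simp⟩
  obtain ⟨E0⟩ := AutPOmega.centralizer_transport (MulAut.conj α) _ _ hI x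
  obtain ⟨E1⟩ := AutPOmega.field_plus_centralizer (m := m) φ hfix hm
  have hsplit := AutPOmega.splitClassCount_transport (MulAut.conj α) _ _ _ _ hI hK x
  rw [hconj] at E0 hsplit
  refine ⟨hrf, ⟨E0.trans E1⟩, ?_⟩
  rw [hsplit]
  have hchar : CharP F p := charP_of_card_eq_prime_pow hF
  have hr2 : r = 2 → Fintype.card F = Fintype.card F₀ ^ 2 := fun h => by
    subst h
    obtain ⟨j, rfl⟩ := hrf
    rw [hF, hF₀, Nat.mul_div_cancel_left _ two_pos, ← pow_mul, Nat.mul_comm]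
  refine ⟨?_, ?_, ?_⟩
  · rintro (hodd | rfl)
    · exact AutPOmega.field_plus_split_one φ hfix hm (AutPOmega.exists_sq_class φ hfix (ho.symm ▸ hodd))
    · exact AutPOmega.field_plus_split_one φ hfix hm
        fun y _ => ⟨1, FiniteField.isSquare_of_char_two (ringChar.eq F 2) _⟩
  · rintro ⟨hr, hp, hc⟩
    have h2 : (2 : F) ≠ 0 := Agent.Orth.two_ne_zero_of_odd (hF ▸ ((Fact.out : p.Prime).odd_of_ne_two hp).pow)
    rw [AutPOmega.field_plus_split_two φ hfix hm h2 (hr2 hr), if_pos]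
    subst hr
    rwa [hF₀]
  · rintro ⟨hr, hp, hc⟩
    have h2 : (2 : F) ≠ 0 := Agent.Orth.two_ne_zero_of_odd (hF ▸ ((Fact.out : p.Prime).odd_of_ne_two hp).pow)
    rw [AutPOmega.field_plus_split_two φ hfix hm h2 (hr2 hr), if_neg]
    subst hr
    rwa [hF₀]

end Cfsg.Agent.S2715
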