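import Cfsg.Statements.S2716
import Cfsg.Agent.Lib.AutPOmega.MinusBase
-- import your own Cfsg.Agent.* helpers here

set_option autoImplicit false
open Cfsg

namespace Cfsg.Agent.S2716

/-- Let T = PΩ⁻_{2m+2}(F) (m ≥ 3, |F| = p^f; the form Σ xᵢ yᵢ + z₁² + a z₁ z₂ + b z₂² with anisotropic binary part), G = Inndiag(T), and x a field automorphism of T of prime order r. Then r is odd and divides f; C_G(x) is isomorphic to Inndiag(PΩ⁻_{2m+2}(F₀)) for a field F₀ with p^(f/r) elements and some anisotropic binary part over F₀; and the G-class of x is a single T-class. -/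
theorem result {F : Type*} [Field F] [Fintype F] {p f : ℕ} [Fact p.Prime] (hF : Fintype.card F = p ^ f) (hf : 1 ≤ f) {m : ℕ} (hm : 3 ≤ m) (a b : F) (hab : (∀ z₁ z₂ : F, z₁ ^ 2 + a * z₁ * z₂ + b * z₂ ^ 2 = 0 → z₁ = 0 ∧ z₂ = 0)) (x : MulAut (Cfsg.POmega F (Cfsg.quadFormMinus m F a b))) (hx : Cfsg.IsFieldAutClassPOmegaMinus m x) {r : ℕ} (hr : r.Prime) (hxr : orderOf x = r) (F₀ : Type*) [Field F₀] [Fintype F₀] (hF₀ : Fintype.card F₀ = p ^ (f / r)) :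
    Odd r ∧ r ∣ f ∧ (∃ a₀ b₀ : F₀, (∀ z₁ z₂ : F₀, z₁ ^ 2 + a₀ * z₁ * z₂ + b₀ * z₂ ^ 2 = 0 → z₁ = 0 ∧ z₂ = 0) ∧ Nonempty (↥(Cfsg.inndiagPOmegaMinus m F a b ⊓ Subgroup.centralizer {x}) ≃* ↥(Cfsg.inndiagPOmegaMinus m F₀ a₀ b₀))) ∧ Cfsg.splitClassCount (Cfsg.inndiagPOmegaMinus m F a b) (Cfsg.Inn (Cfsg.POmega F (Cfsg.quadFormMinus m F a b))) x = 1 := by
  obtain ⟨a', b', hab', σ, ha, hb, Ψ, g, hg, ho, hodd, hgx, hΨ⟩ := AutPOmega.exists_semi_of_classMinus hm hab hx hr hxr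
  have h7 : 7 ≤ Fintype.card ((Fin m ⊕ Fin m) ⊕ Fin 2) := by simp; omega
  have hs1 : Cfsg.IsSemisimilarityPair (Cfsg.quadFormMinus m F a' b') (1 : GL ((Fin m ⊕ Fin m) ⊕ Fin 2) F) σ := ⟨1, fun v => by
    rw [Units.val_one, Matrix.one_mulVec, Units.val_one, one_mul]
    have := AutPOmega.minus_quad_map (m := m) (a := a') (b := b') σ.toRingHom v
    simpa [ha, hb, Function.comp_def] using this⟩
  have h1 : AutPOmega.semi g σ hg ^ orderOf σ = 1 := by rw [ho, ← hgx, ← map_pow, ← hxr, pow_orderOf_eq_one, map_one]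
  have h2 : AutPOmega.semi 1 σ hs1 ^ orderOf σ = 1 := by
    obtain ⟨hG, e⟩ := AutPOmega.semi_pow hs1 (orderOf σ)
    have ht : ∀ k, AutPOmega.tw σ (1 : GL ((Fin m ⊕ Fin m) ⊕ Fin 2) F) k = 1 := fun k => by
      induction k with
      | zero => rfl
      | succ k ih => rw [AutPOmega.tw, ih, map_one, one_mul]
    rw [e]
    exact (AutPOmega.semi_congr _ ⟨1, fun v => by simp⟩ (ht _) (pow_orderOf_eq_one σ)).trans (AutPOmega.semi_one' _)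
  obtain ⟨N, hN, hNe⟩ := AutPOmega.minus_coset_conj hm hab' ha hb hs1 hg h2 h1
  obtain ⟨K, hK, hcard⟩ := AutPSL.exists_fixed_field σ
  have hKc := AutPSL.card_fixed_field p f hF hcard
  rw [ho] at hKc
  have : Fintype K := Fintype.ofFinite _
  obtain ⟨e⟩ : Nonempty (F₀ ≃+* K) :=
    ⟨FiniteField.ringEquivOfCardEq (K := F₀) (K' := K) (by
      rw [hF₀, ← Nat.card_eq_fintype_card, hKc])⟩
  obtain ⟨φ, hφe⟩ : ∃ φ : F₀ →+* F, φ = K.subtype.comp e.toRingHom := ⟨_, rfl⟩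
  have hfix : ∀ a, a ∈ φ.range ↔ σ a = a := fun a => by
    rw [← hK, hφe]
    constructor
    · rintro ⟨b, rfl⟩
      exact (e b).2
    · intro ha
      exact ⟨e.symm ⟨a, ha⟩, by simp⟩
  obtain ⟨a₀, rfl⟩ := (hfix a').2 ha
  obtain ⟨b₀, rfl⟩ := (hfix b').2 hb
  have hab₀ : ∀ z₁ z₂ : F₀, z₁ ^ 2 + a₀ * z₁ * z₂ + b₀ * z₂ ^ 2 = 0 → z₁ = 0 ∧ z₂ = 0 := fun z₁ z₂ h => by
    have h' := congrArg φ h
    simp only [map_add, map_mul, map_pow, map_zero] at h'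
    obtain ⟨e1, e2⟩ := hab' _ _ h'
    exact ⟨φ.injective (by rw [e1, map_zero]), φ.injective (by rw [e2, map_zero])⟩
  have hB := AutPOmega.base_minus φ hab₀ hab' hm
  have hgen : ∀ {ι : Type} [Fintype ι] [DecidableEq ι] {Q : QuadraticForm F (ι → F)} {P : GL ι F → Prop}
      {Q' : QuadraticForm F₀ (ι → F₀)} {P₀ : GL ι F₀ → Prop} {R : (ι → F) → F} {R₀ : (ι → F₀) → F₀}
      (hB : AutPOmega.Base Q P Q' P₀ φ) (hR : ⇑Q = R) (hR₀ : ⇑Q' = R₀)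
      (I : Subgroup (MulAut (Cfsg.POmega F R))) (I₀ : Subgroup (MulAut (Cfsg.POmega F₀ R₀)))
      (hI : ∀ β, β ∈ I ↔ ∃ (g : GL ι F) (hg : Cfsg.IsSemisimilarityPair R g 1), P g ∧ β = AutPOmega.semi g 1 hg)
      (hI₀ : ∀ β, β ∈ I₀ ↔ ∃ (g : GL ι F₀) (hg : Cfsg.IsSemisimilarityPair R₀ g 1), P₀ g ∧ β = AutPOmega.semi g 1 hg)
      (hs : Cfsg.IsSemisimilarityPair R (1 : GL ι F) σ),
      Nonempty (↥(I ⊓ Subgroup.centralizer {AutPOmega.semi 1 σ hs}) ≃* ↥I₀) ∧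
      Cfsg.splitClassCount I (Cfsg.Inn (Cfsg.POmega F R)) (AutPOmega.semi 1 σ hs) = 1 := by
    intro ι _ _ Q P Q' P₀ R R₀ hB hR hR₀ I I₀ hI hI₀ hs
    subst hR hR₀
    exact ⟨hB.centralizer hfix hs hI hI₀, hB.split_one hfix hs (AutPOmega.exists_sq_class φ hfix (ho ▸ hodd)) hI⟩
  obtain ⟨⟨E2⟩, hsplit⟩ := hgen hB (Orth.coe_qMinus m _ _) (Orth.coe_qMinus m a₀ b₀)
    (Cfsg.inndiagPOmegaMinus m F (φ a₀) (φ b₀)) (Cfsg.inndiagPOmegaMinus m F₀ a₀ b₀)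
    (fun _ => AutPOmega.mem_inndiag_minus hab') (fun _ => AutPOmega.mem_inndiag_minus hab₀) hs1
  obtain ⟨E0⟩ := AutPOmega.centralizer_transport (MulAut.congr Ψ) _ _ hΨ x
  obtain ⟨E1⟩ := AutPSL.centralizer_conj_equiv (Cfsg.inndiagPOmegaMinus m F (φ a₀) (φ b₀)) (AutPOmega.semi 1 σ hs1) N hN
  refine ⟨ho ▸ hodd, ho ▸ AutPSL.orderOf_dvd_exponent p f hF σ, ⟨a₀, b₀, hab₀,
    ⟨E0.trans ((MulEquiv.subgroupCongr (by rw [hgx, hNe])).trans (E1.trans E2))⟩⟩, ?_⟩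
  rw [AutPOmega.splitClassCount_transport (MulAut.congr Ψ) _ _ _ _ hΨ (AutPOmega.congr_mem_inn Ψ) x, hgx, hNe,
    AutPSL.splitClassCount_conj _ _ _ _ hN, hsplit]

end Cfsg.Agent.S2716
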