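import Cfsg.Statements.S2717
import Cfsg.Agent.Lib.AutPOmega.GraphFieldModel

set_option autoImplicit false
open Cfsg

namespace Cfsg.Agent.S2717

set_option maxHeartbeats 1600000 in
/-- Let T = PΩ⁺_{2m}(F) with m ≥ 5 (dimension 2m ≠ 8) and |F| = p^f, G = Inndiag(T), and x an involutory graph-field automorphism of T. Then f is even; any two involutory graph-field automorphisms of T are G-conjugate; C_G(x) is isomorphic to Inndiag(PΩ⁻_{2m}(F₀)) for a field F₀ with p^(f/2) elements (some anisotropic binary part over F₀); and the G-class of x is the union of exactly c T-classes with c = 1 if p = 2, c = 4 if p is odd, m is odd and p^(f/2) ≡ 1 (mod 4), and c = 2 otherwise. -/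
theorem result {F : Type*} [Field F] [Fintype F] {p f : ℕ} [Fact p.Prime] (hF : Fintype.card F = p ^ f) (hf : 1 ≤ f) {m : ℕ} (hm : 5 ≤ m) (x : MulAut (Cfsg.POmega F (Cfsg.quadFormPlus m F))) (hx : Cfsg.IsGraphFieldAutClassPOmegaPlus m x) (hx2 : orderOf x = 2) (F₀ : Type*) [Field F₀] [Fintype F₀] (hF₀ : Fintype.card F₀ = p ^ (f / 2)) :
    Even f ∧ (∀ y : MulAut (Cfsg.POmega F (Cfsg.quadFormPlus m F)), Cfsg.IsGraphFieldAutClassPOmegaPlus m y → orderOf y = 2 → Cfsg.IsConjUnder (Cfsg.inndiagPOmegaPlus m F) x y) ∧ (∃ a₀ b₀ : F₀, (∀ z₁ z₂ : F₀, z₁ ^ 2 + a₀ * z₁ * z₂ + b₀ * z₂ ^ 2 = 0 → z₁ = 0 ∧ z₂ = 0) ∧ Nonempty (↥(Cfsg.inndiagPOmegaPlus m F ⊓ Subgroup.centralizer {x}) ≃* ↥(Cfsg.inndiagPOmegaMinus (m - 1) F₀ a₀ b₀))) ∧ (p = 2 → Cfsg.splitClassCount (Cfsg.inndiagPOmegaPlus m F) (Cfsg.Inn (Cfsg.POmega F (Cfsg.quadFormPlus m F))) x = 1) ∧ ((p ≠ 2 ∧ Odd m ∧ p ^ (f / 2) % 4 = 1)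 → Cfsg.splitClassCount (Cfsg.inndiagPOmegaPlus m F) (Cfsg.Inn (Cfsg.POmega F (Cfsg.quadFormPlus m F))) x = 4) ∧ ((p ≠ 2 ∧ ¬ (Odd m ∧ p ^ (f / 2) % 4 = 1)) → Cfsg.splitClassCount (Cfsg.inndiagPOmegaPlus m F) (Cfsg.Inn (Cfsg.POmega F (Cfsg.quadFormPlus m F))) x = 2) := by
  have h7 : 7 ≤ Fintype.card (Fin m ⊕ Fin m) := by simp; omega
  obtain ⟨g, σ, hg, rfl, ho, hg1⟩ := AutPOmega.exists_semi_of_class hm (Or.inr hx) Nat.prime_two hx2
  have hng := AutPOmega.not_pres_graphfield hm hg hx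
  obtain ⟨hev, hpow⟩ := AutPSL.involution_eq_pow p f hF ho
  refine ⟨hev, ?_, ?_⟩
  · intro y hy hy2
    obtain ⟨g', σ', hg', rfl, ho', -⟩ := AutPOmega.exists_semi_of_class hm (Or.inr hy) Nat.prime_two hy2
    obtain rfl : σ = σ' := RingEquiv.ext fun a => by
      rw [hpow a, (AutPSL.involution_eq_pow p f hF ho').2 a]
    exact AutPOmega.plus_coset_conj (by omega) hg hg' (by rw [ho, ← hx2, pow_orderOf_eq_one])
      (by rw [ho, ← hy2, pow_orderOf_eq_one])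
      (iff_of_false hng (AutPOmega.not_pres_graphfield hm hg' hy))
  obtain ⟨K, hK, hcard⟩ := AutPSL.exists_fixed_field σ
  have hKc := AutPSL.card_fixed_field p f hF hcard
  rw [ho] at hKc
  have : Fintype K := Fintype.ofFinite _
  obtain ⟨e⟩ : Nonempty (F₀ ≃+* K) :=
    ⟨FiniteField.ringEquivOfCardEq (K := F₀) (K' := K) (by rw [hF₀, ← Nat.card_eq_fintype_card, hKc])⟩
  obtain ⟨φ, hφe⟩ : ∃ φ : F₀ →+* F, φ = K.subtype.comp e.toRingHom := ⟨_, rfl⟩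
  have hfix : ∀ a, a ∈ φ.range ↔ σ a = a := fun a => by
    rw [← hK, hφe]
    constructor
    · rintro ⟨b, rfl⟩
      exact (e b).2
    · intro ha
      exact ⟨e.symm ⟨a, ha⟩, by simp⟩
  have hc2 : Fintype.card F = Fintype.card F₀ ^ 2 := by rw [hF₀, ← hKc, hcard, ho]
  -- the descended form
  obtain ⟨c, hc⟩ := AutPOmega.tw_scalar (AutPOmega.geo_plus m) h7 hg (by rw [ho, ← hx2, pow_orderOf_eq_one])
  haveI : Nonempty (Fin m ⊕ Fin m) := ⟨Sum.inl ⟨0, by omega⟩⟩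
  have hg0 : Cfsg.IsSemisimilarityPair (⇑(Agent.Orth.qPlus F m)) g 1 := by
    rw [Agent.Orth.coe_qPlus]; exact hg1
  obtain ⟨q', P, t, b, D⟩ := AutPOmega.exists_descended hK (Agent.Orth.qPlus_nondeg m) AutPOmega.qPlus_field hg0 hc
  rcases LBQuad.classify_even D.nondeg (m := m)
      (by rw [Module.finrank_fintype_fun_eq_card]; simp; ring) with ⟨ψ, hψ⟩ | ⟨ζ, hζ, ψ, hψ⟩
  · exact absurd (AutPOmega.pres_of_plus hK hg1 D hψ) hng
  obtain ⟨n, rfl⟩ : ∃ n, m = n + 1 := ⟨m - 1, by omega⟩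
  obtain ⟨ψ, hψ⟩ : ∃ ψ' : (Fin (n + 1) ⊕ Fin (n + 1) → K) ≃ₗ[K] ((Fin n ⊕ Fin n) ⊕ Fin 2 → K),
      ∀ u, q' u = Agent.Orth.qMinus K n 1 ζ (ψ' u) := ⟨ψ, hψ⟩
  rw [Nat.add_sub_cancel]
  obtain ⟨b₀, hb₀⟩ : ∃ b₀ : F₀, b₀ = e.symm ζ := ⟨_, rfl⟩
  have hφb : φ b₀ = (ζ : F) := by rw [hb₀, hφe]; simp
  have hab₀ : ∀ z₁ z₂ : F₀, z₁ ^ 2 + 1 * z₁ * z₂ + b₀ * z₂ ^ 2 = 0 → z₁ = 0 ∧ z₂ = 0 :=
    LBQuad.bin_aniso fun t ht => hζ (e t) (by
      have := congrArg e ht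
      simpa [hb₀] using this)
  obtain ⟨ε⟩ : Nonempty ((Fin n ⊕ Fin n) ⊕ Fin 2 ≃ Fin (n + 1) ⊕ Fin (n + 1)) :=
    Fintype.card_eq.1 (by simp only [Fintype.card_sum, Fintype.card_fin]; omega)
  obtain ⟨N, hN, hNq⟩ := AutPOmega.exists_sim_of_descent
    (q₀ := (Agent.Orth.qMinus F n (φ 1) (φ b₀)).comp (LinearMap.funLeft F F ε)) hK D.fix D.val
    ((LinearEquiv.funCongrLeft K K ε).trans ψ.symm) 1 fun u => by
      rw [one_mul, hψ, LinearEquiv.trans_apply, LinearEquiv.apply_symm_apply, map_one, hφb]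
      show ((Agent.Orth.qMinus K n 1 ζ (u ∘ ε) : K) : F) = Agent.Orth.qMinus F n _ _ (K.subtype ∘ (u ∘ ε))
      have h := AutPOmega.minus_compat (a := (1 : K)) (b := ζ) K.subtype (u ∘ ε)
      rw [map_one] at h
      exact h.symm
  obtain ⟨E, hE⟩ : ∃ E : ((Fin n ⊕ Fin n) ⊕ Fin 2 → F) ≃ₗ[F] (Fin (n + 1) ⊕ Fin (n + 1) → F),
      ∀ w, E w = Transvec.mv N (w ∘ ε.symm) := by
    refine ⟨LinearMap.linearEquivOfInjective
      ((Matrix.toLin' (N : Matrix _ _ F)).comp (LinearMap.funLeft F F ε.symm)) ?_ (by simp; omega), fun w => rfl⟩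
    intro x y h
    exact LinearMap.funLeft_injective_of_surjective F F _ ε.symm.surjective (Transvec.mv_inj N (by simpa [Transvec.mv] using h))
  have hEq : ∀ w, Cfsg.quadFormPlus (n + 1) F (E w) = b * Agent.Orth.qMinus F n (φ 1) (φ b₀) w := fun w => by
    have h := hNq (w ∘ ε.symm)
    rw [mul_one, Agent.Orth.coe_qPlus, ← hE] at h
    rw [h]
    show b * Agent.Orth.qMinus F n (φ 1) (φ b₀) (LinearMap.funLeft F F ε (w ∘ ε.symm)) = _
    exact congrArg (fun x => b * Agent.Orth.qMinus F n (φ 1) (φ b₀) x) (funext fun i => by simp [LinearMap.funLeft])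
  obtain ⟨C, hC⟩ := AutPOmega.exists_gl_conj E
  obtain ⟨Ψ, hΨ⟩ := AutPOmega.exists_transportE hC D.b_ne hEq
  obtain ⟨hH, hB⟩ := AutPOmega.base_hyp (n := n) φ hc2 hab₀ (by omega)
  have hσq : Cfsg.IsSemisimilarityPair (⇑(Agent.Orth.qMinus F n (φ 1) (φ b₀)))
      (1 : GL ((Fin n ⊕ Fin n) ⊕ Fin 2) F) σ := ⟨1, fun v => by
    rw [Units.val_one, Matrix.one_mulVec, Units.val_one, one_mul]
    exact AutPOmega.qMinus_field ((hfix _).1 ⟨_, rfl⟩) ((hfix _).1 ⟨_, rfl⟩) v⟩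
  have hst : Cfsg.IsSemisimilarityPair (⇑(Agent.Orth.qMinus F n (φ 1) (φ b₀)))
      (AutPOmega.scal t : GL ((Fin n ⊕ Fin n) ⊕ Fin 2) F) σ := by
    have h := AutPOmega.isPair_comp (AutPOmega.isPair_scal (q := Agent.Orth.qMinus F n (φ 1) (φ b₀)) t) hσq
    simpa using h
  have hx0 : MulAut.congr Ψ (AutPOmega.semi 1 σ hσq) = AutPOmega.semi g σ hg := by
    have e1 : AutPOmega.semi (AutPOmega.scal t) σ hst = AutPOmega.semi 1 σ hσq := by
      have h := AutPOmega.semi_mul (AutPOmega.isPair_scal (q := Agent.Orth.qMinus F n (φ 1) (φ b₀)) t) hσq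
      rw [AutPOmega.semi_scal, one_mul] at h
      exact (h.trans (AutPOmega.semi_congr _ hst (by simp) (by simp))).symm
    rw [← e1]
    refine hΨ _ g σ hst hg fun v => ?_
    show Transvec.mv g (σ ∘ E v) = E (Transvec.mv (AutPOmega.scal t) (σ ∘ v))
    rw [hE, ← AutPOmega.mv_mapGL, ← Transvec.mv_mul, hN, Transvec.mv_mul, AutPOmega.scal_mv,
      AutPOmega.scal_mv, map_smul, hE]
    rfl
  have hI : ∀ y, MulAut.congr Ψ y ∈ Cfsg.inndiagPOmegaPlus (n + 1) F ↔ y ∈ hB.par.act.range := by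
    intro y
    have key : ∀ (g₁ : GL ((Fin n ⊕ Fin n) ⊕ Fin 2) F)
        (h1 : Cfsg.IsSemisimilarityPair (⇑(Agent.Orth.qMinus F n (φ 1) (φ b₀))) g₁ 1),
        ∃ h2 : Cfsg.IsSemisimilarityPair (Cfsg.quadFormPlus (n + 1) F) (C g₁) 1,
          MulAut.congr Ψ (AutPOmega.semi g₁ 1 h1) = AutPOmega.semi (C g₁) 1 h2 ∧
          (Cfsg.PreservesSingularClasses (⇑(Agent.Orth.qMinus F n (φ 1) (φ b₀))) (g₁ : Matrix _ _ F) ↔
            Cfsg.PreservesSingularClasses (Cfsg.quadFormPlus (n + 1) F) (C g₁ : Matrix _ _ F)) := by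
      intro g₁ h1
      have h2 := (AutPOmega.pair_conj_iff D.b_ne hEq (hC g₁)).2 h1
      refine ⟨h2, hΨ _ _ 1 h1 h2 fun v => ?_, ?_⟩
      · show Transvec.mv (C g₁) (((1 : F ≃+* F) : F → F) ∘ E v) = E (Transvec.mv g₁ (((1 : F ≃+* F) : F → F) ∘ v))
        exact hC g₁ v
      · rw [← Agent.Orth.coe_qPlus]
        refine AutPOmega.pres_transfer hH AutPOmega.hyp_plus (RingEquiv.refl F) E.toAddEquiv
          (fun s v => map_smul E s v) ⟨b, fun v => ?_⟩ h1 (by rw [Agent.Orth.coe_qPlus]; exact h2) fun v => (hC g₁ v).symm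
        rw [Agent.Orth.coe_qPlus]
        exact hEq v
    rw [AutPOmega.mem_inndiag_plus]
    constructor
    · rintro ⟨g₂, h2, hP, e⟩
      obtain ⟨g₁, rfl⟩ := C.surjective g₂
      have h1 := (AutPOmega.pair_conj_iff D.b_ne hEq (hC g₁)).1 h2
      obtain ⟨_, e2, hiff⟩ := key g₁ h1
      exact ⟨⟨g₁, h1, hiff.2 hP⟩, (MulAut.congr Ψ).injective (e2.trans e.symm)⟩
    · rintro ⟨g₁, rfl⟩
      obtain ⟨h2, e2, hiff⟩ := key g₁.1 g₁.2.1
      exact ⟨_, h2, hiff.1 g₁.2.2, e2⟩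
  rw [← hx0]
  have hsplit := AutPOmega.splitClassCount_transport (MulAut.congr Ψ) _ _ _ _ hI
    (AutPOmega.congr_mem_inn Ψ) (AutPOmega.semi 1 σ hσq)
  rw [← hsplit]
  obtain ⟨E0⟩ := AutPOmega.centralizer_transport (MulAut.congr Ψ) _ _ hI (AutPOmega.semi 1 σ hσq)
  refine ⟨⟨1, b₀, hab₀, ?_⟩, ?_⟩
  · have hgen : ∀ {R₀ : ((Fin n ⊕ Fin n) ⊕ Fin 2 → F₀) → F₀} (hR₀ : ⇑(Agent.Orth.qMinus F₀ n 1 b₀) = R₀)
        (I₀ : Subgroup (MulAut (Cfsg.POmega F₀ R₀)))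
        (_ : ∀ β, β ∈ I₀ ↔ ∃ (g : GL ((Fin n ⊕ Fin n) ⊕ Fin 2) F₀) (hg : Cfsg.IsSemisimilarityPair R₀ g 1),
          Cfsg.PreservesSingularClassesMinus n 1 b₀ (g : Matrix _ _ F₀) ∧ β = AutPOmega.semi g 1 hg),
        Nonempty (↥(hB.par.act.range ⊓ Subgroup.centralizer {AutPOmega.semi 1 σ hσq}) ≃* ↥I₀) := by
      intro R₀ hR₀ I₀ hI₀
      subst hR₀
      exact hB.centralizer hfix hσq
        (fun β => MonoidHom.mem_range.trans ⟨fun ⟨g, hg⟩ => ⟨g, g.2.1, g.2.2, hg.symm⟩, fun ⟨g, hg, hp, e⟩ => ⟨⟨g, hg, hp⟩, e.symm⟩⟩) hI₀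
    obtain ⟨E2⟩ := hgen (Agent.Orth.coe_qMinus n 1 b₀) (Cfsg.inndiagPOmegaMinus n F₀ 1 b₀)
      (fun _ => AutPOmega.mem_inndiag_minus hab₀)
    exact ⟨E0.symm.trans E2⟩
  by_cases hp2 : p = 2
  · subst hp2
    refine ⟨fun _ => ?_, fun h => absurd rfl h.1, fun h => absurd rfl h.1⟩
    haveI : CharP F 2 := charP_of_card_eq_prime_pow hF
    exact hB.split_one hfix hσq
      (fun x _ => ⟨1, FiniteField.isSquare_of_char_two (ringChar.eq F 2) _⟩)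
      (fun β => MonoidHom.mem_range.trans ⟨fun ⟨g, hg⟩ => ⟨g, g.2.1, g.2.2, hg.symm⟩, fun ⟨g, hg, hp, e⟩ => ⟨⟨g, hg, hp⟩, e.symm⟩⟩)
  refine ⟨fun h => absurd h hp2, ?_⟩
  have hodd : Odd (Fintype.card F) := hF ▸ ((Fact.out : p.Prime).odd_of_ne_two hp2).pow
  have hodd0 : Odd (Fintype.card F₀) := hF₀ ▸ ((Fact.out : p.Prime).odd_of_ne_two hp2).pow
  have h2 : (2 : F) ≠ 0 := Agent.Orth.two_ne_zero_of_odd hodd
  have h20 : (2 : F₀) ≠ 0 := Agent.Orth.two_ne_zero_of_odd hodd0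
  have hn7 := hB.par.seven
  obtain ⟨χ, hker, -, hrefl⟩ := Agent.Orth.exists_matrix_spinor (Agent.Orth.qMinus F n (φ 1) (φ b₀))
    hB.par.nondeg (by omega) (Or.inr (by omega))
  obtain ⟨c₀, hc₀⟩ := FiniteField.exists_nonsquare (F := F₀) (fun h => h20 (by
    haveI := ringChar.of_eq h; exact CharTwo.two_eq_zero))
  have hc₀0 : c₀ ≠ 0 := fun e => hc₀ (e ▸ IsSquare.zero)
  obtain ⟨z₀, z₁, g₀, hz, hg₀, hg₀P, hv⟩ := AutPOmega.exists_minus_mult (m := n) hab₀ (Units.mk0 c₀ hc₀0)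
  rw [Units.val_mk0] at hz hg₀ hv
  obtain ⟨s, hs⟩ := AutPOmega.isSquare_base φ hc2 c₀
  have hs0 : s ≠ 0 := fun e => (map_ne_zero φ).2 hc₀0 (by rw [hs, e, zero_mul])
  have hσσ : ∀ a, σ (σ a) = a := fun a => by
    have h := congrArg (fun τ : F ≃+* F => τ a) (pow_orderOf_eq_one σ)
    rw [ho, pow_two, RingAut.mul_apply, RingAut.one_apply] at h
    exact h
  have hσs : σ s = -s := by
    have h : σ s * σ s = s * s := by rw [← map_mul, ← hs]; exact (hfix _).1 ⟨_, rfl⟩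
    refine (mul_self_eq_mul_self_iff.1 h).resolve_left fun e => ?_
    obtain ⟨r, rfl⟩ := (hfix s).2 e
    exact hc₀ ⟨r, φ.injective (by rw [hs, map_mul])⟩
  have hσφ : ∀ a, σ (φ a) = φ a := fun a => (hfix _).1 ⟨_, rfl⟩
  obtain ⟨u, hu⟩ : ∃ u, u = 2 * s + φ (2 * z₀ + 1 * z₁) := ⟨_, rfl⟩
  have hσu : σ u = -(2 * s) + φ (2 * z₀ + 1 * z₁) := by
    rw [hu, map_add, map_mul, hσs, hσφ, map_ofNat]; ring
  have hu0 : u ≠ 0 := fun e => hs0 (mul_left_cancel₀ (mul_ne_zero h2 h2) (by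
    have e1 := hσu
    rw [e, map_zero] at e1
    rw [e] at hu
    linear_combination e1 - hu))
  have hunsq : ¬ IsSquare u := by
    rintro ⟨w, hw⟩
    obtain ⟨r, hr⟩ : w * σ w ∈ φ.range := (hfix _).2 (by rw [map_mul, hσσ, mul_comm])
    have hdisc : r * r = (1 * 1 - 4 * b₀) * (z₁ * z₁) := φ.injective (by
      have e : φ r * φ r = u * σ u := by rw [hr, hw, map_mul]; ring
      rw [hσu, hu] at e
      rw [map_mul, e, show (1 * 1 - 4 * b₀) * (z₁ * z₁) = (2 * z₀ + 1 * z₁) * (2 * z₀ + 1 * z₁) - 4 * c₀ by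
        rw [← hz]; ring, map_sub, map_mul, map_mul, map_ofNat, hs]
      ring)
    have hz1 : z₁ ≠ 0 := fun e => hc₀ ⟨z₀, by rw [← hz, e]; ring⟩
    refine one_ne_zero (hab₀ ((r / z₁ - 1) / 2) 1 ?_).2
    field_simp
    linear_combination hdisc
  obtain ⟨k₁, hk₁, hχ⟩ := AutPOmega.scaled_spinor φ h2 hrefl hz hv (s := Units.mk0 s hs0) hs.symm
    (by rw [Units.val_mk0, ← hu]; exact hu0)
  rw [Units.val_mk0, ← hu] at hχ
  have hsq := AutPOmega.isSquare_root_iff φ h2 hc2 hc₀ hs.symm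
  have hcl : (χ k₁).2 = 1 ↔ Odd (n + 1) ∧ p ^ (f / 2) % 4 = 1 := by
    rw [← hF₀]
    have hq4 : Fintype.card F₀ % 4 = 1 ↔ ¬ Fintype.card F₀ % 4 = 3 := by
      obtain ⟨j, hj⟩ := hodd0; omega
    rw [hq4, ← hsq, hχ]
    have hU : Agent.Orth.sqc F u ≠ 1 := by rw [Ne, Agent.Orth.sqc_eq_one_iff hu0]; exact hunsq
    by_cases hss : IsSquare s
    · rw [(Agent.Orth.sqc_eq_one_iff hs0).2 hss, one_pow, mul_one]
      exact iff_of_false hU fun h => h.2 hss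
    · have hS : Agent.Orth.sqc F s = Agent.Orth.sqc F u :=
        AutPOmega.sqCls_eq (by rw [Ne, Agent.Orth.sqc_eq_one_iff hs0]; exact hss) hU
      rw [hS]
      have h22 : Agent.Orth.sqc F u * Agent.Orth.sqc F u = 1 := Agent.Orth.sqc_mul_self hu0
      rcases Nat.even_or_odd (n + 1) with ⟨j, hj⟩ | ⟨j, hj⟩
      · rw [hj, ← two_mul, pow_mul, pow_two, h22, one_pow, mul_one]
        exact iff_of_false hU fun h => Nat.not_even_iff_odd.2 h.1 ⟨j, by omega⟩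
      · rw [hj, pow_succ', pow_mul, pow_two, h22, one_pow, mul_one, h22]
        exact iff_of_true rfl ⟨⟨j, rfl⟩, hss⟩
  have hpar : Fintype.card F % 4 = 1 := by
    obtain ⟨j, hj⟩ := hodd0
    rw [hc2, hj, show (2 * j + 1) ^ 2 = 4 * (j * j + j) + 1 by ring]; omega
  let h₀ : hB.par₀.simP := ⟨g₀, ⟨Units.mk0 c₀ hc₀0, hg₀⟩, hg₀P⟩
  have hkey := hB.split_two hfix hσq (AutPOmega.isSquare_base φ hc2) (fun c' => ?_) h2 hker hrefl
    (c₀ := Units.mk0 c₀ hc₀0) hc₀ (h₀ := h₀) hg₀ (s := Units.mk0 s hs0) (k₁ := k₁) hk₁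
  · constructor
    · rintro ⟨-, hcond⟩
      rw [hsplit]
      have hle := hkey.1 (hcl.2 hcond)
      have hle' : Cfsg.inndiagPOmegaPlus (n + 1) F ⊓ Subgroup.centralizer {MulAut.congr Ψ (AutPOmega.semi 1 σ hσq)} ≤
          Cfsg.Inn (Cfsg.POmega F (Cfsg.quadFormPlus (n + 1) F)) := by
        intro y hy
        obtain ⟨x, rfl⟩ := (MulAut.congr Ψ).surjective y
        refine (AutPOmega.congr_mem_inn Ψ x).2 (hle ⟨(hI x).1 hy.1, Subgroup.mem_centralizer_singleton_iff.2 ?_⟩)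
        have h := Subgroup.mem_centralizer_singleton_iff.1 hy.2
        rw [← map_mul, ← map_mul] at h
        exact (MulAut.congr Ψ).injective h
      have hfin := AutPOmega.final_plus (F := F) hodd (show 4 ≤ n + 1 by omega)
      have hN : ¬ (Odd (n + 1) ∧ Fintype.card F % 4 = 3) := fun h => by omega
      obtain ⟨θ, hθ, hθk⟩ := hfin.2.2.2.2.2.2.1 hN (Nat.not_even_iff_odd.2 hcond.1)
      rw [AutPOmega.split_index _ _ AutPOmega.inn_le_plus _ θ hθ hθk]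
      have hbot : ((Subgroup.centralizer {MulAut.congr Ψ (AutPOmega.semi 1 σ hσq)}).subgroupOf
          (Cfsg.inndiagPOmegaPlus (n + 1) F)).map θ = ⊥ := (Subgroup.eq_bot_iff_forall _).2 (by
        rintro _ ⟨z, hz, rfl⟩
        exact MonoidHom.mem_ker.1 (hθk ▸ hle' ⟨z.2, hz⟩))
      rw [hbot, Subgroup.index_bot, Nat.card_eq_fintype_card]
      rfl
    · rintro ⟨-, hcond⟩
      exact hkey.2 fun h => hcond (hcl.1 h)
  · obtain ⟨g₂, hg₂, hP₂, -⟩ := AutPOmega.exists_plus_mult (m := n + 1) (by omega) c'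
    obtain ⟨g₁, rfl⟩ := C.surjective g₂
    have h2' : Cfsg.IsSemisimilarityPair (Cfsg.quadFormPlus (n + 1) F) (C g₁) 1 := by
      rw [← Agent.Orth.coe_qPlus]; exact ⟨c', hg₂⟩
    have h1 := (AutPOmega.pair_conj_iff D.b_ne hEq (hC g₁)).1 h2'
    refine ⟨g₁, fun v => mul_left_cancel₀ D.b_ne ?_, ?_⟩
    · rw [← hEq, ← hC, mul_left_comm, ← hEq, ← Agent.Orth.coe_qPlus]
      exact hg₂ _
    · refine (AutPOmega.pres_transfer hH AutPOmega.hyp_plus (RingEquiv.refl F) E.toAddEquiv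
          (fun s v => map_smul E s v) ⟨b, fun v => ?_⟩ h1 (by rw [Agent.Orth.coe_qPlus]; exact h2')
          fun v => (hC g₁ v).symm).2 (by rw [Agent.Orth.coe_qPlus]; exact hP₂)
      rw [Agent.Orth.coe_qPlus]
      exact hEq v

end Cfsg.Agent.S2717
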