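import Cfsg.Statements.S2718
import Cfsg.Agent.Lib.AutPOmega.GraphSplitCount

set_option autoImplicit false
open Cfsg

namespace Cfsg.Agent.S2718

/-- Let T = PΩ⁺_{2m}(F) with m ≥ 4 and |F| = q odd, G = Inndiag(T), and γ an involutory graph automorphism of T induced by a similarity (one interchanging the two classes of maximal totally singular subspaces). Then the G-class of γ is either a single T-class or the union of exactly two T-classes, and it is the union of two unless m is odd and q ≡ 3 (mod 4). -/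
theorem result {F : Type*} [Field F] [Fintype F] (hodd : Odd (Fintype.card F)) {m : ℕ} (hm : 4 ≤ m) (γ : MulAut (Cfsg.POmega F (Cfsg.quadFormPlus m F))) (hγ : Cfsg.IsSimilarityGraphAutPOmegaPlus m γ) (hγ2 : orderOf γ = 2) :
    (Cfsg.splitClassCount (Cfsg.inndiagPOmegaPlus m F) (Cfsg.Inn (Cfsg.POmega F (Cfsg.quadFormPlus m F))) γ = 1 ∨ Cfsg.splitClassCount (Cfsg.inndiagPOmegaPlus m F) (Cfsg.Inn (Cfsg.POmega F (Cfsg.quadFormPlus m F))) γ = 2) ∧ (¬ (Odd m ∧ Fintype.card F % 4 = 3) → Cfsg.splitClassCount (Cfsg.inndiagPOmegaPlus m F) (Cfsg.Inn (Cfsg.POmega F (Cfsg.quadFormPlus m F))) γ = 2) := by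
  obtain ⟨g, hg, hnP, hi⟩ := hγ
  have hp : Cfsg.IsSemisimilarityPair (Cfsg.quadFormPlus m F) g 1 := AutPOmega.pair_go ⟨g, hg⟩
  obtain rfl : γ = AutPOmega.semi g 1 hp := AutPOmega.semi_eq_of_induced hp hi
  obtain ⟨h1, h2⟩ := (AutPOmega.evenType_plus (Cfsg.Agent.Orth.two_ne_zero_of_odd hodd) hm).graph_split_of
    (k := m) (by simp; ring) (AutPOmega.det_plus hm) (Cfsg.Agent.Orth.coe_qPlus m)
    (fun _ => AutPOmega.mem_inndiag_plus) hp hnP
    (by rw [← pow_two, ← hγ2, pow_orderOf_eq_one])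
    ((Cfsg.Agent.Orth.neg_one_plus hodd m (by omega)).trans (AutPOmega.pow_mod_four_iff hodd m).1)
  exact ⟨h1, fun h => h2 (Or.inl h)⟩

end Cfsg.Agent.S2718
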