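import Cfsg.Statements.S2719
import Cfsg.Agent.Lib.AutPOmega.GraphSplitCount

set_option autoImplicit false
open Cfsg

namespace Cfsg.Agent.S2719

/-- Let T = PΩ⁻_{2m+2}(F) with m ≥ 3 and |F| = q odd (form with anisotropic binary part z₁² + a z₁ z₂ + b z₂²), G = Inndiag(T), and γ an involutory graph automorphism of T (an automorphism in the image of the semisimilarity group, not inner-diagonal, of order 2). Then the G-class of γ is either a single T-class or the union of exactly two T-classes, and it is the union of two unless m is even and q ≡ 1 (mod 4). -/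
theorem result {F : Type*} [Field F] [Fintype F] (hodd : Odd (Fintype.card F)) {m : ℕ} (hm : 3 ≤ m) (a b : F) (hab : (∀ z₁ z₂ : F, z₁ ^ 2 + a * z₁ * z₂ + b * z₂ ^ 2 = 0 → z₁ = 0 ∧ z₂ = 0)) (γ : MulAut (Cfsg.POmega F (Cfsg.quadFormMinus m F a b))) (hγ : Cfsg.IsGraphAutClassPOmegaMinus m a b γ) (hγ2 : orderOf γ = 2) :
    (Cfsg.splitClassCount (Cfsg.inndiagPOmegaMinus m F a b) (Cfsg.Inn (Cfsg.POmega F (Cfsg.quadFormMinus m F a b))) γ = 1 ∨ Cfsg.splitClassCount (Cfsg.inndiagPOmegaMinus m F a b) (Cfsg.Inn (Cfsg.POmega F (Cfsg.quadFormMinus m F a b))) γ = 2) ∧ (¬ (Even m ∧ Fintype.card F % 4 = 1) → Cfsg.splitClassCount (Cfsg.inndiagPOmegaMinus m F a b) (Cfsg.Inn (Cfsg.POmega F (Cfsg.quadFormMinus m F a b))) γ = 2) := by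
  obtain ⟨-, hnI, -⟩ := hγ
  obtain ⟨g, hg, rfl⟩ := AutPOmega.minus_involution_linear' hodd hm hab (x := γ)
    ((pow_two _).symm.trans (orderOf_dvd_iff_pow_eq_one.1 hγ2.dvd))
  obtain ⟨h1, h2⟩ := (AutPOmega.evenType_minus hab (Cfsg.Agent.Orth.two_ne_zero_of_odd hodd) hm).graph_split_of
    (k := m + 1) (by simp; ring) (AutPOmega.det_minus hab) (Cfsg.Agent.Orth.coe_qMinus m a b)
    (fun _ => AutPOmega.mem_inndiag_minus hab) hg
    (fun hP => hnI ((AutPOmega.mem_inndiag_minus hab).2 ⟨g, hg, hP, rfl⟩))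
    ((pow_two _).symm.trans (orderOf_dvd_iff_pow_eq_one.1 hγ2.dvd))
    (((Cfsg.Agent.Orth.neg_one_minus hodd m hab).trans (AutPOmega.pow_mod_four_iff hodd (m + 1)).2).trans
      (and_congr_left' (Nat.odd_add_one.trans Nat.not_odd_iff_even)))
  refine ⟨h1, fun h => h2 ?_⟩
  rcases Nat.even_or_odd m with he | ho
  · refine Or.inl ⟨he, ?_⟩
    have : ¬ Fintype.card F % 4 = 1 := fun e => h ⟨he, e⟩
    have := Nat.odd_iff.1 hodd
    omega
  · exact Or.inr ho.add_one

end Cfsg.Agent.S2719
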