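import Cfsg.Statements.S2730
import Cfsg.Agent.Lib.AutBalance.Symp

set_option autoImplicit false
open Cfsg

namespace Cfsg.Agent.S2730

set_option maxHeartbeats 1600000 in
/-- A criterion for the failure of local balance in almost simple groups whose socle is a projective symplectic group PSp_{2m}(F) (m ≥ 2, (2m, |F|) ≠ (4, 2)). Let F be a finite field of characteristic r and K the (simple) group in question; let A be a group of automorphisms of K containing all inner automorphisms, and x ∈ A an automorphism of prime order p ≠ r that is not inner-diagonal (not induced by a conformal symplectic matrix). Then the largest normal subgroup of C_A(x) of order prime to p is nontrivial if and only if x is a field automorphism of K (conjugate under Aut(K) to a non-identity standard field automorphism) and p does not divide the number of fixed points of x on K. -/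
theorem result {F : Type*} [Field F] [Fintype F] {r : ℕ} [Fact r.Prime] [CharP F r] {m : ℕ} (hm : 2 ≤ m) (hs : m = 2 → 3 ≤ Fintype.card F) (hK : IsSimpleGroup (Cfsg.PSp m F)) (A : Subgroup (MulAut (Cfsg.PSp m F))) (hinn : ∀ k : Cfsg.PSp m F, MulAut.conj k ∈ A) {p : ℕ} [Fact p.Prime] (hpr : p ≠ r) (x : MulAut (Cfsg.PSp m F)) (hxA : x ∈ A) (hord : orderOf x = p) (hnot : ¬ Cfsg.IsInnerDiagonalAutPSp x) :
    Cfsg.pPrimeCore p ↥(A ⊓ Subgroup.centralizer {x}) ≠ ⊥ ↔ (Cfsg.IsFieldAutClassPSp x ∧ Nat.Coprime p (Nat.card ↥(MonoidHom.eqLocus x.toMonoidHom (MonoidHom.id (Cfsg.PSp m F))))) := by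
  have hs' : m = 2 → 3 ≤ Nat.card F := fun h => by rw [Nat.card_eq_fintype_card]; exact hs h
  obtain ⟨g, σ, rfl⟩ : ∃ (g : Cfsg.GSp m F) (σ : F ≃+* F), x = AutPSp.semi g σ := by
    by_cases hgen : (2 : F) ≠ 0 ∨ 3 ≤ m
    · exact AutPSp.exists_semi' hm hgen x
    rw [not_or, not_not] at hgen
    obtain ⟨h2, hm3⟩ := hgen
    obtain rfl : m = 2 := by omega
    haveI : CharP F 2 := CharTwo.of_one_ne_zero_of_two_eq_zero one_ne_zero h2
    have hp2 : p ≠ 2 := fun e => hpr (e.trans (CharP.eq F ‹CharP F 2› ‹CharP F r›))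
    obtain ⟨j, hj⟩ := (Fact.out : p.Prime).odd_of_ne_two hp2
    have hsq : x * x ∈ (AutPSp.semiSub : Subgroup (MulAut (Cfsg.PSp 2 F))) :=
      Subgroup.mul_self_mem_of_index_two (AutPSp.index_semiSub h2) x
    have hx : x = (x * x) ^ (j + 1) := by
      rw [← pow_two, ← pow_mul, show 2 * (j + 1) = p + 1 by omega, pow_succ, ← hord, pow_orderOf_eq_one, one_mul]
    exact hx ▸ Subgroup.pow_mem _ hsq (j + 1)
  have hσ : σ ≠ 1 := by
    rintro rfl
    exact hnot ⟨(g : GL _ F), g.2, AutPSp.induced_semi g 1⟩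
  have hpow : (AutPSp.semi g σ : MulAut (Cfsg.PSp m F)) ^ p = 1 := by
    conv_lhs => rw [← hord]
    exact pow_orderOf_eq_one _
  have ho : orderOf σ = p := by
    have h1 := hpow
    rw [AutPSp.semi_pow, AutPSp.semi_eq_one_iff' hm] at h1
    exact orderOf_eq_prime h1.1 hσ
  obtain ⟨P, hP⟩ := AutPSp.conj_of_pow_eq_one hm g σ (by rw [ho]; exact hpow)
  have hfield : Cfsg.IsFieldAutClassPSp (AutPSp.semi g σ : MulAut (Cfsg.PSp m F)) := by
    refine ⟨(AutPSp.semi P 1)⁻¹, σ, hσ, ?_⟩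
    rw [← hP, show (AutPSp.semi P 1 : MulAut (Cfsg.PSp m F))⁻¹ * (AutPSp.semi P 1 * AutPSp.semi 1 σ *
      (AutPSp.semi P 1)⁻¹) * ((AutPSp.semi P 1)⁻¹)⁻¹ = AutPSp.semi 1 σ by group]
    intro s s' h
    exact AutPSp.induced_semi 1 σ s s' (h.trans (by simp))
  rw [and_iff_right hfield, ← hP]
  obtain ⟨K, hK, -⟩ := AutPSL.exists_fixed_field σ
  haveI : Fintype K := Fintype.ofFinite _
  have hfix : ∀ a, a ∈ K.subtype.range ↔ σ a = a := fun a => by
    rw [← hK]
    exact ⟨fun ⟨b, hb⟩ => hb ▸ b.2, fun ha => ⟨⟨a, ha⟩, rfl⟩⟩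
  refine AutBalance.iff_conj p (AutPSp.semi P 1) (fun A' hinn' hx₀ =>
    AutBalance.symp_field_criterion K.subtype hm hfix ho (fun h2 hz => ?_) A' hinn' hx₀) A hinn (hP ▸ hxA)
  haveI : CharP F 2 := CharTwo.of_one_ne_zero_of_two_eq_zero one_ne_zero hz
  exact hpr (h2.trans (CharP.eq F ‹CharP F 2› ‹CharP F r›))

end Cfsg.Agent.S2730
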