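import Cfsg.Statements.S2731
import Cfsg.Agent.Lib.AutBalance.OrthOdd

set_option autoImplicit false
open Cfsg

namespace Cfsg.Agent.S2731

set_option maxHeartbeats 1600000 in
/-- A criterion for the failure of local balance in almost simple groups whose socle is an odd-dimensional orthogonal group Ω_{2m+1}(F) (m ≥ 3, |F| odd; the form x₀² + Σ xᵢ yᵢ). Let F be a finite field of characteristic r and K the (simple) group in question; let A be a group of automorphisms of K containing all inner automorphisms, and x ∈ A an automorphism of prime order p ≠ r that is not inner-diagonal (not induced by a similarity of the form). Then the largest normal subgroup of C_A(x) of order prime to p is nontrivial if and only if x is a field automorphism of K (conjugate under Aut(K) to a non-identity standard field automorphism) and p does not divide the number of fixed points of x on K. -/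
theorem result {F : Type*} [Field F] [Fintype F] {r : ℕ} [Fact r.Prime] [CharP F r] (hodd : Odd (Fintype.card F)) {m : ℕ} (hm : 3 ≤ m) (hK : IsSimpleGroup (Cfsg.POmega F (Cfsg.quadFormOdd m F))) (A : Subgroup (MulAut (Cfsg.POmega F (Cfsg.quadFormOdd m F)))) (hinn : ∀ k : Cfsg.POmega F (Cfsg.quadFormOdd m F), MulAut.conj k ∈ A) {p : ℕ} [Fact p.Prime] (hpr : p ≠ r) (x : MulAut (Cfsg.POmega F (Cfsg.quadFormOdd m F))) (hxA : x ∈ A) (hord : orderOf x = p) (hnot : ¬ Cfsg.IsInnerDiagonalAutPOmegaOdd m x) :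
    Cfsg.pPrimeCore p ↥(A ⊓ Subgroup.centralizer {x}) ≠ ⊥ ↔ (Cfsg.IsFieldAutClassPOmega (Cfsg.quadFormOdd m F) x ∧ Nat.Coprime p (Nat.card ↥(MonoidHom.eqLocus x.toMonoidHom (MonoidHom.id (Cfsg.POmega F (Cfsg.quadFormOdd m F)))))) := by
  have h2 : (2 : F) ≠ 0 := Agent.Orth.two_ne_zero_of_odd hodd
  obtain ⟨h, σ, rfl⟩ := AutPOmega.exists_sa h2 hm x
  have hσ : σ ≠ 1 := by
    rintro rfl
    refine hnot ⟨(h : GL _ F), ⟨1, fun v => ?_⟩, ?_⟩
    · rw [Units.val_one, one_mul]
      exact Transvec.Orth.mem_isometry.1 (AutPOmega.so_le h.2) v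
    · exact AutPOmega.induced_semi _
  have ho : orderOf σ = p := by
    obtain ⟨hG, e⟩ := AutPOmega.semi_pow (AutPOmega.semi_so h σ) p
    have h1 : AutPOmega.semi _ σ (AutPOmega.semi_so h σ) ^ p = 1 := by
      conv_lhs => rw [← hord]
      exact pow_orderOf_eq_one _
    exact orderOf_eq_prime (AutPOmega.semi_eq_one_imp (AutPOmega.geo_odd h2 m) (AutPOmega.card_iv7 h2 hm) r hG
      (e.symm.trans h1)).1 hσ
  obtain ⟨P, hP⟩ := S2735.conj_of_pow h2 hm h σ (by rw [ho, ← hord, pow_orderOf_eq_one])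
  have hfield : Cfsg.IsFieldAutClassPOmega (Cfsg.quadFormOdd m F) (AutPOmega.sa h σ) := by
    refine ⟨(AutPOmega.sa P 1)⁻¹, AutPOmega.sa 1 σ, σ, hσ, fun s s' hs => ?_, ?_⟩
    · exact AutPOmega.induced_semi (AutPOmega.semi_so (m := m) 1 σ) s s' (by simpa using hs)
    · rw [← hP]; group
  rw [and_iff_right hfield]
  obtain ⟨K, hK, -⟩ := AutPSL.exists_fixed_field σ
  haveI : Fintype K := Fintype.ofFinite _
  have hfix : ∀ a, a ∈ K.subtype.range ↔ σ a = a := fun a => by
    rw [← hK]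
    exact ⟨fun ⟨b, hb⟩ => hb ▸ b.2, fun ha => ⟨⟨a, ha⟩, rfl⟩⟩
  obtain ⟨L, hL, hs, hn, hd, hc⟩ := AutBalance.field_data K.subtype h2 hm ho hfix
  have hcen := AutBalance.center_eq_bot_odd (F := F) h2 hm
  -- transport to the standard field automorphism
  obtain ⟨c, hcdef⟩ : ∃ c, c = AutPOmega.sa P 1 := ⟨_, rfl⟩
  rw [← hcdef] at hP
  have hconj : ∀ f : MulAut (Cfsg.POmega F (Cfsg.quadFormOdd m F)),
      f ∈ Subgroup.centralizer {AutPOmega.sa h σ} → c⁻¹ * f * c ∈ Subgroup.centralizer {AutPOmega.sa 1 σ} := by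
    intro f hf
    rw [Subgroup.mem_centralizer_singleton_iff] at hf ⊢
    rw [← hP] at hf
    calc c⁻¹ * f * c * AutPOmega.sa 1 σ = c⁻¹ * (f * (c * AutPOmega.sa 1 σ * c⁻¹)) * c := by group
      _ = c⁻¹ * (c * AutPOmega.sa 1 σ * c⁻¹ * f) * c := by rw [hf]
      _ = _ := by group
  have hmap : ∀ f, f ∈ Subgroup.centralizer {AutPOmega.sa 1 σ} →
      MulAut.conj c f ∈ Subgroup.centralizer {AutPOmega.sa h σ} := by
    intro f hf
    rw [Subgroup.mem_centralizer_singleton_iff] at hf ⊢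
    rw [← hP, MulAut.conj_apply]
    calc c * f * c⁻¹ * (c * AutPOmega.sa 1 σ * c⁻¹) = c * (f * AutPOmega.sa 1 σ) * c⁻¹ := by group
      _ = c * (AutPOmega.sa 1 σ * f) * c⁻¹ := by rw [hf]
      _ = _ := by group
  have hinj : Function.Injective (MulAut.conj c).toMonoidHom := (MulAut.conj c).injective
  haveI := hs
  refine AutBalance.core_ne_bot_iff hcen A hinn hxA hord (L.map (MulAut.conj c).toMonoidHom) ?_ ?_ ?_ ?_ ?_
  · rintro _ ⟨l, hl, rfl⟩
    refine ⟨?_, hmap l (hL hl).2⟩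
    exact (Cfsg.innNormal _).conj_mem _ (hL hl).1 c
  · haveI : Nontrivial ↥(L.map (MulAut.conj c).toMonoidHom) :=
      (L.equivMapOfInjective _ hinj).symm.toEquiv.nontrivial
    exact IsSimpleGroup.isSimpleGroup_of_surjective (L.equivMapOfInjective _ hinj).toMonoidHom
      (L.equivMapOfInjective _ hinj).surjective
  · rintro f hf _ ⟨l, hl, rfl⟩
    refine ⟨c⁻¹ * f * c * l * (c⁻¹ * f * c)⁻¹, hn _ (hconj f hf) l hl, ?_⟩
    show c * (c⁻¹ * f * c * l * (c⁻¹ * f * c)⁻¹) * c⁻¹ = f * (c * l * c⁻¹) * f⁻¹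
    group
  · intro hdvd
    rw [Subgroup.card_map_of_injective hinj]
    refine hd ?_
    have e : ((MulAut.conj : _ →* MulAut (Cfsg.POmega F (Cfsg.quadFormOdd m F))).range ⊓
        Subgroup.centralizer {AutPOmega.sa 1 σ}).map (MulAut.conj c).toMonoidHom =
        (MulAut.conj : _ →* MulAut (Cfsg.POmega F (Cfsg.quadFormOdd m F))).range ⊓
        Subgroup.centralizer {AutPOmega.sa h σ} := by
      refine le_antisymm ?_ fun f hf => ?_
      · rintro _ ⟨f, hf, rfl⟩
        exact ⟨(Cfsg.innNormal _).conj_mem _ hf.1 c, hmap f hf.2⟩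
      · refine ⟨c⁻¹ * f * c, ⟨?_, hconj f hf.2⟩, ?_⟩
        · have := (Cfsg.innNormal _).conj_mem _ hf.1 c⁻¹
          rwa [inv_inv] at this
        · show c * (c⁻¹ * f * c) * c⁻¹ = f
          group
    rwa [← Subgroup.card_map_of_injective hinj, e]
  · intro f hf hfl
    have h1 := hc _ (hconj f hf) fun l hl => by
      have h := hfl _ (Subgroup.mem_map_of_mem _ hl)
      change f * (c * l * c⁻¹) = c * l * c⁻¹ * f at h
      calc c⁻¹ * f * c * l = c⁻¹ * (f * (c * l * c⁻¹)) * c := by group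
        _ = c⁻¹ * (c * l * c⁻¹ * f) * c := by rw [h]
        _ = _ := by group
    obtain ⟨k, hk⟩ := h1
    refine ⟨k, ?_⟩
    show AutPOmega.sa h σ ^ k = f
    rw [← hP, conj_zpow, show AutPOmega.sa 1 σ ^ k = c⁻¹ * f * c from hk]
    group

end Cfsg.Agent.S2731
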