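import Cfsg.Statements.S2733
import Cfsg.Agent.Lib.AutBalance.MinusField
import Cfsg.Agent.Lib.AutBalance.GraphOrth
import Cfsg.Agent.Lib.AutBalance.GraphQuad
-- import your own Cfsg.Agent.* helpers here

set_option autoImplicit false
open Cfsg
set_option maxHeartbeats 1600000

namespace Cfsg.Agent.S2733

open Cfsg.Agent Matrix

set_option maxHeartbeats 1600000 in
/-- A criterion for the failure of local balance in almost simple groups whose socle is a minus-type orthogonal group PΩ⁻_{2m+2}(F) (m ≥ 3; the form Σ xᵢ yᵢ + z₁² + a z₁ z₂ + b z₂² with anisotropic binary part). Let F be a finite field of characteristic r and K the (simple) group in question; let A be a group of automorphisms of K containing all inner automorphisms, and x ∈ A an automorphism of prime order p ≠ r that is not inner-diagonal (not induced by a class-preserving similarity, classes read over a quadratic extension). Then the largest normal subgroup of C_A(x) of order prime to p is nontrivial if and only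 if x is a field automorphism of K (conjugate under Aut(K) to a non-identity standard field automorphism) and p does not divide the number of fixed points of x on K. -/
theorem result {F : Type*} [Field F] [Fintype F] {r : ℕ} [Fact r.Prime] [CharP F r] {m : ℕ} (hm : 3 ≤ m) (a b : F) (hab : (∀ z₁ z₂ : F, z₁ ^ 2 + a * z₁ * z₂ + b * z₂ ^ 2 = 0 → z₁ = 0 ∧ z₂ = 0)) (hK : IsSimpleGroup (Cfsg.POmega F (Cfsg.quadFormMinus m F a b))) (A : Subgroup (MulAut (Cfsg.POmega F (Cfsg.quadFormMinus m F a b)))) (hinn : ∀ k : Cfsg.POmega F (Cfsg.quadFormMinus m F a b), MulAut.conj k ∈ A) {p : ℕ} [Fact p.Prime] (hpr : p ≠ r) (x : MulAut (Cfsg.POmega F (Cfsg.quadFormMinus m F a b))) (hxA : x ∈ A) (hord : orderOf x = p) (hnot : ¬ Cfsg.IsInnerDiagonalAutPOmegaMinus m a b x) :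
    Cfsg.pPrimeCore p ↥(A ⊓ Subgroup.centralizer {x}) ≠ ⊥ ↔ (Cfsg.IsFieldAutClassPOmegaMinus m x ∧ Nat.Coprime p (Nat.card ↥(MonoidHom.eqLocus x.toMonoidHom (MonoidHom.id (Cfsg.POmega F (Cfsg.quadFormMinus m F a b)))))) := by
  obtain ⟨g, τ, hg, rfl⟩ := AutPOmega.exists_semi (AutPOmega.geo_minus hab m) (by simp; omega) r (AutPOmega.hD_minus hab hm) x
  have h7 : 7 ≤ Fintype.card ((Fin m ⊕ Fin m) ⊕ Fin 2) := by simp; omega
  by_cases hτ : τ = 1
  swap
  · have hp2 : p ≠ 2 := by
      rintro rfl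
      have hodd : Odd (Fintype.card F) := Nat.odd_iff.2 (FiniteField.odd_card_of_char_ne_two
        fun h => hpr ((CharP.eq F (ringChar.of_eq h) ‹CharP F r›)))
      obtain ⟨g', hg', e⟩ := AutPOmega.minus_involution_linear' hodd hm hab
        (x := AutPOmega.semi g τ hg) ((pow_two _).symm.trans (orderOf_dvd_iff_pow_eq_one.1 hord.dvd))
      exact hτ (AutPOmega.semi_eq_semi (AutPOmega.geo_minus hab m) h7 _ _ e).1
    obtain ⟨hfield, hcrit⟩ := AutBalance.minus_field hm hab hp2 hg hord hτ A hinn hxA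
    rw [and_iff_right hfield]
    exact hcrit
  subst hτ
  -- the linear case is the graph automorphism of order two
  have hnP : ¬ Cfsg.PreservesSingularClassesMinus m a b (g : Matrix _ _ F) := fun hP =>
    hnot ⟨g, by
      obtain ⟨c, hc⟩ := hg
      exact ⟨c, fun v => hc v⟩, hP, AutPOmega.induced_semi hg⟩
  have hpar := AutPOmega.par_minus (m := m) hab hm
  have hgq : Cfsg.IsSemisimilarityPair (⇑(Cfsg.Agent.Orth.qMinus F m a b)) g 1 := by
    rw [Cfsg.Agent.Orth.coe_qMinus]; exact hg
  have hp2 : p = 2 := by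
    by_contra hp2
    obtain ⟨hG, e⟩ := AutPOmega.semi_pow hg p
    have h1 : AutPOmega.semi g 1 hg ^ p = 1 := by
      conv_lhs => rw [← hord]
      exact pow_orderOf_eq_one _
    obtain ⟨-, s, hs0, hs⟩ := AutPOmega.semi_eq_one_imp (AutPOmega.geo_minus hab m) h7 r hG (e.symm.trans h1)
    have htw : ∀ k, AutPOmega.tw (1 : F ≃+* F) g k = g ^ k := fun k => by
      induction k with
      | zero => rfl
      | succ k ih => rw [AutPOmega.tw, ih, AutPOmega.mapGL_one, pow_succ']
    have hPk : ∀ k, Cfsg.IsSemisimilarityPair (⇑(Cfsg.Agent.Orth.qMinus F m a b)) (g ^ k) 1 ∧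
        (Cfsg.PreservesSingularClassesMinus m a b ((g ^ k : GL _ F) : Matrix _ _ F) ↔ Even k) := fun k => by
      induction k with
      | zero => exact ⟨⟨1, fun v => by simp⟩, iff_of_true (by simpa using hpar.p_one) Even.zero⟩
      | succ k ih =>
        rw [pow_succ]
        refine ⟨AutPOmega.pair_mul ih.1 hgq, (hpar.p_mul _ _ ih.1 hgq).trans ?_⟩
        rw [ih.2, Nat.even_add_one, iff_false_right hnP]
    have hP : Cfsg.PreservesSingularClassesMinus m a b ((g ^ p : GL _ F) : Matrix _ _ F) := by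
      rw [← htw, AutPOmega.eq_scal (a := Units.mk0 s hs0) hs]
      exact hpar.p_scal _
    exact absurd ((Fact.out : p.Prime).odd_of_ne_two hp2) (Nat.not_odd_iff_even.2 ((hPk p).2.1 hP))
  subst hp2
  have hodd : Odd (Fintype.card F) := Nat.odd_iff.2 (FiniteField.odd_card_of_char_ne_two
    fun h => hpr ((CharP.eq F (ringChar.of_eq h) ‹CharP F r›)))
  have h2 := Cfsg.Agent.Orth.two_ne_zero_of_odd hodd
  refine iff_of_false (not_not.2 ?_) fun hfc => ?_
  swap
  · obtain ⟨_, _, _, _, _, _, _, _, _, -, hodd2, -⟩ :=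
      AutPOmega.exists_semi_of_classMinus hm hab hfc.1 Nat.prime_two hord
    exact absurd hodd2 (by decide)
  have hgen : ∀ (R : ((Fin m ⊕ Fin m) ⊕ Fin 2 → F) → F), ⇑(Cfsg.Agent.Orth.qMinus F m a b) = R →
      ∀ (hg : Cfsg.IsSemisimilarityPair R g 1) (A : Subgroup (MulAut (Cfsg.POmega F R))),
      (∀ β : MulAut (Cfsg.POmega F R), ∃ (h : GL ((Fin m ⊕ Fin m) ⊕ Fin 2) F) (τ : F ≃+* F)
        (hh : Cfsg.IsSemisimilarityPair R h τ), β = AutPOmega.semi h τ hh) →
      (∀ k : Cfsg.POmega F R, MulAut.conj k ∈ A) → orderOf (AutPOmega.semi g 1 hg) = 2 →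
      Cfsg.pPrimeCore 2 ↥(A ⊓ Subgroup.centralizer {AutPOmega.semi g 1 hg}) = ⊥ := by
    rintro R rfl hg A hext hinn hord
    have hq := Cfsg.Agent.Orth.qMinus_nondeg hab m
    have hE := AutPOmega.evenType_minus hab h2 hm
    have h1 : AutPOmega.semi g 1 hg ^ 2 = 1 := orderOf_dvd_iff_pow_eq_one.1 hord.dvd
    rw [pow_two, AutPOmega.semi_mul_one] at h1
    obtain ⟨-, l₀, hl0, hl⟩ := AutPOmega.semi_eq_one_imp hE.geo h7 r _ h1
    have hgg : g * g = AutPOmega.scal (Units.mk0 l₀ hl0) := AutPOmega.eq_scal hl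
    obtain ⟨μ, hμ⟩ := id hg
    have hcard : Fintype.card ((Fin m ⊕ Fin m) ⊕ Fin 2) = 2 * (m + 1) := by simp; ring
    rcases hE.improper_shape hcard (AutPOmega.det_minus hab) hμ hnP hgg with
      ⟨s, g', rfl, hsq, hiso, ha, hb⟩ | ⟨hns, rfl, hk⟩
    · have hg' : Cfsg.IsSemisimilarityPair (⇑(Cfsg.Agent.Orth.qMinus F m a b)) g' 1 := ⟨1, fun v => by
        rw [Units.val_one, one_mul]; exact hiso v⟩
      have e : AutPOmega.semi (AutPOmega.scal s * g') 1 hg = AutPOmega.semi g' 1 hg' := by
        have e3 := AutPOmega.semi_mul_one (AutPOmega.isPair_scal (q := Cfsg.Agent.Orth.qMinus F m a b) s) hg'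
        rw [AutPOmega.semi_scal, one_mul] at e3
        exact e3.symm
      rw [e]
      exact AutBalance.graph_core_bot hq h7 (l := 1) (hsq.trans (map_one _).symm) hg' hext A hinn
        (fun M => AutBalance.orth_sq_one hq h2 hsq hiso (by omega) ha hb M)
        (fun h τ hh _ hc => AutBalance.orth_semi_scalar hq h2 hsq hiso (by omega) ha hb hh hc)
    · have hk5 : 5 ≤ m + 1 := by obtain ⟨i, hi⟩ := hk; omega
      obtain ⟨hA, hB⟩ := AutBalance.quad_data hq h2 hns hgg (fun v => hμ v) hcard hk5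
      exact AutBalance.graph_core_bot hq h7 hgg hg hext A hinn (fun M hn hi _ _ => hA M hn hi) hB
  exact hgen _ (Cfsg.Agent.Orth.coe_qMinus m a b) hg A
    (fun β => AutPOmega.exists_semi (AutPOmega.geo_minus hab m) h7 r (AutPOmega.hD_minus hab hm) β) hinn hord

end Cfsg.Agent.S2733
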