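import Cfsg.Statements.S2736
import Cfsg.Agent.Lib.AutPOmega.EvenClasses

set_option autoImplicit false
open Cfsg

namespace Cfsg.Agent.S2736

open Cfsg.Agent.AutPOmega Matrix

/-- Let T = PΩ⁺_{2m}(F) with m ≥ 5 (dimension ≠ 8) and x a field automorphism or a graph-field automorphism of T of prime order r. Then an element y of the coset Inndiag(T)·x (y = δ x with δ induced by a class-preserving similarity) has order r if and only if y is conjugate to x by an element of Inndiag(T). -/
theorem result {F : Type*} [Field F] [Fintype F] {m : ℕ} (hm : 5 ≤ m) (x δ : MulAut (Cfsg.POmega F (Cfsg.quadFormPlus m F))) (hx : Cfsg.IsFieldAutClassPOmega (Cfsg.quadFormPlus m F) x ∨ Cfsg.IsGraphFieldAutClassPOmegaPlus m x) {r : ℕ} (hr : r.Prime) (hxr : orderOf x = r) (hδ : δ ∈ Cfsg.inndiagPOmegaPlus m F) :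
    orderOf (δ * x) = r ↔ Cfsg.IsConjUnder (Cfsg.inndiagPOmegaPlus m F) x (δ * x) := by
  constructor
  · intro hord
    obtain ⟨g, σ, hg, rfl, ho, hg1⟩ := exists_semi_of_class hm hx hr hxr
    obtain ⟨d, hd, hdP, rfl⟩ := mem_inndiag_plus.1 hδ
    have hg' : Cfsg.IsSemisimilarityPair (Cfsg.quadFormPlus m F) (d * g) σ := by
      have := isPair_comp hd hg
      simpa [mapGL_one] using this
    have e : semi d 1 hd * semi g σ hg = semi (d * g) σ hg' := by
      rw [semi_mul]
      exact semi_congr _ _ (by rw [mapGL_one]) (one_mul σ)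
    rw [e] at hord ⊢
    refine plus_coset_conj (by omega) hg hg' (by rw [ho, ← hxr, pow_orderOf_eq_one])
      (by rw [ho, ← hord, pow_orderOf_eq_one]) ?_
    rw [presP_mul hd hg1]
    exact (iff_iff_eq.2 (by simp [hdP]))
  · rintro ⟨h, -, hy⟩
    rw [hy, ← hxr]
    exact (MulAut.conj h).orderOf_eq _

end Cfsg.Agent.S2736
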