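import Cfsg.Statements.S2737
import Cfsg.Agent.Lib.AutPOmega.EvenClasses

set_option autoImplicit false
open Cfsg

namespace Cfsg.Agent.S2737

open Cfsg.Agent.AutPOmega Matrix

/-- Let T = PΩ⁻_{2m+2}(F) (m ≥ 3; form with anisotropic binary part) and x a field automorphism of T of prime order r. Then an element y of the coset Inndiag(T)·x has order r if and only if y is conjugate to x by an element of Inndiag(T). (T has no graph-field automorphisms.) -/
theorem result {F : Type*} [Field F] [Fintype F] {m : ℕ} (hm : 3 ≤ m) (a b : F) (hab : (∀ z₁ z₂ : F, z₁ ^ 2 + a * z₁ * z₂ + b * z₂ ^ 2 = 0 → z₁ = 0 ∧ z₂ = 0)) (x δ : MulAut (Cfsg.POmega F (Cfsg.quadFormMinus m F a b))) (hx : Cfsg.IsFieldAutClassPOmegaMinus m x) {r : ℕ} (hr : r.Prime) (hxr : orderOf x = r) (hδ : δ ∈ Cfsg.inndiagPOmegaMinus m F a b) :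
    orderOf (δ * x) = r ↔ Cfsg.IsConjUnder (Cfsg.inndiagPOmegaMinus m F a b) x (δ * x) := by
  constructor
  · intro hord
    obtain ⟨a', b', hab', σ, ha, hb, Ψ, g, hg, ho, -, hgx, hΨ⟩ := exists_semi_of_classMinus hm hab hx hr hxr
    obtain ⟨d, hd, hdP, hδ'⟩ := (mem_inndiag_minus hab').1 ((hΨ δ).2 hδ)
    have hg' : Cfsg.IsSemisimilarityPair (Cfsg.quadFormMinus m F a' b') (d * g) σ := by
      have := isPair_comp hd hg
      simpa [mapGL_one] using this
    have e : MulAut.congr Ψ (δ * x) = semi (d * g) σ hg' := by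
      rw [map_mul, hgx, hδ', semi_mul]
      exact semi_congr _ _ (by rw [mapGL_one]) (one_mul σ)
    have h1 : semi g σ hg ^ orderOf σ = 1 := by rw [ho, ← hgx, ← map_pow, ← hxr, pow_orderOf_eq_one, map_one]
    have h2 : semi (d * g) σ hg' ^ orderOf σ = 1 := by
      rw [ho, ← e, ← map_pow, ← hord, pow_orderOf_eq_one, map_one]
    obtain ⟨N, hN, hNe⟩ := minus_coset_conj hm hab' ha hb hg hg' h1 h2
    rw [← e, ← hgx] at hNe
    refine ⟨(MulAut.congr Ψ).symm N, (hΨ _).1 (by rw [MulEquiv.apply_symm_apply]; exact hN), ?_⟩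
    apply (MulAut.congr Ψ).injective
    simp only [map_mul, map_inv, MulEquiv.apply_symm_apply] at hNe ⊢
    exact hNe
  · rintro ⟨h, -, hy⟩
    rw [hy, ← hxr]
    exact (MulAut.conj h).orderOf_eq _

end Cfsg.Agent.S2737
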