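import Cfsg.Statements.S2738
import Cfsg.Agent.Lib.Classical.SL

set_option autoImplicit false
open Cfsg
open scoped commutatorElement

namespace Cfsg.Agent.S2738

/-- The special linear group SL(3, 4) has centre of order 3 and does not split over it: no subgroup is a complement to the centre (so SL(3, 4) is a non-split central extension of PSL(3, 4) by a group of order 3). -/
theorem result (F : Type*) [Field F] [Fintype F] (hF : Fintype.card F = 4) : Nat.card ↥(Subgroup.center (Matrix.SpecialLinearGroup (Fin 3) F)) = 3 ∧ ¬ ∃ K : Subgroup (Matrix.SpecialLinearGroup (Fin 3) F), Subgroup.IsComplement' (Subgroup.center (Matrix.SpecialLinearGroup (Fin 3) F)) K := by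
  classical
  have hcard : Nat.card ↥(Subgroup.center (Matrix.SpecialLinearGroup (Fin 3) F)) = 3 := by
    rw [ClassicalSL.card_center_sl, Fintype.card_fin, Nat.card_eq_fintype_card, hF]
    rfl
  refine ⟨hcard, ?_⟩
  rintro ⟨K, hK⟩
  obtain ⟨Z, hZ⟩ : ∃ Z, Subgroup.center (Matrix.SpecialLinearGroup (Fin 3) F) = Z := ⟨_, rfl⟩
  rw [hZ] at hK hcard
  have hc : ∀ z ∈ Z, ∀ g, g * z = z * g := fun z hz g =>
    Subgroup.mem_center_iff.mp (hZ ▸ hz) g
  -- `K` is normal with abelian quotient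
  have hKn : K.Normal := ⟨fun k hk g => by
    obtain ⟨⟨z, k'⟩, rfl⟩ := hK.surjective g
    rw [mul_inv_rev]
    have hz := hc z z.2 ((k' : Matrix.SpecialLinearGroup (Fin 3) F) * k * (k' : Matrix.SpecialLinearGroup (Fin 3) F)⁻¹)
    have : (z : Matrix.SpecialLinearGroup (Fin 3) F) * k' * k * ((k' : Matrix.SpecialLinearGroup (Fin 3) F)⁻¹ * (z : Matrix.SpecialLinearGroup (Fin 3) F)⁻¹) =
        (k' : Matrix.SpecialLinearGroup (Fin 3) F) * k * (k' : Matrix.SpecialLinearGroup (Fin 3) F)⁻¹ := by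
      rw [show (z : Matrix.SpecialLinearGroup (Fin 3) F) * k' * k * ((k' : Matrix.SpecialLinearGroup (Fin 3) F)⁻¹ * (z : Matrix.SpecialLinearGroup (Fin 3) F)⁻¹) =
        (z : Matrix.SpecialLinearGroup (Fin 3) F) * (k' * k * (k' : Matrix.SpecialLinearGroup (Fin 3) F)⁻¹) * (z : Matrix.SpecialLinearGroup (Fin 3) F)⁻¹ by group,
        ← hz, mul_inv_cancel_right]
    rw [this]
    exact K.mul_mem (K.mul_mem k'.2 hk) (K.inv_mem k'.2)⟩
  have hperf := ClassicalSL.isPerfect_sl (ι := Fin 3) (F := F) (by simp)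
  have hle : commutator (Matrix.SpecialLinearGroup (Fin 3) F) ≤ K := by
    rw [commutator_eq_closure, Subgroup.closure_le]
    rintro _ ⟨g, h, rfl⟩
    obtain ⟨⟨z, k⟩, rfl⟩ := hK.surjective g
    obtain ⟨⟨w, l⟩, rfl⟩ := hK.surjective h
    have : ⁅(z : Matrix.SpecialLinearGroup (Fin 3) F) * k, (w : Matrix.SpecialLinearGroup (Fin 3) F) * l⁆ =
        ⁅(k : Matrix.SpecialLinearGroup (Fin 3) F), (l : Matrix.SpecialLinearGroup (Fin 3) F)⁆ := by
      simp only [commutatorElement_def, mul_inv_rev]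
      have h1 := fun g => hc z z.2 g
      have h2 := fun g => hc w w.2 g
      calc (z : Matrix.SpecialLinearGroup (Fin 3) F) * k * (w * l) * ((k : Matrix.SpecialLinearGroup (Fin 3) F)⁻¹ * (z : Matrix.SpecialLinearGroup (Fin 3) F)⁻¹) * ((l : Matrix.SpecialLinearGroup (Fin 3) F)⁻¹ * (w : Matrix.SpecialLinearGroup (Fin 3) F)⁻¹)
          = ((z : Matrix.SpecialLinearGroup (Fin 3) F) * (k * w * l * (k : Matrix.SpecialLinearGroup (Fin 3) F)⁻¹)) * (z : Matrix.SpecialLinearGroup (Fin 3) F)⁻¹ * ((l : Matrix.SpecialLinearGroup (Fin 3) F)⁻¹ * (w : Matrix.SpecialLinearGroup (Fin 3) F)⁻¹) := by group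
        _ = k * w * (l * (k : Matrix.SpecialLinearGroup (Fin 3) F)⁻¹ * (l : Matrix.SpecialLinearGroup (Fin 3) F)⁻¹) * (w : Matrix.SpecialLinearGroup (Fin 3) F)⁻¹ := by
            rw [← h1, mul_inv_cancel_right]; group
        _ = k * ((w : Matrix.SpecialLinearGroup (Fin 3) F) * (l * (k : Matrix.SpecialLinearGroup (Fin 3) F)⁻¹ * (l : Matrix.SpecialLinearGroup (Fin 3) F)⁻¹)) * (w : Matrix.SpecialLinearGroup (Fin 3) F)⁻¹ := by
            group
        _ = _ := by rw [← h2 (l * (k : Matrix.SpecialLinearGroup (Fin 3) F)⁻¹ * (l : Matrix.SpecialLinearGroup (Fin 3) F)⁻¹)]; group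
    show _ ∈ K
    rw [this]
    exact K.mul_mem (K.mul_mem (K.mul_mem k.2 l.2) (K.inv_mem k.2)) (K.inv_mem l.2)
  rw [hperf, top_le_iff] at hle
  have hbot : Z = ⊥ := by
    have := hK.disjoint
    rwa [hle, disjoint_top] at this
  rw [hbot, Subgroup.card_bot] at hcard
  omega

end Cfsg.Agent.S2738
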