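import Cfsg.Statements.S2739
import Cfsg.Agent.Lib.LinearBlock.PSL34

set_option autoImplicit false
open scoped Pointwise
open Cfsg

namespace Cfsg.Agent.S2739

/-- In the projective special linear group PSL(3, 4) all subgroups of order 3 are conjugate. -/
theorem result (F : Type*) [Field F] [Fintype F] (hF : Fintype.card F = 4) (X Y : Subgroup (Matrix.ProjectiveSpecialLinearGroup (Fin 3) F)) (hX : Nat.card ↥X = 3) (hY : Nat.card ↥Y = 3) : ∃ g : Matrix.ProjectiveSpecialLinearGroup (Fin 3) F, MulAut.conj g • X = Y := by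
  haveI : Fact (Nat.Prime 3) := ⟨Nat.prime_three⟩
  obtain ⟨u, hu⟩ := exists_prime_orderOf_dvd_card' (G := X) 3 (by rw [hX])
  obtain ⟨v, hv⟩ := exists_prime_orderOf_dvd_card' (G := Y) 3 (by rw [hY])
  rw [← Subgroup.orderOf_coe] at hu hv
  obtain ⟨g, hg⟩ := isConj_iff.1 (LinearBlock.PSL34.isConj_order_three hF _ _ hu hv)
  refine ⟨g, ?_⟩
  have hXz : Subgroup.zpowers (u : Matrix.ProjectiveSpecialLinearGroup (Fin 3) F) = X :=
    Subgroup.eq_of_le_of_card_ge (Subgroup.zpowers_le.2 u.2) (by rw [Nat.card_zpowers, hu, hX])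
  have hYz : Subgroup.zpowers (v : Matrix.ProjectiveSpecialLinearGroup (Fin 3) F) = Y :=
    Subgroup.eq_of_le_of_card_ge (Subgroup.zpowers_le.2 v.2) (by rw [Nat.card_zpowers, hv, hY])
  rw [← hXz, ← hYz, Subgroup.pointwise_smul_def]
  refine (MonoidHom.map_zpowers _ _).trans ?_
  exact congrArg Subgroup.zpowers hg

end Cfsg.Agent.S2739

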