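import Cfsg.Statements.S2751
import Cfsg.Agent.Lib.Pair33.Bound
import Cfsg.Agent.Lib.Pair33.Bridge
import Cfsg.Agent.Lib.Pair33.Completion

set_option autoImplicit false
open Cfsg

namespace Cfsg.Agent.S2751

/-- Goldschmidt's bound for amalgams of index (3, 3): let M₁ and M₂ be finite subgroups of a group G such that M₁ ⊓ M₂ is a Sylow 2-subgroup of both M₁ and M₂, each quotient Mᵢ / O₂(Mᵢ) is isomorphic to the symmetric group of degree 3, and no nontrivial subgroup of M₁ ⊓ M₂ is normal in both M₁ and M₂. Then M₁ ⊓ M₂ has order at most 2^7. -/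
theorem result {G : Type*} [Group G] (M₁ M₂ : Subgroup G) [Finite M₁] [Finite M₂] (ha₁ : ∃ P : Sylow 2 M₁, (P : Subgroup M₁) = (M₁ ⊓ M₂).subgroupOf M₁) (ha₂ : ∃ P : Sylow 2 M₂, (P : Subgroup M₂) = (M₁ ⊓ M₂).subgroupOf M₂) (hb₁ : Nonempty (M₁ ⧸ Cfsg.pCore 2 M₁ ≃* Equiv.Perm (Fin 3))) (hb₂ : Nonempty (M₂ ⧸ Cfsg.pCore 2 M₂ ≃* Equiv.Perm (Fin 3))) (hc : ∀ N : Subgroup G, N ≤ M₁ ⊓ M₂ → (N.subgroupOf M₁).Normal → (N.subgroupOf M₂).Normal → N = ⊥) : Nat.card ↥(M₁ ⊓ M₂) ≤ 2 ^ 7 := by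
  haveI hfin : ∀ b, Finite ↥(bif b then M₁ else M₂ : Subgroup G) :=
    Bool.forall_bool.2 ⟨inferInstanceAs (Finite ↥M₂), inferInstanceAs (Finite ↥M₁)⟩
  have A : Pair33.Pair (M₁ ⊓ M₂) (fun b => bif b then M₁ else M₂)
      (fun b => Cfsg.pCoreOf 2 (bif b then M₁ else M₂)) :=
    Pair33.pair_of (Bool.forall_bool.2 ⟨inf_le_right, inf_le_left⟩)
      (Bool.forall_bool.2 ⟨ha₂, ha₁⟩) (Bool.forall_bool.2 ⟨hb₂, hb₁⟩) fun N hN h =>
        hc N hN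
          ((Subgroup.normal_subgroupOf_iff_le_normalizer (hN.trans inf_le_left)).2 (h true))
          ((Subgroup.normal_subgroupOf_iff_le_normalizer (hN.trans inf_le_right)).2 (h false))
  obtain ⟨Γ, _, _, T', P', Q', A', hcard, -⟩ := Pair33.exists_model A
  rw [← hcard]
  exact A'.bound

end Cfsg.Agent.S2751
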