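import Cfsg.Statements.S2752
import Cfsg.Agent.Lib.TwoF.Linear
import Cfsg.Agent.Lib.Transfer.Basic

set_option autoImplicit false
universe u
open Cfsg

namespace Cfsg.Agent.S2752

open Cfsg.Agent.S3Free

/-- Let M be an elementary abelian 2-subgroup of a finite group L and G a subgroup of L acting faithfully on M by conjugation (G normalizes M and meets C(M) trivially). Assume O₂(G) = 1, the symmetric group of degree 3 is not involved in G, and every non-abelian composition factor of G is a Suzuki group Sz(2^(2n+1)) or a group PSL₂(3^(2n+1)). Then every elementary abelian 2-subgroup A of G satisfies |M / C_M(A)| ≥ |A|² and |[M, A]| ≥ |A|². -/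
theorem result {L : Type u} [Group L] [Finite L] (M G : Subgroup L) (hM : Cfsg.IsElementaryAbelian 2 M) (hGM : G ≤ Subgroup.normalizer (M : Set L)) (hf : G ⊓ Subgroup.centralizer (M : Set L) = ⊥) (ha : Cfsg.pCore 2 ↥G = ⊥) (hb : ¬ Cfsg.Involves (Equiv.Perm (Fin 3)) ↥G) (hc : Cfsg.IsCompositionKGroupWith Cfsg.IsSuzukiOrPSL2OddPowerThree ↥G) (A : Subgroup L) (hA : A ≤ G) (hAe : Cfsg.IsElementaryAbelian 2 A) : Nat.card A ^ 2 * Nat.card ↥(M ⊓ Subgroup.centralizer (A : Set L)) ≤ Nat.card M ∧ Nat.card A ^ 2 ≤ Nat.card ↥⁅M, A⁆ := by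
  classical
  have hno : NoTwo ↥G := fun N hN hp => le_bot_iff.1 ((PBasic.le_pCore hN hp).trans ha.le)
  have h3 := TwoF.noS3_of_free hb
  let φ : ↥G →* MulAut M := M.normalizerMonoidHom.comp (Subgroup.inclusion hGM)
  have hφapp : ∀ (g : ↥G) (v : M), (φ g v : L) = (g : L) * v * (g : L)⁻¹ := fun g v => rfl
  have hφ : Function.Injective φ := (injective_iff_map_eq_one φ).2 fun g hg => by
    have h : (g : L) ∈ G ⊓ Subgroup.centralizer (M : Set L) := by
      refine ⟨g.2, Subgroup.mem_centralizer_iff.2 fun v hv => ?_⟩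
      have h1 := hφapp g ⟨v, hv⟩
      rw [hg, MulAut.one_apply] at h1
      exact (mul_inv_eq_iff_eq_mul.1 h1.symm).symm
    rw [hf, Subgroup.mem_bot] at h
    exact Subtype.ext h
  have hM2 : ∀ v : M, v * v = 1 := fun v => Subtype.ext (by
    have := hM.2 v v.2
    rwa [pow_two] at this)
  have hAel : El (A.subgroupOf G) := fun a ha' => Subtype.ext (by
    have := hAe.2 _ (Subgroup.mem_subgroupOf.1 ha')
    rwa [pow_two] at this)
  obtain ⟨h1, h2⟩ := TwoF.action_bounds hno h3 (TwoF.factorPred_of_kGroup hc) hM2 φ hφ _ hAel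
  rw [Nat.card_congr (Subgroup.subgroupOfEquivOfLe hA).toEquiv] at h1 h2
  refine ⟨le_trans (Nat.mul_le_mul_left _ (le_of_eq (Nat.card_congr ?_))) h1, h2.trans ?_⟩
  · exact {
      toFun := fun v => ⟨⟨v, v.2.1⟩, fun a ha' => Subtype.ext (by
        rw [hφapp]
        exact mul_inv_eq_iff_eq_mul.2
          (Subgroup.mem_centralizer_iff.1 v.2.2 _ (Subgroup.mem_subgroupOf.1 ha')))⟩
      invFun := fun v => ⟨((v : M) : L), (v : M).2, Subgroup.mem_centralizer_iff.2 fun a ha' => by
        have h := congrArg Subtype.val (v.2 ⟨a, hA ha'⟩ (Subgroup.mem_subgroupOf.2 ha'))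
        rw [hφapp] at h
        exact mul_inv_eq_iff_eq_mul.1 h⟩
      left_inv := fun _ => rfl
      right_inv := fun _ => rfl }
  · refine Nat.card_le_card_of_injective (fun w => (⟨((w : M) : L), ?_⟩ : ↥⁅M, A⁆))
      fun w w' h => Subtype.ext (Subtype.ext (congrArg (fun z : ↥⁅M, A⁆ => (z : L)) h))
    refine (Subgroup.closure_le (⁅M, A⁆.comap M.subtype)).2 ?_ w.2
    rintro _ ⟨a, ha', v, rfl⟩
    show ((φ a v * v⁻¹ : M) : L) ∈ ⁅M, A⁆
    rw [Subgroup.coe_mul, Subgroup.coe_inv, hφapp, Subgroup.commutator_comm]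
    exact Subgroup.commutator_mem_commutator (Subgroup.mem_subgroupOf.1 ha') v.2

end Cfsg.Agent.S2752
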