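import Cfsg.Prelude.Def_LocalEven
import Cfsg.Prelude.Def_Local
import Cfsg.Agent.Lib.TwoF.EGroupCentral
import Cfsg.Agent.Lib.TwoF.EGroupMoved
import Cfsg.Agent.Lib.TwoF.EGroupDef
import Cfsg.Agent.Lib.S3Free.TwoFactor

set_option autoImplicit false
set_option linter.unusedSectionVars false
set_option linter.style.haveILetI false
universe u

namespace Cfsg.Agent.S2753

open Cfsg.Agent.S3Free Cfsg.Agent.EGrp
open scoped commutatorElement

variable {G : Type u} [Group G] [Finite G]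

/-- A normal subgroup of a constrained group is constrained. -/
theorem constrained_normal (hC : Subgroup.centralizer (Cfsg.pCore 2 G : Set G) ≤ Cfsg.pCore 2 G)
    (N : Subgroup G) [N.Normal] :
    Subgroup.centralizer (Cfsg.pCore 2 ↥N : Set ↥N) ≤ Cfsg.pCore 2 ↥N := by
  haveI : Fact (Nat.Prime 2) := ⟨Nat.prime_two⟩
  haveI := Cfsg.pCore_normal 2 G
  set Q := Cfsg.pCore 2 G with hQ
  set D := N ⊓ Subgroup.centralizer ((Q ⊓ N : Subgroup G) : Set G) with hD
  have hQN : (Q.subgroupOf N) ≤ Cfsg.pCore 2 ↥N :=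
    PBasic.le_pCore Subgroup.normal_subgroupOf
      ((PBasic.pCore_isPGroup 2 G).comap_of_injective N.subtype N.subtype_injective)
  haveI : (Q ⊓ N).Normal := Subgroup.normal_inf_normal _ _
  haveI : D.Normal := Subgroup.normal_inf_normal _ _
  have hDQ : D ≤ Q := by
    refine PBasic.le_pCore inferInstance (IsPGroup.of_card (n := (Nat.card D).primeFactorsList.length) ?_)
    refine Nat.eq_prime_pow_of_unique_prime_dvd Nat.card_pos.ne' fun {p} hp hdvd => ?_
    by_contra hp2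
    haveI := Fact.mk hp
    obtain ⟨a, ha⟩ := exists_prime_orderOf_dvd_card' p hdvd
    have hord : orderOf (a : G) = p := by rw [← ha, Subgroup.orderOf_coe]
    obtain ⟨m, hm⟩ := hp.odd_of_ne_two hp2
    have haQ : (a : G) ∈ Subgroup.centralizer (Q : Set G) := by
      refine Subgroup.mem_centralizer_iff.2 fun q hq => ?_
      have hcQ : q⁻¹ * ((a : G) * q * (a : G)⁻¹) ∈ Q :=
        Q.mul_mem (Q.inv_mem hq) ((Cfsg.pCore_normal 2 G).conj_mem q hq a)
      have hcN : q⁻¹ * ((a : G) * q * (a : G)⁻¹) ∈ N := by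
        rw [show q⁻¹ * ((a : G) * q * (a : G)⁻¹) = (q⁻¹ * (a : G) * q) * (a : G)⁻¹ by group]
        exact N.mul_mem (by simpa using (‹N.Normal›).conj_mem _ a.2.1 q⁻¹) (N.inv_mem a.2.1)
      obtain ⟨k, hk⟩ := PBasic.pCore_isPGroup 2 G ⟨_, hcQ⟩
      have h1 := shift_eq_one (o := (a : G)) (r := q) (hord.trans hm) ⟨k, congrArg Subtype.val hk⟩
        (by group) (by
          have h2 := Subgroup.mem_centralizer_iff.1 a.2.2 _ ⟨hcQ, hcN⟩
          rw [← h2, mul_inv_cancel_right])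
      rw [inv_mul_eq_one, eq_mul_inv_iff_mul_eq] at h1
      exact h1
    obtain ⟨k, hk⟩ := PBasic.pCore_isPGroup 2 G ⟨(a : G), hC haQ⟩
    have h1 : p ∣ 2 ^ k := hord ▸ orderOf_dvd_of_pow_eq_one (congrArg Subtype.val hk)
    exact hp2 ((Nat.prime_dvd_prime_iff_eq hp Nat.prime_two).1 (hp.dvd_of_dvd_pow h1))
  intro x hx
  refine hQN (hDQ ⟨x.2, Subgroup.mem_centralizer_iff.2 fun q hq => ?_⟩)
  exact congrArg Subtype.val
    (Subgroup.mem_centralizer_iff.1 hx ⟨q, hq.2⟩ (hQN (show q ∈ Q from hq.1)))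

/-- The subgroup `Ω₁` of the closure of the centre of a Sylow subgroup and the reduced action on it. -/
theorem reduced (hC : Subgroup.centralizer (Cfsg.pCore 2 G : Set G) ≤ Cfsg.pCore 2 G) (S : Sylow 2 G) :
    ∃ (V : Subgroup G) (_ : V.Normal), V ≤ (S : Subgroup G) ∧ (∀ x ∈ V, ∀ y ∈ V, x * y = y * x) ∧
      (∀ x ∈ V, x * x = 1) ∧ NoTwo (G ⧸ Subgroup.centralizer (V : Set G)) ∧
      Subgroup.centralizer (V : Set G) ≤
        Subgroup.centralizer (((S : Subgroup G) ⊓ Subgroup.centralizer ((S : Subgroup G) : Set G) : Subgroup G) : Set G) := by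
  classical
  haveI : Fact (Nat.Prime 2) := ⟨Nat.prime_two⟩
  set Q := Cfsg.pCore 2 G with hQ
  haveI hQn : Q.Normal := Cfsg.pCore_normal 2 G
  have hQS : Q ≤ (S : Subgroup G) := PBasic.pCore_le_sylow S
  set Z := (S : Subgroup G) ⊓ Subgroup.centralizer ((S : Subgroup G) : Set G) with hZ
  set ZQ := Q ⊓ Subgroup.centralizer (Q : Set G) with hZQ
  haveI : ZQ.Normal := Subgroup.normal_inf_normal _ _
  set V' := Subgroup.normalClosure (Z : Set G) with hV'
  have hV'Q : V' ≤ ZQ := Subgroup.normalClosure_le_normal fun z hz => by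
    have h := Subgroup.centralizer_le (show (Q : Set G) ⊆ (S : Subgroup G) from hQS) hz.2
    exact ⟨hC h, h⟩
  have hV'c : ∀ x ∈ V', ∀ y ∈ V', x * y = y * x := fun x hx y hy =>
    Subgroup.mem_centralizer_iff.1 (hV'Q hy).2 x (hV'Q hx).1
  let V : Subgroup G :=
    { carrier := {x | x ∈ V' ∧ x * x = 1}
      one_mem' := ⟨V'.one_mem, one_mul 1⟩
      mul_mem' := fun {a b} ha hb => ⟨V'.mul_mem ha.1 hb.1, by
        rw [show a * b * (a * b) = a * (b * a) * b by group, hV'c b hb.1 a ha.1,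
          show a * (a * b) * b = (a * a) * (b * b) by group, ha.2, hb.2, one_mul]⟩
      inv_mem' := fun {a} ha => ⟨V'.inv_mem ha.1, by rw [← mul_inv_rev, ha.2, inv_one]⟩ }
  haveI hVn : V.Normal := ⟨fun v hv g => ⟨(Subgroup.normalClosure_normal).conj_mem v hv.1 g, by
    rw [show g * v * g⁻¹ * (g * v * g⁻¹) = g * (v * v) * g⁻¹ by group, hv.2]; group⟩⟩
  set C' := Subgroup.centralizer (V' : Set G) with hC'
  set C := Subgroup.centralizer (V : Set G) with hCdef
  have hC'C : C' ≤ C := Subgroup.centralizer_le (fun x (hx : x ∈ V) => hx.1)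
  set π := QuotientGroup.mk' C with hπ
  haveI : (Cfsg.pCore 2 (G ⧸ C)).Normal := Cfsg.pCore_normal 2 _
  set R := (Cfsg.pCore 2 (G ⧸ C)).comap π with hR
  haveI : R.Normal := Subgroup.Normal.comap inferInstance π
  have hCR : C ≤ R := by
    intro c hc
    rw [hR, Subgroup.mem_comap, hπ, QuotientGroup.mk'_apply, (QuotientGroup.eq_one_iff c).2 hc]
    exact Subgroup.one_mem _
  -- `C(V)` acts on `V'` as a `2`-group
  have hkill : ∀ w ∈ C, Odd (orderOf w) → w ∈ C' := by
    intro w hw hodd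
    obtain ⟨m, hm⟩ := hodd
    refine Subgroup.mem_centralizer_iff.2 fun v hv => ?_
    obtain ⟨k, hk⟩ := PBasic.pCore_isPGroup 2 G ⟨v, (hV'Q hv).1⟩
    have hk' : v ^ 2 ^ k = 1 := congrArg Subtype.val hk
    clear hk
    induction k generalizing v with
    | zero => rw [pow_zero, pow_one] at hk'; rw [hk']; simp
    | succ k ih =>
      have h2 : v ^ 2 ∈ V' := V'.pow_mem hv 2
      have hfix := ih (v ^ 2) h2 (by rw [← pow_mul, ← pow_succ']; exact hk')
      set c := v⁻¹ * (w * v * w⁻¹) with hc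
      have hwv : w * v * w⁻¹ ∈ V' := Subgroup.normalClosure_normal.conj_mem v hv w
      have hcV' : c ∈ V' := V'.mul_mem (V'.inv_mem hv) hwv
      have hc1 : c * c = 1 := by
        calc c * c = v⁻¹ * ((w * v * w⁻¹) * v⁻¹) * (w * v * w⁻¹) := by rw [hc]; group
          _ = v⁻¹ * (v⁻¹ * (w * v * w⁻¹)) * (w * v * w⁻¹) := by rw [hV'c _ hwv _ (V'.inv_mem hv)]
          _ = (v ^ 2)⁻¹ * (w * v ^ 2 * w⁻¹) := by rw [pow_two]; group
          _ = 1 := by rw [← hfix, mul_inv_cancel_right, inv_mul_cancel]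
      have h1 := shift_eq_one (o := w) (r := v) hm ⟨1, by rw [pow_one, pow_two, hc1]⟩
        (by rw [hc, mul_inv_cancel_left])
        (by rw [← Subgroup.mem_centralizer_iff.1 hw c ⟨hcV', hc1⟩, mul_inv_cancel_right])
      rw [hc, inv_mul_eq_one, eq_mul_inv_iff_mul_eq] at h1
      exact h1
  obtain ⟨P₁, hP₁⟩ := PBasic.exists_sylow_subgroupOf S R
  set T := (S : Subgroup G) ⊓ R with hT
  have hmap : (P₁ : Subgroup ↥R).map R.subtype = T := by rw [hP₁, Subgroup.subgroupOf_map_subtype]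
  haveI : (C'.subgroupOf R).Normal := Subgroup.normal_subgroupOf
  have hquo : IsPGroup 2 (↥R ⧸ C'.subgroupOf R) := fun q => by
    induction q using QuotientGroup.induction_on with
    | _ r =>
      obtain ⟨k, hk⟩ := PBasic.pCore_isPGroup 2 (G ⧸ C) ⟨π r, r.2⟩
      have hrk : (r : G) ^ 2 ^ k ∈ C := by
        rw [← QuotientGroup.eq_one_iff (N := C), ← QuotientGroup.mk'_apply, map_pow]
        exact congrArg Subtype.val hk
      set w := (r : G) ^ 2 ^ k with hw
      obtain ⟨j, t, ht, hjt⟩ := Nat.exists_eq_two_pow_mul_odd (orderOf_pos w).ne'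
      refine ⟨k + j, ?_⟩
      rw [← QuotientGroup.mk_pow, QuotientGroup.eq_one_iff, Subgroup.mem_subgroupOf, SubmonoidClass.coe_pow,
        pow_add, pow_mul, ← hw]
      refine hkill _ (C.pow_mem hrk _) (ht.of_dvd_nat (orderOf_dvd_of_pow_eq_one ?_))
      rw [← pow_mul, ← hjt, pow_orderOf_eq_one]
  have hRsup : R ≤ T ⊔ C' := by
    have h := congrArg (Subgroup.map R.subtype) (PBasic.sylow_sup_eq_top P₁ hquo)
    rw [Subgroup.map_sup, hmap, ← MonoidHom.range_eq_map, Subgroup.range_subtype] at h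
    exact h.ge.trans (sup_le_sup le_rfl (Subgroup.map_comap_le _ _))
  have hfr := Sylow.normalizer_sup_eq_top P₁
  rw [hmap] at hfr
  have hgen : ∀ g : G, ∃ c ∈ C', ∃ n ∈ Subgroup.normalizer (T : Set G), g = c * n := by
    intro g
    have h1 : C' ⊔ Subgroup.normalizer (T : Set G) = ⊤ := eq_top_iff.2 (hfr.ge.trans
      (sup_le le_sup_right (hRsup.trans (sup_le (Subgroup.le_normalizer.trans le_sup_right) le_sup_left))))
    exact (SolvBasic.mem_sup_iff_of_le_normalizer
      (le_top.trans_eq (Subgroup.normalizer_eq_top (H := C')).symm)).1 (h1 ▸ Subgroup.mem_top g)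
  have hTC : T ≤ C' := by
    refine Subgroup.le_centralizer_iff.1 ?_
    rw [hV', Subgroup.normalClosure, Subgroup.closure_le]
    rintro x hx
    obtain ⟨z, hz, hconj⟩ := Group.mem_conjugatesOfSet_iff.1 hx
    obtain ⟨g, rfl⟩ := isConj_iff.1 hconj
    obtain ⟨c, hc, n, hn, he⟩ := hgen g⁻¹
    refine Subgroup.mem_centralizer_iff.2 fun t ht => ?_
    have hg : g = n⁻¹ * c⁻¹ := by rw [← mul_inv_rev, ← he, inv_inv]
    have hcz : c⁻¹ * z * c = z := by
      rw [mul_assoc, Subgroup.mem_centralizer_iff.1 hc z (Subgroup.subset_normalClosure hz), inv_mul_cancel_left]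
    have h := Subgroup.mem_centralizer_iff.1 hz.2 _ ((Subgroup.mem_normalizer_iff.1 hn t).1 ht).1
    rw [hg, show n⁻¹ * c⁻¹ * z * (n⁻¹ * c⁻¹)⁻¹ = n⁻¹ * (c⁻¹ * z * c) * n by group, hcz]
    calc t * (n⁻¹ * z * n) = n⁻¹ * ((n * t * n⁻¹) * z) * n := by group
      _ = n⁻¹ * (z * (n * t * n⁻¹)) * n := by rw [h]
      _ = n⁻¹ * z * n * t := by group
  have hRC : R ≤ C' := hRsup.trans (sup_le hTC le_rfl)
  refine ⟨V, hVn, fun x hx => hQS (hV'Q hx.1).1, fun x hx y hy => hV'c x hx.1 y hy.1, fun x hx => hx.2, ?_, ?_⟩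
  · intro N hN hN2
    refine le_bot_iff.1 ((PBasic.le_pCore hN hN2).trans ?_)
    rw [← Subgroup.map_comap_eq_self_of_surjective (QuotientGroup.mk'_surjective C)
      (Cfsg.pCore 2 (G ⧸ C)), ← hπ, ← hR]
    refine (Subgroup.map_mono (hRC.trans hC'C)).trans ?_
    rw [hπ, QuotientGroup.map_mk'_self]
  · exact ((hCR.trans hRC)).trans (Subgroup.centralizer_le (fun z hz => Subgroup.subset_normalClosure hz))

/-- The factorizations. -/
theorem factorizations (hchar : Subgroup.centralizer (Cfsg.pCore 2 G : Set G) ≤ Cfsg.pCore 2 G)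
    (hfree : ¬ Cfsg.Involves (Equiv.Perm (Fin 4)) G)
    (hK : Cfsg.IsCompositionKGroupWith TwoF.FactorPred G) (S : Sylow 2 G) :
    let Z := (S : Subgroup G) ⊓ Subgroup.centralizer ((S : Subgroup G) : Set G)
    let J := Cfsg.thompsonSubgroupOf 2 (S : Subgroup G)
    let H := (Cfsg.jHat ↥(S : Subgroup G)).map (S : Subgroup G).subtype
    (∀ g : G, ∃ c ∈ Subgroup.centralizer (Z : Set G), ∃ n ∈ Subgroup.normalizer (J : Set G), g = c * n) ∧
    (∀ g : G, ∃ c ∈ Subgroup.centralizer (Z : Set G), ∃ n ∈ Subgroup.normalizer (H : Set G), g = c * n) ∧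
    (∀ g : G, ∃ c ∈ Subgroup.centralizer (Cfsg.omegaOne 2 (H ⊓ Subgroup.centralizer (H : Set G)) : Set G),
      ∃ n ∈ Subgroup.normalizer (J : Set G), g = c * n) := by
  classical
  intro Z J H
  haveI : Fact (Nat.Prime 2) := ⟨Nat.prime_two⟩
  obtain ⟨V, hVn, hVS, hab, hsq, hno, hCZ⟩ := reduced hchar S
  haveI := hVn
  set C := Subgroup.centralizer (V : Set G) with hCdef
  have hJS : J ≤ (S : Subgroup G) := Thompson.thompsonSubgroupOf_le 2 _
  have hJC : J ≤ C := by
    rw [show J = jOf S from rfl, jOf, Thompson.thompsonSubgroupOf_eq]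
    exact sSup_le fun A hA => le_centralizer_of_max hfree hab hsq hno hVS hA
  set T := (S : Subgroup G) ⊓ C with hT
  obtain ⟨P, hP⟩ := PBasic.exists_sylow_subgroupOf S C
  have hmap : (P : Subgroup ↥C).map C.subtype = T := by rw [hP, Subgroup.subgroupOf_map_subtype]
  have hfr := Sylow.normalizer_sup_eq_top P
  rw [hmap] at hfr
  have hgen : ∀ g : G, ∃ c ∈ C, ∃ n ∈ Subgroup.normalizer (T : Set G), g = c * n := fun g => by
    have h1 : C ⊔ Subgroup.normalizer (T : Set G) = ⊤ := by rw [sup_comm]; exact hfr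
    exact (SolvBasic.mem_sup_iff_of_le_normalizer
      (le_top.trans_eq (Subgroup.normalizer_eq_top (H := C)).symm)).1 (h1 ▸ Subgroup.mem_top g)
  have hJT : Cfsg.thompsonSubgroupOf 2 T = J :=
    Thompson.thompsonSubgroupOf_eq_of_le (le_inf hJS hJC) inf_le_left
  have hTJ : Subgroup.normalizer (T : Set G) ≤ Subgroup.normalizer (J : Set G) :=
    hJT ▸ Thompson.normalizer_le_normalizer_thompsonSubgroupOf 2 T
  have hJmap : J = (Cfsg.thompsonSubgroup 2 ↥(S : Subgroup G)).map (S : Subgroup G).subtype := rfl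
  -- `V` lies in the Thompson subgroup
  have hVJ : V ≤ J := by
    intro v hv
    obtain ⟨E, hE⟩ := Thompson.exists_isMaxEAIn 2 (S : Subgroup G)
    refine Thompson.le_thompsonSubgroupOf hE (mem_of_max_of_commute hE (hVS hv) (hsq v hv) fun e he => ?_)
    exact (Subgroup.mem_centralizer_iff.1 (hJC (Thompson.le_thompsonSubgroupOf hE he)) v hv).symm
  -- E-subgroups centralize `V`
  have hEC : ∀ U : Subgroup G, J ≤ U → EG U → U ≤ C := by
    intro U hJU hU
    have hno' := hno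
    have h3 := noS3_of_not_involves hfree hab hsq
    have hK' : Cfsg.IsCompositionKGroupWith TwoF.FactorPred (G ⧸ C) :=
      TwoF.kGroup_surjective hK _ (QuotientGroup.mk'_surjective C)
    let f₀ : G →* MulAut V := MulAut.conjNormal
    have hker : ∀ g, f₀ g = 1 ↔ g ∈ C := by
      intro g
      constructor
      · intro h
        refine Subgroup.mem_centralizer_iff.2 fun m hm => (mul_inv_eq_iff_eq_mul.1 ?_).symm
        have h1 : (f₀ g ⟨m, hm⟩ : G) = g * m * g⁻¹ := MulAut.conjNormal_apply g ⟨m, hm⟩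
        rw [h] at h1
        exact h1.symm
      · intro h
        refine MulEquiv.ext fun m => Subtype.ext ?_
        rw [MulAut.one_apply, MulAut.conjNormal_apply]
        exact mul_inv_eq_iff_eq_mul.2 (Subgroup.mem_centralizer_iff.1 h m m.2).symm
    let φ := QuotientGroup.lift C f₀ fun c hc => (hker c).2 hc
    have hφ : Function.Injective φ := by
      refine (injective_iff_map_eq_one φ).2 fun q hq => ?_
      induction q using QuotientGroup.induction_on with
      | _ g => exact (QuotientGroup.eq_one_iff g).2 ((hker g).1 hq)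
    have hboth : ∀ R : Subgroup G, (∀ r ∈ R, r * r ∈ C) → ¬ R ≤ C →
        C.relIndex R ^ 3 < (Subgroup.centralizer (R : Set G)).relIndex V ^ 2 ∧
        C.relIndex R < Nat.card ↥⁅V, R⁆ := by
      intro R hR2 hne
      set π := QuotientGroup.mk' C with hπ
      have hEl : El (R.map π) := by
        rintro _ ⟨r, hr, rfl⟩
        rw [← map_mul]
        exact (QuotientGroup.eq_one_iff _).2 (hR2 r hr)
      obtain ⟨b1, b2⟩ := TwoF.action_bounds hno' h3 hK' (fun v : V => Subtype.ext (hsq v v.2)) φ hφ _ hEl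
      have hcard : Nat.card (R.map π) = C.relIndex R := by
        rw [← Subgroup.relIndex_ker, hπ, QuotientGroup.ker_mk']
      rw [hcard] at b1 b2
      set a := C.relIndex R with ha
      have ha2 : 2 ≤ a := by
        have h0 := relIndex_pos C R
        have h1 : a ≠ 1 := fun h => hne (Subgroup.relIndex_eq_one.1 h)
        omega
      have hfix : Nat.card ↥(V ⊓ Subgroup.centralizer (R : Set G)) ≤
          Nat.card {v : V | ∀ x ∈ R.map π, φ x v = v} := by
        refine Nat.card_le_card_of_injective (fun w : ↥(V ⊓ Subgroup.centralizer (R : Set G)) => ⟨⟨w, w.2.1⟩, ?_⟩)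
          fun w w' h => Subtype.ext (congrArg (fun z : {v : V | ∀ x ∈ R.map π, φ x v = v} => ((z : V) : G)) h)
        rintro _ ⟨r, hr, rfl⟩
        refine Subtype.ext ?_
        show (f₀ r ⟨(w : G), w.2.1⟩ : G) = w
        rw [MulAut.conjNormal_apply]
        exact mul_inv_eq_iff_eq_mul.2 (Subgroup.mem_centralizer_iff.1 w.2.2 r hr)
      have hcomm : Nat.card (Subgroup.closure {w | ∃ x ∈ R.map π, ∃ v, φ x v * v⁻¹ = w}) ≤ Nat.card ↥⁅V, R⁆ := by
        rw [← Subgroup.card_map_of_injective V.subtype_injective]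
        refine Subgroup.card_le_of_le ?_
        rw [MonoidHom.map_closure, Subgroup.closure_le]
        rintro _ ⟨_, ⟨_, ⟨r, hr, rfl⟩, v, rfl⟩, rfl⟩
        show ((f₀ r v : V) : G) * ((v : G))⁻¹ ∈ _
        rw [MulAut.conjNormal_apply, Subgroup.commutator_comm]
        exact Subgroup.commutator_mem_commutator hr v.2
      refine ⟨?_, lt_of_lt_of_le (lt_of_lt_of_le ?_ b2) hcomm⟩
      · have h1 := card_inf_mul_relIndex (Subgroup.centralizer (R : Set G)) V
        set c := (Subgroup.centralizer (R : Set G)).relIndex V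
        set w := Nat.card ↥(V ⊓ Subgroup.centralizer (R : Set G))
        have hw : 0 < w := Nat.card_pos
        have h2 : a ^ 2 * w ≤ w * c := h1.symm ▸ (Nat.mul_le_mul_left _ hfix).trans b1
        have h3 : a ^ 2 ≤ c := Nat.le_of_mul_le_mul_left (by rwa [mul_comm] at h2) hw
        calc a ^ 3 < a ^ 4 := Nat.pow_lt_pow_right ha2 (by norm_num)
          _ = (a ^ 2) ^ 2 := by ring
          _ ≤ c ^ 2 := Nat.pow_le_pow_left h3 2
      · calc a = a ^ 1 := (pow_one a).symm
          _ < a ^ 2 := Nat.pow_lt_pow_right ha2 (by norm_num)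
    exact hU V (hVJ.trans hJU) (le_top.trans_eq (Subgroup.normalizer_eq_top (H := V)).symm) hab hsq
      (fun R _ _ hR hne => (hboth R hR hne).1) fun R _ _ hR hne => (hboth R hR hne).2
  -- the generators of `H`
  set Se := {U : Subgroup ↥(S : Subgroup G) | Cfsg.IsEGroup U ∧ Cfsg.thompsonSubgroup 2 ↥(S : Subgroup G) ≤ U}
    with hSe
  have hrange : ∀ U : Subgroup ↥(S : Subgroup G),
      ((S : Subgroup G).subtype.comp U.subtype).range = U.map (S : Subgroup G).subtype := fun U => by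
    rw [MonoidHom.range_comp, Subgroup.range_subtype]
  have hinj : ∀ U : Subgroup ↥(S : Subgroup G),
      Function.Injective ((S : Subgroup G).subtype.comp U.subtype) := fun U _ _ h =>
    U.subtype_injective ((S : Subgroup G).subtype_injective h)
  have hSeG : ∀ U ∈ Se, EG (U.map (S : Subgroup G).subtype) ∧ J ≤ U.map (S : Subgroup G).subtype := fun U hU => by
    refine ⟨?_, hJmap ▸ Subgroup.map_mono hU.2⟩
    rw [← hrange U]
    exact (eg_iff _ (hinj U)).1 hU.1
  have hmemSe : ∀ U : Subgroup G, U ≤ (S : Subgroup G) → J ≤ U → EG U → U.subgroupOf (S : Subgroup G) ∈ Se := by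
    intro U hUS hJU hU
    refine ⟨?_, ?_⟩
    · rw [eg_iff _ (hinj (U.subgroupOf (S : Subgroup G))), hrange,
        Subgroup.map_subgroupOf_eq_of_le hUS]
      exact hU
    · intro x hx
      exact hJU ⟨x, hx, rfl⟩
  have hleH : ∀ U : Subgroup G, U ≤ (S : Subgroup G) → J ≤ U → EG U → U ≤ H := fun U hUS hJU hU => by
    rw [← Subgroup.map_subgroupOf_eq_of_le hUS]
    exact Subgroup.map_mono (le_sSup (hmemSe U hUS hJU hU))
  have hHsup : ∀ X : Subgroup G, (∀ U ∈ Se, U.map (S : Subgroup G).subtype ≤ X) → H ≤ X := fun X hX => by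
    show (sSup Se).map _ ≤ X
    rw [Subgroup.map_le_iff_le_comap]
    exact sSup_le fun U hU => Subgroup.map_le_iff_le_comap.1 (hX U hU)
  have hHT : Subgroup.normalizer (T : Set G) ≤ Subgroup.normalizer (H : Set G) := by
    intro n hn
    refine Subgroup.mem_normalizer_fintype fun x hx => ?_
    set f := (MulAut.conj n).toMonoidHom with hf
    have hfi : Function.Injective f := (MulAut.conj n).injective
    suffices h : H ≤ H.comap f from h hx
    refine hHsup _ fun U hU => ?_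
    obtain ⟨hEG, hJU⟩ := hSeG U hU
    rw [← Subgroup.map_le_iff_le_comap]
    have hUT : U.map (S : Subgroup G).subtype ≤ T := le_inf (Subgroup.map_subtype_le U) (hEC _ hJU hEG)
    have hTn : T.map f = T := Subgroup.mem_normalizer_iff_map_conj_eq.1 hn
    refine hleH _ (((Subgroup.map_mono hUT).trans hTn.le).trans inf_le_left) ?_ ?_
    · refine le_trans ?_ (Subgroup.map_mono hJU)
      exact (Subgroup.mem_normalizer_iff_map_conj_eq.1 (hTJ hn)).ge
    · rw [← hrange U, MonoidHom.map_range]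
      exact (eg_iff (f.comp ((S : Subgroup G).subtype.comp U.subtype))
        (fun _ _ h => hinj U (hfi h))).1 hU.1
  refine ⟨fun g => ?_, fun g => ?_, ?_⟩
  · obtain ⟨c, hc, n, hn, he⟩ := hgen g
    exact ⟨c, hCZ hc, n, hTJ hn, he⟩
  · obtain ⟨c, hc, n, hn, he⟩ := hgen g
    exact ⟨c, hCZ hc, n, hHT hn, he⟩
  -- the normal closure of the Thompson subgroup
  set G₀ := ncl (jOf S) with hG₀
  have hJG₀ : J ≤ G₀ := le_ncl _
  set S₀ := (S : Subgroup G) ⊓ G₀ with hS₀
  obtain ⟨P₀, hP₀⟩ := PBasic.exists_sylow_subgroupOf S G₀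
  have hP₀map : (P₀ : Subgroup ↥G₀).map G₀.subtype = S₀ := by rw [hP₀, Subgroup.subgroupOf_map_subtype]
  have hJ₀ : Cfsg.thompsonSubgroupOf 2 S₀ = J :=
    Thompson.thompsonSubgroupOf_eq_of_le (le_inf hJS hJG₀) inf_le_left
  have hJ₀map : (jOf P₀).map G₀.subtype = J := by
    rw [jOf, ← Thompson.thompsonSubgroupOf_map_of_injective _ _ G₀.subtype_injective, hP₀map, hJ₀]
  have hC₀ := constrained_normal hchar G₀
  have h4₀ : ¬ Cfsg.Involves (Equiv.Perm (Fin 4)) ↥G₀ := fun h =>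
    hfree (SFourFree.involves_mono G₀.subtype G₀.subtype_injective h)
  have hK₀ : Cfsg.IsCompositionKGroupWith TwoF.FactorPred ↥G₀ :=
    TwoF.kGroup_subnormal hK (ncl_normal (jOf S)).isSubnormal
  have hEG₀ : EG S₀ := by
    intro W hWS hSW hWab hWsq hineq _
    set W₀ := W.subgroupOf G₀ with hW₀
    have hWG : W ≤ G₀ := hWS.trans inf_le_right
    have hWmap : W₀.map G₀.subtype = W := Subgroup.map_subgroupOf_eq_of_le hWG
    have hW₀S : W₀ ≤ (P₀ : Subgroup ↥G₀) := fun x hx => by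
      rw [hP₀]
      exact (hWS hx).1
    have hab₀ : ∀ x ∈ W₀, ∀ y ∈ W₀, x * y = y * x := fun x hx y hy => Subtype.ext (hWab _ hx _ hy)
    have hsq₀ : ∀ x ∈ W₀, x * x = 1 := fun x hx => Subtype.ext (hWsq _ hx)
    have hnorm₀ : (P₀ : Subgroup ↥G₀) ≤ Subgroup.normalizer (W₀ : Set ↥G₀) := fun s hs => by
      refine Subgroup.mem_normalizer_fintype fun v hv => ?_
      have hs' : (s : G) ∈ S₀ := hP₀map ▸ Subgroup.mem_map_of_mem _ hs
      exact (Subgroup.mem_normalizer_iff.1 (hSW hs') _).1 hv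
    have hineq₀ : Ineq W₀ (P₀ : Subgroup ↥G₀) := by
      rw [← ineq_map_iff G₀.subtype G₀.subtype_injective, hWmap, hP₀map]
      exact hineq
    have hcand : Cand P₀ W₀ :=
      ⟨le_pCore_of_ineq hC₀ h4₀ hK₀ hW₀S hab₀ hsq₀ hnorm₀ hineq₀, hab₀, hsq₀, hnorm₀, hineq₀⟩
    have hcz := centralizes (Nat.card ↥G₀) ↥G₀ le_rfl h4₀ hK₀ P₀ W₀ hcand
    set X := (Subgroup.centralizer (ncl W₀ : Set ↥G₀)).map G₀.subtype with hX
    have hJX : J ≤ X := hJ₀map ▸ Subgroup.map_mono hcz
    have hGX : G₀ ≤ X := by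
      refine ncl_le_iff.2 fun g j hj => ?_
      obtain ⟨y, hy, n, hn, rfl⟩ := frattini_thompson S g
      obtain ⟨x, hx, hxe⟩ := hJX ((Subgroup.mem_normalizer_iff.1 hn j).1 hj)
      refine ⟨⟨y, hy⟩ * x * ⟨y, hy⟩⁻¹, Subgroup.Normal.conj_mem inferInstance x hx _, ?_⟩
      rw [map_mul, map_mul, map_inv, hxe]
      show y * (n * j * n⁻¹) * y⁻¹ = _
      group
    rw [← hWmap]
    intro s hs
    obtain ⟨x, hx, rfl⟩ := hGX hs.2
    exact (map_mem_centralizer_iff G₀.subtype G₀.subtype_injective W₀ x).2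
      (Subgroup.centralizer_le (le_ncl W₀) hx)
  have hS₀H : S₀ ≤ H := hleH _ inf_le_left (le_inf hJS hJG₀) hEG₀
  intro g
  obtain ⟨y, hy, n, hn, rfl⟩ := frattini_thompson S g
  obtain ⟨m, hm, c, hc, he⟩ := exists_factor h4₀ hC₀ P₀ (⟨y, hy⟩ : ↥G₀)⁻¹
  refine ⟨((c⁻¹ : ↥G₀) : G), ?_, ((m⁻¹ : ↥G₀) : G) * n, ?_, ?_⟩
  · refine Subgroup.mem_centralizer_iff.2 ?_
    suffices h : Cfsg.omegaOne 2 (H ⊓ Subgroup.centralizer (H : Set G)) ≤
        Subgroup.centralizer ({((c⁻¹ : ↥G₀) : G)} : Set G) from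
      fun z hz => Subgroup.mem_centralizer_singleton_iff.1 (h hz)
    rw [Cfsg.omegaOne, Subgroup.closure_le]
    rintro z ⟨⟨hzH, hzc⟩, hz2⟩
    rw [pow_two] at hz2
    have hzS : z ∈ (S : Subgroup G) := (Subgroup.map_subtype_le _) hzH
    have hzS₀ : z ∈ S₀ := by
      obtain ⟨E, hE⟩ := Thompson.exists_isMaxEAIn 2 (S : Subgroup G)
      have hEJ : E ≤ J := Thompson.le_thompsonSubgroupOf hE
      exact (le_inf hJS hJG₀ : J ≤ S₀) (hEJ (mem_of_max_of_commute hE hzS hz2 fun e he =>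
        Subgroup.mem_centralizer_iff.1 hzc e (hS₀H ((le_inf hJS hJG₀ : J ≤ S₀) (hEJ he)))))
    have hfix := hc ⟨z, hzS₀.2⟩ (by rw [hP₀]; exact hzS₀.1) (Subtype.ext hz2)
      (Subgroup.mem_centralizer_iff.2 fun s hs => Subtype.ext
        (Subgroup.mem_centralizer_iff.1 hzc _ (hS₀H (hP₀map ▸ Subgroup.mem_map_of_mem _ hs))))
    have hfix' : (c : G) * z * (c : G)⁻¹ = z := congrArg Subtype.val hfix
    refine Subgroup.mem_centralizer_singleton_iff.2 ?_
    rw [Subgroup.coe_inv]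
    calc z * (c : G)⁻¹ = (c : G)⁻¹ * ((c : G) * z * (c : G)⁻¹) := by group
      _ = (c : G)⁻¹ * z := by rw [hfix']
  · refine Subgroup.mul_mem _ ?_ hn
    refine Subgroup.mem_normalizer_fintype fun x hx => ?_
    rw [← hJ₀map] at hx ⊢
    obtain ⟨x₀, hx₀, rfl⟩ := hx
    exact ⟨_, (Subgroup.mem_normalizer_iff.1 (inv_mem hm) x₀).1 hx₀, rfl⟩
  · have he' : (y : G)⁻¹ = (m : G) * (c : G) := congrArg Subtype.val he
    rw [Subgroup.coe_inv, Subgroup.coe_inv, ← mul_assoc, ← mul_inv_rev, ← he', inv_inv]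

theorem result {G : Type u} [Group G] [Finite G] (hchar : Subgroup.centralizer (Cfsg.pCore 2 G : Set G) ≤ Cfsg.pCore 2 G) (hfree : ¬ Cfsg.Involves (Equiv.Perm (Fin 4)) G) (hc : Cfsg.IsCompositionKGroupWith Cfsg.IsSuzukiOrPSL2OddPowerThree G) (S : Sylow 2 G) : (∀ g : G, ∃ c ∈ Subgroup.centralizer ((((S : Subgroup G) ⊓ Subgroup.centralizer ((S : Subgroup G) : Set G)) : Subgroup G) : Set G), ∃ n ∈ Subgroup.normalizer (((Cfsg.thompsonSubgroupOf 2 (S : Subgroup G)) : Subgroup G) : Set G), g = c * n) ∧ (∀ g : G, ∃ c ∈ Subgroup.centralizer ((((S : Subgroup G) ⊓ Subgroup.centralizer ((S : Subgroup G) : Set G)) : Subgroup G) : Set G), ∃ n ∈ Subgroup.normalizer ((((Cfsg.jHat ↥(S : Subgroup G)).map (S : Subgroup G).subtype) : Subgroup G) : Set G), g = c * n) ∧ (∀ g : G, ∃ c ∈ Subgroup.centralizer ((Cfsg.omegaOne 2 (((Cfsg.jHat ↥(S : Subgroup G)).map (S : Subgroup G).subtype) ⊓ Subgroup.centralizer (((Cfsg.jHat ↥(S : Subgroup G)).map (S : Subgroup G).subtype)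 : Set G))) : Set G), ∃ n ∈ Subgroup.normalizer (((Cfsg.thompsonSubgroupOf 2 (S : Subgroup G)) : Subgroup G) : Set G), g = c * n) :=
  factorizations hchar hfree (TwoF.factorPred_of_kGroup hc) S

end Cfsg.Agent.S2753
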