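import Cfsg.Statements.S2756
import Cfsg.Agent.Lib.TwoClosedZJ.Main

set_option autoImplicit false
set_option linter.style.haveILetI false
open Cfsg

namespace Cfsg.Agent.S2756

open Cfsg.Agent

/-- For a finite group G the following are equivalent: (a) G has a normal Sylow 2-subgroup; (b) for every odd prime q dividing the order of G and every Sylow q-subgroup T, the normalizer of Z(J(T)) has a normal Sylow 2-subgroup; (c) for every odd prime q and every Sylow q-subgroup T, no nonidentity element of T is inverted by an element of the normalizer of Z(J(T)). Here J(T) is the Thompson subgroup generated by the abelian subgroups of T of largest order. Stated as the two equivalences (a) ⇔ (b) and (a) ⇔ (c). -/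
theorem result {G : Type*} [Group G] [Finite G] : ((∀ P : Sylow 2 G, (P : Subgroup G).Normal) ↔ ∀ (q : ℕ) [Fact q.Prime], q ≠ 2 → q ∣ Nat.card G → ∀ T : Sylow q G, ∀ P : Sylow 2 ↥(Subgroup.normalizer (Cfsg.centerThompsonAOf (T : Subgroup G) : Set G)), (P : Subgroup ↥(Subgroup.normalizer (Cfsg.centerThompsonAOf (T : Subgroup G) : Set G))).Normal) ∧ ((∀ P : Sylow 2 G, (P : Subgroup G).Normal) ↔ ∀ (q : ℕ) [Fact q.Prime], q ≠ 2 → ∀ T : Sylow q G, ∀ x ∈ (T : Subgroup G), x ≠ 1 → ∀ g ∈ Subgroup.normalizer (Cfsg.centerThompsonAOf (T : Subgroup G) : Set G), g * x * g⁻¹ ≠ x⁻¹) := by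
  haveI := Fact.mk Nat.prime_two
  -- a normal Sylow 2-subgroup descends to subgroups
  have hsub : (∀ P : Sylow 2 G, (P : Subgroup G).Normal) → ∀ (N : Subgroup G) (P : Sylow 2 N),
      (P : Subgroup N).Normal := by
    intro hall N P
    obtain ⟨R⟩ : Nonempty (Sylow 2 G) := inferInstance
    haveI := hall R
    have hRN : ((R : Subgroup G).subgroupOf N) ≤ (P : Subgroup N) :=
      LEBasic.normal_le_sylow (R.isPGroup'.comap_of_injective _ N.subtype_injective) P
    have hPR : (P : Subgroup N) ≤ (R : Subgroup G).subgroupOf N := by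
      obtain ⟨R', hR'⟩ := (P.isPGroup'.map N.subtype).exists_le_sylow
      haveI := hall R'
      haveI := Sylow.unique_of_normal R (hall R)
      rw [Subsingleton.elim R' R] at hR'
      exact fun x hx => hR' (Subgroup.mem_map_of_mem _ hx)
    rw [le_antisymm hPR hRN]
    infer_instance
  have hnoinv : ∀ (q : ℕ) [Fact q.Prime], q ≠ 2 → ∀ T : Sylow q G,
      (∀ P : Sylow 2 ↥(Subgroup.normalizer (Cfsg.centerThompsonAOf (T : Subgroup G) : Set G)),
        (P : Subgroup ↥(Subgroup.normalizer (Cfsg.centerThompsonAOf (T : Subgroup G) : Set G))).Normal) →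
      ∀ x ∈ (T : Subgroup G), x ≠ 1 →
        ∀ g ∈ Subgroup.normalizer (Cfsg.centerThompsonAOf (T : Subgroup G) : Set G),
          g * x * g⁻¹ ≠ x⁻¹ := by
    intro q hq hq2 T hN x hx hx1 g hg hgx
    obtain ⟨P⟩ : Nonempty (Sylow 2 ↥(Subgroup.normalizer
      (Cfsg.centerThompsonAOf (T : Subgroup G) : Set G))) := inferInstance
    obtain ⟨k, hk⟩ := T.isPGroup' ⟨x, hx⟩
    refine TwoClosedZJ.not_realIn_of_normal (hq.out.odd_of_ne_two hq2) (hN P)
      ⟨x, ?_, g, hg, hx1, ⟨k, congrArg Subtype.val hk⟩, hgx⟩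
    rw [ZJ.centerThompsonAOf_eq (p := q)]
    exact ZJ.le_normalizer_zJ _ hx
  have hclose : (∀ (q : ℕ) [Fact q.Prime], q ≠ 2 → q ∣ Nat.card G → ∀ T : Sylow q G,
      ∀ x ∈ (T : Subgroup G), x ≠ 1 →
        ∀ g ∈ Subgroup.normalizer (Cfsg.centerThompsonAOf (T : Subgroup G) : Set G),
          g * x * g⁻¹ ≠ x⁻¹) → ∀ P : Sylow 2 G, (P : Subgroup G).Normal := by
    intro hc P
    by_contra hP
    obtain ⟨r, hr, hr2, hreal⟩ := TwoClosedZJ.exists_realIn ⟨P, hP⟩
    haveI := Fact.mk hr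
    obtain ⟨T, x, hx, hx1, g, hg, hgx⟩ := TwoClosedZJ.witness_of_realIn hr2 hreal
    obtain ⟨k, hk⟩ := T.isPGroup' ⟨x, hx⟩
    have hd : r ∣ Nat.card G := by
      obtain ⟨i, -, hi⟩ := (Nat.dvd_prime_pow hr).1
        (orderOf_dvd_of_pow_eq_one (x := x) (congrArg Subtype.val hk))
      have hi0 : i ≠ 0 := fun h => hx1 (orderOf_eq_one_iff.1 (by rw [hi, h, pow_zero]))
      exact (hi ▸ dvd_pow_self r hi0).trans (orderOf_dvd_natCard x)
    rw [← ZJ.centerThompsonAOf_eq (p := r)] at hg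
    exact hc r hr2 hd T x hx hx1 g hg hgx
  refine ⟨⟨fun h q _ _ _ T => hsub h _, fun h => hclose fun q _ hq2 hd T => hnoinv q hq2 T (h q hq2 hd T)⟩,
    ⟨fun h q _ hq2 T => hnoinv q hq2 T (hsub h _), fun h => hclose fun q _ hq2 _ => h q hq2⟩⟩

end Cfsg.Agent.S2756
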