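import Cfsg.Statements.S2759
import Cfsg.Agent.Lib.LocalEven.Involvement

set_option autoImplicit false
open Cfsg

namespace Cfsg.Agent.S2759

/-- For a finite group G, the symmetric group of degree 4 is involved in G if and only if there is a 2-subgroup T of G such that the symmetric group of degree 3 is involved in N(T)/C(T). -/
theorem result {G : Type*} [Group G] [Finite G] : Cfsg.Involves (Equiv.Perm (Fin 4)) G ↔ ∃ T : Subgroup G, IsPGroup 2 ↥T ∧ Cfsg.Involves (Equiv.Perm (Fin 3)) (↥(Subgroup.normalizer (T : Set G)) ⧸ (Subgroup.centralizer (T : Set G)).subgroupOf (Subgroup.normalizer (T : Set G))) := by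
  classical
  haveI : Fact (Nat.Prime 2) := ⟨Nat.prime_two⟩
  haveI : Fact (Nat.Prime 3) := ⟨Nat.prime_three⟩
  constructor
  · intro h
    obtain ⟨K, ψ, hψ⟩ := LEInvolve.exists_hom_of_involves h
    obtain ⟨P, hP, hPA, hidx, hlift⟩ := LEInvolve.exists_normalizer_lift ψ hψ 2 (A := LEInvolve.chi.ker)
    have hker : Nat.card ↥LEInvolve.chi.ker = 4 := by
      exact (Nat.card_congr (Equiv.subtypeEquivRight fun σ => MonoidHom.mem_ker)).trans
        (Nat.card_eq_fintype_card.trans ((Fintype.card_subtype _).trans LEInvolve.chi_ker_card))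
    have hmap : P.map ψ = LEInvolve.chi.ker := by
      have h1 : P.map ψ ≤ LEInvolve.chi.ker := Subgroup.map_le_iff_le_comap.2 hPA
      have h2 : (P.map ψ).relIndex LEInvolve.chi.ker ∣ P.relIndex (LEInvolve.chi.ker.comap ψ) := by
        have := Subgroup.relIndex_comap (P.map ψ) ψ (LEInvolve.chi.ker.comap ψ)
        rw [Subgroup.map_comap_eq_self_of_surjective hψ] at this
        rw [← this]
        exact Subgroup.relIndex_dvd_of_le_left _ (Subgroup.le_comap_map ψ P)
      have h3 : (P.map ψ).relIndex LEInvolve.chi.ker ∣ 2 ^ 2 := by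
        exact (Subgroup.relIndex_dvd_card (P.map ψ) LEInvolve.chi.ker).trans (hker.dvd.trans (by norm_num))
      obtain ⟨i, -, hi⟩ := (Nat.dvd_prime_pow Nat.prime_two).1 h3
      rcases i with _ | i
      · exact le_antisymm h1 (Subgroup.relIndex_eq_one.1 (by rw [hi, pow_zero]))
      · exact absurd ((dvd_pow_self 2 i.succ_ne_zero).trans (hi ▸ h2)) hidx
    refine ⟨P.map K.subtype, hP.map _, ?_⟩
    set T := P.map K.subtype with hT
    let N := Subgroup.normalizer (T : Set G)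
    let φ₀ : ↥(Subgroup.normalizer (P : Set ↥K)) →* ↥N :=
      MonoidHom.codRestrict (K.subtype.comp (Subgroup.normalizer (P : Set ↥K)).subtype) N
        (fun g => Subgroup.le_normalizer_map _ ⟨(g : ↥K), g.2, rfl⟩)
    refine LEInvolve.involves_of_hom ((QuotientGroup.mk' _).comp φ₀)
      (LEInvolve.chi.comp (ψ.comp (Subgroup.normalizer (P : Set ↥K)).subtype)) ?_ ?_
    · intro s
      obtain ⟨s', rfl⟩ := LEInvolve.chi_surjective s
      obtain ⟨g, hg, a, ha, hga⟩ := hlift s'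
      refine ⟨⟨g, hg⟩, ?_⟩
      show LEInvolve.chi (ψ g) = _
      rw [hga, map_mul, MonoidHom.mem_ker.1 ha, mul_one]
    · intro g hg
      have hC : ((g : ↥K) : G) ∈ Subgroup.centralizer (T : Set G) := (QuotientGroup.eq_one_iff (φ₀ g)).1 hg
      refine MonoidHom.mem_ker.2 (LEInvolve.chi_cent (ψ g) fun a ha => ?_)
      obtain ⟨x, hx, rfl⟩ : a ∈ P.map ψ := hmap ▸ ha
      have : (g : ↥K) * x = x * (g : ↥K) :=
        Subtype.ext (Subgroup.mem_centralizer_iff.1 hC (x : G) ⟨x, hx, rfl⟩).symm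
      rw [← map_mul, this, map_mul]
  · rintro ⟨T, hTp, h⟩
    obtain ⟨K, ψ, hψ⟩ := LEInvolve.exists_hom_of_involves h
    set N := Subgroup.normalizer (T : Set G) with hN
    let q := QuotientGroup.mk' ((Subgroup.centralizer (T : Set G)).subgroupOf N)
    let Ψ : ↥(K.comap q) →* Equiv.Perm (Fin 3) := ψ.comp (q.subgroupComap K)
    have hΨ : Function.Surjective Ψ :=
      hψ.comp (q.subgroupComap_surjective_of_surjective K (QuotientGroup.mk'_surjective _))
    have hkill : ∀ x : ↥(K.comap q), ((x : ↥N) : G) ∈ Subgroup.centralizer (T : Set G) → Ψ x = 1 := fun x hx => by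
      show ψ (q.subgroupComap K x) = 1
      rw [show q.subgroupComap K x = 1 from Subtype.ext ((QuotientGroup.eq_one_iff (x : ↥N)).2 hx), map_one]
    obtain ⟨P, hP, hPA, hidx, hlift⟩ := LEInvolve.exists_normalizer_lift Ψ hΨ 3 (A := alternatingGroup (Fin 3))
    obtain ⟨g₀, hg₀, a₀, ha₀, hga⟩ := hlift (Equiv.swap 0 1)
    have hs2 := LEInvolve.swap_mul_even_sq a₀ (Equiv.Perm.mem_alternatingGroup.1 ha₀)
    obtain ⟨g, b, hgb, ⟨l, hl⟩, hb, hgz, hbz⟩ := LEBasic.exists_p_part (p := 2) g₀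
    have hΨb : Ψ b = 1 := by
      obtain ⟨j, hj⟩ := Subgroup.mem_zpowers_iff.1 hbz
      have h1 : orderOf (Ψ b) ∣ 2 := by
        rw [← hj, map_zpow]
        exact (orderOf_dvd_of_mem_zpowers (Subgroup.zpow_mem_zpowers _ j)).trans
          (orderOf_dvd_of_pow_eq_one (by rw [hga, pow_two, hs2]))
      exact orderOf_eq_one_iff.1 (Nat.eq_one_of_dvd_coprimes hb.symm h1 (orderOf_map_dvd Ψ b))
    have hΨg : Ψ g = Equiv.swap 0 1 * a₀ := by rw [← hga, hgb, map_mul, hΨb, mul_one]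
    have hgN : g ∈ Subgroup.normalizer (P : Set ↥(K.comap q)) := Subgroup.zpowers_le.2 hg₀ hgz
    -- an element of `P` outside the kernel
    obtain ⟨y₀, hy₀, hy₀1⟩ : ∃ y ∈ P, Ψ y ≠ 1 := by
      by_contra hall
      push Not at hall
      apply hidx
      have h1 : Ψ.ker.relIndex ((alternatingGroup (Fin 3)).comap Ψ) = 3 := by
        rw [← MonoidHom.comap_bot, Subgroup.relIndex_comap, Subgroup.map_comap_eq_self_of_surjective hΨ,
          Subgroup.relIndex_bot_left, nat_card_alternatingGroup, Nat.card_fin]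
        rfl
      exact dvd_trans (dvd_of_eq h1.symm) (Subgroup.relIndex_dvd_of_le_left _ (fun y hy => MonoidHom.mem_ker.2 (hall y hy)))
    -- move it into the centralizer of the square of `g`
    set P₀ := P ⊓ Ψ.ker with hP₀
    have hgg : g * g ∈ Ψ.ker := by rw [MonoidHom.mem_ker, map_mul, hΨg, hs2]
    have hggN : Subgroup.zpowers (g * g) ≤ Subgroup.normalizer (P₀ : Set ↥(K.comap q)) := by
      rw [Subgroup.zpowers_le, ← LEBasic.map_conj_eq_iff_mem_normalizer]
      refine Subgroup.eq_of_le_of_card_ge ?_ (LEBasic.card_map_conj P₀ (g * g)).ge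
      rintro _ ⟨x, ⟨hx1, hx2⟩, rfl⟩
      exact ⟨(Subgroup.mem_normalizer_iff.1 (mul_mem hgN hgN) x).1 hx1,
        (inferInstance : Ψ.ker.Normal).conj_mem x hx2 _⟩
    have hB2 : ¬ 3 ∣ Nat.card ↥(Subgroup.zpowers (g * g)) := fun h3 => by
      rw [Nat.card_zpowers, ← pow_two] at h3
      exact absurd (Nat.prime_three.dvd_of_dvd_pow (h3.trans (orderOf_pow_dvd 2) |>.trans hl.dvd)) (by norm_num)
    have hy₀N : y₀ ∈ Subgroup.normalizer (P₀ : Set ↥(K.comap q)) := by
      rw [← LEBasic.map_conj_eq_iff_mem_normalizer]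
      refine Subgroup.eq_of_le_of_card_ge ?_ (LEBasic.card_map_conj P₀ y₀).ge
      rintro _ ⟨x, ⟨hx1, hx2⟩, rfl⟩
      exact ⟨P.mul_mem (P.mul_mem hy₀ hx1) (P.inv_mem hy₀), (inferInstance : Ψ.ker.Normal).conj_mem x hx2 _⟩
    obtain ⟨n, hn, hyn⟩ := LECoprime.exists_fixed_coset (p := 3) (hP.to_le inf_le_left) hB2 hggN hy₀N
      (fun b hb => by
        have hbN : b ∈ Subgroup.normalizer (P : Set ↥(K.comap q)) := Subgroup.zpowers_le.2 (mul_mem hgN hgN) hb
        have hbK : b ∈ Ψ.ker := Subgroup.zpowers_le.2 hgg hb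
        refine ⟨P.mul_mem (P.inv_mem hy₀) ((Subgroup.mem_normalizer_iff.1 hbN y₀).1 hy₀), ?_⟩
        show _ ∈ Ψ.ker
        rw [MonoidHom.mem_ker, map_mul, map_mul, map_mul, map_inv, map_inv, MonoidHom.mem_ker.1 hbK]
        simp)
    set y := y₀ * n with hy
    have hyP : y ∈ P := mul_mem hy₀ hn.1
    have hΨy : Ψ y = Ψ y₀ := by rw [hy, map_mul, MonoidHom.mem_ker.1 hn.2, mul_one]
    have hcy : (g * g) * y = y * (g * g) := Subgroup.mem_centralizer_iff.1 hyn (g * g) (Subgroup.mem_zpowers _)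
    set c := y * (g * y⁻¹ * g⁻¹) with hc
    have hcP : c ∈ P := mul_mem hyP ((Subgroup.mem_normalizer_iff.1 hgN _).1 (inv_mem hyP))
    have hgc : g * c * g⁻¹ = c⁻¹ := by
      have h2 : (g * g) * y⁻¹ = y⁻¹ * (g * g) := (show Commute (g * g) y from hcy).inv_right
      calc g * (y * (g * y⁻¹ * g⁻¹)) * g⁻¹ = g * y * g⁻¹ * ((g * g) * y⁻¹) * g⁻¹ * g⁻¹ := by simp [mul_assoc]
        _ = (y * (g * y⁻¹ * g⁻¹))⁻¹ := by rw [h2]; simp [mul_assoc]
    have hΨc : Ψ c ≠ 1 := by
      rw [hc, map_mul Ψ y, map_mul Ψ (g * y⁻¹), map_mul Ψ g, map_inv, map_inv, hΨg, hΨy]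
      exact fun h => hy₀1 (LEInvolve.swap_mul_even_comm a₀ _ (Equiv.Perm.mem_alternatingGroup.1 ha₀) (Equiv.Perm.mem_alternatingGroup.1 (hPA hy₀)) h)
    -- pass to `G`
    set x := ((g : ↥N) : G) with hx
    set d := ((c : ↥N) : G) with hd
    have hxd : x * d * x⁻¹ = d⁻¹ := congrArg (fun z : ↥(K.comap q) => ((z : ↥N) : G)) hgc
    obtain ⟨m, hm⟩ := IsPGroup.iff_orderOf.1 hP ⟨c, hcP⟩
    have hdo : orderOf d = 3 ^ m := by
      rw [Subgroup.orderOf_mk] at hm
      rw [hd, Subgroup.orderOf_coe, Subgroup.orderOf_coe, hm]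
    have hex : ∃ j, d ^ 3 ^ j ∈ Subgroup.centralizer (T : Set G) :=
      ⟨m, by rw [← hdo, pow_orderOf_eq_one]; exact one_mem _⟩
    have hj0 : Nat.find hex ≠ 0 := fun h => hΨc (hkill c (by simpa [h] using Nat.find_spec hex))
    obtain ⟨j, hj⟩ := Nat.exists_eq_succ_of_ne_zero hj0
    refine LEInvolve.involves_S4 hTp (a := x) (c := d ^ 3 ^ j) ⟨l, by rw [hx, Subgroup.orderOf_coe, Subgroup.orderOf_coe]; exact hl⟩
      ?_ (g : ↥N).2 (pow_mem (c : ↥N).2 _) ?_ ?_ (Nat.find_min hex (show j < Nat.find hex by omega))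
    · obtain ⟨i, -, hi⟩ := (Nat.dvd_prime_pow Nat.prime_three).1 ((orderOf_pow_dvd (x := d) (3 ^ j)).trans hdo.dvd)
      exact ⟨i, hi⟩
    · rw [← conj_pow, hxd, inv_pow]
    · rw [← pow_mul, ← pow_succ]
      have h := Nat.find_spec hex
      rwa [hj] at h

end Cfsg.Agent.S2759

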