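import Cfsg.Statements.S2760
import Cfsg.Agent.Lib.Techniques.CharP

set_option autoImplicit false
open Cfsg

namespace Cfsg.Agent.S2760

/-- Let G be a finite group with C_G(O₂(G)) ≤ O₂(G) and H a subgroup of G such that H is normal in G, or the subgroup O²(H) generated by the elements of H of odd order is normal in G. Then C_H(O₂(H)) ≤ O₂(H). -/
theorem result {G : Type*} [Group G] [Finite G] (hchar : Subgroup.centralizer (Cfsg.pCore 2 G : Set G) ≤ Cfsg.pCore 2 G) (H : Subgroup G) (hH : H.Normal ∨ ((Cfsg.pResidual 2 ↥H).map H.subtype).Normal) : Subgroup.centralizer (Cfsg.pCore 2 ↥H : Set ↥H) ≤ Cfsg.pCore 2 ↥H := by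
  haveI : Fact (Nat.Prime 2) := ⟨Nat.prime_two⟩
  have hN : ∀ N : Subgroup G, N.Normal → CharP.IsCharP 2 ↥N := fun N h =>
    CharP.isCharP_of_normalized (CharP.isCharP_top.2 hchar) le_top
      (Subgroup.normalizer_eq_top_iff.2 h).ge
  rcases hH with h | h
  · exact hN H h
  · set N := (Cfsg.pResidual 2 ↥H).map H.subtype with hNdef
    refine (CharP.isCharP_iff H).2 fun x hxH hx hc => ?_
    have hxN : x ∈ N := ⟨⟨x, hxH⟩, Subgroup.subset_closure (by simpa using hx), rfl⟩
    have hle : CharP.opIn 2 N ≤ CharP.opIn 2 H :=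
      CharP.le_opIn ((CharP.opIn_le N).trans (Subgroup.map_subtype_le _))
        (le_top.trans ((Subgroup.normalizer_eq_top_iff.2 h).ge.trans (CharP.normalizer_le_normalizer_opIn N)))
        (CharP.opIn_isPGroup N)
    exact (CharP.isCharP_iff N).1 (hN N h) x hxN hx fun y hy => hc y (hle hy)

end Cfsg.Agent.S2760

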