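import Cfsg.Statements.S2766
import Cfsg.Agent.Lib.PushUp2.QdC
import Cfsg.Agent.Lib.Solvable.Fitting

set_option autoImplicit false
open Cfsg

namespace Cfsg.Agent.S2766

open Subgroup Cfsg.Agent.PushUp2

variable {H : Type*} [Group H]

open scoped Classical in
/-- Conjugation by `n`, read on the subgroup `G`. -/
noncomputable def fmap (G : Subgroup H) (n : H) (x : ↥G) : ↥G :=
  if h : n * (x : H) * n⁻¹ ∈ G then ⟨_, h⟩ else 1

theorem fmap_val {G : Subgroup H} {n : H} {S : Subgroup ↥G}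
    (hn : n ∈ normalizer ((S.map G.subtype : Subgroup H) : Set H)) {x : ↥G} (hx : x ∈ S) :
    (fmap G n x : H) = n * (x : H) * n⁻¹ ∧ fmap G n x ∈ S := by
  obtain ⟨y, hy, e⟩ := (mem_normalizer_iff.1 hn _).1 (mem_map_of_mem G.subtype hx)
  change (y : H) = n * (x : H) * n⁻¹ at e
  have hm : n * (x : H) * n⁻¹ ∈ G := e ▸ y.2
  have e' : fmap G n x = y := by
    rw [fmap, dif_pos hm]; exact Subtype.ext e.symm
  rw [e']
  exact ⟨e, hy⟩

variable [Finite H] {p : ℕ} [Fact p.Prime]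

theorem normalizer_eq {G : Subgroup H} (hmax : ∀ R : Subgroup H, IsPGroup p ↥R → R ≠ ⊥ →
      G ≤ Subgroup.normalizer (R : Set H) → Subgroup.normalizer (R : Set H) = G)
    {R : Subgroup ↥G} (hR : R.Normal) (hRp : IsPGroup p ↥R) (hne : R ≠ ⊥) :
    normalizer ((R.map G.subtype : Subgroup H) : Set H) = G := by
  refine hmax _ (hRp.map _) (fun e => hne ((map_eq_bot_iff_of_injective _ G.subtype_injective).1 e))
    (fun x hx => mem_normalizer_iff.2 fun y => ⟨?_, ?_⟩)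
  · rintro ⟨r, hr, rfl⟩
    exact ⟨_, hR.conj_mem r hr ⟨x, hx⟩, rfl⟩
  · rintro ⟨r, hr, e⟩
    refine ⟨_, hR.conj_mem' r hr ⟨x, hx⟩, ?_⟩
    show x⁻¹ * (r : H) * x = y
    rw [show (r : H) = x * y * x⁻¹ from e]
    group

theorem foreign {G : Subgroup H} (hmax : ∀ R : Subgroup H, IsPGroup p ↥R → R ≠ ⊥ →
      G ≤ Subgroup.normalizer (R : Set H) → Subgroup.normalizer (R : Set H) = G)
    {S : Subgroup ↥G} (hOS : Cfsg.pCore p ↥G ≤ S) {n : H}
    (hn : n ∈ normalizer ((S.map G.subtype : Subgroup H) : Set H)) (hnG : n ∉ G) :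
    Foreign p S (fmap G n) (fmap G n⁻¹) := by
  have hn' := inv_mem hn
  have hOp : IsPGroup p ↥(Cfsg.pCore p ↥G) := PBasic.pCore_isPGroup p ↥G
  refine ⟨fun s hs => (fmap_val hn hs).2, fun s hs => (fmap_val hn' hs).2, fun s hs => ?_, fun s hs => ?_,
    fun s hs u hu => ?_, fun R R' hR hR' hRO hR'O hne h1 h2 => ?_, fun R hR hRO hne x hx h1 => ?_⟩
  · apply Subtype.ext
    rw [(fmap_val hn (fmap_val hn' hs).2).1, (fmap_val hn' hs).1]; group
  · apply Subtype.ext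
    rw [(fmap_val hn' (fmap_val hn hs).2).1, (fmap_val hn hs).1]; group
  · apply Subtype.ext
    rw [(fmap_val hn (mul_mem hs hu)).1, Subgroup.coe_mul, Subgroup.coe_mul, (fmap_val hn hs).1,
      (fmap_val hn hu).1]
    group
  · have hne' : R' ≠ ⊥ := fun e => hne (eq_bot_iff.2 fun r hr => by
      have h3 := h1 r hr
      rw [e, mem_bot] at h3
      have h4 := (fmap_val hn (hOS (hRO hr))).1
      rw [h3] at h4
      refine mem_bot.2 (Subtype.ext ?_)
      simpa using (conj_eq_one_iff (a := n)).1 h4.symm)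
    have hRR : (R.map G.subtype).map (MulAut.conj n).toMonoidHom = R'.map G.subtype := by
      ext y
      constructor
      · rintro ⟨_, ⟨r, hr, rfl⟩, rfl⟩
        exact ⟨_, h1 r hr, (fmap_val hn (hOS (hRO hr))).1⟩
      · rintro ⟨r, hr, rfl⟩
        refine ⟨_, ⟨_, h2 r hr, rfl⟩, ?_⟩
        show n * (fmap G n⁻¹ r : H) * n⁻¹ = (r : H)
        rw [(fmap_val hn' (hOS (hR'O hr))).1]
        group
    have hGG : G.map (MulAut.conj n).toMonoidHom = G := by
      conv_lhs => rw [← normalizer_eq hmax hR (hOp.to_le hRO) hne]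
      conv_rhs => rw [← normalizer_eq hmax hR' (hOp.to_le hR'O) hne', ← hRR]
      exact map_equiv_normalizer_eq _ (MulAut.conj n)
    have hOn : Cfsg.pCore p ↥G ≠ ⊥ := fun e => hne (eq_bot_iff.2 (e ▸ hRO))
    refine hnG ((normalizer_eq hmax (FittingCores.pCore_normal p) hOp hOn).le ?_)
    let c : ↥G ≃* ↥G := ((MulAut.conj n).subgroupMap G).trans (MulEquiv.subgroupCongr hGG)
    have hc := FittingCores.pCore_map_equiv p c
    refine mem_normalizer_iff.2 fun y => ⟨?_, ?_⟩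
    · rintro ⟨r, hr, rfl⟩
      exact ⟨c r, hc.le ⟨r, hr, rfl⟩, rfl⟩
    · rintro ⟨r, hr, e⟩
      obtain ⟨r₀, hr₀, rfl⟩ := hc.ge hr
      refine ⟨r₀, hr₀, ?_⟩
      have e' : n * (r₀ : H) * n⁻¹ = n * y * n⁻¹ := e
      exact mul_left_cancel (mul_right_cancel e')
  · have hxS : ∀ r ∈ R, x * fmap G n⁻¹ r * x⁻¹ ∈ S := fun r hr =>
      (mem_normalizer_iff.1 hx _).1 (fmap_val hn' (hOS (hRO hr))).2
    have hval : ∀ r ∈ R, (fmap G n (x * fmap G n⁻¹ r * x⁻¹) : H) =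
        n * (x : H) * n⁻¹ * (r : H) * (n * (x : H) * n⁻¹)⁻¹ := fun r hr => by
      rw [(fmap_val hn (hxS r hr)).1, Subgroup.coe_mul, Subgroup.coe_mul, Subgroup.coe_inv,
        (fmap_val hn' (hOS (hRO hr))).1]
      group
    set z := n * (x : H) * n⁻¹ with hz
    have hle : (R.map G.subtype).map (MulAut.conj z).toMonoidHom = R.map G.subtype := by
      refine eq_of_le_of_card_ge ?_ (card_map_of_injective (K := R.map G.subtype)
        (MulAut.conj z).injective).ge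
      rintro _ ⟨_, ⟨r, hr, rfl⟩, rfl⟩
      exact ⟨_, h1 r hr, hval r hr⟩
    have hzn : z ∈ normalizer ((R.map G.subtype : Subgroup H) : Set H) := by
      refine mem_normalizer_iff.2 fun y => ⟨fun hy => hle.le ⟨y, hy, rfl⟩, fun hy => ?_⟩
      obtain ⟨y', hy', e⟩ := hle.ge hy
      have e' : z * y' * z⁻¹ = z * y * z⁻¹ := e
      exact (mul_left_cancel (mul_right_cancel e')) ▸ hy'
    rw [normalizer_eq hmax hR (hOp.to_le hRO) hne] at hzn
    exact ⟨⟨z, hzn⟩, fun r hr => Subtype.ext (hval r hr).symm⟩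

/-- Let p ≥ 5 be prime and G a maximal p-local subgroup of a finite group H (G is the normalizer of a nontrivial p-subgroup and lies in no other such normalizer). Suppose C_G(O_p(G)) ≤ O_p(G), G/K ≅ PSL₂(p^n) for some normal K and n ≥ 1, a Sylow p-subgroup S of G lies in exactly one maximal subgroup of G, and N_H(S) is not contained in G. Then G = G₀ × E for subgroups G₀ ≅ Qd(p^n) (the natural semidirect product of the plane over the field with p^n elements by SL₂) and E an elementary abelian p-group. -/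
theorem result {H : Type*} [Group H] [Finite H] {p : ℕ} [Fact p.Prime] (hp : 5 ≤ p) (G : Subgroup H) (hloc : ∃ R : Subgroup H, IsPGroup p ↥R ∧ R ≠ ⊥ ∧ G = Subgroup.normalizer (R : Set H)) (hmax : ∀ R : Subgroup H, IsPGroup p ↥R → R ≠ ⊥ → G ≤ Subgroup.normalizer (R : Set H) → Subgroup.normalizer (R : Set H) = G) (S : Sylow p ↥G) (hE₁ : Subgroup.centralizer (Cfsg.pCore p ↥G : Set ↥G) ≤ Cfsg.pCore p ↥G) (hE₂ : ∃! M : Subgroup ↥G, IsCoatom M ∧ (S : Subgroup ↥G) ≤ M) (K : Subgroup ↥G) [K.Normal] (F : Type) [Field F] [Fintype F] (n : ℕ) (hn : 1 ≤ n) (hF : Fintype.card F = p ^ n) (hE₃ : Nonempty (↥G ⧸ K ≃* Matrix.ProjectiveSpecialLinearGroup (Fin 2) F)) (hN : ¬ Subgroup.normalizer (((S : Subgroup ↥G).map G.subtype : Subgroup H) : Set H) ≤ G) : ∃ G₀ E : Subgroup H, Cfsg.IsInternalDirectProduct G₀ E G ∧ Cfsg.IsElementaryAbelian p E ∧ Nonempty (↥G₀ ≃* ↥(Cfsg.qdOver F)) := by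
  obtain ⟨e⟩ := hE₃
  obtain ⟨n₀, hn₀, hn₀G⟩ := SetLike.not_le_iff_exists.1 hN
  have hd : ∀ T : Subgroup ↥(S : Subgroup ↥G), T ≠ ⊥ → T.Characteristic →
      ¬ (T.map (S : Subgroup ↥G).subtype).Normal := by
    intro T hT hchar hnorm
    refine hn₀G ((normalizer_eq hmax hnorm ((S.2.to_subgroup T).map _)
      (fun e => hT ((map_eq_bot_iff_of_injective _ (S : Subgroup ↥G).subtype_injective).1 e))).le ?_)
    let Si : Subgroup H := (S : Subgroup ↥G).map G.subtype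
    let ei : ↥(S : Subgroup ↥G) ≃* ↥Si :=
      (S : Subgroup ↥G).equivMapOfInjective G.subtype G.subtype_injective
    let cc : ↥Si ≃* ↥Si := ((MulAut.conj n₀).subgroupMap Si).trans (MulEquiv.subgroupCongr (by
      ext y
      constructor
      · rintro ⟨x, hx, rfl⟩; exact (mem_normalizer_iff.1 hn₀ x).1 hx
      · intro hy
        refine ⟨n₀⁻¹ * y * n₀, ?_, ?_⟩
        · exact (mem_normalizer_iff.1 hn₀ _).2 (by
            rwa [show n₀ * (n₀⁻¹ * y * n₀) * n₀⁻¹ = y by group])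
        · show n₀ * (n₀⁻¹ * y * n₀) * n₀⁻¹ = y
          group))
    let β : ↥(S : Subgroup ↥G) ≃* ↥(S : Subgroup ↥G) := (ei.trans cc).trans ei.symm
    have hβ : ∀ x, (((β x : ↥(S : Subgroup ↥G)) : ↥G) : H) = n₀ * ((x : ↥G) : H) * n₀⁻¹ := fun x => by
      have h1 : ei (β x) = cc (ei x) := ei.apply_symm_apply _
      exact congrArg Subtype.val h1
    have hT' := characteristic_iff_map_eq.1 hchar β
    refine mem_normalizer_iff.2 fun y => ⟨?_, ?_⟩
    · rintro ⟨_, ⟨x, hx, rfl⟩, rfl⟩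
      exact ⟨_, ⟨β x, hT'.le ⟨x, hx, rfl⟩, rfl⟩, hβ x⟩
    · rintro ⟨_, ⟨x, hx, rfl⟩, e'⟩
      obtain ⟨x₀, hx₀, rfl⟩ := hT'.ge hx
      refine ⟨_, ⟨x₀, hx₀, rfl⟩, ?_⟩
      exact mul_left_cancel (mul_right_cancel ((hβ x₀).symm.trans e'))
  obtain ⟨φ, g, hyp, -⟩ := exists_hyp S hE₁ hE₂ K F n hF e hd
  obtain ⟨Φ, ψ, h⟩ := hyp.exists_data
  obtain ⟨b, hb, hb1, hc⟩ := h.exists_crit
  rcases Nat.eq_or_lt_of_le hb1 with rfl | h2
  swap
  · exfalso
    obtain ⟨T, χ, hdeep⟩ := h.exists_deep hb h2 hc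
    obtain rfl : b = 2 := le_antisymm (hdeep.le_two hc) h2
    obtain ⟨f, hf⟩ := hdeep.exists_path hc
    have := (hdeep.structure_two hf).1
    omega
  obtain ⟨t, V₀, E, ht⟩ := h.exists_torus hc hp
  have hOS := hyp.frame.sit.core_le
  have hf := foreign hmax hOS hn₀ hn₀G
  have hf' : Foreign p (S : Subgroup ↥G) (fmap G n₀⁻¹) (fmap G n₀) := by
    have := foreign hmax hOS (inv_mem hn₀) (fun hm => hn₀G (inv_inv n₀ ▸ inv_mem hm))
    rwa [inv_inv] at this
  have hcen : ∀ x ∈ E, ∀ k : ↥G, Commute x k := fun x hx k => ht.E_central hf hf' hx k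
  obtain ⟨G₀, hinf, hsup, ⟨iso⟩⟩ := ht.split hcen
  refine ⟨G₀.map G.subtype, E.map G.subtype, ⟨map_subtype_le _, map_subtype_le _, ?_, ?_, ?_⟩,
    ⟨⟨⟨fun a b => Subtype.ext ?_⟩⟩, ?_⟩,
    ⟨(G₀.equivMapOfInjective G.subtype G.subtype_injective).symm.trans iso⟩⟩
  · rintro _ ⟨a, -, rfl⟩ _ ⟨b, hb, rfl⟩
    exact congrArg Subtype.val (hcen b hb a).eq.symm
  · rw [← map_inf _ _ G.subtype G.subtype_injective, hinf, Subgroup.map_bot]
  · rw [← Subgroup.map_sup, hsup, ← MonoidHom.range_eq_map, range_subtype]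
  · obtain ⟨_, x, hx, rfl⟩ := a
    obtain ⟨_, y, hy, rfl⟩ := b
    exact congrArg (fun z : ↥G => (z : H)) (hcen x hx y).eq
  · rintro _ ⟨x, hx, rfl⟩
    rw [← map_pow, ht.pow_E hx, map_one]

end Cfsg.Agent.S2766
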