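import Cfsg.Statements.S2772
import Cfsg.Agent.Lib.Sims.Small
import Cfsg.Agent.Lib.Transfer.Basic
import Mathlib.GroupTheory.SpecificGroups.Dihedral

set_option linter.style.haveILetI false

set_option autoImplicit false
open Cfsg

namespace Cfsg.Agent.S2772

/-- Sims' Theorem in local form: let H be a finite non-abelian simple group and G a maximal subgroup of H with C_G(O₂(G)) ≤ O₂(G), such that N_H(S) is not contained in G for a Sylow 2-subgroup S of G and G/O₂(G) is dihedral of order 2q for a prime q. Then G is isomorphic to the symmetric group of degree 4 or to its direct product with a group of order 2. -/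
theorem result {H : Type*} [Group H] [Finite H] [IsSimpleGroup H] (hna : ¬ IsMulCommutative H) (G : Subgroup H) (hG : IsCoatom G) (hchar : Subgroup.centralizer (Cfsg.pCore 2 ↥G : Set ↥G) ≤ Cfsg.pCore 2 ↥G) (S : Sylow 2 ↥G) (hN : ¬ Subgroup.normalizer (((S : Subgroup ↥G).map G.subtype : Subgroup H) : Set H) ≤ G) (q : ℕ) (hq : q.Prime) (hD : Nonempty (↥G ⧸ Cfsg.pCore 2 ↥G ≃* DihedralGroup q)) : Nonempty (↥G ≃* Equiv.Perm (Fin 4)) ∨ Nonempty (↥G ≃* Equiv.Perm (Fin 4) × Multiplicative (ZMod 2)) := by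
  classical
  set O := Cfsg.pCore 2 ↥G with hO
  haveI hOn : O.Normal := Cfsg.pCore_normal 2 ↥G
  obtain ⟨e⟩ := hD
  have hOp : IsPGroup 2 ↥O := Cfsg.Agent.PBasic.pCore_isPGroup 2 ↥G
  obtain ⟨k, hk⟩ := IsPGroup.iff_card.1 hOp
  have hGcard : Nat.card ↥G = 2 * q * 2 ^ k := by
    rw [O.card_eq_card_quotient_mul_card_subgroup, Nat.card_congr e.toEquiv,
      DihedralGroup.nat_card, hk]
  have hq2 : q ≠ 2 := by
    rintro rfl
    have hG2 : IsPGroup 2 (⊤ : Subgroup ↥G) :=
      IsPGroup.iff_card.2 ⟨k + 2, by rw [Subgroup.card_top, hGcard]; ring⟩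
    have h2 := Subgroup.card_le_of_le (Cfsg.Agent.PBasic.le_pCore inferInstance hG2)
    rw [Subgroup.card_top, ← hO, hk, hGcard] at h2
    have : 0 < 2 ^ k := pow_pos two_pos k
    omega
  have hGn : Nat.card ↥G = q * 2 ^ (k + 1) := by rw [hGcard]; ring
  have hScard : Nat.card ↥(S : Subgroup ↥G) = 2 ^ (k + 1) := by
    have hqc : Nat.Coprime (2 ^ (k + 1)) q :=
      Nat.Coprime.pow_left _ ((Nat.coprime_primes Nat.prime_two hq).2 (Ne.symm hq2))
    have h1 := S.card_eq_multiplicity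
    rw [h1, hGn, Nat.factorization_mul hq.ne_zero (pow_ne_zero _ two_ne_zero)]
    rw [Finsupp.add_apply, Nat.Prime.factorization_pow Nat.prime_two, Finsupp.single_eq_same,
      hq.factorization, Finsupp.single_eq_of_ne (Ne.symm hq2), zero_add]
  set SH : Subgroup H := (S : Subgroup ↥G).map G.subtype with hSH
  have hSHG : SH ≤ G := Subgroup.map_subtype_le _
  have hSHcard : Nat.card ↥SH = 2 ^ (k + 1) := by
    rw [hSH, Subgroup.card_map_of_injective G.subtype_injective, hScard]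
  obtain ⟨g, hg, hgG⟩ := SetLike.not_le_iff_exists.1 hN
  have hGnorm : Subgroup.normalizer (G : Set H) = G := by
    refine (eq_or_lt_of_le Subgroup.le_normalizer).elim Eq.symm fun h => ?_
    have hn : G.Normal := Subgroup.normalizer_eq_top_iff.1 (hG.2 _ h)
    rcases hn.eq_bot_or_eq_top with h' | h'
    · rw [h', Subgroup.card_bot] at hGn
      have h2 : 2 ≤ 2 ^ (k + 1) := by rw [pow_succ]; exact Nat.le_mul_of_pos_left _ (pow_pos two_pos k)
      have := Nat.le_mul_of_pos_left (2 ^ (k + 1)) hq.pos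
      omega
    · exact absurd h' hG.1
  have hgS : Cfsg.Agent.Sims.tr g 1 SH = SH := by
    ext x
    rw [Cfsg.Agent.Sims.mem_tr, zpow_one]
    have := Subgroup.mem_normalizer_iff.1 (inv_mem hg) x
    rw [inv_inv] at this
    exact this.symm
  have hneG : Cfsg.Agent.Sims.tr g 1 G ≠ G := by
    intro h
    refine hgG (hGnorm.le (Subgroup.mem_normalizer_iff.2 fun y => ?_))
    have h1 : g * y * g⁻¹ ∈ Cfsg.Agent.Sims.tr g 1 G ↔ y ∈ G := by
      rw [Cfsg.Agent.Sims.mem_tr, zpow_one, show g⁻¹ * (g * y * g⁻¹) * g = y by group]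
    rw [h] at h1
    exact h1.symm
  have hinter : G ⊓ Cfsg.Agent.Sims.tr g 1 G = SH := by
    have hle : SH ≤ G ⊓ Cfsg.Agent.Sims.tr g 1 G :=
      le_inf hSHG (hgS.ge.trans (Cfsg.Agent.Sims.tr_mono hSHG))
    obtain ⟨r, hr⟩ := Subgroup.card_dvd_of_le hle
    obtain ⟨r', hr'⟩ := Subgroup.card_dvd_of_le (inf_le_left : G ⊓ Cfsg.Agent.Sims.tr g 1 G ≤ G)
    rw [hGn, hr, hSHcard, mul_comm q, mul_assoc] at hr'
    have h2 : q = r * r' := Nat.eq_of_mul_eq_mul_left (pow_pos two_pos _) hr'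
    rcases (Nat.dvd_prime hq).1 (Dvd.intro _ h2.symm) with h | h
    · exact (Subgroup.eq_of_le_of_card_ge hle (by rw [hr, h, mul_one])).symm
    · exfalso
      have h3 : G ≤ Cfsg.Agent.Sims.tr g 1 G := by
        refine le_of_eq_of_le (Subgroup.eq_of_le_of_card_ge inf_le_left ?_).symm inf_le_right
        rw [hr, hSHcard, h, hGn, mul_comm]
      exact hneG (Subgroup.eq_of_le_of_card_ge h3 (Cfsg.Agent.Sims.card_tr _ _ _).le).symm
  have hSnn : ¬ (S : Subgroup ↥G).Normal := fun h => by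
    have h1 := Subgroup.card_le_of_le (Cfsg.Agent.PBasic.le_pCore h S.isPGroup')
    rw [hScard, ← hO, hk, pow_succ] at h1
    have : 0 < 2 ^ k := pow_pos two_pos k
    omega
  obtain ⟨m, hm⟩ : ∃ m : ↥G, m ∉ Subgroup.normalizer ((S : Subgroup ↥G) : Set ↥G) := by
    by_contra h
    push Not at h
    exact hSnn (Subgroup.normalizer_eq_top_iff.1 ((Subgroup.eq_top_iff' _).2 h))
  have hmG : Cfsg.Agent.Sims.tr (g * m) 1 G = Cfsg.Agent.Sims.tr g 1 G := by
    ext x
    simp only [Cfsg.Agent.Sims.mem_tr, zpow_one]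
    rw [show (g * m)⁻¹ * x * (g * m) = (m : H)⁻¹ * (g⁻¹ * x * g) * m by group,
      G.mul_mem_cancel_right m.2, G.mul_mem_cancel_left (inv_mem m.2)]
  have hint' : G ⊓ Cfsg.Agent.Sims.tr (g * m) 1 G = SH := by rw [hmG, hinter]
  have hOG : 2 ^ (k + 1) ≤ 2 * Nat.card ↥(SH ⊓ Cfsg.Agent.Sims.tr (g * m) 1 SH) := by
    have h1 : Cfsg.Agent.Sims.tr g 1 (O.map G.subtype) ≤
        SH ⊓ Cfsg.Agent.Sims.tr (g * m) 1 SH := by
      have hOS : O ≤ (S : Subgroup ↥G) := Cfsg.Agent.PBasic.pCore_le_sylow S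
      refine le_inf ((Cfsg.Agent.Sims.tr_mono (Subgroup.map_mono hOS)).trans hgS.le) ?_
      intro x hx
      rw [Cfsg.Agent.Sims.mem_tr, zpow_one] at hx ⊢
      obtain ⟨y, hy, hyx⟩ := hx
      refine ⟨m⁻¹ * y * m, hOS ?_, ?_⟩
      · have := hOn.conj_mem y hy m⁻¹
        rwa [inv_inv] at this
      · show ((m : H))⁻¹ * (y : H) * m = _
        rw [show (y : H) = g⁻¹ * x * g from hyx]
        group
    have h2 := Subgroup.card_le_of_le h1
    rw [Cfsg.Agent.Sims.card_tr, Subgroup.card_map_of_injective G.subtype_injective, hk] at h2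
    rw [pow_succ, mul_comm]
    exact Nat.mul_le_mul_left 2 h2
  have hne : Cfsg.Agent.Sims.tr (g * m) 1 SH ≠ SH := by
    intro h
    refine hm (Subgroup.mem_normalizer_iff.2 fun y => ?_)
    have h1 : ∀ z, z ∈ Cfsg.Agent.Sims.tr (g * m) 1 SH ↔ z ∈ Cfsg.Agent.Sims.tr g 1 SH :=
      fun z => by rw [h, hgS]
    have h2 := h1 (g * m * y * (g * m)⁻¹)
    rw [Cfsg.Agent.Sims.mem_tr, Cfsg.Agent.Sims.mem_tr, zpow_one, zpow_one,
      show (g * m)⁻¹ * (g * m * y * (g * m)⁻¹) * (g * m) = (y : H) by group,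
      show g⁻¹ * (g * m * y * (g * m)⁻¹) * g = ((m * y * m⁻¹ : ↥G) : H) by push_cast; group] at h2
    rw [← Subgroup.mem_map_iff_mem (f := G.subtype) G.subtype_injective,
      ← Subgroup.mem_map_iff_mem (f := G.subtype) G.subtype_injective (K := (S : Subgroup ↥G))
        (x := m * y * m⁻¹)]
    exact h2
  let s : Cfsg.Agent.Sims.Setting H :=
    { M := G, g := g * m, n := k + 1, q := q, hq := hq, hq2 := hq2, cardM := hGn
      cardS := by rw [hint', hSHcard]
      ne := by rw [hint']; exact hne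
      half := by rw [hint']; exact hOG
      core := fun N hN hNG hNg => by
        have htop : Subgroup.normalizer (N : Set H) = ⊤ := by
          rcases eq_or_lt_of_le hNG with h | h
          · exfalso
            rw [← h, hmG] at hNg
            exact hneG (Subgroup.eq_of_le_of_card_ge hNg (Cfsg.Agent.Sims.card_tr _ _ _).ge)
          · exact hG.2 _ h
        rcases (Subgroup.normalizer_eq_top_iff.1 htop).eq_bot_or_eq_top with h | h
        · exact h
        · exact absurd (top_le_iff.1 (h.ge.trans (hN.trans inf_le_left))) hG.1 }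
  have hsmall : ¬ k ≤ 1 := by
    intro hk1
    have hcen : Subgroup.centralizer (O : Set ↥G) = ⊤ := by
      refine (Subgroup.eq_top_iff' _).2 fun x => Subgroup.mem_centralizer_iff.2 fun z hz => ?_
      by_cases hz1 : z = 1
      · simp [hz1]
      have hO2 : Nat.card ↥O = 2 := by
        interval_cases k
        · exfalso
          rw [pow_zero] at hk
          exact hz1 (Subgroup.mem_bot.1 ((Subgroup.eq_bot_of_card_eq _ hk).le hz))
        · simpa using hk
      obtain ⟨u, v, -, huv⟩ := Nat.card_eq_two_iff.1 hO2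
      have key : ∀ w : ↥O, w = 1 ∨ w = ⟨z, hz⟩ := by
        intro w
        have h1 : (1 : ↥O) ∈ ({u, v} : Set ↥O) := huv ▸ Set.mem_univ _
        have h2 : (⟨z, hz⟩ : ↥O) ∈ ({u, v} : Set ↥O) := huv ▸ Set.mem_univ _
        have h3 : w ∈ ({u, v} : Set ↥O) := huv ▸ Set.mem_univ _
        have h4 : (⟨z, hz⟩ : ↥O) ≠ 1 := fun h => hz1 (congrArg Subtype.val h)
        simp only [Set.mem_insert_iff, Set.mem_singleton_iff] at h1 h2 h3
        rcases h1 with rfl | rfl <;> rcases h3 with rfl | rfl <;> rcases h2 with h2 | h2 <;>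
          simp_all
      rcases key ⟨x * z * x⁻¹, hOn.conj_mem z hz x⟩ with h | h
      · exact absurd (conj_eq_one_iff.1 (congrArg Subtype.val h)) hz1
      · exact (mul_inv_eq_iff_eq_mul.1 (congrArg Subtype.val h)).symm
    have h1 := Subgroup.card_le_of_le (hcen.ge.trans hchar)
    rw [Subgroup.card_top, hk, hGn, pow_succ] at h1
    have : 0 < 2 ^ k := pow_pos two_pos k
    have := Nat.mul_le_mul_right (2 ^ k * 2) hq.one_le
    omega
  have hn4 : k + 1 ≤ 4 := s.n_le_four
  obtain h | h : s.n = 3 ∨ s.n = 4 := by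
    show k + 1 = 3 ∨ k + 1 = 4
    omega
  · exact Or.inl (s.iso_twentyfour h).2
  · exact Or.inr (s.iso_fortyeight h).2

end Cfsg.Agent.S2772
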