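import Cfsg.Statements.S2774
import Cfsg.Agent.Lib.Transfer3.Main
import Cfsg.Agent.Lib.Functors.TransferApps


set_option autoImplicit false
set_option linter.style.haveILetI false
open Cfsg

namespace Cfsg.Agent.S2774

universe v

theorem term_le {G : Type v} [Group G] [Finite G] {p : ℕ} [Fact p.Prime] (S : Sylow p G) (hS : (S : Subgroup G) ≠ ⊥)
    {W : ∀ (Q : Type v) [Group Q], Subgroup Q} (hW : IsCharPFunctor.{v} p W) :
    (S : Subgroup G) ⊓ ⁅Subgroup.normalizer ((inducedFunctor W (S : Subgroup G) : Subgroup G) : Set G),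
      Subgroup.normalizer ((inducedFunctor W (S : Subgroup G) : Subgroup G) : Set G)⁆ ≤
    ⨆ K : {K : Subgroup ↥(S : Subgroup G) // K ≠ ⊥ ∧ K.Characteristic}, (S : Subgroup G) ⊓ ⁅Subgroup.normalizer ((((K : Subgroup ↥(S : Subgroup G))).map (S : Subgroup G).subtype : Subgroup G) : Set G), Subgroup.normalizer ((((K : Subgroup ↥(S : Subgroup G))).map (S : Subgroup G).subtype : Subgroup G) : Set G)⁆ :=
  le_iSup_of_le ⟨W ↥(S : Subgroup G),
    hW.1 _ S.isPGroup' ((Subgroup.nontrivial_iff_ne_bot _).2 hS),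
    Subgroup.characteristic_iff_map_eq.2 fun φ => hW.2 _ _ S.isPGroup' φ⟩ le_rfl

/-- Let p be an odd prime and S a nontrivial Sylow p-subgroup of a finite group G. Then S ∩ G' is generated by the subgroups S ∩ (N_G(K))' as K ranges over the nontrivial characteristic subgroups of S (derived subgroups of the normalizers). -/
theorem result {G : Type*} [Group G] [Finite G] {p : ℕ} [Fact p.Prime] (hp : p ≠ 2) (S : Sylow p G) (hS : (S : Subgroup G) ≠ ⊥) : (S : Subgroup G) ⊓ commutator G = ⨆ K : {K : Subgroup ↥(S : Subgroup G) // K ≠ ⊥ ∧ K.Characteristic}, (S : Subgroup G) ⊓ ⁅Subgroup.normalizer ((((K : Subgroup ↥(S : Subgroup G))).map (S : Subgroup G).subtype : Subgroup G) : Set G), Subgroup.normalizer ((((K : Subgroup ↥(S : Subgroup G))).map (S : Subgroup G).subtype : Subgroup G) : Set G)⁆ := by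
  refine le_antisymm ?_ (iSup_le fun K => inf_le_inf_left _ ?_)
  · have hp2 := (Fact.out : p.Prime).two_le
    by_cases h3 : p = 3
    · subst h3
      haveI : Fact (Nat.Prime 3) := ⟨Nat.prime_three⟩
      rw [commutator_def, Cfsg.Agent.Functors.tr_top_of_ctl Cfsg.Agent.T3.famZW_char S
        (Cfsg.Agent.T3.ctlTR_three G)]
      refine iSup₂_le fun W hW => ?_
      obtain ⟨W', hW', rfl⟩ := hW
      rw [top_inf_eq]
      exact term_le S hS (Cfsg.Agent.T3.famZW_char W' hW')
    · have h4 : p ≠ 4 := by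
        rintro rfl
        exact absurd (Fact.out : Nat.Prime 4) (by decide)
      rw [Cfsg.Agent.Functors.inf_commutator_eq_of_ctl Cfsg.Agent.Functors.isCharPFunctor_kInfLower
        (Cfsg.Agent.Functors.ctlTR_kInf (by omega) G).1 S]
      exact term_le S hS Cfsg.Agent.Functors.isCharPFunctor_kInfLower
  · rw [commutator_def]
    exact Subgroup.commutator_mono le_top le_top

end Cfsg.Agent.S2774
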