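import Cfsg.Statements.S2779
import Cfsg.Agent.Lib.LocalEven.SL2Nat

set_option autoImplicit false
open Cfsg
open scoped commutatorElement

namespace Cfsg.Agent.S2779

/-- Let L act on the elementary abelian p-group V (inside a finite group, by conjugation, faithfully) as SL₂(F) on its natural module, F a field with p^n elements, and let S be a Sylow p-subgroup of L. Then [V, S, S] = 1; |V| = p^(2n) and |C_V(S)| = p^n; and for every nonidentity s ∈ S and every v ∈ V outside C_V(S): C_V(s) = C_V(S) = [V, S] = [V, s] = the subgroup generated by the commutators [v, t], t ∈ S. -/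
theorem result {G : Type*} [Group G] [Finite G] {p : ℕ} [Fact p.Prime] {F : Type*} [Field F] [Fintype F] (n : ℕ) (hF : Fintype.card F = p ^ n) (V L : Subgroup G) (hnat : Cfsg.IsNaturalSL2Module F V L) (hf : L ⊓ Subgroup.centralizer (V : Set G) = ⊥) (S : Sylow p ↥L) (T : Subgroup G) (hT : T = ((S : Subgroup ↥L).map L.subtype)) : ⁅⁅V, T⁆, T⁆ = ⊥ ∧ Nat.card V = p ^ (2 * n) ∧ Nat.card ↥(V ⊓ Subgroup.centralizer ((T : Subgroup G) : Set G)) = p ^ n ∧ ∀ s ∈ T, s ≠ 1 → (V ⊓ Subgroup.centralizer ({s} : Set G)) = (V ⊓ Subgroup.centralizer ((T : Subgroup G) : Set G)) ∧ ⁅V, T⁆ = (V ⊓ Subgroup.centralizer ((T : Subgroup G) : Set G)) ∧ ⁅V, Subgroup.zpowers s⁆ = (V ⊓ Subgroup.centralizer ((T : Subgroup G) : Set G)) ∧ ∀ v ∈ V, v ∉ Subgroup.centralizer (T : Set G) → Subgroup.closure {x : G | ∃ t ∈ T, x = v * t * v⁻¹ * t⁻¹} = (V ⊓ Subgroup.centralizer ((T : Subgroup G) : Set G)) := by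
  classical
  obtain ⟨D⟩ := LENat.exists_coords hF hnat hf S hT
  set C := V ⊓ Subgroup.centralizer ((T : Subgroup G) : Set G) with hC
  have hmemC : ∀ {x : G} (hx : x ∈ V), x ∈ C ↔ D.crd hx 1 = 0 := fun {x} hx =>
    ⟨fun h => (D.mem_centralizer_T_iff hx).1 (Subgroup.mem_inf.1 h).2,
      fun h => Subgroup.mem_inf.2 ⟨hx, (D.mem_centralizer_T_iff hx).2 h⟩⟩
  have hcomC : ∀ v ∈ V, ∀ t ∈ T, v * t * v⁻¹ * t⁻¹ ∈ C := fun v hv t ht => by
    obtain ⟨htL, b, hb⟩ := (D.hT t).1 ht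
    rw [hmemC (D.commutator_mem hv htL), D.crd_commutator hv htL hb.symm]
    rfl
  have hVT : ⁅V, T⁆ ≤ C := Subgroup.commutator_le.2 hcomC
  refine ⟨?_, ?_, by rw [D.card_cent, hF], fun s hs hs1 => ?_⟩
  · rw [eq_bot_iff, Subgroup.commutator_le]
    intro x hx t ht
    rw [Subgroup.mem_bot, commutatorElement_eq_one_iff_mul_comm]
    exact (Subgroup.mem_centralizer_iff.1 (Subgroup.mem_inf.1 (hVT hx)).2 t ht).symm
  · rw [D.card_V, hF]; ring
  obtain ⟨hsL, b, hb⟩ := (D.hT s).1 hs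
  have hb0 : b ≠ 0 := fun h => hs1 (by
    have : D.e ⟨s, hsL⟩ = 1 := by rw [← hb, h, LENat.upp_zero]
    exact congrArg Subtype.val (D.e.map_eq_one_iff.1 this))
  -- every element of the centralizer is a commutator of a suitable element
  have hsurj : ∀ x ∈ C, ∀ v (hv : v ∈ V), D.crd hv 1 ≠ 0 → ∃ (t : G) (_ : t ∈ T), x = v * t * v⁻¹ * t⁻¹ := by
    intro x hx v hv hv1
    obtain ⟨t, ht, htT, he⟩ := D.exists_upp (b := -(D.crd (Subgroup.mem_inf.1 hx).1 0 / D.crd hv 1))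
    refine ⟨t, htT, D.crd_inj (hx := (Subgroup.mem_inf.1 hx).1) (hy := D.commutator_mem hv ht) ?_⟩
    rw [D.crd_commutator hv ht he]
    funext i
    fin_cases i
    · simp [hv1]
    · exact (hmemC _).1 hx
  have hVs : ⁅V, Subgroup.zpowers s⁆ = C := by
    refine le_antisymm ((Subgroup.commutator_mono le_rfl (Subgroup.zpowers_le.2 hs)).trans hVT) fun x hx => ?_
    obtain ⟨v, hv, hve⟩ := D.crd_surj ![0, -(D.crd (Subgroup.mem_inf.1 hx).1 0 / b)]
    have : x = v * s * v⁻¹ * s⁻¹ := by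
      refine D.crd_inj (hx := (Subgroup.mem_inf.1 hx).1) (hy := D.commutator_mem hv hsL) ?_
      rw [D.crd_commutator hv hsL hb.symm, hve]
      funext i
      fin_cases i
      · show D.crd _ 0 = -(b * -(_ / b))
        rw [mul_neg, neg_neg, mul_div_cancel₀ _ hb0]
      · exact (hmemC _).1 hx
    rw [this]
    exact Subgroup.commutator_mem_commutator hv (Subgroup.mem_zpowers s)
  refine ⟨?_, ?_, hVs, fun v hv hvC => ?_⟩
  · refine le_antisymm (fun x hx => ?_) (inf_le_inf_left V (Subgroup.centralizer_le (by simpa using hs)))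
    obtain ⟨hxV, hxs⟩ := Subgroup.mem_inf.1 hx
    rw [hmemC hxV]
    have h := congrFun ((D.commute_iff hsL hxV).1 (Subgroup.mem_centralizer_iff.1 hxs s rfl)) 0
    rw [← hb, LENat.upp_mulVec] at h
    simpa [hb0] using h
  · exact le_antisymm hVT (hVs ▸ Subgroup.commutator_mono le_rfl (Subgroup.zpowers_le.2 hs))
  · refine le_antisymm ((Subgroup.closure_le _).2 ?_) fun x hx => ?_
    · rintro _ ⟨t, ht, rfl⟩
      exact hcomC v hv t ht
    · obtain ⟨t, ht, rfl⟩ := hsurj x hx v hv (fun h => hvC ((D.mem_centralizer_T_iff hv).2 h))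
      exact Subgroup.subset_closure ⟨t, ht, rfl⟩

end Cfsg.Agent.S2779

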