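import Cfsg.Statements.S2780
import Cfsg.Agent.Lib.LocalEven.SL2Nat

set_option autoImplicit false
open Cfsg

namespace Cfsg.Agent.S2780

/-- Let L act on the elementary abelian p-group V (inside a finite group, faithfully) as SL₂(F) on its natural module, F a field with p^n elements, S a Sylow p-subgroup of L. Then: for every g ∈ L not normalizing S, V is the internal direct product of C_V(S) and C_V(gSg⁻¹); every nonidentity element of L of order prime to p acts on V without nonidentity fixed points; and C_V(S) and V/C_V(S) are irreducible for N_L(S): the only N_L(S)-invariant subgroups of C_V(S) are 1 and C_V(S), and the only N_L(S)-invariant subgroups between C_V(S) and V are those two. -/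
theorem result {G : Type*} [Group G] [Finite G] {p : ℕ} [Fact p.Prime] {F : Type*} [Field F] [Fintype F] (n : ℕ) (hF : Fintype.card F = p ^ n) (V L : Subgroup G) (hnat : Cfsg.IsNaturalSL2Module F V L) (hf : L ⊓ Subgroup.centralizer (V : Set G) = ⊥) (S : Sylow p ↥L) (T : Subgroup G) (hT : T = ((S : Subgroup ↥L).map L.subtype)) : (∀ g ∈ L, g ∉ Subgroup.normalizer (T : Set G) → Cfsg.IsInternalDirectProduct (V ⊓ Subgroup.centralizer ((T : Subgroup G) : Set G)) (V ⊓ Subgroup.centralizer ((T.map (MulAut.conj g).toMonoidHom : Subgroup G) : Set G)) V) ∧ (∀ x ∈ L, x ≠ 1 → (orderOf x).Coprime p → (V ⊓ Subgroup.centralizer ({x} : Set G)) = ⊥) ∧ (∀ U : Subgroup G, U ≤ (V ⊓ Subgroup.centralizer ((T : Subgroup G) : Set G)) → L ⊓ Subgroup.normalizer (T : Set G) ≤ Subgroup.normalizer (U : Set G) → U = ⊥ ∨ U = (V ⊓ Subgroup.centralizer ((T : Subgroup G) : Set G))) ∧ (∀ U : Subgroup G, (V ⊓ Subgroup.centralizer ((T : Subgroup G) : Set G)) ≤ U → U ≤ V →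 L ⊓ Subgroup.normalizer (T : Set G) ≤ Subgroup.normalizer (U : Set G) → U = (V ⊓ Subgroup.centralizer ((T : Subgroup G) : Set G)) ∨ U = V) := by
  classical
  haveI := LENat.charP_of_card (p := p) hF
  obtain ⟨D⟩ := LENat.exists_coords hF hnat hf S hT
  set C := V ⊓ Subgroup.centralizer ((T : Subgroup G) : Set G) with hC
  have hmemC : ∀ {x : G} (hx : x ∈ V), x ∈ C ↔ D.crd hx 1 = 0 := fun {x} hx =>
    ⟨fun h => (D.mem_centralizer_T_iff hx).1 (Subgroup.mem_inf.1 h).2,
      fun h => Subgroup.mem_inf.2 ⟨hx, (D.mem_centralizer_T_iff hx).2 h⟩⟩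
  -- diagonal elements normalize `T`
  have hdia : ∀ (a : F) (ha : a ≠ 0), ∃ (l : G) (hl : l ∈ L), D.e ⟨l, hl⟩ = LENat.dia a ha ∧
      l ∈ Subgroup.normalizer (T : Set G) := by
    intro a ha
    refine ⟨_, (D.e.symm (LENat.dia a ha)).2, by simp, ?_⟩
    rw [← LEBasic.map_conj_eq_iff_mem_normalizer]
    refine Subgroup.eq_of_le_of_card_ge ?_ (LEBasic.card_map_conj T _).ge
    rintro _ ⟨t, ht, rfl⟩
    obtain ⟨htL, b, hb⟩ := (D.hT t).1 ht
    refine (D.hT _).2 ⟨mul_mem (mul_mem (D.e.symm (LENat.dia a ha)).2 htL) (inv_mem (D.e.symm (LENat.dia a ha)).2), ?_⟩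
    refine LENat.mem_U.2 ⟨a * a * b, ?_⟩
    have : D.e (D.e.symm (LENat.dia a ha) * ⟨t, htL⟩ * (D.e.symm (LENat.dia a ha))⁻¹) = LENat.upp (a * a * b) := by
      rw [map_mul, map_mul, map_inv, D.e.apply_symm_apply, ← hb, mul_inv_eq_iff_eq_mul]
      apply Subtype.ext
      simp [LENat.upp_val, LENat.dia_val]
      field_simp
    exact this.symm
  refine ⟨fun g hg hgN => ?_, fun x hx hx1 hxp => ?_, fun W hWC hWN => ?_, fun W hCW hWV hWN => ?_⟩
  · set A : Matrix (Fin 2) (Fin 2) F := ((D.e ⟨g, hg⟩ : Matrix.SpecialLinearGroup (Fin 2) F) : Matrix (Fin 2) (Fin 2) F) with hA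
    have hc : A 1 0 ≠ 0 := by
      intro hc
      apply hgN
      rw [← LEBasic.map_conj_eq_iff_mem_normalizer]
      refine Subgroup.eq_of_le_of_card_ge ?_ (LEBasic.card_map_conj T g).ge
      rintro _ ⟨t, ht, rfl⟩
      obtain ⟨htL, b, hb⟩ := (D.hT t).1 ht
      refine (D.hT _).2 ⟨mul_mem (mul_mem hg htL) (inv_mem hg), LENat.mem_U_iff_fix.2 ?_⟩
      have : D.e (⟨g, hg⟩ * ⟨t, htL⟩ * ⟨g, hg⟩⁻¹) = D.e ⟨g, hg⟩ * LENat.upp b * (D.e ⟨g, hg⟩)⁻¹ := by
        rw [map_mul, map_mul, map_inv, hb]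
      show ((D.e (⟨g, hg⟩ * ⟨t, htL⟩ * ⟨g, hg⟩⁻¹) : Matrix.SpecialLinearGroup (Fin 2) F) : Matrix (Fin 2) (Fin 2) F).mulVec _ = _
      have ha : A 0 0 ≠ 0 := fun ha => by
        have hd := (D.e ⟨g, hg⟩).prop
        rw [Matrix.det_fin_two, ← hA, ha, hc] at hd
        simp at hd
      have hfix : ![(1 : F), 0] = A.mulVec ![(A 0 0)⁻¹, 0] := by
        rw [LENat.mulVec_two]; simp [hc, ha]
      rw [this, hfix, LENat.mul_mulVec, LENat.mul_mulVec, ← LENat.mul_mulVec _ (D.e ⟨g, hg⟩), inv_mul_cancel,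
        Matrix.SpecialLinearGroup.coe_one, Matrix.one_mulVec, LENat.upp_mulVec]
      simp [← hA]
    set C' := V ⊓ Subgroup.centralizer ((T.map (MulAut.conj g).toMonoidHom : Subgroup G) : Set G) with hC'
    have hC'mem : ∀ {y : G} (hy : y ∈ V), g * y * g⁻¹ ∈ C' ↔ y ∈ C := by
      intro y hy
      rw [hC', hC, Subgroup.mem_inf, Subgroup.mem_inf, Subgroup.mem_centralizer_iff, Subgroup.mem_centralizer_iff]
      refine ⟨fun h => ⟨hy, fun t ht => ?_⟩, fun h => ⟨D.conj_mem hg hy, ?_⟩⟩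
      · have h2 := h.2 (g * t * g⁻¹) ⟨t, ht, rfl⟩
        refine mul_left_cancel (a := g) (mul_right_cancel (b := g⁻¹) ?_)
        simpa [mul_assoc] using h2
      · rintro _ ⟨t, ht, rfl⟩
        have h2 : t * y = y * t := h.2 t ht
        show g * t * g⁻¹ * (g * y * g⁻¹) = g * y * g⁻¹ * (g * t * g⁻¹)
        calc g * t * g⁻¹ * (g * y * g⁻¹) = g * (t * y) * g⁻¹ := by group
          _ = g * y * g⁻¹ * (g * t * g⁻¹) := by rw [h2]; group
    refine ⟨inf_le_left, inf_le_left, ?_, ?_, ?_⟩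
    · intro a ha b hb
      have h : (⟨a, (Subgroup.mem_inf.1 ha).1⟩ : V) * ⟨b, (Subgroup.mem_inf.1 hb).1⟩ =
          ⟨b, (Subgroup.mem_inf.1 hb).1⟩ * ⟨a, (Subgroup.mem_inf.1 ha).1⟩ := by
        refine Additive.ofMul.injective (D.c.injective ?_)
        rw [ofMul_mul, ofMul_mul, map_add, map_add, add_comm]
      exact congrArg Subtype.val h
    · rw [eq_bot_iff]
      intro x hx
      obtain ⟨hxC, hxC'⟩ := Subgroup.mem_inf.1 hx
      have hxV := (Subgroup.mem_inf.1 hxC).1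
      set y := g⁻¹ * x * g with hy
      have hyV : y ∈ V := by simpa using D.conj_mem (inv_mem hg) hxV
      have hxy : x = g * y * g⁻¹ := by rw [hy]; group
      rw [hxy, hC'mem hyV, hmemC hyV] at hxC'
      have h1 := congrFun (D.crd_conj hg hyV) 1
      rw [LENat.mulVec_two, hxC', ← hA] at h1
      have h2 : D.crd (D.conj_mem hg hyV) 1 = 0 := (hmemC _).1 (hxy ▸ hxC)
      have h3 : A 1 0 * D.crd hyV 0 = 0 := by simpa [h2] using h1.symm
      have hy0 : D.crd hyV = 0 := funext fun i => by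
        fin_cases i
        · exact (mul_eq_zero.1 h3).resolve_left hc
        · exact hxC'
      have hy1 : y = 1 := D.crd_inj (hx := hyV) (hy := one_mem V) (hy0.trans D.crd_one.symm)
      rw [Subgroup.mem_bot, hxy, hy1, mul_one, mul_inv_cancel]
    · refine le_antisymm (sup_le inf_le_left inf_le_left) fun x hx => ?_
      obtain ⟨y, hy, hye⟩ := D.crd_surj ![D.crd hx 1 / A 1 0, 0]
      obtain ⟨z, hz, hze⟩ := D.crd_surj ![D.crd hx 0 - A 0 0 * (D.crd hx 1 / A 1 0), 0]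
      have : x = z * (g * y * g⁻¹) := by
        refine D.crd_inj (hx := hx) (hy := mul_mem hz (D.conj_mem hg hy)) ?_
        rw [D.crd_mul hz (D.conj_mem hg hy), D.crd_conj hg hy, hze, hye, LENat.mulVec_two, ← hA]
        funext i
        fin_cases i
        · simp
        · simp [mul_div_cancel₀, hc]
      rw [this]
      exact Subgroup.mul_mem_sup ((hmemC hz).2 (by rw [hze]; rfl)) ((hC'mem hy).2 ((hmemC hy).2 (by rw [hye]; rfl)))
  · rw [eq_bot_iff]
    intro v hv
    obtain ⟨hvV, hvx⟩ := Subgroup.mem_inf.1 hv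
    rw [Subgroup.mem_bot]
    by_contra hne
    have h := (D.commute_iff hx hvV).1 (Subgroup.mem_centralizer_iff.1 hvx x rfl)
    have hpow := LENat.pow_eq_one_of_fix (p := p) (fun h0 => hne (D.crd_inj (hx := hvV) (hy := one_mem V) (h0.trans D.crd_one.symm))) h
    rw [← map_pow, MulEquiv.map_eq_one_iff] at hpow
    have hxpow : x ^ p = 1 := congrArg Subtype.val hpow
    exact hx1 (orderOf_eq_one_iff.1 (Nat.eq_one_of_dvd_coprimes hxp.symm (orderOf_dvd_of_pow_eq_one hxpow) dvd_rfl))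
  · by_cases hW : W = ⊥
    · exact Or.inl hW
    refine Or.inr (le_antisymm hWC fun x hx => ?_)
    obtain ⟨w, hw, hw1⟩ := (Subgroup.bot_or_exists_ne_one W).resolve_left hW
    obtain ⟨hwV, hwC⟩ := Subgroup.mem_inf.1 (hWC hw)
    obtain ⟨hxV, hxC⟩ := Subgroup.mem_inf.1 hx
    have hw10 : D.crd hwV 1 = 0 := (D.mem_centralizer_T_iff hwV).1 hwC
    have hx10 : D.crd hxV 1 = 0 := (D.mem_centralizer_T_iff hxV).1 hxC
    have hw0 : D.crd hwV 0 ≠ 0 := fun h0 => hw1 (D.crd_inj (hx := hwV) (hy := one_mem V) (by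
      rw [D.crd_one]; funext i; fin_cases i <;> assumption))
    by_cases hx0 : D.crd hxV 0 = 0
    · rw [D.crd_inj (hx := hxV) (hy := one_mem V) (by rw [D.crd_one]; funext i; fin_cases i <;> assumption)]
      exact one_mem W
    obtain ⟨l, hl, hle, hlN⟩ := hdia (D.crd hxV 0 / D.crd hwV 0) (div_ne_zero hx0 hw0)
    have : x = l * w * l⁻¹ := by
      refine D.crd_inj (hx := hxV) (hy := D.conj_mem hl hwV) ?_
      rw [D.crd_conj hl hwV, hle, LENat.dia_mulVec]
      funext i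
      fin_cases i
      · simp [hw0]
      · simp [hw10, hx10]
    rw [this]
    exact (Subgroup.mem_normalizer_iff.1 (hWN (Subgroup.mem_inf.2 ⟨hl, hlN⟩)) w).1 hw
  · by_cases hW : W ≤ C
    · exact Or.inl (le_antisymm hW hCW)
    refine Or.inr (le_antisymm hWV fun x hx => ?_)
    obtain ⟨w, hw, hwC⟩ := SetLike.not_le_iff_exists.1 hW
    have hwV := hWV hw
    have hw1 : D.crd hwV 1 ≠ 0 := fun h => hwC ((hmemC hwV).2 h)
    by_cases hx1 : D.crd hx 1 = 0
    · exact hCW ((hmemC hx).2 hx1)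
    obtain ⟨l, hl, hle, hlN⟩ := hdia (D.crd hwV 1 / D.crd hx 1) (div_ne_zero hw1 hx1)
    have hlw : l * w * l⁻¹ ∈ W := (Subgroup.mem_normalizer_iff.1 (hWN (Subgroup.mem_inf.2 ⟨hl, hlN⟩)) w).1 hw
    obtain ⟨z, hz, hze⟩ := D.crd_surj ![D.crd hx 0 - D.crd hwV 1 / D.crd hx 1 * D.crd hwV 0, 0]
    have : x = z * (l * w * l⁻¹) := by
      refine D.crd_inj (hx := hx) (hy := mul_mem hz (D.conj_mem hl hwV)) ?_
      rw [D.crd_mul hz (D.conj_mem hl hwV), D.crd_conj hl hwV, hze, hle, LENat.dia_mulVec]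
      funext i
      fin_cases i
      · simp
      · simp; field_simp
    rw [this]
    exact mul_mem (hCW ((hmemC hz).2 (by rw [hze]; rfl))) hlw

end Cfsg.Agent.S2780

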