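import Cfsg.Statements.S2781
import Cfsg.Agent.Lib.LocalEven.Norm

set_option autoImplicit false
open Cfsg
open scoped commutatorElement

namespace Cfsg.Agent.S2781

/-- Let H act faithfully by conjugation on the elementary abelian p-subgroup V of a finite group, let O^p(H) be the subgroup of H generated by its elements of order prime to p, and T a Sylow p-subgroup of O^p(H). If V is generated by the H-conjugates of C_V(T) (V is the smallest H-invariant subgroup containing C_V(T)), then V = [V, O^p(H)]·C_V(O^p(H)). -/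
theorem result {G : Type*} [Group G] [Finite G] {p : ℕ} [Fact p.Prime] (V H : Subgroup G) (hV : Cfsg.IsElementaryAbelian p V) (hHV : H ≤ Subgroup.normalizer (V : Set G)) (hf : H ⊓ Subgroup.centralizer (V : Set G) = ⊥) (R : Subgroup G) (hR : R = (Cfsg.pResidual p ↥H).map H.subtype) (S : Sylow p ↥R) (T : Subgroup G) (hT : T = ((S : Subgroup ↥R).map R.subtype)) (hgen : ∀ W : Subgroup G, H ≤ Subgroup.normalizer (W : Set G) → (V ⊓ Subgroup.centralizer ((T : Subgroup G) : Set G)) ≤ W → V ≤ W) : ⁅V, R⁆ ⊔ (V ⊓ Subgroup.centralizer ((R : Subgroup G) : Set G)) = V := by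
  classical
  subst hT
  have hVc : IsMulCommutative ↥V := hV.1
  have hRH : R ≤ H := hR ▸ Subgroup.map_subtype_le _
  have hRn : H ≤ Subgroup.normalizer (R : Set G) := by
    haveI : (Cfsg.pResidual p ↥H).Characteristic := Cfsg.Agent.LEBasic.pResidual_characteristic
    intro g hg
    rw [hR]
    exact Cfsg.Agent.LEBasic.le_normalizer_map_of_characteristic (H := H) (C := Cfsg.pResidual p ↥H)
      inferInstance (Subgroup.le_normalizer hg)
  set W := ⁅V, R⁆ ⊔ (V ⊓ Subgroup.centralizer ((R : Subgroup G) : Set G)) with hW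
  have hcV : ∀ r ∈ R, ∀ v ∈ V, r * v * r⁻¹ ∈ V := fun r hr v hv =>
    (Subgroup.mem_normalizer_iff.1 (hHV (hRH hr)) v).1 hv
  have hVR : ⁅V, R⁆ ≤ V := Subgroup.le_normalizer_iff_commutator_le_left.1 (hRH.trans hHV)
  have hWV : W ≤ V := sup_le hVR inf_le_left
  refine le_antisymm hWV (hgen W ?_ ?_)
  · intro g hg
    rw [← Cfsg.Agent.LEBasic.map_conj_eq_iff_mem_normalizer, hW, Subgroup.map_sup, Subgroup.map_commutator,
      Subgroup.map_inf _ _ _ (MulAut.conj g).injective,
      Cfsg.Agent.LEBasic.map_conj_eq_iff_mem_normalizer.2 (hHV hg),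
      Cfsg.Agent.LEBasic.map_conj_eq_iff_mem_normalizer.2 (hRn hg)]
    congr 2
    ext x
    rw [Cfsg.Agent.LEBasic.mem_map_conj, Subgroup.mem_centralizer_iff, Subgroup.mem_centralizer_iff]
    constructor
    · intro h r hr
      have h1 := h _ ((Subgroup.mem_normalizer_iff''.1 (hRn hg) r).1 hr)
      calc r * x = g * ((g⁻¹ * r * g) * (g⁻¹ * x * g)) * g⁻¹ := by simp [mul_assoc]
        _ = g * ((g⁻¹ * x * g) * (g⁻¹ * r * g)) * g⁻¹ := by rw [h1]
        _ = x * r := by simp [mul_assoc]
    · intro h r hr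
      have h1 := h _ ((Subgroup.mem_normalizer_iff.1 (hRn hg) r).1 hr)
      calc r * (g⁻¹ * x * g) = g⁻¹ * (g * r * g⁻¹ * x) * g := by simp [mul_assoc]
        _ = g⁻¹ * (x * (g * r * g⁻¹)) * g := by rw [h1]
        _ = g⁻¹ * x * g * r := by simp [mul_assoc]
  · intro v hv
    obtain ⟨hvV, hvT⟩ := Subgroup.mem_inf.1 hv
    have := Fintype.ofFinite (↥R ⧸ (S : Subgroup ↥R))
    open scoped IsMulCommutative in
    let c : ↥R → ↥V →* ↥V := fun r =>
      { toFun := fun w => ⟨(r : G) * w * (r : G)⁻¹, hcV r r.2 w w.2⟩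
        map_one' := Subtype.ext (by simp)
        map_mul' := fun a b => Subtype.ext (by simp [mul_assoc]) }
    let f : ↥R ⧸ (S : Subgroup ↥R) → ↥V := fun q => Quotient.liftOn' q (fun r => c r ⟨v, hvV⟩) (fun a b hab => by
      rw [QuotientGroup.leftRel_apply] at hab
      have h1 := Subgroup.mem_centralizer_iff.1 hvT _ ⟨a⁻¹ * b, hab, rfl⟩
      apply Subtype.ext
      show (a : G) * v * (a : G)⁻¹ = (b : G) * v * (b : G)⁻¹
      simp only [Subgroup.coe_subtype, Subgroup.coe_mul, Subgroup.coe_inv] at h1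
      calc (a : G) * v * (a : G)⁻¹ = (a : G) * (v * ((a : G)⁻¹ * b)) * (b : G)⁻¹ := by simp [mul_assoc]
        _ = (a : G) * (((a : G)⁻¹ * b) * v) * (b : G)⁻¹ := by rw [h1]
        _ = (b : G) * v * (b : G)⁻¹ := by simp [mul_assoc])
    have hf : ∀ r q, c r (f q) = f (r • q) := by
      intro r q
      induction q using QuotientGroup.induction_on with
      | H s =>
        apply Subtype.ext
        show (r : G) * ((s : G) * v * (s : G)⁻¹) * (r : G)⁻¹ = ((r * s : ↥R) : G) * v * ((r * s : ↥R) : G)⁻¹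
        simp [mul_assoc]
    open scoped IsMulCommutative in
    have key : v ^ (S : Subgroup ↥R).index ∈ W := by
      set τ : ↥V := ∏ q, f q with hτ
      have hτc : (τ : G) ∈ Subgroup.centralizer ((R : Subgroup G) : Set G) := by
        refine Subgroup.mem_centralizer_iff.2 fun r hr => ?_
        have h1 : c ⟨r, hr⟩ τ = τ := by
          rw [hτ, map_prod]
          simp only [hf]
          exact Equiv.prod_comp (MulAction.toPerm (⟨r, hr⟩ : ↥R)) f
        have h2 : r * (τ : G) * r⁻¹ = τ := congrArg Subtype.val h1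
        calc r * (τ : G) = r * (τ : G) * r⁻¹ * r := by simp [mul_assoc]
          _ = (τ : G) * r := by rw [h2]
      have hprod : (∏ q, f q * (⟨v, hvV⟩ : ↥V)⁻¹) ∈ (⁅V, R⁆).subgroupOf V := by
        refine Subgroup.prod_mem _ fun q _ => ?_
        induction q using QuotientGroup.induction_on with
        | H s =>
          show (s : G) * v * (s : G)⁻¹ * v⁻¹ ∈ ⁅V, R⁆
          have := inv_mem (Subgroup.commutator_mem_commutator hvV s.2 (H₁ := V) (H₂ := R))
          simpa [commutatorElement_def, mul_assoc] using this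
      rw [Finset.prod_mul_distrib, Finset.prod_const, Finset.card_univ, ← Nat.card_eq_fintype_card,
        ← Subgroup.index_eq_card, ← hτ, Subgroup.mem_subgroupOf] at hprod
      simp only [Subgroup.coe_mul, SubmonoidClass.coe_pow, Subgroup.coe_inv, inv_pow] at hprod
      have h3 : v ^ (S : Subgroup ↥R).index = ((τ : G) * (v ^ (S : Subgroup ↥R).index)⁻¹)⁻¹ * τ := by simp [mul_assoc]
      rw [h3]
      exact mul_mem (Subgroup.mem_sup_left (inv_mem hprod))
        (Subgroup.mem_sup_right (Subgroup.mem_inf.2 ⟨τ.2, hτc⟩))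
    exact Cfsg.Agent.LENorm.mem_of_pow_mem Fact.out (hV.2 v hvV) S.not_dvd_index key

end Cfsg.Agent.S2781

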