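import Cfsg.Statements.S2787
import Cfsg.Agent.Lib.LocalEven.ReeQuad
-- import your own Cfsg.Agent.* helpers here

set_option autoImplicit false
open Cfsg

namespace Cfsg.Agent.S2787

/-- A pair with the required relations kills a quadratic operator. -/
theorem eq_one_of_pair {R : Type*} [Ring R] {p : ℕ} (hp : p.Prime) (hp2 : p ≠ 2) (h0 : (p : R) = 0)
    {Q : Type*} [Group Q] (f : Q →* R) (hf : ∀ a, f a = 1 → a = 1) (a g : Q)
    (hquad : (f a - 1) * (f a - 1) = 0)
    (h : (a ≠ g * a * g⁻¹ ∧ a * (g * a * g⁻¹) * a = g * a * g⁻¹ * a * (g * a * g⁻¹) ∧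
      (a * (g * a * g⁻¹) * a) * (a * (g * a * g⁻¹) * a) = 1) ∨
      (p = 3 ∧ (a * (g * a * g⁻¹)) ^ 7 = 1 ∧ (a * (g * a * g⁻¹)⁻¹) ^ 9 = 1 ∧ a * (g * a * g⁻¹) ≠ 1)) :
    False := by
  obtain ⟨b, hb⟩ : ∃ b, b = g * a * g⁻¹ := ⟨_, rfl⟩
  rw [← hb] at h
  have hinj : ∀ x y, f x = f y → x = y := fun x y e => mul_inv_eq_one.1
    (hf _ (by rw [map_mul, e, ← map_mul, mul_inv_cancel, map_one]))
  obtain ⟨u, hu⟩ : ∃ u, u = f a - 1 := ⟨_, rfl⟩
  obtain ⟨v, hv⟩ : ∃ v, v = f b - 1 := ⟨_, rfl⟩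
  have ea : f a = 1 + u := by rw [hu, add_sub_cancel]
  have eb : f b = 1 + v := by rw [hv, add_sub_cancel]
  have huu : u * u = 0 := hu ▸ hquad
  have hg : f g * f g⁻¹ = 1 := by rw [← map_mul, mul_inv_cancel, map_one]
  have hg' : f g⁻¹ * f g = 1 := by rw [← map_mul, inv_mul_cancel, map_one]
  have hv' : v = f g * u * f g⁻¹ := by
    rw [hv, hb, hu, map_mul, map_mul, mul_sub, mul_one, sub_mul, hg]
  have hvv : v * v = 0 := by
    rw [hv', show f g * u * f g⁻¹ * (f g * u * f g⁻¹) = f g * (u * ((f g⁻¹ * f g) * u)) * f g⁻¹ by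
      simp only [mul_assoc], hg', one_mul, huu, mul_zero, zero_mul]
  rcases h with ⟨hne, h1, h2⟩ | ⟨rfl, h7, h9, hne⟩
  · refine hne (hinj _ _ ?_)
    have e1 := congrArg f h1
    have e2 := congrArg f h2
    simp only [map_mul, map_one, ea, eb] at e1 e2
    have h2' : ∀ x : R, 2 * x = 0 → x = 0 := fun x hx => by
      obtain ⟨k, hk⟩ := hp.odd_of_ne_two hp2
      have e : (p : R) * x = (k : R) * (2 * x) + x := by
        rw [hk, Nat.cast_add, Nat.cast_mul, Nat.cast_one, Nat.cast_ofNat, add_mul, one_mul, ← mul_assoc,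
          (Nat.cast_commute k (2 : R)).eq]
      rwa [h0, zero_mul, hx, mul_zero, zero_add, eq_comm] at e
    rw [ea, eb, Cfsg.Agent.QuadPair.braid huu hvv h2' e1 e2]
  · rcases subsingleton_or_nontrivial R with hR | hR
    · exact hne (hinj _ _ (Subsingleton.elim _ _))
    haveI : CharP R 3 := by
      obtain ⟨c, hc⟩ := CharP.exists R
      haveI := hc
      rcases (Nat.dvd_prime Nat.prime_three).1 ((CharP.cast_eq_zero_iff R c 3).1 h0) with rfl | rfl
      · exact absurd rfl (CharP.char_ne_one R 1)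
      · exact hc
    have eb' : f b⁻¹ = 1 - v := by
      have h1 : f b * f b⁻¹ = 1 := by rw [← map_mul, mul_inv_cancel, map_one]
      have h2 : (1 - v) * f b = 1 := by
        rw [eb, sub_mul, one_mul, mul_add, mul_one, hvv, add_zero, add_sub_cancel_right]
      calc f b⁻¹ = (1 - v) * f b * f b⁻¹ := by rw [h2, one_mul]
        _ = _ := by rw [mul_assoc, h1, mul_one]
    have e7 := congrArg f h7
    have e9 := congrArg f h9
    simp only [map_mul, map_pow, map_one, ea, eb, eb'] at e7 e9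
    refine hne (hf _ ?_)
    rw [map_mul, ea, eb]
    exact Cfsg.Agent.QuadPair.seven_nine huu hvv e7 e9

/-- Let p be a prime and let H act by conjugation on the elementary abelian p-subgroup V of a finite group, irreducibly (no H-invariant subgroups of V other than 1 and V) and nontrivially, and suppose H/C_H(V) is isomorphic to PSL₂(F) for a field F with p^n elements, p^n odd, or p = 3 and H/C_H(V) is isomorphic to a Ree group ²G₂(3^(2m+1)), m ≥ 1. Then no subgroup A of H acting nontrivially on V acts quadratically: [V, A, A] = 1 forces [V, A] = 1. -/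
theorem result {G : Type*} [Group G] [Finite G] {p : ℕ} [Fact p.Prime] (V H : Subgroup G) (hV : Cfsg.IsElementaryAbelian p V) (hHV : H ≤ Subgroup.normalizer (V : Set G)) (hirr : ∀ U : Subgroup G, U ≤ V → H ≤ Subgroup.normalizer (U : Set G) → U = ⊥ ∨ U = V) (hnt : ¬ H ≤ Subgroup.centralizer (V : Set G)) [hn : ((Subgroup.centralizer (V : Set G)).subgroupOf H).Normal] (hq : (∃ (F : Type) (_ : Field F) (_ : Fintype F) (n : ℕ), Fintype.card F = p ^ n ∧ Odd (Fintype.card F) ∧ Nonempty (↥H ⧸ (Subgroup.centralizer (V : Set G)).subgroupOf H ≃* Matrix.ProjectiveSpecialLinearGroup (Fin 2) F)) ∨ (p = 3 ∧ Cfsg.Lie.IsoRee (↥H ⧸ (Subgroup.centralizer (V : Set G)).subgroupOf H))) (A : Subgroup G) (hA : A ≤ H) (hquad : ⁅⁅V, A⁆, A⁆ = ⊥) : ⁅V, A⁆ = ⊥ := by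
  classical
  letI : CommGroup ↥V := { (inferInstance : Group ↥V) with mul_comm := fun a b => hV.1.is_comm.comm a b }
  have hN : ∀ h : ↥H, ∀ v : ↥V, (h : G) * v * (h : G)⁻¹ ∈ V := fun h v =>
    (Subgroup.mem_normalizer_iff.1 (hHV h.2) v).1 v.2
  let ρ : ↥H →* AddMonoid.End (Additive ↥V) :=
    { toFun := fun h =>
        { toFun := fun v => Additive.ofMul ⟨(h : G) * ((Additive.toMul v : ↥V) : G) * (h : G)⁻¹, hN h _⟩
          map_zero' := congrArg Additive.ofMul (Subtype.ext (by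
            show (h : G) * 1 * (h : G)⁻¹ = 1
            group))
          map_add' := fun v w => congrArg Additive.ofMul (Subtype.ext (by
            show (h : G) * (((Additive.toMul v : ↥V) : G) * ((Additive.toMul w : ↥V) : G)) * (h : G)⁻¹ =
              (h : G) * ((Additive.toMul v : ↥V) : G) * (h : G)⁻¹ * ((h : G) * ((Additive.toMul w : ↥V) : G) * (h : G)⁻¹)
            group)) }
      map_one' := AddMonoidHom.ext fun v => congrArg Additive.ofMul (Subtype.ext (by
        show ((1 : ↥H) : G) * ((Additive.toMul v : ↥V) : G) * ((1 : ↥H) : G)⁻¹ = ((Additive.toMul v : ↥V) : G)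
        simp))
      map_mul' := fun g h => AddMonoidHom.ext fun v => congrArg Additive.ofMul (Subtype.ext (by
        show ((g * h : ↥H) : G) * ((Additive.toMul v : ↥V) : G) * ((g * h : ↥H) : G)⁻¹ =
          (g : G) * ((h : G) * ((Additive.toMul v : ↥V) : G) * (h : G)⁻¹) * (g : G)⁻¹
        rw [Subgroup.coe_mul]; group)) }
  have happ : ∀ (h : ↥H) (v : ↥V), ((Additive.toMul (ρ h (Additive.ofMul v)) : ↥V) : G) = (h : G) * v * (h : G)⁻¹ :=
    fun h v => rfl
  have hker : ρ.ker = (Subgroup.centralizer (V : Set G)).subgroupOf H := by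
    ext h
    rw [MonoidHom.mem_ker, Subgroup.mem_subgroupOf, Subgroup.mem_centralizer_iff]
    constructor
    · intro e v hv
      have := happ h ⟨v, hv⟩
      rw [e] at this
      exact eq_mul_inv_iff_mul_eq.1 this
    · intro e
      refine AddMonoidHom.ext fun v => congrArg Additive.ofMul (Subtype.ext ?_)
      show (h : G) * ((Additive.toMul v : ↥V) : G) * (h : G)⁻¹ = _
      rw [← e _ (Additive.toMul v).2, mul_inv_cancel_right]
      rfl
  have h0 : ((p : ℕ) : AddMonoid.End (Additive ↥V)) = 0 := by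
    refine AddMonoidHom.ext fun v => ?_
    show p • v = 0
    exact Additive.toMul.injective (by
      rw [toMul_nsmul, toMul_zero]
      exact Subtype.ext (by rw [SubmonoidClass.coe_pow]; exact hV.2 _ (Additive.toMul v).2))
  obtain ⟨f, hf1, hf2⟩ : ∃ f : (↥H ⧸ (Subgroup.centralizer (V : Set G)).subgroupOf H) →* AddMonoid.End (Additive ↥V),
      (∀ h : ↥H, f (QuotientGroup.mk h) = ρ h) ∧ (∀ a, f a = 1 → a = 1) := by
    refine ⟨QuotientGroup.lift _ ρ hker.ge, fun h => rfl, fun a ha => ?_⟩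
    induction a using QuotientGroup.induction_on with | H h => ?_
    exact (QuotientGroup.eq_one_iff h).2 (hker ▸ MonoidHom.mem_ker.2 ha)
  rw [Subgroup.commutator_eq_bot_iff_le_centralizer]
  intro v hv
  rw [Subgroup.mem_centralizer_iff]
  intro a ha
  have hquad' : (ρ ⟨a, hA ha⟩ - 1) * (ρ ⟨a, hA ha⟩ - 1) = 0 := by
    obtain ⟨h, hh⟩ : ∃ h : ↥H, h = ⟨a, hA ha⟩ := ⟨_, rfl⟩
    rw [← hh]
    have hsub : ∀ x : Additive ↥V, (ρ h - 1 : AddMonoid.End (Additive ↥V)) x = ρ h x - x := fun x => rfl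
    refine AddMonoidHom.ext fun w => ?_
    obtain ⟨d, hd⟩ : ∃ d, d = (ρ h - 1 : AddMonoid.End (Additive ↥V)) w := ⟨_, rfl⟩
    show (ρ h - 1 : AddMonoid.End (Additive ↥V)) ((ρ h - 1 : AddMonoid.End (Additive ↥V)) w) = 0
    rw [← hd]
    have hd' : ((Additive.toMul d : ↥V) : G) = a * ((Additive.toMul w : ↥V) : G) * a⁻¹ * ((Additive.toMul w : ↥V) : G)⁻¹ := by
      rw [hd, hsub, toMul_sub, div_eq_mul_inv, Subgroup.coe_mul, Subgroup.coe_inv, hh]
      rfl
    have hmem : ((Additive.toMul d : ↥V) : G) ∈ ⁅V, A⁆ := by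
      rw [hd']
      have := inv_mem (Subgroup.commutator_mem_commutator (Additive.toMul w).2 ha (H₁ := V) (H₂ := A))
      rwa [commutatorElement_def, show (((Additive.toMul w : ↥V) : G) * a * ((Additive.toMul w : ↥V) : G)⁻¹ * a⁻¹)⁻¹ =
        a * ((Additive.toMul w : ↥V) : G) * a⁻¹ * ((Additive.toMul w : ↥V) : G)⁻¹ by group] at this
    have h1 := Subgroup.commutator_mem_commutator hmem ha (H₂ := A)
    rw [hquad, Subgroup.mem_bot, commutatorElement_eq_one_iff_mul_comm] at h1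
    rw [hsub, sub_eq_zero]
    refine congrArg Additive.ofMul (Subtype.ext ?_)
    show (h : G) * ((Additive.toMul d : ↥V) : G) * (h : G)⁻¹ = _
    rw [hh]
    show a * ((Additive.toMul d : ↥V) : G) * a⁻¹ = _
    rw [← h1, mul_inv_cancel_right]
    rfl
  obtain ⟨c, hc⟩ : ∃ c, c = (QuotientGroup.mk (⟨a, hA ha⟩ : ↥H) : ↥H ⧸ (Subgroup.centralizer (V : Set G)).subgroupOf H) :=
    ⟨_, rfl⟩
  suffices hc1 : c = 1 by
    rw [hc, QuotientGroup.eq_one_iff, Subgroup.mem_subgroupOf, Subgroup.mem_centralizer_iff] at hc1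
    exact (hc1 v hv).symm
  by_contra hne
  have hfc : (f c - 1) * (f c - 1) = 0 := by rw [hc, hf1]; exact hquad'
  have hord : orderOf c = p := orderOf_eq_prime
    (hf2 _ (by rw [map_pow]; exact Cfsg.Agent.QuadPair.pow_prime Fact.out h0 hfc)) hne
  rcases hq with ⟨F, _, _, n, hF, hodd, ⟨e⟩⟩ | ⟨rfl, hRee⟩
  · have hn : 0 < n := by
      by_contra h
      have := Fintype.one_lt_card (α := F)
      rw [hF, show n = 0 by omega, pow_zero] at this
      omega
    have hp2 : p ≠ 2 := by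
      rintro rfl
      rw [hF] at hodd
      exact (Nat.not_odd_iff_even.2 (Nat.even_pow.2 ⟨even_two, hn.ne'⟩)) hodd
    haveI : CharP F p := Cfsg.Agent.LENat.charP_of_card hF
    obtain ⟨g, hg⟩ := Cfsg.Agent.QuadPair.exists_pair_psl p hp2 (e c) ((MulEquiv.orderOf_eq e c).trans hord)
    obtain ⟨g', rfl⟩ := e.surjective g
    obtain ⟨h1, h2, h3⟩ := hg
    simp only [← map_inv, ← map_mul] at h1 h2 h3
    exact eq_one_of_pair Fact.out hp2 h0 f hf2 c g' hfc (Or.inl ⟨fun he => h1 (congrArg e he), e.injective h2,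
      e.injective (h3.trans (map_one e).symm)⟩)
  · obtain ⟨K, _, _, m, -, hK, ⟨e⟩⟩ := hRee
    haveI : CharP K 3 := charP_of_card_eq_prime_pow (p := 3) (f := 2 * m + 1) hK
    have hp' := Cfsg.Agent.ReeQuad.pair_of_order_three hK (e c) ((MulEquiv.orderOf_eq e c).trans hord)
    have hp'' := Cfsg.Agent.ReeQuad.pair_map e.symm hp'
    rw [e.symm_apply_apply] at hp''
    obtain ⟨g, h | h⟩ := hp''
    · exact eq_one_of_pair Fact.out (by norm_num) h0 f hf2 c g hfc (Or.inl h)
    · exact eq_one_of_pair Fact.out (by norm_num) h0 f hf2 c g hfc (Or.inr ⟨rfl, h⟩)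

end Cfsg.Agent.S2787
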