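import Cfsg.Statements.S2788
import Cfsg.Agent.Lib.LocalEven.SL2Bound
-- import your own Cfsg.Agent.* helpers here

set_option autoImplicit false
open Cfsg

namespace Cfsg.Agent.S2788

/-- Let H act faithfully by conjugation on the elementary abelian p-subgroup V of a finite group with H ≅ SL₂(F), F a field with p^n elements, S a Sylow p-subgroup of H, and A ≤ S a subgroup of order at least 3 acting quadratically on V ([V, A, A] = 1). Then |V/C_V(a)| ≥ p^n for every nonidentity a ∈ A. -/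
theorem result {G : Type*} [Group G] [Finite G] {p : ℕ} [Fact p.Prime] (V H : Subgroup G) (hV : Cfsg.IsElementaryAbelian p V) (hHV : H ≤ Subgroup.normalizer (V : Set G)) (hf : H ⊓ Subgroup.centralizer (V : Set G) = ⊥) {F : Type*} [Field F] [Fintype F] (n : ℕ) (hF : Fintype.card F = p ^ n) (hiso : Nonempty (↥H ≃* Matrix.SpecialLinearGroup (Fin 2) F)) (S : Sylow p ↥H) (T : Subgroup G) (hT : T = ((S : Subgroup ↥H).map H.subtype)) (A : Subgroup G) (hA : A ≤ T) (hA3 : 3 ≤ Nat.card A) (hquad : ⁅⁅V, A⁆, A⁆ = ⊥) : ∀ a ∈ A, a ≠ 1 → p ^ n ≤ ((V ⊓ Subgroup.centralizer ({a} : Set G))).relIndex V := by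
  classical
  obtain ⟨e⟩ := hiso
  haveI : CharP F p := Cfsg.Agent.LENat.charP_of_card hF
  intro a ha ha1
  have haT : a ∈ T := hA ha
  rw [hT] at haT
  obtain ⟨s, hs, rfl⟩ := haT
  obtain ⟨k, hk⟩ := S.2 ⟨s, hs⟩
  have hk' : s ^ p ^ k = 1 := congrArg Subtype.val hk
  refine (Cfsg.Agent.SL2Bound.main n hF V H hV hHV hf ((QuotientGroup.mk' _).comp e.toMonoidHom)
    ((QuotientGroup.mk'_surjective _).comp e.surjective) s ⟨k, hk'⟩ fun h1 => ?_).1
  have hc : e s ∈ Subgroup.center (Matrix.SpecialLinearGroup (Fin 2) F) := (QuotientGroup.eq_one_iff _).1 h1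
  obtain ⟨c, hc2, hcv⟩ := Cfsg.Agent.SL2Orders.exists_scalar_of_mem_center _ hc
  have hc1 : c = 1 := by
    rcases mul_self_eq_one_iff.1 hc2 with h | h
    · exact h
    rcases (Fact.out : p.Prime).eq_two_or_odd' with rfl | hodd
    · rw [h, CharTwo.neg_eq]
    have h4 := congrArg (fun z : Matrix.SpecialLinearGroup (Fin 2) F => (z : Matrix (Fin 2) (Fin 2) F) 0 0)
      ((map_pow e s (p ^ k)).symm.trans (by rw [hk', map_one]))
    simp only [Matrix.SpecialLinearGroup.coe_pow, Matrix.SpecialLinearGroup.coe_one, hcv, smul_pow, one_pow,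
      Matrix.smul_apply, Matrix.one_apply_eq, smul_eq_mul, mul_one] at h4
    rw [h, (hodd.pow).neg_one_pow] at h4
    rw [h, h4]
  have hes : e s = 1 := Subtype.ext (by rw [hcv, hc1, one_smul]; rfl)
  have : s = 1 := e.injective (by rw [hes, map_one])
  exact ha1 (by rw [this]; rfl)

end Cfsg.Agent.S2788
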