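import Cfsg.Statements.S2793
import Cfsg.Agent.Lib.FusionFp.Main
import Mathlib.GroupTheory.SpecificGroups.Cyclic

set_option autoImplicit false
open Cfsg
open Cfsg.Agent

namespace Cfsg.Agent.S2793

/-- Let p be an odd prime, S a Sylow p-subgroup of the finite group G, J(S) the subgroup generated by the abelian subgroups of S of largest order, and suppose Z(J(S)) does not control strong fusion in G. Put H = N_G(Z(J(S))). Then the group F(p) of upper triangular 3 × 3 matrices (a b c; 0 a⁻¹ d; 0 0 1) over the field with p elements is involved in H, and Z(J(S)) contains a subgroup C of order p with |N_H(C) : C_H(C)| = p − 1. -/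
theorem result {G : Type*} [Group G] [Finite G] {p : ℕ} [Fact p.Prime] (hp : p ≠ 2) (S : Sylow p G) (h : ¬ Cfsg.ControlsStrongFusion p (Cfsg.centerThompsonAOf (S : Subgroup G))) (H : Subgroup G) (hH : H = Subgroup.normalizer ((Cfsg.centerThompsonAOf (S : Subgroup G)) : Set G)) : Cfsg.Involves ↥(Cfsg.fOver (ZMod p)) ↥H ∧ ∃ C : Subgroup G, C ≤ (Cfsg.centerThompsonAOf (S : Subgroup G)) ∧ Nat.card C = p ∧ (H ⊓ Subgroup.centralizer (C : Set G)).relIndex (H ⊓ Subgroup.normalizer (C : Set G)) = p - 1 := by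
  classical
  rw [ZJ.centerThompsonAOf_eq (p := p)] at h hH ⊢
  set Z := ZJ.zJ p False (S : Subgroup G) with hZ
  subst hH
  set H := Subgroup.normalizer (Z : Set G) with hH
  rcases FusionFp.good_or_wit hp (Nat.card G) le_rfl S with hgood | hwit
  · refine absurd ⟨S, ZJ.zJ_le _, fun A hA => ⟨hA, fun g hg => ?_⟩⟩ h
    obtain ⟨x, hx, he⟩ := hgood A hA g trivial hg
    exact ⟨x, hx, fun a ha => (he a ha).symm⟩
  obtain ⟨hinv, g, hg, c, hc, k, hco, hk, hgc⟩ := hwit
  refine ⟨hinv, Subgroup.zpowers c, Subgroup.zpowers_le.2 hc, by rw [Nat.card_zpowers, hco], ?_⟩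
  set C := Subgroup.zpowers c with hC
  have hCc : Nat.card C = p := by rw [Nat.card_zpowers, hco]
  haveI : Fact (Nat.card C).Prime := ⟨hCc ▸ Fact.out⟩
  set NH := H ⊓ Subgroup.normalizer (C : Set G) with hNH
  set CH := H ⊓ Subgroup.centralizer (C : Set G) with hCH
  let φ : ↥NH →* MulAut C :=
    (Subgroup.normalizerMonoidHom C).comp (Subgroup.inclusion inf_le_right)
  have hφ : ∀ (x : ↥NH) (y : C), ((φ x y : C) : G) = (x : G) * (y : G) * (x : G)⁻¹ := fun _ _ => rfl
  have hker : φ.ker = CH.subgroupOf NH := by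
    ext x
    rw [MonoidHom.mem_ker, Subgroup.mem_subgroupOf, hCH, Subgroup.mem_inf,
      Subgroup.mem_centralizer_iff, and_iff_right (Subgroup.mem_inf.1 x.2).1]
    constructor
    · intro h1 y hy
      have h2 := congrArg Subtype.val (DFunLike.congr_fun h1 (⟨y, hy⟩ : C))
      rw [hφ] at h2
      exact (mul_inv_eq_iff_eq_mul.1 h2).symm
    · intro h1
      refine MulEquiv.ext fun y => Subtype.ext ?_
      rw [hφ, MulAut.one_apply]
      exact mul_inv_eq_iff_eq_mul.2 (h1 y y.2).symm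
  have hgN : g ∈ Subgroup.normalizer (C : Set G) := by
    refine Functors.map_cj_eq_iff.1 (Subgroup.eq_of_le_of_card_ge ?_ (Functors.card_map_cj _ g).ge)
    rw [hC, MonoidHom.map_zpowers, Subgroup.zpowers_le, Functors.cj_apply, hgc]
    exact pow_mem (Subgroup.mem_zpowers c) k
  set gN : ↥NH := ⟨g, Subgroup.mem_inf.2 ⟨hg, hgN⟩⟩ with hgNdef
  have haut : Nat.card (MulAut C) = p - 1 := by
    haveI := isCyclic_of_prime_card (α := C) (p := p) hCc
    rw [IsCyclic.card_mulAut, hCc, Nat.totient_prime Fact.out]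
  have hiter : ∀ n : ℕ, g ^ n * c * (g ^ n)⁻¹ = c ^ k ^ n := by
    intro n
    induction n with
    | zero => simp
    | succ n ih =>
      rw [pow_succ' g, show g * g ^ n * c * (g * g ^ n)⁻¹ = g * (g ^ n * c * (g ^ n)⁻¹) * g⁻¹ by group,
        ih, ← conj_pow, hgc, ← pow_mul, pow_succ']
  have hdvd : p - 1 ∣ orderOf (φ gN) := by
    rw [← hk]
    refine orderOf_dvd_of_pow_eq_one ?_
    have h1 := congrArg Subtype.val (DFunLike.congr_fun
      ((map_pow φ gN _).trans (pow_orderOf_eq_one (φ gN))) (⟨c, Subgroup.mem_zpowers c⟩ : C))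
    rw [hφ, SubmonoidClass.coe_pow, MulAut.one_apply] at h1
    have h2 : c ^ k ^ orderOf (φ gN) = c ^ 1 := by rw [pow_one, ← hiter]; exact h1
    rw [pow_eq_pow_iff_modEq, hco, ← ZMod.natCast_eq_natCast_iff, Nat.cast_pow, Nat.cast_one] at h2
    exact h2
  show CH.relIndex NH = p - 1
  rw [Subgroup.relIndex, ← hker, Subgroup.index_ker]
  refine Nat.dvd_antisymm (haut ▸ Subgroup.card_subgroup_dvd_card φ.range) ?_
  have hr : orderOf (φ gN) ∣ Nat.card φ.range := by
    have h1 := orderOf_dvd_natCard (⟨φ gN, gN, rfl⟩ : φ.range)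
    rwa [← Subgroup.orderOf_coe] at h1
  exact hdvd.trans hr

end Cfsg.Agent.S2793
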