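import Cfsg.Statements.S2794
import Cfsg.Agent.Lib.Qd.SectionFree

set_option autoImplicit false
set_option linter.style.haveILetI false
set_option linter.unusedVariables false
open Cfsg

namespace Cfsg.Agent.S2794

/-- For an odd prime p and a finite group G, the group Qd(p) is not involved in G if and only if in every section K/R of G, for every Sylow p-subgroup S* of K/R, the centre of J(S*) (J generated by the abelian subgroups of largest order) controls strong fusion in K/R. -/
theorem result {G : Type*} [Group G] [Finite G] {p : ℕ} [Fact p.Prime] (hp : p ≠ 2) : ¬ Cfsg.Involves ↥(Cfsg.qd p) G ↔ ∀ (K R : Subgroup G) [hR : (R.subgroupOf K).Normal], ∀ T : Sylow p (K ⧸ R.subgroupOf K), Cfsg.ControlsStrongFusion p (Cfsg.centerThompsonAOf (T : Subgroup (K ⧸ R.subgroupOf K))) := by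
  simp only [Cfsg.Agent.ZJ.centerThompsonAOf_eq (p := p)]
  refine ⟨fun h K R _ T => Cfsg.Agent.QdFree.controls_zJ hp False h K R T, fun h => ?_⟩
  refine Cfsg.Agent.QdFree.not_involves_of_controls (Cfsg.Agent.QdFree.isCharPFunctor_zJF False) fun K R _ T => ?_
  rw [Cfsg.Agent.QdFree.inducedFunctor_zJF]
  exact h K R T

end Cfsg.Agent.S2794
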