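import Cfsg.Statements.S2796
import Cfsg.Agent.S2791
import Cfsg.Agent.Lib.Fusion.GroupModel
import Cfsg.Agent.Lib.Fusion.FunctorControl
import Cfsg.Agent.Lib.S3Free.Closure.General
import Cfsg.Agent.Lib.S3Free.TwoFactor

set_option autoImplicit false
universe u
open Cfsg

namespace Cfsg.Agent.S2796

/-- The fusion system of an `S₄`-free group is realized by a constrained `S₄`-free group. -/
theorem exists_constrained_model {G : Type u} [Group G] [Finite G]
    (hfree : ¬ Cfsg.Involves (Equiv.Perm (Fin 4)) G) (S : Sylow 2 G) :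
    ∃ (L : Type u) (_ : Group L) (ι : ↥(S : Subgroup G) →* L),
      (Cfsg.groupFusionSystem (S : Subgroup G)).IsModel 2 L ι ∧ ¬ Cfsg.Involves (Equiv.Perm (Fin 4)) L := by
  haveI : Fact (Nat.Prime 2) := ⟨Nat.prime_two⟩
  set F := Cfsg.groupFusionSystem (S : Subgroup G)
  have hF := FusionSys.groupFusionSystem_saturated S
  have hsf : F.IsSectionFree 2 (Equiv.Perm (Fin 4)) := fun Q hn hc N hN L _ ι hL hinv => by
    obtain ⟨Φ, hΦ, -⟩ := FusionSys.group_model S hn hc hN hL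
    exact hfree (FusionSys.involves_of_injective _ (Subgroup.subtype_injective _)
      (FusionSys.involves_of_surjective Φ hΦ hinv))
  obtain ⟨-, Z, hZn, hZc⟩ := FusionSys.constrained_of_sectionFree (W := fun Q _ => SFW.wGen Q)
    (fun Q _ _ hQ _ => SFW.wGen_ne_bot hQ) (fun Q R _ _ _ _ φ => SFW.wGen_map φ)
    (fun L _ _ P hc hn => SFW.wOf_normal hn hc P) S.isPGroup' hF hsf
  obtain ⟨L, _, ι, hL⟩ := FusionSys.exists_model S.isPGroup' hF ⟨hZn, hZc⟩
  exact ⟨L, inferInstance, ι, hL, FusionSys.sectionFree_model hsf ⟨hZn, hZc⟩ hL⟩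

/-- Let G be a finite group in which the symmetric group of degree 4 is not involved, such that for every section K/R of G with C(O₂(K/R)) ≤ O₂(K/R) every non-abelian composition factor of K/R is a Suzuki group Sz(2^(2n+1)) or PSL₂ over a field with 3^(2n+1) elements. Let S be a Sylow 2-subgroup, J_e(S) the subgroup generated by its elementary abelian subgroups of largest order, and A the normal closure of Ω₁(Z(S)) in N_G(J_e(S)). Then A is an elementary abelian subgroup of S, strongly closed in S with respect to G, and A controls strong fusion in G. -/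
theorem result {G : Type u} [Group G] [Finite G] (hfree : ¬ Cfsg.Involves (Equiv.Perm (Fin 4)) G) (hsec : ∀ (K R : Subgroup G) [hR : (R.subgroupOf K).Normal], Subgroup.centralizer (Cfsg.pCore 2 (K ⧸ R.subgroupOf K) : Set (K ⧸ R.subgroupOf K)) ≤ Cfsg.pCore 2 (K ⧸ R.subgroupOf K) → Cfsg.IsCompositionKGroupWith Cfsg.IsSuzukiOrPSL2OddPowerThree (K ⧸ R.subgroupOf K)) (S : Sylow 2 G) (N : Subgroup G) (hN : N = Subgroup.normalizer (Cfsg.thompsonSubgroupOf 2 (S : Subgroup G) : Set G)) (A : Subgroup G) (hA : A = (Subgroup.normalClosure (((Cfsg.omegaOne 2 ((S : Subgroup G) ⊓ Subgroup.centralizer ((S : Subgroup G) : Set G))).subgroupOf N : Subgroup ↥N) : Set ↥N)).map N.subtype) : A ≤ S ∧ Cfsg.IsElementaryAbelian 2 A ∧ Cfsg.IsStronglyClosed A (S : Subgroup G) ∧ Cfsg.ControlsStrongFusion 2 A := by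
  classical
  haveI : Fact (Nat.Prime 2) := ⟨Nat.prime_two⟩
  set J := Cfsg.thompsonSubgroupOf 2 (S : Subgroup G) with hJ
  have hJS : J ≤ (S : Subgroup G) := Thompson.thompsonSubgroupOf_le 2 _
  set Z1 := Cfsg.omegaOne 2 ((S : Subgroup G) ⊓ Subgroup.centralizer ((S : Subgroup G) : Set G)) with hZ1
  have hNJ : ∀ n ∈ N, ∀ x ∈ J, n * x * n⁻¹ ∈ J := fun n hn x hx =>
    (Subgroup.mem_normalizer_iff.1 (hN.le hn) x).1 hx
  have hcJ : ∀ a b : G, a ∈ J ∧ a ∈ Subgroup.centralizer (J : Set G) →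
      b ∈ J ∧ b ∈ Subgroup.centralizer (J : Set G) → a * b = b * a := fun a b ha hb =>
    Subgroup.mem_centralizer_iff.1 hb.2 a ha.1
  let Y : Subgroup G :=
    { carrier := {x | (x ∈ J ∧ x ∈ Subgroup.centralizer (J : Set G)) ∧ x * x = 1}
      one_mem' := ⟨⟨J.one_mem, Subgroup.one_mem _⟩, one_mul 1⟩
      mul_mem' := fun {a b} ha hb => ⟨⟨J.mul_mem ha.1.1 hb.1.1, Subgroup.mul_mem _ ha.1.2 hb.1.2⟩, by
        rw [show a * b * (a * b) = a * (b * a) * b by group, hcJ b a hb.1 ha.1,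
          show a * (a * b) * b = (a * a) * (b * b) by group, ha.2, hb.2, one_mul]⟩
      inv_mem' := fun {a} ha => ⟨⟨J.inv_mem ha.1.1, Subgroup.inv_mem _ ha.1.2⟩, by
        rw [← mul_inv_rev, ha.2, inv_one]⟩ }
  have hYN : (Y.subgroupOf N).Normal := ⟨fun x hx n => by
    rw [Subgroup.mem_subgroupOf] at hx ⊢
    refine ⟨⟨hNJ n n.2 _ hx.1.1, Subgroup.mem_centralizer_iff.2 fun j hj => ?_⟩, ?_⟩
    · have h := Subgroup.mem_centralizer_iff.1 hx.1.2 _ (hNJ _ (inv_mem n.2) j hj)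
      rw [inv_inv] at h
      simp only [Subgroup.coe_mul, InvMemClass.coe_inv]
      calc j * ((n : G) * x * (n : G)⁻¹) = (n : G) * ((n : G)⁻¹ * j * n * x) * (n : G)⁻¹ := by group
        _ = (n : G) * (x * ((n : G)⁻¹ * j * n)) * (n : G)⁻¹ := by rw [h]
        _ = (n : G) * x * (n : G)⁻¹ * j := by group
    · simp only [Subgroup.coe_mul, InvMemClass.coe_inv]
      rw [show (n : G) * x * (n : G)⁻¹ * ((n : G) * x * (n : G)⁻¹) = n * ((x : G) * x) * (n : G)⁻¹ by group, hx.2]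
      group⟩
  -- the central involutions
  let K : Subgroup G :=
    { carrier := {x | x ∈ Y ∧ x ∈ Subgroup.centralizer ((S : Subgroup G) : Set G)}
      one_mem' := ⟨Y.one_mem, Subgroup.one_mem _⟩
      mul_mem' := fun {a b} ha hb => ⟨Y.mul_mem ha.1 hb.1, Subgroup.mul_mem _ ha.2 hb.2⟩
      inv_mem' := fun {a} ha => ⟨Y.inv_mem ha.1, Subgroup.inv_mem _ ha.2⟩ }
  have hZK : Z1 ≤ K := by
    rw [hZ1, Cfsg.omegaOne, Subgroup.closure_le]
    rintro z ⟨hz, hz2⟩
    rw [pow_two] at hz2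
    exact ⟨⟨⟨S3Free.mem_thompson_of_central hz.1 hz2 hz.2, Subgroup.centralizer_le hJS hz.2⟩, hz2⟩, hz.2⟩
  have hAY : A ≤ Y := by
    rw [hA, Subgroup.map_le_iff_le_comap]
    exact Subgroup.normalClosure_le_normal (N := Y.subgroupOf N) fun z hz => (hZK hz).1
  have hAS : A ≤ (S : Subgroup G) := fun a ha => hJS (hAY ha).1.1
  have hAe : Cfsg.IsElementaryAbelian 2 A := ⟨⟨⟨fun a b =>
    Subtype.ext (hcJ a b (hAY a.2).1 (hAY b.2).1)⟩⟩, fun a ha => by rw [pow_two]; exact (hAY ha).2⟩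
  have hsc : Cfsg.IsStronglyClosed A (S : Subgroup G) := by
    set S' : Subgroup G := (S : Subgroup G)
    obtain ⟨L, _, ι, hL, h4L⟩ := exists_constrained_model hfree S
    haveI := hL.1
    obtain ⟨hι, hr⟩ := hL.2.1
    obtain ⟨P, hP⟩ := hL.2.2.1
    set V := Subgroup.normalClosure (((Z1.subgroupOf S').map ι : Subgroup L) : Set L) with hV
    -- conjugation in `G` is seen in `L`
    have htoL : ∀ (g x : G) (hx : x ∈ S') (hgx : g * x * g⁻¹ ∈ S'),
        ∃ l : L, ι ⟨_, hgx⟩ = l * ι ⟨x, hx⟩ * l⁻¹ := by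
      intro g x hx hgx
      have hle : Subgroup.zpowers x ≤ S' := Subgroup.zpowers_le.2 hx
      set φ : ↥(Subgroup.zpowers x) →* G :=
        (MulAut.conj g).toMonoidHom.comp (Subgroup.zpowers x).subtype with hφ
      have hφS : ∀ y, φ y ∈ S' := fun y => by
        have : Subgroup.zpowers x ≤ S'.comap (MulAut.conj g).toMonoidHom := Subgroup.zpowers_le.2 hgx
        exact this y.2
      obtain ⟨l, hl⟩ := (hr _ hle φ hφS).1 ⟨hle, hφS, g, fun y => rfl⟩
      exact ⟨l, hl ⟨x, Subgroup.mem_zpowers x⟩⟩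
    haveI hVn : V.Normal := Subgroup.normalClosure_normal
    have hZS : ∀ z ∈ Z1, z ∈ S' := fun z hz => hJS (hZK hz).1.1.1
    have hAV : A ≤ (V.comap ι).map S'.subtype := by
      rw [hA, Subgroup.map_le_iff_le_comap, Subgroup.normalClosure, Subgroup.closure_le]
      intro x hx
      obtain ⟨z, hz, hconj⟩ := Group.mem_conjugatesOfSet_iff.1 hx
      obtain ⟨n, rfl⟩ := isConj_iff.1 hconj
      have hnz : (n : G) * z * (n : G)⁻¹ ∈ S' := hJS (hNJ n n.2 _ (hZK hz).1.1.1)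
      obtain ⟨l, hl⟩ := htoL n z (hZS _ hz) hnz
      refine ⟨⟨_, hnz⟩, ?_, rfl⟩
      show ι _ ∈ V
      rw [hl]
      exact hVn.conj_mem _ (Subgroup.subset_normalClosure ⟨⟨z, hZS _ hz⟩, hz, rfl⟩) l
    have hVA : V ≤ (A.subgroupOf S').map ι := by
      rw [hV, Subgroup.normalClosure, Subgroup.closure_le]
      intro x hx
      obtain ⟨_, ⟨⟨z, hzS⟩, hz, rfl⟩, hconj⟩ := Group.mem_conjugatesOfSet_iff.1 hx
      obtain ⟨l, rfl⟩ := isConj_iff.1 hconj
      obtain ⟨n, hn, c, hc, rfl⟩ := S3Free.exists_factor h4L hL.2.2.2 P l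
      have hz' : z ∈ Z1 := hz
      have hzc : c * ι ⟨z, hzS⟩ * c⁻¹ = ι ⟨z, hzS⟩ := by
        refine hc _ (by rw [hP]; exact ⟨_, rfl⟩) ?_ (Subgroup.mem_centralizer_iff.2 ?_)
        · rw [← map_mul, show (⟨z, hzS⟩ : ↥S') * ⟨z, hzS⟩ = 1 from Subtype.ext (hZK hz').1.2, map_one]
        · intro y hy
          rw [hP] at hy
          obtain ⟨s, rfl⟩ := hy
          rw [← map_mul, ← map_mul]
          exact congrArg ι (Subtype.ext (Subgroup.mem_centralizer_iff.1 (hZK hz').2 s s.2))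
      -- the Thompson subgroups correspond
      have hJP : Cfsg.thompsonSubgroupOf 2 (P : Subgroup L) = (J.subgroupOf S').map ι := by
        rw [hP, MonoidHom.range_eq_map, Thompson.thompsonSubgroupOf_map_of_injective _ _ hι,
          Thompson.thompsonSubgroupOf_top]
        congr 1
        rw [hJ, Cfsg.thompsonSubgroupOf]
        exact (Subgroup.comap_map_eq_self_of_injective S'.subtype_injective _).symm
      have hnJ : ∀ y : J, n * ι ⟨y, hJS y.2⟩ * n⁻¹ ∈ (J.subgroupOf S').map ι := fun y => by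
        rw [← hJP]
        exact (Subgroup.mem_normalizer_iff.1 hn _).1 (by rw [hJP]; exact ⟨_, y.2, rfl⟩)
      set e := MonoidHom.ofInjective hι
      set ψ : J →* L := (MulAut.conj n).toMonoidHom.comp (ι.comp (Subgroup.inclusion hJS))
      have hψ : ∀ y, ψ y ∈ ι.range := fun y => Subgroup.map_le_range _ _ (hnJ y)
      set φ : J →* G := S'.subtype.comp (e.symm.toMonoidHom.comp (ψ.codRestrict ι.range hψ))
      have hφS : ∀ y, φ y ∈ S' := fun y => SetLike.coe_mem _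
      have hφι : ∀ y, ι ⟨φ y, hφS y⟩ = n * ι ⟨y, hJS y.2⟩ * n⁻¹ := fun y =>
        congrArg Subtype.val (e.apply_symm_apply ⟨_, hψ y⟩)
      obtain ⟨-, -, g, hg⟩ := (hr J hJS φ hφS).2 ⟨n, hφι⟩
      have hgJ : ∀ y ∈ J, g * y * g⁻¹ ∈ J := fun y hy => by
        obtain ⟨s, hs, hse⟩ := hnJ ⟨y, hy⟩
        rw [← hφι] at hse
        have h : (s : G) = φ ⟨y, hy⟩ := congrArg Subtype.val (hι hse)
        rw [hg] at h
        rw [← h]
        exact hs
      have hgN : g ∈ N := by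
        rw [hN]
        exact Subgroup.mem_normalizer_fintype hgJ
      refine ⟨⟨_, hφS ⟨z, (hZK hz').1.1.1⟩⟩, ?_, ?_⟩
      · rw [SetLike.mem_coe, Subgroup.mem_subgroupOf]
        show φ _ ∈ A
        rw [hg, hA]
        refine ⟨⟨_, Subgroup.mul_mem _ (Subgroup.mul_mem _ hgN ?_) (inv_mem hgN)⟩, ?_, rfl⟩
        · rw [hN]; exact Subgroup.le_normalizer (hZK hz').1.1.1
        · exact Subgroup.normalClosure_normal.conj_mem
            (⟨z, by rw [hN]; exact Subgroup.le_normalizer (hZK hz').1.1.1⟩ : N)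
            (Subgroup.subset_normalClosure hz') ⟨g, hgN⟩
      · rw [hφι, show n * c * ι ⟨z, hzS⟩ * (n * c)⁻¹ = n * (c * ι ⟨z, hzS⟩ * c⁻¹) * n⁻¹ by group, hzc]
    refine ⟨hAS, fun a ha g hga => ?_⟩
    obtain ⟨⟨a', ha'S⟩, haV, rfl⟩ := hAV ha
    change g * a' * g⁻¹ ∈ S' at hga
    obtain ⟨l, hl⟩ := htoL g a' ha'S hga
    obtain ⟨b, hb, hbe⟩ := hVA (show ι ⟨_, hga⟩ ∈ V by rw [hl]; exact hVn.conj_mem _ haV l)
    rw [hι hbe] at hb
    exact hb
  exact ⟨hAS, hAe, hsc, S2791.result S A hAe.1 hsc⟩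

end Cfsg.Agent.S2796
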