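import Cfsg.Statements.S2804
import Cfsg.Agent.Lib.LocalEven.PReduced

set_option autoImplicit false
open Cfsg
open scoped commutatorElement

namespace Cfsg.Agent.S2804

/-- Let L be a finite group and p a prime with C_L(O_p(L)) ≤ O_p(L), V a p-reduced normal subgroup of L and K a subnormal subgroup of L. Then [V, O^p(K)] is contained in K and is a p-reduced normal subgroup of K, where O^p(K) is the subgroup of K generated by its elements of order prime to p. -/
theorem result {L : Type*} [Group L] [Finite L] {p : ℕ} [Fact p.Prime] (hchar : Subgroup.centralizer (Cfsg.pCore p L : Set L) ≤ Cfsg.pCore p L) (V : Subgroup L) (hV : Cfsg.IsPReducedNormal p V) (K : Subgroup L) (hK : K.IsSubnormal) : ⁅V, (Cfsg.pResidual p ↥K).map K.subtype⁆ ≤ K ∧ Cfsg.IsPReducedNormal p ((⁅V, (Cfsg.pResidual p ↥K).map K.subtype⁆).subgroupOf K) := by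
  haveI := hV.1
  have hVp := Cfsg.Agent.LEPReduced.isPGroup_of_elem hV.2.1
  set R := (Cfsg.pResidual p ↥K).map K.subtype with hR
  have hWK : ⁅V, R⁆ ≤ K := Cfsg.Agent.LEPReduced.commutator_pResidual_le hVp hK
  have hRed : Cfsg.Agent.LEPReduced.Red p V K :=
    (Cfsg.Agent.LEPReduced.red_top_iff.1 hV).of_isSubnormal hK
  have hWV : ⁅V, R⁆ ≤ V := Subgroup.commutator_le_left V R
  have hKR : K ≤ Subgroup.normalizer (R : Set L) :=
    Subgroup.le_normalizer.trans (Cfsg.Agent.LEBasic.le_normalizer_map_of_characteristic Cfsg.Agent.LEBasic.pResidual_characteristic)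
  have hKW : K ≤ Subgroup.normalizer ((⁅V, R⁆ : Subgroup L) : Set L) := fun k hk => by
    rw [← Cfsg.Agent.LEBasic.map_conj_eq_iff_mem_normalizer, Subgroup.map_commutator,
      Cfsg.Agent.LEBasic.map_conj_eq_iff_mem_normalizer.2 (hRed.1 hk),
      Cfsg.Agent.LEBasic.map_conj_eq_iff_mem_normalizer.2 (hKR hk)]
  refine ⟨hWK, (Cfsg.Agent.LEPReduced.red_subgroupOf_iff hWK).2 (hRed.of_commutator hWV hKW ?_).1⟩
  intro x hx hxc v hv
  have h1 : v⁻¹ * (x * v * x⁻¹) = ⁅v⁻¹, x⁆ := by
    rw [commutatorElement_def, inv_inv]; simp only [mul_assoc]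
  rw [h1]
  exact Subgroup.commutator_mem_commutator (inv_mem hv) (Cfsg.Agent.LEPReduced.mem_pResidual_map hx hxc)

end Cfsg.Agent.S2804

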