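import Cfsg.Statements.S4226
import Cfsg.Agent.Lib.Fusion.Yoshida
import Cfsg.Agent.Lib.Fusion.Hyperfocal
import Cfsg.Agent.Lib.FiniteGroup.WreathClass

set_option autoImplicit false
open Cfsg Cfsg.FusionSystem Cfsg.Agent.FusionSys

namespace Cfsg.Agent.S4226

variable {G : Type*} [Group G] [Finite G] {p : ℕ} [Fact p.Prime]

theorem hom_eq_normalizerHom (P : Subgroup G) (Q : Subgroup G) :
    (fusionSystemOfSubgroup (Subgroup.normalizer (P : Set G)) P Subgroup.le_normalizer).Hom Q =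
      (groupFusionSystem P).normalizerHom P Q := by
  ext φ
  constructor
  · rintro ⟨hQ, hφP, g, hg, he⟩
    have hQP : Q ⊔ P ≤ P := sup_le hQ le_rfl
    have hval : ∀ x : ↥(Q ⊔ P), conjHom (Q ⊔ P) g x ∈ P := fun x =>
      (Subgroup.mem_normalizer_iff.1 hg _).1 (hQP x.2)
    refine ⟨⟨hQ, hφP, g, he⟩, le_inf hQ (hQ.trans Subgroup.le_normalizer),
      fun x => Subgroup.mem_inf.2 ⟨hφP x, Subgroup.le_normalizer (hφP x)⟩,
      conjHom (Q ⊔ P) g, ⟨hQP, hval, g, fun _ => rfl⟩, fun x => (he x).symm, ?_⟩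
    ext y
    constructor
    · rintro ⟨x, -, rfl⟩
      exact hval x
    · intro hy
      have h1 : g⁻¹ * y * g ∈ P := (Subgroup.mem_normalizer_iff''.1 hg y).1 hy
      refine ⟨⟨g⁻¹ * y * g, le_sup_right (a := Q) h1⟩, h1, ?_⟩
      show g * (g⁻¹ * y * g) * g⁻¹ = y
      group
  · rintro ⟨⟨hQ, hφP, -⟩, -, -, ψ, ⟨hQP, -, g, hψ⟩, hext, hmap⟩
    refine ⟨hQ, hφP, g, ?_, fun x => by rw [← hext x, hψ]; rfl⟩
    rw [Subgroup.mem_normalizer_iff]
    intro y
    constructor
    · intro hy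
      rw [← hmap]
      exact ⟨⟨y, le_sup_right (a := Q) hy⟩, hy, hψ _⟩
    · intro hy
      obtain ⟨x, hx, hxy⟩ := hmap.ge hy
      rw [hψ] at hxy
      rw [← mul_left_cancel (mul_right_cancel hxy)]
      exact hx

theorem hyperfocal_le_pResidualOf {H T : Subgroup G} (hTH : T ≤ H) :
    (fusionSystemOfSubgroup H T hTH).hyperfocalSubgroup p ≤ pResidualOf p H := by
  refine (Subgroup.closure_le _).2 ?_
  rintro _ ⟨P, a, x, hP, ha, rfl⟩
  set F := fusionSystemOfSubgroup H T hTH with hF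
  let f : ↥(normalizerIn H P) →* F.autGroup P :=
    (P.normalizerMonoidHom.comp (Subgroup.inclusion inf_le_right)).codRestrict _ fun k => by
      rw [hF, ofSubgroup_autGroup hTH hP]
      exact (mem_autInducedBy_iff _).2 ⟨k, k.2.1, fun _ => rfl⟩
  have hf : Function.Surjective f := fun b => by
    have hb := b.2
    simp only [hF, ofSubgroup_autGroup hTH hP] at hb
    obtain ⟨k, hk, hke⟩ := (mem_autInducedBy_iff _).1 hb
    exact ⟨⟨k, hk, mem_normalizer_of_autInduced hke⟩,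
      Subtype.ext (MulEquiv.ext fun z => Subtype.ext (hke z).symm)⟩
  rw [← Cfsg.Agent.PBasic.map_pResidual_eq f hf] at ha
  obtain ⟨k, hk, rfl⟩ := ha
  have hkH : (⟨k, k.2.1⟩ : H) ∈ pResidual p H := Cfsg.Agent.PBasic.map_pResidual_le (p := p)
    (Subgroup.inclusion (inf_le_left : normalizerIn H P ≤ H)) ⟨k, hk, rfl⟩
  have hxH : (x : G) ∈ H := hTH (hP x.2)
  refine ⟨(⟨x, hxH⟩ : H)⁻¹ * (⟨k, k.2.1⟩ * ⟨x, hxH⟩ * (⟨k, k.2.1⟩ : H)⁻¹), ?_, rfl⟩
  have h2 := (Cfsg.Agent.PBasic.pResidual_normal_inst p H).conj_mem _ hkH (⟨x, hxH⟩ : H)⁻¹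
  simpa [mul_assoc] using (pResidual p H).mul_mem h2 ((pResidual p H).inv_mem hkH)

/-- If a Sylow subgroup `P` has class less than `p`, then `O^p(N(P)) = O^p(G) ∩ N(P)`. -/
theorem result {G : Type*} [Group G] [Finite G] {p : ℕ} [Fact p.Prime] (P : Sylow p G) (hcl : (P : Subgroup G).lowerCentralSeries (p - 1) = ⊥) : Cfsg.pResidualOf p (Subgroup.normalizer ((P : Subgroup G) : Set G)) = Cfsg.pResidual p G ⊓ Subgroup.normalizer ((P : Subgroup G) : Set G) := by
  set N := Subgroup.normalizer ((P : Subgroup G) : Set G) with hNdef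
  have hPN : (P : Subgroup G) ≤ N := Subgroup.le_normalizer
  refine le_antisymm (le_inf (Cfsg.Agent.PBasic.map_pResidual_le (p := p) N.subtype) (Subgroup.map_subtype_le _)) ?_
  set F := groupFusionSystem (P : Subgroup G) with hFdef
  set E := fusionSystemOfSubgroup N (P : Subgroup G) hPN with hEdef
  have hS : IsPGroup p (P : Subgroup G) := P.isPGroup'
  have hF : F.IsSaturated p := groupFusionSystem_saturated P
  have hsyl : IsSyl p (P : Subgroup G) N := (isSyl_iff_sylow hPN).2 ⟨P.subtype hPN, rfl⟩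
  have hE : E.IsSaturated p := ofSubgroup_saturated hsyl hPN
  have hle : E.IsSubsystemOf F := fun Q φ hφ => ⟨hφ.1, hφ.2.1, hφ.2.2.choose, hφ.2.2.choose_spec.2⟩
  have hfoc : E.focalSubgroup = F.focalSubgroup := by
    by_contra hne
    obtain ⟨W, f, hf⟩ := yoshida rfl hS hF E (fun Q => hom_eq_normalizerHom _ Q) hE hne
    refine Cfsg.Agent.WreathClass.sylow_perm_sq_lcs_ne_bot W ?_
    have h1 : (⊤ : Subgroup (P : Subgroup G)).lowerCentralSeries (p - 1) = ⊥ := by
      apply Subgroup.map_injective (P : Subgroup G).subtype_injective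
      rw [Subgroup.top_subtype_lowerCentralSeries, hcl, Subgroup.map_bot]
    have h2 : (⊤ : Subgroup ↥(W : Subgroup (Equiv.Perm (Fin (p ^ 2))))).lowerCentralSeries (p - 1) = ⊥ := by
      rw [← Subgroup.map_top_of_surjective f hf, ← Subgroup.map_lowerCentralSeries, h1, Subgroup.map_bot]
    rw [← Subgroup.top_subtype_lowerCentralSeries, h2, Subgroup.map_bot]
  have hhyp : (P : Subgroup G) ⊓ pResidual p G ≤ pResidualOf p N := by
    rw [← group_hyperfocal P, ((tate hS hF hE hle).2.1 hfoc.symm)]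
    exact hyperfocal_le_pResidualOf hPN
  rintro x ⟨hxG, hxN⟩
  have hx : (⟨x, hxN⟩ : N) ∈ ((P.subtype hPN : Sylow p N) : Subgroup N) ⊔ pResidual p N := by
    rw [Cfsg.Agent.PBasic.sylow_sup_pResidual]; exact Subgroup.mem_top _
  obtain ⟨s, hs, y, hy, hxy⟩ := Subgroup.mem_sup_of_normal_right.1 hx
  have hyO : (y : G) ∈ pResidualOf p N := Subgroup.mem_map_of_mem N.subtype hy
  have hyG : (y : G) ∈ pResidual p G := Cfsg.Agent.PBasic.map_pResidual_le (p := p) N.subtype hyO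
  have hxy' : (s : G) * (y : G) = x := congrArg Subtype.val hxy
  have hsG : (s : G) ∈ pResidual p G := by
    rw [eq_mul_inv_of_mul_eq hxy']
    exact mul_mem hxG (inv_mem hyG)
  rw [← hxy']
  exact mul_mem (hhyp ⟨hs, hsG⟩) hyO

end Cfsg.Agent.S4226
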