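import Cfsg.Statements.S2807
import Cfsg.Agent.S4226
import Cfsg.Agent.Lib.Transfer.EngelTransfer

set_option autoImplicit false
open Cfsg Cfsg.FusionSystem Cfsg.Agent.FusionSys

namespace Cfsg.Agent.S2807

/-- Let S be a Sylow p-subgroup of the finite group G. If S ∩ G' ≠ S ∩ (N_G(S))' (derived subgroups), then the wreath product Z_p ≀ Z_p — realised as a Sylow p-subgroup of the symmetric group of degree p² — is a homomorphic image of S. -/
theorem result {G : Type*} [Group G] [Finite G] {p : ℕ} [Fact p.Prime] (S : Sylow p G) (h : (S : Subgroup G) ⊓ commutator G ≠ (S : Subgroup G) ⊓ ⁅Subgroup.normalizer ((S : Subgroup G) : Set G), Subgroup.normalizer ((S : Subgroup G) : Set G)⁆) : ∃ (P : Sylow p (Equiv.Perm (Fin (p ^ 2)))) (f : ↥(S : Subgroup G) →* ↥(P : Subgroup (Equiv.Perm (Fin (p ^ 2))))), Function.Surjective f := by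
  by_contra hnw
  set N := Subgroup.normalizer ((S : Subgroup G) : Set G) with hN
  have hPN : (S : Subgroup G) ≤ N := Subgroup.le_normalizer
  refine h (EngelTransfer.inf_commutator_eq_of_residual S hPN ?_)
  set F := groupFusionSystem (S : Subgroup G) with hFdef
  set E := fusionSystemOfSubgroup N (S : Subgroup G) hPN with hEdef
  have hS : IsPGroup p (S : Subgroup G) := S.isPGroup'
  have hF : F.IsSaturated p := groupFusionSystem_saturated S
  have hsyl : IsSyl p (S : Subgroup G) N := (isSyl_iff_sylow hPN).2 ⟨S.subtype hPN, rfl⟩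
  have hE : E.IsSaturated p := ofSubgroup_saturated hsyl hPN
  have hle : E.IsSubsystemOf F := fun Q φ hφ => ⟨hφ.1, hφ.2.1, hφ.2.2.choose, hφ.2.2.choose_spec.2⟩
  have hfoc : E.focalSubgroup = F.focalSubgroup := by
    by_contra hne
    exact hnw (yoshida rfl hS hF E (fun Q => S4226.hom_eq_normalizerHom _ Q) hE hne)
  rw [← group_hyperfocal S, ((tate hS hF hE hle).2.1 hfoc.symm)]
  exact S4226.hyperfocal_le_pResidualOf hPN

end Cfsg.Agent.S2807
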