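import Cfsg.Statements.S2810
import Cfsg.Agent.Lib.LocalEven.Coprime

set_option autoImplicit false
open Cfsg

namespace Cfsg.Agent.S2810

/-- Let H be a finite group of characteristic p and L a subgroup of H centralizing every factor of some H-invariant chain 1 = A₀ ≤ A₁ ≤ … ≤ Aₙ = O_p(H) of normal subgroups (that is, [A_{i+1}, L] ≤ Aᵢ for each i). Then L ≤ O_p(H). -/
theorem result {H : Type*} [Group H] [Finite H] {p : ℕ} [Fact p.Prime] (hchar : Subgroup.centralizer (Cfsg.pCore p H : Set H) ≤ Cfsg.pCore p H) (L : Subgroup H) (n : ℕ) (A : Fin (n + 1) → Subgroup H) (h0 : A 0 = ⊥) (hn : A (Fin.last n) = Cfsg.pCore p H) (hmono : Monotone A) (hnorm : ∀ i, (A i).Normal) (hcent : ∀ i : Fin n, ⁅A i.succ, L⁆ ≤ A i.castSucc) : L ≤ Cfsg.pCore p H := by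
  let C : Fin n → Subgroup H := fun i =>
    haveI := hnorm i.castSucc
    (Subgroup.centralizer (((A i.succ).map (QuotientGroup.mk' (A i.castSucc))) : Set (H ⧸ A i.castSucc))).comap
      (QuotientGroup.mk' (A i.castSucc))
  have hCn : ∀ i, (C i).Normal := fun i => by
    haveI := hnorm i.castSucc
    haveI := hnorm i.succ
    haveI : ((A i.succ).map (QuotientGroup.mk' (A i.castSucc))).Normal :=
      Subgroup.Normal.map inferInstance _ (QuotientGroup.mk'_surjective _)
    exact Subgroup.Normal.comap inferInstance _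
  have hCiff : ∀ (i : Fin n) (K : Subgroup H), K ≤ C i ↔ ⁅A i.succ, K⁆ ≤ A i.castSucc := fun i K => by
    haveI := hnorm i.castSucc
    show K ≤ Subgroup.comap _ _ ↔ _
    rw [← Subgroup.map_le_iff_le_comap, ← Subgroup.commutator_eq_bot_iff_le_centralizer,
      Subgroup.commutator_comm, ← Subgroup.map_commutator, Subgroup.map_eq_bot_iff,
      QuotientGroup.ker_mk']
  set N := (⨅ i, C i) with hN
  haveI hNn : N.Normal := Subgroup.normal_iInf_normal hCn
  have hNc : ∀ i : Fin n, ⁅A i.succ, N⁆ ≤ A i.castSucc := fun i => (hCiff i N).1 (iInf_le C i)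
  have key : ∀ k (hk : k ≤ n), Cfsg.iterCommutator (Cfsg.pCore p H) N k ≤ A ⟨n - k, by omega⟩ := by
    intro k
    induction k with
    | zero => intro _; exact hn.symm.le
    | succ k ih =>
      intro hk
      refine (Subgroup.commutator_mono (ih (by omega)) le_rfl).trans ?_
      have h1 := hNc ⟨n - (k + 1), by omega⟩
      have e1 : Fin.succ (⟨n - (k + 1), by omega⟩ : Fin n) = ⟨n - k, by omega⟩ := Fin.ext (by simp; omega)
      rw [e1] at h1
      exact h1
  have hbot : Cfsg.iterCommutator (Cfsg.pCore p H) N n = ⊥ := by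
    rw [← le_bot_iff, ← h0]
    refine (key n le_rfl).trans (hmono ?_)
    simp
  have hNp : IsPGroup p ↥N := LECoprime.isPGroup_of_iterCommutator LEBasic.pCore_isPGroup hchar
    (le_top.trans (Subgroup.normalizer_eq_top_iff.2 inferInstance).ge) hbot
  exact (le_iInf fun i => (hCiff i L).2 (hcent i)).trans (LEBasic.le_pCore hNn hNp)

end Cfsg.Agent.S2810

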