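import Cfsg.Statements.S2813
import Cfsg.Agent.Lib.Techniques.CharP
import Cfsg.Agent.Lib.LocalEven.Basic

set_option autoImplicit false
open Cfsg
open scoped commutatorElement

namespace Cfsg.Agent.S2813

/-- Let K be a subgroup of the finite group H with O_p(K) = 1 and Y a p-subgroup of N_H(K) with [K, Y, Y] = 1. Then [K, Y] = 1. -/
theorem result {H : Type*} [Group H] [Finite H] {p : ℕ} [Fact p.Prime] (K : Subgroup H) (hO : Cfsg.pCore p ↥K = ⊥) (Y : Subgroup H) (hY : IsPGroup p ↥Y) (hYK : Y ≤ Subgroup.normalizer (K : Set H)) (hq : ⁅⁅K, Y⁆, Y⁆ = ⊥) : ⁅K, Y⁆ = ⊥ := by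
  set X := ⁅K, Y⁆ with hX
  set W := X ⊔ Y with hW
  have hXC : X ≤ Subgroup.centralizer (Y : Set H) := Subgroup.commutator_eq_bot_iff_le_centralizer.1 hq
  have hWY : W ≤ Subgroup.normalizer (Y : Set H) :=
    sup_le (hXC.trans (Subgroup.centralizer_le_normalizer _)) Subgroup.le_normalizer
  have hKW : K ≤ Subgroup.normalizer (W : Set H) := by
    intro k hk
    rw [← LEBasic.map_conj_eq_iff_mem_normalizer]
    refine Subgroup.eq_of_le_of_card_ge ?_ (by rw [LEBasic.card_map_conj])
    rw [hW, Subgroup.map_sup]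
    refine sup_le ((LEBasic.map_conj_eq_iff_mem_normalizer.2
      (Subgroup.normalizer_commutator_ge_left K Y hk)).le.trans le_sup_left) ?_
    rintro _ ⟨y, hy, rfl⟩
    have e : (MulAut.conj k).toMonoidHom y = ⁅k, y⁆ * y := by simp [commutatorElement_def, mul_assoc]
    rw [e]
    exact mul_mem (Subgroup.mem_sup_left (Subgroup.commutator_mem_commutator hk hy))
      (Subgroup.mem_sup_right hy)
  set R := CharP.opIn p W with hR
  have hYR : Y ≤ R := CharP.le_opIn le_sup_right hWY hY
  have hKR : K ≤ Subgroup.normalizer (R : Set H) := hKW.trans (CharP.normalizer_le_normalizer_opIn W)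
  have h1 : X ≤ K ⊓ R := le_inf (Subgroup.le_normalizer_iff_commutator_le_left.1 hYK)
    ((Subgroup.commutator_mono le_rfl hYR).trans (Subgroup.le_normalizer_iff_commutator_le_right.1 hKR))
  have h2 : K ⊓ R ≤ CharP.opIn p K := by
    refine CharP.le_opIn inf_le_left (fun k hk => ?_) ((CharP.opIn_isPGroup W).to_le inf_le_right)
    rw [Subgroup.mem_normalizer_iff]
    intro x
    rw [Subgroup.mem_inf, Subgroup.mem_inf, ← Subgroup.mem_normalizer_iff.1 (hKR hk) x,
      ← Subgroup.mem_normalizer_iff.1 (Subgroup.le_normalizer (H := K) hk) x]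
  have h3 : CharP.opIn p K = ⊥ := by rw [CharP.opIn, hO, Subgroup.map_bot]
  exact le_bot_iff.1 (h3 ▸ h1.trans h2)

end Cfsg.Agent.S2813

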