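import Cfsg.Statements.S2814
import Cfsg.Agent.Lib.LocalEven.FStarAction
import Cfsg.Agent.Lib.LocalEven.Wielandt
import Cfsg.Agent.Lib.LocalEven.Basic

set_option autoImplicit false
open Cfsg
open scoped commutatorElement

namespace Cfsg.Agent.S2814

/-- Let A be a subgroup of the finite group H and K the subnormal closure of A (intersection of the subnormal subgroups containing A). Then K is the normal closure of A inside K and N_H(A) ≤ N_H(K); K = A·O^p(K), O^p(K) being generated by the elements of K of order prime to p; and if A is a p-group, O^p(K) = [O^p(K), A]. -/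
theorem result {H : Type*} [Group H] [Finite H] {p : ℕ} [Fact p.Prime] (A : Subgroup H) (K : Subgroup H) (hK : K = Cfsg.subnormalClosure A) : (Subgroup.normalClosure ((A.subgroupOf K : Subgroup ↥K) : Set ↥K)).map K.subtype = K ∧ Subgroup.normalizer (A : Set H) ≤ Subgroup.normalizer (K : Set H) ∧ A ⊔ (Cfsg.pResidual p ↥K).map K.subtype = K ∧ (IsPGroup p ↥A → ⁅(Cfsg.pResidual p ↥K).map K.subtype, A⁆ = (Cfsg.pResidual p ↥K).map K.subtype) := by
  classical
  subst hK
  set K := Cfsg.subnormalClosure A with hK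
  have hAK : A ≤ K := le_sInf fun _ h => h.1
  have hKsn : K.IsSubnormal := by
    let P : Subgroup H → Prop := fun L => A ≤ L ∧ L.IsSubnormal
    obtain ⟨L, hL⟩ := (Set.toFinite {L : Subgroup H | P L}).exists_minimal ⟨⊤, le_top, Subgroup.IsSubnormal.top⟩
    have hLK : K = L := by
      refine le_antisymm (sInf_le hL.prop) (le_sInf fun M hM => ?_)
      exact (hL.le_of_le ⟨le_inf hL.prop.1 hM.1, hL.prop.2.inf hM.2⟩ inf_le_left).trans inf_le_right
    rw [hLK]; exact hL.prop.2
  have hmin : ∀ M : Subgroup H, A ≤ M → M.IsSubnormal → K ≤ M := fun M h1 h2 => sInf_le ⟨h1, h2⟩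
  have hsub : ∀ M : Subgroup ↥K, A.subgroupOf K ≤ M → M.IsSubnormal → M = ⊤ := by
    intro M h1 h2
    have h3 := hmin (M.map K.subtype) (by
      rw [← Subgroup.map_subgroupOf_eq_of_le hAK]; exact Subgroup.map_mono h1) (h2.trans' hKsn)
    refine eq_top_iff.2 fun x _ => ?_
    obtain ⟨y, hy, hyx⟩ := h3 x.2
    rwa [← Subtype.ext (show (y : H) = (x : H) from hyx)]
  set R := Cfsg.pResidual p ↥K with hR
  haveI : R.Normal := Cfsg.Agent.LEBasic.pResidual_normal
  have hncl : Subgroup.normalClosure ((A.subgroupOf K : Subgroup ↥K) : Set ↥K) = ⊤ :=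
    hsub _ Subgroup.le_normalClosure (Subgroup.Normal.isSubnormal inferInstance)
  have hsup : A.subgroupOf K ⊔ R = ⊤ := by
    refine hsub _ le_sup_left ?_
    haveI := (Cfsg.Agent.LEBasic.quotient_pResidual_isPGroup (p := p) (G := ↥K)).isNilpotent
    have h1 := Cfsg.Agent.LEWielandt.isSubnormal_of_isNilpotent ((A.subgroupOf K).map (QuotientGroup.mk' R))
    have h2 := h1.comap (QuotientGroup.mk' R)
    rwa [Subgroup.comap_map_eq, QuotientGroup.ker_mk'] at h2
  refine ⟨?_, ?_, ?_, ?_⟩
  · rw [hncl, ← MonoidHom.range_eq_map, Subgroup.range_subtype]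
  · intro g hg
    have key : ∀ g : H, A.map (MulAut.conj g).toMonoidHom = A → K.map (MulAut.conj g).toMonoidHom ≤ K := by
      intro g hg
      refine le_sInf fun M hM => ?_
      rw [Subgroup.map_le_iff_le_comap]
      refine hmin _ ?_ (hM.2.comap _)
      rw [← Subgroup.map_le_iff_le_comap, hg]
      exact hM.1
    rw [← Cfsg.Agent.LEBasic.map_conj_eq_iff_mem_normalizer] at hg ⊢
    refine le_antisymm (key g hg) ?_
    have hg' : A.map (MulAut.conj g⁻¹).toMonoidHom = A := by
      conv_lhs => rw [← hg]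
      rw [Cfsg.Agent.LEBasic.map_conj_map_conj, inv_mul_cancel, Cfsg.Agent.LEBasic.map_conj_one]
    have h1 := Cfsg.Agent.LEBasic.map_conj_mono g (key g⁻¹ hg')
    rwa [Cfsg.Agent.LEBasic.map_conj_map_conj, mul_inv_cancel, Cfsg.Agent.LEBasic.map_conj_one] at h1
  · have h1 := congrArg (Subgroup.map K.subtype) hsup
    rwa [Subgroup.map_sup, Subgroup.map_subgroupOf_eq_of_le hAK, ← MonoidHom.range_eq_map,
      Subgroup.range_subtype] at h1
  · intro hAp
    set A' := A.subgroupOf K with hA'
    set X := ⁅R, A'⁆ with hX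
    have hXR : X ≤ R := Subgroup.commutator_le_left R A'
    haveI : X.Normal := by
      rw [← Subgroup.normalizer_eq_top_iff, eq_top_iff, ← hsup]
      exact sup_le (Subgroup.normalizer_commutator_ge_right R A') (Subgroup.normalizer_commutator_ge_left R A')
    have hn : (A' ⊔ X).Normal := by
      rw [← Subgroup.normalizer_eq_top_iff, eq_top_iff, ← hsup]
      refine sup_le (le_sup_left.trans Subgroup.le_normalizer) (Subgroup.le_normalizer_iff.2 fun r hr z hz => ?_)
      have hle : (A' ⊔ X).map (MulAut.conj r).toMonoidHom ≤ A' ⊔ X := by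
        rw [Subgroup.map_sup]
        refine sup_le ?_ ((Cfsg.Agent.LEBasic.map_conj_eq_iff_mem_normalizer.2
          (Subgroup.le_normalizer_of_normal (H := X) (K := ⊤) (Subgroup.mem_top r) : r ∈ _)).le.trans le_sup_right)
        rintro _ ⟨a, ha, rfl⟩
        show r * a * r⁻¹ ∈ A' ⊔ X
        rw [show r * a * r⁻¹ = ⁅r, a⁆ * a by simp [commutatorElement_def, mul_assoc]]
        exact mul_mem (Subgroup.mem_sup_right (Subgroup.commutator_mem_commutator hr ha)) (Subgroup.mem_sup_left ha)
      exact hle ⟨z, hz, rfl⟩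
    have htop : A' ⊔ X = ⊤ := by
      haveI := hn
      exact eq_top_iff.2 (hncl.ge.trans (Subgroup.normalClosure_le_normal fun x hx => Subgroup.mem_sup_left hx))
    have hq : IsPGroup p (↥K ⧸ X) := by
      have h2 : A'.map (QuotientGroup.mk' X) = ⊤ := by
        have := congrArg (Subgroup.map (QuotientGroup.mk' X)) htop
        rwa [Subgroup.map_sup, QuotientGroup.map_mk'_self, sup_bot_eq,
          Subgroup.map_top_of_surjective _ (QuotientGroup.mk'_surjective X)] at this
      have h3 := (hAp.comap_of_injective K.subtype K.subtype_injective).map (QuotientGroup.mk' X)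
      rw [show (Subgroup.comap K.subtype A).map (QuotientGroup.mk' X) = ⊤ from h2] at h3
      exact h3.of_equiv Subgroup.topEquiv
    have heq : X = R := le_antisymm hXR (Cfsg.Agent.LEBasic.pResidual_le_of_quotient hq)
    have h4 := congrArg (Subgroup.map K.subtype) heq
    rwa [hX, Subgroup.map_commutator, Subgroup.map_subgroupOf_eq_of_le hAK] at h4

end Cfsg.Agent.S2814

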