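import Cfsg.Statements.S2815
import Cfsg.Agent.Lib.LocalEven.FStarAction
import Cfsg.Agent.Lib.LocalEven.PIrred
import Cfsg.Agent.Lib.Components.Local

set_option autoImplicit false
open Cfsg
open scoped commutatorElement

namespace Cfsg.Agent.S2815

/-- Let H be a finite group and p a prime dividing its order with O_p(H) = 1, and suppose K = O^p(H) (generated by the elements of order prime to p) is quasisimple. Then K = F*(H); for every nontrivial p-subgroup Y of H, K = [K, Y] and K lies in the subgroup generated by the K-conjugates of Y; every normal subgroup of H not containing K has order prime to p; and H is p-irreducible. -/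
theorem result {H : Type*} [Group H] [Finite H] {p : ℕ} [Fact p.Prime] (hp : p ∣ Nat.card H) (hO : Cfsg.pCore p H = ⊥) (hq : Cfsg.IsQuasisimple ↥(Cfsg.pResidual p H)) : Cfsg.pResidual p H = Cfsg.generalizedFittingSubgroup H ∧ (∀ Y : Subgroup H, IsPGroup p ↥Y → Y ≠ ⊥ → ⁅Cfsg.pResidual p H, Y⁆ = Cfsg.pResidual p H ∧ Cfsg.pResidual p H ≤ ⨆ k : ↥(Cfsg.pResidual p H), Y.map (MulAut.conj (k : H)).toMonoidHom) ∧ (∀ C : Subgroup H, C.Normal → ¬ Cfsg.pResidual p H ≤ C → (Nat.card ↥C).Coprime p) ∧ Cfsg.IsPIrreducible p H := by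
  set R := Cfsg.pResidual p H with hRdef
  haveI hRn : R.Normal := Cfsg.Agent.LEBasic.pResidual_normal
  have hRc : Cfsg.IsComponent R := ⟨Subgroup.Normal.isSubnormal inferInstance, hq⟩
  have hF := Cfsg.Agent.LEFStar.not_dvd_fitting (G := H) hO
  have hperf : ⁅R, R⁆ = R := Cfsg.Agent.Components.component_commutator_eq hRc
  have hqR : ∀ (L : Subgroup H), ⁅L, L⁆ = L → L ≤ R := by
    intro L hL
    have hQ : IsPGroup p (H ⧸ R) := Cfsg.Agent.LEBasic.quotient_pResidual_isPGroup
    set Lb := L.map (QuotientGroup.mk' R) with hLb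
    have h1 : Lb ≤ ⁅Lb, Lb⁆ := by rw [hLb, ← Subgroup.map_commutator, hL]
    have h2 := Cfsg.Agent.LEBasic.eq_bot_of_le_commutator (hQ.to_subgroup Lb) le_rfl h1
    rw [hLb, Subgroup.map_eq_bot_iff, QuotientGroup.ker_mk'] at h2
    exact h2
  have hFeq : R = Cfsg.generalizedFittingSubgroup H := by
    refine le_antisymm ((Cfsg.Agent.Components.component_le_layer hRc).trans le_sup_left)
      (sup_le (Cfsg.Agent.Components.layer_le_iff.2 fun L hL =>
        hqR L (Cfsg.Agent.Components.component_commutator_eq hL)) ?_)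
    intro x hx
    refine Cfsg.Agent.LEBasic.mem_pResidual (((Fact.out : p.Prime).coprime_iff_not_dvd.2 fun hd => hF ?_).symm)
    exact hd.trans ((Subgroup.orderOf_coe (⟨x, hx⟩ : ↥(Cfsg.fittingSubgroup H))).symm ▸ orderOf_dvd_natCard _)
  have hCR : Subgroup.centralizer (R : Set H) ≤ R := by
    rw [hFeq]; exact Cfsg.Agent.Components.centralizer_generalizedFitting_le
  have hcent : ∀ N : Subgroup H, N ≤ Subgroup.centralizer (R : Set H) → (Nat.card ↥N).Coprime p := by
    intro N hN
    haveI : (Subgroup.centralizer (R : Set H)).Normal := inferInstance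
    have hnil : Group.IsNilpotent ↥(Subgroup.centralizer (R : Set H)) := by
      haveI : IsMulCommutative ↥(Subgroup.centralizer (R : Set H)) :=
        Subgroup.le_centralizer_iff_isMulCommutative.1 (hCR.trans (Subgroup.le_centralizer_iff.1 le_rfl))
      exact Cfsg.Agent.Components.isNilpotent_of_commutator_le_center fun _ _ => Subgroup.mem_center_iff.2 fun g => mul_comm' _ _
    have h := Cfsg.Agent.LEFStar.not_dvd_of_normal_nilpotent hO _ hnil
    exact Nat.Coprime.coprime_dvd_left (Subgroup.card_dvd_of_le hN)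
      ((Fact.out : p.Prime).coprime_iff_not_dvd.2 h).symm
  have hnormal : ∀ C : Subgroup H, C.Normal → ¬ R ≤ C → (Nat.card ↥C).Coprime p := by
    intro C hC hRC
    refine hcent C ?_
    rcases Cfsg.Agent.Components.component_le_or_commute hRc (Subgroup.Normal.isSubnormal hC) with h | h
    · exact absurd h hRC
    · rwa [Subgroup.commutator_comm, Subgroup.commutator_eq_bot_iff_le_centralizer] at h
  have hY : ∀ Y : Subgroup H, IsPGroup p ↥Y → Y ≠ ⊥ → ⁅R, Y⁆ = R := by
    intro Y hYp hY1
    have hle : ⁅R, Y⁆ ≤ R := Subgroup.commutator_le_left R Y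
    refine le_antisymm hle ?_
    have hsn : (⁅R, Y⁆).IsSubnormal := Subgroup.IsSubnormal.step _ R hle hRc.1
      ((Subgroup.normal_subgroupOf_iff_le_normalizer hle).2 (Subgroup.normalizer_commutator_ge_left R Y))
    rcases Cfsg.Agent.Components.component_le_or_commute hRc hsn with h | h
    · exact h
    · exfalso
      have h1 : ⁅⁅R, Y⁆, R⁆ = ⊥ := by rwa [Subgroup.commutator_comm]
      have h2 : ⁅⁅R, R⁆, Y⁆ = ⊥ :=
        Subgroup.commutator_commutator_eq_bot_of_rotate h1 (by rwa [Subgroup.commutator_comm Y R])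
      rw [hperf, Subgroup.commutator_comm, Subgroup.commutator_eq_bot_iff_le_centralizer] at h2
      obtain ⟨k, hk⟩ := hYp.exists_card_eq
      have hco := hcent Y h2
      rw [hk] at hco
      rcases k with _ | k
      · exact hY1 (Subgroup.eq_bot_of_card_eq Y (by rw [hk, pow_zero]))
      · exact (Fact.out : p.Prime).coprime_iff_not_dvd.1 hco.symm (dvd_pow_self p k.succ_ne_zero)
  refine ⟨hFeq, fun Y hYp hY1 => ⟨hY Y hYp hY1, ?_⟩, hnormal, ?_, ?_⟩
  · refine (hY Y hYp hY1).ge.trans ?_
    rw [Subgroup.commutator_le]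
    intro r hr y hy
    have h1 : r * y * r⁻¹ ∈ ⨆ k : ↥R, Y.map (MulAut.conj (k : H)).toMonoidHom :=
      le_iSup (fun k : ↥R => Y.map (MulAut.conj (k : H)).toMonoidHom) ⟨r, hr⟩ ⟨y, hy, rfl⟩
    have h2 : y⁻¹ ∈ ⨆ k : ↥R, Y.map (MulAut.conj (k : H)).toMonoidHom :=
      le_iSup (fun k : ↥R => Y.map (MulAut.conj (k : H)).toMonoidHom) 1 ⟨y⁻¹, inv_mem hy, by simp⟩
    simpa [commutatorElement_def] using mul_mem h1 h2
  · intro hcl
    let P : Sylow p H := Classical.arbitrary _
    exact P.ne_bot_of_dvd_card hp (le_bot_iff.1 (hO ▸ Cfsg.Agent.LEBasic.le_pCore (hcl P) P.2))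
  · intro N hN hnc
    by_contra hRN
    refine hnc fun P => ?_
    have h1 := hnormal N hN hRN
    have : (P : Subgroup ↥N) = ⊥ := by
      obtain ⟨k, hk⟩ := P.2.exists_card_eq
      refine Subgroup.eq_bot_of_card_eq _ ?_
      have hd : p ^ k ∣ Nat.card ↥N := hk ▸ Subgroup.card_subgroup_dvd_card _
      rw [hk]
      exact Nat.eq_one_of_dvd_coprimes (h1.pow_right k) hd dvd_rfl
    rw [this]
    infer_instance

end Cfsg.Agent.S2815

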