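import Cfsg.Statements.S2816
import Cfsg.Agent.Lib.LocalEven.FStarAction
import Cfsg.Agent.Lib.LocalEven.PIrred
import Cfsg.Agent.Lib.Components.Local

set_option autoImplicit false
open Cfsg
open scoped commutatorElement

namespace Cfsg.Agent.S2816

/-- Let H be a finite group and p a prime with O_p(H) = 1, and Y a p-subgroup of H. Then for every subnormal subgroup K of H containing Y, [F*(H), Y] = [F*(K), Y] = [F*(K), Y, Y]; and if Y₀ ≤ Y with [F*(H), Y, Y₀] = 1 then Y₀ = 1 (in particular [F*(H), Y] = 1 forces Y = 1). -/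
theorem result {H : Type*} [Group H] [Finite H] {p : ℕ} [Fact p.Prime] (hO : Cfsg.pCore p H = ⊥) (Y : Subgroup H) (hY : IsPGroup p ↥Y) : (∀ K : Subgroup H, K.IsSubnormal → Y ≤ K → ⁅Cfsg.generalizedFittingSubgroup H, Y⁆ = ⁅(Cfsg.generalizedFittingSubgroup ↥K).map K.subtype, Y⁆ ∧ ⁅(Cfsg.generalizedFittingSubgroup ↥K).map K.subtype, Y⁆ = ⁅⁅(Cfsg.generalizedFittingSubgroup ↥K).map K.subtype, Y⁆, Y⁆) ∧ (∀ Y₀ : Subgroup H, Y₀ ≤ Y → ⁅⁅Cfsg.generalizedFittingSubgroup H, Y⁆, Y₀⁆ = ⊥ → Y₀ = ⊥) := by
  set F := Cfsg.generalizedFittingSubgroup H with hFdef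
  haveI hFn : F.Normal := Cfsg.Agent.Components.generalizedFitting_normal
  have hFsn : F.IsSubnormal := Subgroup.Normal.isSubnormal inferInstance
  have hfs : Cfsg.generalizedFittingSubgroup ↥F = ⊤ :=
    Cfsg.Agent.Components.subnormal_le_generalizedFitting hFsn le_rfl
  have hF := Cfsg.Agent.LEFStar.not_dvd_fitting_subnormal hO hFsn
  have hYF : Y ≤ Subgroup.normalizer (F : Set H) := Subgroup.le_normalizer_of_normal
  set X := ⁅F, Y⁆ with hX
  have hXX : ⁅X, Y⁆ = X := Cfsg.Agent.LEFStar.split_comm hY hYF hfs hF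
  constructor
  · intro K hK hYK
    have hXK : X ≤ K := by
      have key : ∀ K : Subgroup H, K.IsSubnormal → Y ≤ K → X ≤ K := by
        intro K hK
        induction hK with
        | top => exact fun _ => le_top
        | step A B hAB _ hN ih =>
          intro hYA
          rw [← hXX]
          exact (Subgroup.commutator_mono (ih (hYA.trans hAB)) hYA).trans
            (Subgroup.le_normalizer_iff_commutator_le_right.1
              ((Subgroup.normal_subgroupOf_iff_le_normalizer hAB).1 hN))
      exact key K hK hYK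
    have hXF : X ≤ F := Subgroup.le_normalizer_iff_commutator_le_left.1 hYF
    rw [Cfsg.Agent.Components.generalizedFitting_of_subnormal hK]
    have h1 : ⁅F ⊓ K, Y⁆ = X := le_antisymm (Subgroup.commutator_mono inf_le_left le_rfl)
      (hXX.ge.trans (Subgroup.commutator_mono (le_inf hXF hXK) le_rfl))
    refine ⟨h1.symm, ?_⟩
    rw [h1, hXX]
  · intro Y₀ hY₀ hc
    have h1 : Y₀ ≤ Subgroup.centralizer (X : Set H) := by
      rwa [Subgroup.commutator_comm, Subgroup.commutator_eq_bot_iff_le_centralizer] at hc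
    have h2 : Y₀ ≤ Subgroup.centralizer (F : Set H) := by
      rw [Subgroup.le_centralizer_iff, ← Cfsg.Agent.LEFStar.split_sup hY hYF hfs hF]
      exact sup_le (Subgroup.le_centralizer_iff.1 h1) (inf_le_right.trans (Subgroup.centralizer_le hY₀))
    haveI : (Subgroup.centralizer (F : Set H)).Normal := inferInstance
    have hnil : Group.IsNilpotent ↥(Subgroup.centralizer (F : Set H)) := by
      haveI : IsMulCommutative ↥(Subgroup.centralizer (F : Set H)) :=
        Subgroup.le_centralizer_iff_isMulCommutative.1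
          (Cfsg.Agent.Components.centralizer_generalizedFitting_le.trans (Subgroup.le_centralizer_iff.1 le_rfl))
      exact Cfsg.Agent.Components.isNilpotent_of_commutator_le_center fun _ _ => Subgroup.mem_center_iff.2 fun g => mul_comm' _ _
    have h3 := Cfsg.Agent.LEFStar.not_dvd_of_normal_nilpotent hO _ hnil
    obtain ⟨k, hk⟩ := (hY.to_le hY₀).exists_card_eq
    rcases k with _ | k
    · exact Subgroup.eq_bot_of_card_eq _ (by rw [hk, pow_zero])
    · exact absurd ((dvd_pow_self p k.succ_ne_zero).trans (hk ▸ Subgroup.card_dvd_of_le h2)) h3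

end Cfsg.Agent.S2816

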