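import Cfsg.Statements.S2817
import Cfsg.Agent.Lib.LocalEven.FStarAction
import Cfsg.Agent.Lib.LocalEven.Large

set_option autoImplicit false
set_option maxHeartbeats 1000000
open Cfsg
open scoped commutatorElement Pointwise

namespace Cfsg.Agent.S2817

/-- Let H be a finite group and p a prime with O_p(H) = 1, Q a p-subgroup of H, L = [F*(H), Q], and F the largest normal subgroup of F*(H) centralized by Q (a normal subgroup of F*(H) centralized by Q and containing every such). Then F = C_{F*(H)}(LQ); L = [L, Q]; L ∩ F ≤ Φ(L); every p-subgroup B of N_H(Q) with [L, B] ≤ F satisfies [L, B] = 1; and C_H(FL) has order prime to p. -/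
theorem result {H : Type*} [Group H] [Finite H] {p : ℕ} [Fact p.Prime] (hO : Cfsg.pCore p H = ⊥) (Q : Subgroup H) (hQ : IsPGroup p ↥Q) (L : Subgroup H) (hL : L = ⁅Cfsg.generalizedFittingSubgroup H, Q⁆) (F : Subgroup H) (hF : F ≤ Cfsg.generalizedFittingSubgroup H ∧ Cfsg.generalizedFittingSubgroup H ≤ Subgroup.normalizer (F : Set H) ∧ Q ≤ Subgroup.centralizer (F : Set H) ∧ ∀ N : Subgroup H, N ≤ Cfsg.generalizedFittingSubgroup H → Cfsg.generalizedFittingSubgroup H ≤ Subgroup.normalizer (N : Set H) → Q ≤ Subgroup.centralizer (N : Set H) → N ≤ F) : F = Cfsg.generalizedFittingSubgroup H ⊓ Subgroup.centralizer ((L ⊔ Q : Subgroup H) : Set H) ∧ ⁅L, Q⁆ = L ∧ L ⊓ F ≤ (frattini ↥L).map L.subtype ∧ (∀ B : Subgroup H, IsPGroup p ↥B → B ≤ Subgroup.normalizer (Q : Set H) → ⁅L, B⁆ ≤ F → ⁅L, B⁆ = ⊥) ∧ (Nat.card ↥(Subgroup.centralizer ((F ⊔ L : Subgroup H) : Set H))).Coprime p := by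
  set Fs := Cfsg.generalizedFittingSubgroup H with hFs
  obtain ⟨hFle, hFn, hQF, hmax⟩ := hF
  haveI hFsn : Fs.Normal := Cfsg.Agent.Components.generalizedFitting_normal
  have hsn : Fs.IsSubnormal := Subgroup.Normal.isSubnormal inferInstance
  have hfs : Cfsg.generalizedFittingSubgroup ↥Fs = ⊤ :=
    Cfsg.Agent.Components.subnormal_le_generalizedFitting hsn le_rfl
  have hFp := Cfsg.Agent.LEFStar.not_dvd_fitting_subnormal hO hsn
  have hQn : Q ≤ Subgroup.normalizer (Fs : Set H) := Subgroup.le_normalizer_of_normal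
  have hLQ : ⁅L, Q⁆ = L := hL ▸ Cfsg.Agent.LEFStar.split_comm hQ hQn hfs hFp
  have hsplit : L ⊔ (Fs ⊓ Subgroup.centralizer (Q : Set H)) = Fs :=
    hL ▸ Cfsg.Agent.LEFStar.split_sup hQ hQn hfs hFp
  have hLFs : L ≤ Fs := hsplit ▸ le_sup_left
  have hLn : Fs ≤ Subgroup.normalizer (L : Set H) := hL ▸ Subgroup.normalizer_commutator_ge_left Fs Q
  -- `F` centralizes `L`
  have hFL : F ≤ Subgroup.centralizer (L : Set H) := by
    have h0 : ⁅F, Q⁆ = ⊥ := Subgroup.commutator_eq_bot_iff_le_centralizer.2 (Subgroup.le_centralizer_iff.1 hQF)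
    have h1 : ⁅⁅Q, F⁆, Fs⁆ = ⊥ := by
      rw [Subgroup.commutator_comm Q F, h0, Subgroup.commutator_bot_left]
    have h2 : ⁅⁅F, Fs⁆, Q⁆ = ⊥ := eq_bot_iff.2 (h0 ▸ Subgroup.commutator_mono
      (Subgroup.le_normalizer_iff_commutator_le_left.1 hFn) le_rfl)
    have h3 : ⁅⁅Fs, Q⁆, F⁆ = ⊥ := Subgroup.commutator_commutator_eq_bot_of_rotate h1 h2
    rw [← hL, Subgroup.commutator_comm, Subgroup.commutator_eq_bot_iff_le_centralizer] at h3
    exact h3
  set R := Fs ⊓ Subgroup.centralizer ((L ⊔ Q : Subgroup H) : Set H) with hR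
  have hRmem : ∀ x, x ∈ R ↔ x ∈ Fs ∧ x ∈ Subgroup.centralizer (L : Set H) ∧ x ∈ Subgroup.centralizer (Q : Set H) := by
    intro x
    constructor
    · intro hx
      refine ⟨(Subgroup.mem_inf.1 hx).1, Subgroup.mem_centralizer_iff.2 fun l hl => ?_, Subgroup.mem_centralizer_iff.2 fun l hl => ?_⟩
      · exact Subgroup.mem_centralizer_iff.1 (Subgroup.mem_inf.1 hx).2 l (Subgroup.mem_sup_left hl)
      · exact Subgroup.mem_centralizer_iff.1 (Subgroup.mem_inf.1 hx).2 l (Subgroup.mem_sup_right hl)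
    · rintro ⟨h1, h2, h3⟩
      refine Subgroup.mem_inf.2 ⟨h1, ?_⟩
      have : L ⊔ Q ≤ Subgroup.centralizer ({x} : Set H) :=
        sup_le (fun l hl => Subgroup.mem_centralizer_singleton_iff.2 (Subgroup.mem_centralizer_iff.1 h2 l hl))
          (fun l hl => Subgroup.mem_centralizer_singleton_iff.2 (Subgroup.mem_centralizer_iff.1 h3 l hl))
      exact Subgroup.mem_centralizer_iff.2 fun l hl => Subgroup.mem_centralizer_singleton_iff.1 (this hl)
  have hRL : R ≤ Subgroup.centralizer (L : Set H) := fun x hx => ((hRmem x).1 hx).2.1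
  have hRQ : R ≤ Subgroup.centralizer (Q : Set H) := fun x hx => ((hRmem x).1 hx).2.2
  have hRn : Fs ≤ Subgroup.normalizer (R : Set H) := by
    conv_lhs => rw [← hsplit]
    refine sup_le ?_ ?_
    · exact (Subgroup.le_centralizer_iff.1 hRL).trans (Subgroup.centralizer_le_normalizer _)
    · intro c hc
      obtain ⟨hc1, hc2⟩ := Subgroup.mem_inf.1 hc
      have hg : c ∈ Subgroup.normalizer ((L ⊔ Q : Subgroup H) : Set H) :=
        Subgroup.normalizer_inf_normalizer_le_normalizer_sup L Q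
          (Subgroup.mem_inf.2 ⟨hLn hc1, Subgroup.centralizer_le_normalizer _ hc2⟩)
      exact Subgroup.inf_normalizer_le_normalizer_inf (Subgroup.mem_inf.2
        ⟨Subgroup.le_normalizer hc1, Cfsg.Agent.LELarge.normalizer_le_normalizer_centralizer _ hg⟩)
  have hFeq : F = R := le_antisymm
    (fun x hx => (hRmem x).2 ⟨hFle hx, hFL hx, Subgroup.le_centralizer_iff.1 hQF hx⟩)
    (hmax R inf_le_left hRn (Subgroup.le_centralizer_iff.1 hRQ))
  -- `L`
  haveI := Cfsg.Agent.Components.layer_normal (G := H)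
  have hLsn : L.IsSubnormal := Subgroup.IsSubnormal.step L Fs hLFs hsn
    ((Subgroup.normal_subgroupOf_iff_le_normalizer hLFs).2 hLn)
  have hLfs : Cfsg.generalizedFittingSubgroup ↥L = ⊤ :=
    Cfsg.Agent.Components.subnormal_le_generalizedFitting hLsn hLFs
  have hLF : ¬ p ∣ Nat.card ↥(Cfsg.fittingSubgroup ↥L) := Cfsg.Agent.LEFStar.not_dvd_fitting_subnormal hO hLsn
  have hQL : Q ≤ Subgroup.normalizer (L : Set H) := hL ▸ Subgroup.normalizer_commutator_ge_right Fs Q
  have hsol : Group.IsSolvable ↥Q := by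
    haveI := hQ.isNilpotent
    infer_instance
  -- `L = [L, L] F(L)`
  set D := ⁅L, L⁆ with hD
  set FL := (Cfsg.fittingSubgroup ↥L).map L.subtype with hFL'
  have hDL : D ≤ L := Subgroup.le_normalizer_iff_commutator_le_left.1 Subgroup.le_normalizer
  have hLDF : L ≤ D ⊔ FL := by
    calc L = (Cfsg.generalizedFittingSubgroup ↥L).map L.subtype := by
          rw [hLfs, ← MonoidHom.range_eq_map, Subgroup.range_subtype]
      _ ≤ D ⊔ FL := by
          rw [Cfsg.generalizedFittingSubgroup, Subgroup.map_sup]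
          refine sup_le_sup_right ?_ _
          rw [← Cfsg.Agent.Components.layer_commutator_eq, Subgroup.map_commutator]
          exact Subgroup.commutator_mono (Subgroup.map_subtype_le _) (Subgroup.map_subtype_le _)
  have hcard : ¬ p ∣ Nat.card ↥FL := by
    rwa [hFL', ← Nat.card_congr (Subgroup.equivMapOfInjective _ _ L.subtype_injective).toEquiv]
  -- `L ⊓ F ≤ D`
  have hLFD : L ⊓ F ≤ D := by
    set K := L ⊔ Q with hK
    have hDn : K ≤ Subgroup.normalizer (D : Set H) := sup_le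
      (Subgroup.normalizer_commutator_ge_left L L) fun g hg => by
        rw [← Cfsg.Agent.LEBasic.map_conj_eq_iff_mem_normalizer, Subgroup.map_commutator,
          Cfsg.Agent.LEBasic.map_conj_eq_iff_mem_normalizer.2 (hQL hg)]
    haveI : (D.subgroupOf K).Normal :=
      (Subgroup.normal_subgroupOf_iff_le_normalizer (hDL.trans le_sup_left)).2 hDn
    let q := QuotientGroup.mk' (D.subgroupOf K)
    set Lb := (L.subgroupOf K).map q with hLb
    set Qb := (Q.subgroupOf K).map q with hQb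
    haveI : IsMulCommutative ↥Lb := by
      refine Subgroup.le_centralizer_iff_isMulCommutative.1 (Subgroup.commutator_eq_bot_iff_le_centralizer.1 ?_)
      rw [hLb, ← Subgroup.map_commutator, Subgroup.map_eq_bot_iff, QuotientGroup.ker_mk']
      intro x hx
      have := Subgroup.mem_map_of_mem K.subtype hx
      rw [Subgroup.map_commutator, Subgroup.map_subgroupOf_eq_of_le le_sup_left] at this
      exact this
    have hQbLb : Qb ≤ Subgroup.normalizer (Lb : Set _) := by
      haveI : (L.subgroupOf K).Normal :=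
        (Subgroup.normal_subgroupOf_iff_le_normalizer le_sup_left).2 (sup_le Subgroup.le_normalizer hQL)
      haveI : Lb.Normal := Subgroup.Normal.map inferInstance q (QuotientGroup.mk'_surjective _)
      exact Subgroup.le_normalizer_of_normal
    have hLbcard : ¬ p ∣ Nat.card ↥Lb := by
      intro hd
      have hle : Lb ≤ (FL.subgroupOf K).map q := by
        rintro _ ⟨x, hx, rfl⟩
        have h1 : (x : H) ∈ (D : Set H) * (FL : Set H) := by
          rw [← Subgroup.coe_mul_of_right_le_normalizer_left D FL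
            ((Subgroup.map_subtype_le _).trans (Subgroup.normalizer_commutator_ge_left L L))]
          exact hLDF hx
        obtain ⟨d, hd, f, hf, hdf⟩ := h1
        have hfK : f ∈ K := le_sup_left (a := L) (Subgroup.map_subtype_le _ hf)
        refine ⟨⟨f, hfK⟩, hf, ?_⟩
        refine (QuotientGroup.eq).2 ?_
        show f⁻¹ * (x : H) ∈ D
        rw [← hdf]
        have hfn : f ∈ Subgroup.normalizer (D : Set H) := hDn hfK
        simpa [mul_assoc] using (Subgroup.mem_normalizer_iff''.1 hfn d).1 hd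
      refine hcard (hd.trans ((Subgroup.card_dvd_of_le hle).trans ((Subgroup.card_map_dvd _ _).trans ?_)))
      exact (Nat.card_congr (Subgroup.subgroupOfEquivOfLe ((Subgroup.map_subtype_le _).trans le_sup_left)).toEquiv).dvd
    have hcop : (Nat.card ↥Qb).Coprime (Nat.card ↥Lb) := by
      obtain ⟨k, hk⟩ := ((hQ.comap_of_injective K.subtype K.subtype_injective).map q).exists_card_eq
      rw [show Qb = (Subgroup.comap K.subtype Q).map q from rfl, hk]
      exact Nat.Coprime.pow_left k ((Fact.out : p.Prime).coprime_iff_not_dvd.2 hLbcard)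
    have hbot := Cfsg.Agent.CoprimeAct.centralizer_inf_commutator_eq_bot hQbLb hcop
    intro z hz
    obtain ⟨hz1, hz2⟩ := Subgroup.mem_inf.1 hz
    have hzK : z ∈ K := le_sup_left (a := L) hz1
    have hcomm : ⁅Lb, Qb⁆ = Lb := by
      rw [hLb, hQb, ← Subgroup.map_commutator]
      congr 1
      apply Subgroup.map_injective K.subtype_injective
      rw [Subgroup.map_commutator, Subgroup.map_subgroupOf_eq_of_le le_sup_left,
        Subgroup.map_subgroupOf_eq_of_le le_sup_right, hLQ]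
    have hzb : q ⟨z, hzK⟩ ∈ (Lb ⊓ Subgroup.centralizer (Qb : Set _)) ⊓ ⁅Lb, Qb⁆ := by
      rw [hcomm]
      refine Subgroup.mem_inf.2 ⟨Subgroup.mem_inf.2 ⟨⟨⟨z, hzK⟩, hz1, rfl⟩, ?_⟩, ⟨⟨z, hzK⟩, hz1, rfl⟩⟩
      refine Subgroup.mem_centralizer_iff.2 ?_
      rintro _ ⟨y, hy, rfl⟩
      rw [← map_mul, ← map_mul]
      congr 1
      exact Subtype.ext (Subgroup.mem_centralizer_iff.1 (Subgroup.le_centralizer_iff.1 hQF hz2) (y : H) hy)
    rw [hbot, Subgroup.mem_bot] at hzb
    exact ((QuotientGroup.eq_one_iff _).1 hzb : (⟨z, hzK⟩ : ↥K) ∈ D.subgroupOf K)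
  have hfrat : L ⊓ F ≤ (frattini ↥L).map L.subtype := by
    intro z hz
    obtain ⟨hz1, hz2⟩ := Subgroup.mem_inf.1 hz
    refine ⟨⟨z, hz1⟩, ?_, rfl⟩
    simp only [frattini, Order.radical, SetLike.mem_coe, Subgroup.mem_iInf]
    intro M hM
    by_contra hzM
    have hzc : ∀ l : ↥L, l * ⟨z, hz1⟩ = ⟨z, hz1⟩ * l := fun l =>
      Subtype.ext (Subgroup.mem_centralizer_iff.1 (hFL hz2) (l : H) l.2)
    have hnorm : M.Normal := by
      rw [← Subgroup.normalizer_eq_top_iff]
      refine hM.2 _ (lt_of_le_of_ne Subgroup.le_normalizer fun h => hzM ?_)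
      rw [h]
      refine Subgroup.centralizer_le_normalizer _ (Subgroup.mem_centralizer_iff.2 fun m _ => hzc m)
    have hcomm : commutator ↥L ≤ M := by
      have htop : M ⊔ Subgroup.zpowers (⟨z, hz1⟩ : ↥L) = ⊤ := hM.2 _
        (left_lt_sup.2 fun h => hzM (h (Subgroup.mem_zpowers _)))
      rw [commutator_def, Subgroup.commutator_le]
      intro a _ b _
      have ha : a ∈ M ⊔ Subgroup.zpowers (⟨z, hz1⟩ : ↥L) := htop ▸ Subgroup.mem_top a
      have hb : b ∈ M ⊔ Subgroup.zpowers (⟨z, hz1⟩ : ↥L) := htop ▸ Subgroup.mem_top b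
      obtain ⟨m, hm, u, hu, rfl⟩ := Subgroup.mem_sup_of_normal_left.1 ha
      obtain ⟨m', hm', v, hv, rfl⟩ := Subgroup.mem_sup_of_normal_left.1 hb
      have huc : ∀ l : ↥L, u * l = l * u := fun l => by
        obtain ⟨i, rfl⟩ := Subgroup.mem_zpowers_iff.1 hu
        exact (show Commute (⟨z, hz1⟩ : ↥L) l from (hzc l).symm).zpow_left i
      have hvc : ∀ l : ↥L, v * l = l * v := fun l => by
        obtain ⟨i, rfl⟩ := Subgroup.mem_zpowers_iff.1 hv
        exact (show Commute (⟨z, hz1⟩ : ↥L) l from (hzc l).symm).zpow_left i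
      have : ⁅m * u, m' * v⁆ = ⁅m, m'⁆ := by
        simp only [commutatorElement_def, mul_inv_rev]
        have e1 : u * (m' * v) = m' * v * u := by rw [huc]
        calc m * u * (m' * v) * (u⁻¹ * m⁻¹) * (v⁻¹ * m'⁻¹)
            = m * (u * (m' * v)) * u⁻¹ * m⁻¹ * v⁻¹ * m'⁻¹ := by simp [mul_assoc]
          _ = m * m' * (v * m⁻¹) * v⁻¹ * m'⁻¹ := by rw [e1]; simp [mul_assoc]
          _ = m * m' * m⁻¹ * m'⁻¹ := by rw [hvc]; simp [mul_assoc]
      rw [this]
      exact mul_mem (mul_mem (mul_mem hm hm') (inv_mem hm)) (inv_mem hm')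
    refine hzM (hcomm ?_)
    have h1 := hLFD hz
    rw [hD, ← Subgroup.map_subtype_commutator] at h1
    obtain ⟨w, hw, hwz⟩ := h1
    rwa [show (w : ↥L) = ⟨z, hz1⟩ from Subtype.ext hwz] at hw
  refine ⟨hFeq, hLQ, hfrat, ?_, ?_⟩
  · -- `[L, B] ≤ F`
    intro B hB hBQ hBF
    have hBL : B ≤ Subgroup.normalizer (L : Set H) := fun b hb => by
      rw [← Cfsg.Agent.LEBasic.map_conj_eq_iff_mem_normalizer, hL, Subgroup.map_commutator,
        Cfsg.Agent.LEBasic.map_conj_eq_iff_mem_normalizer.2 (hBQ hb),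
        Cfsg.Agent.LEBasic.map_conj_eq_iff_mem_normalizer.2
          (Subgroup.le_normalizer_of_normal (H := Fs) (K := ⊤) (Subgroup.mem_top b) : b ∈ _)]
    have hZ : ⁅L, B⁆ ≤ L ⊓ F := le_inf (Subgroup.le_normalizer_iff_commutator_le_left.1 hBL) hBF
    have h1 : ⁅⁅L, B⁆, L⁆ = ⊥ := by
      rw [Subgroup.commutator_eq_bot_iff_le_centralizer]
      exact hZ.trans (inf_le_right.trans hFL)
    have h2 : ⁅⁅L, L⁆, B⁆ = ⊥ :=
      Subgroup.commutator_commutator_eq_bot_of_rotate h1 (by rwa [Subgroup.commutator_comm B L])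
    have h3 : ⁅⁅L, B⁆, B⁆ = ⊥ :=
      eq_bot_iff.2 (h2 ▸ Subgroup.commutator_mono (hZ.trans hLFD) le_rfl)
    have h4 := Cfsg.Agent.LEFStar.split_comm hB hBL hLfs hLF
    rwa [h3, eq_comm] at h4
  · -- `C(F L)` is a `p'`-group
    by_contra hnc
    have hd : p ∣ Nat.card ↥(Subgroup.centralizer ((F ⊔ L : Subgroup H) : Set H)) := by
      by_contra hd
      exact hnc ((Fact.out : p.Prime).coprime_iff_not_dvd.2 hd).symm
    obtain ⟨⟨x, hx⟩, hxo⟩ := exists_prime_orderOf_dvd_card' p hd
    rw [Subgroup.orderOf_mk] at hxo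
    set C := Subgroup.centralizer ((F ⊔ L : Subgroup H) : Set H) with hC
    set X := Subgroup.zpowers x with hX
    have hXp : IsPGroup p ↥X := IsPGroup.of_card (n := 1) (by rw [Nat.card_zpowers, hxo, pow_one])
    have hXC : X ≤ C := Subgroup.zpowers_le.2 hx
    have hFsC : Fs ≤ Subgroup.normalizer (C : Set H) := fun g hg =>
      Cfsg.Agent.LELarge.normalizer_le_normalizer_centralizer _ (Subgroup.normalizer_inf_normalizer_le_normalizer_sup F L
        (Subgroup.mem_inf.2 ⟨hFn hg, hLn hg⟩))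
    -- `C_{F*}(L) ≤ L F`
    set M := Fs ⊓ Subgroup.centralizer (L : Set H) with hM
    have hMn : Fs ≤ Subgroup.normalizer (M : Set H) := (le_inf Subgroup.le_normalizer
      (hLn.trans (Cfsg.Agent.LELarge.normalizer_le_normalizer_centralizer _))).trans Subgroup.inf_normalizer_le_normalizer_inf
    have hMsn : M.IsSubnormal := Subgroup.IsSubnormal.step M Fs inf_le_left hsn
      ((Subgroup.normal_subgroupOf_iff_le_normalizer inf_le_left).2 hMn)
    have hQM : Q ≤ Subgroup.normalizer (M : Set H) := (le_inf hQn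
      (hQL.trans (Cfsg.Agent.LELarge.normalizer_le_normalizer_centralizer _))).trans Subgroup.inf_normalizer_le_normalizer_inf
    have hMle : M ≤ L ⊔ F := by
      rw [← Cfsg.Agent.LEFStar.split_sup hQ hQM (Cfsg.Agent.Components.subnormal_le_generalizedFitting hMsn inf_le_left)
        (Cfsg.Agent.LEFStar.not_dvd_fitting_subnormal hO hMsn)]
      refine sup_le (((Subgroup.commutator_mono inf_le_left le_rfl).trans hL.ge).trans le_sup_left) ?_
      intro c hc
      obtain ⟨hc1, hc2⟩ := Subgroup.mem_inf.1 hc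
      exact Subgroup.mem_sup_right (hFeq ▸ (hRmem c).2 ⟨(Subgroup.mem_inf.1 hc1).1, (Subgroup.mem_inf.1 hc1).2, hc2⟩)
    have hXFs : X ≤ Subgroup.normalizer (Fs : Set H) := Subgroup.le_normalizer_of_normal
    have hFX : ⁅Fs, X⁆ ≤ Fs ⊓ C := le_inf (Subgroup.le_normalizer_iff_commutator_le_left.1 hXFs)
      ((Subgroup.commutator_mono le_rfl hXC).trans (Subgroup.le_normalizer_iff_commutator_le_right.1 hFsC))
    have hbot : ⁅⁅Fs, X⁆, X⁆ = ⊥ := by
      rw [Subgroup.commutator_eq_bot_iff_le_centralizer]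
      have hCL : C ≤ Subgroup.centralizer (L : Set H) := fun c hc =>
        Subgroup.mem_centralizer_iff.2 fun l hl => Subgroup.mem_centralizer_iff.1 hc l (Subgroup.mem_sup_right hl)
      refine hFX.trans ((inf_le_inf_left Fs hCL).trans (hMle.trans ?_))
      rw [sup_comm]
      exact (Subgroup.le_centralizer_iff.1 hXC)
    have h5 := Cfsg.Agent.LEFStar.split_comm hXp hXFs hfs hFp
    rw [hbot] at h5
    have hxc : x ∈ Subgroup.centralizer (Fs : Set H) := by
      have h6 : ⁅X, Fs⁆ = ⊥ := by rw [Subgroup.commutator_comm]; exact h5.symm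
      exact Subgroup.commutator_eq_bot_iff_le_centralizer.1 h6 (Subgroup.mem_zpowers x)
    haveI : (Subgroup.centralizer (Fs : Set H)).Normal := inferInstance
    have hnil : Group.IsNilpotent ↥(Subgroup.centralizer (Fs : Set H)) := by
      haveI : IsMulCommutative ↥(Subgroup.centralizer (Fs : Set H)) :=
        Subgroup.le_centralizer_iff_isMulCommutative.1
          (Cfsg.Agent.Components.centralizer_generalizedFitting_le.trans (Subgroup.le_centralizer_iff.1 le_rfl))
      exact Cfsg.Agent.Components.isNilpotent_of_commutator_le_center fun _ _ => Subgroup.mem_center_iff.2 fun g => mul_comm' _ _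
    refine Cfsg.Agent.LEFStar.not_dvd_of_normal_nilpotent hO _ hnil ?_
    rw [← hxo, ← Subgroup.orderOf_mk x hxc]
    exact orderOf_dvd_natCard _

end Cfsg.Agent.S2817

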