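import Cfsg.Statements.S2818
import Cfsg.Agent.Lib.LocalEven.Frattini

set_option autoImplicit false
open Cfsg
open scoped commutatorElement

namespace Cfsg.Agent.S2818

/-- Let P be a finite p-subgroup of a group G and H a subgroup of N_G(P) with [P, H] ≤ Ω₁(Z(P)) (the elements of order dividing p in the centre of P). Then H centralizes the Frattini subgroup of P. -/
theorem result {G : Type*} [Group G] [Finite G] {p : ℕ} [Fact p.Prime] (P : Subgroup G) (hP : IsPGroup p ↥P) (H : Subgroup G) (hH : H ≤ Subgroup.normalizer (P : Set G)) (h : ⁅P, H⁆ ≤ Cfsg.omegaOne p (P ⊓ Subgroup.centralizer (P : Set G))) : ⁅(frattini ↥P).map P.subtype, H⁆ = ⊥ := by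
  set Z := P ⊓ Subgroup.centralizer (P : Set G) with hZ
  have hexp : ∀ w ∈ Cfsg.omegaOne p Z, w ^ p = 1 := by
    intro w hw
    induction hw using Subgroup.closure_induction with
    | mem x hx => exact hx.2
    | one => exact one_pow _
    | mul x y hx hy ihx ihy =>
      have hx' : x ∈ Z := (Subgroup.closure_le Z).2 (fun z hz => hz.1) hx
      have hy' : y ∈ Z := (Subgroup.closure_le Z).2 (fun z hz => hz.1) hy
      have hcm : Commute x y := Subgroup.mem_centralizer_iff.1 (Subgroup.mem_inf.1 hy').2 x (Subgroup.mem_inf.1 hx').1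
      rw [hcm.mul_pow, ihx, ihy, one_mul]
    | inv x hx ihx => rw [inv_pow, ihx, inv_one]
  have hconj : ∀ x ∈ P, ∀ k ∈ H, ∃ w, w ^ p = 1 ∧ (∀ y ∈ P, w * y = y * w) ∧ k * x * k⁻¹ = w * x := by
    intro x hx k hk
    have hw : ⁅x, k⁆ ∈ Cfsg.omegaOne p Z := h (Subgroup.commutator_mem_commutator hx hk)
    have hwZ : ⁅x, k⁆ ∈ Z := (Subgroup.closure_le Z).2 (fun z hz => hz.1) hw
    refine ⟨⁅x, k⁆⁻¹, by rw [inv_pow, hexp _ hw, inv_one], fun y hy => ?_, by simp [commutatorElement_def, mul_assoc]⟩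
    exact (Subgroup.mem_centralizer_iff.1 (Subgroup.mem_inf.1 (inv_mem hwZ)).2 y hy).symm
  rw [Subgroup.commutator_eq_bot_iff_le_centralizer, Subgroup.map_le_iff_le_comap]
  refine LEFrattini.frattini_le (p := p) ?_ ?_
  · intro x y
    rw [Subgroup.mem_comap, Subgroup.mem_centralizer_iff]
    intro k hk
    rw [← mul_inv_eq_iff_eq_mul]
    obtain ⟨w₁, -, hc₁, e₁⟩ := hconj x x.2 k hk
    obtain ⟨w₂, -, hc₂, e₂⟩ := hconj y y.2 k hk
    have hw₁ : w₁ ∈ P := by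
      have := (Subgroup.mem_normalizer_iff.1 (hH hk) x).1 x.2
      rw [e₁] at this
      exact (Subgroup.mul_mem_cancel_right P x.2).1 this
    have hw₂ : w₂ ∈ P := by
      have := (Subgroup.mem_normalizer_iff.1 (hH hk) y).1 y.2
      rw [e₂] at this
      exact (Subgroup.mul_mem_cancel_right P y.2).1 this
    show k * ((x : G) * y * (x : G)⁻¹ * (y : G)⁻¹) * k⁻¹ = (x : G) * y * (x : G)⁻¹ * (y : G)⁻¹
    calc k * ((x : G) * y * (x : G)⁻¹ * (y : G)⁻¹) * k⁻¹
        = (k * x * k⁻¹) * (k * y * k⁻¹) * (k * x * k⁻¹)⁻¹ * (k * y * k⁻¹)⁻¹ := by group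
      _ = w₁ * (x * (w₂ * y)) * (x : G)⁻¹ * w₁⁻¹ * ((y : G)⁻¹ * w₂⁻¹) := by rw [e₁, e₂]; group
      _ = w₁ * (w₂ * x * y * (x : G)⁻¹) * w₁⁻¹ * ((y : G)⁻¹ * w₂⁻¹) := by
          rw [← mul_assoc (x : G) w₂, ← hc₂ x x.2]; simp [mul_assoc]
      _ = (w₂ * x * y * (x : G)⁻¹) * ((y : G)⁻¹ * w₂⁻¹) := by
          rw [hc₁ _ (mul_mem (mul_mem (mul_mem hw₂ x.2) y.2) (inv_mem x.2)), mul_inv_cancel_right]
      _ = w₂ * (x * y * (x : G)⁻¹ * (y : G)⁻¹) * w₂⁻¹ := by group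
      _ = _ := by
          rw [hc₂ _ (mul_mem (mul_mem (mul_mem x.2 y.2) (inv_mem x.2)) (inv_mem y.2)), mul_inv_cancel_right]
  · intro x
    rw [Subgroup.mem_comap, Subgroup.mem_centralizer_iff]
    intro k hk
    rw [← mul_inv_eq_iff_eq_mul]
    obtain ⟨w, hw, hc, e⟩ := hconj x x.2 k hk
    show k * (x : G) ^ p * k⁻¹ = (x : G) ^ p
    rw [← conj_pow, e, (show Commute w (x : G) from hc x x.2).mul_pow, hw, one_mul]

end Cfsg.Agent.S2818

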