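import Cfsg.Statements.S2819
import Cfsg.Agent.Lib.LocalEven.Coprime
import Cfsg.Agent.Lib.LocalEven.Frattini
import Cfsg.Agent.Lib.LocalEven.Basic

set_option autoImplicit false
open Cfsg
open scoped commutatorElement

namespace Cfsg.Agent.S2819

/-- Let P be a finite p-subgroup of a group G, H a subgroup of N_G(P), and Y a subgroup of H centralizing the derived subgroup P' such that [P, Y] is elementary abelian. Then O^p(⟨Y^H⟩), the subgroup of the normal closure of Y in H generated by its elements of order prime to p, centralizes the Frattini subgroup of P. -/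
theorem result {G : Type*} [Group G] [Finite G] {p : ℕ} [Fact p.Prime] (P : Subgroup G) (hP : IsPGroup p ↥P) (H : Subgroup G) (hH : H ≤ Subgroup.normalizer (P : Set G)) (Y : Subgroup G) (hYH : Y ≤ H) (hYc : Y ≤ Subgroup.centralizer ((⁅P, P⁆ : Subgroup G) : Set G)) (hel : Cfsg.IsElementaryAbelian p ⁅P, Y⁆) (NY : Subgroup G) (hNY : NY = (Subgroup.normalClosure ((Y.subgroupOf H : Subgroup ↥H) : Set ↥H)).map H.subtype) : (Cfsg.pResidual p ↥NY).map NY.subtype ≤ Subgroup.centralizer (((frattini ↥P).map P.subtype : Subgroup G) : Set G) := by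
  subst hNY
  set P' := ⁅P, P⁆ with hP'
  have hP'P : P' ≤ P := Subgroup.le_normalizer_iff_commutator_le_left.1 Subgroup.le_normalizer
  have hPn' : P ≤ Subgroup.normalizer (P' : Set G) := Subgroup.normalizer_commutator_ge_left P P
  have hHn' : H ≤ Subgroup.normalizer (P' : Set G) := fun g hg => by
    rw [← Cfsg.Agent.LEBasic.map_conj_eq_iff_mem_normalizer, Subgroup.map_commutator,
      Cfsg.Agent.LEBasic.map_conj_eq_iff_mem_normalizer.2 (hH hg)]
  have hcj : ∀ g : G, g ∈ H → ∀ x ∈ P, g * x * g⁻¹ ∈ P := fun g hg x hx =>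
    (Subgroup.mem_normalizer_iff.1 (hH hg) x).1 hx
  -- commutative modulo `P'`
  haveI : (P'.subgroupOf P).Normal := (Subgroup.normal_subgroupOf_iff_le_normalizer hP'P).2 hPn'
  have hmulpow : ∀ a b : ↥P, ((a : G) * b) ^ p * (((b : G)) ^ p)⁻¹ * ((a : G) ^ p)⁻¹ ∈ P' := by
    intro a b
    let q := QuotientGroup.mk' (P'.subgroupOf P)
    have hcomm : ∀ x y : ↥P, Commute (q x) (q y) := fun x y => by
      show q x * q y = q y * q x
      rw [← map_mul, ← map_mul]
      refine (QuotientGroup.eq).2 ?_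
      show (((x * y)⁻¹ * (y * x) : ↥P) : G) ∈ P'
      have := Subgroup.commutator_mem_commutator (inv_mem y.2) (inv_mem x.2) (H₁ := P) (H₂ := P)
      simpa [commutatorElement_def, mul_assoc] using this
    have h1 : q ((a * b) ^ p * (b ^ p)⁻¹ * (a ^ p)⁻¹) = 1 := by
      simp only [map_mul, map_pow, map_inv, (hcomm a b).mul_pow]
      group
    exact (QuotientGroup.eq_one_iff (N := P'.subgroupOf P) ((a * b) ^ p * (b ^ p)⁻¹ * (a ^ p)⁻¹)).1 h1
  -- the chain `Φ(P) > P' > 1`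
  let S : Subgroup G :=
    { carrier := {g | g ∈ H ∧ (∀ x ∈ P, (g * x * g⁻¹) ^ p * (x ^ p)⁻¹ ∈ P') ∧ ∀ z ∈ P', g * z = z * g}
      one_mem' := ⟨one_mem _, fun x _ => by simp, fun z _ => by simp⟩
      mul_mem' := fun {a b} ha hb => ⟨mul_mem ha.1 hb.1, fun x hx => by
        have h1 := ha.2.1 _ (hcj b hb.1 x hx)
        have h2 := hb.2.1 x hx
        have h3 := mul_mem h1 h2
        simpa [mul_assoc] using h3,
        fun z hz => by rw [mul_assoc, hb.2.2 z hz, ← mul_assoc, ha.2.2 z hz, mul_assoc]⟩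
      inv_mem' := fun {a} ha => ⟨inv_mem ha.1, fun x hx => by
        have h1 := inv_mem (ha.2.1 _ (hcj a⁻¹ (inv_mem ha.1) x hx))
        simpa [mul_assoc] using h1,
        fun z hz => by
          rw [inv_mul_eq_iff_eq_mul, ← mul_assoc, ha.2.2 z hz, mul_inv_cancel_right]⟩ }
  have hSn : ∀ h ∈ H, ∀ g ∈ S, h * g * h⁻¹ ∈ S := by
    intro h hh g hg
    refine ⟨mul_mem (mul_mem hh hg.1) (inv_mem hh), fun x hx => ?_, fun z hz => ?_⟩
    · have h1 := hg.2.1 _ (hcj h⁻¹ (inv_mem hh) x hx)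
      have h2 := (Subgroup.mem_normalizer_iff.1 (hHn' hh) _).1 h1
      rw [show h * ((g * (h⁻¹ * x * h⁻¹⁻¹) * g⁻¹) ^ p * ((h⁻¹ * x * h⁻¹⁻¹) ^ p)⁻¹) * h⁻¹ =
        (h * (g * (h⁻¹ * x * h⁻¹⁻¹) * g⁻¹) ^ p * h⁻¹) * (h * (h⁻¹ * x * h⁻¹⁻¹) ^ p * h⁻¹)⁻¹ by
          simp [mul_assoc]] at h2
      rw [← conj_pow, ← conj_pow] at h2
      simpa [mul_assoc] using h2
    · have hz' : h⁻¹ * z * h ∈ P' := (Subgroup.mem_normalizer_iff''.1 (hHn' hh) z).1 hz
      have h1 := hg.2.2 _ hz'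
      calc h * g * h⁻¹ * z = h * (g * (h⁻¹ * z * h)) * h⁻¹ := by simp [mul_assoc]
        _ = h * ((h⁻¹ * z * h) * g) * h⁻¹ := by rw [h1]
        _ = z * (h * g * h⁻¹) := by simp [mul_assoc]
  have hYS : Y ≤ S := by
    intro y hy
    refine ⟨hYH hy, fun x hx => ?_, fun z hz => (Subgroup.mem_centralizer_iff.1 (hYc hy) z hz).symm⟩
    have hc : y * x * y⁻¹ * x⁻¹ ∈ ⁅P, Y⁆ := by
      have := inv_mem (Subgroup.commutator_mem_commutator hx hy (H₁ := P) (H₂ := Y))
      simpa [commutatorElement_def, mul_assoc] using this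
    have hcP : y * x * y⁻¹ * x⁻¹ ∈ P := mul_mem (hcj y (hYH hy) x hx) (inv_mem hx)
    have hcp : (y * x * y⁻¹ * x⁻¹) ^ p = 1 := hel.2 _ hc
    have h1 := hmulpow ⟨_, hcP⟩ ⟨x, hx⟩
    simp only [inv_mul_cancel_right, hcp, inv_one, mul_one] at h1
    exact h1
  set NY := (Subgroup.normalClosure ((Y.subgroupOf H : Subgroup ↥H) : Set ↥H)).map H.subtype with hNY
  have hNS : NY ≤ S := by
    rw [hNY, Subgroup.map_le_iff_le_comap]
    haveI : (S.comap H.subtype).Normal := ⟨fun g hg h => hSn h h.2 g hg⟩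
    exact Subgroup.normalClosure_le_normal fun y hy => hYS hy
  -- `Φ(P)`
  set Φ := (frattini ↥P).map P.subtype with hΦ
  have hΦp : IsPGroup p ↥Φ := (hP.to_subgroup _).map _
  have hNYP : NY ≤ Subgroup.normalizer (Φ : Set G) := by
    intro g hg
    exact Cfsg.Agent.LEBasic.le_normalizer_map_of_characteristic (H := P) (C := frattini ↥P)
      inferInstance (hH (hNS hg).1)
  have h1 : ⁅Φ, NY⁆ ≤ P' := by
    rw [Subgroup.commutator_le]
    intro f hf g hg
    obtain ⟨hgH, hgp, hgc⟩ := hNS hg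
    let Kg : Subgroup ↥P :=
      { carrier := {x | g * (x : G) * g⁻¹ * (x : G)⁻¹ ∈ P'}
        one_mem' := by simp
        mul_mem' := fun {a b} ha hb => by
          show g * ((a : G) * b) * g⁻¹ * ((a : G) * b)⁻¹ ∈ P'
          rw [show g * ((a : G) * b) * g⁻¹ * ((a : G) * b)⁻¹ = g * (a : G) * g⁻¹ * (a : G)⁻¹ *
            ((a : G) * (g * (b : G) * g⁻¹ * (b : G)⁻¹) * (a : G)⁻¹) by simp [mul_assoc]]
          exact mul_mem ha ((Subgroup.mem_normalizer_iff.1 (hPn' a.2) _).1 hb)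
        inv_mem' := fun {a} ha => by
          show g * (a : G)⁻¹ * g⁻¹ * (a : G)⁻¹⁻¹ ∈ P'
          rw [show g * (a : G)⁻¹ * g⁻¹ * (a : G)⁻¹⁻¹ = (a : G)⁻¹ * (g * (a : G) * g⁻¹ * (a : G)⁻¹)⁻¹ * (a : G) by
            simp [mul_assoc]]
          exact (Subgroup.mem_normalizer_iff''.1 (hPn' a.2) _).1 (inv_mem ha) }
    have hKg : frattini ↥P ≤ Kg := by
      refine Cfsg.Agent.LEFrattini.frattini_le (p := p) (fun x y => ?_) fun x => ?_
      · show g * ((⁅x, y⁆ : ↥P) : G) * g⁻¹ * ((⁅x, y⁆ : ↥P) : G)⁻¹ ∈ P'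
        have hz : ((⁅x, y⁆ : ↥P) : G) ∈ P' := Subgroup.commutator_mem_commutator x.2 y.2
        rw [hgc _ hz, mul_inv_cancel_right, mul_inv_cancel]
        exact one_mem _
      · show g * ((x ^ p : ↥P) : G) * g⁻¹ * ((x ^ p : ↥P) : G)⁻¹ ∈ P'
        rw [SubmonoidClass.coe_pow, ← conj_pow]
        exact hgp x x.2
    obtain ⟨f', hf', rfl⟩ := hf
    have h2 : g * (f' : G) * g⁻¹ * (f' : G)⁻¹ ∈ P' := hKg hf'
    have h3 := inv_mem h2
    show ⁅(f' : G), g⁆ ∈ P'
    simpa [commutatorElement_def, mul_assoc] using h3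
  have hiter : Cfsg.iterCommutator Φ NY 2 = ⊥ := by
    show ⁅⁅Φ, NY⁆, NY⁆ = ⊥
    refine eq_bot_iff.2 ((Subgroup.commutator_mono h1 le_rfl).trans ?_)
    rw [le_bot_iff, Subgroup.commutator_comm, Subgroup.commutator_eq_bot_iff_le_centralizer]
    exact fun g hg => Subgroup.mem_centralizer_iff.2 fun z hz => ((hNS hg).2.2 z hz).symm
  rw [Subgroup.map_le_iff_le_comap, Cfsg.pResidual, Subgroup.closure_le]
  intro b hb
  exact Cfsg.Agent.LECoprime.mem_centralizer_of_iterCommutator hΦp hNYP hiter b.2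
    (by show (orderOf (b : G)).Coprime p; rw [Subgroup.orderOf_coe]; exact hb)

end Cfsg.Agent.S2819

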