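import Cfsg.Statements.S2820
import Cfsg.Agent.Lib.LocalEven.Subnormal
import Cfsg.Agent.Lib.LocalEven.Basic

set_option autoImplicit false
open Cfsg

namespace Cfsg.Agent.S2820

/-- Let A and B be subnormal subgroups of the finite group H with A a p-group and B = O^p(B) (B generated by its elements of order prime to p). Then A normalizes B and B = O^p(AB), the subgroup of ⟨A, B⟩ generated by its elements of order prime to p. -/
theorem result {H : Type*} [Group H] [Finite H] {p : ℕ} [Fact p.Prime] (A B : Subgroup H) (hA : A.IsSubnormal) (hB : B.IsSubnormal) (hAp : IsPGroup p ↥A) (hBres : (Cfsg.pResidual p ↥B).map B.subtype = B) : A ≤ Subgroup.normalizer (B : Set H) ∧ (Cfsg.pResidual p ↥(A ⊔ B)).map (A ⊔ B).subtype = B := by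
  set R := Cfsg.pCore p H with hR
  haveI : R.Normal := Subgroup.normal_of_characteristic _ (h := PBasic.pCore_characteristic p H)
  have hAR : A ≤ R := CharP.isPGroup_le_pCore_of_isSubnormal hA hAp
  have key : ∀ g ∈ R ⊔ B, (orderOf g).Coprime p → g ∈ B :=
    LESubnormal.coprime_mem (PBasic.pCore_isPGroup p H) hB
  have hgen : B = Subgroup.closure {g : H | g ∈ B ∧ (orderOf g).Coprime p} := by
    refine le_antisymm ?_ ((Subgroup.closure_le _).2 fun g hg => hg.1)
    conv_lhs => rw [← hBres]
    rw [Cfsg.pResidual, MonoidHom.map_closure]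
    refine Subgroup.closure_mono ?_
    rintro _ ⟨g, hg, rfl⟩
    exact ⟨g.2, by simpa using hg⟩
  refine ⟨fun a ha => ?_, ?_⟩
  · rw [← LEBasic.map_conj_eq_iff_mem_normalizer]
    refine Subgroup.eq_of_le_of_card_ge ?_ (by rw [LEBasic.card_map_conj])
    conv_lhs => rw [hgen, MonoidHom.map_closure]
    rw [Subgroup.closure_le]
    rintro _ ⟨g, ⟨hg, hgc⟩, rfl⟩
    refine key _ ?_ (by rw [MulEquiv.coe_toMonoidHom, MulEquiv.orderOf_eq]; exact hgc)
    exact mul_mem (mul_mem (Subgroup.mem_sup_left (hAR ha)) (Subgroup.mem_sup_right hg))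
      (inv_mem (Subgroup.mem_sup_left (hAR ha)))
  · refine le_antisymm ?_ ?_
    · rw [Cfsg.pResidual, MonoidHom.map_closure, Subgroup.closure_le]
      rintro _ ⟨g, hg, rfl⟩
      exact key _ (sup_le_sup_right hAR B g.2) (by simpa using hg)
    · conv_lhs => rw [hgen]
      rw [Subgroup.closure_le]
      rintro g ⟨hg, hgc⟩
      exact ⟨⟨g, Subgroup.mem_sup_right hg⟩, Subgroup.subset_closure (by simpa using hgc), rfl⟩

end Cfsg.Agent.S2820

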