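import Cfsg.Statements.S2823
import Cfsg.Agent.Lib.LocalEven.Kieler

set_option autoImplicit false
open Cfsg
open scoped commutatorElement

namespace Cfsg.Agent.S2823

/-- Let H be a finite group, p a prime, T a Sylow p-subgroup and L a subgroup of characteristic p containing T; let Z_L be the subgroup generated by the Ω₁(Z(S)) over the Sylow p-subgroups S of L and O^p(L) the subgroup generated by the elements of L of order prime to p. Then Z_L = Ω₁(Z(L))·[Z_L, O^p(L)] and [Z_L, L] = [Z_L, O^p(L)]. -/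
theorem result {H : Type*} [Group H] [Finite H] {p : ℕ} [Fact p.Prime] (T : Sylow p H) (L : Subgroup H) (hTL : (T : Subgroup H) ≤ L) (hL : Subgroup.centralizer (Cfsg.pCore p ↥L : Set ↥L) ≤ Cfsg.pCore p ↥L) : Cfsg.sylowCenterClosure p L = (Cfsg.omegaOne p (L ⊓ Subgroup.centralizer ((L : Subgroup H) : Set H))) ⊔ ⁅Cfsg.sylowCenterClosure p L, (Cfsg.pResidual p ↥L).map L.subtype⁆ ∧ ⁅Cfsg.sylowCenterClosure p L, L⁆ = ⁅Cfsg.sylowCenterClosure p L, (Cfsg.pResidual p ↥L).map L.subtype⁆ := by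
  have hp : p.Prime := Fact.out
  set R := (Cfsg.pResidual p ↥L).map L.subtype with hR
  set Z := Cfsg.sylowCenterClosure p L with hZ
  set Z₀ := Cfsg.omegaOne p (L ⊓ Subgroup.centralizer (L : Set H)) with hZ₀
  have hY := Cfsg.Agent.LEPReduced.largestOf_red (p := p) L
  have hZY : Z ≤ Cfsg.largestPReducedOf p L := Cfsg.Agent.LEPReduced.sylowCenterClosure_le_largestOf hL
  have hZe : Cfsg.IsElementaryAbelian p Z := Cfsg.Agent.LEPReduced.elem_mono hY.2.1 hZY
  have hZL : Z ≤ L := hZY.trans (Cfsg.Agent.LEPReduced.largestOf_le L)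
  have hLZ : L ≤ Subgroup.normalizer (Z : Set H) := by
    intro r hr
    rw [← Cfsg.Agent.LEBasic.map_conj_eq_iff_mem_normalizer]
    refine Subgroup.eq_of_le_of_card_ge ?_ (Cfsg.Agent.LEBasic.card_map_conj _ r).ge
    rw [hZ, Cfsg.sylowCenterClosure, Subgroup.map_iSup]
    refine iSup_le fun S => ?_
    obtain ⟨S', hS'⟩ := Cfsg.Agent.LESylow.exists_sylow_conj S (⟨r, hr⟩ : ↥L)
    refine le_trans ?_ (le_iSup _ S')
    have e : (S' : Subgroup ↥L).map L.subtype =
        ((S : Subgroup ↥L).map L.subtype).map (MulAut.conj r).toMonoidHom := by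
      rw [hS', Subgroup.map_map, Subgroup.map_map]
      congr 1
    set A := (S : Subgroup ↥L).map L.subtype
    rw [e, Cfsg.omegaOne, MonoidHom.map_closure, Subgroup.closure_le]
    rintro _ ⟨x, ⟨hx, hxp⟩, rfl⟩
    obtain ⟨hxA, hxC⟩ := Subgroup.mem_inf.1 hx
    refine Subgroup.subset_closure ⟨Subgroup.mem_inf.2 ⟨⟨x, hxA, rfl⟩, ?_⟩, by rw [← map_pow, hxp, map_one]⟩
    rw [Subgroup.mem_centralizer_iff]
    rintro _ ⟨y, hy, rfl⟩
    rw [← map_mul, ← map_mul, Subgroup.mem_centralizer_iff.1 hxC y hy]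
  have hLR : L ≤ Subgroup.normalizer (R : Set H) := Subgroup.le_normalizer.trans
    (Cfsg.Agent.LEBasic.le_normalizer_map_of_characteristic Cfsg.Agent.LEBasic.pResidual_characteristic)
  have hRL : R ≤ L := Subgroup.map_subtype_le _
  have hWZ : ⁅Z, R⁆ ≤ Z := Subgroup.le_normalizer_iff_commutator_le_left.1 (hRL.trans hLZ)
  have hLW : L ≤ Subgroup.normalizer ((⁅Z, R⁆ : Subgroup H) : Set H) := fun l hl => by
    rw [← Cfsg.Agent.LEBasic.map_conj_eq_iff_mem_normalizer, Subgroup.map_commutator,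
      Cfsg.Agent.LEBasic.map_conj_eq_iff_mem_normalizer.2 (hLZ hl),
      Cfsg.Agent.LEBasic.map_conj_eq_iff_mem_normalizer.2 (hLR hl)]
  have hZ₀le : Z₀ ≤ L ⊓ Subgroup.centralizer (L : Set H) := (Subgroup.closure_le _).2 fun _ hx => hx.1
  have h1 : Z = Z₀ ⊔ ⁅Z, R⁆ := by
    refine le_antisymm (iSup_le fun S => ?_) (sup_le ?_ hWZ)
    · intro z hz
      have hzZ : z ∈ Z := le_iSup (fun S : Sylow p ↥L => Cfsg.omegaOne p (((S : Subgroup ↥L).map L.subtype) ⊓
        Subgroup.centralizer (((S : Subgroup ↥L).map L.subtype : Subgroup H) : Set H))) S hz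
      have hzfix : ∀ t ∈ (S : Subgroup ↥L).map L.subtype, t * z * t⁻¹ = z := fun t ht => Cfsg.Agent.LEKieler.oz_fix hz ht
      obtain ⟨n, hnZ, hnL, hnW, -⟩ := Cfsg.Agent.LENorm.exists_norm (A := Z) (L := L)
        (fun a ha c hc => Cfsg.Agent.LEPReduced.commute_of_elem hZe ha hc) hLZ hzZ hzfix
      have hm : ¬ p ∣ ((S : Subgroup ↥L).map L.subtype).relIndex L := by
        rw [Subgroup.relIndex, Subgroup.subgroupOf, Subgroup.comap_map_eq_self_of_injective L.subtype_injective]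
        exact S.not_dvd_index
      have hw := hnW ⁅Z, R⁆ fun l hl => by
        haveI : (Cfsg.pResidual p ↥L).Normal := Cfsg.Agent.LEBasic.pResidual_normal
        obtain ⟨r, hr, t, ht, hrt⟩ := Subgroup.mem_sup_of_normal_left.1
          ((Cfsg.Agent.LEBasic.pResidual_sup_sylow S).ge (Subgroup.mem_top (⟨l, hl⟩ : ↥L)))
        have hl' : l = (r : H) * t := (congrArg Subtype.val hrt).symm
        rw [hl', show (r : H) * t * z * ((r : H) * t)⁻¹ = r * (t * z * (t : H)⁻¹) * (r : H)⁻¹ by group,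
          (show (t : H) * z * (t : H)⁻¹ = z from hzfix _ ⟨t, ht, rfl⟩), Cfsg.Agent.LEKieler.inv_mul_conj]
        exact Subgroup.commutator_mem_commutator (inv_mem hzZ) ⟨r, hr, rfl⟩
      have hn0 : n ∈ Z₀ := Subgroup.subset_closure ⟨Subgroup.mem_inf.2 ⟨hZL hnZ,
        Subgroup.mem_centralizer_iff.2 fun l hl => mul_inv_eq_iff_eq_mul.1 (hnL l hl)⟩, hZe.2 n hnZ⟩
      refine Cfsg.Agent.LENorm.mem_of_pow_mem hp (hZe.2 z hzZ) hm ?_
      have := mul_mem (Subgroup.mem_sup_left (T := ⁅Z, R⁆) hn0) (Subgroup.mem_sup_right (inv_mem hw))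
      simpa using this
    · refine le_trans ((Subgroup.closure_le _).2 ?_) (Cfsg.Agent.LEPReduced.sylowCenter_le_closure T hTL)
      rintro x ⟨hx, hxp⟩
      obtain ⟨hxL, hxc⟩ := Subgroup.mem_inf.1 hx
      have hxT : x ∈ (T : Subgroup H) := Cfsg.Agent.LEPReduced.opIn_le_of_sylow T hTL
        (Cfsg.Agent.CharP.le_opIn (Subgroup.zpowers_le.2 hxL) ?_ ?_ (Subgroup.mem_zpowers x))
      · exact Cfsg.Agent.LEKieler.mem_oz hxT
          (fun t ht => mul_inv_eq_iff_eq_mul.2 (Subgroup.mem_centralizer_iff.1 hxc t (hTL ht))) hxp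
      · intro l hl
        refine Subgroup.centralizer_le_normalizer _ (Subgroup.mem_centralizer_iff.2 ?_)
        rintro _ ⟨k, rfl⟩
        exact ((show Commute l x from Subgroup.mem_centralizer_iff.1 hxc l hl).zpow_right k).eq.symm
      · exact fun a => by
          obtain ⟨_, k, rfl⟩ := a
          exact ⟨1, Subtype.ext (by
            show (x ^ k) ^ (p ^ 1) = 1
            rw [pow_one, ← zpow_natCast, ← zpow_mul, mul_comm, zpow_mul, zpow_natCast, hxp, one_zpow])⟩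
  refine ⟨h1, le_antisymm ?_ (Subgroup.commutator_mono le_rfl hRL)⟩
  rw [Subgroup.commutator_le]
  intro v hv l hl
  have hW₀ : ⁅Z, R⁆ ≤ Subgroup.normalizer (Z₀ : Set H) := fun w hw =>
    Subgroup.centralizer_le_normalizer _
      (Subgroup.le_centralizer_iff.1 (hZ₀le.trans inf_le_right) (hZL (hWZ hw)))
  obtain ⟨a, ha, w, hw, rfl⟩ := (Cfsg.Agent.SolvBasic.mem_sup_iff_of_le_normalizer hW₀).1 (h1.le hv)
  have hal : l * a = a * l := Subgroup.mem_centralizer_iff.1 (Subgroup.mem_inf.1 (hZ₀le ha)).2 l hl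
  have hwl : ⁅w, l⁆ ∈ ⁅Z, R⁆ :=
    Subgroup.le_normalizer_iff_commutator_le_left.1 hLW (Subgroup.commutator_mem_commutator hw hl)
  have haw : a * ⁅w, l⁆ = ⁅w, l⁆ * a :=
    Cfsg.Agent.LEPReduced.commute_of_elem hZe (h1.ge (Subgroup.mem_sup_left ha)) (hWZ hwl)
  have : ⁅a * w, l⁆ = ⁅w, l⁆ := by
    calc ⁅a * w, l⁆ = a * ⁅w, l⁆ * (l * a⁻¹ * l⁻¹) := by rw [commutatorElement_def, commutatorElement_def]; group
      _ = ⁅w, l⁆ * (a * (l * a⁻¹ * l⁻¹)) := by rw [haw, mul_assoc]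
      _ = _ := by
        have : l * a⁻¹ = a⁻¹ * l := ((show Commute l a from hal).inv_right).eq
        rw [this]; group
  rw [this]; exact hwl

end Cfsg.Agent.S2823

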