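import Cfsg.Statements.S2824
import Cfsg.Agent.Lib.LocalEven.PReducedB

set_option autoImplicit false
open Cfsg

namespace Cfsg.Agent.S2824

/-- Let H be a finite group, p a prime, T a Sylow p-subgroup, L and M subgroups of characteristic p containing T, Y_L the largest p-reduced normal subgroup of L and T₀ = C_T(Y_L). If M·C_H(Y_L) = L·C_H(Y_L), then L* := N_M(T₀) has Y_{L*} = Y_L and L·C_H(Y_L) = L*·C_H(Y_L). -/
theorem result {H : Type*} [Group H] [Finite H] {p : ℕ} [Fact p.Prime] (T : Sylow p H) (L M : Subgroup H) (hTL : (T : Subgroup H) ≤ L) (hTM : (T : Subgroup H) ≤ M) (hL : Subgroup.centralizer (Cfsg.pCore p ↥L : Set ↥L) ≤ Cfsg.pCore p ↥L) (hM : Subgroup.centralizer (Cfsg.pCore p ↥M : Set ↥M) ≤ Cfsg.pCore p ↥M) (T₀ : Subgroup H) (hT₀ : T₀ = (T : Subgroup H) ⊓ Subgroup.centralizer (((Cfsg.largestPReducedOf p L) : Subgroup H) : Set H)) (hfac : M ⊔ Subgroup.centralizer (((Cfsg.largestPReducedOf p L) : Subgroup H) : Set H) = L ⊔ Subgroup.centralizer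 (((Cfsg.largestPReducedOf p L) : Subgroup H) : Set H)) (Ls : Subgroup H) (hLs : Ls = M ⊓ Subgroup.normalizer ((T₀ : Subgroup H) : Set H)) : (Cfsg.largestPReducedOf p Ls) = (Cfsg.largestPReducedOf p L) ∧ L ⊔ Subgroup.centralizer (((Cfsg.largestPReducedOf p L) : Subgroup H) : Set H) = Ls ⊔ Subgroup.centralizer (((Cfsg.largestPReducedOf p L) : Subgroup H) : Set H) := by
  set Y := Cfsg.largestPReducedOf p L with hYdef
  have hr := Cfsg.Agent.LEPReduced.largestOf_red (p := p) L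
  have hMY : M ≤ Subgroup.normalizer (Y : Set H) :=
    (le_sup_left.trans hfac.le).trans (sup_le hr.1 fun c hc => Subgroup.centralizer_le_normalizer _ hc)
  have hMC := hMY.trans (Cfsg.Agent.LELarge.normalizer_le_normalizer_centralizer Y)
  have hTLs : (T : Subgroup H) ≤ Ls := by
    rw [hLs, hT₀]
    refine le_inf hTM ((le_inf Subgroup.le_normalizer ?_).trans (Cfsg.Agent.LELarge.inf_normalizer_le _ _))
    exact hTM.trans hMC
  have hfac' : L ⊔ Subgroup.centralizer (Y : Set H) = Ls ⊔ Subgroup.centralizer (Y : Set H) := by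
    rw [← hfac]
    refine le_antisymm (sup_le ?_ le_sup_right) (sup_le_sup_right (hLs.le.trans inf_le_left) _)
    rw [hLs, hT₀]
    exact Cfsg.Agent.LEPReduced.frattini_inf T hTM hMC
  have hYT : Y ≤ (T : Subgroup H) := Cfsg.Agent.LEPReduced.largestOf_le_sylow T hTL
  refine ⟨le_antisymm ?_ (Cfsg.Agent.LEPReduced.le_largestOf (hYT.trans hTLs)
    (Cfsg.Agent.LEPReduced.red_of_factorization T hr hTLs hfac'.symm)), hfac'⟩
  have hs := Cfsg.Agent.LEPReduced.largestOf_red (p := p) Ls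
  have hsT := Cfsg.Agent.LEPReduced.largestOf_le_sylow T hTLs
  have hT0T : T₀ ≤ (T : Subgroup H) := hT₀.le.trans inf_le_left
  have hT0Ls : T₀ ≤ Ls := hT0T.trans hTLs
  have hsC : T₀ ≤ Subgroup.centralizer (Cfsg.largestPReducedOf p Ls : Set H) :=
    hs.pGroup_le_centralizer (T.isPGroup'.to_le hT0T) hT0Ls (hLs.le.trans inf_le_right)
  intro y hy
  have hyY : y ∈ Subgroup.centralizer (Y : Set H) := by
    have hYT0 : Y ≤ T₀ := by
      rw [hT₀]; exact le_inf hYT (Cfsg.Agent.LEPReduced.le_centralizer_self hr.2.1)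
    exact Subgroup.centralizer_le hYT0 (Subgroup.le_centralizer_iff.1 hsC hy)
  refine Cfsg.Agent.LEPReduced.omega_centralizer_le T hTL hL hT₀ (Subgroup.mem_inf.2 ⟨?_, ?_⟩) (hs.2.1.2 y hy)
  · rw [hT₀]; exact Subgroup.mem_inf.2 ⟨hsT hy, hyY⟩
  · exact Subgroup.le_centralizer_iff.1 hsC hy

end Cfsg.Agent.S2824

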