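import Cfsg.Statements.S2825
import Cfsg.Agent.Lib.LocalEven.PReducedC

set_option autoImplicit false
open Cfsg

namespace Cfsg.Agent.S2825

/-- Let L be a subnormal subgroup of the finite group H, p a prime, Y_H and Y_L the largest p-reduced normal subgroups. Then Y_H ∩ L = Y_H ∩ Y_L and this subgroup is a p-reduced normal subgroup of L; C_L(Y_L) = C_L(Y_H) = C_L(Y_H ∩ L); and if O^p(H) ≤ L, then [Y_L, L] = 1 if and only if [Y_H, H] = 1. -/
theorem result {H : Type*} [Group H] [Finite H] {p : ℕ} [Fact p.Prime] (L : Subgroup H) (hL : L.IsSubnormal) : Cfsg.largestPReduced p H ⊓ L = Cfsg.largestPReduced p H ⊓ (Cfsg.largestPReducedOf p L) ∧ Cfsg.IsPReducedNormal p ((Cfsg.largestPReduced p H ⊓ L).subgroupOf L) ∧ L ⊓ Subgroup.centralizer ((Cfsg.largestPReducedOf p L : Subgroup H) : Set H) = L ⊓ Subgroup.centralizer (Cfsg.largestPReduced p H : Set H) ∧ L ⊓ Subgroup.centralizer (Cfsg.largestPReduced p H : Set H) = L ⊓ Subgroup.centralizer ((Cfsg.largestPReduced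 p H ⊓ L : Subgroup H) : Set H) ∧ (Cfsg.pResidual p H ≤ L → (⁅(Cfsg.largestPReducedOf p L), L⁆ = ⊥ ↔ ⁅Cfsg.largestPReduced p H, (⊤ : Subgroup H)⁆ = ⊥)) := by
  obtain ⟨h1, h2, h3⟩ := Cfsg.Agent.LEPReduced.meet_subnormal (p := p) hL
  set Y := Cfsg.largestPReduced p H with hY
  set YL := Cfsg.largestPReducedOf p L with hYL
  have h4 : L ⊓ Subgroup.centralizer (Y : Set H) = L ⊓ Subgroup.centralizer (YL : Set H) := by
    refine le_antisymm (le_inf inf_le_left (Cfsg.Agent.LEPReduced.centralizer_largest_le hL)) ?_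
    refine le_inf inf_le_left (le_trans ?_ h3)
    exact inf_le_inf_left _ (Subgroup.centralizer_le (SetLike.coe_subset_coe.2 (h1.le.trans inf_le_right)))
  refine ⟨h1, (Cfsg.Agent.LEPReduced.red_subgroupOf_iff inf_le_right).2 h2, h4.symm,
    le_antisymm (inf_le_inf_left _ (Subgroup.centralizer_le inf_le_left)) (le_inf inf_le_left h3), fun hres => ?_⟩
  rw [Subgroup.commutator_eq_bot_iff_le_centralizer, Subgroup.commutator_eq_bot_iff_le_centralizer,
    Subgroup.le_centralizer_iff, Subgroup.le_centralizer_iff (H := Y)]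
  constructor
  · intro hc
    refine (Cfsg.Agent.LEPReduced.red_top_iff.1 Cfsg.Agent.LEPReduced.largest_isPReducedNormal).2.2 ⊤ le_rfl
      (Subgroup.normalizer_eq_top_iff.2 inferInstance).ge fun g _ hg => ?_
    have hgL : g ∈ L := hres (Subgroup.subset_closure hg)
    exact (Subgroup.mem_inf.1 (h4.ge (Subgroup.mem_inf.2 ⟨hgL, hc hgL⟩))).2
  · intro hc g hg
    exact (Subgroup.mem_inf.1 (h4.le (Subgroup.mem_inf.2 ⟨hg, hc (Subgroup.mem_top g)⟩))).2

end Cfsg.Agent.S2825

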