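import Cfsg.Statements.S2826
import Cfsg.Agent.Lib.LocalEven.Kieler

set_option autoImplicit false
open Cfsg
open scoped commutatorElement

namespace Cfsg.Agent.S2826

/-- Let H be a finite group of characteristic p, T a Sylow p-subgroup, and V a normal elementary abelian p-subgroup of H containing Ω₁(Z(T)). Then C_H(Ω₁(Z(T))) = C_H([V, O^p(H)] ∩ Ω₁(Z(T))), O^p(H) being generated by the elements of order prime to p. -/
theorem result {H : Type*} [Group H] [Finite H] {p : ℕ} [Fact p.Prime] (hH : Subgroup.centralizer (Cfsg.pCore p H : Set H) ≤ Cfsg.pCore p H) (T : Sylow p H) (V : Subgroup H) [V.Normal] (hV : Cfsg.IsElementaryAbelian p V) (hZV : (Cfsg.omegaOne p ((T : Subgroup H) ⊓ Subgroup.centralizer (((T : Subgroup H) : Subgroup H) : Set H))) ≤ V) : Subgroup.centralizer ((Cfsg.omegaOne p ((T : Subgroup H) ⊓ Subgroup.centralizer (((T : Subgroup H) : Subgroup H) : Set H))) : Set H) = Subgroup.centralizer (((⁅V, Cfsg.pResidual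 p H⁆ ⊓ (Cfsg.omegaOne p ((T : Subgroup H) ⊓ Subgroup.centralizer (((T : Subgroup H) : Subgroup H) : Set H)))) : Subgroup H) : Set H) := by
  have hp : p.Prime := Fact.out
  haveI hRn : (Cfsg.pResidual p H).Normal := Cfsg.Agent.LEBasic.pResidual_normal
  set Z := Cfsg.omegaOne p ((T : Subgroup H) ⊓ Subgroup.centralizer ((T : Subgroup H) : Set H)) with hZ
  refine le_antisymm (Subgroup.centralizer_le inf_le_right) ?_
  rw [Subgroup.le_centralizer_iff]
  intro z hz
  have hzfix : ∀ t ∈ (T : Subgroup H), t * z * t⁻¹ = z := fun t ht => Cfsg.Agent.LEKieler.oz_fix hz ht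
  obtain ⟨n, hnV, hnH, hnW, -⟩ := Cfsg.Agent.LENorm.exists_norm (A := V) (L := ⊤) (T := (T : Subgroup H))
    (fun a ha c hc => Cfsg.Agent.LEPReduced.commute_of_elem hV ha hc)
    (Subgroup.normalizer_eq_top_iff.2 inferInstance).ge (hZV hz) hzfix
  have hm : ¬ p ∣ (T : Subgroup H).relIndex ⊤ := by
    rw [Subgroup.relIndex_top_right]; exact T.not_dvd_index
  have hw : (z ^ (T : Subgroup H).relIndex ⊤)⁻¹ * n ∈ ⁅V, Cfsg.pResidual p H⁆ := by
    refine hnW _ fun l _ => ?_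
    obtain ⟨r, hr, t, ht, rfl⟩ := Subgroup.mem_sup_of_normal_left.1
      ((Cfsg.Agent.LEBasic.pResidual_sup_sylow T).ge (Subgroup.mem_top l))
    rw [show r * t * z * (r * t)⁻¹ = r * (t * z * t⁻¹) * r⁻¹ by group, hzfix t ht,
      Cfsg.Agent.LEKieler.inv_mul_conj]
    exact Subgroup.commutator_mem_commutator (inv_mem (hZV hz)) hr
  set m := (T : Subgroup H).relIndex ⊤ with hmdef
  have hwV : (z ^ m)⁻¹ * n ∈ V := mul_mem (inv_mem (pow_mem (hZV hz) m)) hnV
  have hwZ : (z ^ m)⁻¹ * n ∈ Z := by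
    refine Cfsg.Agent.LEKieler.mem_oz (Cfsg.Agent.LEBasic.normal_le_sylow
      (Cfsg.Agent.LEPReduced.isPGroup_of_elem hV) T hwV) (fun t ht => ?_) (hV.2 _ hwV)
    calc t * ((z ^ m)⁻¹ * n) * t⁻¹ = ((t * z * t⁻¹) ^ m)⁻¹ * (t * n * t⁻¹) := by rw [conj_pow]; group
      _ = _ := by rw [hzfix t ht, hnH t (Subgroup.mem_top t)]
  have hwC : (z ^ m)⁻¹ * n ∈ Subgroup.centralizer
      ((Subgroup.centralizer ((⁅V, Cfsg.pResidual p H⁆ ⊓ Z : Subgroup H) : Set H) : Subgroup H) : Set H) :=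
    (Subgroup.le_centralizer_iff.1 (le_refl (Subgroup.centralizer ((⁅V, Cfsg.pResidual p H⁆ ⊓ Z : Subgroup H) : Set H))))
      (Subgroup.mem_inf.2 ⟨hw, hwZ⟩)
  have hnC : n ∈ Subgroup.centralizer
      ((Subgroup.centralizer ((⁅V, Cfsg.pResidual p H⁆ ⊓ Z : Subgroup H) : Set H) : Subgroup H) : Set H) :=
    Subgroup.mem_centralizer_iff.2 fun l _ => mul_inv_eq_iff_eq_mul.1 (hnH l (Subgroup.mem_top l))
  refine Cfsg.Agent.LENorm.mem_of_pow_mem hp ((Cfsg.Agent.LEKieler.oz_elem _).2 z hz) hm ?_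
  have := mul_mem hnC (inv_mem hwC)
  simpa using this

end Cfsg.Agent.S2826

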