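import Cfsg.Statements.S2827
import Cfsg.Agent.Lib.LocalEven.PIrred

set_option autoImplicit false
open Cfsg
open scoped commutatorElement

namespace Cfsg.Agent.S2827

/-- Let H be a finite p-irreducible group (not p-closed, and O^p(H) lies in every normal subgroup that is not p-closed) and T a Sylow p-subgroup. Then H is generated by the conjugates of T and H = H'·T; O^p(H) ≤ H'; and for every normal subgroup Y of T not contained in O_p(H), O^p(H) = [O^p(H), Y] and O^p(H) is contained in the normal closure of Y in H. -/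
theorem result {H : Type*} [Group H] [Finite H] {p : ℕ} [Fact p.Prime] (hH : Cfsg.IsPIrreducible p H) (T : Sylow p H) : Subgroup.normalClosure ((T : Subgroup H) : Set H) = ⊤ ∧ commutator H ⊔ (T : Subgroup H) = ⊤ ∧ Cfsg.pResidual p H ≤ commutator H ∧ ∀ Y : Subgroup H, Y ≤ (T : Subgroup H) → (T : Subgroup H) ≤ Subgroup.normalizer (Y : Set H) → ¬ Y ≤ Cfsg.pCore p H → ⁅Cfsg.pResidual p H, Y⁆ = Cfsg.pResidual p H ∧ Cfsg.pResidual p H ≤ Subgroup.normalClosure (Y : Set H) := by
  have hK : ∀ (N : Subgroup H), N.Normal → (T : Subgroup H) ≤ N → N = ⊤ := fun N hN hTN => by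
    haveI := hN
    have h1 := LEPIrred.sup_sylow_eq_top (hH.2 N hN (LEPIrred.not_pClosed_of_sylow_le hH.1 T hTN)) T
    rwa [sup_eq_left.2 hTN] at h1
  have hcomm : commutator H ⊔ (T : Subgroup H) = ⊤ := by
    refine hK _ ⟨fun x hx g => ?_⟩ le_sup_right
    have e : g * x * g⁻¹ = ⁅g, x⁆ * x := by simp [commutatorElement_def, mul_assoc]
    rw [e]
    exact mul_mem (Subgroup.mem_sup_left
      (Subgroup.commutator_mem_commutator (Subgroup.mem_top g) (Subgroup.mem_top x))) hx
  refine ⟨hK _ Subgroup.normalClosure_normal Subgroup.le_normalClosure, hcomm,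
    LEPIrred.pResidual_le_of_le_sup T.isPGroup' (hcomm.ge.trans' le_top), fun Y hYT hTY hY => ?_⟩
  set R := Cfsg.pResidual p H with hR
  haveI hRn : R.Normal := LEBasic.pResidual_normal
  have hYp : IsPGroup p ↥Y := T.isPGroup'.to_le hYT
  have hncl : R ≤ Subgroup.normalClosure (Y : Set H) := by
    refine hH.2 _ Subgroup.normalClosure_normal fun hcl => hY ?_
    exact LEPIrred.le_pCore_of_pClosed hcl hYp Subgroup.le_normalClosure
  refine ⟨?_, hncl⟩
  set C := ⁅R, Y⁆ with hC
  have hRC : R ≤ Subgroup.normalizer (C : Set H) := Subgroup.normalizer_commutator_ge_left R Y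
  have hTC : (T : Subgroup H) ≤ Subgroup.normalizer (C : Set H) := fun t ht => by
    rw [← LEBasic.map_conj_eq_iff_mem_normalizer, hC, Subgroup.map_commutator,
      LEBasic.map_conj_eq_iff_mem_normalizer.2 (by rw [Subgroup.normalizer_eq_top_iff.2 hRn]; trivial),
      LEBasic.map_conj_eq_iff_mem_normalizer.2 (hTY ht)]
  haveI : C.Normal := LEPIrred.normal_of_sylow_pResidual T hRC hTC
  have hCR : C ≤ R := Subgroup.le_normalizer_iff_commutator_le_left.1
    (le_top.trans (Subgroup.normalizer_eq_top_iff.2 hRn).ge)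
  refine le_antisymm hCR (LEPIrred.pResidual_le_of_le_sup hYp (hncl.trans ?_))
  haveI : (C ⊔ Y).Normal := by
    refine LEPIrred.normal_of_sylow_pResidual T (fun r hr => ?_) (fun t ht => ?_)
    · rw [← LEBasic.map_conj_eq_iff_mem_normalizer]
      refine Subgroup.eq_of_le_of_card_ge ?_ (by rw [LEBasic.card_map_conj])
      rw [Subgroup.map_sup]
      refine sup_le ((LEBasic.map_conj_eq_iff_mem_normalizer.2 (hRC hr)).le.trans le_sup_left) ?_
      rintro _ ⟨y, hy, rfl⟩
      have e : (MulAut.conj r).toMonoidHom y = ⁅r, y⁆ * y := by simp [commutatorElement_def, mul_assoc]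
      rw [e]
      exact mul_mem (Subgroup.mem_sup_left (Subgroup.commutator_mem_commutator hr hy))
        (Subgroup.mem_sup_right hy)
    · rw [← LEBasic.map_conj_eq_iff_mem_normalizer, Subgroup.map_sup,
        LEBasic.map_conj_eq_iff_mem_normalizer.2 (hTC ht), LEBasic.map_conj_eq_iff_mem_normalizer.2 (hTY ht)]
  exact Subgroup.normalClosure_le_normal (fun y hy => Subgroup.mem_sup_right hy)

end Cfsg.Agent.S2827

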