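import Cfsg.Statements.S2828
import Cfsg.Agent.Lib.LocalEven.PIrred

set_option autoImplicit false
open Cfsg

namespace Cfsg.Agent.S2828

/-- Let H be a finite group, p a prime and D a normal p-subgroup of H. Then H is p-irreducible if and only if H/D is p-irreducible, and H is strongly p-irreducible if and only if H/D is strongly p-irreducible. -/
theorem result {H : Type*} [Group H] [Finite H] {p : ℕ} [Fact p.Prime] (D : Subgroup H) [D.Normal] (hD : IsPGroup p ↥D) : (Cfsg.IsPIrreducible p H ↔ Cfsg.IsPIrreducible p (H ⧸ D)) ∧ (Cfsg.IsStronglyPIrreducible p H ↔ Cfsg.IsStronglyPIrreducible p (H ⧸ D)) := by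
  obtain ⟨T⟩ : Nonempty (Sylow p H) := inferInstance
  set π := QuotientGroup.mk' D with hπ
  have hsurj : Function.Surjective π := QuotientGroup.mk'_surjective D
  set T' := T.mapSurjective hsurj with hT'
  have hT'c : (T' : Subgroup (H ⧸ D)) = (T : Subgroup H).map π := Sylow.coe_mapSurjective hsurj T
  have hD' : D ≤ Cfsg.pCore p H := LEBasic.le_pCore inferInstance hD
  have hcore : (Cfsg.pCore p (H ⧸ D)).comap π = Cfsg.pCore p H := LEBasic.pCore_quotient_of_isPGroup hD
  have hres : (Cfsg.pResidual p H).map π = Cfsg.pResidual p (H ⧸ D) := PBasic.map_pResidual_eq π hsurj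
  have hcl : Cfsg.IsPClosed p H ↔ Cfsg.IsPClosed p (H ⧸ D) := by
    rw [LEPIrred.pClosed_iff T, LEPIrred.pClosed_iff T', hT'c, Subgroup.map_le_iff_le_comap, hcore]
  have hcm : ∀ N : Subgroup H, ⁅N.map π, (⊤ : Subgroup (H ⧸ D))⁆ ≤ Cfsg.pCore p (H ⧸ D) ↔
      ⁅N, (⊤ : Subgroup H)⁆ ≤ Cfsg.pCore p H := fun N => by
    rw [← Subgroup.map_top_of_surjective π hsurj, ← Subgroup.map_commutator,
      Subgroup.map_le_iff_le_comap, hcore]
  have hnc : ∀ (N : Subgroup H) [N.Normal], D ≤ N → Cfsg.IsPClosed p ↥N → ∀ [(N.map π).Normal],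
      Cfsg.IsPClosed p ↥(N.map π) := by
    intro N _ hDN h _
    rw [LEPIrred.normal_pClosed_iff T' (N.map π), hT'c]
    intro q hq
    obtain ⟨⟨n, hn, rfl⟩, t, ht, he⟩ := Subgroup.mem_inf.1 hq
    have htn : t ∈ N := by
      have h1 : n⁻¹ * t ∈ D := QuotientGroup.eq.1 he.symm
      have := mul_mem hn (hDN h1)
      rwa [mul_inv_cancel_left] at this
    rw [← he]
    have h2 := (LEPIrred.normal_pClosed_iff T N).1 h (Subgroup.mem_inf.2 ⟨htn, ht⟩)
    rw [← hcore] at h2
    exact h2
  have hnc' : ∀ (N : Subgroup H) [N.Normal] [(N.map π).Normal], Cfsg.IsPClosed p ↥(N.map π) →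
      Cfsg.IsPClosed p ↥N := by
    intro N _ _ h
    rw [LEPIrred.normal_pClosed_iff T N, ← hcore, ← Subgroup.map_le_iff_le_comap]
    refine le_trans ?_ ((LEPIrred.normal_pClosed_iff T' (N.map π)).1 h)
    rw [hT'c]
    exact Subgroup.map_inf_le N (T : Subgroup H) π
  have hup : ∀ (N : Subgroup H) [N.Normal], Cfsg.pResidual p (H ⧸ D) ≤ N.map π →
      Cfsg.pResidual p H ≤ N := by
    intro N _ h
    rw [← hres, Subgroup.map_le_iff_le_comap, Subgroup.comap_map_eq, hπ, QuotientGroup.ker_mk'] at h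
    exact LEPIrred.pResidual_le_of_le_sup hD h
  have hdown : ∀ N' : Subgroup (H ⧸ D), Cfsg.pResidual p H ≤ N'.comap π →
      Cfsg.pResidual p (H ⧸ D) ≤ N' := fun N' h => by
    rw [← hres, Subgroup.map_le_iff_le_comap]; exact h
  have hDle : ∀ N' : Subgroup (H ⧸ D), D ≤ N'.comap π := fun N' => by
    refine le_trans ?_ (Subgroup.ker_le_comap π N')
    rw [hπ, QuotientGroup.ker_mk']
  constructor
  · constructor
    · rintro ⟨h1, h2⟩
      refine ⟨fun h => h1 (hcl.2 h), fun N' hN' hnN' => hdown N' ?_⟩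
      haveI := hN'
      refine h2 _ inferInstance fun h => hnN' ?_
      have hm := Subgroup.map_comap_eq_self_of_surjective hsurj N'
      haveI : ((N'.comap π).map π).Normal := by rw [hm]; exact hN'
      exact hm ▸ hnc _ (hDle N') h
    · rintro ⟨h1, h2⟩
      refine ⟨fun h => h1 (hcl.1 h), fun N hN hnN => ?_⟩
      haveI := hN
      haveI : (N.map π).Normal := hN.map π hsurj
      exact hup N (h2 _ inferInstance fun h => hnN (hnc' N h))
  · constructor
    · rintro ⟨h1, h2⟩
      refine ⟨fun h => h1 (hcl.2 h), fun N' hN' hnN' => hdown N' ?_⟩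
      haveI := hN'
      refine h2 _ inferInstance fun h => hnN' ?_
      rw [← hcm, Subgroup.map_comap_eq_self_of_surjective hsurj] at h
      exact h
    · rintro ⟨h1, h2⟩
      refine ⟨fun h => h1 (hcl.1 h), fun N hN hnN => ?_⟩
      haveI := hN
      exact hup N (h2 _ (hN.map π hsurj) fun h => hnN ((hcm N).1 h))

end Cfsg.Agent.S2828

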