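import Cfsg.Statements.S2830
import Cfsg.Agent.Lib.LocalEven.PIrred

set_option autoImplicit false
open Cfsg

namespace Cfsg.Agent.S2830

/-- Let H act by conjugation on the elementary abelian p-subgroup V of a finite group G (H ≤ N(V)), with H p-irreducible and O^p(H) not centralizing V. Then C_H(V) is p-closed and C_T(V) ≤ O_p(H) for every p-subgroup T of H. If in addition O_p(H) centralizes V, then C_T(V) = T ∩ O_p(H) for every p-subgroup T of H, and V is p-reduced for H: O_p(H/C_H(V)) = 1. -/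
theorem result {G : Type*} [Group G] [Finite G] {p : ℕ} [Fact p.Prime] (V H : Subgroup G) (hV : Cfsg.IsElementaryAbelian p V) (hHV : H ≤ Subgroup.normalizer (V : Set G)) (hH : Cfsg.IsPIrreducible p ↥H) (hnc : ¬ (Cfsg.pResidual p ↥H).map H.subtype ≤ Subgroup.centralizer (V : Set G)) [hn : ((Subgroup.centralizer (V : Set G)).subgroupOf H).Normal] : Cfsg.IsPClosed p ↥(H ⊓ Subgroup.centralizer (V : Set G)) ∧ (∀ T : Subgroup G, T ≤ H → IsPGroup p ↥T → T ⊓ Subgroup.centralizer (V : Set G) ≤ Cfsg.pCoreOf p H) ∧ (Cfsg.pCoreOf p H ≤ Subgroup.centralizer (V : Set G) → (∀ T : Subgroup G, T ≤ H → IsPGroup p ↥T → T ⊓ Subgroup.centralizer (V : Set G) = T ⊓ Cfsg.pCoreOf p H) ∧ Cfsg.pCore p (↥H ⧸ (Subgroup.centralizer (V : Set G)).subgroupOf H) = ⊥) := by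
  set C₀ := (Subgroup.centralizer (V : Set G)).subgroupOf H with hC₀
  have hRC : ¬ Cfsg.pResidual p ↥H ≤ C₀ := fun h => hnc (by
    refine (Subgroup.map_mono h).trans ?_
    rw [hC₀, Subgroup.subgroupOf_map_subtype]
    exact inf_le_left)
  have hC₀cl : Cfsg.IsPClosed p ↥C₀ := by
    by_contra h
    exact hRC (hH.2 C₀ hn h)
  have hcore : ∀ T : Subgroup G, T ≤ H → IsPGroup p ↥T →
      T ⊓ Subgroup.centralizer (V : Set G) ≤ Cfsg.pCoreOf p H := by
    intro T hTH hT x hx
    obtain ⟨hxT, hxC⟩ := Subgroup.mem_inf.1 hx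
    refine ⟨⟨x, hTH hxT⟩, LEPIrred.le_pCore_of_pClosed hC₀cl
      (P := (T ⊓ Subgroup.centralizer (V : Set G)).subgroupOf H)
      ((hT.to_le inf_le_left).comap_of_injective H.subtype H.subtype_injective)
      (fun y hy => (Subgroup.mem_inf.1 hy).2) hx, rfl⟩
  refine ⟨?_, hcore, fun hO => ⟨fun T hTH hT => le_antisymm (le_inf inf_le_left (hcore T hTH hT))
    (inf_le_inf_left T hO), ?_⟩⟩
  · exact LEPIrred.pClosed_congr ((C₀.equivMapOfInjective H.subtype H.subtype_injective).trans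
      (MulEquiv.subgroupCongr (by rw [hC₀, Subgroup.subgroupOf_map_subtype, inf_comm]))) hC₀cl
  · obtain ⟨T⟩ : Nonempty (Sylow p ↥H) := inferInstance
    have hsurj := QuotientGroup.mk'_surjective C₀
    rw [eq_bot_iff]
    intro q hq
    obtain ⟨t, ht, rfl⟩ : q ∈ (T : Subgroup ↥H).map (QuotientGroup.mk' C₀) := by
      rw [← Sylow.coe_mapSurjective hsurj T]
      exact LEBasic.pCore_le_sylow (T.mapSurjective hsurj) hq
    set M := (Cfsg.pCore p (↥H ⧸ C₀)).comap (QuotientGroup.mk' C₀) with hM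
    haveI : M.Normal := (Cfsg.pCore_normal p _).comap _
    have hMcl : Cfsg.IsPClosed p ↥M := by
      by_contra h
      refine hRC fun x hx => (QuotientGroup.eq_one_iff x).1 ?_
      have h1 : Cfsg.pResidual p ↥H ≤ (⊥ : Subgroup (↥H ⧸ C₀)).comap (QuotientGroup.mk' C₀) := by
        rw [Cfsg.pResidual, Subgroup.closure_le]
        intro g hg
        rw [SetLike.mem_coe, Subgroup.mem_comap, Subgroup.mem_bot]
        exact PBasic.eq_one_of_isPGroup_of_coprime (PBasic.pCore_isPGroup p _)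
          (hH.2 M inferInstance h (Subgroup.subset_closure hg))
          (Nat.Coprime.coprime_dvd_left (orderOf_map_dvd _ _) hg)
      exact Subgroup.mem_bot.1 (h1 hx)
    have htO := (LEPIrred.normal_pClosed_iff T M).1 hMcl (Subgroup.mem_inf.2 ⟨hq, ht⟩)
    rw [Subgroup.mem_bot, QuotientGroup.mk'_apply, QuotientGroup.eq_one_iff]
    exact hO ⟨t, htO, rfl⟩

end Cfsg.Agent.S2830

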