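import Cfsg.Statements.S2832
import Cfsg.Agent.Lib.LocalEven.PIrred

set_option autoImplicit false
open Cfsg

namespace Cfsg.Agent.S2832

/-- Let H be a finite group with Sylow p-subgroup T such that H is T-minimal (generated by the conjugates of T, with T in exactly one maximal subgroup), and let N be a normal subgroup of H. Then either H/N is a p-group or H/N is minimal over the image of T in the same sense. -/
theorem result {H : Type*} [Group H] [Finite H] {p : ℕ} [Fact p.Prime] (T : Sylow p H) (hmin : Cfsg.IsMinimalOver (T : Subgroup H)) (N : Subgroup H) [N.Normal] : IsPGroup p (H ⧸ N) ∨ Cfsg.IsMinimalOver ((T : Subgroup H).map (QuotientGroup.mk' N)) := by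
  by_cases htop : N ⊔ (T : Subgroup H) = ⊤
  · left
    refine IsPGroup.of_surjective (T.isPGroup') ((QuotientGroup.mk' N).comp (T : Subgroup H).subtype) ?_
    intro q
    obtain ⟨g, rfl⟩ := QuotientGroup.mk'_surjective N q
    obtain ⟨n, hn, t, ht, rfl⟩ := Subgroup.mem_sup_of_normal_left.1 (htop ▸ Subgroup.mem_top g)
    refine ⟨⟨t, ht⟩, ?_⟩
    simp only [MonoidHom.comp_apply, map_mul, Subgroup.coe_subtype, QuotientGroup.mk'_apply,
      (QuotientGroup.eq_one_iff n).2 hn, one_mul]
  · right
    obtain ⟨M, ⟨hM, hTM⟩, huniq⟩ := hmin.2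
    have hsurj := QuotientGroup.mk'_surjective N
    have hNM : N ≤ M := le_sup_left.trans (LEPIrred.le_uniqueMax hmin hM hTM htop le_sup_right)
    refine ⟨?_, M.map (QuotientGroup.mk' N), ⟨?_, Subgroup.map_mono hTM⟩, fun X hX => ?_⟩
    · rw [Subgroup.coe_map, ← Subgroup.map_normalClosure _ _ hsurj, hmin.1,
        Subgroup.map_top_of_surjective _ hsurj]
    · refine ⟨fun h => hM.1 ?_, fun X hX => ?_⟩
      · have h2 := congrArg (Subgroup.comap (QuotientGroup.mk' N)) h
        rwa [Subgroup.comap_map_eq, QuotientGroup.ker_mk', sup_eq_left.2 hNM, Subgroup.comap_top] at h2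
      · have h3 : M < X.comap (QuotientGroup.mk' N) := by
          refine lt_of_le_of_ne (Subgroup.map_le_iff_le_comap.1 hX.le) fun h => hX.ne ?_
          rw [h, Subgroup.map_comap_eq_self_of_surjective hsurj]
        rw [← Subgroup.map_comap_eq_self_of_surjective hsurj X, hM.2 _ h3,
          Subgroup.map_top_of_surjective _ hsurj]
    · rw [← huniq (X.comap (QuotientGroup.mk' N)) ⟨?_, Subgroup.map_le_iff_le_comap.1 hX.2⟩,
        Subgroup.map_comap_eq_self_of_surjective hsurj]
      refine ⟨fun h => hX.1.1 ?_, fun Z hZ => ?_⟩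
      · rw [← Subgroup.map_comap_eq_self_of_surjective hsurj X, h, Subgroup.map_top_of_surjective _ hsurj]
      · have hNZ : N ≤ Z := le_trans (le_of_eq_of_le (QuotientGroup.ker_mk' N).symm
          (Subgroup.ker_le_comap _ _)) hZ.le
        have h4 : X < Z.map (QuotientGroup.mk' N) := by
          refine lt_of_le_of_ne ?_ fun h => hZ.ne ?_
          · rw [← Subgroup.map_comap_eq_self_of_surjective hsurj X]
            exact Subgroup.map_mono hZ.le
          · rw [h, Subgroup.comap_map_eq, QuotientGroup.ker_mk', sup_eq_left.2 hNZ]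
        have h5 := congrArg (Subgroup.comap (QuotientGroup.mk' N)) (hX.1.2 _ h4)
        rwa [Subgroup.comap_map_eq, QuotientGroup.ker_mk', sup_eq_left.2 hNZ, Subgroup.comap_top] at h5

end Cfsg.Agent.S2832

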