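import Cfsg.Statements.S2833
import Cfsg.Agent.Lib.LocalEven.Basic
import Cfsg.Agent.Lib.Solvable.Basic

set_option autoImplicit false
open Cfsg
open scoped commutatorElement

namespace Cfsg.Agent.S2833

/-- Let V be a subgroup of a finite group G normalized by the subgroup L, let X ≤ L and g ∈ L with [V, X, X] = 1 and L generated by X and gXg⁻¹. Put W = [V, L]. Then W = [V, X]·[V, gXg⁻¹], C_W(X) = [V, X], and C_W(L) = [V, X] ∩ [V, gXg⁻¹]. -/
theorem result {G : Type*} [Group G] [Finite G] (V L : Subgroup G) (hLV : L ≤ Subgroup.normalizer (V : Set G)) (X : Subgroup G) (hX : X ≤ L) (g : G) (hg : g ∈ L) (hq : ⁅⁅V, X⁆, X⁆ = ⊥) (hgen : X ⊔ X.map (MulAut.conj g).toMonoidHom = L) (W : Subgroup G) (hW : W = ⁅V, L⁆) : ⁅V, X⁆ ⊔ ⁅V, X.map (MulAut.conj g).toMonoidHom⁆ = W ∧ W ⊓ Subgroup.centralizer (X : Set G) = ⁅V, X⁆ ∧ W ⊓ Subgroup.centralizer (L : Set G) = ⁅V, X⁆ ⊓ ⁅V, X.map (MulAut.conj g).toMonoidHom⁆ := by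
  subst hW
  set X' := X.map (MulAut.conj g).toMonoidHom with hX'
  set B := ⁅V, X⁆ with hB
  set B' := ⁅V, X'⁆ with hB'
  have hX'L : X' ≤ L := hgen ▸ le_sup_right
  have hBV : B ≤ V := Subgroup.le_normalizer_iff_commutator_le_left.1 (hX.trans hLV)
  have hB'V : B' ≤ V := Subgroup.le_normalizer_iff_commutator_le_left.1 (hX'L.trans hLV)
  have hgV : V.map (MulAut.conj g).toMonoidHom = V :=
    LEBasic.map_conj_eq_iff_mem_normalizer.2 (hLV hg)
  have hBg : B.map (MulAut.conj g).toMonoidHom = B' := by rw [hB, Subgroup.map_commutator, hgV]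
  have hqX : B ≤ Subgroup.centralizer (X : Set G) := Subgroup.commutator_eq_bot_iff_le_centralizer.1 hq
  have hqX' : B' ≤ Subgroup.centralizer (X' : Set G) := by
    rw [← Subgroup.commutator_eq_bot_iff_le_centralizer, ← hBg, hX', ← Subgroup.map_commutator, hq,
      Subgroup.map_bot]
  have hVB : ∀ v ∈ V, v ∈ Subgroup.normalizer (B : Set G) ∧ v ∈ Subgroup.normalizer (B' : Set G) :=
    fun v hv => ⟨Subgroup.normalizer_commutator_ge_left V X hv, Subgroup.normalizer_commutator_ge_left V X' hv⟩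
  set D := B ⊔ B' with hD
  have hDV : D ≤ V := sup_le hBV hB'V
  have hVD : V ≤ Subgroup.normalizer (D : Set G) := fun v hv => by
    rw [← LEBasic.map_conj_eq_iff_mem_normalizer, hD, Subgroup.map_sup,
      LEBasic.map_conj_eq_iff_mem_normalizer.2 (hVB v hv).1,
      LEBasic.map_conj_eq_iff_mem_normalizer.2 (hVB v hv).2]
  have hXD : ∀ Z : Subgroup G, Z ≤ L → ⁅V, Z⁆ ≤ D → Z ≤ Subgroup.normalizer (D : Set G) := by
    intro Z hZ hZD
    refine Subgroup.le_normalizer_iff.2 fun z hz d hd => ?_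
    have e : z * d * z⁻¹ = ⁅d, z⁆⁻¹ * d := by simp [commutatorElement_def, mul_assoc]
    rw [e]
    exact mul_mem (inv_mem (hZD (Subgroup.commutator_mem_commutator (hDV hd) hz))) hd
  have hLD : L ≤ Subgroup.normalizer (D : Set G) := by
    rw [← hgen]
    exact sup_le (hXD X hX le_sup_left) (hXD X' hX'L le_sup_right)
  have hsup : D = ⁅V, L⁆ := by
    refine le_antisymm (sup_le (Subgroup.commutator_mono le_rfl hX) (Subgroup.commutator_mono le_rfl hX'L)) ?_
    rw [Subgroup.commutator_le]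
    intro v hv l hl
    rw [← hgen, Subgroup.sup_eq_closure] at hl
    induction hl using Subgroup.closure_induction with
    | mem x hx =>
      rcases hx with h | h
      · exact Subgroup.mem_sup_left (Subgroup.commutator_mem_commutator hv h)
      · exact Subgroup.mem_sup_right (Subgroup.commutator_mem_commutator hv h)
    | one => simp
    | mul x y hxm _ hx hy =>
      rw [commutatorElement_mul_right_eq_mul_conj]
      rw [mul_assoc, mul_assoc]
      refine mul_mem hx ?_
      rw [← mul_assoc]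
      exact ((Subgroup.mem_normalizer_iff.1 (hLD (hgen ▸ (Subgroup.sup_eq_closure X X').symm ▸ hxm)) _).1 hy)
    | inv x hxm hx =>
      rw [commutatorElement_inv_right, ← commutatorElement_inv v x]
      exact (Subgroup.mem_normalizer_iff''.1 (hLD (hgen ▸ (Subgroup.sup_eq_closure X X').symm ▸ hxm)) _).1 (inv_mem hx)
  refine ⟨hsup, ?_⟩
  have hLC : Subgroup.centralizer (L : Set G) = Subgroup.centralizer (X : Set G) ⊓ Subgroup.centralizer (X' : Set G) := by
    refine le_antisymm (le_inf (Subgroup.centralizer_le hX) (Subgroup.centralizer_le hX'L)) fun w hw => ?_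
    rw [Subgroup.mem_centralizer_iff]
    intro l hl
    rw [SetLike.mem_coe, ← hgen] at hl
    have h1 : X ⊔ X' ≤ Subgroup.centralizer ({w} : Set G) := sup_le
      (fun x hx => Subgroup.mem_centralizer_singleton_iff.2 (Subgroup.mem_centralizer_iff.1 (Subgroup.mem_inf.1 hw).1 x hx))
      (fun x hx => Subgroup.mem_centralizer_singleton_iff.2 (Subgroup.mem_centralizer_iff.1 (Subgroup.mem_inf.1 hw).2 x hx))
    exact Subgroup.mem_centralizer_singleton_iff.1 (h1 hl)
  have hCB : ∀ b' ∈ B', b' ∈ Subgroup.centralizer (X : Set G) → b' ∈ B := by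
    intro b' hb' hbX
    have hbL : b' ∈ Subgroup.centralizer (L : Set G) := by
      rw [hLC]; exact ⟨hbX, hqX' hb'⟩
    obtain ⟨b, hb, he⟩ := hBg.ge hb'
    have h2 : g * b * g⁻¹ = b' := he
    have h3 : b = b' := by
      have h4 := Subgroup.mem_centralizer_iff.1 hbL g hg
      calc b = g⁻¹ * (g * b * g⁻¹) * g := by group
        _ = g⁻¹ * (b' * g) := by rw [h2]; group
        _ = g⁻¹ * (g * b') := by rw [h4]
        _ = b' := by group
    exact h3 ▸ hb
  have hWX : ⁅V, L⁆ ⊓ Subgroup.centralizer (X : Set G) = B := by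
    refine le_antisymm (fun w hw => ?_) (le_inf (hsup ▸ le_sup_left) hqX)
    obtain ⟨hwW, hwX⟩ := Subgroup.mem_inf.1 hw
    rw [← hsup] at hwW
    obtain ⟨b, hb, b', hb', rfl⟩ :=
      (SolvBasic.mem_sup_iff_of_le_normalizer (fun y hy => (hVB y (hB'V hy)).1)).1 hwW
    refine mul_mem hb (hCB b' hb' ?_)
    have := mul_mem (inv_mem (hqX hb)) hwX
    rwa [inv_mul_cancel_left] at this
  refine ⟨hWX, le_antisymm (fun w hw => ?_) (le_inf (inf_le_left.trans (hsup ▸ le_sup_left)) ?_)⟩
  · obtain ⟨hwW, hwL⟩ := Subgroup.mem_inf.1 hw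
    have hwB : w ∈ B := hWX ▸ Subgroup.mem_inf.2 ⟨hwW, (hLC.le hwL).1⟩
    refine Subgroup.mem_inf.2 ⟨hwB, hBg.le ⟨w, hwB, ?_⟩⟩
    show g * w * g⁻¹ = w
    rw [Subgroup.mem_centralizer_iff.1 hwL g hg, mul_inv_cancel_right]
  · rw [hLC]
    exact le_inf (inf_le_left.trans hqX) (inf_le_right.trans hqX')

end Cfsg.Agent.S2833

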