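import Cfsg.Statements.S2835
import Cfsg.Agent.Lib.LocalEven.PIrred

set_option autoImplicit false
open Cfsg

namespace Cfsg.Agent.S2835

/-- Let L be a finite group, L₀ a maximal subgroup, T a Sylow p-subgroup of L₀ and Y ≤ T, and suppose L is Y-minimal (generated by the conjugates of Y, with Y in exactly one maximal subgroup, necessarily L₀). Then N_L(T) ≤ L₀, O_p(L) ≤ L₀ and T is a Sylow p-subgroup of L; N_L(L₀) = L₀; L = ⟨Y, gYg⁻¹⟩ for each g ∈ L outside L₀; and if Y is abelian then Y ∩ gYg⁻¹ = C_Y(L) for each such g. -/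
theorem result {L : Type*} [Group L] [Finite L] {p : ℕ} [Fact p.Prime] (L₀ : Subgroup L) (hL₀ : IsCoatom L₀) (T : Sylow p ↥L₀) (Y : Subgroup L) (hYT : Y ≤ (T : Subgroup ↥L₀).map L₀.subtype) (hmin : Cfsg.IsMinimalOver Y) : Subgroup.normalizer (((T : Subgroup ↥L₀).map L₀.subtype : Subgroup L) : Set L) ≤ L₀ ∧ Cfsg.pCore p L ≤ L₀ ∧ (∃ P : Sylow p L, (P : Subgroup L) = (T : Subgroup ↥L₀).map L₀.subtype) ∧ Subgroup.normalizer (L₀ : Set L) = L₀ ∧ (∀ g : L, g ∉ L₀ → Y ⊔ Y.map (MulAut.conj g).toMonoidHom = ⊤) ∧ (IsMulCommutative ↥Y → ∀ g : L, g ∉ L₀ → Y ⊓ Y.map (MulAut.conj g).toMonoidHom = Y ⊓ Subgroup.center L) := by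
  set T' := (T : Subgroup ↥L₀).map L₀.subtype with hT'
  have hT'L : T' ≤ L₀ := Subgroup.map_subtype_le _
  have hYL : Y ≤ L₀ := hYT.trans hT'L
  have hTp : IsPGroup p ↥T' := T.isPGroup'.map _
  have huniq : ∀ K : Subgroup L, K ≠ ⊤ → Y ≤ K → K ≤ L₀ :=
    fun K hK hYK => LEPIrred.le_uniqueMax hmin hL₀ hYL hK hYK
  have hnot : ¬ L₀.Normal := fun h => hL₀.1 (LEPIrred.not_normal_le hmin hL₀ h hYL)
  have hNL : Subgroup.normalizer (L₀ : Set L) = L₀ := by
    rcases hL₀.le_iff.1 (Subgroup.le_normalizer (H := L₀)) with h | h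
    · exact absurd (Subgroup.normalizer_eq_top_iff.1 h) hnot
    · exact h
  have hNT : Subgroup.normalizer (T' : Set L) ≤ L₀ :=
    huniq _ (fun h => hL₀.1 (top_le_iff.1 ((LEPIrred.not_normal_le hmin hL₀
      (Subgroup.normalizer_eq_top_iff.1 h) hYT).ge.trans hT'L))) (hYT.trans Subgroup.le_normalizer)
  obtain ⟨P, hP⟩ := LESylow.exists_sylow_eq hTp fun Q hQ hle hQN => by
    have hQM : Q ≤ L₀ := hQN.trans hNT
    have h2 := T.is_maximal' (hQ.comap_of_injective L₀.subtype L₀.subtype_injective)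
      (Q := Q.subgroupOf L₀) (fun x hx => hle ⟨x, hx, rfl⟩)
    rw [hT', ← h2, Subgroup.map_subgroupOf_eq_of_le hQM]
  have hO : Cfsg.pCore p L ≤ L₀ := (LEBasic.pCore_le_sylow P).trans (hP.le.trans hT'L)
  have hgen : ∀ g : L, g ∉ L₀ → Y ⊔ Y.map (MulAut.conj g).toMonoidHom = ⊤ := by
    intro g hg
    by_contra h
    have h1 : Y.map (MulAut.conj g).toMonoidHom ≤ L₀ := le_sup_right.trans (huniq _ h le_sup_left)
    have h2 : Y ≤ L₀.map (MulAut.conj g⁻¹).toMonoidHom := fun y hy => by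
      rw [LEBasic.mem_map_conj, inv_inv]
      exact h1 ⟨y, hy, rfl⟩
    have h3 : L₀.map (MulAut.conj g⁻¹).toMonoidHom ≠ ⊤ := fun h4 => hL₀.1 (by
      rw [← LEBasic.map_conj_one L₀, ← mul_inv_cancel g, ← LEBasic.map_conj_map_conj, h4,
        Subgroup.map_top_of_surjective _ (MulAut.conj g).surjective])
    have h5 : L₀.map (MulAut.conj g⁻¹).toMonoidHom = L₀ :=
      Subgroup.eq_of_le_of_card_ge (huniq _ h3 h2) (LEBasic.card_map_conj L₀ g⁻¹).ge
    exact hg (inv_inv g ▸ inv_mem (hNL.le (LEBasic.map_conj_eq_iff_mem_normalizer.1 h5)))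
  refine ⟨hNT, hO, ⟨P, hP⟩, hNL, hgen, fun hab g hg => le_antisymm (fun y hy => ?_) (fun y hy => ?_)⟩
  · obtain ⟨hyY, hyg⟩ := Subgroup.mem_inf.1 hy
    refine Subgroup.mem_inf.2 ⟨hyY, ?_⟩
    have h1 : Y ⊔ Y.map (MulAut.conj g).toMonoidHom ≤ Subgroup.centralizer ({y} : Set L) := by
      refine sup_le (fun a ha => Subgroup.mem_centralizer_singleton_iff.2 ?_) ?_
      · exact congrArg Subtype.val (hab.is_comm.comm (⟨a, ha⟩ : ↥Y) ⟨y, hyY⟩)
      · rintro _ ⟨a, ha, rfl⟩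
        obtain ⟨b, hb, rfl⟩ := hyg
        rw [Subgroup.mem_centralizer_singleton_iff]
        show MulAut.conj g a * MulAut.conj g b = MulAut.conj g b * MulAut.conj g a
        rw [← map_mul, ← map_mul]
        exact congrArg _ (congrArg Subtype.val (hab.is_comm.comm (⟨a, ha⟩ : ↥Y) ⟨b, hb⟩))
    rw [hgen g hg, top_le_iff] at h1
    rw [Subgroup.mem_center_iff]
    intro z
    exact Subgroup.mem_centralizer_singleton_iff.1 (h1.ge (Subgroup.mem_top z))
  · obtain ⟨hyY, hyZ⟩ := Subgroup.mem_inf.1 hy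
    refine Subgroup.mem_inf.2 ⟨hyY, y, hyY, ?_⟩
    show g * y * g⁻¹ = y
    rw [Subgroup.mem_center_iff.1 hyZ g, mul_inv_cancel_right]

end Cfsg.Agent.S2835

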