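import Cfsg.Statements.S2836
import Cfsg.Agent.Lib.LocalEven.PIrred

set_option autoImplicit false
open Cfsg

namespace Cfsg.Agent.S2836

/-- Let L be a finite group, L₀ a maximal subgroup, T a Sylow p-subgroup of L₀, Y ≤ T, and suppose L is Y-minimal. Let D be the intersection of the conjugates of L₀ (the core of L₀). Then D contains O_p(L) and D/O_p(L) is the Frattini subgroup of L/O_p(L), so D is p-closed; and every normal subgroup N of L contained in L₀ is p-closed with N/O_p(N) a nilpotent group of order prime to p. -/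
theorem result {L : Type*} [Group L] [Finite L] {p : ℕ} [Fact p.Prime] (L₀ : Subgroup L) (hL₀ : IsCoatom L₀) (T : Sylow p ↥L₀) (Y : Subgroup L) (hYT : Y ≤ (T : Subgroup ↥L₀).map L₀.subtype) (hmin : Cfsg.IsMinimalOver Y) : (Cfsg.pCore p L ≤ L₀.normalCore ∧ (L₀.normalCore).map (QuotientGroup.mk' (Cfsg.pCore p L)) = frattini (L ⧸ Cfsg.pCore p L) ∧ Cfsg.IsPClosed p ↥(L₀.normalCore)) ∧ ∀ (N : Subgroup L) [N.Normal], N ≤ L₀ → Cfsg.IsPClosed p ↥N ∧ Group.IsNilpotent (↥N ⧸ Cfsg.pCore p ↥N) ∧ (Nat.card (↥N ⧸ Cfsg.pCore p ↥N)).Coprime p := by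
  set T' := (T : Subgroup ↥L₀).map L₀.subtype with hT'
  have hT'L : T' ≤ L₀ := Subgroup.map_subtype_le _
  have hYL : Y ≤ L₀ := hYT.trans hT'L
  have hTp : IsPGroup p ↥T' := T.isPGroup'.map _
  have huniq : ∀ K : Subgroup L, K ≠ ⊤ → Y ≤ K → K ≤ L₀ :=
    fun K hK hYK => LEPIrred.le_uniqueMax hmin hL₀ hYL hK hYK
  have hNT : Subgroup.normalizer (T' : Set L) ≤ L₀ :=
    huniq _ (fun h => hL₀.1 (top_le_iff.1 ((LEPIrred.not_normal_le hmin hL₀
      (Subgroup.normalizer_eq_top_iff.1 h) hYT).ge.trans hT'L))) (hYT.trans Subgroup.le_normalizer)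
  obtain ⟨P, hP⟩ := LESylow.exists_sylow_eq hTp fun Q hQ hle hQN => by
    have hQM : Q ≤ L₀ := hQN.trans hNT
    have h2 := T.is_maximal' (hQ.comap_of_injective L₀.subtype L₀.subtype_injective)
      (Q := Q.subgroupOf L₀) (fun x hx => hle ⟨x, hx, rfl⟩)
    rw [hT', ← h2, Subgroup.map_subgroupOf_eq_of_le hQM]
  have hYP : Y ≤ (P : Subgroup L) := hYT.trans hP.ge
  set O := Cfsg.pCore p L with hO
  have hOL : O ≤ L₀ := (LEBasic.pCore_le_sylow P).trans (hP.le.trans hT'L)
  -- normal subgroups inside L₀ are p-closed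
  have hclosed : ∀ (N : Subgroup L) [N.Normal], N ≤ L₀ → Cfsg.IsPClosed p ↥N := by
    intro N _ hN
    rw [LEPIrred.normal_pClosed_iff P N]
    obtain ⟨Q, hQ⟩ := PBasic.exists_sylow_subgroupOf P N
    have hmap : (Q : Subgroup ↥N).map N.subtype = N ⊓ (P : Subgroup L) := by
      rw [hQ, Subgroup.subgroupOf_map_subtype, inf_comm]
    have hF := Sylow.normalizer_sup_eq_top Q
    rw [hmap] at hF
    by_cases htop : Subgroup.normalizer ((N ⊓ (P : Subgroup L) : Subgroup L) : Set L) = ⊤
    · exact LEBasic.le_pCore (Subgroup.normalizer_eq_top_iff.1 htop) (P.isPGroup'.to_le inf_le_right)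
    · refine absurd (top_le_iff.1 (hF.ge.trans (sup_le (huniq _ htop (fun y hy => ?_)) hN))) hL₀.1
      rw [← LEBasic.map_conj_eq_iff_mem_normalizer, Subgroup.map_inf_eq _ _ _ (MulAut.conj y).injective,
        LEBasic.map_conj_eq_iff_mem_normalizer.2 (by rw [Subgroup.normalizer_eq_top_iff.2 inferInstance]; trivial),
        LEBasic.map_conj_eq_iff_mem_normalizer.2 (Subgroup.le_normalizer (hYP hy))]
  set D := L₀.normalCore with hD
  haveI : O.Normal := Cfsg.pCore_normal p L
  have hOD : O ≤ D := Subgroup.normal_le_normalCore.2 hOL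
  have hDcl := hclosed D L₀.normalCore_le
  set π := QuotientGroup.mk' O with hπ
  have hsurj : Function.Surjective π := QuotientGroup.mk'_surjective O
  have hker : π.ker = O := QuotientGroup.ker_mk' O
  have hfr : D.map π = frattini (L ⧸ O) := by
    refine le_antisymm ?_ ?_
    · rw [frattini, Order.radical]
      refine le_iInf₂ fun X hX => ?_
      by_contra hne
      have hX' : IsCoatom (X.comap π) := by
        refine ⟨fun h => hX.1 ?_, fun Z hZ => ?_⟩
        · rw [← Subgroup.map_comap_eq_self_of_surjective hsurj X, h, Subgroup.map_top_of_surjective _ hsurj]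
        · have hOZ : O ≤ Z := (hker.ge.trans (Subgroup.ker_le_comap _ _)).trans hZ.le
          have h4 : X < Z.map π := by
            refine lt_of_le_of_ne ?_ fun h => hZ.ne ?_
            · rw [← Subgroup.map_comap_eq_self_of_surjective hsurj X]; exact Subgroup.map_mono hZ.le
            · rw [h, Subgroup.comap_map_eq, hker, sup_eq_left.2 hOZ]
          have h5 := congrArg (Subgroup.comap π) (hX.2 _ h4)
          rwa [Subgroup.comap_map_eq, hker, sup_eq_left.2 hOZ, Subgroup.comap_top] at h5
      set X' := X.comap π with hX'def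
      have hDX : ¬ D ≤ X' := fun h => hne (Subgroup.map_le_iff_le_comap.2 h)
      have htop : D ⊔ X' = ⊤ := hX'.2 _ (right_lt_sup.2 hDX)
      have hdvd : ¬ p ∣ X'.index := by
        have hOX : O ≤ X' := hker.ge.trans (Subgroup.ker_le_comap _ _)
        obtain ⟨Q, hQ⟩ := PBasic.exists_sylow_subgroupOf P D
        have h1 := (LEPIrred.normal_pClosed_iff P D).1 hDcl
        have h2 : (Q : Subgroup ↥D) ≤ X'.subgroupOf D := fun d hd => by
          rw [hQ] at hd
          exact hOX (h1 (Subgroup.mem_inf.2 ⟨d.2, hd⟩))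
        have h3 : X'.index = X'.relIndex D := by
          have := PBasic.relIndex_eq_relIndex_sup X' D
          rw [htop, Subgroup.relIndex_top_right] at this
          exact this.symm
        rw [h3]
        exact fun h => Q.not_dvd_index (h.trans (Subgroup.index_dvd_of_le h2))
      obtain ⟨S⟩ : Nonempty (Sylow p ↥X') := inferInstance
      obtain ⟨S', hS'⟩ := (S.isPGroup'.map X'.subtype).exists_le_sylow
      have hcard : Nat.card ↥(P : Subgroup L) ≤ Nat.card ↥((S : Subgroup ↥X').map X'.subtype) := by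
        rw [Subgroup.card_map_of_injective X'.subtype_injective, P.card_eq_multiplicity,
          S.card_eq_multiplicity, ← Subgroup.card_mul_index X',
          Nat.factorization_mul Nat.card_pos.ne' Subgroup.index_ne_zero_of_finite, Finsupp.add_apply,
          Nat.factorization_eq_zero_of_not_dvd hdvd, add_zero]
      have hSeq : (S' : Subgroup L) = (S : Subgroup ↥X').map X'.subtype :=
        (Subgroup.eq_of_le_of_card_ge hS' (by
          rw [S'.card_eq_multiplicity, ← P.card_eq_multiplicity]; exact hcard)).symm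
      obtain ⟨h, hh⟩ := LESylow.exists_conj_eq S' P
      have hYX : Y ≤ X'.map (MulAut.conj h).toMonoidHom := by
        refine hYP.trans ?_
        rw [← hh, hSeq]
        exact Subgroup.map_mono (Subgroup.map_subtype_le _)
      have hne2 : X'.map (MulAut.conj h).toMonoidHom ≠ ⊤ := fun h4 => hX'.1 (by
        rw [← LEBasic.map_conj_one X', ← inv_mul_cancel h, ← LEBasic.map_conj_map_conj, h4,
          Subgroup.map_top_of_surjective _ (MulAut.conj h⁻¹).surjective])
      refine hDX fun d hd => ?_
      have h6 : h * d * h⁻¹ ∈ D := L₀.normalCore_normal.conj_mem d hd h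
      have h7 : X'.map (MulAut.conj h).toMonoidHom = L₀ := by
        have hle := huniq _ hne2 hYX
        refine hle.eq_of_not_lt fun hlt => hL₀.1 ?_
        have h8 : X' < L₀.map (MulAut.conj h⁻¹).toMonoidHom := by
          have := Subgroup.map_lt_map_iff_of_injective (f := (MulAut.conj h⁻¹).toMonoidHom)
            (MulAut.conj h⁻¹).injective |>.2 hlt
          rwa [LEBasic.map_conj_map_conj, inv_mul_cancel, LEBasic.map_conj_one] at this
        have h9 := congrArg (Subgroup.map (MulAut.conj h).toMonoidHom) (hX'.2 _ h8)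
        rwa [LEBasic.map_conj_map_conj, mul_inv_cancel, LEBasic.map_conj_one,
          Subgroup.map_top_of_surjective _ (MulAut.conj h).surjective] at h9
      have h10 : h * d * h⁻¹ ∈ X'.map (MulAut.conj h).toMonoidHom := h7 ▸ L₀.normalCore_le h6
      rw [LEBasic.mem_map_conj] at h10
      simpa [mul_assoc] using h10
    · intro q hq
      obtain ⟨x, rfl⟩ := hsurj q
      refine ⟨x, fun b => ?_, rfl⟩
      have hXb : IsCoatom (L₀.map π) := by
        refine ⟨fun h => hL₀.1 ?_, fun Z hZ => ?_⟩
        · have h2 := congrArg (Subgroup.comap π) h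
          rwa [Subgroup.comap_map_eq, hker, sup_eq_left.2 hOL, Subgroup.comap_top] at h2
        · have h3 : L₀ < Z.comap π := by
            refine lt_of_le_of_ne (Subgroup.map_le_iff_le_comap.1 hZ.le) fun h => hZ.ne ?_
            rw [h, Subgroup.map_comap_eq_self_of_surjective hsurj]
          rw [← Subgroup.map_comap_eq_self_of_surjective hsurj Z, hL₀.2 _ h3,
            Subgroup.map_top_of_surjective _ hsurj]
      have h1 : π b * π x * (π b)⁻¹ ∈ L₀.map π :=
        frattini_le_coatom hXb ((inferInstance : (frattini (L ⧸ O)).Normal).conj_mem _ hq (π b))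
      rw [← map_inv, ← map_mul, ← map_mul, ← Subgroup.mem_comap, Subgroup.comap_map_eq, hker,
        sup_eq_left.2 hOL] at h1
      exact h1
  refine ⟨⟨hOD, hfr, hDcl⟩, fun N _ hNL => ?_⟩
  have hNcl := hclosed N hNL
  have hpc : Cfsg.pCore p ↥N = O.subgroupOf N := by
    haveI : (O.subgroupOf N).Normal := Subgroup.normal_subgroupOf
    refine le_antisymm (fun x hx => ?_) (LEBasic.le_pCore inferInstance
      ((LEBasic.pCore_isPGroup (p := p) (G := L)).comap_of_injective N.subtype N.subtype_injective))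
    exact LEBasic.pCoreMap_le_pCore (N := N) ⟨x, hx, rfl⟩
  refine ⟨hNcl, ?_, ?_⟩
  · let f : ↥N →* ↥(D.map π) := (π.comp N.subtype).codRestrict _
      (fun x => ⟨x, Subgroup.normal_le_normalCore.2 hNL x.2, rfl⟩)
    have hf : Cfsg.pCore p ↥N = f.ker := by
      rw [hpc]
      ext x
      show (x : L) ∈ O ↔ _
      rw [MonoidHom.mem_ker, Subtype.ext_iff]
      exact ((QuotientGroup.eq_one_iff (x : L)).symm)
    haveI : Group.IsNilpotent ↥(D.map π) := by
      rw [hfr]; exact frattini_nilpotent
    haveI : Group.IsNilpotent ↥(f.range) := Subgroup.isNilpotent f.range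
    exact Group.nilpotent_of_mulEquiv ((QuotientGroup.quotientMulEquivOfEq hf).trans
      (QuotientGroup.quotientKerEquivRange f)).symm
  · obtain ⟨Q, hQ⟩ := PBasic.exists_sylow_subgroupOf P N
    have h1 := (LEPIrred.normal_pClosed_iff P N).1 hNcl
    have h2 : (Q : Subgroup ↥N) = Cfsg.pCore p ↥N := by
      refine le_antisymm ?_ (LEBasic.pCore_le_sylow Q)
      rw [hpc, hQ]
      exact fun x hx => h1 (Subgroup.mem_inf.2 ⟨x.2, hx⟩)
    rw [← h2, ← Subgroup.index_eq_card]
    exact ((Fact.out : p.Prime).coprime_iff_not_dvd.2 Q.not_dvd_index).symm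

end Cfsg.Agent.S2836

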