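import Cfsg.Statements.S2838
import Cfsg.Agent.Lib.LocalEven.WeakClosed

set_option autoImplicit false
open Cfsg
open scoped commutatorElement

namespace Cfsg.Agent.S2838

/-- For a nontrivial p-subgroup Q of a finite group H the following are equivalent: Q is a weakly closed subgroup (it is the only H-conjugate of itself inside some Sylow p-subgroup containing it); Q = P for every conjugate P of Q with [Q, P] ≤ Q ∩ P; Q is normal in N_H(R) for every p-subgroup R of H containing Q. -/
theorem result {H : Type*} [Group H] [Finite H] {p : ℕ} [Fact p.Prime] (Q : Subgroup H) (hQp : IsPGroup p ↥Q) (hQ1 : Q ≠ ⊥) : (Cfsg.IsWeaklyClosedSubgroup p Q ↔ ∀ g : H, ⁅Q, ((Q : Subgroup H).map (MulAut.conj (g : H)).toMonoidHom)⁆ ≤ Q ⊓ ((Q : Subgroup H).map (MulAut.conj (g : H)).toMonoidHom) → ((Q : Subgroup H).map (MulAut.conj (g : H)).toMonoidHom) = Q) ∧ (Cfsg.IsWeaklyClosedSubgroup p Q ↔ ∀ R : Subgroup H, IsPGroup p ↥R → Q ≤ R → Subgroup.normalizer ((R : Subgroup H) : Set H) ≤ Subgroup.normalizer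 ((Q : Subgroup H) : Set H)) := by
  have hle : ∀ {A B : Subgroup H}, ⁅A, B⁆ ≤ A → B ≤ Subgroup.normalizer (A : Set H) :=
    fun h => Subgroup.le_normalizer_iff_commutator_le_left.2 h
  have fwd : Cfsg.IsWeaklyClosedSubgroup p Q →
      ∀ g : H, ⁅Q, Q.map (MulAut.conj g).toMonoidHom⁆ ≤ Q ⊓ Q.map (MulAut.conj g).toMonoidHom →
        Q.map (MulAut.conj g).toMonoidHom = Q := fun hwc g hg =>
    LEWeakClosed.conj_eq_of_le hwc
      (hQp.to_sup_of_normal_left' (hQp.map _) (hle (hg.trans inf_le_left))) le_sup_left le_sup_right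
  refine ⟨⟨fwd, fun hcond => ?_⟩, ⟨fun hwc R hR hQR => LEWeakClosed.normalizer_le hwc hR hQR,
    LEWeakClosed.weaklyClosed_of_normalizers hQp⟩⟩
  have step : ∀ R : Subgroup H, IsPGroup p ↥R → Q ≤ R → R ≤ Subgroup.normalizer (Q : Set H) := by
    intro R hR hQR
    have hR₀ : R ⊓ Subgroup.normalizer (Q : Set H) = R := by
      refine LESylow.eq_of_normalizer_inf_le hR inf_le_left fun y hy => ?_
      obtain ⟨hyR, hyN⟩ := Subgroup.mem_inf.1 hy
      refine Subgroup.mem_inf.2 ⟨hyR, LEBasic.map_conj_eq_iff_mem_normalizer.1 (hcond y ?_)⟩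
      have hQ₀ : Q ≤ R ⊓ Subgroup.normalizer (Q : Set H) := le_inf hQR Subgroup.le_normalizer
      have hc1 : Q.map (MulAut.conj y).toMonoidHom ≤ R ⊓ Subgroup.normalizer (Q : Set H) :=
        (LEBasic.map_conj_mono y hQ₀).trans (LEBasic.map_conj_eq_iff_mem_normalizer.2 hyN).le
      have hc2 : R ⊓ Subgroup.normalizer (Q : Set H) ≤
          Subgroup.normalizer ((Q.map (MulAut.conj y).toMonoidHom : Subgroup H) : Set H) := by
        refine (LEBasic.map_conj_eq_iff_mem_normalizer.2 hyN).ge.trans ?_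
        exact le_trans (LEBasic.map_conj_mono y inf_le_right) (Subgroup.le_normalizer_map _)
      exact le_inf (Subgroup.le_normalizer_iff_commutator_le_left.1 (hc1.trans inf_le_right))
        (Subgroup.le_normalizer_iff_commutator_le_right.1 (hQ₀.trans hc2))
    exact inf_eq_left.1 hR₀
  obtain ⟨T, hT⟩ := hQp.exists_le_sylow
  refine ⟨T, hT, fun g hg => hcond g (le_inf ?_ ?_)⟩
  · exact Subgroup.le_normalizer_iff_commutator_le_left.1 (hg.trans (step _ T.isPGroup' hT))
  · refine Subgroup.le_normalizer_iff_commutator_le_right.1 (hT.trans ?_)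
    obtain ⟨T', hT'⟩ := LESylow.exists_sylow_conj T g⁻¹
    have h1 := step _ T'.isPGroup' (by
      rw [hT', ← LEWeakClosed.map_conj_cancel Q g]; exact LEBasic.map_conj_mono _ hg)
    rw [hT'] at h1
    conv_lhs => rw [← LEWeakClosed.map_conj_cancel' (T : Subgroup H) g]
    exact (LEBasic.map_conj_mono g h1).trans (Subgroup.le_normalizer_map _)

end Cfsg.Agent.S2838

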