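import Cfsg.Statements.S2839
import Cfsg.Agent.Lib.LocalEven.WeakClosed

set_option autoImplicit false
open Cfsg

namespace Cfsg.Agent.S2839

/-- Let Q be a nontrivial p-subgroup of the finite group H that is a weakly closed subgroup, K a subgroup containing Q and N a normal subgroup of H. Then Q is a weakly closed subgroup of K; every H-conjugate of Q contained in K is a K-conjugate of Q; N_K(Q) contains a Sylow p-subgroup of K; N = N_N(Q)·O^p(N); and QN/N is a weakly closed subgroup of H/N. -/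
theorem result {H : Type*} [Group H] [Finite H] {p : ℕ} [Fact p.Prime] (Q : Subgroup H) (hQp : IsPGroup p ↥Q) (hQ1 : Q ≠ ⊥) (hwc : Cfsg.IsWeaklyClosedSubgroup p Q) (K : Subgroup H) (hQK : Q ≤ K) (N' : Subgroup H) [N'.Normal] : Cfsg.IsWeaklyClosedSubgroup p (Q.subgroupOf K) ∧ (∀ g : H, ((Q : Subgroup H).map (MulAut.conj (g : H)).toMonoidHom) ≤ K → ∃ k ∈ K, ((Q : Subgroup H).map (MulAut.conj (g : H)).toMonoidHom) = ((Q : Subgroup H).map (MulAut.conj (k : H)).toMonoidHom)) ∧ Cfsg.IsParabolic p ((Subgroup.normalizer ((Q : Subgroup H) : Set H)).subgroupOf K) ∧ (N' ⊓ Subgroup.normalizer ((Q : Subgroup H) : Set H)) ⊔ (Cfsg.pResidual p ↥N').map N'.subtype = N' ∧ Cfsg.IsWeaklyClosedSubgroup p (Q.map (QuotientGroup.mk' N')) := by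
  refine ⟨LEWeakClosed.weaklyClosed_subgroupOf hQp hwc hQK,
    fun g hg => LEWeakClosed.exists_mem_conj_eq hQp hwc hQK hg, ?_, ?_, ?_⟩
  · obtain ⟨S, hS⟩ := (hQp.comap_of_injective K.subtype K.subtype_injective).exists_le_sylow
    refine ⟨S, fun x hx => ?_⟩
    rw [Subgroup.mem_subgroupOf]
    exact LEWeakClosed.le_normalizer_of_pGroup hwc (S.isPGroup'.map K.subtype)
      (fun q hq => ⟨⟨q, hQK hq⟩, hS hq, rfl⟩) ⟨x, hx, rfl⟩
  · obtain ⟨T, -, hTN⟩ := LEWeakClosed.exists_sylow_le_normalizer hQp hwc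
    obtain ⟨S, hS⟩ := PBasic.exists_sylow_subgroupOf T N'
    refine le_antisymm (sup_le inf_le_left (Subgroup.map_subtype_le _)) ?_
    have h1 := congrArg (Subgroup.map N'.subtype) (LEBasic.pResidual_sup_sylow S)
    rw [← MonoidHom.range_eq_map, Subgroup.range_subtype, Subgroup.map_sup, hS,
      Subgroup.subgroupOf_map_subtype] at h1
    exact h1.ge.trans (sup_le le_sup_right ((le_inf inf_le_right (inf_le_left.trans hTN)).trans le_sup_left))
  · obtain ⟨T, hQT, hTN⟩ := LEWeakClosed.exists_sylow_le_normalizer hQp hwc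
    have hsurj := QuotientGroup.mk'_surjective N'
    refine ⟨T.mapSurjective hsurj, ?_, ?_⟩
    · rw [Sylow.coe_mapSurjective]; exact Subgroup.map_mono hQT
    · intro q hq
      obtain ⟨g, rfl⟩ := hsurj q
      have key : ∀ x : H, (Q.map (QuotientGroup.mk' N')).map (MulAut.conj (QuotientGroup.mk' N' x)).toMonoidHom =
          (Q.map (MulAut.conj x).toMonoidHom).map (QuotientGroup.mk' N') := fun x => by
        rw [Subgroup.map_map, Subgroup.map_map]
        congr 1
      rw [Sylow.coe_mapSurjective, key, Subgroup.map_le_iff_le_comap, Subgroup.comap_map_eq,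
        QuotientGroup.ker_mk'] at hq
      obtain ⟨k, hk, he⟩ := LEWeakClosed.exists_mem_conj_eq hQp hwc (hQT.trans le_sup_left) hq
      obtain ⟨t, ht, n, hn, rfl⟩ := Subgroup.mem_sup_of_normal_right.1 hk
      rw [key, he]
      have h1 : QuotientGroup.mk' N' (t * n) = QuotientGroup.mk' N' t := by
        rw [map_mul, QuotientGroup.mk'_apply N' n, (QuotientGroup.eq_one_iff n).2 hn, mul_one]
      rw [← key, h1, key, LEBasic.map_conj_eq_iff_mem_normalizer.2 (hTN ht)]

end Cfsg.Agent.S2839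

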