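import Cfsg.Statements.S2840
import Cfsg.Agent.Lib.LocalEven.WeakClosed

set_option autoImplicit false
open Cfsg

namespace Cfsg.Agent.S2840

/-- Let Q be a nontrivial p-subgroup of the finite group H that is a weakly closed subgroup and K a subgroup containing Q; let K° be the weak closure of Q in K (generated by the H-conjugates of Q inside K). Then K° is generated by the K-conjugates of Q, and K° is the subnormal closure of Q in K. -/
theorem result {H : Type*} [Group H] [Finite H] {p : ℕ} [Fact p.Prime] (Q : Subgroup H) (hQp : IsPGroup p ↥Q) (hQ1 : Q ≠ ⊥) (hwc : Cfsg.IsWeaklyClosedSubgroup p Q) (K : Subgroup H) (hQK : Q ≤ K) (Kc : Subgroup H) (hKc : Kc = Cfsg.weakClosure Q K) : Kc = ⨆ k : ↥K, ((Q : Subgroup H).map (MulAut.conj ((k : H) : H)).toMonoidHom) ∧ Kc = (Cfsg.subnormalClosure (Q.subgroupOf K)).map K.subtype := by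
  have h1 := LEWeakClosed.weakClosure_eq_iSup hQp hwc hQK
  refine ⟨hKc.trans h1, le_antisymm ?_ ?_⟩
  · -- every subnormal subgroup of K containing Q contains all K-conjugates
    have key : ∀ S : Subgroup ↥K, S.IsSubnormal → Q.subgroupOf K ≤ S → Kc ≤ S.map K.subtype := by
      intro S hS
      induction hS with
      | top =>
        intro _
        rw [← MonoidHom.range_eq_map, Subgroup.range_subtype, hKc]
        exact LEWeakClosed.weakClosure_le K
      | step A B hAB _ hn ih =>
        intro hQA
        have hB := ih (hQA.trans hAB)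
        have hQA' : Q ≤ A.map K.subtype := fun x hx => ⟨⟨x, hQK hx⟩, hQA hx, rfl⟩
        have hBA : B.map K.subtype ≤ Subgroup.normalizer ((A.map K.subtype : Subgroup H) : Set H) :=
          (Subgroup.map_mono ((Subgroup.normal_subgroupOf_iff_le_normalizer hAB).1 hn)).trans
            (Subgroup.le_normalizer_map _)
        rw [hKc]
        refine iSup_le fun x => ?_
        obtain ⟨b, hb, he⟩ := LEWeakClosed.exists_mem_conj_eq hQp hwc
          (hQA'.trans (Subgroup.map_mono hAB)) ((LEWeakClosed.conj_le_weakClosure x.2).trans (hKc.ge.trans hB))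
        rw [he]
        exact (LEBasic.map_conj_mono b hQA').trans (LEBasic.map_conj_eq_iff_mem_normalizer.2 (hBA hb)).le
    intro x hx
    obtain ⟨y, -, rfl⟩ := key ⊤ Subgroup.IsSubnormal.top le_top hx
    refine ⟨y, Subgroup.mem_sInf.2 fun S hS => ?_, rfl⟩
    obtain ⟨z, hz, hzy⟩ := key S hS.2 hS.1 hx
    exact K.subtype_injective hzy ▸ hz
  · rintro _ ⟨y, hy, rfl⟩
    have hQc : Q ≤ Kc := hKc ▸ LEWeakClosed.le_weakClosure hQK
    have hsub : Cfsg.subnormalClosure (Q.subgroupOf K) ≤ Kc.subgroupOf K := by
      refine sInf_le ⟨fun q hq => hQc hq, ?_⟩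
      refine Subgroup.Normal.isSubnormal (Subgroup.normal_subgroupOf_of_le_normalizer ?_)
      rw [hKc]
      exact Subgroup.le_normalizer.trans (LEWeakClosed.le_normalizer_weakClosure K)
    exact hsub hy

end Cfsg.Agent.S2840

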