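import Cfsg.Statements.S2841
import Cfsg.Agent.Lib.LocalEven.WeakClosed

set_option autoImplicit false
open Cfsg
open scoped commutatorElement

namespace Cfsg.Agent.S2841

/-- Let Q be a nontrivial p-subgroup of the finite group H that is a weakly closed subgroup and N a normal subgroup of H. Then N = N_N(Q)·[N, Q] and [N, Q] = (Q ∩ [N, Q])·[N, Q, Q]. -/
theorem result {H : Type*} [Group H] [Finite H] {p : ℕ} [Fact p.Prime] (Q : Subgroup H) (hQp : IsPGroup p ↥Q) (hQ1 : Q ≠ ⊥) (hwc : Cfsg.IsWeaklyClosedSubgroup p Q) (N' : Subgroup H) [N'.Normal] : (∀ n : H, n ∈ N' → ∃ a ∈ N' ⊓ Subgroup.normalizer ((Q : Subgroup H) : Set H), ∃ b ∈ ⁅N', Q⁆, n = a * b) ∧ (∀ c : H, c ∈ ⁅N', Q⁆ → ∃ a ∈ Q ⊓ ⁅N', Q⁆, ∃ b ∈ ⁅⁅N', Q⁆, Q⁆, c = a * b) := by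
  have hNn : ∀ g : H, g ∈ Subgroup.normalizer (N' : Set H) := fun g => by
    rw [Subgroup.normalizer_eq_top_iff.2 inferInstance]; trivial
  set M := ⁅N', Q⁆ with hM
  have hMN : M ≤ N' := Subgroup.le_normalizer_iff_commutator_le_left.1 fun g _ => hNn g
  have hNM : N' ≤ Subgroup.normalizer (M : Set H) := Subgroup.normalizer_commutator_ge_left _ _
  have hQM : Q ≤ Subgroup.normalizer (M : Set H) := Subgroup.normalizer_commutator_ge_right _ _
  -- the general decomposition for a subgroup normalized by Q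
  have gen : ∀ X : Subgroup H, Q ≤ Subgroup.normalizer (X : Set H) → ∀ n ∈ X,
      ∃ a ∈ X ⊓ Subgroup.normalizer (Q : Set H), ∃ b ∈ ⁅X, Q⁆, n = a * b := by
    intro X hQX n hn
    have hXX : ⁅X, Q⁆ ≤ X := Subgroup.le_normalizer_iff_commutator_le_left.1 hQX
    have hle : Q.map (MulAut.conj n).toMonoidHom ≤ ⁅X, Q⁆ ⊔ Q := by
      rintro _ ⟨q, hq, rfl⟩
      have e : (MulAut.conj n).toMonoidHom q = ⁅n, q⁆ * q := by simp [commutatorElement_def, mul_assoc]
      rw [e]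
      exact mul_mem (Subgroup.mem_sup_left (Subgroup.commutator_mem_commutator hn hq)) (Subgroup.mem_sup_right hq)
    obtain ⟨k, hk, he⟩ := LEWeakClosed.exists_mem_conj_eq hQp hwc le_sup_right hle
    obtain ⟨b, hb, q, hq, rfl⟩ :=
      (SolvBasic.mem_sup_iff_of_le_normalizer (Subgroup.normalizer_commutator_ge_right X Q)).1 hk
    rw [← LEBasic.map_conj_map_conj, LEBasic.map_conj_eq_iff_mem_normalizer.2 (Subgroup.le_normalizer hq)] at he
    have ha : b⁻¹ * n ∈ X ⊓ Subgroup.normalizer (Q : Set H) := by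
      refine Subgroup.mem_inf.2 ⟨mul_mem (inv_mem (hXX hb)) hn, LEBasic.map_conj_eq_iff_mem_normalizer.1 ?_⟩
      rw [← LEBasic.map_conj_map_conj, he, LEBasic.map_conj_map_conj, inv_mul_cancel, LEBasic.map_conj_one]
    refine ⟨b⁻¹ * n, ha, (b⁻¹ * n)⁻¹ * b * (b⁻¹ * n), ?_, by group⟩
    exact (Subgroup.mem_normalizer_iff''.1 (Subgroup.normalizer_commutator_ge_left X Q (Subgroup.mem_inf.1 ha).1) b).1 hb
  refine ⟨fun n hn => gen N' (fun g _ => hNn g) n hn, fun c hc => ?_⟩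
  have hC : M ≤ (Q ⊓ M) ⊔ ⁅M, Q⁆ := by
    conv_lhs => rw [hM]
    rw [Subgroup.commutator_le]
    intro n hn q hq
    obtain ⟨a, ha, b, hb, rfl⟩ := gen N' (fun g _ => hNn g) n hn
    obtain ⟨haN, haQ⟩ := Subgroup.mem_inf.1 ha
    rw [commutatorElement_mul_left_eq_conj_mul]
    refine mul_mem (Subgroup.mem_sup_right ?_) (Subgroup.mem_sup_left (Subgroup.mem_inf.2
      ⟨?_, Subgroup.commutator_mem_commutator haN hq⟩))
    · have h1 : a ∈ Subgroup.normalizer ((⁅M, Q⁆ : Subgroup H) : Set H) := by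
        rw [← LEBasic.map_conj_eq_iff_mem_normalizer, Subgroup.map_commutator,
          LEBasic.map_conj_eq_iff_mem_normalizer.2 (hNM haN), LEBasic.map_conj_eq_iff_mem_normalizer.2 haQ]
      exact (Subgroup.mem_normalizer_iff.1 h1 _).1 (Subgroup.commutator_mem_commutator hb hq)
    · exact Subgroup.le_normalizer_iff_commutator_le_right.1 (fun g hg => (Subgroup.mem_inf.1 hg).2)
        (Subgroup.commutator_mem_commutator (Subgroup.mem_inf.2 ⟨haN, haQ⟩) hq)
  have hnorm : Q ⊓ M ≤ Subgroup.normalizer ((⁅M, Q⁆ : Subgroup H) : Set H) :=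
    inf_le_left.trans (Subgroup.normalizer_commutator_ge_right M Q)
  have hc' := hC hc
  rw [sup_comm] at hc'
  obtain ⟨b, hb, a, ha, rfl⟩ := (SolvBasic.mem_sup_iff_of_le_normalizer hnorm).1 hc'
  exact ⟨a, ha, a⁻¹ * b * a, (Subgroup.mem_normalizer_iff''.1 (hnorm ha) b).1 hb, by group⟩

end Cfsg.Agent.S2841

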