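import Cfsg.Statements.S2843
import Cfsg.Agent.Lib.LocalEven.Large

set_option autoImplicit false
open Cfsg
open scoped commutatorElement

namespace Cfsg.Agent.S2843

/-- Let Q be a nontrivial large p-subgroup of the finite group H, Q ≤ L ≤ H, and Y a nontrivial p-subgroup of H normalized by L. Let L° be the weak closure of Q in L (generated by the conjugates of Q inside L). Then L° equals the weak closure of Q in L·C_H(Y), and [L°, C_H(Y)] ≤ O_p(L°); in particular C_H(Y) normalizes L°. -/
theorem result {H : Type*} [Group H] [Finite H] {p : ℕ} [Fact p.Prime] (Q : Subgroup H) (hQp : IsPGroup p ↥Q) (hQ1 : Q ≠ ⊥) (hL : Cfsg.IsLarge Q) (L : Subgroup H) (hQL : Q ≤ L) (Y : Subgroup H) (hYp : IsPGroup p ↥Y) (hY1 : Y ≠ ⊥) (hLY : L ≤ Subgroup.normalizer ((Y : Subgroup H) : Set H)) : Cfsg.weakClosure Q L = Cfsg.weakClosure Q (L ⊔ Subgroup.centralizer ((Y : Subgroup H) : Set H)) ∧ ⁅Cfsg.weakClosure Q L, Subgroup.centralizer ((Y : Subgroup H) : Set H)⁆ ≤ (Cfsg.pCoreOf p (Cfsg.weakClosure Q L))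 ∧ Subgroup.centralizer ((Y : Subgroup H) : Set H) ≤ Subgroup.normalizer (((Cfsg.weakClosure Q L) : Subgroup H) : Set H) := by
  have hwc := LEWeakClosed.weaklyClosed_of_isLarge hQp hQ1 hL
  set C := Subgroup.centralizer (Y : Set H) with hC
  obtain ⟨y, hy1, hy, -⟩ := LELarge.exists_y hQp hQ1 hL hYp (hQL.trans hLY) hY1
  obtain ⟨hyY, hyQ⟩ := Subgroup.mem_inf.1 hy
  have hCQ : C ≤ Subgroup.normalizer (Q : Set H) := by
    refine le_trans ?_ (hL.2 (Subgroup.zpowers y) (Subgroup.zpowers_le.2 hyQ) ?_)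
    · exact (Subgroup.centralizer_le (fun x hx => (Subgroup.zpowers_le.2 hyY) hx)).trans
        (Subgroup.centralizer_le_normalizer _)
    · rwa [ne_eq, Subgroup.zpowers_eq_bot]
  have hLC : L ≤ Subgroup.normalizer (C : Set H) := hLY.trans (LELarge.normalizer_le_normalizer_centralizer Y)
  set W := Cfsg.weakClosure Q L with hW
  have hfix : ∀ l ∈ L, C ≤ Subgroup.normalizer ((Q.map (MulAut.conj l).toMonoidHom : Subgroup H) : Set H) := by
    intro l hl
    refine (LEBasic.map_conj_eq_iff_mem_normalizer.2 (hLC hl)).ge.trans ?_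
    exact (LEBasic.map_conj_mono l hCQ).trans (Subgroup.le_normalizer_map _)
  have hWeq : W = ⨆ l : ↥L, Q.map (MulAut.conj (l : H)).toMonoidHom :=
    LEWeakClosed.weakClosure_eq_iSup hQp hwc hQL
  have hCW : C ≤ Subgroup.normalizer (W : Set H) := by
    intro c hc
    rw [← LEBasic.map_conj_eq_iff_mem_normalizer, hWeq, Subgroup.map_iSup]
    exact iSup_congr fun l => LEBasic.map_conj_eq_iff_mem_normalizer.2 (hfix l l.2 hc)
  refine ⟨le_antisymm ?_ ?_, ?_, hCW⟩
  · exact iSup_le fun x => LEWeakClosed.conj_le_weakClosure (x.2.trans le_sup_left)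
  · refine iSup_le fun x => ?_
    obtain ⟨k, hk, he⟩ := LEWeakClosed.exists_mem_conj_eq hQp hwc (hQL.trans le_sup_left) x.2
    rw [sup_comm] at hk
    obtain ⟨c, hc, l, hl, rfl⟩ := (SolvBasic.mem_sup_iff_of_le_normalizer hLC).1 hk
    rw [he, ← LEBasic.map_conj_map_conj, LEBasic.map_conj_eq_iff_mem_normalizer.2 (hfix l hl hc)]
    exact LEWeakClosed.conj_le_weakClosure (LEWeakClosed.map_conj_le_of_le hQL hl)
  · set P := CharP.opIn p C ⊓ W with hP
    have hPW : P ≤ CharP.opIn p W := by
      refine CharP.le_opIn inf_le_right ?_ ((CharP.opIn_isPGroup C).to_le inf_le_left)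
      exact (le_inf (((LEWeakClosed.weakClosure_le L).trans hLC).trans
        (CharP.normalizer_le_normalizer_opIn C)) Subgroup.le_normalizer).trans (LELarge.inf_normalizer_le _ W)
    have hR : W ≤ Subgroup.normalizer (CharP.opIn p W : Set H) := CharP.le_normalizer_opIn W
    refine le_trans ?_ hPW
    rw [Subgroup.commutator_le]
    intro w hw c hc
    have hPn : W ≤ Subgroup.normalizer (P : Set H) :=
      (le_inf (((LEWeakClosed.weakClosure_le L).trans hLC).trans
        (CharP.normalizer_le_normalizer_opIn C)) Subgroup.le_normalizer).trans (LELarge.inf_normalizer_le _ W)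
    rw [hWeq, Subgroup.iSup_eq_closure] at hw
    induction hw using Subgroup.closure_induction with
    | mem x hx =>
      obtain ⟨l, hl⟩ := Set.mem_iUnion.1 hx
      set Ql := Q.map (MulAut.conj (l : H)).toMonoidHom with hQl
      have h1 : ⁅x, c⁆ ∈ Ql :=
        Subgroup.le_normalizer_iff_commutator_le_left.1 (hfix l l.2) (Subgroup.commutator_mem_commutator hl hc)
      have hQlW : Ql ≤ W := LEWeakClosed.conj_le_weakClosure (LEWeakClosed.map_conj_le_of_le hQL l.2)
      refine Subgroup.mem_inf.2 ⟨?_, hQlW h1⟩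
      refine CharP.le_opIn (inf_le_right : Ql ⊓ C ≤ C)
        ((le_inf (hfix l l.2) Subgroup.le_normalizer).trans (LELarge.inf_normalizer_le _ _))
        ((hQp.map _).to_le inf_le_left) (Subgroup.mem_inf.2 ⟨h1, ?_⟩)
      have hxN : x ∈ Subgroup.normalizer (C : Set H) := hLC (LEWeakClosed.map_conj_le_of_le hQL l.2 hl)
      exact mul_mem ((Subgroup.mem_normalizer_iff.1 hxN c).1 hc) (inv_mem hc)
    | one => simp
    | mul a b ha _ iha ihb =>
      rw [commutatorElement_mul_left_eq_conj_mul]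
      refine mul_mem ((Subgroup.mem_normalizer_iff.1 (hPn ?_) _).1 ihb) iha
      rw [hWeq, Subgroup.iSup_eq_closure]; exact ha
    | inv a ha iha =>
      rw [commutatorElement_inv_left, ← commutatorElement_inv a c]
      refine (Subgroup.mem_normalizer_iff''.1 (hPn ?_) _).1 (inv_mem iha)
      rw [hWeq, Subgroup.iSup_eq_closure]; exact ha

end Cfsg.Agent.S2843

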