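import Cfsg.Statements.S2844
import Cfsg.Agent.Lib.LocalEven.Large

set_option autoImplicit false
open Cfsg

namespace Cfsg.Agent.S2844

/-- Let Q be a nontrivial large p-subgroup of the finite group H and Q• = O_p(N_H(Q)). Then for every g ∈ H outside N_H(Q): C_H(Q) ∩ C_H(gQg⁻¹) = 1, C_H(Q•) ∩ C_H(gQ•g⁻¹) = 1, Z(Q) ∩ Z(gQg⁻¹) = 1 and Z(Q•) ∩ Z(gQ•g⁻¹) = 1; moreover N_H(Q) = N_H(Q•) and Q• is large in H. -/
theorem result {H : Type*} [Group H] [Finite H] {p : ℕ} [Fact p.Prime] (Q : Subgroup H) (hQp : IsPGroup p ↥Q) (hQ1 : Q ≠ ⊥) (hL : Cfsg.IsLarge Q) (Qb : Subgroup H) (hQb : Qb = Cfsg.largeBullet p Q) : (∀ g : H, g ∉ Subgroup.normalizer ((Q : Subgroup H) : Set H) → Subgroup.centralizer ((Q : Subgroup H) : Set H) ⊓ Subgroup.centralizer ((((Q : Subgroup H).map (MulAut.conj (g : H)).toMonoidHom) : Subgroup H) : Set H) = ⊥ ∧ Subgroup.centralizer ((Qb : Subgroup H) : Set H) ⊓ Subgroup.centralizer ((((Qb : Subgroup H).map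 (MulAut.conj (g : H)).toMonoidHom) : Subgroup H) : Set H) = ⊥ ∧ (Q ⊓ Subgroup.centralizer ((Q : Subgroup H) : Set H)) ⊓ (((Q : Subgroup H).map (MulAut.conj (g : H)).toMonoidHom) ⊓ Subgroup.centralizer ((((Q : Subgroup H).map (MulAut.conj (g : H)).toMonoidHom) : Subgroup H) : Set H)) = ⊥ ∧ (Qb ⊓ Subgroup.centralizer ((Qb : Subgroup H) : Set H)) ⊓ (((Qb : Subgroup H).map (MulAut.conj (g : H)).toMonoidHom) ⊓ Subgroup.centralizer ((((Qb : Subgroup H).map (MulAut.conj (g : H)).toMonoidHom) : Subgroup H) : Set H)) = ⊥) ∧ Subgroup.normalizer ((Q : Subgroup H) : Set H) = Subgroup.normalizer ((Qb : Subgroup H) : Set H) ∧ Cfsg.IsLarge Qb := by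
  subst hQb
  set Qb := Cfsg.largeBullet p Q with hQb
  have hwc := LEWeakClosed.weaklyClosed_of_isLarge hQp hQ1 hL
  have hQle : Q ≤ Qb := LELarge.le_opIn_normalizer hQp
  have hQbp : IsPGroup p ↥Qb := CharP.opIn_isPGroup _
  have hN : Subgroup.normalizer (Q : Set H) = Subgroup.normalizer (Qb : Set H) :=
    le_antisymm (CharP.le_normalizer_opIn _) (LEWeakClosed.normalizer_le hwc hQbp hQle)
  have hcb : Subgroup.centralizer (Qb : Set H) ≤ Subgroup.centralizer (Q : Set H) :=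
    Subgroup.centralizer_le hQle
  refine ⟨fun g hg => ?_, hN, hcb.trans (hL.1.trans hQle), fun U hU hU1 => hN ▸ hL.2 U (hU.trans hcb) hU1⟩
  have h0 : Subgroup.centralizer (Q : Set H) ⊓
      Subgroup.centralizer ((Q.map (MulAut.conj g).toMonoidHom : Subgroup H) : Set H) = ⊥ := by
    by_contra h
    exact hg (LELarge.conj_eq_of_centralizers hQp hQ1 hL h)
  have h1 : Subgroup.centralizer (Qb : Set H) ⊓
      Subgroup.centralizer ((Qb.map (MulAut.conj g).toMonoidHom : Subgroup H) : Set H) = ⊥ :=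
    le_bot_iff.1 (h0 ▸ inf_le_inf hcb (Subgroup.centralizer_le (LEBasic.map_conj_mono g hQle)))
  exact ⟨h0, h1, le_bot_iff.1 (h0 ▸ inf_le_inf inf_le_right inf_le_right),
    le_bot_iff.1 (h1 ▸ inf_le_inf inf_le_right inf_le_right)⟩

end Cfsg.Agent.S2844

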