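import Cfsg.Statements.S2845
import Cfsg.Agent.Lib.LocalEven.Large
import Cfsg.Agent.Lib.LocalEven.LLemma

set_option autoImplicit false
open Cfsg

namespace Cfsg.Agent.S2845

/-- Let Q be a nontrivial large p-subgroup of the finite group H. Then for every subgroup L ≥ Q with O_p(L) ≠ 1, C_H(O_p(L)) is a p-group and L has characteristic p, and either the weak closure L° of Q in L equals Q or C_H(L°) = 1; for every subgroup R of H containing a Sylow p-subgroup of H with O_p(R) ≠ 1, C_H(O_p(R)) ≤ O_p(R); and H has parabolic characteristic p. -/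
theorem result {H : Type*} [Group H] [Finite H] {p : ℕ} [Fact p.Prime] (Q : Subgroup H) (hQp : IsPGroup p ↥Q) (hQ1 : Q ≠ ⊥) (hL : Cfsg.IsLarge Q) : (∀ L : Subgroup H, Q ≤ L → Cfsg.pCore p ↥L ≠ ⊥ → IsPGroup p ↥(Subgroup.centralizer (((Cfsg.pCoreOf p L) : Subgroup H) : Set H)) ∧ Subgroup.centralizer (Cfsg.pCore p ↥L : Set ↥L) ≤ Cfsg.pCore p ↥L ∧ (Cfsg.weakClosure Q L = Q ∨ Subgroup.centralizer (((Cfsg.weakClosure Q L) : Subgroup H) : Set H) = ⊥)) ∧ (∀ R : Subgroup H, Cfsg.IsParabolic p R → Cfsg.pCore p ↥R ≠ ⊥ → Subgroup.centralizer (((Cfsg.pCoreOf p R) : Subgroup H) : Set H) ≤ (Cfsg.pCoreOf p R)) ∧ Cfsg.IsOfParabolicCharacteristic p H := by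
  have hwc := LEWeakClosed.weaklyClosed_of_isLarge hQp hQ1 hL
  have hop : ∀ L : Subgroup H, Cfsg.pCore p ↥L ≠ ⊥ → CharP.opIn p L ≠ ⊥ := fun L h => by
    rwa [CharP.opIn, ne_eq, Subgroup.map_eq_bot_iff_of_injective _ L.subtype_injective]
  have part1 : ∀ L : Subgroup H, Q ≤ L → Cfsg.pCore p ↥L ≠ ⊥ →
      IsPGroup p ↥(Subgroup.centralizer (CharP.opIn p L : Set H)) ∧ CharP.IsCharP p ↥L := fun L hQL h =>
    (LELarge.main_of_isLarge hQp hQ1 hL hQL (hop L h)).2
  have part2 : ∀ R : Subgroup H, Cfsg.IsParabolic p R → Cfsg.pCore p ↥R ≠ ⊥ →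
      Subgroup.centralizer (CharP.opIn p R : Set H) ≤ CharP.opIn p R := by
    intro R ⟨T, hT⟩ hR
    obtain ⟨h, hh⟩ := LESylow.exists_conj_le hQp T
    have hQR : Q ≤ R.map (MulAut.conj h⁻¹).toMonoidHom := by
      rw [← LEWeakClosed.map_conj_cancel Q h]
      exact LEBasic.map_conj_mono _ (hh.trans hT)
    have hO : CharP.opIn p (R.map (MulAut.conj h⁻¹).toMonoidHom) =
        (CharP.opIn p R).map (MulAut.conj h⁻¹).toMonoidHom := LELLemma.opIn_cj R h⁻¹
    have hC' := (LELarge.main_of_isLarge hQp hQ1 hL hQR (by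
      rw [hO, ne_eq, Subgroup.map_eq_bot_iff_of_injective _ (MulAut.conj h⁻¹).injective]
      exact hop R hR)).2.1
    set C := Subgroup.centralizer (CharP.opIn p R : Set H) with hC
    have hCp : IsPGroup p ↥C := by
      rw [hO] at hC'
      have h1 : C.map (MulAut.conj h⁻¹).toMonoidHom ≤
          Subgroup.centralizer (((CharP.opIn p R).map (MulAut.conj h⁻¹).toMonoidHom : Subgroup H) : Set H) := by
        rintro _ ⟨c, hc, rfl⟩
        rw [Subgroup.mem_centralizer_iff]
        rintro _ ⟨o, ho, rfl⟩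
        rw [← map_mul, ← map_mul, Subgroup.mem_centralizer_iff.1 hc o ho]
      exact (hC'.to_le h1).of_injective
        ((C.equivMapOfInjective _ (MulAut.conj h⁻¹).injective).toMonoidHom)
        (C.equivMapOfInjective _ (MulAut.conj h⁻¹).injective).injective
    have hRC : R ≤ Subgroup.normalizer (C : Set H) :=
      (CharP.le_normalizer_opIn R).trans (LELarge.normalizer_le_normalizer_centralizer _)
    have hCT : C ≤ R :=
      (le_sup_left.trans (T.is_maximal' (hCp.to_sup_of_normal_left' T.isPGroup' (hT.trans hRC)) le_sup_right).le).trans hT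
    exact CharP.le_opIn hCT hRC hCp
  refine ⟨fun L hQL hne => ⟨(part1 L hQL hne).1, (part1 L hQL hne).2, ?_⟩, part2, fun R hR hR1 hpar => ?_⟩
  · by_cases hW : Cfsg.weakClosure Q L = Q
    · exact Or.inl hW
    · refine Or.inr (le_bot_iff.1 ?_)
      have hex : ∃ x : {g : H // Q.map (MulAut.conj g).toMonoidHom ≤ L},
          ¬ Q.map (MulAut.conj (x : H)).toMonoidHom ≤ Q := by
        by_contra h
        push Not at h
        exact hW (le_antisymm (iSup_le h) (LEWeakClosed.le_weakClosure hQL))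
      obtain ⟨⟨g, hg⟩, hgQ⟩ := hex
      have h0 : Subgroup.centralizer (Q : Set H) ⊓
          Subgroup.centralizer ((Q.map (MulAut.conj g).toMonoidHom : Subgroup H) : Set H) = ⊥ := by
        by_contra h
        exact hgQ (LEBasic.map_conj_eq_iff_mem_normalizer.2 (LELarge.conj_eq_of_centralizers hQp hQ1 hL h)).le
      exact h0 ▸ le_inf (Subgroup.centralizer_le (LEWeakClosed.le_weakClosure hQL))
        (Subgroup.centralizer_le (LEWeakClosed.conj_le_weakClosure hg))
  · set N := Subgroup.normalizer (R : Set H) with hN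
    have hne : Cfsg.pCore p ↥N ≠ ⊥ := fun h => hR1 (le_bot_iff.1 (by
      have := CharP.le_opIn (p := p) (Subgroup.le_normalizer : R ≤ N) le_rfl hR
      rwa [CharP.opIn, h, Subgroup.map_bot] at this))
    refine (CharP.isCharP_iff N).2 fun x hxN hx hc => ?_
    exact PBasic.eq_one_of_isPGroup_of_coprime (CharP.opIn_isPGroup (p := p) N)
      (part2 N hpar hne (Subgroup.mem_centralizer_iff.2 fun y hy => (hc y hy).symm)) hx

end Cfsg.Agent.S2845

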