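import Cfsg.Statements.S2846
import Cfsg.Agent.Lib.LocalEven.FrakM

set_option autoImplicit false
open Cfsg

namespace Cfsg.Agent.S2846

/-- Let Q be a nontrivial large p-subgroup of the finite group H, S a Sylow p-subgroup containing Q, and L a subgroup containing S with O_p(L) ≠ 1 and C_H(O_p(L)) ≤ O_p(L). Then there are a subgroup M containing S having the basic property (M ∈ 𝔐_H, writing Y_X for the largest p-reduced normal subgroup of X and 𝓛_H for the set of subgroups X with O_p(X) ≠ 1 and C_H(O_p(X)) ≤ O_p(X): M ∈ 𝓛_H, M·C_H(Y_M) is the only maximal member of 𝓛_H containing M and its largest p-reduced normal subgroup is again Y_M, C_M(Y_M) is p-closed, and the image of C_M(Y_M) in M/O_p(M) lies in the Frattini subgroup of M/O_p(M)) and a subgroup L* with S ≤ L* ≤ M, O_p(L*) ≠ 1, C_H(O_p(L*)) ≤ O_p(L*), such that L·C_H(Y_L) = L*·C_H(Y_L), the weak closures of Q in L and in L* agree and lie in that of M, and Y_L = Y_{L*}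 ≤ Y_M. If moreover Q is not normal in L, then Q is normal in neither L* nor M. -/
theorem result {H : Type*} [Group H] [Finite H] {p : ℕ} [Fact p.Prime] (Q : Subgroup H) (hQp : IsPGroup p ↥Q) (hQ1 : Q ≠ ⊥) (hLg : Cfsg.IsLarge Q) (S : Sylow p H) (hQS : Q ≤ (S : Subgroup H)) (L : Subgroup H) (hSL : (S : Subgroup H) ≤ L) (hL : L ∈ Cfsg.charPSubgroups p H) : ∃ M Ls : Subgroup H, (S : Subgroup H) ≤ M ∧ Cfsg.IsInFrakM p M ∧ (S : Subgroup H) ≤ Ls ∧ Ls ≤ M ∧ Ls ∈ Cfsg.charPSubgroups p H ∧ L ⊔ Subgroup.centralizer (((Cfsg.largestPReducedOf p L) : Subgroup H) : Set H) = Ls ⊔ Subgroup.centralizer (((Cfsg.largestPReducedOf p L) : Subgroup H) : Set H) ∧ Cfsg.weakClosure Q L = Cfsg.weakClosure Q Ls ∧ Cfsg.weakClosure Q Ls ≤ Cfsg.weakClosure Q M ∧ (Cfsg.largestPReducedOf p L) = (Cfsg.largestPReducedOf p Ls) ∧ (Cfsg.largestPReducedOf p Ls) ≤ (Cfsg.largestPReducedOf p M) ∧ (¬ L ≤ Subgroup.normalizer ((Q : Subgroup H) : Set H) → ¬ Ls ≤ Subgroup.normalizer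 ((Q : Subgroup H) : Set H) ∧ ¬ M ≤ Subgroup.normalizer ((Q : Subgroup H) : Set H)) := by
  have hG := Cfsg.Agent.LEFrakM.parabolic_of_isLarge hQp hQ1 hLg
  obtain ⟨M, Ls, hSM, hM, hSLs, hLsM, hLsc, hY, hYM, hfac⟩ := Cfsg.Agent.LEFrakM.exists_frakM hG S hSL hL
  have hwc := Cfsg.Agent.LEWeakClosed.weaklyClosed_of_isLarge hQp hQ1 hLg
  set C := Subgroup.centralizer (Cfsg.largestPReducedOf p L : Set H) with hC
  have hCQ : C ≤ Subgroup.normalizer (Q : Set H) := by
    obtain ⟨z, hz, hzp⟩ := Cfsg.Agent.LEFrakM.exists_central_omega S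
      (Cfsg.Agent.LEFrakM.sylow_ne_bot S hSL hL)
    have hzQ : Subgroup.zpowers z ≤ Subgroup.centralizer (Q : Set H) :=
      (Subgroup.zpowers_le.2 (Subgroup.mem_inf.1 (Cfsg.Agent.LEKieler.oz_le _ hz)).2).trans (Subgroup.centralizer_le hQS)
    have hzY : Subgroup.zpowers z ≤ Cfsg.largestPReducedOf p L :=
      Subgroup.zpowers_le.2 (Cfsg.Agent.LEFrakM.oz_le_largest S hSL hL hz)
    exact (Subgroup.centralizer_le hzY).trans ((Subgroup.centralizer_le_normalizer _).trans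
      (hLg.2 _ hzQ (Cfsg.Agent.LESylow.zpowers_ne_bot hzp)))
  have hLC : L ≤ Subgroup.normalizer (C : Set H) :=
    (Cfsg.Agent.LEPReduced.largestOf_red L).1.trans (Cfsg.Agent.LELarge.normalizer_le_normalizer_centralizer _)
  have hLsC : Ls ≤ Subgroup.normalizer (C : Set H) := by
    rw [hC, hY]
    exact (Cfsg.Agent.LEPReduced.largestOf_red Ls).1.trans (Cfsg.Agent.LELarge.normalizer_le_normalizer_centralizer _)
  have key : ∀ A B : Subgroup H, Q ≤ A → Q ≤ B → B ≤ Subgroup.normalizer (C : Set H) → A ⊔ C = B ⊔ C →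
      Cfsg.weakClosure Q A ≤ Cfsg.weakClosure Q B := by
    intro A B hQA hQB hBC hAB
    rw [Cfsg.Agent.LEWeakClosed.weakClosure_eq_iSup hQp hwc hQA]
    refine iSup_le fun a => ?_
    obtain ⟨c, hc, b, hb, hcb⟩ := (Cfsg.Agent.SolvBasic.mem_sup_iff_of_le_normalizer hBC).1
      ((sup_comm B C).le (hAB.le (Subgroup.mem_sup_left a.2)))
    have hc' : b⁻¹ * c * b ∈ C := (Subgroup.mem_normalizer_iff''.1 (hBC hb) c).1 hc
    rw [show (a : H) = b * (b⁻¹ * c * b) from hcb.trans (by group),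
      ← Cfsg.Agent.LEBasic.map_conj_map_conj, Cfsg.Agent.LEBasic.map_conj_eq_iff_mem_normalizer.2 (hCQ hc')]
    exact Cfsg.Agent.LEWeakClosed.conj_le_weakClosure
      (Cfsg.Agent.LEWeakClosed.map_conj_le_of_le hQB hb)
  have hwLs : Cfsg.weakClosure Q L = Cfsg.weakClosure Q Ls :=
    le_antisymm (key L Ls (hQS.trans hSL) (hQS.trans hSLs) hLsC hfac)
      (key Ls L (hQS.trans hSLs) (hQS.trans hSL) hLC hfac.symm)
  refine ⟨M, Ls, hSM, hM, hSLs, hLsM, hLsc, hfac, hwLs, iSup_le fun x => ?_, hY, hY ▸ hYM, fun hne => ?_⟩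
  · exact Cfsg.Agent.LEWeakClosed.conj_le_weakClosure (x.2.trans hLsM)
  · have h1 : ¬ Ls ≤ Subgroup.normalizer ((Q : Subgroup H) : Set H) := fun h =>
      hne (le_sup_left.trans (hfac.le.trans (sup_le h hCQ)))
    exact ⟨h1, fun h => h1 (hLsM.trans h)⟩

end Cfsg.Agent.S2846

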