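import Cfsg.Statements.S2848
import Cfsg.Agent.Lib.LocalEven.FrakM

set_option autoImplicit false
open Cfsg

namespace Cfsg.Agent.S2848

/-- Standing hypotheses: G a finite group, S a Sylow p-subgroup, Q a nontrivial large p-subgroup of G contained in S (C_G(Q) ≤ Q and N_G(U) ≤ N_G(Q) for all nontrivial U ≤ C_G(Q)), and M a subgroup containing S with the basic property (M ∈ 𝔐_G(S)); Y_M denotes the largest p-reduced normal subgroup of M and M† = M·C_G(Y_M). Then O_p(M) is a weakly closed subgroup of M† (for p): it is the only M†-conjugate of itself inside some Sylow p-subgroup of M† containing it. -/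
theorem result {G : Type*} [Group G] [Finite G] {p : ℕ} [Fact p.Prime] (S : Sylow p G) (Q : Subgroup G) (hQp : IsPGroup p ↥Q) (hQ1 : Q ≠ ⊥) (hQS : Q ≤ (S : Subgroup G)) (hQ : Cfsg.IsLarge Q) (M : Subgroup G) (hSM : (S : Subgroup G) ≤ M) (hM : Cfsg.IsInFrakM p M) : Cfsg.IsWeaklyClosedSubgroup p (((Cfsg.pCoreOf p M)).subgroupOf (M ⊔ Subgroup.centralizer (((Cfsg.largestPReducedOf p M) : Subgroup G) : Set G))) := by
  set D := M ⊔ Subgroup.centralizer (((Cfsg.largestPReducedOf p M) : Subgroup G) : Set G) with hD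
  have hSD : (S : Subgroup G) ≤ D := hSM.trans le_sup_left
  have hPS : Cfsg.Agent.CharP.opIn p M ≤ (S : Subgroup G) := Cfsg.Agent.LEPReduced.opIn_le_of_sylow S hSM
  refine ⟨S.subtype hSD, fun x hx => hPS hx, fun g hg => ?_⟩
  have e : ((Cfsg.pCoreOf p M).subgroupOf D).map (MulAut.conj g).toMonoidHom =
      ((Cfsg.pCoreOf p M).map (MulAut.conj (g : G)).toMonoidHom).subgroupOf D := by
    ext x
    rw [Cfsg.Agent.LEBasic.mem_map_conj, Subgroup.mem_subgroupOf, Subgroup.mem_subgroupOf,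
      Cfsg.Agent.LEBasic.mem_map_conj]
    simp
  rw [e] at hg ⊢
  congr 1
  refine Cfsg.Agent.LEFrakM.opIn_conj_eq S hSM hM g.2 ?_
  rintro _ ⟨x, hx, rfl⟩
  have hxD : x ∈ D := hSD (hPS hx)
  exact hg (show (⟨(g : G) * x * (g : G)⁻¹, mul_mem (mul_mem g.2 hxD) (inv_mem g.2)⟩ : ↥D) ∈ _ from ⟨x, hx, rfl⟩)

end Cfsg.Agent.S2848

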