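import Cfsg.Statements.S2849
import Cfsg.Agent.Lib.LocalEven.FrakM

set_option autoImplicit false
open Cfsg
open scoped commutatorElement

namespace Cfsg.Agent.S2849

/-- Standing hypotheses: G a finite group, S a Sylow p-subgroup, Q a nontrivial large p-subgroup of G contained in S (C_G(Q) ≤ Q and N_G(U) ≤ N_G(Q) for all nontrivial U ≤ C_G(Q)), and M a subgroup containing S with the basic property (M ∈ 𝔐_G(S)); Y_M denotes the largest p-reduced normal subgroup of M and M† = M·C_G(Y_M). Suppose Y_M is asymmetric in G. Then for every subgroup R with Y_M ≤ R ≤ M†, the normal closure of Y_M in N_G(R) is elementary abelian. -/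
theorem result {G : Type*} [Group G] [Finite G] {p : ℕ} [Fact p.Prime] (S : Sylow p G) (Q : Subgroup G) (hQp : IsPGroup p ↥Q) (hQ1 : Q ≠ ⊥) (hQS : Q ≤ (S : Subgroup G)) (hQ : Cfsg.IsLarge Q) (M : Subgroup G) (hSM : (S : Subgroup G) ≤ M) (hM : Cfsg.IsInFrakM p M) (hasym : ¬ Cfsg.IsSymmetricIn (Cfsg.largestPReducedOf p M)) (R : Subgroup G) (hYR : (Cfsg.largestPReducedOf p M) ≤ R) (hRM : R ≤ (M ⊔ Subgroup.centralizer (((Cfsg.largestPReducedOf p M) : Subgroup G) : Set G))) : Cfsg.IsElementaryAbelian p ((Subgroup.normalClosure ((((Cfsg.largestPReducedOf p M)).subgroupOf (Subgroup.normalizer ((R : Subgroup G) : Set G)) : Subgroup ↥(Subgroup.normalizer ((R : Subgroup G) : Set G))) : Set ↥(Subgroup.normalizer ((R : Subgroup G) : Set G)))).map (Subgroup.normalizer ((R : Subgroup G) : Set G)).subtype) := by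
  set Y := Cfsg.largestPReducedOf p M with hY
  set N := Subgroup.normalizer (R : Set G) with hN
  have hYe := (Cfsg.Agent.LEPReduced.largestOf_red (p := p) M).2.1
  have hRY : R ≤ Subgroup.normalizer (Y : Set G) := hRM.trans (Cfsg.Agent.LEFrakM.dag_le_normalizer M)
  have hconj : ∀ n ∈ N, Y.map (MulAut.conj n).toMonoidHom ≤ R ∧
      R ≤ Subgroup.normalizer ((Y.map (MulAut.conj n).toMonoidHom : Subgroup G) : Set G) := by
    intro n hn
    have e := Cfsg.Agent.LEBasic.map_conj_eq_iff_mem_normalizer.2 hn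
    exact ⟨(Cfsg.Agent.LEBasic.map_conj_mono n hYR).trans e.le,
      e.ge.trans ((Cfsg.Agent.LEBasic.map_conj_mono n hRY).trans (Subgroup.le_normalizer_map _))⟩
  have hcomm : ∀ n ∈ N, ∀ y ∈ Y, ∀ y' ∈ Y, y * (n * y' * n⁻¹) = (n * y' * n⁻¹) * y := by
    intro n hn y hy y' hy'
    obtain ⟨h1, h2⟩ := hconj n hn
    have h3 : ⁅Y, Y.map (MulAut.conj n).toMonoidHom⁆ ≤ Y ⊓ Y.map (MulAut.conj n).toMonoidHom :=
      le_inf (Subgroup.le_normalizer_iff_commutator_le_left.1 (h1.trans hRY))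
        (Subgroup.le_normalizer_iff_commutator_le_right.1 (hYR.trans h2))
    have h4 : ⁅Y, Y.map (MulAut.conj n).toMonoidHom⁆ = ⊥ := by
      by_contra h
      exact hasym ⟨n, h, h3⟩
    exact (Subgroup.mem_centralizer_iff.1 (Subgroup.commutator_eq_bot_iff_le_centralizer.1 h4 hy) _
      ⟨y', hy', rfl⟩).symm
  rw [Subgroup.normalClosure, MonoidHom.map_closure]
  have key : ∀ x ∈ N.subtype '' Group.conjugatesOfSet ((Y.subgroupOf N : Subgroup ↥N) : Set ↥N),
      ∃ n ∈ N, ∃ y ∈ Y, x = n * y * n⁻¹ := by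
    rintro _ ⟨x, hx, rfl⟩
    obtain ⟨a, ha, hax⟩ := Group.mem_conjugatesOfSet_iff.1 hx
    obtain ⟨c, rfl⟩ := isConj_iff.1 hax
    exact ⟨c, c.2, a, ha, by simp⟩
  refine Cfsg.Agent.LEPReduced.elem_closure ?_ ?_
  · intro x hx x' hx'
    obtain ⟨n, hn, y, hy, rfl⟩ := key x hx
    obtain ⟨n', hn', y', hy', rfl⟩ := key x' hx'
    have h := congrArg (fun z => n * z * n⁻¹) (hcomm (n⁻¹ * n') (mul_mem (inv_mem hn) hn') y hy y' hy')
    simpa [mul_assoc] using h
  · intro x hx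
    obtain ⟨n, hn, y, hy, rfl⟩ := key x hx
    rw [conj_pow, hYe.2 y hy, mul_one, mul_inv_cancel]

end Cfsg.Agent.S2849

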