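import Cfsg.Statements.S2859
import Cfsg.Agent.Lib.LocalEven.Large

set_option autoImplicit false
open Cfsg
open scoped commutatorElement

namespace Cfsg.Agent.S2859

/-- Let Q be a nontrivial p-subgroup of the finite group H that is a weakly closed subgroup, H° the weak closure of Q in H (generated by the conjugates of Q) and H_∘ = O^p(H°). Suppose H₁, H₂ are normal subgroups of H° with H° = H₁H₂ and [H₁, H₂] ≤ N_H(Q), and put Kᵢ = O^p of the weak closure of Q in HᵢQ. Then for i = 1, 2: Kᵢ = [Kᵢ, Q] = [Kᵢ, Hᵢ] ≤ Hᵢ′ and Kᵢ is normal in H°; H_∘ = K₁K₂; and [K₁, K₂] ≤ O_p(H°). -/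
theorem result {G : Type*} [Group G] [Finite G] {p : ℕ} [Fact p.Prime] (Q : Subgroup G) (hQp : IsPGroup p ↥Q) (hQ1 : Q ≠ ⊥) (hwc : Cfsg.IsWeaklyClosedSubgroup p Q) (Hc : Subgroup G) (hHc : Hc = Cfsg.weakClosure Q ⊤) (H₁ H₂ : Subgroup G) (hn₁ : H₁ ≤ Hc ∧ Hc ≤ Subgroup.normalizer ((H₁ : Subgroup G) : Set G)) (hn₂ : H₂ ≤ Hc ∧ Hc ≤ Subgroup.normalizer ((H₂ : Subgroup G) : Set G)) (hprod : H₁ ⊔ H₂ = Hc) (hcomm : ⁅H₁, H₂⁆ ≤ Subgroup.normalizer ((Q : Subgroup G) : Set G)) (K₁ K₂ : Subgroup G) (hK₁ : K₁ = ((Cfsg.pResidual p ↥(Cfsg.weakClosure Q (H₁ ⊔ Q))).map ((Cfsg.weakClosure Q (H₁ ⊔ Q))).subtype)) (hK₂ : K₂ = ((Cfsg.pResidual p ↥(Cfsg.weakClosure Q (H₂ ⊔ Q))).map ((Cfsg.weakClosure Q (H₂ ⊔ Q))).subtype)) : (⁅K₁, Q⁆ = K₁ ∧ ⁅K₁, H₁⁆ = K₁ ∧ K₁ ≤ ⁅H₁, H₁⁆ ∧ Hc ≤ Subgroup.normalizer ((K₁ : Subgroup G) : Set G)) ∧ (⁅K₂, Q⁆ = K₂ ∧ ⁅K₂, H₂⁆ = K₂ ∧ K₂ ≤ ⁅H₂, H₂⁆ ∧ Hc ≤ Subgroup.normalizer ((K₂ : Subgroup G) : Set G)) ∧ K₁ ⊔ K₂ = ((Cfsg.pResidual p ↥Hc).map (Hc).subtype) ∧ ⁅K₁, K₂⁆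 ≤ (Cfsg.pCoreOf p Hc) := by
  subst hHc
  set Hc := Cfsg.weakClosure Q (⊤ : Subgroup G) with hHc
  set R := CharP.opIn p Hc with hR
  have hQHc : Q ≤ Hc := LEWeakClosed.le_weakClosure le_top
  -- a subgroup containing Q and normalized by the weak closure contains it
  have wle : ∀ (L C : Subgroup G), Q ≤ L → Q ≤ C →
      Cfsg.weakClosure Q L ≤ Subgroup.normalizer (C : Set G) → Cfsg.weakClosure Q L ≤ C := by
    intro L C hQL hQC hn
    refine iSup_le fun x => ?_
    obtain ⟨k, hk, he⟩ := LEWeakClosed.exists_mem_conj_eq hQp hwc (LEWeakClosed.le_weakClosure hQL)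
      (LEWeakClosed.conj_le_weakClosure x.2)
    rw [he]
    exact (LEBasic.map_conj_mono k hQC).trans (LEBasic.map_conj_eq_iff_mem_normalizer.2 (hn hk)).le
  have hRn : Hc ≤ Subgroup.normalizer (R : Set G) := CharP.le_normalizer_opIn Hc
  have main : ∀ (A B : Subgroup G), A ≤ Hc → Hc ≤ Subgroup.normalizer (A : Set G) → B ≤ Hc →
      Hc ≤ Subgroup.normalizer (B : Set G) → A ⊔ B = Hc →
      ⁅A, B⁆ ≤ Subgroup.normalizer (Q : Set G) →
      ∀ K : Subgroup G, K = (Cfsg.pResidual p ↥(Cfsg.weakClosure Q (A ⊔ Q))).map (Cfsg.weakClosure Q (A ⊔ Q)).subtype →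
      (⁅K, Q⁆ = K ∧ ⁅K, A⁆ = K ∧ K ≤ ⁅A, A⁆ ∧ Hc ≤ Subgroup.normalizer (K : Set G)) ∧ ⁅K, B⁆ ≤ R ∧
        Cfsg.weakClosure Q (A ⊔ Q) = K ⊔ Q ∧ K ≤ A := by
    intro A B hA hAn hB hBn hAB hD K hK
    set D := ⁅A, B⁆ with hDdef
    set X := A ⊔ Q with hX
    set W := Cfsg.weakClosure Q X with hW
    have hQW : Q ≤ W := LEWeakClosed.le_weakClosure le_sup_right
    have hWX : W ≤ X := LEWeakClosed.weakClosure_le X
    have hXHc : X ≤ Hc := sup_le hA hQHc
    have hAW : A ≤ Subgroup.normalizer (W : Set G) :=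
      (le_sup_left.trans Subgroup.le_normalizer).trans (LEWeakClosed.le_normalizer_weakClosure X)
    have hDn : Hc ≤ Subgroup.normalizer (D : Set G) := fun g hg => by
      rw [← LEBasic.map_conj_eq_iff_mem_normalizer, hDdef, Subgroup.map_commutator,
        LEBasic.map_conj_eq_iff_mem_normalizer.2 (hAn hg), LEBasic.map_conj_eq_iff_mem_normalizer.2 (hBn hg)]
    have hDA : D ≤ A := Subgroup.le_normalizer_iff_commutator_le_left.1 (hB.trans hAn)
    have hDR : ⁅D, Hc⁆ ≤ R := by
      have hQD : ⁅D, Q⁆ ≤ R := by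
        refine le_trans ?_ (CharP.le_opIn ((CharP.opIn_le D).trans (hDA.trans hA))
          (hDn.trans (CharP.normalizer_le_normalizer_opIn D)) (CharP.opIn_isPGroup D))
        refine le_trans (le_inf (Subgroup.le_normalizer_iff_commutator_le_left.1 (hQHc.trans hDn))
          (Subgroup.le_normalizer_iff_commutator_le_right.1 hD)) ?_
        exact CharP.le_opIn inf_le_left ((le_inf Subgroup.le_normalizer hD).trans (LELarge.inf_normalizer_le D Q))
          (hQp.to_le inf_le_right)
      rw [Subgroup.commutator_le]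
      intro d hd y hy
      rw [hHc, LEWeakClosed.weakClosure_eq_iSup hQp hwc le_top, Subgroup.iSup_eq_closure] at hy
      have hsub : (⋃ i : ↥(⊤ : Subgroup G), ((Q.map (MulAut.conj (i : G)).toMonoidHom : Subgroup G) : Set G)) ⊆ (Hc : Set G) := by
        intro z hz
        obtain ⟨i, hi⟩ := Set.mem_iUnion.1 hz
        exact LEWeakClosed.conj_le_weakClosure le_top hi
      induction hy using Subgroup.closure_induction with
      | mem x hx =>
        obtain ⟨i, hi⟩ := Set.mem_iUnion.1 hx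
        obtain ⟨k, hk, he⟩ := LEWeakClosed.exists_mem_conj_eq hQp hwc hQHc
          (LEWeakClosed.conj_le_weakClosure (Q := Q) (L := ⊤) (g := (i : G)) le_top)
        rw [he] at hi
        obtain ⟨q, hq, rfl⟩ := hi
        have h1 := hQD (Subgroup.commutator_mem_commutator
          ((Subgroup.mem_normalizer_iff''.1 (hDn hk) d).1 hd) hq)
        have e : ⁅d, (MulAut.conj k).toMonoidHom q⁆ = k * ⁅k⁻¹ * d * k, q⁆ * k⁻¹ := by
          simp [commutatorElement_def, mul_assoc]
        rw [e]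
        exact (Subgroup.mem_normalizer_iff.1 (hRn hk) _).1 h1
      | one => simp
      | mul a b ha _ iha ihb =>
        rw [commutatorElement_mul_right_eq_mul_conj, mul_assoc, mul_assoc]
        refine mul_mem iha ?_
        rw [← mul_assoc]
        exact (Subgroup.mem_normalizer_iff.1 (hRn ((Subgroup.closure_le _).2 hsub ha)) _).1 ihb
      | inv a ha iha =>
        rw [commutatorElement_inv_right, ← commutatorElement_inv d a]
        exact (Subgroup.mem_normalizer_iff''.1 (hRn ((Subgroup.closure_le _).2 hsub ha)) _).1 (inv_mem iha)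
    have hKle : ∀ C : Subgroup G, (∀ g ∈ W, (orderOf g).Coprime p → g ∈ C) → K ≤ C := by
      intro C hC
      rw [hK, Cfsg.pResidual, MonoidHom.map_closure, Subgroup.closure_le]
      rintro _ ⟨g, hg, rfl⟩
      exact hC g g.2 (by simpa using hg)
    have hKmem : ∀ g ∈ W, (orderOf g).Coprime p → g ∈ K := fun g hg hgc => by
      rw [hK]; exact ⟨⟨g, hg⟩, Subgroup.subset_closure (by simpa using hgc), rfl⟩
    have hKW : K ≤ W := hK.le.trans (Subgroup.map_subtype_le _)
    have hKA : K ≤ A := hKle A fun g hg hgc => LEWeakClosed.mem_of_sup_pGroup (hQHc.trans hAn) hQp (hWX hg) hgc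
    have hWK : Subgroup.normalizer (W : Set G) ≤ Subgroup.normalizer (K : Set G) := by
      rw [hK]
      exact LEBasic.le_normalizer_map_of_characteristic LEBasic.pResidual_characteristic
    have hAK : A ≤ Subgroup.normalizer (K : Set G) := hAW.trans hWK
    have hQK : Q ≤ Subgroup.normalizer (K : Set G) := (hQW.trans Subgroup.le_normalizer).trans hWK
    have conjQ : ∀ {C : Subgroup G} {k q : G}, ⁅k, q⁆ ∈ C → q ∈ Q → (MulAut.conj k).toMonoidHom q ∈ C ⊔ Q := by
      intro C k q hc hq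
      have e : (MulAut.conj k).toMonoidHom q = ⁅k, q⁆ * q := by simp [commutatorElement_def, mul_assoc]
      rw [e]
      exact mul_mem (Subgroup.mem_sup_left hc) (Subgroup.mem_sup_right hq)
    have hWeq : W = K ⊔ Q := by
      refine le_antisymm (wle X _ le_sup_right le_sup_right ?_) (sup_le hKW hQW)
      obtain ⟨S, hS⟩ := (hQp.comap_of_injective W.subtype W.subtype_injective).exists_le_sylow
      set S' := (S : Subgroup ↥W).map W.subtype with hS'
      have hQS : Q ≤ S' := fun q hq => ⟨⟨q, hQW hq⟩, hS hq, rfl⟩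
      have hWKS : K ⊔ S' = W := by
        rw [hK, hS', ← Subgroup.map_sup, LEBasic.pResidual_sup_sylow, ← MonoidHom.range_eq_map, Subgroup.range_subtype]
      have hSQ : S' ≤ Subgroup.normalizer (Q : Set G) := LEWeakClosed.le_normalizer_of_pGroup hwc (S.isPGroup'.map _) hQS
      rw [← hW]
      conv_lhs => rw [← hWKS]
      refine sup_le (fun k hk => ?_) (fun s hs => ?_)
      · rw [← LEBasic.map_conj_eq_iff_mem_normalizer]
        refine Subgroup.eq_of_le_of_card_ge ?_ (LEBasic.card_map_conj _ k).ge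
        rw [Subgroup.map_sup]
        refine sup_le ((LEBasic.map_conj_eq_iff_mem_normalizer.2 (Subgroup.le_normalizer hk)).le.trans le_sup_left) ?_
        rintro _ ⟨q, hq, rfl⟩
        exact conjQ (Subgroup.le_normalizer_iff_commutator_le_left.1 hQK (Subgroup.commutator_mem_commutator hk hq)) hq
      · rw [← LEBasic.map_conj_eq_iff_mem_normalizer, Subgroup.map_sup,
          LEBasic.map_conj_eq_iff_mem_normalizer.2 (hSQ hs),
          LEBasic.map_conj_eq_iff_mem_normalizer.2 (hWK (Subgroup.le_normalizer ((Subgroup.map_subtype_le _) hs)))]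
    have hcK : ⁅K, Q⁆ = K := by
      set C := ⁅K, Q⁆ with hC
      have hCK : C ≤ K := Subgroup.le_normalizer_iff_commutator_le_left.1 hQK
      have hCn : W ≤ Subgroup.normalizer ((C ⊔ Q : Subgroup G) : Set G) := by
        rw [hWeq]
        refine sup_le (fun k hk => ?_) (le_sup_right.trans Subgroup.le_normalizer)
        rw [← LEBasic.map_conj_eq_iff_mem_normalizer]
        refine Subgroup.eq_of_le_of_card_ge ?_ (LEBasic.card_map_conj _ k).ge
        rw [Subgroup.map_sup]
        refine sup_le ((LEBasic.map_conj_eq_iff_mem_normalizer.2 (Subgroup.normalizer_commutator_ge_left K Q hk)).le.trans le_sup_left) ?_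
        rintro _ ⟨q, hq, rfl⟩
        exact conjQ (Subgroup.commutator_mem_commutator hk hq) hq
      refine le_antisymm hCK (hKle C fun g hg hgc => ?_)
      exact LEWeakClosed.mem_of_sup_pGroup (Subgroup.normalizer_commutator_ge_right K Q) hQp
        (wle X _ le_sup_right le_sup_right hCn hg) hgc
    have hZ : ⁅K, A⁆ = K := by
      set Z := ⁅K, A⁆ with hZdef
      have hZK : Z ≤ K := Subgroup.le_normalizer_iff_commutator_le_left.1 hAK
      have hAZ : A ≤ Subgroup.normalizer (Z : Set G) := Subgroup.normalizer_commutator_ge_right K A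
      have hKZ : K ≤ Subgroup.normalizer (Z : Set G) := Subgroup.normalizer_commutator_ge_left K A
      have hQZ : Q ≤ Subgroup.normalizer (Z : Set G) := fun q hq => by
        rw [← LEBasic.map_conj_eq_iff_mem_normalizer, hZdef, Subgroup.map_commutator,
          LEBasic.map_conj_eq_iff_mem_normalizer.2 (hQK hq), LEBasic.map_conj_eq_iff_mem_normalizer.2 (hAn (hQHc hq))]
      have h1 : K ≤ Z ⊔ D ⊓ K := by
        conv_lhs => rw [← hcK]
        rw [Subgroup.commutator_le]
        intro k hk q hq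
        have hq' := hQHc hq
        rw [← hAB] at hq'
        obtain ⟨a, ha, b, hb, rfl⟩ := (SolvBasic.mem_sup_iff_of_le_normalizer (hB.trans hAn)).1 hq'
        have hK' : ⁅k, a * b⁆ ∈ K := Subgroup.le_normalizer_iff_commutator_le_left.1 hQK
          (Subgroup.commutator_mem_commutator hk hq)
        have hza : ⁅k, a⁆ ∈ Z := Subgroup.commutator_mem_commutator hk ha
        rw [commutatorElement_mul_right_eq_mul_conj, mul_assoc, mul_assoc] at hK' ⊢
        refine mul_mem (Subgroup.mem_sup_left hza) (Subgroup.mem_sup_right (Subgroup.mem_inf.2 ⟨?_, ?_⟩))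
        · rw [← mul_assoc]
          exact (Subgroup.mem_normalizer_iff.1 (hDn (hA ha)) _).1 (Subgroup.commutator_mem_commutator (hKA hk) hb)
        · exact (Subgroup.mul_mem_cancel_left K (hZK hza)).1 hK'
      have h2 : K ≤ Z ⊔ R ⊓ K := by
        conv_lhs => rw [← hcK]
        rw [Subgroup.commutator_le]
        intro k hk q hq
        obtain ⟨z, hz, d, hd, rfl⟩ := (SolvBasic.mem_sup_iff_of_le_normalizer (inf_le_right.trans hKZ)).1 (h1 hk)
        obtain ⟨hdD, hdK⟩ := Subgroup.mem_inf.1 hd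
        rw [commutatorElement_mul_left_eq_conj_mul]
        refine mul_mem (mul_mem (mul_mem (Subgroup.mem_sup_left hz) (Subgroup.mem_sup_right
          (Subgroup.mem_inf.2 ⟨hDR (Subgroup.commutator_mem_commutator hdD (hQHc hq)),
            Subgroup.le_normalizer_iff_commutator_le_left.1 hQK (Subgroup.commutator_mem_commutator hdK hq)⟩)))
          (inv_mem (Subgroup.mem_sup_left hz))) (Subgroup.mem_sup_left ?_)
        exact Subgroup.le_normalizer_iff_commutator_le_left.1 hQZ (Subgroup.commutator_mem_commutator hz hq)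
      refine le_antisymm hZK (hKle Z fun g hg hgc => ?_)
      exact LEWeakClosed.mem_of_sup_pGroup (inf_le_right.trans hKZ)
        ((CharP.opIn_isPGroup Hc).to_le inf_le_left) (h2 (hKmem g hg hgc)) hgc
    have hKA' : K ≤ ⁅A, A⁆ := hZ.ge.trans (Subgroup.commutator_mono hKA le_rfl)
    haveI : (R.subgroupOf Hc).Normal :=
      (Subgroup.normal_subgroupOf_iff_le_normalizer (CharP.opIn_le Hc)).2 hRn
    let π := QuotientGroup.mk' (R.subgroupOf Hc)
    have hcentral : ∀ (d : ↥Hc), (d : G) ∈ D → ∀ y : ↥Hc, π d * π y = π y * π d := by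
      intro d hd y
      rw [← commutatorElement_eq_one_iff_mul_comm, ← map_commutatorElement]
      refine (QuotientGroup.eq_one_iff _).2 ?_
      exact hDR (Subgroup.commutator_mem_commutator hd y.2)
    have hKB : ⁅K, B⁆ ≤ R := by
      refine (Subgroup.commutator_mono hKA' le_rfl).trans ?_
      rw [Subgroup.commutator_le]
      intro x hx h hh
      induction hx using Subgroup.closure_induction with
      | mem x hx =>
        obtain ⟨a, ha, b, hb, rfl⟩ := hx
        set a' : ↥Hc := ⟨a, hA ha⟩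
        set b' : ↥Hc := ⟨b, hA hb⟩
        set h' : ↥Hc := ⟨h, hB hh⟩
        suffices hs : π ⁅⁅a', b'⁆, h'⁆ = 1 from
          (show ⁅⁅a', b'⁆, h'⁆ ∈ R.subgroupOf Hc from (QuotientGroup.eq_one_iff _).1 hs)
        have hza : (⁅h', a'⁆ : ↥Hc).1 ∈ D := by
          rw [hDdef, Subgroup.commutator_comm]
          exact Subgroup.commutator_mem_commutator hh ha
        have hzb : (⁅h', b'⁆ : ↥Hc).1 ∈ D := by
          rw [hDdef, Subgroup.commutator_comm]
          exact Subgroup.commutator_mem_commutator hh hb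
        have hca := hcentral _ hza
        have hcb := hcentral _ hzb
        rw [map_commutatorElement, commutatorElement_eq_one_iff_mul_comm, map_commutatorElement]
        have ea : π h' * π a' * (π h')⁻¹ = π ⁅h', a'⁆ * π a' := by
          simp [commutatorElement_def, mul_assoc]
        have eb : π h' * π b' * (π h')⁻¹ = π ⁅h', b'⁆ * π b' := by
          simp [commutatorElement_def, mul_assoc]
        have hca' : ∀ y : ↥Hc, Commute (π ⁅h', a'⁆) (π y) := hca
        have hcb' : ∀ y : ↥Hc, Commute (π ⁅h', b'⁆) (π y) := hcb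
        generalize π ⁅h', a'⁆ = za at ea hca'
        generalize π ⁅h', b'⁆ = zb at eb hcb'
        have e : π h' * ⁅π a', π b'⁆ * (π h')⁻¹ = ⁅π a', π b'⁆ := by
          calc π h' * ⁅π a', π b'⁆ * (π h')⁻¹
              = ⁅π h' * π a' * (π h')⁻¹, π h' * π b' * (π h')⁻¹⁆ := by simp [commutatorElement_def, mul_assoc]
            _ = za * (π a' * zb) * π b' * (π a')⁻¹ * za⁻¹ * (π b')⁻¹ * zb⁻¹ := by
                rw [ea, eb]; simp [commutatorElement_def, mul_assoc]
            _ = za * (zb * π a') * π b' * (π a')⁻¹ * za⁻¹ * (π b')⁻¹ * zb⁻¹ := by rw [(hcb' a').eq]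
            _ = za * (zb * (π a' * π b' * (π a')⁻¹)) * za⁻¹ * (π b')⁻¹ * zb⁻¹ := by simp [mul_assoc]
            _ = za * zb * (π a' * π b' * (π a')⁻¹) * za⁻¹ * (π b')⁻¹ * zb⁻¹ := by simp [mul_assoc]
            _ = ⁅π a', π b'⁆ := by
                have k1 : Commute (za * zb) (π a' * π b' * (π a')⁻¹) :=
                  Commute.mul_left (((hca' a').mul_right (hca' b')).mul_right (hca' a').inv_right)
                    (((hcb' a').mul_right (hcb' b')).mul_right (hcb' a').inv_right)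
                have k2 : Commute (za * zb) (π b')⁻¹ := Commute.mul_left (hca' b').inv_right (hcb' b').inv_right
                have k3 : Commute zb za⁻¹ := by
                  have h1 : za = π h' * π a' * (π h')⁻¹ * (π a')⁻¹ := by rw [ea]; group
                  rw [h1]
                  exact ((((hcb' h').mul_right (hcb' a')).mul_right (hcb' h').inv_right).mul_right
                    (hcb' a').inv_right).inv_right
                rw [k1.eq]
                calc π a' * π b' * (π a')⁻¹ * (za * zb) * za⁻¹ * (π b')⁻¹ * zb⁻¹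
                    = π a' * π b' * (π a')⁻¹ * za * (zb * za⁻¹) * (π b')⁻¹ * zb⁻¹ := by group
                  _ = π a' * π b' * (π a')⁻¹ * za * (za⁻¹ * zb) * (π b')⁻¹ * zb⁻¹ := by rw [k3.eq]
                  _ = π a' * π b' * (π a')⁻¹ * (zb * (π b')⁻¹) * zb⁻¹ := by group
                  _ = π a' * π b' * (π a')⁻¹ * ((π b')⁻¹ * zb) * zb⁻¹ := by rw [(hcb' b').inv_right.eq]
                  _ = ⁅π a', π b'⁆ := by simp [commutatorElement_def, mul_assoc]
        conv_lhs => rw [← e]
        group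
      | one => simp
      | mul a b ha _ iha ihb =>
        rw [commutatorElement_mul_left_eq_conj_mul]
        exact mul_mem ((Subgroup.mem_normalizer_iff.1 (hRn (hA ((Subgroup.commutator_le_self A) ha))) _).1 ihb) iha
      | inv a ha iha =>
        rw [commutatorElement_inv_left, ← commutatorElement_inv a h]
        exact (Subgroup.mem_normalizer_iff''.1 (hRn (hA ((Subgroup.commutator_le_self A) ha))) _).1 (inv_mem iha)
    refine ⟨⟨hcK, hZ, hKA', ?_⟩, hKB, hWeq, hKA⟩
    rw [← hAB]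
    refine sup_le hAK fun h hh => ?_
    rw [← LEBasic.map_conj_eq_iff_mem_normalizer]
    refine Subgroup.eq_of_le_of_card_ge ?_ (LEBasic.card_map_conj _ h).ge
    have hgens : K ≤ (K.comap (MulAut.conj h).toMonoidHom) := by
      refine hKle _ fun g hg hgc => ?_
      rw [Subgroup.mem_comap]
      have hgK := hKmem g hg hgc
      refine LEWeakClosed.mem_of_sup_pGroup (Y := R ⊓ A) (inf_le_right.trans hAK)
        ((CharP.opIn_isPGroup Hc).to_le inf_le_left) ?_
        (by rw [MulEquiv.coe_toMonoidHom, MulEquiv.orderOf_eq]; exact hgc)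
      have e : (MulAut.conj h).toMonoidHom g = ⁅g, h⁆⁻¹ * g := by simp [commutatorElement_def, mul_assoc]
      rw [e]
      refine mul_mem (Subgroup.mem_sup_right (inv_mem (Subgroup.mem_inf.2
        ⟨hKB (Subgroup.commutator_mem_commutator hgK hh), ?_⟩))) (Subgroup.mem_sup_left hgK)
      exact Subgroup.le_normalizer_iff_commutator_le_left.1 (hB.trans hAn)
        (Subgroup.commutator_mem_commutator (hKA hgK) hh)
    exact Subgroup.map_le_iff_le_comap.2 hgens
  obtain ⟨⟨a1, a2, a3, a4⟩, a5, a6, -⟩ := main H₁ H₂ hn₁.1 hn₁.2 hn₂.1 hn₂.2 hprod hcomm K₁ hK₁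
  obtain ⟨⟨b1, b2, b3, b4⟩, -, b6, b7⟩ := main H₂ H₁ hn₂.1 hn₂.2 hn₁.1 hn₁.2
    (by rw [sup_comm]; exact hprod) (by rw [Subgroup.commutator_comm]; exact hcomm) K₂ hK₂
  refine ⟨⟨a1, a2, a3, a4⟩, ⟨b1, b2, b3, b4⟩, le_antisymm (sup_le ?_ ?_) ?_,
    (Subgroup.commutator_mono le_rfl b7).trans a5⟩
  · rw [hK₁, Cfsg.pResidual, MonoidHom.map_closure, Subgroup.closure_le]
    rintro _ ⟨g, hg, rfl⟩
    exact ⟨⟨g, ((LEWeakClosed.weakClosure_le _).trans (sup_le hn₁.1 hQHc)) g.2⟩,
      Subgroup.subset_closure (by simpa using hg), rfl⟩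
  · rw [hK₂, Cfsg.pResidual, MonoidHom.map_closure, Subgroup.closure_le]
    rintro _ ⟨g, hg, rfl⟩
    exact ⟨⟨g, ((LEWeakClosed.weakClosure_le _).trans (sup_le hn₂.1 hQHc)) g.2⟩,
      Subgroup.subset_closure (by simpa using hg), rfl⟩
  · set K := K₁ ⊔ K₂ with hKdef
    have hKn : Hc ≤ Subgroup.normalizer (K : Set G) := fun g hg => by
      rw [← LEBasic.map_conj_eq_iff_mem_normalizer, hKdef, Subgroup.map_sup,
        LEBasic.map_conj_eq_iff_mem_normalizer.2 (a4 hg), LEBasic.map_conj_eq_iff_mem_normalizer.2 (b4 hg)]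
    have hY : ∀ A : Subgroup G, A ≤ Hc → ∀ Ki : Subgroup G, Ki ≤ K → Cfsg.weakClosure Q (A ⊔ Q) = Ki ⊔ Q →
        A ≤ Subgroup.normalizer ((K ⊔ Q : Subgroup G) : Set G) := by
      intro A hA Ki hKi hWeq a ha
      rw [← LEBasic.map_conj_eq_iff_mem_normalizer]
      refine Subgroup.eq_of_le_of_card_ge ?_ (LEBasic.card_map_conj _ a).ge
      rw [Subgroup.map_sup]
      refine sup_le ((LEBasic.map_conj_eq_iff_mem_normalizer.2 (hKn (hA ha))).le.trans le_sup_left) ?_
      refine le_trans ?_ (sup_le_sup_right hKi Q)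
      rw [← hWeq]
      exact LEWeakClosed.conj_le_weakClosure (LEWeakClosed.map_conj_le_of_le le_sup_right (Subgroup.mem_sup_left ha))
    have hall : Hc ≤ K ⊔ Q := by
      refine wle ⊤ _ le_top le_sup_right ?_
      rw [← hHc, ← hprod]
      exact sup_le (hY H₁ hn₁.1 K₁ le_sup_left a6) (hY H₂ hn₂.1 K₂ le_sup_right b6)
    rw [Cfsg.pResidual, MonoidHom.map_closure, Subgroup.closure_le]
    rintro _ ⟨g, hg, rfl⟩
    exact LEWeakClosed.mem_of_sup_pGroup (hQHc.trans hKn) hQp (hall g.2) (by simpa using hg)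

end Cfsg.Agent.S2859

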