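import Cfsg.Statements.S2860
import Cfsg.Agent.Lib.LocalEven.LargeQS

set_option autoImplicit false
open Cfsg

namespace Cfsg.Agent.S2860

/-- Let Q be a nontrivial large p-subgroup of the finite group H, U a nontrivial elementary abelian p-subgroup of H, and Q ≤ E ≤ N_H(U) with Q not normal in E. Suppose O_p(E/C_E(U)) = 1 and O^p(E)·C_E(U)/C_E(U) is quasisimple. Let E° be the weak closure of Q in E (generated by the conjugates of Q inside E) and E_∘ = O^p(E°). Then O^p(E)·C_E(U) = E_∘·C_E(U); E_∘ is perfect and equals O^p(E_∘); E_∘/C_{E_∘}(U) and E_∘/O_p(E_∘) are quasisimple; and E_∘ = [E_∘, Y] for every p-subgroup Y of E not centralizing U. -/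
theorem result {G : Type*} [Group G] [Finite G] {p : ℕ} [Fact p.Prime] (Q : Subgroup G) (hQp : IsPGroup p ↥Q) (hQ1 : Q ≠ ⊥) (hQ : Cfsg.IsLarge Q) (U : Subgroup G) (hU : Cfsg.IsElementaryAbelian p U) (hU1 : U ≠ ⊥) (E : Subgroup G) (hQE : Q ≤ E) (hEU : E ≤ Subgroup.normalizer ((U : Subgroup G) : Set G)) (hQn : ¬ E ≤ Subgroup.normalizer ((Q : Subgroup G) : Set G)) [hn : ((Subgroup.centralizer ((U : Subgroup G) : Set G)).subgroupOf E).Normal] (hred : Cfsg.pCore p (↥E ⧸ (Subgroup.centralizer ((U : Subgroup G) : Set G)).subgroupOf E) = ⊥) (hqs : Cfsg.IsQuasisimple ↥(((Cfsg.pResidual p ↥E) ⊔ (Subgroup.centralizer ((U : Subgroup G) : Set G)).subgroupOf E).map (QuotientGroup.mk' ((Subgroup.centralizer ((U : Subgroup G) : Set G)).subgroupOf E)))) (Er : Subgroup G) (hEr : Er = ((Cfsg.pResidual p ↥(Cfsg.weakClosure Q E)).map ((Cfsg.weakClosure Q E)).subtype)) [hn2 : ((Subgroup.centralizer ((U : Subgroup G) : Set G)).subgroupOf Er).Normal]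 : ((Cfsg.pResidual p ↥E).map (E).subtype) ⊔ (E ⊓ Subgroup.centralizer ((U : Subgroup G) : Set G)) = Er ⊔ (E ⊓ Subgroup.centralizer ((U : Subgroup G) : Set G)) ∧ ⁅Er, Er⁆ = Er ∧ ((Cfsg.pResidual p ↥Er).map (Er).subtype) = Er ∧ Cfsg.IsQuasisimple (↥Er ⧸ (Subgroup.centralizer ((U : Subgroup G) : Set G)).subgroupOf Er) ∧ Cfsg.IsQuasisimple (↥Er ⧸ Cfsg.pCore p ↥Er) ∧ ∀ Y : Subgroup G, Y ≤ E → IsPGroup p ↥Y → ¬ Y ≤ Subgroup.centralizer ((U : Subgroup G) : Set G) → ⁅Er, Y⁆ = Er := by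
  set C := Subgroup.centralizer ((U : Subgroup G) : Set G) with hC
  set W := Cfsg.weakClosure Q E with hW
  set W₀ := W.subgroupOf E with hW₀
  set C₀ := C.subgroupOf E with hC₀
  obtain ⟨hWn, hgen, hWC, hW1⟩ := Cfsg.Agent.LELargeQS.transfer hQp hQ1 hQ (fun u => ⟨1, Subtype.ext (by rw [pow_one]; exact hU.2 u u.2)⟩) hU1 hQE hEU hQn
  haveI := hWn
  set π := QuotientGroup.mk' C₀ with hπ
  haveI : (Cfsg.pResidual p ↥E).Normal := Cfsg.Agent.LEBasic.pResidual_normal
  have hKeq : ((Cfsg.pResidual p ↥E) ⊔ C₀).map π = Cfsg.pResidual p (↥E ⧸ C₀) := by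
    rw [Subgroup.map_sup, QuotientGroup.map_mk'_self, sup_bot_eq,
      Cfsg.Agent.PBasic.map_pResidual_eq π (QuotientGroup.mk'_surjective C₀)]
  have hqs' : Cfsg.IsQuasisimple ↥(Cfsg.pResidual p (↥E ⧸ C₀)) :=
    (Cfsg.Agent.Components.quasisimple_congr (MulEquiv.subgroupCongr hKeq)).1 hqs
  set R := Cfsg.Agent.LEJoin.res p W₀ with hR
  have himg : R.map π = Cfsg.pResidual p (↥E ⧸ C₀) :=
    Cfsg.Agent.LELargeQS.image_res C₀ W₀ hred hqs' hgen hW1
  have hWE : W ≤ E := Cfsg.Agent.LEWeakClosed.weakClosure_le E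
  have hRE : R.map E.subtype = Er := by
    rw [hEr, Cfsg.Agent.LEJoin.map_res, hW₀, Subgroup.map_subgroupOf_eq_of_le hWE]
    refine le_antisymm ((Subgroup.closure_le _).2 fun x hx => ?_)
      (Cfsg.Agent.LEPReduced.pResidual_map_le fun x hx hxc => Cfsg.Agent.LEJoin.mem_res hx hxc)
    exact Cfsg.Agent.LEPReduced.mem_pResidual_map hx.1 hx.2
  have hperf := Cfsg.Agent.LELargeQS.res_commutator C₀ W₀ hred hqs' hgen hWC hW1
  let e : ↥R ≃* ↥Er := (R.equivMapOfInjective E.subtype E.subtype_injective).trans (MulEquiv.subgroupCongr hRE)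
  refine ⟨?_, ?_, ?_, ?_, ?_, ?_⟩
  · have h1 : Cfsg.pResidual p ↥E ⊔ C₀ = R ⊔ C₀ := by
      have h2 := congrArg (Subgroup.comap π) (hKeq.trans himg.symm)
      rw [Subgroup.comap_map_eq, Subgroup.comap_map_eq, hπ, QuotientGroup.ker_mk', sup_assoc, sup_idem] at h2
      exact h2
    have h3 := congrArg (Subgroup.map E.subtype) h1
    rwa [Subgroup.map_sup, Subgroup.map_sup, hRE, hC₀, Subgroup.subgroupOf_map_subtype, inf_comm] at h3
  · rw [← hRE, ← Subgroup.map_commutator, hperf]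
  · refine le_antisymm (Subgroup.map_subtype_le _) ?_
    rw [← hRE]
    rintro _ ⟨x, hx, rfl⟩
    have h1 : R ≤ Cfsg.Agent.LEJoin.res p R :=
      (Subgroup.closure_le _).2 fun y hy =>
        Cfsg.Agent.LEJoin.mem_res (Cfsg.Agent.LEJoin.mem_res hy.1 hy.2) hy.2
    have h2 := Subgroup.mem_map_of_mem E.subtype (h1 hx)
    rw [Cfsg.Agent.LEJoin.map_res] at h2
    exact (show Cfsg.Agent.LEJoin.res p (R.map E.subtype) ≤ _ from
      (Subgroup.closure_le _).2 fun y hy => Cfsg.Agent.LEPReduced.mem_pResidual_map hy.1 hy.2) h2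
  · have hErE : Er ≤ E := hRE ▸ Subgroup.map_subtype_le _
    let f : ↥Er →* ↥E ⧸ C₀ := π.comp (Subgroup.inclusion hErE)
    have hrange : f.range = Cfsg.pResidual p (↥E ⧸ C₀) := by
      rw [MonoidHom.range_comp, ← himg]
      congr 1
      ext x
      constructor
      · rintro ⟨y, rfl⟩
        obtain ⟨z, hz, hzy⟩ := (hRE.ge y.2 : (y : G) ∈ R.map E.subtype)
        rwa [show Subgroup.inclusion hErE y = z from E.subtype_injective hzy.symm]
      · intro hx
        exact ⟨⟨x, hRE.le ⟨x, hx, rfl⟩⟩, rfl⟩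
    have hker : f.ker = C.subgroupOf Er := by
      ext x
      rw [MonoidHom.mem_ker]
      exact (QuotientGroup.eq_one_iff (Subgroup.inclusion hErE x))
    exact (Cfsg.Agent.Components.quasisimple_congr
      ((QuotientGroup.quotientMulEquivOfEq hker.symm).trans
        ((QuotientGroup.quotientKerEquivRange f).trans (MulEquiv.subgroupCongr hrange)))).2 hqs'
  · haveI := Cfsg.pCore_normal p ↥R
    haveI := Cfsg.pCore_normal p ↥Er
    exact (Cfsg.Agent.Components.quasisimple_congr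
      (QuotientGroup.congr (Cfsg.pCore p ↥R) (Cfsg.pCore p ↥Er) e (Cfsg.Agent.LEBasic.map_pCore_equiv e))).1
      (Cfsg.Agent.LELargeQS.quasisimple_quotient_pCore C₀ W₀ hred hqs' hgen hWC hW1)
  · intro Y hYE hYp hYC
    have h := congrArg (Subgroup.map E.subtype) (Cfsg.Agent.LELargeQS.commutator_eq C₀ W₀ hred hqs' hgen hWC hW1
      (Y := Y.subgroupOf E) (hYp.comap_of_injective E.subtype E.subtype_injective)
      (fun h => hYC fun y hy => h (show (⟨y, hYE hy⟩ : ↥E) ∈ Y.subgroupOf E from hy)))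
    rwa [Subgroup.map_commutator, hRE, Subgroup.map_subgroupOf_eq_of_le hYE] at h

end Cfsg.Agent.S2860

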