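import Cfsg.Statements.S2861
import Cfsg.Agent.Lib.LocalEven.FrakLBorel

set_option autoImplicit false
open Cfsg

namespace Cfsg.Agent.S2861

/-- Standing hypotheses: G a finite group, S a Sylow p-subgroup, Q a nontrivial large p-subgroup of G contained in S, M a subgroup containing S with the basic property (M ∈ 𝔐_G(S)); Y_M the largest p-reduced normal subgroup of M and M† = M·C_G(Y_M). Let L ∈ 𝔏_G(Y_M) (L ∈ 𝔏_G(Y_M): Y_M ≤ L; O_p(L) is the normal closure in L of Y_M ∩ O_p(L) and normalizes Y_M; L is Y_M-minimal of characteristic p with N_L(Y_M) its unique maximal subgroup over Y_M; and L/O_p(L) ≅ SL₂(q) with q = |Y_M : Y_M ∩ O_p(L)|, or p = 2 and L/O_p(L) is a Suzuki group Sz(q) or dihedral of order 2r, r an odd prime) and A = O_p(L). Then Y_M·A/A is the unique nontrivial elementary abelian normal p-subgroup of N_L(Y_M)/A. -/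
theorem result {G : Type*} [Group G] [Finite G] {p : ℕ} [Fact p.Prime] (S : Sylow p G) (Q : Subgroup G) (hQp : IsPGroup p ↥Q) (hQ1 : Q ≠ ⊥) (hQS : Q ≤ (S : Subgroup G)) (hQ : Cfsg.IsLarge Q) (M : Subgroup G) (hSM : (S : Subgroup G) ≤ M) (hM : Cfsg.IsInFrakM p M) (L : Subgroup G) (hL : Cfsg.IsInFrakL p M L) (NL : Subgroup G) (hNL : NL = L ⊓ Subgroup.normalizer (((Cfsg.largestPReducedOf p M) : Subgroup G) : Set G)) [hn : (((Cfsg.pCoreOf p L)).subgroupOf NL).Normal] : let Ybar : Subgroup (↥NL ⧸ ((Cfsg.pCoreOf p L)).subgroupOf NL) := (((Cfsg.largestPReducedOf p M)).subgroupOf NL).map (QuotientGroup.mk' (((Cfsg.pCoreOf p L)).subgroupOf NL)); Ybar ≠ ⊥ ∧ Ybar.Normal ∧ Cfsg.IsElementaryAbelian p Ybar ∧ ∀ (V : Subgroup (↥NL ⧸ ((Cfsg.pCoreOf p L)).subgroupOf NL)), V.Normal → Cfsg.IsElementaryAbelian p V → V ≠ ⊥ → V = Ybar := by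
  obtain ⟨hYL, hnc, hAn, hmin, -, ⟨hlt, hmax⟩, hiso⟩ := hL
  obtain ⟨Ym, hYm⟩ : ∃ Ym, Ym = Cfsg.largestPReducedOf p M := ⟨_, rfl⟩
  have hel : Cfsg.IsElementaryAbelian p Ym := hYm ▸ (Cfsg.Agent.LEPReduced.largestOf_red (p := p) M).2.1
  have hYp : IsPGroup p ↥Ym := fun x => ⟨1, Subtype.ext (by simpa using hel.2 x.1 x.2)⟩
  rw [← hYm] at hYL hnc hAn hmin hlt hmax hiso
  have hA' : Cfsg.pCoreOf p L = (Cfsg.pCore p ↥L).map L.subtype := rfl
  have hUeq : ((Ym ⊓ Cfsg.pCoreOf p L).subgroupOf L : Subgroup ↥L) = Ym.subgroupOf L ⊓ Cfsg.pCore p ↥L := by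
    rw [hA', Subgroup.subgroupOf, Subgroup.comap_inf, Subgroup.comap_map_eq_self_of_injective L.subtype_injective]
    rfl
  have hnorm : ∀ x : ↥L, x ∈ Subgroup.normalizer (Ym.subgroupOf L : Set ↥L) ↔
      (x : G) ∈ Subgroup.normalizer (Ym : Set G) := by
    intro x
    rw [Subgroup.mem_normalizer_iff, Subgroup.mem_normalizer_iff]
    refine ⟨fun h z => ?_, fun h z => h z⟩
    by_cases hz : z ∈ L
    · exact h ⟨z, hz⟩
    · exact ⟨fun h' => absurd (hYL h') hz, fun h' => absurd (by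
        simpa [mul_assoc] using L.mul_mem (L.mul_mem (L.inv_mem x.2) (hYL h')) x.2) hz⟩
  have D : Cfsg.Agent.FrakLFix.Data p (Ym.subgroupOf L) :=
    { comm := fun a ha b hb => Subtype.ext (congrArg Subtype.val (hel.1.is_comm.comm ⟨(a : G), ha⟩ ⟨(b : G), hb⟩) :)
      expo := fun a ha => Subtype.ext ((Subgroup.coe_pow _ _ _).trans (hel.2 _ ha))
      pgrp := hYp.comap_of_injective L.subtype L.subtype_injective
      hA := by
        rw [← hUeq]
        exact Subgroup.map_injective L.subtype_injective hnc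
      hAY := fun a ha => (hnorm a).2 (hAn ⟨a, ha, rfl⟩)
      gen := hmin.1
      hmax := fun X hYX hX x hx => by
        refine (hnorm x).2 (Subgroup.mem_inf.1 (hmax (X.map L.subtype) ?_ ?_ ⟨x, hx, rfl⟩)).2
        · intro y hy; exact ⟨⟨y, hYL hy⟩, hYX hy, rfl⟩
        · refine lt_of_le_of_ne (Subgroup.map_subtype_le X) fun h => hX ?_
          refine Subgroup.map_injective L.subtype_injective (h.trans ?_)
          rw [← MonoidHom.range_eq_map, Subgroup.range_subtype]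
      hB := fun h => hlt.ne (inf_eq_left.2 fun x hx => (hnorm ⟨x, hx⟩).1 (h ▸ Subgroup.mem_top _)) }
  have hcard : (Ym ⊓ Cfsg.pCoreOf p L).relIndex Ym =
      Nat.card ↥((Ym.subgroupOf L).map (QuotientGroup.mk' (Cfsg.pCore p ↥L))) := by
    rw [← Subgroup.relIndex_subgroupOf hYL, hUeq, inf_comm, Subgroup.inf_relIndex_right, ← Subgroup.relIndex_ker,
      QuotientGroup.ker_mk']
  set Y₀ := Ym.subgroupOf L with hY₀
  set π := QuotientGroup.mk' (Cfsg.pCore p ↥L) with hπ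
  have honly : Cfsg.Agent.LEFrakLBorel.Only p (Y₀.map π) := by
    rcases hiso with ⟨F, _, _, hq, ⟨e⟩⟩ | ⟨hp2, F, _, _, m, hF, hq, ⟨e⟩⟩ | ⟨hp2, d, hd, hd2, ⟨e⟩⟩
    · exact Cfsg.Agent.LEFrakLBorel.only_of_sl2 D (hq.trans hcard) e
    · by_cases hm : 1 ≤ m
      · exact Cfsg.Agent.LEFrakLBorel.only_of_sz D hp2 hF hm (hq.trans hcard) e
      · refine Cfsg.Agent.LEFrakLBorel.only_of_two D hp2 ?_
        show Nat.card ↥(Y₀.map π) = 2
        rw [← hcard, ← hq, hF, show m = 0 by omega]; norm_num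
    · refine Cfsg.Agent.LEFrakLBorel.only_of_two D hp2 ?_
      show Nat.card ↥(Y₀.map π) = 2
      obtain ⟨n, hn⟩ := IsPGroup.iff_card.1 (D.pgrp.map π)
      have hne : Y₀.map π ≠ ⊥ := by
        rw [Ne, Subgroup.map_eq_bot_iff, QuotientGroup.ker_mk']
        exact D.not_le
      have hdvd := (Y₀.map π).card_subgroup_dvd_card
      rw [Nat.card_congr e.toEquiv, DihedralGroup.nat_card, hn, hp2] at hdvd
      have hn0 : n ≠ 0 := fun h0 => hne (Subgroup.eq_bot_of_card_eq _ (by rw [hn, h0, pow_zero]))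
      have hn2 : n < 2 := by
        by_contra hcon
        have h4 : 2 ^ 2 ∣ 2 * d := (pow_dvd_pow 2 (by omega : 2 ≤ n)).trans hdvd
        rw [pow_two] at h4
        have := Nat.dvd_of_mul_dvd_mul_left two_pos h4
        exact hd2 ((Nat.prime_dvd_prime_iff_eq Nat.prime_two hd).1 this).symm
      rw [hn, hp2, show n = 1 by omega, pow_one]
  -- the map to `L / O_p(L)`
  have hNLL : NL ≤ L := hNL ▸ inf_le_left
  have hYN : Ym ≤ NL := hNL ▸ le_inf hYL (hYm ▸ Subgroup.le_normalizer)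
  have hNLiff : ∀ x : ↥L, (x : G) ∈ NL ↔ x ∈ Subgroup.normalizer (Y₀ : Set ↥L) := fun x => by
    rw [hNL, ← hYm, hnorm, Subgroup.mem_inf, and_iff_right x.2]
  let f : ↥NL →* ↥L ⧸ Cfsg.pCore p ↥L := π.comp (Subgroup.inclusion hNLL)
  set A₀ := ((Cfsg.pCoreOf p L)).subgroupOf NL with hA₀
  have hker : A₀ ≤ f.ker := fun x hx => by
    obtain ⟨a, ha, hax⟩ := hx
    refine (QuotientGroup.eq_one_iff _).2 ?_
    rw [← show a = Subgroup.inclusion hNLL x from Subtype.ext hax]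
    exact ha
  let ψ : ↥NL ⧸ A₀ →* ↥L ⧸ Cfsg.pCore p ↥L := QuotientGroup.lift A₀ f hker
  have hψinj : Function.Injective ψ := by
    rw [injective_iff_map_eq_one]
    intro x
    induction x using QuotientGroup.induction_on with
    | H a =>
      intro h
      exact (QuotientGroup.eq_one_iff a).2 ⟨_, (QuotientGroup.eq_one_iff (Subgroup.inclusion hNLL a)).1 h, rfl⟩
  have hrange : ψ.range = Subgroup.normalizer ((Y₀.map π : Subgroup _) : Set (↥L ⧸ Cfsg.pCore p ↥L)) := by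
    refine le_antisymm ?_ fun z hz => ?_
    · rintro _ ⟨x, rfl⟩
      induction x using QuotientGroup.induction_on with
      | H a => exact Subgroup.le_normalizer_map π ⟨_, (hNLiff (Subgroup.inclusion hNLL a)).1 a.2, rfl⟩
    · obtain ⟨w, rfl⟩ := QuotientGroup.mk'_surjective _ z
      set K := (Subgroup.normalizer ((Y₀.map π : Subgroup _) : Set (↥L ⧸ Cfsg.pCore p ↥L))).comap π with hK
      have hKne : K ≠ ⊤ := by
        intro h
        have hn' : (Y₀.map π).Normal := by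
          rw [← Subgroup.normalizer_eq_top_iff, eq_top_iff]
          intro x _
          obtain ⟨v, rfl⟩ := QuotientGroup.mk'_surjective _ x
          exact (h.ge (Subgroup.mem_top v) : v ∈ K)
        haveI := hn'
        have h1 := Cfsg.Agent.LEBasic.le_pCore hn' (D.pgrp.map π)
        rw [Cfsg.Agent.LEBasic.pCore_quotient_pCore, le_bot_iff, Subgroup.map_eq_bot_iff, QuotientGroup.ker_mk'] at h1
        exact D.not_le h1
      have hYK : Y₀ ≤ K := fun y hy => Subgroup.le_normalizer (Subgroup.mem_map_of_mem π hy)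
      have hw : (w : G) ∈ NL := (hNLiff w).2 (D.hmax K hYK hKne hz)
      exact ⟨QuotientGroup.mk ⟨(w : G), hw⟩, rfl⟩
  intro Ybar
  have hYbar : Ybar.map ψ = Y₀.map π := by
    show ((((Cfsg.largestPReducedOf p M)).subgroupOf NL).map (QuotientGroup.mk' A₀)).map ψ = _
    rw [Subgroup.map_map, ← hYm]
    ext z
    constructor
    · rintro ⟨a, ha, rfl⟩
      exact ⟨Subgroup.inclusion hNLL a, ha, rfl⟩
    · rintro ⟨a, ha, rfl⟩
      exact ⟨⟨(a : G), hYN ha⟩, ha, rfl⟩
  have hnorm' : ∀ V : Subgroup (↥NL ⧸ A₀), V.Normal → ψ.range ≤ Subgroup.normalizer ((V.map ψ : Subgroup _) : Set (↥L ⧸ Cfsg.pCore p ↥L)) :=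
    fun V hV => by
      rw [MonoidHom.range_eq_map, ← Subgroup.normalizer_eq_top_iff.2 hV]
      exact Subgroup.le_normalizer_map ψ
  have hbarNormal : Ybar.Normal := by
    rw [← Subgroup.normalizer_eq_top_iff, eq_top_iff]
    intro x _
    rw [Subgroup.mem_normalizer_iff]
    intro v
    have h1 : ψ x ∈ Subgroup.normalizer ((Y₀.map π : Subgroup _) : Set (↥L ⧸ Cfsg.pCore p ↥L)) := hrange ▸ ⟨x, rfl⟩
    have h2 := Subgroup.mem_normalizer_iff.1 h1 (ψ v)
    rwa [← hYbar, ← map_inv, ← map_mul, ← map_mul, Subgroup.mem_map_iff_mem hψinj, Subgroup.mem_map_iff_mem hψinj] at h2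
  have hbarNe : Ybar ≠ ⊥ := fun h => by
    rw [h, Subgroup.map_bot] at hYbar
    have h1 := hYbar.symm
    rw [Subgroup.map_eq_bot_iff, QuotientGroup.ker_mk'] at h1
    exact D.not_le h1
  have hbarEl : Cfsg.IsElementaryAbelian p Ybar := by
    refine ⟨⟨⟨fun a b => ?_⟩⟩, fun a ha => ?_⟩
    · obtain ⟨_, u, hu, rfl⟩ := a
      obtain ⟨_, v, hv, rfl⟩ := b
      rw [← hYm] at hu hv
      have huv : u * v = v * u :=
        Subtype.ext (congrArg Subtype.val (hel.1.is_comm.comm ⟨(u : G), hu⟩ ⟨(v : G), hv⟩) :)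
      apply Subtype.ext
      show QuotientGroup.mk' A₀ u * QuotientGroup.mk' A₀ v = QuotientGroup.mk' A₀ v * QuotientGroup.mk' A₀ u
      rw [← map_mul, huv, map_mul]
    · obtain ⟨u, hu, rfl⟩ := ha
      rw [← hYm] at hu
      rw [← map_pow, show u ^ p = 1 from Subtype.ext ((Subgroup.coe_pow _ _ _).trans (hel.2 _ hu)), map_one]
  refine ⟨hbarNe, hbarNormal, hbarEl, fun V hV hVel hV1 => ?_⟩
  apply Subgroup.map_injective (f := ψ) hψinj
  rw [hYbar]
  refine honly (V.map ψ) ?_ ?_ ?_ ?_ ((Subgroup.map_eq_bot_iff_of_injective V hψinj).not.2 hV1)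
  · exact ((Subgroup.map_mono le_top).trans (MonoidHom.range_eq_map ψ).ge).trans hrange.le
  · exact hrange.ge.trans (hnorm' V hV)
  · exact IsPGroup.map (fun v => ⟨1, Subtype.ext (by rw [pow_one]; exact hVel.2 v v.2)⟩) ψ
  · rintro _ ⟨v, hv, rfl⟩; rw [← map_pow, hVel.2 v hv, map_one]

end Cfsg.Agent.S2861

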