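import Cfsg.Statements.S2863
import Cfsg.Agent.Lib.FrakLFix.Main
import Cfsg.Agent.Lib.LocalEven.PReduced

set_option autoImplicit false
open Cfsg

namespace Cfsg.Agent.S2863

/-- Standing hypotheses: G a finite group, S a Sylow p-subgroup, Q a nontrivial large p-subgroup of G contained in S, M a subgroup containing S with the basic property (M ∈ 𝔐_G(S)); Y_M the largest p-reduced normal subgroup of M and M† = M·C_G(Y_M). Let L ∈ 𝔏_G(Y_M) (L ∈ 𝔏_G(Y_M): Y_M ≤ L; O_p(L) is the normal closure in L of Y_M ∩ O_p(L) and normalizes Y_M; L is Y_M-minimal of characteristic p with N_L(Y_M) its unique maximal subgroup over Y_M; and L/O_p(L) ≅ SL₂(q) with q = |Y_M : Y_M ∩ O_p(L)|, or p = 2 and L/O_p(L) is a Suzuki group Sz(q) or dihedral of order 2r, r an odd prime), A = O_p(L), and C = C_{Y_M}(L). Then every element h of L whose order is not a power of p acts without nontrivial fixed points on A/C: for a ∈ A,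 hah⁻¹a⁻¹ ∈ C implies a ∈ C. -/
theorem result {G : Type*} [Group G] [Finite G] {p : ℕ} [Fact p.Prime] (S : Sylow p G) (Q : Subgroup G) (hQp : IsPGroup p ↥Q) (hQ1 : Q ≠ ⊥) (hQS : Q ≤ (S : Subgroup G)) (hQ : Cfsg.IsLarge Q) (M : Subgroup G) (hSM : (S : Subgroup G) ≤ M) (hM : Cfsg.IsInFrakM p M) (L : Subgroup G) (hL : Cfsg.IsInFrakL p M L) (h : G) (hh : h ∈ L) (hnp : ¬ ∃ k : ℕ, orderOf h = p ^ k) : ∀ a ∈ (Cfsg.pCoreOf p L), h * a * h⁻¹ * a⁻¹ ∈ (Cfsg.largestPReducedOf p M) ⊓ Subgroup.centralizer ((L : Subgroup G) : Set G) → a ∈ (Cfsg.largestPReducedOf p M) ⊓ Subgroup.centralizer ((L : Subgroup G) : Set G) := by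

  obtain ⟨hYL, hnc, hAn, hmin, -, ⟨hlt, hmax⟩, hiso⟩ := hL
  obtain ⟨Ym, hYm⟩ : ∃ Ym, Ym = Cfsg.largestPReducedOf p M := ⟨_, rfl⟩
  have hel : Cfsg.IsElementaryAbelian p Ym := hYm ▸ (Cfsg.Agent.LEPReduced.largestOf_red (p := p) M).2.1
  have hYp : IsPGroup p ↥Ym := fun x => ⟨1, Subtype.ext (by simpa using hel.2 x.1 x.2)⟩
  rw [← hYm] at hYL hnc hAn hmin hlt hmax hiso
  have hA' : Cfsg.pCoreOf p L = (Cfsg.pCore p ↥L).map L.subtype := rfl
  have hUeq : ((Ym ⊓ Cfsg.pCoreOf p L).subgroupOf L : Subgroup ↥L) = Ym.subgroupOf L ⊓ Cfsg.pCore p ↥L := by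
    rw [hA', Subgroup.subgroupOf, Subgroup.comap_inf, Subgroup.comap_map_eq_self_of_injective L.subtype_injective]
    rfl
  have hnorm : ∀ x : ↥L, x ∈ Subgroup.normalizer (Ym.subgroupOf L : Set ↥L) ↔
      (x : G) ∈ Subgroup.normalizer (Ym : Set G) := by
    intro x
    rw [Subgroup.mem_normalizer_iff, Subgroup.mem_normalizer_iff]
    refine ⟨fun h z => ?_, fun h z => h z⟩
    by_cases hz : z ∈ L
    · exact h ⟨z, hz⟩
    · exact ⟨fun h' => absurd (hYL h') hz, fun h' => absurd (by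
        simpa [mul_assoc] using L.mul_mem (L.mul_mem (L.inv_mem x.2) (hYL h')) x.2) hz⟩
  have D : Cfsg.Agent.FrakLFix.Data p (Ym.subgroupOf L) :=
    { comm := fun a ha b hb => Subtype.ext (congrArg Subtype.val (hel.1.is_comm.comm ⟨(a : G), ha⟩ ⟨(b : G), hb⟩) :)
      expo := fun a ha => Subtype.ext ((Subgroup.coe_pow _ _ _).trans (hel.2 _ ha))
      pgrp := hYp.comap_of_injective L.subtype L.subtype_injective
      hA := by
        rw [← hUeq]
        exact Subgroup.map_injective L.subtype_injective hnc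
      hAY := fun a ha => (hnorm a).2 (hAn ⟨a, ha, rfl⟩)
      gen := hmin.1
      hmax := fun X hYX hX x hx => by
        refine (hnorm x).2 (Subgroup.mem_inf.1 (hmax (X.map L.subtype) ?_ ?_ ⟨x, hx, rfl⟩)).2
        · intro y hy; exact ⟨⟨y, hYL hy⟩, hYX hy, rfl⟩
        · refine lt_of_le_of_ne (Subgroup.map_subtype_le X) fun h => hX ?_
          refine Subgroup.map_injective L.subtype_injective (h.trans ?_)
          rw [← MonoidHom.range_eq_map, Subgroup.range_subtype]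
      hB := fun h => hlt.ne (inf_eq_left.2 fun x hx => (hnorm ⟨x, hx⟩).1 (h ▸ Subgroup.mem_top _)) }
  have hcard : (Ym ⊓ Cfsg.pCoreOf p L).relIndex Ym =
      Nat.card ↥((Ym.subgroupOf L).map (QuotientGroup.mk' (Cfsg.pCore p ↥L))) := by
    rw [← Subgroup.relIndex_subgroupOf hYL, hUeq, inf_comm, Subgroup.inf_relIndex_right, ← Subgroup.relIndex_ker,
      QuotientGroup.ker_mk']
  intro a ha hc
  obtain ⟨a', ha', rfl⟩ := ha
  rw [← hYm] at hc ⊢
  have memC : ∀ c : ↥L, (c : G) ∈ Ym ⊓ Subgroup.centralizer (L : Set G) ↔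
      c ∈ Cfsg.Agent.FrakLFix.C (Ym.subgroupOf L) := by
    intro c
    rw [Cfsg.Agent.FrakLFix.C, Subgroup.mem_inf, Subgroup.mem_inf, Subgroup.mem_centralizer_iff, Subgroup.mem_center_iff]
    exact ⟨fun h => ⟨h.1, fun x => Subtype.ext (h.2 x x.2)⟩,
      fun h => ⟨h.1, fun x hx => congrArg Subtype.val (h.2 ⟨x, hx⟩)⟩⟩
  refine (memC a').2 ?_
  obtain ⟨h', hh'⟩ : ∃ h' : ↥L, (h' : G) = h := ⟨⟨h, hh⟩, rfl⟩
  have hc0 : h' * a' * h'⁻¹ * a'⁻¹ ∈ Cfsg.Agent.FrakLFix.C (Ym.subgroupOf L) :=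
    (memC _).1 (by simpa [hh'] using hc)
  -- pass to a power of prime order
  obtain ⟨r, hr, hrd, hrp⟩ : ∃ r, r.Prime ∧ r ∣ orderOf h' ∧ r ≠ p := by
    by_contra hno
    push Not at hno
    refine hnp ⟨(orderOf h).primeFactorsList.length,
      Nat.eq_prime_pow_of_unique_prime_dvd (orderOf_pos h).ne' fun {d} hd hdd => hno d hd ?_⟩
    rwa [← hh', Subgroup.orderOf_coe] at hdd
  obtain ⟨g, hgdef⟩ : ∃ g, g = h' ^ (orderOf h' / r) := ⟨_, rfl⟩
  have hgo : orderOf g = r := by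
    rw [hgdef, orderOf_pow_orderOf_div (orderOf_pos h').ne' hrd]
  have hcg : g * a' * g⁻¹ * a'⁻¹ ∈ Cfsg.Agent.FrakLFix.C (Ym.subgroupOf L) := by
    rw [hgdef]
    induction orderOf h' / r with
    | zero => simp
    | succ k ih =>
      have e : h' ^ (k + 1) * a' * (h' ^ (k + 1))⁻¹ * a'⁻¹ =
          h' * (h' ^ k * a' * (h' ^ k)⁻¹ * a'⁻¹) * h'⁻¹ * (h' * a' * h'⁻¹ * a'⁻¹) := by
        rw [pow_succ']; group
      rw [e, Cfsg.Agent.FrakLFix.C_central ih h', mul_inv_cancel_right]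
      exact mul_mem ih hc0
  have hgA : g ∉ Cfsg.pCore p ↥L := by
    intro h1
    obtain ⟨k, hk⟩ := Cfsg.Agent.LEBasic.pCore_isPGroup (p := p) (G := ↥L) ⟨g, h1⟩
    have h4 : r ∣ p ^ k := hgo ▸ orderOf_dvd_of_pow_eq_one (congrArg Subtype.val hk)
    exact hrp ((Nat.prime_dvd_prime_iff_eq hr Fact.out).1 (hr.dvd_of_dvd_pow h4))
  have hgr : g ^ r = 1 := hgo ▸ pow_orderOf_eq_one g
  have hodd : p = 2 → Odd r := fun h2 => hr.odd_of_ne_two (h2 ▸ hrp)
  rcases hiso with ⟨F, _, _, hq, ⟨e⟩⟩ | ⟨hp2, F, _, _, m, hF, hq, ⟨e⟩⟩ | ⟨hp2, d, hd, hd2, ⟨e⟩⟩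
  · exact D.sl2_case (hq.trans hcard) e hr hrp hgo ha' hcg
  · by_cases hm : 1 ≤ m
    · exact D.sz_case hp2 hF hm (hq.trans hcard) e (hodd hp2) hgr hgA ha' hcg
    · refine D.two_case hp2 ?_ (hodd hp2) hgr hgA ha' hcg
      rw [← hcard, ← hq, hF, show m = 0 by omega]; norm_num
  · refine D.two_case hp2 ?_ (hodd hp2) hgr hgA ha' hcg
    obtain ⟨P, hP⟩ : ∃ P, P = (Ym.subgroupOf L).map (QuotientGroup.mk' (Cfsg.pCore p ↥L)) := ⟨_, rfl⟩
    rw [← hP]
    obtain ⟨n, hn⟩ := IsPGroup.iff_card.1 (hP ▸ D.pgrp.map _ : IsPGroup p ↥P)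
    have hne : P ≠ ⊥ := by
      rw [hP, Ne, Subgroup.map_eq_bot_iff, QuotientGroup.ker_mk']
      exact D.not_le
    have hdvd := P.card_subgroup_dvd_card
    rw [Nat.card_congr e.toEquiv, DihedralGroup.nat_card, hn, hp2] at hdvd
    have hn0 : n ≠ 0 := fun h0 => hne (Subgroup.eq_bot_of_card_eq _ (by rw [hn, h0, pow_zero]))
    have hn2 : n < 2 := by
      by_contra hcon
      have h4 : 2 ^ 2 ∣ 2 * d := (pow_dvd_pow 2 (by omega : 2 ≤ n)).trans hdvd
      rw [pow_two] at h4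
      have := Nat.dvd_of_mul_dvd_mul_left two_pos h4
      exact hd2 ((Nat.prime_dvd_prime_iff_eq Nat.prime_two hd).1 this).symm
    rw [hn, hp2, show n = 1 by omega, pow_one]

end Cfsg.Agent.S2863
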