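import Cfsg.Statements.S2872
import Cfsg.Agent.Lib.ZStarApps.TransferParity
import Cfsg.Agent.Lib.Transfer.PGroup
import Cfsg.Agent.Lib.Transfer.Basic
import Cfsg.Agent.Lib.LocalEven.Basic

set_option autoImplicit false
open Cfsg

namespace Cfsg.Agent.S2872

/-- Let S be a Sylow 2-subgroup of the finite group G. Then G has a proper normal subgroup of 2-power index (O²(G) ≠ G), or Ω₁(Z(S)) is contained in the Frattini subgroup of S, or N_G(S) acts nontrivially on Ω₁(Z(S)) by conjugation. -/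
theorem result {G : Type*} [Group G] [Finite G] (S : Sylow 2 G) : Cfsg.pResidual 2 G ≠ ⊤ ∨ Cfsg.omegaOne 2 ((S : Subgroup G) ⊓ Subgroup.centralizer ((S : Subgroup G) : Set G)) ≤ (frattini ↥(S : Subgroup G)).map (S : Subgroup G).subtype ∨ ∃ g ∈ Subgroup.normalizer ((S : Subgroup G) : Set G), ∃ z ∈ Cfsg.omegaOne 2 ((S : Subgroup G) ⊓ Subgroup.centralizer ((S : Subgroup G) : Set G)), g * z * g⁻¹ ≠ z := by
  classical
  haveI : Fact (Nat.Prime 2) := ⟨Nat.prime_two⟩
  by_contra hall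
  push Not at hall
  obtain ⟨hres, hΩ, hN⟩ := hall
  set R := (S : Subgroup G) with hR
  obtain ⟨u, hu, huΦ⟩ : ∃ u : G, (u ∈ R ⊓ Subgroup.centralizer (R : Set G) ∧ u ^ 2 = 1) ∧
      u ∉ (frattini ↥R).map R.subtype := by
    by_contra hc
    push Not at hc
    exact hΩ ((Subgroup.closure_le _).2 fun x hx => hc x hx)
  obtain ⟨huRC, hu2⟩ := hu
  obtain ⟨huR, huC⟩ := Subgroup.mem_inf.1 huRC
  have huΩ : u ∈ Cfsg.omegaOne 2 (R ⊓ Subgroup.centralizer (R : Set G)) :=
    Subgroup.subset_closure ⟨huRC, hu2⟩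
  have hcom : ∀ r ∈ R, r * u = u * r := fun r hr => Subgroup.mem_centralizer_iff.1 huC r hr
  -- a maximal subgroup avoiding `u`
  obtain ⟨M, hM, huM⟩ : ∃ M : Subgroup ↥R, IsCoatom M ∧ (⟨u, huR⟩ : ↥R) ∉ M := by
    by_contra hc
    push Not at hc
    refine huΦ ⟨⟨u, huR⟩, ?_, rfl⟩
    rw [frattini, Order.radical, SetLike.mem_coe, Subgroup.mem_iInf]
    intro M
    rw [Subgroup.mem_iInf]
    exact hc M
  obtain ⟨hMn, hMi⟩ := PGroupBasics.index_of_isCoatom S.2 hM
  haveI := hMn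
  let A := ↥R ⧸ M
  have hA2 : Nat.card A = 2 := hMi
  haveI : IsCyclic A := isCyclic_of_prime_card (p := 2) hA2
  letI : CommGroup A := IsCyclic.commGroup
  let φ : ↥R →* A := QuotientGroup.mk' _
  have hφ : ∀ y : ↥R, φ y = 1 ↔ y ∈ M := fun y => QuotientGroup.eq_one_iff y
  set e := φ ⟨u, huR⟩ with he
  have he1 : e ≠ 1 := fun h => huM ((hφ _).1 h)
  have hval : ∀ y : A, y ≠ 1 → y = e := fun y hy =>
    ((Nat.card_eq_two_iff' (1 : A)).1 hA2).unique hy he1
  let V : G →* A := MonoidHom.transfer φ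
  have hV : ∀ g, V g = 1 := by
    intro g
    have hle : Cfsg.pResidual 2 G ≤ V.ker := by
      rw [Cfsg.pResidual, Subgroup.closure_le]
      intro x hx
      rw [SetLike.mem_coe, MonoidHom.mem_ker]
      have h1 : orderOf (V x) ∣ 2 := hA2 ▸ orderOf_dvd_natCard _
      exact orderOf_eq_one_iff.1 (Nat.eq_one_of_dvd_coprimes hx.symm h1 (orderOf_map_dvd V x))
    exact MonoidHom.mem_ker.1 (hle (hres ▸ Subgroup.mem_top g))
  haveI : Fintype (G ⧸ R) := Fintype.ofFinite _
  haveI : Fintype (Quotient (MulAction.orbitRel (Subgroup.zpowers u) (G ⧸ R))) := Fintype.ofFinite _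
  set M' := M.map R.subtype with hM'
  have hM'mem : ∀ (y : G) (hy : y ∈ R), y ∈ M' ↔ (⟨y, hy⟩ : ↥R) ∈ M := fun y hy =>
    ⟨fun ⟨z, hz, hzy⟩ => (Subtype.ext hzy : z = ⟨y, hy⟩) ▸ hz, fun h => ⟨_, h, rfl⟩⟩
  have hMn' : ∀ r ∈ R, ∀ m ∈ M', r * m * r⁻¹ ∈ M' := by
    rintro r hr _ ⟨m, hm, rfl⟩
    exact ⟨_, hMn.conj_mem m hm ⟨r, hr⟩, rfl⟩
  set P : G → Prop := fun x => x⁻¹ * u * x ∈ R ∧ x⁻¹ * u * x ∉ M' with hP
  set F : Finset (G ⧸ R) := Finset.univ.filter fun q => P q.out with hF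
  have hPmem : ∀ x : G, ((x : G ⧸ R) ∈ F ↔ P x) := fun x => by
    simp only [hF, Finset.mem_filter, Finset.mem_univ, true_and]
    exact ZStarApps.coset_out_iff _ M' hMn' u x
  have hfix : ∀ c ∈ F, u • c = c := by
    intro c hc
    simp only [hF, Finset.mem_filter, Finset.mem_univ, true_and] at hc
    rw [← QuotientGroup.out_eq' c, MulAction.Quotient.smul_mk, QuotientGroup.eq, smul_eq_mul, mul_inv_rev]
    have := inv_mem hc.1
    simpa [mul_assoc] using this
  have hout : ∀ c ∈ F, (Quotient.mk (MulAction.orbitRel (Subgroup.zpowers u) (G ⧸ R)) c).out = c := by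
    intro c hc
    obtain ⟨⟨v, hv⟩, hv'⟩ := MulAction.orbitRel_apply.1 (Quotient.mk_out (s :=
      MulAction.orbitRel (Subgroup.zpowers u) (G ⧸ R)) c)
    rw [← hv']
    obtain ⟨n, rfl⟩ := Subgroup.mem_zpowers_iff.1 hv
    show u ^ n • c = c
    exact MulAction.mem_stabilizer_iff.1 (zpow_mem (MulAction.mem_stabilizer_iff.2 (hfix c hc)) n)
  have hVu : V u = e ^ F.card := by
    simp only [V]
    rw [MonoidHom.transfer_eq_prod_quotient_orbitRel_zpowers_quot]
    have key : ∀ (q : Quotient (MulAction.orbitRel (Subgroup.zpowers u) (G ⧸ R))) (k : ℕ)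
        (hmem : q.out.out⁻¹ * u ^ k * q.out.out ∈ R),
        Function.minimalPeriod (u • ·) q.out = k →
        φ ⟨_, hmem⟩ = if k = 1 ∧ P q.out.out then e else 1 := by
      intro q k hmem hk
      have hk2 : k = 1 ∨ k = 2 := by
        have hdvd : k ∣ 2 := by
          rw [← hk]
          apply Function.IsPeriodicPt.minimalPeriod_dvd
          show (fun y : G ⧸ R => u • y)^[2] q.out = q.out
          rw [smul_iterate]
          show u ^ 2 • q.out = q.out
          rw [hu2, one_smul]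
        exact (Nat.dvd_prime Nat.prime_two).1 hdvd
      split_ifs with h
      · obtain ⟨rfl, h1, h2⟩ := h
        refine hval _ fun hh => h2 ?_
        rw [hM'mem _ h1]
        have := (hφ _).1 hh
        simpa using this
      · rw [hφ]
        rcases hk2 with rfl | rfl
        · by_contra hc
          refine h ⟨rfl, by simpa using hmem, fun hm => hc ?_⟩
          have hm' : q.out.out⁻¹ * u ^ 1 * q.out.out ∈ M' := by simpa using hm
          exact (hM'mem _ hmem).1 hm'
        · have : (⟨_, hmem⟩ : ↥R) = 1 := Subtype.ext (by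
            show q.out.out⁻¹ * u ^ 2 * q.out.out = 1
            rw [hu2, mul_one, inv_mul_cancel])
          rw [this]; exact one_mem _
    rw [Finset.prod_congr rfl (fun q _ => key q _ _ rfl), Finset.prod_ite,
      Finset.prod_const_one, mul_one, Finset.prod_const]
    congr 1
    refine Finset.card_bij' (fun q _ => q.out) (fun c _ => Quotient.mk _ c) (fun q hq => ?_)
      (fun c hc => ?_) (fun q _ => Quotient.out_eq q) (fun c hc => hout c hc)
    · simp only [Finset.mem_filter, Finset.mem_univ, true_and] at hq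
      simp only [hF, Finset.mem_filter, Finset.mem_univ, true_and]
      exact hq.2
    · simp only [Finset.mem_filter, Finset.mem_univ, true_and]
      rw [hout c hc]
      exact ⟨Function.minimalPeriod_eq_one_iff_isFixedPt.2 (hfix c hc), (Finset.mem_filter.1 hc).2⟩
  -- the parity
  have hRF : ∀ r : ↥R, ∀ q : G ⧸ R, q ∈ F → (r : G) • q ∈ F := by
    intro r q hq
    obtain ⟨x, rfl⟩ := QuotientGroup.mk_surjective q
    rw [MulAction.Quotient.smul_mk, smul_eq_mul, hPmem]
    rw [hPmem] at hq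
    have e : ((r : G) * x)⁻¹ * u * ((r : G) * x) = x⁻¹ * u * x := by
      rw [show ((r : G) * x)⁻¹ * u * ((r : G) * x) = x⁻¹ * ((r : G)⁻¹ * (u * r)) * x by group,
        ← hcom _ r.2, inv_mul_cancel_left]
    show ((r : G) * x)⁻¹ * u * ((r : G) * x) ∈ R ∧ _ ∉ M'
    rw [e]
    exact hq
  letI actF : MulAction ↥R {q // q ∈ F} :=
    { smul := fun c q => ⟨(c : G) • q.1, hRF c q.1 q.2⟩
      one_smul := fun q => Subtype.ext (one_smul G q.1)
      mul_smul := fun c d q => Subtype.ext (mul_smul (c : G) (d : G) q.1) }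
  have hfixF : ∀ q : G ⧸ R, q ∈ MulAction.fixedPoints ↥R (G ⧸ R) → q ∈ F := by
    intro q hq
    obtain ⟨x, rfl⟩ := QuotientGroup.mk_surjective q
    have hxN : x⁻¹ ∈ Subgroup.normalizer (R : Set G) := by
      rw [← LEBasic.map_conj_eq_iff_mem_normalizer]
      refine Subgroup.eq_of_le_of_card_ge ?_ (LEBasic.card_map_conj R x⁻¹).ge
      rintro _ ⟨r, hr, rfl⟩
      have h : r • ((x : G) : G ⧸ R) = ((x : G) : G ⧸ R) := hq ⟨r, hr⟩
      rw [MulAction.Quotient.smul_mk, QuotientGroup.eq, smul_eq_mul, mul_inv_rev] at h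
      have := inv_mem h
      simpa [mul_assoc] using this
    have he : x⁻¹ * u * x = u := by simpa using hN x⁻¹ hxN u huΩ
    rw [hPmem]
    show x⁻¹ * u * x ∈ R ∧ x⁻¹ * u * x ∉ M'
    rw [he]
    exact ⟨huR, fun h => huM ((hM'mem u huR).1 h)⟩
  have hodd : ¬ 2 ∣ F.card := by
    have h1 := S.2.card_modEq_card_fixedPoints (G ⧸ R)
    have h2 := S.2.card_modEq_card_fixedPoints {q // q ∈ F}
    have h3 : Nat.card (MulAction.fixedPoints ↥R {q // q ∈ F}) = Nat.card (MulAction.fixedPoints ↥R (G ⧸ R)) :=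
      Nat.card_congr ⟨fun q => ⟨q.1.1, fun r => congrArg Subtype.val (q.2 r)⟩,
        fun q => ⟨⟨q.1, hfixF q.1 q.2⟩, fun r => Subtype.ext (q.2 r)⟩, fun q => rfl, fun q => rfl⟩
    rw [h3, Nat.card_eq_finsetCard] at h2
    have h4 : ¬ 2 ∣ Nat.card (G ⧸ R) := S.not_dvd_index
    intro h5
    exact h4 (Nat.modEq_zero_iff_dvd.1 ((h1.trans h2.symm).trans (Nat.modEq_zero_iff_dvd.2 h5)))
  obtain ⟨j, hj⟩ := Nat.odd_iff.2 (Nat.two_dvd_ne_zero.1 hodd)
  have he2 : e ^ 2 = 1 := by rw [← hA2]; exact pow_card_eq_one'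
  have := hV u
  rw [hVu, hj, pow_succ, pow_mul, he2, one_pow, one_mul] at this
  exact he1 this

end Cfsg.Agent.S2872

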