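import Cfsg.Statements.S2873
import Cfsg.Agent.Lib.LocalEven.Basic
import Cfsg.Agent.Lib.LocalEven.SylowAux

set_option autoImplicit false
open Cfsg

namespace Cfsg.Agent.S2873

/-- Let G be a finite group and r an odd prime such that G ⧸ O₂(G) is dihedral of order 2r, and let R be a Sylow r-subgroup of G with C_{O₂(G)}(R) = 1. Then N_G(R) is dihedral of order 2r; for any involution a of N_G(R), every involution of G outside O₂(G) is conjugate to a; and |C_{O₂(G)}(a)|² = |O₂(G)|. -/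
theorem result {G : Type*} [Group G] [Finite G] {r : ℕ} [Fact r.Prime] (hr : r ≠ 2) [hN : (Cfsg.pCore 2 G).Normal] (hquot : Nonempty (G ⧸ Cfsg.pCore 2 G ≃* DihedralGroup r)) (R : Sylow r G) (hC : Cfsg.pCore 2 G ⊓ Subgroup.centralizer ((R : Subgroup G) : Set G) = ⊥) : Nonempty (↥(Subgroup.normalizer ((R : Subgroup G) : Set G)) ≃* DihedralGroup r) ∧ ∀ a : G, a ∈ Subgroup.normalizer ((R : Subgroup G) : Set G) → orderOf a = 2 → (∀ b : G, orderOf b = 2 → b ∉ Cfsg.pCore 2 G → ∃ g : G, g * a * g⁻¹ = b) ∧ Nat.card ↥(Cfsg.pCore 2 G ⊓ Subgroup.centralizer ({a} : Set G)) ^ 2 = Nat.card ↥(Cfsg.pCore 2 G) := by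
  classical
  haveI : Fact (Nat.Prime 2) := ⟨Nat.prime_two⟩
  have hr' : r.Prime := Fact.out
  have hr3 : 3 ≤ r := by have := hr'.two_le; omega
  haveI : NeZero r := ⟨hr'.ne_zero⟩
  set O := Cfsg.pCore 2 G with hO
  obtain ⟨e⟩ := hquot
  let π : G →* DihedralGroup r := e.toMonoidHom.comp (QuotientGroup.mk' O)
  have hπ : Function.Surjective π := e.surjective.comp (QuotientGroup.mk'_surjective _)
  have hker : ∀ g, π g = 1 ↔ g ∈ O := fun g => e.map_eq_one_iff.trans (QuotientGroup.eq_one_iff g)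
  obtain ⟨k, hk⟩ := IsPGroup.iff_card.1 (LEBasic.pCore_isPGroup (p := 2) (G := G))
  have hcard : Nat.card G = 2 * r * 2 ^ k := by
    rw [Subgroup.card_eq_card_quotient_mul_card_subgroup O, Nat.card_congr e.toEquiv, DihedralGroup.nat_card, hk]
  have h2r : ¬ r ∣ 2 := fun h => hr ((Nat.prime_dvd_prime_iff_eq hr' Nat.prime_two).1 h)
  have hRcard : Nat.card (R : Subgroup G) = r := by
    rw [R.card_eq_multiplicity, hcard]
    have hpos : (2 * r * 2 ^ k).factorization r = 1 := by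
      rw [show 2 * r * 2 ^ k = r * 2 ^ (k + 1) by rw [pow_succ]; ring,
        Nat.factorization_mul hr'.ne_zero (pow_ne_zero _ two_ne_zero), Finsupp.add_apply, hr'.factorization_self,
        Nat.factorization_eq_zero_of_not_dvd (fun h => h2r (hr'.dvd_of_dvd_pow h))]
    rw [hpos, pow_one]
  -- elements outside the preimage of the reflections centralize nothing in `O`
  have hrfix : ∀ h : G, orderOf (π h) = r → ∀ o ∈ O, o * h = h * o → o = 1 := by
    intro h hh o ho hoh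
    obtain ⟨a, b, hab, ⟨l, hl⟩, hb, haz, -⟩ := LEBasic.exists_p_part (p := r) h
    have ha1 : a ≠ 1 := fun ha => by
      rw [hab, ha, one_mul] at hh
      exact hr'.one_lt.ne' (Nat.eq_one_of_dvd_coprimes hb (hh ▸ orderOf_map_dvd π b) dvd_rfl)
    have hA : IsPGroup r ↥(Subgroup.zpowers a) := LESylow.isPGroup_zpowers hl
    obtain ⟨P, hP⟩ := hA.exists_le_sylow
    obtain ⟨g, hg⟩ := MulAction.exists_smul_eq G R P
    have hPcard : Nat.card (P : Subgroup G) = r := by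
      exact (Nat.card_congr (Sylow.equiv P R).toEquiv).trans hRcard
    have hPA : Subgroup.zpowers a = (P : Subgroup G) := by
      refine Subgroup.eq_of_le_of_card_ge hP ?_
      rw [hPcard, Nat.card_zpowers]
      rcases (Nat.dvd_prime hr').1 (hPcard ▸ Subgroup.orderOf_dvd_natCard _ (hP (Subgroup.mem_zpowers a))) with h1 | h1
      · exact absurd (orderOf_eq_one_iff.1 h1) ha1
      · exact h1.ge
    have hoa : Commute o a := by
      obtain ⟨i, rfl⟩ := Subgroup.mem_zpowers_iff.1 haz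
      exact (show Commute o h from hoh).zpow_right i
    have hmem : g⁻¹ * o * g ∈ O ⊓ Subgroup.centralizer ((R : Subgroup G) : Set G) := by
      refine Subgroup.mem_inf.2 ⟨Subgroup.Normal.conj_mem' hN o ho g, Subgroup.mem_centralizer_iff.2 fun x hx => ?_⟩
      have hx' : g * x * g⁻¹ ∈ (P : Subgroup G) := by rw [← hg]; exact ⟨x, hx, rfl⟩
      rw [← hPA] at hx'
      obtain ⟨i, hi⟩ := Subgroup.mem_zpowers_iff.1 hx'
      have h3 : o * (g * x * g⁻¹) = (g * x * g⁻¹) * o := hi ▸ (hoa.zpow_right i).eq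
      calc x * (g⁻¹ * o * g) = g⁻¹ * ((g * x * g⁻¹) * o) * g := by group
        _ = g⁻¹ * o * g * x := by rw [← h3]; group
    rw [hC, Subgroup.mem_bot] at hmem
    have : o = g * (g⁻¹ * o * g) * g⁻¹ := by group
    rw [this, hmem, mul_one, mul_inv_cancel]
  -- reflections and rotations
  have hrot : ∀ d : DihedralGroup r, orderOf d = r → ∃ i, d = DihedralGroup.r i := by
    rintro (i | i) h
    · exact ⟨i, rfl⟩
    · rw [DihedralGroup.orderOf_sr] at h; omega
  have hRimg : ∀ x ∈ (R : Subgroup G), x ≠ 1 → orderOf (π x) = r := by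
    intro x hx hx1
    have hxo : orderOf x = r := by
      rcases (Nat.dvd_prime hr').1 (hRcard ▸ Subgroup.orderOf_dvd_natCard _ hx) with h | h
      · exact absurd (orderOf_eq_one_iff.1 h) hx1
      · exact h
    rcases (Nat.dvd_prime hr').1 (hxo ▸ orderOf_map_dvd π x) with h | h
    · rw [orderOf_eq_one_iff, hker] at h
      have h2 : orderOf x ∣ 2 ^ k := hk ▸ Subgroup.orderOf_dvd_natCard _ h
      rw [hxo] at h2
      exact absurd (hr'.dvd_of_dvd_pow h2) h2r
    · exact h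
  obtain ⟨y, hy, hy1⟩ : ∃ y ∈ (R : Subgroup G), y ≠ 1 :=
    (Subgroup.bot_or_exists_ne_one _).resolve_left fun h => by
      rw [h, Subgroup.card_bot] at hRcard; omega
  obtain ⟨j, hj⟩ := hrot _ (hRimg y hy hy1)
  -- `N(R)` is a complement
  set N := Subgroup.normalizer ((R : Subgroup G) : Set G) with hNdef
  have hinj : ∀ n ∈ N, π n = 1 → n = 1 := by
    intro n hn h1
    have hnO : n ∈ O := (hker n).1 h1
    have hmem : n ∈ O ⊓ Subgroup.centralizer ((R : Subgroup G) : Set G) := by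
      refine Subgroup.mem_inf.2 ⟨hnO, Subgroup.mem_centralizer_iff.2 fun x hx => ?_⟩
      have h1 : n * x * n⁻¹ * x⁻¹ ∈ (R : Subgroup G) :=
        mul_mem ((Subgroup.mem_normalizer_iff.1 hn x).1 hx) (inv_mem hx)
      have h2 : n * x * n⁻¹ * x⁻¹ ∈ O := by
        have := mul_mem hnO (hN.conj_mem _ (inv_mem hnO) x)
        simpa [mul_assoc] using this
      have h3 : n * x * n⁻¹ * x⁻¹ = 1 := by
        by_contra hne
        have h4 := hRimg _ h1 hne
        rw [(hker _).2 h2, orderOf_one] at h4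
        omega
      exact (mul_inv_eq_iff_eq_mul.1 (mul_inv_eq_one.1 h3)).symm
    rwa [hC, Subgroup.mem_bot] at hmem
  set M := (Subgroup.zpowers (DihedralGroup.r 1 : DihedralGroup r)).comap π with hM
  have hMn : M.Normal := by
    refine Subgroup.Normal.comap ⟨fun d hd g => ?_⟩ π
    obtain ⟨i, rfl⟩ := Subgroup.mem_zpowers_iff.1 hd
    rw [DihedralGroup.r_one_zpow]
    rcases g with s | s
    · exact ⟨(i : ℤ), by simp [DihedralGroup.r_one_zpow]⟩
    · exact ⟨(-i : ℤ), by simp [DihedralGroup.r_one_zpow]⟩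
  have hRM : (R : Subgroup G) ≤ M := by
    intro x hx
    by_cases hx1 : x = 1
    · rw [hx1]; exact one_mem _
    · obtain ⟨i, hi⟩ := hrot _ (hRimg x hx hx1)
      obtain ⟨i', rfl⟩ := ZMod.intCast_surjective i
      exact ⟨i', by rw [hi]; exact DihedralGroup.r_one_zpow i'⟩
  haveI := hMn
  have hsup : N ⊔ M = ⊤ := Sylow.normalizer_sup_eq_top' R hRM
  let φ : ↥N →* DihedralGroup r := π.comp N.subtype
  have hφinj : Function.Injective φ := (injective_iff_map_eq_one φ).2 fun n h => Subtype.ext (hinj n n.2 h)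
  have hφsurj : Function.Surjective φ := by
    intro d
    obtain ⟨g, rfl⟩ := hπ d
    obtain ⟨n, hn, m, hm, hnm⟩ := Subgroup.mem_sup_of_normal_right.1 (hsup ▸ Subgroup.mem_top g)
    obtain ⟨i, hi⟩ := Subgroup.mem_zpowers_iff.1 (show π m ∈ _ from hm)
    have hj0 : j ≠ 0 := fun h => by
      have := hRimg y hy hy1
      rw [hj, h, DihedralGroup.r_zero, orderOf_one] at this
      omega
    refine ⟨⟨n * y ^ ((j⁻¹ * (i : ZMod r)).val), mul_mem hn (pow_mem (Subgroup.le_normalizer hy) _)⟩, ?_⟩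
    show π (n * y ^ ((j⁻¹ * (i : ZMod r)).val)) = π g
    rw [← hnm, map_mul, map_mul, map_pow, hj, ← hi, DihedralGroup.r_pow, DihedralGroup.r_one_zpow,
      ZMod.natCast_zmod_val, mul_inv_cancel_left₀ hj0]
  refine ⟨⟨MulEquiv.ofBijective φ ⟨hφinj, hφsurj⟩⟩, fun a ha hao => ?_⟩
  have ha1 : a ≠ 1 := fun h => by rw [h, orderOf_one] at hao; omega
  have haa : a * a = 1 := by rw [← pow_two, ← hao, pow_orderOf_eq_one]
  have hrefl : ∀ d : DihedralGroup r, d * d = 1 → d ≠ 1 → ∃ i, d = DihedralGroup.sr i := by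
    rintro (i | i) h1 h2
    · exfalso
      apply h2
      rw [DihedralGroup.r_mul_r, ← DihedralGroup.r_zero, DihedralGroup.r.injEq] at h1
      have h20 : (2 : ZMod r) ≠ 0 := fun h0 => by
        have h0' : ((2 : ℕ) : ZMod r) = 0 := by exact_mod_cast h0
        rw [ZMod.natCast_eq_zero_iff] at h0'
        exact h2r h0'
      have h3 : (2 : ZMod r) * i = 0 := by linear_combination h1
      rw [(mul_eq_zero.1 h3).resolve_left h20, DihedralGroup.r_zero]
    · exact ⟨i, rfl⟩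
  obtain ⟨s, hs⟩ := hrefl (π a) (by rw [← map_mul, haa, map_one]) (fun h => ha1 (hinj a ha h))
  set a' := y * a * y⁻¹ with ha'
  have hda : orderOf (π (a * a')) = r := by
    have : π (a * a') = (π y)⁻¹ * (π y)⁻¹ := by
      simp [ha', hs, hj]
      ring
    rw [this, ← map_inv, ← map_mul]
    refine hRimg _ (mul_mem (inv_mem hy) (inv_mem hy)) fun h => ?_
    have h2 : orderOf y ∣ 2 := orderOf_dvd_of_pow_eq_one (by
      rw [pow_two]; rw [← mul_inv_rev, inv_eq_one] at h; exact h)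
    have hyo : orderOf y = r := by
      rcases (Nat.dvd_prime hr').1 (hRcard ▸ Subgroup.orderOf_dvd_natCard _ hy) with h3 | h3
      · exact absurd (orderOf_eq_one_iff.1 h3) hy1
      · exact h3
    exact h2r (hyo ▸ h2)
  set C := O ⊓ Subgroup.centralizer ({a} : Set G) with hCdef
  have hmemC : ∀ {o}, o ∈ C ↔ o ∈ O ∧ o * a = a * o := fun {o} => by
    rw [hCdef, Subgroup.mem_inf, Subgroup.mem_centralizer_singleton_iff]
  -- `|C|² ≤ |O|`
  have hC2 : Nat.card ↥C * Nat.card ↥C ≤ Nat.card ↥O := by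
    rw [← Nat.card_prod]
    refine Nat.card_le_card_of_injective (fun x : ↥C × ↥C =>
      (⟨(x.1 : G) * (y * (x.2 : G) * y⁻¹), mul_mem (hmemC.1 x.1.2).1 (hN.conj_mem _ (hmemC.1 x.2.2).1 y)⟩ : ↥O)) ?_
    rintro ⟨⟨c₁, h₁⟩, ⟨d₁, k₁⟩⟩ ⟨⟨c₂, h₂⟩, ⟨d₂, k₂⟩⟩ h
    have h' : c₁ * (y * d₁ * y⁻¹) = c₂ * (y * d₂ * y⁻¹) := congrArg Subtype.val h
    have e1 : c₂⁻¹ * c₁ = y * (d₂ * d₁⁻¹) * y⁻¹ := by
      rw [inv_mul_eq_iff_eq_mul, ← mul_inv_eq_iff_eq_mul.2 h'.symm]
      group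
    obtain ⟨hcO, hca⟩ := hmemC.1 (mul_mem (inv_mem h₂) h₁)
    obtain ⟨-, hda'⟩ := hmemC.1 (mul_mem k₂ (inv_mem k₁))
    have hca' : Commute (c₂⁻¹ * c₁) a' := by
      rw [e1]
      show _ * a' = a' * _
      calc y * (d₂ * d₁⁻¹) * y⁻¹ * (y * a * y⁻¹) = y * (d₂ * d₁⁻¹ * a) * y⁻¹ := by group
        _ = y * a * y⁻¹ * (y * (d₂ * d₁⁻¹) * y⁻¹) := by rw [hda']; group
    have h1 : c₂⁻¹ * c₁ = 1 := hrfix _ hda _ hcO ((show Commute _ a from hca).mul_right hca').eq
    have h3 : d₂ * d₁⁻¹ = 1 := conj_eq_one_iff.1 (e1.symm.trans h1)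
    exact Prod.ext (Subtype.ext (inv_mul_eq_one.1 h1).symm) (Subtype.ext (mul_inv_eq_one.1 h3).symm)
  -- involutions in the coset
  let I := {b : G // b * a⁻¹ ∈ O ∧ b * b = 1}
  have hI : Nat.card I * Nat.card I ≤ Nat.card ↥O := by
    rw [← Nat.card_prod]
    have hmem : ∀ x : I × I, x.1.1 * (y * x.2.1 * y⁻¹) * (a * a')⁻¹ ∈ O := fun x => by
      rw [← hker]
      have h1 := (hker _).2 x.1.2.1
      have h2 := (hker _).2 x.2.2.1
      rw [map_mul, map_inv, mul_inv_eq_one] at h1 h2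
      simp only [ha', map_mul, map_inv, h1, h2]
      group
    refine Nat.card_le_card_of_injective (fun x : I × I => (⟨_, hmem x⟩ : ↥O)) ?_
    rintro ⟨⟨b₁, p₁, q₁⟩, ⟨c₁, r₁, s₁⟩⟩ ⟨⟨b₂, p₂, q₂⟩, ⟨c₂, r₂, s₂⟩⟩ h
    have h' : b₁ * (y * c₁ * y⁻¹) = b₂ * (y * c₂ * y⁻¹) := mul_right_cancel (congrArg Subtype.val h)
    set u := b₁ * (y * c₁ * y⁻¹) with hu
    have hu' : orderOf (π u) = r := by
      have h1 := (hker _).2 p₁
      have h2 := (hker _).2 r₁
      rw [map_mul, map_inv, mul_inv_eq_one] at h1 h2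
      refine (congrArg orderOf ?_).trans hda
      simp [hu, ha', h1, h2]
    have hbi : ∀ b c : G, b * b = 1 → c * c = 1 → b * (b * c) * b = (b * c)⁻¹ := fun b c hb hc => by
      rw [← mul_assoc b b c, hb, one_mul, mul_inv_rev, inv_eq_of_mul_eq_one_left hb, inv_eq_of_mul_eq_one_left hc]
    have hyc : ∀ c : G, c * c = 1 → (y * c * y⁻¹) * (y * c * y⁻¹) = 1 := fun c hc => by
      rw [show (y * c * y⁻¹) * (y * c * y⁻¹) = y * (c * c) * y⁻¹ by group, hc, mul_one, mul_inv_cancel]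
    have i1 := hbi b₁ _ q₁ (hyc c₁ s₁)
    rw [← hu] at i1
    have i2 := hbi b₂ _ q₂ (hyc c₂ s₂)
    rw [← h'] at i2
    have hbb : b₁ * b₂ ∈ O := by
      have h1 := (hker _).2 p₁
      have h2 := (hker _).2 p₂
      rw [map_mul, map_inv, mul_inv_eq_one] at h1 h2
      rw [← hker, map_mul, h1, h2, ← map_mul, haa, map_one]
    have hcom : b₁ * b₂ * u = u * (b₁ * b₂) := by
      have k1 : b₂ * u = u⁻¹ * b₂ := by rw [← i2, mul_assoc _ b₂ b₂, q₂, mul_one]
      have k2 : b₁ * u⁻¹ = u * b₁ := by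
        rw [← i1, show b₁ * (b₁ * u * b₁) = b₁ * b₁ * u * b₁ by simp [mul_assoc], q₁, one_mul]
      calc b₁ * b₂ * u = b₁ * (b₂ * u) := mul_assoc _ _ _
        _ = b₁ * u⁻¹ * b₂ := by rw [k1, mul_assoc]
        _ = u * (b₁ * b₂) := by rw [k2, mul_assoc]
    have h1 := hrfix u hu' _ hbb hcom
    have hb : b₁ = b₂ := by
      rw [mul_eq_one_iff_eq_inv, inv_eq_of_mul_eq_one_left q₂] at h1; exact h1
    subst hb
    have hc : c₁ = c₂ := mul_left_cancel (mul_right_cancel (mul_left_cancel h'))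
    subst hc
    rfl
  -- the orbit
  let f : ↥O → I := fun o => ⟨(o : G) * a * (o : G)⁻¹, by
    refine ⟨?_, by rw [show (o : G) * a * (o : G)⁻¹ * ((o : G) * a * (o : G)⁻¹) = o * (a * a) * (o : G)⁻¹ by group, haa, mul_one, mul_inv_cancel]⟩
    have := mul_mem o.2 (hN.conj_mem _ (inv_mem o.2) a)
    simpa [mul_assoc] using this⟩
  have hfib : ∀ o₁ o₂, f o₁ = f o₂ → (o₂ : G)⁻¹ * o₁ ∈ C := fun o₁ o₂ h => by
    refine hmemC.2 ⟨mul_mem (inv_mem o₂.2) o₁.2, ?_⟩
    have h1 : (o₁ : G) * a * (o₁ : G)⁻¹ = o₂ * a * (o₂ : G)⁻¹ := congrArg Subtype.val h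
    calc (o₂ : G)⁻¹ * o₁ * a = (o₂ : G)⁻¹ * ((o₁ : G) * a * (o₁ : G)⁻¹) * o₁ := by group
      _ = a * ((o₂ : G)⁻¹ * o₁) := by rw [h1]; group
  have horb : Nat.card ↥O ≤ Nat.card (Set.range f) * Nat.card ↥C := by
    rw [← Nat.card_prod]
    refine Nat.card_le_card_of_injective (fun o => (⟨f o, o, rfl⟩,
      ⟨((Classical.choose (show ∃ o', f o' = f o from ⟨o, rfl⟩) : ↥O) : G)⁻¹ * o,
        hfib _ _ (Classical.choose_spec (show ∃ o', f o' = f o from ⟨o, rfl⟩)).symm⟩)) ?_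
    intro o₁ o₂ h
    obtain ⟨h1, h2⟩ := Prod.mk.injEq _ _ _ _ ▸ h
    have h1' : f o₁ = f o₂ := congrArg Subtype.val h1
    have h2' := congrArg Subtype.val h2
    simp only [h1'] at h2'
    exact Subtype.ext (mul_left_cancel h2')
  have hle : Nat.card (Set.range f) ≤ Nat.card I := Nat.card_le_card_of_injective _ Subtype.val_injective
  have hpos : 0 < Nat.card ↥C := Nat.card_pos
  have hposO : 0 < Nat.card ↥O := Nat.card_pos
  -- all inequalities are equalities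
  have hsq : Nat.card ↥C * Nat.card ↥C = Nat.card ↥O ∧ Nat.card (Set.range f) = Nat.card I := by
    have h1 : Nat.card ↥O * Nat.card ↥O ≤ (Nat.card I * Nat.card I) * (Nat.card ↥C * Nat.card ↥C) := by
      calc Nat.card ↥O * Nat.card ↥O ≤ (Nat.card I * Nat.card ↥C) * (Nat.card I * Nat.card ↥C) :=
            Nat.mul_le_mul (horb.trans (Nat.mul_le_mul_right _ hle)) (horb.trans (Nat.mul_le_mul_right _ hle))
        _ = _ := by ring
    have h2 : (Nat.card I * Nat.card I) * (Nat.card ↥C * Nat.card ↥C) ≤ Nat.card ↥O * (Nat.card ↥C * Nat.card ↥C) :=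
      Nat.mul_le_mul_right _ hI
    have h3 : Nat.card ↥C * Nat.card ↥C = Nat.card ↥O :=
      le_antisymm hC2 (Nat.le_of_mul_le_mul_left (h1.trans h2) hposO)
    refine ⟨h3, le_antisymm hle ?_⟩
    by_contra hlt
    have h4 : Nat.card (Set.range f) * Nat.card ↥C < Nat.card I * Nat.card ↥C :=
      Nat.mul_lt_mul_of_pos_right (not_le.1 hlt) hpos
    have h5 := Nat.mul_lt_mul_of_lt_of_lt (horb.trans_lt h4) (horb.trans_lt h4)
    have h6 : (Nat.card I * Nat.card ↥C) * (Nat.card I * Nat.card ↥C) ≤ Nat.card ↥O * Nat.card ↥O := by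
      calc (Nat.card I * Nat.card ↥C) * (Nat.card I * Nat.card ↥C)
          = (Nat.card I * Nat.card I) * (Nat.card ↥C * Nat.card ↥C) := by ring
        _ ≤ Nat.card ↥O * Nat.card ↥O := by rw [h3]; exact Nat.mul_le_mul_right _ hI
    omega
  refine ⟨fun b hbo hbO => ?_, by rw [pow_two]; exact hsq.1⟩
  have hbb : b * b = 1 := by rw [← pow_two, ← hbo, pow_orderOf_eq_one]
  obtain ⟨s', hs'⟩ := hrefl (π b) (by rw [← map_mul, hbb, map_one]) (fun h => hbO ((hker b).1 h))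
  have h20 : (2 : ZMod r) ≠ 0 := fun h0 => by
    have h0' : ((2 : ℕ) : ZMod r) = 0 := by exact_mod_cast h0
    rw [ZMod.natCast_eq_zero_iff] at h0'
    exact h2r h0'
  obtain ⟨g, hg⟩ := hπ (DihedralGroup.r ((s' - s) * (2 : ZMod r)⁻¹))
  have hgb : g * b * g⁻¹ * a⁻¹ ∈ O := by
    rw [← hker]
    simp only [map_mul, map_inv, hg, hs', hs, DihedralGroup.r_mul_sr, DihedralGroup.inv_r, DihedralGroup.sr_mul_r,
      DihedralGroup.inv_sr, DihedralGroup.sr_mul_sr, ← DihedralGroup.r_zero, DihedralGroup.r.injEq]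
    field_simp
    ring
  obtain ⟨⟨c, ⟨o, rfl⟩⟩, hc⟩ := ((Nat.bijective_iff_injective_and_card (Subtype.val : Set.range f → I)).2
    ⟨Subtype.val_injective, hsq.2⟩).2 ⟨g * b * g⁻¹, hgb, by
      rw [show g * b * g⁻¹ * (g * b * g⁻¹) = g * (b * b) * g⁻¹ by group, hbb, mul_one, mul_inv_cancel]⟩
  have hc' : (o : G) * a * (o : G)⁻¹ = g * b * g⁻¹ := congrArg Subtype.val hc
  refine ⟨g⁻¹ * o, ?_⟩
  calc g⁻¹ * o * a * (g⁻¹ * o)⁻¹ = g⁻¹ * ((o : G) * a * (o : G)⁻¹) * g := by group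
    _ = b := by rw [hc']; group

end Cfsg.Agent.S2873

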