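import Cfsg.Statements.S2881
import Cfsg.Agent.Lib.LocalEven.XSPlus

set_option autoImplicit false
open Cfsg

namespace Cfsg.Agent.S2881

/-- Let E be an extraspecial 2-group of order 2^(2m+1) of plus type (containing an elementary abelian subgroup of order 2^(m+1)), and let ω be an automorphism of E of order 5 whose fixed points are exactly the centre of E. Then m is divisible by 4. -/
theorem result {E : Type*} [Group E] [Finite E] (m : ℕ) (hm : 1 ≤ m) (hE : Cfsg.IsExtraspecial 2 E) (hcard : Nat.card E = 2 ^ (2 * m + 1)) (hplus : ∃ A : Subgroup E, Cfsg.IsElementaryAbelian 2 A ∧ Nat.card A = 2 ^ (m + 1)) (ω : E ≃* E) (hω : orderOf ω = 5) (hfix : ∀ x : E, ω x = x ↔ x ∈ Subgroup.center E) : 4 ∣ m := by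
  classical
  haveI : Fact (Nat.Prime 5) := ⟨Nat.prime_five⟩
  have hc4 := LEXSPlus.card_order_four m hE hcard hplus
  obtain ⟨z, hS, -⟩ := XNonSplit.exists_setup hE
  let X := {x : E // orderOf x = 4}
  let L := Subgroup.zpowers (ω : MulAut E)
  have hL : IsPGroup 5 ↥L := IsPGroup.of_card (n := 1) (by rw [Nat.card_zpowers, pow_one]; exact hω)
  letI : MulAction ↥L X :=
    { smul := fun f x => ⟨(f : MulAut E) x.1, (MulEquiv.orderOf_eq (f : MulAut E) x.1).trans x.2⟩
      one_smul := fun x => Subtype.ext rfl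
      mul_smul := fun f g x => Subtype.ext rfl }
  have hfree : Nat.card (MulAction.fixedPoints ↥L X) = 0 := by
    rw [Nat.card_eq_zero]
    refine Or.inl ⟨fun ⟨⟨x, hx⟩, h⟩ => ?_⟩
    have hxω : ω x = x := congrArg Subtype.val (h ⟨ω, Subgroup.mem_zpowers _⟩)
    have hxc := (hfix x).1 hxω
    have hxne := (LEXSPlus.orderOf_eq_four_iff hS.one_ne hS.sq hS.square x).1 hx
    have h2 : x ^ 2 = 1 := by
      have h3 := pow_card_eq_one' (x := (⟨x, hxc⟩ : ↥(Subgroup.center E)))
      rw [hE.2] at h3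
      exact congrArg Subtype.val h3
    exact hxne (by rwa [← pow_two])
  have hmod := hL.card_modEq_card_fixedPoints X
  rw [hfree, show Nat.card X = 2 ^ (2 * m) - 2 ^ m from hc4] at hmod
  have hd : 5 ∣ 2 ^ m * (2 ^ m - 1) := by
    rw [Nat.mul_sub, mul_one, ← pow_add, ← two_mul]
    exact Nat.modEq_zero_iff_dvd.1 hmod
  have h1 : 5 ∣ 2 ^ m - 1 := (Nat.Coprime.pow_right m (by norm_num : Nat.Coprime 5 2)).dvd_of_dvd_mul_left hd
  have hm4 : m = 4 * (m / 4) + m % 4 := (Nat.div_add_mod m 4).symm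
  have h5 : 2 ^ m % 5 = 2 ^ (m % 4) % 5 := by
    conv_lhs => rw [hm4, pow_add, pow_mul, Nat.mul_mod, Nat.pow_mod]
    norm_num
  have h2m : 1 ≤ 2 ^ m := Nat.one_le_two_pow
  have h6 : 2 ^ (m % 4) % 5 = 1 := by omega
  have hr : m % 4 < 4 := Nat.mod_lt _ (by norm_num)
  refine Nat.dvd_of_mod_eq_zero ?_
  revert h6
  interval_cases (m % 4) <;> simp

end Cfsg.Agent.S2881

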