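import Cfsg.Statements.S2896
import Cfsg.Agent.Lib.LocalEven.CharPAux

set_option autoImplicit false
open Cfsg

namespace Cfsg.Agent.S2896

/-- Let p be a prime dividing the order of the finite group G, S a Sylow p-subgroup of G and X a subgroup of S. (i) If some nontrivial element z of the centre of X has F*(C_G(z)) = O_p(C_G(z)), then F*(N_G(X)) = O_p(N_G(X)). (ii) G has parabolic characteristic p if and only if F*(C_G(z)) = O_p(C_G(z)) for every nontrivial z ∈ Ω₁(Z(S)). (iii) If F*(C_G(z)) = O_p(C_G(z)) for every element z of S of order p, then G has local characteristic p. -/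
theorem result {G : Type*} [Group G] [Finite G] {p : ℕ} [Fact p.Prime] (hdiv : p ∣ Nat.card G) (S : Sylow p G) (X : Subgroup G) (hX : X ≤ (S : Subgroup G)) : (∀ z : G, z ≠ 1 → z ∈ X → (∀ x ∈ X, x * z = z * x) → Cfsg.generalizedFittingSubgroup ↥(Subgroup.centralizer ({z} : Set G)) = Cfsg.pCore p ↥(Subgroup.centralizer ({z} : Set G)) → Cfsg.generalizedFittingSubgroup ↥(Subgroup.normalizer (X : Set G)) = Cfsg.pCore p ↥(Subgroup.normalizer (X : Set G))) ∧ (Cfsg.IsOfParabolicCharacteristic p G ↔ ∀ z : G, z ≠ 1 → z ∈ Cfsg.omegaOne p ((S : Subgroup G) ⊓ Subgroup.centralizer ((S : Subgroup G) : Set G)) → Cfsg.generalizedFittingSubgroup ↥(Subgroup.centralizer ({z} : Set G)) = Cfsg.pCore p ↥(Subgroup.centralizer ({z} : Set G))) ∧ ((∀ z : G, z ∈ (S : Subgroup G) → orderOf z = p → Cfsg.generalizedFittingSubgroup ↥(Subgroup.centralizer ({z} : Set G)) = Cfsg.pCore p ↥(Subgroup.centralizer ({z} : Set G))) → Cfsg.IsOfLocalCharacteristic p G) := by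
  refine ⟨fun z hz1 hzX hzc hF => ?_, ⟨fun hG z hz1 hz => ?_, fun h => ?_⟩, fun h => ?_⟩
  · rw [LECharP.fstar_eq_iff] at hF ⊢
    exact CharP.isCharP_normalizer_of_mem (S.isPGroup'.to_le hX) hzX hF
  · rw [LECharP.fstar_eq_iff]
    set Z := (S : Subgroup G) ⊓ Subgroup.centralizer ((S : Subgroup G) : Set G) with hZ
    have hzp : z ^ p = 1 := by
      clear hz1
      induction hz using Subgroup.closure_induction with
      | mem x hx => exact hx.2
      | one => exact one_pow _
      | mul x y hx hy ihx ihy =>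
        have hx' : x ∈ Z := (Subgroup.closure_le Z).2 (fun w hw => hw.1) hx
        have hy' : y ∈ Z := (Subgroup.closure_le Z).2 (fun w hw => hw.1) hy
        have hc : Commute x y := Subgroup.mem_centralizer_iff.1 (Subgroup.mem_inf.1 hy').2 x (Subgroup.mem_inf.1 hx').1
        rw [hc.mul_pow, ihx, ihy, one_mul]
      | inv x hx ihx => rw [inv_pow, ihx, inv_one]
    have hzZ : z ∈ Z := (Subgroup.closure_le Z).2 (fun w hw => hw.1) hz
    exact LECharP.centralizer_of_parabolic hG S (orderOf_eq_prime_iff.2 ⟨hzp, hz1⟩) fun x hx =>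
      Subgroup.mem_centralizer_singleton_iff.2 (Subgroup.mem_centralizer_iff.1 (Subgroup.mem_inf.1 hzZ).2 x hx)
  · refine LECharP.parabolic_of_centralizers S fun z hzS hzp hzc => ?_
    rw [← LECharP.fstar_eq_iff]
    refine h z (fun e => by simp [e, (Fact.out : p.Prime).ne_one.symm] at hzp)
      (Subgroup.subset_closure ⟨Subgroup.mem_inf.2 ⟨hzS, Subgroup.mem_centralizer_iff.2 fun x hx => hzc x hx⟩, ?_⟩)
    simpa [hzp] using pow_orderOf_eq_one z
  · refine ⟨hdiv, fun T hT hT1 => ?_⟩
    obtain ⟨Q, hQ⟩ := hT.exists_le_sylow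
    obtain ⟨g, hg⟩ := LESylow.exists_conj_eq Q S
    set T' := T.map (MulAut.conj g).toMonoidHom with hT'
    have hT'S : T' ≤ (S : Subgroup G) := hg ▸ Subgroup.map_mono hQ
    have hT'1 : T' ≠ ⊥ := by
      rwa [hT', ne_eq, Subgroup.map_eq_bot_iff_of_injective _ (MulAut.conj g).injective]
    obtain ⟨z, hzT, hzp⟩ := LESylow.exists_orderOf_eq (LESylow.dvd_card_of_ne_bot (hT.map _ : IsPGroup p ↥T') hT'1)
    have h1 := CharP.isCharP_normalizer_of_mem (hT.map _ : IsPGroup p ↥T') hzT
      (LECharP.fstar_eq_iff.1 (h z (hT'S hzT) hzp))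
    rw [LECharP.normalizer_map_conj] at h1
    exact CharP.isCharP_congr (MulEquiv.symm
      ((Subgroup.normalizer (T : Set G)).equivMapOfInjective _ (MulAut.conj g).injective)) h1

end Cfsg.Agent.S2896

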