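import Cfsg.Statements.S2897
import Cfsg.Agent.Lib.LocalEven.CharPAux

set_option autoImplicit false
open Cfsg

namespace Cfsg.Agent.S2897

/-- Let p be a prime dividing the order of the finite group G, suppose G has parabolic characteristic p, let S be a Sylow p-subgroup of G and G₁ a normal subgroup of G. If Ω₁(Z(S ∩ G₁)) is nontrivial and contained in Ω₁(Z(S)), then G₁ has parabolic characteristic p. -/
theorem result {G : Type*} [Group G] [Finite G] {p : ℕ} [Fact p.Prime] (hdiv : p ∣ Nat.card G) (hG : Cfsg.IsOfParabolicCharacteristic p G) (S : Sylow p G) (G₁ : Subgroup G) [G₁.Normal] (hne : Cfsg.omegaOne p (((S : Subgroup G) ⊓ G₁) ⊓ Subgroup.centralizer (((S : Subgroup G) ⊓ G₁ : Subgroup G) : Set G)) ≠ ⊥) (hle : Cfsg.omegaOne p (((S : Subgroup G) ⊓ G₁) ⊓ Subgroup.centralizer (((S : Subgroup G) ⊓ G₁ : Subgroup G) : Set G)) ≤ Cfsg.omegaOne p ((S : Subgroup G) ⊓ Subgroup.centralizer ((S : Subgroup G) : Set G))) : Cfsg.IsOfParabolicCharacteristic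 p ↥G₁ := by
  obtain ⟨T, hT⟩ := PBasic.exists_sylow_subgroupOf S G₁
  refine LECharP.parabolic_of_centralizers T fun z hzT hzp hzc => ?_
  rw [hT, Subgroup.mem_subgroupOf] at hzT
  have hz : (z : G) ∈ Cfsg.omegaOne p (((S : Subgroup G) ⊓ G₁) ⊓ Subgroup.centralizer (((S : Subgroup G) ⊓ G₁ : Subgroup G) : Set G)) := by
    refine Subgroup.subset_closure ⟨Subgroup.mem_inf.2 ⟨Subgroup.mem_inf.2 ⟨hzT, z.2⟩,
      Subgroup.mem_centralizer_iff.2 fun x hx => ?_⟩, ?_⟩
    · exact congrArg Subtype.val (hzc ⟨x, (Subgroup.mem_inf.1 hx).2⟩ (by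
        rw [hT, Subgroup.mem_subgroupOf]; exact (Subgroup.mem_inf.1 hx).1))
    · simpa [hzp] using congrArg Subtype.val (pow_orderOf_eq_one z)
  have hzS : (z : G) ∈ (S : Subgroup G) ⊓ Subgroup.centralizer ((S : Subgroup G) : Set G) :=
    (Subgroup.closure_le _).2 (fun w hw => hw.1) (hle hz)
  have h1 : CharP.IsCharP p ↥(Subgroup.centralizer ({(z : G)} : Set G)) :=
    LECharP.centralizer_of_parabolic hG S (by rwa [Subgroup.orderOf_coe]) fun x hx =>
      Subgroup.mem_centralizer_singleton_iff.2 (Subgroup.mem_centralizer_iff.1 (Subgroup.mem_inf.1 hzS).2 x hx)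
  have h2 : (Subgroup.centralizer ({z} : Set ↥G₁)).map G₁.subtype =
      G₁ ⊓ Subgroup.centralizer ({(z : G)} : Set G) := by
    ext x
    simp only [Subgroup.mem_map, Subgroup.mem_inf, Subgroup.mem_centralizer_singleton_iff]
    constructor
    · rintro ⟨x, hx, rfl⟩; exact ⟨x.2, congrArg Subtype.val hx⟩
    · rintro ⟨hx, hc⟩; exact ⟨⟨x, hx⟩, Subtype.ext hc, rfl⟩
  have h3 : CharP.IsCharP p ↥(G₁ ⊓ Subgroup.centralizer ({(z : G)} : Set G)) := by
    refine CharP.isCharP_of_normalized h1 inf_le_right (Subgroup.le_normalizer_iff.2 fun g hg x hx => ?_)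
    exact Subgroup.mem_inf.2 ⟨(inferInstance : G₁.Normal).conj_mem x (Subgroup.mem_inf.1 hx).1 g,
      mul_mem (mul_mem hg (Subgroup.mem_inf.1 hx).2) (inv_mem hg)⟩
  rw [← h2] at h3
  exact CharP.isCharP_congr (MulEquiv.symm
    ((Subgroup.centralizer ({z} : Set ↥G₁)).equivMapOfInjective _ G₁.subtype_injective)) h3

end Cfsg.Agent.S2897

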