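import Cfsg.Statements.S2898
import Cfsg.Agent.Lib.LocalEven.CharPAux

set_option autoImplicit false
open Cfsg

namespace Cfsg.Agent.S2898

/-- Let G be a finite group of even order with parabolic characteristic 2. If the centre of G ⧸ O(G) is trivial, then O(G) = 1. -/
theorem result {G : Type*} [Group G] [Finite G] (h2 : 2 ∣ Nat.card G) (hG : Cfsg.IsOfParabolicCharacteristic 2 G) [hN : (Cfsg.oddCore G).Normal] (hZ : Subgroup.center (G ⧸ Cfsg.oddCore G) = ⊥) : Cfsg.oddCore G = ⊥ := by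
  haveI : Fact (Nat.Prime 2) := ⟨Nat.prime_two⟩
  obtain ⟨S⟩ : Nonempty (Sylow 2 G) := inferInstance
  set O := Cfsg.oddCore G with hO
  have hodd : (Nat.card ↥O).Coprime 2 := PBasic.pPrimeCore_coprime 2 G
  by_contra hO1
  -- a central involution of a Sylow subgroup inverts O
  have inv : ∀ z : G, z ∈ (S : Subgroup G) → orderOf z = 2 → (∀ x ∈ (S : Subgroup G), x * z = z * x) →
      ∀ x ∈ O, z * x * z⁻¹ = x⁻¹ := by
    intro z hzS hzp hzc
    have hC : CharP.IsCharP 2 ↥(Subgroup.centralizer ({z} : Set G)) :=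
      LECharP.centralizer_of_parabolic hG S hzp fun x hx =>
        Subgroup.mem_centralizer_singleton_iff.2 (hzc x hx)
    set C := Subgroup.centralizer ({z} : Set G) with hCdef
    have hfree : ∀ x ∈ O, z * x = x * z → x = 1 := by
      intro x hx hxz
      have hxC : x ∈ C := Subgroup.mem_centralizer_singleton_iff.2 hxz.symm
      refine (CharP.isCharP_iff C).1 hC x hxC (PBasic.coprime_orderOf_of_mem hodd hx) fun y hy => ?_
      have hyC : y ∈ C := CharP.opIn_le C hy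
      have h1 : x * y * x⁻¹ * y⁻¹ ∈ O ⊓ CharP.opIn 2 C := Subgroup.mem_inf.2 ⟨by
          rw [mul_assoc, mul_assoc]; exact mul_mem hx (by rw [← mul_assoc]; exact hN.conj_mem _ (inv_mem hx) y),
        mul_mem (CharP.conj_mem_opIn (Subgroup.le_normalizer hxC) hy) (inv_mem hy)⟩
      rw [PBasic.inf_eq_bot_of_coprime hodd (CharP.opIn_isPGroup C), Subgroup.mem_bot,
        mul_inv_eq_one, mul_inv_eq_iff_eq_mul] at h1
      exact h1
    intro x hx
    let f : ↥O → ↥O := fun y => ⟨(y : G)⁻¹ * (z * y * z⁻¹), mul_mem (inv_mem y.2) (hN.conj_mem _ y.2 z)⟩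
    have hinj : Function.Injective f := by
      intro a b hab
      have h1 : (a : G)⁻¹ * (z * a * z⁻¹) = (b : G)⁻¹ * (z * b * z⁻¹) := congrArg Subtype.val hab
      have h2 : (b : G) * (a : G)⁻¹ = 1 := by
        refine hfree _ (mul_mem b.2 (inv_mem a.2)) ?_
        calc z * ((b : G) * (a : G)⁻¹)
            = z * (b : G) * z⁻¹ * (z * (a : G) * z⁻¹)⁻¹ * z := by group
          _ = (b : G) * ((b : G)⁻¹ * (z * b * z⁻¹)) * ((a : G)⁻¹ * (z * a * z⁻¹))⁻¹ * (a : G)⁻¹ * z := by group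
          _ = (b : G) * (a : G)⁻¹ * z := by rw [h1]; group
      exact Subtype.ext (mul_inv_eq_one.1 h2).symm
    obtain ⟨y, hy⟩ := Finite.surjective_of_injective hinj ⟨x, hx⟩
    have hy' : (y : G)⁻¹ * (z * y * z⁻¹) = x := congrArg Subtype.val hy
    have hz2 : z * z = 1 := by rw [← pow_two, ← hzp, pow_orderOf_eq_one]
    calc z * x * z⁻¹ = z * (y : G)⁻¹ * z * (y : G) * (z * z)⁻¹ := by rw [← hy']; group
      _ = x⁻¹ := by rw [hz2, ← hy']; simp [mul_assoc, inv_eq_of_mul_eq_one_left hz2]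
  set C := Subgroup.centralizer (O : Set G) with hC
  haveI : C.Normal := Subgroup.normal_centralizer
  have hCodd : (Nat.card ↥C).Coprime 2 := by
    refine Nat.Coprime.symm ((Nat.prime_two).coprime_iff_not_dvd.2 fun hd => hO1 ?_)
    obtain ⟨T, hT⟩ := PBasic.exists_sylow_subgroupOf S C
    have hne : (S : Subgroup G) ⊓ C ≠ ⊥ := fun hb => T.ne_bot_of_dvd_card hd (by
      rw [hT, Subgroup.subgroupOf_eq_bot, disjoint_iff, hb])
    obtain ⟨z, hz, hzp, hzc⟩ := LECharP.exists_central_in_normal S.isPGroup' _ ((S : Subgroup G) ⊓ C) le_rfl inf_le_left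
      (Subgroup.le_normalizer_iff.2 fun g hg x hx => Subgroup.mem_inf.2
        ⟨mul_mem (mul_mem hg (Subgroup.mem_inf.1 hx).1) (inv_mem hg),
         (inferInstance : C.Normal).conj_mem x (Subgroup.mem_inf.1 hx).2 g⟩) hne
    obtain ⟨hzS, hzC⟩ := Subgroup.mem_inf.1 hz
    rw [Subgroup.eq_bot_iff_forall]
    intro x hx
    have h1 := inv z hzS hzp hzc x hx
    rw [← Subgroup.mem_centralizer_iff.1 hzC x hx, mul_inv_cancel_right] at h1
    have h2 : x ^ 2 = 1 := by rw [pow_two]; nth_rw 2 [h1]; exact mul_inv_cancel x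
    exact orderOf_eq_one_iff.1 (Nat.eq_one_of_dvd_coprimes
      (PBasic.coprime_orderOf_of_mem hodd hx) (dvd_refl _) (orderOf_dvd_of_pow_eq_one h2))
  have hCO : C ≤ O := PBasic.le_pPrimeCore inferInstance hCodd
  have hS1 : (S : Subgroup G) ≠ ⊥ := S.ne_bot_of_dvd_card h2
  obtain ⟨z, hzS, hzp, hzc⟩ := LESylow.exists_central_orderOf S.isPGroup' hS1
  have hiz := inv z hzS hzp hzc
  have hcent : (QuotientGroup.mk' O z) ∈ Subgroup.center (G ⧸ O) := by
    rw [Subgroup.mem_center_iff]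
    intro q
    obtain ⟨g, rfl⟩ := QuotientGroup.mk'_surjective O q
    rw [← map_mul, ← map_mul]
    apply QuotientGroup.eq.2
    apply hCO
    rw [Subgroup.mem_centralizer_iff]
    intro x hx
    have hx' : g⁻¹ * x * g ∈ O := by simpa using hN.conj_mem x hx g⁻¹
    have hzi : ∀ w ∈ O, z⁻¹ * w * z = w⁻¹ := fun w hw => by
      have h5 := hiz w⁻¹ (inv_mem hw)
      rw [inv_inv] at h5
      conv_lhs => rw [← h5]
      group
    have h3 : ((g * z)⁻¹ * (z * g)) * x * ((g * z)⁻¹ * (z * g))⁻¹ = x := by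
      calc ((g * z)⁻¹ * (z * g)) * x * ((g * z)⁻¹ * (z * g))⁻¹
          = z⁻¹ * (g⁻¹ * (z * (g * x * g⁻¹) * z⁻¹) * g) * z := by group
        _ = z⁻¹ * (g⁻¹ * (g * x * g⁻¹)⁻¹ * g) * z := by rw [hiz _ (hN.conj_mem x hx g)]
        _ = z⁻¹ * x⁻¹ * z := by group
        _ = x := by rw [hzi _ (inv_mem hx), inv_inv]
    exact (mul_inv_eq_iff_eq_mul.1 h3).symm
  rw [hZ, Subgroup.mem_bot, QuotientGroup.mk'_apply, QuotientGroup.eq_one_iff] at hcent
  have h4 := PBasic.coprime_orderOf_of_mem hodd hcent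
  rw [hzp] at h4
  norm_num at h4

end Cfsg.Agent.S2898

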