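import Cfsg.Statements.S2905
import Cfsg.Agent.Lib.LocalEven.PIrred
import Cfsg.Agent.Lib.LocalEven.Wielandt

set_option autoImplicit false
open Cfsg

namespace Cfsg.Agent.S2905

/-- Let P be a finite p-minimal group (a Sylow p-subgroup S is not normal and lies in a unique maximal subgroup M of P) and let F be the normal core of M. Then: every subnormal subgroup N of P contained in M satisfies N ∩ S ≤ O_p(P); if O^p(P) has a normal Sylow p-subgroup then the order of P has at most two prime divisors; every normal subgroup N of P either contains O^p(P) or is contained in F; and O^p(P)F ⧸ F is a minimal normal subgroup of P ⧸ F. -/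
theorem result {P : Type*} [Group P] [Finite P] {p : ℕ} [Fact p.Prime] (hP : Cfsg.IsPMinimal p P) (S : Sylow p P) (M : Subgroup P) (hM : IsCoatom M) (hSM : (S : Subgroup P) ≤ M) [hF : M.normalCore.Normal] : (∀ N : Subgroup P, N.IsSubnormal → N ≤ M → N ⊓ (S : Subgroup P) ≤ Cfsg.pCore p P) ∧ ((∀ T : Sylow p ↥(Cfsg.pResidual p P), (T : Subgroup ↥(Cfsg.pResidual p P)).Normal) → (Nat.card P).primeFactors.card ≤ 2) ∧ (∀ N : Subgroup P, N.Normal → Cfsg.pResidual p P ≤ N ∨ N ≤ M.normalCore) ∧ (∀ N : Subgroup P, N.Normal → M.normalCore ≤ N → N ≤ Cfsg.pResidual p P ⊔ M.normalCore → N = M.normalCore ∨ N = Cfsg.pResidual p P ⊔ M.normalCore) ∧ M.normalCore < Cfsg.pResidual p P ⊔ M.normalCore := by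
  have hmin := LEPIrred.isMinimalOver_of_isPMinimal hP S
  have huniq : ∀ K : Subgroup P, K ≠ ⊤ → (S : Subgroup P) ≤ K → K ≤ M :=
    fun K hK hSK => LEPIrred.le_uniqueMax hmin hM hSM hK hSK
  have hMn : ¬ M.Normal := fun h => hM.1 (LEPIrred.not_normal_le hmin hM h hSM)
  have hnormal : ∀ N : Subgroup P, N.Normal → N ≤ M → N ⊓ (S : Subgroup P) ≤ Cfsg.pCore p P := by
    intro N hN hNM
    haveI := hN
    exact (LEPIrred.normal_pClosed_iff S N).1 (LEPIrred.pClosed_of_sup_ne_top S hmin hM hSM
      fun h => hM.1 (top_le_iff.1 (h.ge.trans (sup_le hNM hSM))))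
  set R := Cfsg.pResidual p P with hR
  haveI hRn : R.Normal := LEBasic.pResidual_normal
  have hRM : ¬ R ≤ M := fun h => hM.1 (top_le_iff.1
    ((LEPIrred.sup_sylow_eq_top (le_refl R) S).ge.trans (sup_le h hSM)))
  have hdich : ∀ N : Subgroup P, N.Normal → R ≤ N ∨ N ≤ M.normalCore := by
    intro N hN
    haveI := hN
    by_cases htop : N ⊔ (S : Subgroup P) = ⊤
    · exact Or.inl (LEPIrred.pResidual_le_of_le_sup S.isPGroup' (htop ▸ le_top))
    · exact Or.inr (Subgroup.normal_le_normalCore.2 (le_sup_left.trans (huniq _ htop le_sup_right)))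
  refine ⟨?_, ?_, hdich, ?_, ?_⟩
  · intro N hNs hNM
    obtain ⟨J, hJ⟩ := (Set.toFinite {J : Subgroup P | J.IsSubnormal ∧ J ≤ M ∧ N ≤ J}).exists_maximal
      ⟨N, hNs, hNM, le_rfl⟩
    obtain ⟨hJs, hJM, hNJ⟩ := hJ.prop
    refine (inf_le_inf_right _ hNJ).trans (hnormal J ?_ hJM)
    by_contra hJn
    have hSN : (S : Subgroup P) ≤ Subgroup.normalizer (J : Set P) := by
      intro s hs
      rw [← LEBasic.map_conj_eq_iff_mem_normalizer]
      refine Subgroup.eq_of_le_of_card_ge ?_ (LEBasic.card_map_conj J s).ge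
      have h1 : J ⊔ J.map (MulAut.conj s).toMonoidHom ≤ J := by
        refine hJ.le_of_ge ⟨LEWielandt.sup hJs (hJs.map (MulAut.conj s).surjective), sup_le hJM ?_,
          hNJ.trans le_sup_left⟩ le_sup_left
        rintro _ ⟨j, hj, rfl⟩
        exact mul_mem (mul_mem (hSM hs) (hJM hj)) (inv_mem (hSM hs))
      exact le_sup_right.trans h1
    have hNJM : Subgroup.normalizer (J : Set P) ≤ M :=
      huniq _ (fun h => hJn (Subgroup.normalizer_eq_top_iff.1 h)) hSN
    rcases Subgroup.IsSubnormal.iff_eq_top_or_exists.1 hJs with h | ⟨K, hJK, hK, hn⟩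
    · exact hJn (h ▸ inferInstance)
    · have hKN : K ≤ Subgroup.normalizer (J : Set P) :=
        (Subgroup.normal_subgroupOf_iff_le_normalizer hJK.le).1 hn
      exact hJK.not_ge (hJ.le_of_ge ⟨hK, hKN.trans hNJM, hNJ.trans hJK.le⟩ hJK.le)
  · intro hTn
    obtain ⟨T⟩ : Nonempty (Sylow p ↥R) := inferInstance
    haveI := hTn T
    set T' := (T : Subgroup ↥R).map R.subtype with hT'
    have hTO : T' ≤ Cfsg.pCore p P := by
      refine le_trans (Subgroup.map_mono ?_) (LEBasic.pCoreMap_le_pCore (N := R))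
      exact LEBasic.le_pCore (hTn T) T.isPGroup'
    haveI hT'n : T'.Normal := ⟨fun t ht g => by
      obtain ⟨t₀, ht₀, rfl⟩ := ht
      have h1 : Cfsg.pCore p ↥R = (T : Subgroup ↥R) := LEPIrred.pCore_eq_of_normal_sylow (hTn T)
      haveI : (Cfsg.pCore p ↥R).Characteristic := LEBasic.pCore_characteristic
      haveI : ((Cfsg.pCore p ↥R).map R.subtype).Normal := inferInstance
      have h2 := (inferInstance : ((Cfsg.pCore p ↥R).map R.subtype).Normal).conj_mem _ ⟨t₀, h1 ▸ ht₀, rfl⟩ g
      rw [h1] at h2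
      exact h2⟩
    -- for each prime q, an S-invariant subgroup T Q
    have key : ∀ q : ℕ, q.Prime → ∃ Y : Subgroup P, T' ≤ Y ∧ Y ≤ R ∧
        (S : Subgroup P) ≤ Subgroup.normalizer (Y : Set P) ∧
        q ^ (Nat.card ↥R).factorization q ∣ Nat.card ↥Y ∧
        (Nat.card ↥Y).primeFactors ⊆ {p, q} := by
      intro q hq
      haveI := Fact.mk hq
      obtain ⟨Q⟩ : Nonempty (Sylow q ↥R) := inferInstance
      set Q' := (Q : Subgroup ↥R).map R.subtype with hQ'
      set X₀ := T' ⊔ Q' with hX₀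
      have hX₀R : X₀ ≤ R := sup_le (Subgroup.map_subtype_le _) (Subgroup.map_subtype_le _)
      have hF := Sylow.normalizer_sup_eq_top Q
      have hNX : Subgroup.normalizer (Q' : Set P) ≤ Subgroup.normalizer (X₀ : Set P) := fun g hg => by
        rw [← LEBasic.map_conj_eq_iff_mem_normalizer, hX₀, Subgroup.map_sup,
          LEBasic.map_conj_eq_iff_mem_normalizer.2 hg,
          LEBasic.map_conj_eq_iff_mem_normalizer.2 (by rw [Subgroup.normalizer_eq_top_iff.2 hT'n]; trivial)]
      have htop : R ⊔ Subgroup.normalizer (X₀ : Set P) = ⊤ :=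
        top_le_iff.1 (hF.ge.trans (sup_le (hNX.trans le_sup_right) le_sup_left))
      have hidx : ¬ p ∣ (Subgroup.normalizer (X₀ : Set P)).index := by
        rw [← Subgroup.relIndex_top_right, ← htop, ← PBasic.relIndex_eq_relIndex_sup]
        intro h
        refine T.not_dvd_index (h.trans ?_)
        have hle : T' ≤ Subgroup.normalizer (X₀ : Set P) := le_sup_left.trans Subgroup.le_normalizer
        have := Subgroup.relIndex_dvd_of_le_left R hle
        rw [hT'] at this
        simp only [Subgroup.relIndex, Subgroup.subgroupOf] at this ⊢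
        rwa [Subgroup.comap_map_eq_self_of_injective R.subtype_injective] at this
      obtain ⟨S', hS'⟩ := LEPIrred.exists_sylow_le hidx
      obtain ⟨g, hg⟩ := LESylow.exists_conj_eq S' S
      refine ⟨X₀.map (MulAut.conj g).toMonoidHom, ?_, ?_, ?_, ?_, ?_⟩
      · rw [hX₀, Subgroup.map_sup,
          LEBasic.map_conj_eq_iff_mem_normalizer.2 (by rw [Subgroup.normalizer_eq_top_iff.2 hT'n]; trivial)]
        exact le_sup_left
      · refine (Subgroup.map_mono hX₀R).trans (le_of_eq ?_)
        exact LEBasic.map_conj_eq_iff_mem_normalizer.2 (by rw [Subgroup.normalizer_eq_top_iff.2 hRn]; trivial)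
      · rw [← hg]
        rintro _ ⟨s, hs, rfl⟩
        exact Subgroup.le_normalizer_map _ ⟨s, hS' hs, rfl⟩
      · rw [LEBasic.card_map_conj, ← Q.card_eq_multiplicity,
          ← Subgroup.card_subtype R (Q : Subgroup ↥R)]
        exact Subgroup.card_dvd_of_le le_sup_right
      · rw [LEBasic.card_map_conj, hX₀]
        have hc : Nat.card ↥(T' ⊔ Q') ∣ Nat.card ↥T' * Nat.card ↥Q' := by
          rw [← PBasic.card_mul_relIndex (le_sup_left : T' ≤ T' ⊔ Q'), Subgroup.relIndex_sup_left]
          exact Nat.mul_dvd_mul_left _ (Subgroup.relIndex_dvd_card _ _)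
        refine (Nat.primeFactors_mono hc (mul_pos Nat.card_pos Nat.card_pos).ne').trans ?_
        obtain ⟨a, ha⟩ := (T.isPGroup'.map R.subtype).exists_card_eq
        obtain ⟨b, hb⟩ := (Q.isPGroup'.map R.subtype).exists_card_eq
        intro r hr
        rw [Nat.mem_primeFactors] at hr
        obtain ⟨hr, hdvd, -⟩ := hr
        rw [hT', hQ', ha, hb] at hdvd
        rcases hr.dvd_mul.1 hdvd with h | h
        · simp [(Nat.prime_dvd_prime_iff_eq hr Fact.out).1 (hr.dvd_of_dvd_pow h)]
        · simp [(Nat.prime_dvd_prime_iff_eq hr hq).1 (hr.dvd_of_dvd_pow h)]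
    by_cases hex : ∃ q : ℕ, q.Prime ∧ ∃ Y : Subgroup P, T' ≤ Y ∧ (S : Subgroup P) ≤ Subgroup.normalizer (Y : Set P) ∧
        (Nat.card ↥Y).primeFactors ⊆ {p, q} ∧ Y ⊔ (S : Subgroup P) = ⊤
    · obtain ⟨q, hq, Y, -, hSY, hYpf, htop⟩ := hex
      haveI : Y.Normal := Subgroup.normalizer_eq_top_iff.1
        (top_le_iff.1 (htop.ge.trans (sup_le Subgroup.le_normalizer hSY)))
      have hc : Nat.card P ∣ Nat.card ↥Y * Nat.card ↥(S : Subgroup P) := by
        rw [← Subgroup.card_top (G := P), ← htop,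
          ← PBasic.card_mul_relIndex (le_sup_left : Y ≤ Y ⊔ (S : Subgroup P)), Subgroup.relIndex_sup_left]
        exact Nat.mul_dvd_mul_left _ (Subgroup.relIndex_dvd_card _ _)
      refine (Finset.card_le_card (?_ : (Nat.card P).primeFactors ⊆ {p, q})).trans Finset.card_le_two
      refine (Nat.primeFactors_mono hc (mul_pos Nat.card_pos Nat.card_pos).ne').trans ?_
      rw [Nat.primeFactors_mul Nat.card_pos.ne' Nat.card_pos.ne']
      refine Finset.union_subset hYpf ?_
      obtain ⟨a, ha⟩ := S.isPGroup'.exists_card_eq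
      intro r hr
      rw [Nat.mem_primeFactors, ha] at hr
      simp [(Nat.prime_dvd_prime_iff_eq hr.1 Fact.out).1 (hr.1.dvd_of_dvd_pow hr.2.1)]
    · exfalso
      push Not at hex
      refine hRM fun x hx => ?_
      have hle : Nat.card ↥R ∣ Nat.card ↥(R ⊓ M) := by
        refine (Nat.factorization_le_iff_dvd Nat.card_pos.ne' Nat.card_pos.ne').1 fun q => ?_
        by_cases hq : q.Prime
        · obtain ⟨Y, hTY, hYR, hSY, hYd, hYpf⟩ := key q hq
          have hYM : Y ≤ M := le_sup_left.trans (huniq _ (hex q hq Y hTY hSY hYpf) le_sup_right)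
          exact (hq.pow_dvd_iff_le_factorization Nat.card_pos.ne').1
            (hYd.trans (Subgroup.card_dvd_of_le (le_inf hYR hYM)))
        · simp [Nat.factorization_eq_zero_of_not_prime _ hq]
      have heq : R ⊓ M = R :=
        Subgroup.eq_of_le_of_card_ge inf_le_left (Nat.le_of_dvd Nat.card_pos hle)
      exact (Subgroup.mem_inf.1 (heq.ge hx)).2
  · intro N hN hFN hNR
    rcases hdich N hN with h | h
    · exact Or.inr (le_antisymm hNR (sup_le h hFN))
    · exact Or.inl (le_antisymm h hFN)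
  · refine lt_of_le_of_ne le_sup_right fun h => hRM ?_
    exact (h ▸ le_sup_left).trans M.normalCore_le

end Cfsg.Agent.S2905

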