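import Cfsg.Statements.S2907


set_option autoImplicit false
open Cfsg
open scoped commutatorElement

namespace Cfsg.Agent.S2907

/-- Let X be a finite semi-extraspecial p-group and x an element of X outside the centre. Then the index of C_X(x) in X equals the order of Z(X), and the commutators [x, y], y ∈ X, form exactly the centre Z(X). -/
theorem result {X : Type*} [Group X] [Finite X] {p : ℕ} [Fact p.Prime] (hX : Cfsg.IsSemiExtraspecial p X) (x : X) (hx : x ∉ Subgroup.center X) : (Subgroup.centralizer ({x} : Set X)).index = Nat.card ↥(Subgroup.center X) ∧ {z : X | ∃ y : X, z = x * y * x⁻¹ * y⁻¹} = (Subgroup.center X : Set X) := by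
  classical
  obtain ⟨⟨hp, hF, hD⟩, hq⟩ := hX
  have hc : ∀ a b : X, ⁅a, b⁆ ∈ Subgroup.center X := fun a b => by
    rw [← hD, commutator_def]
    exact Subgroup.commutator_mem_commutator (Subgroup.mem_top a) (Subgroup.mem_top b)
  let φ : X →* ↥(Subgroup.center X) :=
    { toFun := fun y => ⟨⁅x, y⁆, hc x y⟩
      map_one' := by ext; simp
      map_mul' := fun a b => by
        ext
        show ⁅x, a * b⁆ = ⁅x, a⁆ * ⁅x, b⁆
        rw [commutatorElement_mul_right_eq_mul_conj, mul_assoc ⁅x, a⁆, mul_assoc ⁅x, a⁆,
          Subgroup.mem_center_iff.1 (hc x b) a, mul_inv_cancel_right] }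
  have hφ : Function.Surjective φ := by
    rw [← MonoidHom.range_eq_top]
    by_contra hne
    obtain ⟨Y', hY', hle⟩ := (eq_top_or_exists_le_coatom φ.range).resolve_left hne
    set Y : Subgroup X := Y'.map (Subgroup.center X).subtype with hYdef
    have hYZ : Y ≤ Subgroup.center X := Subgroup.map_subtype_le _
    have hsub : Y.subgroupOf (Subgroup.center X) = Y' :=
      Subgroup.comap_map_eq_self_of_injective (Subgroup.center X).subtype_injective _
    obtain ⟨hYn, ⟨-, -, -⟩, hcard⟩ := hq Y hYZ (hsub.symm ▸ hY')
    set π := QuotientGroup.mk' Y with hπ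
    have himg : (Subgroup.center X).map π ≤ Subgroup.center (X ⧸ Y) := by
      rintro _ ⟨z, hz, rfl⟩
      rw [Subgroup.mem_center_iff]
      intro g
      induction g using QuotientGroup.induction_on with
      | H a => show π a * π z = π z * π a; rw [← map_mul, ← map_mul, Subgroup.mem_center_iff.1 hz a]
    have heq : (Subgroup.center X).map π = Subgroup.center (X ⧸ Y) := by
      refine Subgroup.eq_of_le_of_card_ge himg ?_
      rw [hcard]
      have hd : Nat.card ↥((Subgroup.center X).map π) ∣ p := hcard ▸ Subgroup.card_dvd_of_le himg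
      rcases (Nat.Prime.eq_one_or_self_of_dvd (Fact.out : p.Prime) _ hd) with h1 | h1
      · exfalso
        have hb : (Subgroup.center X).map π = ⊥ := Subgroup.eq_bot_of_card_eq _ h1
        rw [Subgroup.map_eq_bot_iff, QuotientGroup.ker_mk'] at hb
        exact hY'.1 (hsub ▸ Subgroup.subgroupOf_eq_top.2 hb)
      · exact h1.ge
    have hxc : π x ∈ Subgroup.center (X ⧸ Y) := by
      rw [Subgroup.mem_center_iff]
      intro g
      induction g using QuotientGroup.induction_on with
      | H a =>
        show π a * π x = π x * π a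
        have : π ⁅x, a⁆ = 1 := (QuotientGroup.eq_one_iff _).2 ⟨φ a, hle ⟨a, rfl⟩, rfl⟩
        rw [map_commutatorElement, commutatorElement_eq_one_iff_mul_comm] at this
        exact this.symm
    rw [← heq] at hxc
    obtain ⟨z, hz, hzx⟩ := hxc
    have : z⁻¹ * x ∈ Y := (QuotientGroup.eq).1 hzx
    exact hx (by simpa using mul_mem hz (hYZ this))
  have hker : φ.ker = Subgroup.centralizer ({x} : Set X) := by
    ext y
    rw [MonoidHom.mem_ker, Subgroup.mem_centralizer_singleton_iff, ← Subtype.val_inj]
    show ⁅x, y⁆ = 1 ↔ y * x = x * y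
    rw [commutatorElement_eq_one_iff_mul_comm]
    exact eq_comm
  refine ⟨?_, ?_⟩
  · rw [← hker, Subgroup.index_ker, MonoidHom.range_eq_top.2 hφ, Subgroup.card_top]
  · ext z
    constructor
    · rintro ⟨y, rfl⟩; exact hc x y
    · intro hz
      obtain ⟨y, hy⟩ := hφ ⟨z, hz⟩
      exact ⟨y, ((congrArg Subtype.val hy).symm).trans (commutatorElement_def x y)⟩

end Cfsg.Agent.S2907
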