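import Cfsg.Statements.S2908
import Cfsg.Agent.Lib.LocalEven.Coprime

set_option autoImplicit false
open Cfsg
open scoped commutatorElement

namespace Cfsg.Agent.S2908

/-- Let P be a p-subgroup of a finite group, normalized by a p-subgroup A and by a subgroup B of order prime to p that commutes elementwise with A. If [P, B] ≤ [P, A], then B centralizes P. -/
theorem result {G : Type*} [Group G] [Finite G] {p : ℕ} [Fact p.Prime] (P A B : Subgroup G) (hP : IsPGroup p ↥P) (hA : IsPGroup p ↥A) (hB : ¬ p ∣ Nat.card ↥B) (hnA : A ≤ Subgroup.normalizer (P : Set G)) (hnB : B ≤ Subgroup.normalizer (P : Set G)) (hAB : ⁅A, B⁆ = ⊥) (hcomm : ⁅P, B⁆ ≤ ⁅P, A⁆) : ⁅P, B⁆ = ⊥ := by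
  have hX1 : ⁅P, B⁆ ≤ P := Subgroup.le_normalizer_iff_commutator_le_left.1 hnB
  set X := ⁅P, B⁆ with hX
  set N := ⁅X, A ⊔ P⁆ with hN
  have hAcB : A ≤ Subgroup.centralizer (B : Set G) := Subgroup.commutator_eq_bot_iff_le_centralizer.1 hAB
  have hBcA : B ≤ Subgroup.centralizer (A : Set G) := by
    rw [← Subgroup.commutator_eq_bot_iff_le_centralizer, Subgroup.commutator_comm]; exact hAB
  have hBN : B ≤ Subgroup.normalizer (N : Set G) := by
    intro b hb
    rw [← LEBasic.map_conj_eq_iff_mem_normalizer, hN, Subgroup.map_commutator, Subgroup.map_sup,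
      LEBasic.map_conj_eq_iff_mem_normalizer.2 (Subgroup.normalizer_commutator_ge_right P B hb),
      LEBasic.map_conj_eq_iff_mem_normalizer.2 (hnB hb),
      LEBasic.map_conj_eq_iff_mem_normalizer.2 (Subgroup.centralizer_le_normalizer _ (hBcA hb))]
  have hAPN : A ⊔ P ≤ Subgroup.normalizer (N : Set G) := Subgroup.normalizer_commutator_ge_right _ _
  have cN : ∀ {g : G}, g ∈ Subgroup.normalizer (N : Set G) → ∀ {n : G}, n ∈ N → g * n * g⁻¹ ∈ N :=
    fun {g} hg {n} hn => (Subgroup.mem_normalizer_iff.1 hg n).1 hn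
  have key : ⁅⁅P, A⁆, B⁆ ≤ N := by
    rw [Subgroup.commutator_le]
    intro g hg b hb
    induction hg using Subgroup.closure_induction with
    | mem g hg =>
      obtain ⟨x, hx, a, ha, rfl⟩ := hg
      have h3 : ⁅⁅a⁻¹, b⁆, x⁻¹⁆ = 1 := by
        rw [((show Commute a⁻¹ b from
          (Subgroup.mem_centralizer_iff.1 (hAcB (inv_mem ha)) b hb).symm).commutator_eq)]
        simp
      have h2 : ⁅⁅b⁻¹, x⁻¹⁆, a⁆ ∈ N := by
        refine Subgroup.commutator_mem_commutator ?_ (Subgroup.mem_sup_left ha)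
        rw [hX, Subgroup.commutator_comm]
        exact Subgroup.commutator_mem_commutator (inv_mem hb) (inv_mem hx)
      have hw := conj_commutatorElement_left_commutatorElement_mul x⁻¹ a b
      rw [inv_inv, h3] at hw
      simp only [mul_one, mul_inv_cancel_right] at hw
      have hq : b * ⁅⁅b⁻¹, x⁻¹⁆, a⁆ * b⁻¹ ∈ N := cN (hBN hb) h2
      set c := ⁅⁅x, a⁆, b⁆
      set d := ⁅⁅b⁻¹, x⁻¹⁆, a⁆
      have hc : c = x * (b * d * b⁻¹)⁻¹ * x⁻¹ := by
        calc c = x * ((x⁻¹ * c * x * b * d * b⁻¹) * (b * d * b⁻¹)⁻¹) * x⁻¹ := by simp [mul_assoc]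
          _ = x * (b * d * b⁻¹)⁻¹ * x⁻¹ := by rw [hw, one_mul]
      rw [hc]
      exact cN (hAPN (Subgroup.mem_sup_right hx)) (inv_mem hq)
    | one => simp
    | mul x y hxm _ hx hy =>
      rw [commutatorElement_mul_left_eq_conj_mul]
      refine mul_mem (cN (hAPN ?_) hy) hx
      exact (sup_comm P A ▸ (Subgroup.commutator_le.2 fun p hp a ha => mul_mem (mul_mem (mul_mem
        (Subgroup.mem_sup_left hp) (Subgroup.mem_sup_right ha)) (Subgroup.mem_sup_left (inv_mem hp)))
        (Subgroup.mem_sup_right (inv_mem ha))) : ⁅P, A⁆ ≤ A ⊔ P) hxm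
    | inv x hxm hx =>
      rw [commutatorElement_inv_left]
      have h' : x⁻¹ ∈ A ⊔ P := inv_mem ((sup_comm P A ▸ (Subgroup.commutator_le.2 fun p hp a ha => mul_mem (mul_mem (mul_mem
        (Subgroup.mem_sup_left hp) (Subgroup.mem_sup_right ha)) (Subgroup.mem_sup_left (inv_mem hp)))
        (Subgroup.mem_sup_right (inv_mem ha))) : ⁅P, A⁆ ≤ A ⊔ P) hxm)
      have := cN (hAPN h') (inv_mem hx)
      rw [commutatorElement_inv] at this
      simpa using this
  refine LEBasic.eq_bot_of_le_commutator (P := A ⊔ P)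
    (IsPGroup.to_sup_of_normal_right' hA hP hnA) (hX1.trans le_sup_right) ?_
  calc X = ⁅X, B⁆ := (LECoprime.commutator_commutator_eq hP hB hnB).symm
    _ ≤ ⁅⁅P, A⁆, B⁆ := Subgroup.commutator_mono hcomm le_rfl
    _ ≤ N := key

end Cfsg.Agent.S2908
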