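import Cfsg.Statements.S2909
import Cfsg.Agent.Lib.Techniques.CharP
import Cfsg.Agent.Lib.Solvable.Coprime
import Cfsg.Agent.S2908
import Cfsg.Agent.Lib.LocalEven.Basic

set_option autoImplicit false
open Cfsg
open scoped commutatorElement

namespace Cfsg.Agent.S2909

/-- Let p be a prime, E a normal p-subgroup of the finite group G, and U a non-cyclic elementary abelian p-subgroup of G such that either C_E(U) = C_E(u) for every nontrivial u ∈ U, or [E, U] = [E, ⟨u⟩] for every nontrivial u ∈ U. If R is a subgroup of order prime to p normalized by U, then [R, U] centralizes E. -/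
theorem result {G : Type*} [Group G] [Finite G] {p : ℕ} [Fact p.Prime] (E : Subgroup G) [E.Normal] (hE : IsPGroup p ↥E) (U : Subgroup G) (hU : Cfsg.IsElementaryAbelian p U) (hnc : ¬ IsCyclic ↥U) (hcond : (∀ u ∈ U, u ≠ 1 → E ⊓ Subgroup.centralizer (U : Set G) = E ⊓ Subgroup.centralizer ({u} : Set G)) ∨ (∀ u ∈ U, u ≠ 1 → ⁅E, U⁆ = ⁅E, Subgroup.zpowers u⁆)) (R : Subgroup G) (hR : ¬ p ∣ Nat.card ↥R) (hRU : U ≤ Subgroup.normalizer (R : Set G)) : ⁅R, U⁆ ≤ Subgroup.centralizer (E : Set G) := by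
  haveI := hU.1
  have hUp : IsPGroup p ↥U := fun a => ⟨1, Subtype.ext (by simpa using hU.2 a a.2)⟩
  have hcop : (Nat.card ↥U).Coprime (Nat.card ↥R) := by
    obtain ⟨k, hk⟩ := hUp.exists_card_eq
    rw [hk]
    exact Nat.Coprime.pow_left k ((Fact.out : p.Prime).coprime_iff_not_dvd.2 hR)
  have hgen := CoprimeAct.generated_by_centralizers hnc hRU hcop
  set C := Subgroup.centralizer (E : Set G) with hC
  haveI : C.Normal := Subgroup.normal_centralizer
  have hUcomm : ∀ a ∈ U, ∀ b ∈ U, a * b = b * a := fun a ha b hb =>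
    congrArg Subtype.val (IsMulCommutative.is_comm.comm (⟨a, ha⟩ : ↥U) ⟨b, hb⟩)
  -- the elements r with [r, U] inside C(E)
  let M : Subgroup G := ((Subgroup.centralizer ((U.map (QuotientGroup.mk' C) : Subgroup (G ⧸ C)) : Set (G ⧸ C))).comap (QuotientGroup.mk' C))
  have hM : ∀ r : G, (∀ w ∈ U, ⁅r, w⁆ ∈ C) → r ∈ M := by
    intro r hr
    simp only [M, Subgroup.mem_comap]
    rw [Subgroup.mem_centralizer_iff]
    rintro _ ⟨w, hw, rfl⟩
    rw [eq_comm, ← commutatorElement_eq_one_iff_mul_comm, ← map_commutatorElement,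
      QuotientGroup.mk'_apply, QuotientGroup.eq_one_iff]
    exact hr w hw
  have hMR : R ≤ M := by
    conv_lhs => rw [← hgen]
    refine iSup₂_le fun u hu x hx => hM x fun w hw => ?_
    obtain ⟨hu, hu1⟩ := hu
    obtain ⟨hxR, hxu⟩ := Subgroup.mem_inf.1 hx
    rw [Subgroup.mem_centralizer_singleton_iff] at hxu
    have hwu : w * u = u * w := hUcomm w hw u hu
    have hyu : ⁅x, w⁆ * u = u * ⁅x, w⁆ :=
      ((Commute.mul_left (Commute.mul_left (Commute.mul_left hxu hwu) (Commute.inv_left hxu))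
        (Commute.inv_left hwu)) : Commute (x * w * x⁻¹ * w⁻¹) u)
    have hyR : ⁅x, w⁆ ∈ R := by
      have := mul_mem hxR ((Subgroup.mem_normalizer_iff.1 (hRU hw) x⁻¹).1 (inv_mem hxR))
      simpa [commutatorElement_def, mul_assoc] using this
    have hyc : (orderOf ⁅x, w⁆).Coprime p :=
      Nat.Coprime.coprime_dvd_left (Subgroup.orderOf_dvd_natCard R hyR)
        ((Fact.out : p.Prime).coprime_iff_not_dvd.2 hR).symm
    have hEn : ∀ g : G, g ∈ Subgroup.normalizer (E : Set G) := fun g => by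
      rw [Subgroup.normalizer_eq_top_iff.2 inferInstance]; trivial
    have hup : IsPGroup p ↥(Subgroup.zpowers u) := hUp.to_le (Subgroup.zpowers_le.2 hu)
    rw [Subgroup.mem_centralizer_iff]
    rcases hcond with h1 | h2
    · intro e he
      refine (CharP.pxq hE hup (fun g _ => hEn g) hyc (hEn _) (fun t ht => ?_) (fun r hr hru => ?_) e he).symm
      · obtain ⟨k, rfl⟩ := Subgroup.mem_zpowers_iff.1 ht
        exact (Commute.zpow_right hyu k : Commute _ _)
      · have hr' : r ∈ E ⊓ Subgroup.centralizer ({u} : Set G) :=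
          Subgroup.mem_inf.2 ⟨hr, Subgroup.mem_centralizer_singleton_iff.2 (hru u (Subgroup.mem_zpowers u))⟩
        have hrU : ∀ t ∈ U, t * r = r * t := by
          rw [← h1 u hu hu1] at hr'
          exact Subgroup.mem_centralizer_iff.1 (Subgroup.mem_inf.1 hr').2
        have hxr : x⁻¹ * r * x ∈ E ⊓ Subgroup.centralizer ({u} : Set G) := by
          refine Subgroup.mem_inf.2 ⟨by simpa using (inferInstance : E.Normal).conj_mem r hr x⁻¹, ?_⟩
          rw [Subgroup.mem_centralizer_singleton_iff]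
          exact (Commute.mul_left (Commute.mul_left (Commute.inv_left hxu) (hru u (Subgroup.mem_zpowers u)))
            hxu : Commute (x⁻¹ * r * x) u)
        have hxr' : w * (x⁻¹ * r * x) = x⁻¹ * r * x * w := by
          rw [← h1 u hu hu1] at hxr
          exact Subgroup.mem_centralizer_iff.1 (Subgroup.mem_inf.1 hxr).2 w hw
        calc ⁅x, w⁆ * r = x * w * x⁻¹ * (w⁻¹ * r) := by simp [commutatorElement_def, mul_assoc]
          _ = x * w * x⁻¹ * (r * w⁻¹) := by
              rw [show w⁻¹ * r = r * w⁻¹ from (Commute.inv_left (hrU w hw) : Commute w⁻¹ r)]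
          _ = x * (w * (x⁻¹ * r * x)) * x⁻¹ * w⁻¹ := by simp [mul_assoc]
          _ = x * (x⁻¹ * r * x * w) * x⁻¹ * w⁻¹ := by rw [hxr']
          _ = r * ⁅x, w⁆ := by simp [commutatorElement_def, mul_assoc]
    · set A := Subgroup.zpowers u with hA
      set B := Subgroup.zpowers ⁅x, w⁆ with hB
      set D := ⁅E, A⁆ with hD
      have hcm : ∀ e ∈ E, ∀ t ∈ U, ⁅e, t⁆ ∈ D := fun e he t ht =>
        (h2 u hu hu1).le (Subgroup.commutator_mem_commutator he ht)
      have hxD : x ∈ Subgroup.normalizer (D : Set G) := by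
        rw [← LEBasic.map_conj_eq_iff_mem_normalizer, hD, Subgroup.map_commutator,
          LEBasic.map_conj_eq_iff_mem_normalizer.2 (hEn x)]
        congr 1
        rw [hA, MonoidHom.map_zpowers]
        congr 1
        show x * u * x⁻¹ = u
        rw [hxu, mul_inv_cancel_right]
      have hwD : w ∈ Subgroup.normalizer (D : Set G) := by
        rw [hD, ← h2 u hu hu1]
        exact Subgroup.normalizer_commutator_ge_right E U hw
      have hDE : D ≤ E := Subgroup.le_normalizer_iff_commutator_le_left.1 fun g _ => hEn g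
      have hDn : E ≤ Subgroup.normalizer (D : Set G) := Subgroup.normalizer_commutator_ge_left E A
      let φ : ↥(Subgroup.normalizer (D : Set G)) →* (↥(Subgroup.normalizer (D : Set G)) ⧸ D.subgroupOf (Subgroup.normalizer (D : Set G))) :=
        QuotientGroup.mk' _
      have hφE : ∀ (e : G) (he : e ∈ E), φ ⟨⁅x, w⁆, mul_mem (mul_mem (mul_mem hxD hwD) (inv_mem hxD)) (inv_mem hwD)⟩ * φ ⟨e, hDn he⟩ = φ ⟨e, hDn he⟩ * φ ⟨⁅x, w⁆, mul_mem (mul_mem (mul_mem hxD hwD) (inv_mem hxD)) (inv_mem hwD)⟩ := by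
        have hw' : ∀ (e : G) (he : e ∈ E), φ ⟨w, hwD⟩ * φ ⟨e, hDn he⟩ = φ ⟨e, hDn he⟩ * φ ⟨w, hwD⟩ := by
          intro e he
          rw [eq_comm, ← commutatorElement_eq_one_iff_mul_comm, ← map_commutatorElement]
          refine (QuotientGroup.eq_one_iff _).2 ?_
          exact hcm e he w hw
        intro e he
        have he' : x⁻¹ * e * x ∈ E := by simpa using (inferInstance : E.Normal).conj_mem e he x⁻¹
        have h3 := hw' _ he'
        have h4 := hw' e he
        have ey : (⟨⁅x, w⁆, mul_mem (mul_mem (mul_mem hxD hwD) (inv_mem hxD)) (inv_mem hwD)⟩ : ↥(Subgroup.normalizer (D : Set G))) = ⟨x, hxD⟩ * ⟨w, hwD⟩ * ⟨x, hxD⟩⁻¹ * ⟨w, hwD⟩⁻¹ := Subtype.ext rfl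
        have ee : φ ⟨x⁻¹ * e * x, hDn he'⟩ = (φ ⟨x, hxD⟩)⁻¹ * φ ⟨e, hDn he⟩ * φ ⟨x, hxD⟩ := by
          rw [← map_inv, ← map_mul, ← map_mul]; rfl
        rw [ee] at h3
        simp only [ey, map_mul, map_inv]
        generalize φ ⟨x, hxD⟩ = a at h3 ⊢
        generalize φ ⟨w, hwD⟩ = b at h3 h4 ⊢
        generalize φ ⟨e, hDn he⟩ = c at h3 h4 ⊢
        have h4' : b⁻¹ * c = c * b⁻¹ := (Commute.inv_left h4 : Commute b⁻¹ c)
        calc a * b * a⁻¹ * b⁻¹ * c = a * b * a⁻¹ * (b⁻¹ * c) := by group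
          _ = a * b * a⁻¹ * (c * b⁻¹) := by rw [h4']
          _ = a * (b * (a⁻¹ * c * a)) * a⁻¹ * b⁻¹ := by group
          _ = a * (a⁻¹ * c * a * b) * a⁻¹ * b⁻¹ := by rw [h3]
          _ = c * (a * b * a⁻¹ * b⁻¹) := by group
      have hcommle : ⁅E, B⁆ ≤ ⁅E, A⁆ := by
        rw [Subgroup.commutator_le]
        intro e he b hb
        obtain ⟨k, rfl⟩ := Subgroup.mem_zpowers_iff.1 hb
        have h5 : φ ⁅(⟨e, hDn he⟩ : ↥(Subgroup.normalizer (D : Set G))), (⟨⁅x, w⁆, mul_mem (mul_mem (mul_mem hxD hwD) (inv_mem hxD)) (inv_mem hwD)⟩ : ↥(Subgroup.normalizer (D : Set G))) ^ k⁆ = 1 := by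
          rw [map_commutatorElement, map_zpow, commutatorElement_eq_one_iff_mul_comm]
          exact ((show Commute _ _ from hφE e he).zpow_left k).symm
        have h6 := (QuotientGroup.eq_one_iff _).1 h5
        simpa [Subgroup.mem_subgroupOf, commutatorElement_def] using h6
      have hB' : ¬ p ∣ Nat.card ↥B := by
        rw [hB, Nat.card_zpowers]
        exact (Fact.out : p.Prime).coprime_iff_not_dvd.1 hyc.symm
      have hAB : ⁅A, B⁆ = ⊥ := by
        rw [Subgroup.commutator_eq_bot_iff_le_centralizer, hA, Subgroup.zpowers_le, hB,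
          Subgroup.zpowers_eq_closure, Subgroup.centralizer_closure, Subgroup.mem_centralizer_singleton_iff]
        exact hyu.symm
      have h7 := S2908.result E A B hE hup hB' (fun g _ => hEn g) (fun g _ => hEn g) hAB hcommle
      rw [Subgroup.commutator_comm, Subgroup.commutator_eq_bot_iff_le_centralizer] at h7
      exact Subgroup.mem_centralizer_iff.1 (h7 (Subgroup.mem_zpowers _))
  rw [Subgroup.commutator_le]
  intro r hr w hw
  have := Subgroup.mem_centralizer_iff.1 (hMR hr) _ ⟨w, hw, rfl⟩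
  rw [eq_comm, ← commutatorElement_eq_one_iff_mul_comm, ← map_commutatorElement] at this
  exact (QuotientGroup.eq_one_iff _).1 this

end Cfsg.Agent.S2909

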