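import Cfsg.Statements.S2911
import Cfsg.Agent.S2872
import Cfsg.Agent.Lib.LocalEven.Frattini
import Cfsg.Agent.Lib.LocalEven.Basic
import Cfsg.Agent.Lib.LocalEven.SylowAux
import Cfsg.Agent.Lib.Transfer.Basic
import Cfsg.Agent.Lib.Transfer.PGroup

set_option autoImplicit false
open Cfsg

namespace Cfsg.Agent.S2911

abbrev Mdl := Multiplicative (ZMod 2) × DihedralGroup 4
abbrev z0 : Mdl := (1, DihedralGroup.r 2)
abbrev e0 : Mdl := (Multiplicative.ofAdd 1, DihedralGroup.r 0)

theorem fsq : ∀ x : Mdl, x * x = 1 ∨ x * x = z0 := by decide +kernel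
theorem fcom : ∀ x y : Mdl, x * y * x⁻¹ * y⁻¹ = 1 ∨ x * y * x⁻¹ * y⁻¹ = z0 := by decide +kernel
theorem fz : ((1, DihedralGroup.r 1) : Mdl) * (1, DihedralGroup.r 1) = z0 := by decide +kernel
theorem fz1 : z0 ≠ 1 := by decide +kernel
theorem fzz : z0 * z0 = 1 := by decide +kernel
theorem fe : ∀ x : Mdl, x * e0 = e0 * x := by decide +kernel
theorem fe2 : e0 * e0 = 1 := by decide +kernel
theorem fe1 : e0 ≠ 1 ∧ e0 ≠ z0 := by decide +kernel
theorem fcen : ∀ x : Mdl, (∀ y, x * y = y * x) → x = 1 ∨ x = z0 ∨ x = e0 ∨ x = e0 * z0 := by decide +kernel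

/-- A finite group whose Sylow 2-subgroups are isomorphic to the direct product of a group of order 2 and a dihedral group of order 8 has a subgroup of index two. -/
theorem result {G : Type*} [Group G] [Finite G] (S : Sylow 2 G) (hS : Nonempty (↥(S : Subgroup G) ≃* Multiplicative (ZMod 2) × DihedralGroup 4)) : ∃ H : Subgroup G, H.index = 2 := by
  classical
  haveI : Fact (Nat.Prime 2) := ⟨Nat.prime_two⟩
  obtain ⟨e⟩ := hS
  set R := (S : Subgroup G) with hR
  set z : ↥R := e.symm z0 with hz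
  have hmemz : ∀ x : ↥R, (e x = 1 ∨ e x = z0) → x ∈ Subgroup.zpowers z := by
    rintro x (h | h)
    · rw [e.map_eq_one_iff.1 h]; exact one_mem _
    · rw [show x = z from e.injective (h.trans (e.apply_symm_apply z0).symm)]; exact Subgroup.mem_zpowers z
  have hΦ : frattini ↥R ≤ Subgroup.zpowers z := LEFrattini.frattini_le (p := 2)
    (fun x y => hmemz _ (by rw [commutatorElement_def, map_mul, map_mul, map_mul, map_inv, map_inv]; exact fcom _ _))
    (fun x => hmemz _ (by rw [pow_two, map_mul]; exact fsq _))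
  have hzz : z * z = 1 := e.injective (by rw [map_mul, hz, e.apply_symm_apply, map_one]; exact fzz)
  have hz2 : ∀ w : ↥R, w ∈ Subgroup.zpowers z → w = 1 ∨ w = z := by
    intro w hw
    obtain ⟨i, rfl⟩ := Submonoid.mem_powers_iff _ _ |>.1 (mem_powers_iff_mem_zpowers.2 hw)
    rcases Nat.even_or_odd' i with ⟨j, rfl | rfl⟩
    · left; rw [pow_mul, pow_two, hzz, one_pow]
    · right; rw [pow_succ, pow_mul, pow_two, hzz, one_pow, one_mul]
  rcases Cfsg.Agent.S2872.result S with h | h | h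
  · haveI : (Cfsg.pResidual 2 G).Normal := by
      haveI := PBasic.pResidual_characteristic 2 G
      infer_instance
    have hP := PBasic.quotient_pResidual_isPGroup 2 G
    haveI : Nontrivial (G ⧸ Cfsg.pResidual 2 G) := QuotientGroup.nontrivial_iff.2 h
    obtain ⟨M, hM, -⟩ := (eq_top_or_exists_le_coatom (⊥ : Subgroup (G ⧸ Cfsg.pResidual 2 G))).resolve_left bot_ne_top
    exact ⟨M.comap (QuotientGroup.mk' _), (Subgroup.index_comap_of_surjective M (QuotientGroup.mk'_surjective _)).trans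
      (PGroupBasics.index_of_isCoatom hP hM).2⟩
  · exfalso
    have hmem : ((e.symm e0 : ↥R) : G) ∈ Cfsg.omegaOne 2 (R ⊓ Subgroup.centralizer (R : Set G)) := by
      refine Subgroup.subset_closure ⟨Subgroup.mem_inf.2 ⟨(e.symm e0).2, Subgroup.mem_centralizer_iff.2 fun r hr => ?_⟩, ?_⟩
      · have h1 : (⟨r, hr⟩ : ↥R) * e.symm e0 = e.symm e0 * ⟨r, hr⟩ :=
          e.injective (by rw [map_mul, map_mul, e.apply_symm_apply]; exact fe _)
        exact congrArg Subtype.val h1
      · have h1 : e.symm e0 * e.symm e0 = 1 := by rw [← map_mul, fe2, map_one]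
        rw [pow_two]; exact congrArg Subtype.val h1
    obtain ⟨w, hw, hwe⟩ := h hmem
    rw [Subtype.ext hwe] at hw
    rcases hz2 _ (hΦ hw) with h1 | h1
    · exact fe1.1 (by have := congrArg e h1; rwa [e.apply_symm_apply, map_one] at this)
    · exact fe1.2 (e.symm.injective h1)
  · exfalso
    obtain ⟨g, hg, x, hx, hgx⟩ := h
    set Z := R ⊓ Subgroup.centralizer (R : Set G) with hZ
    have hxZ : x ∈ Z := (Subgroup.closure_le _).2 (fun y hy => hy.1) hx
    obtain ⟨a, b, hab, ⟨l, hl⟩, hb, haz, hbz⟩ := LEBasic.exists_p_part (p := 2) g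
    have haN : a ∈ Subgroup.normalizer (R : Set G) := Subgroup.zpowers_le.2 hg haz
    have hbN : b ∈ Subgroup.normalizer (R : Set G) := Subgroup.zpowers_le.2 hg hbz
    have haR : a ∈ R := by
      have h1 : IsPGroup 2 ↥(R ⊔ Subgroup.zpowers a) := IsPGroup.to_sup_of_normal_left' S.2
        (LESylow.isPGroup_zpowers hl) (Subgroup.zpowers_le.2 haN)
      exact (S.3 h1 le_sup_left).le (Subgroup.mem_sup_right (Subgroup.mem_zpowers a))
    have hfix : ∀ y ∈ Z, ∀ c ∈ R, c * y * c⁻¹ = y := fun y hy c hc => by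
      rw [Subgroup.mem_centralizer_iff.1 (Subgroup.mem_inf.1 hy).2 c hc, mul_inv_cancel_right]
    have hconj : ∀ n ∈ Subgroup.normalizer (R : Set G), ∀ y ∈ Z, n * y * n⁻¹ ∈ Z := fun n hn y hy => by
      refine Subgroup.mem_inf.2 ⟨(Subgroup.mem_normalizer_iff.1 hn y).1 (Subgroup.mem_inf.1 hy).1,
        Subgroup.mem_centralizer_iff.2 fun r hr => ?_⟩
      have h1 := Subgroup.mem_centralizer_iff.1 (Subgroup.mem_inf.1 hy).2 (n⁻¹ * r * n)
        ((Subgroup.mem_normalizer_iff''.1 hn r).1 hr)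
      calc r * (n * y * n⁻¹) = n * ((n⁻¹ * r * n) * y) * n⁻¹ := by group
        _ = n * y * n⁻¹ * r := by rw [h1]; group
    have hzsq : ∀ n ∈ Subgroup.normalizer (R : Set G), n * (z : G) * n⁻¹ = (z : G) := by
      intro n hn
      set u : ↥R := e.symm ((1, DihedralGroup.r 1) : Multiplicative (ZMod 2) × DihedralGroup 4) with hu
      have huz : u * u = z := by rw [hu, hz, ← map_mul, fz]
      set v : ↥R := ⟨n * u * n⁻¹, (Subgroup.mem_normalizer_iff.1 hn _).1 u.2⟩
      have hv : ((v * v : ↥R) : G) = n * (z : G) * n⁻¹ := by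
        rw [← huz]; simp [v, mul_assoc]
      rcases hz2 _ (hmemz (v * v) (by rw [map_mul]; exact fsq _)) with h1 | h1
      · exfalso
        rw [h1, OneMemClass.coe_one] at hv
        have h2 : (z : G) = 1 := conj_eq_one_iff.1 hv.symm
        exact fz1 (by rw [← e.apply_symm_apply z0, ← hz, (OneMemClass.coe_eq_one.1 h2), map_one])
      · rw [← hv, h1]
    have hZ4 : ∀ y ∈ Z, y = 1 ∨ y = (z : G) ∨ y = ((e.symm e0 : ↥R) : G) ∨ y = ((e.symm (e0 * z0) : ↥R) : G) := by
      intro y hy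
      obtain ⟨hyR, hyC⟩ := Subgroup.mem_inf.1 hy
      have := fcen (e ⟨y, hyR⟩) (fun w => by
        obtain ⟨w', rfl⟩ := e.surjective w
        rw [← map_mul, ← map_mul]
        exact congrArg e (Subtype.ext (Subgroup.mem_centralizer_iff.1 hyC (w' : G) w'.2).symm))
      rcases this with h1 | h1 | h1 | h1
      · exact Or.inl (congrArg Subtype.val (e.map_eq_one_iff.1 h1))
      · exact Or.inr (Or.inl (congrArg Subtype.val (e.injective (h1.trans (e.apply_symm_apply _).symm))))
      · exact Or.inr (Or.inr (Or.inl (congrArg Subtype.val (e.injective (h1.trans (e.apply_symm_apply _).symm)))))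
      · exact Or.inr (Or.inr (Or.inr (congrArg Subtype.val (e.injective (h1.trans (e.apply_symm_apply _).symm)))))
    -- squares fix every element
    have hsqfix : ∀ n ∈ Subgroup.normalizer (R : Set G), ∀ y ∈ Z, n * n * y * (n * n)⁻¹ = y := by
      intro n hn y hy
      have hinj : ∀ u v : G, n * u * n⁻¹ = n * v * n⁻¹ → u = v := fun u v h => mul_left_cancel (mul_right_cancel h)
      have hz' := hzsq n hn
      have h1n : n * 1 * n⁻¹ = 1 := by simp
      by_cases hfy : n * y * n⁻¹ = y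
      · calc n * n * y * (n * n)⁻¹ = n * (n * y * n⁻¹) * n⁻¹ := by group
          _ = y := by rw [hfy, hfy]
      have hy1 : n * y * n⁻¹ ∈ Z := hconj n hn y hy
      have hy2 : n * (n * y * n⁻¹) * n⁻¹ ∈ Z := hconj n hn _ hy1
      have hne : n * (n * y * n⁻¹) * n⁻¹ ≠ n * y * n⁻¹ := fun h => hfy (hinj _ _ h)
      have k : ∀ u, n * u * n⁻¹ ≠ u → u ≠ 1 ∧ u ≠ (z : G) := fun u hu => ⟨fun h => hu (by rw [h, h1n]), fun h => hu (by rw [h, hz'])⟩
      obtain ⟨a1, a2⟩ := k y hfy
      obtain ⟨b1, b2⟩ := k _ hne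
      have hne2 : n * (n * (n * y * n⁻¹) * n⁻¹) * n⁻¹ ≠ n * (n * y * n⁻¹) * n⁻¹ := fun h => hne (hinj _ _ h)
      obtain ⟨c1, c2⟩ := k _ hne2
      rw [show n * n * y * (n * n)⁻¹ = n * (n * y * n⁻¹) * n⁻¹ by group]
      rcases hZ4 y hy with r1 | r1 | r1 | r1 <;> rcases hZ4 _ hy1 with r2 | r2 | r2 | r2 <;>
        rcases hZ4 _ hy2 with r3 | r3 | r3 | r3
      all_goals first
        | exact absurd r1 a1
        | exact absurd r1 a2
        | exact absurd r2 b1
        | exact absurd r2 b2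
        | exact absurd r3 c1
        | exact absurd r3 c2
        | exact absurd (r2.trans r1.symm) hfy
        | exact absurd (r3.trans r2.symm) hne
        | exact r3.trans r1.symm
    obtain ⟨j, hj⟩ : ∃ j : ℕ, b = (b ^ j) * (b ^ j) := by
      obtain ⟨i, hi⟩ : Odd (orderOf b) := Nat.coprime_two_right.1 hb
      exact ⟨i + 1, by rw [← pow_add, show i + 1 + (i + 1) = orderOf b + 1 by omega, pow_succ, pow_orderOf_eq_one, one_mul]⟩
    have hbfix : b * x * b⁻¹ = x := by rw [hj]; exact hsqfix _ (pow_mem hbN j) x hxZ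
    exact hgx (by
      rw [hab, show a * b * x * (a * b)⁻¹ = a * (b * x * b⁻¹) * a⁻¹ by group, hbfix]
      exact hfix x hxZ a haR)

end Cfsg.Agent.S2911

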