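import Cfsg.Statements.S2917
import Cfsg.Agent.Lib.G23Two.IotaFusion
import Cfsg.Agent.Lib.G23Two.CentThree
import Cfsg.Agent.Lib.G23Two.Order
import Cfsg.Agent.Lib.G23Two.Bound
import Cfsg.Agent.Lib.G23Two.ParaModel

set_option autoImplicit false
open Cfsg

namespace Cfsg.Agent.S2917

/-- Let G be a finite group with subgroups H and M such that: H has normal subgroups H₁, H₂ both isomorphic to SL₂(3) with H₁ ∩ H₂ = Z(H₁) = Z(H₂), the product H₁H₂ has index 2 in H, and H = C_G(H₁ ∩ H₂); and M ⧸ O₂(M) ≅ SL₃(2) with O₂(M) elementary abelian of order 8 containing Z(H₁). Then G is isomorphic to the Chevalley group G₂(3). -/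
theorem result {G : Type*} [Group G] [Finite G] (H H₁ H₂ M : Subgroup G) (h1 : H₁ ≤ H) (h2 : H₂ ≤ H) (hn1 : (H₁.subgroupOf H).Normal) (hn2 : (H₂.subgroupOf H).Normal) (hiso1 : Nonempty (↥H₁ ≃* Matrix.SpecialLinearGroup (Fin 2) (ZMod 3))) (hiso2 : Nonempty (↥H₂ ≃* Matrix.SpecialLinearGroup (Fin 2) (ZMod 3))) (hidx : (H₁ ⊔ H₂).relIndex H = 2) (hint1 : H₁ ⊓ H₂ = H₁ ⊓ Subgroup.centralizer (H₁ : Set G)) (hint2 : H₁ ⊓ H₂ = H₂ ⊓ Subgroup.centralizer (H₂ : Set G)) (hHC : H = Subgroup.centralizer ((H₁ ⊓ H₂ : Subgroup G) : Set G)) [hOM : (Cfsg.pCore 2 ↥M).Normal] (hM : Nonempty ((↥M ⧸ Cfsg.pCore 2 ↥M) ≃* Matrix.SpecialLinearGroup (Fin 3) (ZMod 2))) (hOel : Cfsg.IsElementaryAbelian 2 (Cfsg.pCore 2 ↥M)) (hOcard : Nat.card ↥(Cfsg.pCore 2 ↥M) = 8) (hZin : H₁ ⊓ H₂ ≤ (Cfsg.pCore 2 ↥M).map M.subtype) : ∃ (F : Type) (_ : Field F) (_ : Fintype F), Fintype.card F = 3 ∧ Nonempty (G ≃* ↥(Cfsg.Lie.chevG2.group F)) := by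
  obtain ⟨φ, hinj, hrange, hk, hq⟩ := G23Two.Iota.exists_phi H H₁ H₂ M h1 h2 hn1 hn2 hiso1 hiso2 hidx
    hint1 hint2 hHC hM hOel hOcard hZin
  have hcard := G23Two.card_of_data φ hinj hrange hk hq
  have key : ∀ (χ : G23Two.Mod →* G), Function.Injective χ →
      χ.range = Subgroup.centralizer {χ G23Two.zM} → IsConj (χ G23Two.zM) (χ G23Two.kM) →
      IsConj (χ G23Two.zM) (χ G23Two.qM) →
      Nat.card (Subgroup.centralizer {χ G23Two.aM} : Subgroup G) = 5832 := by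
    intro χ hi hr hk' hq'
    have hlt := G23Two.cent_gt_648 χ hi hr hk' hq'
    rcases G23Two.card_cent_three χ hi hr hk' with e | e | e <;> omega
  have hb := key (φ.comp G23Two.swapM.toMonoidHom) (hinj.comp G23Two.swapM.injective)
    (by
      rw [MonoidHom.range_comp, MonoidHom.range_eq_top.2 G23Two.swapM.surjective,
        ← MonoidHom.range_eq_map, hrange]
      simp [G23Two.swap_values.1])
    (by simpa [G23Two.swap_values.1, G23Two.swap_values.2.2.2] using hk)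
    (by simpa [G23Two.swap_values.1, G23Two.swap_qM] using hq)
  simp only [MonoidHom.comp_apply, MulEquiv.coe_toMonoidHom, G23Two.swap_values.2.1] at hb
  exact G23Two.iso_G2_of_data φ hinj hrange hcard hk (key φ hinj hrange hk hq) hb

end Cfsg.Agent.S2917
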