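import Cfsg.Statements.S2918
import Cfsg.Agent.Lib.A8Rec.Lift
import Cfsg.Agent.Lib.A8Rec.Orbit
import Cfsg.Agent.Lib.A8Rec.Closure
import Cfsg.Agent.Lib.A8Rec.Assembly
import Cfsg.Agent.Lib.A8Rec.CaseN

set_option autoImplicit false
open Cfsg

namespace Cfsg.Agent.S2918

/-- Let G be a finite group with O²(G) = G and O₂(G) = O(G) = 1 whose Sylow 2-subgroups are isomorphic to those of the alternating group of degree 8, and suppose that the centralizer in G of every involution in the centre of a Sylow 2-subgroup is solvable. Then G is isomorphic to A₈, A₉ or PSp₄(3). -/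
theorem result {G : Type*} [Group G] [Finite G] (hO2 : Cfsg.pResidual 2 G = ⊤) (hcore2 : Cfsg.pCore 2 G = ⊥) (hodd : Cfsg.oddCore G = ⊥) (S : Sylow 2 G) (hS : ∀ P : Sylow 2 ↥(alternatingGroup (Fin 8)), Nonempty (↥(S : Subgroup G) ≃* ↥(P : Subgroup ↥(alternatingGroup (Fin 8))))) (hsol : ∀ z : G, z ∈ (S : Subgroup G) → (∀ s ∈ (S : Subgroup G), s * z = z * s) → orderOf z = 2 → IsSolvable ↥(Subgroup.centralizer ({z} : Set G))) : Nonempty (G ≃* ↥(alternatingGroup (Fin 8))) ∨ Nonempty (G ≃* ↥(alternatingGroup (Fin 9))) ∨ (∃ (F : Type) (_ : Field F) (_ : Fintype F), Fintype.card F = 3 ∧ Nonempty (G ≃* Cfsg.PSp 2 F)) := by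
  haveI : Fact (Nat.Prime 2) := ⟨Nat.prime_two⟩
  obtain ⟨M, rfl⟩ := A8Rec.exists_model S hS
  have hT : Group.IsSolvable ↥M.T := by
    refine hsol M.z (M.A_le M.z_mem) (fun s hs => ?_) (orderOf_eq_prime ?_ M.z_ne)
    · exact Subgroup.mem_centralizer_singleton_iff.1 (M.S_le_T hs)
    · rw [pow_two]; exact M.z_sq
  refine A8Rec.recognize M hO2 hcore2 (fun D => A8Rec.core_eq_bot M D hodd) ?_
  rcases M.split hT with N | C | C
  · exact (N.false hO2 hcore2 hodd).elim
  · exact Or.inl ⟨C, C.exists_facts hcore2 hodd⟩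
  · exact Or.inr ⟨C, C.exists_facts hcore2 hodd⟩

end Cfsg.Agent.S2918
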