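import Cfsg.Statements.S2922
import Cfsg.Agent.Lib.Techniques.CharP
import Cfsg.Agent.Lib.Components.FStar
import Cfsg.Agent.Lib.CentrallyLarge.Invariant

set_option autoImplicit false
open Cfsg

namespace Cfsg.Agent.S2922

/-- Let p be a prime, X a finite group, B a p-subgroup of X and C a normal subgroup of B. If N_X(C) has characteristic p (its generalized Fitting subgroup is O_p(N_X(C))), then N_X(B) and C_X(B) have characteristic p. -/
theorem result {X : Type*} [Group X] [Finite X] {p : ℕ} [Fact p.Prime] (B C : Subgroup X) (hB : IsPGroup p ↥B) (hCB : C ≤ B) (hCn : (C.subgroupOf B).Normal) (hC : Cfsg.generalizedFittingSubgroup ↥(Subgroup.normalizer (C : Set X)) = Cfsg.pCore p ↥(Subgroup.normalizer (C : Set X))) : Cfsg.generalizedFittingSubgroup ↥(Subgroup.normalizer (B : Set X)) = Cfsg.pCore p ↥(Subgroup.normalizer (B : Set X)) ∧ Cfsg.generalizedFittingSubgroup ↥(Subgroup.centralizer (B : Set X)) = Cfsg.pCore p ↥(Subgroup.centralizer (B : Set X)) := by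
  set N := Subgroup.normalizer (C : Set X) with hN
  have hNc : Cfsg.Agent.CharP.IsCharP p ↥N := by
    show Subgroup.centralizer (Cfsg.pCore p ↥N : Set ↥N) ≤ Cfsg.pCore p ↥N
    rw [← hC]
    exact Cfsg.Agent.Components.centralizer_generalizedFitting_le
  have hBN : B ≤ N := (Subgroup.normal_subgroupOf_iff_le_normalizer hCB).1 hCn
  have hCBc : Cfsg.Agent.CharP.IsCharP p ↥(Subgroup.centralizer (B : Set X)) := by
    have h := Cfsg.Agent.CharP.isCharP_inf_centralizer hNc hB (hBN.trans Subgroup.le_normalizer)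
    rwa [inf_of_le_right ((Subgroup.centralizer_le hCB).trans (Subgroup.centralizer_le_normalizer _))] at h
  refine ⟨Cfsg.Agent.CharP.generalizedFittingSubgroup_eq ?_, Cfsg.Agent.CharP.generalizedFittingSubgroup_eq hCBc⟩
  rw [Cfsg.Agent.CharP.isCharP_iff] at hCBc ⊢
  intro x _ hx hc
  have hxC : x ∈ Subgroup.centralizer (B : Set X) := Subgroup.mem_centralizer_iff.2 fun u hu =>
    (hc u (Cfsg.Agent.CharP.le_opIn Subgroup.le_normalizer le_rfl hB hu)).symm
  refine hCBc x hxC hx fun y hy => hc y ?_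
  exact Cfsg.Agent.CharP.le_opIn ((Cfsg.Agent.CharP.opIn_le _).trans (Subgroup.centralizer_le_normalizer _))
    ((Cfsg.Agent.CLarge.le_normalizer_centralizer le_rfl).trans
      (Cfsg.Agent.CharP.normalizer_le_normalizer_opIn _)) (Cfsg.Agent.CharP.opIn_isPGroup _) hy

end Cfsg.Agent.S2922
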