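import Cfsg.Statements.S2924
import Cfsg.Agent.Lib.CharP.AxB
import Cfsg.Agent.Lib.Components.FStar
import Mathlib.GroupTheory.FixedPointFree

set_option autoImplicit false
open Cfsg

namespace Cfsg.Agent.S2924

open AxB

variable {X : Type*} [Group X]

/-- `O(C(a))` as a subgroup of the ambient group. -/
def coreAt (a : X) : Subgroup X :=
  (Cfsg.oddCore ↥(Subgroup.centralizer ({a} : Set X))).map
    (Subgroup.centralizer ({a} : Set X)).subtype

theorem coreAt_le (a : X) : coreAt a ≤ Subgroup.centralizer ({a} : Set X) :=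
  Subgroup.map_subtype_le _

theorem comm_of_mem_coreAt {a b : X} (hb : b ∈ coreAt a) : a * b = b * a :=
  Subgroup.mem_centralizer_singleton_iff.1 (coreAt_le a hb) |>.symm

theorem isPGroup_zpowers_of_sq {a : X} (ha : a ^ 2 = 1) : IsPGroup 2 (Subgroup.zpowers a) := by
  rintro ⟨_, i, rfl⟩
  refine ⟨1, Subtype.ext ?_⟩
  show (a ^ i) ^ (2 ^ 1) = 1
  rw [pow_one, ← zpow_natCast, ← zpow_mul, mul_comm, zpow_mul, zpow_natCast, ha, one_zpow]

theorem conj_mem_coreAt {a b g : X} (hg : g * a = a * g) (hb : b ∈ coreAt a) :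
    g * b * g⁻¹ ∈ coreAt a := by
  have h := le_normalizer_map_subtype (H := Subgroup.centralizer ({a} : Set X))
    (Cfsg.pPrimeCore_normal 2 _) (Subgroup.mem_centralizer_singleton_iff.2 hg)
  exact (Subgroup.mem_normalizer_iff.1 h b).1 hb

theorem odd_orderOf_of_coprime [Finite X] {H : Subgroup X} (hH : (Nat.card H).Coprime 2) {b : X}
    (hb : b ∈ H) : Odd (orderOf b) := by
  rw [← Nat.coprime_two_right]
  refine Nat.Coprime.coprime_dvd_left ?_ hH
  rw [← Subgroup.orderOf_mk b hb]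
  exact orderOf_dvd_natCard _

theorem odd_orderOf_coreAt [Finite X] {a b : X} (hb : b ∈ coreAt a) : Odd (orderOf b) :=
  odd_orderOf_of_coprime (coprime_card_pPrimeCoreOf 2 _) hb

theorem mem_zpowers_sq [Finite X] {b : X} (h : Odd (orderOf b)) : b ∈ Subgroup.zpowers (b ^ 2) := by
  obtain ⟨k, hk⟩ := h
  refine ⟨((k + 1 : ℕ) : ℤ), ?_⟩
  have e : 2 * (k + 1) = orderOf b + 1 := by omega
  simp only [zpow_natCast]
  rw [← pow_mul, e, pow_add, pow_orderOf_eq_one, one_mul, pow_one]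

/-- If `z` inverts both `f` and `b f b⁻¹` and `b`, and `b` has odd order, `b` commutes with `f`. -/
theorem commute_of_inverted [Finite X] {z b f : X} (hb : z * b * z⁻¹ = b⁻¹) (hf : z * f * z⁻¹ = f⁻¹)
    (hbf : z * (b * f * b⁻¹) * z⁻¹ = (b * f * b⁻¹)⁻¹) (hodd : Odd (orderOf b)) : b * f = f * b := by
  have h1 : z * (b * f * b⁻¹) * z⁻¹ = b⁻¹ * f⁻¹ * b := by
    have e : z * (b * f * b⁻¹) * z⁻¹ = (z * b * z⁻¹) * (z * f * z⁻¹) * (z * b * z⁻¹)⁻¹ := by group
    rw [e, hb, hf, inv_inv]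
  rw [hbf] at h1
  have h2 : Commute (b ^ 2) f := by
    show b ^ 2 * f = f * b ^ 2
    rw [sq]
    calc b * b * f = b * ((b * f * b⁻¹)⁻¹)⁻¹ * b := by group
      _ = b * (b⁻¹ * f⁻¹ * b)⁻¹ * b := by rw [h1]
      _ = f * (b * b) := by group
  obtain ⟨m, hm⟩ := mem_zpowers_sq hodd
  have h3 := h2.zpow_left m
  rw [show (b ^ 2) ^ m = b from hm] at h3
  exact h3

/-- An element commutes with `f` if it commutes with all prime-power-order powers of `f`. -/
theorem commute_of_prime_power {K : Type*} [Group K] [Finite K] {S : Subgroup K} (N : Subgroup K)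
    (h : ∀ (p : ℕ), p.Prime → ∀ f ∈ N, ∀ k, orderOf f = p ^ k → f ∈ S) : N ≤ S := by
  suffices H : ∀ n : ℕ, ∀ f ∈ N, orderOf f = n → f ∈ S from fun f hf => H _ f hf rfl
  intro n
  induction n using Nat.recOnPrimeCoprime with
  | zero => intro f _ hf; exact absurd hf (orderOf_pos f).ne'
  | prime_pow p k hp => intro f hf hk; exact h p hp f hf k hk
  | coprime a b ha hb hab iha ihb =>
    intro f hf hfn
    have hfa : f ^ b ∈ S := iha _ (pow_mem hf b) (by
      rw [orderOf_pow, hfn, Nat.gcd_mul_left_left, Nat.mul_div_cancel _ (by omega : 0 < b)])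
    have hfb : f ^ a ∈ S := ihb _ (pow_mem hf a) (by
      rw [orderOf_pow, hfn, Nat.gcd_mul_right_left, Nat.mul_div_cancel_left _ (by omega : 0 < a)])
    have hbez : f = (f ^ a) ^ Nat.gcdA a b * (f ^ b) ^ Nat.gcdB a b := by
      rw [← zpow_natCast f a, ← zpow_natCast f b, ← zpow_mul, ← zpow_mul, ← zpow_add,
        ← Nat.gcd_eq_gcd_ab, Nat.coprime_iff_gcd_eq_one.1 hab]
      simp
    rw [hbez]
    exact mul_mem (zpow_mem hfb _) (zpow_mem hfa _)

theorem pElement_mem_pCore {K : Type*} [Group K] [Finite K] {p : ℕ} [Fact p.Prime] {N : Subgroup K}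
    (hN : N.Normal) (hnil : Group.IsNilpotent N) {f : K} (hf : f ∈ N) {k : ℕ}
    (hk : orderOf f = p ^ k) : f ∈ Cfsg.pCore p K := by
  obtain ⟨P, hP⟩ := IsPGroup.exists_le_sylow (P := Subgroup.zpowers (⟨f, hf⟩ : N)) (p := p)
    (IsPGroup.of_card (n := k) (by rw [Nat.card_zpowers, Subgroup.orderOf_mk, hk]))
  have hPn : (P : Subgroup N).Normal := Sylow.normal_of_normalizerCondition
    (Group.normalizerCondition_of_isNilpotent) P
  have : (P : Subgroup N).Characteristic := P.characteristic_of_normal hPn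
  have hn : ((P : Subgroup N).map N.subtype).Normal := inferInstance
  exact le_pCore hn (P.isPGroup'.map _) ⟨⟨f, hf⟩, hP (Subgroup.mem_zpowers _), rfl⟩

variable [Finite X]

section

variable (hCF : ∀ (K : Type _) [Group K] [Finite K],
    Subgroup.centralizer ((Cfsg.generalizedFittingSubgroup K : Subgroup K) : Set K) ≤
      Cfsg.generalizedFittingSubgroup K)

theorem core_inf_char2 {z : X}
    (hz : Cfsg.generalizedFittingSubgroup ↥(Subgroup.centralizer ({z} : Set X)) =
      Cfsg.pCore 2 ↥(Subgroup.centralizer ({z} : Set X)))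
    (hcz : Subgroup.centralizer ((Cfsg.generalizedFittingSubgroup
        ↥(Subgroup.centralizer ({z} : Set X)) : Subgroup _) : Set _) ≤
      Cfsg.generalizedFittingSubgroup ↥(Subgroup.centralizer ({z} : Set X)))
    {a : X} (ha : a ^ 2 = 1) (haz : a * z = z * a) {b : X} (hb : b ∈ coreAt a)
    (hbz : b * z = z * b) : b = 1 := by
  set C := Subgroup.centralizer ({z} : Set X) with hC
  set P := (Cfsg.pCore 2 ↥C).map C.subtype with hP
  set U := coreAt a ⊓ C with hU
  have : Fact (Nat.Prime 2) := ⟨Nat.prime_two⟩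
  have hPp : IsPGroup 2 P := isPGroup_pCoreOf 2 C
  have hPn : C ≤ Subgroup.normalizer (P : Set X) := le_normalizer_map_subtype (Cfsg.pCore_normal 2 _)
  have haC : a ∈ C := Subgroup.mem_centralizer_singleton_iff.2 haz
  have hbU : b ∈ U := ⟨hb, Subgroup.mem_centralizer_singleton_iff.2 hbz⟩
  have hUco : (Nat.card U).Coprime 2 :=
    Nat.Coprime.coprime_dvd_left (Subgroup.card_dvd_of_le inf_le_left) (coprime_card_pPrimeCoreOf 2 _)
  have hbodd : Odd (orderOf b) := odd_orderOf_coreAt hb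
  have key := thompson (P := P) (A := Subgroup.zpowers a) (x := b) (n := orderOf b) hPp
    (isPGroup_zpowers_of_sq ha) (Subgroup.zpowers_le.2 (hPn haC))
    (fun y hy => (Subgroup.mem_normalizer_iff.1 (hPn hbU.2) y).1 hy) ?_ (pow_orderOf_eq_one b)
    (Nat.coprime_two_left.2 hbodd) ?_
  · have h1 : (⟨b, hbU.2⟩ : C) ∈ Cfsg.pCore 2 ↥C := by
      rw [← hz]
      refine hcz (Subgroup.mem_centralizer_iff.2 ?_)
      rw [hz]
      intro y hy
      exact Subtype.ext (key y ⟨y, hy, rfl⟩).symm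
    have h2 : b ∈ P := ⟨_, h1, rfl⟩
    have h3 := coprime_orderOf_of_mem hPp h2 (Nat.coprime_two_left.2 hbodd)
    exact orderOf_eq_one_iff.1 ((Nat.coprime_self _).1 h3)
  · intro c hc
    obtain ⟨i, rfl⟩ := hc
    exact ((show Commute a b from comm_of_mem_coreAt hb).zpow_left i)
  · intro y hy hya
    have hay : a * y = y * a := hya a (Subgroup.mem_zpowers a)
    have hyN : ∀ g : X, g * a = a * g → g ∈ C → ∀ u ∈ U, g * u * g⁻¹ ∈ U := fun g hg hgC u hu =>
      ⟨conj_mem_coreAt hg hu.1, C.mul_mem (C.mul_mem hgC hu.2) (C.inv_mem hgC)⟩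
    have hyC : y ∈ C := Subgroup.map_subtype_le _ hy
    have h1 : y⁻¹ * (b * y * b⁻¹) ∈ P :=
      mul_mem (inv_mem hy) ((Subgroup.mem_normalizer_iff.1 (hPn hbU.2) y).1 hy)
    have h2 : y⁻¹ * (b * y * b⁻¹) ∈ U := by
      have := hyN y⁻¹ ((show Commute a y from hay).inv_right.symm) (inv_mem hyC) b hbU
      simpa [mul_assoc] using mul_mem this (inv_mem hbU)
    have h3 : y⁻¹ * (b * y * b⁻¹) = 1 := by
      have h5 := coprime_orderOf_of_mem hPp h1
        (Nat.coprime_two_left.2 (odd_orderOf_of_coprime hUco h2))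
      exact orderOf_eq_one_iff.1 ((Nat.coprime_self _).1 h5)
    calc b * y = y * (y⁻¹ * (b * y * b⁻¹)) * b := by group
      _ = y * b := by rw [h3, mul_one]

theorem inverted_of_fpf {H : Subgroup X} {z : X} (hz2 : z ^ 2 = 1)
    (hn : ∀ y ∈ H, z * y * z⁻¹ ∈ H) (hfix : ∀ y ∈ H, y * z = z * y → y = 1) :
    ∀ y ∈ H, z * y * z⁻¹ = y⁻¹ := by
  let φ : H →* H :=
    { toFun := fun y => ⟨z * y * z⁻¹, hn y y.2⟩
      map_one' := by ext; simp
      map_mul' := fun a b => by ext; simp [mul_assoc] }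
  have h1 : MonoidHom.FixedPointFree φ := by
    intro g hg
    have h : z * (g : X) * z⁻¹ = g := congrArg (fun t : H => (t : X)) hg
    refine Subtype.ext (hfix g g.2 ?_)
    calc (g : X) * z = z * g * z⁻¹ * z := by rw [h]
      _ = z * g := by group
  have h2 : Function.Involutive φ := by
    intro g
    ext
    show z * (z * (g : X) * z⁻¹) * z⁻¹ = g
    have h3 : z⁻¹ = z := inv_eq_of_mul_eq_one_right (by rw [← sq]; exact hz2)
    rw [h3]
    calc z * (z * (g : X) * z) * z = (z * z) * g * (z * z) := by group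
      _ = g := by rw [← sq, hz2]; simp
  intro y hy
  exact congrArg (fun t : H => (t : X)) (congrFun (h1.coe_eq_inv_of_involutive h2) ⟨y, hy⟩)

/-- Balance between two elements of `Y`. -/
theorem balance {a c z : X} (ha : a ^ 2 = 1) (hac : a * c = c * a)
    (hA : ∀ y ∈ coreAt a, z * y * z⁻¹ = y⁻¹) (hAc : ∀ y ∈ coreAt c, z * y * z⁻¹ = y⁻¹)
    (hE : Cfsg.layer ↥(Subgroup.centralizer ({c} : Set X)) = ⊥)
    (hcc : Subgroup.centralizer ((Cfsg.generalizedFittingSubgroup
        ↥(Subgroup.centralizer ({c} : Set X)) : Subgroup _) : Set _) ≤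
      Cfsg.generalizedFittingSubgroup ↥(Subgroup.centralizer ({c} : Set X)))
    {b : X} (hb : b ∈ coreAt a) (hbc : b * c = c * b) : b ∈ coreAt c := by
  set C := Subgroup.centralizer ({c} : Set X) with hC
  have haC : a ∈ C := Subgroup.mem_centralizer_singleton_iff.2 hac
  have hbC : b ∈ C := Subgroup.mem_centralizer_singleton_iff.2 hbc
  have hbodd : Odd (orderOf b) := odd_orderOf_coreAt hb
  have : Fact (Nat.Prime 2) := ⟨Nat.prime_two⟩
  set U := coreAt a ⊓ C with hU
  have hUco : (Nat.card U).Coprime 2 :=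
    Nat.Coprime.coprime_dvd_left (Subgroup.card_dvd_of_le inf_le_left) (coprime_card_pPrimeCoreOf 2 _)
  -- `b` centralises `O₂(C)`
  set P := (Cfsg.pCore 2 ↥C).map C.subtype with hP
  have hPp : IsPGroup 2 P := isPGroup_pCoreOf 2 C
  have hPn : C ≤ Subgroup.normalizer (P : Set X) :=
    le_normalizer_map_subtype (Cfsg.pCore_normal 2 _)
  have key : ∀ y ∈ P, b * y = y * b := by
    refine thompson (P := P) (A := Subgroup.zpowers a) (x := b) (n := orderOf b) hPp
      (isPGroup_zpowers_of_sq ha) (Subgroup.zpowers_le.2 (hPn haC))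
      (fun y hy => (Subgroup.mem_normalizer_iff.1 (hPn hbC) y).1 hy) ?_ (pow_orderOf_eq_one b)
      (Nat.coprime_two_left.2 hbodd) ?_
    · intro d hd
      obtain ⟨i, rfl⟩ := hd
      exact ((show Commute a b from comm_of_mem_coreAt hb).zpow_left i)
    · intro y hy hya
      have hay : a * y = y * a := hya a (Subgroup.mem_zpowers a)
      have hyC : y ∈ C := Subgroup.map_subtype_le _ hy
      have h1 : y⁻¹ * (b * y * b⁻¹) ∈ P :=
        mul_mem (inv_mem hy) ((Subgroup.mem_normalizer_iff.1 (hPn hbC) y).1 hy)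
      have h2 : y⁻¹ * (b * y * b⁻¹) ∈ U := by
        have h3 : y⁻¹ * b * y⁻¹⁻¹ ∈ U :=
          ⟨conj_mem_coreAt ((show Commute a y from hay).inv_right.symm) hb,
            C.mul_mem (C.mul_mem (C.inv_mem hyC) hbC) (by simpa using hyC)⟩
        simpa [mul_assoc] using mul_mem h3 (inv_mem (⟨hb, hbC⟩ : b ∈ U))
      have h3 : y⁻¹ * (b * y * b⁻¹) = 1 := by
        have h5 := coprime_orderOf_of_mem hPp h1
          (Nat.coprime_two_left.2 (odd_orderOf_of_coprime hUco h2))
        exact orderOf_eq_one_iff.1 ((Nat.coprime_self _).1 h5)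
      calc b * y = y * (y⁻¹ * (b * y * b⁻¹)) * b := by group
        _ = y * b := by rw [h3, mul_one]
  -- `b` centralises `O_p(C)` for every prime `p`
  have hcore : ∀ (p : ℕ), p.Prime → ∀ f ∈ Cfsg.pCore p ↥C, b * (f : X) = f * b := by
    intro p hp f hf
    rcases eq_or_ne p 2 with rfl | hp2
    · exact key f ⟨f, hf, rfl⟩
    · have : Fact p.Prime := ⟨hp⟩
      have hle : ∀ g ∈ Cfsg.pCore p ↥C, (g : X) ∈ coreAt c := by
        intro g hg
        refine ⟨g, le_pPrimeCore (Cfsg.pCore_normal p _) ?_ hg, rfl⟩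
        obtain ⟨k, hk⟩ := IsPGroup.iff_card.1 (isPGroup_pCore (G := ↥C) p)
        rw [hk]
        exact Nat.Coprime.pow_left k ((Nat.coprime_primes hp Nat.prime_two).2 hp2)
      refine commute_of_inverted (hA b hb) (hAc _ (hle f hf)) ?_ hbodd
      have h1 := hle _ ((Cfsg.pCore_normal p ↥C).conj_mem f hf ⟨b, hbC⟩)
      exact hAc _ h1
  -- hence `F(C)`
  have hfit : ∀ f ∈ Cfsg.fittingSubgroup ↥C, (⟨b, hbC⟩ : C) * f = f * ⟨b, hbC⟩ := by
    intro f hf
    have hle : Cfsg.fittingSubgroup ↥C ≤ Subgroup.centralizer {(⟨b, hbC⟩ : C)} := by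
      refine sSup_le ?_
      rintro N ⟨hNn, hNnil⟩
      refine commute_of_prime_power N ?_
      intro p hp g hg k hk
      have : Fact p.Prime := ⟨hp⟩
      exact Subgroup.mem_centralizer_singleton_iff.2
        (Subtype.ext (hcore p hp g (pElement_mem_pCore hNn hNnil hg hk)).symm)
    exact (Subgroup.mem_centralizer_singleton_iff.1 (hle hf)).symm
  have hgf : Cfsg.generalizedFittingSubgroup ↥C = Cfsg.fittingSubgroup ↥C := by
    rw [Cfsg.generalizedFittingSubgroup, hE, bot_sup_eq]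
  have hbF : (⟨b, hbC⟩ : C) ∈ Cfsg.fittingSubgroup ↥C ⊓
      Subgroup.centralizer ((Cfsg.fittingSubgroup ↥C : Subgroup C) : Set C) := by
    have h1 : (⟨b, hbC⟩ : C) ∈
        Subgroup.centralizer ((Cfsg.fittingSubgroup ↥C : Subgroup C) : Set C) :=
      Subgroup.mem_centralizer_iff.2 fun f hf => (hfit f hf).symm
    refine ⟨?_, h1⟩
    rw [← hgf] at h1 ⊢
    exact hcc h1
  set F := Cfsg.fittingSubgroup ↥C with hF
  have hFn : F.Normal := Subgroup.sSup_normal _ fun _ h => h.1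
  have hcommF : ∀ u ∈ F ⊓ Subgroup.centralizer (F : Set C),
      ∀ v ∈ F ⊓ Subgroup.centralizer (F : Set C), Commute u v := fun u hu v hv =>
    (Subgroup.mem_centralizer_iff.1 hu.2 v hv.1).symm
  let O : Subgroup C :=
    { carrier := {u | u ∈ F ⊓ Subgroup.centralizer (F : Set C) ∧ Odd (orderOf u)}
      one_mem' := ⟨one_mem _, by simp⟩
      mul_mem' := fun {u v} hu hv => ⟨mul_mem hu.1 hv.1,
        (hu.2.mul hv.2).of_dvd_nat (hcommF u hu.1 v hv.1).orderOf_mul_dvd_mul_orderOf⟩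
      inv_mem' := fun {u} hu => ⟨inv_mem hu.1, by simpa using hu.2⟩ }
  have hOn : O.Normal := ⟨fun u hu g =>
    ⟨(inferInstance : (F ⊓ Subgroup.centralizer (F : Set C)).Normal).conj_mem u hu.1 g, by
      rw [← MulAut.conj_apply, MulEquiv.orderOf_eq]; exact hu.2⟩⟩
  have hOco : (Nat.card O).Coprime 2 := by
    rw [Nat.coprime_two_right, Nat.odd_iff, ← Nat.two_dvd_ne_zero]
    intro h
    obtain ⟨u, hu⟩ := exists_prime_orderOf_dvd_card' 2 h
    rw [← Subgroup.orderOf_coe] at hu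
    exact absurd u.2.2 (by rw [hu]; decide)
  exact ⟨⟨b, hbC⟩, le_pPrimeCore hOn hOco (⟨hbF, by rwa [Subgroup.orderOf_mk]⟩ : (⟨b, hbC⟩ : C) ∈ O), rfl⟩

/-- `b` is fixed up to inversion by all of `Y`. -/
def IsFull (Y : Subgroup X) (b : X) : Prop := ∀ y ∈ Y, y * b * y⁻¹ = b ∨ y * b * y⁻¹ = b⁻¹

theorem decompose {Y A : Subgroup X} (hYc : ∀ u ∈ Y, ∀ v ∈ Y, u * v = v * u)
    (hY2 : ∀ u ∈ Y, u ^ 2 = 1) (hAn : ∀ u ∈ Y, ∀ b ∈ A, u * b * u⁻¹ ∈ A)
    (hAc : ∀ b ∈ A, ∀ d ∈ A, b * d = d * b) (hodd : ∀ b ∈ A, Odd (orderOf b)) :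
    ∀ b ∈ A, b ∈ Subgroup.closure {d | d ∈ A ∧ IsFull Y d} := by
  classical
  suffices H : ∀ n : ℕ, ∀ b ∈ A,
      {y | y ∈ Y ∧ ¬ (y * b * y⁻¹ = b ∨ y * b * y⁻¹ = b⁻¹)}.ncard ≤ n →
      b ∈ Subgroup.closure {d | d ∈ A ∧ IsFull Y d} from fun b hb => H _ b hb le_rfl
  intro n
  induction n with
  | zero =>
    intro b hb hn
    refine Subgroup.subset_closure ⟨hb, fun y hy => ?_⟩
    by_contra hne
    have h1 := (Set.ncard_eq_zero (Set.toFinite _)).1 (Nat.le_zero.1 hn)
    exact Set.eq_empty_iff_forall_notMem.1 h1 y ⟨hy, hne⟩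
  | succ n ih =>
    intro b hb hn
    by_cases hfull : IsFull Y b
    · exact Subgroup.subset_closure ⟨hb, hfull⟩
    obtain ⟨y, hyY, hy⟩ : ∃ y, y ∈ Y ∧ ¬ (y * b * y⁻¹ = b ∨ y * b * y⁻¹ = b⁻¹) := by
      simpa [IsFull] using hfull
    set e := y * b * y⁻¹ with he
    have heA : e ∈ A := hAn y hyY b hb
    have hyi : y⁻¹ = y := inv_eq_of_mul_eq_one_right (by rw [← sq]; exact hY2 y hyY)
    have hye : y * e * y⁻¹ = b := by
      rw [he, hyi]
      calc y * (y * b * y) * y = (y * y) * b * (y * y) := by group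
        _ = b := by rw [← sq, hY2 y hyY]; simp
    have hconj : ∀ (u p q : X), u * (p * q) * u⁻¹ = (u * p * u⁻¹) * (u * q * u⁻¹) := fun u p q => by
      group
    have hinv : ∀ (u p : X), u * p⁻¹ * u⁻¹ = (u * p * u⁻¹)⁻¹ := fun u p => by group
    have hwe : ∀ w ∈ Y, w * e * w⁻¹ = y * (w * b * w⁻¹) * y⁻¹ := by
      intro w hw
      have hc : w * y = y * w := hYc w hw y hyY
      calc w * e * w⁻¹ = (w * y) * b * (w * y)⁻¹ := by rw [he]; group
        _ = (y * w) * b * (y * w)⁻¹ := by rw [hc]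
        _ = y * (w * b * w⁻¹) * y⁻¹ := by group
    have hlt : ∀ d, d ∈ A → (y * d * y⁻¹ = d ∨ y * d * y⁻¹ = d⁻¹) →
        (∀ w ∈ Y, w * b * w⁻¹ = b ∨ w * b * w⁻¹ = b⁻¹ → w * d * w⁻¹ = d ∨ w * d * w⁻¹ = d⁻¹) →
        d ∈ Subgroup.closure {d | d ∈ A ∧ IsFull Y d} := by
      intro d hd hdy hdw
      refine ih d hd (Nat.le_of_lt_succ (lt_of_lt_of_le ?_ hn))
      refine Set.ncard_lt_ncard ⟨?_, ?_⟩ (Set.toFinite _)
      · rintro w ⟨hwY, hw⟩
        exact ⟨hwY, fun h => hw (hdw w hwY h)⟩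
      · intro hsub
        exact (hsub (show y ∈ {w | w ∈ Y ∧ _} from ⟨hyY, hy⟩)).2 hdy
    have h1 : b * e ∈ Subgroup.closure {d | d ∈ A ∧ IsFull Y d} := by
      refine hlt _ (mul_mem hb heA) (Or.inl ?_) ?_
      · rw [hconj, hye]
        exact hAc e heA b hb
      · intro w hw h
        rcases h with h | h
        · left; rw [hconj, hwe w hw, h]
        · right; rw [hconj, hwe w hw, h, hinv, ← he, ← mul_inv_rev, hAc e heA b hb]
    have h2 : b * e⁻¹ ∈ Subgroup.closure {d | d ∈ A ∧ IsFull Y d} := by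
      refine hlt _ (mul_mem hb (inv_mem heA)) (Or.inr ?_) ?_
      · rw [hconj, hinv, hye, ← he, mul_inv_rev, inv_inv]
      · intro w hw h
        rcases h with h | h
        · left; rw [hconj, hinv, hwe w hw, h]
        · right
          rw [hconj, hinv, hwe w hw, h, hinv, ← he, inv_inv, hAc b hb _ (inv_mem heA), mul_inv_rev,
            inv_inv, hAc _ (inv_mem hb) e heA]
    have h3 : b ^ 2 = b * e * (b * e⁻¹) := by
      rw [sq]
      calc b * b = b * (b * e) * e⁻¹ := by group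
        _ = b * (e * b) * e⁻¹ := by rw [hAc b hb e heA]
        _ = b * e * (b * e⁻¹) := by group
    have h4 : Subgroup.zpowers (b ^ 2) ≤ Subgroup.closure {d | d ∈ A ∧ IsFull Y d} :=
      Subgroup.zpowers_le.2 (h3 ▸ mul_mem h1 h2)
    exact h4 (mem_zpowers_sq (hodd b hb))

end

/-- Let X be a finite group and Y an elementary abelian 2-subgroup of X of order at least 8 such that C_X(x) has no components (E(C_X(x)) = 1) for every nontrivial x ∈ Y, and F*(C_X(z)) = O₂(C_X(z)) for some nontrivial z ∈ Y. Then the subgroup generated by the cores O(C_X(y)), y ∈ Y nontrivial, has odd order and is normalized by N_X(Y). -/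
theorem result {X : Type*} [Group X] [Finite X] (Y : Subgroup X) (hY : Cfsg.IsElementaryAbelian 2 Y) (h8 : 8 ≤ Nat.card ↥Y) (hE : ∀ x ∈ Y, x ≠ 1 → Cfsg.layer ↥(Subgroup.centralizer ({x} : Set X)) = ⊥) (hz : ∃ z ∈ Y, z ≠ 1 ∧ Cfsg.generalizedFittingSubgroup ↥(Subgroup.centralizer ({z} : Set X)) = Cfsg.pCore 2 ↥(Subgroup.centralizer ({z} : Set X))) : Odd (Nat.card ↥(⨆ y : {y : X // y ∈ Y ∧ y ≠ 1}, (Cfsg.oddCore ↥(Subgroup.centralizer ({(y : X)} : Set X))).map (Subgroup.centralizer ({(y : X)} : Set X)).subtype)) ∧ Subgroup.normalizer (Y : Set X) ≤ Subgroup.normalizer ((⨆ y : {y : X // y ∈ Y ∧ y ≠ 1}, (Cfsg.oddCore ↥(Subgroup.centralizer ({(y : X)} : Set X))).map (Subgroup.centralizer ({(y : X)} : Set X)).subtype : Subgroup X) : Set X) := by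
  classical
  have hCF : ∀ a : X, Subgroup.centralizer ((Cfsg.generalizedFittingSubgroup
      ↥(Subgroup.centralizer ({a} : Set X)) : Subgroup _) : Set _) ≤
      Cfsg.generalizedFittingSubgroup ↥(Subgroup.centralizer ({a} : Set X)) := fun a =>
    Cfsg.Agent.Components.centralizer_generalizedFitting_le
  show Odd (Nat.card ↥(⨆ y : {y : X // y ∈ Y ∧ y ≠ 1}, coreAt (y : X))) ∧
    Subgroup.normalizer (Y : Set X) ≤
      Subgroup.normalizer ((⨆ y : {y : X // y ∈ Y ∧ y ≠ 1}, coreAt (y : X) : Subgroup X) : Set X)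
  obtain ⟨z, hzY, hz1, hzF⟩ := hz
  have hYc : ∀ u ∈ Y, ∀ v ∈ Y, u * v = v * u := fun u hu v hv =>
    congrArg (fun t : Y => (t : X)) (hY.1.is_comm.comm ⟨u, hu⟩ ⟨v, hv⟩)
  have hY2 : ∀ u ∈ Y, u ^ 2 = 1 := hY.2
  have hinv : ∀ a ∈ Y, ∀ y ∈ coreAt a, z * y * z⁻¹ = y⁻¹ := fun a ha =>
    inverted_of_fpf (hY2 z hzY) (fun y hy => conj_mem_coreAt (hYc z hzY a ha) hy)
      (fun y hy h => core_inf_char2 hzF (hCF z) (hY2 a ha) (hYc a ha z hzY) hy h)
  have hbal : ∀ a ∈ Y, ∀ c ∈ Y, c ≠ 1 → ∀ b ∈ coreAt a, b * c = c * b → b ∈ coreAt c :=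
    fun a ha c hc hc1 b hb h => balance (hY2 a ha) (hYc a ha c hc) (hinv a ha)
      (hinv c hc) (hE c hc hc1) (hCF c) hb h
  have habel : ∀ a ∈ Y, ∀ b ∈ coreAt a, ∀ d ∈ coreAt a, b * d = d * b := fun a ha b hb d hd =>
    commute_of_inverted (hinv a ha b hb) (hinv a ha d hd)
      (hinv a ha _ (mul_mem (mul_mem hb hd) (inv_mem hb))) (odd_orderOf_coreAt hb)
  set W := ⨆ y : {y : X // y ∈ Y ∧ y ≠ 1}, coreAt (y : X) with hW
  let Φ : Set X := {d | ∃ a ∈ Y, a ≠ 1 ∧ d ∈ coreAt a ∧ IsFull Y d}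
  have hWle : W ≤ Subgroup.closure Φ := by
    refine iSup_le fun y b hb => ?_
    refine Subgroup.closure_mono ?_ (decompose hYc hY2
      (fun u hu b hb => conj_mem_coreAt (hYc u hu _ y.2.1) hb) (habel _ y.2.1)
      (fun b hb => odd_orderOf_coreAt hb) b hb)
    exact fun d hd => ⟨y, y.2.1, y.2.2, hd.1, hd.2⟩
  have hΦc : ∀ b ∈ Φ, ∀ d ∈ Φ, b * d = d * b := by
    rintro b ⟨a, haY, ha1, hba, hbf⟩ d ⟨c, hcY, hc1, hdc, hdf⟩
    have := Fintype.ofFinite Y
    obtain ⟨u, v, huv, hf⟩ := Fintype.exists_ne_map_eq_of_card_lt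
      (α := Y) (f := fun u : Y => (decide ((u : X) * b * (u : X)⁻¹ = b),
        decide ((u : X) * d * (u : X)⁻¹ = d))) (by
          rw [Fintype.card_prod, Fintype.card_bool, ← Nat.card_eq_fintype_card]; omega)
    simp only [Prod.mk.injEq, decide_eq_decide] at hf
    have hw1 : ((u * v : Y) : X) ≠ 1 := by
      intro h
      have hvi : (v : X)⁻¹ = v := inv_eq_of_mul_eq_one_right (by rw [← sq]; exact hY2 v v.2)
      refine huv (Subtype.ext ?_)
      rw [Subgroup.coe_mul] at h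
      rw [eq_inv_of_mul_eq_one_left h, hvi]
    have hfix : ∀ e, IsFull Y e → (((u : X) * e * (u : X)⁻¹ = e) ↔ ((v : X) * e * (v : X)⁻¹ = e)) →
        e * ((u * v : Y) : X) = ((u * v : Y) : X) * e := by
      intro e he hiff
      have h1 : ((u * v : Y) : X) * e * ((u * v : Y) : X)⁻¹ = e := by
        have e1 : ((u * v : Y) : X) * e * ((u * v : Y) : X)⁻¹ =
            (u : X) * ((v : X) * e * (v : X)⁻¹) * (u : X)⁻¹ := by
          rw [Subgroup.coe_mul]; group
        rw [e1]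
        by_cases hv : (v : X) * e * (v : X)⁻¹ = e
        · rw [hv, hiff.2 hv]
        · have hu' : ¬ (u : X) * e * (u : X)⁻¹ = e := fun h => hv (hiff.1 h)
          rw [(he v v.2).resolve_left hv]
          have := (he u u.2).resolve_left hu'
          calc (u : X) * e⁻¹ * (u : X)⁻¹ = ((u : X) * e * (u : X)⁻¹)⁻¹ := by group
            _ = e := by rw [this, inv_inv]
      calc e * ((u * v : Y) : X)
          = ((u * v : Y) : X) * e * ((u * v : Y) : X)⁻¹ * ((u * v : Y) : X) := by rw [h1]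
        _ = ((u * v : Y) : X) * e := by group
    have hb' := hbal a haY _ (u * v : Y).2 hw1 b hba (hfix b hbf hf.1)
    have hd' := hbal c hcY _ (u * v : Y).2 hw1 d hdc (hfix d hdf hf.2)
    exact habel _ (u * v : Y).2 b hb' d hd'
  have hcomm := Subgroup.isMulCommutative_closure hΦc
  constructor
  · have hodd : ∀ w ∈ Subgroup.closure Φ, Odd (orderOf w) := by
      intro w hw
      induction hw using Subgroup.closure_induction with
      | mem x hx => obtain ⟨a, -, -, hx, -⟩ := hx; exact odd_orderOf_coreAt hx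
      | one => simp
      | mul x y hx hy ihx ihy =>
        have hxy : Commute x y := congrArg (fun t : Subgroup.closure Φ => (t : X))
          (hcomm.is_comm.comm ⟨x, hx⟩ ⟨y, hy⟩)
        exact (ihx.mul ihy).of_dvd_nat hxy.orderOf_mul_dvd_mul_orderOf
      | inv x _ ih => simpa using ih
    rw [Nat.odd_iff]
    by_contra h
    have h2 : 2 ∣ Nat.card W := by omega
    obtain ⟨w, hw⟩ := exists_prime_orderOf_dvd_card' 2 h2
    rw [← Subgroup.orderOf_coe] at hw
    have := hodd w (hWle w.2)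
    rw [hw] at this
    exact absurd this (by decide)
  · intro g hg
    have key : ∀ h ∈ Subgroup.normalizer (Y : Set X), ∀ w ∈ W, h * w * h⁻¹ ∈ W := by
      intro h hh w hw
      have hle : W.map (MulAut.conj h).toMonoidHom ≤ W := by
        rw [hW, Subgroup.map_iSup]
        refine iSup_le fun y => ?_
        refine le_trans ?_ (le_iSup (fun y : {y : X // y ∈ Y ∧ y ≠ 1} => coreAt (y : X))
          ⟨h * y * h⁻¹, (Subgroup.mem_normalizer_iff.1 hh y).1 y.2.1, fun e => y.2.2 (by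
            calc (y : X) = h⁻¹ * (h * y * h⁻¹) * h := by group
              _ = 1 := by rw [e]; group)⟩)
        refine le_pPrimeCoreOf (p := 2) ?_ ?_ ?_
        · rintro _ ⟨u, hu, rfl⟩
          rw [Subgroup.mem_centralizer_singleton_iff]
          have := comm_of_mem_coreAt hu
          show h * u * h⁻¹ * (h * y * h⁻¹) = (h * y * h⁻¹) * (h * u * h⁻¹)
          calc h * u * h⁻¹ * (h * y * h⁻¹) = h * (u * y) * h⁻¹ := by group
            _ = h * ((y : X) * u) * h⁻¹ := by rw [this]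
            _ = (h * y * h⁻¹) * (h * u * h⁻¹) := by group
        · have hconj : ∀ q, q * (h * y * h⁻¹) = (h * y * h⁻¹) * q → ∀ v ∈
              (coreAt (y : X)).map (MulAut.conj h).toMonoidHom,
              q * v * q⁻¹ ∈ (coreAt (y : X)).map (MulAut.conj h).toMonoidHom := by
            rintro q hq _ ⟨u, hu, rfl⟩
            refine ⟨(h⁻¹ * q * h) * u * (h⁻¹ * q * h)⁻¹, conj_mem_coreAt ?_ hu, ?_⟩
            · calc (h⁻¹ * q * h) * y = h⁻¹ * (q * (h * y * h⁻¹)) * h := by group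
                _ = h⁻¹ * ((h * y * h⁻¹) * q) * h := by rw [hq]
                _ = (y : X) * (h⁻¹ * q * h) := by group
            · simp [mul_assoc]
          intro q hq
          rw [Subgroup.mem_normalizer_iff]
          intro v
          refine ⟨hconj q (Subgroup.mem_centralizer_singleton_iff.1 hq) v, fun hv => ?_⟩
          have := hconj q⁻¹ (Subgroup.mem_centralizer_singleton_iff.1 (inv_mem hq)) _ hv
          simpa [mul_assoc] using this
        · rw [Subgroup.card_map_of_injective (MulEquiv.injective _)]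
          exact coprime_card_pPrimeCoreOf 2 _
      simpa using hle (Subgroup.mem_map_of_mem _ hw)
    rw [Subgroup.mem_normalizer_iff]
    intro w
    refine ⟨key g hg w, fun h => ?_⟩
    have := key g⁻¹ (inv_mem hg) _ h
    simpa [mul_assoc] using this

end Cfsg.Agent.S2924
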