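import Cfsg.Statements.S2925
import Cfsg.Agent.Lib.Components.Basic
import Cfsg.Agent.Lib.LocalEven.Norm

set_option autoImplicit false
open Cfsg

namespace Cfsg.Agent.S2925

/-- Let K be a component of the finite group X and T a Sylow 2-subgroup of X. If some abelian normal subgroup Y of T does not normalize K, then K ⧸ Z(K) has abelian Sylow 2-subgroups. -/
theorem result {X : Type*} [Group X] [Finite X] (K : Subgroup X) (hK : Cfsg.IsComponent K) (T : Sylow 2 X) (Y : Subgroup X) (hYT : Y ≤ (T : Subgroup X)) (hYn : (Y.subgroupOf (T : Subgroup X)).Normal) (hYab : IsMulCommutative ↥Y) (hnot : ¬ Y ≤ Subgroup.normalizer (K : Set X)) (P : Sylow 2 (↥K ⧸ Subgroup.center ↥K)) : IsMulCommutative ↥(P : Subgroup (↥K ⧸ Subgroup.center ↥K)) := by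
  classical
  obtain ⟨y, hy, hyn⟩ : ∃ y ∈ Y, y ∉ Subgroup.normalizer (K : Set X) := Set.not_subset.mp hnot
  set K' := K.map (MulAut.conj y).toMonoidHom with hK'
  have hne : K ≠ K' := fun h => hyn (Subgroup.mem_normalizer_iff.mpr fun x => by
    constructor
    · intro hx; rw [h]; exact ⟨x, hx, rfl⟩
    · intro hx; rw [h] at hx
      obtain ⟨z, hz, hzx⟩ := hx
      have : z = x := by simpa using hzx
      exact this ▸ hz)
  have hcomm : ⁅K, K'⁆ = ⊥ :=
    Cfsg.Agent.Components.components_commute hK (Cfsg.Agent.Components.component_conj hK y) hne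
  have hc : ∀ k ∈ K, ∀ k' ∈ K', k * k' = k' * k := fun k hk k' hk' =>
    commutatorElement_eq_one_iff_mul_comm.mp
      (Subgroup.mem_bot.mp (hcomm ▸ Subgroup.commutator_mem_commutator hk hk'))
  set Q : Subgroup X := (T : Subgroup X) ⊓ K with hQ
  let R : Sylow 2 ↥K := ⟨Q.subgroupOf K,
    (T.isPGroup'.to_le inf_le_left).comap_of_injective K.subtype K.subtype_injective, fun {S} hS hle => by
      have h1 := Cfsg.Agent.LENorm.maximal_inf_subnormal T hK.1 (S.map K.subtype) (hS.map _)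
        (Subgroup.map_subtype_le _) (fun x hx => ⟨⟨x, (Subgroup.mem_inf.1 hx).2⟩, hle hx, rfl⟩)
      rw [hQ, ← h1, Subgroup.subgroupOf, Subgroup.comap_map_eq_self_of_injective K.subtype_injective]⟩
  have hR : ∀ s ∈ (R : Subgroup ↥K), ∀ t ∈ (R : Subgroup ↥K),
      QuotientGroup.mk' (Subgroup.center ↥K) s * QuotientGroup.mk' (Subgroup.center ↥K) t
        = QuotientGroup.mk' (Subgroup.center ↥K) t * QuotientGroup.mk' (Subgroup.center ↥K) s := by
    intro s hs t ht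
    have key : ∀ u : ↥K, (u : X) ∈ (T : Subgroup X) → y * (u : X) * y⁻¹ * (u : X)⁻¹ ∈ Y := fun u hu => by
      have h1 : (u : X) * y⁻¹ * (u : X)⁻¹ ∈ Y :=
        hYn.conj_mem ⟨y⁻¹, hYT (Y.inv_mem hy)⟩ (Y.inv_mem hy) ⟨u, hu⟩
      simpa [mul_assoc] using Y.mul_mem hy h1
    have ha := key s (Subgroup.mem_inf.1 hs).1
    have hb := key t (Subgroup.mem_inf.1 ht).1
    have hab := congrArg Subtype.val (hYab.is_comm.comm (⟨_, ha⟩ : ↥Y) ⟨_, hb⟩)
    simp only [Subgroup.coe_mul] at hab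
    set s' := y * (s : X) * y⁻¹ with hs'
    set t' := y * (t : X) * y⁻¹ with ht'
    have hs'K : s' ∈ K' := ⟨s, s.2, rfl⟩
    have ht'K : t' ∈ K' := ⟨t, t.2, rfl⟩
    have e1 : s' * t' * ((s : X)⁻¹ * (t : X)⁻¹) = t' * s' * ((t : X)⁻¹ * (s : X)⁻¹) := by
      calc s' * t' * ((s : X)⁻¹ * (t : X)⁻¹) = s' * ((s : X)⁻¹ * t') * (t : X)⁻¹ := by
            rw [hc _ (K.inv_mem s.2) _ ht'K]; simp [mul_assoc]
        _ = s' * (s : X)⁻¹ * (t' * (t : X)⁻¹) := by simp [mul_assoc]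
        _ = t' * (t : X)⁻¹ * (s' * (s : X)⁻¹) := hab
        _ = t' * ((t : X)⁻¹ * s') * (s : X)⁻¹ := by simp [mul_assoc]
        _ = t' * s' * ((t : X)⁻¹ * (s : X)⁻¹) := by
            rw [hc _ (K.inv_mem t.2) _ hs'K]; simp [mul_assoc]
    have e2 : (t : X)⁻¹ * (s : X)⁻¹ * (t : X) * (s : X) = s'⁻¹ * t'⁻¹ * s' * t' := by
      have e3 := congrArg (fun z : X => s'⁻¹ * t'⁻¹ * z * ((t : X) * (s : X))) e1
      simpa [mul_assoc] using e3.symm
    have hcen : t⁻¹ * s⁻¹ * t * s ∈ Subgroup.center ↥K := Subgroup.mem_center_iff.mpr fun k => by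
      apply Subtype.ext
      simp only [Subgroup.coe_mul, Subgroup.coe_inv]
      rw [e2]
      exact hc _ k.2 _ (K'.mul_mem (K'.mul_mem (K'.mul_mem (K'.inv_mem hs'K) (K'.inv_mem ht'K)) hs'K) ht'K)
    rw [← map_mul, ← map_mul, QuotientGroup.mk'_apply, QuotientGroup.mk'_apply, eq_comm, QuotientGroup.eq]
    simpa [mul_assoc] using (Subgroup.center ↥K).inv_mem hcen
  let R' : Sylow 2 (↥K ⧸ Subgroup.center ↥K) := R.mapSurjective (QuotientGroup.mk'_surjective _)
  obtain ⟨g, hg⟩ := MulAction.exists_smul_eq (↥K ⧸ Subgroup.center ↥K) R' P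
  refine ⟨⟨fun a b => Subtype.ext ?_⟩⟩
  subst hg
  obtain ⟨a', ha', ea⟩ := a.2
  obtain ⟨b', hb', eb⟩ := b.2
  obtain ⟨s, hs, es⟩ := ha'
  obtain ⟨t, ht, et⟩ := hb'
  simp only [Subgroup.coe_mul]
  rw [← ea, ← eb]
  simp only [MulDistribMulAction.toMonoidEnd_apply, MulDistribMulAction.toMonoidHom_apply]
  rw [← smul_mul', ← smul_mul', ← es, ← et, hR s hs t ht]

end Cfsg.Agent.S2925
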