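import Cfsg.Statements.S2928
import Cfsg.Agent.Lib.Recog.QuadSeed
-- import your own Cfsg.Agent.* helpers here

set_option autoImplicit false
open Cfsg

namespace Cfsg.Agent.S2928

/-- Let n ≥ 8 and let H be a subgroup of the symmetric group of degree n whose generalized Fitting subgroup F*(H) is quasisimple. If H contains a Sylow 2-subgroup of the alternating group of degree n, then F*(H) is isomorphic to an alternating group of degree m for some m ∈ {n − 3, n − 2, n − 1, n}. -/
theorem result (n : ℕ) (hn : 8 ≤ n) (H : Subgroup (Equiv.Perm (Fin n))) (hF : Cfsg.IsQuasisimple ↥(Cfsg.generalizedFittingSubgroup ↥H)) (hS : ∃ P : Sylow 2 ↥(alternatingGroup (Fin n)), ((P : Subgroup ↥(alternatingGroup (Fin n))).map (alternatingGroup (Fin n)).subtype) ≤ H) : ∃ m : ℕ, (m = n - 3 ∨ m = n - 2 ∨ m = n - 1 ∨ m = n) ∧ Nonempty (↥(Cfsg.generalizedFittingSubgroup ↥H) ≃* ↥(alternatingGroup (Fin m))) := by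
  classical
  obtain ⟨P, hP⟩ := hS
  haveI : Fact (Nat.Prime 2) := ⟨Nat.prime_two⟩
  let A := alternatingGroup (Fin n)
  let e0 : Fin 8 ↪ Fin n := Fin.castLEEmb hn
  have hsgn : ∀ a b c d : Fin 8, a ≠ b → c ≠ d →
      Equiv.Perm.viaEmbeddingHom e0 (QuadSeed.dt a b c d) ∈ A := by
    intro a b c d hab hcd
    rw [QuadSeed.via_dt]
    show Equiv.Perm.sign _ = 1
    rw [QuadSeed.dt, map_mul, Equiv.Perm.sign_swap (e0.injective.ne hab),
      Equiv.Perm.sign_swap (e0.injective.ne hcd)]
    rfl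
  have hDA : QuadSeed.sylowEight.map (Equiv.Perm.viaEmbeddingHom e0) ≤ A := by
    rw [Subgroup.map_le_iff_le_comap, QuadSeed.sylowEight, Subgroup.closure_le]
    intro g hg
    simp only [Set.mem_insert_iff, Set.mem_singleton_iff] at hg
    rw [SetLike.mem_coe, Subgroup.mem_comap]
    rcases hg with rfl | rfl | rfl | rfl | rfl | rfl
    · rw [QuadSeed.g5, map_mul]
      exact mul_mem (hsgn _ _ _ _ (by decide) (by decide)) (hsgn _ _ _ _ (by decide) (by decide))
    all_goals exact hsgn _ _ _ _ (by decide) (by decide)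
  have hD2 : IsPGroup 2 ((QuadSeed.sylowEight.map (Equiv.Perm.viaEmbeddingHom e0)).subgroupOf A) :=
    (QuadSeed.isPGroup_sylowEight.map _).comap_of_injective A.subtype A.subtype_injective
  obtain ⟨Q, hQ⟩ := hD2.exists_le_sylow
  obtain ⟨g, hg⟩ := MulAction.exists_smul_eq ↥A Q P
  let e : Fin 8 ↪ Fin n := e0.trans (g : Equiv.Perm (Fin n)).toEmbedding
  have hD : ∀ d ∈ QuadSeed.sylowEight, Equiv.Perm.viaEmbeddingHom e d ∈ H := by
    intro d hd
    have hdm : Equiv.Perm.viaEmbeddingHom e0 d ∈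
        QuadSeed.sylowEight.map (Equiv.Perm.viaEmbeddingHom e0) := Subgroup.mem_map_of_mem _ hd
    have hdQ : (⟨_, hDA hdm⟩ : ↥A) ∈ (Q : Subgroup ↥A) := hQ hdm
    have hmem := Subgroup.smul_mem_pointwise_smul _ (MulAut.conj g) _ hdQ
    have hP' : g * ⟨_, hDA hdm⟩ * g⁻¹ ∈ (P : Subgroup ↥A) := by rw [← hg]; exact hmem
    have := hP (Subgroup.mem_map_of_mem A.subtype hP')
    rw [map_mul, map_mul, map_inv] at this
    exact QuadSeed.conj_via e0 (g : Equiv.Perm (Fin n)) d ▸ this
  obtain ⟨Δ, h5, hK, hst⟩ := AltComponent.exists_altSub hF (QuadSeed.exists_threeCycle hF e hD)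
  have hle : Δ.card ≤ n := (Finset.card_le_univ Δ).trans_eq (Fintype.card_fin n)
  have hge : n ≤ Δ.card + 3 := by
    by_contra hlt
    obtain ⟨T, hTsub, hT⟩ := Finset.exists_subset_card_eq (s := Δᶜ) (n := 4)
      (by rw [Finset.card_compl, Fintype.card_fin]; omega)
    obtain ⟨a, b, c, d, hab, hac, had, hbc, hbd, hcd, rfl⟩ := Finset.card_eq_four.1 hT
    set x := QuadSeed.dt a b c d with hx
    have hxA : x ∈ A := by
      show Equiv.Perm.sign _ = 1
      rw [hx, QuadSeed.dt, map_mul, Equiv.Perm.sign_swap hab, Equiv.Perm.sign_swap hcd]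
      rfl
    have hxN : x ∈ AltSub.supp Δᶜ := AltSub.supp_mono hTsub
      (QuadSeed.dt_mem_supp (by simp) (by simp) (by simp) (by simp))
    have hxL : x ∈ AltSub.setStab Δ := AltSub.mem_setStab_of_maps fun y hy => by
      rw [hxN y (by simp [hy])]; exact hy
    have hx1 : x ≠ 1 := fun h => by
      have := QuadSeed.dt_apply_first (b := b) hac had
      rw [← hx, h] at this
      exact hab this
    have hx2 : x ^ 2 = 1 := by
      have hcm : Equiv.swap a b * Equiv.swap c d = Equiv.swap c d * Equiv.swap a b :=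
        AltSub.supp_commute (Δ := {a, b}) (Δ' := {c, d}) (by simp [hac, had, hbc, hbd])
          (AltSub.swap_mem_supp (by simp) (by simp)) (AltSub.swap_mem_supp (by simp) (by simp))
      rw [hx, QuadSeed.dt, pow_two]
      nth_rewrite 2 [hcm]
      rw [mul_assoc, ← mul_assoc (Equiv.swap c d), Equiv.swap_mul_self, one_mul, Equiv.swap_mul_self]
    obtain ⟨y, hyP, hyN, hy1⟩ := AltComponent.exists_mem_sylow (G := ↥A) P
      (L := (AltSub.setStab Δ).subgroupOf A) (N := (AltSub.supp Δᶜ).subgroupOf A)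
      (fun y hy => hst (hP (Subgroup.mem_map_of_mem A.subtype hy)))
      (fun l hl => by
        rw [Subgroup.mem_normalizer_iff]
        intro z
        exact Subgroup.mem_normalizer_iff.1 (AltComponent.setStab_le_normalizer Δ hl) (z : Equiv.Perm (Fin n)))
      (x := ⟨x, hxA⟩) hxN hxL (Subtype.ext hx2) (fun h => hx1 (congrArg Subtype.val h))
    exact hy1 (Subtype.ext (AltComponent.eq_one_of_fixes hK (hP (Subgroup.mem_map_of_mem A.subtype hyP)) hyN))
  exact ⟨Δ.card, by omega, AltComponent.nonempty_equiv hK⟩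

end Cfsg.Agent.S2928
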