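import Cfsg.Statements.S2930
import Cfsg.Agent.Lib.Recog.AltAutSq
import Cfsg.Agent.Lib.Recog.ThreeMinimalAlt
import Cfsg.Agent.Lib.Components.FStar
-- import your own Cfsg.Agent.* helpers here

set_option autoImplicit false
open Cfsg

namespace Cfsg.Agent.S2930

/-- Let X be a finite 3-minimal group (a Sylow 3-subgroup is not normal and lies in a unique maximal subgroup) whose generalized Fitting subgroup is isomorphic to an alternating group of degree n ≥ 5. Then X = F*(X), and n = 6, n = 9, or n = 3ᵃ + 1 for some a ≥ 2. -/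
theorem result {X : Type*} [Group X] [Finite X] (hX : Cfsg.IsPMinimal 3 X) (n : ℕ) (hn : 5 ≤ n) (hF : Nonempty (↥(Cfsg.generalizedFittingSubgroup X) ≃* ↥(alternatingGroup (Fin n)))) : Cfsg.generalizedFittingSubgroup X = ⊤ ∧ (n = 6 ∨ n = 9 ∨ ∃ a : ℕ, 2 ≤ a ∧ n = 3 ^ a + 1) := by
  classical
  obtain ⟨e⟩ := hF
  set K := Cfsg.generalizedFittingSubgroup X with hKdef
  haveI : K.Normal := Components.generalizedFitting_normal
  haveI : Fact (Nat.Prime 3) := ⟨Nat.prime_three⟩
  obtain ⟨S⟩ : Nonempty (Sylow 3 X) := inferInstance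
  obtain ⟨hSn, M, ⟨hM, hSM⟩, hMuniq⟩ := hX S
  let ρ : X →* MulAut ↥(alternatingGroup (Fin n)) :=
    (MulAut.congr e).toMonoidHom.comp (MulAut.conjNormal (H := K))
  have hρ : ∀ x a, ρ x a = e (MulAut.conjNormal x (e.symm a)) := fun x a => rfl
  have hρinj : Function.Injective ρ := by
    rw [injective_iff_map_eq_one]
    intro x hx
    have hcomm : ∀ k : ↥K, x * k * x⁻¹ = (k : X) := fun k => by
      have h := hρ x (e k)
      rw [hx, MulEquiv.symm_apply_apply] at h
      have h' := congrArg Subtype.val (e.injective h)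
      rw [MulAut.conjNormal_apply] at h'
      exact h'.symm
    have hxK : x ∈ K := Components.centralizer_generalizedFitting_le (by
      rw [Subgroup.mem_centralizer_iff]
      exact fun k hk => (mul_inv_eq_iff_eq_mul.1 (hcomm ⟨k, hk⟩)).symm)
    have hc : e ⟨x, hxK⟩ ∈ Subgroup.center ↥(alternatingGroup (Fin n)) := by
      rw [Subgroup.mem_center_iff]
      intro a
      obtain ⟨k, rfl⟩ := e.surjective a
      rw [← map_mul, ← map_mul]
      exact congrArg e (Subtype.ext (mul_inv_eq_iff_eq_mul.1 (hcomm k)).symm)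
    rw [alternatingGroup.center_eq_bot (by simp; omega), Subgroup.mem_bot, ← map_one e] at hc
    exact congrArg Subtype.val (e.injective hc)
  have hKtop : K = ⊤ := by
    have hfour : ∀ x : X, x ^ 4 ∈ K := by
      intro x
      obtain ⟨σ, hσ⟩ := AutAlt.sq_mem_range hn (ρ x)
      have hσσ : σ * σ ∈ alternatingGroup (Fin n) := by
        rw [Equiv.Perm.mem_alternatingGroup, map_mul, Int.units_mul_self]
      have key : ρ (x ^ 4) = ρ ((e.symm ⟨σ * σ, hσσ⟩ : ↥K) : X) := by
        apply MulEquiv.ext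
        intro a
        have h1 : ρ (x ^ 4) = MulAut.conjNormal (σ * σ) := by
          rw [map_mul, hσ, map_pow]
          simp only [pow_succ, pow_zero, one_mul, mul_assoc]
        rw [h1, hρ]
        apply e.symm.injective
        rw [MulEquiv.symm_apply_apply]
        apply Subtype.ext
        rw [MulAut.conjNormal_apply, ← Subgroup.coe_inv, ← Subgroup.coe_mul, ← Subgroup.coe_mul, ← map_inv,
          ← map_mul, ← map_mul]
        congr 1
      rw [hρinj key]
      exact SetLike.coe_mem _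
    have hSK : (S : Subgroup X) ≤ K := by
      intro x hx
      obtain ⟨k, hk⟩ := S.2 ⟨x, hx⟩
      have hk' : x ^ 3 ^ k = 1 := congrArg Subtype.val hk
      have h1 : (QuotientGroup.mk x : X ⧸ K) ^ 4 = 1 := by
        rw [← QuotientGroup.mk_pow, QuotientGroup.eq_one_iff]; exact hfour x
      have h2 : (QuotientGroup.mk x : X ⧸ K) ^ 3 ^ k = 1 := by
        rw [← QuotientGroup.mk_pow, hk', QuotientGroup.mk_one]
      have h3 : Nat.Coprime 4 (3 ^ k) := Nat.Coprime.pow_right k (by norm_num)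
      have h4 := (pow_gcd_eq_one (a := (QuotientGroup.mk x : X ⧸ K))).2 ⟨h1, h2⟩
      rw [h3.gcd_eq_one, pow_one] at h4
      exact (QuotientGroup.eq_one_iff x).1 h4
    by_contra hne
    obtain ⟨M₀, hM₀, hKM₀⟩ := (eq_top_or_exists_le_coatom K).resolve_left hne
    obtain ⟨M₁, hM₁, hNM₁⟩ := (eq_top_or_exists_le_coatom (Subgroup.normalizer ((S : Subgroup X) : Set X))).resolve_left
      (fun h => hSn (Subgroup.normalizer_eq_top_iff.1 h))
    have e0 := hMuniq M₀ ⟨hM₀, hSK.trans hKM₀⟩
    have e1 := hMuniq M₁ ⟨hM₁, Subgroup.le_normalizer.trans hNM₁⟩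
    have := Sylow.normalizer_sup_eq_top' S hSK
    exact hM.1 (top_le_iff.1 (this ▸ sup_le (e1 ▸ hNM₁) (e0 ▸ hKM₀)))
  refine ⟨hKtop, ?_⟩
  let ψ : X ≃* ↥(alternatingGroup (Fin n)) :=
    ((Subgroup.topEquiv.symm.trans (MulEquiv.subgroupCongr hKtop.symm))).trans e
  let f : X →* Equiv.Perm (Fin n) := (alternatingGroup (Fin n)).subtype.comp ψ.toMonoidHom
  have hf : Function.Injective f := Subtype.val_injective.comp ψ.injective
  have hfrange : f.range = alternatingGroup (Fin n) := by
    ext σ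
    exact ⟨fun ⟨x, hx⟩ => hx ▸ (ψ x).2, fun hσ => ⟨ψ.symm ⟨σ, hσ⟩, by simp [f]⟩⟩
  have hdeg := ThreeMinimalAlt.degree (T := (S : Subgroup X).map f) (by simpa using hn) (S.2.map f)
    (by rw [← hfrange]; exact Subgroup.map_le_range f _) (M.map f) (fun h => hM.1 (top_le_iff.1 (by
      intro x _
      obtain ⟨y, hy, hyx⟩ := h (hfrange ▸ ⟨x, rfl⟩ : f x ∈ alternatingGroup (Fin n))
      exact hf hyx ▸ hy)))
    (fun L hLA hTL hLne => by
      have hne : L.comap f ≠ ⊤ := fun h => hLne (le_antisymm hLA (hfrange ▸ by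
        rintro _ ⟨x, rfl⟩
        exact (h.symm ▸ Subgroup.mem_top x : x ∈ L.comap f)))
      obtain ⟨M₂, hM₂, hLM⟩ := (eq_top_or_exists_le_coatom (L.comap f)).resolve_left hne
      have e2 := hMuniq M₂ ⟨hM₂, (Subgroup.map_le_iff_le_comap.1 hTL).trans hLM⟩
      intro σ hσ
      obtain ⟨x, rfl⟩ := (hfrange ▸ hLA hσ : σ ∈ f.range)
      exact Subgroup.mem_map_of_mem f (e2 ▸ hLM hσ))
  rw [Fintype.card_fin] at hdeg
  exact hdeg

end Cfsg.Agent.S2930
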