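import Cfsg.Statements.S2931
import Cfsg.Agent.Lib.Small.SylowEight
import Cfsg.Agent.S0303
import Cfsg.Agent.S0822
import Cfsg.Agent.Lib.Small.UFourTwo.Iso
import Cfsg.Agent.Lib.Orthogonal.CharTwoInv.Classes

set_option autoImplicit false
open Cfsg

namespace Cfsg.Agent.S2931

/-- The Sylow 2-subgroups of the alternating group of degree 8 and of PSp₄(3) are isomorphic, and so are the Sylow 2-subgroups of the symmetric group of degree 8 and of the full isometry group of a non-degenerate quadratic form of minus type in dimension 6 over the field with 2 elements. -/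
theorem result (F : Type) [Field F] [Fintype F] (hF : Fintype.card F = 3) (K : Type) [Field K] [Fintype K] (hK : Fintype.card K = 2) (a b : K) (hab : ∀ z₁ z₂ : K, z₁ ^ 2 + a * z₁ * z₂ + b * z₂ ^ 2 = 0 → z₁ = 0 ∧ z₂ = 0) (P : Sylow 2 ↥(alternatingGroup (Fin 8))) (Q : Sylow 2 (Cfsg.PSp 2 F)) (P' : Sylow 2 (Equiv.Perm (Fin 8))) (Q' : Sylow 2 ↥(Cfsg.isometryGroup K (Cfsg.quadFormMinus 2 K a b))) : Nonempty (↥(P : Subgroup ↥(alternatingGroup (Fin 8))) ≃* ↥(Q : Subgroup (Cfsg.PSp 2 F))) ∧ Nonempty (↥(P' : Subgroup (Equiv.Perm (Fin 8))) ≃* ↥(Q' : Subgroup ↥(Cfsg.isometryGroup K (Cfsg.quadFormMinus 2 K a b)))) := by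
  classical
  haveI : Fact (Nat.Prime 2) := ⟨Nat.prime_two⟩
  let e : ZMod 2 ≃+* K := ZMod.ringEquivOfPrime K Nat.prime_two hK
  have h01 : ∀ c : K, c = 0 ∨ c = 1 := fun c => by
    have hu : ({0, 1} : Finset K) = Finset.univ := Finset.eq_univ_of_card _ (by simp [hK])
    have h := Finset.mem_univ c
    rw [← hu] at h
    simpa using h
  haveI hc2 : CharP K 2 := (RingHom.charP_iff_charP (e : ZMod 2 →+* K) 2).1 inferInstance
  obtain rfl : b = 1 := (h01 b).resolve_left fun h => one_ne_zero (hab 0 1 (by simp [h])).2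
  obtain rfl : a = 1 := (h01 a).resolve_left fun h => one_ne_zero (hab 1 1 (by
    simp [h, CharTwo.add_self_eq_zero])).1
  -- the orthogonal group over the prime field
  let E : GL ((Fin 2 ⊕ Fin 2) ⊕ Fin 2) (ZMod 2) ≃* GL ((Fin 2 ⊕ Fin 2) ⊕ Fin 2) K :=
    Units.mapEquiv e.mapMatrix.toMulEquiv
  have hq : ∀ v, Cfsg.quadFormMinus 2 K 1 1 (e ∘ v) = e (Cfsg.quadFormMinus 2 (ZMod 2) 1 1 v) := fun v => by
    simp only [Cfsg.quadFormMinus, map_sum, map_mul, map_add, map_pow, map_one, Function.comp]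
  have hv : ∀ (g : GL ((Fin 2 ⊕ Fin 2) ⊕ Fin 2) (ZMod 2)) v, (E g).1.mulVec (e ∘ v) = e ∘ (g.1.mulVec v) :=
    fun g v => by funext i; simp [E, Matrix.mulVec, dotProduct, map_mul]
  have hmap : Agent.SylowEight.O6.map E.toMonoidHom = Cfsg.isometryGroup K (Cfsg.quadFormMinus 2 K 1 1) := by
    ext h
    obtain ⟨g, rfl⟩ := E.surjective h
    rw [Subgroup.mem_map_equiv, MulEquiv.symm_apply_apply]
    constructor
    · intro hg u v
      obtain ⟨u, rfl⟩ : ∃ w, e ∘ w = u := ⟨e.symm ∘ u, by funext i; simp⟩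
      show Cfsg.quadFormMinus 2 K 1 1 ((E g).1.mulVec (e ∘ u)) = Cfsg.quadFormMinus 2 K 1 1 (e ∘ u)
      rw [hv, hq, hq]
      exact congrArg e (hg u u)
    · intro hg u v
      have h1 : Cfsg.quadFormMinus 2 K 1 1 ((E g).1.mulVec (e ∘ u)) = Cfsg.quadFormMinus 2 K 1 1 (e ∘ u) :=
        hg (e ∘ u) (e ∘ u)
      rw [hv, hq, hq] at h1
      exact e.injective h1
  let ψ : Agent.SylowEight.O6 ≃* ↥(Cfsg.isometryGroup K (Cfsg.quadFormMinus 2 K 1 1)) :=
    (E.subgroupMap _).trans (MulEquiv.subgroupCongr hmap)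
  let fO := ψ.toMonoidHom.comp Agent.SylowEight.orthRel.hom
  have hfO : Function.Injective fO := ψ.injective.comp Agent.SylowEight.orth_injective
  let fS := Agent.SylowEight.permRel.hom
  have hfS : Function.Injective fS := Agent.SylowEight.perm_injective
  have hM : Nat.card Agent.SylowEight.Model = 2 ^ 7 := Agent.SylowEight.card_model
  have hcardO : Nat.card ↥(Cfsg.isometryGroup K (Cfsg.quadFormMinus 2 K 1 1)) = 51840 := by
    rw [← Agent.Orth.coe_qMinus, Nat.card_congr (Agent.Orth.isoEquiv (Agent.Orth.qMinus K 2 1 1)).toEquiv,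
      Agent.Orth.card_oGroup_qMinus hab, Nat.card_eq_fintype_card, hK]
    rfl
  refine ⟨?_, ?_⟩
  · -- the even part
    let sgn := (Equiv.Perm.sign).comp fS
    have hMp : Nat.card sgn.ker = 2 ^ 6 := by
      have hsurj : Function.Surjective sgn := fun u => by
        rcases Int.units_eq_one_or u with rfl | rfl
        · exact ⟨1, map_one _⟩
        · refine ⟨⟨(DihedralGroup.sr 0, 1), 1⟩, ?_⟩
          rw [show sgn _ = _ from Agent.SylowEight.perm_sign _]
          rfl
      have h := sgn.ker.card_mul_index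
      rw [Subgroup.index_ker, MonoidHom.range_eq_top.2 hsurj, Subgroup.card_top, hM, Nat.card_eq_fintype_card
        (α := ℤˣ), Fintype.card_units_int] at h
      omega
    have hA : ∀ x : sgn.ker, fS x.1 ∈ alternatingGroup (Fin 8) := fun x => Equiv.Perm.mem_alternatingGroup.2 x.2
    let fA : sgn.ker →* alternatingGroup (Fin 8) := (fS.comp sgn.ker.subtype).codRestrict _ hA
    have hfA : Function.Injective fA := fun x y h =>
      Subtype.ext (hfS (congrArg Subtype.val h))
    have hΩ : ∀ x : sgn.ker, fO x.1 ∈ Cfsg.Omega K (Cfsg.quadFormMinus 2 K 1 1) := fun x => by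
      have hx : Equiv.Perm.sign (fS x.1) = 1 := x.2
      rw [Agent.SylowEight.perm_sign, neg_one_pow_eq_one_iff_even (by decide)] at hx
      have h := Subgroup.mem_map_of_mem ψ.toMonoidHom (Agent.SylowEight.orth_commutator hx)
      have hc : (commutator Agent.SylowEight.O6).map ψ.toMonoidHom ≤ commutator _ := by
        rw [commutator, commutator, Subgroup.map_commutator]
        exact Subgroup.commutator_mono le_top le_top
      exact hc h
    let fΩ : sgn.ker →* ↥(Cfsg.Omega K (Cfsg.quadFormMinus 2 K 1 1)) := (fO.comp sgn.ker.subtype).codRestrict _ hΩ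
    have hfΩ : Function.Injective fΩ := fun x y h => Subtype.ext (hfO (congrArg Subtype.val h))
    -- the projective group
    haveI : Fintype (GaloisField 2 2) := Fintype.ofFinite _
    have hL : Fintype.card (GaloisField 2 2) = 4 := by
      rw [← Nat.card_eq_fintype_card, GaloisField.card 2 2 two_ne_zero]; rfl
    obtain ⟨i1⟩ := Agent.S0303.result (q := 2) hK (K := GaloisField 2 2) (by rw [hL]; rfl) (1 : K) 1 hab
    obtain ⟨i2⟩ := Agent.S0822.result (F := GaloisField 2 2) (K := F) hL hF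
    have hP : Nat.card (Cfsg.POmega K (Cfsg.quadFormMinus 2 K 1 1)) = 25920 := by
      rw [Nat.card_congr (i1.trans i2).toEquiv, Agent.UFourTwo.card_psp hF]
    have hne : (Cfsg.Omega K (Cfsg.quadFormMinus 2 K 1 1)).index ≠ 1 := by
      rw [← Agent.Orth.coe_qMinus]
      intro htop
      rw [Subgroup.index_eq_one] at htop
      obtain ⟨v, hv⟩ : ∃ v : (Fin 2 ⊕ Fin 2) ⊕ Fin 2 → K, Agent.Orth.qMinus K 2 1 1 v ≠ 0 :=
        ⟨Pi.single (.inr 0) 1, by rw [Agent.Orth.coe_qMinus]; simp [Cfsg.quadFormMinus]⟩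
      obtain ⟨r, -, hr⟩ := Agent.Orth.exists_reflection _ hv
      refine Agent.OrthInv2.refl_not_mem (Agent.Orth.qMinus_nondeg hab 2) (by simp) (Or.inr (by simp)) hr ?_
      rw [htop]
      exact Subgroup.mem_top r
    have hcardΩ : Nat.card ↥(Cfsg.Omega K (Cfsg.quadFormMinus 2 K 1 1)) = 25920 := by
      have h := (Cfsg.Omega K (Cfsg.quadFormMinus 2 K 1 1)).card_mul_index
      rw [hcardO] at h
      have hge : 25920 ≤ Nat.card ↥(Cfsg.Omega K (Cfsg.quadFormMinus 2 K 1 1)) :=
        hP ▸ Nat.card_le_card_of_surjective _ (QuotientGroup.mk'_surjective _)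
      have h0 : (Cfsg.Omega K (Cfsg.quadFormMinus 2 K 1 1)).index ≠ 0 := Subgroup.index_ne_zero_of_finite
      have h2 : 2 ≤ (Cfsg.Omega K (Cfsg.quadFormMinus 2 K 1 1)).index := by omega
      have h3 := Nat.mul_le_mul_left (Nat.card ↥(Cfsg.Omega K (Cfsg.quadFormMinus 2 K 1 1))) h2
      omega
    have hbij : Function.Bijective (QuotientGroup.mk' (Subgroup.center ↥(Cfsg.Omega K (Cfsg.quadFormMinus 2 K 1 1)))) :=
      (Nat.bijective_iff_surjective_and_card _).2 ⟨QuotientGroup.mk'_surjective _, hcardΩ.trans hP.symm⟩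
    let fP : sgn.ker →* Cfsg.PSp 2 F := ((i1.trans i2).toMonoidHom.comp (QuotientGroup.mk' _)).comp fΩ
    have hfP : Function.Injective fP := ((i1.trans i2).injective.comp hbij.1).comp hfΩ
    obtain ⟨u⟩ := Agent.SylowEight.sylow_equiv fA hfA hMp (r := 315) (by decide) (by
      rw [nat_card_alternatingGroup, Nat.card_eq_fintype_card, Fintype.card_fin]; rfl) P
    obtain ⟨v⟩ := Agent.SylowEight.sylow_equiv fP hfP hMp (r := 405) (by decide)
      (by rw [Agent.UFourTwo.card_psp hF]; norm_num) Q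
    exact ⟨u.trans v.symm⟩
  · obtain ⟨u⟩ := Agent.SylowEight.sylow_equiv fS hfS hM (r := 315) (by decide) (by
      rw [Nat.card_perm, Nat.card_eq_fintype_card, Fintype.card_fin]; rfl) P'
    obtain ⟨v⟩ := Agent.SylowEight.sylow_equiv fO hfO hM (r := 405) (by decide) (by rw [hcardO]; norm_num) Q'
    exact ⟨u.trans v.symm⟩

end Cfsg.Agent.S2931
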