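import Cfsg.Statements.S2932
import Cfsg.Agent.Lib.LocalEven.SL2OverFour

set_option autoImplicit false
open Cfsg

namespace Cfsg.Agent.S2932

/-- Let p be a prime. Inside a finite ambient group let V be an elementary abelian p-subgroup and G a subgroup normalizing V and acting faithfully on it (G ∩ C(V) = 1), and let L ≤ G act on V as SL₂(F) on its natural module, F a finite field of characteristic p, with L ≅ SL₂(F). If every Sylow p-subgroup of N_G(L) is a Sylow p-subgroup of G, then either L is normal in G, or F has 4 elements and G is isomorphic to the alternating group of degree 7. -/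
theorem result {X : Type*} [Group X] [Finite X] {p : ℕ} [Fact p.Prime] (F : Type) [Field F] [Fintype F] [CharP F p] (V G L : Subgroup X) (hV : Cfsg.IsElementaryAbelian p V) (hGV : G ≤ Subgroup.normalizer (V : Set X)) (hfaith : G ⊓ Subgroup.centralizer (V : Set X) = ⊥) (hLG : L ≤ G) (hnat : Cfsg.IsNaturalSL2Module F V L) (hLiso : Nonempty (↥L ≃* Matrix.SpecialLinearGroup (Fin 2) F)) (hSyl : ∀ S : Sylow p ↥(G ⊓ Subgroup.normalizer (L : Set X)), ∀ P : Sylow p ↥G, Nat.card S = Nat.card P) : (L.subgroupOf G).Normal ∨ (Fintype.card F = 4 ∧ Nonempty (↥G ≃* ↥(alternatingGroup (Fin 7)))) := by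
  classical
  obtain ⟨hLV, ρ, ψ, hρs, hρk, hρψ⟩ := hnat
  have hρi : Function.Injective ρ := by
    rw [← MonoidHom.ker_eq_bot_iff, hρk, Subgroup.subgroupOf_eq_bot, disjoint_iff, eq_bot_iff]
    intro x hx
    rw [← hfaith]
    exact ⟨hLG hx.2, hx.1⟩
  let val : (Fin 2 → F) → ↥V := fun w => (ψ.symm w).toMul
  let cj : ↥G → ↥V → ↥V := fun g v =>
    ⟨(g : X) * v * (g : X)⁻¹, (Subgroup.mem_normalizer_iff.1 (hGV g.2) _).1 v.2⟩
  let D : LESL2Over.Act ↥G F :=
    { act := fun g w => ψ (Additive.ofMul (cj g (val w)))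
      act_one := fun w => by
        have e : cj 1 (val w) = val w := Subtype.ext (by simp [cj])
        simp only [e]
        exact ψ.apply_symm_apply w
      act_mul := fun g h w => by
        have e : val (ψ (Additive.ofMul (cj h (val w)))) = cj h (val w) :=
          congrArg Additive.toMul (ψ.symm_apply_apply _)
        simp only [e]
        exact congrArg (fun x => ψ (Additive.ofMul x)) (Subtype.ext (by simp [cj, mul_assoc]))
      act_add := fun g v w => by
        rw [← map_add, ← ofMul_mul]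
        refine congrArg (fun x => ψ (Additive.ofMul x)) (Subtype.ext ?_)
        have e : val (v + w) = val v * val w := congrArg Additive.toMul (map_add ψ.symm v w)
        rw [e]
        simp [cj, mul_assoc]
      faith := fun g hg => by
        refine Subtype.ext (Subgroup.mem_bot.1 (hfaith ▸ (⟨g.2, ?_⟩ :
          (g : X) ∈ G ⊓ Subgroup.centralizer (V : Set X))))
        refine Subgroup.mem_centralizer_iff.2 fun v hv => ?_
        have h1 := hg (ψ (Additive.ofMul ⟨v, hv⟩))
        have e : val (ψ (Additive.ofMul ⟨v, hv⟩)) = ⟨v, hv⟩ := congrArg Additive.toMul (ψ.symm_apply_apply _)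
        rw [e] at h1
        have h2 : (g : X) * v * (g : X)⁻¹ = v :=
          congrArg Subtype.val (Additive.ofMul.injective (ψ.injective h1) :)
        exact (mul_inv_eq_iff_eq_mul.1 h2).symm
      L := L.subgroupOf G
      e := (Subgroup.subgroupOfEquivOfLe hLG).trans (MulEquiv.ofBijective ρ ⟨hρi, hρs⟩)
      hL := fun l w => by
        obtain ⟨u, hu1, hu2⟩ := hρψ ⟨((l : ↥G) : X), l.2⟩ (val w)
        have e : cj (l : ↥G) (val w) = u := Subtype.ext hu1.symm
        simp only [e]
        rw [hu2]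
        exact congrArg _ (ψ.apply_symm_apply w) }
  -- a Sylow subgroup normalising `L`
  let N : Subgroup X := G ⊓ Subgroup.normalizer (L : Set X)
  let Nc : Subgroup ↥G := Subgroup.normalizer ((L.subgroupOf G : Subgroup ↥G) : Set ↥G)
  have hNc : Nc = N.subgroupOf G := by
    rw [Subgroup.inf_subgroupOf_left]
    exact (Subgroup.subgroupOf_normalizer_eq hLG).symm
  have hU₀N : D.U₀ ≤ N.subgroupOf G := hNc ▸ D.U₀_le.trans Subgroup.le_normalizer
  have hU₀p : IsPGroup p ↥(D.U₀.subgroupOf (N.subgroupOf G)) :=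
    D.isPGroup_U₀.of_equiv (Subgroup.subgroupOfEquivOfLe hU₀N).symm
  obtain ⟨S, hS⟩ := hU₀p.exists_le_sylow
  let eN : ↥(N.subgroupOf G) ≃* ↥N := Subgroup.subgroupOfEquivOfLe inf_le_left
  let S' : Sylow p ↥N := S.comapOfInjective eN.symm.toMonoidHom eN.symm.injective
    (fun x _ => eN.symm.surjective x)
  obtain ⟨P⟩ : Nonempty (Sylow p ↥G) := inferInstance
  have hcard : Nat.card ↥((S : Subgroup ↥(N.subgroupOf G)).map (N.subgroupOf G).subtype) =
      p ^ (Nat.card ↥G).factorization p := by
    rw [← P.card_eq_multiplicity, ← hSyl S' P,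
      ← Nat.card_congr ((S : Subgroup ↥(N.subgroupOf G)).equivMapOfInjective _ Subtype.val_injective).toEquiv,
      S.card_eq_multiplicity, S'.card_eq_multiplicity, Nat.card_congr eN.toEquiv]
  let T : Sylow p ↥G := Sylow.ofCard _ hcard
  have hTU : D.U₀ ≤ (T : Subgroup ↥G) := fun x hx => ⟨⟨x, hU₀N hx⟩, hS hx, rfl⟩
  have hTN : (T : Subgroup ↥G) ≤ Subgroup.normalizer (D.L : Set ↥G) :=
    (Subgroup.map_subtype_le _).trans hNc.ge
  by_cases hF : Fintype.card F = 4
  · obtain rfl : p = 2 := by
      obtain ⟨n, hp, hn⟩ := FiniteField.card F p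
      rw [hF] at hn
      have : p ∣ 2 ^ 2 := ⟨p ^ ((n : ℕ) - 1), by
        rw [← pow_succ', Nat.sub_add_cancel n.pos]; exact hn⟩
      exact (Nat.prime_dvd_prime_iff_eq hp Nat.prime_two).1 (hp.dvd_of_dvd_pow this)
    rcases LESL2Four.four D (by rw [Nat.card_eq_fintype_card, hF]) hTN with h | h
    · exact Or.inl h
    · exact Or.inr ⟨hF, h⟩
  · exact Or.inl (LESL2Over.Act.Good.L_normal (by rw [Nat.card_eq_fintype_card]; exact hF) (T := T) (D := D) ⟨hTU, hTN⟩)

end Cfsg.Agent.S2932

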