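import Cfsg.Statements.S2933
import Cfsg.Agent.Lib.LocalEven.FourFixed
import Cfsg.Agent.S1141

set_option autoImplicit false
open Cfsg

namespace Cfsg.Agent.S2933

/-- Let T be a 2-subgroup of a finite group G, V ≤ Z(T) a four-group, and t, ρ ∈ N_G(V) ∩ N_G(T) elements of order 2 and 3 with t commuting with ρ and with V. If [V, ρ] = V and C_T(t) = V, then T is elementary abelian of order 16, or homocyclic of rank 2 (ℤ/2ⁿ × ℤ/2ⁿ for some n ≥ 1), or isomorphic to a Sylow 2-subgroup of PSL₃(4) or of PSU₃(4). -/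
theorem result {G : Type*} [Group G] [Finite G] (T V : Subgroup G) (hT : IsPGroup 2 ↥T) (hVT : V ≤ T ⊓ Subgroup.centralizer (T : Set G)) (hV : Nat.card ↥V = 4 ∧ ∀ v ∈ V, v ^ 2 = 1) (t ρ : G) (ht : orderOf t = 2) (hρ : orderOf ρ = 3) (htn : t ∈ Subgroup.normalizer (V : Set G) ⊓ Subgroup.normalizer (T : Set G)) (hρn : ρ ∈ Subgroup.normalizer (V : Set G) ⊓ Subgroup.normalizer (T : Set G)) (htρ : t * ρ = ρ * t) (htV : t ∈ Subgroup.centralizer (V : Set G)) (hVρ : ⁅V, Subgroup.zpowers ρ⁆ = V) (hCt : T ⊓ Subgroup.centralizer ({t} : Set G) = V) : (Nat.card ↥T = 16 ∧ ∀ x ∈ T, x ^ 2 = 1) ∨ (∃ n : ℕ, 1 ≤ n ∧ Nonempty (↥T ≃* Multiplicative (ZMod (2 ^ n)) × Multiplicative (ZMod (2 ^ n)))) ∨ (∃ (F : Type) (_ : Field F) (_ : Fintype F), Fintype.card F = 4 ∧ ∀ P : Sylow 2 (Matrix.ProjectiveSpecialLinearGroup (Fin 3) F), Nonempty (↥T ≃* ↥(P : Subgroup (Matrix.ProjectiveSpecialLinearGroup (Fin 3) F)))) ∨ (∃ (F : Type) (_ : Field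 F) (_ : Fintype F), Fintype.card F = 16 ∧ ∀ P : Sylow 2 (Cfsg.PSU 3 F 4), Nonempty (↥T ≃* ↥(P : Subgroup (Cfsg.PSU 3 F 4)))) := by
  classical
  obtain ⟨hV4, hV2⟩ := hV
  have hVT' : V ≤ T := hVT.trans inf_le_left
  have hρN : ρ ∈ Subgroup.normalizer (T : Set G) := hρn.2
  have htN : t ∈ Subgroup.normalizer (T : Set G) := htn.2
  let r : MulAut T := T.normalizerMonoidHom ⟨ρ, hρN⟩
  let s : MulAut T := T.normalizerMonoidHom ⟨t, htN⟩
  have hr : ∀ x : T, ((r x : T) : G) = ρ * x * ρ⁻¹ := fun x => rfl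
  have hs : ∀ x : T, ((s x : T) : G) = t * x * t⁻¹ := fun x => rfl
  have ht2 : t * t = 1 := by rw [← pow_two, ← ht, pow_orderOf_eq_one]
  have hρ3 : ρ * ρ * ρ = 1 := by rw [← pow_two, ← pow_succ, show 2 + 1 = orderOf ρ by omega, pow_orderOf_eq_one]
  have hrVmem : ∀ v ∈ V, ρ * v * ρ⁻¹ ∈ V := fun v hv => (Subgroup.mem_normalizer_iff.1 hρn.1 v).1 hv
  have hfree : ∀ v ∈ V, ρ * v = v * ρ → v = 1 := by
    intro v hv hvρ
    by_contra hv1
    set C := (V ⊓ Subgroup.centralizer ({ρ} : Set G)).subgroupOf V with hC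
    have hCmem : ∀ x : V, x ∈ C ↔ ρ * x = x * ρ := fun x => by
      rw [hC, Subgroup.mem_subgroupOf, Subgroup.mem_inf, Subgroup.mem_centralizer_singleton_iff]
      exact ⟨fun h => h.2.symm, fun h => ⟨x.2, h.symm⟩⟩
    have hC1 : C ≠ ⊥ := fun h => hv1 (congrArg Subtype.val (Subgroup.mem_bot.1 (h.le ((hCmem ⟨v, hv⟩).2 hvρ))))
    have hCcard : 1 < Nat.card C := C.one_lt_card_iff_ne_bot.2 hC1
    have hmul := C.card_mul_index
    rw [hV4] at hmul
    have hidx : C.index = 1 ∨ C.index = 2 := by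
      have h1 : C.index ∣ 4 := ⟨Nat.card C, by rw [← hmul, mul_comm]⟩
      have h2 := Nat.le_of_dvd (by norm_num) h1
      interval_cases hi : C.index <;> omega
    have htop : ∀ x : V, ρ * x = x * ρ := by
      intro x
      rcases hidx with h | h
      · exact (hCmem x).1 (Subgroup.index_eq_one.1 h ▸ Subgroup.mem_top x)
      by_cases hx : x ∈ C
      · exact (hCmem x).1 hx
      let y : V := ⟨ρ * x * ρ⁻¹, hrVmem x x.2⟩
      have hy : y ∉ C := fun hy => hx ((hCmem x).2 (by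
        have := (hCmem y).1 hy
        change ρ * (ρ * (x : G) * ρ⁻¹) = ρ * (x : G) * ρ⁻¹ * ρ at this
        calc ρ * (x : G) = ρ⁻¹ * (ρ * (ρ * x * ρ⁻¹)) * ρ := by group
          _ = ρ⁻¹ * (ρ * x * ρ⁻¹ * ρ) * ρ := by rw [this]
          _ = _ := by group))
      have hc : (x⁻¹ * y : V) ∈ C := (Subgroup.mul_mem_iff_of_index_two h).2 (by
        simp only [inv_mem_iff]; exact iff_of_false hx hy)
      obtain ⟨c, hcdef⟩ : ∃ c : G, c = (x : G)⁻¹ * (ρ * x * ρ⁻¹) := ⟨_, rfl⟩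
      have hcc : ρ * c = c * ρ := hcdef ▸ (hCmem _).1 hc
      have hc2 : c ^ 2 = 1 := hcdef ▸ hV2 _ (x⁻¹ * y : V).2
      have hc3 : c ^ 3 = 1 := by
        have e1 : ρ * (x : G) * ρ⁻¹ = x * c := by rw [hcdef]; group
        have e2 : ρ * c * ρ⁻¹ = c := by rw [hcc, mul_inv_cancel_right]
        have e3 : (x : G) = x * c ^ 3 := by
          calc (x : G) = (ρ * ρ * ρ) * x * (ρ * ρ * ρ)⁻¹ := by rw [hρ3]; group
            _ = ρ * (ρ * (ρ * x * ρ⁻¹) * ρ⁻¹) * ρ⁻¹ := by group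
            _ = ρ * (ρ * (x * c) * ρ⁻¹) * ρ⁻¹ := by rw [e1]
            _ = ρ * ((ρ * x * ρ⁻¹) * (ρ * c * ρ⁻¹)) * ρ⁻¹ := by group
            _ = ρ * ((x * c) * c) * ρ⁻¹ := by rw [e1, e2]
            _ = (ρ * x * ρ⁻¹) * (ρ * c * ρ⁻¹) * (ρ * c * ρ⁻¹) := by group
            _ = x * c * c * c := by rw [e1, e2]
            _ = _ := by rw [pow_succ, pow_two]; group
        exact left_eq_mul.1 e3
      have hc1 : c = 1 := by rwa [pow_succ, hc2, one_mul] at hc3
      rw [hc1, eq_comm, inv_mul_eq_one] at hcdef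
      exact (eq_mul_inv_iff_mul_eq.1 hcdef).symm
    have hbot : ⁅V, Subgroup.zpowers ρ⁆ = ⊥ := by
      rw [Subgroup.commutator_eq_bot_iff_le_centralizer]
      intro x hx
      rw [Subgroup.mem_centralizer_iff]
      intro g hg
      obtain ⟨i, rfl⟩ := Subgroup.mem_zpowers_iff.1 hg
      exact ((show Commute ρ x from htop ⟨x, hx⟩).zpow_left i).eq
    rw [hbot] at hVρ
    exact hv1 (Subgroup.mem_bot.1 (hVρ.symm ▸ hv))
  let D : Cfsg.Agent.FourFixed.Setup T :=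
    { r := r
      s := s
      hp := hT
      r3 := fun x => Subtype.ext (by
        rw [hr, hr, hr, show ρ * (ρ * (ρ * (x : G) * ρ⁻¹) * ρ⁻¹) * ρ⁻¹ = ρ * ρ * ρ * x * (ρ * ρ * ρ)⁻¹ by group, hρ3]
        group)
      s2 := fun x => Subtype.ext (by
        rw [hs, hs, show t * (t * (x : G) * t⁻¹) * t⁻¹ = t * t * x * (t * t)⁻¹ by group, ht2]
        group)
      sr := fun x => Subtype.ext (by
        rw [hs, hr, hr, hs, show t * (ρ * (x : G) * ρ⁻¹) * t⁻¹ = t * ρ * x * (t * ρ)⁻¹ by group, htρ]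
        group)
      V := V.subgroupOf T
      V4 := by rw [Nat.card_congr (Subgroup.subgroupOfEquivOfLe hVT').toEquiv, hV4]
      fix := fun x => by
        rw [Subgroup.mem_subgroupOf, ← hCt, Subgroup.mem_inf, Subgroup.mem_centralizer_singleton_iff]
        refine ⟨fun h => ⟨x.2, ?_⟩, fun h => Subtype.ext ?_⟩
        · have := congrArg Subtype.val h
          rw [hs] at this
          exact (mul_inv_eq_iff_eq_mul.1 this).symm
        · rw [hs, mul_inv_eq_iff_eq_mul]; exact h.2.symm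
      rV := fun v hv h => Subtype.ext (hfree _ (Subgroup.mem_subgroupOf.1 hv) (by
        have := congrArg Subtype.val h
        rw [hr, mul_inv_eq_iff_eq_mul] at this
        exact this)) }
  haveI : Fact (Nat.Prime 2) := ⟨Nat.prime_two⟩
  rcases D.classify with ⟨h16, h2⟩ | ⟨n, hn, ⟨e⟩⟩ | hH | ⟨E, hna, hEV, h64⟩
  · refine Or.inl ⟨h16, fun x hx => ?_⟩
    rw [pow_two]
    exact congrArg Subtype.val (h2 ⟨x, hx⟩)
  · exact Or.inr (Or.inl ⟨n, hn, ⟨e.trans (MulEquiv.prodMultiplicative _ _)⟩⟩)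
  · refine Or.inr (Or.inr (Or.inl ?_))
    letI : Fintype (GaloisField 2 2) := Fintype.ofFinite _
    have hF : Fintype.card (GaloisField 2 2) = 4 := by
      rw [Fintype.card_eq_nat_card, GaloisField.card 2 2 (by norm_num)]; norm_num
    refine ⟨GaloisField 2 2, inferInstance, inferInstance, hF, fun P => ?_⟩
    obtain ⟨S, ⟨e⟩⟩ := Cfsg.Agent.Order64.exists_sylow hF
    obtain ⟨e'⟩ := hH (GaloisField 2 2) hF
    exact ⟨e'.trans (e.trans (S.equiv P))⟩
  · refine Or.inr (Or.inr (Or.inr ?_))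
    letI : Fintype (GaloisField 2 4) := Fintype.ofFinite _
    have hF : Fintype.card (GaloisField 2 4) = 16 := by
      rw [Fintype.card_eq_nat_card, GaloisField.card 2 4 (by norm_num)]; norm_num
    refine ⟨GaloisField 2 4, inferInstance, inferInstance, hF, fun P => ?_⟩
    have hF' : Fintype.card (GaloisField 2 4) = (2 ^ 2) ^ 2 := by rw [hF]; norm_num
    obtain ⟨hPc, hPz, hPs⟩ := Cfsg.Agent.S1141.result (n := 2) le_rfl hF' P
    have hPna := hPs.2.2.1
    obtain ⟨E', -⟩ := Cfsg.Agent.Suzuki2.exists_datum hPs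
    have hE : Nat.card E'.V = 4 := by rw [← E'.center_eq_V hPna]; exact hPz
    obtain ⟨N⟩ := Cfsg.Agent.U34Uniq.exists_NF E hna hEV h64
    obtain ⟨M⟩ := Cfsg.Agent.U34Uniq.exists_NF E' hPna hE hPc
    exact N.nonempty_mulEquiv M h64 hPc

end Cfsg.Agent.S2933

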