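import Cfsg.Statements.S2937
import Cfsg.Agent.Lib.PMinSocle.Chev
import Cfsg.Agent.Lib.PMinSocle.Classical
import Cfsg.Agent.Lib.PMinSocle.OmegaEven
import Cfsg.Agent.Lib.PMinSocle.Twisted
import Cfsg.Agent.Lib.PMinSocle.Alt6
import Cfsg.Agent.Lib.PMinSocle.Unitary3
import Cfsg.Agent.Lib.PMinSocle.Tits
import Cfsg.Agent.Lib.Components.Basic
import Cfsg.Agent.Lib.Components.Fitting

set_option autoImplicit false
open Cfsg

namespace Cfsg.Agent.S2937

open Cfsg.Agent.PMinSocle

/-- What is needed of each member of `Chev(p)`. -/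
theorem shape_of_chevSimple {L : Type*} [Group L] [Finite L] {p : ℕ} [Fact p.Prime]
    (h : Cfsg.IsChevSimple p L) (U : Sylow p L) : Shape p L (U : Subgroup L) := by
  rcases h with h | ⟨rfl, h | ⟨F, _, _, hF, ⟨e⟩⟩ | h⟩ | ⟨rfl, F, _, _, hF, ⟨e⟩⟩
  · rcases h with h | h | h | h | h | h | h | h | ⟨rfl, h⟩ | ⟨rfl, h⟩ | ⟨rfl, h⟩
    · obtain ⟨F, _, _, _, n, hn, h2, ⟨e⟩⟩ := h
      exact good_psl hn h2 e U
    · obtain ⟨F, _, _, _, m, hm, h2, ⟨e⟩⟩ := h
      exact good_psp hm h2 e U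
    · obtain ⟨F, _, _, _, n, q, hF, hn, hex, ⟨e⟩⟩ := h
      exact good_psu hF hn hex e U
    · obtain ⟨F, _, _, _, m, hm, hodd, ⟨e⟩⟩ := h
      exact good_omega_odd hm hodd e U
    · obtain ⟨F, _, _, _, m, hm, ⟨e⟩⟩ := h
      exact good_omega_plus hm e U
    · obtain ⟨F, _, _, _, m, a, b, hm, hab, ⟨e⟩⟩ := h
      exact good_omega_minus (m := m - 1) (by omega) hab e U
    · exact good_exceptional h U
    · exact good_twE6D4 h U
    · exact good_suzuki h U
    · exact good_twF4 h U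
    · exact good_twG2 h U
  · obtain ⟨e⟩ := h
    exact good_alt6 e U
  · exact good_psu3_three hF e U
  · exact good_tits h U
  · exact good_psl2_eight hF e U

/-- Let X be a finite p-minimal group whose generalized Fitting subgroup K = F*(X) is a simple group of Lie type in characteristic p, and let U be a Sylow p-subgroup of K. Then N_X(U) is a maximal subgroup of X, and either K has Lie rank one (K ≅ PSL₂(pᵉ), PSU₃(pᵉ), a Suzuki group for p = 2, or a Ree group or PSL₂(8) for p = 3), or p = 2, K ≠ X and K is isomorphic to PSL₃(2ᵉ) or to PSp₄(2ᵉ) (e ≥ 2) or to the alternating group of degree 6. -/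
theorem result {X : Type*} [Group X] [Finite X] {p : ℕ} [Fact p.Prime] (hX : Cfsg.IsPMinimal p X) (hK : Cfsg.IsChevSimple p ↥(Cfsg.generalizedFittingSubgroup X)) (U : Sylow p ↥(Cfsg.generalizedFittingSubgroup X)) : IsCoatom (Subgroup.normalizer (((U : Subgroup ↥(Cfsg.generalizedFittingSubgroup X)).map (Cfsg.generalizedFittingSubgroup X).subtype : Subgroup X) : Set X)) ∧ (Cfsg.IsLieRankOneChar p ↥(Cfsg.generalizedFittingSubgroup X) ∨ (p = 2 ∧ Cfsg.generalizedFittingSubgroup X ≠ ⊤ ∧ ((∃ (F : Type) (_ : Field F) (_ : Fintype F) (_ : CharP F 2), Nonempty (↥(Cfsg.generalizedFittingSubgroup X) ≃* Matrix.ProjectiveSpecialLinearGroup (Fin 3) F)) ∨ (∃ (F : Type) (_ : Field F) (_ : Fintype F) (_ : CharP F 2), 4 ≤ Fintype.card F ∧ Nonempty (↥(Cfsg.generalizedFittingSubgroup X) ≃* Cfsg.PSp 2 F)) ∨ Nonempty (↥(Cfsg.generalizedFittingSubgroup X) ≃* ↥(alternatingGroup (Fin 6)))))) := by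
  haveI : (Cfsg.generalizedFittingSubgroup X).Normal := by
    haveI := Cfsg.Agent.Components.layer_normal (G := X)
    haveI := Cfsg.Agent.Components.fittingSubgroup_normal (G := X)
    unfold Cfsg.generalizedFittingSubgroup
    infer_instance
  exact main _ hX U (shape_of_chevSimple hK U)

end Cfsg.Agent.S2937
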