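import Cfsg.Statements.S2940

set_option autoImplicit false
open Cfsg

namespace Cfsg.Agent.S2940

/-- Let S be a Sylow p-subgroup of the finite group G and G₁, G₂ subgroups containing S with G = G₁G₂. Then for every g ∈ G there is a Sylow p-subgroup U of G with S ∩ S^g ≤ U ≤ G₁ ∩ G₂^g (conjugates taken as X^g = g⁻¹Xg). -/
theorem result {G : Type*} [Group G] [Finite G] {p : ℕ} [Fact p.Prime] (S : Sylow p G) (G₁ G₂ : Subgroup G) (h1 : (S : Subgroup G) ≤ G₁) (h2 : (S : Subgroup G) ≤ G₂) (hfact : ∀ g : G, ∃ g₁ ∈ G₁, ∃ g₂ ∈ G₂, g = g₁ * g₂) (g : G) : ∃ U : Sylow p G, (S : Subgroup G) ⊓ Cfsg.subgroupConjRight g (S : Subgroup G) ≤ (U : Subgroup G) ∧ (U : Subgroup G) ≤ G₁ ⊓ Cfsg.subgroupConjRight g G₂ := by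
  obtain ⟨a, ha, b, hb, hab⟩ := hfact g⁻¹
  set W := G₁ ⊓ Cfsg.subgroupConjRight g G₂ with hW
  have hSW : ((a • S : Sylow p G) : Subgroup G) ≤ W := by
    intro x hx
    obtain ⟨s, hs, rfl⟩ : ∃ s ∈ (S : Subgroup G), MulAut.conj a s = x := by
      rw [Sylow.coe_subgroup_smul] at hx
      exact hx
    refine ⟨?_, ?_⟩
    · simpa using mul_mem (mul_mem ha (h1 hs)) (inv_mem ha)
    · refine ⟨b⁻¹ * s * b, mul_mem (mul_mem (inv_mem hb) (h2 hs)) hb, ?_⟩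
      show g⁻¹ * (b⁻¹ * s * b) * g⁻¹⁻¹ = a * s * a⁻¹
      rw [inv_inv, hab, show g = (a * b)⁻¹ by rw [← hab, inv_inv]]
      group
  have hle : (S : Subgroup G) ⊓ Cfsg.subgroupConjRight g (S : Subgroup G) ≤ W := fun x hx =>
    ⟨h1 hx.1, Subgroup.map_mono h2 hx.2⟩
  have hp : IsPGroup p (((S : Subgroup G) ⊓ Cfsg.subgroupConjRight g (S : Subgroup G)).subgroupOf W) :=
    (S.isPGroup'.to_le inf_le_left).of_equiv (Subgroup.subgroupOfEquivOfLe hle).symm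
  obtain ⟨P, hP⟩ := hp.exists_le_sylow
  obtain ⟨w, hw⟩ := MulAction.exists_smul_eq W ((a • S : Sylow p G).subtype hSW) P
  refine ⟨(w : G) • (a • S), ?_, ?_⟩
  · intro x hx
    have h3 : (⟨x, hle hx⟩ : W) ∈ (P : Subgroup W) := hP hx
    rw [← hw, Sylow.coe_subgroup_smul] at h3
    obtain ⟨y, hy, hyx⟩ := h3
    rw [Sylow.coe_subgroup_smul]
    exact ⟨y, hy, congrArg (fun t : W => (t : G)) hyx⟩
  · intro x hx
    rw [Sylow.coe_subgroup_smul] at hx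
    obtain ⟨y, hy, rfl⟩ := hx
    show (w : G) * y * (w : G)⁻¹ ∈ W
    exact mul_mem (mul_mem w.2 (hSW hy)) (inv_mem w.2)

end Cfsg.Agent.S2940
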