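import Cfsg.Statements.S2956
import Cfsg.Agent.Lib.SylowChains.Regular
open Cfsg.Agent.SylowConn
open scoped Pointwise

set_option autoImplicit false
open Cfsg

namespace Cfsg.Agent.S2956

/-- One step of a chain above `R`. -/
def Step {G : Type*} [Group G] (p : ℕ) (𝓖 : Set (Subgroup G)) (R : Subgroup G) (a b : Sylow p G) : Prop :=
  R ≤ b ∧ ∃ X ∈ Cfsg.sylowMembers p 𝓖 (a : Subgroup G), X ∈ Cfsg.sylowMembers p 𝓖 (b : Subgroup G) ∧ R ≤ X ∧
    ∃ x ∈ X, Cfsg.subgroupConjRight x (b : Subgroup G) = a

theorem chain_fin {G : Type*} [Group G] {p : ℕ} {𝓖 : Set (Subgroup G)} {R : Subgroup G} {a b : Sylow p G}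
    (h : Relation.ReflTransGen (Step p 𝓖 R) a b) :
    ∃ (n : ℕ) (c : Fin (n + 1) → Sylow p G) (X : Fin n → Subgroup G) (x : Fin n → G),
      c 0 = a ∧ c (Fin.last n) = b ∧ ∀ i : Fin n,
        X i ∈ Cfsg.sylowMembers p 𝓖 (c i.castSucc : Subgroup G) ∧ X i ∈ Cfsg.sylowMembers p 𝓖 (c i.succ : Subgroup G) ∧
        x i ∈ X i ∧ Cfsg.subgroupConjRight (x i) (c i.succ : Subgroup G) = (c i.castSucc : Subgroup G) ∧
        R ≤ (c i.succ : Subgroup G) ⊓ X i := by
  induction h with
  | refl => exact ⟨0, fun _ => a, Fin.elim0, Fin.elim0, rfl, rfl, fun i => i.elim0⟩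
  | @tail u v _ huv ih =>
    obtain ⟨n, c, X, x, h0, hn, hi⟩ := ih
    obtain ⟨hRv, Y, hYu, hYv, hRY, y, hy, hye⟩ := huv
    refine ⟨n + 1, Fin.snoc c v, Fin.snoc X Y, Fin.snoc x y, ?_, Fin.snoc_last _ _, fun i => ?_⟩
    · rw [← Fin.castSucc_zero, Fin.snoc_castSucc, h0]
    induction i using Fin.lastCases with
    | last =>
      rw [Fin.snoc_castSucc, Fin.succ_last, Fin.snoc_last, Fin.snoc_last, Fin.snoc_last, hn]
      exact ⟨hYu, hYv, hy, hye, le_inf hRv hRY⟩
    | cast i =>
      rw [Fin.snoc_castSucc, Fin.succ_castSucc, Fin.snoc_castSucc, Fin.snoc_castSucc, Fin.snoc_castSucc]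
      exact hi i

theorem step_mono {G : Type*} [Group G] {p : ℕ} {𝓖 : Set (Subgroup G)} {R R' : Subgroup G} (hR : R' ≤ R)
    {a b : Sylow p G} (h : Relation.ReflTransGen (Step p 𝓖 R) a b) : Relation.ReflTransGen (Step p 𝓖 R') a b := by
  induction h with
  | refl => exact .refl
  | tail _ hab ih =>
    obtain ⟨h1, X, h2, h3, h4, h5⟩ := hab
    exact ih.tail ⟨hR.trans h1, X, h2, h3, hR.trans h4, h5⟩

theorem exists_maxLocal {G : Type*} [Group G] [Finite G] {p : ℕ} {N : Subgroup G} (h : Cfsg.IsPLocal p N) :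
    ∃ M, N ≤ M ∧ Cfsg.IsMaximalPLocal p M := by
  obtain ⟨M, ⟨hM, hNM⟩, hmax⟩ := (Set.toFinite {M : Subgroup G | Cfsg.IsPLocal p M ∧ N ≤ M}).exists_maximal
    ⟨N, h, le_rfl⟩
  exact ⟨M, hNM, hM, fun K hK hMK => le_antisymm (hmax ⟨hK, hNM.trans hMK⟩ hMK) hMK⟩

/-- A Sylow subgroup of `M` as a subgroup of the ambient group. -/
def IsSylIn {G : Type*} [Group G] (p : ℕ) (M A : Subgroup G) : Prop :=
  ∃ Q : Sylow p M, (Q : Subgroup M).map M.subtype = A

theorem isSylIn_card {G : Type*} [Group G] [Finite G] {p : ℕ} [Fact p.Prime] {M A B : Subgroup G}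
    (hA : IsSylIn p M A) (hB : B ≤ M) (hBp : IsPGroup p B) : Nat.card B ≤ Nat.card A := by
  obtain ⟨Q, rfl⟩ := hA
  obtain ⟨Q', hQ'⟩ := (hBp.comap_of_injective _ M.subtype_injective : IsPGroup p (B.subgroupOf M)).exists_le_sylow
  rw [Subgroup.card_map_of_injective M.subtype_injective, ← Nat.card_congr (Subgroup.subgroupOfEquivOfLe hB).toEquiv]
  exact (Subgroup.card_le_of_le hQ').trans (by rw [Q'.card_eq_multiplicity, Q.card_eq_multiplicity])

theorem exists_isSylIn {G : Type*} [Group G] [Finite G] {p : ℕ} [Fact p.Prime] {M B : Subgroup G}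
    (hB : B ≤ M) (hBp : IsPGroup p B) : ∃ A, IsSylIn p M A ∧ B ≤ A := by
  obtain ⟨Q', hQ'⟩ := (hBp.comap_of_injective _ M.subtype_injective : IsPGroup p (B.subgroupOf M)).exists_le_sylow
  exact ⟨_, ⟨Q', rfl⟩, fun x hx => ⟨⟨x, hB hx⟩, hQ' hx, rfl⟩⟩

theorem exists_smul_sylIn {G : Type*} [Group G] [Finite G] {p : ℕ} [Fact p.Prime] {M A B : Subgroup G}
    (hA : IsSylIn p M A) (hB : IsSylIn p M B) :
    ∃ x ∈ M, A.map (MulAut.conj x).toMonoidHom = B := by
  obtain ⟨Q, rfl⟩ := hA
  obtain ⟨Q', rfl⟩ := hB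
  obtain ⟨x, hx⟩ := MulAction.exists_smul_eq M Q Q'
  refine ⟨x, x.2, ?_⟩
  rw [← hx, coe_smul', Subgroup.map_map, Subgroup.map_map]
  rfl

theorem lt_normalizer_inf {G : Type*} [Group G] [Finite G] {p : ℕ} [Fact p.Prime] {A S : Subgroup G}
    (hS : IsPGroup p S) (h : A < S) : Nat.card A < Nat.card (S ⊓ Subgroup.normalizer (A : Set G) : Subgroup G) := by
  refine lt_of_le_of_ne (Subgroup.card_le_of_le (le_inf h.le Subgroup.le_normalizer)) fun he => h.ne ?_
  exact Cfsg.Agent.LESylow.eq_of_normalizer_inf_le hS h.le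
    (Subgroup.eq_of_le_of_card_ge (le_inf h.le Subgroup.le_normalizer) he.ge).ge

/-- Let p be a prime dividing the order of the finite group G, and f an assignment to every p-subgroup P of a set f(P) of subgroups of P, each normalized by N_G(P), compatible with conjugation, such that for P ≠ 1 the members of f(P) are nontrivial. Let 𝓕 be the family of the normalizers N_G(F) of the members F of f(S) over the Sylow p-subgroups S of G, and 𝓕' the family of the maximal p-local subgroups M of G that are singular for f (the corresponding family of normalizers inside M does not control Sylow p-intersections in M). Then 𝓕 ∪ 𝓕' controls Sylow p-intersections in G. -/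
theorem result {G : Type*} [Group G] [Finite G] (p : ℕ) [Fact p.Prime] (hdiv : p ∣ Nat.card G)
    (f : Subgroup G → Set (Subgroup G)) (hf : Cfsg.IsNormalizerFunctor p f)
    (hf1 : ∀ P : Subgroup G, IsPGroup p ↥P → P ≠ ⊥ → ∀ F ∈ f P, F ≠ ⊥)
    (𝓕 𝓕' : Set (Subgroup G)) (h𝓕 : 𝓕 = Cfsg.functorFamily p f ⊤)
    (h𝓕' : 𝓕' = {M | Cfsg.IsMaximalPLocal p M ∧ ¬ Cfsg.IsFunctorRegular p f M}) :
    Cfsg.ControlsSylowIntersections p (𝓕 ∪ 𝓕') := by
  have hmemF : ∀ P : Sylow p G, ∀ F ∈ f (P : Subgroup G), Subgroup.normalizer (F : Set G) ∈ 𝓕 := by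
    intro P F hF
    rw [h𝓕]
    refine ⟨P.subtype le_top, F, ?_, (top_inf_eq _).symm⟩
    rwa [Sylow.coe_subtype, Subgroup.map_subgroupOf_eq_of_le le_top]
  suffices H : ∀ S T : Sylow p G, (S : Subgroup G) ⊓ T ≠ ⊥ →
      Relation.ReflTransGen (Step p (𝓕 ∪ 𝓕') ((S : Subgroup G) ⊓ T)) S T by
    intro S T _ hne
    exact chain_fin (H S T hne)
  intro S T hne
  induction hk : Nat.card G - Nat.card ((S : Subgroup G) ⊓ T : Subgroup G) using Nat.strong_induction_on
    generalizing S T with
  | _ k ih =>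
  subst hk
  set R := (S : Subgroup G) ⊓ T with hR
  have hRp : IsPGroup p R := S.2.to_le inf_le_left
  -- connecting through a larger common subgroup
  have connect : ∀ (U V : Sylow p G) (B : Subgroup G), B ≤ U → B ≤ V → R ≤ B → Nat.card R < Nat.card B →
      Relation.ReflTransGen (Step p (𝓕 ∪ 𝓕') R) U V := by
    intro U V B hBU hBV hRB hlt
    have hle : Nat.card B ≤ Nat.card ((U : Subgroup G) ⊓ V : Subgroup G) := Subgroup.card_le_of_le (le_inf hBU hBV)
    have hU : Nat.card ((U : Subgroup G) ⊓ V : Subgroup G) ≤ Nat.card G := Subgroup.card_le_card_group _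
    exact step_mono (hRB.trans (le_inf hBU hBV))
      (ih _ (by omega) U V (ne_bot_of_le_ne_bot hne (hRB.trans (le_inf hBU hBV))) rfl)
  -- through a maximal local subgroup
  have inner : ∀ (M A B : Subgroup G), Cfsg.IsMaximalPLocal p M → IsSylIn p M A → IsSylIn p M B →
      R ≤ A → R ≤ B → Nat.card R < Nat.card A → ∀ U V : Sylow p G, A ≤ U → B ≤ V →
        Relation.ReflTransGen (Step p (𝓕 ∪ 𝓕') R) U V := by
    intro M A B hM hA hB hRA hRB hlt U V hAU hBV
    induction hj : Nat.card G - Nat.card A using Nat.strong_induction_on generalizing M A B U V with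
    | _ j jh =>
    subst hj
    have hcardB : Nat.card A = Nat.card B := by
      obtain ⟨x, -, hx⟩ := exists_smul_sylIn hA hB
      rw [← hx]; exact (Subgroup.card_map_of_injective (MulAut.conj x).injective).symm
    by_cases hreg : Cfsg.IsFunctorRegular p f M
    swap
    · -- singular: `M` is a member
      obtain ⟨x, hxM, hx⟩ := exists_smul_sylIn hA hB
      have hAM : A ≤ M := by obtain ⟨Q, rfl⟩ := hA; exact Subgroup.map_subtype_le _
      have hBM : B ≤ M := by obtain ⟨Q, rfl⟩ := hB; exact Subgroup.map_subtype_le _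
      set V' := x • U with hV'
      have hBV' : B ≤ V' := by rw [coe_smul', ← hx]; exact Subgroup.map_mono hAU
      have hinf : ∀ (W : Sylow p G) (C : Subgroup G), IsSylIn p M C → C ≤ W → C ≤ M → C = (W : Subgroup G) ⊓ M :=
        fun W C hC hCW hCM => Subgroup.eq_of_le_of_card_ge (le_inf hCW hCM)
          (isSylIn_card hC inf_le_right (W.2.to_le inf_le_left))
      have hMem : M ∈ 𝓕 ∪ 𝓕' := Or.inr (by rw [h𝓕']; exact ⟨hM, hreg⟩)
      refine Relation.ReflTransGen.trans (.single ⟨hRB.trans hBV', M, ⟨hMem, ?_⟩, ⟨hMem, ?_⟩, hRB.trans hBM,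
        x, hxM, ?_⟩) (connect V' V B hBV' hBV hRB (hcardB ▸ hlt))
      · obtain ⟨Q, hQ⟩ := hA; exact ⟨Q, hQ.trans (hinf U A ⟨Q, hQ⟩ hAU hAM)⟩
      · obtain ⟨Q, hQ⟩ := hB; exact ⟨Q, hQ.trans (hinf V' B ⟨Q, hQ⟩ hBV' hBM)⟩
      · rw [Cfsg.subgroupConjRight, coe_smul', Subgroup.map_map,
          show (MulAut.conj x⁻¹).toMonoidHom.comp (MulAut.conj x).toMonoidHom = MonoidHom.id G from
            MonoidHom.ext fun z => by simp [mul_assoc], Subgroup.map_id]
    · obtain ⟨a, rfl⟩ := hA
      obtain ⟨b, rfl⟩ := hB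
      by_cases hab : a = b
      · subst hab
        exact connect U V _ hAU hBV hRA hlt
      have hne' : (a : Subgroup M) ⊓ (b : Subgroup M) ≠ ⊥ := by
        intro h0
        refine hne (le_bot_iff.1 ?_)
        refine (le_inf hRA hRB).trans (le_of_eq ?_)
        rw [← Subgroup.map_inf _ _ _ M.subtype_injective, h0, Subgroup.map_bot]
      obtain ⟨n, c, X, x, h0, hn, hc⟩ := hreg a b hab hne'
      have hRc : ∀ i, R ≤ (c i : Subgroup M).map M.subtype := by
        intro i
        induction i using Fin.induction with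
        | zero => rw [h0]; exact hRA
        | succ i _ =>
          intro y hy
          obtain ⟨z, hz, rfl⟩ := hRA hy
          obtain ⟨z', hz', he⟩ := hRB hy
          rw [M.subtype_injective he] at hz'
          exact ⟨z, (Subgroup.mem_inf.1 ((hc i).2.2.2.2 (Subgroup.mem_inf.2 ⟨hz, hz'⟩))).1, rfl⟩
      have hcard : ∀ i, Nat.card ((c i : Subgroup M).map M.subtype) = Nat.card ((a : Subgroup M).map M.subtype) :=
        fun i => by
          rw [Subgroup.card_map_of_injective M.subtype_injective, Subgroup.card_map_of_injective M.subtype_injective,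
            (c i).card_eq_multiplicity, a.card_eq_multiplicity]
      choose C hC using fun i => ((c i).2.map M.subtype).exists_le_sylow
      have hstep : ∀ i : Fin n, Relation.ReflTransGen (Step p (𝓕 ∪ 𝓕') R) (C i.castSucc) (C i.succ) := by
        intro i
        obtain ⟨⟨⟨Y, ⟨P, F, hF, rfl⟩, hY⟩, Q, hQ⟩, ⟨-, Q', hQ'⟩, -, -, -⟩ := hc i
        set P₀ := (P : Subgroup M).map M.subtype with hP₀
        have hP₀p : IsPGroup p P₀ := P.2.map _
        obtain ⟨hFP, hNF⟩ := (hf P₀ hP₀p).1 F hF
        have hcardP : Nat.card P₀ = Nat.card ((a : Subgroup M).map M.subtype) := by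
          rw [hP₀, Subgroup.card_map_of_injective M.subtype_injective, Subgroup.card_map_of_injective M.subtype_injective,
            P.card_eq_multiplicity, a.card_eq_multiplicity]
        have hP₀X : P₀ ≤ M ⊓ Subgroup.normalizer (F : Set G) :=
          le_inf (Subgroup.map_subtype_le _) (Subgroup.le_normalizer.trans hNF)
        -- both ends lie in the member, with their normalizers in `N(F)`
        have hend : ∀ (j : Fin (n + 1)) (Q : Sylow p (X i)),
            (Q : Subgroup (X i)).map (X i).subtype = (c j : Subgroup M) ⊓ X i →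
            (c j : Subgroup M).map M.subtype ≤ Subgroup.normalizer (F : Set G) ∧
              Subgroup.normalizer (((c j : Subgroup M).map M.subtype : Subgroup G) : Set G) ≤
                Subgroup.normalizer (F : Set G) := by
          intro j Q hQ
          have hPX : (P : Subgroup M) ≤ X i := fun z hz => by
            rw [← hY]; exact hP₀X ⟨z, hz, rfl⟩
          have h1 : Nat.card (c j : Subgroup M) ≤ Nat.card ((c j : Subgroup M) ⊓ X i : Subgroup M) := by
            rw [← hQ, (c j).card_eq_multiplicity, ← P.card_eq_multiplicity]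
            exact isSylIn_card ⟨Q, rfl⟩ hPX P.2
          have hcX : (c j : Subgroup M) ≤ X i := inf_eq_left.1 (Subgroup.eq_of_le_of_card_ge inf_le_left h1)
          have hcN : (c j : Subgroup M).map M.subtype ≤ M ⊓ Subgroup.normalizer (F : Set G) := by
            rintro _ ⟨z, hz, rfl⟩
            have := hcX hz
            rw [← hY] at this
            exact this
          refine ⟨hcN.trans inf_le_right, ?_⟩
          obtain ⟨y, hy, hye⟩ := exists_smul_sylIn (M := X i) (A := (P : Subgroup M)) (B := (c j : Subgroup M))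
            ⟨P.subtype hPX, by rw [Sylow.coe_subtype, Subgroup.map_subgroupOf_eq_of_le hPX]⟩
            ⟨(c j).subtype hcX, by rw [Sylow.coe_subtype, Subgroup.map_subgroupOf_eq_of_le hcX]⟩
          rw [← hY] at hy
          have hyF : (y : G) ∈ Subgroup.normalizer (F : Set G) := (Subgroup.mem_inf.1 hy).2
          have e : (c j : Subgroup M).map M.subtype = P₀.map (MulAut.conj (y : G)).toMonoidHom := by
            rw [← hye, hP₀, Subgroup.map_map, Subgroup.map_map]; rfl
          rw [e, show Subgroup.normalizer ((P₀.map (MulAut.conj (y : G)).toMonoidHom : Subgroup G) : Set G) =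
            (Subgroup.normalizer (P₀ : Set G)).map (MulAut.conj (y : G)).toMonoidHom from
              (Subgroup.map_equiv_normalizer_eq P₀ (MulAut.conj (y : G))).symm]
          rintro _ ⟨z, hz, rfl⟩
          exact mul_mem (mul_mem hyF (hNF hz)) (inv_mem hyF)
        obtain ⟨hu, hNu⟩ := hend _ Q hQ
        obtain ⟨hv, hNv⟩ := hend _ Q' hQ'
        set u := (c i.castSucc : Subgroup M).map M.subtype
        set v := (c i.succ : Subgroup M).map M.subtype
        have hlu : Nat.card R < Nat.card u := (hcard i.castSucc).symm ▸ hlt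
        have hlv : Nat.card R < Nat.card v := (hcard i.succ).symm ▸ hlt
        by_cases hfull : u = (C i.castSucc : Subgroup G)
        · -- Sylow subgroups of the group
          have hcS : Nat.card P₀ = Nat.card (C i.castSucc : Subgroup G) := by rw [hcardP, ← hcard i.castSucc, ← hfull]
          have hvS : v = (C i.succ : Subgroup G) := Subgroup.eq_of_le_of_card_ge (hC _) (le_of_eq (by
            rw [(C i.succ).card_eq_multiplicity, ← (C i.castSucc).card_eq_multiplicity, ← hfull, hcard, hcard]))
          set P₁ : Sylow p G := Sylow.ofCard P₀ (hcS.trans (C i.castSucc).card_eq_multiplicity)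
          have hXmem := hmemF P₁ F (by rwa [Sylow.coe_ofCard])
          set N := Subgroup.normalizer (F : Set G) with hN
          have huN : (C i.castSucc : Subgroup G) ≤ N := hfull ▸ hu
          have hvN : (C i.succ : Subgroup G) ≤ N := hvS ▸ hv
          obtain ⟨y, hy, hye⟩ := exists_smul_sylIn (M := N) (A := (C i.castSucc : Subgroup G)) (B := (C i.succ : Subgroup G))
            ⟨(C i.castSucc).subtype huN, by rw [Sylow.coe_subtype, Subgroup.map_subgroupOf_eq_of_le huN]⟩
            ⟨(C i.succ).subtype hvN, by rw [Sylow.coe_subtype, Subgroup.map_subgroupOf_eq_of_le hvN]⟩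
          refine .single ⟨(hRc _).trans (hC _), N, ⟨Or.inl hXmem, (C i.castSucc).subtype huN, ?_⟩,
            ⟨Or.inl hXmem, (C i.succ).subtype hvN, ?_⟩, (hRc _).trans hv, y, hy, ?_⟩
          · rw [Sylow.coe_subtype, Subgroup.map_subgroupOf_eq_of_le huN, inf_eq_left.2 huN]
          · rw [Sylow.coe_subtype, Subgroup.map_subgroupOf_eq_of_le hvN, inf_eq_left.2 hvN]
          · rw [Cfsg.subgroupConjRight, ← hye, Subgroup.map_map,
              show (MulAut.conj y⁻¹).toMonoidHom.comp (MulAut.conj y).toMonoidHom = MonoidHom.id G from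
                MonoidHom.ext fun z => by simp [mul_assoc], Subgroup.map_id]
        · -- climb
          have hltu : u < (C i.castSucc : Subgroup G) := lt_of_le_of_ne (hC _) hfull
          have hbu := lt_normalizer_inf (C i.castSucc).2 hltu
          have hltv : v < (C i.succ : Subgroup G) := lt_of_le_of_ne (hC _) fun h => hfull
            (Subgroup.eq_of_le_of_card_ge (hC _) (le_of_eq (by
              rw [(C i.castSucc).card_eq_multiplicity, ← (C i.succ).card_eq_multiplicity, ← h, hcard, hcard])))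
          have hbv := lt_normalizer_inf (C i.succ).2 hltv
          have hP0ne : P₀ ≠ ⊥ := fun h0' => by
            have h2 := hcardP
            rw [h0', Subgroup.card_bot] at h2
            rw [← h2] at hlt
            have h3 : 0 < Nat.card R := Nat.card_pos
            omega
          obtain ⟨M', hNM', hM'⟩ := exists_maxLocal (N := Subgroup.normalizer (F : Set G))
            ⟨F, hP₀p.to_le hFP, hf1 P₀ hP₀p hP0ne F hF, rfl⟩
          set u₁ := (C i.castSucc : Subgroup G) ⊓ Subgroup.normalizer (u : Set G)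
          set v₁ := (C i.succ : Subgroup G) ⊓ Subgroup.normalizer (v : Set G)
          have hRu : R ≤ u₁ := (hRc _).trans (le_inf (hC _) Subgroup.le_normalizer)
          have hRv : R ≤ v₁ := (hRc _).trans (le_inf (hC _) Subgroup.le_normalizer)
          obtain ⟨A', hA', huA⟩ := exists_isSylIn (p := p) (B := u₁) (inf_le_right.trans (hNu.trans hNM'))
            ((C i.castSucc).2.to_le inf_le_left)
          obtain ⟨B', hB', hvB⟩ := exists_isSylIn (p := p) (B := v₁) (inf_le_right.trans (hNv.trans hNM'))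
            ((C i.succ).2.to_le inf_le_left)
          obtain ⟨U', hU'⟩ := (show IsPGroup p A' by obtain ⟨Q₀, rfl⟩ := hA'; exact Q₀.2.map _).exists_le_sylow
          obtain ⟨V', hV'⟩ := (show IsPGroup p B' by obtain ⟨Q₀, rfl⟩ := hB'; exact Q₀.2.map _).exists_le_sylow
          have hA'card : Nat.card u₁ ≤ Nat.card A' := Subgroup.card_le_of_le huA
          have hAG : Nat.card A' ≤ Nat.card G := Subgroup.card_le_card_group _
          have hcu : Nat.card u = Nat.card ((a : Subgroup M).map M.subtype) := hcard i.castSucc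
          refine ((connect _ U' u₁ inf_le_left (huA.trans hU') hRu (hlu.trans hbu)).trans
            (jh _ ?_ M' A' B' hM' hA' hB' (hRu.trans huA) (hRv.trans hvB) ?_ U' V' hU' hV' rfl)).trans
            (connect V' _ v₁ (hvB.trans hV') inf_le_left hRv (hlv.trans hbv))
          · omega
          · omega
      have hchain : ∀ i, Relation.ReflTransGen (Step p (𝓕 ∪ 𝓕') R) (C 0) (C i) := by
        intro i
        induction i using Fin.induction with
        | zero => exact .refl
        | succ i ihi => exact ihi.trans (hstep i)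
      have hC0 := hC 0
      have hCn := hC (Fin.last n)
      rw [h0] at hC0
      rw [hn] at hCn
      exact ((connect U (C 0) _ hAU hC0 hRA hlt).trans (hchain _)).trans (connect (C (Fin.last n)) V _ hCn hBV hRB (hcardB ▸ hlt))
  -- start
  by_cases hRS : R = (S : Subgroup G)
  · have : S = T := Sylow.ext (Subgroup.eq_of_le_of_card_ge (inf_eq_left.1 hRS) (by
      rw [S.card_eq_multiplicity, T.card_eq_multiplicity]))
    subst this; exact .refl
  have hRT : R ≠ (T : Subgroup G) := fun h => hRS (Subgroup.eq_of_le_of_card_ge inf_le_left (le_of_eq (by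
    rw [S.card_eq_multiplicity, ← T.card_eq_multiplicity, h])))
  have hs := lt_normalizer_inf S.2 (lt_of_le_of_ne inf_le_left hRS)
  have ht := lt_normalizer_inf T.2 (lt_of_le_of_ne inf_le_right hRT)
  obtain ⟨M, hNM, hM⟩ := exists_maxLocal (N := Subgroup.normalizer (R : Set G)) ⟨R, hRp, hne, rfl⟩
  set s₁ := (S : Subgroup G) ⊓ Subgroup.normalizer (R : Set G)
  set t₁ := (T : Subgroup G) ⊓ Subgroup.normalizer (R : Set G)
  have hRs : R ≤ s₁ := le_inf inf_le_left Subgroup.le_normalizer
  have hRt : R ≤ t₁ := le_inf inf_le_right Subgroup.le_normalizer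
  obtain ⟨A, hA, hsA⟩ := exists_isSylIn (p := p) (B := s₁) (inf_le_right.trans hNM) (S.2.to_le inf_le_left)
  obtain ⟨B, hB, htB⟩ := exists_isSylIn (p := p) (B := t₁) (inf_le_right.trans hNM) (T.2.to_le inf_le_left)
  obtain ⟨U, hU⟩ := (show IsPGroup p A by obtain ⟨Q₀, rfl⟩ := hA; exact Q₀.2.map _).exists_le_sylow
  obtain ⟨V, hV⟩ := (show IsPGroup p B by obtain ⟨Q₀, rfl⟩ := hB; exact Q₀.2.map _).exists_le_sylow
  refine ((connect S U s₁ inf_le_left (hsA.trans hU) hRs hs).trans
    (inner M A B hM hA hB (hRs.trans hsA) (hRt.trans htB) (hs.trans_le (Subgroup.card_le_of_le hsA)) U V hU hV)).trans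
    (connect V T t₁ (htB.trans hV) inf_le_left hRt ht)

end Cfsg.Agent.S2956
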