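import Cfsg.Statements.S2957
import Cfsg.Agent.Lib.SylowChains.Regular
import Cfsg.Agent.S2940
open Cfsg.Agent.SylowReg Cfsg.Agent.SylowConn
open scoped Pointwise

set_option autoImplicit false
open Cfsg

namespace Cfsg.Agent.S2957

theorem rtg_lift {α β : Type*} {r : α → α → Prop} {q : β → β → Prop} (φ : α → β) {a b : α}
    (h : Relation.ReflTransGen r a b) (hr : ∀ a b, r a b → q (φ a) (φ b)) : Relation.ReflTransGen q (φ a) (φ b) := by
  induction h with
  | refl => exact .refl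
  | tail _ hab ih => exact ih.tail (hr _ _ hab)

theorem key {G : Type*} [Group G] [Finite G] {p : ℕ} [Fact p.Prime]
    {f : Subgroup G → Set (Subgroup G)} (hf : Cfsg.IsNormalizerFunctor p f) (S : Sylow p G)
    {G₁ G₂ : Subgroup G} (h₁ : (S : Subgroup G) ≤ G₁) (h₂ : (S : Subgroup G) ≤ G₂)
    (hprod : ∀ g : G, ∃ g₁ ∈ G₁, ∃ g₂ ∈ G₂, g = g₁ * g₂)
    (hr₁ : Cfsg.IsFunctorRegular p f G₁) (hr₂ : Cfsg.IsFunctorRegular p f G₂) (T : Sylow p G)
    (hne : (S : Subgroup G) ⊓ T ≠ ⊥) : Relation.ReflTransGen (Step f ⊤ ((S : Subgroup G) ⊓ T)) S T := by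
  obtain ⟨g, rfl⟩ := MulAction.exists_smul_eq G S T
  obtain ⟨U, hU, hUG⟩ := Cfsg.Agent.S2940.result S G₁ G₂ h₁ h₂ hprod g⁻¹
  have e : ∀ K : Subgroup G, Cfsg.subgroupConjRight g⁻¹ K = K.map (MulAut.conj g).toMonoidHom := fun K => by
    rw [Cfsg.subgroupConjRight, inv_inv]
  rw [e, ← coe_smul'] at hU
  rw [e] at hUG
  set R := (S : Subgroup G) ⊓ ((g • S : Sylow p G) : Subgroup G)
  have c1 := chain_of_regular hf hr₁ h₁ (hUG.trans inf_le_left)
    (ne_bot_of_le_ne_bot hne (le_inf inf_le_left hU))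
  -- move the second part back
  have hS2 : ((g⁻¹ • U : Sylow p G) : Subgroup G) ≤ G₂ := by
    rw [coe_smul']
    rintro _ ⟨u, hu, rfl⟩
    obtain ⟨v, hv, rfl⟩ := (hUG.trans inf_le_right) hu
    simpa [mul_assoc] using hv
  have hRle : R.map (MulAut.conj g⁻¹).toMonoidHom ≤ ((g⁻¹ • U : Sylow p G) : Subgroup G) ⊓ S := by
    refine le_inf (by rw [coe_smul']; exact Subgroup.map_mono hU) ?_
    rintro _ ⟨u, hu, rfl⟩
    have h3 := (Subgroup.mem_inf.1 hu).2
    rw [coe_smul'] at h3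
    obtain ⟨v, hv, rfl⟩ := h3
    show g⁻¹ * (g * v * g⁻¹) * g⁻¹⁻¹ ∈ (S : Subgroup G)
    rwa [inv_inv, show g⁻¹ * (g * v * g⁻¹) * g = v by group]
  have hne2 : ((g⁻¹ • U : Sylow p G) : Subgroup G) ⊓ S ≠ ⊥ := ne_bot_of_le_ne_bot
    (fun hb => hne ((Subgroup.map_eq_bot_iff_of_injective _ (MulAut.conj g⁻¹).injective).1 hb)) hRle
  have c2 := chain_of_regular hf hr₂ hS2 h₂ hne2
  refine (rtg_lift id c1 fun a b h => h.mono le_top (le_inf inf_le_left hU)).trans ?_
  have c3 := rtg_lift (q := Step f ⊤ R) (fun a : Sylow p G => g • a) c2 fun a b h => ((h.smul hf g).mono le_top (R' := R) ?_)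
  · rwa [smul_inv_smul] at c3
  · intro x hx
    refine ⟨g⁻¹ * x * g, hRle ⟨x, hx, by simp⟩, by simp [mul_assoc]⟩

/-- Let p be a prime dividing the order of the finite group G, f an equivariant assignment of a set of subgroups f(P) of P to every p-subgroup P, each normalized by N_G(P), and S a Sylow p-subgroup. If G = G₁G₂ for subgroups G₁, G₂ both containing S and both regular for f (in each Gᵢ, the family of normalizers in Gᵢ of the members of f(P), P a Sylow p-subgroup of Gᵢ, controls Sylow p-intersections), then G itself is regular for f. -/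
theorem result {G : Type*} [Group G] [Finite G] (p : ℕ) [Fact p.Prime] (hdiv : p ∣ Nat.card G)
    (f : Subgroup G → Set (Subgroup G)) (hf : Cfsg.IsNormalizerFunctor p f) (S : Sylow p G)
    (G₁ G₂ : Subgroup G) (h₁ : (S : Subgroup G) ≤ G₁) (h₂ : (S : Subgroup G) ≤ G₂)
    (hprod : ∀ g : G, ∃ g₁ ∈ G₁, ∃ g₂ ∈ G₂, g = g₁ * g₂)
    (hr₁ : Cfsg.IsFunctorRegular p f G₁) (hr₂ : Cfsg.IsFunctorRegular p f G₂) :
    Cfsg.IsFunctorRegular p f ⊤ := by
  refine regular_of_chain hf (S := S) le_top fun a b _ _ hne => ?_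
  obtain ⟨g, rfl⟩ := MulAction.exists_smul_eq G S a
  have hne' : (S : Subgroup G) ⊓ ((g⁻¹ • b : Sylow p G) : Subgroup G) ≠ ⊥ := by
    intro hb
    refine hne ?_
    have h1 := congrArg (Subgroup.map (MulAut.conj g).toMonoidHom) hb
    rw [Subgroup.map_bot, Subgroup.map_inf _ _ _ (MulAut.conj g).injective, ← coe_smul', ← coe_smul',
      smul_inv_smul] at h1
    exact h1
  have c := rtg_lift (q := Step f ⊤ (((g • S : Sylow p G) : Subgroup G) ⊓ b)) (fun a : Sylow p G => g • a) (key hf S h₁ h₂ hprod hr₁ hr₂ _ hne')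
    (fun a b' h => (h.smul hf g).mono (M' := ⊤) le_top (R' := ((g • S : Sylow p G) : Subgroup G) ⊓ b) ?_)
  · rwa [smul_inv_smul] at c
  · rw [Subgroup.map_inf _ _ _ (MulAut.conj g).injective, ← coe_smul', ← coe_smul', smul_inv_smul]

end Cfsg.Agent.S2957
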