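import Cfsg.Statements.S2958

set_option autoImplicit false
open Cfsg

namespace Cfsg.Agent.S2958

/-- Let X, A, B be subgroups of a group G such that G is generated by the conjugates of X and every conjugate of X is contained in A or in B. Then A = G or B = G. -/
theorem result {G : Type*} [Group G] (X A B : Subgroup G) (hgen : (⨆ g : G, X.map (MulAut.conj g).toMonoidHom) = ⊤) (hcover : ∀ g : G, X.map (MulAut.conj g).toMonoidHom ≤ A ∨ X.map (MulAut.conj g).toMonoidHom ≤ B) : A = ⊤ ∨ B = ⊤ := by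
  classical
  let C : G → Subgroup G := fun g => X.map (MulAut.conj g).toMonoidHom
  by_cases hall : ∀ g, C g ≤ A
  · exact Or.inl (top_le_iff.1 (hgen ▸ iSup_le hall))
  right
  push Not at hall
  obtain ⟨g₀, hg₀⟩ := hall
  let B₀ : Subgroup G := ⨆ g : {g : G // ¬ C g ≤ A}, C g.1
  have hB₀ : B₀ ≤ B := iSup_le fun g => (hcover g.1).resolve_left g.2
  have hCC : ∀ a h, (C h).map (MulAut.conj a).toMonoidHom = C (a * h) := by
    intro a h
    simp only [C, Subgroup.map_map]
    congr 1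
    ext x
    simp [mul_assoc]
  have hstep : ∀ a ∈ A, B₀.map (MulAut.conj a).toMonoidHom ≤ B₀ := by
    intro a ha
    simp only [B₀, Subgroup.map_iSup]
    refine iSup_le fun h => ?_
    rw [hCC]
    refine le_iSup (fun g : {g : G // ¬ C g ≤ A} => C g.1) ⟨a * h.1, fun hle => h.2 ?_⟩
    intro x hx
    have h1 : a * x * a⁻¹ ∈ A := hle (hCC a h.1 ▸ ⟨x, hx, rfl⟩)
    simpa [mul_assoc] using mul_mem (mul_mem (inv_mem ha) h1) ha
  have hnorm : (⊤ : Subgroup G) ≤ Subgroup.normalizer (B₀ : Set G) := by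
    rw [← hgen]
    refine iSup_le fun g => ?_
    by_cases hg : C g ≤ A
    · intro a ha
      have key : ∀ b ∈ C g, ∀ y ∈ B₀, b * y * b⁻¹ ∈ B₀ := fun b hb y hy => by
        simpa using hstep b (hg hb) (Subgroup.mem_map_of_mem _ hy)
      rw [Subgroup.mem_normalizer_iff]
      refine fun y => ⟨key a ha y, fun h => ?_⟩
      have := key a⁻¹ (inv_mem ha) _ h
      simpa [mul_assoc] using this
    · exact (le_iSup (fun g : {g : G // ¬ C g ≤ A} => C g.1) ⟨g, hg⟩).trans Subgroup.le_normalizer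
  have hn : B₀.Normal := Subgroup.normalizer_eq_top_iff.1 (top_le_iff.1 hnorm)
  refine top_le_iff.1 (hgen ▸ iSup_le fun g => ?_)
  intro x hx
  refine hB₀ ?_
  have h1 : (MulAut.conj (g₀ * g⁻¹)).toMonoidHom x ∈ B₀ := by
    refine le_iSup (fun g : {g : G // ¬ C g ≤ A} => C g.1) ⟨g₀, hg₀⟩ ?_
    have h2 := hCC (g₀ * g⁻¹) g
    rw [inv_mul_cancel_right] at h2
    show _ ∈ C g₀
    rw [← h2]
    exact ⟨x, hx, rfl⟩
  have h3 := hn.conj_mem _ h1 (g₀ * g⁻¹)⁻¹
  simpa [mul_assoc] using h3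

end Cfsg.Agent.S2958
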