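import Cfsg.Statements.S2963


set_option autoImplicit false
open Cfsg

namespace Cfsg.Agent.S2963

open scoped Pointwise

/-- Let n be odd. If the symmetric group of degree n is a minimal parabolic group for the prime 2, that is, a Sylow 2-subgroup is not normal and lies in exactly one maximal subgroup, then n = 2^m + 1 for some natural number m. -/
theorem result (n : ℕ) (hn : Odd n) (h : Cfsg.IsPMinimal 2 (Equiv.Perm (Fin n))) : ∃ m : ℕ, n = 2 ^ m + 1 := by
  obtain ⟨S⟩ : Nonempty (Sylow 2 (Equiv.Perm (Fin n))) := inferInstance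
  obtain ⟨hnn, M, ⟨hMc, hSM⟩, huniq⟩ := h S
  -- a fixed point
  have hcard : Nat.card (Fin n) = n := Nat.card_fin n
  haveI := Fact.mk Nat.prime_two
  obtain ⟨a, ha⟩ := S.isPGroup'.nonempty_fixed_point_of_prime_not_dvd_card (Fin n)
    (by rw [hcard]; exact fun hd => Nat.not_even_iff_odd.2 hn (even_iff_two_dvd.2 hd))
  have hfix : (S : Subgroup (Equiv.Perm (Fin n))) ≤ MulAction.stabilizer (Equiv.Perm (Fin n)) a :=
    fun g hg => ha ⟨g, hg⟩
  by_contra hne
  -- another orbit
  have hn1 : n ≠ 1 := by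
    rintro rfl
    exact hnn (by
      have : (S : Subgroup (Equiv.Perm (Fin 1))) = ⊥ :=
        eq_bot_iff.2 fun g _ => Subgroup.mem_bot.2 (Subsingleton.elim _ _)
      rw [this]; infer_instance)
  obtain ⟨b, hb⟩ : ∃ b, b ≠ a := by
    have : Nontrivial (Fin n) := Fin.nontrivial_iff_two_le.2 (by have := hn.pos; omega)
    exact exists_ne a
  let O := MulAction.orbit ↥(S : Subgroup (Equiv.Perm (Fin n))) b
  have haO : a ∉ O := fun h => by
    obtain ⟨g, hg⟩ := MulAction.orbit_eq_iff.2 h ▸ MulAction.mem_orbit_self b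
    exact hb (hg.symm.trans (ha g))
  obtain ⟨c, hca, hcO⟩ : ∃ c, c ≠ a ∧ c ∉ O := by
    by_contra hall
    push Not at hall
    have hOeq : O = {a}ᶜ := Set.eq_of_subset_of_subset (fun x hx h => haO (h ▸ hx))
      (fun x hx => hall x hx)
    obtain ⟨k, hk⟩ := S.isPGroup'.card_orbit b
    refine hne ⟨k, ?_⟩
    have h1 : Nat.card ↥O = n - 1 := by
      rw [hOeq, Nat.card_coe_set_eq, Set.ncard_compl, Set.ncard_singleton, hcard]
    rw [show Nat.card ↥O = 2 ^ k from hk] at h1
    have := hn.pos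
    omega
  let Y : Set (Fin n) := insert a O
  have hYstab : (S : Subgroup (Equiv.Perm (Fin n))) ≤ MulAction.stabilizer (Equiv.Perm (Fin n)) Y := by
    intro g hg
    rw [MulAction.mem_stabilizer_iff, Set.smul_set_insert]
    rw [show g • a = a from ha ⟨g, hg⟩]
    congr 1
    exact MulAction.smul_orbit (⟨g, hg⟩ : ↥(S : Subgroup (Equiv.Perm (Fin n)))) b
  have hsub : ∀ K : Subgroup (Equiv.Perm (Fin n)),
      (S : Subgroup (Equiv.Perm (Fin n))) ≤ K → K ≠ ⊤ → K ≤ M := by
    intro K hSK hK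
    obtain ⟨M', hM', hKM'⟩ := (eq_top_or_exists_le_coatom K).resolve_left hK
    exact huniq M' ⟨hM', hSK.trans hKM'⟩ ▸ hKM'
  have htop1 : MulAction.stabilizer (Equiv.Perm (Fin n)) a ≠ ⊤ := fun h => hb (by
    have hg : Equiv.swap a b ∈ MulAction.stabilizer (Equiv.Perm (Fin n)) a := h ▸ Subgroup.mem_top _
    simpa using hg)
  have htop2 : MulAction.stabilizer (Equiv.Perm (Fin n)) Y ≠ ⊤ := fun h => by
    have hg : Equiv.swap a c ∈ MulAction.stabilizer (Equiv.Perm (Fin n)) Y := h ▸ Subgroup.mem_top _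
    rw [MulAction.mem_stabilizer_iff] at hg
    have h1 : Equiv.swap a c • a ∈ Equiv.swap a c • Y := Set.smul_mem_smul_set (Set.mem_insert a O)
    rw [hg, Equiv.Perm.smul_def, Equiv.swap_apply_left] at h1
    rcases h1 with h1 | h1
    · exact hca h1
    · exact hcO h1
  have h1 := hsub _ hfix htop1
  have h2 := hsub _ hYstab htop2
  refine hMc.1 ?_
  have hab : Equiv.swap a b ∈ M := h2 <| by
    have hbY : b ∈ Y := Set.mem_insert_of_mem a (MulAction.mem_orbit_self b)
    rw [MulAction.mem_stabilizer_iff]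
    refine Set.eq_of_subset_of_ncard_le ?_ (le_of_eq (Set.ncard_image_of_injective Y (Equiv.injective _)).symm)
    rintro _ ⟨y, hy, rfl⟩
    show Equiv.swap a b y ∈ Y
    rw [Equiv.swap_apply_def]
    split_ifs
    · exact hbY
    · exact Set.mem_insert a O
    · exact hy
  have hax : ∀ x, Equiv.swap a x ∈ M := by
    intro x
    rcases eq_or_ne x a with rfl | hxa
    · rw [Equiv.swap_self]; exact one_mem M
    rcases eq_or_ne x b with rfl | hxb
    · exact hab
    have hbx : Equiv.swap b x ∈ M := h1 <| by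
      rw [MulAction.mem_stabilizer_iff, Equiv.Perm.smul_def]
      exact Equiv.swap_apply_of_ne_of_ne hb.symm hxa.symm
    rw [Equiv.swap_comm a x, ← Equiv.swap_mul_swap_mul_swap hb.symm hxa.symm, Equiv.swap_comm b x]
    exact mul_mem (mul_mem (by rwa [Equiv.swap_comm]) hab) (by rwa [Equiv.swap_comm])
  rw [eq_top_iff, ← Equiv.Perm.closure_isSwap, Subgroup.closure_le]
  rintro _ ⟨x, y, hxy, rfl⟩
  rcases eq_or_ne x a with rfl | hxa
  · exact hax y
  rcases eq_or_ne y a with rfl | hya
  · rw [Equiv.swap_comm]; exact hax x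
  refine h1 ?_
  rw [MulAction.mem_stabilizer_iff, Equiv.Perm.smul_def]
  exact Equiv.swap_apply_of_ne_of_ne hxa.symm hya.symm

end Cfsg.Agent.S2963
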