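import Cfsg.Statements.S2998
import Cfsg.Agent.Lib.Isolated.Basic

set_option autoImplicit false
open Cfsg

namespace Cfsg.Agent.S2998

/-- Let G be a finite group, p a prime, P a Sylow p-subgroup of G and x ∈ P an element such that N_G(R) ≤ C_G(x) for every nontrivial subgroup R of P. Then P ≤ C_G(x); every G-conjugate of x lying in P equals x (so g ∈ C_G(x) whenever g x g⁻¹ ∈ P); and for every normal subgroup N of G, the image of x in G ⧸ N has the same property with respect to the image of P: the normalizer of every nontrivial subgroup of the image of P centralizes the image of x. -/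
theorem result {G : Type*} [Group G] [Finite G] {p : ℕ} [Fact p.Prime] (P : Sylow p G) (x : G) (hxP : x ∈ (P : Subgroup G)) (hlc : ∀ R : Subgroup G, R ≤ (P : Subgroup G) → R ≠ ⊥ → Subgroup.normalizer (R : Set G) ≤ Subgroup.centralizer ({x} : Set G)) : (P : Subgroup G) ≤ Subgroup.centralizer ({x} : Set G) ∧ (∀ g : G, g * x * g⁻¹ ∈ (P : Subgroup G) → g * x * g⁻¹ = x) ∧ ∀ (N : Subgroup G) [N.Normal], ∀ R : Subgroup (G ⧸ N), R ≤ (P : Subgroup G).map (QuotientGroup.mk' N) → R ≠ ⊥ → Subgroup.normalizer (R : Set (G ⧸ N)) ≤ Subgroup.centralizer ({(QuotientGroup.mk x : G ⧸ N)} : Set (G ⧸ N)) := by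
  have hp : p.Prime := Fact.out
  have hPC : (P : Subgroup G) ≤ Subgroup.centralizer ({x} : Set G) := by
    by_cases hb : (P : Subgroup G) = ⊥
    · rw [hb]; exact bot_le
    · exact Subgroup.le_normalizer.trans (hlc _ le_rfl hb)
  refine ⟨hPC, ?_, ?_⟩
  · intro g hg
    rcases eq_or_ne x 1 with rfl | hx1
    · simp
    set z := g * x * g⁻¹ with hz
    have hz1 : z ≠ 1 := by rwa [hz, ne_eq, conj_eq_one_iff]
    have hCz : Subgroup.centralizer ({z} : Set G) ≤ Subgroup.centralizer ({x} : Set G) :=
      (LESylow.centralizer_le_normalizer_zpowers z).trans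
        (hlc _ (Subgroup.zpowers_le.2 hg) (Subgroup.zpowers_ne_bot.2 hz1))
    have hconj : (Subgroup.centralizer ({x} : Set G)).map (MulAut.conj g).toMonoidHom ≤
        Subgroup.centralizer ({z} : Set G) := by
      intro y hy
      rw [LEBasic.mem_map_conj, Subgroup.mem_centralizer_singleton_iff] at hy
      rw [Subgroup.mem_centralizer_singleton_iff, hz]
      calc y * (g * x * g⁻¹) = g * (g⁻¹ * y * g * x) * g⁻¹ := by group
        _ = g * (x * (g⁻¹ * y * g)) * g⁻¹ := by rw [hy]
        _ = g * x * g⁻¹ * y := by group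
    have heq : Subgroup.centralizer ({z} : Set G) = Subgroup.centralizer ({x} : Set G) :=
      Subgroup.eq_of_le_of_card_ge hCz ((LEBasic.card_map_conj _ g).symm.le.trans
        (Nat.le_of_dvd Nat.card_pos (Subgroup.card_dvd_of_le hconj)))
    have hPz : (P : Subgroup G) ≤ Subgroup.centralizer ({z} : Set G) := heq ▸ hPC
    have hgP : (P : Subgroup G).map (MulAut.conj g).toMonoidHom ≤
        Subgroup.centralizer ({z} : Set G) := (LEBasic.map_conj_mono g hPC).trans hconj
    obtain ⟨c, hc, hle⟩ := LESylow.exists_conj_le_of_le hgP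
      (LEBasic.isPGroup_map_conj P.isPGroup' g) (P.subtype hPz)
    rw [Sylow.coe_subtype, Subgroup.map_subgroupOf_eq_of_le hPz, LEBasic.map_conj_map_conj] at hle
    have heqP : (P : Subgroup G).map (MulAut.conj (c * g)).toMonoidHom = (P : Subgroup G) :=
      Subgroup.eq_of_le_of_card_ge hle (by rw [LEBasic.card_map_conj])
    have hP1 : (P : Subgroup G) ≠ ⊥ := fun hb => hx1 (Subgroup.mem_bot.1 (hb ▸ hxP))
    have h1 := Subgroup.mem_centralizer_singleton_iff.1
      (hlc _ le_rfl hP1 (LEBasic.map_conj_eq_iff_mem_normalizer.1 heqP))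
    have h2 : c * z = z * c := Subgroup.mem_centralizer_singleton_iff.1 hc
    calc z = c * z * c⁻¹ := by rw [h2, mul_inv_cancel_right]
      _ = (c * g) * x * (c * g)⁻¹ := by rw [hz]; group
      _ = x := by rw [h1, mul_inv_cancel_right]
  · intro N _ R hR hR1 nb hnb
    obtain ⟨n, rfl⟩ := QuotientGroup.mk'_surjective N nb
    set K := R.comap (QuotientGroup.mk' N) with hK
    set R0 := K ⊓ (P : Subgroup G) with hR0
    have hNK : N ≤ K := by
      intro y hy
      show QuotientGroup.mk' N y ∈ R
      have h1 : QuotientGroup.mk' N y = 1 := (QuotientGroup.eq_one_iff y).2 hy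
      rw [h1]; exact one_mem _
    have hmap : R0.map (QuotientGroup.mk' N) = R := by
      refine le_antisymm (Subgroup.map_le_iff_le_comap.2 inf_le_left) fun r hr => ?_
      obtain ⟨q, hq, rfl⟩ := hR hr
      exact ⟨q, Subgroup.mem_inf.2 ⟨hr, hq⟩, rfl⟩
    have hKeq : N ⊔ R0 = K := by
      refine le_antisymm (sup_le hNK inf_le_left) ?_
      rw [hK, ← hmap, Subgroup.comap_map_eq, QuotientGroup.ker_mk', sup_comm]
    have hR01 : R0 ≠ ⊥ := fun hb => hR1 (by rw [← hmap, hb, Subgroup.map_bot])
    obtain ⟨Q, hQ⟩ := PBasic.exists_sylow_subgroupOf P N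
    have hidx : ¬ p ∣ (R0.subgroupOf K).index := by
      change ¬ p ∣ R0.relIndex K
      rw [← hKeq, ← PBasic.relIndex_eq_relIndex_sup]
      have h1 : R0.relIndex N = (P : Subgroup G).relIndex N := by
        show (R0.subgroupOf N).index = ((P : Subgroup G).subgroupOf N).index
        congr 1
        ext y
        simp only [Subgroup.mem_subgroupOf, hR0, Subgroup.mem_inf]
        exact ⟨fun h => h.2, fun h => ⟨hNK y.2, h⟩⟩
      rw [h1]
      change ¬ p ∣ ((P : Subgroup G).subgroupOf N).index
      rw [← hQ]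
      exact Q.not_dvd_index
    have hT : IsPGroup p ↥(R0.subgroupOf K) :=
      (P.isPGroup'.to_le inf_le_right).comap_of_injective K.subtype K.subtype_injective
    have hn : n ∈ Subgroup.normalizer (K : Set G) := by
      rw [Subgroup.mem_normalizer_iff]
      intro y
      show QuotientGroup.mk' N y ∈ R ↔ QuotientGroup.mk' N (n * y * n⁻¹) ∈ R
      rw [map_mul, map_mul, map_inv]
      exact Subgroup.mem_normalizer_iff.1 hnb _
    obtain ⟨k, hk, hkn⟩ := IsolatedP.exists_mul_normalizer (hT.toSylow hidx) hn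
    have hco : ((hT.toSylow hidx : Subgroup ↥K)).map K.subtype = R0 :=
      Subgroup.map_subgroupOf_eq_of_le inf_le_left
    rw [hco] at hkn
    have hm : k⁻¹ * n ∈ Subgroup.centralizer ({x} : Set G) :=
      hlc R0 inf_le_right hR01 hkn
    set π := QuotientGroup.mk' N with hπ
    have hk' : π k ∈ Subgroup.centralizer ({π x} : Set (G ⧸ N)) := by
      obtain ⟨r, hr, hre⟩ := (hmap.symm ▸ (hk : π k ∈ R) : π k ∈ R0.map π)
      rw [← hre, Subgroup.mem_centralizer_singleton_iff, ← map_mul, ← map_mul,
        Subgroup.mem_centralizer_singleton_iff.1 (hPC (Subgroup.mem_inf.1 hr).2)]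
    have hm' : π (k⁻¹ * n) ∈ Subgroup.centralizer ({π x} : Set (G ⧸ N)) := by
      rw [Subgroup.mem_centralizer_singleton_iff, ← map_mul, ← map_mul,
        Subgroup.mem_centralizer_singleton_iff.1 hm]
    have := mul_mem hk' hm'
    rw [← map_mul, mul_inv_cancel_left] at this
    exact this

end Cfsg.Agent.S2998
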