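import Cfsg.Statements.S3001
import Cfsg.Agent.Lib.MinParFF.Bridge

set_option autoImplicit false
set_option linter.style.haveILetI false
open Cfsg

namespace Cfsg.Agent.S3001

open scoped IsMulCommutative

/-- Let p be a prime and let P and V be subgroups of a finite group with V elementary abelian, P normalizing V and acting faithfully on it (P ∩ C(V) = 1). Suppose P is p-minimal (a Sylow p-subgroup is not normal and lies in a unique maximal subgroup), O_p(P) = 1, and P has a best offender on V (a subgroup A not centralizing V, with A/C_A(V) elementary abelian and |B|·|C_V(B)| ≤ |A|·|C_V(A)| for every B ≤ A). Then [C_V(T), P] ≠ 1 for every Sylow p-subgroup T of P. -/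
theorem result {G : Type*} [Group G] [Finite G] {p : ℕ} [Fact p.Prime] (V P : Subgroup G) (hV : Cfsg.IsElementaryAbelian p V) (hPV : P ≤ Subgroup.normalizer (V : Set G)) (hfaith : P ⊓ Subgroup.centralizer (V : Set G) = ⊥) (hmin : Cfsg.IsPMinimal p ↥P) (hOp : Cfsg.pCore p ↥P = ⊥) (hoff : ∃ A : Subgroup G, A ≤ P ∧ ¬ A ≤ Subgroup.centralizer (V : Set G) ∧ Cfsg.IsBestOffenderOn p V A) (T : Sylow p ↥P) : ⁅(V ⊓ Subgroup.centralizer ((((T : Subgroup ↥P).map P.subtype) : Subgroup G) : Set G)), P⁆ ≠ ⊥ := by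
  haveI := hV.1
  letI := Cfsg.Agent.FFEmb.conjAct (V := V) hPV
  obtain ⟨M, hM, hTM⟩ := (hmin T).2.exists
  obtain ⟨z, hzT, g, hgz⟩ := (MinParFF.mdl hV hPV hfaith hmin hOp hoff).exists_moved ⟨hM, T, hTM⟩ hTM
  intro hbot
  refine hgz (Additive.toMul.injective (Subtype.ext (mul_inv_eq_iff_eq_mul.2 ?_)))
  have hz : ((Additive.toMul z : V) : G) ∈ V ⊓ Subgroup.centralizer
      ((((T : Subgroup ↥P).map P.subtype) : Subgroup G) : Set G) := by
    refine ⟨(Additive.toMul z).2, ?_⟩
    rintro _ ⟨t, ht, rfl⟩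
    exact mul_inv_eq_iff_eq_mul.1 (congrArg (fun w : Additive V => ((Additive.toMul w : V) : G)) (hzT t ht))
  exact (Subgroup.commutator_eq_bot_iff_le_centralizer.1 hbot hz) (g : G) g.2

end Cfsg.Agent.S3001
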