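import Cfsg.Statements.S3003
import Cfsg.Agent.Lib.Transfer.Basic
import Cfsg.Agent.Lib.Signalizer.Basic

set_option autoImplicit false
open Cfsg

namespace Cfsg.Agent.S3003

/-- Let G be a finite group, p a prime and Q a large p-subgroup of G: C_G(Q) ≤ Q and N_G(U) ≤ N_G(Q) for every nontrivial subgroup U of C_G(Q). Let Q ≤ G₁ ≤ G, let R be a subgroup of order prime to p normalized by G₁, and let U ≤ G₁ be a p-subgroup. If U contains a nontrivial element which is G₁-conjugate to an element of Z(Q), then C_R(U) = 1. In particular, if U is elementary abelian of order at least p² and every maximal subgroup of U contains a nontrivial element G₁-conjugate into Z(Q), then R = 1. -/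
theorem result {G : Type*} [Group G] [Finite G] {p : ℕ} [Fact p.Prime] (Q : Subgroup G) (hQp : IsPGroup p ↥Q) (hlarge : Cfsg.IsLarge Q) (G₁ : Subgroup G) (hQG : Q ≤ G₁) (R : Subgroup G) (hR : (Nat.card ↥R).Coprime p) (hGR : G₁ ≤ Subgroup.normalizer (R : Set G)) (U : Subgroup G) (hUG : U ≤ G₁) (hUp : IsPGroup p ↥U) : ((∃ x ∈ U, x ≠ 1 ∧ ∃ g ∈ G₁, g * x * g⁻¹ ∈ Q ⊓ Subgroup.centralizer (Q : Set G)) → R ⊓ Subgroup.centralizer (U : Set G) = ⊥) ∧ (Cfsg.IsElementaryAbelian p U → p ^ 2 ≤ Nat.card ↥U → (∀ U₀ : Subgroup G, U₀ ≤ U → IsCoatom (U₀.subgroupOf U) → ∃ x ∈ U₀, x ≠ 1 ∧ ∃ g ∈ G₁, g * x * g⁻¹ ∈ Q ⊓ Subgroup.centralizer (Q : Set G)) → R = ⊥) := by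
  obtain ⟨hQc, hQn⟩ := hlarge
  have first : ∀ V : Subgroup G, V ≤ G₁ →
      (∃ x ∈ V, x ≠ 1 ∧ ∃ g ∈ G₁, g * x * g⁻¹ ∈ Q ⊓ Subgroup.centralizer (Q : Set G)) →
      R ⊓ Subgroup.centralizer (V : Set G) = ⊥ := by
    rintro V hV ⟨x, hxV, hx1, g, hg, hgx⟩
    rw [eq_bot_iff]
    intro r hr
    obtain ⟨hrR, hrV⟩ := Subgroup.mem_inf.1 hr
    obtain ⟨-, hyC⟩ := Subgroup.mem_inf.1 hgx
    have hsR : g * r * g⁻¹ ∈ R := (Subgroup.mem_normalizer_iff.1 (hGR hg) r).1 hrR
    have hsC : g * r * g⁻¹ ∈ Subgroup.centralizer ((Subgroup.zpowers (g * x * g⁻¹) : Subgroup G) : Set G) := by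
      have h1 : Subgroup.zpowers (g * x * g⁻¹) ≤ Subgroup.centralizer ({g * r * g⁻¹} : Set G) := by
        rw [Subgroup.zpowers_le, Subgroup.mem_centralizer_singleton_iff]
        have := Subgroup.mem_centralizer_iff.1 hrV x hxV
        calc g * x * g⁻¹ * (g * r * g⁻¹) = g * (x * r) * g⁻¹ := by group
          _ = g * (r * x) * g⁻¹ := by rw [this]
          _ = g * r * g⁻¹ * (g * x * g⁻¹) := by group
      exact Subgroup.mem_centralizer_iff.2 fun y hy => Subgroup.mem_centralizer_singleton_iff.1 (h1 hy)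
    have hne : Subgroup.zpowers (g * x * g⁻¹) ≠ ⊥ := by
      rw [Ne, Subgroup.zpowers_eq_bot, conj_eq_one_iff]; exact hx1
    have hsN := hQn _ (Subgroup.zpowers_le.2 hyC) hne (Subgroup.centralizer_le_normalizer _ hsC)
    have hdisj : ∀ z, z ∈ Q → z ∈ R → z = 1 := fun z hzQ hzR =>
      Cfsg.Agent.PBasic.eq_one_of_isPGroup_of_coprime hQp hzQ (Cfsg.Agent.PBasic.coprime_orderOf_of_mem hR hzR)
    have hsQ : g * r * g⁻¹ ∈ Subgroup.centralizer (Q : Set G) := by
      refine Subgroup.mem_centralizer_iff.2 fun q hq => ?_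
      have h1 : g * r * g⁻¹ * q * (g * r * g⁻¹)⁻¹ * q⁻¹ = 1 := by
        refine hdisj _ (Q.mul_mem ((Subgroup.mem_normalizer_iff.1 hsN q).1 hq) (Q.inv_mem hq)) ?_
        have := R.mul_mem hsR ((Subgroup.mem_normalizer_iff.1 (hGR (hQG hq)) (g * r * g⁻¹)⁻¹).1 (R.inv_mem hsR))
        simpa [mul_assoc] using this
      rw [mul_inv_eq_one, mul_inv_eq_iff_eq_mul] at h1
      exact h1.symm
    have := hdisj _ (hQc hsQ) hsR
    rwa [conj_eq_one_iff] at this
  refine ⟨first U hUG, fun hE h2 hmax => le_bot_iff.1 ?_⟩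
  refine Cfsg.Agent.Signalizer.le_of_hyperplane_le (p := p) hE h2 (hUG.trans hGR)
    (fun hd => (Fact.out : p.Prime).coprime_iff_not_dvd.1 hR.symm hd) fun D hDU hD => ?_
  refine (first D (hDU.trans hUG) (hmax D hDU ?_)).le
  have hcard : Nat.card (D.subgroupOf U) = Nat.card D :=
    Nat.card_congr (Subgroup.subgroupOfEquivOfLe hDU).toEquiv
  have hDpos : 0 < Nat.card D := Nat.card_pos
  refine ⟨fun htop => ?_, fun K hK => ?_⟩
  · have h3 : Nat.card D = Nat.card U := by rw [← hcard, htop, Subgroup.card_top]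
    rw [← h3] at hD
    have := (Fact.out : p.Prime).one_lt
    nlinarith
  · obtain ⟨j, hj⟩ := Subgroup.card_dvd_of_le hK.le
    have h4 := Subgroup.card_subgroup_dvd_card K
    rw [hj, hcard, ← hD] at h4
    rcases (Fact.out : p.Prime).eq_one_or_self_of_dvd j (Nat.dvd_of_mul_dvd_mul_left hDpos h4) with rfl | rfl
    · exact absurd (Subgroup.eq_of_le_of_card_ge hK.le (by rw [hj, mul_one])) hK.ne
    · exact Subgroup.eq_top_of_card_eq K (by rw [hj, hcard, hD])

end Cfsg.Agent.S3003
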