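import Cfsg.Statements.S3009
import Cfsg.Agent.Lib.LocalEven.SL2Quad
-- import your own Cfsg.Agent.* helpers here

set_option autoImplicit false
open Cfsg

namespace Cfsg.Agent.S3009

/-- Let p be a prime and let G and V be subgroups of a finite group with V elementary abelian and normalized by G, and G isomorphic to SL₂(F) for a finite field F with pⁿ elements. Suppose G acts irreducibly and nontrivially on V by conjugation (no G-invariant subgroups of V other than 1 and V, and [V, G] ≠ 1), and let S be a Sylow p-subgroup of G and V₀ = C_V(S). If [V, S, S] = 1 or |V| ≤ |V₀|², then G acts on V as SL₂(F) on its natural two-dimensional module; in particular |V| = |F|². -/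
theorem result {X : Type*} [Group X] [Finite X] {p : ℕ} [Fact p.Prime] (G V : Subgroup X) (hV : Cfsg.IsElementaryAbelian p V) (hGV : G ≤ Subgroup.normalizer (V : Set X)) (F : Type) [Field F] [Fintype F] (n : ℕ) (hF : Fintype.card F = p ^ n) (hG : Nonempty (↥G ≃* Matrix.SpecialLinearGroup (Fin 2) F)) (hirr : ∀ U : Subgroup X, U ≤ V → G ≤ Subgroup.normalizer (U : Set X) → U = ⊥ ∨ U = V) (hnt : ⁅V, G⁆ ≠ ⊥) (S : Sylow p ↥G) (hyp : ⁅⁅V, (S : Subgroup ↥G).map G.subtype⁆, (S : Subgroup ↥G).map G.subtype⁆ = ⊥ ∨ Nat.card ↥V ≤ Nat.card ↥(V ⊓ Subgroup.centralizer (((S : Subgroup ↥G).map G.subtype : Subgroup X) : Set X)) ^ 2) : Cfsg.ActsAsSL2OnSection F ⊤ G V ⊥ := by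
  classical
  obtain ⟨e₀⟩ := hG
  haveI := Cfsg.Agent.LENat.charP_of_card (p := p) hF
  -- move the Sylow subgroup to the upper unitriangular one
  obtain ⟨P, hP⟩ := (Cfsg.Agent.LENat.isPGroup_U (F := F) (p := p)).exists_le_sylow
  have hPU : (P : Subgroup (Matrix.SpecialLinearGroup (Fin 2) F)) = Cfsg.Agent.LENat.U :=
    Cfsg.Agent.LENat.eq_U_of_le P.2 hP
  obtain ⟨g, hg⟩ := MulAction.exists_smul_eq (Matrix.SpecialLinearGroup (Fin 2) F)
    (S.mapSurjective (f := e₀.toMonoidHom) e₀.surjective) P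
  let e : ↥G ≃* Matrix.SpecialLinearGroup (Fin 2) F := e₀.trans (MulAut.conj g)
  have heS : ∀ x : ↥G, x ∈ (S : Subgroup ↥G) ↔ e x ∈ (Cfsg.Agent.LENat.U : Subgroup (Matrix.SpecialLinearGroup (Fin 2) F)) := by
    have hU : Cfsg.Agent.LENat.U = ((S : Subgroup ↥G).map e₀.toMonoidHom).map (MulAut.conj g).toMonoidHom := by
      rw [← hPU, ← hg]; rfl
    intro x
    rw [hU]
    constructor
    · exact fun hx => ⟨e₀ x, ⟨x, hx, rfl⟩, rfl⟩
    · rintro ⟨z, ⟨y, hy, rfl⟩, hz⟩
      rwa [e₀.injective ((MulAut.conj g).injective hz)] at hy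
  -- the module
  letI : CommGroup ↥V := { (inferInstance : Group ↥V) with mul_comm := hV.1.is_comm.comm }
  have hnm : ∀ (l : ↥G) (v : ↥V), (l : X) * (v : X) * (l : X)⁻¹ ∈ V := fun l v =>
    (Subgroup.mem_normalizer_iff.1 (hGV l.2) (v : X)).1 v.2
  let act : ↥G → AddMonoid.End (Additive ↥V) := fun l =>
    (MonoidHom.toAdditive
      ({ toFun := fun v => ⟨(l : X) * (v : X) * (l : X)⁻¹, hnm l v⟩
         map_one' := Subtype.ext (by simp)
         map_mul' := fun a b => Subtype.ext (by simp [mul_assoc]) } : ↥V →* ↥V))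
  let σ : Matrix.SpecialLinearGroup (Fin 2) F →* AddMonoid.End (Additive ↥V) :=
    { toFun := fun x => act (e.symm x)
      map_one' := AddMonoidHom.ext fun v => by
        refine Additive.toMul.injective (Subtype.ext ?_)
        show ((e.symm 1 : ↥G) : X) * ((Additive.toMul v : ↥V) : X) * ((e.symm 1 : ↥G) : X)⁻¹ = ((Additive.toMul v : ↥V) : X)
        simp
      map_mul' := fun x y => AddMonoidHom.ext fun v => by
        refine Additive.toMul.injective (Subtype.ext ?_)
        show ((e.symm (x * y) : ↥G) : X) * ((Additive.toMul v : ↥V) : X) * ((e.symm (x * y) : ↥G) : X)⁻¹ =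
          ((e.symm x : ↥G) : X) * (((e.symm y : ↥G) : X) * ((Additive.toMul v : ↥V) : X) * ((e.symm y : ↥G) : X)⁻¹) *
            ((e.symm x : ↥G) : X)⁻¹
        rw [map_mul, Subgroup.coe_mul]
        group }
  have hσ : ∀ (l : ↥G) (a : Additive ↥V), ((Additive.toMul (σ (e l) a) : ↥V) : X) =
      (l : X) * ((Additive.toMul a : ↥V) : X) * (l : X)⁻¹ := by
    intro l a
    show ((e.symm (e l) : ↥G) : X) * _ * ((e.symm (e l) : ↥G) : X)⁻¹ = _
    rw [e.symm_apply_apply]
  have hexp : ∀ a : Additive ↥V, p • a = 0 := fun a => by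
    refine Additive.toMul.injective (Subtype.ext ?_)
    show (((Additive.toMul a : ↥V) ^ p : ↥V) : X) = 1
    rw [SubgroupClass.coe_pow]
    exact hV.2 _ (Additive.toMul a : ↥V).2
  have hirr' : ∀ W : AddSubgroup (Additive ↥V), (∀ x, ∀ a ∈ W, σ x a ∈ W) → W = ⊥ ∨ W = ⊤ := by
    intro W hW
    let W' : Subgroup X :=
      { carrier := {x | ∃ hx : x ∈ V, Additive.ofMul (⟨x, hx⟩ : ↥V) ∈ W}
        one_mem' := ⟨V.one_mem, W.zero_mem⟩
        mul_mem' := fun {a b} ⟨ha, ha'⟩ ⟨hb, hb'⟩ => ⟨V.mul_mem ha hb, W.add_mem ha' hb'⟩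
        inv_mem' := fun {a} ⟨ha, ha'⟩ => ⟨V.inv_mem ha, W.neg_mem ha'⟩ }
    have hnorm : G ≤ Subgroup.normalizer (W' : Set X) := by
      intro l hl
      have key : ∀ m : ↥G, ∀ x ∈ W', (m : X) * x * (m : X)⁻¹ ∈ W' := by
        rintro m x ⟨hx, hx'⟩
        refine ⟨hnm m ⟨x, hx⟩, ?_⟩
        have h1 := hW (e m) _ hx'
        have h2 : σ (e m) (Additive.ofMul (⟨x, hx⟩ : ↥V)) =
            Additive.ofMul (⟨(m : X) * x * (m : X)⁻¹, hnm m ⟨x, hx⟩⟩ : ↥V) :=
          Additive.toMul.injective (Subtype.ext (hσ m _))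
        rwa [h2] at h1
      refine Subgroup.mem_normalizer_iff.2 fun x => ⟨key ⟨l, hl⟩ x, fun hx => ?_⟩
      have := key ⟨l⁻¹, G.inv_mem hl⟩ _ hx
      simpa [mul_assoc] using this
    rcases hirr W' (fun x hx => hx.1) hnorm with h | h
    · left
      rw [eq_bot_iff]
      intro a ha
      have h1 : ((Additive.toMul a : ↥V) : X) ∈ W' := ⟨(Additive.toMul a).2, ha⟩
      rw [h, Subgroup.mem_bot] at h1
      exact AddSubgroup.mem_bot.2 (Additive.toMul.injective (Subtype.ext h1))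
    · right
      rw [eq_top_iff]
      intro a _
      obtain ⟨_, h1⟩ : ((Additive.toMul a : ↥V) : X) ∈ W' := h.symm ▸ (Additive.toMul a).2
      exact h1
  have hnt' : ∃ x a, σ x a ≠ a := by
    by_contra h
    push Not at h
    refine hnt ((Subgroup.commutator_eq_bot_iff_le_centralizer).2 fun v hv => Subgroup.mem_centralizer_iff.2 fun l hl => ?_)
    have h1 := hσ ⟨l, hl⟩ (Additive.ofMul (⟨v, hv⟩ : ↥V))
    rw [h] at h1
    exact (eq_mul_inv_iff_mul_eq.1 h1).symm
  have hSmem : ∀ b : F, ((e.symm (Cfsg.Agent.LENat.upp b) : ↥G) : X) ∈ (S : Subgroup ↥G).map G.subtype := fun b =>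
    ⟨e.symm (Cfsg.Agent.LENat.upp b), (heS _).2 (by rw [e.apply_symm_apply]; exact Cfsg.Agent.LENat.upp_mem b), rfl⟩
  have hyp' : (∀ b c a, σ (Cfsg.Agent.LENat.upp c) (σ (Cfsg.Agent.LENat.upp b) a - a) = σ (Cfsg.Agent.LENat.upp b) a - a) ∨
      Nat.card (Additive ↥V) ≤ Nat.card (Cfsg.Agent.SL2Quad.fixU σ) ^ 2 := by
    rcases hyp with hq | hc
    · left
      intro b c a
      refine Additive.toMul.injective (Subtype.ext ?_)
      let t : X := ((e.symm (Cfsg.Agent.LENat.upp b) : ↥G) : X)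
      let s : X := ((e.symm (Cfsg.Agent.LENat.upp c) : ↥G) : X)
      let v : X := ((Additive.toMul a : ↥V) : X)
      show s * (t * v * t⁻¹ / v) * s⁻¹ = t * v * t⁻¹ / v
      have h1 : (v * t * v⁻¹ * t⁻¹) ∈ ⁅V, (S : Subgroup ↥G).map G.subtype⁆ := by
        rw [← commutatorElement_def]
        exact Subgroup.commutator_mem_commutator (Additive.toMul a).2 (hSmem b)
      have h2 : t * v * t⁻¹ / v = (v * t * v⁻¹ * t⁻¹)⁻¹ := by rw [div_eq_mul_inv]; group
      rw [h2]
      have h3 := Subgroup.mem_centralizer_iff.1 ((Subgroup.commutator_eq_bot_iff_le_centralizer).1 hq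
        (inv_mem h1)) s (hSmem c)
      rw [h3, mul_inv_cancel_right]
    · right
      refine le_trans (le_of_eq ?_) (le_trans hc (le_of_eq ?_))
      · exact Nat.card_congr Additive.toMul
      congr 1
      refine Nat.card_congr
        { toFun := fun x => ⟨Additive.ofMul (⟨x, (Subgroup.mem_inf.1 x.2).1⟩ : ↥V), fun b =>
            Additive.toMul.injective (Subtype.ext (eq_mul_inv_iff_mul_eq.2 (Subgroup.mem_centralizer_iff.1
              (Subgroup.mem_inf.1 x.2).2 _ (hSmem b)).symm).symm)⟩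
          invFun := fun a => ⟨((Additive.toMul (a : Additive ↥V) : ↥V) : X),
            Subgroup.mem_inf.2 ⟨(Additive.toMul (a : Additive ↥V)).2, Subgroup.mem_centralizer_iff.2 fun s hs => by
              obtain ⟨y, hy, rfl⟩ := hs
              obtain ⟨b, hb⟩ := Cfsg.Agent.LENat.mem_U.1 ((heS y).1 hy)
              have h1 := congrArg (fun z => ((Additive.toMul z : ↥V) : X)) (a.2 b)
              simp only [hb, hσ] at h1
              exact mul_inv_eq_iff_eq_mul.1 h1⟩⟩
          left_inv := fun x => rfl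
          right_inv := fun a => rfl }
  obtain ⟨ψ, hψ⟩ := Cfsg.Agent.SL2Quad.main σ hexp hirr' hnt' hyp'
  refine ⟨hGV, bot_le, e.toMonoidHom,
    { toFun := fun u => Multiplicative.ofAdd (ψ (Additive.ofMul u))
      map_one' := by
        show Multiplicative.ofAdd (ψ 0) = 1
        rw [map_zero, ofAdd_zero]
      map_mul' := fun u v => by
        show Multiplicative.ofAdd (ψ (Additive.ofMul u + Additive.ofMul v)) = _
        rw [map_add, ofAdd_add] },
    MonoidHom.range_eq_top.2 e.surjective, fun m => ⟨Additive.toMul (ψ.symm m.toAdd), ?_⟩, fun u => ?_, fun l u => ?_⟩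
  · show Multiplicative.ofAdd (ψ (ψ.symm m.toAdd)) = m
    rw [ψ.apply_symm_apply, ofAdd_toAdd]
  · show Multiplicative.ofAdd (ψ (Additive.ofMul u)) = 1 ↔ _
    rw [ofAdd_eq_one, AddEquiv.map_eq_zero_iff, Subgroup.mem_bot, ofMul_eq_zero, ← OneMemClass.coe_eq_one]
  · refine ⟨⟨_, hnm l u⟩, rfl, ?_⟩
    show ψ (Additive.ofMul (⟨_, hnm l u⟩ : ↥V)) = _
    have h2 : Additive.ofMul (⟨(l : X) * (u : X) * (l : X)⁻¹, hnm l u⟩ : ↥V) = σ (e l) (Additive.ofMul u) :=
      Additive.toMul.injective (Subtype.ext (hσ l _).symm)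
    rw [h2, hψ]
    rfl

end Cfsg.Agent.S3009
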