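import Cfsg.Statements.S3011
import Cfsg.Agent.Lib.Involutions.BaerSuzuki
import Cfsg.Agent.Lib.Involutions.Basic
import Cfsg.Agent.Lib.Transfer.Basic

set_option autoImplicit false
open Cfsg

namespace Cfsg.Agent.S3011

/-- An involution outside the `2`-core inverts a non-trivial element of odd order. -/
theorem exists_inverted_odd {G : Type*} [Group G] [Finite G] {t : G} (ht : orderOf t = 2)
    (hn : t ∉ Cfsg.pCore 2 G) : ∃ h : G, h ≠ 1 ∧ Odd (orderOf h) ∧ t * h * t⁻¹ = h⁻¹ := by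
  haveI : Fact (Nat.Prime 2) := ⟨Nat.prime_two⟩
  by_contra hcon
  push Not at hcon
  apply hn
  have key : ∀ g : G, IsPGroup 2 ↥(Subgroup.zpowers t ⊔
      (Subgroup.zpowers t).map (MulAut.conj g).toMonoidHom) := by
    intro g
    set u := g * t * g⁻¹
    have hu : orderOf u = 2 := by rw [Cfsg.Agent.Invol.order_conj, ht]
    have hle : Subgroup.zpowers t ⊔ (Subgroup.zpowers t).map (MulAut.conj g).toMonoidHom =
        Subgroup.closure ({t, u} : Set G) := by
      rw [MonoidHom.map_zpowers, Subgroup.zpowers_eq_closure, Subgroup.zpowers_eq_closure,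
        ← Subgroup.closure_union]
      congr 1
    rw [hle]
    have hinv := Cfsg.Agent.Invol.conj_mul ht hu
    obtain ⟨j, m, hm, hord⟩ := Nat.exists_eq_two_pow_mul_odd (orderOf_pos (t * u)).ne'
    have ha : (t * u) ^ 2 ^ j = 1 := by
      by_contra hne
      refine hcon _ hne ?_ (Cfsg.Agent.Invol.conj_pow hinv _)
      rw [orderOf_pow_of_dvd (pow_ne_zero _ two_ne_zero) (hord ▸ dvd_mul_right _ _), hord,
        Nat.mul_div_cancel_left _ (Nat.two_pow_pos j)]
      exact hm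
    intro d
    obtain ⟨k, hk | hk⟩ := Cfsg.Agent.Invol.mem_closure_pair ht hu d.2
    · refine ⟨j, Subtype.ext ?_⟩
      rw [Subgroup.coe_pow, hk, ← zpow_natCast ((t * u) ^ k), ← zpow_mul, mul_comm, zpow_mul,
        zpow_natCast, ha, one_zpow]
      rfl
    · refine ⟨1, Subtype.ext ?_⟩
      rw [Subgroup.coe_pow, hk, pow_one, pow_two, Cfsg.Agent.Invol.inverted_mul_invol ht hinv]
      rfl
  obtain ⟨N, hN, hN2, hle⟩ := Cfsg.Agent.BaerSuzuki.baerSuzuki (Subgroup.zpowers t)
    (IsPGroup.of_card (n := 1) (by rw [Nat.card_zpowers, ht, pow_one])) key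
  exact Cfsg.Agent.PBasic.le_pCore hN hN2 (hle (Subgroup.mem_zpowers t))

theorem eq_one_of_sq {G : Type*} [Group G] {x : G} (ho : Odd (orderOf x)) (h : x = x⁻¹) : x = 1 := by
  rw [← orderOf_eq_one_iff]
  have h2 : orderOf x ∣ 2 := orderOf_dvd_of_pow_eq_one (by
    rw [pow_two]; nth_rewrite 2 [h]; exact mul_inv_cancel x)
  rcases (Nat.dvd_prime Nat.prime_two).1 h2 with h1 | h1
  · exact h1
  · rw [h1] at ho; exact absurd ho (by decide)

theorem commute_of_sq_commute {G : Type*} [Group G] {x y : G} (ho : Odd (orderOf y))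
    (h : Commute (y * y) x) : Commute y x := by
  obtain ⟨k, hk⟩ := ho
  have hy : y = (y * y) ^ (k + 1) := by
    rw [← pow_two, ← pow_mul, show 2 * (k + 1) = orderOf y + 1 by omega, pow_succ, pow_orderOf_eq_one,
      one_mul]
  rw [hy]
  exact h.pow_left _

/-- The core of the argument: `b` centralises `x` (which `a` inverts) and `a` centralises `y`
(which `b` inverts). -/
theorem core_argument {G : Type*} [Group G] [Finite G] {V : Subgroup G} (hS : Cfsg.IsSidkiPair V)
    {a b x y : G} (ha : a ∈ V) (hb : b ∈ V) (hcases : ∀ w ∈ V, w ≠ 1 → w = a ∨ w = b ∨ w = a * b)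
    (haa : a * a = 1) (hbb : b * b = 1)
    (hxo : Odd (orderOf x)) (hx1 : x ≠ 1) (hax : a * x * a⁻¹ = x⁻¹) (hbx : b * x = x * b)
    (hyo : Odd (orderOf y)) (hy1 : y ≠ 1) (hby : b * y * b⁻¹ = y⁻¹) (hay : a * y = y * a) : False := by
  have hai : a⁻¹ = a := inv_eq_of_mul_eq_one_right haa
  have hbi : b⁻¹ = b := inv_eq_of_mul_eq_one_right hbb
  have hbyi : b * y⁻¹ * b⁻¹ = y := by rw [← _root_.conj_inv, hby, inv_inv]
  have hayi : a * y⁻¹ = y⁻¹ * a := (show Commute a y from hay).inv_right.eq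
  -- `x` and `y` cannot commute
  have hnc : ¬ Commute x y := by
    intro hc
    have hxyo : Odd (orderOf (x * y)) := by
      obtain ⟨r, hr⟩ : orderOf (x * y) ∣ orderOf x * orderOf y :=
        hc.orderOf_mul_dvd_lcm.trans (Nat.lcm_dvd_mul _ _)
      exact Nat.Odd.of_mul_left (n := r) (hr ▸ hxo.mul hyo)
    have hinv : (a * b) * (x * y) * (a * b)⁻¹ = (x * y)⁻¹ := by
      rw [mul_inv_rev, mul_inv_rev, hc.inv_inv.symm.eq]
      calc a * b * (x * y) * (b⁻¹ * a⁻¹) = a * ((b * x) * b⁻¹) * a⁻¹ * (a * (b * y * b⁻¹) * a⁻¹) := by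
            group
        _ = (a * x * a⁻¹) * (a * y⁻¹ * a⁻¹) := by rw [hbx, mul_inv_cancel_right, hby]
        _ = x⁻¹ * y⁻¹ := by rw [hax, hayi, mul_inv_cancel_right]
    obtain ⟨w, hw, hw1, hwxy⟩ := hS (x * y) (a * b) (mul_mem ha hb) hxyo hinv
    rcases hcases w hw hw1 with rfl | rfl | rfl
    · refine hx1 (eq_one_of_sq hxo (mul_right_cancel (b := y) ?_))
      calc x * y = w * (x * y) * w⁻¹ := by rw [hwxy, mul_inv_cancel_right]
        _ = (w * x * w⁻¹) * (w * y * w⁻¹) := by group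
        _ = x⁻¹ * y := by rw [hax, hay, mul_inv_cancel_right]
    · refine hy1 (eq_one_of_sq hyo (mul_left_cancel (a := x) ?_))
      calc x * y = w * (x * y) * w⁻¹ := by rw [hwxy, mul_inv_cancel_right]
        _ = (w * x * w⁻¹) * (w * y * w⁻¹) := by group
        _ = x * y⁻¹ := by rw [hby, hbx, mul_inv_cancel_right]
    · have h1 : x * y = 1 := eq_one_of_sq hxyo (by
        rw [← hinv, hwxy, mul_inv_cancel_right])
      apply hx1
      refine eq_one_of_sq hxo ?_
      have hyx : y = x⁻¹ := eq_inv_of_mul_eq_one_right h1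
      calc x = b * x * b⁻¹ := by rw [hbx, mul_inv_cancel_right]
        _ = (b * y * b⁻¹)⁻¹ := by rw [hyx]; group
        _ = x⁻¹ := by rw [hby, inv_inv, hyx]
  set x' := y⁻¹ * x * y with hx'
  have hxo' : Odd (orderOf x') := by
    have h := (MulAut.conj y⁻¹).orderOf_eq x
    rw [MulAut.conj_apply, inv_inv, ← hx'] at h
    rwa [h]
  have hax' : a * x' * a⁻¹ = x'⁻¹ := by
    rw [hx', show a * (y⁻¹ * x * y) * a⁻¹ = (a * y⁻¹) * x * (y * a⁻¹) by group, hayi,
      show y⁻¹ * a * x * (y * a⁻¹) = y⁻¹ * (a * x * (y * a⁻¹)) by group,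
      show y * a⁻¹ = a⁻¹ * y from (show Commute a y from hay).inv_left.eq.symm,
      show y⁻¹ * (a * x * (a⁻¹ * y)) = y⁻¹ * (a * x * a⁻¹) * y by group, hax]
    group
  obtain ⟨w, hw, hw1, hwx⟩ := hS x' a ha hxo' hax'
  have hbc : b * x' * b⁻¹ = y * x * y⁻¹ := by
    rw [hx', show b * (y⁻¹ * x * y) * b⁻¹ = (b * y⁻¹ * b⁻¹) * ((b * x) * b⁻¹) * (b * y * b⁻¹) by group,
      hbyi, hbx, mul_inv_cancel_right, hby]
  have hx'1 : x' ≠ 1 := fun h => hx1 (by
    calc x = y * x' * y⁻¹ := by rw [hx']; group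
      _ = 1 := by rw [h]; group)
  rcases hcases w hw hw1 with rfl | rfl | rfl
  · exact hx'1 (eq_one_of_sq hxo' (by rw [← hax', hwx, mul_inv_cancel_right]))
  · have h1 : y * x * y⁻¹ = y⁻¹ * x * y := by rw [← hbc, hwx, mul_inv_cancel_right]
    refine hnc (commute_of_sq_commute hyo ?_).symm
    show y * y * x = x * (y * y)
    calc y * y * x = y * (y * x * y⁻¹) * y := by group
      _ = x * (y * y) := by rw [h1]; group
  · have h1 : y * x⁻¹ * y⁻¹ = y⁻¹ * x * y := by
      have h2 : a * b * x' * (a * b)⁻¹ = x' := by rw [hwx, mul_inv_cancel_right]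
      rw [mul_inv_rev, show a * b * x' * (b⁻¹ * a⁻¹) = a * (b * x' * b⁻¹) * a⁻¹ by group, hbc,
        show a * (y * x * y⁻¹) * a⁻¹ = (a * y) * x * (y⁻¹ * a⁻¹) by group, hay,
        show y⁻¹ * a⁻¹ = a⁻¹ * y⁻¹ from ((show Commute a y from hay).inv_left.inv_right).eq.symm,
        show y * a * x * (a⁻¹ * y⁻¹) = y * (a * x * a⁻¹) * y⁻¹ by group, hax] at h2
      rw [← hx']; exact h2
    have h3 : y * y * x⁻¹ * (y * y)⁻¹ = x := by
      rw [show y * y * x⁻¹ * (y * y)⁻¹ = y * (y * x⁻¹ * y⁻¹) * y⁻¹ by group, h1]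
      group
    have h4 : Commute (y * y * (y * y)) x := by
      show y * y * (y * y) * x = x * (y * y * (y * y))
      have h5 : y * y * x * (y * y)⁻¹ = x⁻¹ := by rw [← inv_inv x, ← _root_.conj_inv, inv_inv, h3]
      calc y * y * (y * y) * x = (y * y) * (y * y * x * (y * y)⁻¹) * (y * y)⁻¹ * (y * y * (y * y)) := by
            group
        _ = _ := by rw [h5, h3]
    have hyyo : Odd (orderOf (y * y)) := by
      obtain ⟨r, hr⟩ : orderOf (y * y) ∣ orderOf y := by
        rw [← pow_two]; exact orderOf_pow_dvd 2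
      exact Nat.Odd.of_mul_left (n := r) (hr ▸ hyo)
    have h6 : Commute (y * y) x := commute_of_sq_commute hyyo h4
    refine hx1 (eq_one_of_sq hxo ?_)
    nth_rewrite 1 [← h3]
    rw [h6.inv_right.eq, mul_inv_cancel_right]

/-- Let G be a finite group and V a nontrivial elementary abelian 2-subgroup of G of order at most 4 such that, whenever an element of V inverts an element h of G of odd order, some nontrivial element of V commutes with h. Then V meets O₂(G) nontrivially. (The case of order at most 4 has a short argument from the Baer–Suzuki theorem.) -/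
theorem result {G : Type*} [Group G] [Finite G] (V : Subgroup G) (hV : Cfsg.IsElementaryAbelian 2 V) (hV1 : V ≠ ⊥) (hS : Cfsg.IsSidkiPair V) (h4 : Nat.card V ≤ 4) : V ⊓ Cfsg.pCore 2 G ≠ ⊥ := by
  haveI : Fact (Nat.Prime 2) := ⟨Nat.prime_two⟩
  intro hbot
  have hsq : ∀ v ∈ V, v * v = 1 := fun v hv => by rw [← pow_two]; exact hV.2 v hv
  have hout : ∀ v ∈ V, v ≠ 1 → v ∉ Cfsg.pCore 2 G := fun v hv hv1 h => hv1 (by
    rw [← Subgroup.mem_bot, ← hbot]; exact ⟨hv, h⟩)
  have hinv : ∀ v ∈ V, v ≠ 1 → ∃ h : G, h ≠ 1 ∧ Odd (orderOf h) ∧ v * h * v⁻¹ = h⁻¹ :=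
    fun v hv hv1 => exists_inverted_odd (orderOf_eq_prime (by rw [pow_two]; exact hsq v hv) hv1)
      (hout v hv hv1)
  obtain ⟨a, ha, ha1⟩ := (Subgroup.nontrivial_iff_exists_ne_one _).1
    ((Subgroup.nontrivial_iff_ne_bot _).2 hV1)
  obtain ⟨x, hx1, hxo, hax⟩ := hinv a ha ha1
  obtain ⟨b, hb, hb1, hbx⟩ := hS x a ha hxo hax
  have hba : b ≠ a := fun h => by
    subst h
    exact hx1 (eq_one_of_sq hxo (by rw [← hax, hbx, mul_inv_cancel_right]))
  have hab1 : a * b ≠ 1 := fun h => hba (mul_left_cancel (h.trans (hsq a ha).symm))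
  have hab_a : a * b ≠ a := fun h => hb1 (mul_eq_left.1 h)
  have hab_b : a * b ≠ b := fun h => ha1 (mul_eq_right.1 h)
  have hall : ∀ w ∈ V, w ≠ 1 → w = a ∨ w = b ∨ w = a * b := by
    intro w hw hw1
    by_contra hcon
    push Not at hcon
    have h5 : ({(1 : G), a, b, a * b, w} : Set G).ncard = 5 := by
      rw [Set.ncard_insert_of_notMem
          (by simp [Ne.symm ha1, Ne.symm hb1, Ne.symm hab1, Ne.symm hw1]),
        Set.ncard_insert_of_notMem (by simp [Ne.symm hba, Ne.symm hab_a, Ne.symm hcon.1]),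
        Set.ncard_insert_of_notMem (by simp [Ne.symm hab_b, Ne.symm hcon.2.1]),
        Set.ncard_insert_of_notMem (by simp [Ne.symm hcon.2.2]), Set.ncard_singleton]
    have h6 : ({(1 : G), a, b, a * b, w} : Set G).ncard ≤ (V : Set G).ncard := by
      refine Set.ncard_le_ncard ?_ (Set.toFinite _)
      rintro z (rfl | rfl | rfl | rfl | rfl)
      exacts [one_mem V, ha, hb, mul_mem ha hb, hw]
    rw [h5, ← Nat.card_coe_set_eq] at h6
    simp only [SetLike.coe_sort_coe] at h6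
    omega
  obtain ⟨y, hy1, hyo, hby⟩ := hinv b hb hb1
  obtain ⟨w, hw, hw1, hwy⟩ := hS y b hb hyo hby
  rcases hall w hw hw1 with rfl | rfl | rfl
  · exact core_argument hS hw hb hall (hsq _ hw) (hsq b hb) hxo hx1 hax hbx hyo hy1 hby hwy
  · exact hy1 (eq_one_of_sq hyo (by rw [← hby, hwy, mul_inv_cancel_right]))
  · -- `a * b` inverts `x` as well
    have hcomm : a * b = b * a := congrArg Subtype.val (hV.1.is_comm.comm ⟨a, ha⟩ ⟨b, hb⟩)
    have hax' : a * b * x * (a * b)⁻¹ = x⁻¹ := by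
      rw [mul_inv_rev, show a * b * x * (b⁻¹ * a⁻¹) = a * ((b * x) * b⁻¹) * a⁻¹ by group, hbx,
        mul_inv_cancel_right, hax]
    refine core_argument hS hw hb (fun z hz hz1 => ?_) (hsq _ hw) (hsq b hb) hxo hx1 hax' hbx hyo hy1
      hby hwy
    rcases hall z hz hz1 with rfl | rfl | rfl
    · right; right
      rw [mul_assoc, hsq b hb, mul_one]
    · exact Or.inr (Or.inl rfl)
    · exact Or.inl rfl

end Cfsg.Agent.S3011
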