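import Cfsg.Statements.S3012


set_option autoImplicit false
open Cfsg

namespace Cfsg.Agent.S3012

/-- Let G be a finite group, V a nontrivial elementary abelian 2-subgroup of G satisfying the Sidki pair condition (every odd-order element inverted by an element of V commutes with a nontrivial element of V), and K a normal subgroup of G with V ∩ K = 1. Then the image of V in G/K satisfies the Sidki pair condition in G/K. -/
theorem result {G : Type*} [Group G] [Finite G] (V K : Subgroup G) [K.Normal] (hV : Cfsg.IsElementaryAbelian 2 V) (hV1 : V ≠ ⊥) (hS : Cfsg.IsSidkiPair V) (hVK : V ⊓ K = ⊥) : Cfsg.IsSidkiPair (V.map (QuotientGroup.mk' K)) := by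
  obtain ⟨hcomm, hsq⟩ := hV
  set π := QuotientGroup.mk' K with hπ
  rintro hb vb ⟨v, hv, rfl⟩ hodd hinv
  obtain ⟨t, ht⟩ := hodd
  obtain ⟨m, hm⟩ := QuotientGroup.mk'_surjective K (hb ^ (t + 1))
  rw [← hπ] at hm
  have hm2 : hb ^ (t + 1) * hb ^ (t + 1) = hb := by
    rw [← pow_add, show t + 1 + (t + 1) = orderOf hb + 1 by omega, pow_succ, pow_orderOf_eq_one,
      one_mul]
  have hvv : v * v = 1 := by rw [← sq]; exact hsq v hv
  have hvinv : v⁻¹ = v := inv_eq_of_mul_eq_one_right hvv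
  set e := m * v * m⁻¹ * v⁻¹ with he
  have hπe : π e = hb := by
    have h1 : π v * (hb ^ (t + 1))⁻¹ * (π v)⁻¹ = hb ^ (t + 1) := by
      rw [← inv_pow, ← conj_pow, ← _root_.conj_inv, hinv, inv_inv]
    rw [he, map_mul, map_mul, map_mul, map_inv, map_inv, hm]
    calc hb ^ (t + 1) * π v * (hb ^ (t + 1))⁻¹ * (π v)⁻¹
        = hb ^ (t + 1) * (π v * (hb ^ (t + 1))⁻¹ * (π v)⁻¹) := by group
      _ = hb := by rw [h1, hm2]
  have heinv : v * e * v⁻¹ = e⁻¹ := by
    rw [he]
    simp only [mul_inv_rev, inv_inv, hvinv, mul_assoc, hvv, mul_one]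
  obtain ⟨a, c, hc, hac⟩ := Nat.exists_eq_two_pow_mul_odd (orderOf_pos e).ne'
  have hdvd : orderOf hb ∣ orderOf e := hπe ▸ orderOf_map_dvd π e
  have hco : (orderOf hb).Coprime (2 ^ a) :=
    Nat.Coprime.pow_right a (Nat.coprime_two_right.2 ⟨t, ht⟩)
  obtain ⟨k, hk⟩ := exists_pow_eq_self_of_coprime hco.symm (x := hb)
  set e' := e ^ (2 ^ a * k) with he'
  have hπe' : π e' = hb := by rw [he', map_pow, hπe, pow_mul]; exact hk
  have hodd' : Odd (orderOf e') := by
    refine hc.of_dvd_nat (orderOf_dvd_of_pow_eq_one ?_)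
    rw [he', ← pow_mul, show 2 ^ a * k * c = orderOf e * k by rw [hac]; ring, pow_mul,
      pow_orderOf_eq_one, one_pow]
  have hinv' : v * e' * v⁻¹ = e'⁻¹ := by
    rw [he', ← conj_pow, heinv, inv_pow]
  obtain ⟨w, hwV, hw1, hwe⟩ := hS e' v hv hodd' hinv'
  refine ⟨π w, ⟨w, hwV, rfl⟩, fun h1 => hw1 ?_, ?_⟩
  · have hwK : w ∈ K := (QuotientGroup.eq_one_iff w).1 h1
    exact Subgroup.mem_bot.1 (hVK ▸ Subgroup.mem_inf.2 ⟨hwV, hwK⟩)
  · rw [← hπe', ← map_mul, hwe, map_mul]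

end Cfsg.Agent.S3012
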