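import Cfsg.Statements.S3013


set_option autoImplicit false
open Cfsg

namespace Cfsg.Agent.S3013

/-- Let G be a finite group and V a nontrivial elementary abelian 2-subgroup of G satisfying the Sidki pair condition. Let v ∈ V and let x be an element of odd order inverted by v, and put C = C_G(v) ∩ C_G(x), the centralizer of the dihedral subgroup generated by v and x. Then C ∩ V is nontrivial and satisfies the Sidki pair condition inside C: every odd-order element of C inverted by an element of C ∩ V commutes with a nontrivial element of C ∩ V. -/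
theorem result {G : Type*} [Group G] [Finite G] (V : Subgroup G) (hV : Cfsg.IsElementaryAbelian 2 V) (hV1 : V ≠ ⊥) (hS : Cfsg.IsSidkiPair V) (v x : G) (hv : v ∈ V) (hx : Odd (orderOf x)) (hinv : v * x * v⁻¹ = x⁻¹) (C : Subgroup G) (hC : C = Subgroup.centralizer ({v} : Set G) ⊓ Subgroup.centralizer ({x} : Set G)) : C ⊓ V ≠ ⊥ ∧ Cfsg.IsSidkiPair ((C ⊓ V).subgroupOf C) := by
  obtain ⟨hcomm, hsq⟩ := hV
  have hVc : ∀ a ∈ V, ∀ b ∈ V, a * b = b * a := fun a ha b hb =>
    congrArg Subtype.val (hcomm.is_comm.comm (⟨a, ha⟩ : ↥V) ⟨b, hb⟩)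
  have hmemC : ∀ y : G, y ∈ C ↔ y * v = v * y ∧ y * x = x * y := by
    intro y
    rw [hC, Subgroup.mem_inf, Subgroup.mem_centralizer_singleton_iff,
      Subgroup.mem_centralizer_singleton_iff]
  constructor
  · obtain ⟨w, hw, hw1, hwx⟩ := hS x v hv hx hinv
    intro hb
    exact hw1 (Subgroup.mem_bot.1 (hb ▸ Subgroup.mem_inf.2
      ⟨(hmemC w).2 ⟨hVc w hw v hv, hwx⟩, hw⟩))
  · intro h u hu hodd huh
    obtain ⟨hh, hh'⟩ := (hmemC _).1 h.2
    obtain ⟨hu1, hu2⟩ := (hmemC _).1 u.2
    have huV : (u : G) ∈ V := (Subgroup.mem_inf.1 hu).2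
    have huh' : (u : G) * h * (u : G)⁻¹ = (h : G)⁻¹ := congrArg Subtype.val huh
    have hodd' : Odd (orderOf (h : G)) := by rwa [Subgroup.orderOf_coe]
    have hvh : v * h * v⁻¹ = (h : G) := by rw [← hh, mul_inv_cancel_right]
    have hux : (u : G) * x * (u : G)⁻¹ = x := by rw [hu2, mul_inv_cancel_right]
    have hxh : Commute x (h : G) := hh'.symm
    have hoddxh : Odd (orderOf (x * (h : G))) :=
      (hx.mul hodd').of_dvd_nat hxh.orderOf_mul_dvd_mul_orderOf
    have hinvxh : ((u : G) * v) * (x * h) * ((u : G) * v)⁻¹ = (x * (h : G))⁻¹ := by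
      calc ((u : G) * v) * (x * h) * ((u : G) * v)⁻¹
          = (u : G) * ((v * x * v⁻¹) * (v * h * v⁻¹)) * (u : G)⁻¹ := by group
        _ = ((u : G) * x⁻¹ * (u : G)⁻¹) * ((u : G) * h * (u : G)⁻¹) := by
            rw [hinv, hvh]; group
        _ = x⁻¹ * (h : G)⁻¹ := by rw [← _root_.conj_inv, hux, huh']
        _ = (x * (h : G))⁻¹ := by rw [mul_inv_rev, hxh.inv_inv.eq]
    obtain ⟨w, hw, hw1, hwxh⟩ := hS (x * h) (u * v) (mul_mem huV hv) hoddxh hinvxh
    have hwu : w * (u : G) = (u : G) * w := hVc w hw u huV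
    have h3 : Commute w (x * (h : G)⁻¹) := by
      have e1 : x * (h : G)⁻¹ = (u : G) * (x * h) * (u : G)⁻¹ := by
        calc x * (h : G)⁻¹ = ((u : G) * x * (u : G)⁻¹) * ((u : G) * h * (u : G)⁻¹) := by
              rw [hux, huh']
          _ = _ := by group
      rw [e1]
      exact ((show Commute w (u : G) from hwu).mul_right hwxh).mul_right
        (show Commute w (u : G) from hwu).inv_right
    have h4 : Commute w ((h : G) ^ 2) := by
      have e2 : (h : G) ^ 2 = (x * (h : G)⁻¹)⁻¹ * (x * h) := by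
        rw [sq]; group
      rw [e2]; exact h3.inv_right.mul_right hwxh
    have h5 : Commute w (h : G) := by
      obtain ⟨t, ht⟩ := hodd'
      have e3 : ((h : G) ^ 2) ^ (t + 1) = h := by
        rw [← pow_mul, show 2 * (t + 1) = orderOf (h : G) + 1 by omega, pow_succ,
          pow_orderOf_eq_one, one_mul]
      exact e3 ▸ h4.pow_right (t + 1)
    have h6 : Commute w x := by
      have := (show Commute w (x * h) from hwxh).mul_right h5.inv_right
      rwa [mul_inv_cancel_right] at this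
    have hwC : w ∈ C := (hmemC w).2 ⟨hVc w hw v hv, h6⟩
    exact ⟨⟨w, hwC⟩, Subgroup.mem_inf.2 ⟨hwC, hw⟩, fun h => hw1 (congrArg Subtype.val h),
      Subtype.ext h5⟩

end Cfsg.Agent.S3013
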