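import Cfsg.Statements.S3020
import Cfsg.Agent.Lib.LocalEven.SylowAux
import Cfsg.Agent.Lib.Transfer.Fusion

set_option autoImplicit false
open Cfsg

namespace Cfsg.Agent.S3020

/-- Let G be a finite group, p a prime and H an abelian p-subgroup of G that is extremely closed (for every g, the subgroup generated by H and g H g⁻¹ meets N_G(H) exactly in H). Then for every g ∈ G, the subgroup T generated by H and g H g⁻¹ is the product of H with O_{p'}(T), and H meets O_{p'}(T) trivially; that is, O_{p'}(T) is a normal p-complement of H in T. -/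
theorem result {G : Type*} [Group G] [Finite G] {p : ℕ} [Fact p.Prime] (H : Subgroup G) (hHp : IsPGroup p H) (hHab : IsMulCommutative H) (hcl : Cfsg.IsExtremelyClosed H) (g : G) (T : Subgroup G) (hT : T = H ⊔ H.map (MulAut.conj g).toMonoidHom) : H ⊔ (Cfsg.pPrimeCore p ↥T).map T.subtype = T ∧ H ⊓ (Cfsg.pPrimeCore p ↥T).map T.subtype = ⊥ := by
  have hT' : T ⊓ Subgroup.normalizer (H : Set G) = H := by rw [hT]; exact hcl g
  have hHT : H ≤ T := hT ▸ le_sup_left
  have hmemN : ∀ n : ↥T, n ∈ Subgroup.normalizer ((H.subgroupOf T : Subgroup ↥T) : Set ↥T) →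
      (n : G) ∈ H := by
    intro n hn
    refine hT'.le (Subgroup.mem_inf.2 ⟨n.2, ?_⟩)
    rw [Subgroup.mem_normalizer_iff]
    intro y
    constructor
    · intro hy
      exact (Subgroup.mem_normalizer_iff.1 hn ⟨y, hHT hy⟩).1 hy
    · intro hy
      have hyT : y ∈ T := by
        have := mul_mem (mul_mem (inv_mem n.2) (hHT hy)) n.2
        simpa [mul_assoc] using this
      exact (Subgroup.mem_normalizer_iff.1 hn ⟨y, hyT⟩).2 hy
  have hHp' : IsPGroup p ↥(H.subgroupOf T) := hHp.comap_of_injective T.subtype T.subtype_injective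
  obtain ⟨P, hP⟩ := LESylow.exists_sylow_eq hHp' (fun Q _ _ hQN q hq => hmemN q (hQN hq))
  have hburn : Cfsg.HasNormalPComplement p ↥T := by
    refine Fusion.hasNormalPComplement_of_normalizer_le_centralizer P ?_
    intro n hn y hy
    replace hn : n ∈ Subgroup.normalizer ((P : Subgroup ↥T) : Set ↥T) := hn
    replace hy : y ∈ (P : Subgroup ↥T) := hy
    rw [hP] at hn hy
    have h := congrArg Subtype.val
      (hHab.is_comm.comm (⟨(y : G), hy⟩ : ↥H) ⟨(n : G), hmemN n hn⟩)
    exact Subtype.ext h
  constructor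
  · have h1 := PBasic.sylow_sup_eq_top P (PBasic.quotient_pPrimeCore_isPGroup hburn)
    rw [hP] at h1
    have h2 := congrArg (Subgroup.map T.subtype) h1
    rwa [Subgroup.map_sup, Subgroup.map_subgroupOf_eq_of_le hHT, ← MonoidHom.range_eq_map,
      Subgroup.range_subtype] at h2
  · refine PBasic.inf_eq_bot_of_coprime ?_ hHp |> fun h => (inf_comm _ _).trans h
    rw [Subgroup.card_map_of_injective T.subtype_injective]
    exact PBasic.pPrimeCore_coprime p ↥T

end Cfsg.Agent.S3020
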