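import Cfsg.Statements.S3021
import Cfsg.Agent.Lib.LocalEven.SylowAux

set_option autoImplicit false
open Cfsg

namespace Cfsg.Agent.S3021

/-- Let G be a finite group, p a prime and H a p-subgroup of G that is extremely closed (for every g, the subgroup generated by H and g H g⁻¹ meets N_G(H) exactly in H). Then every p-subgroup Q of G containing H has N_G(Q) ≤ N_G(H); in particular every Sylow p-subgroup P of G containing H normalizes H, and H is strongly closed in P with respect to G. -/
theorem result {G : Type*} [Group G] [Finite G] {p : ℕ} [Fact p.Prime] (H : Subgroup G) (hHp : IsPGroup p H) (hcl : Cfsg.IsExtremelyClosed H) : (∀ Q : Subgroup G, IsPGroup p Q → H ≤ Q → Subgroup.normalizer (Q : Set G) ≤ Subgroup.normalizer (H : Set G)) ∧ ∀ P : Sylow p G, H ≤ (P : Subgroup G) → (P : Subgroup G) ≤ Subgroup.normalizer (H : Set G) ∧ Cfsg.IsStronglyClosed H (P : Subgroup G) := by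
  have key : ∀ Q : Subgroup G, IsPGroup p Q → H ≤ Q →
      Subgroup.normalizer (Q : Set G) ≤ Subgroup.normalizer (H : Set G) := by
    intro Q hQ hHQ n hn
    set T := H ⊔ H.map (MulAut.conj n).toMonoidHom with hT
    have hTQ : T ≤ Q := sup_le hHQ ((LEBasic.map_conj_mono n hHQ).trans
      (LEBasic.map_conj_eq_iff_mem_normalizer.2 hn).le)
    have heq : H = T := LESylow.eq_of_normalizer_inf_le (hQ.to_le hTQ) le_sup_left (hcl n).le
    rw [← LEBasic.map_conj_eq_iff_mem_normalizer]
    exact Subgroup.eq_of_le_of_card_ge (le_sup_right.trans heq.symm.le)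
      (by rw [LEBasic.card_map_conj])
  refine ⟨key, fun P hHP => ?_⟩
  have hPN : (P : Subgroup G) ≤ Subgroup.normalizer (H : Set G) :=
    Subgroup.le_normalizer.trans (key _ P.isPGroup' hHP)
  refine ⟨hPN, hHP, fun x hx g hg => ?_⟩
  exact (hcl g).le (Subgroup.mem_inf.2
    ⟨(le_sup_right : _ ≤ H ⊔ H.map (MulAut.conj g).toMonoidHom) ⟨x, hx, rfl⟩, hPN hg⟩)

end Cfsg.Agent.S3021
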