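import Cfsg.Statements.S3022
import Cfsg.Agent.Lib.PMinAut.Main

set_option autoImplicit false
open Cfsg

namespace Cfsg.Agent.S3022

/-- Let G be a finite group all of whose non-abelian simple sections are known simple groups, such that a Sylow 2-subgroup of G lies in exactly one maximal subgroup of G and C_G(O₂(G)) ≤ O₂(G). Let S be a Sylow 2-subgroup of G and A a group of automorphisms of S of odd order. Then some nontrivial A-invariant subgroup of S is normal in G. -/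
theorem result {G : Type*} [Group G] [Finite G] (hK : Cfsg.IsKGroup G) (hirr : ∀ S : Sylow 2 G, ∃! M : Subgroup G, IsCoatom M ∧ (S : Subgroup G) ≤ M) (hchar : Subgroup.centralizer (Cfsg.pCore 2 G : Set G) ≤ Cfsg.pCore 2 G) (S : Sylow 2 G) (A : Subgroup (MulAut ↥(S : Subgroup G))) (hA : Odd (Nat.card A)) : ∃ U : Subgroup G, U ≠ ⊥ ∧ U.Normal ∧ U ≤ (S : Subgroup G) ∧ ∀ a ∈ A, ∀ x : ↥(S : Subgroup G), (x : G) ∈ U → ((a x : ↥(S : Subgroup G)) : G) ∈ U := by
  classical
  obtain ⟨M, ⟨hM, -⟩, -⟩ := hirr S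
  have hne : (S : Subgroup G) ≠ ⊥ := by
    intro e
    have hQ : Cfsg.pCore 2 G = ⊥ := le_bot_iff.1 (e ▸ Cfsg.Agent.PBasic.pCore_le_sylow S)
    refine hM.1 (eq_top_iff.2 fun x _ => ?_)
    have hx : x ∈ Cfsg.pCore 2 G := hchar (by rw [hQ]; rintro y rfl; simp)
    rw [hQ, Subgroup.mem_bot] at hx
    rw [hx]; exact one_mem M
  by_cases hn : (S : Subgroup G).Normal
  · exact ⟨S, hne, hn, le_rfl, fun a _ x _ => (a x).2⟩
  have hmin : Cfsg.IsPMinimal 2 G := fun T => ⟨fun hT => hn (by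
    obtain ⟨g, hg⟩ := Cfsg.Agent.LESylow.exists_conj_eq T S
    haveI := hT
    rw [← hg]
    exact hT.map _ (MulAut.conj g).surjective), hirr T⟩
  by_cases hc : ∃ C : Subgroup G, C ≤ Cfsg.baumannSubgroupOf 2 (S : Subgroup G) ∧ C ≠ ⊥ ∧
      (C.subgroupOf (Cfsg.baumannSubgroupOf 2 (S : Subgroup G))).Characteristic ∧ C.Normal
  · obtain ⟨C, hCB, hC1, hCc, hCn⟩ := hc
    exact ⟨C, hC1, hCn, hCB.trans inf_le_left, fun a _ x hx =>
      Cfsg.Agent.PMinAut.tr_char a inf_le_left hCB (fun b => Cfsg.Agent.PMinAut.tr_baumann b) hCc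
        (Cfsg.Agent.PMinAut.mem_tr.2 hx)⟩
  by_cases hz : (Cfsg.omegaOneCenter 2 (S : Subgroup G)).Normal
  · refine ⟨_, ?_, hz, (Cfsg.Agent.BBlock.omegaOneCenter_le 2 _).trans inf_le_left, fun a _ x hx =>
      (Cfsg.Agent.PMinAut.tr_omegaOneCenter a).le (Cfsg.Agent.PMinAut.mem_tr.2 hx)⟩
    haveI : Nontrivial ↥(S : Subgroup G) := (Subgroup.nontrivial_iff_ne_bot _).2 hne
    haveI := S.2.center_nontrivial
    obtain ⟨z, hz1⟩ := exists_ne (1 : Subgroup.center ↥(S : Subgroup G))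
    obtain ⟨w, hw⟩ := exists_prime_orderOf_dvd_card' (G := Subgroup.center ↥(S : Subgroup G)) 2
      (by
        obtain ⟨k, hk⟩ := IsPGroup.iff_card.1 (S.2.to_subgroup (Subgroup.center ↥(S : Subgroup G)))
        rcases k with - | k
        · rw [pow_zero] at hk
          haveI := (Nat.card_eq_one_iff_unique.1 hk).1
          exact absurd (Subsingleton.elim z 1) hz1
        · rw [hk]; exact dvd_pow_self 2 k.succ_ne_zero)
    intro e
    have hwm : (((w : ↥(S : Subgroup G)) : G)) ∈ Cfsg.omegaOneCenter 2 (S : Subgroup G) := by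
      refine Cfsg.Agent.OmegaOne.mem (Subgroup.mem_inf.2 ⟨(w : ↥(S : Subgroup G)).2, fun y hy => ?_⟩) ?_
      · exact congrArg Subtype.val (Subgroup.mem_center_iff.1 w.2 ⟨y, hy⟩)
      · have := pow_orderOf_eq_one w
        rw [hw] at this
        simpa using congrArg (fun v : Subgroup.center ↥(S : Subgroup G) => ((v : ↥(S : Subgroup G)) : G)) this
    rw [e, Subgroup.mem_bot] at hwm
    have : w = 1 := Subtype.ext (Subtype.ext hwm)
    rw [this, orderOf_one] at hw
    exact absurd hw (by norm_num)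
  exact Cfsg.Agent.PMinAut.exists_invariant (T := S)
    ⟨hmin, hchar, fun C h1 h2 h3 h4 => hc ⟨C, h1, h2, h3, h4⟩, hz⟩ A hA

end Cfsg.Agent.S3022
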