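import Cfsg.Statements.S3023
import Cfsg.Agent.Lib.LocalEven.CharPAux
import Cfsg.Agent.Lib.LocalEven.Norm

set_option autoImplicit false
open Cfsg

namespace Cfsg.Agent.S3023

/-- Let p be a prime, G a finite group of parabolic characteristic p (every p-local subgroup containing a Sylow p-subgroup of G has characteristic p), S a Sylow p-subgroup of G and G₁ a subnormal subgroup of G. If the centre of S ∩ G₁ is nontrivial and contained in the centre of S, then G₁ has parabolic characteristic p. -/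
theorem result {G : Type*} [Group G] [Finite G] {p : ℕ} [Fact p.Prime] (hG : Cfsg.IsOfParabolicCharacteristic p G) (S : Sylow p G) (G₁ : Subgroup G) (hsn : G₁.IsSubnormal) (hne : ((S : Subgroup G) ⊓ G₁) ⊓ Subgroup.centralizer (((S : Subgroup G) ⊓ G₁ : Subgroup G) : Set G) ≠ ⊥) (hle : ((S : Subgroup G) ⊓ G₁) ⊓ Subgroup.centralizer (((S : Subgroup G) ⊓ G₁ : Subgroup G) : Set G) ≤ (S : Subgroup G) ⊓ Subgroup.centralizer ((S : Subgroup G) : Set G)) : Cfsg.IsOfParabolicCharacteristic p ↥G₁ := by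
  set Q : Subgroup G := (S : Subgroup G) ⊓ G₁ with hQ
  let T : Sylow p ↥G₁ := ⟨Q.subgroupOf G₁,
    (S.isPGroup'.to_le inf_le_left).comap_of_injective G₁.subtype G₁.subtype_injective, fun {R} hR hle' => by
      have h1 := Cfsg.Agent.LENorm.maximal_inf_subnormal S hsn (R.map G₁.subtype) (hR.map _)
        (Subgroup.map_subtype_le _) (fun x hx => ⟨⟨x, (Subgroup.mem_inf.1 hx).2⟩, hle' hx, rfl⟩)
      rw [hQ, ← h1, Subgroup.subgroupOf, Subgroup.comap_map_eq_self_of_injective G₁.subtype_injective]⟩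
  refine LECharP.parabolic_of_centralizers T fun z hzT hzp hzc => ?_
  have hzQ : (z : G) ∈ Q := hzT
  have hzS : (z : G) ∈ (S : Subgroup G) ⊓ Subgroup.centralizer ((S : Subgroup G) : Set G) :=
    hle (Subgroup.mem_inf.2 ⟨hzQ, Subgroup.mem_centralizer_iff.2 fun x hx =>
      congrArg Subtype.val (hzc ⟨x, (Subgroup.mem_inf.1 hx).2⟩ hx)⟩)
  have h1 : CharP.IsCharP p ↥(Subgroup.centralizer ({(z : G)} : Set G)) :=
    LECharP.centralizer_of_parabolic hG S (by rwa [Subgroup.orderOf_coe]) fun x hx =>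
      Subgroup.mem_centralizer_singleton_iff.2 (Subgroup.mem_centralizer_iff.1 (Subgroup.mem_inf.1 hzS).2 x hx)
  have h3 := CharP.isCharP_of_isSubnormal h1
    (hsn.subgroupOf (K := Subgroup.centralizer ({(z : G)} : Set G)))
  refine CharP.isCharP_congr ?_ h3
  let C := Subgroup.centralizer ({(z : G)} : Set G)
  have e1 : ↥(G₁.subgroupOf C) ≃* ↥(C.subgroupOf G₁) :=
    { toFun := fun x => ⟨⟨(x : C), x.2⟩, (x : C).2⟩
      invFun := fun x => ⟨⟨(x : G₁), x.2⟩, (x : G₁).2⟩
      left_inv := fun _ => rfl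
      right_inv := fun _ => rfl
      map_mul' := fun _ _ => rfl }
  refine e1.trans (MulEquiv.subgroupCongr ?_)
  ext x
  simp only [C, Subgroup.mem_subgroupOf, Subgroup.mem_centralizer_singleton_iff]
  exact ⟨fun h => Subtype.ext h, fun h => congrArg Subtype.val h⟩

end Cfsg.Agent.S3023
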