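import Cfsg.Statements.S3027
import Mathlib.Data.Fintype.Lattice
import Mathlib.Data.Set.Finite.Lemmas

set_option autoImplicit false
open Cfsg

namespace Cfsg.Agent.S3027

/-- Let G be a finite group and D a normal subgroup of G such that G/D is perfect (that is, G = G′D). Then among the subnormal subgroups B of G with BD = G there is a least one, and it is normal in G. -/
theorem result {G : Type*} [Group G] [Finite G] (D : Subgroup G) [D.Normal] (hperf : ⁅(⊤ : Subgroup G), (⊤ : Subgroup G)⁆ ⊔ D = ⊤) :
    ∃ B : Subgroup G, B.Normal ∧ B ⊔ D = ⊤ ∧ ∀ B' : Subgroup G, B'.IsSubnormal → B' ⊔ D = ⊤ → B ≤ B' := by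
  classical
  let π := QuotientGroup.mk' D
  have hsup : ∀ B : Subgroup G, B ⊔ D = ⊤ ↔ B.map π = ⊤ := by
    intro B
    rw [← (Subgroup.comap_injective (QuotientGroup.mk'_surjective D)).eq_iff, Subgroup.comap_map_eq,
      QuotientGroup.ker_mk', Subgroup.comap_top]
  have hπ : ⁅(⊤ : Subgroup G), (⊤ : Subgroup G)⁆.map π = ⊤ := (hsup _).1 hperf
  -- two mutually normalised supplements meet in a supplement
  have key : ∀ A B N : Subgroup G, A ≤ N → B ≤ N → N ≤ Subgroup.normalizer (A : Set G) →
      N ≤ Subgroup.normalizer (B : Set G) → A.map π = ⊤ → B.map π = ⊤ → (A ⊓ B).map π = ⊤ := by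
    intro A B N hAN hBN hA hB hAπ hBπ
    have h1 : ⁅A, B⁆ ≤ A ⊓ B := le_inf
      (Subgroup.le_normalizer_iff_commutator_le_left.1 (hBN.trans hA))
      (by rw [Subgroup.commutator_comm]
          exact Subgroup.le_normalizer_iff_commutator_le_left.1 (hAN.trans hB))
    refine top_le_iff.1 (le_trans ?_ (Subgroup.map_mono h1))
    have hq : ⁅(⊤ : Subgroup (G ⧸ D)), (⊤ : Subgroup (G ⧸ D))⁆ = ⊤ := by
      have h := hπ
      rw [Subgroup.map_commutator,
        Subgroup.map_top_of_surjective _ (QuotientGroup.mk'_surjective D)] at h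
      exact h
    rw [Subgroup.map_commutator, hAπ, hBπ, hq]
  have hbase : (⊤ : Subgroup G).Normal ∧ (⊤ : Subgroup G).map π = ⊤ :=
    ⟨inferInstance, Subgroup.map_top_of_surjective _ (QuotientGroup.mk'_surjective D)⟩
  -- every subnormal supplement contains a normal one
  have hmain : ∀ B : Subgroup G, B.IsSubnormal → B.map π = ⊤ →
      ∃ N : Subgroup G, N.Normal ∧ N.map π = ⊤ ∧ N ≤ B := by
    intro B hB
    induction hB with
    | top => exact fun _ => ⟨⊤, hbase.1, hbase.2, le_rfl⟩
    | step H K hle _ hn ih =>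
      intro hH
      obtain ⟨N, hNn, hNπ, hNK⟩ := ih (top_le_iff.1 (hH ▸ Subgroup.map_mono hle))
      have hKH : K ≤ Subgroup.normalizer (H : Set G) :=
        (Subgroup.normal_subgroupOf_iff_le_normalizer hle).1 hn
      have hKN : K ≤ Subgroup.normalizer (N : Set G) := by
        rw [Subgroup.normalizer_eq_top]; exact le_top
      have hHN := key H N K hle hNK hKH hKN hH hNπ
      set M := H ⊓ N with hM
      have hMN : N ≤ Subgroup.normalizer (M : Set G) := by
        intro g hg
        rw [Subgroup.mem_normalizer_iff]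
        intro y
        simp only [hM, Subgroup.mem_inf]
        rw [Subgroup.mem_normalizer_iff.1 (hKH (hNK hg)) y,
          Subgroup.mem_normalizer_iff.1 (Subgroup.le_normalizer hg) y]
      refine ⟨M.normalCore, inferInstance, ?_, (Subgroup.normalCore_le M).trans inf_le_left⟩
      have hconj : ∀ g : G, (M.map (MulAut.conj g).toMonoidHom).map π = ⊤ := by
        intro g
        rw [Subgroup.map_map, show π.comp (MulAut.conj g).toMonoidHom =
          (MulAut.conj (π g)).toMonoidHom.comp π by ext; simp, ← Subgroup.map_map, hHN]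
        exact Subgroup.map_top_of_surjective _ (MulEquiv.surjective _)
      have hfin : ∀ s : Finset G, (N ⊓ s.inf fun g => M.map (MulAut.conj g).toMonoidHom).map π = ⊤ ∧
          N ≤ Subgroup.normalizer ((N ⊓ s.inf fun g => M.map (MulAut.conj g).toMonoidHom : Subgroup G) : Set G) := by
        intro s
        induction s using Finset.induction_on with
        | empty => simp [hNπ, Subgroup.le_normalizer]
        | insert g s _ ih =>
          rw [Finset.inf_insert, show N ⊓ (M.map (MulAut.conj g).toMonoidHom ⊓ s.inf fun g =>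
            M.map (MulAut.conj g).toMonoidHom) = M.map (MulAut.conj g).toMonoidHom ⊓
              (N ⊓ s.inf fun g => M.map (MulAut.conj g).toMonoidHom) by ac_rfl]
          have hgN : M.map (MulAut.conj g).toMonoidHom ≤ N := by
            rintro _ ⟨y, hy, rfl⟩
            exact hNn.conj_mem y hy.2 g
          have hgn : N ≤ Subgroup.normalizer
              ((M.map (MulAut.conj g).toMonoidHom : Subgroup G) : Set G) := by
            have hk : ∀ n ∈ N, ∀ y ∈ M.map (MulAut.conj g).toMonoidHom,
                n * y * n⁻¹ ∈ M.map (MulAut.conj g).toMonoidHom := by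
              rintro n hn _ ⟨y, hy, rfl⟩
              have hn' : g⁻¹ * n * g ∈ N := by simpa using hNn.conj_mem n hn g⁻¹
              refine ⟨(g⁻¹ * n * g) * y * (g⁻¹ * n * g)⁻¹,
                (Subgroup.mem_normalizer_iff.1 (hMN hn') y).1 hy, ?_⟩
              simp [mul_assoc]
            intro n hn
            rw [Subgroup.mem_normalizer_iff]
            refine fun y => ⟨hk n hn y, fun h => ?_⟩
            have := hk n⁻¹ (inv_mem hn) _ h
            simpa [mul_assoc] using this
          refine ⟨key _ _ N hgN inf_le_left hgn ih.2 (hconj g) ih.1, ?_⟩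
          intro n hn
          rw [Subgroup.mem_normalizer_iff]
          intro y
          simp only [Subgroup.mem_inf]
          exact and_congr (Subgroup.mem_normalizer_iff.1 (hgn hn) y)
            (by simpa [Subgroup.mem_inf] using Subgroup.mem_normalizer_iff.1 (ih.2 hn) y)
      have := Fintype.ofFinite G
      refine top_le_iff.1 ((hfin Finset.univ).1 ▸ Subgroup.map_mono ?_)
      intro x hx g
      obtain ⟨y, hy, hyx⟩ : x ∈ M.map (MulAut.conj g⁻¹).toMonoidHom :=
        Finset.inf_le (f := fun g => M.map (MulAut.conj g).toMonoidHom) (Finset.mem_univ g⁻¹) hx.2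
      rw [← hyx]
      simpa [mul_assoc] using hy
  obtain ⟨B, ⟨hBn, hBπ⟩, hBmin⟩ := Set.exists_min_image
    {N : Subgroup G | N.Normal ∧ N.map π = ⊤} (fun N => Nat.card N) (Set.toFinite _) ⟨⊤, hbase⟩
  refine ⟨B, hBn, (hsup B).2 hBπ, fun B' hB' hB'D => ?_⟩
  obtain ⟨N, hNn, hNπ, hNB'⟩ := hmain B' hB' ((hsup B').1 hB'D)
  have h1 := key B N ⊤ le_top le_top (by rw [Subgroup.normalizer_eq_top]) (by rw [Subgroup.normalizer_eq_top])
    hBπ hNπ
  have h2 := hBmin (B ⊓ N) ⟨inferInstance, h1⟩
  have h3 : B ⊓ N = B := Subgroup.eq_of_le_of_card_ge inf_le_left h2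
  exact (h3 ▸ inf_le_right : B ≤ N).trans hNB'

end Cfsg.Agent.S3027
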