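import Cfsg.Statements.S3036
import Cfsg.Agent.Lib.CharP.Product
import Mathlib.Data.Fintype.Lattice
import Mathlib.Data.Set.Finite.Lemmas

set_option autoImplicit false
open Cfsg

namespace Cfsg.Agent.S3036

open scoped Pointwise

/-- Let G be a finite non-abelian simple group and A a proper nontrivial subgroup of G. Then |G| > |A| · |C_G(A)|. In particular |G| > |A|² for every nontrivial abelian subgroup A of G. -/
theorem result {G : Type*} [Group G] [Finite G] [IsSimpleGroup G] (hG : ¬ IsMulCommutative G) (A : Subgroup G) (hA1 : A ≠ ⊥) (hA2 : A ≠ ⊤) : Nat.card A * Nat.card ↥(Subgroup.centralizer (A : Set G)) < Nat.card G := by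
  classical
  by_contra hlt
  push Not at hlt
  change Nat.card G ≤ Product.measure A at hlt
  have hcen : Subgroup.center G = ⊥ := by
    rcases (inferInstance : (Subgroup.center G).Normal).eq_bot_or_eq_top with h | h
    · exact h
    · exact absurd ⟨⟨fun a b => (Subgroup.mem_center_iff.1 (h ▸ Subgroup.mem_top b) a)⟩⟩ hG
  have hbot : Product.measure (⊥ : Subgroup G) = Nat.card G := by
    have : Subgroup.centralizer ((⊥ : Subgroup G) : Set G) = ⊤ := by
      rw [Subgroup.centralizer_eq_top_iff_subset]; simp
    simp [Product.measure, this]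
  have htop : Product.measure (⊤ : Subgroup G) = Nat.card G := by
    have : Subgroup.centralizer ((⊤ : Subgroup G) : Set G) = ⊥ := by
      rw [Subgroup.coe_top, Subgroup.centralizer_univ, hcen]
    simp [Product.measure, Subgroup.centralizer_univ, hcen]
  have : Nonempty (Subgroup G) := ⟨⊥⟩
  obtain ⟨M₀, hM₀⟩ := Finite.exists_max (fun H : Subgroup G => Product.measure H)
  set μ := Product.measure M₀ with hμ
  let S : Set (Subgroup G) := {H | Product.measure H = μ ∧ H ≠ ⊤}
  have hSne : S.Nonempty := by
    by_cases hAμ : Product.measure A = μ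
    · exact ⟨A, hAμ, hA2⟩
    · refine ⟨M₀, hμ.symm, fun h => hAμ ?_⟩
      have h1 := hM₀ A
      rw [hμ, h, htop] at *
      omega
  obtain ⟨M, ⟨hMμ, hMtop⟩, hMmax⟩ :=
    Set.exists_max_image S (fun H => Nat.card H) S.toFinite hSne
  have hMn : M.Normal := by
    have hconj : ∀ g : G, M.map (MulAut.conj g).toMonoidHom ≤ M := by
      intro g
      set M' := M.map (MulAut.conj g).toMonoidHom with hM'
      have h1 : Product.measure M' = μ := (Product.measure_map_conj M g).trans hMμ
      have h2 := Product.measure_mul_le M M'
      rw [hMμ, h1] at h2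
      have h3 : Product.measure (M ⊔ M') = μ := by
        refine le_antisymm (hM₀ _) ?_
        by_contra h4
        push Not at h4
        have h5 : Product.measure (M ⊓ M') ≤ μ := hM₀ _
        have h6 : μ * μ ≤ Product.measure (M ⊔ M') * μ := h2.trans (Nat.mul_le_mul_left _ h5)
        have h7 : 0 < μ := by
          have := hM₀ ⊥
          rw [hbot] at this
          exact lt_of_lt_of_le Nat.card_pos this
        exact absurd (Nat.le_of_mul_le_mul_right h6 h7) (not_le.2 h4)
      by_cases htop' : M ⊔ M' = ⊤
      · exfalso
        have hset : ((M ⊔ M' : Subgroup G) : Set G) = (M : Set G) * (M' : Set G) := by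
          refine Product.coe_sup_eq_mul M M' ?_
          have hC1 := Product.card_mul_card_le (Subgroup.centralizer (M : Set G))
            (Subgroup.centralizer (M' : Set G))
          have hC2 := Nat.le_of_dvd Nat.card_pos
            (Subgroup.card_dvd_of_le (Product.centralizer_sup_le M M'))
          have h5 : Product.measure (M ⊓ M') ≤ μ := hM₀ _
          have h6 : Product.measure (M ⊔ M') * Product.measure (M ⊓ M') ≤
              Product.measure M * Product.measure M' := by
            rw [h3, hMμ, h1]; exact Nat.mul_le_mul_left _ h5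
          unfold Product.measure at h6
          rw [Product.centralizer_sup] at h6
          set a := Nat.card M
          set a' := Nat.card M'
          set b := Nat.card (Subgroup.centralizer (M : Set G))
          set b' := Nat.card (Subgroup.centralizer (M' : Set G))
          set c := Nat.card (M ⊔ M' : Subgroup G)
          set d := Nat.card (M ⊓ M' : Subgroup G)
          set e := Nat.card (Subgroup.centralizer (M : Set G) ⊓
            Subgroup.centralizer (M' : Set G) : Subgroup G)
          set f := Nat.card (Subgroup.centralizer ((M ⊓ M' : Subgroup G) : Set G))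
          have h8 : b * b' ≤ f * e := hC1.trans (Nat.mul_le_mul_right _ hC2)
          have h9 : (c * d) * (b * b') ≤ (a * a') * (b * b') :=
            calc (c * d) * (b * b') ≤ (c * d) * (f * e) := Nat.mul_le_mul_left _ h8
              _ = c * e * (d * f) := by ring
              _ ≤ a * b * (a' * b') := h6
              _ = (a * a') * (b * b') := by ring
          exact Nat.le_of_mul_le_mul_right h9 (Nat.mul_pos Nat.card_pos Nat.card_pos)
        have hg : g⁻¹ ∈ ((M ⊔ M' : Subgroup G) : Set G) := by rw [htop']; trivial
        rw [hset] at hg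
        obtain ⟨a, ha, _, ⟨b, hb, rfl⟩, hab⟩ := hg
        have hgM : g ∈ M := by
          have h10 : g = a⁻¹ * b⁻¹ := by
            have : a * (g * b * g⁻¹) = g⁻¹ := hab
            calc g = a⁻¹ * (a * (g * b * g⁻¹)) * g * b⁻¹ := by group
              _ = a⁻¹ * b⁻¹ := by rw [this]; group
          rw [h10]; exact mul_mem (inv_mem ha) (inv_mem hb)
        refine hMtop (top_le_iff.1 (htop' ▸ sup_le le_rfl ?_))
        rintro _ ⟨b, hb, rfl⟩
        simpa using mul_mem (mul_mem hgM hb) (inv_mem hgM)
      · have h5 := hMmax _ ⟨h3, htop'⟩
        have h6 : M ⊔ M' = M :=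
          (Subgroup.eq_of_le_of_card_ge le_sup_left h5).symm
        exact h6 ▸ le_sup_right
    exact ⟨fun x hx g => hconj g ⟨x, hx, by simp⟩⟩
  rcases hMn.eq_bot_or_eq_top with h | h
  · by_cases hAμ : Product.measure A = μ
    · have h1 := hMmax A ⟨hAμ, hA2⟩
      rw [h, Subgroup.card_bot] at h1
      exact hA1 (Subgroup.eq_bot_of_card_le A h1)
    · rw [h, hbot] at hMμ
      have := hM₀ A
      omega
  · exact hMtop h

end Cfsg.Agent.S3036
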