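import Cfsg.Statements.S3037
import Cfsg.Agent.Lib.CharP.Product

set_option autoImplicit false
open Cfsg

namespace Cfsg.Agent.S3037

/-- Let V and G be subgroups of a finite group with V an elementary abelian p-group (p prime) on which G acts faithfully and irreducibly by conjugation: G normalizes V, G ∩ C(V) = 1, and the only subgroups of V normalized by G are 1 and V. If for some nontrivial subgroup A of G and some real α > 0 one has |V| ≤ |A|^α · |C_V(A)|, then |V| ≤ |G|^α. -/
theorem result {X : Type*} [Group X] [Finite X] {p : ℕ} [Fact p.Prime] (V G : Subgroup X) (hV : Cfsg.IsElementaryAbelian p V)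
    (hGV : G ≤ Subgroup.normalizer (V : Set X)) (hfaith : G ⊓ Subgroup.centralizer (V : Set X) = ⊥)
    (hirr : ∀ W : Subgroup X, W ≤ V → G ≤ Subgroup.normalizer (W : Set X) → W = ⊥ ∨ W = V)
    (A : Subgroup X) (hA : A ≤ G) (hA1 : A ≠ ⊥) (α : ℝ) (hα : 0 < α)
    (hbig : (Nat.card V : ℝ) ≤ (Nat.card A : ℝ) ^ α * (Nat.card ↥(V ⊓ Subgroup.centralizer (A : Set X)) : ℝ)) :
    (Nat.card V : ℝ) ≤ (Nat.card G : ℝ) ^ α := by
  classical
  let C : Subgroup X → Subgroup X := fun H => V ⊓ Subgroup.centralizer (H : Set X)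
  let f : Subgroup X → ℝ := fun H => (Nat.card H : ℝ) ^ α * (Nat.card (C H) : ℝ)
  have hfpos : ∀ H, 0 < f H := fun H => mul_pos (Real.rpow_pos_of_pos (by exact_mod_cast Nat.card_pos) _)
    (by exact_mod_cast Nat.card_pos)
  have hsub : ∀ H K : Subgroup X, f H * f K ≤ f (H ⊔ K) * f (H ⊓ K) := by
    intro H K
    have h1 := Product.card_mul_card_le H K
    have h2 : Nat.card (C H) * Nat.card (C K) ≤ Nat.card (C (H ⊓ K)) * Nat.card (C (H ⊔ K)) := by
      refine (Product.card_mul_card_le (C H) (C K)).trans ?_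
      refine Nat.mul_le_mul (Nat.le_of_dvd Nat.card_pos (Subgroup.card_dvd_of_le ?_))
        (Nat.le_of_dvd Nat.card_pos (Subgroup.card_dvd_of_le ?_))
      · exact sup_le (inf_le_inf_left _ ((le_sup_left).trans (Product.centralizer_sup_le H K)))
          (inf_le_inf_left _ ((le_sup_right).trans (Product.centralizer_sup_le H K)))
      · rw [show C (H ⊔ K) = V ⊓ (Subgroup.centralizer (H : Set X) ⊓ Subgroup.centralizer (K : Set X))
            from congrArg (V ⊓ ·) (Product.centralizer_sup H K)]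
        exact le_inf (inf_le_left.trans inf_le_left)
          (le_inf (inf_le_left.trans inf_le_right) (inf_le_right.trans inf_le_right))
    have h3 : ((Nat.card H : ℝ) * Nat.card K) ^ α ≤
        ((Nat.card (H ⊔ K : Subgroup X) : ℝ) * Nat.card (H ⊓ K : Subgroup X)) ^ α :=
      Real.rpow_le_rpow (by positivity) (by exact_mod_cast h1) hα.le
    rw [Real.mul_rpow (by positivity) (by positivity), Real.mul_rpow (by positivity) (by positivity)] at h3
    have h4 : (Nat.card (C H) : ℝ) * Nat.card (C K) ≤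
        Nat.card (C (H ⊓ K)) * Nat.card (C (H ⊔ K)) := by exact_mod_cast h2
    calc f H * f K = ((Nat.card H : ℝ) ^ α * (Nat.card K : ℝ) ^ α) *
          ((Nat.card (C H) : ℝ) * Nat.card (C K)) := by ring
      _ ≤ ((Nat.card (H ⊔ K : Subgroup X) : ℝ) ^ α * (Nat.card (H ⊓ K : Subgroup X) : ℝ) ^ α) *
          ((Nat.card (C (H ⊓ K)) : ℝ) * Nat.card (C (H ⊔ K))) :=
          mul_le_mul h3 h4 (by positivity) (by positivity)
      _ = f (H ⊔ K) * f (H ⊓ K) := by ring
  have : Nonempty {H : Subgroup X // H ≤ G} := ⟨⟨⊥, bot_le⟩⟩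
  obtain ⟨⟨M₀, hM₀G⟩, hM₀⟩ := Finite.exists_max (fun H : {H : Subgroup X // H ≤ G} => f H.1)
  obtain ⟨M, ⟨hMG, hMf⟩, hMmax⟩ := Set.exists_max_image {H : Subgroup X | H ≤ G ∧ f H = f M₀}
    (fun H => Nat.card H) (Set.toFinite _) ⟨M₀, hM₀G, rfl⟩
  have hmax : ∀ H, H ≤ G → f H ≤ f M := fun H hH => hMf ▸ hM₀ ⟨H, hH⟩
  have hconjC : ∀ g ∈ G, ∀ H : Subgroup X,
      C (H.map (MulAut.conj g).toMonoidHom) = (C H).map (MulAut.conj g).toMonoidHom := by
    intro g hg H
    show V ⊓ Subgroup.centralizer _ = (V ⊓ Subgroup.centralizer (H : Set X)).map _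
    rw [Product.centralizer_map_conj, Subgroup.map_inf _ _ _ (MulEquiv.injective _)]
    congr 1
    ext x
    constructor
    · intro hx
      exact ⟨g⁻¹ * x * g, (Subgroup.mem_normalizer_iff.1 (hGV hg) _).2 (by simpa [mul_assoc] using hx),
        by simp [mul_assoc]⟩
    · rintro ⟨y, hy, rfl⟩
      exact (Subgroup.mem_normalizer_iff.1 (hGV hg) y).1 hy
  have hinv : ∀ g ∈ G, M.map (MulAut.conj g).toMonoidHom ≤ M := by
    intro g hg
    set M' := M.map (MulAut.conj g).toMonoidHom with hM'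
    have hM'G : M' ≤ G := by
      rintro _ ⟨y, hy, rfl⟩
      simpa using mul_mem (mul_mem hg (hMG hy)) (inv_mem hg)
    have h1 : f M' = f M := by
      show (Nat.card M' : ℝ) ^ α * (Nat.card (C M') : ℝ) = _
      rw [hM', hconjC g hg, Product.card_map_conj, Product.card_map_conj]
    have h2 := hsub M M'
    rw [h1] at h2
    have hle : M ⊔ M' ≤ G := sup_le hMG hM'G
    have h3 : f (M ⊔ M') = f M := by
      refine le_antisymm (hmax _ hle) ?_
      have h4 := hmax (M ⊓ M') (inf_le_left.trans hMG)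
      nlinarith [hfpos M, hfpos (M ⊔ M'), hfpos (M ⊓ M')]
    have h5 := hMmax (M ⊔ M') ⟨hle, h3.trans hMf⟩
    exact (Subgroup.eq_of_le_of_card_ge le_sup_left h5) ▸ le_sup_right
  have hfA : (Nat.card V : ℝ) ≤ f A := hbig
  have hM1 : M ≠ ⊥ := by
    intro h
    have hfbot : f M = (Nat.card V : ℝ) := by
      have hC : C ⊥ = V := by
        show V ⊓ _ = V
        rw [Subgroup.centralizer_eq_top_iff_subset.2 (by simp), inf_top_eq]
      simp [f, h, hC]
    have h1 : f A = f M := le_antisymm (hmax A hA) (hfbot ▸ hfA)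
    have h2 := hMmax A ⟨hA, h1.trans hMf⟩
    rw [h, Subgroup.card_bot] at h2
    exact hA1 (Subgroup.eq_bot_of_card_le A h2)
  have hnorm : ∀ g ∈ G, M.map (MulAut.conj g).toMonoidHom = M := fun g hg =>
    Subgroup.eq_of_le_of_card_ge (hinv g hg) (Product.card_map_conj M g).ge
  have hCM : C M = ⊥ := by
    have hn : G ≤ Subgroup.normalizer (C M : Set X) := by
      have key : ∀ g ∈ G, ∀ y ∈ C M, g * y * g⁻¹ ∈ C M := by
        intro g hg y hy
        have h1 := hconjC g hg M
        rw [hnorm g hg] at h1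
        rw [h1]
        exact ⟨y, hy, rfl⟩
      intro g hg
      rw [Subgroup.mem_normalizer_iff]
      refine fun y => ⟨key g hg y, fun h => ?_⟩
      have := key g⁻¹ (inv_mem hg) _ h
      simpa [mul_assoc] using this
    rcases hirr (C M) inf_le_left hn with h | h
    · exact h
    · exfalso
      refine hM1 (le_bot_iff.1 (hfaith ▸ le_inf hMG ?_))
      exact Subgroup.le_centralizer_iff.1 (h ▸ inf_le_right : V ≤ Subgroup.centralizer (M : Set X))
  calc (Nat.card V : ℝ) ≤ f A := hfA
    _ ≤ f M := hmax A hA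
    _ = (Nat.card M : ℝ) ^ α := by simp [f, hCM]
    _ ≤ (Nat.card G : ℝ) ^ α := Real.rpow_le_rpow (by positivity)
        (by exact_mod_cast Nat.le_of_dvd Nat.card_pos (Subgroup.card_dvd_of_le hMG)) hα.le

end Cfsg.Agent.S3037
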