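import Cfsg.Statements.S3040
import Cfsg.Agent.Lib.FpfS3.Solv

set_option autoImplicit false
open Cfsg

namespace Cfsg.Agent.S3040

set_option synthInstance.maxSize 5000 in
/-- An element of order three of `S₃` has an inverting element, and the two generate. -/
theorem exists_gen : ∀ a : Equiv.Perm (Fin 3), a * a * a = 1 → a ≠ 1 →
    ∃ t : Equiv.Perm (Fin 3), t * t = 1 ∧ t * a = a * a * t ∧ ∀ s : Equiv.Perm (Fin 3),
      s = 1 ∨ s = a ∨ s = a * a ∨ s = t ∨ s = a * t ∨ s = a * a * t := by decide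

/-- Let G be a finite group of even order coprime to 3, and let Σ be a group of automorphisms of G isomorphic to the symmetric group of degree 3 that is fixed-point-free (only the identity of G is fixed by every element of Σ). Then G is solvable, O_{2′,2}(G) (the preimage in G of O₂(G/O(G))) has odd index in G, and G = O_{2′,2}(G) C_G(σ) for every element σ of Σ of order 3; that is, O₂(G/O(G)) is a Sylow 2-subgroup of G/O(G) and G/O(G) = O₂(G/O(G)) C_{G/O(G)}(σ). -/
theorem result {G : Type*} [Group G] [Finite G] (heven : 2 ∣ Nat.card G) (h3 : ¬ 3 ∣ Nat.card G)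
    (Sig : Subgroup (MulAut G)) (hS3 : Nonempty (↥Sig ≃* Equiv.Perm (Fin 3))) (hfpf : ∀ g : G, (∀ σ ∈ Sig, σ g = g) → g = 1) :
    Group.IsSolvable G ∧ ¬ 2 ∣ (Cfsg.pPrimePCore 2 G).index ∧ ∀ σ ∈ Sig, orderOf σ = 3 →
      Cfsg.pPrimePCore 2 G ⊔ Subgroup.closure {g : G | σ g = g} = ⊤ := by
  obtain ⟨e⟩ := hS3
  -- every element of order three yields an action
  have key : ∀ σ : ↥Sig, σ * σ * σ = 1 → σ ≠ 1 →
      ∃ D : S3Fpf.Act G, D.α = (σ : MulAut G) ∧ FpfS3.Good D := by
    intro σ hσ hσ1
    obtain ⟨t, ht2, hta, hall⟩ := exists_gen (e σ) (by rw [← map_mul, ← map_mul, hσ, map_one])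
      fun h => hσ1 (e.injective (h.trans (map_one e).symm))
    have hτ2 : e.symm t * e.symm t = 1 := by rw [← map_mul, ht2, map_one]
    have hτσ : e.symm t * σ = σ * σ * e.symm t := e.injective (by simp [hta])
    let D : S3Fpf.Act G :=
      { α := (σ : MulAut G)
        τ := (e.symm t : ↥Sig)
        α3 := fun x => by
          have h := DFunLike.congr_fun (congrArg Subtype.val hσ) x
          simpa [MulAut.mul_apply] using h
        τ2 := fun x => by
          have h := DFunLike.congr_fun (congrArg Subtype.val hτ2) x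
          simpa [MulAut.mul_apply] using h
        rel := fun x => by
          have h := DFunLike.congr_fun (congrArg Subtype.val hτσ) x
          simpa [MulAut.mul_apply] using h
        fpf := fun x h1 h2 => hfpf x fun s hs => by
          have hs' : (⟨s, hs⟩ : ↥Sig) = e.symm (e ⟨s, hs⟩) := (e.symm_apply_apply _).symm
          have hsv : s = ((e.symm (e ⟨s, hs⟩) : ↥Sig) : MulAut G) := congrArg Subtype.val hs'
          rw [hsv]
          rcases hall (e ⟨s, hs⟩) with h | h | h | h | h | h <;>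
            simp [h, map_mul, MulAut.mul_apply, h1, h2] }
    exact ⟨D, rfl, FpfS3.good G D h3⟩
  haveI := PPrimePC.pPrimePCore_normal (G := G) (p := 2)
  obtain ⟨a, ha, ha1⟩ : ∃ a : Equiv.Perm (Fin 3), a * a * a = 1 ∧ a ≠ 1 :=
    ⟨Equiv.swap 0 1 * Equiv.swap 1 2, by decide, by decide⟩
  obtain ⟨D, -, hD⟩ := key (e.symm a) (by rw [← map_mul, ← map_mul, ha, map_one])
    fun h => ha1 (by simpa using congrArg e h)
  refine ⟨hD.1, fun h2 => ?_, fun σ hσ hord => ?_⟩
  · haveI : Fact (Nat.Prime 2) := ⟨Nat.prime_two⟩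
    rw [Subgroup.index_eq_card] at h2
    obtain ⟨q, hq⟩ := exists_prime_orderOf_dvd_card' 2 h2
    obtain ⟨g, rfl⟩ := QuotientGroup.mk'_surjective (Cfsg.pPrimePCore 2 G) q
    obtain ⟨k, hk, c, hc, rfl⟩ := hD.2 g
    rw [map_mul, show QuotientGroup.mk' (Cfsg.pPrimePCore 2 G) k = 1 from
      (QuotientGroup.eq_one_iff k).2 hk, one_mul] at hq
    have := (FpfS3.fixed_odd D hc).of_dvd_nat
      (hq ▸ orderOf_map_dvd (QuotientGroup.mk' (Cfsg.pPrimePCore 2 G)) c)
    exact absurd this (by decide)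
  · have h3' : σ * σ * σ = 1 := by
      rw [show σ * σ * σ = σ ^ 3 by rw [pow_succ, pow_succ, pow_one], ← hord, pow_orderOf_eq_one]
    obtain ⟨D', hα, hD'⟩ := key ⟨σ, hσ⟩ (Subtype.ext h3') fun h => by
      have h1 : σ = 1 := congrArg Subtype.val h
      rw [h1, orderOf_one] at hord
      omega
    rw [eq_top_iff]
    intro g _
    obtain ⟨k, hk, c, hc, rfl⟩ := hD'.2 g
    rw [hα] at hc
    exact mul_mem (Subgroup.mem_sup_left hk) (Subgroup.mem_sup_right (Subgroup.subset_closure hc))

end Cfsg.Agent.S3040
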