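import Cfsg.Statements.S3043
import Cfsg.Agent.Lib.TIInv.Affine
import Cfsg.Agent.Lib.TIInv.Split
-- import your own Cfsg.Agent.* helpers here

set_option autoImplicit false
open Cfsg

namespace Cfsg.Agent.S3043

/-- Let M be a nontrivial subgroup of a finite group G meeting each of its other conjugates trivially, with N_G(M) = M · C_{N_G(M)}(z) for some involution z ∈ N_G(M), and with C_G(x) of odd order for every nontrivial x ∈ M. Then one of the following holds: M is normal in G; the number of involutions of G is at most |G : M|; G is isomorphic to PGL₂(F) or to PSL₂(F) for a finite field F with |F| = |M|, M is an elementary abelian p-group for the characteristic p of F, and |F| ≡ 1 (mod 4) in the PSL₂ case; G is isomorphic to PSL₂(F) with |F| = 2^e, e > 1, and M is cyclic of order 2^e + 1; or for some d ≥ 1, G has an elementary abelian normal subgroup of order 2^{2d} complemented by N_G(M), and N_G(M) is dihedral of order 2(2^d + 1). -/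
theorem result {G : Type*} [Group G] [Finite G] (M : Subgroup G) (hM1 : M ≠ ⊥)
    (hTI : ∀ g : G, M ⊓ M.map (MulAut.conj g).toMonoidHom ≠ ⊥ → M.map (MulAut.conj g).toMonoidHom = M)
    (z : G) (hz : orderOf z = 2) (hzN : z ∈ Subgroup.normalizer (M : Set G))
    (hfac : M ⊔ (Subgroup.normalizer (M : Set G) ⊓ Subgroup.centralizer ({z} : Set G)) = Subgroup.normalizer (M : Set G))
    (hodd : ∀ x ∈ M, x ≠ 1 → Odd (Nat.card ↥(Subgroup.centralizer ({x} : Set G)))) :
    M.Normal ∨
    Nat.card {g : G // orderOf g = 2} ≤ M.index ∨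
    (∃ (F : Type) (_ : Field F) (_ : Fintype F) (p : ℕ) (_ : Fact p.Prime) (_ : CharP F p), Fintype.card F = Nat.card M ∧ Cfsg.IsElementaryAbelian p M ∧
        (Nonempty (G ≃* (GL (Fin 2) F ⧸ Subgroup.center (GL (Fin 2) F))) ∨
         (Fintype.card F % 4 = 1 ∧ Nonempty (G ≃* Matrix.ProjectiveSpecialLinearGroup (Fin 2) F)))) ∨
    (∃ (F : Type) (_ : Field F) (_ : Fintype F) (e : ℕ), 1 < e ∧ Fintype.card F = 2 ^ e ∧ IsCyclic ↥M ∧ Nat.card M = 2 ^ e + 1 ∧
        Nonempty (G ≃* Matrix.ProjectiveSpecialLinearGroup (Fin 2) F)) ∨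
    (∃ (d : ℕ) (E : Subgroup G), 1 ≤ d ∧ E.Normal ∧ Cfsg.IsElementaryAbelian 2 E ∧ Nat.card E = 2 ^ (2 * d) ∧
        E ⊓ Subgroup.normalizer (M : Set G) = ⊥ ∧ E ⊔ Subgroup.normalizer (M : Set G) = ⊤ ∧
        Nonempty (↥(Subgroup.normalizer (M : Set G)) ≃* DihedralGroup (2 ^ d + 1))) := by
  classical
  by_cases hn : M.Normal
  · exact Or.inl hn
  by_cases hbig : Nat.card {g : G // orderOf g = 2} ≤ M.index
  · exact Or.inr (Or.inl hbig)
  have h : Cfsg.Agent.TIInv.Hyp M z := ⟨hM1, hTI, hz, hzN, hfac, hodd, hn, not_le.1 hbig⟩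
  refine Or.inr (Or.inr ?_)
  by_cases hA : Nat.card (Cfsg.Agent.TIInv.Cz z) = 2 * Nat.card h.C
  · by_cases hR : ∀ R : Subgroup G, R.Normal → MulAction.IsPretransitive R (G ⧸ h.N) →
        ∃ p : G ⧸ h.N, MulAction.stabilizer R p ≠ ⊥
    · exact Or.inl (h.linear hA hR)
    · push Not at hR
      obtain ⟨R, hRn, hRt, hRs⟩ := hR
      exact Or.inr (Or.inr (h.affine_four hA R hRn hRt hRs))
  · -- the centralizer of `z` has exponent two
    obtain ⟨v, hv, hvN⟩ := h.exists_out
    obtain ⟨w, hw, hwN, hvwN⟩ : ∃ w : G, w * z = z * w ∧ w ∉ h.N ∧ v * w ∉ h.N := by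
      by_contra hall
      push Not at hall
      refine hA ?_
      let φ : ↥(Cfsg.Agent.TIInv.Cz z) → Bool × ↥h.C := fun x =>
        if hx : (x : G) ∈ h.N then (false, ⟨x, h.mem_C_of_N (Cfsg.Agent.TIInv.mem_Cz.1 x.2) hx⟩)
        else (true, ⟨v * x, h.mem_C_of_N ((Commute.mul_left (hv : Commute v z)
          (Cfsg.Agent.TIInv.mem_Cz.1 x.2 : Commute (x : G) z)).eq) (hall x (Cfsg.Agent.TIInv.mem_Cz.1 x.2) hx)⟩)
      have hφ : Function.Bijective φ := by
        constructor
        · intro x y e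
          by_cases hx : (x : G) ∈ h.N <;> by_cases hy : (y : G) ∈ h.N <;>
            simp [φ, hx, hy] at e
          · exact e
          · exact e
        · rintro ⟨b, c⟩
          obtain ⟨hcN, hcz⟩ := h.mem_C.1 c.2
          cases b
          · refine ⟨⟨c, Cfsg.Agent.TIInv.mem_Cz.2 hcz⟩, ?_⟩
            simp [φ, hcN]
          · have hmem : v⁻¹ * (c : G) ∉ h.N := fun hh => hvN (by
              have := mul_mem hcN (inv_mem hh)
              rwa [mul_inv_rev, inv_inv, mul_inv_cancel_left] at this)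
            refine ⟨⟨v⁻¹ * c, Cfsg.Agent.TIInv.mem_Cz.2 (Commute.mul_left
              (Commute.inv_left (hv : Commute v z)) (hcz : Commute (c : G) z)).eq⟩, ?_⟩
            simp [φ, hmem]
      rw [Nat.card_eq_of_bijective φ hφ, Nat.card_prod, Nat.card_eq_fintype_card (α := Bool), Fintype.card_bool]
    have hCsq : ∀ c ∈ h.C, c * c = 1 := by
      intro c hc
      have hz' : (v * w) * z = z * (v * w) := (Commute.mul_left (hv : Commute v z) (hw : Commute w z)).eq
      have e1 := h.invert_C hz' hvwN hc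
      rw [show v * w * c * (v * w)⁻¹ = v * (w * c * w⁻¹) * v⁻¹ by group, h.invert_C hw hwN hc,
        h.invert_C hv hvN (inv_mem hc), inv_inv] at e1
      nth_rewrite 2 [e1]
      exact mul_inv_cancel c
    have hC : ∀ c ∈ h.C, c = 1 ∨ c = z := by
      intro c hc
      by_cases h1 : c = 1
      · exact Or.inl h1
      · exact Or.inr (h.invol_C hc (Cfsg.Agent.Invol.order_two_of_sq (hCsq c hc) h1))
    have hE : ∀ x ∈ Cfsg.Agent.TIInv.Cz z, x * x = 1 := by
      intro x hx
      by_cases hxN : x ∈ h.N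
      · exact hCsq x (h.mem_C_of_N (Cfsg.Agent.TIInv.mem_Cz.1 hx) hxN)
      · exact Cfsg.Agent.Invol.mul_self (h.invol_out (Cfsg.Agent.TIInv.mem_Cz.1 hx) hxN)
    have hq : 5 ≤ Nat.card (Cfsg.Agent.TIInv.Cz z) := by
      have hvw : v ≠ w := fun e => hvwN (by
        rw [e, Cfsg.Agent.Invol.mul_self (h.invol_out hw hwN)]; exact one_mem _)
      have hwv : (v * w) * z = z * (v * w) := (Commute.mul_left (hv : Commute v z) (hw : Commute w z)).eq
      have hvzN : v * z ∉ h.N := fun hh => hvN (by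
        have := mul_mem hh h.hzN
        rwa [mul_assoc, h.z_sq, mul_one] at this)
      let ι : Fin 5 → ↥(Cfsg.Agent.TIInv.Cz z) := ![1, ⟨z, Cfsg.Agent.TIInv.mem_Cz.2 rfl⟩,
        ⟨v, Cfsg.Agent.TIInv.mem_Cz.2 hv⟩, ⟨w, Cfsg.Agent.TIInv.mem_Cz.2 hw⟩,
        ⟨v * w, Cfsg.Agent.TIInv.mem_Cz.2 hwv⟩]
      have hz1 := Cfsg.Agent.Invol.ne_one h.hz
      have hv1 : v ≠ 1 := fun e => hvN (e ▸ one_mem _)
      have hw1 : w ≠ 1 := fun e => hwN (e ▸ one_mem _)
      have hvw1 : v * w ≠ 1 := fun e => hvwN (e ▸ one_mem _)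
      have hvz : v ≠ z := fun e => hvN (e ▸ h.hzN)
      have hwz : w ≠ z := fun e => hwN (e ▸ h.hzN)
      have hvwz : v * w ≠ z := fun e => hvwN (e ▸ h.hzN)
      have hι : Function.Injective ι := by
        intro i j e
        have e' : ((ι i : ↥(Cfsg.Agent.TIInv.Cz z)) : G) = ((ι j : ↥(Cfsg.Agent.TIInv.Cz z)) : G) :=
          congrArg Subtype.val e
        fin_cases i <;> fin_cases j <;>
          simp [ι, hz1, hv1, hw1, hvw1, hvz, hwz, hvwz, hvw, hvw.symm, hz1.symm, hv1.symm, hw1.symm, hvw1.symm,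
            hvz.symm, hwz.symm, hvwz.symm] at e' ⊢
      have := Nat.card_le_card_of_injective ι hι
      rwa [Nat.card_fin] at this
    obtain ⟨n, hn2, hn, ⟨hm, hs⟩ | ⟨hm, hs⟩⟩ := h.arith hC hq hE
    · exact Or.inr (Or.inl (h.psl hC hq hE hn2 hn hm hs))
    · exact Or.inr (Or.inr (h.affine hC hq hE hn2 hn hm hs))

end Cfsg.Agent.S3043
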