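import Cfsg.Statements.S3044
import Cfsg.Agent.Lib.LocalEven.IsoPMinG

set_option autoImplicit false
open Cfsg

namespace Cfsg.Agent.S3044

/-- Let G be a finite group, p a prime, S a Sylow p-subgroup of G and P a p-minimal subgroup of G containing S (S is not normal in P and lies in exactly one maximal subgroup of P). Let L be the subgroup generated by N_G(S) and all p-minimal subgroups of G containing S other than P, and suppose P is isolated: O_p(L) is not contained in O_p(P). Put Y for the normal closure of O^p(P) in G. Then G = YL; P is again isolated in the subgroup YS (the subgroup L₀ generated by N_{YS}(S) and the p-minimal subgroups of YS containing S other than P has O_p(L₀) not contained in O_p(P)); and either Y = O^p(P), or p divides |Y/O_p(Y)|, Y/O_p(Y) is generated by its components (a central product of quasisimple groups), and S permutes these components transitively by conjugation. -/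
theorem result {G : Type*} [Group G] [Finite G] {p : ℕ} [Fact p.Prime] (S : Sylow p G) (P : Subgroup G) (hSP : (S : Subgroup G) ≤ P) (hPmin : Cfsg.IsPMinimal p ↥P)
    (L Y : Subgroup G)
    (hL : L = Subgroup.normalizer ((S : Subgroup G) : Set G) ⊔ ⨆ P' : {P' : Subgroup G // (S : Subgroup G) ≤ P' ∧ Cfsg.IsPMinimal p ↥P' ∧ P' ≠ P}, (P' : Subgroup G))
    (hiso : ¬ (Cfsg.pCore p ↥L).map L.subtype ≤ (Cfsg.pCore p ↥P).map P.subtype)
    (hY : Y = Subgroup.normalClosure (((Cfsg.pResidual p ↥P).map P.subtype : Subgroup G) : Set G)) :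
    Y ⊔ L = ⊤ ∧
    ¬ (Cfsg.pCore p ↥((Subgroup.normalizer ((S : Subgroup G) : Set G) ⊓ (Y ⊔ (S : Subgroup G))) ⊔
          ⨆ P' : {P' : Subgroup G // (S : Subgroup G) ≤ P' ∧ P' ≤ Y ⊔ (S : Subgroup G) ∧ Cfsg.IsPMinimal p ↥P' ∧ P' ≠ P}, (P' : Subgroup G))).map
        (Subgroup.subtype _) ≤ (Cfsg.pCore p ↥P).map P.subtype ∧
    ((Cfsg.pResidual p ↥P).map P.subtype = Y ∨
     ∃ _ : (Cfsg.pCore p ↥Y).Normal,
       p ∣ Nat.card (↥Y ⧸ Cfsg.pCore p ↥Y) ∧ Cfsg.layer (↥Y ⧸ Cfsg.pCore p ↥Y) = ⊤ ∧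
       ∀ K₁ K₂ : Subgroup (↥Y ⧸ Cfsg.pCore p ↥Y), Cfsg.IsComponent K₁ → Cfsg.IsComponent K₂ →
         ∃ s ∈ (S : Subgroup G), ((K₂.comap (QuotientGroup.mk' (Cfsg.pCore p ↥Y))).map Y.subtype) = (((K₁.comap (QuotientGroup.mk' (Cfsg.pCore p ↥Y))).map Y.subtype)).map (MulAut.conj s).toMonoidHom) := by
  open Cfsg.Agent in
  have d : LEIsoPMin.Data S P L Y := ⟨hSP, hPmin, hL, hiso, hY⟩
  refine ⟨d.Y_sup_L, d.isolated, ?_⟩
  haveI hWn : ((Cfsg.pCore p ↥Y).map Y.subtype).Normal := d.W_normal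
  have hnY : (Cfsg.pCore p ↥Y).Normal := Cfsg.pCore_normal p ↥Y
  have hset := d.setting _ (Cfsg.Agent.LEBasic.pCoreMap_isPGroup Y) d.le_W
  rcases hset.dichotomy with ⟨t, -, -, -, -, hle⟩ | ⟨hpd, -, hlayer, htrans⟩
  · exact Or.inl (d.E_eq_Y _ (Cfsg.Agent.LEBasic.pCoreMap_isPGroup Y) hle)
  refine Or.inr ⟨hnY, ?_, ?_, ?_⟩
  · haveI := hnY
    obtain ⟨e, -⟩ := d.quotient_equiv
    rwa [Nat.card_congr e.toEquiv]
  · haveI := hnY
    obtain ⟨e, -⟩ := d.quotient_equiv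
    rw [← Cfsg.Agent.Components.layer_map_equiv e.symm, hlayer, Subgroup.map_top_of_surjective]
    exact e.symm.surjective
  intro K₁ K₂ h1 h2
  obtain ⟨e, he⟩ := @LEIsoPMin.Data.quotient_equiv _ _ _ _ _ _ _ _ _ d hnY
  let π := QuotientGroup.mk' ((Cfsg.pCore p ↥Y).map Y.subtype)
  have hsub : (Y.map π).IsSubnormal := hset.hYn.isSubnormal
  have key : ∀ (K : Subgroup (↥Y ⧸ Cfsg.pCore p ↥Y)) (x : G),
      x ∈ (K.comap (QuotientGroup.mk' _)).map Y.subtype ↔
        x ∈ Y ∧ π x ∈ (K.map e.toMonoidHom).map (Y.map π).subtype := by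
    intro K x
    constructor
    · rintro ⟨y, hy, rfl⟩
      exact ⟨y.2, e (QuotientGroup.mk' _ y), ⟨_, hy, rfl⟩, he y⟩
    · rintro ⟨hx, z, ⟨k, hk, rfl⟩, hz⟩
      refine ⟨⟨x, hx⟩, ?_, rfl⟩
      obtain ⟨y, rfl⟩ := QuotientGroup.mk'_surjective _ k
      have h3 : e (QuotientGroup.mk' _ y) = e (QuotientGroup.mk' _ ⟨x, hx⟩) :=
        Subtype.ext (hz.trans (he ⟨x, hx⟩).symm)
      show QuotientGroup.mk' _ (⟨x, hx⟩ : ↥Y) ∈ K
      rw [← e.injective h3]
      exact hk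
  obtain ⟨sb, ⟨s, hs, rfl⟩, hK⟩ := htrans _ _
    (Cfsg.Agent.Components.component_map_subtype hsub (Cfsg.Agent.Components.component_map_equiv e h1))
    (Cfsg.Agent.Components.component_map_subtype hsub (Cfsg.Agent.Components.component_map_equiv e h2))
    (Subgroup.map_subtype_le _) (Subgroup.map_subtype_le _)
  refine ⟨s, hs, ?_⟩
  ext x
  rw [Cfsg.Agent.LEBasic.mem_map_conj, key, key, hK, Cfsg.Agent.LEBasic.mem_map_conj]
  simp only [← map_inv, ← map_mul]
  refine and_congr_left' ⟨fun hx => ?_, fun hx => ?_⟩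
  · simpa using d.Y_normal.conj_mem x hx s⁻¹
  · simpa [mul_assoc] using d.Y_normal.conj_mem _ hx s

end Cfsg.Agent.S3044

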