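import Cfsg.Statements.S3045
import Cfsg.Agent.Lib.LocalEven.IsoPMinG

set_option autoImplicit false
open Cfsg

open scoped commutatorElement

namespace Cfsg.Agent.S3045

/-- Let G be a finite group, p a prime, S a Sylow p-subgroup of G and P a p-minimal subgroup of G containing S. Let L be the subgroup generated by N_G(S) and all p-minimal subgroups of G containing S other than P, and suppose O_p(L) is not contained in O_p(P). Put Y for the normal closure of O^p(P) in G. Then O^p(P) is contained in the preimage in G of F*(G/O_p(G)); and if Y is solvable, then Y = O^p(P) and Y/O_p(Y) is a t-group of nilpotency class at most 2 for some prime t ≠ p. -/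
theorem result {G : Type*} [Group G] [Finite G] {p : ℕ} [Fact p.Prime] (S : Sylow p G) (P : Subgroup G) (hSP : (S : Subgroup G) ≤ P) (hPmin : Cfsg.IsPMinimal p ↥P)
    (L Y : Subgroup G)
    (hL : L = Subgroup.normalizer ((S : Subgroup G) : Set G) ⊔ ⨆ P' : {P' : Subgroup G // (S : Subgroup G) ≤ P' ∧ Cfsg.IsPMinimal p ↥P' ∧ P' ≠ P}, (P' : Subgroup G))
    (hiso : ¬ (Cfsg.pCore p ↥L).map L.subtype ≤ (Cfsg.pCore p ↥P).map P.subtype)
    (hY : Y = Subgroup.normalClosure (((Cfsg.pResidual p ↥P).map P.subtype : Subgroup G) : Set G)) [hn : (Cfsg.pCore p G).Normal] :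
    (Cfsg.pResidual p ↥P).map P.subtype ≤ (Cfsg.generalizedFittingSubgroup (G ⧸ Cfsg.pCore p G)).comap (QuotientGroup.mk' (Cfsg.pCore p G)) ∧
    (Group.IsSolvable ↥Y → (Cfsg.pResidual p ↥P).map P.subtype = Y ∧
       ∃ _ : (Cfsg.pCore p ↥Y).Normal, ∃ t : ℕ, t.Prime ∧ t ≠ p ∧ IsPGroup t (↥Y ⧸ Cfsg.pCore p ↥Y) ∧
         ∃ _ : Group.IsNilpotent (↥Y ⧸ Cfsg.pCore p ↥Y), Group.nilpotencyClass (↥Y ⧸ Cfsg.pCore p ↥Y) ≤ 2) := by
  open Cfsg.Agent in
  have d : LEIsoPMin.Data S P L Y := ⟨hSP, hPmin, hL, hiso, hY⟩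
  haveI := d.Y_normal
  refine ⟨?_, fun hsolv => ?_⟩
  · have hset := d.setting (Cfsg.pCore p G) Cfsg.Agent.LEBasic.pCore_isPGroup
      (fun M hM _ hMp => Cfsg.Agent.LEBasic.le_pCore hM hMp)
    refine d.E_le_Y.trans (Subgroup.map_le_iff_le_comap.1 ?_)
    haveI := hset.hYn
    rcases hset.dichotomy with ⟨t, ht, -, hYt, -, -⟩ | ⟨-, -, hlayer, -⟩
    · haveI := Fact.mk ht
      exact (Cfsg.Agent.Components.le_fittingSubgroup hset.hYn hYt.isNilpotent).trans
        Cfsg.Agent.Components.fitting_le_generalizedFitting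
    · intro x hx
      exact Cfsg.Agent.Components.layer_le_generalizedFitting
        (Cfsg.Agent.Components.layer_map_le_of_subnormal hset.hYn.isSubnormal
          ⟨⟨x, hx⟩, hlayer.ge (Subgroup.mem_top _), rfl⟩)
  haveI hWn : ((Cfsg.pCore p ↥Y).map Y.subtype).Normal := d.W_normal
  have hset := d.setting _ (Cfsg.Agent.LEBasic.pCoreMap_isPGroup Y) d.le_W
  rcases hset.dichotomy with ⟨t, ht, htp, hYt, hcl, hle⟩ | ⟨-, hns, -, -⟩
  swap
  · refine absurd ?_ hns
    haveI := hsolv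
    exact Cfsg.Agent.Components.isSolvable_map _ Y
  refine ⟨d.E_eq_Y _ (Cfsg.Agent.LEBasic.pCoreMap_isPGroup Y) hle, Cfsg.pCore_normal p ↥Y, t, ht, htp, ?_⟩
  obtain ⟨e, -⟩ := @LEIsoPMin.Data.quotient_equiv _ _ _ _ _ _ _ _ _ d (Cfsg.pCore_normal p ↥Y)
  have hc : ∀ a b c : ↥Y ⧸ Cfsg.pCore p ↥Y, ⁅a, b⁆ * c = c * ⁅a, b⁆ := fun a b c => e.injective (by
    rw [map_mul, map_mul, map_commutatorElement]
    exact hcl _ _ _)
  have hle2 : commutator (↥Y ⧸ Cfsg.pCore p ↥Y) ≤ Subgroup.center _ := by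
    rw [commutator_def, Subgroup.commutator_le]
    exact fun a _ b _ => Subgroup.mem_center_iff.2 fun c => (hc a b c).symm
  haveI hnil := Cfsg.Agent.Components.isNilpotent_of_commutator_le_center hle2
  refine ⟨hYt.of_equiv e.symm, hnil, ?_⟩
  refine Subgroup.lowerCentralSeries_eq_bot_iff_nilpotencyClass_le.1 ?_
  rw [eq_bot_iff, show (2 : ℕ) = 1 + 1 from rfl, Subgroup.lowerCentralSeries_succ, Subgroup.top_lowerCentralSeries_one,
    Subgroup.commutator_le]
  intro a ha b _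
  rw [Subgroup.mem_bot, commutatorElement_eq_one_iff_mul_comm]
  exact (Subgroup.mem_center_iff.1 (hle2 ha) b).symm

end Cfsg.Agent.S3045

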