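import Cfsg.Statements.S3047
import Cfsg.Agent.Lib.TorusCentral.Central
import Cfsg.Agent.Lib.TorusCentral.Models

set_option autoImplicit false
open Cfsg

namespace Cfsg.Agent.S3047

/-- Let p ≥ 5 be a prime, G a finite group all of whose composition factors are known simple groups, S a Sylow p-subgroup and P a p-minimal subgroup of G containing S such that O^p(P/O_p(P)) is isomorphic to SL₂(pᵃ), PSL₂(pᵃ), SU₃(pᵃ) or PSU₃(pᵃ) for some a ≥ 1. Let L be the subgroup generated by N_G(S) and the p-minimal subgroups of G containing S other than P. Then either O^p(P) is normal in G, or every p-element of the centre of L lies in O_p(P). -/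
theorem result {G : Type*} [Group G] [Finite G] {p : ℕ} [Fact p.Prime] (hp : 5 ≤ p) (hK : Cfsg.IsCompositionKGroup G)
    (S : Sylow p G) (P : Subgroup G) (hSP : (S : Subgroup G) ≤ P) (hPmin : Cfsg.IsPMinimal p ↥P) [hn : (Cfsg.pCore p ↥P).Normal]
    (hrk1 : ∃ (F : Type) (_ : Field F) (_ : Fintype F) (a : ℕ), 1 ≤ a ∧
      ((Fintype.card F = p ^ a ∧ (Nonempty (↥(Cfsg.pResidual p (↥P ⧸ Cfsg.pCore p ↥P)) ≃* Matrix.SpecialLinearGroup (Fin 2) F) ∨
                                  Nonempty (↥(Cfsg.pResidual p (↥P ⧸ Cfsg.pCore p ↥P)) ≃* Matrix.ProjectiveSpecialLinearGroup (Fin 2) F))) ∨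
       (Fintype.card F = p ^ (2 * a) ∧ (Nonempty (↥(Cfsg.pResidual p (↥P ⧸ Cfsg.pCore p ↥P)) ≃* ↥(Cfsg.SU 3 F (p ^ a))) ∨
                                        Nonempty (↥(Cfsg.pResidual p (↥P ⧸ Cfsg.pCore p ↥P)) ≃* Cfsg.PSU 3 F (p ^ a))))))
    (L : Subgroup G)
    (hL : L = Subgroup.normalizer ((S : Subgroup G) : Set G) ⊔ ⨆ P' : {P' : Subgroup G // (S : Subgroup G) ≤ P' ∧ Cfsg.IsPMinimal p ↥P' ∧ P' ≠ P}, (P' : Subgroup G)) :
    ((Cfsg.pResidual p ↥P).map P.subtype).Normal ∨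
    ∀ z ∈ L ⊓ Subgroup.centralizer (L : Set G), (∃ k : ℕ, orderOf z = p ^ k) → z ∈ (Cfsg.pCore p ↥P).map P.subtype := by
  right
  intro z hz hord
  obtain ⟨hzL, hzC⟩ := Subgroup.mem_inf.1 hz
  obtain ⟨k, hk⟩ := hord
  have hzk : z ^ p ^ k = 1 := hk ▸ pow_orderOf_eq_one z
  have hcomm : ∀ y ∈ Subgroup.normalizer ((S : Subgroup G) : Set G), z * y = y * z := fun y hy =>
    (Subgroup.mem_centralizer_iff.1 hzC y (hL ▸ Subgroup.mem_sup_left hy)).symm
  have hzS : z ∈ (S : Subgroup G) := Cfsg.Agent.TorusCentral.mem_sylow_of_commute S ⟨k, hzk⟩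
    fun s hs => hcomm s (Subgroup.le_normalizer hs)
  obtain ⟨O, hO⟩ : ∃ O, O = Cfsg.pCore p ↥P := ⟨_, rfl⟩
  let π : ↥P →* ↥P ⧸ Cfsg.pCore p ↥P := QuotientGroup.mk' (Cfsg.pCore p ↥P)
  have hπ : Function.Surjective π := QuotientGroup.mk'_surjective _
  let SP : Sylow p ↥P := S.subtype hSP
  let SY : Sylow p (↥P ⧸ Cfsg.pCore p ↥P) := SP.mapSurjective hπ
  have hcore : Cfsg.pCore p ↥P ≤ (SP : Subgroup ↥P) := Cfsg.Agent.LEBasic.pCore_le_sylow SP
  haveI := Cfsg.Agent.LEBasic.pResidual_normal (G := ↥P ⧸ Cfsg.pCore p ↥P) (p := p)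
  have hq := Cfsg.Agent.LEBasic.quotient_pResidual_isPGroup (G := ↥P ⧸ Cfsg.pCore p ↥P) (p := p)
  have hz1 : (⟨z, hSP hzS⟩ : ↥P) ^ p ^ k = 1 := Subtype.ext hzk
  have hY : ∀ y ∈ Subgroup.normalizer ((SY : Subgroup (↥P ⧸ Cfsg.pCore p ↥P)) : Set (↥P ⧸ Cfsg.pCore p ↥P)),
      π ⟨z, hSP hzS⟩ * y = y * π ⟨z, hSP hzS⟩ := by
    intro y hy
    obtain ⟨x, rfl⟩ := hπ y
    have hx : x ∈ Subgroup.normalizer ((SP : Subgroup ↥P) : Set ↥P) := by
      have hc : ((SY : Subgroup (↥P ⧸ Cfsg.pCore p ↥P))).comap π = (SP : Subgroup ↥P) := by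
        rw [Sylow.coe_mapSurjective, Subgroup.comap_map_eq_self]
        rwa [QuotientGroup.ker_mk']
      refine Subgroup.mem_normalizer_iff.2 fun u => ?_
      rw [← hc, Subgroup.mem_comap, Subgroup.mem_comap, map_mul, map_mul, map_inv]
      exact Subgroup.mem_normalizer_iff.1 hy (π u)
    have hxG : (x : G) ∈ Subgroup.normalizer ((S : Subgroup G) : Set G) := by
      refine Subgroup.mem_normalizer_iff.2 fun u => ⟨fun hu => ?_, fun hu => ?_⟩
      · exact Subgroup.mem_subgroupOf.1 ((Subgroup.mem_normalizer_iff.1 hx ⟨u, hSP hu⟩).1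
          (Subgroup.mem_subgroupOf.2 hu))
      · have huP : u ∈ P := by
          have := P.mul_mem (P.mul_mem (P.inv_mem x.2) (hSP hu)) x.2
          simpa [mul_assoc] using this
        exact Subgroup.mem_subgroupOf.1 ((Subgroup.mem_normalizer_iff.1 hx ⟨u, huP⟩).2
          (Subgroup.mem_subgroupOf.2 hu))
    rw [← map_mul, ← map_mul]
    exact congrArg π (Subtype.ext (hcomm _ hxG))
  have main : π ⟨z, hSP hzS⟩ = 1 := by
    have hfin : ∀ {M : Type} [Group M] [Finite M] {U : Subgroup M},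
        Cfsg.Agent.TorusCentral.Good p U → ∀ (e : M →* ↥(Cfsg.pResidual p (↥P ⧸ Cfsg.pCore p ↥P))),
        Function.Surjective e → e.ker ≤ Subgroup.center M → π ⟨z, hSP hzS⟩ = 1 :=
      fun hM e he hker => Cfsg.Agent.TorusCentral.eq_one_of_good (by omega)
        Cfsg.Agent.LEBasic.pCore_quotient_pCore _ hq hM e he hker SY
        ⟨k, by rw [← map_pow, hz1, map_one]⟩ hY
    have hinj : ∀ {A B : Type _} [Group A] [Group B] (e : A ≃* B), e.symm.toMonoidHom.ker = ⊥ :=
      fun e => (MonoidHom.ker_eq_bot_iff _).2 e.symm.injective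
    obtain ⟨F, iF, iFt, a, ha, h⟩ := hrk1
    have hchar : ∀ n, 1 ≤ n → Fintype.card F = p ^ n → CharP F p := fun n hn hc => by
      haveI : Fact p.Prime := inferInstance
      exact charP_of_card_eq_prime_pow hc
    rcases h with ⟨hc, he | he⟩ | ⟨hc, he | he⟩
    · haveI := hchar a ha hc
      obtain ⟨e⟩ := he
      exact hfin (Cfsg.Agent.TorusCentral.good_sl2 (F := F) (p := p) (by omega)) e.symm.toMonoidHom
        e.symm.surjective (by rw [hinj e]; exact bot_le)
    · haveI := hchar a ha hc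
      obtain ⟨e⟩ := he
      refine hfin (Cfsg.Agent.TorusCentral.good_sl2 (F := F) (p := p) (by omega))
        (e.symm.toMonoidHom.comp (QuotientGroup.mk' (Subgroup.center (Matrix.SpecialLinearGroup (Fin 2) F))))
        (e.symm.surjective.comp (QuotientGroup.mk'_surjective _)) ?_
      rw [← MonoidHom.comap_ker, hinj e, MonoidHom.comap_bot, QuotientGroup.ker_mk']
    all_goals
      haveI := hchar (2 * a) (by omega) hc
      have hc' : Fintype.card F = (p ^ a) ^ 2 := by rw [hc, mul_comm, pow_mul]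
      obtain ⟨C⟩ := Cfsg.Agent.PSU3Index.exists_ctx hc'
      have hq3 : 3 ≤ p ^ a := le_trans (by omega) (Nat.le_self_pow (by omega) p)
      obtain ⟨e⟩ := he
    · exact hfin (Cfsg.Agent.TorusCentral.good_su3 C (p := p) (by omega) hq3) e.symm.toMonoidHom
        e.symm.surjective (by rw [hinj e]; exact bot_le)
    · refine hfin (Cfsg.Agent.TorusCentral.good_su3 C (p := p) (by omega) hq3)
        (e.symm.toMonoidHom.comp (QuotientGroup.mk' (Subgroup.center (Cfsg.SU 3 F (p ^ a)))))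
        (e.symm.surjective.comp (QuotientGroup.mk'_surjective _)) ?_
      rw [← MonoidHom.comap_ker, hinj e, MonoidHom.comap_bot, QuotientGroup.ker_mk']
  exact ⟨_, (QuotientGroup.eq_one_iff _).1 main, rfl⟩

end Cfsg.Agent.S3047
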