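import Cfsg.Statements.S3048
import Cfsg.Agent.S3012
import Cfsg.Agent.S3013
import Cfsg.Agent.Lib.MinNormal.Factors
import Cfsg.Agent.Lib.Components.FStar
import Cfsg.Agent.Lib.Techniques.CharP
import Cfsg.Agent.Lib.PLocal.Thompson

set_option autoImplicit false
set_option linter.style.haveILetI false
open Cfsg
open scoped commutatorElement

namespace Cfsg.Agent.S3048

universe u

/-- A minimal counterexample to the Sidki pair problem. -/
structure Minimal {G : Type u} [Group G] [Finite G] (V : Subgroup G) : Prop where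
  ea : Cfsg.IsElementaryAbelian 2 V
  ne : V ≠ ⊥
  sidki : Cfsg.IsSidkiPair V
  out : V ⊓ Cfsg.pCore 2 G = ⊥
  minG : ∀ (H : Type u) [Group H] [Finite H] (W : Subgroup H), Nat.card H < Nat.card G →
    Cfsg.IsElementaryAbelian 2 W → W ≠ ⊥ → Cfsg.IsSidkiPair W → W ⊓ Cfsg.pCore 2 H ≠ ⊥
  minV : ∀ W : Subgroup G, Nat.card W < Nat.card V → Cfsg.IsElementaryAbelian 2 W → W ≠ ⊥ →
    Cfsg.IsSidkiPair W → W ⊓ Cfsg.pCore 2 G ≠ ⊥

namespace Minimal

variable {G : Type u} [Group G] [Finite G] {V : Subgroup G}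

theorem ea_subgroupOf {W H : Subgroup G} (hW : Cfsg.IsElementaryAbelian 2 W) :
    Cfsg.IsElementaryAbelian 2 (W.subgroupOf H) := by
  obtain ⟨hc, hs⟩ := hW
  refine ⟨⟨⟨fun a b => Subtype.ext (Subtype.ext ?_)⟩⟩, fun x hx => Subtype.ext ?_⟩
  · show ((a : H) : G) * ((b : H) : G) = ((b : H) : G) * ((a : H) : G)
    exact congrArg Subtype.val (hc.is_comm.comm (⟨((a : H) : G), a.2⟩ : W) ⟨((b : H) : G), b.2⟩)
  · rw [Subgroup.coe_pow, Subgroup.coe_one]; exact hs _ hx

theorem eq_one_of_sq_eq {x : G} (ho : Odd (orderOf x)) (h : x * x = 1) : x = 1 := by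
  rw [← orderOf_eq_one_iff]
  have h2 : orderOf x ∣ 2 := orderOf_dvd_of_pow_eq_one (by rw [pow_two]; exact h)
  rcases (Nat.dvd_prime Nat.prime_two).1 h2 with h1 | h1
  · exact h1
  · rw [h1] at ho; exact absurd ho (by decide)

theorem odd_inv {x y : G} (ho : Odd (orderOf x)) (h : y * x = x * y) (h' : y * x * y⁻¹ = x⁻¹) :
    x = 1 := by
  refine eq_one_of_sq_eq ho ?_
  rw [h, mul_inv_cancel_right] at h'
  nth_rewrite 2 [h']
  exact mul_inv_cancel x

variable (M : Minimal V)
include M

theorem vsq {v : G} (hv : v ∈ V) : v * v = 1 := by rw [← pow_two]; exact M.ea.2 v hv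

theorem vinv {v : G} (hv : v ∈ V) : v⁻¹ = v := inv_eq_of_mul_eq_one_right (M.vsq hv)

theorem vcomm {a b : G} (ha : a ∈ V) (hb : b ∈ V) : a * b = b * a :=
  congrArg Subtype.val (M.ea.1.is_comm.comm (⟨a, ha⟩ : V) ⟨b, hb⟩)

theorem pCore_eq_bot : Cfsg.pCore 2 G = ⊥ := by
  haveI : Fact (Nat.Prime 2) := ⟨Nat.prime_two⟩
  by_contra hR
  haveI := Cfsg.pCore_normal 2 G
  set π := QuotientGroup.mk' (Cfsg.pCore 2 G)
  have hlt : Nat.card (G ⧸ Cfsg.pCore 2 G) < Nat.card G := by
    rw [Subgroup.card_eq_card_quotient_mul_card_subgroup (Cfsg.pCore 2 G)]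
    exact lt_mul_of_one_lt_right Nat.card_pos ((Subgroup.one_lt_card_iff_ne_bot _).2 hR)
  have hne : V.map π ≠ ⊥ := by
    intro h
    rw [Subgroup.map_eq_bot_iff, QuotientGroup.ker_mk'] at h
    exact M.ne (le_bot_iff.1 (M.out ▸ le_inf le_rfl h))
  apply M.minG _ (V.map π) hlt (Agent.Thompson.isElementaryAbelian_map π M.ea) hne
    (S3012.result V _ M.ea M.ne M.sidki M.out)
  rw [Agent.PBasic.pCore_quotient_pCore, inf_bot_eq]

theorem opIn_normal_eq_bot {C : Subgroup G} (hC : C.Normal) : Agent.CharP.opIn 2 C = ⊥ := by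
  haveI : Fact (Nat.Prime 2) := ⟨Nat.prime_two⟩
  haveI := hC
  rw [← le_bot_iff, ← M.pCore_eq_bot]
  exact Agent.PBasic.map_pCore_le_of_normal C

/-- A proper overgroup of a Sidki subgroup meets its 2-core. -/
theorem exists_mem_core {W H : Subgroup G} (hWV : W ≤ V) (hW1 : W ≠ ⊥) (hWH : W ≤ H) (hH : H ≠ ⊤)
    (hS : ∀ h v : G, h ∈ H → v ∈ W → Odd (orderOf h) → v * h * v⁻¹ = h⁻¹ →
      ∃ w ∈ W, w ≠ 1 ∧ w * h = h * w) :
    ∃ v ∈ W, v ≠ 1 ∧ v ∈ Agent.CharP.opIn 2 H := by
  have hWea : Cfsg.IsElementaryAbelian 2 W :=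
    ⟨⟨⟨fun a b => Subtype.ext (M.vcomm (hWV a.2) (hWV b.2))⟩⟩, fun x hx => M.ea.2 x (hWV hx)⟩
  have hlt : Nat.card H < Nat.card G := by
    rcases lt_or_eq_of_le (Subgroup.card_le_card_group H) with h | h
    · exact h
    · exact absurd (Subgroup.eq_top_of_card_eq H h) hH
  have hne : W.subgroupOf H ≠ ⊥ := fun h => hW1 (by
    rw [← Subgroup.map_subgroupOf_eq_of_le hWH, h, Subgroup.map_bot])
  have hsid : Cfsg.IsSidkiPair (W.subgroupOf H) := by
    intro h v hv hodd hinv
    obtain ⟨w, hw, hw1, hwh⟩ := hS h v h.2 hv (by rwa [Subgroup.orderOf_coe])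
      (congrArg Subtype.val hinv)
    exact ⟨⟨w, hWH hw⟩, hw, fun e => hw1 (congrArg Subtype.val e), Subtype.ext hwh⟩
  have h := M.minG ↥H (W.subgroupOf H) hlt (ea_subgroupOf hWea) hne hsid
  obtain ⟨x, hx, hx1⟩ := (Subgroup.nontrivial_iff_exists_ne_one _).1
    ((Subgroup.nontrivial_iff_ne_bot _).2 h)
  exact ⟨x, hx.1, fun e => hx1 (Subtype.ext e), x, hx.2, rfl⟩

/-- `C_V(C_G(C))` is trivial or everything, for normal `C`. -/
theorem inf_centralizer_cases {C : Subgroup G} (hC : C.Normal) :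
    V ⊓ Subgroup.centralizer (C : Set G) = ⊥ ∨ V ≤ Subgroup.centralizer (C : Set G) := by
  haveI : Fact (Nat.Prime 2) := ⟨Nat.prime_two⟩
  haveI := hC
  haveI hKn : (Subgroup.centralizer (C : Set G)).Normal := inferInstance
  by_contra hcon
  push Not at hcon
  obtain ⟨hW1, hnle⟩ := hcon
  set K := Subgroup.centralizer (C : Set G) with hK
  set W := V ⊓ K with hWdef
  have hlt : Nat.card W < Nat.card V := by
    refine lt_of_le_of_ne (Subgroup.card_le_of_le inf_le_left) fun h => hnle ?_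
    exact (Subgroup.eq_of_le_of_card_ge (inf_le_left : W ≤ V) h.ge).ge.trans inf_le_right
  refine M.minV W hlt ⟨⟨⟨fun a b => Subtype.ext (M.vcomm a.2.1 b.2.1)⟩⟩,
    fun x hx => M.ea.2 x hx.1⟩ hW1 ?_ (by rw [M.pCore_eq_bot, inf_bot_eq])
  intro h w hw hodd hinv
  by_cases hh1 : h = 1
  · obtain ⟨x, hx, hx1⟩ := (Subgroup.nontrivial_iff_exists_ne_one _).1
      ((Subgroup.nontrivial_iff_ne_bot _).2 hW1)
    exact ⟨x, hx, hx1, by rw [hh1]; simp⟩
  -- `h` lies in `K`
  have hhK : h ∈ K := by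
    have h2 : h * h ∈ K := by
      have := mul_mem ((hKn.conj_mem w hw.2 h)) (inv_mem hw.2 : w⁻¹ ∈ K)
      rwa [show h * w * h⁻¹ * w⁻¹ = h * (w * h * w⁻¹)⁻¹ by group, hinv, inv_inv] at this
    obtain ⟨t, ht⟩ := hodd
    have e : h = (h * h) ^ (t + 1) := by
      rw [← pow_two, ← pow_mul, show 2 * (t + 1) = orderOf h + 1 by omega, pow_succ,
        pow_orderOf_eq_one, one_mul]
    rw [e]
    exact pow_mem h2 _
  set D := Subgroup.centralizer ({w} : Set G) ⊓ Subgroup.centralizer ({h} : Set G) with hD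
  have hCD : C ≤ D := fun c hc =>
    ⟨Subgroup.mem_centralizer_singleton_iff.2 (Subgroup.mem_centralizer_iff.1 hw.2 c hc),
      Subgroup.mem_centralizer_singleton_iff.2 (Subgroup.mem_centralizer_iff.1 hhK c hc)⟩
  obtain ⟨hne, hsid⟩ := S3013.result V M.ea M.ne M.sidki w h hw.1 hodd hinv D hD
  have hDtop : D ≠ ⊤ := by
    intro e
    apply hh1
    have hwD : w ∈ D := by rw [e]; exact Subgroup.mem_top _
    exact odd_inv hodd (Subgroup.mem_centralizer_singleton_iff.1 hwD.2) hinv
  obtain ⟨u, hu, hu1, huO⟩ := M.exists_mem_core (W := D ⊓ V) inf_le_right hne inf_le_left hDtop (by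
    intro h' v hh' hv ho hi
    obtain ⟨z, hz, hz1, hzh⟩ := hsid ⟨h', hh'⟩ ⟨v, hv.1⟩ hv
      (by rwa [Subgroup.orderOf_mk]) (Subtype.ext hi)
    exact ⟨z, hz, fun e => hz1 (Subtype.ext e), congrArg Subtype.val hzh⟩)
  refine ⟨u, ⟨hu.2, ?_⟩, hu1, Subgroup.mem_centralizer_singleton_iff.1 hu.1.2⟩
  refine Subgroup.mem_centralizer_iff.2 fun c hc => ?_
  refine commutatorElement_eq_one_iff_mul_comm.1 (Subgroup.mem_bot.1 ?_)
  rw [← M.opIn_normal_eq_bot hC]
  have h1 : ⁅c, u⁆ ∈ C ⊓ Agent.CharP.opIn 2 D := by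
    refine ⟨?_, ?_⟩
    · rw [commutatorElement_def, mul_assoc c u, mul_assoc c]
      exact Subgroup.mul_mem _ hc (hC.conj_mem _ (inv_mem hc) u)
    · rw [commutatorElement_def]
      exact Subgroup.mul_mem _ ((Subgroup.mem_normalizer_iff.1
        (Agent.CharP.le_normalizer_opIn (p := 2) D (hCD hc)) u).1 huO) (Subgroup.inv_mem _ huO)
  refine Agent.CharP.le_opIn inf_le_left ?_
    ((Agent.CharP.opIn_isPGroup D).to_le inf_le_right) h1
  exact Subgroup.le_normalizer_iff.2 fun g hg x hx => ⟨hC.conj_mem x hx.1 g,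
    (Subgroup.mem_normalizer_iff.1 (Agent.CharP.le_normalizer_opIn (p := 2) D (hCD hg)) x).1 hx.2⟩

theorem center_eq_bot : Subgroup.center G = ⊥ := by
  haveI : Fact (Nat.Prime 2) := ⟨Nat.prime_two⟩
  by_contra hne
  set Z := Subgroup.center G with hZ
  have hVZ : V ⊓ Z = ⊥ := by
    rw [← le_bot_iff, ← M.out]
    refine le_inf inf_le_left ?_
    exact Agent.PBasic.le_pCore
      ⟨fun x hx g => by
        rw [Subgroup.mem_center_iff.1 hx.2 g, mul_inv_cancel_right]; exact hx⟩
      ((IsPGroup.iff_orderOf.2 fun x => by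
        have h2 : (x : G) ^ 2 = 1 := M.ea.2 x x.2.1
        obtain ⟨i, -, hi⟩ := (Nat.dvd_prime_pow Nat.prime_two).1
          (show orderOf (x : G) ∣ 2 ^ 1 by rw [pow_one]; exact orderOf_dvd_of_pow_eq_one h2)
        exact ⟨i, by rw [← Subgroup.orderOf_coe, hi]⟩))
  set π := QuotientGroup.mk' Z with hπ
  have hlt : Nat.card (G ⧸ Z) < Nat.card G := by
    rw [Subgroup.card_eq_card_quotient_mul_card_subgroup Z]
    exact lt_mul_of_one_lt_right Nat.card_pos ((Subgroup.one_lt_card_iff_ne_bot _).2 hne)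
  have hVne : V.map π ≠ ⊥ := by
    intro h
    rw [Subgroup.map_eq_bot_iff, QuotientGroup.ker_mk'] at h
    exact M.ne (le_bot_iff.1 (hVZ ▸ le_inf le_rfl h))
  have h := M.minG _ (V.map π) hlt (Agent.Thompson.isElementaryAbelian_map π M.ea) hVne
    (S3012.result V _ M.ea M.ne M.sidki hVZ)
  obtain ⟨q, hq, hq1⟩ := (Subgroup.nontrivial_iff_exists_ne_one _).1
    ((Subgroup.nontrivial_iff_ne_bot _).2 h)
  obtain ⟨v, hv, rfl⟩ := hq.1
  -- the preimage is nilpotent, so its Sylow 2-subgroup is normal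
  set P := (Cfsg.pCore 2 (G ⧸ Z)).comap π with hP
  haveI hPn : P.Normal := (Cfsg.pCore_normal 2 (G ⧸ Z)).comap π
  haveI hnil : Group.IsNilpotent P := by
    set f := π.subgroupComap (Cfsg.pCore 2 (G ⧸ Z)) with hf
    haveI hQ : Group.IsNilpotent ↥(Cfsg.pCore 2 (G ⧸ Z)) := (Agent.PBasic.pCore_isPGroup 2 _).isNilpotent
    refine Subgroup.isNilpotent_of_ker_le_center f (fun x hx => ?_)
    refine Subgroup.mem_center_iff.2 fun y => Subtype.ext ?_
    have hxZ : (x : G) ∈ Z := (QuotientGroup.eq_one_iff (x : G)).1 (congrArg Subtype.val hx)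
    exact Subgroup.mem_center_iff.1 hxZ y
  obtain ⟨S, hS⟩ := (IsPGroup.of_card (p := 2) (n := 1) (G := Subgroup.zpowers (⟨v, hq.2⟩ : P)) (by
    rw [Nat.card_zpowers, orderOf_eq_prime (Subtype.ext (by rw [Subgroup.coe_pow]; exact M.ea.2 v hv))
      (fun e => hq1 (by rw [show v = 1 from congrArg Subtype.val e, map_one])), pow_one])).exists_le_sylow
  haveI : (S : Subgroup P).Normal :=
    Sylow.normal_of_normalizerCondition Group.normalizerCondition_of_isNilpotent S
  haveI := S.characteristic_of_normal inferInstance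
  have hle : (S : Subgroup P).map P.subtype ≤ Cfsg.pCore 2 G :=
    Agent.PBasic.le_pCore inferInstance (S.isPGroup'.map _)
  have hvO : v ∈ V ⊓ Cfsg.pCore 2 G := ⟨hv, hle ⟨_, hS (Subgroup.mem_zpowers _), rfl⟩⟩
  rw [M.out, Subgroup.mem_bot] at hvO
  exact hq1 (by rw [hvO, map_one])

/-- Every nontrivial normal subgroup supplements `V`, and `V` acts faithfully on it. -/
theorem normal_facts {C : Subgroup G} (hC : C.Normal) (hC1 : C ≠ ⊥) :
    V ⊓ Subgroup.centralizer (C : Set G) = ⊥ ∧ V ⊔ C = ⊤ := by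
  haveI : Fact (Nat.Prime 2) := ⟨Nat.prime_two⟩
  haveI := hC
  haveI hKn : (Subgroup.centralizer (C : Set G)).Normal := inferInstance
  have h1 : V ⊓ Subgroup.centralizer (C : Set G) = ⊥ := by
    rcases M.inf_centralizer_cases hC with h | h
    · exact h
    exfalso
    by_cases htop : Subgroup.centralizer (C : Set G) = ⊤
    · apply hC1
      rw [← le_bot_iff, ← M.center_eq_bot]
      intro c hc
      refine Subgroup.mem_center_iff.2 fun g => ?_
      exact (Subgroup.mem_centralizer_iff.1 (htop ▸ Subgroup.mem_top g :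
        g ∈ Subgroup.centralizer (C : Set G)) c hc).symm
    obtain ⟨v, hv, hv1, hvO⟩ := M.exists_mem_core le_rfl M.ne h htop
      fun h' v _ hv ho hi => M.sidki h' v hv ho hi
    rw [M.opIn_normal_eq_bot hKn, Subgroup.mem_bot] at hvO
    exact hv1 hvO
  refine ⟨h1, ?_⟩
  by_contra htop
  obtain ⟨v, hv, hv1, hvO⟩ := M.exists_mem_core le_rfl M.ne (le_sup_left : V ≤ V ⊔ C) htop
    fun h' v _ hv ho hi => M.sidki h' v hv ho hi
  apply hv1
  rw [← Subgroup.mem_bot, ← h1]
  refine ⟨hv, Subgroup.mem_centralizer_iff.2 fun c hc => ?_⟩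
  refine commutatorElement_eq_one_iff_mul_comm.1 (Subgroup.mem_bot.1 ?_)
  rw [← M.opIn_normal_eq_bot hC]
  set H := V ⊔ C with hH
  have hcH : c ∈ H := Subgroup.mem_sup_right hc
  have h2 : ⁅c, v⁆ ∈ C ⊓ Agent.CharP.opIn 2 H := by
    refine ⟨?_, ?_⟩
    · rw [commutatorElement_def, mul_assoc c v, mul_assoc c]
      exact Subgroup.mul_mem _ hc (hC.conj_mem _ (inv_mem hc) v)
    · rw [commutatorElement_def]
      exact Subgroup.mul_mem _ ((Subgroup.mem_normalizer_iff.1
        (Agent.CharP.le_normalizer_opIn (p := 2) H hcH) v).1 hvO) (Subgroup.inv_mem _ hvO)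
  refine Agent.CharP.le_opIn inf_le_left ?_
    ((Agent.CharP.opIn_isPGroup H).to_le inf_le_right) h2
  exact Subgroup.le_normalizer_iff.2 fun g hg x hx => ⟨hC.conj_mem x hx.1 g,
    (Subgroup.mem_normalizer_iff.1 (Agent.CharP.le_normalizer_opIn (p := 2) H
      (Subgroup.mem_sup_right hg)) x).1 hx.2⟩

theorem no_abelian_normal {A : Subgroup G} (hA : A.Normal) (hab : IsMulCommutative A) : A = ⊥ := by
  haveI : Fact (Nat.Prime 2) := ⟨Nat.prime_two⟩
  by_contra hA1
  obtain ⟨hfaith, htop⟩ := M.normal_facts hA hA1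
  have hAc : ∀ a ∈ A, ∀ b ∈ A, a * b = b * a := fun a ha b hb =>
    congrArg Subtype.val (hab.is_comm.comm (⟨a, ha⟩ : A) ⟨b, hb⟩)
  -- no nontrivial element of `V` has a fixed point on `A`
  have hfpf : ∀ v ∈ V, v ≠ 1 → A ⊓ Subgroup.centralizer ({v} : Set G) = ⊥ := by
    intro v hv hv1
    by_contra hne
    set B := A ⊓ Subgroup.centralizer ({v} : Set G) with hB
    have hBn : B.Normal := by
      rw [← Subgroup.normalizer_eq_top_iff, eq_top_iff, ← htop]
      refine sup_le ?_ ?_ <;> refine Subgroup.le_normalizer_iff.2 fun g hg x hx => ?_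
      · refine ⟨hA.conj_mem x hx.1 g, Subgroup.mem_centralizer_singleton_iff.2 ?_⟩
        have hvg := M.vcomm hv hg
        have hxv := Subgroup.mem_centralizer_singleton_iff.1 hx.2
        calc g * x * g⁻¹ * v = g * x * g⁻¹ * (v * g) * g⁻¹ := by group
          _ = g * (x * v) * g⁻¹ := by rw [hvg]; group
          _ = (g * v) * x * g⁻¹ := by rw [hxv]; group
          _ = v * (g * x * g⁻¹) := by rw [← hvg]; group
      · rw [hAc g hg x hx.1, mul_inv_cancel_right]; exact hx
    obtain ⟨h1, -⟩ := M.normal_facts hBn hne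
    apply hv1
    rw [← Subgroup.mem_bot, ← h1]
    exact ⟨hv, Subgroup.mem_centralizer_iff.2 fun b hb =>
      Subgroup.mem_centralizer_singleton_iff.1 hb.2⟩
  obtain ⟨a, ha, ha1⟩ := (Subgroup.nontrivial_iff_exists_ne_one _).1
    ((Subgroup.nontrivial_iff_ne_bot _).2 hA1)
  obtain ⟨v, hv, hv1⟩ := (Subgroup.nontrivial_iff_exists_ne_one _).1
    ((Subgroup.nontrivial_iff_ne_bot _).2 M.ne)
  have hinv : ∀ v ∈ V, v ≠ 1 → ∀ a ∈ A, v * a * v⁻¹ = a⁻¹ := by
    intro v hv hv1 a ha
    have hva : v * a * v⁻¹ ∈ A := hA.conj_mem a ha v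
    have hfix : a * (v * a * v⁻¹) ∈ A ⊓ Subgroup.centralizer ({v} : Set G) := by
      refine ⟨mul_mem ha hva, Subgroup.mem_centralizer_singleton_iff.2 ?_⟩
      have e : v * (a * (v * a * v⁻¹)) * v⁻¹ = a * (v * a * v⁻¹) := by
        rw [hAc a ha _ hva, M.vinv hv]
        calc v * (v * a * v * a) * v = (v * v) * a * (v * a * v) := by group
          _ = a * (v * a * v) := by rw [M.vsq hv, one_mul]
          _ = v * a * v * a := by
            have := hAc a ha _ hva
            rwa [M.vinv hv] at this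
      exact (mul_inv_eq_iff_eq_mul.1 e).symm
    rw [hfpf v hv hv1, Subgroup.mem_bot] at hfix
    exact eq_inv_of_mul_eq_one_right hfix
  have ho : Odd (orderOf a) := by
    rcases Nat.even_or_odd (orderOf a) with he | ho
    · exfalso
      obtain ⟨m, hm⟩ := he
      set i := a ^ m with hi
      have hi2 : i * i = 1 := by rw [hi, ← pow_add, ← hm, pow_orderOf_eq_one]
      have hi1 : i ≠ 1 := fun h => by
        have := Nat.le_of_dvd (by have := orderOf_pos a; omega) (orderOf_dvd_of_pow_eq_one h)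
        have := orderOf_pos a
        omega
      apply hi1
      rw [← Subgroup.mem_bot, ← hfpf v hv hv1]
      refine ⟨pow_mem ha m, Subgroup.mem_centralizer_singleton_iff.2 ?_⟩
      have := hinv v hv hv1 i (pow_mem ha m)
      rw [inv_eq_of_mul_eq_one_right hi2] at this
      exact (mul_inv_eq_iff_eq_mul.1 this).symm
    · exact ho
  obtain ⟨w, hw, hw1, hwa⟩ := M.sidki a v hv ho (hinv v hv hv1 a ha)
  exact ha1 (odd_inv ho hwa (hinv w hw hw1 a ha))

/-- The conclusion. -/
theorem main : IsSimpleGroup ↥(Cfsg.generalizedFittingSubgroup G) ∧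
    ¬ IsMulCommutative ↥(Cfsg.generalizedFittingSubgroup G) ∧
    V ⊔ Cfsg.generalizedFittingSubgroup G = ⊤ := by
  classical
  haveI : Fact (Nat.Prime 2) := ⟨Nat.prime_two⟩
  have hGtop : (⊤ : Subgroup G) ≠ ⊥ := fun h => M.ne (le_bot_iff.1 (h ▸ le_top))
  obtain ⟨N, -, hN⟩ := Finite.exists_le_minimal (p := fun U : Subgroup G => U.Normal ∧ U ≠ ⊥)
    (a := ⊤) ⟨inferInstance, hGtop⟩
  haveI := hN.1.1
  have hmin : ∀ U : Subgroup G, U.Normal → U ≤ N → U = ⊥ ∨ U = N := fun U hU hle => by
    by_cases hb : U = ⊥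
    · exact Or.inl hb
    · exact Or.inr (le_antisymm hle (hN.2 ⟨hU, hb⟩ hle))
  have hna : ¬ IsMulCommutative N := fun h => hN.1.2 (M.no_abelian_normal hN.1.1 h)
  obtain ⟨hfaith, htop⟩ := M.normal_facts hN.1.1 hN.1.2
  obtain ⟨S, hS⟩ := MinFactors.exists_naMin N hN.1.1 hN.1.2 hmin hna
  -- `C(N) = 1`
  have hCN : Subgroup.centralizer (N : Set G) = ⊥ := by
    by_contra hne
    set D := Subgroup.centralizer (N : Set G) with hD
    haveI hDn : D.Normal := inferInstance
    obtain ⟨-, htopD⟩ := M.normal_facts hDn hne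
    have hND : N ⊓ D = ⊥ := by
      rcases hmin _ inferInstance (inf_le_left : N ⊓ D ≤ N) with h | h
      · exact h
      · exfalso
        refine hna ⟨⟨fun a b => Subtype.ext ?_⟩⟩
        have hb : (b : G) ∈ D := (h.ge b.2).2
        exact Subgroup.mem_centralizer_iff.1 hb a a.2
    -- `N` embeds into the 2-group `G/D`
    set π := QuotientGroup.mk' D
    have hsurj : V.map π = ⊤ := by
      rw [← top_le_iff]
      intro q _
      obtain ⟨g, rfl⟩ := QuotientGroup.mk'_surjective D q
      have hg : g ∈ V ⊔ D := htopD ▸ Subgroup.mem_top g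
      obtain ⟨v, hv, d, hd, rfl⟩ := Subgroup.mem_sup_of_normal_right.1 hg
      exact ⟨v, hv, by rw [map_mul, (QuotientGroup.eq_one_iff d).2 hd |> (fun e => (show π d = 1 from e)), mul_one]⟩
    have hV2 : IsPGroup 2 V := fun x => ⟨1, Subtype.ext (by
      rw [Subgroup.coe_pow, pow_one]; exact M.ea.2 x x.2)⟩
    have hQ : IsPGroup 2 (G ⧸ D) := fun q => by
      have hq : q ∈ V.map π := hsurj ▸ Subgroup.mem_top q
      obtain ⟨k, hk⟩ := (hV2.map π) ⟨q, hq⟩
      exact ⟨k, congrArg Subtype.val hk⟩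
    have hN2 : IsPGroup 2 N := hQ.of_injective (π.comp N.subtype) (by
      rw [injective_iff_map_eq_one]
      intro x hx
      have : (x : G) ∈ N ⊓ D := ⟨x.2, (QuotientGroup.eq_one_iff (x : G)).1 hx⟩
      rw [hND, Subgroup.mem_bot] at this
      exact Subtype.ext this)
    exact hN.1.2 (le_bot_iff.1 (M.pCore_eq_bot ▸ Agent.PBasic.le_pCore hN.1.1 hN2))
  -- conjugates of the factor come from `V`
  set T := S.T with hTdef
  let F : G → S.Fac := fun g => ⟨MinFactors.conjS g T, g, rfl⟩
  have hTN : T ≤ N := hS ▸ S.stable.2.1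
  have hNnorm : ∀ n ∈ N, MinFactors.conjS n T = T := by
    intro n hn
    have hn' : n ∈ S.N := hS.symm ▸ hn
    refine le_antisymm ?_ fun x hx => ?_
    · rintro _ ⟨x, hx, rfl⟩
      exact S.stable.2.2 n hn' x hx
    · rw [MinFactors.mem_conjS]
      simpa using S.stable.2.2 n⁻¹ (inv_mem hn') x hx
  have hgV : ∀ g : G, ∃ v ∈ V, MinFactors.conjS g T = MinFactors.conjS v T := by
    intro g
    have hg : g ∈ V ⊔ N := htop ▸ Subgroup.mem_top g
    obtain ⟨v, hv, n, hn, rfl⟩ := Subgroup.mem_sup_of_normal_right.1 hg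
    exact ⟨v, hv, by rw [← MinFactors.conjS_conjS, hNnorm n hn]⟩
  have hTno2 : ∃ t ∈ T, t ≠ 1 ∧ Odd (orderOf t) := by
    by_contra hcon
    push Not at hcon
    have hT2 : IsPGroup 2 T := by
      refine IsPGroup.iff_orderOf.2 fun g => ?_
      obtain ⟨k, m, hm, hgm⟩ :=
        Nat.exists_eq_two_pow_mul_odd (orderOf_pos (g : G)).ne'
      refine ⟨k, ?_⟩
      rw [← Subgroup.orderOf_coe, hgm]
      by_cases h1 : (g : G) ^ (2 ^ k) = 1
      · exact Nat.dvd_antisymm (hgm ▸ orderOf_dvd_of_pow_eq_one h1) (dvd_mul_right _ _)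
      · refine absurd ?_ (hcon _ (pow_mem g.2 _) h1)
        rw [orderOf_pow' _ (by positivity), hgm, Nat.gcd_eq_right (dvd_mul_right _ _),
          Nat.mul_div_cancel_left _ (Nat.two_pow_pos k)]
        exact hm
    haveI : Nontrivial T := (Subgroup.nontrivial_iff_ne_bot _).2 S.stable.1
    haveI := hT2.isNilpotent
    haveI := hT2.center_nontrivial
    obtain ⟨z, hz, hz1⟩ := (Subgroup.nontrivial_iff_exists_ne_one _).1
      (inferInstance : Nontrivial (Subgroup.center T))
    apply hz1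
    refine Subtype.ext (S.fac_center ⟨T, 1, MinFactors.conjS_one _⟩ z.2 fun u hu => ?_)
    exact (congrArg Subtype.val (Subgroup.mem_center_iff.1 hz ⟨u, hu⟩)).symm
  -- `V` normalizes the factor
  have hVT : ∀ v ∈ V, MinFactors.conjS v T = T := by
    by_contra hcon
    push Not at hcon
    obtain ⟨v, hv, hvT⟩ := hcon
    set V0 := V ⊓ Subgroup.normalizer (T : Set G) with hV0
    have hmem : ∀ u ∈ V, MinFactors.conjS u T = T → u ∈ V0 := fun u hu h =>
      ⟨hu, Subgroup.mem_normalizer_iff_map_conj_eq.2 h⟩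
    have hmem' : ∀ u ∈ V0, MinFactors.conjS u T = T := fun u hu =>
      Subgroup.mem_normalizer_iff_map_conj_eq.1 hu.2
    by_cases hV01 : V0 = ⊥
    · obtain ⟨t, ht, ht1, hto⟩ := hTno2
      have hreg : ∀ u ∈ V, MinFactors.conjS u T = T → u = 1 := fun u hu h => by
        have := hmem u hu h; rwa [hV01, Subgroup.mem_bot] at this
      have hFne : ∀ a ∈ V, ∀ b ∈ V, a ≠ b → F a ≠ F b := fun a ha b hb hab e => by
        apply hab
        have e' : MinFactors.conjS a T = MinFactors.conjS b T := congrArg Subtype.val e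
        have := hreg (b⁻¹ * a) (mul_mem (inv_mem hb) ha) (by
          rw [← MinFactors.conjS_conjS, e', MinFactors.conjS_conjS, inv_mul_cancel,
            MinFactors.conjS_one])
        exact (inv_mul_eq_one.1 this).symm
      have hFmem : ∀ a : G, ∀ y ∈ T, a * y * a⁻¹ ∈ (F a).1 := fun a y hy => ⟨y, hy, rfl⟩
      have hF1 : ∀ y ∈ T, y ∈ (F 1).1 := fun y hy => by
        show y ∈ MinFactors.conjS 1 T
        rwa [MinFactors.conjS_one]
      have hv1 : v ≠ 1 := fun h => hvT (by rw [h, MinFactors.conjS_one])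
      set t' := v * t⁻¹ * v⁻¹ with ht'
      have hct : t * t' = t' * t := S.fac_comm (hFne 1 (one_mem V) v hv (Ne.symm hv1))
        (hF1 t ht) (hFmem v t⁻¹ (inv_mem ht))
      set x := t * t' with hx
      have hxv : v * x * v⁻¹ = x⁻¹ := by
        rw [hx, mul_inv_rev, ht', M.vinv hv]
        calc v * (t * (v * t⁻¹ * v)) * v = (v * t * v) * t⁻¹ * (v * v) := by group
          _ = v * t * v * t⁻¹ := by rw [M.vsq hv, mul_one]
          _ = (v * t⁻¹ * v)⁻¹ * t⁻¹ := by rw [mul_inv_rev, mul_inv_rev, inv_inv, M.vinv hv]; group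
      have hto' : Odd (orderOf t') := by
        have h := (MulAut.conj v).orderOf_eq t⁻¹
        rw [MulAut.conj_apply, ← ht', orderOf_inv] at h
        rwa [h]
      have hxo : Odd (orderOf x) :=
        (hto.mul hto').of_dvd_nat (show Commute t t' from hct).orderOf_mul_dvd_mul_orderOf
      have hx1 : x ≠ 1 := by
        intro h
        apply ht1
        have h1 : t ∈ (F 1).1 ⊓ (F v).1 := by
          refine ⟨hF1 t ht, ?_⟩
          rw [eq_inv_of_mul_eq_one_left h]
          exact Subgroup.inv_mem _ (hFmem v t⁻¹ (Subgroup.inv_mem _ ht))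
        rwa [S.fac_inf (hFne 1 (one_mem V) v hv (Ne.symm hv1)), Subgroup.mem_bot] at h1
      obtain ⟨u, hu, hu1, hux⟩ := M.sidki x v hv hxo hxv
      by_cases huv : u = v
      · subst huv
        exact hx1 (odd_inv hxo hux hxv)
      apply ht1
      set s := u * t * u⁻¹ with hs
      have hsU : s ∈ (F u).1 := hFmem u t ht
      have hconj : u * x * u⁻¹ = x := by rw [hux, mul_inv_cancel_right]
      have hs' : u * t' * u⁻¹ ∈ (F (u * v)).1 := by
        rw [ht', show u * (v * t⁻¹ * v⁻¹) * u⁻¹ = (u * v) * t⁻¹ * (u * v)⁻¹ by group]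
        exact hFmem _ _ (inv_mem ht)
      have hcen : ∀ y ∈ (F u).1, s * y = y * s := by
        intro y hy
        have h1 : y * x = x * y := by
          have ha := S.fac_comm (hFne u hu 1 (one_mem V) hu1) hy (hF1 t ht)
          have hb := S.fac_comm (hFne u hu v hv huv) hy (hFmem v t⁻¹ (inv_mem ht))
          exact ((show Commute y t from ha).mul_right (show Commute y t' from hb)).eq
        have h2 : y * (u * t' * u⁻¹) = u * t' * u⁻¹ * y :=
          S.fac_comm (hFne u hu (u * v) (mul_mem hu hv) (fun e => hv1 (mul_eq_left.1 e.symm))) hy hs'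
        have hse : s = x * (u * t' * u⁻¹)⁻¹ := by
          rw [eq_mul_inv_iff_mul_eq]
          calc s * (u * t' * u⁻¹) = u * x * u⁻¹ := by rw [hs, hx]; group
            _ = x := hconj
        rw [hse]
        exact ((show Commute y x from h1).mul_right (show Commute y _ from h2).inv_right).eq.symm
      have := S.fac_center (F u) hsU hcen
      rwa [hs, conj_eq_one_iff] at this
    · set H := T ⊔ V0 with hH
      have hHn : H ≤ Subgroup.normalizer (T : Set G) := sup_le Subgroup.le_normalizer inf_le_right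
      have hHtop : H ≠ ⊤ := fun e => hvT (Subgroup.mem_normalizer_iff_map_conj_eq.1
        (hHn (e ▸ Subgroup.mem_top v)))
      have hTO : T ⊓ Agent.CharP.opIn 2 H = ⊥ := by
        by_contra hne
        obtain ⟨t, ht, ht1, hto⟩ := hTno2
        have hsimp : IsSimpleGroup T := S.fac_simple ⟨T, 1, MinFactors.conjS_one _⟩
        haveI hn : ((T ⊓ Agent.CharP.opIn 2 H).subgroupOf T).Normal := by
          refine ⟨fun x hx g => ⟨?_, ?_⟩⟩
          · exact Subgroup.mul_mem _ (Subgroup.mul_mem _ g.2 hx.1) (Subgroup.inv_mem _ g.2)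
          · exact (Subgroup.mem_normalizer_iff.1 (Agent.CharP.le_normalizer_opIn (p := 2) H
              (Subgroup.mem_sup_left g.2)) _).1 hx.2
        rcases hn.eq_bot_or_eq_top with h | h
        · exact hne (by rw [← Subgroup.map_subgroupOf_eq_of_le (inf_le_left : T ⊓ Agent.CharP.opIn 2 H ≤ T), h,
            Subgroup.map_bot])
        · have htO : t ∈ Agent.CharP.opIn 2 H := ((Subgroup.subgroupOf_eq_top.1 h) ht).2
          exact ht1 (Agent.PBasic.eq_one_of_isPGroup_of_coprime (Agent.CharP.opIn_isPGroup H) htO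
            (Nat.coprime_two_right.2 hto))
      have hnot : ¬ ∀ h u : G, h ∈ H → u ∈ V0 → Odd (orderOf h) → u * h * u⁻¹ = h⁻¹ →
          ∃ w ∈ V0, w ≠ 1 ∧ w * h = h * w := by
        intro hsid
        obtain ⟨u, hu, hu1, huO⟩ := M.exists_mem_core inf_le_left hV01 le_sup_right hHtop hsid
        have hcT : ∀ y ∈ T, u * y = y * u := by
          intro y hy
          refine (commutatorElement_eq_one_iff_mul_comm.1 (Subgroup.mem_bot.1 ?_))
          rw [← hTO]
          refine ⟨?_, ?_⟩
          · rw [commutatorElement_def]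
            exact Subgroup.mul_mem _ ((Subgroup.mem_normalizer_iff.1 hu.2 y).1 hy)
              (Subgroup.inv_mem _ hy)
          · rw [commutatorElement_def, mul_assoc u y, mul_assoc u]
            exact Subgroup.mul_mem _ huO ((Subgroup.mem_normalizer_iff.1
              (Agent.CharP.le_normalizer_opIn (p := 2) H (Subgroup.mem_sup_left hy)) _).1
                (Subgroup.inv_mem _ huO))
        apply hu1
        rw [← Subgroup.mem_bot, ← hfaith]
        refine ⟨hu.1, ?_⟩
        have hle : S.N ≤ Subgroup.centralizer ({u} : Set G) := by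
          rw [← S.iSup_fac]
          refine iSup_le fun U => ?_
          obtain ⟨g, hg⟩ := U.2
          obtain ⟨a, ha, hga⟩ := hgV g
          rw [← hg, ← hTdef, hga]
          rintro _ ⟨y, hy, rfl⟩
          refine Subgroup.mem_centralizer_singleton_iff.2 ?_
          show a * y * a⁻¹ * u = u * (a * y * a⁻¹)
          have hau := M.vcomm ha hu.1
          have h1 : Commute u (a * y * a⁻¹) :=
            ((show Commute u a from hau.symm).mul_right (show Commute u y from hcT y hy)).mul_right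
              (show Commute u a from hau.symm).inv_right
          exact h1.eq.symm
        rw [hS] at hle
        exact Subgroup.mem_centralizer_iff.2 fun n hn =>
          Subgroup.mem_centralizer_singleton_iff.1 (hle hn)
      push Not at hnot
      obtain ⟨h, u, hhH, hu, hho, hinv, hnc⟩ := hnot
      have hhT : h ∈ T := by
        have h2 : h * h ∈ T := by
          have hh' : h ∈ V0 ⊔ T := by rwa [sup_comm]
          obtain ⟨a, ha, t, ht, rfl⟩ : ∃ a ∈ V0, ∃ t ∈ T, h = a * t := by
            have hsub : V0 ≤ Subgroup.normalizer (T : Set G) := inf_le_right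
            rw [← SetLike.mem_coe, Subgroup.coe_mul_of_left_le_normalizer_right V0 T hsub] at hh'
            obtain ⟨a, ha, t, ht, rfl⟩ := hh'
            exact ⟨a, ha, t, ht, rfl⟩
          rw [show a * t * (a * t) = (a * t) * (u * (a * t)⁻¹ * u⁻¹) by
            rw [← _root_.conj_inv, hinv, inv_inv]]
          have hau : a⁻¹ * u = u * a⁻¹ :=
            (show Commute a u from M.vcomm ha.1 hu.1).inv_left.eq
          rw [show a * t * (u * (a * t)⁻¹ * u⁻¹) = a * (t * (u * t⁻¹ * u⁻¹)) * (u * a⁻¹ * u⁻¹) by group,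
            ← hau, show a⁻¹ * u * u⁻¹ = a⁻¹ by group]
          exact (Subgroup.mem_normalizer_iff.1 ha.2 _).1
            (mul_mem ht ((Subgroup.mem_normalizer_iff.1 hu.2 _).1 (inv_mem ht)))
        obtain ⟨k, hk⟩ := hho
        have e : h = (h * h) ^ (k + 1) := by
          rw [← pow_two, ← pow_mul, show 2 * (k + 1) = orderOf h + 1 by omega, pow_succ,
            pow_orderOf_eq_one, one_mul]
        rw [e]
        exact pow_mem h2 _
      have hh1 : h ≠ 1 := by
        intro e
        obtain ⟨z, hz, hz1⟩ := (Subgroup.nontrivial_iff_exists_ne_one _).1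
          ((Subgroup.nontrivial_iff_ne_bot _).2 hV01)
        exact hnc z hz hz1 (by rw [e]; simp)
      obtain ⟨w, hw, hw1, hwh⟩ := M.sidki h u hu.1 hho hinv
      refine hnc w (hmem w hw ?_) hw1 hwh
      by_contra hne
      apply hh1
      have h1 : h ∈ (F w).1 ⊓ (⟨T, 1, MinFactors.conjS_one _⟩ : S.Fac).1 :=
        ⟨⟨h, hhT, show w * h * w⁻¹ = h by rw [hwh, mul_inv_cancel_right]⟩, hhT⟩
      rwa [S.fac_inf (fun e => hne (congrArg Subtype.val e)), Subgroup.mem_bot] at h1
  have hTeq : T = N := by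
    rw [← hS, ← S.iSup_fac]
    refine le_antisymm (le_iSup_of_le (⟨T, 1, MinFactors.conjS_one _⟩ : S.Fac) le_rfl)
      (iSup_le fun U => ?_)
    obtain ⟨g, hg⟩ := U.2
    obtain ⟨a, ha, hga⟩ := hgV g
    rw [← hg, ← hTdef, hga, hVT a ha]
  have hsimpN : IsSimpleGroup N := hTeq ▸ S.fac_simple ⟨T, 1, MinFactors.conjS_one _⟩
  -- `F*(G) = N`
  haveI := Agent.Components.generalizedFitting_normal (G := G)
  have hNF : N ≤ Cfsg.generalizedFittingSubgroup G := by
    rcases hmin _ inferInstance (inf_le_left : N ⊓ Cfsg.generalizedFittingSubgroup G ≤ N) with h | h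
    · exfalso
      apply hN.1.2
      rw [← le_bot_iff, ← h]
      refine le_inf le_rfl (le_trans ?_ Agent.Components.centralizer_generalizedFitting_le)
      exact Subgroup.commutator_eq_bot_iff_le_centralizer.1
        (le_bot_iff.1 (h ▸ Subgroup.commutator_le_inf _ _))
    · exact h.ge.trans inf_le_right
  have hFN : Cfsg.generalizedFittingSubgroup G ≤ N := by
    haveI := Agent.Components.fittingSubgroup_normal (G := G)
    have hfit : Cfsg.fittingSubgroup G ⊓ N = ⊥ := by
      rcases hmin _ inferInstance (inf_le_right : Cfsg.fittingSubgroup G ⊓ N ≤ N) with h | h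
      · exact h
      exfalso
      haveI := Agent.Components.fittingSubgroup_nilpotent (G := G)
      haveI : Group.IsNilpotent N :=
        Agent.Components.isNilpotent_mono (h.ge.trans inf_le_left)
      haveI : IsSimpleGroup N := hsimpN
      haveI : Group.IsSolvable N := inferInstance
      exact hna ⟨⟨fun a b => IsSimpleGroup.comm_iff_isSolvable.2 inferInstance a b⟩⟩
    refine sup_le ?_ ?_
    · rw [(Agent.Components.layer_eq_inner_sup_outer (B := N) hN.1.1.isSubnormal).1]
      refine sup_le (Subgroup.map_subtype_le _) ?_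
      have h := Subgroup.commutator_eq_bot_iff_le_centralizer.1
        ((Subgroup.commutator_comm _ _).trans
          (Agent.Components.layer_eq_inner_sup_outer (B := N) hN.1.1.isSubnormal).2)
      rw [hCN] at h
      exact h.trans bot_le
    · have h := Subgroup.commutator_eq_bot_iff_le_centralizer.1
        (le_bot_iff.1 (hfit ▸ Subgroup.commutator_le_inf (Cfsg.fittingSubgroup G) N))
      rw [hCN] at h
      exact h.trans bot_le
  rw [le_antisymm hFN hNF]
  exact ⟨hsimpN, hna, htop⟩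

end Minimal

/-- Minimal counterexample reduction for the Sidki pair problem. Let G be a finite group and V a nontrivial elementary abelian 2-subgroup satisfying the Sidki pair condition with V ∩ O₂(G) = 1. Suppose that for every finite group H of smaller order, every nontrivial elementary abelian 2-subgroup W of H satisfying the Sidki pair condition meets O₂(H) nontrivially, and that the same holds in G for every such subgroup W of order smaller than that of V. Then the generalized Fitting subgroup F*(G) is a non-abelian simple group and G = V F*(G). -/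
theorem result {G : Type u} [Group G] [Finite G] (V : Subgroup G) (hV : Cfsg.IsElementaryAbelian 2 V) (hV1 : V ≠ ⊥) (hS : Cfsg.IsSidkiPair V) (hVO : V ⊓ Cfsg.pCore 2 G = ⊥) (hminG : ∀ (H : Type u) [Group H] [Finite H] (W : Subgroup H), Nat.card H < Nat.card G → Cfsg.IsElementaryAbelian 2 W → W ≠ ⊥ → Cfsg.IsSidkiPair W → W ⊓ Cfsg.pCore 2 H ≠ ⊥) (hminV : ∀ W : Subgroup G, Nat.card W < Nat.card V → Cfsg.IsElementaryAbelian 2 W → W ≠ ⊥ → Cfsg.IsSidkiPair W → W ⊓ Cfsg.pCore 2 G ≠ ⊥) : IsSimpleGroup ↥(Cfsg.generalizedFittingSubgroup G) ∧ ¬ IsMulCommutative ↥(Cfsg.generalizedFittingSubgroup G) ∧ V ⊔ Cfsg.generalizedFittingSubgroup G = ⊤ :=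
  Minimal.main ⟨hV, hV1, hS, hVO, hminG, hminV⟩

end Cfsg.Agent.S3048
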