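import Cfsg.Statements.S3050
import Cfsg.Agent.Lib.LocalEven.SL2Fpf
-- import your own Cfsg.Agent.* helpers here

set_option autoImplicit false
open Cfsg

namespace Cfsg.Agent.S3050

open Cfsg.Agent.SL2Fpf Cfsg.Agent.SL2Quad Cfsg.Agent.LENat
open scoped IsMulCommutative

universe u

section Conj

variable {G : Type*} [Group G] (N : Subgroup G) [N.Normal]

/-- Conjugation on an abelian normal subgroup. -/
def conjEnd [IsMulCommutative N] : G →* AddMonoid.End (Additive ↥N) where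
  toFun g := MonoidHom.toAdditive (MulAut.conjNormal (H := N) g).toMonoidHom
  map_one' := AddMonoidHom.ext fun a => by
    refine Additive.toMul.injective (Subtype.ext ?_)
    show ((MulAut.conjNormal (H := N) (1 : G) (Additive.toMul a) : ↥N) : G) = ((Additive.toMul a : ↥N) : G)
    simp
  map_mul' g h := AddMonoidHom.ext fun a => by
    refine Additive.toMul.injective (Subtype.ext ?_)
    show ((MulAut.conjNormal (H := N) (g * h) (Additive.toMul a) : ↥N) : G) =
      ((MulAut.conjNormal (H := N) g (MulAut.conjNormal (H := N) h (Additive.toMul a)) : ↥N) : G)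
    rw [map_mul]
    rfl

theorem conjEnd_apply [IsMulCommutative N] (g : G) (a : Additive ↥N) :
    ((Additive.toMul (conjEnd N g a) : ↥N) : G) = g * ((Additive.toMul a : ↥N) : G) * g⁻¹ :=
  MulAut.conjNormal_apply g (Additive.toMul a)

variable {F : Type*} [Field F] (Q : Subgroup G) [Q.Normal]
  (e : G ⧸ Q ≃* Matrix.SpecialLinearGroup (Fin 2) F) (hQN : Q ≤ Subgroup.centralizer (N : Set G))

/-- The action of `SL₂` on an abelian normal subgroup centralized by `Q`. -/
def act [IsMulCommutative N] : Matrix.SpecialLinearGroup (Fin 2) F →* AddMonoid.End (Additive ↥N) :=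
  (QuotientGroup.lift Q (conjEnd N) (fun g hg => AddMonoidHom.ext fun a => by
    refine Additive.toMul.injective (Subtype.ext ?_)
    show ((MulAut.conjNormal (H := N) g (Additive.toMul a) : ↥N) : G) = ((Additive.toMul a : ↥N) : G)
    rw [MulAut.conjNormal_apply]
    rw [← Subgroup.mem_centralizer_iff.1 (hQN hg) _ (Additive.toMul a).2, mul_inv_cancel_right])).comp
    e.symm.toMonoidHom

theorem act_apply [IsMulCommutative N] (g : G) (a : Additive ↥N) :
    ((Additive.toMul (act N Q e hQN (e (QuotientGroup.mk g)) a) : ↥N) : G) =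
      g * ((Additive.toMul a : ↥N) : G) * g⁻¹ := by
  rw [← conjEnd_apply N g a]
  simp only [act, MonoidHom.comp_apply, MulEquiv.coe_toMonoidHom, MulEquiv.symm_apply_apply]
  rfl

theorem fpf_act [CharP F 2] [Finite F] [IsMulCommutative N] {x : G} (hx3 : x ^ 3 = 1) (hxQ : x ∉ Q)
    (hfix : ∀ n ∈ N, x * n * x⁻¹ = n → n = 1) : Fpf (act N Q e hQN) := by
  have h3 : orderOf (e (QuotientGroup.mk x)) = 3 := by
    refine orderOf_eq_prime ?_ fun h => hxQ ((QuotientGroup.eq_one_iff x).1 ?_)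
    · rw [← map_pow, ← QuotientGroup.mk_pow, hx3, QuotientGroup.mk_one, map_one]
    · exact e.injective (h.trans (map_one e).symm)
  obtain ⟨h, hh⟩ := exists_conj h3
  intro a ha
  have h1 : act N Q e hQN (e (QuotientGroup.mk x)) (act N Q e hQN h a) = act N Q e hQN h a := by
    rw [hh, ← act_mul, mul_assoc, inv_mul_cancel, mul_one, act_mul, ha]
  have h2 : act N Q e hQN h a = 0 := by
    have := congrArg (fun z => ((Additive.toMul z : ↥N) : G)) h1
    rw [act_apply] at this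
    exact Additive.toMul.injective (Subtype.ext (hfix _ (Additive.toMul (act N Q e hQN h a)).2 this))
  have h4 := congrArg (act N Q e hQN h⁻¹) h2
  rwa [← act_mul, inv_mul_cancel, act_one, map_zero] at h4

theorem exp_act [IsMulCommutative N] (hN : IsPGroup 2 N) (a : Additive ↥N) : ∃ m : ℕ, (2 ^ m : ℕ) • a = 0 := by
  obtain ⟨m, hm⟩ := hN (Additive.toMul a)
  exact ⟨m, Additive.toMul.injective hm⟩

end Conj

theorem exists_s {F : Type*} [Field F] [Fintype F] {n : ℕ} (hn : 2 ≤ n) (hF : Fintype.card F = 2 ^ n) :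
    ∃ s : F, s ≠ 0 ∧ s ≠ 1 := by
  classical
  by_contra h
  push Not at h
  have hsub : (Finset.univ : Finset F) ⊆ {0, 1} := fun s _ => by
    rcases eq_or_ne s 0 with h0 | h0
    · simp [h0]
    · simp [h s h0]
  have h1 := (Finset.card_le_card hsub).trans Finset.card_le_two
  rw [Finset.card_univ, hF] at h1
  have h2 : 2 ^ 2 ≤ 2 ^ n := Nat.pow_le_pow_right (by norm_num) hn
  omega

theorem comm_Q {F : Type*} [Field F] [Fintype F] [CharP F 2] (s₀ : F) (h0 : s₀ ≠ 0) (h1 : s₀ ≠ 1) :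
    ∀ (m : ℕ) (G : Type u) [Group G] [Finite G], Nat.card G ≤ m → ∀ (Q : Subgroup G) [Q.Normal],
      IsPGroup 2 Q → (G ⧸ Q ≃* Matrix.SpecialLinearGroup (Fin 2) F) → ∀ x : G, x ^ 3 = 1 → x ∉ Q →
      (∀ q ∈ Q, x * q * x⁻¹ = q → q = 1) → ∀ a ∈ Q, ∀ b ∈ Q, a * b = b * a := by
  classical
  intro m
  induction m with
  | zero => intro G _ _ hc; exact absurd hc (not_le.2 Nat.card_pos)
  | succ m ih =>
    intro G _ _ hc Q _ hQ e x hx3 hxQ hfix
    rcases eq_or_ne Q ⊥ with hQb | hQb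
    · intro a ha b hb
      rw [hQb, Subgroup.mem_bot] at ha hb
      rw [ha, hb]
    haveI : Nontrivial ↥Q := (Subgroup.nontrivial_iff_ne_bot Q).2 hQb
    -- the centre of `Q`
    let Z : Subgroup G := (Subgroup.center ↥Q).map Q.subtype
    have hZQ : Z ≤ Q := Subgroup.map_subtype_le _
    have hZc : ∀ z ∈ Z, ∀ q ∈ Q, z * q = q * z := by
      rintro _ ⟨z, hz, rfl⟩ q hq
      exact (congrArg Subtype.val (Subgroup.mem_center_iff.1 hz ⟨q, hq⟩)).symm
    haveI hZn : Z.Normal := ConjAct.normal_of_characteristic_of_normal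
    haveI : IsMulCommutative Z := ⟨⟨fun a b => Subtype.ext (hZc a a.2 b (hZQ b.2))⟩⟩
    have hQZ : Q ≤ Subgroup.centralizer (Z : Set G) := fun q hq =>
      Subgroup.mem_centralizer_iff.2 fun z hz => hZc z hz q hq
    have hfZ := fpf_act Z Q e hQZ hx3 hxQ fun n hn => hfix n (hZQ hn)
    obtain ⟨hZ2, -⟩ := natural_sum (act Z Q e hQZ) hfZ s₀ h0 h1 (exp_act Z (hQ.to_le hZQ))
    have htopC := top (act Z Q e hQZ) hfZ s₀ h0 h1 (exp_act Z (hQ.to_le hZQ))
    have hz2 : ∀ z ∈ Z, z * z = 1 := fun z hz =>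
      congrArg (fun w => ((Additive.toMul w : ↥Z) : G)) (hZ2 (Additive.ofMul ⟨z, hz⟩))
    -- the quotient
    let π := QuotientGroup.mk' Z
    haveI hQn : (Q.map π).Normal := Subgroup.Normal.map inferInstance π (QuotientGroup.mk'_surjective Z)
    have hlt : Nat.card (G ⧸ Z) ≤ m := by
      haveI : Nontrivial (Subgroup.center ↥Q) := hQ.center_nontrivial
      have hZ1 : 1 < Nat.card Z := by
        rw [Nat.card_congr ((Subgroup.center ↥Q).equivMapOfInjective Q.subtype Q.subtype_injective).toEquiv.symm]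
        exact Finite.one_lt_card
      have hG := Subgroup.card_eq_card_quotient_mul_card_subgroup Z
      have hpos : 0 < Nat.card (G ⧸ Z) := Nat.card_pos
      have : Nat.card (G ⧸ Z) * 2 ≤ Nat.card (G ⧸ Z) * Nat.card Z := Nat.mul_le_mul_left _ hZ1
      omega
    have hxQ' : π x ∉ Q.map π := by
      rintro ⟨q, hq, hqx⟩
      obtain ⟨z, hz, hqz⟩ := (QuotientGroup.mk'_eq_mk' Z).1 hqx
      exact hxQ (hqz ▸ Q.mul_mem hq (hZQ hz))
    have hfix' : ∀ q ∈ Q.map π, π x * q * (π x)⁻¹ = q → q = 1 := by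
      rintro _ ⟨q, hq, rfl⟩ heq
      rw [← map_inv, ← map_mul, ← map_mul] at heq
      obtain ⟨z, hz, hqz⟩ := (QuotientGroup.mk'_eq_mk' Z).1 heq.symm
      have hy : ∀ {y : G}, y ∈ Z → x * y * x⁻¹ ∈ Z := fun hy => hZn.conj_mem _ hy x
      have hsum : z * (x * z * x⁻¹) * (x * (x * z * x⁻¹) * x⁻¹) = 1 := by
        refine hfix _ (hZQ (Z.mul_mem (Z.mul_mem hz (hy hz)) (hy (hy hz)))) ?_
        have h3 : x * (x * (x * z * x⁻¹) * x⁻¹) * x⁻¹ = z := by
          have : x * (x * (x * z * x⁻¹) * x⁻¹) * x⁻¹ = x ^ 3 * z * (x ^ 3)⁻¹ := by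
            simp only [pow_succ, pow_zero, one_mul, mul_inv_rev, mul_assoc]
          rw [this, hx3, one_mul, inv_one, mul_one]
        calc x * (z * (x * z * x⁻¹) * (x * (x * z * x⁻¹) * x⁻¹)) * x⁻¹
            = (x * z * x⁻¹) * (x * (x * z * x⁻¹) * x⁻¹) * (x * (x * (x * z * x⁻¹) * x⁻¹) * x⁻¹) := by group
          _ = (x * z * x⁻¹) * (x * (x * z * x⁻¹) * x⁻¹) * z := by rw [h3]
          _ = z * (x * z * x⁻¹) * (x * (x * z * x⁻¹) * x⁻¹) := by
            rw [mul_assoc z, hZc z hz _ (hZQ (Z.mul_mem (hy hz) (hy (hy hz))))]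
      have hkey : z * (x * (x * z * x⁻¹) * x⁻¹) = x * z * x⁻¹ := by
        rw [mul_assoc, hZc _ (hy hz) _ (hZQ (hy (hy hz))), ← mul_assoc, mul_eq_one_iff_eq_inv] at hsum
        rw [hsum, inv_eq_of_mul_eq_one_left (hz2 _ (hy hz))]
      have h4 := hfix (q * (x * z * x⁻¹)) (Q.mul_mem hq (hZQ (hy hz))) (by
        calc x * (q * (x * z * x⁻¹)) * x⁻¹ = (x * q * x⁻¹) * (x * (x * z * x⁻¹) * x⁻¹) := by group
          _ = q * (x * z * x⁻¹) := by rw [← hqz, mul_assoc, hkey])
      exact (QuotientGroup.eq_one_iff q).2 (eq_inv_of_mul_eq_one_left h4 ▸ Z.inv_mem (hy hz))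
    have hx3' : (π x) ^ 3 = 1 := by rw [← map_pow, hx3, map_one]
    let e' : (G ⧸ Z) ⧸ Q.map π ≃* Matrix.SpecialLinearGroup (Fin 2) F :=
      (QuotientGroup.quotientQuotientEquivQuotient Z Q hZQ).trans e
    have hcomm := ih (G ⧸ Z) hlt (Q.map π) (hQ.map π) e' (π x) hx3' hxQ' hfix'
    haveI : IsMulCommutative (Q.map π) := ⟨⟨fun a b => Subtype.ext (hcomm a a.2 b b.2)⟩⟩
    have hQV : Q.map π ≤ Subgroup.centralizer ((Q.map π : Subgroup (G ⧸ Z)) : Set (G ⧸ Z)) := fun q hq =>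
      Subgroup.mem_centralizer_iff.2 fun z hz => hcomm z hz q hq
    have hfV := fpf_act (Q.map π) (Q.map π) e' hQV hx3' hxQ' hfix'
    have htopV := top (act (Q.map π) (Q.map π) e' hQV) hfV s₀ h0 h1 (exp_act (Q.map π) (hQ.map π))
    -- the commutator pairing
    have hsec : ∀ a : Additive ↥(Q.map π), ∃ q, q ∈ Q ∧ π q = ((Additive.toMul a : ↥(Q.map π)) : G ⧸ Z) :=
      fun a => (Additive.toMul a).2
    choose s hsQ hs using hsec
    have hc : ∀ p ∈ Q, ∀ q ∈ Q, p * q * p⁻¹ * q⁻¹ ∈ Z := fun p hp q hq => by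
      refine (QuotientGroup.eq_one_iff _).1 ?_
      show π (p * q * p⁻¹ * q⁻¹) = 1
      rw [map_mul, map_mul, map_mul, map_inv, map_inv, hcomm _ ⟨p, hp, rfl⟩ _ ⟨q, hq, rfl⟩,
        mul_inv_cancel_right, mul_inv_cancel]
    have hcong : ∀ {p p' q q' : G}, p ∈ Q → p' ∈ Q → q ∈ Q → q' ∈ Q → π p = π p' → π q = π q' →
        p * q * p⁻¹ * q⁻¹ = p' * q' * p'⁻¹ * q'⁻¹ := by
      intro p p' q q' hp hp' hq hq' hpp hqq
      obtain ⟨z, hz, rfl⟩ := (QuotientGroup.mk'_eq_mk' Z).1 hpp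
      obtain ⟨w, hw, rfl⟩ := (QuotientGroup.mk'_eq_mk' Z).1 hqq
      have e1 : p * z * (q * w) * (p * z)⁻¹ * (q * w)⁻¹ =
          p * (z * (q * w) * z⁻¹) * p⁻¹ * (q * w)⁻¹ := by group
      rw [e1, hZc z hz _ hq', mul_inv_cancel_right]
      have e2 : p * (q * w) * p⁻¹ * (q * w)⁻¹ = p * q * (w * p⁻¹ * w⁻¹) * q⁻¹ := by group
      rw [e2, hZc w hw _ (Q.inv_mem hp), mul_inv_cancel_right]
    let c : Additive ↥(Q.map π) → Additive ↥(Q.map π) → Additive ↥Z := fun a b =>
      Additive.ofMul ⟨s a * s b * (s a)⁻¹ * (s b)⁻¹, hc _ (hsQ a) _ (hsQ b)⟩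
    have hcr : ∀ a b b', c a (b + b') = c a b + c a b' := by
      intro a b b'
      refine Additive.toMul.injective (Subtype.ext ?_)
      show s a * s (b + b') * (s a)⁻¹ * (s (b + b'))⁻¹ =
        (s a * s b * (s a)⁻¹ * (s b)⁻¹) * (s a * s b' * (s a)⁻¹ * (s b')⁻¹)
      rw [hcong (hsQ a) (hsQ a) (hsQ (b + b')) (Q.mul_mem (hsQ b) (hsQ b')) rfl (by rw [map_mul, hs, hs, hs]; rfl)]
      calc s a * (s b * s b') * (s a)⁻¹ * (s b * s b')⁻¹
          = (s a * s b * (s a)⁻¹) * ((s a * s b' * (s a)⁻¹ * (s b')⁻¹) * (s b)⁻¹) := by group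
        _ = (s a * s b * (s a)⁻¹) * ((s b)⁻¹ * (s a * s b' * (s a)⁻¹ * (s b')⁻¹)) := by
            rw [hZc _ (hc _ (hsQ a) _ (hsQ b')) _ (Q.inv_mem (hsQ b))]
        _ = _ := by group
    have hcl : ∀ a a' b, c (a + a') b = c a b + c a' b := by
      intro a a' b
      refine Additive.toMul.injective (Subtype.ext ?_)
      show s (a + a') * s b * (s (a + a'))⁻¹ * (s b)⁻¹ =
        (s a * s b * (s a)⁻¹ * (s b)⁻¹) * (s a' * s b * (s a')⁻¹ * (s b)⁻¹)
      rw [hcong (hsQ (a + a')) (Q.mul_mem (hsQ a) (hsQ a')) (hsQ b) (hsQ b) (by rw [map_mul, hs, hs, hs]; rfl) rfl]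
      calc s a * s a' * s b * (s a * s a')⁻¹ * (s b)⁻¹
          = (s a * (s a' * s b * (s a')⁻¹ * (s b)⁻¹)) * (s b * (s a)⁻¹ * (s b)⁻¹) := by group
        _ = ((s a' * s b * (s a')⁻¹ * (s b)⁻¹) * s a) * (s b * (s a)⁻¹ * (s b)⁻¹) := by
            rw [hZc _ (hc _ (hsQ a') _ (hsQ b)) _ (hsQ a)]
        _ = (s a' * s b * (s a')⁻¹ * (s b)⁻¹) * (s a * s b * (s a)⁻¹ * (s b)⁻¹) := by group
        _ = _ := hZc _ (hc _ (hsQ a') _ (hsQ b)) _ (hZQ (hc _ (hsQ a) _ (hsQ b)))
    let B : Additive ↥(Q.map π) →+ Additive ↥(Q.map π) →+ Additive ↥Z :=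
      AddMonoidHom.mk' (fun a => AddMonoidHom.mk' (c a) (hcr a)) (fun a a' => AddMonoidHom.ext (hcl a a'))
    have halt : ∀ a, B a a = 0 := fun a => Additive.toMul.injective (Subtype.ext
      (show s a * s a * (s a)⁻¹ * (s a)⁻¹ = 1 by group))
    have heq : ∀ g a b, act Z Q e hQZ g (B a b) =
        B (act (Q.map π) (Q.map π) e' hQV g a) (act (Q.map π) (Q.map π) e' hQV g b) := by
      intro g a b
      obtain ⟨y, hy⟩ := QuotientGroup.mk_surjective (e.symm g)
      have hg : g = e (QuotientGroup.mk y) := by rw [hy, e.apply_symm_apply]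
      have hg' : g = e' (QuotientGroup.mk (π y)) := hg
      refine Additive.toMul.injective (Subtype.ext ?_)
      conv_lhs => rw [hg, act_apply]
      have hA : ∀ a, π (y * s a * y⁻¹) = π (s (act (Q.map π) (Q.map π) e' hQV g a)) := fun a => by
        rw [map_mul, map_mul, map_inv, hs, hs, hg', act_apply]
      show y * (s a * s b * (s a)⁻¹ * (s b)⁻¹) * y⁻¹ = _ * _ * _⁻¹ * _⁻¹
      rw [← hcong (Subgroup.Normal.conj_mem inferInstance _ (hsQ a) y) (hsQ _)
        (Subgroup.Normal.conj_mem inferInstance _ (hsQ b) y) (hsQ _) (hA a) (hA b)]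
      group
    have hB := pairing_eq_zero (act (Q.map π) (Q.map π) e' hQV) (act Z Q e hQZ) hfV hfZ htopV htopC s₀ h0 h1
      B halt heq
    intro p hp q hq
    have := congrArg (fun z => ((Additive.toMul z : ↥Z) : G))
      (hB (Additive.ofMul ⟨π p, p, hp, rfl⟩) (Additive.ofMul ⟨π q, q, hq, rfl⟩))
    change s _ * s _ * (s _)⁻¹ * (s _)⁻¹ = 1 at this
    rw [hcong (hsQ _) hp (hsQ _) hq (hs _) (hs _), mul_inv_eq_one, mul_inv_eq_iff_eq_mul] at this
    exact this


/-- Let G be a finite group with a normal 2-subgroup Q such that G/Q is isomorphic to SL(2, 2ⁿ) with n ≥ 2, and suppose some element of G of order 3 fixes no nonidentity element of Q under conjugation. Then Q is elementary abelian and is the direct product of normal subgroups of G on each of which G acts as SL(2, 2ⁿ) acts on its natural two-dimensional module (a Galois twist of the natural action allowed). -/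
theorem result {G : Type*} [Group G] [Finite G]
    (Q : Subgroup G) [Q.Normal] (hQ : IsPGroup 2 ↥Q) (n : ℕ) (hn : 2 ≤ n)
    (K : Type*) [Field K] [Fintype K] (hK : Fintype.card K = 2 ^ n)
    (e : G ⧸ Q ≃* Matrix.SpecialLinearGroup (Fin 2) K)
    (x : G) (hx : orderOf x = 3) (hfpf : ∀ q ∈ Q, x * q * x⁻¹ = q → q = 1) :
    Cfsg.IsElementaryAbelian 2 Q ∧
      ∃ (k : ℕ) (V : Fin k → Subgroup G), (∀ i, V i ≤ Q ∧ (V i).Normal ∧
        Cfsg.ActsAsSL2OnSection K ⊤ ⊤ (V i) ⊥) ∧ iSupIndep V ∧ ⨆ i, V i = Q := by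
  classical
  haveI : CharP K 2 := Cfsg.Agent.LENat.charP_of_card hK
  obtain ⟨s₀, h0, h1⟩ := exists_s hn hK
  have hx3 : x ^ 3 = 1 := hx ▸ pow_orderOf_eq_one x
  have hxQ : x ∉ Q := by
    intro h
    obtain ⟨m, hm⟩ := hQ ⟨x, h⟩
    have h2 : 3 ∣ 2 ^ m := hx ▸ orderOf_dvd_of_pow_eq_one (congrArg Subtype.val hm)
    exact absurd (Nat.Prime.dvd_of_dvd_pow (by norm_num) h2) (by norm_num)
  have hcomm := comm_Q s₀ h0 h1 (Nat.card G) G le_rfl Q hQ e x hx3 hxQ hfpf
  haveI : IsMulCommutative Q := ⟨⟨fun a b => Subtype.ext (hcomm a a.2 b b.2)⟩⟩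
  have hQQ : Q ≤ Subgroup.centralizer (Q : Set G) := fun q hq =>
    Subgroup.mem_centralizer_iff.2 fun z hz => hcomm z hz q hq
  have hf := fpf_act Q Q e hQQ hx3 hxQ hfpf
  obtain ⟨h2, k, Ψ, hΨ⟩ := natural_sum (act Q Q e hQQ) hf s₀ h0 h1 (exp_act Q hQ)
  refine ⟨⟨inferInstance, fun a ha => ?_⟩, ?_⟩
  · rw [pow_two]
    exact congrArg (fun w => ((Additive.toMul w : ↥Q) : G)) (h2 (Additive.ofMul ⟨a, ha⟩))
  let Φ : Multiplicative (Fin k → Fin 2 → K) →* G :=
    Q.subtype.comp (AddMonoidHom.toMultiplicativeLeft (β := ↥Q) Ψ.toAddMonoidHom)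
  have hΦ : ∀ v, Φ (Multiplicative.ofAdd v) = ((Additive.toMul (Ψ v) : ↥Q) : G) := fun v => rfl
  have hΦi : ∀ v w, Φ (Multiplicative.ofAdd v) = Φ (Multiplicative.ofAdd w) → v = w := fun v w h =>
    Ψ.injective (Additive.toMul.injective (Subtype.ext h))
  have hact : ∀ (y : G) v, y * Φ (Multiplicative.ofAdd v) * y⁻¹ =
      Φ (Multiplicative.ofAdd fun i => ((e (QuotientGroup.mk y) : Matrix.SpecialLinearGroup (Fin 2) K) :
        Matrix (Fin 2) (Fin 2) K).mulVec (v i)) := fun y v => by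
    rw [hΦ, hΦ, ← hΨ, act_apply]
  let sg : Fin k → Multiplicative (Fin 2 → K) →* G := fun i =>
    Φ.comp (AddMonoidHom.toMultiplicative (AddMonoidHom.single (fun _ : Fin k => Fin 2 → K) i))
  have hsg : ∀ i w, sg i (Multiplicative.ofAdd w) = Φ (Multiplicative.ofAdd (Pi.single i w)) := fun i w => rfl
  refine ⟨k, fun i => (sg i).range, fun i => ⟨?_, ?_, ?_⟩, ?_, ?_⟩
  · rintro _ ⟨w, rfl⟩
    exact SetLike.coe_mem _
  · refine ⟨?_⟩
    rintro _ ⟨w, rfl⟩ y
    refine ⟨Multiplicative.ofAdd (((e (QuotientGroup.mk y) : Matrix.SpecialLinearGroup (Fin 2) K) :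
      Matrix (Fin 2) (Fin 2) K).mulVec w.toAdd), ?_⟩
    rw [hsg, show w = Multiplicative.ofAdd w.toAdd from rfl, hsg, hact]
    congr 2
    funext j
    rcases eq_or_ne j i with rfl | hj
    · simp
    · simp [hj]
  · have hinj : Function.Injective (sg i) := fun a b h => Pi.single_injective i (hΦi _ _ h)
    let E := MonoidHom.ofInjective hinj
    refine ⟨fun y _ => Subgroup.mem_normalizer_iff.2 fun u => ?_, bot_le,
      e.toMonoidHom.comp ((QuotientGroup.mk' Q).comp (⊤ : Subgroup G).subtype), E.symm.toMonoidHom,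
      ?_, E.symm.surjective, fun u => ?_, fun y u => ?_⟩
    · have hn : (sg i).range.Normal := by
        refine ⟨?_⟩
        rintro _ ⟨w, rfl⟩ y
        refine ⟨Multiplicative.ofAdd (((e (QuotientGroup.mk y) : Matrix.SpecialLinearGroup (Fin 2) K) :
          Matrix (Fin 2) (Fin 2) K).mulVec w.toAdd), ?_⟩
        rw [hsg, show w = Multiplicative.ofAdd w.toAdd from rfl, hsg, hact]
        congr 2
        funext j
        rcases eq_or_ne j i with rfl | hj
        · simp
        · simp [hj]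
      exact ⟨fun h => hn.conj_mem _ h _, fun h => by simpa [mul_assoc] using hn.conj_mem _ h y⁻¹⟩
    · exact MonoidHom.range_eq_top.2 (e.surjective.comp ((QuotientGroup.mk'_surjective Q).comp
        fun g => ⟨⟨g, Subgroup.mem_top g⟩, rfl⟩))
    · rw [Subgroup.mem_bot]
      constructor
      · intro h
        have := congrArg E h
        rw [map_one] at this
        exact congrArg Subtype.val ((E.apply_symm_apply u).symm.trans this)
      · intro h
        rw [show u = 1 from Subtype.ext h, map_one]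
    · obtain ⟨w, rfl⟩ := E.surjective u
      refine ⟨E (Multiplicative.ofAdd (((e (QuotientGroup.mk (y : G)) : Matrix.SpecialLinearGroup (Fin 2) K) :
        Matrix (Fin 2) (Fin 2) K).mulVec w.toAdd)), ?_, ?_⟩
      · show sg i _ = (y : G) * sg i w * (y : G)⁻¹
        rw [hsg, show w = Multiplicative.ofAdd w.toAdd from rfl, hsg, hact]
        congr 2
        funext j
        rcases eq_or_ne j i with rfl | hj
        · simp
        · simp [hj]
      · show Multiplicative.toAdd (E.symm (E _)) = _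
        rw [E.symm_apply_apply]
        show _ = (_ : Matrix (Fin 2) (Fin 2) K).mulVec (Multiplicative.toAdd (E.symm (E w)))
        rw [E.symm_apply_apply]
        rfl
  · rw [iSupIndep_def]
    intro i
    rw [Subgroup.disjoint_def]
    intro u hu hu'
    obtain ⟨w, rfl⟩ := hu
    let P : Subgroup G := (((Pi.evalAddMonoidHom (fun _ : Fin k => Fin 2 → K) i).toMultiplicative).ker).map Φ
    have hle : (⨆ j, ⨆ (_ : j ≠ i), (sg j).range) ≤ P := by
      refine iSup₂_le fun j hj => ?_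
      rintro _ ⟨z, rfl⟩
      refine ⟨_, ?_, rfl⟩
      show Multiplicative.ofAdd ((Pi.single j z.toAdd : Fin k → Fin 2 → K) i) = 1
      rw [Pi.single_eq_of_ne hj.symm, ofAdd_zero]
    obtain ⟨z, hz, hzu⟩ := hle hu'
    have h3 : z.toAdd = Pi.single i w.toAdd := hΦi _ _ hzu
    have h4 : z.toAdd i = 0 := hz
    rw [h3, Pi.single_eq_same] at h4
    rw [show w = Multiplicative.ofAdd w.toAdd from rfl, h4, ofAdd_zero, map_one]
  · refine le_antisymm (iSup_le fun i => ?_) fun q hq => ?_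
    · rintro _ ⟨w, rfl⟩
      exact SetLike.coe_mem _
    · obtain ⟨v, hv⟩ := Ψ.surjective (Additive.ofMul ⟨q, hq⟩)
      have hq' : q = Φ (Multiplicative.ofAdd v) := by rw [hΦ, hv]; rfl
      rw [hq', ← Finset.univ_sum_single v]
      refine Finset.sum_induction _ (fun z => Φ (Multiplicative.ofAdd z) ∈ ⨆ i, (sg i).range) ?_ ?_ ?_
      · intro a b ha hb
        rw [ofAdd_add, map_mul]
        exact mul_mem ha hb
      · rw [ofAdd_zero, map_one]; exact one_mem _
      · intro j _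
        exact Subgroup.mem_iSup_of_mem j ⟨Multiplicative.ofAdd (v j), rfl⟩

end Cfsg.Agent.S3050
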