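import Cfsg.Statements.S3064
import Cfsg.Agent.Lib.Isolated.Central

set_option autoImplicit false
open Cfsg

namespace Cfsg.Agent.S3064

/-- Let S be a Sylow p-subgroup of the finite group G and x an element of S such that (i) x is the only G-conjugate of x lying in S, and (ii) x centralizes every subgroup of order prime to p that it normalizes. Then x lies in the centre of G. -/
theorem result {G : Type*} [Group G] [Finite G] {p : ℕ} [Fact p.Prime]
    (S : Sylow p G) (x : G) (hx : x ∈ S)
    (hU : ∀ g : G, g⁻¹ * x * g ∈ S → g⁻¹ * x * g = x)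
    (hb : ∀ H : Subgroup G, (Nat.card H).Coprime p → (∀ h ∈ H, x * h * x⁻¹ ∈ H) → ∀ h ∈ H, x * h = h * x) :
    x ∈ Subgroup.center G := by
  have hxp : IsPGroup p (Subgroup.zpowers x) := S.isPGroup'.to_le (Subgroup.zpowers_le.2 hx)
  refine Cfsg.Agent.IsolatedCentral.mem_center _ G rfl x hxp (fun g hg => ?_) hb
  have hU' : IsPGroup p (Subgroup.zpowers x ⊔ Subgroup.zpowers (g * x * g⁻¹) : Subgroup G) := by
    refine IsPGroup.to_sup_of_normal_right' hxp ?_ ?_
    · have h := hxp.map (MulAut.conj g).toMonoidHom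
      rwa [MonoidHom.map_zpowers] at h
    · refine (Subgroup.zpowers_le.2 ?_).trans (Subgroup.centralizer_le_normalizer _)
      refine Subgroup.mem_centralizer_iff.2 fun y hy => ?_
      obtain ⟨i, rfl⟩ := Subgroup.mem_zpowers_iff.1 hy
      exact ((show Commute (g * x * g⁻¹) x from hg).zpow_left i).eq
  obtain ⟨T, hT⟩ := hU'.exists_le_sylow
  obtain ⟨c, hc⟩ := MulAction.exists_smul_eq G T S
  have hmem : ∀ u ∈ (T : Subgroup G), c * u * c⁻¹ ∈ S := by
    intro u hu
    show c * u * c⁻¹ ∈ (S : Subgroup G)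
    rw [← hc, Sylow.smul_def, Sylow.pointwise_smul_def]
    exact Subgroup.smul_mem_pointwise_smul u (MulAut.conj c) _ hu
  have h1 := hU c⁻¹ (by
    simpa using hmem _ (hT (Subgroup.mem_sup_left (Subgroup.mem_zpowers x))))
  have h2 := hU (g⁻¹ * c⁻¹) (by
    simpa [mul_assoc] using hmem _ (hT (Subgroup.mem_sup_right (Subgroup.mem_zpowers (g * x * g⁻¹)))))
  simp only [inv_inv, mul_inv_rev] at h1 h2
  have h3 : c * (g * x * g⁻¹) * c⁻¹ = c * x * c⁻¹ := by
    rw [h1]
    simpa [mul_assoc] using h2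
  exact mul_left_cancel (mul_right_cancel h3)

end Cfsg.Agent.S3064
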