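import Cfsg.Statements.S3067
import Cfsg.Agent.Lib.CentInvol.Main

set_option autoImplicit false
open Cfsg

namespace Cfsg.Agent.S3067

/-- Let G be a finite non-abelian simple group, τ an involution of G, and α a nontrivial automorphism of G whose order is coprime to the order of G. Then α moves some element of the centralizer of τ: α does not fix C_G(τ) elementwise. -/
theorem result {G : Type*} [Group G] [Finite G] [IsSimpleGroup G]
    (hG : ¬ IsMulCommutative G) (τ : G) (hτ : orderOf τ = 2) (α : MulAut G) (hα : α ≠ 1)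
    (hcop : (orderOf α).Coprime (Nat.card G)) :
    ∃ c ∈ Subgroup.centralizer ({τ} : Set G), α c ≠ c := by
  by_contra hno
  push Not at hno
  haveI : Finite (MulAut G) := Finite.of_injective _ MulEquiv.toEquiv_injective
  have hn1 : orderOf α ≠ 1 := fun h => hα (orderOf_eq_one_iff.1 h)
  obtain ⟨r, hr, hrd⟩ := Nat.exists_prime_and_dvd hn1
  have hso : orderOf (α ^ (orderOf α / r)) = r := orderOf_pow_orderOf_div (orderOf_pos α).ne' hrd
  have hfix : ∀ (n : ℕ) (c : G), Commute c τ → (α ^ n) c = c := by
    intro n c hc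
    induction n with
    | zero => simp
    | succ n ih =>
      rw [pow_succ, MulAut.mul_apply, hno c (Subgroup.mem_centralizer_singleton_iff.2 hc.eq), ih]
  have hcopr : Cfsg.Agent.CoprimeHHS.Cop r (α ^ (orderOf α / r)) :=
    ⟨hr, orderOf_dvd_iff_pow_eq_one.1 (dvd_of_eq hso), fun hd =>
      hr.not_dvd_one (hcop ▸ Nat.dvd_gcd hrd hd)⟩
  have htriv := Cfsg.Agent.CentInvol.trivial G r _ τ hcopr ⟨hτ, hfix _⟩
  have hO : Cfsg.pPrimeCore 2 G = ⊥ := by
    refine ((Cfsg.Agent.FittingCores.pPrimeCore_normal (G := G) 2).eq_bot_or_eq_top).resolve_right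
      fun htop => ?_
    have h := Cfsg.Agent.FittingCores.pPrimeCore_coprime (G := G) 2
    rw [htop, Subgroup.card_top] at h
    have h2 : 2 ∣ Nat.card G := hτ ▸ orderOf_dvd_natCard τ
    exact Nat.prime_two.not_dvd_one (h ▸ Nat.dvd_gcd h2 dvd_rfl)
  have h1 : α ^ (orderOf α / r) = 1 := MulEquiv.ext fun g => by
    have := htriv g
    rw [hO, Subgroup.mem_bot, inv_mul_eq_one] at this
    exact this.symm
  rw [h1, orderOf_one] at hso
  exact hr.ne_one hso.symm

end Cfsg.Agent.S3067
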