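import Cfsg.Statements.S3070
import Cfsg.Agent.Lib.PLocal.JAutMain

set_option autoImplicit false
open Cfsg

namespace Cfsg.Agent.S3070

/-- Let p ≥ 5 be a prime, S a Sylow p-subgroup of the finite group G and J(S) the subgroup generated by the abelian subgroups of S of largest order. Then G has a normal p-complement if and only if N_G(J(S))/C_G(J(S)) is a p-group (every element of N_G(J(S)) of order prime to p centralizes J(S)). -/
theorem result {G : Type*} [Group G] [Finite G] {p : ℕ} [Fact p.Prime]
    (hp : 5 ≤ p) (S : Sylow p G) :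
    Cfsg.HasNormalPComplement p G ↔
      ∀ g ∈ Subgroup.normalizer (Cfsg.thompsonSubgroupAOf (S : Subgroup G) : Set G), (orderOf g).Coprime p →
        g ∈ Subgroup.centralizer (Cfsg.thompsonSubgroupAOf (S : Subgroup G) : Set G) := by
  have hp5 := hp
  set J := Cfsg.thompsonSubgroupAOf (S : Subgroup G) with hJdef
  have hJeq : J = Cfsg.Agent.ZJ.jSub p False (S : Subgroup G) :=
    Cfsg.Agent.JQuad.thompsonSubgroupAOf_eq _
  have hJS : J ≤ (S : Subgroup G) := hJeq ▸ Cfsg.Agent.ZJ.jSub_le _
  have hJp : IsPGroup p J := S.isPGroup'.to_le hJS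
  constructor
  · intro hG g hg hgo
    exact Cfsg.Agent.Fusion.mem_centralizer_of_hasNormalPComplement hJp
      (Cfsg.Agent.PBasic.hasNormalPComplement_subgroup _ hG) hg hgo
  · intro h
    refine Cfsg.Agent.JAut.hasNormalPComplement_of_jSub hp S ?_
    rw [← hJeq]
    set N := Subgroup.normalizer (J : Set G) with hN
    set C := (Subgroup.centralizer (J : Set G)).subgroupOf N with hC
    haveI hCn : C.Normal := Subgroup.normal_subgroupOf_of_le_normalizer (by
      intro n hn
      rw [Subgroup.mem_normalizer_iff]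
      intro c
      simp only [Subgroup.mem_centralizer_iff]
      constructor
      · intro hc j hj
        have h' := hc (n⁻¹ * j * n) (by
          simpa using (Subgroup.mem_normalizer_iff.1 (Subgroup.inv_mem _ hn) j).1 hj)
        calc j * (n * c * n⁻¹) = n * ((n⁻¹ * j * n) * c) * n⁻¹ := by group
          _ = n * (c * (n⁻¹ * j * n)) * n⁻¹ := by rw [h']
          _ = n * c * n⁻¹ * j := by group
      · intro hc j hj
        have h' := hc (n * j * n⁻¹) ((Subgroup.mem_normalizer_iff.1 hn j).1 hj)
        calc j * c = n⁻¹ * ((n * j * n⁻¹) * (n * c * n⁻¹)) * n := by group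
          _ = n⁻¹ * ((n * c * n⁻¹) * (n * j * n⁻¹)) * n := by rw [h']
          _ = c * j := by group)
    have hSN : (S : Subgroup G) ≤ N := by
      rw [hN, hJeq]
      exact Subgroup.le_normalizer.trans (Cfsg.Agent.ZJ.normalizer_le_normalizer_jSub _)
    obtain ⟨A₀, hA₀⟩ := Cfsg.Agent.ZJ.exists_isMaxIn p False (S : Subgroup G)
    obtain ⟨PC, hPC⟩ := Cfsg.Agent.PBasic.exists_sylow_subgroupOf (S.subtype hSN) C
    have hcen : ∀ x : C, x ∈ (PC : Subgroup C) → ((x : N) : G) ∈ J := by
      intro x hx
      rw [hPC] at hx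
      have hxS : ((x : N) : G) ∈ S := hx
      have hxC : ((x : N) : G) ∈ Subgroup.centralizer (J : Set G) := x.2
      have hA₀J : A₀ ≤ J := hJeq ▸ Cfsg.Agent.ZJ.le_jSub hA₀
      exact hA₀J (Cfsg.Agent.ZJ.mem_of_centralizes hA₀ hxS
        (fun a ha => Subgroup.mem_centralizer_iff.1 hxC a (hA₀J ha)) False.elim)
    refine Cfsg.Agent.PBasic.hasNormalPComplement_of_normal C ?_ ?_
    · refine Cfsg.Agent.Fusion.hasNormalPComplement_of_normalizer_le_centralizer PC fun y _ x hx => ?_
      exact Subtype.ext (Subtype.ext (Subgroup.mem_centralizer_iff.1 y.2 _ (hcen x hx)))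
    · have hres : Cfsg.pResidual p N ≤ C := by
        rw [Cfsg.pResidual, Subgroup.closure_le]
        intro g hg
        exact h g g.2 (by rw [Subgroup.orderOf_coe]; exact hg)
      exact Cfsg.Agent.PBasic.quotient_isPGroup_of_pResidual_le hres

end Cfsg.Agent.S3070
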