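import Cfsg.Statements.S3071
import Cfsg.Agent.Lib.Functors.SL2LocalFusion

set_option autoImplicit false
set_option linter.style.haveILetI false
set_option linter.unusedVariables false
open Cfsg

namespace Cfsg.Agent.S3071

open Cfsg.Agent Cfsg.Agent.Functors Cfsg.Agent.ClosedZJ

/-- Let p be an odd prime and S a Sylow p-subgroup of the finite group G such that, for every subgroup P with Z(S) ≤ P ≤ S, the normalizer N_G(P) has no section isomorphic to SL₂(p). Let J(S) be the subgroup generated by the abelian subgroups of S of largest order. Then two elements of S are conjugate in G if and only if they are conjugate in N_G(Z(J(S))). -/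
theorem result {G : Type*} [Group G] [Finite G] {p : ℕ} [Fact p.Prime]
    (hp : p ≠ 2) (S : Sylow p G)
    (hfree : ∀ P : Subgroup G, (S : Subgroup G) ⊓ Subgroup.centralizer ((S : Subgroup G) : Set G) ≤ P → P ≤ S →
      ¬ ∃ (H K : Subgroup G) (hK : (K.subgroupOf H).Normal), H ≤ Subgroup.normalizer (P : Set G) ∧
        Nonempty ((H ⧸ K.subgroupOf H) ≃* Matrix.SpecialLinearGroup (Fin 2) (ZMod p))) :
    ∀ x ∈ S, ∀ y ∈ S, (∃ g : G, g * x * g⁻¹ = y) ↔
      ∃ n ∈ Subgroup.normalizer (Cfsg.centerThompsonAOf (S : Subgroup G) : Set G), n * x * n⁻¹ = y := by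
  have hns : ∀ P : Subgroup G, (S : Subgroup G) ⊓ Subgroup.centralizer ((S : Subgroup G) : Set G) ≤ P →
      P ≤ (S : Subgroup G) → SL2Local.NoSec p P := by
    intro P h1 h2 H hH ψ hψ
    have heq : (ψ.ker.map H.subtype).subgroupOf H = ψ.ker :=
      Subgroup.comap_map_eq_self_of_injective H.subtype_injective _
    haveI hK : ((ψ.ker.map H.subtype).subgroupOf H).Normal := by rw [heq]; infer_instance
    exact hfree P h1 h2 ⟨H, ψ.ker.map H.subtype, hK, hH,
      ⟨(QuotientGroup.quotientMulEquivOfEq heq).trans (QuotientGroup.quotientKerEquivOfSurjective ψ hψ)⟩⟩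
  intro x hx y hy
  refine ⟨fun ⟨g, hg⟩ => ?_, fun ⟨n, _, hn⟩ => ⟨n, hn⟩⟩
  obtain ⟨-, -, n, hn, hna⟩ := SL2Local.realised_zJ hp S hns {x} g (Set.singleton_subset_iff.2 hx) (by
    rw [Set.image_singleton, Set.singleton_subset_iff, cj_apply, hg]
    exact hy)
  rw [centerThompsonAOf_eq_zCore (p := p)]
  exact ⟨n, hn, (hna x rfl).trans hg⟩

end Cfsg.Agent.S3071
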