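import Cfsg.Statements.S3074
import Cfsg.Agent.Lib.Qd.Basic

set_option autoImplicit false
open Cfsg

namespace Cfsg.Agent.S3074

/-- Let p be an odd prime. A Sylow p-subgroup of Qd(p), the split extension of an elementary abelian group of order p² by SL₂(p) acting naturally, is extraspecial of order p³ and exponent p. -/
theorem result (p : ℕ) [Fact p.Prime] (hp : p ≠ 2) (P : Sylow p ↥(Cfsg.qd p)) :
    Cfsg.IsExtraspecial p ↥P ∧ Nat.card P = p ^ 3 ∧ Monoid.exponent ↥P = p := by
  obtain ⟨e⟩ := Qd.sylow_qd hp P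
  refine ⟨Qd.isExtraspecial_congr e (Qd.isExtraspecial_unitri hp), ?_, ?_⟩
  · exact (Nat.card_congr e.toEquiv).trans Qd.card_unitri
  · have h : Monoid.exponent ↥P = Monoid.exponent ↥(S2231.unitri p) :=
      Monoid.exponent_eq_of_mulEquiv e
    rw [h]
    haveI : Nontrivial ↥(S2231.unitri p) := by
      rw [← Finite.one_lt_card_iff_nontrivial, Qd.card_unitri]
      exact Nat.one_lt_pow (by norm_num) (Fact.out : p.Prime).one_lt
    exact (Monoid.exponent_eq_prime_iff Fact.out).2 fun g hg =>
      orderOf_eq_prime (Qd.pow_p_eq_one hp g) hg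

end Cfsg.Agent.S3074
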