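import Cfsg.Statements.S3075
import Mathlib.FieldTheory.Finite.Basic


set_option autoImplicit false
open Cfsg

namespace Cfsg.Agent.S3075

/-- A proper subgroup of a group of order `p²` is generated by one element. -/
theorem exists_gen {N : Type*} [Group N] [Finite N] {p : ℕ} [Fact p.Prime] {A L : Subgroup N}
    (hA : Nat.card A = p ^ 2) (hL : L ≤ A) (hne : L ≠ A) : ∃ l ∈ L, L = Subgroup.zpowers l := by
  rcases L.bot_or_exists_ne_one with h | ⟨l, hl, hl1⟩
  · exact ⟨1, one_mem L, by rw [h, Subgroup.zpowers_one_eq_bot]⟩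
  refine ⟨l, hl, (Subgroup.eq_of_le_of_card_ge (Subgroup.zpowers_le.2 hl) ?_).symm⟩
  obtain ⟨i, hi, hLi⟩ := (Nat.dvd_prime_pow (Fact.out : p.Prime)).1 (hA ▸ Subgroup.card_dvd_of_le hL)
  obtain ⟨j, hj, hlj⟩ := (Nat.dvd_prime_pow (Fact.out : p.Prime)).1
    (hLi ▸ Subgroup.card_dvd_of_le (Subgroup.zpowers_le.2 hl))
  have hi2 : i ≠ 2 := fun h => hne (Subgroup.eq_of_le_of_card_ge hL (by rw [hA, hLi, h]))
  have hj0 : j ≠ 0 := fun h => hl1 (Subgroup.zpowers_eq_bot.1
    (Subgroup.eq_bot_of_card_eq _ (by rw [hlj, h, pow_zero])))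
  rw [hlj, hLi, show j = i by omega]

/-- Conjugation actions on a cyclic normal subgroup commute. -/
theorem commutator_fixes {N : Type*} [Group N] {L : Subgroup N} {l : N} (hL : L = Subgroup.zpowers l)
    (hn : ∀ g : N, g * l * g⁻¹ ∈ L) (n m : N) : ∀ x ∈ L, Commute (n * m * n⁻¹ * m⁻¹) x := by
  subst hL
  obtain ⟨i, hi⟩ := hn n
  obtain ⟨j, hj⟩ := hn m
  have h : (m * n) * l * (m * n)⁻¹ = (n * m) * l * (n * m)⁻¹ := by
    calc (m * n) * l * (m * n)⁻¹ = m * (n * l * n⁻¹) * m⁻¹ := by group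
      _ = (m * l * m⁻¹) ^ i := by rw [conj_zpow]; exact congrArg (fun z => m * z * m⁻¹) hi.symm
      _ = (l ^ j) ^ i := congrArg (· ^ i) hj.symm
      _ = (l ^ i) ^ j := by rw [← zpow_mul, ← zpow_mul, mul_comm]
      _ = (n * l * n⁻¹) ^ j := congrArg (· ^ j) hi
      _ = n * (m * l * m⁻¹) * n⁻¹ := by rw [conj_zpow]; exact congrArg (fun z => n * z * n⁻¹) hj
      _ = (n * m) * l * (n * m)⁻¹ := by group
  have hc : Commute (n * m * n⁻¹ * m⁻¹) l := by
    have h2 : (n * m * n⁻¹ * m⁻¹) * l * (n * m * n⁻¹ * m⁻¹)⁻¹ = l := by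
      calc (n * m * n⁻¹ * m⁻¹) * l * (n * m * n⁻¹ * m⁻¹)⁻¹
          = (n * m) * ((m * n)⁻¹ * l * (m * n)) * (n * m)⁻¹ := by group
        _ = (n * m) * ((m * n)⁻¹ * l * (m * n)) * (n * m)⁻¹ := rfl
        _ = l := by
          have e : ∀ y : N, y ∈ Subgroup.zpowers l →
              (n * m) * y * (n * m)⁻¹ = (m * n) * y * (m * n)⁻¹ := by
            rintro _ ⟨k, rfl⟩
            show (n * m) * l ^ k * (n * m)⁻¹ = (m * n) * l ^ k * (m * n)⁻¹
            rw [← conj_zpow, ← conj_zpow, h]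
          have hy : (m * n)⁻¹ * l * (m * n) ∈ Subgroup.zpowers l := by
            simpa using hn (m * n)⁻¹
          rw [e _ hy]; group
    exact mul_inv_eq_iff_eq_mul.1 h2
  rintro _ ⟨k, rfl⟩
  exact hc.zpow_right k

/-- Let p be an odd prime and N a finite group with a normal elementary abelian subgroup A of order p² that is its own centralizer in N, such that N/A is isomorphic to SL₂(p) (over any field F with p elements). Then N splits over A: some subgroup U of N satisfies A ∩ U = 1 and AU = N. -/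
theorem result {N : Type*} [Group N] [Finite N] {p : ℕ} [Fact p.Prime] (hp : p ≠ 2)
    (A : Subgroup N) [A.Normal] (hAcomm : IsMulCommutative A) (hAcard : Nat.card A = p ^ 2) (hAexp : Monoid.exponent ↥A = p)
    (hAself : Subgroup.centralizer (A : Set N) = A)
    {F : Type*} [Field F] [Fintype F] (hF : Fintype.card F = p) (e : N ⧸ A ≃* Matrix.SpecialLinearGroup (Fin 2) F) :
    ∃ U : Subgroup N, A ⊓ U = ⊥ ∧ A ⊔ U = ⊤ := by
  haveI : Fintype (N ⧸ A) := Fintype.ofFinite _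
  have hpp : p.Prime := Fact.out
  haveI : CharP F p := by
    obtain ⟨q, hq⟩ := CharP.exists F
    obtain ⟨n, hqp, hcard⟩ := FiniteField.card F q
    rw [hF] at hcard
    have : q = p := ((Nat.prime_dvd_prime_iff_eq hqp hpp).1 (hcard ▸ dvd_pow_self q n.ne_zero))
    exact this ▸ hq
  have hAc : ∀ a ∈ A, ∀ b ∈ A, a * b = b * a := fun a ha b hb =>
    congrArg Subtype.val (hAcomm.is_comm.comm (⟨a, ha⟩ : ↥A) ⟨b, hb⟩)
  have hAp : ∀ a ∈ A, a ^ p = 1 := fun a ha => by
    have := Monoid.pow_exponent_eq_one (⟨a, ha⟩ : ↥A)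
    rw [hAexp] at this
    exact congrArg Subtype.val this
  obtain ⟨k, hk⟩ : Odd p := hpp.odd_of_ne_two hp
  -- the element -1
  let z : Matrix.SpecialLinearGroup (Fin 2) F := ⟨!![-1, 0; 0, -1], by simp [Matrix.det_fin_two]⟩
  have h1F : (-1 : F) ≠ 1 := by
    intro h
    refine hp ((Nat.prime_dvd_prime_iff_eq hpp Nat.prime_two).1 ((CharP.cast_eq_zero_iff F p 2).1 ?_))
    push_cast
    linear_combination -h
  have hz1 : z ≠ 1 := fun h => h1F (by
    have := congrArg (fun M : Matrix.SpecialLinearGroup (Fin 2) F => M.1 0 0) h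
    simpa [z] using this)
  have zv : z.1 = !![-1, 0; 0, -1] := rfl
  have hz2 : z * z = 1 := by
    apply Subtype.ext
    rw [Matrix.SpecialLinearGroup.coe_mul, zv, Matrix.SpecialLinearGroup.coe_one]
    ext i j; fin_cases i <;> fin_cases j <;> simp [Matrix.mul_apply, Fin.sum_univ_two]
  have hzc : ∀ M, z * M = M * z := fun M => by
    apply Subtype.ext
    rw [Matrix.SpecialLinearGroup.coe_mul, Matrix.SpecialLinearGroup.coe_mul, zv]
    ext i j; fin_cases i <;> fin_cases j <;> simp [Matrix.mul_apply, Fin.sum_univ_two]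
  set π := QuotientGroup.mk' A with hπ
  obtain ⟨t₀, ht₀⟩ := QuotientGroup.mk'_surjective A (e.symm z)
  rw [← hπ] at ht₀
  have hker : ∀ x : N, π x = 1 → x ∈ A := fun x hx => (QuotientGroup.eq_one_iff x).1 hx
  have hπA : ∀ x ∈ A, π x = 1 := fun x hx => (QuotientGroup.eq_one_iff x).2 hx
  have ht₀2 : t₀ ^ 2 ∈ A := hker _ (by
    rw [map_pow, ht₀, ← map_pow, sq, hz2, map_one])
  set t := t₀ ^ p with htdef
  have ht2 : t * t = 1 := by
    rw [htdef, ← pow_add, ← two_mul, pow_mul]; exact hAp _ ht₀2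
  have hπt : π t = e.symm z := by
    rw [htdef, map_pow, ht₀, ← map_pow, hk, pow_succ, pow_mul, sq, hz2, one_pow, one_mul]
  have htinv : t⁻¹ = t := inv_eq_of_mul_eq_one_right ht2
  have htA : t ∉ A := fun h => hz1 (e.symm.injective (by rw [map_one, ← hπt, hπA t h]))
  have hconj : ∀ n : N, ∃ a ∈ A, n⁻¹ * t * n = t * a := fun n => by
    refine ⟨t⁻¹ * (n⁻¹ * t * n), hker _ ?_, (mul_inv_cancel_left _ _).symm⟩
    rw [map_mul, map_mul, map_mul, map_inv, map_inv, hπt,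
      show (π n)⁻¹ * e.symm z * π n = e.symm z by
        obtain ⟨M, hM⟩ := e.symm.surjective (π n)
        rw [← hM, ← map_inv, ← map_mul, ← map_mul, mul_assoc, hzc, inv_mul_cancel_left]]
    exact inv_mul_cancel _
  -- fixed points and inverted points of `t` on `A`
  let L : Subgroup N := A ⊓ Subgroup.centralizer ({t} : Set N)
  have hL : ∀ a, a ∈ L ↔ a ∈ A ∧ t * a * t⁻¹ = a := fun a => by
    show a ∈ A ⊓ Subgroup.centralizer ({t} : Set N) ↔ _
    rw [Subgroup.mem_inf, Subgroup.mem_centralizer_singleton_iff, mul_inv_eq_iff_eq_mul]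
    exact and_congr_right fun _ => eq_comm
  let M : Subgroup N :=
    { carrier := {a | a ∈ A ∧ t * a * t⁻¹ = a⁻¹}
      one_mem' := ⟨one_mem A, by simp⟩
      mul_mem' := fun {a b} ha hb => ⟨mul_mem ha.1 hb.1, by
        rw [← conj_mul, ha.2, hb.2, mul_inv_rev, hAc _ (inv_mem ha.1) _ (inv_mem hb.1)]⟩
      inv_mem' := fun {a} ha => ⟨inv_mem ha.1, by rw [← _root_.conj_inv, ha.2]⟩ }
  have hsqrt : ∀ a ∈ A, (a ^ 2) ^ (k + 1) = a := fun a ha => by
    rw [← pow_mul, show 2 * (k + 1) = p + 1 by omega, pow_succ, hAp a ha, one_mul]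
  have htconj : ∀ a ∈ A, t * a * t⁻¹ ∈ A := fun a ha => Subgroup.Normal.conj_mem inferInstance a ha t
  have htt : ∀ a, t * (t * a * t⁻¹) * t⁻¹ = a := fun a => by
    calc t * (t * a * t⁻¹) * t⁻¹ = (t * t) * a * (t * t)⁻¹ := by group
      _ = a := by rw [ht2]; group
  have hdecomp : ∀ a ∈ A, a * (t * a * t⁻¹) ∈ L ∧ a * (t * a * t⁻¹)⁻¹ ∈ M := fun a ha => by
    refine ⟨(hL _).2 ⟨mul_mem ha (htconj a ha), ?_⟩, mul_mem ha (inv_mem (htconj a ha)), ?_⟩
    · rw [← conj_mul, htt, hAc _ (htconj a ha) _ ha]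
    · rw [← conj_mul, ← _root_.conj_inv, htt, mul_inv_rev, inv_inv]
  have hconjmem : ∀ (g a : N) (b : N), a ∈ A → t * a * t⁻¹ = b → b ∈ A →
      t * (g * a * g⁻¹) * t⁻¹ = g * b * g⁻¹ := by
    intro g a b ha hab hb
    obtain ⟨c, hc, hgc⟩ := hconj g
    calc t * (g * a * g⁻¹) * t⁻¹ = g * ((g⁻¹ * t * g) * a * (g⁻¹ * t * g)⁻¹) * g⁻¹ := by group
      _ = g * (t * (c * a * c⁻¹) * t⁻¹) * g⁻¹ := by rw [hgc]; group
      _ = g * b * g⁻¹ := by rw [hAc c hc a ha, mul_inv_cancel_right, hab]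
  have hLn : ∀ g : N, ∀ a ∈ L, g * a * g⁻¹ ∈ L := fun g a ha => by
    obtain ⟨ha1, ha2⟩ := (hL a).1 ha
    exact (hL _).2 ⟨Subgroup.Normal.conj_mem inferInstance a ha1 g, hconjmem g a a ha1 ha2 ha1⟩
  have hMn : ∀ g : N, ∀ a ∈ M, g * a * g⁻¹ ∈ M := fun g a ha =>
    ⟨Subgroup.Normal.conj_mem inferInstance a ha.1 g,
      (hconjmem g a a⁻¹ ha.1 ha.2 (inv_mem ha.1)).trans _root_.conj_inv.symm⟩
  have hLbot : L = ⊥ := by
    by_contra hne
    have hLA : L ≠ A := fun h => htA (by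
      rw [← hAself]
      intro a ha
      have h2 : a ∈ L := by rw [h]; exact ha
      exact (mul_inv_eq_iff_eq_mul.1 ((hL a).1 h2).2).symm)
    have hMA : M ≠ A := fun h => hne <| by
      rw [eq_bot_iff]
      intro a ha
      obtain ⟨ha1, ha2⟩ := (hL a).1 ha
      have h2 : a ∈ M := by rw [h]; exact ha1
      have h3 : a = a⁻¹ := ha2.symm.trans h2.2
      have h4 : a ^ 2 = 1 := by rw [sq]; nth_rewrite 1 [h3]; exact inv_mul_cancel a
      rw [Subgroup.mem_bot, ← hsqrt a ha1, h4, one_pow]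
    obtain ⟨l, hl, hlgen⟩ := exists_gen hAcard (inf_le_left : L ≤ A) hLA
    obtain ⟨m, hm, hmgen⟩ := exists_gen hAcard (fun a (ha : a ∈ M) => ha.1) hMA
    have hab : ∀ g h : N, π g * π h = π h * π g := by
      intro g h
      have hc : g * h * g⁻¹ * h⁻¹ ∈ A := by
        rw [← hAself]
        intro a ha
        have h1 := commutator_fixes hlgen (fun g => hLn g l hl) g h _ (hdecomp a ha).1
        have h2 := commutator_fixes hmgen (fun g => hMn g m hm) g h _ (hdecomp a ha).2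
        have h3 : Commute (g * h * g⁻¹ * h⁻¹) (a ^ 2) := by
          have e : a ^ 2 = (a * (t * a * t⁻¹)) * (a * (t * a * t⁻¹)⁻¹) := by
            rw [sq, mul_assoc a _ (a * _), ← mul_assoc (t * a * t⁻¹) a,
              hAc _ (htconj a ha) _ ha, mul_inv_cancel_right]
          rw [e]; exact h1.mul_right h2
        exact (hsqrt a ha ▸ h3.pow_right (k + 1) : Commute (g * h * g⁻¹ * h⁻¹) a).eq.symm
      have h4 := hπA _ hc
      rw [map_mul, map_mul, map_mul, map_inv, map_inv, mul_inv_eq_one, mul_inv_eq_iff_eq_mul] at h4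
      exact h4
    let X : Matrix.SpecialLinearGroup (Fin 2) F := ⟨!![1, 1; 0, 1], by simp [Matrix.det_fin_two]⟩
    let Y : Matrix.SpecialLinearGroup (Fin 2) F := ⟨!![1, 0; 1, 1], by simp [Matrix.det_fin_two]⟩
    obtain ⟨g, hg⟩ := QuotientGroup.mk'_surjective A (e.symm X)
    obtain ⟨h, hh⟩ := QuotientGroup.mk'_surjective A (e.symm Y)
    have h5 := hab g h
    rw [hπ, hg, hh, ← map_mul, ← map_mul] at h5
    have h6 : (X * Y).1 0 0 = (Y * X).1 0 0 := by rw [e.symm.injective h5]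
    rw [Matrix.SpecialLinearGroup.coe_mul, Matrix.SpecialLinearGroup.coe_mul,
      show X.1 = !![1, 1; 0, 1] from rfl, show Y.1 = !![1, 0; 1, 1] from rfl] at h6
    simp [Matrix.mul_apply, Fin.sum_univ_two] at h6
  have hinv : ∀ a ∈ A, t * a * t⁻¹ = a⁻¹ := fun a ha => by
    have := (hdecomp a ha).1
    rw [hLbot, Subgroup.mem_bot] at this
    exact eq_inv_of_mul_eq_one_right this
  refine ⟨Subgroup.centralizer ({t} : Set N), hLbot, ?_⟩
  rw [eq_top_iff]
  intro n _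
  obtain ⟨a, ha, hna⟩ := hconj n⁻¹
  rw [inv_inv] at hna
  set b := (a ^ (k + 1))⁻¹ with hb
  have hbA : b ∈ A := inv_mem (pow_mem ha _)
  have hbt : b * t * b⁻¹ = t * a := by
    have e1 : b * t = t * (a ^ (k + 1)) := by
      have := hinv (a ^ (k + 1)) (pow_mem ha _)
      rw [hb, ← this]
      calc t * a ^ (k + 1) * t⁻¹ * t = t * a ^ (k + 1) := by group
        _ = _ := rfl
    rw [e1, hb, inv_inv, mul_assoc, ← pow_add, ← two_mul, pow_mul, hsqrt a ha]
  rw [show n = b * (b⁻¹ * n) by group]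
  refine Subgroup.mul_mem_sup hbA (Subgroup.mem_centralizer_singleton_iff.2 ?_)
  have h1 : n * t * n⁻¹ = b * t * b⁻¹ := by rw [hbt, hna]
  calc b⁻¹ * n * t = b⁻¹ * (n * t * n⁻¹) * n := by group
    _ = t * (b⁻¹ * n) := by rw [h1]; group

end Cfsg.Agent.S3075
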