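import Cfsg.Statements.S3076
import Cfsg.Agent.Lib.Transfer.Basic

set_option autoImplicit false
open Cfsg

namespace Cfsg.Agent.S3076

open Subgroup in
theorem key {Γ : Type*} [Group Γ] [Finite Γ] {p : ℕ} [Fact p.Prime] (R : Sylow p Γ) (H : Subgroup Γ)
    [H.Normal] (hHR : H ≤ (R : Subgroup Γ)) (C : Subgroup Γ) [C.Normal]
    (hC : C = centralizer (H : Set Γ)) :
    (H ≤ (Cfsg.pCore p (Γ ⧸ C)).comap (QuotientGroup.mk' C) ∧
      ¬ p ∣ H.relIndex ((Cfsg.pCore p (Γ ⧸ C)).comap (QuotientGroup.mk' C))) ↔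
    ((R : Subgroup Γ) ⊓ C ≤ H ∧ Cfsg.pPrimePCore p Γ = H ⊔ C) := by
  have hp : p.Prime := Fact.out
  have hHp : IsPGroup p H := R.isPGroup'.to_le hHR
  set g := QuotientGroup.mk' C with hg
  set M := (Cfsg.pCore p (Γ ⧸ C)).comap g with hM
  set K := Cfsg.pPrimeCore p Γ with hK
  have hKn : K.Normal := by
    have := Cfsg.Agent.PBasic.pPrimeCore_characteristic p Γ
    infer_instance
  have hHM : H ≤ M := map_le_iff_le_comap.1 (Cfsg.Agent.PBasic.le_pCore
    (Subgroup.Normal.map inferInstance g (QuotientGroup.mk'_surjective C)) (hHp.map g))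
  have hCM : C ≤ M := fun x hx => by
    rw [hM, mem_comap, show g x = 1 from (QuotientGroup.eq_one_iff x).2 hx]; exact one_mem _
  have hKc : (Nat.card K).Coprime p := Cfsg.Agent.PBasic.pPrimeCore_coprime p Γ
  have hKC : K ≤ C := by
    rw [hC, ← commutator_eq_bot_iff_le_centralizer, eq_bot_iff]
    refine (commutator_le_inf K H).trans ?_
    rw [Cfsg.Agent.PBasic.inf_eq_bot_of_coprime hKc hHp]
  set f := QuotientGroup.mk' K with hf
  set h := QuotientGroup.map K C (MonoidHom.id Γ) hKC with hh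
  have hgf : ∀ x, g x = h (f x) := fun x => rfl
  set T := (Cfsg.pCore p (Γ ⧸ K)).comap f with hT
  have hTdef : Cfsg.pPrimePCore p Γ = T := rfl
  have hhs : Function.Surjective h := fun y => by
    obtain ⟨x, rfl⟩ := QuotientGroup.mk'_surjective C y
    exact ⟨f x, (hgf x).symm⟩
  have hTM : T ≤ M := by
    intro x hx
    rw [hM, mem_comap, hgf]
    exact Cfsg.Agent.PBasic.map_pCore_le_of_surjective h hhs ⟨f x, hx, rfl⟩
  have hHT : H ≤ T := map_le_iff_le_comap.1 (Cfsg.Agent.PBasic.le_pCore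
    (Subgroup.Normal.map inferInstance f (QuotientGroup.mk'_surjective K)) (hHp.map f))
  have hKT : K ≤ T := fun x hx => by
    rw [hT, mem_comap, show f x = 1 from (QuotientGroup.eq_one_iff x).2 hx]; exact one_mem _
  obtain ⟨RC, hRC⟩ := Cfsg.Agent.PBasic.exists_sylow_subgroupOf R C
  have hRCidx : ¬ p ∣ (R : Subgroup Γ).relIndex C := by
    show ¬ p ∣ ((R : Subgroup Γ).subgroupOf C).index
    rw [← hRC]; exact RC.not_dvd_index
  rw [hTdef]
  constructor
  · rintro ⟨-, hidx⟩
    have hRCH : (R : Subgroup Γ) ⊓ C ≤ H := by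
      set U := H ⊔ ((R : Subgroup Γ) ⊓ C)
      have hUp : IsPGroup p U := R.isPGroup'.to_le (sup_le hHR inf_le_left)
      have hd : H.relIndex U ∣ H.relIndex M :=
        ⟨U.relIndex M, (relIndex_mul_relIndex H U M le_sup_left (sup_le hHM (inf_le_right.trans hCM))).symm⟩
      obtain ⟨n, hn⟩ := hUp.exists_card_eq
      have hd2 : H.relIndex U ∣ p ^ n := hn ▸ ⟨Nat.card H, by
        rw [mul_comm]; exact (Cfsg.Agent.PBasic.card_mul_relIndex le_sup_left).symm⟩
      obtain ⟨j, -, hj⟩ := (Nat.dvd_prime_pow hp).1 hd2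
      rcases Nat.eq_zero_or_pos j with rfl | hjp
      · exact le_sup_right.trans (relIndex_eq_one.1 (by rw [hj, pow_zero]))
      · exact absurd ((dvd_pow_self p hjp.ne').trans (hj ▸ hd)) hidx
    have hMeq : M ≤ H ⊔ C := by
      have hd : (H ⊔ C).relIndex M ∣ H.relIndex M :=
        ⟨H.relIndex (H ⊔ C), by rw [mul_comm, relIndex_mul_relIndex H (H ⊔ C) M le_sup_left (sup_le hHM hCM)]⟩
      have hCidx : (H ⊔ C).relIndex M ∣ C.relIndex M :=
        ⟨C.relIndex (H ⊔ C), by rw [mul_comm, relIndex_mul_relIndex C (H ⊔ C) M le_sup_right (sup_le hHM hCM)]⟩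
      obtain ⟨k, hk⟩ := (Cfsg.Agent.PBasic.pCore_isPGroup p (Γ ⧸ C)).exists_card_eq
      have hCM' : C.relIndex M = p ^ k := by
        have h1 := relIndex_comap (⊥ : Subgroup (Γ ⧸ C)) g M
        have hb : (⊥ : Subgroup (Γ ⧸ C)).comap g = C := QuotientGroup.ker_mk' C
        rw [hb, map_comap_eq_self_of_surjective (QuotientGroup.mk'_surjective C), relIndex_bot_left] at h1
        rw [h1, hk]
      obtain ⟨j, -, hj⟩ := (Nat.dvd_prime_pow hp).1 (hCM' ▸ hCidx)
      rcases Nat.eq_zero_or_pos j with rfl | hjp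
      · exact relIndex_eq_one.1 (by rw [hj, pow_zero])
      · exact absurd ((dvd_pow_self p hjp.ne').trans (hj ▸ hd)) hidx
    refine ⟨hRCH, le_antisymm (hTM.trans hMeq) (sup_le hHT ?_)⟩
    -- `C` is the product of a central `p`-group and a normal `p'`-group
    set Z := (H ⊓ C).subgroupOf C with hZ
    have hZc : ∀ z ∈ Z, ∀ x : C, z * x = x * z := fun z hz x => Subtype.ext
      (mem_centralizer_iff.1 (hC.le x.2) z.1 hz.1)
    have hZn : Z.Normal := ⟨fun z hz x => by rw [← hZc z hz x, mul_inv_cancel_right]; exact hz⟩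
    have hZidx : ¬ p ∣ Z.index := fun hd => hRCidx (hd.trans (by
      show (H ⊓ C).relIndex C ∣ _
      rw [inf_relIndex_right]
      have := relIndex_dvd_of_le_left C hRCH
      rwa [inf_relIndex_right] at this))
    have hZp : IsPGroup p Z := (hHp.to_le inf_le_left).comap_subtype
    have hcop : (Nat.card Z).Coprime Z.index := by
      obtain ⟨n, hn⟩ := hZp.exists_card_eq
      rw [hn]; exact Nat.Coprime.pow_left _ (hp.coprime_iff_not_dvd.2 hZidx)
    obtain ⟨L, hL⟩ := Subgroup.exists_right_complement'_of_coprime hcop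
    have hLc : (Nat.card L).Coprime p := by
      have := hL.symm.index_eq_card
      rw [← this]; exact (hp.coprime_iff_not_dvd.2 hZidx).symm
    have hLn : L.Normal := by
      refine ⟨fun l hl x => ?_⟩
      obtain ⟨⟨z, l'⟩, rfl⟩ := hL.2 x
      show (z : C) * (l' : C) * l * ((z : C) * (l' : C))⁻¹ ∈ L
      have : (z : C) * (l' : C) * l * ((z : C) * (l' : C))⁻¹ = (l' : C) * l * (l' : C)⁻¹ := by
        rw [mul_inv_rev, show (z : C) * (l' : C) * l * ((l' : C)⁻¹ * (z : C)⁻¹) =
          (z : C) * ((l' : C) * l * (l' : C)⁻¹) * (z : C)⁻¹ by group, hZc z z.2, mul_inv_cancel_right]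
      rw [this]; exact mul_mem (mul_mem l'.2 hl) (inv_mem l'.2)
    have hchar : ∀ x : C, (orderOf x).Coprime p → x ∈ L := by
      intro x hx
      rw [← QuotientGroup.eq_one_iff (N := L) x]
      have hq : IsPGroup p (C ⧸ L) := by
        obtain ⟨n, hn⟩ := hZp.exists_card_eq
        refine IsPGroup.of_card (n := n) ?_
        rw [← index_eq_card, hL.index_eq_card, hn]
      obtain ⟨k, hk⟩ := IsPGroup.iff_orderOf.1 hq (x : C ⧸ L)
      have hd := orderOf_map_dvd (QuotientGroup.mk' L) x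
      rw [QuotientGroup.mk'_apply, hk] at hd
      rcases Nat.eq_zero_or_pos k with rfl | hkp
      · exact orderOf_eq_one_iff.1 (by rw [hk, pow_zero])
      · exact absurd ((dvd_pow_self p hkp.ne').trans hd) (hp.coprime_iff_not_dvd.1 hx.symm)
    have hLK : L.map C.subtype ≤ K := by
      refine Cfsg.Agent.PBasic.le_pPrimeCore ⟨?_⟩ (by rwa [card_map_of_injective C.subtype_injective])
      rintro _ ⟨l, hl, rfl⟩ x
      refine ⟨⟨x * (l : Γ) * x⁻¹, (inferInstance : C.Normal).conj_mem _ l.2 x⟩, hchar _ ?_, rfl⟩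
      rw [← orderOf_coe]
      show (orderOf (x * (l : Γ) * x⁻¹)).Coprime p
      rw [← MulAut.conj_apply, MulEquiv.orderOf_eq, orderOf_coe]
      exact Cfsg.Agent.PBasic.coprime_orderOf_of_mem hLc hl
    intro x hx
    obtain ⟨⟨z, l⟩, e⟩ := hL.2 ⟨x, hx⟩
    have e' : ((z : C) : Γ) * ((l : C) : Γ) = x := congrArg Subtype.val e
    rw [← e']
    exact mul_mem (hHT z.2.1) (hKT (hLK ⟨_, l.2, rfl⟩))
  · rintro ⟨hRCH, hTeq⟩
    refine ⟨hHM, ?_⟩
    have hker : IsPGroup p h.ker := by
      refine (Cfsg.Agent.PBasic.pCore_isPGroup p (Γ ⧸ K)).to_le fun y hy => ?_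
      obtain ⟨x, rfl⟩ := QuotientGroup.mk'_surjective K y
      have hxC : x ∈ C := (QuotientGroup.eq_one_iff x).1 ((hgf x).trans hy)
      exact (hTeq.ge : H ⊔ C ≤ T) (mem_sup_right hxC)
    have hpn : (Cfsg.pCore p (Γ ⧸ C)).Normal := by
      have := Cfsg.Agent.PBasic.pCore_characteristic p (Γ ⧸ C)
      infer_instance
    have hMT : M ≤ T := by
      intro x hx
      exact Cfsg.Agent.PBasic.le_pCore (hpn.comap h)
        ((Cfsg.Agent.PBasic.pCore_isPGroup p (Γ ⧸ C)).comap_of_ker_isPGroup h hker) hx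
    intro hd
    rw [le_antisymm (hMT.trans hTeq.le) (sup_le hHM hCM), sup_comm, relIndex_sup_right] at hd
    have h1 := relIndex_dvd_of_le_left C hRCH
    rw [inf_relIndex_right] at h1
    exact hRCidx (hd.trans h1)

/-- Let P be a Sylow p-subgroup of the finite group G and H ≤ P a subgroup with N_P(H) a Sylow p-subgroup of N_G(H). Let N be the preimage in N_G(H) of O_p(N_G(H)/C_G(H)). Then H is a Sylow p-subgroup of N if and only if C_P(H) ≤ H and O_{p',p}(N_G(H)) = H·C_G(H). -/
theorem result {G : Type*} [Group G] [Finite G] {p : ℕ} [Fact p.Prime]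
    (P : Sylow p G) (H : Subgroup G) (hHP : H ≤ (P : Subgroup G))
    (hSyl : ¬ p ∣ ((P : Subgroup G) ⊓ Subgroup.normalizer (H : Set G)).relIndex (Subgroup.normalizer (H : Set G)))
    [hC : ((Subgroup.centralizer (H : Set G)).subgroupOf (Subgroup.normalizer (H : Set G))).Normal] :
    (H ≤ ((Cfsg.pCore p (↥(Subgroup.normalizer (H : Set G)) ⧸
              (Subgroup.centralizer (H : Set G)).subgroupOf (Subgroup.normalizer (H : Set G)))).comap
            (QuotientGroup.mk' _)).map (Subgroup.normalizer (H : Set G)).subtype ∧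
      ¬ p ∣ H.relIndex (((Cfsg.pCore p (↥(Subgroup.normalizer (H : Set G)) ⧸
              (Subgroup.centralizer (H : Set G)).subgroupOf (Subgroup.normalizer (H : Set G)))).comap
            (QuotientGroup.mk' _)).map (Subgroup.normalizer (H : Set G)).subtype)) ↔
    ((P : Subgroup G) ⊓ Subgroup.centralizer (H : Set G) ≤ H ∧
      (Cfsg.pPrimePCore p ↥(Subgroup.normalizer (H : Set G))).map (Subgroup.normalizer (H : Set G)).subtype =
        H ⊔ Subgroup.centralizer (H : Set G)) := by
  set N := Subgroup.normalizer (H : Set G) with hN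
  have hHN : H ≤ N := Subgroup.le_normalizer
  have hCN : Subgroup.centralizer (H : Set G) ≤ N := Subgroup.centralizer_le_normalizer _
  have hp2 : IsPGroup p (((P : Subgroup G) ⊓ N).subgroupOf N) :=
    (P.isPGroup'.to_le inf_le_left).comap_subtype
  let R : Sylow p N := hp2.toSylow hSyl
  have hR : (R : Subgroup N) = ((P : Subgroup G) ⊓ N).subgroupOf N := IsPGroup.toSylow_coe _ _
  have hCeq : (Subgroup.centralizer (H : Set G)).subgroupOf N =
      Subgroup.centralizer ((H.subgroupOf N : Subgroup N) : Set N) := by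
    ext ⟨x, hx⟩
    constructor
    · intro h
      exact Subgroup.mem_centralizer_iff.2 fun y hy => Subtype.ext (Subgroup.mem_centralizer_iff.1 h y.1 hy)
    · intro h
      exact Subgroup.mem_centralizer_iff.2 fun y hy =>
        congrArg Subtype.val (Subgroup.mem_centralizer_iff.1 h ⟨y, hHN hy⟩ hy)
  have hHn : (H.subgroupOf N).Normal := Subgroup.normal_subgroupOf_of_le_normalizer le_rfl
  have hk := key R (H.subgroupOf N)
    (by rw [hR]; exact fun x hx => Subgroup.mem_subgroupOf.2 ⟨hHP hx, x.2⟩)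
    ((Subgroup.centralizer (H : Set G)).subgroupOf N) hCeq
  have e1 : H ≤ ((Cfsg.pCore p (↥N ⧸ (Subgroup.centralizer (H : Set G)).subgroupOf N)).comap
        (QuotientGroup.mk' _)).map N.subtype ↔
      H.subgroupOf N ≤ (Cfsg.pCore p (↥N ⧸ (Subgroup.centralizer (H : Set G)).subgroupOf N)).comap
        (QuotientGroup.mk' _) := by
    rw [← Subgroup.map_subtype_le_map_subtype, Subgroup.subgroupOf_map_subtype, inf_of_le_left hHN]
  have e2 : H.relIndex (((Cfsg.pCore p (↥N ⧸ (Subgroup.centralizer (H : Set G)).subgroupOf N)).comap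
        (QuotientGroup.mk' _)).map N.subtype) =
      (H.subgroupOf N).relIndex ((Cfsg.pCore p (↥N ⧸ (Subgroup.centralizer (H : Set G)).subgroupOf N)).comap
        (QuotientGroup.mk' _)) := (Subgroup.relIndex_comap H N.subtype _).symm
  rw [e1, e2, hk]
  refine and_congr ?_ ?_
  · constructor
    · intro h x hx
      exact h (x := ⟨x, hCN hx.2⟩)
        ⟨by rw [hR]; exact Subgroup.mem_subgroupOf.2 ⟨hx.1, hCN hx.2⟩, hx.2⟩
    · rintro h ⟨x, hxN⟩ ⟨hxR, hxC⟩
      rw [hR] at hxR
      exact h ⟨hxR.1, hxC⟩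
  · constructor
    · intro h
      rw [h, Subgroup.map_sup, Subgroup.subgroupOf_map_subtype, Subgroup.subgroupOf_map_subtype,
        inf_of_le_left hHN, inf_of_le_left hCN]
    · intro h
      refine Subgroup.map_injective N.subtype_injective ?_
      rw [h, Subgroup.map_sup, Subgroup.subgroupOf_map_subtype, Subgroup.subgroupOf_map_subtype,
        inf_of_le_left hHN, inf_of_le_left hCN]

end Cfsg.Agent.S3076
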