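import Cfsg.Statements.S3084
import Cfsg.Agent.Lib.LargeExtra.PlusLift

set_option autoImplicit false
open Cfsg

namespace Cfsg.Agent.S3084

open Cfsg.Agent.PlusLift Matrix

theorem zmod2_cases : ∀ t : ZMod 2, t = 0 ∨ t = 1 := by decide

section

variable {U : Type*} [AddCommGroup U] [Module (ZMod 2) U] [Module.Finite (ZMod 2) U]

/-- Hyperbolic coordinates. -/
theorem exists_coords (n : ℕ) (hn : Module.finrank (ZMod 2) U = 2 * n) (q : QuadraticForm (ZMod 2) U)
    (hnd : (QuadraticMap.polarBilin q).Nondegenerate)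
    (hplus : ∃ W : Submodule (ZMod 2) U, Module.finrank (ZMod 2) ↥W = n ∧ ∀ w ∈ W, q w = 0) :
    ∃ Φ : Sp n ≃ₗ[ZMod 2] U, ∀ u, q (Φ u) = beta u u := by
  classical
  obtain ⟨W, hW, hWq⟩ := hplus
  set B := QuadraticMap.polarBilin q with hB
  have hBdef : ∀ x y, q (x + y) = q x + q y + B x y := fun x y => by
    rw [hB, QuadraticMap.polarBilin_apply_apply, QuadraticMap.polar]; ring
  have hBs : ∀ x y, B x y = B y x := fun x y => by
    have h1 := hBdef x y
    have h2 := hBdef y x
    rw [add_comm y x] at h2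
    linear_combination h2 - h1
  have hBd : ∀ x, B x x = 0 := fun x => by
    have h := hBdef x x
    rw [show x + x = 0 by rw [← two_smul (ZMod 2) x, show (2 : ZMod 2) = 0 from rfl, zero_smul],
      QuadraticMap.map_zero, CharTwo.add_self_eq_zero, zero_add] at h
    exact h.symm
  have hWB : ∀ v ∈ W, ∀ w ∈ W, B v w = 0 := fun v hv w hw => by
    have h := hBdef v w
    rw [hWq v hv, hWq w hw, hWq _ (W.add_mem hv hw), zero_add, zero_add] at h
    exact h.symm
  let wb := Module.finBasisOfFinrankEq (ZMod 2) ↥W hW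
  let w : Fin n → U := fun i => (wb i : U)
  have hwW : ∀ i, w i ∈ W := fun i => (wb i).2
  -- dual vectors
  have hbij : Function.Bijective (B : U → Module.Dual (ZMod 2) U) := by
    have hinj : Function.Injective (B : U →ₗ[ZMod 2] Module.Dual (ZMod 2) U) :=
      LinearMap.ker_eq_bot.1 (LinearMap.separatingLeft_iff_ker_eq_bot.1 hnd.1)
    exact ⟨hinj, (LinearMap.injective_iff_surjective_of_finrank_eq_finrank
      (Subspace.dual_finrank_eq (K := ZMod 2) (V := U)).symm).1 hinj⟩
  have hdual : ∀ j, ∃ e : U, ∀ i, B e (w i) = if i = j then 1 else 0 := fun j => by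
    obtain ⟨φ, hφ⟩ := W.subtype.dualMap_surjective_of_injective W.injective_subtype (wb.coord j)
    obtain ⟨e, he⟩ := hbij.2 φ
    refine ⟨e, fun i => ?_⟩
    rw [he, show φ (w i) = wb.coord j (wb i) from LinearMap.congr_fun hφ (wb i), Module.Basis.coord_apply,
      Module.Basis.repr_self, Finsupp.single_apply]
  choose e he using hdual
  let c : Fin n → Fin n → ZMod 2 := fun j i => if i < j then B (e i) (e j) else if i = j then q (e j) else 0
  let s : Fin n → U := fun j => ∑ i, c j i • w i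
  have hsW : ∀ j, s j ∈ W := fun j => W.sum_mem fun i _ => W.smul_mem _ (hwW i)
  have hes : ∀ i j, B (e i) (s j) = c j i := fun i j => by
    simp only [s, map_sum, map_smul, he, smul_eq_mul, mul_ite, mul_one, mul_zero, Finset.sum_ite_eq',
      Finset.mem_univ, if_true]
  let f : Fin n → U := fun j => e j + s j
  have hfw : ∀ j i, B (f j) (w i) = if i = j then 1 else 0 := fun j i => by
    simp only [f, map_add, LinearMap.add_apply, he, hWB _ (hsW j) _ (hwW i), add_zero]
  have hff : ∀ i j, B (f i) (f j) = 0 := fun i j => by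
    rcases eq_or_ne i j with rfl | hij
    · exact hBd _
    simp only [f, map_add, LinearMap.add_apply, hes, hBs (s i) (e j), hWB _ (hsW i) _ (hsW j), add_zero, c]
    rcases lt_or_gt_of_ne hij with h | h
    · rw [if_pos h, if_neg h.not_gt, if_neg hij.symm, add_zero, CharTwo.add_self_eq_zero]
    · rw [if_neg h.not_gt, if_neg hij, if_pos h, add_zero, hBs (e i) (e j), CharTwo.add_self_eq_zero]
  have hfq : ∀ j, q (f j) = 0 := fun j => by
    show q (e j + s j) = 0
    rw [hBdef, hWq _ (hsW j), hes, add_zero]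
    simp only [c, lt_irrefl, if_false, if_true, CharTwo.add_self_eq_zero]
  have hsum : ∀ a : Pt n, q (∑ i, a i • f i) = 0 := by
    intro a
    suffices h : ∀ t : Finset (Fin n), q (∑ i ∈ t, a i • f i) = 0 from h _
    intro t
    induction t using Finset.induction_on with
    | empty => rw [Finset.sum_empty, QuadraticMap.map_zero]
    | insert i t hi ih =>
      rw [Finset.sum_insert hi, hBdef, QuadraticMap.map_smul, hfq, ih, smul_zero, zero_add, zero_add]
      simp only [map_smul, LinearMap.smul_apply, map_sum, hff, smul_zero, Finset.sum_const_zero]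
  let L : Sp n →ₗ[ZMod 2] U :=
    (Fintype.linearCombination (ZMod 2) f).comp (LinearMap.fst _ _ _) +
      (Fintype.linearCombination (ZMod 2) w).comp (LinearMap.snd _ _ _)
  have hL : ∀ u : Sp n, L u = ∑ i, u.1 i • f i + ∑ i, u.2 i • w i := fun u => rfl
  have hmem : ∀ u : Sp n, ∑ i, u.2 i • w i ∈ W := fun u => W.sum_mem fun i _ => W.smul_mem _ (hwW i)
  have hfirst : ∀ u : Sp n, ∀ i, B (L u) (w i) = u.1 i := fun u i => by
    rw [hL, map_add, LinearMap.add_apply, hWB _ (hmem u) _ (hwW i), add_zero]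
    simp only [map_sum, map_smul, LinearMap.sum_apply, LinearMap.smul_apply, hfw, smul_eq_mul, mul_ite, mul_one,
      mul_zero, Finset.sum_ite_eq, Finset.mem_univ, if_true]
  have hsecond : ∀ u : Sp n, ∀ i, B (f i) (L u) = u.2 i := fun u i => by
    rw [hL, map_add]
    simp only [map_sum, map_smul, hff, hfw, smul_eq_mul, mul_zero, Finset.sum_const_zero, zero_add, mul_ite,
      mul_one, Finset.sum_ite_eq', Finset.mem_univ, if_true]
  have hLi : Function.Injective L := fun u v h => Prod.ext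
    (funext fun i => by rw [← hfirst u, ← hfirst v, h]) (funext fun i => by rw [← hsecond u, ← hsecond v, h])
  have hrk : Module.finrank (ZMod 2) (Sp n) = Module.finrank (ZMod 2) U := by
    rw [hn, Module.finrank_prod, Module.finrank_pi, Fintype.card_fin]; ring
  refine ⟨LinearEquiv.ofBijective L ⟨hLi, (LinearMap.injective_iff_surjective_of_finrank_eq_finrank hrk).1 hLi⟩,
    fun u => ?_⟩
  show q (L u) = _
  rw [hL, hBdef, hsum, hWq _ (hmem u), zero_add, zero_add]
  simp only [map_sum, map_smul, LinearMap.sum_apply, LinearMap.smul_apply, hfw, smul_eq_mul, mul_ite, mul_one,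
    mul_zero, Finset.sum_ite_eq, Finset.sum_ite_eq', Finset.mem_univ, if_true, beta, dotProduct]

end

/-- Let K be a group acting faithfully and linearly on a finite-dimensional vector space U of dimension 2n ≥ 2 over the field with two elements, preserving a quadratic form q whose polar bilinear form is non-degenerate and which vanishes on some n-dimensional subspace (a non-singular form of plus type). Then there is a finite group R with a normal extraspecial 2-subgroup Q of order 2^(2n+1), an isomorphism of R/Q with K, and a surjective homomorphism χ from Q onto (the additive group of) U with kernel the centre of Q, such that χ carries conjugation by any r in R to the action of the image of r in K, and an element a of Q squares to the identity exactly when q vanishes at χ(a). -/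
theorem result {K : Type*} [Group K] {U : Type*} [AddCommGroup U] [Module (ZMod 2) U] [Module.Finite (ZMod 2) U] (n : ℕ) (hn1 : 1 ≤ n) (hn : Module.finrank (ZMod 2) U = 2 * n) (ρ : Representation (ZMod 2) K U) (hρ : Function.Injective ρ) (q : QuadraticForm (ZMod 2) U) (hq : ∀ (k : K) (u : U), q (ρ k u) = q u) (hnd : (QuadraticMap.polarBilin q).Nondegenerate) (hplus : ∃ W : Submodule (ZMod 2) U, Module.finrank (ZMod 2) ↥W = n ∧ ∀ w ∈ W, q w = 0) : ∃ (R : Type) (_ : Group R) (_ : Finite R) (Q : Subgroup R) (hN : Q.Normal) (e : R ⧸ Q ≃* K) (χ : ↥Q →* Multiplicative U), Cfsg.IsExtraspecial 2 ↥Q ∧ Nat.card ↥Q = 2 ^ (2 * n + 1) ∧ Function.Surjective χ ∧ χ.ker = Subgroup.center ↥Q ∧ (∀ (r : R) (a : ↥Q), χ ⟨r * a * r⁻¹, hN.conj_mem (a : R) a.2 r⟩ = Multiplicative.ofAdd (ρ (e (r : R ⧸ Q)) (Multiplicative.toAdd (χ a)))) ∧ ∀ a : ↥Q, a * a = 1 ↔ q (Multiplicative.toAdd (χ a)) = 0 := by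
  classical
  haveI : Fact (Nat.Prime 2) := ⟨Nat.prime_two⟩
  obtain ⟨Φ, hΦ⟩ := exists_coords n hn q hnd hplus
  let ρe : K → U ≃ₗ[ZMod 2] U := fun k => LinearEquiv.ofLinear (ρ k) (ρ k⁻¹)
    (by rw [← Module.End.mul_eq_comp, ← map_mul, mul_inv_cancel, map_one]; rfl)
    (by rw [← Module.End.mul_eq_comp, ← map_mul, inv_mul_cancel, map_one]; rfl)
  let σ : K → Sp n ≃ₗ[ZMod 2] Sp n := fun k => Φ.trans ((ρe k).trans Φ.symm)
  have hσ : ∀ k u, σ k u = Φ.symm (ρ k (Φ u)) := fun k u => rfl
  have hmul : ∀ k l u, σ (k * l) u = σ k (σ l u) := fun k l u => by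
    rw [hσ, hσ, hσ, Φ.apply_symm_apply, map_mul, Module.End.mul_apply]
  have hone : ∀ u, σ 1 u = u := fun u => by rw [hσ, map_one, Module.End.one_apply, Φ.symm_apply_apply]
  have hinj : Function.Injective σ := fun k l h => hρ (LinearMap.ext fun x => Φ.symm.injective (by
    have h2 : σ k (Φ.symm x) = σ l (Φ.symm x) := by rw [h]
    rwa [hσ, hσ, Φ.apply_symm_apply] at h2))
  have hβ : ∀ k u, beta (σ k u) (σ k u) = beta u u := fun k u => by
    rw [← hΦ, ← hΦ, hσ, Φ.apply_symm_apply, hq]
  let R := lifts σ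
  choose kOf hkOf using fun g : R => (mem_lifts σ hmul hone).1 g.2
  let π : R →* K :=
    { toFun := kOf
      map_one' := Induces.unique σ hinj (hkOf 1) (induces_one σ hone)
      map_mul' := fun g h => Induces.unique σ hinj (hkOf (g * h)) (Induces.mul σ hmul (hkOf g) (hkOf h)) }
  have hπ : Function.Surjective π := fun k => by
    obtain ⟨g, hg⟩ := exists_lift (σ k) (hβ k)
    exact ⟨⟨g, (mem_lifts σ hmul hone).2 ⟨k, hg⟩⟩, Induces.unique σ hinj (hkOf _) hg⟩
  -- the kernel
  have hswap : ∀ w u : Sp n, M w * M u = sgn (beta w u + beta u w) • (M u * M w) := fun w u => by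
    rw [M_mul, M_mul, smul_smul, ← sgn_add, add_assoc, CharTwo.add_self_eq_zero, add_zero, add_comm w u]
  have hMker : ∀ (w : Sp n) (a : ZMod 2) (g : R),
      ((g : GG n) : Matrix (Pt n) (Pt n) (ZMod 3)) = sgn a • M w → g ∈ π.ker := fun w a g hg => by
    refine Induces.unique σ hinj (hkOf g) fun u => ⟨beta w u + beta u w, ?_⟩
    rw [hone, hg, smul_mul_assoc, hswap, mul_smul_comm, smul_comm]
  have hker : ∀ g : R, g ∈ π.ker →
      ∃ p : ZMod 2 × Sp n, ((g : GG n) : Matrix (Pt n) (Pt n) (ZMod 3)) = sgn p.1 • M p.2 := by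
    intro g hg
    have h1 : Induces σ 1 (g : GG n) := (show kOf g = 1 from hg) ▸ hkOf g
    choose f hf using h1
    simp only [hone] at hf
    have hfadd : ∀ u v, f (u + v) = f u + f v := fun u v => by
      have hl : ((g : GG n) : Matrix (Pt n) (Pt n) (ZMod 3)) * (M u * M v) =
          sgn (f u + f v) • (M u * M v * ((g : GG n) : Matrix (Pt n) (Pt n) (ZMod 3))) := by
        rw [← mul_assoc, hf, smul_mul_assoc, mul_assoc, hf, mul_smul_comm, smul_smul, ← sgn_add, ← mul_assoc]
      rw [M_mul, mul_smul_comm, hf, smul_mul_assoc, smul_comm (sgn (f u + f v))] at hl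
      have h2 := smul_right_injective (Matrix (Pt n) (Pt n) (ZMod 3)) (sgn_ne _) hl
      have h3 := congrArg (fun X => X * (↑(g : GG n)⁻¹ : Matrix (Pt n) (Pt n) (ZMod 3))) h2
      simp only [smul_mul_assoc, mul_assoc, Units.mul_inv, mul_one] at h3
      exact (sgn_smul_inj h3).2
    let fl : Sp n →+ ZMod 2 := AddMonoidHom.mk' f hfadd
    set w : Sp n := (fun i => f (0, Pi.single i 1), fun i => f (Pi.single i 1, 0)) with hw
    have hlin : ∀ (φ : (Fin n → ZMod 2) →+ ZMod 2) (x : Fin n → ZMod 2), φ x = ∑ i, φ (Pi.single i 1) * x i := by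
      intro φ x
      conv_lhs => rw [← Finset.univ_sum_single x]
      rw [map_sum]
      refine Finset.sum_congr rfl fun i _ => ?_
      rcases zmod2_cases (x i) with h | h <;> rw [h] <;> simp
    have hfw : ∀ u, f u = beta w u + beta u w := fun u => by
      have ha := hlin (fl.comp (AddMonoidHom.inl _ _)) u.1
      have hb := hlin (fl.comp (AddMonoidHom.inr _ _)) u.2
      calc f u = f ((u.1, 0) + (0, u.2)) := by rw [Prod.mk_add_mk, add_zero, zero_add]
        _ = f (u.1, 0) + f (0, u.2) := hfadd _ _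
        _ = _ := by
          simp only [beta, dotProduct, hw]
          refine congrArg₂ (· + ·) ha (hb.trans ?_)
          exact Finset.sum_congr rfl fun i _ => mul_comm _ _
    obtain ⟨a, ha⟩ := eq_sgn_of_commute (n := n) ((Mu w)⁻¹ * (g : GG n)) fun u => by
      refine (Units.mul_right_inj (Mu w)).1 ?_
      show M w * (((Mu w)⁻¹ * (g : GG n) : GG n) * M u) = M w * (M u * ((Mu w)⁻¹ * (g : GG n) : GG n))
      have hc : ∀ X, M w * ((↑(Mu w)⁻¹ : Matrix (Pt n) (Pt n) (ZMod 3)) * X) = X := fun X =>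
        (Mu w).mul_inv_cancel_left X
      rw [Units.val_mul, mul_assoc, hc, ← mul_assoc (M w), hswap, smul_mul_assoc, mul_assoc, hc, hf, hfw]
    refine ⟨(a, w), ?_⟩
    rw [← mul_inv_cancel_left (Mu w) (g : GG n), Units.val_mul, ha, mul_smul_comm, mul_one]
    rfl
  set Q := π.ker with hQ
  choose pOf hpOf using fun a : Q => hker a.1 a.2
  have hpuniq : ∀ (a : Q) (s : ZMod 2) (w : Sp n),
      (((a : R) : GG n) : Matrix (Pt n) (Pt n) (ZMod 3)) = sgn s • M w → pOf a = (s, w) := fun a s w h => by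
    obtain ⟨h1, h2⟩ := sgn_smul_inj ((hpOf a).symm.trans h)
    exact Prod.ext h2 h1
  have hpmul : ∀ a b : Q, pOf (a * b) =
      ((pOf a).1 + (pOf b).1 + beta (pOf a).2 (pOf b).2, (pOf a).2 + (pOf b).2) := fun a b =>
    hpuniq _ _ _ (by
      rw [Subgroup.coe_mul, Subgroup.coe_mul, Units.val_mul, hpOf, hpOf, smul_mul_assoc, mul_smul_comm, M_mul,
        smul_smul, smul_smul, sgn_add, sgn_add, mul_assoc])
  have hp1 : pOf 1 = (0, 0) := hpuniq _ _ _ (by rw [sgn_zero, one_smul, M_zero]; rfl)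
  have hpinj : Function.Injective pOf := fun a b h =>
    Subtype.ext (Subtype.ext (Units.ext (by rw [hpOf a, hpOf b, h])))
  have hneg : ∀ s : ZMod 2, ∃ g : GG n, (g : Matrix (Pt n) (Pt n) (ZMod 3)) = sgn s • 1 := fun s =>
    ⟨⟨sgn s • 1, sgn s • 1, by rw [smul_mul_smul_comm, sgn_sq, one_mul, one_smul],
      by rw [smul_mul_smul_comm, sgn_sq, one_mul, one_smul]⟩, rfl⟩
  have hpsurj : Function.Surjective pOf := fun ⟨s, w⟩ => by
    obtain ⟨g, hg⟩ := hneg s
    have hgw : ((g * Mu w : GG n) : Matrix (Pt n) (Pt n) (ZMod 3)) = sgn s • M w := by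
      rw [Units.val_mul, hg, smul_mul_assoc, one_mul]; rfl
    have hgR : g * Mu w ∈ R := (mem_lifts σ hmul hone).2 ⟨1, fun u => ⟨beta w u + beta u w, by
      rw [hone, hgw, smul_mul_assoc, hswap, mul_smul_comm, smul_comm]⟩⟩
    exact ⟨⟨⟨_, hgR⟩, hMker w s ⟨_, hgR⟩ hgw⟩, hpuniq _ _ _ hgw⟩
  let χ : Q →* Multiplicative U :=
    { toFun := fun a => Multiplicative.ofAdd (Φ (pOf a).2)
      map_one' := by rw [hp1, map_zero]; rfl
      map_mul' := fun a b => by rw [hpmul, map_add]; rfl }
  have hχ : ∀ a, Multiplicative.toAdd (χ a) = Φ (pOf a).2 := fun a => rfl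
  have hcard : Nat.card Q = 2 ^ (2 * n + 1) := by
    rw [Nat.card_congr (Equiv.ofBijective pOf ⟨hpinj, hpsurj⟩)]
    simp [Nat.card_prod, Nat.card_pi, Nat.card_zmod]
    ring
  have hQfin : Finite Q := Finite.of_injective pOf hpinj
  have hcomm : ∀ a b : Q, a * b = b * a ↔ beta (pOf a).2 (pOf b).2 = beta (pOf b).2 (pOf a).2 := fun a b => by
    rw [← hpinj.eq_iff, hpmul, hpmul, Prod.mk.injEq, add_comm (pOf b).2, add_comm (pOf b).1, add_right_inj]
    exact and_iff_left rfl
  obtain ⟨z, hz⟩ := hpsurj (1, 0)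
  have hzpow : ∀ a : Q, a ∈ Subgroup.zpowers z ↔ (pOf a).2 = 0 := fun a => by
    constructor
    · rintro ⟨i, rfl⟩
      have hzk : z ∈ χ.ker := by rw [MonoidHom.mem_ker]; show Multiplicative.ofAdd (Φ (pOf z).2) = 1; rw [hz, map_zero]; rfl
      have h2 : z ^ i ∈ χ.ker := zpow_mem hzk i
      exact Φ.injective ((congrArg Multiplicative.toAdd h2).trans (map_zero Φ).symm)
    · intro h
      rcases zmod2_cases (pOf a).1 with h1 | h1
      · rw [show a = 1 from hpinj (by rw [hp1]; exact Prod.ext h1 h)]; exact one_mem _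
      · rw [show a = z from hpinj (by rw [hz]; exact Prod.ext h1 h)]; exact Subgroup.mem_zpowers z
  have hz2 : orderOf z = 2 := orderOf_eq_prime (hpinj (by
      rw [pow_two, hpmul, hz, hp1]; simp [beta, CharTwo.add_self_eq_zero]))
    fun h => by rw [h, hp1] at hz; exact zero_ne_one (congrArg Prod.fst hz)
  have hcen : ∀ a : Q, (∀ b, a * b = b * a) ↔ a ∈ Subgroup.zpowers z := fun a => by
    rw [hzpow]
    refine ⟨fun h => Prod.ext (funext fun i => ?_) (funext fun i => ?_), fun h b => (hcomm a b).2 (by simp [h, beta])⟩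
    · obtain ⟨b, hb⟩ := hpsurj (0, (0, Pi.single i 1))
      have h2 := (hcomm a b).1 (h b)
      rw [hb] at h2
      simpa [beta] using h2.symm
    · obtain ⟨b, hb⟩ := hpsurj (0, (Pi.single i 1, 0))
      have h2 := (hcomm a b).1 (h b)
      rw [hb] at h2
      simpa [beta] using h2
  have hext : Cfsg.IsExtraspecial 2 Q := by
    refine LargeExtra.isExtraspecial_of (IsPGroup.of_card hcard) hz2 hcen (fun a b => ?_) (fun a => ?_) ?_
    · rw [hzpow]
      refine Φ.injective ?_
      rw [map_zero, ← hχ, map_commutatorElement, commutatorElement_eq_one_iff_mul_comm.2 (mul_comm _ _), toAdd_one]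
    · rw [hzpow, pow_two, hpmul]
      exact PlusLift.add_self _
    · obtain ⟨i⟩ : Nonempty (Fin n) := ⟨⟨0, hn1⟩⟩
      obtain ⟨a, ha⟩ := hpsurj (0, (Pi.single i 1, 0))
      obtain ⟨b, hb⟩ := hpsurj (0, (0, Pi.single i 1))
      refine ⟨a, b, fun h => ?_⟩
      have h2 := (hcomm a b).1 h
      rw [ha, hb] at h2
      simp [beta] at h2
  haveI : Finite R := Subtype.finite
  refine ⟨R, inferInstance, inferInstance, Q, inferInstance, QuotientGroup.quotientKerEquivOfSurjective π hπ, χ,
    hext, hcard, fun x => ?_, ?_, fun r a => ?_, fun a => ?_⟩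
  · obtain ⟨a, ha⟩ := hpsurj (0, Φ.symm (Multiplicative.toAdd x))
    exact ⟨a, Multiplicative.toAdd.injective (by rw [hχ, ha, Φ.apply_symm_apply])⟩
  · ext a
    rw [MonoidHom.mem_ker, Subgroup.mem_center_iff]
    have h3 : (∀ b, b * a = a * b) ↔ (pOf a).2 = 0 := by
      rw [← hzpow, ← hcen]
      exact ⟨fun h b => (h b).symm, fun h b => (h b).symm⟩
    rw [h3]
    exact ⟨fun h => Φ.injective ((congrArg Multiplicative.toAdd h).trans (map_zero Φ).symm), fun h =>
      Multiplicative.toAdd.injective (by rw [hχ, h, map_zero, toAdd_one])⟩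
  · show Multiplicative.ofAdd (Φ (pOf _).2) = Multiplicative.ofAdd (ρ (π r) (Φ (pOf a).2))
    refine congrArg _ ?_
    obtain ⟨t, ht⟩ := hkOf r (pOf a).2
    rw [hpuniq _ ((pOf a).1 + t) (σ (π r) (pOf a).2) ?_, hσ, Φ.apply_symm_apply]
    show (((r : GG n) * ((a : R) : GG n) * (r : GG n)⁻¹ : GG n) : Matrix (Pt n) (Pt n) (ZMod 3)) = _
    rw [Units.val_mul, Units.val_mul, hpOf, mul_smul_comm, ht, smul_smul, smul_mul_assoc, ← sgn_add, mul_assoc,
      Units.mul_inv, mul_one]
    rfl
  · rw [hχ, hΦ, ← hpinj.eq_iff, hpmul, hp1]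
    simp [PlusLift.add_self, CharTwo.add_self_eq_zero]

end Cfsg.Agent.S3084
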