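import Cfsg.Statements.S3087

set_option autoImplicit false
open Cfsg

namespace Cfsg.Agent.S3087

/-- Let p be a prime, G a finite group acting linearly on a finite vector space V over the field with p elements, W a G-invariant subspace, and A a subgroup of G with |A|·|C_V(A)| ≥ |B|·|C_V(B)| for every subgroup B of A. Then |A|·|C_W(A)| ≥ |B|·|C_W(B)| for every subgroup B of A that contains C_A(W); that is, the image of A in the group induced on W satisfies the same maximality condition. -/
theorem result {G V : Type*} [Group G] [Finite G] [AddCommGroup V] [Finite V] (p : ℕ) [Fact p.Prime] [Module (ZMod p) V]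
    (ρ : Representation (ZMod p) G V) (W : Submodule (ZMod p) V) (hW : ∀ g : G, ∀ w ∈ W, ρ g w ∈ W)
    (A : Subgroup G)
    (hP : ∀ B : Subgroup G, B ≤ A →
      Nat.card ↥B * Nat.card {v : V // ∀ b ∈ B, ρ b v = v} ≤ Nat.card ↥A * Nat.card {v : V // ∀ a ∈ A, ρ a v = v})
    (B : Subgroup G) (hBA : B ≤ A) (hCB : ∀ a ∈ A, (∀ w ∈ W, ρ a w = w) → a ∈ B) :
    Nat.card ↥B * Nat.card {w : W // ∀ b ∈ B, ρ b w = w} ≤ Nat.card ↥A * Nat.card {w : W // ∀ a ∈ A, ρ a w = w} := by
  classical
  let CV : Subgroup G → AddSubgroup V := fun D =>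
    { carrier := {v | ∀ b ∈ D, ρ b v = v}
      zero_mem' := fun b _ => map_zero _
      add_mem' := fun {x y} hx hy b hb => by rw [map_add, hx b hb, hy b hb]
      neg_mem' := fun {x} hx b hb => by rw [map_neg, hx b hb] }
  let CW : Subgroup G → AddSubgroup V := fun D => CV D ⊓ W.toAddSubgroup
  have eV : ∀ D, Nat.card {v : V // ∀ b ∈ D, ρ b v = v} = Nat.card (CV D) := fun D => rfl
  have eW : ∀ D, Nat.card {w : W // ∀ b ∈ D, ρ b (w : V) = (w : V)} = Nat.card (CW D) := fun D =>
    Nat.card_congr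
      { toFun := fun w => ⟨(w.1 : V), w.2, w.1.2⟩
        invFun := fun v => ⟨⟨(v : V), v.2.2⟩, v.2.1⟩
        left_inv := fun w => rfl
        right_inv := fun v => rfl }
  have hmono : CV A ≤ CV B := fun v hv b hb => hv b (hBA hb)
  have hcard : ∀ H K : AddSubgroup V, Nat.card (H ⊓ K : AddSubgroup V) * H.relIndex K = Nat.card K := by
    intro H K
    rw [AddSubgroup.relIndex, ← AddSubgroup.card_mul_index (H.addSubgroupOf K)]
    congr 1
    rw [← AddSubgroup.addSubgroupOf_map_subtype, AddSubgroup.card_map_of_injective K.subtype_injective]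
  have hinf : CV A ⊓ CW B = CW A :=
    le_antisymm (fun v hv => ⟨hv.1, hv.2.2⟩) (fun v hv => ⟨hv.1, hmono hv.1, hv.2⟩)
  have h1 := hcard (CV A) (CW B)
  rw [hinf] at h1
  have h2 := hcard (CV A) (CV B)
  rw [inf_of_le_left hmono] at h2
  have h3 : (CV A).relIndex (CW B) ≤ (CV A).relIndex (CV B) :=
    AddSubgroup.relIndex_le_of_le_right inf_le_left AddSubgroup.index_ne_zero_of_finite
  have h4 := hP B hBA
  rw [eV B, eV A, ← h2] at h4
  rw [eW B, eW A, ← h1]
  have h5 : Nat.card ↥B * (CV A).relIndex (CV B) ≤ Nat.card ↥A := by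
    refine Nat.le_of_mul_le_mul_right ?_ (Nat.card_pos (α := CV A))
    calc Nat.card ↥B * (CV A).relIndex (CV B) * Nat.card (CV A)
        = Nat.card ↥B * (Nat.card (CV A) * (CV A).relIndex (CV B)) := by ring
      _ ≤ _ := h4
  calc Nat.card ↥B * (Nat.card (CW A) * (CV A).relIndex (CW B))
      = Nat.card ↥B * (CV A).relIndex (CW B) * Nat.card (CW A) := by ring
    _ ≤ Nat.card ↥B * (CV A).relIndex (CV B) * Nat.card (CW A) :=
        Nat.mul_le_mul_right _ (Nat.mul_le_mul_left _ h3)
    _ ≤ _ := Nat.mul_le_mul_right _ h5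

end Cfsg.Agent.S3087
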