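import Cfsg.Statements.S3103
import Cfsg.Agent.Lib.GLFourTwo.Heptads
import Cfsg.Agent.Lib.FiniteGroup.FrattiniAut
import Cfsg.Agent.Lib.Transfer.Basic
-- import your own Cfsg.Agent.* helpers here

set_option autoImplicit false
open Cfsg

namespace Cfsg.Agent.S3103

/-- A vector space of dimension four over the field with two elements gives a copy in `A₈`. -/
theorem exists_hom_of_module {W : Type*} [AddCommGroup W] [Finite W] [Module (ZMod 2) W]
    (hW : Nat.card W = 16) {M : Type*} [Group M] (ρ : M →* Module.End (ZMod 2) W)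
    (hρ : Function.Injective ρ) :
    ∃ f : M →* alternatingGroup (Fin 8), Function.Injective f := by
  classical
  have hfr : Module.finrank (ZMod 2) W = 4 := by
    have h := Module.natCard_eq_pow_finrank (K := ZMod 2) (V := W)
    rw [Nat.card_zmod, hW] at h
    exact (Nat.pow_right_injective le_rfl (show 2 ^ 4 = 2 ^ _ from h)).symm
  let b := Module.finBasisOfFinrankEq (ZMod 2) W hfr
  have hdet : ∀ a : M, Matrix.det (LinearMap.toMatrixAlgEquiv b (ρ a)) = 1 := by
    intro a
    have h1 : ∀ c : ZMod 2, c = 0 ∨ c = 1 := by decide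
    refine (h1 _).resolve_left ?_
    exact ((Matrix.isUnit_iff_isUnit_det _).1
      ((((Group.isUnit a).map ρ)).map (LinearMap.toMatrixAlgEquiv b))).ne_zero
  let g : M →* Matrix.SpecialLinearGroup (Fin 4) (ZMod 2) :=
    MonoidHom.mk' (fun a => ⟨LinearMap.toMatrixAlgEquiv b (ρ a), hdet a⟩) fun a c =>
      Subtype.ext (show LinearMap.toMatrixAlgEquiv b (ρ (a * c)) =
        LinearMap.toMatrixAlgEquiv b (ρ a) * LinearMap.toMatrixAlgEquiv b (ρ c) by
        rw [map_mul, map_mul])
  exact ⟨GLFourTwo.toAlt.comp g, GLFourTwo.toAlt_injective.comp fun a c h =>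
    hρ ((LinearMap.toMatrixAlgEquiv b).injective (congrArg Subtype.val h))⟩

/-- Automorphisms of an elementary abelian group of order at most sixteen. -/
theorem exists_hom_of_elementary {V : Type*} [CommGroup V] [Finite V] {r : ℕ} (hr : r ≤ 4)
    (hexp : ∀ x : V, x ^ 2 = 1) (hcard : Nat.card V = 2 ^ r) :
    ∃ f : MulAut V →* alternatingGroup (Fin 8), Function.Injective f := by
  let W := Additive V × (Fin (4 - r) → ZMod 2)
  letI : Module (ZMod 2) (Additive V) :=
    AddCommGroup.zmodModule fun x => Additive.toMul.injective (hexp (Additive.toMul x))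
  let ρ : MulAut V →* Module.End (ZMod 2) W :=
    { toFun := fun a => LinearMap.prodMap
        (AddMonoidHom.toZModLinearMap 2 (MonoidHom.toAdditive a.toMonoidHom)) LinearMap.id
      map_one' := LinearMap.ext fun x => rfl
      map_mul' := fun a c => LinearMap.ext fun x => rfl }
  refine exists_hom_of_module (W := W) (by
    rw [Nat.card_prod, Nat.card_congr Additive.toMul, hcard, Nat.card_fun, Nat.card_zmod,
      Nat.card_fin, ← pow_add, Nat.add_sub_cancel' hr]
    rfl) ρ fun a c h => ?_
  ext v
  exact congrArg (fun w : W => Additive.toMul w.1) (LinearMap.congr_fun h (Additive.ofMul v, 0))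

/-- Let X be a finite 2-constrained group with no nontrivial normal subgroup of odd order such that O₂(X) has sectional 2-rank at most 4. Then X/O₂(X) is isomorphic to a subgroup of the alternating group of degree 8. -/
theorem result {X : Type*} [Group X] [Finite X] (hc : Cfsg.IsPConstrained 2 X) (hO : Cfsg.oddCore X = ⊥)
    (h4 : Cfsg.SectionalPRankLE 2 4 ↥(Cfsg.pCore 2 X)) :
    ∃ f : X ⧸ Cfsg.pCore 2 X →* ↥(alternatingGroup (Fin 8)), Function.Injective f := by
  classical
  haveI : Fact (Nat.Prime 2) := ⟨Nat.prime_two⟩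
  set Q := pCore 2 X with hQ
  have hQp : IsPGroup 2 Q := PBasic.pCore_isPGroup 2 X
  haveI : Q.Normal := by
    haveI := PBasic.pCore_characteristic 2 X
    exact Subgroup.normal_of_characteristic _
  -- the hypothesis of constraint
  have hPP : pPrimePCore 2 X = Q := by
    have hq : Function.Injective (QuotientGroup.mk' (pPrimeCore 2 X)) := by
      rw [← MonoidHom.ker_eq_bot_iff, QuotientGroup.ker_mk']
      exact hO
    refine le_antisymm (PBasic.le_pCore ?_ ?_) ?_
    · exact Subgroup.Normal.comap inferInstance _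
    · exact (PBasic.pCore_isPGroup 2 _).comap_of_injective _ hq
    · intro x hx
      exact PBasic.map_pCore_le_of_surjective _ (QuotientGroup.mk'_surjective _)
        (Subgroup.mem_map_of_mem _ hx)
  have hCQ : Subgroup.centralizer (Q : Set X) ≤ Q := by
    have hP : IsPGroup 2 (⊤ : Subgroup ↥(pPrimePCore 2 X)) := by
      refine (IsPGroup.to_subgroup ?_ ⊤)
      rw [hPP]
      exact hQp
    obtain ⟨P, hP'⟩ := hP.exists_le_sylow
    have hh := hc P
    rw [top_le_iff.1 hP', ← MonoidHom.range_eq_map, Subgroup.range_subtype, hPP] at hh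
    exact hh
  -- the action on the Frattini quotient
  obtain ⟨n, hn⟩ := IsPGroup.iff_card.1 hQp
  obtain ⟨r, hr⟩ := hQp.index (frattini Q)
  haveI : Group.IsNilpotent Q := hQp.isNilpotent
  have hexp : ∀ x : Q ⧸ frattini Q, x ^ 2 = 1 := by
    intro x
    obtain ⟨y, rfl⟩ := QuotientGroup.mk_surjective x
    rw [← QuotientGroup.mk_pow, QuotientGroup.eq_one_iff]
    exact PGroupBasics.pow_mem_frattini hQp y
  have hcomm : ∀ a b : Q ⧸ frattini Q, a * b = b * a := fun a b => by
    have h1 := hexp (a * b); have h2 := hexp a; have h3 := hexp b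
    rw [pow_two] at h1 h2 h3
    rw [← inv_eq_of_mul_eq_one_right h1, mul_inv_rev, inv_eq_of_mul_eq_one_right h2,
      inv_eq_of_mul_eq_one_right h3]
  letI : CommGroup (Q ⧸ frattini Q) :=
    { QuotientGroup.Quotient.group (frattini Q) with mul_comm := hcomm }
  have hr4 : r ≤ 4 := by
    have h := h4 ⊤ ((frattini Q).subgroupOf ⊤) ⊤ ?_ (fun a _ => ?_)
    · rw [Subgroup.card_top, ← Subgroup.index_eq_card, ← Subgroup.relIndex,
        Subgroup.relIndex_top_right, hr] at h
      exact (Nat.pow_le_pow_iff_right Nat.one_lt_two).1 h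
    · refine ⟨⟨fun a b => Subtype.ext ?_⟩⟩
      obtain ⟨a', ha⟩ := QuotientGroup.mk_surjective a.1
      obtain ⟨b', hb⟩ := QuotientGroup.mk_surjective b.1
      rw [Subgroup.coe_mul, Subgroup.coe_mul, ← ha, ← hb, ← QuotientGroup.mk_mul,
        ← QuotientGroup.mk_mul, QuotientGroup.eq, Subgroup.mem_subgroupOf]
      have := hcomm (a'.1 : Q ⧸ frattini Q) b'.1
      rw [← QuotientGroup.mk_mul, ← QuotientGroup.mk_mul, QuotientGroup.eq] at this
      exact this
    · obtain ⟨a', rfl⟩ := QuotientGroup.mk_surjective a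
      rw [← QuotientGroup.mk_pow, QuotientGroup.eq_one_iff, Subgroup.mem_subgroupOf]
      exact PGroupBasics.pow_mem_frattini hQp a'.1
  obtain ⟨e, he⟩ := exists_hom_of_elementary hr4 hexp (by rw [← Subgroup.index_eq_card, hr])
  have hchar : ∀ α : MulAut Q, (frattini Q).map (α : Q →* Q) = frattini Q := fun α =>
    Subgroup.characteristic_iff_map_eq.1 inferInstance α
  let Φ : MulAut Q →* MulAut (Q ⧸ frattini Q) :=
    { toFun := fun α => QuotientGroup.congr (frattini Q) (frattini Q) α (hchar α)
      map_one' := by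
        ext x
        obtain ⟨y, rfl⟩ := QuotientGroup.mk_surjective x
        rfl
      map_mul' := fun α β => by
        ext x
        obtain ⟨y, rfl⟩ := QuotientGroup.mk_surjective x
        rfl }
  let c : X →* MulAut Q := MulAut.conjNormal
  let F : X →* alternatingGroup (Fin 8) := e.comp (Φ.comp c)
  have hker : F.ker = Q := by
    refine le_antisymm (PBasic.le_pCore inferInstance ?_) fun x hx => ?_
    · have hK : IsPGroup 2 (Φ.ker) := by
        obtain ⟨k, -, hk⟩ := (Nat.dvd_prime_pow Nat.prime_two).1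
          (FrattiniAut.card_dvd_of_trivial hn hr Φ.ker fun α hα y => by
            have h2 : ((α y : Q) : Q ⧸ frattini Q) = (y : Q ⧸ frattini Q) :=
              DFunLike.congr_fun (MonoidHom.mem_ker.1 hα) (y : Q ⧸ frattini Q)
            rw [← QuotientGroup.eq_one_iff, QuotientGroup.mk_mul, QuotientGroup.mk_inv, h2,
              mul_inv_cancel])
        exact IsPGroup.of_card hk
      have hF : F.ker = Φ.ker.comap c := by
        ext x
        simp [F, MonoidHom.mem_ker, map_eq_one_iff e he]
      rw [hF]
      refine hK.comap_of_ker_isPGroup c (hQp.to_le fun x hx => hCQ fun y hy => ?_)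
      have := congrArg Subtype.val (DFunLike.congr_fun (MonoidHom.mem_ker.1 hx) ⟨y, hy⟩)
      simp only [c, MulAut.conjNormal_apply, MulAut.one_apply] at this
      exact (mul_inv_eq_iff_eq_mul.1 this).symm
    · refine MonoidHom.mem_ker.2 ?_
      change e (Φ (c x)) = 1
      rw [show Φ (c x) = 1 from ?_, map_one]
      ext y
      obtain ⟨y, rfl⟩ := QuotientGroup.mk_surjective y
      change ((c x y : Q) : Q ⧸ frattini Q) = (y : Q ⧸ frattini Q)
      have : c x y = (⟨x, hx⟩ : Q) * y * (⟨x, hx⟩ : Q)⁻¹ := Subtype.ext (by simp [c])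
      rw [this, QuotientGroup.mk_mul, QuotientGroup.mk_mul, QuotientGroup.mk_inv, hcomm,
        inv_mul_cancel_left]
  exact ⟨QuotientGroup.lift _ F hker.ge, by
    rw [← MonoidHom.ker_eq_bot_iff, QuotientGroup.ker_lift, hker, QuotientGroup.map_mk'_self]⟩

end Cfsg.Agent.S3103
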