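import Cfsg.Statements.S3104
import Cfsg.Agent.Lib.GLFourTwo.LocalSubgroups
import Cfsg.Agent.Lib.GLFourTwo.RankFive
import Cfsg.Agent.Lib.FiniteGroup.FrattiniAut
import Cfsg.Agent.S3103
-- import your own Cfsg.Agent.* helpers here

set_option autoImplicit false
open Cfsg

namespace Cfsg.Agent.S3104

open Equiv
open scoped Classical

theorem equiv_psl32 :
    Nonempty (GL (Fin 3) (ZMod 2) ≃* Matrix.ProjectiveSpecialLinearGroup (Fin 3) (ZMod 2)) := by
  haveI : Fact (Nat.Prime 2) := ⟨Nat.prime_two⟩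
  have h2 : Nat.card (ZMod 2) = 2 := Nat.card_zmod 2
  have hgl : Nat.card (GL (Fin 3) (ZMod 2)) = 168 := A8Sub.gl32.2
  have hsl : Nat.card (Matrix.SpecialLinearGroup (Fin 3) (ZMod 2)) = 168 := by
    have h := ClassicalSL.card_sl_mul (ι := Fin 3) (F := ZMod 2)
    rw [h2, hgl] at h
    omega
  obtain ⟨e⟩ := A8Sub.nonempty_equiv (Matrix.SpecialLinearGroup.toGL (n := Fin 3) (R := ZMod 2))
    Matrix.SpecialLinearGroup.toGL_injective (hsl.trans hgl.symm)
  refine ⟨e.symm.trans (MulEquiv.ofBijective (QuotientGroup.mk' _)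
    ⟨?_, QuotientGroup.mk'_surjective _⟩)⟩
  rw [← MonoidHom.ker_eq_bot_iff, QuotientGroup.ker_mk', ← Subgroup.card_eq_one,
    ClassicalSL.card_center_sl, h2]
  simp

/-- The group acts faithfully modulo its largest normal `2`-subgroup on the Frattini quotient. -/
theorem exists_action {X : Type*} [Group X] [Finite X] (hc : Cfsg.IsPConstrained 2 X)
    (hO : Cfsg.oddCore X = ⊥) (h4 : Cfsg.SectionalPRankLE 2 4 ↥(Cfsg.pCore 2 X)) :
    ∃ (r : ℕ) (_ : r ≤ 4) (K : Subgroup X) (_ : K.Normal) (e : (Fin r → ZMod 2) → X ⧸ K)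
      (ρ : X ⧸ Cfsg.pCore 2 X →* GL (Fin r) (ZMod 2)),
      Function.Injective e ∧ (∀ a b, e (a + b) = e a * e b) ∧ Function.Injective ρ ∧
      (∀ x : X, RankFive.Lift e (x : X ⧸ K) (ρ (x : X ⧸ Cfsg.pCore 2 X)).1) ∧
      (∀ y : X ⧸ K, RankFive.Lift e y 1 → ∃ a, y = e a) ∧
      K = (frattini ↥(Cfsg.pCore 2 X)).map (Cfsg.pCore 2 X).subtype := by
  haveI : Fact (Nat.Prime 2) := ⟨Nat.prime_two⟩
  set Q := Cfsg.pCore 2 X with hQ
  have hQp : IsPGroup 2 Q := PBasic.pCore_isPGroup 2 X
  haveI : Q.Normal := Cfsg.pCore_normal 2 X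
  have hPP : Cfsg.pPrimePCore 2 X = Q := by
    have hq : Function.Injective (QuotientGroup.mk' (Cfsg.pPrimeCore 2 X)) := by
      rw [← MonoidHom.ker_eq_bot_iff, QuotientGroup.ker_mk']
      exact hO
    refine le_antisymm (PBasic.le_pCore ?_ ?_) ?_
    · exact Subgroup.Normal.comap inferInstance _
    · exact (PBasic.pCore_isPGroup 2 _).comap_of_injective _ hq
    · intro x hx
      exact PBasic.map_pCore_le_of_surjective _ (QuotientGroup.mk'_surjective _)
        (Subgroup.mem_map_of_mem _ hx)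
  have hCQ : Subgroup.centralizer (Q : Set X) ≤ Q := by
    have hP : IsPGroup 2 (⊤ : Subgroup ↥(Cfsg.pPrimePCore 2 X)) := by
      refine (IsPGroup.to_subgroup ?_ ⊤)
      rw [hPP]
      exact hQp
    obtain ⟨P, hP'⟩ := hP.exists_le_sylow
    have hh := hc P
    rw [top_le_iff.1 hP', ← MonoidHom.range_eq_map, Subgroup.range_subtype, hPP] at hh
    exact hh
  obtain ⟨n, hn⟩ := IsPGroup.iff_card.1 hQp
  obtain ⟨r, hr⟩ := hQp.index (frattini Q)
  haveI : Group.IsNilpotent Q := hQp.isNilpotent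
  have hexp : ∀ x : Q ⧸ frattini Q, x ^ 2 = 1 := by
    intro x
    obtain ⟨y, rfl⟩ := QuotientGroup.mk_surjective x
    rw [← QuotientGroup.mk_pow, QuotientGroup.eq_one_iff]
    exact PGroupBasics.pow_mem_frattini hQp y
  have hcomm : ∀ a b : Q ⧸ frattini Q, a * b = b * a := fun a b => by
    have h1 := hexp (a * b); have h2 := hexp a; have h3 := hexp b
    rw [pow_two] at h1 h2 h3
    rw [← inv_eq_of_mul_eq_one_right h1, _root_.mul_inv_rev, inv_eq_of_mul_eq_one_right h2,
      inv_eq_of_mul_eq_one_right h3]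
  letI : CommGroup (Q ⧸ frattini Q) :=
    { QuotientGroup.Quotient.group (frattini Q) with mul_comm := hcomm }
  have hr4 : r ≤ 4 := by
    have h := h4 ⊤ ((frattini Q).subgroupOf ⊤) ⊤ ?_ (fun a _ => ?_)
    · rw [Subgroup.card_top, ← Subgroup.index_eq_card, ← Subgroup.relIndex,
        Subgroup.relIndex_top_right, hr] at h
      exact (Nat.pow_le_pow_iff_right Nat.one_lt_two).1 h
    · refine ⟨⟨fun a b => Subtype.ext ?_⟩⟩
      obtain ⟨a', ha⟩ := QuotientGroup.mk_surjective a.1
      obtain ⟨b', hb⟩ := QuotientGroup.mk_surjective b.1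
      rw [Subgroup.coe_mul, Subgroup.coe_mul, ← ha, ← hb, ← QuotientGroup.mk_mul,
        ← QuotientGroup.mk_mul, QuotientGroup.eq, Subgroup.mem_subgroupOf]
      have := hcomm (a'.1 : Q ⧸ frattini Q) b'.1
      rw [← QuotientGroup.mk_mul, ← QuotientGroup.mk_mul, QuotientGroup.eq] at this
      exact this
    · obtain ⟨a', rfl⟩ := QuotientGroup.mk_surjective a
      rw [← QuotientGroup.mk_pow, QuotientGroup.eq_one_iff, Subgroup.mem_subgroupOf]
      exact PGroupBasics.pow_mem_frattini hQp a'.1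
  -- the Frattini subgroup inside `X`
  let K : Subgroup X := (frattini Q).map Q.subtype
  haveI hK : K.Normal := inferInstance
  -- the embedding of the Frattini quotient
  let j : Q ⧸ frattini Q →* X ⧸ K := QuotientGroup.map (frattini Q) K Q.subtype
    (Subgroup.le_comap_map _ _)
  have hj : Function.Injective j := by
    rw [injective_iff_map_eq_one]
    intro x hx
    obtain ⟨y, rfl⟩ := QuotientGroup.mk_surjective x
    rw [QuotientGroup.eq_one_iff]
    obtain ⟨z, hz, hzy⟩ := (QuotientGroup.eq_one_iff (N := K) (y : X)).1 hx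
    rwa [← Subtype.ext hzy]
  letI : Module (ZMod 2) (Additive (Q ⧸ frattini Q)) :=
    AddCommGroup.zmodModule fun x => Additive.toMul.injective (hexp (Additive.toMul x))
  have hfr : Module.finrank (ZMod 2) (Additive (Q ⧸ frattini Q)) = r := by
    have h := Module.natCard_eq_pow_finrank (K := ZMod 2) (V := Additive (Q ⧸ frattini Q))
    rw [Nat.card_zmod, Nat.card_congr Additive.toMul, ← Subgroup.index_eq_card, hr] at h
    exact (Nat.pow_right_injective le_rfl h).symm
  let b := (Module.finBasisOfFinrankEq (ZMod 2) (Additive (Q ⧸ frattini Q)) hfr).equivFun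
  let e : (Fin r → ZMod 2) → X ⧸ K := fun a => j (Additive.toMul (b.symm a))
  have he : Function.Injective e :=
    hj.comp (Additive.toMul.injective.comp b.symm.injective)
  have hadd : ∀ a c, e (a + c) = e a * e c := fun a c => by
    simp only [e, map_add, toMul_add, map_mul]
  -- the action
  have hconj : ∀ (x : X ⧸ K) (a : Fin r → ZMod 2), ∃ c, x * e a * x⁻¹ = e c := by
    intro x a
    obtain ⟨x, rfl⟩ := QuotientGroup.mk_surjective x
    obtain ⟨y, hy⟩ := QuotientGroup.mk_surjective (Additive.toMul (b.symm a))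
    refine ⟨b (Additive.ofMul (((MulAut.conjNormal x y : Q) : Q ⧸ frattini Q))), ?_⟩
    simp only [e, LinearEquiv.symm_apply_apply, toMul_ofMul]
    rw [← hy]
    show ((x * y * x⁻¹ : X) : X ⧸ K) = ((MulAut.conjNormal x y : Q) : X)
    rw [MulAut.conjNormal_apply]
  choose c hc' using hconj
  have hcadd : ∀ x a d, c x (a + d) = c x a + c x d := fun x a d => he (by
    rw [← hc', hadd, hadd, ← hc', ← hc']
    group)
  let L : X ⧸ K → Matrix (Fin r) (Fin r) (ZMod 2) := fun x =>
    LinearMap.toMatrix' ((AddMonoidHom.mk' (c x) (hcadd x)).toZModLinearMap 2)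
  have hL : ∀ x, RankFive.Lift e x (L x) := fun x a => by
    rw [LinearMap.toMatrix'_mulVec]
    exact hc' x a
  let σ : X →* Matrix (Fin r) (Fin r) (ZMod 2) :=
    { toFun := fun x => L (x : X ⧸ K)
      map_one' := (hL _).eq he (by intro a; simp)
      map_mul' := fun x y => by
        refine (hL _).eq he ?_
        rw [QuotientGroup.mk_mul]
        exact (hL _).mul (hL _) }
  let ρ0 : X →* GL (Fin r) (ZMod 2) := σ.toHomUnits
  have hρ0 : ∀ x : X, RankFive.Lift e (x : X ⧸ K) (ρ0 x).1 := fun x => hL _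
  have hQker : Q ≤ ρ0.ker := by
    intro x hx
    refine MonoidHom.mem_ker.2 (Units.ext ((hρ0 x).eq he fun a => ?_))
    rw [Units.val_one, Matrix.one_mulVec]
    have e1 : (x : X ⧸ K) = j ((⟨x, hx⟩ : Q) : Q ⧸ frattini Q) := rfl
    rw [e1, ← map_inv, ← map_mul, ← map_mul, hcomm, inv_mul_cancel_left]
  have hkerQ : ρ0.ker ≤ Q := by
    refine PBasic.le_pCore inferInstance ?_
    have hchar : ∀ α : MulAut Q, (frattini Q).map (α : Q →* Q) = frattini Q := fun α =>
      Subgroup.characteristic_iff_map_eq.1 inferInstance α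
    let Φ : MulAut Q →* MulAut (Q ⧸ frattini Q) :=
      { toFun := fun α => QuotientGroup.congr (frattini Q) (frattini Q) α (hchar α)
        map_one' := by
          ext x
          obtain ⟨y, rfl⟩ := QuotientGroup.mk_surjective x
          rfl
        map_mul' := fun α β => by
          ext x
          obtain ⟨y, rfl⟩ := QuotientGroup.mk_surjective x
          rfl }
    let cj : X →* MulAut Q := MulAut.conjNormal
    have hΦp : IsPGroup 2 (Φ.ker) := by
      obtain ⟨k, -, hk⟩ := (Nat.dvd_prime_pow Nat.prime_two).1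
        (FrattiniAut.card_dvd_of_trivial hn hr Φ.ker fun α hα y => by
          have h2 : ((α y : Q) : Q ⧸ frattini Q) = (y : Q ⧸ frattini Q) :=
            DFunLike.congr_fun (MonoidHom.mem_ker.1 hα) (y : Q ⧸ frattini Q)
          rw [← QuotientGroup.eq_one_iff, QuotientGroup.mk_mul, QuotientGroup.mk_inv, h2,
            mul_inv_cancel])
      exact IsPGroup.of_card hk
    refine (hΦp.comap_of_ker_isPGroup cj (hQp.to_le fun x hx => hCQ fun y hy => ?_)).to_le ?_
    · have := congrArg Subtype.val (DFunLike.congr_fun (MonoidHom.mem_ker.1 hx) ⟨y, hy⟩)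
      simp only [cj, MulAut.conjNormal_apply, MulAut.one_apply] at this
      exact (mul_inv_eq_iff_eq_mul.1 this).symm
    · intro x hx
      refine MonoidHom.mem_ker.2 (MulEquiv.ext fun v => hj ?_)
      obtain ⟨y, rfl⟩ := QuotientGroup.mk_surjective v
      show j ((cj x y : Q) : Q ⧸ frattini Q) = j (y : Q ⧸ frattini Q)
      have h1 := hρ0 x (b (Additive.ofMul (y : Q ⧸ frattini Q)))
      rw [MonoidHom.mem_ker.1 hx, Units.val_one, Matrix.one_mulVec] at h1
      simp only [e, LinearEquiv.symm_apply_apply, toMul_ofMul] at h1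
      rw [← h1]
      show (((MulAut.conjNormal x y : Q) : X) : X ⧸ K) = ((x * y * x⁻¹ : X) : X ⧸ K)
      rw [MulAut.conjNormal_apply]
  refine ⟨r, hr4, K, hK, e, QuotientGroup.lift Q ρ0 hQker, he, hadd, ?_, hρ0, ?_, rfl⟩
  · rw [← MonoidHom.ker_eq_bot_iff, QuotientGroup.ker_lift, le_antisymm hkerQ hQker,
      QuotientGroup.map_mk'_self]
  · intro y hy
    obtain ⟨x, rfl⟩ := QuotientGroup.mk_surjective y
    have hx : x ∈ Q := hkerQ (MonoidHom.mem_ker.2 (Units.ext ((hρ0 x).eq he hy)))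
    refine ⟨b (Additive.ofMul ((⟨x, hx⟩ : Q) : Q ⧸ frattini Q)), ?_⟩
    simp only [e, LinearEquiv.symm_apply_apply, toMul_ofMul]
    rfl

/-- If the image in `A₈` contains a conjugate of each of the nine permutations, the sectional
rank is at least five. -/
theorem not_rank {X : Type*} [Group X] [Finite X] {K : Subgroup X} [K.Normal]
    {e : RankFive.V4 → X ⧸ K} (he : Function.Injective e) (hadd : ∀ a b, e (a + b) = e a * e b)
    {Q : Subgroup X} [Q.Normal] {ρ : X ⧸ Q →* GL (Fin 4) (ZMod 2)}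
    (hρ : ∀ x : X, RankFive.Lift e (x : X ⧸ K) (ρ (x : X ⧸ Q)).1)
    (hcen : ∀ y : X ⧸ K, RankFive.Lift e y 1 → ∃ a, y = e a) (g : RankFive.S4)
    (himg : ∀ k, ∃ q, (ρ q).1 = (g * RankFive.sl k * g⁻¹).1) :
    ¬ Cfsg.SectionalPRankLE 2 4 X := by
  intro h
  have hg : ∀ a : RankFive.V4, (g⁻¹).1.mulVec (g.1.mulVec a) = a := fun a => by
    rw [Matrix.mulVec_mulVec, ← Matrix.SpecialLinearGroup.coe_mul, inv_mul_cancel,
      Matrix.SpecialLinearGroup.coe_one, Matrix.one_mulVec]
  have hg' : ∀ a : RankFive.V4, g.1.mulVec ((g⁻¹).1.mulVec a) = a := fun a => by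
    rw [Matrix.mulVec_mulVec, ← Matrix.SpecialLinearGroup.coe_mul, mul_inv_cancel,
      Matrix.SpecialLinearGroup.coe_one, Matrix.one_mulVec]
  refine RankFive.not_rank_four (e := fun a => e (g.1.mulVec a)) (fun a b => ?_) (fun a b hab => ?_)
    (fun y hy => ?_) (fun k => ?_) (RankFive.rank_of_surjective h (QuotientGroup.mk' K)
      (QuotientGroup.mk'_surjective K))
  · rw [Matrix.mulVec_add, hadd]
  · rw [← hg a, ← hg b]
    exact congrArg _ (he hab)
  · obtain ⟨a, ha⟩ := hcen y fun a => by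
      have := hy ((g⁻¹).1.mulVec a)
      simpa only [Matrix.one_mulVec, hg'] using this
    exact ⟨(g⁻¹).1.mulVec a, by rw [ha, hg']⟩
  · obtain ⟨q, hq⟩ := himg k
    obtain ⟨x, rfl⟩ := QuotientGroup.mk_surjective q
    refine ⟨x, fun a => ?_⟩
    show (x : X ⧸ K) * e (g.1.mulVec a) * (x : X ⧸ K)⁻¹ = e (g.1.mulVec ((RankFive.Mat k).mulVec a))
    rw [hρ x, hq, Matrix.SpecialLinearGroup.coe_mul, Matrix.SpecialLinearGroup.coe_mul,
      ← Matrix.mulVec_mulVec, ← Matrix.mulVec_mulVec, hg]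
    rfl

theorem sign_perm_six_centralizer :
    Subgroup.centralizer (alternatingGroup (Fin 6) : Set (Perm (Fin 6))) = ⊥ := by
  rw [Subgroup.eq_bot_iff_forall]
  intro n hn
  refine Equiv.ext fun a => ?_
  by_contra hne
  rw [Perm.one_apply] at hne
  obtain ⟨c, d, hca, hda, hcd, hcb, hdb⟩ := A8Sub.three_cycle_choice a (n a) (Ne.symm hne)
  set g : Perm (Fin 6) := swap a c * swap a d with hg
  have hgA : g ∈ alternatingGroup (Fin 6) := by
    rw [Perm.mem_alternatingGroup, hg, map_mul, Perm.sign_swap hca.symm, Perm.sign_swap hda.symm]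
    rfl
  have hga : g a = d := by
    rw [hg, Perm.mul_apply, swap_apply_left, swap_apply_of_ne_of_ne hda hcd.symm]
  have hgb : g (n a) = n a := by
    rw [hg, Perm.mul_apply, swap_apply_of_ne_of_ne hne hdb.symm,
      swap_apply_of_ne_of_ne hne hcb.symm]
  have h4 := DFunLike.congr_fun (Subgroup.mem_centralizer_iff.1 hn g hgA) a
  change g (n a) = n (g a) at h4
  rw [hga, hgb] at h4
  exact hda (n.injective h4.symm)

/-- A copy of `S₆` in `A₈` contains a conjugate of every even permutation fixing `{6, 7}`. -/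
theorem sym_six_image (θ : Perm (Fin 6) →* alternatingGroup (Fin 8)) (hθ : Function.Injective θ) :
    ∃ g : alternatingGroup (Fin 8), ∀ π : alternatingGroup (Fin 8),
      (∀ x : Fin 8, ((π.1 x : Fin 8) : ℕ) < 6 ↔ (x : ℕ) < 6) → g * π * g⁻¹ ∈ θ.range := by
  let ι : Perm (Fin 6) →* Perm (Fin 8) := (alternatingGroup (Fin 8)).subtype.comp θ
  have hι : Function.Injective ι := Subtype.val_injective.comp hθ
  haveI : (alternatingGroup (Fin 6)).Normal := inferInstance
  haveI : IsSimpleGroup (alternatingGroup (Fin 6)) := alternatingGroup.isSimpleGroup (by simp)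
  have hA : Nat.card (alternatingGroup (Fin 6)) = 360 := by
    have h := A8Sub.card_alternating 6 (by norm_num)
    rw [show Nat.factorial 6 = 720 from rfl] at h
    omega
  have hn : ¬ IsMulCommutative (alternatingGroup (Fin 6)) := by
    intro hc
    have h := DFunLike.congr_fun (congrArg Subtype.val (hc.is_comm.comm
      (⟨swap 0 1 * swap 1 2, Perm.mem_alternatingGroup.2 (by
        rw [map_mul, Perm.sign_swap (by decide), Perm.sign_swap (by decide)]; rfl)⟩ :
          alternatingGroup (Fin 6))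
      ⟨swap 2 3 * swap 3 4, Perm.mem_alternatingGroup.2 (by
        rw [map_mul, Perm.sign_swap (by decide), Perm.sign_swap (by decide)]; rfl)⟩)) 1
    revert h
    decide +kernel
  set M := A8Sub.moved ι (alternatingGroup (Fin 6)) with hM
  have hM6 : M.card = 6 := by
    rcases A8Sub.moved_card hι (alternatingGroup (Fin 6)) hn (Or.inr hA) with ⟨h, -⟩ | ⟨-, h⟩
    · omega
    · exact h
  -- an even permutation carrying the first six points to `M`
  have hc6 : Fintype.card {x : Fin 8 // (x : ℕ) < 6} = Fintype.card {x // x ∈ M} := by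
    rw [Fintype.card_coe, hM6, Fintype.card_subtype]
    rfl
  let g0 : Perm (Fin 8) := (Fintype.equivOfCardEq hc6).extendSubtype
  have hg0 : ∀ x, g0 x ∈ M ↔ (x : ℕ) < 6 := fun x => by
    by_cases hx : (x : ℕ) < 6
    · exact iff_of_true (Equiv.extendSubtype_mem _ x hx) hx
    · exact iff_of_false (Equiv.extendSubtype_not_mem _ x hx) hx
  obtain ⟨g, hgs, hg⟩ : ∃ g : Perm (Fin 8), Perm.sign g = 1 ∧ ∀ x, g x ∈ M ↔ (x : ℕ) < 6 := by
    rcases Int.units_eq_one_or (Perm.sign g0) with h | h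
    · exact ⟨g0, h, hg0⟩
    · refine ⟨g0 * swap 6 7, by rw [map_mul, h, Perm.sign_swap (by decide)]; rfl, fun x => ?_⟩
      rw [Perm.mul_apply, hg0]
      exact (by decide +kernel : ∀ x : Fin 8, ((swap 6 7 x : Fin 8) : ℕ) < 6 ↔ (x : ℕ) < 6) x
  refine ⟨⟨g, Perm.mem_alternatingGroup.2 hgs⟩, fun π hπ => ?_⟩
  have hC := sign_perm_six_centralizer
  -- the image acts on `M` as the whole symmetric group
  let f : Perm (Fin 6) →* Perm {x // x ∈ M} :=
    { toFun := fun h => (ι h).subtypePerm fun x => A8Sub.moved_map _ h x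
      map_one' := by ext x; simp
      map_mul' := fun a b => Equiv.ext fun x => Subtype.ext (by
        show ι (a * b) x = ι a (ι b x)
        rw [map_mul]; rfl) }
  have hpres : ∀ x, g (π.1 (g⁻¹ x)) ∈ M ↔ x ∈ M := fun x => by
    rw [hg, hπ, ← hg, Perm.coe_inv, Equiv.apply_symm_apply]
  have hf : Function.Injective f := by
    rw [← MonoidHom.ker_eq_bot_iff, Subgroup.eq_bot_iff_forall]
    intro h hh
    have hfix : ∀ x ∈ M, ι h x = x := fun x hx =>
      congrArg Subtype.val (DFunLike.congr_fun (MonoidHom.mem_ker.1 hh) (⟨x, hx⟩ : {y // y ∈ M}))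
    have hcent : h ∈ Subgroup.centralizer (alternatingGroup (Fin 6) : Set (Perm (Fin 6))) := by
      refine Subgroup.mem_centralizer_iff.2 fun t ht => hι (Equiv.ext fun x => ?_)
      rw [map_mul, map_mul, Perm.mul_apply, Perm.mul_apply]
      by_cases hx : x ∈ M
      · rw [hfix x hx, hfix _ ((A8Sub.moved_map _ t x).2 hx)]
      · have hnfix : ∀ y, y ∉ M → ι t y = y := fun y hy =>
          not_not.1 fun hne => hy (A8Sub.mem_moved.2 ⟨t, ht, hne⟩)
        rw [hnfix x hx, hnfix _ (mt (A8Sub.moved_map _ h x).1 hx)]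
    rw [hC] at hcent
    exact Subgroup.mem_bot.1 hcent
  have hbij := (Nat.bijective_iff_injective_and_card f).2 ⟨hf, by
    rw [Nat.card_perm, Nat.card_perm, Nat.card_eq_fintype_card (α := {x // x ∈ M}),
      Fintype.card_coe, hM6, Nat.card_fin]⟩
  obtain ⟨s, hs⟩ := hbij.2 ((g * π.1 * g⁻¹).subtypePerm fun x => hpres x)
  refine ⟨s, Subtype.ext ?_⟩
  show ι s = g * π.1 * g⁻¹
  set ψ := (g * π.1 * g⁻¹)⁻¹ * ι s with hψ
  have hψM : ∀ x ∈ M, ψ x = x := fun x hx => by
    have h1 : ι s x = (g * π.1 * g⁻¹) x :=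
      congrArg Subtype.val (DFunLike.congr_fun hs (⟨x, hx⟩ : {y // y ∈ M}))
    rw [hψ, Perm.mul_apply, h1, ← Perm.mul_apply, inv_mul_cancel, Perm.one_apply]
  have hψs : Perm.sign ψ = 1 := by
    rw [hψ, map_mul, map_inv, map_mul, map_mul, map_inv, hgs, Perm.mem_alternatingGroup.1 π.2,
      show Perm.sign (ι s) = 1 from Perm.mem_alternatingGroup.1 (θ s).2]
    simp
  have hsupp : ψ.support.card ≤ 2 := by
    refine (Finset.card_le_card (show ψ.support ⊆ Mᶜ from fun x hx => ?_)).trans_eq ?_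
    · rw [Finset.mem_compl]
      exact fun h => Perm.mem_support.1 hx (hψM x h)
    · rw [Finset.card_compl, hM6, Fintype.card_fin]
  have hψ1 : ψ = 1 := by
    have h2 : ψ.support.card ≠ 2 := by
      intro h
      rw [(Perm.card_support_eq_two.1 h).sign_eq] at hψs
      exact absurd hψs (by decide)
    have := Perm.card_support_ne_one ψ
    exact Perm.card_support_eq_zero.1 (by omega)
  exact (inv_mul_eq_one.1 hψ1).symm


/-- Let X be a finite nonsolvable 2-constrained group with no nontrivial normal subgroup of odd order such that O₂(X) has sectional 2-rank at most 4, and write Q for X/O₂(X). Then Q is isomorphic to the projective special linear group of dimension 3 over the field with 2 elements, to an alternating group of degree n with 5 ≤ n ≤ 8, to a symmetric group of degree n with 5 ≤ n ≤ 7, or else O₃(Q) has order 3 and Q/O₃(Q) is isomorphic to the alternating or the symmetric group of degree 5 (so Q is the direct product of a group of order 3 with the alternating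 group of degree 5, or an extension of that direct product by a group of order 2). If moreover X itself has sectional 2-rank at most 4, then Q is not isomorphic to the symmetric group of degree 6 or 7 nor to the alternating group of degree 8. -/
theorem result {X : Type*} [Group X] [Finite X] (hns : ¬ Group.IsSolvable X) (hc : Cfsg.IsPConstrained 2 X) (hO : Cfsg.oddCore X = ⊥)
    (h4 : Cfsg.SectionalPRankLE 2 4 ↥(Cfsg.pCore 2 X)) :
    ((∃ (F : Type) (_ : Field F) (_ : Fintype F), Fintype.card F = 2 ∧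
          Nonempty (X ⧸ Cfsg.pCore 2 X ≃* Matrix.ProjectiveSpecialLinearGroup (Fin 3) F)) ∨
        (∃ n : ℕ, 5 ≤ n ∧ n ≤ 8 ∧ Nonempty (X ⧸ Cfsg.pCore 2 X ≃* ↥(alternatingGroup (Fin n)))) ∨
        (∃ n : ℕ, 5 ≤ n ∧ n ≤ 7 ∧ Nonempty (X ⧸ Cfsg.pCore 2 X ≃* Equiv.Perm (Fin n))) ∨
        (Nat.card ↥(Cfsg.pCore 3 (X ⧸ Cfsg.pCore 2 X)) = 3 ∧
          (Nonempty ((X ⧸ Cfsg.pCore 2 X) ⧸ Cfsg.pCore 3 (X ⧸ Cfsg.pCore 2 X) ≃* ↥(alternatingGroup (Fin 5))) ∨
            Nonempty ((X ⧸ Cfsg.pCore 2 X) ⧸ Cfsg.pCore 3 (X ⧸ Cfsg.pCore 2 X) ≃* Equiv.Perm (Fin 5))))) ∧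
      (Cfsg.SectionalPRankLE 2 4 X →
        ¬ (Nonempty (X ⧸ Cfsg.pCore 2 X ≃* Equiv.Perm (Fin 6)) ∨ Nonempty (X ⧸ Cfsg.pCore 2 X ≃* Equiv.Perm (Fin 7)) ∨
            Nonempty (X ⧸ Cfsg.pCore 2 X ≃* ↥(alternatingGroup (Fin 8))))) := by
  haveI : Fact (Nat.Prime 2) := ⟨Nat.prime_two⟩
  obtain ⟨f, hf⟩ := Cfsg.Agent.S3103.result hc hO h4
  set Q := X ⧸ Cfsg.pCore 2 X with hQdef
  let ι : Q →* Equiv.Perm (Fin 8) := (alternatingGroup (Fin 8)).subtype.comp f
  have hι : Function.Injective ι := Subtype.val_injective.comp hf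
  have hs : ∀ q, Equiv.Perm.sign (ι q) = 1 := fun q => Equiv.Perm.mem_alternatingGroup.1 (f q).2
  have hQns : ¬ Group.IsSolvable Q := by
    intro h
    haveI := h
    haveI : Group.IsNilpotent ↥(Cfsg.pCore 2 X) := (PBasic.pCore_isPGroup 2 X).isNilpotent
    exact hns (Group.isSolvable_of_ker_le_range (Cfsg.pCore 2 X).subtype
      (QuotientGroup.mk' (Cfsg.pCore 2 X)) (by simp))
  constructor
  · by_cases hnp : ∀ p : ℕ, p.Prime → ∀ K : Subgroup Q, K.Normal → IsPGroup p ↥K → K = ⊥
    · haveI : Nontrivial Q := by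
        by_contra hN
        rw [not_nontrivial_iff_subsingleton] at hN
        exact hQns (Group.isSolvable_of_comm fun a b => Subsingleton.elim _ _)
      rcases A8Sub.classify hι hs hnp with ⟨n, h5, h8, e⟩ | e | e | e
      · exact Or.inr (Or.inl ⟨n, h5, h8, e⟩)
      · exact Or.inr (Or.inr (Or.inl ⟨5, le_rfl, by norm_num, e⟩))
      · exact Or.inr (Or.inr (Or.inl ⟨6, by norm_num, by norm_num, e⟩))
      · exact Or.inl ⟨ZMod 2, inferInstance, inferInstance, ZMod.card 2,
          ⟨e.some.trans equiv_psl32.some⟩⟩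
    · push Not at hnp
      obtain ⟨p, hp, K, hK, hKp, hne⟩ := hnp
      haveI := hK
      have hp2 : p ≠ 2 := by
        rintro rfl
        exact hne (le_bot_iff.1 ((PBasic.le_pCore hK hKp).trans
          (PBasic.pCore_quotient_pCore 2 X).le))
      obtain ⟨σ, h3, hn⟩ := A8Sub.exists_threeCycle hι hQns hp hp2 K hKp hne
      exact Or.inr (Or.inr (Or.inr (A8Sub.of_threeCycle hι hs hQns h3 hn)))
  · intro hX hiso
    obtain ⟨r, hr, K, hK, e, ρ, he, hadd, hρi, hρ, hcen, -⟩ := exists_action hc hO h4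
    haveI := hK
    have hbig : 720 ≤ Nat.card Q := by
      rcases hiso with ⟨⟨i⟩⟩ | ⟨⟨i⟩⟩ | ⟨⟨i⟩⟩ <;> rw [Nat.card_congr i.toEquiv]
      · rw [Nat.card_perm, Nat.card_fin]; rfl
      · rw [Nat.card_perm, Nat.card_fin]; exact (by decide : 720 ≤ Nat.factorial 7)
      · rw [A8Sub.card_alt8]; norm_num
    obtain rfl : r = 4 := by
      by_contra h
      have h1 : Nat.card Q ≤ _ := (Nat.card_le_card_of_injective ρ hρi).trans
        (Nat.card_le_card_of_injective (fun u : GL (Fin r) (ZMod 2) =>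
          (u : Matrix (Fin r) (Fin r) (ZMod 2))) Units.val_injective)
      rw [show Matrix (Fin r) (Fin r) (ZMod 2) = (Fin r → Fin r → ZMod 2) from rfl,
        Nat.card_fun, Nat.card_fun, Nat.card_zmod, Nat.card_fin, ← pow_mul] at h1
      have h9 : r * r ≤ 9 := Nat.mul_le_mul (by omega : r ≤ 3) (by omega : r ≤ 3)
      have h2 := Nat.pow_le_pow_right (show 1 ≤ 2 by norm_num) h9
      omega
    have hdet : ∀ u : GL (Fin 4) (ZMod 2), (u : Matrix (Fin 4) (Fin 4) (ZMod 2)).det = 1 := by
      intro u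
      exact (GLFourTwo.zmod_two_cases _).resolve_left ((Matrix.isUnit_iff_isUnit_det _).1 u.isUnit).ne_zero
    let θ : Q →* alternatingGroup (Fin 8) := GLFourTwo.toAlt.comp
      (MonoidHom.mk' (fun q => (⟨(ρ q).1, hdet _⟩ : RankFive.S4))
        fun a b => Subtype.ext (by rw [map_mul]; rfl))
    have hθ : Function.Injective θ := fun a b h =>
      hρi (Units.ext (congrArg Subtype.val (GLFourTwo.toAlt_injective h)))
    have finish : ∀ g : alternatingGroup (Fin 8),
        (∀ k, g * GLFourTwo.toAlt (RankFive.sl k) * g⁻¹ ∈ θ.range) → False := by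
      intro g hg
      refine not_rank he hadd hρ hcen (GLFourTwo.slEquivAlt.symm g) (fun k => ?_) hX
      obtain ⟨q, hq⟩ := hg k
      have e1 : GLFourTwo.toAlt (GLFourTwo.slEquivAlt.symm g) = g :=
        GLFourTwo.slEquivAlt.apply_symm_apply g
      rw [← e1, ← map_inv, ← map_mul, ← map_mul] at hq
      exact ⟨q, congrArg Subtype.val (GLFourTwo.toAlt_injective hq)⟩
    rcases hiso with ⟨⟨i⟩⟩ | ⟨⟨i⟩⟩ | ⟨⟨i⟩⟩
    · obtain ⟨g, hg⟩ := sym_six_image (θ.comp i.symm.toMonoidHom) (hθ.comp i.symm.injective)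
      refine finish g fun k => ?_
      obtain ⟨s, hs⟩ := hg (GLFourTwo.toAlt (RankFive.sl k)) (by
        rw [RankFive.toAlt_sl]
        exact RankFive.preserves k)
      exact ⟨i.symm s, hs⟩
    · -- a subgroup of index four
      haveI : IsSimpleGroup (alternatingGroup (Fin 8)) := alternatingGroup.isSimpleGroup (by simp)
      have hc7 : Nat.card θ.range = 5040 := by
        rw [← Nat.card_congr (MonoidHom.ofInjective hθ).toEquiv, Nat.card_congr i.toEquiv,
          Nat.card_perm, Nat.card_fin]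
        rfl
      have hmul := θ.range.card_mul_index
      rw [hc7, A8Sub.card_alt8] at hmul
      have h4i : θ.range.index = 4 := by omega
      have hd := Small.card_dvd_factorial (H := θ.range)
        (fun h => by rw [h, Subgroup.index_top] at h4i; omega)
      rw [h4i, A8Sub.card_alt8] at hd
      exact absurd hd (by decide)
    · refine finish 1 fun k => ?_
      exact (((Nat.bijective_iff_injective_and_card θ).2 ⟨hθ, Nat.card_congr i.toEquiv⟩).2 _)

end Cfsg.Agent.S3104
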