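import Cfsg.Statements.S3105
import Cfsg.Agent.S3104
import Cfsg.Agent.Lib.RankFourL32.Upper
import Cfsg.Agent.Lib.FGStruct.SectionalFour

set_option autoImplicit false
open Cfsg

namespace Cfsg.Agent.S3105

open Cfsg.Agent.RankFourL32

theorem psl_congr {R S : Type*} [CommRing R] [CommRing S] (e : R ≃+* S) :
    Nonempty (Matrix.ProjectiveSpecialLinearGroup (Fin 3) R ≃*
      Matrix.ProjectiveSpecialLinearGroup (Fin 3) S) := by
  let E : Matrix.SpecialLinearGroup (Fin 3) R ≃* Matrix.SpecialLinearGroup (Fin 3) S :=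
    { toFun := Matrix.SpecialLinearGroup.map e.toRingHom
      invFun := Matrix.SpecialLinearGroup.map e.symm.toRingHom
      left_inv := fun A => Subtype.ext (by ext i j; simp)
      right_inv := fun A => Subtype.ext (by ext i j; simp)
      map_mul' := map_mul _ }
  refine ⟨QuotientGroup.congr _ _ E ?_⟩
  ext z
  rw [Subgroup.map_equiv_eq_comap_symm, Subgroup.mem_comap, Subgroup.mem_center_iff,
    Subgroup.mem_center_iff]
  constructor
  · intro h y
    have := congrArg E (h (E.symm y))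
    simpa using this
  · intro h y
    apply E.injective
    simpa using h (E y)

theorem commutator_L3 : commutator L3 = ⊤ := by
  haveI := RankFourL32.simple
  rcases (inferInstance : (commutator L3).Normal).eq_bot_or_eq_top with h | h
  · refine absurd ?_ not_comm
    have := Subgroup.commutator_mem_commutator (Subgroup.mem_top gA) (Subgroup.mem_top gD)
    rw [← commutator_def, h, Subgroup.mem_bot, commutatorElement_eq_one_iff_mul_comm] at this
    exact this
  · exact h

/-- A stable term of the derived series. -/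
theorem exists_cover {X : Type*} [Group X] [Finite X] (π : X →* L3) (hπ : Function.Surjective π) :
    ∃ D : Subgroup X, D.Normal ∧ ⁅D, D⁆ = D ∧ Function.Surjective (π.comp D.subtype) := by
  obtain ⟨n, hn⟩ := Nat.sInf_mem (Set.range_nonempty fun n => Nat.card (derivedSeries X n))
  have hn1 : derivedSeries X (n + 1) = derivedSeries X n :=
    Subgroup.eq_of_le_of_card_ge (derivedSeries_antitone X (Nat.le_succ n))
      (hn.le.trans (Nat.sInf_le ⟨n + 1, rfl⟩))
  have htop : ∀ m, derivedSeries L3 m = ⊤ := fun m => by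
    induction m with
    | zero => rfl
    | succ m ih => rw [derivedSeries_succ, ih, ← commutator_def, commutator_L3]
  refine ⟨derivedSeries X n, derivedSeries_normal X n, (derivedSeries_succ X n).symm.trans hn1, fun g => ?_⟩
  have hg : g ∈ (derivedSeries X n).map π := by
    rw [map_derivedSeries_eq hπ, htop]; exact Subgroup.mem_top g
  obtain ⟨x, hx, rfl⟩ := hg
  exact ⟨⟨x, hx⟩, rfl⟩

/-- Let X be a finite nonsolvable 2-constrained group with no nontrivial normal subgroup of odd order and of sectional 2-rank at most 4, and suppose X/O₂(X) is isomorphic to the projective special linear group of dimension 3 over the field with 2 elements. Then O₂(X) is elementary abelian of order 8 or 16, or is isomorphic to the direct product of a cyclic group of order 4 and an elementary abelian group of order 8. -/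
theorem result {X : Type*} [Group X] [Finite X] (hns : ¬ Group.IsSolvable X) (hc : Cfsg.IsPConstrained 2 X) (hO : Cfsg.oddCore X = ⊥)
    (h4 : Cfsg.SectionalPRankLE 2 4 X) {F : Type*} [Field F] [Fintype F] (hF : Fintype.card F = 2)
    (hQ : Nonempty (X ⧸ Cfsg.pCore 2 X ≃* Matrix.ProjectiveSpecialLinearGroup (Fin 3) F)) :
    (Cfsg.IsElementaryAbelian 2 (Cfsg.pCore 2 X) ∧ (Nat.card ↥(Cfsg.pCore 2 X) = 8 ∨ Nat.card ↥(Cfsg.pCore 2 X) = 16)) ∨
      Nonempty (↥(Cfsg.pCore 2 X) ≃* Multiplicative (ZMod 4) × (Fin 3 → Multiplicative (ZMod 2))) := by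
  haveI : Fact (Nat.Prime 2) := ⟨Nat.prime_two⟩
  obtain ⟨eQ⟩ := hQ
  obtain ⟨e₁⟩ := psl_congr (ZMod.ringEquivOfPrime F Nat.prime_two hF)
  obtain ⟨e₂⟩ := S3104.equiv_psl32
  set Q := Cfsg.pCore 2 X with hQdef
  haveI : Q.Normal := Cfsg.pCore_normal 2 X
  have hQ2 : IsPGroup 2 Q := PBasic.pCore_isPGroup 2 X
  let E : X ⧸ Q ≃* L3 := eQ.trans (e₁.symm.trans e₂.symm)
  let π : X →* L3 := E.toMonoidHom.comp (QuotientGroup.mk' Q)
  have hπ : Function.Surjective π := E.surjective.comp (QuotientGroup.mk'_surjective Q)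
  have hker : ∀ x, π x = 1 ↔ x ∈ Q := fun x =>
    (E.map_eq_one_iff (x := (x : X ⧸ Q))).trans (QuotientGroup.eq_one_iff x)
  have hPP : Cfsg.pPrimePCore 2 X = Q := by
    have hq : Function.Injective (QuotientGroup.mk' (Cfsg.pPrimeCore 2 X)) := by
      rw [← MonoidHom.ker_eq_bot_iff, QuotientGroup.ker_mk']
      exact hO
    refine le_antisymm (PBasic.le_pCore ?_ ?_) ?_
    · exact Subgroup.Normal.comap inferInstance _
    · exact (PBasic.pCore_isPGroup 2 _).comap_of_injective _ hq
    · intro x hx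
      exact PBasic.map_pCore_le_of_surjective _ (QuotientGroup.mk'_surjective _)
        (Subgroup.mem_map_of_mem _ hx)
  have hCQ : Subgroup.centralizer (Q : Set X) ≤ Q := by
    have hP : IsPGroup 2 (⊤ : Subgroup ↥(Cfsg.pPrimePCore 2 X)) := by
      refine (IsPGroup.to_subgroup ?_ ⊤)
      rw [hPP]
      exact hQ2
    obtain ⟨P, hP'⟩ := hP.exists_le_sylow
    have hh := hc P
    rw [top_le_iff.1 hP', ← MonoidHom.range_eq_map, Subgroup.range_subtype, hPP] at hh
    exact hh
  obtain ⟨D, hDn, hDD, hDs⟩ := exists_cover π hπ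
  haveI := hDn
  set ρ := π.comp D.subtype with hρ
  have hρk : ∀ d : D, ρ d = 1 ↔ (d : X) ∈ Q := fun d => hker d
  have C : Cover ρ := by
    refine ⟨hDs, fun g => ?_, ?_, fun H N _ A hAc hAe =>
      SectionalFour.card_le h4 (D.subtype.comp H.subtype) N (by
        rw [(MonoidHom.ker_eq_bot_iff _).2 (Subtype.val_injective.comp Subtype.val_injective)]
        exact bot_le) A hAc hAe⟩
    · obtain ⟨k, hk⟩ := hQ2 ⟨g.1.1, (hρk g.1).1 g.2⟩
      exact ⟨k, Subtype.ext (Subtype.ext (by simpa using congrArg Subtype.val hk))⟩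
    · refine Subgroup.map_injective D.subtype_injective ?_
      rw [Subgroup.map_subtype_commutator, hDD, ← MonoidHom.range_eq_map, Subgroup.range_subtype]
  -- the cover cannot centralize the radical
  have hnc : ¬ ∀ q ∈ Q, ∀ d ∈ D, d * q = q * d := fun h => by
    obtain ⟨d, hd⟩ := hDs gT
    exact gT_ne (hd.symm.trans ((hker d).2 (hCQ (Subgroup.mem_centralizer_iff.2 fun q hq =>
      (h q hq d d.2).symm))))
  have hdisp : ∀ q ∈ Q, ∀ d ∈ D, d * q * d⁻¹ * q⁻¹ ∈ D ∧ d * q * d⁻¹ * q⁻¹ ∈ Q := fun q hq d hd =>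
    ⟨by
      rw [show d * q * d⁻¹ * q⁻¹ = d * (q * d⁻¹ * q⁻¹) by group]
      exact mul_mem hd (hDn.conj_mem _ (inv_mem hd) q),
    mul_mem ((inferInstance : Q.Normal).conj_mem q hq d) (inv_mem hq)⟩
  rcases RankFourL32.shape C with hb | hb | ⟨ψ, s, hk, hs, T⟩ | ⟨Zd, hZd, hZc, ψ, s, hk, hs, T⟩
  · refine absurd (fun q hq d hd => ?_) hnc
    obtain ⟨h1, h2⟩ := hdisp q hq d hd
    have : (⟨_, h1⟩ : D) ∈ ρ.ker := (hρk _).2 h2
    rw [hb, Subgroup.mem_bot] at this
    exact mul_inv_eq_iff_eq_mul.1 (mul_inv_eq_one.1 (congrArg Subtype.val this))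
  · refine absurd (fun q hq => ?_) hnc
    refine commute_of_perfect hDD (R := ρ.ker.map D.subtype) (Subgroup.map_subtype_le _) ?_ fun d hd => ?_
    · rintro _ ⟨r, hr, rfl⟩ d hd
      exact congrArg Subtype.val (central_of_card_two ρ.ker hb r hr ⟨d, hd⟩)
    · obtain ⟨h1, h2⟩ := hdisp q hq d hd
      exact ⟨⟨_, h1⟩, (hρk _).2 h2, rfl⟩
  all_goals
    have hψ : ∀ d : D, ψ d = 1 ↔ (d : X) ∈ Q := fun d => by
      rw [← hρk d, ← MonoidHom.mem_ker, ← MonoidHom.mem_ker, hk]
  · -- the natural module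
    left
    obtain ⟨hadd, hact, hcov, hinj⟩ := T.bot_eq
    have N : Natural Q D.subtype ψ (fun v => (s v : X)) := by
      refine ⟨hs, hψ, fun v => (hψ _).1 (T.mem v), fun v => ⟨s v, rfl⟩, fun v w => ?_, fun v w h => ?_,
        fun d hd => ?_, fun d v => ?_, by rw [Subgroup.range_subtype]; exact hDn⟩
      · show (s (v + w) : X) = _
        rw [hadd]; rfl
      · exact hinj (Subtype.ext h)
      · obtain ⟨v, rfl⟩ := hcov d ((hψ d).2 hd)
        exact ⟨v, rfl⟩
      · exact congrArg Subtype.val (hact d v)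
    obtain ⟨hsq, hcard⟩ := N.bound hQ2 h4
    refine ⟨⟨⟨⟨fun a b => ?_⟩⟩, fun a ha => by rw [pow_two]; exact hsq a ha⟩, hcard⟩
    apply Subtype.ext
    have h1 := hsq _ (mul_mem a.2 b.2)
    have h2 := hsq _ a.2
    have h3 := hsq _ b.2
    show (a : X) * b = b * a
    rw [← inv_eq_of_mul_eq_one_right h1, _root_.mul_inv_rev, inv_eq_of_mul_eq_one_right h2,
      inv_eq_of_mul_eq_one_right h3]
  · -- a centre below the natural module
    rcases upper_case hQ2 h4 (C.congr hk hs) hψ hZd hZc T with ⟨hab, hsq, h16⟩ | h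
    · exact Or.inl ⟨⟨⟨⟨fun a b => Subtype.ext (hab a a.2 b b.2)⟩⟩,
        fun a ha => by rw [pow_two]; exact hsq a ha⟩, Or.inr h16⟩
    · exact Or.inr h

end Cfsg.Agent.S3105
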