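import Cfsg.Statements.S3106
import Cfsg.Agent.S3104
import Cfsg.Agent.Lib.RankFourA5.Final
import Cfsg.Agent.Lib.RankFourA5.CentralProduct
import Cfsg.Agent.Lib.FGStruct.SectionalFour
import Cfsg.Agent.Lib.LocalEven.Frattini
import Mathlib.LinearAlgebra.Matrix.GeneralLinearGroup.Card

set_option autoImplicit false
open Cfsg

namespace Cfsg.Agent.S3106

/-- Let X be a finite nonsolvable 2-constrained group with no nontrivial normal subgroup of odd order and of sectional 2-rank at most 4, and suppose X/O₂(X) contains a subgroup isomorphic to the alternating group of degree 5. Then O₂(X) is elementary abelian of order 16, or O₂(X) is a central product of a quaternion group of order 8 and a dihedral group of order 8 (it has order 32 and is generated by two elementwise-commuting subgroups, one quaternion of order 8 and one dihedral of order 8, meeting in the centre). -/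
theorem result {X : Type*} [Group X] [Finite X] (hns : ¬ Group.IsSolvable X) (hc : Cfsg.IsPConstrained 2 X) (hO : Cfsg.oddCore X = ⊥)
    (h4 : Cfsg.SectionalPRankLE 2 4 X)
    (hQ : ∃ A : Subgroup (X ⧸ Cfsg.pCore 2 X), Nonempty (↥A ≃* ↥(alternatingGroup (Fin 5)))) :
    (Cfsg.IsElementaryAbelian 2 (Cfsg.pCore 2 X) ∧ Nat.card ↥(Cfsg.pCore 2 X) = 16) ∨
      (Nat.card ↥(Cfsg.pCore 2 X) = 32 ∧ ∃ A B : Subgroup ↥(Cfsg.pCore 2 X),
        Nonempty (↥A ≃* QuaternionGroup 2) ∧ Nonempty (↥B ≃* DihedralGroup 4) ∧ (∀ a ∈ A, ∀ b ∈ B, a * b = b * a) ∧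
          A ⊔ B = ⊤ ∧ A ⊓ B = Subgroup.center ↥(Cfsg.pCore 2 X)) := by
  haveI : Fact (Nat.Prime 2) := ⟨Nat.prime_two⟩
  obtain ⟨r, hr, K, hK, e, ρ, he, hadd, hρi, hρ, hcen, hKdef⟩ := S3104.exists_action hc hO
    (fun H N _ A hAc hAe => SectionalFour.card_le h4 ((Cfsg.pCore 2 X).subtype.comp H.subtype) N (by
      rw [(MonoidHom.ker_eq_bot_iff _).2 (Subtype.val_injective.comp Subtype.val_injective)]
      exact bot_le) A hAc hAe)
  haveI := hK
  set Q := Cfsg.pCore 2 X with hQdef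
  haveI : Q.Normal := Cfsg.pCore_normal 2 X
  obtain ⟨A, ⟨eA⟩⟩ := hQ
  let φ : RankFourA5.A5 →* X ⧸ Q := A.subtype.comp eA.symm.toMonoidHom
  have hφ : Function.Injective φ := A.subtype_injective.comp eA.symm.injective
  -- the rank is four
  have hr4 : r = 4 := by
    have hd := Subgroup.card_dvd_of_injective (ρ.comp φ) (hρi.comp hφ)
    have h60 : Nat.card RankFourA5.A5 = 60 := by
      have h := two_mul_nat_card_alternatingGroup (α := Fin 5)
      rw [Nat.card_perm, Nat.card_fin, show Nat.factorial 5 = 120 from rfl] at h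
      change 2 * Nat.card RankFourA5.A5 = 120 at h
      omega
    rw [h60, Matrix.card_GL_field] at hd
    interval_cases r
    all_goals first
      | rfl
      | (exfalso; revert hd
         simp only [Fintype.card_eq_nat_card, Nat.card_zmod, Fin.prod_univ_succ, Fin.prod_univ_zero,
           Fin.val_zero, Fin.val_succ]
         norm_num)
  subst hr4
  have hKQ : K ≤ Q := hKdef ▸ Subgroup.map_subtype_le _
  have hez : e 0 = 1 := by
    have := hadd 0 0
    rw [add_zero] at this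
    exact left_eq_mul.1 this
  have hee : ∀ a, e a * e a = 1 := fun a => by
    have hdd : ∀ x : Fin 4 → ZMod 2, x + x = 0 := fun x => funext fun i => CharTwo.add_self_eq_zero _
    rw [← hadd, hdd, hez]
  have hecomm : ∀ a b, e a * e b = e b * e a := fun a b => by rw [← hadd, ← hadd, add_comm]
  have hrange : ∀ q ∈ Q, ∃ a, (q : X ⧸ K) = e a := fun q hq => hcen _ (by
    have h := hρ q
    rwa [(QuotientGroup.eq_one_iff q).2 hq, map_one] at h)
  have honQ : ∀ (x : X) a, (x : X ⧸ K) = e a → x ∈ Q := fun x a hx => by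
    have h1 : RankFive.Lift e (x : X ⧸ K) 1 := fun b => by
      rw [Matrix.one_mulVec, hx, hecomm a b, mul_inv_cancel_right]
    refine (QuotientGroup.eq_one_iff x).1 (hρi (Units.ext ?_))
    rw [map_one]
    exact (hρ x).eq he h1
  have hcard : Nat.card Q = 16 * Nat.card K := by
    rw [RankFourA5.card_img hKQ]
    congr 1
    have himg : ((RankFourA5.img K Q : Subgroup (X ⧸ K)) : Set (X ⧸ K)) = Set.range e := by
      ext y
      constructor
      · rintro ⟨q, hq, rfl⟩
        obtain ⟨a, ha⟩ := hrange q hq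
        exact ⟨a, ha.symm⟩
      · rintro ⟨a, rfl⟩
        obtain ⟨x, hx⟩ := QuotientGroup.mk_surjective (e a)
        exact ⟨x, honQ x a hx, hx⟩
    show Nat.card ((RankFourA5.img K Q : Subgroup (X ⧸ K)) : Set (X ⧸ K)) = 16
    rw [himg, Nat.card_range_of_injective he, Nat.card_fun, Nat.card_zmod, Nat.card_fin]
    rfl
  have hsqK : ∀ q ∈ Q, q * q ∈ K := fun q hq => by
    obtain ⟨a, ha⟩ := hrange q hq
    rw [← QuotientGroup.eq_one_iff, QuotientGroup.mk_mul, ha, hee]
  have hcomK : ∀ c ∈ Q, ∀ d ∈ Q, c * d * c⁻¹ * d⁻¹ ∈ K := fun c hc d hd => RankFourA5.mk_comm.2 (by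
    obtain ⟨a, ha⟩ := hrange c hc
    obtain ⟨b, hb⟩ := hrange d hd
    rw [ha, hb, hecomm])
  have hgen : ∀ N : Subgroup X, (∀ q ∈ Q, q * q ∈ N) → K ≤ N := fun N hN => by
    rw [hKdef, Subgroup.map_le_iff_le_comap]
    refine LEFrattini.frattini_le (p := 2) (fun a b => ?_) fun a => ?_
    · show a.1 * b.1 * a.1⁻¹ * b.1⁻¹ ∈ N
      rw [show a.1 * b.1 * a.1⁻¹ * b.1⁻¹ = (a.1 * b.1) * (a.1 * b.1) *
        ((b.1⁻¹ * a.1⁻¹ * b.1) * (b.1⁻¹ * a.1⁻¹ * b.1)) * (b.1⁻¹ * b.1⁻¹) by group]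
      exact mul_mem (mul_mem (hN _ (mul_mem a.2 b.2))
        (hN _ (mul_mem (mul_mem (inv_mem b.2) (inv_mem a.2)) b.2))) (hN _ (inv_mem b.2))
    · rw [pow_two]; exact hN _ a.2
  have hfaith : ∀ x : X, (∀ q ∈ Q, x * q * x⁻¹ * q⁻¹ ∈ K) → x ∈ Q := fun x hx => by
    obtain ⟨a, ha⟩ := hcen (x : X ⧸ K) fun b => by
      obtain ⟨q, hq⟩ := QuotientGroup.mk_surjective (e b)
      have hc := RankFourA5.mk_comm.1 (hx q (honQ q b hq))
      rw [Matrix.one_mulVec, ← hq, hc, mul_inv_cancel_right]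
    exact honQ x a ha
  have S : RankFourA5.Setting Q K φ :=
    ⟨PBasic.pCore_isPGroup 2 X, hKQ, h4, hcard, hsqK, hcomK, hgen, hφ, hfaith⟩
  by_cases hKbot : K = ⊥
  · left
    refine ⟨⟨⟨⟨fun a b => Subtype.ext ?_⟩⟩, fun a ha => ?_⟩, ?_⟩
    · have := hcomK a a.2 b b.2
      rw [hKbot, Subgroup.mem_bot, mul_inv_eq_one, mul_inv_eq_iff_eq_mul] at this
      exact this
    · have := hsqK a ha
      rwa [hKbot, Subgroup.mem_bot, ← pow_two] at this
    · rw [hcard, hKbot, Subgroup.card_bot]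
  · right
    obtain ⟨h2, z, c, hzK, hzne, hz, hzc, hcQ, hsq, hcij, hgenc, hcenc⟩ :=
      RankFourA5.structure_of_ne_bot S hKbot
    refine ⟨by rw [hcard, h2], ?_⟩
    refine RankFourA5.central_product (H := Q) ⟨z, hKQ hzK⟩ (fun i => ⟨c i, hcQ i⟩) (Subtype.ext hz)
      (fun h => hzne (congrArg Subtype.val h)) (fun h => Subtype.ext (hzc h h.2))
      (fun i => Subtype.ext (hsq i)) (fun i j hij => Subtype.ext (hcij i j hij)) (fun D hD => ?_)
      fun h hh => ?_
    · refine eq_top_iff.2 fun x _ => ?_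
      obtain ⟨y, hy, hyx⟩ := hgenc (D.map Q.subtype) (fun i => ⟨_, hD i, rfl⟩) x.2
      rwa [← Subtype.ext hyx]
    · rcases hcenc h h.2 (fun i => congrArg Subtype.val (hh i)) with e | e
      · exact Or.inl (Subtype.ext e)
      · exact Or.inr (Subtype.ext e)

end Cfsg.Agent.S3106
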