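import Cfsg.Statements.S3113
import Cfsg.Agent.Lib.ProdFusion.Final

set_option autoImplicit false
open Cfsg

namespace Cfsg.Agent.S3113

/-- Let G be a finite group with no nontrivial normal subgroup of odd order, no proper normal subgroup of odd index and no normal subgroup of index 2, whose Sylow 2-subgroup S is non-abelian and is the internal direct product of two dihedral subgroups (each of order at least 4). Then G is the internal direct product of two normal subgroups G₁ and G₂, and for a suitable such factorization of S into dihedral subgroups S₁ × S₂ the factor Sᵢ is a Sylow 2-subgroup of Gᵢ for i = 1, 2. -/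
theorem result {G : Type*} [Group G] [Finite G] (hO : Cfsg.oddCore G = ⊥) (hidx : ∀ N : Subgroup G, N.Normal → Odd N.index → N = ⊤)
    (h2 : ∀ N : Subgroup G, N.Normal → N.index ≠ 2)
    (S : Sylow 2 G) (hS : ¬ IsMulCommutative ↥(S : Subgroup G))
    (D₁ D₂ : Subgroup G) (hD : Cfsg.IsInternalDirectProduct D₁ D₂ (S : Subgroup G))
    (hD₁ : ∃ m : ℕ, 2 ≤ m ∧ Nonempty (↥D₁ ≃* DihedralGroup m)) (hD₂ : ∃ m : ℕ, 2 ≤ m ∧ Nonempty (↥D₂ ≃* DihedralGroup m)) :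
    ∃ G₁ G₂ : Subgroup G, G₁.Normal ∧ G₂.Normal ∧ Cfsg.IsInternalDirectProduct G₁ G₂ ⊤ ∧
      ∃ S₁ S₂ : Subgroup G, Cfsg.IsInternalDirectProduct S₁ S₂ (S : Subgroup G) ∧
        (∃ m : ℕ, 2 ≤ m ∧ Nonempty (↥S₁ ≃* DihedralGroup m)) ∧ (∃ m : ℕ, 2 ≤ m ∧ Nonempty (↥S₂ ≃* DihedralGroup m)) ∧
        S₁ ≤ G₁ ∧ S₂ ≤ G₂ ∧ ¬ (2 ∣ (S₁.subgroupOf G₁).index) ∧ ¬ (2 ∣ (S₂.subgroupOf G₂).index) := by
  obtain ⟨m₁, hm₁, ⟨e₁⟩⟩ := hD₁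
  obtain ⟨m₂, hm₂, ⟨e₂⟩⟩ := hD₂
  obtain ⟨C₁, v₁, A₁⟩ := Cfsg.Agent.ProdFusion.exists_axis (S.2.to_le hD.1) hm₁ e₁
  obtain ⟨C₂, v₂, A₂⟩ := Cfsg.Agent.ProdFusion.exists_axis (S.2.to_le hD.2.1) hm₂ e₂
  obtain ⟨T₁, T₂, X₁, X₂, u₁, u₂, hP, B₁, B₂, i₁, i₂⟩ :=
    Cfsg.Agent.ProdFusion.Pair.exists_prod2 ⟨hD, A₁, A₂⟩ h2 hS ⟨m₁, hm₁, ⟨e₁⟩⟩ ⟨m₂, hm₂, ⟨e₂⟩⟩
  obtain ⟨G₁, G₂, h1, h2', h3, h4, h5, h6, h7⟩ :=
    Cfsg.Agent.ProdFusion.product_fusion hP B₁ B₂ hO hidx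
  exact ⟨G₁, G₂, h1, h2', h3, T₁, T₂, hP.prod, i₁, i₂, h4, h5,
    Nat.two_dvd_ne_zero.2 (Nat.odd_iff.1 h6), Nat.two_dvd_ne_zero.2 (Nat.odd_iff.1 h7)⟩

end Cfsg.Agent.S3113
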