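import Cfsg.Statements.S3117
import Cfsg.Agent.Lib.AnisoQuad.TwoGroup

set_option autoImplicit false
open Cfsg

namespace Cfsg.Agent.S3117

open Cfsg.Agent.AnisoQuad

/-- If X is a finite 2-group containing exactly three involutions, then the automorphism group of X is solvable. -/
theorem result {X : Type*} [Group X] [Finite X] (h2 : IsPGroup 2 X) (h3 : Nat.card {x : X // orderOf x = 2} = 3) : Group.IsSolvable (MulAut X) := by
  classical
  haveI : Fact (Nat.Prime 2) := ⟨Nat.prime_two⟩
  letI : Fintype X := Fintype.ofFinite X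
  set I := Finset.univ.filter fun x : X => orderOf x = 2 with hI
  have hIc : I.card = 3 := by rw [← h3, Nat.card_eq_fintype_card, Fintype.card_subtype]
  have hmemI : ∀ x : X, x ∈ I ↔ x * x = 1 ∧ x ≠ 1 := by
    intro x
    rw [hI, Finset.mem_filter, orderOf_eq_prime_iff, pow_two]
    simp
  haveI : Nontrivial X := by
    obtain ⟨x, hx⟩ : I.Nonempty := Finset.card_pos.1 (by omega)
    exact ⟨x, 1, ((hmemI x).1 hx).2⟩
  haveI := h2.center_nontrivial
  obtain ⟨w, hw⟩ := exists_prime_orderOf_dvd_card' 2 (G := Subgroup.center X)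
    (by
      obtain ⟨k, hk0, hk⟩ := (h2.to_subgroup (Subgroup.center X)).nontrivial_iff_card.1 inferInstance
      rw [hk]; exact dvd_pow_self 2 hk0.ne')
  set z : X := (w : X) with hz
  have hzI : z ∈ I := by rw [hI, Finset.mem_filter, hz, Subgroup.orderOf_coe]; exact ⟨Finset.mem_univ _, hw⟩
  obtain ⟨hz2, hz1⟩ := (hmemI z).1 hzI
  obtain ⟨u, hu⟩ : (I.erase z).Nonempty := Finset.card_pos.1 (by rw [Finset.card_erase_of_mem hzI]; omega)
  rw [Finset.mem_erase] at hu
  obtain ⟨huz, huI⟩ := hu
  obtain ⟨hu2, hu1⟩ := (hmemI u).1 huI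
  have hzc : ∀ g, g * z = z * g := Subgroup.mem_center_iff.1 w.2
  have hzuI : z * u ∈ I := (hmemI _).2 ⟨by
    calc z * u * (z * u) = z * (u * z) * u := by group
      _ = z * z * (u * u) := by rw [hzc u]; group
      _ = 1 := by rw [hz2, hu2, one_mul], fun e => huz (by
      rw [← inv_eq_of_mul_eq_one_right hz2]; exact (inv_eq_of_mul_eq_one_right e).symm)⟩
  have hall : ∀ x : X, x * x = 1 → x = 1 ∨ x = z ∨ x = u ∨ x = z * u := by
    intro x hx
    by_cases hx1 : x = 1
    · exact Or.inl hx1
    have hsub : ({z, u, z * u} : Finset X) = I := by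
      refine Finset.eq_of_subset_of_card_le ?_ ?_
      · intro y hy
        simp only [Finset.mem_insert, Finset.mem_singleton] at hy
        rcases hy with rfl | rfl | rfl
        exacts [hzI, huI, hzuI]
      · rw [hIc, Finset.card_insert_of_notMem (by
          simp only [Finset.mem_insert, Finset.mem_singleton, not_or]
          exact ⟨huz.symm, fun e => hu1 (left_eq_mul.1 e)⟩),
          Finset.card_pair (fun e => hz1 (right_eq_mul.1 e))]
    have := (hmemI x).2 ⟨hx, hx1⟩
    rw [← hsub] at this
    simp only [Finset.mem_insert, Finset.mem_singleton] at this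
    exact Or.inr this
  -- the centraliser of the involutions
  set C := Subgroup.centralizer {x : X | x * x = 1} with hC
  haveI hCc : C.Characteristic := by
    refine Subgroup.characteristic_iff_le_comap.2 fun φ x hx => ?_
    rw [Subgroup.mem_comap, hC, Subgroup.mem_centralizer_iff]
    intro y hy
    obtain ⟨y, rfl⟩ := φ.surjective y
    have hy' : y * y = 1 := φ.injective (by rw [map_mul, map_one]; exact hy)
    show φ y * φ x = φ x * φ y
    rw [← map_mul, ← map_mul, Subgroup.mem_centralizer_iff.1 hx y hy']
  have hmemC : ∀ x : X, x * u = u * x → x ∈ C := by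
    intro x hx
    rw [hC, Subgroup.mem_centralizer_iff]
    intro y hy
    rcases hall y hy with rfl | rfl | rfl | rfl
    · simp
    · exact (hzc x).symm
    · exact hx.symm
    · rw [mul_assoc, ← hx, ← mul_assoc, ← hzc x, mul_assoc]
  have hinvC : ∀ x : X, x * x = 1 → x ∈ C := by
    intro x hx
    rcases hall x hx with rfl | rfl | rfl | rfl
    · exact one_mem C
    · exact hmemC _ (hzc u).symm
    · exact hmemC _ rfl
    · exact hmemC _ (by rw [mul_assoc, ← mul_assoc u, hzc u, mul_assoc z u u])
  have hCC : Subgroup.centralizer (C : Set X) ≤ C := fun x hx => by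
    rw [hC, Subgroup.mem_centralizer_iff]
    exact fun y hy => Subgroup.mem_centralizer_iff.1 hx y (hinvC y hy)
  -- the action on the involutions
  let f : MulAut X →* Equiv.Perm {x : X // orderOf x = 2} :=
    { toFun := fun φ => φ.toEquiv.subtypeEquiv (fun x => by
        show orderOf x = 2 ↔ orderOf (φ x) = 2
        rw [MulEquiv.orderOf_eq])
      map_one' := by ext x; rfl
      map_mul' := fun a b => by ext x; rfl }
  haveI : Group.IsSolvable (Equiv.Perm {x : X // orderOf x = 2}) :=
    S0144.result 2 3 1 1 Nat.prime_two Nat.prime_three (by rw [Nat.card_perm, h3]; rfl)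
  have hker : Group.IsSolvable f.ker := by
    have hfixk : ∀ k ∈ f.ker, ∀ x : X, x * x = 1 → k x = x := by
      intro k hk x hx
      by_cases hx1 : x = 1
      · rw [hx1, map_one]
      · have := congrArg (fun e => ((e ⟨x, orderOf_eq_prime (by rw [pow_two, hx]) hx1⟩ :
          {x : X // orderOf x = 2}) : X)) (MonoidHom.mem_ker.1 hk)
        exact this
    have hfix : ∀ k : MulAut X, C.map k.toMonoidHom = C := fun k =>
      Subgroup.characteristic_iff_map_eq.1 hCc k
    let r : f.ker →* MulAut C :=
      { toFun := fun k => (MulEquiv.subgroupMap (k : MulAut X) C).trans (MulEquiv.subgroupCongr (hfix k))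
        map_one' := by ext x; rfl
        map_mul' := fun a b => by ext x; rfl }
    have hr : ∀ (k : f.ker) (c : C), ((r k c : C) : X) = (k : MulAut X) c := fun _ _ => rfl
    refine isSolvable_of_hom r (isSolvable_of_central (h2.to_subgroup C) ?_ ?_ r.range ?_) ?_
    · intro c hc
      refine Subgroup.mem_center_iff.2 fun d => Subtype.ext ?_
      exact (Subgroup.mem_centralizer_iff.1 d.2 c (congrArg Subtype.val hc)).symm
    · have hle : Nat.card {x : C // x * x = 1} ≤ ({1, z, u, z * u} : Finset X).card := by
        rw [← Nat.card_eq_finsetCard]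
        refine Nat.card_le_card_of_injective (fun x => ⟨((x : C) : X), ?_⟩) fun a b hab => ?_
        · simpa using hall _ (congrArg Subtype.val x.2)
        · exact Subtype.ext (Subtype.ext (congrArg Subtype.val hab :))
      exact hle.trans Finset.card_le_four
    · rintro _ ⟨k, rfl⟩ x hx
      exact Subtype.ext (hfixk k k.2 x (congrArg Subtype.val hx))
    · intro k hk hodd
      rw [← Subgroup.orderOf_coe] at hodd
      refine Subtype.ext (Critical.mulAut_eq_one h2 hCC (Nat.coprime_two_right.2 hodd) fun x hx => ?_)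
      rw [← hr k ⟨x, hx⟩, hk]; rfl
  haveI := hker
  exact Group.isSolvable_of_ker_le_range (G' := ↥f.ker) (G'' := Equiv.Perm {x : X // orderOf x = 2})
    f.ker.subtype f (fun x hx => ⟨⟨x, hx⟩, rfl⟩)

end Cfsg.Agent.S3117
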