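import Cfsg.Statements.S3122
import Cfsg.Agent.Lib.Co3Inv.Wrap
import Cfsg.Agent.Lib.Co3Inv.FusedMain
import Cfsg.Agent.Lib.Co3Inv.OfFused

set_option autoImplicit false
open Cfsg

namespace Cfsg.Agent.S3122

/-- Let G be a non-abelian finite simple group containing an involution t whose centralizer is isomorphic to the direct product of a group of order 2 and the Mathieu group of degree 12. Then G is isomorphic to the third Conway group. -/
theorem result {G : Type*} [Group G] [Finite G] [IsSimpleGroup G] (hG : ¬ IsMulCommutative G)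
    (t : G) (ht : orderOf t = 2)
    (hC : Nonempty (↥(Subgroup.centralizer ({t} : Set G)) ≃* Multiplicative (ZMod 2) × ↥Cfsg.Spor.M12)) :
    Cfsg.Spor.IsoCo3 G := by
  obtain ⟨I, -⟩ := Co3Inv.Inp.exists_inp t ht hC
  have hf := I.fused (by rw [Co3Inv.pResidual_eq_top I]; trivial)
  obtain ⟨S, -⟩ := I.exists_setup hf
  exact S.isoCo3 (I.oddCore_eq_bot hf) (I.center_eq_bot hf)

end Cfsg.Agent.S3122
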