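import Cfsg.Statements.S3153
import Cfsg.Agent.Lib.Components.Extended
import Cfsg.Agent.Lib.Solvable.Coprime

set_option autoImplicit false
open Cfsg

namespace Cfsg.Agent.S3153

open Subgroup

theorem eq_of_rank_one {G : Type*} [Group G] [Finite G] (hr : Cfsg.PRankLE 2 1 G) {u v : G}
    (hu : orderOf u = 2) (hv : orderOf v = 2) (h : u * v = v * u) : u = v := by
  classical
  by_contra hne
  have hu2 : u ^ 2 = 1 := hu ▸ pow_orderOf_eq_one u
  have hv2 : v ^ 2 = 1 := hv ▸ pow_orderOf_eq_one v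
  have hu' : u * u = 1 := by rw [← pow_two, hu2]
  have hv' : v * v = 1 := by rw [← pow_two, hv2]
  let A : Subgroup G :=
    { carrier := {x | ∃ a b : ℕ, x = u ^ a * v ^ b}
      one_mem' := ⟨0, 0, by simp⟩
      mul_mem' := by
        rintro _ _ ⟨a, b, rfl⟩ ⟨c, d, rfl⟩
        refine ⟨a + c, b + d, ?_⟩
        have hc : v ^ b * u ^ c = u ^ c * v ^ b := ((Commute.symm h).pow_pow b c).eq
        rw [pow_add, pow_add]
        calc u ^ a * v ^ b * (u ^ c * v ^ d) = u ^ a * (v ^ b * u ^ c) * v ^ d := by group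
          _ = _ := by rw [hc]; group
      inv_mem' := by
        rintro _ ⟨a, b, rfl⟩
        refine ⟨a, b, ?_⟩
        rw [mul_inv_rev, ← inv_pow, ← inv_pow, inv_eq_of_mul_eq_one_right hu',
          inv_eq_of_mul_eq_one_right hv']
        exact ((Commute.symm h).pow_pow b a).eq }
  have hcomm : IsMulCommutative A := ⟨⟨fun x y => by
    obtain ⟨a, b, hx⟩ := x.2
    obtain ⟨c, d, hy⟩ := y.2
    refine Subtype.ext ?_
    have hh : Commute u v := h
    show (x : G) * y = (y : G) * x
    rw [hx, hy]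
    exact ((((Commute.refl u).pow_pow a c).mul_right (hh.pow_pow a d)).mul_left
      ((hh.symm.pow_pow b c).mul_right ((Commute.refl v).pow_pow b d))).eq⟩⟩
  have hexp : ∀ a ∈ A, a ^ 2 = 1 := by
    rintro _ ⟨a, b, rfl⟩
    rw [((show Commute u v from h).pow_pow a b).mul_pow, ← pow_mul, ← pow_mul, mul_comm a, mul_comm b,
      pow_mul, pow_mul, hu2, hv2, one_pow, one_pow, one_mul]
  have h3 : ({1, u, v} : Finset G).card = 3 := by
    rw [Finset.card_eq_three]
    exact ⟨1, u, v, fun e => by simp [← e] at hu, fun e => by simp [← e] at hv, hne, rfl⟩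
  have hle : ({1, u, v} : Finset G).card ≤ Nat.card A := by
    rw [← Nat.card_eq_finsetCard]
    refine Nat.card_le_card_of_injective (fun x => (⟨x.1, ?_⟩ : A)) fun x y e => by
      simpa using e
    have hx := x.2
    simp only [Finset.mem_insert, Finset.mem_singleton] at hx
    rcases hx with e | e | e
    · exact ⟨0, 0, by simp [e]⟩
    · exact ⟨1, 0, by simp [e]⟩
    · exact ⟨0, 1, by simp [e]⟩
  have := hr A hcomm hexp
  omega

theorem first_part {X : Type*} [Group X] [Finite X] {P : Subgroup X}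
    (hq : Cfsg.IsQuasisimple ↥P) (hZ : Odd (Nat.card ↥(center ↥P))) (O : Subgroup X) [O.Normal]
    (hO : Odd (Nat.card O)) (g t : X) (ht : orderOf t = 2)
    (htP : t ∈ centralizer (P : Set X))
    (hCN : centralizer ({t} : Set X) ≤ normalizer (P : Set X))
    (hg2 : g * (g * t * g⁻¹) * g⁻¹ = t) (hcomm : t * (g * t * g⁻¹) = g * t * g⁻¹ * t)
    (hne : g * t * g⁻¹ ≠ t)
    (hP : g * t * g⁻¹ ∈ P ∨ t * (g * t * g⁻¹) ∈ P) : ⁅P, O⁆ = ⊥ := by
  haveI := hq.1
  obtain ⟨t', ht'⟩ : ∃ t', t' = g * t * g⁻¹ := ⟨_, rfl⟩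
  rw [← ht'] at hg2 hcomm hne hP
  have htt : t * t = 1 := by rw [← pow_two, ← ht, pow_orderOf_eq_one]
  have ht't' : t' * t' = 1 := by
    rw [ht', show g * t * g⁻¹ * (g * t * g⁻¹) = g * (t * t) * g⁻¹ by group, htt, mul_one,
      mul_inv_cancel]
  have htp : ∀ p ∈ P, p * t = t * p := fun p hp => mem_centralizer_iff.1 htP p hp
  -- `P` has even order, hence lies in no odd group
  have hodd_not : ∀ x : X, x ∈ P → x * x = 1 → x ∈ O → x = 1 := fun x _ hx2 hx => by
    have h1 : orderOf (⟨x, hx⟩ : O) ∣ 2 := orderOf_dvd_of_pow_eq_one (Subtype.ext (by rw [pow_two]; exact hx2))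
    have h2 := orderOf_dvd_natCard (⟨x, hx⟩ : O)
    have h3 : orderOf (⟨x, hx⟩ : O) = 1 :=
      Nat.eq_one_of_dvd_coprimes (Nat.coprime_two_left.2 hO) h1 h2
    exact congrArg Subtype.val (orderOf_eq_one_iff.1 h3)
  obtain ⟨w, hwP, hw2, hw1⟩ : ∃ w, w ∈ P ∧ w * w = 1 ∧ w ≠ 1 := by
    rcases hP with h | h
    · refine ⟨t', h, ht't', fun e => ?_⟩
      have : t = 1 := by rw [← hg2, e]; simp
      simp [this] at ht
    · refine ⟨t * t', h, ?_, fun e => hne ?_⟩
      · calc t * t' * (t * t') = t * (t' * t) * t' := by group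
          _ = 1 := by rw [← hcomm, ← mul_assoc, htt, one_mul, ht't']
      · calc t' = t * (t * t') := by rw [← mul_assoc, htt, one_mul]
          _ = t := by rw [e, mul_one]
  have hwZ : (⟨w, hwP⟩ : ↥P) ∉ center ↥P := fun h => by
    have h1 : orderOf (⟨_, h⟩ : center ↥P) ∣ 2 := orderOf_dvd_of_pow_eq_one
      (Subtype.ext (Subtype.ext (by rw [pow_two]; exact hw2)))
    have h2 := orderOf_dvd_natCard (⟨_, h⟩ : center ↥P)
    have h3 := Nat.eq_one_of_dvd_coprimes (Nat.coprime_two_left.2 hZ) h1 h2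
    exact hw1 (congrArg (fun x : center ↥P => ((x : ↥P) : X)) (orderOf_eq_one_iff.1 h3))
  -- fixed points of t in O centralise P
  have hfix : ∀ x ∈ O, x * t = t * x → ∀ p ∈ P, p * x = x * p := by
    intro x hxO hxt
    let K0 := O ⊓ centralizer ({t} : Set X)
    have hx : x ∈ K0 := Subgroup.mem_inf.2 ⟨hxO, mem_centralizer_singleton_iff.2 hxt⟩
    have hOP : ((O ⊓ P).subgroupOf P) ≤ center ↥P := by
      haveI : ((O ⊓ P).subgroupOf P).Normal := by rw [inf_subgroupOf_right]; infer_instance
      refine (Components.quasisimple_normal hq ((O ⊓ P).subgroupOf P)).resolve_left fun e => hw1 ?_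
      have : (⟨w, hwP⟩ : ↥P) ∈ (O ⊓ P).subgroupOf P := e ▸ mem_top _
      exact hodd_not w hwP hw2 (Subgroup.mem_inf.1 (mem_subgroupOf.1 this)).1
    have h1 : ⁅K0, P⁆ ≤ (center ↥P).map P.subtype := by
      refine le_trans ?_ (map_mono hOP)
      rw [subgroupOf_map_subtype]
      refine commutator_le.2 fun a ha b hb => Subgroup.mem_inf.2 ⟨Subgroup.mem_inf.2 ⟨?_, ?_⟩, ?_⟩
      · rw [commutatorElement_def, mul_assoc a b, mul_assoc a]
        exact O.mul_mem (Subgroup.mem_inf.1 ha).1
          (‹O.Normal›.conj_mem _ (O.inv_mem (Subgroup.mem_inf.1 ha).1) b)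
      all_goals
        rw [commutatorElement_def]
        exact P.mul_mem ((mem_normalizer_iff.1 (hCN (Subgroup.mem_inf.1 ha).2) b).1 hb) (P.inv_mem hb)
    have h2 : ⁅⁅K0, P⁆, P⁆ = ⊥ := by
      rw [commutator_eq_bot_iff_le_centralizer]
      refine h1.trans ?_
      rintro _ ⟨z, hz, rfl⟩
      exact mem_centralizer_iff.2 fun p hp =>
        congrArg Subtype.val (mem_center_iff.1 hz ⟨p, hp⟩)
    have h3 : ⁅⁅P, K0⁆, P⁆ = ⊥ := by rwa [commutator_comm P K0]
    have h4 := commutator_commutator_eq_bot_of_rotate (H₁ := P) (H₂ := P) (H₃ := K0) h3 h2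
    rw [Components.quasisimple_commutator_eq hq, commutator_comm,
      commutator_eq_bot_iff_le_centralizer] at h4
    exact fun p hp => mem_centralizer_iff.1 (h4 hx) p hp
  -- fixed points of t' in O are fixed by t
  have hsub : ∀ y ∈ O, y * t' = t' * y → y * t = t * y := by
    intro y hy hyt
    have hx : g⁻¹ * y * g ∈ O := by simpa using ‹O.Normal›.conj_mem y hy g⁻¹
    have hxt : g⁻¹ * y * g * t = t * (g⁻¹ * y * g) := by
      calc g⁻¹ * y * g * t = g⁻¹ * (y * t') * g := by rw [ht']; group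
        _ = t * (g⁻¹ * y * g) := by rw [hyt, ht']; group
    have hall : ∀ p ∈ P, g * p * g⁻¹ * y = y * (g * p * g⁻¹) := fun p hp => by
      have e := hfix _ hx hxt p hp
      calc g * p * g⁻¹ * y = g * (p * (g⁻¹ * y * g)) * g⁻¹ := by group
        _ = _ := by rw [e]; group
    rcases hP with h | h
    · have e := hall t' h
      rw [hg2] at e
      exact e.symm
    · have e := hall _ h
      rw [show g * (t * t') * g⁻¹ = t' * t by
        calc g * (t * t') * g⁻¹ = (g * t * g⁻¹) * (g * t' * g⁻¹) := by group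
          _ = t' * t := by rw [hg2, ← ht']] at e
      calc y * t = y * (t' * (t' * t)) := by rw [← mul_assoc t', ht't', one_mul]
        _ = t' * (y * (t' * t)) := by rw [← mul_assoc, hyt, mul_assoc]
        _ = t * y := by rw [← e, ← mul_assoc, ← mul_assoc, ht't', one_mul]
  have hsub' : ∀ y ∈ O, y * t = t * y → y * t' = t' * y := by
    intro y hy hyt
    rcases hP with h | h
    · exact (hfix y hy hyt _ h).symm
    · have e := (hfix y hy hyt _ h).symm
      calc y * t' = y * (t * (t * t')) := by rw [← mul_assoc t, htt, one_mul]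
        _ = t * (y * (t * t')) := by rw [← mul_assoc, hyt, mul_assoc]
        _ = t' * y := by rw [e, ← mul_assoc, ← mul_assoc, htt, one_mul]
  -- generation by the four-group
  let A : Subgroup X :=
    { carrier := {x | x = 1 ∨ x = t ∨ x = t' ∨ x = t * t'}
      one_mem' := Or.inl rfl
      mul_mem' := by
        have e1 : t' * t = t * t' := hcomm.symm
        have e2 : t * (t * t') = t' := by rw [← mul_assoc, htt, one_mul]
        have e3 : t' * (t * t') = t := by rw [← mul_assoc, e1, mul_assoc, ht't', mul_one]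
        have e4 : t * t' * t = t' := by rw [mul_assoc, e1, e2]
        have e5 : t * t' * t' = t := by rw [mul_assoc, ht't', mul_one]
        have e6 : t * t' * (t * t') = 1 := by rw [← mul_assoc, e4, ht't']
        intro a b ha hb
        rcases ha with rfl | rfl | rfl | rfl <;> rcases hb with rfl | rfl | rfl | rfl <;>
          simp only [Set.mem_setOf_eq, one_mul, mul_one, htt, ht't', e1, e2, e3, e4, e5, e6,
            true_or, or_true]
      inv_mem' := by
        intro a ha
        rcases ha with rfl | rfl | rfl | rfl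
        · simp
        · exact Or.inr (Or.inl (inv_eq_of_mul_eq_one_right htt))
        · exact Or.inr (Or.inr (Or.inl (inv_eq_of_mul_eq_one_right ht't')))
        · refine Or.inr (Or.inr (Or.inr ?_))
          rw [mul_inv_rev, inv_eq_of_mul_eq_one_right htt, inv_eq_of_mul_eq_one_right ht't', hcomm] }
  have hA2 : ∀ a : A, a * a = 1 := fun a => Subtype.ext (by
    show (a : X) * a = 1
    rcases a.2 with e | e | e | e <;> rw [e]
    · exact one_mul 1
    · exact htt
    · exact ht't'
    · calc t * t' * (t * t') = t * (t' * t) * t' := by group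
        _ = 1 := by rw [← hcomm, ← mul_assoc, htt, one_mul, ht't'])
  haveI : IsMulCommutative A := ⟨⟨fun a b => by
    have hi : ∀ a : A, a⁻¹ = a := fun a => inv_eq_of_mul_eq_one_right (hA2 a)
    rw [← hi (a * b), mul_inv_rev, hi, hi]⟩⟩
  have hA4 : ¬ IsCyclic A := fun hc => by
    obtain ⟨x, hx⟩ := hc.exists_generator
    have htA : t ∈ A := Or.inr (Or.inl rfl)
    have ht'A : t' ∈ A := Or.inr (Or.inr (Or.inl rfl))
    have key : ∀ y : A, y = 1 ∨ y = x := fun y => by
      obtain ⟨k, rfl⟩ := mem_zpowers_iff.1 (hx y)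
      rcases Int.even_or_odd k with ⟨j, rfl⟩ | ⟨j, rfl⟩
      · left; rw [zpow_add, ← (Commute.refl x).mul_zpow, hA2, one_zpow]
      · right; rw [zpow_add, two_mul, zpow_add, ← (Commute.refl x).mul_zpow, hA2, one_zpow, zpow_one, one_mul]
    rcases key ⟨t, htA⟩ with e | e
    · have : t = 1 := congrArg Subtype.val e
      simp [this] at ht
    · rcases key ⟨t', ht'A⟩ with e' | e'
      · have : t' = 1 := congrArg Subtype.val e'
        rw [this] at hg2
        have : t = 1 := by rw [← hg2]; simp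
        simp [this] at ht
      · exact hne (congrArg Subtype.val (e'.trans e.symm))
  have hAodd : (Nat.card A).Coprime (Nat.card O) := by
    have hp : IsPGroup 2 A := fun a => ⟨1, by rw [pow_one, pow_two, hA2]⟩
    haveI : Fact (Nat.Prime 2) := ⟨Nat.prime_two⟩
    obtain ⟨k, hk⟩ := IsPGroup.iff_card.1 hp
    rw [hk]
    exact Nat.Coprime.pow_left _ (Nat.coprime_two_left.2 hO)
  have hgen := CoprimeAct.generated_by_centralizers hA4
    (by rw [normalizer_eq_top_iff.2 ‹O.Normal›]; exact le_top) hAodd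
  have hOtt : O ≤ centralizer ({t * t'} : Set X) := by
    conv_lhs => rw [← hgen]
    refine iSup₂_le fun a ha y hy => ?_
    obtain ⟨hyO, hya⟩ := Subgroup.mem_inf.1 hy
    rw [mem_centralizer_singleton_iff] at hya ⊢
    have both : y * t = t * y → y * (t * t') = t * t' * y := fun h => by
      rw [← mul_assoc, h, mul_assoc, hsub' y hyO h, mul_assoc]
    rcases ha.1 with e | e | e | e
    · exact absurd e ha.2
    · subst e; exact both hya
    · subst e; exact both (hsub y hyO hya)
    · subst e; exact hya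
  -- the kernel of P on O
  let K : Subgroup ↥P := (centralizer (O : Set X)).subgroupOf P
  haveI : (centralizer (O : Set X)).Normal := Subgroup.normal_centralizer
  haveI : K.Normal := inferInstanceAs ((centralizer (O : Set X)).subgroupOf P).Normal
  rcases Components.quasisimple_normal hq K with hK | hK
  · rw [commutator_eq_bot_iff_le_centralizer]
    exact subgroupOf_eq_top.1 hK
  exfalso
  rcases hP with h | h
  · apply hwZ
    have hcen : ∀ p ∈ P, t' * p * t'⁻¹ * p⁻¹ ∈ centralizer (O : Set X) := by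
      intro p hp
      rw [mem_centralizer_iff]
      intro o ho
      have hi : t'⁻¹ = t' := inv_eq_of_mul_eq_one_right ht't'
      have h1 : ∀ o ∈ O, o * (t * t') = t * t' * o := fun o ho =>
        mem_centralizer_singleton_iff.1 (hOtt ho)
      have h2 : ∀ o ∈ O, o * (t * (p * t' * p⁻¹)) = t * (p * t' * p⁻¹) * o := fun o ho => by
        have e := h1 (p⁻¹ * o * p) (by simpa using ‹O.Normal›.conj_mem o ho p⁻¹)
        calc o * (t * (p * t' * p⁻¹)) = o * (p * (t * t') * p⁻¹) := by
              congr 1; rw [← mul_assoc, ← mul_assoc, ← htp p hp]; group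
          _ = p * ((p⁻¹ * o * p) * (t * t')) * p⁻¹ := by group
          _ = (p * t) * t' * p⁻¹ * o := by rw [e]; group
          _ = t * (p * t' * p⁻¹) * o := by rw [htp p hp]; group
      have key : t' * p * t'⁻¹ * p⁻¹ = (t * t') * (t * (p * t' * p⁻¹)) := by
        calc t' * p * t'⁻¹ * p⁻¹ = (t * t) * t' * (p * t' * p⁻¹) := by rw [htt, hi]; group
          _ = t * (t * t') * (p * t' * p⁻¹) := by group
          _ = _ := by rw [show t * (t * t') = t * t' * t by rw [mul_assoc t t', ← hcomm], mul_assoc]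
      rw [key, ← mul_assoc, h1 o ho, mul_assoc, h2 o ho]
      simp only [mul_assoc]
    have hw' : (⟨t', h⟩ : ↥P) ∈ center ↥P := by
      have hq2 : ((⟨t', h⟩ : ↥P) : ↥P ⧸ center ↥P) ∈ center (↥P ⧸ center ↥P) := by
        rw [mem_center_iff]
        intro v
        obtain ⟨p, rfl⟩ := QuotientGroup.mk_surjective v
        rw [← QuotientGroup.mk_mul, ← QuotientGroup.mk_mul, eq_comm, QuotientGroup.eq,
          ← QuotientGroup.eq_one_iff]
        have hc : ((⟨t', h⟩ : ↥P) * p * (⟨t', h⟩ : ↥P)⁻¹ * p⁻¹) ∈ center ↥P :=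
          hK (mem_subgroupOf.2 (hcen p p.2))
        have e := (QuotientGroup.eq_one_iff _).2 hc
        simp only [QuotientGroup.mk_mul, QuotientGroup.mk_inv] at e ⊢
        rw [mul_inv_eq_one, mul_inv_eq_iff_eq_mul] at e
        rw [e, inv_mul_cancel]
      rw [Components.center_quotient_of_perfect _ le_rfl, QuotientGroup.map_mk'_self, mem_bot] at hq2
      exact (QuotientGroup.eq_one_iff _).1 hq2
    -- `w` is one of t', t t'
    exact absurd hw' (fun hz => by
      have h1 : orderOf (⟨_, hz⟩ : center ↥P) ∣ 2 := orderOf_dvd_of_pow_eq_one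
        (Subtype.ext (Subtype.ext (by rw [pow_two]; exact ht't')))
      have h2 := orderOf_dvd_natCard (⟨_, hz⟩ : center ↥P)
      have h3 := Nat.eq_one_of_dvd_coprimes (Nat.coprime_two_left.2 hZ) h1 h2
      have h4 : t' = 1 := congrArg (fun x : center ↥P => ((x : ↥P) : X)) (orderOf_eq_one_iff.1 h3)
      have : t = 1 := by rw [← hg2, h4]; simp
      simp [this] at ht)
  · have hc : (⟨t * t', h⟩ : ↥P) ∈ center ↥P :=
      hK (mem_subgroupOf.2 (mem_centralizer_iff.2 fun o ho =>
        mem_centralizer_singleton_iff.1 (hOtt ho)))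
    have h1 : orderOf (⟨_, hc⟩ : center ↥P) ∣ 2 := orderOf_dvd_of_pow_eq_one
      (Subtype.ext (Subtype.ext (by
        show (t * t') ^ 2 = 1
        rw [pow_two]
        calc t * t' * (t * t') = t * (t' * t) * t' := by group
          _ = 1 := by rw [← hcomm, ← mul_assoc, htt, one_mul, ht't'])))
    have h2 := orderOf_dvd_natCard (⟨_, hc⟩ : center ↥P)
    have h3 := Nat.eq_one_of_dvd_coprimes (Nat.coprime_two_left.2 hZ) h1 h2
    have h4 : t * t' = 1 := congrArg (fun x : center ↥P => ((x : ↥P) : X)) (orderOf_eq_one_iff.1 h3)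
    exact hne (by rw [← one_mul t', ← htt, mul_assoc, h4, mul_one])

theorem second_part {X : Type*} [Group X] [Finite X] {P : Subgroup X}
    (hq : Cfsg.IsQuasisimple ↥P) (heven : 2 ∣ Nat.card P) (h1 : ⁅P, Cfsg.oddCore X⁆ = ⊥)
    (L : Subgroup X) (hL : Cfsg.IsPComponent 2 L) (hPL : P ≤ L) : Cfsg.IsQuasisimple ↥L := by
  haveI : Fact (Nat.Prime 2) := ⟨Nat.prime_two⟩
  haveI := hq.1
  set O := Cfsg.oddCore X with hOdef
  haveI : O.Normal := FittingCores.pPrimeCore_normal 2
  haveI : (centralizer (O : Set X)).Normal := Subgroup.normal_centralizer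
  let H : Subgroup ↥L := (centralizer (O : Set X)).subgroupOf L
  haveI : H.Normal := inferInstanceAs ((centralizer (O : Set X)).subgroupOf L).Normal
  set C := Cfsg.pPrimeCore 2 ↥L with hCdef
  haveI : C.Normal := FittingCores.pPrimeCore_normal 2
  let q := QuotientGroup.mk' C
  have hqL := Components.pComponent_quotient_quasisimple hL
  have htop : H ⊔ C = ⊤ := by
    haveI : (H.map q).Normal := Subgroup.Normal.map inferInstance q (QuotientGroup.mk'_surjective C)
    rcases Components.quasisimple_normal hqL (H.map q) with e | e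
    · have := congrArg (comap q) e
      rwa [comap_map_eq, QuotientGroup.ker_mk', comap_top] at this
    exfalso
    have hPH : P.subgroupOf L ≤ H := fun x hx =>
      mem_subgroupOf.2 ((commutator_eq_bot_iff_le_centralizer.1 h1) (mem_subgroupOf.1 hx))
    have h2 : ⁅P.subgroupOf L, P.subgroupOf L⁆.map q = ⊥ := by
      rw [map_commutator, commutator_eq_bot_iff_le_centralizer]
      exact ((map_mono hPH).trans e).trans (center_le_centralizer _)
    rw [Subgroup.map_eq_bot_iff, QuotientGroup.ker_mk'] at h2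
    have h3 : P ≤ C.map L.subtype := by
      have := map_mono (f := L.subtype) h2
      rwa [map_commutator, subgroupOf_map_subtype, inf_eq_left.2 hPL,
        Components.quasisimple_commutator_eq hq] at this
    have h4 := heven.trans (card_dvd_of_le h3)
    rw [card_map_of_injective L.subtype_injective] at h4
    have h5 := Nat.Coprime.coprime_dvd_left h4 (FittingCores.pPrimeCore_coprime (G := ↥L) 2)
    exact absurd (Nat.coprime_self 2 |>.1 h5) (by norm_num)
  have hmap : (H.map L.subtype).map (QuotientGroup.mk' (Cfsg.pPrimeCore 2 X)) =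
      L.map (QuotientGroup.mk' (Cfsg.pPrimeCore 2 X)) := by
    refine le_antisymm (map_mono (map_subtype_le H)) ?_
    have hC0 : (C.map L.subtype).map (QuotientGroup.mk' (Cfsg.pPrimeCore 2 X)) = ⊥ := by
      rw [Subgroup.map_eq_bot_iff, QuotientGroup.ker_mk', Components.pComponent_core hL]
      exact inf_le_right
    conv_lhs => rw [← range_subtype L, MonoidHom.range_eq_map, ← htop, Subgroup.map_sup,
      Subgroup.map_sup, hC0, sup_bot_eq]
  have hHL : H.map L.subtype = L := hL.2.2 _
    ((show H.Normal from inferInstance).isSubnormal.trans' hL.1) (map_subtype_le H) hmap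
  have hcenO : ∀ x ∈ L, x ∈ centralizer (O : Set X) := fun x hx => by
    rw [← hHL] at hx
    obtain ⟨y, hy, rfl⟩ := hx
    exact mem_subgroupOf.1 hy
  have hCZ : C ≤ center ↥L := fun c hc => by
    have hcO : (c : X) ∈ O :=
      (Subgroup.mem_inf.1 (Components.pComponent_core hL ▸ mem_map_of_mem L.subtype hc)).2
    exact mem_center_iff.2 fun x => Subtype.ext
      (mem_centralizer_iff.1 (hcenO x x.2) c hcO).symm
  haveI : Group.IsPerfect ↥L := Subgroup.isPerfect_iff.2 (Components.pComponent_commutator_eq hL)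
  exact Components.quasisimple_of_quotient_central C hCZ hqL

/-- Let X be a finite group and P a standard subgroup of X whose centralizer has 2-rank at most 1 and whose centre has odd order. Let S be a Sylow 2-subgroup of N_X(P) and t an involution of S centralizing P. Suppose some element g of X normalizes S, does not lie in S, has its square in S, and conjugates t into P·C_X(P). Then P commutes elementwise with the largest normal odd-order subgroup O(X) of X; consequently every t-invariant 2-component of X containing P is quasisimple. -/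
theorem result {X : Type*} [Group X] [Finite X] (P : Subgroup X) (hP : Cfsg.IsStandardSubgroup P)
    (hr : Cfsg.PRankLE 2 1 ↥(Subgroup.centralizer (P : Set X))) (hZ : Odd (Nat.card ↥(Subgroup.center ↥P)))
    (S : Sylow 2 ↥(Subgroup.normalizer (P : Set X))) (t : X) (ht : orderOf t = 2) (htS : t ∈ (S : Subgroup ↥(Subgroup.normalizer (P : Set X))).map (Subgroup.normalizer (P : Set X)).subtype)
    (htP : t ∈ Subgroup.centralizer (P : Set X))
    (g : X) (hgN : ∀ s ∈ (S : Subgroup ↥(Subgroup.normalizer (P : Set X))).map (Subgroup.normalizer (P : Set X)).subtype, g * s * g⁻¹ ∈ (S : Subgroup ↥(Subgroup.normalizer (P : Set X))).map (Subgroup.normalizer (P : Set X)).subtype)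
    (hgS : g ∉ (S : Subgroup ↥(Subgroup.normalizer (P : Set X))).map (Subgroup.normalizer (P : Set X)).subtype) (hg2 : g ^ 2 ∈ (S : Subgroup ↥(Subgroup.normalizer (P : Set X))).map (Subgroup.normalizer (P : Set X)).subtype)
    (hgt : g * t * g⁻¹ ∈ P ⊔ Subgroup.centralizer (P : Set X)) :
    ⁅P, Cfsg.oddCore X⁆ = ⊥ ∧
      ∀ L : Subgroup X, Cfsg.IsPComponent 2 L → P ≤ L → (∀ l ∈ L, t * l * t⁻¹ ∈ L) → Cfsg.IsQuasisimple ↥L := by
  classical
  obtain ⟨hq, ⟨_, htight⟩, _, hN⟩ := hP
  set C := Subgroup.centralizer (P : Set X) with hCdef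
  set Sg := (S : Subgroup ↥(Subgroup.normalizer (P : Set X))).map (Subgroup.normalizer (P : Set X)).subtype with hSg
  haveI : Fact (Nat.Prime 2) := ⟨Nat.prime_two⟩
  have hSgN : Sg ≤ (Subgroup.normalizer (P : Set X)) := Subgroup.map_subtype_le _
  have hSgp : IsPGroup 2 Sg := S.2.map _
  have htt : t * t = 1 := by rw [← pow_two, ← ht, pow_orderOf_eq_one]
  have hgN' : g ∉ (Subgroup.normalizer (P : Set X)) := fun hg => by
    apply hgS
    obtain ⟨k, hk⟩ := hSgp ⟨_, hg2⟩
    have hk' : (g ^ 2) ^ 2 ^ k = 1 := congrArg Subtype.val hk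
    have hQ : IsPGroup 2 (Subgroup.zpowers (⟨g, hg⟩ : ↥(Subgroup.normalizer (P : Set X)))) := by
      refine IsPGroup.iff_card.2 ?_
      rw [Nat.card_zpowers]
      obtain ⟨j, _, hj⟩ := (Nat.dvd_prime_pow Nat.prime_two).1
        (orderOf_dvd_of_pow_eq_one (x := (⟨g, hg⟩ : ↥(Subgroup.normalizer (P : Set X)))) (n := 2 ^ (k + 1)) (Subtype.ext (by
          rw [pow_succ', pow_mul]; exact hk')))
      exact ⟨j, hj⟩
    have hgnorm : (⟨g, hg⟩ : ↥(Subgroup.normalizer (P : Set X))) ∈ Subgroup.normalizer ((S : Subgroup ↥(Subgroup.normalizer (P : Set X))) : Set ↥(Subgroup.normalizer (P : Set X))) := by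
      rw [Subgroup.mem_normalizer_iff]
      intro x
      constructor
      · intro hx
        obtain ⟨y, hy, e⟩ := hgN x ⟨x, hx, rfl⟩
        exact (Subtype.ext e : y = ⟨g, hg⟩ * x * (⟨g, hg⟩ : ↥(Subgroup.normalizer (P : Set X)))⁻¹) ▸ hy
      · intro hx
        have hmap : ∀ s ∈ Sg, ∃ s' ∈ Sg, g * s' * g⁻¹ = s := by
          intro s hs
          have hsurj := (Finite.injective_iff_surjective (f := fun s : Sg =>
            (⟨g * s * g⁻¹, hgN s s.2⟩ : Sg))).1 (fun a b e => Subtype.ext (by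
              simpa using congrArg Subtype.val e))
          obtain ⟨s', hs'⟩ := hsurj ⟨s, hs⟩
          exact ⟨s', s'.2, congrArg Subtype.val hs'⟩
        obtain ⟨s', ⟨y, hy, rfl⟩, e⟩ := hmap _ ⟨_, hx, rfl⟩
        have : (y : X) = x := by simpa using e
        exact (Subtype.ext this : y = x) ▸ hy
    have hmem : (⟨g, hg⟩ : ↥(Subgroup.normalizer (P : Set X))) ∈ Subgroup.zpowers (⟨g, hg⟩ : ↥(Subgroup.normalizer (P : Set X))) ⊓
        Subgroup.normalizer ((S : Subgroup ↥(Subgroup.normalizer (P : Set X))) : Set ↥(Subgroup.normalizer (P : Set X))) :=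
      Subgroup.mem_inf.2 ⟨Subgroup.mem_zpowers _, hgnorm⟩
    exact ⟨_, (Subgroup.mem_inf.1 ((hQ.inf_normalizer_sylow S).le hmem)).2, rfl⟩
  have hconjC : ∀ s ∈ (Subgroup.normalizer (P : Set X)), ∀ c ∈ C, s * c * s⁻¹ ∈ C := fun s hs c hc => by
    have : s ∈ Subgroup.normalizer (C : Set X) := hN ▸ hs
    exact (Subgroup.mem_normalizer_iff.1 this c).1 hc
  -- t is the only involution of C ∩ Sg and is central in Sg
  set T0 := C ⊓ Sg with hT0
  have htT0 : t ∈ T0 := Subgroup.mem_inf.2 ⟨htP, htS⟩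
  haveI : Nontrivial T0 := ⟨⟨t, htT0⟩, 1, fun e => by
    have : t = 1 := congrArg Subtype.val e
    simp [this] at ht⟩
  have hT0p : IsPGroup 2 T0 := hSgp.to_le inf_le_right
  haveI := hT0p.center_nontrivial
  obtain ⟨k, hk⟩ := IsPGroup.iff_card.1 (hT0p.to_subgroup (Subgroup.center T0))
  have hk0 : k ≠ 0 := fun e => by
    rw [e, pow_zero] at hk
    exact absurd hk (Finite.one_lt_card).ne'
  obtain ⟨z0, hz0⟩ := exists_prime_orderOf_dvd_card' (G := Subgroup.center T0) 2
    (hk ▸ dvd_pow_self 2 hk0)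
  have hall : ∀ u ∈ T0, orderOf u = 2 → u = ((z0 : T0) : X) := by
    intro u hu hu2
    have hz' : orderOf (⟨_, (Subgroup.mem_inf.1 (z0 : T0).2).1⟩ : ↥C) = 2 := by
      rw [Subgroup.orderOf_mk, Subgroup.orderOf_coe, Subgroup.orderOf_coe, hz0]
    have h := eq_of_rank_one hr (u := (⟨u, (Subgroup.mem_inf.1 hu).1⟩ : ↥C))
      (by rw [Subgroup.orderOf_mk, hu2]) hz'
      (Subtype.ext (show u * ((z0 : T0) : X) = ((z0 : T0) : X) * u from
        congrArg Subtype.val (Subgroup.mem_center_iff.1 z0.2 ⟨u, hu⟩)))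
    exact congrArg Subtype.val h
  have htc : ∀ s ∈ Sg, s * t * s⁻¹ = t := fun s hs => by
    rw [hall (s * t * s⁻¹) (Subgroup.mem_inf.2 ⟨hconjC s (hSgN hs) t htP,
      Sg.mul_mem (Sg.mul_mem hs htS) (Sg.inv_mem hs)⟩)
      (by rw [← ht]; exact (MulEquiv.orderOf_eq (MulAut.conj s) t)), ← hall t htT0 ht]
  obtain ⟨t', ht'⟩ : ∃ t', t' = g * t * g⁻¹ := ⟨_, rfl⟩
  rw [← ht'] at hgt
  have ht'S : t' ∈ Sg := ht' ▸ hgN t htS
  have hcomm : t * t' = t' * t := by
    have := htc t' ht'S
    rw [mul_inv_eq_iff_eq_mul] at this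
    exact this.symm
  have hg2' : g * t' * g⁻¹ = t := by
    rw [ht', show g * (g * t * g⁻¹) * g⁻¹ = g ^ 2 * t * (g ^ 2)⁻¹ by rw [pow_two]; group]
    exact htc _ hg2
  have ht'2 : orderOf t' = 2 := by rw [← ht, ht']; exact MulEquiv.orderOf_eq (MulAut.conj g) t
  have hdisj : t' ∉ C := fun h => by
    apply hgN'
    rw [hN]
    by_contra hgC
    have hmem : t' ∈ C ⊓ C.map (MulAut.conj g).toMonoidHom := ⟨h, t, htP, ht'.symm⟩
    have h2 := orderOf_dvd_natCard (⟨_, hmem⟩ : ↥(C ⊓ C.map (MulAut.conj g).toMonoidHom))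
    rw [Subgroup.orderOf_mk, ht'2] at h2
    exact (Nat.not_even_iff_odd.2 (htight g hgC)) (even_iff_two_dvd.2 h2)
  have hne : t' ≠ t := fun e => hdisj (e ▸ htP)
  -- t' = p c
  have hCP : C ≤ Subgroup.normalizer (P : Set X) := Subgroup.centralizer_le_normalizer _
  obtain ⟨p, hp, c, hc, hpc⟩ : ∃ p ∈ P, ∃ c ∈ C, p * c = t' := by
    have h : t' ∈ ((P ⊔ C : Subgroup X) : Set X) := hgt
    rw [sup_comm, Subgroup.coe_mul_of_left_le_normalizer_right C P hCP] at h
    obtain ⟨c, hc, p, hp, e⟩ := Set.mem_mul.1 h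
    exact ⟨p, hp, c, hc, by rw [Subgroup.mem_centralizer_iff.1 hc p hp]; exact e⟩
  have hpc' : Commute p c := Subgroup.mem_centralizer_iff.1 hc p hp
  have ht't' : t' * t' = 1 := by rw [← pow_two, ← ht'2, pow_orderOf_eq_one]
  set o := Nat.card ↥(Subgroup.center ↥P) with ho
  have hp2C : p * p ∈ C := by
    have e : p * p = (c * c)⁻¹ := by
      refine eq_inv_of_mul_eq_one_left ?_
      rw [← ht't', ← hpc]
      exact hpc'.mul_mul_mul_comm p c
    rw [e]
    exact C.inv_mem (C.mul_mem hc hc)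
  have hp2Z : (⟨p * p, P.mul_mem hp hp⟩ : ↥P) ∈ Subgroup.center ↥P :=
    Subgroup.mem_center_iff.2 fun y => Subtype.ext (Subgroup.mem_centralizer_iff.1 hp2C y y.2)
  have hpo : (p ^ o) * (p ^ o) = 1 := by
    rw [← (Commute.refl p).mul_pow]
    have := congrArg (fun x : Subgroup.center ↥P => ((x : ↥P) : X))
      (pow_card_eq_one' (x := (⟨_, hp2Z⟩ : Subgroup.center ↥P)))
    simp only [Subgroup.coe_pow, Subgroup.coe_one] at this
    exact this
  have ht'o : p ^ o * c ^ o = t' := by
    rw [← hpc'.mul_pow, hpc]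
    obtain ⟨j, hj⟩ := hZ
    rw [show o = 2 * j + 1 from hj, pow_succ, pow_mul, pow_two, ht't', one_pow, one_mul]
  have hco : (c ^ o) * (c ^ o) = 1 := by
    have hcm := hpc'.pow_pow o o
    calc c ^ o * c ^ o = (p ^ o * p ^ o) * (c ^ o * c ^ o) := by rw [hpo, one_mul]
      _ = (p ^ o * c ^ o) * (p ^ o * c ^ o) := hcm.mul_mul_mul_comm _ _
      _ = 1 := by rw [ht'o, ht't']
  have hPt : t' ∈ P ∨ t * t' ∈ P := by
    by_cases h1 : c ^ o = 1
    · left; rw [← ht'o, h1, mul_one]; exact P.pow_mem hp o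
    · right
      have hct : c ^ o * t = t * c ^ o := by
        have hpt : Commute (p ^ o) t :=
          Subgroup.mem_centralizer_iff.1 htP _ (P.pow_mem hp o)
        have e : c ^ o = (p ^ o)⁻¹ * t' := by rw [← ht'o, inv_mul_cancel_left]
        rw [e]
        exact (hpt.inv_left.mul_left (show Commute t' t from hcomm.symm)).eq
      have h := eq_of_rank_one hr (u := (⟨c ^ o, C.pow_mem hc o⟩ : ↥C))
        (v := (⟨t, htP⟩ : ↥C))
        (by rw [Subgroup.orderOf_mk]; exact orderOf_eq_prime (by rw [pow_two]; exact hco) h1)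
        (by rw [Subgroup.orderOf_mk, ht]) (Subtype.ext hct)
      have h' : c ^ o = t := congrArg Subtype.val h
      rw [← ht'o, h', ← mul_assoc, ← Subgroup.mem_centralizer_iff.1 htP _ (P.pow_mem hp o),
        mul_assoc, htt, mul_one]
      exact P.pow_mem hp o
  have hCN : Subgroup.centralizer ({t} : Set X) ≤ (Subgroup.normalizer (P : Set X)) := by
    intro x hx
    rw [hN]
    by_contra hxC
    have hmem : t ∈ C ⊓ C.map (MulAut.conj x).toMonoidHom := by
      refine ⟨htP, t, htP, ?_⟩
      show x * t * x⁻¹ = t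
      rw [Subgroup.mem_centralizer_singleton_iff.1 hx, mul_inv_cancel_right]
    have h2 := orderOf_dvd_natCard (⟨t, hmem⟩ : ↥(C ⊓ C.map (MulAut.conj x).toMonoidHom))
    rw [Subgroup.orderOf_mk, ht] at h2
    exact (Nat.not_even_iff_odd.2 (htight x hxC)) (even_iff_two_dvd.2 h2)
  haveI : (Cfsg.oddCore X).Normal := Cfsg.Agent.FittingCores.pPrimeCore_normal 2
  have h1 := first_part hq hZ (Cfsg.oddCore X)
    (Nat.coprime_two_right.1 (Cfsg.Agent.FittingCores.pPrimeCore_coprime 2)) g t ht htP hCN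
    (ht' ▸ hg2') (ht' ▸ hcomm) (ht' ▸ hne) (ht' ▸ hPt)
  refine ⟨h1, fun L hL hPL _ => second_part hq ?_ h1 L hL hPL⟩
  rcases hPt with h | h
  · have := orderOf_dvd_natCard (⟨t', h⟩ : ↥P)
    rwa [Subgroup.orderOf_mk, ht'2] at this
  · have := orderOf_dvd_natCard (⟨t * t', h⟩ : ↥P)
    rwa [Subgroup.orderOf_mk, orderOf_eq_prime (x := t * t') (p := 2) (by
      rw [pow_two]
      calc t * t' * (t * t') = t * (t' * t) * t' := by group
        _ = 1 := by rw [← hcomm, ← mul_assoc, htt, one_mul, ht't'])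
      (fun e => hne (by rw [← one_mul t', ← htt, mul_assoc, e, mul_one]))] at this

end Cfsg.Agent.S3153
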