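import Cfsg.Statements.S3154
import Cfsg.Agent.Lib.CoverThreeFour.Main

set_option autoImplicit false
open Cfsg

namespace Cfsg.Agent.S3154

open CoverThreeFour PSL34Cover

theorem of_normal_form {F : Type*} [Field F] [Fintype F] (hF : Fintype.card F = 4) {X : Type*} [Group X] [Finite X]
    (π : X →* Matrix.ProjectiveSpecialLinearGroup (Fin 3) F) (hπ : Function.Surjective π)
    (hZc : π.ker ≤ Subgroup.center X) (hZ2 : ∀ z ∈ π.ker, z * z = 1) (H K : Subgroup X)
    (hH : H = (Row (F := F)).comap π) (hK : K = (Row (F := F)).comap ((pgraph (F := F)).toMonoidHom.comp π)) :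
    Cfsg.IsElementaryAbelian 2 H ∧ Cfsg.IsElementaryAbelian 2 K ∧
      H ⊓ K = (Subgroup.center ↥(H ⊔ K)).map (H ⊔ K).subtype ∧
      (∃ C : Subgroup X, C ≤ Subgroup.normalizer (H : Set X) ∧ C ⊓ H = ⊥ ∧ H ⊔ C = Subgroup.normalizer (H : Set X) ∧
        Nonempty (↥C ≃* Matrix.ProjectiveSpecialLinearGroup (Fin 2) F)) ∧
      (∃ C : Subgroup X, C ≤ Subgroup.normalizer (K : Set X) ∧ C ⊓ K = ⊥ ∧ K ⊔ C = Subgroup.normalizer (K : Set X) ∧
        Nonempty (↥C ≃* Matrix.ProjectiveSpecialLinearGroup (Fin 2) F)) := by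
  have h2 := two_zero' hF
  have hn : ∀ x : F, -x = x := fun x => neg_eq_of_add_eq_zero_left (h2 x)
  obtain ⟨hgs, hgk⟩ := pgraph_comp_facts π hπ
  have eH : Cfsg.IsElementaryAbelian 2 H := hH ▸ row_elementary hF π hπ hZc hZ2
  have eK : Cfsg.IsElementaryAbelian 2 K := hK ▸ row_elementary hF _ hgs (hgk.symm ▸ hZc) (hgk.symm ▸ hZ2)
  refine ⟨eH, eK, ?_, hH ▸ row_complement hF π hπ hZc hZ2,
    hK ▸ row_complement hF _ hgs (hgk.symm ▸ hZc) (hgk.symm ▸ hZ2)⟩
  refine le_antisymm ?_ ?_
  · intro x hx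
    refine ⟨⟨x, Subgroup.mem_sup_left hx.1⟩, Subgroup.mem_center_iff.2 fun y => Subtype.ext ?_, rfl⟩
    have hle : H ⊔ K ≤ Subgroup.centralizer ({x} : Set X) := sup_le
      (fun h hh => Subgroup.mem_centralizer_singleton_iff.2 (by
        have := eH.1
        exact congrArg Subtype.val (mul_comm' (⟨h, hh⟩ : H) ⟨x, hx.1⟩)))
      (fun h hh => Subgroup.mem_centralizer_singleton_iff.2 (by
        have := eK.1
        exact congrArg Subtype.val (mul_comm' (⟨h, hh⟩ : K) ⟨x, hx.2⟩)))
    exact Subgroup.mem_centralizer_singleton_iff.1 (hle y.2)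
  · rintro _ ⟨x, hx, rfl⟩
    rw [SetLike.mem_coe, Subgroup.mem_center_iff] at hx
    have hU : H ⊔ K ≤ (Uimg (F := F)).comap π := by
      rw [hH, hK]
      refine sup_le (Subgroup.comap_mono row_le) ?_
      intro y hy
      obtain ⟨⟨a, b⟩, hab⟩ := Subgroup.mem_comap.1 hy
      refine Subgroup.mem_comap.2 (mem_Uimg.2 ⟨0, b, a, (pgraph (F := F)).injective ?_⟩)
      rw [pgraph_ψ, graph_uni hn, zero_mul, add_zero]
      exact hab.symm
    obtain ⟨a, b, c, habc⟩ := mem_Uimg.1 (Subgroup.mem_comap.1 (hU x.2))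
    obtain ⟨u, hu⟩ := hπ (ψ (uni 1 0 0))
    obtain ⟨v, hv⟩ := hπ (ψ (uni 0 0 1))
    have huH : u ∈ H := hH ▸ Subgroup.mem_comap.2 ⟨(1, 0), hu.symm⟩
    have hvK : v ∈ K := hK ▸ Subgroup.mem_comap.2 ⟨(1, 0), by
      show _ = pgraph (π v)
      rw [hv, pgraph_ψ, graph_uni hn]; simp⟩
    have e1 := congrArg (fun y : ↥(H ⊔ K) => π (y : X)) (hx ⟨u, Subgroup.mem_sup_left huH⟩)
    have e2 := congrArg (fun y : ↥(H ⊔ K) => π (y : X)) (hx ⟨v, Subgroup.mem_sup_right hvK⟩)
    simp only [Subgroup.coe_mul, map_mul, hu, hv, habc] at e1 e2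
    rw [← map_mul, ← map_mul, uni_mul, uni_mul] at e1 e2
    have hc : c = 0 := by
      have := (ψ_uni_inj e1).2.1
      simpa using this
    have ha : a = 0 := by
      have := (ψ_uni_inj e2).2.1
      simpa using this
    rw [ha, hc] at habc
    refine Subgroup.mem_inf.2 ⟨?_, ?_⟩
    · have : (x : X) ∈ (Row (F := F)).comap π := Subgroup.mem_comap.2 ⟨(0, b), habc.symm⟩
      rwa [← hH] at this
    · have : (x : X) ∈ (Row (F := F)).comap ((pgraph (F := F)).toMonoidHom.comp π) := by
        refine Subgroup.mem_comap.2 ⟨(0, b), ?_⟩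
        show _ = pgraph (π x)
        rw [habc, pgraph_ψ, graph_uni hn]; simp
      rwa [← hK] at this


/-- Let X be a finite quasisimple group whose centre is an elementary abelian 2-group and whose central quotient is isomorphic to the projective special linear group of dimension 3 over the field with 4 elements. Let T be a Sylow 2-subgroup of X and H ≠ K subgroups of T containing the centre Z(X) whose images in X/Z(X) are elementary abelian of order 16 (the two such subgroups of a Sylow 2-subgroup of the quotient). Then H and K are elementary abelian, H ∩ K is the centre of the subgroup they generate, and each of N_X(H), N_X(K) is a split extension of H, respectively K, by the projective special linear group of dimension 2 over the field with 4 elements (there is a complement isomorphic to that group). -/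
theorem result {X : Type*} [Group X] [Finite X] (hq : Cfsg.IsQuasisimple X) (hZ : Cfsg.IsElementaryAbelian 2 (Subgroup.center X))
    {F : Type*} [Field F] [Fintype F] (hF : Fintype.card F = 4) (hXL : Nonempty ((X ⧸ Subgroup.center X) ≃* Matrix.ProjectiveSpecialLinearGroup (Fin 3) F))
    (T : Sylow 2 X) (H K : Subgroup X) (hHK : H ≠ K) (hHT : H ≤ T) (hKT : K ≤ T) (hZH : Subgroup.center X ≤ H) (hZK : Subgroup.center X ≤ K)
    (hH : Cfsg.IsElementaryAbelian 2 (H.map (QuotientGroup.mk' (Subgroup.center X))) ∧ Nat.card ↥(H.map (QuotientGroup.mk' (Subgroup.center X))) = 16)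
    (hK : Cfsg.IsElementaryAbelian 2 (K.map (QuotientGroup.mk' (Subgroup.center X))) ∧ Nat.card ↥(K.map (QuotientGroup.mk' (Subgroup.center X))) = 16) :
    Cfsg.IsElementaryAbelian 2 H ∧ Cfsg.IsElementaryAbelian 2 K ∧
      H ⊓ K = (Subgroup.center ↥(H ⊔ K)).map (H ⊔ K).subtype ∧
      (∃ C : Subgroup X, C ≤ Subgroup.normalizer (H : Set X) ∧ C ⊓ H = ⊥ ∧ H ⊔ C = Subgroup.normalizer (H : Set X) ∧
        Nonempty (↥C ≃* Matrix.ProjectiveSpecialLinearGroup (Fin 2) F)) ∧
      (∃ C : Subgroup X, C ≤ Subgroup.normalizer (K : Set X) ∧ C ⊓ K = ⊥ ∧ K ⊔ C = Subgroup.normalizer (K : Set X) ∧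
        Nonempty (↥C ≃* Matrix.ProjectiveSpecialLinearGroup (Fin 2) F)) := by
  classical
  obtain ⟨e⟩ := hXL
  have h2 := two_zero' hF
  haveI : Fact (Nat.Prime 2) := ⟨Nat.prime_two⟩
  let π₀ : X →* Matrix.ProjectiveSpecialLinearGroup (Fin 3) F :=
    e.toMonoidHom.comp (QuotientGroup.mk' (Subgroup.center X))
  have hπ₀ : Function.Surjective π₀ := e.surjective.comp (QuotientGroup.mk'_surjective _)
  have hker₀ : π₀.ker = Subgroup.center X := by
    ext x
    rw [MonoidHom.mem_ker]
    show e (x : X ⧸ Subgroup.center X) = 1 ↔ _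
    rw [e.map_eq_one_iff, QuotientGroup.eq_one_iff]
  -- the unitriangular group is a Sylow subgroup
  have hcardU : Nat.card (Usub (F := F)) = 2 ^ 6 := by
    rw [card_Usub, Nat.card_eq_fintype_card, hF]; norm_num
  have hUodd : ¬ 2 ∣ (Uimg (F := F)).index := by
    intro hdvd
    have hsl : Nat.card (Matrix.SpecialLinearGroup (Fin 3) F) = 60480 := by
      have hq : Nat.card F = 4 := by rw [Nat.card_eq_fintype_card, hF]
      have h := ClassicalSL.card_sl_mul (ι := Fin 3) (F := F)
      rw [ClassicalSL.card_gl_fin hq, hq] at h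
      norm_num [Fin.prod_univ_three] at h
      rw [Nat.card_eq_fintype_card]
      omega
    have h1 : (Uimg (F := F)).index ∣ (Usub (F := F)).index :=
      Subgroup.index_map_dvd _ (QuotientGroup.mk'_surjective _)
    have h3 := Subgroup.card_mul_index (Usub (F := F))
    rw [hcardU, hsl] at h3
    norm_num at h3
    have : 2 ∣ (Usub (F := F)).index := hdvd.trans h1
    omega
  have hUp : IsPGroup 2 (Uimg (F := F)) := (IsPGroup.of_card hcardU).map _
  obtain ⟨q, hq⟩ := MulAction.exists_smul_eq (Matrix.ProjectiveSpecialLinearGroup (Fin 3) F)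
    (T.mapSurjective hπ₀) (hUp.toSylow hUodd)
  let π := (MulAut.conj q).toMonoidHom.comp π₀
  have hπ : Function.Surjective π := (MulAut.conj q).surjective.comp hπ₀
  have hker : π.ker = Subgroup.center X := by
    rw [← hker₀]
    ext x
    exact (MulAut.conj q).map_eq_one_iff
  have hZc : π.ker ≤ Subgroup.center X := hker.le
  have hZ2 : ∀ z ∈ π.ker, z * z = 1 := fun z hz => by rw [← pow_two]; exact hZ.2 z (hker ▸ hz)
  have key : ∀ A : Subgroup X, A ≤ T → Subgroup.center X ≤ A →
      Cfsg.IsElementaryAbelian 2 (A.map (QuotientGroup.mk' (Subgroup.center X))) →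
      Nat.card ↥(A.map (QuotientGroup.mk' (Subgroup.center X))) = 16 →
      A = (Row (F := F)).comap π ∨ A = (Row (F := F)).comap ((pgraph (F := F)).toMonoidHom.comp π) := by
    intro A hAT hZA hA hA16
    have hmap : A.map π = (A.map (QuotientGroup.mk' (Subgroup.center X))).map
        ((MulAut.conj q).toMonoidHom.comp e.toMonoidHom) := by
      rw [Subgroup.map_map]; rfl
    have hU : A.map π ≤ Uimg := by
      have h' : (hUp.toSylow hUodd : Subgroup (Matrix.ProjectiveSpecialLinearGroup (Fin 3) F)) = Uimg := rfl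
      rw [← h', ← hq]
      rintro _ ⟨a, ha, rfl⟩
      exact ⟨π₀ a, ⟨a, hAT ha, rfl⟩, rfl⟩
    have hsq : ∀ x ∈ A.map π, x * x = 1 := by
      rw [hmap]
      rintro _ ⟨y, hy, rfl⟩
      rw [← map_mul, ← pow_two, hA.2 y hy, map_one]
    have hcard : Nat.card ↥(A.map π) = 16 := by
      rw [hmap, Subgroup.card_map_of_injective ((MulAut.conj q).injective.comp e.injective), hA16]
    have hcomap : A = (A.map π).comap π := (Subgroup.comap_map_eq_self (hker.le.trans hZA)).symm
    have hrow : Nat.card (Row (F := F)) = 16 := by rw [card_row, Nat.card_eq_fintype_card, hF]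
    rcases elementary_in_U h2 hU hsq with h | h
    · left
      conv_lhs => rw [hcomap, Subgroup.eq_of_le_of_card_ge h (by rw [hcard, hrow])]
    · right
      rw [← Subgroup.comap_comap]
      conv_lhs => rw [hcomap, Subgroup.eq_of_le_of_card_ge h (by
        rw [hcard, Nat.card_congr ((pgraph (F := F)).toEquiv.subtypeEquiv (p := fun x => x ∈ (Row (F := F)).comap (pgraph (F := F)).toMonoidHom) (q := fun x => x ∈ Row (F := F)) fun _ => Iff.rfl), hrow])]
  rcases key H hHT hZH hH.1 hH.2 with eH | eH <;> rcases key K hKT hZK hK.1 hK.2 with eK | eK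
  · exact absurd (eH.trans eK.symm) hHK
  · exact of_normal_form hF π hπ hZc hZ2 H K eH eK
  · obtain ⟨a, b, c, d, d'⟩ := of_normal_form hF π hπ hZc hZ2 K H eK eH
    exact ⟨b, a, by rw [inf_comm, sup_comm]; exact c, d', d⟩
  · exact absurd (eH.trans eK.symm) hHK

end Cfsg.Agent.S3154
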