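import Cfsg.Statements.S3155
import Mathlib.LinearAlgebra.Matrix.Determinant.Basic
import Mathlib.Algebra.Module.ZMod
import Mathlib.LinearAlgebra.Matrix.ToLin

set_option autoImplicit false
open Cfsg

namespace Cfsg.Agent.S3155


/-- Let B be the direct product of three cyclic groups of order 4. Then the automorphism of B inverting every element is not the square of any automorphism of B. -/
theorem result {B : Type*} [CommGroup B] [Finite B] (hB : Nonempty (B ≃* Multiplicative (ZMod 4 × ZMod 4 × ZMod 4)))
    (τ : B ≃* B) : τ.trans τ ≠ MulEquiv.inv B := by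
  intro h
  obtain ⟨e⟩ := hB
  let V := Fin 3 → ZMod 4
  let c : Multiplicative (ZMod 4 × ZMod 4 × ZMod 4) ≃* Multiplicative V :=
    AddEquiv.toMultiplicative
      { toFun := fun p => ![p.1, p.2.1, p.2.2]
        invFun := fun v => (v 0, v 1, v 2)
        left_inv := fun p => rfl
        right_inv := fun v => by funext i; fin_cases i <;> rfl
        map_add' := fun p q => by funext i; fin_cases i <;> rfl }
  let d : B ≃* Multiplicative V := e.trans c
  let t : V →+ V := MonoidHom.toAdditive (((d.toMonoidHom.comp τ.toMonoidHom).comp d.symm.toMonoidHom))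
  have ht : ∀ v, t (t v) = -v := by
    intro v
    have h' := DFunLike.congr_fun h (d.symm (Multiplicative.ofAdd v))
    simp only [MulEquiv.trans_apply, MulEquiv.inv_apply] at h'
    have : t (t v) = Multiplicative.toAdd (d (τ (τ (d.symm (Multiplicative.ofAdd v))))) := by
      change Multiplicative.toAdd (d (τ (d.symm (d (τ (d.symm (Multiplicative.ofAdd v))))))) = _
      rw [MulEquiv.symm_apply_apply]
    rw [this, h', map_inv, MulEquiv.apply_symm_apply]
    rfl
  let L : V →ₗ[ZMod 4] V := t.toZModLinearMap 4
  have hL : L.comp L = -LinearMap.id := LinearMap.ext fun v => by simpa [L] using ht v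
  have hdet : LinearMap.toMatrix' L * LinearMap.toMatrix' L = -1 := by
    rw [← LinearMap.toMatrix'_comp, hL, map_neg, LinearMap.toMatrix'_id]
  have hd := congrArg Matrix.det hdet
  rw [Matrix.det_mul, Matrix.det_neg, Matrix.det_one, Fintype.card_fin] at hd
  revert hd
  generalize (LinearMap.toMatrix' L).det = a
  revert a
  decide

end Cfsg.Agent.S3155
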