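import Cfsg.Statements.S3156
import Cfsg.Agent.Lib.SU3Sylow.Embed
import Cfsg.Agent.Lib.SU3Sylow.Auto
import Cfsg.Agent.Lib.AnisoQuad.Solvable

set_option autoImplicit false
open Cfsg

namespace Cfsg.Agent.S3156

open Cfsg.Agent.SU3Sylow Cfsg.Agent.Hermitian

theorem iso_three {F : Type} [Field F] [CharP F 2] [Finite F] {σ : F →+* F} [Inv2 σ]
    (hne : σ ≠ RingHom.id F) (hq : Nat.card (fixed σ) = 4) (A : F ≃+ F)
    (hA : ∀ a, nrm (σ := σ) (A a) = nrm a) (h3 : ∀ a, A (A (A a)) = a) (a : F) : A a = a := by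
  classical
  haveI := Fintype.ofFinite F
  haveI : Fact (Nat.Prime 2) := ⟨Nat.prime_two⟩
  haveI : Fact (Nat.Prime 5) := ⟨by norm_num⟩
  letI : Algebra (ZMod 2) (fixed σ) := ZMod.algebra _ 2
  have hfr : Module.finrank (ZMod 2) (fixed σ) = 2 := by
    have h := Module.natCard_eq_pow_finrank (K := ZMod 2) (V := fixed σ)
    rw [hq, Nat.card_zmod] at h
    exact Nat.pow_right_injective (le_refl 2) (h.symm.trans (by norm_num))
  let e : fixed σ ≃ₗ[ZMod 2] (Fin 2 → ZMod 2) :=
    (Module.finBasisOfFinrankEq (ZMod 2) (fixed σ) hfr).equivFun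
  let Fm : AnisoQuad.Form (Multiplicative F) :=
    { q := fun x => e (nrm x.toAdd)
      b := fun x y => e (trc x.toAdd y.toAdd)
      sq := fun x => CharTwo.add_self_eq_zero x.toAdd
      q_mul := fun x y => by rw [toAdd_mul, nrm_add, map_add, map_add]
      b_left := fun x y z => by
        rw [toAdd_mul, ← map_add e]
        congr 1
        exact Subtype.ext (by simp only [trc_val, Subfield.coe_add, map_add]; ring)
      aniso := fun x hx => toAdd_eq_zero.1
        (nrm_eq_zero (σ := σ) ((LinearEquiv.map_eq_zero_iff e).1 hx)) }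
  have h16 : Fintype.card Fˣ = 15 := by
    rw [Fintype.card_units, ← Nat.card_eq_fintype_card, card_eq_sq hne Inv2.inv2, hq]
    norm_num
  obtain ⟨m, hm⟩ := exists_prime_orderOf_dvd_card (G := Fˣ) 5 (by rw [h16]; norm_num)
  have hm5 : (m : F) ^ 5 = 1 := by
    rw [← Units.val_pow_eq_pow_val, ← hm, pow_orderOf_eq_one, Units.val_one]
  let M : F ≃+ F :=
    { toFun := fun x => (m : F) * x
      invFun := fun x => (↑m⁻¹ : F) * x
      left_inv := fun x => by simp
      right_inv := fun x => by simp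
      map_add' := fun x y => mul_add _ _ _ }
  let s : MulAut (Multiplicative F) := M.toMultiplicative
  let t : MulAut (Multiplicative F) := A.toMultiplicative
  have hs : ∀ x, Fm.q (s x) = Fm.q x := fun x => by
    show e (nrm ((m : F) * x.toAdd)) = e (nrm x.toAdd)
    congr 1
    refine Subtype.ext ?_
    have h4 : σ (m : F) = (m : F) ^ 4 := by rw [apply_eq_pow hne Inv2.inv2, hq]
    simp only [nrm_val, map_mul, h4]
    linear_combination (x.toAdd * σ x.toAdd) * hm5
  have hs5 : s ^ 5 = 1 := MulEquiv.ext fun x => by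
    show (m : F) * ((m : F) * ((m : F) * ((m : F) * ((m : F) * x.toAdd)))) = x.toAdd
    linear_combination x.toAdd * hm5
  have hs1 : s ≠ 1 := fun h => by
    have h1 : (m : F) * 1 = 1 := congrArg (fun f : MulAut (Multiplicative F) =>
      (f (Multiplicative.ofAdd 1)).toAdd) h
    rw [mul_one] at h1
    rw [Units.val_eq_one.1 h1, orderOf_one] at hm
    norm_num at hm
  have ht := AnisoQuad.not_three_five Fm (σ := s) (τ := t) hs hs5 hs1
    (fun x => congrArg e (hA x.toAdd)) (MulEquiv.ext fun x => h3 x.toAdd)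
  exact congrArg (fun f : MulAut (Multiplicative F) => (f (Multiplicative.ofAdd a)).toAdd) ht

theorem key {F : Type} [Field F] [CharP F 2] [Finite F] {σ : F →+* F} [Inv2 σ]
    (hne : σ ≠ RingHom.id F) (hq : Nat.card (fixed σ) = 4)
    (x r : MulAut (Heis σ)) (hx : x * x = 1) (hr : r * r * r = 1)
    (hxr : x * r * x = r * r) : r = 1 := by
  have hfx : ∀ z : Heis σ, z ∈ Subgroup.center (Heis σ) → x z = z := fun z hz =>
    Heis.fix_center_of_sq hne x (fun y => by rw [← MulAut.mul_apply, hx]; rfl) hz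
  have hcen : ∀ (φ : MulAut (Heis σ)) (z : Heis σ),
      z ∈ Subgroup.center (Heis σ) → φ z ∈ Subgroup.center (Heis σ) := fun φ z hz => by
    rw [Subgroup.mem_center_iff]
    intro w
    rw [← φ.apply_symm_apply w, ← map_mul, ← map_mul, Subgroup.mem_center_iff.1 hz]
  have hfr : ∀ z : Heis σ, z ∈ Subgroup.center (Heis σ) → r z = z := fun z hz => by
    have h1 : r (r z) = r z := by
      calc r (r z) = (r * r) z := rfl
        _ = x (r (x z)) := by rw [← hxr]; rfl
        _ = r z := by rw [hfx z hz, hfx _ (hcen r z hz)]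
    exact r.injective h1
  obtain ⟨P, hA, hB⟩ := Heis.exists_pair hne r
  have hBid : ∀ c, P.B c = c := fun c => Subtype.ext (congrArg Heis.b
    ((hB c).symm.trans (hfr _ ((Heis.mem_center_iff hne _).2 rfl))))
  have h3 : ∀ a, P.A (P.A (P.A a)) = a := fun a => by
    obtain ⟨y, rfl⟩ := Heis.exists_mk (σ := σ) hne a
    rw [← hA, ← hA, ← hA, ← MulAut.mul_apply, ← MulAut.mul_apply, hr]
    rfl
  have hAid : ∀ a, P.A a = a :=
    iso_three hne hq P.A (fun a => by rw [← P.comp, hBid]) h3
  have hmem : r ∈ Heis.fixQuot (σ := σ) := fun y => by rw [hA, hAid]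
  have h2 := Heis.fixQuot_mul_self hne hmem
  rwa [h2, one_mul] at hr

/-- If a finite group T is isomorphic to a Sylow 2-subgroup of the projective special unitary group of dimension 3 with parameter 4 (realised over the field with 16 elements), then no subgroup of the automorphism group of T is isomorphic to the symmetric group of degree 3. -/
theorem result {T : Type*} [Group T] [Finite T] (hT : (∃ (F : Type) (_ : Field F) (_ : Fintype F), Fintype.card F = 16 ∧ ∃ S : Sylow 2 (Cfsg.PSU 3 F 4), Nonempty (T ≃* ↥(S : Subgroup (Cfsg.PSU 3 F 4))))) (H : Subgroup (MulAut T)) : ¬ Nonempty (↥H ≃* Equiv.Perm (Fin 3)) := by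
  rintro ⟨f⟩
  obtain ⟨F, _, _, hF, S, ⟨e⟩⟩ := hT
  obtain ⟨_, σ, _, hne, hσ, hq⟩ := setup (F := F) (n := 2) (by norm_num) (by rw [hF]; norm_num)
  obtain ⟨e'⟩ := sylow_PSU_equiv hne (n := 2) (by norm_num) hσ hq S
  let Φ : ↥H →* MulAut (Heis σ) := (MulAut.congr (e.trans e')).toMonoidHom.comp H.subtype
  have hΦ : Function.Injective Φ := (MulAut.congr (e.trans e')).injective.comp H.subtype_injective
  let a : Equiv.Perm (Fin 3) := Equiv.swap 0 1
  let b : Equiv.Perm (Fin 3) := Equiv.swap 0 1 * Equiv.swap 1 2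
  have h := key hne (by rw [hq]; norm_num) (Φ (f.symm a)) (Φ (f.symm b))
    (by rw [← map_mul, ← map_mul, show a * a = 1 by decide, map_one, map_one])
    (by rw [← map_mul, ← map_mul, ← map_mul, ← map_mul, show b * b * b = 1 by decide, map_one, map_one])
    (by rw [← map_mul, ← map_mul, ← map_mul, ← map_mul, ← map_mul, ← map_mul, show a * b * a = b * b by decide])
  have hb : f.symm b = 1 := hΦ (h.trans (map_one Φ).symm)
  exact absurd ((MulEquiv.map_eq_one_iff f.symm).1 hb) (by decide)

end Cfsg.Agent.S3156
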