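import Cfsg.Statements.S3158

set_option autoImplicit false
open Cfsg

namespace Cfsg.Agent.S3158

lemma c_mul_left {U : Type*} [Group U] (u1 u2 w : U)
    (h : ∀ a : U, u2 * w * u2⁻¹ * w⁻¹ * a = a * (u2 * w * u2⁻¹ * w⁻¹)) :
    (u1 * u2) * w * (u1 * u2)⁻¹ * w⁻¹ = (u2 * w * u2⁻¹ * w⁻¹) * (u1 * w * u1⁻¹ * w⁻¹) := by
  have : (u1 * u2) * w * (u1 * u2)⁻¹ * w⁻¹ = u1 * (u2 * w * u2⁻¹ * w⁻¹) * (w * u1⁻¹ * w⁻¹) := by group
  rw [this, ← h u1]; group


/-- Let U be a group of order q² with q = 2^n ≥ 2, and y an automorphism of U of order q − 1 all of whose nontrivial powers fix only the identity. Let V be a proper normal y-invariant subgroup of U such that V and U/V are elementary abelian 2-groups and there is an isomorphism from V to U/V commuting with the actions of y. Then U is abelian. -/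
theorem result {U : Type*} [Group U] [Finite U] (n : ℕ) (hn : 1 ≤ n) (hU : Nat.card U = (2 ^ n) ^ 2)
    (y : MulAut U) (hy : orderOf y = 2 ^ n - 1) (hfp : ∀ k : ℕ, y ^ k ≠ 1 → ∀ u : U, (y ^ k) u = u → u = 1)
    (V : Subgroup U) [V.Normal] (hV : V ≠ ⊤) (hyV : ∀ v ∈ V, y v ∈ V)
    (hVe : ∀ v ∈ V, v ^ 2 = 1) (hQe : ∀ u : U, u ^ 2 ∈ V) (hQc : ∀ u w : U, u * w * u⁻¹ * w⁻¹ ∈ V)
    (φ : ↥V ≃* U ⧸ V) (hφ : ∀ (v : ↥V) (u : U), (QuotientGroup.mk u : U ⧸ V) = φ v → φ ⟨y v, hyV v v.2⟩ = QuotientGroup.mk (y u)) :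
    IsMulCommutative U := by
  classical
  have h2q : 1 ≤ 2 ^ n := Nat.one_le_two_pow
  have hq2 : 2 ≤ 2 ^ n := by calc 2 = 2^1 := rfl
    _ ≤ 2^n := Nat.pow_le_pow_right (by norm_num) hn
  have hcardV : Nat.card ↥V = 2 ^ n := by
    have h1 := V.card_eq_card_quotient_mul_card_subgroup
    rw [← Nat.card_congr φ.toEquiv, hU, pow_two] at h1
    exact (Nat.mul_self_inj.mp h1).symm
  have hyk : ∀ k : ℕ, ∀ v ∈ V, (y ^ k) v ∈ V := by
    intro k; induction k with
    | zero => intro v hv; simpa using hv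
    | succ k ih => intro v hv; rw [pow_succ', MulAut.mul_apply]; exact hyV _ (ih v hv)
  have hVinv : ∀ v ∈ V, v⁻¹ = v := fun v hv => by
    rw [inv_eq_iff_mul_eq_one, ← pow_two]; exact hVe v hv
  obtain ⟨v0, hv0, hv01⟩ : ∃ v0 ∈ V, v0 ≠ 1 := by
    by_contra hc; push_neg at hc
    have : V = ⊥ := (Subgroup.eq_bot_iff_forall V).mpr hc
    rw [this, Subgroup.card_bot] at hcardV; omega
  -- transitivity on V
  have trans : ∀ v0 ∈ V, v0 ≠ 1 → ∀ v ∈ V, v ≠ 1 → ∃ j : ℕ, v = (y ^ j) v0 := by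
    intro v0 hv0 hv01 v hv hv1
    let f : Fin (2 ^ n - 1) → {v : ↥V // v ≠ 1} := fun i =>
      ⟨⟨(y ^ (i : ℕ)) v0, hyk _ v0 hv0⟩, fun h => hv01 (by
        have := congrArg Subtype.val h
        exact (MulEquiv.map_eq_one_iff (y ^ (i : ℕ))).mp this)⟩
    have hle : ∀ i j : Fin (2 ^ n - 1), (i : ℕ) ≤ j → f i = f j → i = j := by
      intro i j hij h
      have h' : (y ^ (i : ℕ)) v0 = (y ^ (j : ℕ)) v0 := congrArg (fun x => ((x.1 : ↥V) : U)) h
      have e : (j : ℕ) = (i : ℕ) + ((j : ℕ) - i) := by omega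
      rw [e, pow_add, MulAut.mul_apply] at h'
      have h'' := (y ^ (i : ℕ)).injective h'
      by_contra hne
      have h1 : y ^ ((j : ℕ) - i) = 1 := by
        by_contra h1; exact hv01 (hfp _ h1 v0 h''.symm)
      have := orderOf_dvd_of_pow_eq_one h1
      rw [hy] at this
      have h0 : 0 < (j : ℕ) - i := by
        rcases Nat.eq_zero_or_pos ((j : ℕ) - i) with h | h
        · exact absurd (Fin.ext (by omega)) hne
        · exact h
      have := Nat.le_of_dvd h0 this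
      have := j.isLt; omega
    have hinj : Function.Injective f := by
      intro i j h
      rcases le_total (i : ℕ) j with hl | hl
      · exact hle i j hl h
      · exact (hle j i hl h.symm).symm
    have hbij : Function.Bijective f := by
      haveI := Fintype.ofFinite ↥V
      refine (Fintype.bijective_iff_injective_and_card f).mpr ⟨hinj, ?_⟩
      rw [Fintype.card_fin, Fintype.card_subtype_compl, Fintype.card_subtype_eq, Fintype.card_eq_nat_card, hcardV]
    obtain ⟨i, hi⟩ := hbij.2 ⟨⟨v, hv⟩, fun h => hv1 (congrArg Subtype.val h)⟩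
    exact ⟨i, (congrArg (fun x => ((x.1 : ↥V) : U)) hi).symm⟩
  -- V central
  haveI : Fact (Nat.Prime 2) := ⟨Nat.prime_two⟩
  have hp : IsPGroup 2 U := IsPGroup.of_card (by rw [hU, ← pow_mul] : Nat.card U = 2 ^ (n * 2))
  have hVZ : ∀ v ∈ V, ∀ a : U, a * v = v * a := by
    obtain ⟨z, hzV, hzZ, hz1⟩ : ∃ z ∈ V, z ∈ Subgroup.center U ∧ z ≠ 1 := by
      let act : MulAction (ConjAct U) ↥V := inferInstance
      have hpC : IsPGroup 2 (ConjAct U) := hp.of_equiv ConjAct.toConjAct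
      have hdvd : 2 ∣ Nat.card ↥V := by rw [hcardV]; exact dvd_pow_self 2 (by omega)
      have h1 : (1 : ↥V) ∈ MulAction.fixedPoints (ConjAct U) ↥V := by
        intro g; exact smul_one g
      obtain ⟨z, hzfix, hz⟩ := hpC.exists_fixed_point_of_prime_dvd_card_of_fixed_point _ hdvd h1
      refine ⟨(z : U), z.2, ?_, fun h => hz (Subtype.ext h.symm)⟩
      rw [Subgroup.mem_center_iff]
      intro g
      have h := congrArg Subtype.val (hzfix (ConjAct.toConjAct g))
      rw [ConjAct.Subgroup.val_conj_smul, ConjAct.smul_def, ConjAct.ofConjAct_toConjAct] at h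
      exact mul_inv_eq_iff_eq_mul.mp h
    intro v hv a
    by_cases hv1 : v = 1
    · simp [hv1]
    obtain ⟨j, rfl⟩ := trans z hzV hz1 v hv hv1
    obtain ⟨b, rfl⟩ := (y ^ j).surjective a
    rw [← map_mul, ← map_mul, Subgroup.mem_center_iff.mp hzZ b]
  -- commutator map
  let c : U → U → U := fun u w => u * w * u⁻¹ * w⁻¹
  have hcc : ∀ u w a, c u w * a = a * c u w := fun u w a => (hVZ _ (hQc u w) a).symm
  have hcl : ∀ u1 u2 w, c (u1 * u2) w = c u2 w * c u1 w := fun u1 u2 w =>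
    c_mul_left u1 u2 w (hcc u2 w)
  have hcswap : ∀ u w, c w u = c u w := by
    intro u w
    rw [← hVinv (c u w) (hQc u w)]
    show w * u * w⁻¹ * u⁻¹ = (u * w * u⁻¹ * w⁻¹)⁻¹
    group
  have hcr : ∀ u w1 w2, c u (w1 * w2) = c u w2 * c u w1 := fun u w1 w2 => by
    rw [hcswap (w1 * w2), hcl, hcswap u w1, hcswap u w2]
  have hcV : ∀ v ∈ V, ∀ w, c v w = 1 := by
    intro v hv w
    show v * w * v⁻¹ * w⁻¹ = 1
    rw [← hVZ v hv w]; group
  have hcy : ∀ (k : ℕ) u w, (y ^ k) (c u w) = c ((y ^ k) u) ((y ^ k) w) := by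
    intro k u w; simp [c]
  -- transfer to U/V
  have hφk : ∀ (k : ℕ) (v : ↥V) (u : U), (QuotientGroup.mk u : U ⧸ V) = φ v →
      φ ⟨(y ^ k) v, hyk k v v.2⟩ = QuotientGroup.mk ((y ^ k) u) := by
    intro k; induction k with
    | zero => intro v u h; simpa using h.symm
    | succ k ih =>
      intro v u h
      have := hφ ⟨(y ^ k) v, hyk k v v.2⟩ ((y ^ k) u) (ih v u h).symm
      rw [show (y ^ (k + 1)) u = y ((y ^ k) u) by rw [pow_succ', MulAut.mul_apply], ← this]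
      exact congrArg φ (Subtype.ext (by simp [pow_succ']))
  have key : ∀ k : ℕ, ∀ u w, c u ((y ^ k) w) = c ((y ^ k) u) w := by
    intro k u w
    by_cases hk : y ^ k = 1
    · simp [hk]
    have hne : (y ^ k) v0 * v0 ≠ 1 := fun h => by
      rw [mul_eq_one_iff_eq_inv, hVinv v0 hv0] at h
      exact hv01 (hfp k hk v0 h)
    obtain ⟨m, hm⟩ := trans v0 hv0 hv01 _ (V.mul_mem (hyk k v0 hv0) hv0) hne
    have hmV : ∀ v ∈ V, (y ^ k) v * v = (y ^ m) v := by
      intro v hv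
      by_cases hv1 : v = 1
      · simp [hv1]
      obtain ⟨j, rfl⟩ := trans v0 hv0 hv01 v hv hv1
      have e : ∀ i : ℕ, (y ^ i) ((y ^ j) v0) = (y ^ j) ((y ^ i) v0) := fun i => by
        rw [← MulAut.mul_apply, ← MulAut.mul_apply, ← pow_add, ← pow_add, add_comm]
      rw [e, e, ← map_mul, hm]
    have hmQ : ∀ u : U, ∃ z ∈ V, (y ^ k) u * u = (y ^ m) u * z := by
      intro u
      obtain ⟨v, hv⟩ := φ.surjective (QuotientGroup.mk u : U ⧸ V)
      have e1 := hφk k v u hv.symm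
      have e2 := hφk m v u hv.symm
      have e3 : (⟨(y ^ k) v, hyk k v v.2⟩ : ↥V) * v = ⟨(y ^ m) v, hyk m v v.2⟩ :=
        Subtype.ext (hmV v v.2)
      have e4 : (QuotientGroup.mk ((y ^ k) u * u) : U ⧸ V) = QuotientGroup.mk ((y ^ m) u) := by
        rw [QuotientGroup.mk_mul, ← e1, ← hv, ← map_mul, e3, e2]
      refine ⟨((y ^ m) u)⁻¹ * ((y ^ k) u * u), QuotientGroup.eq.mp e4.symm, by group⟩
    obtain ⟨z1, hz1, e1⟩ := hmQ u
    obtain ⟨z2, hz2, e2⟩ := hmQ w
    have hcVr : ∀ v ∈ V, ∀ a, c a v = 1 := fun v hv a => by rw [hcswap v a]; exact hcV v hv a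
    have L : c ((y ^ k) u * u) ((y ^ k) w * w) = (y ^ m) (c u w) := by
      rw [e1, e2, hcl, hcV z1 hz1, one_mul, hcr, hcVr z2 hz2, one_mul, hcy]
    rw [hcl, hcr, hcr, ← hcy, ← hmV _ (hQc u w)] at L
    set P := c u ((y ^ k) w)
    set R := c u w
    set Q := c ((y ^ k) u) w
    set Y := (y ^ k) R
    have L' : (P * Q) * (Y * R) = 1 * (Y * R) := by
      rw [one_mul]
      calc (P * Q) * (Y * R) = R * P * (Q * Y) := by
            rw [show Y * R = R * Y from hVZ R (hQc u w) Y,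
              mul_assoc P Q, ← mul_assoc Q R, (hcc u w Q).symm, mul_assoc R Q Y,
              ← mul_assoc P R, (hcc u w P).symm]
        _ = Y * R := L
    have hPQ : P * Q = 1 := mul_right_cancel L'
    rw [mul_eq_one_iff_eq_inv] at hPQ
    rw [hPQ, hVinv Q (hQc _ _)]
  refine ⟨⟨fun u w => ?_⟩⟩
  have hmain : c u w = 1 := by
    by_cases hu : u ∈ V
    · exact hcV u hu w
    by_cases hw : w ∈ V
    · rw [hcswap]; exact hcV w hw u
    obtain ⟨vu, hvu⟩ := φ.surjective (QuotientGroup.mk u : U ⧸ V)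
    obtain ⟨vw, hvw⟩ := φ.surjective (QuotientGroup.mk w : U ⧸ V)
    have hu1 : (vu : U) ≠ 1 := fun h => hu (by
      rw [← QuotientGroup.eq_one_iff, ← hvu, show vu = 1 from Subtype.ext h, map_one])
    have hw1 : (vw : U) ≠ 1 := fun h => hw (by
      rw [← QuotientGroup.eq_one_iff, ← hvw, show vw = 1 from Subtype.ext h, map_one])
    obtain ⟨j, hj⟩ := trans vu vu.2 hu1 vw vw.2 hw1
    have hj' : (QuotientGroup.mk ((y ^ j) u) : U ⧸ V) = QuotientGroup.mk w := by
      rw [← hvw, ← hφk j vu u hvu.symm]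
      exact congrArg φ (Subtype.ext hj.symm)
    set z := ((y ^ j) u)⁻¹ * w
    have hz : z ∈ V := QuotientGroup.eq.mp hj'
    have hw' : w = (y ^ j) u * z := by simp [z]
    rw [hw', hcr, hcswap z u, hcV z hz, one_mul]
    have e : y ^ j = y ^ (j * 2 ^ (n - 1)) * y ^ (j * 2 ^ (n - 1)) := by
      have hs : (2 : ℕ) ^ n = 2 * 2 ^ (n - 1) := by
        conv_lhs => rw [show n = (n - 1) + 1 by omega, pow_succ']
      rw [← pow_add, ← two_mul, show 2 * (j * 2 ^ (n - 1)) = j * 2 ^ n by rw [hs]; ring]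
      rw [show j * 2 ^ n = j + (2 ^ n - 1) * j by
        have : (2 ^ n - 1) * j + 1 * j = 2 ^ n * j := by rw [← Nat.add_mul, Nat.sub_add_cancel h2q]
        rw [mul_comm j (2 ^ n)]; omega]
      rw [pow_add, pow_mul, ← hy, pow_orderOf_eq_one, one_pow, mul_one]
    rw [e, MulAut.mul_apply, key]
    show _ * _ * _⁻¹ * _⁻¹ = (1 : U)
    group
  have := mul_inv_eq_one.mp hmain
  exact mul_inv_eq_iff_eq_mul.mp this

end Cfsg.Agent.S3158
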