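import Cfsg.Statements.S3161
import Cfsg.Agent.Lib.LSType.Coordinates
import Cfsg.Agent.Lib.LSType.Models
-- import your own Cfsg.Agent.* helpers here

set_option autoImplicit false
open Cfsg

namespace Cfsg.Agent.S3161

/-- Let Q be a non-abelian finite 2-group admitting commuting automorphisms α of order 2 and ρ of order 2^n − 1, where n ≥ 2, such that the fixed points of α form an elementary abelian subgroup of order 2^n on whose nonidentity elements the group generated by ρ acts transitively. Then Q is isomorphic to a Sylow 2-subgroup of the projective special unitary group of dimension 3 with parameter 2^n (realised over the field with 4^n elements) or of the projective special linear group of dimension 3 over the field with 2^n elements. -/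
theorem result {Q : Type*} [Group Q] [Finite Q] (hQ : IsPGroup 2 Q) (hna : ¬ IsMulCommutative Q) (n : ℕ) (hn : 2 ≤ n)
    (α ρ : MulAut Q) (hα : orderOf α = 2) (hρ : orderOf ρ = 2 ^ n - 1) (hc : Commute α ρ)
    (C : Subgroup Q) (hC : ∀ x : Q, x ∈ C ↔ α x = x) (hCE : Cfsg.IsElementaryAbelian 2 C ∧ Nat.card ↥C = 2 ^ n)
    (htr : ∀ x y : Q, x ∈ C → y ∈ C → x ≠ 1 → y ≠ 1 → ∃ k : ℕ, (ρ ^ k) x = y) :
    (∃ (F : Type) (_ : Field F) (_ : Fintype F), Fintype.card F = 4 ^ n ∧
        ∃ S : Sylow 2 (Cfsg.PSU 3 F (2 ^ n)), Nonempty (Q ≃* ↥(S : Subgroup (Cfsg.PSU 3 F (2 ^ n))))) ∨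
      (∃ (F : Type) (_ : Field F) (_ : Fintype F), Fintype.card F = 2 ^ n ∧
        ∃ S : Sylow 2 (Matrix.ProjectiveSpecialLinearGroup (Fin 3) F), Nonempty (Q ≃* ↥(S : Subgroup (Matrix.ProjectiveSpecialLinearGroup (Fin 3) F)))) := by
  classical
  have hcomm : ∀ x, α (ρ x) = ρ (α x) := fun x => DFunLike.congr_fun (hc : α * ρ = ρ * α) x
  have hinv : ∀ x, α (α x) = x := fun x => by
    have e := pow_orderOf_eq_one α
    rw [hα, pow_two] at e
    exact DFunLike.congr_fun e x
  let H : Cfsg.Agent.LSType.Hyp Q n :=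
    { α := α, ρ := ρ, comm := hcomm, invol := hinv
      per := by rw [← hρ]; exact pow_orderOf_eq_one ρ
      pgroup := hQ
      finite := inferInstance
      two_le := hn
      card_fix := by
        rw [← hCE.2]
        exact Nat.card_congr (Equiv.subtypeEquivRight fun x => (hC x).symm)
      fix_sq := fun x hx => by
        have e := hCE.1.2 x ((hC x).2 hx)
        rwa [pow_two] at e
      trans := fun x y hx hy => htr x y ((hC x).2 hx) ((hC y).2 hy) }
  obtain ⟨F, _, _, _, hF, ⟨K⟩⟩ := Cfsg.Agent.LSType.exists_coord H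
  have hna' : ∃ x y : Q, x * y ≠ y * x := by
    by_contra h
    simp only [not_exists, not_not] at h
    exact hna ⟨⟨h⟩⟩
  rcases Cfsg.Agent.LSType.comm_or_shape _ H rfl with h | h
  · obtain ⟨x, y, hxy⟩ := hna'
    exact absurd (h x y) hxy
  obtain ⟨π, iP, s, A, c, B, hπ, hi, hk, hcen, hsq, hc0, hform⟩ :=
    Cfsg.Agent.LSType.exists_square_form H K h hna'
  by_cases hiso : ∃ a b : F, (a ≠ 0 ∨ b ≠ 0) ∧ A * a ^ 2 + c * (a * b) + B * b ^ 2 = 0
  · right
    obtain ⟨θ, hθ⟩ := Cfsg.Agent.LSType.split_form hc0 hiso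
    obtain ⟨e⟩ := Cfsg.Agent.LSType.iso_usub π iP hπ hi hk hcen s hsq hc0 θ
      (fun v => (hform v).trans (hθ v))
    obtain ⟨S⟩ : Nonempty (Sylow 2 (Matrix.ProjectiveSpecialLinearGroup (Fin 3) F)) := inferInstance
    obtain ⟨f⟩ := Cfsg.Agent.LSType.sylow_psl (by omega) hF S
    exact ⟨F, inferInstance, inferInstance, hF, S, ⟨e.trans f.symm⟩⟩
  · left
    have hiso' : ∀ a b : F, A * a ^ 2 + c * (a * b) + B * b ^ 2 = 0 → a = 0 ∧ b = 0 :=
      fun a b e => by
        by_contra hne
        exact hiso ⟨a, b, not_and_or.1 hne, e⟩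
    haveI : Fact (Nat.Prime 2) := ⟨Nat.prime_two⟩
    let E := GaloisField 2 (n * 2)
    letI : Fintype E := Fintype.ofFinite E
    have hE : Fintype.card E = (2 ^ n) ^ 2 := by
      rw [← Nat.card_eq_fintype_card, ← pow_mul]
      exact GaloisField.card 2 (n * 2) (by omega)
    obtain ⟨_, σ, _, hne, hσ, hq⟩ := Cfsg.Agent.SU3Sylow.setup (F := E) (n := n) (by omega) hE
    haveI : Fintype (Hermitian.fixed σ) := Fintype.ofFinite _
    let j : F ≃+* Hermitian.fixed σ := FiniteField.ringEquivOfCardEq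
      (hF.trans (hq.symm.trans Nat.card_eq_fintype_card))
    obtain ⟨θ, κ, hκ, hθ⟩ := Cfsg.Agent.LSType.norm_form hne j
      (by rw [Nat.card_eq_fintype_card, Nat.card_eq_fintype_card, hE, hF, pow_two]) hc0 hiso'
    obtain ⟨e⟩ := Cfsg.Agent.LSType.iso_heis hne j π iP hπ hi hk hcen s hsq θ hκ
      (fun v => by rw [hform]; exact hθ v)
    obtain ⟨S⟩ : Nonempty (Sylow 2 (Cfsg.PSU 3 E (2 ^ n))) := inferInstance
    obtain ⟨f⟩ := Cfsg.Agent.SU3Sylow.sylow_PSU_equiv hne (by omega) hσ hq S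
    refine ⟨E, inferInstance, inferInstance, ?_, S, ⟨e.trans f.symm⟩⟩
    rw [hE, ← pow_mul, mul_comm, pow_mul]
    norm_num

end Cfsg.Agent.S3161
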