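import Cfsg.Statements.S3162
import Cfsg.Agent.Lib.SU3Sylow.Embed
import Cfsg.Agent.Lib.SU3Sylow.AutStructure

set_option autoImplicit false
open Cfsg

namespace Cfsg.Agent.S3162

open Cfsg.Agent.SU3Sylow

theorem pCore_congr {G H : Type*} [Group G] [Group H] (e : G ≃* H) :
    (Cfsg.pCore 2 G).map e.toMonoidHom = Cfsg.pCore 2 H := by
  refine le_antisymm ?_ (sSup_le fun N hN => ?_)
  · rw [Subgroup.map_le_iff_le_comap]
    refine sSup_le fun N hN => ?_
    rw [← Subgroup.map_le_iff_le_comap]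
    exact le_sSup ⟨hN.1.map _ e.surjective, hN.2.map _⟩
  · intro x hx
    refine ⟨e.symm x, ?_, e.apply_symm_apply x⟩
    have h1 : N.map e.symm.toMonoidHom ≤ Cfsg.pCore 2 G :=
      le_sSup ⟨hN.1.map _ e.symm.surjective, hN.2.map _⟩
    exact h1 ⟨x, hx, rfl⟩

/-- Let S be a Sylow 2-subgroup of the special unitary group of dimension 3 with parameter q = 2^n (n ≥ 2; realised over the field with q² elements). Then the largest normal 2-subgroup of the automorphism group of S is elementary abelian of order 2^(2n²), and the automorphism group has order 2^(2n²) · 2n(q² − 1). -/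
theorem result {S : Type*} [Group S] [Finite S] (n : ℕ) (hn : 2 ≤ n) {F : Type*} [Field F] [Fintype F] (hF : Fintype.card F = 4 ^ n)
    (P : Sylow 2 ↥(Cfsg.SU 3 F (2 ^ n))) (hS : Nonempty (S ≃* ↥(P : Subgroup ↥(Cfsg.SU 3 F (2 ^ n))))) :
    Cfsg.IsElementaryAbelian 2 (Cfsg.pCore 2 (MulAut S)) ∧ Nat.card ↥(Cfsg.pCore 2 (MulAut S)) = 2 ^ (2 * n ^ 2) ∧
      Nat.card (MulAut S) = 2 ^ (2 * n ^ 2) * (2 * n * ((2 ^ n) ^ 2 - 1)) := by
  obtain ⟨_, σ, _, hne, hσ, hq⟩ := setup (n := n) (by omega)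
    (by rw [hF, ← pow_mul, mul_comm, pow_mul]; norm_num)
  obtain ⟨e⟩ := sylow_SU_equiv hne (by omega) hσ hq P
  obtain ⟨e'⟩ := hS
  let E := MulAut.congr (e'.trans e)
  have hcore : (Cfsg.pCore 2 (MulAut S)).map E.toMonoidHom = Heis.fixQuot := by
    rw [pCore_congr E, Heis.pCore_eq hne]
  refine ⟨?_, ?_, ?_⟩
  · obtain ⟨⟨⟨hc⟩⟩, h2⟩ := Heis.fixQuot_elementary hne
    have hmem : ∀ a ∈ Cfsg.pCore 2 (MulAut S), E a ∈ Heis.fixQuot (σ := σ) := fun a ha =>
      hcore ▸ Subgroup.mem_map_of_mem _ ha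
    refine ⟨⟨⟨fun a b => ?_⟩⟩, fun a ha => E.injective ?_⟩
    · refine Subtype.ext (E.injective ?_)
      have h := congrArg Subtype.val (hc ⟨_, hmem a.1 a.2⟩ ⟨_, hmem b.1 b.2⟩)
      simpa [map_mul] using h
    · rw [map_pow, map_one, h2 _ (hmem a ha)]
  · rw [← Nat.card_congr (Subgroup.equivMapOfInjective _ E.toMonoidHom E.injective).symm.toEquiv,
      hcore, Heis.card_fixQuot hne hq]
  · rw [Nat.card_congr E.toEquiv, Heis.card_mulAut hne hq]

end Cfsg.Agent.S3162
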