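import Cfsg.Statements.S3163
import Mathlib.GroupTheory.Index

set_option autoImplicit false
open Cfsg

namespace Cfsg.Agent.S3163

theorem card_centralizer_le {S : Type*} [Group S] [Finite S] (A B : Subgroup S)
    (hcB : ∀ a ∈ A, ∀ b ∈ B, a * b = b * a → a ∈ B ∨ b ∈ A)
    (hcA : ∀ a ∈ A, ∀ a' ∈ A, a * a' = a' * a) (hcB' : ∀ a ∈ B, ∀ a' ∈ B, a * a' = a' * a)
    (hAB : ∀ s : S, ∃ a ∈ A, ∃ b ∈ B, s = a * b) (x : S) (hxA : x ∉ A) (hxB : x ∉ B) :
    Nat.card ↥(Subgroup.centralizer ({x} : Set S)) ≤ Nat.card ↥A := by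
  set C := Subgroup.centralizer ({x} : Set S)
  obtain ⟨a, ha, b, hb, hx⟩ := hAB x
  have haB : a ∉ B := fun h => hxB (hx ▸ B.mul_mem h hb)
  have hCB : C ⊓ B ≤ A ⊓ B := by
    rintro c ⟨hc, hcb⟩
    refine ⟨?_, hcb⟩
    have h1 : c * x = x * c := Subgroup.mem_centralizer_singleton_iff.mp hc
    rw [hx] at h1
    have h2 : a * c = c * a := by
      have h3 : b * c = c * b := hcB' b hb c hcb
      have : c * a * b = a * c * b := by rw [mul_assoc, h1, mul_assoc, h3, ← mul_assoc]
      exact (mul_right_cancel this).symm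
    rcases hcB a ha c hcb h2 with h | h
    · exact absurd h haB
    · exact h
  have h1 : Nat.card ↥(B.subgroupOf C) * B.relIndex C = Nat.card ↥C := by
    rw [mul_comm]; exact Subgroup.index_mul_card _
  have h2 : Nat.card ↥(B.subgroupOf A) * B.relIndex A = Nat.card ↥A := by
    rw [mul_comm]; exact Subgroup.index_mul_card _
  have h3 : B.relIndex C ≤ B.relIndex A := by
    refine le_trans (Subgroup.relIndex_le_of_le_right le_top ?_) ?_
    · rw [Subgroup.relIndex_top_right]; exact Subgroup.index_ne_zero_of_finite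
    rw [Subgroup.relIndex_top_right]
    refine Nat.card_le_card_of_surjective (Quotient.map' (fun a : ↥A => (a : S)) ?_) ?_
    · intro u v huv
      rw [QuotientGroup.leftRel_apply] at huv ⊢
      exact huv
    · intro q
      induction q using QuotientGroup.induction_on with
      | _ s =>
        obtain ⟨a', ha', b', hb', rfl⟩ := hAB s
        refine ⟨QuotientGroup.mk (⟨a', ha'⟩ : ↥A), ?_⟩
        show (QuotientGroup.mk a' : S ⧸ B) = QuotientGroup.mk (a' * b')
        rw [QuotientGroup.eq]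
        simpa using hb'
  have h4 : Nat.card ↥(B.subgroupOf C) ≤ Nat.card ↥(B.subgroupOf A) := by
    refine Nat.card_le_card_of_injective (fun c => ⟨⟨((c : ↥C) : S), (hCB ⟨(c : ↥C).2, c.2⟩).1⟩, c.2⟩) ?_
    intro u v h
    exact Subtype.ext (Subtype.ext (congrArg (fun z : ↥(B.subgroupOf A) => ((z : ↥A) : S)) h :))
  calc Nat.card ↥C = _ := h1.symm
    _ ≤ _ := Nat.mul_le_mul h4 h3
    _ = _ := h2


/-- Let S be a non-abelian finite 2-group which is the product S = AB of two elementary abelian subgroups A and B, and suppose that the centralizer in S of every element of A outside B is exactly A. Then the centralizer of every element of B outside A is exactly B; A and B are maximal elementary abelian subgroups of S and the only ones; the centre of S is A ∩ B; and every element of S outside A ∪ B has centralizer of order at most min(|A|, |B|). -/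
theorem result {S : Type*} [Group S] [Finite S] (hS : IsPGroup 2 S) (hna : ¬ IsMulCommutative S) (A B : Subgroup S)
    (hA : Cfsg.IsElementaryAbelian 2 A) (hB : Cfsg.IsElementaryAbelian 2 B) (hAB : ∀ s : S, ∃ a ∈ A, ∃ b ∈ B, s = a * b)
    (hC : ∀ a ∈ A, a ∉ B → Subgroup.centralizer ({a} : Set S) = A) :
    (∀ b ∈ B, b ∉ A → Subgroup.centralizer ({b} : Set S) = B) ∧
      (∀ E : Subgroup S, Cfsg.IsElementaryAbelian 2 E → (∀ E' : Subgroup S, Cfsg.IsElementaryAbelian 2 E' → E ≤ E' → E' = E) → E = A ∨ E = B) ∧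
      (∀ E' : Subgroup S, Cfsg.IsElementaryAbelian 2 E' → A ≤ E' → E' = A) ∧ (∀ E' : Subgroup S, Cfsg.IsElementaryAbelian 2 E' → B ≤ E' → E' = B) ∧
      Subgroup.center S = A ⊓ B ∧
      (∀ x : S, x ∉ A → x ∉ B → Nat.card ↥(Subgroup.centralizer ({x} : Set S)) ≤ min (Nat.card ↥A) (Nat.card ↥B)) := by
  haveI := hA.1
  haveI := hB.1
  have hcA : ∀ a ∈ A, ∀ a' ∈ A, a * a' = a' * a := fun _ h _ h' => setLike_mul_comm h h'
  have hcB' : ∀ a ∈ B, ∀ a' ∈ B, a * a' = a' * a := fun _ h _ h' => setLike_mul_comm h h'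
  have hAnB : ∃ a₀ ∈ A, a₀ ∉ B := by
    by_contra h
    push_neg at h
    have hall : ∀ s, s ∈ B := fun s => by
      obtain ⟨a, ha, b, hb, rfl⟩ := hAB s; exact B.mul_mem (h a ha) hb
    exact hna ⟨⟨fun s t => hcB' s (hall s) t (hall t)⟩⟩
  obtain ⟨a₀, ha₀, ha₀B⟩ := hAnB
  have hmemC : ∀ s u : S, s * u = u * s → s ∈ Subgroup.centralizer ({u} : Set S) :=
    fun s u h => Subgroup.mem_centralizer_singleton_iff.mpr h
  have hCa : ∀ a ∈ A, a ∉ B → ∀ s, s * a = a * s → s ∈ A := fun a ha hab s h => hC a ha hab ▸ hmemC s a h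
  have hcB : ∀ a ∈ A, ∀ b ∈ B, a * b = b * a → a ∈ B ∨ b ∈ A := by
    intro a ha b hb h
    by_cases hab : a ∈ B
    · exact Or.inl hab
    · exact Or.inr (hCa a ha hab b h.symm)
  have hzAB : ∀ z ∈ A ⊓ B, ∀ s, s * z = z * s := by
    rintro z ⟨hzA, hzB⟩ s
    obtain ⟨a, ha, b, hb, rfl⟩ := hAB s
    rw [mul_assoc, hcB' b hb z hzB, ← mul_assoc, hcA a ha z hzA, mul_assoc]
  have hAB' : ∀ s : S, ∃ b ∈ B, ∃ a ∈ A, s = b * a := by
    intro s
    obtain ⟨a, ha, b, hb, h⟩ := hAB s⁻¹
    exact ⟨b⁻¹, B.inv_mem hb, a⁻¹, A.inv_mem ha, by rw [← mul_inv_rev, ← h, inv_inv]⟩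
  refine ⟨?_, ?_, ?_, ?_, ?_, ?_⟩
  · intro b hb hbA
    refine le_antisymm (fun s hs => ?_) (fun s hs => hmemC s b (hcB' s hs b hb))
    obtain ⟨a, ha, b', hb', rfl⟩ := hAB s
    have h := Subgroup.mem_centralizer_singleton_iff.mp hs
    have h2 : a * b = b * a := by
      rw [mul_assoc, hcB' b' hb' b hb, ← mul_assoc, ← mul_assoc] at h
      exact mul_right_cancel h
    rcases hcB a ha b hb h2 with h3 | h3
    · exact B.mul_mem h3 hb'
    · exact absurd h3 hbA
  · intro E hE hmax
    have hsub : ∀ e ∈ E, e ∈ A ∨ e ∈ B := by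
      intro e he
      obtain ⟨a, ha, b, hb, rfl⟩ := hAB e
      have ha2 := hA.2 a ha
      have hb2 := hB.2 b hb
      have he2 := hE.2 _ he
      rw [pow_two] at ha2 hb2 he2
      have h : a * b = b * a := by
        calc a * b = (a * b)⁻¹ := (inv_eq_of_mul_eq_one_right he2).symm
          _ = b * a := by rw [mul_inv_rev, inv_eq_of_mul_eq_one_right ha2, inv_eq_of_mul_eq_one_right hb2]
      rcases hcB a ha b hb h with h3 | h3
      · exact Or.inr (B.mul_mem h3 hb)
      · exact Or.inl (A.mul_mem ha h3)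
    by_cases hEA : E ≤ A
    · exact Or.inl (hmax A hA hEA).symm
    · refine Or.inr (hmax B hB fun e he => ?_).symm
      obtain ⟨f, hf, hfA⟩ := SetLike.not_le_iff_exists.mp hEA
      have hfB : f ∈ B := (hsub f hf).resolve_left hfA
      rcases hsub e he with h | h
      · rcases hsub (e * f) (E.mul_mem he hf) with h' | h'
        · exact absurd (by simpa using A.mul_mem (A.inv_mem h) h') hfA
        · simpa using B.mul_mem h' (B.inv_mem hfB)
      · exact h
  · intro E hE hle
    refine le_antisymm (fun e he => ?_) hle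
    haveI := hE.1
    exact hCa a₀ ha₀ ha₀B e (setLike_mul_comm he (hle ha₀))
  · intro E hE hle
    refine le_antisymm (fun e he => ?_) hle
    haveI := hE.1
    have hBnA : ∃ b₀ ∈ B, b₀ ∉ A := by
      by_contra h
      push_neg at h
      have hall : ∀ s, s ∈ A := fun s => by
        obtain ⟨a, ha, b, hb, rfl⟩ := hAB s; exact A.mul_mem ha (h b hb)
      exact hna ⟨⟨fun s t => hcA s (hall s) t (hall t)⟩⟩
    obtain ⟨b₀, hb₀, hb₀A⟩ := hBnA
    obtain ⟨a, ha, b, hb, rfl⟩ := hAB e
    have h := setLike_mul_comm he (hle hb₀)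
    have h2 : a * b₀ = b₀ * a := by
      rw [mul_assoc, hcB' b hb b₀ hb₀, ← mul_assoc, ← mul_assoc] at h
      exact mul_right_cancel h
    rcases hcB a ha b₀ hb₀ h2 with h3 | h3
    · exact B.mul_mem h3 hb
    · exact absurd h3 hb₀A
  · refine le_antisymm (fun z hz => ?_) fun z hz => Subgroup.mem_center_iff.mpr (hzAB z hz)
    have hz' := Subgroup.mem_center_iff.mp hz
    have hzA : z ∈ A := hCa a₀ ha₀ ha₀B z (hz' a₀).symm
    refine ⟨hzA, ?_⟩
    by_contra hzB
    exact hna ⟨⟨fun s t => hcA s (hCa z hzA hzB s (hz' s)) t (hCa z hzA hzB t (hz' t))⟩⟩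
  · intro x hxA hxB
    refine le_min (card_centralizer_le A B hcB hcA hcB' hAB x hxA hxB) ?_
    exact card_centralizer_le B A (fun b hb a ha h => (hcB a ha b hb h.symm).symm) hcB' hcA hAB' x hxB hxA

end Cfsg.Agent.S3163
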