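import Cfsg.Statements.S3164
import Cfsg.Agent.Lib.LBalance.Balance
import Cfsg.Agent.Lib.Solvable.Coprime

set_option autoImplicit false
set_option linter.style.haveILetI false
open Cfsg

namespace Cfsg.Agent.S3164

open Subgroup Cfsg.Agent.Components Cfsg.Agent.BpBalance
open scoped commutatorElement

variable {G : Type*} [Group G] [Finite G]

/-- Two commuting involutions of a subgroup with cyclic Sylow 2-subgroups agree. -/
theorem eq_of_cyclic {C : Subgroup G}
    (hcyc : ∀ R : Sylow 2 ↥C, IsCyclic ↥(R : Subgroup ↥C)) {a b : G}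
    (ha : a ∈ C) (hb : b ∈ C) (hao : orderOf a = 2) (hbo : orderOf b = 2) (hab : Commute a b) :
    a = b := by
  haveI : Fact (Nat.Prime 2) := ⟨Nat.prime_two⟩
  set a' : ↥C := ⟨a, ha⟩
  set b' : ↥C := ⟨b, hb⟩
  have hao' : orderOf a' = 2 := by rw [← Subgroup.orderOf_coe]; exact hao
  have hbo' : orderOf b' = 2 := by rw [← Subgroup.orderOf_coe]; exact hbo
  have hp : IsPGroup 2 ↥(zpowers a' ⊔ zpowers b') := by
    refine IsPGroup.to_sup_of_normal_right' (IsPGroup.of_card (n := 1) ?_)
      (IsPGroup.of_card (n := 1) ?_) ?_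
    · rw [Nat.card_zpowers, hao', pow_one]
    · rw [Nat.card_zpowers, hbo', pow_one]
    · rw [zpowers_le]
      refine centralizer_le_normalizer _ (mem_centralizer_iff.2 fun y hy => ?_)
      obtain ⟨i, rfl⟩ := mem_zpowers_iff.1 hy
      exact ((show Commute b' a' from Subtype.ext hab.symm.eq).zpow_left i).eq
  obtain ⟨P, hP⟩ := hp.exists_le_sylow
  haveI := hcyc P
  classical
  haveI : Fintype ↥(P : Subgroup ↥C) := Fintype.ofFinite _
  set x : ↥(P : Subgroup ↥C) := ⟨a', hP (mem_sup_left (mem_zpowers a'))⟩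
  set y : ↥(P : Subgroup ↥C) := ⟨b', hP (mem_sup_right (mem_zpowers b'))⟩
  have hx : orderOf x = 2 := by rw [← Subgroup.orderOf_coe]; exact hao'
  have hy : orderOf y = 2 := by rw [← Subgroup.orderOf_coe]; exact hbo'
  by_contra hne
  have hxy : x ≠ y := fun e => hne (congrArg (fun z : ↥(P : Subgroup ↥C) => ((z : ↥C) : G)) e)
  have hx1 : x ≠ 1 := fun e => by rw [e, orderOf_one] at hx; omega
  have hy1 : y ≠ 1 := fun e => by rw [e, orderOf_one] at hy; omega
  have hsub : ({1, x, y} : Finset ↥(P : Subgroup ↥C)) ⊆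
      Finset.univ.filter fun z => z ^ 2 = 1 := by
    intro z hz
    simp only [Finset.mem_insert, Finset.mem_singleton] at hz
    rw [Finset.mem_filter]
    refine ⟨Finset.mem_univ _, ?_⟩
    rcases hz with rfl | rfl | rfl
    · exact one_pow 2
    · exact orderOf_dvd_iff_pow_eq_one.1 hx.dvd
    · exact orderOf_dvd_iff_pow_eq_one.1 hy.dvd
  have h2 := (Finset.card_le_card hsub).trans (IsCyclic.card_pow_eq_one_le (by norm_num : 0 < 2))
  rw [Finset.card_eq_three.2 ⟨1, x, y, hx1.symm, hy1.symm, hxy, rfl⟩] at h2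
  omega

omit [Finite G] in
/-- A quasisimple subgroup whose commutators with an element are central commutes with it. -/
theorem commute_of_central {A : Subgroup G} (hA : IsQuasisimple ↥A) {g : G}
    (h : ∀ a : ↥A, ∃ z ∈ center ↥A, (z : G) = g * a * g⁻¹ * (a : G)⁻¹) :
    g ∈ centralizer (A : Set G) := by
  choose z hz he using h
  have hm : ∀ a b : ↥A, z (a * b) = z a * z b := by
    intro a b
    have hc : (a : G) * (z b : G) = (z b : G) * a :=
      congrArg Subtype.val (mem_center_iff.1 (hz b) a)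
    apply Subtype.ext
    rw [Subgroup.coe_mul, he (a * b), Subgroup.coe_mul]
    calc g * ((a : G) * b) * g⁻¹ * ((a : G) * b)⁻¹
        = (g * a * g⁻¹) * (g * b * g⁻¹ * (b : G)⁻¹) * (a : G)⁻¹ := by group
      _ = ((g * a * g⁻¹ * (a : G)⁻¹) * a) * (z b : G) * (a : G)⁻¹ := by rw [he b]; group
      _ = (z a : G) * ((a : G) * (z b : G)) * (a : G)⁻¹ := by rw [he a]; group
      _ = (z a : G) * (z b : G) := by rw [hc]; group
  letI : CommGroup ↥(center ↥A) :=
    { (inferInstance : Group ↥(center ↥A)) with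
      mul_comm := fun x y => Subtype.ext (mem_center_iff.1 y.2 x) }
  let f : ↥A →* ↥(center ↥A) :=
    MonoidHom.mk' (fun a => ⟨z a, hz a⟩) fun a b => Subtype.ext (hm a b)
  have hf : ∀ a, f a = 1 := fun a => Abelianization.commutator_subset_ker f
    (hA.1.commutator_eq_top ▸ mem_top a)
  rw [mem_centralizer_iff]
  intro a ha
  have h1 := he ⟨a, ha⟩
  rw [show z ⟨a, ha⟩ = 1 from congrArg Subtype.val (hf ⟨a, ha⟩)] at h1
  exact (mul_inv_eq_iff_eq_mul.1 (mul_inv_eq_one.1 h1.symm)).symm

/-- Let A be a standard subgroup of a finite group G whose centralizer has cyclic Sylow 2-subgroups, t an involution centralizing A, and X the normal closure of A in G. If X has a t-invariant 2-subgroup R with [R, t] nontrivial and contained in A, then X is semisimple (X equals its own layer, a central product of quasisimple groups) and the centre of X has odd order. -/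
theorem result {G : Type*} [Group G] [Finite G] (A : Subgroup G) (hA : Cfsg.IsStandardSubgroup A)
    (hcyc : ∀ R : Sylow 2 ↥(Subgroup.centralizer (A : Set G)), IsCyclic ↥(R : Subgroup ↥(Subgroup.centralizer (A : Set G)))) (t : G) (ht : orderOf t = 2) (htA : t ∈ Subgroup.centralizer (A : Set G))
    (R : Subgroup G) (hR2 : IsPGroup 2 ↥R) (hRX : R ≤ Subgroup.normalClosure (A : Set G)) (hRt : ∀ r ∈ R, t * r * t⁻¹ ∈ R)
    (hc1 : ⁅R, Subgroup.zpowers t⁆ ≠ ⊥) (hc2 : ⁅R, Subgroup.zpowers t⁆ ≤ A) :
    Cfsg.layer ↥(Subgroup.normalClosure (A : Set G)) = ⊤ ∧ Odd (Nat.card ↥(Subgroup.center ↥(Subgroup.normalClosure (A : Set G)))) := by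
  haveI : Fact (Nat.Prime 2) := ⟨Nat.prime_two⟩
  obtain ⟨hqs, ⟨-, htight⟩, -, hN⟩ := hA
  set C := centralizer (A : Set G) with hCdef
  have ht2 : t * t = 1 := by rw [← pow_two, ← ht]; exact pow_orderOf_eq_one t
  have htinv : t⁻¹ = t := inv_eq_of_mul_eq_one_right ht2
  have hAt : ∀ a ∈ A, a * t = t * a := fun a ha => mem_centralizer_iff.1 htA a ha
  -- the involution inside `A`
  have hnot : ∃ r ∈ R, r * t ≠ t * r := by
    by_contra hcon
    push Not at hcon
    apply hc1
    rw [commutator_eq_bot_iff_le_centralizer]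
    intro r hr
    rw [mem_centralizer_iff]
    intro y hy
    obtain ⟨i, rfl⟩ := mem_zpowers_iff.1 hy
    exact ((show Commute t r from (hcon r hr).symm).zpow_left i).eq
  obtain ⟨r, hr, hrt⟩ := hnot
  obtain ⟨s, hsR, hst, hs2⟩ : ∃ s ∈ R, s * t ≠ t * s ∧ s ^ 2 * t = t * s ^ 2 := by
    obtain ⟨k, hk⟩ := hR2 ⟨r, hr⟩
    have hk' : r ^ 2 ^ k = 1 := congrArg Subtype.val hk
    clear hk
    induction k generalizing r with
    | zero => exfalso; rw [pow_zero, pow_one] at hk'; simp [hk'] at hrt
    | succ k ih =>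
      by_cases h : r ^ 2 * t = t * r ^ 2
      · exact ⟨r, hr, hrt, h⟩
      · exact ih (r ^ 2) (pow_mem hr 2) h (by rw [← pow_mul, ← pow_succ']; exact hk')
  obtain ⟨c, hc⟩ : ∃ c, c = s * t * s⁻¹ * t := ⟨_, rfl⟩
  have hcA : c ∈ A := hc2 (by
    have := commutator_mem_commutator hsR (mem_zpowers t)
    rwa [commutatorElement_def, htinv, ← hc] at this)
  have hct : c * t = t * c := hAt c hcA
  have hc1' : c ≠ 1 := by
    intro e
    rw [hc, mul_eq_one_iff_eq_inv, htinv, mul_inv_eq_iff_eq_mul] at e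
    exact hst e
  have hsts : s * t * s⁻¹ = c * t := by rw [hc, mul_assoc (s * t * s⁻¹), ht2, mul_one]
  have hcc : c * c = 1 := by
    calc c * c = c * c * (t * t) := by rw [ht2, mul_one]
      _ = (c * t) * (c * t) := by rw [mul_assoc c t, ← mul_assoc t c t, ← hct]; group
      _ = (s * t * s⁻¹) * (s * t * s⁻¹) := by rw [hsts]
      _ = s * (t * t) * s⁻¹ := by group
      _ = 1 := by rw [ht2, mul_one, mul_inv_cancel]
  have hs2t : s ^ 2 * t * (s ^ 2)⁻¹ = t := by rw [hs2, mul_inv_cancel_right]
  have hscs : s * c * s⁻¹ = c := by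
    calc s * c * s⁻¹ = (s ^ 2 * t * (s ^ 2)⁻¹) * (s * t * s⁻¹) := by rw [hc, pow_two]; group
      _ = t * (c * t) := by rw [hs2t, hsts]
      _ = c := by rw [hct, ← mul_assoc, ht2, one_mul]
  have hco : orderOf c = 2 := orderOf_eq_prime (by rw [pow_two, hcc]) hc1'
  have hcz : (⟨c, hcA⟩ : ↥A) ∉ center ↥A := by
    intro hmem
    have hcC : c ∈ C := mem_centralizer_iff.2 fun a ha =>
      congrArg Subtype.val (mem_center_iff.1 hmem ⟨a, ha⟩)
    have h := eq_of_cyclic hcyc hcC htA hco ht hct
    rw [h] at hsts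
    rw [ht2, mul_inv_eq_one, mul_eq_left] at hsts
    exact hst (by rw [hsts, one_mul, mul_one])
  -- the odd core
  set O := pPrimeCore 2 G with hOdef
  haveI hOn : O.Normal := FittingCores.pPrimeCore_normal (G := G) 2
  have hOc : (Nat.card O).Coprime 2 := FittingCores.pPrimeCore_coprime 2
  have h2O : ∀ z : G, orderOf z = 2 → z ∉ O := fun z hz hm => by
    have h2 := Subgroup.orderOf_dvd_natCard _ hm
    rw [hz] at h2
    exact Nat.prime_two.coprime_iff_not_dvd.1 hOc.symm h2
  -- the centraliser of the involution normalises `A`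
  set Ct := centralizer ((zpowers t : Subgroup G) : Set G) with hCtdef
  have hmCt : ∀ g : G, g * t = t * g → g ∈ Ct := fun g hg => mem_centralizer_iff.2 fun y hy => by
    obtain ⟨i, rfl⟩ := mem_zpowers_iff.1 hy
    exact ((show Commute t g from hg.symm).zpow_left i).eq
  have hCtN : Ct ≤ normalizer (A : Set G) := by
    intro g hg
    rw [hN]
    by_contra hgn
    have hodd := htight g hgn
    have htg : t ∈ C.map (MulAut.conj g).toMonoidHom := ⟨t, htA, by
      show g * t * g⁻¹ = t
      rw [← mem_centralizer_iff.1 hg t (mem_zpowers t), mul_inv_cancel_right]⟩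
    have h2 := Subgroup.orderOf_dvd_natCard _ (mem_inf.2 ⟨htA, htg⟩ : t ∈ C ⊓ C.map (MulAut.conj g).toMonoidHom)
    rw [ht] at h2
    exact Nat.not_even_iff_odd.2 hodd (even_iff_two_dvd.2 h2)
  have hACt : A ≤ Ct := fun a ha => hmCt a (hAt a ha)
  -- `A` centralises the odd core
  have hfix : O ⊓ centralizer {t} ≤ centralizer (A : Set G) := by
    rintro g ⟨hgO, hgt⟩
    have hgN := hCtN (hmCt g (mem_centralizer_singleton_iff.1 hgt))
    refine commute_of_central hqs fun a => ?_
    have hm : g * a * g⁻¹ * (a : G)⁻¹ ∈ A :=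
      mul_mem ((mem_normalizer_iff.1 hgN a).1 a.2) (inv_mem a.2)
    refine ⟨⟨_, hm⟩, ?_, rfl⟩
    rcases quasisimple_normal hqs (O.subgroupOf A) with e | e
    · exact absurd (show c ∈ O from (e ▸ mem_top (⟨c, hcA⟩ : ↥A) : (⟨c, hcA⟩ : ↥A) ∈ O.subgroupOf A))
        (h2O c hco)
    · refine e (mem_subgroupOf.2 ?_)
      show g * a * g⁻¹ * (a : G)⁻¹ ∈ O
      have := mul_mem hgO (hOn.conj_mem _ (inv_mem hgO) a)
      simpa [mul_assoc] using this
  have hcO : c ∈ centralizer (O : Set G) := by
    set V := closure ({t, c} : Set G) with hVdef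
    have hV : ∀ x ∈ V, x = 1 ∨ x = t ∨ x = c ∨ x = c * t := by
      have e1 : t * c = c * t := hct.symm
      have e2 : t * (c * t) = c := by rw [hct, ← mul_assoc, ht2, one_mul]
      have e3 : c * (c * t) = t := by rw [← mul_assoc, hcc, one_mul]
      have e4 : c * t * t = c := by rw [mul_assoc, ht2, mul_one]
      have e5 : c * t * c = t := by rw [mul_assoc, e1, e3]
      have e6 : c * t * (c * t) = 1 := by rw [← mul_assoc, e5, ht2]
      intro x hx
      induction hx using closure_induction with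
      | mem y hy => rcases hy with rfl | rfl <;> simp
      | one => simp
      | mul x y _ _ hx hy =>
        rcases hx with rfl | rfl | rfl | rfl <;> rcases hy with rfl | rfl | rfl | rfl <;>
          simp [ht2, hcc, e1, e2, e3, e4, e5, e6]
      | inv x _ hx =>
        rcases hx with rfl | rfl | rfl | rfl
        · simp
        · simp [htinv]
        · simp [inv_eq_of_mul_eq_one_right hcc]
        · simp [inv_eq_of_mul_eq_one_right e6]
    haveI : IsMulCommutative ↥V := by
      refine le_centralizer_iff_isMulCommutative.1 ((closure_le _).2 ?_)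
      intro x hx
      rw [SetLike.mem_coe, mem_centralizer_iff]
      intro y hy
      have hxy : ∀ z ∈ ({t, c} : Set G), z * x = x * z := by
        intro z hz
        rcases hx with rfl | rfl <;> rcases hz with rfl | rfl <;> first | rfl | exact hct | exact hct.symm
      have : V ≤ centralizer {x} := (closure_le _).2 fun z hz =>
        mem_centralizer_singleton_iff.2 (hxy z hz)
      exact mem_centralizer_singleton_iff.1 (this hy)
    have hsq : ∀ x : ↥V, x ^ 2 = 1 := fun x => Subtype.ext (by
      rw [Subgroup.coe_pow, pow_two, OneMemClass.coe_one]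
      rcases hV x x.2 with e | e | e | e <;> rw [e]
      · exact one_mul 1
      · exact ht2
      · exact hcc
      · rw [mul_assoc, ← mul_assoc t, ← hct, mul_assoc c t, ht2, mul_one, hcc])
    have htV : t ∈ V := subset_closure (Set.mem_insert _ _)
    have hcV : c ∈ V := subset_closure (Set.mem_insert_of_mem _ rfl)
    have hVcyc : ¬ IsCyclic ↥V := by
      intro hcy
      obtain ⟨g, hg⟩ := hcy.exists_generator
      have hgen : ∀ x : ↥V, x = 1 ∨ x = g := by
        intro x
        obtain ⟨i, rfl⟩ := mem_zpowers_iff.1 (hg x)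
        rcases Int.even_or_odd i with ⟨j, rfl⟩ | ⟨j, rfl⟩
        · left; rw [← two_mul, zpow_mul, zpow_ofNat, hsq, one_zpow]
        · right; rw [zpow_add_one, zpow_mul, zpow_ofNat, hsq, one_zpow, one_mul]
      rcases hgen ⟨t, htV⟩ with e | e
      · have : t = 1 := congrArg Subtype.val e
        rw [this, orderOf_one] at ht; omega
      rcases hgen ⟨c, hcV⟩ with e' | e'
      · exact hc1' (congrArg Subtype.val e')
      have htc : t = c := congrArg Subtype.val (e.trans e'.symm)
      rw [← htc, ht2, mul_inv_eq_one, mul_eq_left] at hsts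
      exact hst (by rw [hsts, one_mul, mul_one])
    have hcopV : (Nat.card ↥V).Coprime (Nat.card O) := by
      obtain ⟨n, hn⟩ := IsPGroup.iff_card.1 (show IsPGroup 2 ↥V from fun x => ⟨1, by rw [pow_one, hsq]⟩)
      rw [hn]
      exact Nat.Coprime.pow_left _ hOc.symm
    have hgen := CoprimeAct.generated_by_centralizers (A := V) (K := O) hVcyc
      le_normalizer_of_normal hcopV
    have h1 : O ⊓ centralizer {t} ≤ centralizer {c} := fun g hg =>
      mem_centralizer_singleton_iff.2 (mem_centralizer_iff.1 (hfix hg) c hcA).symm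
    intro o ho
    rw [← hgen] at ho
    refine (mem_centralizer_singleton_iff.1 ((iSup₂_le fun a ha => ?_ :
      (⨆ a ∈ {a : G | a ∈ V ∧ a ≠ 1}, O ⊓ centralizer {a}) ≤ centralizer {c}) ho))
    rcases hV a ha.1 with e | e | e | e
    · exact absurd e ha.2
    · rw [e]; exact h1
    · rw [e]; exact inf_le_right
    · rintro g ⟨hgO, hg⟩
      rw [e, ← hsts] at hg
      replace hg := mem_centralizer_singleton_iff.1 hg
      have hg' : s⁻¹ * g * s ∈ O ⊓ centralizer {t} := by
        refine mem_inf.2 ⟨by simpa using hOn.conj_mem g hgO s⁻¹, mem_centralizer_singleton_iff.2 ?_⟩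
        calc s⁻¹ * g * s * t = s⁻¹ * (g * (s * t * s⁻¹)) * s := by group
          _ = s⁻¹ * ((s * t * s⁻¹) * g) * s := by rw [hg]
          _ = t * (s⁻¹ * g * s) := by group
      have h := mem_centralizer_singleton_iff.1 (h1 hg')
      refine mem_centralizer_singleton_iff.2 ?_
      rw [← hscs]
      calc g * (s * c * s⁻¹) = s * (s⁻¹ * g * s * c) * s⁻¹ := by group
        _ = s * (c * (s⁻¹ * g * s)) * s⁻¹ := by rw [h]
        _ = s * c * s⁻¹ * g := by group
  have hAO : A ≤ centralizer (O : Set G) := by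
    haveI : (centralizer (O : Set G)).Normal := Subgroup.normal_centralizer
    rcases quasisimple_normal hqs ((centralizer (O : Set G)).subgroupOf A) with e | e
    · exact subgroupOf_eq_top.1 e
    · exact absurd (e (mem_subgroupOf.2 hcO)) hcz
  -- the normal closure
  set X := normalClosure (A : Set G) with hXdef
  have hAX : A ≤ X := le_normalClosure
  have hXO : X ≤ centralizer (O : Set G) := by
    haveI : (centralizer (O : Set G)).Normal := Subgroup.normal_centralizer
    exact normalClosure_le_normal hAO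
  have hAL : A ≤ pLayer 2 G := by
    have hp : PCIn 2 A Ct := by
      refine ⟨hACt, ?_, ?_, ?_⟩
      · exact ((normal_subgroupOf_iff_le_normalizer hACt).2 hCtN).isSubnormal
      · have hn : ((pGen 2 A).subgroupOf A).Normal :=
          (normal_subgroupOf_iff_le_normalizer (pGen_le A)).2 (le_normalizer.trans (normalizer_le_pGen A))
        haveI := hn
        rcases quasisimple_normal hqs ((pGen 2 A).subgroupOf A) with e | e
        · exact subgroupOf_eq_top.1 e
        · exact absurd (e (mem_subgroupOf.2 (mem_pGen hcA (k := 1) (by rw [pow_one, pow_two, hcc])))) hcz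
      · haveI := FittingCores.pPrimeCore_normal (G := ↥A) 2
        haveI : Nontrivial (↥A ⧸ pPrimeCore 2 ↥A) := by
          rw [← not_subsingleton_iff_nontrivial]
          intro hsub
          have hm : (⟨c, hcA⟩ : ↥A) ∈ pPrimeCore 2 ↥A :=
            (QuotientGroup.eq_one_iff _).1 (Subsingleton.elim _ _)
          have h2 := Subgroup.orderOf_dvd_natCard _ hm
          rw [← Subgroup.orderOf_coe, hco] at h2
          exact Nat.prime_two.coprime_iff_not_dvd.1
            (FittingCores.pPrimeCore_coprime (G := ↥A) 2).symm h2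
        exact quasisimple_of_surjective hqs (QuotientGroup.mk' _) (QuotientGroup.mk'_surjective _)
    have hRp : IsPGroup 2 ↥(zpowers t) := IsPGroup.of_card (n := 1) (by rw [Nat.card_zpowers, ht, pow_one])
    refine le_trans ?_ (LBalance.pLayer_centralizer_le_two hRp)
    rw [← map_subgroupOf_eq_of_le hACt]
    exact map_mono (le_sSup hp.toComp)
  have hXL : X ≤ pLayer 2 G := by
    haveI := pLayer_normal (G := G) (p := 2)
    exact normalClosure_le_normal hAL
  have hXp : ⁅X, X⁆ = X := by
    refine le_antisymm (commutator_le_self _) ?_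
    refine normalClosure_le_normal ?_
    show A ≤ ⁅X, X⁆
    rw [← quasisimple_commutator_eq hqs]
    exact commutator_mono hAX hAX
  set q := QuotientGroup.mk' O with hq
  haveI hXn : X.Normal := normalClosure_normal
  have hXb : (X.map q).Normal := hXn.map q (QuotientGroup.mk'_surjective O)
  have hXbL : X.map q ≤ layer (G ⧸ O) := by
    rw [← map_pLayer (p := 2)]
    exact map_mono hXL
  set E₁ := sSup {K : Subgroup (G ⧸ O) | IsComponent K ∧ K ≤ X.map q} with hE₁
  set E₂ := sSup {K : Subgroup (G ⧸ O) | IsComponent K ∧ ¬ K ≤ X.map q} with hE₂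
  have hE₁X : E₁ ≤ X.map q := sSup_le fun K hK => hK.2
  have hL12 : layer (G ⧸ O) ≤ E₁ ⊔ E₂ := by
    rw [layer_le_iff]
    intro K hK
    by_cases h : K ≤ X.map q
    · exact le_sup_of_le_left (le_sSup ⟨hK, h⟩)
    · exact le_sup_of_le_right (le_sSup ⟨hK, h⟩)
  have hE₂c : E₂ ≤ centralizer (X.map q : Set (G ⧸ O)) := sSup_le fun K hK =>
    commutator_eq_bot_iff_le_centralizer.1
      ((component_le_or_commute hK.1 hXb.isSubnormal).resolve_left hK.2)
  have hE₁n : X.map q ≤ normalizer (E₁ : Set (G ⧸ O)) := by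
    intro g hg
    rw [mem_normalizer_iff_map_conj_eq]
    refine eq_of_le_of_card_ge ?_ (card_map_of_injective (MulAut.conj g).injective).ge
    rw [map_le_iff_le_comap]
    refine sSup_le fun K hK => ?_
    rw [← map_le_iff_le_comap,
      mem_normalizer_iff_map_conj_eq.1 (layer_le_normalizer_component hK.1 (hXbL hg))]
    exact le_sSup hK
  have hXE : X.map q ≤ E₁ := by
    have h : ⁅X.map q, X.map q⁆ ≤ E₁ := by
      rw [commutator_le]
      intro a ha b hb
      have hc12 : ⁅E₁, E₂⁆ = ⊥ := commutator_eq_bot_iff_le_centralizer.2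
        (le_centralizer_iff.1 (hE₂c.trans (centralizer_le hE₁X)))
      obtain ⟨e₁, he₁, e₂, he₂, he⟩ := mem_sup_of_commute hc12 (hL12 (hXbL ha))
      have hcomm : b * e₂ = e₂ * b := mem_centralizer_iff.1 (hE₂c he₂) b hb
      have : ⁅a, b⁆ = e₁ * (b * e₁⁻¹ * b⁻¹) := by
        rw [commutatorElement_def, ← he]
        calc e₁ * e₂ * b * (e₁ * e₂)⁻¹ * b⁻¹ = e₁ * (e₂ * b) * e₂⁻¹ * e₁⁻¹ * b⁻¹ := by group
          _ = e₁ * (b * e₂) * e₂⁻¹ * e₁⁻¹ * b⁻¹ := by rw [hcomm]
          _ = e₁ * (b * e₁⁻¹ * b⁻¹) := by group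
      rw [this]
      exact mul_mem he₁ ((mem_normalizer_iff.1 (hE₁n hb) _).1 (inv_mem he₁))
    rwa [← Subgroup.map_commutator, hXp] at h
  set L := (layer ↥X).map X.subtype with hLdef
  have hlift : X.map q ≤ L.map q := by
    refine hXE.trans (sSup_le fun Kb hKb => ?_)
    obtain ⟨hK, himg⟩ := exists_pComponent (p := 2) Kb hKb.1
    rw [← himg]
    set K := pGen 2 (Kb.comap q) with hKdef
    have hKX : K ≤ X := by
      have h1 : Kb.comap q ≤ X ⊔ O := by
        calc Kb.comap q ≤ (X.map q).comap q := comap_mono hKb.2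
          _ = X ⊔ O := by rw [comap_map_eq, QuotientGroup.ker_mk']
      refine (pGen_mono h1).trans (pGen_le_of_normal le_sup_left inferInstance ?_)
      rw [sup_comm, relIndex_sup_right]
      exact hOc.coprime_dvd_left (relIndex_dvd_card _ _)
    have hKq : IsQuasisimple ↥K := by
      haveI : Group.IsPerfect ↥K := isPerfect_iff.2 (pComponent_commutator_eq hK)
      haveI := FittingCores.pPrimeCore_normal (G := ↥K) 2
      refine quasisimple_of_quotient_central (pPrimeCore 2 ↥K) (fun x hx => ?_)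
        (pComponent_quotient_quasisimple hK)
      have hxO : (x : G) ∈ O := ((pComponent_core hK).le (mem_map_of_mem _ hx)).2
      exact mem_center_iff.2 fun y => Subtype.ext
        ((mem_centralizer_iff.1 (hXO (hKX y.2)) _ hxO).symm)
    refine map_mono ?_
    rw [← map_subgroupOf_eq_of_le hKX]
    exact map_mono (component_le_layer (component_subgroupOf ⟨hK.1, hKq⟩ hKX))
  have hLX : L ≤ X := map_subtype_le _
  have hXLe : X ≤ L := by
    conv_lhs => rw [← hXp]
    rw [commutator_le]
    intro a ha b hb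
    have hdec : ∀ x ∈ X, ∃ l ∈ L, l⁻¹ * x ∈ O := by
      intro x hx
      obtain ⟨l, hl, e⟩ := hlift (mem_map_of_mem q hx)
      exact ⟨l, hl, QuotientGroup.eq.1 e⟩
    obtain ⟨l, hl, ho⟩ := hdec a ha
    obtain ⟨m, hm, hp⟩ := hdec b hb
    have hcen : ∀ o ∈ O, ∀ y ∈ X, o * y = y * o := fun o ho y hy =>
      mem_centralizer_iff.1 (hXO hy) o ho
    have e : ⁅a, b⁆ = ⁅l, m⁆ := by
      rw [commutatorElement_def, commutatorElement_def]
      obtain ⟨o, ho', rfl⟩ : ∃ o ∈ O, a = l * o := ⟨_, ho, (mul_inv_cancel_left l a).symm⟩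
      obtain ⟨p, hp', rfl⟩ : ∃ p ∈ O, b = m * p := ⟨_, hp, (mul_inv_cancel_left m b).symm⟩
      calc l * o * (m * p) * (l * o)⁻¹ * (m * p)⁻¹
          = l * (o * (m * p)) * o⁻¹ * l⁻¹ * (p⁻¹ * m⁻¹) := by group
        _ = l * m * (p * l⁻¹) * (p⁻¹ * m⁻¹) := by rw [hcen o ho' _ hb]; group
        _ = l * m * l⁻¹ * m⁻¹ := by rw [hcen p hp' _ (inv_mem (hLX hl))]; group
    rw [e, commutatorElement_def]
    exact mul_mem (mul_mem (mul_mem hl hm) (inv_mem hl)) (inv_mem hm)
  refine ⟨?_, ?_⟩
  · rw [eq_top_iff]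
    intro x _
    obtain ⟨y, hy, e⟩ := hXLe x.2
    rwa [← Subtype.ext e]
  · rw [← Nat.not_even_iff_odd, even_iff_two_dvd]
    intro h2
    obtain ⟨z, hz⟩ := exists_prime_orderOf_dvd_card' 2 h2
    have hcn : ∀ w : ↥(center ↥X), ∀ y ∈ X, ((w : ↥X) : G) * y = y * ((w : ↥X) : G) := fun w y hy =>
      (congrArg Subtype.val (mem_center_iff.1 w.2 ⟨y, hy⟩)).symm
    have hzo : orderOf (((z : ↥X) : G)) = 2 := by rw [Subgroup.orderOf_coe, Subgroup.orderOf_coe, hz]
    set u := ((z : ↥X) : G) with hu
    have huX : u ∈ X := (z : ↥X).2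
    have hu2 : u * u = 1 := by rw [← pow_two, ← hzo]; exact pow_orderOf_eq_one u
    obtain ⟨w, hwX, hwo, hwc, hwt⟩ : ∃ w ∈ X, orderOf w = 2 ∧ (∀ y ∈ X, w * y = y * w) ∧ Commute w t := by
      have hu' : t * u * t⁻¹ ∈ X := hXn.conj_mem u huX t
      have hconj : ∀ y ∈ X, (t * u * t⁻¹) * y = y * (t * u * t⁻¹) := fun y hy => by
        have h := hcn z (t⁻¹ * y * t) (by simpa using hXn.conj_mem y hy t⁻¹)
        calc t * u * t⁻¹ * y = t * (u * (t⁻¹ * y * t)) * t⁻¹ := by group
          _ = t * ((t⁻¹ * y * t) * u) * t⁻¹ := by rw [h]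
          _ = y * (t * u * t⁻¹) := by group
      by_cases e : t * u * t⁻¹ = u
      · exact ⟨u, huX, hzo, hcn z, (show Commute t u from mul_inv_eq_iff_eq_mul.1 e).symm⟩
      · set v := t * u * t⁻¹ with hv
        have huv : u * v = v * u := hcn z v hu'
        have hv2 : v * v = 1 := by rw [hv]; calc t * u * t⁻¹ * (t * u * t⁻¹) = t * (u * u) * t⁻¹ := by group
                                                _ = 1 := by rw [hu2, mul_one, mul_inv_cancel]
        refine ⟨u * v, mul_mem huX hu', orderOf_eq_prime ?_ ?_, fun y hy => ?_, ?_⟩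
        · rw [pow_two]; calc u * v * (u * v) = u * (v * u) * v := by group
                            _ = (u * u) * (v * v) := by rw [← huv]; group
                            _ = 1 := by rw [hu2, hv2, one_mul]
        · intro h; exact e (mul_left_cancel (h.trans hu2.symm))
        · rw [mul_assoc, hconj y hy, ← mul_assoc, hcn z y hy, mul_assoc]
        · show u * v * t = t * (u * v)
          have e1 : v * t = t * u := by rw [hv, inv_mul_cancel_right]
          have e2 : t * v = u * t := by
            rw [hv, htinv, ← mul_assoc, ← mul_assoc, ht2, one_mul]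
          rw [mul_assoc u v t, e1, ← mul_assoc, ← e2, mul_assoc, ← huv]
    have hwC : w ∈ C := mem_centralizer_iff.2 fun a ha => (hwc a (hAX ha)).symm
    have hwt' := eq_of_cyclic hcyc hwC htA hwo ht hwt
    exact hst (by rw [← hwt']; exact (hwc s (hRX hsR)).symm)


end Cfsg.Agent.S3164
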