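import Cfsg.Statements.S3165
import Mathlib.Tactic.Group

set_option autoImplicit false
open Cfsg

namespace Cfsg.Agent.S3165


/-- Let a group X act on a group Y by automorphisms and let z be an element of Y all of whose Y-conjugates are fixed by X. Then every element of the form (x·y)y⁻¹, x ∈ X, y ∈ Y (these generate the commutator [X, Y]) commutes with z. -/
theorem result {X Y : Type*} [Group X] [Group Y] [MulDistribMulAction X Y] (z : Y)
    (hz : ∀ y : Y, ∀ x : X, x • (y * z * y⁻¹) = y * z * y⁻¹) :
    ∀ x : X, ∀ y : Y, Commute ((x • y) * y⁻¹) z := by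
  intro x y
  have h1 := hz y x
  have h2 := hz 1 x
  have h2' : x • z = z := by simpa using h2
  have h3 : x • (y * z * y⁻¹) = (x • y) * z * (x • y)⁻¹ := by
    simp [smul_mul', smul_inv', h2']
  rw [h3] at h1
  have h4 := hz 1 x
  -- (x•y) z (x•y)⁻¹ = y z y⁻¹; apply to conjugates
  have key : ∀ w : Y, (x • w) * z * (x • w)⁻¹ = w * z * w⁻¹ := by
    intro w
    have := hz w x
    simpa [smul_mul', smul_inv', h2'] using this
  have h5 := key y⁻¹
  simp only [smul_inv', inv_inv] at h5
  rw [commute_iff_eq]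
  calc (x • y) * y⁻¹ * z = (x • y) * (y⁻¹ * z * y) * y⁻¹ := by group
    _ = (x • y) * ((x • y)⁻¹ * z * (x • y)) * y⁻¹ := by rw [h5]
    _ = z * ((x • y) * y⁻¹) := by group

end Cfsg.Agent.S3165
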