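import Cfsg.Statements.S3166
import Mathlib.Data.Nat.Prime.Basic
import Mathlib.Algebra.Ring.GeomSum
import Mathlib.Data.ZMod.Basic
import Mathlib.Tactic.Linarith
import Mathlib.Tactic.Ring
import Mathlib.Tactic.IntervalCases
import Mathlib.Tactic.LinearCombination

set_option autoImplicit false
open Cfsg

namespace Cfsg.Agent.S3166


/-- Let q = 2^n with n ≥ 1. If q⁴ − q³ + q² − q + 1 is a power p^m of a prime p, then m = 1: the value is never a prime power with exponent greater than 1. -/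
theorem result (n p m : ℕ) (hn : 1 ≤ n) (hp : p.Prime) (h : (2 ^ n) ^ 4 - (2 ^ n) ^ 3 + (2 ^ n) ^ 2 - 2 ^ n + 1 = p ^ m) : m = 1 := by
  set q := 2 ^ n with hq
  have hq2 : 2 ≤ q := Nat.le_self_pow (by omega) 2
  have hqeven : 2 ∣ q := dvd_pow_self 2 (by omega)
  have e1 : q ^ 3 ≤ q ^ 4 := Nat.pow_le_pow_right (by omega) (by omega)
  have e2 : q ≤ q ^ 4 - q ^ 3 + q ^ 2 := le_add_left (Nat.le_self_pow (by omega) q)
  have hv : ((p : ℤ) ^ m) = (q : ℤ) ^ 4 - (q : ℤ) ^ 3 + (q : ℤ) ^ 2 - q + 1 := by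
    have := congrArg (fun a : ℕ => (a : ℤ)) h
    push_cast [Nat.cast_sub e2, Nat.cast_sub e1] at this
    exact this.symm
  have hq2' : (2 : ℤ) ≤ q := by exact_mod_cast hq2
  have hp2' : (2 : ℤ) ≤ p := by exact_mod_cast hp.two_le
  have hbig : 1 < (q : ℤ) ^ 4 - (q : ℤ) ^ 3 + (q : ℤ) ^ 2 - q + 1 := by nlinarith [pow_pos (show (0 : ℤ) < q by omega) 3]
  rcases Nat.even_or_odd m with ⟨k, hk⟩ | ⟨k, hk⟩
  · exfalso
    set y : ℤ := (p : ℤ) ^ k with hy
    have hy2 : y * y = (q : ℤ) ^ 4 - (q : ℤ) ^ 3 + (q : ℤ) ^ 2 - q + 1 := by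
      rw [← hv, hk, pow_add]
    have hypos : 0 ≤ y := by positivity
    have hA : 0 ≤ 2 * (q : ℤ) ^ 2 - q := by nlinarith
    have hlo : 2 * (q : ℤ) ^ 2 - q < 2 * y := by
      by_contra hle
      have := mul_le_mul (not_lt.mp hle) (not_lt.mp hle) (by omega) hA
      nlinarith
    have hhi : 2 * y < 2 * (q : ℤ) ^ 2 - q + 1 := by
      by_contra hle
      have := mul_le_mul (not_lt.mp hle) (not_lt.mp hle) (by omega) (by omega : (0 : ℤ) ≤ 2 * y)
      nlinarith
    omega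
  · rcases Nat.eq_zero_or_pos k with rfl | hkpos
    · simpa using hk
    exfalso
    have hpodd : ¬ 2 ∣ p := by
      intro h2
      have h2' : (2 : ℤ) ∣ (p : ℤ) ^ m := dvd_pow (by exact_mod_cast h2) (by omega)
      obtain ⟨c, hc⟩ := hqeven
      rw [hv, hc] at h2'
      push_cast at h2'
      have h2'' : (2 : ℤ) ∣ 1 := by
        have : (2 : ℤ) ∣ (2 * (c : ℤ)) ^ 4 - (2 * (c : ℤ)) ^ 3 + (2 * (c : ℤ)) ^ 2 - 2 * (c : ℤ) :=
          ⟨8 * (c : ℤ) ^ 4 - 4 * (c : ℤ) ^ 3 + 2 * (c : ℤ) ^ 2 - c, by ring⟩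
        exact (dvd_add_right this).mp h2'
      omega
    have hdiv : q ∣ p - 1 := by
      have hco : Nat.Coprime q (∑ i ∈ Finset.range m, p ^ i) := by
        refine Nat.Coprime.pow_left n ?_
        refine (Nat.prime_two.coprime_iff_not_dvd).mpr ?_
        rw [← ZMod.natCast_eq_zero_iff]
        have hp1 : (p : ZMod 2) = 1 := by
          rw [(ZMod.natCast_eq_natCast_iff' p 1 2).mpr (by omega), Nat.cast_one]
        have hm1 : (m : ZMod 2) = 1 := by
          rw [(ZMod.natCast_eq_natCast_iff' m 1 2).mpr (by omega), Nat.cast_one]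
        simp [hp1, hm1]
      refine hco.dvd_of_dvd_mul_left ?_
      have hge : (∑ i ∈ Finset.range m, p ^ i) * (p - 1) = p ^ m - 1 := by
        obtain ⟨p', rfl⟩ : ∃ p', p = p' + 1 := ⟨p - 1, by have := hp.two_le; omega⟩
        have := geom_sum_mul_add p' m
        simp only [Nat.add_sub_cancel]; omega
      rw [hge]
      have hcast : ((p ^ m - 1 : ℕ) : ℤ) = (q : ℤ) * ((q : ℤ) ^ 3 - (q : ℤ) ^ 2 + q - 1) := by
        rw [Nat.cast_sub (Nat.one_le_pow _ _ hp.pos)]; push_cast; rw [hv]; ring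
      exact Int.natCast_dvd_natCast.mp (Dvd.intro _ hcast.symm)
    obtain ⟨c, hc⟩ := hdiv
    have hpc : (p : ℤ) = q * c + 1 := by
      have : p = q * c + 1 := by have := hp.two_le; omega
      exact_mod_cast this
    have hc1 : 1 ≤ c := by
      rcases Nat.eq_zero_or_pos c with rfl | hc0
      · have := hp.two_le; omega
      · exact hc0
    have hc1' : (1 : ℤ) ≤ c := by exact_mod_cast hc1
    have hpq : (q : ℤ) + 1 ≤ p := by nlinarith
    rcases (show m = 3 ∨ 5 ≤ m by omega) with rfl | hm5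
    · rw [hpc] at hv
      have he : (c : ℤ) ^ 3 * q ^ 2 + 3 * c ^ 2 * q + 3 * c = q ^ 3 - q ^ 2 + q - 1 := by
        have : (q : ℤ) * ((c : ℤ) ^ 3 * q ^ 2 + 3 * c ^ 2 * q + 3 * c) = q * (q ^ 3 - q ^ 2 + q - 1) := by
          linear_combination hv
        exact mul_left_cancel₀ (by omega) this
      have hsmall : (c : ℤ) ^ 3 < q := by
        by_contra hge
        nlinarith [mul_le_mul_of_nonneg_right (not_lt.mp hge) (sq_nonneg (q : ℤ))]
      have hdiv : (q : ℤ) ∣ 3 * c + 1 := ⟨q ^ 2 - q + 1 - c ^ 3 * q - 3 * c ^ 2, by linear_combination he⟩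
      have hle : (q : ℤ) ≤ 3 * c + 1 := Int.le_of_dvd (by omega) hdiv
      rcases (show (c : ℤ) = 1 ∨ 2 ≤ (c : ℤ) by omega) with hc' | hc'
      · rw [hc'] at hle he
        norm_num at hle he
        rcases (show (q : ℤ) = 2 ∨ (q : ℤ) = 3 ∨ (q : ℤ) = 4 by omega) with hqq | hqq | hqq <;> rw [hqq] at he <;> norm_num at he
      · nlinarith [mul_le_mul_of_nonneg_right (mul_le_mul hc' hc' (by norm_num) (by omega)) (show (0 : ℤ) ≤ c by omega)]
    · have h5 : ((q : ℤ) + 1) ^ 5 ≤ (p : ℤ) ^ m :=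
        le_trans (pow_le_pow_left₀ (by omega) hpq 5) (pow_le_pow_right₀ (by omega) hm5)
      nlinarith [pow_pos (show (0 : ℤ) < q by omega) 3, pow_pos (show (0 : ℤ) < q by omega) 4, pow_pos (show (0 : ℤ) < q by omega) 5]

end Cfsg.Agent.S3166
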