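import Cfsg.Statements.S3170
import Cfsg.Agent.S3169
import Cfsg.Agent.Lib.M24SylQ.Assemble
import Cfsg.Agent.Lib.Extraspecial.NonSplit
import Cfsg.Agent.Lib.HalfClasses.Count

set_option autoImplicit false
set_option linter.unusedVariables false
open Cfsg

namespace Cfsg.Agent.S3170

open Cfsg.Agent Subgroup

/-- Let H be a finite group with no nontrivial normal subgroup of odd order whose Sylow 2-subgroup T is isomorphic to a Sylow 2-subgroup of the Mathieu group of degree 24, and suppose that the centre of T lies in the centre of H. If E is a subgroup of T that is normal in T and extraspecial of order 2^7, and E is the only such subgroup of T, then E is normal in H. -/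
theorem result {H : Type*} [Group H] [Finite H]
    (hO : Cfsg.oddCore H = ⊥) (T : Sylow 2 H) (P : Sylow 2 ↥Cfsg.M24)
    (hT : Nonempty (↥(T : Subgroup H) ≃* ↥(P : Subgroup ↥Cfsg.M24)))
    (hZ : ∀ z ∈ (T : Subgroup H), (∀ t ∈ (T : Subgroup H), z * t = t * z) → z ∈ Subgroup.center H)
    (E : Subgroup H) (hE : E ≤ (T : Subgroup H)) (hEn : (E.subgroupOf (T : Subgroup H)).Normal)
    (hEx : Cfsg.IsExtraspecial 2 ↥E) (hE7 : Nat.card ↥E = 2 ^ 7)
    (huniq : ∀ E' : Subgroup H, E' ≤ (T : Subgroup H) → (E'.subgroupOf (T : Subgroup H)).Normal →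
      Cfsg.IsExtraspecial 2 ↥E' → Nat.card ↥E' = 2 ^ 7 → E' = E) :
    E.Normal := by
  classical
  obtain ⟨e⟩ := hT
  obtain ⟨φ⟩ := M24SylQ.exists_iso P
  set Z := (Subgroup.center ↥(T : Subgroup H)).map (T : Subgroup H).subtype with hZdef
  have hZc : Z ≤ Subgroup.center H := by
    rintro _ ⟨x, hx, rfl⟩
    exact hZ x x.2 fun t ht => congrArg Subtype.val (mem_center_iff.1 hx ⟨t, ht⟩).symm
  have hZn : Z.Normal := ⟨fun x hx g => by
    rw [mem_center_iff.1 (hZc hx) g, mul_inv_cancel_right]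
    exact hx⟩
  have hZ2 : Nat.card Z = 2 := by
    have hP : Nat.card ↥(P : Subgroup ↥Cfsg.M24) = 2 ^ 10 := by
      rw [P.card_eq_multiplicity, Golay.card_M24, show (244823040 : ℕ) = 2 ^ 10 * 239085 by norm_num,
        Nat.factorization_mul (by norm_num) (by norm_num), Nat.prime_two.factorization_pow]
      simp only [Finsupp.coe_add, Pi.add_apply, Finsupp.single_eq_same]
      rw [Nat.factorization_eq_zero_of_not_dvd (by norm_num : ¬ 2 ∣ 239085)]
    have h1 := card_eq_card_quotient_mul_card_subgroup (center ↥(P : Subgroup ↥Cfsg.M24))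
    rw [Nat.card_congr φ.toEquiv, Golay.SylQ.card_Q, hP] at h1
    rw [hZdef, card_subtype, Nat.card_congr (Subgroup.centerCongr e).toEquiv]
    omega
  have hZp : IsPGroup 2 ↥Z := IsPGroup.of_card (n := 1) (by rw [hZ2, pow_one])
  have hZT : Z ≤ (T : Subgroup H) := map_subtype_le _
  -- the centre of `E` is `Z`
  obtain ⟨z, hz, hzc⟩ := XNonSplit.exists_setup hEx
  have hzT : ∀ t ∈ (T : Subgroup H), t * (z : H) * t⁻¹ = z := by
    intro t ht
    have hconj : t * (z : H) * t⁻¹ ∈ E :=
      mem_subgroupOf.1 (hEn.conj_mem ⟨(z : H), hE z.2⟩ (mem_subgroupOf.2 z.2) ⟨t, ht⟩)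
    have hcent : (⟨_, hconj⟩ : ↥E) ∈ center ↥E := mem_center_iff.2 fun x => Subtype.ext (by
      show (x : H) * (t * z * t⁻¹) = t * z * t⁻¹ * x
      have hx' : t⁻¹ * (x : H) * t ∈ E := by
        have := mem_subgroupOf.1 (hEn.conj_mem ⟨(x : H), hE x.2⟩ (mem_subgroupOf.2 x.2) ⟨t, ht⟩⁻¹)
        simpa using this
      have h2 : t⁻¹ * (x : H) * t * z = z * (t⁻¹ * (x : H) * t) :=
        congrArg Subtype.val (mem_center_iff.1 hzc ⟨_, hx'⟩)
      calc (x : H) * (t * z * t⁻¹) = t * (t⁻¹ * x * t * z) * t⁻¹ := by group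
        _ = t * (z * (t⁻¹ * x * t)) * t⁻¹ := by rw [h2]
        _ = _ := by group)
    haveI : Finite (center ↥E) := Nat.finite_of_card_ne_zero (by rw [hEx.2]; norm_num)
    obtain ⟨⟨w, hw⟩, hw1⟩ := (Nat.card_eq_two_iff' (1 : center ↥E)).1 hEx.2
    have hall : ∀ c ∈ center ↥E, c = 1 ∨ c = w := fun c hc => by
      by_cases h : (⟨c, hc⟩ : center ↥E) = 1
      · exact Or.inl (congrArg Subtype.val h)
      · exact Or.inr (congrArg Subtype.val (hw1.2 _ h))
    have hzw := (hall z hzc).resolve_left hz.one_ne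
    rcases hall _ hcent with h | h
    · exfalso
      refine hz.one_ne (Subtype.ext ?_)
      have h' : t * (z : H) * t⁻¹ = 1 := congrArg Subtype.val h
      rw [mul_inv_eq_one, mul_eq_left] at h'
      exact h'
    · rw [← hzw] at h
      exact congrArg Subtype.val h
  have hzZ : (z : H) ∈ Z := ⟨⟨z, hE z.2⟩, mem_center_iff.2 fun t => Subtype.ext (by
    show (t : H) * z = z * t
    exact mul_inv_eq_iff_eq_mul.1 (hzT t t.2)), rfl⟩
  have hZE : Z ≤ E := by
    have hle : zpowers (z : H) ≤ Z := zpowers_le.2 hzZ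
    have ho : orderOf (z : H) = 2 := by
      rw [orderOf_coe]
      exact orderOf_eq_prime (by rw [pow_two, hz.sq]) hz.one_ne
    rw [← eq_of_le_of_card_ge hle (by rw [Nat.card_zpowers, ho, hZ2])]
    exact zpowers_le.2 z.2
  set q := QuotientGroup.mk' Z with hq
  let T' : Sylow 2 (H ⧸ Z) := T.mapSurjective (f := q) (QuotientGroup.mk'_surjective Z)
  -- the Sylow subgroup of the quotient
  let f : ↥(T : Subgroup H) →* ↥((T : Subgroup H).map q) := q.subgroupMap (T : Subgroup H)
  have hfk : f.ker = center ↥(T : Subgroup H) := by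
    ext x
    rw [MonoidHom.mem_ker]
    constructor
    · intro h
      have h1 : q x = 1 := congrArg Subtype.val h
      obtain ⟨y, hy, hyx⟩ := (QuotientGroup.eq_one_iff (N := Z) (x : H)).1 h1
      rwa [← (Subtype.ext hyx : y = x)]
    · intro h
      exact Subtype.ext ((QuotientGroup.eq_one_iff (N := Z) (x : H)).2 ⟨x, h, rfl⟩)
  have hmap : (Subgroup.center ↥(T : Subgroup H)).map e.toMonoidHom = Subgroup.center _ :=
    le_antisymm (map_le_iff_le_comap.2 fun x hx => mem_center_iff.2 fun y => by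
      obtain ⟨y, rfl⟩ := e.surjective y
      show e y * e x = e x * e y
      rw [← map_mul, ← map_mul, mem_center_iff.1 hx y])
      fun x hx => ⟨e.symm x, mem_center_iff.2 fun y => e.injective (by
        rw [map_mul, map_mul, e.apply_symm_apply, mem_center_iff.1 hx (e y)]), e.apply_symm_apply x⟩
  let ψ : ↥((T : Subgroup H).map q) ≃* ↥(P : Subgroup ↥Cfsg.M24) ⧸ center ↥(P : Subgroup ↥Cfsg.M24) :=
    ((QuotientGroup.quotientKerEquivOfSurjective f (q.subgroupMap_surjective _)).symm.trans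
      (QuotientGroup.quotientMulEquivOfEq hfk)).trans (QuotientGroup.congr _ _ e hmap)
  have hA64 : Nat.card ↥(E.map q) = 64 := by
    have h1 := relIndex_ker q (K := E)
    rw [hq, QuotientGroup.ker_mk'] at h1
    have h2 := relIndex_mul_relIndex ⊥ Z E bot_le hZE
    rw [relIndex_bot_left, relIndex_bot_left, hZ2, hE7, h1] at h2
    rw [hq]
    omega
  have hAc : IsMulCommutative ↥(E.map q) := ⟨⟨by
    rintro ⟨_, x, hx, rfl⟩ ⟨_, y, hy, rfl⟩
    refine Subtype.ext (show q x * q y = q y * q x from ?_)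
    rcases hz.comm ⟨x, hx⟩ ⟨y, hy⟩ with h | h
    · rw [← map_mul, ← map_mul, show x * y = y * x from congrArg Subtype.val h]
    · rw [← map_mul, ← map_mul, show x * y = y * x * z from congrArg Subtype.val h, map_mul q (y * x),
        show q (z : H) = 1 from (QuotientGroup.eq_one_iff (N := Z) _).2 hzZ, mul_one]⟩⟩
  have hAT : E.map q ≤ (T' : Subgroup (H ⧸ Z)) := map_mono hE
  have huq : ∀ B : Subgroup (H ⧸ Z), B ≤ (T' : Subgroup (H ⧸ Z)) → IsMulCommutative ↥B →
      Nat.card ↥B = 64 → B = E.map q := by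
    intro B hB hBc hB64
    have key : ∀ C : Subgroup (H ⧸ Z), C ≤ (T : Subgroup H).map q → IsMulCommutative ↥C →
        Nat.card ↥C = 64 →
        (C.subgroupOf ((T : Subgroup H).map q)).map (ψ.trans φ).toMonoidHom = Golay.SylQ.A := by
      intro C hC hCc hC64
      refine Golay.SylQ.abelian_unique _ ⟨⟨?_⟩⟩ ?_
      · rintro ⟨_, a, ha, rfl⟩ ⟨_, b, hb, rfl⟩
        refine Subtype.ext (show (ψ.trans φ) a * (ψ.trans φ) b = (ψ.trans φ) b * (ψ.trans φ) a from ?_)
        rw [← map_mul, ← map_mul]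
        congr 1
        exact Subtype.ext (show (a : H ⧸ Z) * b = b * a from
          haveI := hCc
          congrArg (fun w : ↥C => (w : H ⧸ Z))
            (mul_comm' (⟨a, mem_subgroupOf.1 ha⟩ : ↥C) ⟨b, mem_subgroupOf.1 hb⟩))
      · rw [card_map_of_injective (ψ.trans φ).injective,
          Nat.card_congr (subgroupOfEquivOfLe hC).toEquiv, hC64]
    have h := Subgroup.map_injective (f := (ψ.trans φ).toMonoidHom) (ψ.trans φ).injective
      ((key B hB hBc hB64).trans (key (E.map q) (map_mono hE) hAc hA64).symm)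
    rw [← map_subgroupOf_eq_of_le (show B ≤ (T : Subgroup H).map q from hB), h,
      map_subgroupOf_eq_of_le (map_mono hE)]
  have hn : (E.map q).Normal :=
    S3169.result (HalfClasses.core_quotient_bot hO Z hZp hZc) T' P ⟨ψ⟩ (E.map q) hAT hAc hA64 huq
  have hEc : E = (E.map q).comap q := by
    rw [comap_map_eq, hq, QuotientGroup.ker_mk', sup_eq_left.2 hZE]
  rw [hEc]
  exact hn.comap q

end Cfsg.Agent.S3170
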