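import Cfsg.Statements.S3171
import Cfsg.Agent.Lib.Golay.SylowQuot
-- import your own Cfsg.Agent.* helpers here

set_option autoImplicit false
open Cfsg

namespace Cfsg.Agent.S3171
open Cfsg.Agent.Golay

/-- Let P be a Sylow 2-subgroup of the Mathieu group of degree 24 and S the quotient of P by its centre. Then the centre of every maximal subgroup of S has order at most 8; S has an elementary abelian subgroup of order 64; and S has only one abelian subgroup of order 64. -/
theorem result (P : Sylow 2 ↥Cfsg.M24) :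
    (∀ M : Subgroup (↥(P : Subgroup ↥Cfsg.M24) ⧸ Subgroup.center ↥(P : Subgroup ↥Cfsg.M24)), IsCoatom M →
        Nat.card ↥(Subgroup.center ↥M) ≤ 8) ∧
      (∃ A : Subgroup (↥(P : Subgroup ↥Cfsg.M24) ⧸ Subgroup.center ↥(P : Subgroup ↥Cfsg.M24)),
        Cfsg.IsElementaryAbelian 2 A ∧ Nat.card ↥A = 64) ∧
      ∀ A B : Subgroup (↥(P : Subgroup ↥Cfsg.M24) ⧸ Subgroup.center ↥(P : Subgroup ↥Cfsg.M24)),
        IsMulCommutative ↥A → Nat.card ↥A = 64 → IsMulCommutative ↥B → Nat.card ↥B = 64 → A = B := by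
  classical
  haveI : Fact (Nat.Prime 2) := ⟨Nat.prime_two⟩
  let S₀ : Sylow 2 M24 := Sylow.ofCard (SB.sylS.subgroupOf M24) (by
    rw [Nat.card_congr (Subgroup.subgroupOfEquivOfLe SB.sylS_le).toEquiv, SB.card_sylS, card_M24]
    rw [show (244823040 : ℕ) = 2 ^ 10 * 239085 by norm_num,
      Nat.factorization_mul (by norm_num) (by norm_num), Nat.prime_two.factorization_pow]
    simp only [Finsupp.coe_add, Pi.add_apply, Finsupp.single_eq_same]
    rw [Nat.factorization_eq_zero_of_not_dvd (by norm_num : ¬ 2 ∣ 239085)]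
    norm_num)
  obtain ⟨g, hg⟩ := MulAction.exists_smul_eq ↥M24 P S₀
  let e : ↥(P : Subgroup ↥M24) ≃* ↥SB.sylS :=
    (P.equiv S₀).trans ((MulEquiv.subgroupCongr (by rw [Sylow.coe_ofCard])).trans
      (Subgroup.subgroupOfEquivOfLe SB.sylS_le))
  have hmap : (Subgroup.center ↥(P : Subgroup ↥M24)).map e.toMonoidHom = Subgroup.center ↥SB.sylS :=
    le_antisymm (Subgroup.map_le_iff_le_comap.2 fun x hx => Subgroup.mem_center_iff.2 fun y => by
      obtain ⟨y, rfl⟩ := e.surjective y
      show e y * e x = e x * e y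
      rw [← map_mul, ← map_mul, Subgroup.mem_center_iff.1 hx y])
      fun x hx => ⟨e.symm x, Subgroup.mem_center_iff.2 fun y => e.injective (by
        rw [map_mul, map_mul, e.apply_symm_apply, Subgroup.mem_center_iff.1 hx (e y)]), e.apply_symm_apply x⟩
  let φ : ↥(P : Subgroup ↥M24) ⧸ Subgroup.center ↥(P : Subgroup ↥M24) ≃* SylQ.Q :=
    QuotientGroup.congr _ _ e hmap
  refine ⟨fun M hM => ?_, ⟨SylQ.A.map φ.symm.toMonoidHom, ?_, ?_⟩, fun A B hA hA' hB hB' => ?_⟩
  · have hM' : IsCoatom (M.map φ.toMonoidHom) := (φ.mapSubgroup.isCoatom_iff M).2 hM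
    refine le_of_eq_of_le ?_ (SylQ.center_small _ hM')
    exact Nat.card_congr (Subgroup.centerCongr (φ.subgroupMap M)).toEquiv
  · obtain ⟨hc, hp⟩ := SylQ.A_elementary
    refine ⟨inferInstance, ?_⟩
    rintro _ ⟨x, hx, rfl⟩
    rw [← map_pow, hp x hx, map_one]
  · exact (Nat.card_congr (Subgroup.equivMapOfInjective SylQ.A φ.symm.toMonoidHom φ.symm.injective).toEquiv).symm.trans SylQ.card_A
  · have key : ∀ C : Subgroup (↥(P : Subgroup ↥M24) ⧸ Subgroup.center ↥(P : Subgroup ↥M24)),
        IsMulCommutative ↥C → Nat.card ↥C = 64 → C.map φ.toMonoidHom = SylQ.A := fun C hC hC' =>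
      SylQ.abelian_unique _ (haveI := hC; inferInstance)
        ((Nat.card_congr (Subgroup.equivMapOfInjective C φ.toMonoidHom φ.injective).toEquiv).symm.trans hC')
    exact Subgroup.map_injective φ.injective ((key A hA hA').trans (key B hB hB').symm)

end Cfsg.Agent.S3171
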