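import Cfsg.Statements.S3174
import Cfsg.Agent.Lib.TwoGroups.ZFourStructure

set_option autoImplicit false
open Cfsg

namespace Cfsg.Agent.S3174


/-- Let T be a finite 2-group of order at least 2^14 in which the fourth term of the upper central series has order 16. Let W be the centralizer in T of the third term Z₃(T), and suppose the Frattini subgroup of W has order at most 8 and lies in every subgroup of W of index at most 16. Then T has order exactly 2^14; the derived subgroup of W and the Frattini subgroup of W both equal Z₃(T), which is elementary abelian of order 8; the centre of W has order 8; W is normal in T with quotient dihedral of order 8; and W modulo its derived subgroup is elementary abelian of order 2^8. -/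
theorem result {T : Type*} [Group T] [Finite T]
    (hT : IsPGroup 2 T) (ha : 2 ^ 14 ≤ Nat.card T) (hb : Nat.card ↥(Subgroup.upperCentralSeries T 4) = 16)
    (W : Subgroup T) (hW : W = Subgroup.centralizer ((Subgroup.upperCentralSeries T 3 : Subgroup T) : Set T))
    (hc : Nat.card ↥(frattini ↥W) ≤ 8) (hd : ∀ U : Subgroup ↥W, U.index ≤ 16 → frattini ↥W ≤ U) :
    Nat.card T = 2 ^ 14 ∧
      (commutator ↥W).map W.subtype = Subgroup.upperCentralSeries T 3 ∧
      (frattini ↥W).map W.subtype = Subgroup.upperCentralSeries T 3 ∧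
      Nat.card ↥(Subgroup.center ↥W) = 8 ∧
      Nat.card ↥(Subgroup.upperCentralSeries T 3) = 8 ∧ (∀ z ∈ Subgroup.upperCentralSeries T 3, z ^ 2 = 1) ∧
      (∃ (_ : W.Normal), Nonempty (T ⧸ W ≃* DihedralGroup 4)) ∧
      Nat.card (↥W ⧸ commutator ↥W) = 2 ^ 8 ∧ (∀ x : ↥W ⧸ commutator ↥W, x ^ 2 = 1) := by
  have h := Cfsg.Agent.ZFour.of_frattini hT ha hb hW hc hd
  obtain ⟨hF8, -, hT14, hW11, hF3, -, -⟩ := h.model
  have hcomm : (commutator ↥W).map W.subtype = Subgroup.upperCentralSeries T 3 := by
    rw [Subgroup.map_subtype_commutator, h.commutator_eq, hF3]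
  haveI := h.wnormal
  obtain ⟨-, -, hdih⟩ := h.exists_dihedral
  refine ⟨hT14, hcomm, hF3, ?_, by rw [← hF3, hF8], fun z hz => ?_, ⟨inferInstance, hdih⟩, ?_, fun x => ?_⟩
  · rw [← Subgroup.card_map_of_injective W.subtype_injective (K := Subgroup.center ↥W), h.center_map, hF8]
  · rw [pow_two]
    exact h.f_elem (hF3.ge hz)
  · have h1 := Subgroup.card_mul_index (commutator ↥W)
    rw [← Subgroup.card_map_of_injective W.subtype_injective (K := commutator ↥W), hcomm, ← hF3, hF8, hW11] at h1
    change (commutator ↥W).index = _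
    omega
  · obtain ⟨x, rfl⟩ := QuotientGroup.mk_surjective x
    rw [← QuotientGroup.mk_pow, QuotientGroup.eq_one_iff]
    have h2 : ((x ^ 2 : W) : T) ∈ (commutator ↥W).map W.subtype := by
      rw [hcomm, ← hF3, Subgroup.coe_pow, pow_two]
      exact h.fsq _ x.2
    obtain ⟨y, hy, hxy⟩ := h2
    exact (Subtype.ext hxy : y = x ^ 2) ▸ hy

end Cfsg.Agent.S3174
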