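import Cfsg.Statements.S3175
import Cfsg.Agent.Lib.TwoGroups.ZFourWeak
import Cfsg.Agent.Lib.TwoGroups.ZFourAuto

set_option autoImplicit false
open Cfsg

namespace Cfsg.Agent.S3175


/-- Let G be a finite group whose Sylow 2-subgroup T has order at least 2^14 and whose upper central series has fourth term of order 16; let W be the centralizer in T of the third term, and suppose the Frattini subgroup of W has order at most 8 and lies in every subgroup of W of index at most 16. Then the normalizer of T in G has a normal 2-complement, and W is weakly closed in T with respect to G. -/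
theorem result {G : Type*} [Group G] [Finite G]
    (T : Sylow 2 G) (ha : 2 ^ 14 ≤ Nat.card ↥(T : Subgroup G))
    (hb : Nat.card ↥(Subgroup.upperCentralSeries ↥(T : Subgroup G) 4) = 16)
    (W : Subgroup ↥(T : Subgroup G))
    (hW : W = Subgroup.centralizer ((Subgroup.upperCentralSeries ↥(T : Subgroup G) 3 : Subgroup ↥(T : Subgroup G)) : Set ↥(T : Subgroup G)))
    (hc : Nat.card ↥(frattini ↥W) ≤ 8)
    (hd : ∀ U : Subgroup ↥W, U.index ≤ 16 → frattini ↥W ≤ U) :
    Cfsg.HasNormalPComplement 2 ↥(Subgroup.normalizer ((T : Subgroup G) : Set G)) ∧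
      Cfsg.IsWeaklyClosed (W.map (T : Subgroup G).subtype) (T : Subgroup G) := by
  have h := Cfsg.Agent.ZFour.of_frattini T.isPGroup' ha hb hW hc hd
  refine ⟨?_, Subgroup.map_subtype_le _, fun g hg => ?_⟩
  · set N := Subgroup.normalizer ((T : Subgroup G) : Set G) with hN
    have hle : (T : Subgroup G) ≤ N := Subgroup.le_normalizer
    let PN : Sylow 2 N := T.subtype hle
    haveI : Fact (Nat.Prime 2) := ⟨Nat.prime_two⟩
    haveI hPn : (PN : Subgroup N).Normal := by
      rw [Sylow.coe_subtype]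
      exact Subgroup.normal_subgroupOf_iff_le_normalizer hle |>.2 le_rfl
    obtain ⟨H, hH⟩ := Subgroup.exists_left_complement'_of_coprime (N := (PN : Subgroup N)) PN.card_coprime_index
    have hcop : Nat.Coprime (Nat.card H) (Nat.card ↥(T : Subgroup G)) := by
      have h1 := PN.card_coprime_index
      rw [hH.index_eq_card, Sylow.coe_subtype, Nat.card_congr (Subgroup.subgroupOfEquivOfLe hle).toEquiv] at h1
      exact h1.symm
    have hcent : ∀ x ∈ H, ∀ t : ↥(T : Subgroup G), (x : G) * t * (x : G)⁻¹ = t := by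
      intro x hx t
      have hx' : ∀ s : G, s ∈ (T : Subgroup G) → (x : G) * s * (x : G)⁻¹ ∈ (T : Subgroup G) := fun s hs =>
        (Subgroup.mem_normalizer_iff.1 x.2 s).1 hs
      let α : ↥(T : Subgroup G) ≃* ↥(T : Subgroup G) :=
        { toFun := fun s => ⟨(x : G) * s * (x : G)⁻¹, hx' s s.2⟩
          invFun := fun s => ⟨(x : G)⁻¹ * s * (x : G), (Subgroup.mem_normalizer_iff''.1 x.2 s).1 s.2⟩
          left_inv := fun s => Subtype.ext (show (x : G)⁻¹ * ((x : G) * s * (x : G)⁻¹) * (x : G) = s by group)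
          right_inv := fun s => Subtype.ext (show (x : G) * ((x : G)⁻¹ * s * (x : G)) * (x : G)⁻¹ = s by group)
          map_mul' := fun a b => Subtype.ext (show (x : G) * ((a : G) * b) * (x : G)⁻¹ =
            (x : G) * a * (x : G)⁻¹ * ((x : G) * b * (x : G)⁻¹) by group) }
      have hit : ∀ (k : ℕ) (s : ↥(T : Subgroup G)), ((α^[k] s : ↥(T : Subgroup G)) : G) = (x : G) ^ k * s * ((x : G) ^ k)⁻¹ := by
        intro k s
        induction k with
        | zero => simp
        | succ k ih =>
          rw [Function.iterate_succ_apply']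
          change (x : G) * ((α^[k] s : ↥(T : Subgroup G)) : G) * (x : G)⁻¹ = _
          rw [ih, pow_succ']
          group
      have hxn : (x : G) ^ Nat.card H = 1 :=
        congrArg (fun y : H => ((y : N) : G)) (pow_card_eq_one' (G := H) (x := ⟨x, hx⟩))
      exact congrArg Subtype.val (h.auto_trivial α hcop (fun s => Subtype.ext (by rw [hit, hxn]; group)) t)
    refine ⟨PN, H, ⟨fun y hy g => ?_⟩, hH⟩
    obtain ⟨⟨a, b⟩, hab⟩ := hH.2 g
    have hab' : (a : N) * (b : N) = g := hab
    have hbm : ((b : N) : G) ∈ (T : Subgroup G) := b.2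
    have hcomm : (b : N) * y * (b : N)⁻¹ = y := by
      apply Subtype.ext
      have := hcent y hy ⟨_, hbm⟩
      simp only [Subgroup.coe_mul, Subgroup.coe_inv] at this ⊢
      rw [← mul_inv_eq_iff_eq_mul.1 this, mul_inv_cancel_right]
    rw [← hab', show (a : N) * b * y * ((a : N) * b)⁻¹ = a * ((b : N) * y * (b : N)⁻¹) * (a : N)⁻¹ by group, hcomm]
    exact H.mul_mem (H.mul_mem a.2 hy) (H.inv_mem a.2)
  · let φ : W →* ↥(T : Subgroup G) := MonoidHom.mk'
      (fun w => ⟨g * ((w : ↥(T : Subgroup G)) : G) * g⁻¹, hg ⟨_, ⟨(w : ↥(T : Subgroup G)), w.2, rfl⟩, rfl⟩⟩)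
      fun a b => Subtype.ext (show g * (((a : ↥(T : Subgroup G)) : G) * ((b : ↥(T : Subgroup G)) : G)) * g⁻¹ =
        g * ((a : ↥(T : Subgroup G)) : G) * g⁻¹ * (g * ((b : ↥(T : Subgroup G)) : G) * g⁻¹) by group)
    have hφ : Function.Injective φ := fun a b e => by
      have e' : g * ((a : ↥(T : Subgroup G)) : G) * g⁻¹ = g * ((b : ↥(T : Subgroup G)) : G) * g⁻¹ := congrArg Subtype.val e
      exact Subtype.ext (Subtype.ext (mul_left_cancel (mul_right_cancel e')))
    conv_rhs => rw [← h.weak φ hφ]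
    ext z
    constructor
    · rintro ⟨_, ⟨w, hw, rfl⟩, rfl⟩
      exact ⟨φ ⟨w, hw⟩, ⟨⟨w, hw⟩, rfl⟩, rfl⟩
    · rintro ⟨_, ⟨w, rfl⟩, rfl⟩
      exact ⟨_, ⟨(w : ↥(T : Subgroup G)), w.2, rfl⟩, rfl⟩

end Cfsg.Agent.S3175
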