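import Cfsg.Statements.S3177
import Cfsg.Agent.Lib.UType.Main
import Cfsg.Agent.Lib.SEBender.Core
import Cfsg.Agent.Lib.Solvable.PSeries

set_option autoImplicit false
open Cfsg

namespace Cfsg.Agent.S3177

/-- Let n ≥ 3 and let G be a finite group whose Sylow 2-subgroups are isomorphic to those of PSU(3, 2^n), realised over the field with 4^n elements. Then either G is solvable of 2-length at most one, or the quotient of G by its largest normal subgroup of odd order has a normal subgroup of odd index isomorphic to PSU(3, 2^n). -/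
theorem result {G : Type*} [Group G] [Finite G]
    (n : ℕ) (hn : 3 ≤ n) {F : Type*} [Field F] [Fintype F] (hF : Fintype.card F = 4 ^ n)
    (S : Sylow 2 G) (P : Sylow 2 (Cfsg.PSU 3 F (2 ^ n)))
    (hS : Nonempty (↥(S : Subgroup G) ≃* ↥(P : Subgroup (Cfsg.PSU 3 F (2 ^ n))))) :
    (Group.IsSolvable G ∧ Cfsg.PLengthLE 2 1 G) ∨
      ∃ N : Subgroup (G ⧸ Cfsg.oddCore G), N.Normal ∧ Odd N.index ∧ Nonempty (↥N ≃* Cfsg.PSU 3 F (2 ^ n)) := by
  haveI : Fact (Nat.Prime 2) := ⟨Nat.prime_two⟩
  have hF' : Fintype.card F = (2 ^ n) ^ 2 := by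
    rw [hF, show (4 : ℕ) = 2 ^ 2 from rfl, ← pow_mul, ← pow_mul, mul_comm]
  obtain ⟨e⟩ := hS
  haveI := FittingCores.pPrimeCore_normal (G := G) 2
  set O := Cfsg.oddCore G with hO
  set f := QuotientGroup.mk' O with hf
  have hfs : Function.Surjective f := QuotientGroup.mk'_surjective O
  have hk : Odd (Nat.card f.ker) := by rw [hf, QuotientGroup.ker_mk']; exact SEBrick.oddCore_odd
  have hU := (UType.UT.of_psu hn hF' S P e).quot f hfs hk
  have hO' : Cfsg.oddCore (G ⧸ O) = ⊥ := FittingCores.pPrimeCore_quotient_eq_bot 2 O hO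
  rcases hU.res hO' with ⟨R, hR⟩ | ⟨R, hse, -⟩
  · left
    haveI : Group.IsSolvable (G ⧸ O) := UType.solvable_of_sylow_normal R hR
    haveI : Group.IsSolvable O := OddChar.oddSolvable _ SEBrick.oddCore_odd
    refine ⟨Group.isSolvable_of_ker_le_range O.subtype f (by rw [hf, QuotientGroup.ker_mk', Subgroup.range_subtype]), ?_⟩
    have hSU : (S : Subgroup G) ≤ PSeries.U 2 G 2 := fun s hs => by
      rw [PSeries.U_two]
      haveI : Subsingleton (Sylow 2 (G ⧸ O)) := (Sylow.unique_of_normal R hR).instSubsingleton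
      refine PBasic.le_pCore hR R.isPGroup' ?_
      show f s ∈ (R : Subgroup (G ⧸ O))
      rw [← Subsingleton.elim (S.mapSurjective hfs) R, Sylow.coe_mapSurjective]
      exact Subgroup.mem_map_of_mem f hs
    rw [PSeries.pLengthLE_succ_iff, PSeries.pLengthLE_zero_iff, ← Subgroup.index_eq_card]
    exact ((Nat.prime_two.coprime_iff_not_dvd).2 fun h =>
      S.not_dvd_index (h.trans (Subgroup.index_dvd_of_le hSU))).symm
  · right
    haveI := UType.solvable_normalizer R
    have hinj : Set.InjOn f (S : Subgroup G) := SESolv.injOn_of_two f hk S.isPGroup'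
    have e' : ↥((S.mapSurjective hfs : Sylow 2 (G ⧸ O)) : Subgroup (G ⧸ O)) ≃* ↥(S : Subgroup G) :=
      (MulEquiv.subgroupCongr (Sylow.coe_mapSurjective hfs S)).trans (MulEquiv.ofBijective (f.subgroupMap (S : Subgroup G))
        ⟨fun a b h => Subtype.ext (hinj a.2 b.2 (congrArg Subtype.val h)), f.subgroupMap_surjective _⟩).symm
    refine SEBender.psu_of_se_two hse hO' (N := (R : Subgroup (G ⧸ O))) Subgroup.le_normalizer R.isPGroup' ?_
      (fun g hg x hx => SEBrick.conj_mem_of hg hx) (S.mapSurjective hfs) (by omega : 2 ≤ n) hF' P ⟨e'.trans e⟩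
    intro hb
    have h1 := hU.card R
    rw [hb, Subgroup.card_bot] at h1
    have h2 := hU.eight
    nlinarith [Nat.mul_le_mul h2 h2]

end Cfsg.Agent.S3177
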