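import Cfsg.Statements.S3178
import Cfsg.Agent.Lib.Transfer.Fusion
import Cfsg.Agent.Lib.Techniques.CharP

set_option autoImplicit false
open Cfsg

namespace Cfsg.Agent.S3178

lemma pow_conj_eq_self {G : Type*} [Group G] {g x y : G} (hg : Odd (orderOf g))
    (h1 : g * x * g⁻¹ = y) (h2 : g * y * g⁻¹ = x) : g * x * g⁻¹ = x := by
  obtain ⟨m, hm⟩ := hg
  have h : ∀ k : ℕ, g ^ (2 * k) * x * (g ^ (2 * k))⁻¹ = x := by
    intro k
    induction k with
    | zero => simp
    | succ k ih =>
      calc g ^ (2 * (k + 1)) * x * (g ^ (2 * (k + 1)))⁻¹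
          = g * (g * (g ^ (2 * k) * x * (g ^ (2 * k))⁻¹) * g⁻¹) * g⁻¹ := by
            rw [show 2 * (k + 1) = 2 * k + 1 + 1 by ring, pow_succ', pow_succ']; group
        _ = x := by rw [ih, h1, h2]
  have h3 := h m
  have h4 : g ^ (2 * m) = g⁻¹ := by
    apply eq_inv_of_mul_eq_one_left
    rw [← pow_succ, ← hm, pow_orderOf_eq_one]
  rw [h4, inv_inv] at h3
  calc g * x * g⁻¹ = g * (g⁻¹ * x * g) * g⁻¹ := by rw [h3]
    _ = x := by group


/-- Groups with a modular Sylow 2-subgroup have a normal 2-complement. Let S, of order 2^(n+1) with n ≥ 3, be a Sylow 2-subgroup of a finite group G, and suppose S contains an element a of order 2^n and an involution b with b a b⁻¹ = a^(2^(n-1) + 1); so S is the non-abelian 2-group with a cyclic subgroup of index 2 that is neither dihedral, semidihedral nor generalized quaternion. Then G has a normal 2-complement. -/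
theorem result {G : Type*} [Group G] [Finite G]
    (S : Sylow 2 G) (n : ℕ) (hn : 3 ≤ n) (hS : Nat.card ↥(S : Subgroup G) = 2 ^ (n + 1))
    (a b : G) (ha : a ∈ (S : Subgroup G)) (hb : b ∈ (S : Subgroup G))
    (hao : orderOf a = 2 ^ n) (hbo : orderOf b = 2) (hrel : b * a * b⁻¹ = a ^ (2 ^ (n - 1) + 1)) :
    Cfsg.HasNormalPComplement 2 G := by
  haveI : Fact (Nat.Prime 2) := ⟨Nat.prime_two⟩
  classical
  set z := a ^ (2 ^ (n - 1)) with hz
  have hn1 : 2 ^ n = 2 * 2 ^ (n - 1) := by conv_lhs => rw [show n = (n - 1) + 1 by omega, pow_succ']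
  have hn2 : 2 ^ (n - 1) = 2 * 2 ^ (n - 2) := by
    conv_lhs => rw [show n - 1 = (n - 2) + 1 by omega, pow_succ']
  have hn3 : 2 ^ (n - 2) = 2 * 2 ^ (n - 3) := by
    conv_lhs => rw [show n - 2 = (n - 3) + 1 by omega, pow_succ']
  have hz2 : z * z = 1 := by
    rw [hz, ← pow_add, show 2 ^ (n - 1) + 2 ^ (n - 1) = 2 ^ n by omega, ← hao, pow_orderOf_eq_one]
  have hz1 : z ≠ 1 := fun h => by
    have := Nat.le_of_dvd (by positivity) (hao ▸ orderOf_dvd_of_pow_eq_one h)
    have : 0 < 2 ^ (n - 1) := by positivity
    omega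
  have hb2 : b * b = 1 := by rw [← pow_two, ← hbo, pow_orderOf_eq_one]
  have hbi : b⁻¹ = b := inv_eq_of_mul_eq_one_right hb2
  have hzS : z ∈ (S : Subgroup G) := pow_mem ha _
  have hazc : ∀ i : ℕ, z * a ^ i = a ^ i * z := fun i => by rw [hz, ← pow_add, ← pow_add, add_comm]
  have hrel' : b * a * b⁻¹ = a * z := by rw [hrel, hz, pow_succ']
  have hba : ∀ i : ℕ, b * a ^ i = a ^ i * z ^ i * b := fun i => by
    rw [← (show Commute a z from (by simpa using (hazc 1).symm : a * z = z * a)).mul_pow, ← hrel', conj_pow]; group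
  have hzb : z * b = b * z := by
    rw [hz, hba, hz, ← pow_mul]
    congr 1
    rw [show a ^ (2 ^ (n - 1) * 2 ^ (n - 1)) = 1 by
      rw [← orderOf_dvd_iff_pow_eq_one, hao, ← pow_add]; exact pow_dvd_pow 2 (by omega), mul_one]
  have zpar : ∀ i : ℕ, z ^ i = if Even i then 1 else z := by
    intro i
    induction i with
    | zero => simp
    | succ i ih =>
      rw [pow_succ, ih]
      by_cases h : Even i <;> simp [h, Nat.even_add_one, hz2]
  -- normal form
  have hform : ∀ x ∈ (S : Subgroup G), ∃ i : ℕ, x = a ^ i ∨ x = a ^ i * b := by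
    set T : Subgroup G :=
      { carrier := {x | ∃ i : ℕ, x = a ^ i ∨ x = a ^ i * b}
        one_mem' := ⟨0, Or.inl (pow_zero a).symm⟩
        mul_mem' := by
          rintro x y ⟨i, rfl | rfl⟩ ⟨j, rfl | rfl⟩
          · exact ⟨i + j, Or.inl (pow_add a i j).symm⟩
          · exact ⟨i + j, Or.inr (by rw [pow_add, mul_assoc])⟩
          · refine ⟨i + j + 2 ^ (n - 1) * j, Or.inr ?_⟩
            rw [mul_assoc, hba, hz, ← pow_mul, pow_add, pow_add]; group
          · refine ⟨i + j + 2 ^ (n - 1) * j, Or.inl ?_⟩
            rw [mul_assoc (a ^ i), ← mul_assoc b, hba, mul_assoc _ b b, hb2, mul_one, hz, ← pow_mul,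
              pow_add, pow_add]; group
        inv_mem' := by
          intro x hx
          obtain ⟨i, rfl | rfl⟩ := hx
          · exact ⟨(2 ^ n - 1) * i, Or.inl (by
              apply inv_eq_of_mul_eq_one_right
              rw [← pow_add, ← orderOf_dvd_iff_pow_eq_one, hao]
              refine ⟨i, ?_⟩
              have : 1 ≤ 2 ^ n := Nat.one_le_two_pow
              calc i + (2 ^ n - 1) * i = ((2 ^ n - 1) + 1) * i := by ring
                _ = 2 ^ n * i := by rw [Nat.sub_add_cancel this])⟩
          · refine ⟨(2 ^ n - 1) * i + 2 ^ (n - 1) * ((2 ^ n - 1) * i), Or.inr ?_⟩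
            have hi : (a ^ i)⁻¹ = a ^ ((2 ^ n - 1) * i) := by
              apply inv_eq_of_mul_eq_one_right
              rw [← pow_add, ← orderOf_dvd_iff_pow_eq_one, hao]
              refine ⟨i, ?_⟩
              have : 1 ≤ 2 ^ n := Nat.one_le_two_pow
              calc i + (2 ^ n - 1) * i = ((2 ^ n - 1) + 1) * i := by ring
                _ = 2 ^ n * i := by rw [Nat.sub_add_cancel this]
            rw [mul_inv_rev, hi, hbi, hba, hz, ← pow_mul, pow_add]}
    have haT : a ∈ T := ⟨1, Or.inl (pow_one a).symm⟩
    have hbT : b ∈ T := ⟨0, Or.inr (by rw [pow_zero, one_mul])⟩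
    have hle : Subgroup.zpowers a ⊔ Subgroup.zpowers b ≤ (S : Subgroup G) :=
      sup_le (Subgroup.zpowers_le.2 ha) (Subgroup.zpowers_le.2 hb)
    set M := Subgroup.zpowers a ⊔ Subgroup.zpowers b
    have hbA : b ∉ Subgroup.zpowers a := fun h => by
      obtain ⟨k, rfl⟩ := Subgroup.mem_zpowers_iff.1 h
      have h1 : a ^ k * a * (a ^ k)⁻¹ = a := by group
      rw [hrel'] at h1
      exact hz1 (by simpa using h1)
    have hMS : M = (S : Subgroup G) := by
      refine Subgroup.eq_of_le_of_card_ge hle ?_
      have h1 : Nat.card (Subgroup.zpowers a) ∣ Nat.card M := Subgroup.card_dvd_of_le le_sup_left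
      obtain ⟨c, hc⟩ := h1
      rw [Nat.card_zpowers, hao] at hc
      rw [hS, hc, pow_succ]
      refine Nat.mul_le_mul_left _ ?_
      rcases Nat.lt_or_ge c 2 with hlt | hge
      · exfalso
        interval_cases c
        · exact Nat.card_pos.ne' (hc.trans (mul_zero _))
        · refine hbA ?_
          have hEq : Subgroup.zpowers a = M := Subgroup.eq_of_le_of_card_ge le_sup_left
            (by rw [hc, mul_one, Nat.card_zpowers, hao])
          rw [hEq]; exact Subgroup.mem_sup_right (Subgroup.mem_zpowers b)
      · exact hge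
    intro x hx
    have : M ≤ T := sup_le (Subgroup.zpowers_le.2 haT) (Subgroup.zpowers_le.2 hbT)
    exact this (hMS.symm ▸ hx)
  have hzC : ∀ x ∈ (S : Subgroup G), z * x = x * z := by
    intro x hx
    obtain ⟨i, rfl | rfl⟩ := hform x hx
    · exact hazc i
    · rw [← mul_assoc, hazc, mul_assoc, hzb, ← mul_assoc]
  have hbc : ∀ i : ℕ, b * a ^ i = a ^ i * b * z ^ i := fun i => by
    rw [hba, mul_assoc, (show Commute (z ^ i) b from (show Commute z b from hzb).pow_left i).eq,
      ← mul_assoc]
  have hsq : ∀ x ∈ (S : Subgroup G), ∃ j : ℕ, x * x = a ^ j := by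
    intro x hx
    obtain ⟨i, rfl | rfl⟩ := hform x hx
    · exact ⟨i + i, (pow_add a i i).symm⟩
    · refine ⟨i + i + 2 ^ (n - 1) * i, ?_⟩
      rw [mul_assoc (a ^ i), ← mul_assoc b, hba, mul_assoc _ b b, hb2, mul_one, hz, ← pow_mul,
        pow_add, pow_add]; group
  have hcomm : ∀ x ∈ (S : Subgroup G), ∀ w ∈ (S : Subgroup G), x * w = w * x ∨ x * w = w * x * z := by
    intro x hx w hw
    obtain ⟨i, rfl | rfl⟩ := hform x hx <;> obtain ⟨j, rfl | rfl⟩ := hform w hw
    · exact Or.inl (by rw [← pow_add, ← pow_add, add_comm])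
    · rcases Nat.even_or_odd i with he | he
      · left; rw [mul_assoc (a ^ j), hbc, zpar, if_pos he, mul_one, ← mul_assoc, ← mul_assoc,
          ← pow_add, ← pow_add, add_comm]
      · right
        rw [mul_assoc (a ^ j), hbc, zpar, if_neg (Nat.not_even_iff_odd.2 he)]
        simp only [← mul_assoc]
        rw [mul_assoc _ z z, hz2, mul_one, ← pow_add, ← pow_add, add_comm]
    · rcases Nat.even_or_odd j with he | he
      · left; rw [mul_assoc (a ^ i), hbc, zpar, if_pos he, mul_one, ← mul_assoc, ← mul_assoc,
          ← pow_add, ← pow_add, add_comm]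
      · right; rw [mul_assoc (a ^ i), hbc, zpar, if_neg (Nat.not_even_iff_odd.2 he), ← mul_assoc,
          ← mul_assoc, ← mul_assoc, ← pow_add, ← pow_add, add_comm]
    · have e : ∀ i j : ℕ, a ^ i * b * (a ^ j * b) = a ^ (i + j) * z ^ j := fun i j => by
        rw [mul_assoc (a ^ i), ← mul_assoc b, hba, mul_assoc _ b b, hb2, mul_one, ← mul_assoc, ← pow_add]
      rw [e i j, e j i, add_comm j i]
      simp only [zpar]
      by_cases h1 : Even i <;> by_cases h2 : Even j <;>
        simp [h1, h2, mul_assoc, hz2]
  have heven : ∀ x ∈ (S : Subgroup G), x ^ 4 = 1 → ∃ i : ℕ, Even i ∧ (x = a ^ i ∨ x = a ^ i * b) := by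
    intro x hx h4
    obtain ⟨i, hxi⟩ := hform x hx
    refine ⟨i, ?_, hxi⟩
    have key : a ^ (4 * i) = 1 := by
      rcases hxi with rfl | rfl
      · rw [mul_comm, pow_mul]; exact h4
      · have e : (a ^ i * b) * (a ^ i * b) = a ^ (i + i) * z ^ i := by
          rw [mul_assoc (a ^ i), ← mul_assoc b, hba, mul_assoc _ b b, hb2, mul_one, ← mul_assoc, ← pow_add]
        rw [show 4 = 2 * 2 from rfl, pow_mul, pow_two, pow_two (a ^ i * b), e] at h4
        rw [mul_assoc, ← mul_assoc (z ^ i), ((show Commute z (a ^ (i + i)) from hazc _).pow_left i).eq,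
          mul_assoc, ← pow_add, ← two_mul i, pow_mul z, pow_two, hz2, one_pow, mul_one, ← pow_add] at h4
        rw [show 4 * i = 2 * i + 2 * i by ring]; exact h4
    have h8 : (8 : ℕ) ∣ 2 ^ n := (pow_dvd_pow 2 hn : 2 ^ 3 ∣ 2 ^ n)
    have := h8.trans (hao ▸ orderOf_dvd_of_pow_eq_one key)
    rw [Nat.even_iff]; omega
  have hinv : ∀ x ∈ (S : Subgroup G), x * x = 1 → x = 1 ∨ x = z ∨ x = b ∨ x = z * b := by
    intro x hx hx2
    obtain ⟨i, hi, hxi⟩ := heven x hx (by
      rw [show 4 = 2 * 2 from rfl, pow_mul, pow_two x, hx2, one_pow])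
    have h1 : a ^ (i + i) = 1 := by
      rcases hxi with rfl | rfl
      · rw [pow_add]; exact hx2
      · rw [mul_assoc (a ^ i), ← mul_assoc b, hba, mul_assoc _ b b, hb2, mul_one, zpar, if_pos hi,
          mul_one, ← pow_add] at hx2
        exact hx2
    have h2 : 2 ^ (n - 1) ∣ i := by
      have := hao ▸ orderOf_dvd_of_pow_eq_one h1
      rw [hn1, ← two_mul] at this
      exact Nat.dvd_of_mul_dvd_mul_left two_pos this
    obtain ⟨k, rfl⟩ := h2
    rw [pow_mul, ← hz, zpar] at hxi
    split_ifs at hxi <;> rcases hxi with h | h <;> simp [h]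
  -- the centralizer of `b` in `S`
  set A := (S : Subgroup G) ⊓ Subgroup.centralizer ({b} : Set G) with hA
  have hmemA : ∀ x, x ∈ A ↔ x ∈ (S : Subgroup G) ∧ x * b = b * x := fun x => by
    rw [hA, Subgroup.mem_inf, Subgroup.mem_centralizer_singleton_iff]
  have hAcard : 2 * Nat.card A = Nat.card (S : Subgroup G) := by
    have hidx : (A.subgroupOf (S : Subgroup G)).index = 2 := by
      refine Subgroup.index_eq_two_iff.2 ⟨⟨a, ha⟩, fun ⟨x, hx⟩ => ?_⟩
      simp only [Subgroup.mem_subgroupOf, Subgroup.coe_mul, hmemA]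
      obtain ⟨i, hxi⟩ := hform x hx
      have hpar : x * b = b * x ↔ Even i := by
        have hne : ∀ w : G, w * z ≠ w := fun w h => hz1 (by simpa using h)
        rcases hxi with rfl | rfl
        · rw [hbc, zpar]
          split_ifs with h
          · exact iff_of_true (by rw [mul_one]) h
          · exact iff_of_false (fun e => hne _ e.symm) h
        · rw [← mul_assoc b, hbc, zpar]
          split_ifs with h
          · exact iff_of_true (by rw [mul_one]) h
          · refine iff_of_false (fun e => hne (a ^ i * b) (mul_right_cancel e).symm) h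
      have hax : a * b ≠ b * a := fun h => hz1 (by
        have := hrel'
        rw [← h, mul_inv_cancel_right] at this
        simpa using this)
      have hxa : x * a * b = b * (x * a) ↔ ¬ Even i := by
        constructor
        · intro e he
          apply hax
          have h' := hpar.2 he
          apply mul_left_cancel (a := x)
          rw [← mul_assoc, e, ← mul_assoc, ← h', mul_assoc]
        · intro he
          have h1 : b * x = x * b * z := by
            rcases hxi with rfl | rfl
            · rw [hbc, zpar, if_neg he]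
            · rw [← mul_assoc b, hbc, zpar, if_neg he, mul_assoc _ z b, hzb, ← mul_assoc]
          have h2 : b * a = a * b * z := by simpa using hbc 1
          rw [← mul_assoc b, h1, mul_assoc (x * b) z a, show z * a = a * z by simpa using hazc 1,
            ← mul_assoc, mul_assoc x b a, h2, ← mul_assoc, ← mul_assoc, mul_assoc _ z z, hz2, mul_one]
      by_cases he : Even i
      · exact Or.inr ⟨⟨hx, hpar.2 he⟩, fun h => (hxa.1 h.2) he⟩
      · exact Or.inl ⟨⟨mul_mem hx ha, hxa.2 he⟩, fun h => he (hpar.1 h.2)⟩
    have h1 := (A.subgroupOf (S : Subgroup G)).card_mul_index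
    rw [hidx, Nat.card_congr (Subgroup.subgroupOfEquivOfLe (inf_le_left : A ≤ _)).toEquiv] at h1
    rw [← hA] at h1; omega
  have hzA : z ∈ A := (hmemA z).2 ⟨hzS, hzb⟩
  have hbne : b ≠ 1 := fun h => by rw [h, orderOf_one] at hbo; norm_num at hbo
  have hzbne : z ≠ b := fun h => hz1 (by
    have e : b * a * b⁻¹ = a := by
      rw [← h, show z * a = a * z by simpa using hazc 1, mul_inv_cancel_right]
    rw [hrel'] at e
    simpa using e)
  -- elements normalizing the four-group fix `z`
  have hW : ∀ g : G, (∀ w, (w = z ∨ w = b) → g * w * g⁻¹ ∈ ({z, b, z * b} : Set G)) → g * z * g⁻¹ = z := by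
    intro g hg
    set C := Subgroup.centralizer ({z, b} : Set G) with hC
    have memC : ∀ x, x ∈ C ↔ x * z = z * x ∧ x * b = b * x := fun x => by
      rw [hC, Subgroup.mem_centralizer_iff]
      simp only [Set.mem_insert_iff, Set.mem_singleton_iff, forall_eq_or_imp, forall_eq]
      exact and_congr eq_comm eq_comm
    have hAC : A ≤ C := fun x hx => (memC x).2 ⟨(hzC x ((hmemA x).1 hx).1).symm, ((hmemA x).1 hx).2⟩
    set A' := A.map (MulAut.conj g).toMonoidHom with hA'
    have hWg : ∀ w, (w = z ∨ w = b) → ∀ x ∈ C, x * (g * w * g⁻¹) = (g * w * g⁻¹) * x := by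
      intro w hw x hx
      obtain ⟨h1, h2⟩ := (memC x).1 hx
      rcases hg w hw with h | h | h
      · rw [h]; exact h1
      · rw [h]; exact h2
      · rw [Set.mem_singleton_iff.1 h, ← mul_assoc, h1, mul_assoc, h2, mul_assoc]
    have hA'C : A' ≤ C := by
      rintro _ ⟨x, hx, rfl⟩
      obtain ⟨h1, h2⟩ := (memC x).1 (hAC hx)
      have hxW : ∀ w, (w = z ∨ w = b ∨ w = z * b) → x * w = w * x := by
        rintro w (rfl | rfl | rfl)
        · exact h1
        · exact h2
        · rw [← mul_assoc, h1, mul_assoc, h2, mul_assoc]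
      have hback : ∀ w, (w = z ∨ w = b) → g⁻¹ * w * g ∈ ({z, b, z * b} : Set G) := by
        -- the map induced by `g` on the three involutions is injective, hence surjective
        let Ws : Finset G := {z, b, z * b}
        have hmem : ∀ w ∈ Ws, g * w * g⁻¹ ∈ Ws := by
          intro w hw
          simp only [Ws, Finset.mem_insert, Finset.mem_singleton] at hw
          have e1 := hg z (Or.inl rfl)
          have e2 := hg b (Or.inr rfl)
          simp only [Set.mem_insert_iff, Set.mem_singleton_iff] at e1 e2
          rcases hw with rfl | rfl | rfl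
          · simpa [Ws] using e1
          · simpa [Ws] using e2
          · rw [show g * (z * b) * g⁻¹ = (g * z * g⁻¹) * (g * b * g⁻¹) by group]
            have hne : g * z * g⁻¹ ≠ g * b * g⁻¹ := fun h => hzbne (by simpa using h)
            have hbz : b * z = z * b := hzb.symm
            have e3 : z * (z * b) = b := by rw [← mul_assoc, hz2, one_mul]
            have e4 : b * (z * b) = z := by rw [← mul_assoc, hbz, mul_assoc, hb2, mul_one]
            have e5 : z * b * z = b := by rw [mul_assoc, hbz, e3]
            have e6 : z * b * b = z := by rw [mul_assoc, hb2, mul_one]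
            simp only [Ws, Finset.mem_insert, Finset.mem_singleton]
            rcases e1 with h | h | h <;> rcases e2 with h' | h' | h' <;>
              first
                | exact absurd (h.trans h'.symm) hne
                | (rw [h, h']; simp only [e3, e4, e5, e6, hbz, true_or, or_true])
        intro w hw
        have hinj : Set.InjOn (fun w => g * w * g⁻¹) (Ws : Set G) := fun p _ q _ h => by simpa using h
        obtain ⟨v, hv, hvw⟩ := Finset.surj_on_of_inj_on_of_card_le (s := Ws) (t := Ws)
          (fun w _ => g * w * g⁻¹) hmem (fun p q hp hq h => hinj hp hq h) le_rfl w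
          (by rcases hw with rfl | rfl <;> simp [Ws])
        have hv' : v = g⁻¹ * w * g := by rw [hvw]; group
        rw [← hv']; simpa [Ws] using hv
      rw [memC]
      show g * x * g⁻¹ * z = z * (g * x * g⁻¹) ∧ g * x * g⁻¹ * b = b * (g * x * g⁻¹)
      constructor
      · calc g * x * g⁻¹ * z = g * (x * (g⁻¹ * z * g)) * g⁻¹ := by group
          _ = g * ((g⁻¹ * z * g) * x) * g⁻¹ := by rw [hxW _ (hback z (Or.inl rfl))]
          _ = _ := by group
      · calc g * x * g⁻¹ * b = g * (x * (g⁻¹ * b * g)) * g⁻¹ := by group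
          _ = g * ((g⁻¹ * b * g) * x) * g⁻¹ := by rw [hxW _ (hback b (Or.inr rfl))]
          _ = _ := by group
    have hAp : IsPGroup 2 A := S.isPGroup'.to_le inf_le_left
    have small : ∀ P : Subgroup G, IsPGroup 2 P → P ≤ C → Nat.card P ≤ Nat.card A := by
      intro P hP hPC
      obtain ⟨Q, hQ⟩ := hP.exists_le_sylow
      have hQS : Nat.card (Q : Subgroup G) = Nat.card (S : Subgroup G) := by
        rw [Q.card_eq_multiplicity, S.card_eq_multiplicity]
      have hdvd := Subgroup.card_dvd_of_le hQ
      rw [hQS, hS] at hdvd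
      obtain ⟨k, hk, hkc⟩ := (Nat.dvd_prime_pow Nat.prime_two).1 hdvd
      rcases Nat.lt_or_ge k (n + 1) with hlt | hge
      · rw [hkc]
        have : Nat.card A = 2 ^ n := by
          rw [hS, pow_succ] at hAcard; omega
        rw [this]; exact Nat.pow_le_pow_right two_pos (by omega)
      · exfalso
        have hkn : k = n + 1 := by omega
        subst hkn
        have hPQ : P = Q := Subgroup.eq_of_le_of_card_ge hQ (by rw [hQS, hS, hkc])
        obtain ⟨h, hh⟩ := MulAction.exists_smul_eq G S Q
        have haP : h * a * h⁻¹ ∈ P := by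
          rw [hPQ, ← hh, Sylow.coe_subgroup_smul, Subgroup.mem_pointwise_smul_iff_inv_smul_mem,
            ← map_inv, MulAut.smul_def, MulAut.conj_apply]
          simpa [mul_assoc] using ha
        have hbP : h * b * h⁻¹ ∈ P := by
          rw [hPQ, ← hh, Sylow.coe_subgroup_smul, Subgroup.mem_pointwise_smul_iff_inv_smul_mem,
            ← map_inv, MulAut.smul_def, MulAut.conj_apply]
          simpa [mul_assoc] using hb
        have hin : ∀ w, (w = z ∨ w = b) → h⁻¹ * w * h ∈ (S : Subgroup G) ∧
            (h⁻¹ * w * h) * (h⁻¹ * w * h) = 1 ∧ w ≠ 1 ∧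
            a * (h⁻¹ * w * h) = (h⁻¹ * w * h) * a ∧ b * (h⁻¹ * w * h) = (h⁻¹ * w * h) * b := by
          intro w hw
          have hC' : ∀ x ∈ C, x * w = w * x := fun x hx => by
            rcases hw with rfl | rfl
            · exact ((memC x).1 hx).1
            · exact ((memC x).1 hx).2
          have hwc1 := hC' _ (hPC haP)
          have hwc2 := hC' _ (hPC hbP)
          refine ⟨?_, ?_, ?_, ?_, ?_⟩
          · -- `w` lies in `P`, a Sylow subgroup centralizing it
            have hwP : w ∈ P := by
              have hle : P ≤ P ⊔ Subgroup.zpowers w := le_sup_left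
              have hwp : IsPGroup 2 (Subgroup.zpowers w) :=
                (S.isPGroup').to_le (Subgroup.zpowers_le.2 (by
                  rcases hw with rfl | rfl
                  · exact hzS
                  · exact hb))
              have hn' : Subgroup.zpowers w ≤ Subgroup.normalizer (P : Set G) := by
                rw [Subgroup.zpowers_le, Subgroup.mem_normalizer_iff]
                intro y
                constructor
                · intro hy
                  rw [← hC' y (hPC hy), mul_inv_cancel_right]; exact hy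
                · intro hy
                  have := hC' _ (hPC hy)
                  have e : w * y * w⁻¹ = y := by
                    calc w * y * w⁻¹ = w⁻¹ * (w * (w * y * w⁻¹)) := by group
                      _ = w⁻¹ * (w * y * w⁻¹ * w) := by rw [this]
                      _ = y := by group
                  rwa [e] at hy
              obtain ⟨R, hR⟩ := (hP.to_sup_of_normal_left' hwp hn').exists_le_sylow
              have hRP : P = R := Subgroup.eq_of_le_of_card_ge (le_sup_left.trans hR) (by
                rw [R.card_eq_multiplicity, hkc, ← hS, S.card_eq_multiplicity])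
              rw [hRP]; exact hR (Subgroup.mem_sup_right (Subgroup.mem_zpowers w))
            rw [hPQ, ← hh, Sylow.coe_subgroup_smul, Subgroup.mem_pointwise_smul_iff_inv_smul_mem,
              ← map_inv, MulAut.smul_def, MulAut.conj_apply, inv_inv] at hwP
            exact hwP
          · have : w * w = 1 := by rcases hw with rfl | rfl; exacts [hz2, hb2]
            calc (h⁻¹ * w * h) * (h⁻¹ * w * h) = h⁻¹ * (w * w) * h := by group
              _ = 1 := by rw [this]; group
          · rcases hw with rfl | rfl; exacts [hz1, hbne]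
          · calc a * (h⁻¹ * w * h) = h⁻¹ * (h * a * h⁻¹ * w) * h := by group
              _ = h⁻¹ * (w * (h * a * h⁻¹)) * h := by rw [hwc1]
              _ = _ := by group
          · calc b * (h⁻¹ * w * h) = h⁻¹ * (h * b * h⁻¹ * w) * h := by group
              _ = h⁻¹ * (w * (h * b * h⁻¹)) * h := by rw [hwc2]
              _ = _ := by group
        have hfix : ∀ w, (w = z ∨ w = b) → h⁻¹ * w * h = z := by
          intro w hw
          obtain ⟨h1, h2, h3, h4, -⟩ := hin w hw
          rcases hinv _ h1 h2 with e | e | e | e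
          · exact absurd (by rw [show w = h * (h⁻¹ * w * h) * h⁻¹ by group, e]; group) h3
          · exact e
          · rw [e] at h4; exfalso; apply hz1
            have := hrel'; rw [← h4, mul_inv_cancel_right] at this; simpa using this
          · rw [e] at h4; exfalso; apply hz1
            have hab : a * b = b * a := by
              apply mul_left_cancel (a := z)
              rw [← mul_assoc, show z * a = a * z by simpa using hazc 1, mul_assoc, h4, mul_assoc]
            have := hrel'; rw [← hab, mul_inv_cancel_right] at this; simpa using this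
        exact hzbne (by
          have e := (hfix z (Or.inl rfl)).trans (hfix b (Or.inr rfl)).symm
          simpa using e)
    obtain ⟨P, hP⟩ := (hAp.comap_subtype (K := C)).exists_le_sylow
    have hPA : (P : Subgroup C) = A.subgroupOf C := by
      refine (Subgroup.eq_of_le_of_card_ge hP ?_).symm
      show Nat.card (P : Subgroup C) ≤ Nat.card (A.subgroupOf C)
      rw [Nat.card_congr (Subgroup.subgroupOfEquivOfLe hAC).toEquiv]
      have := small ((P : Subgroup C).map C.subtype) (P.isPGroup'.map _) (Subgroup.map_subtype_le _)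
      rwa [Subgroup.card_map_of_injective C.subtype_injective] at this
    obtain ⟨P', hP'⟩ := ((hAp.map (MulAut.conj g).toMonoidHom).comap_subtype (K := C)).exists_le_sylow
    obtain ⟨c, hc⟩ := MulAction.exists_smul_eq C P' P
    set u := a ^ (2 ^ (n - 2)) with hu
    have huA : u ∈ A := (hmemA u).2 ⟨pow_mem ha _, by
      rw [hu, hbc, zpar, if_pos (by rw [hn3]; exact even_two_mul _), mul_one]⟩
    have hu2 : u * u = z := by rw [hu, hz, ← pow_add]; congr 1; omega
    have hmem : (c : G) * (g * u * g⁻¹) * (c : G)⁻¹ ∈ A := by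
      have h1 : (⟨g * u * g⁻¹, hA'C ⟨u, huA, rfl⟩⟩ : C) ∈ (P' : Subgroup C) := hP' ⟨u, huA, rfl⟩
      have h2 : c * ⟨g * u * g⁻¹, hA'C ⟨u, huA, rfl⟩⟩ * c⁻¹ ∈ ((c • P' : Sylow 2 C) : Subgroup C) := by
        rw [Sylow.coe_subgroup_smul, Subgroup.mem_pointwise_smul_iff_inv_smul_mem,
          ← map_inv, MulAut.smul_def, MulAut.conj_apply]
        simpa [mul_assoc] using h1
      rw [hc, hPA, Subgroup.mem_subgroupOf] at h2
      simpa using h2
    obtain ⟨j, hj⟩ := hsq _ ((hmemA _).1 hmem).1
    have hzz : g * z * g⁻¹ = a ^ j := by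
      rw [← hj, ← hu2]
      have hcw := hWg z (Or.inl rfl) c c.2
      calc g * (u * u) * g⁻¹ = (g * z * g⁻¹) * ((c : G) * (c : G)⁻¹) := by rw [hu2]; group
        _ = (c : G) * (g * z * g⁻¹) * (c : G)⁻¹ := by rw [← mul_assoc, hcw]
        _ = _ := by rw [← hu2]; group
    have hnotb : ∀ k : ℕ, a ^ k ≠ b := fun k hk => hz1 (by
      have := hrel'
      rw [← hk, show a ^ k * a = a * a ^ k from (Commute.pow_self a k).eq, mul_inv_cancel_right] at this
      simpa using this)
    rcases hg z (Or.inl rfl) with h | h | h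
    · exact h
    · exact absurd (hzz.symm.trans h) (hnotb j)
    · exfalso
      refine hnotb (2 ^ (n - 1) + j) ?_
      rw [pow_add, ← hz, ← hzz, Set.mem_singleton_iff.1 h, ← mul_assoc, hz2, one_mul]
  -- apply the Frobenius criterion
  refine Fusion.hasNormalPComplement_of_frobenius fun D0 hD0 g0 hg0 hgo0 => ?_
  obtain ⟨Q, hQ⟩ := hD0.exists_le_sylow
  obtain ⟨h, hh⟩ := MulAction.exists_smul_eq G Q S
  set g := h * g0 * h⁻¹ with hgdef
  set D := D0.map (MulAut.conj h).toMonoidHom with hDdef
  have hDS : D ≤ (S : Subgroup G) := by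
    rintro _ ⟨x, hx, rfl⟩
    rw [← hh, Sylow.coe_subgroup_smul, Subgroup.mem_pointwise_smul_iff_inv_smul_mem,
      ← map_inv, MulAut.smul_def, MulAut.conj_apply]
    simpa [mul_assoc] using hQ hx
  have hgD : ∀ x ∈ D, g * x * g⁻¹ ∈ D := by
    rintro _ ⟨x, hx, rfl⟩
    refine ⟨g0 * x * g0⁻¹, (Subgroup.mem_normalizer_iff.1 hg0 x).1 hx, ?_⟩
    simp [hgdef, mul_assoc]
  have hgcop : (orderOf g).Coprime 2 := by
    rw [hgdef, ← MulAut.conj_apply, MulEquiv.orderOf_eq]; exact hgo0
  have hgodd : Odd (orderOf g) := Nat.coprime_two_right.1 hgcop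
  have hDp : IsPGroup 2 D := S.isPGroup'.to_le hDS
  have hconj : ∀ x : G, g * x * g⁻¹ * (g * x * g⁻¹) = g * (x * x) * g⁻¹ := fun x => by group
  have fix1 : ∀ x ∈ D, x * x = 1 → g * x = x * g := by
    intro x hx hx2
    have mapinv : ∀ y ∈ D, y * y = 1 → g * y * g⁻¹ ∈ D ∧ g * y * g⁻¹ * (g * y * g⁻¹) = 1 :=
      fun y hy h2 => ⟨hgD y hy, by rw [hconj, h2, mul_one, mul_inv_cancel]⟩
    have hfz : ∀ y ∈ D, y = z → g * y * g⁻¹ = y := by
      rintro y hy rfl
      by_cases hb' : b ∈ D
      · refine hW g fun w hw => ?_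
        have hwD : w ∈ D := by rcases hw with rfl | rfl <;> assumption
        have hw2 : w * w = 1 := by rcases hw with rfl | rfl; exacts [hz2, hb2]
        have hw1 : w ≠ 1 := by rcases hw with rfl | rfl; exacts [hz1, hbne]
        obtain ⟨h1, h2⟩ := mapinv w hwD hw2
        rcases hinv _ (hDS h1) h2 with e | e
        · exact absurd (by simpa using e) hw1
        · exact e
      · obtain ⟨h1, h2⟩ := mapinv z hy hz2
        rcases hinv _ (hDS h1) h2 with e | e | e | e
        · exact absurd (by simpa using e) hz1
        · exact e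
        · exact absurd (e ▸ h1) hb'
        · exact absurd (by have := mul_mem hy (e ▸ h1); rwa [← mul_assoc, hz2, one_mul] at this) hb'
    suffices g * x * g⁻¹ = x from mul_inv_eq_iff_eq_mul.1 this
    obtain ⟨h1, h2⟩ := mapinv x hx hx2
    obtain ⟨k1, k2⟩ := mapinv _ h1 h2
    rcases hinv x (hDS hx) hx2 with rfl | rfl | hxb | hxb
    · simp
    · exact hfz _ hx rfl
    all_goals
      rcases hinv _ (hDS h1) h2 with e | e | e | e
      · exact absurd (show x = 1 by simpa using e) (by
          rw [hxb]; first | exact hbne | exact fun he => hzbne (by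
            rw [mul_eq_one_iff_eq_inv, hbi] at he; exact he))
      · have hzD : z ∈ D := e ▸ h1
        have e' := hfz z hzD rfl
        have : x = z := by
          have : g * x * g⁻¹ = g * z * g⁻¹ := e.trans e'.symm
          simpa using this
        exact e.trans this.symm
      all_goals
        first
          | exact e.trans hxb.symm
          | (rcases hinv _ (hDS k1) k2 with f | f | f | f
             · exact absurd (show x = 1 by simpa using f) (by
                rw [hxb]; first | exact hbne | exact fun he => hzbne (by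
                  rw [mul_eq_one_iff_eq_inv, hbi] at he; exact he))
             · have hzD : z ∈ D := f ▸ k1
               have e' := hfz z hzD rfl
               have h3 : g * x * g⁻¹ = z := by
                 have : g * (g * x * g⁻¹) * g⁻¹ = g * z * g⁻¹ := f.trans e'.symm
                 simpa using this
               exact absurd (h3.symm.trans e) (by
                 first | exact hzbne | exact fun he => hbne (by simpa using he))
             all_goals
               first
                 | exact pow_conj_eq_self hgodd rfl (f.trans hxb.symm)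
                 | (have h3 : g * x * g⁻¹ = x := by
                      have : g * (g * x * g⁻¹) * g⁻¹ = g * x * g⁻¹ := f.trans e.symm
                      simpa using this
                    exact h3))
  have key : ∀ x ∈ D, ∀ w : G, g * x * g⁻¹ = x * w → g * w = w * g → g * x = x * g :=
    fun x hx w he hw => CharP.commute_of_conj_eq_mul (p := 2) hDp
      (show w ∈ D by
        have := mul_mem (inv_mem hx) (hgD x hx)
        rwa [he, inv_mul_cancel_left] at this) hgcop he hw
  have fix2 : ∀ x ∈ D, x ^ 4 = 1 → g * x = x * g := by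
    intro x hx h4
    have hyD := hgD x hx
    obtain ⟨i, hi, hxi⟩ := heven x (hDS hx) h4
    obtain ⟨j, hj, hyj⟩ := heven _ (hDS hyD) (by rw [conj_pow, h4, mul_one, mul_inv_cancel])
    have hC : x * (g * x * g⁻¹) = (g * x * g⁻¹) * x := by
      have hab : ∀ k : ℕ, Even k → Commute (a ^ k) b := fun k hk => by
        show a ^ k * b = b * a ^ k
        rw [hbc, zpar, if_pos hk, mul_one]
      have hh2 : Commute (a ^ i) (a ^ j) := Commute.pow_pow_self a i j
      rcases hxi with e | e <;> rcases hyj with f | f <;>
        rw [f] <;> subst e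
      · exact hh2
      · exact hh2.mul_right (hab i hi)
      · exact hh2.mul_left (hab j hj).symm
      · exact (hh2.mul_right (hab i hi)).mul_left ((hab j hj).symm.mul_right (Commute.refl b))
    set w := x⁻¹ * (g * x * g⁻¹) with hw
    have hwD : w ∈ D := mul_mem (inv_mem hx) hyD
    refine key x hx w (by rw [hw]; group) ?_
    have hx22 : g * (x * x) = x * x * g := fix1 _ (mul_mem hx hx) (by
      rw [← h4]; simp [pow_succ, mul_assoc])
    refine fix1 w hwD ?_
    have hC' : Commute x⁻¹ (g * x * g⁻¹) := (show Commute x (g * x * g⁻¹) from hC).inv_left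
    rw [hw, ← pow_two, hC'.mul_pow, pow_two (g * x * g⁻¹), hconj, hx22, pow_two]
    group
  have main : ∀ (k : ℕ) (x : G), x ∈ D → x ^ (2 ^ k) = 1 → g * x = x * g := by
    intro k
    induction k with
    | zero => intro x _ h; simp at h; simp [h]
    | succ k ih =>
      intro x hx h
      have hx2 : g * (x * x) = x * x * g := ih _ (mul_mem hx hx) (by
        rw [← pow_two, ← pow_mul, ← pow_succ']; exact h)
      set w := x⁻¹ * (g * x * g⁻¹) with hw
      have hwD : w ∈ D := mul_mem (inv_mem hx) (hgD x hx)
      refine key x hx w (by rw [hw]; group) (fix2 w hwD ?_)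
      have e1 : x * w * (x * w) = x * x := by
        rw [show x * w = g * x * g⁻¹ by rw [hw]; group, hconj, hx2, mul_inv_cancel_right]
      have e2 : x⁻¹ * w * x = w⁻¹ := by
        apply eq_inv_of_mul_eq_one_left
        calc x⁻¹ * w * x * w = x⁻¹ * x⁻¹ * (x * w * (x * w)) := by group
          _ = 1 := by rw [e1]; group
      have e3 : w * x = x * w⁻¹ := by rw [← e2]; group
      rcases hcomm w (hDS hwD) x (hDS hx) with c1 | c1
      · have : w⁻¹ = w := mul_left_cancel (e3.symm.trans c1)
        have hw2 : w * w = 1 := by nth_rewrite 1 [← this]; exact inv_mul_cancel w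
        rw [show 4 = 2 * 2 from rfl, pow_mul, pow_two w, hw2, one_pow]
      · have : w⁻¹ = w * z := mul_left_cancel ((e3.symm.trans c1).trans (mul_assoc x w z))
        have hw2 : w * w = z := by
          have h1 : w * (w * z) = 1 := by rw [← this, mul_inv_cancel]
          calc w * w = w * (w * z) * z := by rw [mul_assoc w, mul_assoc w z z, hz2, mul_one]
            _ = z := by rw [h1, one_mul]
        rw [show 4 = 2 * 2 from rfl, pow_mul, pow_two w, hw2, pow_two, hz2]
  rw [Subgroup.mem_centralizer_iff]
  intro x hx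
  obtain ⟨k, hk⟩ := hDp ⟨h * x * h⁻¹, ⟨x, hx, rfl⟩⟩
  have := main k (h * x * h⁻¹) ⟨x, hx, rfl⟩ (congrArg Subtype.val hk)
  rw [hgdef] at this
  have e : h * (g0 * x) * h⁻¹ = h * (x * g0) * h⁻¹ := by
    calc h * (g0 * x) * h⁻¹ = h * g0 * h⁻¹ * (h * x * h⁻¹) := by group
      _ = _ := this
      _ = _ := by group
  simpa using e.symm

end Cfsg.Agent.S3178
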