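import Cfsg.Statements.S3179
import Cfsg.Agent.Lib.Recog.SL2Orders
import Cfsg.Agent.Lib.Classical.ProjLine
import Cfsg.Agent.Lib.Classical.HermSU
import Cfsg.Agent.Lib.Suzuki.Minor
import Cfsg.Agent.Lib.Suzuki.Group

set_option autoImplicit false
open Cfsg

namespace Cfsg.Agent.S3179

open Matrix

/-- An elementary abelian subgroup of order nine, as matrices. -/
def blockMat (p : ZMod 3 × ZMod 3) : Matrix (Fin 5) (Fin 5) (ZMod 2) :=
  (!![0, 1, 0, 0, 0; 1, 1, 0, 0, 0; 0, 0, 1, 0, 0; 0, 0, 0, 1, 0; 0, 0, 0, 0, 1]) ^ p.1.val *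
  (!![1, 0, 0, 0, 0; 0, 1, 0, 0, 0; 0, 0, 0, 1, 0; 0, 0, 1, 1, 0; 0, 0, 0, 0, 1]) ^ p.2.val

theorem blockMat_mul : ∀ p r, blockMat (p + r) = blockMat p * blockMat r := by decide +kernel

theorem blockMat_inj : ∀ p r, blockMat p = blockMat r → p = r := by decide +kernel

theorem blockMat_zero : blockMat 0 = 1 := by decide +kernel

def blockHom : Multiplicative (ZMod 3 × ZMod 3) →* GL (Fin 5) (ZMod 2) :=
  MonoidHom.toHomUnits
    { toFun := fun p => blockMat p.toAdd
      map_one' := blockMat_zero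
      map_mul' := fun p r => blockMat_mul _ _ }

theorem block_exponent : ∀ p : Multiplicative (ZMod 3 × ZMod 3), p ^ 3 = 1 := by decide

theorem card_GL5 : Nat.card (GL (Fin 5) (ZMod 2)) = 9999360 := by
  haveI : Fact (Nat.Prime 2) := ⟨Nat.prime_two⟩
  rw [Matrix.card_GL_field, Fin.prod_univ_five, ZMod.card]
  norm_num

theorem not_orderOf_nine (g : GL (Fin 5) (ZMod 2)) : orderOf g ≠ 9 := by
  intro hg
  haveI : Fact (Nat.Prime 3) := ⟨Nat.prime_three⟩
  have hinj : Function.Injective blockHom := fun p r h =>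
    Multiplicative.toAdd.injective (blockMat_inj _ _ (congrArg Units.val h))
  have hc : Nat.card blockHom.range = 9 := by
    rw [← Nat.card_congr (MonoidHom.ofInjective hinj).toEquiv]
    simp
  have hfac : (Nat.card (GL (Fin 5) (ZMod 2))).factorization 3 = 2 := by
    rw [card_GL5, show 9999360 = 3 ^ 2 * 1111040 by norm_num,
      Nat.factorization_mul (by norm_num) (by norm_num), Finsupp.add_apply,
      Nat.Prime.factorization_pow Nat.prime_three, Finsupp.single_eq_same,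
      Nat.factorization_eq_zero_of_not_dvd (by norm_num : ¬ 3 ∣ 1111040)]
  let E : Sylow 3 (GL (Fin 5) (ZMod 2)) := Sylow.ofCard blockHom.range (by rw [hc, hfac]; norm_num)
  obtain ⟨Q, hQ⟩ := (IsPGroup.of_card (p := 3) (n := 2) (G := Subgroup.zpowers g)
    (by rw [Nat.card_zpowers, hg]; norm_num)).exists_le_sylow
  let e := Q.equiv E
  have hgQ : g ∈ (Q : Subgroup (GL (Fin 5) (ZMod 2))) := hQ (Subgroup.mem_zpowers g)
  obtain ⟨p, hp⟩ : ((e ⟨g, hgQ⟩ : (E : Subgroup (GL (Fin 5) (ZMod 2)))) : GL (Fin 5) (ZMod 2)) ∈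
      blockHom.range := (e ⟨g, hgQ⟩).2
  have h9 : orderOf (e ⟨g, hgQ⟩) = 9 := by
    rw [MulEquiv.orderOf_eq e ⟨g, hgQ⟩, Subgroup.orderOf_mk, hg]
  rw [← Subgroup.orderOf_coe, ← hp, orderOf_injective blockHom hinj] at h9
  have := orderOf_dvd_of_pow_eq_one (block_exponent p)
  rw [h9] at this
  norm_num at this

theorem quotient_not_orderOf_nine {H : Subgroup (GL (Fin 5) (ZMod 2))} {K : Subgroup ↥H} [K.Normal]
    (x : ↥H ⧸ K) : orderOf x ≠ 9 := by
  intro hx
  obtain ⟨h, rfl⟩ := QuotientGroup.mk'_surjective K x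
  have hd : 9 ∣ orderOf h := hx ▸ orderOf_map_dvd _ h
  obtain ⟨c, hc⟩ := hd
  have hpos := orderOf_pos h
  refine not_orderOf_nine ((h ^ c : ↥H) : GL (Fin 5) (ZMod 2)) ?_
  rw [Subgroup.orderOf_coe, orderOf_pow' _ (by rintro rfl; omega), hc,
    Nat.gcd_eq_right (dvd_mul_left c 9), Nat.mul_div_cancel _ (by
      rcases Nat.eq_zero_or_pos c with rfl | h
      · omega
      · exact h)]

/-- Let X be a section of the general linear group GL(5, 2), that is, a quotient of a subgroup of it. If X is isomorphic to PSL(2, 2^n) for some n ≥ 2, to a Suzuki group over the field with 2^(2m+1) elements for some m ≥ 1, or to PSU(3, 2^n) for some n ≥ 2, then X is isomorphic to PSL(2, 4). -/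
theorem result {H : Subgroup (GL (Fin 5) (ZMod 2))}
    {K : Subgroup ↥H} [K.Normal]
    (hX : (∃ (n : ℕ) (F : Type) (_ : Field F) (_ : Fintype F), 2 ≤ n ∧ Fintype.card F = 2 ^ n ∧
        Nonempty (↥H ⧸ K ≃* Matrix.ProjectiveSpecialLinearGroup (Fin 2) F)) ∨
      (∃ (m : ℕ) (F : Type) (_ : Field F) (_ : Fintype F), 1 ≤ m ∧ Fintype.card F = 2 ^ (2 * m + 1) ∧
        Nonempty (↥H ⧸ K ≃* ↥(Cfsg.Lie.Sz F (2 ^ (m + 1))))) ∨
      (∃ (n : ℕ) (F : Type) (_ : Field F) (_ : Fintype F), 2 ≤ n ∧ Fintype.card F = 4 ^ n ∧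
        Nonempty (↥H ⧸ K ≃* Cfsg.PSU 3 F (2 ^ n)))) :
    ∃ (F : Type) (_ : Field F) (_ : Fintype F), Fintype.card F = 4 ∧
      Nonempty (↥H ⧸ K ≃* Matrix.ProjectiveSpecialLinearGroup (Fin 2) F) := by
  have hdvd : Nat.card (↥H ⧸ K) ∣ 9999360 :=
    card_GL5 ▸ (Subgroup.card_quotient_dvd_card K).trans (Subgroup.card_subgroup_dvd_card H)
  rcases hX with ⟨n, F, _, _, hn, hF, ⟨e⟩⟩ | ⟨m, F, _, _, hm, hF, ⟨e⟩⟩ | ⟨n, F, _, _, hn, hF, ⟨e⟩⟩
  · rw [Nat.card_congr e.toEquiv] at hdvd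
    have hc := ProjLine.two_mul_card_psl (F := F)
    rw [Nat.card_eq_fintype_card (α := F), hF] at hc
    have h4 : 4 ≤ 2 ^ n := (Nat.pow_le_pow_right (by norm_num) hn : 2 ^ 2 ≤ _)
    have hg : Nat.gcd 2 (2 ^ n - 1) = 1 := Nat.coprime_two_left.2
      (Nat.Even.sub_odd (by omega) (Nat.even_pow.2 ⟨even_two, by omega⟩) odd_one)
    rw [hg, one_mul, pow_two, ← mul_assoc (2 ^ n), mul_right_comm _ (2 ^ n - 1) (2 ^ n + 1)] at hc
    rw [Nat.eq_of_mul_eq_mul_right (by omega) hc] at hdvd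
    have hn10 : n ≤ 10 := by
      have h1 : 2 ^ n ∣ 2 ^ 10 * 9765 := (Dvd.intro _ (by rw [mul_assoc])).trans hdvd
      exact (Nat.pow_dvd_pow_iff_le_right (by norm_num)).1
        (Nat.Coprime.dvd_of_dvd_mul_right (Nat.Coprime.pow_left _ (by norm_num)) h1)
    rcases eq_or_ne n 2 with rfl | h2
    · exact ⟨F, inferInstance, inferInstance, by rw [hF]; norm_num, ⟨e⟩⟩
    exfalso
    have h3 : n = 3 := by
      interval_cases n <;> first | rfl | omega | norm_num at hdvd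
    subst h3
    haveI : Fact (Nat.Prime 2) := ⟨Nat.prime_two⟩
    haveI : CharP F 2 := charP_of_card_eq_prime_pow hF
    obtain ⟨x, hx⟩ := Cfsg.Agent.SL2Orders.exists_orderOf_nonsplit (F := F) 2
    refine quotient_not_orderOf_nine (e.symm x) ?_
    rw [MulEquiv.orderOf_eq, hx, hF]
    decide
  · exfalso
    rw [Nat.card_congr e.toEquiv] at hdvd
    have h : Cfsg.Agent.Suzuki.SzField F m := ⟨hm, hF⟩
    rw [← Nat.card_congr (Cfsg.Agent.Suzuki.minorEquiv h).toEquiv, Cfsg.Agent.Suzuki.card_Sz h] at hdvd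
    have hm2 : m ≤ 2 := by
      have h1 : (2 ^ (2 * m + 1)) ^ 2 ∣ 2 ^ 10 * 9765 :=
        (Dvd.intro _ (by rw [mul_assoc])).trans hdvd
      rw [← pow_mul] at h1
      have := (Nat.pow_dvd_pow_iff_le_right (by norm_num : 1 < 2)).1
        (Nat.Coprime.dvd_of_dvd_mul_right (Nat.Coprime.pow_left _ (by norm_num)) h1)
      omega
    interval_cases m <;> norm_num at hdvd
  · exfalso
    rw [Nat.card_congr e.toEquiv] at hdvd
    have hF' : Fintype.card F = (2 ^ n) ^ 2 := by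
      rw [hF, ← pow_mul, mul_comm, pow_mul]; norm_num
    obtain ⟨σ, hσ, hne, hinv, hq, -⟩ := HermStd.exists_sigma hF'
    have h := HermSU.card_PSU_mul hne hinv hσ (n := 3) (by norm_num) hq
    rw [HermStd.card_GU hne hinv hσ 3 hq, Finset.prod_range_succ, Finset.prod_range_succ,
      Finset.prod_range_succ, Finset.prod_range_zero, if_pos (by decide), if_neg (by decide),
      if_pos (by decide)] at h
    have h1 : (2 ^ n) ^ 3 * ((2 ^ n + 1) * ((2 ^ n) ^ 2 - 1) * ((2 ^ n) ^ 3 + 1)) ∣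
        3 * ((2 ^ n + 1) * 9999360) := by
      have := mul_dvd_mul (Nat.gcd_dvd_left 3 (2 ^ n + 1)) (mul_dvd_mul_left (2 ^ n + 1) hdvd)
      rw [h] at this
      norm_num at this ⊢
      exact this
    have hn3 : n ≤ 3 := by
      have hdiv : 2 ^ (n * 3) ∣ 2 ^ 10 * (3 * ((2 ^ n + 1) * 9765)) := by
        rw [pow_mul]
        refine (Dvd.intro _ rfl).trans (h1.trans ?_)
        exact dvd_of_eq (by ring)
      have := (Nat.pow_dvd_pow_iff_le_right (by norm_num : 1 < 2)).1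
        (Nat.Coprime.dvd_of_dvd_mul_right (Nat.Coprime.pow_left _ (Nat.Coprime.mul_right (by norm_num)
          (Nat.Coprime.mul_right ((Nat.coprime_two_left).2
            (Nat.even_pow.2 ⟨even_two, by omega⟩).add_one) (by norm_num)))) hdiv)
      omega
    interval_cases n <;> norm_num at h1

end Cfsg.Agent.S3179
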