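import Cfsg.Statements.S3180
import Mathlib.GroupTheory.GroupAction.Basic

set_option autoImplicit false
open Cfsg

namespace Cfsg.Agent.S3180


/-- Let P be a Sylow p-subgroup of a finite group J and P₁ a subgroup of P that is weakly closed in P with respect to J. If J acts on a set and two points, each fixed by every element of P₁, lie in one J-orbit, then they lie in one orbit of the normalizer of P₁ in J. -/
theorem result {J : Type*} [Group J] [Finite J]
    {p : ℕ} [Fact p.Prime] (P : Sylow p J) (P₁ : Subgroup J) (hW : Cfsg.IsWeaklyClosed P₁ (P : Subgroup J))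
    {Ω : Type*} [MulAction J Ω] (x y : Ω) (hx : ∀ g ∈ P₁, g • x = x) (hy : ∀ g ∈ P₁, g • y = y)
    (hc : ∃ g : J, g • x = y) :
    ∃ g ∈ Subgroup.normalizer (P₁ : Set J), g • x = y := by
  obtain ⟨g, hg⟩ := hc
  obtain ⟨hP₁, hW⟩ := hW
  set St := MulAction.stabilizer J y
  have h1 : P₁ ≤ St := fun a ha => MulAction.mem_stabilizer_iff.mpr (hy a ha)
  have h2 : P₁.map (MulAut.conj g).toMonoidHom ≤ St := by
    rintro _ ⟨a, ha, rfl⟩
    refine MulAction.mem_stabilizer_iff.mpr ?_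
    show (g * a * g⁻¹) • y = y
    rw [← hg, mul_smul, inv_smul_smul, mul_smul, hx a ha]
  have hp1 : IsPGroup p ↥P₁ := P.2.to_le hP₁
  obtain ⟨Q, hQ⟩ := (hp1.comap_subtype (K := St)).exists_le_sylow
  obtain ⟨Q', hQ'⟩ := ((hp1.map (MulAut.conj g).toMonoidHom).comap_subtype (K := St)).exists_le_sylow
  obtain ⟨h, hh⟩ := MulAction.exists_smul_eq ↥St Q' Q
  obtain ⟨P', hP'⟩ := (Q.2.map St.subtype).exists_le_sylow
  obtain ⟨c, rfl⟩ := MulAction.exists_smul_eq J P P'
  have hc' : ∀ k : J, P₁.map (MulAut.conj k).toMonoidHom ≤ (c • P : Sylow p J) →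
      c⁻¹ * k ∈ Subgroup.normalizer (P₁ : Set J) := by
    intro k hk
    have hle : P₁.map (MulAut.conj (c⁻¹ * k)).toMonoidHom ≤ (P : Subgroup J) := by
      rintro _ ⟨a, ha, rfl⟩
      have := hk ⟨a, ha, rfl⟩
      rw [Sylow.smul_def, Sylow.pointwise_smul_def, Subgroup.mem_pointwise_smul_iff_inv_smul_mem] at this
      simpa [mul_assoc] using this
    have := hW _ hle
    rw [Subgroup.mem_normalizer_iff]
    intro a
    constructor
    · exact fun ha => this.le ⟨a, ha, rfl⟩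
    · intro ha
      obtain ⟨b, hb, hbe⟩ := this.ge ha
      have : b = a := (MulAut.conj (c⁻¹ * k)).injective hbe
      exact this ▸ hb
  have hA := hc' 1 (by
    rintro _ ⟨a, ha, rfl⟩
    simpa using hP' ⟨⟨a, h1 ha⟩, hQ ha, rfl⟩)
  have hB := hc' ((h : J) * g) (by
    rintro _ ⟨a, ha, rfl⟩
    refine hP' ⟨⟨_, St.mul_mem (St.mul_mem h.2 (h2 ⟨a, ha, rfl⟩)) (St.inv_mem h.2)⟩, ?_, ?_⟩
    · rw [← hh]
      have hm : (⟨(MulAut.conj g) a, h2 ⟨a, ha, rfl⟩⟩ : ↥St) ∈ (Q' : Subgroup ↥St) :=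
        hQ' (Subgroup.mem_subgroupOf.mpr ⟨a, ha, rfl⟩)
      exact Subgroup.smul_mem_pointwise_smul _ (MulAut.conj h) _ hm
    · simp [mul_assoc])
  refine ⟨(h : J) * g, ?_, ?_⟩
  · have := (Subgroup.normalizer (P₁ : Set J)).mul_mem ((Subgroup.normalizer _).inv_mem hA) hB
    simpa [mul_assoc] using this
  · rw [mul_smul, hg]; exact MulAction.mem_stabilizer_iff.mp h.2

end Cfsg.Agent.S3180
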