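import Cfsg.Statements.S3184
import Cfsg.Agent.S0215
import Mathlib.GroupTheory.Nilpotent

set_option autoImplicit false
open Cfsg

namespace Cfsg.Agent.S3184

/-- The involution of a characteristic cyclic subgroup of a Sylow 2-subgroup is isolated. -/
theorem isolated {G : Type*} [Group G] [Finite G]
    (hCI : ∀ S T : Sylow 2 G, S ≠ T → ∃ U : Sylow 2 G,
      (S : Subgroup G) ⊓ (T : Subgroup G) ≤ (Subgroup.center ↥(U : Subgroup G)).map (U : Subgroup G).subtype)
    (S : Sylow 2 G) (z : G) (hzS : z ∈ (S : Subgroup G))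
    (hzc : ∀ x ∈ (S : Subgroup G), x * z = z * x)
    (hzN : ∀ g ∈ Subgroup.normalizer ((S : Subgroup G) : Set G), g * z * g⁻¹ = z)
    (g : G) (hg : g * z * g⁻¹ ∈ (S : Subgroup G)) : g * z * g⁻¹ = z := by
  classical
  haveI : Fact (Nat.Prime 2) := ⟨Nat.prime_two⟩
  set u := g * z * g⁻¹ with hu
  by_contra hne
  set S₀ : Subgroup G := (S : Subgroup G) with hS₀
  set R := S₀ ⊓ Subgroup.centralizer ({u} : Set G) with hR
  -- a Sylow subgroup centralising `u` containing `R`, conjugate to `S` taking `z` to `u`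
  obtain ⟨T, hRT, k, hk, hkz⟩ : ∃ T : Sylow 2 G, R ≤ (T : Subgroup G) ∧ ∃ k : G, k • S = T ∧
      k * z * k⁻¹ = u := by
    set K := Subgroup.centralizer ({u} : Set G)
    have hsub : ((g • S : Sylow 2 G) : Subgroup G) ≤ K := by
      intro x hx
      rw [Sylow.coe_subgroup_smul, Subgroup.mem_pointwise_smul_iff_inv_smul_mem] at hx
      simp only [MulAut.smul_def, MulAut.conj_inv_apply] at hx
      rw [Subgroup.mem_centralizer_singleton_iff, hu]
      calc x * (g * z * g⁻¹) = g * ((g⁻¹ * x * g) * z) * g⁻¹ := by group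
        _ = g * (z * (g⁻¹ * x * g)) * g⁻¹ := by rw [hzc _ hx]
        _ = g * z * g⁻¹ * x := by group
    set SK := (g • S : Sylow 2 G).subtype hsub
    have hRp : IsPGroup 2 (R.subgroupOf K) :=
      (S.isPGroup'.to_le inf_le_left).comap_of_injective _ K.subtype_injective
    obtain ⟨T', hT'⟩ := hRp.exists_le_sylow
    obtain ⟨h, hh⟩ := MulAction.exists_smul_eq K SK T'
    refine ⟨(h : G) • (g • S), fun x hx => ?_, h * g, mul_smul _ _ _, ?_⟩
    · have h1 : (⟨x, hx.2⟩ : K) ∈ (T' : Subgroup K) := hT' (Subgroup.mem_subgroupOf.mpr hx)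
      rw [← hh, Sylow.coe_subgroup_smul, Subgroup.mem_pointwise_smul_iff_inv_smul_mem] at h1
      simp only [MulAut.smul_def, MulAut.conj_inv_apply] at h1
      have h2 : (h : G)⁻¹ * x * h ∈ ((g • S : Sylow 2 G) : Subgroup G) :=
        Subgroup.mem_subgroupOf.mp h1
      rw [Sylow.coe_subgroup_smul, Subgroup.mem_pointwise_smul_iff_inv_smul_mem]
      simpa [mul_assoc] using h2
    · have h3 := Subgroup.mem_centralizer_singleton_iff.mp h.2
      calc (h : G) * g * z * ((h : G) * g)⁻¹ = (h : G) * u * (h : G)⁻¹ := by rw [hu]; group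
        _ = u := by rw [h3, mul_inv_cancel_right]
  have hST : S ≠ T := by
    intro e
    refine hne ?_
    rw [← hkz]
    refine hzN k ?_
    exact Sylow.smul_eq_iff_mem_normalizer.mp (hk.trans e.symm)
  obtain ⟨U, hU⟩ := hCI S T hST
  set D := S₀ ⊓ (T : Subgroup G) with hD
  have hcomm : ∀ d ∈ D, ∀ x ∈ (U : Subgroup G), x * d = d * x := by
    intro d hd x hx
    obtain ⟨c, hc, rfl⟩ := hU hd
    exact congrArg Subtype.val (Subgroup.mem_center_iff.mp hc ⟨x, hx⟩)
  have hUD : ∀ d ∈ D, d ∈ (U : Subgroup G) := by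
    intro d hd
    obtain ⟨c, -, rfl⟩ := hU hd
    exact c.2
  have huR : u ∈ R := ⟨hg, Subgroup.mem_centralizer_singleton_iff.mpr rfl⟩
  have huD : u ∈ D := ⟨hg, hRT huR⟩
  set CD := Subgroup.centralizer (D : Set G) with hCD
  have hUC : (U : Subgroup G) ≤ CD := fun x hx => by
    rw [hCD, Subgroup.mem_centralizer_iff]
    exact fun d hd => (hcomm d hd x hx).symm
  -- the elements of `S` normalising `D` lie in `D`
  have hND : S₀ ⊓ Subgroup.normalizer (D : Set G) ≤ D := by
    intro x hx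
    have hCn : (CD.subgroupOf (Subgroup.normalizer (D : Set G))).Normal :=
      (Subgroup.normalizerMonoidHom_ker D) ▸ MonoidHom.normal_ker _
    have hidx : ¬ 2 ∣ (CD.subgroupOf (Subgroup.normalizer (D : Set G))).index := fun h =>
      U.not_dvd_index ((h.trans (Dvd.intro _ (Subgroup.relIndex_mul_index (Subgroup.centralizer_le_normalizer _)))).trans
        (Subgroup.index_dvd_of_le hUC))
    have hxC : (⟨x, hx.2⟩ : Subgroup.normalizer (D : Set G)) ∈
        CD.subgroupOf (Subgroup.normalizer (D : Set G)) := by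
      haveI := hCn
      rw [← QuotientGroup.eq_one_iff, ← orderOf_eq_one_iff]
      obtain ⟨j, hj⟩ := IsPGroup.iff_orderOf.mp S.isPGroup' ⟨x, hx.1⟩
      rw [Subgroup.orderOf_mk] at hj
      refine Nat.eq_one_of_dvd_coprimes (a := 2 ^ j) ?_ ?_ (orderOf_dvd_natCard _)
      · exact Nat.Coprime.pow_left j (Nat.prime_two.coprime_iff_not_dvd.mpr hidx)
      · refine (orderOf_map_dvd (QuotientGroup.mk' _) _).trans ?_
        rw [Subgroup.orderOf_mk, hj]
    have hxD : x ∈ CD := Subgroup.mem_subgroupOf.mp hxC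
    refine ⟨hx.1, hRT ⟨hx.1, ?_⟩⟩
    exact Subgroup.mem_centralizer_singleton_iff.mpr
      ((Subgroup.mem_centralizer_iff.mp hxD u huD).symm)
  -- hence `D = S`, absurd
  haveI : Group.IsNilpotent S₀ := S.isPGroup'.isNilpotent
  have htop : D.subgroupOf S₀ = ⊤ := by
    by_contra h
    have h1 := (Group.normalizerCondition_of_isNilpotent (G := S₀)) _ (lt_top_iff_ne_top.mpr h)
    refine h1.not_ge fun y hy => ?_
    rw [Subgroup.mem_subgroupOf]
    refine hND ⟨y.2, ?_⟩
    show (y : G) ∈ Subgroup.normalizer (D : Set G)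
    rw [Subgroup.mem_normalizer_iff] at hy ⊢
    intro a
    constructor
    · intro ha
      exact Subgroup.mem_subgroupOf.mp ((hy ⟨a, ha.1⟩).mp (Subgroup.mem_subgroupOf.mpr ha))
    · intro ha
      have haS : a ∈ S₀ := by
        have := S₀.mul_mem (S₀.mul_mem (S₀.inv_mem y.2) ha.1) y.2
        simpa [mul_assoc] using this
      exact Subgroup.mem_subgroupOf.mp ((hy ⟨a, haS⟩).mpr (Subgroup.mem_subgroupOf.mpr ha))
  rw [Subgroup.subgroupOf_eq_top] at htop
  exact hST (Sylow.ext ((S.is_maximal' T.isPGroup' (htop.trans inf_le_right)).symm))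

/-- Let G be a finite group in which the intersection of any two distinct Sylow 2-subgroups is contained in the centre of some Sylow 2-subgroup, and let S be a Sylow 2-subgroup. If C is a nontrivial cyclic characteristic subgroup of S, then the involution of C is central modulo the largest normal subgroup of odd order of G: each of its conjugates has the same image in G/O(G). -/
theorem result {G : Type*} [Group G] [Finite G]
    (hCI : ∀ S T : Sylow 2 G, S ≠ T → ∃ U : Sylow 2 G,
      (S : Subgroup G) ⊓ (T : Subgroup G) ≤ (Subgroup.center ↥(U : Subgroup G)).map (U : Subgroup G).subtype)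
    (S : Sylow 2 G) (C : Subgroup ↥(S : Subgroup G)) (hC : C ≠ ⊥) (hCc : IsCyclic ↥C) (hCh : C.Characteristic)
    (c : ↥(S : Subgroup G)) (hc : c ∈ C) (hc2 : orderOf c = 2) :
    ∀ g : G, (QuotientGroup.mk (s := Cfsg.oddCore G) (g * (c : G) * g⁻¹)) =
      QuotientGroup.mk (s := Cfsg.oddCore G) (c : G) := by
  haveI : Fact (Nat.Prime 2) := ⟨Nat.prime_two⟩
  intro g
  -- the only involution of `C`
  haveI := hCc
  have huni : ∀ d ∈ C, orderOf d = 2 → d = c := by
    intro d hd hd2
    haveI : Fintype C := Fintype.ofFinite _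
    have h1 : orderOf (⟨d, hd⟩ : C) = 2 := by rw [Subgroup.orderOf_mk, hd2]
    have h2 : orderOf (⟨c, hc⟩ : C) = 2 := by rw [Subgroup.orderOf_mk, hc2]
    have e := IsCyclic.card_orderOf_eq_totient (α := C) (d := 2)
      (by have := orderOf_dvd_card (x := (⟨c, hc⟩ : C)); rwa [h2] at this)
    rw [Nat.totient_two, Finset.card_eq_one] at e
    obtain ⟨w, hw⟩ := e
    have a1 : (⟨d, hd⟩ : C) = w := Finset.mem_singleton.mp (hw ▸ Finset.mem_filter.mpr
      ⟨Finset.mem_univ _, h1⟩)
    have a2 : (⟨c, hc⟩ : C) = w := Finset.mem_singleton.mp (hw ▸ Finset.mem_filter.mpr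
      ⟨Finset.mem_univ _, h2⟩)
    exact congrArg Subtype.val (a1.trans a2.symm)
  have hfix : ∀ φ : ↥(S : Subgroup G) ≃* ↥(S : Subgroup G), φ c = c := fun φ => by
    refine huni _ ?_ (by rw [← MulEquiv.coe_toMonoidHom, orderOf_injective _ φ.injective, hc2])
    have h1 := Subgroup.Characteristic.fixed (H := C) hCh φ
    rw [← h1] at hc
    exact hc
  have hzN : ∀ x ∈ Subgroup.normalizer ((S : Subgroup G) : Set G), x * (c : G) * x⁻¹ = c := by
    intro x hx
    exact congrArg Subtype.val (hfix ((S : Subgroup G).normalizerMonoidHom ⟨x, hx⟩))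
  have hz : orderOf (c : G) = 2 := by rw [Subgroup.orderOf_coe, hc2]
  obtain ⟨N, hN, hodd, hcomm⟩ := Cfsg.Agent.S0215.result S (c : G) hz c.2
    (fun x hx => isolated hCI S c c.2 (fun y hy => by
      have := hzN y (Subgroup.le_normalizer hy)
      exact mul_inv_eq_iff_eq_mul.mp this) hzN x hx)
  have hNle : N ≤ Cfsg.oddCore G := le_sSup ⟨hN, Nat.coprime_two_right.mpr hodd⟩
  rw [QuotientGroup.eq]
  have h1 := hN.conj_mem _ (hcomm g) (c : G)⁻¹
  refine hNle ?_
  have h2 : (g * (c : G) * g⁻¹)⁻¹ * (c : G) =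
      ((c : G)⁻¹ * ((c : G) * g * (c : G)⁻¹ * g⁻¹) * ((c : G)⁻¹)⁻¹) := by group
  rw [h2]
  exact h1

end Cfsg.Agent.S3184
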