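import Cfsg.Statements.S3190
import Mathlib.GroupTheory.Nilpotent
import Mathlib.Tactic.Group

set_option autoImplicit false
open Cfsg

namespace Cfsg.Agent.S3190

theorem exists_mem_center {X : Type*} [Group X] [Finite X] {p : ℕ} [Fact p.Prime] (P I : Subgroup X)
    (hP : IsPGroup p ↥P) (hI : I ≤ P) (hne : I ≠ ⊥) (hn : ∀ u ∈ P, ∀ v ∈ I, u * v * u⁻¹ ∈ I) :
    ∃ v ∈ I, v ≠ 1 ∧ ∀ u ∈ P, u * v = v * u := by
  let _ : MulAction ↥P ↥I :=
    { smul := fun u v => ⟨(u : X) * v * (u : X)⁻¹, hn u u.2 v v.2⟩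
      one_smul := fun v => Subtype.ext (by show (1 : X) * v * (1 : X)⁻¹ = v; simp)
      mul_smul := fun u w v => Subtype.ext (by
        show ((u : X) * w) * v * ((u : X) * w)⁻¹ = (u : X) * ((w : X) * v * (w : X)⁻¹) * (u : X)⁻¹
        simp [mul_assoc]) }
  have h1 : (1 : ↥I) ∈ MulAction.fixedPoints ↥P ↥I := fun u => Subtype.ext (by
    show (u : X) * 1 * (u : X)⁻¹ = 1; simp)
  have hpI : p ∣ Nat.card ↥I := by
    rcases (hP.to_le hI).card_eq_or_dvd with h | h
    · exact absurd (Subgroup.card_eq_one.mp h) hne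
    · exact h
  obtain ⟨v, hv, hv1⟩ := hP.exists_fixed_point_of_prime_dvd_card_of_fixed_point (↥I) hpI h1
  refine ⟨v, v.2, fun h => hv1 (Subtype.ext h.symm), fun u hu => ?_⟩
  have := congrArg Subtype.val (hv ⟨u, hu⟩)
  exact mul_inv_eq_iff_eq_mul.mp this


/-- Let p be an odd prime and, inside a finite group, let P be a p-subgroup normalized by a Klein four-group T. Let R be a subgroup of P, normal in P and normalized by T, such that P is the product of R with the centralizer of T in P. If T centralizes the centre of P, then T centralizes the centre of R. -/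
theorem result {X : Type*} [Group X] [Finite X]
    {p : ℕ} (hp : p.Prime) (hodd : Odd p) (P T R : Subgroup X) (hP : IsPGroup p ↥P) (hT : IsKleinFour ↥T)
    (hTP : T ≤ Subgroup.normalizer (P : Set X)) (hRP : R ≤ P) (hRn : (R.subgroupOf P).Normal)
    (hTR : T ≤ Subgroup.normalizer (R : Set X)) (hfac : R ⊔ (P ⊓ Subgroup.centralizer (T : Set X)) = P)
    (hZ : T ≤ Subgroup.centralizer (((Subgroup.center ↥P).map P.subtype : Subgroup X) : Set X)) :
    T ≤ Subgroup.centralizer (((Subgroup.center ↥R).map R.subtype : Subgroup X) : Set X) := by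
  have : Fact p.Prime := ⟨hp⟩
  intro a ha
  rw [Subgroup.mem_centralizer_iff]
  have hRc : ∀ c ∈ (Subgroup.center ↥R).map R.subtype, c ∈ R ∧ ∀ r ∈ R, r * c = c * r := by
    rintro _ ⟨z, hz, rfl⟩
    exact ⟨z.2, fun r hr => congrArg Subtype.val (Subgroup.mem_center_iff.mp hz ⟨r, hr⟩)⟩
  have hRc' : ∀ c ∈ R, (∀ r ∈ R, r * c = c * r) → c ∈ (Subgroup.center ↥R).map R.subtype :=
    fun c hc h => ⟨⟨c, hc⟩, Subgroup.mem_center_iff.mpr fun r => Subtype.ext (h r r.2), rfl⟩
  set W := (Subgroup.center ↥R).map R.subtype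
  have hWR : ∀ c ∈ W, c ∈ R := fun c hc => (hRc c hc).1
  have hWc : ∀ c ∈ W, ∀ d ∈ W, d * c = c * d := fun c hc d hd => (hRc c hc).2 d (hWR d hd)
  have haa : a * a = 1 := by
    haveI := hT
    have := IsKleinFour.mul_self (⟨a, ha⟩ : ↥T)
    exact congrArg Subtype.val this
  have hai : a⁻¹ = a := inv_eq_of_mul_eq_one_right haa
  have hWa : ∀ c ∈ W, a * c * a⁻¹ ∈ W := by
    intro c hc
    refine hRc' _ ((Subgroup.mem_normalizer_iff.mp (hTR ha) c).mp (hWR c hc)) fun r hr => ?_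
    have hr' : a * r * a⁻¹ ∈ R := (Subgroup.mem_normalizer_iff.mp (hTR ha) r).mp hr
    have h := congrArg (fun t => a * t * a⁻¹) ((hRc c hc).2 _ hr')
    have haa' : a * (a * r * a⁻¹) * a⁻¹ = r := by
      rw [hai]; simp only [← mul_assoc, haa, one_mul]; rw [mul_assoc, haa, mul_one]
    skip
    rw [← conj_mul (c := c), ← conj_mul (c := a * r * a⁻¹), haa'] at h
    exact h
  let I : Subgroup X :=
    { carrier := {c | c ∈ W ∧ a * c * a⁻¹ = c⁻¹}
      one_mem' := ⟨W.one_mem, by simp⟩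
      mul_mem' := fun {c d} hc hd => ⟨W.mul_mem hc.1 hd.1, by
        rw [← conj_mul, hc.2, hd.2, mul_inv_rev, hWc _ (W.inv_mem hd.1) _ (W.inv_mem hc.1)]⟩
      inv_mem' := fun {c} hc => ⟨W.inv_mem hc.1, by rw [← conj_inv, hc.2]⟩ }
  have hI : I = ⊥ := by
    by_contra hne
    have hnR : ∀ u ∈ P, ∀ c ∈ R, u * c * u⁻¹ ∈ R := fun u hu c hc =>
      hRn.conj_mem (⟨c, hRP hc⟩ : ↥P) hc ⟨u, hu⟩
    have hle : P ≤ Subgroup.normalizer (I : Set X) := by
      conv_lhs => rw [← hfac]
      refine sup_le (fun r hr => ?_) ?_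
      · rw [Subgroup.mem_normalizer_iff]
        intro c
        have hfix : ∀ w ∈ W, r * w * r⁻¹ = w := fun w hw => by rw [(hRc w hw).2 r hr, mul_inv_cancel_right]
        constructor
        · intro hc; rw [hfix c hc.1]; exact hc
        · intro hc
          have h1 := (hRc _ hc.1).2 r⁻¹ (R.inv_mem hr)
          have : c = r * c * r⁻¹ := by
            calc c = r⁻¹ * (r * c * r⁻¹) * r := by group
              _ = r * c * r⁻¹ := by rw [h1]; group
          rw [this]; exact hc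
      · intro u hu
        have hfwd : ∀ u ∈ P ⊓ Subgroup.centralizer (T : Set X), ∀ c ∈ I, u * c * u⁻¹ ∈ I := by
          rintro u ⟨huP, huC⟩ c ⟨hcW, hca⟩
          refine ⟨hRc' _ (hnR u huP c (hWR c hcW)) fun r hr => ?_, ?_⟩
          · have h := congrArg (fun t => u * t * u⁻¹)
              ((hRc c hcW).2 (u⁻¹ * r * u) (by simpa using hnR u⁻¹ (P.inv_mem huP) r hr))
            simpa [mul_assoc] using h
          · have hau : a * u = u * a := Subgroup.mem_centralizer_iff.mp huC a ha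
            have hau' : u⁻¹ * a⁻¹ = a⁻¹ * u⁻¹ := by rw [← mul_inv_rev, ← mul_inv_rev, hau]
            calc a * (u * c * u⁻¹) * a⁻¹ = (a * u) * c * (u⁻¹ * a⁻¹) := by group
              _ = u * (a * c * a⁻¹) * u⁻¹ := by rw [hau, hau']; group
              _ = (u * c * u⁻¹)⁻¹ := by rw [hca, conj_inv]
        rw [Subgroup.mem_normalizer_iff]
        intro c
        refine ⟨hfwd u hu c, fun hc => ?_⟩
        have := hfwd u⁻¹ (Subgroup.inv_mem _ hu) _ hc
        simpa [mul_assoc] using this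
    obtain ⟨v, hv, hv1, hvc⟩ := exists_mem_center P I hP (fun c hc => hRP (hWR c hc.1)) hne
      (fun u hu c hc => (Subgroup.mem_normalizer_iff.mp (hle hu) c).mp hc)
    have hvP : v ∈ P := hRP (hWR v hv.1)
    have h1 : a * v * a⁻¹ = v := by
      have := Subgroup.mem_centralizer_iff.mp (hZ ha) v ⟨⟨v, hvP⟩, Subgroup.mem_center_iff.mpr fun u => Subtype.ext (hvc u u.2), rfl⟩
      rw [← this, mul_inv_cancel_right]
    have h2 : v = v⁻¹ := h1.symm.trans hv.2
    have h3 : v ^ 2 = 1 := by rw [pow_two]; nth_rw 1 [h2]; simp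
    obtain ⟨k, hk⟩ := hP ⟨v, hvP⟩
    have h4 : orderOf v ∣ p ^ k := orderOf_dvd_of_pow_eq_one (by simpa using congrArg Subtype.val hk)
    have h5 : orderOf v ∣ 2 := orderOf_dvd_of_pow_eq_one h3
    have : orderOf v = 1 := Nat.eq_one_of_dvd_coprimes ((Nat.coprime_two_right.mpr hodd).pow_left k) h4 h5
    exact hv1 (orderOf_eq_one_iff.mp this)
  intro w hw
  have hu : w * (a * w⁻¹ * a⁻¹) ∈ I := by
    refine ⟨W.mul_mem hw (hWa _ (W.inv_mem hw)), ?_⟩
    have h1 : a * (a * w⁻¹ * a⁻¹) * a⁻¹ = w⁻¹ := by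
      rw [hai]; simp only [← mul_assoc, haa, one_mul]; rw [mul_assoc, haa, mul_one]
    rw [← conj_mul, h1, mul_inv_rev, ← conj_inv, inv_inv]
  rw [hI, Subgroup.mem_bot] at hu
  have := eq_inv_of_mul_eq_one_left hu
  rw [conj_inv, inv_inv] at this
  exact eq_mul_inv_iff_mul_eq.mp this

end Cfsg.Agent.S3190
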