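import Cfsg.Statements.S3191
import Cfsg.Agent.Lib.AltClasses.Count
import Cfsg.Agent.Lib.AltClasses.Fusion
import Cfsg.Agent.Lib.SylClasses.Model.Build
import Cfsg.Agent.Lib.SylClasses.Model.One

set_option autoImplicit false
open Cfsg

namespace Cfsg.Agent.S3191

/-- Let n ≥ 1 and r = 2 or 3, and let H be the centralizer in the alternating group of degree 4n + r of an involution moving exactly 4n points (a product of 2n disjoint transpositions). Let G be a finite group that has no normal subgroup of index 2 and that contains an involution t which is central in some Sylow 2-subgroup of G and whose centralizer is isomorphic to H. Then G has exactly n conjugacy classes of involutions. -/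
theorem result (n r : ℕ) (hn : 1 ≤ n) (hr : r = 2 ∨ r = 3)
    (α : ↥(alternatingGroup (Fin (4 * n + r)))) (hα : orderOf α = 2)
    (hα4 : (α : Equiv.Perm (Fin (4 * n + r))).support.card = 4 * n)
    {G : Type*} [Group G] [Finite G] (h2 : ∀ H : Subgroup G, H.Normal → H.index ≠ 2)
    (t : G) (ht : orderOf t = 2) (S : Sylow 2 G) (htS : t ∈ (S : Subgroup G))
    (htZ : ∀ s ∈ (S : Subgroup G), s * t = t * s)
    (hiso : Nonempty (↥(Subgroup.centralizer ({t} : Set G)) ≃*
      ↥(Subgroup.centralizer ({α} : Set ↥(alternatingGroup (Fin (4 * n + r))))))) :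
    Nat.card {c : ConjClasses G // ∃ x ∈ c.carrier, orderOf x = 2} = n := by
  rcases hn.lt_or_eq with hn2 | rfl
  · obtain ⟨s, hsn, -⟩ :=
      SylClasses.Model.exists_setup hn2 hr α hα hα4 h2 t ht S htS htZ hiso
    have key : ∀ s' : SylClasses.Setup (Fin (2 * n)) G, AltClasses.TypeB s' →
        Nat.card {c : ConjClasses G // ∃ x ∈ c.carrier, orderOf x = 2} = s'.n := fun s' hB =>
      AltClasses.count_classes s' hB (AltClasses.all_fused s' hB (AltClasses.exists_swap_fused s' hB))
    rcases AltClasses.exists_typeB s with hB | hB
    · exact (key s hB).trans hsn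
    · exact (key s.flipTwist hB).trans hsn
  · exact SylClasses.Model.one_class hr α hα hα4 h2 t ht S htS htZ hiso

end Cfsg.Agent.S3191
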