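import Cfsg.Statements.S3192
import Cfsg.Agent.Lib.ConjRankThree.Converse

set_option autoImplicit false
set_option linter.style.haveILetI false
open Cfsg

namespace Cfsg.Agent.S3192

/-- Simple groups of conjugate type rank three. For a finite group G consider the set of indices of the centralizers of the non-central elements of G. Then G is a non-abelian simple group for which this set has exactly three members if and only if G is isomorphic to PSL(2, 2^m) for some m ≥ 2. -/
theorem result (G : Type*) [Group G] [Finite G] :
    (IsSimpleGroup G ∧ ¬ IsMulCommutative G ∧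
        Set.ncard {m : ℕ | ∃ x : G, x ∉ Subgroup.center G ∧ m = (Subgroup.centralizer ({x} : Set G)).index} = 3) ↔
      ∃ (m : ℕ) (F : Type) (_ : Field F) (_ : Fintype F), 2 ≤ m ∧ Fintype.card F = 2 ^ m ∧
        Nonempty (G ≃* Matrix.ProjectiveSpecialLinearGroup (Fin 2) F) := by
  constructor
  · rintro ⟨hs, hnc, h3⟩
    haveI := hs
    refine ConjRankThree.classify ?_ h3
    by_contra h
    push Not at h
    exact hnc ⟨⟨h⟩⟩
  · rintro ⟨m, F, iF, iT, hm, hq, ⟨e⟩⟩
    haveI : CharP F 2 := by
      haveI := Fact.mk Nat.prime_two
      exact charP_of_card_eq_prime_pow (f := m) hq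
    have hc := ConjRankThree.center_sl_two (F := F)
    have e' : G ≃* Matrix.SpecialLinearGroup (Fin 2) F :=
      (e.trans (QuotientGroup.quotientMulEquivOfEq hc)).trans QuotientGroup.quotientBot
    haveI : IsSimpleGroup (Matrix.ProjectiveSpecialLinearGroup (Fin 2) F) :=
      Matrix.ProjectiveSpecialLinearGroup.rank_two_simple (by
        rw [Nat.card_eq_fintype_card, hq]
        exact Nat.pow_le_pow_right (n := 2) (by norm_num) hm)
    haveI : Nontrivial G := e.toEquiv.nontrivial
    refine ⟨IsSimpleGroup.isSimpleGroup_of_surjective e.symm.toMonoidHom e.symm.surjective,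
      fun hcomm => ?_, ?_⟩
    · have h0 : Subgroup.center (Matrix.SpecialLinearGroup (Fin 2) F) = ⊤ :=
        eq_top_iff.2 fun a _ => Subgroup.mem_center_iff.2 fun b => e'.symm.injective (by
          rw [map_mul, map_mul]
          exact hcomm.is_comm.comm _ _)
      haveI := e'.toEquiv.symm.nontrivial
      exact bot_ne_top (hc.symm.trans h0)
    · exact (congrArg Set.ncard (ConjRankThree.sizes_equiv e')).trans (ConjRankThree.sizes_sl hm hq)

end Cfsg.Agent.S3192
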