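import Cfsg.Statements.S3195
import Cfsg.Agent.S0200
import Cfsg.Agent.Lib.Transfer.Basic

set_option autoImplicit false
open Cfsg

namespace Cfsg.Agent.S3195

lemma eq_one_of_odd_pow {G : Type*} [Group G] {s : G} {k : ℕ} (hs : Odd (orderOf s))
    (h : s ^ (2 ^ k) = 1) : s = 1 :=
  orderOf_eq_one_iff.1 (Nat.eq_one_of_dvd_coprimes
    ((Nat.coprime_two_right.2 hs).pow_right k) dvd_rfl (orderOf_dvd_of_pow_eq_one h))


/-- Let A be a Klein four-subgroup of a finite group G. If every G-conjugate of every involution of A commutes with some involution of A (its centralizer meets A nontrivially), then A meets the largest normal 2-subgroup O₂(G) nontrivially. -/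
theorem result {G : Type*} [Group G] [Finite G]
    (A : Subgroup G) (hA : IsKleinFour ↥A)
    (h : ∀ a ∈ A, a ≠ 1 → ∀ g : G, A ⊓ Subgroup.centralizer ({g * a * g⁻¹} : Set G) ≠ ⊥) :
    A ⊓ Cfsg.pCore 2 G ≠ ⊥ := by
  haveI : Fact (Nat.Prime 2) := ⟨Nat.prime_two⟩
  by_contra hO
  have hsq : ∀ a ∈ A, a * a = 1 := fun a ha =>
    congrArg Subtype.val (IsKleinFour.mul_self (⟨a, ha⟩ : A))
  have hcA : ∀ a ∈ A, ∀ b ∈ A, a * b = b * a := by
    intro a ha b hb
    have h1 := hsq _ (mul_mem ha hb)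
    calc a * b = a * (a * b * (a * b)) * b := by rw [h1, mul_one]
      _ = (a * a) * (b * a) * (b * b) := by group
      _ = b * a := by rw [hsq a ha, hsq b hb, one_mul, mul_one]
  have h4 : ∀ a ∈ A, ∀ b ∈ A, a ≠ 1 → b ≠ 1 → a ≠ b → ∀ u ∈ A, u ≠ 1 → u = a ∨ u = b ∨ u = a * b := by
    intro a ha b hb ha1 hb1 hab u hu hu1
    by_cases e1 : u = a
    · exact Or.inl e1
    by_cases e2 : u = b
    · exact Or.inr (Or.inl e2)
    exact Or.inr (Or.inr (congrArg Subtype.val (IsKleinFour.eq_mul_of_ne_all (G := A)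
      (x := ⟨a, ha⟩) (y := ⟨b, hb⟩) (z := ⟨u, hu⟩) (fun h => ha1 (congrArg Subtype.val h))
      (fun h => hb1 (congrArg Subtype.val h)) (fun h => hab (congrArg Subtype.val h))
      (fun h => hu1 (congrArg Subtype.val h))
      (fun h => e1 (congrArg Subtype.val h))
      (fun h => e2 (congrArg Subtype.val h)))))
  -- bad conjugates
  have hax : ∀ x ∈ A, x ≠ 1 → ∃ y ∈ A, y ≠ 1 ∧ y ≠ x ∧ ∃ d : G, d * d = 1 ∧
      (∃ g : G, ∃ x0 ∈ A, x0 ≠ 1 ∧ d = g * x0 * g⁻¹) ∧ d * y = y * d ∧
      ∀ z ∈ A, z ≠ 1 → z ≠ y → Odd (orderOf (z * d * z * d)) ∧ z * d * z * d ≠ 1 := by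
    intro x hx hx1
    obtain ⟨r, hr1, hro, hrx⟩ := S0200.result x (orderOf_eq_prime (by rw [pow_two, hsq x hx]) hx1)
      (fun N hN hp hxN => by
        have hx' : x ∈ A ⊓ Cfsg.pCore 2 G := ⟨hx, Cfsg.Agent.PBasic.le_pCore hN hp hxN⟩
        rw [hO, Subgroup.mem_bot] at hx'
        exact hx1 hx')
    set d := r * x * r⁻¹ with hd
    have hxi : x⁻¹ = x := inv_eq_of_mul_eq_one_right (hsq x hx)
    have hxd : x * d = r ^ (-(2 : ℤ)) := by
      rw [hd, show x * (r * x * r⁻¹) = (x * r * x⁻¹) * r⁻¹ by rw [hxi]; group, hrx]; group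
    have hdd : d * d = 1 := by
      rw [hd, show r * x * r⁻¹ * (r * x * r⁻¹) = r * (x * x) * r⁻¹ by group, hsq x hx, mul_one,
        mul_inv_cancel]
    have hS : Odd (orderOf (x * d * x * d)) ∧ x * d * x * d ≠ 1 := by
      have e : x * d * x * d = (r ^ 4)⁻¹ := by rw [mul_assoc (x * d), hxd]; group
      rw [e, orderOf_inv, ne_eq, inv_eq_one]
      have hco : (orderOf r).Coprime 4 := (Nat.coprime_two_right.2 hro).pow_right 2
      rw [hco.orderOf_pow]
      exact ⟨hro, fun h => hr1 (eq_one_of_odd_pow (k := 2) hro h)⟩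
    have hnc : x * d ≠ d * x := fun h => hS.2 (by
      rw [h, mul_assoc d x x, hsq x hx, mul_one, hdd])
    obtain ⟨y, ⟨hyA, hyC⟩, hy1⟩ := (Subgroup.bot_or_exists_ne_one _).resolve_left (h x hx hx1 r)
    have hdy : d * y = y * d := (Subgroup.mem_centralizer_singleton_iff.1 hyC).symm
    have hyx : y ≠ x := fun e => hnc (e ▸ hdy.symm)
    refine ⟨y, hyA, hy1, hyx, d, hdd, ⟨r, x, hx, hx1, rfl⟩, hdy, fun z hz hz1 hzy => ?_⟩
    rcases h4 x hx y hyA hx1 hy1 (Ne.symm hyx) z hz hz1 with rfl | rfl | rfl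
    · exact hS
    · exact absurd rfl hzy
    · have e : x * y * d * (x * y) * d = x * d * x * d := by
        calc x * y * d * (x * y) * d = x * (y * d) * (x * y) * d := by group
          _ = x * (y * d) * (y * x) * d :=
            congrArg (fun t => x * (y * d) * t * d) (hcA x hx y hyA)
          _ = x * d * (y * y) * x * d := by rw [← hdy]; group
          _ = _ := by rw [hsq y hyA, mul_one]
      rwa [e]
  obtain ⟨x, hxA, hx1⟩ := A.bot_or_exists_ne_one.resolve_left (fun e => by
    have := hA.card_four; rw [e, Subgroup.card_bot] at this; norm_num at this)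
  obtain ⟨b, hbA, hb1, -, d, hdd, hdD, hdb, hd⟩ := hax x hxA hx1
  obtain ⟨c, hcA', hc1, hcb, k, hkk, -, hkc, hk⟩ := hax b hbA hb1
  obtain ⟨hbk_odd, hbk⟩ := hk b hbA hb1 hcb.symm
  obtain ⟨hcd_odd, hcd⟩ := hd c hcA' hc1 hcb
  have hki : k⁻¹ = k := inv_eq_of_mul_eq_one_right hkk
  have hdi : d⁻¹ = d := inv_eq_of_mul_eq_one_right hdd
  set b1 := k * b * k with hb1def
  have hb11 : b1 * b1 = 1 := by
    rw [hb1def, show k * b * k * (k * b * k) = k * b * (k * k) * b * k by group, hkk, mul_one,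
      mul_assoc k, hsq b hbA, mul_one, hkk]
  have hb1c : b1 * c = c * b1 := by
    rw [hb1def]
    calc k * b * k * c = k * b * (k * c) := by group
      _ = k * (b * c) * k := by rw [hkc]; group
      _ = (k * c) * b * k := by rw [hcA b hbA c hcA']; group
      _ = _ := by rw [hkc]; group
  obtain ⟨g, x0, hx0, hx01, hdx⟩ := hdD
  -- some element acting on `b` as `b1` does, centralizing `c` and `d`
  obtain ⟨h2, h2c, h2d, h2b⟩ : ∃ h2 : G, h2 * c = c * h2 ∧ h2 * d = d * h2 ∧
      h2 * b * h2⁻¹ = b1 * b * b1 := by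
    obtain ⟨u, ⟨huA, huC⟩, hu1⟩ := (Subgroup.bot_or_exists_ne_one _).resolve_left
      (h x0 hx0 hx01 (k * g))
    replace huC := Subgroup.mem_centralizer_singleton_iff.1 huC
    rw [show k * g * x0 * (k * g)⁻¹ = k * d * k⁻¹ by rw [hdx]; group, hki] at huC
    have hkuk : k * u * k * d = d * (k * u * k) := by
      calc k * u * k * d = k * (u * (k * d * k)) * k⁻¹ := by
            rw [hki]
            calc k * u * k * d = k * u * k * d * (k * k) := by rw [hkk, mul_one]
              _ = _ := by group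
        _ = k * (k * d * k * u) * k := by rw [huC, hki]
        _ = (k * k) * d * (k * u * k) := by group
        _ = _ := by rw [hkk, one_mul]
    have hb1i : b1⁻¹ = b1 := inv_eq_of_mul_eq_one_right hb11
    rcases h4 b hbA c hcA' hb1 hc1 hcb.symm u huA hu1 with rfl | rfl | rfl
    · exact ⟨b1, hb1c, hkuk, by rw [hb1i]⟩
    · exfalso
      rw [hkc, mul_assoc u, hkk, mul_one] at hkuk
      exact hcd (by rw [hkuk, mul_assoc d u u, hsq u huA, mul_one, hdd])
    · have e : k * (b * c) * k = b1 * c := by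
        rw [hb1def]
        calc k * (b * c) * k = k * b * (c * k) := by group
          _ = k * b * k * c := by rw [← hkc]; group
      rw [e] at hkuk
      refine ⟨b1 * c, ((show Commute b1 c from hb1c).mul_left (Commute.refl c)).eq, hkuk, ?_⟩
      rw [mul_inv_rev, hb1i, inv_eq_of_mul_eq_one_right (hsq c hcA')]
      calc b1 * c * b * (c * b1) = b1 * (c * b) * c * b1 := by group
        _ = b1 * b * (c * c) * b1 := by rw [← hcA b hbA c hcA']; group
        _ = _ := by rw [hsq c hcA', mul_one]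
  set b2 := b1 * b * b1 with hb2def
  set c1 := d * c * d with hc1def
  have hb22 : b2 * b2 = 1 := by
    rw [hb2def, show b1 * b * b1 * (b1 * b * b1) = b1 * b * (b1 * b1) * b * b1 by group, hb11,
      mul_one, mul_assoc b1, hsq b hbA, mul_one, hb11]
  have hc11 : c1 * c1 = 1 := by
    rw [hc1def, show d * c * d * (d * c * d) = d * c * (d * d) * c * d by group, hdd,
      mul_one, mul_assoc d, hsq c hcA', mul_one, hdd]
  have hCc1 : ∀ w : G, w * c = c * w → w * d = d * w → w * c1 = c1 * w := fun w h1 h2 => by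
    have hc : Commute w c := h1
    have hd' : Commute w d := h2
    exact (hd'.mul_right hc).mul_right hd'
  have hbc : b * c = c * b := hcA b hbA c hcA'
  have hbc1 : b * c1 = c1 * b := hCc1 b hbc hdb.symm
  have hb2c : b2 * c = c * b2 :=
    ((Commute.mul_left (show Commute b1 c from hb1c) (show Commute b c from hbc)).mul_left
      (show Commute b1 c from hb1c))
  have hb2c1 : b2 * c1 = c1 * b2 := by
    rw [← h2b]
    have hw : Commute h2 c1 := hCc1 h2 h2c h2d
    exact (hw.mul_left (show Commute b c1 from hbc1)).mul_left hw.inv_left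
  have hnb : ∀ n : ℕ, (b * b1) ^ (2 ^ n) ≠ 1 := fun n e => hbk (by
    refine eq_one_of_odd_pow (k := n) hbk_odd ?_
    rw [show b * k * b * k = b * b1 by rw [hb1def]; group, e])
  have hbb2 : b * b2 = (b * b1) ^ 2 := by rw [hb2def, pow_two]; group
  have hncc : c * c1 ≠ c1 * c := fun e => by
    refine hcd (eq_one_of_odd_pow (k := 1) hcd_odd ?_)
    have e0 : c * d * c * d = c * c1 := by rw [hc1def]; group
    rw [e0, pow_one, pow_two]
    calc c * c1 * (c * c1) = c * c1 * (c1 * c) := by rw [← e]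
      _ = c * (c1 * c1) * c := by group
      _ = 1 := by rw [hc11, mul_one, hsq c hcA']
  have hnbb : b * b2 ≠ b2 * b := fun e => hnb 2 (by
    rw [show (2:ℕ) ^ 2 = 2 * 2 by norm_num, pow_mul, ← hbb2, pow_two]
    calc b * b2 * (b * b2) = b * b2 * (b2 * b) := by rw [← e]
      _ = b * (b2 * b2) * b := by group
      _ = 1 := by rw [hb22, mul_one, hsq b hbA])
  have hbc' : b * c ≠ 1 := fun e =>
    hcb (by rw [mul_eq_one_iff_eq_inv, inv_eq_of_mul_eq_one_right (hsq c hcA')] at e; exact e.symm)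
  obtain ⟨u, ⟨huA, huC⟩, hu1⟩ := (Subgroup.bot_or_exists_ne_one _).resolve_left
    (h (b * c) (mul_mem hbA hcA') hbc' (h2 * d))
  replace huC := Subgroup.mem_centralizer_singleton_iff.1 huC
  have ey : h2 * d * (b * c) * (h2 * d)⁻¹ = b2 * c1 := by
    have hw : Commute h2 c1 := hCc1 h2 h2c h2d
    calc h2 * d * (b * c) * (h2 * d)⁻¹ = h2 * (d * b * d * (d * d)⁻¹) * (d * c * d) * h2⁻¹ := by
          rw [hdd, inv_one, mul_one, mul_inv_rev, hdi]
          calc h2 * d * (b * c) * (d * h2⁻¹) = h2 * d * b * (d * d) * c * d * h2⁻¹ := by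
                rw [hdd, mul_one]; group
            _ = _ := by group
      _ = h2 * b * (c1 * h2⁻¹) := by
          rw [hdd, inv_one, mul_one, hdb, mul_assoc b d d, hdd, mul_one, hc1def]; group
      _ = b2 * c1 := by rw [← hw.inv_left.eq, ← mul_assoc, h2b]
  rw [ey] at huC
  rcases h4 b hbA c hcA' hb1 hc1 hcb.symm u huA hu1 with rfl | rfl | rfl
  · apply hnbb
    rw [mul_assoc b2, ← hbc1] at huC
    simp only [← mul_assoc] at huC
    exact mul_right_cancel huC
  · apply hncc
    rw [← mul_assoc u, ← hb2c, mul_assoc b2 u, mul_assoc b2] at huC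
    exact mul_left_cancel huC
  · have e1 : b * b2 * (c * c1) = b2 * b * (c1 * c) := by
      calc b * b2 * (c * c1) = b * (b2 * c) * c1 := by group
        _ = b * c * (b2 * c1) := by rw [hb2c]; group
        _ = b2 * c1 * (b * c) := huC
        _ = b2 * (c1 * b) * c := by group
        _ = b2 * b * (c1 * c) := by rw [← hbc1]; group
    have hbi : b⁻¹ = b := inv_eq_of_mul_eq_one_right (hsq b hbA)
    have hb2i : b2⁻¹ = b2 := inv_eq_of_mul_eq_one_right hb22
    have hci : c⁻¹ = c := inv_eq_of_mul_eq_one_right (hsq c hcA')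
    have hc1i : c1⁻¹ = c1 := inv_eq_of_mul_eq_one_right hc11
    have e2 : b * b2 * (b * b2) = c1 * c * (c1 * c) := by
      calc b * b2 * (b * b2) = (b2 * b)⁻¹ * (b * b2 * (c * c1)) * (c * c1)⁻¹ := by
            rw [mul_inv_rev b2 b, hbi, hb2i]; group
        _ = c1 * c * (c * c1)⁻¹ := by rw [e1]; group
        _ = _ := by rw [mul_inv_rev, hci, hc1i]
    have e3 : Commute b (c1 * c * (c1 * c)) :=
      ((show Commute b c1 from hbc1).mul_right (show Commute b c from hbc)).mul_right
        ((show Commute b c1 from hbc1).mul_right (show Commute b c from hbc))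
    rw [← e2] at e3
    refine hnb 3 ?_
    rw [show (2:ℕ) ^ 3 = 2 * 4 by norm_num, pow_mul, ← hbb2]
    calc (b * b2) ^ 4 = (b * b2 * (b * b2)) * ((b * b2 * (b * b2)) * b) * b := by
          conv_rhs => rw [mul_assoc (b * b2 * (b * b2)), mul_assoc _ b b, hsq b hbA, mul_one]
          simp only [pow_succ, pow_zero, one_mul, mul_assoc]
      _ = (b * b2 * (b * b2)) * (b * (b * b2 * (b * b2))) * b := by rw [e3.eq]
      _ = b * b2 * b * b2 * (b * b) * b2 * b * b2 * b := by group
      _ = b * b2 * b * (b2 * b2) * b * b2 * b := by rw [hsq b hbA, mul_one]; group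
      _ = b * b2 * (b * b) * b2 * b := by rw [hb22, mul_one]; group
      _ = b * (b2 * b2) * b := by rw [hsq b hbA, mul_one]; group
      _ = 1 := by rw [hb22, mul_one, hsq b hbA]

end Cfsg.Agent.S3195
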