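import Cfsg.Statements.S3196
import Cfsg.Agent.Lib.Transfer.Basic
import Cfsg.Agent.Lib.Solvable.Basic

set_option autoImplicit false
open Cfsg

namespace Cfsg.Agent.S3196

section
variable {G : Type*} [Group G] {p : ℕ}

theorem eq_zpowers_of_mem (hp : p.Prime) {X : Subgroup G} (hX : Nat.card ↥X = p) {x : G} (hx : x ∈ X)
    (hx1 : x ≠ 1) : X = Subgroup.zpowers x := by
  haveI : Finite X := Nat.finite_of_card_ne_zero (hX ▸ hp.ne_zero)
  refine (Subgroup.eq_of_le_of_card_ge (Subgroup.zpowers_le.2 hx) ?_).symm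
  have h1 : orderOf x ∣ p := hX ▸ Subgroup.orderOf_coe (⟨x, hx⟩ : X) ▸ orderOf_dvd_natCard _
  have h2 : orderOf x ≠ 1 := fun h => hx1 (orderOf_eq_one_iff.1 h)
  rw [hX, Nat.card_zpowers, (hp.eq_one_or_self_of_dvd _ h1).resolve_left h2]

theorem inf_eq_bot_of_ne (hp : p.Prime) {X Y : Subgroup G} (hX : Nat.card ↥X = p) (hY : Nat.card ↥Y = p)
    (hne : X ≠ Y) : X ⊓ Y = ⊥ := by
  rw [Subgroup.eq_bot_iff_forall]
  rintro x ⟨hx, hy⟩
  by_contra h1
  exact hne ((eq_zpowers_of_mem hp hX hx h1).trans (eq_zpowers_of_mem hp hY hy h1).symm)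

theorem card_sup [Finite G] (hp : p.Prime) {X Y : Subgroup G} (hX : Nat.card ↥X = p) (hY : Nat.card ↥Y = p)
    (hne : X ≠ Y) (hc : X ≤ Subgroup.centralizer (Y : Set G)) :
    Nat.card ↥(X ⊔ Y : Subgroup G) = p * p := by
  have h : Y ≤ Subgroup.normalizer (X : Set G) :=
    (Subgroup.le_centralizer_iff.1 hc).trans (Subgroup.centralizer_le_normalizer _)
  rw [SolvBasic.card_sup_of_inf_eq_bot h (by rw [inf_eq_bot_of_ne hp hX hY hne]), hX, hY]

theorem le_centralizer_of_map_conj_eq (hp : p.Prime) {X W : Subgroup G} (hX : Nat.card ↥X = p)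
    (hW : Nat.card ↥W = p) {x : G} (hx : x ∈ X) (hx1 : x ≠ 1)
    (h : W.map (MulAut.conj x).toMonoidHom = W) : X ≤ Subgroup.centralizer (W : Set G) := by
  classical
  haveI : Fact p.Prime := ⟨hp⟩
  haveI : Finite W := Nat.finite_of_card_ne_zero (hW ▸ hp.ne_zero)
  rw [eq_zpowers_of_mem hp hX hx hx1, Subgroup.zpowers_le, Subgroup.mem_centralizer_iff]
  intro w hw
  rcases eq_or_ne w 1 with rfl | hw1
  · simp
  have hwo : orderOf w = p := by rw [← Nat.card_zpowers, ← eq_zpowers_of_mem hp hW hw hw1, hW]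
  have hxo : orderOf x = p := by rw [← Nat.card_zpowers, ← eq_zpowers_of_mem hp hX hx hx1, hX]
  have hmem : x * w * x⁻¹ ∈ Subgroup.zpowers w := by
    rw [← eq_zpowers_of_mem hp hW hw hw1, ← h]; exact ⟨w, hw, rfl⟩
  obtain ⟨i, hi⟩ := (isOfFinOrder_iff_pow_eq_one.2 ⟨p, hp.pos, hwo ▸ pow_orderOf_eq_one w⟩).mem_zpowers_iff_mem_range_orderOf.1 hmem |> Finset.mem_image.1
  have hn : ∀ n : ℕ, x ^ n * w * (x ^ n)⁻¹ = w ^ (i ^ n) := by
    intro n
    induction n with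
    | zero => simp
    | succ n ih =>
      calc x ^ (n + 1) * w * (x ^ (n + 1))⁻¹ = x * (x ^ n * w * (x ^ n)⁻¹) * x⁻¹ := by rw [pow_succ']; group
        _ = (x * w * x⁻¹) ^ (i ^ n) := by rw [ih, conj_pow]
        _ = _ := by rw [← hi.2, ← pow_mul, pow_succ']
  have hm : i ^ p ≡ i [MOD p] := (ZMod.natCast_eq_natCast_iff _ _ _).1 (by push_cast; exact ZMod.pow_card _)
  have e : x ^ p * w * (x ^ p)⁻¹ = w ^ i := by
    rw [hn p]
    exact pow_eq_pow_iff_modEq.2 (hwo.symm ▸ hm)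
  rw [← hxo, pow_orderOf_eq_one, one_mul, inv_one, mul_one] at e
  have hxw : x * w * x⁻¹ = w := hi.2.symm.trans e.symm
  exact (mul_inv_eq_iff_eq_mul.1 hxw).symm

end


/-- Let p be a prime and K a set of subgroups of order p of a finite group G, closed under conjugation, such that at least two distinct members of K commute elementwise, and whenever two distinct members X, Y of K commute: every subgroup of order p of the group XY they generate belongs to K, and every member W of K has centralizer meeting XY nontrivially. Then some member V of K commutes elementwise with every member of K and lies in O_p(G); in particular G is not simple. -/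
theorem result {G : Type*} [Group G] [Finite G]
    {p : ℕ} (hp : p.Prime) (K : Set (Subgroup G)) (hK : ∀ X ∈ K, Nat.card ↥X = p)
    (hKc : ∀ X ∈ K, ∀ g : G, X.map (MulAut.conj g).toMonoidHom ∈ K)
    (hex : ∃ X ∈ K, ∃ Y ∈ K, X ≠ Y ∧ ∀ x ∈ X, ∀ y ∈ Y, x * y = y * x)
    (ha : ∀ X ∈ K, ∀ Y ∈ K, X ≠ Y → (∀ x ∈ X, ∀ y ∈ Y, x * y = y * x) →
      ∀ Z : Subgroup G, Z ≤ X ⊔ Y → Nat.card ↥Z = p → Z ∈ K)
    (hb : ∀ X ∈ K, ∀ Y ∈ K, X ≠ Y → (∀ x ∈ X, ∀ y ∈ Y, x * y = y * x) →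
      ∀ W ∈ K, (X ⊔ Y) ⊓ Subgroup.centralizer (W : Set G) ≠ ⊥) :
    (∃ V ∈ K, (∀ W ∈ K, ∀ v ∈ V, ∀ w ∈ W, v * w = w * v) ∧ V ≤ Cfsg.pCore p G) ∧ ¬ IsSimpleGroup G := by
  haveI : Fact p.Prime := ⟨hp⟩
  -- commuting members
  let C : Subgroup G → Subgroup G := fun W => Subgroup.centralizer (W : Set G)
  have hcomm : ∀ {X Y : Subgroup G}, X ≤ C Y → ∀ x ∈ X, ∀ y ∈ Y, x * y = y * x :=
    fun h x hx y hy => (Subgroup.mem_centralizer_iff.1 (h hx) y hy).symm
  have hsymm : ∀ {X Y : Subgroup G}, X ≤ C Y → Y ≤ C X := fun h => Subgroup.le_centralizer_iff.1 h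
  have hself : ∀ X ∈ K, X ≤ C X := fun X hX x hx => by
    obtain ⟨g, hg⟩ := (isCyclic_of_prime_card (hK X hX)).exists_generator
    rw [Subgroup.mem_centralizer_iff]
    intro y hy
    obtain ⟨a, ha⟩ := Subgroup.mem_zpowers_iff.1 (hg ⟨x, hx⟩)
    obtain ⟨b, hb⟩ := Subgroup.mem_zpowers_iff.1 (hg ⟨y, hy⟩)
    exact congrArg Subtype.val (show (⟨y, hy⟩ : ↥X) * ⟨x, hx⟩ = ⟨x, hx⟩ * ⟨y, hy⟩ by
      rw [← ha, ← hb, ← zpow_add, ← zpow_add, add_comm])
  have two : ∀ X ∈ K, ∀ Y ∈ K, X ≠ Y → X ≤ C Y → ∀ Z1 ∈ K, ∀ Z2 ∈ K, Z1 ≠ Z2 →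
      Z1 ≤ X ⊔ Y → Z2 ≤ X ⊔ Y → Z1 ⊔ Z2 = X ⊔ Y := by
    intro X hX Y hY hne hc Z1 h1 Z2 h2 hne' hl1 hl2
    have habel : X ⊔ Y ≤ C (X ⊔ Y) := by
      refine sup_le (hsymm (sup_le (hself X hX) (hsymm hc))) (hsymm (sup_le hc (hself Y hY)))
    have hc' : Z1 ≤ C Z2 := hl1.trans (habel.trans (Subgroup.centralizer_le (SetLike.coe_subset_coe.2 hl2)))
    refine Subgroup.eq_of_le_of_card_ge (sup_le hl1 hl2) ?_
    rw [card_sup hp (hK X hX) (hK Y hY) hne hc, card_sup hp (hK _ h1) (hK _ h2) hne' hc']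
  have habelL : ∀ X ∈ K, ∀ Y ∈ K, X ≤ C Y → X ⊔ Y ≤ C (X ⊔ Y) := fun X hX Y hY hc =>
    sup_le (hsymm (sup_le (hself X hX) (hsymm hc))) (hsymm (sup_le hc (hself Y hY)))
  have hexp : ∀ X ∈ K, ∀ Y ∈ K, X ≤ C Y → ∀ c ∈ X ⊔ Y, c ^ p = 1 := by
    intro X hX Y hY hc c hcm
    have hn : Y ≤ Subgroup.normalizer (X : Set G) :=
      (hsymm hc).trans (Subgroup.centralizer_le_normalizer _)
    have : c ∈ ((X ⊔ Y : Subgroup G) : Set G) := hcm
    rw [Subgroup.coe_mul_of_right_le_normalizer_left X Y hn] at this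
    obtain ⟨a, ha', b, hb', rfl⟩ := Set.mem_mul.1 this
    rw [(show Commute a b from hcomm hc a ha' b hb').mul_pow]
    have e1 : a ^ p = 1 := hK X hX ▸ congrArg Subtype.val (pow_card_eq_one' (x := (⟨a, ha'⟩ : X)))
    have e2 : b ^ p = 1 := hK Y hY ▸ congrArg Subtype.val (pow_card_eq_one' (x := (⟨b, hb'⟩ : Y)))
    rw [e1, e2, one_mul]
  have point : ∀ X ∈ K, ∀ Y ∈ K, X ≠ Y → X ≤ C Y → ∀ W ∈ K, ∃ Z ∈ K, Z ≤ X ⊔ Y ∧ Z ≤ C W := by
    intro X hX Y hY hne hc W hW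
    obtain ⟨c, hcm, hc1⟩ := (Subgroup.bot_or_exists_ne_one _).resolve_left
      (hb X hX Y hY hne (hcomm hc) W hW)
    have hcard : Nat.card ↥(Subgroup.zpowers c) = p := by
      rw [Nat.card_zpowers]; exact orderOf_eq_prime (hexp X hX Y hY hc c hcm.1) hc1
    exact ⟨Subgroup.zpowers c, ha X hX Y hY hne (hcomm hc) _ (Subgroup.zpowers_le.2 hcm.1) hcard,
      Subgroup.zpowers_le.2 hcm.1, Subgroup.zpowers_le.2 hcm.2⟩
  have conjC : ∀ (x : G) (W U : Subgroup G), (∀ u ∈ U, x * u = u * x) → W ≤ C U →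
      W.map (MulAut.conj x).toMonoidHom ≤ C U := by
    rintro x W U hxu hWU _ ⟨w, hw, rfl⟩
    rw [Subgroup.mem_centralizer_iff]
    intro u hu
    have h1 := hcomm hWU w hw u hu
    have h2 := hxu u hu
    show u * (x * w * x⁻¹) = x * w * x⁻¹ * u
    have h3 : u * x⁻¹ = x⁻¹ * u := by rw [eq_inv_mul_iff_mul_eq, ← mul_assoc, h2, mul_inv_cancel_right]
    calc u * (x * w * x⁻¹) = x * (u * w) * x⁻¹ := by rw [← mul_assoc, ← mul_assoc, ← h2]; group
      _ = x * w * (u * x⁻¹) := by rw [← h1]; group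
      _ = x * w * x⁻¹ * u := by rw [h3]; group
  suffices hV : ∃ V ∈ K, ∀ W ∈ K, V ≤ C W by
    obtain ⟨V, hV, hall⟩ := hV
    set N := Subgroup.normalClosure (V : Set G) with hN
    have hNab : IsMulCommutative ↥N := by
      rw [hN, Subgroup.normalClosure]
      refine Subgroup.isMulCommutative_closure ?_
      intro a ha' b hb'
      obtain ⟨a0, ha0, hca⟩ := Group.mem_conjugatesOfSet_iff.1 ha'
      obtain ⟨b0, hb0, hcb⟩ := Group.mem_conjugatesOfSet_iff.1 hb'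
      obtain ⟨g, rfl⟩ := isConj_iff.1 hca
      obtain ⟨g', rfl⟩ := isConj_iff.1 hcb
      have hW := hKc V hV (g⁻¹ * g')
      have h1 := hcomm (hall _ hW) a0 ha0 (g⁻¹ * g' * b0 * (g⁻¹ * g')⁻¹) ⟨b0, hb0, rfl⟩
      calc g * a0 * g⁻¹ * (g' * b0 * g'⁻¹) = g * (a0 * (g⁻¹ * g' * b0 * (g⁻¹ * g')⁻¹)) * g⁻¹ := by group
        _ = g' * b0 * g'⁻¹ * (g * a0 * g⁻¹) := by rw [h1]; group
    haveI := hNab
    have hVp : ∀ a ∈ Group.conjugatesOfSet (V : Set G), a ^ p = 1 := by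
      intro a ha'
      obtain ⟨a0, ha0, hca⟩ := Group.mem_conjugatesOfSet_iff.1 ha'
      obtain ⟨g, rfl⟩ := isConj_iff.1 hca
      rw [conj_pow, show a0 ^ p = 1 from hK V hV ▸ congrArg Subtype.val (pow_card_eq_one' (x := (⟨a0, ha0⟩ : V))),
        mul_one, mul_inv_cancel]
    have hNp : IsPGroup p ↥N := by
      intro a
      refine ⟨1, ?_⟩
      rw [pow_one]
      obtain ⟨a, ha'⟩ := a
      apply Subtype.ext
      show a ^ p = 1
      induction ha' using Subgroup.closure_induction with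
      | mem x hx => exact hVp x hx
      | one => exact one_pow p
      | mul x y hx hy ihx ihy =>
        rw [(show Commute x y from setLike_mul_comm (s := N) hx hy).mul_pow, ihx, ihy, one_mul]
      | inv x _ ihx => rw [inv_pow, ihx, inv_one]
    have hVN : V ≤ N := Subgroup.subset_normalClosure
    have hVO : V ≤ Cfsg.pCore p G :=
      hVN.trans (Cfsg.Agent.PBasic.le_pCore Subgroup.normalClosure_normal hNp)
    refine ⟨⟨V, hV, fun W hW => hcomm (hall W hW), hVO⟩, fun hs => ?_⟩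
    obtain ⟨X, hX, Y, hY, hne, -⟩ := hex
    rcases (Subgroup.normalClosure_normal (s := (V : Set G))).eq_bot_or_eq_top with h | h
    · have hc' := hK V hV
      rw [show V = ⊥ from le_bot_iff.1 (h ▸ hVN), Subgroup.card_bot] at hc'
      exact hp.ne_one hc'.symm
    · have habG : ∀ a b : G, a * b = b * a := fun a b =>
        setLike_mul_comm (s := N) (h.symm.le (Subgroup.mem_top a)) (h.symm.le (Subgroup.mem_top b))
      letI : CommGroup G := { (inferInstance : Group G) with mul_comm := habG }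
      haveI := hs
      have hprime : (Nat.card G).Prime := IsSimpleGroup.prime_card
      have hXG : Nat.card G = p := by
        have := X.card_subgroup_dvd_card
        rw [hK X hX] at this
        exact ((Nat.prime_dvd_prime_iff_eq hp hprime).1 this).symm
      exact hne ((Subgroup.eq_top_of_card_eq X (by rw [hK X hX, hXG])).trans
        (Subgroup.eq_top_of_card_eq Y (by rw [hK Y hY, hXG])).symm)
  have hmapne : ∀ X ∈ K, ∀ W ∈ K, ¬ X ≤ C W → ∀ x ∈ X, x ≠ 1 →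
      W.map (MulAut.conj x).toMonoidHom ≠ W := fun X hX W hW hn x hx hx1 h =>
    hn (le_centralizer_of_map_conj_eq hp (hK X hX) (hK W hW) hx hx1 h)
  by_cases hI : ∃ X ∈ K, ∃ W ∈ K, ¬ X ≤ C W ∧ ∃ x ∈ X, x ≠ 1 ∧ W.map (MulAut.conj x).toMonoidHom ≤ C W
  · obtain ⟨X, hX, W, hW, hXW, x, hx, hx1, hW'C⟩ := hI
    set W' := W.map (MulAut.conj x).toMonoidHom with hW'def
    have hW' : W' ∈ K := hKc W hW x
    have hne : W ≠ W' := (hmapne X hX W hW hXW x hx hx1).symm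
    obtain ⟨Q, hQ, hQl, hQX⟩ := point W hW W' hW' hne (hsymm hW'C) X hX
    have hQW : Q ≤ C W := hQl.trans (sup_le (hself W hW) hW'C)
    have hQne : Q ≠ W := fun h => hXW (hsymm (h ▸ hQX))
    have hQneX : Q ≠ X := fun h => hXW (h ▸ hQW)
    have hL4 : Q ⊔ W = W ⊔ W' := two W hW W' hW' hne (hsymm hW'C) Q hQ W hW hQne hQl le_sup_left
    refine ⟨Q, hQ, fun U hU => ?_⟩
    by_contra hQU
    obtain ⟨X1, hX1, hX1l, hX1U⟩ := point Q hQ X hX hQneX hQX U hU
    obtain ⟨W1, hW1, hW1l, hW1U⟩ := point Q hQ W hW hQne hQW U hU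
    have hX1ne : Q ≠ X1 := fun h => hQU (h ▸ hX1U)
    have hW1ne : Q ≠ W1 := fun h => hQU (h ▸ hW1U)
    have e1 : Q ⊔ X1 = Q ⊔ X := two Q hQ X hX hQneX hQX Q hQ X1 hX1 hX1ne le_sup_left hX1l
    have e2 : Q ⊔ W1 = Q ⊔ W := two Q hQ W hW hQne hQW Q hQ W1 hW1 hW1ne le_sup_left hW1l
    have hX1Q : X1 ≤ C Q :=
      hX1l.trans ((habelL Q hQ X hX hQX).trans (Subgroup.centralizer_le (SetLike.coe_subset_coe.2 le_sup_left)))
    have hnc : ¬ X1 ≤ C W1 := fun h => by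
      have h2 : X1 ≤ C W := (le_sup_right.trans (e2.symm.le.trans
        (sup_le (hsymm hX1Q) (hsymm h))) : W ≤ C X1) |> hsymm
      exact hXW (le_sup_right.trans (e1.symm.le.trans (sup_le hQW h2)))
    obtain ⟨x1, hx1m, hx11⟩ := X1.bot_or_exists_ne_one.resolve_left (fun h => by
      have := hK X1 hX1; rw [h, Subgroup.card_bot] at this; exact hp.ne_one this.symm)
    have hxN : x ∈ Subgroup.normalizer ((Q ⊔ W : Subgroup G) : Set G) := by
      have hfin : (Q ⊔ W).map (MulAut.conj x).toMonoidHom = Q ⊔ W := by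
        refine Subgroup.eq_of_le_of_card_ge ?_ (by
          rw [Subgroup.card_map_of_injective (MulAut.conj x).injective])
        rw [Subgroup.map_sup]
        refine sup_le (le_trans ?_ le_sup_left) (hL4.symm ▸ le_sup_right)
        rintro _ ⟨q, hq, rfl⟩
        show x * q * x⁻¹ ∈ Q
        rw [← hcomm hQX q hq x hx, mul_inv_cancel_right]; exact hq
      rw [Subgroup.mem_normalizer_iff]
      intro a
      conv_rhs => rw [← hfin]
      exact ⟨fun h => ⟨a, h, rfl⟩, fun ⟨b, hb', hba⟩ => (MulAut.conj x).injective hba ▸ hb'⟩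
    have hN : Q ⊔ X ≤ Subgroup.normalizer ((Q ⊔ W : Subgroup G) : Set G) := by
      refine sup_le (le_sup_left.trans Subgroup.le_normalizer) ?_
      rw [eq_zpowers_of_mem hp (hK X hX) hx hx1, Subgroup.zpowers_le]
      exact hxN
    set W1' := W1.map (MulAut.conj x1).toMonoidHom
    have hW1'l : W1' ≤ Q ⊔ W := by
      rintro _ ⟨w, hw, rfl⟩
      exact (Subgroup.mem_normalizer_iff.1 (hN (hX1l hx1m)) w).1 (hW1l hw)
    have hW1'U : W1' ≤ C U := conjC x1 W1 U (hcomm hX1U x1 hx1m) hW1U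
    have e3 := two Q hQ W hW hQne hQW W1' (hKc W1 hW1 x1) W1 hW1
      (hmapne X1 hX1 W1 hW1 hnc x1 hx1m hx11) hW1'l hW1l
    exact hQU (le_sup_left.trans (e3.symm.le.trans (sup_le hW1'U hW1U)))
  · push Not at hI
    have key : ∀ X ∈ K, ∀ Z ∈ K, ∀ W ∈ K, X ≤ C Z → W ≤ C Z → ¬ W ≤ C X →
        ∀ U ∈ K, U ≤ C W → U ≤ C Z := by
      intro X hX Z hZ W hW hXZ hWZ hWX U hU hUW
      by_cases hUWe : U = W
      · exact hUWe ▸ hWZ
      have hne : X ≠ Z := fun h => hWX (h ▸ hWZ)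
      obtain ⟨x, hx, hx1⟩ := X.bot_or_exists_ne_one.resolve_left (fun h => by
        have := hK X hX; rw [h, Subgroup.card_bot] at this; exact hp.ne_one this.symm)
      obtain ⟨z, hz, hz1⟩ := Z.bot_or_exists_ne_one.resolve_left (fun h => by
        have := hK Z hZ; rw [h, Subgroup.card_bot] at this; exact hp.ne_one this.symm)
      set y := x⁻¹ * z with hy
      have hyl : y ∈ X ⊔ Z := Subgroup.mul_mem_sup (inv_mem hx) hz
      have hy1 : y ≠ 1 := fun h => hne (inf_eq_bot_of_ne hp (hK X hX) (hK Z hZ) |> fun f => by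
        by_contra hne'
        rw [hy, inv_mul_eq_one] at h
        have : x ∈ X ⊓ Z := ⟨hx, h ▸ hz⟩
        rw [f hne', Subgroup.mem_bot] at this
        exact hx1 this)
      have hYc : Nat.card ↥(Subgroup.zpowers y) = p := by
        rw [Nat.card_zpowers]; exact orderOf_eq_prime (hexp X hX Z hZ hXZ y hyl) hy1
      have hY : Subgroup.zpowers y ∈ K :=
        ha X hX Z hZ hne (hcomm hXZ) _ (Subgroup.zpowers_le.2 hyl) hYc
      set W' := W.map (MulAut.conj x).toMonoidHom with hW'def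
      have hW' : W' ∈ K := hKc W hW x
      have hW'nc : ¬ W' ≤ C W := hI X hX W hW (fun h => hWX (hsymm h)) x hx hx1
      have hW'eq : W' = W.map (MulAut.conj y⁻¹).toMonoidHom := by
        refine SetLike.ext' (Set.image_congr fun w hw => ?_)
        show x * w * x⁻¹ = y⁻¹ * w * y⁻¹⁻¹
        have h1 := hcomm hWZ w hw z hz
        have h2 := hcomm hXZ x hx z hz
        have h3 : z⁻¹ * x = x * z⁻¹ := by rw [eq_mul_inv_iff_mul_eq, mul_assoc, h2, inv_mul_cancel_left]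
        have h4 : x⁻¹ * z = z * x⁻¹ := by rw [inv_mul_eq_iff_eq_mul, ← mul_assoc, h2, mul_inv_cancel_right]
        rw [hy, inv_inv, mul_inv_rev, inv_inv, h3, h4]
        calc x * w * x⁻¹ = x * z⁻¹ * (z * w) * x⁻¹ := by group
          _ = x * z⁻¹ * w * (z * x⁻¹) := by rw [← h1]; group
      obtain ⟨U1, hU1, hU1l, hU1X⟩ := point U hU W hW hUWe hUW X hX
      obtain ⟨U2, hU2, hU2l, hU2Y⟩ := point U hU W hW hUWe hUW _ hY
      have hlW : U ⊔ W ≤ C W := (habelL U hU W hW hUW).trans (Subgroup.centralizer_le (SetLike.coe_subset_coe.2 le_sup_right))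
      have hc1 : W' ≤ C U1 := conjC x W U1 (hcomm (hsymm hU1X) x hx)
        (hsymm (hU1l.trans hlW))
      have hc2 : W' ≤ C U2 := hW'eq ▸ conjC y⁻¹ W U2
        (hcomm (hsymm hU2Y) y⁻¹ (inv_mem (Subgroup.mem_zpowers y))) (hsymm (hU2l.trans hlW))
      have h12 : U1 = U2 := by
        by_contra h12
        have e := two U hU W hW hUWe hUW U1 hU1 U2 hU2 h12 hU1l hU2l
        exact hW'nc (hsymm (le_sup_right.trans (e.symm.le.trans (sup_le (hsymm hc1) (hsymm hc2)))))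
      have hU1Z : U1 ≤ C Z := by
        refine hsymm ?_
        rw [eq_zpowers_of_mem hp (hK Z hZ) hz hz1, Subgroup.zpowers_le,
          show z = x * y by rw [hy, mul_inv_cancel_left]]
        exact mul_mem (hsymm hU1X hx) (hsymm (h12 ▸ hU2Y) (Subgroup.mem_zpowers y))
      have hU1W : U1 ≠ W := fun h => hWX (h ▸ hU1X)
      have e := two U hU W hW hUWe hUW U1 hU1 W hW hU1W hU1l le_sup_right
      exact le_sup_left.trans (e.symm.le.trans (sup_le hU1Z hWZ))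
    obtain ⟨X0, hX0, Y0, hY0, hne0, hc0⟩ := hex
    have hc0' : X0 ≤ C Y0 := fun a ha' => Subgroup.mem_centralizer_iff.2 fun b hb' => (hc0 a ha' b hb').symm
    by_cases hall : ∀ W ∈ K, X0 ⊔ Y0 ≤ C W
    · exact ⟨X0, hX0, fun W hW => le_sup_left.trans (hall W hW)⟩
    push Not at hall
    obtain ⟨W0, hW0, hW0n⟩ := hall
    obtain ⟨Z, hZ, hZl, hZW⟩ := point X0 hX0 Y0 hY0 hne0 hc0' W0 hW0
    refine ⟨Z, hZ, fun W hW => ?_⟩
    obtain ⟨Z', hZ', hZ'l, hZ'W⟩ := point X0 hX0 Y0 hY0 hne0 hc0' W hW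
    by_cases he : Z' = Z
    · exact he ▸ hZ'W
    have hcc : Z' ≤ C Z :=
      hZ'l.trans ((habelL X0 hX0 Y0 hY0 hc0').trans (Subgroup.centralizer_le (SetLike.coe_subset_coe.2 hZl)))
    have hn : ¬ W0 ≤ C Z' := fun h => hW0n (by
      rw [← two X0 hX0 Y0 hY0 hne0 hc0' Z hZ Z' hZ' (Ne.symm he) hZl hZ'l]
      exact sup_le hZW (hsymm h))
    exact hsymm (key W0 hW0 Z hZ Z' hZ' (hsymm hZW) hcc
      (fun h => hn (hsymm h)) W hW (hsymm hZ'W))

end Cfsg.Agent.S3196
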