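import Cfsg.Statements.S3200
import Cfsg.Agent.Lib.FGStruct.PComplement

set_option autoImplicit false
open Cfsg

namespace Cfsg.Agent.S3200

universe u

open Pointwise in
/-- A subgroup of order prime to `p` of a solvable group is conjugate into any `p`-complement. -/
theorem exists_conj_le {G : Type u} [Group G] [Finite G] [Group.IsSolvable G] {p : ℕ} (hp : p.Prime)
    (H : Subgroup G) (hH : PCompl.IsPCompl p H) (X : Subgroup G) (hX : ¬ p ∣ Nat.card X) :
    ∃ g : G, MulAut.conj g • X ≤ H := by
  induction hc : Nat.card G using Nat.strong_induction_on generalizing G with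
  | _ n ih =>
    rcases subsingleton_or_nontrivial G with hs | hnt
    · exact ⟨1, fun x _ => Subsingleton.elim (1 : G) x ▸ H.one_mem⟩
    obtain ⟨A, q, hq, hAn, hA, -, -, -, hAq, -⟩ :=
      SolvBasic.exists_minimal_normal_abelian (N := (⊤ : Subgroup G)) inferInstance top_ne_bot
    obtain ⟨g', hg'⟩ := ih _ (hc ▸ PCompl.card_quotient_lt hA) (G := G ⧸ A) (H.map (QuotientGroup.mk' A))
      (hH.map _ (QuotientGroup.mk'_surjective A) hp) (X.map (QuotientGroup.mk' A))
      (fun h => hX (h.trans (X.card_map_dvd _))) rfl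
    obtain ⟨g, rfl⟩ := QuotientGroup.mk'_surjective A g'
    set Y := MulAut.conj g • X with hY
    have hYH : Y ≤ A ⊔ H := by
      rw [← SolvBasic.map_conjSmul, ← hY, Subgroup.map_le_iff_le_comap, Subgroup.comap_map_eq,
        QuotientGroup.ker_mk', sup_comm] at hg'
      exact hg'
    haveI : Fact q.Prime := ⟨hq⟩
    obtain ⟨a, ha⟩ := IsPGroup.iff_card.1 hAq
    by_cases hqp : q = p
    swap
    · refine ⟨g, ?_⟩
      have : A ≤ H := hH.normal_le hp hAn (by
        rw [ha]; exact fun h => hqp ((Nat.prime_dvd_prime_iff_eq hp hq).1 (hp.dvd_of_dvd_pow h)).symm)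
      rwa [sup_eq_right.2 this] at hYH
    subst hqp
    haveI : Group.IsNilpotent A := hAq.isNilpotent
    set B := (A ⊔ Y) ⊓ H with hB
    have hnorm : ∀ S : Subgroup G, S ≤ Subgroup.normalizer (A : Set G) := fun S => by
      rw [Subgroup.normalizer_eq_top]; exact le_top
    have hsup : A ⊔ B = A ⊔ Y := by
      refine le_antisymm (sup_le le_sup_left inf_le_left) (sup_le le_sup_left ?_)
      intro y hy
      obtain ⟨c, hc, h, hh, he⟩ := (SolvBasic.mem_sup_iff_of_le_normalizer (hnorm H)).1 (hYH hy)
      have hhB : h ∈ B := ⟨by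
        rw [show h = c⁻¹ * y by rw [he, inv_mul_cancel_left]]
        exact Subgroup.mul_mem_sup (A.inv_mem hc) hy, hh⟩
      rw [he]
      exact Subgroup.mul_mem_sup hc hhB
    have hcopy : (Nat.card Y).Coprime (Nat.card A) := by
      rw [hY, SolvBasic.card_conjSmul, ha]
      exact Nat.Coprime.pow_right a (hp.coprime_iff_not_dvd.2 hX).symm
    have hcopB : (Nat.card B).Coprime (Nat.card A) := by
      rw [ha]
      exact Nat.Coprime.pow_right a
        ((hH.coprime hp).coprime_dvd_left (Subgroup.card_dvd_of_le inf_le_right))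
    have hBc : Nat.card Y = Nat.card B := by
      refine Nat.eq_of_mul_eq_mul_left (Nat.card_pos (α := A)) ?_
      rw [← SchurZ.card_sup (hnorm _) hcopy, ← SchurZ.card_sup (hnorm _) hcopB, hsup]
    obtain ⟨k, -, hk⟩ := SchurZ.conj_in (hnorm B) hcopB (Or.inr inferInstance)
      (hsup ▸ le_sup_right : Y ≤ A ⊔ B) hBc
    refine ⟨k⁻¹ * g, ?_⟩
    rw [← SolvBasic.conjSmul_conjSmul, ← hY, SolvBasic.eq_conjSmul_inv hk]
    exact inf_le_right

/-- A `p`-complement together with a Sylow subgroup is a factorisation. -/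
theorem exists_factor {G : Type u} [Group G] [Finite G] (D : Subgroup G) (hD : PCompl.IsPCompl 2 D)
    (hab : IsMulCommutative D) :
    ∃ (P : Sylow 2 G) (D : Subgroup G), IsMulCommutative ↥D ∧ Subgroup.IsComplement' (P : Subgroup G) D := by
  haveI : Fact (Nat.Prime 2) := ⟨Nat.prime_two⟩
  obtain ⟨k, hk⟩ := hD.2
  obtain ⟨P⟩ : Nonempty (Sylow 2 G) := Sylow.nonempty
  have hne : Nat.card D ≠ 0 := Nat.card_pos.ne'
  have hP : Nat.card (P : Subgroup G) = 2 ^ k := by
    rw [P.card_eq_multiplicity, ← D.card_mul_index, hk, Nat.factorization_mul hne (by positivity)]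
    simp [Nat.factorization_eq_zero_of_not_dvd hD.1, Nat.Prime.factorization_pow Nat.prime_two]
  refine ⟨P, D, hab, Subgroup.isComplement'_of_coprime ?_ ?_⟩
  · rw [hP, ← hk, mul_comm, D.card_mul_index]
  · rw [hP]; exact Nat.Coprime.pow_left k (hD.coprime Nat.prime_two).symm


/-- Let H be a finite group in which a Sylow 2-subgroup has an abelian complement (an abelian subgroup meeting it trivially whose product with it is all of H). Then H is solvable, and every subgroup and every quotient group of H again has a Sylow 2-subgroup with an abelian complement. -/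
theorem result {H : Type*} [Group H] [Finite H]
    (S : Sylow 2 H) (C : Subgroup H) (hC : IsMulCommutative ↥C) (hSC : Subgroup.IsComplement' (S : Subgroup H) C) :
    Group.IsSolvable H ∧
    (∀ L : Subgroup H, ∃ (P : Sylow 2 ↥L) (D : Subgroup ↥L), IsMulCommutative ↥D ∧ Subgroup.IsComplement' (P : Subgroup ↥L) D) ∧
    (∀ (N : Subgroup H) [N.Normal], ∃ (P : Sylow 2 (H ⧸ N)) (D : Subgroup (H ⧸ N)),
      IsMulCommutative ↥D ∧ Subgroup.IsComplement' (P : Subgroup (H ⧸ N)) D) := by
  haveI : Fact (Nat.Prime 2) := ⟨Nat.prime_two⟩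
  have hidx : C.index = Nat.card (S : Subgroup H) := hSC.index_eq_card
  have hC2 : PCompl.IsPCompl 2 C := by
    obtain ⟨k, hk⟩ := IsPGroup.iff_card.1 S.isPGroup'
    refine ⟨?_, k, hidx.trans hk⟩
    have := S.not_dvd_index
    rwa [show (S : Subgroup H).index = Nat.card C from hSC.symm.index_eq_card] at this
  haveI hsol : Group.IsSolvable H :=
    (PCompl.regularClassPPow_of_abelian Nat.prime_two C hC2 hC).isSolvable Nat.prime_two
  refine ⟨hsol, fun L => ?_, fun N hN => ?_⟩
  · haveI : Group.IsSolvable L := inferInstance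
    obtain ⟨D, hD⟩ := PCompl.exists_isPCompl (G := L) Nat.prime_two
    obtain ⟨g, hg⟩ := exists_conj_le Nat.prime_two C hC2 (D.map L.subtype)
      (by rw [Subgroup.card_subtype]; exact hD.1)
    refine exists_factor D hD (.of_setLike_mul_comm fun a ha b hb => ?_)
    have mem : ∀ x ∈ D, MulAut.conj g (x : H) ∈ C := fun x hx =>
      hg (Subgroup.smul_mem_pointwise_smul _ _ _ ⟨x, hx, rfl⟩)
    apply Subtype.ext
    apply (MulAut.conj g).injective
    simp only [Subgroup.coe_mul, map_mul]
    exact setLike_mul_comm (s := C) (mem a ha) (mem b hb)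
  · haveI := hC
    exact exists_factor (C.map (QuotientGroup.mk' N))
      (hC2.map _ (QuotientGroup.mk'_surjective N) Nat.prime_two) inferInstance

end Cfsg.Agent.S3200
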