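import Cfsg.Statements.S3201
import Cfsg.Agent.Lib.UniqueInvol.Quotient
import Cfsg.Agent.Lib.Transfer.PGroup

set_option autoImplicit false
open Cfsg

namespace Cfsg.Agent.S3201


/-- Let S be a finite 2-group whose centre Z(S) has n ≥ 2 distinct maximal subgroups C₁, …, Cₙ with trivial intersection such that each quotient S/Cᵢ is a non-abelian group with exactly one involution (a generalized quaternion group). Then S is the internal direct product of an elementary abelian subgroup and a non-abelian subgroup with exactly one involution. -/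
theorem result {S : Type*} [Group S] [Finite S]
    (hS : IsPGroup 2 S) (n : ℕ) (hn : 2 ≤ n) (C : Fin n → Subgroup ↥(Subgroup.center S))
    (hCmax : ∀ i, IsCoatom (C i)) (hCinj : Function.Injective C) (hCint : ⨅ i, C i = ⊥)
    (hCq : ∀ i, ∃ (_ : ((C i).map (Subgroup.center S).subtype).Normal),
      ¬ IsMulCommutative (S ⧸ (C i).map (Subgroup.center S).subtype) ∧
      ∃! x : S ⧸ (C i).map (Subgroup.center S).subtype, orderOf x = 2) :
    ∃ E Q : Subgroup S, Cfsg.IsInternalDirectProduct E Q ⊤ ∧ Cfsg.IsElementaryAbelian 2 E ∧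
      ¬ IsMulCommutative ↥Q ∧ ∃! x : ↥Q, orderOf x = 2 := by
  classical
  haveI : Fact (Nat.Prime 2) := ⟨Nat.prime_two⟩
  have hZc : ∀ z ∈ (Subgroup.center S), ∀ g : S, g * z = z * g := fun z hz => Subgroup.mem_center_iff.1 hz
  have hNZ : ∀ i, ((C i).map (Subgroup.center S).subtype) ≤ (Subgroup.center S) := fun i => Subgroup.map_subtype_le _
  have hint : ∀ x : S, (∀ i, x ∈ ((C i).map (Subgroup.center S).subtype)) → x = 1 := by
    intro x hx
    have hxZ : x ∈ (Subgroup.center S) := hNZ ⟨0, by omega⟩ (hx _)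
    have hmem : (⟨x, hxZ⟩ : (Subgroup.center S)) ∈ ⨅ i, C i := by
      rw [Subgroup.mem_iInf]
      intro i
      obtain ⟨y, hy, hye⟩ := hx i
      have hy' : y = (⟨x, hxZ⟩ : (Subgroup.center S)) := Subtype.ext hye
      exact hy' ▸ hy
    rw [hCint, Subgroup.mem_bot] at hmem
    exact congrArg Subtype.val hmem
  have hidx : ∀ i, (C i).index = 2 := fun i =>
    (Cfsg.Agent.PGroupBasics.index_of_isCoatom (hS.to_subgroup (Subgroup.center S)) (hCmax i)).2
  have hnot : ∀ i, ∃ t ∈ (Subgroup.center S), t ∉ ((C i).map (Subgroup.center S).subtype) := by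
    intro i
    obtain ⟨t, ht⟩ : ∃ t, t ∉ C i := by
      by_contra h
      push_neg at h
      exact (hCmax i).1 ((Subgroup.eq_top_iff' _).2 h)
    exact ⟨t, t.2, fun ⟨y, hy, hye⟩ => ht (Subtype.ext hye ▸ hy)⟩
  have hZ2 : ∀ z ∈ (Subgroup.center S), z * z = 1 := fun z hz => hint _ fun i =>
    ⟨⟨z, hz⟩ * ⟨z, hz⟩, Subgroup.mul_self_mem_of_index_two (hidx i) _, rfl⟩
  -- in each quotient the only involution comes from the centre
  have hsq1 : ∀ i, ∀ x : S, x * x ∈ ((C i).map (Subgroup.center S).subtype) → x ∈ (Subgroup.center S) := by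
    intro i x hx
    obtain ⟨hNn, -, hu⟩ := hCq i
    obtain ⟨t, htZ, ht⟩ := hnot i
    have hto : ∀ y : S, y * y ∈ ((C i).map (Subgroup.center S).subtype) → y ∉ ((C i).map (Subgroup.center S).subtype) → orderOf (y : S ⧸ ((C i).map (Subgroup.center S).subtype)) = 2 := fun y h1 h2 =>
      orderOf_eq_prime (by rw [pow_two, ← QuotientGroup.mk_mul, QuotientGroup.eq_one_iff]; exact h1)
        (fun e => h2 ((QuotientGroup.eq_one_iff y).1 e))
    by_cases hxN : x ∈ ((C i).map (Subgroup.center S).subtype)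
    · exact hNZ i hxN
    have e := hu.unique (hto t (by rw [hZ2 t htZ]; exact one_mem _) ht) (hto x hx hxN)
    rw [QuotientGroup.eq] at e
    have := mul_mem htZ (hNZ i e)
    rwa [mul_inv_cancel_left] at this
  have hinvZ : ∀ x : S, x * x = 1 → x ∈ (Subgroup.center S) := fun x hx =>
    hsq1 ⟨0, by omega⟩ x (by rw [hx]; exact one_mem _)
  have hconst : ∀ x y : S, x ∉ (Subgroup.center S) → x * x ∈ (Subgroup.center S) → y ∉ (Subgroup.center S) → y * y ∈ (Subgroup.center S) → x * x = y * y := by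
    intro x y hx hx2 hy hy2
    rw [← mul_inv_eq_one]
    refine hint _ fun i => ?_
    have h1 : ∀ u : S, u ∉ (Subgroup.center S) → (hu : u * u ∈ (Subgroup.center S)) → (⟨u * u, hu⟩ : (Subgroup.center S)) ∉ C i := fun u hu hu2 h =>
      hu (hsq1 i u ⟨_, h, rfl⟩)
    refine ⟨⟨x * x, hx2⟩ * ⟨y * y, hy2⟩⁻¹, ?_, rfl⟩
    rw [SetLike.mem_coe, Subgroup.mul_mem_iff_of_index_two (hidx i), inv_mem_iff]
    exact iff_of_false (h1 x hx hx2) (h1 y hy hy2)
  -- one quotient
  obtain ⟨hN0, hna, hu⟩ := hCq ⟨0, by omega⟩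
  set i0 : Fin n := ⟨0, by omega⟩ with hi0
  obtain ⟨a, -, h4, hout⟩ := Cfsg.Agent.UniqueInvol.exists_lift hS (((C i0).map (Subgroup.center S).subtype)) hna hu
  obtain ⟨e, he⟩ := IsPGroup.iff_orderOf.1 (hS.to_quotient (((C i0).map (Subgroup.center S).subtype))) (a : S ⧸ ((C i0).map (Subgroup.center S).subtype))
  obtain ⟨d, rfl⟩ : ∃ d, e = d + 2 := by
    refine ⟨e - 2, ?_⟩
    by_contra h
    have he2 : e = 0 ∨ e = 1 := by omega
    rcases he2 with rfl | rfl <;> rw [he] at h4 <;> norm_num at h4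
  set v := a ^ 2 ^ d with hv
  set w := v * v with hw
  have hv4 : orderOf (v : S ⧸ ((C i0).map (Subgroup.center S).subtype)) = 4 := by
    rw [hv, QuotientGroup.mk_pow, orderOf_pow, he, pow_add]
    norm_num [Nat.gcd_mul_right_left]
  have hnotZ : ∀ g : S, orderOf (g : S ⧸ ((C i0).map (Subgroup.center S).subtype)) = 4 → g ∉ (Subgroup.center S) ∧ g * g ∈ (Subgroup.center S) := by
    intro g hg
    refine ⟨fun h => ?_, hsq1 i0 _ ?_⟩
    · have := orderOf_dvd_of_pow_eq_one (x := (g : S ⧸ ((C i0).map (Subgroup.center S).subtype))) (n := 2)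
        (by rw [pow_two, ← QuotientGroup.mk_mul, hZ2 g h, QuotientGroup.mk_one])
      rw [hg] at this; norm_num at this
    · rw [← QuotientGroup.eq_one_iff, QuotientGroup.mk_mul, QuotientGroup.mk_mul]
      have := pow_orderOf_eq_one (g : S ⧸ ((C i0).map (Subgroup.center S).subtype))
      rw [hg] at this
      rw [← pow_two, ← pow_two, ← pow_mul]; exact this
  obtain ⟨hvZ, hwZ⟩ := hnotZ v hv4
  have hw1 : w ≠ 1 := fun h => hvZ (hinvZ v h)
  -- the squares
  set F := Subgroup.closure (Set.range fun g : S => g * g) with hF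
  have hwa : w ∈ Subgroup.zpowers (a * a) := by
    refine ⟨((2 ^ d : ℕ) : ℤ), ?_⟩
    show (a * a) ^ ((2 ^ d : ℕ) : ℤ) = w
    rw [zpow_natCast, hw, hv, (Commute.refl a).mul_pow]
  have hFle : F ≤ Subgroup.zpowers (a * a) := by
    rw [hF, Subgroup.closure_le]
    rintro _ ⟨g, rfl⟩
    by_cases hg : (g : S ⧸ ((C i0).map (Subgroup.center S).subtype)) ∈ Subgroup.zpowers (a : S ⧸ ((C i0).map (Subgroup.center S).subtype))
    · obtain ⟨k, m, hm, rfl⟩ := Cfsg.Agent.UniqueInvol.mem_zpowers_mk hg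
      refine ⟨k, ?_⟩
      show (a * a) ^ k = a ^ k * m * (a ^ k * m)
      have hc : Commute (a ^ k) m := hZc m (hNZ _ hm) _
      rw [hc.symm.mul_mul_mul_comm, hZ2 m (hNZ _ hm), mul_one, (Commute.refl a).mul_zpow]
    · obtain ⟨hgZ, hgg⟩ := hnotZ g (hout g hg)
      show g * g ∈ Subgroup.zpowers (a * a)
      rw [hconst g v hgZ hgg hvZ hwZ]; exact hwa
  have hsqF : ∀ g : S, g * g ∈ F := fun g => Subgroup.subset_closure ⟨g, rfl⟩
  have hwF : w ∈ F := hsqF v
  have hFw : ∀ x ∈ F, x * x = 1 → x = 1 ∨ x = w := by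
    intro x hx hx2
    by_contra h
    push_neg at h
    haveI : IsCyclic F := isCyclic_of_injective (Subgroup.inclusion hFle) (Subgroup.inclusion_injective hFle)
    letI : Fintype F := Fintype.ofFinite F
    have hle := IsCyclic.card_pow_eq_one_le (α := F) (n := 2) (by norm_num)
    have hsub : ({1, ⟨x, hx⟩, ⟨w, hwF⟩} : Finset F) ⊆ Finset.univ.filter fun y : F => y ^ 2 = 1 := by
      intro y hy
      simp only [Finset.mem_insert, Finset.mem_singleton] at hy
      simp only [Finset.mem_filter, Finset.mem_univ, true_and]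
      rcases hy with rfl | rfl | rfl
      · exact one_pow 2
      · exact Subtype.ext (by simpa [pow_two] using hx2)
      · exact Subtype.ext (by simpa [pow_two] using hZ2 w hwZ)
    have h3 : ({1, ⟨x, hx⟩, ⟨w, hwF⟩} : Finset F).card = 3 := by
      rw [Finset.card_insert_of_notMem, Finset.card_pair]
      · exact fun e => h.2 (congrArg Subtype.val e)
      · simp only [Finset.mem_insert, Finset.mem_singleton, not_or]
        exact ⟨fun e => h.1 (congrArg Subtype.val e).symm, fun e => hw1 (congrArg Subtype.val e).symm⟩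
    exact absurd ((Finset.card_le_card hsub).trans hle) (by omega)
  have hnormal : ∀ Q : Subgroup S, F ≤ Q → Q.Normal := fun Q hQ => ⟨fun x hx g => by
    have : g * x * g⁻¹ * x⁻¹ ∈ F := by
      rw [show g * x * g⁻¹ * x⁻¹ = (g * x) * (g * x) * (x⁻¹ * g⁻¹ * g⁻¹ * x) * (x⁻¹ * x⁻¹) by group]
      refine mul_mem (mul_mem (hsqF _) ?_) (hsqF _)
      rw [show x⁻¹ * g⁻¹ * g⁻¹ * x = (x⁻¹ * g⁻¹ * x) * (x⁻¹ * g⁻¹ * x) by group]
      exact hsqF _
    simpa using mul_mem (hQ this) hx⟩
  -- the elementary abelian factor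
  obtain ⟨E, ⟨hEZ, hwE⟩, hEmax⟩ := (Set.toFinite {E : Subgroup S | E ≤ (Subgroup.center S) ∧ w ∉ E}).exists_maximal
    ⟨⊥, bot_le, fun h => hw1 (Subgroup.mem_bot.1 h)⟩
  have hsplit : ∀ z ∈ (Subgroup.center S), z ∈ E ∨ w * z ∈ E := by
    intro z hz
    by_contra h
    push_neg at h
    let E' : Subgroup S :=
      { carrier := {g | g ∈ E ∨ (g ∈ (Subgroup.center S) ∧ z * g ∈ E)}
        one_mem' := Or.inl (one_mem E)
        mul_mem' := fun {g g'} hg hg' => by
          rcases hg with hg | ⟨hgZ, hg⟩ <;> rcases hg' with hg' | ⟨hgZ', hg'⟩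
          · exact Or.inl (mul_mem hg hg')
          · refine Or.inr ⟨mul_mem (hEZ hg) hgZ', ?_⟩
            rw [← mul_assoc, ← hZc z hz g, mul_assoc]; exact mul_mem hg hg'
          · exact Or.inr ⟨mul_mem hgZ (hEZ hg'), by rw [← mul_assoc]; exact mul_mem hg hg'⟩
          · refine Or.inl ?_
            have := mul_mem hg hg'
            rwa [mul_assoc z g, ← mul_assoc g z g', hZc z hz g, mul_assoc z g g', ← mul_assoc z z,
              hZ2 z hz, one_mul] at this
        inv_mem' := fun {g} hg => by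
          rcases hg with hg | ⟨hgZ, hg⟩
          · exact Or.inl (inv_mem hg)
          · exact Or.inr ⟨inv_mem hgZ, by rwa [inv_eq_of_mul_eq_one_right (hZ2 g hgZ)]⟩ }
    have hwE' : w ∉ E' := by
      rintro (h' | ⟨-, h'⟩)
      · exact hwE h'
      · exact h.2 (by rwa [← hZc z hz w] at h')
    have hzE' : z ∈ E' := Or.inr ⟨hz, by rw [hZ2 z hz]; exact one_mem E⟩
    have hle : E ≤ E' := fun g hg => Or.inl hg
    have hle' : E' ≤ (Subgroup.center S) := fun g hg => hg.elim (fun h => hEZ h) (fun h => h.1)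
    exact h.1 (hEmax ⟨hle', hwE'⟩ hle hzE')
  -- the complement
  obtain ⟨Q, ⟨hFQ, hQE⟩, hQmax⟩ := (Set.toFinite {Q : Subgroup S | F ≤ Q ∧ Q ⊓ E = ⊥}).exists_maximal
    ⟨F, le_rfl, by
      rw [Subgroup.eq_bot_iff_forall]
      intro x hx
      rcases hFw x hx.1 (hZ2 x (hEZ hx.2)) with e | e
      · exact e
      · exact absurd (e ▸ hx.2) hwE⟩
  haveI := hnormal Q hFQ
  have hjoin : E ⊔ Q = ⊤ := by
    refine (Subgroup.eq_top_iff' _).2 fun g => ?_
    by_contra hg
    let Q' : Subgroup S :=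
      { carrier := {u | u ∈ Q ∨ g * u ∈ Q}
        one_mem' := Or.inl (one_mem Q)
        mul_mem' := fun {u u'} hu hu' => by
          rcases hu with hu | hu <;> rcases hu' with hu' | hu'
          · exact Or.inl (mul_mem hu hu')
          · refine Or.inr ?_
            rw [show g * (u * u') = (g * u * g⁻¹) * (g * u') by group]
            exact mul_mem ((inferInstance : Q.Normal).conj_mem u hu g) hu'
          · exact Or.inr (by rw [← mul_assoc]; exact mul_mem hu hu')
          · refine Or.inl ?_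
            rw [show u * u' = ((g * g)⁻¹ * ((g * (g * u) * g⁻¹) * (g * u'))) by group]
            exact mul_mem (inv_mem (hFQ (hsqF g)))
              (mul_mem ((inferInstance : Q.Normal).conj_mem _ hu g) hu')
        inv_mem' := fun {u} hu => by
          rcases hu with hu | hu
          · exact Or.inl (inv_mem hu)
          · refine Or.inr ?_
            rw [show g * u⁻¹ = g * g * ((g⁻¹ * (g * u)⁻¹ * g)) * (g * g)⁻¹ * (g * g) by group]
            exact mul_mem (mul_mem (mul_mem (hFQ (hsqF g))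
              (by simpa using (inferInstance : Q.Normal).conj_mem _ (inv_mem hu) g⁻¹))
              (inv_mem (hFQ (hsqF g)))) (hFQ (hsqF g)) }
    have hle : Q ≤ Q' := fun u hu => Or.inl hu
    have hQ'E : Q' ⊓ E = ⊥ := by
      rw [Subgroup.eq_bot_iff_forall]
      rintro u ⟨hu | hu, huE⟩
      · have h' : u ∈ Q ⊓ E := ⟨hu, huE⟩
        rwa [hQE, Subgroup.mem_bot] at h'
      · refine absurd ?_ hg
        have := Subgroup.mul_mem (E ⊔ Q) (Subgroup.mem_sup_right hu)
          (inv_mem (Subgroup.mem_sup_left huE))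
        rwa [mul_inv_cancel_right] at this
    have hgQ' : g ∈ Q' := Or.inr (hFQ (hsqF g))
    exact hg (Subgroup.mem_sup_right (hQmax ⟨hFQ.trans hle, hQ'E⟩ hle hgQ'))
  refine ⟨E, Q, ⟨le_top, le_top, fun x hx y _ => (hZc x (hEZ hx) y).symm, by rw [inf_comm]; exact hQE,
    hjoin⟩, ⟨⟨⟨fun x y => Subtype.ext (hZc y (hEZ y.2) x)⟩⟩, fun x hx => by rw [pow_two]; exact hZ2 x (hEZ hx)⟩,
    fun hQc => hna ⟨⟨fun x y => ?_⟩⟩, ⟨w, hFQ hwF⟩, ?_, fun x hx => ?_⟩
  · induction x using QuotientGroup.induction_on with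
    | _ x =>
    induction y using QuotientGroup.induction_on with
    | _ y =>
    have hmem : ∀ u : S, ∃ e ∈ E, ∃ q ∈ Q, e * q = u := fun u =>
      Subgroup.mem_sup_of_normal_right.1 (hjoin ▸ Subgroup.mem_top u)
    obtain ⟨e1, he1, q1, hq1, rfl⟩ := hmem x
    obtain ⟨e2, he2, q2, hq2, rfl⟩ := hmem y
    have hq : Commute q1 q2 := congrArg Subtype.val (hQc.is_comm.comm (⟨q1, hq1⟩ : Q) ⟨q2, hq2⟩)
    have hE : ∀ e ∈ E, ∀ g : S, Commute e g := fun e he g => (hZc e (hEZ he) g).symm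
    have hcc : Commute (e1 * q1) (e2 * q2) :=
      ((hE e1 he1 _).mul_left ((hE e2 he2 q1).symm.mul_right hq))
    rw [← QuotientGroup.mk_mul, ← QuotientGroup.mk_mul, hcc.eq]
  · show orderOf (⟨w, hFQ hwF⟩ : Q) = 2
    rw [Subgroup.orderOf_mk]
    exact orderOf_eq_prime (by rw [pow_two]; exact hZ2 w hwZ) hw1
  · have hx2 : (x : S) * x = 1 := by
      have hxo : orderOf x = 2 := hx
      rw [← pow_two, ← Subgroup.coe_pow, ← hxo, pow_orderOf_eq_one]; rfl
    have hx1 : (x : S) ≠ 1 := fun e => by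
      have hxo : orderOf x = 2 := hx
      rw [← Subgroup.orderOf_coe, e, orderOf_one] at hxo; omega
    rcases hsplit _ (hinvZ _ hx2) with h | h
    · exfalso
      apply hx1
      have h' : (x : S) ∈ Q ⊓ E := ⟨x.2, h⟩
      rwa [hQE, Subgroup.mem_bot] at h'
    · have h' : w * (x : S) ∈ Q ⊓ E := ⟨mul_mem (hFQ hwF) x.2, h⟩
      rw [hQE, Subgroup.mem_bot] at h'
      refine Subtype.ext ?_
      show (x : S) = w
      rw [← mul_left_cancel_iff (a := w), h', hZ2 w hwZ]

end Cfsg.Agent.S3201
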