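import Cfsg.Statements.S3202
import Cfsg.Agent.Lib.UniqueInvol.Quotient

set_option autoImplicit false
open Cfsg

namespace Cfsg.Agent.S3202

open scoped commutatorElement

/-- Let S be a finite 2-group of 2-rank exactly 2 and D a maximal subgroup of the centre of S such that S/D is a non-abelian group with exactly one involution (a generalized quaternion group). Then S has a nontrivial cyclic characteristic subgroup. -/
theorem result {S : Type*} [Group S]
    [Finite S] (hS : IsPGroup 2 S) (hr2 : Cfsg.PRankLE 2 2 S) (hr1 : ¬ Cfsg.PRankLE 2 1 S)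
    (D : Subgroup ↥(Subgroup.center S)) (hD : IsCoatom D)
    (hq : ∃ (_ : (D.map (Subgroup.center S).subtype).Normal),
      ¬ IsMulCommutative (S ⧸ D.map (Subgroup.center S).subtype) ∧
      ∃! x : S ⧸ D.map (Subgroup.center S).subtype, orderOf x = 2) :
    ∃ C : Subgroup S, C ≠ ⊥ ∧ IsCyclic ↥C ∧ C.Characteristic := by
  classical
  haveI : Fact (Nat.Prime 2) := ⟨Nat.prime_two⟩
  obtain ⟨hN, hna, hu⟩ := hq
  set N := D.map (Subgroup.center S).subtype with hNdef
  obtain ⟨a, hmul, h4, -⟩ := UniqueInvol.exists_lift hS N hna hu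
  have hNc : ∀ n ∈ N, ∀ g : S, g * n = n * g := fun n hn =>
    Subgroup.mem_center_iff.1 (Subgroup.map_subtype_le _ hn)
  have hA : ∀ g : S, (g : S ⧸ N) ∈ Subgroup.zpowers (a : S ⧸ N) → Commute a g := by
    intro g hg
    obtain ⟨k, n, hn, rfl⟩ := UniqueInvol.mem_zpowers_mk hg
    exact ((Commute.refl a).zpow_right k).mul_right (hNc n hn a)
  by_cases hb : ∀ g : S, (g : S ⧸ N) ∈ Subgroup.zpowers (a : S ⧸ N)
  · refine absurd ⟨⟨fun x y => ?_⟩⟩ hna
    induction x using QuotientGroup.induction_on with
    | _ x =>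
    induction y using QuotientGroup.induction_on with
    | _ y =>
    obtain ⟨i, hi⟩ := Subgroup.mem_zpowers_iff.1 (hb x)
    obtain ⟨j, hj⟩ := Subgroup.mem_zpowers_iff.1 (hb y)
    rw [← hi, ← hj, ← zpow_add, ← zpow_add, add_comm]
  push_neg at hb
  obtain ⟨b, hb⟩ := hb
  set c : S := a * b * a⁻¹ * b⁻¹ with hc
  have hgen : Subgroup.closure (insert a (insert b (N : Set S))) = ⊤ := by
    refine (Subgroup.eq_top_iff' _).2 fun g => ?_
    have key : ∀ g : S, (g : S ⧸ N) ∈ Subgroup.zpowers (a : S ⧸ N) →
        g ∈ Subgroup.closure (insert a (insert b (N : Set S))) := by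
      intro g hg
      obtain ⟨k, n, hn, rfl⟩ := UniqueInvol.mem_zpowers_mk hg
      have ha' : a ∈ Subgroup.closure (insert a (insert b (N : Set S))) :=
        Subgroup.subset_closure (Set.mem_insert _ _)
      have hn' : n ∈ Subgroup.closure (insert a (insert b (N : Set S))) :=
        Subgroup.subset_closure (Set.mem_insert_of_mem _ (Set.mem_insert_of_mem _ hn))
      exact mul_mem (zpow_mem ha' k) hn' 
    by_cases hg : (g : S ⧸ N) ∈ Subgroup.zpowers (a : S ⧸ N)
    · exact key g hg
    · have := mul_mem (key _ (hmul g b hg hb))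
        (inv_mem (Subgroup.subset_closure (Set.mem_insert_of_mem _ (Set.mem_insert _ _)) :
          b ∈ Subgroup.closure (insert a (insert b (N : Set S)))))
      rwa [mul_inv_cancel_right] at this
  have hbab : ((b * a * b⁻¹ : S) : S ⧸ N) ∈ Subgroup.zpowers (a : S ⧸ N) := by
    have h2 : ((b * a : S) : S ⧸ N) ∉ Subgroup.zpowers (a : S ⧸ N) := fun h => hb (by
      have := mul_mem h (inv_mem (Subgroup.mem_zpowers (a : S ⧸ N)))
      simpa using this)
    have h3 : ((b⁻¹ : S) : S ⧸ N) ∉ Subgroup.zpowers (a : S ⧸ N) := fun h => hb (by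
      simpa using inv_mem h)
    exact hmul _ _ h2 h3
  obtain ⟨k, n, hn, hk⟩ := UniqueInvol.mem_zpowers_mk hbab
  have hca : Commute a c := by
    have hac : ((c : S) : S ⧸ N) ∈ Subgroup.zpowers (a : S ⧸ N) := by
      rw [show c = a * (b * a * b⁻¹)⁻¹ by rw [hc]; group, QuotientGroup.mk_mul, QuotientGroup.mk_inv]
      exact mul_mem (Subgroup.mem_zpowers _) (inv_mem hbab)
    exact hA c hac
  have hbc : b * c * b⁻¹ = c ^ k := by
    have hcomm : Commute a (b * a⁻¹ * b⁻¹) := by
      have := (hA _ hbab).inv_right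
      simpa [mul_assoc] using this
    calc b * c * b⁻¹ = (b * a * b⁻¹) * (b * (b * a * b⁻¹)⁻¹ * b⁻¹) := by rw [hc]; group
      _ = a ^ k * n * (b * (a ^ k * n)⁻¹ * b⁻¹) := by rw [hk]
      _ = a ^ k * (n * (b * n⁻¹)) * (a ^ k)⁻¹ * b⁻¹ := by group
      _ = a ^ k * (n * (n⁻¹ * b)) * (a ^ k)⁻¹ * b⁻¹ := by rw [hNc n⁻¹ (inv_mem hn) b]
      _ = a ^ k * (b * a⁻¹ * b⁻¹) ^ k := by rw [conj_zpow, inv_zpow]; group
      _ = c ^ k := by rw [← hcomm.mul_zpow, hc]; group
  set K := Subgroup.zpowers c with hK
  have hnorm : ∀ g ∈ insert a (insert b (N : Set S)), g * c * g⁻¹ ∈ K := by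
    rintro g (rfl | rfl | hg)
    · rw [hca.eq, mul_inv_cancel_right]; exact Subgroup.mem_zpowers c
    · rw [hbc]; exact zpow_mem (Subgroup.mem_zpowers c) k
    · rw [← hNc g hg c, mul_inv_cancel_right]; exact Subgroup.mem_zpowers c
  haveI hKn : K.Normal := by
    rw [← Subgroup.normalizer_eq_top_iff, ← top_le_iff, ← hgen, Subgroup.closure_le]
    intro g hg
    rw [SetLike.mem_coe]
    refine Subgroup.mem_normalizer_iff.2 fun y => ?_
    have hmap : K.map (MulAut.conj g).toMonoidHom = K := by
      refine Subgroup.eq_of_le_of_card_ge ?_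
        (le_of_eq (Subgroup.card_map_of_injective (MulAut.conj g).injective).symm)
      rw [hK, MonoidHom.map_zpowers, Subgroup.zpowers_le]
      exact hnorm g hg
    constructor
    · intro hy; rw [← hmap]; exact ⟨y, hy, rfl⟩
    · intro hy
      rw [← hmap] at hy
      obtain ⟨y', hy', e⟩ := hy
      exact (MulAut.conj g).injective e ▸ hy'
  have hcommS : commutator S ≤ K := by
    apply Subgroup.Normal.quotient_commutative_iff_commutator_le.1
    have hmem : ∀ x ∈ insert a (insert b (N : Set S)), ∀ y ∈ insert a (insert b (N : Set S)),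
        Commute (x : S ⧸ K) (y : S ⧸ K) := by
      have hab : Commute (a : S ⧸ K) (b : S ⧸ K) := by
        rw [← commutatorElement_eq_one_iff_commute, commutatorElement_def, ← QuotientGroup.mk_inv,
          ← QuotientGroup.mk_inv, ← QuotientGroup.mk_mul, ← QuotientGroup.mk_mul, ← QuotientGroup.mk_mul,
          QuotientGroup.eq_one_iff]
        exact Subgroup.mem_zpowers c
      have hn' : ∀ n ∈ N, ∀ y : S, Commute (n : S ⧸ K) (y : S ⧸ K) := fun n hn y =>
        (Commute.symm (hNc n hn y : Commute y n)).map (QuotientGroup.mk' K)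
      rintro x (rfl | rfl | hx) y (rfl | rfl | hy)
      exacts [Commute.refl _, hab, (hn' y hy _).symm, hab.symm, Commute.refl _, (hn' y hy _).symm,
        hn' x hx _, hn' x hx _, hn' x hx _]
    refine ⟨⟨fun x y => ?_⟩⟩
    induction x using QuotientGroup.induction_on with
    | _ x =>
    induction y using QuotientGroup.induction_on with
    | _ y =>
    have h1 : ∀ z ∈ insert a (insert b (N : Set S)), ∀ w : S, Commute (z : S ⧸ K) (w : S ⧸ K) := by
      intro z hz w
      have hw : w ∈ Subgroup.closure (insert a (insert b (N : Set S))) := hgen ▸ Subgroup.mem_top w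
      induction hw using Subgroup.closure_induction with
      | mem w hw => exact hmem z hz w hw
      | one => exact Commute.one_right _
      | mul u v _ _ hu hv => exact hu.mul_right hv
      | inv u _ hu => exact hu.inv_right
    have hx : x ∈ Subgroup.closure (insert a (insert b (N : Set S))) := hgen ▸ Subgroup.mem_top x
    show Commute (x : S ⧸ K) (y : S ⧸ K)
    induction hx using Subgroup.closure_induction with
    | mem z hz => exact h1 z hz y
    | one => exact Commute.one_left _
    | mul u v _ _ hu hv => exact hu.mul_left hv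
    | inv u _ hu => exact hu.inv_left
  refine ⟨commutator S, fun h => hna ⟨⟨fun x y => ?_⟩⟩,
    isCyclic_of_injective (Subgroup.inclusion hcommS) (Subgroup.inclusion_injective hcommS), inferInstance⟩
  induction x using QuotientGroup.induction_on with
  | _ x =>
  induction y using QuotientGroup.induction_on with
  | _ y =>
  have hxy : ⁅x, y⁆ ∈ commutator S :=
    Subgroup.commutator_mem_commutator (Subgroup.mem_top x) (Subgroup.mem_top y)
  rw [h, Subgroup.mem_bot, commutatorElement_eq_one_iff_commute] at hxy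
  rw [← QuotientGroup.mk_mul, ← QuotientGroup.mk_mul, hxy.eq]

end Cfsg.Agent.S3202
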