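import Cfsg.Statements.S3203
import Mathlib.GroupTheory.Sylow
import Mathlib.GroupTheory.OrderOfElement

set_option autoImplicit false
open Cfsg

namespace Cfsg.Agent.S3203

theorem burnside_normal {G : Type*} [Group G] [Finite G] (S : Sylow 2 G) (X Y : Subgroup G)
    (hXS : (S : Subgroup G) ≤ Subgroup.normalizer (X : Set G)) (hYS : (S : Subgroup G) ≤ Subgroup.normalizer (Y : Set G))
    (g : G) (hg : X.map (MulAut.conj g).toMonoidHom = Y) :
    ∃ n ∈ Subgroup.normalizer ((S : Subgroup G) : Set G), X.map (MulAut.conj n).toMonoidHom = Y := by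
  have : Fact (Nat.Prime 2) := ⟨Nat.prime_two⟩
  set N := Subgroup.normalizer (Y : Set G)
  have hgS : ((g • S : Sylow 2 G) : Subgroup G) ≤ N := by
    intro u hu
    rw [Sylow.smul_def, Sylow.pointwise_smul_def, Subgroup.mem_pointwise_smul_iff_inv_smul_mem] at hu
    have hu' := Subgroup.mem_normalizer_iff.mp (hXS hu)
    rw [Subgroup.mem_normalizer_iff]
    intro y
    have hmem : ∀ z : G, z ∈ Y ↔ g⁻¹ * z * g ∈ X := by
      intro z
      rw [← hg, Subgroup.mem_map_equiv]
      simp
    have hu'' := hu' (g⁻¹ * y * g)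
    rw [hmem, hmem, hu'']
    simp [mul_assoc]
  obtain ⟨h, hh⟩ := MulAction.exists_smul_eq ↥N ((g • S).subtype hgS) (S.subtype hYS)
  have : (h : G) • (g • S) = S := by
    apply Sylow.subtype_injective (hP := Sylow.smul_le hgS h) (hQ := hYS)
    rw [← hh, Sylow.smul_subtype]
  refine ⟨(h : G) * g, ?_, ?_⟩
  · exact Sylow.smul_eq_iff_mem_normalizer.mp (by rw [mul_smul]; exact this)
  · rw [map_mul]
    show X.map ((MulAut.conj (h : G)).toMonoidHom.comp (MulAut.conj g).toMonoidHom) = Y
    rw [← Subgroup.map_map, hg]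
    exact Subgroup.mem_normalizer_iff_map_conj_eq.mp h.2


/-- Let S be a Sylow 2-subgroup of a finite group G having exactly two subgroups A ≠ B that are maximal among its elementary abelian subgroups, with S = AB. Then A and B are each weakly closed in S with respect to G, and the normalizer of S normalizes both A and B. -/
theorem result {G : Type*} [Group G] [Finite G] (S : Sylow 2 G)
    (A B : Subgroup ↥(S : Subgroup G)) (hAB : A ≠ B)
    (hA : Cfsg.IsElementaryAbelian 2 A ∧ ∀ C : Subgroup ↥(S : Subgroup G), Cfsg.IsElementaryAbelian 2 C → A ≤ C → C = A)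
    (hB : Cfsg.IsElementaryAbelian 2 B ∧ ∀ C : Subgroup ↥(S : Subgroup G), Cfsg.IsElementaryAbelian 2 C → B ≤ C → C = B)
    (honly : ∀ C : Subgroup ↥(S : Subgroup G), Cfsg.IsElementaryAbelian 2 C →
      (∀ D : Subgroup ↥(S : Subgroup G), Cfsg.IsElementaryAbelian 2 D → C ≤ D → D = C) → C = A ∨ C = B)
    (hprod : ∀ s : ↥(S : Subgroup G), ∃ a ∈ A, ∃ b ∈ B, a * b = s)
    (A' B' : Subgroup G) (hA' : A' = A.map (S : Subgroup G).subtype) (hB' : B' = B.map (S : Subgroup G).subtype) :
    Cfsg.IsWeaklyClosed A' (S : Subgroup G) ∧ Cfsg.IsWeaklyClosed B' (S : Subgroup G) ∧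
      Subgroup.normalizer ((S : Subgroup G) : Set G) ≤ Subgroup.normalizer (A' : Set G) ⊓ Subgroup.normalizer (B' : Set G) := by
  have : Fact (Nat.Prime 2) := ⟨Nat.prime_two⟩
  have hmap : ∀ C : Subgroup ↥(S : Subgroup G), C.map (S : Subgroup G).subtype ≤ (S : Subgroup G) := fun C => Subgroup.map_subtype_le C
  have hinj : Function.Injective (Subgroup.map (S : Subgroup G).subtype) := Subgroup.map_injective (S : Subgroup G).subtype_injective
  have hA'ne : A' ≠ B' := fun h => hAB (hinj (by rw [← hA', ← hB', h]))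
  -- a conjugate lying in S of A' or B' is A' or B'
  have hcl : ∀ (X : Subgroup G) (g : G), X = A' ∨ X = B' → X.map (MulAut.conj g).toMonoidHom ≤ (S : Subgroup G) →
      X.map (MulAut.conj g).toMonoidHom = A' ∨ X.map (MulAut.conj g).toMonoidHom = B' := by
    intro X g hX hle
    obtain ⟨C, hC, hXC, hCmax⟩ : ∃ C : Subgroup ↥(S : Subgroup G), IsElementaryAbelian 2 C ∧ X = C.map (S : Subgroup G).subtype ∧
        ∀ D : Subgroup ↥(S : Subgroup G), IsElementaryAbelian 2 D → C ≤ D → D = C := by
      rcases hX with h | h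
      · exact ⟨A, hA.1, h.trans hA', hA.2⟩
      · exact ⟨B, hB.1, h.trans hB', hB.2⟩
    set X' := X.map (MulAut.conj g).toMonoidHom
    set D := X'.subgroupOf (S : Subgroup G)
    have hD : D.map (S : Subgroup G).subtype = X' := Subgroup.map_subgroupOf_eq_of_le hle
    haveI := hC.1
    have hDe : IsElementaryAbelian 2 D := by
      have hx : ∀ x ∈ X', ∃ c ∈ C, x = g * (c : G) * g⁻¹ := by
        rintro _ ⟨y, hy, rfl⟩
        obtain ⟨c, hc, rfl⟩ := (hXC ▸ hy : y ∈ C.map (S : Subgroup G).subtype)
        exact ⟨c, hc, rfl⟩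
      refine ⟨⟨⟨fun a b => ?_⟩⟩, fun a ha => ?_⟩
      · obtain ⟨c, hc, hac⟩ := hx _ a.2
        obtain ⟨d, hd, hbd⟩ := hx _ b.2
        have h' := congrArg (fun t : ↥(S : Subgroup G) => (t : G)) (setLike_mul_comm hc hd)
        simp only [Subgroup.coe_mul] at h'
        refine Subtype.ext (Subtype.ext ?_)
        show ((a : ↥(S : Subgroup G)) : G) * ((b : ↥(S : Subgroup G)) : G) = ((b : ↥(S : Subgroup G)) : G) * ((a : ↥(S : Subgroup G)) : G)
        simp only [Subgroup.subtype_apply] at hac hbd
        rw [hac, hbd, conj_mul, conj_mul, h']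
      · obtain ⟨c, hc, hac⟩ := hx _ ha
        refine Subtype.ext ?_
        simp only [Subgroup.subtype_apply] at hac
        rw [Subgroup.coe_pow, hac, conj_pow]
        have := congrArg (fun t : ↥(S : Subgroup G) => (t : G)) (hC.2 c hc)
        simp only [Subgroup.coe_pow, Subgroup.coe_one] at this
        simp [this]
    -- maximality of D
    obtain ⟨E, hDE, hE⟩ := (Set.toFinite {E : Subgroup ↥(S : Subgroup G) | IsElementaryAbelian 2 E}).exists_le_maximal hDe
    have hE' : E = A ∨ E = B := honly E hE.1 fun F hF hEF => le_antisymm (hE.2 hF hEF) hEF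
    have hcard : ∀ F : Subgroup ↥(S : Subgroup G), Nat.card ↥(F.map (S : Subgroup G).subtype) = Nat.card ↥F :=
      fun F => (Nat.card_congr (F.equivMapOfInjective _ (S : Subgroup G).subtype_injective).toEquiv).symm
    have hDC : Nat.card ↥D = Nat.card ↥C := by
      rw [← hcard D, hD, ← hcard C, ← hXC]
      exact (Nat.card_congr (X.equivMapOfInjective _ (MulAut.conj g).injective).toEquiv).symm
    -- D is maximal: otherwise E is a bigger copy, pull it back
    have hDmax : D = E := by
      refine le_antisymm hDE ?_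
      by_contra hne
      have hEX : X ≤ (E.map (S : Subgroup G).subtype).map (MulAut.conj g⁻¹).toMonoidHom := by
        intro x hx
        refine ⟨g * x * g⁻¹, Subgroup.map_mono hDE (hD.ge ⟨x, hx, rfl⟩), ?_⟩
        simp [mul_assoc]
      -- E pulled back is elementary abelian and lies in some conjugate Sylow containing X
      set E₀ := (E.map (S : Subgroup G).subtype).map (MulAut.conj g⁻¹).toMonoidHom
      have hE₀2 : IsPGroup 2 ↥E₀ := ((S.2.to_le (hmap E))).map _
      haveI := hE.1.1
      have hE₀ : ∀ x ∈ E₀, ∀ y ∈ E₀, x * y = y * x := by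
        rintro _ ⟨_, ⟨c, hc, rfl⟩, rfl⟩ _ ⟨_, ⟨d, hd, rfl⟩, rfl⟩
        rw [← map_mul, ← map_mul, ← map_mul, ← map_mul, setLike_mul_comm hc hd]
      have hE₀sq : ∀ x ∈ E₀, x ^ 2 = 1 := by
        rintro _ ⟨_, ⟨c, hc, rfl⟩, rfl⟩
        rw [← map_pow, ← map_pow, hE.1.2 c hc, map_one, map_one]
      -- E₀ and S both inside the normaliser of X, so move E₀ into S
      have hN : (S : Subgroup G) ≤ Subgroup.normalizer (X : Set G) := by
        intro s hs
        obtain ⟨a, ha, b, hb, hab⟩ := hprod ⟨s, hs⟩
        have hfix : ∀ F : Subgroup ↥(S : Subgroup G), IsElementaryAbelian 2 F → (∀ D : Subgroup ↥(S : Subgroup G), IsElementaryAbelian 2 D → F ≤ D → D = F) →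
            ∀ u : ↥(S : Subgroup G), IsElementaryAbelian 2 (F.map (MulAut.conj u).toMonoidHom) ∧
              (∀ D : Subgroup ↥(S : Subgroup G), IsElementaryAbelian 2 D → F.map (MulAut.conj u).toMonoidHom ≤ D → D = F.map (MulAut.conj u).toMonoidHom) := by
          intro F hF hFm u
          have key : ∀ (K : Subgroup ↥(S : Subgroup G)) (v : ↥(S : Subgroup G)), IsElementaryAbelian 2 K → IsElementaryAbelian 2 (K.map (MulAut.conj v).toMonoidHom) := by
            intro K v hK
            haveI := hK.1
            refine ⟨Subgroup.map_isMulCommutative K _, ?_⟩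
            rintro _ ⟨k, hk, rfl⟩
            rw [← map_pow, hK.2 k hk, map_one]
          refine ⟨key F u hF, fun D hD hle => ?_⟩
          have h1 := hFm _ (key D u⁻¹ hD) (fun f hf => ⟨_, hle ⟨f, hf, rfl⟩, by simp [mul_assoc]⟩)
          refine le_antisymm (fun d hd => ?_) hle
          exact ⟨u⁻¹ * d * u, h1.le ⟨d, hd, by simp⟩, by simp [mul_assoc]⟩
        have hperm : ∀ u : ↥(S : Subgroup G), (A.map (MulAut.conj u).toMonoidHom = A ∧ B.map (MulAut.conj u).toMonoidHom = B) ∨
            (A.map (MulAut.conj u).toMonoidHom = B ∧ B.map (MulAut.conj u).toMonoidHom = A) := by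
          intro u
          have hi : Function.Injective (Subgroup.map (MulAut.conj u).toMonoidHom) := Subgroup.map_injective (MulAut.conj u).injective
          obtain ⟨h1, h2⟩ := hfix A hA.1 hA.2 u
          obtain ⟨h3, h4⟩ := hfix B hB.1 hB.2 u
          rcases honly _ h1 h2 with e | e <;> rcases honly _ h3 h4 with e' | e'
          · exact absurd (hi (e.trans e'.symm)) hAB
          · exact Or.inl ⟨e, e'⟩
          · exact Or.inr ⟨e, e'⟩
          · exact absurd (hi (e.trans e'.symm)) hAB
        have hselfA : A.map (MulAut.conj a).toMonoidHom = A :=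
          Subgroup.mem_normalizer_iff_map_conj_eq.mp (Subgroup.le_normalizer ha)
        have hselfB : B.map (MulAut.conj b).toMonoidHom = B :=
          Subgroup.mem_normalizer_iff_map_conj_eq.mp (Subgroup.le_normalizer hb)
        have hbA : A.map (MulAut.conj b).toMonoidHom = A := by
          rcases hperm b with ⟨e, -⟩ | ⟨-, e'⟩
          · exact e
          · exact absurd (e'.symm.trans hselfB) hAB
        have haB : B.map (MulAut.conj a).toMonoidHom = B := by
          rcases hperm a with ⟨-, e⟩ | ⟨e', -⟩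
          · exact e
          · exact absurd (hselfA.symm.trans e') hAB
        have hCs : ∀ F : Subgroup ↥(S : Subgroup G), F.map (MulAut.conj a).toMonoidHom = F → F.map (MulAut.conj b).toMonoidHom = F →
            s ∈ Subgroup.normalizer (F.map (S : Subgroup G).subtype : Set G) := by
          intro F ea eb
          have hu : (⟨s, hs⟩ : ↥(S : Subgroup G)) ∈ Subgroup.normalizer (F : Set ↥(S : Subgroup G)) := by
            rw [← hab]
            exact Subgroup.mul_mem _ (Subgroup.mem_normalizer_iff_map_conj_eq.mpr ea) (Subgroup.mem_normalizer_iff_map_conj_eq.mpr eb)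
          exact Subgroup.le_normalizer_map (S : Subgroup G).subtype ⟨_, hu, rfl⟩
        rw [hXC]
        rcases honly C hC hCmax with h | h <;> subst h
        · exact hCs _ hselfA hbA
        · exact hCs _ haB hselfB
      have hE₀N : E₀ ≤ Subgroup.normalizer (X : Set G) := by
        intro e he
        rw [Subgroup.mem_normalizer_iff]
        intro x
        constructor
        · intro hx; rw [hE₀ e he x (hEX hx), mul_inv_cancel_right]; exact hx
        · intro hx
          have := hE₀ e he _ (hEX hx)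
          have h2 : x = e * x * e⁻¹ := by
            refine mul_left_cancel (a := e) ?_
            rw [this]; simp
          rw [h2]; exact hx
      obtain ⟨R, hR⟩ := (hE₀2.comap_subtype (K := Subgroup.normalizer (X : Set G))).exists_le_sylow
      obtain ⟨k, hk⟩ := MulAction.exists_smul_eq ↥(Subgroup.normalizer (X : Set G)) R (S.subtype hN)
      set F := (E₀.map (MulAut.conj (k : G)).toMonoidHom).subgroupOf (S : Subgroup G)
      have hEk : E₀.map (MulAut.conj (k : G)).toMonoidHom ≤ (S : Subgroup G) := by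
        rintro _ ⟨e, he, rfl⟩
        have hm : (⟨e, hE₀N he⟩ : ↥(Subgroup.normalizer (X : Set G))) ∈ (R : Subgroup _) := hR he
        have hm2 := Subgroup.smul_mem_pointwise_smul _ (MulAut.conj k) _ hm
        rw [← Sylow.pointwise_smul_def, ← Sylow.smul_def, hk] at hm2
        exact hm2
      have hFe : IsElementaryAbelian 2 F := by
        refine ⟨⟨⟨fun u v => Subtype.ext (Subtype.ext ?_)⟩⟩, fun u hu => Subtype.ext ?_⟩
        · obtain ⟨e, he, hue⟩ := u.2
          obtain ⟨f, hf, hvf⟩ := v.2
          show ((u : ↥(S : Subgroup G)) : G) * ((v : ↥(S : Subgroup G)) : G) = ((v : ↥(S : Subgroup G)) : G) * ((u : ↥(S : Subgroup G)) : G)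
          change _ = ((u : ↥(S : Subgroup G)) : G) at hue
          change _ = ((v : ↥(S : Subgroup G)) : G) at hvf
          rw [← hue, ← hvf, ← map_mul, ← map_mul, hE₀ e he f hf]
        · obtain ⟨e, he, hue⟩ := hu
          change _ = (u : G) at hue
          rw [Subgroup.coe_pow, ← hue, ← map_pow, hE₀sq e he, map_one]; rfl
      have hCF : C ≤ F := by
        intro c hc
        have hcX : (c : G) ∈ X := hXC ▸ ⟨c, hc, rfl⟩
        have : (c : G) ∈ X.map (MulAut.conj (k : G)).toMonoidHom :=
          (Subgroup.mem_normalizer_iff_map_conj_eq.mp k.2).symm ▸ hcX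
        exact Subgroup.map_mono hEX this
      have hFC := hCmax F hFe hCF
      have : Nat.card ↥E = Nat.card ↥C := by
        rw [← hFC, ← hcard F, Subgroup.map_subgroupOf_eq_of_le hEk,
          ← Nat.card_congr (E₀.equivMapOfInjective _ (MulAut.conj (k : G)).injective).toEquiv,
          ← Nat.card_congr ((E.map (S : Subgroup G).subtype).equivMapOfInjective _ (MulAut.conj g⁻¹).injective).toEquiv, hcard]
      exact hne (Subgroup.eq_of_le_of_card_ge hDE (by omega)).ge
    rcases hE' with h | h
    · exact Or.inl (by rw [← hD, hDmax, h, hA'])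
    · exact Or.inr (by rw [← hD, hDmax, h, hB'])
  have hA'H : A' ≤ (S : Subgroup G) := hA' ▸ hmap A
  have hB'H : B' ≤ (S : Subgroup G) := hB' ▸ hmap B
  -- the normaliser of S fixes A' and B'
  have hNS : ∀ n ∈ Subgroup.normalizer ((S : Subgroup G) : Set G), A'.map (MulAut.conj n).toMonoidHom = A' ∧ B'.map (MulAut.conj n).toMonoidHom = B' := by
    have hperm : ∀ n ∈ Subgroup.normalizer ((S : Subgroup G) : Set G),
        (A'.map (MulAut.conj n).toMonoidHom = A' ∧ B'.map (MulAut.conj n).toMonoidHom = B') ∨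
        (A'.map (MulAut.conj n).toMonoidHom = B' ∧ B'.map (MulAut.conj n).toMonoidHom = A') := by
      intro n hn
      have hle : ∀ X, X ≤ (S : Subgroup G) → X.map (MulAut.conj n).toMonoidHom ≤ (S : Subgroup G) := by
        rintro X hX _ ⟨x, hx, rfl⟩
        exact (Subgroup.mem_normalizer_iff.mp hn x).mp (hX hx)
      have hi : Function.Injective (Subgroup.map (MulAut.conj n).toMonoidHom) := Subgroup.map_injective (MulAut.conj n).injective
      rcases hcl A' n (Or.inl rfl) (hle _ hA'H) with e | e <;> rcases hcl B' n (Or.inr rfl) (hle _ hB'H) with e' | e'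
      · exact absurd (hi (e.trans e'.symm)) hA'ne
      · exact Or.inl ⟨e, e'⟩
      · exact Or.inr ⟨e, e'⟩
      · exact absurd (hi (e.trans e'.symm)) hA'ne
    intro n hn
    refine (hperm n hn).resolve_right ?_
    rintro ⟨e, e'⟩
    have hcomp : ∀ (X : Subgroup G) (u v : G), X.map (MulAut.conj (u * v)).toMonoidHom =
        (X.map (MulAut.conj v).toMonoidHom).map (MulAut.conj u).toMonoidHom := by
      intro X u v; rw [Subgroup.map_map, map_mul]; rfl
    have hid : ∀ X : Subgroup G, X.map (MulAut.conj (1 : G)).toMonoidHom = X := by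
      intro X; rw [map_one]; exact Subgroup.map_id X
    have hpow : ∀ i : ℕ, A'.map (MulAut.conj (n ^ (2 * i))).toMonoidHom = A' := by
      intro i
      induction i with
      | zero => rw [Nat.mul_zero, pow_zero]; exact hid A'
      | succ i ih => rw [show n ^ (2 * (i + 1)) = n * (n * n ^ (2 * i)) by rw [← pow_succ', ← pow_succ']; congr 1, hcomp, hcomp, ih, e, e']
    obtain ⟨a, r, hr, hpr⟩ : ∃ a r, Odd r ∧ orderOf n = 2 ^ a * r := by
      obtain ⟨a, r, hr, h⟩ := Nat.exists_eq_two_pow_mul_odd (orderOf_pos n).ne'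
      exact ⟨a, r, hr, h⟩
    -- the 2-part of n lies in S
    have hu : n ^ r ∈ (S : Subgroup G) := by
      set N := Subgroup.normalizer ((S : Subgroup G) : Set G)
      have h2 : IsPGroup 2 ↥(Subgroup.zpowers (n ^ r)) := by
        refine IsPGroup.of_card_dvd_pow (n := a) ?_
        rw [Nat.card_zpowers]
        exact orderOf_dvd_of_pow_eq_one (by rw [← pow_mul, Nat.mul_comm, ← hpr, pow_orderOf_eq_one])
      have h3 : IsPGroup 2 ↥(Subgroup.zpowers (n ^ r) ⊔ (S : Subgroup G)) :=
        h2.to_sup_of_normal_right' S.2 (Subgroup.zpowers_le.mpr (N.pow_mem hn r))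
      have := S.3 h3 le_sup_right
      exact this.le (Subgroup.mem_sup_left (Subgroup.mem_zpowers _))
    obtain ⟨j, rfl⟩ := hr
    have hfix : A'.map (MulAut.conj (n ^ (2 * j + 1))).toMonoidHom = A' := by
      rcases hperm _ (Subgroup.pow_mem _ hn (2 * j + 1)) with ⟨h, -⟩ | ⟨h, -⟩
      · exact h
      · exfalso
        obtain ⟨a', ha', b', hb', hab⟩ := hprod ⟨_, hu⟩
        have habG : (a' : G) * (b' : G) = n ^ (2 * j + 1) := congrArg (fun t : ↥(S : Subgroup G) => (t : G)) hab
        have haA : (a' : G) ∈ A' := hA' ▸ ⟨a', ha', rfl⟩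
        have hbB : (b' : G) ∈ B' := hB' ▸ ⟨b', hb', rfl⟩
        have e1 : A'.map (MulAut.conj (a' : G)).toMonoidHom = A' :=
          Subgroup.mem_normalizer_iff_map_conj_eq.mp (Subgroup.le_normalizer haA)
        have e2 : B'.map (MulAut.conj (b' : G)).toMonoidHom = B' :=
          Subgroup.mem_normalizer_iff_map_conj_eq.mp (Subgroup.le_normalizer hbB)
        have e3 : A'.map (MulAut.conj (b' : G)).toMonoidHom = A' := by
          rcases hperm _ (Subgroup.le_normalizer b'.2) with ⟨h', -⟩ | ⟨-, h'⟩
          · exact h'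
          · exact absurd (h'.symm.trans e2) hA'ne
        rw [← habG, hcomp, e3, e1] at h
        exact hA'ne h
    rw [pow_succ', hcomp, hpow, e] at hfix
    exact hA'ne hfix.symm
  have hnorm : ∀ u : G, u ∈ (S : Subgroup G) → ∀ X : Subgroup G, X = A' ∨ X = B' → u ∈ Subgroup.normalizer (X : Set G) := by
    intro u hu X hX
    obtain ⟨h1, h2⟩ := hNS u (Subgroup.le_normalizer hu)
    rw [Subgroup.mem_normalizer_iff_map_conj_eq]
    rcases hX with rfl | rfl
    · exact h1
    · exact h2
  refine ⟨⟨hA'H, fun g hg => ?_⟩, ⟨hB'H, fun g hg => ?_⟩, ?_⟩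
  · rcases hcl A' g (Or.inl rfl) hg with e | e
    · exact e
    · exfalso
      obtain ⟨n, hn, he⟩ := burnside_normal S A' B' (fun u hu => hnorm u hu _ (Or.inl rfl)) (fun u hu => hnorm u hu _ (Or.inr rfl)) g e
      exact hA'ne ((hNS n hn).1.symm.trans he)
  · rcases hcl B' g (Or.inr rfl) hg with e | e
    · exfalso
      obtain ⟨n, hn, he⟩ := burnside_normal S B' A' (fun u hu => hnorm u hu _ (Or.inr rfl)) (fun u hu => hnorm u hu _ (Or.inl rfl)) g e
      exact hA'ne (he.symm.trans (hNS n hn).2)
    · exact e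
  · intro n hn
    obtain ⟨h1, h2⟩ := hNS n hn
    exact ⟨Subgroup.mem_normalizer_iff_map_conj_eq.mpr h1, Subgroup.mem_normalizer_iff_map_conj_eq.mpr h2⟩

end Cfsg.Agent.S3203
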