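import Cfsg.Statements.S3206
import Cfsg.Agent.Lib.JankoRee.Main

set_option autoImplicit false
set_option linter.style.haveILetI false
open Cfsg

namespace Cfsg.Agent.S3206

/-- Let G be a non-abelian finite simple group with abelian Sylow 2-subgroups, and let t be an involution of G whose centralizer is a maximal subgroup of G and is the direct product of the subgroup generated by t with a subgroup E having a normal subgroup isomorphic to PSL(2, q), q odd and greater than 3, with trivial centralizer in E. Then every finite perfect group having a central 2-subgroup with quotient isomorphic to G has that central subgroup trivial (G has no nontrivial perfect central extension by a 2-group), and every automorphism of G of 2-power order that fixes every element of some Sylow 2-subgroup of G is inner. -/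
theorem result {G : Type*} [Group G] [Finite G] [IsSimpleGroup G]
    (hG : ¬ IsMulCommutative G) (hab : ∀ S : Sylow 2 G, IsMulCommutative ↥(S : Subgroup G))
    (t : G) (ht : orderOf t = 2) (hmax : IsCoatom (Subgroup.centralizer ({t} : Set G)))
    (E : Subgroup G) (hE : Cfsg.IsInternalDirectProduct (Subgroup.zpowers t) E (Subgroup.centralizer ({t} : Set G)))
    {F : Type*} [Field F] [Fintype F] (hFo : Odd (Fintype.card F)) (hF3 : 3 < Fintype.card F)
    (N : Subgroup ↥E) [N.Normal] (hN : Nonempty (↥N ≃* Matrix.ProjectiveSpecialLinearGroup (Fin 2) F))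
    (hNc : Subgroup.centralizer (N : Set ↥E) = ⊥) :
    (∀ (L : Type) (_ : Group L) (_ : Finite L) (Z : Subgroup L) (_ : Z.Normal), commutator L = ⊤ → Z ≤ Subgroup.center L →
        IsPGroup 2 ↥Z → Nonempty (L ⧸ Z ≃* G) → Z = ⊥) ∧
    (∀ (φ : G ≃* G) (k : ℕ), φ ^ (2 ^ k) = 1 → (∃ S : Sylow 2 G, ∀ s ∈ (S : Subgroup G), φ s = s) →
        ∃ g : G, ∀ x : G, φ x = g * x * g⁻¹) := by
  classical
  obtain ⟨hTC, hEC, hcomm, -, hsup⟩ := hE
  obtain ⟨eN⟩ := hN
  let N' : Subgroup G := N.map E.subtype
  have hN'C : N' ≤ Subgroup.centralizer {t} := (Subgroup.map_subtype_le N).trans hEC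
  have htn : Subgroup.zpowers t ≤ Subgroup.normalizer (N' : Set G) := fun a ha => by
    refine Subgroup.centralizer_le_normalizer _ (Subgroup.mem_centralizer_iff.2 fun x hx => ?_)
    exact (hcomm a ha x (Subgroup.map_subtype_le N hx)).symm
  have hEn : E ≤ Subgroup.normalizer (N' : Set G) := fun a ha => by
    rw [Subgroup.mem_normalizer_iff]
    intro x
    constructor
    · rintro ⟨y, hy, rfl⟩
      exact ⟨⟨a, ha⟩ * y * ⟨a, ha⟩⁻¹, ‹N.Normal›.conj_mem y hy _, by simp⟩
    · rintro ⟨y, hy, hyx⟩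
      refine ⟨(⟨a, ha⟩ : E)⁻¹ * y * (⟨a, ha⟩⁻¹)⁻¹, ‹N.Normal›.conj_mem y hy _, ?_⟩
      change (y : G) = a * x * a⁻¹ at hyx
      simp [hyx, mul_assoc]
  have hnorm : Subgroup.centralizer ({t} : Set G) ≤ Subgroup.normalizer (N' : Set G) := hsup ▸ sup_le htn hEn
  have hcent : ∀ c ∈ Subgroup.centralizer ({t} : Set G), (∀ x ∈ N', c * x = x * c) → c ∈ Subgroup.zpowers t := by
    intro c hc hcx
    have hET : E ≤ Subgroup.normalizer ((Subgroup.zpowers t : Subgroup G) : Set G) := fun a ha =>
      Subgroup.centralizer_le_normalizer _ (Subgroup.mem_centralizer_iff.2 fun x hx => hcomm x hx a ha)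
    rw [← hsup, sup_comm, ← SetLike.mem_coe, Subgroup.coe_mul_of_left_le_normalizer_right _ _ hET] at hc
    obtain ⟨e, he, a, ha, rfl⟩ := Set.mem_mul.1 hc
    have : (⟨e, he⟩ : E) ∈ Subgroup.centralizer (N : Set E) := Subgroup.mem_centralizer_iff.2 fun x hx =>
      Subtype.ext (by
        have h := hcx (x : G) ⟨x, hx, rfl⟩
        rw [mul_assoc, hcomm a ha x x.2, ← mul_assoc, ← mul_assoc] at h
        exact (mul_right_cancel h).symm)
    rw [hNc, Subgroup.mem_bot] at this
    have he1 : e = 1 := congrArg Subtype.val this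
    rw [he1, one_mul]
    exact ha
  obtain ⟨D⟩ := Cfsg.Agent.JankoRee.exists_setup hab ht N' hN'C hnorm hcent hFo hF3
    ((Subgroup.equivMapOfInjective N E.subtype E.subtype_injective).symm.trans eN)
  refine ⟨?_, ?_⟩
  · intro L _ _ Z _ hL hZc hZ2 hiso
    obtain ⟨e⟩ := hiso
    let π : L →* G := e.toMonoidHom.comp (QuotientGroup.mk' Z)
    have hker : π.ker = Z := by
      ext x
      simp [π, MonoidHom.mem_ker]
    rw [← hker] at hZc hZ2 ⊢
    exact D.ext_trivial hG hab ht hL π (e.surjective.comp (QuotientGroup.mk'_surjective Z)) hZc hZ2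
  · intro φ k hk hS
    obtain ⟨S₀, hS₀⟩ := hS
    haveI : Fact (Nat.Prime 2) := ⟨Nat.prime_two⟩
    obtain ⟨g, rfl⟩ := MulAction.exists_smul_eq G D.S S₀
    have hψ : ((MulAut.conj g)⁻¹ * φ * MulAut.conj g : MulAut G) ^ 2 ^ k = 1 := by
      have h := conj_pow (a := (MulAut.conj g)⁻¹) (b := (φ : MulAut G)) (i := 2 ^ k)
      rw [inv_inv] at h
      have hk' : (φ : MulAut G) ^ 2 ^ k = 1 := hk
      rw [h, hk', mul_one, inv_mul_cancel]
    obtain ⟨h, hh⟩ := D.aut_inner hG hab ht hmax _ hψ (fun s hs => by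
      show (MulAut.conj g)⁻¹ (φ (MulAut.conj g s)) = s
      rw [hS₀ _ (by
        rw [Sylow.coe_subgroup_smul]
        exact Subgroup.smul_mem_pointwise_smul s (MulAut.conj g) _ hs)]
      exact (MulAut.conj g).symm_apply_apply s)
    refine ⟨g * h * g⁻¹, fun x => ?_⟩
    have h' := DFunLike.congr_fun hh (g⁻¹ * x * g)
    change g⁻¹ * φ (g * (g⁻¹ * x * g) * g⁻¹) * g = h * (g⁻¹ * x * g) * h⁻¹ at h'
    rw [show g * (g⁻¹ * x * g) * g⁻¹ = x by group] at h'
    calc φ x = g * (g⁻¹ * φ x * g) * g⁻¹ := by group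
      _ = g * h * g⁻¹ * x * (g * h * g⁻¹)⁻¹ := by rw [h']; group

end Cfsg.Agent.S3206
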