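import Cfsg.Statements.S3208
import Mathlib.GroupTheory.Nilpotent

set_option autoImplicit false
open Cfsg

namespace Cfsg.Agent.S3208


/-- Let j be an involution of a finite group G, H a subgroup of G, and T a Sylow 2-subgroup of H ∩ C_G(j) containing j such that ⟨j⟩ is a characteristic subgroup of T. Then T is a Sylow 2-subgroup of H. -/
theorem result {G : Type*} [Group G] [Finite G]
    (j : G) (hj : orderOf j = 2) (H T : Subgroup G) (hT : T ≤ H ⊓ Subgroup.centralizer ({j} : Set G)) (h2 : IsPGroup 2 ↥T)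
    (hSyl : ¬ 2 ∣ T.relIndex (H ⊓ Subgroup.centralizer ({j} : Set G))) (hjT : j ∈ T)
    (hchar : ((Subgroup.zpowers j).subgroupOf T).Characteristic) :
    ¬ 2 ∣ T.relIndex H := by
  have : Fact (Nat.Prime 2) := ⟨Nat.prime_two⟩
  have hTH : T ≤ H := hT.trans inf_le_left
  obtain ⟨Q, hQ⟩ := (h2.comap_subtype (K := H)).exists_le_sylow
  set Q' : Subgroup G := (Q : Subgroup ↥H).map H.subtype with hQ'def
  have hQ'2 : IsPGroup 2 ↥Q' := Q.2.map _
  have hTQ : T ≤ Q' := fun t ht => ⟨⟨t, hTH ht⟩, hQ ht, rfl⟩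
  have hQ'H : Q' ≤ H := Subgroup.map_subtype_le _
  -- T is the whole of the part of Q' centralizing j
  set C := Subgroup.centralizer ({j} : Set G)
  have hQC : Q' ⊓ C ≤ T := by
    rw [← Subgroup.relIndex_eq_one]
    obtain ⟨k, hk⟩ := IsPGroup.iff_card.mp (hQ'2.to_le (inf_le_left : Q' ⊓ C ≤ Q'))
    have hdvd : T.relIndex (Q' ⊓ C) ∣ 2 ^ k := hk ▸ Subgroup.relIndex_dvd_card _ _
    have hdvd' : T.relIndex (Q' ⊓ C) ∣ T.relIndex (H ⊓ C) :=
      Dvd.intro _ (Subgroup.relIndex_mul_relIndex T (Q' ⊓ C) (H ⊓ C)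
        (le_inf hTQ (hT.trans inf_le_right)) (inf_le_inf_right _ hQ'H))
    obtain ⟨i, -, hi⟩ := (Nat.dvd_prime_pow Nat.prime_two).mp hdvd
    rcases Nat.eq_zero_or_pos i with rfl | hi0
    · simpa using hi
    · exact absurd ((hi ▸ dvd_pow_self 2 hi0.ne').trans hdvd') hSyl
  have hT' : T.subgroupOf Q' = ⊤ := by
    haveI : Group.IsNilpotent ↥Q' := hQ'2.isNilpotent
    refine normalizerCondition_iff_only_full_group_self_normalizing.mp normalizerCondition_of_isNilpotent _ ?_
    refine le_antisymm (fun q hq => ?_) Subgroup.le_normalizer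
    have hq' : ∀ t : G, t ∈ T ↔ (q : G) * t * (q : G)⁻¹ ∈ T := by
      intro t
      by_cases htQ : t ∈ Q'
      · simpa [Subgroup.mem_subgroupOf] using Subgroup.mem_normalizer_iff.mp hq ⟨t, htQ⟩
      · refine ⟨fun h => absurd (hTQ h) htQ, fun h => absurd ?_ htQ⟩
        simpa [mul_assoc] using Q'.mul_mem (Q'.mul_mem (Q'.inv_mem q.2) (hTQ h)) q.2
    let φ : ↥T ≃* ↥T :=
      { toFun := fun t => ⟨(q : G) * t * (q : G)⁻¹, (hq' _).mp t.2⟩
        invFun := fun t => ⟨(q : G)⁻¹ * t * q, (hq' _).mpr (by simp [mul_assoc])⟩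
        left_inv := fun t => Subtype.ext (by simp [mul_assoc])
        right_inv := fun t => Subtype.ext (by simp [mul_assoc])
        map_mul' := fun a b => Subtype.ext (by simp [mul_assoc]) }
    have hj' : (φ ⟨j, hjT⟩ : ↥T) ∈ (Subgroup.zpowers j).subgroupOf T := by
      have := hchar.fixed φ
      have hm : (⟨j, hjT⟩ : ↥T) ∈ ((Subgroup.zpowers j).subgroupOf T).comap φ.toMonoidHom := by
        rw [this]; exact Subgroup.mem_zpowers j
      exact hm
    have hj'' : (q : G) * j * (q : G)⁻¹ ∈ Subgroup.zpowers j := hj'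
    have hne : (q : G) * j * (q : G)⁻¹ ≠ 1 := by
      intro h
      rw [mul_inv_eq_one, mul_eq_left] at h
      rw [h] at hj; simp at hj
    classical
    obtain ⟨k, hk, hk'⟩ := Finset.mem_image.mp (mem_zpowers_iff_mem_range_orderOf.mp hj'')
    rw [hj, Finset.mem_range] at hk
    have : (q : G) * j * (q : G)⁻¹ = j := by
      interval_cases k
      · simp at hk'; exact absurd hk'.symm hne
      · simpa using hk'.symm
    exact hQC ⟨q.2, Subgroup.mem_centralizer_singleton_iff.mpr (mul_inv_eq_iff_eq_mul.mp this)⟩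
  have hTQ' : Q' = T := le_antisymm (fun q hq => by
    have : (⟨q, hq⟩ : ↥Q') ∈ T.subgroupOf Q' := hT' ▸ Subgroup.mem_top _
    exact this) hTQ
  have : T.subgroupOf H = (Q : Subgroup ↥H) := by
    rw [← hTQ']
    exact Subgroup.comap_map_eq_self_of_injective H.subtype_injective _
  rw [Subgroup.relIndex, this]
  exact Q.not_dvd_index

end Cfsg.Agent.S3208
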