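import Cfsg.Statements.S3209
import Cfsg.Agent.Lib.UniqueInvol.SL2Sub

set_option autoImplicit false
open Cfsg

namespace Cfsg.Agent.S3209


/-- Let L₁ ≅ SL₂(q₁) and L₂ ≅ SL₂(q₂), q₁ and q₂ odd, be elementwise-commuting subgroups of a finite group meeting in ⟨j⟩ for an involution j. Then L₁L₂ has exactly two conjugacy classes of involutions: the central involution j, and one further class (there is an involution x ≠ j in L₁L₂, and every involution of L₁L₂ other than j is conjugate to x by an element of L₁L₂). -/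
theorem result {G : Type*} [Group G] [Finite G]
    {F₁ : Type*} [Field F₁] [Fintype F₁] {F₂ : Type*} [Field F₂] [Fintype F₂]
    (hF₁ : Odd (Fintype.card F₁)) (hF₂ : Odd (Fintype.card F₂)) (L₁ L₂ : Subgroup G)
    (e₁ : ↥L₁ ≃* Matrix.SpecialLinearGroup (Fin 2) F₁) (e₂ : ↥L₂ ≃* Matrix.SpecialLinearGroup (Fin 2) F₂)
    (hc : ∀ x ∈ L₁, ∀ y ∈ L₂, x * y = y * x) (j : G) (hj : orderOf j = 2) (hm : L₁ ⊓ L₂ = Subgroup.zpowers j) :
    ∃ x ∈ L₁ ⊔ L₂, orderOf x = 2 ∧ x ≠ j ∧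
      ∀ y ∈ L₁ ⊔ L₂, orderOf y = 2 → y = j ∨ ∃ g ∈ L₁ ⊔ L₂, g * x * g⁻¹ = y := by
  have hj1 : j ≠ 1 := fun h => by rw [h, orderOf_one] at hj; omega
  have hjj : j * j = 1 := by rw [← pow_two, ← hj, pow_orderOf_eq_one]
  have hjm : j ∈ L₁ ⊓ L₂ := hm ▸ Subgroup.mem_zpowers j
  obtain ⟨hs1, hc1, a, ha, haa, ha1, haj, hconj1⟩ := UniqueInvol.sl2_sub hF₁ L₁ e₁ hj hjm.1
  obtain ⟨hs2, hc2, b, hb, hbb, hb1, hbj, hconj2⟩ := UniqueInvol.sl2_sub hF₂ L₂ e₂ hj hjm.2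
  have hz : ∀ c ∈ L₁ ⊓ L₂, c = 1 ∨ c = j := fun c hcm => by
    rw [hm] at hcm
    obtain ⟨k, rfl⟩ := Subgroup.mem_zpowers_iff.1 hcm
    rcases Int.even_or_odd k with ⟨m, rfl⟩ | ⟨m, rfl⟩
    · exact Or.inl (by rw [zpow_add, ← (Commute.refl j).mul_zpow, hjj, one_zpow])
    · exact Or.inr (by rw [zpow_add, zpow_mul, zpow_two, hjj, one_zpow, one_mul, zpow_one])
  refine ⟨a * b, mul_mem (Subgroup.mem_sup_left ha) (Subgroup.mem_sup_right hb),
    orderOf_eq_prime ?_ ?_, ?_, fun y hy hy2 => ?_⟩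
  · rw [pow_two, (show Commute b a from (hc a ha b hb).symm).mul_mul_mul_comm, haa, hbb, hjj]
  · intro h
    have : a ∈ L₁ ⊓ L₂ := Subgroup.mem_inf.2 ⟨ha, by rw [eq_inv_of_mul_eq_one_left h]; exact inv_mem hb⟩
    rcases hz a this with e | e
    exacts [ha1 e, haj e]
  · intro h
    have : a ∈ L₁ ⊓ L₂ := Subgroup.mem_inf.2 ⟨ha, by rw [eq_mul_inv_of_mul_eq h]; exact L₂.mul_mem (Subgroup.mem_inf.1 hjm).2 (inv_mem hb)⟩
    rcases hz a this with e | e
    exacts [ha1 e, haj e]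
  · obtain ⟨p, hp, q, hq, rfl⟩ := UniqueInvol.mem_sup_commute hc hy
    have hy1 : p * q * (p * q) = 1 := by rw [← pow_two, ← hy2, pow_orderOf_eq_one]
    rw [(show Commute q p from (hc p hp q hq).symm).mul_mul_mul_comm] at hy1
    have hpm : p * p ∈ L₁ ⊓ L₂ := Subgroup.mem_inf.2 ⟨mul_mem hp hp, by
      rw [eq_inv_of_mul_eq_one_left hy1]; exact inv_mem (mul_mem hq hq)⟩
    rcases hz _ hpm with e | e
    · rw [e, one_mul] at hy1
      have hne : p * q ≠ 1 := fun h => by rw [h, orderOf_one] at hy2; omega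
      rcases hs1 p hp e with rfl | rfl <;> rcases hs2 q hq hy1 with rfl | rfl
      · exact absurd (one_mul 1) hne
      · exact Or.inl (one_mul _)
      · exact Or.inl (mul_one _)
      · exact absurd hjj hne
    · rw [e] at hy1
      have hq2 : q * q = j := by
        rw [eq_inv_of_mul_eq_one_right hy1]; exact inv_eq_of_mul_eq_one_right hjj
      obtain ⟨g, hg, rfl⟩ := hconj1 p hp e
      obtain ⟨k, hk, rfl⟩ := hconj2 q hq hq2
      refine Or.inr ⟨g * k, mul_mem (Subgroup.mem_sup_left hg) (Subgroup.mem_sup_right hk), ?_⟩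
      have h1 := hc a ha k hk
      have h2 : g⁻¹ * k = k * g⁻¹ := hc g⁻¹ (inv_mem hg) k hk
      calc g * k * (a * b) * (g * k)⁻¹ = g * (k * a) * b * k⁻¹ * g⁻¹ := by group
        _ = g * a * (k * b * k⁻¹) * g⁻¹ := by rw [← h1]; group
        _ = g * a * (g⁻¹ * (k * b * k⁻¹)) := by
          rw [mul_assoc (g * a), ← hc g⁻¹ (inv_mem hg) (k * b * k⁻¹) (mul_mem (mul_mem hk hb) (inv_mem hk))]
        _ = g * a * g⁻¹ * (k * b * k⁻¹) := by group

end Cfsg.Agent.S3209
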