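import Cfsg.Statements.S3210
import Cfsg.Agent.Lib.UniqueInvol.SL2Indec
import Cfsg.Agent.Lib.Classical.SL

set_option autoImplicit false
open Cfsg

namespace Cfsg.Agent.S3210

theorem split {G : Type*} [Group G] {F : Type*} [Field F] [Fintype F] (hF : Odd (Fintype.card F))
    (L N K K' : Subgroup G) (e : ↥L ≃* Matrix.SpecialLinearGroup (Fin 2) F)
    (hc : ∀ x ∈ L, ∀ y ∈ N, x * y = y * x) (hKK : ∀ x ∈ K, ∀ y ∈ K', x * y = y * x) {j : G}
    (hj : orderOf j = 2) (hm : L ⊓ N = Subgroup.zpowers j) (hjK : j ∈ K) (hjK' : j ∈ K')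
    (hle : K ≤ L ⊔ N) (hle' : K' ≤ L ⊔ N) (hgen : L ≤ K ⊔ K') : K ≤ N ∨ K' ≤ N := by
  have hjm : j ∈ L ⊓ N := hm ▸ Subgroup.mem_zpowers j
  obtain ⟨hsq, hjc, -⟩ := UniqueInvol.sl2_sub hF L e hj hjm.1
  have h2 : (2 : F) ≠ 0 := SL2BorelTorus.two_ne_zero_of_odd_card hF
  have hzc : ∀ c : G, ∀ hcL : c ∈ L, c ∈ N → e ⟨c, hcL⟩ ∈ Subgroup.center _ := by
    intro c hcL hcN
    obtain ⟨k, hk⟩ := Subgroup.mem_zpowers_iff.1 (hm ▸ (Subgroup.mem_inf.2 ⟨hcL, hcN⟩) : c ∈ Subgroup.zpowers j)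
    refine Subgroup.mem_center_iff.2 fun y => ?_
    obtain ⟨y, rfl⟩ := e.surjective y
    rw [← map_mul, ← map_mul]
    refine congrArg e (Subtype.ext ?_)
    show (y : G) * c = c * y
    rw [← hk]
    exact (show Commute (y : G) j from hjc y y.2).zpow_right k
  -- the projection of a subgroup
  let proj : Subgroup G → Subgroup (Matrix.SpecialLinearGroup (Fin 2) F) := fun K =>
    { carrier := {x | ∃ y ∈ N, ((e.symm x : L) : G) * y ∈ K}
      one_mem' := ⟨1, one_mem N, by simp⟩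
      mul_mem' := by
        rintro a b ⟨y, hy, h⟩ ⟨y', hy', h'⟩
        refine ⟨y * y', mul_mem hy hy', ?_⟩
        have := mul_mem h h'
        rwa [(show Commute y ((e.symm b : L) : G) from (hc _ (SetLike.coe_mem _) _ hy).symm).mul_mul_mul_comm,
          ← Subgroup.coe_mul, ← map_mul] at this
      inv_mem' := by
        rintro a ⟨y, hy, h⟩
        refine ⟨y⁻¹, inv_mem hy, ?_⟩
        have := inv_mem h
        rwa [hc _ (SetLike.coe_mem _) _ hy, mul_inv_rev, ← Subgroup.coe_inv, ← map_inv] at this }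
  have hmem : ∀ (K : Subgroup G) x, x ∈ proj K ↔ ∃ y ∈ N, ((e.symm x : L) : G) * y ∈ K := fun _ _ => Iff.rfl
  have hproj : ∀ K : Subgroup G, K ≤ L ⊔ N → proj K ≤ Subgroup.center _ → K ≤ N := by
    intro K hK hcen k hk
    obtain ⟨p, hp, q, hq, rfl⟩ := UniqueInvol.mem_sup_commute hc (hK hk)
    have h1 : e ⟨p, hp⟩ ∈ Subgroup.center _ :=
      hcen ((hmem K _).2 ⟨q, hq, by rw [e.symm_apply_apply]; exact hk⟩)
    rcases SL2Inv.mem_center_iff.1 h1 with h | h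
    · rw [← map_one e] at h
      rw [show p = 1 from congrArg Subtype.val (e.injective h), one_mul]; exact hq
    · have hpp : p * p = 1 := by
        have : (⟨p, hp⟩ : L) * ⟨p, hp⟩ = 1 := e.injective (by
          rw [map_mul, h, SL2Inv.negOne_mul_self, map_one])
        exact congrArg Subtype.val this
      rcases hsq p hp hpp with rfl | rfl
      · rw [one_mul]; exact hq
      · exact mul_mem hjm.2 hq
  have hcen : ∀ K : Subgroup G, j ∈ K → Subgroup.center _ ≤ proj K := by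
    intro K hjK x hx
    refine (hmem K x).2 ⟨1, one_mem N, ?_⟩
    rw [mul_one]
    rcases SL2Inv.mem_center_iff.1 hx with rfl | rfl
    · simp
    · have h : ((e.symm SL2Inv.negOne : L) : G) * (e.symm SL2Inv.negOne : L) = 1 := by
        rw [← Subgroup.coe_mul, ← map_mul, SL2Inv.negOne_mul_self, map_one, Subgroup.coe_one]
      rcases hsq _ (SetLike.coe_mem _) h with e' | e' <;> rw [e']
      exacts [one_mem K, hjK]
  refine (UniqueInvol.indecomposable h2 (proj K) (proj K') (hcen K hjK) (hcen K' hjK') ?_ ?_).imp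
    (hproj K hle) (hproj K' hle')
  · intro a ha b hb
    obtain ⟨y, hy, h⟩ := (hmem K a).1 ha
    obtain ⟨y', hy', h'⟩ := (hmem K' b).1 hb
    set a' : L := e.symm a
    set b' : L := e.symm b
    have h1 : ((a' : G) * y) * ((b' : G) * y') = ((b' : G) * y') * ((a' : G) * y) := hKK _ h _ h'
    rw [(show Commute y (b' : G) from (hc _ b'.2 _ hy).symm).mul_mul_mul_comm,
      (show Commute y' (a' : G) from (hc _ a'.2 _ hy').symm).mul_mul_mul_comm] at h1
    have h3 : ((a' * b' * a'⁻¹ * b'⁻¹ : L) : G) = y' * y * (y * y')⁻¹ := by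
      have hcm : Commute ((a' : G)⁻¹ * (b' : G)⁻¹) (y' * y * (y * y')⁻¹) :=
        hc _ (mul_mem (inv_mem a'.2) (inv_mem b'.2)) _ (mul_mem (mul_mem hy' hy) (inv_mem (mul_mem hy hy')))
      push_cast
      calc (a' : G) * b' * (a' : G)⁻¹ * (b' : G)⁻¹
          = ((a' : G) * b' * (y * y')) * (y * y')⁻¹ * ((a' : G)⁻¹ * (b' : G)⁻¹) := by group
        _ = (b' : G) * a' * ((y' * y * (y * y')⁻¹) * ((a' : G)⁻¹ * (b' : G)⁻¹)) := by rw [h1]; group
        _ = y' * y * (y * y')⁻¹ := by rw [← hcm.eq]; group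
    have h4 : ((a' * b' * a'⁻¹ * b'⁻¹ : L) : G) ∈ N := by
      rw [h3]; exact mul_mem (mul_mem hy' hy) (inv_mem (mul_mem hy hy'))
    have h5 := hzc _ (SetLike.coe_mem _) h4
    have h6 : e (a' * b' * a'⁻¹ * b'⁻¹) = a * b * a⁻¹ * b⁻¹ := by simp [a', b']
    rwa [← h6]
  · refine (Subgroup.eq_top_iff' _).2 fun x => ?_
    obtain ⟨p, hp, q, hq, hpq⟩ := UniqueInvol.mem_sup_commute hKK (hgen (e.symm x).2)
    obtain ⟨p1, hp1, p2, hp2, rfl⟩ := UniqueInvol.mem_sup_commute hc (hle hp)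
    obtain ⟨q1, hq1, q2, hq2, rfl⟩ := UniqueInvol.mem_sup_commute hc (hle' hq)
    have h1 : e ⟨p1, hp1⟩ ∈ proj K := (hmem K _).2 ⟨p2, hp2, by rw [e.symm_apply_apply]; exact hp⟩
    have h3 : e ⟨q1, hq1⟩ ∈ proj K' := (hmem K' _).2 ⟨q2, hq2, by rw [e.symm_apply_apply]; exact hq⟩
    rw [(show Commute p2 q1 from (hc _ hq1 _ hp2).symm).mul_mul_mul_comm] at hpq
    have hr : (p1 * q1)⁻¹ * ((e.symm x : L) : G) = p2 * q2 := by rw [← hpq, inv_mul_cancel_left]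
    have hrL : p2 * q2 ∈ L := hr ▸ mul_mem (inv_mem (mul_mem hp1 hq1)) (SetLike.coe_mem _)
    have h5 := hzc _ hrL (mul_mem hp2 hq2)
    have hx : x = e ⟨p1, hp1⟩ * e ⟨q1, hq1⟩ * e ⟨p2 * q2, hrL⟩ := by
      rw [← map_mul, ← map_mul, ← e.symm_apply_eq]
      exact Subtype.ext hpq.symm
    rw [hx]
    exact mul_mem (mul_mem (Subgroup.mem_sup_left h1) (Subgroup.mem_sup_right h3))
      (Subgroup.mem_sup_left (hcen K hjK h5))

/-- Let G be a finite group with subgroups L₁ ≅ SL₂(q₁) and L₂ ≅ SL₂(q₂), q₁ and q₂ odd prime powers, which commute elementwise and meet in ⟨j⟩ for an involution j, and suppose L₁L₂ has index 2 in C_G(j). Then every element n of C_G(j) outside L₁L₂ either normalizes both L₁ and L₂, or conjugates L₁ onto L₂; in the second case q₁ = q₂ and there is an element n′ of C_G(j) outside L₁L₂ conjugating L₁ onto L₂ with n′² ∈ ⟨j⟩. -/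
theorem result {G : Type*} [Group G] [Finite G]
    {F₁ : Type*} [Field F₁] [Fintype F₁] {F₂ : Type*} [Field F₂] [Fintype F₂]
    (hF₁ : Odd (Fintype.card F₁)) (hF₂ : Odd (Fintype.card F₂)) (L₁ L₂ : Subgroup G)
    (e₁ : ↥L₁ ≃* Matrix.SpecialLinearGroup (Fin 2) F₁) (e₂ : ↥L₂ ≃* Matrix.SpecialLinearGroup (Fin 2) F₂)
    (hc : ∀ x ∈ L₁, ∀ y ∈ L₂, x * y = y * x) (j : G) (hj : orderOf j = 2) (hm : L₁ ⊓ L₂ = Subgroup.zpowers j)
    (hle : L₁ ⊔ L₂ ≤ Subgroup.centralizer ({j} : Set G)) (hi : (L₁ ⊔ L₂).relIndex (Subgroup.centralizer ({j} : Set G)) = 2) (n : G) (hn : n ∈ Subgroup.centralizer ({j} : Set G)) (hn' : n ∉ L₁ ⊔ L₂) :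
    (L₁.map (MulAut.conj n).toMonoidHom = L₁ ∧ L₂.map (MulAut.conj n).toMonoidHom = L₂) ∨
      (L₁.map (MulAut.conj n).toMonoidHom = L₂ ∧ Fintype.card F₁ = Fintype.card F₂ ∧
        ∃ n' ∈ Subgroup.centralizer ({j} : Set G), n' ∉ L₁ ⊔ L₂ ∧ L₁.map (MulAut.conj n').toMonoidHom = L₂ ∧ n' ^ 2 ∈ Subgroup.zpowers j) := by
  classical
  set M := L₁ ⊔ L₂ with hMdef
  set C := Subgroup.centralizer ({j} : Set G) with hC
  have hjm : j ∈ L₁ ⊓ L₂ := hm ▸ Subgroup.mem_zpowers j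
  haveI hMn : (M.subgroupOf C).Normal := Subgroup.normal_of_index_eq_two hi
  have hMconj : ∀ g ∈ C, ∀ x ∈ M, g * x * g⁻¹ ∈ M := fun g hg x hx =>
    hMn.conj_mem ⟨x, hle hx⟩ hx ⟨g, hg⟩
  have hnj : n * j * n⁻¹ = j := by
    rw [Subgroup.mem_centralizer_singleton_iff.1 hn, mul_inv_cancel_right]
  set K₁ := L₁.map (MulAut.conj n).toMonoidHom with hK1
  set K₂ := L₂.map (MulAut.conj n).toMonoidHom with hK2
  have hK1M : K₁ ≤ M := by
    rintro _ ⟨x, hx, rfl⟩; exact hMconj n hn x (Subgroup.mem_sup_left hx)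
  have hK2M : K₂ ≤ M := by
    rintro _ ⟨x, hx, rfl⟩; exact hMconj n hn x (Subgroup.mem_sup_right hx)
  have hMK : M ≤ K₁ ⊔ K₂ := by
    intro x hx
    rw [hK1, hK2, ← Subgroup.map_sup]
    refine ⟨n⁻¹ * x * n, ?_, by simp [mul_assoc]⟩
    simpa using hMconj n⁻¹ (inv_mem hn) x hx
  have hKK : ∀ x ∈ K₁, ∀ y ∈ K₂, x * y = y * x := by
    rintro _ ⟨x, hx, rfl⟩ _ ⟨y, hy, rfl⟩
    rw [← map_mul, ← map_mul, hc x hx y hy]
  have hj1 : j ∈ K₁ := ⟨j, hjm.1, by simpa using hnj⟩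
  have hj2 : j ∈ K₂ := ⟨j, hjm.2, by simpa using hnj⟩
  have hs1 := split hF₁ L₁ L₂ K₁ K₂ e₁ hc hKK hj hm hj1 hj2 hK1M hK2M (le_sup_left.trans hMK)
  have hs2 := split hF₂ L₂ L₁ K₁ K₂ e₂ (fun x hx y hy => (hc y hy x hx).symm) hKK hj
    (by rw [inf_comm]; exact hm) hj1 hj2 (by rw [sup_comm]; exact hK1M) (by rw [sup_comm]; exact hK2M)
    (le_sup_right.trans hMK)
  have hF1 : (2 : F₁) ≠ 0 := SL2BorelTorus.two_ne_zero_of_odd_card hF₁
  have hne : ¬ L₁ ≤ L₂ := by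
    intro h
    obtain ⟨-, -, a, ha, haa, ha1, haj, -⟩ := UniqueInvol.sl2_sub hF₁ L₁ e₁ hj hjm.1
    obtain ⟨k, hk⟩ := Subgroup.mem_zpowers_iff.1 (hm ▸ (Subgroup.mem_inf.2 ⟨ha, h ha⟩) : a ∈ Subgroup.zpowers j)
    have hjj : j * j = 1 := by rw [← pow_two, ← hj, pow_orderOf_eq_one]
    rcases Int.even_or_odd k with ⟨m, rfl⟩ | ⟨m, rfl⟩
    · exact ha1 (by rw [← hk, zpow_add, ← (Commute.refl j).mul_zpow, hjj, one_zpow])
    · exact haj (by rw [← hk, zpow_add, zpow_mul, zpow_two, hjj, one_zpow, one_mul, zpow_one])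
  have hne' : ¬ L₂ ≤ L₁ := by
    intro h
    obtain ⟨-, -, a, ha, haa, ha1, haj, -⟩ := UniqueInvol.sl2_sub hF₂ L₂ e₂ hj hjm.2
    obtain ⟨k, hk⟩ := Subgroup.mem_zpowers_iff.1 (hm ▸ (Subgroup.mem_inf.2 ⟨h ha, ha⟩) : a ∈ Subgroup.zpowers j)
    have hjj : j * j = 1 := by rw [← pow_two, ← hj, pow_orderOf_eq_one]
    rcases Int.even_or_odd k with ⟨m, rfl⟩ | ⟨m, rfl⟩
    · exact ha1 (by rw [← hk, zpow_add, ← (Commute.refl j).mul_zpow, hjj, one_zpow])
    · exact haj (by rw [← hk, zpow_add, zpow_mul, zpow_two, hjj, one_zpow, one_mul, zpow_one])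
  have hcont : ∀ {A B : Subgroup G}, K₁ ≤ A → K₂ ≤ B → (∀ x ∈ A, ∀ y ∈ B, x * y = y * x) →
      A ⊔ B ≤ M → A ⊓ B ≤ K₁ ⊓ K₂ → A ≤ K₁ ∧ B ≤ K₂ := by
    intro A B hA hB hAB hABM hinf
    constructor
    · intro a ha
      obtain ⟨p, hp, q, hq, rfl⟩ := UniqueInvol.mem_sup_commute hKK (hMK (hABM (Subgroup.mem_sup_left ha)))
      have hqA : q ∈ A := by
        have := A.mul_mem (A.inv_mem (hA hp)) ha
        rwa [inv_mul_cancel_left] at this
      exact mul_mem hp (hinf (Subgroup.mem_inf.2 ⟨hqA, hB hq⟩)).1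
    · intro b hb
      obtain ⟨p, hp, q, hq, rfl⟩ := UniqueInvol.mem_sup_commute hKK (hMK (hABM (Subgroup.mem_sup_right hb)))
      have hpB : p ∈ B := by
        have := B.mul_mem hb (B.inv_mem (hB hq))
        rwa [mul_inv_cancel_right] at this
      exact mul_mem (hinf (Subgroup.mem_inf.2 ⟨hA hp, hpB⟩)).2 hq
  have hjle : L₁ ⊓ L₂ ≤ K₁ ⊓ K₂ := by
    rw [hm, Subgroup.zpowers_le]; exact ⟨hj1, hj2⟩
  rcases hs1 with h1 | h1
  · -- swap
    have h2 : K₂ ≤ L₁ := by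
      refine hs2.resolve_left fun h => hne' ?_
      intro y hy
      have hy' : n * y * n⁻¹ ∈ K₂ := ⟨y, hy, by simp⟩
      have hbad : K₁ ≤ L₁ ⊓ L₂ := le_inf h h1
      exfalso
      apply hne
      intro x hx
      have hx' : n * x * n⁻¹ ∈ L₁ ⊓ L₂ := hbad ⟨x, hx, by simp⟩
      rw [hm] at hx'
      obtain ⟨k, hk⟩ := Subgroup.mem_zpowers_iff.1 hx'
      have hxe : x = j ^ k := by
        apply mul_left_cancel (a := n); apply mul_right_cancel (b := n⁻¹)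
        rw [← hk, ← conj_zpow, hnj]
      rw [hxe]; exact L₂.zpow_mem (Subgroup.mem_inf.1 hjm).2 k
    obtain ⟨h1', -⟩ := hcont (A := L₂) (B := L₁) h1 h2 (fun x hx y hy => (hc y hy x hx).symm)
      (by rw [hMdef, sup_comm]) (by rw [inf_comm]; exact hjle)
    have hK : K₁ = L₂ := le_antisymm h1 h1'
    refine Or.inr ⟨hK, ?_, ?_⟩
    · have hcard : Nat.card L₁ = Nat.card L₂ := by
        rw [← hK, hK1, Subgroup.card_map_of_injective (MulAut.conj n).injective]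
      rw [Nat.card_congr e₁.toEquiv, Nat.card_congr e₂.toEquiv] at hcard
      rw [SL2Inv.card_sl2, SL2Inv.card_sl2, Nat.card_eq_fintype_card, Nat.card_eq_fintype_card] at hcard
      have key : ∀ a b : ℕ, a < b → 2 ≤ a → a * (a - 1) * (a + 1) ≠ b * (b - 1) * (b + 1) := by
        intro a b hab ha
        refine Nat.ne_of_lt ?_
        exact Nat.mul_lt_mul_of_lt_of_le (Nat.mul_lt_mul_of_lt_of_le hab (Nat.sub_le_sub_right hab.le 1)
          (by omega)) (by omega) (by omega)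
      rcases lt_trichotomy (Fintype.card F₁) (Fintype.card F₂) with h | h | h
      · exact absurd hcard (key _ _ h Fintype.one_lt_card)
      · exact h
      · exact absurd hcard.symm (key _ _ h Fintype.one_lt_card)
    · have hn2 : n * n ∈ M := by
        have := (Subgroup.mul_mem_iff_of_index_two hi (a := (⟨n, hn⟩ : C)) (b := ⟨n, hn⟩)).2 Iff.rfl
        exact this
      obtain ⟨l₁, hl1, l₂, hl2, hl⟩ := UniqueInvol.mem_sup_commute hc hn2
      refine ⟨n * l₁⁻¹, mul_mem hn (inv_mem (hle (Subgroup.mem_sup_left hl1))), fun h => hn' ?_, ?_, ?_⟩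
      · have := mul_mem h (Subgroup.mem_sup_left hl1 : l₁ ∈ M)
        simpa using this
      · have hfix : L₁.map (MulAut.conj l₁⁻¹).toMonoidHom = L₁ := by
          ext x
          constructor
          · rintro ⟨y, hy, rfl⟩; exact mul_mem (mul_mem (inv_mem hl1) hy) (inv_mem (inv_mem hl1))
          · intro hx
            exact ⟨l₁ * x * l₁⁻¹, mul_mem (mul_mem hl1 hx) (inv_mem hl1), by simp [mul_assoc]⟩
        calc L₁.map (MulAut.conj (n * l₁⁻¹)).toMonoidHom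
            = (L₁.map (MulAut.conj l₁⁻¹).toMonoidHom).map (MulAut.conj n).toMonoidHom := by
              rw [Subgroup.map_map]; congr 1; ext x; simp [mul_assoc]
          _ = L₂ := by rw [hfix]; exact hK
      · -- the square
        have hc1 : n * l₁ * n⁻¹ ∈ L₂ := hK ▸ ⟨l₁, hl1, by simp⟩
        have hc2 : n * l₂ * n⁻¹ ∈ L₁ := h2 ⟨l₂, hl2, by simp⟩
        have hcn : n * l₁ * n⁻¹ * (n * l₂ * n⁻¹) = l₁ * l₂ := by
          rw [show n * l₁ * n⁻¹ * (n * l₂ * n⁻¹) = n * (l₁ * l₂) * n⁻¹ by group, hl]; group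
        have hsq : (n * l₁⁻¹) ^ 2 = n * l₁⁻¹ * n⁻¹ * l₂ := by
          have hy : Commute (n * l₁⁻¹ * n⁻¹) l₁ := by
            refine (hc l₁ hl1 _ ?_).symm
            have := inv_mem hc1
            simpa [mul_assoc] using this
          calc (n * l₁⁻¹) ^ 2 = n * l₁⁻¹ * n⁻¹ * (n * n) * l₁⁻¹ := by rw [pow_two]; group
            _ = n * l₁⁻¹ * n⁻¹ * (l₁ * l₂) * l₁⁻¹ := by rw [hl]
            _ = n * l₁⁻¹ * n⁻¹ * l₂ := by rw [hc l₁ hl1 l₂ hl2]; group
        rw [hsq, ← hm]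
        refine Subgroup.mem_inf.2 ⟨?_, L₂.mul_mem ?_ hl2⟩
        · have hcom : Commute (n * l₁ * n⁻¹) (n * l₂ * n⁻¹) := (hc _ hc2 _ hc1).symm
          have e : n * l₁⁻¹ * n⁻¹ * l₂ = n * l₂ * n⁻¹ * l₁⁻¹ := by
            have h' : n * l₂ * n⁻¹ = n * l₁⁻¹ * n⁻¹ * (l₁ * l₂) := by
              rw [← hcn]; group
            rw [h', hc l₁ hl1 l₂ hl2]; group
          rw [e]
          exact mul_mem hc2 (inv_mem hl1)
        · have := inv_mem hc1
          simpa [mul_assoc] using this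
  · -- fixed
    have h2 : K₁ ≤ L₁ := by
      refine hs2.resolve_right fun h => hne' ?_
      intro y hy
      have hy' : n * y * n⁻¹ ∈ L₁ ⊓ L₂ := Subgroup.mem_inf.2 ⟨h ⟨y, hy, by simp⟩, h1 ⟨y, hy, by simp⟩⟩
      rw [hm] at hy'
      obtain ⟨k, hk⟩ := Subgroup.mem_zpowers_iff.1 hy'
      have hye : y = j ^ k := by
        apply mul_left_cancel (a := n); apply mul_right_cancel (b := n⁻¹)
        rw [← hk, ← conj_zpow, hnj]
      rw [hye]; exact L₁.zpow_mem (Subgroup.mem_inf.1 hjm).1 k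
    obtain ⟨h3, h4⟩ := hcont h2 h1 hc le_rfl hjle
    exact Or.inl ⟨le_antisymm h2 h3, le_antisymm h1 h4⟩

end Cfsg.Agent.S3210
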