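import Cfsg.Statements.S3211
import Cfsg.Agent.Lib.SwapSL.Isolated
import Cfsg.Agent.Lib.Involutions.Isolated
import Cfsg.Agent.Lib.BrauerSuzuki.ZStar
-- import your own Cfsg.Agent.* helpers here

set_option autoImplicit false
open Cfsg

namespace Cfsg.Agent.S3211

/-- Let G be a finite group with subgroups L₁ ≅ SL₂(q₁) and L₂ ≅ SL₂(q₂), q₁ and q₂ odd prime powers, which commute elementwise and meet in ⟨j⟩ for an involution j, and suppose L₁L₂ has index 2 in C_G(j). If some n ∈ C_G(j) with n² = j interchanges L₁ and L₂ under conjugation (so that C_G(j) = L₁L₂⟨n⟩), then G = C_G(j)O(G). -/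
theorem result {G : Type*} [Group G] [Finite G]
    {F₁ : Type*} [Field F₁] [Fintype F₁] {F₂ : Type*} [Field F₂] [Fintype F₂]
    (hF₁ : Odd (Fintype.card F₁)) (hF₂ : Odd (Fintype.card F₂)) (L₁ L₂ : Subgroup G)
    (e₁ : ↥L₁ ≃* Matrix.SpecialLinearGroup (Fin 2) F₁) (e₂ : ↥L₂ ≃* Matrix.SpecialLinearGroup (Fin 2) F₂)
    (hc : ∀ x ∈ L₁, ∀ y ∈ L₂, x * y = y * x) (j : G) (hj : orderOf j = 2) (hm : L₁ ⊓ L₂ = Subgroup.zpowers j)
    (hle : L₁ ⊔ L₂ ≤ Subgroup.centralizer ({j} : Set G)) (hi : (L₁ ⊔ L₂).relIndex (Subgroup.centralizer ({j} : Set G)) = 2) (n : G) (hn : n ∈ Subgroup.centralizer ({j} : Set G))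
    (hn2 : n ^ 2 = j) (hswap : L₁.map (MulAut.conj n).toMonoidHom = L₂) :
    Subgroup.centralizer ({j} : Set G) ⊔ Cfsg.oddCore G = ⊤ := by
  have hF1 : (2 : F₁) ≠ 0 := fun h => by
    have hc : ringChar F₁ = 2 := by
      by_contra hne
      exact (Ring.two_ne_zero hne) h
    have := FiniteField.even_card_of_char_two hc
    rw [Nat.odd_iff] at hF₁
    omega
  set ι := e₁.symm with hι
  have hj2 : j * j = 1 := by rw [← pow_two, ← hj]; exact pow_orderOf_eq_one j
  have hjne : j ≠ 1 := fun h => by rw [h, orderOf_one] at hj; omega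
  have hjm : j ∈ L₁ ⊓ L₂ := hm.symm ▸ Subgroup.mem_zpowers j
  have hje : e₁ ⟨j, (Subgroup.mem_inf.1 hjm).1⟩ = SL2Inv.negOne := by
    refine (SL2Inv.eq_or_eq_negOne_of_mul_self hF1 ?_).resolve_left fun h => hjne ?_
    · rw [← map_mul]; exact map_eq_one_iff e₁ e₁.injective |>.2 (Subtype.ext hj2)
    · exact congrArg Subtype.val ((map_eq_one_iff e₁ e₁.injective).1 h)
  have hfacts := SwapSL.sl_facts hF1
  have hto : ∀ x (hx : x ∈ L₁), x * x = j → e₁ ⟨x, hx⟩ * e₁ ⟨x, hx⟩ = SL2Inv.negOne := fun x hx h => by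
    rw [← hje, ← map_mul]; exact congrArg e₁ (Subtype.ext h)
  have hnj : n * j = j * n := (Subgroup.mem_centralizer_singleton_iff.1 hn)
  have hsw : ∀ x ∈ L₁, n * x * n⁻¹ ∈ L₂ := fun x hx => hswap ▸ ⟨x, hx, by simp⟩
  have hnn : n * n = j := by rw [← hn2, pow_two]
  have hsw' : ∀ y ∈ L₂, n * y * n⁻¹ ∈ L₁ := fun y hy => by
    rw [← hswap] at hy
    obtain ⟨x, hx, rfl⟩ := hy
    have hxj : x * j = j * x :=
      Subgroup.mem_centralizer_singleton_iff.1 (hle (Subgroup.mem_sup_left hx))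
    have : n * ((MulAut.conj n).toMonoidHom x) * n⁻¹ = x := by
      show n * (n * x * n⁻¹) * n⁻¹ = x
      rw [show n * (n * x * n⁻¹) * n⁻¹ = (n * n) * x * (n * n)⁻¹ by group, hnn, ← hxj, mul_inv_cancel_right]
    rw [this]; exact hx
  have hinter : ∀ x, x ∈ L₁ → x ∈ L₂ → x = 1 ∨ x = j := fun x h1 h2 => by
    have hx : x ∈ Subgroup.zpowers j := hm ▸ Subgroup.mem_inf.2 ⟨h1, h2⟩
    obtain ⟨k, rfl⟩ := Subgroup.mem_zpowers_iff.1 hx
    rcases Int.even_or_odd k with ⟨i, rfl⟩ | ⟨i, rfl⟩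
    · left; rw [← two_mul, zpow_mul, zpow_two, hj2, one_zpow]
    · right; rw [zpow_add, zpow_mul, zpow_two, hj2, one_zpow, one_mul, zpow_one]
  have hnnot : n ∉ L₁ ⊔ L₂ := by
    intro h
    obtain ⟨x₁, h₁, x₂, h₂, rfl⟩ := SwapSL.mem_sup hc h
    have hsame : ∀ x ∈ L₁, x₁ * x₂ * x * (x₁ * x₂)⁻¹ ∈ L₁ := fun x hx => by
      have e : x₂ * x = x * x₂ := (hc x hx x₂ h₂).symm
      rw [show x₁ * x₂ * x * (x₁ * x₂)⁻¹ = x₁ * (x₂ * x) * x₂⁻¹ * x₁⁻¹ by group, e,
        show x₁ * (x * x₂) * x₂⁻¹ * x₁⁻¹ = x₁ * x * x₁⁻¹ by group]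
      exact mul_mem (mul_mem h₁ hx) (inv_mem h₁)
    -- then the first factor would have order at most two
    obtain ⟨a, ha⟩ : ∃ a : L₁, a * a = ⟨j, (Subgroup.mem_inf.1 hjm).1⟩ :=
      ⟨ι SL2Inv.w, by rw [hι, ← map_mul, SL2Inv.w_mul_self, ← hje, MulEquiv.symm_apply_apply]⟩
    have ha' : (a : G) * a = j := congrArg Subtype.val ha
    rcases hinter _ (hsame a a.2) (hsw a a.2) with e | e
    · have : (a : G) = 1 := by
        have h' : (a : G) = (x₁ * x₂)⁻¹ * (x₁ * x₂ * a * (x₁ * x₂)⁻¹) * (x₁ * x₂) := by group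
        rw [h', e]; group
      rw [this, one_mul] at ha'
      exact hjne ha'.symm
    · have : (a : G) = j := by
        have h' : (a : G) = (x₁ * x₂)⁻¹ * (x₁ * x₂ * a * (x₁ * x₂)⁻¹) * (x₁ * x₂) := by group
        rw [h', e, mul_assoc, ← hnj]; group
      rw [this, hj2] at ha'
      exact hjne ha'.symm
  have hcentral : ∀ y, y * j = j * y ↔ y ∈ L₁ ⊔ L₂ ∨ y * n⁻¹ ∈ L₁ ⊔ L₂ := by
    intro y
    constructor
    · intro hy
      set C := Subgroup.centralizer ({j} : Set G)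
      have hyC : y ∈ C := Subgroup.mem_centralizer_singleton_iff.2 hy
      have h2 : ((L₁ ⊔ L₂).subgroupOf C).index = 2 := hi
      by_cases hyL : y ∈ L₁ ⊔ L₂
      · exact Or.inl hyL
      · right
        have := (Subgroup.mul_mem_iff_of_index_two h2 (a := ⟨y, hyC⟩) (b := ⟨n⁻¹, inv_mem hn⟩)).2
          (iff_of_false (by simpa [Subgroup.mem_subgroupOf] using hyL)
            (by simpa [Subgroup.mem_subgroupOf] using hnnot))
        simpa [Subgroup.mem_subgroupOf] using this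
    · rintro (h | h)
      · exact Subgroup.mem_centralizer_singleton_iff.1 (hle h)
      · have h1 := Subgroup.mem_centralizer_singleton_iff.1 (hle h)
        calc y * j = y * n⁻¹ * (n * j) := by group
          _ = y * n⁻¹ * j * n := by rw [hnj]; group
          _ = j * y := by rw [h1]; group
  have D : SwapSL.Conf L₁ L₂ j n :=
    { hc := hc
      jne := hjne
      jsq := hj2
      jL₁ := (Subgroup.mem_inf.1 hjm).1
      inter := hinter
      sqrt₁ := fun x hx h => by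
        rcases SL2Inv.eq_or_eq_negOne_of_mul_self hF1 (g := e₁ ⟨x, hx⟩)
          (by rw [← map_mul]; exact map_eq_one_iff e₁ e₁.injective |>.2 (Subtype.ext h)) with e | e
        · exact Or.inl (congrArg Subtype.val ((map_eq_one_iff e₁ e₁.injective).1 e))
        · exact Or.inr (congrArg Subtype.val (e₁.injective (e.trans hje.symm)))
      conj₁ := fun x hx y hy h1 h2 => by
        obtain ⟨h, hh⟩ := hfacts.1 _ _ (hto x hx h1) (hto y hy h2)
        refine ⟨ι h, (ι h).2, ?_⟩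
        have := congrArg ι hh
        simp only [hι, map_mul, map_inv, MulEquiv.symm_apply_apply] at this
        exact congrArg Subtype.val this
      anti₁ := fun x hx y hy h1 h2 => by
        have := hfacts.2 (e₁ ⟨x, hx⟩) (e₁ ⟨y, hy⟩) (hto x hx h1) (by
          rw [← hje, ← map_inv, ← map_mul, ← map_mul, ← map_mul]; exact congrArg e₁ (Subtype.ext h2))
        rw [← hje, ← map_mul] at this
        exact congrArg Subtype.val (e₁.injective this)
      root₁ := ⟨(ι SL2Inv.w : L₁), (ι SL2Inv.w).2, by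
        rw [← Subgroup.coe_mul, hι, ← map_mul, SL2Inv.w_mul_self, ← hje, MulEquiv.symm_apply_apply]⟩
      central := hcentral
      nsq := hnn
      nnot := hnnot
      swap := hsw
      swap' := hsw' }
  have hz : Cfsg.IsIsolatedInvolution j := ⟨hj, D.isolated⟩
  rw [eq_top_iff]
  intro g _
  obtain ⟨k, ⟨hkodd, hk⟩, hgk⟩ := Invol.iso_decomp hz g
  have hkO : k ∈ Cfsg.oddCore G := by
    have hN := BrauerSuzuki.zStar G j hj D.isolated k
    have h2 : k ^ 2 ∈ Cfsg.oddCore G := by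
      have : k * j * k⁻¹ * j⁻¹ = k ^ 2 := by
        rw [show k * j * k⁻¹ * j⁻¹ = k * (j * k * j⁻¹)⁻¹ by group, hk, inv_inv, pow_two]
      rw [← this]; exact hN
    obtain ⟨m, hm⟩ := hkodd
    have : k = (k ^ 2) ^ (m + 1) := by
      rw [← pow_mul, show 2 * (m + 1) = orderOf k + 1 by omega, pow_succ, pow_orderOf_eq_one, one_mul]
    rw [this]; exact pow_mem h2 _
  rw [show g = k * (g⁻¹ * k)⁻¹ by group]
  exact mul_mem (Subgroup.mem_sup_right hkO) (Subgroup.mem_sup_left (inv_mem hgk))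

end Cfsg.Agent.S3211
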