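import Cfsg.Statements.S3213
import Cfsg.Agent.Lib.Classical.SL2Involutions
import Cfsg.Agent.Lib.Classical.SL2BorelTorus
import Mathlib.Algebra.CharP.CharAndCard

set_option autoImplicit false
open Cfsg

namespace Cfsg.Agent.S3213

open Matrix Module

section SLFive

variable {K : Type*} [Field K] [Fintype K]

local notation "S" => Matrix.SpecialLinearGroup (Fin 2) K

theorem charP_five (hK : Fintype.card K = 5) : CharP K 5 := by
  haveI : Fact (Nat.Prime 5) := ⟨Nat.prime_five⟩
  exact charP_of_card_eq_prime_pow (f := 1) (by simpa using hK)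

theorem card_sl (hK : Fintype.card K = 5) : Nat.card S = 120 := by
  rw [SL2Inv.card_sl2, Nat.card_eq_fintype_card, hK]

/-- Some conjugate of an element of order three does not commute with it. -/
theorem exists_noncomm (hK : Fintype.card K = 5) (x : S) (hx : orderOf x = 3) :
    ∃ g : S, x * (g * x * g⁻¹) ≠ g * x * g⁻¹ * x := by
  classical
  haveI := charP_five hK
  haveI : Fact (Nat.Prime 3) := ⟨Nat.prime_three⟩
  by_contra! hall
  have hpow : ∀ g : S, g * x * g⁻¹ ∈ Subgroup.zpowers x := by
    intro g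
    by_contra hg
    set y := g * x * g⁻¹ with hy
    have hy3 : orderOf y = 3 := by rw [hy, ← hx]; exact MulEquiv.orderOf_eq (MulAut.conj g) x
    have hsup : IsPGroup 3 ↥(Subgroup.zpowers x ⊔ Subgroup.zpowers y) := by
      refine IsPGroup.to_sup_of_normal_right' (IsPGroup.of_card (n := 1) ?_) (IsPGroup.of_card (n := 1) ?_) ?_
      · rw [Nat.card_zpowers, hx, pow_one]
      · rw [Nat.card_zpowers, hy3, pow_one]
      · rw [Subgroup.zpowers_le, Subgroup.mem_normalizer_iff]
        intro z
        constructor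
        · rintro ⟨k, rfl⟩
          refine ⟨k, ?_⟩
          show y ^ k = x * y ^ k * x⁻¹
          rw [(show Commute x y from hall g).zpow_right k, mul_inv_cancel_right]
        · rintro ⟨k, hk⟩
          refine ⟨k, ?_⟩
          show y ^ k = z
          replace hk : y ^ k = x * z * x⁻¹ := hk
          have e := (show Commute x y from hall g).zpow_right k
          calc y ^ k = x⁻¹ * (x * y ^ k) := by group
            _ = x⁻¹ * (y ^ k * x) := by rw [e.eq]
            _ = z := by rw [hk]; group
    obtain ⟨k, hk⟩ := IsPGroup.iff_card.1 hsup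
    have hlt : 3 < 3 ^ k := by
      rw [← hk]
      have h1 : Subgroup.zpowers x < Subgroup.zpowers x ⊔ Subgroup.zpowers y :=
        lt_of_le_of_ne le_sup_left fun e => hg (e ▸ Subgroup.mem_sup_right (Subgroup.mem_zpowers y))
      refine lt_of_le_of_ne ?_ fun e => h1.ne (Subgroup.eq_of_le_of_card_ge h1.le ?_)
      · calc 3 = Nat.card (Subgroup.zpowers x) := by rw [Nat.card_zpowers, hx]
          _ ≤ _ := Nat.le_of_dvd Nat.card_pos (Subgroup.card_dvd_of_le h1.le)
      · rw [Nat.card_zpowers, hx, ← e]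
    have h120 : 3 ^ k ∣ 120 := by
      rw [← hk, ← card_sl hK]
      exact Subgroup.card_subgroup_dvd_card _
    have h9 : 3 ^ 2 ∣ 3 ^ k := pow_dvd_pow 3 (by
      by_contra h
      interval_cases k <;> norm_num at hlt)
    have := h9.trans h120
    norm_num at this
  have hfix : ∀ g : S, g ^ 5 = 1 → g * x = x * g := by
    intro g hg
    obtain ⟨k, hk⟩ := hpow g
    have hxk : (x : S) ^ k = g * x * g⁻¹ := hk
    have hmod : x ^ k = x ^ (k % 3) := by
      conv_lhs => rw [← Int.emod_add_mul_ediv k 3]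
      rw [_root_.zpow_add, _root_.zpow_mul, show x ^ (3 : ℤ) = 1 by
        rw [show (3 : ℤ) = ((3 : ℕ) : ℤ) from rfl, zpow_natCast, ← hx, pow_orderOf_eq_one], _root_.one_zpow, mul_one]
    have hx1 : x ≠ 1 := fun e => by rw [e, orderOf_one] at hx; omega
    have h2 : g ^ 2 * x * (g ^ 2)⁻¹ = x := by
      have e : g ^ 2 * x * (g ^ 2)⁻¹ = x ^ (k % 3) ^ 2 := by
        rw [pow_two, show g * g * x * (g * g)⁻¹ = g * (g * x * g⁻¹) * g⁻¹ by group, ← hxk, hmod,
          show g * x ^ (k % 3) * g⁻¹ = (g * x * g⁻¹) ^ (k % 3) from (conj_zpow).symm, ← hxk, hmod,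
          ← _root_.zpow_mul, pow_two (k % 3)]
      rw [e]
      have h0 : k % 3 ≠ 0 := fun h0 => by
        rw [hmod, h0, zpow_zero] at hxk
        exact hx1 (by simpa using (conj_eq_one_iff).1 hxk.symm)
      have hlt := Int.emod_lt_of_pos k (show (0 : ℤ) < 3 by norm_num)
      have hge := Int.emod_nonneg k (show (3 : ℤ) ≠ 0 by norm_num)
      rcases (show k % 3 = 1 ∨ k % 3 = 2 by omega) with h | h <;> rw [h]
      · simp
      · rw [show ((2 : ℤ) ^ 2) = 3 + 1 by norm_num, _root_.zpow_add, zpow_one, show x ^ (3 : ℤ) = 1 by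
          rw [show (3 : ℤ) = ((3 : ℕ) : ℤ) from rfl, zpow_natCast, ← hx, pow_orderOf_eq_one], one_mul]
    have h2' : Commute (g ^ 2) x := mul_inv_eq_iff_eq_mul.1 h2
    have h6 := h2'.pow_left 3
    rw [← pow_mul, show 2 * 3 = 5 + 1 by norm_num, pow_succ, hg, one_mul] at h6
    exact h6.eq
  have h5 : (5 : K) = 0 := by exact_mod_cast CharP.cast_eq_zero K 5
  let u : S := ⟨!![1, 1; 0, 1], by simp [det_fin_two]⟩
  let l : S := ⟨!![1, 0; 1, 1], by simp [det_fin_two]⟩
  have hu : u * x = x * u := hfix u (Subtype.ext (by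
    show ((!![1, 1; 0, 1] : Matrix (Fin 2) (Fin 2) K)) ^ 5 = 1
    simp [pow_succ, Matrix.one_fin_two]
    linear_combination h5))
  have hl : l * x = x * l := hfix l (Subtype.ext (by
    show ((!![1, 0; 1, 1] : Matrix (Fin 2) (Fin 2) K)) ^ 5 = 1
    simp [pow_succ, Matrix.one_fin_two]
    linear_combination h5))
  have eu : (!![1, 1; 0, 1] : Matrix (Fin 2) (Fin 2) K) * x.1 = x.1 * !![1, 1; 0, 1] :=
    congrArg Subtype.val hu
  have el : (!![1, 0; 1, 1] : Matrix (Fin 2) (Fin 2) K) * x.1 = x.1 * !![1, 0; 1, 1] :=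
    congrArg Subtype.val hl
  have e1 := congrFun (congrFun eu 0) 0
  have e2 := congrFun (congrFun eu 0) 1
  have e3 := congrFun (congrFun el 0) 0
  simp [Matrix.mul_apply, Fin.sum_univ_two] at e1 e2 e3
  have hd := x.2
  rw [det_fin_two] at hd
  have hsq : x * x = 1 := Subtype.ext (by
    show x.1 * x.1 = 1
    ext i j
    fin_cases i <;> fin_cases j <;> simp [Matrix.mul_apply, Fin.sum_univ_two]
    all_goals grind)
  have := orderOf_dvd_of_pow_eq_one (x := x) (n := 2) (by rw [pow_two, hsq])
  rw [hx] at this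
  norm_num at this

theorem negOne_mem (hK : Fintype.card K = 5) (x y : S) (hx : orderOf x = 3) (hy : orderOf y = 3)
    (h : x * y ≠ y * x) : (SL2Inv.negOne : S) ∈ Subgroup.closure {x, y} := by
  classical
  haveI := charP_five hK
  haveI : Fact (Nat.Prime 3) := ⟨Nat.prime_three⟩
  haveI : Fact (Nat.Prime 2) := ⟨Nat.prime_two⟩
  have h2 : (2 : K) ≠ 0 := SL2BorelTorus.two_ne_zero_of_odd_card (by rw [hK]; decide)
  set H := Subgroup.closure {x, y}
  have hxH : x ∈ H := Subgroup.subset_closure (Set.mem_insert _ _)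
  have hyH : y ∈ H := Subgroup.subset_closure (Set.mem_insert_of_mem _ rfl)
  by_cases heven : 2 ∣ Nat.card H
  · obtain ⟨z, hz⟩ := exists_prime_orderOf_dvd_card' 2 heven
    have hzz : (z : S) * z = 1 := by
      have h := pow_orderOf_eq_one z
      rw [hz, pow_two] at h
      exact congrArg Subtype.val h
    rcases SL2Inv.eq_or_eq_negOne_of_mul_self h2 hzz with e | e
    · rw [← Subgroup.orderOf_coe, e, orderOf_one] at hz
      omega
    · exact e ▸ z.2
  exfalso
  have hdvd : Nat.card H ∣ 15 := by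
    have h1 : Nat.card H ∣ 2 ^ 3 * 15 := by
      rw [show 2 ^ 3 * 15 = 120 by norm_num, ← card_sl hK]
      exact Subgroup.card_subgroup_dvd_card H
    exact Nat.Coprime.dvd_of_dvd_mul_left
      (Nat.Coprime.pow_right _ ((Nat.prime_two.coprime_iff_not_dvd.2 heven).symm)) h1
  obtain ⟨P, hP⟩ := (IsPGroup.of_card (n := 1) (p := 3) (G := Subgroup.zpowers (⟨x, hxH⟩ : H))
    (by rw [Nat.card_zpowers, Subgroup.orderOf_mk, hx, pow_one])).exists_le_sylow
  have huniq : Subsingleton (Sylow 3 H) := by
    rw [← Finite.card_le_one_iff_subsingleton]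
    have h1 : Nat.card (Sylow 3 H) ∣ 15 :=
      (Sylow.card_dvd_index P).trans ((P : Subgroup H).index_dvd_card.trans hdvd)
    have h2 := card_sylow_modEq_one 3 H
    have h3 : Nat.card (Sylow 3 H) ≤ 15 := Nat.le_of_dvd (by norm_num) h1
    unfold Nat.ModEq at h2
    interval_cases Nat.card (Sylow 3 H) <;> simp_all
  obtain ⟨Q, hQ⟩ := (IsPGroup.of_card (n := 1) (p := 3) (G := Subgroup.zpowers (⟨y, hyH⟩ : H))
    (by rw [Nat.card_zpowers, Subgroup.orderOf_mk, hy, pow_one])).exists_le_sylow
  obtain ⟨j, hj⟩ := IsPGroup.iff_card.1 P.2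
  have hj1 : j ≤ 1 := by
    have h15 := (hj ▸ Subgroup.card_subgroup_dvd_card (P : Subgroup H)).trans hdvd
    by_contra hlt
    have := (pow_dvd_pow 3 (show 2 ≤ j by omega)).trans h15
    norm_num at this
  have hPeq : Subgroup.zpowers (⟨x, hxH⟩ : H) = (P : Subgroup H) := by
    refine Subgroup.eq_of_le_of_card_ge hP ?_
    rw [hj, Nat.card_zpowers, Subgroup.orderOf_mk, hx]
    calc 3 ^ j ≤ 3 ^ 1 := Nat.pow_le_pow_right (by norm_num) hj1
      _ = 3 := pow_one 3
  have hymem : (⟨y, hyH⟩ : H) ∈ Subgroup.zpowers (⟨x, hxH⟩ : H) := by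
    rw [hPeq, Subsingleton.elim P Q]
    exact hQ (Subgroup.mem_zpowers _)
  obtain ⟨k, hk⟩ := hymem
  have hk' : x ^ k = y := congrArg Subtype.val hk
  exact h (by rw [← hk']; exact (Commute.self_zpow x k).eq)

end SLFive

section Linear

variable {F : Type*} [Field F] [Fintype F]

/-- An automorphism of order dividing five of a space of dimension at most three over `F₃`. -/
theorem eq_id_of_five (hF : Fintype.card F = 3) {U : Type*} [AddCommGroup U] [Module F U]
    [FiniteDimensional F U] (hU : finrank F U ≤ 3) (f : Module.End F U) (hf : f ^ 5 = 1) : f = 1 := by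
  classical
  let b := Module.finBasis F U
  let e := LinearMap.toMatrixAlgEquiv b
  have hu : IsUnit (e f) := by
    refine IsUnit.of_pow_eq_one (n := 5) ?_ (by decide)
    rw [← map_pow, hf, map_one]
  have h5 : orderOf hu.unit ∣ 5 := orderOf_dvd_of_pow_eq_one (Units.ext (by
    rw [Units.val_pow_eq_pow_val, IsUnit.unit_spec, ← map_pow, hf, map_one, Units.val_one]))
  have hcard := orderOf_dvd_natCard hu.unit
  rw [Matrix.card_GL_field, hF] at hcard
  have h1 : orderOf hu.unit = 1 := by
    refine Nat.eq_one_of_dvd_coprimes ?_ h5 hcard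
    generalize finrank F U = k at hU
    interval_cases k <;> norm_num [Fin.prod_univ_succ]
  apply e.injective
  rw [map_one, ← IsUnit.unit_spec hu, orderOf_eq_one_iff.1 h1, Units.val_one]

end Linear

/-- Let F be the field with 3 elements and K the field with 5 elements. For every injective homomorphism φ from SL₂(K) into the symplectic group Sp₄(F) (4 × 4 matrices g with g J gᵀ = J for the standard alternating matrix J) and every element x of order 3 of SL₂(K), the vectors of F⁴ fixed by φ(x) form a 2-dimensional subspace that is totally isotropic for the alternating form defined by J. -/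
theorem result {F : Type*} [Field F] [Fintype F] (hF : Fintype.card F = 3)
    {K : Type*} [Field K] [Fintype K] (hK : Fintype.card K = 5)
    (φ : Matrix.SpecialLinearGroup (Fin 2) K →* ↥(Matrix.symplecticGroup (Fin 2) F)) (hφ : Function.Injective φ)
    (x : Matrix.SpecialLinearGroup (Fin 2) K) (hx : orderOf x = 3) :
    Module.finrank F ↥(LinearMap.ker (Matrix.toLin' ((φ x : Matrix (Fin 2 ⊕ Fin 2) (Fin 2 ⊕ Fin 2) F)) - LinearMap.id)) = 2 ∧
      ∀ v w : Fin 2 ⊕ Fin 2 → F, (φ x : Matrix (Fin 2 ⊕ Fin 2) (Fin 2 ⊕ Fin 2) F).mulVec v = v →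
        (φ x : Matrix (Fin 2 ⊕ Fin 2) (Fin 2 ⊕ Fin 2) F).mulVec w = w →
          dotProduct v ((Matrix.J (Fin 2) F).mulVec w) = 0 := by
  classical
  haveI := charP_five hK
  haveI : CharP F 3 := by
    haveI : Fact (Nat.Prime 3) := ⟨Nat.prime_three⟩
    exact charP_of_card_eq_prime_pow (f := 1) (by simpa using hF)
  have h3F : (3 : F) = 0 := by exact_mod_cast CharP.cast_eq_zero F 3
  have h2F : (2 : F) ≠ 0 := fun h => by
    have : ((2 : ℕ) : F) = 0 := by exact_mod_cast h
    have := (CharP.cast_eq_zero_iff F 3 2).1 this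
    norm_num at this
  have h2K : (2 : K) ≠ 0 := SL2BorelTorus.two_ne_zero_of_odd_card (by rw [hK]; decide)
  let V := Fin 2 ⊕ Fin 2 → F
  let ρ : Matrix.SpecialLinearGroup (Fin 2) K →* Module.End F V :=
    { toFun := fun g => Matrix.toLin' (φ g : Matrix (Fin 2 ⊕ Fin 2) (Fin 2 ⊕ Fin 2) F)
      map_one' := by rw [map_one]; exact Matrix.toLin'_one
      map_mul' := fun g h => by rw [map_mul]; exact Matrix.toLin'_mul _ _ }
  have hρinj : Function.Injective ρ := fun g h e =>
    hφ (Subtype.ext (Matrix.toLin'.injective e))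
  have hmul : ∀ g h v, ρ (g * h) v = ρ g (ρ h v) := fun g h v => by rw [map_mul]; rfl
  let B : V → V → F := fun v w => dotProduct v ((Matrix.J (Fin 2) F).mulVec w)
  have hBinv : ∀ g v w, B (ρ g v) (ρ g w) = B v w := fun g v w => by
    show dotProduct ((φ g : Matrix _ _ F) *ᵥ v) (Matrix.J (Fin 2) F *ᵥ ((φ g : Matrix _ _ F) *ᵥ w)) = _
    rw [← Matrix.vecMul_transpose, ← Matrix.dotProduct_mulVec,
      Matrix.mulVec_mulVec, Matrix.mulVec_mulVec, SymplecticGroup.mem_iff'.1 (φ g).2]
  -- the central involution acts as minus one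
  set z := (SL2Inv.negOne : Matrix.SpecialLinearGroup (Fin 2) K) with hz
  have hz2 : ∀ v, ρ z (ρ z v) = v := fun v => by
    rw [← hmul, SL2Inv.negOne_mul_self, map_one]; rfl
  have hzneg : ∀ v, ρ z v = -v := by
    let Up := LinearMap.ker (ρ z - 1)
    let Um := LinearMap.ker (ρ z + 1)
    have hup : ∀ v, v + ρ z v ∈ Up := fun v => by
      show ρ z (v + ρ z v) - (v + ρ z v) = 0
      rw [map_add, hz2]; abel
    have hum : ∀ v, v - ρ z v ∈ Um := fun v => by
      show ρ z (v - ρ z v) + (v - ρ z v) = 0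
      rw [map_sub, hz2]; abel
    by_cases hbot : Up = ⊥
    · intro v
      have := hup v
      rw [hbot, Submodule.mem_bot] at this
      exact eq_neg_of_add_eq_zero_right this
    exfalso
    have hptop : Up ≠ ⊤ := fun h => SL2Inv.negOne_ne_one h2K (hρinj (by
      rw [map_one]
      exact sub_eq_zero.1 (LinearMap.ker_eq_top.1 h)))
    have hmtop : Um ≠ ⊤ := fun h => by
      apply hbot
      rw [Submodule.eq_bot_iff]
      intro v hv
      have h1 : ρ z v - v = 0 := hv
      have h2 : ρ z v + v = 0 := (h ▸ Submodule.mem_top : v ∈ Um)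
      have h3 : (2 : F) • v = 0 := by
        rw [two_smul]
        calc v + v = (ρ z v + v) - (ρ z v - v) := by abel
          _ = 0 := by rw [h1, h2, sub_zero]
      exact (smul_eq_zero.1 h3).resolve_left h2F
    obtain ⟨g, hg⟩ := exists_prime_orderOf_dvd_card' (hp := ⟨Nat.prime_five⟩) 5
      (G := Matrix.SpecialLinearGroup (Fin 2) K) (by rw [card_sl hK]; norm_num)
    have hfix : ∀ U : Submodule F V, U ≠ ⊤ → (∀ v ∈ U, ρ g v ∈ U) → ∀ v ∈ U, ρ g v = v := by
      intro U hU hinv v hv
      have hlt := Submodule.finrank_lt hU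
      rw [Module.finrank_fintype_fun_eq_card] at hlt
      have hp : (LinearMap.restrict (ρ g) hinv) ^ 5 = 1 := by
        refine LinearMap.ext fun w => Subtype.ext ?_
        rw [Module.End.pow_restrict]
        show (ρ g ^ 5) (w : V) = w
        rw [← map_pow, ← hg, pow_orderOf_eq_one, map_one]
        rfl
      have := congrArg (fun f : Module.End F U => ((f ⟨v, hv⟩ : U) : V))
        (eq_id_of_five hF (by simp at hlt; omega) _ hp)
      exact this
    have hcom : ∀ v, ρ z (ρ g v) = ρ g (ρ z v) := fun v => by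
      rw [← hmul, ← hmul, SL2Inv.negOne_comm]
    have hp' := hfix Up hptop fun v hv => by
      have : ρ z v - v = 0 := hv
      show ρ z (ρ g v) - ρ g v = 0
      rw [hcom, sub_eq_zero.1 this, sub_self]
    have hm' := hfix Um hmtop fun v hv => by
      have : ρ z v + v = 0 := hv
      show ρ z (ρ g v) + ρ g v = 0
      rw [hcom, ← map_add, this, map_zero]
    have hg1 : g = 1 := hρinj (by
      rw [map_one]
      refine LinearMap.ext fun v => smul_right_injective V h2F ?_
      show (2 : F) • ρ g v = (2 : F) • v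
      rw [← map_smul, show (2 : F) • v = (v + ρ z v) + (v - ρ z v) by rw [two_smul]; abel,
        map_add, hp' _ (hup v), hm' _ (hum v)])
    rw [hg1, orderOf_one] at hg
    norm_num at hg
  -- the nilpotent part of x
  let N : Module.End F V := ρ x - 1
  have hN : ∀ v, N v = ρ x v - v := fun v => rfl
  have hx3 : ∀ v, ρ x (ρ x (ρ x v)) = v := fun v => by
    rw [← hmul, ← hmul, show x * x * x = 1 by rw [← pow_three', ← hx, pow_orderOf_eq_one],
      map_one]
    rfl
  have hN3 : ∀ v, N (N (N v)) = 0 := fun v => by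
    simp only [hN, map_sub, hx3]
    have e : ∀ w : V, w + w + w = 0 := fun w => by
      rw [show w + w + w = (3 : F) • w by rw [show (3 : F) = 1 + 1 + 1 by norm_num, add_smul, add_smul, one_smul], h3F, zero_smul]
    calc _ = (ρ x v + ρ x v + ρ x v) - (ρ x (ρ x v) + ρ x (ρ x v) + ρ x (ρ x v)) := by abel
      _ = 0 := by rw [e, e, sub_zero]
  change finrank F ↥(LinearMap.ker N) = 2 ∧ _
  have hV : finrank F V = 4 := by rw [Module.finrank_fintype_fun_eq_card]; rfl
  have hrk := LinearMap.finrank_range_add_finrank_ker N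
  rw [hV] at hrk
  have hk2 : finrank F ↥(LinearMap.ker N) ≤ 2 := by
    by_contra hk
    push_neg at hk
    obtain ⟨g, hg⟩ := exists_noncomm hK x hx
    set y := g * x * g⁻¹ with hy
    have hy3 : orderOf y = 3 := by rw [hy, ← hx]; exact MulEquiv.orderOf_eq (MulAut.conj g) x
    have hmem := negOne_mem hK x y hx hy3 hg
    have hgg : ∀ v, ρ g (ρ g⁻¹ v) = v := fun v => by rw [← hmul, mul_inv_cancel, map_one]; rfl
    have hgi : Function.Injective (ρ g) := Function.LeftInverse.injective (g := ρ g⁻¹) fun v => by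
      rw [← hmul, inv_mul_cancel, map_one]; rfl
    let Ky := (LinearMap.ker N).map (ρ g)
    have hKy : finrank F Ky = finrank F ↥(LinearMap.ker N) :=
      (Submodule.equivMapOfInjective (ρ g) hgi (LinearMap.ker N)).finrank_eq.symm
    have hsum := Submodule.finrank_sup_add_finrank_inf_eq (LinearMap.ker N) Ky
    have hle := Submodule.finrank_le (LinearMap.ker N ⊔ Ky)
    rw [hV] at hle
    have hne : LinearMap.ker N ⊓ Ky ≠ ⊥ := fun h => by rw [h, finrank_bot] at hsum; omega
    obtain ⟨v, hv, hv0⟩ := (Submodule.ne_bot_iff _).1 hne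
    obtain ⟨hv1, ⟨w, hw, rfl⟩⟩ := Submodule.mem_inf.1 hv
    have hxv : ρ x (ρ g w) = ρ g w := sub_eq_zero.1 hv1
    have hxw : ρ x w = w := sub_eq_zero.1 hw
    have hall : ∀ a ∈ Subgroup.closure {x, y}, ρ a (ρ g w) = ρ g w := fun a ha => by
      induction ha using Subgroup.closure_induction with
      | mem a ha =>
        rcases ha with rfl | rfl
        · exact hxv
        · rw [← hmul, hy, inv_mul_cancel_right, hmul, hxw]
      | one => rw [map_one]; rfl
      | mul a b _ _ ha hb => rw [hmul, hb, ha]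
      | inv a _ ha =>
        calc ρ a⁻¹ (ρ g w) = ρ a⁻¹ (ρ a (ρ g w)) := by rw [ha]
          _ = ρ g w := by rw [← hmul, inv_mul_cancel, map_one]; rfl
    have h1 := hall z hmem
    rw [hzneg, neg_eq_iff_add_eq_zero, ← two_smul F] at h1
    exact hv0 ((smul_eq_zero.1 h1).resolve_left h2F)
  have hB : ∀ a, B (ρ x a) a = - B a (ρ x a) := fun a => by
    show dotProduct _ _ = - dotProduct _ _
    rw [dotProduct_comm _ (Matrix.J (Fin 2) F *ᵥ a), ← Matrix.vecMul_transpose,
      Matrix.J_transpose, Matrix.vecMul_neg, neg_dotProduct, ← Matrix.dotProduct_mulVec]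
  have hBself : ∀ a, B a a = 0 := fun a => by
    have e : B a a = - B a a := by
      show dotProduct a (Matrix.J (Fin 2) F *ᵥ a) = - dotProduct a (Matrix.J (Fin 2) F *ᵥ a)
      conv_lhs => rw [dotProduct_comm, ← Matrix.vecMul_transpose, Matrix.J_transpose,
        Matrix.vecMul_neg, neg_dotProduct, ← Matrix.dotProduct_mulVec]
    have : (2 : F) * B a a = 0 := by linear_combination e
    exact (mul_eq_zero.1 this).resolve_left h2F
  have hBadd : ∀ a b c, B (a + b) c = B a c + B b c := fun a b c => add_dotProduct a b _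
  have hBaddr : ∀ a b c, B a (b + c) = B a b + B a c := fun a b c => by
    show dotProduct _ _ = dotProduct _ _ + dotProduct _ _
    rw [Matrix.mulVec_add, dotProduct_add]
  have hBsub : ∀ a b c, B (a - b) c = B a c - B b c := fun a b c => sub_dotProduct a b _
  have hquad : ∀ u, B (N (N u)) u = 0 := fun u => by
    have e : N (N u) = ρ x (ρ x u) + ρ x u + u := by
      simp only [hN, map_sub]
      have h3 : (3 : F) • ρ x u = 0 := by rw [h3F, zero_smul]
      rw [show (3 : F) = 1 + 1 + 1 by norm_num, add_smul, add_smul, one_smul] at h3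
      calc _ = ρ x (ρ x u) + ρ x u + u - (ρ x u + ρ x u + ρ x u) := by abel
        _ = _ := by rw [h3, sub_zero]
    rw [e, hBadd, hBadd, hBself, add_zero]
    have e1 : B (ρ x (ρ x u)) u = B u (ρ x u) := by rw [← hBinv x, hx3]
    rw [e1, hB, add_neg_cancel]
  have hBsymm : ∀ a b, B a b = - B b a := fun a b => by
    have h := hBself (a + b)
    rw [hBadd, hBaddr, hBaddr, hBself, hBself] at h
    linear_combination h
  have hnondeg : ∀ e : V, e ≠ 0 → ∃ u, B e u ≠ 0 := fun e he => by
    obtain ⟨i, hi⟩ := Function.ne_iff.1 he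
    refine ⟨Matrix.J (Fin 2) F *ᵥ Pi.single i 1, fun h => hi ?_⟩
    replace h : dotProduct e (Matrix.J (Fin 2) F *ᵥ (Matrix.J (Fin 2) F *ᵥ Pi.single i 1)) = 0 := h
    rw [Matrix.mulVec_mulVec, Matrix.J_squared, Matrix.neg_mulVec, one_mulVec, dotProduct_neg,
      dotProduct_single, mul_one, neg_eq_zero] at h
    exact h
  let R := LinearMap.range N
  let R2 := R.map N
  have hR2K : R2 ≤ LinearMap.ker N ⊓ R := by
    rintro _ ⟨_, ⟨u, rfl⟩, rfl⟩
    exact Submodule.mem_inf.2 ⟨hN3 u, ⟨_, rfl⟩⟩
  have hR2 : finrank F R2 + finrank F ↥(LinearMap.ker N ⊓ R) = finrank F R := by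
    have h := LinearMap.finrank_range_add_finrank_ker (N.domRestrict R)
    rw [LinearMap.range_domRestrict, LinearMap.ker_domRestrict] at h
    rw [← h, ← Submodule.finrank_map_subtype_eq R (Submodule.comap R.subtype (LinearMap.ker N)),
      Submodule.map_comap_subtype, inf_comm (LinearMap.ker N)]
  have hle1 := Submodule.finrank_mono hR2K
  have hle2 : finrank F ↥(LinearMap.ker N ⊓ R) ≤ finrank F ↥(LinearMap.ker N) :=
    Submodule.finrank_mono inf_le_left
  have hrk' : finrank F R + finrank F ↥(LinearMap.ker N) = 4 := hrk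
  have hk : finrank F ↥(LinearMap.ker N) = 2 := by omega
  have hRbot : R2 = ⊥ := by
    by_contra hne
    obtain ⟨e, he, he0⟩ := (Submodule.ne_bot_iff _).1 hne
    have hspan : Submodule.span F {e} = R2 :=
      Submodule.eq_of_le_of_finrank_le (by rwa [Submodule.span_singleton_le_iff_mem])
        (by rw [finrank_span_singleton he0]; omega)
    obtain ⟨w, ⟨u1, rfl⟩, rfl⟩ := he
    obtain ⟨u2, hu2⟩ := hnondeg _ he0
    have h2mem : N (N u2) ∈ Submodule.span F {N (N u1)} := by
      rw [hspan]; exact ⟨N u2, ⟨u2, rfl⟩, rfl⟩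
    obtain ⟨c, hc⟩ := Submodule.mem_span_singleton.1 h2mem
    have hc0 : c = 0 := by
      have h := hquad u2
      rw [← hc, show B (c • N (N u1)) u2 = c * B (N (N u1)) u2 from smul_dotProduct c _ _] at h
      exact (mul_eq_zero.1 h).resolve_right hu2
    rw [hc0, zero_smul] at hc
    have h := hquad (u1 + u2)
    rw [map_add, map_add, ← hc, add_zero, hBaddr, hquad, zero_add] at h
    exact hu2 h
  have hRK : R = LinearMap.ker N := by
    refine Submodule.eq_of_le_of_finrank_le ?_ (by omega)
    intro v hv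
    have : N v ∈ R2 := ⟨v, hv, rfl⟩
    rw [hRbot, Submodule.mem_bot] at this
    exact this
  refine ⟨hk, fun v w hv hw => ?_⟩
  have hvR : v ∈ R := by
    rw [hRK, LinearMap.mem_ker, hN]
    exact sub_eq_zero.2 hv
  obtain ⟨a, rfl⟩ := hvR
  show B (N a) w = 0
  rw [hN, hBsub]
  conv_lhs => arg 1; arg 2; rw [← show ρ x w = w from hw]
  rw [hBinv, sub_self]

end Cfsg.Agent.S3213
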