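import Cfsg.Statements.S3215
import Cfsg.Agent.Lib.FiniteGroup.CyclicPGroup
import Cfsg.Agent.Lib.Techniques.CharP
import Cfsg.Agent.Lib.Transfer.Basic
import Cfsg.Agent.Lib.FGStruct.PComplement
import Mathlib.GroupTheory.SpecificGroups.ZGroup

set_option autoImplicit false
open Cfsg

namespace Cfsg.Agent.S3215

section
variable {H : Type*} [Group H] [Finite H]

/-- Odd elements act without fixed points on the 2-core. -/
lemma core_fpf (hsol : Group.IsSolvable H) (hO : Cfsg.oddCore H = ⊥)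
    (hI : ∀ t : H, orderOf t = 2 → Cfsg.HasNormalPComplement 2 ↥(Subgroup.centralizer ({t} : Set H)))
    {x : H} (hx : Odd (orderOf x)) (hx1 : x ≠ 1) {y : H} (hy : y ∈ Cfsg.pCore 2 H) (hy1 : y ≠ 1) :
    x * y ≠ y * x := by
  haveI : Fact (Nat.Prime 2) := ⟨Nat.prime_two⟩
  intro hxy
  obtain ⟨k, hk⟩ := PBasic.pCore_isPGroup 2 H ⟨y, hy⟩
  obtain ⟨j, -, hj⟩ := (Nat.dvd_prime_pow Nat.prime_two).1
    (orderOf_dvd_of_pow_eq_one (congrArg Subtype.val hk : y ^ 2 ^ k = 1))
  have hj1 : j ≠ 0 := fun h => hy1 (orderOf_eq_one_iff.1 (by rw [hj, h, pow_zero]))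
  set t := y ^ (2 ^ (j - 1)) with ht
  have ht2 : orderOf t = 2 := by
    rw [ht, orderOf_pow' _ (by positivity), hj, Nat.gcd_eq_right (pow_dvd_pow 2 (Nat.sub_le j 1)),
      Nat.pow_div (Nat.sub_le j 1) two_pos, show j - (j - 1) = 1 by omega, pow_one]
  have htY : t ∈ Cfsg.pCore 2 H := pow_mem hy _
  have hxt : x * t = t * x := (show Commute x y from hxy).pow_right _
  set C := Subgroup.centralizer ({t} : Set H) with hC
  have hxC : x ∈ C := Subgroup.mem_centralizer_singleton_iff.2 hxt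
  have hxcop : (orderOf x).Coprime 2 := Nat.coprime_two_right.2 hx
  have hxK : (⟨x, hxC⟩ : C) ∈ Cfsg.pPrimeCore 2 C := by
    rw [PBasic.pPrimeCore_eq_pResidual (hI t ht2)]
    exact PBasic.mem_pResidual (by rwa [Subgroup.orderOf_mk])
  set D := (Cfsg.pCore 2 H).subgroupOf C with hD
  have hDp : IsPGroup 2 D := (PBasic.pCore_isPGroup 2 H).comap_subtype
  haveI hYn : (Cfsg.pCore 2 H).Normal := inferInstance
  haveI hDn : D.Normal := hYn.subgroupOf C
  haveI hKn : (Cfsg.pPrimeCore 2 C).Normal := inferInstance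
  have hcomm : ∀ r ∈ Cfsg.pCore 2 H, r * t = t * r → x * r = r * x := by
    intro r hr hrt
    have hrC : r ∈ C := Subgroup.mem_centralizer_singleton_iff.2 hrt
    exact congrArg Subtype.val (Subgroup.commute_of_normal_of_disjoint _ _ hKn hDn
      (disjoint_iff.2 (PBasic.inf_eq_bot_of_coprime (PBasic.pPrimeCore_coprime 2 C) hDp))
      ⟨x, hxC⟩ ⟨r, hrC⟩ hxK (Subgroup.mem_subgroupOf.2 hr)).eq
  have hU : IsPGroup 2 (Subgroup.zpowers t) :=
    IsPGroup.of_card (n := 1) (by rw [Nat.card_zpowers, ht2, pow_one])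
  have hNY : Subgroup.normalizer (Cfsg.pCore 2 H : Set H) = ⊤ := Subgroup.normalizer_eq_top_iff.2 hYn
  have hxU : ∀ u ∈ Subgroup.zpowers t, x * u = u * x := by
    intro u hu
    obtain ⟨i, rfl⟩ := Subgroup.mem_zpowers_iff.1 hu
    exact (show Commute x t from hxt).zpow_right i
  have hall := CharP.pxq (PBasic.pCore_isPGroup 2 H) hU (by rw [hNY]; exact le_top) hxcop
    (hNY ▸ Subgroup.mem_top x) hxU
    (fun r hr hru => hcomm r hr (hru t (Subgroup.mem_zpowers t)))
  haveI := hsol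
  have hxY : x ∈ Cfsg.pCore 2 H := FittingCores.centralizer_pCore_le Nat.prime_two hO
    (Subgroup.mem_centralizer_iff.2 fun r hr => (hall r hr).symm)
  exact hx1 (PBasic.eq_one_of_isPGroup_of_coprime (PBasic.pCore_isPGroup 2 H) hxY hxcop)

lemma pCore_ne_bot (hsol : Group.IsSolvable H) (hO : Cfsg.oddCore H = ⊥) [Nontrivial H] :
    Cfsg.pCore 2 H ≠ ⊥ := by
  haveI := hsol
  intro h
  have h1 := FittingCores.centralizer_pCore_le Nat.prime_two hO
  rw [h, le_bot_iff] at h1
  obtain ⟨x, hx⟩ := exists_ne (1 : H)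
  refine hx (Subgroup.mem_bot.1 (h1 ▸ (Subgroup.mem_centralizer_iff.2 fun r hr => ?_)))
  rw [Subgroup.mem_bot.1 hr]; simp

/-- `p`-subgroups for odd `p` are cyclic. -/
lemma odd_pGroup_cyclic (hsol : Group.IsSolvable H) (hO : Cfsg.oddCore H = ⊥)
    (hI : ∀ t : H, orderOf t = 2 → Cfsg.HasNormalPComplement 2 ↥(Subgroup.centralizer ({t} : Set H)))
    {p : ℕ} [hp : Fact p.Prime] (hp2 : p ≠ 2) {P : Subgroup H} (hP : IsPGroup p P) : IsCyclic P := by
  rcases subsingleton_or_nontrivial H with hs | hs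
  · infer_instance
  obtain ⟨a, ha⟩ := IsPGroup.iff_card.1 hP
  obtain ⟨b, hb⟩ := IsPGroup.iff_card.1 (PBasic.pCore_isPGroup 2 H)
  refine CyclicPGroup.isCyclic_of_fixedPointFree hp2 hP (K := Cfsg.pCore 2 H)
    (by rw [Subgroup.normalizer_eq_top]; exact le_top) ?_
    (pCore_ne_bot hsol hO) fun x hx hx1 y hy hy1 => core_fpf hsol hO hI ?_ hx1 hy hy1
  · rw [ha, hb]; exact Nat.Coprime.pow _ _ ((Nat.coprime_primes hp.out Nat.prime_two).2 hp2)
  · obtain ⟨k, hk⟩ := hP ⟨x, hx⟩
    exact Odd.of_dvd_nat ((hp.out.odd_of_ne_two hp2).pow)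
      (orderOf_dvd_of_pow_eq_one (congrArg Subtype.val hk : x ^ p ^ k = 1))

end


/-- Let H be a finite solvable group with no nontrivial normal subgroup of odd order in which the centralizer of every involution has a normal 2-complement. Let X be a Hall 2'-subgroup of H (odd order, index a power of 2) and Y = O₂(H). Then no non-identity element of X commutes with a non-identity element of Y (so for X ≠ 1 the group XY is a Frobenius group with kernel Y), every Sylow subgroup of X is cyclic, XY is normal in H, and H/XY is a cyclic 2-group. -/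
theorem result {H : Type*} [Group H] [Finite H] (hsol : Group.IsSolvable H)
    (hO : Cfsg.oddCore H = ⊥)
    (hI : ∀ t : H, orderOf t = 2 → Cfsg.HasNormalPComplement 2 ↥(Subgroup.centralizer ({t} : Set H)))
    (X : Subgroup H) (hXodd : Odd (Nat.card X)) (hXidx : ∃ k : ℕ, X.index = 2 ^ k) :
    (∀ x ∈ X, x ≠ 1 → ∀ y ∈ Cfsg.pCore 2 H, y ≠ 1 → x * y ≠ y * x) ∧
      (∀ (p : ℕ) [Fact p.Prime] (P : Sylow p ↥X), IsCyclic ↥(P : Subgroup ↥X)) ∧
      (X ⊔ Cfsg.pCore 2 H).Normal ∧
      ∀ hN : (X ⊔ Cfsg.pCore 2 H).Normal, IsCyclic (H ⧸ (X ⊔ Cfsg.pCore 2 H)) ∧ IsPGroup 2 (H ⧸ (X ⊔ Cfsg.pCore 2 H)) := by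
  haveI : Fact (Nat.Prime 2) := ⟨Nat.prime_two⟩
  haveI := hsol
  have hX : PCompl.IsPCompl 2 X :=
    ⟨fun h => Nat.not_even_iff_odd.2 hXodd (even_iff_two_dvd.2 h), hXidx⟩
  have oddX : ∀ x ∈ X, Odd (orderOf x) := fun x hx =>
    hXodd.of_dvd_nat (Subgroup.orderOf_coe (⟨x, hx⟩ : X) ▸ orderOf_dvd_natCard _)
  refine ⟨fun x hx hx1 y hy hy1 => core_fpf hsol hO hI (oddX x hx) hx1 hy hy1, fun p _ P => ?_, ?_⟩
  · rcases eq_or_ne p 2 with rfl | hp2
    · obtain ⟨k, hk⟩ := IsPGroup.iff_card.1 P.isPGroup'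
      have hd : Nat.card (P : Subgroup X) ∣ Nat.card X := Subgroup.card_subgroup_dvd_card _
      rcases k with _ | k
      · haveI : Subsingleton (P : Subgroup X) := (Nat.card_eq_one_iff_unique.1 (by simpa using hk)).1
        infer_instance
      · exact absurd ((dvd_pow_self 2 k.succ_ne_zero).trans (hk ▸ hd)) hX.1
    · haveI := odd_pGroup_cyclic hsol hO hI hp2 (P.isPGroup'.map X.subtype)
      exact isCyclic_of_surjective
        ((P : Subgroup X).equivMapOfInjective X.subtype X.subtype_injective).symm.toMonoidHom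
        (MulEquiv.surjective _)
  -- the quotient by the 2-core
  set Y := Cfsg.pCore 2 H with hYdef
  set f := QuotientGroup.mk' Y with hf
  have hfs : Function.Surjective f := QuotientGroup.mk'_surjective Y
  haveI : Group.IsSolvable (H ⧸ Y) := Group.isSolvable_of_surjective hfs
  have hY2 : IsPGroup 2 Y := PBasic.pCore_isPGroup 2 H
  have hQ2 : Cfsg.pCore 2 (H ⧸ Y) = ⊥ := PBasic.pCore_quotient_pCore 2 H
  set X' := X.map f with hX'
  have hX'c : PCompl.IsPCompl 2 X' := hX.map f hfs Nat.prime_two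
  set F := Cfsg.fittingSubgroup (H ⧸ Y) with hF
  haveI hFn : F.Normal := FittingCores.fitting_normal
  have hFodd : ¬ 2 ∣ Nat.card F := by
    intro h2
    haveI : Group.IsNilpotent F := FittingCores.fitting_nilpotent
    obtain ⟨P⟩ : Nonempty (Sylow 2 F) := inferInstance
    have hle := FittingCores.sylow_le_pCore_of_nilpotent (G := H ⧸ Y) hFn 2 P
    rw [hQ2] at hle
    refine P.ne_bot_of_dvd_card h2 (le_bot_iff.1 fun x hx => ?_)
    exact Subgroup.mem_bot.2 (Subtype.ext (Subgroup.mem_bot.1 (hle ⟨x, hx, rfl⟩)))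
  have hFX : F ≤ X' := hX'c.normal_le Nat.prime_two hFn hFodd
  -- `p`-subgroups of the quotient
  have hQcyc : ∀ p : ℕ, p.Prime → p ≠ 2 → ∀ P : Subgroup (H ⧸ Y), IsPGroup p P → IsCyclic P := by
    intro p hp hp2 P hP
    haveI : Fact p.Prime := ⟨hp⟩
    obtain ⟨R, hR⟩ := hP.exists_le_sylow
    obtain ⟨S₀⟩ : Nonempty (Sylow p H) := inferInstance
    obtain ⟨g, hg⟩ := MulAction.exists_smul_eq (H ⧸ Y) (S₀.mapSurjective hfs) R
    obtain ⟨g, rfl⟩ := hfs g
    have hRS : (R : Subgroup (H ⧸ Y)) = ((g • S₀ : Sylow p H) : Subgroup H).map f := by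
      rw [← hg, Sylow.coe_subgroup_smul, Sylow.coe_subgroup_smul, Sylow.coe_mapSurjective,
        SolvBasic.map_conjSmul]
    haveI := odd_pGroup_cyclic hsol hO hI hp2 (g • S₀ : Sylow p H).isPGroup'
    haveI : IsCyclic (R : Subgroup (H ⧸ Y)) := by
      rw [hRS]; exact isCyclic_of_surjective (f.subgroupMap _) (f.subgroupMap_surjective _)
    exact isCyclic_of_injective (Subgroup.inclusion hR) (Subgroup.inclusion_injective hR)
  haveI : IsZGroup F := ⟨fun p hp P => by
    haveI : Fact p.Prime := ⟨hp⟩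
    rcases eq_or_ne p 2 with rfl | hp2
    · obtain ⟨k, hk⟩ := IsPGroup.iff_card.1 P.isPGroup'
      rcases k with _ | k
      · haveI : Subsingleton (P : Subgroup F) := (Nat.card_eq_one_iff_unique.1 (by simpa using hk)).1
        infer_instance
      · exact absurd ((dvd_pow_self 2 k.succ_ne_zero).trans (hk ▸ Subgroup.card_subgroup_dvd_card _)) hFodd
    · haveI := hQcyc p hp hp2 _ (P.isPGroup'.map F.subtype)
      exact isCyclic_of_surjective
        ((P : Subgroup F).equivMapOfInjective F.subtype F.subtype_injective).symm.toMonoidHom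
        (MulEquiv.surjective _)⟩
  haveI : Group.IsNilpotent F := FittingCores.fitting_nilpotent
  haveI hFcyc : IsCyclic F := inferInstance
  have hCF : Subgroup.centralizer (F : Set (H ⧸ Y)) ≤ F := FittingCores.centralizer_fitting_le
  have hcommF : ∀ g h : H ⧸ Y, g * h * g⁻¹ * h⁻¹ ∈ F := by
    intro g h
    refine hCF (Subgroup.mem_centralizer_iff.2 fun a ha => ?_)
    obtain ⟨c, hc⟩ := IsCyclic.exists_generator (α := F)
    have key : ∀ w : H ⧸ Y, ∃ i : ℤ, ∀ b ∈ F, w * b * w⁻¹ = b ^ i := by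
      intro w
      obtain ⟨i, hi⟩ := Subgroup.mem_zpowers_iff.1 (hc ⟨_, hFn.conj_mem _ c.2 w⟩)
      refine ⟨i, fun b hb => ?_⟩
      obtain ⟨m, hm⟩ := Subgroup.mem_zpowers_iff.1 (hc ⟨b, hb⟩)
      have hi' : ((c : H ⧸ Y)) ^ i = w * c * w⁻¹ := by simpa using congrArg Subtype.val hi
      have hm' : ((c : H ⧸ Y)) ^ m = b := by simpa using congrArg Subtype.val hm
      rw [← hm', ← conj_zpow, ← hi', ← zpow_mul, ← zpow_mul, mul_comm]
    obtain ⟨i, hi⟩ := key g
    obtain ⟨j, hj⟩ := key h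
    have e : g * h * a * (g * h)⁻¹ = h * g * a * (h * g)⁻¹ := by
      have e1 : g * h * a * (g * h)⁻¹ = g * (h * a * h⁻¹) * g⁻¹ := by group
      have e2 : h * g * a * (h * g)⁻¹ = h * (g * a * g⁻¹) * h⁻¹ := by group
      rw [e1, e2, hj a ha, hi a ha, hi _ (zpow_mem ha j), hj _ (zpow_mem ha i), ← zpow_mul, ← zpow_mul,
        mul_comm]
    symm
    calc g * h * g⁻¹ * h⁻¹ * a
        = g * h * ((h * g)⁻¹ * ((h * g) * ((h * g)⁻¹ * a * (h * g)) * (h * g)⁻¹)) := by group
      _ = g * h * (((h * g)⁻¹ * a * (h * g)) * (h * g)⁻¹) := by group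
      _ = (g * h * ((h * g)⁻¹ * a * (h * g)) * (g * h)⁻¹) * (g * h * (h * g)⁻¹) := by group
      _ = (h * g * ((h * g)⁻¹ * a * (h * g)) * (h * g)⁻¹) * (g * h * (h * g)⁻¹) := by
          have hb : (h * g)⁻¹ * a * (h * g) ∈ F := by
            have h1 := hFn.conj_mem a ha (h * g)⁻¹
            rwa [inv_inv] at h1
          have e' : g * h * ((h * g)⁻¹ * a * (h * g)) * (g * h)⁻¹ =
              h * g * ((h * g)⁻¹ * a * (h * g)) * (h * g)⁻¹ := by
            rw [show g * h * ((h * g)⁻¹ * a * (h * g)) * (g * h)⁻¹ =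
                g * (h * ((h * g)⁻¹ * a * (h * g)) * h⁻¹) * g⁻¹ by group,
              show h * g * ((h * g)⁻¹ * a * (h * g)) * (h * g)⁻¹ =
                h * (g * ((h * g)⁻¹ * a * (h * g)) * g⁻¹) * h⁻¹ by group,
              hj _ hb, hi _ hb, hi _ (zpow_mem hb j), hj _ (zpow_mem hb i), ← zpow_mul, ← zpow_mul,
              mul_comm j i]
          rw [e']
      _ = a * (g * h * g⁻¹ * h⁻¹) := by group
  haveI hX'n : X'.Normal := ⟨fun a ha g => by
    have := mul_mem (hFX (hcommF g a)) ha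
    rwa [inv_mul_cancel_right] at this⟩
  have hsup : X ⊔ Y = X'.comap f := by
    rw [hX', Subgroup.comap_map_eq, QuotientGroup.ker_mk']
  refine ⟨by rw [hsup]; exact hX'n.comap f, fun hN => ?_⟩
  haveI := hN
  set N := X ⊔ Y with hNdef
  set g := QuotientGroup.mk' N with hg
  have hgs : Function.Surjective g := QuotientGroup.mk'_surjective N
  obtain ⟨k, hk⟩ := hXidx
  obtain ⟨m, -, hm⟩ := (Nat.dvd_prime_pow Nat.prime_two).1
    ((Subgroup.index_dvd_of_le (le_sup_left : X ≤ N)).trans hk.dvd)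
  have hp : IsPGroup 2 (H ⧸ N) := IsPGroup.of_card (n := m) (by rw [← Subgroup.index_eq_card]; exact hm)
  refine ⟨?_, hp⟩
  -- involutions of the quotient act without fixed points on `F`
  have hinvol : ∀ u : H, f u ^ 2 = 1 → f u ≠ 1 → ∀ a ∈ F, f u * a = a * f u → a = 1 := by
    intro u hu2 hu1 a ha hcomm'
    by_contra ha1
    obtain ⟨x, hxX, rfl⟩ := hFX ha
    have hx1 : x ≠ 1 := fun h => ha1 (by rw [h, map_one])
    set P := Y ⊔ Subgroup.zpowers u with hPdef
    have hu4 : u * u ∈ Y := by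
      rw [← pow_two, ← QuotientGroup.eq_one_iff]; exact hu2
    have hnY : ∀ S : Subgroup H, S ≤ Subgroup.normalizer (Y : Set H) := fun S => by
      rw [Subgroup.normalizer_eq_top]; exact le_top
    have hup : IsPGroup 2 (Subgroup.zpowers u) := by
      obtain ⟨i, hi⟩ := hY2 ⟨_, hu4⟩
      have : u ^ (2 ^ (i + 1)) = 1 := by
        rw [pow_succ', pow_mul, pow_two]; exact congrArg Subtype.val hi
      obtain ⟨j, -, hj⟩ := (Nat.dvd_prime_pow Nat.prime_two).1 (orderOf_dvd_of_pow_eq_one this)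
      exact IsPGroup.of_card (n := j) (by rw [Nat.card_zpowers, hj])
    have hPp : IsPGroup 2 P := hY2.to_sup_of_normal_left' hup (hnY _)
    have hPmap : P.map f = Subgroup.zpowers (f u) := by
      rw [hPdef, Subgroup.map_sup, QuotientGroup.map_mk'_self, bot_sup_eq, MonoidHom.map_zpowers]
    have hYP : Y ≤ P := le_sup_left
    have hPc : P = (Subgroup.zpowers (f u)).comap f := by
      rw [← hPmap, Subgroup.comap_map_eq, QuotientGroup.ker_mk', sup_eq_left.2 hYP]
    have hxP : Subgroup.zpowers x ≤ Subgroup.normalizer (P : Set H) := by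
      rw [Subgroup.zpowers_le, Subgroup.mem_normalizer_iff]
      intro w
      have hcw : ∀ v : H, f v ∈ Subgroup.zpowers (f u) → f x * f v * (f x)⁻¹ = f v := by
        intro v hv
        obtain ⟨i, hi⟩ := Subgroup.mem_zpowers_iff.1 hv
        rw [← hi, ← ((show Commute (f u) (f x) from hcomm').zpow_left i).eq, mul_inv_cancel_right]
      rw [hPc, Subgroup.mem_comap, Subgroup.mem_comap, map_mul, map_mul, map_inv]
      constructor
      · intro h; rwa [hcw w h]
      · intro h
        have h2 := hcw (x * w * x⁻¹) (by simpa using h)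
        simp only [map_mul, map_inv, mul_left_inj, mul_right_inj] at h2
        rwa [h2] at h
    obtain ⟨c, hc⟩ := IsPGroup.iff_card.1 hPp
    have hxcop : (Nat.card (Subgroup.zpowers x)).Coprime (Nat.card P) := by
      rw [Nat.card_zpowers, hc]; exact (Nat.coprime_two_right.2 (oddX x hxX)).pow_right c
    haveI := hPp.isNilpotent
    have hmap := CoprimeAct.map_inf_centralizer f hxP hxcop (Or.inr inferInstance)
    have humem : f u ∈ P.map f ⊓ Subgroup.centralizer (((Subgroup.zpowers x).map f : Subgroup _) : Set (H ⧸ Y)) := by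
      refine Subgroup.mem_inf.2 ⟨⟨u, Subgroup.mem_sup_right (Subgroup.mem_zpowers u), rfl⟩, ?_⟩
      rw [MonoidHom.map_zpowers, Subgroup.mem_centralizer_iff]
      intro w hw
      obtain ⟨i, rfl⟩ := Subgroup.mem_zpowers_iff.1 hw
      exact ((show Commute (f u) (f x) from hcomm').zpow_right i).symm.eq
    rw [← hmap] at humem
    obtain ⟨v, ⟨hvP, hvC⟩, hvu⟩ := humem
    have hvx : v * x = x * v := (Subgroup.mem_centralizer_iff.1 hvC x (Subgroup.mem_zpowers x)).symm
    have hvY : v * v ∈ Y := by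
      rw [← QuotientGroup.eq_one_iff]
      show f (v * v) = 1
      rw [map_mul, hvu, ← pow_two]; exact hu2
    by_cases hvv : v * v = 1
    · -- `v` is an involution, and `x` centralizes its fixed points on `Y`
      have hv1 : v ≠ 1 := fun h => hu1 (by rw [← hvu, h, map_one])
      have hvo : orderOf v = 2 := orderOf_eq_prime (by rw [pow_two]; exact hvv) hv1
      set C := Subgroup.centralizer ({v} : Set H) with hC
      have hxC : x ∈ C := Subgroup.mem_centralizer_singleton_iff.2 hvx.symm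
      have hxcop' : (orderOf x).Coprime 2 := Nat.coprime_two_right.2 (oddX x hxX)
      have hxK : (⟨x, hxC⟩ : C) ∈ Cfsg.pPrimeCore 2 C := by
        rw [PBasic.pPrimeCore_eq_pResidual (hI v hvo)]
        exact PBasic.mem_pResidual (by rwa [Subgroup.orderOf_mk])
      -- a nontrivial fixed point of `v` on `Y`
      haveI : Nontrivial H := ⟨⟨x, 1, hx1⟩⟩
      obtain ⟨y, hy, hyc, hy1⟩ : ∃ y ∈ Y, v * y = y * v ∧ y ≠ 1 := by
        obtain ⟨w, hw, hw1⟩ := Y.bot_or_exists_ne_one.resolve_left (pCore_ne_bot hsol hO)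
        by_contra hno
        push Not at hno
        let φ : Y → Y := fun a =>
          ⟨(a : H)⁻¹ * (v * a * v⁻¹), mul_mem (inv_mem a.2) ((inferInstance : Y.Normal).conj_mem _ a.2 v)⟩
        have hφ : Function.Surjective φ := by
          refine Finite.injective_iff_surjective.1 fun a b hab => ?_
          have h1 : (a : H)⁻¹ * (v * a * v⁻¹) = (b : H)⁻¹ * (v * b * v⁻¹) := congrArg Subtype.val hab
          have h2 : v * ((b : H) * (a : H)⁻¹) * v⁻¹ = (b : H) * (a : H)⁻¹ := by
            calc v * ((b : H) * (a : H)⁻¹) * v⁻¹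
                = (b : H) * ((b : H)⁻¹ * (v * b * v⁻¹)) * (v * a * v⁻¹)⁻¹ := by group
              _ = (b : H) * ((a : H)⁻¹ * (v * a * v⁻¹)) * (v * a * v⁻¹)⁻¹ := by rw [h1]
              _ = (b : H) * (a : H)⁻¹ := by group
          have h3 := hno _ (mul_mem b.2 (inv_mem a.2)) (mul_inv_eq_iff_eq_mul.1 h2)
          exact Subtype.ext (mul_inv_eq_one.1 h3).symm
        have hvi : v⁻¹ = v := inv_eq_of_mul_eq_one_right hvv
        have hinv : ∀ a ∈ Y, v * a * v⁻¹ = a⁻¹ := by
          intro a ha'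
          obtain ⟨b, hb⟩ := hφ ⟨a, ha'⟩
          have hb' : (b : H)⁻¹ * (v * b * v⁻¹) = a := congrArg Subtype.val hb
          rw [← hb', hvi]
          calc v * ((b : H)⁻¹ * (v * b * v)) * v = v * (b : H)⁻¹ * v * b * (v * v) := by group
            _ = ((b : H)⁻¹ * (v * b * v))⁻¹ := by
              rw [hvv, mul_one]; simp only [mul_inv_rev, inv_inv, hvi, mul_assoc]
        obtain ⟨i, hi⟩ := hY2 ⟨w, hw⟩
        have hi' : w ^ 2 ^ i = 1 := congrArg Subtype.val hi
        obtain ⟨j, hj, hjo⟩ := (Nat.dvd_prime_pow Nat.prime_two).1 (orderOf_dvd_of_pow_eq_one hi')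
        have hj0 : j ≠ 0 := fun h => hw1 (orderOf_eq_one_iff.1 (by rw [hjo, h, pow_zero]))
        set t := w ^ (2 ^ (j - 1))
        have ht2 : t * t = 1 := by
          rw [← pow_add, show 2 ^ (j - 1) + 2 ^ (j - 1) = orderOf w by
            rw [hjo]; conv_rhs => rw [show j = j - 1 + 1 by omega, pow_succ]
            omega, pow_orderOf_eq_one]
        have ht1 : t ≠ 1 := fun h => by
          have := Nat.le_of_dvd (by positivity) (orderOf_dvd_of_pow_eq_one h)
          rw [hjo] at this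
          have := (Nat.pow_le_pow_iff_right (by norm_num : 1 < 2)).1 this
          omega
        have htY : t ∈ Y := pow_mem hw _
        refine ht1 (hno t htY ?_)
        have := hinv t htY
        rw [inv_eq_of_mul_eq_one_right ht2, mul_inv_eq_iff_eq_mul] at this
        exact this
      have hyC : y ∈ C := Subgroup.mem_centralizer_singleton_iff.2 hyc.symm
      haveI hDn : (Y.subgroupOf C).Normal := Subgroup.Normal.subgroupOf inferInstance C
      have hxy := congrArg Subtype.val (Subgroup.commute_of_normal_of_disjoint _ _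
        (inferInstance : (Cfsg.pPrimeCore 2 C).Normal) hDn
        (disjoint_iff.2 (PBasic.inf_eq_bot_of_coprime (PBasic.pPrimeCore_coprime 2 C) (hY2.comap_subtype)))
        ⟨x, hxC⟩ ⟨y, hyC⟩ hxK (Subgroup.mem_subgroupOf.2 hy)).eq
      exact core_fpf hsol hO hI (oddX x hxX) hx1 hy hy1 hxy
    · exact core_fpf hsol hO hI (oddX x hxX) hx1 hvY hvv
        (((show Commute x v from hvx.symm).mul_right (show Commute x v from hvx.symm)))
  have habel : ∀ q r : H ⧸ N, q * r = r * q := by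
    intro q r
    obtain ⟨a, rfl⟩ := hgs q
    obtain ⟨b, rfl⟩ := hgs r
    have h1 : g (a * b * a⁻¹ * b⁻¹) = 1 := by
      rw [hg, QuotientGroup.mk'_apply, QuotientGroup.eq_one_iff, hsup, Subgroup.mem_comap]
      simpa using hFX (hcommF (f a) (f b))
    simp only [map_mul, map_inv] at h1
    rw [mul_inv_eq_one, mul_inv_eq_iff_eq_mul] at h1
    exact h1
  haveI : IsMulCommutative (H ⧸ N) := ⟨⟨habel⟩⟩
  by_contra hnc
  obtain ⟨q, E, hq, hE, hexp⟩ := CoprimeAct.exists_elementary_of_not_isCyclic hnc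
  have hq2 : q = 2 := by
    obtain ⟨i, hi⟩ := IsPGroup.iff_card.1 (hp.to_subgroup E)
    have : q ∣ 2 ^ i := hi ▸ hE ▸ dvd_pow_self q two_ne_zero
    exact (Nat.prime_dvd_prime_iff_eq hq Nat.prime_two).1 (hq.dvd_of_dvd_pow this)
  subst hq2
  -- at most one involution
  have lift : ∀ e ∈ E, e ≠ 1 → ∃ u : H, g u = e ∧ f u ^ 2 = 1 ∧ f u ≠ 1 := by
    intro e he he1
    obtain ⟨u, rfl⟩ := hgs e
    set m := Nat.card X' with hm
    have hodd : Odd m := by
      rw [← Nat.not_even_iff_odd]; exact fun h => hX'c.1 (even_iff_two_dvd.1 h)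
    have he2 : g u * g u = 1 := by
      rw [← pow_two]; exact congrArg Subtype.val (hexp ⟨_, he⟩)
    have hu2 : f u * f u ∈ X' := by
      rw [← map_mul, ← Subgroup.mem_comap, ← hsup, ← QuotientGroup.eq_one_iff]
      show g (u * u) = 1
      rw [map_mul]; exact he2
    refine ⟨u ^ m, ?_, ?_, ?_⟩
    · obtain ⟨i, hi⟩ := hodd
      rw [map_pow, hi, pow_succ, pow_mul, pow_two, he2, one_pow, one_mul]
    · rw [map_pow, ← pow_mul, mul_comm, pow_mul, pow_two]
      have : (⟨_, hu2⟩ : X') ^ m = 1 := pow_card_eq_one'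
      exact congrArg Subtype.val this
    · intro h
      refine he1 ?_
      have hmem : u ^ m ∈ N := by rw [hsup, Subgroup.mem_comap, h]; exact one_mem _
      obtain ⟨i, hi⟩ := hodd
      have hgm : g (u ^ m) = 1 := by rw [hg, QuotientGroup.mk'_apply, QuotientGroup.eq_one_iff]; exact hmem
      rwa [map_pow, hi, pow_succ, pow_mul, pow_two, he2, one_pow, one_mul] at hgm
  have hinv : ∀ u : H, f u ^ 2 = 1 → f u ≠ 1 → ∀ a ∈ F, f u * a * (f u)⁻¹ = a⁻¹ := by
    intro u hu2 hu1 a ha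
    have h1 := hFn.conj_mem a ha (f u)
    have hui : (f u)⁻¹ = f u := inv_eq_of_mul_eq_one_right (by rw [← pow_two]; exact hu2)
    have h2 : f u * (a * (f u * a * (f u)⁻¹)) * (f u)⁻¹ = a * (f u * a * (f u)⁻¹) := by
      calc f u * (a * (f u * a * (f u)⁻¹)) * (f u)⁻¹
          = (f u * a * (f u)⁻¹) * ((f u) ^ 2 * a * ((f u) ^ 2)⁻¹) := by group
        _ = (f u * a * (f u)⁻¹) * a := by rw [hu2, inv_one, mul_one, one_mul]
        _ = a * (f u * a * (f u)⁻¹) := setLike_mul_comm (s := F) h1 ha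
    exact eq_inv_of_mul_eq_one_right
      (hinvol u hu2 hu1 _ (mul_mem ha h1) (mul_inv_eq_iff_eq_mul.1 h2))
  have huniq : ∀ e ∈ E, ∀ e' ∈ E, e ≠ 1 → e' ≠ 1 → e = e' := by
    intro e he e' he' h1 h1'
    obtain ⟨u, rfl, hu2, hu1⟩ := lift e he h1
    obtain ⟨v, rfl, hv2, hv1⟩ := lift e' he' h1'
    have hmem : f (u * v) ∈ F := by
      refine hCF (Subgroup.mem_centralizer_iff.2 fun a ha => ?_)
      have : f (u * v) * a * (f (u * v))⁻¹ = a := by
        rw [map_mul, show f u * f v * a * (f u * f v)⁻¹ = f u * (f v * a * (f v)⁻¹) * (f u)⁻¹ by group,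
          hinv v hv2 hv1 a ha, hinv u hu2 hu1 _ (inv_mem ha), inv_inv]
      exact (mul_inv_eq_iff_eq_mul.1 this).symm
    have hN' : g (u * v) = 1 := by
      rw [hg, QuotientGroup.mk'_apply, QuotientGroup.eq_one_iff, hsup]
      exact hFX hmem
    rw [map_mul, mul_eq_one_iff_eq_inv] at hN'
    rw [hN', inv_eq_iff_mul_eq_one, ← pow_two]
    exact congrArg Subtype.val (hexp ⟨_, he'⟩)
  obtain ⟨e, he, he1⟩ := E.bot_or_exists_ne_one.resolve_left (fun h => by
    rw [h, Subgroup.card_bot] at hE; norm_num at hE)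
  have hEle : E ≤ Subgroup.zpowers e := fun e' he' => by
    by_cases h : e' = 1
    · rw [h]; exact one_mem _
    · rw [huniq e' he' e he h he1]; exact Subgroup.mem_zpowers e
  have := Nat.le_of_dvd Nat.card_pos (Subgroup.card_dvd_of_le hEle)
  rw [Nat.card_zpowers, hE] at this
  have h2 : orderOf e ∣ 2 := orderOf_dvd_of_pow_eq_one (congrArg Subtype.val (hexp ⟨_, he⟩))
  have := Nat.le_of_dvd two_pos h2
  omega

end Cfsg.Agent.S3215
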