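import Cfsg.Statements.S3225
import Mathlib.GroupTheory.Transfer
import Mathlib.Data.ZMod.Basic

set_option autoImplicit false
open Cfsg

namespace Cfsg.Agent.S3225


/-- Let G be a finite group of even order with no subgroup of index 2, S a Sylow 2-subgroup of G and M a subgroup of index 2 in S such that, for some n ≥ 1, every element of S outside M has order greater than 2^(n−1). Then every element of S of order 2ⁿ is conjugate in G to an element of M. -/
theorem result {G : Type*} [Group G] [Finite G] (hev : Even (Nat.card G))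
    (hG : ∀ H : Subgroup G, H.index ≠ 2) (S : Sylow 2 G) (M : Subgroup G) (hMS : M ≤ (S : Subgroup G)) (hM : M.relIndex (S : Subgroup G) = 2)
    (n : ℕ) (hn : 1 ≤ n) (hord : ∀ y ∈ (S : Subgroup G), y ∉ M → 2 ^ (n - 1) < orderOf y)
    (x : G) (hx : x ∈ (S : Subgroup G)) (hxn : orderOf x = 2 ^ n) :
    ∃ g : G, g * x * g⁻¹ ∈ M := by
  classical
  by_contra hcon
  push_neg at hcon
  have : Fact (Nat.Prime 2) := ⟨Nat.prime_two⟩
  set H : Subgroup G := (S : Subgroup G)
  have hMi : (M.subgroupOf H).index = 2 := hM
  let ϕ : ↥H →* Multiplicative (ZMod 2) :=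
    { toFun := fun s => if s ∈ M.subgroupOf H then 1 else Multiplicative.ofAdd 1
      map_one' := by simp
      map_mul' := fun a b => by
        simp only [Subgroup.mul_mem_iff_of_index_two hMi]
        by_cases ha : a ∈ M.subgroupOf H <;> by_cases hb : b ∈ M.subgroupOf H <;> simp [ha, hb] <;> decide }
  have hodd : ¬ 2 ∣ H.index := S.not_dvd_index
  let V := MonoidHom.transfer ϕ
  have : Fintype (Quotient (MulAction.orbitRel (Subgroup.zpowers x) (G ⧸ H))) := Fintype.ofFinite _
  have hterm : ∀ q : Quotient (MulAction.orbitRel (Subgroup.zpowers x) (G ⧸ H)),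
      ϕ ⟨q.out.out⁻¹ * x ^ Function.minimalPeriod (x • ·) q.out * q.out.out,
          QuotientGroup.out_conj_pow_minimalPeriod_mem H x q.out⟩ =
        Multiplicative.ofAdd ((Function.minimalPeriod (x • ·) q.out : ℕ) : ZMod 2) := by
    intro q
    set r := Function.minimalPeriod (x • ·) q.out with hr
    set g := q.out.out
    have hrdvd : r ∣ 2 ^ n := by
      refine Function.IsPeriodicPt.minimalPeriod_dvd ?_
      rw [← hxn]
      show (x • ·)^[orderOf x] q.out = q.out
      rw [smul_iterate]
      simp [pow_orderOf_eq_one]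
    obtain ⟨i, hi, hri⟩ := (Nat.dvd_prime_pow Nat.prime_two).mp hrdvd
    rcases Nat.eq_zero_or_pos i with rfl | hi0
    · have hr1 : r = 1 := by simpa using hri
      have : g⁻¹ * x ^ r * g ∉ M := by
        have := hcon g⁻¹
        rw [inv_inv] at this
        simpa [hr1] using this
      show (if (g⁻¹ * x ^ r * g) ∈ M then (1 : Multiplicative (ZMod 2)) else Multiplicative.ofAdd 1) = Multiplicative.ofAdd (r : ZMod 2)
      rw [if_neg this, hr1, Nat.cast_one]
    · have hmem : g⁻¹ * x ^ r * g ∈ M := by
        by_contra hnot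
        have hlt := hord _ (QuotientGroup.out_conj_pow_minimalPeriod_mem H x q.out) hnot
        have hpow : (g⁻¹ * x ^ r * g) ^ (2 ^ (n - 1)) = 1 := by
          have := conj_pow (a := g⁻¹) (b := x ^ r) (i := 2 ^ (n - 1))
          rw [inv_inv] at this
          rw [this, ← pow_mul]
          have : orderOf x ∣ r * 2 ^ (n - 1) := by
            rw [hxn, hri, ← pow_add]; exact pow_dvd_pow 2 (by omega)
          rw [orderOf_dvd_iff_pow_eq_one.mp this]; simp
        exact absurd (orderOf_le_of_pow_eq_one (by positivity) hpow) (not_le.mpr hlt)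
      have hcast : ((r : ℕ) : ZMod 2) = 0 := by
        rw [ZMod.natCast_eq_zero_iff, hri]; exact dvd_pow_self 2 hi0.ne'
      show (if (g⁻¹ * x ^ r * g) ∈ M then (1 : Multiplicative (ZMod 2)) else Multiplicative.ofAdd 1) = Multiplicative.ofAdd (r : ZMod 2)
      rw [if_pos hmem, hcast, ofAdd_zero]
  have hV : V x = Multiplicative.ofAdd 1 := by
    rw [show V x = _ from MonoidHom.transfer_eq_prod_quotient_orbitRel_zpowers_quot ϕ x]
    simp only [hterm]
    rw [← ofAdd_sum, ← Nat.cast_sum]
    congr 1
    let := H.fintypeQuotientOfFiniteIndex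
    rw [← Subgroup.index_eq_sum_minimalPeriod H x]
    have : H.index % 2 = 1 := by omega
    rw [(ZMod.natCast_eq_natCast_iff' H.index 1 2).mpr (by omega), Nat.cast_one]
  refine hG V.ker ?_
  rw [Subgroup.index_ker]
  have : V.range = ⊤ := by
    rw [eq_top_iff]
    intro a _
    have ha : a = 1 ∨ a = Multiplicative.ofAdd 1 := by
      clear * -; fin_cases a
      · exact Or.inl rfl
      · exact Or.inr rfl
    rcases ha with rfl | rfl
    · exact one_mem _
    · exact ⟨x, hV⟩
  rw [this, Subgroup.card_top]
  simp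

end Cfsg.Agent.S3225
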