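import Cfsg.Statements.S3244
import Cfsg.Agent.S3110
import Cfsg.Agent.Lib.Techniques.PConstrained
import Cfsg.Agent.Lib.BrauerSuzuki.ZStar

set_option autoImplicit false
open Cfsg

namespace Cfsg.Agent.S3244

open Subgroup
open Cfsg.Agent.PBasic Cfsg.Agent.CharP Cfsg.Agent.PConstr

universe u

variable {G : Type u} [Group G] [Finite G]

/-- The centre of every local subgroup's `O₂` being cyclic, all involutions of a centre agree. -/
theorem eq_of_cyclic_center {M : Subgroup G} (hc : IsCyclic ↥(center ↥(Cfsg.pCore 2 ↥M)))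
    {a b : G} (ha : orderOf a = 2) (hb : orderOf b = 2) (ha' : a ∈ opIn 2 M) (hb' : b ∈ opIn 2 M)
    (hac : ∀ y ∈ opIn 2 M, a * y = y * a) (hbc : ∀ y ∈ opIn 2 M, b * y = y * b) : a = b := by
  classical
  haveI := hc
  obtain ⟨a₁, ha₁, rfl⟩ := ha'
  obtain ⟨b₁, hb₁, rfl⟩ := hb'
  have hca : (⟨a₁, ha₁⟩ : ↥(Cfsg.pCore 2 ↥M)) ∈ center ↥(Cfsg.pCore 2 ↥M) :=
    mem_center_iff.2 fun y => Subtype.ext (Subtype.ext (hac _ ⟨y, y.2, rfl⟩).symm)
  have hcb : (⟨b₁, hb₁⟩ : ↥(Cfsg.pCore 2 ↥M)) ∈ center ↥(Cfsg.pCore 2 ↥M) :=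
    mem_center_iff.2 fun y => Subtype.ext (Subtype.ext (hbc _ ⟨y, y.2, rfl⟩).symm)
  have hoa : orderOf (⟨_, hca⟩ : ↥(center ↥(Cfsg.pCore 2 ↥M))) = 2 := by
    refine Eq.trans ?_ ha
    rw [← orderOf_coe, ← orderOf_coe, ← orderOf_coe]; rfl
  have hob : orderOf (⟨_, hcb⟩ : ↥(center ↥(Cfsg.pCore 2 ↥M))) = 2 := by
    refine Eq.trans ?_ hb
    rw [← orderOf_coe, ← orderOf_coe, ← orderOf_coe]; rfl
  haveI : Fintype ↥(center ↥(Cfsg.pCore 2 ↥M)) := Fintype.ofFinite _
  have hd : 2 ∣ Fintype.card ↥(center ↥(Cfsg.pCore 2 ↥M)) := dvd_trans (dvd_of_eq hoa.symm) orderOf_dvd_card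
  have h1 := IsCyclic.card_orderOf_eq_totient hd
  rw [Nat.totient_two, Finset.card_eq_one] at h1
  obtain ⟨w, hw⟩ := h1
  have hA : (⟨_, hca⟩ : ↥(center ↥(Cfsg.pCore 2 ↥M))) ∈ ({w} : Finset _) :=
    hw ▸ Finset.mem_filter.2 ⟨Finset.mem_univ _, hoa⟩
  have hB : (⟨_, hcb⟩ : ↥(center ↥(Cfsg.pCore 2 ↥M))) ∈ ({w} : Finset _) :=
    hw ▸ Finset.mem_filter.2 ⟨Finset.mem_univ _, hob⟩
  rw [Finset.mem_singleton] at hA hB
  exact congrArg (fun x : ↥(center ↥(Cfsg.pCore 2 ↥M)) => ((x : ↥(Cfsg.pCore 2 ↥M)) : ↥M).1)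
    (hA.trans hB.symm)

omit [Finite G] in
theorem orderOf_conjugate (k x : G) : orderOf (k * x * k⁻¹) = orderOf x :=
  orderOf_injective (MulAut.conj k).toMonoidHom (MulAut.conj k).injective x

/-- In a group of characteristic two, a `2`-element centralising `O₂` lies in it. -/
theorem mem_opIn_of_commute {M : Subgroup G} (hM : IsCharP 2 ↥M) {x : G} (hx : x ∈ M)
    (hc : ∀ y ∈ opIn 2 M, x * y = y * x) : x ∈ opIn 2 M :=
  ⟨⟨x, hx⟩, hM (mem_centralizer_iff.2 fun y hy => Subtype.ext (hc y ⟨y, hy, rfl⟩).symm), rfl⟩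

/-- The centraliser of an element is the normaliser of the subgroup it generates, for involutions. -/
theorem normalizer_zpowers {z : G} (hz : orderOf z = 2) :
    normalizer ((zpowers z : Subgroup G) : Set G) = centralizer ({z} : Set G) := by
  have hz1 : z ≠ 1 := fun e => by rw [e, orderOf_one] at hz; omega
  have hmem : ∀ w ∈ zpowers z, w ≠ 1 → w = z := by
    intro w hw hw1
    obtain ⟨k, rfl⟩ := mem_zpowers_iff.1 hw
    rw [← zpow_mod_orderOf z k, hz]
    rcases Int.emod_two_eq_zero_or_one k with e | e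
    · refine absurd ?_ hw1
      rw [← zpow_mod_orderOf z k, hz]
      push_cast
      rw [e, zpow_zero]
    · push_cast
      rw [e, zpow_one]
  refine le_antisymm (fun g hg => ?_) ?_
  · have h1 := (mem_normalizer_iff.1 hg z).1 (mem_zpowers z)
    have h2 := hmem _ h1 (fun e => hz1 (by simpa [mul_inv_eq_one] using e))
    rw [mem_centralizer_singleton_iff]
    exact mul_inv_eq_iff_eq_mul.1 h2
  · rw [← centralizer_closure, ← zpowers_eq_closure]
    exact centralizer_le_normalizer _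

/-- Every 2-local subgroup lies in a maximal one. -/
theorem exists_maximal {N : Subgroup G} (hN : Cfsg.IsTwoLocal N) :
    ∃ M, Cfsg.IsMaximalTwoLocal M ∧ N ≤ M := by
  obtain ⟨M, ⟨hM, hNM⟩, hmax⟩ :=
    (Set.toFinite {M : Subgroup G | Cfsg.IsTwoLocal M ∧ N ≤ M}).exists_maximal ⟨N, hN, le_rfl⟩
  exact ⟨M, ⟨hM, fun K hK hle => le_antisymm (hmax ⟨hK, hNM.trans hle⟩ hle) hle⟩, hNM⟩

theorem twoLocal_centralizer {z : G} (hz : orderOf z = 2) :
    Cfsg.IsTwoLocal (centralizer ({z} : Set G)) := by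
  refine ⟨zpowers z, IsPGroup.of_card (n := 1) (by rw [Nat.card_zpowers, hz]; rfl), ?_,
    (normalizer_zpowers hz).symm⟩
  rw [Ne, zpowers_eq_bot]
  rintro rfl
  rw [orderOf_one] at hz
  omega

/-- All local subgroups have characteristic two. -/
theorem charTwo (S : Sylow 2 G) (A : Subgroup G) (hA : Cfsg.IsSCN (S : Subgroup G) A)
    (hA3 : ¬ Cfsg.PRankLE 2 2 ↥A)
    (hinv : ∀ X : Subgroup G, Odd (Nat.card ↥X) → (S : Subgroup G) ≤ normalizer (X : Set G) → X = ⊥)
    (hcon : ∀ T : Subgroup G, IsPGroup 2 T → T ≠ ⊥ → Cfsg.IsPConstrained 2 ↥(normalizer (T : Set G)))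
    {T : Subgroup G} (hT : IsPGroup 2 T) (hT1 : T ≠ ⊥) : IsCharP 2 ↥(normalizer (T : Set G)) := by
  haveI : Fact (Nat.Prime 2) := ⟨Nat.prime_two⟩
  obtain ⟨hAS, hSA, hAC⟩ := hA
  set A' := A.subgroupOf (S : Subgroup G) with hA'
  have habel : ∀ a ∈ A, ∀ b ∈ A, a * b = b * a := fun a ha b hb => by
    have h1 : a ∈ centralizer (A : Set G) := (hAC.symm.le ha).2
    exact (mem_centralizer_iff.1 h1 b hb).symm
  have hn : A'.Normal := (normal_subgroupOf_iff_le_normalizer hAS).2 hSA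
  have hab : IsMulCommutative ↥A' :=
    .of_setLike_mul_comm fun x hx y hy => Subtype.ext (habel x hx y hy)
  have hCA : centralizer (A' : Set ↥(S : Subgroup G)) = A' := by
    ext x
    rw [mem_centralizer_iff]
    refine ⟨fun h => ?_, fun hx y hy => Subtype.ext (habel y hy x hx)⟩
    refine mem_subgroupOf.2 (hAC.le ⟨x.2, mem_centralizer_iff.2 fun a ha => ?_⟩)
    exact congrArg Subtype.val (h ⟨a, hAS ha⟩ ha)
  have h3 : ¬ Cfsg.PRankLE 2 2 ↥A' := by
    intro h
    refine hA3 fun E hEc hE2 => ?_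
    have h1 := h (E.map (subgroupOfEquivOfLe hAS).symm.toMonoidHom) (.of_setLike_mul_comm ?_) ?_
    · rwa [card_map_of_injective (subgroupOfEquivOfLe hAS).symm.injective] at h1
    · rintro _ ⟨x, hx, rfl⟩ _ ⟨y, hy, rfl⟩
      rw [← map_mul, ← map_mul]
      exact congrArg _ (congrArg Subtype.val (hEc.is_comm.comm ⟨x, hx⟩ ⟨y, hy⟩))
    · rintro _ ⟨x, hx, rfl⟩
      rw [← map_pow, hE2 x hx, map_one]
  -- the cores of the centralisers of involutions are trivial
  have hcore : ∀ t : G, orderOf t = 2 → Cfsg.oddCore ↥(centralizer ({t} : Set G)) = ⊥ := by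
    intro t ht
    obtain ⟨S', hS'⟩ := (IsPGroup.of_card (n := 1) (by rw [Nat.card_zpowers, ht]; rfl) :
      IsPGroup 2 (zpowers t)).exists_le_sylow
    have hr : ¬ Cfsg.PRankLE 2 1 ↥(S' : Subgroup G) := by
      intro h
      unfold Cfsg.PRankLE at h3
      push Not at h3
      obtain ⟨E, hEc, hE2, hE4⟩ := h3
      let f : ↥A' →* ↥(S' : Subgroup G) := (S.equiv S').toMonoidHom.comp A'.subtype
      have hf : Function.Injective f := (S.equiv S').injective.comp A'.subtype_injective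
      have h1 := h (E.map f) (.of_setLike_mul_comm ?_) ?_
      · rw [card_map_of_injective hf] at h1
        omega
      · rintro _ ⟨x, hx, rfl⟩ _ ⟨y, hy, rfl⟩
        rw [← map_mul, ← map_mul]
        exact congrArg _ (congrArg Subtype.val (hEc.is_comm.comm ⟨x, hx⟩ ⟨y, hy⟩))
      · rintro _ ⟨x, hx, rfl⟩
        rw [← map_pow, hE2 x hx, map_one]
    obtain ⟨W, hW, hWB⟩ := S3110.result hcon S A' hn hab hCA h3 S'
    obtain ⟨heq, hnorm⟩ := hWB _ le_rfl hr
    obtain ⟨g, hg⟩ := MulAction.exists_smul_eq G S S'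
    have hW1 : W = ⊥ := by
      have h1 : W.map (MulAut.conj g⁻¹).toMonoidHom = ⊥ := by
        refine hinv _ ?_ fun s hs => ?_
        · rwa [card_map_of_injective (MulAut.conj g⁻¹).injective]
        · have hs' : g * s * g⁻¹ ∈ (S' : Subgroup G) := by
            rw [← hg, Sylow.coe_subgroup_smul, mem_pointwise_smul_iff_inv_smul_mem]
            simpa [MulAut.smul_def, MulAut.conj_inv_apply, mul_assoc] using hs
          refine le_normalizer_map _ ⟨g * s * g⁻¹, hnorm (le_normalizer hs'), ?_⟩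
          simp [MulAut.conj_apply, mul_assoc]
      exact (map_eq_bot_iff_of_injective W (MulAut.conj g⁻¹).injective).1 h1
    have h1 : Cfsg.centralizerPPrimeCore 2 t ≤ W := by
      rw [heq]
      exact le_iSup (fun b : {b : G // b ∈ (S' : Subgroup G) ∧ b ≠ 1} =>
        Cfsg.centralizerPPrimeCore 2 (b : G))
        ⟨t, hS' (mem_zpowers t), fun e => by rw [e, orderOf_one] at ht; omega⟩
    rw [hW1, le_bot_iff] at h1
    exact (map_eq_bot_iff_of_injective _ (subtype_injective _)).1 h1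
  haveI : Nontrivial ↥T := T.nontrivial_iff_ne_bot.2 hT1
  obtain ⟨n, hn0, hn'⟩ := (IsPGroup.nontrivial_iff_card hT).1 inferInstance
  obtain ⟨c, hc⟩ := exists_prime_orderOf_dvd_card' (G := ↥T) 2 (hn' ▸ dvd_pow_self 2 hn0.ne')
  have hco : orderOf (c : G) = 2 := by rw [orderOf_coe, hc]
  refine isCharP_normalizer_of_mem hT c.2 (isCharP_of_isPConstrained ?_ (hcore _ hco))
  exact OddDown.CoreSub.constrained_centralizer hcon hco

/-- The group-theoretic heart: distinguished commuting conjugates of `z₀` cannot exist. -/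
theorem false_of_twoLocals [IsSimpleGroup G] (hG : ¬ IsMulCommutative G) (S : Sylow 2 G)
    {z₀ : G} (hz : orderOf z₀ = 2) (hzS : z₀ ∈ (S : Subgroup G))
    (hSz : (S : Subgroup G) ≤ centralizer ({z₀} : Set G))
    (huniq : ∀ (P : Sylow 2 G) (a b : G), a ∈ (P : Subgroup G) → b ∈ (P : Subgroup G) →
      orderOf a = 2 → orderOf b = 2 → (∀ x ∈ (P : Subgroup G), a * x = x * a) →
      (∀ x ∈ (P : Subgroup G), b * x = x * b) → a = b)
    (hloc : ∀ T : Subgroup G, IsPGroup 2 T → T ≠ ⊥ →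
      ∃ h : G, normalizer (T : Set G) ≤ centralizer ({h * z₀ * h⁻¹} : Set G)) : False := by
  haveI : Fact (Nat.Prime 2) := ⟨Nat.prime_two⟩
  -- commuting distinct conjugates exist
  obtain ⟨g₀, hg₀c, hg₀n⟩ : ∃ g : G, Commute z₀ (g * z₀ * g⁻¹) ∧ g * z₀ * g⁻¹ ≠ z₀ := by
    by_contra hcon
    push Not at hcon
    have hZ := BrauerSuzuki.zStar G z₀ hz hcon
    have hn : (Cfsg.pPrimeCore 2 G).Normal := FittingCores.pPrimeCore_normal 2
    rcases hn.eq_bot_or_eq_top with e | e
    · have hcen : z₀ ∈ center G := mem_center_iff.2 fun g => by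
        have h1 := hZ g
        rw [e, mem_bot] at h1
        exact mul_inv_eq_iff_eq_mul.1 (mul_inv_eq_one.1 h1)
      rcases (inferInstance : (center G).Normal).eq_bot_or_eq_top with hc | hc
      · rw [hc, mem_bot] at hcen
        rw [hcen, orderOf_one] at hz; omega
      · exact hG ⟨⟨fun a b => mem_center_iff.1 (hc ▸ mem_top b) a⟩⟩
    · have hcop := FittingCores.pPrimeCore_coprime (G := G) 2
      rw [e, card_top] at hcop
      have : 2 ∣ Nat.card G := hz ▸ orderOf_dvd_natCard z₀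
      exact Nat.prime_two.coprime_iff_not_dvd.1 hcop.symm this
  set D : G → Subgroup G := fun g =>
    centralizer ({z₀} : Set G) ⊓ centralizer ({g * z₀ * g⁻¹} : Set G) with hD
  set f : G → ℕ := fun g => (Nat.card ↥(D g)).factorization 2 with hf
  obtain ⟨g, ⟨hgc, hgn⟩, hmax⟩ := Set.exists_max_image
    {g : G | Commute z₀ (g * z₀ * g⁻¹) ∧ g * z₀ * g⁻¹ ≠ z₀} f (Set.toFinite _) ⟨g₀, hg₀c, hg₀n⟩
  set z := g * z₀ * g⁻¹ with hzdef
  have hz2 : orderOf z = 2 := by rw [hzdef, orderOf_conjugate, hz]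
  set T₁ : Sylow 2 ↥(D g) := default
  set T : Subgroup G := (T₁ : Subgroup ↥(D g)).map (D g).subtype with hT
  have hTp : IsPGroup 2 T := T₁.isPGroup'.map _
  have hTD : T ≤ D g := map_subtype_le _
  have hTc : Nat.card T = 2 ^ f g := by
    rw [hT, card_map_of_injective (D g).subtype_injective]
    exact T₁.card_eq_multiplicity
  -- central involutions of `D g` lie in `T`
  have hin : ∀ w : G, orderOf w = 2 → w ∈ D g → (∀ d ∈ T, w * d = d * w) → w ∈ T := by
    intro w hw hwD hwc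
    have hwp : IsPGroup 2 (zpowers (⟨w, hwD⟩ : ↥(D g))) := IsPGroup.of_card (n := 1) (by
      rw [Nat.card_zpowers, ← orderOf_coe, hw]; rfl)
    have hsup : IsPGroup 2 ((T₁ : Subgroup ↥(D g)) ⊔ zpowers (⟨w, hwD⟩ : ↥(D g)) : Subgroup ↥(D g)) := by
      refine T₁.isPGroup'.to_sup_of_normal_left' hwp (zpowers_le.2 (mem_normalizer_iff.2 fun d => ?_))
      constructor
      · intro hd
        have h1 : (⟨w, hwD⟩ : ↥(D g)) * d * (⟨w, hwD⟩ : ↥(D g))⁻¹ = d := mul_inv_eq_iff_eq_mul.2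
          (Subtype.ext (hwc d ⟨d, hd, rfl⟩))
        rwa [h1]
      · intro hd
        have h1 := hwc _ ⟨_, hd, rfl⟩
        simp only [coe_subtype, coe_mul, coe_inv] at h1
        have h2 : (⟨w, hwD⟩ : ↥(D g)) * d * (⟨w, hwD⟩ : ↥(D g))⁻¹ = d := Subtype.ext (by
          simp only [coe_mul, coe_inv]
          have h3 : w * (w * (d : G) * w⁻¹) * w⁻¹ = w * (d : G) * w⁻¹ := by
            rw [h1]; group
          calc w * (d : G) * w⁻¹ = w⁻¹ * (w * (w * (d : G) * w⁻¹) * w⁻¹) * w := by group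
            _ = w⁻¹ * (w * (d : G) * w⁻¹) * w := by rw [h3]
            _ = (d : G) := by group)
        rwa [h2] at hd
    have hmem : (⟨w, hwD⟩ : ↥(D g)) ∈ (T₁ : Subgroup ↥(D g)) := by
      rw [← T₁.is_maximal' hsup le_sup_left]
      exact mem_sup_right (mem_zpowers _)
    exact ⟨_, hmem, rfl⟩
  have hz0T : z₀ ∈ T := hin z₀ hz ⟨mem_centralizer_singleton_iff.2 rfl,
    mem_centralizer_singleton_iff.2 hgc.eq⟩ fun d hd =>
      (mem_centralizer_singleton_iff.1 (hTD hd).1).symm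
  have hzT : z ∈ T := hin z hz2 ⟨mem_centralizer_singleton_iff.2 hgc.eq.symm,
    mem_centralizer_singleton_iff.2 rfl⟩ fun d hd =>
      (mem_centralizer_singleton_iff.1 (hTD hd).2).symm
  have hT1 : T ≠ ⊥ := fun e => by
    rw [e, mem_bot] at hz0T
    rw [hz0T, orderOf_one] at hz; omega
  obtain ⟨h, hh⟩ := hloc T hTp hT1
  set w := h * z₀ * h⁻¹ with hwdef
  -- `w` equals every conjugate of `z₀` in `T` whose centraliser in `N(T)` is larger
  have key : ∀ (a b k k' : G), a = k * z₀ * k⁻¹ → b = k' * z₀ * k'⁻¹ → a ∈ T → b ∈ T → a ≠ b →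
      (∀ d ∈ T, a * d = d * a) → (∀ d ∈ T, b * d = d * b) → w = a := by
    intro a b k k' ha hk' haT hbT hne hac hbc
    have ha2 : orderOf a = 2 := by rw [ha, orderOf_conjugate, hz]
    have hb2 : orderOf b = 2 := by rw [hk', orderOf_conjugate, hz]
    -- a Sylow subgroup of `G` above `T` centralising `a`
    obtain ⟨P₁, hP₁⟩ : ∃ P₁ : Sylow 2 ↥(centralizer ({a} : Set G)),
        T.subgroupOf (centralizer ({a} : Set G)) ≤ P₁ :=
      (hTp.comap_subtype : IsPGroup 2 (T.subgroupOf (centralizer ({a} : Set G)))).exists_le_sylow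
    set P : Subgroup G := (P₁ : Subgroup ↥(centralizer ({a} : Set G))).map (centralizer ({a} : Set G)).subtype
    have hTa : T ≤ centralizer ({a} : Set G) := fun d hd =>
      mem_centralizer_singleton_iff.2 (hac d hd).symm
    have hTP : T ≤ P := fun d hd => ⟨⟨d, hTa hd⟩, hP₁ hd, rfl⟩
    have hPp : IsPGroup 2 P := P₁.isPGroup'.map _
    have hPa : P ≤ centralizer ({a} : Set G) := map_subtype_le _
    -- `P` is a Sylow subgroup of `G`
    have hPS : Nat.card (S : Subgroup G) ≤ Nat.card P := by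
      have hSa : ∀ s ∈ (S : Subgroup G), k * s * k⁻¹ ∈ centralizer ({a} : Set G) := fun s hs => by
        have h1 := mem_centralizer_singleton_iff.1 (hSz hs)
        rw [mem_centralizer_singleton_iff, ha]
        calc k * s * k⁻¹ * (k * z₀ * k⁻¹) = k * (s * z₀) * k⁻¹ := by group
          _ = k * (z₀ * s) * k⁻¹ := by rw [h1]
          _ = k * z₀ * k⁻¹ * (k * s * k⁻¹) := by group
      have hle : (S : Subgroup G).map (MulAut.conj k).toMonoidHom ≤ centralizer ({a} : Set G) := by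
        rintro _ ⟨s, hs, rfl⟩
        exact hSa s hs
      have hp : IsPGroup 2 (((S : Subgroup G).map (MulAut.conj k).toMonoidHom).subgroupOf
          (centralizer ({a} : Set G))) := (S.isPGroup'.map _).comap_subtype
      obtain ⟨Q, hQ⟩ := hp.exists_le_sylow
      have h1 := Nat.le_of_dvd Nat.card_pos (card_dvd_of_le hQ)
      rw [Nat.card_congr (subgroupOfEquivOfLe hle).toEquiv,
        card_map_of_injective (MulAut.conj k).injective] at h1
      rw [card_map_of_injective (centralizer ({a} : Set G)).subtype_injective, P₁.card_eq_multiplicity,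
        ← Q.card_eq_multiplicity]
      exact h1
    obtain ⟨P', hP'⟩ := hPp.exists_le_sylow
    have hPeq : (P' : Subgroup G) = P := by
      refine (eq_of_le_of_card_ge hP' ?_).symm
      rw [P'.card_eq_multiplicity, ← S.card_eq_multiplicity]
      exact hPS
    have hlt : T < P := by
      refine lt_of_le_of_ne hTP fun e => hne ?_
      have hbP : b ∈ P := hTP hbT
      refine huniq P' a b (hPeq ▸ hTP haT) (hPeq ▸ hbP) ha2 hb2 ?_ ?_
      · rw [hPeq, ← e]; exact hac
      · rw [hPeq, ← e]; exact hbc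
    set R := P ⊓ normalizer (T : Set G) with hR
    have hTR : T ≤ R := le_inf hTP le_normalizer
    have hRlt : T < R := by
      have hlt' : T.subgroupOf P < ⊤ := by
        rw [lt_top_iff_ne_top, Ne, subgroupOf_eq_top]
        exact not_le_of_gt hlt
      haveI : Group.IsNilpotent P := hPp.isNilpotent
      obtain ⟨⟨y, hyP⟩, hyN, hyT⟩ := SetLike.exists_of_lt
        (Group.normalizerCondition_of_isNilpotent (G := P) (T.subgroupOf P) hlt')
      refine SetLike.lt_iff_le_and_exists.2 ⟨hTR, y, mem_inf.2 ⟨hyP, mem_normalizer_iff.2 fun x => ?_⟩, hyT⟩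
      constructor
      · intro hx
        exact mem_subgroupOf.1 ((mem_normalizer_iff.1 hyN ⟨x, hTP hx⟩).1 hx)
      · intro hx
        have h1 := (mem_normalizer_iff.1 hyN ⟨x, ?_⟩).2 hx
        · exact mem_subgroupOf.1 h1
        · simpa [mul_assoc] using mul_mem (mul_mem (inv_mem hyP) (hTP hx)) hyP
    by_contra hwa
    -- otherwise the pair `(a, w)` beats the maximum
    set g' := k⁻¹ * h with hg'
    have hconj : g' * z₀ * g'⁻¹ = k⁻¹ * w * k := by rw [hg', hwdef]; group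
    have hak : k⁻¹ * a * k = z₀ := by rw [ha]; group
    have hwc : a * w = w * a :=
      mem_centralizer_singleton_iff.1 (hh (le_normalizer haT))
    have hmem : Commute z₀ (g' * z₀ * g'⁻¹) ∧ g' * z₀ * g'⁻¹ ≠ z₀ := by
      rw [hconj]
      refine ⟨?_, fun e => hwa ?_⟩
      · show z₀ * (k⁻¹ * w * k) = k⁻¹ * w * k * z₀
        rw [← hak]
        calc k⁻¹ * a * k * (k⁻¹ * w * k) = k⁻¹ * (a * w) * k := by group
          _ = k⁻¹ * (w * a) * k := by rw [hwc]
          _ = k⁻¹ * w * k * (k⁻¹ * a * k) := by group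
      · rw [← hak] at e
        exact mul_left_cancel (mul_right_cancel e)
    have hb := hmax g' hmem
    have hRD : R.map (MulAut.conj k⁻¹).toMonoidHom ≤ D g' := by
      rintro _ ⟨r, hr, rfl⟩
      have h1 := mem_centralizer_singleton_iff.1 (hPa hr.1)
      have h2 := mem_centralizer_singleton_iff.1 (hh hr.2)
      refine ⟨mem_centralizer_singleton_iff.2 ?_, mem_centralizer_singleton_iff.2 ?_⟩
      · simp only [MulEquiv.coe_toMonoidHom, MulAut.conj_apply, inv_inv]
        rw [← hak]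
        calc k⁻¹ * r * k * (k⁻¹ * a * k) = k⁻¹ * (r * a) * k := by group
          _ = k⁻¹ * (a * r) * k := by rw [h1]
          _ = k⁻¹ * a * k * (k⁻¹ * r * k) := by group
      · simp only [MulEquiv.coe_toMonoidHom, MulAut.conj_apply, inv_inv]
        rw [hconj]
        calc k⁻¹ * r * k * (k⁻¹ * w * k) = k⁻¹ * (r * w) * k := by group
          _ = k⁻¹ * (w * r) * k := by rw [h2]
          _ = k⁻¹ * w * k * (k⁻¹ * r * k) := by group
    have hRp : IsPGroup 2 ((R.map (MulAut.conj k⁻¹).toMonoidHom).subgroupOf (D g')) :=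
      ((hPp.to_le inf_le_left).map _).comap_subtype
    obtain ⟨Q, hQ⟩ := hRp.exists_le_sylow
    have h1 := Nat.le_of_dvd Nat.card_pos (card_dvd_of_le hQ)
    rw [Nat.card_congr (subgroupOfEquivOfLe hRD).toEquiv,
      card_map_of_injective (MulAut.conj k⁻¹).injective, Q.card_eq_multiplicity] at h1
    have h2 : 2 ^ f g < Nat.card R := by
      rw [← hTc]
      exact lt_of_le_of_ne (Nat.le_of_dvd Nat.card_pos (card_dvd_of_le hTR))
        fun e => hRlt.ne (eq_of_le_of_card_ge hTR e.ge)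
    have h3 : 2 ^ f g' ≤ 2 ^ f g := Nat.pow_le_pow_right (by norm_num) hb
    exact absurd (h2.trans_le h1) (not_lt.2 h3)
  have hT0 : ∀ d ∈ T, z₀ * d = d * z₀ := fun d hd =>
    (mem_centralizer_singleton_iff.1 (hTD hd).1).symm
  have hTz : ∀ d ∈ T, z * d = d * z := fun d hd =>
    (mem_centralizer_singleton_iff.1 (hTD hd).2).symm
  have e1 : w = z₀ := key z₀ z 1 g (by group) rfl hz0T hzT (Ne.symm hgn) hT0 hTz
  have e2 : w = z := key z z₀ g 1 rfl (by group) hzT hz0T hgn hTz hT0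
  exact hgn (e2.symm.trans e1)

/-- Say that a finite group G is of characteristic 2 type in the early sense when a Sylow 2-subgroup S of G has a self-centralizing normal subgroup of rank at least 3, S normalizes no nontrivial subgroup of odd order, and every 2-local subgroup of G is 2-constrained. If G is a non-abelian simple group of characteristic 2 type in this sense, then for some maximal 2-local subgroup M of G the centre of O₂(M) is not cyclic. -/
theorem result {G : Type*} [Group G] [Finite G] [IsSimpleGroup G]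
    (hG : ¬ IsMulCommutative G) (S : Sylow 2 G) (A : Subgroup G) (hA : Cfsg.IsSCN (S : Subgroup G) A) (hA3 : ¬ Cfsg.PRankLE 2 2 ↥A)
    (hinv : ∀ X : Subgroup G, Odd (Nat.card ↥X) → (S : Subgroup G) ≤ Subgroup.normalizer (X : Set G) → X = ⊥)
    (hcon : ∀ T : Subgroup G, IsPGroup 2 ↥T → T ≠ ⊥ → Cfsg.IsPConstrained 2 ↥(Subgroup.normalizer (T : Set G))) :
    ∃ M : Subgroup G, Cfsg.IsMaximalTwoLocal M ∧ ¬ IsCyclic ↥(Subgroup.center ↥(Cfsg.pCore 2 ↥M)) := by
  haveI : Fact (Nat.Prime 2) := ⟨Nat.prime_two⟩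
  by_contra hcyc
  push Not at hcyc
  -- a maximal local subgroup and its distinguished involution
  have hmax : ∀ M : Subgroup G, Cfsg.IsMaximalTwoLocal M →
      ∃ z : G, orderOf z = 2 ∧ z ∈ opIn 2 M ∧ (∀ y ∈ opIn 2 M, z * y = y * z) ∧
        M = Subgroup.centralizer ({z} : Set G) ∧
        (∀ a : G, orderOf a = 2 → a ∈ M → (∀ y ∈ opIn 2 M, a * y = y * a) → a = z) := by
    intro M hM
    obtain ⟨T, hT, hT1, hMT⟩ := hM.1
    have hTM : T ≤ M := hMT ▸ Subgroup.le_normalizer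
    have hTO : T ≤ opIn 2 M := le_opIn hTM hMT.le hT
    have hM2 : IsCharP 2 ↥M := by
      rw [hMT]
      exact charTwo S A hA hA3 hinv hcon hT hT1
    haveI : Nontrivial ↥(opIn 2 M) :=
      (opIn 2 M).nontrivial_iff_ne_bot.2 fun e => hT1 (le_bot_iff.1 (e ▸ hTO))
    haveI := (opIn_isPGroup (p := 2) M).center_nontrivial
    obtain ⟨n, hn0, hn⟩ := (IsPGroup.nontrivial_iff_card
      ((opIn_isPGroup (p := 2) M).to_subgroup (Subgroup.center ↥(opIn 2 M)))).1 inferInstance
    obtain ⟨c, hc⟩ := exists_prime_orderOf_dvd_card' (G := ↥(Subgroup.center ↥(opIn 2 M))) 2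
      (hn ▸ dvd_pow_self 2 hn0.ne')
    have hco : orderOf ((c : ↥(opIn 2 M)) : G) = 2 := by
      rw [Subgroup.orderOf_coe, Subgroup.orderOf_coe, hc]
    set z : G := ((c : ↥(opIn 2 M)) : G)
    have hzO : z ∈ opIn 2 M := (c : ↥(opIn 2 M)).2
    have hzc : ∀ y ∈ opIn 2 M, z * y = y * z := fun y hy =>
      (congrArg Subtype.val (Subgroup.mem_center_iff.1 c.2 ⟨y, hy⟩)).symm
    have huz : ∀ a : G, orderOf a = 2 → a ∈ M → (∀ y ∈ opIn 2 M, a * y = y * a) → a = z :=
      fun a ha haM hac => eq_of_cyclic_center (hcyc M hM) ha hco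
        (mem_opIn_of_commute hM2 haM hac) hzO hac hzc
    have hle : M ≤ Subgroup.centralizer ({z} : Set G) := by
      intro m hm
      rw [Subgroup.mem_centralizer_singleton_iff]
      refine mul_inv_eq_iff_eq_mul.1 (huz _ (by rw [orderOf_conjugate, hco])
        (mul_mem (mul_mem hm (opIn_le M hzO)) (inv_mem hm)) fun y hy => ?_)
      have hy' : m⁻¹ * y * m ∈ opIn 2 M := by
        simpa using conj_mem_opIn (p := 2) (Subgroup.le_normalizer (inv_mem hm)) hy
      calc m * z * m⁻¹ * y = m * (z * (m⁻¹ * y * m)) * m⁻¹ := by group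
        _ = m * (m⁻¹ * y * m * z) * m⁻¹ := by rw [hzc _ hy']
        _ = y * (m * z * m⁻¹) := by group
    exact ⟨z, hco, hzO, hzc, (hM.2 _ (twoLocal_centralizer hco) hle).symm, huz⟩
  -- central involutions of Sylow subgroups are unique
  have huniq : ∀ (P : Sylow 2 G) (a b : G), a ∈ (P : Subgroup G) → b ∈ (P : Subgroup G) →
      orderOf a = 2 → orderOf b = 2 → (∀ x ∈ (P : Subgroup G), a * x = x * a) →
      (∀ x ∈ (P : Subgroup G), b * x = x * b) → a = b := by
    intro P a b ha hb ha2 hb2 hac hbc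
    obtain ⟨M, hM, hle⟩ := exists_maximal (twoLocal_centralizer ha2)
    have hPM : (P : Subgroup G) ≤ M := fun x hx =>
      hle (Subgroup.mem_centralizer_singleton_iff.2 (hac x hx).symm)
    obtain ⟨z, hz, hzO, hzc, hMz, huz⟩ := hmax M hM
    have hOP : opIn 2 M ≤ (P : Subgroup G) := by
      rintro _ ⟨y, hy, rfl⟩
      exact Subgroup.mem_subgroupOf.1 (pCore_le_sylow (P.subtype hPM) hy)
    rw [huz a ha2 (hPM ha) fun y hy => hac y (hOP hy), huz b hb2 (hPM hb) fun y hy => hbc y (hOP hy)]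
  -- a central involution of `S`
  obtain ⟨z₀, hz₀, hz₀S, hz₀c⟩ : ∃ z₀ : G, orderOf z₀ = 2 ∧ z₀ ∈ (S : Subgroup G) ∧
      ∀ x ∈ (S : Subgroup G), z₀ * x = x * z₀ := by
    haveI : Nontrivial ↥(S : Subgroup G) := by
      refine (S : Subgroup G).nontrivial_iff_ne_bot.2 fun e => hA3 fun E _ _ => ?_
      have h1 : A = ⊥ := le_bot_iff.1 (e ▸ hA.1)
      subst h1
      have h2 : Nat.card E = 1 := by
        refine Nat.dvd_one.1 ?_
        simpa using Subgroup.card_subgroup_dvd_card E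
      omega
    haveI := S.isPGroup'.center_nontrivial
    obtain ⟨n, hn0, hn⟩ := (IsPGroup.nontrivial_iff_card
      (S.isPGroup'.to_subgroup (Subgroup.center ↥(S : Subgroup G)))).1 inferInstance
    obtain ⟨c, hc⟩ := exists_prime_orderOf_dvd_card' (G := ↥(Subgroup.center ↥(S : Subgroup G))) 2
      (hn ▸ dvd_pow_self 2 hn0.ne')
    exact ⟨((c : ↥(S : Subgroup G)) : G), by rw [Subgroup.orderOf_coe, Subgroup.orderOf_coe, hc],
      (c : ↥(S : Subgroup G)).2, fun x hx =>
        (congrArg Subtype.val (Subgroup.mem_center_iff.1 c.2 ⟨x, hx⟩)).symm⟩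
  refine false_of_twoLocals hG S hz₀ hz₀S
    (fun x hx => Subgroup.mem_centralizer_singleton_iff.2 (hz₀c x hx).symm) huniq fun T hT hT1 => ?_
  obtain ⟨M, hM, hle⟩ := exists_maximal ⟨T, hT, hT1, rfl⟩
  obtain ⟨z, hz, hzO, hzc, hMz, huz⟩ := hmax M hM
  -- a Sylow subgroup of `M` is a Sylow subgroup of `G`
  set T₂ : Sylow 2 ↥M := default
  set T₃ : Subgroup G := (T₂ : Subgroup ↥M).map M.subtype with hT₃
  obtain ⟨P, hP⟩ := (T₂.isPGroup'.map M.subtype : IsPGroup 2 T₃).exists_le_sylow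
  have hOT : opIn 2 M ≤ T₃ := Subgroup.map_mono (pCore_le_sylow T₂)
  have hzT : ∀ x ∈ T₃, z * x = x * z := fun x hx =>
    (Subgroup.mem_centralizer_singleton_iff.1 (hMz.le (Subgroup.map_subtype_le _ hx))).symm
  have hPeq : (P : Subgroup G) = T₃ := by
    by_contra hne
    have hlt : T₃.subgroupOf (P : Subgroup G) < ⊤ := by
      rw [lt_top_iff_ne_top, Ne, Subgroup.subgroupOf_eq_top]
      exact fun h => hne (le_antisymm h hP)
    haveI : Group.IsNilpotent ↥(P : Subgroup G) := P.isPGroup'.isNilpotent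
    obtain ⟨⟨y, hyP⟩, hyN, hyT⟩ := SetLike.exists_of_lt
      (Group.normalizerCondition_of_isNilpotent (G := ↥(P : Subgroup G)) _ hlt)
    -- `y` fixes `z`, so lies in `M`
    have hconj : ∀ x ∈ T₃, y * x * y⁻¹ ∈ T₃ := fun x hx =>
      Subgroup.mem_subgroupOf.1 ((Subgroup.mem_normalizer_iff.1 hyN ⟨x, hP hx⟩).1 hx)
    have hconj' : ∀ x ∈ T₃, y⁻¹ * x * y ∈ T₃ := fun x hx => by
      have hin : y⁻¹ * x * y ∈ (P : Subgroup G) := mul_mem (mul_mem (inv_mem hyP) (hP hx)) hyP
      refine Subgroup.mem_subgroupOf.1 ((Subgroup.mem_normalizer_iff.1 hyN ⟨_, hin⟩).2 ?_)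
      rw [Subgroup.mem_subgroupOf]
      simpa [mul_assoc] using hx
    have hyz : y * z * y⁻¹ = z := by
      refine huz _ (by rw [orderOf_conjugate, hz])
        (Subgroup.map_subtype_le _ (hconj z (hOT hzO))) fun x hx => ?_
      calc y * z * y⁻¹ * x = y * (z * (y⁻¹ * x * y)) * y⁻¹ := by group
        _ = y * (y⁻¹ * x * y * z) * y⁻¹ := by rw [hzT _ (hconj' x (hOT hx))]
        _ = x * (y * z * y⁻¹) := by group
    have hyM : y ∈ M := by
      rw [hMz, Subgroup.mem_centralizer_singleton_iff]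
      exact mul_inv_eq_iff_eq_mul.1 hyz
    have hsup : IsPGroup 2 ((P : Subgroup G) ⊓ M : Subgroup G) := P.isPGroup'.to_le inf_le_left
    have h1 := T₂.is_maximal' (hsup.to_le le_rfl |>.comap_subtype (H := (P : Subgroup G) ⊓ M) (K := M))
      (fun x hx => ⟨hP ⟨x, hx, rfl⟩, x.2⟩)
    exact hyT (Subgroup.mem_subgroupOf.2 ⟨⟨y, hyM⟩, h1 ▸ ⟨hyP, hyM⟩, rfl⟩)
  obtain ⟨h, hh⟩ := MulAction.exists_smul_eq G S P
  refine ⟨h, ?_⟩
  have hmemP : ∀ x ∈ (S : Subgroup G), h * x * h⁻¹ ∈ (P : Subgroup G) := fun x hx => by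
    rw [← hh, Sylow.coe_subgroup_smul, Subgroup.mem_pointwise_smul_iff_inv_smul_mem]
    simpa [MulAut.smul_def, MulAut.conj_inv_apply, mul_assoc] using hx
  have hmemS : ∀ x ∈ (P : Subgroup G), h⁻¹ * x * h ∈ (S : Subgroup G) := fun x hx => by
    rw [← hh, Sylow.coe_subgroup_smul, Subgroup.mem_pointwise_smul_iff_inv_smul_mem] at hx
    simpa [MulAut.smul_def, MulAut.conj_inv_apply, mul_assoc] using hx
  have heq : h * z₀ * h⁻¹ = z := by
    refine huniq P _ _ (hmemP _ hz₀S) (hPeq ▸ hOT hzO) (by rw [orderOf_conjugate, hz₀]) hz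
      (fun x hx => ?_) (fun x hx => hzT x (hPeq ▸ hx))
    calc h * z₀ * h⁻¹ * x = h * (z₀ * (h⁻¹ * x * h)) * h⁻¹ := by group
      _ = h * (h⁻¹ * x * h * z₀) * h⁻¹ := by rw [hz₀c _ (hmemS x hx)]
      _ = x * (h * z₀ * h⁻¹) := by group
  rw [heq, ← hMz]
  exact hle

end Cfsg.Agent.S3244
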