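import Cfsg.Statements.S3246
import Cfsg.Agent.Lib.Techniques.PConstrained

set_option autoImplicit false
open Cfsg

namespace Cfsg.Agent.S3246

open Cfsg.Agent.PBasic Cfsg.Agent.CharP Cfsg.Agent.PConstr

/-- The centralizer condition kills an odd subgroup centralized by a suitable element. -/
theorem inf_centralizer_eq_bot {G : Type*} [Group G] [Finite G] (S : Sylow 2 G) {X : Subgroup G}
    (hX : Odd (Nat.card ↥X)) (hSX : (S : Subgroup G) ≤ Subgroup.normalizer (X : Set G)) {u : G}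
    (hu : IsCharP 2 ↥(Subgroup.centralizer ({u} : Set G)))
    (h2 : ∀ s ∈ (S : Subgroup G), ∀ t ∈ (S : Subgroup G), s * u ≠ u * s → t * u ≠ u * t →
      (s * t) * u = u * (s * t)) :
    X ⊓ Subgroup.centralizer ({u} : Set G) = ⊥ := by
  haveI : Fact (Nat.Prime 2) := ⟨Nat.prime_two⟩
  set K := Subgroup.centralizer ({u} : Set G) with hK
  set T' := (S : Subgroup G) ⊓ K with hT'
  set R := opIn 2 K with hR
  have hTR : T' ≤ Subgroup.normalizer (R : Set G) := inf_le_right.trans (le_normalizer_opIn K)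
  have hP : IsPGroup 2 ↥(R ⊔ T' : Subgroup G) :=
    (opIn_isPGroup K).to_sup_of_normal_left' (S.isPGroup'.to_le inf_le_left) hTR
  obtain ⟨S', hS'⟩ := hP.exists_le_sylow
  have hSS : Nat.card (S' : Subgroup G) = Nat.card (S : Subgroup G) := by
    rw [S'.card_eq_multiplicity, S.card_eq_multiplicity]
  have hidx : (T'.subgroupOf (S : Subgroup G)).index ≤ 2 := by
    rcases eq_or_ne (T'.subgroupOf (S : Subgroup G)) ⊤ with h | h
    · rw [h, Subgroup.index_top]; norm_num
    · obtain ⟨⟨a, ha⟩, -, hna⟩ := SetLike.exists_of_lt (lt_top_iff_ne_top.2 h)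
      refine le_of_eq (Subgroup.index_eq_two_iff.2 ⟨⟨a, ha⟩, fun ⟨b, hb⟩ => ?_⟩)
      simp only [hT', hK, Subgroup.mem_subgroupOf, Subgroup.mem_inf, Subgroup.coe_mul,
        Subgroup.mem_centralizer_singleton_iff] at hna ⊢
      have ha' : a * u ≠ u * a := fun e => hna ⟨ha, e⟩
      by_cases hb' : b * u = u * b
      · refine Or.inr ⟨⟨hb, hb'⟩, fun h => ha' ?_⟩
        have := h.2
        calc a * u = b⁻¹ * ((b * a) * u) := by group
          _ = b⁻¹ * (u * (b * a)) := by rw [this]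
          _ = b⁻¹ * (u * b) * a := by group
          _ = u * a := by rw [← hb', inv_mul_cancel_left]
      · exact Or.inl ⟨⟨mul_mem hb ha, h2 b hb a ha hb' ha'⟩, fun h => hb' h.2⟩
  -- `R ⊓ T'` has index at most 2 in `R`
  have hsup : Nat.card R ≤ 2 * Nat.card (R ⊓ T' : Subgroup G) := by
    have h1 := SolvBasic.card_sup_mul_card_inf hTR
    have h2' : Nat.card (R ⊔ T' : Subgroup G) ≤ 2 * Nat.card T' := by
      calc Nat.card (R ⊔ T' : Subgroup G) ≤ Nat.card (S' : Subgroup G) :=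
            Nat.card_le_card_of_injective _ (Subgroup.inclusion_injective hS')
        _ = Nat.card (T'.subgroupOf (S : Subgroup G)) * (T'.subgroupOf (S : Subgroup G)).index := by
            rw [hSS, Subgroup.card_mul_index]
        _ ≤ 2 * Nat.card T' := by
            rw [Nat.card_congr (Subgroup.subgroupOfEquivOfLe (inf_le_left : T' ≤ _)).toEquiv, mul_comm]
            exact Nat.mul_le_mul_right _ hidx
    refine Nat.le_of_mul_le_mul_right ?_ (Nat.card_pos (α := T'))
    rw [← h1, mul_comm 2, mul_assoc]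
    calc Nat.card (R ⊔ T' : Subgroup G) * Nat.card (R ⊓ T' : Subgroup G)
        ≤ (2 * Nat.card T') * Nat.card (R ⊓ T' : Subgroup G) := Nat.mul_le_mul_right _ h2'
      _ = Nat.card (R ⊓ T' : Subgroup G) * (2 * Nat.card T') := by ring
  rw [eq_bot_iff]
  rintro x ⟨hxX, hxK⟩
  rw [Subgroup.mem_bot]
  have hxcop : (orderOf x).Coprime 2 :=
    (Nat.coprime_two_right.2 hX).coprime_dvd_left
      (Subgroup.orderOf_coe (⟨x, hxX⟩ : X) ▸ orderOf_dvd_natCard _)
  have hx0 : ∀ r ∈ R ⊓ T', x * r = r * x := by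
    rintro r ⟨hr, hrT⟩
    have h1 : x * r * x⁻¹ * r⁻¹ = 1 := by
      refine eq_one_of_isPGroup_of_coprime (opIn_isPGroup (p := 2) K)
        (mul_mem (conj_mem_opIn (Subgroup.le_normalizer hxK) hr) (inv_mem hr)) ?_
      have hmem : x * r * x⁻¹ * r⁻¹ ∈ X := by
        rw [show x * r * x⁻¹ * r⁻¹ = x * (r * x⁻¹ * r⁻¹) by group]
        exact mul_mem hxX ((Subgroup.mem_normalizer_iff.1 (hSX hrT.1) _).1 (inv_mem hxX))
      exact (Nat.coprime_two_right.2 hX).coprime_dvd_left
        (Subgroup.orderOf_coe (⟨_, hmem⟩ : X) ▸ orderOf_dvd_natCard _)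
    rw [mul_inv_eq_one, mul_inv_eq_iff_eq_mul] at h1
    exact h1
  refine (isCharP_iff K).1 hu x hxK hxcop fun r hr => ?_
  by_cases hr0 : r ∈ R ⊓ T'
  · exact hx0 r hr0
  have hxr : x * r * x⁻¹ ∈ R := conj_mem_opIn (Subgroup.le_normalizer hxK) hr
  have hxr0 : x * r * x⁻¹ ∉ R ⊓ T' := fun h => hr0 (by
    have h' := hx0 _ h
    have h3 : x * (x * r * x⁻¹) * x⁻¹ = x * r * x⁻¹ := by rw [h', mul_inv_cancel_right]
    simp only [mul_left_inj, mul_right_inj] at h3
    rwa [h3] at h)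
  have hrel : ((R ⊓ T').subgroupOf R).index = 2 := by
    have h3 := ((R ⊓ T').subgroupOf R).card_mul_index
    rw [Nat.card_congr (Subgroup.subgroupOfEquivOfLe (inf_le_left : R ⊓ T' ≤ R)).toEquiv] at h3
    have hne : ((R ⊓ T').subgroupOf R).index ≠ 1 := fun h => hr0
      (Subgroup.subgroupOf_eq_top.1 (Subgroup.index_eq_one.1 h) hr)
    have h0 : ((R ⊓ T').subgroupOf R).index ≠ 0 := Subgroup.index_ne_zero_of_finite
    have : ((R ⊓ T').subgroupOf R).index ≤ 2 := by
      refine Nat.le_of_mul_le_mul_left ?_ (Nat.card_pos (α := (R ⊓ T' : Subgroup G)))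
      rw [h3]; linarith
    omega
  have hc : r⁻¹ * (x * r * x⁻¹) ∈ R ⊓ T' := by
    have h4 := (Subgroup.mul_mem_iff_of_index_two hrel (a := (⟨r, hr⟩ : ↥R)⁻¹) (b := ⟨_, hxr⟩))
    simp only [Subgroup.mem_subgroupOf, Subgroup.coe_mul, InvMemClass.coe_inv, inv_mem_iff] at h4
    exact h4.2 (iff_of_false hr0 hxr0)
  exact commute_of_conj_eq_mul (opIn_isPGroup K) hc.1 hxcop (by group) (hx0 _ hc)


/-- Let G be a finite group whose Sylow 2-subgroup S has a self-centralizing normal subgroup of rank at least 3. Suppose that either every maximal 2-local subgroup of G is 2-constrained with no nontrivial normal subgroup of odd order, or the centralizer of every involution of G is 2-constrained with no nontrivial normal subgroup of odd order. Then S normalizes no nontrivial subgroup of G of odd order and every 2-local subgroup of G is 2-constrained. -/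
theorem result {G : Type*} [Group G] [Finite G]
    (S : Sylow 2 G) (A : Subgroup G) (hA : Cfsg.IsSCN (S : Subgroup G) A) (hA3 : ¬ Cfsg.PRankLE 2 2 ↥A)
    (h : (∀ M : Subgroup G, Cfsg.IsMaximalTwoLocal M → Cfsg.IsPConstrained 2 ↥M ∧ Cfsg.oddCore ↥M = ⊥) ∨
      (∀ t : G, orderOf t = 2 → Cfsg.IsPConstrained 2 ↥(Subgroup.centralizer ({t} : Set G)) ∧
        Cfsg.oddCore ↥(Subgroup.centralizer ({t} : Set G)) = ⊥)) :
    (∀ X : Subgroup G, Odd (Nat.card ↥X) → (S : Subgroup G) ≤ Subgroup.normalizer (X : Set G) → X = ⊥) ∧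
      (∀ T : Subgroup G, IsPGroup 2 ↥T → T ≠ ⊥ → Cfsg.IsPConstrained 2 ↥(Subgroup.normalizer (T : Set G))) := by
  classical
  haveI : Fact (Nat.Prime 2) := ⟨Nat.prime_two⟩
  have hloc : ∀ T : Subgroup G, IsPGroup 2 ↥T → T ≠ ⊥ →
      IsCharP 2 ↥(Subgroup.normalizer (T : Set G)) := by
    intro T hT hT1
    rcases h with h | h
    · obtain ⟨M, ⟨hM, hTM⟩, hmax⟩ :=
        (Set.toFinite {M : Subgroup G | IsTwoLocal M ∧ Subgroup.normalizer (T : Set G) ≤ M}).exists_maximal
          ⟨_, ⟨T, hT, hT1, rfl⟩, le_rfl⟩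
      obtain ⟨hc, ho⟩ := h M ⟨hM, fun N hN hle => le_antisymm (hmax ⟨hN, hTM.trans hle⟩ hle) hle⟩
      have := isCharP_inf_normalizer (isCharP_of_isPConstrained hc ho) hT (Subgroup.le_normalizer.trans hTM)
      rwa [inf_eq_right.2 hTM] at this
    · haveI : Nontrivial ↥T := T.nontrivial_iff_ne_bot.2 hT1
      obtain ⟨n, hn0, hn⟩ := (IsPGroup.nontrivial_iff_card hT).1 inferInstance
      obtain ⟨c, hc⟩ := exists_prime_orderOf_dvd_card' (G := ↥T) 2 (hn ▸ dvd_pow_self 2 hn0.ne')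
      obtain ⟨h1, h2⟩ := h (c : G) (by rw [Subgroup.orderOf_coe, hc])
      exact isCharP_normalizer_of_mem hT c.2 (isCharP_of_isPConstrained h1 h2)
  refine ⟨fun X hX hSX => ?_, fun T hT hT1 => isPConstrained_of_isCharP (hloc T hT hT1)⟩
  obtain ⟨hAS, hSA, hAC⟩ := hA
  unfold Cfsg.PRankLE at hA3
  push Not at hA3
  obtain ⟨E, hEc, hE2, hEcard⟩ := hA3
  -- the elements of order at most two of `A`
  have habel : ∀ a ∈ A, ∀ b ∈ A, a * b = b * a := fun a ha b hb => by
    have : a ∈ Subgroup.centralizer (A : Set G) := (hAC.symm.le ha).2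
    exact (Subgroup.mem_centralizer_iff.1 this b hb).symm
  let W : Subgroup G :=
    { carrier := {a | a ∈ A ∧ a ^ 2 = 1}
      one_mem' := ⟨one_mem A, one_pow 2⟩
      mul_mem' := fun {a b} ha hb => ⟨mul_mem ha.1 hb.1, by
        rw [(show Commute a b from habel a ha.1 b hb.1).mul_pow, ha.2, hb.2, one_mul]⟩
      inv_mem' := fun {a} ha => ⟨inv_mem ha.1, by rw [inv_pow, ha.2, inv_one]⟩ }
  have hWmem : ∀ a, a ∈ W ↔ a ∈ A ∧ a ^ 2 = 1 := fun a => Iff.rfl
  have hWS : W ≤ (S : Subgroup G) := fun a ha => hAS ha.1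
  have hW4 : 4 < Nat.card W := by
    refine lt_of_lt_of_le hEcard (Nat.card_le_card_of_injective
      (fun e => (⟨((e : ↥A) : G), (e : ↥A).2, congrArg Subtype.val (hE2 _ e.2)⟩ : W)) ?_)
    intro a b hab
    exact Subtype.ext (Subtype.ext (congrArg Subtype.val hab :))
  have hWn : ∀ s ∈ (S : Subgroup G), ∀ a ∈ W, s * a * s⁻¹ ∈ W := fun s hs a ha =>
    ⟨(Subgroup.mem_normalizer_iff.1 (hSA hs) a).1 ha.1, by rw [conj_pow, ha.2, mul_one, mul_inv_cancel]⟩
  set W' := W.subgroupOf (S : Subgroup G) with hW'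
  haveI hW'n : W'.Normal := ⟨fun a ha s => hWn s s.2 a ha⟩
  have hW'4 : 4 < Nat.card W' := by
    rwa [hW', Nat.card_congr (Subgroup.subgroupOfEquivOfLe hWS).toEquiv]
  -- a central involution `z`
  have fix : ∀ {P : Type _} [Group P] [Finite P], IsPGroup 2 P → ∀ (N : Subgroup P) [N.Normal],
      1 < Nat.card N → ∃ w ∈ N, w ∈ Subgroup.center P ∧ w ≠ 1 := by
    intro P _ _ hP N _ hN
    have hpC : IsPGroup 2 (ConjAct P) := hP.of_equiv ConjAct.toConjAct
    obtain ⟨k, hk⟩ := IsPGroup.iff_card.1 (hP.to_subgroup N)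
    have hdvd : 2 ∣ Nat.card ↥N := by
      rw [hk]; exact dvd_pow_self 2 (by rintro rfl; simp [hk] at hN)
    have h1 : (1 : ↥N) ∈ MulAction.fixedPoints (ConjAct P) ↥N := fun g => smul_one g
    obtain ⟨w, hwfix, hw⟩ := hpC.exists_fixed_point_of_prime_dvd_card_of_fixed_point _ hdvd h1
    refine ⟨(w : P), w.2, ?_, fun h => hw (Subtype.ext h.symm)⟩
    rw [Subgroup.mem_center_iff]
    intro g
    have h := congrArg Subtype.val (hwfix (ConjAct.toConjAct g))
    rw [ConjAct.Subgroup.val_conj_smul, ConjAct.smul_def, ConjAct.ofConjAct_toConjAct] at h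
    exact mul_inv_eq_iff_eq_mul.mp h
  obtain ⟨z, hzW, hzZ, hz1⟩ := fix S.isPGroup' W' (by omega)
  have hz2 : (z : G) ^ 2 = 1 := hzW.2
  have hzcomm : ∀ s ∈ (S : Subgroup G), s * (z : G) = z * s := fun s hs =>
    congrArg Subtype.val (Subgroup.mem_center_iff.1 hzZ ⟨s, hs⟩)
  set Z := Subgroup.zpowers z with hZ
  haveI hZn : Z.Normal := ⟨fun a ha s => by
    obtain ⟨k, rfl⟩ := Subgroup.mem_zpowers_iff.1 ha
    rw [← conj_zpow, Subgroup.mem_center_iff.1 hzZ s, mul_inv_cancel_right]; exact ha⟩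
  have hzord : orderOf z = 2 :=
    orderOf_eq_prime (Subtype.ext hz2 : z ^ 2 = 1) hz1
  haveI : (W'.map (QuotientGroup.mk' Z)).Normal := hW'n.map _ (QuotientGroup.mk'_surjective Z)
  have hq : 1 < Nat.card (W'.map (QuotientGroup.mk' Z)) := by
    by_contra hle
    have hbot := Subgroup.card_eq_one.1 (le_antisymm (not_lt.1 hle) Nat.card_pos)
    rw [Subgroup.map_eq_bot_iff, QuotientGroup.ker_mk'] at hbot
    have := Nat.le_of_dvd Nat.card_pos (Subgroup.card_dvd_of_le hbot)
    rw [hZ, Nat.card_zpowers, hzord] at this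
    omega
  obtain ⟨_, ⟨u, huW, rfl⟩, huZ, hu1⟩ := fix (S.isPGroup'.to_quotient Z) _ hq
  have huz : u ∉ Z := fun h => hu1 ((QuotientGroup.eq_one_iff u).2 h)
  have hu2 : (u : G) ^ 2 = 1 := huW.2
  have hdich : ∀ s ∈ (S : Subgroup G), s * (u : G) ≠ u * s → s * (u : G) * s⁻¹ = u * z := by
    intro s hs hne
    have h1 : (QuotientGroup.mk' Z) ((u : ↥(S : Subgroup G))⁻¹ * (⟨s, hs⟩ * u * ⟨s, hs⟩⁻¹)) = 1 := by
      simp only [map_mul, map_inv]
      rw [Subgroup.mem_center_iff.1 huZ, mul_inv_cancel_right, inv_mul_cancel]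
    rw [← MonoidHom.mem_ker, QuotientGroup.ker_mk', hZ, 
      mem_zpowers_iff_mem_range_orderOf, hzord] at h1
    simp only [Finset.mem_image, Finset.mem_range] at h1
    obtain ⟨k, hk, hke⟩ := h1
    have hke' : (z : G) ^ k = (u : G)⁻¹ * (s * u * s⁻¹) := by simpa using congrArg Subtype.val hke
    interval_cases k
    · rw [pow_zero, eq_comm, inv_mul_eq_one] at hke'
      exact absurd (mul_inv_eq_iff_eq_mul.1 hke'.symm) hne
    · rw [pow_one] at hke'; rw [hke']; group
  have hzu : (u : G) * z = z * u := hzcomm u u.2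
  have h2u : ∀ w : G, (w = u ∨ w = u * z) →
      ∀ s ∈ (S : Subgroup G), ∀ t ∈ (S : Subgroup G), s * w ≠ w * s → t * w ≠ w * t →
        (s * t) * w = w * (s * t) := by
    intro w hw s hs t ht hne hne'
    have hcu : ∀ r ∈ (S : Subgroup G), r * w ≠ w * r → r * (u : G) ≠ u * r := by
      intro r hr hne h
      apply hne
      rcases hw with rfl | rfl
      · exact h
      · rw [← mul_assoc, h, mul_assoc, hzcomm r hr, mul_assoc]
    have e1 := hdich s hs (hcu s hs hne)
    have e2 := hdich t ht (hcu t ht hne')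
    have key : (s * t) * u * (s * t)⁻¹ = (u : G) := by
      calc (s * t) * u * (s * t)⁻¹ = s * (t * u * t⁻¹) * s⁻¹ := by group
        _ = (s * u * s⁻¹) * (s * z * s⁻¹) := by rw [e2]; group
        _ = u * (z : G) ^ 2 := by rw [e1, hzcomm s hs, mul_inv_cancel_right, pow_two, mul_assoc]
        _ = u := by rw [hz2, mul_one]
    rw [mul_inv_eq_iff_eq_mul] at key
    rcases hw with rfl | rfl
    · exact key
    · rw [← mul_assoc, key, mul_assoc, hzcomm _ (mul_mem hs ht), mul_assoc]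
  have hchar : ∀ w : G, w ^ 2 = 1 → w ≠ 1 → IsCharP 2 ↥(Subgroup.centralizer ({w} : Set G)) := by
    intro w hw hw1
    have hord := orderOf_eq_prime hw hw1
    have hP : IsPGroup 2 ↥(Subgroup.zpowers w) :=
      IsPGroup.of_card (n := 1) (by rw [Nat.card_zpowers, hord, pow_one])
    have := hloc _ hP (fun h => hw1 (Subgroup.zpowers_eq_bot.1 h))
    have e : Subgroup.normalizer (Subgroup.zpowers w : Set G) = Subgroup.centralizer ({w} : Set G) := by
      refine le_antisymm (fun g hg => ?_) ?_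
      · have h1 := (Subgroup.mem_normalizer_iff.1 hg w).1 (Subgroup.mem_zpowers w)
        rw [mem_zpowers_iff_mem_range_orderOf, hord] at h1
        simp only [Finset.mem_image, Finset.mem_range] at h1
        obtain ⟨k, hk, hke⟩ := h1
        rw [Subgroup.mem_centralizer_singleton_iff]
        interval_cases k
        · rw [pow_zero, eq_comm, conj_eq_one_iff] at hke; exact absurd hke hw1
        · rw [pow_one, eq_comm, mul_inv_eq_iff_eq_mul] at hke; exact hke
      · rw [Subgroup.zpowers_eq_closure, ← Subgroup.centralizer_closure]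
        exact Subgroup.centralizer_le_normalizer _
    rwa [e] at this
  have hfree : ∀ w : G, (w = u ∨ w = u * z) → ∀ x ∈ X, w * x = x * w → x = 1 := by
    intro w hw x hx hcom
    have hw2 : w ^ 2 = 1 := by
      rcases hw with rfl | rfl
      · exact hu2
      · rw [(show Commute (u : G) z from hzu).mul_pow, hu2, hz2, one_mul]
    have hw1 : w ≠ 1 := by
      rintro rfl
      rcases hw with h | h
      · exact huz (by rw [show u = 1 from Subtype.ext h.symm]; exact one_mem Z)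
      · refine huz ?_
        have h' : u = z⁻¹ := eq_inv_of_mul_eq_one_left (Subtype.ext h.symm)
        rw [h']; exact inv_mem (Subgroup.mem_zpowers z)
    exact Subgroup.mem_bot.1 (inf_centralizer_eq_bot S hX hSX (hchar w hw2 hw1) (h2u w hw) ▸
      ⟨hx, Subgroup.mem_centralizer_singleton_iff.2 hcom.symm⟩)
  have hinv : ∀ w : G, (w = u ∨ w = u * z) → ∀ x ∈ X, w * x * w⁻¹ = x⁻¹ := by
    intro w hw
    have hwS : w ∈ (S : Subgroup G) := by
      rcases hw with rfl | rfl
      · exact u.2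
      · exact mul_mem u.2 z.2
    have hw2 : w * w = 1 := by
      rcases hw with rfl | rfl
      · rw [← pow_two]; exact hu2
      · rw [← pow_two, (show Commute (u : G) z from hzu).mul_pow, hu2, hz2, one_mul]
    have hwX : ∀ x ∈ X, w * x * w⁻¹ ∈ X := fun x hx => (Subgroup.mem_normalizer_iff.1 (hSX hwS) x).1 hx
    let g : X → X := fun x => ⟨(x : G)⁻¹ * (w * x * w⁻¹), mul_mem (inv_mem x.2) (hwX _ x.2)⟩
    have hg : Function.Surjective g := by
      refine Finite.injective_iff_surjective.1 fun a b hab => ?_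
      have h1 : (a : G)⁻¹ * (w * a * w⁻¹) = (b : G)⁻¹ * (w * b * w⁻¹) := congrArg Subtype.val hab
      have h2 : (b : G) * (a : G)⁻¹ = 1 := by
        refine hfree w hw _ (mul_mem b.2 (inv_mem a.2)) ?_
        have : w * ((b : G) * (a : G)⁻¹) * w⁻¹ = (b : G) * (a : G)⁻¹ := by
          calc w * ((b : G) * (a : G)⁻¹) * w⁻¹
              = (b : G) * ((b : G)⁻¹ * (w * b * w⁻¹)) * (w * a * w⁻¹)⁻¹ := by group
            _ = (b : G) * ((a : G)⁻¹ * (w * a * w⁻¹)) * (w * a * w⁻¹)⁻¹ := by rw [h1]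
            _ = (b : G) * (a : G)⁻¹ := by group
        exact mul_inv_eq_iff_eq_mul.1 this
      exact Subtype.ext (mul_inv_eq_one.1 h2).symm
    intro x hx
    obtain ⟨y, hy⟩ := hg ⟨x, hx⟩
    have hy' : (y : G)⁻¹ * (w * y * w⁻¹) = x := congrArg Subtype.val hy
    have hwi : w⁻¹ = w := inv_eq_of_mul_eq_one_right hw2
    rw [← hy', hwi]
    calc w * ((y : G)⁻¹ * (w * y * w)) * w = w * (y : G)⁻¹ * w * y * (w * w) := by group
      _ = ((y : G)⁻¹ * (w * y * w))⁻¹ := by
        rw [hw2, mul_one]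
        simp only [mul_inv_rev, inv_inv, hwi, mul_assoc]
  have hzc : ∀ x ∈ X, (z : G) * x = x * z := by
    intro x hx
    have e1 := hinv u (Or.inl rfl) x hx
    have e2 := hinv (u * z) (Or.inr rfl) x hx
    rw [← e1, show (u : G) * z * x * ((u : G) * z)⁻¹ = u * (z * x * (z : G)⁻¹) * (u : G)⁻¹ by group,
      mul_left_inj, mul_right_inj] at e2
    exact mul_inv_eq_iff_eq_mul.1 e2
  have hzbot := inf_centralizer_eq_bot S hX hSX
    (hchar (z : G) hz2 (fun h => hz1 (Subtype.ext h)))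
    (fun s hs t _ hne => absurd (hzcomm s hs) hne)
  rw [eq_bot_iff]
  exact fun x hx => hzbot ▸ ⟨hx, Subgroup.mem_centralizer_singleton_iff.2 (hzc x hx).symm⟩

end Cfsg.Agent.S3246
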