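import Cfsg.Statements.S3247
import Cfsg.Agent.Lib.Techniques.PConstrained

set_option autoImplicit false
open Cfsg

namespace Cfsg.Agent.S3247

open Cfsg.Agent.PBasic Cfsg.Agent.CharP Cfsg.Agent.PConstr


/-- Let G be a finite group and p a prime; here a p-local subgroup means the normalizer of a nontrivial p-subgroup, other than G itself. If every p-local subgroup of G that is maximal among p-local subgroups is p-constrained, or if the centralizer of every element of order p of G is p-constrained, then every p-local subgroup of G is p-constrained. -/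
theorem result {G : Type*} [Group G] [Finite G] (p : ℕ) [hp : Fact p.Prime]
    (h : (∀ M : Subgroup G, (∃ T : Subgroup G, IsPGroup p ↥T ∧ T ≠ ⊥ ∧ M = Subgroup.normalizer (T : Set G)) → M ≠ ⊤ →
        (∀ M' : Subgroup G, (∃ T' : Subgroup G, IsPGroup p ↥T' ∧ T' ≠ ⊥ ∧ M' = Subgroup.normalizer (T' : Set G)) → M' ≠ ⊤ → M ≤ M' → M = M') →
        Cfsg.IsPConstrained p ↥M) ∨
      (∀ x : G, orderOf x = p → Cfsg.IsPConstrained p ↥(Subgroup.centralizer ({x} : Set G))))
    (T : Subgroup G) (hT : IsPGroup p ↥T) (hT1 : T ≠ ⊥) (hTG : Subgroup.normalizer (T : Set G) ≠ ⊤) :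
    Cfsg.IsPConstrained p ↥(Subgroup.normalizer (T : Set G)) := by
  rcases h with h | h
  · obtain ⟨M, ⟨⟨T₀, hT₀, hT₀1, hM⟩, hMt, hTM⟩, hmax⟩ :=
      (Set.toFinite {M : Subgroup G | (∃ T' : Subgroup G, IsPGroup p ↥T' ∧ T' ≠ ⊥ ∧ M = Subgroup.normalizer (T' : Set G)) ∧
        M ≠ ⊤ ∧ Subgroup.normalizer (T : Set G) ≤ M}).exists_maximal ⟨_, ⟨T, hT, hT1, rfl⟩, hTG, le_rfl⟩
    have hMc := h M ⟨T₀, hT₀, hT₀1, hM⟩ hMt (fun M' h1 h2 h3 =>
      le_antisymm h3 (hmax ⟨h1, h2, hTM.trans h3⟩ h3))
    have hTle : T ≤ M := Subgroup.le_normalizer.trans hTM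
    have hU : IsPGroup p ↥(T.subgroupOf M) := hT.comap_subtype
    refine isPConstrained_congr ?_ (isPConstrained_normalizer hMc hU)
    refine (MulEquiv.subgroupCongr ?_).trans (Subgroup.subgroupOfEquivOfLe hTM)
    exact (Subgroup.subgroupOf_normalizer_eq hTle).symm
  · haveI : Nontrivial ↥T := T.nontrivial_iff_ne_bot.2 hT1
    haveI := hT.center_nontrivial
    obtain ⟨c, hc⟩ : ∃ c : ↥(Subgroup.center ↥T), orderOf c = p := by
      obtain ⟨n, hn0, hn⟩ := (IsPGroup.nontrivial_iff_card (hT.to_subgroup (Subgroup.center ↥T))).1 inferInstance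
      exact exists_prime_orderOf_dvd_card' p (hn ▸ dvd_pow_self p hn0.ne')
    set z : G := ((c : ↥T) : G) with hz
    have hzp : orderOf z = p := by rw [hz, Subgroup.orderOf_coe, Subgroup.orderOf_coe, hc]
    set K := Subgroup.centralizer ({z} : Set G) with hK
    have hTK : T ≤ K := fun t ht => by
      rw [hK, Subgroup.mem_centralizer_singleton_iff]
      exact congrArg Subtype.val (Subgroup.mem_center_iff.1 c.2 ⟨t, ht⟩)
    have hU : IsPGroup p ↥(T.subgroupOf K) := hT.comap_subtype
    have hC' := isPConstrained_centralizer (h z hzp) hU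
    set H := Subgroup.normalizer (T : Set G)
    set TH := T.subgroupOf H
    have hCK : Subgroup.centralizer (T : Set G) ≤ K := by
      apply Subgroup.centralizer_le
      intro x hx
      rw [Set.mem_singleton_iff.1 hx]
      exact (c : ↥T).2
    have hC : IsPConstrained p ↥(Subgroup.centralizer (TH : Set ↥H)) := by
      refine isPConstrained_congr ?_ hC'
      have e1 : Subgroup.centralizer (T.subgroupOf K : Set ↥K) = (Subgroup.centralizer (T : Set G)).subgroupOf K := by
        ext x
        simp only [Subgroup.mem_centralizer_iff, Subgroup.mem_subgroupOf]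
        exact ⟨fun hx t ht => congrArg Subtype.val (hx ⟨t, hTK ht⟩ ht), fun hx t ht => Subtype.ext (hx t ht)⟩
      have e2 : Subgroup.centralizer (TH : Set ↥H) = (Subgroup.centralizer (T : Set G)).subgroupOf H := by
        ext x
        simp only [TH, Subgroup.mem_centralizer_iff, Subgroup.mem_subgroupOf]
        exact ⟨fun hx t ht => congrArg Subtype.val (hx ⟨t, Subgroup.le_normalizer ht⟩ ht),
          fun hx t ht => Subtype.ext (hx t ht)⟩
      exact ((MulEquiv.subgroupCongr e1).trans (Subgroup.subgroupOfEquivOfLe hCK)).trans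
        ((MulEquiv.subgroupCongr e2).trans (Subgroup.subgroupOfEquivOfLe (Subgroup.centralizer_le_normalizer _))).symm
    exact isPConstrained_of_normal_centralizer hT.comap_subtype (Subgroup.normal_in_normalizer) hC

end Cfsg.Agent.S3247
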