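import Cfsg.Statements.S3252
import Cfsg.Agent.Lib.CycZ.Factor
-- import your own Cfsg.Agent.* helpers here

set_option autoImplicit false
set_option linter.style.haveILetI false
open Cfsg

namespace Cfsg.Agent.S3252

/-- Let G be a finite non-solvable group that is the product G = AB of a cyclic subgroup A and a subgroup B all of whose Sylow subgroups are cyclic. Then the quotient of G by its largest solvable normal subgroup is isomorphic to PGL₂(p) for some prime p > 3. -/
theorem result {G : Type*} [Group G] [Finite G] (hG : ¬ Group.IsSolvable G)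
    (A B : Subgroup G) (hA : IsCyclic ↥A) (hB : ∀ (q : ℕ) [Fact q.Prime] (Q : Sylow q ↥B), IsCyclic ↥(Q : Subgroup ↥B))
    (hAB : ∀ g : G, ∃ a ∈ A, ∃ b ∈ B, g = a * b)
    (R : Subgroup G) [hR : R.Normal] (hRs : Group.IsSolvable ↥R) (hRmax : ∀ N : Subgroup G, N.Normal → Group.IsSolvable ↥N → N ≤ R) :
    ∃ (F : Type) (_ : Field F) (_ : Fintype F) (p : ℕ), p.Prime ∧ 3 < p ∧ Fintype.card F = p ∧
      Nonempty ((G ⧸ R) ≃* (GL (Fin 2) F ⧸ Subgroup.center (GL (Fin 2) F))) := by
  haveI := hRs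
  let π := QuotientGroup.mk' R
  have hπ : Function.Surjective π := QuotientGroup.mk'_surjective R
  have hnsQ : ¬ Group.IsSolvable (G ⧸ R) := fun hs =>
    hG (@Group.isSolvable_of_ker_le_range _ _ _ _ _ _ R.subtype π (by simp [π]) hRs hs)
  have hrad : ∀ K : Subgroup (G ⧸ R), K.Normal → Group.IsSolvable K → K = ⊥ := by
    intro K hK hKs
    set L := K.comap π
    have hle : π.ker ≤ L := MonoidHom.ker_le_comap π K
    have hLs : Group.IsSolvable L := by
      let f : L →* K := π.subgroupComap K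
      have hker : ∀ x : L, x ∈ f.ker → (x : G) ∈ R := fun x hx =>
        (QuotientGroup.eq_one_iff _).mp (congrArg Subtype.val (MonoidHom.mem_ker.mp hx))
      have hRL : R ≤ L := fun x hx => hle (by rw [QuotientGroup.ker_mk']; exact hx)
      exact @Group.isSolvable_of_ker_le_range _ _ _ _ _ _ (Subgroup.inclusion hRL) f
        (fun x hx => ⟨⟨x, hker x hx⟩, rfl⟩) hRs hKs
    have hLR := hRmax L (hK.comap π) hLs
    rw [← Subgroup.map_comap_eq_self_of_surjective hπ K]
    exact (Subgroup.map_eq_bot_iff _).mpr (by rw [QuotientGroup.ker_mk']; exact hLR)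
  haveI : IsCyclic (A.map π) :=
    isCyclic_of_surjective (π.subgroupMap A) (π.subgroupMap_surjective A)
  haveI : IsZGroup B := ⟨fun q hq Q => @hB q ⟨hq⟩ Q⟩
  haveI : IsZGroup (B.map π) := IsZGroup.of_surjective (f := π.subgroupMap B)
    (π.subgroupMap_surjective B)
  obtain ⟨p, Ω, _, _, hp, hp5, -, -, ⟨e⟩⟩ := CycZ.core (Nat.card (G ⧸ R)) (G ⧸ R) rfl hnsQ hrad
    (A.map π) (B.map π) inferInstance inferInstance (fun g => by
      obtain ⟨x, rfl⟩ := hπ g
      obtain ⟨a, ha, b, hb, rfl⟩ := hAB x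
      exact ⟨π a, ⟨a, ha, rfl⟩, π b, ⟨b, hb, rfl⟩, map_mul π a b⟩)
  haveI : Fact p.Prime := ⟨hp⟩
  exact ⟨ZMod p, inferInstance, inferInstance, p, hp, by omega, ZMod.card p, ⟨e⟩⟩

end Cfsg.Agent.S3252
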