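import Cfsg.Statements.S3257
import Cfsg.Agent.Lib.OddPairs.Build

set_option autoImplicit false
open Cfsg

namespace Cfsg.Agent.S3257

open Cfsg.Agent.OddPairs

/-- Let p be an odd prime and G a finite non-abelian group generated by a G-invariant set D of subgroups of order p such that any two distinct members of D generate a subgroup isomorphic to one fixed group of odd order. Then G/Z(G) is a Frobenius group of odd order. -/
theorem result {G : Type*} [Group G] [Finite G] (hG : ¬ IsMulCommutative G)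
    (p : ℕ) (hp : p.Prime) (hp2 : p ≠ 2) (D : Set (Subgroup G)) (hDp : ∀ A ∈ D, Nat.card ↥A = p)
    (hDinv : ∀ A ∈ D, ∀ g : G, A.map (MulAut.conj g).toMonoidHom ∈ D) (hDgen : sSup D = ⊤)
    {F : Type*} [Group F] [Finite F] (hF : Odd (Nat.card F)) (hpair : ∀ A ∈ D, ∀ B ∈ D, A ≠ B → Nonempty (↥(A ⊔ B) ≃* F)) :
    Odd (Nat.card (G ⧸ Subgroup.center G)) ∧ ∃ H : Subgroup (G ⧸ Subgroup.center G), Cfsg.IsFrobeniusComplement H := by
  classical
  have hcyc : ∀ A ∈ D, ∀ a ∈ A, ∀ b ∈ A, Commute a b := by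
    intro A hA a ha b hb
    haveI := Fact.mk hp
    haveI : IsCyclic A := isCyclic_of_prime_card (hDp A hA)
    exact congrArg Subtype.val ((IsCyclic.commGroup (α := A)).mul_comm ⟨a, ha⟩ ⟨b, hb⟩)
  have hF' : FPairs p F D :=
    ⟨hp, hp2, hDp, hDinv, hF, hpair, noncomm_of_not_comm hG hDgen hpair hcyc⟩
  -- two members
  have hex : ∃ A ∈ D, ∃ B ∈ D, A ≠ B := by
    by_contra hcon
    push Not at hcon
    refine hG (IsMulCommutative.of_comm fun x y => ?_)
    rcases D.eq_empty_or_nonempty with he | ⟨A, hA⟩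
    · rw [he, sSup_empty] at hDgen
      have : ∀ z : G, z = 1 := fun z => Subgroup.mem_bot.1 (hDgen ▸ Subgroup.mem_top z)
      rw [this x, this y]
    · have htop : A = ⊤ := top_le_iff.1 (hDgen ▸ sSup_le fun B hB => (hcon A hA B hB).ge)
      exact (hcyc A hA x (htop ▸ Subgroup.mem_top x) y (htop ▸ Subgroup.mem_top y)).eq
  obtain ⟨q, hq, hq2, hqp, hK⟩ := hF'.exists_q hex
  have hQ : QPairs p q F D :=
    { hF' with prime_q := hq, odd_q := hq2, ne := hqp, pair := hK }
  have hsys := hQ.pairSys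
  have hodd := hsys.odd hDgen
  refine ⟨hodd.of_dvd_nat (Subgroup.card_quotient_dvd_card _), ?_⟩
  obtain ⟨A, hA, B, hB, hne⟩ := hex
  obtain ⟨Q, hQn, hT, hQA⟩ := hsys.flat_top
    (Cfsg.Agent.OddChar.oddSolvable G hodd) hDgen hA
  set π := QuotientGroup.mk' (Subgroup.center G) with hπ
  have hlift : ∀ (a x : G), π x = π a → a⁻¹ * x ∈ Subgroup.center G := fun a x e =>
    QuotientGroup.eq.1 e.symm
  refine ⟨A.map π, ?_, ?_, ?_⟩
  · intro e
    refine hF'.noncomm A hA B hB hne fun a ha b _ => ?_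
    have h1 : π a = 1 := Subgroup.mem_bot.1 (e ▸ Subgroup.mem_map_of_mem π ha)
    exact (Subgroup.mem_center_iff.1 ((QuotientGroup.eq_one_iff a).1 h1) b).symm
  · intro e
    refine hF'.noncomm A hA B hB hne fun a ha b _ => ?_
    obtain ⟨a', ha', h1⟩ : π b ∈ A.map π := e ▸ Subgroup.mem_top _
    have h2 : b = a' * (a'⁻¹ * b) := by group
    rw [h2]
    exact (hcyc A hA a ha a' ha').mul_right
      (Subgroup.mem_center_iff.1 (hlift a' b h1.symm) a)
  · intro g hg
    rw [eq_bot_iff]
    intro x hxi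
    obtain ⟨hx1, hx2⟩ := Subgroup.mem_inf.1 hxi
    rw [Subgroup.mem_bot]
    by_contra hx
    open scoped Pointwise in rw [Subgroup.mem_pointwise_smul_iff_inv_smul_mem] at hx2
    obtain ⟨g, rfl⟩ := QuotientGroup.mk'_surjective (Subgroup.center G) g
    obtain ⟨a1, ha1, rfl⟩ := hx1
    obtain ⟨a2, ha2, h2⟩ := hx2
    have h2' : π (g⁻¹ * a1 * g) = π a2 := by
      rw [h2, ← map_inv, MulAut.smul_def, MulAut.conj_apply, inv_inv, map_mul, map_mul, map_inv]
    set b := g⁻¹ * a1 * g with hb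
    have hbc : ∀ a ∈ A, Commute a b := fun a ha => by
      have e : b = a2 * (a2⁻¹ * b) := by group
      rw [e]
      exact (hcyc A hA a ha a2 ha2).mul_right (Subgroup.mem_center_iff.1 (hlift a2 b h2') a)
    haveI := Fact.mk hp
    have ha1ne : a1 ≠ 1 := fun e => hx (by rw [e, map_one])
    have hz : Subgroup.zpowers a1 = A := Subgroup.eq_of_le_of_card_ge (Subgroup.zpowers_le.2 ha1)
      (by
        rw [Nat.card_zpowers, hDp A hA]
        refine ge_of_eq (orderOf_eq_prime ?_ ha1ne)
        exact orderOf_dvd_iff_pow_eq_one.1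
          ((Subgroup.orderOf_dvd_natCard A ha1).trans (dvd_of_eq (hDp A hA))))
    have heq : A = conjS g⁻¹ A := by
      refine hsys.eq_of_commute hA (hsys.conj A hA _) fun y hy a ha => ?_
      rw [mem_conjS, inv_inv, ← hz] at hy
      obtain ⟨i, hi⟩ := hy
      have e : y = b ^ i := by
        rw [hb, show g⁻¹ * a1 * g = g⁻¹ * a1 * g⁻¹⁻¹ by rw [inv_inv], conj_zpow,
          show a1 ^ i = g * y * g⁻¹ from hi, inv_inv]
        group
      rw [e]
      exact ((hbc a ha).zpow_right i).symm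
    have hgn : g ∈ Subgroup.normalizer (A : Set G) := by
      rw [← inv_mem_iff]; exact conjS_eq_self_iff.1 heq.symm
    obtain ⟨k, hk, a, ha, rfl⟩ := mem_sup_of_le_normalizer hT.2.1
      (hQA.symm ▸ Subgroup.mem_top g : g ∈ Q ⊔ A)
    have hkn : k ∈ Subgroup.normalizer (A : Set G) := by
      have := mul_mem hgn (inv_mem (Subgroup.le_normalizer ha))
      rwa [mul_inv_cancel_right] at this
    have hkA : ∀ a ∈ A, Commute k a :=
      commute_of_mem_of_normalises (hQ.inf_bot hA hT.1) hT.2.1 hk hkn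
    have hkc : k ∈ Subgroup.center G := by
      have h5 : Q ⊔ A ≤ Subgroup.centralizer ({k} : Set G) := sup_le
        (fun y hy => Subgroup.mem_centralizer_singleton_iff.2
          (hsys.cen A hA Q hT k hk (fun a ha => (hkA a ha).symm) y hy).symm.eq)
        (fun y hy => Subgroup.mem_centralizer_singleton_iff.2 (hkA y hy).symm.eq)
      rw [hQA] at h5
      exact Subgroup.mem_center_iff.2 fun y =>
        Subgroup.mem_centralizer_singleton_iff.1 (h5 (Subgroup.mem_top y))
    refine hg ⟨a, ha, ?_⟩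
    rw [map_mul, show π k = 1 from (QuotientGroup.eq_one_iff k).2 hkc, one_mul]

end Cfsg.Agent.S3257
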