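import Cfsg.Statements.S3260
import Cfsg.Agent.Lib.EquiQuad.ZJFactor
import Mathlib.GroupTheory.SemidirectProduct

set_option autoImplicit false
set_option linter.style.haveILetI false
open Cfsg

namespace Cfsg.Agent.S3260

/-- Let p ≥ 5 be a prime, G a finite p-constrained group with Sylow p-subgroup S, and A a group of automorphisms of G of order coprime to |G| whose fixed-point subgroup has no section isomorphic to PSL₂(p). Then G = O_{p'}(G) · N_G(Z(J(S))), where J(S) is the subgroup generated by the abelian subgroups of S of largest order. -/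
theorem result {G : Type*} [Group G] [Finite G] (p : ℕ) [hp : Fact p.Prime] (hp5 : 5 ≤ p)
    (hG : Cfsg.IsPConstrained p G) (S : Sylow p G) (A : Subgroup (MulAut G)) (hA : (Nat.card ↥A).Coprime (Nat.card G))
    (C : Subgroup G) (hC : ∀ g : G, g ∈ C ↔ ∀ a ∈ A, a g = g)
    {F : Type*} [Field F] [Fintype F] (hF : Fintype.card F = p)
    (hfix : ¬ Cfsg.Involves (Matrix.ProjectiveSpecialLinearGroup (Fin 2) F) ↥C) :
    Cfsg.pPrimeCore p G ⊔ Subgroup.normalizer (Cfsg.centerThompsonAOf (S : Subgroup G) : Set G) = ⊤ := by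
  classical
  let φ : A →* MulAut G := A.subtype
  haveI : Finite (G ⋊[φ] A) := Finite.of_equiv _ SemidirectProduct.equivProd.symm
  set G' := (SemidirectProduct.inl : G →* G ⋊[φ] A).range with hG'
  set R := (SemidirectProduct.inr : A →* G ⋊[φ] A).range with hR
  let e : G ≃* G' := MonoidHom.ofInjective SemidirectProduct.inl_injective
  haveI : G'.Normal := by
    rw [hG', SemidirectProduct.range_inl_eq_ker_rightHom]; infer_instance
  have hgen : G' ⊔ R = ⊤ := eq_top_iff.2 fun x _ => by
    rw [← SemidirectProduct.inl_left_mul_inr_right x]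
    exact Subgroup.mul_mem_sup ⟨_, rfl⟩ ⟨_, rfl⟩
  have hcardG : Nat.card G' = Nat.card G := Nat.card_congr e.symm.toEquiv
  have hcardR : Nat.card R = Nat.card A :=
    Nat.card_congr (MonoidHom.ofInjective (SemidirectProduct.inr_injective (φ := φ))).symm.toEquiv
  have hCmem : ∀ g : G, (e g : G ⋊[φ] A) ∈ Subgroup.centralizer (R : Set (G ⋊[φ] A)) → g ∈ C := by
    intro g hg
    refine (hC g).2 fun a ha => ?_
    have h := Subgroup.mem_centralizer_iff.1 hg (SemidirectProduct.inr ⟨a, ha⟩) ⟨_, rfl⟩
    have h' := congrArg SemidirectProduct.left h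
    rw [show (e g : G ⋊[φ] A) = SemidirectProduct.inl g from rfl] at h'
    simpa [φ] using h'
  have hfix' : ¬ Cfsg.Involves (Matrix.SpecialLinearGroup (Fin 2) (ZMod p) ⧸
      Subgroup.center (Matrix.SpecialLinearGroup (Fin 2) (ZMod p)))
      (G' ⊓ Subgroup.centralizer (R : Set (G ⋊[φ] A)) : Subgroup _) := by
    intro h
    obtain ⟨K, ψ, hψ⟩ := Cfsg.Agent.PStable.exists_surjective_of_involves h
    let r : Matrix.SpecialLinearGroup (Fin 2) (ZMod p) →* Matrix.SpecialLinearGroup (Fin 2) F :=
      Matrix.SpecialLinearGroup.map (ZMod.ringEquivOfPrime F hp.out hF).toRingHom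
    have hr : Function.Surjective r := fun y =>
      ⟨Matrix.SpecialLinearGroup.map (ZMod.ringEquivOfPrime F hp.out hF).symm.toRingHom y, by
        ext i j; simp [r]⟩
    let π : Matrix.SpecialLinearGroup (Fin 2) (ZMod p) ⧸ Subgroup.center _ →*
        Matrix.ProjectiveSpecialLinearGroup (Fin 2) F :=
      QuotientGroup.map _ _ r fun x hx => Subgroup.mem_center_iff.2 fun y => by
        obtain ⟨z, rfl⟩ := hr y
        rw [← map_mul, ← map_mul, Subgroup.mem_center_iff.1 hx z]
    have hπ : Function.Surjective π := fun y => by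
      obtain ⟨z, rfl⟩ := QuotientGroup.mk_surjective y
      obtain ⟨w, rfl⟩ := hr z
      exact ⟨QuotientGroup.mk w, rfl⟩
    let j : C →* G' := e.toMonoidHom.comp C.subtype
    let L : Subgroup C := ((K.map (Subgroup.subtype _)).subgroupOf G').comap j
    have hL : ∀ x : L, ∃ k : K, ((k : _) : G ⋊[φ] A) = (e ((x : C) : G) : G ⋊[φ] A) := fun x => by
      obtain ⟨k, hk, hkx⟩ := x.2
      exact ⟨⟨k, hk⟩, hkx⟩
    choose k hk using hL
    let f : L →* K := MonoidHom.mk' k fun x y => by
      apply Subtype.ext; apply Subtype.ext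
      show ((k (x * y) : _) : G ⋊[φ] A) = ((k x : _) : G ⋊[φ] A) * ((k y : _) : G ⋊[φ] A)
      rw [hk, hk, hk]; simp
    have hf : Function.Surjective f := fun y => by
      obtain ⟨g, hg⟩ := e.surjective ⟨_, (y : _).1.2.1⟩
      have hgC : g ∈ C := hCmem g (by rw [hg]; exact (y : _).1.2.2)
      let x : L := ⟨⟨g, hgC⟩, ⟨y.1, y.2, congrArg Subtype.val hg.symm⟩⟩
      refine ⟨x, Subtype.ext (Subtype.ext ?_)⟩
      show ((k x : _) : G ⋊[φ] A) = _
      rw [hk]; exact congrArg Subtype.val hg
    exact hfix ⟨L, Cfsg.Agent.PStable.exists_section_of_surjective (π.comp (ψ.comp f)) (hπ.comp (hψ.comp hf))⟩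
  have h := Cfsg.Agent.EquiQuad.zj_factor hp5 hgen (by rw [hcardG, hcardR]; exact hA)
    (Cfsg.Agent.PConstr.isPConstrained_congr e hG) (S.mapSurjective (f := e.toMonoidHom) e.surjective) hfix'
  rw [show ((S.mapSurjective (f := e.toMonoidHom) e.surjective : Sylow p G') : Subgroup G') =
      (S : Subgroup G).map e.toMonoidHom from rfl, ← Cfsg.Agent.ZJ.zJ_map (e.toMonoidHom : G →* G') (e.injective.injOn : Set.InjOn e.toMonoidHom (S : Subgroup G)),
    ← Subgroup.map_normalizer_eq_of_bijective _ (show Function.Bijective e.toMonoidHom from e.bijective),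
    ← Cfsg.Agent.PBasic.map_pPrimeCore_equiv e, ← Subgroup.map_sup,
    ← Cfsg.Agent.ZJ.centerThompsonAOf_eq] at h
  refine Subgroup.map_injective (f := e.toMonoidHom) e.injective ?_
  rw [h, Subgroup.map_top_of_surjective (e.toMonoidHom : G →* G') (show Function.Surjective e.toMonoidHom from e.surjective)]

end Cfsg.Agent.S3260
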