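import Cfsg.Statements.S3261
import Cfsg.Agent.Lib.Involutions.CentralizerD8
import Cfsg.Agent.S0495
import Cfsg.Agent.S0497
import Mathlib.Algebra.Field.ZMod

set_option autoImplicit false
open Cfsg

namespace Cfsg.Agent.S3261

/-- The model involution. -/
def tau : Equiv.Perm (Fin 6) := Equiv.swap 0 1 * Equiv.swap 2 3

/-- The model rotation. -/
def rot : Equiv.Perm (Fin 6) := Equiv.swap 0 3 * Equiv.swap 0 1 * Equiv.swap 0 2 * Equiv.swap 4 5

/-- The model reflection. -/
def refl' : Equiv.Perm (Fin 6) := Equiv.swap 0 1 * Equiv.swap 4 5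

/-- The dihedral group inside the alternating group. -/
def model : DihedralGroup 4 → Equiv.Perm (Fin 6)
  | .r i => rot ^ i.val
  | .sr i => refl' * rot ^ i.val

theorem model_mul : ∀ x y, model (x * y) = model x * model y := by decide +kernel

theorem model_inj : ∀ x y, model x = model y → x = y := by decide +kernel

theorem model_mem : ∀ x, model x * tau = tau * model x ∧ Equiv.Perm.sign (model x) = 1 := by
  decide +kernel

theorem model_surj : ∀ p : Equiv.Perm (Fin 6), p * tau = tau * p → Equiv.Perm.sign p = 1 →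
    ∃ x, model x = p := by decide +kernel

theorem tau_type : Equiv.Perm.sign tau = 1 ∧ tau ^ 2 = 1 ∧ tau.support.card = 4 := by
  decide +kernel

theorem cycleType_of_support {a : Equiv.Perm (Fin 6)} (h2 : a ^ 2 = 1) (hs : a.support.card = 4) :
    a.cycleType = {2, 2} := by
  haveI : Fact (Nat.Prime 2) := ⟨Nat.prime_two⟩
  have ha : a ≠ 1 := fun h => by simp [h] at hs
  obtain ⟨n, hn⟩ := Equiv.Perm.cycleType_prime_order (σ := a)
    (by rw [orderOf_eq_prime h2 ha]; exact Nat.prime_two)
  rw [orderOf_eq_prime h2 ha] at hn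
  have hsum := Equiv.Perm.sum_cycleType a
  rw [hn, Multiset.sum_replicate, smul_eq_mul, hs] at hsum
  obtain rfl : n = 1 := by omega
  rw [hn]
  rfl

theorem centralizer_equiv (a : ↥(alternatingGroup (Fin 6))) (ha : orderOf a = 2)
    (hs : (a : Equiv.Perm (Fin 6)).support.card = 4) :
    Nonempty (↥(Subgroup.centralizer ({a} : Set ↥(alternatingGroup (Fin 6)))) ≃* DihedralGroup 4) := by
  have h2 : (a : Equiv.Perm (Fin 6)) ^ 2 = 1 :=
    congrArg Subtype.val (orderOf_dvd_iff_pow_eq_one.1 (dvd_of_eq ha))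
  obtain ⟨σ, hσ⟩ := isConj_iff.1 (Equiv.Perm.isConj_iff_cycleType_eq.2
    ((cycleType_of_support tau_type.2.1 tau_type.2.2).trans (cycleType_of_support h2 hs).symm))
  let g : DihedralGroup 4 →* ↥(Subgroup.centralizer ({a} : Set ↥(alternatingGroup (Fin 6)))) :=
    MonoidHom.mk' (fun x => ⟨⟨σ * model x * σ⁻¹, Equiv.Perm.mem_alternatingGroup.2 (by
        simp [(model_mem x).2, mul_right_comm])⟩,
      Subgroup.mem_centralizer_singleton_iff.2 (Subtype.ext (by
        show σ * model x * σ⁻¹ * (a : Equiv.Perm (Fin 6)) = (a : Equiv.Perm (Fin 6)) * (σ * model x * σ⁻¹)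
        rw [← hσ]
        calc σ * model x * σ⁻¹ * (σ * tau * σ⁻¹) = σ * (model x * tau) * σ⁻¹ := by group
          _ = σ * (tau * model x) * σ⁻¹ := by rw [(model_mem x).1]
          _ = _ := by group))⟩)
      (fun x y => Subtype.ext (Subtype.ext (by
        show σ * model (x * y) * σ⁻¹ = σ * model x * σ⁻¹ * (σ * model y * σ⁻¹)
        rw [model_mul]; group)))
  refine ⟨(MulEquiv.ofBijective g ⟨fun x y h => model_inj x y ?_, fun z => ?_⟩).symm⟩
  · have h' : σ * model x * σ⁻¹ = σ * model y * σ⁻¹ := congrArg (fun u => u.1.1) h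
    exact mul_left_cancel (mul_right_cancel h')
  · have hz : (z.1.1 : Equiv.Perm (Fin 6)) * a = a * z.1.1 :=
      congrArg Subtype.val (Subgroup.mem_centralizer_singleton_iff.1 z.2)
    obtain ⟨x, hx⟩ := model_surj (σ⁻¹ * z.1.1 * σ) (by
      rw [← hσ] at hz
      calc σ⁻¹ * z.1.1 * σ * tau = σ⁻¹ * (z.1.1 * (σ * tau * σ⁻¹)) * σ := by group
        _ = σ⁻¹ * (σ * tau * σ⁻¹ * z.1.1) * σ := by rw [hz]
        _ = _ := by group) (by
      simp [Equiv.Perm.mem_alternatingGroup.1 z.1.2, mul_right_comm])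
    refine ⟨x, Subtype.ext (Subtype.ext ?_)⟩
    show σ * model x * σ⁻¹ = z.1.1
    rw [hx]; group

/-- Let α̃ be an involution of the alternating group A₆ that is a product of two disjoint transpositions (it lies in the centre of a Sylow 2-subgroup of A₆; its centralizer is dihedral of order 8). Let G be a finite group that has no subgroup of index 2 and contains an involution α, central in some Sylow 2-subgroup of G, with C_G(α) ≅ C_{A₆}(α̃). Then G is isomorphic to A₆ or to PSL₂(7). -/
theorem result {G : Type*} [Group G] [Finite G]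
    (hG : ∀ H : Subgroup G, H.index ≠ 2)
    (αt : ↥(alternatingGroup (Fin 6))) (hαt : orderOf αt = 2) (hsupp : (αt : Equiv.Perm (Fin 6)).support.card = 4)
    (α : G) (hα : orderOf α = 2) (S : Sylow 2 G) (hαS : α ∈ (S : Subgroup G)) (hαc : ∀ s ∈ (S : Subgroup G), s * α = α * s)
    (e : ↥(Subgroup.centralizer ({α} : Set G)) ≃* ↥(Subgroup.centralizer ({αt} : Set ↥(alternatingGroup (Fin 6))))) :
    Nonempty (G ≃* ↥(alternatingGroup (Fin 6))) ∨
      (∃ (F : Type) (_ : Field F) (_ : Fintype F), Fintype.card F = 7 ∧ Nonempty (G ≃* Matrix.ProjectiveSpecialLinearGroup (Fin 2) F)) := by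
  haveI := Fintype.ofFinite G
  obtain ⟨d⟩ := centralizer_equiv αt hαt hsupp
  have hS : CentD8.Setup G := CentD8.Setup.of_centralizer α hα (e.trans d) hG
  haveI := CentD8.isSimple hS
  rcases CentD8.card_eq hS with h | h
  · haveI : Fact (Nat.Prime 7) := ⟨by norm_num⟩
    exact Or.inr ⟨ZMod 7, inferInstance, inferInstance, ZMod.card 7,
      S0495.result h (ZMod.card 7)⟩
  · exact Or.inl (S0497.result h)

end Cfsg.Agent.S3261
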