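import Cfsg.Statements.S3264
import Cfsg.Agent.Lib.OddGraph.Meets

set_option autoImplicit false
open Cfsg

namespace Cfsg.Agent.S3264

open Cfsg.Agent.OddGraph

/-- Let G be a non-abelian finite simple group and X a conjugacy class of involutions of G. Form the graph on X in which two distinct involutions are joined when their product has odd order. Then this graph is connected. (By the Baer–Suzuki Theorem the graph has at least one edge; connectedness is the stronger statement.) -/
theorem result {G : Type*} [Group G] [Finite G] [IsSimpleGroup G]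
    (hG : ¬ IsMulCommutative G) (t : G) (ht : orderOf t = 2) :
    (SimpleGraph.fromRel fun x y : {x : G // IsConj t x} => Odd (orderOf (x.1 * y.1))).Connected := by
  haveI : Fact (Nat.Prime 2) := ⟨Nat.prime_two⟩
  obtain ⟨S, hS⟩ := (IsPGroup.of_card (n := 1)
    (by rw [Nat.card_zpowers, ht, pow_one]) : IsPGroup 2 (Subgroup.zpowers t)).exists_le_sylow
  have hne : (t : G) ≠ 1 := fun h => by rw [h, orderOf_one] at ht; omega
  haveI : Nontrivial ↥(S : Subgroup G) :=
    ⟨⟨⟨t, hS (Subgroup.mem_zpowers t)⟩, 1, fun h => hne (congrArg Subtype.val h)⟩⟩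
  haveI := S.isPGroup'.center_nontrivial
  obtain ⟨z, hz⟩ := exists_ne (1 : Subgroup.center ↥(S : Subgroup G))
  set K : Subgroup G :=
    { carrier := {g | ∀ x, orderOf x = 2 → Reach x (g * x * g⁻¹)}
      one_mem' := fun x _ => by simp; rfl
      mul_mem' := fun {g h} hg hh x hx => by
        have h2 := (hh x hx).conj g
        rw [show g * h * x * (g * h)⁻¹ = g * (h * x * h⁻¹) * g⁻¹ by group]
        exact (hg x hx).trans h2
      inv_mem' := fun {g} hg x hx => by
        have h2 := (hg x hx).conj g⁻¹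
        rw [show g⁻¹ * (g * x * g⁻¹) * g⁻¹⁻¹ = x by group] at h2
        exact h2.symm } with hK
  have hzK : ((z : ↥(S : Subgroup G)) : G) ∈ K := fun x hx => by
    obtain ⟨y, hy, hxy⟩ := meets G S x hx
    have hc : ((z : ↥(S : Subgroup G)) : G) * y = y * ((z : ↥(S : Subgroup G)) : G) :=
      (congrArg Subtype.val (Subgroup.mem_center_iff.1 z.2 ⟨y, hy⟩)).symm
    have h2 := hxy.conj ((z : ↥(S : Subgroup G)) : G)
    rw [show ((z : ↥(S : Subgroup G)) : G) * y * ((z : ↥(S : Subgroup G)) : G)⁻¹ = y by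
      rw [hc, mul_inv_cancel_right]] at h2
    exact hxy.trans h2.symm
  have hKn : K.Normal := by
    refine ⟨fun k hk g x hx => ?_⟩
    have h2 := (hk (g⁻¹ * x * g⁻¹⁻¹) (by rw [orderOf_conj, hx])).conj g
    rw [show g * (g⁻¹ * x * g⁻¹⁻¹) * g⁻¹ = x by group] at h2
    rwa [show g * (k * (g⁻¹ * x * g⁻¹⁻¹) * k⁻¹) * g⁻¹ = g * k * g⁻¹ * x * (g * k * g⁻¹)⁻¹ by group] at h2
  have hKtop : K = ⊤ := (hKn.eq_bot_or_eq_top).resolve_left fun h =>
    hz (Subtype.ext (Subtype.ext (by simpa [h] using hzK)))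
  have key : ∀ (b : G), Reach t b → ∀ hb : IsConj t b,
      (SimpleGraph.fromRel fun x y : {x : G // IsConj t x} => Odd (orderOf (x.1 * y.1))).Reachable
        ⟨t, IsConj.refl t⟩ ⟨b, hb⟩ := by
    intro b h
    induction h with
    | refl => intro _; exact SimpleGraph.Reachable.refl _
    | @tail c d hc hcd ih =>
      intro hd
      obtain ⟨g, hg⟩ := Reach.exists_conj hc
      have hcc : IsConj t c := isConj_iff.2 ⟨g, hg⟩
      by_cases hcd' : c = d
      · subst hcd'; exact ih hd
      refine (ih hcc).trans (SimpleGraph.Adj.reachable ?_)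
      exact ⟨fun h => hcd' (congrArg Subtype.val h), Or.inl hcd.2.2⟩
  have hall : ∀ x : {x : G // IsConj t x},
      (SimpleGraph.fromRel fun x y : {x : G // IsConj t x} => Odd (orderOf (x.1 * y.1))).Reachable
        ⟨t, IsConj.refl t⟩ x := by
    rintro ⟨x, hx⟩
    obtain ⟨g, rfl⟩ := isConj_iff.1 hx
    exact key _ ((hKtop ▸ Subgroup.mem_top g : g ∈ K) t ht) hx
  haveI : Nonempty {x : G // IsConj t x} := ⟨⟨t, IsConj.refl t⟩⟩
  exact ⟨fun x y => (hall x).symm.trans (hall y)⟩

end Cfsg.Agent.S3264
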