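import Cfsg.Statements.S3266
import Cfsg.Agent.Lib.PSLGraph.Main

set_option autoImplicit false
open Cfsg

namespace Cfsg.Agent.S3266

/-- Let F be a finite field with at least 4 elements and let X be a conjugacy class of involutions of PSL(2, F). The graph on X joining two distinct involutions whose product has odd order is connected and has diameter exactly 2. -/
theorem result {F : Type*} [Field F] [Fintype F] (hF : 4 ≤ Fintype.card F)
    (t : Matrix.ProjectiveSpecialLinearGroup (Fin 2) F) (ht : orderOf t = 2) :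
    (SimpleGraph.fromRel fun x y : {x : Matrix.ProjectiveSpecialLinearGroup (Fin 2) F // IsConj t x} =>
        Odd (orderOf (x.1 * y.1))).Connected ∧
      (SimpleGraph.fromRel fun x y : {x : Matrix.ProjectiveSpecialLinearGroup (Fin 2) F // IsConj t x} =>
        Odd (orderOf (x.1 * y.1))).diam = 2 := by
  classical
  have hw1 : SL2Inv.w (F := F) ∈ {g : Matrix.SpecialLinearGroup (Fin 2) F | PSL2Inv.pr g ≠ 1} := by
    intro h
    rcases PSL2Inv.pr_eq_one_iff.1 h with h | h
    · have := congrFun (congrFun (congrArg Subtype.val h) 1) 0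
      simp [SL2Inv.w] at this
    · have := congrFun (congrFun (congrArg Subtype.val h) 1) 0
      simp [SL2Inv.w, SL2Inv.coe_negOne] at this
  have ht2 : t * t = 1 := by
    have h := pow_orderOf_eq_one t
    rwa [ht, pow_two] at h
  have ht1 : t ≠ 1 := by rintro rfl; rw [orderOf_one] at ht; omega
  obtain ⟨g, hg, rfl⟩ := PSLGraph.exists_lift' ht2 ht1
  refine OddGraph.diam_two _ (PSL2Inv.pr SL2Inv.w) (PSLGraph.isConj_w hg ht1).symm ?_ ?_
  · intro y hy hne hna
    have hy1 : y ≠ 1 := by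
      rintro rfl
      exact hw1 (isConj_one_left.1 hy)
    have hyy : y * y = 1 := by
      obtain ⟨c, rfl⟩ := isConj_iff.1 hy
      rw [show c * PSL2Inv.pr SL2Inv.w * c⁻¹ * (c * PSL2Inv.pr SL2Inv.w * c⁻¹) =
        c * (PSL2Inv.pr SL2Inv.w * PSL2Inv.pr SL2Inv.w) * c⁻¹ by group,
        PSL2Inv.pr_mul_self SL2Inv.trace_w]
      group
    obtain ⟨y', hy', rfl⟩ := PSLGraph.exists_lift' hyy hy1
    obtain ⟨a, b, e, hdet, rfl⟩ := PSLGraph.exists_mk y' hy'
    obtain ⟨z, hz, hz1, hz2, o1, o2⟩ : ∃ z : Matrix.SpecialLinearGroup (Fin 2) F, z.1.trace = 0 ∧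
        PSL2Inv.pr z ≠ PSL2Inv.pr SL2Inv.w ∧ PSL2Inv.pr z ≠ PSL2Inv.pr (PSLGraph.mk a b e hdet) ∧
        Odd (orderOf (PSL2Inv.pr SL2Inv.w * PSL2Inv.pr z)) ∧
        Odd (orderOf (PSL2Inv.pr z * PSL2Inv.pr (PSLGraph.mk a b e hdet))) := by
      by_cases h2 : (2 : F) = 0
      · exact PSLGraph.hcom_two h2 hF a b e hdet hy1 hna
      by_cases h3 : Fintype.card F % 4 = 3
      · exact PSLGraph.hcom_three h3 hF a b e hdet hna
      · exact PSLGraph.hcom_one (FiniteField.isSquare_neg_one_iff.2 h3) h2 a b e hdet hna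
    refine ⟨_, PSLGraph.isConj_w hz ?_, hz1, hz2, o1, o2⟩
    intro h1
    rw [h1, mul_one, orderOf_eq_prime (p := 2)
      (by rw [pow_two, PSL2Inv.pr_mul_self SL2Inv.trace_w]) hw1] at o1
    exact absurd o1 (by decide)
  · obtain ⟨y, hy, hy1, hyw, hodd⟩ := PSLGraph.exists_far hF
    exact ⟨_, PSLGraph.isConj_w hy hy1, hyw, hodd⟩

end Cfsg.Agent.S3266
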