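import Cfsg.Statements.S3269
import Cfsg.Agent.S0215
import Cfsg.Agent.S0218
import Mathlib.GroupTheory.SpecificGroups.Quaternion
import Mathlib.GroupTheory.Transfer

set_option autoImplicit false
open Cfsg

namespace Cfsg.Agent.S3269

open scoped Classical in
/-- The number of square roots in a subgroup. -/
noncomputable def roots {G : Type*} [Group G] (H : Subgroup G) (x : G) : ℕ :=
  Nat.card {s : H // ((s : G) * (s : G)) = x}

/-- Let G be a finite group whose Sylow 2-subgroup S is an internal direct product Q × R with Q generalized quaternion (of order at least 8) and R a subgroup all of whose involutions are central in R. Then G is not simple. In particular no finite simple group has a Sylow 2-subgroup that is a direct product of one or more generalized quaternion groups. -/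
theorem result {G : Type*} [Group G] [Finite G]
    (S : Sylow 2 G) (Q R : Subgroup G) (hQR : Cfsg.IsInternalDirectProduct Q R (S : Subgroup G))
    (n : ℕ) (hn : 1 ≤ n) (eQ : ↥Q ≃* QuaternionGroup (2 ^ n))
    (hR : ∀ r ∈ R, orderOf r = 2 → ∀ s ∈ R, r * s = s * r) :
    ¬ IsSimpleGroup G := by
  classical
  intro hsimple
  obtain ⟨hQS, hRS, hcomm, hinf, hsup⟩ := hQR
  obtain ⟨m, rfl⟩ := Nat.exists_eq_add_of_le' hn
  haveI : NeZero (2 ^ (m + 1)) := ⟨(Nat.two_pow_pos (m + 1)).ne'⟩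
  -- the involution of `Q`
  obtain ⟨⟨zq, hzq⟩, huniq⟩ := Nat.card_eq_one_iff_exists.mp (S0218.result m)
  set z : G := ((eQ.symm zq : Q) : G) with hzdef
  have hzQ : z ∈ Q := (eQ.symm zq).2
  have hzo : orderOf z = 2 := by
    rw [hzdef, Subgroup.orderOf_coe, MulEquiv.orderOf_eq, hzq]
  have hz1 : z ≠ 1 := fun h => by rw [h, orderOf_one] at hzo; norm_num at hzo
  have hzz : z * z = 1 := by rw [← pow_two, ← hzo, pow_orderOf_eq_one]
  have hQinv : ∀ q ∈ Q, q * q = 1 → q = 1 ∨ q = z := by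
    intro q hq hqq
    by_cases h1 : q = 1
    · exact Or.inl h1
    right
    have ho : orderOf q = 2 := orderOf_eq_prime (by rw [pow_two, hqq]) h1
    have he := huniq ⟨eQ ⟨q, hq⟩, by rw [MulEquiv.orderOf_eq, ← Subgroup.orderOf_coe]; exact ho⟩
    have he' : eQ ⟨q, hq⟩ = zq := congrArg Subtype.val he
    rw [hzdef, ← he', MulEquiv.symm_apply_apply]
  have hzc : ∀ q ∈ Q, q * z = z * q := by
    intro q hq
    have h : q * z * q⁻¹ = z := by
      refine (hQinv _ (mul_mem (mul_mem hq hzQ) (inv_mem hq)) ?_).resolve_left ?_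
      · rw [show q * z * q⁻¹ * (q * z * q⁻¹) = q * (z * z) * q⁻¹ by group, hzz]; group
      · intro h
        apply hz1
        have := congrArg (fun w => q⁻¹ * w * q) h
        simpa [mul_assoc] using this
    exact mul_inv_eq_iff_eq_mul.mp h
  have hunique : ∀ q ∈ Q, ∀ r ∈ R, ∀ q' ∈ Q, ∀ r' ∈ R, q * r = q' * r' → q = q' ∧ r = r' := by
    intro q hq r hr q' hq' r' hr' h
    have h1 : q'⁻¹ * q = r' * r⁻¹ := by
      rw [eq_mul_inv_iff_mul_eq, mul_assoc, h, inv_mul_cancel_left]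
    have h2 : q'⁻¹ * q ∈ Q ⊓ R := ⟨Q.mul_mem (Q.inv_mem hq') hq, h1 ▸ R.mul_mem hr' (R.inv_mem hr)⟩
    rw [hinf, Subgroup.mem_bot] at h2
    have e := (inv_mul_eq_one.mp h2).symm
    subst e
    exact ⟨rfl, mul_left_cancel h⟩
  have hdec : ∀ s ∈ (S : Subgroup G), ∃ q ∈ Q, ∃ r ∈ R, q * r = s := by
    intro s hs
    let T : Subgroup G :=
      { carrier := {s | ∃ q ∈ Q, ∃ r ∈ R, q * r = s}
        one_mem' := ⟨1, Q.one_mem, 1, R.one_mem, mul_one 1⟩
        mul_mem' := by
          rintro _ _ ⟨q, hq, r, hr, rfl⟩ ⟨q', hq', r', hr', rfl⟩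
          exact ⟨q * q', mul_mem hq hq', r * r', mul_mem hr hr', by
            rw [show q * r * (q' * r') = q * (r * q') * r' by group, ← hcomm q' hq' r hr]; group⟩
        inv_mem' := by
          rintro _ ⟨q, hq, r, hr, rfl⟩
          exact ⟨q⁻¹, Q.inv_mem hq, r⁻¹, R.inv_mem hr, by
            rw [hcomm q⁻¹ (Q.inv_mem hq) r⁻¹ (R.inv_mem hr), mul_inv_rev]⟩ }
    have hle : Q ⊔ R ≤ T := sup_le (fun q hq => ⟨q, hq, 1, R.one_mem, mul_one q⟩)
      (fun r hr => ⟨1, Q.one_mem, r, hr, one_mul r⟩)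
    rw [← hsup] at hs
    exact hle hs
  have hsq : ∀ q ∈ Q, ∀ r ∈ R, (q * r) * (q * r) = (q * q) * (r * r) := by
    intro q hq r hr
    rw [show q * r * (q * r) = q * (r * q) * r by group, ← hcomm q hq r hr]; group
  have hzR : z ∉ R := fun h => hz1 (by
    have h2 : z ∈ Q ⊓ R := ⟨hzQ, h⟩
    rwa [hinf, Subgroup.mem_bot] at h2)
  -- involutions of `S`
  have hinvdec : ∀ x ∈ (S : Subgroup G), x * x = 1 →
      ∃ q ∈ Q, ∃ r ∈ R, q * r = x ∧ (q = 1 ∨ q = z) ∧ r * r = 1 := by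
    intro x hx hxx
    obtain ⟨q, hq, r, hr, rfl⟩ := hdec x hx
    rw [hsq q hq r hr] at hxx
    obtain ⟨hq2, hr2⟩ := hunique _ (mul_mem hq hq) _ (mul_mem hr hr) 1 Q.one_mem 1 R.one_mem (by rw [hxx, mul_one])
    exact ⟨q, hq, r, hr, rfl, hQinv q hq hq2, hr2⟩
  have hRinv : ∀ r ∈ R, r * r = 1 → ∀ s ∈ R, r * s = s * r := by
    intro r hr hrr s hs
    by_cases h : r = 1
    · simp [h]
    · exact hR r hr (orderOf_eq_prime (by rw [pow_two, hrr]) h) s hs
  have hcentral : ∀ x ∈ (S : Subgroup G), x * x = 1 →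
      x ∈ Subgroup.centralizer ((S : Subgroup G) : Set G) := by
    intro x hx hxx
    obtain ⟨q, hq, r, hr, rfl, hqc, hr2⟩ := hinvdec x hx hxx
    rw [Subgroup.mem_centralizer_iff]
    intro s hs
    obtain ⟨q', hq', r', hr', rfl⟩ := hdec s hs
    have e1 : q' * q = q * q' := by
      rcases hqc with h | h <;> rw [h]
      · simp
      · exact hzc q' hq'
    rw [show q' * r' * (q * r) = q' * (r' * q) * r by group, ← hcomm q hq r' hr',
      show q' * (q * r') * r = (q' * q) * (r' * r) by group, e1, ← hRinv r hr hr2 r' hr',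
      show q * q' * (r * r') = q * (q' * r) * r' by group, hcomm q' hq' r hr]
    group
  -- square roots
  have hroots : ∀ q₀ ∈ Q, ∀ r₀ ∈ R, roots (S : Subgroup G) (q₀ * r₀) = roots Q q₀ * roots R r₀ := by
    intro q₀ hq₀ r₀ hr₀
    unfold roots
    rw [← Nat.card_prod]
    symm
    refine Nat.card_eq_of_bijective (fun w => ⟨⟨(w.1.1 : G) * (w.2.1 : G),
      mul_mem (hQS w.1.1.2) (hRS w.2.1.2)⟩, by
        show ((w.1.1 : G) * (w.2.1 : G)) * ((w.1.1 : G) * (w.2.1 : G)) = q₀ * r₀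
        rw [hsq _ w.1.1.2 _ w.2.1.2, w.1.2, w.2.2]⟩) ⟨?_, ?_⟩
    · intro w w' h
      obtain ⟨h1, h2⟩ := hunique _ w.1.1.2 _ w.2.1.2 _ w'.1.1.2 _ w'.2.1.2
        (congrArg (fun v => ((v.1 : (S : Subgroup G)) : G)) h)
      exact Prod.ext (Subtype.ext (Subtype.ext h1)) (Subtype.ext (Subtype.ext h2))
    · rintro ⟨⟨s, hs⟩, hss⟩
      obtain ⟨q, hq, r, hr, rfl⟩ := hdec s hs
      obtain ⟨h1, h2⟩ := hunique _ (mul_mem hq hq) _ (mul_mem hr hr) _ hq₀ _ hr₀
        ((hsq q hq r hr).symm.trans hss)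
      exact ⟨⟨⟨⟨q, hq⟩, h1⟩, ⟨⟨r, hr⟩, h2⟩⟩, rfl⟩
  have hQ1 : roots Q 1 = 2 := by
    unfold roots
    rw [Nat.card_eq_two_iff]
    refine ⟨⟨1, mul_one 1⟩, ⟨⟨z, hzQ⟩, hzz⟩, fun h => hz1 (congrArg (fun v => ((v.1 : Q) : G)) h).symm, ?_⟩
    refine Set.eq_univ_of_forall fun ⟨⟨q, hq⟩, hqq⟩ => ?_
    rcases hQinv q hq hqq with h | h
    · left; exact Subtype.ext (Subtype.ext h)
    · right; exact Subtype.ext (Subtype.ext h)
  have hQz : 3 ≤ roots Q z := by
    have hzq' : zq = QuaternionGroup.a (2 ^ (m + 1) : ℕ) := by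
      have h := huniq ⟨QuaternionGroup.a (2 ^ (m + 1) : ℕ), by
        rw [← QuaternionGroup.xa_sq 0, orderOf_pow' _ two_ne_zero, QuaternionGroup.orderOf_xa]
        rfl⟩
      exact (congrArg Subtype.val h).symm
    have hle : Nat.card (ZMod (2 * 2 ^ (m + 1))) ≤ roots Q z := by
      unfold roots
      refine Nat.card_le_card_of_injective (fun i => (⟨eQ.symm (QuaternionGroup.xa i), by
        rw [hzdef, hzq', ← Subgroup.coe_mul, ← map_mul, ← pow_two, QuaternionGroup.xa_sq]⟩ :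
          {s : Q // (s : G) * (s : G) = z})) ?_
      intro i j h
      simpa using eQ.symm.injective (congrArg Subtype.val h)
    rw [Nat.card_zmod] at hle
    have : 2 ^ 1 ≤ 2 ^ (m + 1) := Nat.pow_le_pow_right (by norm_num) (by omega)
    omega
  -- involutions with the most square roots
  let I : Finset G := (Set.toFinite {x : G | x ∈ (S : Subgroup G) ∧ x * x = 1 ∧ x ≠ 1}).toFinset
  have hmemI : ∀ x, x ∈ I ↔ (x ∈ (S : Subgroup G) ∧ x * x = 1 ∧ x ≠ 1) := fun x => Set.Finite.mem_toFinset _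
  have hzI : z ∈ I := (hmemI z).2 ⟨hQS hzQ, hzz, hz1⟩
  obtain ⟨x₀, hx₀, hmax⟩ := I.exists_max_image (roots (S : Subgroup G)) ⟨z, hzI⟩
  have hzpos : 0 < roots (S : Subgroup G) z := by
    rw [← mul_one z, hroots z hzQ 1 R.one_mem]
    refine Nat.mul_pos (by omega) ?_
    unfold roots
    haveI : Nonempty {s : R // (s : G) * (s : G) = 1} := ⟨⟨1, by simp⟩⟩
    exact Nat.card_pos
  have hform : ∀ x ∈ I, roots (S : Subgroup G) x = roots (S : Subgroup G) x₀ → ∃ r ∈ R, x = z * r ∧ r * r = 1 := by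
    intro x hx hxe
    rw [hmemI] at hx
    obtain ⟨q, hq, r, hr, hqr, hqc, hr2⟩ := hinvdec x hx.1 hx.2.1
    rcases hqc with h | h
    · exfalso
      rw [h, one_mul] at hqr
      rw [← hqr] at hx hxe
      have hzr : z * r ∈ I := (hmemI _).2 ⟨mul_mem (hQS hzQ) (hRS hr), by rw [hsq z hzQ r hr, hzz, hr2, one_mul],
        fun h => hzR (by rw [mul_eq_one_iff_eq_inv.mp h]; exact inv_mem hr)⟩
      have h1 := hmax _ hzr
      have h2 := hmax _ hzI
      have e : roots (S : Subgroup G) r = 2 * roots R r := by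
        conv_lhs => rw [← one_mul r]
        rw [hroots 1 Q.one_mem r hr, hQ1]
      rw [← hxe, e, hroots z hzQ r hr] at h1
      rw [← hxe, e] at h2
      have : 3 * roots R r ≤ roots Q z * roots R r := Nat.mul_le_mul_right _ hQz
      omega
    · exact ⟨r, hr, by rw [← hqr, h], hr2⟩
  -- the normalizer orbit
  set N := Subgroup.normalizer ((S : Subgroup G) : Set G) with hN
  have hNI : ∀ g ∈ N, ∀ x ∈ I, g * x * g⁻¹ ∈ I := by
    intro g hg x hx
    rw [hmemI] at hx ⊢
    refine ⟨(Subgroup.mem_normalizer_iff.mp hg x).mp hx.1, ?_, fun h => hx.2.2 ?_⟩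
    · rw [show g * x * g⁻¹ * (g * x * g⁻¹) = g * (x * x) * g⁻¹ by group, hx.2.1]; group
    · have := congrArg (fun w => g⁻¹ * w * g) h
      simpa [mul_assoc] using this
  have hNroots : ∀ g ∈ N, ∀ x : G, roots (S : Subgroup G) (g * x * g⁻¹) = roots (S : Subgroup G) x := by
    intro g hg x
    unfold roots
    symm
    refine Nat.card_eq_of_bijective (fun s => ⟨⟨g * (s.1 : G) * g⁻¹, (Subgroup.mem_normalizer_iff.mp hg _).mp s.1.2⟩, by
      show g * (s.1 : G) * g⁻¹ * (g * (s.1 : G) * g⁻¹) = g * x * g⁻¹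
      rw [show g * (s.1 : G) * g⁻¹ * (g * (s.1 : G) * g⁻¹) = g * ((s.1 : G) * s.1) * g⁻¹ by group, s.2]⟩) ⟨?_, ?_⟩
    · intro a b h
      have h' := congrArg (fun v => ((v.1 : (S : Subgroup G)) : G)) h
      exact Subtype.ext (Subtype.ext (by simpa using h'))
    · rintro ⟨⟨s, hs⟩, hss⟩
      refine ⟨⟨⟨g⁻¹ * s * g, (Subgroup.mem_normalizer_iff''.mp hg _).mp hs⟩, ?_⟩, Subtype.ext (Subtype.ext ?_)⟩
      · show g⁻¹ * s * g * (g⁻¹ * s * g) = x
        rw [show g⁻¹ * s * g * (g⁻¹ * s * g) = g⁻¹ * (s * s) * g by group, hss]; group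
      · show g * (g⁻¹ * s * g) * g⁻¹ = s
        group
  let O : Finset G := I.filter fun y => ∃ g ∈ N, y = g * x₀ * g⁻¹
  have hxxS : ∀ y ∈ O, y ∈ (S : Subgroup G) ⊓ Subgroup.centralizer ((S : Subgroup G) : Set G) := fun y hy => by
    obtain ⟨h1, h2, -⟩ := (hmemI y).1 (Finset.mem_filter.mp hy).1
    exact ⟨h1, hcentral y h1 h2⟩
  have hodd : Odd O.card := by
    letI act : MulAction (ConjAct N) G := MulAction.compHom G
      ((ConjAct.toConjAct (G := G)).toMonoidHom.comp (N.subtype.comp ConjAct.ofConjAct.toMonoidHom))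
    have hsm : ∀ (g : ConjAct N) (y : G),
        g • y = ((ConjAct.ofConjAct g : N) : G) * y * ((ConjAct.ofConjAct g : N) : G)⁻¹ :=
      fun g y => rfl
    have horb : (O : Set G) = MulAction.orbit (ConjAct N) x₀ := by
      ext y
      constructor
      · intro hy
        obtain ⟨g, hg, rfl⟩ := (Finset.mem_filter.mp hy).2
        exact ⟨ConjAct.toConjAct ⟨g, hg⟩, rfl⟩
      · rintro ⟨g, rfl⟩
        exact Finset.mem_filter.mpr ⟨hNI _ (ConjAct.ofConjAct g).2 x₀ hx₀, _, (ConjAct.ofConjAct g).2, rfl⟩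
    rw [← Set.ncard_coe_finset, horb, ← MulAction.index_stabilizer]
    let S' : Subgroup (ConjAct N) :=
      (((S : Subgroup G).subgroupOf N)).map (ConjAct.toConjAct (G := N)).toMonoidHom
    have hle : S' ≤ MulAction.stabilizer (ConjAct N) x₀ := by
      rintro _ ⟨s, hs, rfl⟩
      rw [MulAction.mem_stabilizer_iff, hsm]
      have hc := hcentral x₀ ((hmemI x₀).1 hx₀).1 ((hmemI x₀).1 hx₀).2.1
      show (s : G) * x₀ * (s : G)⁻¹ = x₀
      rw [Subgroup.mem_centralizer_iff.mp hc (s : G) hs, mul_inv_cancel_right]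
    have hidx : S'.index = ((S : Subgroup G).subgroupOf N).index :=
      Subgroup.index_map_equiv _ (ConjAct.toConjAct (G := N))
    have h2 : ¬ 2 ∣ ((S : Subgroup G).subgroupOf N).index := fun h =>
      S.not_dvd_index (h.trans (Subgroup.relIndex_dvd_index_of_le Subgroup.le_normalizer))
    rw [← hidx] at h2
    exact Nat.not_even_iff_odd.mp fun he => h2 (he.two_dvd.trans (Subgroup.index_dvd_of_le hle))
  set V := (S : Subgroup G) ⊓ Subgroup.centralizer ((S : Subgroup G) : Set G) with hV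
  letI : CommGroup V :=
    { (inferInstance : Group V) with
      mul_comm := fun a b => Subtype.ext (Subgroup.mem_centralizer_iff.mp b.2.2 _ a.2.1) }
  let f : G → V := fun y => if h : y ∈ V then ⟨y, h⟩ else 1
  have hf : ∀ y ∈ V, ((f y : V) : G) = y := fun y hy => by simp [f, hy]
  set u : V := ∏ y ∈ O, f y with hu
  have hzV : z ∈ V := ⟨hQS hzQ, hcentral z (hQS hzQ) hzz⟩
  obtain ⟨ru, hru, hue⟩ : ∃ r : V, (r : G) ∈ R ∧ u = (⟨z, hzV⟩ : V) * r := by
    have h : ∀ y ∈ O, ∃ r : V, (r : G) ∈ R ∧ f y = (⟨z, hzV⟩ : V) * r := by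
      intro y hy
      obtain ⟨hyI, g, hg, rfl⟩ := Finset.mem_filter.mp hy
      obtain ⟨r, hr, hyr, hr2⟩ := hform _ hyI (hNroots g hg x₀)
      refine ⟨⟨r, hRS hr, hcentral r (hRS hr) hr2⟩, hr, Subtype.ext ?_⟩
      rw [hf _ (hxxS _ hy)]
      exact hyr
    choose! r hr hfr using h
    refine ⟨∏ y ∈ O, r y, ?_, ?_⟩
    · exact Finset.prod_induction _ (fun w : V => (w : G) ∈ R) (fun a b ha hb => R.mul_mem ha hb)
        R.one_mem hr
    · rw [hu, Finset.prod_congr rfl hfr, Finset.prod_mul_distrib, Finset.prod_const]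
      congr 1
      obtain ⟨k, hk⟩ := hodd
      rw [hk, pow_succ, pow_mul]
      have hz2 : (⟨z, hzV⟩ : V) ^ 2 = 1 := Subtype.ext (by simp [pow_two, hzz])
      rw [hz2, one_pow, one_mul]
  have hu1 : (u : G) ≠ 1 := fun h => hzR (by
    rw [hue] at h
    rw [mul_eq_one_iff_eq_inv.mp (show z * (ru : G) = 1 from h)]
    exact inv_mem hru)
  have hu2 : u ^ 2 = 1 := by
    rw [hu, ← Finset.prod_pow]
    refine Finset.prod_eq_one fun y hy => Subtype.ext ?_
    rw [Subgroup.coe_pow, hf y (hxxS y hy), pow_two, ((hmemI y).1 (Finset.mem_filter.mp hy).1).2.1]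
    rfl
  have hfix : ∀ g ∈ N, g * (u : G) * g⁻¹ = u := by
    intro g hg
    let φ : V →* G := (MulAut.conj g).toMonoidHom.comp V.subtype
    have hφ : ∀ y ∈ O, φ (f y) = V.subtype (f (g * y * g⁻¹)) := by
      intro y hy
      have hy' : g * y * g⁻¹ ∈ O := by
        obtain ⟨hyI, k, hk, rfl⟩ := Finset.mem_filter.mp hy
        exact Finset.mem_filter.mpr ⟨hNI g hg _ hyI, g * k, mul_mem hg hk, by group⟩
      show g * ((f y : V) : G) * g⁻¹ = ((f (g * y * g⁻¹) : V) : G)
      rw [hf y (hxxS y hy), hf _ (hxxS _ hy')]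
    have hmem : ∀ y ∈ O, g * y * g⁻¹ ∈ O := fun y hy => by
      obtain ⟨hyI, k, hk, rfl⟩ := Finset.mem_filter.mp hy
      exact Finset.mem_filter.mpr ⟨hNI g hg _ hyI, g * k, mul_mem hg hk, by group⟩
    have hmem' : ∀ y ∈ O, g⁻¹ * y * g ∈ O := fun y hy => by
      obtain ⟨hyI, k, hk, rfl⟩ := Finset.mem_filter.mp hy
      refine Finset.mem_filter.mpr ⟨?_, g⁻¹ * k, mul_mem (inv_mem hg) hk, by group⟩
      have := hNI g⁻¹ (inv_mem hg) _ hyI
      rwa [inv_inv] at this
    have key : (∏ y ∈ O, f (g * y * g⁻¹)) = u :=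
      Finset.prod_nbij' (fun y => g * y * g⁻¹) (fun y => g⁻¹ * y * g) hmem hmem'
        (fun y _ => by group) (fun y _ => by group) (fun y _ => rfl)
    have hVg : ∀ y ∈ V, g * y * g⁻¹ ∈ V := by
      intro y hy
      refine ⟨(Subgroup.mem_normalizer_iff.mp hg y).mp hy.1, Subgroup.mem_centralizer_iff.mpr fun s hs => ?_⟩
      have h := Subgroup.mem_centralizer_iff.mp hy.2 (g⁻¹ * s * g) ((Subgroup.mem_normalizer_iff''.mp hg s).mp hs)
      calc s * (g * y * g⁻¹) = g * ((g⁻¹ * s * g) * y) * g⁻¹ := by group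
        _ = g * (y * (g⁻¹ * s * g)) * g⁻¹ := by rw [h]
        _ = _ := by group
    let ψ : V →* V := φ.codRestrict V (fun y => hVg y y.2)
    have hψ : ψ u = u := by
      conv_rhs => rw [← key]
      rw [hu, map_prod]
      exact Finset.prod_congr rfl fun y hy => Subtype.ext (hφ y hy)
    exact congrArg Subtype.val hψ
  -- Z*
  have huS : (u : G) ∈ (S : Subgroup G) := u.2.1
  have huu : (u : G) * u = 1 := by rw [← Subgroup.coe_mul, ← pow_two, hu2]; rfl
  have huo : orderOf (u : G) = 2 := orderOf_eq_prime (by rw [pow_two, huu]) hu1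
  obtain ⟨M, hM, hModd, hMu⟩ := S0215.result S (u : G) huo huS fun g hg => by
    have hc := hcentral _ hg (by rw [show g * (u : G) * g⁻¹ * (g * (u : G) * g⁻¹) = g * ((u : G) * u) * g⁻¹ by group, huu]; group)
    obtain ⟨n, hn', he⟩ := S.conj_eq_normalizer_conj_of_mem_centralizer (u : G) g⁻¹ u.2.2 (by rwa [inv_inv])
    rw [inv_inv] at he
    rw [he]
    have := hfix n⁻¹ (inv_mem hn')
    rwa [inv_inv] at this
  haveI := hsimple
  rcases hM.eq_bot_or_eq_top with hb | ht
  · have hcen : (u : G) ∈ Subgroup.center G := Subgroup.mem_center_iff.mpr fun g => by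
      have h := hMu g
      rw [hb, Subgroup.mem_bot, mul_inv_eq_one, mul_inv_eq_iff_eq_mul] at h
      exact h.symm
    rcases (inferInstance : (Subgroup.center G).Normal).eq_bot_or_eq_top with hc | hc
    · exact hu1 (by rwa [hc, Subgroup.mem_bot] at hcen)
    · have hcom : ∀ a b : Q, a * b = b * a := fun a b => Subtype.ext
        ((Subgroup.mem_center_iff.mp (hc ▸ Subgroup.mem_top (a : G)) (b : G)).symm)
      have h := hcom (eQ.symm (QuaternionGroup.a 1)) (eQ.symm (QuaternionGroup.xa 0))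
      rw [← map_mul, ← map_mul] at h
      have h' := eQ.symm.injective h
      simp only [QuaternionGroup.a_mul_xa, QuaternionGroup.xa_mul_a, QuaternionGroup.xa.injEq] at h'
      have h2 : ((2 : ℕ) : ZMod (2 * 2 ^ (m + 1))) = 0 := by linear_combination -h'
      rw [ZMod.natCast_eq_zero_iff] at h2
      have := Nat.le_of_dvd (by norm_num) h2
      have h4 : 2 ^ 1 ≤ 2 ^ (m + 1) := Nat.pow_le_pow_right (by norm_num) (by omega)
      omega
  · rw [ht, Subgroup.card_top] at hModd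
    exact Nat.not_even_iff_odd.mpr hModd (even_iff_two_dvd.mpr (hzo ▸ orderOf_dvd_natCard z))

end Cfsg.Agent.S3269
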