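import Cfsg.Statements.S3276
import Mathlib.GroupTheory.OrderOfElement
import Mathlib.GroupTheory.QuotientGroup.Basic
import Mathlib.Tactic.Group

set_option autoImplicit false
open Cfsg

namespace Cfsg.Agent.S3276

theorem conj_or_commuting {G : Type*} [Group G] [Finite G] (x v : G) (hx : orderOf x = 2) (hv : orderOf v = 2) :
    IsConj x v ∨ ∃ u : G, orderOf u = 2 ∧ Commute u x ∧ Commute u v := by
  have hxx : x⁻¹ = x := inv_eq_of_mul_eq_one_right (by rw [← pow_two, ← hx, pow_orderOf_eq_one])
  have hvv : v⁻¹ = v := inv_eq_of_mul_eq_one_right (by rw [← pow_two, ← hv, pow_orderOf_eq_one])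
  set d := x * v with hd
  have hxd : x * d * x⁻¹ = d⁻¹ := by
    rw [hd]
    calc x * (x * v) * x⁻¹ = (x * x) * v * x⁻¹ := by group
      _ = v * x := by
          have : x * x = 1 := by rw [← pow_two, ← hx, pow_orderOf_eq_one]
          rw [this, one_mul, hxx]
      _ = (x * v)⁻¹ := by rw [mul_inv_rev, hxx, hvv]
  have hxdi : ∀ i : ℕ, x * d ^ i * x⁻¹ = (d ^ i)⁻¹ := fun i => by
    rw [← conj_pow, hxd, inv_pow]
  have hk : 0 < orderOf d := orderOf_pos d
  rcases Nat.even_or_odd (orderOf d) with ⟨m, hm⟩ | ⟨m, hm⟩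
  · right
    refine ⟨d ^ m, ?_, ?_, ?_⟩
    · rw [orderOf_pow, hm]
      have : Nat.gcd (m + m) m = m := by simp
      rw [this, show m + m = m * 2 by omega, Nat.mul_div_cancel_left 2 (by omega)]
    · have h2 : d ^ m * d ^ m = 1 := by rw [← pow_add, ← hm, pow_orderOf_eq_one]
      have := hxdi m
      rw [inv_eq_of_mul_eq_one_right h2] at this
      exact (mul_inv_eq_iff_eq_mul.mp this).symm
    · have h2 : d ^ m * d ^ m = 1 := by rw [← pow_add, ← hm, pow_orderOf_eq_one]
      have := hxdi m
      rw [inv_eq_of_mul_eq_one_right h2] at this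
      have hcx : Commute (d ^ m) x := (mul_inv_eq_iff_eq_mul.mp this).symm
      have hv' : v = x⁻¹ * d := by simp [hd]
      rw [hv']
      exact hcx.inv_right.mul_right ((Commute.refl d).pow_left m)
  · left
    refine isConj_iff.mpr ⟨(d ^ (m + 1))⁻¹, ?_⟩
    have hmove : (d ^ (m + 1))⁻¹ * x = x * d ^ (m + 1) := by
      have := hxdi (m + 1)
      rw [mul_inv_eq_iff_eq_mul] at this
      exact this.symm
    rw [inv_inv, hmove, mul_assoc, ← pow_add,
      show m + 1 + (m + 1) = orderOf d + 1 by omega, pow_succ, pow_orderOf_eq_one, one_mul, hd,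
      ← mul_assoc, ← pow_two, ← hx, pow_orderOf_eq_one, one_mul]


/-- Let x and y be commuting, non-conjugate involutions of a finite group G, and suppose that for every involution u commuting with x, each conjugate of y that commutes with u also commutes with y. Then the normal closure of y is a proper, normal, elementary abelian 2-subgroup of G; and if y is the only involution of that normal closure commuting with x, it has order at most 4. -/
theorem result {G : Type*} [Group G] [Finite G] (x y : G) (hx : orderOf x = 2) (hy : orderOf y = 2)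
    (hxy : Commute x y) (hnc : ¬ IsConj x y)
    (hstar : ∀ u : G, orderOf u = 2 → Commute u x → ∀ g : G, Commute (g * y * g⁻¹) u → Commute (g * y * g⁻¹) y) :
    Subgroup.normalClosure ({y} : Set G) ≠ ⊤ ∧ Cfsg.IsElementaryAbelian 2 (Subgroup.normalClosure ({y} : Set G)) ∧
      ((∀ u ∈ Subgroup.normalClosure ({y} : Set G), orderOf u = 2 → Commute u x → u = y) →
        Nat.card ↥(Subgroup.normalClosure ({y} : Set G)) ≤ 4) := by
  set N := Subgroup.normalClosure ({y} : Set G)
  -- every conjugate of y commutes with y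
  have hcy : ∀ g : G, Commute (g * y * g⁻¹) y := by
    intro g
    have hv : orderOf (g * y * g⁻¹) = 2 := by
      rw [← hy]; exact (MulAut.conj g).orderOf_eq y
    rcases conj_or_commuting x (g * y * g⁻¹) hx hv with h | ⟨u, hu, hux, huv⟩
    · exact absurd (h.trans (isConj_iff.mpr ⟨g, rfl⟩ : IsConj y (g * y * g⁻¹)).symm) hnc
    · exact hstar u hu hux g huv.symm
  have hS : ∀ a ∈ Group.conjugatesOfSet ({y} : Set G), ∀ b ∈ Group.conjugatesOfSet ({y} : Set G), a * b = b * a := by
    intro a ha b hb
    rw [Group.mem_conjugatesOfSet_iff] at ha hb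
    obtain ⟨w, hw, ha⟩ := ha; rw [Set.mem_singleton_iff.mp hw] at ha
    obtain ⟨w', hw', hb⟩ := hb; rw [Set.mem_singleton_iff.mp hw'] at hb
    obtain ⟨g, rfl⟩ := isConj_iff.mp ha
    obtain ⟨k, rfl⟩ := isConj_iff.mp hb
    have := (hcy (k⁻¹ * g)).map (MulAut.conj k).toMonoidHom
    simpa [mul_assoc] using this.eq
  have hcomm : IsMulCommutative ↥N := by
    haveI := Subgroup.isMulCommutative_closure hS
    exact this
  haveI := hcomm
  have hcommN : ∀ a ∈ N, ∀ b ∈ N, a * b = b * a := fun a ha b hb => Subgroup.mul_comm_of_mem_isMulCommutative N ha hb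
  have hsq : ∀ a ∈ N, a ^ 2 = 1 := by
    intro a ha
    induction ha using Subgroup.closure_induction with
    | mem b hb =>
      rw [Group.mem_conjugatesOfSet_iff] at hb
      obtain ⟨w', hw', hb⟩ := hb; rw [Set.mem_singleton_iff.mp hw'] at hb
      obtain ⟨g, rfl⟩ := isConj_iff.mp hb
      rw [conj_pow, ← hy, pow_orderOf_eq_one]; simp
    | one => simp
    | mul b c hb hc ihb ihc => rw [(show Commute b c from hcommN b hb c hc).mul_pow, ihb, ihc, one_mul]
    | inv b _ ih => rw [inv_pow, ih, inv_one]
  refine ⟨?_, ⟨hcomm, hsq⟩, ?_⟩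
  · intro htop
    have hall : ∀ a b : G, a * b = b * a := fun a b => hcommN a (htop ▸ Subgroup.mem_top a) b (htop ▸ Subgroup.mem_top b)
    have hle : N ≤ Subgroup.zpowers y := by
      refine (Subgroup.closure_le _).mpr ?_
      intro a ha
      rw [Group.mem_conjugatesOfSet_iff] at ha
      obtain ⟨w, hw, ha⟩ := ha; rw [Set.mem_singleton_iff.mp hw] at ha
      obtain ⟨g, rfl⟩ := isConj_iff.mp ha
      rw [hall g y, mul_inv_cancel_right]
      exact Subgroup.mem_zpowers y
    classical
    have hxz : x ∈ Subgroup.zpowers y := hle (htop ▸ Subgroup.mem_top x)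
    obtain ⟨k, hk, hk'⟩ := Finset.mem_image.mp (mem_zpowers_iff_mem_range_orderOf.mp hxz)
    rw [hy, Finset.mem_range] at hk
    interval_cases k
    · simp at hk'; rw [← hk'] at hx; simp at hx
    · simp only [pow_one] at hk'; rw [← hk'] at hnc; exact hnc (IsConj.refl y)
  · intro hu
    have hN : ∀ a ∈ N, x * a * x⁻¹ ∈ N := fun a ha => (Subgroup.normalClosure_normal).conj_mem a ha x
    let ψ : ↥N →* G :=
      { toFun := fun a => (a : G) * (x * a * x⁻¹)
        map_one' := by simp
        map_mul' := fun a b => by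
          have h := hcommN (b : G) b.2 _ (hN a a.2)
          simp only [Subgroup.coe_mul]
          rw [← conj_mul, mul_assoc, ← mul_assoc (b : G), h]
          simp only [mul_assoc] }
    have hxx : x * x = 1 := by rw [← pow_two, ← hx, pow_orderOf_eq_one]
    have hfix : ∀ b ∈ N, x * b * x⁻¹ = b → b = 1 ∨ b = y := by
      intro b hb h
      by_cases hb1 : b = 1
      · exact Or.inl hb1
      · exact Or.inr (hu b hb (orderOf_eq_prime (hsq b hb) hb1) (mul_inv_eq_iff_eq_mul.mp h).symm)
    have hker : ∀ a ∈ ψ.ker, (a : G) = 1 ∨ (a : G) = y := by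
      intro a ha
      refine hfix a a.2 ?_
      rw [MonoidHom.mem_ker] at ha
      change (a : G) * (x * a * x⁻¹) = 1 at ha
      rw [← inv_eq_of_mul_eq_one_right ha]
      exact inv_eq_of_mul_eq_one_right (by rw [← pow_two]; exact hsq _ a.2)
    have hrange : ∀ b ∈ ψ.range, b = 1 ∨ b = y := by
      rintro _ ⟨a, rfl⟩
      refine hfix _ (N.mul_mem a.2 (hN a a.2)) ?_
      change x * ((a : G) * (x * a * x⁻¹)) * x⁻¹ = _
      have hxi : x⁻¹ = x := inv_eq_of_mul_eq_one_right hxx
      calc x * ((a : G) * (x * a * x⁻¹)) * x⁻¹ = (x * a * x⁻¹) * (x * x * a * (x * x)⁻¹) := by group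
        _ = (a : G) * (x * a * x⁻¹) := by rw [hxx]; simp only [one_mul, inv_one, mul_one]; exact hcommN _ (hN a a.2) _ a.2
    classical
    have c1 : Nat.card ↥ψ.ker ≤ 2 := by
      refine (Nat.card_le_card_of_injective (fun a : ↥ψ.ker => (⟨((a : ↥N) : G), by
        rcases hker a a.2 with h | h <;> simp [h]⟩ : ↥({1, y} : Finset G))) ?_).trans ?_
      · intro a b h; exact Subtype.ext (Subtype.ext (congrArg Subtype.val h :))
      · simp only [Nat.card_eq_fintype_card, Fintype.card_coe]; exact Finset.card_le_two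
    have c2 : Nat.card ↥ψ.range ≤ 2 := by
      refine (Nat.card_le_card_of_injective (fun a : ↥ψ.range => (⟨(a : G), by
        rcases hrange a a.2 with h | h <;> simp [h]⟩ : ↥({1, y} : Finset G))) ?_).trans ?_
      · intro a b h; exact Subtype.ext (congrArg Subtype.val h :)
      · simp only [Nat.card_eq_fintype_card, Fintype.card_coe]; exact Finset.card_le_two
    rw [← ψ.ker.index_mul_card, Subgroup.index_ker]
    exact Nat.mul_le_mul c2 c1

end Cfsg.Agent.S3276
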