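import Cfsg.Statements.S3279
import Cfsg.Agent.Lib.Involutions.Dihedral
import Cfsg.Agent.Lib.Transfer.Fusion

set_option autoImplicit false
open Cfsg

namespace Cfsg.Agent.S3279

lemma invol_mul {G : Type*} [Group G] {x z : G} (hx : orderOf x = 2) (hz : orderOf z = 2)
    (hc : Commute x z) (hne : x ≠ z) : orderOf (x * z) = 2 :=
  Invol.order_two_of_sq (by rw [hc.symm.mul_mul_mul_comm, Invol.mul_self hx, Invol.mul_self hz, one_mul])
    (fun h => hne (by rw [mul_eq_one_iff_eq_inv, Invol.inv_self hz] at h; exact h))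

/-- The involutions commuting with `x`. -/
lemma memC {G : Type*} [Group G] [Finite G] {x z : G} (hx : orderOf x = 2) (hz : orderOf z = 2)
    (hc : Commute x z) (hne : x ≠ z)
    (h3 : Nat.card {u : ↥(Subgroup.centralizer ({x} : Set G)) // orderOf u = 2} ≤ 3)
    {c : G} (hco : orderOf c = 2) (hcx : Commute c x) : c = x ∨ c = z ∨ c = x * z := by
  classical
  haveI := Fintype.ofFinite G
  by_contra hno
  push Not at hno
  obtain ⟨h1, h2, h4⟩ := hno
  let T : Finset G := {x, z, x * z, c}
  have hxz1 : x ≠ x * z := fun h => Invol.ne_one hz (mul_eq_left.mp h.symm)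
  have hxz2 : z ≠ x * z := fun h => Invol.ne_one hx (mul_eq_right.mp h.symm)
  have hT : T.card = 4 := by
    simp [T, Finset.card_insert_of_notMem, hne, hxz1, hxz2, Ne.symm h1, Ne.symm h2, Ne.symm h4]
  have hmem : ∀ t ∈ T, orderOf t = 2 ∧ t ∈ Subgroup.centralizer ({x} : Set G) := by
    intro t ht
    simp only [T, Finset.mem_insert, Finset.mem_singleton] at ht
    rw [Subgroup.mem_centralizer_singleton_iff]
    rcases ht with rfl | rfl | rfl | rfl
    exacts [⟨hx, rfl⟩, ⟨hz, hc.symm.eq⟩, ⟨invol_mul hx hz hc hne, ((Commute.refl x).mul_left hc.symm).eq⟩,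
      ⟨hco, hcx.eq⟩]
  let f : T → {u : ↥(Subgroup.centralizer ({x} : Set G)) // orderOf u = 2} := fun t =>
    ⟨⟨t.1, (hmem t.1 t.2).2⟩, by rw [Subgroup.orderOf_mk]; exact (hmem t.1 t.2).1⟩
  have hf : Function.Injective f := fun a b h => Subtype.ext (congrArg (fun u => (u.1 : G)) h)
  have := (Nat.card_le_card_of_injective f hf).trans h3
  rw [Nat.card_eq_finsetCard, hT] at this
  omega

/-- Every involution is conjugate into a given Sylow `2`-subgroup. -/
lemma exists_conj_mem {G : Type*} [Group G] [Finite G] (S : Sylow 2 G) {t : G} (ht : orderOf t = 2) :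
    ∃ g : G, g * t * g⁻¹ ∈ (S : Subgroup G) := by
  haveI : Fact (Nat.Prime 2) := ⟨Nat.prime_two⟩
  obtain ⟨R, hR⟩ := (IsPGroup.of_card (n := 1) (by rw [Nat.card_zpowers, ht, pow_one]) :
    IsPGroup 2 (Subgroup.zpowers t)).exists_le_sylow
  obtain ⟨h, hh⟩ := MulAction.exists_smul_eq G R S
  refine ⟨h, ?_⟩
  rw [← hh, Sylow.coe_subgroup_smul]
  exact Subgroup.smul_mem_pointwise_smul t (MulAut.conj h) _ (hR (Subgroup.mem_zpowers t))

/-- A simple group with two commuting involutions has no central involution. -/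
lemma false_of_central {G : Type*} [Group G] [Finite G] [IsSimpleGroup G] {x z w : G}
    (hx : orderOf x = 2) (hz : orderOf z = 2) (hxz : x ≠ z) (hw : orderOf w = 2)
    (hwc : ∀ g : G, Commute g w) : False := by
  classical
  have hn : (Subgroup.zpowers w).Normal := ⟨fun n hn g => by
    obtain ⟨k, rfl⟩ := Subgroup.mem_zpowers_iff.1 hn
    rw [((hwc g).zpow_right k).eq, mul_inv_cancel_right]
    exact hn⟩
  rcases hn.eq_bot_or_eq_top with h | h
  · exact Invol.ne_one hw (Subgroup.mem_bot.1 (h ▸ Subgroup.mem_zpowers w))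
  · have hG : Nat.card G = 2 := by
      rw [← Subgroup.card_top (G := G), ← h, Nat.card_zpowers, hw]
    haveI := Fintype.ofFinite G
    have h2 : ({1, x, z} : Finset G).card ≤ Fintype.card G := Finset.card_le_univ _
    rw [Fintype.card_eq_nat_card, hG] at h2
    simp [Finset.card_insert_of_notMem, (Invol.ne_one hx).symm, (Invol.ne_one hz).symm, hxz] at h2

/-- If all conjugates of `z` commute with `w`, then `w` is central. -/
lemma central_of_conjugates {G : Type*} [Group G] [IsSimpleGroup G] {z w : G} (hz : z ≠ 1)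
    (h : ∀ g : G, Commute (g * z * g⁻¹) w) (a : G) : Commute a w := by
  have hle : Subgroup.normalClosure ({z} : Set G) ≤ Subgroup.centralizer ({w} : Set G) := by
    rw [Subgroup.normalClosure, Subgroup.closure_le]
    intro b hb
    obtain ⟨b', hb', hc⟩ := Group.mem_conjugatesOfSet_iff.1 hb
    rw [Set.mem_singleton_iff] at hb'
    subst hb'
    obtain ⟨g, rfl⟩ := isConj_iff.1 hc
    exact Subgroup.mem_centralizer_singleton_iff.2 (h g).eq
  rcases (Subgroup.normalClosure_normal (s := ({z} : Set G))).eq_bot_or_eq_top with e | e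
  · exact absurd (Subgroup.mem_bot.1 (e ▸ Subgroup.subset_normalClosure rfl)) hz
  · exact Subgroup.mem_centralizer_singleton_iff.1 (hle (e ▸ Subgroup.mem_top a))

open Pointwise in
/-- A Sylow `2`-subgroup centralizes `x`. -/
lemma exists_sylow_le {G : Type*} [Group G] [Finite G] [IsSimpleGroup G] (x : G) (hx : orderOf x = 2)
    (h3 : Nat.card {u : ↥(Subgroup.centralizer ({x} : Set G)) // orderOf u = 2} ≤ 3) :
    ∃ S : Sylow 2 G, (S : Subgroup G) ≤ Subgroup.centralizer ({x} : Set G) := by
  haveI : Fact (Nat.Prime 2) := ⟨Nat.prime_two⟩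
  classical
  set C := Subgroup.centralizer ({x} : Set G) with hC
  by_contra hno
  push Not at hno
  obtain ⟨R⟩ : Nonempty (Sylow 2 ↥C) := inferInstance
  set D : Subgroup G := (R : Subgroup ↥C).map C.subtype with hD
  have hDp : IsPGroup 2 D := R.2.map _
  obtain ⟨S, hDS⟩ := hDp.exists_le_sylow
  have hDC : D ≤ C := Subgroup.map_subtype_le _
  have hDmax : ∀ a, a ∈ (S : Subgroup G) → a ∈ C → a ∈ D := by
    intro a haS haC
    have hp : IsPGroup 2 ((S : Subgroup G).subgroupOf C) := by
      exact S.2.comap_of_injective _ C.subtype_injective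
    have hle : (R : Subgroup ↥C) ≤ (S : Subgroup G).subgroupOf C := fun r hr =>
      Subgroup.mem_subgroupOf.2 (hDS ⟨r, hr, rfl⟩)
    exact ⟨⟨a, haC⟩, (R.3 hp hle).le (Subgroup.mem_subgroupOf.2 haS), rfl⟩
  have hxD : x ∈ D := by
    have hxC : x ∈ C := Subgroup.mem_centralizer_singleton_iff.2 rfl
    have hp : IsPGroup 2 (Subgroup.zpowers (⟨x, hxC⟩ : C)) :=
      IsPGroup.of_card (n := 1) (by rw [Nat.card_zpowers, Subgroup.orderOf_mk, hx, pow_one])
    haveI : (Subgroup.zpowers (⟨x, hxC⟩ : C)).Normal := ⟨fun n hn g => by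
      obtain ⟨k, rfl⟩ := Subgroup.mem_zpowers_iff.1 hn
      have hcg : Commute g (⟨x, hxC⟩ : C) :=
        Subtype.ext (Subgroup.mem_centralizer_singleton_iff.1 g.2)
      rw [(hcg.zpow_right k).eq, mul_inv_cancel_right]
      exact hn⟩
    exact ⟨⟨x, hxC⟩, hp.le_sylow_of_normal R (Subgroup.mem_zpowers _), rfl⟩
  have hxS := hDS hxD
  obtain ⟨z, hzS, hzo, hzc⟩ : ∃ z ∈ (S : Subgroup G), orderOf z = 2 ∧ ∀ y ∈ (S : Subgroup G), Commute y z := by
    have hSnt : Nontrivial (S : Subgroup G) :=
      ⟨⟨x, hxS⟩, 1, fun h => Invol.ne_one hx (congrArg Subtype.val h)⟩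
    obtain ⟨k, hk⟩ := IsPGroup.iff_card.mp (S.2.to_subgroup (Subgroup.center (S : Subgroup G)))
    have := S.2.center_nontrivial
    have h1 : 1 < Nat.card (Subgroup.center (S : Subgroup G)) := Finite.one_lt_card
    obtain ⟨z', hz'⟩ := exists_prime_orderOf_dvd_card' (p := 2)
      (show 2 ∣ Nat.card (Subgroup.center (S : Subgroup G)) by
        rw [hk] at h1 ⊢
        exact dvd_pow_self 2 (by rintro rfl; simp at h1))
    refine ⟨((z' : (S : Subgroup G)) : G), SetLike.coe_mem _, ?_, fun y hy =>
      congrArg Subtype.val (Subgroup.mem_center_iff.mp z'.2 ⟨y, hy⟩)⟩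
    rw [Subgroup.orderOf_coe, Subgroup.orderOf_coe, hz']
  have hxz : x ≠ z := fun h => hno S fun s hs =>
    Subgroup.mem_centralizer_singleton_iff.2 (h ▸ (hzc s hs).eq)
  have hxzc : Commute x z := hzc x hxS
  have memC' : ∀ {c : G}, orderOf c = 2 → Commute c x → c = x ∨ c = z ∨ c = x * z :=
    fun hco hcx => memC hx hzo hxzc hxz h3 hco hcx
  -- `x z` is conjugate to `x` in `S`
  obtain ⟨s, hsS, hsx⟩ : ∃ s ∈ (S : Subgroup G), s * x * s⁻¹ = x * z := by
    haveI : Group.IsNilpotent (S : Subgroup G) := S.2.isNilpotent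
    have htop : D.subgroupOf (S : Subgroup G) < ⊤ :=
      lt_top_iff_ne_top.2 fun h => hno S ((Subgroup.subgroupOf_eq_top.1 h).trans hDC)
    obtain ⟨⟨s, hs⟩, hsN, hsD⟩ := SetLike.exists_of_lt
      (Group.normalizerCondition_of_isNilpotent (G := (S : Subgroup G)) _ htop)
    refine ⟨s, hs, ?_⟩
    have h2 : s * x * s⁻¹ ∈ D := by
      simpa [Subgroup.mem_subgroupOf] using
        (Subgroup.mem_normalizer_iff.1 hsN ⟨x, hxS⟩).1 (Subgroup.mem_subgroupOf.2 hxD)
    rcases memC' (c := s * x * s⁻¹) (by rw [Invol.order_conj, hx])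
      (Subgroup.mem_centralizer_singleton_iff.1 (hDC h2)) with h | h | h
    · exact absurd (Subgroup.mem_subgroupOf.2 (hDmax s hs (Subgroup.mem_centralizer_singleton_iff.2
        (mul_inv_eq_iff_eq_mul.1 h)))) hsD
    · refine absurd ?_ hxz
      calc x = s⁻¹ * (s * x * s⁻¹) * s := by group
        _ = s⁻¹ * (z * s) := by rw [h]; group
        _ = z := by rw [← (hzc s hs).eq, inv_mul_cancel_left]
    · exact h
  -- `x` and `z` are not conjugate
  have hnconj : ∀ g : G, g * x * g⁻¹ ≠ z := by
    intro g hg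
    refine hno (g⁻¹ • S) fun y hy => ?_
    rw [Sylow.coe_subgroup_smul, Subgroup.mem_pointwise_smul_iff_inv_smul_mem, ← map_inv,
      MulAut.smul_def, MulAut.conj_apply, inv_inv] at hy
    rw [Subgroup.mem_centralizer_singleton_iff]
    have h := (hzc _ hy).eq
    rw [← hg] at h
    calc y * x = g⁻¹ * (g * y * g⁻¹ * (g * x * g⁻¹)) * g := by group
      _ = g⁻¹ * (g * x * g⁻¹ * (g * y * g⁻¹)) * g := by rw [h]
      _ = x * y := by group
  -- conjugates of `z` commute
  have key : ∀ g v : G, (∃ h, h * z * h⁻¹ = v) → Commute (g * z * g⁻¹) v := by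
    rintro g v ⟨h, hv⟩
    set u := g * x * g⁻¹ with hu
    have huo : orderOf u = 2 := by rw [hu, Invol.order_conj, hx]
    have hvo : orderOf v = 2 := by rw [← hv, Invol.order_conj, hzo]
    have heven : Even (orderOf (u * v)) := by
      rw [← Nat.not_odd_iff_even]
      intro hodd
      obtain ⟨d, -, hd⟩ := Invol.conj_of_odd huo hvo hodd
      refine hnconj (h⁻¹ * d * g) ?_
      calc h⁻¹ * d * g * x * (h⁻¹ * d * g)⁻¹ = h⁻¹ * (d * (g * x * g⁻¹) * d⁻¹) * h := by group
        _ = z := by rw [← hu, hd, ← hv]; group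
    set w := (u * v) ^ (orderOf (u * v) / 2) with hw
    have hwu : w * u = u * w := (Invol.half_commute huo hvo heven).1.eq
    have hwv : w * v = v * w := (Invol.half_commute huo hvo heven).2.eq
    have hwo : orderOf w = 2 := Invol.half_order huo hvo heven (orderOf_pos _)
    have huv : u ≠ v := fun e => hnconj (h⁻¹ * g) (by
      calc h⁻¹ * g * x * (h⁻¹ * g)⁻¹ = h⁻¹ * u * h := by rw [hu]; group
        _ = z := by rw [e, ← hv]; group)
    have hwc : g⁻¹ * w * g * x = x * (g⁻¹ * w * g) := by
      calc g⁻¹ * w * g * x = g⁻¹ * (w * u) * g := by rw [hu]; group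
        _ = g⁻¹ * (u * w) * g := by rw [hwu]
        _ = _ := by rw [hu]; group
    have hback : ∀ c, g⁻¹ * w * g = c → w = g * c * g⁻¹ := fun c hc => by rw [← hc]; group
    rcases memC' (c := g⁻¹ * w * g) (by rw [← hwo]; simpa using Invol.order_conj g⁻¹ w) hwc with e | e | e
    · exfalso
      refine Invol.not_mem_zpowers huo hvo huv ?_
      have huw : w = u := hback _ e
      have hm : w ∈ Subgroup.zpowers (u * v) := Subgroup.npow_mem_zpowers _ _
      exact Eq.subst (motive := fun t => t ∈ Subgroup.zpowers (u * v)) huw hm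
    · rw [← hback _ e]
      exact hwv
    · -- `v` commutes with `g (x z) g⁻¹`
      have hwv' : (g * (x * z) * g⁻¹) * v = v * (g * (x * z) * g⁻¹) := by rw [← hback _ e]; exact hwv
      set v' := g⁻¹ * v * g with hv'
      have hv'o : orderOf v' = 2 := by rw [hv', ← hvo]; simpa using Invol.order_conj g⁻¹ v
      have h1 : (x * z) * v' = v' * (x * z) := by
        calc (x * z) * v' = g⁻¹ * ((g * (x * z) * g⁻¹) * v) * g := by rw [hv']; group
          _ = g⁻¹ * (v * (g * (x * z) * g⁻¹)) * g := by rw [hwv']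
          _ = _ := by rw [hv']; group
      have h2 : s⁻¹ * v' * s * x = x * (s⁻¹ * v' * s) := by
        calc s⁻¹ * v' * s * x = s⁻¹ * (v' * (s * x * s⁻¹)) * s := by group
          _ = s⁻¹ * ((s * x * s⁻¹) * v') * s := by rw [hsx, h1]
          _ = _ := by group
      have hv'z : ∀ c, s⁻¹ * v' * s = c → v' = s * c * s⁻¹ := fun c hc => by rw [← hc]; group
      rcases memC' (c := s⁻¹ * v' * s) (by rw [← hv'o]; simpa using Invol.order_conj s⁻¹ v') h2 with
        e2 | e2 | e2
      · exfalso
        refine hnconj (h⁻¹ * g * s) ?_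
        calc h⁻¹ * g * s * x * (h⁻¹ * g * s)⁻¹ = h⁻¹ * g * (s * x * s⁻¹) * (h⁻¹ * g)⁻¹ := by group
          _ = h⁻¹ * g * v' * (h⁻¹ * g)⁻¹ := by rw [← hv'z _ e2]
          _ = z := by rw [hv', ← hv]; group
      · have : v' = z := by rw [hv'z _ e2, (hzc s hsS).eq, mul_inv_cancel_right]
        have hvv : v = g * z * g⁻¹ := by rw [← this, hv']; group
        rw [hvv]
      · exfalso
        have h3 : v' = x := by
          rw [hv'z _ e2]
          calc s * (x * z) * s⁻¹ = (s * x * s⁻¹) * (s * z * s⁻¹) := by group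
            _ = x * z * z := by rw [hsx, (hzc s hsS).eq, mul_inv_cancel_right]
            _ = x := by rw [mul_assoc, Invol.mul_self hzo, mul_one]
        refine hnconj (h⁻¹ * g) ?_
        calc h⁻¹ * g * x * (h⁻¹ * g)⁻¹ = h⁻¹ * (g * v' * g⁻¹) * h := by rw [h3]; group
          _ = z := by rw [hv', ← hv]; group
  exact false_of_central hx hzo hxz hzo (central_of_conjugates (Invol.ne_one hzo)
    fun g => key g z ⟨1, by group⟩)

/-- If `x` is conjugate to `z`, then `x` is conjugate to `w`. -/
lemma conj_third {G : Type*} [Group G] [Finite G] {x z w : G} (hx : orderOf x = 2) (hz : orderOf z = 2)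
    (hw : orderOf w = 2) (hxz : x ≠ z) (hxw : x ≠ w)
    (S : Sylow 2 G) (hSC : (S : Subgroup G) ≤ Subgroup.centralizer ({x} : Set G))
    (hxS : x ∈ (S : Subgroup G)) (hzS : z ∈ (S : Subgroup G))
    (hSinv : ∀ c ∈ (S : Subgroup G), orderOf c = 2 → c = x ∨ c = z ∨ c = w)
    (hconj : IsConj x z) : IsConj x w := by
  haveI : Fact (Nat.Prime 2) := ⟨Nat.prime_two⟩
  by_contra hnw
  have hz_inv : ∀ g : G, g * z * g⁻¹ ≠ w := fun g hg => hnw (hconj.trans (isConj_iff.2 ⟨g, hg⟩))
  have hzc : ∀ s ∈ (S : Subgroup G), Commute s z := by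
    intro s hs
    have h := hSinv _ (mul_mem (mul_mem hs hzS) (inv_mem hs)) (by rw [Invol.order_conj, hz])
    rcases h with h | h | h
    · refine absurd ?_ hxz
      calc x = s⁻¹ * (s * x) := by group
        _ = s⁻¹ * (x * s) := by rw [← Subgroup.mem_centralizer_singleton_iff.1 (hSC hs)]
        _ = s⁻¹ * (s * z * s⁻¹ * s) := by rw [h]
        _ = z := by group
    · exact mul_inv_eq_iff_eq_mul.1 h
    · exact absurd h (hz_inv s)
  have hzS' : z ∈ Subgroup.centralizer ((S : Subgroup G) : Set G) :=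
    Subgroup.mem_centralizer_iff.2 fun s hs => (hzc s hs).eq
  have hxS' : x ∈ Subgroup.centralizer ((S : Subgroup G) : Set G) :=
    Subgroup.mem_centralizer_iff.2 fun s hs => Subgroup.mem_centralizer_singleton_iff.1 (hSC hs)
  obtain ⟨a, ha⟩ := isConj_iff.1 hconj
  obtain ⟨m, hm, hmx⟩ := Sylow.conj_eq_normalizer_conj_of_mem_centralizer S x a⁻¹ hxS'
    (by rw [inv_inv, ha]; exact hzS')
  rw [inv_inv, ha] at hmx
  set m' := m⁻¹ with hm'
  have hmx' : m' * x * m'⁻¹ = z := by rw [hm', inv_inv, hmx]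
  have hmS : ∀ c, c ∈ (S : Subgroup G) → m' * c * m'⁻¹ ∈ (S : Subgroup G) := fun c hc =>
    (Subgroup.mem_normalizer_iff.1 (inv_mem hm) c).1 hc
  have hmz : m' * z * m'⁻¹ = x := by
    rcases hSinv _ (hmS z hzS) (by rw [Invol.order_conj, hz]) with h | h | h
    · exact h
    · exact absurd (mul_left_cancel (mul_right_cancel (hmx'.trans h.symm))) hxz
    · exact absurd h (hz_inv m')
  have hsq : m' * m' * x * (m' * m')⁻¹ = x := by
    calc m' * m' * x * (m' * m')⁻¹ = m' * (m' * x * m'⁻¹) * m'⁻¹ := by group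
      _ = x := by rw [hmx', hmz]
  obtain ⟨k, b, hb, hkb⟩ := Nat.exists_eq_two_pow_mul_odd (orderOf_pos m').ne'
  obtain ⟨j, rfl⟩ := hb
  have hp : IsPGroup 2 (Subgroup.zpowers (m' ^ (2 * j + 1))) := by
    have h1 : orderOf (m' ^ (2 * j + 1)) ∣ 2 ^ k := orderOf_dvd_of_pow_eq_one (by
      rw [← pow_mul, mul_comm, ← hkb, pow_orderOf_eq_one])
    obtain ⟨i, -, hi⟩ := (Nat.dvd_prime_pow Nat.prime_two).1 h1
    exact IsPGroup.of_card (n := i) (by rw [Nat.card_zpowers, hi])
  have h := hp.inf_normalizer_sylow S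
  have hmem : m' ^ (2 * j + 1) ∈ (S : Subgroup G) :=
    ((le_inf le_rfl (Subgroup.zpowers_le.mpr (pow_mem (inv_mem hm) _))).trans (h.le.trans inf_le_right))
      (Subgroup.mem_zpowers _)
  have hfix : m' * x * m'⁻¹ = x := by
    have h1 : Commute (m' ^ (2 * j + 1)) x := Subgroup.mem_centralizer_singleton_iff.1 (hSC hmem)
    have h2 : Commute (m' * m') x := mul_inv_eq_iff_eq_mul.1 hsq
    have h3 : Commute ((m' * m') ^ j) x := h2.pow_left j
    have h4 : m' = ((m' * m') ^ j)⁻¹ * m' ^ (2 * j + 1) := by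
      rw [← pow_two, ← pow_mul, pow_succ, inv_mul_cancel_left]
    have h5 : Commute m' x := by
      rw [h4]
      exact h3.inv_left.mul_left h1
    rw [h5.eq, mul_inv_cancel_right]
  exact hxz (hfix.symm.trans hmx')

/-- `x` is conjugate to `z` or to `x z`. -/
lemma conj_one {G : Type*} [Group G] [Finite G] [IsSimpleGroup G] {x z : G} (hx : orderOf x = 2)
    (hz : orderOf z = 2) (hxzc : Commute x z) (hxz : x ≠ z)
    (h3 : Nat.card {u : ↥(Subgroup.centralizer ({x} : Set G)) // orderOf u = 2} ≤ 3)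
    (S : Sylow 2 G) (hSC : (S : Subgroup G) ≤ Subgroup.centralizer ({x} : Set G)) :
    IsConj x z ∨ IsConj x (x * z) := by
  classical
  haveI : Fact (Nat.Prime 2) := ⟨Nat.prime_two⟩
  by_contra hno
  push Not at hno
  set w := x * z with hwdef
  have hwo : orderOf w = 2 := invol_mul hx hz hxzc hxz
  have hzw : z ≠ w := fun h => Invol.ne_one hx (mul_eq_right.mp h.symm)
  have hzwc : Commute z w := (hxzc.symm.mul_right (Commute.refl z))
  let Red : G → Prop := fun v => orderOf v = 2 ∧ ¬ IsConj x v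
  have hzR : Red z := ⟨hz, hno.1⟩
  have hwR : Red w := ⟨hwo, hno.2⟩
  -- every red element commutes with an end of every red edge
  have hside : ∀ v, Red v → ∀ g : G, Commute v (g * z * g⁻¹) ∨ Commute v (g * w * g⁻¹) := by
    intro v hv g
    set u := g * x * g⁻¹ with hu
    have huo : orderOf u = 2 := by rw [hu, Invol.order_conj, hx]
    have heven : Even (orderOf (u * v)) := by
      rw [← Nat.not_odd_iff_even]
      intro hodd
      obtain ⟨d, -, hd⟩ := Invol.conj_of_odd huo hv.1 hodd
      exact hv.2 (isConj_iff.2 ⟨d * g, by rw [← hd, hu]; group⟩)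
    have huv : u ≠ v := fun e => hv.2 (isConj_iff.2 ⟨g, e⟩)
    set t := (u * v) ^ (orderOf (u * v) / 2) with ht
    have htu : t * u = u * t := (Invol.half_commute huo hv.1 heven).1.eq
    have htv : Commute t v := (Invol.half_commute huo hv.1 heven).2
    have hto : orderOf t = 2 := Invol.half_order huo hv.1 heven (orderOf_pos _)
    have hwc : g⁻¹ * t * g * x = x * (g⁻¹ * t * g) := by
      calc g⁻¹ * t * g * x = g⁻¹ * (t * u) * g := by rw [hu]; group
        _ = g⁻¹ * (u * t) * g := by rw [htu]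
        _ = _ := by rw [hu]; group
    have hback : ∀ c, g⁻¹ * t * g = c → t = g * c * g⁻¹ := fun c hc => by rw [← hc]; group
    rcases memC hx hz hxzc hxz h3 (c := g⁻¹ * t * g) (by rw [← hto]; simpa using Invol.order_conj g⁻¹ t)
      hwc with e | e | e
    · exfalso
      refine Invol.not_mem_zpowers huo hv.1 huv ?_
      have huw : t = u := hback _ e
      have hm : t ∈ Subgroup.zpowers (u * v) := Subgroup.npow_mem_zpowers _ _
      exact Eq.subst (motive := fun r => r ∈ Subgroup.zpowers (u * v)) huw hm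
    · exact Or.inl (hback _ e ▸ htv.symm)
    · exact Or.inr (hback _ e ▸ htv.symm)
  have hedge : ∀ a b v, Red a → Red b → Red v → Commute a b → a ≠ b → Commute v a ∨ Commute v b := by
    intro a b v ha hb hv hab hne
    have hp : IsPGroup 2 (Subgroup.closure ({a, b} : Set G)) := by
      have hcl : ∀ c ∈ Subgroup.closure ({a, b} : Set G), c ^ 2 = 1 := by
        haveI : IsMulCommutative (Subgroup.closure ({a, b} : Set G)) := by
          refine Subgroup.isMulCommutative_closure ?_
          rintro c (rfl | rfl) d (rfl | rfl)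
          exacts [rfl, hab.eq, hab.symm.eq, rfl]
        intro c hc
        induction hc using Subgroup.closure_induction with
        | mem c hc => rcases hc with rfl | rfl <;> rw [pow_two, Invol.mul_self (by first | exact ha.1 | exact hb.1)]
        | one => exact one_pow 2
        | mul c d hc hd ihc ihd =>
          rw [(show Commute c d from setLike_mul_comm (s := Subgroup.closure ({a, b} : Set G)) hc hd).mul_pow,
            ihc, ihd, one_mul]
        | inv c _ ihc => rw [inv_pow, ihc, inv_one]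
      exact fun c => ⟨1, Subtype.ext (by simpa using hcl c c.2)⟩
    obtain ⟨R, hR⟩ := hp.exists_le_sylow
    obtain ⟨g, hg⟩ := MulAction.exists_smul_eq G R S
    have hback : ∀ c, c ∈ ({a, b} : Set G) → Red c → c = g⁻¹ * z * g ∨ c = g⁻¹ * w * g := by
      intro c hc hcR
      have hmem : g * c * g⁻¹ ∈ (S : Subgroup G) := by
        rw [← hg, Sylow.coe_subgroup_smul]
        exact Subgroup.smul_mem_pointwise_smul c (MulAut.conj g) _ (hR (Subgroup.subset_closure hc))
      rcases memC hx hz hxzc hxz h3 (c := g * c * g⁻¹) (by rw [Invol.order_conj, hcR.1])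
        (Subgroup.mem_centralizer_singleton_iff.1 (hSC hmem)) with e | e | e
      · exact absurd (isConj_iff.2 ⟨g⁻¹, by rw [← e]; group⟩) hcR.2
      · left; rw [← e]; group
      · right; rw [hwdef, ← e]; group
    have h1 := hside v hv g⁻¹
    rw [inv_inv] at h1
    rcases hback a (by simp) ha with e | e <;> rcases hback b (by simp) hb with e' | e'
    · exact absurd (e.trans e'.symm) hne
    · rw [e, e']; exact h1
    · rw [e, e']; exact h1.symm
    · exact absurd (e.trans e'.symm) hne
  let R : G → G → Prop := fun a b => a = b ∨ ¬ Commute a b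
  have hsymm : ∀ {a b}, R a b → R b a := fun h => h.imp Eq.symm (fun h h' => h h'.symm)
  have htrans : ∀ {a b c}, Red a → Red b → Red c → R a b → R b c → R a c := by
    intro a b c ha hb hc hab hbc
    by_contra hac
    simp only [R, not_or, not_not] at hac
    rcases hab with rfl | hab
    · rcases hbc with rfl | hbc
      · exact hac.1 rfl
      · exact hbc hac.2
    · rcases hbc with rfl | hbc
      · exact hab hac.2
      · rcases hedge a c b ha hc hb hac.2 hac.1 with h | h
        · exact hab h.symm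
        · exact hbc h
  have hconjR : ∀ g : G, ∀ {a b}, R a b → R (g * a * g⁻¹) (g * b * g⁻¹) := by
    intro g a b h
    refine h.imp (fun e => by rw [e]) (fun h hc => h ?_)
    have := (hc.map (MulAut.conj g⁻¹).toMonoidHom)
    simpa [MulAut.conj_apply, mul_assoc] using this
  have hredconj : ∀ g {a}, Red a → Red (g * a * g⁻¹) := fun g a ha =>
    ⟨by rw [Invol.order_conj, ha.1], fun h => ha.2 (h.trans (isConj_iff.2 ⟨g⁻¹, by group⟩))⟩
  let N : Subgroup G :=
    { carrier := {g | ∀ a, Red a → R (g * a * g⁻¹) a}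
      one_mem' := fun a _ => Or.inl (by group)
      mul_mem' := fun {g h} hg hh a ha => by
        rw [show g * h * a * (g * h)⁻¹ = g * (h * a * h⁻¹) * g⁻¹ by group]
        exact htrans (hredconj g (hredconj h ha)) (hredconj h ha) ha (hg _ (hredconj h ha)) (hh a ha)
      inv_mem' := fun {g} hg a ha => by
        have h := hg _ (hredconj g⁻¹ ha)
        rw [show g * (g⁻¹ * a * g⁻¹⁻¹) * g⁻¹ = a by group] at h
        exact hsymm h }
  have hN : N.Normal := ⟨fun n hn g a ha => by
    have h := hconjR g (hn _ (hredconj g⁻¹ ha))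
    rw [show g * (g⁻¹ * a * g⁻¹⁻¹) * g⁻¹ = a by group] at h
    rwa [show g * n * g⁻¹ * a * (g * n * g⁻¹)⁻¹ = g * (n * (g⁻¹ * a * g⁻¹⁻¹) * n⁻¹) * g⁻¹ by group]⟩
  have hzN : z ∈ N := by
    intro a ha
    by_cases hc : Commute a z
    · left; rw [hc.symm.eq, mul_inv_cancel_right]
    · have h1 : R a z := Or.inr hc
      have h2 := hconjR z h1
      rw [mul_inv_cancel_right z z] at h2
      exact htrans (hredconj z ha) hzR ha h2 (hsymm h1)
  rcases hN.eq_bot_or_eq_top with hb | htp
  · exact Invol.ne_one hz (Subgroup.mem_bot.1 (hb ▸ hzN))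
  refine false_of_central hx hz hxz hwo (central_of_conjugates (Invol.ne_one hz) fun g => ?_)
  have h1 : R (g * z * g⁻¹) z := (show g ∈ N from htp ▸ Subgroup.mem_top g) z hzR
  by_contra hnc
  rcases htrans hzR (hredconj g hzR) hwR (hsymm h1) (Or.inr hnc) with h | h
  · exact hzw h
  · exact h hzwc

/-- Let G be a finite simple group and x an involution of G whose centralizer contains at most three involutions. Then C_G(x) contains a Sylow 2-subgroup of G, and all involutions of G are conjugate. -/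
theorem result {G : Type*} [Group G] [Finite G] [IsSimpleGroup G] (x : G) (hx : orderOf x = 2)
    (h3 : Nat.card {u : ↥(Subgroup.centralizer ({x} : Set G)) // orderOf u = 2} ≤ 3) :
    (∃ S : Sylow 2 G, (S : Subgroup G) ≤ Subgroup.centralizer ({x} : Set G)) ∧
      ∀ u v : G, orderOf u = 2 → orderOf v = 2 → IsConj u v := by
  haveI : Fact (Nat.Prime 2) := ⟨Nat.prime_two⟩
  obtain ⟨S, hSC⟩ := exists_sylow_le x hx h3
  refine ⟨⟨S, hSC⟩, ?_⟩
  have hxS : x ∈ (S : Subgroup G) := by
    have hp : IsPGroup 2 (Subgroup.zpowers x) :=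
      IsPGroup.of_card (n := 1) (by rw [Nat.card_zpowers, hx, pow_one])
    have hle : Subgroup.zpowers x ≤ Subgroup.normalizer ((S : Subgroup G) : Set G) := by
      rw [Subgroup.zpowers_le, Subgroup.mem_normalizer_iff]
      intro y
      constructor
      · intro hy
        rw [← Subgroup.mem_centralizer_singleton_iff.1 (hSC hy), mul_inv_cancel_right]
        exact hy
      · intro hy
        have h := Subgroup.mem_centralizer_singleton_iff.1 (hSC hy)
        have e : x * y * x⁻¹ = y := by
          have := congrArg (fun t => x⁻¹ * t) h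
          simp only [← mul_assoc, inv_mul_cancel, one_mul, inv_mul_cancel_right] at this
          rw [← this]
        rwa [e] at hy
    exact ((le_inf le_rfl hle).trans ((hp.inf_normalizer_sylow S).le.trans inf_le_right))
      (Subgroup.mem_zpowers x)
  suffices key : ∀ c ∈ (S : Subgroup G), orderOf c = 2 → IsConj x c by
    intro u v hu hv
    obtain ⟨g, hg⟩ := exists_conj_mem S hu
    obtain ⟨h, hh⟩ := exists_conj_mem S hv
    exact ((isConj_iff.2 ⟨g, rfl⟩).trans (key _ hg (by rw [Invol.order_conj, hu])).symm).trans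
      ((key _ hh (by rw [Invol.order_conj, hv])).trans (isConj_iff.2 ⟨h, rfl⟩ : IsConj v _).symm)
  intro z hzS hz
  by_cases hxz : x = z
  · subst hxz; exact IsConj.refl _
  have hc : Commute x z := (Subgroup.mem_centralizer_singleton_iff.1 (hSC hzS)).symm
  have hwo := invol_mul hx hz hc hxz
  have hSinv : ∀ c ∈ (S : Subgroup G), orderOf c = 2 → c = x ∨ c = z ∨ c = x * z := fun c hcS hco =>
    memC hx hz hc hxz h3 hco (Subgroup.mem_centralizer_singleton_iff.1 (hSC hcS))
  rcases conj_one hx hz hc hxz h3 S hSC with h | h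
  · exact h
  · exact conj_third hx hwo hz (fun e => Invol.ne_one hz (mul_eq_left.mp e.symm)) hxz S hSC hxS
      (mul_mem hxS hzS) (fun c hcS hco => (hSinv c hcS hco).imp_right Or.symm) h

end Cfsg.Agent.S3279
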