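import Cfsg.Statements.S3278
import Cfsg.Agent.Lib.Blocks.KleinPrincipal
import Cfsg.Agent.S3279
import Cfsg.Agent.Lib.Char.GlaubermanMod
import Mathlib.GroupTheory.SpecificGroups.Alternating

set_option autoImplicit false
open Cfsg

namespace Cfsg.Agent.S3278

open Cfsg.Agent Cfsg.Agent.KleinBlock in
/-- The sum `1 + Σ ε / d` exceeds `4/9`. -/
lemma four_ninths_lt {d₁ d₂ d₃ : ℕ} {e₁ e₂ e₃ : ℤ} (h₁ : e₁ = 1 ∨ e₁ = -1) (h₂ : e₂ = 1 ∨ e₂ = -1)
    (h₃ : e₃ = 1 ∨ e₃ = -1) (p₁ : 0 < d₁) (p₂ : 0 < d₂) (p₃ : 0 < d₃)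
    (m₁ : (4 : ℤ) ∣ (d₁ : ℤ) - e₁) (m₂ : (4 : ℤ) ∣ (d₂ : ℤ) - e₂) (m₃ : (4 : ℤ) ∣ (d₃ : ℤ) - e₃)
    (hrel : 1 + e₁ * (d₁ : ℤ) + e₂ * (d₂ : ℤ) + e₃ * (d₃ : ℤ) = 0) :
    (4 / 9 : ℚ) < 1 + (e₁ : ℚ) / d₁ + (e₂ : ℚ) / d₂ + (e₃ : ℚ) / d₃ := by
  have a₁ : (0 : ℚ) < d₁ := by exact_mod_cast p₁
  have a₂ : (0 : ℚ) < d₂ := by exact_mod_cast p₂
  have a₃ : (0 : ℚ) < d₃ := by exact_mod_cast p₃
  have hprod : 1 + (e₁ : ℚ) / d₁ + (e₂ : ℚ) / d₂ + (e₃ : ℚ) / d₃ =
      (1 + (e₁ : ℚ) / d₁) * (1 + (e₂ : ℚ) / d₂) * (1 + (e₃ : ℚ) / d₃) := by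
    have hq : (1 : ℚ) + e₁ * (d₁ : ℚ) + e₂ * (d₂ : ℚ) + e₃ * (d₃ : ℚ) = 0 := by exact_mod_cast hrel
    field_simp
    rcases h₁ with e | e <;> rcases h₂ with e' | e' <;> rcases h₃ with e'' | e'' <;>
      subst e e' e'' <;> push_cast at hq ⊢ <;> first
        | linear_combination hq
        | linear_combination -hq
  have key : ∀ {d : ℕ} {e : ℤ}, (e = 1 ∨ e = -1) → 0 < d → (4 : ℤ) ∣ (d : ℤ) - e →
      (2 / 3 : ℚ) ≤ 1 + (e : ℚ) / d ∧ (e = 1 → (1 : ℚ) < 1 + (e : ℚ) / d) := by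
    intro d e he hd hm
    have hd' : (0 : ℚ) < d := by exact_mod_cast hd
    refine ⟨?_, fun h => by rw [h]; push_cast; exact lt_add_of_pos_right 1 (by positivity)⟩
    rcases he with rfl | rfl
    · push_cast
      linarith [show (0 : ℚ) ≤ 1 / d by positivity]
    · have h3 : (3 : ℚ) ≤ d := by exact_mod_cast (show 3 ≤ d by omega)
      push_cast
      rw [neg_div, ← sub_eq_add_neg, le_sub_iff_add_le, ← le_sub_iff_add_le', div_le_iff₀ hd']
      linarith
  obtain ⟨k₁, g₁⟩ := key h₁ p₁ m₁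
  obtain ⟨k₂, g₂⟩ := key h₂ p₂ m₂
  obtain ⟨k₃, g₃⟩ := key h₃ p₃ m₃
  rw [hprod]
  have hone : e₁ = 1 ∨ e₂ = 1 ∨ e₃ = 1 := by
    by_contra hno
    push Not at hno
    have e1 := h₁.resolve_left hno.1
    have e2 := h₂.resolve_left hno.2.1
    have e3 := h₃.resolve_left hno.2.2
    subst e1 e2 e3
    omega
  rcases hone with e | e | e
  · have := g₁ e
    have hh := mul_le_mul k₂ k₃ (by norm_num) (by linarith)
    nlinarith
  · have := g₂ e
    have hh := mul_le_mul k₁ k₃ (by norm_num) (by linarith)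
    nlinarith
  · have := g₃ e
    have hh := mul_le_mul k₁ k₂ (by norm_num) (by linarith)
    nlinarith

open Cfsg.Agent in
/-- The bound on the order from the principal block. -/
lemma bound {G : Type*} [Group G] [Finite G] (hS : KleinBlock.Setup G) {x : G} (hx : orderOf x = 2)
    (P : Sylow 2 G) (hc : Nat.card ↥(Subgroup.centralizer ({x} : Set G)) =
      1 * Nat.card ↥(Subgroup.centralizer ((P : Subgroup G) : Set G))) :
    Nat.card G < 18 * Nat.card ↥(Subgroup.centralizer ({x} : Set G)) := by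
  classical
  haveI := Fintype.ofFinite G
  haveI : Fact (Nat.Prime 2) := ⟨Nat.prime_two⟩
  obtain ⟨M, hM⟩ := Cfsg.Agent.GlaubermanMod.exists_isPModular 2
  haveI : M.IsPrime := hM.2.1.isPrime
  obtain ⟨χ₁, χ₂, χ₃, hdist, hB, ε₁, ε₂, ε₃, hε, hv⟩ := KleinBlock.exists_three hM hS
  have hform := KleinBlock.order_formula hM hS χ₁ χ₂ χ₃ ε₁ ε₂ ε₃ hx hB hdist (hv x hx) hε P hc
  obtain ⟨m1, m2, m3⟩ := KleinBlock.mod_four hM hS χ₁ χ₂ χ₃ ε₁ ε₂ ε₃ hx hB hdist (hv x hx)
  have hs := four_ninths_lt hε.1 hε.2.1 hε.2.2 (Blocks.charDegree_pos χ₁) (Blocks.charDegree_pos χ₂)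
    (Blocks.charDegree_pos χ₃) m1 m2 m3
    (KleinBlock.degree_relation hM hS χ₁ χ₂ χ₃ ε₁ ε₂ ε₃ hx hB hdist (hv x hx))
  have hg : (0 : ℚ) < Nat.card G := by exact_mod_cast Nat.card_pos
  have : (Nat.card G : ℚ) < 18 * Nat.card ↥(Subgroup.centralizer ({x} : Set G)) := by
    rw [hc]
    push_cast at hform ⊢
    nlinarith [mul_lt_mul_of_pos_left hs hg]
  exact_mod_cast this

/-- Let G be a finite simple group with an involution x such that a Sylow 2-subgroup of C_G(x) is a Klein four-group which is normal in C_G(x). Then G is isomorphic to the alternating group of degree 5 (that is, to PSL(2, 5)). -/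
theorem result {G : Type*} [Group G] [Finite G] [IsSimpleGroup G] (x : G) (hx : orderOf x = 2)
    (S₀ : Subgroup G) (hle : S₀ ≤ Subgroup.centralizer ({x} : Set G)) (hK : IsKleinFour ↥S₀)
    (hodd : ¬ 2 ∣ S₀.relIndex (Subgroup.centralizer ({x} : Set G))) (hn : (S₀.subgroupOf (Subgroup.centralizer ({x} : Set G))).Normal) :
    Nonempty (G ≃* ↥(alternatingGroup (Fin 5))) := by
  haveI : Fact (Nat.Prime 2) := ⟨Nat.prime_two⟩
  classical
  haveI := Fintype.ofFinite G
  haveI := hn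
  set C := Subgroup.centralizer ({x} : Set G) with hC
  have hS₀card : Nat.card S₀ = 4 := hK.card_four
  -- two-elements of `C` lie in `S₀`
  have hmem2 : ∀ u ∈ C, (∃ k : ℕ, orderOf u = 2 ^ k) → u ∈ S₀ := by
    rintro u huC ⟨k, hk⟩
    have h1 : orderOf (QuotientGroup.mk' (S₀.subgroupOf C) ⟨u, huC⟩) ∣ Nat.gcd (2 ^ k) (S₀.relIndex C) :=
      Nat.dvd_gcd ((orderOf_map_dvd _ _).trans (by rw [Subgroup.orderOf_mk, hk])) (orderOf_dvd_natCard _)
    rw [((Nat.prime_two.coprime_iff_not_dvd.2 hodd).pow_left k).gcd_eq_one, Nat.dvd_one,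
      orderOf_eq_one_iff] at h1
    exact Subgroup.mem_subgroupOf.1 ((QuotientGroup.eq_one_iff _).1 h1)
  have hcomm₀ : ∀ a ∈ S₀, ∀ b ∈ S₀, Commute a b := fun a ha b hb => by
    haveI := hK
    have hsq : ∀ u ∈ S₀, u * u = 1 := fun u hu => congrArg Subtype.val (IsKleinFour.mul_self (⟨u, hu⟩ : S₀))
    calc a * b = a * (a * b * (a * b)) * b := by rw [hsq _ (mul_mem ha hb), mul_one]
      _ = (a * a) * (b * a) * (b * b) := by group
      _ = b * a := by rw [hsq a ha, hsq b hb, one_mul, mul_one]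
  have h3 : Nat.card {u : ↥C // orderOf u = 2} ≤ 3 := by
    have h4 : Nat.card {u : S₀ // u ≠ 1} = 3 := by
      haveI := Fintype.ofFinite S₀
      rw [Nat.card_eq_fintype_card, Fintype.card_subtype_compl, Fintype.card_subtype_eq,
        Fintype.card_eq_nat_card, hS₀card]
    refine h4 ▸ Nat.card_le_card_of_injective (fun u => (⟨⟨u.1, hmem2 _ u.1.2 ⟨1, by
      rw [Subgroup.orderOf_coe, u.2, pow_one]⟩⟩, fun e => by
        have h := u.2
        rw [← Subgroup.orderOf_coe, show ((u.1 : C) : G) = 1 from congrArg Subtype.val e, orderOf_one] at h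
        omega⟩ : {u : S₀ // u ≠ 1})) ?_
    intro a b hab
    exact Subtype.ext (Subtype.ext (congrArg (fun u : {u : S₀ // u ≠ 1} => (u.1 : G)) hab))
  obtain ⟨⟨S, hSC⟩, hone⟩ := S3279.result x hx h3
  have hSle : (S : Subgroup G) ≤ S₀ := fun u hu => hmem2 u (hSC hu) (by
    obtain ⟨k, hk⟩ := IsPGroup.iff_orderOf.1 S.isPGroup' ⟨u, hu⟩
    exact ⟨k, by rwa [← Subgroup.orderOf_coe] at hk⟩)
  have hSeq : (S : Subgroup G) = S₀ :=
    (S.is_maximal' (IsPGroup.of_card (n := 2) (by rw [hS₀card]; norm_num)) hSle).symm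
  have hScard : Nat.card (S : Subgroup G) = 4 := by rw [hSeq]; exact hS₀card
  have hS := KleinBlock.Setup.of_sylow S hScard (fun u => by
    haveI := hK
    have h := congrArg (fun a : S₀ => (a : G)) (IsKleinFour.mul_self (⟨u.1, hSle u.2⟩ : S₀))
    exact Subtype.ext h) hone
  have hxS : x ∈ (S : Subgroup G) := by
    rw [hSeq]; exact hmem2 x (Subgroup.mem_centralizer_singleton_iff.2 rfl) ⟨1, by rw [hx, pow_one]⟩
  -- the centralizer of `x` centralizes `S`
  have hc : Nat.card C = 1 * Nat.card ↥(Subgroup.centralizer ((S : Subgroup G) : Set G)) := by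
    obtain ⟨t, ht, htx, htne⟩ := KleinBlock.exists_commuting hS hx
    have htC : t ∈ C := Subgroup.mem_centralizer_singleton_iff.2 htx.eq
    have htS : t ∈ S₀ := hmem2 t htC ⟨1, by rw [ht, pow_one]⟩
    rw [← KleinBlock.card_centOrbit hS hx ht htx htne S]
    congr 1
    have : KleinBlock.centOrbit x t = {t} := by
      refine Set.eq_singleton_iff_unique_mem.2 ⟨⟨1, Commute.one_left x, by group⟩, fun b hb => ?_⟩
      obtain ⟨hbx, hbo, hmod⟩ := (KleinBlock.mem_centOrbit_iff hS hx ht htx htne).1 hb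
      have hbS : b ∈ S₀ := hmem2 b (Subgroup.mem_centralizer_singleton_iff.2 hbx.eq) ⟨1, by rw [hbo, pow_one]⟩
      exact congrArg Subtype.val (KleinBlock.eq_of_mod hS hbo ht (hcomm₀ b hbS t htS) hmod)
    rw [this]
    simp
  have hbound := bound hS hx S hc
  set N := Subgroup.normalizer ((S : Subgroup G) : Set G) with hN
  have hCN : C ≤ N := by
    intro y hy
    refine Subgroup.mem_normalizer_iff.2 fun u => ?_
    rw [hSeq]
    have key : ∀ y ∈ C, ∀ u ∈ S₀, y * u * y⁻¹ ∈ S₀ := fun y hy u hu =>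
      Subgroup.mem_subgroupOf.1 (hn.conj_mem ⟨u, hle hu⟩ (Subgroup.mem_subgroupOf.2 hu) ⟨y, hy⟩)
    refine ⟨key y hy u, fun h => ?_⟩
    have h' := key y⁻¹ (inv_mem hy) _ h
    rwa [show y⁻¹ * (y * u * y⁻¹) * y⁻¹⁻¹ = u by group] at h'
  -- the three involutions of `S` are conjugate under `N`
  have hsylc : ∀ u ∈ (S : Subgroup G), u ≠ 1 → ∃ m ∈ N, m * x * m⁻¹ = u := by
    intro u hu hu1
    have huo : orderOf u = 2 := Invol.order_two_of_sq (KleinBlock.sylow_sq hS S hu) hu1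
    obtain ⟨g, hg⟩ := isConj_iff.1 (hone x u hx huo)
    have hcen : ∀ a ∈ (S : Subgroup G), a ∈ Subgroup.centralizer ((S : Subgroup G) : Set G) := fun a ha =>
      Subgroup.mem_centralizer_iff.2 fun b hb => (KleinBlock.sylow_comm hS S hb ha).eq
    obtain ⟨m, hm, hmx⟩ := Sylow.conj_eq_normalizer_conj_of_mem_centralizer S x g⁻¹ (hcen x hxS)
      (by rw [inv_inv, hg]; exact hcen u hu)
    refine ⟨m⁻¹, inv_mem hm, ?_⟩
    rw [inv_inv, ← hmx, inv_inv, hg]
  have hN3 : 3 * Nat.card C ≤ Nat.card N := by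
    choose! m hmN hmx using hsylc
    let A := {u : (S : Subgroup G) // u ≠ 1}
    have hA : Nat.card A = 3 := by
      haveI := Fintype.ofFinite (S : Subgroup G)
      rw [Nat.card_eq_fintype_card, Fintype.card_subtype_compl, Fintype.card_subtype_eq,
        Fintype.card_eq_nat_card, hScard]
    rw [← hA, ← Nat.card_prod]
    refine Nat.card_le_card_of_injective (fun uy : Prod A C =>
      (⟨m (uy.1.1 : G) * (uy.2 : G), mul_mem (hmN _ uy.1.1.2 (fun e => uy.1.2 (Subtype.ext e)))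
        (hCN uy.2.2)⟩ : N)) ?_
    rintro ⟨⟨⟨u, hu⟩, hu1⟩, ⟨y, hy⟩⟩ ⟨⟨⟨u', hu'⟩, hu1'⟩, ⟨y', hy'⟩⟩ h
    have h' : m u * y = m u' * y' := congrArg Subtype.val h
    have hy1 : Commute y x := Subgroup.mem_centralizer_singleton_iff.1 hy
    have hy1' : Commute y' x := Subgroup.mem_centralizer_singleton_iff.1 hy'
    have e : u = u' := by
      rw [← hmx u hu (fun e => hu1 (Subtype.ext e)), ← hmx u' hu' (fun e => hu1' (Subtype.ext e))]
      calc m u * x * (m u)⁻¹ = m u * (y * x * y⁻¹) * (m u)⁻¹ := by rw [hy1.eq, mul_inv_cancel_right]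
        _ = (m u * y) * x * (m u * y)⁻¹ := by group
        _ = m u' * (y' * x * y'⁻¹) * (m u')⁻¹ := by rw [h']; group
        _ = _ := by rw [hy1'.eq, mul_inv_cancel_right]
    subst e
    obtain rfl := mul_left_cancel h'
    rfl
  have hidx : N.index < 6 := by
    have h1 := N.card_mul_index
    have h2 := Nat.mul_le_mul_right N.index hN3
    by_contra hno
    push Not at hno
    have h6 := Nat.mul_le_mul_left (3 * Nat.card C) hno
    have hlt : Nat.card G < 18 * Nat.card C := hbound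
    nlinarith [h1, h2, h6, hlt]
  have hidx1 : N.index ≠ 1 := by
    intro h
    have hSn : (S : Subgroup G).Normal := Subgroup.normalizer_eq_top_iff.1 (Subgroup.index_eq_one.1 h)
    rcases hSn.eq_bot_or_eq_top with e | e
    · rw [e, Subgroup.card_bot] at hScard; norm_num at hScard
    · have hab : ∀ a : G, Commute a x := fun a =>
        KleinBlock.sylow_comm hS S (e ▸ Subgroup.mem_top a) hxS
      obtain ⟨t, ht, htx, htne⟩ := KleinBlock.exists_commuting hS hx
      exact S3279.false_of_central hx ht (Ne.symm htne) hx hab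
  have hidxodd : ¬ 2 ∣ N.index := fun h => S.not_dvd_index (h.trans (Subgroup.index_dvd_of_le Subgroup.le_normalizer))
  set φ := MulAction.toPermHom G (G ⧸ N) with hφ
  have hinj : Function.Injective φ := by
    rw [← MonoidHom.ker_eq_bot_iff]
    refine (MonoidHom.normal_ker φ).eq_bot_or_eq_top.resolve_right fun h => hidx1 (Subgroup.index_eq_one.2 ?_)
    rw [eq_top_iff]
    intro g _
    have h1 : φ g = 1 := MonoidHom.mem_ker.1 (h ▸ Subgroup.mem_top g)
    have h2 : g • (QuotientGroup.mk 1 : G ⧸ N) = QuotientGroup.mk 1 :=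
      congrArg (fun e : Equiv.Perm (G ⧸ N) => e (QuotientGroup.mk 1)) h1
    rw [MulAction.Quotient.smul_mk, smul_eq_mul, mul_one, QuotientGroup.eq, mul_one] at h2
    simpa using inv_mem h2
  have hG4 : 4 ∣ Nat.card G := hScard ▸ Subgroup.card_subgroup_dvd_card _
  have hperm : Nat.card G ∣ (N.index).factorial := by
    rw [show N.index = Nat.card (G ⧸ N) from rfl, ← Nat.card_perm,
      Nat.card_congr (MonoidHom.ofInjective hinj).toEquiv]
    exact Subgroup.card_subgroup_dvd_card _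
  have h5 : N.index = 5 := by
    have h0 : N.index ≠ 0 := Subgroup.index_ne_zero_of_finite
    obtain h | h : N.index = 3 ∨ N.index = 5 := by omega
    · rw [h] at hperm
      exact absurd (hG4.trans hperm) (by decide)
    · exact h
  obtain ⟨eX⟩ : Nonempty (G ⧸ N ≃ Fin 5) := ⟨Finite.equivFinOfCardEq h5⟩
  set ψ := (eX.permCongrHom.toMonoidHom).comp φ with hψ
  have hψinj : Function.Injective ψ := eX.permCongrHom.injective.comp hinj
  have hG60 : 60 ≤ Nat.card G := by
    have h1 := N.card_mul_index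
    have h2 : 4 ≤ Nat.card C := by
      rw [← hS₀card]; exact Nat.le_of_dvd Nat.card_pos (Subgroup.card_dvd_of_le hle)
    rw [h5] at h1
    omega
  have hsign : ∀ g, Equiv.Perm.sign (ψ g) = 1 := by
    intro g
    rcases (MonoidHom.normal_ker (Equiv.Perm.sign.comp ψ)).eq_bot_or_eq_top with e | e
    · exfalso
      have := Nat.card_le_card_of_injective _ ((MonoidHom.ker_eq_bot_iff _).1 e)
      simp at this
      have hF : Fintype.card G = Nat.card G := Fintype.card_eq_nat_card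
      omega
    · exact MonoidHom.mem_ker.1 (e ▸ Subgroup.mem_top g : g ∈ (Equiv.Perm.sign.comp ψ).ker)
  have hrange : ψ.range ≤ alternatingGroup (Fin 5) := by
    rintro _ ⟨g, rfl⟩
    exact hsign g
  have heq : ψ.range = alternatingGroup (Fin 5) := by
    refine Subgroup.eq_of_le_of_card_ge hrange ?_
    rw [← Nat.card_congr (MonoidHom.ofInjective hψinj).toEquiv, nat_card_alternatingGroup,
      Nat.card_fin]
    norm_num [Nat.factorial]
    have hF : Fintype.card G = Nat.card G := Fintype.card_eq_nat_card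
    omega
  exact ⟨(MonoidHom.ofInjective hψinj).trans (MulEquiv.subgroupCongr heq)⟩

end Cfsg.Agent.S3278
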