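import Cfsg.Statements.S3283
import Cfsg.Agent.Lib.SymSixCore.Main
import Cfsg.Agent.Lib.LargeExtra.Setting

set_option autoImplicit false
open Cfsg

namespace Cfsg.Agent.S3283

/-- Let G be a finite group with an involution z whose centralizer M has Q = O₂(M) extraspecial of order 2⁹ with C_M(Q) ≤ Q, and M/Q isomorphic to S₃ × A₆ or to S₃ × S₆. Then G is not simple. -/
theorem result {G : Type*} [Group G] [Finite G] (z : G) (hz : orderOf z = 2)
    (hQ : Cfsg.IsExtraspecial 2 ↥(Cfsg.pCore 2 ↥(Subgroup.centralizer ({z} : Set G)))) (hQ9 : Nat.card ↥(Cfsg.pCore 2 ↥(Subgroup.centralizer ({z} : Set G))) = 2 ^ 9)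
    (hCQ : Subgroup.centralizer ((Cfsg.pCore 2 ↥(Subgroup.centralizer ({z} : Set G))) : Set ↥(Subgroup.centralizer ({z} : Set G))) ≤ Cfsg.pCore 2 ↥(Subgroup.centralizer ({z} : Set G)))
    (hMQ : Nonempty (↥(Subgroup.centralizer ({z} : Set G)) ⧸ Cfsg.pCore 2 ↥(Subgroup.centralizer ({z} : Set G)) ≃* (Equiv.Perm (Fin 3) × ↥(alternatingGroup (Fin 6)))) ∨
      Nonempty (↥(Subgroup.centralizer ({z} : Set G)) ⧸ Cfsg.pCore 2 ↥(Subgroup.centralizer ({z} : Set G)) ≃* (Equiv.Perm (Fin 3) × Equiv.Perm (Fin 6)))) :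
    ¬ IsSimpleGroup G := by
  intro hS
  classical
  set H := Subgroup.centralizer ({z} : Set G) with hH
  set Q₀ := Cfsg.pCore 2 ↥H with hQ₀
  haveI : Q₀.Normal := FittingCores.pCore_normal 2
  set Q := Q₀.map H.subtype with hQdef
  have e₀ := Subgroup.equivMapOfInjective Q₀ H.subtype H.subtype_injective
  have hzH : z ∈ H := LargeExtra.mem_centralizer_one.2 rfl
  have hzQ : (⟨z, hzH⟩ : H) ∈ Q₀ := hCQ <| Subgroup.mem_centralizer_iff.2 fun c _ =>
    Subtype.ext (LargeExtra.mem_centralizer_one.1 c.2)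
  have loc : LargeExtra.XSLocal Q z := LargeExtra.xsLocal_of_core hz rfl
    (Qd.isExtraspecial_congr e₀.symm hQ) fun c hc => by
      have hcH : c ∈ H := LargeExtra.mem_centralizer_one.2
        (Subgroup.mem_centralizer_iff.1 hc z ⟨_, hzQ, rfl⟩).symm
      exact ⟨⟨c, hcH⟩, hCQ <| Subgroup.mem_centralizer_iff.2 fun q hq =>
        Subtype.ext (Subgroup.mem_centralizer_iff.1 hc q ⟨q, hq, rfl⟩), rfl⟩
  have card : Nat.card Q = 512 := by rw [← Nat.card_congr e₀.toEquiv, hQ9]; norm_num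
  have hm : ∀ h : H, h ∈ Q₀ ↔ (h : G) ∈ Q := fun h =>
    ⟨fun e => ⟨h, e, rfl⟩, fun ⟨h', e, he⟩ => (H.subtype_injective he) ▸ e⟩
  rcases hMQ with ⟨⟨e⟩⟩ | ⟨⟨e⟩⟩
  · refine SymSixCore.false_of_hom hz loc card
      (((MonoidHom.id _).prodMap (alternatingGroup (Fin 6)).subtype).comp
        (e.toMonoidHom.comp (QuotientGroup.mk' Q₀))) (fun h => ?_) (fun σ τ _ hτ => ?_) ?_
    · rw [← hm, ← QuotientGroup.eq_one_iff, ← map_eq_one_iff e e.injective]
      exact map_eq_one_iff ((MonoidHom.id _).prodMap (alternatingGroup (Fin 6)).subtype)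
        (Prod.map_injective.2 ⟨fun _ _ h => h, Subtype.val_injective⟩)
    · obtain ⟨h, eh⟩ := QuotientGroup.mk_surjective (e.symm (σ, ⟨τ, Equiv.Perm.mem_alternatingGroup.2 hτ⟩))
      refine ⟨h, ?_⟩
      show (MonoidHom.prodMap _ _) (e (QuotientGroup.mk h)) = _
      rw [eh, e.apply_symm_apply]; rfl
    · obtain ⟨h, eh⟩ := QuotientGroup.mk_surjective (e.symm (Equiv.swap 0 1, 1))
      refine ⟨h, ?_⟩
      show Equiv.Perm.sign ((MonoidHom.prodMap _ _) (e (QuotientGroup.mk h))).1 = _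
      rw [eh, e.apply_symm_apply]
      exact Equiv.Perm.sign_swap (by decide)
  · refine SymSixCore.false_of_hom hz loc card (e.toMonoidHom.comp (QuotientGroup.mk' Q₀))
      (fun h => ?_) (fun σ τ _ _ => ?_) ?_
    · rw [← hm, ← QuotientGroup.eq_one_iff]
      exact map_eq_one_iff e e.injective
    · obtain ⟨h, eh⟩ := QuotientGroup.mk_surjective (e.symm (σ, τ))
      exact ⟨h, by show e (QuotientGroup.mk h) = _; rw [eh, e.apply_symm_apply]⟩
    · obtain ⟨h, eh⟩ := QuotientGroup.mk_surjective (e.symm (Equiv.swap 0 1, 1))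
      refine ⟨h, ?_⟩
      show Equiv.Perm.sign (e (QuotientGroup.mk h)).1 = _
      rw [eh, e.apply_symm_apply]
      exact Equiv.Perm.sign_swap (by decide)

end Cfsg.Agent.S3283
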