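import Cfsg.Statements.S3284
import Cfsg.Agent.Lib.SymSixCore.Main
import Cfsg.Agent.Lib.LargeExtra.Setting

set_option autoImplicit false
open Cfsg

namespace Cfsg.Agent.S3284

/-- There is no non-abelian finite simple group with an involution z whose centralizer M has generalized Fitting subgroup Q = F*(M) extraspecial of order 2⁹ and M/Q isomorphic to the subgroup of S₃ × S₆ consisting of the pairs of permutations with equal sign (a group (3 × A₆)·2 in which an involution outside 3 × A₆ induces S₃ on the first factor and S₆ on the second). -/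
theorem result {G : Type*} [Group G] [Finite G] [IsSimpleGroup G] (hG : ¬ IsMulCommutative G) (z : G) (hz : orderOf z = 2)
    [hn : (Cfsg.generalizedFittingSubgroup ↥(Subgroup.centralizer ({z} : Set G))).Normal]
    (hQ : Cfsg.IsExtraspecial 2 ↥(Cfsg.generalizedFittingSubgroup ↥(Subgroup.centralizer ({z} : Set G)))) (hQ9 : Nat.card ↥(Cfsg.generalizedFittingSubgroup ↥(Subgroup.centralizer ({z} : Set G))) = 2 ^ 9)
    (e : (↥(Subgroup.centralizer ({z} : Set G)) ⧸ Cfsg.generalizedFittingSubgroup ↥(Subgroup.centralizer ({z} : Set G))) ≃*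
      ↥(MonoidHom.ker (Equiv.Perm.sign.comp (MonoidHom.fst (Equiv.Perm (Fin 3)) (Equiv.Perm (Fin 6))) *
          Equiv.Perm.sign.comp (MonoidHom.snd (Equiv.Perm (Fin 3)) (Equiv.Perm (Fin 6)))))) :
    False := by
  classical
  set H := Subgroup.centralizer ({z} : Set G) with hH
  set Q₀ := Cfsg.generalizedFittingSubgroup ↥H with hQ₀
  set Q := Q₀.map H.subtype with hQdef
  have e₀ := Subgroup.equivMapOfInjective Q₀ H.subtype H.subtype_injective
  have loc : LargeExtra.XSLocal Q z := LargeExtra.XSLocal.of_fstar hz rfl (Qd.isExtraspecial_congr e₀.symm hQ)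
  have card : Nat.card Q = 512 := by rw [← Nat.card_congr e₀.toEquiv, hQ9]; norm_num
  have hm : ∀ h : H, h ∈ Q₀ ↔ (h : G) ∈ Q := fun h =>
    ⟨fun e => ⟨h, e, rfl⟩, fun ⟨h', e, he⟩ => (H.subtype_injective he) ▸ e⟩
  refine SymSixCore.false_of_hom hz loc card ((Subgroup.subtype _).comp (e.toMonoidHom.comp (QuotientGroup.mk' Q₀)))
    (fun h => ?_) (fun σ τ hσ hτ => ?_) ?_
  · rw [← hm, ← QuotientGroup.eq_one_iff, ← map_eq_one_iff e e.injective]
    exact OneMemClass.coe_eq_one
  · obtain ⟨h, eh⟩ := QuotientGroup.mk_surjective (e.symm ⟨(σ, τ), by simp [MonoidHom.mem_ker, hσ, hτ]⟩)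
    refine ⟨h, ?_⟩
    show ((e (QuotientGroup.mk h)) : Equiv.Perm (Fin 3) × Equiv.Perm (Fin 6)) = _
    rw [eh, e.apply_symm_apply]
  · obtain ⟨h, eh⟩ := QuotientGroup.mk_surjective
      (e.symm ⟨(Equiv.swap 0 1, Equiv.swap 0 1), by simp [MonoidHom.mem_ker]⟩)
    refine ⟨h, ?_⟩
    show Equiv.Perm.sign ((e (QuotientGroup.mk h)) : Equiv.Perm (Fin 3) × Equiv.Perm (Fin 6)).1 = _
    rw [eh, e.apply_symm_apply]
    exact Equiv.Perm.sign_swap (by decide)

end Cfsg.Agent.S3284
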