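import Cfsg.Statements.S3294
import Cfsg.Agent.Lib.Solvable.Fitting
import Cfsg.Agent.Lib.Transfer.Basic
import Cfsg.Agent.Lib.Transfer.Abelian
import Cfsg.Agent.Lib.Techniques.CharP
import Mathlib.GroupTheory.SpecificGroups.Quaternion

set_option autoImplicit false
open Cfsg

namespace Cfsg.Agent.S3294

open QuaternionGroup in
/-- The key property of quaternion groups of order at least 32. -/
lemma quaternion_key {P : Type*} [Group P] {n : ℕ} (hn : 3 ≤ n) (e : P ≃* QuaternionGroup (2 ^ n)) :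
    ∃ a : P, orderOf a = 2 * 2 ^ n ∧
      (∀ y : P, (∀ k, k ≤ 4 → 0 < k → y ^ k ≠ 1) → y ∈ Subgroup.zpowers a) ∧
      (∀ y z : P, y ∉ Subgroup.zpowers a → z ∉ Subgroup.zpowers a → y⁻¹ * z ∈ Subgroup.zpowers a) ∧
      (∀ y : P, y ∉ Subgroup.zpowers a → y⁻¹ * (a * y * a⁻¹) = (a ^ 2)⁻¹) := by
  haveI : NeZero (2 ^ n) := ⟨(by positivity)⟩
  refine ⟨e.symm (a 1), ?_, ?_, ?_, ?_⟩
  · rw [MulEquiv.orderOf_eq, orderOf_a_one]
  all_goals
    have hmem : ∀ i : ZMod (2 * 2 ^ n), e.symm (a i) ∈ Subgroup.zpowers (e.symm (a 1)) := fun i => by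
      refine ⟨(i.val : ℤ), ?_⟩
      show e.symm (a 1) ^ ((i.val : ℤ)) = e.symm (a i)
      rw [zpow_natCast, ← map_pow, a_one_pow, ZMod.natCast_zmod_val]
    have hcase : ∀ y : P, y ∈ Subgroup.zpowers (e.symm (a 1)) ∨ ∃ i, y = e.symm (xa i) := fun y => by
      rcases h : e y with i | i
      · exact Or.inl (by rw [← e.symm_apply_apply y, h]; exact hmem i)
      · exact Or.inr ⟨i, by rw [← e.symm_apply_apply y, h]⟩
  · intro y hy
    rcases hcase y with h | ⟨i, rfl⟩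
    · exact h
    · exfalso
      refine hy 4 le_rfl (by norm_num) ?_
      rw [← map_pow, ← orderOf_xa (n := 2 ^ n) i, pow_orderOf_eq_one, map_one]
  · intro y z hy hz
    obtain ⟨i, rfl⟩ := (hcase y).resolve_left hy
    obtain ⟨j, rfl⟩ := (hcase z).resolve_left hz
    rw [← map_inv, ← map_mul]
    show e.symm ((xa i)⁻¹ * xa j) ∈ _
    rw [show (xa i)⁻¹ = xa (((2 ^ n : ℕ) : ZMod (2 * 2 ^ n)) + i) from rfl, xa_mul_xa]
    exact hmem _
  · intro y hy
    obtain ⟨i, rfl⟩ := (hcase y).resolve_left hy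
    rw [← map_pow, ← map_inv, ← map_inv, ← map_inv, ← map_mul, ← map_mul, ← map_mul]
    congr 1
    rw [show (xa i)⁻¹ = xa (((2 ^ n : ℕ) : ZMod (2 * 2 ^ n)) + i) from rfl, show (a (1 : ZMod (2 * 2 ^ n)))⁻¹ = a (-1) from rfl,
      a_mul_xa, xa_mul_a, xa_mul_xa, a_one_pow, show ∀ k : ZMod (2 * 2 ^ n), (a k)⁻¹ = a (-k) from fun k => rfl]
    congr 1
    push_cast
    ring


/-- A finite solvable group whose Sylow 2-subgroups are generalized quaternion of order at least 32 has a normal 2-complement. -/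
theorem result {G : Type*} [Group G] [Finite G] (hsol : Group.IsSolvable G) (T : Sylow 2 G) (n : ℕ) (hn : 3 ≤ n) (hT : Nonempty ((T : Subgroup G) ≃* QuaternionGroup (2 ^ n))) : Cfsg.HasNormalPComplement 2 G := by
  haveI : Fact (Nat.Prime 2) := ⟨Nat.prime_two⟩
  obtain ⟨e0⟩ := hT
  set f := QuotientGroup.mk' (Cfsg.oddCore G) with hfdef
  have hfs : Function.Surjective f := QuotientGroup.mk'_surjective _
  haveI : Group.IsSolvable (G ⧸ Cfsg.oddCore G) := Group.isSolvable_of_surjective hfs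
  have hO : Cfsg.pPrimeCore 2 (G ⧸ Cfsg.oddCore G) = ⊥ := PBasic.pPrimeCore_quotient_pPrimeCore 2 G
  set P := T.mapSurjective hfs with hPdef
  have hinj : Function.Injective (f.subgroupMap (T : Subgroup G)) := by
    rw [injective_iff_map_eq_one]
    intro x hx
    have h1 : (x : G) ∈ Cfsg.oddCore G := (QuotientGroup.eq_one_iff _).1 (congrArg Subtype.val hx)
    exact Subtype.ext (PBasic.eq_one_of_isPGroup_of_coprime T.isPGroup' x.2
      (PBasic.coprime_orderOf_of_mem (PBasic.pPrimeCore_coprime 2 G) h1))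
  let e : (P : Subgroup (G ⧸ Cfsg.oddCore G)) ≃* QuaternionGroup (2 ^ n) :=
    (MulEquiv.ofBijective (f.subgroupMap (T : Subgroup G))
      ⟨hinj, f.subgroupMap_surjective _⟩).symm.trans e0
  obtain ⟨a, hao, hbig, hidx, hconj⟩ := quaternion_key hn e
  set R := Cfsg.pCore 2 (G ⧸ Cfsg.oddCore G) with hR
  have hRP : R ≤ P := PBasic.pCore_le_sylow P
  haveI hRn : R.Normal := inferInstance
  set C := R ⊓ Subgroup.zpowers (a : G ⧸ Cfsg.oddCore G) with hC
  have hzp : ∀ y : (P : Subgroup (G ⧸ Cfsg.oddCore G)),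
      ((y : G ⧸ Cfsg.oddCore G) ∈ Subgroup.zpowers (a : G ⧸ Cfsg.oddCore G) ↔ y ∈ Subgroup.zpowers a) := by
    intro y
    simp only [Subgroup.mem_zpowers_iff, ← SubgroupClass.coe_zpow, Subtype.coe_inj]
  have hcent : ∀ g : G ⧸ Cfsg.oddCore G, Odd (orderOf g) → g ∈ R := by
    intro g hg
    refine FittingCores.centralizer_pCore_le Nat.prime_two hO ?_
    have hgcop : (orderOf g).Coprime 2 := Nat.coprime_two_right.2 hg
    -- `g` normalizes `C`
    have hsub : ∀ x ∈ C, g * x * g⁻¹ ∈ C := by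
      rintro x ⟨hxR, hxa⟩
      refine ⟨hRn.conj_mem x hxR g, ?_⟩
      by_cases hle : R ≤ Subgroup.zpowers (a : G ⧸ Cfsg.oddCore G)
      · exact hle (hRn.conj_mem x hxR g)
      obtain ⟨y, hy, hya⟩ := SetLike.not_le_iff_exists.1 hle
      have hca := hconj ⟨y, hRP hy⟩ (fun h => hya ((hzp _).2 h))
      have ha2 : ((a : G ⧸ Cfsg.oddCore G)) ^ 2 ∈ R := by
        have e1 : y⁻¹ * ((a : G ⧸ Cfsg.oddCore G) * y * (a : G ⧸ Cfsg.oddCore G)⁻¹) =
            ((a : G ⧸ Cfsg.oddCore G) ^ 2)⁻¹ := congrArg Subtype.val hca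
        rw [← inv_mem_iff, ← e1]
        exact mul_mem (inv_mem hy) (hRn.conj_mem y hy _)
      obtain ⟨k, hk⟩ := Subgroup.mem_zpowers_iff.1 hxa
      have h2 : g * (a : G ⧸ Cfsg.oddCore G) ^ 2 * g⁻¹ ∈ Subgroup.zpowers (a : G ⧸ Cfsg.oddCore G) := by
        refine (hzp ⟨_, hRP (hRn.conj_mem _ ha2 g)⟩).2 (hbig _ fun m hm hm0 h => ?_)
        have h' : (g * (a : G ⧸ Cfsg.oddCore G) ^ 2 * g⁻¹) ^ m = 1 := congrArg Subtype.val h
        rw [conj_pow, conj_eq_one_iff, ← pow_mul] at h'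
        have h3 := orderOf_dvd_of_pow_eq_one h'
        rw [Subgroup.orderOf_coe, hao] at h3
        have h4 : 2 * 2 ^ n ≤ 2 * m := Nat.le_of_dvd (by omega) h3
        have h5 : 8 ≤ 2 ^ n := le_trans (by norm_num) (Nat.pow_le_pow_right two_pos hn : 2 ^ 3 ≤ 2 ^ n)
        omega
      rcases Int.even_or_odd k with ⟨l, hl⟩ | ⟨l, hl⟩
      · have : g * x * g⁻¹ = (g * (a : G ⧸ Cfsg.oddCore G) ^ 2 * g⁻¹) ^ l := by
          rw [conj_zpow, ← hk, hl, ← zpow_natCast, ← zpow_mul, Nat.cast_ofNat, two_mul]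
        rw [this]; exact zpow_mem h2 l
      · -- then `a` itself lies in `R`
        have haR : (a : G ⧸ Cfsg.oddCore G) ∈ R := by
          have : (a : G ⧸ Cfsg.oddCore G) = x * (((a : G ⧸ Cfsg.oddCore G) ^ 2) ^ l)⁻¹ := by
            rw [← hk, hl, ← zpow_natCast, ← zpow_mul, ← zpow_neg, ← zpow_add]
            norm_num
          rw [this]; exact mul_mem hxR (inv_mem (zpow_mem ha2 l))
        have h1 : g * (a : G ⧸ Cfsg.oddCore G) * g⁻¹ ∈ Subgroup.zpowers (a : G ⧸ Cfsg.oddCore G) := by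
          refine (hzp ⟨_, hRP (hRn.conj_mem _ haR g)⟩).2 (hbig _ fun m hm hm0 h => ?_)
          have h' : (g * (a : G ⧸ Cfsg.oddCore G) * g⁻¹) ^ m = 1 := congrArg Subtype.val h
          rw [conj_pow, conj_eq_one_iff] at h'
          have h3 := orderOf_dvd_of_pow_eq_one h'
          rw [Subgroup.orderOf_coe, hao] at h3
          have h4 : 2 * 2 ^ n ≤ m := Nat.le_of_dvd hm0 h3
          have h5 : 8 ≤ 2 ^ n := le_trans (by norm_num) (Nat.pow_le_pow_right two_pos hn : 2 ^ 3 ≤ 2 ^ n)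
          omega
        rw [← hk, ← conj_zpow]
        exact zpow_mem h1 k
    have hgN : g ∈ Subgroup.normalizer (C : Set (G ⧸ Cfsg.oddCore G)) := by
      have hinv : ∀ (m : ℕ), ∀ x ∈ C, g ^ m * x * (g ^ m)⁻¹ ∈ C := by
        intro m; induction m with
        | zero => intro x hx; simpa using hx
        | succ m ih =>
          intro x hx
          rw [pow_succ', show g * g ^ m * x * (g * g ^ m)⁻¹ = g * (g ^ m * x * (g ^ m)⁻¹) * g⁻¹ by group]
          exact hsub _ (ih x hx)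
      rw [Subgroup.mem_normalizer_iff]
      refine fun x => ⟨hsub x, fun h => ?_⟩
      have := hinv (orderOf g - 1) _ h
      rwa [show g ^ (orderOf g - 1) = g⁻¹ by
        apply eq_inv_of_mul_eq_one_left
        rw [← pow_succ, Nat.sub_add_cancel hg.pos, pow_orderOf_eq_one], inv_inv,
        show g⁻¹ * (g * x * g⁻¹) * g = x by group] at this
    haveI : IsCyclic C := isCyclic_of_injective (Subgroup.inclusion (inf_le_right : C ≤ _))
      (Subgroup.inclusion_injective _)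
    obtain ⟨k, hk⟩ := IsPGroup.iff_card.1 ((PBasic.pCore_isPGroup 2 (G ⧸ Cfsg.oddCore G)).to_le (inf_le_left : C ≤ R))
    obtain ⟨j, hj⟩ : ∃ j, Nat.card (MulAut C) = 2 ^ j := by
      rw [IsCyclic.card_mulAut, hk]
      rcases k with _ | k
      · exact ⟨0, by simp⟩
      · exact ⟨k, by rw [Nat.totient_prime_pow Nat.prime_two (by omega)]; simp⟩
    have hgC := AbelianSylow.mem_centralizer_of_forall_pow hgN (n := 2 ^ j)
      (fun α _ => hj ▸ orderOf_dvd_natCard α) (hgcop.pow_right j)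
    rw [Subgroup.mem_centralizer_iff]
    intro r hr
    symm
    replace hr : r ∈ R := hr
    by_cases hra : r ∈ Subgroup.zpowers (a : G ⧸ Cfsg.oddCore G)
    · exact (Subgroup.mem_centralizer_iff.1 hgC r ⟨hr, hra⟩).symm
    have hr' : g * r * g⁻¹ ∉ Subgroup.zpowers (a : G ⧸ Cfsg.oddCore G) := fun h => hra (by
      have h1 : g * r * g⁻¹ ∈ C := ⟨hRn.conj_mem r hr g, h⟩
      exact ((Subgroup.mem_normalizer_iff.1 hgN r).2 h1).2)
    set w := r⁻¹ * (g * r * g⁻¹) with hw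
    have hwC : w ∈ C := Subgroup.mem_inf.2 ⟨(mul_mem (inv_mem hr) (hRn.conj_mem r hr g) : w ∈ R), by
      refine (hzp ⟨w, hRP (mul_mem (inv_mem hr) (hRn.conj_mem r hr g))⟩).2 ?_
      exact hidx ⟨r, hRP hr⟩ ⟨_, hRP (hRn.conj_mem r hr g)⟩ (fun h => hra ((hzp _).2 h))
        (fun h => hr' ((hzp _).2 h))⟩
    exact CharP.commute_of_conj_eq_mul (p := 2) (PBasic.pCore_isPGroup 2 (G ⧸ Cfsg.oddCore G))
      hwC.1 hgcop (by rw [hw]; group) (Subgroup.mem_centralizer_iff.1 hgC w hwC).symm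
  refine PBasic.hasNormalPComplement_of_pPrimeCore ?_
  have hG2 : IsPGroup 2 (G ⧸ Cfsg.oddCore G) := by
    rw [PBasic.isPGroup_iff_forall_coprime]
    intro x hx
    exact PBasic.eq_one_of_isPGroup_of_coprime (PBasic.pCore_isPGroup 2 (G ⧸ Cfsg.oddCore G))
      (hcent x (Nat.coprime_two_right.1 hx)) hx
  obtain ⟨k, hk⟩ := IsPGroup.iff_card.1 hG2
  exact ⟨k, (Subgroup.index_eq_card _).trans hk⟩

end Cfsg.Agent.S3294
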