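import Cfsg.Statements.S3301
import Cfsg.Agent.Lib.LargeExtra.TransferIndexTwo

set_option autoImplicit false
open Cfsg

namespace Cfsg.Agent.S3301

open scoped commutatorElement

open Subgroup in
/-- A noncentral pair of an extraspecial group has commutator `z`. -/
theorem exists_comm {G : Type*} [Group G] [Finite G] {E : Subgroup G} {z : G} (h : LargeExtra.XSub E z)
    (h4 : 2 < Nat.card E) : ∃ a ∈ E, ∃ b ∈ E, ⁅a, b⁆ = z := by
  by_contra hcon
  push Not at hcon
  have hab : ∀ a ∈ E, ∀ b ∈ E, a * b = b * a := fun a ha b hb =>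
    commutatorElement_eq_one_iff_mul_comm.1 ((h.comm_cases ha hb).resolve_right (hcon a ha b hb))
  have htop : Subgroup.center E = ⊤ := eq_top_iff.2 fun a _ => mem_center_iff.2 fun b =>
    Subtype.ext (hab b b.2 a a.2)
  have h2 := h.xs.2
  rw [htop, Subgroup.card_top] at h2
  omega

open Subgroup in
/-- The case of an extraspecial group of order eight. -/
theorem sq_mem_small {G : Type*} [Group G] [Finite G] {E : Subgroup G} {z : G} (h : LargeExtra.XSLocal E z)
    (h8 : Nat.card E = 8) (x : centralizer ({z} : Set G)) (hx : ∃ j, orderOf x = 2 ^ j) :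
    x * x ∈ commutator ↥(centralizer ({z} : Set G)) := by
  revert x
  set H := centralizer ({z} : Set G) with hH
  intro x hx
  set D := (commutator ↥H).map H.subtype with hD
  suffices hmain : (x : G) * x ∈ D by
    obtain ⟨y, hy, hyx⟩ := hmain
    rwa [show x * x = y from Subtype.ext hyx.symm]
  have hEH := h.toXSub.le_centralizer
  have hcomm : ∀ a ∈ H, ∀ b ∈ H, ⁅a, b⁆ ∈ D := fun a ha b hb =>
    ⟨⁅(⟨a, ha⟩ : H), ⟨b, hb⟩⁆, commutator_mem_commutator (mem_top _) (mem_top _),
      map_commutatorElement H.subtype _ _⟩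
  obtain ⟨a₀, ha₀, b₀, hb₀, hz₀⟩ := exists_comm h.toXSub (by omega)
  have hzD : z ∈ D := hz₀ ▸ hcomm a₀ (hEH ha₀) b₀ (hEH hb₀)
  have hZD : ∀ c, c = 1 ∨ c = z → c ∈ D := by rintro c (rfl | rfl); exacts [one_mem _, hzD]
  by_cases hxE : (x : G) ∈ E
  · exact hZD _ (h.toXSub.sq_cases hxE)
  have hxn : (x : G) ∈ normalizer (E : Set G) := h.norm x.2
  have hzN : ∀ (g : G), g ∈ normalizer (E : Set G) → g * z = z * g → ∀ (hmod : ∀ y ∈ E,
      g * y * g⁻¹ = y ∨ g * y * g⁻¹ = y * z), g ∈ E := by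
    intro g hgn hgz hmod
    have hfix : ∀ y : G, y ∈ E → (y ∈ E ⊓ centralizer ({g} : Set G) ↔ g * y * g⁻¹ = y) := fun y hy => by
      rw [Subgroup.mem_inf, LargeExtra.mem_centralizer_one, LargeExtra.XSub.conj_eq_self_iff]
      exact ⟨fun h => h.2.symm, fun h => ⟨hy, h.symm⟩⟩
    by_cases hall : E ≤ centralizer ({g} : Set G)
    · exact zpowers_le.2 h.toXSub.mem (h.cent (mem_centralizer_iff.2 fun e he =>
        LargeExtra.mem_centralizer_one.1 (hall he)))
    obtain ⟨v, hv, hvg⟩ := SetLike.not_le_iff_exists.1 hall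
    have hv' : g * v * g⁻¹ = v * z := (hmod v hv).resolve_left fun e => hvg ((hfix v hv).2 e).2
    obtain ⟨q, hq, hqW, hqv⟩ := h.toXSub.exists_conj_mul (H := E ⊓ centralizer ({g} : Set G))
      ⟨h.toXSub.mem, LargeExtra.mem_centralizer_one.2 hgz.symm⟩ inf_le_left hv (fun hh => hvg hh.2)
    have hc : q⁻¹ * g ∈ centralizer (E : Set G) := by
      refine mem_centralizer_iff.2 fun r hr => ?_
      have hsame : q * r * q⁻¹ = g * r * g⁻¹ := by
        rcases hmod r hr with e | e
        · rw [e, LargeExtra.XSub.conj_eq_self_iff]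
          exact hqW r ((hfix r hr).2 e)
        · have hrv := (hfix _ (mul_mem hr (inv_mem hv))).2 <| by
            calc g * (r * v⁻¹) * g⁻¹ = g * r * g⁻¹ * (g * v * g⁻¹)⁻¹ := by group
              _ = r * v⁻¹ := by rw [e, hv']; group
          calc q * r * q⁻¹ = q * (r * v⁻¹) * q⁻¹ * (q * v * q⁻¹) := by group
            _ = r * v⁻¹ * (v * z) := by rw [LargeExtra.XSub.conj_eq_self_iff.2 (hqW _ hrv), hqv]
            _ = g * r * g⁻¹ := by rw [e]; group
      calc r * (q⁻¹ * g) = q⁻¹ * (q * r * q⁻¹) * g := by group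
        _ = q⁻¹ * g * r := by rw [hsame]; group
    have := mul_mem hq (zpowers_le.2 h.toXSub.mem (h.cent hc))
    rwa [mul_inv_cancel_left] at this
  -- the four classes modulo the centre
  let N : Subgroup E := Subgroup.center E
  let V := ↥E ⧸ N
  haveI : Fintype V := Fintype.ofFinite _
  have hmk : ∀ a b : E, (QuotientGroup.mk a : V) = QuotientGroup.mk b ↔
      (b : G) = a ∨ (b : G) = (a : G) * z := fun a b => by
    rw [QuotientGroup.eq]
    constructor
    · intro hc
      rcases h.toXSub.coe_center hc with e | e <;> push_cast at e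
      · exact Or.inl (inv_mul_eq_one.1 e).symm
      · exact Or.inr (inv_mul_eq_iff_eq_mul.1 e)
    · rintro (e | e)
      · rw [show a⁻¹ * b = 1 from Subtype.ext (by push_cast; rw [e, inv_mul_cancel])]
        exact one_mem _
      · rw [show a⁻¹ * b = ⟨z, h.toXSub.mem⟩ from Subtype.ext (by push_cast; rw [e, inv_mul_cancel_left])]
        exact h.toXSub.mem_center
  have hV : Fintype.card V = 4 := by
    have h1 := N.card_eq_card_quotient_mul_card_subgroup
    rw [h8, show Nat.card N = 2 from h.xs.2, Nat.card_eq_fintype_card] at h1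
    change 8 = Fintype.card V * 2 at h1
    omega
  have hxz : (x : G) * z = z * x := LargeExtra.mem_centralizer_one.1 x.2
  let σ₀ : V → V := fun c => QuotientGroup.mk ⟨(x : G) * c.out * (x : G)⁻¹, LargeExtra.conj_mem hxn c.out.2⟩
  have hσ₀ : ∀ a : E, σ₀ (QuotientGroup.mk a) =
      QuotientGroup.mk ⟨(x : G) * a * (x : G)⁻¹, LargeExtra.conj_mem hxn a.2⟩ := fun a => by
    obtain ⟨n, hn⟩ := QuotientGroup.mk_out_eq_mul N a
    show (QuotientGroup.mk _ : V) = _
    rw [hmk]
    rcases h.toXSub.coe_center n.2 with e | e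
    · exact Or.inl (by simp only [hn, Subgroup.coe_mul, e, mul_one])
    · refine Or.inr ?_
      simp only [hn, Subgroup.coe_mul, e]
      calc (x : G) * a * (x : G)⁻¹ = (x : G) * a * (z * z) * (x : G)⁻¹ := by rw [h.toXSub.sq, mul_one]
        _ = (x : G) * ((a : G) * z) * (x : G)⁻¹ * ((x : G) * z * (x : G)⁻¹) := by group
        _ = _ := by rw [hxz, mul_inv_cancel_right]
  let σ : Equiv.Perm V := Equiv.ofBijective σ₀ (Finite.injective_iff_bijective.1 (fun c d hcd => by
    induction c using QuotientGroup.induction_on with | H a => ?_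
    induction d using QuotientGroup.induction_on with | H b => ?_
    rw [hσ₀, hσ₀, hmk] at hcd
    rw [hmk]
    refine hcd.imp (fun e => ?_) fun e => ?_
    · exact mul_left_cancel (mul_right_cancel e)
    · refine mul_left_cancel (mul_right_cancel (b := (x : G)⁻¹) (?_ : (x : G) * b * (x : G)⁻¹ = _))
      calc (x : G) * b * (x : G)⁻¹ = (x : G) * a * (x : G)⁻¹ * z := e
        _ = (x : G) * a * (x : G)⁻¹ * ((x : G) * z * (x : G)⁻¹) := by rw [hxz, mul_inv_cancel_right]
        _ = _ := by group))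
  have hσ : ∀ a : E, σ (QuotientGroup.mk a) =
      QuotientGroup.mk ⟨(x : G) * a * (x : G)⁻¹, LargeExtra.conj_mem hxn a.2⟩ := hσ₀
  have hpow : ∀ (k : ℕ) (a : E), (σ ^ k) (QuotientGroup.mk a) =
      QuotientGroup.mk ⟨(x : G) ^ k * a * ((x : G) ^ k)⁻¹, LargeExtra.conj_mem (pow_mem hxn k) a.2⟩ := by
    intro k
    induction k with
    | zero => intro a; simp
    | succ k ih =>
      intro a
      rw [pow_succ', Equiv.Perm.mul_apply, ih, hσ]
      refine congrArg _ (Subtype.ext ?_)
      show (x : G) * ((x : G) ^ k * a * ((x : G) ^ k)⁻¹) * (x : G)⁻¹ = (x : G) ^ (k + 1) * a * ((x : G) ^ (k + 1))⁻¹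
      rw [pow_succ']; group
  obtain ⟨j, hj⟩ := hx
  have hσj : σ ^ 2 ^ j = 1 := Equiv.ext fun c => by
    induction c using QuotientGroup.induction_on with | H a => ?_
    rw [hpow, Equiv.Perm.one_apply]
    refine congrArg _ (Subtype.ext ?_)
    show (x : G) ^ 2 ^ j * a * ((x : G) ^ 2 ^ j)⁻¹ = a
    rw [← SubgroupClass.coe_pow, ← hj, pow_orderOf_eq_one]; simp
  have hσ1 : σ 1 = 1 := by
    rw [← QuotientGroup.mk_one, hσ]
    exact congrArg _ (Subtype.ext (by simp))
  -- `σ` has order two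
  have hσ2 : σ ^ 2 = 1 := by
    have h3 : (σ ^ 2) ^ 3 = 1 := by
      have hfix : σ ∈ MulAction.stabilizer (Equiv.Perm V) (1 : V) := hσ1
      have hcard : Nat.card (MulAction.stabilizer (Equiv.Perm V) (1 : V)) = 6 := by
        have h1 := MulAction.index_stabilizer_of_transitive (Equiv.Perm V) (1 : V)
        have h2 := (MulAction.stabilizer (Equiv.Perm V) (1 : V)).card_mul_index
        have hV' : Nat.card V = 4 := by rw [Nat.card_eq_fintype_card]; exact hV
        rw [h1, Nat.card_perm] at h2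
        simp only [hV', Nat.factorial] at h2
        omega
      have := congrArg Subtype.val (pow_card_eq_one' (G := MulAction.stabilizer (Equiv.Perm V) (1 : V))
        (x := ⟨σ, hfix⟩))
      rw [hcard] at this
      rw [← pow_mul]
      simpa using this
    refine orderOf_eq_one_iff.1 (Nat.eq_one_of_dvd_coprimes (Nat.Coprime.pow_left j (by norm_num : Nat.Coprime 2 3))
      (orderOf_dvd_of_pow_eq_one ?_) (orderOf_dvd_of_pow_eq_one h3))
    rw [← pow_mul, mul_comm, pow_mul, hσj, one_pow]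
  have hx2E : (x : G) * x ∈ E := by
    refine hzN _ (mul_mem hxn hxn) (by rw [mul_assoc, hxz, ← mul_assoc, hxz, mul_assoc]) fun y hy => ?_
    have := hpow 2 ⟨y, hy⟩
    rw [hσ2, Equiv.Perm.one_apply, hmk, ← pow_two] at *
    exact this
  obtain ⟨y₀, hy₀⟩ : ∃ y₀ : E, σ (QuotientGroup.mk y₀) ≠ QuotientGroup.mk y₀ := by
    by_contra hcon
    push Not at hcon
    refine hxE (hzN _ hxn hxz fun y hy => ?_)
    have := hcon ⟨y, hy⟩
    rw [hσ, eq_comm, hmk] at this
    exact this
  set q : E := ⟨(x : G) * y₀ * (x : G)⁻¹, LargeExtra.conj_mem hxn y₀.2⟩ with hq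
  set a : E := q * y₀⁻¹ with ha
  have haD : (a : G) ∈ D := by
    have := hcomm _ x.2 _ (hEH y₀.2)
    rwa [commutatorElement_def] at this
  have hsqV : ∀ c : V, c * c = 1 := fun c => by
    induction c using QuotientGroup.induction_on with | H b => ?_
    rw [← QuotientGroup.mk_mul, ← QuotientGroup.mk_one, hmk]
    rcases h.toXSub.sq_cases b.2 with e | e
    · exact Or.inl (by push_cast; rw [e])
    · exact Or.inr (by push_cast; rw [e, h.toXSub.sq])
  set A : V := QuotientGroup.mk a with hA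
  set B : V := QuotientGroup.mk y₀ with hB
  have hAB : σ B = A * B := by
    rw [hσ, hA, hB, ← QuotientGroup.mk_mul, ha, inv_mul_cancel_right]
  have hA1 : A ≠ 1 := fun e => hy₀ (show σ B = B by rw [hAB, e, one_mul])
  have hB1 : B ≠ 1 := fun e => hy₀ (show σ B = B by rw [e, hσ1])
  have hAB1 : A * B ≠ 1 := fun e => hB1 (σ.injective (by rw [hAB, e, hσ1]))
  have hnA : A ≠ B := fun e => hAB1 (by rw [e, hsqV])
  haveI : DecidableEq V := Classical.decEq V
  have hall : ∀ c : V, c = 1 ∨ c = A ∨ c = B ∨ c = A * B := fun c => by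
    have huniv : (Finset.univ : Finset V) = {1, A, B, A * B} := by
      refine (Finset.eq_univ_of_card _ ?_).symm
      rw [hV, Finset.card_insert_of_notMem, Finset.card_insert_of_notMem,
        Finset.card_pair (fun e => hA1 (mul_eq_right.1 e.symm))] <;>
        simp [hA1.symm, hB1, hB1.symm, hAB1.symm, hnA]
    have := huniv ▸ Finset.mem_univ c
    simpa using this
  have hσσ : σ (σ B) = B := by
    have := Equiv.ext_iff.1 hσ2 B
    rwa [pow_two, Equiv.Perm.mul_apply, Equiv.Perm.one_apply] at this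
  set w : E := ⟨(x : G) * x, hx2E⟩ with hw
  have hwfix : σ (QuotientGroup.mk w) = QuotientGroup.mk w := by
    rw [hσ]
    exact congrArg _ (Subtype.ext (show (x : G) * ((x : G) * x) * (x : G)⁻¹ = (x : G) * x by group))
  have hcases : (QuotientGroup.mk w : V) = 1 ∨ (QuotientGroup.mk w : V) = A := by
    rcases hall (QuotientGroup.mk w) with e | e | e | e
    · exact Or.inl e
    · exact Or.inr e
    · rw [e, hAB] at hwfix
      exact absurd (mul_eq_right.1 hwfix) hA1
    · rw [e, ← hAB, hσσ, hAB] at hwfix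
      exact absurd (mul_eq_right.1 hwfix.symm) hA1
  rcases hcases with e | e
  · rw [← QuotientGroup.mk_one, eq_comm, hmk] at e
    refine hZD _ (e.imp (fun e => ?_) fun e => ?_) <;> simpa [hw] using e
  · rw [hA, eq_comm, hmk] at e
    rcases e with e | e
    · rw [show (x : G) * x = (a : G) from e]
      exact haD
    · rw [show (x : G) * x = (a : G) * z from e]
      exact mul_mem haD hzD

/-- Let G be a finite group with no nontrivial 2-group quotient (O^2(G) = G), z an involution of G with H = C_G(z), and suppose E = O_2(H) is extraspecial with C_G(E) ≤ E. Then the Sylow 2-subgroups of H/[H, H] are elementary abelian: every element of 2-power order of the abelianization of H has order at most 2. -/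
theorem result {G : Type*} [Group G] [Finite G] (hres : Cfsg.pResidual 2 G = ⊤) (z : G) (hz : orderOf z = 2)
    (E : Subgroup G) (hE : E = (Cfsg.pCore 2 ↥(Subgroup.centralizer ({z} : Set G))).map (Subgroup.centralizer ({z} : Set G)).subtype)
    (hext : Cfsg.IsExtraspecial 2 ↥E) (hcent : Subgroup.centralizer (E : Set G) ≤ E) :
    ∀ q : Abelianization ↥(Subgroup.centralizer ({z} : Set G)), (∃ k : ℕ, orderOf q = 2 ^ k) → q ^ 2 = 1 := by
  classical
  set H := Subgroup.centralizer ({z} : Set G) with hH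
  rintro q ⟨k, hk⟩
  have h := LargeExtra.xsLocal_of_core hz hE hext hcent
  haveI : Fact (Nat.Prime 2) := ⟨Nat.prime_two⟩
  obtain ⟨n, hn1, hn⟩ := FGBasics.XS.exists_card_eq hext
  obtain ⟨m, r, hr, hcardA⟩ := Nat.exists_eq_pow_mul_and_not_dvd
    (Nat.card_pos (α := Abelianization ↥H)).ne' 2 (by norm_num)
  have hodd : (orderOf q).Coprime r := hk ▸ Nat.Coprime.pow_left k
    ((Nat.prime_two.coprime_iff_not_dvd).2 hr)
  have hkill : ∀ y : Abelianization ↥H, y ^ r = 1 → y ∈ Subgroup.zpowers q → y = 1 := fun y hy hyq =>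
    orderOf_eq_one_iff.1 (Nat.eq_one_of_dvd_coprimes hodd (orderOf_dvd_of_mem_zpowers hyq)
      (orderOf_dvd_of_pow_eq_one hy))
  rcases Nat.lt_or_ge n 2 with hn2 | hn2
  · obtain ⟨x, rfl⟩ : ∃ x, Abelianization.of x = q := QuotientGroup.mk'_surjective _ q
    obtain ⟨a, b, hab, -, -, hb2, hodd'⟩ := PBasic.exists_pPart_mul (p := 2) x
    have hE8 : Nat.card E = 8 := by rw [hn, show n = 1 by omega]; rfl
    have hsq : (Abelianization.of a) ^ 2 = 1 := by
      rw [← map_pow, pow_two]
      exact (QuotientGroup.eq_one_iff _).2 (sq_mem_small h hE8 a hb2)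
    rw [← hab, map_mul, mul_pow, hsq, one_mul]
    obtain ⟨j, hj⟩ := hb2
    refine orderOf_eq_one_iff.1 (Nat.eq_one_of_dvd_coprimes
      (Nat.Coprime.pow_left (max k j) ((Nat.coprime_two_left).2 ((Nat.coprime_two_right).1 hodd'))) ?_
      ((orderOf_pow_dvd 2).trans (orderOf_map_dvd _ b)))
    refine orderOf_dvd_of_pow_eq_one ?_
    have e : Abelianization.of b = (Abelianization.of a)⁻¹ * Abelianization.of x := by
      rw [← hab, map_mul, inv_mul_cancel_left]
    rw [e, ← pow_mul, mul_pow, inv_pow]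
    have h1 : Abelianization.of x ^ (2 * 2 ^ max k j) = 1 := orderOf_dvd_iff_pow_eq_one.1
      (hk ▸ (Nat.pow_dvd_pow 2 (le_max_left k j)).mul_left 2)
    have h2 : Abelianization.of a ^ (2 * 2 ^ max k j) = 1 := by rw [pow_mul, hsq, one_pow]
    rw [h1, h2, inv_one, one_mul]
  by_contra hq
  have h32 : 32 ≤ Nat.card E := hn ▸ le_trans (by norm_num) (Nat.pow_le_pow_right two_pos
    (show 5 ≤ 1 + 2 * n by omega))
  -- a subgroup of index two of `H` containing every element whose square has odd image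
  set f : Abelianization ↥H →* Abelianization ↥H := powMonoidHom (2 * r) with hf
  have hR : IsPGroup 2 f.range := by
    rintro ⟨_, y, rfl⟩
    refine ⟨m, Subtype.ext ?_⟩
    show (y ^ (2 * r)) ^ 2 ^ m = 1
    rw [← pow_mul, show 2 * r * 2 ^ m = Nat.card (Abelianization ↥H) * 2 by rw [hcardA]; ring, pow_mul,
      pow_card_eq_one', one_pow]
  obtain ⟨j, hj⟩ := IsPGroup.iff_card.1 hR
  have hj0 : j ≠ 0 := by
    rintro rfl
    have h1 : (⟨f q, q, rfl⟩ : f.range) = 1 := by
      haveI : Subsingleton f.range := (Nat.card_eq_one_iff_unique.1 (show Nat.card f.range = 1 by simpa using hj)).1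
      exact Subsingleton.elim _ _
    refine hq (hkill _ ?_ (Subgroup.pow_mem _ (Subgroup.mem_zpowers q) 2))
    have : f q = 1 := congrArg Subtype.val h1
    rwa [hf, powMonoidHom_apply, pow_mul] at this
  obtain ⟨R₀, hR₀⟩ := Sylow.exists_subgroup_card_pow_prime 2 (G := f.range) (n := j - 1)
    (hj ▸ Nat.pow_dvd_pow 2 (Nat.sub_le j 1))
  set ρ : ↥H →* f.range := f.rangeRestrict.comp Abelianization.of with hρ
  have hρs : Function.Surjective ρ := by
    intro y
    obtain ⟨x, hx⟩ := f.rangeRestrict_surjective y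
    obtain ⟨w, hw⟩ : ∃ w, Abelianization.of w = x := QuotientGroup.mk'_surjective _ x
    exact ⟨w, by rw [hρ, MonoidHom.comp_apply, hw, hx]⟩
  set K := (R₀.comap ρ).map H.subtype with hK
  have hKi : K.relIndex H = 2 := by
    rw [hK, Subgroup.relIndex, Subgroup.subgroupOf, Subgroup.comap_map_eq_self_of_injective H.subtype_injective,
      Subgroup.index_comap_of_surjective _ hρs]
    have := R₀.card_mul_index
    rw [hR₀, hj, ← pow_sub_one_mul hj0] at this
    exact Nat.eq_of_mul_eq_mul_left (pow_pos two_pos _) this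
  set L := ((powMonoidHom r).comp Abelianization.of : ↥H →* Abelianization ↥H).ker.map H.subtype with hL
  have hLc : ∀ a ∈ H, ∀ b ∈ H, ⁅a, b⁆ ∈ L := fun a ha b hb =>
    ⟨⁅(⟨a, ha⟩ : H), ⟨b, hb⟩⁆, by rw [SetLike.mem_coe, MonoidHom.mem_ker, map_commutatorElement,
      commutatorElement_eq_one_iff_mul_comm, mul_comm], map_commutatorElement H.subtype _ _⟩
  have hLK : ∀ a ∈ H, a * a ∈ L → a ∈ K := by
    rintro a ha ⟨w, hw, hwa⟩
    refine ⟨⟨a, ha⟩, ?_, rfl⟩
    have hw' : w = (⟨a, ha⟩ : H) * ⟨a, ha⟩ := Subtype.ext hwa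
    rw [SetLike.mem_coe, MonoidHom.mem_ker, MonoidHom.comp_apply, powMonoidHom_apply, hw', map_mul] at hw
    rw [SetLike.mem_coe, Subgroup.mem_comap, show ρ ⟨a, ha⟩ = 1 from Subtype.ext (by
      show Abelianization.of (⟨a, ha⟩ : H) ^ (2 * r) = 1
      rw [pow_mul, pow_two, hw])]
    exact one_mem _
  obtain ⟨a₀, ha₀, b₀, hb₀, hz₀⟩ := exists_comm h.toXSub (by omega)
  have hzL : z ∈ L := hz₀ ▸ hLc a₀ (h.toXSub.le_centralizer ha₀) b₀ (h.toXSub.le_centralizer hb₀)
  refine LargeExtra.false_of_even_orbits hres h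
    (LargeExtra.IdxTwo.of_relIndex (Subgroup.map_subtype_le _) hKi)
    (Or.inl fun a ha ha2 => hLK a ha (ha2 ▸ one_mem L)) fun g hg hne y hy hgy => hLK _ hgy ?_
  rw [show g⁻¹ * y * g * (g⁻¹ * y * g) = g⁻¹ * (y * y) * g by group]
  rcases h.toXSub.sq_cases hy with e | e <;> rw [e]
  · simp
  · have hv : g⁻¹ * z * g ∈ E := by
      have := h.mem_conj h32 hg hne
      rwa [LargeExtra.mem_conjMap] at this
    exact LargeExtra.mem_of_conj h h32 hLc hzL hv (g := g⁻¹) (by rw [inv_inv])

end Cfsg.Agent.S3301
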