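import Cfsg.Statements.S3303
import Cfsg.Agent.Lib.Solvable.Fitting
import Cfsg.Agent.Lib.Transfer.Basic
import Mathlib.GroupTheory.SpecificGroups.Cyclic

set_option autoImplicit false
open Cfsg

namespace Cfsg.Agent.S3303

open Pointwise in
/-- Every Sylow subgroup of a quotient is an image. -/
lemma exists_sylow_map {G H : Type*} [Group G] [Group H] [Finite G] [Finite H] {p : ℕ} [Fact p.Prime]
    (f : G →* H) (hf : Function.Surjective f) (P : Sylow p H) :
    ∃ S : Sylow p G, (S : Subgroup G).map f = P := by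
  obtain ⟨S₀⟩ : Nonempty (Sylow p G) := inferInstance
  obtain ⟨h, hh⟩ := MulAction.exists_smul_eq H (S₀.mapSurjective hf) P
  obtain ⟨g, rfl⟩ := hf h
  refine ⟨g • S₀, ?_⟩
  rw [← hh, Sylow.coe_subgroup_smul, Sylow.coe_subgroup_smul, Sylow.coe_mapSurjective,
    SolvBasic.map_conjSmul]


/-- Let G be a finite solvable group in which the intersection of any two distinct Sylow 2-subgroups is cyclic. Then G/O(G) has a normal Sylow 2-subgroup, where O(G) is the largest normal subgroup of odd order. -/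
theorem result {G : Type*} [Group G] [Finite G] (hs : Group.IsSolvable G)
    (hC : ∀ S T : Sylow 2 G, S ≠ T → IsCyclic ↥((S : Subgroup G) ⊓ (T : Subgroup G))) :
    ∃ P : Sylow 2 (G ⧸ Cfsg.oddCore G), (P : Subgroup (G ⧸ Cfsg.oddCore G)).Normal := by
  haveI : Fact (Nat.Prime 2) := ⟨Nat.prime_two⟩
  set f := QuotientGroup.mk' (Cfsg.oddCore G) with hfdef
  have hfs : Function.Surjective f := QuotientGroup.mk'_surjective _
  haveI : Group.IsSolvable (G ⧸ Cfsg.oddCore G) := Group.isSolvable_of_surjective hfs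
  have hO : Cfsg.pPrimeCore 2 (G ⧸ Cfsg.oddCore G) = ⊥ := PBasic.pPrimeCore_quotient_pPrimeCore 2 G
  set R := Cfsg.pCore 2 (G ⧸ Cfsg.oddCore G) with hR
  obtain ⟨P⟩ : Nonempty (Sylow 2 (G ⧸ Cfsg.oddCore G)) := inferInstance
  refine ⟨P, ?_⟩
  by_cases hall : ∀ Q : Sylow 2 (G ⧸ Cfsg.oddCore G), Q = P
  · haveI : Subsingleton (Sylow 2 (G ⧸ Cfsg.oddCore G)) := ⟨fun a b => (hall a).trans (hall b).symm⟩
    exact Sylow.normal_of_subsingleton P
  push Not at hall
  obtain ⟨Q, hQ⟩ := hall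
  obtain ⟨S, hS⟩ := exists_sylow_map f hfs P
  obtain ⟨T, hT⟩ := exists_sylow_map f hfs Q
  set K := R.comap f with hK
  set M := (Q : Subgroup (G ⧸ Cfsg.oddCore G)).comap f with hM
  set U := (S : Subgroup G) ⊓ K with hU
  have hKM : K ≤ M := Subgroup.comap_mono (PBasic.pCore_le_sylow Q)
  have hUR : U.map f = R := by
    refine le_antisymm (Subgroup.map_le_iff_le_comap.2 inf_le_right) fun y hy => ?_
    obtain ⟨x, hx, rfl⟩ : y ∈ (S : Subgroup G).map f := hS.symm ▸ PBasic.pCore_le_sylow P hy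
    exact ⟨x, ⟨hx, hy⟩, rfl⟩
  have hTM : (T : Subgroup G) ≤ M := Subgroup.map_le_iff_le_comap.1 hT.le
  have hUp : IsPGroup 2 U := S.isPGroup'.to_le inf_le_left
  obtain ⟨P', hP'⟩ := (hUp.comap_subtype (K := M)).exists_le_sylow
  set T0 := (P' : Subgroup M).map M.subtype with hT0
  have hcard : Nat.card T0 = Nat.card (T : Subgroup G) := by
    refine le_antisymm ?_ ?_
    · obtain ⟨T1, hT1⟩ := (P'.isPGroup'.map M.subtype).exists_le_sylow
      calc Nat.card T0 ≤ Nat.card (T1 : Subgroup G) :=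
            Nat.card_le_card_of_injective _ (Subgroup.inclusion_injective hT1)
        _ = _ := by rw [T1.card_eq_multiplicity, T.card_eq_multiplicity]
    · have h1 : Nat.card (P' : Subgroup M) = Nat.card ((T.subtype hTM : Sylow 2 M) : Subgroup M) := by
        rw [P'.card_eq_multiplicity, (T.subtype hTM : Sylow 2 M).card_eq_multiplicity]
      rw [hT0, Subgroup.card_map_of_injective M.subtype_injective, h1, Sylow.coe_subtype,
        Nat.card_congr (Subgroup.subgroupOfEquivOfLe hTM).toEquiv]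
  let T' : Sylow 2 G := Sylow.ofCard T0 (by rw [hcard, T.card_eq_multiplicity])
  have hne : S ≠ T' := by
    intro he
    apply hQ
    apply Sylow.ext
    have hle : (P : Subgroup (G ⧸ Cfsg.oddCore G)) ≤ Q := by
      rw [← hS, he, Subgroup.map_le_iff_le_comap]
      show T0 ≤ M
      exact Subgroup.map_subtype_le _
    refine (Subgroup.eq_of_le_of_card_ge hle ?_).symm
    rw [P.card_eq_multiplicity, Q.card_eq_multiplicity]
  have hUT : U ≤ (S : Subgroup G) ⊓ (T' : Subgroup G) :=
    le_inf inf_le_left fun x hx => ⟨⟨x, hKM hx.2⟩, hP' hx, rfl⟩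
  haveI := hC S T' hne
  haveI : IsCyclic U := isCyclic_of_injective (Subgroup.inclusion hUT) (Subgroup.inclusion_injective hUT)
  haveI : IsCyclic (U.map f) := isCyclic_of_surjective (f.subgroupMap U) (f.subgroupMap_surjective U)
  rw [hUR] at this
  haveI hRn : R.Normal := inferInstance
  obtain ⟨k, hk⟩ := IsPGroup.iff_card.1 (PBasic.pCore_isPGroup 2 (G ⧸ Cfsg.oddCore G))
  have hG2 : IsPGroup 2 (G ⧸ Cfsg.oddCore G) := by
    intro x
    set φ : G ⧸ Cfsg.oddCore G →* MulAut R := MulAut.conjNormal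
    have h1 : φ x ^ Nat.card (MulAut R) = 1 := pow_card_eq_one'
    obtain ⟨j, hj⟩ : ∃ j, Nat.card (MulAut R) = 2 ^ j := by
      rw [IsCyclic.card_mulAut, hk]
      rcases k with _ | k
      · exact ⟨0, by simp⟩
      · exact ⟨k, by rw [Nat.totient_prime_pow Nat.prime_two (by omega)]; simp⟩
    rw [hj, ← map_pow] at h1
    have hxR : x ^ 2 ^ j ∈ R := by
      refine FittingCores.centralizer_pCore_le Nat.prime_two hO (Subgroup.mem_centralizer_iff.2 fun r hr => ?_)
      have := congrArg (fun e : MulAut R => ((e ⟨r, hr⟩ : R) : G ⧸ Cfsg.oddCore G)) h1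
      simp only [φ, MulAut.conjNormal_apply, MulAut.one_apply] at this
      exact (mul_inv_eq_iff_eq_mul.1 this).symm
    obtain ⟨i, hi⟩ := PBasic.pCore_isPGroup 2 (G ⧸ Cfsg.oddCore G) ⟨_, hxR⟩
    refine ⟨j + i, ?_⟩
    rw [pow_add, pow_mul]
    exact congrArg Subtype.val hi
  obtain ⟨n, hn⟩ := IsPGroup.iff_card.1 hG2
  have hP : (P : Subgroup (G ⧸ Cfsg.oddCore G)) = ⊤ := by
    refine Subgroup.eq_top_of_card_eq _ ?_
    rw [P.card_eq_multiplicity, hn, Nat.Prime.factorization_pow Nat.prime_two, Finsupp.single_eq_same]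
  rw [hP]; infer_instance

end Cfsg.Agent.S3303
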