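import Cfsg.Statements.S3305

set_option autoImplicit false
open Cfsg

namespace Cfsg.Agent.S3305

theorem exists_sylow_ge {G : Type*} [Group G] [Finite G] (H : Subgroup G) [H.Normal] (S : Sylow 2 (G ⧸ H))
    (R : Subgroup G) (hR : IsPGroup 2 R) (hRS : R ≤ (S : Subgroup (G ⧸ H)).comap (QuotientGroup.mk' H)) :
    ∃ P : Sylow 2 G, R ≤ P ∧ (P : Subgroup G).map (QuotientGroup.mk' H) = (S : Subgroup (G ⧸ H)) := by
  have : Fact (Nat.Prime 2) := ⟨Nat.prime_two⟩
  set f := QuotientGroup.mk' H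
  have hf : Function.Surjective f := QuotientGroup.mk'_surjective H
  set K := (S : Subgroup (G ⧸ H)).comap f
  obtain ⟨R', hR'⟩ := (hR.comap_subtype (K := K)).exists_le_sylow
  obtain ⟨P, hP⟩ := (R'.2.map K.subtype).exists_le_sylow
  refine ⟨P, ?_, ?_⟩
  · intro x hx
    exact hP ⟨⟨x, hRS hx⟩, hR' hx, rfl⟩
  · have hg : Function.Surjective (f.subgroupComap (S : Subgroup (G ⧸ H))) :=
      f.subgroupComap_surjective_of_surjective _ hf
    have h1 : (S : Subgroup (G ⧸ H)) ≤ (P : Subgroup G).map f := by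
      intro y hy
      have htop : (R'.mapSurjective hg).toSubgroup = ⊤ := by
        refine ((R'.mapSurjective hg).3 (Q := ⊤) ?_ le_top).symm
        exact S.2.of_injective (Subgroup.topEquiv.toMonoidHom) Subgroup.topEquiv.injective
      have hy' : (⟨y, hy⟩ : ↥(S : Subgroup (G ⧸ H))) ∈ (R'.mapSurjective hg).toSubgroup := by
        rw [htop]; exact Subgroup.mem_top _
      rw [Sylow.coe_mapSurjective] at hy'
      obtain ⟨k, hk, hk'⟩ := hy'
      exact ⟨k, hP ⟨k, hk, rfl⟩, congrArg Subtype.val hk'⟩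
    exact S.3 (P.2.map f) h1


/-- If any two distinct Sylow 2-subgroups of the finite group G intersect in a cyclic group, then the same holds in every quotient group G/H, H a normal subgroup of G. -/
theorem result {G : Type*} [Group G] [Finite G]
    (hC : ∀ S T : Sylow 2 G, S ≠ T → IsCyclic ↥((S : Subgroup G) ⊓ (T : Subgroup G))) (H : Subgroup G) [H.Normal] :
    ∀ S T : Sylow 2 (G ⧸ H), S ≠ T → IsCyclic ↥((S : Subgroup (G ⧸ H)) ⊓ (T : Subgroup (G ⧸ H))) := by
  have : Fact (Nat.Prime 2) := ⟨Nat.prime_two⟩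
  intro S T hST
  set f := QuotientGroup.mk' H
  have hf : Function.Surjective f := QuotientGroup.mk'_surjective H
  set K := ((S : Subgroup (G ⧸ H)) ⊓ (T : Subgroup (G ⧸ H))).comap f
  obtain ⟨R⟩ := (inferInstance : Nonempty (Sylow 2 ↥K))
  have hR : IsPGroup 2 ↥((R : Subgroup ↥K).map K.subtype) := R.2.map _
  obtain ⟨P, hP, hPS⟩ := exists_sylow_ge H S _ hR (fun x hx => by
    obtain ⟨k, -, rfl⟩ := hx; exact (show f (k : G) ∈ (S : Subgroup (G ⧸ H)) ⊓ (T : Subgroup (G ⧸ H)) from k.2).1)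
  obtain ⟨Q, hQ, hQT⟩ := exists_sylow_ge H T _ hR (fun x hx => by
    obtain ⟨k, -, rfl⟩ := hx; exact (show f (k : G) ∈ (S : Subgroup (G ⧸ H)) ⊓ (T : Subgroup (G ⧸ H)) from k.2).2)
  have hne : P ≠ Q := by rintro rfl; exact hST (Sylow.ext (hPS.symm.trans hQT))
  haveI := hC P Q hne
  haveI : IsCyclic ↥((R : Subgroup ↥K).map K.subtype) :=
    isCyclic_of_injective (Subgroup.inclusion (le_inf hP hQ)) (Subgroup.inclusion_injective _)
  let g : ↥K →* ↥((S : Subgroup (G ⧸ H)) ⊓ (T : Subgroup (G ⧸ H))) := f.subgroupComap _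
  have hg : Function.Surjective g := f.subgroupComap_surjective_of_surjective _ hf
  have htop : (R : Subgroup ↥K).map g = ⊤ := by
    rw [← Sylow.coe_mapSurjective hg]
    refine ((R.mapSurjective hg).3 (Q := ⊤) ?_ le_top).symm
    exact (S.2.to_le inf_le_left).of_injective Subgroup.topEquiv.toMonoidHom Subgroup.topEquiv.injective
  haveI : IsCyclic ↥(R : Subgroup ↥K) :=
    isCyclic_of_surjective _ ((R : Subgroup ↥K).equivMapOfInjective K.subtype K.subtype_injective).symm.surjective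
  refine isCyclic_of_surjective (g.comp (R : Subgroup ↥K).subtype) ?_
  intro y
  have : y ∈ (R : Subgroup ↥K).map g := htop ▸ Subgroup.mem_top y
  obtain ⟨k, hk, rfl⟩ := this
  exact ⟨⟨k, hk⟩, rfl⟩

end Cfsg.Agent.S3305
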