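import Cfsg.Statements.S3309
import Cfsg.Agent.Lib.ZStarApps.CommTwo

set_option autoImplicit false
open Cfsg

namespace Cfsg.Agent.S3309

abbrev M := Multiplicative (ZMod 2) × DihedralGroup 4

def rot : M → Bool := fun g => match g.2 with
  | .r _ => true
  | .sr _ => false

def zM : M := (1, .r 2)

theorem sq_M : ∀ a : M, a * a = 1 ∨ a * a = zM := by decide
theorem comm_zM : ∀ a : M, a * zM = zM * a := by decide
theorem nab_M : ∃ a b : M, ¬ a * b = b * a := ⟨(1, .r 1), (1, .sr 0), by decide⟩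
theorem sq_zM : (((1, .r 1) : M) * (1, .r 1)) = zM := by decide
theorem cent_M : ∀ t x : M, t * t = 1 → (∃ y : M, ¬ y * t = t * y) → x * t = t * x → x * x = 1 := by
  decide
set_option maxRecDepth 100000 in
set_option synthInstance.maxSize 100000 in
set_option synthInstance.maxHeartbeats 200000 in
theorem three_M : ∀ p q r : M, p * p ≠ 1 → q * q ≠ 1 → r * r ≠ 1 → q ≠ p → q ≠ p⁻¹ → r ≠ q →
    r ≠ q⁻¹ → r = p ∨ r = p⁻¹ := by decide
theorem rot_gen : ∀ g : M, rot g = true →
    ∃ p q : M, p * p ≠ 1 ∧ q * q ≠ 1 ∧ (g = p ∨ g = p * q) := by decide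
theorem rot_div : ∀ x y : M, rot x = false → rot y = false → rot (y * x⁻¹) = true := by decide
theorem zM_order : orderOf zM = 2 := orderOf_eq_prime (p := 2) (by decide) (by decide)
theorem pow_four_M : ∀ a : M, a ^ 4 = 1 := by decide

theorem aut_trivial (φ : MulAut M) {m : ℕ} (hm : Odd m) (hφ : φ ^ m = 1) (g : M) : φ g = g := by
  have hcop : Nat.Coprime m (2 ^ 2) := Nat.Coprime.pow_right 2 ((Nat.coprime_two_right).2 hm)
  have key : ∀ p : M, p * p ≠ 1 → φ p = p := by
    intro p hp
    have hS : ∀ q : M, q * q ≠ 1 → φ q * φ q ≠ 1 := fun q hq h => hq (φ.injective (by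
      rw [map_mul, h, map_one]))
    have h4 : φ (φ (φ (φ p))) = p := by
      by_cases h1 : φ p = p
      · rw [h1, h1, h1, h1]
      by_cases h2 : φ p = p⁻¹
      · simp only [h2, map_inv, inv_inv]
      rcases three_M p (φ p) (φ (φ p)) hp (hS _ hp) (hS _ (hS _ hp)) h1 h2
        (fun h => h1 (φ.injective h))
        (fun h => h2 (φ.injective (by rw [map_inv]; exact h))) with h | h
      · rw [h, h]
      · rw [h, map_inv, map_inv, h, inv_inv]
    have hk : ∀ k : ℕ, (φ ^ (4 * k)) p = p := by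
      intro k
      induction k with
      | zero => rfl
      | succ k ih =>
        rw [Nat.mul_succ, pow_add, MulAut.mul_apply]
        show (φ ^ (4 * k)) (φ (φ (φ (φ p)))) = p
        rw [h4, ih]
    have hmk : ∀ k : ℕ, (φ ^ (m * k)) p = p := fun k => by rw [pow_mul, hφ, one_pow]; rfl
    obtain ⟨a, ha⟩ : ∃ a, m = 4 * a + 1 ∨ m = 4 * a + 3 := by
      obtain ⟨b, rfl⟩ := hm
      rcases Nat.even_or_odd b with ⟨c, rfl⟩ | ⟨c, rfl⟩
      exacts [⟨c, Or.inl (by ring)⟩, ⟨c, Or.inr (by ring)⟩]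
    rcases ha with ha | ha
    · have := hmk 1
      rw [mul_one, ha, pow_succ', MulAut.mul_apply, hk] at this
      exact this
    · have := hmk 3
      rw [ha, show (4 * a + 3) * 3 = 4 * (3 * a + 2) + 1 by ring, pow_succ', MulAut.mul_apply, hk]
        at this
      exact this
  have hrot : ∀ g : M, rot g = true → φ g = g := by
    intro g hg
    obtain ⟨p, q, hp, hq, e | e⟩ := rot_gen g hg
    · rw [e, key p hp]
    · rw [e, map_mul, key p hp, key q hq]
  cases hg : rot g
  · have hg' : rot (φ g) = false := by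
      cases h : rot (φ g)
      · rfl
      · rw [φ.injective (hrot _ h)] at h
        rw [h] at hg; simp at hg
    set w := φ g * g⁻¹ with hw
    have hwf : φ w = w := hrot w (rot_div g (φ g) hg hg')
    have hpow : ∀ k : ℕ, (φ ^ k) g = w ^ k * g := by
      intro k
      induction k with
      | zero => simp
      | succ k ih =>
        rw [pow_succ', MulAut.mul_apply, ih, map_mul, map_pow, hwf, pow_succ, mul_assoc, hw,
          inv_mul_cancel_right]
    have h1 := hpow m
    rw [hφ, MulAut.one_apply, eq_comm, mul_eq_right] at h1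
    have h2 : w ^ Nat.gcd m (2 ^ 2) = 1 := pow_gcd_eq_one.2 ⟨h1, pow_four_M w⟩
    rw [hcop, pow_one, hw, mul_inv_eq_one] at h2
    exact h2
  · exact hrot g hg

/-- A finite group whose Sylow 2-subgroups are isomorphic to the direct product of a group of order 2 and the dihedral group of order 8 is not a non-abelian simple group. -/
theorem result {G : Type*} [Group G] [Finite G] (S : Sylow 2 G) (hS : Nonempty (↥(S : Subgroup G) ≃* Multiplicative (ZMod 2) × DihedralGroup 4))
    [IsSimpleGroup G] (hG : ¬ IsMulCommutative G) : False := by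
  classical
  haveI : Fact (Nat.Prime 2) := ⟨Nat.prime_two⟩
  obtain ⟨e⟩ := hS
  set z : G := ((e.symm zM : (S : Subgroup G)) : G) with hz
  have hval : ∀ a b : M, ((e.symm a : (S : Subgroup G)) : G) = e.symm b → a = b :=
    fun a b h => e.symm.injective (Subtype.ext h)
  have hzo : orderOf z = 2 := by
    rw [hz, Subgroup.orderOf_coe, MulEquiv.orderOf_eq]
    exact zM_order
  have hzR : z ∈ (S : Subgroup G) := SetLike.coe_mem _
  have hrep : ∀ a ∈ (S : Subgroup G), ∃ m : M, a = ((e.symm m : (S : Subgroup G)) : G) :=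
    fun a ha => ⟨e ⟨a, ha⟩, by rw [e.symm_apply_apply]⟩
  have hcomm : ∀ a b : M, Commute ((e.symm a : (S : Subgroup G)) : G) (e.symm b : (S : Subgroup G)) ↔
      a * b = b * a := by
    intro a b
    constructor
    · intro h
      apply hval
      rw [map_mul, map_mul, Subgroup.coe_mul, Subgroup.coe_mul]
      exact h.eq
    · intro h
      show _ * _ = _ * _
      rw [← Subgroup.coe_mul, ← Subgroup.coe_mul, ← map_mul, ← map_mul, h]
  have hzc : ∀ r ∈ (S : Subgroup G), Commute r z := by
    intro r hr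
    obtain ⟨a, rfl⟩ := hrep r hr
    exact (hcomm _ _).2 (comm_zM a)
  have hsq : ∀ a ∈ (S : Subgroup G), a * a = 1 ∨ a * a = z := by
    intro a ha
    obtain ⟨a, rfl⟩ := hrep a ha
    rw [← Subgroup.coe_mul, ← map_mul]
    rcases sq_M a with h | h <;> rw [h]
    · exact Or.inl (by simp)
    · exact Or.inr rfl
  have hzsq : ∃ a ∈ (S : Subgroup G), a * a = z :=
    ⟨_, SetLike.coe_mem (e.symm ((1, .r 1) : M)), by rw [← Subgroup.coe_mul, ← map_mul, sq_zM]⟩
  have hcen : ∀ g : G, g * z * g⁻¹ ∈ (S : Subgroup G) →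
      (∀ r ∈ (S : Subgroup G), Commute r (g * z * g⁻¹)) → g * z * g⁻¹ = z := by
    intro g hg hc
    obtain ⟨n, hn, he⟩ := S.conj_eq_normalizer_conj_of_mem_centralizer z g⁻¹
      (Subgroup.mem_centralizer_iff.2 fun r hr => (hzc r hr).eq)
      (Subgroup.mem_centralizer_iff.2 fun r hr => by
        have := (hc r hr).eq
        simpa using this)
    rw [inv_inv] at he
    obtain ⟨a, ha, haz⟩ := hzsq
    have hn' : n⁻¹ * a * n ∈ (S : Subgroup G) := by
      have := (Subgroup.mem_normalizer_iff.1 (inv_mem hn) a).1 ha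
      simpa using this
    rcases hsq _ hn' with h | h
    · exfalso
      have : z = 1 := by
        calc z = n * (n⁻¹ * a * n * (n⁻¹ * a * n)) * n⁻¹ := by rw [← haz]; group
          _ = 1 := by rw [h]; group
      simp [this] at hzo
    · rw [he]
      calc n⁻¹ * z * n = n⁻¹ * a * n * (n⁻¹ * a * n) := by rw [← haz]; group
        _ = z := h
  have hWz : z ∈ Subgroup.closure {y : G | y ∈ (S : Subgroup G) ∧ IsConj z y} :=
    Subgroup.subset_closure ⟨hzR, IsConj.refl z⟩
  obtain ⟨e8⟩ := Cfsg.Agent.ZStarApps.dihedral_eight_of_squares hG S hzo hzR hzc hsq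
    (by
      obtain ⟨a, b, hab⟩ := nab_M
      exact ⟨_, SetLike.coe_mem (e.symm a), _, SetLike.coe_mem (e.symm b),
        fun h => hab ((hcomm a b).1 h)⟩)
    hcen
    (by
      intro g hg hne x hx hc
      obtain ⟨a, rfl⟩ := hrep x hx
      obtain ⟨t, ht⟩ := hrep _ hg
      have ht2 : t * t = 1 := by
        apply hval
        rw [map_mul, Subgroup.coe_mul, ← ht, map_one, Subgroup.coe_one,
          show g * z * g⁻¹ * (g * z * g⁻¹) = g * (z * z) * g⁻¹ by group, ← pow_two, ← hzo,
          pow_orderOf_eq_one, mul_one, mul_inv_cancel]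
      have hy : ∃ y : M, ¬ y * t = t * y := by
        by_contra h
        push_neg at h
        refine hne (hcen g hg fun r hr => ?_)
        obtain ⟨r, rfl⟩ := hrep r hr
        rw [ht]; exact (hcomm r t).2 (h r)
      rw [ht] at hc
      rw [← Subgroup.coe_mul, ← map_mul, cent_M t a ht2 hy ((hcomm a t).1 hc)]
      simp)
    (by
      intro x hx a ha
      set N := Subgroup.normalizer ((S : Subgroup G) : Set G)
      obtain ⟨k, m, hm, hkm⟩ : ∃ k m, Odd m ∧ orderOf (⟨x, hx⟩ : N) = 2 ^ k * m := by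
        obtain ⟨k, m, h1, h2⟩ := Nat.exists_eq_pow_mul_and_not_dvd (orderOf_pos (⟨x, hx⟩ : N)).ne' 2
          (by norm_num)
        exact ⟨k, m, Nat.not_even_iff_odd.1 fun h => h1 h.two_dvd, h2⟩
      let f : N →* MulAut M := (MulAut.congr e).toMonoidHom.comp (S : Subgroup G).normalizerMonoidHom
      have hf : ∀ v : N, v ^ m = 1 → ∀ b ∈ (S : Subgroup G), (v : G) * b * (v : G)⁻¹ = b := by
        intro v hv b hb
        have h := aut_trivial (f v) hm (by rw [← map_pow, hv, map_one]) (e ⟨b, hb⟩)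
        simp only [f, MonoidHom.comp_apply, MulEquiv.coe_toMonoidHom, MulAut.congr_apply,
          MulEquiv.trans_apply, MulEquiv.symm_apply_apply, EmbeddingLike.apply_eq_iff_eq] at h
        exact congrArg Subtype.val h
      obtain ⟨u, v, huv, hu, hv⟩ : ∃ u v : N, u * v = ⟨x, hx⟩ ∧ u ^ (2 ^ k) = 1 ∧ v ^ m = 1 := by
        have hcop : Int.gcd (2 ^ k : ℕ) (m : ℕ) = 1 :=
          Nat.Coprime.pow_left k (Nat.coprime_two_left.2 hm)
        obtain ⟨s, t, hst⟩ : ∃ s t : ℤ, s * (m : ℤ) + t * (2 ^ k : ℕ) = 1 := by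
          have := Int.gcd_eq_gcd_ab (m : ℤ) (2 ^ k : ℕ)
          rw [Int.gcd_comm, hcop] at this
          exact ⟨_, _, by rw [mul_comm _ (m : ℤ), mul_comm (Int.gcdB _ _)]; exact this.symm⟩
        have ho : (⟨x, hx⟩ : N) ^ ((m : ℤ) * (2 ^ k : ℕ)) = 1 := by
          rw [← Nat.cast_mul, zpow_natCast, mul_comm, ← hkm, pow_orderOf_eq_one]
        refine ⟨(⟨x, hx⟩ : N) ^ (s * m), (⟨x, hx⟩ : N) ^ (t * (2 ^ k : ℕ)), ?_, ?_, ?_⟩
        · rw [← zpow_add, hst, zpow_one]
        · rw [← zpow_natCast, ← zpow_mul, mul_assoc, mul_comm s, zpow_mul, ho, one_zpow]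
        · rw [← zpow_natCast, ← zpow_mul, mul_assoc, mul_comm t, zpow_mul, mul_comm _ (m : ℤ), ho,
            one_zpow]
      have huS : (u : G) ∈ (S : Subgroup G) := by
        have hn : ((S : Subgroup G).subgroupOf N).Normal := Subgroup.normal_in_normalizer
        obtain ⟨j, -, hj⟩ := (Nat.dvd_prime_pow Nat.prime_two).1 (orderOf_dvd_of_pow_eq_one hu)
        obtain ⟨P, hP⟩ := (IsPGroup.of_card (p := 2) (n := j)
          (by rw [Nat.card_zpowers, hj] : Nat.card (Subgroup.zpowers u) = 2 ^ j)).exists_le_sylow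
        haveI := Sylow.unique_of_normal (S.subtype Subgroup.le_normalizer : Sylow 2 N) hn
        have h := hP (Subgroup.mem_zpowers u)
        rw [Subsingleton.elim P (S.subtype Subgroup.le_normalizer)] at h
        exact h
      have hx' : x = u * v := (congrArg Subtype.val huv).symm
      have e1 : x * a * x⁻¹ * a⁻¹ = (u : G) * a * (u : G)⁻¹ * a⁻¹ := by
        rw [hx', show (u : G) * v * a * ((u : G) * v)⁻¹ * a⁻¹ =
          (u : G) * ((v : G) * a * (v : G)⁻¹) * (u : G)⁻¹ * a⁻¹ by group, hf v hv a ha]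
      rw [e1]
      have hz' : ∀ b ∈ (S : Subgroup G), b * b ∈
          Subgroup.closure {y : G | y ∈ (S : Subgroup G) ∧ IsConj z y} := by
        intro b hb; rcases hsq b hb with h | h <;> rw [h]
        exacts [one_mem _, hWz]
      have hc : Commute ((u : G) * u)⁻¹ a := by
        rcases hsq _ huS with h | h <;> rw [h]
        · simp
        · exact (hzc a ha).symm.inv_left
      have key : (u : G) * a * (u : G)⁻¹ * a⁻¹ =
          ((u : G) * a) * ((u : G) * a) * ((u : G) * u)⁻¹ * (a * a)⁻¹ := by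
        calc (u : G) * a * (u : G)⁻¹ * a⁻¹ =
              ((u : G) * a) * ((u : G) * a) * (a⁻¹ * (((u : G) * u)⁻¹ * a)) * (a * a)⁻¹ := by group
          _ = _ := by rw [hc.eq, inv_mul_cancel_left]
      rw [key]
      exact mul_mem (mul_mem (hz' _ (mul_mem huS ha)) (inv_mem (hz' _ huS))) (inv_mem (hz' a ha)))
  have hc := Nat.card_congr (e.symm.trans e8).toEquiv
  simp [Nat.card_prod, DihedralGroup.nat_card] at hc

end Cfsg.Agent.S3309
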