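import Cfsg.Statements.S3322
import Cfsg.Agent.Lib.DGroup.RankOne

set_option autoImplicit false
open Cfsg

namespace Cfsg.Agent.S3322

open Cfsg.Agent.DGroup

/-- The D-group contains an inverted abelian subgroup of index two. -/
theorem exists_hyp2 {G : Type*} [Group G] [Finite G] (H A : Subgroup G) (hAH : A < H)
    (hD : ∀ x ∈ H, x ∉ A → x ^ 2 = 1) (h4 : 4 ∣ Nat.card ↥H)
    (hC : ∀ j ∈ H, orderOf j = 2 → (∀ h ∈ H, h * j = j * h) →
      Subgroup.centralizer ({j} : Set G) = H) :
    ∃ (B : Subgroup G) (s : G), Hyp2 B s := by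
  haveI := Fact.mk Nat.prime_two
  obtain ⟨s₀, hs₀H, hs₀A⟩ := SetLike.exists_of_lt hAH
  have hsq : ∀ x ∈ H, x ∉ A → x * x = 1 := fun x hx hxA => by rw [← pow_two]; exact hD x hx hxA
  -- it is enough to find `B` of index two
  suffices ∃ (B : Subgroup G) (s : G), B ≤ H ∧ s ∈ H ∧ s ∉ B ∧ s * s = 1 ∧
      (∀ a ∈ B, ∀ b ∈ B, a * b = b * a) ∧ (∀ a ∈ B, s * a * s = a⁻¹) ∧
      ∀ g ∈ H, g ∈ B ∨ g * s ∈ B by
    obtain ⟨B, s, hBH, hsH, hsB, hss, hcomm, hinv, hcov⟩ := this
    refine ⟨B, s, hcomm, ?_, hss, hsB, hinv, fun e he h2 h1 g hg => ?_⟩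
    · have hi : (B.subgroupOf H).index = 2 := by
        rw [Subgroup.index_eq_two_iff]
        refine ⟨⟨s, hsH⟩, fun b => ?_⟩
        rcases hcov b b.2 with hb | hb
        · refine Or.inr ⟨hb, fun hbs => hsB ?_⟩
          have := mul_mem (inv_mem hb) hbs
          simpa using this
        · refine Or.inl ⟨hb, fun hb' => hsB ?_⟩
          have := mul_mem (inv_mem (Subgroup.mem_subgroupOf.1 hb')) hb
          rwa [inv_mul_cancel_left] at this
      have := Subgroup.card_mul_index (B.subgroupOf H)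
      rw [hi, Nat.card_congr (Subgroup.subgroupOfEquivOfLe hBH).toEquiv] at this
      obtain ⟨k, hk⟩ := h4
      exact ⟨k, by omega⟩
    · have hcen : ∀ x ∈ H, x * e = e * x := by
        intro x hx
        rcases hcov x hx with hx' | hx'
        · exact hcomm x hx' e he
        · have e1 : s * e = e * s := by
            have := hinv e he
            rw [inv_eq_of_mul_eq_one_right h2] at this
            calc s * e = s * e * (s * s) := by rw [hss, mul_one]
              _ = (s * e * s) * s := by group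
              _ = e * s := by rw [this]
          have e2 : x = x * s * s := by rw [mul_assoc, hss, mul_one]
          rw [e2]
          exact ((show Commute (x * s) e from hcomm _ hx' e he).mul_left e1).eq
      have := hC e (hBH he) (orderOf_two h2 h1) hcen
      exact hcov g (this ▸ Subgroup.mem_centralizer_singleton_iff.2 hg)
  by_cases hA : ∃ a ∈ A, a * a ≠ 1
  · obtain ⟨a₀, ha₀, ha₀2⟩ := hA
    have hinv : ∀ x ∈ H, x ∉ A → ∀ a ∈ A, x * a * x = a⁻¹ := fun x hx hxA a ha => by
      have h1 := hsq (x * a) (mul_mem hx (hAH.le ha)) fun h => hxA ((A.mul_mem_cancel_right ha).1 h)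
      exact eq_inv_of_mul_eq_one_left (by rw [mul_assoc (x * a)]; exact h1)
    refine ⟨A, s₀, hAH.le, hs₀H, hs₀A, hsq s₀ hs₀H hs₀A, fun a ha b hb => ?_,
      hinv s₀ hs₀H hs₀A, fun g hg => ?_⟩
    · have hss := hsq s₀ hs₀H hs₀A
      have e := hinv s₀ hs₀H hs₀A _ (mul_mem ha hb)
      rw [invol_conj_mul hss, hinv s₀ hs₀H hs₀A a ha, hinv s₀ hs₀H hs₀A b hb, mul_inv_rev] at e
      have := congrArg (·⁻¹) e
      simpa using this.symm
    · by_contra hh
      push Not at hh
      apply ha₀2
      have hss := hsq s₀ hs₀H hs₀A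
      have hgg := hsq g hg hh.1
      have h1 := hinv (g * s₀) (mul_mem hg hs₀H) hh.2 a₀ ha₀
      have hgs := hsq (g * s₀) (mul_mem hg hs₀H) hh.2
      have h2 : g * s₀ * a₀ * (g * s₀) = a₀ := by
        have e1 : g * s₀ * a₀ = a₀ * (g * s₀) := by
          calc g * s₀ * a₀ = g * (s₀ * a₀ * s₀) * s₀ := by
                simp only [mul_assoc, hss, mul_one]
            _ = g * a₀⁻¹ * (g * g) * s₀ := by rw [hinv s₀ hs₀H hs₀A a₀ ha₀, hgg, mul_one]
            _ = (g * a₀⁻¹ * g) * (g * s₀) := by group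
            _ = a₀ * (g * s₀) := by rw [hinv g hg hh.1 _ (inv_mem ha₀), inv_inv]
        rw [e1, mul_assoc, hgs, mul_one]
      rw [h2] at h1
      exact mul_eq_one_iff_eq_inv.2 h1
  · push Not at hA
    have hall : ∀ x ∈ H, x * x = 1 := fun x hx => by
      by_cases hxA : x ∈ A
      · exact hA x hxA
      · exact hsq x hx hxA
    have hcomm : ∀ a ∈ H, ∀ b ∈ H, a * b = b * a := fun a ha b hb => by
      have h1 := hall _ (mul_mem ha hb)
      have ea := inv_eq_of_mul_eq_one_right (hall a ha)
      have eb := inv_eq_of_mul_eq_one_right (hall b hb)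
      have e : (a * b)⁻¹ = a * b := inv_eq_of_mul_eq_one_right h1
      rw [mul_inv_rev, ea, eb] at e
      exact e.symm
    have hp : IsPGroup 2 H := fun x => ⟨1, Subtype.ext (by
      rw [pow_one, Subgroup.coe_pow, pow_two, hall x x.2]; rfl)⟩
    obtain ⟨n, hn⟩ := IsPGroup.iff_card.1 hp
    have hn2 : 2 ≤ n := by
      by_contra hlt
      have h1 : Nat.card H ≤ 2 := by
        rw [hn]; exact le_trans (Nat.pow_le_pow_right two_pos (show n ≤ 1 by omega)) le_rfl
      have := Nat.le_of_dvd Nat.card_pos h4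
      omega
    obtain ⟨K, hK⟩ := Sylow.exists_subgroup_card_pow_prime (G := H) 2 (n := n - 1)
      (by rw [hn]; exact pow_dvd_pow 2 (by omega))
    have hi : K.index = 2 := by
      have := Subgroup.card_mul_index K
      rw [hK, hn, show (2 : ℕ) ^ n = 2 ^ (n - 1) * 2 by rw [← pow_succ]; congr 1; omega] at this
      exact Nat.eq_of_mul_eq_mul_left (Nat.two_pow_pos _) this
    obtain ⟨s, hs⟩ : ∃ s : H, s ∉ K := by
      by_contra hh
      push Not at hh
      rw [show K = ⊤ from eq_top_iff.2 fun x _ => hh x, Subgroup.index_top] at hi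
      omega
    have hKH : K.map H.subtype ≤ H := Subgroup.map_subtype_le K
    refine ⟨K.map H.subtype, s, hKH, s.2, ?_, hall s s.2,
      fun a ha b hb => hcomm a (hKH ha) b (hKH hb), fun a ha => ?_, fun g hg => ?_⟩
    · rintro ⟨x, hx, e⟩
      exact hs ((Subtype.ext e : x = s) ▸ hx)
    · rw [inv_eq_of_mul_eq_one_right (hall a (hKH ha)), hcomm s s.2 a (hKH ha), mul_assoc,
        hall s s.2, mul_one]
    · by_cases hgK : (⟨g, hg⟩ : H) ∈ K
      · exact Or.inl ⟨⟨g, hg⟩, hgK, rfl⟩
      · exact Or.inr ⟨⟨g, hg⟩ * s, (Subgroup.mul_mem_iff_of_index_two hi).2 (iff_of_false hgK hs), rfl⟩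


/-- Call a group a D-group when it has a proper subgroup outside of which every element x satisfies x² = 1 (for instance a dihedral group, or an elementary abelian 2-group). Let G be a finite group with a subgroup H that is a D-group (witnessed by a proper subgroup A of H) of order divisible by 4, such that H = C_G(j) for every involution j in the centre of H. If G is not solvable, then G has a normal subgroup N whose order is odd or twice an odd number with G/N isomorphic to PSL(2, q) or PGL(2, q) for some prime power q > 3 (q may be even). -/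
theorem result
    {G : Type*} [Group G] [Finite G] (H A : Subgroup G) (hAH : A < H) (hD : ∀ x ∈ H, x ∉ A → x ^ 2 = 1)
    (h4 : 4 ∣ Nat.card ↥H)
    (hC : ∀ j ∈ H, orderOf j = 2 → (∀ h ∈ H, h * j = j * h) → Subgroup.centralizer ({j} : Set G) = H)
    (hns : ¬ Group.IsSolvable G) :
    ∃ (N : Subgroup G) (_ : N.Normal), (Odd (Nat.card ↥N) ∨ ∃ m : ℕ, Odd m ∧ Nat.card ↥N = 2 * m) ∧
      ∃ (F : Type) (_ : Field F) (_ : Fintype F), 3 < Fintype.card F ∧
        (Nonempty (G ⧸ N ≃* Matrix.ProjectiveSpecialLinearGroup (Fin 2) F) ∨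
          Nonempty (G ⧸ N ≃* Matrix.ProjGenLinGroup (Fin 2) F)) := by
  obtain ⟨B, s, h⟩ := exists_hyp2 H A hAH hD h4 hC
  haveI := Fact.mk Nat.prime_two
  haveI := FittingCores.pPrimeCore_normal (G := G) 2
  set N := Cfsg.pPrimeCore 2 G with hN
  set f := QuotientGroup.mk' N with hf
  have hNo : Odd (Nat.card N) := odd_pPrimeCore
  have h' := h.map N hNo
  haveI := h.solvable_of_normal_odd N hNo
  have hns' : ¬ Group.IsSolvable (G ⧸ N) := fun hq => hns (by
    haveI := hq
    exact Group.isSolvable_of_ker_le_range N.subtype f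
      (by rw [hf, QuotientGroup.ker_mk', Subgroup.range_subtype]))
  have hO : NoOdd (G ⧸ N) := noOdd_quotient
  have hc : Concl (G ⧸ N) := by
    obtain ⟨e, he⟩ := h'.exists_inner
    by_cases huq : ∀ e', IsInner (B.map f) e' → e' = e
    · exact rankOne h' hO hns' he huq
    · push Not at huq
      obtain ⟨e', he', hne⟩ := huq
      exact rankTwo h' hO hns' he he' (Ne.symm hne)
  obtain ⟨M, hM, hcard, F, hF, hFt, h3, hiso⟩ := hc
  set M' := M.comap f with hM'
  have hNM : N ≤ M' := fun x hx => by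
    rw [hM', Subgroup.mem_comap, show f x = 1 from (QuotientGroup.eq_one_iff x).2 hx]
    exact one_mem M
  have hmap : M'.map f = M :=
    Subgroup.map_comap_eq_self_of_surjective (QuotientGroup.mk'_surjective N) M
  haveI hM'n : M'.Normal := Subgroup.Normal.comap hM f
  have hc' : Nat.card M' = Nat.card N * Nat.card M := by
    have := Subgroup.card_mul_index ((f.comp M'.subtype).ker)
    rw [Subgroup.index_ker, MonoidHom.range_comp, Subgroup.range_subtype, hmap] at this
    have hk : (f.comp M'.subtype).ker = N.subgroupOf M' := by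
      rw [← MonoidHom.comap_ker, hf, QuotientGroup.ker_mk']
      rfl
    rw [hk, Nat.card_congr (Subgroup.subgroupOfEquivOfLe hNM).toEquiv] at this
    exact this.symm
  let e1 : G ⧸ M' ≃* (G ⧸ N) ⧸ M :=
    (QuotientGroup.quotientQuotientEquivQuotient N M' hNM).symm.trans
      (QuotientGroup.quotientMulEquivOfEq hmap)
  refine ⟨M', hM'n, ?_, F, hF, hFt, h3, ?_⟩
  · rw [hc']
    rcases hcard with ho | ⟨m, hm, e⟩
    · exact Or.inl (hNo.mul ho)
    · exact Or.inr ⟨Nat.card N * m, hNo.mul hm, by rw [e]; ring⟩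
  · exact hiso.imp (fun ⟨e⟩ => ⟨e1.trans e⟩) (fun ⟨e⟩ => ⟨e1.trans e⟩)

end Cfsg.Agent.S3322
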