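import Cfsg.Agent.Lib.SymPres.Coxeter

set_option autoImplicit false

namespace Cfsg.Agent.S3335

open Equiv SymCoxeter

variable {H : Type*} [Group H]

theorem cube_conj {a b : H} (h : (a * b) ^ 3 = 1) : (b * a) ^ 3 = 1 := by
  calc (b * a) ^ 3 = a⁻¹ * (a * b) ^ 3 * a := by simp only [pow_succ, pow_zero, one_mul]; group
    _ = 1 := by rw [h]; group

theorem inv_mul_cube {a b : H} (hb : b * b = 1) (h : (a * b) ^ 3 = 1) : (a⁻¹ * b) ^ 3 = 1 := by
  have hb' : b⁻¹ = b := inv_eq_of_mul_eq_one_right hb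
  calc (a⁻¹ * b) ^ 3 = ((b * a) ^ 3)⁻¹ := by rw [← inv_pow, mul_inv_rev, hb']
    _ = 1 := by rw [cube_conj h, inv_one]

theorem inv_mul_sq {a b : H} (hb : b * b = 1) (h : (a * b) ^ 2 = 1) : (a⁻¹ * b) ^ 2 = 1 := by
  have hb' : b⁻¹ = b := inv_eq_of_mul_eq_one_right hb
  calc (a⁻¹ * b) ^ 2 = a⁻¹ * (b * a⁻¹ * b⁻¹ * a⁻¹) * a * a⁻¹ * a := by
        rw [pow_two, hb']
        calc a⁻¹ * b * (a⁻¹ * b) = a⁻¹ * b * a⁻¹ * b := by group
          _ = a⁻¹ * b * a⁻¹ * b * a⁻¹ * a := by group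
          _ = _ := by group
    _ = a⁻¹ * ((a * b * (a * b⁻¹)) ^ (-1 : ℤ)) * a := by group
    _ = 1 := by
      rw [hb', ← pow_two, h]
      group

theorem braid_of_cube {a b : H} (ha : a * a = 1) (hb : b * b = 1) (h : (a * b) ^ 3 = 1) :
    a * b * a = b * a * b := by
  have ha' : a⁻¹ = a := inv_eq_of_mul_eq_one_right ha
  have hb' : b⁻¹ = b := inv_eq_of_mul_eq_one_right hb
  calc a * b * a = (a * b) ^ 3 * (b⁻¹ * a⁻¹ * b⁻¹) := by simp only [pow_succ, pow_zero, one_mul]; group
    _ = b * a * b := by rw [h, ha', hb', one_mul]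

theorem comm_of_sq {a b : H} (ha : a * a = 1) (hb : b * b = 1) (h : (a * b) ^ 2 = 1) :
    a * b = b * a := by
  have ha' : a⁻¹ = a := inv_eq_of_mul_eq_one_right ha
  have hb' : b⁻¹ = b := inv_eq_of_mul_eq_one_right hb
  calc a * b = (a * b) ^ 2 * (b⁻¹ * a⁻¹) := by simp only [pow_succ, pow_zero, one_mul]; group
    _ = b * a := by rw [h, ha', hb', one_mul]

theorem cube_of_braid {a b : H} (ha : a * a = 1) (hb : b * b = 1)
    (h : a * b * a = b * a * b) : (a * b) ^ 3 = 1 := by
  calc (a * b) ^ 3 = (a * b * a) * (b * a * b) := by simp only [pow_succ, pow_zero, one_mul]; group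
    _ = (a * b * a) * (a * b * a) := by rw [h]
    _ = a * b * (a * a) * b * a := by group
    _ = a * (b * b) * a := by rw [ha]; group
    _ = 1 := by rw [hb, mul_one, ha]

/-- The relations of the alternating presentation. -/
def relSet (k : ℕ) : Set (FreeGroup (Fin k)) :=
  {g | ∃ i : Fin k, i.val = 0 ∧ g = FreeGroup.of i ^ 3} ∪
  {g | ∃ i : Fin k, 1 ≤ i.val ∧ g = FreeGroup.of i ^ 2} ∪
  {g | ∃ i j : Fin k, j.val = i.val + 1 ∧ g = (FreeGroup.of i * FreeGroup.of j) ^ 3} ∪
  {g | ∃ i j : Fin k, i.val + 1 < j.val ∧ g = (FreeGroup.of i * FreeGroup.of j) ^ 2}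

/-- The four families of relations for a family of elements. -/
structure AltRels {k : ℕ} (x : Fin k → H) : Prop where
  first : ∀ i : Fin k, i.val = 0 → x i ^ 3 = 1
  sq : ∀ i : Fin k, 1 ≤ i.val → x i * x i = 1
  adj : ∀ i j : Fin k, j.val = i.val + 1 → (x i * x j) ^ 3 = 1
  far : ∀ i j : Fin k, i.val + 1 < j.val → (x i * x j) ^ 2 = 1

theorem AltRels.lift_eq_one {k : ℕ} {x : Fin k → H} (h : AltRels x) :
    ∀ r ∈ relSet k, FreeGroup.lift x r = 1 := by
  rintro r (((⟨i, hi, rfl⟩ | ⟨i, hi, rfl⟩) | ⟨i, j, hij, rfl⟩) | ⟨i, j, hij, rfl⟩)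
  · rw [map_pow, FreeGroup.lift_apply_of]; exact h.first i hi
  · rw [map_pow, FreeGroup.lift_apply_of, pow_two]; exact h.sq i hi
  · rw [map_pow, map_mul, FreeGroup.lift_apply_of, FreeGroup.lift_apply_of]; exact h.adj i j hij
  · rw [map_pow, map_mul, FreeGroup.lift_apply_of, FreeGroup.lift_apply_of]; exact h.far i j hij

theorem altRels_of (k : ℕ) :
    AltRels (fun i => (PresentedGroup.of i : PresentedGroup (relSet k))) := by
  have key : ∀ r ∈ relSet k, PresentedGroup.mk (relSet k) r = 1 := fun r hr =>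
    (QuotientGroup.eq_one_iff _).mpr (Subgroup.subset_normalClosure hr)
  refine ⟨fun i hi => ?_, fun i hi => ?_, fun i j h => ?_, fun i j h => ?_⟩
  · exact (map_pow _ _ _).symm.trans (key _ (Or.inl (Or.inl (Or.inl ⟨i, hi, rfl⟩))))
  · rw [← pow_two]
    exact (map_pow _ _ _).symm.trans (key _ (Or.inl (Or.inl (Or.inr ⟨i, hi, rfl⟩))))
  · have := key _ (Or.inl (Or.inr ⟨i, j, h, rfl⟩))
    rwa [map_pow, map_mul] at this
  · have := key _ (Or.inr ⟨i, j, h, rfl⟩)
    rwa [map_pow, map_mul] at this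

theorem main (k : ℕ) : Nonempty (PresentedGroup (relSet k) ≃* alternatingGroup (Fin (k + 2))) := by
  classical
  set G := PresentedGroup (relSet k) with hG
  set x : Fin k → G := fun i => PresentedGroup.of i with hx
  have hrel : AltRels x := altRels_of k
  -- the automorphism inverting the first generator
  set y : Fin k → G := fun i => if i.val = 0 then (x i)⁻¹ else x i with hy
  have hy0 : ∀ i, i.val = 0 → y i = (x i)⁻¹ := fun i hi => if_pos hi
  have hy1 : ∀ i, 1 ≤ i.val → y i = x i := fun i hi => if_neg (by omega)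
  have hyrel : AltRels y := by
    refine ⟨fun i hi => ?_, fun i hi => ?_, fun i j h => ?_, fun i j h => ?_⟩
    · rw [hy0 i hi, inv_pow, hrel.first i hi, inv_one]
    · rw [hy1 i hi]; exact hrel.sq i hi
    · rw [hy1 j (by omega)]
      by_cases hi : i.val = 0
      · rw [hy0 i hi]; exact inv_mul_cube (hrel.sq j (by omega)) (hrel.adj i j h)
      · rw [hy1 i (by omega)]; exact hrel.adj i j h
    · rw [hy1 j (by omega)]
      by_cases hi : i.val = 0
      · rw [hy0 i hi]; exact inv_mul_sq (hrel.sq j (by omega)) (hrel.far i j h)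
      · rw [hy1 i (by omega)]; exact hrel.far i j h
  let θ₀ : G →* G := PresentedGroup.toGroup hyrel.lift_eq_one
  have hθ₀ : ∀ i, θ₀ (x i) = y i := fun i => PresentedGroup.toGroup.of _
  have hinvol : ∀ g, θ₀ (θ₀ g) = g := by
    have : θ₀.comp θ₀ = MonoidHom.id G := by
      refine PresentedGroup.ext fun i => ?_
      show θ₀ (θ₀ (x i)) = x i
      rw [hθ₀]
      by_cases hi : i.val = 0
      · rw [hy0 i hi, map_inv, hθ₀, hy0 i hi, inv_inv]
      · rw [hy1 i (by omega), hθ₀, hy1 i (by omega)]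
    exact fun g => DFunLike.congr_fun this g
  let θ : MulAut G := MonoidHom.toMulEquiv θ₀ θ₀ (MonoidHom.ext hinvol) (MonoidHom.ext hinvol)
  have hθ2 : θ * θ = 1 := MulEquiv.ext hinvol
  let φ : Multiplicative (ZMod 2) →* MulAut G :=
    { toFun := fun e => if e = 1 then 1 else θ
      map_one' := if_pos rfl
      map_mul' := fun a b => by
        have h2 : ∀ e : Multiplicative (ZMod 2), e = 1 ∨ e = Multiplicative.ofAdd 1 := by decide
        have hne : (Multiplicative.ofAdd 1 : Multiplicative (ZMod 2)) ≠ 1 := by decide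
        have hsq : (Multiplicative.ofAdd 1 : Multiplicative (ZMod 2)) * Multiplicative.ofAdd 1 = 1 := by
          decide
        rcases h2 a with rfl | rfl <;> rcases h2 b with rfl | rfl <;>
          simp only [one_mul, mul_one, if_true, if_neg hne, hsq, hθ2] }
  let t : G ⋊[φ] Multiplicative (ZMod 2) := SemidirectProduct.inr (Multiplicative.ofAdd 1)
  have htt : t * t = 1 := by
    rw [← map_mul, ← map_one (SemidirectProduct.inr : _ →* G ⋊[φ] Multiplicative (ZMod 2))]
    congr 1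
  let xi : Fin k → G ⋊[φ] Multiplicative (ZMod 2) := fun i => SemidirectProduct.inl (x i)
  have hconj : ∀ i, t * xi i = SemidirectProduct.inl (y i) * t := by
    intro i
    have h1 := SemidirectProduct.inl_aut (φ := φ) (Multiplicative.ofAdd 1) (x i)
    rw [show φ (Multiplicative.ofAdd 1) (x i) = y i from by
      show (if (Multiplicative.ofAdd 1 : Multiplicative (ZMod 2)) = 1 then (1 : MulAut G) else θ) (x i) = _
      rw [if_neg (by decide)]
      exact hθ₀ i, map_inv] at h1
    rw [h1, inv_mul_cancel_right]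
  let s : ℕ → G ⋊[φ] Multiplicative (ZMod 2) := fun i =>
    if h : 1 ≤ i ∧ i - 1 < k then t * xi ⟨i - 1, h.2⟩ else t
  have hs0 : s 0 = t := dif_neg (by omega)
  have hs1 : ∀ i : Fin k, s (i.val + 1) = t * xi i := fun i => by
    simp only [s]
    rw [dif_pos ⟨by omega, by simp⟩]
    rfl
  have hprod : ∀ i j : Fin k, t * xi i * (t * xi j) = SemidirectProduct.inl (y i * x j) := fun i j => by
    rw [hconj, mul_assoc, ← mul_assoc t, htt, one_mul, ← map_mul]
  have hssq : ∀ i, i < k + 1 → s i * s i = 1 := by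
    intro i hi
    rcases Nat.eq_zero_or_pos i with rfl | hp
    · rw [hs0, htt]
    · obtain ⟨j, rfl⟩ : ∃ j, i = j + 1 := ⟨i - 1, by omega⟩
      have : y ⟨j, by omega⟩ * x ⟨j, by omega⟩ = 1 := by
        rcases Nat.eq_zero_or_pos j with hj | hj
        · rw [hy0 ⟨j, by omega⟩ hj, inv_mul_cancel]
        · rw [hy1 ⟨j, by omega⟩ hj]; exact hrel.sq ⟨j, by omega⟩ hj
      rw [hs1 ⟨j, by omega⟩, hprod, this, map_one]
  have hRels : Rels s (k + 1) := by
    refine ⟨hssq, fun i hi => braid_of_cube (hssq i (by omega)) (hssq (i + 1) hi) ?_,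
      fun i j hij hj => comm_of_sq (hssq i (by omega)) (hssq j hj) ?_⟩
    · rcases Nat.eq_zero_or_pos i with rfl | hp
      · rw [hs0, hs1 ⟨0, by omega⟩, ← mul_assoc, htt, one_mul, ← map_pow, hrel.first _ rfl, map_one]
      · obtain ⟨j, rfl⟩ : ∃ j, i = j + 1 := ⟨i - 1, by omega⟩
        rw [hs1 ⟨j, by omega⟩, hs1 ⟨j + 1, by omega⟩, hprod, ← map_pow]
        rw [← map_one (SemidirectProduct.inl : G →* G ⋊[φ] Multiplicative (ZMod 2))]
        congr 1
        have h1 := hyrel.adj ⟨j, by omega⟩ ⟨j + 1, by omega⟩ rfl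
        rwa [hy1 ⟨j + 1, by omega⟩ (by simp)] at h1
    · obtain ⟨b, rfl⟩ : ∃ b, j = b + 1 := ⟨j - 1, by omega⟩
      rcases Nat.eq_zero_or_pos i with rfl | hp
      · rw [hs0, hs1 ⟨b, by omega⟩, ← mul_assoc, htt, one_mul, pow_two, ← map_mul,
          hrel.sq _ (show 1 ≤ b by omega), map_one]
      · obtain ⟨a, rfl⟩ : ∃ a, i = a + 1 := ⟨i - 1, by omega⟩
        rw [hs1 ⟨a, by omega⟩, hs1 ⟨b, by omega⟩, hprod, ← map_pow]
        rw [← map_one (SemidirectProduct.inl : G →* G ⋊[φ] Multiplicative (ZMod 2))]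
        congr 1
        have h1 := hyrel.far ⟨a, by omega⟩ ⟨b, by omega⟩ (show a + 1 < b by omega)
        rwa [hy1 ⟨b, by omega⟩ (show 1 ≤ b by omega)] at h1
  obtain ⟨Ψ, hΨ, -⟩ := exists_hom (k + 1) s hRels
  have ha := adj_rels (k + 1)
  set a := adj (k + 1) with hadef
  have hz : AltRels (fun i : Fin k => a 0 * a (i.val + 1)) := by
    have h0 := ha.sq 0 (by omega)
    have hc : ∀ i : Fin k, 1 ≤ i.val → a 0 * a (i.val + 1) = a (i.val + 1) * a 0 := fun i hi =>
      ha.comm 0 (i.val + 1) (by omega) (by omega)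
    have hsq : ∀ i : Fin k, 1 ≤ i.val → a 0 * a (i.val + 1) * (a 0 * a (i.val + 1)) = 1 := fun i hi => by
      calc a 0 * a (i.val + 1) * (a 0 * a (i.val + 1))
          = a 0 * (a (i.val + 1) * a 0) * a (i.val + 1) := by group
        _ = a 0 * (a 0 * a (i.val + 1)) * a (i.val + 1) := by rw [← hc i hi]
        _ = (a 0 * a 0) * (a (i.val + 1) * a (i.val + 1)) := by group
        _ = 1 := by rw [h0, ha.sq _ (by omega), one_mul]
    refine ⟨fun i hi => ?_, hsq, fun i j h => ?_, fun i j h => ?_⟩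
    · show (a 0 * a (i.val + 1)) ^ 3 = 1
      rw [hi]
      exact cube_of_braid h0 (ha.sq 1 (by omega)) (ha.braid 0 (by omega))
    · show (a 0 * a (i.val + 1) * (a 0 * a (j.val + 1))) ^ 3 = 1
      have e : a 0 * a (i.val + 1) * (a 0 * a (j.val + 1)) = a 0 * (a (i.val + 1) * a (j.val + 1)) * (a 0)⁻¹ := by
        rw [hc j (by omega), inv_eq_of_mul_eq_one_right h0]; group
      rw [e, conj_pow, h, cube_of_braid (ha.sq _ (by omega)) (ha.sq _ (by omega)) (ha.braid _ (by omega))]
      group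
    · show (a 0 * a (i.val + 1) * (a 0 * a (j.val + 1))) ^ 2 = 1
      have e : a 0 * a (i.val + 1) * (a 0 * a (j.val + 1)) = a 0 * (a (i.val + 1) * a (j.val + 1)) * (a 0)⁻¹ := by
        rw [hc j (by omega), inv_eq_of_mul_eq_one_right h0]; group
      have e2 : (a (i.val + 1) * a (j.val + 1)) ^ 2 = 1 := by
        rw [pow_two]
        nth_rw 2 [ha.comm _ _ (show i.val + 1 + 1 < j.val + 1 by omega) (by omega)]
        rw [mul_assoc, ← mul_assoc (a (j.val + 1)), ha.sq _ (by omega), one_mul, ha.sq _ (by omega)]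
      rw [e, conj_pow, e2]
      group
  let Φ : G →* Perm (Fin (k + 2)) := PresentedGroup.toGroup hz.lift_eq_one
  have hΦ : ∀ i : Fin k, Φ (x i) = a 0 * a (i.val + 1) := fun i => PresentedGroup.toGroup.of _
  have hinj : Function.Injective Φ := by
    have hcomp : Ψ.comp Φ = SemidirectProduct.inl := by
      refine PresentedGroup.ext fun i => ?_
      show Ψ (Φ (x i)) = SemidirectProduct.inl (x i)
      rw [hΦ, map_mul, hΨ 0 (by omega), hΨ _ (by omega), hs0, hs1, ← mul_assoc, htt, one_mul]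
    intro p q hpq
    apply SemidirectProduct.inl_injective (φ := φ)
    rw [← hcomp]
    exact congrArg Ψ hpq
  have hsign : ∀ i, i < k + 1 → Perm.sign (a i) = -1 := fun i hi => by
    rw [hadef, adj, dif_pos hi]
    exact Perm.sign_swap (by simp [Fin.ext_iff])
  have hle : Φ.range ≤ alternatingGroup (Fin (k + 2)) := by
    rw [MonoidHom.range_eq_map, ← PresentedGroup.closure_range_of, MonoidHom.map_closure,
      Subgroup.closure_le]
    rintro _ ⟨_, ⟨i, rfl⟩, rfl⟩
    show Φ (x i) ∈ alternatingGroup (Fin (k + 2))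
    rw [hΦ, Perm.mem_alternatingGroup, map_mul, hsign _ (by omega), hsign _ (by omega)]
    rfl
  set R := Φ.range with hR
  have h00 : a 0 * a 0 = 1 := ha.sq 0 (by omega)
  have hnorm : ∀ r ∈ R, a 0 * r * a 0 ∈ R := by
    have : R ≤ R.comap (MulAut.conj (a 0)).toMonoidHom := by
      conv_lhs => rw [hR, MonoidHom.range_eq_map, ← PresentedGroup.closure_range_of, MonoidHom.map_closure]
      rw [Subgroup.closure_le]
      rintro _ ⟨_, ⟨i, rfl⟩, rfl⟩
      show a 0 * Φ (x i) * (a 0)⁻¹ ∈ R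
      have e : a 0 * Φ (x i) * (a 0)⁻¹ = (Φ (x i))⁻¹ := by
        rw [hΦ, mul_inv_rev, inv_eq_of_mul_eq_one_right h00,
          inv_eq_of_mul_eq_one_right (ha.sq (i.val + 1) (by omega)), ← mul_assoc, h00, one_mul]
      rw [e]
      exact inv_mem ⟨x i, rfl⟩
    intro r hr
    have := this hr
    simp only [Subgroup.mem_comap, MulEquiv.coe_toMonoidHom, MulAut.conj_apply] at this
    rwa [inv_eq_of_mul_eq_one_right h00] at this
  have hall : ∀ σ : Perm (Fin (k + 2)), σ ∈ R ∨ a 0 * σ ∈ R := by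
    have hstep : ∀ i, i < k + 1 → ∀ σ, (σ ∈ R ∨ a 0 * σ ∈ R) → a i * σ ∈ R ∨ a 0 * (a i * σ) ∈ R := by
      intro i hi σ hσ
      have h1 : a 0 * a i ∈ R := by
        rcases Nat.eq_zero_or_pos i with rfl | hp
        · rw [h00]; exact one_mem R
        · refine ⟨x ⟨i - 1, by omega⟩, ?_⟩
          rw [hΦ]; congr 2; show i - 1 + 1 = i; omega
      rcases hσ with hσ | hσ
      · right; rw [← mul_assoc]; exact mul_mem h1 hσ
      · left
        have h2 := mul_mem (hnorm _ h1) hσ
        have e : a 0 * (a 0 * a i) * a 0 * (a 0 * σ) = a i * σ := by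
          calc a 0 * (a 0 * a i) * a 0 * (a 0 * σ) = (a 0 * a 0) * a i * (a 0 * a 0) * σ := by group
            _ = a i * σ := by rw [h00, one_mul, mul_one]
        rwa [e] at h2
    intro σ
    have hσ : σ ∈ gen (adj (k + 1)) (k + 1) := by rw [closure_adj]; trivial
    unfold gen at hσ
    induction hσ using Subgroup.closure_induction_left with
    | one => exact Or.inl (one_mem R)
    | mul_left g hg z _ ih =>
      obtain ⟨i, hi, rfl⟩ := hg
      exact hstep i hi z ih
    | inv_mul_cancel g hg z _ ih =>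
      obtain ⟨i, hi, rfl⟩ := hg
      rw [inv_eq_of_mul_eq_one_right (ha.sq i hi)]
      exact hstep i hi z ih
  have heq : R = alternatingGroup (Fin (k + 2)) := by
    refine le_antisymm hle fun σ hσ => ?_
    rcases hall σ with h | h
    · exact h
    · exfalso
      have h1 := hle h
      rw [Perm.mem_alternatingGroup, map_mul, hsign 0 (by omega), Perm.mem_alternatingGroup.mp hσ] at h1
      exact absurd h1 (by decide)
  exact ⟨(MonoidHom.ofInjective hinj).trans (MulEquiv.subgroupCongr heq)⟩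

theorem result (n : ℕ) (hn : 3 ≤ n) :
    Nonempty (PresentedGroup
      ({g : FreeGroup (Fin (n - 2)) | ∃ i : Fin (n - 2), i.val = 0 ∧ g = FreeGroup.of i ^ 3} ∪
       {g | ∃ i : Fin (n - 2), 1 ≤ i.val ∧ g = FreeGroup.of i ^ 2} ∪
       {g | ∃ i j : Fin (n - 2), j.val = i.val + 1 ∧ g = (FreeGroup.of i * FreeGroup.of j) ^ 3} ∪
       {g | ∃ i j : Fin (n - 2), i.val + 1 < j.val ∧ g = (FreeGroup.of i * FreeGroup.of j) ^ 2})
      ≃* alternatingGroup (Fin n)) := by
  obtain ⟨k, rfl⟩ : ∃ k, n = k + 2 := ⟨n - 2, by omega⟩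
  exact main k

end Cfsg.Agent.S3335
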