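import Cfsg.Statements.S3343
import Cfsg.Agent.Lib.S9Three.Init
import Cfsg.Agent.Lib.S9Three.CountMain
import Cfsg.Agent.Lib.S9Three.Finish

set_option autoImplicit false
open Cfsg

namespace Cfsg.Agent.S3343

open Cfsg.Agent.S9Three

/-- Let G be a finite group with an element x of order 3 whose centralizer is isomorphic to the centralizer in the symmetric group of degree 9 of a product of three disjoint 3-cycles, and let J ≤ C_G(x) be elementary abelian of order 27 normalizing no non-trivial subgroup of G of order prime to 3. Then either J is normal in G or G is isomorphic to the symmetric group of degree 9. -/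
theorem result {G : Type*} [Group G] [Finite G]
    (x : G) (hx : orderOf x = 3)
    (eC : Subgroup.centralizer ({x} : Set G) ≃*
      Subgroup.centralizer ({Equiv.swap (0 : Fin 9) 1 * Equiv.swap 1 2 * Equiv.swap 3 4 * Equiv.swap 4 5 * Equiv.swap 6 7 * Equiv.swap 7 8} : Set (Equiv.Perm (Fin 9))))
    (J : Subgroup G) (hJC : J ≤ Subgroup.centralizer ({x} : Set G)) (hJcomm : IsMulCommutative J)
    (hJexp : ∀ j ∈ J, j ^ 3 = 1) (hJcard : Nat.card J = 27)
    (hJsig : ∀ K : Subgroup G, (Nat.card K).Coprime 3 → (∀ j ∈ J, K.map (MulAut.conj j).toMonoidHom = K) → K = ⊥) :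
    J.Normal ∨ Nonempty (G ≃* Equiv.Perm (Fin 9)) := by
  obtain ⟨θ, hL, hJ, -⟩ := exists_loc_of_hyps x hx eC J hJC hJcomm hJexp hJcard hJsig
  obtain ⟨k, hk⟩ := hL.exists_kind
  by_cases hsmall : ∀ u, u ≠ 1 → cg θ ![u] ≤ NJ θ
  · exact Or.inl (hJ ▸ hL.small_normal hk hsmall)
  push Not at hsmall
  obtain ⟨u, hu, hbig⟩ := hsmall
  obtain ⟨rfl, w, rfl⟩ := (hL.cg_single hk hu).resolve_left hbig
  have hall : ∀ w, Lift θ w := fun w => (hk w).2 (inQ_three w)
  obtain ⟨ι, hinj, hV, hW, hrange⟩ := hL.exists_model hall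
  have hbig3 : ¬ cg θ ![v3] ≤ NJ θ := by
    intro h
    refine hbig fun g hg => ?_
    have hg' := mem_cg_one.1 hg
    rw [← hW w v3] at hg'
    have h1 := conj_comm (g := (ι (inW w))⁻¹) hg'
    rw [show (ι (inW w))⁻¹ * (ι (inW w) * θ v3 * (ι (inW w))⁻¹) * (ι (inW w))⁻¹⁻¹ = θ v3 by group,
      inv_inv] at h1
    have hN : ι (inW w) ∈ NJ θ := hrange ▸ ⟨_, rfl⟩
    rw [show g = ι (inW w) * ((ι (inW w))⁻¹ * g * ι (inW w)) * (ι (inW w))⁻¹ by group]
    exact mul_mem (mul_mem hN (h (mem_cg_one.2 h1))) (inv_mem hN)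
  have B : Base θ ι := ⟨hL, hinj, hV, hW, hrange, hbig3⟩
  obtain ⟨Ψ, hΨ⟩ := B.exists_psi
  obtain ⟨φ, hφ⟩ := B.exists_sym9 hΨ
  exact Or.inr ⟨(MulEquiv.ofBijective φ ⟨hφ.inj, hφ.surjective B hΨ⟩).symm⟩

end Cfsg.Agent.S3343
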