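import Cfsg.Statements.S3344
import Cfsg.Agent.Lib.S3Extra.Alternating
import Cfsg.Agent.Lib.S3Extra.TypeM12
import Cfsg.Agent.Lib.S3Extra.CaseZero
import Cfsg.Agent.Lib.S3Extra.CaseTwo
import Cfsg.Agent.Lib.S3344Id.Small
-- import your own Cfsg.Agent.* helpers here

set_option autoImplicit false
open Cfsg

namespace Cfsg.Agent.S3344

/-- Let G be a finite group with an involution s, L = C_G(s) and Q = O₂(L). Suppose Q is extraspecial of order 32, L/Q is isomorphic to Sym(3), C_Q(X) = ⟨s⟩ for a Sylow 3-subgroup X of L, and s is not weakly closed in Q with respect to G (some conjugate of s other than s lies in Q). Then either G has an elementary abelian normal subgroup of order 8 with quotient isomorphic to PSL(3,2), or G is isomorphic to the alternating group of degree 8 or 9, or to the Mathieu group M₁₂. -/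
theorem result {G : Type*} [Group G] [Finite G]
    (s : G) (hs : orderOf s = 2) (L : Subgroup G) (hL : L = Subgroup.centralizer ({s} : Set G))
    (Q : Subgroup G) (hQ : Q = (Cfsg.pCore 2 L).map L.subtype)
    (hQex : Cfsg.IsExtraspecial 2 Q) (hQcard : Nat.card Q = 32)
    (e : L ⧸ Cfsg.pCore 2 L ≃* Equiv.Perm (Fin 3))
    (X : Sylow 3 L) (hCQX : Q ⊓ Subgroup.centralizer (((X : Subgroup L).map L.subtype : Subgroup G) : Set G) = Subgroup.zpowers s)
    (hnwc : ∃ g : G, g * s * g⁻¹ ∈ Q ∧ g * s * g⁻¹ ≠ s) :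
    (∃ (N : Subgroup G) (hN : N.Normal), IsMulCommutative N ∧ (∀ n ∈ N, n ^ 2 = 1) ∧ Nat.card N = 8 ∧
        Nonempty (G ⧸ N ≃* Matrix.ProjectiveSpecialLinearGroup (Fin 3) (ZMod 2))) ∨
    Nonempty (G ≃* alternatingGroup (Fin 8)) ∨ Nonempty (G ≃* alternatingGroup (Fin 9)) ∨ Cfsg.Spor.IsoM12 G := by
  classical
  haveI : (Cfsg.pCore 2 L).Normal := inferInstance
  have H := S3Extra.hyp_of s hs L hL Q hQ hQex hQcard e X hCQX
  obtain ⟨g, hg, hgs⟩ := hnwc
  obtain ⟨P, δ, hPs, F, hPQ⟩ := H.exists_frame hg hgs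
  cases δ with
  | true =>
    rcases F.type_m12 with h | h
    · exact Or.inl h
    · exact Or.inr (Or.inr (Or.inr h))
  | false =>
    have C := S3Extra.ctype_of_frame (hPs.symm ▸ H) F hPQ
    have one : ∀ {P : S3Extra.Gens G}, S3Extra.CType Q P → IsConj P.s (P.el 8) → ¬ IsConj P.s (P.el 11) →
        Nonempty (G ≃* alternatingGroup (Fin 8)) ∨ Nonempty (G ≃* alternatingGroup (Fin 9)) :=
      fun C h8 h11 => by
        obtain ⟨P', -, O⟩ := S3Extra.exists_one C h8 h11
        exact O.alternating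
    by_cases h8 : IsConj P.s (P.el 8)
    · by_cases h11 : IsConj P.s (P.el 11)
      · exact (C.case_two h8 h11).elim
      · rcases one C h8 h11 with h | h
        · exact Or.inr (Or.inl h)
        · exact Or.inr (Or.inr (Or.inl h))
    · by_cases h11 : IsConj P.s (P.el 11)
      · obtain ⟨C', hel⟩ := C.change S3Extra.flipB S3Extra.ok_flips.2.1
          (S3Extra.sg_flips.2.1.1.symm ▸ C.fused)
        have hs' : (P.change S3Extra.flipB).s = P.s := S3Extra.el_one P
        obtain ⟨-, e8, e11, -⟩ := S3Extra.sg_flips.2.1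
        rcases one C' (by rwa [hs', hel, e8]) (by rwa [hs', hel, e11]) with h | h
        · exact Or.inr (Or.inl h)
        · exact Or.inr (Or.inr (Or.inl h))
      · obtain ⟨hN, hG⟩ := C.case_zero h8 h11
        refine Or.inl (S3344Id.small_case (S3Extra.E8 P) ⟨⟨fun a b => Subtype.ext (C.E_comm a.2 b.2)⟩⟩
          (fun x hx => by rw [sq]; exact C.E_sq hx) C.card_E hN hG C.cent_E)

end Cfsg.Agent.S3344
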