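import Cfsg.Prelude.Def_Transfer

set_option autoImplicit false

namespace Cfsg.Agent.S3349

open scoped commutatorElement

theorem result {Q : Type*} [Group Q] [Finite Q]
    (p : ℕ) [Fact p.Prime] (hQ : Cfsg.IsExtraspecial p Q) (α : MulAut Q)
    (A : Subgroup Q) (hA : IsMulCommutative A) (hmax : ∀ B : Subgroup Q, A ≤ B → IsMulCommutative B → B = A)
    (hfix : ∀ a ∈ A, α a = a) :
    ∃ k : ℕ, orderOf α = p ^ k := by
  obtain ⟨⟨hp, -, hcomm⟩, -⟩ := hQ
  have hcc : ∀ x : Q, (∀ a ∈ A, x * a = a * x) → x ∈ A := by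
    intro x hx
    have hB : IsMulCommutative (Subgroup.closure ((A : Set Q) ∪ {x})) := by
      apply Subgroup.isMulCommutative_closure
      rintro u (hu | rfl) v (hv | rfl)
      · exact setLike_mul_comm hu hv
      · exact (hx u hu).symm
      · exact hx v hv
      · rfl
    rw [← hmax _ (fun a ha => Subgroup.subset_closure (Set.mem_union_left _ ha)) hB]
    exact Subgroup.subset_closure (Set.mem_union_right _ rfl)
  have hZ : Subgroup.center Q ≤ A := fun z hz => hcc z fun a _ => (Subgroup.mem_center_iff.mp hz a).symm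
  have hn : ∀ x : Q, ∀ a ∈ A, x * a * x⁻¹ ∈ A := by
    intro x a ha
    have h : ⁅x, a⁆ ∈ commutator Q := Subgroup.commutator_mem_commutator (Subgroup.mem_top x) (Subgroup.mem_top a)
    rw [hcomm] at h
    have := A.mul_mem (hZ h) ha
    rwa [commutatorElement_def, mul_assoc, inv_mul_cancel, mul_one] at this
  have hd : ∀ x : Q, x⁻¹ * α x ∈ A := by
    intro x
    refine hcc _ fun a ha => ?_
    have h := hfix _ (hn x a ha)
    rw [map_mul, map_mul, map_inv, hfix a ha] at h
    calc x⁻¹ * α x * a = x⁻¹ * (α x * a * (α x)⁻¹) * α x := by group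
      _ = x⁻¹ * (x * a * x⁻¹) * α x := by rw [h]
      _ = a * (x⁻¹ * α x) := by group
  have hpow : ∀ (k : ℕ) (x : Q), (α ^ k) x = x * (x⁻¹ * α x) ^ k := by
    intro k x
    induction k with
    | zero => simp
    | succ k ih =>
      rw [pow_succ', MulAut.mul_apply, ih, map_mul, map_pow, hfix _ (hd x), pow_succ', ← mul_assoc,
        mul_inv_cancel_left]
  obtain ⟨e, he⟩ := IsPGroup.iff_card.mp (hp.to_subgroup A)
  have hα : α ^ p ^ e = 1 := MulEquiv.ext fun x => by
    rw [hpow, ← he]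
    have h1 : (⟨_, hd x⟩ : A) ^ Nat.card A = 1 := pow_card_eq_one'
    have h2 := congrArg Subtype.val h1
    simp only [Subgroup.coe_pow, Subgroup.coe_one] at h2
    rw [h2, mul_one]
    rfl
  obtain ⟨k, -, hk⟩ := (Nat.dvd_prime_pow Fact.out).mp (orderOf_dvd_of_pow_eq_one hα)
  exact ⟨k, hk⟩

end Cfsg.Agent.S3349
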