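import Cfsg.Statements.S3356
import Cfsg.Agent.Lib.Recog.CharSimple
import Mathlib.GroupTheory.GroupAction.Quotient
import Mathlib.GroupTheory.QuotientGroup.Basic

set_option autoImplicit false
open Cfsg

namespace Cfsg.Agent.S3356

theorem dvd_card_of_orbits {K X : Type*} [Group K] [MulAction K X] [Finite X] {r : ℕ}
    (h : ∀ x : X, Nat.card (MulAction.orbit K x) = r) : r ∣ Nat.card X := by
  classical
  letI := Fintype.ofFinite X
  rw [Nat.card_congr (MulAction.selfEquivSigmaOrbits K X), Nat.card_sigma]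
  exact Finset.dvd_sum fun ω _ => dvd_of_eq (h _).symm

section Conj

variable {G : Type*} [Group G]

/-- Conjugation on an invariant set. -/
@[implicit_reducible]
def conjOn (K : Subgroup G) (B : Set G) (h : ∀ g ∈ K, ∀ x ∈ B, g * x * g⁻¹ ∈ B) :
    MulAction K B where
  smul g x := ⟨g * x * (g : G)⁻¹, h g g.2 x x.2⟩
  one_smul x := Subtype.ext (show (1 : G) * x * (1 : G)⁻¹ = x by simp)
  mul_smul g g' x := Subtype.ext (show ((g : G) * g') * x * ((g : G) * g')⁻¹ =
    g * ((g' : G) * x * (g' : G)⁻¹) * (g : G)⁻¹ by group)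

theorem orbit_card_conj [Finite G] (K : Subgroup G) (B : Set G)
    (h : ∀ g ∈ K, ∀ x ∈ B, g * x * g⁻¹ ∈ B) (x : B) :
    letI := conjOn K B h
    Nat.card (MulAction.orbit K x) *
      Nat.card (K ⊓ Subgroup.centralizer {(x : G)} : Subgroup G) = Nat.card K := by
  letI := conjOn K B h
  rw [Nat.card_coe_set_eq, ← MulAction.index_stabilizer,
    show Nat.card (K ⊓ Subgroup.centralizer {(x : G)} : Subgroup G) =
      Nat.card (MulAction.stabilizer K x) from Nat.card_congr
      ⟨fun g => ⟨⟨g.1, g.2.1⟩, Subtype.ext (mul_inv_eq_iff_eq_mul.mpr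
          (Subgroup.mem_centralizer_singleton_iff.mp g.2.2))⟩,
        fun g => ⟨g.1.1, g.1.2, Subgroup.mem_centralizer_singleton_iff.mpr
          (mul_inv_eq_iff_eq_mul.mp (congrArg Subtype.val g.2))⟩, fun _ => rfl, fun _ => rfl⟩,
    Subgroup.index_mul_card]

variable [Finite G] (H N : Subgroup G) (k : ℕ)

/-- The setwise stabiliser of a block inside `H`. -/
def blockStab (B : Set G) : Subgroup G where
  carrier := {g | g ∈ H ∧ ∀ y, y ∈ B ↔ g * y * g⁻¹ ∈ B}
  one_mem' := ⟨one_mem _, fun y => by simp⟩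
  mul_mem' := fun {a b} ha hb => ⟨mul_mem ha.1 hb.1, fun y => by
    rw [hb.2 y, ha.2, mul_inv_rev]; simp only [mul_assoc]⟩
  inv_mem' := fun {a} ha => ⟨inv_mem ha.1, fun y => by
    rw [ha.2 (a⁻¹ * y * a⁻¹⁻¹)]; simp [mul_assoc]⟩

theorem block_fix
    (hcard : ∀ x ∈ N, x ≠ 1 → Nat.card (H ⊓ Subgroup.centralizer {x} : Subgroup G) * k = Nat.card H)
    (hk : Nat.Coprime k (Nat.card N)) (B : Set G) (hBN : ∀ x ∈ B, x ∈ N ∧ x ≠ 1)
    (hblock : ∀ h ∈ H, ∀ x ∈ B, h * x * h⁻¹ ∈ B → ∀ y ∈ B, h * y * h⁻¹ ∈ B)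
    (hd : Nat.card B ∣ Nat.card N) {x : G} (hx : x ∈ B) {c : G} (hcH : c ∈ H) (hc : c * x = x * c)
    {y : G} (hy : y ∈ B) : c * y = y * c := by
  set K := blockStab H B with hK
  have hKB : ∀ g ∈ K, ∀ z ∈ B, g * z * g⁻¹ ∈ B := fun g hg z hz => (hg.2 z).mp hz
  have hCK : ∀ z ∈ B, H ⊓ Subgroup.centralizer {z} ≤ K := by
    intro z hz g hg
    have e : g * z = z * g := Subgroup.mem_centralizer_singleton_iff.mp hg.2
    have e1 : g * z * g⁻¹ ∈ B := by rwa [e, mul_inv_cancel_right]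
    have e2 : g⁻¹ * z * g⁻¹⁻¹ ∈ B := by
      rw [inv_inv, mul_assoc, ← e, ← mul_assoc, inv_mul_cancel, one_mul]; exact hz
    refine ⟨hg.1, fun w => ⟨hblock g hg.1 z hz e1 w, fun hw => ?_⟩⟩
    have := hblock g⁻¹ (inv_mem hg.1) z hz e2 _ hw
    simpa [mul_assoc] using this
  have hCC : ∀ z ∈ B, K ⊓ Subgroup.centralizer {z} = H ⊓ Subgroup.centralizer {z} := fun z hz =>
    le_antisymm (inf_le_inf_right _ fun g hg => hg.1) (le_inf (hCK z hz) inf_le_right)
  letI := conjOn K B hKB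
  have horb : ∀ z : B, Nat.card (MulAction.orbit K z) *
      Nat.card (H ⊓ Subgroup.centralizer {(z : G)} : Subgroup G) = Nat.card K := fun z => by
    rw [← hCC z z.2]; exact orbit_card_conj K B hKB z
  set r := Nat.card (MulAction.orbit K (⟨x, hx⟩ : B)) with hr
  have hk0 : 0 < k := Nat.pos_of_ne_zero fun h => by
    have := hcard x (hBN x hx).1 (hBN x hx).2
    rw [h, mul_zero] at this
    exact Nat.card_pos.ne this
  have hm : ∀ z : B, Nat.card (H ⊓ Subgroup.centralizer {(z : G)} : Subgroup G) =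
      Nat.card (H ⊓ Subgroup.centralizer {x} : Subgroup G) := fun z =>
    Nat.eq_of_mul_eq_mul_right hk0
      ((hcard z (hBN z z.2).1 (hBN z z.2).2).trans (hcard x (hBN x hx).1 (hBN x hx).2).symm)
  have hr_eq : ∀ z : B, Nat.card (MulAction.orbit K z) = r := fun z => by
    refine Nat.eq_of_mul_eq_mul_right (Nat.card_pos (α := (H ⊓ Subgroup.centralizer {x} : Subgroup G))) ?_
    rw [hr]
    conv_lhs => rw [← hm z]
    rw [horb z, horb ⟨x, hx⟩]
  have hrk : r ∣ k := by
    have h1 : Nat.card K ∣ Nat.card H := Subgroup.card_dvd_of_le fun g hg => hg.1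
    rw [← horb ⟨x, hx⟩, ← hcard x (hBN x hx).1 (hBN x hx).2, mul_comm _ k] at h1
    exact Nat.dvd_of_mul_dvd_mul_right Nat.card_pos h1
  have hr1 : r = 1 := Nat.eq_one_of_dvd_coprimes hk hrk ((dvd_card_of_orbits hr_eq).trans hd)
  have h1 : Nat.card (MulAction.orbit K (⟨y, hy⟩ : B)) = 1 := (hr_eq _).trans hr1
  have hKc : c ∈ K := hCK x hx ⟨hcH, Subgroup.mem_centralizer_singleton_iff.mpr hc⟩
  have hsub := (Nat.card_eq_one_iff_unique.mp h1).1
  have := congrArg (fun z : MulAction.orbit K (⟨y, hy⟩ : B) => ((z : B) : G))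
    (hsub.elim ⟨_, MulAction.mem_orbit _ (⟨c, hKc⟩ : K)⟩ ⟨_, MulAction.mem_orbit_self _⟩)
  exact mul_inv_eq_iff_eq_mul.mp this

end Conj

theorem normalClosure_diag {T : Type*} [Group T] [IsSimpleGroup T] (hT : ¬ IsMulCommutative T)
    {m : ℕ} {t : T} (ht : t ≠ 1) (W : Subgroup (Fin m → T)) [W.Normal] (hW : (fun _ => t) ∈ W) :
    W = ⊤ := by
  classical
  have hz : Subgroup.center T = ⊥ := by
    refine (Subgroup.Normal.eq_bot_or_eq_top inferInstance).resolve_right fun h => hT ?_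
    exact ⟨⟨fun a b => Subgroup.mem_center_iff.mp (h ▸ Subgroup.mem_top b) a⟩⟩
  obtain ⟨s, hs⟩ : ∃ s, t * s ≠ s * t := by
    by_contra hcon
    push Not at hcon
    exact ht (Subgroup.mem_bot.mp (hz ▸ Subgroup.mem_center_iff.mpr fun s => (hcon s).symm))
  have hi : ∀ i, W.comap (MonoidHom.mulSingle (fun _ : Fin m => T) i) = ⊤ := by
    intro i
    haveI : (W.comap (MonoidHom.mulSingle (fun _ : Fin m => T) i)).Normal := Subgroup.normal_comap _
    refine (Subgroup.Normal.eq_bot_or_eq_top inferInstance).resolve_left fun h => ?_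
    have hmem : t * s * t⁻¹ * s⁻¹ ∈ W.comap (MonoidHom.mulSingle (fun _ : Fin m => T) i) := by
      show Pi.mulSingle i (t * s * t⁻¹ * s⁻¹) ∈ W
      have e : (fun _ : Fin m => t) * (Pi.mulSingle i s * (fun _ : Fin m => t)⁻¹ * (Pi.mulSingle i s)⁻¹) =
          Pi.mulSingle i (t * s * t⁻¹ * s⁻¹) := by
        funext j
        rcases eq_or_ne j i with rfl | hj
        · simp [mul_assoc]
        · simp [Pi.mulSingle_eq_of_ne hj]
      rw [← e]
      exact mul_mem hW (Subgroup.Normal.conj_mem inferInstance _ (inv_mem hW) _)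
    rw [h, Subgroup.mem_bot] at hmem
    exact hs (by rwa [mul_inv_eq_one, mul_inv_eq_iff_eq_mul] at hmem)
  rw [eq_top_iff]
  intro f _
  exact Subgroup.pi_mem_of_mulSingle_mem f fun i => by
    have h := Subgroup.mem_top (f i)
    rw [← hi i] at h
    exact h

/-- Let G be a finite 3/2-transitive permutation group: G acts faithfully and transitively on a finite set, the point stabilizers are non-trivial, and for each point a all orbits of G_a on the remaining points have the same size. Suppose G has a regular normal subgroup N and G is not a Frobenius group (some two-point stabilizer is non-trivial). Then N is an elementary abelian p-group for some prime p, and every non-trivial normal subgroup of G contains N (so N is the unique minimal normal subgroup). -/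
theorem result {G Ω : Type*} [Group G] [Finite G]
    [MulAction G Ω] [FaithfulSMul G Ω] [Finite Ω] (htrans : MulAction.IsPretransitive G Ω)
    (hne : ∀ a : Ω, MulAction.stabilizer G a ≠ ⊥)
    (hhalf : ∀ a b c : Ω, b ≠ a → c ≠ a →
      Nat.card (MulAction.orbit (MulAction.stabilizer G a) b) = Nat.card (MulAction.orbit (MulAction.stabilizer G a) c))
    (N : Subgroup G) [hN : N.Normal] (hNt : MulAction.IsPretransitive N Ω) (hNr : ∀ a : Ω, MulAction.stabilizer N a = ⊥)
    (hnotF : ∃ a b : Ω, a ≠ b ∧ MulAction.stabilizer G a ⊓ MulAction.stabilizer G b ≠ ⊥) :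
    (∃ p : ℕ, p.Prime ∧ IsMulCommutative N ∧ ∀ x ∈ N, x ^ p = 1) ∧
    (∀ M : Subgroup G, M.Normal → M ≠ ⊥ → N ≤ M) := by
  obtain ⟨a, b₀, hab, hfix⟩ := hnotF
  haveI := htrans
  haveI := hNt
  set H := MulAction.stabilizer G a with hH
  have hreg : ∀ n ∈ N, n • a = a → n = 1 := by
    intro n hn h
    have : (⟨n, hn⟩ : N) ∈ MulAction.stabilizer N a := h
    rw [hNr a, Subgroup.mem_bot] at this
    exact congrArg Subtype.val this
  have hpt : ∀ b : Ω, ∃ n ∈ N, n • a = b := fun b =>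
    let ⟨n, hn⟩ := MulAction.exists_smul_eq N a b
    ⟨n, n.2, hn⟩
  have hHN : ∀ h ∈ H, ∀ n ∈ N, h • n • a = (h * n * h⁻¹) • a := by
    intro h hh n _
    have : h⁻¹ • a = a := inv_smul_eq_iff.mpr (MulAction.mem_stabilizer_iff.mp hh).symm
    rw [mul_smul, mul_smul, this]
  have hstab : ∀ n ∈ N, ∀ h ∈ H, (h • n • a = n • a ↔ h * n = n * h) := by
    intro n hn h hh
    rw [hHN h hh n hn]
    constructor
    · intro e
      have h1 : n⁻¹ * (h * n * h⁻¹) = 1 := hreg _ (mul_mem (inv_mem hn) (hN.conj_mem n hn h))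
        (by rw [mul_smul, e, inv_smul_smul])
      rw [inv_mul_eq_one] at h1
      exact mul_inv_eq_iff_eq_mul.mp h1.symm
    · intro e
      rw [e, mul_inv_cancel_right]
  have hfaith : ∀ c ∈ H, (∀ n ∈ N, c * n = n * c) → c = 1 := by
    intro c hc hcen
    refine FaithfulSMul.eq_of_smul_eq_smul fun ω : Ω => ?_
    obtain ⟨n, hn, rfl⟩ := hpt ω
    rw [one_smul]
    exact (hstab n hn c hc).mpr (hcen n hn)
  set k := Nat.card (MulAction.orbit H b₀) with hk
  have hcard : ∀ x ∈ N, x ≠ 1 →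
      Nat.card (H ⊓ Subgroup.centralizer {x} : Subgroup G) * k = Nat.card H := by
    intro x hx hx1
    have hne : x • a ≠ a := fun h => hx1 (hreg x hx h)
    rw [hk, hhalf a b₀ (x • a) (Ne.symm hab) hne, Nat.card_coe_set_eq,
      ← MulAction.index_stabilizer H (x • a),
      show Nat.card (H ⊓ Subgroup.centralizer {x} : Subgroup G) =
        Nat.card (MulAction.stabilizer H (x • a)) from Nat.card_congr
        ⟨fun g => ⟨⟨g.1, g.2.1⟩, (hstab x hx g.1 g.2.1).mpr
            (Subgroup.mem_centralizer_singleton_iff.mp g.2.2)⟩,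
          fun g => ⟨g.1.1, g.1.2, Subgroup.mem_centralizer_singleton_iff.mpr
            ((hstab x hx g.1.1 g.1.2).mp g.2)⟩, fun _ => rfl, fun _ => rfl⟩,
      Subgroup.card_mul_index]
  -- the orbit size is prime to the order of `N`
  have hkN : Nat.Coprime k (Nat.card N) := by
    classical
    let B : Set G := (N : Set G) \ {1}
    have hB : ∀ g ∈ H, ∀ x ∈ B, g * x * g⁻¹ ∈ B := fun g _ x hx =>
      ⟨hN.conj_mem x hx.1 g, fun h => hx.2 (conj_eq_one_iff.mp h)⟩
    letI := conjOn H B hB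
    have h1 : k ∣ Nat.card B := dvd_card_of_orbits (K := H) fun z =>
      Nat.eq_of_mul_eq_mul_right Nat.card_pos
        ((orbit_card_conj H B hB z).trans ((mul_comm _ _).trans (hcard z z.2.1 z.2.2)).symm)
    have h2 : Nat.card B + 1 = Nat.card N := by
      have hn1 : (1 : G) ∈ (N : Set G) := one_mem N
      rw [Nat.card_coe_set_eq, Set.ncard_diff_singleton_add_one hn1, ← Nat.card_coe_set_eq]
      rfl
    obtain ⟨j, hj⟩ := h1
    refine Nat.Coprime.symm (Nat.coprime_of_dvd' fun p hp hpN hpk => ?_)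
    have hpB : p ∣ Nat.card B := hj ▸ hpk.mul_right j
    exact (Nat.dvd_add_right hpB).mp (h2 ▸ hpN)
  -- some point stabiliser in `H` is nontrivial
  obtain ⟨n₀, hn₀, rfl⟩ := hpt b₀
  have hn₀1 : n₀ ≠ 1 := fun h => hab (by rw [h, one_smul])
  obtain ⟨c₀, hc₀, hc₀1⟩ := (Subgroup.bot_or_exists_ne_one _).resolve_left hfix
  have hnt : Nat.card H ≠ k := by
    intro h
    have h1 := hcard n₀ hn₀ hn₀1
    rw [h] at h1
    have hk0 : 0 < k := h ▸ Nat.card_pos
    have hb := Subgroup.card_eq_one.mp ((mul_eq_right₀ hk0.ne').mp h1)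
    refine hc₀1 (Subgroup.mem_bot.mp (hb ▸ ⟨hc₀.1, Subgroup.mem_centralizer_singleton_iff.mpr ?_⟩))
    exact (hstab n₀ hn₀ c₀ hc₀.1).mp hc₀.2
  have htriv : ∀ x ∈ N, x ≠ 1 → ¬ (∀ c ∈ H, c * x = x * c → ∀ y ∈ N, c * y = y * c) := by
    intro x hx hx1 hall
    have hb : H ⊓ Subgroup.centralizer {x} = ⊥ := by
      rw [eq_bot_iff]
      exact fun c hc => Subgroup.mem_bot.mpr
        (hfaith c hc.1 (hall c hc.1 (Subgroup.mem_centralizer_singleton_iff.mp hc.2)))
    have h1 := hcard x hx hx1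
    rw [hb, Subgroup.card_bot, one_mul] at h1
    exact hnt h1.symm
  -- no proper invariant subgroup
  have hirr : ∀ U : Subgroup G, U ≤ N → (∀ h ∈ H, ∀ u ∈ U, h * u * h⁻¹ ∈ U) → U = ⊥ ∨ U = N := by
    intro U hUN hUH
    by_contra hcon
    push Not at hcon
    obtain ⟨v, hv, hvU⟩ := SetLike.exists_of_lt (lt_of_le_of_ne hUN hcon.2)
    obtain ⟨u₀, hu₀, hu₀1⟩ := (Subgroup.bot_or_exists_ne_one U).resolve_left hcon.1
    have key : ∀ w ∈ N, w ∉ U → ∀ c ∈ H, c * w = w * c → ∀ u ∈ U, c * u = u * c := by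
      intro w hw hwU c hc hcw u hu
      let B : Set G := {z | z * w⁻¹ ∈ U}
      have hBN : ∀ z ∈ B, z ∈ N ∧ z ≠ 1 := fun z hz =>
        ⟨by simpa using mul_mem (hUN hz) hw,
          fun h => hwU (by simpa [B, h] using (show z * w⁻¹ ∈ U from hz))⟩
      have hd : Nat.card B ∣ Nat.card N := by
        have : Nat.card B = Nat.card U := Nat.card_congr
          ⟨fun z => ⟨z.1 * w⁻¹, z.2⟩, fun u => ⟨u.1 * w, by simp [B]⟩,
            fun z => by simp, fun u => by simp⟩
        rw [this]; exact Subgroup.card_dvd_of_le hUN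
      have hblock : ∀ h ∈ H, ∀ z ∈ B, h * z * h⁻¹ ∈ B → ∀ y ∈ B, h * y * h⁻¹ ∈ B := by
        intro h hh z hz hz' y hy
        have h1 : h * (z * w⁻¹) * h⁻¹ ∈ U := hUH h hh _ hz
        have h2 : h * (y * w⁻¹) * h⁻¹ ∈ U := hUH h hh _ hy
        have h3 : h * z * h⁻¹ * w⁻¹ ∈ U := hz'
        have h4 := mul_mem h2 (mul_mem (inv_mem h1) h3)
        show h * y * h⁻¹ * w⁻¹ ∈ U
        convert h4 using 1
        group
      have h1 := block_fix H N k hcard hkN B hBN hblock hd (x := w) (by simp [B]) hc hcw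
        (y := u * w) (show u * w * w⁻¹ ∈ U by simpa using hu)
      rw [← mul_assoc, mul_assoc u, ← hcw, ← mul_assoc] at h1
      exact mul_right_cancel h1
    refine htriv v hv (fun h => hvU (h ▸ one_mem U)) fun c hc hcv y hy => ?_
    by_cases hyU : y ∈ U
    · exact key v hv hvU c hc hcv y hyU
    · have hk0 : 0 < k := Nat.pos_of_ne_zero fun h => by
        have := hcard v hv (fun h => hvU (h ▸ one_mem U))
        rw [h, mul_zero] at this
        exact Nat.card_pos.ne this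
      have e1 : ∀ w ∈ N, w ∉ U →
          H ⊓ Subgroup.centralizer {w} = H ⊓ Subgroup.centralizer {u₀} := by
        intro w hw hwU
        refine Subgroup.eq_of_le_of_card_ge (fun g hg => ⟨hg.1, Subgroup.mem_centralizer_singleton_iff.mpr
          (key w hw hwU g hg.1 (Subgroup.mem_centralizer_singleton_iff.mp hg.2) u₀ hu₀)⟩) (le_of_eq ?_)
        exact Nat.eq_of_mul_eq_mul_right hk0 ((hcard u₀ (hUN hu₀) hu₀1).trans
          (hcard w hw (fun h => hwU (h ▸ one_mem U))).symm)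
      have hm : c ∈ H ⊓ Subgroup.centralizer {y} := by
        rw [e1 y hy hyU, ← e1 v hv hvU]
        exact ⟨hc, Subgroup.mem_centralizer_singleton_iff.mpr hcv⟩
      exact Subgroup.mem_centralizer_singleton_iff.mp hm.2
  have hNbot : N ≠ ⊥ := fun h => hn₀1 (Subgroup.mem_bot.mp (h ▸ hn₀))
  have hmin : ∀ M : Subgroup G, M.Normal → M ≤ N → M = ⊥ ∨ M = N := fun M hM hMN =>
    hirr M hMN fun g _ u hu => hM.conj_mem u hu g
  -- `N` is abelian
  have hcomm : IsMulCommutative N := by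
    by_contra hna
    obtain ⟨T, _, m, hT, hm, ⟨e⟩⟩ := CharSimple.minimalNormal_iso_pi N hNbot hmin
    haveI := hT
    have hTna : ¬ IsMulCommutative T := fun h => hna ⟨⟨fun p q => e.injective (by
      rw [map_mul, map_mul]; funext i; exact h.1.1 _ _)⟩⟩
    obtain ⟨t, ht⟩ := exists_ne (1 : T)
    set x : N := e.symm fun _ => t with hx
    have hx1 : (x : G) ≠ 1 := fun h => by
      have : e x = 1 := by rw [show x = 1 from Subtype.ext h, map_one]
      rw [hx, e.apply_symm_apply] at this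
      exact ht (congrFun this ⟨0, hm⟩)
    refine htriv x x.2 hx1 fun c hc hcx y hy => ?_
    let B : Set G := {z | ∃ n ∈ N, n * x * n⁻¹ = z}
    have hBN : ∀ z ∈ B, z ∈ N ∧ z ≠ 1 := by
      rintro z ⟨n, hn, rfl⟩
      exact ⟨mul_mem (mul_mem hn x.2) (inv_mem hn), fun h => hx1 (conj_eq_one_iff.mp h)⟩
    have hblock : ∀ h ∈ H, ∀ z ∈ B, h * z * h⁻¹ ∈ B → ∀ y ∈ B, h * y * h⁻¹ ∈ B := by
      rintro h _ _ ⟨n, hn, rfl⟩ ⟨n', hn', e'⟩ _ ⟨n'', hn'', rfl⟩
      refine ⟨(h * n'' * h⁻¹) * (h * n * h⁻¹)⁻¹ * n', mul_mem (mul_mem (hN.conj_mem n'' hn'' h)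
        (inv_mem (hN.conj_mem n hn h))) hn', ?_⟩
      calc (h * n'' * h⁻¹) * (h * n * h⁻¹)⁻¹ * n' * (x : G) *
            ((h * n'' * h⁻¹) * (h * n * h⁻¹)⁻¹ * n')⁻¹
          = (h * n'' * h⁻¹) * (h * n * h⁻¹)⁻¹ * (n' * (x : G) * n'⁻¹) *
            ((h * n'' * h⁻¹) * (h * n * h⁻¹)⁻¹)⁻¹ := by group
        _ = _ := by rw [e']; group
    have hd : Nat.card B ∣ Nat.card N := by
      have hNinv : ∀ g ∈ N, ∀ z ∈ (Set.univ : Set G), g * z * g⁻¹ ∈ Set.univ := fun _ _ _ _ => trivial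
      letI := conjOn N Set.univ hNinv
      refine ⟨Nat.card (N ⊓ Subgroup.centralizer {(x : G)} : Subgroup G), ?_⟩
      rw [← orbit_card_conj N Set.univ hNinv ⟨x, trivial⟩]
      congr 1
      exact Nat.card_congr
        ⟨fun z => ⟨⟨z.1, trivial⟩, by
            obtain ⟨n, hn, hz⟩ := z.2
            exact ⟨⟨n, hn⟩, Subtype.ext hz⟩⟩,
          fun z => ⟨z.1.1, by
            obtain ⟨n, hn⟩ := z.2
            exact ⟨n, n.2, congrArg Subtype.val hn⟩⟩, fun _ => rfl, fun _ => rfl⟩ |>.symm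
    let W := Subgroup.normalClosure {fun _ : Fin m => t}
    have hW : W = ⊤ := normalClosure_diag hTna ht W (Subgroup.subset_normalClosure rfl)
    have hle : W ≤ (Subgroup.centralizer {c}).comap (N.subtype.comp e.symm.toMonoidHom) := by
      show Subgroup.closure _ ≤ _
      rw [Subgroup.closure_le]
      intro g hg
      obtain ⟨_, ha, hconj⟩ := Group.mem_conjugatesOfSet_iff.mp hg
      rw [Set.mem_singleton_iff] at ha
      subst ha
      obtain ⟨w, rfl⟩ := isConj_iff.mp hconj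
      refine Subgroup.mem_centralizer_singleton_iff.mpr ?_
      have hz : (e.symm (w * (fun _ => t) * w⁻¹) : G) = (e.symm w : G) * x * (e.symm w : G)⁻¹ := by
        rw [map_mul, map_mul, map_inv, ← hx]; simp
      show (e.symm (w * (fun _ => t) * w⁻¹) : G) * c = c * (e.symm (w * (fun _ => t) * w⁻¹) : G)
      rw [hz]
      exact (block_fix H N k hcard hkN B hBN hblock hd (x := (x : G)) ⟨1, one_mem _, by simp⟩ hc hcx
        (y := (e.symm w : G) * x * (e.symm w : G)⁻¹) ⟨_, (e.symm w).2, rfl⟩).symm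
    have := hle (hW ▸ Subgroup.mem_top (e ⟨y, hy⟩))
    simpa using (Subgroup.mem_centralizer_singleton_iff.mp this).symm
  -- exponent
  obtain ⟨q, hq, hqd⟩ := Nat.exists_prime_and_dvd (n := Nat.card N)
    (fun h => hNbot (Subgroup.card_eq_one.mp h))
  haveI := Fact.mk hq
  refine ⟨⟨q, hq, hcomm, ?_⟩, ?_⟩
  · obtain ⟨u, hu⟩ := exists_prime_orderOf_dvd_card' (G := N) q hqd
    let U : Subgroup G :=
      { carrier := {z | z ∈ N ∧ z ^ q = 1}
        one_mem' := ⟨one_mem _, one_pow _⟩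
        mul_mem' := fun {z w} hz hw => ⟨mul_mem hz.1 hw.1, by
          rw [(show Commute z w from congrArg Subtype.val (hcomm.1.1 (⟨z, hz.1⟩ : N) ⟨w, hw.1⟩)).mul_pow,
            hz.2, hw.2, one_mul]⟩
        inv_mem' := fun {z} hz => ⟨inv_mem hz.1, by rw [inv_pow, hz.2, inv_one]⟩ }
    have hU := hirr U (fun z hz => hz.1) fun h _ z hz =>
      ⟨hN.conj_mem z hz.1 h, by rw [conj_pow, hz.2, mul_one, mul_inv_cancel]⟩
    rcases hU with hU | hU
    · exfalso
      have hmem : (u : G) ∈ U := ⟨u.2, by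
        have h := pow_orderOf_eq_one u
        rw [hu] at h
        exact congrArg Subtype.val h⟩
      rw [hU, Subgroup.mem_bot] at hmem
      rw [show u = 1 from Subtype.ext hmem, orderOf_one] at hu
      exact hq.ne_one hu.symm
    · intro z hz
      exact (hU ▸ hz : z ∈ U).2
  · intro M hM hMne
    rcases hmin (M ⊓ N) inferInstance inf_le_right with h | h
    · refine absurd ?_ hMne
      rw [eq_bot_iff]
      intro g hg
      have hcen : ∀ n ∈ N, g * n = n * g := by
        intro n hn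
        have h1 : g * n * g⁻¹ * n⁻¹ ∈ M ⊓ N :=
          ⟨by simpa [mul_assoc] using mul_mem hg (hM.conj_mem _ (inv_mem hg) n),
            N.mul_mem (hN.conj_mem n hn g) (N.inv_mem hn)⟩
        rw [h, Subgroup.mem_bot, mul_inv_eq_one, mul_inv_eq_iff_eq_mul] at h1
        exact h1
      obtain ⟨n, hn, hna⟩ := hpt (g • a)
      have hc : n⁻¹ * g = 1 := hfaith _ (by
          show (n⁻¹ * g) • a = a
          rw [mul_smul, ← hna, inv_smul_smul]) fun y hy => by
        have hyn : n * y = y * n := congrArg Subtype.val (hcomm.1.1 (⟨n, hn⟩ : N) ⟨y, hy⟩)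
        rw [mul_assoc, hcen y hy, ← mul_assoc, ← mul_assoc]
        congr 1
        rw [inv_mul_eq_iff_eq_mul, ← mul_assoc, hyn, mul_inv_cancel_right]
      rw [← h]
      exact ⟨hg, by rw [inv_mul_eq_one] at hc; exact hc ▸ hn⟩
    · exact h ▸ inf_le_left

end Cfsg.Agent.S3356
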