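import Cfsg.Statements.S4292
import Cfsg.Agent.Lib.FiniteGroup.FpfLift
import Cfsg.Agent.Lib.FiniteGroup.FrobComplement
import Cfsg.Agent.Lib.FGStruct.FrobeniusData

set_option autoImplicit false
open Cfsg

namespace Cfsg.Agent.S4292

open Cfsg.Agent.FpfLift Cfsg.Agent.FrobCompl

/-- Subgroups of Frobenius complements are good. -/
theorem good_of_complement {A : Type*} [Group A] [Finite A] {L : Type} [Group L] [Finite L] {C : Subgroup L}
    (hC : IsFrobeniusComplement C) (ι : A →* C) (hι : Function.Injective ι) : Good A := by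
  obtain ⟨K, hK⟩ := Cfsg.Agent.FrobData.exists_data hC
  haveI := hK.normal
  haveI : Group.IsNilpotent K := hK.isNilpotent
  haveI : Nontrivial K := (Subgroup.nontrivial_iff_ne_bot K).2 hK.kne
  have hnt : 1 < Nat.card (Subgroup.center K) :=
    (Subgroup.one_lt_card_iff_ne_bot _).2 (Group.IsNilpotent.center_ne_bot ↥K)
  obtain ⟨q, hq, hqd⟩ := Nat.exists_prime_and_dvd hnt.ne'
  haveI := Fact.mk hq
  have hqA : ¬ q ∣ Nat.card A := fun hd => by
    have h1 : q ∣ Nat.card K := hqd.trans (Subgroup.card_subgroup_dvd_card _)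
    have h2 : q ∣ Nat.card C := hd.trans (Subgroup.card_dvd_of_injective ι hι)
    exact hq.one_lt.ne' (Nat.eq_one_of_dvd_coprimes hK.coprime h1 h2)
  let W : Subgroup (Subgroup.center K) :=
    { carrier := {z | z ^ q = 1}
      one_mem' := one_pow q
      mul_mem' := fun {a b} (ha : a ^ q = 1) (hb : b ^ q = 1) => show (a * b) ^ q = 1 by
        have hc : Commute a b := Subtype.ext (Subgroup.mem_center_iff.1 b.2 a)
        rw [hc.mul_pow, ha, hb, one_mul]
      inv_mem' := fun {a} (ha : a ^ q = 1) => show a⁻¹ ^ q = 1 by rw [inv_pow, ha, inv_one] }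
  have hWnt : Nontrivial W := by
    obtain ⟨z, hz⟩ := exists_prime_orderOf_dvd_card' q hqd
    refine ⟨⟨z, ?_⟩, 1, fun h => ?_⟩
    · show z ^ q = 1
      rw [← hz, pow_orderOf_eq_one]
    · rw [show z = 1 from congrArg Subtype.val h, orderOf_one] at hz
      exact hq.one_lt.ne hz
  let c : A →* MulAut K := MulAut.conjNormal.comp (C.subtype.comp ι)
  have hmem : ∀ (a : A) (k : K), k ∈ Subgroup.center K → c a k ∈ Subgroup.center K := fun a k hk => by
    rw [Subgroup.mem_center_iff] at hk ⊢
    intro g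
    obtain ⟨g', rfl⟩ := (c a).surjective g
    rw [← map_mul, ← map_mul, hk g']
  let f : A → (W →* W) := fun a =>
    { toFun := fun w => ⟨⟨c a w.1.1, hmem a _ w.1.2⟩, by
        show (⟨c a w.1.1, hmem a _ w.1.2⟩ : Subgroup.center K) ^ q = 1
        apply Subtype.ext
        show (c a w.1.1) ^ q = 1
        rw [← map_pow, show (w.1.1 : K) ^ q = 1 from congrArg Subtype.val w.2, map_one]⟩
      map_one' := Subtype.ext (Subtype.ext (map_one (c a)))
      map_mul' := fun x y => Subtype.ext (Subtype.ext (map_mul (c a) _ _)) }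
  letI : CommGroup W :=
    { (inferInstance : Group W) with mul_comm := fun a b => Subtype.ext (Subtype.ext (Subgroup.mem_center_iff.1 b.1.2 a.1.1)) }
  let ρ : A →* AddMonoid.End (Additive W) :=
    { toFun := fun a => MonoidHom.toAdditive (f a)
      map_one' := AddMonoidHom.ext fun w => Subtype.ext (Subtype.ext (by
        show c 1 _ = _
        rw [map_one]; rfl))
      map_mul' := fun a b => AddMonoidHom.ext fun w => Subtype.ext (Subtype.ext (by
        show c (a * b) _ = _
        rw [map_mul]; rfl)) }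
  refine good_of_fpf hq hqA (V := Additive W) (fun v => ?_) ρ ?_
  · apply Additive.toMul.injective
    rw [toMul_nsmul, toMul_zero]
    exact Subtype.ext (Additive.toMul v).2
  · intro a ha v hv
    apply Additive.toMul.injective
    rw [toMul_zero]
    set w := Additive.toMul v
    have hfix : c a w.1.1 = w.1.1 := congrArg (fun t : W => t.1.1) (congrArg Additive.toMul hv)
    have h1 : ((ι a : C) : L) * (w.1.1 : L) = (w.1.1 : L) * ((ι a : C) : L) := by
      have h2 : ((ι a : C) : L) * (w.1.1 : L) * ((ι a : C) : L)⁻¹ = w.1.1 := congrArg Subtype.val hfix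
      exact mul_inv_eq_iff_eq_mul.1 h2
    have := hK.fpf (ι a).2 (fun he => ha ((injective_iff_map_eq_one ι).1 hι a (Subtype.ext he))) w.1.1.2 h1
    exact Subtype.ext (Subtype.ext (Subtype.ext this))

/-- Good groups are Frobenius complements. -/
theorem complement_of_good {A : Type*} [Group A] [Finite A] [Nontrivial A] (hA : Good A) :
    ∃ (L : Type) (_ : Group L) (_ : Finite L) (H : Subgroup L),
      IsFrobeniusComplement H ∧ Nonempty (A ≃* H) := by
  obtain ⟨q, hqb, hq⟩ := Nat.exists_infinite_primes (Nat.card A + 1)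
  obtain ⟨M, _, hMf, hMn, -, ρ, hρ⟩ := exists_fpf_of_good hA hq
    (fun hd => absurd (Nat.le_of_dvd Nat.card_pos hd) (by omega))
  obtain ⟨L, i1, i2, C, hC, he, -⟩ := exists_frobenius_small M ρ hρ
  exact ⟨L, i1, i2, C, hC, he⟩

/-- Direct products as Frobenius complements. -/
theorem result {A B : Type*} [Group A] [Finite A] [Nontrivial A] [Group B] [Finite B] [Nontrivial B] :
    (∃ (L : Type) (_ : Group L) (_ : Finite L) (H : Subgroup L), Cfsg.IsFrobeniusComplement H ∧ Nonempty ((A × B) ≃* H)) ↔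
    ((∃ (L : Type) (_ : Group L) (_ : Finite L) (H : Subgroup L), Cfsg.IsFrobeniusComplement H ∧ Nonempty (A ≃* H)) ∧
     (∃ (L : Type) (_ : Group L) (_ : Finite L) (H : Subgroup L), Cfsg.IsFrobeniusComplement H ∧ Nonempty (B ≃* H)) ∧
     (Nat.card A).Coprime (Nat.card B)) := by
  constructor
  · rintro ⟨L, _, _, C, hC, ⟨e⟩⟩
    refine ⟨complement_of_good (good_of_complement hC (e.toMonoidHom.comp (MonoidHom.inl A B)) ?_),
      complement_of_good (good_of_complement hC (e.toMonoidHom.comp (MonoidHom.inr A B)) ?_), ?_⟩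
    · exact fun x y h => congrArg Prod.fst (e.injective h)
    · exact fun x y h => congrArg Prod.snd (e.injective h)
    · obtain ⟨K, hK⟩ := Cfsg.Agent.FrobData.exists_data hC
      refine Nat.coprime_of_dvd fun r hr hrA hrB => ?_
      haveI := Fact.mk hr
      obtain ⟨a, ha⟩ := exists_prime_orderOf_dvd_card' r hrA
      obtain ⟨b, hb⟩ := exists_prime_orderOf_dvd_card' r hrB
      have h := Cfsg.Agent.AbCyc.mem_zpowers_of_commute hK.abCyclic (a := e (a, 1)) (b := e (1, b))
        (by show _ = _; rw [← map_mul, ← map_mul]; simp) hr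
        (by rw [e.orderOf_eq, Prod.orderOf_mk, ha, orderOf_one, Nat.lcm_one_right])
        (by rw [e.orderOf_eq, Prod.orderOf_mk, hb, orderOf_one, Nat.lcm_one_left])
      obtain ⟨i, hi⟩ := Subgroup.mem_zpowers_iff.1 h
      rw [← map_zpow] at hi
      have hb1 : b = 1 := by simpa using (congrArg Prod.snd (e.injective hi)).symm
      rw [hb1, orderOf_one] at hb
      exact hr.one_lt.ne hb
  · rintro ⟨⟨L₁, _, _, C₁, hC₁, ⟨e₁⟩⟩, ⟨L₂, _, _, C₂, hC₂, ⟨e₂⟩⟩, hco⟩
    obtain ⟨M, N, _, _, hMf, hNf, hnt, ρ, hρ⟩ := exists_fpf_prod (good_of_complement hC₁ e₁.toMonoidHom e₁.injective)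
      (good_of_complement hC₂ e₂.toMonoidHom e₂.injective) hco
    haveI : Finite (M →+ N) := Finite.of_injective (fun f => (f : M → N)) DFunLike.coe_injective
    obtain ⟨L, i1, i2, C, hC, he, -⟩ := exists_frobenius_small (M →+ N) ρ hρ
    exact ⟨L, i1, i2, C, hC, he⟩

end Cfsg.Agent.S4292
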