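import Cfsg.Statements.S3357
import Cfsg.Agent.Lib.FiniteGroup.FpfLift
import Cfsg.Agent.S4292

set_option autoImplicit false
set_option linter.style.haveILetI false

open Cfsg

namespace Cfsg.Agent.S3357

open Cfsg.Agent Cfsg.Agent.FpfLift MonoidAlgebra

universe u

variable {A : Type u} [Group A] [Finite A]

/-- Extension of scalars of the integral group ring. -/
noncomputable def toRat : MonoidAlgebra ℤ A →+* MonoidAlgebra ℚ A :=
  MonoidAlgebra.mapRingHom A (Int.castRingHom ℚ)

omit [Finite A] in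
theorem toRat_injective : Function.Injective (toRat (A := A)) := by
  refine (injective_iff_map_eq_zero _).2 fun x hx => ?_
  apply MonoidAlgebra.ext
  ext a
  have := congrArg (fun y : MonoidAlgebra ℚ A => y.coeff a) hx
  simpa [toRat] using this

omit [Finite A] in
theorem exists_integral (x : MonoidAlgebra ℚ A) :
    ∃ (m : ℤ) (z : MonoidAlgebra ℤ A), m ≠ 0 ∧ (m : ℚ) • x = toRat z := by
  induction x using MonoidAlgebra.induction_on with
  | of g => exact ⟨1, MonoidAlgebra.of ℤ A g, one_ne_zero, by simp [toRat]⟩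
  | add a b ha hb =>
    obtain ⟨m, z, hm, hz⟩ := ha
    obtain ⟨m', z', hm', hz'⟩ := hb
    refine ⟨m * m', m' • z + m • z', mul_ne_zero hm hm', ?_⟩
    rw [map_add, map_zsmul, map_zsmul, ← hz, ← hz', smul_add, ← Int.cast_smul_eq_zsmul ℚ,
      ← Int.cast_smul_eq_zsmul ℚ, smul_smul, smul_smul, Int.cast_mul, mul_comm (m' : ℚ)]
  | smul r a ha =>
    obtain ⟨m, z, hm, hz⟩ := ha
    refine ⟨(r.den : ℤ) * m, r.num • z, mul_ne_zero (Int.natCast_ne_zero.2 r.den_ne_zero) hm, ?_⟩
    rw [map_zsmul, ← hz, ← Int.cast_smul_eq_zsmul ℚ, smul_smul, smul_smul, Int.cast_mul, Int.cast_natCast,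
      mul_right_comm, ← Rat.mul_den_eq_num r, mul_comm r]

/-- The left ideal of the rational group ring generated by the norms. -/
noncomputable def ratIdeal (A : Type u) [Group A] : Ideal (MonoidAlgebra ℚ A) :=
  Ideal.span {y | ∃ (h : A) (x : MonoidAlgebra ℚ A), h ≠ 1 ∧ y = nrm ℚ h * x}

theorem toRat_nrm (h : A) : toRat (nrm ℤ h) = nrm ℚ h := by
  simp [nrm, toRat]

theorem one_notMem (hA : Good A) : (1 : MonoidAlgebra ℚ A) ∉ ratIdeal A := by
  intro h1
  have key : ∀ y ∈ ratIdeal A, ∃ (m : ℤ) (i : MonoidAlgebra ℤ A),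
      m ≠ 0 ∧ i ∈ nrmIdeal ℤ A ∧ (m : ℚ) • y = toRat i := by
    intro y hy
    induction hy using Submodule.span_induction with
    | mem y hy =>
      obtain ⟨h, x, hh, rfl⟩ := hy
      obtain ⟨m, z, hm, hz⟩ := exists_integral x
      exact ⟨m, nrm ℤ h * z, hm, AddSubgroup.subset_closure ⟨h, 1, z, hh, by rw [one_mul]⟩,
        by rw [map_mul, toRat_nrm, ← hz, mul_smul_comm]⟩
    | zero => exact ⟨1, 0, one_ne_zero, zero_mem _, by simp⟩
    | add a b _ _ ha hb =>
      obtain ⟨m, i, hm, hi, hz⟩ := ha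
      obtain ⟨m', i', hm', hi', hz'⟩ := hb
      refine ⟨m * m', m' • i + m • i', mul_ne_zero hm hm',
        add_mem ((nrmIdeal ℤ A).zsmul_mem hi m') ((nrmIdeal ℤ A).zsmul_mem hi' m), ?_⟩
      rw [map_add, map_zsmul, map_zsmul, ← hz, ← hz', smul_add, ← Int.cast_smul_eq_zsmul ℚ,
        ← Int.cast_smul_eq_zsmul ℚ, smul_smul, smul_smul, Int.cast_mul, mul_comm (m' : ℚ)]
    | smul c a _ ha =>
      obtain ⟨m, i, hm, hi, hz⟩ := ha
      obtain ⟨m', c', hm', hc'⟩ := exists_integral c
      refine ⟨m' * m, c' * i, mul_ne_zero hm' hm, mul_mem_nrmIdeal hi c', ?_⟩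
      rw [map_mul, ← hc', ← hz, smul_mul_smul_comm, Int.cast_mul, smul_eq_mul]
  obtain ⟨m, i, hm, hi, hmi⟩ := key 1 h1
  refine hm (hA m ?_)
  have : i = m • (1 : MonoidAlgebra ℤ A) := toRat_injective (by
    rw [← hmi, map_zsmul, map_one, Int.cast_smul_eq_zsmul])
  rw [← this]
  exact hi

/-- A good group has a fixed-point-free matrix representation over the rationals. -/
theorem exists_matrix (hA : Good A) : ∃ (n : ℕ) (M : A →* Matrix (Fin n) (Fin n) ℚ),
    0 < n ∧ ∀ g : A, g ≠ 1 → IsUnit (M g - 1) := by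
  classical
  haveI : Fintype A := Fintype.ofFinite A
  haveI : Module.Finite ℚ (MonoidAlgebra ℚ A) := by
    refine Module.Finite.of_surjective (Fintype.linearCombination ℚ (fun a : A => MonoidAlgebra.of ℚ A a)) ?_
    intro x
    induction x using MonoidAlgebra.induction_on with
    | of g => exact ⟨Pi.single g 1, by rw [Fintype.linearCombination_apply_single, one_smul]⟩
    | add a b ha hb =>
      obtain ⟨a', rfl⟩ := ha
      obtain ⟨b', rfl⟩ := hb
      exact ⟨a' + b', map_add _ _ _⟩
    | smul r a ha =>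
      obtain ⟨a', rfl⟩ := ha
      exact ⟨r • a', map_smul _ _ _⟩
  let W := MonoidAlgebra ℚ A ⧸ ratIdeal A
  haveI : Module.Finite ℚ W :=
    Module.Finite.of_surjective ((ratIdeal A).mkQ.restrictScalars ℚ) (Submodule.mkQ_surjective _)
  haveI : Nontrivial W := ⟨Submodule.Quotient.mk 1, 0, fun h =>
    one_notMem hA ((Submodule.Quotient.mk_eq_zero _).1 h)⟩
  let σ : A →* Module.End ℚ W :=
    (Algebra.lsmul ℚ ℚ W).toRingHom.toMonoidHom.comp (MonoidAlgebra.of ℚ A)
  let b := Module.finBasis ℚ W
  refine ⟨_, (LinearMap.toMatrixAlgEquiv b).toRingEquiv.toRingHom.toMonoidHom.comp σ, Module.finrank_pos, fun g hg => ?_⟩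
  have hinj : Function.Injective ⇑(σ g - 1 : Module.End ℚ W) := by
    refine (injective_iff_map_eq_zero _).2 fun v hv => ?_
    rw [LinearMap.sub_apply, Module.End.one_apply, sub_eq_zero] at hv
    obtain ⟨x, rfl⟩ := Submodule.Quotient.mk_surjective (ratIdeal A) v
    have hpow : ∀ i : ℕ, MonoidAlgebra.of ℚ A (g ^ i) • (Submodule.Quotient.mk x : W) = Submodule.Quotient.mk x := by
      intro i
      induction i with
      | zero => rw [pow_zero, map_one, one_smul]
      | succ i ih => rw [pow_succ, map_mul, mul_smul, show MonoidAlgebra.of ℚ A g • _ = _ from hv, ih]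
    have h0 : nrm ℚ g • (Submodule.Quotient.mk x : W) = 0 :=
      (Submodule.Quotient.mk_eq_zero _).2 (Submodule.subset_span ⟨g, x, hg, rfl⟩)
    rw [nrm, Finset.sum_smul, Finset.sum_congr rfl (fun i _ => hpow i), Finset.sum_const,
      Finset.card_range, ← Nat.cast_smul_eq_nsmul ℚ, smul_eq_zero] at h0
    exact h0.resolve_left (Nat.cast_ne_zero.2 (orderOf_pos g).ne')
  have hu : IsUnit (σ g - 1 : Module.End ℚ W) :=
    (Module.End.isUnit_iff _).2 ⟨hinj, LinearMap.surjective_of_injective hinj⟩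
  have := hu.map (LinearMap.toMatrixAlgEquiv b).toRingEquiv.toRingHom
  rw [map_sub, map_one] at this
  exact this

/-- A good group has an irreducible fixed-point-free representation over an algebraic closure of
the rationals. -/
theorem exists_irreducible (hA : Good A) :
    ∃ (n : ℕ) (ρ : A →* GL (Fin n) (AlgebraicClosure ℚ)), 0 < n ∧ Function.Injective ρ ∧
      (∀ W : Submodule (AlgebraicClosure ℚ) (Fin n → AlgebraicClosure ℚ),
        (∀ g : A, ∀ w ∈ W, ((ρ g : GL (Fin n) (AlgebraicClosure ℚ)) :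
          Matrix (Fin n) (Fin n) (AlgebraicClosure ℚ)).mulVec w ∈ W) → W = ⊥ ∨ W = ⊤) ∧
      ∀ g : A, g ≠ 1 → ∀ v : Fin n → AlgebraicClosure ℚ,
        ((ρ g : GL (Fin n) (AlgebraicClosure ℚ)) :
          Matrix (Fin n) (Fin n) (AlgebraicClosure ℚ)).mulVec v = v → v = 0 := by
  classical
  obtain ⟨n, M, hn, hM⟩ := exists_matrix hA
  haveI : NeZero n := ⟨hn.ne'⟩
  let K := AlgebraicClosure ℚ
  let T : Matrix (Fin n) (Fin n) ℚ →+* Module.End K (Fin n → K) :=
    (Matrix.toLinAlgEquiv' (R := K) (n := Fin n)).toRingEquiv.toRingHom.comp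
      (algebraMap ℚ K).mapMatrix
  let τ : A →* Module.End K (Fin n → K) := T.toMonoidHom.comp M
  have hfix : ∀ g : A, g ≠ 1 → ∀ v, τ g v = v → v = 0 := by
    intro g hg v hv
    have hu' := (Module.End.isUnit_iff _).1 ((hM g hg).map T)
    refine hu'.1 ?_
    rw [map_sub, map_one, map_zero, LinearMap.sub_apply, Module.End.one_apply, sub_eq_zero]
    exact hv
  let S : Set (Submodule K (Fin n → K)) := {U | U ≠ ⊥ ∧ ∀ g : A, ∀ w ∈ U, τ g w ∈ U}
  have hS : S.Nonempty := ⟨⊤, fun h => by
    have := congrArg (fun U : Submodule K (Fin n → K) => Module.finrank K U) h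
    simp at this
    omega, fun _ _ _ => Submodule.mem_top⟩
  obtain ⟨U, ⟨hU0, hUinv⟩, hmin⟩ := wellFounded_lt.has_min S hS
  haveI : Nontrivial U := (Submodule.nontrivial_iff_ne_bot).2 hU0
  let τU : A →* Module.End K U :=
    { toFun := fun g => (τ g).restrict (hUinv g)
      map_one' := LinearMap.ext fun w => Subtype.ext (by
        show τ 1 (w : Fin n → K) = w
        rw [map_one]; rfl)
      map_mul' := fun a b => LinearMap.ext fun w => Subtype.ext (by
        show τ (a * b) (w : Fin n → K) = τ a (τ b w)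
        rw [map_mul]; rfl) }
  let m := Module.finrank K U
  let b := Module.finBasis K U
  let R : A →* Matrix (Fin m) (Fin m) K :=
    (LinearMap.toMatrixAlgEquiv b).toRingEquiv.toRingHom.toMonoidHom.comp τU
  have hR : ∀ (g : A) (v : Fin m → K), (R g).mulVec v = b.equivFun (τU g (b.equivFun.symm v)) := by
    intro g v
    obtain ⟨u, rfl⟩ := b.equivFun.surjective v
    rw [LinearEquiv.symm_apply_apply]
    exact LinearMap.toMatrix_mulVec_repr b b (τU g) u
  have hfixR : ∀ g : A, g ≠ 1 → ∀ v : Fin m → K, (R g).mulVec v = v → v = 0 := by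
    intro g hg v hv
    rw [hR] at hv
    have h1 : τU g (b.equivFun.symm v) = b.equivFun.symm v :=
      b.equivFun.injective (by rw [hv, LinearEquiv.apply_symm_apply])
    have h2 := hfix g hg _ (congrArg Subtype.val h1)
    exact b.equivFun.symm.injective ((Subtype.ext h2).trans (map_zero _).symm)
  refine ⟨m, R.toHomUnits, Module.finrank_pos, ?_, ?_, hfixR⟩
  · refine (injective_iff_map_eq_one _).2 fun g hg => by_contra fun hg1 => ?_
    obtain ⟨v, hv⟩ := exists_ne (0 : U)
    have h1 : R g = 1 := congrArg Units.val hg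
    have h2 := hfixR g hg1 (b.equivFun v) (by rw [h1, Matrix.one_mulVec])
    exact hv (b.equivFun.injective (h2.trans (map_zero _).symm))
  · intro W hW
    rcases eq_or_ne W ⊥ with h | h
    · exact Or.inl h
    · right
      set W' := W.map (U.subtype.comp b.equivFun.symm.toLinearMap) with hW'
      have hle : W' ≤ U := by
        rintro _ ⟨w, -, rfl⟩
        exact (b.equivFun.symm w).2
      have hmem : W' ∈ S := by
        refine ⟨?_, ?_⟩
        · obtain ⟨w, hw, hw0⟩ := Submodule.exists_mem_ne_zero_of_ne_bot h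
          intro hb
          have : ((b.equivFun.symm w : U) : Fin n → K) = 0 :=
            (Submodule.mem_bot K).1 (hb.le ⟨w, hw, rfl⟩)
          exact hw0 (b.equivFun.symm.injective ((Subtype.ext this).trans (map_zero _).symm))
        · rintro g _ ⟨w, hw, rfl⟩
          refine ⟨(R g).mulVec w, hW g w hw, ?_⟩
          show ((b.equivFun.symm ((R g).mulVec w) : U) : Fin n → K) = _
          rw [hR, LinearEquiv.symm_apply_apply]
          rfl
      have heq : W' = U := eq_of_le_of_not_lt hle (hmin W' hmem)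
      refine eq_top_iff.2 fun v _ => ?_
      obtain ⟨w, hw, hwv⟩ := heq.ge (b.equivFun.symm v).2
      have : w = v := b.equivFun.symm.injective (Subtype.ext hwv)
      exact this ▸ hw

end Cfsg.Agent.S3357


set_option autoImplicit false
open Cfsg

namespace Cfsg.Agent.S3357

/-- Let G be a finite group that occurs as a Frobenius complement. Then G has a faithful irreducible representation over an algebraic closure of the rationals in which no non-identity element of G has 1 as an eigenvalue: there are n ≥ 1 and an injective homomorphism ρ from G to GL(n) over that field, with no invariant subspace other than 0 and the whole space, such that for g ≠ 1 the only vector fixed by ρ(g) is 0. -/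
theorem result {G : Type*} [Group G] [Finite G]
    (hFC : ∃ (L : Type) (_ : Group L) (_ : Finite L) (H : Subgroup L), Cfsg.IsFrobeniusComplement H ∧ Nonempty (G ≃* H)) :
    ∃ (n : ℕ) (ρ : G →* GL (Fin n) (AlgebraicClosure ℚ)), 0 < n ∧ Function.Injective ρ ∧
      (∀ W : Submodule (AlgebraicClosure ℚ) (Fin n → AlgebraicClosure ℚ),
        (∀ g : G, ∀ w ∈ W, ((ρ g : GL (Fin n) (AlgebraicClosure ℚ)) : Matrix (Fin n) (Fin n) (AlgebraicClosure ℚ)).mulVec w ∈ W) → W = ⊥ ∨ W = ⊤) ∧
      ∀ g : G, g ≠ 1 → ∀ v : Fin n → AlgebraicClosure ℚ,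
        ((ρ g : GL (Fin n) (AlgebraicClosure ℚ)) : Matrix (Fin n) (Fin n) (AlgebraicClosure ℚ)).mulVec v = v → v = 0 := by
  obtain ⟨L, _, _, H, hH, ⟨e⟩⟩ := hFC
  exact exists_irreducible (Cfsg.Agent.S4292.good_of_complement hH e.toMonoidHom e.injective)

end Cfsg.Agent.S3357
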