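import Cfsg.Statements.S4291
import Cfsg.Agent.S3359
import Cfsg.Agent.S3378
import Cfsg.Agent.Lib.FGStruct.Zassenhaus.QuotMain
import Cfsg.Agent.Lib.FGStruct.Zassenhaus.Normal
import Cfsg.Agent.Lib.Recog.OrderSixty
import Cfsg.Agent.Lib.FiniteGroup.PermSmall
import Cfsg.Agent.Lib.Solvable.ScnCentralizer

set_option autoImplicit false
set_option linter.style.haveILetI false

open Cfsg

namespace Cfsg.Agent.S4291

open Cfsg.Agent
open scoped Pointwise commutatorElement

local notation "A5" => alternatingGroup (Fin 5)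

theorem exists_normalized_four : ∃ (V : Subgroup A5) (g : A5),
    Nat.card V = 4 ∧ orderOf g = 3 ∧ g ∈ Subgroup.normalizer (V : Set A5) := by
  let a : A5 := ⟨Equiv.swap 0 1 * Equiv.swap 2 3, Equiv.Perm.mem_alternatingGroup.2 (by decide)⟩
  let b : A5 := ⟨Equiv.swap 0 2 * Equiv.swap 1 3, Equiv.Perm.mem_alternatingGroup.2 (by decide)⟩
  let L : Finset A5 := {1, a, b, a * b}
  have h1 : (1 : A5) ∈ L := by decide
  have hm : ∀ x ∈ L, ∀ y ∈ L, x * y ∈ L := by decide +kernel
  have hi : ∀ x ∈ L, x⁻¹ ∈ L := by decide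
  let V : Subgroup A5 :=
    { carrier := {x | x ∈ L}
      one_mem' := h1
      mul_mem' := fun {x y} hx hy => hm x hx y hy
      inv_mem' := fun {x} hx => hi x hx }
  let g : A5 := ⟨Equiv.swap 0 1 * Equiv.swap 1 2, Equiv.Perm.mem_alternatingGroup.2 (by decide)⟩
  refine ⟨V, g, ?_, orderOf_eq_prime (by decide) (by decide), ?_⟩
  · show Nat.card {x // x ∈ L} = 4
    rw [Nat.card_eq_finsetCard]
    decide
  · have hc : ∀ x ∈ L, g * x * g⁻¹ ∈ L := by decide
    have hc' : ∀ x ∈ L, g⁻¹ * x * g ∈ L := by decide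
    refine Subgroup.mem_normalizer_iff.2 fun y => ⟨fun h => hc y h, fun h => ?_⟩
    have := hc' _ h
    rwa [show g⁻¹ * (g * y * g⁻¹) * g = y by group] at this

theorem center_alt : ∀ x : A5, x ≠ 1 → ∃ g : A5, g * x ≠ x * g := by decide +kernel

theorem center_perm : ∀ x : Equiv.Perm (Fin 5), x ≠ 1 → ∃ g : Equiv.Perm (Fin 5), g * x ≠ x * g := by
  decide +kernel

theorem not_zgroup_of_four {Q : Type*} [Group Q] [Finite Q] (x y : Q) (hx : x * x = 1) (hy : y * y = 1)
    (hx1 : x ≠ 1) (hy1 : y ≠ 1) (hxy : x ≠ y) (hc : x * y = y * x) : ¬ IsZGroup Q := by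
  intro hZ
  haveI : Fact (Nat.Prime 2) := ⟨Nat.prime_two⟩
  let A := Subgroup.closure ({x, y} : Set Q)
  have hA : IsMulCommutative A := Subgroup.isMulCommutative_closure (by
    rintro a (rfl | rfl) b (rfl | rfl)
    · rfl
    · exact hc
    · exact hc.symm
    · rfl)
  have hsq : ∀ a ∈ A, a * a = 1 := by
    intro a ha
    induction ha using Subgroup.closure_induction with
    | mem z hz => rcases hz with rfl | rfl <;> assumption
    | one => exact one_mul 1
    | mul u v hu hv h1 h2 =>
      have e := congrArg Subtype.val (mul_comm' (⟨v, hv⟩ : A) ⟨u, hu⟩)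
      change v * u = u * v at e
      rw [mul_assoc, ← mul_assoc v, e, mul_assoc u v, h2, mul_one, h1]
    | inv u _ h1 => rw [← mul_inv_rev, h1, inv_one]
  have hP : IsPGroup 2 A := fun a => ⟨1, Subtype.ext (by
    rw [pow_one, SubgroupClass.coe_pow, pow_two, Subgroup.coe_one]; exact hsq a a.2)⟩
  haveI : IsCyclic A := hP.isCyclic_of_isZGroup
  classical
  haveI : Fintype A := Fintype.ofFinite A
  have hle := IsCyclic.card_pow_eq_one_le (α := A) (n := 2) two_pos
  have hx' : x ∈ A := Subgroup.subset_closure (Set.mem_insert _ _)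
  have hy' : y ∈ A := Subgroup.subset_closure (Set.mem_insert_of_mem _ rfl)
  have h3 : ({1, ⟨x, hx'⟩, ⟨y, hy'⟩} : Finset A) ⊆ Finset.univ.filter fun a : A => a ^ 2 = 1 :=
    fun a _ => by
      simp only [Finset.mem_filter, Finset.mem_univ, true_and]
      exact Subtype.ext (by rw [SubgroupClass.coe_pow, pow_two, Subgroup.coe_one]; exact hsq a a.2)
  have := (Finset.card_le_card h3).trans hle
  rw [Finset.card_eq_three.2 ⟨1, ⟨x, hx'⟩, ⟨y, hy'⟩, fun e => hx1 (congrArg Subtype.val e).symm,
    fun e => hy1 (congrArg Subtype.val e).symm, fun e => hxy (congrArg Subtype.val e), rfl⟩] at this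
  omega

theorem not_zgroup_klein : ¬ IsZGroup (DihedralGroup 2) :=
  not_zgroup_of_four (.r 1) (.sr 0) (by decide) (by decide) (by decide) (by decide) (by decide) (by decide)

theorem not_zgroup_alt : ¬ IsZGroup (alternatingGroup (Fin 4)) :=
  not_zgroup_of_four ⟨Equiv.swap 0 1 * Equiv.swap 2 3, Equiv.Perm.mem_alternatingGroup.2 (by decide)⟩ ⟨Equiv.swap 0 2 * Equiv.swap 1 3, Equiv.Perm.mem_alternatingGroup.2 (by decide)⟩
    (by decide) (by decide) (by decide) (by decide) (by decide) (by decide)

theorem mul_comm_dihedral : ∀ a b : DihedralGroup 2, a * b = b * a := by decide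

theorem exists_klein_embedding :
    ∃ j : DihedralGroup 2 →* Equiv.Perm (Fin 4), Function.Injective j := by
  have h : Nat.card (DihedralGroup 2) = 4 := by rw [Nat.card_eq_fintype_card]; rfl
  exact ⟨((Finite.equivFinOfCardEq h).permCongrHom.toMonoidHom).comp
      (MulAction.toPermHom (DihedralGroup 2) (DihedralGroup 2)),
    (Finite.equivFinOfCardEq h).permCongrHom.injective.comp MulAction.toPerm_injective⟩

variable {G : Type*} [Group G] [Finite G]

theorem card_sylow_two {K : Subgroup G} (e : K ≃* Matrix.SpecialLinearGroup (Fin 2) (ZMod 5))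
    (hperf : ⁅K, K⁆ = K) (hK : Nat.card K = 120) : Nat.card (Sylow 2 K) = 5 := by
  haveI : Fact (Nat.Prime 2) := ⟨Nat.prime_two⟩
  haveI : Fact (Nat.Prime 5) := ⟨by norm_num⟩
  set Z := Subgroup.center K with hZ
  have hZ2 : Nat.card Z = 2 := SLFiveNormal.card_center' e
  have hQ : Nat.card (K ⧸ Z) = 60 := by
    have := Z.card_mul_index
    rw [hZ2, hK] at this
    show Z.index = 60
    omega
  have h6 : Nat.card (Sylow 5 (K ⧸ Z)) = 6 := by
    refine (OrderSixty.sylow_card_cases hQ).resolve_left fun h1 => ?_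
    obtain ⟨P⟩ : Nonempty (Sylow 5 (K ⧸ Z)) := inferInstance
    rw [P.card_eq_index_normalizer, Subgroup.index_eq_one] at h1
    haveI : (P : Subgroup (K ⧸ Z)).Normal := Subgroup.normalizer_eq_top_iff.1 h1
    have h5 : Nat.card (P : Subgroup (K ⧸ Z)) = 5 := OrderSixty.card_sylow_five hQ P
    have hPm := Subgroup.map_comap_eq_self_of_surjective (QuotientGroup.mk'_surjective Z) (P : Subgroup (K ⧸ Z))
    rcases SLFiveNormal.normal_le_center e hperf ((P : Subgroup (K ⧸ Z)).comap (QuotientGroup.mk' Z)) with h | h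
    · have h' : (P : Subgroup (K ⧸ Z)) = ⊥ := by
        rw [← hPm, ← le_bot_iff, ← QuotientGroup.map_mk'_self Z]
        exact Subgroup.map_mono h
      rw [h', Subgroup.card_bot] at h5
      norm_num at h5
    · rw [h, Subgroup.map_top_of_surjective _ (QuotientGroup.mk'_surjective Z)] at hPm
      rw [← hPm, Subgroup.card_top, hQ] at h5
      norm_num at h5
  obtain ⟨σ⟩ := OrderSixty.equiv_A5 hQ h6
  set π := σ.toMonoidHom.comp (QuotientGroup.mk' Z) with hπ
  have hπs : Function.Surjective π := σ.surjective.comp (QuotientGroup.mk'_surjective Z)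
  have hπk : π.ker = Z := by
    ext x; simp [hπ, MonoidHom.mem_ker]
  obtain ⟨V, g, hV, hg, hgV⟩ := exists_normalized_four
  set P₀ := V.comap π with hP₀
  have hP₀c : Nat.card P₀ = 8 := by
    have h1 : Z ≤ P₀ := hπk ▸ Subgroup.ker_le_comap π V
    have h2 := Subgroup.relIndex_mul_relIndex ⊥ Z P₀ bot_le h1
    rw [Subgroup.relIndex_bot_left, Subgroup.relIndex_bot_left, hZ2, ← hπk, Subgroup.relIndex_ker P₀ π,
      hP₀, Subgroup.map_comap_eq_self_of_surjective hπs, hV] at h2
    rw [hP₀, ← h2]
  obtain ⟨k, hk⟩ := hπs g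
  have hkN : k ∈ Subgroup.normalizer (P₀ : Set K) := by
    refine Subgroup.mem_normalizer_iff.2 fun y => ?_
    rw [hP₀, Subgroup.mem_comap, Subgroup.mem_comap, map_mul, map_mul, map_inv, hk]
    exact Subgroup.mem_normalizer_iff.1 hgV (π y)
  have hf8 : (120 : ℕ).factorization 2 = 3 := by
    rw [show (120 : ℕ) = 2 ^ 3 * 15 from rfl, Nat.factorization_mul (by norm_num) (by norm_num),
      Finsupp.add_apply, Nat.prime_two.factorization_pow, Finsupp.single_eq_same,
      Nat.factorization_eq_zero_of_not_dvd (show ¬ 2 ∣ 15 by norm_num)]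
  let S : Sylow 2 K := Sylow.ofCard P₀ (by rw [hP₀c, hK, hf8]; norm_num)
  have hS : (S : Subgroup K) = P₀ := rfl
  set N := Subgroup.normalizer ((S : Subgroup K) : Set K) with hN
  have h3 : 3 ∣ Nat.card N := by
    have h1 : orderOf g ∣ orderOf k := hk ▸ orderOf_map_dvd π k
    rw [hg] at h1
    exact h1.trans (Subgroup.orderOf_dvd_natCard N (show k ∈ N from hkN))
  have h8 : 8 ∣ Nat.card N := hP₀c ▸ Subgroup.card_dvd_of_le (hS ▸ Subgroup.le_normalizer)
  obtain ⟨c, hc⟩ := Nat.Coprime.mul_dvd_of_dvd_of_dvd (by norm_num : Nat.Coprime 3 8) h3 h8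
  have hmul := N.card_mul_index
  rw [hc, hK] at hmul
  have hidx : N.index = Nat.card (Sylow 2 K) := S.card_eq_index_normalizer.symm
  have hd : Nat.card (Sylow 2 K) ∣ 5 := ⟨c, by rw [← hidx]; linarith⟩
  refine ((Nat.dvd_prime (by norm_num : Nat.Prime 5)).1 hd).resolve_left fun h1 => ?_
  rw [← hidx, Subgroup.index_eq_one] at h1
  haveI : (S : Subgroup K).Normal := Subgroup.normalizer_eq_top_iff.1 h1
  rcases SLFiveNormal.normal_le_center e hperf (S : Subgroup K) with h | h
  · have := Subgroup.card_dvd_of_le h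
    rw [hS, hP₀c, SLFiveNormal.card_center' e] at this
    norm_num at this
  · rw [hS] at h
    rw [h, Subgroup.card_top, hK] at hP₀c
    norm_num at hP₀c

/-- The target quotients, and the condition on the kernel. -/
def Cond (N : Subgroup G) : Prop :=
  N = ⊤ ∨
    (∃ f : G →* DihedralGroup 2, Function.Surjective f ∧ f.ker = N) ∨
    (∃ f : G →* alternatingGroup (Fin 4), Function.Surjective f ∧ f.ker = N) ∨
    (∃ f : G →* Equiv.Perm (Fin 4), Function.Surjective f ∧ f.ker = N) ∨
    (∃ f : G →* alternatingGroup (Fin 5), Function.Surjective f ∧ f.ker = N) ∨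
    (∃ f : G →* Equiv.Perm (Fin 5), Function.Surjective f ∧ f.ker = N)

theorem solvable_case (hsol : Group.IsSolvable G) (hab : AbCyc.AbCyclic G) :
    ∃ N : Subgroup G, N.Normal ∧ IsZGroup N ∧ Cond N ∧
      (N = ⊤ ∨ ∃ f : G →* Equiv.Perm (Fin 4), f.ker = N) ∧
      ∀ M : Subgroup G, M.Normal → IsZGroup M → Cond M → M = N := by
  haveI := hsol
  have h5 : ¬ Group.IsSolvable (Equiv.Perm (Fin 5)) := Equiv.Perm.fin_5_not_solvable
  have hA5 : ¬ Group.IsSolvable A5 := fun h => h5 (by
    haveI := h
    haveI : Group.IsSolvable ℤˣ := Group.isSolvable_of_comm mul_comm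
    exact Group.isSolvable_of_ker_le_range (alternatingGroup (Fin 5)).subtype Equiv.Perm.sign
      (by rw [Subgroup.range_subtype]; exact le_rfl))
  by_cases hZ : IsZGroup G
  · haveI := hZ
    refine ⟨⊤, inferInstance, IsZGroup.of_injective (f := (⊤ : Subgroup G).subtype) (Subgroup.subtype_injective _), Or.inl rfl, Or.inl rfl,
      fun M hMn _ hM => ?_⟩
    rcases hM with h | ⟨f, hf, -⟩ | ⟨f, hf, -⟩ | ⟨f, hf, -⟩ | ⟨f, hf, -⟩ | ⟨f, hf, -⟩
    · exact h
    all_goals exfalso
    · exact not_zgroup_klein (IsZGroup.of_surjective hf)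
    · exact not_zgroup_alt (IsZGroup.of_surjective hf)
    · haveI := IsZGroup.of_surjective hf
      exact not_zgroup_alt (IsZGroup.of_injective (f := (alternatingGroup (Fin 4)).subtype)
        (Subgroup.subtype_injective _))
    · exact hA5 (Group.isSolvable_of_surjective hf)
    · exact h5 (Group.isSolvable_of_surjective hf)
  · refine ⟨FrobQuot.N₀ G, inferInstance, FrobQuot.N₀_zgroup hsol hab hZ, ?_, Or.inr ?_, fun M hMn hMZ hM => ?_⟩
    · rcases FrobQuot.N₀_quot hsol hab hZ with h | h | h
      · exact Or.inr (Or.inl h)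
      · exact Or.inr (Or.inr (Or.inl h))
      · exact Or.inr (Or.inr (Or.inr (Or.inl h)))
    · rcases FrobQuot.N₀_quot hsol hab hZ with ⟨f, -, hk⟩ | ⟨f, -, hk⟩ | ⟨f, -, hk⟩
      · obtain ⟨j, hj⟩ : ∃ j : DihedralGroup 2 →* Equiv.Perm (Fin 4), Function.Injective j :=
          exists_klein_embedding
        exact ⟨j.comp f, by rw [← MonoidHom.comap_ker, (MonoidHom.ker_eq_bot_iff j).2 hj, MonoidHom.comap_bot, hk]⟩
      · exact ⟨(alternatingGroup (Fin 4)).subtype.comp f,
          by rw [← MonoidHom.comap_ker, Subgroup.ker_subtype, MonoidHom.comap_bot, hk]⟩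
      · exact ⟨f, hk⟩
    · haveI := hMn
      haveI := hMZ
      rcases hM with h | ⟨f, hf, hk⟩ | ⟨f, hf, hk⟩ | ⟨f, hf, hk⟩ | ⟨f, hf, hk⟩ | ⟨f, hf, hk⟩
      · exfalso
        subst h
        exact hZ (IsZGroup.of_surjective (f := (Subgroup.topEquiv (G := G)).toMonoidHom) (Subgroup.topEquiv (G := G)).surjective)
      · exact FrobQuot.eq_N₀ hsol hab hZ FrobQuot.good_klein f hf hk
      · exact FrobQuot.eq_N₀ hsol hab hZ FrobQuot.good_alt f hf hk
      · exact FrobQuot.eq_N₀ hsol hab hZ FrobQuot.good_perm f hf hk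
      · exact absurd (Group.isSolvable_of_surjective hf) hA5
      · exact absurd (Group.isSolvable_of_surjective hf) h5

theorem nonsolvable_case (hG : Zassenhaus.Fpf G) (hns : ¬ Group.IsSolvable G) :
    ∃ N : Subgroup G, N.Normal ∧ IsZGroup N ∧ Cond N ∧
      ∀ M : Subgroup G, M.Normal → IsZGroup M → Cond M → M = N := by
  classical
  haveI : Fact (Nat.Prime 2) := ⟨Nat.prime_two⟩
  obtain ⟨n, hn, ⟨e⟩⟩ := hG.exists_residual hns
  have hab := hG.abCyclic
  set K := derivedSeries G n with hKd
  have hperf : ⁅K, K⁆ = K := by rwa [derivedSeries_succ] at hn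
  haveI hKn : K.Normal := derivedSeries_normal G n
  have hK : Nat.card K = 120 := (Nat.card_congr e.toEquiv).trans S3378.sl_card
  set C := Subgroup.centralizer (K : Set G) with hC
  haveI hCn : C.Normal := inferInstanceAs (Subgroup.centralizer (K : Set G)).Normal
  have hZ2 : Nat.card (K ⊓ C : Subgroup G) = 2 := SLFiveNormal.card_inf_centralizer e
  -- the centraliser has cyclic Sylow subgroups
  have h4 : ¬ 4 ∣ Nat.card C := by
    intro h
    obtain ⟨c, hcC, hc⟩ := S3359.exists_orderOf_four hab C h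
    obtain ⟨u, huK, hu⟩ := S3359.exists_orderOf_four hab K (by rw [hK]; norm_num)
    have hcK : c ∈ K := Subgroup.zpowers_le.2 huK
      (S3359.mem_zpowers_of_commute hab (Subgroup.mem_centralizer_iff.1 hcC u huK) (by rw [hc, hu]))
    have h3 := Subgroup.orderOf_dvd_natCard (K ⊓ C) (show c ∈ K ⊓ C from ⟨hcK, hcC⟩)
    rw [hc, hZ2] at h3
    norm_num at h3
  have hCZ : IsZGroup C := ⟨fun p hp P => by
    haveI := Fact.mk hp
    rcases eq_or_ne p 2 with rfl | h2
    · obtain ⟨j, hj⟩ := IsPGroup.iff_card.1 P.isPGroup'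
      have hd : Nat.card (P : Subgroup C) ∣ Nat.card C := Subgroup.card_subgroup_dvd_card _
      rcases j with _ | _ | j
      · haveI : Subsingleton (P : Subgroup C) :=
          Finite.card_le_one_iff_subsingleton.1 (by rw [hj, pow_zero])
        exact isCyclic_of_subsingleton
      · exact isCyclic_of_prime_card (p := 2) (by rw [hj, pow_one])
      · exact absurd (dvd_trans (⟨2 ^ j, by rw [hj]; ring⟩ : 4 ∣ Nat.card (P : Subgroup C)) hd) h4
    · exact (hG.subgroup C).sylow_cyclic h2 P⟩
  -- five Sylow 2-subgroups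
  have h5 := card_sylow_two e hperf hK
  let τ : Equiv.Perm (Sylow 2 K) ≃* Equiv.Perm (Fin 5) := (Finite.equivFinOfCardEq h5).permCongrHom
  let ψ : G →* Equiv.Perm (Sylow 2 K) :=
    (MulAction.toPermHom (MulAut K) (Sylow 2 K)).comp (MulAut.conjNormal (H := K))
  have hmem : ∀ g : G, g ∈ ψ.ker ↔ ∀ P : Sylow 2 K, (MulAut.conjNormal g : MulAut K) • P = P := fun g =>
    ⟨fun h P => congrArg (fun q : Equiv.Perm (Sylow 2 K) => q P) (MonoidHom.mem_ker.1 h),
      fun h => MonoidHom.mem_ker.2 (Equiv.ext h)⟩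
  have hker : ψ.ker = C := by
    refine le_antisymm ?_ fun c hc => (hmem c).2 fun P => ?_
    · set W := ψ.ker with hW
      have hWK : W.subgroupOf K ≤ Subgroup.center K := by
        refine (SLFiveNormal.normal_le_center e hperf (W.subgroupOf K)).resolve_right fun htop => ?_
        have : Subsingleton (Sylow 2 K) := by
          refine ⟨fun P Q => ?_⟩
          obtain ⟨k, hk⟩ := MulAction.exists_smul_eq K P Q
          rw [← hk, Sylow.smul_def,
            show (MulAut.conj k : MulAut K) = MulAut.conjNormal (k : G) from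
              MulEquiv.ext fun y => Subtype.ext (by simp [MulAut.conjNormal_apply])]
          exact ((hmem _).1 (show (k : G) ∈ W from Subgroup.mem_subgroupOf.1 (htop ▸ Subgroup.mem_top k)) P).symm
        have := Finite.card_le_one_iff_subsingleton.2 this
        omega
      have hc : ⁅W, K⁆ ≤ C := by
        intro y hy
        have hyK : y ∈ K := Subgroup.commutator_le_right W K hy
        exact (SLFiveNormal.mem_subgroupOf_centralizer ⟨y, hyK⟩).2
          (hWK (show (⟨y, hyK⟩ : K) ∈ W.subgroupOf K from Subgroup.commutator_le_left W K hy))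
      have h1 : ⁅⁅W, K⁆, K⁆ = ⊥ := Subgroup.commutator_eq_bot_iff_le_centralizer.2 hc
      have h2 := Subgroup.commutator_commutator_eq_bot_of_rotate (H₁ := K) (H₂ := K) (H₃ := W)
        (by rw [Subgroup.commutator_comm K W]; exact h1) h1
      rw [hperf, Subgroup.commutator_comm, Subgroup.commutator_eq_bot_iff_le_centralizer] at h2
      exact h2
    · rw [show (MulAut.conjNormal c : MulAut K) = 1 from MulEquiv.ext fun y => Subtype.ext (by
        rw [MulAut.conjNormal_apply, ← Subgroup.mem_centralizer_iff.1 hc (y : G) y.2, mul_inv_cancel_right]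
        rfl), one_smul]
  set φ : G →* Equiv.Perm (Fin 5) := τ.toMonoidHom.comp ψ with hφ
  have hφk : φ.ker = C := by rw [hφ, ← MonoidHom.comap_ker, (MonoidHom.ker_eq_bot_iff _).2 τ.injective, MonoidHom.comap_bot, hker]
  have h120 : Nat.card (Equiv.Perm (Fin 5)) = 120 := by
    rw [Nat.card_eq_fintype_card, Fintype.card_perm, Fintype.card_fin]; rfl
  have h60 : Nat.card A5 = 60 := by rw [nat_card_alternatingGroup, Nat.card_fin]; rfl
  have hCidx : C.index = 60 ∨ C.index = 120 := by
    have h1 : C.relIndex (K ⊔ C) * (K ⊔ C).index = C.index := Subgroup.relIndex_mul_index le_sup_right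
    rw [Subgroup.relIndex_sup_right K C] at h1
    have h2 : C.relIndex K = 60 := by
      have h3 := Subgroup.relIndex_mul_relIndex ⊥ (K ⊓ C) K bot_le inf_le_left
      rw [Subgroup.relIndex_bot_left, Subgroup.relIndex_bot_left, hZ2, hK, Subgroup.inf_relIndex_left] at h3
      omega
    rw [h2] at h1
    rcases SLFiveNormal.index_sup_centralizer e hperf hK with h | h <;> rw [h] at h1 <;> omega
  have hrange : Nat.card φ.range = C.index := by rw [← Subgroup.index_ker, hφk]
  refine ⟨C, hCn, hCZ, ?_, fun M hMn hMZ hM => ?_⟩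
  · rcases hCidx with h | h
    · have hr : φ.range = alternatingGroup (Fin 5) := by
        refine Equiv.Perm.eq_alternatingGroup_of_index_eq_two ?_
        have := φ.range.card_mul_index
        rw [h120, hrange, h] at this
        omega
      refine Or.inr (Or.inr (Or.inr (Or.inr (Or.inl ⟨φ.codRestrict _ fun g => hr.le ⟨g, rfl⟩,
        fun y => ?_, by rw [MonoidHom.ker_codRestrict, hφk]⟩))))
      obtain ⟨g, hg⟩ := hr.ge y.2
      exact ⟨g, Subtype.ext hg⟩
    · refine Or.inr (Or.inr (Or.inr (Or.inr (Or.inr ⟨φ,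
        MonoidHom.range_eq_top.1 (Subgroup.eq_top_of_card_eq _ ?_), hφk⟩))))
      rw [hrange, h, h120]
  · haveI := hMn
    haveI := hMZ
    haveI hMs : Group.IsSolvable M := inferInstance
    have hsolv : ∀ {Q : Type} [Group Q], Group.IsSolvable Q → ∀ f : G →* Q, f.ker = M → False :=
      fun hQ f hk => by
        haveI := hQ
        exact hns (Group.isSolvable_of_ker_le_range M.subtype f (by rw [hk, Subgroup.range_subtype]))
    haveI h24 : Group.IsSolvable (Equiv.Perm (Fin 4)) := PermSmall.isSolvable_perm_fin_four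
    have main : ∀ {Q : Type} [Group Q] [Finite Q], (∀ x : Q, x ≠ 1 → ∃ g, g * x ≠ x * g) →
        (Nat.card Q = 60 ∨ Nat.card Q = 120) → ∀ f : G →* Q, Function.Surjective f → f.ker = M → M = C := by
      intro Q _ _ hcen hcard f hf hk
      have hMC : M ≤ C := by
        have hMK : M.subgroupOf K ≤ Subgroup.center K := by
          refine (SLFiveNormal.normal_le_center e hperf (M.subgroupOf K)).resolve_right fun htop => ?_
          have hle : K ≤ M := fun y hy =>
            Subgroup.mem_subgroupOf.1 (htop ▸ Subgroup.mem_top (⟨y, hy⟩ : K))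
          haveI : Group.IsSolvable K :=
            Group.isSolvable_of_isSolvable_injective (f := Subgroup.inclusion hle) (Subgroup.inclusion_injective hle)
          haveI : Fact (Nat.Prime 5) := ⟨by norm_num⟩
          exact ScnCentralizer.sl2_not_solvable 5 le_rfl
            (Group.isSolvable_of_surjective (f := e.toMonoidHom) e.surjective)
        have hc : ⁅M, K⁆ ≤ C := by
          intro y hy
          have hyK : y ∈ K := Subgroup.commutator_le_right M K hy
          exact (SLFiveNormal.mem_subgroupOf_centralizer ⟨y, hyK⟩).2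
            (hMK (show (⟨y, hyK⟩ : K) ∈ M.subgroupOf K from Subgroup.commutator_le_left M K hy))
        have h1 : ⁅⁅M, K⁆, K⁆ = ⊥ := Subgroup.commutator_eq_bot_iff_le_centralizer.2 hc
        have h2 := Subgroup.commutator_commutator_eq_bot_of_rotate (H₁ := K) (H₂ := K) (H₃ := M)
          (by rw [Subgroup.commutator_comm K M]; exact h1) h1
        rw [hperf, Subgroup.commutator_comm, Subgroup.commutator_eq_bot_iff_le_centralizer] at h2
        exact h2
      have hMi : M.index = Nat.card Q := by
        rw [← hk, Subgroup.index_ker, MonoidHom.range_eq_top.2 hf, Subgroup.card_top]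
      have hcb : Nat.card (C.map f) * C.index = M.index := by
        rw [← Subgroup.relIndex_ker C f, hk]
        exact Subgroup.relIndex_mul_index hMC
      have hsmall : Nat.card (C.map f) = 1 ∨ Nat.card (C.map f) = 2 := by
        rw [hMi] at hcb
        have := Nat.card_pos (α := C.map f)
        rcases hCidx with h | h <;> rw [h] at hcb <;> omega
      haveI : (C.map f).Normal := hCn.map f hf
      rcases hsmall with h | h
      · refine le_antisymm hMC fun c hc => ?_
        rw [← hk, MonoidHom.mem_ker]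
        have hm : f c ∈ C.map f := ⟨c, hc, rfl⟩
        rwa [Subgroup.card_eq_one.1 h, Subgroup.mem_bot] at hm
      · obtain ⟨z, hz1, hz⟩ := (Nat.card_eq_two_iff' (1 : C.map f)).1 h
        have hz1' : (z : Q) ≠ 1 := fun e' => hz1 (Subtype.ext e')
        obtain ⟨g, hg⟩ := hcen _ hz1'
        refine absurd ?_ hg
        have := congrArg Subtype.val (hz ⟨g * z * g⁻¹,
          (inferInstance : (C.map f).Normal).conj_mem _ z.2 g⟩ fun e' => hz1' (by
            have := congrArg Subtype.val e'
            simpa using this))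
        exact mul_inv_eq_iff_eq_mul.1 this
    rcases hM with h | ⟨f, -, hk⟩ | ⟨f, -, hk⟩ | ⟨f, -, hk⟩ | ⟨f, hf, hk⟩ | ⟨f, hf, hk⟩
    · subst h
      exact absurd (Group.isSolvable_of_surjective (f := (Subgroup.topEquiv (G := G)).toMonoidHom)
        (Subgroup.topEquiv (G := G)).surjective) hns
    · exact (hsolv (Group.isSolvable_of_comm fun a b => mul_comm_dihedral a b) f hk).elim
    · exact (hsolv (inferInstance) f hk).elim
    · exact (hsolv h24 f hk).elim
    · exact main center_alt (Or.inl h60) f hf hk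
    · exact main center_perm (Or.inr h120) f hf hk

end Cfsg.Agent.S4291


set_option autoImplicit false
open Cfsg

namespace Cfsg.Agent.S4291

/-- Let G be a finite group that occurs as a Frobenius complement. Then G has exactly one normal subgroup N such that every Sylow subgroup of N is cyclic and the quotient of G by N is trivial or isomorphic to one of the following five groups: the Klein four-group, the alternating group of degree 4, the symmetric group of degree 4, the alternating group of degree 5, the symmetric group of degree 5. (The quotient is described by a surjective homomorphism with kernel N; the Klein four-group is written as the dihedral group of order 4.) -/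
theorem result {G : Type*} [Group G] [Finite G]
    (hFC : (∃ (L : Type) (_ : Group L) (_ : Finite L) (H : Subgroup L), Cfsg.IsFrobeniusComplement H ∧ Nonempty (G ≃* H))) :
    ∃! N : Subgroup G, N.Normal ∧ (∀ (p : ℕ) [Fact p.Prime] (P : Sylow p N), IsCyclic P) ∧
      (N = ⊤ ∨
        (∃ f : G →* DihedralGroup 2, Function.Surjective f ∧ f.ker = N) ∨
        (∃ f : G →* alternatingGroup (Fin 4), Function.Surjective f ∧ f.ker = N) ∨
        (∃ f : G →* Equiv.Perm (Fin 4), Function.Surjective f ∧ f.ker = N) ∨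
        (∃ f : G →* alternatingGroup (Fin 5), Function.Surjective f ∧ f.ker = N) ∨
        (∃ f : G →* Equiv.Perm (Fin 5), Function.Surjective f ∧ f.ker = N)) := by
  obtain ⟨L, _, _, H, hH, ⟨e⟩⟩ := hFC
  have key : ∀ N : Subgroup G, N.Normal → IsZGroup N → Cond N →
      (∀ M : Subgroup G, M.Normal → IsZGroup M → Cond M → M = N) →
      ∃! N : Subgroup G, N.Normal ∧ (∀ (p : ℕ) [Fact p.Prime] (P : Sylow p N), IsCyclic P) ∧
      (N = ⊤ ∨
        (∃ f : G →* DihedralGroup 2, Function.Surjective f ∧ f.ker = N) ∨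
        (∃ f : G →* alternatingGroup (Fin 4), Function.Surjective f ∧ f.ker = N) ∨
        (∃ f : G →* Equiv.Perm (Fin 4), Function.Surjective f ∧ f.ker = N) ∨
        (∃ f : G →* alternatingGroup (Fin 5), Function.Surjective f ∧ f.ker = N) ∨
        (∃ f : G →* Equiv.Perm (Fin 5), Function.Surjective f ∧ f.ker = N)) :=
    fun N h1 h2 h3 h4 => ⟨N, ⟨h1, fun p hp P => h2.isZGroup p hp.out P, h3⟩,
      fun M ⟨hM1, hM2, hM3⟩ => h4 M hM1 ⟨fun p hp P => @hM2 p ⟨hp⟩ P⟩ hM3⟩
  by_cases hsol : Group.IsSolvable G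
  · obtain ⟨N, h1, h2, h3, -, h4⟩ := solvable_case hsol
      (Cfsg.Agent.FrobQuot.abCyclic_of_complement hH e)
    exact key N h1 h2 h3 h4
  · obtain ⟨N, h1, h2, h3, h4⟩ := nonsolvable_case
      (Cfsg.Agent.Zassenhaus.Fpf.of_frobeniusComplement hH e hsol) hsol
    exact key N h1 h2 h3 h4

end Cfsg.Agent.S4291
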