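import Cfsg.Statements.S3358
import Cfsg.Agent.S4291
import Cfsg.Agent.Lib.Solvable.Basic

set_option autoImplicit false
set_option linter.style.haveILetI false

open Cfsg

namespace Cfsg.Agent.S3358

open Cfsg.Agent

theorem pq_of_complement {G L : Type*} [Group G] [Group L] [Finite L] {H : Subgroup L}
    (hH : Cfsg.IsFrobeniusComplement H) (e : G ≃* H) {p q : ℕ} (hp : p.Prime) (hq : q.Prime)
    (A : Subgroup G) (hA : Nat.card A = p * q) : IsCyclic A := by
  obtain ⟨N, -, hNn, hN1, -, hfpf, -, -, hNnil⟩ := FrobeniusStruct.exists_kernel hH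
  haveI := hNn
  haveI := hNnil
  haveI : Nontrivial N := (Subgroup.nontrivial_iff_ne_bot N).2 hN1
  set V := (Subgroup.center N).map N.subtype with hV
  haveI : IsMulCommutative V := inferInstance
  have hV1 : V ≠ ⊥ := by
    rw [hV, Ne, Subgroup.map_eq_bot_iff_of_injective _ N.subtype_injective]
    exact Group.IsNilpotent.center_ne_bot N
  haveI : V.Normal := inferInstance
  let j : G →* L := H.subtype.comp e.toMonoidHom
  have hj : Function.Injective j := H.subtype_injective.comp e.injective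
  haveI := FpfStruct.pq_cyclic (V := V) (A := A.map j) hV1
    Subgroup.le_normalizer_of_normal (fun a ha ha1 => by
      obtain ⟨y, -, rfl⟩ := ha
      rw [eq_bot_iff, ← hfpf (j y) (e y).2 ha1]
      exact inf_le_inf_right _ (Subgroup.map_subtype_le _)) hp hq
    ((Subgroup.card_map_of_injective hj).trans hA)
  exact (A.equivMapOfInjective j hj).isCyclic.2 this

variable {X : Type*} [Group X] [Finite X]

/-- An element of prime order acting on a cyclic group of coprime order commutes with it if all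
subgroups of order a product of two primes are cyclic. -/
theorem commute_of_pq (hpq : ∀ (p q : ℕ), p.Prime → q.Prime → ∀ A : Subgroup X, Nat.card A = p * q → IsCyclic A)
    {a y : X} {p : ℕ} (hp : p.Prime) (ha : orderOf a = p) (hcop : p.Coprime (orderOf y))
    {s : ℕ} (hs : a * y * a⁻¹ = y ^ s) : Commute a y := by
  set m := orderOf y with hm
  have hm0 : 0 < m := orderOf_pos y
  have hpow : ∀ k : ℕ, a ^ k * y * (a ^ k)⁻¹ = y ^ (s ^ k) := by
    intro k
    induction k with
    | zero => simp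
    | succ k ih =>
      rw [pow_succ' a, show a * a ^ k * y * (a * a ^ k)⁻¹ = a * (a ^ k * y * (a ^ k)⁻¹) * a⁻¹ by group, ih,
        ← conj_pow, hs, ← pow_mul, ← pow_succ']
  have hsp : y ^ (s ^ p) = y ^ 1 := by
    rw [← hpow, ← ha, pow_orderOf_eq_one]; simp
  rw [pow_eq_pow_iff_modEq, ← hm] at hsp
  have hprime : ∀ q : ℕ, q.Prime → q ∣ m → s ≡ 1 [MOD q] := by
    intro q hq hqm
    set b := y ^ (m / q) with hb
    have hbo : orderOf b = q := by
      rw [hb, hm, orderOf_pow_of_dvd (Nat.div_ne_zero_iff.2 ⟨hq.ne_zero, Nat.le_of_dvd hm0 hqm⟩)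
        (Nat.div_dvd_of_dvd hqm), Nat.div_div_self hqm hm0.ne']
    have hconj : a * b * a⁻¹ = b ^ s := by rw [hb, ← conj_pow, hs, ← pow_mul, ← pow_mul, mul_comm]
    have hN : Subgroup.zpowers a ≤ Subgroup.normalizer (Subgroup.zpowers b : Set X) := by
      rw [Subgroup.zpowers_le]
      have hm' : (Subgroup.zpowers b).map (MulAut.conj a).toMonoidHom = Subgroup.zpowers b := by
        refine Subgroup.eq_of_le_of_card_ge ?_ (Subgroup.card_map_of_injective (MulAut.conj a).injective).ge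
        rw [MonoidHom.map_zpowers, Subgroup.zpowers_le]
        show a * b * a⁻¹ ∈ _
        rw [hconj]
        exact Subgroup.npow_mem_zpowers b s
      rw [Subgroup.mem_normalizer_iff]
      intro z
      conv_rhs => rw [← hm']
      rw [Subgroup.mem_map_equiv]
      simp [mul_assoc]
    have hne : p ≠ q := fun h => hp.ne_one (Nat.eq_one_of_dvd_coprimes hcop dvd_rfl (h ▸ hqm))
    have hinf : Subgroup.zpowers a ⊓ Subgroup.zpowers b = ⊥ := Subgroup.inf_eq_bot_of_coprime (by
      rw [Nat.card_zpowers, Nat.card_zpowers, ha, hbo]; exact (Nat.coprime_primes hp hq).2 hne)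
    have hcard : Nat.card (Subgroup.zpowers a ⊔ Subgroup.zpowers b : Subgroup X) = p * q := by
      have h1 := SolvBasic.card_sup_mul_card_inf hN
      rw [inf_comm, hinf, Subgroup.card_bot, mul_one, Nat.card_zpowers, Nat.card_zpowers, ha, hbo] at h1
      rw [sup_comm, h1, mul_comm]
    haveI := hpq p q hp hq _ hcard
    open scoped IsMulCommutative in
    have hc : (⟨a, Subgroup.mem_sup_left (Subgroup.mem_zpowers a)⟩ :
        ↥(Subgroup.zpowers a ⊔ Subgroup.zpowers b)) * ⟨b, Subgroup.mem_sup_right (Subgroup.mem_zpowers b)⟩ =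
        ⟨b, Subgroup.mem_sup_right (Subgroup.mem_zpowers b)⟩ * ⟨a, Subgroup.mem_sup_left (Subgroup.mem_zpowers a)⟩ :=
      mul_comm _ _
    have hc' : a * b * a⁻¹ = b ^ 1 := by
      rw [pow_one, mul_inv_eq_iff_eq_mul]; exact congrArg Subtype.val hc
    rw [hconj, pow_eq_pow_iff_modEq, hbo] at hc'
    exact hc'
  -- cancel the cyclotomic factor
  have h1 : (m : ℤ) ∣ (∑ i ∈ Finset.range p, (s : ℤ) ^ i) * ((s : ℤ) - 1) := by
    rw [geom_sum_mul]
    have := (Nat.modEq_iff_dvd.1 hsp.symm)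
    push_cast at this
    exact this
  have h2 : IsCoprime (m : ℤ) (∑ i ∈ Finset.range p, (s : ℤ) ^ i) := by
    rw [Int.isCoprime_iff_nat_coprime, Int.natAbs_natCast]
    refine Nat.coprime_of_dvd' fun q hq hqm hqS => ?_
    exfalso
    haveI := Fact.mk hq
    have h3 : ((∑ i ∈ Finset.range p, (s : ℤ) ^ i : ℤ) : ZMod q) = 0 :=
      (ZMod.intCast_zmod_eq_zero_iff_dvd _ q).2 (Int.natCast_dvd.2 hqS)
    have h4 : (s : ZMod q) = 1 := by
      rw [← Nat.cast_one, ZMod.natCast_eq_natCast_iff]; exact hprime q hq hqm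
    push_cast at h3
    rw [h4] at h3
    simp only [one_pow, Finset.sum_const, Finset.card_range, nsmul_eq_mul, mul_one] at h3
    rw [ZMod.natCast_eq_zero_iff] at h3
    exact hq.ne_one (Nat.eq_one_of_dvd_coprimes hcop h3 hqm)
  have h5 : (m : ℤ) ∣ (s : ℤ) - 1 := h2.dvd_of_dvd_mul_left h1
  have h6 : y ^ s = y ^ 1 := by
    rw [pow_eq_pow_iff_modEq, ← hm]
    exact (Nat.modEq_iff_dvd.2 (by push_cast; exact h5)).symm
  rw [pow_one] at h6
  show a * y = y * a
  rw [← mul_inv_eq_iff_eq_mul, hs, h6]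

/-- A finite group with cyclic Sylow subgroups in which the groups of order `pq` are cyclic. -/
theorem presentation [IsZGroup X]
    (hpq : ∀ (p q : ℕ), p.Prime → q.Prime → ∀ A : Subgroup X, Nat.card A = p * q → IsCyclic A) :
    ∃ n m r : ℕ, 0 < n ∧ 0 < m ∧ Nat.Coprime (r - 1) m ∧ Nat.Coprime n m ∧ 1 ≤ r ∧
        r ^ (n / ∏ p ∈ n.primeFactors, p) % m = 1 % m ∧
        Nonempty (X ≃* PresentedGroup
          ({FreeGroup.of (0 : Fin 2) ^ n, FreeGroup.of (1 : Fin 2) ^ m,
            (FreeGroup.of (0 : Fin 2))⁻¹ * FreeGroup.of 1 * FreeGroup.of 0 * (FreeGroup.of (1 : Fin 2) ^ r)⁻¹} :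
            Set (FreeGroup (Fin 2)))) := by
  classical
  have hG : IsZGroup X := inferInstance
  obtain ⟨H, hH⟩ := Subgroup.exists_right_complement'_of_coprime hG.coprime_commutator_index
  haveI hHc : IsCyclic H := by
    have e : Abelianization X ≃* H := hH.symm.QuotientMulEquiv
    exact isCyclic_of_surjective e e.surjective
  haveI hDc : IsCyclic (commutator X) := hG.isCyclic_commutator
  set D := commutator X with hD
  haveI hDn : D.Normal := inferInstance
  obtain ⟨x', hx'⟩ := IsCyclic.exists_generator (α := H)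
  obtain ⟨y', hy'⟩ := IsCyclic.exists_generator (α := D)
  set x : X := (x' : X) with hxd
  set y : X := (y' : X) with hyd
  have hDy : D = Subgroup.zpowers y := by
    refine le_antisymm (fun z hz => ?_) (Subgroup.zpowers_le.2 y'.2)
    obtain ⟨k, hk⟩ := Subgroup.mem_zpowers_iff.1 (hy' ⟨z, hz⟩)
    exact ⟨k, by simpa [hyd] using congrArg Subtype.val hk⟩
  have hHx : H = Subgroup.zpowers x := by
    refine le_antisymm (fun z hz => ?_) (Subgroup.zpowers_le.2 x'.2)
    obtain ⟨k, hk⟩ := Subgroup.mem_zpowers_iff.1 (hx' ⟨z, hz⟩)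
    exact ⟨k, by simpa [hxd] using congrArg Subtype.val hk⟩
  set n := orderOf x with hn
  set m := orderOf y with hm
  have hn0 : 0 < n := orderOf_pos x
  have hm0 : 0 < m := orderOf_pos y
  have hcardX : m * n = Nat.card X := by
    rw [hm, hn, ← Nat.card_zpowers, ← Nat.card_zpowers, ← hDy, ← hHx]; exact hH.card_mul
  have hcop : n.Coprime m := by
    have h1 : n = D.index := by rw [hn, ← Nat.card_zpowers, ← hHx, hH.symm.index_eq_card]
    rw [h1, hm, ← Nat.card_zpowers, ← hDy]
    exact hG.coprime_commutator_index.symm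
  obtain ⟨r, hr1, hr⟩ : ∃ r : ℕ, 1 ≤ r ∧ x⁻¹ * y * x = y ^ r := by
    have hmem : x⁻¹ * y * x ∈ Subgroup.zpowers y := by
      rw [← hDy]
      simpa using hDn.conj_mem y y'.2 x⁻¹
    rw [mem_zpowers_iff_mem_range_orderOf, Finset.mem_image] at hmem
    obtain ⟨i, -, hi⟩ := hmem
    refine ⟨i + m, by omega, ?_⟩
    rw [pow_add, pow_orderOf_eq_one, mul_one, hi]
  have hsplit : ∀ g : X, ∃ i j : ℤ, g = y ^ i * x ^ j := by
    intro g
    obtain ⟨⟨⟨d, hd⟩, ⟨h, hh⟩⟩, hg⟩ := hH.2 g
    rw [hDy] at hd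
    rw [hHx] at hh
    obtain ⟨i, rfl⟩ := hd
    obtain ⟨j, rfl⟩ := hh
    exact ⟨i, j, hg.symm⟩
  have hrcop : (r - 1).Coprime m := by
    set D' := Subgroup.zpowers (y ^ (r - 1)) with hD'
    haveI : D'.Normal := by
      refine ⟨fun z hz g => ?_⟩
      obtain ⟨k, rfl⟩ := hz
      have h1 : g * y * g⁻¹ ∈ Subgroup.zpowers y := hDy ▸ hDn.conj_mem y y'.2 g
      obtain ⟨t, ht⟩ := h1
      refine ⟨t * k, ?_⟩
      show (y ^ (r - 1)) ^ (t * k) = g * (y ^ (r - 1)) ^ k * g⁻¹
      rw [← conj_zpow, ← conj_pow, ← show y ^ t = g * y * g⁻¹ from ht,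
        ← zpow_natCast y, ← zpow_natCast (y ^ t), ← zpow_mul, ← zpow_mul, ← zpow_mul]
      congr 1
      ring
    have hq : ∀ a b : X ⧸ D', a * b = b * a := by
      have hxy : Commute (QuotientGroup.mk' D' x) (QuotientGroup.mk' D' y) := by
        rw [commute_iff_eq, ← map_mul, ← map_mul, eq_comm]
        refine (QuotientGroup.eq.2 ?_).symm
        refine ⟨1, ?_⟩
        show (y ^ (r - 1)) ^ (1 : ℤ) = (x * y)⁻¹ * (y * x)
        have e2 : x⁻¹ * y * x = y * y ^ (r - 1) := by rw [hr, ← pow_succ', Nat.sub_add_cancel hr1]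
        rw [zpow_one, show (x * y)⁻¹ * (y * x) = y⁻¹ * (x⁻¹ * y * x) by group, e2, inv_mul_cancel_left]
      intro a b
      induction a using QuotientGroup.induction_on with
      | H a =>
        induction b using QuotientGroup.induction_on with
        | H b =>
          obtain ⟨i, j, rfl⟩ := hsplit a
          obtain ⟨k, l, rfl⟩ := hsplit b
          show QuotientGroup.mk' D' _ * QuotientGroup.mk' D' _ = QuotientGroup.mk' D' _ * QuotientGroup.mk' D' _
          rw [map_mul, map_mul, map_zpow, map_zpow, map_zpow, map_zpow]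
          exact ((Commute.zpow_zpow_self _ i k).mul_right (hxy.symm.zpow_zpow i l)).mul_left
            ((hxy.zpow_zpow j k).mul_right (Commute.zpow_zpow_self _ j l)) |>.eq
    have hle : D ≤ D' := Subgroup.Normal.quotient_commutative_iff_commutator_le.1 ⟨⟨hq⟩⟩
    have h1 : Nat.card D ∣ Nat.card D' := Subgroup.card_dvd_of_le hle
    rw [hD', hDy, Nat.card_zpowers, Nat.card_zpowers, orderOf_pow, ← hm] at h1
    have h2 := Nat.le_of_dvd (Nat.div_pos (Nat.gcd_le_left _ hm0) (Nat.gcd_pos_of_pos_left _ hm0)) h1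
    have h3 : m.gcd (r - 1) = 1 := by
      by_contra h
      have h4 : 1 < m.gcd (r - 1) := by
        have := Nat.gcd_pos_of_pos_left (r - 1) hm0; omega
      exact absurd h2 (not_le.2 (Nat.div_lt_self hm0 h4))
    exact Nat.coprime_comm.1 h3
  -- the elements of prime order of `H` centralise `y`
  have hpowr : ∀ k : ℕ, (x ^ k)⁻¹ * y * x ^ k = y ^ (r ^ k) := by
    intro k
    induction k with
    | zero => simp
    | succ k ih =>
      rw [pow_succ x, show (x ^ k * x)⁻¹ * y * (x ^ k * x) = x⁻¹ * ((x ^ k)⁻¹ * y * x ^ k) * x⁻¹⁻¹ by group,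
        ih, ← conj_pow, inv_inv, hr, ← pow_mul, ← pow_succ']
  set ρ := ∏ p ∈ n.primeFactors, p with hρ
  have hρd : ρ ∣ n := Nat.prod_primeFactors_dvd n
  have hρ0 : 0 < ρ := Nat.pos_of_dvd_of_pos hρd hn0
  set x₀ := x ^ (n / ρ) with hx₀
  have hx₀o : orderOf x₀ = ρ := by
    rw [hx₀, orderOf_pow_of_dvd (Nat.div_pos (Nat.le_of_dvd hn0 hρd) hρ0).ne' (Nat.div_dvd_of_dvd hρd),
      Nat.div_div_self hρd hn0.ne']
  have hcomm : Commute x₀ y := by
    set C := Subgroup.centralizer ({y} : Set X) ⊓ Subgroup.zpowers x₀ with hC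
    have hd : ρ ∣ Nat.card C := by
      rw [hρ]
      refine Finset.prod_primes_dvd _ (fun p hp => (Nat.prime_of_mem_primeFactors hp).prime) fun p hp => ?_
      have hpp := Nat.prime_of_mem_primeFactors hp
      have hpn := Nat.dvd_of_mem_primeFactors hp
      have hpρ : p ∣ ρ := Finset.dvd_prod_of_mem _ hp
      set a := x₀ ^ (ρ / p) with ha
      have hao : orderOf a = p := by
        rw [ha, orderOf_pow_of_dvd (Nat.div_pos (Nat.le_of_dvd hρ0 hpρ) hpp.pos).ne'
          (by rw [hx₀o]; exact Nat.div_dvd_of_dvd hpρ), hx₀o, Nat.div_div_self hpρ hρ0.ne']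
      obtain ⟨s, hs⟩ : ∃ s : ℕ, a * y * a⁻¹ = y ^ s := by
        have hmem : a * y * a⁻¹ ∈ Subgroup.zpowers y := hDy ▸ hDn.conj_mem y y'.2 a
        rw [mem_zpowers_iff_mem_range_orderOf, Finset.mem_image] at hmem
        obtain ⟨i, -, hi⟩ := hmem
        exact ⟨i, hi.symm⟩
      have hc := commute_of_pq hpq hpp hao (hcop.coprime_dvd_left hpn) hs
      have hmemC : a ∈ C := ⟨Subgroup.mem_centralizer_singleton_iff.2 hc.eq,
        Subgroup.npow_mem_zpowers x₀ (ρ / p)⟩
      exact hao ▸ Subgroup.orderOf_dvd_natCard C hmemC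
    have : C = Subgroup.zpowers x₀ := Subgroup.eq_of_le_of_card_ge inf_le_right
      (by rw [Nat.card_zpowers, hx₀o]; exact Nat.le_of_dvd Nat.card_pos hd)
    have hmemC : x₀ ∈ C := this ▸ Subgroup.mem_zpowers x₀
    exact Subgroup.mem_centralizer_singleton_iff.1 hmemC.1
  have hrn : r ^ (n / ρ) % m = 1 % m := by
    have h1 := hpowr (n / ρ)
    rw [← hx₀, mul_assoc, ← hcomm.eq, inv_mul_cancel_left] at h1
    have h2 : y ^ (r ^ (n / ρ)) = y ^ 1 := by rw [← h1, pow_one]
    exact pow_eq_pow_iff_modEq.1 h2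
  refine ⟨n, m, r, hn0, hm0, hrcop, hcop, hr1, hrn, ?_⟩
  set rels := ({FreeGroup.of (0 : Fin 2) ^ n, FreeGroup.of (1 : Fin 2) ^ m,
    (FreeGroup.of (0 : Fin 2))⁻¹ * FreeGroup.of 1 * FreeGroup.of 0 * (FreeGroup.of (1 : Fin 2) ^ r)⁻¹} :
      Set (FreeGroup (Fin 2))) with hrels
  let φ : Fin 2 → X := ![x, y]
  have hφ : ∀ w ∈ rels, FreeGroup.lift φ w = 1 := by
    rintro w (rfl | rfl | rfl)
    · simp [φ, hn, pow_orderOf_eq_one]
    · simp [φ, hm, pow_orderOf_eq_one]
    · simp [φ, hr]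
  let f := PresentedGroup.toGroup hφ
  set a : PresentedGroup rels := PresentedGroup.of 0 with ha
  set b : PresentedGroup rels := PresentedGroup.of 1 with hb
  have hfs : Function.Surjective f := by
    intro g
    obtain ⟨i, j, rfl⟩ := hsplit g
    refine ⟨b ^ i * a ^ j, ?_⟩
    rw [map_mul, map_zpow, map_zpow, hb, ha, PresentedGroup.toGroup.of, PresentedGroup.toGroup.of]
    rfl
  have rel : ∀ w ∈ rels, PresentedGroup.mk rels w = 1 := fun w hw =>
    (QuotientGroup.eq_one_iff w).2 (Subgroup.subset_normalClosure hw)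
  have han : a ^ n = 1 := rel _ (Or.inl rfl)
  have hbm : b ^ m = 1 := rel _ (Or.inr (Or.inl rfl))
  have hab : a⁻¹ * b * a = b ^ r := mul_inv_eq_one.1 (rel _ (Or.inr (Or.inr rfl)))
  have habk : ∀ c : ℕ, b * a ^ c = a ^ c * b ^ (r ^ c) := by
    intro c
    induction c with
    | zero => simp
    | succ c ih =>
      have h1 : ∀ d : ℕ, b ^ d * a = a * b ^ (d * r) := fun d => by
        have h2 := congrArg (· ^ d) hab
        simp only [← pow_mul] at h2
        rw [show a⁻¹ * b * a = a⁻¹ * b * a⁻¹⁻¹ by group, conj_pow, inv_inv, mul_comm r d] at h2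
        rw [← h2]
        group
      rw [pow_succ a, ← mul_assoc, ih, mul_assoc, h1, ← mul_assoc, ← pow_succ, ← pow_succ]
  have hnf : ∀ g : PresentedGroup rels, ∃ i j : ℕ, g = a ^ i * b ^ j := by
    have hmul : ∀ g h : PresentedGroup rels, (∃ i j : ℕ, g = a ^ i * b ^ j) →
        (∃ i j : ℕ, h = a ^ i * b ^ j) → ∃ i j : ℕ, g * h = a ^ i * b ^ j := by
      rintro g h ⟨i, j, rfl⟩ ⟨k, l, rfl⟩
      refine ⟨i + k, r ^ k * j + l, ?_⟩
      have h1 : b ^ j * a ^ k = a ^ k * b ^ (r ^ k * j) := by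
        induction j with
        | zero => simp
        | succ j ih =>
          rw [pow_succ, mul_assoc, habk, ← mul_assoc, ih, mul_assoc, ← pow_add, Nat.mul_succ]
      rw [pow_add, pow_add, mul_assoc, ← mul_assoc (b ^ j), h1]
      simp [mul_assoc]
    intro g
    have hg : g ∈ Subgroup.closure (Set.range (PresentedGroup.of (rels := rels))) := by
      rw [PresentedGroup.closure_range_of]; trivial
    induction hg using Subgroup.closure_induction with
    | mem z hz =>
      obtain ⟨i, rfl⟩ := hz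
      fin_cases i
      · exact ⟨1, 0, by simp [ha]⟩
      · exact ⟨0, 1, by simp [hb]⟩
    | one => exact ⟨0, 0, by simp⟩
    | mul u v _ _ h1 h2 => exact hmul u v h1 h2
    | inv u _ h1 =>
      obtain ⟨i, j, rfl⟩ := h1
      rw [mul_inv_rev]
      refine hmul _ _ ⟨0, j * (m - 1), ?_⟩ ⟨i * (n - 1), 0, ?_⟩
      · rw [pow_zero, one_mul, inv_eq_iff_mul_eq_one, ← pow_add]
        rw [show j + j * (m - 1) = m * j by
          obtain ⟨t, ht⟩ : ∃ t, m = t + 1 := ⟨m - 1, by omega⟩
          rw [ht, Nat.add_sub_cancel]; ring, pow_mul, hbm, one_pow]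
      · rw [pow_zero, mul_one, inv_eq_iff_mul_eq_one, ← pow_add]
        rw [show i + i * (n - 1) = n * i by
          obtain ⟨t, ht⟩ : ∃ t, n = t + 1 := ⟨n - 1, by omega⟩
          rw [ht, Nat.add_sub_cancel]; ring, pow_mul, han, one_pow]
  have hsurj : Function.Surjective fun p : Fin n × Fin m => a ^ (p.1 : ℕ) * b ^ (p.2 : ℕ) := by
    intro g
    obtain ⟨i, j, rfl⟩ := hnf g
    refine ⟨(⟨i % n, Nat.mod_lt _ hn0⟩, ⟨j % m, Nat.mod_lt _ hm0⟩), ?_⟩
    show a ^ (i % n) * b ^ (j % m) = _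
    rw [← pow_eq_pow_mod i han, ← pow_eq_pow_mod j hbm]
  haveI : Finite (PresentedGroup rels) := Finite.of_surjective _ hsurj
  have hle : Nat.card (PresentedGroup rels) ≤ Nat.card X := by
    refine (Nat.card_le_card_of_surjective _ hsurj).trans ?_
    rw [Nat.card_prod, Nat.card_fin, Nat.card_fin, ← hcardX, mul_comm]
  exact ⟨(MulEquiv.ofBijective f ((Nat.bijective_iff_surjective_and_card f).2
    ⟨hfs, le_antisymm hle (Nat.card_le_card_of_surjective f hfs)⟩)).symm⟩

end Cfsg.Agent.S3358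


set_option autoImplicit false
open Cfsg

namespace Cfsg.Agent.S3358

/-- Structure of solvable Frobenius complements. Let G be a finite solvable group that occurs as a Frobenius complement. Then G has a normal subgroup G₀ such that G/G₀ is isomorphic to a subgroup of Sym(4) (G₀ is the kernel of a homomorphism to Sym(4)), all Sylow subgroups of G₀ are cyclic, and G₀ has a presentation ⟨x, y | x^n = 1, y^m = 1, x⁻¹ y x = y^r⟩ with n, m ≥ 1, gcd(r − 1, m) = gcd(n, m) = 1 and r^(n/n′) ≡ 1 (mod m), where n′ is the product of the distinct primes dividing n. -/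
theorem result {G : Type*} [Group G] [Finite G] (hsol : Group.IsSolvable G)
    (hFC : ∃ (L : Type) (_ : Group L) (_ : Finite L) (H : Subgroup L), Cfsg.IsFrobeniusComplement H ∧ Nonempty (G ≃* H)) :
    ∃ G₀ : Subgroup G, G₀.Normal ∧
      (∃ f : G →* Equiv.Perm (Fin 4), f.ker = G₀) ∧
      (∀ (p : ℕ) [Fact p.Prime] (P : Sylow p G₀), IsCyclic P) ∧
      ∃ n m r : ℕ, 0 < n ∧ 0 < m ∧ Nat.Coprime (r - 1) m ∧ Nat.Coprime n m ∧ 1 ≤ r ∧
        r ^ (n / ∏ p ∈ n.primeFactors, p) % m = 1 % m ∧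
        Nonempty (G₀ ≃* PresentedGroup
          ({FreeGroup.of (0 : Fin 2) ^ n, FreeGroup.of (1 : Fin 2) ^ m,
            (FreeGroup.of (0 : Fin 2))⁻¹ * FreeGroup.of 1 * FreeGroup.of 0 * (FreeGroup.of (1 : Fin 2) ^ r)⁻¹} :
            Set (FreeGroup (Fin 2)))) := by
  obtain ⟨L, _, _, H, hH, ⟨e⟩⟩ := hFC
  obtain ⟨N, h1, h2, -, hperm, -⟩ :=
    Cfsg.Agent.S4291.solvable_case hsol (Cfsg.Agent.FrobQuot.abCyclic_of_complement hH e)
  haveI := h2
  refine ⟨N, h1, ?_, fun p hp P => h2.isZGroup p hp.out P, presentation fun p q hp hq A hA => ?_⟩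
  · rcases hperm with h | h
    · exact ⟨1, by rw [h, MonoidHom.ker_one]⟩
    · exact h
  · haveI := pq_of_complement hH e hp hq (A.map N.subtype)
      ((Subgroup.card_map_of_injective N.subtype_injective).trans hA)
    exact (A.equivMapOfInjective N.subtype N.subtype_injective).isCyclic.2 this

end Cfsg.Agent.S3358
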