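import Cfsg.Statements.S3361
import Cfsg.Agent.Lib.NearField.Quaternion
import Cfsg.Agent.Lib.NearField.SL23
import Cfsg.Agent.Lib.Small.Burnside
import Cfsg.Agent.S3356
import Mathlib.Algebra.Field.TransferInstance
import Mathlib.GroupTheory.Perm.Fin
import Mathlib.GroupTheory.NoncommCoprod

set_option autoImplicit false
open Cfsg

namespace Cfsg.Agent.S3361

open NearField

theorem arith_table : ∀ e ∈ Finset.range 5, ∀ q ∈ Finset.range 96, ∀ d ∈ Finset.range 5,
    3 ≤ q → 0 < e → 2 ≤ d → q ^ e ≤ 95 → ((q ^ e) ^ d - 1) ∣ (q ^ e - 1) * (24 * e) →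
    Nat.Prime q → e = 1 ∧ d = 2 ∧ (q = 3 ∨ q = 5 ∨ q = 7 ∨ q = 11 ∨ q = 23) := by
  decide +kernel

theorem arith {q e d : ℕ} (hq : q.Prime) (hq3 : 3 ≤ q) (he : 0 < e) (hd : 2 ≤ d)
    (h : ((q ^ e) ^ d - 1) ∣ (q ^ e - 1) * (24 * e)) :
    e = 1 ∧ d = 2 ∧ (q = 3 ∨ q = 5 ∨ q = 7 ∨ q = 11 ∨ q = 23) := by
  have hK : 3 ^ e ≤ q ^ e := Nat.pow_le_pow_left hq3 e
  have h3 : 3 ≤ 3 ^ e := by
    calc (3 : ℕ) = 3 ^ 1 := (pow_one 3).symm
      _ ≤ _ := Nat.pow_le_pow_right (by norm_num) he
  have hK3 : 3 ≤ q ^ e := h3.trans hK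
  have hle := Nat.le_of_dvd (Nat.mul_pos (by omega) (by omega)) h
  obtain ⟨k, hk⟩ : ∃ k, q ^ e = k + 1 := ⟨q ^ e - 1, by omega⟩
  have hsq : ∀ j ≤ d, (q ^ e) ^ j ≤ (q ^ e) ^ d := fun j hj => Nat.pow_le_pow_right (by omega) hj
  rw [hk, Nat.add_sub_cancel] at hle
  have hk2 : 2 ≤ k := by omega
  have h1 : q ^ e + 1 ≤ 24 * e := by
    have h2 := hsq 2 hd
    rw [hk] at h2 ⊢
    have h5 : (k + 1) ^ 2 ≤ k * (24 * e) + 1 := by omega
    nlinarith
  have he4 : e ≤ 4 := by
    by_contra he5
    have key : ∀ j, 5 ≤ j → 24 * j < 3 ^ j := by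
      intro j hj
      induction j, hj using Nat.le_induction with
      | base => norm_num
      | succ j hj ih => rw [pow_succ]; omega
    have := key e (by omega)
    omega
  have hd4 : d ≤ 4 := by
    by_contra hd5
    have h2 := hsq 5 (by omega)
    rw [hk] at h2
    have h5 : (k + 1) ^ 5 ≤ k * (24 * e) + 1 := by omega
    have h27 : 27 ≤ (k + 1) ^ 3 := by
      calc 27 = 3 ^ 3 := by norm_num
        _ ≤ (k + 1) ^ 3 := Nat.pow_le_pow_left (by omega) 3
    have h6 : 27 * (k + 1) ^ 2 ≤ (k + 1) ^ 5 := by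
      rw [show (k + 1) ^ 5 = (k + 1) ^ 3 * (k + 1) ^ 2 by ring]
      exact Nat.mul_le_mul_right _ h27
    nlinarith
  exact arith_table e (Finset.mem_range.mpr (by omega)) q (Finset.mem_range.mpr (by
    have := Nat.le_self_pow he.ne' q; omega)) d (Finset.mem_range.mpr (by omega)) hq3 he hd
    (by omega) h hq

/-- Two endomorphism-like maps of the quaternion group agreeing on a generating pair are equal. -/
theorem q8_ext {M : Type*} [Monoid M] (f g : QuaternionGroup 2 →* M) (a b : QuaternionGroup 2)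
    (hab : a * b ≠ b * a) (ha : f a = g a) (hb : f b = g b) : f = g := by
  ext u
  have := q8_cover a b u hab
  simp only [List.mem_cons, List.not_mem_nil, or_false] at this
  rcases this with rfl | rfl | rfl | rfl | rfl | rfl | rfl | rfl <;>
    simp only [map_one, map_mul, ha, hb]

theorem q8_next : ∀ a b w : QuaternionGroup 2, a * b ≠ b * a → b * w ≠ w * b → w * a ≠ a * w →
    w = a * b ∨ w = b * a := by decide +kernel

theorem q8_aba : ∀ a b : QuaternionGroup 2, a * b ≠ b * a → a * b * a = b := by decide +kernel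

theorem q8_comm : ∀ a u : QuaternionGroup 2, a * a ≠ 1 → a * u = u * a →
    u * u ≠ 1 → u = a ∨ u = a * (a * a) := by decide +kernel

theorem q8_central_sq : ∀ a : QuaternionGroup 2, a * a ≠ 1 → ∃ b, a * b ≠ b * a := by
  decide +kernel

theorem q8_base : (QuaternionGroup.a 1 : QuaternionGroup 2) * QuaternionGroup.xa 0 ≠
    QuaternionGroup.xa 0 * QuaternionGroup.a 1 := by decide +kernel

/-- The automorphism interchanging the two generators. -/
def tauFun : QuaternionGroup 2 → QuaternionGroup 2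
  | .a i => QuaternionGroup.xa 0 ^ i.val
  | .xa i => QuaternionGroup.a 1 * QuaternionGroup.xa 0 ^ i.val

theorem tau_invol : ∀ u, tauFun (tauFun u) = u := by decide +kernel

/-- The interchanging permutation. -/
def tau : Equiv.Perm (QuaternionGroup 2) := ⟨tauFun, tauFun, tau_invol, tau_invol⟩

theorem tau_sign : Equiv.Perm.sign tau ≠ 1 := by decide +kernel

/-- As a homomorphism. -/
def tauHom : QuaternionGroup 2 →* QuaternionGroup 2 where
  toFun := tauFun
  map_one' := by decide +kernel
  map_mul' := by decide +kernel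

theorem index_two_of_even_cyclic {G : Type*} [Group G] [Finite G] (N : Subgroup G) [N.Normal]
    (hc : IsCyclic (G ⧸ N)) (h2 : 2 ∣ N.index) : ∃ M : Subgroup G, M.Normal ∧ M.index = 2 := by
  haveI : Fact (Nat.Prime 2) := ⟨Nat.prime_two⟩
  obtain ⟨T⟩ : Nonempty (Sylow 2 (G ⧸ N)) := inferInstance
  obtain ⟨H, hH⟩ := Small.exists_index_two_of_cyclic
    (even_iff_two_dvd.mpr (by rwa [← Subgroup.index_eq_card])) T inferInstance
  refine ⟨H.comap (QuotientGroup.mk' N), ?_, ?_⟩
  · haveI := Subgroup.normal_of_index_eq_two hH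
    exact Subgroup.normal_comap _
  · rw [Subgroup.index_comap_of_surjective _ (QuotientGroup.mk'_surjective N), hH]

section Main

variable {q : ℕ} [Fact q.Prime] {V : Type*} [AddCommGroup V] [Module (ZMod q) V] [Finite V]
  [Nontrivial V] {G : Type*} [Group G] [Finite G] {ρ : G →* (V ≃ₗ[ZMod q] V)}

theorem even_card (h : Reg ρ) (hq : q ≠ 2) : 2 ∣ Nat.card G := by
  have h1 := card_space h
  have hodd : Odd (Nat.card V) := by
    obtain ⟨n, hn⟩ : ∃ n, Nat.card V = Nat.card (ZMod q) ^ n := ⟨_, Module.natCard_eq_pow_finrank⟩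
    rw [hn, Nat.card_zmod]
    exact ((Fact.out : q.Prime).odd_of_ne_two hq).pow
  obtain ⟨k, hk⟩ := hodd
  exact ⟨k, by omega⟩

/-- A type without algebraic structure of its own. -/
def Carrier (n : ℕ) : Type := Fin n

theorem semilinear (h : Reg ρ) (A : Subgroup G) [A.Normal] [IsMulCommutative A]
    (hb : ∀ v₀ : V, v₀ ≠ 0 → Function.Bijective
      fun k : span ρ A => (k : Module.End (ZMod q) V) v₀) :
    ∃ (F : Type) (_ : Field F) (_ : Fintype F) (e : V ≃+ F),
      ∀ g : G, ∃ (a : F) (σ : F ≃+* F), ∀ v : V, e (ρ g v) = a * σ (e v) := by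
  haveI : Finite (Module.End (ZMod q) V) := Finite.of_injective _ DFunLike.coe_injective
  letI := (isField_span h A).toField
  obtain ⟨v₀, hv₀⟩ := exists_ne (0 : V)
  let ev : span ρ A ≃+ V := AddEquiv.ofBijective
    (AddMonoidHom.mk' (fun k : span ρ A => (k : Module.End (ZMod q) V) v₀) fun a b => rfl) (hb v₀ hv₀)
  let f : Carrier (Nat.card (span ρ A)) ≃ span ρ A := (Finite.equivFin (span ρ A)).symm
  letI := Fintype.ofFinite (span ρ A)
  letI : Fintype (Carrier (Nat.card (span ρ A))) := Fintype.ofEquiv _ f.symm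
  letI : Field (Carrier (Nat.card (span ρ A))) := f.field
  let re : Carrier (Nat.card (span ρ A)) ≃+* span ρ A := f.ringEquiv
  refine ⟨Carrier (Nat.card (span ρ A)), inferInstance, inferInstance, ev.symm.trans re.symm.toAddEquiv,
    fun g => ⟨re.symm (ev.symm (ρ g v₀)), (re.trans (conjAut A g)).trans re.symm, fun v => ?_⟩⟩
  obtain ⟨k, rfl⟩ := ev.surjective v
  show re.symm (ev.symm (ρ g (ev k))) =
    re.symm (ev.symm (ρ g v₀)) * re.symm (conjAut A g (re (re.symm (ev.symm (ev k)))))
  rw [RingEquiv.apply_symm_apply, AddEquiv.symm_apply_apply, ← map_mul re.symm]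
  congr 1
  obtain ⟨w, hw⟩ := ev.surjective (ρ g v₀)
  rw [← hw, AddEquiv.symm_apply_apply, AddEquiv.symm_apply_eq]
  show ρ g ((k : Module.End (ZMod q) V) v₀) = _
  rw [← conjAut_apply A g k v₀, ← hw]
  show _ = ((w * conjAut A g k : span ρ A) : Module.End (ZMod q) V) v₀
  rw [mul_comm w]
  rfl

theorem centralizer_eq_of_line (h : Reg ρ) (A : Subgroup G) [A.Normal] [IsMulCommutative A]
    (hmax : ∀ B : Subgroup G, B.Normal → IsMulCommutative B → A ≤ B → B = A)
    (hC : ∀ c, conjAut (ρ := ρ) A c = 1 ↔ c ∈ Subgroup.centralizer (A : Set G))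
    (hb : ∀ v₀ : V, v₀ ≠ 0 → Function.Bijective
      fun k : span ρ A => (k : Module.End (ZMod q) V) v₀) :
    Subgroup.centralizer (A : Set G) = A := by
  obtain ⟨v₀, hv₀⟩ := exists_ne (0 : V)
  have hlin : ∀ c ∈ Subgroup.centralizer (A : Set G), ∀ (k : span ρ A) (v : V),
      ρ c ((k : Module.End (ZMod q) V) v) = (k : Module.End (ZMod q) V) (ρ c v) := by
    intro c hc k v
    have := conjAut_apply A c k v
    rw [(hC c).mpr hc] at this
    exact this.symm
  refine hmax _ inferInstance ⟨⟨fun a b => Subtype.ext (h.inj (LinearEquiv.ext fun v => ?_))⟩⟩ ?_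
  · obtain ⟨k, rfl⟩ := (hb v₀ hv₀).2 v
    obtain ⟨i, hi⟩ := (hb v₀ hv₀).2 (ρ a.1 v₀)
    obtain ⟨j, hj⟩ := (hb v₀ hv₀).2 (ρ b.1 v₀)
    simp only at hi hj
    show ρ (a.1 * b.1) _ = ρ (b.1 * a.1) _
    rw [act_mul, act_mul, hlin b.1 b.2, hlin a.1 a.2, hlin a.1 a.2, hlin b.1 b.2, ← hj, ← hi,
      hlin a.1 a.2, hlin b.1 b.2, ← hj, ← hi]
    congr 1
    show ((j : Module.End (ZMod q) V) * i) v₀ = ((i : Module.End (ZMod q) V) * j) v₀
    rw [span_comm A _ j.2 _ i.2]
  · exact Subgroup.le_centralizer A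

/-- Conjugation of a normal subgroup on its non-commuting pairs. -/
@[implicit_reducible]
def pairAct (C P : Subgroup G) [P.Normal] :
    MulAction C {p : P × P // p.1 * p.2 ≠ p.2 * p.1} where
  smul g p := ⟨(MulAut.conjNormal (g : G) p.1.1, MulAut.conjNormal (g : G) p.1.2), by
    rw [← map_mul, ← map_mul]
    exact fun e => p.2 ((MulAut.conjNormal (g : G)).injective e)⟩
  one_smul p := Subtype.ext (Prod.ext (by
    show MulAut.conjNormal ((1 : C) : G) p.1.1 = p.1.1
    rw [Subgroup.coe_one, map_one]; rfl) (by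
    show MulAut.conjNormal ((1 : C) : G) p.1.2 = p.1.2
    rw [Subgroup.coe_one, map_one]; rfl))
  mul_smul g g' p := Subtype.ext (Prod.ext (by
    show MulAut.conjNormal ((g * g' : C) : G) p.1.1 = _
    rw [Subgroup.coe_mul, map_mul]; rfl) (by
    show MulAut.conjNormal ((g * g' : C) : G) p.1.2 = _
    rw [Subgroup.coe_mul, map_mul]; rfl))

end Main

/-- Let q be a prime and V a non-trivial finite vector space over the field with q elements, and let G be a finite solvable group acting faithfully and linearly on V and regularly on the non-zero vectors (transitively, with only the identity fixing a non-zero vector). Then either V can be identified with the additive group of a finite field F so that every element of G acts as x ↦ a·σ(x) (a ∈ F, σ a field automorphism), or V has 5^2, 7^2, 11^2 or 23^2 elements. Moreover, if q ≠ 2 then G has a normal subgroup of index 2, except that when V has 25 elements G may be isomorphic to SL(2,3) and when V has 121 elements G may be isomorphic to SL(2,3)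 × C₅. -/
theorem result
    (q : ℕ) [Fact q.Prime] {V : Type*} [AddCommGroup V] [Module (ZMod q) V] [Finite V] [Nontrivial V]
    {G : Type*} [Group G] [Finite G] (hsol : Group.IsSolvable G)
    (ρ : G →* (V ≃ₗ[ZMod q] V)) (hρ : Function.Injective ρ)
    (htrans : ∀ v w : V, v ≠ 0 → w ≠ 0 → ∃ g : G, ρ g v = w)
    (hreg : ∀ v : V, v ≠ 0 → ∀ g : G, ρ g v = v → g = 1) :
    ((∃ (F : Type) (_ : Field F) (_ : Fintype F) (e : V ≃+ F),
        ∀ g : G, ∃ (a : F) (σ : F ≃+* F), ∀ v : V, e (ρ g v) = a * σ (e v)) ∨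
      Nat.card V ∈ ({25, 49, 121, 529} : Set ℕ)) ∧
    (q ≠ 2 → (∃ N : Subgroup G, N.Normal ∧ N.index = 2) ∨
      (Nat.card V = 25 ∧ Nonempty (G ≃* Matrix.SpecialLinearGroup (Fin 2) (ZMod 3))) ∨
      (Nat.card V = 121 ∧ Nonempty (G ≃* Matrix.SpecialLinearGroup (Fin 2) (ZMod 3) × Multiplicative (ZMod 5)))) := by
  haveI := hsol
  have h : Reg ρ := ⟨hρ, htrans, hreg⟩
  haveI : Fact (Nat.Prime 2) := ⟨Nat.prime_two⟩
  obtain ⟨A, -, ⟨hAn, hAc⟩, hAmax⟩ := Finite.exists_le_maximal
    (p := fun B : Subgroup G => B.Normal ∧ IsMulCommutative B) (a := ⊥)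
    ⟨inferInstance, ⟨⟨fun a b => Subsingleton.elim _ _⟩⟩⟩
  haveI := hAn
  haveI := hAc
  have hmax : ∀ B : Subgroup G, B.Normal → IsMulCommutative B → A ≤ B → B = A :=
    fun B h1 h2 h3 => le_antisymm (hAmax ⟨h1, h2⟩ h3) h3
  obtain ⟨e, d, he, hd, hK, hV, hAdvd, hAcyc, hRcyc, hRdvd, hC, hb⟩ := field_data h A
  set C := Subgroup.centralizer (A : Set G) with hCdef
  have hker : (conjAut (ρ := ρ) A).ker = C := by
    ext c; rw [MonoidHom.mem_ker]; exact hC c
  have hCidx : C.index = Nat.card (conjAut (ρ := ρ) A).range := by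
    rw [← hker, Subgroup.index_ker]
  have hKe : e < q ^ e := Nat.lt_pow_self (Fact.out : q.Prime).one_lt
  have hAC : A ≤ C := Subgroup.le_centralizer A
  by_cases hd1 : d = 1
  · have hCA : C = A := centralizer_eq_of_line h A hmax hC (hb hd1)
    refine ⟨Or.inl (semilinear h A (hb hd1)), fun hq2 => Or.inl ?_⟩
    have hev := even_card h hq2
    by_cases h2 : 2 ∣ A.index
    · refine index_two_of_even_cyclic A ?_ h2
      have eA : A = (conjAut (ρ := ρ) A).ker := hCA.symm.trans hker.symm
      haveI := hRcyc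
      exact (((QuotientGroup.quotientMulEquivOfEq eA).trans
        (QuotientGroup.quotientKerEquivRange _)).isCyclic).mpr inferInstance
    · obtain ⟨T⟩ : Nonempty (Sylow 2 G) := inferInstance
      have hTA : (T : Subgroup G) ≤ A := by
        intro t ht
        obtain ⟨j, hj⟩ := T.2 ⟨t, ht⟩
        have htj : t ^ 2 ^ j = 1 := congrArg Subtype.val hj
        have hcop : Nat.Coprime A.index (2 ^ j) :=
          Nat.Coprime.pow_right _ (Nat.prime_two.coprime_iff_not_dvd.mpr h2).symm
        have h1 : orderOf t ∣ 2 ^ j := orderOf_dvd_of_pow_eq_one htj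
        have h2' : Nat.Coprime A.index (orderOf t) := Nat.Coprime.of_dvd_right h1 hcop
        obtain ⟨m, hm⟩ := exists_pow_eq_self_of_coprime h2'
        rw [← hm]
        exact pow_mem (Subgroup.pow_index_mem A t) m
      have hTc : IsCyclic (T : Subgroup G) :=
        isCyclic_of_injective (Subgroup.inclusion hTA) (Subgroup.inclusion_injective hTA)
      obtain ⟨H, hH⟩ := Small.exists_index_two_of_cyclic (even_iff_two_dvd.mpr hev) T hTc
      exact ⟨H, Subgroup.normal_of_index_eq_two hH, hH⟩
  -- the exceptional case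
  have hd2 : 2 ≤ d := by omega
  have hG1 := card_space h
  have hCA : C ≠ A := by
    intro e'
    have h1 : Nat.card G ∣ (q ^ e - 1) * e := by
      rw [← A.card_mul_index]
      exact Nat.mul_dvd_mul hAdvd (by rw [← e', hCidx]; exact hRdvd)
    have hK1 : 1 < q ^ e := Nat.one_lt_pow he.ne' (Fact.out : q.Prime).one_lt
    have h2 := Nat.le_of_dvd (Nat.mul_pos (by omega) he) h1
    have h3 : (q ^ e) ^ 2 ≤ (q ^ e) ^ d := Nat.pow_le_pow_right (by omega) hd2
    have h4 : (q ^ e - 1) * e + q ^ e ≤ q ^ e * q ^ e := by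
      obtain ⟨k, hk⟩ : ∃ k, q ^ e = k + 1 := ⟨q ^ e - 1, by omega⟩
      rw [hk, Nat.add_sub_cancel]
      have := Nat.mul_le_mul_left k (show e ≤ k + 1 by omega)
      rw [show (k + 1) * (k + 1) = k * (k + 1) + (k + 1) by ring]
      omega
    rw [← pow_two] at h4
    omega
  haveI hCn : C.Normal := by rw [← hker]; exact MonoidHom.normal_ker _
  obtain ⟨hA2, hA4, P, hPn, hPC, ⟨e8⟩⟩ := exists_quaternion h A hmax C hAC le_rfl hCA
  haveI := hPn
  have hPA : ∀ a ∈ A, ∀ u ∈ P, a * u = u * a := fun a ha u hu =>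
    Subgroup.mem_centralizer_iff.mp (hPC hu) a ha
  have hq2 : q ≠ 2 := by
    rintro rfl
    exact not_dvd_card h (hA2.trans (Subgroup.card_subgroup_dvd_card A))
  have hq3 : 3 ≤ q := by have := (Fact.out : q.Prime).two_le; omega
  -- the kernel of the action on the quaternion group
  set C1 := C ⊓ Subgroup.centralizer (P : Set G) with hC1
  have hC1A : C1 = A := by
    by_contra hne
    haveI : (Subgroup.centralizer (P : Set G)).Normal := inferInstance
    haveI : C1.Normal := inferInstance
    obtain ⟨-, -, P', -, hP'le, ⟨e8'⟩⟩ := exists_quaternion h A hmax C1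
      (le_inf hAC fun a ha => Subgroup.mem_centralizer_iff.mpr fun u hu => (hPA a ha u hu).symm)
      inf_le_left hne
    set u : P' := e8'.symm (QuaternionGroup.a 1) with hu
    set v : P := e8.symm (QuaternionGroup.a 1) with hv
    have h4 : ∀ (Q : Subgroup G) (f : Q ≃* QuaternionGroup 2),
        ((f.symm (QuaternionGroup.a 1) : Q) : G) ^ 4 = 1 ∧
        ((f.symm (QuaternionGroup.a 1) : Q) : G) ^ 2 ≠ 1 := by
      intro Q f
      refine ⟨?_, fun e' => ?_⟩
      · rw [← Subgroup.coe_pow, ← map_pow, show (QuaternionGroup.a 1 : QuaternionGroup 2) ^ 4 = 1 by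
          decide +kernel, map_one, Subgroup.coe_one]
      · rw [← Subgroup.coe_pow, ← map_pow, OneMemClass.coe_eq_one, MulEquiv.map_eq_one_iff] at e'
        exact absurd e' (by decide +kernel)
    obtain ⟨hu4, hu2⟩ := h4 P' e8'
    obtain ⟨hv4, hv2⟩ := h4 P e8
    rw [← hu] at hu4 hu2
    rw [← hv] at hv4 hv2
    have huc : ∀ w ∈ P, (u : G) * w = w * u := fun w hw =>
      (Subgroup.mem_centralizer_iff.mp (hP'le u.2).2 w hw).symm
    have hsq : (u : G) ^ 2 = (v : G) ^ 2 :=
      involution_unique h (by rw [← pow_mul]; exact hu4) hu2 (by rw [← pow_mul]; exact hv4) hv2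
    have hP : (u : G) ∈ P := by
      have huv : Commute (u : G) v := huc v v.2
      have h1 : ((u : G) * (v : G)⁻¹) ^ 2 = 1 := by
        rw [huv.inv_right.mul_pow, hsq, inv_pow, mul_inv_cancel]
      rcases eq_or_ne ((u : G) * (v : G)⁻¹) 1 with e' | e'
      · rw [mul_inv_eq_one] at e'; exact e' ▸ v.2
      · have := involution_unique h h1 e' (by rw [← pow_mul]; exact hv4) hv2
        rw [mul_inv_eq_iff_eq_mul] at this
        rw [this]
        exact mul_mem (pow_mem v.2 2) v.2
    obtain ⟨b, hb'⟩ := q8_central_sq (e8 ⟨u, hP⟩) (fun e' => hu2 (by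
      rw [← map_mul, MulEquiv.map_eq_one_iff] at e'
      rw [pow_two]; exact congrArg Subtype.val e'))
    refine hb' ?_
    rw [← e8.apply_symm_apply b, ← map_mul, ← map_mul]
    exact congrArg e8 (Subtype.ext (huc _ (e8.symm b).2))
  -- the free action on the twenty four pairs
  let X := {p : P × P // p.1 * p.2 ≠ p.2 * p.1}
  letI := pairAct C P
  have hX : Nat.card X = 24 := by
    rw [← q8_card_pairs, ← Nat.card_eq_fintype_card]
    refine Nat.card_congr ((e8.toEquiv.prodCongr e8.toEquiv).subtypeEquiv fun p => ?_)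
    show _ ↔ e8 p.1 * e8 p.2 ≠ e8 p.2 * e8 p.1
    rw [← map_mul, ← map_mul, e8.injective.ne_iff]
  have hconj : ∀ (g : G) (u : P), MulAut.conjNormal g u = u ↔ g * (u : G) = u * g := fun g u => by
    rw [Subtype.ext_iff, MulAut.conjNormal_apply, mul_inv_eq_iff_eq_mul]
  have hstab : ∀ p : X, MulAction.stabilizer C p = A.subgroupOf C := by
    intro p
    ext g
    rw [MulAction.mem_stabilizer_iff, Subgroup.mem_subgroupOf]
    constructor
    · intro hg
      rw [← hC1A]
      refine ⟨g.2, Subgroup.mem_centralizer_iff.mpr fun w hw => ?_⟩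
      have h1 : MulAut.conjNormal (g : G) p.1.1 = p.1.1 := congrArg (fun z : X => z.1.1) hg
      have h2 : MulAut.conjNormal (g : G) p.1.2 = p.1.2 := congrArg (fun z : X => z.1.2) hg
      have hab : e8 p.1.1 * e8 p.1.2 ≠ e8 p.1.2 * e8 p.1.1 := fun e' =>
        p.2 (e8.injective (by rw [map_mul, map_mul]; exact e'))
      have := q8_ext ((MulAut.conjNormal (g : G) : MulAut P).toMonoidHom.comp e8.symm.toMonoidHom)
        e8.symm.toMonoidHom _ _ hab (by simpa using h1) (by simpa using h2)
      have h3 := DFunLike.congr_fun this (e8 ⟨w, hw⟩)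
      simp only [MonoidHom.coe_comp, MulEquiv.coe_toMonoidHom, Function.comp_apply,
        MulEquiv.symm_apply_apply] at h3
      exact ((hconj _ _).mp h3).symm
    · intro hg
      exact Subtype.ext (Prod.ext ((hconj _ _).mpr (hPA _ hg _ p.1.1.2))
        ((hconj _ _).mpr (hPA _ hg _ p.1.2.2)))
  have horb : ∀ p : X, Nat.card (MulAction.orbit C p) = (A.subgroupOf C).index := fun p => by
    rw [Nat.card_coe_set_eq, ← MulAction.index_stabilizer, hstab p]
  have ht : (A.subgroupOf C).index ∣ 24 := hX ▸ S3356.dvd_card_of_orbits horb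
  have hGdvd : Nat.card G ∣ (q ^ e - 1) * (24 * e) := by
    rw [← A.card_mul_index, ← Subgroup.relIndex_mul_index hAC, hCidx]
    exact Nat.mul_dvd_mul hAdvd (Nat.mul_dvd_mul ht hRdvd)
  have hnum : (q ^ e) ^ d - 1 = Nat.card G := by rw [← hV, hG1, Nat.add_sub_cancel]
  obtain ⟨he1, hd2', hqs⟩ := arith (Fact.out : q.Prime) hq3 he hd2 (hnum.symm ▸ hGdvd)
  subst he1 hd2'
  simp only [pow_one] at hnum hAdvd hV
  have hCtop : C = ⊤ := Subgroup.index_eq_one.mp (by
    rw [hCidx]; exact Nat.dvd_one.mp hRdvd)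
  have htA : (A.subgroupOf C).index = A.index := by
    have := Subgroup.relIndex_mul_index hAC
    rw [hCtop, Subgroup.index_top, mul_one] at this
    rw [hCtop]; exact this
  rw [htA] at ht horb
  have hmul := A.card_mul_index
  have hP8 : Nat.card P = 8 := by
    rw [Nat.card_congr e8.toEquiv, Nat.card_eq_fintype_card]; rfl
  have hq3' : q ≠ 3 := by
    rintro rfl
    have hG8 : Nat.card G = 8 := by omega
    have hA : Nat.card A = 2 := by
      have := Nat.le_of_dvd (by norm_num) hAdvd
      have := Nat.le_of_dvd Nat.card_pos hA2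
      omega
    have hPtop : P = ⊤ := Subgroup.eq_top_of_card_eq P (hP8.trans hG8.symm)
    set x : G := ((e8.symm (QuaternionGroup.a 1) : P) : G) with hx
    have hxo : orderOf x = 4 := by
      rw [hx, Subgroup.orderOf_coe, MulEquiv.orderOf_eq]
      exact orderOf_eq_prime_pow (p := 2) (n := 1) (by decide +kernel) (by decide +kernel)
    have hzi : (Subgroup.zpowers x).index = 2 := by
      have := (Subgroup.zpowers x).card_mul_index
      rw [Nat.card_zpowers, hxo, hG8] at this
      omega
    haveI := Subgroup.normal_of_index_eq_two hzi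
    have hle : A ≤ Subgroup.zpowers x := by
      intro a ha
      rcases eq_or_ne a 1 with rfl | ha1
      · exact one_mem _
      · have h2 : a ^ 2 = 1 := by
          have := pow_card_eq_one' (x := (⟨a, ha⟩ : A))
          rw [hA] at this
          exact congrArg Subtype.val this
        have hx2 : (x ^ 2) ^ 2 = 1 := by
          rw [← pow_mul, show 2 * 2 = orderOf x by omega, pow_orderOf_eq_one]
        have hx21 : x ^ 2 ≠ 1 := fun e' => by
          have := Nat.le_of_dvd (by norm_num) (orderOf_dvd_of_pow_eq_one e')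
          omega
        rw [involution_unique h h2 ha1 hx2 hx21]
        exact pow_mem (Subgroup.mem_zpowers x) 2
    have := hmax _ inferInstance inferInstance hle
    have h4 : Nat.card (Subgroup.zpowers x) = Nat.card A := by rw [this]
    rw [Nat.card_zpowers, hxo, hA] at h4
    omega
  refine ⟨Or.inr ?_, fun _ => ?_⟩
  · rw [hV]
    rcases hqs with rfl | rfl | rfl | rfl | rfl
    · exact absurd rfl hq3'
    all_goals norm_num
  have hAle := Nat.le_of_dvd (by omega) hAdvd
  have hA22 : Nat.card A ≤ 22 := by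
    rcases hqs with rfl | rfl | rfl | rfl | rfl <;> omega
  have hcases : (A.index = 8) ∨ (A.index = 24) ∨
      (A.index = 12 ∧ (q = 5 ∧ Nat.card A = 2 ∨ q = 11 ∧ Nat.card A = 10)) := by
    have htle := Nat.le_of_dvd (by norm_num) ht
    have hA0 := Nat.card_pos (α := A)
    rcases hqs with rfl | rfl | rfl | rfl | rfl
    · exact absurd rfl hq3'
    all_goals
      norm_num at hnum hAdvd
      rw [← hnum] at hmul
      revert hA2 hA4 hAdvd
      generalize hn : Nat.card A = n at *
      intro hA2 hA4 hAdvd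
      interval_cases n <;> omega
  rcases hcases with h8 | h24 | ⟨h12, hcase⟩
  · left
    haveI : IsPGroup 2 (G ⧸ A) := IsPGroup.of_card (n := 3) ((Subgroup.index_eq_card A).symm.trans h8)
    obtain ⟨H, hH⟩ := Sylow.exists_subgroup_card_pow_prime (G := G ⧸ A) 2 (n := 2)
      (by rw [← Subgroup.index_eq_card, h8]; norm_num)
    have hHi : H.index = 2 := by
      have := H.card_mul_index
      rw [hH, ← Subgroup.index_eq_card A, h8] at this
      omega
    haveI := Subgroup.normal_of_index_eq_two hHi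
    exact ⟨H.comap (QuotientGroup.mk' A), Subgroup.normal_comap _,
      by rw [Subgroup.index_comap_of_surjective _ (QuotientGroup.mk'_surjective A), hHi]⟩
  · left
    classical
    letI := Fintype.ofFinite P
    have hb0 : e8.symm (QuaternionGroup.a 1) * e8.symm (QuaternionGroup.xa 0) ≠
        e8.symm (QuaternionGroup.xa 0) * e8.symm (QuaternionGroup.a 1) := by
      rw [← map_mul, ← map_mul]
      exact fun e' => q8_base (e8.symm.injective e')
    let p₁ : X := ⟨(e8.symm (QuaternionGroup.a 1), e8.symm (QuaternionGroup.xa 0)), hb0⟩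
    let p₂ : X := ⟨(e8.symm (QuaternionGroup.xa 0), e8.symm (QuaternionGroup.a 1)), Ne.symm hb0⟩
    have huniv : MulAction.orbit C p₁ = Set.univ := (Set.eq_univ_iff_ncard _).mpr (by
      rw [← Nat.card_coe_set_eq, horb p₁, h24, hX])
    obtain ⟨g, hg⟩ : p₂ ∈ MulAction.orbit C p₁ := huniv ▸ Set.mem_univ _
    let φ : G →* Equiv.Perm P := (MulAut.toPerm P).comp MulAut.conjNormal
    let s : G →* ℤˣ := Equiv.Perm.sign.comp φ
    have g1 : MulAut.conjNormal (g : G) (e8.symm (QuaternionGroup.a 1)) =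
        e8.symm (QuaternionGroup.xa 0) := congrArg (fun z : X => z.1.1) hg
    have g2 : MulAut.conjNormal (g : G) (e8.symm (QuaternionGroup.xa 0)) =
        e8.symm (QuaternionGroup.a 1) := congrArg (fun z : X => z.1.2) hg
    have heq := q8_ext ((MulAut.conjNormal (g : G) : MulAut P).toMonoidHom.comp e8.symm.toMonoidHom)
      (e8.symm.toMonoidHom.comp tauHom) (QuaternionGroup.a 1) (QuaternionGroup.xa 0) q8_base
      (by
        show MulAut.conjNormal (g : G) (e8.symm (QuaternionGroup.a 1)) = e8.symm (tauFun (QuaternionGroup.a 1))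
        rw [g1]; congr 1)
      (by
        show MulAut.conjNormal (g : G) (e8.symm (QuaternionGroup.xa 0)) = e8.symm (tauFun (QuaternionGroup.xa 0))
        rw [g2]; congr 1)
    have hperm : φ (g : G) = e8.symm.toEquiv.permCongr tau := Equiv.ext fun w => by
      show MulAut.conjNormal (g : G) w = e8.symm (tauFun (e8 w))
      have := DFunLike.congr_fun heq (e8 w)
      simpa [tauHom] using this
    have hsg : s (g : G) ≠ 1 := by
      show Equiv.Perm.sign (φ (g : G)) ≠ 1
      rw [hperm, Equiv.Perm.sign_permCongr]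
      exact tau_sign
    have htop : s.range = ⊤ := by
      rw [eq_top_iff]
      intro x _
      rcases Int.units_eq_one_or x with rfl | rfl
      · exact one_mem _
      · exact ⟨g, (Int.units_eq_one_or _).resolve_left hsg⟩
    refine ⟨s.ker, MonoidHom.normal_ker _, ?_⟩
    rw [Subgroup.index_ker, htop, Subgroup.card_top]
    simp
  -- the binary tetrahedral case
  haveI : Fact (Nat.Prime 3) := ⟨Nat.prime_three⟩
  have hG : Nat.card G = Nat.card A * 12 := by rw [← hmul, h12]
  obtain ⟨c, hco⟩ := exists_prime_orderOf_dvd_card' (G := G) 3 (by rw [hG]; exact Dvd.intro (Nat.card A * 4) (by ring))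
  have hc3 : c ^ 3 = 1 := hco ▸ pow_orderOf_eq_one c
  have hcA : c ∉ A := fun hcA => by
    have h3 : 3 ∣ Nat.card A := hco ▸ Subgroup.orderOf_mk c hcA ▸ orderOf_dvd_natCard _
    rcases hcase with ⟨-, e'⟩ | ⟨-, e'⟩ <;> rw [e'] at h3 <;> norm_num at h3
  let f : G → (QuaternionGroup 2 ≃* QuaternionGroup 2) := fun g =>
    (e8.symm.trans (MulAut.conjNormal g : MulAut P)).trans e8
  have hf1 : ∀ u, f (c * (c * c)) u = u := fun u => by
    rw [show c * (c * c) = 1 by rw [← hc3, pow_succ, pow_two]; simp [mul_assoc]]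
    simp [f]
  have hfm : ∀ g g' u, f (g * g') u = f g (f g' u) := fun g g' u => by
    simp [f, map_mul, MulAut.mul_apply]
  have hfA : ∀ g, (∀ u, f g u = u) → g ∈ A := by
    intro g hg
    rw [← hC1A]
    refine ⟨hCtop ▸ Subgroup.mem_top g, Subgroup.mem_centralizer_iff.mpr fun w hw => ?_⟩
    have := hg (e8 ⟨w, hw⟩)
    simp only [f, MulEquiv.trans_apply, MulEquiv.symm_apply_apply] at this
    exact ((hconj _ _).mp (e8.injective this)).symm
  obtain ⟨a, ha⟩ : ∃ a, a * f c a ≠ f c a * a := by
    by_contra hcon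
    push Not at hcon
    refine hcA ?_
    have h2 : c * c ∈ A := hfA _ fun u => by
      rw [hfm]
      by_cases hu : u * u = 1
      · have hfix : ∀ (τ : QuaternionGroup 2 ≃* QuaternionGroup 2) v, v * v = 1 → τ v = v := by
          intro τ v hv
          have key : ∀ v : QuaternionGroup 2, v * v = 1 → v = 1 ∨ v = QuaternionGroup.a 1 * QuaternionGroup.a 1 := by
            decide +kernel
          rcases key v hv with rfl | rfl
          · exact map_one τ
          · rw [map_mul]
            rcases key _ (show τ (QuaternionGroup.a 1) * τ (QuaternionGroup.a 1) *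
                (τ (QuaternionGroup.a 1) * τ (QuaternionGroup.a 1)) = 1 by
              rw [← map_mul, ← map_mul, show (QuaternionGroup.a 1 : QuaternionGroup 2) *
                QuaternionGroup.a 1 * (QuaternionGroup.a 1 * QuaternionGroup.a 1) = 1 by decide +kernel,
                map_one]) with e' | e'
            · rw [← map_mul, MulEquiv.map_eq_one_iff] at e'
              exact absurd e' (by decide +kernel)
            · exact e'
        rw [hfix _ u hu, hfix _ u hu]
      · have hfu : ∀ g, f g u * f g u ≠ 1 := fun g e' => hu (by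
          rw [← map_mul, MulEquiv.map_eq_one_iff] at e'; exact e')
        rcases q8_comm u (f c u) hu (hcon u) (hfu c) with e' | e'
        · rw [e', e']
        · rw [e', map_mul, map_mul, e']
          have key : ∀ u : QuaternionGroup 2, u * (u * u) * (u * (u * u) * (u * (u * u))) = u := by
            decide +kernel
          exact key u
    have : c = (c * c) * (c * c) := by
      rw [← mul_assoc, show c * c * c = c ^ 3 by simp [pow_succ], hc3, one_mul]
    rw [this]
    exact mul_mem h2 h2
  -- a pair satisfying the relations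
  obtain ⟨c', hc'3, hc'A, ha', hrel⟩ : ∃ c', c' ^ 3 = 1 ∧ c' ∉ A ∧ a * f c' a ≠ f c' a * a ∧
      f c' (f c' a) = a * f c' a := by
    set b := f c a with hb
    set w := f c b with hw
    have hwa : f c w = a := by
      rw [hw, hb, ← hfm, ← hfm, mul_assoc, hf1]
    have h1 : b * w ≠ w * b := fun e' => ha (by
      rw [hb, hw, ← map_mul, ← map_mul] at e'
      exact (f c).injective e')
    have h2 : w * a ≠ a * w := fun e' => ha (by
      have e'' := congrArg (f c) e'
      rw [map_mul, map_mul, hwa] at e''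
      exact e'')
    rcases q8_next a b w ha h1 h2 with e' | e'
    · exact ⟨c, hc3, hcA, ha, e'⟩
    · refine ⟨c * c, ?_, fun hh => hcA ?_, ?_, ?_⟩
      · rw [← pow_two, ← pow_mul, mul_comm, pow_mul, hc3, one_pow]
      · have : c = (c * c) * (c * c) := by
          rw [← mul_assoc, show c * c * c = c ^ 3 by simp [pow_succ], hc3, one_mul]
        rw [this]; exact mul_mem hh hh
      · rw [hfm, ← hb, ← hw]; exact Ne.symm h2
      · rw [hfm, hfm, ← hb, ← hw, hwa, ← hb, e']
        exact (q8_aba a b ha).symm.trans (by rw [mul_assoc])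
  set x : G := ((e8.symm a : P) : G) with hx
  have hy : c' * x * c'⁻¹ = ((e8.symm (f c' a) : P) : G) := by
    simp [f, hx, MulAut.conjNormal_apply]
  have hy2 : c' * (c' * x * c'⁻¹) * c'⁻¹ = ((e8.symm (f c' (f c' a)) : P) : G) := by
    rw [hy]; simp [f, MulAut.conjNormal_apply]
  have hx4 : x ^ 4 = 1 := by
    have key : ∀ u : QuaternionGroup 2, u ^ 4 = 1 := by decide +kernel
    rw [hx, ← Subgroup.coe_pow, ← map_pow, key, map_one, Subgroup.coe_one]
  have h1 : x * (c' * x * c'⁻¹) * x = c' * x * c'⁻¹ := by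
    rw [hy, hx, ← Subgroup.coe_mul, ← Subgroup.coe_mul, ← map_mul, ← map_mul, q8_aba _ _ ha']
  have h2 : c' * (c' * x * c'⁻¹) * c'⁻¹ = x * (c' * x * c'⁻¹) := by
    rw [hy2, hrel, hy, map_mul, Subgroup.coe_mul, hx]
  set S := Subgroup.closure ({x, c'} : Set G) with hS
  have hxS : x ∈ S := Subgroup.subset_closure (by simp)
  have hcS : c' ∈ S := Subgroup.subset_closure (by simp)
  have hyS : ((e8.symm (f c' a) : P) : G) ∈ S := hy ▸ mul_mem (mul_mem hcS hxS) (inv_mem hcS)
  have hPS : P ≤ S := by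
    intro w hw
    have hcov := q8_cover a (f c' a) (e8 ⟨w, hw⟩) ha'
    rw [show w = ((e8.symm (e8 ⟨w, hw⟩) : P) : G) by rw [MulEquiv.symm_apply_apply]]
    generalize e8 ⟨w, hw⟩ = v at hcov
    simp only [List.mem_cons, List.not_mem_nil, or_false] at hcov
    rcases hcov with rfl | rfl | rfl | rfl | rfl | rfl | rfl | rfl <;>
      (try simp only [map_one, map_mul, Subgroup.coe_one, Subgroup.coe_mul, ← hx]) <;>
      first
        | exact one_mem _
        | exact hxS
        | exact hyS
        | exact mul_mem hxS hxS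
        | exact mul_mem hyS hxS
        | exact mul_mem hxS hyS
        | exact mul_mem (mul_mem hxS hxS) hxS
        | exact mul_mem (mul_mem hyS hyS) hyS
  have hco' : orderOf c' = 3 := orderOf_eq_prime hc'3 fun e' => hc'A (e' ▸ one_mem _)
  have h24 : 24 ≤ Nat.card S := Nat.le_of_dvd Nat.card_pos (Nat.Coprime.mul_dvd_of_dvd_of_dvd
    (m := 8) (n := 3) (by norm_num) (hP8 ▸ Subgroup.card_dvd_of_le hPS)
    (hco' ▸ Subgroup.orderOf_mk c' hcS ▸ orderOf_dvd_natCard _))
  obtain ⟨φ, hφ, hφr, hφc⟩ := exists_embed x c' hx4 hc'3 h1 h2 h24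
  obtain ⟨e23⟩ := equiv_sl23
  right
  rcases hcase with ⟨rfl, hA⟩ | ⟨rfl, hA⟩
  · left
    refine ⟨by rw [hV]; norm_num, ⟨(MulEquiv.ofBijective φ
      ((Nat.bijective_iff_injective_and_card φ).mpr ⟨hφ, by rw [hφc, hG, hA]⟩)).symm.trans e23⟩⟩
  · right
    refine ⟨by rw [hV]; norm_num, ?_⟩
    haveI : Fact (Nat.Prime 5) := ⟨by norm_num⟩
    obtain ⟨⟨u, hu⟩, huo⟩ := exists_prime_orderOf_dvd_card' (G := A) 5 (by rw [hA]; norm_num)
    have huo' : orderOf u = 5 := (Subgroup.orderOf_coe ⟨u, hu⟩).trans huo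
    have hucen : ∀ g, Commute g u := fun g =>
      (Subgroup.mem_centralizer_iff.mp (hCtop ▸ Subgroup.mem_top g : g ∈ C) u hu).symm
    haveI : Finite (PresentedGroup Rels23) := card_le23.1
    let e5 : Multiplicative (ZMod 5) ≃* Subgroup.zpowers u := mulEquivOfCyclicCardEq (by
      rw [Nat.card_congr Multiplicative.toAdd, Nat.card_zmod, Nat.card_zpowers, huo'])
    let ψ : PresentedGroup Rels23 × Multiplicative (ZMod 5) →* G :=
      φ.noncommCoprod ((Subgroup.zpowers u).subtype.comp e5.toMonoidHom) (fun p z => by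
        obtain ⟨i, hi⟩ := (e5 z).2
        show Commute (φ p) ((e5 z : Subgroup.zpowers u) : G)
        rw [← hi]
        exact (hucen _).zpow_right i)
    have hψ : Function.Injective ψ := by
      rw [injective_iff_map_eq_one]
      rintro ⟨p, z⟩ hpz
      have hpz' : φ p * ((e5 z : Subgroup.zpowers u) : G) = 1 := hpz
      have h5 : orderOf ((e5 z : Subgroup.zpowers u) : G) ∣ 5 := by
        rw [Subgroup.orderOf_coe, MulEquiv.orderOf_eq]
        refine (orderOf_dvd_natCard z).trans (dvd_of_eq ?_)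
        rw [Nat.card_congr Multiplicative.toAdd, Nat.card_zmod]
      have h24' : orderOf (φ p) ∣ 24 := by
        rw [orderOf_injective φ hφ, ← hφc]; exact orderOf_dvd_natCard p
      rw [eq_inv_of_mul_eq_one_left hpz', orderOf_inv] at h24'
      have h1' : ((e5 z : Subgroup.zpowers u) : G) = 1 :=
        orderOf_eq_one_iff.mp (Nat.eq_one_of_dvd_coprimes (by norm_num) h24' h5)
      rw [h1', mul_one] at hpz'
      refine Prod.ext ((map_eq_one_iff φ hφ).mp hpz') ?_
      exact (map_eq_one_iff e5 e5.injective).mp (Subtype.ext h1')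
    exact ⟨(MulEquiv.ofBijective ψ ((Nat.bijective_iff_injective_and_card ψ).mpr ⟨hψ, by
      rw [Nat.card_prod, hφc, Nat.card_congr Multiplicative.toAdd, Nat.card_zmod, hG, hA]⟩)).symm.trans
      (e23.prodCongr (MulEquiv.refl _))⟩

end Cfsg.Agent.S3361
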