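import Cfsg.Statements.S3362
import Cfsg.Agent.Lib.Compute.PermCert
import Mathlib.GroupTheory.GroupAction.MultipleTransitivity
import Mathlib.GroupTheory.GroupAction.Quotient

set_option autoImplicit false
open Cfsg

namespace Cfsg.Agent.S3362

open Cfsg.Agent.PermCert

/-- Generators. -/
def m12Gens : List Elt := [(171139535290896, 186605193351696),
  (92615224025616, 148868997747216),
  (183942805598736, 153208536773136),
  (80841396400656, 95285065495056),
  (164327252963856, 110731096240656),
  (167926364897811, 167926364897811),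
  (148896472117761, 148896472117761),
  (114875801284896, 114875801284896)]

/-- Derived strong generators. -/
def m12Derived : List (Elt × List ℕ) := [((188461173973776, 188461173973776), [5, 6, 7, 6, 5])]

/-- The chain. -/
def m12Levels : List CLevel := [
  (0, [(171139535290896, 186605193351696), (92615224025616, 148868997747216), (183942805598736, 153208536773136), (80841396400656, 95285065495056), (164327252963856, 110731096240656), (167926364897811, 167926364897811), (148896472117761, 148896472117761), (114875801284896, 114875801284896), (188461173973776, 188461173973776)],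
    [(0, (205163983024656, 205163983024656), 0, 0),
     (3, (167926364897811, 167926364897811), 0, 5),
     (1, (148896472117761, 148896472117761), 0, 6),
     (4, (183186666881556, 153478412390931), 1, 0),
     (6, (65234555830806, 183022525133331), 1, 1),
     (2, (113986692711186, 151142773563411), 1, 8),
     (5, (201938729894421, 203992257085971), 3, 0),
     (7, (80494857814551, 113954165330451), 3, 1),
     (10, (100576930562586, 176491341435411), 3, 4),
     (9, (111631379595801, 92399974380051), 4, 1),
     (11, (63266835792411, 9523895317011), 4, 4),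
     (8, (99246920827416, 134554156892691), 6, 1)]),
  (1, [(183942805598736, 153208536773136), (80841396400656, 95285065495056), (171139535290896, 186605193351696), (188461173973776, 188461173973776), (114875801284896, 114875801284896)],
    [(1, (205163983024656, 205163983024656), 0, 0),
     (2, (114875801284896, 114875801284896), 0, 4),
     (3, (166625040146736, 148131934376736), 1, 3),
     (4, (185170992111936, 118242483983136), 2, 2),
     (6, (135603026469216, 182826852438816), 3, 0),
     (7, (165649711833456, 81055066772256), 3, 1),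
     (5, (200637405143376, 202755106226976), 3, 2),
     (10, (93146721034656, 159860959892256), 4, 1),
     (9, (152095447986576, 116666152793376), 4, 3),
     (11, (165290343600816, 26071702983216), 4, 4),
     (8, (76397103686016, 145623393981216), 5, 0)]),
  (2, [(183942805598736, 153208536773136), (80841396400656, 95285065495056), (171139535290896, 186605193351696), (188461173973776, 188461173973776)],
    [(2, (205163983024656, 205163983024656), 0, 0),
     (3, (188461173973776, 188461173973776), 0, 3),
     (4, (203926829081616, 200835208467216), 1, 2),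
     (6, (180918370772496, 153147301057296), 2, 0),
     (7, (79537043613456, 78521273373456), 2, 1),
     (5, (169902384293136, 117344817201936), 2, 2),
     (10, (166458792880656, 126120261866256), 3, 1),
     (9, (198437557909776, 202475839304976), 3, 3),
     (8, (118289644267536, 180949044581136), 4, 0),
     (11, (151089776372496, 44716405441296), 5, 1)]),
  (3, [(183942805598736, 153208536773136), (80841396400656, 95285065495056), (171139535290896, 186605193351696)],
    [(3, (205163983024656, 205163983024656), 0, 0),
     (4, (171139535290896, 186605193351696), 0, 2),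
     (6, (81869462397456, 134443541680656), 1, 0),
     (7, (145798658224656, 79831486845456), 1, 1),
     (5, (186605193351696, 171139535290896), 1, 2),
     (10, (133432927101456, 144743461245456), 2, 1),
     (8, (200417555939856, 198339617968656), 3, 0),
     (9, (128266436579856, 115692283773456), 4, 0),
     (11, (167424912765456, 61273455280656), 4, 1)]),
  (4, [(183942805598736, 153208536773136), (80841396400656, 95285065495056)],
    [(4, (205163983024656, 205163983024656), 0, 0),
     (6, (183942805598736, 153208536773136), 0, 0),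
     (7, (80841396400656, 95285065495056), 0, 1),
     (5, (132399770186256, 132399770186256), 1, 0),
     (10, (164327252963856, 110731096240656), 1, 1),
     (8, (110731096240656, 164327252963856), 2, 0),
     (9, (153208536773136, 183942805598736), 3, 0),
     (11, (95285065495056, 80841396400656), 3, 1)])]

/-- Generators. -/
def m11Gens : List Elt := [(171139535290896, 186605193351696),
  (92615224025616, 148868997747216),
  (183942805598736, 153208536773136),
  (80841396400656, 95285065495056),
  (164327252963856, 110731096240656),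
  (167926364897811, 167926364897811),
  (148896472117761, 148896472117761)]

/-- Derived strong generators. -/
def m11Derived : List (Elt × List ℕ) := [((133756964049456, 133756964049456), [5, 6, 5])]

/-- The chain. -/
def m11Levels : List CLevel := [
  (0, [(171139535290896, 186605193351696), (92615224025616, 148868997747216), (183942805598736, 153208536773136), (80841396400656, 95285065495056), (164327252963856, 110731096240656), (167926364897811, 167926364897811), (148896472117761, 148896472117761), (133756964049456, 133756964049456)],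
    [(0, (205163983024656, 205163983024656), 0, 0),
     (3, (167926364897811, 167926364897811), 0, 5),
     (1, (148896472117761, 148896472117761), 0, 6),
     (4, (183186666881556, 153478412390931), 1, 0),
     (6, (65234555830806, 183022525133331), 1, 1),
     (5, (201938729894421, 203992257085971), 3, 0),
     (7, (80494857814551, 113954165330451), 3, 1),
     (10, (100576930562586, 176491341435411), 3, 4),
     (9, (111631379595801, 92399974380051), 4, 1),
     (11, (63266835792411, 9523895317011), 4, 4),
     (8, (25652387054136, 78480420639411), 4, 7)]),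
  (1, [(183942805598736, 153208536773136), (80841396400656, 95285065495056), (171139535290896, 186605193351696), (133756964049456, 133756964049456)],
    [(1, (205163983024656, 205163983024656), 0, 0),
     (3, (133756964049456, 133756964049456), 0, 3),
     (4, (152521103708736, 169855324082736), 1, 2),
     (6, (201933343756896, 203721596686896), 2, 0),
     (7, (115747392787056, 77683535467056), 2, 1),
     (5, (118303385391696, 184273073422896), 2, 2),
     (10, (76512614683296, 107290307547696), 3, 1),
     (8, (135885334655616, 180945770984016), 3, 3),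
     (11, (152030720504496, 29048063996496), 4, 3),
     (9, (99280188805776, 151829068988976), 5, 0)]),
  (3, [(183942805598736, 153208536773136), (80841396400656, 95285065495056), (171139535290896, 186605193351696)],
    [(3, (205163983024656, 205163983024656), 0, 0),
     (4, (171139535290896, 186605193351696), 0, 2),
     (6, (81869462397456, 134443541680656), 1, 0),
     (7, (145798658224656, 79831486845456), 1, 1),
     (5, (186605193351696, 171139535290896), 1, 2),
     (10, (133432927101456, 144743461245456), 2, 1),
     (8, (200417555939856, 198339617968656), 3, 0),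
     (9, (128266436579856, 115692283773456), 4, 0),
     (11, (167424912765456, 61273455280656), 4, 1)]),
  (4, [(183942805598736, 153208536773136), (80841396400656, 95285065495056)],
    [(4, (205163983024656, 205163983024656), 0, 0),
     (6, (183942805598736, 153208536773136), 0, 0),
     (7, (80841396400656, 95285065495056), 0, 1),
     (5, (132399770186256, 132399770186256), 1, 0),
     (10, (164327252963856, 110731096240656), 1, 1),
     (8, (110731096240656, 164327252963856), 2, 0),
     (9, (153208536773136, 183942805598736), 3, 0),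
     (11, (95285065495056, 80841396400656), 3, 1)])]

theorem m12_ok : checkCert 4 12 m12Gens m12Derived m12Levels = true := by decide +kernel

theorem m11_ok : checkCert 4 12 m11Gens m11Derived m11Levels = true := by decide +kernel

theorem eq_one_of_fix {G α : Type*} [Group G] [MulAction G α] :
    ∀ L : List (Level G α), Good L → ∀ σ ∈ prodSet L, (∀ l ∈ L, σ • l.1 = l.1) → σ = 1 := by
  intro L
  induction L with
  | nil => intro _ σ hσ _; simpa [prodSet] using hσ
  | cons l L ih =>
    obtain ⟨b, S, T⟩ := l
    intro hg σ hσ hfix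
    obtain ⟨t, ht, h, hh, rfl⟩ := hσ
    have hb : h • b = b := fix_of_mem_prodSet hg hh
    have htb : t • b = (1 : G) • b := by
      have := hfix _ List.mem_cons_self
      simp only [mul_smul, hb] at this
      rw [one_smul]
      exact this
    have ht1 : t = 1 := List.inj_on_of_nodup_map hg.2.2.2.2.1 ht hg.2.2.2.1 htb
    rw [ht1, one_mul] at hfix ⊢
    exact ih hg.1 h hh fun l hl => hfix l (List.mem_cons_of_mem _ hl)

theorem interp_base (n w : ℕ) [NeZero n] : ∀ L : List CLevel,
    ∀ l ∈ interp w n L, ∃ b ∈ L.map Prod.fst, l.1 = Fin.ofNat n b := by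
  intro L
  induction L with
  | nil => intro l hl; simp [interp] at hl
  | cons l L ih =>
    obtain ⟨b, S, T⟩ := l
    intro l hl
    rw [interp, List.mem_cons] at hl
    rcases hl with rfl | hl
    · exact ⟨b, by simp, rfl⟩
    · obtain ⟨b', hb', he⟩ := ih l hl
      exact ⟨b', List.mem_cons_of_mem _ hb', he⟩

/-- The base. -/
def base5 : Fin 5 ↪ Fin 12 := Fin.castLEEmb (by norm_num)

theorem m12_rigid {σ : Equiv.Perm (Fin 12)} (h : σ ∈ genGroup 4 12 m12Gens)
    (hfix : ∀ i, σ (base5 i) = base5 i) : σ = 1 := by
  obtain ⟨hg, he⟩ := cert_good m12_ok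
  refine eq_one_of_fix _ hg σ ?_ fun l hl => ?_
  · rw [← he, ← SetLike.mem_coe, closure_carrier, ← prodSet_eq _ hg] at h
    exact h
  · obtain ⟨b, hb, e⟩ := interp_base 12 4 m12Levels l hl
    have : b = 0 ∨ b = 1 ∨ b = 2 ∨ b = 3 ∨ b = 4 := by simpa [m12Levels] using hb
    rw [e]
    rcases this with rfl | rfl | rfl | rfl | rfl
    · exact hfix 0
    · exact hfix 1
    · exact hfix 2
    · exact hfix 3
    · exact hfix 4

/-- An explicit construction of the Mathieu groups of degrees 11 and 12. On the points 0, …, 11 let s = (3 4 5)(6 7 8)(9 10 11), t = (3 6 9)(4 7 10)(5 8 11), u = (4 6 5 9)(7 8 11 10), v = (4 7 5 11)(6 10 9 8), w = (4 10 5 8)(6 11 9 7), x₁ = (0 3)(6 7)(8 10)(9 11), x₂ = (0 1)(6 9)(7 10)(8 11), x₃ = (1 2)(6 11)(7 9)(8 10) (each written as a product of transpositions). Then the group M₁₂ generated by all eight permutations is sharply 5-transitive on the 12 points and has order 95040, and the group M₁₁ generated by the first seven has order 7920 and is the stabilizer of the point 2 in M₁₂. -/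
theorem result
    (s t u v w x₁ x₂ x₃ : Equiv.Perm (Fin 12))
    (hs : s = Equiv.swap (3 : Fin 12) 5 * Equiv.swap (3 : Fin 12) 4 * Equiv.swap (6 : Fin 12) 8 * Equiv.swap (6 : Fin 12) 7 * Equiv.swap (9 : Fin 12) 11 * Equiv.swap (9 : Fin 12) 10) (ht : t = Equiv.swap (3 : Fin 12) 9 * Equiv.swap (3 : Fin 12) 6 * Equiv.swap (4 : Fin 12) 10 * Equiv.swap (4 : Fin 12) 7 * Equiv.swap (5 : Fin 12) 11 * Equiv.swap (5 : Fin 12) 8)
    (hu : u = Equiv.swap (4 : Fin 12) 9 * Equiv.swap (4 : Fin 12) 5 * Equiv.swap (4 : Fin 12) 6 * Equiv.swap (7 : Fin 12) 10 * Equiv.swap (7 : Fin 12) 11 * Equiv.swap (7 : Fin 12) 8) (hv : v = Equiv.swap (4 : Fin 12) 11 * Equiv.swap (4 : Fin 12) 5 * Equiv.swap (4 : Fin 12) 7 * Equiv.swap (6 : Fin 12) 8 * Equiv.swap (6 : Fin 12) 9 * Equiv.swap (6 : Fin 12) 10) (hw : w = Equiv.swap (4 : Fin 12) 8 * Equiv.swap (4 : Fin 12) 5 * Equiv.swap (4 : Fin 12) 10 * Equiv.swap (6 : Fin 12) 7 * Equiv.swap (6 : Fin 12) 9 * Equiv.swap (6 : Fin 12) 11)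
    (hx₁ : x₁ = Equiv.swap (0 : Fin 12) 3 * Equiv.swap (6 : Fin 12) 7 * Equiv.swap (8 : Fin 12) 10 * Equiv.swap (9 : Fin 12) 11) (hx₂ : x₂ = Equiv.swap (0 : Fin 12) 1 * Equiv.swap (6 : Fin 12) 9 * Equiv.swap (7 : Fin 12) 10 * Equiv.swap (8 : Fin 12) 11)
    (hx₃ : x₃ = Equiv.swap (1 : Fin 12) 2 * Equiv.swap (6 : Fin 12) 11 * Equiv.swap (7 : Fin 12) 9 * Equiv.swap (8 : Fin 12) 10)
    (M₁₂ M₁₁ : Subgroup (Equiv.Perm (Fin 12))) (hM₁₂ : M₁₂ = Subgroup.closure {s, t, u, v, w, x₁, x₂, x₃})
    (hM₁₁ : M₁₁ = Subgroup.closure {s, t, u, v, w, x₁, x₂}) :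
    MulAction.IsMultiplyPretransitive M₁₂ (Fin 12) 5 ∧ (∀ y : Fin 5 ↪ Fin 12, MulAction.stabilizer M₁₂ y = ⊥) ∧
    Nat.card M₁₂ = 95040 ∧ Nat.card M₁₁ = 7920 ∧
    M₁₁ = M₁₂ ⊓ MulAction.stabilizer (Equiv.Perm (Fin 12)) (2 : Fin 12) := by
  have e12 : [s, t, u, v, w, x₁, x₂, x₃] = m12Gens.map (toPerm 4 12) := by
    subst hs ht hu hv hw hx₁ hx₂ hx₃
    decide +kernel
  have e11 : [s, t, u, v, w, x₁, x₂] = m11Gens.map (toPerm 4 12) := by
    subst hs ht hu hv hw hx₁ hx₂
    decide +kernel
  have h12 : M₁₂ = genGroup 4 12 m12Gens := by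
    rw [hM₁₂, genGroup, ← e12]; congr 1; ext σ; simp
  have h11 : M₁₁ = genGroup 4 12 m11Gens := by
    rw [hM₁₁, genGroup, ← e11]; congr 1; ext σ; simp
  have c12 : Nat.card M₁₂ = 95040 := by rw [h12, cert_card m12_ok]; rfl
  have c11 : Nat.card M₁₁ = 7920 := by rw [h11, cert_card m11_ok]; rfl
  have hbase : MulAction.stabilizer M₁₂ base5 = ⊥ := by
    rw [eq_bot_iff]
    intro g hg
    rw [MulAction.mem_stabilizer_iff] at hg
    refine Subgroup.mem_bot.mpr (Subtype.ext (m12_rigid (h12 ▸ g.2) fun i => ?_))
    exact congrArg (fun y : Fin 5 ↪ Fin 12 => y i) hg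
  have hemb : Nat.card (Fin 5 ↪ Fin 12) = 95040 := by
    rw [Nat.card_eq_fintype_card, Fintype.card_embedding_eq, Fintype.card_fin, Fintype.card_fin]
    rfl
  have horb : MulAction.orbit M₁₂ base5 = Set.univ := by
    refine (Set.eq_univ_iff_ncard _).mpr ?_
    refine (MulAction.index_stabilizer M₁₂ base5).symm.trans ?_
    rw [hbase, Subgroup.index_bot, c12, hemb]
  have htr : MulAction.IsPretransitive M₁₂ (Fin 5 ↪ Fin 12) := by
    constructor
    intro a b
    obtain ⟨g, rfl⟩ : a ∈ MulAction.orbit M₁₂ base5 := horb ▸ Set.mem_univ a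
    obtain ⟨k, rfl⟩ : b ∈ MulAction.orbit M₁₂ base5 := horb ▸ Set.mem_univ b
    refine ⟨k * g⁻¹, ?_⟩
    show (k * g⁻¹) • g • base5 = k • base5
    refine (smul_smul (k * g⁻¹) g base5).trans ?_
    rw [inv_mul_cancel_right]; rfl
  have hstab : ∀ y : Fin 5 ↪ Fin 12, MulAction.stabilizer M₁₂ y = ⊥ := by
    intro y
    refine Subgroup.card_eq_one.mp ?_
    have h := (MulAction.stabilizer M₁₂ y).card_mul_index
    have hu : MulAction.orbit M₁₂ y = Set.univ :=
      Set.eq_univ_iff_forall.mpr fun z => htr.exists_smul_eq y z
    have hi : (MulAction.stabilizer M₁₂ y).index = 95040 := by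
      refine (MulAction.index_stabilizer M₁₂ y).trans ?_
      exact (congrArg Set.ncard hu).trans (by rw [Set.ncard_univ, hemb])
    rw [hi, c12] at h
    omega
  refine ⟨htr, hstab, c12, c11, ?_⟩
  have hle : M₁₁ ≤ M₁₂ ⊓ MulAction.stabilizer (Equiv.Perm (Fin 12)) (2 : Fin 12) := by
    refine le_inf ?_ ?_
    · rw [hM₁₁, hM₁₂]
      exact Subgroup.closure_mono fun σ hσ => by
        simp only [Set.mem_insert_iff, Set.mem_singleton_iff] at hσ ⊢
        tauto
    · rw [hM₁₁, Subgroup.closure_le]
      subst hs ht hu hv hw hx₁ hx₂
      simp only [Set.insert_subset_iff, Set.singleton_subset_iff, SetLike.mem_coe,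
        MulAction.mem_stabilizer_iff, Equiv.Perm.smul_def]
      decide +kernel
  refine Subgroup.eq_of_le_of_card_ge hle (le_of_eq ?_)
  haveI : MulAction.IsPretransitive M₁₂ (Fin 12) := by
    constructor
    intro a b
    obtain ⟨y, hy⟩ : ∃ y : Fin 5 ↪ Fin 12, y 0 = a :=
      ⟨base5.trans (Equiv.swap (0 : Fin 12) a).toEmbedding, by simp [base5]⟩
    obtain ⟨z, hz⟩ : ∃ z : Fin 5 ↪ Fin 12, z 0 = b :=
      ⟨base5.trans (Equiv.swap (0 : Fin 12) b).toEmbedding, by simp [base5]⟩
    obtain ⟨g, hg⟩ := htr.exists_smul_eq y z
    exact ⟨g, by rw [← hy, ← hz, ← hg]; rfl⟩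
  have h := (MulAction.stabilizer M₁₂ (2 : Fin 12)).card_mul_index
  rw [MulAction.index_stabilizer_of_transitive, Nat.card_fin, c12] at h
  rw [c11, show Nat.card (M₁₂ ⊓ MulAction.stabilizer (Equiv.Perm (Fin 12)) (2 : Fin 12) :
      Subgroup (Equiv.Perm (Fin 12))) = Nat.card (MulAction.stabilizer M₁₂ (2 : Fin 12)) from
    Nat.card_congr ⟨fun g => ⟨⟨g.1, g.2.1⟩, g.2.2⟩, fun g => ⟨g.1.1, g.1.2, g.2⟩,
      fun _ => rfl, fun _ => rfl⟩]
  omega

end Cfsg.Agent.S3362
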