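import Cfsg.Statements.S3371
import Cfsg.Agent.Lib.HalfTransP.TwoMain

set_option autoImplicit false
open Cfsg

namespace Cfsg.Agent.S3371

/-- Let q be a prime, V a non-trivial finite vector space over the field with q elements, and G a finite p-group (p prime) acting faithfully and linearly on V such that all G-orbits on the non-zero vectors have the same size. Then one of the following holds: G is cyclic or generalized quaternion and acts semiregularly on the non-zero vectors; or V has q² elements with q = 2^m − 1 and G is dihedral of order 2^(m+1) or semidihedral of order 2^(m+2); or V has q² elements with q = 2^m + 1 and, in suitable coordinates V = F_q², G is exactly the group of maps (x, y) ↦ (a x, ± a⁻¹ y) and (x, y) ↦ (± a⁻¹ y, a x) with a ≠ 0; or V has 81 elements (q = 3) and G is a 2-group. -/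
theorem result (q : ℕ) [Fact q.Prime] {V : Type*} [AddCommGroup V] [Module (ZMod q) V] [Finite V] [Nontrivial V]
    {G : Type*} [Group G] [Finite G] (p : ℕ) [Fact p.Prime] (hG : IsPGroup p G)
    (ρ : G →* (V ≃ₗ[ZMod q] V)) (hρ : Function.Injective ρ)
    (hhalf : ∀ v w : V, v ≠ 0 → w ≠ 0 → Nat.card {u : V | ∃ g : G, ρ g v = u} = Nat.card {u : V | ∃ g : G, ρ g w = u}) :
    ((IsCyclic G ∨ ∃ n : ℕ, Nonempty (G ≃* QuaternionGroup n)) ∧ ∀ v : V, v ≠ 0 → ∀ g : G, ρ g v = v → g = 1) ∨
    (Nat.card V = q ^ 2 ∧ ∃ m : ℕ, q = 2 ^ m - 1 ∧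
      (Nonempty (G ≃* DihedralGroup (2 ^ m)) ∨ (Cfsg.IsQuasiDihedral G ∧ Nat.card G = 2 ^ (m + 2)))) ∨
    (Nat.card V = q ^ 2 ∧ (∃ m : ℕ, q = 2 ^ m + 1) ∧
      ∃ e : V ≃ₗ[ZMod q] (Fin 2 → ZMod q), ∀ f : (Fin 2 → ZMod q) ≃ₗ[ZMod q] (Fin 2 → ZMod q),
        (∃ g : G, f = e.symm.trans ((ρ g).trans e)) ↔
        ∃ a s : ZMod q, a ≠ 0 ∧ (s = 1 ∨ s = -1) ∧
          ((∀ v, f v = ![a * v 0, s * a⁻¹ * v 1]) ∨ (∀ v, f v = ![s * a⁻¹ * v 1, a * v 0]))) ∨
    (Nat.card V = 81 ∧ q = 3 ∧ p = 2) := by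
  classical
  letI : DistribMulAction G V :=
    { smul := fun g v => ρ g v
      one_smul := fun v => by show ρ 1 v = v; rw [map_one]; rfl
      mul_smul := fun g h v => by show ρ (g * h) v = ρ g (ρ h v); rw [map_mul]; rfl
      smul_zero := fun g => map_zero (ρ g)
      smul_add := fun g x y => map_add (ρ g) x y }
  haveI : SMulCommClass G (ZMod q) V := ⟨fun g c v => map_smul (ρ g) c v⟩
  haveI : FaithfulSMul G V := ⟨fun {g h} H => hρ (LinearEquiv.ext H)⟩
  have hconst : ∀ a b : V, a ≠ 0 → b ≠ 0 →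
      Nat.card (MulAction.stabilizer G a) = Nat.card (MulAction.stabilizer G b) := by
    intro a b ha hb
    have h : Nat.card (MulAction.orbit G a) = Nat.card (MulAction.orbit G b) := hhalf a b ha hb
    rw [Nat.card_coe_set_eq, Nat.card_coe_set_eq, ← MulAction.index_stabilizer, ← MulAction.index_stabilizer] at h
    refine Nat.eq_of_mul_eq_mul_right (Nat.pos_of_ne_zero Subgroup.index_ne_zero_of_finite
      (n := (MulAction.stabilizer G a).index)) ?_
    rw [Subgroup.card_mul_index, h, Subgroup.card_mul_index]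
  by_cases hqp : q = p
  · subst hqp
    refine Or.inl ?_
    have h1 : ∀ g : G, g = 1 := by
      intro g
      refine eq_of_smul_eq_smul fun e : V => ?_
      rw [one_smul]
      rcases eq_or_ne e 0 with rfl | he
      · exact smul_zero g
      have hdvd : q ∣ Nat.card V := by
        rw [← addOrderOf_eq_prime (p := q) (x := e) (by rw [← Nat.cast_smul_eq_nsmul (ZMod q), ZMod.natCast_self, zero_smul]) he]
        exact addOrderOf_dvd_natCard e
      obtain ⟨e0, he0, hne⟩ := hG.exists_fixed_point_of_prime_dvd_card_of_fixed_point V hdvd (a := (0 : V))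
        (fun g => smul_zero g)
      have hc := hconst e0 e hne.symm he
      rw [show MulAction.stabilizer G e0 = ⊤ from eq_top_iff.2 fun g _ => he0 g, Subgroup.card_top] at hc
      have htop : MulAction.stabilizer G e = ⊤ := Subgroup.eq_top_of_card_eq _ hc.symm
      exact MulAction.mem_stabilizer_iff.mp (htop ▸ Subgroup.mem_top g)
    haveI : Subsingleton G := ⟨fun g k => (h1 g).trans (h1 k).symm⟩
    exact ⟨Or.inl isCyclic_of_subsingleton, fun v _ g _ => h1 g⟩
  by_cases hp2 : p = 2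
  · subst hp2
    rcases Cfsg.Agent.HalfTransP.main_two hconst hqp hG with h | h | ⟨hV, hm, e, he1, he2⟩ | ⟨hV, hq3⟩
    · exact Or.inl h
    · exact Or.inr (Or.inl h)
    · refine Or.inr (Or.inr (Or.inl ⟨hV, hm, e, fun f => ⟨?_, ?_⟩⟩))
      · rintro ⟨g, rfl⟩
        exact he1 g
      · rintro ⟨a, s, ha, hs, hf | hf⟩
        · obtain ⟨g, hg⟩ := (he2 a s ha hs).1
          exact ⟨g, LinearEquiv.ext fun u => (hf u).trans (hg u).symm⟩
        · obtain ⟨g, hg⟩ := (he2 a s ha hs).2
          exact ⟨g, LinearEquiv.ext fun u => (hf u).trans (hg u).symm⟩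
    · exact Or.inr (Or.inr (Or.inr ⟨hV, hq3, rfl⟩))
  · obtain ⟨hc, hfree⟩ := Cfsg.Agent.HalfTransP.main (E := V) hG hp2 (Fact.out : q.Prime)
      (fun e => by rw [← Nat.cast_smul_eq_nsmul (ZMod q), ZMod.natCast_self, zero_smul]) hconst
    exact Or.inl ⟨Or.inl hc, fun v hv g hg => by_contra fun hg1 => hv (hfree g hg1 v hg)⟩

end Cfsg.Agent.S3371
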