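import Mathlib
import Cfsg.Prelude.Def_Solvable

set_option autoImplicit false

namespace Cfsg.Agent.S3374

open SemidirectProduct
open scoped Pointwise

/-- The two by two matrix encoded by a number. -/
def mat (p a : ℕ) : Matrix (Fin 2) (Fin 2) (ZMod p) :=
  !![((a / p ^ 3 : ℕ) : ZMod p), ((a / p ^ 2 : ℕ) : ZMod p); ((a / p : ℕ) : ZMod p), (a : ZMod p)]

/-- The graph of an embedding of `SL(2,5)` in `SL(2,11)` with the left multiplication table. -/
def table : List (ℕ × ℕ × ℕ × ℕ) := [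
  (126, 1332, 1, 2),
  (105, 231, 3, 4),
  (151, 1740, 5, 6),
  (504, 13320, 7, 8),
  (230, 10872, 9, 10),
  (106, 5684, 8, 11),
  (176, 3767, 12, 13),
  (45, 1221, 0, 14),
  (604, 14364, 15, 16),
  (509, 12506, 14, 17),
  (355, 2971, 18, 19),
  (131, 1850, 20, 21),
  (107, 2037, 16, 22),
  (201, 7009, 23, 24),
  (545, 5232, 25, 26),
  (49, 10420, 2, 27),
  (579, 12337, 28, 29),
  (109, 9540, 30, 31),
  (514, 8215, 26, 32),
  (480, 12693, 33, 20),
  (605, 4352, 27, 1),
  (281, 14639, 34, 35),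
  (157, 7988, 36, 37),
  (108, 13627, 29, 38),
  (226, 3708, 17, 0),
  (146, 3598, 4, 39),
  (420, 13133, 40, 41),
  (524, 14254, 42, 43),
  (48, 14067, 6, 44),
  (554, 9095, 45, 30),
  (529, 12396, 39, 3),
  (209, 2573, 46, 47),
  (239, 825, 48, 49),
  (519, 13217, 41, 50),
  (611, 14411, 43, 51),
  (431, 9859, 52, 36),
  (581, 297, 44, 5),
  (332, 8738, 53, 54),
  (183, 8925, 55, 56),
  (46, 6564, 24, 57),
  (141, 7889, 10, 58),
  (295, 3411, 51, 42),
  (170, 11752, 11, 7),
  (499, 1465, 59, 60),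
  (623, 6664, 61, 62),
  (47, 2477, 13, 63),
  (533, 3983, 57, 23),
  (309, 10257, 64, 48),
  (409, 11984, 58, 9),
  (464, 7460, 65, 66),
  (369, 6135, 67, 68),
  (136, 2887, 19, 69),
  (617, 7069, 60, 70),
  (588, 3206, 62, 71),
  (382, 2254, 72, 55),
  (557, 11191, 63, 12),
  (258, 11696, 73, 74),
  (571, 13531, 75, 76),
  (541, 627, 77, 78),
  (169, 1693, 21, 33),
  (349, 6245, 71, 61),
  (199, 1155, 22, 15),
  (448, 7366, 79, 80),
  (597, 7179, 81, 82),
  (537, 11301, 76, 83),
  (418, 9630, 78, 84),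
  (64, 5462, 85, 67),
  (289, 10367, 69, 18),
  (94, 5056, 86, 87),
  (411, 9969, 88, 89),
  (292, 8298, 90, 91),
  (163, 9035, 35, 92),
  (590, 9310, 80, 93),
  (560, 9716, 82, 94),
  (458, 10070, 95, 46),
  (247, 12121, 31, 45),
  (471, 5847, 84, 77),
  (371, 2668, 32, 25),
  (316, 8644, 96, 97),
  (192, 12898, 37, 52),
  (273, 13850, 94, 81),
  (223, 4913, 38, 28),
  (397, 4408, 98, 99),
  (212, 12788, 74, 100),
  (243, 4803, 47, 95),
  (402, 2144, 97, 101),
  (278, 11586, 89, 102),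
  (444, 7570, 70, 59),
  (491, 5737, 50, 40),
  (61, 11048, 103, 90),
  (336, 8534, 92, 34),
  (92, 3063, 104, 105),
  (488, 7806, 87, 106),
  (340, 3997, 107, 108),
  (185, 6794, 54, 109),
  (568, 3316, 99, 110),
  (362, 6474, 49, 64),
  (91, 10642, 102, 88),
  (215, 6388, 56, 72),
  (322, 6034, 83, 75),
  (387, 10959, 111, 112),
  (452, 440, 113, 114),
  (353, 13960, 66, 115),
  (477, 4518, 68, 85),
  (328, 4705, 106, 86),
  (392, 880, 93, 79),
  (63, 13041, 116, 107),
  (263, 572, 109, 53),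
  (90, 4133, 117, 111),
  (435, 10655, 105, 118),
  (268, 5145, 119, 113),
  (465, 8391, 110, 98),
  (62, 5327, 101, 96),
  (93, 9325, 115, 65),
  (377, 13707, 108, 116),
  (303, 1012, 112, 117),
  (427, 11399, 91, 103),
  (253, 2397, 118, 104),
  (60, 11971, 114, 119),
  (310, 7713, 100, 73)]

/-- The first generator modulo five. -/
def g5 : Matrix.SpecialLinearGroup (Fin 2) (ZMod 5) := ⟨!![0, 4; 1, 0], by decide⟩

/-- The second generator modulo five. -/
def h5 : Matrix.SpecialLinearGroup (Fin 2) (ZMod 5) := ⟨!![1, 1; 0, 1], by decide⟩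

/-- The image of the first generator. -/
def g11 : Matrix.SpecialLinearGroup (Fin 2) (ZMod 11) := ⟨!![0, 1; 10, 0], by decide⟩

/-- The image of the second generator. -/
def h11 : Matrix.SpecialLinearGroup (Fin 2) (ZMod 11) := ⟨!![1, 3; 4, 2], by decide⟩

theorem table_mul : ∀ r ∈ table,
    (r.2.2.1 < table.length ∧
      (g5 : Matrix (Fin 2) (Fin 2) (ZMod 5)) * mat 5 r.1 = mat 5 (table.getD r.2.2.1 (0, 0, 0, 0)).1 ∧
      (g11 : Matrix (Fin 2) (Fin 2) (ZMod 11)) * mat 11 r.2.1 = mat 11 (table.getD r.2.2.1 (0, 0, 0, 0)).2.1) ∧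
    (r.2.2.2 < table.length ∧
      (h5 : Matrix (Fin 2) (Fin 2) (ZMod 5)) * mat 5 r.1 = mat 5 (table.getD r.2.2.2 (0, 0, 0, 0)).1 ∧
      (h11 : Matrix (Fin 2) (Fin 2) (ZMod 11)) * mat 11 r.2.1 = mat 11 (table.getD r.2.2.2 (0, 0, 0, 0)).2.1) := by
  decide +kernel

theorem table_inj : ∀ r ∈ table, mat 5 r.1 = 1 → mat 11 r.2.1 = 1 := by decide +kernel

theorem table_free : ∀ r ∈ table, mat 5 r.1 = 1 ∨ (mat 11 r.2.1).trace ≠ 2 := by decide +kernel

theorem table_surj : ∀ a b c d : ZMod 5, a * d - b * c = 1 → ∃ r ∈ table, mat 5 r.1 = !![a, b; c, d] := by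
  decide +kernel

/-- The graph of the embedding. -/
abbrev Γ : Subgroup (Matrix.SpecialLinearGroup (Fin 2) (ZMod 5) × Matrix.SpecialLinearGroup (Fin 2) (ZMod 11)) :=
  Subgroup.closure {(g5, g11), (h5, h11)}

theorem mem_table (x : Γ) : ∃ r ∈ table, (x.1.1 : Matrix (Fin 2) (Fin 2) (ZMod 5)) = mat 5 r.1 ∧
    (x.1.2 : Matrix (Fin 2) (Fin 2) (ZMod 11)) = mat 11 r.2.1 := by
  have hx := x.2
  rw [← Subgroup.mem_toSubmonoid, Subgroup.closure_toSubmonoid_of_finite] at hx
  generalize x.1 = y at hx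
  induction hx using Submonoid.closure_induction_left with
  | one => exact ⟨table.getD 0 (0, 0, 0, 0), by decide +kernel, by decide +kernel, by decide +kernel⟩
  | mul_left a ha z _ ih =>
    obtain ⟨r, hr, e1, e2⟩ := ih
    obtain ⟨⟨l1, a1, b1⟩, l2, a2, b2⟩ := table_mul r hr
    rcases ha with rfl | rfl
    · refine ⟨_, List.getElem_mem l1, ?_, ?_⟩
      · rw [Prod.fst_mul, Matrix.SpecialLinearGroup.coe_mul, e1, a1, List.getD_eq_getElem _ _ l1]
      · rw [Prod.snd_mul, Matrix.SpecialLinearGroup.coe_mul, e2, b1, List.getD_eq_getElem _ _ l1]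
    · refine ⟨_, List.getElem_mem l2, ?_, ?_⟩
      · rw [Prod.fst_mul, Matrix.SpecialLinearGroup.coe_mul, e1, a2, List.getD_eq_getElem _ _ l2]
      · rw [Prod.snd_mul, Matrix.SpecialLinearGroup.coe_mul, e2, b2, List.getD_eq_getElem _ _ l2]

/-- The first projection. -/
abbrev proj : Γ →* Matrix.SpecialLinearGroup (Fin 2) (ZMod 5) :=
  (MonoidHom.fst _ _).comp Γ.subtype

theorem proj_injective : Function.Injective proj := by
  rw [injective_iff_map_eq_one]
  intro x hx
  obtain ⟨r, hr, e1, e2⟩ := mem_table x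
  have h := table_inj r hr (by rw [← e1]; exact congrArg Subtype.val hx)
  apply Subtype.ext
  refine Prod.ext hx (Subtype.ext ?_)
  rw [e2, h]; rfl

theorem proj_surjective : Function.Surjective proj := by
  intro M
  have hgen : ∀ i, i < table.length → ∃ x : Γ,
      ((proj x : Matrix.SpecialLinearGroup (Fin 2) (ZMod 5)) : Matrix (Fin 2) (Fin 2) (ZMod 5)) =
        mat 5 (table.getD i (0, 0, 0, 0)).1 := by
    have key : ∀ i, i < table.length → i = 0 ∨ ∃ j, j < i ∧
        ((table.getD j (0, 0, 0, 0)).2.2.1 = i ∨ (table.getD j (0, 0, 0, 0)).2.2.2 = i) := by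
      decide +kernel
    intro i
    induction i using Nat.strong_induction_on with
    | _ i ih =>
      intro hi
      rcases key i hi with rfl | ⟨j, hj, hj'⟩
      · exact ⟨1, by decide +kernel⟩
      obtain ⟨x, hx⟩ := ih j hj (hj.trans hi)
      have hmem : table.getD j (0, 0, 0, 0) ∈ table := by
        rw [List.getD_eq_getElem _ _ (hj.trans hi)]; exact List.getElem_mem _
      obtain ⟨⟨-, a1, -⟩, -, a2, -⟩ := table_mul _ hmem
      rcases hj' with e | e
      · refine ⟨⟨(g5, g11), Subgroup.subset_closure (Set.mem_insert _ _)⟩ * x, ?_⟩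
        rw [map_mul, Matrix.SpecialLinearGroup.coe_mul, hx, ← e]
        exact a1
      · refine ⟨⟨(h5, h11), Subgroup.subset_closure (Set.mem_insert_of_mem _ rfl)⟩ * x, ?_⟩
        rw [map_mul, Matrix.SpecialLinearGroup.coe_mul, hx, ← e]
        exact a2
  have hdet := M.2
  rw [Matrix.det_fin_two] at hdet
  obtain ⟨r, hr, e⟩ := table_surj _ _ _ _ hdet
  obtain ⟨i, hi, rfl⟩ := List.getElem_of_mem hr
  obtain ⟨x, hx⟩ := hgen i hi
  refine ⟨x, Subtype.ext ?_⟩
  rw [hx, List.getD_eq_getElem _ _ hi, e, ← Matrix.eta_fin_two]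

/-- The translation part. -/
abbrev A : Type := Multiplicative (Fin 2 → ZMod 11)

/-- The action on the plane over the field with eleven elements. -/
def act : Γ →* MulAut A where
  toFun x :=
    { toFun := fun a => Multiplicative.ofAdd
        ((x.1.2 : Matrix (Fin 2) (Fin 2) (ZMod 11)).mulVec (Multiplicative.toAdd a))
      invFun := fun a => Multiplicative.ofAdd
        (((x⁻¹ : Γ).1.2 : Matrix (Fin 2) (Fin 2) (ZMod 11)).mulVec (Multiplicative.toAdd a))
      left_inv := fun a => by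
        simp only [toAdd_ofAdd, Matrix.mulVec_mulVec, ← Matrix.SpecialLinearGroup.coe_mul,
          ← Prod.snd_mul, ← Subgroup.coe_mul, inv_mul_cancel]
        simp
      right_inv := fun a => by
        simp only [toAdd_ofAdd, Matrix.mulVec_mulVec, ← Matrix.SpecialLinearGroup.coe_mul,
          ← Prod.snd_mul, ← Subgroup.coe_mul, mul_inv_cancel]
        simp
      map_mul' := fun a b => congrArg Multiplicative.ofAdd (Matrix.mulVec_add _ _ _) }
  map_one' := MulEquiv.ext fun a => by simp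
  map_mul' x y := MulEquiv.ext fun a => by
    show Multiplicative.ofAdd _ = Multiplicative.ofAdd
      (Matrix.mulVec (x.1.2 : Matrix (Fin 2) (Fin 2) (ZMod 11))
        (Matrix.mulVec (y.1.2 : Matrix (Fin 2) (Fin 2) (ZMod 11)) (Multiplicative.toAdd a)))
    rw [Matrix.mulVec_mulVec]
    rfl

theorem act_free {y : Γ} {a : A} (h : act y a = a) (ha : a ≠ 1) : y = 1 := by
  obtain ⟨r, hr, e1, e2⟩ := mem_table y
  rcases table_free r hr with h1 | h1
  · exact proj_injective ((Subtype.ext (e1.trans h1)).trans (map_one proj).symm)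
  · exfalso
    apply h1
    rw [← e2]
    set M := (y.1.2 : Matrix (Fin 2) (Fin 2) (ZMod 11)) with hM
    have hdet : M.det = 1 := y.1.2.2
    have hne : Multiplicative.toAdd a ≠ 0 := fun e => ha (Multiplicative.toAdd.injective e)
    haveI : Fact (Nat.Prime 11) := ⟨by norm_num⟩
    have hz : (M - 1).det = 0 := Matrix.exists_mulVec_eq_zero_iff.mp ⟨_, hne, by
      rw [Matrix.sub_mulVec, Matrix.one_mulVec, sub_eq_zero]
      exact congrArg Multiplicative.toAdd h⟩
    rw [Matrix.det_fin_two] at hdet hz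
    simp only [Matrix.sub_apply, Matrix.one_apply_eq, ne_eq, Matrix.one_apply] at hz
    rw [Matrix.trace_fin_two]
    simp at hz
    linear_combination hdet - hz

theorem result :
    ∃ (L : Type) (_ : Group L) (_ : Finite L) (H : Subgroup L),
      Cfsg.IsFrobeniusComplement H ∧ Nonempty (H ≃* Matrix.SpecialLinearGroup (Fin 2) (ZMod 5)) := by
  haveI : Finite (A ⋊[act] Γ) := Finite.of_equiv _ SemidirectProduct.equivProd.symm
  refine ⟨A ⋊[act] Γ, inferInstance, inferInstance, inr.range, ⟨?_, ?_, ?_⟩, ?_⟩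
  · intro h
    obtain ⟨x, hx⟩ := proj_surjective g5
    have h1 : inr x ∈ (inr : Γ →* A ⋊[act] Γ).range := ⟨x, rfl⟩
    rw [h, Subgroup.mem_bot, ← map_one inr] at h1
    rw [inr_injective h1, map_one] at hx
    exact absurd hx (by decide +kernel)
  · intro h
    let a : A := Multiplicative.ofAdd fun _ => 1
    obtain ⟨y, hy⟩ : inl a ∈ (inr : Γ →* A ⋊[act] Γ).range := h ▸ Subgroup.mem_top _
    have := congrArg SemidirectProduct.left hy
    simp only [left_inr, left_inl] at this
    have h2 := congrFun (congrArg Multiplicative.toAdd this.symm) 0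
    simp [a] at h2 <;> exact absurd h2 (by decide)
  · intro g hg
    rw [Subgroup.eq_bot_iff_forall]
    rintro _ ⟨⟨y, rfl⟩, ⟨_, ⟨y', rfl⟩, hy⟩⟩
    obtain ⟨a, x⟩ := g
    have ha : a ≠ 1 := fun e => hg ⟨x, by ext <;> simp [e]⟩
    simp only [MulDistribMulAction.toMonoidEnd_apply, MulDistribMulAction.toMonoidHom_apply,
      MulAut.smul_def, MulAut.conj_apply] at hy
    have hr := congrArg SemidirectProduct.right hy
    have hl := congrArg SemidirectProduct.left hy
    simp only [mul_right, right_inr, inv_right, mul_left, left_inr, inv_left, map_one, mul_one] at hr hl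
    rw [← MulAut.mul_apply, ← map_mul, hr, map_inv, mul_inv_eq_one] at hl
    rw [act_free hl.symm ha, map_one]
  · exact ⟨(MonoidHom.ofInjective inr_injective).symm.trans
      (MulEquiv.ofBijective proj ⟨proj_injective, proj_surjective⟩)⟩

end Cfsg.Agent.S3374
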