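import Mathlib

set_option autoImplicit false

namespace Cfsg.Agent.S3375

variable {H : Type*} [Group H]

/-- The fixed points of an automorphism. -/
def fixed (γ : MulAut H) : Subgroup H where
  carrier := {h | γ h = h}
  one_mem' := map_one γ
  mul_mem' := fun {a b} ha hb => by
    simp only [Set.mem_ofPred_eq] at ha hb ⊢
    rw [map_mul, ha, hb]
  inv_mem' := fun {a} ha => by
    simp only [Set.mem_ofPred_eq] at ha ⊢
    rw [map_inv, ha]

/-- The map `a ↦ a γ(a)⁻¹` on cosets of the fixed subgroup. -/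
def twist (γ : MulAut H) : H ⧸ fixed γ → H :=
  Quotient.lift (fun a => a * (γ a)⁻¹) fun a b hab => by
    have h : γ (a⁻¹ * b) = a⁻¹ * b := QuotientGroup.leftRel_apply.mp hab
    rw [map_mul, map_inv] at h
    have : γ b = γ a * a⁻¹ * b := by rw [mul_assoc, ← h, mul_inv_cancel_left]
    show a * (γ a)⁻¹ = b * (γ b)⁻¹
    rw [this]; group

theorem twist_injective (γ : MulAut H) : Function.Injective (twist γ) := by
  intro x y
  refine Quotient.inductionOn₂ x y fun a b h => Quotient.sound (QuotientGroup.leftRel_apply.mpr ?_)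
  show γ (a⁻¹ * b) = a⁻¹ * b
  change a * (γ a)⁻¹ = b * (γ b)⁻¹ at h
  rw [map_mul, map_inv]
  calc (γ a)⁻¹ * γ b = a⁻¹ * (a * (γ a)⁻¹) * γ b := by group
    _ = a⁻¹ * (b * (γ b)⁻¹) * γ b := by rw [h]
    _ = a⁻¹ * b := by group

theorem twist_inverted {γ : MulAut H} (h2 : ∀ x, γ (γ x) = x) (x : H ⧸ fixed γ) :
    γ (twist γ x) = (twist γ x)⁻¹ := by
  refine Quotient.inductionOn x fun a => ?_
  show γ (a * (γ a)⁻¹) = (a * (γ a)⁻¹)⁻¹
  rw [map_mul, map_inv, h2]; group

theorem inverted_commute {γ : MulAut H} {a b : H} (ha : γ a = a⁻¹) (hb : γ b = b⁻¹)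
    (hab : γ (a * b) = (a * b)⁻¹) : a * b = b * a := by
  rw [map_mul, ha, hb] at hab
  calc a * b = (b⁻¹ * a⁻¹)⁻¹ := by group
    _ = (a⁻¹ * b⁻¹)⁻¹ := by rw [show a⁻¹ * b⁻¹ = (a * b)⁻¹ from hab]; group
    _ = b * a := by group

theorem result {H : Type*} [Group H] [Finite H] (γ : MulAut H) (hγ : orderOf γ = 2) :
    ((∀ h : H, γ h = h → h = 1) → (∀ a b : H, a * b = b * a) ∧ ∀ h : H, γ h = h⁻¹) ∧
    ((Nat.card {h : H // γ h = h} = 2 ∧ ∃ M : Subgroup H, M.index = 2) →
      ∃ A : Subgroup H, A.index = 2 ∧ IsMulCommutative A ∧ (∀ a ∈ A, γ a ∈ A) ∧ ∀ a ∈ A, γ a = a⁻¹) := by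
  have h2 : ∀ x, γ (γ x) = x := fun x => by
    have := pow_orderOf_eq_one γ
    rw [hγ, pow_two] at this
    exact DFunLike.congr_fun this x
  refine ⟨fun h1 => ?_, ?_⟩
  · have hbot : fixed γ = ⊥ := (Subgroup.eq_bot_iff_forall _).mpr h1
    have hs : Function.Surjective (twist γ) := by
      refine ((Nat.bijective_iff_injective_and_card _).mpr ⟨twist_injective γ, ?_⟩).2
      rw [← Subgroup.index_eq_card, hbot, Subgroup.index_bot]
    have hi : ∀ h : H, γ h = h⁻¹ := fun h => by
      obtain ⟨x, rfl⟩ := hs h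
      exact twist_inverted h2 x
    exact ⟨fun a b => inverted_commute (hi a) (hi b) (hi _), hi⟩
  · rintro ⟨hcard, M, hM⟩
    obtain ⟨L, hL, hinv⟩ : ∃ L : Subgroup H, L.index = 2 ∧ ∀ x, γ x ∈ L ↔ x ∈ L := by
      by_cases hMi : ∀ x, γ x ∈ M ↔ x ∈ M
      · exact ⟨M, hM, hMi⟩
      let L : Subgroup H :=
        { carrier := {x | γ x ∈ M ↔ x ∈ M}
          one_mem' := by simp [M.one_mem]
          mul_mem' := fun {a b} ha hb => by
            simp only [Set.mem_ofPred_eq] at ha hb ⊢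
            rw [map_mul, Subgroup.mul_mem_iff_of_index_two hM, Subgroup.mul_mem_iff_of_index_two hM,
              ha, hb]
          inv_mem' := fun {a} ha => by
            simp only [Set.mem_ofPred_eq] at ha ⊢
            rw [map_inv, inv_mem_iff, inv_mem_iff, ha] }
      have hmem : ∀ x, x ∈ L ↔ (γ x ∈ M ↔ x ∈ M) := fun _ => Iff.rfl
      refine ⟨L, ?_, fun x => by rw [hmem, hmem, h2]; exact iff_comm⟩
      push Not at hMi
      obtain ⟨a, ha⟩ := hMi
      refine Subgroup.index_eq_two_iff.mpr ⟨a, fun b => ?_⟩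
      rw [hmem, hmem, map_mul, Subgroup.mul_mem_iff_of_index_two hM, Subgroup.mul_mem_iff_of_index_two hM]
      simp only [Xor]
      tauto
    have hfix : Nat.card (fixed γ) = 2 := hcard
    have hmemL : ∀ x, twist γ x ∈ L := fun x => Quotient.inductionOn x fun a => by
      show a * (γ a)⁻¹ ∈ L
      rw [Subgroup.mul_mem_iff_of_index_two hL, inv_mem_iff, hinv]
    have hs : Function.Surjective (fun x => (⟨twist γ x, hmemL x⟩ : L)) := by
      refine ((Nat.bijective_iff_injective_and_card _).mpr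
        ⟨fun x y h => twist_injective γ (congrArg Subtype.val h), ?_⟩).2
      have e1 := Subgroup.card_mul_index (fixed γ)
      have e2 := Subgroup.card_mul_index L
      rw [← Subgroup.index_eq_card]
      rw [hfix] at e1; rw [hL] at e2
      omega
    have hi : ∀ a ∈ L, γ a = a⁻¹ := fun a ha => by
      obtain ⟨x, hx⟩ := hs ⟨a, ha⟩
      obtain rfl : twist γ x = a := congrArg Subtype.val hx
      exact twist_inverted h2 x
    exact ⟨L, hL, .of_setLike_mul_comm fun a ha b hb =>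
      inverted_commute (hi a ha) (hi b hb) (hi _ (L.mul_mem ha hb)),
      fun a ha => (hinv a).mpr ha, hi⟩

end Cfsg.Agent.S3375
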