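import Cfsg.Statements.S3376
import Cfsg.Agent.S3356
import Mathlib.GroupTheory.Perm.Centralizer
import Mathlib.GroupTheory.Sylow

set_option autoImplicit false
open Cfsg

namespace Cfsg.Agent.S3376

theorem cycleType_fpf {π : Equiv.Perm (Fin 9)} (h3 : orderOf π = 3) (hfp : ∀ i, π i ≠ i) :
    π.cycleType = {3, 3, 3} := by
  obtain ⟨n, hn⟩ := Equiv.Perm.cycleType_prime_order (σ := π) (by rw [h3]; norm_num)
  have hs : π.support = Finset.univ := by ext i; simp [hfp i]
  have hsum := π.sum_cycleType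
  rw [hn, hs, h3, Multiset.sum_replicate, Finset.card_univ, Fintype.card_fin, smul_eq_mul] at hsum
  rw [hn, h3, show n = 2 by omega]
  rfl

theorem card_centralizer_fpf {π : Equiv.Perm (Fin 9)} (h : π.cycleType = {3, 3, 3}) :
    Nat.card (Subgroup.centralizer ({π} : Set (Equiv.Perm (Fin 9)))) = 162 := by
  rw [Equiv.Perm.nat_card_centralizer, h, Fintype.card_fin]
  decide

theorem normal_inter_fixed {G : Type*} [Group G] [Finite G] (S K : Subgroup G) {p : ℕ}
    [Fact p.Prime] (hS : IsPGroup p S) (hKS : K ≤ S) (hn : ∀ g ∈ S, ∀ x ∈ K, g * x * g⁻¹ ∈ K)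
    (hne : K ≠ ⊥) : ∃ x ∈ K, x ≠ 1 ∧ ∀ g ∈ S, g * x = x * g := by
  letI := S3356.conjOn S (K : Set G) hn
  have hdvd : p ∣ Nat.card (K : Set G) := by
    haveI : Nontrivial K := (Subgroup.nontrivial_iff_ne_bot K).mpr hne
    obtain ⟨n, hn0, hc⟩ := (hS.to_le hKS).nontrivial_iff_card.mp inferInstance
    exact hc ▸ dvd_pow_self p hn0.ne'
  have h1 : (⟨1, one_mem K⟩ : (K : Set G)) ∈ MulAction.fixedPoints S (K : Set G) := fun g =>
    Subtype.ext (show (g : G) * 1 * (g : G)⁻¹ = 1 by simp)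
  obtain ⟨x, hx, hne'⟩ := hS.exists_fixed_point_of_prime_dvd_card_of_fixed_point (K : Set G) hdvd h1
  exact ⟨x, x.2, fun h => hne' (Subtype.ext h.symm),
    fun g hg => mul_inv_eq_iff_eq_mul.mp (congrArg Subtype.val (hx ⟨g, hg⟩))⟩

/-- Let G be a group of order 162 = 3⁴·2 with Sylow 3-subgroup S and Sylow 2-subgroup T, having an elementary abelian normal subgroup J of order 27, such that Z = Z(S) has order 3, Z centralizes T, and C_S(T) ≠ S. Then G is isomorphic to the centralizer in Sym(9) of a product of three disjoint 3-cycles. -/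
theorem result {G : Type*} [Group G] [Finite G] (hG : Nat.card G = 162)
    (S : Sylow 3 G) (T : Sylow 2 G) (J : Subgroup G) [hJn : J.Normal] (hJcomm : IsMulCommutative J)
    (hJexp : ∀ a ∈ J, a ^ 3 = 1) (hJcard : Nat.card J = 27)
    (Z : Subgroup G) (hZ : Z = (S : Subgroup G) ⊓ Subgroup.centralizer ((S : Subgroup G) : Set G)) (hZcard : Nat.card Z = 3)
    (hZT : Z ≤ Subgroup.centralizer ((T : Subgroup G) : Set G))
    (hST : (S : Subgroup G) ⊓ Subgroup.centralizer ((T : Subgroup G) : Set G) ≠ S) :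
    Nonempty (G ≃* Subgroup.centralizer ({Equiv.swap (0 : Fin 9) 1 * Equiv.swap 1 2 * Equiv.swap 3 4 * Equiv.swap 4 5 * Equiv.swap 6 7 * Equiv.swap 7 8} : Set (Equiv.Perm (Fin 9)))) := by
  haveI : Fact (Nat.Prime 3) := ⟨Nat.prime_three⟩
  haveI : Fact (Nat.Prime 2) := ⟨Nat.prime_two⟩
  have hS : Nat.card (S : Subgroup G) = 81 := by
    rw [S.card_eq_multiplicity, hG, show (162 : ℕ) = 3 ^ 4 * 2 from rfl,
      Nat.factorization_mul (by norm_num) (by norm_num), Nat.Prime.factorization_pow Nat.prime_three]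
    simp [Nat.factorization_eq_zero_of_not_dvd (show ¬ 3 ∣ 2 by norm_num)]
  have hT : Nat.card (T : Subgroup G) = 2 := by
    rw [T.card_eq_multiplicity, hG, show (162 : ℕ) = 2 * 81 from rfl,
      Nat.factorization_mul (by norm_num) (by norm_num)]
    simp [Nat.prime_two.factorization_self,
      Nat.factorization_eq_zero_of_not_dvd (show ¬ 2 ∣ 81 by norm_num)]
  have hS2 : (S : Subgroup G).index = 2 := by
    have h := (S : Subgroup G).card_mul_index
    rw [hS, hG] at h
    omega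
  haveI hSn : (S : Subgroup G).Normal := Subgroup.normal_of_index_eq_two hS2
  have hcube : ∀ g : G, g ^ 3 = 1 → g ∈ (S : Subgroup G) := by
    intro g hg
    have h := pow_mem (Subgroup.sq_mem_of_index_two hS2 g) 2
    rwa [← pow_mul, pow_succ, hg, one_mul] at h
  have hJS : J ≤ (S : Subgroup G) := fun a ha => hcube a (hJexp a ha)
  have hZS : Z ≤ (S : Subgroup G) := hZ ▸ inf_le_left
  have hZc : ∀ s ∈ (S : Subgroup G), ∀ u ∈ Z, s * u = u * s := fun s hs u hu =>
    Subgroup.mem_centralizer_iff.mp ((hZ ▸ hu : u ∈ (S : Subgroup G) ⊓ _).2) s hs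
  have hcomm : ∀ a ∈ J, ∀ b ∈ J, Commute a b := fun a ha b hb =>
    congrArg Subtype.val (hJcomm.1.1 (⟨a, ha⟩ : J) ⟨b, hb⟩)
  obtain ⟨z, hzZ, hz1⟩ := (Subgroup.bot_or_exists_ne_one Z).resolve_left
    (fun h => by rw [h, Subgroup.card_bot] at hZcard; norm_num at hZcard)
  have hzo : orderOf z = 3 := by
    refine orderOf_eq_prime ?_ hz1
    have := pow_card_eq_one' (x := (⟨z, hzZ⟩ : Z))
    rw [hZcard] at this
    exact congrArg Subtype.val this
  have hZle : Z = Subgroup.zpowers z := (Subgroup.eq_of_le_of_card_ge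
    (Subgroup.zpowers_le.mpr hzZ) (by rw [hZcard, Nat.card_zpowers, hzo])).symm
  have hzJ : z ∈ J := by
    by_contra hzJ
    have hlt : J < J ⊔ Z := lt_of_le_of_ne le_sup_left fun h => hzJ (h ▸ Subgroup.mem_sup_right hzZ)
    have hle : J ⊔ Z ≤ (S : Subgroup G) := sup_le hJS hZS
    have hcard : Nat.card (J ⊔ Z : Subgroup G) = 81 := by
      have h1 : Nat.card (J ⊔ Z : Subgroup G) ∣ 3 ^ 4 := by
        rw [show (3 : ℕ) ^ 4 = 81 from rfl, ← hS]; exact Subgroup.card_dvd_of_le hle
      obtain ⟨k, hk, hk'⟩ := (Nat.dvd_prime_pow Nat.prime_three).mp h1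
      have h2 : 27 < Nat.card (J ⊔ Z : Subgroup G) :=
        hJcard ▸ Set.ncard_lt_ncard hlt (Set.toFinite _)
      interval_cases k <;> omega
    have heq : J ⊔ Z = (S : Subgroup G) := Subgroup.eq_of_le_of_card_ge hle (by rw [hcard, hS])
    have hab : (S : Subgroup G) ≤ Subgroup.centralizer ((S : Subgroup G) : Set G) := by
      intro s hs
      refine Subgroup.mem_centralizer_iff.mpr fun r hr => ?_
      obtain ⟨a, ha, u, hu, rfl⟩ := Subgroup.mem_sup_of_normal_left.mp (heq ▸ hs : s ∈ J ⊔ Z)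
      obtain ⟨b, hb, v, hv, rfl⟩ := Subgroup.mem_sup_of_normal_left.mp (heq ▸ hr : r ∈ J ⊔ Z)
      have c1 : Commute (b * v) u := hZc _ (mul_mem (hJS hb) (hZS hv)) u hu
      have c2 : Commute v a := (hZc a (hJS ha) v hv).symm
      exact (Commute.mul_right ((hcomm b hb a ha).mul_left c2) c1).eq
    have : Z = (S : Subgroup G) := by rw [hZ]; exact inf_eq_left.mpr hab
    rw [this, hS] at hZcard
    norm_num at hZcard
  obtain ⟨t, htT, ht1⟩ := (Subgroup.bot_or_exists_ne_one (T : Subgroup G)).resolve_left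
    (fun h => by rw [h, Subgroup.card_bot] at hT; norm_num at hT)
  have hto : orderOf t = 2 := by
    refine orderOf_eq_prime ?_ ht1
    have := pow_card_eq_one' (x := (⟨t, htT⟩ : (T : Subgroup G)))
    rw [hT] at this
    exact congrArg Subtype.val this
  have hTle : (T : Subgroup G) = Subgroup.zpowers t := (Subgroup.eq_of_le_of_card_ge
    (Subgroup.zpowers_le.mpr htT) (by rw [hT, Nat.card_zpowers, hto])).symm
  have htS : t ∉ (S : Subgroup G) := by
    intro h
    have hd : (2 : ℕ) ∣ 81 := hto ▸ hS ▸ Subgroup.orderOf_mk t h ▸ orderOf_dvd_natCard _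
    norm_num at hd
  have htz : t * z = z * t := Subgroup.mem_centralizer_iff.mp (hZT hzZ) t htT
  have hzc : ∀ g : G, g * z = z * g := by
    have h81 : 81 ∣ Nat.card (Subgroup.centralizer {z}) :=
      hS ▸ Subgroup.card_dvd_of_le fun s hs => Subgroup.mem_centralizer_singleton_iff.mpr (hZc s hs z hzZ)
    have h2 : 2 ∣ Nat.card (Subgroup.centralizer {z}) :=
      hT ▸ Subgroup.card_dvd_of_le (hTle ▸ Subgroup.zpowers_le.mpr
        (Subgroup.mem_centralizer_singleton_iff.mpr htz))
    have h162 := Nat.Coprime.mul_dvd_of_dvd_of_dvd (by norm_num) h81 h2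
    have htop : Subgroup.centralizer {z} = ⊤ := Subgroup.eq_top_of_le_card _
      (hG ▸ Nat.le_of_dvd Nat.card_pos h162)
    exact fun g => Subgroup.mem_centralizer_singleton_iff.mp (htop ▸ Subgroup.mem_top g)
  have ht2 : t * t = 1 := by rw [← pow_two, ← hto, pow_orderOf_eq_one]
  have htinv : t⁻¹ = t := inv_eq_of_mul_eq_one_left ht2
  -- an invariant complement to `Z` in `J`
  let P : Subgroup G → Prop := fun A => A ≤ J ∧ z ∉ A ∧ ∀ a ∈ A, t * a * t⁻¹ ∈ A
  obtain ⟨A, -, ⟨hAJ, hzA, hAt⟩, hAmax⟩ := Finite.exists_le_maximal (p := P) (a := ⊥)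
    ⟨bot_le, by simpa using hz1, fun a ha => by
      rw [Subgroup.mem_bot] at ha ⊢; rw [ha, mul_one, mul_inv_cancel]⟩
  have heig : ∀ c ∈ J, (t * c * t⁻¹ = c ∨ t * c * t⁻¹ = c⁻¹) → c ∈ A ⊔ Z := by
    intro c hc hct
    by_cases hzc' : z ∈ A ⊔ Subgroup.zpowers c
    · haveI : IsMulCommutative J := hJcomm
      have hnormA : Subgroup.zpowers c ≤ Subgroup.normalizer (A : Set G) := by
        refine Subgroup.zpowers_le.mpr (Subgroup.mem_normalizer_iff.mpr fun a => ?_)
        constructor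
        · intro ha; rwa [(hcomm c hc a (hAJ ha)).eq, mul_inv_cancel_right]
        · intro ha
          have haJ : a ∈ J := by simpa [mul_assoc] using hJn.conj_mem _ (hAJ ha) c⁻¹
          rwa [(hcomm c hc a haJ).eq, mul_inv_cancel_right] at ha
      have hmem : z ∈ ((A ⊔ Subgroup.zpowers c : Subgroup G) : Set G) := hzc'
      rw [Subgroup.coe_mul_of_right_le_normalizer_left _ _ hnormA] at hmem
      obtain ⟨a, ha, _, ⟨i, rfl⟩, hz'⟩ := hmem
      have hz'' : a * c ^ i = z := hz'
      have hi : c ^ i ∈ A ⊔ Z := by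
        rw [show c ^ i = a⁻¹ * z by rw [← hz'', inv_mul_cancel_left]]
        exact mul_mem (Subgroup.mem_sup_left (inv_mem ha)) (Subgroup.mem_sup_right hzZ)
      by_cases h3 : (3 : ℤ) ∣ i
      · exfalso
        obtain ⟨k, rfl⟩ := h3
        have hc3 : c ^ (3 : ℤ) = 1 := by exact_mod_cast hJexp c hc
        rw [zpow_mul, hc3, one_zpow, mul_one] at hz''
        exact hzA (hz'' ▸ ha)
      · have hc3 : c ^ (3 : ℤ) = 1 := by exact_mod_cast hJexp c hc
        have hsq : c ∈ A ⊔ Z := by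
          obtain ⟨q, hq⟩ : ∃ q, i = 3 * q + 1 ∨ i = 3 * q + 2 := ⟨i / 3, by omega⟩
          rcases hq with rfl | rfl
          · rwa [zpow_add, zpow_mul, hc3, one_zpow, one_mul, zpow_one] at hi
          · rw [zpow_add, zpow_mul, hc3, one_zpow, one_mul] at hi
            have h4 := mul_mem hi hi
            rw [← zpow_add] at h4
            have e : c ^ ((2 : ℤ) + 2) = c := by rw [show (2 : ℤ) + 2 = 3 + 1 from rfl, zpow_add, hc3, one_mul, zpow_one]
            rwa [e] at h4
        exact hsq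
    · have hP : P (A ⊔ Subgroup.zpowers c) := by
        refine ⟨sup_le hAJ (Subgroup.zpowers_le.mpr hc), hzc', fun x hx => ?_⟩
        have hle : A ⊔ Subgroup.zpowers c ≤ (A ⊔ Subgroup.zpowers c).comap (MulAut.conj t).toMonoidHom :=
          sup_le (fun a ha => Subgroup.mem_sup_left (by simpa using hAt a ha))
            (Subgroup.zpowers_le.mpr (Subgroup.mem_sup_right (by
              rcases hct with h | h <;> simp [h])))
        simpa using hle hx
      exact Subgroup.mem_sup_left (hAmax hP le_sup_left (Subgroup.mem_sup_right (Subgroup.mem_zpowers c)))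
  have hJle : J ≤ A ⊔ Z := by
    intro x hx
    set y := t * x * t⁻¹ with hy
    have hyJ : y ∈ J := hJn.conj_mem x hx t
    have hty : t * y * t⁻¹ = x := by
      rw [hy, htinv, ← mul_assoc, ← mul_assoc, ht2, one_mul, mul_assoc, ht2, mul_one]
    have c := hcomm x hx y hyJ
    have h1 := heig (x * y) (mul_mem hx hyJ) (Or.inl (by
      rw [← conj_mul, hty, ← hy]; exact c.symm.eq))
    have h2 := heig (x * y⁻¹) (mul_mem hx (inv_mem hyJ)) (Or.inr (by
      rw [← conj_mul, ← conj_inv, hty, ← hy, mul_inv_rev, inv_inv]))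
    have h3 := mul_mem h1 h2
    rw [show x * y * (x * y⁻¹) = x * x by rw [c.eq, mul_assoc, ← mul_assoc x, ← pow_two, (c.pow_left 2).inv_right.eq, ← mul_assoc, mul_inv_cancel, one_mul]] at h3
    have h4 := mul_mem h3 h3
    rwa [show x * x * (x * x) = x by rw [← mul_assoc, show x * x * x = x ^ 3 by simp [pow_succ],
      hJexp x hx, one_mul]] at h4
  have hA9 : Nat.card A = 9 := by
    have hd : Nat.card A ∣ 3 ^ 3 := by
      rw [show (3 : ℕ) ^ 3 = Nat.card J by rw [hJcard]; norm_num]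
      exact Subgroup.card_dvd_of_le hAJ
    obtain ⟨k, hk, hk'⟩ := (Nat.dvd_prime_pow Nat.prime_three).mp hd
    have hdis : Nat.card A ≠ 27 := fun h =>
      hzA ((Subgroup.eq_of_le_of_card_ge hAJ (by rw [h, hJcard])).symm ▸ hzJ)
    have hge : 27 ≤ Nat.card A * 3 := by
      have hs : Function.Surjective (fun q : A × Z => (⟨q.1.1 * q.2.1,
          mul_mem (Subgroup.mem_sup_left q.1.2) (Subgroup.mem_sup_right q.2.2)⟩ : (A ⊔ Z : Subgroup G))) := by
        intro w
        haveI : Z.Normal := ⟨fun u hu g => by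
          rw [hZle] at hu ⊢
          obtain ⟨i, rfl⟩ := hu
          exact ⟨i, (mul_inv_eq_iff_eq_mul.mpr ((Commute.zpow_right (show Commute g z from hzc g) i).eq)).symm⟩⟩
        obtain ⟨a, ha, u, hu, h⟩ := Subgroup.mem_sup_of_normal_right.mp w.2
        exact ⟨(⟨a, ha⟩, ⟨u, hu⟩), Subtype.ext h⟩
      have := Nat.card_le_card_of_surjective _ hs
      rw [Nat.card_prod, hZcard] at this
      exact hJcard ▸ le_trans (Subgroup.card_le_of_le hJle) this
    interval_cases k <;> omega
  -- the subgroup of order 18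
  have hnA : Subgroup.zpowers t ≤ Subgroup.normalizer (A : Set G) := by
    refine Subgroup.zpowers_le.mpr (Subgroup.mem_normalizer_iff.mpr fun a => ⟨hAt a, fun ha => ?_⟩)
    have := hAt _ ha
    rwa [htinv, ← mul_assoc, ← mul_assoc, ht2, one_mul, mul_assoc, ht2, mul_one] at this
  set H := A ⊔ Subgroup.zpowers t with hH
  have hHmem : ∀ h ∈ H, ∃ a ∈ A, h = a ∨ h = a * t := by
    intro h hh
    have hh' : h ∈ (H : Set G) := hh
    rw [hH, Subgroup.coe_mul_of_right_le_normalizer_left _ _ hnA] at hh'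
    obtain ⟨a, ha, _, ⟨i, rfl⟩, rfl⟩ := hh'
    refine ⟨a, ha, ?_⟩
    rcases Int.even_or_odd' i with ⟨k, rfl | rfl⟩
    · left; show a * t ^ (2 * k) = a
      rw [zpow_mul, zpow_two, ht2, one_zpow, mul_one]
    · right; show a * t ^ (2 * k + 1) = a * t
      rw [zpow_add, zpow_mul, zpow_two, ht2, one_zpow, one_mul, zpow_one]
  have hAS : A ≤ (S : Subgroup G) := hAJ.trans hJS
  have hzH : z ∉ H := by
    intro h
    obtain ⟨a, ha, rfl | h'⟩ := hHmem z h
    · exact hzA ha
    · refine htS ?_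
      rw [show t = a⁻¹ * z by rw [h', inv_mul_cancel_left]]
      exact mul_mem (inv_mem (hAS ha)) (hZS hzZ)
  have hHc : Nat.card H = 18 := by
    have h9 : 9 ∣ Nat.card H := hA9 ▸ Subgroup.card_dvd_of_le le_sup_left
    have h2 : 2 ∣ Nat.card H := hto ▸ Subgroup.orderOf_mk t (Subgroup.mem_sup_right (Subgroup.mem_zpowers t)) ▸ orderOf_dvd_natCard _
    have h18 := Nat.le_of_dvd Nat.card_pos (Nat.Coprime.mul_dvd_of_dvd_of_dvd (by norm_num) h9 h2)
    have hle : Nat.card H ≤ 18 := by
      have hs : Function.Surjective (fun q : A × Bool => (⟨q.1.1 * (if q.2 then t else 1),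
          mul_mem (Subgroup.mem_sup_left q.1.2) (by
            split
            exacts [Subgroup.mem_sup_right (Subgroup.mem_zpowers t), one_mem _])⟩ : H)) := by
        rintro ⟨w, hw⟩
        obtain ⟨a, ha, rfl | rfl⟩ := hHmem w hw
        · exact ⟨(⟨_, ha⟩, false), by simp⟩
        · exact ⟨(⟨a, ha⟩, true), by simp⟩
      simpa [Nat.card_prod, hA9] using Nat.card_le_card_of_surjective _ hs
    omega
  have hidx : Nat.card (G ⧸ H) = 9 := by
    have h := H.card_mul_index
    rw [hHc, hG] at h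
    rw [← Subgroup.index_eq_card]
    omega
  let e := Finite.equivFinOfCardEq hidx
  let φ : G →* Equiv.Perm (Fin 9) := e.permCongrHom.toMonoidHom.comp (MulAction.toPermHom G (G ⧸ H))
  have hker : φ.ker = H.normalCore := by
    rw [Subgroup.normalCore_eq_ker]
    ext g
    exact map_eq_one_iff e.permCongrHom e.permCongrHom.injective
  have hcore : H.normalCore = ⊥ := by
    by_contra hne
    set K := H.normalCore with hK
    haveI : K.Normal := Subgroup.normalCore_normal H
    by_cases hKS : K ⊓ (S : Subgroup G) = ⊥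
    · obtain ⟨k, hkK, hk1⟩ := (Subgroup.bot_or_exists_ne_one K).resolve_left hne
      have hk2 : k ^ 2 = 1 := by
        have : k ^ 2 ∈ K ⊓ (S : Subgroup G) := ⟨pow_mem hkK 2, Subgroup.sq_mem_of_index_two hS2 k⟩
        rwa [hKS, Subgroup.mem_bot] at this
      have hkc : ∀ g : G, g * k = k * g := by
        intro g
        have h1 : g * k * g⁻¹ * k⁻¹ ∈ K := mul_mem (Subgroup.Normal.conj_mem inferInstance k hkK g) (inv_mem hkK)
        have h2 : g * k * g⁻¹ * k⁻¹ ∈ (S : Subgroup G) := by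
          rw [Subgroup.mul_mem_iff_of_index_two hS2, Subgroup.mul_mem_iff_of_index_two hS2,
            Subgroup.mul_mem_iff_of_index_two hS2, inv_mem_iff, inv_mem_iff]
          tauto
        have h3 : g * k * g⁻¹ * k⁻¹ ∈ K ⊓ (S : Subgroup G) := ⟨h1, h2⟩
        rw [hKS, Subgroup.mem_bot, mul_inv_eq_one, mul_inv_eq_iff_eq_mul] at h3
        exact h3
      have hko : orderOf k = 2 := orderOf_eq_prime hk2 hk1
      have hp : IsPGroup 2 (Subgroup.zpowers k) :=
        IsPGroup.of_card (n := 1) (by rw [Nat.card_zpowers, hko, pow_one])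
      obtain ⟨R, hR⟩ := hp.exists_le_sylow
      obtain ⟨g, hg⟩ := MulAction.exists_smul_eq G R T
      have hkT : k ∈ (T : Subgroup G) := by
        rw [← hg, Sylow.coe_subgroup_smul]
        exact ⟨k, hR (Subgroup.mem_zpowers k), by
          show g * k * g⁻¹ = k
          rw [hkc g, mul_inv_cancel_right]⟩
      have hkt : (T : Subgroup G) = Subgroup.zpowers k := (Subgroup.eq_of_le_of_card_ge
        (Subgroup.zpowers_le.mpr hkT) (by rw [hT, Nat.card_zpowers, hko])).symm
      refine hST (inf_eq_left.mpr fun s _ => Subgroup.mem_centralizer_iff.mpr ?_)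
      intro x hx
      rw [hkt] at hx
      obtain ⟨i, rfl⟩ := hx
      exact ((Commute.zpow_right (show Commute s k from hkc s) i).symm).eq
    · obtain ⟨x, hx, hx1, hxc⟩ := normal_inter_fixed (S : Subgroup G) (K ⊓ (S : Subgroup G)) S.2
        inf_le_right (fun g hg y hy => ⟨Subgroup.Normal.conj_mem inferInstance y hy.1 g,
          Subgroup.mul_mem _ (Subgroup.mul_mem _ hg hy.2) (Subgroup.inv_mem _ hg)⟩) hKS
      have hxZ : x ∈ Z := hZ ▸ ⟨hx.2, Subgroup.mem_centralizer_iff.mpr hxc⟩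
      rw [hZle] at hxZ
      obtain ⟨i, rfl⟩ := hxZ
      have hz3 : z ^ (3 : ℤ) = 1 := by exact_mod_cast (hzo ▸ pow_orderOf_eq_one z : z ^ 3 = 1)
      have hxi : z ^ i ∈ H := Subgroup.normalCore_le H hx.1
      obtain ⟨q, hq⟩ : ∃ q, i = 3 * q ∨ i = 3 * q + 1 ∨ i = 3 * q + 2 := ⟨i / 3, by omega⟩
      rcases hq with rfl | rfl | rfl
      · exact hx1 (by show z ^ (3 * q) = 1; rw [zpow_mul, hz3, one_zpow])
      · rw [zpow_add, zpow_mul, hz3, one_zpow, one_mul, zpow_one] at hxi
        exact hzH hxi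
      · rw [zpow_add, zpow_mul, hz3, one_zpow, one_mul] at hxi
        have h4 := inv_mem hxi
        rw [show (z ^ (2 : ℤ))⁻¹ = z by
          rw [inv_eq_iff_mul_eq_one, ← zpow_add_one]; exact hz3] at h4
        exact hzH h4
  have hinj : Function.Injective φ := by rw [← MonoidHom.ker_eq_bot_iff, hker, hcore]
  have hπfp : ∀ i, φ z i ≠ i := by
    intro i hi
    obtain ⟨g, hg⟩ := QuotientGroup.mk_surjective (e.symm i)
    have h1 : z • (g : G ⧸ H) = (g : G ⧸ H) := by
      have := congrArg e.symm hi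
      simpa [φ, ← hg, Equiv.permCongr_apply] using this
    have h2 : ((z * g : G) : G ⧸ H) = (g : G ⧸ H) := h1
    rw [QuotientGroup.eq, mul_inv_rev, mul_assoc] at h2
    have : z⁻¹ ∈ H := by
      have e' : g⁻¹ * (z⁻¹ * g) = z⁻¹ := by
        rw [(show Commute g z from hzc g).inv_right.symm.eq, inv_mul_cancel_left]
      rwa [e'] at h2
    exact hzH (inv_mem_iff.mp this)
  have hπo : orderOf (φ z) = 3 := (orderOf_injective φ hinj z).trans hzo
  set σ : Equiv.Perm (Fin 9) := Equiv.swap (0 : Fin 9) 1 * Equiv.swap 1 2 * Equiv.swap 3 4 *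
    Equiv.swap 4 5 * Equiv.swap 6 7 * Equiv.swap 7 8 with hσ
  have hσt : σ.cycleType = {3, 3, 3} := cycleType_fpf
    (orderOf_eq_prime (by decide +kernel) (by decide +kernel)) (by decide +kernel)
  obtain ⟨c, hc⟩ := isConj_iff.mp
    (Equiv.Perm.isConj_of_cycleType_eq ((cycleType_fpf hπo hπfp).trans hσt.symm))
  let ψ : G →* Subgroup.centralizer ({σ} : Set (Equiv.Perm (Fin 9))) :=
    ((MulAut.conj c).toMonoidHom.comp φ).codRestrict _ fun g => by
      refine Subgroup.mem_centralizer_singleton_iff.mpr ?_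
      show c * φ g * c⁻¹ * σ = σ * (c * φ g * c⁻¹)
      rw [← hc]
      calc c * φ g * c⁻¹ * (c * φ z * c⁻¹) = c * (φ (g * z)) * c⁻¹ := by rw [map_mul]; group
        _ = c * (φ (z * g)) * c⁻¹ := by rw [hzc g]
        _ = _ := by rw [map_mul]; group
  have hψ : Function.Injective ψ := fun a b h => hinj ((MulAut.conj c).injective (congrArg Subtype.val h))
  exact ⟨MulEquiv.ofBijective ψ ((Nat.bijective_iff_injective_and_card ψ).mpr
    ⟨hψ, by rw [card_centralizer_fpf hσt, hG]⟩)⟩

end Cfsg.Agent.S3376
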