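import Mathlib

set_option autoImplicit false

namespace Cfsg.Agent.S3379

open scoped commutatorElement

theorem result {G : Type*} [Group G] [Finite G]
    (hZ : ∀ (p : ℕ) [Fact p.Prime] (P : Sylow p G), IsCyclic (P : Subgroup G)) :
    ∃ (x y : G) (n m r : ℕ), Subgroup.closure {x, y} = ⊤ ∧ orderOf x = n ∧ orderOf y = m ∧
      x⁻¹ * y * x = y ^ r ∧ Nat.Coprime (r - 1) m ∧ Nat.Coprime n m ∧ 1 ≤ r ∧ r ^ n % m = 1 % m := by
  haveI : IsZGroup G := ⟨fun p hp P => @hZ p ⟨hp⟩ P⟩
  obtain ⟨H, hH⟩ := Subgroup.exists_right_complement'_of_coprime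
    (IsZGroup.coprime_commutator_index (G := G))
  haveI : IsCyclic (commutator G) := IsZGroup.isCyclic_commutator G
  haveI : IsCyclic (G ⧸ commutator G) := IsZGroup.isCyclic_abelianization (G := G)
  haveI : IsCyclic H := isCyclic_of_surjective _ (hH.symm.QuotientMulEquiv :
    Abelianization G ≃* H).surjective
  obtain ⟨y, hy⟩ := IsCyclic.exists_generator (α := commutator G)
  obtain ⟨x, hx⟩ := IsCyclic.exists_generator (α := H)
  have hN : ∀ z ∈ commutator G, z ∈ Subgroup.zpowers (y : G) := fun z hz => by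
    obtain ⟨k, hk⟩ := Subgroup.mem_zpowers_iff.mp (hy ⟨z, hz⟩)
    exact ⟨k, by simpa using congrArg Subtype.val hk⟩
  have hHx : ∀ z ∈ H, z ∈ Subgroup.zpowers (x : G) := fun z hz => by
    obtain ⟨k, hk⟩ := Subgroup.mem_zpowers_iff.mp (hx ⟨z, hz⟩)
    exact ⟨k, by simpa using congrArg Subtype.val hk⟩
  set m := orderOf (y : G) with hm
  set n := orderOf (x : G) with hn
  have hm0 : 0 < m := orderOf_pos _
  have hcop : Nat.Coprime n m := by
    have h1 : n = (commutator G).index := by
      rw [hH.symm.index_eq_card, hn, Subgroup.orderOf_coe]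
      exact orderOf_eq_card_of_forall_mem_zpowers hx
    have h2 : m = Nat.card (commutator G) := by
      rw [hm, Subgroup.orderOf_coe]
      exact orderOf_eq_card_of_forall_mem_zpowers hy
    rw [h1, h2]
    exact (IsZGroup.coprime_commutator_index (G := G)).symm
  have hconj : (x : G)⁻¹ * y * x ∈ Subgroup.zpowers (y : G) := by
    refine hN _ ?_
    have := (inferInstance : (commutator G).Normal).conj_mem (y : G) y.2 (x : G)⁻¹
    simpa using this
  obtain ⟨r₀, hr₀⟩ := (mem_powers_iff_mem_zpowers (x := (y : G))).mpr hconj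
  simp only at hr₀
  set r := r₀ + m with hr
  have hxy : (x : G)⁻¹ * y * x = (y : G) ^ r := by
    rw [hr, pow_add, hm, pow_orderOf_eq_one, mul_one, hr₀]
  have hconjpow : ∀ k : ℕ, (x : G)⁻¹ * (y : G) ^ k * x = (y : G) ^ (r * k) := fun k => by
    have := conj_pow (i := k) (a := (x : G)⁻¹) (b := (y : G))
    rw [inv_inv] at this
    rw [← this, hxy, ← pow_mul]
  have hgen : Subgroup.closure {(x : G), (y : G)} = ⊤ := by
    rw [eq_top_iff]
    intro z _
    obtain ⟨⟨a, b⟩, hab⟩ := hH.2 z
    simp only at hab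
    rw [← hab]
    refine mul_mem (Subgroup.zpowers_le.mpr ?_ (hN a a.2)) (Subgroup.zpowers_le.mpr ?_ (hHx b b.2)) <;>
      exact Subgroup.subset_closure (by simp)
  refine ⟨x, y, n, m, r, hgen, rfl, rfl, hxy, ?_, hcop, by omega, ?_⟩
  · set D := Subgroup.zpowers ((y : G) ^ (r - 1)) with hD
    have hDy : ∀ z ∈ D, Commute (y : G) z := fun z hz => by
      obtain ⟨k, rfl⟩ := Subgroup.mem_zpowers_iff.mp hz
      exact ((Commute.refl (y : G)).pow_right _).zpow_right k
    have hnorm : ∀ z ∈ D, (x : G)⁻¹ * z * x ∈ D := fun z hz => by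
      obtain ⟨k, rfl⟩ := Subgroup.mem_zpowers_iff.mp hz
      have := conj_zpow (i := k) (a := (x : G)⁻¹) (b := (y : G) ^ (r - 1))
      rw [inv_inv] at this
      rw [← this, hconjpow, mul_comm, pow_mul]
      exact zpow_mem (pow_mem (Subgroup.mem_zpowers _) _) _
    haveI : D.Normal := by
      rw [← Subgroup.normalizer_eq_top_iff, eq_top_iff, ← hgen, Subgroup.closure_le]
      rintro g (rfl | rfl)
      · rw [SetLike.mem_coe, ← inv_mem_iff]
        exact Subgroup.mem_normalizer_fintype (S := (D : Set G)) (fun z hz => by simpa using hnorm z hz)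
      · exact Subgroup.mem_normalizer_fintype (S := (D : Set G)) (fun z hz => by
          rw [(hDy z hz).eq, mul_inv_cancel_right]; exact hz)
    have hle : commutator G ≤ D := by
      rw [commutator_eq_closure, Subgroup.closure_le]
      rintro _ ⟨a, b, rfl⟩
      have hc : IsMulCommutative (Subgroup.closure
          ((QuotientGroup.mk' D) '' {(x : G), (y : G)})) := by
        apply Subgroup.isMulCommutative_closure
        have e : QuotientGroup.mk' D (x : G) * QuotientGroup.mk' D (y : G) =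
            QuotientGroup.mk' D (y : G) * QuotientGroup.mk' D (x : G) := by
          rw [← map_mul, ← map_mul]
          apply QuotientGroup.eq.mpr
          rw [mul_inv_rev, show (y : G)⁻¹ * (x : G)⁻¹ * ((y : G) * x) = (y : G)⁻¹ * ((x : G)⁻¹ * y * x) by group,
            hxy, show r = 1 + (r - 1) by omega, pow_add, pow_one, inv_mul_cancel_left]
          exact Subgroup.mem_zpowers _
        rintro _ ⟨u, hu, rfl⟩ _ ⟨v, hv, rfl⟩
        rcases hu with rfl | rfl <;> rcases hv with rfl | rfl
        exacts [rfl, e, e.symm, rfl]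
      rw [← MonoidHom.map_closure, hgen, Subgroup.map_top_of_surjective _ (QuotientGroup.mk'_surjective D)] at hc
      rw [SetLike.mem_coe, ← QuotientGroup.eq_one_iff]
      show QuotientGroup.mk' D ⁅a, b⁆ = 1
      rw [map_commutatorElement, commutatorElement_eq_one_iff_mul_comm]
      exact congrArg Subtype.val (mul_comm' (⟨_, Subgroup.mem_top _⟩ : (⊤ : Subgroup (G ⧸ D)))
        ⟨_, Subgroup.mem_top _⟩)
    have h1 : m ∣ orderOf ((y : G) ^ (r - 1)) := hm ▸ orderOf_dvd_of_mem_zpowers (hle y.2)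
    rw [orderOf_pow, ← hm] at h1
    rw [Nat.coprime_iff_gcd_eq_one, Nat.gcd_comm]
    have h2 : Nat.gcd m (r - 1) ∣ m := Nat.gcd_dvd_left _ _
    have h3 := Nat.le_of_dvd (Nat.div_pos (Nat.le_of_dvd hm0 h2) (Nat.gcd_pos_of_pos_left _ hm0)) h1
    by_contra hne
    have h4 : 1 < Nat.gcd m (r - 1) := by
      have := Nat.gcd_pos_of_pos_left (r - 1) hm0; omega
    exact absurd (Nat.div_lt_self hm0 h4) (by omega)
  · have h : ∀ k : ℕ, ((x : G) ^ k)⁻¹ * y * (x : G) ^ k = (y : G) ^ (r ^ k) := by
      intro k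
      induction k with
      | zero => simp
      | succ k ih =>
        rw [pow_succ, mul_inv_rev, show (x : G)⁻¹ * ((x : G) ^ k)⁻¹ * y * ((x : G) ^ k * x)
          = (x : G)⁻¹ * (((x : G) ^ k)⁻¹ * y * (x : G) ^ k) * x by group, ih, hconjpow, pow_succ']
    have h1 := h n
    rw [hn, pow_orderOf_eq_one, inv_one, one_mul, mul_one] at h1
    have h2 : (y : G) ^ (r ^ n) = (y : G) ^ 1 := by rw [pow_one]; exact h1.symm
    exact pow_inj_mod.mp h2

end Cfsg.Agent.S3379
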