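import Mathlib

set_option autoImplicit false

namespace Cfsg.Agent.S3381

/-- The fixed subspace of a linear equivalence. -/
def fixS {K V : Type*} [Semiring K] [AddCommGroup V] [Module K V] (f : V ≃ₗ[K] V) : Submodule K V where
  carrier := {v | f v = v}
  add_mem' := fun {a b} ha hb => by
    simp only [Set.mem_ofPred_eq] at ha hb ⊢
    rw [map_add, ha, hb]
  zero_mem' := map_zero f
  smul_mem' := fun c {a} ha => by
    simp only [Set.mem_ofPred_eq] at ha ⊢
    rw [map_smul, ha]

theorem result
    (q : ℕ) [Fact q.Prime] {V : Type*} [AddCommGroup V] [Module (ZMod q) V] [Finite V] [Nontrivial V]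
    {G : Type*} [Group G] [Finite G] (ρ : G →* (V ≃ₗ[ZMod q] V)) (hρ : Function.Injective ρ)
    (hstab : ∀ v : V, v ≠ 0 → Nat.card {g : G // ρ g v = v} = 2)
    (z : G) (hz : orderOf z = 2) (hzc : z ∈ Subgroup.center G) :
    ∃ r : ℕ, Nat.card V = q ^ (2 * r) ∧
      Nat.card {g : G // orderOf g = 2 ∧ g ∉ Subgroup.center G} = q ^ r + 1 := by
  classical
  have hq : q.Prime := Fact.out
  have hmul : ∀ (a b : G) (v : V), ρ (a * b) v = ρ a (ρ b v) := fun a b v => by rw [map_mul]; rfl
  have hone : ∀ v : V, ρ 1 v = v := fun v => by rw [map_one]; rfl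
  have hpick : ∀ v : V, v ≠ 0 → ∃ t : G, t ≠ 1 ∧ ρ t v = v := by
    intro v hv
    by_contra h
    push Not at h
    have : Subsingleton {g : G // ρ g v = v} := ⟨fun a b => Subtype.ext (by
      rw [(not_not.mp fun e => h a e a.2 : (a : G) = 1), (not_not.mp fun e => h b e b.2 : (b : G) = 1)])⟩
    have := hstab v hv
    rw [Nat.card_eq_one_iff_unique.mpr ⟨inferInstance, ⟨⟨1, hone v⟩⟩⟩] at this
    omega
  have huniq : ∀ (v : V), v ≠ 0 → ∀ a b : G, a ≠ 1 → ρ a v = v → b ≠ 1 → ρ b v = v → a = b := by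
    intro v hv a b ha ha' hb hb'
    by_contra hab
    have h3 : 3 ≤ Nat.card {g : G // ρ g v = v} := by
      cases nonempty_fintype G
      rw [Nat.card_eq_fintype_card, Fintype.card_subtype]
      have : ({1, a, b} : Finset G) ⊆ Finset.univ.filter (fun g => ρ g v = v) := by
        intro g hg
        simp only [Finset.mem_insert, Finset.mem_singleton] at hg
        simp only [Finset.mem_filter, Finset.mem_univ, true_and]
        rcases hg with rfl | rfl | rfl <;> simp [hone, ha', hb']
      refine le_trans ?_ (Finset.card_le_card this)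
      rw [Finset.card_eq_three.mpr ⟨1, a, b, ha.symm, hb.symm, hab, rfl⟩]
    rw [hstab v hv] at h3
    omega
  have hinv : ∀ (t : G) (v : V), t ≠ 1 → v ≠ 0 → ρ t v = v → t * t = 1 := by
    intro t v ht hv htv
    by_contra h
    exact ht (mul_eq_left.mp (huniq v hv (t * t) t h (by rw [hmul, htv, htv]) ht htv))
  have key : ∀ c : G, c ∈ Subgroup.center G → c ≠ 1 → c * c = 1 → ∀ v, ρ c v = -v := by
    intro c hc hc1 hc2 v
    have hcc : ∀ (g : G) (w : V), ρ g (ρ c w) = ρ c (ρ g w) := fun g w => by
      rw [← hmul, ← hmul, Subgroup.mem_center_iff.mp hc g]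
    have hself : ∀ w, ρ c (ρ c w) = w := fun w => by rw [← hmul, hc2, hone]
    have hfix : ∀ w, ρ c w = w → w = 0 := by
      intro w hw
      by_contra hw0
      obtain ⟨u, hu⟩ : ∃ u, ρ c u ≠ u := by
        by_contra h
        push Not at h
        apply hc1
        apply hρ
        rw [map_one]
        exact LinearEquiv.ext h
      have hu0 : u ≠ 0 := fun e => hu (by rw [e, map_zero])
      obtain ⟨t, ht, htu⟩ := hpick u hu0
      have htc : t ≠ c := fun e => hu (e ▸ htu)
      set s := u + ρ c u with hs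
      have hsfix : ρ c s = s := by rw [hs, map_add, hself, add_comm]
      have hts : ρ t s = s := by rw [hs, map_add, hcc, htu]
      by_cases hs0 : s = 0
      · have hcu : ρ c u = -u := by rwa [eq_neg_iff_add_eq_zero, add_comm, ← hs]
        have hwu : u + w ≠ 0 := fun e => hu (by rw [eq_neg_of_add_eq_zero_left e, map_neg, hw])
        obtain ⟨x, hx, hxwu⟩ := hpick _ hwu
        have h1 : ρ x (ρ c (u + w)) = ρ c (u + w) := by rw [hcc, hxwu]
        rw [map_add (ρ c), hw, hcu] at h1
        have h1' := h1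
        rw [map_add, map_neg] at h1'
        rw [map_add] at hxwu
        have h2 : ρ x w + ρ x w = w + w := by
          calc ρ x w + ρ x w = (ρ x u + ρ x w) + (-ρ x u + ρ x w) := by abel
            _ = (u + w) + (-u + w) := by rw [hxwu, h1']
            _ = w + w := by abel
        have h22 : (2 : ZMod q) ≠ 0 := by
          intro e
          apply hu
          have e2 : u + u = 0 := by rw [← two_smul (ZMod q), e, zero_smul]
          rw [hcu, eq_comm, ← sub_eq_zero, sub_neg_eq_add, e2]
        rw [← two_smul (ZMod q), ← two_smul (ZMod q)] at h2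
        have hxw : ρ x w = w := smul_right_injective V h22 h2
        have hxc : x = c := huniq w hw0 x c hx hxw hc1 hw
        subst hxc
        apply hu
        have := hxwu
        rwa [hxw, add_left_inj] at this
      · exact htc (huniq s hs0 t c ht hts hc1 hsfix)
    have := hfix (v + ρ c v) (by rw [map_add, hself, add_comm])
    exact eq_neg_of_add_eq_zero_right this
  have hz1 : z ≠ 1 := fun e => by rw [e, orderOf_one] at hz; omega
  have hz2 : z * z = 1 := by rw [← pow_two, ← hz, pow_orderOf_eq_one]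
  have hzv := key z hzc hz1 hz2
  have hneg : ∀ v : V, -v = v → v = 0 := by
    intro v hv
    by_contra hv0
    obtain ⟨w, hw⟩ : ∃ w : V, ρ z w ≠ w := by
      by_contra h
      push Not at h
      exact hz1 (hρ (by rw [map_one]; exact LinearEquiv.ext h))
    rw [hzv] at hw
    apply hw
    have h2 : (2 : ZMod q) • v = 0 := by rw [two_smul]; nth_rw 1 [← hv]; exact neg_add_cancel v
    have e := (smul_eq_zero.mp h2).resolve_right hv0
    rw [eq_comm, ← sub_eq_zero, sub_neg_eq_add, ← two_smul (ZMod q), e, zero_smul]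
  let T := {g : G // orderOf g = 2 ∧ g ∉ Subgroup.center G}
  let W : T → Submodule (ZMod q) V := fun t => fixS (ρ t.1)
  have hW : ∀ (t : T) (v : V), v ∈ W t ↔ ρ t.1 v = v := fun _ _ => Iff.rfl
  have hT1 : ∀ t : T, (t : G) ≠ 1 := fun t e => by
    have := t.2.1; rw [e, orderOf_one] at this; omega
  have hT2 : ∀ t : T, (t : G) * t = 1 := fun t => by
    have := pow_orderOf_eq_one (t : G)
    rwa [t.2.1, pow_two] at this
  have hTeq : ∀ (t s : T) (v : V), v ≠ 0 → v ∈ W t → v ∈ W s → t = s := fun t s v hv h1 h2 =>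
    Subtype.ext (huniq v hv _ _ (hT1 t) h1 (hT1 s) h2)
  have hTex : ∀ v : V, v ≠ 0 → ∃ t : T, v ∈ W t := by
    intro v hv
    obtain ⟨t, ht, htv⟩ := hpick v hv
    have ht2 := hinv t v ht hv htv
    refine ⟨⟨t, orderOf_eq_prime (by rw [pow_two, ht2]) ht, fun hc => ?_⟩, htv⟩
    exact hv (hneg v ((key t hc ht ht2 v).symm.trans htv))
  have hpair : ∀ t : T, ∃ t' : T, (∀ v, v ∈ W t' ↔ ρ t.1 v = -v) ∧ t' ≠ t := by
    intro t
    have hne : z * t ≠ 1 := fun e => t.2.2 (by
      rw [show (t : G) = z⁻¹ from eq_inv_of_mul_eq_one_right e]; exact inv_mem hzc)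
    refine ⟨⟨z * t, orderOf_eq_prime ?_ hne, fun hc => t.2.2 ((Subgroup.mul_mem_cancel_left _ hzc).mp hc)⟩,
      fun v => ?_, fun e => ?_⟩
    · rw [pow_two, mul_assoc, ← mul_assoc (t : G), Subgroup.mem_center_iff.mp hzc (t : G), mul_assoc,
        hT2, mul_one, hz2]
    · rw [hW]; simp only [hmul, hzv, neg_eq_iff_eq_neg]
    · exact hz1 (mul_eq_right.mp (congrArg Subtype.val e))
  choose op hop hopne using hpair
  have hnz : ∀ t : T, ∃ v, v ≠ 0 ∧ v ∈ W t := by
    intro t
    by_contra h
    push Not at h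
    apply t.2.2
    have : ∀ v, ρ t.1 v = -v := fun v => by
      have h1 : v + ρ t.1 v = 0 := by
        by_contra hne
        exact h _ hne (by rw [hW, map_add, ← hmul, hT2, hone, add_comm])
      exact eq_neg_of_add_eq_zero_right h1
    rw [show (t : G) = z from hρ (LinearEquiv.ext fun v => by rw [this, hzv])]
    exact hzc
  have hoo : ∀ t : T, op (op t) = t := by
    intro t
    obtain ⟨w, hw0, hw⟩ := hnz t
    have h1 : ρ (op t).1 w = -w := by
      have hanti : ∀ v, v ∈ W (op t) ↔ ρ t.1 v = -v := hop t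
      obtain ⟨b, hb0, hb⟩ := hnz (op t)
      have hzt : ((op t : T) : G) = z * t := by
        refine huniq b hb0 _ _ (hT1 _) hb ?_ ?_
        · intro e
          exact t.2.2 (by rw [show (t : G) = z⁻¹ from eq_inv_of_mul_eq_one_right e]; exact inv_mem hzc)
        · rw [hmul, (hanti b).mp hb, hzv, neg_neg]
      rw [hzt, hmul, show ρ t.1 w = w from hw, hzv]
    exact hTeq _ _ w hw0 ((hop _ w).mpr h1) hw
  have h2ne : (2 : ZMod q) ≠ 0 := by
    obtain ⟨v, hv⟩ := exists_ne (0 : V)
    intro e
    refine hv (hneg v ?_)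
    rw [eq_comm, ← sub_eq_zero, sub_neg_eq_add, ← two_smul (ZMod q), e, zero_smul]
  set n := Module.finrank (ZMod q) V with hn
  have hsum : ∀ t : T, Module.finrank (ZMod q) (W t) + Module.finrank (ZMod q) (W (op t)) = n := by
    intro t
    refine Submodule.finrank_add_eq_of_isCompl ⟨?_, ?_⟩
    · rw [Submodule.disjoint_def]
      intro v h1 h2
      rw [hop, show ρ t.1 v = v from h1] at h2
      exact hneg v h2.symm
    · rw [codisjoint_iff, eq_top_iff]
      intro v _
      have hv : v = (2 : ZMod q)⁻¹ • (v + ρ t.1 v) + (2 : ZMod q)⁻¹ • (v - ρ t.1 v) := by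
        rw [← smul_add, show v + ρ t.1 v + (v - ρ t.1 v) = (2 : ZMod q) • v by rw [two_smul]; abel,
          inv_smul_smul₀ h2ne]
      rw [hv]
      refine Submodule.add_mem_sup (Submodule.smul_mem _ _ ?_) (Submodule.smul_mem _ _ ?_)
      · rw [hW, map_add, ← hmul, hT2, hone, add_comm]
      · rw [hop, map_sub, ← hmul, hT2, hone, neg_sub]
  have hle : ∀ t s : T, t ≠ s → Module.finrank (ZMod q) (W t) + Module.finrank (ZMod q) (W s) ≤ n := by
    intro t s hts
    have hd : Disjoint (W t) (W s) := Submodule.disjoint_def.mpr fun v h1 h2 => by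
      by_contra hv; exact hts (hTeq t s v hv h1 h2)
    have := Submodule.finrank_sup_add_finrank_inf_eq (W t) (W s)
    rw [hd.eq_bot, finrank_bot, add_zero] at this
    rw [← this]; exact Submodule.finrank_le _
  have hmore : ∀ t : T, ∃ s : T, s ≠ t ∧ s ≠ op t := by
    intro t
    obtain ⟨a, ha0, ha⟩ : ∃ a, a ≠ 0 ∧ a ∈ W t := by
      by_contra h
      push Not at h
      apply t.2.2
      have : ∀ v, ρ t.1 v = -v := fun v => by
        have h1 : v + ρ t.1 v = 0 := by
          by_contra hne
          exact h _ hne (by rw [hW, map_add, ← hmul, hT2, hone, add_comm])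
        exact eq_neg_of_add_eq_zero_right h1
      rw [show (t : G) = z from hρ (LinearEquiv.ext fun v => by rw [this, hzv])]
      exact hzc
    obtain ⟨b, hb0, hb⟩ : ∃ b, b ≠ 0 ∧ b ∈ W (op t) := by
      by_contra h
      push Not at h
      apply hT1 t
      apply hρ
      rw [map_one]
      refine LinearEquiv.ext fun v => ?_
      show ρ t.1 v = v
      by_contra hne
      exact h (v - ρ t.1 v) (sub_ne_zero.mpr (Ne.symm hne))
        ((hop t _).mpr (by rw [map_sub, ← hmul, hT2, hone, neg_sub]))
    have hab : a + b ≠ 0 := fun e => by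
      rw [eq_neg_of_add_eq_zero_left e] at ha
      have h1 : b ∈ W t := by simpa using (W t).neg_mem ha
      exact hopne t (hTeq _ t b hb0 hb h1)
    obtain ⟨s, hs⟩ := hTex _ hab
    refine ⟨s, ?_, ?_⟩
    · rintro rfl
      have h1 : b ∈ W s := by simpa using (W s).sub_mem hs ha
      exact hopne s (hTeq _ s b hb0 hb h1)
    · rintro rfl
      have h1 : a ∈ W (op t) := by simpa using (W (op t)).sub_mem hs hb
      exact hopne t (hTeq _ t a ha0 h1 ha)
  have hdim : ∀ t : T, 2 * Module.finrank (ZMod q) (W t) = n := by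
    intro t
    obtain ⟨s, hs, hs'⟩ := hmore t
    have key2 : ∀ a : T, s ≠ a → 2 * Module.finrank (ZMod q) (W a) ≤ n := by
      intro a hsa
      have h1 := hsum s
      have h2 := hle a s (Ne.symm hsa)
      by_cases e : op s = a
      · obtain ⟨u, hu, hu'⟩ := hmore a
        have h3 := hsum u
        have h4 := hle a u (Ne.symm hu)
        have h5 := hle a (op u) (fun e' => hu' (by rw [e', hoo]))
        omega
      · have h5 := hle a (op s) (Ne.symm e)
        omega
    have h1 := key2 t hs
    have h2 := key2 (op t) hs'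
    have h3 := hsum t
    omega
  obtain ⟨t₀⟩ : Nonempty T := by
    obtain ⟨v, hv⟩ := exists_ne (0 : V)
    exact ⟨(hTex v hv).choose⟩
  set r := Module.finrank (ZMod q) (W t₀) with hr
  have hcard : ∀ (M : Submodule (ZMod q) V), Nat.card M = q ^ Module.finrank (ZMod q) M := fun M => by
    rw [Module.natCard_eq_pow_finrank (K := ZMod q) (V := M), Nat.card_zmod]
  refine ⟨r, by rw [hdim t₀, hn, Module.natCard_eq_pow_finrank (K := ZMod q) (V := V), Nat.card_zmod], ?_⟩
  have hVcard : Nat.card V = q ^ (2 * r) := by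
    rw [hdim t₀, hn, Module.natCard_eq_pow_finrank (K := ZMod q) (V := V), Nat.card_zmod]
  let e : (Σ t : T, {w : W t // w ≠ 0}) → {v : V // v ≠ 0} := fun x =>
    ⟨(x.2.1 : V), fun h => x.2.2 (Subtype.ext h)⟩
  have hbij : Function.Bijective e := by
    refine ⟨?_, fun v => ?_⟩
    · rintro ⟨t, ⟨w, hw'⟩, hw⟩ ⟨s, ⟨u, hu'⟩, hu⟩ h
      have h' : w = u := congrArg Subtype.val h
      subst h'
      obtain rfl := hTeq t s w (fun e => hw (Subtype.ext e)) hw' hu'
      rfl
    · obtain ⟨t, ht⟩ := hTex v.1 v.2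
      exact ⟨⟨t, ⟨v.1, ht⟩, fun e => v.2 (congrArg Subtype.val e)⟩, rfl⟩
  have hc1 : ∀ (A : Type _) [Zero A] [Finite A], Nat.card {x : A // x ≠ 0} = Nat.card A - 1 := by
    intro A _ _
    cases nonempty_fintype A
    simp [Nat.card_eq_fintype_card, Fintype.card_subtype_compl]
  cases nonempty_fintype T
  have hcount := Nat.card_congr (Equiv.ofBijective e hbij)
  rw [Nat.card_sigma, hc1 V, hVcard] at hcount
  have hterm : ∀ t : T, Nat.card {w : W t // w ≠ 0} = q ^ r - 1 := fun t => by
    rw [hc1, hcard, show Module.finrank (ZMod q) (W t) = r by have := hdim t; have := hdim t₀; omega]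
  rw [Finset.sum_congr rfl fun t _ => hterm t, Finset.sum_const, smul_eq_mul, Finset.card_univ,
    ← Nat.card_eq_fintype_card] at hcount
  have h1q : 1 ≤ q ^ r := Nat.one_le_pow _ _ hq.pos
  have hrpos : 1 < q ^ r := Nat.one_lt_pow (fun h0 => by
    have h1 := hdim t₀
    have h2 : 0 < n := Module.finrank_pos
    omega) hq.one_lt
  have : (q ^ r + 1) * (q ^ r - 1) = q ^ (2 * r) - 1 := by
    rw [pow_mul', ← Nat.sq_sub_sq, one_pow]
  exact Nat.eq_of_mul_eq_mul_right (by omega) (hcount.trans this.symm)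

end Cfsg.Agent.S3381
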