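import Mathlib

set_option autoImplicit false

namespace Cfsg.Agent.S3382

/-- An extension of `C(2^m) × C(2)`, `m ≥ 3`, by an element whose coset has exponent at most four
has a `2`-group as automorphism group. -/
theorem isPGroup_of_large {T P : Type*} [Group T] [CommGroup P] (ι : P →* T)
    (hι : Function.Injective ι) (w : T) (hcl : ∀ f : T, ∃ p, f = ι p ∨ f = ι p * w)
    (hout : ∀ p, ι p * w ∉ ι.range) (hw : ∀ p, (ι p * w) ^ 4 = 1)
    {m : ℕ} (hm : 3 ≤ m) (x e : P) (hx : orderOf x = 2 ^ m) (he : e * e = 1)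
    (hgen : ∀ p, ∃ k : ℕ, p = x ^ k ∨ p = x ^ k * e) (hne : ∀ k : ℕ, x ^ k ≠ e) :
    IsPGroup 2 (MulAut T) := by
  intro σ
  set N := 2 ^ (m - 1) with hN
  have hNm : N * 2 = 2 ^ m := by rw [hN, ← pow_succ, Nat.sub_add_cancel (by omega)]
  have h4N : 4 ≤ N := le_trans (by norm_num) (Nat.pow_le_pow_right two_pos (show 2 ≤ m - 1 by omega))
  have hNev : Even N := ⟨2 ^ (m - 2), by rw [hN, ← mul_two, ← pow_succ]; congr 1; omega⟩
  set c := x ^ N with hc
  have hc1 : c ≠ 1 := pow_ne_one_of_lt_orderOf (by omega) (by omega)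
  have hcc : c * c = 1 := by rw [hc, ← pow_add, ← mul_two, hNm, ← hx, pow_orderOf_eq_one]
  have heN : e ^ N = 1 := by
    obtain ⟨r, hr⟩ := hNev
    rw [hr, ← two_mul, pow_mul, pow_two, he, one_pow]
  have hinv : ∀ p : P, p * p = 1 → p = 1 ∨ p = c ∨ p = e ∨ p = c * e := by
    intro p hp
    have key : ∀ k : ℕ, x ^ k * x ^ k = 1 → x ^ k = 1 ∨ x ^ k = c := by
      intro k hk
      rw [← pow_add, ← orderOf_dvd_iff_pow_eq_one, hx, ← hNm, ← mul_two,
        Nat.mul_dvd_mul_iff_right two_pos] at hk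
      obtain ⟨r, rfl⟩ := hk
      rw [pow_mul, ← hc]
      rcases Nat.even_or_odd r with ⟨s, rfl⟩ | ⟨s, rfl⟩
      · left; rw [← two_mul, pow_mul, pow_two, hcc, one_pow]
      · right; rw [pow_succ, pow_mul, pow_two, hcc, one_pow, one_mul]
    obtain ⟨k, rfl | rfl⟩ := hgen p
    · rcases key k hp with h | h <;> rw [h] <;> simp
    · rw [mul_mul_mul_comm, he, mul_one] at hp
      rcases key k hp with h | h <;> rw [h] <;> simp
  -- large order forces membership in the abelian part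
  have hbig : ∀ f : T, f ^ 4 ≠ 1 → ∃ p, f = ι p := by
    intro f hf
    obtain ⟨p, h | h⟩ := hcl f
    · exact ⟨p, h⟩
    · exact absurd (h ▸ hw p) hf
  have hx4 : x ^ 4 ≠ 1 := pow_ne_one_of_lt_orderOf (by omega) (by omega)
  have hxe4 : (x * e) ^ 4 ≠ 1 := by
    rw [mul_pow, show e ^ 4 = 1 by rw [show (4 : ℕ) = 2 * 2 from rfl, pow_mul, pow_two e, he, one_pow],
      mul_one]
    exact hx4
  have hne4 : ∀ {p : P}, p ^ 4 ≠ 1 → σ (ι p) ^ 4 ≠ 1 := fun {p} hp h => by
    rw [← map_pow, ← map_pow, map_eq_one_iff σ σ.injective, map_eq_one_iff ι hι] at h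
    exact hp h
  obtain ⟨b, hb⟩ := hbig _ (hne4 hx4)
  obtain ⟨b', hb'⟩ := hbig _ (hne4 hxe4)
  rw [map_mul, map_mul, hb] at hb'
  set d := b⁻¹ * b' with hd
  have hd' : σ (ι e) = ι d := by
    rw [hd, map_mul, map_inv, ← hb', inv_mul_cancel_left]
  have hdd : d * d = 1 := by
    apply hι
    rw [map_mul, ← hd', ← map_mul, ← map_mul, he, map_one, map_one]
  obtain ⟨i, hbi⟩ := hgen b
  have hbN : b ^ N = c ^ i := by
    rcases hbi with h | h
    · rw [h, hc, ← pow_mul, ← pow_mul, mul_comm]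
    · rw [h, mul_pow, heN, mul_one, hc, ← pow_mul, ← pow_mul, mul_comm]
  have hσc : σ (ι c) = ι (c ^ i) := by rw [hc, map_pow, map_pow, hb, ← map_pow, hbN]
  have hiodd : Odd i := by
    by_contra h
    rw [Nat.not_odd_iff_even] at h
    obtain ⟨r, rfl⟩ := h
    rw [← two_mul, pow_mul, pow_two, hcc, one_pow, map_one, map_eq_one_iff σ σ.injective,
      map_eq_one_iff ι hι] at hσc
    exact hc1 hσc
  have hci : c ^ i = c := by
    obtain ⟨r, rfl⟩ := hiodd
    rw [pow_succ, pow_mul, pow_two, hcc, one_pow, one_mul]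
  rw [hci] at hσc
  have hde : d = e ∨ d = c * e := by
    rcases hinv d hdd with h | h | h | h
    · exfalso
      rw [h, map_one, map_eq_one_iff σ σ.injective, map_eq_one_iff ι hι] at hd'
      exact hne 0 (by rw [pow_zero, hd'])
    · exfalso
      rw [h, ← hσc] at hd'
      exact hne N (hι (σ.injective hd')).symm
    · exact Or.inl h
    · exact Or.inr h
  have hdd' : σ (ι d) = ι e := by
    rcases hde with h | h <;> rw [h]
    · rw [hd', h]
    · rw [map_mul, map_mul, hσc, hd', h, ← map_mul, ← mul_assoc, hcc, one_mul]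
  -- the square of `σ` raises `x` to an odd power and fixes `e`
  obtain ⟨j, hj, hjx⟩ : ∃ j : ℕ, Odd j ∧ σ (σ (ι x)) = ι (x ^ j) := by
    rw [hb]
    rcases hbi with h | h
    · refine ⟨i * i, hiodd.mul hiodd, ?_⟩
      rw [h, map_pow, map_pow, hb, h, ← map_pow, ← pow_mul]
    · obtain ⟨r, hr⟩ := hiodd
      have hei : e ^ i = e := by rw [hr, pow_succ, pow_mul, pow_two, he, one_pow, one_mul]
      have hcalc : σ (ι b) = ι (x ^ (i * i) * (e * d)) := by
        rw [h, map_mul ι, map_mul σ, map_pow, map_pow, hb, hd', ← map_pow, ← map_mul, h, mul_pow,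
          ← pow_mul, hei, mul_assoc]
      rcases hde with h' | h'
      · exact ⟨i * i, Odd.mul ⟨r, hr⟩ ⟨r, hr⟩, by rw [hcalc, h', he, mul_one]⟩
      · refine ⟨i * i + N, (Odd.mul ⟨r, hr⟩ ⟨r, hr⟩).add_even hNev, ?_⟩
        rw [hcalc, h', mul_left_comm e, he, mul_one, pow_add]
  set μ := σ * σ with hμ
  have hxk : ∀ k : ℕ, (μ ^ k) (ι x) = ι (x ^ (j ^ k)) ∧ (μ ^ k) (ι e) = ι e := by
    intro k
    induction k with
    | zero => simp
    | succ k ih =>
      refine ⟨?_, ?_⟩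
      · rw [pow_succ μ, MulAut.mul_apply, show μ (ι x) = ι (x ^ j) from hjx, map_pow, map_pow, ih.1,
          ← map_pow, ← pow_mul, ← pow_succ]
      · rw [pow_succ μ, MulAut.mul_apply, show μ (ι e) = ι e by
          rw [hμ, MulAut.mul_apply, hd', hdd'], ih.2]
  set ν := μ ^ N with hν
  have hνP : ∀ p, ν (ι p) = ι p := by
    have h1 : ν (ι x) = ι x := by
      rw [(hxk N).1]
      congr 1
      have h2 := Nat.ModEq.pow_totient (Nat.Coprime.pow_right m (Nat.coprime_two_right.mpr hj))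
      rw [Nat.totient_prime_pow Nat.prime_two (by omega), show (2 - 1 : ℕ) = 1 from rfl, mul_one,
        ← hN, ← hx] at h2
      exact (pow_eq_pow_iff_modEq.mpr h2).trans (pow_one x)
    intro p
    obtain ⟨k, rfl | rfl⟩ := hgen p
    · rw [map_pow, map_pow, h1]
    · rw [map_mul, map_pow, map_mul, map_pow, h1, (hxk N).2]
  have hνk : ∀ (k : ℕ) (p : P), (ν ^ k) (ι p) = ι p := by
    intro k
    induction k with
    | zero => intro p; simp
    | succ k ih => intro p; rw [pow_succ, MulAut.mul_apply, hνP, ih]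
  obtain ⟨a, ha | ha⟩ := hcl (ν w)
  · exfalso
    have h2 : w = ι a := ν.injective (ha.trans (hνP a).symm)
    exact hout 1 ⟨a, by rw [map_one, one_mul, h2]⟩
  have hk : ∀ k : ℕ, (ν ^ k) w = ι a ^ k * w := by
    intro k
    induction k with
    | zero => simp
    | succ k ih =>
      rw [pow_succ', MulAut.mul_apply, ih, map_mul, map_pow, hνP, ha, ← mul_assoc, ← pow_succ]
  have hexp : a ^ 2 ^ m = 1 := by
    obtain ⟨k, rfl | rfl⟩ := hgen a
    · rw [← pow_mul, mul_comm, pow_mul, ← hx, pow_orderOf_eq_one, one_pow]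
    · rw [mul_pow, ← pow_mul, mul_comm k, pow_mul, ← hx, pow_orderOf_eq_one, one_pow, one_mul, hx,
        ← hNm, pow_mul, heN, one_pow]
  refine ⟨m + m, MulEquiv.ext fun f => ?_⟩
  have e1 : σ ^ 2 ^ m = ν := by
    rw [hν, hμ, ← pow_two, ← pow_mul, mul_comm, hNm]
  rw [pow_add, pow_mul, e1, MulAut.one_apply]
  obtain ⟨p, rfl | rfl⟩ := hcl f
  · exact hνk _ p
  · rw [map_mul, hνk, hk, ← map_pow, hexp, map_one, one_mul]

/-- Multiplication in the dihedral group of order eight in coordinates. -/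
def mulD (u v : ZMod 2 × ZMod 2 × ZMod 2) : ZMod 2 × ZMod 2 × ZMod 2 :=
  (u.1 + v.1 + u.2.2 * v.2.1, u.2.1 + v.2.1, u.2.2 + v.2.2)

/-- The map with given images of the two generators. -/
def extend (a b : ZMod 2 × ZMod 2 × ZMod 2) (u : ZMod 2 × ZMod 2 × ZMod 2) :
    ZMod 2 × ZMod 2 × ZMod 2 :=
  mulD (mulD (if u.1 = 1 then mulD (mulD a b) (mulD a b) else 0) (if u.2.1 = 1 then a else 0))
    (if u.2.2 = 1 then b else 0)

theorem extend_period : ∀ a b : ZMod 2 × ZMod 2 × ZMod 2,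
    (∀ u v, extend a b (mulD u v) = mulD (extend a b u) (extend a b v)) →
    (∀ u v, extend a b u = extend a b v → u = v) →
    ∀ u, (extend a b)^[8] u = u := by
  decide +kernel

theorem decompose : ∀ u : ZMod 2 × ZMod 2 × ZMod 2, ∀ (f : Bool),
    u = mulD (mulD (if u.1 = 1 then mulD (mulD (0, 1, 0) (0, 0, 1)) (mulD (0, 1, 0) (0, 0, 1)) else 0)
      (if u.2.1 = 1 then (0, 1, 0) else 0)) (if u.2.2 = 1 then (0, 0, 1) else 0) ∨ f = !f := by
  decide +kernel

theorem isPGroup_of_dihedral {T : Type*} [Group T] (ψ : ZMod 2 × ZMod 2 × ZMod 2 → T)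
    (hψ : Function.Bijective ψ) (hmul : ∀ u v, ψ (mulD u v) = ψ u * ψ v) :
    IsPGroup 2 (MulAut T) := by
  intro σ
  refine ⟨3, MulEquiv.ext fun f => ?_⟩
  obtain ⟨u₀, rfl⟩ := hψ.2 f
  let e := Equiv.ofBijective ψ hψ
  set F : ZMod 2 × ZMod 2 × ZMod 2 → ZMod 2 × ZMod 2 × ZMod 2 := fun u => e.symm (σ (ψ u)) with hF
  have hψF : ∀ u, ψ (F u) = σ (ψ u) := fun u => e.apply_symm_apply _
  have hFmul : ∀ u v, F (mulD u v) = mulD (F u) (F v) := fun u v => hψ.1 (by
    rw [hψF, hmul, map_mul, hmul, hψF, hψF])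
  have h0 : ψ 0 = 1 := mul_eq_left.mp ((hmul 0 0).symm.trans (congrArg ψ (by decide)))
  have hF0 : F 0 = 0 := hψ.1 (by rw [hψF, h0, map_one])
  have hFe : ∀ u, F u = extend (F (0, 1, 0)) (F (0, 0, 1)) u := by
    intro u
    conv_lhs => rw [(decompose u true).resolve_right (by simp)]
    simp only [hFmul, apply_ite F, hF0, extend]
  have hper := extend_period (F (0, 1, 0)) (F (0, 0, 1))
    (fun u v => by rw [← hFe, ← hFe, ← hFe, hFmul])
    (fun u v h => by
      rw [← hFe, ← hFe] at h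
      exact hψ.1 (σ.injective ((hψF u).symm.trans ((congrArg ψ h).trans (hψF v))))) u₀
  rw [← funext hFe] at hper
  have hit : ∀ (k : ℕ) u, (σ ^ k) (ψ u) = ψ (F^[k] u) := by
    intro k
    induction k with
    | zero => intro u; simp
    | succ k ih => intro u; rw [pow_succ, MulAut.mul_apply, ← hψF, ih, Function.iterate_succ_apply]
  show (σ ^ 8) (ψ u₀) = ψ u₀
  rw [hit, hper]

/-- The signs. -/
abbrev Sgn (q : ℕ) : Subgroup (ZMod q)ˣ := (powMonoidHom 2 : (ZMod q)ˣ →* (ZMod q)ˣ).ker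

section

variable {q : ℕ} [Fact q.Prime]

theorem sgn_mul_self (s : Sgn q) : (s : (ZMod q)ˣ) * s = 1 := by
  have h := s.2
  rw [MonoidHom.mem_ker, powMonoidHom_apply, pow_two] at h
  exact h

theorem sgn_cases (s : Sgn q) : (s : (ZMod q)ˣ) = 1 ∨ (s : (ZMod q)ˣ) = -1 := by
  have h := congrArg Units.val (sgn_mul_self s)
  rw [Units.val_mul, Units.val_one, mul_self_eq_one_iff] at h
  exact h.imp (fun h => Units.ext h) (fun h => Units.ext h)

/-- The diagonal map `(x, y) ↦ (a x, s a⁻¹ y)`. -/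
def diag : (ZMod q)ˣ × Sgn q →* ((Fin 2 → ZMod q) ≃ₗ[ZMod q] (Fin 2 → ZMod q)) where
  toFun p := LinearEquiv.piCongrRight (fun i => LinearEquiv.smulOfUnit
    (![p.1, (p.2 : (ZMod q)ˣ) * p.1⁻¹] i))
  map_one' := by
    refine LinearEquiv.ext fun v => funext fun i => ?_
    fin_cases i <;> simp [LinearEquiv.smulOfUnit] <;> rfl
  map_mul' p r := by
    refine LinearEquiv.ext fun v => funext fun i => ?_
    fin_cases i
    · show ((p.1 * r.1 : (ZMod q)ˣ) : ZMod q) * v 0 = (p.1 : ZMod q) * ((r.1 : ZMod q) * v 0)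
      rw [Units.val_mul, mul_assoc]
    · show (((((p.2 * r.2 : Sgn q) : (ZMod q)ˣ) * (p.1 * r.1)⁻¹ : (ZMod q)ˣ)) : ZMod q) * v 1 =
        ((((p.2 : (ZMod q)ˣ) * p.1⁻¹ : (ZMod q)ˣ)) : ZMod q) *
          (((((r.2 : (ZMod q)ˣ) * r.1⁻¹ : (ZMod q)ˣ)) : ZMod q) * v 1)
      rw [← mul_assoc, ← Units.val_mul, Subgroup.coe_mul, mul_inv, mul_mul_mul_comm]

theorem diag_zero (p : (ZMod q)ˣ × Sgn q) (v : Fin 2 → ZMod q) :
    diag p v 0 = (p.1 : ZMod q) * v 0 := rfl

theorem diag_one' (p : (ZMod q)ˣ × Sgn q) (v : Fin 2 → ZMod q) :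
    diag p v 1 = ((((p.2 : (ZMod q)ˣ) * p.1⁻¹ : (ZMod q)ˣ)) : ZMod q) * v 1 := rfl

/-- The exchange of the coordinates. -/
def flip : (Fin 2 → ZMod q) ≃ₗ[ZMod q] (Fin 2 → ZMod q) :=
  LinearEquiv.funCongrLeft (ZMod q) (ZMod q) (Equiv.swap 0 1)

theorem flip_zero (v : Fin 2 → ZMod q) : (flip : (Fin 2 → ZMod q) ≃ₗ[ZMod q] _) v 0 = v 1 := rfl

theorem flip_one (v : Fin 2 → ZMod q) : (flip : (Fin 2 → ZMod q) ≃ₗ[ZMod q] _) v 1 = v 0 := rfl

theorem flip_mul_flip : (flip : (Fin 2 → ZMod q) ≃ₗ[ZMod q] _) * flip = 1 := by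
  refine LinearEquiv.ext fun v => funext fun i => ?_
  fin_cases i <;> rfl

theorem flip_mul_diag (a : (ZMod q)ˣ) (s : Sgn q) :
    flip * diag (a, s) = diag ((s : (ZMod q)ˣ) * a⁻¹, s) * flip := by
  refine LinearEquiv.ext fun v => funext fun i => ?_
  have h : (s : (ZMod q)ˣ) * ((s : (ZMod q)ˣ) * a⁻¹)⁻¹ = a := by
    rw [mul_inv_rev, inv_inv, mul_left_comm, mul_inv_cancel, mul_one]
  fin_cases i
  · show diag (a, s) v 1 = diag (_, s) (flip v) 0
    rw [diag_one', diag_zero, flip_zero]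
  · show diag (a, s) v 0 = diag (_, s) (flip v) 1
    rw [diag_one', diag_zero, flip_one, h]

theorem diag_injective : Function.Injective (diag (q := q)) := by
  rintro ⟨a, s⟩ ⟨b, t⟩ h
  have h0 := congrArg (fun f : (Fin 2 → ZMod q) ≃ₗ[ZMod q] (Fin 2 → ZMod q) => f (fun _ => 1) 0) h
  have h1 := congrArg (fun f : (Fin 2 → ZMod q) ≃ₗ[ZMod q] (Fin 2 → ZMod q) => f (fun _ => 1) 1) h
  simp only [diag_zero, diag_one', mul_one] at h0 h1
  obtain rfl : a = b := Units.ext h0
  rw [Prod.mk.injEq]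
  exact ⟨rfl, Subtype.ext (mul_right_cancel (Units.ext h1))⟩

theorem diag_mul_flip_ne (p r : (ZMod q)ˣ × Sgn q) : diag p * flip ≠ diag r := by
  intro h
  have h0 := congrArg (fun f : (Fin 2 → ZMod q) ≃ₗ[ZMod q] (Fin 2 → ZMod q) => f (Pi.single 0 1) 0) h
  simp only [LinearEquiv.mul_apply, diag_zero, flip_zero, Pi.single_eq_same, mul_one] at h0
  rw [Pi.single_eq_of_ne (by decide), mul_zero] at h0
  exact r.1.ne_zero h0.symm

end

theorem result (q m : ℕ) [Fact q.Prime] (hq : q = 2 ^ m + 1) (hq5 : q ≠ 5)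
    (T : Subgroup ((Fin 2 → ZMod q) ≃ₗ[ZMod q] (Fin 2 → ZMod q)))
    (hT : ∀ f, f ∈ T ↔ ∃ a s : ZMod q, a ≠ 0 ∧ (s = 1 ∨ s = -1) ∧
      ((∀ v, f v = ![a * v 0, s * a⁻¹ * v 1]) ∨ (∀ v, f v = ![s * a⁻¹ * v 1, a * v 0]))) :
    IsPGroup 2 (MulAut T) := by
  have hcases : ∀ (s : Sgn q), ((s : (ZMod q)ˣ) : ZMod q) = 1 ∨ ((s : (ZMod q)ˣ) : ZMod q) = -1 :=
    fun s => (sgn_cases s).imp (fun h => by rw [h, Units.val_one]) (fun h => by rw [h, Units.val_neg, Units.val_one])
  have hmem : ∀ p, diag p ∈ T := fun p => (hT _).mpr ⟨p.1, (p.2 : (ZMod q)ˣ), p.1.ne_zero, hcases p.2,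
    Or.inl fun v => by
      ext i; fin_cases i
      · exact diag_zero p v
      · show diag p v 1 = _
        rw [diag_one', Units.val_mul, Units.val_inv_eq_inv_val]; rfl⟩
  have hflip : flip ∈ T := (hT _).mpr ⟨1, 1, one_ne_zero, Or.inl rfl, Or.inr fun v => by
    ext i; fin_cases i
    · show flip v 0 = _
      rw [flip_zero]; simp
    · show flip v 1 = _
      rw [flip_one]; simp⟩
  let ι : (ZMod q)ˣ × Sgn q →* T := diag.codRestrict T hmem
  have hι : Function.Injective ι := fun a b h => diag_injective (congrArg Subtype.val h)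
  let w : T := ⟨flip, hflip⟩
  have hcl : ∀ f : T, ∃ p, f = ι p ∨ f = ι p * w := by
    rintro ⟨f, hf⟩
    obtain ⟨a, s, ha, hs, h⟩ := (hT f).mp hf
    have hs2 : s * s = 1 := mul_self_eq_one_iff.mpr hs
    have hs0 : s ≠ 0 := left_ne_zero_of_mul_eq_one hs2
    let S : Sgn q := ⟨Units.mk0 s hs0, by
      rw [MonoidHom.mem_ker, powMonoidHom_apply, pow_two]; exact Units.ext hs2⟩
    rcases h with h | h
    · refine ⟨(Units.mk0 a ha, S), Or.inl (Subtype.ext (LinearEquiv.ext fun v => funext fun i => ?_))⟩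
      rw [show (⟨f, hf⟩ : T).1 = f from rfl, h]
      fin_cases i
      · show _ = diag _ v 0
        rw [diag_zero]; rfl
      · show _ = diag _ v 1
        rw [diag_one', Units.val_mul, Units.val_inv_eq_inv_val]; rfl
    · refine ⟨((S : (ZMod q)ˣ) * (Units.mk0 a ha)⁻¹, S), Or.inr (Subtype.ext (LinearEquiv.ext fun v => funext fun i => ?_))⟩
      rw [show (⟨f, hf⟩ : T).1 = f from rfl, h]
      fin_cases i
      · show _ = diag _ (flip v) 0
        rw [diag_zero, flip_zero, Units.val_mul, Units.val_inv_eq_inv_val]; rfl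
      · show a * v 0 = diag _ (flip v) 1
        rw [diag_one', flip_one]
        congr 1
        rw [mul_inv_rev, inv_inv, mul_left_comm, mul_inv_cancel, mul_one]
        rfl
  have hout : ∀ p, ι p * w ∉ ι.range := by
    rintro p ⟨r, hr⟩
    exact diag_mul_flip_ne p r (congrArg Subtype.val hr).symm
  have hw2 : w * w = 1 := Subtype.ext flip_mul_flip
  have hwι : ∀ (a : (ZMod q)ˣ) (s : Sgn q), w * ι (a, s) = ι ((s : (ZMod q)ˣ) * a⁻¹, s) * w :=
    fun a s => Subtype.ext (flip_mul_diag a s)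
  have hcard : Nat.card (ZMod q)ˣ = 2 ^ m := by
    rw [Nat.card_eq_fintype_card, ZMod.card_units q, hq, Nat.add_sub_cancel]
  obtain ⟨g, hg⟩ := IsCyclic.exists_generator (α := (ZMod q)ˣ)
  have hog : orderOf g = 2 ^ m := by rw [orderOf_eq_card_of_forall_mem_zpowers hg, hcard]
  let e : (ZMod q)ˣ × Sgn q := (1, ⟨-1, by
    rw [MonoidHom.mem_ker, powMonoidHom_apply, pow_two]; simp⟩)
  rcases (show m = 0 ∨ m = 1 ∨ 3 ≤ m by
    rcases Nat.lt_or_ge m 3 with h | h
    · interval_cases m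
      · exact Or.inl rfl
      · exact Or.inr (Or.inl rfl)
      · exact absurd (by norm_num at hq; exact hq) hq5
    · exact Or.inr (Or.inr h)) with rfl | rfl | hm
  · haveI : Subsingleton (ZMod q)ˣ := (Nat.card_eq_one_iff_unique.mp (by rw [hcard, pow_zero])).1
    intro σ
    refine ⟨0, MulEquiv.ext fun f => ?_⟩
    rw [pow_zero, pow_one, MulAut.one_apply]
    have hall : ∀ f : T, f = 1 ∨ f = w := fun f => by
      obtain ⟨p, h⟩ := hcl f
      rw [Subsingleton.elim p 1, map_one, one_mul] at h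
      exact h
    rcases hall f with rfl | rfl
    · exact map_one σ
    · rcases hall (σ w) with h | h
      · exact absurd ⟨1, (by rw [map_one, one_mul, σ.injective (h.trans (map_one σ).symm)])⟩ (hout 1)
      · exact h
  · have hg1 : g = -1 := by
      have h1 : g ^ 2 = 1 := by rw [show (2 : ℕ) = orderOf g by rw [hog, pow_one], pow_orderOf_eq_one]
      rcases sgn_cases (⟨g, by rw [MonoidHom.mem_ker, powMonoidHom_apply]; exact h1⟩ : Sgn q) with h | h
      · exfalso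
        have : g = 1 := h
        rw [this, orderOf_one] at hog
        norm_num at hog
      · exact h
    have hne : (-1 : (ZMod q)ˣ) ≠ 1 := by
      rw [← hg1]; intro h
      rw [h, orderOf_one] at hog; norm_num at hog
    have hu : ∀ a : (ZMod q)ˣ, a = 1 ∨ a = -1 := fun a => by
      refine sgn_cases (⟨a, ?_⟩ : Sgn q)
      rw [MonoidHom.mem_ker, powMonoidHom_apply, show (2 : ℕ) = Nat.card (ZMod q)ˣ by rw [hcard, pow_one],
        pow_card_eq_one']
    let pr : ZMod 2 × ZMod 2 → (ZMod q)ˣ × Sgn q := fun u => ((-1) ^ u.1.val, e.2 ^ u.2.val)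
    let ψ : ZMod 2 × ZMod 2 × ZMod 2 → T := fun u => ι (pr (u.1, u.2.1)) * w ^ u.2.2.val
    have h01 : ∀ i : ZMod 2, i = 0 ∨ i = 1 := by decide
    have hsgn1 : ∀ i : ZMod 2, ((e.2 ^ i.val : Sgn q) : (ZMod q)ˣ) = (-1) ^ i.val := fun i => by
      rw [Subgroup.coe_pow]
    have hpow2 : ∀ (i j : ZMod 2), ((-1 : (ZMod q)ˣ)) ^ (i + j).val = (-1) ^ i.val * (-1) ^ j.val := by
      intro i j
      rcases h01 i with rfl | rfl <;> rcases h01 j with rfl | rfl <;>
        simp [show (1 + 1 : ZMod 2) = 0 from rfl, ZMod.val_one]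
    have hprmul : ∀ u v, pr (u + v) = pr u * pr v := fun u v => by
      refine Prod.ext (hpow2 _ _) (Subtype.ext ?_)
      show ((e.2 ^ (u.2 + v.2).val : Sgn q) : (ZMod q)ˣ) = ((e.2 ^ u.2.val : Sgn q) : (ZMod q)ˣ) * ((e.2 ^ v.2.val : Sgn q) : (ZMod q)ˣ)
      rw [hsgn1, hsgn1, hsgn1, hpow2]
    have hwpr : ∀ i j : ZMod 2, w * ι (pr (i, j)) = ι (pr (i + j, j)) * w := by
      intro i j
      rw [hwι, hsgn1]
      congr 2
      refine Prod.ext ?_ rfl
      show (-1 : (ZMod q)ˣ) ^ j.val * ((-1) ^ i.val)⁻¹ = (-1) ^ (i + j).val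
      rw [hpow2, mul_comm, ← inv_pow, inv_neg_one]
    refine isPGroup_of_dihedral ψ ⟨?_, ?_⟩ ?_
    · rintro ⟨i, j, k⟩ ⟨i', j', k'⟩ h
      have key : ∀ a b, (-1 : (ZMod q)ˣ) ^ (a : ZMod 2).val = (-1) ^ (b : ZMod 2).val → a = b := by
        intro a b hab
        rcases h01 a with rfl | rfl <;> rcases h01 b with rfl | rfl <;>
          simp [ZMod.val_one, hne, Ne.symm hne] at hab ⊢
      have hk : k = k' := by
        rcases h01 k with rfl | rfl <;> rcases h01 k' with rfl | rfl <;>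
          simp only [ψ, ZMod.val_zero, ZMod.val_one, pow_zero, pow_one, mul_one] at h
        · rfl
        · exact absurd ⟨_, h⟩ (hout _)
        · exact absurd ⟨_, h.symm⟩ (hout _)
        · rfl
      subst hk
      have h2 := Prod.ext_iff.mp (hι (mul_right_cancel h))
      have h3 := congrArg Subtype.val h2.2
      simp only [pr] at h2 h3
      rw [hsgn1, hsgn1] at h3
      rw [key i i' h2.1, key j j' h3]
    · intro f
      obtain ⟨⟨a, s⟩, h⟩ := hcl f
      obtain ⟨i, hi⟩ : ∃ i : ZMod 2, (-1 : (ZMod q)ˣ) ^ i.val = a := by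
        rcases hu a with rfl | rfl
        · exact ⟨0, by simp⟩
        · exact ⟨1, by simp [ZMod.val_one]⟩
      obtain ⟨j, hj⟩ : ∃ j : ZMod 2, e.2 ^ j.val = s := by
        rcases sgn_cases s with h' | h'
        · exact ⟨0, Subtype.ext (by simp [h'])⟩
        · exact ⟨1, Subtype.ext (by simp [ZMod.val_one, h', e])⟩
      rcases h with rfl | rfl
      · exact ⟨(i, j, 0), by simp [ψ, pr, hi, hj]⟩
      · exact ⟨(i, j, 1), by simp [ψ, pr, hi, hj, ZMod.val_one]⟩
    · rintro ⟨i, j, k⟩ ⟨i', j', k'⟩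
      show ι (pr (i + i' + k * j', j + j')) * w ^ (k + k').val =
        ι (pr (i, j)) * w ^ k.val * (ι (pr (i', j')) * w ^ k'.val)
      rcases h01 k with rfl | rfl
      · simp only [zero_mul, add_zero, zero_add, ZMod.val_zero, pow_zero, mul_one]
        rw [← mul_assoc, ← map_mul, ← hprmul]; rfl
      · simp only [one_mul, ZMod.val_one, pow_one]
        rw [mul_assoc (ι (pr (i, j))), ← mul_assoc w, hwpr, mul_assoc (ι _) w, ← mul_assoc, ← map_mul,
          ← hprmul, Prod.mk_add_mk, ← add_assoc]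
        congr 1
        rcases h01 k' with rfl | rfl <;>
          simp [show (1 + 1 : ZMod 2) = 0 from rfl, ZMod.val_one, hw2]
  · refine isPGroup_of_large ι hι w hcl hout (fun p => ?_) hm (g, 1) e ?_ ?_ (fun p => ?_) (fun k h => ?_)
    · obtain ⟨a, s⟩ := p
      have h2 : ι (a, s) * w * (ι (a, s) * w) = ι ((s : (ZMod q)ˣ), 1) := by
        rw [mul_assoc, ← mul_assoc w, hwι, mul_assoc (ι _) w, hw2, mul_one, ← map_mul]
        congr 1
        refine Prod.ext ?_ (Subtype.ext (sgn_mul_self s))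
        show a * ((s : (ZMod q)ˣ) * a⁻¹) = s
        rw [mul_left_comm, mul_inv_cancel, mul_one]
      rw [show (4 : ℕ) = 2 * 2 from rfl, pow_mul, pow_two (ι (a, s) * w), h2, pow_two, ← map_mul]
      rw [← map_one ι]
      congr 1
      exact Prod.ext (sgn_mul_self s) (one_mul 1)
    · rw [Prod.orderOf_mk, orderOf_one, Nat.lcm_one_right, hog]
    · exact Prod.ext (one_mul 1) (Subtype.ext (by simp [e]))
    · obtain ⟨a, s⟩ := p
      obtain ⟨k, hk⟩ := mem_powers_iff_mem_zpowers.mpr (hg a)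
      simp only at hk
      refine ⟨k, ?_⟩
      rcases sgn_cases s with h | h
      · exact Or.inl (Prod.ext hk.symm (Subtype.ext (by simp [h])))
      · exact Or.inr (Prod.ext (by simp [e, hk]) (Subtype.ext (by simp [h, e])))
    · have h2 := congrArg (fun p : (ZMod q)ˣ × Sgn q => ((p.2 : (ZMod q)ˣ) : ZMod q)) h
      simp [e] at h2
      have h3 : q ∣ 2 := (ZMod.natCast_eq_zero_iff 2 q).mp (by push_cast; linear_combination h2)
      have := Nat.le_of_dvd two_pos h3
      have := Nat.pow_le_pow_right two_pos hm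
      omega

end Cfsg.Agent.S3382
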