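import Cfsg.Agent.Lib.Char.FrobeniusKernel

set_option autoImplicit false

namespace Cfsg.Agent.S3383

open scoped Pointwise

theorem result {L : Type*} [Group L] [Finite L]
    (H : Subgroup L) (hH : Cfsg.IsFrobeniusComplement H)
    (K : Subgroup L) (hK : (K : Set L) = Cfsg.frobeniusKernel H) :
    K.Characteristic ∧ ∀ N : Subgroup L, N.Normal → K ≤ N ∨ N ≤ K := by
  obtain ⟨N₀, hN₀, hn, hc⟩ := Cfsg.Agent.Char.frobeniusKernel_isSubgroup hH
  obtain rfl : N₀ = K := SetLike.coe_injective (hN₀.trans hK.symm)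
  have main : ∀ N : Subgroup L, N.Normal → N₀ ≤ N ∨ N ≤ N₀ := by
    intro N hN
    by_cases hle : N ≤ N₀
    · exact Or.inr hle
    left
    obtain ⟨x, hxN, hxK⟩ := SetLike.not_le_iff_exists.mp hle
    rw [← SetLike.mem_coe, hK] at hxK
    obtain ⟨hx1, g, hxg⟩ : x ≠ 1 ∧ ∃ g : L, x ∈ MulAut.conj g • H := by
      simpa [Cfsg.frobeniusKernel] using hxK
    obtain ⟨y, hyH, rfl⟩ := hxg
    simp only [MulDistribMulAction.toMonoidEnd_apply, MulDistribMulAction.toMonoidHom_apply,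
      MulAut.smul_def, MulAut.conj_apply] at hx1 hxN
    have hyN : y ∈ N := by
      have := hN.conj_mem _ hxN g⁻¹
      simpa [mul_assoc] using this
    have hy1 : y ≠ 1 := fun h => hx1 (by rw [h, mul_one, mul_inv_cancel])
    let f : N₀ → ↥(N₀ ⊓ N) := fun k => ⟨(k : L) * y * (k : L)⁻¹ * y⁻¹, by
      refine ⟨?_, ?_⟩
      · rw [show (k : L) * y * (k : L)⁻¹ * y⁻¹ = k * (y * (k : L)⁻¹ * y⁻¹) by group]
        exact N₀.mul_mem k.2 (hn.conj_mem _ (N₀.inv_mem k.2) y)
      · exact N.mul_mem (hN.conj_mem y hyN k) (N.inv_mem hyN)⟩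
    have hf : Function.Injective f := by
      intro a b h
      have h' : (a : L) * y * (a : L)⁻¹ = b * y * (b : L)⁻¹ :=
        mul_right_cancel (congrArg Subtype.val h)
      have h'' : ((b : L)⁻¹ * a) * y * ((b : L)⁻¹ * a)⁻¹ = y := by
        calc ((b : L)⁻¹ * a) * y * ((b : L)⁻¹ * a)⁻¹ = (b : L)⁻¹ * (a * y * (a : L)⁻¹) * b := by group
          _ = y := by rw [h']; group
      have hz : (b : L)⁻¹ * a ∈ H := by
        by_contra hz
        exact hy1 (Cfsg.Agent.Char.malnormal_of_isFrobeniusComplement hH _ hz y hyH (by rwa [h'']))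
      have h1 : (b : L)⁻¹ * a ∈ N₀ ⊓ H := ⟨N₀.mul_mem (N₀.inv_mem b.2) a.2, hz⟩
      rw [hc.disjoint.eq_bot, Subgroup.mem_bot, inv_mul_eq_one] at h1
      exact Subtype.ext h1.symm
    have := Subgroup.eq_of_le_of_card_ge (inf_le_left : N₀ ⊓ N ≤ N₀) (Nat.card_le_card_of_injective f hf)
    exact inf_eq_left.mp this
  refine ⟨?_, main⟩
  rw [Subgroup.characteristic_iff_map_eq]
  intro φ
  haveI := hn
  have hcard : Nat.card (N₀.map φ.toMonoidHom) = Nat.card N₀ :=
    Nat.card_congr (N₀.equivMapOfInjective _ φ.injective).toEquiv.symm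
  rcases main _ (Subgroup.Normal.map hn φ.toMonoidHom φ.surjective) with h | h
  · exact (Subgroup.eq_of_le_of_card_ge h hcard.le).symm
  · exact Subgroup.eq_of_le_of_card_ge h hcard.ge

end Cfsg.Agent.S3383
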