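import Mathlib

set_option autoImplicit false

namespace Cfsg.Agent.S3389

open MulAction

/-- Two malnormal subgroups of a finite group have nontrivial conjugates meeting nontrivially. -/
theorem exists_conj_mem {H : Type*} [Group H] [Finite H] (K K' : Subgroup H)
    (hK : ∀ h : H, h ∉ K → ∀ x ∈ K, h * x * h⁻¹ ∈ K → x = 1)
    (hK' : ∀ h : H, h ∉ K' → ∀ x ∈ K', h * x * h⁻¹ ∈ K' → x = 1)
    (h1 : K ≠ ⊥) (h1' : K' ≠ ⊥) :
    ∃ h : H, ∃ x ∈ K, x ≠ 1 ∧ h * x * h⁻¹ ∈ K' := by
  by_contra hne
  push Not at hne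
  have emb : ∀ (L : Subgroup H), (∀ h : H, h ∉ L → ∀ x ∈ L, h * x * h⁻¹ ∈ L → x = 1) →
      Function.Injective (fun p : (H ⧸ L) × {x : L // x ≠ 1} => p.1.out * (p.2.1 : H) * p.1.out⁻¹) := by
    rintro L hL ⟨a, x, hx⟩ ⟨b, y, hy⟩ h
    simp only at h
    have hc : (b.out⁻¹ * a.out) * (x : H) * (b.out⁻¹ * a.out)⁻¹ = y := by
      calc (b.out⁻¹ * a.out) * (x : H) * (b.out⁻¹ * a.out)⁻¹
          = b.out⁻¹ * (a.out * x * a.out⁻¹) * b.out := by group
        _ = y := by rw [h]; group
    have hab : a = b := by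
      rw [← QuotientGroup.out_eq' a, ← QuotientGroup.out_eq' b, eq_comm, QuotientGroup.eq]
      by_contra hz
      exact hx (Subtype.ext (hL _ hz x x.2 (hc ▸ y.2)))
    subst hab
    have : x = y := by
      apply Subtype.ext
      simpa using hc
    subst this
    rfl
  let f : ((H ⧸ K) × {x : K // x ≠ 1}) ⊕ ((H ⧸ K') × {x : K' // x ≠ 1}) → {x : H // x ≠ 1} :=
    Sum.elim (fun p => ⟨p.1.out * (p.2.1 : H) * p.1.out⁻¹, fun h => p.2.2 (Subtype.ext (conj_eq_one_iff.mp h))⟩)
      (fun p => ⟨p.1.out * (p.2.1 : H) * p.1.out⁻¹, fun h => p.2.2 (Subtype.ext (conj_eq_one_iff.mp h))⟩)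
  have hf : Function.Injective f := by
    rintro (p | p) (q | q) h <;> have h' := congrArg Subtype.val h <;> simp only [f, Sum.elim_inl, Sum.elim_inr] at h'
    · exact congrArg Sum.inl (emb K hK h')
    · exfalso
      refine hne (q.1.out⁻¹ * p.1.out) _ p.2.1.2 (fun e => p.2.2 (Subtype.ext e)) ?_
      have e : (q.1.out⁻¹ * p.1.out) * (p.2.1 : H) * (q.1.out⁻¹ * p.1.out)⁻¹ = q.2.1 := by
        calc _ = q.1.out⁻¹ * (p.1.out * p.2.1 * p.1.out⁻¹) * q.1.out := by group
          _ = _ := by rw [h']; group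
      exact e ▸ q.2.1.2
    · exfalso
      refine hne (p.1.out⁻¹ * q.1.out) _ q.2.1.2 (fun e => q.2.2 (Subtype.ext e)) ?_
      have e : (p.1.out⁻¹ * q.1.out) * (q.2.1 : H) * (p.1.out⁻¹ * q.1.out)⁻¹ = p.2.1 := by
        calc _ = p.1.out⁻¹ * (q.1.out * q.2.1 * q.1.out⁻¹) * p.1.out := by group
          _ = _ := by rw [← h']; group
      exact e ▸ p.2.1.2
    · exact congrArg Sum.inr (emb K' hK' h')
  have hle := Nat.card_le_card_of_injective f hf
  have c : ∀ (A : Type _) [Group A] [Finite A], Nat.card {x : A // x ≠ 1} = Nat.card A - 1 := by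
    intro A _ _
    classical
    cases nonempty_fintype A
    simp [Nat.card_eq_fintype_card, Fintype.card_subtype_compl]
  rw [Nat.card_sum, Nat.card_prod, Nat.card_prod, c K, c K', c H, Nat.mul_sub, Nat.mul_sub, mul_one,
    mul_one] at hle
  have e := Subgroup.card_mul_index K
  have e' := Subgroup.card_mul_index K'
  rw [Subgroup.index_eq_card] at e e'
  have hk := (Subgroup.one_lt_card_iff_ne_bot K).mpr h1
  have hk' := (Subgroup.one_lt_card_iff_ne_bot K').mpr h1'
  have hpos : 0 < Nat.card H := Nat.card_pos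
  have hq : 2 * Nat.card (H ⧸ K) ≤ Nat.card H := e ▸ Nat.mul_le_mul_right _ hk
  have hq' : 2 * Nat.card (H ⧸ K') ≤ Nat.card H := e' ▸ Nat.mul_le_mul_right _ hk'
  rw [mul_comm] at e e'
  omega

theorem result {G : Type*} [Group G] [Finite G] {Ω : Type*} [Fintype Ω] [MulAction G Ω] [FaithfulSMul G Ω]
    (htr : MulAction.IsPretransitive G Ω) (k : ℕ) (hk : 1 ≤ k)
    (hfix : ∀ g : G, g ≠ 1 → Nat.card (MulAction.fixedBy Ω g) ≤ k) (hex : ∃ g : G, g ≠ 1 ∧ Nat.card (MulAction.fixedBy Ω g) = k) :
    Nat.card (Subgroup.center G) ∣ k ∧ (k = 2 → 2 ∣ Nat.card G) ∧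
      ∀ (p : ℕ), p.Prime → k < p → p ∣ Nat.card G → ∀ α : Ω,
        ¬ p ∣ Nat.card (MulAction.stabilizer G α) ∨ ¬ p ∣ (MulAction.stabilizer G α).index := by
  haveI := htr
  refine ⟨?_, ?_, ?_⟩
  · obtain ⟨g, -, hg⟩ := hex
    let S : SubMulAction (Subgroup.center G) Ω :=
      { carrier := MulAction.fixedBy Ω g
        smul_mem' := fun z x (hx : g • x = x) => by
          show g • ((z : G) • x) = (z : G) • x
          rw [smul_smul, Subgroup.mem_center_iff.mp z.2 g, ← smul_smul, hx] }
    have hcard : Nat.card S = k := hg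
    rw [← hcard]
    have hfree : ∀ x : S, MulAction.stabilizer (Subgroup.center G) x = ⊥ := by
      intro x
      rw [Subgroup.eq_bot_iff_forall]
      intro z hz
      have hz' : (z : G) • (x : Ω) = x := congrArg Subtype.val hz
      apply Subtype.ext
      refine eq_of_smul_eq_smul (α := Ω) fun y => ?_
      obtain ⟨a, rfl⟩ := MulAction.exists_smul_eq G (x : Ω) y
      show (z : G) • a • (x : Ω) = (1 : G) • a • (x : Ω)
      rw [one_smul, smul_smul, ← Subgroup.mem_center_iff.mp z.2 a, ← smul_smul, hz']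
    have e : Nat.card S = Nat.card (MulAction.orbitRel.Quotient (Subgroup.center G) S) *
        Nat.card (Subgroup.center G) := by
      rw [← Nat.card_prod]
      exact Nat.card_congr (MulAction.selfEquivOrbitsQuotientProd hfree)
    rw [e]; exact dvd_mul_left _ _
  · rintro rfl
    obtain ⟨g, hg1, hg⟩ := hex
    by_contra hodd
    obtain ⟨α, β, hne, hab⟩ := Set.ncard_eq_two.mp ((Nat.card_coe_set_eq _).symm.trans hg)
    have hα : g • α = α := show α ∈ fixedBy Ω g by rw [hab]; simp
    have hβ : g • β = β := show β ∈ fixedBy Ω g by rw [hab]; simp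
    have three : ∀ (x : G) (a b c : Ω), x ≠ 1 → x • a = a → x • b = b → x • c = c → a ≠ b → a ≠ c → b = c := by
      intro x a b c hx ha hb hc nab nac
      by_contra nbc
      have h3 : ({a, b, c} : Set Ω).ncard ≤ (fixedBy Ω x).ncard := Set.ncard_le_ncard (by
        rintro y (rfl | rfl | rfl) <;> assumption)
      have := hfix x hx
      rw [Nat.card_coe_set_eq] at this
      rw [Set.ncard_eq_three.mpr ⟨a, b, c, nab, nac, nbc, rfl⟩] at h3
      omega
    obtain ⟨x, hx⟩ := MulAction.exists_smul_eq G α β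
    set γ := x⁻¹ • α with hγ
    have hxγ : x • γ = α := smul_inv_smul x α
    have hγα : γ ≠ α := fun h => hne (by rw [← hx]; conv_rhs => rw [← h]
                                         exact hxγ.symm)
    have hKne : ∀ δ : Ω, (∃ y : G, y ≠ 1 ∧ y • α = α ∧ y • δ = δ) →
        stabilizer (stabilizer G α) δ ≠ ⊥ := by
      rintro δ ⟨y, hy, hya, hyd⟩ hb
      have : (⟨y, hya⟩ : stabilizer G α) ∈ stabilizer (stabilizer G α) δ := hyd
      rw [hb, Subgroup.mem_bot] at this
      exact hy (congrArg Subtype.val this)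
    have hmal : ∀ δ : Ω, δ ≠ α → ∀ h : stabilizer G α, h ∉ stabilizer (stabilizer G α) δ →
        ∀ y ∈ stabilizer (stabilizer G α) δ, h * y * h⁻¹ ∈ stabilizer (stabilizer G α) δ → y = 1 := by
      intro δ hδ h hh y hy hy'
      by_contra hy1
      apply hh
      have e1 : (y : G) • δ = δ := hy
      have e2 : (y : G) • ((h : G)⁻¹ • δ) = (h : G)⁻¹ • δ := by
        have e3 : ((h : G) * y * (h : G)⁻¹) • δ = δ := hy'
        rw [← smul_left_cancel_iff (h : G), smul_inv_smul, smul_smul, smul_smul, e3]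
      have hne' : (h : G)⁻¹ • δ ≠ α := fun e => hδ (by
        rw [← smul_inv_smul (h : G) δ, e]; exact h.2)
      have := three (y : G) α δ ((h : G)⁻¹ • δ) (fun e => hy1 (Subtype.ext e)) y.2 e1 e2
        hδ.symm hne'.symm
      show (h : G) • δ = δ
      conv_lhs => rw [this]
      rw [smul_inv_smul]
    have hgγ : ∃ y : G, y ≠ 1 ∧ y • α = α ∧ y • γ = γ := by
      refine ⟨x⁻¹ * g * x, fun h => hg1 ?_, ?_, ?_⟩
      · calc g = x * (x⁻¹ * g * x) * x⁻¹ := by group
          _ = 1 := by rw [h]; group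
      · rw [mul_smul, mul_smul, hx, hβ, ← hx, inv_smul_smul]
      · rw [mul_smul, mul_smul, hxγ, hα]
    obtain ⟨h, y, hy, hy1, hy'⟩ := exists_conj_mem (stabilizer (stabilizer G α) β)
      (stabilizer (stabilizer G α) γ) (hmal β hne.symm) (hmal γ hγα)
      (hKne β ⟨g, hg1, hα, hβ⟩) (hKne γ hgγ)
    have hhβ : (h : G) • β = γ := by
      have e1 : ((h : G) * y * (h : G)⁻¹) • γ = γ := hy'
      have e2 : ((h : G) * y * (h : G)⁻¹) • ((h : G) • β) = (h : G) • β := by
        rw [mul_smul, mul_smul, inv_smul_smul, show (y : G) • β = β from hy]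
      refine three _ α _ _ (fun e => hy1 ?_) ?_ e2 e1 (fun e => hne ?_) hγα.symm
      · apply Subtype.ext
        exact conj_eq_one_iff.mp e
      · exact (h * y * h⁻¹).2
      · have e' : (h : G) • β = (h : G) • α := e.symm.trans h.2.symm
        exact (MulAction.injective (h : G) e').symm
    set w := x * (h : G) with hw
    have hwα : w • α = β := by rw [hw, mul_smul, show (h : G) • α = α from h.2, hx]
    have hwβ : w • β = α := by rw [hw, mul_smul, hhβ, hxγ]
    have hw2 : (w ^ 2) • α = α := by rw [pow_two, mul_smul, hwα, hwβ]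
    obtain ⟨j, hj⟩ : Odd (orderOf w) := Nat.not_even_iff_odd.mp fun he =>
      hodd (he.two_dvd.trans (orderOf_dvd_natCard w))
    apply hne
    rw [← hwα]
    have : w = (w ^ 2) ^ (j + 1) := by
      rw [← pow_mul, show 2 * (j + 1) = orderOf w + 1 by omega, pow_succ, pow_orderOf_eq_one, one_mul]
    rw [this]
    exact (MulAction.mem_stabilizer_iff.mp (Subgroup.pow_mem (stabilizer G α) hw2 _)).symm
  · intro p hp hkp _ α
    haveI := Fact.mk hp
    by_cases hd : p ∣ Nat.card (stabilizer G α)
    · right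
      obtain ⟨Q⟩ : Nonempty (Sylow p (stabilizer G α)) := inferInstance
      obtain ⟨P, hP⟩ := (Q.isPGroup'.map (stabilizer G α).subtype).exists_le_sylow
      set R : Subgroup G := (Q : Subgroup (stabilizer G α)).map (stabilizer G α).subtype with hR
      have hR1 : R ≠ ⊥ := by
        rw [hR, ne_eq, Subgroup.map_eq_bot_iff_of_injective _ (Subgroup.subtype_injective _)]
        exact Q.ne_bot_of_dvd_card hd
      obtain ⟨r, hr, hr1⟩ := (Subgroup.ne_bot_iff_exists_ne_one).mp hR1 |> fun ⟨r, hr⟩ =>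
        (⟨(r : G), r.2, fun e => hr (Subtype.ext e)⟩ : ∃ r : G, r ∈ R ∧ r ≠ 1)
      have hRα : R ≤ stabilizer G α := by
        rw [hR]; exact Subgroup.map_subtype_le _
      have hstab : ∀ n ∈ (P : Subgroup G) ⊓ Subgroup.normalizer (R : Set G), n • α = α := by
        intro n hn
        haveI : Nonempty Ω := ⟨α⟩
        have horb : orbit (Subgroup.zpowers n) α ⊆ fixedBy Ω r := by
          rintro _ ⟨⟨m, hm⟩, rfl⟩
          have hm' : m ∈ Subgroup.normalizer (R : Set G) :=
            Subgroup.zpowers_le.mpr hn.2 hm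
          show r • m • α = m • α
          have : m⁻¹ * r * m ∈ stabilizer G α := hRα ((Subgroup.mem_normalizer_iff''.mp hm' r).mp hr)
          rw [mem_stabilizer_iff, mul_smul, mul_smul, inv_smul_eq_iff] at this
          exact this
        obtain ⟨e, he⟩ := (P.isPGroup'.to_le (Subgroup.zpowers_le.mpr hn.1)).card_orbit α
        have hle : Nat.card (orbit (Subgroup.zpowers n) α) ≤ k := by
          refine le_trans ?_ (hfix r hr1)
          exact Nat.card_mono (Set.toFinite _) horb
        rw [he] at hle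
        have he0 : e = 0 := by
          by_contra h0
          exact absurd ((Nat.le_self_pow h0 p).trans hle) (by omega)
        rw [he0, pow_zero, Nat.card_eq_one_iff_unique] at he
        exact congrArg Subtype.val (he.1.elim ⟨n • α, ⟨n, Subgroup.mem_zpowers n⟩, rfl⟩ ⟨α, mem_orbit_self α⟩)
      have hPR : (P : Subgroup G) ≤ R := by
        by_contra hnle
        have hlt : R.subgroupOf P ≠ ⊤ := fun h => hnle (Subgroup.subgroupOf_eq_top.mp h)
        haveI := P.isPGroup'.isNilpotent
        have hgrow := normalizerCondition_of_isNilpotent (G := (P : Subgroup G)) (R.subgroupOf P) (lt_top_iff_ne_top.mpr hlt)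
        obtain ⟨n, hn, hnR⟩ := SetLike.exists_of_lt hgrow
        have hnN : (n : G) ∈ Subgroup.normalizer (R : Set G) := by
          rw [Subgroup.mem_normalizer_iff]
          intro s
          by_cases hs : s ∈ (P : Subgroup G)
          · exact Subgroup.mem_normalizer_iff.mp hn ⟨s, hs⟩
          · constructor <;> intro h
            · exact absurd (hP h) hs
            · exfalso; apply hs
              have := hP h
              rwa [Subgroup.mul_mem_cancel_right _ (inv_mem n.2), Subgroup.mul_mem_cancel_left _ n.2] at this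
        have hα' := hstab n ⟨n.2, hnN⟩
        apply hnR
        rw [Subgroup.mem_subgroupOf]
        have hle : (P : Subgroup G).subgroupOf (stabilizer G α) = Q := by
          refine (Q.3 (P.isPGroup'.comap_subtype) ?_)
          intro q hq
          exact hP ⟨q, hq, rfl⟩
        exact ⟨⟨n, hα'⟩, by rw [SetLike.mem_coe, ← hle]; exact n.2, rfl⟩
      intro hpi
      apply P.not_dvd_index (p := p)
      exact hpi.trans (Subgroup.index_dvd_of_le (hPR.trans hRα))
    · exact Or.inl hd

end Cfsg.Agent.S3389
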