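import Cfsg.Statements.S3391
import Cfsg.Agent.Lib.Suzuki.FixityTwo
import Cfsg.Agent.Lib.Suzuki.Minor
-- import your own Cfsg.Agent.* helpers here

set_option autoImplicit false
open Cfsg

namespace Cfsg.Agent.S3391

/-- Let q = 2^{2m+1} ≥ 8 and let G be isomorphic to the Suzuki group Sz(q). If G acts faithfully and transitively on a finite set Ω with fixity 2 (every non-identity element fixes at most two points, and some fixes exactly two), then either |Ω| = q² + 1 and the action is 2-transitive, or |Ω| = q²(q² + 1) and the point stabilizers have order q − 1. -/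
theorem result {G : Type*} [Group G] [Finite G] (F : Type) [Field F] [Fintype F] (m : ℕ) (hm : 1 ≤ m) (hF : Fintype.card F = 2 ^ (2 * m + 1))
    (e : G ≃* ↥(Cfsg.Lie.Sz F (2 ^ (m + 1)))) {Ω : Type*} [Fintype Ω] [MulAction G Ω] [FaithfulSMul G Ω] (htr : MulAction.IsPretransitive G Ω)
    (hfix : ∀ g : G, g ≠ 1 → Nat.card (MulAction.fixedBy Ω g) ≤ 2) (hex : ∃ g : G, g ≠ 1 ∧ Nat.card (MulAction.fixedBy Ω g) = 2) :
    (Fintype.card Ω = Fintype.card F ^ 2 + 1 ∧ MulAction.IsMultiplyPretransitive G Ω 2) ∨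
    (Fintype.card Ω = Fintype.card F ^ 2 * (Fintype.card F ^ 2 + 1) ∧ ∀ α : Ω, Nat.card (MulAction.stabilizer G α) = Fintype.card F - 1) := by
  classical
  have h : Agent.Suzuki.SzField F m := ⟨hm, hF⟩
  let φ : Cfsg.Sz F m ≃* G := (Agent.Suzuki.minorEquiv h).trans e.symm
  letI : MulAction (Cfsg.Sz F m) Ω := MulAction.compHom Ω φ.toMonoidHom
  have hsmul : ∀ (g : Cfsg.Sz F m) (p : Ω), g • p = φ g • p := fun _ _ => rfl
  have hfixBy : ∀ g : Cfsg.Sz F m,
      Nat.card (MulAction.fixedBy Ω g) = Nat.card (MulAction.fixedBy Ω (φ g)) := fun g => rfl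
  haveI := htr
  have htr' : MulAction.IsPretransitive (Cfsg.Sz F m) Ω := ⟨fun x y => by
    obtain ⟨g, hg⟩ := MulAction.exists_smul_eq G x y
    exact ⟨φ.symm g, by rw [hsmul, φ.apply_symm_apply, hg]⟩⟩
  have hfix' : ∀ g : Cfsg.Sz F m, g ≠ 1 → Nat.card (MulAction.fixedBy Ω g) ≤ 2 := fun g hg => by
    rw [hfixBy]; exact hfix _ (fun h' => hg (φ.injective (h'.trans (map_one φ).symm)))
  have hex' : ∃ g : Cfsg.Sz F m, g ≠ 1 ∧ Nat.card (MulAction.fixedBy Ω g) = 2 := by
    obtain ⟨g, hg, hg2⟩ := hex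
    exact ⟨φ.symm g, fun h' => hg (φ.symm.injective (h'.trans (map_one φ.symm).symm)),
      by rw [hfixBy, φ.apply_symm_apply, hg2]⟩
  rcases Agent.Suzuki.FixTwo.main h htr' hfix' hex' with ⟨hc, h2⟩ | ⟨hc, hs⟩
  · refine Or.inl ⟨by rw [← Nat.card_eq_fintype_card, hc, hF], ?_⟩
    rw [MulAction.is_two_pretransitive_iff] at h2 ⊢
    intro a b c d hab hcd
    obtain ⟨g, h1, h1'⟩ := h2 hab hcd
    exact ⟨φ g, h1, h1'⟩
  · refine Or.inr ⟨by rw [← Nat.card_eq_fintype_card, hc, hF], fun α => ?_⟩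
    rw [hF, ← hs α]
    exact Nat.card_congr (φ.symm.toEquiv.subtypeEquiv fun g => by
      simp [MulAction.mem_stabilizer_iff, hsmul])

end Cfsg.Agent.S3391
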