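import Cfsg.Statements.S3401
import Cfsg.Agent.S3356
import Cfsg.Agent.Lib.Small.Burnside
import Mathlib.GroupTheory.GroupAction.MultipleTransitivity
import Mathlib.GroupTheory.Sylow

set_option autoImplicit false
open Cfsg

namespace Cfsg.Agent.S3401

/-- A transitive group of degree `2 mod 4` in which every pair of points is interchanged and all
suborbits have odd length has just one nontrivial suborbit. -/
theorem stabilizer_transitive {N : Type*} [Group N] [Finite N] {Ω : Type*} [Fintype Ω] [MulAction N Ω]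
    [MulAction.IsPretransitive N Ω] (hn : Fintype.card Ω % 4 = 2)
    (hswap : ∀ x y : Ω, x ≠ y → ∃ g : N, g • x = y ∧ g • y = x)
    (hodd : ∀ x y : Ω, y ≠ x → ¬ 2 ∣ Nat.card (MulAction.orbit (MulAction.stabilizer N x) y))
    (a b c : Ω) (hb : b ≠ a) (hc : c ≠ a) :
    ∃ h ∈ MulAction.stabilizer N a, h • b = c := by
  haveI : Fact (Nat.Prime 2) := ⟨Nat.prime_two⟩
  set A := MulAction.stabilizer N a with hA
  obtain ⟨P₀⟩ : Nonempty (Sylow 2 A) := inferInstance
  set P : Subgroup N := (P₀ : Subgroup A).map A.subtype with hP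
  obtain ⟨o, ho2, hno⟩ : ∃ o, ¬ 2 ∣ o ∧ Fintype.card Ω = 2 * o :=
    ⟨Fintype.card Ω / 2, by omega, by omega⟩
  set m := (P₀ : Subgroup A).index with hm
  have hm2 : ¬ 2 ∣ m := P₀.not_dvd_index
  obtain ⟨e, he⟩ := P₀.2.exists_card_eq
  have hPc : Nat.card P = 2 ^ e := by
    rw [hP, ← he]
    exact (Nat.card_congr ((P₀ : Subgroup A).equivMapOfInjective _ A.subtype_injective).toEquiv).symm
  have hAx : ∀ x : Ω, Nat.card (MulAction.stabilizer N x) = 2 ^ e * m := by
    intro x
    have h1 := (MulAction.stabilizer N x).card_mul_index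
    rw [MulAction.index_stabilizer_of_transitive, Nat.card_eq_fintype_card (α := Ω)] at h1
    have h2 := A.card_mul_index
    rw [hA, MulAction.index_stabilizer_of_transitive, Nat.card_eq_fintype_card (α := Ω)] at h2
    rw [Nat.eq_of_mul_eq_mul_right (Fintype.card_pos_iff.mpr ⟨a⟩) (h1.trans h2.symm),
      ← hA, ← (P₀ : Subgroup A).card_mul_index, he]
  have hNc : Nat.card N = 2 ^ e * m * (2 * o) := by
    rw [← hno, ← hAx a, ← Nat.card_eq_fintype_card (α := Ω),
      ← MulAction.index_stabilizer_of_transitive N a, Subgroup.card_mul_index]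
  -- the fixed points of `P`
  let Fx : Ω → Prop := fun x => ∀ p ∈ P, p • x = x
  have hFa : Fx a := by
    rintro _ ⟨p, -, rfl⟩
    exact p.2
  have hPle : ∀ x, Fx x → P ≤ MulAction.stabilizer N x := fun x hx p hp => hx p hp
  have hex : ∀ x : Ω, x ≠ a → ∃ y, Fx y ∧ y ∈ MulAction.orbit A x := by
    intro x hx
    obtain ⟨⟨y, hy⟩, hfix⟩ := P₀.2.nonempty_fixed_point_of_prime_not_dvd_card
      (MulAction.orbit A x) (hodd a x hx)
    refine ⟨y, ?_, hy⟩
    rintro _ ⟨p, hp, rfl⟩
    exact congrArg Subtype.val (hfix ⟨p, hp⟩)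
  -- interchanging inside the normaliser
  set Q := Subgroup.normalizer (P : Set N) with hQ
  have hswapQ : ∀ x y, Fx x → Fx y → x ≠ y → ∃ g ∈ Q, g • x = y ∧ g • y = x := by
    intro x y hx hy hxy
    obtain ⟨g, hgx, hgy⟩ := hswap x y hxy
    set K := MulAction.stabilizer N x ⊓ MulAction.stabilizer N y with hK
    set P' := P.map (MulAut.conj g).toMonoidHom with hP'
    have h1 : P ≤ K := le_inf (hPle x hx) (hPle y hy)
    have h2 : P' ≤ K := by
      rintro _ ⟨p, hp, rfl⟩
      have hpx : p • x = x := hx p hp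
      have hpy : p • y = y := hy p hp
      have ex : g⁻¹ • x = y := by rw [inv_smul_eq_iff, hgy]
      have ey : g⁻¹ • y = x := by rw [inv_smul_eq_iff, hgx]
      refine ⟨?_, ?_⟩
      · show (g * p * g⁻¹) • x = x
        rw [mul_smul, mul_smul, ex, hpy, hgy]
      · show (g * p * g⁻¹) • y = y
        rw [mul_smul, mul_smul, ey, hpx, hgx]
    have hc' : Nat.card P' = 2 ^ e := by
      rw [hP', ← hPc]
      exact (Nat.card_congr (P.equivMapOfInjective _ (MulAut.conj g).injective).toEquiv).symm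
    have hmax : ∀ (R : Sylow 2 K), Nat.card (R : Subgroup K) ≤ 2 ^ e := by
      intro R
      obtain ⟨j, hj⟩ := R.2.exists_card_eq
      have hd : 2 ^ j ∣ 2 ^ e * m :=
        hAx x ▸ hj ▸ (Subgroup.card_subgroup_dvd_card (R : Subgroup K)).trans
          (Subgroup.card_dvd_of_le (inf_le_left : K ≤ MulAction.stabilizer N x))
      have hcop : Nat.Coprime (2 ^ j) m := Nat.Coprime.pow_left _
        ((Nat.prime_two.coprime_iff_not_dvd).mpr hm2)
      exact hj ▸ Nat.le_of_dvd (pow_pos two_pos _) (hcop.dvd_of_dvd_mul_right hd)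
    have mk : ∀ S : Subgroup N, S ≤ K → Nat.card S = 2 ^ e →
        ∃ R : Sylow 2 K, (R : Subgroup K).map K.subtype = S := by
      intro S hS hSc
      have hc2 : Nat.card (S.subgroupOf K) = 2 ^ e :=
        (Nat.card_congr (Subgroup.subgroupOfEquivOfLe hS).toEquiv).trans hSc
      obtain ⟨R, hR⟩ := (IsPGroup.of_card (p := 2) hc2).exists_le_sylow
      refine ⟨R, ?_⟩
      rw [← Subgroup.eq_of_le_of_card_ge hR ((hmax R).trans hc2.ge),
        Subgroup.subgroupOf_map_subtype, inf_eq_left.mpr hS]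
    obtain ⟨R, hR⟩ := mk P h1 hPc
    obtain ⟨R', hR'⟩ := mk P' h2 hc'
    obtain ⟨h, hh⟩ := MulAction.exists_smul_eq K R' R
    have key : ∀ p ∈ P, (h : N) * g * p * ((h : N) * g)⁻¹ ∈ P := by
      intro p hp
      have hpm : g * p * g⁻¹ ∈ (R' : Subgroup K).map K.subtype := hR'.symm ▸ ⟨p, hp, rfl⟩
      obtain ⟨r, hr, hre⟩ := hpm
      rw [← hR, ← hh, Sylow.coe_subgroup_smul]
      refine ⟨h * r * h⁻¹, ⟨r, hr, rfl⟩, ?_⟩
      show (h : N) * r * (h : N)⁻¹ = _
      rw [show (r : N) = g * p * g⁻¹ from hre]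
      group
    refine ⟨(h : N) * g, Subgroup.mem_normalizer_fintype key, ?_, ?_⟩
    · rw [mul_smul, hgx]; exact h.2.2
    · rw [mul_smul, hgy]; exact h.2.1
  -- the quotient of the normaliser by `P`
  set P' := P.subgroupOf Q with hP'
  haveI : P'.Normal := Subgroup.normal_in_normalizer
  have hP'c : Nat.card P' = 2 ^ e :=
    (Nat.card_congr (Subgroup.subgroupOfEquivOfLe Subgroup.le_normalizer).toEquiv).trans hPc
  have hWd : Nat.card (Q ⧸ P') ∣ 2 * (m * o) := by
    have h1 : Nat.card Q ∣ Nat.card N := Subgroup.card_subgroup_dvd_card Q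
    rw [Subgroup.card_eq_card_quotient_mul_card_subgroup P', hP'c, hNc,
      show 2 ^ e * m * (2 * o) = (2 * (m * o)) * 2 ^ e by ring] at h1
    exact Nat.dvd_of_mul_dvd_mul_right (pow_pos two_pos _) h1
  have hfix : ∀ q : Q, ∀ x, Fx x → (q : N) • x = x → (q : N) ^ m ∈ P := by
    intro q x hx hqx
    set T := Q ⊓ MulAction.stabilizer N x with hT
    have hPT : P ≤ T := le_inf Subgroup.le_normalizer (hPle x hx)
    haveI : (P.subgroupOf T).Normal :=
      (Subgroup.normal_subgroupOf_iff_le_normalizer hPT).mpr inf_le_left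
    have hd : (P.subgroupOf T).index ∣ m := by
      have h1 : Nat.card T ∣ 2 ^ e * m := hAx x ▸ Subgroup.card_dvd_of_le inf_le_right
      rw [← (P.subgroupOf T).card_mul_index,
        Nat.card_congr (Subgroup.subgroupOfEquivOfLe hPT).toEquiv, hPc] at h1
      exact Nat.dvd_of_mul_dvd_mul_left (pow_pos two_pos _) h1
    obtain ⟨j, hj⟩ := hd
    have h2 := Subgroup.pow_index_mem (P.subgroupOf T) (⟨q, q.2, hqx⟩ : T)
    have h3 := pow_mem h2 j
    rw [← pow_mul, ← hj] at h3
    exact h3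
  have hswap_even : ∀ (g : Q) x y, Fx x → x ≠ y → (g : N) • x = y → (g : N) • y = x →
      2 ∣ orderOf (g : Q ⧸ P') := by
    intro g x y hx hxy h1 h2
    by_contra hod
    set d := orderOf (g : Q ⧸ P') with hd
    have hmem : g ^ d ∈ P' := by
      rw [← QuotientGroup.eq_one_iff, QuotientGroup.mk_pow]; exact pow_orderOf_eq_one _
    have hsq : ∀ k : ℕ, ((g : N) ^ (2 * k + 1)) • x = y := by
      intro k
      induction k with
      | zero => simpa using h1
      | succ k ih =>
        rw [show 2 * (k + 1) + 1 = 2 + (2 * k + 1) by ring, pow_add, mul_smul, ih, pow_two,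
          mul_smul, h2, h1]
    refine hxy ?_
    rw [← hsq (d / 2), show 2 * (d / 2) + 1 = d by omega]
    exact (hx _ hmem).symm
  -- an index two subgroup of the quotient
  have hb1 : ∃ y, Fx y ∧ y ∈ MulAction.orbit A b := hex b hb
  obtain ⟨b', hb', hbb⟩ := hb1
  obtain ⟨c', hc', hcc⟩ := hex c hc
  suffices hbc : b' = c' by
    obtain ⟨⟨g, hg⟩, hge⟩ := hbb
    obtain ⟨⟨k, hk⟩, hke⟩ := hcc
    refine ⟨k⁻¹ * g, mul_mem (inv_mem hk) hg, ?_⟩
    rw [mul_smul, show g • b = b' from hge, hbc, ← show k • c = c' from hke, inv_smul_smul]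
  by_contra hne
  have hab : a ≠ b' := fun h => by
    obtain ⟨⟨g, hg⟩, hge⟩ := hbb
    exact hb ((smul_left_cancel_iff g).mp (((show g • b = b' from hge).trans h.symm).trans hg.symm))
  have hac : a ≠ c' := fun h => by
    obtain ⟨⟨g, hg⟩, hge⟩ := hcc
    exact hc ((smul_left_cancel_iff g).mp (((show g • c = c' from hge).trans h.symm).trans hg.symm))
  obtain ⟨g1, hg1, g1a, g1b⟩ := hswapQ a b' hFa hb' hab
  obtain ⟨g2, hg2, g2a, g2c⟩ := hswapQ a c' hFa hc' hac
  obtain ⟨g3, hg3, g3b, g3c⟩ := hswapQ b' c' hb' hc' hne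
  have heven := hswap_even ⟨g1, hg1⟩ a b' hFa hab g1a g1b
  have hev : 2 ∣ Nat.card (Q ⧸ P') := heven.trans (orderOf_dvd_natCard _)
  obtain ⟨S⟩ : Nonempty (Sylow 2 (Q ⧸ P')) := inferInstance
  have hS2 : Nat.card (S : Subgroup (Q ⧸ P')) = 2 := by
    obtain ⟨j, hj⟩ := S.2.exists_card_eq
    have h0 : j ≠ 0 := by
      rintro rfl
      rw [pow_zero] at hj
      have hi := S.not_dvd_index
      have := (S : Subgroup (Q ⧸ P')).card_mul_index
      rw [hj, one_mul] at this
      exact hi (this ▸ hev)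
    have hj1 : j < 2 := by
      by_contra h
      have h4 : 2 ^ 2 ∣ 2 * (m * o) :=
        ((pow_dvd_pow 2 (not_lt.mp h)).trans (hj ▸ Subgroup.card_subgroup_dvd_card _)).trans hWd
      exact (Nat.prime_two.not_dvd_mul hm2 ho2)
        (Nat.dvd_of_mul_dvd_mul_left two_pos (by rwa [pow_two] at h4))
    rw [hj, show j = 1 by omega, pow_one]
  obtain ⟨O, hO⟩ := Small.exists_index_two_of_cyclic (even_iff_two_dvd.mpr hev) S
    (isCyclic_of_prime_card hS2)
  have hOodd : ¬ 2 ∣ Nat.card O := by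
    intro h
    have h4 : 2 * 2 ∣ 2 * (m * o) := by
      refine (?_ : 2 * 2 ∣ Nat.card (Q ⧸ P')).trans hWd
      rw [← O.card_mul_index, hO]
      exact Nat.mul_dvd_mul_right h 2
    exact (Nat.prime_two.not_dvd_mul hm2 ho2) (Nat.dvd_of_mul_dvd_mul_left two_pos h4)
  have hout : ∀ (g : Q) x y, Fx x → x ≠ y → (g : N) • x = y → (g : N) • y = x →
      (g : Q ⧸ P') ∉ O := by
    intro g x y hx hxy h1 h2 hm'
    exact hOodd ((hswap_even g x y hx hxy h1 h2).trans
      (Subgroup.orderOf_mk (g : Q ⧸ P') hm' ▸ orderOf_dvd_natCard _))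
  set q : Q := ⟨g3, hg3⟩ * (⟨g1, hg1⟩ * ⟨g2, hg2⟩) with hq
  have hqc : (q : N) • c' = c' := by
    show (g3 * (g1 * g2)) • c' = c'
    rw [mul_smul, mul_smul, g2c, g1a, g3b]
  have hqO : (q : Q ⧸ P') ∈ O := by
    have h1 : (q : Q ⧸ P') ^ m = 1 := by
      rw [← QuotientGroup.mk_pow, QuotientGroup.eq_one_iff]
      exact hfix q c' hc' hqc
    obtain ⟨k, hk⟩ : ∃ k, m = 2 * k + 1 := ⟨m / 2, by omega⟩
    have hsq := pow_mem (Subgroup.sq_mem_of_index_two hO (q : Q ⧸ P')) k
    rw [← pow_mul] at hsq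
    rw [hk, pow_succ, mul_eq_one_iff_eq_inv] at h1
    rw [h1] at hsq
    exact inv_mem_iff.mp hsq
  have o1 := hout ⟨g1, hg1⟩ a b' hFa hab g1a g1b
  have o2 := hout ⟨g2, hg2⟩ a c' hFa hac g2a g2c
  have o3 := hout ⟨g3, hg3⟩ b' c' hb' hne g3b g3c
  rw [hq, QuotientGroup.mk_mul, QuotientGroup.mk_mul, Subgroup.mul_mem_iff_of_index_two hO,
    Subgroup.mul_mem_iff_of_index_two hO] at hqO
  tauto

section Normal

variable {G : Type*} [Group G] [Finite G] {Ω : Type*} [Fintype Ω] [MulAction G Ω] [FaithfulSMul G Ω]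

theorem transitive_of_normal (h2 : MulAction.IsMultiplyPretransitive G Ω 2) (N : Subgroup G)
    [N.Normal] (hN : N ≠ ⊥) : MulAction.IsPretransitive N Ω := by
  haveI : MulAction.IsPreprimitive G Ω := MulAction.isPreprimitive_of_is_two_pretransitive h2
  refine MulAction.IsQuasiPreprimitive.isPretransitive_of_normal fun h => hN ?_
  rw [Subgroup.eq_bot_iff_forall]
  intro g hg
  refine FaithfulSMul.eq_of_smul_eq_smul fun ω : Ω => ?_
  rw [one_smul]
  exact (Set.eq_univ_iff_forall.mp h ω) ⟨g, hg⟩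

theorem two_transitive_of_normal (h2 : MulAction.IsMultiplyPretransitive G Ω 2)
    (hn : Fintype.card Ω % 4 = 2) (N : Subgroup G) [N.Normal] (hN : N ≠ ⊥) :
    MulAction.IsMultiplyPretransitive N Ω 2 := by
  haveI : Fact (Nat.Prime 2) := ⟨Nat.prime_two⟩
  have h22 : ∀ {a b c d : Ω}, a ≠ b → c ≠ d → ∃ g : G, g • a = c ∧ g • b = d :=
    MulAction.is_two_pretransitive_iff.mp h2
  haveI htr := transitive_of_normal h2 N hN
  obtain ⟨ω₀⟩ : Nonempty Ω := Fintype.card_pos_iff.mp (by omega)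
  -- an involution
  have hev : 2 ∣ Nat.card N := by
    refine (?_ : 2 ∣ Fintype.card Ω).trans ?_
    · omega
    · rw [← Nat.card_eq_fintype_card, ← MulAction.index_stabilizer_of_transitive N ω₀]
      exact Subgroup.index_dvd_card _
  obtain ⟨t, ht⟩ := exists_prime_orderOf_dvd_card' (G := N) 2 hev
  obtain ⟨x₀, hx₀⟩ : ∃ x : Ω, (t : G) • x ≠ x := by
    by_contra hcon
    push Not at hcon
    have : t = 1 := Subtype.ext (FaithfulSMul.eq_of_smul_eq_smul fun ω : Ω => by
      rw [Subgroup.coe_one, one_smul]; exact hcon ω)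
    rw [this, orderOf_one] at ht
    norm_num at ht
  have htt : (t : G) * t = 1 := by
    have := pow_orderOf_eq_one t
    rw [ht, pow_two] at this
    exact congrArg Subtype.val this
  have hswap : ∀ x y : Ω, x ≠ y → ∃ g : N, g • x = y ∧ g • y = x := by
    intro x y hxy
    obtain ⟨g, gx, gy⟩ := h22 (Ne.symm hx₀) hxy
    refine ⟨⟨g * t * g⁻¹, Subgroup.Normal.conj_mem inferInstance _ t.2 g⟩, ?_, ?_⟩
    · show (g * (t : G) * g⁻¹) • x = y
      rw [mul_smul, mul_smul, inv_smul_eq_iff.mpr gx.symm, gy]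
    · show (g * (t : G) * g⁻¹) • y = x
      rw [mul_smul, mul_smul, inv_smul_eq_iff.mpr gy.symm, ← mul_smul (t : G) t, htt, one_smul, gx]
  have hodd : ∀ x y : Ω, y ≠ x → ¬ 2 ∣ Nat.card (MulAction.orbit (MulAction.stabilizer N x) y) := by
    intro x y hxy h2d
    have hsame : ∀ z, z ≠ x → Nat.card (MulAction.orbit (MulAction.stabilizer N x) z) =
        Nat.card (MulAction.orbit (MulAction.stabilizer N x) y) := by
      intro z hz
      obtain ⟨g, gx, gy⟩ := h22 (Ne.symm hxy) (Ne.symm hz)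
      symm
      refine Nat.card_congr ((MulAction.toPerm g).subtypeEquiv fun w => ?_)
      show w ∈ MulAction.orbit _ y ↔ g • w ∈ MulAction.orbit _ z
      constructor
      · rintro ⟨⟨k, hk⟩, rfl⟩
        refine ⟨⟨⟨g * k * g⁻¹, Subgroup.Normal.conj_mem inferInstance _ k.2 g⟩, ?_⟩, ?_⟩
        · show (g * (k : G) * g⁻¹) • x = x
          rw [mul_smul, mul_smul, inv_smul_eq_iff.mpr gx.symm, show (k : G) • x = x from hk, gx]
        · show (g * (k : G) * g⁻¹) • z = g • (k : G) • y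
          rw [mul_smul, mul_smul, inv_smul_eq_iff.mpr gy.symm]
      · rintro ⟨⟨k, hk⟩, hw⟩
        have hw' : (k : G) • z = g • w := hw
        refine ⟨⟨⟨g⁻¹ * k * g, by simpa using Subgroup.Normal.conj_mem inferInstance _ k.2 g⁻¹⟩, ?_⟩, ?_⟩
        · show (g⁻¹ * (k : G) * g) • x = x
          rw [mul_smul, mul_smul, gx, show (k : G) • x = x from hk, inv_smul_eq_iff.mpr gx.symm]
        · show (g⁻¹ * (k : G) * g) • y = w
          rw [mul_smul, mul_smul, gy, hw', inv_smul_smul]
    have hdvd := S3356.dvd_card_of_orbits (K := MulAction.stabilizer N x)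
      (X := SubMulAction.ofStabilizer N x)
      (r := Nat.card (MulAction.orbit (MulAction.stabilizer N x) y)) fun z => by
      rw [← hsame z.1 z.2]
      exact (Nat.card_congr (Equiv.Set.image _ _ Subtype.val_injective)).trans
        (congrArg (fun S : Set Ω => Nat.card S) (SubMulAction.val_image_orbit z))
    have hX : Nat.card (SubMulAction.ofStabilizer N x) + 1 = Fintype.card Ω :=
      (SubMulAction.nat_card_ofStabilizer_add_one_eq N x).trans Nat.card_eq_fintype_card
    have := h2d.trans hdvd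
    omega
  rw [MulAction.is_two_pretransitive_iff]
  intro a b c d hab hcd
  obtain ⟨g, hg⟩ := MulAction.exists_smul_eq N a c
  obtain ⟨h, hh, hhe⟩ := stabilizer_transitive hn hswap hodd c (g • b) d
    (fun e => hab ((smul_left_cancel_iff g).mp (hg.trans e.symm))) (Ne.symm hcd)
  exact ⟨h * g, by rw [mul_smul, hg]; exact hh, by rw [mul_smul, hhe]⟩

theorem not_regular (h2 : MulAction.IsMultiplyPretransitive G Ω 2) (hn : Fintype.card Ω % 4 = 2)
    (hn2 : 2 < Fintype.card Ω) (N : Subgroup G) [N.Normal] (hN : N ≠ ⊥) (a : Ω) :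
    MulAction.stabilizer N a ≠ ⊥ := by
  intro h
  obtain ⟨b, hb, c, hc, hbc⟩ : ∃ b, b ≠ a ∧ ∃ c, c ≠ a ∧ b ≠ c := by
    classical
    have hcard : 1 < (Finset.univ.erase a).card := by
      rw [Finset.card_erase_of_mem (Finset.mem_univ a), Finset.card_univ]; omega
    obtain ⟨b, hb, c, hc, hne⟩ := Finset.one_lt_card.mp hcard
    exact ⟨b, Finset.ne_of_mem_erase hb, c, Finset.ne_of_mem_erase hc, hne⟩
  obtain ⟨g, ga, gb⟩ := MulAction.is_two_pretransitive_iff.mp
    (two_transitive_of_normal h2 hn N hN) (Ne.symm hb) (Ne.symm hc)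
  have hg1 : g ∈ MulAction.stabilizer N a := ga
  rw [h, Subgroup.mem_bot] at hg1
  rw [hg1, one_smul] at gb
  exact hbc gb

theorem centralizer_eq_bot (h2 : MulAction.IsMultiplyPretransitive G Ω 2)
    (hn : Fintype.card Ω % 4 = 2) (hn2 : 2 < Fintype.card Ω) (M : Subgroup G) [M.Normal]
    (hM : M ≠ ⊥) : Subgroup.centralizer (M : Set G) = ⊥ := by
  by_contra hC
  obtain ⟨a⟩ : Nonempty Ω := Fintype.card_pos_iff.mp (by omega)
  haveI := transitive_of_normal h2 (Subgroup.centralizer (M : Set G)) hC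
  refine not_regular h2 hn hn2 M hM a ((Subgroup.eq_bot_iff_forall _).mpr fun m hm => ?_)
  refine Subtype.ext (FaithfulSMul.eq_of_smul_eq_smul fun ω : Ω => ?_)
  obtain ⟨⟨c, hc⟩, rfl⟩ := MulAction.exists_smul_eq (Subgroup.centralizer (M : Set G)) a ω
  show (m : G) • c • a = (1 : G) • c • a
  rw [one_smul, ← mul_smul, Subgroup.mem_centralizer_iff.mp hc m m.2, mul_smul]
  exact congrArg (c • ·) hm

theorem le_of_minimal (h2 : MulAction.IsMultiplyPretransitive G Ω 2)
    (hn : Fintype.card Ω % 4 = 2) (hn2 : 2 < Fintype.card Ω) (M : Subgroup G) [M.Normal]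
    (hM : M ≠ ⊥) (hmin : ∀ K : Subgroup G, K.Normal → K ≤ M → K ≠ ⊥ → K = M)
    (N : Subgroup G) [N.Normal] (hN : N ≠ ⊥) : M ≤ N := by
  by_cases h : M ⊓ N = ⊥
  · exfalso
    refine hN (le_bot_iff.mp ((centralizer_eq_bot h2 hn hn2 M hM) ▸ fun x hx => ?_))
    refine Subgroup.mem_centralizer_iff.mpr fun m hm => ?_
    exact (Subgroup.commute_of_normal_of_disjoint M N inferInstance inferInstance
      (disjoint_iff.mpr h) m x hm hx).eq
  · exact (hmin (M ⊓ N) inferInstance inf_le_left h) ▸ inf_le_right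

end Normal

theorem exists_minimal {G : Type*} [Group G] [Finite G] [Nontrivial G] :
    ∃ M : Subgroup G, M.Normal ∧ M ≠ ⊥ ∧ ∀ K : Subgroup G, K.Normal → K ≤ M → K ≠ ⊥ → K = M := by
  obtain ⟨M, -, ⟨hMn, hM⟩, hmin⟩ := Finite.exists_le_minimal
    (p := fun K : Subgroup G => K.Normal ∧ K ≠ ⊥) (a := ⊤) ⟨inferInstance, top_ne_bot⟩
  exact ⟨M, hMn, hM, fun K hK hKM hKne => le_antisymm hKM (hmin ⟨hK, hKne⟩ hKM)⟩

/-- Let G be a doubly transitive permutation group on a finite set Ω with |Ω| ≡ 2 mod 4 and |Ω| > 2. Then G has a unique minimal normal subgroup M (a nontrivial normal subgroup contained in every nontrivial normal subgroup); M is simple and doubly transitive on Ω, and its centralizer in G is trivial (so G embeds in Aut(M)). -/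
theorem result {G : Type*} [Group G] [Finite G] {Ω : Type*} [Fintype Ω] [MulAction G Ω] [FaithfulSMul G Ω]
    (h2 : MulAction.IsMultiplyPretransitive G Ω 2) (hn : Fintype.card Ω % 4 = 2) (hn2 : 2 < Fintype.card Ω) :
    ∃ M : Subgroup G, M.Normal ∧ M ≠ ⊥ ∧ (∀ N : Subgroup G, N.Normal → N ≠ ⊥ → M ≤ N) ∧
      IsSimpleGroup ↥M ∧ MulAction.IsMultiplyPretransitive ↥M Ω 2 ∧ Subgroup.centralizer (M : Set G) = ⊥ := by
  haveI : Nontrivial G := by
    by_contra h
    rw [not_nontrivial_iff_subsingleton] at h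
    haveI := @MulAction.isPretransitive_of_is_two_pretransitive _ _ _ _ h2
    have : Subsingleton Ω := ⟨fun x y => by
      obtain ⟨g, rfl⟩ := MulAction.exists_smul_eq G x y
      rw [Subsingleton.elim g 1, one_smul]⟩
    have := Fintype.card_le_one_iff_subsingleton.mpr this
    omega
  obtain ⟨M, hMn, hM, hmin⟩ := exists_minimal (G := G)
  haveI := hMn
  have hM2 := two_transitive_of_normal h2 hn M hM
  refine ⟨M, hMn, hM, fun N hN hNe => ?_, ?_, hM2, centralizer_eq_bot h2 hn hn2 M hM⟩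
  · haveI := hN
    exact le_of_minimal h2 hn hn2 M hM hmin N hNe
  haveI : Nontrivial M := (Subgroup.nontrivial_iff_ne_bot M).mpr hM
  refine { eq_bot_or_eq_top_of_normal := fun K hK => ?_ }
  by_contra hcon
  push Not at hcon
  obtain ⟨W, hWn, hW, hWmin⟩ := exists_minimal (G := M)
  haveI := hWn
  haveI : W.Characteristic := Subgroup.characteristic_iff_map_le.mpr fun φ => by
    haveI : (W.map φ.toMonoidHom).Normal := Subgroup.Normal.map hWn _ φ.surjective
    have hne : W.map φ.toMonoidHom ≠ ⊥ := fun h =>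
      hW ((Subgroup.map_eq_bot_iff_of_injective _ φ.injective).mp h)
    have hle := le_of_minimal hM2 hn hn2 W hW hWmin _ hne
    exact (Subgroup.eq_of_le_of_card_ge hle
      (Nat.card_congr (W.equivMapOfInjective _ φ.injective).toEquiv).ge).ge
  have hWM : W.map M.subtype = M := hmin _ inferInstance (Subgroup.map_subtype_le W)
    (fun h => hW ((Subgroup.map_eq_bot_iff_of_injective _ M.subtype_injective).mp h))
  haveI := hK
  have hWK : W ≤ K := le_of_minimal hM2 hn hn2 W hW hWmin K hcon.1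
  refine hcon.2 (eq_top_iff.mpr fun x _ => hWK ?_)
  obtain ⟨w, hw, hwx⟩ : (x : G) ∈ W.map M.subtype := hWM.symm ▸ x.2
  rwa [show x = w from (M.subtype_injective hwx).symm]

end Cfsg.Agent.S3401
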