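import Cfsg.Statements.S3410
import Cfsg.Agent.Lib.ONanTI.Abelian
import Cfsg.Agent.Lib.Fi23Plus.FStar
import Cfsg.Agent.Lib.Classical.SL

set_option autoImplicit false
open Cfsg

namespace Cfsg.Agent.S3410

/-- Let a finite group G act faithfully and 2-transitively on a finite set X, and let N be an abelian normal subgroup of the stabilizer of a point x which is not semiregular on the remaining points (some non-identity element of N fixes a second point). Then the generalized Fitting subgroup of G is isomorphic to PSL_n(F) for some n ≥ 3 and some finite field F. -/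
theorem result {G X : Type*} [Group G] [Finite G] [Fintype X]
    [MulAction G X] [FaithfulSMul G X] (h2 : MulAction.IsMultiplyPretransitive G X 2) (x : X)
    (N : Subgroup G) (hNle : N ≤ MulAction.stabilizer G x)
    (hNnormal : ∀ g ∈ MulAction.stabilizer G x, ∀ n ∈ N, g * n * g⁻¹ ∈ N) (hNab : IsMulCommutative N)
    (hnsr : ∃ n ∈ N, n ≠ 1 ∧ ∃ y : X, y ≠ x ∧ n • y = y) :
    ∃ (F : Type) (_ : Field F) (_ : Fintype F) (n : ℕ), 3 ≤ n ∧
      Nonempty (↥(Cfsg.generalizedFittingSubgroup G) ≃* Matrix.ProjectiveSpecialLinearGroup (Fin n) F) := by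
  haveI := hNab
  obtain ⟨k, K, iK, iK', hk, -, L, hL, ⟨e⟩, hC⟩ := Agent.ONanTI.abelian_main h2 hNle hNnormal
    (fun g hg h hh => congrArg Subtype.val (mul_comm' (⟨g, hg⟩ : N) ⟨h, hh⟩)) hnsr
  refine ⟨K, iK, iK', k + 1, by omega, ?_⟩
  have hs : IsSimpleGroup (Matrix.ProjectiveSpecialLinearGroup (Fin (k + 1)) K) :=
    Agent.ClassicalSL.isSimpleGroup_psl (by simp; omega)
  haveI := hs
  haveI := hL
  have hnc : ∃ a b : L, ¬ Commute a b := by
    by_contra h
    push Not at h
    have hcomm : ∀ a b : Matrix.ProjectiveSpecialLinearGroup (Fin (k + 1)) K, a * b = b * a :=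
      fun a b => by simpa using ((h (e.symm a) (e.symm b)).map e).eq
    have hbot : commutator (Matrix.ProjectiveSpecialLinearGroup (Fin (k + 1)) K) = ⊥ := by
      rw [commutator_def, Subgroup.commutator_eq_bot_iff_le_centralizer]
      exact fun a _ => Subgroup.mem_centralizer_iff.2 fun b _ => hcomm b a
    have htop : commutator (Matrix.ProjectiveSpecialLinearGroup (Fin (k + 1)) K) = ⊤ := by
      have hsurj := QuotientGroup.mk'_surjective
        (Subgroup.center (Matrix.SpecialLinearGroup (Fin (k + 1)) K))
      have := congrArg (Subgroup.map (QuotientGroup.mk'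
        (Subgroup.center (Matrix.SpecialLinearGroup (Fin (k + 1)) K))))
        (Agent.ClassicalSL.isPerfect_sl (ι := Fin (k + 1)) (F := K) (by simp; omega))
      rwa [map_commutator_eq, MonoidHom.range_eq_top.2 hsurj,
        Subgroup.map_top_of_surjective _ hsurj] at this
    exact bot_ne_top (hbot.symm.trans htop)
  rw [Agent.Fi23Plus.fstar_eq_of_simple e.isSimpleGroup hnc hC]
  exact ⟨e⟩

end Cfsg.Agent.S3410
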