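import Cfsg.Agent.Lib.CommGraph.Recover
import Cfsg.Agent.Lib.Classical.SL
import Cfsg.Agent.Lib.Compute.PermCert

set_option autoImplicit false

namespace Cfsg.Agent.S3412

open Matrix PermCert

/-- The certificate. -/
def cert : CommGraph.Cert where
  n := 117
  gens := [65797, 16464]
  ginv := [[0, 0], [1, 1]]
  cls := [
    (103573, 0, 0, [1, 2]),
    (87460, 0, 0, [3, 0]),
    (38245, 1, 0, [4, 1]),
    (71298, 0, 1, [0, 5]),
    (21570, 0, 2, [6, 7]),
    (168453, 1, 3, [8, 9]),
    (5712, 0, 4, [2, 10]),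
    (21012, 1, 4, [11, 12]),
    (152073, 0, 5, [13, 14]),
    (132390, 1, 5, [15, 3]),
    (151620, 1, 6, [16, 17]),
    (4624, 0, 7, [18, 19]),
    (132180, 1, 7, [20, 4]),
    (135681, 0, 8, [5, 21]),
    (133398, 1, 8, [22, 23]),
    (132354, 0, 9, [24, 25]),
    (135745, 0, 10, [26, 27]),
    (17430, 1, 10, [28, 6]),
    (37400, 0, 11, [7, 29]),
    (131140, 1, 11, [30, 31]),
    (132705, 0, 12, [32, 33]),
    (131334, 1, 13, [34, 35]),
    (133378, 0, 14, [36, 37]),
    (75330, 1, 14, [38, 8]),
    (132378, 0, 15, [9, 39]),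
    (70146, 1, 15, [40, 41]),
    (168258, 0, 16, [10, 42]),
    (147718, 1, 16, [43, 44]),
    (17450, 0, 17, [31, 45]),
    (133220, 1, 18, [46, 47]),
    (131649, 0, 19, [48, 43]),
    (17410, 1, 19, [17, 11]),
    (132418, 0, 20, [12, 49]),
    (151938, 1, 20, [50, 51]),
    (131330, 0, 21, [52, 53]),
    (67074, 1, 21, [44, 13]),
    (133418, 0, 22, [14, 54]),
    (74242, 1, 22, [55, 56]),
    (91480, 0, 23, [57, 58]),
    (72258, 1, 24, [59, 60]),
    (102914, 0, 25, [49, 61]),
    (131589, 1, 25, [56, 15]),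
    (82470, 1, 26, [42, 62]),
    (147714, 0, 27, [63, 64]),
    (67090, 1, 27, [65, 16]),
    (6800, 1, 28, [66, 67]),
    (133713, 0, 29, [68, 69]),
    (25730, 1, 29, [70, 18]),
    (131394, 0, 30, [19, 71]),
    (86530, 1, 32, [25, 72]),
    (135809, 0, 33, [73, 74]),
    (98838, 1, 33, [51, 20]),
    (131338, 0, 34, [21, 75]),
    (66050, 1, 34, [53, 76]),
    (76418, 1, 36, [77, 78]),
    (90626, 0, 37, [79, 80]),
    (131593, 1, 37, [76, 22]),
    (107625, 0, 38, [23, 81]),
    (88153, 1, 38, [39, 82]),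
    (104808, 0, 39, [58, 77]),
    (156165, 1, 39, [78, 24]),
    (131621, 1, 40, [83, 84]),
    (132753, 1, 42, [85, 26]),
    (147722, 0, 43, [27, 86]),
    (66066, 1, 43, [64, 30]),
    (67106, 0, 44, [35, 50]),
    (39042, 0, 45, [81, 87]),
    (172100, 1, 45, [88, 28]),
    (133442, 0, 46, [29, 55]),
    (155970, 1, 46, [67, 89]),
    (42393, 0, 47, [90, 59]),
    (82434, 1, 48, [71, 91]),
    (131605, 1, 49, [80, 32]),
    (168072, 0, 50, [33, 92]),
    (164102, 1, 50, [93, 65]),
    (68098, 1, 52, [94, 95]),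
    (131585, 1, 53, [41, 34]),
    (92325, 0, 54, [96, 70]),
    (172553, 1, 54, [95, 36]),
    (107010, 0, 55, [37, 83]),
    (131609, 1, 55, [91, 68]),
    (22953, 1, 57, [45, 96]),
    (26965, 1, 58, [97, 38]),
    (131625, 0, 61, [98, 99]),
    (132482, 1, 61, [62, 40]),
    (132264, 0, 62, [84, 66]),
    (68114, 1, 63, [75, 88]),
    (41508, 1, 66, [100, 85]),
    (139841, 0, 67, [69, 63]),
    (82458, 1, 69, [89, 46]),
    (9888, 0, 70, [47, 73]),
    (131601, 1, 71, [72, 48]),
    (34854, 1, 73, [101, 90]),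
    (164098, 0, 74, [102, 103]),
    (68130, 0, 75, [86, 104]),
    (139777, 1, 75, [60, 52]),
    (108948, 0, 77, [54, 57]),
    (43074, 0, 82, [105, 106]),
    (131617, 0, 83, [61, 107]),
    (133506, 1, 83, [108, 79]),
    (8736, 0, 87, [106, 109]),
    (34842, 0, 92, [110, 105]),
    (164106, 0, 93, [74, 94]),
    (66082, 1, 93, [103, 111]),
    (139905, 1, 94, [112, 102]),
    (10848, 0, 97, [82, 112]),
    (25128, 1, 97, [87, 113]),
    (131458, 1, 98, [111, 114]),
    (133793, 0, 99, [113, 115]),
    (131208, 1, 100, [107, 110]),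
    (34818, 0, 101, [92, 100]),
    (131713, 1, 103, [109, 93]),
    (155784, 0, 104, [115, 101]),
    (133272, 1, 106, [99, 97]),
    (98818, 1, 107, [114, 98]),
    (172418, 1, 108, [104, 116]),
    (98858, 1, 115, [116, 108])]
  cz := [
    (65793, []),
    (16720, [1, 0]),
    (21828, [1, 0, 1, 0]),
    (5156, [0, 0, 1, 1]),
    (87621, [1, 0, 1, 0, 1, 0]),
    (103573, [1, 0, 1, 0, 1, 0, 1, 0]),
    (147538, [0, 0, 1, 1, 0, 0, 1, 1]),
    (76057, [1, 0, 1, 0, 1, 0, 1, 0, 1, 0]),
    (65610, [0, 1, 0, 1, 0, 1, 1, 0, 0, 1, 0, 0, 1, 0, 0]),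
    (66180, [0, 1, 0, 0, 1, 0, 1, 1, 0, 1, 0, 0, 1, 0, 0]),
    (174084, [0, 1, 0, 0, 1, 0, 1, 0, 1, 0, 1, 0, 0, 1, 0, 0]),
    (20774, [1, 1, 0, 1, 1, 0, 1, 1, 0, 1, 0, 0, 1, 0, 0, 1]),
    (86369, [1, 1, 0, 1, 0, 0, 1, 0, 1, 0, 1, 0, 0, 1, 0, 1]),
    (136544, [1, 1, 0, 0, 1, 0, 0, 1, 0, 1, 1, 0, 1, 1, 0, 1]),
    (6408, [0, 1, 0, 1, 0, 1, 1, 0, 0, 1, 0, 0, 1, 0, 1, 1]),
    (4624, [0, 1, 0, 0, 1, 0, 1, 1, 0, 1, 0, 0, 1, 0, 1, 1]),
    (41104, [1, 0, 0, 1, 0, 0, 1, 0, 1, 1, 0, 1, 0, 0, 1, 0, 0]),
    (17450, [0, 1, 0, 1, 0, 1, 1, 0, 0, 1, 0, 0, 1, 0, 0, 1, 0]),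
    (19077, [0, 1, 0, 0, 1, 0, 1, 1, 0, 1, 0, 0, 1, 0, 0, 1, 0]),
    (172312, [1, 1, 0, 1, 1, 0, 1, 1, 0, 0, 1, 0, 0, 1, 0, 0, 1]),
    (155970, [0, 0, 1, 0, 1, 1, 0, 1, 1, 0, 1, 0, 0, 1, 0, 0, 1]),
    (10642, [1, 1, 0, 0, 1, 0, 1, 0, 1, 1, 0, 0, 1, 0, 1, 0, 1]),
    (135829, [0, 1, 1, 0, 1, 0, 0, 1, 0, 0, 1, 0, 1, 0, 1, 0, 1]),
    (133220, [0, 0, 1, 0, 0, 1, 0, 0, 1, 0, 1, 1, 0, 1, 1, 0, 1]),
    (133418, [1, 0, 0, 1, 0, 0, 1, 0, 1, 0, 1, 0, 1, 0, 0, 1, 0, 0]),
    (9354, [0, 1, 1, 0, 0, 1, 0, 1, 0, 0, 1, 0, 0, 1, 0, 1, 0, 0]),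
    (22933, [0, 1, 0, 1, 0, 0, 1, 0, 0, 1, 0, 1, 0, 0, 1, 1, 0, 0]),
    (32870, [0, 1, 1, 0, 0, 1, 0, 1, 0, 1, 0, 1, 0, 0, 1, 1, 0, 0]),
    (156165, [0, 1, 0, 0, 1, 0, 1, 0, 1, 0, 1, 0, 0, 1, 0, 0, 1, 0]),
    (103768, [1, 1, 0, 1, 0, 0, 1, 0, 1, 0, 1, 0, 0, 1, 0, 1, 1, 0]),
    (99912, [1, 1, 0, 0, 1, 0, 0, 1, 0, 1, 1, 0, 1, 1, 0, 1, 1, 0]),
    (101017, [0, 0, 1, 0, 1, 1, 0, 1, 1, 0, 0, 1, 0, 0, 1, 0, 0, 1]),
    (73892, [0, 0, 1, 0, 0, 1, 0, 1, 0, 1, 1, 0, 0, 1, 0, 1, 0, 1]),
    (149505, [1, 1, 0, 1, 0, 1, 0, 0, 1, 0, 1, 1, 0, 1, 0, 1, 0, 1]),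
    (34305, [1, 0, 0, 1, 0, 0, 1, 0, 1, 1, 0, 1, 0, 0, 1, 0, 1, 1]),
    (42017, [0, 0, 1, 1, 0, 1, 0, 1, 0, 1, 1, 0, 0, 1, 0, 0, 1, 0, 0]),
    (173600, [0, 1, 0, 1, 0, 1, 1, 0, 1, 1, 0, 1, 0, 1, 0, 0, 1, 0, 0]),
    (137226, [0, 1, 0, 0, 1, 0, 1, 0, 1, 1, 0, 1, 1, 0, 1, 0, 1, 0, 0]),
    (103954, [0, 1, 1, 0, 1, 0, 0, 1, 0, 1, 0, 1, 1, 0, 1, 1, 0, 0, 1]),
    (133793, [0, 1, 0, 0, 1, 0, 0, 1, 0, 0, 1, 0, 0, 1, 0, 0, 1, 0, 1]),
    (148640, [1, 1, 0, 1, 0, 1, 0, 1, 0, 1, 1, 0, 0, 1, 0, 0, 1, 0, 1]),
    (8870, [1, 1, 0, 0, 1, 0, 1, 0, 1, 0, 0, 1, 0, 0, 1, 0, 1, 0, 1]),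
    (75330, [0, 1, 0, 1, 1, 0, 1, 0, 0, 1, 0, 0, 1, 0, 0, 1, 0, 1, 0, 0]),
    (88153, [0, 1, 0, 1, 0, 0, 1, 0, 0, 1, 0, 0, 1, 0, 1, 1, 0, 1, 0, 0]),
    (35224, [1, 1, 0, 0, 1, 0, 1, 0, 1, 1, 0, 1, 1, 0, 1, 0, 1, 0, 0, 1]),
    (155784, [0, 0, 1, 0, 0, 1, 0, 1, 0, 1, 0, 0, 1, 0, 0, 1, 0, 1, 0, 1]),
    (43074, [0, 1, 0, 1, 0, 1, 1, 0, 1, 1, 0, 1, 0, 1, 0, 0, 1, 0, 1, 1]),
    (98858, [1, 0, 0, 1, 0, 1, 0, 1, 1, 0, 1, 1, 0, 1, 0, 1, 0, 0, 1, 0, 0])]
  pa := 1
  pb := 39
  rows := [
    88593723605076116677439089702602753,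
    135040283141415200711568241558044674,
    41946558985357833834864883601506564,
    83097705899863273942066138802421896,
    11703109571496937022704264861983248,
    329589159232779184782390234976352,
    5234849192893055286920474701889632,
    87626541170088663879762116083848,
    10384672945855522077316686413824260,
    41538473991772308574305537079903760,
    5843949733770960060817715773834752,
    122963520266689687271144387774465,
    11114780308679169019518968244736032,
    643729424965148578707513810960,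
    158469623397228067262354702338,
    20622920599044418939631442165824,
    42998708359744197648071168448626688,
    1341181774780995788104938228416520,
    82407352113361999601441932836866,
    16225927803823399972111700994818052,
    162972584166430170446678318907648,
    10141371331376015498959399158144,
    40884517298043548696659781222408,
    81842694295381851246268604555265,
    5192316743140328558195515462778884,
    187652212711722246007771086455808,
    2616435790785880166242198271033344,
    103847207297479093241856830631837952,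
    1300931385084950855793854558240769,
    11043772067911740858450478840938497,
    41701426446718032000086015859490832,
    1300773234688918634762997380153346,
    2921934943048917493626303263285248,
    20769267015912627159854909982064640,
    11767858089023144370533014972416,
    2596782303005136091665230983090176,
    4850573660045104977543169,
    5354556135383087256585708954001696,
    324518708410376390723158717497378,
    22857653865484515652371105480706,
    7788484902205210949045044275380224,
    20774282795343379559477600617365504,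
    5084220975064165275519261081600,
    103927106433548566083669339733500032,
    973872594177076171449873655152640,
    204092984576931795261097422881028,
    173054133618044077420844112938114,
    3894420714307480457593663185551364,
    2981534018777428740522966549266496,
    42187461493499435303859918074806272,
    20769345909807742472426460918317056,
    316924739400716099250204704768,
    91270843221176838442114242314272,
    3407444813489038580801137715707904,
    5744815495116088791944765444,
    44134533510560803720394622854766880,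
    20771722812732307051987100424487424,
    10385861367821073147327978070492424,
    41538379859026783732679360988056065,
    6490451539271684722264020961202312,
    45635421609412419582560581976065,
    2545823728626969228988012036096,
    10161016839056522915538029248512,
    103846254239298050737358091988240416,
    10710063018349680469903008632672256,
    10546855469778991074358331328446464,
    2677278382002807529248713676435472,
    26610521400000584191965770839769090,
    2930849117120515008736948811532296,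
    23385618276033281421245932816699393,
    689606880703347319782103121396368,
    46756034642435136112805221075321856,
    84384965233387639091100051514064896,
    20809752253507326537055196511077376,
    81447170362887924358970007881984,
    12980742167002147106206823414268416,
    22067271552409029692143163938996224,
    3803570931269547113951839391792,
    1281782490001206855593885698,
    674390119926471247222725157070112,
    83086905797886253291134829256000000,
    649195720804009421826167781081184,
    83076750979635294473892781003374604,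
    1303165252716693039434884106568192,
    50745657470978373154499034351616,
    10379005648479054363231961747584,
    487094859199593416975152032809472,
    10384603777750335331391694808811664,
    62469821888732228550108259368828936,
    5477275545232239184039523647572,
    164795821107939565342534383209536,
    83094519127881181298446406080692224,
    5192618724155148544884292855136320,
    50292600943177594800330514432,
    649693225209085874069103162987008,
    207993269708206339579216658440,
    1379283738866474299985038574356288,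
    83076947848067005585495957683847313,
    322560770403435214877000499200,
    22203692544641027425068588736584,
    6972078452371133310454571731136,
    41540913883450313448540772807869444,
    6341358129471163352055281615008,
    10143739924291697737406500306944,
    1318990450144887081398452634026008,
    83117314575117984988994523227097154,
    405727420254510930236707717781636,
    162260901625551828054227152863232,
    5597945127979427087294307934142501,
    649056917381124743848332383228928,
    1318435862151560205621474451718160,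
    2596148429306152022279385195216896,
    5516820363955920830490765716620353,
    51922968740128615612187864558211346,
    20769187743710070098488190677549056,
    51925504196036104073516584443904518,
    83117475494019013184708421257003019]
  steps := [
    (0, false), (11, true), (58, false), (9, true), (115, false), (20, true), (67, false), (42, true),
    (47, false), (54, true), (92, false), (78, true), (85, false), (1, true), (14, false), (18, false),
    (29, false), (26, false), (31, false), (30, false), (4, false), (38, false), (39, false), (44, false),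
    (46, false), (7, false), (21, false), (49, false), (50, false), (60, false), (63, false), (70, false),
    (75, false), (80, false), (81, false), (84, false), (87, false), (93, false), (95, false), (97, false),
    (103, false), (105, false), (109, false), (113, false), (116, false), (2, true), (8, false), (12, false),
    (5, false), (6, false), (10, false), (13, false), (3, false), (15, false), (16, false), (17, false),
    (19, false), (22, false), (23, false), (24, false), (25, false), (27, false), (28, false), (32, false),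
    (33, false), (34, false), (35, false), (36, false), (37, false), (40, false), (41, false), (43, false),
    (45, false), (48, false), (51, false), (52, false), (53, false), (55, false), (56, false), (57, false),
    (59, false), (61, false), (62, false), (64, false), (65, false), (66, false), (68, false), (69, false),
    (71, false), (72, false), (73, false), (74, false), (76, false), (77, false), (79, false), (82, false),
    (83, false), (86, false), (88, false), (89, false), (90, false), (91, false), (94, false), (96, false),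
    (98, false), (99, false), (100, false), (101, false), (102, false), (104, false), (106, false), (107, false),
    (108, false), (110, false), (111, false), (112, false), (114, false)]

/-- Matrices over the field with three elements as codes. -/
def enc (A : SpecialLinearGroup (Fin 3) (ZMod 3)) : ℕ :=
  pack 2 (fun t => if h : t < 9 then
    ((A : Matrix (Fin 3) (Fin 3) (ZMod 3)) ⟨t / 3, by omega⟩ ⟨t % 3, by omega⟩).val else 0) 9

/-- Product on codes. -/
def mulC (a b : ℕ) : ℕ :=
  pack 2 (fun t => (get 2 a (3 * (t / 3)) * get 2 b (t % 3) +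
    get 2 a (3 * (t / 3) + 1) * get 2 b (3 + t % 3) +
    get 2 a (3 * (t / 3) + 2) * get 2 b (6 + t % 3)) % 3) 9

/-- Code of a transvection. -/
def transC (i j c : ℕ) : ℕ :=
  pack 2 (fun t => if t / 3 = t % 3 then 1 else if t = 3 * i + j then c else 0) 9

theorem get_enc (A : SpecialLinearGroup (Fin 3) (ZMod 3)) (i j : Fin 3) :
    get 2 (enc A) (3 * (i : ℕ) + j) = ((A : Matrix (Fin 3) (Fin 3) (ZMod 3)) i j).val := by
  rw [enc, get_pack _ _ _ _ (by omega), dif_pos (by omega)]
  have h1 : (⟨(3 * (i : ℕ) + j) / 3, by omega⟩ : Fin 3) = i := Fin.ext (by simp only; omega)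
  have h2 : (⟨(3 * (i : ℕ) + j) % 3, by omega⟩ : Fin 3) = j := Fin.ext (by simp only; omega)
  rw [h1, h2]
  exact Nat.mod_eq_of_lt (lt_trans (ZMod.val_lt _) (by norm_num))

theorem enc_injective : Function.Injective enc := by
  intro A B h
  apply Subtype.ext
  ext i j
  apply ZMod.val_injective
  rw [← get_enc A i j, h, get_enc]

theorem pack_congr (w : ℕ) (f g : ℕ → ℕ) : ∀ n, (∀ t < n, f t = g t) → pack w f n = pack w g n := by
  intro n
  induction n with
  | zero => intro _; rfl
  | succ n ih =>
    intro h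
    rw [pack_succ, pack_succ, ih fun t ht => h t (by omega), h n (by omega)]

theorem enc_mul (A B : SpecialLinearGroup (Fin 3) (ZMod 3)) : enc (A * B) = mulC (enc A) (enc B) := by
  conv_lhs => rw [enc]
  rw [mulC]
  refine pack_congr _ _ _ _ fun t ht => ?_
  rw [dif_pos ht]
  obtain ⟨i, j, rfl⟩ : ∃ i j : Fin 3, t = 3 * (i : ℕ) + j :=
    ⟨⟨t / 3, by omega⟩, ⟨t % 3, by omega⟩, by simp only; omega⟩
  have h1 : (⟨(3 * (i : ℕ) + j) / 3, by omega⟩ : Fin 3) = i := Fin.ext (by simp only; omega)
  have h2 : (⟨(3 * (i : ℕ) + j) % 3, by omega⟩ : Fin 3) = j := Fin.ext (by simp only; omega)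
  rw [h1, h2, show (3 * (i : ℕ) + j) / 3 = i by omega, show (3 * (i : ℕ) + j) % 3 = j by omega]
  have ea := fun k : Fin 3 => get_enc A i k
  have eb := fun k : Fin 3 => get_enc B k j
  have a0 := ea 0; have a1 := ea 1; have a2 := ea 2
  have b0 := eb 0; have b1 := eb 1; have b2 := eb 2
  simp only [Fin.val_zero, Fin.val_one, Fin.val_two, add_zero, mul_zero, zero_add, mul_one] at a0 a1 a2 b0 b1 b2
  rw [a0, a1, a2, b0, b1, show 6 + (j : ℕ) = 3 * 2 + j from rfl, b2]
  refine (congrArg ZMod.val (show ((A * B : SpecialLinearGroup (Fin 3) (ZMod 3)) :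
      Matrix (Fin 3) (Fin 3) (ZMod 3)) i j = _ from
    congrFun (congrFun (Matrix.SpecialLinearGroup.coe_mul A B) i) j)).trans ?_
  rw [Matrix.mul_apply, Fin.sum_univ_three]
  simp only [ZMod.val_add, ZMod.val_mul, Nat.add_mod, Nat.mul_mod, Nat.mod_mod]

/-- Words for the transvections. -/
def transWords : List (List ℕ) := [[], [0], [0, 0], [], [1, 0, 0, 1, 1, 0, 1, 0, 1, 1, 0, 0], [1, 0, 1, 1, 0, 1, 0, 0, 1, 1, 0, 0], [], [1, 0, 1, 0, 1, 1, 0, 0, 1, 0, 0, 1], [1, 0, 0, 1, 0, 1, 1, 0, 1, 0, 0, 1], [], [1, 0, 1, 1], [1, 0, 0, 1, 1], [], [1, 1, 0, 1], [1, 1, 0, 0, 1], [], [1, 1, 0, 1, 0, 1, 1, 0, 0, 1, 0, 0], [1, 1, 0, 0, 1, 0, 1, 1, 0, 1, 0, 0]]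

theorem trans_ok : ∀ i j : Fin 3, ∀ c : Fin 3, i ≠ j →
    transWords.any (fun w => w.all (fun k => Nat.blt k 2) &&
      Nat.beq (CommGraph.wordCode mulC (enc 1) cert.gens w) (transC i j c)) = true := by
  decide +kernel

theorem enc_transvection : ∀ (i j : Fin 3) (h : i ≠ j) (c : ZMod 3),
    enc (SpecialLinearGroup.transvection h c) = transC i j c.val := by
  decide +kernel

/-- The generators. -/
def gens : List (SpecialLinearGroup (Fin 3) (ZMod 3)) :=
  [⟨!![1, 1, 0; 0, 1, 0; 0, 0, 1], by decide⟩, ⟨!![0, 0, 1; 1, 0, 0; 0, 1, 0], by decide⟩]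

theorem gens_enc : gens.map enc = cert.gens := by decide +kernel

theorem closure_gens : Subgroup.closure {x | x ∈ gens} = ⊤ := by
  have hw : ∀ w : List ℕ, (∀ k ∈ w, k < 2) →
      ∃ x ∈ Subgroup.closure {x | x ∈ gens}, enc x = CommGraph.wordCode mulC (enc 1) cert.gens w := by
    intro w
    induction w with
    | nil => exact fun _ => ⟨1, one_mem _, rfl⟩
    | cons k w ih =>
      intro hk
      obtain ⟨x, hx, hxe⟩ := ih fun t ht => hk t (List.mem_cons_of_mem _ ht)
      have hk2 : k < gens.length := hk k List.mem_cons_self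
      refine ⟨gens[k] * x, mul_mem (Subgroup.subset_closure (List.getElem_mem hk2)) hx, ?_⟩
      have hlen : k < cert.gens.length := by rw [← gens_enc, List.length_map]; exact hk2
      rw [enc_mul, hxe, CommGraph.wordCode, List.getD_eq_getElem _ _ hlen]
      simp only [← gens_enc, List.getElem_map]
  rw [eq_top_iff, ← ClassicalSL.closure_elemTransvections, Subgroup.closure_le]
  rintro _ ⟨i, j, hij, c, rfl⟩
  have h := trans_ok i j ⟨c.val, ZMod.val_lt c⟩ hij
  rw [List.any_eq_true] at h
  obtain ⟨w, -, hw'⟩ := h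
  simp only [Bool.and_eq_true, List.all_eq_true, Nat.blt_eq, Nat.beq_eq] at hw'
  obtain ⟨x, hx, hxe⟩ := hw w hw'.1
  rw [show SpecialLinearGroup.transvection hij c = x from
    enc_injective (by rw [enc_transvection, hxe, hw'.2])]
  exact hx

theorem center_eq_bot : Subgroup.center (SpecialLinearGroup (Fin 3) (ZMod 3)) = ⊥ := by
  haveI : Fact (Nat.Prime 3) := ⟨Nat.prime_three⟩
  refine Subgroup.card_eq_one.mp ?_
  rw [ClassicalSL.card_center_sl, Fintype.card_fin, Nat.card_zmod]
  rfl

theorem result {H : Type*} [Group H] [Finite H]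
    (f : {h : H // h ≠ 1} ≃ {g : Matrix.ProjectiveSpecialLinearGroup (Fin 3) (ZMod 3) // g ≠ 1})
    (hf : ∀ x y : {h : H // h ≠ 1}, (x : H) * y = y * x ↔ ((f x) : Matrix.ProjectiveSpecialLinearGroup (Fin 3) (ZMod 3)) * (f y) = (f y) * (f x)) :
    Nonempty (H ≃* Matrix.ProjectiveSpecialLinearGroup (Fin 3) (ZMod 3)) := by
  haveI : Fact (Nat.Prime 3) := ⟨Nat.prime_three⟩
  let L := (⊤ : Subgroup (SpecialLinearGroup (Fin 3) (ZMod 3)))
  let e0 : SpecialLinearGroup (Fin 3) (ZMod 3) ≃* ProjectiveSpecialLinearGroup (Fin 3) (ZMod 3) :=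
    MulEquiv.ofBijective (QuotientGroup.mk' _) ⟨by
      rw [← MonoidHom.ker_eq_bot_iff, QuotientGroup.ker_mk', center_eq_bot],
      QuotientGroup.mk'_surjective _⟩
  let e : L ≃* ProjectiveSpecialLinearGroup (Fin 3) (ZMod 3) := Subgroup.topEquiv.trans e0
  haveI := ClassicalSL.isSimpleGroup_psl (ι := Fin 3) (F := ZMod 3) (by simp)
  haveI : IsSimpleGroup L := e.isSimpleGroup
  have hcard : Nat.card L = 5616 := by
    rw [Subgroup.card_top]
    have h := ClassicalSL.card_sl_mul (ι := Fin 3) (F := ZMod 3)
    rw [ClassicalSL.card_gl_fin (Nat.card_zmod 3), Nat.card_zmod, Fin.prod_univ_three] at h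
    norm_num at h
    rw [Nat.card_eq_fintype_card]
    omega
  have hne : ∀ g : L, e g ≠ 1 ↔ g ≠ 1 := fun g => not_congr (map_eq_one_iff e e.injective)
  let q : {g : L // g ≠ 1} ≃ {g : ProjectiveSpecialLinearGroup (Fin 3) (ZMod 3) // g ≠ 1} :=
    e.toEquiv.subtypeEquiv fun g => (hne g).symm
  have hq : ∀ u, e ((q.symm u).1) = u.1 := fun u => e.apply_symm_apply _
  obtain ⟨ψ⟩ := CommGraph.recover_of_cert L (f.trans q.symm) (fun x y => by
      rw [hf x y, ← hq (f x), ← hq (f y), ← map_mul, ← map_mul, e.injective.eq_iff]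
      rfl)
    enc enc_injective mulC enc_mul (enc 1) rfl cert gens gens_enc closure_gens 5616 48 2 hcard
    (by decide +kernel) (by decide +kernel) (by decide +kernel) (by decide +kernel) (by decide +kernel)
    (by decide +kernel) (by decide +kernel) (by decide +kernel) (by decide +kernel)
    (by decide +kernel) (by decide +kernel) (by decide +kernel) (by decide +kernel)
    (by decide +kernel) (by decide +kernel) (by decide +kernel) (by decide +kernel)
  exact ⟨ψ.trans e⟩

end Cfsg.Agent.S3412
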