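import Cfsg.Statements.S3419
import Cfsg.Agent.Lib.Spectrum.AltBigPrimes

set_option autoImplicit false
open Cfsg

namespace Cfsg.Agent.S3419


theorem small_pair {r : ℕ} (s c : ℕ) (hr : 2 ≤ r) (h3 : ¬ r ^ 3 ∣ c) (h1 : r % s ≠ 1) (h2 : r ^ 2 % s ≠ 1 ∨ ¬ r ^ 2 ∣ c) :
    ∀ j : ℕ, 1 ≤ j → r ^ j ∣ c → r ^ j % s ≠ 1 := by
  intro j hj hd
  have hj3 : j < 3 := by
    by_contra h
    exact h3 ((pow_dvd_pow r (by omega : 3 ≤ j)).trans hd)
  interval_cases j
  · simpa using h1
  · exact h2.resolve_right (not_not_intro hd)

/-- Let n ≥ 5 and let G be a finite group with the same order and the same set of element orders as the alternating group of degree n. Then G is not solvable. -/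
theorem result {G : Type*} [Group G] [Finite G] (n : ℕ) (hn : 5 ≤ n)
    (hcard : Nat.card G = Nat.card ↥(alternatingGroup (Fin n)))
    (hspec : Set.range (orderOf : G → ℕ) = Set.range (orderOf : ↥(alternatingGroup (Fin n)) → ℕ)) :
    ¬ Group.IsSolvable G := by
  rcases le_or_gt 11 n with h | h
  · exact (AltBigPrimes.factor_of_two hcard hspec (AltBigPrimes.two_big n h) hn).1
  have hc := AltBigPrimes.two_mul_card n (by omega)
  rcases le_or_gt n 7 with h7 | h7
  · refine AltBigPrimes.not_solvable_of_pair hcard hspec (r := 3) (s := 5) (by norm_num)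
      (by norm_num) (by omega) (by omega) (by omega) (by omega) (by omega) (by omega) ?_ ?_ <;>
    · refine small_pair _ _ (by omega) (fun hd => ?_) (by norm_num) ?_
      · have hd' := hd.mul_left 2
        rw [hc] at hd'
        interval_cases n <;> norm_num [Nat.factorial] at hd'
      · first
          | (left; norm_num; done)
          | refine Or.inr fun hd => ?_
            have hd' := hd.mul_left 2
            rw [hc] at hd'
            interval_cases n <;> norm_num [Nat.factorial] at hd'
  · refine AltBigPrimes.not_solvable_of_pair hcard hspec (r := 5) (s := 7) (by norm_num)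
      (by norm_num) (by omega) (by omega) (by omega) (by omega) (by omega) (by omega) ?_ ?_ <;>
    · refine small_pair _ _ (by omega) (fun hd => ?_) (by norm_num) ?_
      · have hd' := hd.mul_left 2
        rw [hc] at hd'
        interval_cases n <;> norm_num [Nat.factorial] at hd'
      · first
          | (left; norm_num; done)
          | refine Or.inr fun hd => ?_
            have hd' := hd.mul_left 2
            rw [hc] at hd'
            interval_cases n <;> norm_num [Nat.factorial] at hd'

end Cfsg.Agent.S3419
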