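import Cfsg.Statements.S3421
import Cfsg.Agent.Lib.Recog.PSL2Spec
-- import your own Cfsg.Agent.* helpers here

set_option autoImplicit false
open Cfsg

namespace Cfsg.Agent.S3421

/-- Let F be a finite field with more than 3 elements. A finite group G is isomorphic to PSL(2, F) if and only if G has the same set of element orders and the same order as PSL(2, F). -/
theorem result {G : Type*} [Group G] [Finite G] {F : Type*} [Field F] [Fintype F] (hF : 3 < Fintype.card F) :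
    Nonempty (G ≃* Matrix.ProjectiveSpecialLinearGroup (Fin 2) F) ↔
      (Set.range (orderOf : G → ℕ) = Set.range (orderOf : Matrix.ProjectiveSpecialLinearGroup (Fin 2) F → ℕ) ∧
        Nat.card G = Nat.card (Matrix.ProjectiveSpecialLinearGroup (Fin 2) F)) := by
  classical
  constructor
  · rintro ⟨e⟩
    refine ⟨?_, Nat.card_congr e.toEquiv⟩
    ext n
    exact ⟨fun ⟨g, hg⟩ => ⟨e g, by rw [MulEquiv.orderOf_eq, hg]⟩,
      fun ⟨g, hg⟩ => ⟨e.symm g, by rw [MulEquiv.orderOf_eq, hg]⟩⟩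
  rintro ⟨hspec, hcard⟩
  obtain ⟨p, hchar⟩ := CharP.exists F
  haveI := hchar
  obtain ⟨f, hp, hq⟩ := FiniteField.card F p
  haveI : Fact p.Prime := ⟨hp⟩
  set q := Fintype.card F with hqdef
  have hpq : p ∣ q := hq ▸ dvd_pow_self p f.ne_zero
  have hP := Cfsg.Agent.ProjLine.two_mul_card_psl (F := F)
  rw [Nat.card_eq_fintype_card (α := F), ← hqdef, ← hcard] at hP
  have hcases : (p = 2 ∧ Nat.gcd 2 (q - 1) = 1 ∧ (q + 1).gcd 2 = 1) ∨
      (p ≠ 2 ∧ Nat.gcd 2 (q - 1) = 2 ∧ (q + 1).gcd 2 = 2) := by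
    rcases hp.eq_two_or_odd with h2 | h2
    · have : 2 ∣ q := h2 ▸ hpq
      exact Or.inl ⟨h2, (Nat.prime_two.coprime_iff_not_dvd.2 (by omega)).gcd_eq_one,
        Nat.Coprime.gcd_eq_one (Nat.Coprime.symm (Nat.prime_two.coprime_iff_not_dvd.2 (by omega)))⟩
    · have : q % 2 = 1 := by rw [hq, Nat.pow_mod, h2, one_pow, Nat.one_mod]
      exact Or.inr ⟨by omega, Nat.gcd_eq_left (by omega), Nat.gcd_eq_right (by omega)⟩
  set d := Nat.gcd 2 (q - 1) with hd
  have hiso : Cfsg.Agent.SylowTISpec.Iso p G := by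
    intro g hg
    obtain ⟨x, hx⟩ : orderOf g ∈ Set.range (orderOf : Matrix.ProjectiveSpecialLinearGroup (Fin 2) F → ℕ) :=
      hspec ▸ Set.mem_range_self g
    rw [← hx] at hg ⊢
    have hbad : ∀ n, n ∣ q - 1 ∨ n ∣ q + 1 → ¬ x ^ n = 1 := by
      intro n hn he
      have h1 := hg.trans (orderOf_dvd_of_pow_eq_one he)
      have hq1 : 1 ≤ q := by omega
      rcases hn with hn | hn
      · have h2 := Nat.dvd_sub hpq (h1.trans hn)
        rw [Nat.sub_sub_self hq1] at h2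
        exact hp.one_lt.ne' (Nat.dvd_one.1 h2)
      · exact hp.one_lt.ne' (Nat.dvd_one.1 ((Nat.dvd_add_right hpq).1 (h1.trans hn)))
    rcases Cfsg.Agent.SL2Orders.psl_cases p x with h | h | h
    · exact Nat.dvd_antisymm (orderOf_dvd_of_pow_eq_one h) hg
    · exact absurd h (hbad _ (Or.inl (Nat.div_dvd_of_dvd (Nat.gcd_dvd_left _ _))))
    · exact absurd h (hbad _ (Or.inr (Nat.div_dvd_of_dvd (Nat.gcd_dvd_left _ _))))
  have hex : ∃ g : G, d * orderOf g = q + 1 := by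
    obtain ⟨x, hx⟩ := Cfsg.Agent.SL2Orders.exists_orderOf_nonsplit (F := F) p
    obtain ⟨g, hg⟩ : orderOf x ∈ Set.range (orderOf : G → ℕ) := hspec.symm ▸ Set.mem_range_self x
    refine ⟨g, ?_⟩
    rw [hg, hx, Cfsg.Agent.SL2Orders.halfSucc, ← hqdef]
    have hd' : (q + 1).gcd 2 = d := by
      rcases hcases with ⟨-, h1, h2⟩ | ⟨-, h1, h2⟩ <;> rw [h1, h2]
    rw [hd']
    exact Nat.mul_div_cancel' (hd' ▸ Nat.gcd_dvd_left _ _)
  have H : Cfsg.Agent.PSL2Spec.Hyp G p f d :=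
    { fpos := f.pos
      q3 := hq ▸ hF
      hd := hcases.imp (fun h => h.2.1) (fun h => ⟨h.1, h.2.1⟩)
      card := by
        rw [← hq]
        refine Nat.eq_of_mul_eq_mul_right (show 0 < q - 1 by omega) ?_
        rw [hP]; ring
      iso := hiso
      ex := fun _ => Or.inl (hq ▸ hex) }
  exact H.equiv (hcases.imp (fun h => ⟨h.1, h.2.1⟩) (fun h => ⟨h.1, h.2.1⟩)) hq

end Cfsg.Agent.S3421
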