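import Cfsg.Statements.S3427
import Cfsg.Agent.Lib.G22Rec.Main
import Cfsg.Agent.Lib.G22Rec.Orders
import Cfsg.Agent.S2518
import Mathlib.FieldTheory.Finite.GaloisField

set_option autoImplicit false
open Cfsg

namespace Cfsg.Agent.S3427

/-- Let F be the field with 2 elements and let M be the Chevalley group of type G₂ over F (a non-simple group of order 12096 whose derived subgroup, of index 2, is isomorphic to PSU(3, 3)). A finite group G is isomorphic to M if and only if G has the same set of element orders and the same order as M. -/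
theorem result {G : Type*} [Group G] [Finite G] {F : Type*} [Field F] [Fintype F] (hF : Fintype.card F = 2) :
    Nonempty (G ≃* ↥(Cfsg.Lie.chevG2.group F)) ↔
      (Set.range (orderOf : G → ℕ) = Set.range (orderOf : ↥(Cfsg.Lie.chevG2.group F) → ℕ) ∧ Nat.card G = Nat.card ↥(Cfsg.Lie.chevG2.group F)) := by
  haveI : Fintype G := Fintype.ofFinite G
  obtain ⟨e⟩ := Cfsg.Agent.S2518.group_equiv Cfsg.Lie.chevG2
    (FiniteField.ringEquivOfCardEq (K := F) (K' := Cfsg.Agent.G22.F2) (by rw [hF, ZMod.card]))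
  have H0 := Cfsg.Agent.G22Rec.hyp_G22
  haveI : Finite ↥(Cfsg.Lie.chevG2.group Cfsg.Agent.G22.F2) :=
    Nat.finite_of_card_ne_zero (by rw [H0.card]; norm_num)
  haveI : Fintype ↥(Cfsg.Lie.chevG2.group Cfsg.Agent.G22.F2) := Fintype.ofFinite _
  constructor
  · rintro ⟨f⟩
    refine ⟨?_, Nat.card_congr f.toEquiv⟩
    ext n
    constructor
    · rintro ⟨x, rfl⟩
      exact ⟨f x, MulEquiv.orderOf_eq f x⟩
    · rintro ⟨x, rfl⟩
      exact ⟨f.symm x, MulEquiv.orderOf_eq f.symm x⟩
  · rintro ⟨hspec, hcard⟩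
    have hne : ∀ (d : ℕ), (∀ x, orderOf (x : ↥(Cfsg.Lie.chevG2.group Cfsg.Agent.G22.F2)) ≠ d) →
        ∀ g : G, orderOf g ≠ d := by
      intro d hd g hg
      have hmem : d ∈ Set.range (orderOf : G → ℕ) := ⟨g, hg⟩
      rw [hspec] at hmem
      obtain ⟨x, hx⟩ := hmem
      exact hd (e x) (by rw [MulEquiv.orderOf_eq e x, hx])
    have H : Cfsg.Agent.G22Rec.Hyp G :=
      ⟨by rw [hcard, Nat.card_congr e.toEquiv, H0.card], hne 9 H0.no9, hne 14 H0.no14, hne 21 H0.no21⟩
    obtain ⟨f⟩ := Cfsg.Agent.G22Rec.Hyp.nonempty_mulEquiv H H0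
    exact ⟨f.trans e.symm⟩

end Cfsg.Agent.S3427
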