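import Cfsg.Statements.S3431
import Cfsg.Agent.Lib.NseAlt.Orders
import Cfsg.Agent.Lib.NseAlt.AltCounts
import Cfsg.Agent.Lib.NseAlt.Recognise

set_option autoImplicit false
open Cfsg

namespace Cfsg.Agent.S3431

/-- Let n be 4, 5 or 6 and let G be a finite group whose set of sizes of same-order classes (the set of numbers #{g : o(g) = m} over the element orders m of G) equals that of the alternating group of degree n. Then G is isomorphic to that alternating group. -/
theorem result {G : Type*} [Group G] [Finite G] (n : ℕ) (hn : n = 4 ∨ n = 5 ∨ n = 6)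
    (h : ((fun m : ℕ => Nat.card {g : G // orderOf g = m}) '' Set.range (orderOf : G → ℕ)) = ((fun m : ℕ => Nat.card {g : ↥(alternatingGroup (Fin n)) // orderOf g = m}) '' Set.range (orderOf : ↥(alternatingGroup (Fin n)) → ℕ))) :
    Nonempty (G ≃* ↥(alternatingGroup (Fin n))) := by
  have hvals : ∀ (S : List ℕ),
      ((fun m : ℕ => Nat.card {g : G // orderOf g = m}) '' Set.range (orderOf : G → ℕ)) = {x | x ∈ S} →
      (∀ x : G, S3995.cnt G (orderOf x) ∈ S) ∧ ∀ v ∈ S, ∃ x : G, S3995.cnt G (orderOf x) = v := by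
    intro S hS
    constructor
    · intro x
      exact hS.subset ⟨_, ⟨x, rfl⟩, rfl⟩
    · intro v hv
      obtain ⟨_, ⟨x, rfl⟩, hx⟩ := hS.superset hv
      exact ⟨x, hx⟩
  rcases hn with rfl | rfl | rfl
  · rw [NseAlt.alt4_image] at h
    obtain ⟨h1, h2⟩ := hvals _ h
    have hI := NseAlt.solve NseAlt.table4 NseAlt.cert4 h1 h2
    exact NseAlt.equiv_alt4 (NseAlt.total_eq hI).symm (hI.val (3, 8) (by decide)).2
  · rw [NseAlt.alt5_image] at h
    obtain ⟨h1, h2⟩ := hvals _ h
    have hI := NseAlt.solve NseAlt.table5 NseAlt.cert5 h1 h2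
    exact NseAlt.equiv_alt5 (NseAlt.total_eq hI).symm (hI.val (5, 24) (by decide)).2
  · rw [NseAlt.alt6_image] at h
    obtain ⟨h1, h2⟩ := hvals _ h
    have hI := NseAlt.solve NseAlt.table6 NseAlt.cert6 h1 h2
    refine NseAlt.equiv_alt6 (NseAlt.total_eq hI).symm (fun g => ?_)
      (hI.val (3, 80) (by decide)).2 (hI.val (5, 144) (by decide)).2
    rcases hI.cover g with hg | ⟨r, hr, -⟩
    · simp only [NseAlt.sol6, List.map_cons, List.map_nil, List.mem_cons, List.not_mem_nil, or_false] at hg
      omega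
    · cases hr

end Cfsg.Agent.S3431
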