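import Cfsg.Statements.S3433
import Cfsg.Agent.Lib.SmallSpec.Simple
import Cfsg.Agent.S0494
import Cfsg.Agent.S0497
import Cfsg.Agent.S1475

set_option autoImplicit false
open Cfsg

namespace Cfsg.Agent.S3433

/-- A finite group whose set of element orders is exactly {1, 2, 3, 4, 5} is isomorphic to the alternating group of degree 6, or has a normal elementary abelian 2-subgroup with quotient isomorphic to the alternating group of degree 5. -/
theorem result {G : Type*} [Group G] [Finite G] (h : Set.range (orderOf : G → ℕ) = {k : ℕ | 1 ≤ k ∧ k ≤ 5}) :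
    Nonempty (G ≃* ↥(alternatingGroup (Fin 6))) ∨
      ∃ (N : Subgroup G) (_ : N.Normal), Cfsg.IsElementaryAbelian 2 N ∧ Nonempty (G ⧸ N ≃* ↥(alternatingGroup (Fin 5))) := by
  classical
  have hS : SmallSpec.Small G := fun g => (h.le ⟨g, rfl⟩).2
  haveI : Fact (Nat.Prime 2) := ⟨Nat.prime_two⟩
  have hns : ¬ Group.IsSolvable G := by
    intro hsol
    haveI := hsol
    have h2 := S1475.result (G := G) fun g => or_iff_not_imp_right.2 (hS.isPrimePow g)
    have hsub : ({2, 3, 5} : Finset ℕ) ⊆ (Nat.card G).primeFactors := by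
      intro q hq
      simp only [Finset.mem_insert, Finset.mem_singleton] at hq
      obtain ⟨g, hg⟩ : q ∈ Set.range (orderOf : G → ℕ) := by
        rw [h]
        rcases hq with rfl | rfl | rfl <;> exact ⟨by norm_num, by norm_num⟩
      rw [Nat.mem_primeFactors]
      exact ⟨by rcases hq with rfl | rfl | rfl <;> norm_num, hg ▸ orderOf_dvd_natCard g, Nat.card_pos.ne'⟩
    have := (Finset.card_le_card hsub).trans h2
    simp at this
  obtain ⟨R, hR, hR2, hsimp, hnc, hc⟩ := hS.structure_nonsolvable hns
    (SmallSpec.simpleBelow (Nat.card G + 1)) (Nat.lt_succ_self _)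
  haveI := hR
  haveI := hsimp
  rcases hc with hc | ⟨hc, rfl⟩
  · right
    refine ⟨R, hR, ?_, S0494.result hc⟩
    have hexp : ∀ d ∈ R, d * d = 1 := by
      obtain ⟨a, ha⟩ := exists_prime_orderOf_dvd_card' (p := 2) (G := G ⧸ R) (by rw [hc]; norm_num)
      obtain ⟨x, hx, hax⟩ := (hS.quotient R).exists_inverts ha fun K hK hK2 haK => by
        rcases IsSimpleGroup.eq_bot_or_eq_top_of_normal K hK with h' | h'
        · rw [h', Subgroup.mem_bot] at haK
          rw [haK, orderOf_one] at ha
          omega
        · subst h'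
          obtain ⟨k, hk⟩ := IsPGroup.iff_card.1 hK2
          rw [Subgroup.card_top, hc] at hk
          have h3 : 3 ∣ 2 ^ k := ⟨20, by rw [← hk]⟩
          have := Nat.prime_three.dvd_of_dvd_pow h3
          norm_num at this
      obtain ⟨t, r, ht, hr, hinv, -, -⟩ := hS.exists_inverted R hR2 ha hx hax
      exact hS.exp_two R hR2 (hr ▸ hx) ht hinv
    exact ⟨⟨⟨fun a b => Subtype.ext (SmallSpec.commute_of_exp_two hexp a.2 b.2)⟩⟩, fun a ha => by
      rw [pow_two]; exact hexp a ha⟩
  · left
    obtain ⟨e⟩ := S0497.result hc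
    exact ⟨QuotientGroup.quotientBot.symm.trans e⟩

end Cfsg.Agent.S3433
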