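import Cfsg.Statements.S3437
import Cfsg.Agent.Lib.LinearBlock.FpfWitness
import Cfsg.Agent.Lib.LinearBlock.PSL3Spectrum

set_option autoImplicit false
open Cfsg

namespace Cfsg.Agent.S3437

open Cfsg.Agent.LBFpf

/-- The codes of the complement. -/
def L : List (List ℕ) :=
  [ [1,0,0,0,0,1,0,0,0,0,1,0,0,0,0,1],
    [0,6,0,0,3,0,0,0,0,0,0,9,0,0,11,0],
    [3,0,3,0,0,3,0,3,2,0,11,0,0,2,0,11],
    [5,0,0,0,0,5,0,0,0,0,8,0,0,0,0,8],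
    [0,5,0,5,9,0,9,0,0,5,0,8,9,0,4,0],
    [0,5,0,1,9,0,7,0,0,12,0,8,6,0,4,0],
    [2,0,3,0,0,2,0,3,2,0,10,0,0,2,0,10],
    [0,4,0,0,2,0,0,0,0,0,0,7,0,0,10,0],
    [2,0,2,0,0,2,0,2,3,0,10,0,0,3,0,10],
    [0,12,0,5,6,0,9,0,0,5,0,12,9,0,6,0],
    [2,0,11,0,0,2,0,11,10,0,10,0,0,10,0,10],
    [0,12,0,1,6,0,7,0,0,12,0,12,6,0,6,0],
    [12,0,0,0,0,12,0,0,0,0,12,0,0,0,0,12],
    [0,12,0,12,6,0,6,0,0,1,0,12,7,0,6,0],
    [10,0,2,0,0,10,0,2,3,0,2,0,0,3,0,2],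
    [10,0,3,0,0,10,0,3,2,0,2,0,0,2,0,2],
    [0,7,0,0,10,0,0,0,0,0,0,4,0,0,2,0],
    [0,12,0,8,6,0,4,0,0,8,0,12,4,0,6,0],
    [2,0,10,0,0,2,0,10,11,0,10,0,0,11,0,10],
    [10,0,11,0,0,10,0,11,10,0,2,0,0,10,0,2],
    [10,0,10,0,0,10,0,10,11,0,2,0,0,11,0,2],
    [0,8,0,12,4,0,6,0,0,1,0,5,7,0,9,0],
    [0,8,0,5,4,0,9,0,0,5,0,5,9,0,9,0],
    [8,0,0,0,0,8,0,0,0,0,5,0,0,0,0,5],
    [0,8,0,1,4,0,7,0,0,12,0,5,6,0,9,0],
    [0,8,0,8,4,0,4,0,0,8,0,5,4,0,9,0],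
    [0,0,0,7,0,0,10,0,0,9,0,0,11,0,0,0],
    [0,0,12,0,0,0,0,12,1,0,0,0,0,1,0,0],
    [0,0,8,0,0,0,0,8,8,0,0,0,0,8,0,0],
    [11,0,10,0,0,11,0,10,11,0,3,0,0,11,0,3],
    [11,0,2,0,0,11,0,2,3,0,3,0,0,3,0,3],
    [0,9,0,0,11,0,0,0,0,0,0,6,0,0,3,0],
    [11,0,3,0,0,11,0,3,2,0,3,0,0,2,0,3],
    [11,0,11,0,0,11,0,11,10,0,3,0,0,10,0,3],
    [0,0,0,9,0,0,11,0,0,7,0,0,10,0,0,0],
    [0,1,0,8,7,0,4,0,0,8,0,1,4,0,7,0],
    [0,1,0,12,7,0,6,0,0,1,0,1,7,0,7,0],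
    [0,0,0,4,0,0,2,0,0,6,0,0,3,0,0,0],
    [3,0,10,0,0,3,0,10,11,0,11,0,0,11,0,11],
    [0,1,0,5,7,0,9,0,0,5,0,1,9,0,7,0],
    [0,1,0,1,7,0,7,0,0,12,0,1,6,0,7,0],
    [0,0,1,0,0,0,0,1,12,0,0,0,0,12,0,0],
    [3,0,11,0,0,3,0,11,10,0,11,0,0,10,0,11],
    [0,5,0,8,9,0,4,0,0,8,0,8,4,0,4,0],
    [3,0,2,0,0,3,0,2,3,0,11,0,0,3,0,11],
    [0,0,5,0,0,0,0,5,5,0,0,0,0,5,0,0],
    [0,5,0,12,9,0,6,0,0,1,0,8,7,0,4,0],
    [0,0,0,6,0,0,3,0,0,4,0,0,2,0,0,0] ]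

instance fact_prime : Fact (Nat.Prime 13) := ⟨by norm_num⟩

theorem cert : Cert 13 L 24 where
  one := by decide +kernel
  mul := by decide +kernel
  pow := by decide +kernel
  nodup := by decide +kernel
  fpf := by decide +kernel

theorem L_dvd : ∀ a ∈ L, powC 13 a 8 = oneC ∨ powC 13 a 6 = oneC := by decide +kernel

theorem L_first : ∃ a ∈ L, powC 13 a 8 = oneC ∧ ∃ t < 16, (powC 13 a 4).getD t 0 % 13 ≠ oneC.getD t 0 % 13 := by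
  decide +kernel

theorem L_second : ∃ a ∈ L, powC 13 a 6 = oneC ∧ (∃ t < 16, (powC 13 a 2).getD t 0 % 13 ≠ oneC.getD t 0 % 13) ∧
    ∃ t < 16, (powC 13 a 3).getD t 0 % 13 ≠ oneC.getD t 0 % 13 := by
  decide +kernel

/-- There is a finite solvable group with exactly the same set of element orders as the simple group PSL(3,3). -/
theorem result {F : Type*} [Field F] [Fintype F] (hF : Fintype.card F = 3) :
    ∃ (H : Type) (_ : Group H) (_ : Fintype H), Group.IsSolvable H ∧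
      Set.range (orderOf : H → ℕ) = Set.range (orderOf : Matrix.ProjectiveSpecialLinearGroup (Fin 3) F → ℕ) := by
  classical
  haveI : Fact (Nat.Prime 3) := ⟨Nat.prime_three⟩
  haveI : CharP F 3 := charP_of_card_eq_prime_pow (f := 1) (by rw [hF]; norm_num)
  obtain ⟨H, iG, iF, hsol, hH⟩ := exists_witness_of_cert (r := 13) (by decide) (by decide) L 24 (by norm_num) cert
    (a := 4) (b := 1) rfl
  refine ⟨H, iG, iF, hsol, hH.trans ?_⟩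
  rw [Cfsg.Agent.LBPSL3.spectrum_eq (F := F) 3, hF]
  obtain ⟨A, hA, hA1, hA2⟩ := L_first
  obtain ⟨B, hB, hB1, hB2, hB3⟩ := L_second
  have hdv : ∀ C k, powC 13 C k = oneC → orderOf (toM 13 C) ∣ k := fun C k h =>
    orderOf_dvd_of_pow_eq_one (by rw [← toM_powC, h, toM_oneC])
  have hnd : ∀ C k, (∃ t < 16, (powC 13 C k).getD t 0 % 13 ≠ oneC.getD t 0 % 13) → toM 13 C ^ k ≠ 1 := fun C k h => by
    rw [← toM_powC, ← toM_oneC (r := 13)]; exact toM_ne h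
  have oA : orderOf (toM 13 A) = 8 := orderOf_eq_prime_pow (p := 2) (n := 2) (hnd A 4 hA2)
    (by rw [← toM_powC, show (2 : ℕ) ^ (2 + 1) = 8 from rfl, hA1, toM_oneC])
  have oB : orderOf (toM 13 B) = 6 := by
    have h := hdv B 6 hB1
    have h4 : ¬ orderOf (toM 13 B) ∣ 2 := fun e => hnd B 2 hB2 (orderOf_dvd_iff_pow_eq_one.1 e)
    have h6 : ¬ orderOf (toM 13 B) ∣ 3 := fun e => hnd B 3 hB3 (orderOf_dvd_iff_pow_eq_one.1 e)
    have := Nat.le_of_dvd (by norm_num) h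
    interval_cases hn : orderOf (toM 13 B) <;>
      first | rfl | (norm_num at h; done) | (norm_num at h4; done) | (norm_num at h6; done)
  have hmem : ∀ C ∈ L, ∀ m, m ∣ orderOf (toM 13 C) → ∃ A ∈ L, orderOf (toM 13 A) = m := fun C hC m hm => by
    refine ⟨powC 13 C (orderOf (toM 13 C) / m), ?_, (congrArg orderOf (toM_powC _ _)).trans (orderOf_pow_orderOf_div ?_ hm)⟩
    · induction orderOf (toM 13 C) / m with
      | zero => exact cert.one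
      | succ i ih => exact cert.mul _ ih _ hC
    · exact (isOfFinOrder_iff_pow_eq_one.2 ⟨24, by norm_num, by rw [← toM_powC, cert.pow C hC, toM_oneC]⟩).orderOf_pos.ne'
  ext m
  rw [show Nat.gcd 3 (3 - 1) = 1 from rfl]
  norm_num only [Set.mem_union, Set.mem_ofPred_eq, false_and, or_false]
  constructor
  · rintro (⟨C, hC, rfl⟩ | rfl)
    · rcases L_dvd C hC with h | h
      · exact Or.inr (Or.inl (hdv C 8 h))
      · exact Or.inr (Or.inr (Or.inr (hdv C 6 h)))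
    · exact Or.inl dvd_rfl
  · rintro (h | h | h | h)
    · rcases (Nat.dvd_prime (by norm_num)).1 h with rfl | rfl
      · exact Or.inl ⟨oneC, cert.one, by rw [toM_oneC, orderOf_one]⟩
      · exact Or.inr rfl
    · exact Or.inl (hmem A hA m (oA ▸ h))
    · exact Or.inl (hmem A hA m (oA ▸ h.trans (by norm_num)))
    · exact Or.inl (hmem B hB m (oB ▸ h))

end Cfsg.Agent.S3437

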