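import Cfsg.Statements.S3438
import Cfsg.Agent.Lib.LinearBlock.FpfWitness
import Cfsg.Agent.S2366

set_option autoImplicit false
open Cfsg

namespace Cfsg.Agent.S3438

open Cfsg.Agent.LBFpf

/-- The codes of the complement. -/
def L : List (List ℕ) :=
  [ [1,0,0,0,0,1,0,0,0,0,1,0,0,0,0,1],
    [2,0,0,0,0,2,0,0,0,0,4,0,0,0,0,4],
    [0,0,0,6,0,0,1,0,1,0,0,0,0,1,0,0],
    [4,0,0,0,0,4,0,0,0,0,2,0,0,0,0,2],
    [0,0,0,5,0,0,2,0,4,0,0,0,0,4,0,0],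
    [0,0,0,3,0,0,4,0,2,0,0,0,0,2,0,0],
    [0,6,0,0,1,0,0,0,0,0,0,6,0,0,1,0],
    [0,5,0,0,2,0,0,0,0,0,0,3,0,0,4,0],
    [0,3,0,0,4,0,0,0,0,0,0,5,0,0,2,0],
    [0,0,6,0,0,0,0,6,0,6,0,0,1,0,0,0],
    [0,0,5,0,0,0,0,5,0,3,0,0,4,0,0,0],
    [0,0,3,0,0,0,0,3,0,5,0,0,2,0,0,0],
    [6,0,0,0,0,6,0,0,0,0,6,0,0,0,0,6],
    [5,0,0,0,0,5,0,0,0,0,3,0,0,0,0,3],
    [3,0,0,0,0,3,0,0,0,0,5,0,0,0,0,5],
    [0,0,0,1,0,0,6,0,6,0,0,0,0,6,0,0],
    [0,0,0,2,0,0,5,0,3,0,0,0,0,3,0,0],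
    [0,0,0,4,0,0,3,0,5,0,0,0,0,5,0,0],
    [0,1,0,0,6,0,0,0,0,0,0,1,0,0,6,0],
    [0,2,0,0,5,0,0,0,0,0,0,4,0,0,3,0],
    [0,4,0,0,3,0,0,0,0,0,0,2,0,0,5,0],
    [0,0,1,0,0,0,0,1,0,1,0,0,6,0,0,0],
    [0,0,2,0,0,0,0,2,0,4,0,0,3,0,0,0],
    [0,0,4,0,0,0,0,4,0,2,0,0,5,0,0,0] ]

instance fact_prime : Fact (Nat.Prime 7) := ⟨by norm_num⟩

theorem cert : Cert 7 L 24 where
  one := by decide +kernel
  mul := by decide +kernel
  pow := by decide +kernel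
  nodup := by decide +kernel
  fpf := by decide +kernel

theorem L_dvd : ∀ a ∈ L, powC 7 a 8 = oneC ∨ powC 7 a 12 = oneC := by decide +kernel

theorem L_first : ∃ a ∈ L, powC 7 a 8 = oneC ∧ ∃ t < 16, (powC 7 a 4).getD t 0 % 7 ≠ oneC.getD t 0 % 7 := by
  decide +kernel

theorem L_second : ∃ a ∈ L, powC 7 a 12 = oneC ∧ (∃ t < 16, (powC 7 a 4).getD t 0 % 7 ≠ oneC.getD t 0 % 7) ∧
    ∃ t < 16, (powC 7 a 6).getD t 0 % 7 ≠ oneC.getD t 0 % 7 := by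
  decide +kernel

/-- There is a finite solvable group with exactly the same set of element orders as the simple group PSU(3,3) (realised over the field with 9 elements). -/
theorem result {F : Type*} [Field F] [Fintype F] (hF : Fintype.card F = 9) :
    ∃ (H : Type) (_ : Group H) (_ : Fintype H), Group.IsSolvable H ∧ Set.range (orderOf : H → ℕ) = Set.range (orderOf : Cfsg.PSU 3 F 3 → ℕ) := by
  classical
  haveI : Fact (Nat.Prime 3) := ⟨Nat.prime_three⟩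
  haveI : CharP F 3 := charP_of_card_eq_prime_pow (f := 2) (by rw [hF]; norm_num)
  obtain ⟨H, iG, iF, hsol, hH⟩ := exists_witness_of_cert (r := 7) (by decide) (by decide) L 24 (by norm_num) cert
    (a := 3) (b := 1) rfl
  refine ⟨H, iG, iF, hsol, hH.trans ?_⟩
  rw [Cfsg.Agent.S2366.result (F := F) 3 (by norm_num) 3 (by rw [hF]; norm_num)]
  obtain ⟨A, hA, hA1, hA2⟩ := L_first
  obtain ⟨B, hB, hB1, hB2, hB3⟩ := L_second
  have hdv : ∀ C k, powC 7 C k = oneC → orderOf (toM 7 C) ∣ k := fun C k h =>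
    orderOf_dvd_of_pow_eq_one (by rw [← toM_powC, h, toM_oneC])
  have hnd : ∀ C k, (∃ t < 16, (powC 7 C k).getD t 0 % 7 ≠ oneC.getD t 0 % 7) → toM 7 C ^ k ≠ 1 := fun C k h => by
    rw [← toM_powC, ← toM_oneC (r := 7)]; exact toM_ne h
  have oA : orderOf (toM 7 A) = 8 := orderOf_eq_prime_pow (p := 2) (n := 2) (hnd A 4 hA2)
    (by rw [← toM_powC, show (2 : ℕ) ^ (2 + 1) = 8 from rfl, hA1, toM_oneC])
  have oB : orderOf (toM 7 B) = 12 := by
    have h := hdv B 12 hB1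
    have h4 : ¬ orderOf (toM 7 B) ∣ 4 := fun e => hnd B 4 hB2 (orderOf_dvd_iff_pow_eq_one.1 e)
    have h6 : ¬ orderOf (toM 7 B) ∣ 6 := fun e => hnd B 6 hB3 (orderOf_dvd_iff_pow_eq_one.1 e)
    have := Nat.le_of_dvd (by norm_num) h
    interval_cases hn : orderOf (toM 7 B) <;>
      first | rfl | (norm_num at h; done) | (norm_num at h4; done) | (norm_num at h6; done)
  have hmem : ∀ C ∈ L, ∀ m, m ∣ orderOf (toM 7 C) → ∃ A ∈ L, orderOf (toM 7 A) = m := fun C hC m hm => by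
    refine ⟨powC 7 C (orderOf (toM 7 C) / m), ?_, (congrArg orderOf (toM_powC _ _)).trans (orderOf_pow_orderOf_div ?_ hm)⟩
    · induction orderOf (toM 7 C) / m with
      | zero => exact cert.one
      | succ i ih => exact cert.mul _ ih _ hC
    · exact (isOfFinOrder_iff_pow_eq_one.2 ⟨24, by norm_num, by rw [← toM_powC, cert.pow C hC, toM_oneC]⟩).orderOf_pos.ne'
  ext m
  rw [show Nat.gcd 3 (3 + 1) = 1 from rfl]
  norm_num only [Set.mem_union, Set.mem_ofPred_eq, false_and, or_false]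
  constructor
  · rintro (⟨C, hC, rfl⟩ | rfl)
    · rcases L_dvd C hC with h | h
      · exact Or.inl (Or.inr (hdv C 8 h))
      · exact Or.inl (Or.inl (Or.inr (hdv C 12 h)))
    · exact Or.inr dvd_rfl
  · rintro (((h | h) | h) | h)
    · exact Or.inl (hmem A hA m (oA ▸ h.trans (by norm_num)))
    · exact Or.inl (hmem B hB m (oB ▸ h))
    · exact Or.inl (hmem A hA m (oA ▸ h))
    · rcases (Nat.dvd_prime (by norm_num)).1 h with rfl | rfl
      · exact Or.inl ⟨oneC, cert.one, by rw [toM_oneC, orderOf_one]⟩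
      · exact Or.inr rfl

end Cfsg.Agent.S3438

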