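import Cfsg.Agent.Lib.Spectrum.Semidirect

set_option autoImplicit false

namespace Cfsg.Agent.S3443

open SemidirectProduct

theorem result {G : Type*} [Group G] [Finite G] (V : Subgroup G) [V.Normal] (p : ℕ) (hp : p.Prime)
    (hcomm : ∀ x y : V, x * y = y * x) (hexp : ∀ x : V, x ^ p = 1) :
    Set.range (orderOf : V ⋊[MulAut.conjNormal] G → ℕ) = Set.range (orderOf : G → ℕ) := by
  refine Set.Subset.antisymm ?_ ?_
  · rintro _ ⟨x, rfl⟩
    let ψ : V ⋊[MulAut.conjNormal] G →* G :=
      SemidirectProduct.lift V.subtype (MonoidHom.id G) (fun g => MonoidHom.ext fun v => by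
        simp [MulAut.conjNormal_apply])
    let π : V ⋊[MulAut.conjNormal] G →* G := rightHom
    let q : G →* G ⧸ V := QuotientGroup.mk' V
    have hinj : Function.Injective (ψ.prod π) := by
      rw [injective_iff_map_eq_one]
      rintro ⟨v, g⟩ h
      obtain ⟨h1, h2⟩ := Prod.ext_iff.mp h
      simp only [ψ, π, MonoidHom.prod_apply, SemidirectProduct.lift, MonoidHom.coe_mk, OneHom.coe_mk,
        rightHom_eq_right, Prod.fst_one, Prod.snd_one, MonoidHom.id_apply, Subgroup.coe_subtype] at h1 h2
      subst h2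
      rw [mul_one] at h1
      ext
      · exact h1
      · rfl
    have hq : ∀ y, q (ψ y) = q (π y) := by
      intro y
      simp only [ψ, π, SemidirectProduct.lift, MonoidHom.coe_mk, OneHom.coe_mk, rightHom_eq_right,
        MonoidHom.id_apply, Subgroup.coe_subtype, map_mul]
      rw [show q (y.left : G) = 1 from (QuotientGroup.eq_one_iff _).mpr y.left.2, one_mul]
    set m := orderOf (q (ψ x)) with hm
    have key : ∀ y : G, q y = q (ψ x) → orderOf y = m ∨ orderOf y = m * p := by
      intro y hy
      obtain ⟨a, ha⟩ : m ∣ orderOf y := by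
        rw [hm, ← hy]
        exact orderOf_map_dvd q y
      have hdvd : orderOf y ∣ m * p := by
        have hmem : y ^ m ∈ V := (QuotientGroup.eq_one_iff _).mp (by
          show q (y ^ m) = 1
          rw [map_pow, hy, hm, pow_orderOf_eq_one])
        apply orderOf_dvd_of_pow_eq_one
        rw [pow_mul]
        exact congrArg Subtype.val (hexp ⟨_, hmem⟩)
      have hm0 : 0 < m := hm ▸ orderOf_pos _
      rw [ha, Nat.mul_dvd_mul_iff_left hm0] at hdvd
      rcases (Nat.dvd_prime hp).mp hdvd with rfl | rfl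
      · left; rw [ha, mul_one]
      · right; exact ha
    rw [← orderOf_injective _ hinj x, MonoidHom.prod_apply, Prod.orderOf]
    rcases key (ψ x) rfl with h1 | h1 <;> rcases key (π x) (hq x).symm with h2 | h2 <;>
      rw [h1, h2]
    · exact ⟨ψ x, by rw [h1, Nat.lcm_self]⟩
    · exact ⟨π x, by rw [h2, Nat.lcm_eq_right (dvd_mul_right m p)]⟩
    · exact ⟨ψ x, by rw [h1, Nat.lcm_eq_left (dvd_mul_right m p)]⟩
    · exact ⟨ψ x, by rw [h1, Nat.lcm_self]⟩
  · rintro _ ⟨g, rfl⟩
    exact ⟨inr g, orderOf_injective _ inr_injective g⟩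

end Cfsg.Agent.S3443
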