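import Cfsg.Agent.S3443
import Cfsg.Agent.Lib.Solvable.Basic

set_option autoImplicit false

namespace Cfsg.Agent.S3444

open SemidirectProduct Spectrum

theorem grow {G : Type*} [Group G] [Finite G] (V : Subgroup G) [V.Normal] (p : ℕ) (hp : p.Prime)
    (hV : V ≠ ⊥) (hcomm : ∀ x y : V, x * y = y * x) (hexp : ∀ x : V, x ^ p = 1) :
    ∀ n : ℕ, ∃ (H : Type) (_ : Group H) (_ : Fintype H) (W : Subgroup H),
      W.Normal ∧ W ≠ ⊥ ∧ (∀ x y : W, x * y = y * x) ∧ (∀ x : W, x ^ p = 1) ∧
      n < Fintype.card H ∧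
      Set.range (orderOf : H → ℕ) = Set.range (orderOf : G → ℕ) := by
  intro n
  induction n with
  | zero =>
    obtain ⟨H, hH, hf, ⟨ε⟩⟩ := exists_type_copy G
    refine ⟨H, hH, hf, V.comap ε.toMonoidHom, inferInstance, ?_, ?_, ?_, ?_, range_orderOf_congr ε⟩
    · intro h
      apply hV
      rw [← Subgroup.map_comap_eq_self_of_surjective (f := ε.toMonoidHom) ε.surjective V, h,
        Subgroup.map_bot]
    · intro x y
      apply Subtype.ext
      apply ε.injective
      rw [Subgroup.coe_mul, Subgroup.coe_mul, map_mul, map_mul]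
      exact congrArg Subtype.val (hcomm ⟨ε x, x.2⟩ ⟨ε y, y.2⟩)
    · intro x
      apply Subtype.ext
      apply ε.injective
      rw [Subgroup.coe_pow, Subgroup.coe_one, map_pow, map_one]
      exact congrArg Subtype.val (hexp ⟨ε x, x.2⟩)
    · exact Fintype.card_pos
  | succ n ih =>
    obtain ⟨H, hH, hf, W, hWn, hW, hWc, hWe, hcard, hrange⟩ := ih
    haveI := hWn
    obtain ⟨K, hK, hKf, ⟨ε⟩⟩ : ∃ (K : Type) (_ : Group K) (_ : Fintype K),
        Nonempty (K ≃* W ⋊[MulAut.conjNormal (H := W)] H) := by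
      haveI : Finite (W ⋊[MulAut.conjNormal (H := W)] H) :=
        Finite.of_equiv _ SemidirectProduct.equivProd.symm
      exact exists_type_copy _
    let f : K →* H := rightHom.comp ε.toMonoidHom
    have hker : ∀ x : K, x ∈ f.ker ↔ (ε x).right = 1 := fun x => MonoidHom.mem_ker
    refine ⟨K, hK, hKf, f.ker, inferInstance, ?_, ?_, ?_, ?_, ?_⟩
    · intro h
      obtain ⟨w, hw⟩ := (Subgroup.ne_bot_iff_exists_ne_one).mp hW
      have : ε.symm (inl w) ∈ f.ker := by rw [hker]; simp
      rw [h, Subgroup.mem_bot] at this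
      exact hw (inl_injective ((by simpa using congrArg ε this : inl w = 1).trans (map_one inl).symm))
    · intro x y
      apply Subtype.ext
      apply ε.injective
      have hx := (hker x).mp x.2
      have hy := (hker y).mp y.2
      simp only [Subgroup.coe_mul, map_mul]
      ext <;> simp [hx, hy]
      exact congrArg Subtype.val (hWc (ε x).left (ε y).left)
    · intro x
      apply Subtype.ext
      apply ε.injective
      have hx : ε x = inl (ε x).left := by
        ext <;> simp [(hker x).mp x.2]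
      rw [Subgroup.coe_pow, Subgroup.coe_one, map_pow, map_one, hx, ← map_pow, hWe, map_one]
    · rw [← Nat.card_eq_fintype_card, Nat.card_congr ε.toEquiv, SemidirectProduct.card]
      haveI := (Subgroup.nontrivial_iff_ne_bot W).mpr hW
      have h2 : 2 ≤ Nat.card W := Finite.one_lt_card
      have h3 : Nat.card H = Fintype.card H := Nat.card_eq_fintype_card
      nlinarith
    · rw [range_orderOf_congr ε, Cfsg.Agent.S3443.result W p hp hWc hWe, hrange]

theorem result {G : Type*} [Group G] [Finite G] (K : Subgroup G) [K.Normal] (hK : K ≠ ⊥)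
    (hs : Group.IsSolvable K) (N : ℕ) :
    ∃ (H : Type) (_ : Group H) (_ : Fintype H), N < Fintype.card H ∧ Set.range (orderOf : H → ℕ) = Set.range (orderOf : G → ℕ) := by
  haveI := hs
  obtain ⟨V, p, hp, hVn, hV, -, hVc, hVe, -⟩ :=
    SolvBasic.exists_minimal_normal_abelian (N := K) ‹_› hK
  obtain ⟨H, hH, hf, W, -, -, -, -, h1, h2⟩ := grow V p hp hV
    (fun x y => mul_comm' x y) (fun x => Subtype.ext (by simpa using hVe x x.2)) N
  exact ⟨H, hH, hf, h1, h2⟩

end Cfsg.Agent.S3444
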