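import Mathlib

set_option autoImplicit false

namespace Cfsg.Agent.S3448

theorem orders (a : alternatingGroup (Fin 5)) :
    orderOf a = 1 ∨ orderOf a = 2 ∨ orderOf a = 3 ∨ orderOf a = 5 := by
  have h : ∀ σ : Equiv.Perm (Fin 5), Equiv.Perm.sign σ = 1 → σ ^ 2 = 1 ∨ σ ^ 3 = 1 ∨ σ ^ 5 = 1 := by
    decide +kernel
  rw [← Subgroup.orderOf_coe]
  have h5 : Nat.Prime 5 := by norm_num
  rcases h a (Equiv.Perm.mem_alternatingGroup.mp a.2) with h | h | h <;> have h := orderOf_dvd_of_pow_eq_one h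
  · rcases (Nat.dvd_prime Nat.prime_two).mp h with h | h <;> omega
  · rcases (Nat.dvd_prime Nat.prime_three).mp h with h | h <;> omega
  · rcases (Nat.dvd_prime h5).mp h with h | h <;> omega

theorem exists_orderOf {n : ℕ} (h : n = 1 ∨ n = 2 ∨ n = 3 ∨ n = 5) :
    ∃ a : alternatingGroup (Fin 5), orderOf a = n := by
  have mk : ∀ (n : ℕ) (σ : Equiv.Perm (Fin 5)), n.Prime → Equiv.Perm.sign σ = 1 → σ ^ n = 1 → σ ≠ 1 →
      ∃ a : alternatingGroup (Fin 5), orderOf a = n := fun n σ hn hs h1 h2 =>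
    ⟨⟨σ, Equiv.Perm.mem_alternatingGroup.mpr hs⟩, by
      haveI := Fact.mk hn
      rw [Subgroup.orderOf_mk]; exact orderOf_eq_prime h1 h2⟩
  rcases h with rfl | rfl | rfl | rfl
  · exact ⟨1, orderOf_one⟩
  · exact mk 2 (Equiv.swap 0 1 * Equiv.swap 2 3) Nat.prime_two (by decide +kernel) (by decide +kernel) (by decide +kernel)
  · exact mk 3 (List.formPerm [0, 1, 2]) Nat.prime_three (by decide +kernel) (by decide +kernel) (by decide +kernel)
  · exact mk 5 (List.formPerm [0, 1, 2, 3, 4]) (by norm_num) (by decide +kernel) (by decide +kernel) (by decide +kernel)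

theorem result : Set.range (orderOf : alternatingGroup (Fin 5) × alternatingGroup (Fin 5) → ℕ) = {1, 2, 3, 5, 6, 10, 15} := by
  ext o
  constructor
  · rintro ⟨⟨a, b⟩, rfl⟩
    rw [Prod.orderOf_mk]
    rcases orders a with ha | ha | ha | ha <;> rcases orders b with hb | hb | hb | hb <;>
      rw [ha, hb] <;> decide +kernel
  · intro ho
    simp only [Set.mem_insert_iff, Set.mem_singleton_iff] at ho
    obtain ⟨m, n, hm, hn, rfl⟩ : ∃ m n, (m = 1 ∨ m = 2 ∨ m = 3 ∨ m = 5) ∧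
        (n = 1 ∨ n = 2 ∨ n = 3 ∨ n = 5) ∧ o = Nat.lcm m n := by
      rcases ho with rfl | rfl | rfl | rfl | rfl | rfl | rfl
      · exact ⟨1, 1, by decide +kernel⟩
      · exact ⟨1, 2, by decide +kernel⟩
      · exact ⟨1, 3, by decide +kernel⟩
      · exact ⟨1, 5, by decide +kernel⟩
      · exact ⟨2, 3, by decide +kernel⟩
      · exact ⟨2, 5, by decide +kernel⟩
      · exact ⟨3, 5, by decide +kernel⟩
    obtain ⟨a, ha⟩ := exists_orderOf hm
    obtain ⟨b, hb⟩ := exists_orderOf hn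
    exact ⟨(a, b), by rw [Prod.orderOf_mk, ha, hb]⟩

end Cfsg.Agent.S3448
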