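import Cfsg.Agent.S3448
import Cfsg.Agent.Lib.Spectrum.Semidirect

set_option autoImplicit false

namespace Cfsg.Agent.S3449

theorem result : Set.range (orderOf : alternatingGroup (Fin 5) × alternatingGroup (Fin 5) × alternatingGroup (Fin 5) → ℕ) =
      Set.range (orderOf : Multiplicative (ZMod 30) → ℕ) := by
  ext o
  constructor
  · rintro ⟨⟨a, b, c⟩, rfl⟩
    refine Spectrum.mem_range_orderOf_of_dvd (n := 30)
      ⟨Multiplicative.ofAdd 1, by rw [orderOf_ofAdd_eq_addOrderOf, ZMod.addOrderOf_one]⟩ ?_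
    have h30 : ∀ x : alternatingGroup (Fin 5), orderOf x ∣ 30 := fun x => by
      rcases Cfsg.Agent.S3448.orders x with h | h | h | h <;> rw [h] <;> norm_num
    rw [Prod.orderOf_mk, Prod.orderOf_mk]
    exact Nat.lcm_dvd (h30 a) (Nat.lcm_dvd (h30 b) (h30 c))
  · rintro ⟨x, rfl⟩
    obtain ⟨a, ha⟩ := Cfsg.Agent.S3448.exists_orderOf (n := 2) (by norm_num)
    obtain ⟨b, hb⟩ := Cfsg.Agent.S3448.exists_orderOf (n := 3) (by norm_num)
    obtain ⟨c, hc⟩ := Cfsg.Agent.S3448.exists_orderOf (n := 5) (by norm_num)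
    refine Spectrum.mem_range_orderOf_of_dvd (n := 30)
      ⟨(a, b, c), by rw [Prod.orderOf_mk, Prod.orderOf_mk, ha, hb, hc]; rfl⟩ ?_
    have := orderOf_dvd_natCard x
    simpa using this

end Cfsg.Agent.S3449
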