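import Cfsg.Agent.Lib.Spectrum.PGL2
import Cfsg.Agent.Lib.Spectrum.Cusp

set_option autoImplicit false

namespace Cfsg.Agent.S3452

open Matrix Spectrum

variable {M : Type*} [CommGroup M] {G : Type*} [Group G]

section PSL

variable {F : Type*} [Field F]

theorem isSquare_disc_of_nilpotent (a b e d α β γ : F) (hnil : α * α + β * γ = 0)
    (hN : α ≠ 0 ∨ β ≠ 0 ∨ γ ≠ 0) (htr : a * α + b * γ + e * β - d * α = 0) :
    IsSquare ((a + d) ^ 2 - 4 * (a * d - b * e)) := by
  by_cases hβ : β = 0
  · subst hβ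
    obtain rfl : α = 0 := by simpa using hnil
    have hγ : γ ≠ 0 := by simpa using hN
    obtain rfl : b = 0 := by simpa [hγ] using htr
    exact ⟨a - d, by ring⟩
  · obtain ⟨r, rfl⟩ : ∃ r, α = r * β := ⟨α / β, by field_simp⟩
    have hγ : γ = -(r * r * β) := by
      apply mul_left_cancel₀ hβ
      linear_combination hnil
    subst hγ
    have he : e = r * (d - a) + b * (r * r) := by
      apply mul_left_cancel₀ hβ
      linear_combination htr
    subst he
    exact ⟨d - a + 2 * b * r, by ring⟩

theorem solve [Fintype F] (hodd : ringChar F ≠ 2) (s β γ e : F) (hD : s * s + β * γ ≠ 0) :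
    ∃ y y₁ y₂ : F, 2 * y * s + y₁ * γ + y₂ * β = 0 ∧ y * y + y₁ * y₂ = e := by
  have h2 := PGL2.two_ne_zero_of_odd hodd
  by_cases hγ : γ = 0
  · subst hγ
    have hs : s ≠ 0 := by simpa using hD
    obtain ⟨y, hy⟩ : ∃ y, y = -β / (2 * s) := ⟨_, rfl⟩
    refine ⟨y, e - y * y, 1, ?_, by ring⟩
    have : 2 * y * s = -β := by rw [hy]; field_simp
    linear_combination this
  · obtain ⟨a, b, hab⟩ := FiniteField.exists_root_sum_quadratic
      (f := (Polynomial.X ^ 2 - Polynomial.C e : Polynomial F))
      (g := Polynomial.C (-(s * s + β * γ)) * Polynomial.X ^ 2)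
      (Polynomial.degree_X_pow_sub_C two_pos e)
      (Polynomial.degree_C_mul_X_pow 2 (neg_ne_zero.mpr hD))
      (FiniteField.odd_card_of_char_ne_two hodd)
    simp only [Polynomial.eval_sub, Polynomial.eval_mul, Polynomial.eval_pow, Polynomial.eval_X,
      Polynomial.eval_C] at hab
    refine ⟨a + s * b, -(2 * (a + s * b) * s + γ * b * β) / γ, γ * b, ?_, ?_⟩
    · field_simp; ring
    · field_simp
      linear_combination hab

/-- The trace condition on classes in PSL. -/
def hasTrace (c : F) (q : Matrix.ProjectiveSpecialLinearGroup (Fin 2) F) : Prop :=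
  ∃ X : Matrix.SpecialLinearGroup (Fin 2) F, (X : Matrix.ProjectiveSpecialLinearGroup (Fin 2) F) = q ∧
    ((X : Matrix (Fin 2) (Fin 2) F).trace = c ∨ (X : Matrix (Fin 2) (Fin 2) F).trace = -c)

theorem hasTrace_mk (c : F) (X : Matrix.SpecialLinearGroup (Fin 2) F) :
    hasTrace c (X : Matrix.ProjectiveSpecialLinearGroup (Fin 2) F) ↔
      ((X : Matrix (Fin 2) (Fin 2) F).trace = c ∨ (X : Matrix (Fin 2) (Fin 2) F).trace = -c) := by
  refine ⟨?_, fun h => ⟨X, rfl, h⟩⟩
  rintro ⟨Y, hY, h⟩
  rcases (PGL2.psl_mk_eq_iff Y X).mp hY with e | e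
  · rwa [← e]
  · rw [e, Matrix.trace_neg, neg_eq_iff_eq_neg, neg_inj] at h
    exact h.symm

theorem prod_line [Fintype F] (hp : (Fintype.card F).Prime) (hodd : ringChar F ≠ 2) (c : F)
    (hc : c ≠ 0) (hns : ¬ IsSquare (c ^ 2 - 4)) (e : M) (he : e * e = 1)
    (x u : Matrix.ProjectiveSpecialLinearGroup (Fin 2) F) (hu : u ^ Fintype.card F = 1)
    (hu1 : u ≠ 1) :
    (∏ i ∈ Finset.range (Fintype.card F),
      (by classical exact if hasTrace c (x * u ^ i) then e else 1 : M)) = 1 := by
  classical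
  haveI := Fact.mk hp
  set p := Fintype.card F with hpdef
  haveI : CharP F p := by
    obtain ⟨n, hq, hcard⟩ := FiniteField.card F (ringChar F)
    have : ringChar F = p := by
      have h := hp
      rw [hpdef, hcard] at h
      rw [hpdef, hcard, (Nat.Prime.pow_eq_iff h).mp rfl |>.2, pow_one]
    exact this ▸ ringChar.charP F
  obtain ⟨X, rfl⟩ := QuotientGroup.mk_surjective x
  obtain ⟨U₀, rfl⟩ := QuotientGroup.mk_surjective u
  have hpo : Odd p := Nat.odd_iff.mpr (FiniteField.odd_card_of_char_ne_two hodd)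
  obtain ⟨U, hU, hUp⟩ : ∃ U : Matrix.SpecialLinearGroup (Fin 2) F,
      (U : Matrix.ProjectiveSpecialLinearGroup (Fin 2) F) =
        (U₀ : Matrix.ProjectiveSpecialLinearGroup (Fin 2) F) ∧
      (U : Matrix (Fin 2) (Fin 2) F) ^ p = 1 := by
    rw [← QuotientGroup.mk_pow, PGL2.psl_mk_eq_one_iff, Matrix.SpecialLinearGroup.coe_pow] at hu
    rcases hu with h | h
    · exact ⟨U₀, rfl, h⟩
    · refine ⟨⟨-(U₀ : Matrix (Fin 2) (Fin 2) F), by simp [Matrix.det_neg, U₀.2]⟩, ?_, ?_⟩
      · exact (PGL2.psl_mk_eq_iff _ _).mpr (Or.inr rfl)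
      · show (-(U₀ : Matrix (Fin 2) (Fin 2) F)) ^ p = 1
        rw [hpo.neg_pow, h, neg_neg]
  rw [← hU] at hu1 ⊢
  set N : Matrix (Fin 2) (Fin 2) F := (U : Matrix (Fin 2) (Fin 2) F) - 1 with hNdef
  have hNp : N ^ p = 0 := by
    rw [hNdef, sub_pow_char_of_commute p (Commute.one_right _), hUp, one_pow, sub_self]
  have hN0 : N ≠ 0 := by
    intro h
    rw [hNdef, sub_eq_zero] at h
    exact hu1 ((PGL2.psl_mk_eq_one_iff U).mpr (Or.inl h))
  have hNdet : N.det = 0 := by
    have := congrArg Matrix.det hNp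
    rw [Matrix.det_pow, Matrix.det_zero] at this
    exact pow_eq_zero_iff hp.ne_zero |>.mp this
  have hNN : N * N = N.trace • N := by rw [PGL2.cayley, hNdet, zero_smul, sub_zero]
  have hNtr : N.trace = 0 := by
    have hpow : ∀ j, N ^ (j + 1) = N.trace ^ j • N := by
      intro j
      induction j with
      | zero => simp
      | succ j ih => rw [pow_succ, ih, smul_mul_assoc, hNN, smul_smul, ← pow_succ]
    have := hpow (p - 1)
    rw [Nat.sub_add_cancel hp.one_lt.le, hNp] at this
    rcases smul_eq_zero.mp this.symm with h | h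
    · exact pow_eq_zero_iff (by have := hp.two_le; omega) |>.mp h
    · exact absurd h hN0
  rw [hNtr, zero_smul] at hNN
  have hUi : ∀ i : ℕ, (U : Matrix (Fin 2) (Fin 2) F) ^ i = 1 + (i : F) • N := by
    intro i
    induction i with
    | zero => simp
    | succ i ih =>
      rw [pow_succ, ih, show (U : Matrix (Fin 2) (Fin 2) F) = 1 + N by rw [hNdef]; abel]
      rw [mul_add, mul_one, add_mul, one_mul, smul_mul_assoc, hNN, smul_zero, add_zero,
        Nat.cast_succ, add_smul, one_smul, add_assoc]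
  set t := (X : Matrix (Fin 2) (Fin 2) F).trace with htdef
  set τ := ((X : Matrix (Fin 2) (Fin 2) F) * N).trace with hτdef
  have htrace : ∀ i : ℕ, hasTrace c ((X : Matrix.ProjectiveSpecialLinearGroup (Fin 2) F) *
      (U : Matrix.ProjectiveSpecialLinearGroup (Fin 2) F) ^ i) ↔
      (t + (i : F) * τ = c ∨ t + (i : F) * τ = -c) := by
    intro i
    rw [← QuotientGroup.mk_pow, ← QuotientGroup.mk_mul, hasTrace_mk,
      Matrix.SpecialLinearGroup.coe_mul, Matrix.SpecialLinearGroup.coe_pow, hUi, mul_add, mul_one,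
      mul_smul_comm, Matrix.trace_add, Matrix.trace_smul, smul_eq_mul, htdef, hτdef]
  simp only [htrace]
  by_cases hτ : τ = 0
  · rw [Finset.prod_eq_one]
    intro i _
    rw [if_neg]
    intro h
    rw [hτ, mul_zero, add_zero] at h
    apply hns
    have hsq : IsSquare (t ^ 2 - 4 * (X : Matrix (Fin 2) (Fin 2) F).det) := by
      rw [htdef, Matrix.trace_fin_two, Matrix.det_fin_two]
      refine isSquare_disc_of_nilpotent _ _ _ _ (N 0 0) (N 0 1) (N 1 0) ?_ ?_ ?_
      · have := congrFun₂ hNN 0 0
        simpa [Matrix.mul_apply, Fin.sum_univ_two] using this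
      · by_contra h0
        push Not at h0
        apply hN0
        rw [Matrix.trace_fin_two, h0.1, zero_add] at hNtr
        ext a b; fin_cases a <;> fin_cases b <;> simp [h0, hNtr]
      · rw [Matrix.trace_fin_two] at hNtr
        rw [hτdef, Matrix.trace_fin_two] at hτ
        simp [Matrix.mul_apply, Fin.sum_univ_two] at hτ
        linear_combination hτ - (X : Matrix (Fin 2) (Fin 2) F) 1 1 * hNtr
    rw [X.2, mul_one] at hsq
    rcases h with h | h
    · rwa [h] at hsq
    · rwa [h, neg_sq] at hsq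
  · have hbij : ∏ i ∈ Finset.range p, (if t + (i : F) * τ = c ∨ t + (i : F) * τ = -c then e else 1)
        = ∏ a : F, (if a = c ∨ a = -c then e else 1) := by
      have hinj : Set.InjOn (fun i : ℕ => t + (i : F) * τ) (Finset.range p : Set ℕ) := by
        intro i hi j hj h
        simp only [Finset.coe_range, Set.mem_Iio] at hi hj
        have h' : (i : F) = (j : F) := mul_right_cancel₀ hτ (add_left_cancel h)
        exact CharP.natCast_injOn_Iio F p hi hj h'
      rw [← Finset.prod_image (f := fun a : F => if a = c ∨ a = -c then e else 1) hinj]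
      congr 1
      apply Finset.eq_univ_of_card
      rw [Finset.card_image_of_injOn hinj, Finset.card_range]
    rw [hbij]
    have hne : c ≠ -c := by
      intro h
      have : (2 : F) * c = 0 := by linear_combination h
      rcases mul_eq_zero.mp this with h | h
      · exact PGL2.two_ne_zero_of_odd hodd h
      · exact hc h
    rw [Finset.prod_ite, Finset.prod_const_one, mul_one, Finset.prod_const,
      show Finset.univ.filter (fun a : F => a = c ∨ a = -c) = {c, -c} by ext a; simp,
      Finset.card_pair hne, pow_two, he]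

theorem card_big {N G : Type*} [Group N] [Group G] [Finite N] [Finite G] (φ : G →* MulAut N)
    (k n : ℕ) (hk : n < k) (f : Multiplicative (Fin k → ZMod 2) → N)
    (hf : Function.Injective f) : n < Nat.card (N ⋊[φ] G) := by
  rw [SemidirectProduct.card]
  have h1 : 2 ^ k ≤ Nat.card N := by
    have := Nat.card_le_card_of_injective f hf
    simpa using this
  calc n < 2 ^ k := hk.trans Nat.lt_two_pow_self
    _ ≤ Nat.card N * Nat.card G :=
      h1.trans (Nat.le_mul_of_pos_right _ Nat.card_pos)

theorem big_case [Fintype F] (hp : (Fintype.card F).Prime) (h5 : 5 ≤ Fintype.card F) (n : ℕ) :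
    ∃ (H : Type) (_ : Group H) (_ : Fintype H), n < Fintype.card H ∧
      Set.range (orderOf : H → ℕ) = Set.range (orderOf : PGL2.PGL F → ℕ) := by
  classical
  haveI := Fact.mk hp
  obtain ⟨m, hq, hcard⟩ := FiniteField.card F (ringChar F)
  have hchar : ringChar F = Fintype.card F := by
    have h := hp
    rw [hcard] at h
    rw [hcard, (Nat.Prime.pow_eq_iff h).mp rfl |>.2, pow_one]
  have hodd : ringChar F ≠ 2 := by omega
  have ho := FiniteField.odd_card_of_char_ne_two hodd
  set p := Fintype.card F with hpdef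
  -- the nonsplit element and the trace c
  obtain ⟨W, hW⟩ := PGL2.psl_exists_nonsplit (F := F) hodd
  rcases PGL2.psl_orderOf_dvd hodd W with ⟨-, hd⟩ | ⟨-, hd⟩ | ⟨hWD, hWo⟩
  · exfalso
    have h := hW.trans hd
    rw [hchar] at h
    rcases (Nat.dvd_prime hp).mp h with h | h <;> omega
  · exfalso
    have := Nat.le_of_dvd (by omega) (hW.trans hd)
    omega
  have hWord : orderOf (W : Matrix.ProjectiveSpecialLinearGroup (Fin 2) F) = (p + 1) / 2 :=
    Nat.dvd_antisymm hWo hW
  set c := (W : Matrix (Fin 2) (Fin 2) F).trace with hcdef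
  have hns : ¬ IsSquare (c ^ 2 - 4) := by
    intro hsq
    have hsq' : IsSquare (PGL2.disc (W : Matrix (Fin 2) (Fin 2) F)) := by
      rw [PGL2.disc, W.2, mul_one]; exact hsq
    have := Nat.le_of_dvd (by omega) (hW.trans (PGL2.psl_orderOf_dvd_of_isSquare hodd W hWD hsq'))
    omega
  have hc0 : c ≠ 0 := by
    intro h0
    have h2 : orderOf (W : Matrix.ProjectiveSpecialLinearGroup (Fin 2) F) ∣ 2 := by
      rw [orderOf_dvd_iff_pow_eq_one, ← QuotientGroup.mk_pow, PGL2.psl_mk_eq_one_iff,
        Matrix.SpecialLinearGroup.coe_pow, pow_two, PGL2.cayley, ← hcdef, h0, W.2]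
      right; simp
    rw [hWord] at h2
    have := Nat.le_of_dvd two_pos h2
    omega
  -- the module
  let k := n + 1
  let M₀ := Multiplicative (Fin k → ZMod 2)
  have hM₀ : ∀ a : M₀, a * a = 1 := fun a => by
    apply Multiplicative.toAdd.injective
    funext i
    exact CharTwo.add_self_eq_zero _
  let G₀ := Matrix.ProjectiveSpecialLinearGroup (Fin 2) F
  let wit : M₀ → cusp M₀ G₀ p := fun e => ⟨fun q => if hasTrace c q then e else 1,
    fun x u hu hu1 => by
      convert prod_line hp hodd c hc0 hns e (hM₀ e) x u hu hu1 using 3⟩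
  have wit_inj : Function.Injective wit := fun a b h => by
    have := congrFun (congrArg Subtype.val h) (W : G₀)
    simpa [wit, (hasTrace_mk c W).mpr (Or.inl rfl)] using this
  haveI : Finite (cusp M₀ G₀ p) := inferInstance
  let φ : G₀ →* MulAut (cusp M₀ G₀ p) := shift p
  haveI : Finite (cusp M₀ G₀ p ⋊[φ] G₀) := Finite.of_equiv _ SemidirectProduct.equivProd.symm
  have hexp : ∀ f : cusp M₀ G₀ p, f ^ 2 = 1 := fun f => by
    apply Subtype.ext; funext x; rw [pow_two]; exact hM₀ _
  have hnorm : ∀ Y : Matrix.SpecialLinearGroup (Fin 2) F,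
      PGL2.disc (Y : Matrix (Fin 2) (Fin 2) F) ≠ 0 →
      ∀ e : M₀, e ≠ 1 → twNorm φ (Y : G₀) (wit e) ≠ 1 := by
    intro Y hY e he hn
    have h2 := PGL2.two_ne_zero_of_odd hodd
    set t := (Y : Matrix (Fin 2) (Fin 2) F).trace with ht
    set S := PGL2.twoSub (Y : Matrix (Fin 2) (Fin 2) F) with hS
    have hS11 : S 1 1 = - S 0 0 := by
      simp [hS, PGL2.twoSub, Matrix.trace_fin_two]; ring
    have hSD : S 0 0 * S 0 0 + S 0 1 * S 1 0 ≠ 0 := by
      have := congrFun₂ (PGL2.twoSub_sq (Y : Matrix (Fin 2) (Fin 2) F)) 0 0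
      simp [Matrix.mul_apply, Fin.sum_univ_two] at this
      rw [this]; exact hY
    obtain ⟨y, y₁, y₂, hlin, hquad⟩ := solve hodd (S 0 0) (S 0 1) (S 1 0) (c ^ 2 / 4 - 1) hSD
    let X : Matrix.SpecialLinearGroup (Fin 2) F := ⟨!![c / 2 + y, y₁; y₂, c / 2 - y], by
      rw [Matrix.det_fin_two_of]
      have e4 : (c / 2) ^ 2 = c ^ 2 / 4 := by rw [div_pow]; norm_num
      linear_combination e4 - hquad⟩
    have hXtr : (X : Matrix (Fin 2) (Fin 2) F).trace = c := by
      simp [X, Matrix.trace_fin_two]; ring_nf; field_simp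
    have hXY : 2 * ((X : Matrix (Fin 2) (Fin 2) F) * (Y : Matrix (Fin 2) (Fin 2) F)).trace = c * t := by
      have e00 : S 0 0 = 2 * (Y : Matrix (Fin 2) (Fin 2) F) 0 0 - t := by simp [hS, ht, PGL2.twoSub]
      have e01 : S 0 1 = 2 * (Y : Matrix (Fin 2) (Fin 2) F) 0 1 := by simp [hS, PGL2.twoSub]
      have e10 : S 1 0 = 2 * (Y : Matrix (Fin 2) (Fin 2) F) 1 0 := by simp [hS, PGL2.twoSub]
      rw [e00, e01, e10] at hlin
      have htt : t = (Y : Matrix (Fin 2) (Fin 2) F) 0 0 + (Y : Matrix (Fin 2) (Fin 2) F) 1 1 := by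
        rw [ht, Matrix.trace_fin_two]
      have hc2 : c / 2 * 2 = c := div_mul_cancel₀ c h2
      simp [X, Matrix.trace_fin_two, Matrix.vecMul, dotProduct, Fin.sum_univ_two]
      linear_combination hlin + ((Y : Matrix (Fin 2) (Fin 2) F) 0 0 + (Y : Matrix (Fin 2) (Fin 2) F) 1 1) * hc2 + (c - 2 * y) * (-htt)
    have hval := congrFun (congrArg Subtype.val hn) (X : G₀)
    rw [show ((φ : G₀ →* MulAut (cusp M₀ G₀ p)) = shift p) from rfl, norm_shift] at hval
    rw [Finset.prod_eq_single 0] at hval
    · simp [wit, (hasTrace_mk c X).mpr (Or.inl hXtr)] at hval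
      exact he hval
    · intro j hj hj0
      simp only [wit]
      rw [if_neg]
      rw [← QuotientGroup.mk_pow, ← QuotientGroup.mk_mul, hasTrace_mk,
        Matrix.SpecialLinearGroup.coe_mul, Matrix.SpecialLinearGroup.coe_pow]
      intro h
      obtain ⟨a, b, hab⟩ := PGL2.pow_mem_span (Y : Matrix (Fin 2) (Fin 2) F) j
      have hdet : a * a + a * b * t + b * b = 1 := by
        have := congrArg Matrix.det hab
        rw [Matrix.det_pow, Y.2, one_pow, Matrix.det_fin_two] at this
        simp at this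
        have hY2 := Y.2
        rw [Matrix.det_fin_two] at hY2
        rw [ht, Matrix.trace_fin_two]
        linear_combination -this - b * b * hY2
      rw [hab, mul_add, mul_smul_comm, mul_smul_comm, mul_one, Matrix.trace_add, Matrix.trace_smul,
        Matrix.trace_smul, hXtr, smul_eq_mul, smul_eq_mul] at h
      have hu : (2 * a + b * t) * (2 * a + b * t) = 4 := by
        rcases h with h | h
        · have : c * (2 * a + b * t) = c * 2 := by linear_combination 2 * h - b * hXY
          rw [mul_left_cancel₀ hc0 this]; ring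
        · have : c * (2 * a + b * t) = c * (-2) := by linear_combination 2 * h - b * hXY
          rw [mul_left_cancel₀ hc0 this]; ring
      have hb : b = 0 := by
        have hD' : t ^ 2 - 4 ≠ 0 := by
          rw [PGL2.disc, Y.2, mul_one] at hY; exact hY
        have : b * b * (t ^ 2 - 4) = 0 := by linear_combination hu - 4 * hdet
        rcases mul_eq_zero.mp this with h | h
        · exact mul_self_eq_zero.mp h
        · exact absurd h hD'
      rw [hb] at hdet hab
      have ha : a = 1 ∨ a = -1 := mul_self_eq_one_iff.mp (by linear_combination hdet)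
      have hone : (Y : G₀) ^ j = 1 := by
        rw [← QuotientGroup.mk_pow, PGL2.psl_mk_eq_one_iff, Matrix.SpecialLinearGroup.coe_pow, hab]
        rcases ha with rfl | rfl <;> simp
      have := Nat.le_of_dvd (Nat.pos_of_ne_zero hj0) (orderOf_dvd_of_pow_eq_one hone)
      exact absurd this (not_le.mpr (Finset.mem_range.mp hj))
    · intro h
      exact absurd (Finset.mem_range.mpr (orderOf_pos (Y : G₀))) h
  obtain ⟨e, he⟩ : ∃ e : M₀, e ≠ 1 := by
    refine ⟨Multiplicative.ofAdd (fun _ => 1), fun h => ?_⟩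
    have := congrFun (congrArg Multiplicative.toAdd h) ⟨0, Nat.succ_pos n⟩
    exact one_ne_zero this
  obtain ⟨H, hH, hfin, ⟨ε⟩⟩ := exists_type_copy (cusp M₀ G₀ p ⋊[φ] G₀)
  refine ⟨H, hH, hfin, ?_, ?_⟩
  · rw [← Nat.card_eq_fintype_card, Nat.card_congr ε.toEquiv]
    exact card_big φ k n (Nat.lt_succ_self n) wit wit_inj
  rw [range_orderOf_congr ε, PGL2.range_orderOf hodd, hchar]
  ext o
  constructor
  · rintro ⟨⟨f, g⟩, rfl⟩
    have hdvd := orderOf_dvd_mul φ g f hexp
    obtain ⟨X, rfl⟩ := QuotientGroup.mk_surjective g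
    have dbl : ∀ {a b : ℕ}, orderOf (X : G₀) ∣ a → a * 2 = b →
        orderOf (⟨f, (X : G₀)⟩ : cusp M₀ G₀ p ⋊[φ] G₀) ∣ b :=
      fun ha hb => hdvd.trans (hb ▸ Nat.mul_dvd_mul_right ha 2)
    rcases PGL2.psl_orderOf_dvd hodd X with ⟨-, h⟩ | ⟨-, h⟩ | ⟨-, h⟩
    · rw [hchar] at h
      rcases (Nat.dvd_prime hp).mp h with h1 | h1
      · refine Or.inr (Or.inl ((dbl (a := 1) (b := 2) (by rw [h1]) rfl).trans ?_))
        exact Nat.dvd_of_mod_eq_zero (by omega)
      · left
        rw [orderOf_eq_of_norm_eq_one φ _ f, h1]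
        apply Subtype.ext; funext x
        rw [show ((φ : G₀ →* MulAut (cusp M₀ G₀ p)) = shift p) from rfl, norm_shift]
        rw [h1]
        refine f.2 x _ (h1 ▸ pow_orderOf_eq_one _) ?_
        intro h0
        rw [h0, orderOf_one] at h1
        omega
    · exact Or.inr (Or.inl (dbl h (by omega)))
    · exact Or.inr (Or.inr (dbl h (by omega)))
  · rintro (h | h | h)
    · refine mem_range_orderOf_of_dvd ?_ h
      let g : Matrix.SpecialLinearGroup (Fin 2) F :=
        ⟨!![1, 1; 0, 1], by simp [Matrix.det_fin_two]⟩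
      refine ⟨SemidirectProduct.inr (g : G₀), ?_⟩
      rw [orderOf_injective _ SemidirectProduct.inr_injective]
      rcases PGL2.psl_orderOf_dvd hodd g with ⟨-, h⟩ | ⟨h, -⟩ | ⟨h, -⟩
      · rw [hchar] at h
        rcases (Nat.dvd_prime hp).mp h with h1 | h1
        · exfalso
          rw [orderOf_eq_one_iff, PGL2.psl_mk_eq_one_iff] at h1
          rcases h1 with h1 | h1 <;> simpa [g] using congrFun₂ h1 0 1
        · exact h1
      all_goals exact absurd (by simp [g, PGL2.disc, Matrix.trace_fin_two, Matrix.det_fin_two]; ring) h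
    · obtain ⟨Y, hY⟩ := PGL2.psl_exists_split (F := F) hodd
      rw [← hpdef] at hY
      have hYD : PGL2.disc (Y : Matrix (Fin 2) (Fin 2) F) ≠ 0 := by
        intro h0
        rcases PGL2.psl_orderOf_dvd hodd Y with ⟨-, h1⟩ | ⟨h1, -⟩ | ⟨h1, -⟩
        · rw [hchar, hY] at h1
          rcases (Nat.dvd_prime hp).mp h1 with h1 | h1 <;> omega
        · exact h1 h0
        · exact h1 h0
      refine mem_range_orderOf_of_dvd ⟨⟨wit e, (Y : G₀)⟩, ?_⟩ h
      rw [orderOf_eq_mul_of_norm_ne_one φ _ _ Nat.prime_two hexp (hnorm Y hYD e he), hY]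
      omega
    · refine mem_range_orderOf_of_dvd ⟨⟨wit e, (W : G₀)⟩, ?_⟩ h
      rw [orderOf_eq_mul_of_norm_ne_one φ _ _ Nat.prime_two hexp (hnorm W hWD e he), hWord]
      omega

end PSL

/-- Inversion action of the group of order two on an abelian group of exponent three. -/
def flip (N : Type*) [CommGroup N] : Multiplicative (ZMod 2) →* MulAut N where
  toFun a := if a = 1 then 1 else MulEquiv.inv N
  map_one' := by simp
  map_mul' a b := by
    rcases (by decide : ∀ a : Multiplicative (ZMod 2), a = 1 ∨ a = Multiplicative.ofAdd 1) a with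
      rfl | rfl <;>
    rcases (by decide : ∀ a : Multiplicative (ZMod 2), a = 1 ∨ a = Multiplicative.ofAdd 1) b with
      rfl | rfl
    · simp
    · simp
    · simp
    · rw [if_pos (by decide), if_neg (by decide)]
      ext x; simp

theorem two_case {F : Type*} [Field F] [Fintype F] (h2 : Fintype.card F = 2) (n : ℕ) :
    ∃ (H : Type) (_ : Group H) (_ : Fintype H), n < Fintype.card H ∧
      Set.range (orderOf : H → ℕ) = Set.range (orderOf : PGL2.PGL F → ℕ) := by
  classical
  have hF : ∀ x : F, x = 0 ∨ x = 1 := by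
    intro x
    by_contra h
    push Not at h
    have h3 : ({0, 1, x} : Finset F).card = 3 :=
      Finset.card_eq_three.mpr ⟨0, 1, x, zero_ne_one, h.1.symm, h.2.symm, rfl⟩
    have := Finset.card_le_univ ({0, 1, x} : Finset F)
    omega
  have hone : (1 : F) + 1 = 0 := by
    rcases hF (1 + 1) with h | h
    · exact h
    · exact absurd (add_eq_left.mp h) one_ne_zero
  have hneg : ∀ x : F, -x = x := fun x => by linear_combination -x * hone
  have hchar : ringChar F = 2 := by
    obtain ⟨m, hq, hcard⟩ := FiniteField.card F (ringChar F)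
    rw [h2] at hcard
    have h2p : Nat.Prime (ringChar F ^ (m : ℕ)) := hcard ▸ Nat.prime_two
    rw [(Nat.Prime.pow_eq_iff h2p).mp rfl |>.2, pow_one] at hcard
    exact hcard.symm
  have htarget : Set.range (orderOf : PGL2.PGL F → ℕ) = {o | o ∣ 2 ∨ o ∣ 3} := by
    ext o
    constructor
    · rintro ⟨x, rfl⟩
      obtain ⟨g, rfl⟩ := QuotientGroup.mk_surjective x
      have hdet : (g : Matrix (Fin 2) (Fin 2) F).det = 1 :=
        (hF _).resolve_left ((Matrix.isUnit_iff_isUnit_det _).mp g.isUnit).ne_zero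
      have hc := PGL2.cayley (g : Matrix (Fin 2) (Fin 2) F)
      rw [hdet, one_smul] at hc
      rcases hF (g : Matrix (Fin 2) (Fin 2) F).trace with h | h <;> rw [h] at hc
      · left
        rw [orderOf_dvd_iff_pow_eq_one, ← QuotientGroup.mk_pow, PGL2.mk_eq_one_iff]
        exact ⟨-1, by rw [Units.val_pow_eq_pow_val, pow_two, hc, zero_smul, zero_sub, neg_one_smul]⟩
      · right
        rw [orderOf_dvd_iff_pow_eq_one, ← QuotientGroup.mk_pow, PGL2.mk_eq_one_iff]
        refine ⟨-1, ?_⟩
        rw [Units.val_pow_eq_pow_val, pow_succ, pow_two, hc, sub_mul, one_smul, one_mul, hc,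
          one_smul, neg_one_smul]
        abel
    · rintro (h | h)
      · refine mem_range_orderOf_of_dvd ?_ h
        obtain ⟨x, hx⟩ := PGL2.exists_order_char (F := F)
        exact ⟨x, by rw [hx, hchar]⟩
      · refine mem_range_orderOf_of_dvd ?_ h
        let g : Matrix.GeneralLinearGroup (Fin 2) F := ⟨!![0, 1; 1, 1], !![1, 1; 1, 0],
          by ext i j; fin_cases i <;> fin_cases j <;> simp [hone],
          by ext i j; fin_cases i <;> fin_cases j <;> simp [hone]⟩
        refine ⟨(g : PGL2.PGL F), orderOf_eq_prime ?_ ?_⟩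
        · rw [← QuotientGroup.mk_pow, PGL2.mk_eq_one_iff]
          refine ⟨1, ?_⟩
          rw [Units.val_pow_eq_pow_val, one_smul]
          ext i j
          fin_cases i <;> fin_cases j <;> simp [g, pow_succ, Matrix.mul_apply, Fin.sum_univ_two, hone]
        · rw [Ne, PGL2.mk_eq_one_iff]
          rintro ⟨r, hr⟩
          have := congrFun₂ hr 0 1
          simp [g] at this
  let k := n + 1
  let N := Multiplicative (Fin k → ZMod 3)
  have hN : ∀ a : N, a ^ 3 = 1 := fun a => by
    apply Multiplicative.toAdd.injective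
    funext i
    rw [toAdd_pow, Pi.smul_apply, nsmul_eq_mul]
    show (3 : ZMod 3) * _ = 0
    rw [show (3 : ZMod 3) = 0 by decide, zero_mul]
  let G₀ := Multiplicative (ZMod 2)
  haveI : Finite (N ⋊[flip N] G₀) := Finite.of_equiv _ SemidirectProduct.equivProd.symm
  obtain ⟨H, hH, hfin, ⟨ε⟩⟩ := exists_type_copy (N ⋊[flip N] G₀)
  refine ⟨H, hH, hfin, ?_, ?_⟩
  · rw [← Nat.card_eq_fintype_card, Nat.card_congr ε.toEquiv, SemidirectProduct.card]
    have h1 : 3 ^ k = Nat.card N := by simp [N]
    have h3 : k < 3 ^ k := Nat.lt_pow_self (by omega)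
    have h4 : Nat.card N ≤ Nat.card N * Nat.card G₀ := Nat.le_mul_of_pos_right _ Nat.card_pos
    omega
  rw [range_orderOf_congr ε, htarget]
  ext o
  constructor
  · rintro ⟨⟨a, g⟩, rfl⟩
    rcases (by decide : ∀ g : G₀, g = 1 ∨ (g = Multiplicative.ofAdd 1)) g with rfl | rfl
    · right
      have := orderOf_dvd_mul (flip N) 1 a hN
      simpa using this
    · left
      have ho : orderOf (Multiplicative.ofAdd (1 : ZMod 2) : G₀) = 2 :=
        orderOf_eq_prime (by decide) (by decide)
      rw [orderOf_eq_of_norm_eq_one (flip N) _ a ?_, ho]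
      rw [twNorm, ho, Finset.prod_range_succ, Finset.prod_range_one, pow_zero, map_one, pow_one]
      show a * (flip N (Multiplicative.ofAdd 1)) a = 1
      have hflip : flip N (Multiplicative.ofAdd 1) = MulEquiv.inv N := by
        show (if Multiplicative.ofAdd (1 : ZMod 2) = 1 then (1 : MulAut N) else MulEquiv.inv N) = _
        rw [if_neg (by decide)]
      rw [hflip]
      show a * a⁻¹ = 1
      exact mul_inv_cancel a
  · rintro (h | h)
    · refine mem_range_orderOf_of_dvd ⟨SemidirectProduct.inr (Multiplicative.ofAdd 1), ?_⟩ h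
      rw [orderOf_injective _ SemidirectProduct.inr_injective]
      exact orderOf_eq_prime (by decide) (by decide)
    · refine mem_range_orderOf_of_dvd
        ⟨SemidirectProduct.inl (Multiplicative.ofAdd (fun _ => 1)), ?_⟩ h
      rw [orderOf_injective _ SemidirectProduct.inl_injective]
      refine orderOf_eq_prime (hN _) fun h0 => ?_
      exact one_ne_zero (congrFun (congrArg Multiplicative.toAdd h0) ⟨0, Nat.succ_pos n⟩)

/-- Triples with trivial product. -/
def zeroSum (M : Type*) [CommGroup M] : Subgroup (Fin 3 → M) where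
  carrier := {v | v 0 * v 1 * v 2 = 1}
  one_mem' := by simp
  mul_mem' := by
    intro a b ha hb
    show a 0 * b 0 * (a 1 * b 1) * (a 2 * b 2) = 1
    rw [show a 0 * b 0 * (a 1 * b 1) * (a 2 * b 2) = (a 0 * a 1 * a 2) * (b 0 * b 1 * b 2) by
      simp only [mul_comm, mul_assoc, mul_left_comm], show a 0 * a 1 * a 2 = 1 from ha,
      show b 0 * b 1 * b 2 = 1 from hb, one_mul]
  inv_mem' := by
    intro a ha
    show (a 0)⁻¹ * (a 1)⁻¹ * (a 2)⁻¹ = 1
    rw [← mul_inv, ← mul_inv, show a 0 * a 1 * a 2 = 1 from ha, inv_one]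

theorem zeroSum_iff {M : Type*} [CommGroup M] (v : Fin 3 → M) :
    v ∈ zeroSum M ↔ ∏ i, v i = 1 := by
  rw [Fin.prod_univ_three]; rfl

/-- Permutation action on triples with trivial product. -/
def permute (M : Type*) [CommGroup M] : Equiv.Perm (Fin 3) →* MulAut (zeroSum M) where
  toFun σ :=
    { toFun := fun v => ⟨fun i => (v : Fin 3 → M) (σ⁻¹ i), by
        rw [zeroSum_iff, Equiv.prod_comp σ⁻¹ (v : Fin 3 → M), ← zeroSum_iff]; exact v.2⟩
      invFun := fun v => ⟨fun i => (v : Fin 3 → M) (σ i), by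
        rw [zeroSum_iff, Equiv.prod_comp σ (v : Fin 3 → M), ← zeroSum_iff]; exact v.2⟩
      left_inv := fun v => by apply Subtype.ext; funext i; simp
      right_inv := fun v => by apply Subtype.ext; funext i; simp
      map_mul' := fun v w => rfl }
  map_one' := by ext v i; simp
  map_mul' σ τ := by ext v i; simp [_root_.mul_inv_rev]

theorem three_case {F : Type*} [Field F] [Fintype F] (h3 : Fintype.card F = 3) (n : ℕ) :
    ∃ (H : Type) (_ : Group H) (_ : Fintype H), n < Fintype.card H ∧
      Set.range (orderOf : H → ℕ) = Set.range (orderOf : PGL2.PGL F → ℕ) := by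
  classical
  have hchar : ringChar F = 3 := by
    obtain ⟨m, hq, hcard⟩ := FiniteField.card F (ringChar F)
    rw [h3] at hcard
    have h2p : Nat.Prime (ringChar F ^ (m : ℕ)) := hcard ▸ Nat.prime_three
    rw [(Nat.Prime.pow_eq_iff h2p).mp rfl |>.2, pow_one] at hcard
    exact hcard.symm
  have hodd : ringChar F ≠ 2 := by omega
  let k := n + 1
  let M₀ := Multiplicative (Fin k → ZMod 2)
  have hM₀ : ∀ a : M₀, a * a = 1 := fun a => by
    apply Multiplicative.toAdd.injective
    funext i
    exact CharTwo.add_self_eq_zero _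
  let wit : M₀ → zeroSum M₀ := fun e => ⟨![e, 1, e], by
    show e * 1 * e = 1
    rw [mul_one, hM₀]⟩
  have wit_inj : Function.Injective wit := fun a b h => by
    have := congrFun (congrArg Subtype.val h) 0
    simpa [wit] using this
  let G₀ := Equiv.Perm (Fin 3)
  let φ : G₀ →* MulAut (zeroSum M₀) := permute M₀
  haveI : Finite (zeroSum M₀ ⋊[φ] G₀) := Finite.of_equiv _ SemidirectProduct.equivProd.symm
  have hexp : ∀ v : zeroSum M₀, v ^ 2 = 1 := fun v => by
    apply Subtype.ext; funext x; rw [pow_two]; exact hM₀ _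
  obtain ⟨H, hH, hfin, ⟨ε⟩⟩ := exists_type_copy (zeroSum M₀ ⋊[φ] G₀)
  refine ⟨H, hH, hfin, ?_, ?_⟩
  · rw [← Nat.card_eq_fintype_card, Nat.card_congr ε.toEquiv]
    exact card_big φ k n (Nat.lt_succ_self n) wit wit_inj
  rw [range_orderOf_congr ε, PGL2.range_orderOf hodd, hchar, h3]
  ext o
  constructor
  · rintro ⟨⟨v, σ⟩, rfl⟩
    by_cases hσ : σ ^ 2 = 1
    · refine Or.inr (Or.inr ((orderOf_dvd_mul φ σ v hexp).trans ?_))
      exact Nat.mul_dvd_mul (orderOf_dvd_of_pow_eq_one hσ) (dvd_refl 2)
    · left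
      have hfacts : ∀ τ : G₀, τ ^ 2 ≠ 1 → τ ^ 3 = 1 ∧
          ∀ x, τ⁻¹ x ≠ x ∧ (τ ^ 2)⁻¹ x ≠ x ∧ (τ ^ 2)⁻¹ x ≠ τ⁻¹ x := by decide
      obtain ⟨h1, h2⟩ := hfacts σ hσ
      haveI := Fact.mk Nat.prime_three
      have ho : orderOf σ = 3 := orderOf_eq_prime h1 (fun h => hσ (by rw [h, one_pow]))
      rw [orderOf_eq_of_norm_eq_one φ σ v ?_, ho]
      rw [twNorm, ho]
      apply Subtype.ext
      funext x
      simp only [Finset.prod_range_succ, Finset.prod_range_zero, one_mul, pow_zero, map_one,
        pow_one, Subgroup.coe_mul, Pi.mul_apply]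
      show (v : Fin 3 → M₀) x * (v : Fin 3 → M₀) (σ⁻¹ x) * (v : Fin 3 → M₀) ((σ ^ 2)⁻¹ x) = 1
      obtain ⟨n1, n2, n3⟩ := h2 x
      have hall : ∏ i, (v : Fin 3 → M₀) i = 1 := (zeroSum_iff _).mp v.2
      have huniv : (Finset.univ : Finset (Fin 3)) = {x, σ⁻¹ x, (σ ^ 2)⁻¹ x} :=
        (Finset.eq_univ_of_card _ (by
          rw [Finset.card_eq_three.mpr ⟨_, _, _, n1.symm, n2.symm, n3.symm, rfl⟩, Fintype.card_fin])).symm
      rw [huniv, Finset.prod_insert (by simp [n1.symm, n2.symm]), Finset.prod_pair n3.symm] at hall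
      rw [mul_assoc]; exact hall
  · have four : 4 ∈ Set.range (orderOf : zeroSum M₀ ⋊[φ] G₀ → ℕ) := by
      obtain ⟨e, he⟩ : ∃ e : M₀, e ≠ 1 := by
        refine ⟨Multiplicative.ofAdd (fun _ => 1), fun h => ?_⟩
        exact one_ne_zero (congrFun (congrArg Multiplicative.toAdd h) ⟨0, Nat.succ_pos n⟩)
      have ho : orderOf (Equiv.swap (0 : Fin 3) 1) = 2 :=
        orderOf_eq_prime (by decide) (by decide)
      refine ⟨⟨wit e, Equiv.swap (0 : Fin 3) 1⟩, ?_⟩
      rw [orderOf_eq_mul_of_norm_ne_one φ _ _ Nat.prime_two hexp ?_, ho]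
      intro h
      rw [twNorm, ho, Finset.prod_range_succ, Finset.prod_range_one, pow_zero, map_one,
        pow_one] at h
      have h0 := congrFun (congrArg Subtype.val h) 0
      apply he
      simpa [φ, permute, wit] using h0
    rintro (h | h | h)
    · refine mem_range_orderOf_of_dvd ⟨SemidirectProduct.inr (finRotate 3), ?_⟩ h
      rw [orderOf_injective _ SemidirectProduct.inr_injective]
      haveI := Fact.mk Nat.prime_three
      exact orderOf_eq_prime (by decide) (by decide)
    · exact mem_range_orderOf_of_dvd four (h.trans (by norm_num))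
    · exact mem_range_orderOf_of_dvd four h


/-- Multiplication by powers of two on the cyclic group of order five. -/
def mulTwo : Multiplicative (ZMod 8) →* MulAut (Multiplicative (ZMod 5)) where
  toFun j :=
    { toFun := fun a => Multiplicative.ofAdd (2 ^ (Multiplicative.toAdd j).val * Multiplicative.toAdd a)
      invFun := fun a =>
        Multiplicative.ofAdd (3 ^ (Multiplicative.toAdd j).val * Multiplicative.toAdd a)
      left_inv := by revert j; decide
      right_inv := by revert j; decide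
      map_mul' := by revert j; decide }
  map_one' := MulEquiv.ext (by decide)
  map_mul' := fun i j => MulEquiv.ext (by revert i j; decide)

/-- The group `5 : 8` with a central involution. -/
abbrev X40 : Type := Multiplicative (ZMod 5) ⋊[mulTwo] Multiplicative (ZMod 8)

instance fintypeX40 : Fintype X40 := Fintype.ofEquiv _ SemidirectProduct.equivProd.symm

/-- Weight function of a witness for cusp functions on `X40`. -/
def weight (x : X40) : ℕ :=
  match (Multiplicative.toAdd x.left).val, (Multiplicative.toAdd x.right).val with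
  | 0, 0 => 1
  | 0, 4 => 2
  | 1, 0 => 2
  | 1, 4 => 1
  | _, _ => 0

theorem weight_two : ∀ x u : X40, u ^ 2 = 1 → u ≠ 1 →
    (∑ i ∈ Finset.range 2, weight (x * u ^ i)) % 3 = 0 := by decide

theorem weight_five : ∀ x u : X40, u ^ 5 = 1 → u ≠ 1 →
    (∑ i ∈ Finset.range 5, weight (x * u ^ i)) % 3 = 0 := by decide

theorem X40_orders : ∀ g : X40, g ^ 8 = 1 ∨ g ^ 10 = 1 := by decide

/-- Right translation on functions trivial on cosets of subgroups of order 2 and 5. -/
def shift25 (M : Type*) [CommGroup M] :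
    X40 →* MulAut ↥(cusp M X40 2 ⊓ cusp M X40 5) where
  toFun g :=
    { toFun := fun f => ⟨fun x => (f : X40 → M) (x * g), shift_mem f.2.1 g, shift_mem f.2.2 g⟩
      invFun := fun f =>
        ⟨fun x => (f : X40 → M) (x * g⁻¹), shift_mem f.2.1 g⁻¹, shift_mem f.2.2 g⁻¹⟩
      left_inv := fun f => by apply Subtype.ext; funext x; simp
      right_inv := fun f => by apply Subtype.ext; funext x; simp
      map_mul' := fun f₁ f₂ => rfl }
  map_one' := by ext f x; simp
  map_mul' g h := by ext f x; simp [mul_assoc]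

theorem nine_case {F : Type*} [Field F] [Fintype F] (h9 : Fintype.card F = 9) (n : ℕ) :
    ∃ (H : Type) (_ : Group H) (_ : Fintype H), n < Fintype.card H ∧
      Set.range (orderOf : H → ℕ) = Set.range (orderOf : PGL2.PGL F → ℕ) := by
  classical
  have hchar : ringChar F = 3 := by
    obtain ⟨m, hq, hcard⟩ := FiniteField.card F (ringChar F)
    rw [h9] at hcard
    have : ringChar F ∣ 3 ^ 2 := by
      rw [show (3 : ℕ) ^ 2 = 9 from rfl, hcard]; exact dvd_pow_self _ m.2.ne'
    exact (Nat.prime_dvd_prime_iff_eq hq Nat.prime_three).mp (hq.dvd_of_dvd_pow this)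
  have hodd : ringChar F ≠ 2 := by omega
  let k := n + 1
  let M₀ := Multiplicative (Fin k → ZMod 3)
  have hM₀ : ∀ a : M₀, a ^ 3 = 1 := fun a => by
    apply Multiplicative.toAdd.injective
    funext i
    rw [toAdd_pow, Pi.smul_apply, nsmul_eq_mul]
    show (3 : ZMod 3) * _ = 0
    rw [show (3 : ZMod 3) = 0 by decide, zero_mul]
  let N := ↥(cusp M₀ X40 2 ⊓ cusp M₀ X40 5)
  have mem : ∀ (e : M₀) (r : ℕ), (∀ x u : X40, u ^ r = 1 → u ≠ 1 →
      (∑ i ∈ Finset.range r, weight (x * u ^ i)) % 3 = 0) →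
      (fun x => e ^ weight x) ∈ cusp M₀ X40 r := by
    intro e r hr x u h1 h2
    rw [Finset.prod_pow_eq_pow_sum, ← Nat.div_add_mod (∑ i ∈ Finset.range r, weight (x * u ^ i)) 3,
      hr x u h1 h2, Nat.add_zero, pow_mul, hM₀, one_pow]
  let wit : M₀ → N := fun e => ⟨fun x => e ^ weight x, mem e 2 weight_two, mem e 5 weight_five⟩
  have wit_inj : Function.Injective wit := fun a b h => by
    have h2 := congrFun (congrArg Subtype.val h) (1 : X40)
    have hw : weight 1 = 1 := by decide
    simpa [wit, hw] using h2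
  let φ : X40 →* MulAut N := shift25 M₀
  haveI : Finite (N ⋊[φ] X40) := Finite.of_equiv _ SemidirectProduct.equivProd.symm
  have hexp : ∀ f : N, f ^ 3 = 1 := fun f => by
    apply Subtype.ext; funext x; exact hM₀ _
  have hnorm : ∀ (g : X40) (f : N), g ≠ 1 → twNorm φ g f = 1 := by
    intro g f hg
    have hdvd : orderOf g ∣ 8 ∨ orderOf g ∣ 10 :=
      (X40_orders g).imp orderOf_dvd_of_pow_eq_one orderOf_dvd_of_pow_eq_one
    obtain ⟨r, hr, hr'⟩ : ∃ r, (r = 2 ∨ r = 5) ∧ r ∣ orderOf g := by
      have h1 : orderOf g ≠ 1 := fun h => hg (orderOf_eq_one_iff.mp h)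
      obtain ⟨r, hrp, hrd⟩ := Nat.exists_prime_and_dvd h1
      refine ⟨r, ?_, hrd⟩
      rcases hdvd with h | h
      · left
        exact (Nat.prime_dvd_prime_iff_eq hrp Nat.prime_two).mp
          (hrp.dvd_of_dvd_pow (n := 3) (hrd.trans h))
      · rcases hrp.dvd_mul.mp (show r ∣ 2 * 5 from hrd.trans h) with h | h
        · exact Or.inl ((Nat.prime_dvd_prime_iff_eq hrp Nat.prime_two).mp h)
        · exact Or.inr ((Nat.prime_dvd_prime_iff_eq hrp (by norm_num)).mp h)
    obtain ⟨d, hd⟩ := hr'
    have hdm : orderOf g = d * r := by rw [hd, mul_comm]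
    apply Subtype.ext
    funext x
    rw [twNorm, Subgroup.val_finset_prod, Finset.prod_apply]
    show ∏ i ∈ Finset.range (orderOf g), (f : X40 → M₀) (x * g ^ i) = 1
    rw [hdm, prod_range_mul]
    refine Finset.prod_eq_one fun j _ => ?_
    have h1 : (g ^ d) ^ r = 1 := by rw [← pow_mul, ← hdm, pow_orderOf_eq_one]
    have h2 : g ^ d ≠ 1 := by
      intro h0
      have hpos := orderOf_pos g
      have hd0 : 0 < d := by
        rcases Nat.eq_zero_or_pos d with h0' | h0'
        · rw [h0', zero_mul] at hdm; omega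
        · exact h0'
      have := Nat.le_of_dvd hd0 (orderOf_dvd_of_pow_eq_one h0)
      rw [hdm] at this
      rcases hr with rfl | rfl <;> omega
    have key : ∏ l ∈ Finset.range r, (f : X40 → M₀) (x * g ^ j * (g ^ d) ^ l) = 1 := by
      rcases hr with rfl | rfl
      · exact f.2.1 _ _ h1 h2
      · exact f.2.2 _ _ h1 h2
    rw [← key]
    refine Finset.prod_congr rfl fun l _ => ?_
    rw [mul_assoc, ← pow_mul, ← pow_add]
  obtain ⟨H, hH, hfin, ⟨ε⟩⟩ := exists_type_copy (N ⋊[φ] X40)
  refine ⟨H, hH, hfin, ?_, ?_⟩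
  · rw [← Nat.card_eq_fintype_card, Nat.card_congr ε.toEquiv, SemidirectProduct.card]
    have h1 : 3 ^ k ≤ Nat.card N := by
      have := Nat.card_le_card_of_injective wit wit_inj
      simpa [M₀] using this
    have h3 : k < 3 ^ k := Nat.lt_pow_self (by omega)
    have h4 : Nat.card N ≤ Nat.card N * Nat.card X40 := Nat.le_mul_of_pos_right _ Nat.card_pos
    omega
  rw [range_orderOf_congr ε, PGL2.range_orderOf hodd, hchar, h9]
  ext o
  constructor
  · rintro ⟨⟨f, g⟩, rfl⟩
    by_cases hg : g = 1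
    · subst hg
      left
      simpa using orderOf_dvd_mul φ 1 f hexp
    · rw [orderOf_eq_of_norm_eq_one φ g f (hnorm g f hg)]
      rcases X40_orders g with h | h
      · exact Or.inr (Or.inl (orderOf_dvd_of_pow_eq_one h))
      · exact Or.inr (Or.inr (orderOf_dvd_of_pow_eq_one h))
  · rintro (h | h | h)
    · refine mem_range_orderOf_of_dvd
        ⟨SemidirectProduct.inl (wit (Multiplicative.ofAdd (fun _ => 1))), ?_⟩ h
      rw [orderOf_injective _ SemidirectProduct.inl_injective]
      haveI := Fact.mk Nat.prime_three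
      refine orderOf_eq_prime (hexp _) fun h0 => ?_
      have h1 : wit (Multiplicative.ofAdd (fun _ => 1)) = wit 1 := h0.trans (by
        apply Subtype.ext; funext x; simp [wit])
      exact one_ne_zero (congrFun (congrArg Multiplicative.toAdd (wit_inj h1)) ⟨0, Nat.succ_pos n⟩)
    · refine mem_range_orderOf_of_dvd ⟨SemidirectProduct.inr
        (⟨1, Multiplicative.ofAdd 1⟩ : X40), ?_⟩ h
      rw [orderOf_injective _ SemidirectProduct.inr_injective]
      haveI := Fact.mk Nat.prime_two
      exact orderOf_eq_prime_pow (p := 2) (n := 2) (by decide) (by decide)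
    · refine mem_range_orderOf_of_dvd ⟨SemidirectProduct.inr
        (⟨Multiplicative.ofAdd 1, Multiplicative.ofAdd 4⟩ : X40), ?_⟩ h
      rw [orderOf_injective _ SemidirectProduct.inr_injective, orderOf_eq_iff (by norm_num)]
      decide

theorem result {F : Type*} [Field F] [Fintype F] (hF : (Fintype.card F).Prime ∨ Fintype.card F = 9) (N : ℕ) :
    ∃ (H : Type) (_ : Group H) (_ : Fintype H), N < Fintype.card H ∧
      Set.range (orderOf : H → ℕ) = Set.range (orderOf : Matrix.GeneralLinearGroup (Fin 2) F ⧸ Subgroup.center (Matrix.GeneralLinearGroup (Fin 2) F) → ℕ) := by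
  rcases hF with hp | h9
  · rcases (show Fintype.card F = 2 ∨ Fintype.card F = 3 ∨ Fintype.card F = 4 ∨ 5 ≤ Fintype.card F by
      have := hp.two_le; omega) with h | h | h | h
    · exact two_case h N
    · exact three_case h N
    · rw [h] at hp; norm_num at hp
    · exact big_case hp h N
  · exact nine_case h9 N

end Cfsg.Agent.S3452
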