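import Cfsg.Statements.S3466
import Cfsg.Agent.Lib.Isospectral.PSp4.Elements
import Cfsg.Agent.Lib.Isospectral.PSp4.Inner
import Cfsg.Agent.Lib.Isospectral.PSp4.Outer
import Cfsg.Agent.Lib.Isospectral.PSp4.Three

set_option autoImplicit false
open Cfsg

namespace Cfsg.Agent.S3466

/-- Let F be a finite field with q ≥ 3 elements such that q is not of the form 3^(2t+1) with t ≥ 1. Then PSp(4,F) is not determined by its set of element orders, not even up to finitely many groups: for every bound N there is a finite group of order greater than N with exactly the same set of element orders as PSp(4,F). -/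
theorem result {F : Type*} [Field F] [Fintype F] (h3 : 3 ≤ Fintype.card F) (hq : ∀ t : ℕ, 1 ≤ t → Fintype.card F ≠ 3 ^ (2 * t + 1)) (N : ℕ) :
    ∃ (H : Type) (_ : Group H) (_ : Fintype H), N < Fintype.card H ∧ Set.range (orderOf : H → ℕ) = Set.range (orderOf : Cfsg.PSp 2 F → ℕ) := by
  classical
  obtain ⟨p, hpF⟩ := CharP.exists F
  haveI hp : Fact p.Prime := ⟨CharP.char_is_prime F p⟩
  obtain ⟨f, -, hcard⟩ := FiniteField.card F p
  set q := Fintype.card F with hqdef
  have hf : 1 ≤ (f : ℕ) := f.pos
  have hpF' := PSp4Spec.range_psp4 (F := F) p hcard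
  have hk : 0 < N + 1 := N.succ_pos
  have hbig : N < 2 ^ (N + 1) := by have := Nat.lt_two_pow_self (n := N + 1); omega
  by_cases hq3 : q = 3
  · haveI : Fact (Nat.Prime 3) := ⟨Nat.prime_three⟩
    let K := GaloisField 3 4
    have hK : Nat.card K = 81 := by rw [GaloisField.card 3 4 (by norm_num)]; norm_num
    haveI := PSp4Spec.finite_pow (K := K) (k := N + 1)
    letI : Fintype (PSp4Spec.PowGrp K (N + 1)) := Fintype.ofFinite _
    refine ⟨PSp4Spec.PowGrp K (N + 1), inferInstance, inferInstance, ?_, ?_⟩
    · rw [← Nat.card_eq_fintype_card]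
      exact hbig.trans_le PSp4Spec.card_pow_big
    · exact (PSp4Spec.range_pow hK hk).trans (LBSpecP.range_psp hq3).symm
  let E := FiniteField.Extension (ZMod p) p (2 * f)
  haveI : CharP E p := charP_of_injective_algebraMap (algebraMap (ZMod p) E).injective p
  letI : Fintype E := Fintype.ofFinite E
  have hE : Fintype.card E = q ^ 2 := by
    rw [← Nat.card_eq_fintype_card, FiniteField.natCard_extension, Nat.card_zmod, hcard, ← pow_mul, mul_comm]
  have main : ∀ {ι : Type} [Fintype ι] [DecidableEq ι] [Nonempty ι] (G : Subgroup (Matrix ι ι E)ˣ),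
      Set.range (orderOf : PSp4Spec.ModExt G (N + 1) → ℕ) = {d | PSp4Spec.IsOrd q p d} →
      ∃ (H : Type) (_ : Group H) (_ : Fintype H), N < Fintype.card H ∧
        Set.range (orderOf : H → ℕ) = Set.range (orderOf : Cfsg.PSp 2 F → ℕ) := by
    intro ι _ _ _ G hG
    haveI : Finite (PSp4Spec.ModExt G (N + 1)) := Finite.of_equiv _ SemidirectProduct.equivProd.symm
    letI : Fintype (PSp4Spec.ModExt G (N + 1)) := Fintype.ofFinite _
    refine ⟨PSp4Spec.ModExt G (N + 1), inferInstance, inferInstance, ?_, hG.trans hpF'.symm⟩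
    rw [← Nat.card_eq_fintype_card]
    exact hbig.trans_le (PSp4Spec.card_big _)
  rcases (show p = 2 ∨ p = 3 ∨ 5 ≤ p by
      have := hp.out.two_le
      rcases eq_or_ne p 4 with rfl | h
      · exact absurd hp.out (by norm_num)
      · omega) with h2 | h3' | h5
  · exact main _ (PSp4Spec.range_two (E := E) hcard hf hE h2 (N + 1) hk)
  · obtain ⟨u, hu⟩ : ∃ u, (f : ℕ) = 2 * u := by
      rcases Nat.even_or_odd' (f : ℕ) with ⟨t, ht | ht⟩
      · exact ⟨t, ht⟩
      · exfalso
        rcases Nat.eq_zero_or_pos t with rfl | htpos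
        · exact hq3 (by rw [hcard, ht, h3']; norm_num)
        · exact hq t htpos (by rw [hcard, ht, h3'])
    have hqu : q = 9 ^ u := by rw [hcard, hu, h3', pow_mul]; norm_num
    exact main _ (PSp4Spec.range_four (E := E) hcard hE (u := u) (by omega) h3' hqu (N + 1) hk)
  · exact main _ (PSp4Spec.range_five (E := E) (f : ℕ) hcard hf hE h5 (N + 1) hk)

end Cfsg.Agent.S3466
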