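import Cfsg.Statements.S3486
import Cfsg.Agent.Lib.J2.Orders
import Cfsg.Agent.Lib.J2.Heart

set_option autoImplicit false
open Cfsg

namespace Cfsg.Agent.S3486

/-- The Hall–Janko sporadic group J₂ is not determined by its set of element orders, not even up to finitely many groups: for every bound N there is a finite group of order greater than N with exactly the same set of element orders as J₂. -/
theorem result (N : ℕ) : ∃ (H : Type) (_ : Group H) (_ : Fintype H), N < Fintype.card H ∧ Set.range (orderOf : H → ℕ) = Set.range (orderOf : Cfsg.Spor.J2 → ℕ) := by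
  haveI : Finite (J2.Heart.H (N + 1)) := Finite.of_equiv _ SemidirectProduct.equivProd.symm
  refine ⟨J2.Heart.H (N + 1), inferInstance, Fintype.ofFinite _, ?_, ?_⟩
  · rw [Fintype.card_eq_nat_card, Nat.card_congr SemidirectProduct.equivProd, Nat.card_prod,
      Nat.card_congr Multiplicative.toAdd, Nat.card_fun, Nat.card_fin]
    haveI : Nontrivial J2.Heart.W :=
      ⟨⟨J2.Heart.w1, 0, fun h => by
        have := congrFun (congrArg Subtype.val h) 5
        exact absurd this (by decide)⟩⟩
    have h2 : 2 ≤ Nat.card J2.Heart.W := Finite.one_lt_card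
    have hA : 0 < Nat.card (alternatingGroup (Fin 8)) := Nat.card_pos
    calc N < 2 ^ (N + 1) := lt_of_lt_of_le N.lt_two_pow_self (Nat.pow_le_pow_right (by norm_num) (by omega))
      _ ≤ Nat.card J2.Heart.W ^ (N + 1) := Nat.pow_le_pow_left h2 _
      _ ≤ _ := Nat.le_mul_of_pos_right _ hA
  · rw [J2.Heart.range_orderOf N.succ_pos, J2.range_orderOf_J2]
    rfl

end Cfsg.Agent.S3486
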