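import Cfsg.Agent.Lib.Spectrum.Semidirect

set_option autoImplicit false

namespace Cfsg.Agent.S3488

open Matrix Polynomial Spectrum

variable {F : Type*} [Field F]

/-- Matrices with last row `(0, 0, 1)`. -/
def affine : Subgroup (Matrix.SpecialLinearGroup (Fin 3) F) where
  carrier := {M | (M : Matrix (Fin 3) (Fin 3) F) 2 0 = 0 ∧ (M : Matrix (Fin 3) (Fin 3) F) 2 1 = 0 ∧ (M : Matrix (Fin 3) (Fin 3) F) 2 2 = 1}
  one_mem' := by simp
  mul_mem' := by
    rintro M N ⟨a0, a1, a2⟩ ⟨b0, b1, b2⟩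
    simp [Matrix.mul_apply, Fin.sum_univ_three, a0, a1, a2, b0, b1, b2]
  inv_mem' := by
    rintro M ⟨a0, a1, a2⟩
    have hdet := M.2
    rw [Matrix.det_fin_three, a0, a1, a2] at hdet
    simp only [Set.mem_ofPred_eq, Matrix.SpecialLinearGroup.coe_inv, Matrix.adjugate_fin_three]
    simp only [a0, a1, a2]
    refine ⟨by simp, by simp, ?_⟩
    simp
    linear_combination hdet

theorem closure_eq : Subgroup.closure {M : Matrix.SpecialLinearGroup (Fin 3) F |
    (M : Matrix (Fin 3) (Fin 3) F) 2 0 = 0 ∧ (M : Matrix (Fin 3) (Fin 3) F) 2 1 = 0 ∧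
      (M : Matrix (Fin 3) (Fin 3) F) 2 2 = 1} = affine :=
  Subgroup.closure_eq affine

theorem pow_eq_one [Fintype F] (hF : Fintype.card F = 4) {M : Matrix.SpecialLinearGroup (Fin 3) F}
    (hM : M ∈ affine) : M ^ 4 = 1 ∨ M ^ 3 = 1 ∨ M ^ 5 = 1 := by
  haveI : CharP F 2 := charP_of_card_eq_prime_pow (f := 2) (by simpa using hF)
  obtain ⟨a0, a1, a2⟩ := hM
  set A : Matrix (Fin 3) (Fin 3) F := (M : Matrix (Fin 3) (Fin 3) F) with hA
  have hdet := M.2
  rw [← hA, Matrix.det_fin_three, a0, a1, a2] at hdet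
  set t := A 0 0 + A 1 1 with ht
  have h2 : (2 : F) = 0 := CharTwo.two_eq_zero
  have hQ : ∀ i, ∀ j : Fin 3, j ≠ 2 → (A * A + t • A + 1) i j = 0 := by
    intro i j hj
    fin_cases i <;> fin_cases j <;> simp [Matrix.mul_apply, Fin.sum_univ_three, a0, a1] at hj ⊢
    · linear_combination (-1 : F) * hdet + (A 0 0 * A 0 0 + A 0 0 * A 1 1) * h2
    · linear_combination (A 0 0 * A 0 1 + A 0 1 * A 1 1) * h2
    · linear_combination (A 1 0 * A 0 0 + A 1 1 * A 1 0) * h2
    · linear_combination (-1 : F) * hdet + (A 1 1 * A 1 1 + A 0 0 * A 1 1) * h2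
  have hzero : (A * A + t • A + 1) * (A + 1) = 0 := by
    ext i j
    rw [Matrix.mul_apply, Fin.sum_univ_three, hQ i 0 (by decide), hQ i 1 (by decide)]
    fin_cases j <;> simp [a0, a1, a2, CharTwo.add_self_eq_zero]
  have haev : aeval A ((X * X + C t * X + 1) * (X + 1)) = 0 := by
    simpa [← Algebra.smul_def] using hzero
  have key : ∀ n : ℕ, (X * X + C t * X + 1) * (X + 1) ∣ (X ^ n - 1 : F[X]) → M ^ n = 1 := by
    rintro n ⟨r, hr⟩
    apply Subtype.ext
    rw [Matrix.SpecialLinearGroup.coe_pow, Matrix.SpecialLinearGroup.coe_one, ← hA, ← sub_eq_zero]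
    simpa [haev] using congrArg (aeval A) hr
  clear_value t
  have hC2 : (2 : F[X]) = 0 := by rw [← map_ofNat (C : F →+* F[X]) 2, h2, map_zero]
  have h4 : t ^ 4 = t := by have := FiniteField.pow_card t; rwa [hF] at this
  by_cases t0 : t = 0
  · refine Or.inl (key 4 ⟨X + 1, ?_⟩)
    rw [t0, map_zero]
    linear_combination (-(X ^ 3 + X ^ 2 + X + 1) : F[X]) * hC2
  by_cases t1 : t = 1
  · refine Or.inr (Or.inl (key 3 ⟨1, ?_⟩))
    rw [t1, map_one]
    linear_combination (-(X ^ 2 + X + 1) : F[X]) * hC2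
  have htt : t * t + t + 1 = 0 := by
    have h : t * (t - 1) * (t * t + t + 1) = 0 := by linear_combination h4
    rcases mul_eq_zero.mp h with h | h
    · rcases mul_eq_zero.mp h with h | h
      · exact absurd h t0
      · exact absurd (sub_eq_zero.mp h) t1
    · exact h
  refine Or.inr (Or.inr (key 5 ⟨X * X + C (t + 1) * X + 1, ?_⟩))
  have hC : C t * C t + C t + 1 = (0 : F[X]) := by
    rw [← map_mul, ← map_add, ← map_one C, ← map_add, htt, map_zero]
  rw [show C (t + 1) = C t + 1 by rw [map_add, map_one]]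
  linear_combination (-(X + 1) * X ^ 2) * hC +
    (-(1 + X + X ^ 2 + C t * X + C t * X ^ 2 + C t * X ^ 3 + X ^ 3 + C t * X ^ 4 + X ^ 4)) * hC2

/-- The divisors of three, four and five. -/
def omegaSet : Set ℕ := {o | o ∣ 4 ∨ o ∣ 3 ∨ o ∣ 5}

theorem orders_A6 : Set.range (orderOf : alternatingGroup (Fin 6) → ℕ) = omegaSet := by
  have hall : ∀ σ : Equiv.Perm (Fin 6), Equiv.Perm.sign σ = 1 →
      σ ^ 4 = 1 ∨ σ ^ 3 = 1 ∨ σ ^ 5 = 1 := by decide +kernel
  ext o
  constructor
  · rintro ⟨⟨σ, hσ⟩, rfl⟩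
    rw [Subgroup.orderOf_mk]
    exact (hall σ (Equiv.Perm.mem_alternatingGroup.mp hσ)).imp orderOf_dvd_of_pow_eq_one
      (Or.imp orderOf_dvd_of_pow_eq_one orderOf_dvd_of_pow_eq_one)
  · have mk : ∀ (n : ℕ) (σ : Equiv.Perm (Fin 6)), 0 < n → Equiv.Perm.sign σ = 1 →
        σ ^ n = 1 → (∀ m, m < n → 0 < m → σ ^ m ≠ 1) → ∀ d, d ∣ n →
        d ∈ Set.range (orderOf : alternatingGroup (Fin 6) → ℕ) := fun n σ hn hm h1 h2 d hd =>
      mem_range_orderOf_of_dvd ⟨⟨σ, Equiv.Perm.mem_alternatingGroup.mpr hm⟩, by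
        rw [Subgroup.orderOf_mk, orderOf_eq_iff hn]; exact ⟨h1, h2⟩⟩ hd
    rintro (h | h | h)
    · exact mk 4 (List.formPerm [0, 1, 2, 3] * Equiv.swap 4 5) (by omega) (by decide +kernel)
        (by decide +kernel) (by decide +kernel) _ h
    · exact mk 3 (List.formPerm [0, 1, 2]) (by omega) (by decide +kernel)
        (by decide +kernel) (by decide +kernel) _ h
    · exact mk 5 (List.formPerm [0, 1, 2, 3, 4]) (by omega) (by decide +kernel)
        (by decide +kernel) (by decide +kernel) _ h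

theorem result {F : Type*} [Field F] [Fintype F] (hF : Fintype.card F = 4) :
    Set.range (orderOf : Subgroup.closure {M : Matrix.SpecialLinearGroup (Fin 3) F |
        (M : Matrix (Fin 3) (Fin 3) F) 2 0 = 0 ∧ (M : Matrix (Fin 3) (Fin 3) F) 2 1 = 0 ∧ (M : Matrix (Fin 3) (Fin 3) F) 2 2 = 1} → ℕ) =
      Set.range (orderOf : alternatingGroup (Fin 6) → ℕ) := by
  classical
  rw [orders_A6]
  ext o
  constructor
  · rintro ⟨⟨M, hM⟩, rfl⟩
    rw [Subgroup.orderOf_mk]
    rw [closure_eq] at hM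
    exact (pow_eq_one hF hM).imp orderOf_dvd_of_pow_eq_one
      (Or.imp orderOf_dvd_of_pow_eq_one orderOf_dvd_of_pow_eq_one)
  · haveI : CharP F 2 := charP_of_card_eq_prime_pow (f := 2) (by simpa using hF)
    have mk : ∀ (M : Matrix.SpecialLinearGroup (Fin 3) F) (n : ℕ), M ∈ affine → orderOf M = n →
        ∀ d, d ∣ n → d ∈ Set.range (orderOf : Subgroup.closure {M : Matrix.SpecialLinearGroup (Fin 3) F |
          (M : Matrix (Fin 3) (Fin 3) F) 2 0 = 0 ∧ (M : Matrix (Fin 3) (Fin 3) F) 2 1 = 0 ∧ (M : Matrix (Fin 3) (Fin 3) F) 2 2 = 1} → ℕ) :=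
      fun M n hM ho d hd => mem_range_orderOf_of_dvd
        ⟨⟨M, (closure_eq (F := F)).symm ▸ hM⟩, by rw [Subgroup.orderOf_mk, ho]⟩ hd
    let ev : ∀ M : Matrix (Fin 3) (Fin 3) F, M.det = 1 → Matrix.SpecialLinearGroup (Fin 3) F :=
      fun M h => ⟨M, h⟩
    have hev : ∀ (M : Matrix (Fin 3) (Fin 3) F) (h : M.det = 1) (n : ℕ), ev M h ^ n = 1 → M ^ n = 1 :=
      fun M h n hn => (Matrix.SpecialLinearGroup.coe_pow (ev M h) n).symm.trans
        (congrArg Subtype.val hn)
    rintro (h | h | h)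
    · refine mk (ev !![1, 1, 0; 0, 1, 1; 0, 0, 1] (by simp [Matrix.det_fin_three])) 4
        (by refine ⟨?_, ?_, ?_⟩ <;> simp [ev]) ?_ _ h
      haveI := Fact.mk Nat.prime_two
      refine orderOf_eq_prime_pow (p := 2) (n := 1) ?_ ?_
      · intro h0
        have := congrFun₂ (hev _ _ _ h0) 0 2
        simp [ev, pow_two, Matrix.mul_apply, Fin.sum_univ_three] at this
      · apply Subtype.ext
        rw [Matrix.SpecialLinearGroup.coe_pow, Matrix.SpecialLinearGroup.coe_one]
        ext i j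
        fin_cases i <;> fin_cases j <;>
          simp [ev, pow_succ, Matrix.mul_apply, Fin.sum_univ_three, CharTwo.add_self_eq_zero]
    · refine mk (ev !![0, 1, 0; 1, 1, 0; 0, 0, 1] (by simp [Matrix.det_fin_three, CharTwo.neg_eq])) 3
        (by refine ⟨?_, ?_, ?_⟩ <;> simp [ev]) ?_ _ h
      haveI := Fact.mk Nat.prime_three
      refine orderOf_eq_prime ?_ ?_
      · apply Subtype.ext
        rw [Matrix.SpecialLinearGroup.coe_pow, Matrix.SpecialLinearGroup.coe_one]
        ext i j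
        fin_cases i <;> fin_cases j <;>
          simp [ev, pow_succ, Matrix.mul_apply, Fin.sum_univ_three, CharTwo.add_self_eq_zero]
      · intro h0
        have := congrFun₂ (congrArg Subtype.val h0) 0 0
        simp [ev] at this
    · obtain ⟨t, -, ht⟩ := Finset.exists_mem_notMem_of_card_lt_card (s := ({0, 1} : Finset F))
        (t := Finset.univ) (by rw [Finset.card_univ, hF]; exact (Finset.card_le_two).trans_lt (by omega))
      have hm : ev !![0, 1, 0; 1, t, 0; 0, 0, 1] (by simp [Matrix.det_fin_three, CharTwo.neg_eq]) ∈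
          affine := by refine ⟨?_, ?_, ?_⟩ <;> simp [ev]
      refine mk _ 5 hm ?_ _ h
      simp only [Finset.mem_insert, Finset.mem_singleton, not_or] at ht
      rcases pow_eq_one hF hm with hp | hp | hp
      · exfalso
        apply ht.1
        have := congrFun₂ (hev _ _ _ hp) 0 0
        simp [ev, pow_succ, Matrix.mul_apply, Fin.sum_univ_three] at this
        exact this
      · exfalso
        apply ht.2
        have := congrFun₂ (hev _ _ _ hp) 0 0
        simp [ev, pow_succ, Matrix.mul_apply, Fin.sum_univ_three] at this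
        exact this
      · haveI : Fact (Nat.Prime 5) := ⟨by norm_num⟩
        refine orderOf_eq_prime hp ?_
        intro h0
        have := congrFun₂ (congrArg Subtype.val h0) 0 0
        simp [ev] at this

end Cfsg.Agent.S3488
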