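import Cfsg.Agent.Lib.Spectrum.Cusp

set_option autoImplicit false

namespace Cfsg.Agent.S3489

open Matrix Spectrum SemidirectProduct

/-- Encoding of sixteen base seven digits. -/
def enc (d : ℕ → ℕ) : ℕ → ℕ
  | 0 => 0
  | n + 1 => d 0 + 7 * enc (fun t => d (t + 1)) n

/-- Base seven digit. -/
def dig (a t : ℕ) : ℕ := a / 7 ^ t % 7

theorem dig_enc : ∀ (n : ℕ) (d : ℕ → ℕ), (∀ t, d t < 7) → ∀ t, t < n → dig (enc d n) t = d t := by
  intro n
  induction n with
  | zero => intro _ _ t ht; omega
  | succ n ih =>
    intro d hd t ht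
    cases t with
    | zero =>
      have := hd 0
      simp only [dig, enc, pow_zero, Nat.div_one]
      omega
    | succ t =>
      have := hd 0
      have h1 : (d 0 + 7 * enc (fun t => d (t + 1)) n) / 7 = enc (fun t => d (t + 1)) n := by omega
      have h2 := ih (fun t => d (t + 1)) (fun t => hd _) t (by omega)
      simp only [dig] at h2 ⊢
      rw [enc, pow_succ', ← Nat.div_div_eq_div_mul, h1, h2]

/-- Entry of an encoded matrix. -/
def ent (a i j : ℕ) : ℕ := dig a (4 * i + j)

/-- Product of encoded matrices. -/
def mulN (a b : ℕ) : ℕ :=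
  enc (fun t => (ent a (t / 4) 0 * ent b 0 (t % 4) + ent a (t / 4) 1 * ent b 1 (t % 4) +
    ent a (t / 4) 2 * ent b 2 (t % 4) + ent a (t / 4) 3 * ent b 3 (t % 4)) % 7) 16

/-- Sum of encoded matrices. -/
def addN (a b : ℕ) : ℕ := enc (fun t => (dig a t + dig b t) % 7) 16

/-- The matrix encoded by a number. -/
def mat (a : ℕ) : Matrix (Fin 4) (Fin 4) (ZMod 7) := fun i j => (ent a i j : ZMod 7)

/-- The digit list of an encoded matrix. -/
def digs (a : ℕ) : List ℕ := (List.range 16).map (dig a)

theorem mat_mulN (a b : ℕ) : mat (mulN a b) = mat a * mat b := by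
  ext i j
  rw [Matrix.mul_apply, Fin.sum_univ_four]
  simp only [mat, mulN]
  conv_lhs => rw [ent, dig_enc 16 _ (fun t => Nat.mod_lt _ (by norm_num)) _ (by omega)]
  rw [show (4 * (i : ℕ) + j) / 4 = i by omega, show (4 * (i : ℕ) + j) % 4 = j by omega,
    ZMod.natCast_mod]
  simp

theorem mat_addN (a b : ℕ) : mat (addN a b) = mat a + mat b := by
  ext i j
  simp only [mat, addN, Matrix.add_apply, ent]
  rw [dig_enc 16 _ (fun t => Nat.mod_lt _ (by norm_num)) _ (by omega), ZMod.natCast_mod,
    Nat.cast_add]

theorem mat_eq_iff (a b : ℕ) : mat a = mat b ↔ digs a = digs b := by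
  constructor
  · intro h
    refine List.map_congr_left fun t ht => ?_
    rw [List.mem_range] at ht
    have h2 := congrFun₂ h ⟨t / 4, by omega⟩ ⟨t % 4, by omega⟩
    simp only [mat, ent] at h2
    rw [show 4 * (t / 4) + t % 4 = t by omega, ZMod.natCast_eq_natCast_iff'] at h2
    simp only [dig] at h2 ⊢
    rwa [Nat.mod_mod, Nat.mod_mod] at h2
  · intro h
    ext i j
    have h2 : dig a (4 * i + j) = dig b (4 * i + j) :=
      List.map_inj_left.mp h _ (List.mem_range.mpr (by omega))
    simp only [mat, ent, h2]

/-- Code of the identity matrix. -/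
abbrev oneN : ℕ := 4747844002000

/-- Code of minus the identity matrix. -/
abbrev negN : ℕ := 28487064012000

theorem mat_one : mat oneN = 1 := by decide +kernel

theorem mat_neg : mat negN = -1 := by decide +kernel

/-- Powers of encoded matrices. -/
def powN (a : ℕ) : ℕ → ℕ
  | 0 => oneN
  | n + 1 => mulN (powN a n) a

theorem mat_powN (a : ℕ) : ∀ n, mat (powN a n) = mat a ^ n := by
  intro n
  induction n with
  | zero => rw [powN, mat_one, pow_zero]
  | succ n ih => rw [powN, mat_mulN, ih, pow_succ]

/-- Code of the generator of order eight. -/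
abbrev gN : ℕ := 31163122907258

/-- Code of the generator of order ten. -/
abbrev hN : ℕ := 10421250462310

/-- The elements of `2.S5`, the inverse of `c - 1`, and the table of left multiplication. -/
def table : List (ℕ × ℕ × ℕ × ℕ) := [
  (4747844002000, 0, 1, 2),
  (31163122907258, 12398732477718, 3, 4),
  (10421250462310, 31732050990766, 5, 6),
  (5950294176434, 30709626593534, 7, 8),
  (2511468165163, 8952889071213, 9, 10),
  (14825157997624, 25828737816928, 11, 12),
  (9509774585067, 13705584798434, 13, 14),
  (10995508916444, 18238295398195, 15, 16),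
  (1615610536518, 22111866528908, 17, 18),
  (3755043476456, 21657012202800, 19, 20),
  (11341396810484, 28256655361495, 21, 22),
  (23850200362934, 221677642388, 23, 24),
  (13271522653500, 25338923266757, 25, 26),
  (32343638439304, 17190249898469, 27, 28),
  (29867483360461, 29398828852330, 29, 30),
  (28487064012000, 14243532006000, 31, 32),
  (10536839717532, 411964947011, 33, 34),
  (26652982207658, 16612326308958, 35, 36),
  (14672796926207, 25382432128320, 37, 38),
  (15284115812184, 4366371757511, 39, 40),
  (4071321296763, 16962359698931, 41, 42),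
  (18067871997959, 18481032750414, 43, 44),
  (20600827766423, 9480924394293, 6, 45),
  (7747155964498, 5616784961358, 32, 46),
  (28860840623325, 3685754568747, 47, 48),
  (27094904160564, 22843315889690, 49, 50),
  (11661823538201, 11230633741783, 51, 52),
  (25878698621011, 9123928513278, 53, 54),
  (23723048474210, 7871231526038, 55, 41),
  (15574767359934, 26180147373282, 56, 57),
  (26017273965310, 9165332137652, 58, 15),
  (7608629407086, 15785612913855, 59, 60),
  (28350496103746, 24858576191548, 61, 62),
  (9442217138412, 26499735145444, 63, 64),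
  (23196984971266, 7843760955918, 65, 66),
  (20759373684125, 30240976509653, 67, 68),
  (23446281329611, 5663672670831, 69, 70),
  (26459178642417, 22391814079311, 71, 72),
  (28391905727533, 24899979815922, 10, 73),
  (8461486822560, 20110728459572, 60, 51),
  (14020838933224, 17411582020242, 74, 75),
  (28193557424263, 7478685465628, 76, 77),
  (27549757442826, 11221994888374, 78, 79),
  (5554148180878, 30899951270340, 80, 81),
  (10711938625996, 28059813705204, 82, 69),
  (14520913790988, 28407123348634, 83, 31),
  (32011343614102, 1055877420948, 44, 84),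
  (30081505505206, 29560647561282, 73, 85),
  (25341032911731, 11884438051308, 86, 87),
  (9190559813096, 27936296758260, 88, 89),
  (8502887360800, 30268864852744, 90, 91),
  (3575058304574, 1961786130282, 72, 92),
  (3163902810249, 21646262434183, 14, 93),
  (18170917973689, 24542977343819, 62, 94),
  (14340432383410, 25410324940946, 95, 9),
  (870072858950, 4666771575906, 70, 96),
  (1712503602099, 8641476200880, 97, 98),
  (26777633141510, 14126981601465, 99, 90),
  (4984709217354, 28864376107445, 68, 100),
  (32821458154766, 3314281735666, 101, 102),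
  (3025376269693, 25747266059903, 103, 104),
  (19088020050776, 14432069023652, 105, 106),
  (23822311522533, 4625079476870, 107, 108),
  (8288831116839, 15519468784342, 109, 110),
  (9040835528522, 29730916685022, 111, 112),
  (3824335050757, 5631724316055, 52, 113),
  (11994119189690, 16833658430731, 18, 114),
  (31983579920568, 2002699305816, 102, 78),
  (32408297792682, 11912041800292, 115, 116),
  (1546319660866, 3990524773990, 117, 118),
  (28997876505526, 3067126182696, 119, 120),
  (429270096721, 20426998379811, 57, 121),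
  (24501863137064, 30956498847712, 122, 111),
  (5412305152266, 29040827872812, 123, 59),
  (30268864852744, 12366896126400, 114, 124),
  (4635069620191, 21666649123476, 125, 126),
  (1243852790678, 4292991644178, 127, 128),
  (19143547849028, 8276642269297, 30, 129),
  (8913752449395, 25870353682009, 113, 130),
  (12795882224533, 2596340833162, 22, 131),
  (10282675118011, 31427567496038, 104, 132),
  (9384328789188, 11718893734245, 133, 17),
  (16116436747817, 8042824349583, 112, 134),
  (27921515071010, 3616746369690, 110, 135),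
  (29025640316702, 22507689089534, 136, 137),
  (2123891346839, 32315490582614, 138, 139),
  (33079077475268, 1708134447794, 140, 127),
  (22801913440826, 25934180875268, 26, 141),
  (8738368658334, 30033383555210, 106, 76),
  (33148195532249, 22304974241348, 142, 143),
  (12438907826185, 14844236618455, 144, 7),
  (9731168138337, 6640341425912, 145, 65),
  (10850237260190, 27921515071010, 146, 138),
  (23086180473117, 17984644915093, 147, 61),
  (19489435743068, 13485082659296, 92, 1),
  (14076079864094, 12901173526804, 141, 148),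
  (3491970507960, 5659605364124, 149, 150),
  (2372941607751, 5767252967705, 108, 151),
  (29357136753294, 11125102583942, 126, 25),
  (19337546725049, 28295012527489, 139, 80),
  (14590033832134, 8065527642570, 152, 149),
  (27776242588812, 21625170086632, 0, 153),
  (3921233898338, 1615610536518, 154, 99),
  (1781800958400, 3755043476456, 155, 156),
  (27333184035060, 12377645895017, 157, 53),
  (10160149154266, 23850200362934, 158, 159),
  (25500229677700, 25866998950373, 160, 161),
  (6428113065952, 19896926727735, 79, 162),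
  (8226005527427, 20318323530766, 34, 163),
  (32669359073010, 6102393258190, 153, 119),
  (31080121425268, 7729259065162, 164, 165),
  (30761707214959, 6087611554133, 166, 47),
  (6709630014626, 32062122198918, 167, 168),
  (9414615460250, 29357136753294, 169, 160),
  (26332838739871, 7503106149821, 170, 101),
  (14866800859084, 25071019257987, 163, 171),
  (13677982476380, 12546882507058, 172, 55),
  (5664911044756, 24283568336607, 173, 95),
  (9952555890446, 13913179869628, 45, 174),
  (32807657707204, 5964094623996, 162, 144),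
  (33217604133466, 3123957042004, 38, 175),
  (6183465787582, 32572468382146, 176, 33),
  (15969838890374, 22801913440826, 161, 177),
  (636868844243, 10356158430582, 159, 145),
  (24279181395719, 22139470277892, 178, 56),
  (24623100912685, 21615324690605, 179, 173),
  (3371551780211, 18045994572116, 42, 180),
  (401456063105, 28360195304419, 156, 117),
  (9137733643684, 26887313540039, 181, 182),
  (20420905194773, 25958092446237, 183, 107),
  (138572793469, 18504439544858, 24, 178),
  (19572745547334, 28364297199932, 184, 103),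
  (28598044364934, 5412305152266, 130, 3),
  (24403681748896, 19434444933528, 180, 185),
  (25168182115026, 9690875047181, 186, 187),
  (22400531024151, 7688345889628, 188, 186),
  (6363454420862, 32408297792682, 77, 189),
  (19420315701922, 1556715682331, 48, 190),
  (15692956936993, 3355680301182, 75, 191),
  (11537138776671, 10856659337777, 168, 192),
  (32863150253802, 2954301090348, 100, 21),
  (2485645375430, 16163628759092, 193, 105),
  (1947702424384, 8613583388254, 190, 35),
  (20351497537149, 8830178482309, 194, 172),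
  (13719387927288, 6845909757300, 40, 195),
  (9107556014293, 28389366232865, 189, 196),
  (7691630905932, 32021208197440, 118, 197),
  (29634018687516, 23478159421600, 134, 198),
  (13827075721590, 12867803653604, 182, 199),
  (23335511528335, 16038980115315, 200, 23),
  (18012378630219, 152382498204, 201, 136),
  (15007308431627, 17735631747473, 128, 5),
  (13430719402613, 27383566903288, 199, 122),
  (28234912613668, 11502377952122, 202, 29),
  (12021598637886, 14182416516224, 150, 203),
  (23487636519016, 8002263948164, 204, 205),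
  (690088108325, 16286113718157, 206, 207),
  (20703880198729, 12918645696989, 120, 208),
  (31024596366702, 20538824846312, 2, 167),
  (5149508910731, 29110123016996, 209, 152),
  (11676848170636, 11180592439510, 210, 74),
  (27109922201911, 22793267996329, 211, 97),
  (15048703856990, 26152676803162, 212, 206),
  (12754472600746, 2291857338434, 84, 0),
  (24057792817666, 4431290278372, 94, 140),
  (17921914657465, 5523528483128, 213, 82),
  (5260206070510, 28667051470064, 214, 133),
  (6760408717098, 32968030908252, 208, 58),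
  (346171540991, 15542875578786, 66, 200),
  (2165292654645, 15977913757084, 207, 215),
  (25052364403912, 10587440185494, 205, 183),
  (17672583709971, 32370297871318, 195, 13),
  (30623180657554, 15868784050078, 91, 214),
  (32352804422541, 1230051352193, 203, 166),
  (5908602077398, 31069607238852, 137, 157),
  (29387423525156, 21088803000777, 216, 154),
  (5526385195639, 12256882255574, 96, 217),
  (3051198941770, 17860279570108, 196, 11),
  (29664190551763, 14827446785938, 116, 193),
  (2734683879561, 1943616566470, 135, 37),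
  (30803353589230, 14336789427529, 218, 155),
  (12925301024574, 29081125941579, 191, 63),
  (9938755600996, 10049454118134, 143, 213),
  (443070371716, 14797296673946, 197, 219),
  (24695672467106, 14261288183664, 177, 220),
  (26790414900692, 22608123066818, 148, 221),
  (4209895817519, 17280924952917, 151, 39),
  (30482921079849, 23667749898618, 222, 146),
  (901774814665, 18155124262315, 221, 169),
  (25093764089676, 21477020056998, 223, 212),
  (15436235037721, 16191387568919, 121, 158),
  (1326941908593, 16742976785195, 93, 204),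
  (13591620002536, 27041825320948, 87, 224),
  (6455876759479, 19474741472067, 131, 201),
  (11981337430508, 11415785262382, 220, 125),
  (332371131484, 14465208841254, 165, 218),
  (32315875454065, 181096291685, 54, 67),
  (20849837556079, 14351728545213, 225, 226),
  (24071593916204, 19213051397066, 217, 225),
  (5692674855932, 31983402749922, 174, 227),
  (31910023117162, 773176520598, 89, 202),
  (6691000924976, 26294648438094, 8, 228),
  (29329535192788, 23436468143706, 187, 229),
  (15325470867077, 13659828686709, 230, 231),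
  (30310264665840, 29592618050828, 4, 211),
  (24750913397976, 19841491812976, 50, 188),
  (10578194789281, 8684944706386, 232, 115),
  (11221994888374, 8089727453932, 228, 27),
  (28059813705204, 3796736281778, 226, 230),
  (8690246825994, 26021361905787, 132, 179),
  (29581192518104, 13263552299399, 233, 176),
  (1961786130282, 22222560825138, 192, 83),
  (4666771575906, 22898805745258, 231, 142),
  (2801916545649, 26335562439572, 129, 233),
  (1095538026299, 30908053985751, 229, 210),
  (7968397916026, 20430630088347, 219, 19),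
  (9606667768304, 9828060581672, 215, 194),
  (17644819881939, 24418294934779, 185, 223),
  (24747880909184, 10545748907600, 175, 222),
  (14023871422016, 7136593963217, 81, 109),
  (24944676609610, 21156104675596, 198, 86),
  (14051479932859, 12311412152939, 85, 234),
  (6102393258190, 30407161959510, 16, 235),
  (8051400187990, 12357259205675, 124, 236),
  (8010044998585, 20760356029752, 237, 209),
  (2056663636807, 30668228028018, 171, 88),
  (22655314639783, 14678016698715, 238, 181),
  (373985574607, 19685850804841, 20, 239),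
  (29179736455349, 14598047645293, 98, 123),
  (29730916685022, 11194393255798, 224, 238),
  (3990524773990, 21546317906570, 239, 164),
  (5012473028530, 6885193995444, 235, 43),
  (4292991644178, 22829515073402, 227, 147),
  (30033383555210, 12477590422630, 12, 232),
  (6418947082715, 32793856151063, 36, 237),
  (5964094623996, 30227172047422, 28, 170),
  (4441306391701, 4992495990594, 64, 49),
  (28750143446690, 595454045136, 236, 216),
  (32062122198918, 11801347504062, 46, 71),
  (33106840460500, 3005124045792, 234, 184)]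

/-- Look-up of the code. -/
def code (i : ℕ) : ℕ := (table.getD i (0, 0, 0, 0)).1

theorem table_inv : ∀ r ∈ table, digs r.1 = digs oneN ∨
    digs (mulN r.1 r.2.1) = digs (addN r.2.1 oneN) := by
  decide +kernel

theorem table_mul : ∀ r ∈ table, (r.2.2.1 < table.length ∧ digs (mulN gN r.1) = digs (code r.2.2.1)) ∧
    (r.2.2.2 < table.length ∧ digs (mulN hN r.1) = digs (code r.2.2.2)) := by
  decide +kernel

theorem table_order : ∀ r ∈ table, digs (powN r.1 8) = digs oneN ∨
    digs (powN r.1 10) = digs oneN ∨ digs (powN r.1 12) = digs oneN := by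
  decide +kernel

theorem table_sq : ∀ r ∈ table, digs (mulN r.1 r.1) = digs oneN →
    digs r.1 = digs oneN ∨ digs r.1 = digs negN := by
  decide +kernel

/-- The first generator. -/
def gG : GL (Fin 4) (ZMod 7) :=
  ⟨mat gN, mat 27776242588812,
    by rw [← mat_mulN, ← mat_one, mat_eq_iff]; decide +kernel,
    by rw [← mat_mulN, ← mat_one, mat_eq_iff]; decide +kernel⟩

/-- The second generator. -/
def hG : GL (Fin 4) (ZMod 7) :=
  ⟨mat hN, mat 12754472600746,
    by rw [← mat_mulN, ← mat_one, mat_eq_iff]; decide +kernel,
    by rw [← mat_mulN, ← mat_one, mat_eq_iff]; decide +kernel⟩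

/-- The fixed-point-free group `2.S5` in dimension four over the field with seven elements. -/
abbrev X : Subgroup (GL (Fin 4) (ZMod 7)) := Subgroup.closure {gG, hG}

/-- The matrix of an element of `X`. -/
abbrev mx (x : X) : Matrix (Fin 4) (Fin 4) (ZMod 7) := ((x : GL (Fin 4) (ZMod 7)) : Matrix (Fin 4) (Fin 4) (ZMod 7))

theorem mx_injective : Function.Injective mx :=
  fun _ _ h => Subtype.ext (Units.ext h)

theorem mx_one : mx 1 = 1 := rfl

theorem mx_pow (x : X) (n : ℕ) : mx (x ^ n) = mx x ^ n := by simp [mx]

theorem mem_table (x : X) : ∃ r ∈ table, mx x = mat r.1 := by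
  have hx : (x : GL (Fin 4) (ZMod 7)) ∈ Submonoid.closure ({gG, hG} : Set (GL (Fin 4) (ZMod 7))) := by
    rw [← Subgroup.closure_toSubmonoid_of_finite]
    exact x.2
  suffices H : ∀ y, y ∈ Submonoid.closure ({gG, hG} : Set (GL (Fin 4) (ZMod 7))) →
      ∃ r ∈ table, ((y : GL (Fin 4) (ZMod 7)) : Matrix (Fin 4) (Fin 4) (ZMod 7)) = mat r.1 from H _ hx
  intro y hy
  induction hy using Submonoid.closure_induction_left with
  | one => exact ⟨(oneN, 0, 1, 2), by decide +kernel, by rw [mat_one]; rfl⟩
  | mul_left a ha z _ ih =>
    obtain ⟨r, hr, e⟩ := ih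
    obtain ⟨⟨l1, h1⟩, l2, h2⟩ := table_mul r hr
    rcases ha with rfl | rfl
    · refine ⟨_, List.getElem_mem l1, ?_⟩
      rw [Units.val_mul, e, show ((gG : GL (Fin 4) (ZMod 7)) : Matrix (Fin 4) (Fin 4) (ZMod 7)) = mat gN from rfl,
        ← mat_mulN, mat_eq_iff, h1, code, List.getD_eq_getElem _ _ l1]
    · refine ⟨_, List.getElem_mem l2, ?_⟩
      rw [Units.val_mul, e, show ((hG : GL (Fin 4) (ZMod 7)) : Matrix (Fin 4) (Fin 4) (ZMod 7)) = mat hN from rfl,
        ← mat_mulN, mat_eq_iff, h2, code, List.getD_eq_getElem _ _ l2]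

theorem eq_one_iff {x : X} {a : ℕ} (h : mx x = mat a) (n : ℕ) :
    x ^ n = 1 ↔ digs (powN a n) = digs oneN := by
  rw [← mat_eq_iff, mat_powN, mat_one, ← h, ← mx_pow, ← mx_one, mx_injective.eq_iff]

theorem orderOf_dvd (x : X) : orderOf x ∣ 8 ∨ orderOf x ∣ 10 ∨ orderOf x ∣ 12 := by
  obtain ⟨r, hr, e⟩ := mem_table x
  rcases table_order r hr with h | h | h
  · exact Or.inl (orderOf_dvd_of_pow_eq_one ((eq_one_iff e 8).mpr h))
  · exact Or.inr (Or.inl (orderOf_dvd_of_pow_eq_one ((eq_one_iff e 10).mpr h)))
  · exact Or.inr (Or.inr (orderOf_dvd_of_pow_eq_one ((eq_one_iff e 12).mpr h)))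

theorem involution {x : X} (h2 : x ^ 2 = 1) (h1 : x ≠ 1) : mx x = -1 := by
  obtain ⟨r, hr, e⟩ := mem_table x
  have h := table_sq r hr (by
    rw [← mat_eq_iff, mat_mulN, mat_one, ← e, ← sq, ← mx_pow, h2, mx_one])
  rcases h with h | h
  · exfalso
    rw [← mat_eq_iff, mat_one, ← e, ← mx_one, mx_injective.eq_iff] at h
    exact h1 h
  · rw [← mat_eq_iff, mat_neg, ← e] at h
    exact h

theorem sum_pow_eq_zero {x : X} (h1 : x ≠ 1) :
    ∑ i ∈ Finset.range (orderOf x), mx x ^ i = 0 := by
  obtain ⟨r, hr, e⟩ := mem_table x
  rcases table_inv r hr with h | h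
  · exfalso
    rw [← mat_eq_iff, mat_one, ← e, ← mx_one, mx_injective.eq_iff] at h
    exact h1 h
  rw [← mat_eq_iff, mat_mulN, mat_addN, mat_one, ← e] at h
  have hi : (mx x - 1) * mat r.2.1 = 1 := by rw [sub_mul, h, one_mul, add_sub_cancel_left]
  have hg := geom_sum_mul (mx x) (orderOf x)
  rw [← mx_pow, pow_orderOf_eq_one, mx_one, sub_self] at hg
  have := congrArg (· * mat r.2.1) hg
  simpa [mul_assoc, hi] using this

/-- The module for `X`. -/
abbrev A : Type := Multiplicative (Fin 4 → ZMod 7)

/-- The linear action of `X`. -/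
def act : X →* MulAut A where
  toFun x :=
    { toFun := fun a => Multiplicative.ofAdd (mx x *ᵥ Multiplicative.toAdd a)
      invFun := fun a => Multiplicative.ofAdd (mx x⁻¹ *ᵥ Multiplicative.toAdd a)
      left_inv := fun a => by
        simp [Matrix.mulVec_mulVec, mx]
      right_inv := fun a => by
        simp [Matrix.mulVec_mulVec, mx]
      map_mul' := fun a b => by simp [Matrix.mulVec_add, ofAdd_add] }
  map_one' := MulEquiv.ext fun a => by simp [mx]
  map_mul' x y := MulEquiv.ext fun a => by simp [mx, Matrix.mulVec_mulVec]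

/-- The affine group. -/
abbrev K : Type := A ⋊[act] X

theorem A_pow (a : A) : a ^ 7 = 1 := by
  apply Multiplicative.toAdd.injective
  funext i
  rw [toAdd_pow, Pi.smul_apply, nsmul_eq_mul, show ((7 : ℕ) : ZMod 7) = 0 from ZMod.natCast_self 7,
    zero_mul]
  rfl

theorem orderOf_K (k : K) (h : k.right ≠ 1) : orderOf k = orderOf k.right := by
  obtain ⟨a, x⟩ := k
  refine orderOf_eq_of_norm_eq_one act x a ?_
  rw [twNorm]
  apply Multiplicative.toAdd.injective
  rw [toAdd_prod]
  calc ∑ i ∈ Finset.range (orderOf x), Multiplicative.toAdd (act (x ^ i) a)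
      = ∑ i ∈ Finset.range (orderOf x), (mx x ^ i) *ᵥ Multiplicative.toAdd a :=
        Finset.sum_congr rfl fun i _ => by rw [← mx_pow]; rfl
    _ = 0 := by rw [← Matrix.sum_mulVec, sum_pow_eq_zero h, Matrix.zero_mulVec]

/-- Possible (sum, parity of the number of parts, lcm) for partitions of numbers up to ten. -/
def shapes : List (ℕ × ℕ × ℕ) := [
  (0, 0, 1), (2, 1, 2), (3, 1, 3), (4, 0, 2), (4, 1, 4), (5, 0, 6), (5, 1, 5), (6, 0, 3),
  (6, 0, 4), (6, 1, 2), (6, 1, 6), (7, 0, 10), (7, 0, 12), (7, 1, 6), (7, 1, 7), (8, 0, 2),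
  (8, 0, 4), (8, 0, 6), (8, 0, 15), (8, 1, 4), (8, 1, 6), (8, 1, 8), (9, 0, 6), (9, 0, 14),
  (9, 0, 20), (9, 1, 3), (9, 1, 9), (9, 1, 10), (9, 1, 12), (10, 0, 4), (10, 0, 5), (10, 0, 6),
  (10, 0, 8), (10, 0, 12), (10, 0, 21), (10, 1, 2), (10, 1, 4), (10, 1, 6), (10, 1, 10), (10, 1, 12),
  (10, 1, 30)]

theorem shapes_step : ∀ t ∈ shapes, ∀ a ∈ List.range 11, 2 ≤ a → t.1 + a ≤ 10 →
    (a + t.1, (t.2.1 + 1) % 2, Nat.lcm a t.2.2) ∈ shapes := by
  decide +kernel

theorem shapes_even : ∀ t ∈ shapes, (t.1 + t.2.1) % 2 = 0 →
    t.2.2 ∣ 8 ∨ t.2.2 ∣ 9 ∨ t.2.2 ∣ 10 ∨ t.2.2 ∣ 12 ∨ t.2.2 ∣ 15 ∨ t.2.2 ∣ 21 := by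
  decide +kernel

theorem mem_shapes (s : Multiset ℕ) (h2 : ∀ a ∈ s, 2 ≤ a) (hs : s.sum ≤ 10) :
    (s.sum, s.card % 2, s.lcm) ∈ shapes := by
  induction s using Multiset.induction_on with
  | empty => decide +kernel
  | cons a s ih =>
    rw [Multiset.sum_cons] at hs
    have hih := ih (fun b hb => h2 b (Multiset.mem_cons_of_mem hb)) (by omega)
    have := shapes_step _ hih a (List.mem_range.mpr (by omega))
      (h2 a (Multiset.mem_cons_self a s)) (by simp only; omega)
    rw [Multiset.sum_cons, Multiset.card_cons, Multiset.lcm_cons]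
    simpa [Nat.add_mod, lcm_eq_nat_lcm] using this

/-- The divisors of the maximal element orders of the alternating group of degree ten. -/
def omegaSet : Set ℕ := {o | o ∣ 8 ∨ o ∣ 9 ∨ o ∣ 10 ∨ o ∣ 12 ∨ o ∣ 15 ∨ o ∣ 21}

theorem orders_A10 : Set.range (orderOf : alternatingGroup (Fin 10) → ℕ) = omegaSet := by
  ext o
  constructor
  · rintro ⟨⟨σ, hσ⟩, rfl⟩
    rw [Subgroup.orderOf_mk, ← Equiv.Perm.lcm_cycleType]
    refine shapes_even _ (mem_shapes σ.cycleType (fun a => Equiv.Perm.two_le_of_mem_cycleType)
      (by rw [Equiv.Perm.sum_cycleType]; simpa using Finset.card_le_univ σ.support)) ?_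
    have hs := Equiv.Perm.mem_alternatingGroup.mp hσ
    rw [Equiv.Perm.sign_of_cycleType] at hs
    have he : Even (σ.cycleType.sum + σ.cycleType.card) := by
      by_contra ho
      rw [Nat.not_even_iff_odd] at ho
      rw [ho.neg_one_pow] at hs
      exact absurd hs (by decide)
    rw [Nat.even_iff] at he
    simp only
    omega
  · have mk : ∀ (n : ℕ) (σ : Equiv.Perm (Fin 10)), 0 < n → σ ∈ alternatingGroup (Fin 10) →
        σ ^ n = 1 → (∀ m, m < n → 0 < m → σ ^ m ≠ 1) → ∀ d, d ∣ n →
        d ∈ Set.range (orderOf : alternatingGroup (Fin 10) → ℕ) := fun n σ hn hm h1 h2 d hd =>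
      mem_range_orderOf_of_dvd ⟨⟨σ, hm⟩, by
        rw [Subgroup.orderOf_mk, orderOf_eq_iff hn]; exact ⟨h1, h2⟩⟩ hd
    rintro (h | h | h | h | h | h)
    · exact mk 8 (List.formPerm [0, 1, 2, 3, 4, 5, 6, 7] * Equiv.swap 8 9) (by omega)
        (Equiv.Perm.mem_alternatingGroup.mpr (by decide +kernel)) (by decide +kernel) (by decide +kernel) _ h
    · exact mk 9 (List.formPerm [0, 1, 2, 3, 4, 5, 6, 7, 8]) (by omega)
        (Equiv.Perm.mem_alternatingGroup.mpr (by decide +kernel)) (by decide +kernel) (by decide +kernel) _ h
    · exact mk 10 (List.formPerm [0, 1, 2, 3, 4] * Equiv.swap 5 6 * Equiv.swap 7 8) (by omega)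
        (Equiv.Perm.mem_alternatingGroup.mpr (by decide +kernel)) (by decide +kernel) (by decide +kernel) _ h
    · exact mk 12 (List.formPerm [0, 1, 2, 3] * List.formPerm [4, 5, 6, 7, 8, 9]) (by omega)
        (Equiv.Perm.mem_alternatingGroup.mpr (by decide +kernel)) (by decide +kernel) (by decide +kernel) _ h
    · exact mk 15 (List.formPerm [0, 1, 2, 3, 4] * List.formPerm [5, 6, 7]) (by omega)
        (Equiv.Perm.mem_alternatingGroup.mpr (by decide +kernel)) (by decide +kernel) (by decide +kernel) _ h
    · exact mk 21 (List.formPerm [0, 1, 2, 3, 4, 5, 6] * List.formPerm [7, 8, 9]) (by omega)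
        (Equiv.Perm.mem_alternatingGroup.mpr (by decide +kernel)) (by decide +kernel) (by decide +kernel) _ h

theorem orderOf_gen {x : X} {a n : ℕ} (e : mx x = mat a) (hn : 0 < n)
    (h1 : digs (powN a n) = digs oneN)
    (h2 : ∀ m, m < n → 0 < m → digs (powN a m) ≠ digs oneN) : orderOf x = n := by
  rw [orderOf_eq_iff hn]
  exact ⟨(eq_one_iff e n).mpr h1, fun m hm hm' h => h2 m hm hm' ((eq_one_iff e m).mp h)⟩

/-- The element of order eight. -/
abbrev gX : X := ⟨gG, Subgroup.subset_closure (Set.mem_insert _ _)⟩

/-- The element of order ten. -/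
abbrev hX : X := ⟨hG, Subgroup.subset_closure (Set.mem_insert_of_mem _ rfl)⟩

theorem orderOf_gX : orderOf gX = 8 :=
  orderOf_gen (a := gN) rfl (by omega) (by decide +kernel) (by decide +kernel)

theorem orderOf_hX : orderOf hX = 10 :=
  orderOf_gen (a := hN) rfl (by omega) (by decide +kernel) (by decide +kernel)

theorem orderOf_wX : orderOf (hX * hX * gX) = 12 :=
  orderOf_gen (a := mulN (mulN hN hN) gN) (by simp only [mat_mulN]; rfl) (by omega)
    (by decide +kernel) (by decide +kernel)

theorem result (N : ℕ) : ∃ (H : Type) (_ : Group H) (_ : Fintype H), N < Fintype.card H ∧ Set.range (orderOf : H → ℕ) = Set.range (orderOf : alternatingGroup (Fin 10) → ℕ) := by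
  classical
  let M₀ := Multiplicative (Fin (N + 1) → ZMod 3)
  have hM₀ : ∀ a : M₀, a ^ 3 = 1 := fun a => by
    apply Multiplicative.toAdd.injective
    funext i
    rw [toAdd_pow, Pi.smul_apply, nsmul_eq_mul,
      show ((3 : ℕ) : ZMod 3) = 0 from ZMod.natCast_self 3, zero_mul]
    rfl
  let B := ↥(cusp M₀ X 2)
  have hexp : ∀ f : B, f ^ 3 = 1 := fun f => by
    apply Subtype.ext; funext x; exact hM₀ _
  let φ : K →* MulAut B := (shift 2).comp rightHom
  let z : X := hX ^ 5
  have hz : z ^ 2 = 1 ∧ z ≠ 1 := by
    have h10 : orderOf hX = 10 := orderOf_hX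
    constructor
    · rw [← pow_mul, show 5 * 2 = orderOf hX from h10.symm, pow_orderOf_eq_one]
    · intro h
      have := orderOf_dvd_of_pow_eq_one h
      rw [h10] at this
      omega
  have hu : ∀ u : X, u ^ 2 = 1 → u ≠ 1 → u = z := fun u h1 h2 =>
    mx_injective ((involution h1 h2).trans (involution hz.1 hz.2).symm)
  have zz : z * z = 1 := by rw [← sq]; exact hz.1
  have witmem : ∀ e : M₀, (fun x : X => if x = 1 then e else if x = z then e⁻¹ else 1) ∈
      cusp M₀ X 2 := by
    intro e x u h1 h2
    obtain rfl := hu u h1 h2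
    simp only [Finset.prod_range_succ, Finset.prod_range_zero, one_mul, pow_zero, mul_one, pow_one]
    by_cases hx : x = 1
    · subst hx
      simp only [hz.2, one_mul, if_true, if_false]
      exact mul_inv_cancel e
    by_cases hxz : x = z
    · subst hxz
      simp only [zz, hz.2, if_true, if_false]
      exact inv_mul_cancel e
    have n1 : x * z ≠ 1 := fun h => hxz (by
      have := congrArg (· * z) h; simpa [mul_assoc, zz] using this)
    have n2 : x * z ≠ z := fun h => hx (mul_eq_right.mp h)
    simp [hx, hxz, n1, n2]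
  let wit : M₀ → B := fun e => ⟨_, witmem e⟩
  have wit_inj : Function.Injective wit := fun a b h => by
    simpa [wit] using congrFun (congrArg Subtype.val h) (1 : X)
  have hnorm : ∀ (k : K) (f : B) (x : X), ((twNorm φ k f : B) : X → M₀) x =
      ∏ i ∈ Finset.range (orderOf k), (f : X → M₀) (x * k.right ^ i) := by
    intro k f x
    rw [twNorm, Subgroup.val_finset_prod, Finset.prod_apply]
    refine Finset.prod_congr rfl fun i _ => ?_
    show (f : X → M₀) (x * rightHom (k ^ i)) = _
    rw [map_pow, rightHom_eq_right]
  have heven : ∀ (k : K) (f : B), k.right ≠ 1 → Even (orderOf k.right) → twNorm φ k f = 1 := by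
    intro k f hk he
    obtain ⟨d, hd⟩ := he
    have hpos : 0 < d := by have := orderOf_pos k.right; omega
    have h1 : (k.right ^ d) ^ 2 = 1 := by
      rw [← pow_mul, show d * 2 = orderOf k.right by omega, pow_orderOf_eq_one]
    have h2 : k.right ^ d ≠ 1 := fun h => by
      have := Nat.le_of_dvd hpos (orderOf_dvd_of_pow_eq_one h); omega
    apply Subtype.ext
    funext x
    rw [hnorm, orderOf_K k hk, show orderOf k.right = d * 2 by omega, prod_range_mul]
    refine Finset.prod_eq_one fun j _ => ?_
    have := f.2 (x * k.right ^ j) _ h1 h2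
    rw [← this]
    refine Finset.prod_congr rfl fun l _ => ?_
    rw [mul_assoc, ← pow_mul, ← pow_add]
  haveI : Finite K := Finite.of_equiv _ SemidirectProduct.equivProd.symm
  haveI : Finite (B ⋊[φ] K) := Finite.of_equiv _ SemidirectProduct.equivProd.symm
  obtain ⟨H, hH, hfin, ⟨ε⟩⟩ := exists_type_copy (B ⋊[φ] K)
  refine ⟨H, hH, hfin, ?_, ?_⟩
  · rw [← Nat.card_eq_fintype_card, Nat.card_congr ε.toEquiv, SemidirectProduct.card]
    have h1 : 3 ^ (N + 1) ≤ Nat.card B := by
      have := Nat.card_le_card_of_injective wit wit_inj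
      simpa [M₀] using this
    have h3 : N + 1 < 3 ^ (N + 1) := Nat.lt_pow_self (by omega)
    have h4 : Nat.card B ≤ Nat.card B * Nat.card K := Nat.le_mul_of_pos_right _ Nat.card_pos
    omega
  rw [range_orderOf_congr ε, orders_A10]
  obtain ⟨e, he⟩ : ∃ e : M₀, e ≠ 1 :=
    ⟨Multiplicative.ofAdd (fun _ => 1), fun h =>
      one_ne_zero (congrFun (congrArg Multiplicative.toAdd h) ⟨0, Nat.succ_pos N⟩)⟩
  have hodd : ∀ x : X, x ≠ 1 → Odd (orderOf x) →
      orderOf x * 3 ∈ Set.range (orderOf : B ⋊[φ] K → ℕ) := by
    intro x hx ho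
    refine ⟨⟨wit e, inr x⟩, ?_⟩
    have hk : orderOf (inr x : K) = orderOf x := orderOf_injective _ inr_injective x
    rw [orderOf_eq_mul_of_norm_ne_one φ _ _ Nat.prime_three hexp ?_, hk]
    intro h
    have h1 := congrFun (congrArg Subtype.val h) (1 : X)
    rw [hnorm, hk, Finset.prod_eq_single 0] at h1
    · exact he (by simpa [wit] using h1)
    · intro j hj hj0
      rw [Finset.mem_range] at hj
      have n1 : x ^ j ≠ 1 := pow_ne_one_of_lt_orderOf hj0 hj
      have n2 : x ^ j ≠ z := fun h => by
        have h' : x ^ (j * 2) = 1 := by rw [pow_mul, h, hz.1]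
        have hd := (Nat.Coprime.dvd_of_dvd_mul_right (Nat.coprime_two_right.mpr ho)
          (orderOf_dvd_of_pow_eq_one h'))
        exact n1 (orderOf_dvd_iff_pow_eq_one.mp hd)
      simp [wit, n1, n2]
    · intro h0
      exact absurd (Finset.mem_range.mpr (orderOf_pos x)) h0
  have base : ∀ x : X, orderOf x ∈ Set.range (orderOf : B ⋊[φ] K → ℕ) := fun x => ⟨inr (inr x), by
    rw [orderOf_injective _ inr_injective, orderOf_injective _ inr_injective]⟩
  ext o
  constructor
  · rintro ⟨⟨f, k⟩, rfl⟩
    by_cases hk : k.right = 1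
    · have h7 : orderOf k ∣ 7 := by
        obtain ⟨a, x⟩ := k
        obtain rfl : x = 1 := hk
        have h1 := orderOf_dvd_mul act 1 a A_pow
        rwa [orderOf_one, one_mul] at h1
      exact Or.inr (Or.inr (Or.inr (Or.inr (Or.inr
        ((orderOf_dvd_mul φ k f hexp).trans (Nat.mul_dvd_mul_right h7 3))))))
    · have hd := orderOf_dvd k.right
      rcases Nat.even_or_odd (orderOf k.right) with hev | hod
      · rw [orderOf_eq_of_norm_eq_one φ k f (heven k f hk hev), orderOf_K k hk]
        rcases hd with h | h | h
        · exact Or.inl h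
        · exact Or.inr (Or.inr (Or.inl h))
        · exact Or.inr (Or.inr (Or.inr (Or.inl h)))
      · have hd' := orderOf_dvd_mul φ k f hexp
        rw [orderOf_K k hk] at hd'
        have hc : ∀ i, Nat.Coprime (orderOf k.right) (2 ^ i) := fun i =>
          (Nat.coprime_two_right.mpr hod).pow_right i
        rcases hd with h | h | h
        · exact absurd (orderOf_eq_one_iff.mp (Nat.Coprime.eq_one_of_dvd (hc 3) h)) hk
        · have h5 : orderOf k.right ∣ 5 := (hc 1).dvd_of_dvd_mul_left (by simpa using h)
          exact Or.inr (Or.inr (Or.inr (Or.inr (Or.inl (hd'.trans (Nat.mul_dvd_mul_right h5 3))))))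
        · have h5 : orderOf k.right ∣ 3 := (hc 2).dvd_of_dvd_mul_left (by simpa using h)
          exact Or.inr (Or.inl (hd'.trans (Nat.mul_dvd_mul_right h5 3)))
  · rintro (h | h | h | h | h | h) <;> refine mem_range_orderOf_of_dvd ?_ h
    · exact orderOf_gX ▸ base gX
    · have h3 : orderOf ((hX * hX * gX) ^ 4) = 3 := by
        rw [orderOf_pow, orderOf_wX]; rfl
      exact (show 9 = orderOf ((hX * hX * gX) ^ 4) * 3 by rw [h3]) ▸
        hodd _ (fun h0 => by rw [h0, orderOf_one] at h3; omega) (by rw [h3]; exact ⟨1, rfl⟩)
    · exact orderOf_hX ▸ base hX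
    · exact orderOf_wX ▸ base (hX * hX * gX)
    · have h5 : orderOf (hX ^ 2) = 5 := by rw [orderOf_pow, orderOf_hX]; rfl
      exact (show 15 = orderOf (hX ^ 2) * 3 by rw [h5]) ▸
        hodd _ (fun h0 => by rw [h0, orderOf_one] at h5; omega) (by rw [h5]; exact ⟨2, rfl⟩)
    · let a : A := Multiplicative.ofAdd (fun _ => 1)
      have ha : orderOf (inl a : K) = 7 := by
        haveI : Fact (Nat.Prime 7) := ⟨by norm_num⟩
        rw [orderOf_injective _ inl_injective]
        exact orderOf_eq_prime (A_pow a) (fun h0 =>
          one_ne_zero (congrFun (congrArg Multiplicative.toAdd h0) 0))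
      refine ⟨⟨wit e, inl a⟩, ?_⟩
      rw [orderOf_eq_mul_of_norm_ne_one φ _ _ Nat.prime_three hexp ?_, ha]
      intro h
      have h1 := congrFun (congrArg Subtype.val h) (1 : X)
      rw [hnorm, ha] at h1
      simp only [right_inl, one_pow, mul_one, Finset.prod_const, Finset.card_range] at h1
      apply he
      have h2 : e ^ 7 = 1 := by simpa [wit] using h1
      rwa [show (7 : ℕ) = 3 * 2 + 1 from rfl, pow_succ, pow_mul, hM₀, one_pow, one_mul] at h2

end Cfsg.Agent.S3489
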