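import Cfsg.Agent.S3488
import Cfsg.Agent.S3444

set_option autoImplicit false

namespace Cfsg.Agent.S3491

open Matrix

theorem result (N : ℕ) : ∃ (H : Type) (_ : Group H) (_ : Fintype H), N < Fintype.card H ∧ Set.range (orderOf : H → ℕ) = Set.range (orderOf : alternatingGroup (Fin 6) → ℕ) := by
  classical
  haveI : Fact (Nat.Prime 2) := ⟨Nat.prime_two⟩
  let F := GaloisField 2 2
  haveI : Fintype F := Fintype.ofFinite F
  have hF : Fintype.card F = 4 := by
    rw [← Nat.card_eq_fintype_card]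
    exact GaloisField.card 2 2 (by norm_num)
  rw [← Cfsg.Agent.S3488.result (F := F) hF, Cfsg.Agent.S3488.closure_eq]
  let A := Cfsg.Agent.S3488.affine (F := F)
  let K : Subgroup A :=
    { carrier := {M | (M.1 : Matrix (Fin 3) (Fin 3) F) 0 0 = 1 ∧ (M.1 : Matrix (Fin 3) (Fin 3) F) 0 1 = 0 ∧
        (M.1 : Matrix (Fin 3) (Fin 3) F) 1 0 = 0 ∧ (M.1 : Matrix (Fin 3) (Fin 3) F) 1 1 = 1}
      one_mem' := by simp
      mul_mem' := by
        rintro ⟨M, m0, m1, m2⟩ ⟨P, p0, p1, p2⟩ ⟨a, b, c, d⟩ ⟨a', b', c', d'⟩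
        simp only at a b c d a' b' c' d'
        simp [Matrix.mul_apply, Fin.sum_univ_three, m0, m1, m2, p0, p1, p2, a, b, c, d, a', b', c', d']
      inv_mem' := by
        rintro ⟨M, m0, m1, m2⟩ ⟨a, b, c, d⟩
        simp only at a b c d
        simp [Matrix.SpecialLinearGroup.coe_inv, Matrix.adjugate_fin_three, m0, m1, m2, a, b, c, d] }
  haveI hn : K.Normal := by
    refine ⟨fun x hx g => ?_⟩
    obtain ⟨M, m0, m1, m2⟩ := x
    obtain ⟨a, b, c, d⟩ := hx
    simp only at a b c d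
    obtain ⟨G, g0, g1, g2⟩ := g
    have hG := G.2
    rw [Matrix.det_fin_three, g0, g1, g2] at hG
    refine ⟨?_, ?_, ?_, ?_⟩ <;>
      simp [Matrix.mul_apply, Fin.sum_univ_three, Matrix.adjugate_fin_three, m0, m1, m2, g0, g1, g2,
        a, b, c, d] <;>
      first | linear_combination hG | ring
  have hK : K ≠ ⊥ := by
    intro h
    let u : A := ⟨⟨!![1, 0, 1; 0, 1, 0; 0, 0, 1], by simp [Matrix.det_fin_three]⟩, by simp, by simp, by simp⟩
    have hu : u ∈ K := by refine ⟨?_, ?_, ?_, ?_⟩ <;> simp [u]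
    rw [h, Subgroup.mem_bot] at hu
    have := congrFun₂ (congrArg (fun x : A => (x.1 : Matrix (Fin 3) (Fin 3) F)) hu) 0 2
    simp [u] at this
  have hs : Group.IsSolvable K := Group.isSolvable_of_comm fun x y => by
    obtain ⟨⟨M, m0, m1, m2⟩, a, b, c, d⟩ := x
    obtain ⟨⟨P, p0, p1, p2⟩, a', b', c', d'⟩ := y
    simp only at a b c d a' b' c' d'
    apply Subtype.ext; apply Subtype.ext; apply Subtype.ext
    ext i j
    fin_cases i <;> fin_cases j <;>
      simp [Matrix.mul_apply, Fin.sum_univ_three, m0, m1, m2, p0, p1, p2, a, b, c, d, a', b', c', d', add_comm]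
  exact Cfsg.Agent.S3444.result K hK hs N

end Cfsg.Agent.S3491
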