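import Cfsg.Statements.S3494
import Mathlib.GroupTheory.GroupAction.Primitive
import Mathlib.GroupTheory.OrderOfElement
-- import your own Cfsg.Agent.* helpers here

set_option autoImplicit false
open Cfsg

namespace Cfsg.Agent.S3494

/-- Manning's Theorem on extremely primitive groups. Let a finite group G act faithfully and primitively on a finite set Ω with non-trivial point stabilizers, and suppose every point stabilizer G_α acts primitively on each of its orbits. Then G_α acts faithfully on each of its orbits other than {α}: an element of G_α fixing every point of one such orbit is the identity. -/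
theorem result {G : Type*} [Group G] [Finite G] {Ω : Type*} [Fintype Ω] [MulAction G Ω] [FaithfulSMul G Ω] (hprim : MulAction.IsPreprimitive G Ω) (hH : ∀ α : Ω, MulAction.stabilizer G α ≠ ⊥) (hep : ∀ (α : Ω) (ω : Ω), MulAction.IsPreprimitive (MulAction.stabilizer G α) (MulAction.orbit (MulAction.stabilizer G α) ω))
    (α ω : Ω) (hω : ω ≠ α) (h : MulAction.stabilizer G α) (hfix : ∀ x ∈ MulAction.orbit (MulAction.stabilizer G α) ω, h • x = x) : h = 1 := by
  classical
  by_contra h1
  let R : Ω → Ω → Prop := fun x y => ∃ g : G, g • α = x ∧ g • ω = y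
  have hRs : ∀ (g : G) x y, R x y → R (g • x) (g • y) := by
    rintro g _ _ ⟨k, rfl, rfl⟩
    exact ⟨g * k, mul_smul _ _ _, mul_smul _ _ _⟩
  haveI := hprim.toIsPretransitive
  haveI : Nontrivial Ω := ⟨⟨ω, α, hω⟩⟩
  -- the kernels
  let Ker : Ω → Set G := fun u => {k | k • α = α ∧ ∀ x, (∃ g : G, g • α = α ∧ g • u = x) → k • x = x}
  let orb : Ω → Finset Ω := fun u => Finset.univ.filter fun x => ∃ g : G, g • α = α ∧ g • u = x
  let Bad : Finset Ω := Finset.univ.filter fun u => u ≠ α ∧ ∃ k ∈ Ker u, k ≠ 1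
  have hbadω : ω ∈ Bad := by
    refine Finset.mem_filter.2 ⟨Finset.mem_univ _, hω, (h : G), ⟨h.2, ?_⟩,
      fun e => h1 (Subtype.ext e)⟩
    rintro x ⟨g, hg, rfl⟩
    exact hfix _ ⟨⟨g, hg⟩, rfl⟩
  obtain ⟨d, hd, hdmin⟩ := Finset.exists_min_image Bad (fun u => (orb u).card) ⟨ω, hbadω⟩
  obtain ⟨hdα, k, hk, hk1⟩ := (Finset.mem_filter.1 hd).2
  let R' : Ω → Ω → Prop := fun x y => ∃ g : G, g • α = x ∧ g • d = y
  have hR's : ∀ (g : G) x y, R' x y → R' (g • x) (g • y) := by
    rintro g _ _ ⟨j, rfl, rfl⟩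
    exact ⟨g * j, mul_smul _ _ _, mul_smul _ _ _⟩
  -- the orbital digraph of `d` is connected
  have hreach : ∀ x, Relation.ReflTransGen R' α x := by
    let U : Submonoid G :=
      { carrier := {g | Relation.ReflTransGen R' α (g • α)}
        one_mem' := by simp only [Set.mem_setOf_eq, one_smul]; exact .refl
        mul_mem' := by
          intro g j hg hj
          simp only [Set.mem_setOf_eq] at hg hj ⊢
          rw [mul_smul]
          refine hg.trans ?_
          generalize j • α = y at hj
          induction hj with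
          | refl => exact .refl
          | tail _ h2 ih => exact ih.tail (hR's g _ _ h2) }
    let S : Subgroup G :=
      { toSubmonoid := U
        inv_mem' := by
          intro g hg
          obtain ⟨m, hm⟩ := (isOfFinOrder_of_finite g).mem_powers_iff_mem_zpowers.2
            (Subgroup.inv_mem _ (Subgroup.mem_zpowers g))
          show g⁻¹ ∈ U
          have hm' : g ^ m = g⁻¹ := hm
          rw [← hm']
          exact U.pow_mem hg m }
    have hle : MulAction.stabilizer G α ≤ S := fun g hg => by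
      show Relation.ReflTransGen R' α (g • α)
      rw [MulAction.mem_stabilizer_iff.1 hg]
    obtain ⟨g, hg⟩ := MulAction.exists_smul_eq G α d
    have hgS : g ∈ S := by
      show Relation.ReflTransGen R' α (g • α)
      rw [hg]
      exact .single ⟨1, one_smul _ _, one_smul _ _⟩
    have hS : S = ⊤ := (((MulAction.isCoatom_stabilizer_iff_preprimitive (G := G) α).2 hprim).le_iff.1 hle).resolve_right
      fun e => hdα (hg.symm.trans (MulAction.mem_stabilizer_iff.1 (e ▸ hgS)))
    intro x
    obtain ⟨j, rfl⟩ := MulAction.exists_smul_eq G α x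
    exact (hS ▸ Subgroup.mem_top j : j ∈ S)
  -- an arc leaving the fixed points of the kernel
  obtain ⟨u, w, hu, huw, hw⟩ : ∃ u w, (∀ j ∈ Ker d, j • u = u) ∧ R' u w ∧ ∃ j ∈ Ker d, j • w ≠ w := by
    by_contra hc
    push Not at hc
    refine hk1 (eq_of_smul_eq_smul (α := Ω) fun x => ?_)
    rw [one_smul]
    have : ∀ j ∈ Ker d, j • x = x := by
      induction hreach x with
      | refl => exact fun j hj => hj.1
      | tail _ hyz ih => exact fun j hj => hc _ _ ih hyz j hj
    exact this k hk
  obtain ⟨j, hj, hjw⟩ := hw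
  have huα : u ≠ α := by
    rintro rfl
    obtain ⟨g, hg1, rfl⟩ := huw
    exact hjw (hj.2 _ ⟨g, hg1, rfl⟩)
  have hconj : ∀ g : G, g • α = α → ∀ i ∈ Ker d, g * i * g⁻¹ ∈ Ker d := by
    intro g hg i hi
    refine ⟨by rw [mul_smul, mul_smul, inv_smul_eq_iff.2 hg.symm, hi.1, hg], ?_⟩
    rintro x ⟨l, hl, rfl⟩
    rw [mul_smul, mul_smul, hi.2 _ ⟨g⁻¹ * l, by rw [mul_smul, hl, inv_smul_eq_iff.2 hg.symm],
      (mul_smul _ _ _)⟩, smul_inv_smul]
  have hufix : ∀ x ∈ orb u, ∀ i ∈ Ker d, i • x = x := by
    intro x hx i hi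
    obtain ⟨g, hg, rfl⟩ := (Finset.mem_filter.1 hx).2
    have h2 := hu _ (hconj g⁻¹ (inv_smul_eq_iff.2 hg.symm) i hi)
    rw [inv_inv, mul_smul, mul_smul, inv_smul_eq_iff] at h2
    exact h2
  have hubad : u ∈ Bad := by
    refine Finset.mem_filter.2 ⟨Finset.mem_univ _, huα, k, ⟨hk.1, ?_⟩, hk1⟩
    rintro x ⟨g, hg, rfl⟩
    exact hufix _ (Finset.mem_filter.2 ⟨Finset.mem_univ _, g, hg, rfl⟩) k hk
  -- the kernel is transitive on the orbit of `w`
  let H := MulAction.stabilizer G α
  let K : Subgroup H :=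
    { carrier := {i | (i : G) ∈ Ker d}
      one_mem' := ⟨one_smul _ _, fun x _ => one_smul _ x⟩
      mul_mem' := by
        intro a b ha hb
        exact ⟨(a * b).2, fun x hx => by rw [Subgroup.coe_mul, mul_smul, hb.2 x hx, ha.2 x hx]⟩
      inv_mem' := by
        intro a ha
        exact ⟨a⁻¹.2, fun x hx => by rw [Subgroup.coe_inv]; exact inv_smul_eq_iff.2 (ha.2 x hx).symm⟩ }
  haveI : K.Normal := ⟨fun i hi g => hconj (g : G) g.2 _ hi⟩
  haveI := hep α w
  have hne : MulAction.fixedPoints K (MulAction.orbit H w) ≠ Set.univ := by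
    intro e
    have h2 : (⟨w, MulAction.mem_orbit_self w⟩ : MulAction.orbit H w) ∈
        MulAction.fixedPoints K (MulAction.orbit H w) := e ▸ Set.mem_univ _
    exact hjw (congrArg Subtype.val (h2 ⟨⟨j, hj.1⟩, hj⟩))
  have hKtr : MulAction.IsPretransitive K (MulAction.orbit H w) :=
    MulAction.IsQuasiPreprimitive.isPretransitive_of_normal hne
  have hback : ∀ x ∈ orb u, R' x w := by
    intro x hx
    obtain ⟨g, hg, rfl⟩ := (Finset.mem_filter.1 hx).2
    obtain ⟨i, hi⟩ := MulAction.exists_smul_eq K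
      (⟨g • w, ⟨⟨g, hg⟩, rfl⟩⟩ : MulAction.orbit H w) ⟨w, MulAction.mem_orbit_self w⟩
    have hi' : ((i : H) : G) • g • w = w := congrArg Subtype.val hi
    have h2 := hR's ((i : H) : G) _ _ (hR's g _ _ huw)
    rwa [hufix _ hx _ i.2, hi'] at h2
  let P : Finset Ω := Finset.univ.filter fun x => R' x w
  have hP : P.card ≤ (orb d).card := by
    have hcnt : ∀ y, (Finset.univ.filter fun x => R' x y).card = P.card := by
      intro y
      obtain ⟨g, rfl⟩ := MulAction.exists_smul_eq G w y
      symm
      refine Finset.card_bij (fun x _ => g • x) (fun x hx => ?_) (fun _ _ _ _ e => smul_left_cancel g e)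
        (fun x hx => ⟨g⁻¹ • x, ?_, smul_inv_smul _ _⟩)
      · exact Finset.mem_filter.2 ⟨Finset.mem_univ _, hR's g _ _ (Finset.mem_filter.1 hx).2⟩
      · refine Finset.mem_filter.2 ⟨Finset.mem_univ _, ?_⟩
        simpa using hR's g⁻¹ _ _ (Finset.mem_filter.1 hx).2
    have hout : ∀ x, (Finset.univ.filter fun y => R' x y).card = (orb d).card := by
      intro x
      obtain ⟨g, rfl⟩ := MulAction.exists_smul_eq G α x
      symm
      refine Finset.card_bij (fun y _ => g • y) (fun y hy => ?_) (fun _ _ _ _ e => smul_left_cancel g e)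
        (fun y hy => ⟨g⁻¹ • y, ?_, smul_inv_smul _ _⟩)
      · exact Finset.mem_filter.2 ⟨Finset.mem_univ _, hR's g _ _ (Finset.mem_filter.1 hy).2⟩
      · refine Finset.mem_filter.2 ⟨Finset.mem_univ _, ?_⟩
        have h3 := hR's g⁻¹ _ _ (Finset.mem_filter.1 hy).2
        rwa [inv_smul_smul] at h3
    have h2 : ∑ y, (Finset.univ.filter fun x => R' x y).card = ∑ x, (Finset.univ.filter fun y => R' x y).card := by
      simp only [Finset.card_filter]
      exact Finset.sum_comm
    simp only [hcnt, hout, Finset.sum_const, smul_eq_mul] at h2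
    exact le_of_eq (Nat.eq_of_mul_eq_mul_left Fintype.card_pos h2)
  have heq : orb u = P := Finset.eq_of_subset_of_card_le
    (fun x hx => Finset.mem_filter.2 ⟨Finset.mem_univ _, hback x hx⟩) (hP.trans (hdmin u hubad))
  -- a set stabilised by two point stabilisers
  let T : Subgroup G :=
    { carrier := {g | ∀ x, g • x ∈ orb u ↔ x ∈ orb u}
      one_mem' := fun x => by rw [one_smul]
      mul_mem' := fun {a b} ha hb x => by rw [mul_smul, ha, hb]
      inv_mem' := fun {a} ha x => by rw [← ha (a⁻¹ • x), smul_inv_smul] }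
  have hαT : MulAction.stabilizer G α ≤ T := by
    intro g hg x
    simp only [orb, Finset.mem_filter, Finset.mem_univ, true_and]
    constructor
    · rintro ⟨l, hl, e⟩
      exact ⟨g⁻¹ * l, by rw [mul_smul, hl, inv_smul_eq_iff.2 (MulAction.mem_stabilizer_iff.1 hg).symm],
        by rw [mul_smul, e, inv_smul_smul]⟩
    · rintro ⟨l, hl, rfl⟩
      exact ⟨g * l, by rw [mul_smul, hl, MulAction.mem_stabilizer_iff.1 hg], mul_smul _ _ _⟩
  have hwT : MulAction.stabilizer G w ≤ T := by
    intro g hg x
    rw [heq]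
    simp only [P, Finset.mem_filter, Finset.mem_univ, true_and]
    constructor
    · intro hx
      have h3 := hR's g⁻¹ _ _ hx
      rwa [inv_smul_smul, inv_smul_eq_iff.2 (MulAction.mem_stabilizer_iff.1 hg).symm] at h3
    · intro hx
      have h3 := hR's g _ _ hx
      rwa [MulAction.mem_stabilizer_iff.1 hg] at h3
  have hTtop : T = ⊤ := by
    rcases ((MulAction.isCoatom_stabilizer_iff_preprimitive (G := G) α).2 hprim).le_iff.1 hαT with e | e
    · exact e
    · exfalso
      -- then `G_w = G_α`
      have hwα : w ≠ α := fun hwα => hjw (by rw [hwα]; exact hj.1)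
      have hsub : MulAction.stabilizer G w ≤ MulAction.stabilizer G α := e ▸ hwT
      rcases ((MulAction.isCoatom_stabilizer_iff_preprimitive (G := G) w).2 hprim).le_iff.1 hsub with e' | e'
      · exact ((MulAction.isCoatom_stabilizer_iff_preprimitive (G := G) α).2 hprim).1 e'
      · have hjs : j ∈ MulAction.stabilizer G w := e' ▸ hj.1
        exact hjw hjs
  obtain ⟨g, hg⟩ := MulAction.exists_smul_eq G u α
  have hα : α ∈ orb u := by
    rw [← hg]
    exact ((hTtop ▸ Subgroup.mem_top g : g ∈ T) u).2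
      (Finset.mem_filter.2 ⟨Finset.mem_univ _, 1, one_smul _ _, one_smul _ _⟩)
  obtain ⟨l, hl, e⟩ := (Finset.mem_filter.1 hα).2
  exact huα (smul_left_cancel l (e.trans hl.symm))

end Cfsg.Agent.S3494
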