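import Cfsg.Statements.S3495
import Mathlib.GroupTheory.GroupAction.Primitive
import Mathlib.GroupTheory.GroupAction.Quotient

set_option autoImplicit false
open Cfsg

namespace Cfsg.Agent.S3495

/-- Let a finite group G act faithfully and primitively on a finite set Ω with non-trivial point stabilizers, each acting primitively on every one of its orbits (an extremely primitive group), and suppose G has an elementary abelian normal p-subgroup N acting regularly on Ω (affine type). Then every non-trivial subgroup M of a point stabilizer G_α that is normal in G_α has the same orbits on Ω as G_α, and normalizes no subgroup of N other than 1 and N. -/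
theorem result {G : Type*} [Group G] [Finite G] {Ω : Type*} [Fintype Ω] [MulAction G Ω] [FaithfulSMul G Ω] (hprim : MulAction.IsPreprimitive G Ω) (hH : ∀ α : Ω, MulAction.stabilizer G α ≠ ⊥) (hep : ∀ (α : Ω) (ω : Ω), MulAction.IsPreprimitive (MulAction.stabilizer G α) (MulAction.orbit (MulAction.stabilizer G α) ω))
    (N : Subgroup G) [N.Normal] (hNc : IsMulCommutative N) (p : ℕ) (hp : p.Prime) (hNp : ∀ n ∈ N, n ^ p = 1)
    (hNtr : MulAction.IsPretransitive N Ω) (hNreg : ∀ ω : Ω, MulAction.stabilizer N ω = ⊥) (α : Ω) (M : Subgroup G) (hM : M ≠ ⊥) (hMle : M ≤ MulAction.stabilizer G α)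
    (hMn : MulAction.stabilizer G α ≤ Subgroup.normalizer (M : Set G)) :
    (∀ ω : Ω, MulAction.orbit M ω = MulAction.orbit (MulAction.stabilizer G α) ω) ∧
    (∀ L : Subgroup G, L ≤ N → M ≤ Subgroup.normalizer (L : Set G) → L = ⊥ ∨ L = N) := by
  haveI := hprim
  haveI := hNtr
  have hN : N.Normal := inferInstance
  set H := MulAction.stabilizer G α with hHdef
  have hpt : ∀ ω : Ω, ∃ n ∈ N, n • α = ω := fun ω =>
    let ⟨n, hn⟩ := MulAction.exists_smul_eq N α ω
    ⟨n, n.2, hn⟩
  have hreg : ∀ n ∈ N, n • α = α → n = 1 := by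
    intro n hn h
    have : (⟨n, hn⟩ : N) ∈ MulAction.stabilizer N α := h
    rw [hNreg α, Subgroup.mem_bot] at this
    exact congrArg Subtype.val this
  have hinj : ∀ n ∈ N, ∀ n' ∈ N, n • α = n' • α → n = n' := by
    intro n hn n' hn' h
    exact (inv_mul_eq_one.mp (hreg _ (mul_mem (inv_mem hn') hn)
      (by rw [mul_smul, h, inv_smul_smul]))).symm
  have hact : ∀ h ∈ H, ∀ n, h • n • α = (h * n * h⁻¹) • α := by
    intro h hh n
    have : h⁻¹ • α = α := inv_smul_eq_iff.mpr (MulAction.mem_stabilizer_iff.mp hh).symm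
    rw [mul_smul, mul_smul, this]
  haveI : Nontrivial Ω := by
    by_contra hne
    rw [not_nontrivial_iff_subsingleton] at hne
    refine hH α ((Subgroup.eq_bot_iff_forall _).mpr fun g _ => FaithfulSMul.eq_of_smul_eq_smul fun ω : Ω => ?_)
    exact Subsingleton.elim _ _
  have hmax : IsCoatom H := MulAction.IsPreprimitive.isCoatom_stabilizer_of_isPreprimitive G α
  -- the point stabiliser is irreducible on `N`
  have hirr : ∀ L : Subgroup G, L ≤ N → H ≤ Subgroup.normalizer (L : Set G) → L = ⊥ ∨ L = N := by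
    intro L hLN hHL
    rcases hmax.le_iff.mp (le_sup_right : H ≤ L ⊔ H) with h | h
    · refine Or.inr (le_antisymm hLN fun n hn => ?_)
      have hmem : n ∈ ((L ⊔ H : Subgroup G) : Set G) := h ▸ Subgroup.mem_top n
      rw [Subgroup.coe_mul_of_right_le_normalizer_left L H hHL] at hmem
      obtain ⟨l, hl, k, hk, rfl⟩ := hmem
      have hkN : k ∈ N := by simpa using mul_mem (inv_mem (hLN hl)) hn
      show l * k ∈ L
      rw [hreg k hkN hk, mul_one]
      exact hl
    · refine Or.inl ((Subgroup.eq_bot_iff_forall _).mpr fun l hl => hreg l (hLN hl) ?_)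
      exact (h ▸ Subgroup.mem_sup_left hl : l ∈ H)
  have hfaith : ∀ g ∈ H, (∀ n ∈ N, g * n = n * g) → g = 1 := by
    intro g hg hc
    refine FaithfulSMul.eq_of_smul_eq_smul fun ω : Ω => ?_
    obtain ⟨n, hn, rfl⟩ := hpt ω
    rw [hact g hg n, hc n hn, mul_inv_cancel_right, one_smul]
  -- `M` fixes no point but `α`
  have hfix : ∀ n ∈ N, (∀ m ∈ M, m • n • α = n • α) → n = 1 := by
    intro n hn hm
    have hnc : n ∈ N ⊓ Subgroup.centralizer (M : Set G) := by
      refine ⟨hn, Subgroup.mem_centralizer_iff.mpr fun m hmm => ?_⟩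
      have := hm m hmm
      rw [hact m (hMle hmm) n] at this
      exact mul_inv_eq_iff_eq_mul.mp (hinj _ (hN.conj_mem n hn m) n hn this)
    have key : ∀ g ∈ H, ∀ y ∈ N ⊓ Subgroup.centralizer (M : Set G),
        g * y * g⁻¹ ∈ N ⊓ Subgroup.centralizer (M : Set G) := by
      intro g hg y hy
      refine ⟨hN.conj_mem y hy.1 g, Subgroup.mem_centralizer_iff.mpr fun m hmm => ?_⟩
      have h1 := (Subgroup.mem_normalizer_iff.mp (hMn (inv_mem hg)) m).mp hmm
      rw [inv_inv] at h1
      have h2 := Subgroup.mem_centralizer_iff.mp hy.2 _ h1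
      calc m * (g * y * g⁻¹) = g * ((g⁻¹ * m * g) * y) * g⁻¹ := by group
        _ = g * (y * (g⁻¹ * m * g)) * g⁻¹ := by rw [h2]
        _ = _ := by group
    have hnorm : H ≤ Subgroup.normalizer ((N ⊓ Subgroup.centralizer (M : Set G) : Subgroup G) : Set G) :=
      fun h hh => Subgroup.mem_normalizer_iff.mpr fun y => ⟨key h hh y, fun hy => by
        simpa [mul_assoc] using key h⁻¹ (inv_mem hh) _ hy⟩
    rcases hirr _ inf_le_left hnorm with e | e
    · rw [e, Subgroup.mem_bot] at hnc; exact hnc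
    · exfalso
      refine hM ((Subgroup.eq_bot_iff_forall _).mpr fun m hmm => hfaith m (hMle hmm) fun y hy => ?_)
      have hy' : y ∈ N ⊓ Subgroup.centralizer (M : Set G) := e.symm ▸ hy
      exact Subgroup.mem_centralizer_iff.mp hy'.2 m hmm
  have horb : ∀ ω : Ω, MulAction.orbit M ω = MulAction.orbit H ω := by
    intro ω
    refine subset_antisymm ?_ ?_
    · rintro _ ⟨m, rfl⟩
      exact ⟨⟨m, hMle m.2⟩, rfl⟩
    by_cases hω : ω = α
    · subst hω
      rintro _ ⟨h, rfl⟩
      exact ⟨1, (one_smul M ω).trans h.2.symm⟩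
    haveI := hep α ω
    haveI : (M.subgroupOf H).Normal := (Subgroup.normal_subgroupOf_iff_le_normalizer hMle).mpr hMn
    have htr : MulAction.IsPretransitive (M.subgroupOf H) (MulAction.orbit H ω) := by
      refine MulAction.IsQuasiPreprimitive.isPretransitive_of_normal fun hun => ?_
      obtain ⟨n, hn, rfl⟩ := hpt ω
      refine hω ?_
      rw [hfix n hn fun m hmm => ?_, one_smul]
      have := hun
      exact congrArg Subtype.val
        ((Set.eq_univ_iff_forall.mp this ⟨n • α, MulAction.mem_orbit_self _⟩) ⟨⟨m, hMle hmm⟩, hmm⟩)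
    rintro y hy
    obtain ⟨g, hg⟩ := htr.exists_smul_eq ⟨ω, MulAction.mem_orbit_self _⟩ ⟨y, hy⟩
    exact ⟨⟨g.1.1, g.2⟩, congrArg Subtype.val hg⟩
  refine ⟨horb, fun L hLN hML => hirr L hLN fun h hh => ?_⟩
  have key : ∀ g ∈ H, ∀ l ∈ L, g * l * g⁻¹ ∈ L := by
    intro g hg l hl
    have h1 : g • l • α ∈ MulAction.orbit H (l • α) := ⟨⟨g, hg⟩, rfl⟩
    rw [← horb] at h1
    obtain ⟨⟨m, hm⟩, hme⟩ := h1
    have hme' : m • l • α = g • l • α := hme
    rw [hact m (hMle hm) l, hact g hg l] at hme'
    rw [← hinj _ (hN.conj_mem l (hLN hl) m) _ (hN.conj_mem l (hLN hl) g) hme']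
    exact (Subgroup.mem_normalizer_iff.mp (hML hm) l).mp hl
  refine Subgroup.mem_normalizer_iff.mpr fun y => ⟨key h hh y, fun hy => ?_⟩
  have := key h⁻¹ (inv_mem hh) _ hy
  simpa [mul_assoc] using this

end Cfsg.Agent.S3495
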