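import Cfsg.Statements.S3496
import Cfsg.Agent.S3494
import Cfsg.Agent.S3495
import Cfsg.Agent.S0547
import Cfsg.Agent.Lib.Recog.SchurField
import Mathlib.GroupTheory.Solvable
import Mathlib.GroupTheory.Exponent
-- import your own Cfsg.Agent.* helpers here

set_option autoImplicit false
open Cfsg

namespace Cfsg.Agent.S3496

/-- The soluble extremely primitive groups. Let a finite solvable group G act faithfully and primitively on a finite set Ω with p ^ d points (p prime), with non-trivial point stabilizers each acting primitively on every one of its orbits. Then there is a prime q such that every orbit of a point stabilizer G_α other than {α} has exactly q points, q divides p ^ d − 1 but no p ^ i − 1 with 0 < i < d, and G_α has a normal subgroup T of order q with G_α generated by T and one further element and the order of G_α dividing q·d (so G_α is cyclic of order q, or an extension of T by a cyclic group of order dividing d). -/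
theorem result {G : Type*} [Group G] [Finite G] {Ω : Type*} [Fintype Ω] [MulAction G Ω] [FaithfulSMul G Ω] [Group.IsSolvable G] (p d : ℕ) (hp : p.Prime) (hcard : Fintype.card Ω = p ^ d)
    (hprim : MulAction.IsPreprimitive G Ω) (hH : ∀ α : Ω, MulAction.stabilizer G α ≠ ⊥) (hep : ∀ (α : Ω) (ω : Ω), MulAction.IsPreprimitive (MulAction.stabilizer G α) (MulAction.orbit (MulAction.stabilizer G α) ω)) (α : Ω) :
    ∃ q : ℕ, q.Prime ∧ (∀ ω : Ω, ω ≠ α → Nat.card (MulAction.orbit (MulAction.stabilizer G α) ω) = q) ∧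
      q ∣ p ^ d - 1 ∧ (∀ i : ℕ, 0 < i → i < d → ¬ q ∣ p ^ i - 1) ∧
      ∃ T : Subgroup G, T ≤ MulAction.stabilizer G α ∧ MulAction.stabilizer G α ≤ Subgroup.normalizer (T : Set G) ∧ Nat.card T = q ∧
        (∃ h : G, MulAction.stabilizer G α = T ⊔ Subgroup.zpowers h) ∧ Nat.card (MulAction.stabilizer G α) ∣ q * d := by
  classical
  haveI := hprim.toIsPretransitive
  haveI := Fact.mk hp
  set H := MulAction.stabilizer G α with hHdef
  have hd : 0 < d := by
    rcases Nat.eq_zero_or_pos d with rfl | h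
    · exfalso
      rw [pow_zero] at hcard
      haveI : Subsingleton Ω := Fintype.card_le_one_iff_subsingleton.1 hcard.le
      exact hH α (eq_bot_iff.2 fun x _ => Subgroup.mem_bot.2
        (eq_of_smul_eq_smul (α := Ω) fun y => Subsingleton.elim _ _))
    · exact h
  haveI : Nontrivial H := (Subgroup.nontrivial_iff_ne_bot _).2 (hH α)
  haveI : Nontrivial G := by
    obtain ⟨a, b, hab⟩ := exists_pair_ne H
    exact ⟨⟨a, b, fun e => hab (Subtype.ext e)⟩⟩
  haveI : Nonempty Ω := ⟨α⟩
  have minNormal : ∀ {L : Subgroup G}, L ≠ ⊥ → ∃ A : Subgroup L, A ≠ ⊥ ∧ A.Normal ∧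
      (∀ K : Subgroup L, K.Normal → K ≤ A → K = ⊥ ∨ K = A) ∧
      (∀ a ∈ A, ∀ b ∈ A, a * b = b * a) ∧ ∃ r : ℕ, r.Prime ∧ ∀ a ∈ A, a ^ r = 1 := by
    intro L hL
    haveI : Nontrivial L := (Subgroup.nontrivial_iff_ne_bot _).2 hL
    obtain ⟨A, ⟨hA1, hA2⟩, hmin⟩ :=
      (Set.toFinite {A : Subgroup L | A.Normal ∧ A ≠ ⊥}).exists_minimal ⟨⊤, inferInstance, top_ne_bot⟩
    have hmin' : ∀ K : Subgroup L, K.Normal → K ≤ A → K = ⊥ ∨ K = A := fun K hK hle =>
      (eq_or_ne K ⊥).imp_right fun hne => le_antisymm hle (hmin ⟨hK, hne⟩ hle)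
    haveI := hA1
    have hab : ∀ a ∈ A, ∀ b ∈ A, a * b = b * a := by
      have hb : ⁅A, A⁆ = ⊥ := (hmin' _ inferInstance (Subgroup.commutator_le_self A)).resolve_right (by
        intro e
        haveI : Group.IsPerfect A := Subgroup.isPerfect_iff.2 e
        haveI : Nontrivial A := (Subgroup.nontrivial_iff_ne_bot _).2 hA2
        exact Group.IsPerfect.not_isSolvable A inferInstance)
      intro a ha b hb'
      exact (Subgroup.mem_centralizer_iff.1 (Subgroup.commutator_eq_bot_iff_le_centralizer.1 hb ha) b hb').symm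
    obtain ⟨r, hr, hdvd⟩ := Nat.exists_prime_and_dvd (n := Nat.card A)
      (fun e => hA2 (Subgroup.card_eq_one.1 e))
    haveI := Fact.mk hr
    let E : Subgroup L :=
      { carrier := {x | x ∈ A ∧ x ^ r = 1}
        one_mem' := ⟨A.one_mem, one_pow _⟩
        mul_mem' := fun {a b} ha hb => ⟨A.mul_mem ha.1 hb.1, by
          rw [(show Commute a b from hab a ha.1 b hb.1).mul_pow, ha.2, hb.2, one_mul]⟩
        inv_mem' := fun {a} ha => ⟨A.inv_mem ha.1, by rw [inv_pow, ha.2, inv_one]⟩ }
    have hEn : E.Normal := ⟨fun x hx g => ⟨hA1.conj_mem x hx.1 g, by rw [conj_pow, hx.2, mul_one, mul_inv_cancel]⟩⟩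
    have hEA : E = A := (hmin' E hEn fun x hx => hx.1).resolve_left fun e => by
      obtain ⟨x, hx⟩ := exists_prime_orderOf_dvd_card' r hdvd
      have hmem : (x : L) ∈ E := ⟨x.2, by
        rw [← SubgroupClass.coe_pow, ← hx, pow_orderOf_eq_one, OneMemClass.coe_one]⟩
      rw [e, Subgroup.mem_bot] at hmem
      rw [← Subgroup.orderOf_coe, hmem, orderOf_one] at hx
      exact hr.one_lt.ne hx
    exact ⟨A, hA2, hA1, hmin', hab, r, hr, fun a ha => (hEA.ge ha).2⟩
  -- the regular normal subgroup
  obtain ⟨N₀, hN₀ne, hN₀n, hN₀min, hN₀ab, r, hr, hN₀r⟩ := minNormal (L := (⊤ : Subgroup G)) top_ne_bot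
  set N : Subgroup G := N₀.map (⊤ : Subgroup G).subtype with hN
  haveI hNn : N.Normal := hN₀n.map _ (fun g => ⟨⟨g, trivial⟩, rfl⟩)
  have hNne : N ≠ ⊥ := fun e => hN₀ne ((Subgroup.map_eq_bot_iff_of_injective _ (Subgroup.subtype_injective _)).1 e)
  obtain ⟨hNtr, hNreg, p', d', hp', hd', hΩ, hNcard⟩ := S0547.result hprim N hNne (by
    intro K hK hle
    rcases hN₀min (K.subgroupOf ⊤) inferInstance (fun x hx => by
      obtain ⟨y, hy, e⟩ := hle (show (x : G) ∈ K from hx)
      rwa [Subtype.ext (show (y : G) = x from e)] at hy) with e | e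
    · left
      rw [← Subgroup.map_subgroupOf_eq_of_le (le_top : K ≤ ⊤), e, Subgroup.map_bot]
    · right
      rw [← Subgroup.map_subgroupOf_eq_of_le (le_top : K ≤ ⊤), e])
  have hNab : ∀ a ∈ N, ∀ b ∈ N, a * b = b * a := by
    rintro _ ⟨a, ha, rfl⟩ _ ⟨b, hb, rfl⟩
    exact congrArg Subtype.val (hN₀ab a ha b hb)
  have hNpd : Nat.card N = p ^ d := by rw [hNcard, ← hΩ, Nat.card_eq_fintype_card, hcard]
  have hrp : r = p := by
    obtain ⟨a, ha⟩ := exists_prime_orderOf_dvd_card' (G := N) p (hNpd ▸ dvd_pow_self p hd.ne')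
    obtain ⟨a₀, ha₀, e⟩ := a.2
    have h1 : (a : G) ^ r = 1 := by
      rw [← e, ← map_pow, hN₀r a₀ ha₀, map_one]
    have h2 := orderOf_dvd_of_pow_eq_one h1
    rw [Subgroup.orderOf_coe, ha] at h2
    exact ((Nat.prime_dvd_prime_iff_eq hp hr).1 h2).symm
  have hNp : ∀ x ∈ N, x ^ p = 1 := by
    rintro _ ⟨x, hx, rfl⟩
    rw [← map_pow, ← hrp, hN₀r x hx, map_one]
  haveI hNc : IsMulCommutative N := ⟨⟨fun a b => Subtype.ext (hNab a a.2 b b.2)⟩⟩
  -- the minimal normal subgroup of the stabiliser
  obtain ⟨A, hAne, hAn, hAmin, hAab, q, hq, hAq⟩ := minNormal (hH α)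
  have man : ∀ ω, ω ≠ α → ∀ h : H, (∀ x ∈ MulAction.orbit H ω, h • x = x) → h = 1 := fun ω hω h hfix =>
    S3494.result hprim hH hep α ω hω h hfix
  have key : ∀ ω, ω ≠ α →
      Subgroup.centralizer (A : Set H) = A ∧ Nat.card A = Nat.card (MulAction.orbit H ω) := by
    intro ω hω
    haveI := hAn
    haveI := hep α ω
    set Δ := MulAction.orbit H ω
    have hfix : MulAction.fixedPoints A Δ ≠ Set.univ := by
      intro e
      apply hAne
      rw [eq_bot_iff]
      intro a ha
      refine Subgroup.mem_bot.2 (man ω hω a fun x hx => ?_)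
      have h2 : (⟨x, hx⟩ : Δ) ∈ MulAction.fixedPoints A Δ := e ▸ Set.mem_univ _
      exact congrArg Subtype.val (h2 ⟨a, ha⟩)
    haveI : MulAction.IsPretransitive A Δ := MulAction.IsQuasiPreprimitive.isPretransitive_of_normal hfix
    let x₀ : Δ := ⟨ω, MulAction.mem_orbit_self ω⟩
    have hinj : Function.Injective fun c : Subgroup.centralizer (A : Set H) => (c : H) • x₀ := by
      intro c e hce
      refine Subtype.ext (inv_mul_eq_one.1 (man ω hω _ fun x hx => ?_))
      obtain ⟨a, ha⟩ := MulAction.exists_smul_eq A x₀ ⟨x, hx⟩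
      have hm : (c : H)⁻¹ * e ∈ Subgroup.centralizer (A : Set H) := mul_mem (inv_mem c.2) e.2
      have h3 : ((c : H)⁻¹ * e) • x₀ = x₀ := by
        rw [mul_smul, inv_smul_eq_iff]
        exact hce.symm
      have ha' : (a : H) • x₀ = ⟨x, hx⟩ := ha
      have h4 : ((c : H)⁻¹ * e) • (⟨x, hx⟩ : Δ) = ⟨x, hx⟩ := by
        rw [← ha', ← mul_smul, ← Subgroup.mem_centralizer_iff.1 hm a a.2, mul_smul, h3]
      exact congrArg Subtype.val h4
    have hsurj : Function.Surjective fun a : A => (a : H) • x₀ := fun y => MulAction.exists_smul_eq A x₀ y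
    have h1 : Nat.card Δ ≤ Nat.card A := Nat.card_le_card_of_surjective _ hsurj
    have h2 : Nat.card (Subgroup.centralizer (A : Set H)) ≤ Nat.card Δ := Nat.card_le_card_of_injective _ hinj
    have hAC : A ≤ Subgroup.centralizer (A : Set H) := fun a ha => Subgroup.mem_centralizer_iff.2 fun b hb =>
      hAab b hb a ha
    have h3 := Subgroup.eq_of_le_of_card_ge hAC (h2.trans h1)
    rw [← h3] at h2
    exact ⟨h3.symm, le_antisymm h2 h1⟩
  -- the action on `N`
  let act : H →* AddMonoid.End (Additive N) :=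
    { toFun := fun h => MonoidHom.toAdditive ((MulAut.conjNormal (h : G) : N ≃* N).toMonoidHom)
      map_one' := by
        refine AddMonoidHom.ext fun x => ?_
        show Additive.ofMul ((MulAut.conjNormal ((1 : H) : G) : N ≃* N) x.toMul) = x
        rw [OneMemClass.coe_one, map_one]; rfl
      map_mul' := fun g k => by
        refine AddMonoidHom.ext fun x => ?_
        show Additive.ofMul ((MulAut.conjNormal ((g * k : H) : G) : N ≃* N) x.toMul) =
          Additive.ofMul ((MulAut.conjNormal (g : G) : N ≃* N) ((MulAut.conjNormal (k : G) : N ≃* N) x.toMul))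
        rw [Subgroup.coe_mul, map_mul]; rfl }
  have hinj : Function.Injective act := by
    intro g k e
    apply Subtype.ext
    refine eq_of_smul_eq_smul (α := Ω) fun y => ?_
    obtain ⟨n, rfl⟩ := MulAction.exists_smul_eq N α y
    have h1 : (g : G) * n * (g : G)⁻¹ = (k : G) * n * (k : G)⁻¹ := by
      have h := congrArg (fun f : AddMonoid.End (Additive N) => f (Additive.ofMul n)) e
      have h' : (MulAut.conjNormal (g : G) : N ≃* N) n = (MulAut.conjNormal (k : G) : N ≃* N) n := h
      simpa [MulAut.conjNormal_apply] using congrArg Subtype.val h'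
    calc (g : G) • n • α = ((g : G) * n * (g : G)⁻¹) • (g : G) • α := by
          rw [mul_smul, mul_smul, inv_smul_smul]; rfl
      _ = ((k : G) * n * (k : G)⁻¹) • (k : G) • α := by
          rw [h1, MulAction.mem_stabilizer_iff.1 g.2, MulAction.mem_stabilizer_iff.1 k.2]
      _ = (k : G) • n • α := by
          rw [mul_smul, mul_smul, inv_smul_smul]; rfl
  letI : CommGroup N := { (inferInstance : Group N) with mul_comm := fun a b => Subtype.ext (hNab a a.2 b b.2) }
  obtain ⟨hcyc, hlow, hrest⟩ := SchurField.main (p := p) (d := d) act A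
    (fun x => congrArg Additive.ofMul (show (x.toMul) ^ p = 1 from Subtype.ext (hNp _ (Subtype.prop x.toMul))))
    hNpd hd hinj hAn hAab (by
      intro L hL
      have hres := (S3495.result hprim hH hep N hNc p hp hNp hNtr hNreg α (A.map H.subtype)
        (fun e => hAne ((Subgroup.map_eq_bot_iff_of_injective _ H.subtype_injective).1 e))
        (Subgroup.map_subtype_le A)
        (by
          haveI := hAn
          refine le_trans ?_ (Subgroup.le_normalizer_map _)
          rw [Subgroup.normalizer_eq_top A, ← MonoidHom.range_eq_map, Subgroup.range_subtype])).2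
        ((L.toSubgroup').map N.subtype) (Subgroup.map_subtype_le _) (by
          rintro _ ⟨a, ha, rfl⟩
          have key' : ∀ b ∈ A, ∀ x ∈ (L.toSubgroup').map N.subtype,
              (b : G) * x * (b : G)⁻¹ ∈ (L.toSubgroup').map N.subtype := by
            rintro b hb _ ⟨y, hy, rfl⟩
            refine ⟨(MulAut.conjNormal (b : G) : N ≃* N) y, hL b hb (Additive.ofMul y) hy, ?_⟩
            exact MulAut.conjNormal_apply _ _
          rw [Subgroup.mem_normalizer_iff]
          refine fun x => ⟨key' a ha x, fun hx => ?_⟩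
          have := key' a⁻¹ (A.inv_mem ha) _ hx
          simpa [mul_assoc] using this)
      rcases hres with e | e
      · left
        have e' : L.toSubgroup' = ⊥ := (Subgroup.map_eq_bot_iff_of_injective _ N.subtype_injective).1 e
        ext x
        rw [AddSubgroup.mem_bot]
        refine ⟨fun hx => ?_, fun hx => hx ▸ L.zero_mem⟩
        have h2 : x.toMul ∈ L.toSubgroup' := hx
        rw [e', Subgroup.mem_bot] at h2
        exact congrArg Additive.ofMul h2
      · right
        rw [eq_top_iff]
        intro x _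
        obtain ⟨y, hy, e'⟩ := e.ge (Subtype.prop x.toMul)
        rw [Subtype.ext (show (y : G) = _ from e')] at hy
        exact hy)
  obtain ⟨ω₀, hω₀⟩ : ∃ ω, ω ≠ α := by
    haveI : Nontrivial Ω := Fintype.one_lt_card_iff_nontrivial.1 (hcard ▸ Nat.one_lt_pow hd.ne' hp.one_lt)
    exact exists_ne α
  have hAcard : Nat.card A = q := by
    haveI := hcyc
    haveI : Nontrivial A := (Subgroup.nontrivial_iff_ne_bot _).2 hAne
    rw [← IsCyclic.exponent_eq_card]
    refine (hq.eq_one_or_self_of_dvd _ (Monoid.exponent_dvd_of_forall_pow_eq_one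
      fun a => Subtype.ext (by rw [SubgroupClass.coe_pow, hAq a a.2]; rfl))).resolve_left ?_
    exact fun e => one_ne_zero (α := ℕ) (absurd (Monoid.exp_eq_one_iff.1 e) (not_subsingleton A))
  obtain ⟨hdvd, h, hh⟩ := hrest (key ω₀ hω₀).1
  have horb : ∀ ω, ω ≠ α → Nat.card (MulAction.orbit H ω) = q := fun ω hω => by rw [← (key ω hω).2, hAcard]
  refine ⟨q, hq, horb, ?_, fun i hi hid => hAcard ▸ hlow i hi hid, A.map H.subtype, Subgroup.map_subtype_le A, ?_,
    ?_, ⟨h, ?_⟩, ?_⟩
  · rw [← hcard]
    let f : Ω → MulAction.orbitRel.Quotient H Ω := Quotient.mk''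
    have hsum := Finset.card_eq_sum_card_fiberwise (f := f) (s := Finset.univ.erase α)
      (t := (Finset.univ.erase α).image f) (fun x hx => Finset.mem_image_of_mem f hx)
    rw [Finset.card_erase_of_mem (Finset.mem_univ α), Finset.card_univ] at hsum
    rw [hsum]
    refine Finset.dvd_sum fun c hc => ?_
    obtain ⟨ω, hω, rfl⟩ := Finset.mem_image.1 hc
    have hωne := (Finset.mem_erase.1 hω).1
    rw [← horb ω hωne]
    refine dvd_of_eq ?_
    rw [Nat.card_eq_fintype_card, ← Set.toFinset_card]
    congr 1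
    ext x
    simp only [Set.mem_toFinset, Finset.mem_filter, Finset.mem_erase, Finset.mem_univ, and_true, f]
    rw [Quotient.eq'', MulAction.orbitRel_apply]
    refine ⟨fun h' => ⟨?_, h'⟩, fun h' => h'.2⟩
    rintro rfl
    obtain ⟨g, hg⟩ := h'
    have hg' : (g : G) • ω = x := hg
    exact hωne (smul_left_cancel (g : G) (hg'.trans g.2.symm))
  · haveI := hAn
    refine le_trans ?_ (Subgroup.le_normalizer_map _)
    rw [Subgroup.normalizer_eq_top A, ← MonoidHom.range_eq_map, Subgroup.range_subtype]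
  · rw [Subgroup.card_map_of_injective H.subtype_injective, hAcard]
  · conv_lhs => rw [← H.range_subtype, MonoidHom.range_eq_map, hh, Subgroup.map_sup, MonoidHom.map_zpowers]
    rfl
  · rwa [hAcard] at hdvd

end Cfsg.Agent.S3496
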