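import Cfsg.Statements.S3497
import Cfsg.Agent.S3494
import Cfsg.Agent.Lib.Components.Fitting
import Mathlib.GroupTheory.Nilpotent
import Cfsg.Agent.Lib.Recog.ElemAbAut
import Mathlib.GroupTheory.PGroup
-- import your own Cfsg.Agent.* helpers here

set_option autoImplicit false
open Cfsg

namespace Cfsg.Agent.S3497

/-- Restrictions on the point stabilizer of an extremely primitive group. Let a finite group G act faithfully and primitively on a finite set Ω with point stabilizers H = G_α whose order is neither 1 nor a prime, each acting primitively on every one of its orbits. Then H has trivial center, the Fitting subgroup F(H) is an elementary abelian p-group for some prime p, and if F(H) ≠ 1 has order p ^ e then p ^ e divides the number of points minus one and H / F(H) embeds in GL_e(p) (there is a homomorphism from H to GL_e(p) with kernel exactly F(H)). -/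
theorem result {G : Type*} [Group G] [Finite G] {Ω : Type*} [Fintype Ω] [MulAction G Ω] [FaithfulSMul G Ω] (hprim : MulAction.IsPreprimitive G Ω) (hep : ∀ (α : Ω) (ω : Ω), MulAction.IsPreprimitive (MulAction.stabilizer G α) (MulAction.orbit (MulAction.stabilizer G α) ω)) (α : Ω)
    (hH1 : MulAction.stabilizer G α ≠ ⊥) (hHp : ¬ (Nat.card (MulAction.stabilizer G α)).Prime) :
    Subgroup.center (MulAction.stabilizer G α) = ⊥ ∧
    IsMulCommutative (Cfsg.fittingSubgroup (MulAction.stabilizer G α)) ∧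
    ∃ p e : ℕ, p.Prime ∧ Nat.card (Cfsg.fittingSubgroup (MulAction.stabilizer G α)) = p ^ e ∧
      (∀ x ∈ Cfsg.fittingSubgroup (MulAction.stabilizer G α), x ^ p = 1) ∧
      (Cfsg.fittingSubgroup (MulAction.stabilizer G α) ≠ ⊥ →
        p ^ e ∣ Fintype.card Ω - 1 ∧
        ∃ φ : MulAction.stabilizer G α →* GL (Fin e) (ZMod p), φ.ker = Cfsg.fittingSubgroup (MulAction.stabilizer G α)) := by
  classical
  set H := MulAction.stabilizer G α with hH
  haveI := hprim.toIsPretransitive
  have hall : ∀ β : Ω, MulAction.stabilizer G β ≠ ⊥ := by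
    intro β e
    obtain ⟨g, rfl⟩ := MulAction.exists_smul_eq G β α
    apply hH1
    rw [eq_bot_iff]
    intro x hx
    have h2 : g⁻¹ * x * g ∈ MulAction.stabilizer G β := by
      rw [MulAction.mem_stabilizer_iff, mul_smul, mul_smul, MulAction.mem_stabilizer_iff.1 hx, inv_smul_smul]
    rw [e, Subgroup.mem_bot] at h2
    rw [Subgroup.mem_bot]
    calc x = g * (g⁻¹ * x * g) * g⁻¹ := by group
      _ = 1 := by rw [h2]; group
  have man : ∀ ω, ω ≠ α → ∀ h : H, (∀ x ∈ MulAction.orbit H ω, h • x = x) → h = 1 := fun ω hω h hfix =>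
    S3494.result hprim hall hep α ω hω h hfix
  obtain ⟨ω₀, hω₀⟩ : ∃ ω, ω ≠ α := by
    by_contra hc
    push Not at hc
    apply hH1
    rw [eq_bot_iff]
    intro x _
    exact Subgroup.mem_bot.2 (eq_of_smul_eq_smul (α := Ω) fun y => by rw [one_smul, hc (x • y), hc y])
  -- abelian normal subgroups are regular and self-centralising
  have key : ∀ A : Subgroup H, A.Normal → A ≠ ⊥ → (∀ a ∈ A, ∀ b ∈ A, a * b = b * a) → ∀ ω, ω ≠ α →
      Subgroup.centralizer (A : Set H) = A ∧ Nat.card A = Nat.card (MulAction.orbit H ω) := by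
    intro A hA hne hcomm ω hω
    haveI := hA
    haveI := hep α ω
    set Δ := MulAction.orbit H ω
    have hfix : MulAction.fixedPoints A Δ ≠ Set.univ := by
      intro e
      apply hne
      rw [eq_bot_iff]
      intro a ha
      refine Subgroup.mem_bot.2 (man ω hω a fun x hx => ?_)
      have h2 : (⟨x, hx⟩ : Δ) ∈ MulAction.fixedPoints A Δ := e ▸ Set.mem_univ _
      exact congrArg Subtype.val (h2 ⟨a, ha⟩)
    haveI : MulAction.IsPretransitive A Δ := MulAction.IsQuasiPreprimitive.isPretransitive_of_normal hfix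
    let x₀ : Δ := ⟨ω, MulAction.mem_orbit_self ω⟩
    have hinj : Function.Injective fun c : Subgroup.centralizer (A : Set H) => (c : H) • x₀ := by
      intro c d hcd
      refine Subtype.ext (inv_mul_eq_one.1 (man ω hω _ fun x hx => ?_))
      obtain ⟨a, ha⟩ := MulAction.exists_smul_eq A x₀ ⟨x, hx⟩
      have hm : (c : H)⁻¹ * d ∈ Subgroup.centralizer (A : Set H) := mul_mem (inv_mem c.2) d.2
      have h3 : ((c : H)⁻¹ * d) • x₀ = x₀ := by
        rw [mul_smul, inv_smul_eq_iff]
        exact hcd.symm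
      have ha' : (a : H) • x₀ = ⟨x, hx⟩ := ha
      have h4 : ((c : H)⁻¹ * d) • (⟨x, hx⟩ : Δ) = ⟨x, hx⟩ := by
        rw [← ha', ← mul_smul, ← Subgroup.mem_centralizer_iff.1 hm a a.2, mul_smul, h3]
      exact congrArg Subtype.val h4
    have hsurj : Function.Surjective fun a : A => (a : H) • x₀ := fun y => MulAction.exists_smul_eq A x₀ y
    have h1 : Nat.card Δ ≤ Nat.card A := Nat.card_le_card_of_surjective _ hsurj
    have h2 : Nat.card (Subgroup.centralizer (A : Set H)) ≤ Nat.card Δ := Nat.card_le_card_of_injective _ hinj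
    have hAC : A ≤ Subgroup.centralizer (A : Set H) := fun a ha => Subgroup.mem_centralizer_iff.2 fun b hb =>
      hcomm b hb a ha
    have h3 := Subgroup.eq_of_le_of_card_ge hAC (h2.trans h1)
    rw [← h3] at h2
    exact ⟨h3.symm, le_antisymm h2 h1⟩
  have hZ : Subgroup.center H = ⊥ := by
    by_contra hne
    obtain ⟨hC, -⟩ := key (Subgroup.center H) inferInstance hne
      (fun a ha b _ => (Subgroup.mem_center_iff.1 ha b).symm) ω₀ hω₀
    have hab : ∀ a b : H, a * b = b * a := fun a b => by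
      have ha : a ∈ Subgroup.center H := by
        rw [← hC]
        exact Subgroup.mem_centralizer_iff.2 fun c hc => (Subgroup.mem_center_iff.1 hc a).symm
      exact (Subgroup.mem_center_iff.1 ha b).symm
    apply hHp
    haveI : Nontrivial H := (Subgroup.nontrivial_iff_ne_bot _).2 hH1
    have hN : ∀ A : Subgroup H, A ≠ ⊥ → A = ⊤ := by
      intro A hA
      have h1 : A.Normal := ⟨fun a ha b => by rwa [hab b a, mul_inv_cancel_right]⟩
      rw [← (key A h1 hA (fun a _ b _ => hab a b) ω₀ hω₀).1, eq_top_iff]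
      exact fun a _ => Subgroup.mem_centralizer_iff.2 fun b _ => hab b a
    obtain ⟨q, hq, hdvd⟩ := Nat.exists_prime_and_dvd (n := Nat.card H)
      (fun e => hH1 (Subgroup.card_eq_one.1 e))
    haveI := Fact.mk hq
    obtain ⟨x, hx⟩ := exists_prime_orderOf_dvd_card' q hdvd
    have h5 := hN (Subgroup.zpowers x) (by
      rw [Ne, Subgroup.zpowers_eq_bot]
      intro e
      rw [e, orderOf_one] at hx
      exact hq.one_lt.ne hx)
    rw [← Nat.card_congr (Subgroup.topEquiv (G := H)).toEquiv, ← h5, Nat.card_zpowers, hx]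
    exact hq
  refine ⟨hZ, ?_⟩
  set F := Cfsg.fittingSubgroup H with hF
  haveI hFn : F.Normal := Components.fittingSubgroup_normal
  haveI hFnil : Group.IsNilpotent F := Components.fittingSubgroup_nilpotent
  by_cases hFbot : F = ⊥
  · refine ⟨⟨⟨fun a b => ?_⟩⟩, 2, 0, Nat.prime_two, by rw [hFbot, pow_zero, Subgroup.card_bot], ?_,
      fun h => absurd hFbot h⟩
    · exact Subtype.ext (by simp [show (a : H) = 1 from Subgroup.mem_bot.1 (hFbot ▸ a.2),
        show (b : H) = 1 from Subgroup.mem_bot.1 (hFbot ▸ b.2)])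
    · intro x hx
      rw [hFbot, Subgroup.mem_bot] at hx
      rw [hx, one_pow]
  -- `F` is abelian
  have hZF : ((Subgroup.center F).map F.subtype) ≠ ⊥ := by
    rw [Ne, Subgroup.map_eq_bot_iff_of_injective _ F.subtype_injective]
    haveI : Nontrivial F := (Subgroup.nontrivial_iff_ne_bot _).2 hFbot
    exact Group.IsNilpotent.center_ne_bot F
  have hFC : F = (Subgroup.center F).map F.subtype := by
    have hcomm : ∀ a ∈ (Subgroup.center F).map F.subtype, ∀ b ∈ (Subgroup.center F).map F.subtype,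
        a * b = b * a := by
      rintro _ ⟨a, ha, rfl⟩ _ ⟨b, hb, rfl⟩
      exact congrArg Subtype.val (Subgroup.mem_center_iff.1 hb a)
    obtain ⟨hC, -⟩ := key _ inferInstance hZF hcomm ω₀ hω₀
    refine le_antisymm ?_ (Subgroup.map_subtype_le _)
    rw [← hC]
    intro x hx
    refine Subgroup.mem_centralizer_iff.2 ?_
    rintro _ ⟨a, ha, rfl⟩
    exact (congrArg Subtype.val (Subgroup.mem_center_iff.1 ha ⟨x, hx⟩)).symm
  have hFab : ∀ a ∈ F, ∀ b ∈ F, a * b = b * a := by
    intro a ha b hb
    rw [hFC] at hb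
    obtain ⟨b', hb', rfl⟩ := hb
    exact congrArg Subtype.val (Subgroup.mem_center_iff.1 hb' ⟨a, ha⟩)
  obtain ⟨hCF, -⟩ := key F hFn hFbot hFab ω₀ hω₀
  -- elementary
  obtain ⟨p, hp, hpd⟩ := Nat.exists_prime_and_dvd (n := Nat.card F) (fun e => hFbot (Subgroup.card_eq_one.1 e))
  haveI := Fact.mk hp
  let E : Subgroup H :=
    { carrier := {x | x ∈ F ∧ x ^ p = 1}
      one_mem' := ⟨F.one_mem, one_pow _⟩
      mul_mem' := fun {a b} ha hb => ⟨F.mul_mem ha.1 hb.1, by
        rw [(show Commute a b from hFab a ha.1 b hb.1).mul_pow, ha.2, hb.2, one_mul]⟩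
      inv_mem' := fun {a} ha => ⟨F.inv_mem ha.1, by rw [inv_pow, ha.2, inv_one]⟩ }
  have hEn : E.Normal := ⟨fun x hx g => ⟨hFn.conj_mem x hx.1 g, by rw [conj_pow, hx.2, mul_one, mul_inv_cancel]⟩⟩
  have hEne : E ≠ ⊥ := by
    obtain ⟨x, hx⟩ := exists_prime_orderOf_dvd_card' p hpd
    intro e
    have hmem : (x : H) ∈ E := ⟨x.2, by
      rw [← SubgroupClass.coe_pow, ← hx, pow_orderOf_eq_one, OneMemClass.coe_one]⟩
    rw [e, Subgroup.mem_bot] at hmem
    rw [← Subgroup.orderOf_coe, hmem, orderOf_one] at hx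
    exact hp.one_lt.ne hx
  have hFE : ∀ x ∈ F, x ^ p = 1 := by
    obtain ⟨hCE, -⟩ := key E hEn hEne (fun a ha b hb => hFab a ha.1 b hb.1) ω₀ hω₀
    intro x hx
    have h2 : x ∈ E := by
      rw [← hCE]
      exact Subgroup.mem_centralizer_iff.2 fun y hy => hFab y hy.1 x hx
    exact h2.2
  have hFp : IsPGroup p F := fun x => ⟨1, by
    rw [pow_one]; exact Subtype.ext (by rw [SubgroupClass.coe_pow, OneMemClass.coe_one]; exact hFE x x.2)⟩
  obtain ⟨e, he⟩ := IsPGroup.iff_card.1 hFp
  haveI hFc : IsMulCommutative F := ⟨⟨fun a b => Subtype.ext (hFab a a.2 b b.2)⟩⟩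
  refine ⟨hFc, p, e, hp, he, hFE, fun _ => ⟨?_, ?_⟩⟩
  · have horb : ∀ ω, ω ≠ α → Nat.card (MulAction.orbit H ω) = p ^ e := fun ω hω =>
      ((key F hFn hFbot hFab ω hω).2.symm.trans he)
    let q : Ω → MulAction.orbitRel.Quotient H Ω := Quotient.mk''
    have hsum := Finset.card_eq_sum_card_fiberwise (f := q) (s := Finset.univ.erase α)
      (t := (Finset.univ.erase α).image q) (fun x hx => Finset.mem_image_of_mem q hx)
    rw [Finset.card_erase_of_mem (Finset.mem_univ α), Finset.card_univ] at hsum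
    rw [hsum]
    refine Finset.dvd_sum fun c hc => ?_
    obtain ⟨ω, hω, rfl⟩ := Finset.mem_image.1 hc
    have hωne := (Finset.mem_erase.1 hω).1
    rw [← horb ω hωne]
    refine dvd_of_eq ?_
    rw [Nat.card_eq_fintype_card, ← Set.toFinset_card]
    congr 1
    ext x
    simp only [Set.mem_toFinset, Finset.mem_filter, Finset.mem_erase, Finset.mem_univ, and_true, q]
    rw [Quotient.eq'', MulAction.orbitRel_apply]
    refine ⟨fun h => ⟨?_, h⟩, fun h => h.2⟩
    rintro rfl
    obtain ⟨g, hg⟩ := h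
    have hg' : (g : G) • ω = x := hg
    exact hωne (smul_left_cancel (g : G) (hg'.trans g.2.symm))
  · letI : CommGroup F :=
      { (inferInstance : Group F) with mul_comm := fun a b => Subtype.ext (hFab a a.2 b b.2) }
    obtain ⟨φ, hφ⟩ := ElemAbAut.exists_hom (F := F) (p := p)
      (fun x => Subtype.ext (hFE x x.2)) he (MulAut.conjNormal (G := H) (H := F))
    refine ⟨φ, ?_⟩
    show φ.ker = F
    refine Eq.trans ?_ hCF
    ext h
    rw [MonoidHom.mem_ker, hφ, Subgroup.mem_centralizer_iff]
    constructor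
    · intro h2 a ha
      have h3 := congrArg Subtype.val (h2 ⟨a, ha⟩)
      rw [MulAut.conjNormal_apply] at h3
      exact (mul_inv_eq_iff_eq_mul.1 h3).symm
    · intro h2 x
      apply Subtype.ext
      rw [MulAut.conjNormal_apply, ← h2 x x.2, mul_inv_cancel_right]

end Cfsg.Agent.S3497
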