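import Cfsg.Agent.Lib.PLocal.FixedPointFree

set_option autoImplicit false

namespace Cfsg.Agent.S3498

theorem result {G : Type*} [Group G] [Finite G] (T : Subgroup G) [T.Normal] (hT : IsSimpleGroup T) (hTc : ¬ IsMulCommutative T)
    (hC : Subgroup.centralizer (T : Set G) = ⊥) (H : Subgroup G) (hmax : IsCoatom H) : ¬ (Nat.card H).Prime := by
  intro hp
  set p := Nat.card H with hpdef
  haveI := Fact.mk hp
  haveI := hT
  have hZ : Subgroup.center G = ⊥ :=
    le_bot_iff.mp (hC ▸ Subgroup.center_le_centralizer (T : Set G))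
  obtain ⟨h, hh⟩ := exists_prime_orderOf_dvd_card' (G := H) p dvd_rfl
  have hh1 : (h : G) ≠ 1 := fun e => by
    rw [show h = 1 from Subtype.ext e, orderOf_one] at hh
    exact hp.one_lt.ne hh
  have hH : Subgroup.zpowers (h : G) = H := Subgroup.eq_of_le_of_card_ge (by simp)
    (by rw [Nat.card_zpowers, Subgroup.orderOf_coe, hh])
  have hor : ∀ K : Subgroup G, H ≤ K → K = H ∨ K = ⊤ := fun K hK => (hmax.le_iff.mp hK).symm
  have hcent : ∀ x, x * (h : G) = h * x → x ∈ H := by
    intro x hx
    rcases hor (Subgroup.centralizer {(h : G)}) (hH.ge.trans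
      (Subgroup.zpowers_le.mpr (Subgroup.mem_centralizer_singleton_iff.mpr rfl))) with e | e
    · rw [← e, Subgroup.mem_centralizer_singleton_iff]; exact hx
    · exfalso
      apply hh1
      rw [← Subgroup.mem_bot, ← hZ, Subgroup.mem_center_iff]
      intro g
      exact Subgroup.mem_centralizer_singleton_iff.mp (e ▸ Subgroup.mem_top g)
  by_cases hle : H ≤ T
  · have hne : T ≠ H := by
      rintro rfl
      haveI : IsCyclic T := isCyclic_of_prime_card (p := p) rfl
      exact hTc IsCyclic.isMulCommutative
    obtain rfl : T = ⊤ := (hor T hle).resolve_left hne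
    haveI : Nontrivial G := Subgroup.topEquiv.toEquiv.nontrivial_congr.mp inferInstance
    haveI : IsSimpleGroup G := Subgroup.topEquiv.symm.isSimpleGroup
    obtain ⟨P, hP⟩ := (IsPGroup.of_card (n := 1) (by rw [pow_one]) : IsPGroup p H).exists_le_sylow
    rcases hor (P : Subgroup G) hP with e | e
    · have hN : Subgroup.normalizer (P : Set G) ≤ Subgroup.centralizer (P : Set G) := by
        rcases hor (Subgroup.normalizer (P : Set G)) (hP.trans Subgroup.le_normalizer) with e' | e'
        · rw [e', ← e]
          haveI : IsCyclic (P : Subgroup G) := isCyclic_of_prime_card (p := p) (by rw [e])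
          haveI := IsCyclic.isMulCommutative (α := (P : Subgroup G))
          exact Subgroup.le_centralizer (P : Subgroup G)
        · exfalso
          rcases (Subgroup.normalizer_eq_top_iff.mp e').eq_bot_or_eq_top with h' | h' <;> rw [e] at h'
          · exact hh1 (Subgroup.mem_bot.mp (h' ▸ h.2))
          · exact hmax.1 h'
      have hc := MonoidHom.ker_transferSylow_isComplement' P hN
      rcases (MonoidHom.transferSylow P hN).normal_ker.eq_bot_or_eq_top with h' | h' <;> rw [h'] at hc
      · exact hmax.1 (e ▸ (Subgroup.isComplement'_bot_left.mp hc))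
      · have h3 := e ▸ (Subgroup.isComplement'_top_left.mp hc)
        exact hh1 (Subgroup.mem_bot.mp (h3 ▸ h.2))
    · have hpg : IsPGroup p G :=
        (e ▸ P.isPGroup' : IsPGroup p (⊤ : Subgroup G)).of_equiv Subgroup.topEquiv
      haveI := hpg.center_nontrivial
      exact (Subgroup.nontrivial_iff_ne_bot _).mp inferInstance hZ
  · have hfree : ∀ x ∈ T, (h : G) * x = x * h → x = 1 := by
      intro x hx hc
      by_contra hx1
      apply hle
      have hxH := hcent x hc.symm
      have h1 : Subgroup.zpowers x = H := Subgroup.eq_of_le_of_card_ge (by simpa using hxH) (by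
        have hd : Nat.card (Subgroup.zpowers x) ∣ p := Subgroup.card_dvd_of_le (by simpa using hxH)
        rcases (Nat.dvd_prime hp).mp hd with h' | h'
        · exact absurd (Subgroup.zpowers_eq_bot.mp (Subgroup.card_eq_one.mp h')) hx1
        · rw [h'])
      rw [← h1]; simpa using hx
    haveI := Cfsg.Agent.FixedPointFreeThompson.isNilpotent_of_conj T hp (h : G)
      (by rw [← hh, ← Subgroup.coe_pow, pow_orderOf_eq_one]; rfl) hfree
    exact hTc (IsSimpleGroup.comm_iff_isSolvable.mpr inferInstance |> fun hc => ⟨⟨hc⟩⟩)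

end Cfsg.Agent.S3498
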