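import Cfsg.Statements.S3501
import Cfsg.Agent.Lib.Recog.DerangClass
-- import your own Cfsg.Agent.* helpers here

set_option autoImplicit false
open Cfsg

namespace Cfsg.Agent.S3501

/-- Let a finite group G act faithfully and primitively on a finite set Ω with at least two points, and suppose G is not almost simple (it has no non-abelian simple normal subgroup with trivial centralizer). Then the derangements of G form a single conjugacy class if and only if G is sharply 2-transitive (2-transitive, and no non-identity element fixes two points). -/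
theorem result {G : Type*} [Group G] [Finite G] {Ω : Type*} [Fintype Ω] [MulAction G Ω] [FaithfulSMul G Ω] (hΩ : 2 ≤ Fintype.card Ω) (hprim : MulAction.IsPreprimitive G Ω) (hnas : ¬ ∃ T : Subgroup G, T.Normal ∧ IsSimpleGroup T ∧ ¬ IsMulCommutative T ∧ Subgroup.centralizer (T : Set G) = ⊥) :
    Nat.card {c : ConjClasses G // ∃ g : G, ConjClasses.mk g = c ∧ ∀ ω : Ω, g • ω ≠ ω} = 1 ↔ (MulAction.IsMultiplyPretransitive G Ω 2 ∧ ∀ g : G, g ≠ 1 → ∀ a b : Ω, a ≠ b → g • a = a → g • b ≠ b) := by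
  classical
  haveI := Fintype.ofFinite G
  have hn : 2 ≤ Nat.card Ω := by rwa [Nat.card_eq_fintype_card]
  constructor
  · intro h1
    obtain ⟨hs, ⟨⟨c₀, x₀, -, -⟩⟩⟩ := Nat.card_eq_one_iff_unique.1 h1
    have hd : ∀ x y : G, (∀ a : Ω, x • a ≠ a) → (∀ a : Ω, y • a ≠ a) →
        ∃ g, g * x * g⁻¹ = y := by
      intro x y hx hy
      have h := congrArg Subtype.val
        (hs.elim ⟨ConjClasses.mk x, x, rfl, hx⟩ ⟨ConjClasses.mk y, y, rfl, hy⟩)
      exact isConj_iff.1 (ConjClasses.mk_eq_mk_iff_isConj.1 h)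
    by_cases hreg : ∃ N : Subgroup G, N.Normal ∧ N ≠ ⊥ ∧ ∀ x ∈ N, ∀ a : Ω, x • a = a → x = 1
    · obtain ⟨N, hNn, hN, hr⟩ := hreg
      exact DerangClass.sharp_of_regular hn hprim hd N (hNn := hNn) hN hr
    push Not at hreg
    exfalso
    have : Nontrivial Ω := Finite.one_lt_card_iff_nontrivial.1 hn
    have : Nonempty Ω := inferInstance
    obtain ⟨a, b, hab⟩ := exists_pair_ne Ω
    have : (⊤ : Subgroup G) ≠ ⊥ := fun h => by
      have := hprim.toIsPretransitive
      obtain ⟨g, rfl⟩ := MulAction.exists_smul_eq G a b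
      have hg : g ∈ (⊤ : Subgroup G) := trivial
      rw [h, Subgroup.mem_bot] at hg
      exact hab (by rw [hg, one_smul])
    obtain ⟨N, -, hNmin⟩ := Finite.exists_le_minimal
      (p := fun M : Subgroup G => M.Normal ∧ M ≠ ⊥) (a := ⊤) ⟨inferInstance, this⟩
    obtain ⟨hNn, hN⟩ := hNmin.1
    have hNT := DerangClass.transitive_of_normal hprim N hN
    have hmin : ∀ M : Subgroup G, M.Normal → M ≤ N → M = ⊥ ∨ M = N := fun M hM hle =>
      (em (M = ⊥)).imp id fun h => le_antisymm hle (hNmin.2 ⟨hM, h⟩ hle)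
    obtain ⟨x, hx, a', hxa, hx1⟩ := hreg N hNn hN
    have hna : ¬ IsMulCommutative N := fun hc => hx1 (DerangClass.semiregular_of_comm N N
      (fun u hu v hv => congrArg Subtype.val (hc.is_comm.comm ⟨v, hv⟩ ⟨u, hu⟩)) hx hxa)
    obtain ⟨S, rfl⟩ := MinFactors.exists_naMin N hNn hN hmin hna
    have hk : ∃ U V : S.Fac, U ≠ V := by
      by_contra hcon
      push Not at hcon
      let U : S.Fac := ⟨S.T, 1, MinFactors.conjS_one _⟩
      have hUN : U.1 = S.N := by
        rw [← S.iSup_fac]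
        exact le_antisymm (le_iSup (fun V : S.Fac => V.1) U) (iSup_le fun V => le_of_eq (by rw [hcon V U]))
      have hsimp : IsSimpleGroup S.N := hUN ▸ S.fac_simple U
      have hC : Subgroup.centralizer (S.N : Set G) ≠ ⊥ := fun h =>
        hnas ⟨S.N, hNn, hsimp, S.nonab, h⟩
      have : (Subgroup.centralizer (S.N : Set G)).Normal := by
        have := hNn
        infer_instance
      have hCT := DerangClass.transitive_of_normal hprim _ hC
      exact hx1 (DerangClass.semiregular_of_comm S.N _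
        (fun u hu c hc => (Subgroup.mem_centralizer_iff.1 hc u hu).symm) hx hxa)
    exact DerangClass.socle_false hn hk hd
  · rintro ⟨h2, hsharp⟩
    obtain ⟨p, j, N, -, -, -, hNn, -, -, -, -, hmem, huniq⟩ :=
      PermSharp.exists_regular_normal h2 hn fun g a b hab ha hb =>
        Classical.byContradiction fun hg => hsharp g hg a b hab ha hb
    have hpt : MulAction.IsPretransitive G Ω := hprim.toIsPretransitive
    have : Nontrivial Ω := Finite.one_lt_card_iff_nontrivial.1 hn
    obtain ⟨a, b, hab⟩ := exists_pair_ne Ω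
    obtain ⟨x, hx, -⟩ := huniq a b
    have hxd : ∀ ω : Ω, x • ω ≠ ω := ((hmem x).1 hx.1).resolve_left fun h =>
      hab (by rw [← hx.2, h, one_smul])
    refine Nat.card_eq_one_iff_unique.2 ⟨⟨?_⟩, ⟨⟨_, x, rfl, hxd⟩⟩⟩
    rintro ⟨_, u, rfl, hu⟩ ⟨_, v, rfl, hv⟩
    refine Subtype.ext (ConjClasses.mk_eq_mk_iff_isConj.2 (isConj_iff.2 ?_))
    obtain ⟨g, hg, hg'⟩ := MulAction.is_two_pretransitive_iff.1 h2 (hu a).symm (hv a).symm
    refine ⟨g, (huniq a (v • a)).unique ⟨hNn.conj_mem u ((hmem u).2 (Or.inr hu)) g, ?_⟩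
      ⟨(hmem v).2 (Or.inr hv), rfl⟩⟩
    rw [mul_smul, mul_smul, show g⁻¹ • a = a from by rw [inv_smul_eq_iff]; exact hg.symm, hg']

end Cfsg.Agent.S3501
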