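import Mathlib

set_option autoImplicit false

namespace Cfsg.Agent.S3504

open Equiv.Perm

theorem cycleType_derangement {n : ℕ} {g : Equiv.Perm (Fin n)} (hg : (orderOf g).Prime)
    (hfix : ∀ i, g i ≠ i) :
    orderOf g ∣ n ∧ g.cycleType = Multiset.replicate (n / orderOf g) (orderOf g) := by
  obtain ⟨k, hk⟩ := cycleType_prime_order hg
  have hs : g.support = Finset.univ := Finset.eq_univ_of_forall fun i => mem_support.mpr (hfix i)
  have hsum := sum_cycleType g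
  rw [hk, hs, Multiset.sum_replicate, Finset.card_univ, Fintype.card_fin, smul_eq_mul] at hsum
  refine ⟨⟨k + 1, by rw [mul_comm]; exact hsum.symm⟩, ?_⟩
  rw [hk, Nat.div_eq_of_eq_mul_left hg.pos hsum.symm]

theorem exists_derangement {n p : ℕ} (hn : 0 < n) (hp : p.Prime) (hdvd : p ∣ n) :
    ∃ g : Equiv.Perm (Fin n), orderOf g = p ∧ ∀ i, g i ≠ i := by
  obtain ⟨g, hg⟩ := (exists_with_cycleType_iff (α := Fin n)).mpr
    (show (Multiset.replicate (n / p) p).sum ≤ Fintype.card (Fin n) ∧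
      ∀ a ∈ Multiset.replicate (n / p) p, 2 ≤ a from ⟨by
        rw [Multiset.sum_replicate, smul_eq_mul, Nat.div_mul_cancel hdvd, Fintype.card_fin],
      fun a ha => (Multiset.eq_of_mem_replicate ha).symm ▸ hp.two_le⟩)
  have hs : g.support = Finset.univ := Finset.eq_univ_of_card _ (by
    rw [← sum_cycleType, hg, Multiset.sum_replicate, smul_eq_mul, Nat.div_mul_cancel hdvd,
      Fintype.card_fin])
  refine ⟨g, ?_, fun i => mem_support.mp (hs ▸ Finset.mem_univ i)⟩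
  rw [← lcm_cycleType, hg]
  apply Nat.dvd_antisymm
  · exact Multiset.lcm_dvd.mpr fun b hb => (Multiset.eq_of_mem_replicate hb) ▸ dvd_rfl
  · exact Multiset.dvd_lcm (Multiset.mem_replicate.mpr
      ⟨(Nat.div_pos (Nat.le_of_dvd hn hdvd) hp.pos).ne', rfl⟩)

theorem result (n : ℕ) (hn : 5 ≤ n) :
    Nat.card {c : ConjClasses (Equiv.Perm (Fin n)) // ∃ g : Equiv.Perm (Fin n), ConjClasses.mk g = c ∧ (orderOf g).Prime ∧ ∀ i : Fin n, g i ≠ i} = 1 ↔ IsPrimePow n := by
  rw [isPrimePow_iff_unique_prime_dvd, Nat.card_eq_one_iff_unique]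
  constructor
  · rintro ⟨hsub, ⟨⟨c, g, rfl, hg, hfix⟩⟩⟩
    refine ⟨orderOf g, ⟨hg, (cycleType_derangement hg hfix).1⟩, ?_⟩
    rintro q ⟨hq, hqn⟩
    obtain ⟨g', hg', hfix'⟩ := exists_derangement (by omega) hq hqn
    have h := congrArg Subtype.val (hsub.elim
      ⟨ConjClasses.mk g', g', rfl, hg' ▸ hq, hfix'⟩ ⟨ConjClasses.mk g, g, rfl, hg, hfix⟩)
    have := (ConjClasses.mk_eq_mk_iff_isConj.mp h)
    rw [Equiv.Perm.isConj_iff_cycleType_eq] at this
    rw [← hg', ← lcm_cycleType, ← lcm_cycleType, this]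
  · rintro ⟨p, ⟨hp, hpn⟩, huniq⟩
    refine ⟨⟨?_⟩, ?_⟩
    · rintro ⟨c, g, rfl, hg, hfix⟩ ⟨c', g', rfl, hg', hfix'⟩
      apply Subtype.ext
      show ConjClasses.mk g = ConjClasses.mk g'
      rw [ConjClasses.mk_eq_mk_iff_isConj, Equiv.Perm.isConj_iff_cycleType_eq,
        (cycleType_derangement hg hfix).2, (cycleType_derangement hg' hfix').2,
        huniq _ ⟨hg, (cycleType_derangement hg hfix).1⟩, huniq _ ⟨hg', (cycleType_derangement hg' hfix').1⟩]
    · obtain ⟨g, hg, hfix⟩ := exists_derangement (by omega) hp hpn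
      exact ⟨⟨_, g, rfl, hg ▸ hp, hfix⟩⟩

end Cfsg.Agent.S3504
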