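import Mathlib

set_option autoImplicit false

namespace Cfsg.Agent.S3508

open Polynomial

theorem zmod_frob (p : ℕ) [Fact p.Prime] (e : ℕ) :
    (X : (ZMod p)[X]) ^ p ^ e - 1 = (X - 1) ^ p ^ e := by
  rw [sub_pow_char_pow, one_pow]

theorem zmod_geom (p : ℕ) [Fact p.Prime] (e : ℕ) :
    ∑ i ∈ Finset.range (p ^ e), (X : (ZMod p)[X]) ^ i = (X - 1) ^ (p ^ e - 1) := by
  have h1 : (X - 1 : (ZMod p)[X]) ≠ 0 := by
    rw [← C_1]; exact X_sub_C_ne_zero 1
  apply mul_right_cancel₀ h1
  rw [geom_sum_mul, zmod_frob, ← pow_succ, Nat.sub_add_cancel (Nat.one_le_pow _ _ (Fact.out : p.Prime).pos)]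

theorem unipotent {p m : ℕ} [Fact p.Prime] {V : Type*} [AddCommGroup V] [Module (ZMod p) V]
    [Finite V] (hcard : Nat.card V = p ^ m) (f : Module.End (ZMod p) V) (r : ℕ)
    (hper : f ^ p ^ r = 1) (e : ℕ) (he : m < p ^ e) :
    f ^ p ^ e = 1 ∧ ∑ i ∈ Finset.range (p ^ e), f ^ i = 0 := by
  have hp : p.Prime := Fact.out
  have hfin : Module.finrank (ZMod p) V = m := by
    have h2 := Module.natCard_eq_pow_finrank (K := ZMod p) (V := V)
    rw [hcard, Nat.card_zmod] at h2
    exact (Nat.pow_right_injective hp.two_le h2).symm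
  have hnil : (f - 1) ^ m = 0 := by
    have h1 : (f - 1) ^ p ^ r = 0 := by
      have h2 := congrArg (aeval f) (zmod_frob p r)
      simp only [map_sub, map_pow, aeval_X, map_one] at h2
      rw [← h2, hper, sub_self]
    have h3 := (IsNilpotent.charpoly_eq_X_pow_finrank (φ := f - 1) ⟨_, h1⟩)
    have h4 := LinearMap.aeval_self_charpoly (f - 1)
    rwa [h3, map_pow, aeval_X, hfin] at h4
  constructor
  · have h2 := congrArg (aeval f) (zmod_frob p e)
    simp only [map_sub, map_pow, aeval_X, map_one] at h2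
    rwa [pow_eq_zero_of_le (by omega) hnil, sub_eq_zero] at h2
  · have h3 := congrArg (aeval f) (zmod_geom p e)
    simp only [map_sum, map_sub, map_pow, aeval_X, map_one] at h3
    rw [h3, pow_eq_zero_of_le (by omega) hnil]

theorem unipotent' {p m : ℕ} [Fact p.Prime] {V : Type*} [AddCommGroup V] [Finite V]
    (hexp : ∀ x : V, p • x = 0) (hcard : Nat.card V = p ^ m) (f : V →+ V) (r : ℕ)
    (hper : ∀ x, f^[p ^ r] x = x) (e : ℕ) (he : m < p ^ e) :
    (∀ x, f^[p ^ e] x = x) ∧ ∀ x, ∑ i ∈ Finset.range (p ^ e), f^[i] x = 0 := by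
  haveI : Module (ZMod p) V := AddCommGroup.zmodModule hexp
  set g := f.toZModLinearMap p with hg
  have hpow : ∀ k x, (g ^ k) x = f^[k] x := fun k x => by
    rw [Module.End.pow_apply]; rfl
  obtain ⟨h1, h2⟩ := unipotent hcard g r (LinearMap.ext fun x => by rw [hpow, hper]; rfl) e he
  refine ⟨fun x => ?_, fun x => ?_⟩
  · rw [← hpow, h1]; rfl
  · have := LinearMap.congr_fun h2 x
    simpa [LinearMap.sum_apply, hpow] using this

theorem small (j : ℕ) : j + 2 < 3 ^ (j + 1) := by
  induction j with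
  | zero => norm_num
  | succ j ih => have := pow_succ 3 (j + 1); omega

theorem result {G : Type*} [Group G] [Finite G] {Ω : Type*} [Fintype Ω] [MulAction G Ω] [FaithfulSMul G Ω] (p m : ℕ) (hp : p.Prime) (hcard : Fintype.card Ω = p ^ m)
    (N : Subgroup G) [N.Normal] (hNc : IsMulCommutative N) (hNp : ∀ n ∈ N, n ^ p = 1)
    (hNtr : MulAction.IsPretransitive N Ω) (hNreg : ∀ ω : Ω, MulAction.stabilizer N ω = ⊥)
    (g : G) (r : ℕ) (hr : 1 ≤ r) (hg : orderOf g = p ^ r) :
    p ^ (r - 1) ≤ m ∧ (r = m → m ≤ 2 ∧ (2 < p → m ≤ 1)) := by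
  haveI := Fact.mk hp
  letI : CommGroup N := { (inferInstance : Group N) with mul_comm := mul_comm' }
  obtain ⟨ω⟩ : Nonempty Ω := Fintype.card_pos_iff.mp (by rw [hcard]; exact pow_pos hp.pos m)
  have hbij : Function.Bijective fun n : N => n • ω := by
    refine ⟨fun a b h => ?_, fun x => MulAction.exists_smul_eq N ω x⟩
    have h' : b⁻¹ * a ∈ MulAction.stabilizer N ω := by
      rw [MulAction.mem_stabilizer_iff, mul_smul, inv_smul_eq_iff]; exact h
    rw [hNreg, Subgroup.mem_bot, inv_mul_eq_one] at h'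
    exact h'.symm
  have hexp : ∀ x : Additive N, p • x = 0 := fun x => by
    apply Additive.toMul.injective
    apply Subtype.ext
    exact hNp _ (Additive.toMul x).2
  let c : Additive N →+ Additive N := MonoidHom.toAdditive (MulAut.conjNormal (H := N) g).toMonoidHom
  have hc : ∀ n : N, c (Additive.ofMul n) = Additive.ofMul (MulAut.conjNormal g n) := fun _ => rfl
  have hcard' : Nat.card (Additive N) = p ^ m := by
    rw [Nat.card_congr Additive.toMul, Nat.card_congr (Equiv.ofBijective _ hbij),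
      Nat.card_eq_fintype_card, hcard]
  have hcpow : ∀ (k : ℕ) (n : N),
      c^[k] (Additive.ofMul n) = Additive.ofMul (MulAut.conjNormal (g ^ k) n) := by
    intro k
    induction k with
    | zero => intro n; simp
    | succ k ih =>
      intro n
      rw [Function.iterate_succ_apply, hc, ih, pow_succ, map_mul, MulAut.mul_apply]
  obtain ⟨b, hb⟩ := hbij.2 (g • ω)
  have hact : ∀ (k : ℕ), (g ^ k) • ω =
      (Additive.toMul (∑ i ∈ Finset.range k, c^[i] (Additive.ofMul b))) • ω := by
    intro k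
    induction k with
    | zero => simp
    | succ k ih =>
      rw [Finset.sum_range_succ, hcpow, toMul_add, toMul_ofMul, mul_comm, mul_smul, ← ih]
      show g ^ (k + 1) • ω = ((MulAut.conjNormal (g ^ k) b : N) : G) • g ^ k • ω
      rw [MulAut.conjNormal_apply, smul_smul, inv_mul_cancel_right, mul_smul, pow_succ, mul_smul]
      congr 1
      exact hb.symm
  have main : p ^ (r - 1) ≤ m := by
    by_contra hlt
    set e := r - 1 with he
    obtain ⟨u1, u2⟩ := unipotent' hexp hcard' c r (fun x => by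
      rw [← ofMul_toMul x, hcpow, ← hg, pow_orderOf_eq_one, map_one]; rfl) e (by omega)
    have hgk : g ^ p ^ e = 1 := by
      apply eq_of_smul_eq_smul (α := Ω)
      intro x
      obtain ⟨n, rfl⟩ := hbij.2 x
      rw [one_smul]
      have h1 : MulAut.conjNormal (g ^ p ^ e) n = n :=
        Additive.ofMul.injective ((hcpow _ n).symm.trans (u1 _))
      have h2 : (g ^ p ^ e) • ω = ω := by
        rw [hact, u2, toMul_zero, one_smul]
      show (g ^ p ^ e) • (n : G) • ω = (n : G) • ω
      have h4 := congrArg Subtype.val h1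
      rw [MulAut.conjNormal_apply, mul_inv_eq_iff_eq_mul] at h4
      rw [smul_smul, h4, mul_smul, h2]
    have h5 := Nat.le_of_dvd (pow_pos hp.pos e) (hg ▸ orderOf_dvd_of_pow_eq_one hgk)
    rw [Nat.pow_le_pow_iff_right hp.one_lt] at h5
    omega
  refine ⟨main, fun hrm => ?_⟩
  subst hrm
  have h2 : ∀ j, j + 2 < 2 ^ (j + 1) + 1 := fun j => by
    have := Nat.lt_two_pow_self (n := j + 1); omega
  have h3 : ∀ j, j + 3 < 2 ^ (j + 2) := fun j => by
    induction j with
    | zero => norm_num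
    | succ j ih => rw [pow_succ]; omega
  refine ⟨?_, fun hp2 => ?_⟩
  · by_contra hm
    obtain ⟨j, rfl⟩ : ∃ j, r = j + 3 := ⟨r - 3, by omega⟩
    have h4 : 2 ^ (j + 2) ≤ j + 3 := (Nat.pow_le_pow_left hp.two_le (j + 2)).trans main
    have := h3 j
    omega
  · by_contra hm
    obtain ⟨j, rfl⟩ : ∃ j, r = j + 2 := ⟨r - 2, by omega⟩
    have h4 : 3 ^ (j + 1) ≤ j + 2 := (Nat.pow_le_pow_left (show 3 ≤ p by omega) (j + 1)).trans main
    have h5 := small j
    omega

end Cfsg.Agent.S3508
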