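import Mathlib

set_option autoImplicit false

namespace Cfsg.Agent.S3511

theorem result {G : Type*} [Group G] [Finite G] {Ω : Type*} [MulAction G Ω] [FaithfulSMul G Ω]
    (h : ∀ g : G, Squarefree (orderOf g) → ∃ ω : Ω, MulAction.stabilizer (Subgroup.zpowers g) ω = ⊥) (g : G) :
    ∃ ω : Ω, MulAction.stabilizer (Subgroup.zpowers g) ω = ⊥ := by
  set n := orderOf g with hn
  have hn0 : n ≠ 0 := (orderOf_pos g).ne'
  set r := ∏ q ∈ n.primeFactors, q with hr
  have hrn : r ∣ n := Nat.prod_primeFactors_dvd n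
  have hord : orderOf (g ^ (n / r)) = r := by
    rw [hn]; exact orderOf_pow_orderOf_div (orderOf_pos g).ne' hrn
  have hsq : Squarefree r := by
    rw [hr]
    refine (Nat.squarefree_iff_prime_squarefree).mpr ?_
    intro q hq hqq
    have h1 : q ∈ n.primeFactors := by
      obtain ⟨a, ha, hqa⟩ := (Prime.dvd_finsetProd_iff hq.prime _).mp ((dvd_mul_right q q).trans hqq)
      rwa [(Nat.prime_dvd_prime_iff_eq hq (Nat.prime_of_mem_primeFactors ha)).mp hqa]
    rw [← Finset.mul_prod_erase _ _ h1] at hqq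
    have h2 := Nat.dvd_of_mul_dvd_mul_left hq.pos hqq
    obtain ⟨a, ha, hqa⟩ := (Prime.dvd_finsetProd_iff hq.prime _).mp h2
    exact (Finset.ne_of_mem_erase ha) ((Nat.prime_dvd_prime_iff_eq hq
      (Nat.prime_of_mem_primeFactors (Finset.mem_of_mem_erase ha))).mp hqa).symm
  obtain ⟨ω, hω⟩ := h (g ^ (n / r)) (hord.symm ▸ hsq)
  refine ⟨ω, ?_⟩
  by_contra hne
  have hc : 1 < Nat.card (MulAction.stabilizer (Subgroup.zpowers g) ω) :=
    (Subgroup.one_lt_card_iff_ne_bot _).mpr hne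
  obtain ⟨q, hq, hqd⟩ := Nat.exists_prime_and_dvd hc.ne'
  haveI := Fact.mk hq
  obtain ⟨x, hx⟩ := exists_prime_orderOf_dvd_card' q hqd
  have hxG : orderOf (((x : Subgroup.zpowers g)) : G) = q := by
    rw [Subgroup.orderOf_coe, Subgroup.orderOf_coe, hx]
  obtain ⟨i, hi⟩ := Subgroup.mem_zpowers_iff.mp (x : Subgroup.zpowers g).2
  have hqn : q ∈ n.primeFactors := by
    refine Nat.mem_primeFactors.mpr ⟨hq, ?_, hn0⟩
    rw [← hxG, ← hi]
    exact orderOf_dvd_of_mem_zpowers (Subgroup.zpow_mem _ (Subgroup.mem_zpowers g) i)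
  obtain ⟨c, hc'⟩ : q ∣ r := Finset.dvd_prod_of_mem _ hqn
  have hdiv : ((n / r : ℕ) : ℤ) ∣ i := by
    have h1 : g ^ (i * q) = 1 := by
      rw [zpow_mul, hi, zpow_natCast, ← hxG, pow_orderOf_eq_one]
    obtain ⟨j, hj⟩ := orderOf_dvd_iff_zpow_eq_one.mpr h1
    refine ⟨c * j, ?_⟩
    apply mul_right_cancel₀ (Int.natCast_ne_zero.mpr hq.ne_zero)
    have e : (n : ℤ) = ((n / r : ℕ) : ℤ) * ((q : ℤ) * c) := by
      rw [← Nat.cast_mul, ← Nat.cast_mul, ← hc', Nat.div_mul_cancel hrn]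
    rw [hj, ← hn, e]
    ring
  obtain ⟨j, rfl⟩ := hdiv
  have hmem : ((x : Subgroup.zpowers g) : G) ∈ Subgroup.zpowers (g ^ (n / r)) :=
    ⟨j, by show (g ^ (n / r)) ^ j = _; rw [← hi, zpow_mul, zpow_natCast]⟩
  have : (⟨_, hmem⟩ : Subgroup.zpowers (g ^ (n / r))) ∈ MulAction.stabilizer (Subgroup.zpowers (g ^ (n / r))) ω := x.2
  rw [hω, Subgroup.mem_bot] at this
  have h1 := congrArg Subtype.val this
  simp only [Subgroup.coe_one] at h1
  rw [h1, orderOf_one] at hxG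
  exact hq.one_lt.ne hxG

end Cfsg.Agent.S3511
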