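import Mathlib
import Cfsg.Agent.Lib.Solvable.Basic

set_option autoImplicit false

namespace Cfsg.Agent.S3514

open MulAction

variable {G X : Type*} [Group G] [MulAction G X]

theorem card_orbit_eq (H : Subgroup G) (v : X) :
    Nat.card {u : X | ∃ h ∈ H, h • v = u} * Nat.card (H ⊓ stabilizer G v : Subgroup G) = Nat.card H := by
  have h1 : {u : X | ∃ h ∈ H, h • v = u} = orbit H v := by
    ext u
    constructor
    · rintro ⟨h, hh, rfl⟩; exact ⟨⟨h, hh⟩, rfl⟩
    · rintro ⟨⟨h, hh⟩, rfl⟩; exact ⟨h, hh, rfl⟩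
  have h2 : (stabilizer H v).map H.subtype = H ⊓ stabilizer G v := by
    ext g
    constructor
    · rintro ⟨⟨g, hg⟩, hs, rfl⟩; exact ⟨hg, hs⟩
    · rintro ⟨hg, hs⟩; exact ⟨⟨g, hg⟩, hs, rfl⟩
  rw [h1, ← h2, Nat.card_congr ((stabilizer H v).equivMapOfInjective _ H.subtype_injective).toEquiv.symm,
    ← Subgroup.index_mul_card (stabilizer H v), ← Nat.card_congr (orbitEquivQuotientStabilizer H v).symm,
    Subgroup.index_eq_card]

theorem main [Finite G] (p : ℕ) (hp : p.Prime) (H : Subgroup G)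
    (hH : ∀ v : X, ¬ p ∣ Nat.card {u : X | ∃ h ∈ H, h • v = u}) :
    (∀ K : Subgroup G, K ≤ H → H ≤ Subgroup.normalizer (K : Set G) →
        ∀ v : X, ¬ p ∣ Nat.card {u : X | ∃ k ∈ K, k • v = u}) ∧
    (∀ N : Subgroup G, ¬ p ∣ Nat.card N → H ≤ Subgroup.normalizer (N : Set G) →
        ∀ v : X, ¬ p ∣ Nat.card {u : X | ∃ x ∈ N ⊔ H, x • v = u}) := by
  constructor
  · intro K hKH hKn v hd
    apply hH v
    refine hd.trans ?_
    set S := H ⊓ stabilizer G v with hS
    set a := Nat.card {u : X | ∃ k ∈ K, k • v = u}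
    have e1 := card_orbit_eq K v
    have e2 := card_orbit_eq H v
    have e3 := SolvBasic.card_sup_mul_card_inf (N := K) (H := S) (inf_le_left.trans hKn)
    have hKS : K ⊓ S = K ⊓ stabilizer G v := by
      rw [hS, ← inf_assoc, inf_eq_left.mpr hKH]
    obtain ⟨c, hc⟩ := Subgroup.card_dvd_of_le (sup_le hKH inf_le_left : K ⊔ S ≤ H)
    rw [hKS] at e3
    have hpos : 0 < Nat.card (K ⊓ stabilizer G v : Subgroup G) := Nat.card_pos
    have hSpos : 0 < Nat.card S := Nat.card_pos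
    have e4 : Nat.card (K ⊔ S : Subgroup G) = a * Nat.card S := by
      apply Nat.eq_of_mul_eq_mul_right hpos
      rw [e3, ← e1]; ring
    refine ⟨c, Nat.eq_of_mul_eq_mul_right hSpos ?_⟩
    rw [e2, hc, e4]; ring
  · intro N hN hNn v hd
    set T := N ⊔ H with hT
    set b := Nat.card {u : X | ∃ h ∈ H, h • v = u}
    set b' := Nat.card {u : X | ∃ x ∈ T, x • v = u}
    have e1 := card_orbit_eq T v
    have e2 := card_orbit_eq H v
    have e3 := SolvBasic.card_sup_mul_card_inf (N := N) (H := H) hNn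
    obtain ⟨c, hc⟩ := Subgroup.card_dvd_of_le
      (inf_le_inf_right _ le_sup_right : H ⊓ stabilizer G v ≤ T ⊓ stabilizer G v)
    have hS : 0 < Nat.card (H ⊓ stabilizer G v : Subgroup G) := Nat.card_pos
    have : b' * (c * Nat.card (N ⊓ H : Subgroup G)) = Nat.card N * b := by
      apply Nat.eq_of_mul_eq_mul_right hS
      calc b' * (c * Nat.card (N ⊓ H : Subgroup G)) * Nat.card (H ⊓ stabilizer G v : Subgroup G)
          = b' * (Nat.card (H ⊓ stabilizer G v : Subgroup G) * c) * Nat.card (N ⊓ H : Subgroup G) := by ring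
        _ = Nat.card N * b * Nat.card (H ⊓ stabilizer G v : Subgroup G) := by
          rw [← hc, e1, e3, ← e2]; ring
    rcases hp.dvd_mul.mp ((dvd_mul_of_dvd_left hd _).trans this.dvd) with h | h
    · exact hN h
    · exact hH v h

theorem result (p : ℕ) [Fact p.Prime] {V : Type*} [AddCommGroup V] [Module (ZMod p) V] [Finite V]
    (H : Subgroup (V ≃ₗ[ZMod p] V)) (hH : ∀ v : V, ¬ p ∣ Nat.card {u : V | ∃ h ∈ H, h v = u}) :
    (∀ K : Subgroup (V ≃ₗ[ZMod p] V), K ≤ H → H ≤ Subgroup.normalizer (K : Set (V ≃ₗ[ZMod p] V)) →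
        ∀ v : V, ¬ p ∣ Nat.card {u : V | ∃ k ∈ K, k v = u}) ∧
    (∀ N : Subgroup (V ≃ₗ[ZMod p] V), ¬ p ∣ Nat.card N → H ≤ Subgroup.normalizer (N : Set (V ≃ₗ[ZMod p] V)) →
        ∀ v : V, ¬ p ∣ Nat.card {u : V | ∃ x ∈ N ⊔ H, x v = u}) := by
  haveI : Finite (V ≃ₗ[ZMod p] V) := Finite.of_injective _ DFunLike.coe_injective
  exact main (G := V ≃ₗ[ZMod p] V) (X := V) p Fact.out H hH

end Cfsg.Agent.S3514
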