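import Cfsg.Statements.S3515
import Cfsg.Agent.Lib.ThreeClosed.Affine

set_option autoImplicit false
open Cfsg

namespace Cfsg.Agent.S3515

theorem plane_two : (∀ x : Fin 2 → ZMod 2, x = 0 ∨ x = Pi.single 0 1 ∨ x = Pi.single 1 1 ∨ x = 1) ∧
    (1 : Fin 2 → ZMod 2) ≠ 0 ∧ (1 : Fin 2 → ZMod 2) ≠ Pi.single 0 1 ∧ (1 : Fin 2 → ZMod 2) ≠ Pi.single 1 1 := by
  decide


/-- Every primitive affine permutation group of degree p² is 3-closed. Let p be a prime and G a group of permutations of the plane V = F_p² consisting of affine maps x ↦ Ax + b, containing all translations, and acting primitively on V. Then any permutation σ of V that agrees on every triple of points with some element of G (σ preserves every G-orbit on ordered triples) already lies in G. -/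
theorem result (p : ℕ) [Fact p.Prime] (G : Subgroup (Equiv.Perm (Fin 2 → ZMod p)))
    (haff : (G : Set (Equiv.Perm (Fin 2 → ZMod p))) ⊆ {τ : Equiv.Perm (Fin 2 → ZMod p) | ∃ (A : (Fin 2 → ZMod p) ≃ₗ[ZMod p] (Fin 2 → ZMod p)) (b : Fin 2 → ZMod p), ∀ x, τ x = A x + b})
    (htrans : ∀ b : Fin 2 → ZMod p, ∃ g ∈ G, ∀ x, g x = x + b) (hprim : MulAction.IsPreprimitive G (Fin 2 → ZMod p))
    (σ : Equiv.Perm (Fin 2 → ZMod p)) (hσ : (∀ t : Fin 3 → (Fin 2 → ZMod p), ∃ g ∈ G, ∀ i, σ (t i) = g (t i))) : σ ∈ G := by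
  classical
  obtain ⟨g, hg, hgt⟩ := hσ ![0, Pi.single 0 1, Pi.single 1 1]
  obtain ⟨A', b', hA'⟩ := haff hg
  suffices σ = g by rwa [this]
  by_cases hp : p = 2
  · subst hp
    ext x : 1
    have h0 := hgt 0; have h1 := hgt 1; have h2 := hgt 2
    simp only [Matrix.cons_val] at h0 h1 h2
    obtain ⟨key, d0, d1, d2⟩ := plane_two
    rcases key x with rfl | rfl | rfl | rfl
    · exact h0
    · exact h1
    · exact h2
    · rcases key (g.symm (σ 1)) with h | h | h | h <;> rw [Equiv.symm_apply_eq] at h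
      · exact absurd (σ.injective (h.trans h0.symm)) d0
      · exact absurd (σ.injective (h.trans h1.symm)) d1
      · exact absurd (σ.injective (h.trans h2.symm)) d2
      · exact h
  · obtain ⟨A, b, hA⟩ := ThreeClosed.affine_of_triples hp σ fun t => by
      obtain ⟨k, hk, hkt⟩ := hσ t
      obtain ⟨B, c, hB⟩ := haff hk
      exact ⟨B, c, fun i => (hkt i).trans (hB _)⟩
    ext x : 1
    have h0 : σ 0 = g 0 := hgt 0
    have h1 : σ (Pi.single 0 1) = g (Pi.single 0 1) := hgt 1
    have h2 : σ (Pi.single 1 1) = g (Pi.single 1 1) := hgt 2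
    rw [hA, hA', map_zero, map_zero, zero_add, zero_add] at h0
    subst h0
    rw [hA, hA'] at h1 h2
    rw [hA, hA']
    have hx : x = x 0 • Pi.single 0 1 + x 1 • Pi.single 1 1 := by
      funext i; fin_cases i <;> simp
    rw [hx, map_add, map_add, map_smul, map_smul, map_smul, map_smul, add_right_cancel h1, add_right_cancel h2]

end Cfsg.Agent.S3515
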