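import Cfsg.Statements.S3516
import Cfsg.Agent.Lib.ThreeClosed.Affine

set_option autoImplicit false
open Cfsg

namespace Cfsg.Agent.S3516


/-- Let p be an odd prime, d ≥ 3, and G a group of affine permutations x ↦ Ax + b of V = F_p^d containing all translations and all maps x ↦ Ax with A of determinant 1. Then the 3-closure of G is the full affine group: a permutation σ of V agrees on every triple of points with some element of G if and only if σ is an affine map. -/
theorem result (p : ℕ) [Fact p.Prime] (hp : p ≠ 2) (d : ℕ) (hd : 3 ≤ d) (G : Subgroup (Equiv.Perm (Fin d → ZMod p)))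
    (haff : (G : Set (Equiv.Perm (Fin d → ZMod p))) ⊆ {τ : Equiv.Perm (Fin d → ZMod p) | ∃ (A : (Fin d → ZMod p) ≃ₗ[ZMod p] (Fin d → ZMod p)) (b : Fin d → ZMod p), ∀ x, τ x = A x + b})
    (htrans : ∀ b : Fin d → ZMod p, ∃ g ∈ G, ∀ x, g x = x + b)
    (hsl : ∀ A : (Fin d → ZMod p) ≃ₗ[ZMod p] (Fin d → ZMod p), LinearMap.det (A : (Fin d → ZMod p) →ₗ[ZMod p] (Fin d → ZMod p)) = 1 → ∃ g ∈ G, ∀ x, g x = A x)
    (σ : Equiv.Perm (Fin d → ZMod p)) :
    (∀ t : Fin 3 → (Fin d → ZMod p), ∃ g ∈ G, ∀ i, σ (t i) = g (t i)) ↔ σ ∈ {τ : Equiv.Perm (Fin d → ZMod p) | ∃ (A : (Fin d → ZMod p) ≃ₗ[ZMod p] (Fin d → ZMod p)) (b : Fin d → ZMod p), ∀ x, τ x = A x + b} := by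
  classical
  constructor
  · intro h
    exact ThreeClosed.affine_of_triples hp σ fun t => by
      obtain ⟨k, hk, hkt⟩ := h t
      obtain ⟨B, c, hB⟩ := haff hk
      exact ⟨B, c, fun i => (hkt i).trans (hB _)⟩
  · rintro ⟨A, b, hA⟩ t
    let V := Fin d → ZMod p
    let W : Submodule (ZMod p) V := Submodule.span (ZMod p) (Set.range ![t 1 - t 0, t 2 - t 0])
    have hW : W < ⊤ := by
      refine lt_top_iff_ne_top.2 fun hW => ?_
      have h1 : Module.finrank (ZMod p) W ≤ 2 := (finrank_range_le_card _).trans (by simp)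
      rw [hW, finrank_top, Module.finrank_fin_fun] at h1
      omega
    obtain ⟨f, hf, hfW⟩ := Submodule.exists_le_ker_of_lt_top W hW
    obtain ⟨v, hv⟩ : ∃ v, f v ≠ 0 := by
      by_contra! hall
      exact hf (LinearMap.ext hall)
    set e : ZMod p := ((LinearEquiv.det A : (ZMod p)ˣ) : ZMod p) with he
    have he0 : e ≠ 0 := Units.ne_zero _
    let w : V := ((e⁻¹ - 1) / f v) • v
    have hfw : 1 + f w = e⁻¹ := by
      show 1 + f (((e⁻¹ - 1) / f v) • v) = _
      rw [map_smul, smul_eq_mul, div_mul_cancel₀ _ hv]; ring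
    have hu : IsUnit (1 + f w) := by rw [hfw]; exact (inv_ne_zero he0).isUnit
    let D : V ≃ₗ[ZMod p] V := LinearEquiv.dilatransvection hu
    have hD : ∀ x ∈ W, D x = x := fun x hx => by
      show LinearEquiv.dilatransvection hu x = x
      rw [LinearEquiv.dilatransvection.apply, LinearMap.mem_ker.1 (hfW hx), zero_smul, add_zero]
    obtain ⟨g₁, hg₁, hg₁e⟩ := hsl (D.trans A) (by
      rw [LinearEquiv.coe_trans, LinearMap.det_comp, LinearEquiv.dilatransvection.coe_toLinearMap,
        LinearMap.transvection.det, hfw, ← LinearEquiv.coe_det, ← he, mul_inv_cancel₀ he0])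
    obtain ⟨g₂, hg₂, hg₂e⟩ := htrans (A (t 0) + b - A (D (t 0)))
    refine ⟨g₂ * g₁, mul_mem hg₂ hg₁, fun i => ?_⟩
    rw [Equiv.Perm.mul_apply, hg₁e, hg₂e, LinearEquiv.trans_apply, hA]
    have hmem : t i - t 0 ∈ W := by
      fin_cases i
      · simp [W.zero_mem]
      · exact Submodule.subset_span ⟨0, rfl⟩
      · exact Submodule.subset_span ⟨1, rfl⟩
    have := congrArg A (hD _ hmem)
    rw [map_sub, map_sub, map_sub] at this
    linear_combination -this

end Cfsg.Agent.S3516
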