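import Mathlib

set_option autoImplicit false

namespace Cfsg.Agent.S3517

variable {K V : Type*} [Field K] [AddCommGroup V] [Module K V] [FiniteDimensional K V]

theorem exists_equiv_map {ι : Type*} [Fintype ι] (u w : ι → V) (hu : LinearIndependent K u)
    (hw : LinearIndependent K w) : ∃ A : V ≃ₗ[K] V, ∀ i, A (u i) = w i := by
  obtain ⟨P', hP⟩ := Submodule.exists_isCompl (Submodule.span K (Set.range u))
  obtain ⟨Q', hQ⟩ := Submodule.exists_isCompl (Submodule.span K (Set.range w))
  let e := (Module.Basis.span hu).equiv (Module.Basis.span hw) (Equiv.refl ι)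
  have hr : Module.finrank K P' = Module.finrank K Q' := by
    have h1 := Submodule.finrank_add_eq_of_isCompl hP
    have h2 := Submodule.finrank_add_eq_of_isCompl hQ
    rw [finrank_span_eq_card hu] at h1
    rw [finrank_span_eq_card hw] at h2
    omega
  refine ⟨(Submodule.prodEquivOfIsCompl _ _ hP).symm ≪≫ₗ (e.prodCongr (LinearEquiv.ofFinrankEq _ _ hr)) ≪≫ₗ
    Submodule.prodEquivOfIsCompl _ _ hQ, fun i => ?_⟩
  have h1 : (Submodule.prodEquivOfIsCompl _ _ hP).symm (u i) = (Module.Basis.span hu i, 0) := by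
    rw [LinearEquiv.symm_apply_eq]
    simp [Submodule.coe_prodEquivOfIsCompl', Module.Basis.span_apply]
  have h2 : e (Module.Basis.span hu i) = Module.Basis.span hw i := Module.Basis.equiv_apply ..
  rw [LinearEquiv.trans_apply, LinearEquiv.trans_apply, h1, LinearEquiv.prodCongr_apply]
  simp only [h2, map_zero]
  simp [Submodule.coe_prodEquivOfIsCompl', Module.Basis.span_apply]

theorem independent_pair {d : ℕ} {a b : Fin d → ZMod 2} (ha : a ≠ 0) (hb : b ≠ 0) (hab : a ≠ b) :
    LinearIndependent (ZMod 2) ![a, b] := by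
  rw [LinearIndependent.pair_iff]
  intro s t h
  have h01 : ∀ x : ZMod 2, x = 0 ∨ x = 1 := by decide
  rcases h01 s with rfl | rfl <;> rcases h01 t with rfl | rfl <;> simp at h <;>
    first
    | exact ⟨rfl, rfl⟩
    | exact absurd h ha
    | exact absurd h hb
    | (exfalso; apply hab; funext i; have := congrFun h i; simp at this
       exact CharTwo.add_eq_zero.mp this)

theorem distinct_case {d : ℕ} (σ : Equiv.Perm (Fin d → ZMod 2)) {x y z : Fin d → ZMod 2}
    (hxy : x ≠ y) (hxz : x ≠ z) (hyz : y ≠ z) :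
    ∃ (A : (Fin d → ZMod 2) ≃ₗ[ZMod 2] (Fin d → ZMod 2)) (b : Fin d → ZMod 2),
      σ x = A x + b ∧ σ y = A y + b ∧ σ z = A z + b := by
  have hu := independent_pair (sub_ne_zero.mpr hxy.symm) (sub_ne_zero.mpr hxz.symm)
    (fun h => hyz (sub_left_injective h))
  have hw := independent_pair (sub_ne_zero.mpr (σ.injective.ne hxy.symm))
    (sub_ne_zero.mpr (σ.injective.ne hxz.symm)) (fun h => hyz (σ.injective (sub_left_injective h)))
  obtain ⟨A, hA⟩ := exists_equiv_map _ _ hu hw
  have hy : A (y - x) = σ y - σ x := hA 0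
  have hz : A (z - x) = σ z - σ x := hA 1
  refine ⟨A, σ x - A x, by abel, ?_, ?_⟩
  · rw [map_sub] at hy; rw [← sub_eq_iff_eq_add'] ; rw [← sub_eq_zero]
    rw [← sub_eq_zero] at hy; rw [← neg_eq_zero] at hy; rw [← hy]; abel
  · rw [map_sub] at hz; rw [← sub_eq_iff_eq_add'] ; rw [← sub_eq_zero]
    rw [← sub_eq_zero] at hz; rw [← neg_eq_zero] at hz; rw [← hz]; abel

theorem result (d : ℕ) (hd : 3 ≤ d) (σ : Equiv.Perm (Fin d → ZMod 2)) (t : Fin 3 → (Fin d → ZMod 2)) :
    ∃ (A : (Fin d → ZMod 2) ≃ₗ[ZMod 2] (Fin d → ZMod 2)) (b : Fin d → ZMod 2), ∀ i, σ (t i) = A (t i) + b := by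
  classical
  obtain ⟨s, hs, hcard⟩ := Finset.exists_superset_card_eq (s := Finset.univ.image t) (n := 3)
    (Finset.card_image_le.trans (by simp)) (by
      rw [Fintype.card_fun, ZMod.card, Fintype.card_fin]
      calc 3 ≤ 2 ^ 3 := by norm_num
        _ ≤ 2 ^ d := Nat.pow_le_pow_right (by omega) hd)
  obtain ⟨x, y, z, hxy, hxz, hyz, rfl⟩ := Finset.card_eq_three.mp hcard
  obtain ⟨A, b, hx, hy, hz⟩ := distinct_case σ hxy hxz hyz
  refine ⟨A, b, fun i => ?_⟩
  have := hs (Finset.mem_image_of_mem t (Finset.mem_univ i))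
  simp only [Finset.mem_insert, Finset.mem_singleton] at this
  rcases this with e | e | e <;> rw [e] <;> assumption

end Cfsg.Agent.S3517
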