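import Mathlib
import Cfsg.Prelude.Def_Perm

set_option autoImplicit false

namespace Cfsg.Agent.S3518

open Polynomial

variable {p : ℕ} [Fact p.Prime]

theorem sum_eval {P : (ZMod p)[X]} (hP : P.natDegree ≤ p - 1) :
    ∑ x : ZMod p, P.eval x = - P.coeff (p - 1) := by
  have hp := (Fact.out : p.Prime).two_le
  simp only [eval_eq_sum_range' (Nat.lt_succ_of_le hP)]
  rw [Finset.sum_comm, Finset.sum_range_succ, Finset.sum_eq_zero, zero_add, ← Finset.mul_sum]
  · have h1 : ∑ x : ZMod p, x ^ (p - 1) = -1 := by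
      rw [← Finset.add_sum_erase _ _ (Finset.mem_univ (0 : ZMod p)), zero_pow (by omega), zero_add,
        Finset.sum_congr rfl (fun x hx => ZMod.pow_card_sub_one_eq_one (Finset.ne_of_mem_erase hx)),
        Finset.sum_const, Finset.card_erase_of_mem (Finset.mem_univ _), Finset.card_univ, ZMod.card,
        nsmul_eq_mul, mul_one, Nat.cast_sub (by omega), ZMod.natCast_self, Nat.cast_one, zero_sub]
    rw [h1, mul_neg, mul_one]
  · intro i hi
    rw [← Finset.mul_sum, FiniteField.sum_pow_lt_card_sub_one, mul_zero]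
    rw [ZMod.card]
    exact Finset.mem_range.mp hi

theorem mixed_sums (f : ZMod p → ZMod p) (S : Finset (ZMod p))
    (hS : ∀ c ∈ S, Function.Injective (fun x => f x + c * x)) {i j : ℕ} (h0 : 0 < i + j)
    (hlt : i + j < S.card) (hp1 : i + j < p - 1) :
    ∑ x : ZMod p, x ^ j * f x ^ i = 0 := by
  set Q : (ZMod p)[X] := ∑ x : ZMod p, (X * C x + C (f x)) ^ (i + j) with hQ
  have hQ0 : Q = 0 := by
    refine Polynomial.eq_zero_of_natDegree_lt_card_of_eval_eq_zero' Q S (fun c hc => ?_) ?_
    · rw [hQ, eval_finsetSum]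
      simp only [eval_pow, eval_add, eval_mul, eval_C, eval_X]
      rw [Finset.sum_congr rfl (fun x _ => by rw [add_comm])]
      rw [Fintype.sum_bijective (fun x => f x + c * x) (Finite.injective_iff_bijective.mp (hS c hc))
        (fun x => (f x + c * x) ^ (i + j)) (fun y => y ^ (i + j)) (fun _ => rfl)]
      exact FiniteField.sum_pow_lt_card_sub_one _ _ (by rw [ZMod.card]; exact hp1)
    · refine lt_of_le_of_lt ?_ hlt
      rw [hQ]
      refine natDegree_sum_le_of_forall_le _ _ fun x _ => ?_
      refine natDegree_pow_le.trans ?_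
      calc (i + j) * natDegree (X * C x + C (f x)) ≤ (i + j) * 1 := by
            refine Nat.mul_le_mul_left _ ?_
            rw [natDegree_add_C]
            exact (natDegree_mul_C_le _ _).trans natDegree_X_le
        _ = i + j := mul_one _
  have hc := congrArg (fun P => coeff P j) hQ0
  simp only [hQ, finsetSum_coeff, coeff_zero] at hc
  have hterm : ∀ x : ZMod p, ((X * C x + C (f x)) ^ (i + j)).coeff j =
      ((i + j).choose j : ZMod p) * (x ^ j * f x ^ i) := by
    intro x
    rw [add_pow, finsetSum_coeff, Finset.sum_eq_single j]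
    · rw [mul_pow, ← map_pow C, ← map_pow C, ← map_natCast C, mul_assoc (X ^ j), mul_assoc (X ^ j),
        ← map_mul, ← map_mul, coeff_X_pow_mul', if_pos le_rfl, Nat.sub_self, coeff_C_zero,
        Nat.add_sub_cancel]
      ring
    · intro k _ hk
      rw [mul_pow, ← map_pow C, ← map_pow C, ← map_natCast C, mul_assoc (X ^ k), mul_assoc (X ^ k),
        ← map_mul, ← map_mul, coeff_X_pow_mul']
      split_ifs with hle
      · rw [coeff_C, if_neg (by omega)]
      · rfl
    · intro h; exact absurd (Finset.mem_range.mpr (by omega)) h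
  simp only [hterm, ← Finset.mul_sum] at hc
  refine (mul_eq_zero.mp hc).resolve_left ?_
  rw [ZMod.natCast_eq_zero_iff]
  intro hd
  have h1 := (Nat.choose_mul_factorial_mul_factorial (Nat.le_add_left j i)).symm
  have : p ∣ (i + j).factorial := h1 ▸ ((hd.mul_right _).mul_right _)
  have := (Fact.out : p.Prime).dvd_factorial.mp this
  omega

theorem affine_of_few_slopes (f : ZMod p → ZMod p) (S : Finset (ZMod p))
    (hcard : (p - 1) / 2 < S.card) (h2 : 2 < p)
    (hS : ∀ c ∈ S, Function.Injective (fun x => f x + c * x)) :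
    ∃ a b : ZMod p, ∀ x, f x = a * x + b := by
  classical
  set P := Lagrange.interpolate (Finset.univ : Finset (ZMod p)) id f with hPdef
  have hf : ∀ x, P.eval x = f x := fun x =>
    Lagrange.eval_interpolate_at_node f Function.injective_id.injOn (Finset.mem_univ x)
  have hdeg : P.natDegree ≤ p - 1 := by
    rcases eq_or_ne P 0 with h | h
    · simp [h]
    · have := Lagrange.degree_interpolate_lt (s := (Finset.univ : Finset (ZMod p))) (v := id) f Function.injective_id.injOn
      rw [← hPdef, degree_eq_natDegree h, Finset.card_univ, ZMod.card] at this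
      have := Nat.cast_lt.mp this
      omega
  set m := P.natDegree with hm
  by_cases hm1 : m ≤ 1
  · refine ⟨P.coeff 1, P.coeff 0, fun x => ?_⟩
    conv_lhs => rw [← hf x, eq_X_add_C_of_natDegree_le_one hm1]
    simp
  exfalso
  obtain ⟨i, j, hij, hi, hk⟩ : ∃ i j, i * m + j = p - 1 ∧ 0 < i ∧ i + j ≤ (p - 1) / 2 := by
    by_cases hbig : (p - 1) / 2 < m
    · obtain ⟨h, hh⟩ : Odd p := (Fact.out : p.Prime).odd_of_ne_two (by omega)
      exact ⟨1, p - 1 - m, by omega, one_pos, by omega⟩
    · refine ⟨(p - 1) / m, (p - 1) % m, ?_, Nat.div_pos hdeg (by omega), ?_⟩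
      · rw [mul_comm]; exact Nat.div_add_mod _ _
      · have hi2 : 2 ≤ (p - 1) / m := by
          rw [Nat.le_div_iff_mul_le (by omega)]; omega
        have hj := Nat.mod_lt (p - 1) (show 0 < m by omega)
        have he := Nat.div_add_mod (p - 1) m
        generalize (p - 1) / m = q at *
        generalize hr : (p - 1) % m = r at *
        rw [Nat.le_div_iff_mul_le two_pos]
        rcases eq_or_ne m 2 with h | h
        · obtain ⟨t, ht⟩ : Odd p := (Fact.out : p.Prime).odd_of_ne_two (by omega)
          rw [h] at he hr hj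
          omega
        · obtain ⟨u, rfl⟩ : ∃ u, q = u + 2 := ⟨q - 2, by omega⟩
          obtain ⟨w, hw⟩ : ∃ w, m = w + 3 := ⟨m - 3, by omega⟩
          rw [hw] at he hj
          nlinarith
  have hsum := mixed_sums f S hS (i := i) (j := j) (by omega) (by omega) (by omega)
  set R := X ^ j * P ^ i with hR
  have hP0 : P ≠ 0 := fun h => hm1 (by rw [hm, h, natDegree_zero]; omega)
  have hRdeg : R.natDegree = p - 1 := by
    rw [hR, natDegree_mul (pow_ne_zero _ X_ne_zero) (pow_ne_zero _ hP0), natDegree_X_pow, natDegree_pow,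
      ← hm, add_comm, hij]
  have := sum_eval (P := R) hRdeg.le
  simp only [hR, eval_mul, eval_pow, eval_X, hf] at this
  rw [hsum, eq_comm, neg_eq_zero] at this
  have h3 : R.leadingCoeff = 0 := by rw [leadingCoeff, hRdeg]; exact this
  exact mul_ne_zero (pow_ne_zero j X_ne_zero) (pow_ne_zero i hP0) (leadingCoeff_eq_zero.mp h3)

theorem result (p : ℕ) [Fact p.Prime] (G : Subgroup (Equiv.Perm (ZMod p))) (hG : G ≤ Cfsg.affineGroup (ZMod p))
    (htrans : ∀ b : ZMod p, ∃ g ∈ G, ∀ x, g x = x + b) :
    (G ≠ Cfsg.affineGroup (ZMod p) → ∀ σ : Equiv.Perm (ZMod p), (∀ t : Fin 2 → ZMod p, ∃ g ∈ G, ∀ i, σ (t i) = g (t i)) → σ ∈ G) ∧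
    (∀ σ : Equiv.Perm (ZMod p), (∀ t : Fin 2 → ZMod p, ∃ g ∈ Cfsg.affineGroup (ZMod p), ∀ i, σ (t i) = g (t i))) ∧
    (∀ σ : Equiv.Perm (ZMod p), (∀ t : Fin 3 → ZMod p, ∃ g ∈ Cfsg.affineGroup (ZMod p), ∀ i, σ (t i) = g (t i)) → σ ∈ Cfsg.affineGroup (ZMod p)) := by
  classical
  let aff : (ZMod p)ˣ → ZMod p → Equiv.Perm (ZMod p) := fun a b =>
    (Units.mulLeft a).trans (Equiv.addRight b)
  have haff : ∀ a b x, aff a b x = (a : ZMod p) * x + b := fun a b x => rfl
  have hmemaff : ∀ a b, aff a b ∈ Cfsg.affineGroup (ZMod p) := fun a b => ⟨a, b, haff a b⟩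
  refine ⟨?_, ?_, ?_⟩
  · intro hne σ hσ
    let U : Subgroup (ZMod p)ˣ :=
      { carrier := {a | aff a 0 ∈ G}
        one_mem' := by
          show aff 1 0 ∈ G
          rw [show aff 1 0 = 1 from Equiv.ext fun x => by simp only [haff, Units.val_one, one_mul, add_zero, Equiv.Perm.one_apply]]
          exact G.one_mem
        mul_mem' := fun {a b} ha hb => by
          show aff (a * b) 0 ∈ G
          rw [show aff (a * b) 0 = aff a 0 * aff b 0 from Equiv.ext fun x => by simp only [haff, Equiv.Perm.mul_apply, Units.val_mul]; ring]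
          exact G.mul_mem ha hb
        inv_mem' := fun {a} ha => by
          show aff a⁻¹ 0 ∈ G
          rw [show aff a⁻¹ 0 = (aff a 0)⁻¹ from
            eq_inv_of_mul_eq_one_left (Equiv.ext fun x => by
              simp only [haff, Equiv.Perm.mul_apply, Equiv.Perm.one_apply, add_zero, ← mul_assoc, Units.inv_mul, one_mul])]
          exact G.inv_mem ha }
    have hU : ∀ (a : (ZMod p)ˣ) (b : ZMod p), aff a b ∈ G ↔ a ∈ U := by
      intro a b
      obtain ⟨t, ht, ht'⟩ := htrans b
      have : aff a b = t * aff a 0 := Equiv.ext fun x => by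
        simp only [haff, Equiv.Perm.mul_apply, ht', add_zero]
      rw [this, G.mul_mem_cancel_left ht]
      exact Iff.rfl
    have hUtop : U ≠ ⊤ := by
      intro h
      apply hne
      refine le_antisymm hG fun g hg => ?_
      obtain ⟨a, b, hab⟩ := hg
      rw [show g = aff a b from Equiv.ext fun x => by rw [hab, haff]]
      exact (hU a b).mpr (h ▸ Subgroup.mem_top a)
    have hslope : ∀ x y, x ≠ y → ∃ a ∈ U, σ x - σ y = (a : ZMod p) * (x - y) := by
      intro x y _
      obtain ⟨g, hg, hg'⟩ := hσ ![x, y]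
      obtain ⟨a, b, hab⟩ := hG hg
      refine ⟨a, (hU a b).mp ?_, ?_⟩
      · rwa [← show g = aff a b from Equiv.ext fun z => by rw [hab, haff]]
      · have h0 : σ x = g x := hg' 0
        have h1 : σ y = g y := hg' 1
        rw [h0, h1, hab, hab]; ring
    have h2 : 2 < p := by
      by_contra h
      have hp2 : p = 2 := le_antisymm (by omega) (Fact.out : p.Prime).two_le
      apply hUtop
      refine Subgroup.eq_top_of_card_eq _ (le_antisymm (Subgroup.card_le_card_group U) ?_)
      have h1 : Nat.card (ZMod p)ˣ = p - 1 := by rw [Nat.card_eq_fintype_card, ZMod.card_units p]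
      have h2 : 0 < Nat.card U := Nat.card_pos
      omega
    let S : Finset (ZMod p) := Finset.univ.filter fun c => ∀ a ∈ U, ((a : (ZMod p)ˣ) : ZMod p) ≠ -c
    have hScard : (p - 1) / 2 < S.card := by
      have hU2 : 2 * Nat.card U ≤ p - 1 := by
        have h := Subgroup.card_mul_index U
        have hi : U.index ≠ 1 := fun e => hUtop (Subgroup.index_eq_one.mp e)
        have hi0 : U.index ≠ 0 := Subgroup.index_ne_zero_of_finite
        rw [← ZMod.card_units p, ← Nat.card_eq_fintype_card, ← h, mul_comm]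
        exact Nat.mul_le_mul_left _ (by omega)
      have hc : (Finset.univ.filter fun c : ZMod p => ¬ ∀ a ∈ U, ((a : (ZMod p)ˣ) : ZMod p) ≠ -c).card ≤ Nat.card U := by
        rw [Nat.card_eq_fintype_card, ← Finset.card_univ]
        refine le_trans (Finset.card_le_card (t := (Finset.univ : Finset U).image fun a : U => -((Subtype.val a : (ZMod p)ˣ) : ZMod p)) ?_) Finset.card_image_le
        intro c hc
        simp only [Finset.mem_filter, Finset.mem_univ, true_and, not_forall, not_not] at hc
        obtain ⟨a, ha, hac⟩ := hc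
        exact Finset.mem_image.mpr ⟨⟨a, ha⟩, Finset.mem_univ _, by rw [hac, neg_neg]⟩
      have htot := Finset.card_filter_add_card_filter_not (s := (Finset.univ : Finset (ZMod p)))
        (fun c => ∀ a ∈ U, ((a : (ZMod p)ˣ) : ZMod p) ≠ -c)
      rw [Finset.card_univ, ZMod.card] at htot
      show _ < (Finset.univ.filter _).card
      omega
    obtain ⟨a, b, hab⟩ := affine_of_few_slopes σ S hScard h2 (fun c hc x y hxy => by
      by_contra hne'
      obtain ⟨a, ha, he⟩ := hslope x y hne'
      refine (Finset.mem_filter.mp hc).2 a ha ?_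
      apply mul_right_cancel₀ (sub_ne_zero.mpr hne')
      rw [← he]
      have hxy' : σ x + c * x = σ y + c * y := hxy
      linear_combination hxy')
    obtain ⟨a', ha', he⟩ := hslope 1 0 one_ne_zero
    have haa : (a' : ZMod p) = a := by rw [hab, hab] at he; linear_combination -he
    rw [show σ = aff a' b from Equiv.ext fun x => by rw [hab, haff, haa]]
    exact (hU a' b).mpr ha'
  · intro σ t
    by_cases h : t 0 = t 1
    · refine ⟨aff 1 (σ (t 0) - t 0), hmemaff _ _, fun i => ?_⟩
      fin_cases i <;> simp [haff, h]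
    · have hd := sub_ne_zero.mpr h
      refine ⟨aff (Units.mk0 ((σ (t 0) - σ (t 1)) / (t 0 - t 1))
        (div_ne_zero (sub_ne_zero.mpr (σ.injective.ne h)) hd))
        (σ (t 0) - (σ (t 0) - σ (t 1)) / (t 0 - t 1) * t 0), hmemaff _ _, fun i => ?_⟩
      fin_cases i <;> simp [haff]
      field_simp
      ring
  · intro σ hσ
    obtain ⟨g, hg, hg'⟩ := hσ ![0, 1, 0]
    suffices σ = g from this ▸ hg
    ext x
    obtain ⟨k, hk, hk'⟩ := hσ ![0, 1, x]
    obtain ⟨a, b, hab⟩ := hg
    obtain ⟨c, e, hce⟩ := hk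
    have g0 : σ 0 = g 0 := hg' 0
    have g1 : σ 1 = g 1 := hg' 1
    have k0 : σ 0 = k 0 := hk' 0
    have k1 : σ 1 = k 1 := hk' 1
    have kx : σ x = k x := hk' 2
    have hbe : b = e := by rw [g0, hab, hce] at k0; simpa using k0
    have hac : (a : ZMod p) = c := by rw [g1, hab, hce, hbe] at k1; simpa using k1
    rw [kx, hab, hce, hbe, hac]

end Cfsg.Agent.S3518
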