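import Cfsg.Statements.S3521
import Cfsg.Agent.S3494
import Cfsg.Agent.S3495
import Cfsg.Agent.Lib.ExtPrimAffine.Main

set_option autoImplicit false
set_option linter.style.haveILetI false
open Cfsg

namespace Cfsg.Agent.S3521

/-- Let a finite group G that is not solvable act faithfully and primitively on a finite set with p ^ d points (p prime), with a non-trivial abelian normal subgroup acting regularly (affine type) and with non-trivial point stabilizers each acting primitively on every one of its orbits (an insoluble extremely primitive group of affine type). Then p = 2; and if moreover G is not 2-transitive, then a point stabilizer is almost simple (it has a non-abelian simple normal subgroup with trivial centralizer). -/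
theorem result {G : Type*} [Group G] [Finite G] {Ω : Type*} [Fintype Ω] [MulAction G Ω] [FaithfulSMul G Ω] (p d : ℕ) (hp : p.Prime) (hcard : Fintype.card Ω = p ^ d) (hsol : ¬ Group.IsSolvable G)
    (N : Subgroup G) [N.Normal] (hN : N ≠ ⊥) (hNc : IsMulCommutative N) (hNreg : ∀ ω : Ω, MulAction.stabilizer N ω = ⊥)
    (hprim : MulAction.IsPreprimitive G Ω) (hH : ∀ α : Ω, MulAction.stabilizer G α ≠ ⊥) (hep : ∀ (α : Ω) (ω : Ω), MulAction.IsPreprimitive (MulAction.stabilizer G α) (MulAction.orbit (MulAction.stabilizer G α) ω)) (α : Ω) :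
    p = 2 ∧ (¬ MulAction.IsMultiplyPretransitive G Ω 2 → ∃ T : Subgroup (MulAction.stabilizer G α), T.Normal ∧ IsSimpleGroup T ∧ ¬ IsMulCommutative T ∧ Subgroup.centralizer (T : Set (MulAction.stabilizer G α)) = ⊥) := by
  haveI := hprim
  haveI : MulAction.IsPretransitive G Ω := hprim.toIsPretransitive
  haveI hΩ : Nontrivial Ω := by
    by_contra hne
    rw [not_nontrivial_iff_subsingleton] at hne
    refine hH α ((Subgroup.eq_bot_iff_forall _).mpr fun g _ => FaithfulSMul.eq_of_smul_eq_smul fun ω : Ω => ?_)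
    exact Subsingleton.elim _ _
  have htrans : ∀ K : Subgroup G, K.Normal → K ≠ ⊥ → MulAction.IsPretransitive K Ω := by
    intro K hKn hK
    haveI := hKn
    refine MulAction.IsQuasiPreprimitive.isPretransitive_of_normal fun e => hK ?_
    refine (Subgroup.eq_bot_iff_forall _).mpr fun k hk => FaithfulSMul.eq_of_smul_eq_smul fun ω : Ω => ?_
    rw [one_smul]
    exact (Set.eq_univ_iff_forall.mp e ω) ⟨k, hk⟩
  haveI hNtr := htrans N inferInstance hN
  have hpt : ∀ ω : Ω, ∃ n ∈ N, n • α = ω := fun ω =>
    let ⟨n, hn⟩ := MulAction.exists_smul_eq N α ω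
    ⟨n, n.2, hn⟩
  have hreg : ∀ n ∈ N, n • α = α → n = 1 := by
    intro n hn h
    have : (⟨n, hn⟩ : N) ∈ MulAction.stabilizer N α := h
    rw [hNreg α, Subgroup.mem_bot] at this
    exact congrArg Subtype.val this
  have hcomm : ∀ a ∈ N, ∀ b ∈ N, a * b = b * a := fun a ha b hb =>
    congrArg Subtype.val (hNc.is_comm.comm (⟨a, ha⟩ : N) ⟨b, hb⟩)
  have hinjN : ∀ n ∈ N, ∀ n' ∈ N, n • α = n' • α → n = n' := by
    intro n hn n' hn' h
    exact (inv_mul_eq_one.mp (hreg _ (mul_mem (inv_mem hn') hn)
      (by rw [mul_smul, h, inv_smul_smul]))).symm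
  have hcardN : Nat.card N = p ^ d := by
    rw [← hcard, ← Nat.card_eq_fintype_card]
    refine Nat.card_congr (Equiv.ofBijective (fun n : N => (n : G) • α) ⟨fun a b h => ?_, fun ω => ?_⟩)
    · exact Subtype.ext (hinjN a a.2 b b.2 h)
    · obtain ⟨n, hn, e⟩ := hpt ω
      exact ⟨⟨n, hn⟩, e⟩
  -- the exponent is `p`
  have hNp : ∀ n ∈ N, n ^ p = 1 := by
    let P : Subgroup G :=
      { carrier := {n | n ∈ N ∧ n ^ p = 1}
        one_mem' := ⟨one_mem N, one_pow p⟩
        mul_mem' := fun {a b} ha hb => ⟨mul_mem ha.1 hb.1, by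
          rw [(show Commute a b from hcomm a ha.1 b hb.1).mul_pow, ha.2, hb.2, one_mul]⟩
        inv_mem' := fun {a} ha => ⟨inv_mem ha.1, by rw [inv_pow, ha.2, inv_one]⟩ }
    have hPn : P.Normal := ⟨fun n hn g => ⟨(inferInstance : N.Normal).conj_mem n hn.1 g, by
      rw [conj_pow, hn.2, mul_one, mul_inv_cancel]⟩⟩
    have hd : d ≠ 0 := by
      rintro rfl
      rw [pow_zero] at hcard
      obtain ⟨x, y, hxy⟩ := hΩ.exists_pair_ne
      exact hxy (Fintype.card_le_one_iff.mp hcard.le x y)
    haveI : Fact p.Prime := ⟨hp⟩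
    obtain ⟨n, hn⟩ := exists_prime_orderOf_dvd_card' (G := N) p (hcardN ▸ dvd_pow_self p hd)
    have hP : P ≠ ⊥ := by
      intro e
      have hmem : (n : G) ∈ P := ⟨n.2, by
        rw [← hn, ← Subgroup.orderOf_coe, pow_orderOf_eq_one]⟩
      rw [e, Subgroup.mem_bot] at hmem
      rw [← Subgroup.orderOf_coe, hmem, orderOf_one] at hn
      exact hp.one_lt.ne hn
    haveI := htrans P hPn hP
    intro n hn
    obtain ⟨q, hq⟩ := MulAction.exists_smul_eq P α (n • α)
    rw [← hinjN q q.2.1 n hn hq]
    exact q.2.2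
  letI : CommGroup N := { (inferInstance : Group N) with mul_comm := fun a b => hNc.is_comm.comm a b }
  let H := MulAction.stabilizer G α
  let φ : H →* AddMonoid.End (Additive N) :=
    { toFun := fun h =>
        { toFun := fun v => Additive.ofMul (MulAut.conjNormal (h : G) (Additive.toMul v))
          map_zero' := by simp
          map_add' := fun a b => by simp [map_mul] }
      map_one' := by ext v; simp; rfl
      map_mul' := fun a b => by ext v; simp [MulAut.mul_apply]; rfl }
  have hφ : ∀ (h : H) (v : Additive N),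
      ((Additive.toMul (φ h v) : N) : G) = (h : G) * (Additive.toMul v : N) * (h : G)⁻¹ := fun h v => rfl
  have hact : ∀ (h : H) (v : Additive N),
      (h : G) • ((Additive.toMul v : N) : G) • α = ((Additive.toMul (φ h v) : N) : G) • α := by
    intro h v
    have hh : (h : G)⁻¹ • α = α := inv_smul_eq_iff.mpr (MulAction.mem_stabilizer_iff.mp h.2).symm
    rw [hφ, mul_smul, mul_smul, hh]
  have hvinj : ∀ v w : Additive N, ((Additive.toMul v : N) : G) • α = ((Additive.toMul w : N) : G) • α → v = w :=
    fun v w e => Additive.toMul.injective (Subtype.ext (hinjN _ (Additive.toMul v).2 _ (Additive.toMul w).2 e))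
  have hptv : ∀ ω : Ω, ∃ v : Additive N, ((Additive.toMul v : N) : G) • α = ω := fun ω =>
    let ⟨n, hn, e⟩ := hpt ω
    ⟨Additive.ofMul ⟨n, hn⟩, e⟩
  have h95 : ∀ (M : Subgroup H), M.Normal → M ≠ ⊥ →
      (∀ ω : Ω, MulAction.orbit (M.map H.subtype) ω = MulAction.orbit H ω) ∧
      (∀ L : Subgroup G, L ≤ N → M.map H.subtype ≤ Subgroup.normalizer (L : Set G) → L = ⊥ ∨ L = N) := by
    intro M hMn hM
    refine Cfsg.Agent.S3495.result hprim hH hep N hNc p hp hNp hNtr hNreg α _
      (fun e => hM ((M.map_eq_bot_iff_of_injective H.subtype_injective).mp e)) (Subgroup.map_subtype_le M) ?_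
    intro g hg
    have key : ∀ g ∈ H, ∀ z ∈ M.map H.subtype, g * z * g⁻¹ ∈ M.map H.subtype := by
      rintro g hg _ ⟨z, hz, rfl⟩
      exact ⟨⟨g, hg⟩ * z * ⟨g, hg⟩⁻¹, hMn.conj_mem z hz _, rfl⟩
    exact Subgroup.mem_normalizer_iff.mpr fun z => ⟨key g hg z, fun h => by
      simpa [mul_assoc] using key g⁻¹ (inv_mem hg) _ h⟩
  have hC : ExtPrimAffine.Ctx φ := by
    refine ⟨?_, ?_, ?_, ?_, ?_, ?_⟩
    · refine (injective_iff_map_eq_one φ).mpr fun h hh => Subtype.ext (FaithfulSMul.eq_of_smul_eq_smul fun ω : Ω => ?_)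
      obtain ⟨v, rfl⟩ := hptv ω
      rw [hact, hh, OneMemClass.coe_one, one_smul]
      rfl
    · intro M hMn hM v h
      have hmem : (h : G) • ((Additive.toMul v : N) : G) • α ∈ MulAction.orbit H (((Additive.toMul v : N) : G) • α) :=
        ⟨h, rfl⟩
      rw [← (h95 M hMn hM).1] at hmem
      obtain ⟨⟨_, m, hm, rfl⟩, e⟩ := hmem
      refine ⟨m, hm, hvinj _ _ ?_⟩
      rw [← hact, ← hact]
      exact e
    · intro M hMn hM W hW
      let L : Subgroup G := (AddSubgroup.toSubgroup' W).map N.subtype
      have key : ∀ g ∈ M.map H.subtype, ∀ z ∈ L, g * z * g⁻¹ ∈ L := by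
        rintro _ ⟨m, hm, rfl⟩ _ ⟨n, hn, rfl⟩
        exact ⟨Additive.toMul (φ m (Additive.ofMul n)), hW m hm _ hn, rfl⟩
      rcases (h95 M hMn hM).2 L (Subgroup.map_subtype_le _) (fun g hg => Subgroup.mem_normalizer_iff.mpr fun z =>
        ⟨key g hg z, fun h => by simpa [mul_assoc] using key g⁻¹ (inv_mem hg) _ h⟩) with e | e
      · refine Or.inl (AddSubgroup.eq_bot_iff_forall _ |>.mpr fun w hw => ?_)
        have : ((Additive.toMul w : N) : G) ∈ L := ⟨Additive.toMul w, hw, rfl⟩
        rw [e, Subgroup.mem_bot] at this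
        exact Additive.toMul.injective (Subtype.ext this)
      · refine Or.inr (eq_top_iff.mpr fun w _ => ?_)
        have : ((Additive.toMul w : N) : G) ∈ L := e.symm ▸ (Additive.toMul w).2
        obtain ⟨n, hn, e'⟩ := this
        have : n = Additive.toMul w := Subtype.ext e'
        subst this
        exact hn
    · intro v hv
      set ω : Ω := ((Additive.toMul v : N) : G) • α with hω
      have hωα : ω ≠ α := fun e => hv (hvinj v 0 (by
        rw [← hω, e]
        exact (one_smul G α).symm))
      haveI := hep α ω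
      haveI : Nontrivial (MulAction.orbit H ω) := by
        by_contra hne
        rw [not_nontrivial_iff_subsingleton] at hne
        refine hH α ((Subgroup.eq_bot_iff_forall _).mpr fun g hg => ?_)
        refine congrArg Subtype.val (Cfsg.Agent.S3494.result hprim hH hep α ω hωα ⟨g, hg⟩ fun x hx => ?_)
        exact congrArg Subtype.val (Subsingleton.elim
          (⟨_, MulAction.mem_orbit_of_mem_orbit (⟨g, hg⟩ : H) hx⟩ : MulAction.orbit H ω) ⟨x, hx⟩)
      have hst : MulAction.stabilizer H (⟨ω, MulAction.mem_orbit_self ω⟩ : MulAction.orbit H ω) =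
          ExtPrimAffine.stabV φ v := by
        ext h
        rw [MulAction.mem_stabilizer_iff, ExtPrimAffine.mem_stabV, Subtype.ext_iff]
        show (h : G) • ω = ω ↔ _
        rw [hω, hact]
        exact ⟨hvinj _ _, fun e => by rw [e]⟩
      rw [← hst]
      exact MulAction.IsPreprimitive.isCoatom_stabilizer_of_isPreprimitive H _
    · intro hsolH
      haveI : Group.IsSolvable H := hsolH
      haveI : Group.IsSolvable N := Group.isSolvable_of_comm fun a b => hNc.is_comm.comm a b
      suffices Group.IsSolvable (G ⧸ N) from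
        hsol (Group.isSolvable_of_ker_le_range N.subtype (QuotientGroup.mk' N)
          (by rw [QuotientGroup.ker_mk', Subgroup.range_subtype]))
      refine Group.isSolvable_of_surjective (f := (QuotientGroup.mk' N).comp H.subtype) fun x => ?_
      obtain ⟨g, rfl⟩ := QuotientGroup.mk'_surjective N x
      obtain ⟨n, hn, e⟩ := hpt (g • α)
      refine ⟨⟨n⁻¹ * g, ?_⟩, ?_⟩
      · show (n⁻¹ * g) • α = α
        rw [mul_smul, ← e, inv_smul_smul]
      · show ((n⁻¹ * g : G) : G ⧸ N) = (g : G ⧸ N)
        rw [QuotientGroup.eq_iff_div_mem]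
        simpa [div_eq_mul_inv] using inv_mem hn
    · obtain ⟨ω, hω⟩ := exists_ne α
      obtain ⟨v, hv⟩ := hptv ω
      refine ⟨v, fun e => hω (hv.symm.trans ?_)⟩
      rw [e]
      exact one_smul G α
  have hVp : ∀ v : Additive N, p • v = 0 := fun v => Additive.toMul.injective (Subtype.ext (by
    simpa using hNp _ (Additive.toMul v).2))
  obtain rfl : p = 2 := hC.exp_two p hp hVp
  exact ⟨rfl, fun _ => hC.almost_simple fun v => by simpa [two_nsmul] using hVp v⟩

end Cfsg.Agent.S3521
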