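import Mathlib

set_option autoImplicit false

namespace Cfsg.Agent.S3524

theorem result {Ω : Type*} (G : Subgroup (Equiv.Perm Ω)) (k : ℕ) (α : Fin k → Ω)
    (hbase : ∀ g ∈ G, (∀ i, g (α i) = α i) → g = 1) (σ : Equiv.Perm Ω)
    (hσ : ∀ t : Fin (k + 1) → Ω, ∃ g ∈ G, ∀ i, σ (t i) = g (t i)) : σ ∈ G := by
  by_cases h : Nonempty Ω
  · obtain ⟨x₀⟩ := h
    obtain ⟨g, hg, hg'⟩ := hσ (Fin.snoc α x₀)
    suffices σ = g from this ▸ hg
    ext x
    obtain ⟨f, hf, hf'⟩ := hσ (Fin.snoc α x)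
    have e : f⁻¹ * g = 1 := hbase _ (G.mul_mem (G.inv_mem hf) hg) fun i => by
      have h1 := hg' i.castSucc
      have h2 := hf' i.castSucc
      rw [Fin.snoc_castSucc] at h1 h2
      rw [Equiv.Perm.mul_apply, ← h1, h2]
      exact Equiv.Perm.inv_eq_iff_eq.mpr rfl
    have h3 := hf' (Fin.last k)
    rw [Fin.snoc_last] at h3
    rw [h3, inv_mul_eq_one.mp e]
  · haveI := not_nonempty_iff.mp h
    rw [Subsingleton.elim σ 1]
    exact G.one_mem

end Cfsg.Agent.S3524
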