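import Cfsg.Statements.S3532
import Cfsg.Agent.Lib.Recog.AffineExt
import Cfsg.Agent.Lib.Recog.SL2Orders
import Mathlib.FieldTheory.Finite.GaloisField

set_option autoImplicit false
open Cfsg

namespace Cfsg.Agent.S3532

open Matrix Cfsg.Agent.AffineExt Cfsg.Agent.SL2Orders

theorem mem_range_prod {A B : Type*} [Monoid A] [Monoid B] (n : ℕ) :
    n ∈ Set.range (orderOf : A × B → ℕ) ↔
      ∃ x ∈ Set.range (orderOf : A → ℕ), ∃ y ∈ Set.range (orderOf : B → ℕ), n = Nat.lcm x y := by
  constructor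
  · rintro ⟨g, rfl⟩; exact ⟨_, ⟨g.1, rfl⟩, _, ⟨g.2, rfl⟩, Prod.orderOf g⟩
  · rintro ⟨x, ⟨a, rfl⟩, y, ⟨b, rfl⟩, rfl⟩; exact ⟨(a, b), Prod.orderOf _⟩

theorem exists_unit_orderOf {K : Type*} [Field K] [Finite K] (e : ℕ) (he : e ∣ Nat.card K - 1) :
    ∃ u : Kˣ, orderOf u = e := by
  have := Fintype.ofFinite K
  obtain ⟨g, hg⟩ := IsCyclic.exists_ofOrder_eq_natCard (α := Kˣ)
  have hg' : e ∣ orderOf g := by rwa [hg, Nat.card_units]
  exact ⟨g ^ (orderOf g / e), orderOf_pow_orderOf_div (orderOf_pos g).ne' hg'⟩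

/-- Let q ≥ 4 be a prime power and L = PSL(2,q). There is a finite solvable group with the same set of element orders as L × L (so L × L is not determined by its spectrum). -/
theorem result {F : Type*} [Field F] [Fintype F] (hF : 4 ≤ Fintype.card F) :
    ∃ (H : Type) (_ : Group H) (_ : Finite H), Group.IsSolvable H ∧
      Set.range (orderOf : H → ℕ) = Set.range (orderOf : Matrix.ProjectiveSpecialLinearGroup (Fin 2) F × Matrix.ProjectiveSpecialLinearGroup (Fin 2) F → ℕ) := by
  classical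
  obtain ⟨p, hp⟩ := CharP.exists F
  have := hp
  obtain ⟨n, hpr, hn⟩ := FiniteField.card F p
  have : Fact p.Prime := ⟨hpr⟩
  let K := GaloisField p n
  let E := GaloisField p (2 * n)
  have hK : Nat.card K = Fintype.card F := by rw [GaloisField.card p n n.ne_zero, hn]
  have hE : Nat.card E = Fintype.card F * Fintype.card F := by
    rw [GaloisField.card p (2 * n) (by positivity), hn, ← pow_add, two_mul]
  obtain ⟨u, hu⟩ := exists_unit_orderOf (K := K) (halfPred (Fintype.card F))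
    (by rw [hK]; exact Nat.div_dvd_of_dvd (Nat.gcd_dvd_left _ _))
  obtain ⟨v, hv⟩ := exists_unit_orderOf (K := E) (halfSucc (Fintype.card F))
    (by
      rw [hE]
      exact (Nat.div_dvd_of_dvd (Nat.gcd_dvd_left _ _)).trans
        ⟨Fintype.card F - 1, by rw [← Nat.sq_sub_sq, one_pow, pow_two]⟩)
  have := frob_finite u
  have := frob_finite v
  have := frob_solvable u
  have := frob_solvable v
  refine ⟨Frob u × Frob v, inferInstance, inferInstance, inferInstance, ?_⟩
  have hL : Set.range (orderOf : Matrix.ProjectiveSpecialLinearGroup (Fin 2) F → ℕ) =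
      {k | k ∣ p ∨ k ∣ halfPred (Fintype.card F) ∨ k ∣ halfSucc (Fintype.card F)} := by
    ext k
    constructor
    · rintro ⟨g, rfl⟩
      rcases psl_cases p g with h | h | h
      · exact Or.inl (orderOf_dvd_of_pow_eq_one h)
      · exact Or.inr (Or.inl (orderOf_dvd_of_pow_eq_one h))
      · exact Or.inr (Or.inr (orderOf_dvd_of_pow_eq_one h))
    · have key : ∀ e, (∃ g : Matrix.ProjectiveSpecialLinearGroup (Fin 2) F, orderOf g = e) → k ∣ e →
          k ∈ Set.range (orderOf : Matrix.ProjectiveSpecialLinearGroup (Fin 2) F → ℕ) := by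
        rintro e ⟨g, rfl⟩ hk
        exact ⟨g ^ (orderOf g / k), orderOf_pow_orderOf_div (orderOf_pos g).ne' hk⟩
      rintro (h | h | h)
      · exact key _ (exists_orderOf_char p) h
      · by_cases h4 : 2 < Fintype.card F - 1
        · exact key _ (exists_orderOf_split h4) h
        · omega
      · exact key _ (exists_orderOf_nonsplit p) h
  ext k
  rw [mem_range_prod, mem_range_prod, hL, frob_range p u, frob_range p v, hu, hv]
  constructor
  · rintro ⟨x, hx, y, hy, rfl⟩
    refine ⟨x, ?_, y, ?_, rfl⟩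
    · exact hx.imp id Or.inl
    · exact hy.imp id Or.inr
  · rintro ⟨x, hx, y, hy, rfl⟩
    rcases hx with hx | hx | hx <;> rcases hy with hy | hy | hy
    · exact ⟨_, Or.inl (Nat.lcm_dvd hx hy), 1, Or.inl (one_dvd _), (Nat.lcm_one_right _).symm⟩
    · exact ⟨y, Or.inr hy, x, Or.inl hx, Nat.lcm_comm _ _⟩
    · exact ⟨x, Or.inl hx, y, Or.inr hy, rfl⟩
    · exact ⟨x, Or.inr hx, y, Or.inl hy, rfl⟩
    · exact ⟨_, Or.inr (Nat.lcm_dvd hx hy), 1, Or.inl (one_dvd _), (Nat.lcm_one_right _).symm⟩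
    · exact ⟨x, Or.inr hx, y, Or.inr hy, rfl⟩
    · exact ⟨y, Or.inl hy, x, Or.inr hx, Nat.lcm_comm _ _⟩
    · exact ⟨y, Or.inr hy, x, Or.inr hx, Nat.lcm_comm _ _⟩
    · exact ⟨1, Or.inl (one_dvd _), _, Or.inr (Nat.lcm_dvd hx hy), (Nat.lcm_one_left _).symm⟩

end Cfsg.Agent.S3532
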