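import Cfsg.Statements.S3547
import Cfsg.Agent.Lib.Recog.Derangements

set_option autoImplicit false
open Cfsg

namespace Cfsg.Agent.S3547

open MulAction

theorem fix_prod {G Ω : Type*} [Group G] [MulAction G Ω] (g : G) :
    Nat.card (fixedBy (Ω × Ω) g) = Nat.card (fixedBy Ω g) * Nat.card (fixedBy Ω g) := by
  rw [← Nat.card_prod]
  exact Nat.card_congr
    { toFun := fun x => (⟨x.1.1, congrArg Prod.fst x.2⟩, ⟨x.1.2, congrArg Prod.snd x.2⟩)
      invFun := fun x => ⟨(x.1.1, x.2.1), Prod.ext x.1.2 x.2.2⟩
      left_inv := fun x => rfl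
      right_inv := fun x => rfl }

/-- Let G act faithfully and transitively on a finite set Ω, let D be the subgroup generated by the derangements, and let r_G and r_D be the numbers of orbits of G and of D on ordered pairs of points (the permutation ranks). Then r_D − 1 = (r_G − 1)·[G : D]. -/
theorem result {G Ω : Type*} [Group G] [Finite G] [MulAction G Ω] [FaithfulSMul G Ω] [Finite Ω]
    (htrans : MulAction.IsPretransitive G Ω) :
    Nat.card (MulAction.orbitRel.Quotient ↥(Subgroup.closure {g : G | ∀ ω : Ω, g • ω ≠ ω}) (Ω × Ω)) - 1 =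
      (Nat.card (MulAction.orbitRel.Quotient G (Ω × Ω)) - 1) * (Subgroup.closure {g : G | ∀ ω : Ω, g • ω ≠ ω}).index := by
  classical
  have h := Cfsg.Agent.Derange.main (G := G) (Ω := Ω)
    (Subgroup.closure {g : G | ∀ ω : Ω, g • ω ≠ ω}) fun g hg => Subgroup.subset_closure hg
  generalize Subgroup.closure {g : G | ∀ ω : Ω, g • ω ≠ ω} = D at h ⊢
  have := Fintype.ofFinite G
  have hG := Cfsg.Agent.Derange.sum_fix (G := G) (Ω := Ω × Ω)
  have hDs := Cfsg.Agent.Derange.sum_fix (G := D) (Ω := Ω × Ω)
  simp only [Cfsg.Agent.Derange.fixedBy_coe] at hDs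
  rw [Cfsg.Agent.Derange.sum_split D (fun g => Nat.card (fixedBy (Ω × Ω) g)), hDs] at hG
  have hc := Cfsg.Agent.Derange.sum_split D (fun _ : G => 1)
  simp only [Finset.sum_const, smul_eq_mul, mul_one, Finset.card_univ] at hc
  have hS : ∑ g ∈ Finset.univ.filter (fun g : G => g ∉ D), Nat.card (fixedBy (Ω × Ω) g) =
      (Finset.univ.filter (fun g : G => g ∉ D)).card := by
    rw [Finset.card_eq_sum_ones]
    refine Finset.sum_congr rfl fun g hg => ?_
    rw [fix_prod, h.2 g (by simpa using hg)]
  have hidx : Nat.card G = D.index * Nat.card D := D.index_mul_card.symm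
  simp only [← Nat.card_eq_fintype_card] at hc
  rw [hS] at hG
  set x := Nat.card (orbitRel.Quotient D (Ω × Ω))
  set y := Nat.card (orbitRel.Quotient G (Ω × Ω))
  set d := Nat.card D
  have hd : 0 < d := Nat.card_pos
  have key : x * d + Nat.card G = y * Nat.card G + d := by omega
  rw [hidx] at key
  have key2 : x + D.index = y * D.index + 1 := by
    apply Nat.eq_of_mul_eq_mul_right hd
    rw [Nat.add_mul, Nat.add_mul, one_mul, mul_assoc]
    exact key
  rw [Nat.sub_mul, one_mul]
  omega

end Cfsg.Agent.S3547
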