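import Cfsg.Statements.S3548
import Cfsg.Agent.Lib.Recog.Derangements

set_option autoImplicit false
open Cfsg

namespace Cfsg.Agent.S3548

open MulAction

theorem isPrimePow_of_all_conj {D : Type*} [Group D] [Finite D] (h1 : 1 < Nat.card D)
    (h : ∀ x y : D, x ≠ 1 → y ≠ 1 → orderOf x = orderOf y) : IsPrimePow (Nat.card D) := by
  obtain ⟨p, hp, hpd⟩ := Nat.exists_prime_and_dvd h1.ne'
  have : Fact p.Prime := ⟨hp⟩
  obtain ⟨x, hx⟩ := exists_prime_orderOf_dvd_card' p hpd
  have hx1 : x ≠ 1 := by
    intro h0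
    rw [h0, orderOf_one] at hx
    exact hp.ne_one hx.symm
  have hP : IsPGroup p D := IsPGroup.iff_orderOf.2 fun y => by
    by_cases hy : y = 1
    · exact ⟨0, by simp [hy]⟩
    · exact ⟨1, by rw [h y x hy hx1, hx, pow_one]⟩
  obtain ⟨k, hk⟩ := IsPGroup.iff_card.1 hP
  refine ⟨p, k, hp.prime, ?_, hk.symm⟩
  rcases Nat.eq_zero_or_pos k with rfl | hk0
  · simp [hk] at h1
  · exact hk0

/-- Let G act faithfully and transitively on a finite set with n ≥ 2 points and let D be the subgroup generated by the derangements. Then the index of D in G divides n − 1, and if it equals n − 1 then n is a prime power. -/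
theorem result {G Ω : Type*} [Group G] [Finite G] [MulAction G Ω] [FaithfulSMul G Ω] [Finite Ω]
    (htrans : MulAction.IsPretransitive G Ω) (hΩ : 2 ≤ Nat.card Ω) :
    (Subgroup.closure {g : G | ∀ ω : Ω, g • ω ≠ ω}).index ∣ Nat.card Ω - 1 ∧
    ((Subgroup.closure {g : G | ∀ ω : Ω, g • ω ≠ ω}).index = Nat.card Ω - 1 → IsPrimePow (Nat.card Ω)) := by
  have hne : Nonempty Ω := (Nat.card_pos_iff.1 (by omega : 0 < Nat.card Ω)).1
  have hmain := Cfsg.Agent.Derange.main (G := G) (Ω := Ω)
    (Subgroup.closure {g : G | ∀ ω : Ω, g • ω ≠ ω}) fun g hg => Subgroup.subset_closure hg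
  have hnormal : (Subgroup.closure {g : G | ∀ ω : Ω, g • ω ≠ ω}).Normal := by
    constructor
    intro n hn g
    induction hn using Subgroup.closure_induction with
    | mem x hx =>
      refine Subgroup.subset_closure fun ω hω => ?_
      have hx' : x • (g⁻¹ • ω) ≠ g⁻¹ • ω := hx _
      apply hx'
      rw [mul_smul, mul_smul, smul_eq_iff_eq_inv_smul] at hω
      exact hω
    | one => simp
    | mul x y _ _ hx hy =>
      have := Subgroup.mul_mem _ hx hy
      rwa [show g * x * g⁻¹ * (g * y * g⁻¹) = g * (x * y) * g⁻¹ by group] at this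
    | inv x _ hx =>
      have := Subgroup.inv_mem _ hx
      rwa [show (g * x * g⁻¹)⁻¹ = g * x⁻¹ * g⁻¹ by group] at this
  generalize Subgroup.closure {g : G | ∀ ω : Ω, g • ω ≠ ω} = D at hmain hnormal ⊢
  obtain ⟨hDt, hDone⟩ := hmain
  let a : Ω := hne.some
  have hone : ∀ g : G, g ∉ D → ∀ x y : Ω, g • x = x → g • y = y → x = y :=
    fun g hg x y hx hy => Cfsg.Agent.Derange.unique_fixed (hDone g hg) hx hy
  refine ⟨Cfsg.Agent.Derange.index_dvd_card_sub_one D hone a, fun he => ?_⟩
  have hsub : ∀ x : Ω, orbit (stabilizer G a) x ⊆ {y : Ω | y ≠ a} ∨ x = a := by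
    intro x
    refine or_iff_not_imp_right.2 fun hx y hy => ?_
    obtain ⟨h, rfl⟩ := mem_orbit_iff.1 hy
    intro hha
    apply hx
    have h2 : (h : G)⁻¹ • a = a := inv_smul_eq_iff.2 (h.2 : (h : G) • a = a).symm
    have hha' : (h : G) • x = a := hha
    rw [← inv_smul_smul (h : G) x, hha', h2]
  have hcompl : ({y : Ω | y ≠ a} : Set Ω).ncard = Nat.card Ω - 1 := by
    have hh := Set.ncard_compl ({a} : Set Ω)
    rw [Set.ncard_singleton] at hh
    exact hh
  have horb : ∀ x : Ω, x ≠ a → orbit (stabilizer G a) x = {y : Ω | y ≠ a} := by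
    intro x hx
    have hsx := (hsub x).resolve_right hx
    apply Set.eq_of_subset_of_ncard_le hsx _ (Set.toFinite _)
    rw [hcompl, ← he, ← Nat.card_coe_set_eq]
    apply Nat.le_of_dvd
    · have : Nonempty (orbit (stabilizer G a) x) := ⟨⟨x, mem_orbit_self x⟩⟩
      exact Nat.card_pos
    · exact Cfsg.Agent.Derange.index_dvd_orbit D hone a x hx
  have hfree : ∀ g ∈ D, g • a = a → g = 1 := by
    intro g hgD hga
    apply eq_of_smul_eq_smul (α := Ω)
    intro x
    rw [one_smul]
    by_cases hx : x = a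
    · rw [hx, hga]
    have hle : stabilizer (stabilizer G a) x ≤ (D ⊓ stabilizer G a).subgroupOf (stabilizer G a) := by
      intro k hk
      refine Subgroup.mem_subgroupOf.2 ⟨?_, k.2⟩
      by_contra hk'
      exact hx (hone k hk' x a (hk : (k : G) • x = x) k.2)
    have heq : stabilizer (stabilizer G a) x = (D ⊓ stabilizer G a).subgroupOf (stabilizer G a) := by
      apply Subgroup.eq_of_le_of_card_ge hle
      have e1 : (stabilizer (stabilizer G a) x).index = D.index := by
        rw [index_stabilizer, horb x hx, hcompl, he]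
      have e2 : ((D ⊓ stabilizer G a).subgroupOf (stabilizer G a)).index = D.index :=
        Cfsg.Agent.Derange.relIndex_stabilizer D a
      have c1 := (stabilizer (stabilizer G a) x).card_mul_index
      have c2 := ((D ⊓ stabilizer G a).subgroupOf (stabilizer G a)).card_mul_index
      rw [e1] at c1
      rw [e2] at c2
      exact (Nat.eq_of_mul_eq_mul_right (Subgroup.index_ne_zero_of_finite |> Nat.pos_of_ne_zero)
        (c1.trans c2.symm)).ge
    have hmem : (⟨g, hga⟩ : stabilizer G a) ∈ stabilizer (stabilizer G a) x := by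
      rw [heq]
      exact Subgroup.mem_subgroupOf.2 ⟨hgD, hga⟩
    exact hmem
  have hbot : stabilizer D a = ⊥ := by
    rw [Subgroup.eq_bot_iff_forall]
    intro d hd
    exact Subtype.ext (hfree d d.2 hd)
  have hcardD : Nat.card D = Nat.card Ω := by
    have := Cfsg.Agent.Derange.card_stab_mul (G := D) a
    rw [hbot, Subgroup.card_bot, one_mul] at this
    exact this.symm
  rw [← hcardD]
  apply isPrimePow_of_all_conj (by omega)
  intro x y hx hy
  have hxa : (x : G) • a ≠ a := fun h => hx (Subtype.ext (hfree x x.2 h))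
  have hya : (y : G) • a ≠ a := fun h => hy (Subtype.ext (hfree y y.2 h))
  have hmem : (y : G) • a ∈ orbit (stabilizer G a) ((x : G) • a) := by
    rw [horb _ hxa]
    exact hya
  obtain ⟨h, hh⟩ := mem_orbit_iff.1 hmem
  have hh' : (h : G) • (x : G) • a = (y : G) • a := hh
  have hh2 : (h : G)⁻¹ • a = a := inv_smul_eq_iff.2 (h.2 : (h : G) • a = a).symm
  have hconj : MulAut.conj (h : G) (x : G) = (y : G) := by
    have hm : (y : G)⁻¹ * MulAut.conj (h : G) (x : G) ∈ D :=
      D.mul_mem (D.inv_mem y.2) (hnormal.conj_mem _ x.2 _)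
    have := hfree _ hm (by
      rw [MulAut.conj_apply, mul_smul, mul_smul, mul_smul, hh2, hh', inv_smul_smul])
    rwa [inv_mul_eq_one, eq_comm] at this
  rw [← Subgroup.orderOf_coe x, ← Subgroup.orderOf_coe y, ← hconj, MulEquiv.orderOf_eq]

end Cfsg.Agent.S3548
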