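import Cfsg.Statements.S3549
import Cfsg.Agent.Lib.Recog.Derangements
import Mathlib.Analysis.Real.Sqrt

set_option autoImplicit false
open Cfsg

namespace Cfsg.Agent.S3549

open MulAction Pointwise

/-- Let G act faithfully, transitively but imprimitively on a finite set with n points, and let D be the subgroup generated by the derangements. Then the index of D in G is at most √n − 1. -/
theorem result {G Ω : Type*} [Group G] [Finite G] [MulAction G Ω] [FaithfulSMul G Ω] [Finite Ω]
    (htrans : MulAction.IsPretransitive G Ω) (himp : ¬ MulAction.IsPreprimitive G Ω) :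
    ((Subgroup.closure {g : G | ∀ ω : Ω, g • ω ≠ ω}).index : ℝ) ≤ Real.sqrt (Nat.card Ω) - 1 := by
  have hmain := Cfsg.Agent.Derange.main (G := G) (Ω := Ω)
    (Subgroup.closure {g : G | ∀ ω : Ω, g • ω ≠ ω}) fun g hg => Subgroup.subset_closure hg
  generalize Subgroup.closure {g : G | ∀ ω : Ω, g • ω ≠ ω} = D at hmain ⊢
  obtain ⟨hDt, hDone⟩ := hmain
  have hone : ∀ g : G, g ∉ D → ∀ x y : Ω, g • x = x → g • y = y → x = y :=
    fun g hg x y hx hy => Cfsg.Agent.Derange.unique_fixed (hDone g hg) hx hy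
  obtain ⟨B, hB, hBn⟩ : ∃ B : Set Ω, IsBlock G B ∧ ¬ IsTrivialBlock B := by
    by_contra h
    push Not at h
    exact himp ⟨fun {B} hB => h B hB⟩
  have hBs : ¬ B.Subsingleton := fun h => hBn (Or.inl h)
  have hBu : B ≠ Set.univ := fun h => hBn (Or.inr h)
  rw [Set.not_subsingleton_iff] at hBs
  obtain ⟨a, ha⟩ := hBs.nonempty
  set H := stabilizer G B with hH
  let C : SubMulAction H Ω := ⟨B, fun h x hx => by
    have := Set.smul_mem_smul_set (a := (h : G)) hx
    rwa [show (h : G) • B = B from h.2] at this⟩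
  have hmemH : ∀ g : G, ∀ x ∈ B, g • x ∈ B → g ∈ H := fun g x hx hgx =>
    hB.smul_eq_of_mem (g := g) hx hgx
  have hstab : ∀ x ∈ B, stabilizer G x ≤ H := fun x hx => hB.stabilizer_le hx
  have hHt : IsPretransitive H C := ⟨fun x y => by
    obtain ⟨g, hg⟩ := exists_smul_eq G (x : Ω) y
    exact ⟨⟨g, hmemH g x x.2 (hg ▸ y.2)⟩, Subtype.ext hg⟩⟩
  let D' : Subgroup H := D.subgroupOf H
  have hD't : IsPretransitive D' C := ⟨fun x y => by
    obtain ⟨g, hg⟩ := exists_smul_eq D (x : Ω) y
    exact ⟨⟨⟨g, hmemH g x x.2 (by have h2 := y.2; rw [← hg] at h2; exact h2)⟩, g.2⟩, Subtype.ext hg⟩⟩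
  have hone' : ∀ g : H, g ∉ D' → ∀ x y : C, g • x = x → g • y = y → x = y := fun g hg x y hx hy =>
    Subtype.ext (hone g hg x y (congrArg Subtype.val hx) (congrArg Subtype.val hy))
  have hidx : D'.index = D.index := by
    refine le_antisymm ?_ ?_
    · rw [← Subgroup.relIndex_top_right (H := D)]
      exact Subgroup.relIndex_le_of_le_right le_top
        (by rw [Subgroup.relIndex_top_right]; exact Subgroup.index_ne_zero_of_finite)
    · have : Nonempty Ω := ⟨a⟩
      rw [← Cfsg.Agent.Derange.relIndex_stabilizer D a, Subgroup.inf_relIndex_right]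
      exact Subgroup.relIndex_le_of_le_right (hstab a ha) Subgroup.index_ne_zero_of_finite
  -- index divides m - 1
  have h1 : D.index ∣ B.ncard - 1 := by
    rw [← hidx, ← Nat.card_coe_set_eq]
    exact Cfsg.Agent.Derange.index_dvd_card_sub_one D' hone' (⟨a, ha⟩ : C)
  -- index divides k - 1
  set K := orbit G B
  have hKt : IsPretransitive D K := ⟨fun x y => by
    obtain ⟨g, hg⟩ := x.2
    obtain ⟨g', hg'⟩ := y.2
    obtain ⟨d, hd⟩ := exists_smul_eq D (g • a) (g' • a)
    refine ⟨d, Subtype.ext ?_⟩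
    show (d : G) • (x : Set Ω) = y
    rw [← hg, ← hg']
    simp only [smul_smul]
    have hmem : (g'⁻¹ * ((d : G) * g)) • a ∈ B := by
      have hd' : (d : G) • g • a = g' • a := hd
      rw [mul_smul, mul_smul, hd', inv_smul_smul]
      exact ha
    have := hB.smul_eq_of_mem ha hmem
    rwa [mul_smul, inv_smul_eq_iff] at this⟩
  have honeK : ∀ g : G, g ∉ D → ∀ x y : K, g • x = x → g • y = y → x = y := by
    intro g hg
    suffices ∀ x : K, g • x = x → ∃ ω ∈ (x : Set Ω), g • ω = ω by
      intro x y hx hy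
      obtain ⟨ω, hω, hω1⟩ := this x hx
      obtain ⟨η, hη, hη1⟩ := this y hy
      have hωη := hone g hg ω η hω1 hη1
      subst hωη
      obtain ⟨u, hu⟩ := x.2
      obtain ⟨v, hv⟩ := y.2
      apply Subtype.ext
      by_contra hxy
      have hdis : Disjoint (u • B) (v • B) := hB (fun h => hxy (by rw [← hu, ← hv]; exact h))
      exact Set.disjoint_left.1 hdis (by simpa [← hu] using hω) (by simpa [← hv] using hη)
    intro x hx
    obtain ⟨u, hu⟩ := x.2
    have hu' : u • B = (x : Set Ω) := hu
    -- every element of the coset has exactly one fixed point in the block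
    have hux : (u⁻¹ * g * u) • B = B := by
      have hx' : g • (x : Set Ω) = x := congrArg Subtype.val hx
      rw [mul_smul, mul_smul, hu', hx', ← hu', inv_smul_smul]
    by_contra hnot
    -- counting in the stabiliser of `x`
    set L := stabilizer G (x : Set Ω)
    let E : SubMulAction L Ω := ⟨(x : Set Ω), fun h z hz => by
      have := Set.smul_mem_smul_set (a := (h : G)) hz
      rwa [show (h : G) • (x : Set Ω) = x from h.2] at this⟩
    have hxB : IsBlock G (x : Set Ω) := hu' ▸ hB.translate u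
    have hLt : IsPretransitive L E := ⟨fun z w => by
      obtain ⟨g', hg'⟩ := exists_smul_eq G (z : Ω) w
      exact ⟨⟨g', hxB.smul_eq_of_mem z.2 (hg' ▸ w.2)⟩, Subtype.ext hg'⟩⟩
    have hDLt : IsPretransitive (D.subgroupOf L) E := ⟨fun z w => by
      obtain ⟨g', hg'⟩ := exists_smul_eq D (z : Ω) w
      exact ⟨⟨⟨g', hxB.smul_eq_of_mem z.2 (by have h2 := w.2; rw [← hg'] at h2; exact h2)⟩, g'.2⟩,
        Subtype.ext hg'⟩⟩
    classical
    have := Fintype.ofFinite L
    have hne : Nonempty E := ⟨⟨u • a, by show u • a ∈ (x : Set Ω); rw [← hu']; exact Set.smul_mem_smul_set ha⟩⟩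
    have hs := Cfsg.Agent.Derange.sum_fix (G := L) (Ω := E)
    rw [Cfsg.Agent.Derange.card_orbits_eq_one, one_mul,
      Cfsg.Agent.Derange.sum_split (D.subgroupOf L)] at hs
    have hs2 := Cfsg.Agent.Derange.sum_fix (G := D.subgroupOf L) (Ω := E)
    rw [Cfsg.Agent.Derange.card_orbits_eq_one, one_mul] at hs2
    simp only [Cfsg.Agent.Derange.fixedBy_coe] at hs2
    rw [hs2] at hs
    have hc := Cfsg.Agent.Derange.sum_split (D.subgroupOf L) (fun _ : L => 1)
    simp only [Finset.sum_const, smul_eq_mul, mul_one, Finset.card_univ,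
      ← Nat.card_eq_fintype_card] at hc
    set S := Finset.univ.filter (fun l : L => l ∉ D.subgroupOf L)
    have hle : ∀ l ∈ S, Nat.card (fixedBy E l) ≤ 1 := by
      intro l hl
      rw [Finite.card_le_one_iff_subsingleton]
      refine ⟨fun z w => ?_⟩
      have hl' : (l : G) ∉ D := fun h => (Finset.mem_filter.1 hl).2 (Subgroup.mem_subgroupOf.2 h)
      exact Subtype.ext (Subtype.ext
        (hone l hl' _ _ (congrArg Subtype.val z.2) (congrArg Subtype.val w.2)))
    let l0 : L := ⟨g, congrArg Subtype.val hx⟩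
    have hl0 : l0 ∈ S := Finset.mem_filter.2
      ⟨Finset.mem_univ _, fun h => hg (Subgroup.mem_subgroupOf.1 h)⟩
    have hlt : ∑ l ∈ S, Nat.card (fixedBy E l) < ∑ l ∈ S, 1 := by
      refine Finset.sum_lt_sum hle ⟨l0, hl0, ?_⟩
      have : IsEmpty (fixedBy E l0) := ⟨fun z => hnot ⟨(z.1 : Ω), z.1.2, congrArg Subtype.val z.2⟩⟩
      simp
    simp only [Finset.sum_const, smul_eq_mul, mul_one] at hlt
    omega
  have h2 : D.index ∣ K.ncard - 1 := by
    rw [← Nat.card_coe_set_eq]
    exact Cfsg.Agent.Derange.index_dvd_card_sub_one D honeK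
      (⟨B, mem_orbit_self B⟩ : K)
  have hmk := hB.ncard_block_mul_ncard_orbit_eq ⟨a, ha⟩
  have hm : 1 < B.ncard := (Set.one_lt_ncard (Set.toFinite B)).2 hBs
  have hk : 1 < K.ncard := by
    by_contra hk
    have hK1 : K.ncard ≤ 1 := by omega
    have hBall : B.ncard = Nat.card Ω := by
      have : 0 < Nat.card Ω := by have : Nonempty Ω := ⟨a⟩; exact Nat.card_pos
      rcases Nat.eq_zero_or_pos K.ncard with h0 | h0
      · rw [h0, mul_zero] at hmk; omega
      · rw [show K.ncard = 1 by omega, mul_one] at hmk; exact hmk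
    exact hBu (Set.eq_univ_of_forall fun x => by
      have := Set.eq_of_subset_of_ncard_le (Set.subset_univ B) (by rw [Set.ncard_univ, hBall])
        Set.finite_univ
      rw [this]; trivial)
  have e1 : D.index + 1 ≤ B.ncard := by
    have := Nat.le_of_dvd (by omega) h1
    omega
  have e2 : D.index + 1 ≤ K.ncard := by
    have := Nat.le_of_dvd (by omega) h2
    omega
  have e3 : (D.index + 1) ^ 2 ≤ Nat.card Ω := by
    rw [← hmk, pow_two]
    exact Nat.mul_le_mul e1 e2
  rw [le_sub_iff_add_le]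
  apply Real.le_sqrt_of_sq_le
  exact_mod_cast e3

end Cfsg.Agent.S3549
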