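import Cfsg.Statements.S3554
import Mathlib.GroupTheory.GroupAction.Quotient
import Mathlib.GroupTheory.SpecificGroups.Cyclic
import Mathlib.GroupTheory.Perm.Cycle.Type

set_option autoImplicit false
open Cfsg

namespace Cfsg.Agent.S3554

open MulAction

/-- Let G act faithfully and transitively on a finite set and suppose G has a non-trivial cyclic normal subgroup. Then some element of G of prime order fixes no point. -/
theorem result {G Ω : Type*} [Group G] [Finite G] [MulAction G Ω] [FaithfulSMul G Ω] [Finite Ω]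
    (htrans : MulAction.IsPretransitive G Ω) (C : Subgroup G) (hC : C.Normal) (hC1 : C ≠ ⊥) (hcyc : IsCyclic ↥C) :
    ∃ g : G, (orderOf g).Prime ∧ ∀ ω : Ω, g • ω ≠ ω := by
  obtain ⟨c, hc⟩ := hcyc.exists_generator
  obtain ⟨p, hp, hpd⟩ := Nat.exists_prime_and_dvd ((C.one_lt_card_iff_ne_bot.2 hC1).ne')
  have : Fact p.Prime := ⟨hp⟩
  obtain ⟨x, hx⟩ := exists_prime_orderOf_dvd_card' p hpd
  refine ⟨(x : G), by rwa [Subgroup.orderOf_coe, hx], fun ω hω => ?_⟩
  have hconj : ∀ g : G, g * (x : G) * g⁻¹ ∈ Subgroup.zpowers (x : G) := by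
    intro g
    let y : C := ⟨g * (x : G) * g⁻¹, hC.conj_mem _ x.2 g⟩
    have hy : orderOf y = p := by
      rw [← Subgroup.orderOf_coe]
      show orderOf (g * (x : G) * g⁻¹) = p
      rw [show g * (x : G) * g⁻¹ = MulAut.conj g (x : G) from rfl, MulEquiv.orderOf_eq,
        Subgroup.orderOf_coe, hx]
    have hmem : y ∈ Subgroup.zpowers x := by
      classical
      have := Fintype.ofFinite C
      have := hcyc
      have hle := IsCyclic.card_pow_eq_one_le (α := C) hp.pos
      have hsub : (Finset.univ.filter fun a : C => a ∈ Subgroup.zpowers x) ⊆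
          Finset.univ.filter fun a : C => a ^ p = 1 := by
        intro a ha
        obtain ⟨k, rfl⟩ := Subgroup.mem_zpowers_iff.1 (Finset.mem_filter.1 ha).2
        refine Finset.mem_filter.2 ⟨Finset.mem_univ _, ?_⟩
        rw [← hx, ← zpow_natCast, ← zpow_mul, mul_comm, zpow_mul, zpow_natCast, pow_orderOf_eq_one, one_zpow]
      have hcard : (Finset.univ.filter fun a : C => a ∈ Subgroup.zpowers x).card = p := by
        rw [← Fintype.card_subtype, ← Nat.card_eq_fintype_card]
        exact (Nat.card_zpowers x).trans hx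
      have heq := Finset.eq_of_subset_of_card_le hsub (by omega)
      have hy' : y ∈ Finset.univ.filter fun a : C => a ^ p = 1 :=
        Finset.mem_filter.2 ⟨Finset.mem_univ _, by rw [← hy]; exact pow_orderOf_eq_one y⟩
      rw [← heq] at hy'
      exact (Finset.mem_filter.1 hy').2
    obtain ⟨k, hk⟩ := Subgroup.mem_zpowers_iff.1 hmem
    exact Subgroup.mem_zpowers_iff.2 ⟨k, by simpa [y] using congrArg Subtype.val hk⟩
  have hfix : ∀ η : Ω, (x : G) • η = η := by
    intro η
    obtain ⟨g, rfl⟩ := exists_smul_eq G ω η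
    have h1 : g⁻¹ * (x : G) * g ∈ stabilizer G ω := by
      have h0 : g⁻¹ * (x : G) * g ∈ Subgroup.zpowers (x : G) := by simpa using hconj g⁻¹
      exact (Subgroup.zpowers_le.2 (show (x : G) ∈ stabilizer G ω from hω)) h0
    have h2 : (g⁻¹ * (x : G) * g) • ω = ω := h1
    rw [mul_smul, mul_smul, inv_smul_eq_iff] at h2
    exact h2
  have : (x : G) = 1 := eq_of_smul_eq_smul fun η : Ω => by rw [hfix η, one_smul]
  rw [← Subgroup.orderOf_coe, this, orderOf_one] at hx
  exact hp.ne_one hx.symm

end Cfsg.Agent.S3554
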