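import Cfsg.Statements.S3557
import Cfsg.Agent.Lib.Solvable.Structure
import Mathlib.GroupTheory.IndexNormal
import Mathlib.GroupTheory.Sylow
import Mathlib.Tactic.Linarith
import Mathlib.Tactic.Group
-- import your own Cfsg.Agent.* helpers here

set_option autoImplicit false
open Cfsg

namespace Cfsg.Agent.S3557

open MulAction

section Core

variable {P Ω : Type*} [Group P] [MulAction P Ω] [FaithfulSMul P Ω]

theorem fixing_normal (c : Ω) : (fixingSubgroup P (orbit P c)).Normal := by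
  refine ⟨fun x hx g => (mem_fixingSubgroup_iff P).2 fun z hz => ?_⟩
  rw [mul_smul, mul_smul, (mem_fixingSubgroup_iff P).1 hx (g⁻¹ • z), smul_inv_smul]
  obtain ⟨k, rfl⟩ := hz
  exact ⟨g⁻¹ * k, mul_smul g⁻¹ k c⟩

theorem central_fix {z : P} (hz : z ∈ Subgroup.center P) {c x : Ω} (hx : x ∈ orbit P c)
    (hfix : z • x = x) : z ∈ fixingSubgroup P (orbit P c) := by
  refine (mem_fixingSubgroup_iff P).2 fun y hy => ?_
  rw [← orbit_eq_iff.2 hx] at hy
  obtain ⟨k, rfl⟩ := hy
  show z • k • x = k • x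
  rw [← mul_smul, ← Subgroup.mem_center_iff.1 hz k, mul_smul, hfix]

theorem exists_central [Finite P] {p : ℕ} [Fact p.Prime] (hP : IsPGroup p P) (K : Subgroup P) [K.Normal]
    (hK : K ≠ ⊥) : ∃ z ∈ K, z ∈ Subgroup.center P ∧ z ^ p = 1 ∧ z ≠ 1 := by
  haveI := hP.isNilpotent
  have hne := Cfsg.Agent.SolvStruct.inf_center_ne_bot (N := K) hK
  obtain ⟨e, he⟩ := IsPGroup.iff_card.1 (hP.to_subgroup (K ⊓ Subgroup.center P))
  have hdvd : p ∣ Nat.card (K ⊓ Subgroup.center P : Subgroup P) := by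
    rcases e with _ | e
    · rw [pow_zero, Subgroup.card_eq_one] at he
      exact absurd he hne
    · rw [he]; exact dvd_pow_self p e.succ_ne_zero
  obtain ⟨z, hz⟩ := exists_prime_orderOf_dvd_card' p hdvd
  refine ⟨z, z.2.1, z.2.2, ?_, ?_⟩
  · rw [← Subgroup.orderOf_coe] at hz
    rw [← hz, pow_orderOf_eq_one]
  · intro h
    rw [← Subgroup.orderOf_coe, h, orderOf_one] at hz
    exact (Fact.out : p.Prime).ne_one hz.symm

/-- The wanted fixed-point-free permutation in the case of two orbits of size `p²`. -/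
theorem core [Finite P] {p : ℕ} [Fact p.Prime] (hP : IsPGroup p P) (a b : Ω)
    (hcov : ∀ x, x ∈ orbit P a ∨ x ∈ orbit P b) (hab : b ∉ orbit P a)
    (ha2 : Nat.card (orbit P a) = p ^ 2) (hb2 : Nat.card (orbit P b) = p ^ 2)
    (hfaith : fixingSubgroup P (orbit P a) = ⊥) :
    ∃ σ : Equiv.Perm Ω, σ ^ p = 1 ∧ (∀ x, σ x ≠ x) ∧ ∀ x y, ∃ g : P, σ x = g • x ∧ σ y = g • y := by
  classical
  have hp : p.Prime := Fact.out
  haveI : Finite (orbit P a) := (Set.finite_range _).to_subtype
  haveI : Finite (orbit P b) := (Set.finite_range _).to_subtype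
  have hnt : Nontrivial P := by
    by_contra h
    rw [not_nontrivial_iff_subsingleton] at h
    have h1 : Nat.card (orbit P a) ≤ 1 :=
      Finite.card_le_one_iff_subsingleton.2 ⟨by
        rintro ⟨x, g, rfl⟩ ⟨y, g', rfl⟩
        exact Subtype.ext (congrArg (· • a) (Subsingleton.elim g g'))⟩
    have : 2 ^ 2 ≤ p ^ 2 := Nat.pow_le_pow_left hp.two_le 2
    omega
  haveI := hnt
  have htop : (⊤ : Subgroup P) ≠ ⊥ := top_ne_bot
  obtain ⟨z, -, hzc, hzp, hz1⟩ := exists_central hP ⊤ htop
  have hdisj : ∀ x, x ∈ orbit P a → x ∉ orbit P b := fun x hxa hxb => hab (by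
    rw [← orbit_eq_iff.2 hxa, orbit_eq_iff.2 hxb]; exact mem_orbit_self b)
  have hza : ∀ x ∈ orbit P a, z • x ≠ x := fun x hx h => hz1 (by
    have := central_fix hzc hx h
    rwa [hfaith, Subgroup.mem_bot] at this)
  by_cases hzb : z ∈ fixingSubgroup P (orbit P b)
  swap
  · refine ⟨toPerm z, ?_, fun x => ?_, fun x y => ⟨z, rfl, rfl⟩⟩
    · rw [show (toPerm z : Equiv.Perm Ω) = toPermHom P Ω z from rfl, ← map_pow, hzp, map_one]
    · rcases hcov x with h | h
      · exact hza x h
      · exact fun hfix => hzb (central_fix hzc h hfix)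
  -- the subgroup `Q = P_a K`
  set K := fixingSubgroup P (orbit P b) with hK
  haveI : K.Normal := fixing_normal b
  set Q := stabilizer P a ⊔ K with hQ
  obtain ⟨e, he⟩ := IsPGroup.iff_card.1 hP
  have hidx : Q.index ∣ p := by
    obtain ⟨i, hi, hQi⟩ := (Nat.dvd_prime_pow hp).1 (he ▸ Q.index_dvd_card)
    have hne : Q ≠ stabilizer P a := fun h => hza a (mem_orbit_self a) (by
      have hzQ : z ∈ Q := (le_sup_right : K ≤ Q) hzb
      rw [h] at hzQ
      exact hzQ)
    have hlt : stabilizer P a < Q := lt_of_le_of_ne le_sup_left (Ne.symm hne)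
    have hprod := Subgroup.relIndex_mul_index hlt.le
    rw [index_stabilizer, ← Nat.card_coe_set_eq, ha2, hQi] at hprod
    have hrel : (stabilizer P a).relIndex Q ≠ 1 := fun h => hne (le_antisymm (Subgroup.relIndex_eq_one.1 h) hlt.le)
    rw [hQi]
    refine dvd_trans (Nat.pow_dvd_pow p (show i ≤ 1 from ?_)) (dvd_of_eq (pow_one p))
    by_contra hi2
    have h1 : p ^ 2 ∣ p ^ i := Nat.pow_dvd_pow p (by omega)
    obtain ⟨c, hc⟩ := h1
    rw [hc, ← mul_assoc, mul_comm _ (p ^ 2), mul_assoc] at hprod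
    have h2 := Nat.eq_of_mul_eq_mul_left (pow_pos hp.pos 2) (hprod.trans (mul_one _).symm)
    exact hrel (Nat.eq_one_of_mul_eq_one_right h2)
  haveI hQn : Q.Normal := by
    rcases (Nat.dvd_prime hp).1 hidx with h | h
    · exact Subgroup.normal_of_index_eq_one h
    · refine Subgroup.normal_of_index_eq_minFac_card ?_
      rw [h, he]
      rcases e with _ | e
      · exfalso
        rw [pow_zero] at he
        have := (Finite.one_lt_card (α := P))
        omega
      · rw [hp.pow_minFac e.succ_ne_zero]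
  have hKidx : p ^ 2 ∣ K.index := by
    rw [← hb2, Nat.card_coe_set_eq, ← index_stabilizer]
    exact Subgroup.index_dvd_of_le fun x hx => (mem_fixingSubgroup_iff P).1 hx b (mem_orbit_self b)
  have hQK : Q.map (QuotientGroup.mk' K) ≠ ⊥ := by
    intro h
    rw [Subgroup.map_eq_bot_iff, QuotientGroup.ker_mk'] at h
    have hQK' : Q = K := le_antisymm h le_sup_right
    rw [← hQK'] at hKidx
    have h1 : p ^ 2 ∣ p := hKidx.trans hidx
    have := Nat.le_of_dvd hp.pos h1
    nlinarith [hp.two_le]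
  haveI : (Q.map (QuotientGroup.mk' K)).Normal :=
    Subgroup.Normal.map hQn _ (QuotientGroup.mk'_surjective K)
  obtain ⟨wb, hwQ, hwc, hwp, hw1⟩ := exists_central (hP.to_quotient K) _ hQK
  obtain ⟨w, hwQ', rfl⟩ := hwQ
  have hwK : w ∉ K := fun h => hw1 ((QuotientGroup.eq_one_iff w).2 h)
  have hwpK : w ^ p ∈ K := (QuotientGroup.eq_one_iff _).1 (by
    show QuotientGroup.mk' K (w ^ p) = 1
    rw [map_pow]; exact hwp)
  -- `w` moves every point of the second orbit
  have hwb : ∀ x ∈ orbit P b, w • x ≠ x := by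
    intro x hx hfix
    apply hwK
    refine (mem_fixingSubgroup_iff P).2 fun y hy => ?_
    rw [← orbit_eq_iff.2 hx] at hy
    obtain ⟨k, rfl⟩ := hy
    show w • k • x = k • x
    have hcomm : (k * w)⁻¹ * (w * k) ∈ K := by
      rw [← QuotientGroup.eq]
      exact Subgroup.mem_center_iff.1 hwc (k : P ⧸ K)
    have h3 := (mem_fixingSubgroup_iff P).1 hcomm x hx
    rw [mul_smul, inv_smul_eq_iff, mul_smul, mul_smul, hfix] at h3
    exact h3
  let f : Ω → Ω := fun x => if x ∈ orbit P a then z • x else w • x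
  have hmem_a : ∀ (g : P) (x : Ω), x ∈ orbit P a → g • x ∈ orbit P a := fun g x hx => by
    obtain ⟨k, rfl⟩ := hx
    exact ⟨g * k, mul_smul g k a⟩
  have hmem_b : ∀ (g : P) (x : Ω), x ∈ orbit P b → g • x ∈ orbit P b := fun g x hx => by
    obtain ⟨k, rfl⟩ := hx
    exact ⟨g * k, mul_smul g k b⟩
  have hfa : ∀ m x, x ∈ orbit P a → f^[m] x = z ^ m • x := by
    intro m
    induction m with
    | zero => intro x _; simp
    | succ m ih =>
      intro x hx
      rw [Function.iterate_succ_apply, ih _ (by simp only [f, if_pos hx]; exact hmem_a z x hx)]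
      simp only [f, if_pos hx]
      rw [pow_succ, mul_smul]
  have hfb : ∀ m x, x ∈ orbit P b → f^[m] x = w ^ m • x := by
    intro m
    induction m with
    | zero => intro x _; simp
    | succ m ih =>
      intro x hx
      have hxa : x ∉ orbit P a := fun h => hdisj x h hx
      rw [Function.iterate_succ_apply, ih _ (by simp only [f, if_neg hxa]; exact hmem_b w x hx)]
      simp only [f, if_neg hxa]
      rw [pow_succ, mul_smul]
  have hfp : ∀ x, f^[p] x = x := by
    intro x
    rcases hcov x with h | h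
    · rw [hfa p x h, hzp, one_smul]
    · rw [hfb p x h]
      exact (mem_fixingSubgroup_iff P).1 hwpK x h
  have hp1 : p = (p - 1) + 1 := by have := hp.one_le; omega
  let σ : Equiv.Perm Ω :=
    ⟨f, f^[p - 1], fun x => by rw [← Function.iterate_succ_apply, Nat.succ_eq_add_one, ← hp1, hfp],
      fun x => by rw [← Function.iterate_succ_apply' f, Nat.succ_eq_add_one, ← hp1, hfp]⟩
  refine ⟨σ, Equiv.ext fun x => ?_, fun x => ?_, fun x y => ?_⟩
  · rw [Equiv.Perm.coe_pow]; exact hfp x
  · show f x ≠ x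
    by_cases hx : x ∈ orbit P a
    · simp only [f, if_pos hx]; exact hza x hx
    · simp only [f, if_neg hx]; exact hwb x ((hcov x).resolve_left hx)
  -- agreement on pairs
  have hzK : ∀ u ∈ orbit P b, z • u = u := (mem_fixingSubgroup_iff P).1 hzb
  have hcross : ∀ u ∈ orbit P a, ∀ v ∈ orbit P b, ∃ g : P, f u = g • u ∧ f v = g • v := by
    intro u hu v hv
    have hva : v ∉ orbit P a := fun h => hdisj v h hv
    simp only [f, if_pos hu, if_neg hva]
    obtain ⟨g, rfl⟩ := hu
    have hmem : g⁻¹ * w * g ∈ Q := by simpa using hQn.conj_mem w hwQ' g⁻¹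
    rw [hQ, Subgroup.mem_sup_of_normal_right] at hmem
    obtain ⟨h, hh, k, hk, hhk⟩ := hmem
    refine ⟨z * (g * h * g⁻¹), ?_, ?_⟩
    · show z • g • a = (z * (g * h * g⁻¹)) • g • a
      rw [mul_smul, mul_smul, mul_smul, inv_smul_smul, show h • a = a from hh]
    · rw [mul_smul, hzK _ (hmem_b _ v hv)]
      have hw : w = g * h * g⁻¹ * (g * k * g⁻¹) := by
        rw [show g * h * g⁻¹ * (g * k * g⁻¹) = g * (h * k) * g⁻¹ by group, hhk]; group
      conv_lhs => rw [hw]
      rw [mul_smul]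
      congr 1
      exact (mem_fixingSubgroup_iff P).1 ((inferInstance : K.Normal).conj_mem k hk g) v hv
  show ∃ g : P, f x = g • x ∧ f y = g • y
  by_cases hx : x ∈ orbit P a <;> by_cases hy : y ∈ orbit P a
  · exact ⟨z, by simp only [f, if_pos hx], by simp only [f, if_pos hy]⟩
  · exact hcross x hx y ((hcov y).resolve_left hy)
  · obtain ⟨g, h1, h2⟩ := hcross y hy x ((hcov x).resolve_left hx)
    exact ⟨g, h2, h1⟩
  · exact ⟨w, by simp only [f, if_neg hx], by simp only [f, if_neg hy]⟩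

end Core


/-- Let G act faithfully and transitively on a finite set with 2p² points, p a prime, and suppose G is 2-closed: every permutation of the set which, on each ordered pair of points, agrees with some element of G, is itself induced by an element of G. Then some element of G of prime order fixes no point. -/
theorem result {G Ω : Type*} [Group G] [Finite G] [MulAction G Ω] [FaithfulSMul G Ω] [Finite Ω]
    (htrans : MulAction.IsPretransitive G Ω) (p : ℕ) (hp : p.Prime) (hcard : Nat.card Ω = 2 * p ^ 2)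
    (hcl : ∀ σ : Equiv.Perm Ω, (∀ a b : Ω, ∃ g : G, σ a = g • a ∧ σ b = g • b) → ∃ g : G, ∀ a : Ω, σ a = g • a) :
    ∃ g : G, (orderOf g).Prime ∧ ∀ ω : Ω, g • ω ≠ ω := by
  classical
  haveI : Fact p.Prime := ⟨hp⟩
  suffices hσ : ∃ σ : Equiv.Perm Ω, σ ^ p = 1 ∧ (∀ x, σ x ≠ x) ∧ ∀ x y, ∃ g : G, σ x = g • x ∧ σ y = g • y by
    obtain ⟨σ, hσp, hσf, hσa⟩ := hσ
    obtain ⟨g, hg⟩ := hcl σ hσa
    have hgσ : (MulAction.toPerm g : Equiv.Perm Ω) = σ := Equiv.ext fun x => (hg x).symm
    have hgp : g ^ p = 1 := MulAction.toPerm_injective (α := G) (β := Ω) (by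
      show MulAction.toPermHom G Ω (g ^ p) = MulAction.toPermHom G Ω 1
      rw [map_pow, map_one, show MulAction.toPermHom G Ω g = σ from hgσ, hσp])
    have hΩ : Nonempty Ω := (Nat.card_pos_iff.1 (by rw [hcard]; have := hp.pos; positivity)).1
    have hg1 : g ≠ 1 := by
      rintro rfl
      obtain ⟨ω⟩ := hΩ
      exact hσf ω (by rw [hg ω, one_smul])
    exact ⟨g, by rw [orderOf_eq_prime hgp hg1]; exact hp, fun ω h => hσf ω (by rw [hg ω, h])⟩
  obtain ⟨P⟩ : Nonempty (Sylow p G) := inferInstance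
  set Q := (P : Subgroup G) with hQ
  have hPp : IsPGroup p Q := P.isPGroup'
  have hQfaith : FaithfulSMul Q Ω := ⟨fun {a b} h => Subtype.ext (eq_of_smul_eq_smul (α := Ω) h)⟩
  -- every orbit of the Sylow subgroup has at least `p²` points
  have horb : ∀ x : Ω, p ^ 2 ∣ Nat.card (MulAction.orbit Q x) := by
    intro x
    have h1 := (MulAction.stabilizer Q x).index_mul_card
    rw [MulAction.index_stabilizer, ← Nat.card_coe_set_eq] at h1
    have hmul : p ^ 2 * Nat.card (MulAction.stabilizer Q x) ∣ Nat.card G := by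
      have h2 := (MulAction.stabilizer G x).index_mul_card
      rw [MulAction.index_stabilizer_of_transitive, hcard] at h2
      rw [← h2]
      refine mul_dvd_mul ⟨2, mul_comm _ _⟩ (Subgroup.card_dvd_of_injective
        ((Q.subtype.comp (MulAction.stabilizer Q x).subtype).codRestrict (MulAction.stabilizer G x)
          fun g => g.2) fun g g' h => ?_)
      exact Subtype.ext (Subtype.ext (congrArg Subtype.val h :))
    obtain ⟨e, he⟩ := IsPGroup.iff_card.1 (hPp.to_subgroup (MulAction.stabilizer Q x))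
    have h3 : p ^ 2 * Nat.card (MulAction.stabilizer Q x) ∣ Nat.card Q := by
      rw [he, ← pow_add] at hmul ⊢
      exact P.pow_dvd_card_of_pow_dvd_card hmul
    rw [← h1] at h3
    exact (Nat.mul_dvd_mul_iff_right Nat.card_pos).1 h3
  obtain ⟨z, -, hzc, hzp, hz1⟩ : ∃ z ∈ (⊤ : Subgroup Q), z ∈ Subgroup.center Q ∧ z ^ p = 1 ∧ z ≠ 1 := by
    refine exists_central hPp ⊤ ?_
    intro h
    obtain ⟨ω⟩ : Nonempty Ω := (Nat.card_pos_iff.1 (by rw [hcard]; have := hp.pos; positivity)).1
    have h1 : Nat.card (MulAction.orbit Q ω) ≤ 1 :=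
      Finite.card_le_one_iff_subsingleton.2 ⟨by
        rintro ⟨x, g, rfl⟩ ⟨y, g', rfl⟩
        have hs : ∀ q : Q, q = 1 := fun q => Subgroup.mem_bot.1 (h ▸ Subgroup.mem_top q)
        exact Subtype.ext (by rw [hs g, hs g'])⟩
    have h2 := Nat.le_of_dvd (Nat.card_pos_iff.2 ⟨⟨⟨ω, MulAction.mem_orbit_self ω⟩⟩, inferInstance⟩) (horb ω)
    have : 2 ^ 2 ≤ p ^ 2 := Nat.pow_le_pow_left hp.two_le 2
    omega
  have hzperm : (MulAction.toPerm z : Equiv.Perm Ω) ^ p = 1 := by
    rw [show (MulAction.toPerm z : Equiv.Perm Ω) = MulAction.toPermHom Q Ω z from rfl, ← map_pow, hzp, map_one]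
  by_cases htrP : ∃ a : Ω, MulAction.orbit Q a = Set.univ
  · obtain ⟨a, ha⟩ := htrP
    refine ⟨MulAction.toPerm z, hzperm, fun x hx => hz1 ?_, fun x y => ⟨(z : G), rfl, rfl⟩⟩
    have h := central_fix hzc (c := a) (x := x) (ha ▸ Set.mem_univ x) hx
    rw [ha, mem_fixingSubgroup_iff] at h
    exact eq_of_smul_eq_smul (α := Ω) fun w => by rw [h w (Set.mem_univ w), one_smul]
  push Not at htrP
  obtain ⟨a⟩ : Nonempty Ω := (Nat.card_pos_iff.1 (by rw [hcard]; have := hp.pos; positivity)).1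
  obtain ⟨b, hb⟩ := (Set.ne_univ_iff_exists_notMem _).1 (htrP a)
  have hd : Disjoint (MulAction.orbit Q a) (MulAction.orbit Q b) := by
    refine Set.disjoint_left.2 fun x hxa hxb => hb ?_
    rw [← MulAction.orbit_eq_iff.2 hxa, MulAction.orbit_eq_iff.2 hxb]
    exact MulAction.mem_orbit_self b
  have hsum : (MulAction.orbit Q a ∪ MulAction.orbit Q b).ncard ≤ 2 * p ^ 2 :=
    hcard ▸ Set.ncard_univ Ω ▸ Set.ncard_le_ncard (Set.subset_univ _)
  rw [Set.ncard_union_eq hd, ← Nat.card_coe_set_eq, ← Nat.card_coe_set_eq] at hsum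
  have hpos : ∀ x : Ω, p ^ 2 ≤ Nat.card (MulAction.orbit Q x) := fun x =>
    Nat.le_of_dvd (Nat.card_pos_iff.2 ⟨⟨⟨x, MulAction.mem_orbit_self x⟩⟩, inferInstance⟩) (horb x)
  have := hpos a
  have := hpos b
  have ha2 : Nat.card (MulAction.orbit Q a) = p ^ 2 := by omega
  have hb2 : Nat.card (MulAction.orbit Q b) = p ^ 2 := by omega
  have hcov : ∀ x, x ∈ MulAction.orbit Q a ∨ x ∈ MulAction.orbit Q b := by
    intro x
    have heq : MulAction.orbit Q a ∪ MulAction.orbit Q b = Set.univ := by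
      refine Set.eq_of_subset_of_ncard_le (Set.subset_univ _) ?_
      rw [Set.ncard_univ, hcard, Set.ncard_union_eq hd, ← Nat.card_coe_set_eq, ← Nat.card_coe_set_eq]
      omega
    exact (heq ▸ Set.mem_univ x : x ∈ MulAction.orbit Q a ∪ MulAction.orbit Q b)
  by_cases h1 : fixingSubgroup Q (MulAction.orbit Q a) = ⊥
  · obtain ⟨σ, h⟩ := core hPp a b hcov hb ha2 hb2 h1
    exact ⟨σ, h.1, h.2.1, fun x y => let ⟨g, hg⟩ := h.2.2 x y; ⟨(g : G), hg⟩⟩
  by_cases h2 : fixingSubgroup Q (MulAction.orbit Q b) = ⊥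
  · obtain ⟨σ, h⟩ := core hPp b a (fun x => (hcov x).symm)
      (fun h => hb (MulAction.mem_orbit_symm.1 h)) hb2 ha2 h2
    exact ⟨σ, h.1, h.2.1, fun x y => let ⟨g, hg⟩ := h.2.2 x y; ⟨(g : G), hg⟩⟩
  -- both kernels non-trivial
  haveI := fixing_normal (P := Q) a
  haveI := fixing_normal (P := Q) b
  obtain ⟨u, hu, huc, hup, hu1⟩ := exists_central hPp _ h1
  obtain ⟨v, hv, hvc, hvp, hv1⟩ := exists_central hPp _ h2
  rw [mem_fixingSubgroup_iff] at hu hv
  have humove : ∀ x ∈ MulAction.orbit Q b, u • x ≠ x := fun x hx hfix => hu1 (by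
    have h := (mem_fixingSubgroup_iff Q).1 (central_fix huc hx hfix)
    refine eq_of_smul_eq_smul (α := Ω) fun w => ?_
    rw [one_smul]
    rcases hcov w with hw | hw
    · exact hu w hw
    · exact h w hw)
  have hvmove : ∀ x ∈ MulAction.orbit Q a, v • x ≠ x := fun x hx hfix => hv1 (by
    have h := (mem_fixingSubgroup_iff Q).1 (central_fix hvc hx hfix)
    refine eq_of_smul_eq_smul (α := Ω) fun w => ?_
    rw [one_smul]
    rcases hcov w with hw | hw
    · exact h w hw
    · exact hv w hw)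
  refine ⟨MulAction.toPerm (u * v), ?_, fun x hx => ?_, fun x y => ⟨((u * v : Q) : G), rfl, rfl⟩⟩
  · rw [show (MulAction.toPerm (u * v) : Equiv.Perm Ω) = MulAction.toPermHom Q Ω (u * v) from rfl,
      ← map_pow, Commute.mul_pow (Subgroup.mem_center_iff.1 huc v).symm, hup, hvp, one_mul, map_one]
  · change (u * v) • x = x at hx
    rcases hcov x with h | h
    · refine hvmove x h ?_
      rwa [mul_smul, hu _ (show v • x ∈ MulAction.orbit Q a by
        rw [← MulAction.orbit_eq_iff.2 h]; exact MulAction.mem_orbit x v)] at hx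
    · refine humove x h ?_
      rwa [mul_smul, hv x h] at hx

end Cfsg.Agent.S3557
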