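import Cfsg.Statements.S3560
import Mathlib.GroupTheory.GroupAction.Primitive
import Mathlib.GroupTheory.GroupAction.MultipleTransitivity
import Mathlib.InformationTheory.Hamming

set_option autoImplicit false
open Cfsg

namespace Cfsg.Agent.S3560

open MulAction Pointwise

variable {ι : Type*} [Fintype ι] [DecidableEq ι] {m : ℕ}

/-- The isometries of the Hamming space `ι → Fin m`. -/
def isometries (ι : Type*) [Fintype ι] (m : ℕ) : Subgroup (Equiv.Perm (ι → Fin m)) where
  carrier := {σ | ∀ x y, hammingDist (σ x) (σ y) = hammingDist x y}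
  one_mem' := fun x y => rfl
  mul_mem' := fun {a b} ha hb x y => by
    simp only [Equiv.Perm.mul_apply]
    rw [ha, hb]
  inv_mem' := fun {a} ha x y => by
    rw [← ha (a⁻¹ x) (a⁻¹ y)]
    simp

theorem coord_mem (g : ι → Equiv.Perm (Fin m)) :
    (Equiv.piCongrRight g : Equiv.Perm (ι → Fin m)) ∈ isometries ι m := fun x y =>
  hammingDist_comp (fun i => g i) (fun i => (g i).injective)

theorem permute_mem (t : Equiv.Perm ι) :
    (Equiv.arrowCongr t (Equiv.refl (Fin m)) : Equiv.Perm (ι → Fin m)) ∈ isometries ι m := by
  intro x y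
  simp only [hammingDist]
  refine Finset.card_equiv t.symm fun i => ?_
  simp [Equiv.arrowCongr]

theorem isometries_transitive : IsPretransitive (isometries ι m) (ι → Fin m) :=
  ⟨fun x y => ⟨⟨_, coord_mem fun i => Equiv.swap (x i) (y i)⟩,
    funext fun i => Equiv.swap_apply_left (x i) (y i)⟩⟩

theorem isometries_primitive [Nonempty ι] (hm : 3 ≤ m) :
    IsPreprimitive (isometries ι m) (ι → Fin m) := by
  have := isometries_transitive (ι := ι) (m := m)
  let a : ι → Fin m := fun _ => ⟨0, by omega⟩
  refine IsPreprimitive.of_isTrivialBlock_base a fun {B} ha hB => ?_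
  by_cases hs : B.Subsingleton
  · exact Or.inl hs
  refine Or.inr ?_
  obtain ⟨b, hb, hba⟩ : ∃ b ∈ B, b ≠ a := by
    by_contra h
    push Not at h
    exact hs fun x hx y hy => (h x hx).trans (h y hy).symm
  obtain ⟨i, hi⟩ := Function.ne_iff.1 hba
  -- the translations along coordinate `i`
  have hcoord : ∀ (s : Equiv.Perm (Fin m)),
      (⟨_, coord_mem (Function.update (1 : ι → Equiv.Perm (Fin m)) i s)⟩ : isometries ι m) • B = B := by
    have happ : ∀ (s : Equiv.Perm (Fin m)) (x : ι → Fin m),
        (⟨_, coord_mem (Function.update (1 : ι → Equiv.Perm (Fin m)) i s)⟩ : isometries ι m) • x =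
          Function.update x i (s (x i)) := by
      intro s x
      funext j
      show (Function.update (1 : ι → Equiv.Perm (Fin m)) i s j) (x j) = _
      rcases eq_or_ne j i with rfl | hj
      · simp
      · simp [Function.update_of_ne hj]
    -- all of the line through `b` lies in the block
    have hline : ∀ c : Fin m, c ≠ a i → Function.update b i c ∈ B := by
      intro c hc
      have h1 := hB.smul_eq_of_mem (g := (⟨_, coord_mem (Function.update (1 : ι → Equiv.Perm (Fin m)) i
        (Equiv.swap (b i) c))⟩ : isometries ι m)) ha (by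
          rw [happ, Equiv.swap_apply_of_ne_of_ne (Ne.symm hi) (Ne.symm hc), Function.update_eq_self]
          exact ha)
      rw [← h1]
      refine ⟨b, hb, ?_⟩
      show _ • b = _
      rw [happ, Equiv.swap_apply_left]
    have hline' : ∀ c : Fin m, Function.update b i c ∈ B := by
      intro c
      by_cases hc : c = a i
      · obtain ⟨c', hc'1, hc'2⟩ : ∃ c' : Fin m, c' ≠ a i ∧ c' ≠ b i := by
          by_contra h
          push Not at h
          have : (Finset.univ : Finset (Fin m)) ⊆ {a i, b i} := fun x _ => by
            simp only [Finset.mem_insert, Finset.mem_singleton]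
            exact or_iff_not_imp_left.2 (h x)
          have := (Finset.card_le_card this).trans Finset.card_le_two
          simp at this
          omega
        -- move `c'` to `c`, fixing `b`
        have h1 := hB.smul_eq_of_mem (g := (⟨_, coord_mem (Function.update (1 : ι → Equiv.Perm (Fin m)) i
          (Equiv.swap c' c))⟩ : isometries ι m)) hb (by
            rw [happ, Equiv.swap_apply_of_ne_of_ne (Ne.symm hc'2) (hc ▸ hi), Function.update_eq_self]
            exact hb)
        rw [← h1]
        refine ⟨Function.update b i c', hline c' hc'1, ?_⟩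
        show _ • Function.update b i c' = _
        rw [happ, Function.update_self, Function.update_idem, Equiv.swap_apply_left]
      · exact hline c hc
    intro s
    refine hB.smul_eq_of_mem hb ?_
    rw [happ]
    exact hline' _
  -- every coordinate
  have hall : ∀ (j : ι) (c : Fin m), ∀ x ∈ B, Function.update x j c ∈ B := by
    intro j c x hx
    let t : isometries ι m := ⟨_, permute_mem (m := m) (Equiv.swap i j)⟩
    have ht : t • B = B := hB.smul_eq_of_mem (g := t) ha (by
      have : t • a = a := rfl
      rw [this]; exact ha)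
    have htt : ∀ z : ι → Fin m, t • z = z ∘ Equiv.swap i j := fun z => by
      funext k
      show z ((Equiv.swap i j).symm k) = _
      rw [Equiv.symm_swap]; rfl
    have hx' : x ∘ Equiv.swap i j ∈ B := by
      rw [← ht, ← htt]; exact Set.smul_mem_smul_set hx
    have h1 := hcoord (Equiv.swap (x j) c)
    have h2 : Function.update (x ∘ Equiv.swap i j) i c ∈ B := by
      rw [← h1]
      refine ⟨_, hx', ?_⟩
      funext k
      show (Function.update (1 : ι → Equiv.Perm (Fin m)) i (Equiv.swap (x j) c) k) ((x ∘ Equiv.swap i j) k) = _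
      rcases eq_or_ne k i with rfl | hk
      · simp
      · simp [Function.update_of_ne hk]
    have h3 : Function.update (x ∘ Equiv.swap i j) i c ∘ Equiv.swap i j ∈ B := by
      rw [← ht, ← htt]; exact Set.smul_mem_smul_set h2
    convert h3 using 1
    funext k
    rcases eq_or_ne k j with rfl | hk
    · simp
    · have : Equiv.swap i j k ≠ i := fun h => hk (by
        rw [Equiv.swap_apply_eq_iff] at h
        rw [h, Equiv.swap_apply_left])
      simp [Function.update_of_ne hk, Function.update_of_ne this]
  apply Set.eq_univ_of_forall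
  intro z
  have : ∀ s : Finset ι, (fun k => if k ∈ s then z k else a k) ∈ B := by
    intro s
    induction s using Finset.induction_on with
    | empty => simpa using ha
    | insert k s hk ih =>
      have := hall k (z k) _ ih
      convert this using 1
      funext l
      rcases eq_or_ne l k with rfl | hl
      · simp
      · simp [hl]
  simpa using this Finset.univ

theorem isometries_not_two (hr : 2 ≤ Fintype.card ι) (hm : 3 ≤ m) :
    ¬ IsMultiplyPretransitive (isometries ι m) (ι → Fin m) 2 := by
  intro h
  rw [is_two_pretransitive_iff] at h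
  obtain ⟨i⟩ : Nonempty ι := Fintype.card_pos_iff.1 (by omega)
  let o : Fin m := ⟨0, by omega⟩
  let l : Fin m := ⟨1, by omega⟩
  have hne : o ≠ l := by simp [o, l]
  have h1 : (fun _ : ι => o) ≠ Function.update (fun _ => o) i l := fun h =>
    hne (by simpa using congrFun h i)
  have h2 : (fun _ : ι => o) ≠ fun _ => l := fun h => hne (congrFun h i)
  obtain ⟨g, hg1, hg2⟩ := h h1 h2
  have hd := g.2 (fun _ : ι => o) (Function.update (fun _ => o) i l)
  rw [show (g : Equiv.Perm (ι → Fin m)) (fun _ => o) = fun _ => o from hg1,
    show (g : Equiv.Perm (ι → Fin m)) (Function.update (fun _ => o) i l) = fun _ => l from hg2] at hd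
  have e1 : hammingDist (fun _ : ι => o) (fun _ : ι => l) = Fintype.card ι := by
    simp [hammingDist, hne, Finset.card_univ]
  have e2 : hammingDist (fun _ : ι => o) (Function.update (fun _ => o) i l) = 1 := by
    rw [hammingDist, Finset.card_eq_one]
    refine ⟨i, Finset.ext fun k => ?_⟩
    rcases eq_or_ne k i with rfl | hk
    · simp [hne]
    · simp [hk]
  omega

/-- Let K be a finite group isomorphic to a direct product of r ≥ 2 groups all of the same order m ≥ 3. Then K is not a B-group: there is a primitive but not doubly transitive permutation group (on some finite set) containing a regular subgroup isomorphic to K. -/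
theorem result {K : Type*} [Group K] [Finite K] {ι : Type*} [Fintype ι] (F : ι → Type*) [∀ i, Group (F i)]
    (hr : 2 ≤ Fintype.card ι) (m : ℕ) (hm : 3 ≤ m) (hcard : ∀ i, Nat.card (F i) = m) (e : K ≃* (∀ i, F i)) :
    ∃ (n : ℕ) (G R : Subgroup (Equiv.Perm (Fin n))), R ≤ G ∧ Nonempty (↥R ≃* K) ∧
      MulAction.IsPretransitive ↥R (Fin n) ∧ (∀ a : Fin n, MulAction.stabilizer ↥R a = ⊥) ∧
      MulAction.IsPreprimitive ↥G (Fin n) ∧ ¬ MulAction.IsMultiplyPretransitive ↥G (Fin n) 2 := by
  classical
  have : Nonempty ι := Fintype.card_pos_iff.1 (by omega)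
  have hfin : ∀ i, Finite (F i) := fun i => Nat.finite_of_card_ne_zero (by rw [hcard]; omega)
  let τ : ∀ i, F i ≃ Fin m := fun i => (Finite.equivFinOfCardEq (hcard i))
  let Θ : (∀ i, F i) ≃ (ι → Fin m) := Equiv.piCongrRight τ
  let X := ι → Fin m
  let E : X ≃ Fin (Fintype.card X) := Fintype.equivFin X
  let reg : K →* Equiv.Perm X :=
    ((Θ.permCongrHom).toMonoidHom.comp (MulAction.toPermHom (∀ i, F i) (∀ i, F i))).comp e.toMonoidHom
  have hreg : ∀ k, reg k ∈ isometries ι m := by
    intro k
    have heq : reg k = Equiv.piCongrRight fun i => (τ i).permCongr (Equiv.mulLeft (e k i)) := by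
      apply Equiv.ext
      intro x
      funext i
      rfl
    rw [heq]
    exact coord_mem _
  have hinj : Function.Injective reg := by
    intro k l h
    apply e.injective
    have h2 := congrArg (fun s : Equiv.Perm X => Θ.symm (s (Θ 1))) h
    simpa [reg] using h2
  let φ : Equiv.Perm X →* Equiv.Perm (Fin (Fintype.card X)) := E.permCongrHom.toMonoidHom
  have happ : ∀ (s : Equiv.Perm X) (x : X), φ s (E x) = E (s x) := fun s x => by
    simp [φ, Equiv.permCongrHom]
  refine ⟨Fintype.card X, (isometries ι m).map φ, (reg.range).map φ,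
    Subgroup.map_mono (by rintro - ⟨k, rfl⟩; exact hreg k), ?_, ?_, ?_, ?_, ?_⟩
  · exact ⟨((MonoidHom.ofInjective hinj).trans
      ((reg.range).equivMapOfInjective φ E.permCongrHom.injective)).symm⟩
  · refine ⟨fun x y => ?_⟩
    obtain ⟨x, rfl⟩ := E.surjective x
    obtain ⟨y, rfl⟩ := E.surjective y
    refine ⟨⟨φ (reg (e.symm (Θ.symm y * (Θ.symm x)⁻¹))), Subgroup.mem_map_of_mem _ ⟨_, rfl⟩⟩, ?_⟩
    show φ _ (E x) = E y
    rw [happ]
    congr 1
    simp [reg]
  · intro x
    rw [Subgroup.eq_bot_iff_forall]
    rintro ⟨-, r, ⟨k, rfl⟩, rfl⟩ hk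
    obtain ⟨x, rfl⟩ := E.surjective x
    have hk' : φ (reg k) (E x) = E x := hk
    rw [happ] at hk'
    have hk2 := congrArg Θ.symm (E.injective hk')
    simp [reg] at hk2
    apply Subtype.ext
    show φ (reg k) = 1
    rw [hk2, map_one, map_one]
  · let f : X →ₑ[(φ.comp (isometries ι m).subtype).codRestrict ((isometries ι m).map φ)
        (fun s => Subgroup.mem_map_of_mem _ s.2)] Fin (Fintype.card X) :=
      { toFun := E
        map_smul' := fun s x => (happ s x).symm }
    exact (isPreprimitive_congr (fun ⟨_, s, hs, rfl⟩ => ⟨⟨s, hs⟩, rfl⟩)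
      (f := f) E.bijective).1 (isometries_primitive hm)
  · intro h
    apply isometries_not_two (ι := ι) hr hm
    rw [is_two_pretransitive_iff]
    intro a b c d hab hcd
    obtain ⟨⟨-, s, hs, rfl⟩, h1, h2⟩ := is_two_pretransitive_iff.1 h (E.injective.ne hab) (E.injective.ne hcd)
    have h1' : φ s (E a) = E c := h1
    have h2' : φ s (E b) = E d := h2
    rw [happ] at h1' h2'
    exact ⟨⟨s, hs⟩, E.injective h1', E.injective h2'⟩

end Cfsg.Agent.S3560
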