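import Cfsg.Statements.S3571
import Cfsg.Agent.Lib.PermDerange.Alternating
import Cfsg.Agent.Lib.Perm.AutAlternating
-- import your own Cfsg.Agent.* helpers here

set_option autoImplicit false
set_option linter.style.haveILetI false
open Cfsg

namespace Cfsg.Agent.S3571

/-- Let G be an almost simple group whose socle is an alternating group of degree m ≥ 5 (G has a normal subgroup T isomorphic to that alternating group with trivial centralizer), acting faithfully and primitively on a finite set Ω with at least two points, and let r be the largest prime divisor of the number of points. Then G contains an element of order r fixing no point. -/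
theorem result {G Ω : Type*} [Group G] [Finite G] [MulAction G Ω] [FaithfulSMul G Ω] [Finite Ω]
    (T : Subgroup G) (hT : T.Normal) (hTc : Subgroup.centralizer (T : Set G) = ⊥) (m : ℕ) (hm : 5 ≤ m)
    (eT : ↥T ≃* ↥(alternatingGroup (Fin m))) (hprim : MulAction.IsPreprimitive G Ω) (hΩ : 2 ≤ Nat.card Ω)
    (r : ℕ) (hr : r.Prime) (hrd : r ∣ Nat.card Ω) (hmax : ∀ s : ℕ, s.Prime → s ∣ Nat.card Ω → s ≤ r) :
    ∃ g : G, orderOf g = r ∧ ∀ ω : Ω, g • ω ≠ ω := by
  classical
  haveI : Nontrivial Ω := Finite.one_lt_card_iff_nontrivial.1 (by omega)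
  obtain ⟨a⟩ := (inferInstance : Nonempty Ω)
  haveI := hprim.toIsPretransitive
  haveI : T.Normal := hT
  have hmaxl : IsCoatom (MulAction.stabilizer G a) :=
    (MulAction.isCoatom_stabilizer_iff_preprimitive G a).2 hprim
  have hnle : ¬ T ≤ MulAction.stabilizer G a := by
    intro hle
    have hbot : T = ⊥ := by
      rw [eq_bot_iff]
      intro t ht
      rw [Subgroup.mem_bot]
      refine FaithfulSMul.eq_of_smul_eq_smul (α := Ω) fun ω => ?_
      obtain ⟨x, hx⟩ := MulAction.exists_smul_eq G a ω
      have hc : (x⁻¹ * t * x⁻¹⁻¹) • a = a :=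
        MulAction.mem_stabilizer_iff.1 (hle (hT.conj_mem t ht x⁻¹))
      rw [inv_inv, mul_smul, mul_smul, hx, inv_smul_eq_iff, hx] at hc
      rw [hc, one_smul]
    have h1 : Nat.card T = 1 := by rw [hbot]; exact Subgroup.card_bot
    rw [Nat.card_congr eT.toEquiv] at h1
    have h3 : 3 ∣ 1 := h1 ▸ PermDerange.dvd_card_alternating Nat.prime_three (by norm_num) (by omega)
    norm_num at h3
  haveI : Fact r.Prime := ⟨hr⟩
  rcases eq_or_ne m 6 with rfl | h6
  · -- degree six: work inside the socle
    have htT : ∀ ω : Ω, ∃ t : T, (t : G) • a = ω := by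
      intro ω
      have hsup : T ⊔ MulAction.stabilizer G a = ⊤ := by
        rcases eq_or_lt_of_le (le_sup_right : MulAction.stabilizer G a ≤ T ⊔ MulAction.stabilizer G a)
          with h | h
        · exact absurd (h ▸ le_sup_left) hnle
        · exact hmaxl.2 _ h
      obtain ⟨x, hx⟩ := MulAction.exists_smul_eq G a ω
      obtain ⟨t, ht, h, hh, hth⟩ := Subgroup.mem_sup_of_normal_left.1
        (show x ∈ T ⊔ MulAction.stabilizer G a by rw [hsup]; exact Subgroup.mem_top x)
      rw [← hth, mul_smul, MulAction.mem_stabilizer_iff.1 hh] at hx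
      exact ⟨⟨t, ht⟩, hx⟩
    haveI : MulAction.IsPretransitive T Ω := MulAction.IsPretransitive.of_orbit (x₀ := a) fun ω => htT ω
    set K := (MulAction.stabilizer T a).map eT.toMonoidHom with hK
    have hidx : K.index = Nat.card Ω := by
      rw [hK, Subgroup.index_map_of_bijective eT.bijective, MulAction.index_stabilizer_of_transitive]
    have hKne : K ≠ ⊤ := fun h => by
      rw [h, Subgroup.index_top] at hidx
      omega
    obtain ⟨γ, hγ, hγK⟩ := PermDerange.alternating_six hKne r hr (hidx ▸ hrd)
      (fun s hs hd => hmax s hs (hidx ▸ hd))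
    refine ⟨(eT.symm γ : G), ?_, fun ω hω => ?_⟩
    · rw [Subgroup.orderOf_coe, MulEquiv.orderOf_eq, hγ]
    · obtain ⟨t, ht⟩ := htT ω
      refine hγK (eT t⁻¹) ⟨t⁻¹ * eT.symm γ * t, ?_, by simp⟩
      change (t⁻¹ * eT.symm γ * t) • a = a
      have ht' : t • a = ω := ht
      have hω' : (eT.symm γ) • ω = ω := hω
      rw [mul_smul, mul_smul, ht', hω', inv_smul_eq_iff, ht']
  · -- `G` embeds in the symmetric group
    let e : Equiv.Perm (Fin m) ≃* MulAut (alternatingGroup (Fin m)) :=
      MulEquiv.ofBijective MulAut.conjNormal (AutAlt.bijective_conjNormal (by omega) h6)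
    let φ : G →* Equiv.Perm (Fin m) :=
      e.symm.toMonoidHom.comp ((MulAut.congr eT).toMonoidHom.comp (MulAut.conjNormal (H := T)))
    have hφ : Function.Injective φ := by
      rw [← MonoidHom.ker_eq_bot_iff, eq_bot_iff, ← hTc]
      intro g hg
      have h1 : MulAut.conjNormal (H := T) g = 1 := by
        have h2 : e.symm ((MulAut.congr eT) (MulAut.conjNormal g)) = 1 := MonoidHom.mem_ker.1 hg
        rwa [MulEquiv.map_eq_one_iff, MulEquiv.map_eq_one_iff] at h2
      rw [Subgroup.mem_centralizer_iff]
      intro t ht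
      have h2 := congrArg Subtype.val (DFunLike.congr_fun h1 ⟨t, ht⟩)
      rw [MulAut.conjNormal_apply, MulAut.one_apply] at h2
      exact (mul_inv_eq_iff_eq_mul.1 h2).symm
    have hφT : ∀ t : T, φ (t : G) = (eT t : Equiv.Perm (Fin m)) := by
      intro t
      change e.symm ((MulAut.congr eT) (MulAut.conjNormal (t : G))) = _
      rw [MulEquiv.symm_apply_eq]
      refine MulEquiv.ext fun z => ?_
      obtain ⟨u, rfl⟩ := eT.surjective z
      apply Subtype.ext
      change ((eT (MulAut.conjNormal (t : G) (eT.symm (eT u))) : alternatingGroup (Fin m)) :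
        Equiv.Perm (Fin m)) = _
      rw [eT.symm_apply_apply, show MulAut.conjNormal (t : G) u = t * u * t⁻¹ from
        Subtype.ext (by rw [MulAut.conjNormal_apply]; rfl)]
      simp [e, MulAut.conjNormal_apply]
    have hA : alternatingGroup (Fin m) ≤ φ.range := fun σ hσ =>
      ⟨(eT.symm ⟨σ, hσ⟩ : G), by rw [hφT, eT.apply_symm_apply]⟩
    have hnot : ¬ alternatingGroup (Fin m) ≤ (MulAction.stabilizer G a).map φ := by
      intro h
      refine hnle fun t ht => ?_
      obtain ⟨x, hx, hxe⟩ := h (eT ⟨t, ht⟩).2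
      rw [← hφT ⟨t, ht⟩] at hxe
      rwa [hφ hxe] at hx
    by_cases htr : MulAction.IsPretransitive ((MulAction.stabilizer G a).map φ) (Fin m)
    · exact PermDerange.derangement_of_transitive hm h6 φ hφ hA a hnot htr r hr hrd hmax
    · exact PermDerange.derangement_of_intransitive hm φ hφ hA a hmaxl htr r hr hrd hmax
end Cfsg.Agent.S3571
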