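import Cfsg.Statements.S3572
import Cfsg.Agent.Lib.DihedralB.Fusion
-- import your own Cfsg.Agent.* helpers here

set_option autoImplicit false
open Cfsg

namespace Cfsg.Agent.S3572

/-- A finite primitive permutation group containing a dihedral subgroup that acts regularly (transitively with trivial point stabilizers) is doubly transitive. -/
theorem result {G Ω : Type*} [Group G] [Finite G] [MulAction G Ω] [FaithfulSMul G Ω] [Finite Ω]
    (hprim : MulAction.IsPreprimitive G Ω) (D : Subgroup G) (m : ℕ) (hD : Nonempty (↥D ≃* DihedralGroup m))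
    (hDreg : MulAction.IsPretransitive ↥D Ω ∧ ∀ a : Ω, MulAction.stabilizer ↥D a = ⊥) :
    MulAction.IsMultiplyPretransitive G Ω 2 := by
  obtain ⟨e⟩ := hD
  haveI : Finite ↥D := inferInstance
  haveI : Finite (DihedralGroup m) := Finite.of_equiv _ e.toEquiv
  haveI : NeZero m := ⟨fun h => by
    subst h
    haveI : Finite (ZMod 0) := Finite.of_injective DihedralGroup.r (fun a b hab => DihedralGroup.r.inj hab)
    exact not_finite (ZMod 0)⟩
  have hι : ∀ (c : DihedralGroup m) (a : Ω), ((D.subtype.comp e.symm.toMonoidHom) c) • a = (e.symm c) • a :=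
    fun c a => rfl
  refine Cfsg.Agent.DihedralB.two_transitive_of_regular hprim (D.subtype.comp e.symm.toMonoidHom)
    (fun a b => ?_) (fun a c hc => ?_) (fun R hR => Cfsg.Agent.DihedralB.trivial_of_dihedral hR)
  · obtain ⟨d, hd⟩ := hDreg.1.exists_smul_eq a b
    exact ⟨e d, by rw [hι, MulEquiv.symm_apply_apply]; exact hd⟩
  · have hm : e.symm c ∈ MulAction.stabilizer ↥D a := by
      rw [MulAction.mem_stabilizer_iff, ← hι]; exact hc
    rw [hDreg.2, Subgroup.mem_bot] at hm
    exact e.symm.injective (hm.trans (map_one _).symm)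

end Cfsg.Agent.S3572
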