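import Cfsg.Statements.S3573
import Cfsg.Agent.Lib.Recog.PrimeOrderPerm
import Mathlib.Data.Nat.Factorial.BigOperators
-- import your own Cfsg.Agent.* helpers here

set_option autoImplicit false
open Cfsg

namespace Cfsg.Agent.S3573

open Cfsg.Agent.PrimeOrderPerm

theorem main (n k r : ℕ) [hr : Fact r.Prime] (hkn : k ≤ n) :
    (∀ σ : Equiv.Perm (Fin n), orderOf σ = r → ∃ s : Finset (Fin n), s.card = k ∧ s.image σ = s) ↔
      k % r ≤ n % r := by
  constructor
  · intro h
    rcases Nat.lt_or_ge n r with hnr | hnr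
    · rw [Nat.mod_eq_of_lt hnr, Nat.mod_eq_of_lt (hkn.trans_lt hnr)]
      exact hkn
    obtain ⟨σ, hσ, hf⟩ := exists_model (r := r) (n / r) (n % r) (Fin n) (by
      rw [Nat.card_fin, mul_comm, Nat.mod_add_div])
    have hσ1 : σ ≠ 1 := by
      rintro rfl
      have : nfix (1 : Equiv.Perm (Fin n)) = n := by
        rw [nfix]
        conv_rhs => rw [← Nat.card_fin n]
        exact Nat.card_congr (Equiv.subtypeUnivEquiv fun x => rfl)
      have := Nat.mod_lt n hr.out.pos
      omega
    obtain ⟨s, hs, hsσ⟩ := h σ (orderOf_eq_prime hσ hσ1)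
    have hinv : ∀ x, σ x ∈ s ↔ x ∈ s := fun x => by
      constructor
      · intro hx
        rw [← hsσ, Finset.mem_image] at hx
        obtain ⟨y, hy, hxy⟩ := hx
        rwa [← σ.injective hxy]
      · intro hx; rw [← hsσ]; exact Finset.mem_image_of_mem _ hx
    let τ : Equiv.Perm {x // x ∈ s} := σ.subtypePerm hinv
    have hτ : τ ^ r = 1 := by
      ext x
      simp [τ, Equiv.Perm.subtypePerm_pow, hσ]
    have h1 := modEq τ hτ
    have h2 : nfix τ ≤ n % r := by
      rw [← hf]
      exact Nat.card_le_card_of_injective (fun x => ⟨x.1.1, congrArg Subtype.val x.2⟩)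
        fun x y he => Subtype.ext (Subtype.ext (congrArg Subtype.val he :))
    rw [Nat.card_eq_fintype_card, Fintype.card_coe, hs] at h1
    rw [h1]
    exact (Nat.mod_le _ _).trans h2
  · intro hmod σ hσ
    have hpow : σ ^ r = 1 := hσ ▸ pow_orderOf_eq_one σ
    obtain ⟨c, hc, -⟩ := eq_add_mul σ hpow
    rw [Fintype.card_fin] at hc
    set i := min (k / r) c with hi
    have hik : i * r ≤ k := by
      calc i * r ≤ k / r * r := Nat.mul_le_mul_right _ (min_le_left _ _)
        _ ≤ k := Nat.div_mul_le_self k r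
    have hrest : k ≤ i * r + nfix σ := by
      rcases le_total (k / r) c with h | h
      · rw [hi, min_eq_left h]
        have h1 := Nat.div_add_mod' k r
        have h2 : n % r = nfix σ % r := (congrArg (· % r) hc).trans (Nat.add_mul_mod_self_right _ _ _)
        have h3 := Nat.mod_le (nfix σ) r
        omega
      · rw [hi, min_eq_right h]
        omega
    obtain ⟨ρ₁, hρ₁, hf₁⟩ := exists_model (r := r) i (k - i * r) (Fin k) (by
      rw [Nat.card_fin]; omega)
    have hci : (c - i) * r = c * r - i * r := Nat.sub_mul c i r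
    have hil : i * r ≤ c * r := Nat.mul_le_mul_right _ (min_le_right _ _)
    obtain ⟨ρ₂, hρ₂, hf₂⟩ := exists_model (r := r) (c - i) (nfix σ - (k - i * r)) (Fin (n - k)) (by
      rw [Nat.card_fin]; omega)
    obtain ⟨e, he⟩ := exists_conj σ (Equiv.sumCongr ρ₁ ρ₂) hpow
      (by rw [sumCongr_pow, hρ₁, hρ₂]; exact Equiv.ext fun x => by cases x <;> rfl)
      (by rw [Nat.card_sum, Nat.card_fin, Nat.card_fin, Nat.card_fin]; omega)
      (by rw [nfix_sumCongr, hf₁, hf₂]; omega)
    refine ⟨(Finset.univ : Finset (Fin k)).image fun a => e.symm (Sum.inl a), ?_, ?_⟩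
    · rw [Finset.card_image_of_injective _ (fun a b h => Sum.inl_injective (e.symm.injective h)),
        Finset.card_univ, Fintype.card_fin]
    · rw [Finset.image_image]
      have : (σ ∘ fun a => e.symm (Sum.inl a)) = fun a => e.symm (Sum.inl (ρ₁ a)) := by
        funext a
        apply e.injective
        simp [he]
      rw [this]
      ext x
      simp only [Finset.mem_image, Finset.mem_univ, true_and]
      exact ⟨fun ⟨a, ha⟩ => ⟨_, ha⟩, fun ⟨a, ha⟩ => ⟨ρ₁.symm a, by simpa using ha⟩⟩

theorem mod_lt_of_dvd {n k r : ℕ} (hr : r.Prime) (hrd : r ∣ n.choose k) (hkr : k < r) :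
    n % r < k := by
  have h : r ∣ n.descFactorial k := by
    rw [Nat.descFactorial_eq_factorial_mul_choose]
    exact hrd.mul_left _
  rw [Nat.descFactorial_eq_prod_range, hr.prime.dvd_finsetProd_iff] at h
  obtain ⟨i, hi, hd⟩ := h
  rw [Finset.mem_range] at hi
  rcases Nat.lt_or_ge n i with h | h
  · exact (Nat.mod_le _ _).trans_lt (h.trans hi)
  · obtain ⟨q, hq⟩ := hd
    rw [show n = i + r * q by omega, Nat.add_mul_mod_self_left, Nat.mod_eq_of_lt (hi.trans hkr)]
    exact hi


/-- Let 1 ≤ k with 2k < n and consider the symmetric group of degree n acting on the k-subsets of an n-set. Let r be a prime dividing the number C(n,k) of k-subsets. If r is odd, then every permutation of order r fixes some k-subset if and only if r ≤ k and the remainder of k modulo r is at most the remainder of n modulo r. If r = 2, then every involution fixes some k-subset if and only if k is even or n is odd. -/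
theorem result (n k : ℕ) (hk : 1 ≤ k) (hkn : 2 * k < n) (r : ℕ) (hr : r.Prime) (hrd : r ∣ Nat.choose n k) :
    (r ≠ 2 → ((∀ σ : Equiv.Perm (Fin n), orderOf σ = r → ∃ s : Finset (Fin n), s.card = k ∧ s.image σ = s) ↔
      (r ≤ k ∧ k % r ≤ n % r))) ∧
    (r = 2 → ((∀ σ : Equiv.Perm (Fin n), orderOf σ = 2 → ∃ s : Finset (Fin n), s.card = k ∧ s.image σ = s) ↔
      (Even k ∨ Odd n))) := by
  haveI : Fact r.Prime := ⟨hr⟩
  refine ⟨fun _ => (main n k r (by omega)).trans ⟨fun h => ⟨?_, h⟩, fun h => h.2⟩, ?_⟩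
  · by_contra hkr
    push Not at hkr
    have := mod_lt_of_dvd hr hrd hkr
    rw [Nat.mod_eq_of_lt hkr] at h
    omega
  · rintro rfl
    refine (main n k 2 (by omega)).trans ?_
    rw [Nat.even_iff, Nat.odd_iff]
    omega

end Cfsg.Agent.S3573
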