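import Cfsg.Statements.S3575
import Cfsg.Agent.Lib.Recog.PrimeOrderPerm
import Mathlib.Tactic.Linarith
import Mathlib.Combinatorics.Enumerative.Bell
-- import your own Cfsg.Agent.* helpers here

set_option autoImplicit false
open Cfsg

namespace Cfsg.Agent.S3575

open Cfsg.Agent.PrimeOrderPerm

/-- The numerical condition for a permutation with `j` cycles of length `r`. -/
def Feasible (a b r j : ℕ) : Prop :=
  ∃ u, u * r ≤ b ∧ a * u ≤ j ∧ (b - u * r) * (a % r) + j * r ≤ a * b

theorem feasible_iff (a b r : ℕ) [hr : Fact r.Prime] (ha : 2 ≤ a) (σ : Equiv.Perm (Fin (a * b)))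
    (hσ : σ ^ r = 1) (j : ℕ) (hj : a * b = nfix σ + j * r) :
    (∃ f : Fin (a * b) → Fin b, (∀ y : Fin b, Nat.card {x : Fin (a * b) // f x = y} = a) ∧
        ∃ π : Equiv.Perm (Fin b), ∀ x, f (σ x) = π (f x)) ↔ Feasible a b r j := by
  constructor
  · rintro ⟨f, hf, π, hπ⟩
    have hsurj : Function.Surjective f := by
      intro y
      by_contra hcon
      push Not at hcon
      have : IsEmpty {x : Fin (a * b) // f x = y} := ⟨fun x => hcon x.1 x.2⟩
      have h := hf y
      rw [Nat.card_of_isEmpty] at h
      omega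
    have hpi : ∀ (m : ℕ) x, f ((σ ^ m) x) = (π ^ m) (f x) := by
      intro m
      induction m with
      | zero => intro x; simp
      | succ m ih => intro x; rw [pow_succ', pow_succ', Equiv.Perm.mul_apply, Equiv.Perm.mul_apply, hπ, ih]
    have hπr : π ^ r = 1 := by
      ext y
      obtain ⟨x, rfl⟩ := hsurj y
      rw [← hpi, hσ]
      rfl
    obtain ⟨u, hu, -⟩ := eq_add_mul π hπr
    rw [Fintype.card_fin] at hu
    -- restrictions to the fixed parts
    let P := {y : Fin b // π y = y}
    have hinv : ∀ (y : P) (x : Fin (a * b)), f (σ x) = y.1 ↔ f x = y.1 := fun y x => by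
      rw [hπ]
      exact ⟨fun h => π.injective (h.trans y.2.symm), fun h => h.symm ▸ y.2⟩
    let τ : (y : P) → Equiv.Perm {x : Fin (a * b) // f x = y.1} := fun y => σ.subtypePerm (hinv y)
    have hτ : ∀ y, τ y ^ r = 1 := fun y => by
      ext x
      simp [τ, Equiv.Perm.subtypePerm_pow, hσ]
    have hlow : ∀ y, a % r ≤ nfix (τ y) := fun y => by
      have h := modEq (τ y) (hτ y)
      rw [hf] at h
      rw [h]
      exact Nat.mod_le _ _
    have hhigh : ∀ y, nfix (τ y) ≤ a := fun y => (nfix_le (τ y)).trans_eq (hf _)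
    have hsum : nfix σ = ∑ y : P, nfix (τ y) := by
      simp only [nfix]
      rw [← Nat.card_sigma]
      exact Nat.card_congr
        { toFun := fun x => ⟨⟨f x.1, by rw [← hπ, x.2]⟩, ⟨x.1, rfl⟩, Subtype.ext x.2⟩
          invFun := fun z => ⟨z.2.1.1, congrArg Subtype.val z.2.2⟩
          left_inv := fun x => rfl
          right_inv := fun ⟨⟨y, hy⟩, ⟨x, hx⟩, h⟩ => by cases hx; rfl }
    have hP : Fintype.card P = nfix π := by rw [nfix, Nat.card_eq_fintype_card]
    have h1 : Fintype.card P * (a % r) ≤ nfix σ := by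
      have h := Finset.card_nsmul_le_sum Finset.univ (fun y => nfix (τ y)) (a % r) fun y _ => hlow y
      simpa [hsum] using h
    have h2 : nfix σ ≤ Fintype.card P * a := by
      have h := Finset.sum_le_card_nsmul Finset.univ (fun y => nfix (τ y)) a fun y _ => hhigh y
      simpa [hsum] using h
    rw [hP] at h1 h2
    have hB : b - u * r = nfix π := by omega
    refine ⟨u, by omega, ?_, by rw [hB]; omega⟩
    have h3 : a * b ≤ nfix π * a + j * r := by omega
    have h4 : a * (nfix π + u * r) = a * b := by rw [← hu]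
    have h5 : a * u * r ≤ j * r := by
      have : a * (nfix π + u * r) = nfix π * a + a * u * r := by ring
      omega
    exact Nat.le_of_mul_le_mul_right h5 hr.out.pos
  · rintro ⟨u, hub, huj, hle⟩
    obtain ⟨B, rfl⟩ := Nat.exists_eq_add_of_le hub
    rw [Nat.add_sub_cancel_left] at hle
    obtain ⟨J, rfl⟩ := Nat.exists_eq_add_of_le huj
    have hab : a * (u * r + B) = a * u * r + B * a := by ring
    have hJr : (a * u + J) * r = a * u * r + J * r := Nat.add_mul _ _ _
    have hJ : J ≤ B * (a / r) := by
      have h1 : B * a = B * (a / r) * r + B * (a % r) := by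
        conv_lhs => rw [← Nat.div_add_mod' a r]
        ring
      have h2 : J * r ≤ B * (a / r) * r := by omega
      exact Nat.le_of_mul_le_mul_right h2 hr.out.pos
    obtain ⟨c, hc, hcs⟩ := exists_split B (a / r) J hJ
    have hcr : ∀ p, c p * r ≤ a := fun p =>
      (Nat.mul_le_mul_right r (hc p)).trans (Nat.div_mul_le_self a r)
    have hmodel : ∀ p, ∃ t : Equiv.Perm (Fin a), t ^ r = 1 ∧ nfix t = a - c p * r := fun p =>
      exists_model (c p) _ (Fin a) (by rw [Nat.card_fin]; have := hcr p; omega)
    choose t ht htf using hmodel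
    let W := (Fin u × ZMod r) ⊕ Fin B
    let π₀ : Equiv.Perm W := Equiv.sumCongr (Equiv.prodCongr (Equiv.refl _) (Equiv.addRight 1)) (Equiv.refl _)
    let t' : W → Equiv.Perm (Fin a) := Sum.elim (fun _ => 1) t
    let ρ : Equiv.Perm (W × Fin a) := Equiv.prodShear π₀ t'
    have hl : ∀ (m : ℕ) (w : Fin u × ZMod r) (x : Fin a),
        (ρ ^ m) (Sum.inl w, x) = (Sum.inl (w.1, w.2 + m), x) := by
      intro m
      induction m with
      | zero => intro w x; simp
      | succ m ih =>
        intro w x
        rw [pow_succ', Equiv.Perm.mul_apply, ih]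
        refine Prod.ext (congrArg Sum.inl (Prod.ext rfl ?_)) rfl
        show w.2 + (m : ZMod r) + 1 = w.2 + ((m + 1 : ℕ) : ZMod r)
        push_cast
        ring
    have hrr : ∀ (m : ℕ) (p : Fin B) (x : Fin a),
        (ρ ^ m) (Sum.inr p, x) = (Sum.inr p, (t p ^ m) x) := by
      intro m
      induction m with
      | zero => intro p x; simp
      | succ m ih => intro p x; rw [pow_succ', Equiv.Perm.mul_apply, ih, pow_succ']; rfl
    have hρ : ρ ^ r = 1 := by
      apply Equiv.ext
      rintro ⟨w | p, x⟩
      · rw [hl, ZMod.natCast_self, add_zero]; rfl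
      · rw [hrr, ht]; rfl
    have hρf : nfix ρ = B * a - J * r := by
      have h1 : nfix ρ = ∑ p, nfix (t p) := by
        simp only [nfix]
        rw [← Nat.card_sigma]
        refine (Nat.card_congr (Equiv.ofBijective
          (fun z : (p : Fin B) × {x // t p x = x} =>
            (⟨(Sum.inr z.1, z.2.1), Prod.ext rfl z.2.2⟩ : {v : W × Fin a // ρ v = v})) ⟨?_, ?_⟩)).symm
        · rintro ⟨p, x, hx⟩ ⟨p', x', hx'⟩ h
          have h' := congrArg Subtype.val h
          obtain rfl : p = p' := Sum.inr_injective (congrArg Prod.fst h')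
          obtain rfl : x = x' := congrArg (fun v : W × Fin a => v.2) h'
          rfl
        · rintro ⟨⟨w | p, x⟩, hx⟩
          · exfalso
            have h : w.2 + 1 = w.2 := congrArg Prod.snd (Sum.inl_injective (congrArg Prod.fst hx))
            simp at h
          · exact ⟨⟨p, x, congrArg Prod.snd hx⟩, rfl⟩
      have h2 : ∑ p, nfix (t p) + J * r = B * a := by
        rw [← hcs, Finset.sum_mul, ← Finset.sum_add_distrib,
          Finset.sum_congr rfl (fun p _ => show nfix (t p) + c p * r = a by
            rw [htf]; have := hcr p; omega)]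
        simp
      omega
    have hcard : Nat.card (Fin (a * (u * r + B))) = Nat.card (W × Fin a) := by
      rw [Nat.card_prod, Nat.card_sum, Nat.card_prod, Nat.card_zmod, Nat.card_fin, Nat.card_fin,
        Nat.card_fin, Nat.card_fin]
      ring
    obtain ⟨e, he⟩ := exists_conj σ ρ hσ hρ hcard (by rw [hρf]; omega)
    obtain ⟨d⟩ := (Finite.card_eq (α := W) (β := Fin (u * r + B))).1 (by
      rw [Nat.card_sum, Nat.card_prod, Nat.card_zmod, Nat.card_fin, Nat.card_fin, Nat.card_fin])
    refine ⟨fun x => d (e x).1, fun y => ?_, d.permCongr π₀, fun x => ?_⟩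
    · calc Nat.card {x // d (e x).1 = y} = Nat.card {v : W × Fin a // v.1 = d.symm y} :=
            Nat.card_congr (e.subtypeEquiv fun x => by rw [Equiv.eq_symm_apply])
        _ = Nat.card (Fin a) := Nat.card_congr
            { toFun := fun v => v.1.2
              invFun := fun i => ⟨(d.symm y, i), rfl⟩
              left_inv := fun v => Subtype.ext (Prod.ext v.2.symm rfl)
              right_inv := fun i => rfl }
        _ = a := Nat.card_fin a
    · show d (e (σ x)).1 = _
      rw [he]
      simp [ρ]

theorem arith (a b r : ℕ) (hr : r.Prime) (ha : 2 ≤ a) (hab : r ≤ a * b) :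
    (∀ j, 1 ≤ j → j * r ≤ a * b → Feasible a b r j) ↔
    (r ≤ a ∧ (a % r = 0 ∨ (b % r = 0 ∧ a % r = 1) ∨
        (a % r ≠ 0 ∧ b % r ≠ 0 ∧ (b % r) * (a % r) < r ∧
          (b < r ∨ (b % r + r) * (a % r) ≤ (b % r) * a + r)))) := by
  have hb0 : 0 < b := by
    rcases Nat.eq_zero_or_pos b with rfl | h
    · simp at hab; have := hr.pos; omega
    · exact h
  have hl : a % r < r := Nat.mod_lt _ hr.pos
  have hk : b % r < r := Nat.mod_lt _ hr.pos
  have hla : a % r ≤ a := Nat.mod_le _ _
  constructor
  · intro h
    have hra : r ≤ a := by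
      by_contra hlt
      push Not at hlt
      obtain ⟨u, -, hu, hle⟩ := h 1 le_rfl (by omega)
      have hu0 : u = 0 := by
        rcases Nat.eq_zero_or_pos u with h | h
        · exact h
        · have : a * 1 ≤ a * u := Nat.mul_le_mul_left a h
          omega
      subst hu0
      rw [Nat.mod_eq_of_lt hlt, zero_mul, Nat.sub_zero, mul_comm b a] at hle
      omega
    refine ⟨hra, ?_⟩
    by_cases hl0 : a % r = 0
    · exact Or.inl hl0
    -- the largest number of cycles
    have hkl : b % r * (a % r) < r := by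
      obtain ⟨u, hub, -, hle⟩ := h (a * b / r) (Nat.div_pos hab hr.pos) (Nat.div_mul_le_self _ _)
      have hB : b % r ≤ b - u * r := by
        have h1 : (b - u * r) % r = b % r := by
          conv_rhs => rw [show b = (b - u * r) + u * r by omega, Nat.add_mul_mod_self_right]
        rw [← h1]
        exact Nat.mod_le _ _
      have h2 := Nat.div_add_mod' (a * b) r
      have h3 := Nat.mod_lt (a * b) hr.pos
      have h4 : b % r * (a % r) ≤ (b - u * r) * (a % r) := Nat.mul_le_mul_right _ hB
      omega
    have hbig : r ≤ b → (b % r + r) * (a % r) ≤ b % r * a + r := by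
      intro hrb
      obtain ⟨u, hu⟩ : ∃ u, b / r = u + 1 :=
        ⟨b / r - 1, by have := Nat.div_pos hrb hr.pos; omega⟩
      have hb : b = (u + 1) * r + b % r := by rw [← hu, Nat.div_add_mod']
      obtain ⟨u', hub', huj, hle⟩ := h (u * a + (a - 1)) (by omega) (by
        calc (u * a + (a - 1)) * r ≤ (u + 1) * a * r := Nat.mul_le_mul_right _ (by rw [Nat.succ_mul]; omega)
          _ = a * ((u + 1) * r) := by ring
          _ ≤ a * b := Nat.mul_le_mul_left _ (by omega))
      have hu' : u' ≤ u := by
        by_contra hcon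
        have : a * (u + 1) ≤ a * u' := Nat.mul_le_mul_left _ (by omega)
        rw [mul_add, mul_one, mul_comm a u] at this
        omega
      obtain ⟨d, rfl⟩ := Nat.exists_eq_add_of_le hu'
      obtain ⟨a', rfl⟩ : ∃ a', a = a' + 1 := ⟨a - 1, by omega⟩
      rw [Nat.add_sub_cancel] at hle
      obtain ⟨k, hkd⟩ : ∃ k, k = b % r := ⟨_, rfl⟩
      rw [← hkd] at hb ⊢
      have hsub : b - u' * r = (d + 1) * r + k := by
        rw [hb]
        have : (u' + d + 1) * r = u' * r + (d + 1) * r := by ring
        omega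
      rw [hsub] at hle
      rw [hb] at hle
      nlinarith [Nat.zero_le (d * r * ((a' + 1) % r))]
    by_cases hk0 : b % r = 0
    · refine Or.inr (Or.inl ⟨hk0, ?_⟩)
      have hrb : r ≤ b := Nat.le_of_dvd hb0 (Nat.dvd_of_mod_eq_zero hk0)
      have h' := hbig hrb
      rw [hk0, zero_add, zero_mul, zero_add] at h'
      have : r * (a % r) ≤ r * 1 := by omega
      have := Nat.le_of_mul_le_mul_left this hr.pos
      omega
    · refine Or.inr (Or.inr ⟨hl0, hk0, hkl, ?_⟩)
      rcases Nat.lt_or_ge b r with hb | hb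
      · exact Or.inl hb
      · exact Or.inr (hbig hb)
  · rintro ⟨hra, hcase⟩ j hj1 hj
    by_cases hl0 : a % r = 0
    · exact ⟨0, by simp, by simp, by rw [hl0]; simpa using hj⟩
    have hkl : b % r * (a % r) < r := by
      rcases hcase with h | ⟨h, -⟩ | ⟨-, -, h, -⟩
      · exact absurd h hl0
      · rw [h, zero_mul]; exact hr.pos
      · exact h
    rcases le_or_gt (b / r) (j / a) with hu | hu
    · refine ⟨b / r, Nat.div_mul_le_self b r, ?_, ?_⟩
      · calc a * (b / r) ≤ a * (j / a) := Nat.mul_le_mul_left _ hu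
          _ ≤ j := Nat.mul_div_le j a
      · have h1 := Nat.div_add_mod' b r
        rw [show b - b / r * r = b % r by omega]
        have h2 : a * b % r = b % r * (a % r) := by
          rw [Nat.mul_mod, mul_comm, Nat.mod_eq_of_lt hkl]
        have h3 := Nat.div_add_mod' (a * b) r
        have h4 : j * r ≤ a * b / r * r :=
          Nat.mul_le_mul_right _ ((Nat.le_div_iff_mul_le hr.pos).2 hj)
        omega
    · have hrb : r ≤ b := by
        by_contra hcon
        rw [Nat.div_eq_of_lt (by omega : b < r)] at hu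
        exact absurd hu (Nat.not_lt_zero _)
      have hcond : (b % r + r) * (a % r) ≤ b % r * a + r := by
        rcases hcase with h | ⟨h, h'⟩ | ⟨-, -, -, h | h⟩
        · exact absurd h hl0
        · rw [h, h']; simp
        · omega
        · exact h
      refine ⟨j / a, ?_, Nat.mul_div_le j a, ?_⟩
      · calc j / a * r ≤ b / r * r := Nat.mul_le_mul_right _ hu.le
          _ ≤ b := Nat.div_mul_le_self b r
      · obtain ⟨d, hd⟩ : ∃ d, b / r = j / a + 1 + d := Nat.exists_eq_add_of_le hu
        obtain ⟨u, hu'⟩ : ∃ u, u = j / a := ⟨_, rfl⟩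
        obtain ⟨k, hk'⟩ : ∃ k, k = b % r := ⟨_, rfl⟩
        obtain ⟨l, hl'⟩ : ∃ l, l = a % r := ⟨_, rfl⟩
        rw [← hu'] at hd ⊢
        rw [← hl'] at hcond hla ⊢
        rw [← hk'] at hcond
        have hb : b = (u + 1 + d) * r + k := by rw [← hd, hk', Nat.div_add_mod']
        have hjb : j ≤ u * a + (a - 1) := by
          have := Nat.div_add_mod' j a
          have := Nat.mod_lt j (show a > 0 by omega)
          rw [← hu'] at *
          omega
        obtain ⟨a', ha'⟩ : ∃ a', a = a' + 1 := ⟨a - 1, by omega⟩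
        rw [ha', Nat.add_sub_cancel] at hjb
        rw [show b - u * r = (1 + d) * r + k by rw [hb]; have : (u + 1 + d) * r = u * r + (1 + d) * r := (by ring); omega]
        rw [hb, ha']
        rw [ha'] at hcond hla
        have h5 : j * r ≤ (u * (a' + 1) + a') * r := Nat.mul_le_mul_right _ hjb
        have h6 : d * r * l ≤ d * r * (a' + 1) := Nat.mul_le_mul_left _ hla
        nlinarith


/-- Let a, b ≥ 2 and consider the symmetric group of degree a·b acting on the partitions of an (a·b)-set into b parts of size a (encoded as maps onto a b-element set all of whose fibres have a elements; a permutation fixes such a partition when it permutes the fibres). Let r be a prime dividing the number (ab)!/((a!)^b·b!) of such partitions, and let ℓ and k be the remainders of a and b modulo r. Then every permutation of order r fixes some such partition if and only if r ≤ a and one of the following holds: ℓ = 0; or k = 0 and ℓ = 1; or ℓ and k are non-zero, k·ℓ < r, and either b < r or (k + r)·ℓ ≤ k·a + r. -/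
theorem result (a b : ℕ) (ha : 2 ≤ a) (hb : 2 ≤ b) (r : ℕ) (hr : r.Prime)
    (hrd : r ∣ (a * b).factorial / (a.factorial ^ b * b.factorial)) :
    (∀ σ : Equiv.Perm (Fin (a * b)), orderOf σ = r →
        ∃ f : Fin (a * b) → Fin b, (∀ j : Fin b, Nat.card {x : Fin (a * b) // f x = j} = a) ∧
          ∃ π : Equiv.Perm (Fin b), ∀ x : Fin (a * b), f (σ x) = π (f x)) ↔
      (r ≤ a ∧ (a % r = 0 ∨ (b % r = 0 ∧ a % r = 1) ∨
        (a % r ≠ 0 ∧ b % r ≠ 0 ∧ (b % r) * (a % r) < r ∧ (b < r ∨ (b % r + r) * (a % r) ≤ (b % r) * a + r)))) := by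
  haveI : Fact r.Prime := ⟨hr⟩
  have hab : r ≤ a * b := by
    rw [mul_comm a b, ← Nat.uniformBell_eq_div b (by omega : a ≠ 0)] at hrd
    rw [mul_comm a b]
    refine hr.dvd_factorial.1 ?_
    rw [← Nat.uniformBell_mul_eq b (by omega : a ≠ 0)]
    exact (hrd.mul_right _).mul_right _
  refine Iff.trans ?_ (arith a b r hr ha hab)
  constructor
  · intro h j hj1 hj
    obtain ⟨σ, hσ, hf⟩ := Cfsg.Agent.PrimeOrderPerm.exists_model (r := r) j (a * b - j * r) (Fin (a * b))
      (by rw [Nat.card_fin]; omega)
    refine (feasible_iff a b r ha σ hσ j (by omega)).1 (h σ (orderOf_eq_prime hσ ?_))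
    rintro rfl
    have h1 : Cfsg.Agent.PrimeOrderPerm.nfix (1 : Equiv.Perm (Fin (a * b))) = a * b :=
      (Nat.card_congr (Equiv.subtypeUnivEquiv fun x => rfl)).trans (Nat.card_fin _)
    have : 1 * r ≤ j * r := Nat.mul_le_mul_right _ hj1
    have := hr.pos
    omega
  · intro h σ hσ
    have hpow : σ ^ r = 1 := hσ ▸ pow_orderOf_eq_one σ
    obtain ⟨c, hc, hct⟩ := Cfsg.Agent.PrimeOrderPerm.eq_add_mul σ hpow
    rw [Fintype.card_fin] at hc
    refine (feasible_iff a b r ha σ hpow c hc).2 (h c ?_ (by omega))
    rcases Nat.eq_zero_or_pos c with rfl | hc0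
    · rw [Multiset.replicate_zero, Equiv.Perm.cycleType_eq_zero] at hct
      rw [hct, orderOf_one] at hσ
      exact absurd hσ.symm hr.ne_one
    · exact hc0

end Cfsg.Agent.S3575
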