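import Cfsg.Statements.S3580
import Cfsg.Agent.Lib.SylowOrbits.Main

set_option autoImplicit false
set_option linter.style.haveILetI false
open Cfsg

namespace Cfsg.Agent.S3580

open MulAction Cfsg.Agent.SylowOrbits

theorem card_orbits_le {G Ω : Type*} [Group G] [MulAction G Ω] [Finite Ω] {p : ℕ} [Fact p.Prime]
    {P : Subgroup G} (hP : IsPGroup p P) :
    p * Nat.card (orbitRel.Quotient P Ω) ≤ Nat.card Ω + (p - 1) * (fixedPoints P Ω).ncard := by
  classical
  have hp : p.Prime := Fact.out
  haveI := Fintype.ofFinite Ω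
  haveI : Fintype (orbitRel.Quotient P Ω) := Fintype.ofFinite _
  have h1 : Nat.card Ω = ∑ q : orbitRel.Quotient P Ω, (orbit P q.out).ncard := by
    rw [Nat.card_congr (selfEquivSigmaOrbits P Ω), Nat.card_sigma]
    simp only [Nat.card_coe_set_eq]
  have h2 : ∀ q : orbitRel.Quotient P Ω,
      p ≤ (orbit P q.out).ncard + (p - 1) * (if q.out ∈ fixedPoints P Ω then 1 else 0) := by
    intro q
    have hpos : 0 < (orbit P q.out).ncard :=
      (Set.ncard_pos (Set.toFinite _)).2 ⟨q.out, mem_orbit_self q.out⟩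
    split_ifs with hq
    · omega
    · obtain ⟨m, hm⟩ := hP.card_orbit q.out
      rw [Nat.card_coe_set_eq] at hm
      rcases Nat.eq_zero_or_pos m with h | h
      · exfalso
        rw [h, pow_zero] at hm
        refine hq fun g => ?_
        obtain ⟨x, hx⟩ := Set.ncard_eq_one.1 hm
        have e1 : g • q.out = x := by simpa [hx] using mem_orbit q.out g
        have e2 : q.out = x := by simpa [hx] using mem_orbit_self (M := P) q.out
        exact e1.trans e2.symm
      · have := Nat.le_self_pow h.ne' p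
        omega
  have h3 := Finset.sum_le_sum (s := (Finset.univ : Finset (orbitRel.Quotient P Ω)))
    fun q _ => h2 q
  rw [Finset.sum_const, Finset.card_univ, smul_eq_mul, Finset.sum_add_distrib, ← h1,
    ← Finset.mul_sum, Finset.sum_boole, Nat.cast_id, ← Nat.card_eq_fintype_card, mul_comm] at h3
  refine h3.trans (Nat.add_le_add_left (Nat.mul_le_mul_left _ ?_) _)
  rw [← Set.ncard_coe_finset]
  exact Set.ncard_le_ncard_of_injOn (fun q => q.out) (fun q hq => (Finset.mem_filter.1 hq).2)
    Quotient.out_injective.injOn (Set.toFinite _)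

/-- Let G act faithfully and transitively on a finite set Ω, let p be an odd prime dividing the order of G and P a Sylow p-subgroup of G. Then the number of orbits of P on Ω is at most (p/(2p − 1))·(number of points). -/
theorem result {G Ω : Type*} [Group G] [Finite G] [MulAction G Ω] [FaithfulSMul G Ω] [Finite Ω]
    (htrans : MulAction.IsPretransitive G Ω) (p : ℕ) [Fact p.Prime] (hp2 : p ≠ 2) (hpG : p ∣ Nat.card G)
    (P : Sylow p G) :
    (2 * p - 1) * Nat.card (MulAction.orbitRel.Quotient ↥(P : Subgroup G) Ω) ≤ p * Nat.card Ω := by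
  have hp : p.Prime := Fact.out
  obtain hΩ | ⟨⟨a⟩⟩ := isEmpty_or_nonempty Ω
  · haveI : IsEmpty (orbitRel.Quotient ↥(P : Subgroup G) Ω) :=
      ⟨fun q => hΩ.elim q.out⟩
    simp
  set H := stabilizer G a
  have horb : orbit G a = Set.univ := orbit_eq_univ G a
  have hn : Nat.card (G ⧸ H) = Nat.card Ω := by
    rw [← Subgroup.index_eq_card, index_stabilizer, horb, Set.ncard_univ]
  have hf : fxs (P : Subgroup G) (Set.univ : Set (G ⧸ H)) = (fixedPoints P Ω).ncard := by
    rw [← (orbit_quot (P : Subgroup G) a).2, horb, fxs, Set.univ_inter]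
  have hmov : ¬ ∀ q : G ⧸ H, q ∈ fixedPoints (P : Subgroup G) (G ⧸ H) := by
    intro h
    refine P.ne_bot_of_dvd_card hpG ((Subgroup.eq_bot_iff_forall _).2 fun g hg => ?_)
    refine eq_of_smul_eq_smul (α := Ω) fun x => ?_
    obtain ⟨t, rfl⟩ := MulAction.exists_smul_eq G a x
    have h1 := h (t : G ⧸ H) ⟨g, hg⟩
    have h2 := congrArg (ofQuotientStabilizer G a) h1
    change ofQuotientStabilizer G a (g • (t : G ⧸ H)) = _ at h2
    rw [ofQuotientStabilizer_smul, ofQuotientStabilizer_mk] at h2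
    rw [one_smul, h2]
  have h0 := (ih_all hp2 (Nat.card (G ⧸ H) + 1) G (G ⧸ H) (Nat.lt_succ_self _) P hmov).1
  rw [dd, hf, Set.ncard_univ, hn] at h0
  set o := Nat.card (orbitRel.Quotient ↥(P : Subgroup G) Ω)
  set n := Nat.card Ω
  set f := (fixedPoints P Ω).ncard
  have h1 : p * o ≤ n + (p - 1) * f := card_orbits_le P.isPGroup'
  have hp1 : ((p - 1 : ℕ) : ℤ) = (p : ℤ) - 1 := by have := hp.one_lt; omega
  have hp1' : ((2 * p - 1 : ℕ) : ℤ) = 2 * (p : ℤ) - 1 := by have := hp.one_lt; omega
  have h1' : (p : ℤ) * o ≤ n + ((p : ℤ) - 1) * f := by rw [← hp1]; exact_mod_cast h1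
  have hp2' : (2 : ℤ) ≤ p := by exact_mod_cast hp.two_le
  suffices ((2 * p - 1 : ℕ) : ℤ) * o ≤ (p : ℤ) * n by exact_mod_cast this
  rw [hp1']
  refine le_of_mul_le_mul_left ?_ (show (0 : ℤ) < p by omega)
  nlinarith [mul_le_mul_of_nonneg_left h1' (show (0 : ℤ) ≤ 2 * p - 1 by omega),
    mul_le_mul_of_nonneg_left h0 (show (0 : ℤ) ≤ p - 1 by omega)]

end Cfsg.Agent.S3580
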