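import Cfsg.Statements.S3592
import Cfsg.Agent.Lib.M11Uniq.Std
import Cfsg.Agent.Lib.Golay.Mathieu
import Cfsg.Agent.Lib.PrimeGraph7920.Simple

set_option autoImplicit false
open Cfsg

namespace Cfsg.Agent.S3592

open Cfsg.Agent

/-- The centraliser of an element of prime order in a simple group of order 7920. -/
theorem card_centralizer_prime {H : Type*} [Group H] [Fintype H] [IsSimpleGroup H] (hH : Nat.card H = 7920)
    {p : ℕ} (hp : p.Prime) (hpH : p ∣ 7920) :
    ∃ d m : ℕ, d * m = 7920 ∧ (m = 165 ∨ m = 440 ∨ m = 1584 ∨ m = 720) ∧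
      ∀ h : H, orderOf h = p → Nat.card (Subgroup.centralizer ({h} : Set H)) ∣ d := by
  haveI := Fact.mk hp
  have hp' : p = 2 ∨ p = 3 ∨ p = 5 ∨ p = 11 := by
    rw [show (7920 : ℕ) = 2 ^ 4 * 3 ^ 2 * 5 * 11 by norm_num] at hpH
    rcases hp.dvd_mul.1 hpH with h1 | h1
    · rcases hp.dvd_mul.1 h1 with h2 | h2
      · rcases hp.dvd_mul.1 h2 with h3 | h3
        · exact Or.inl ((Nat.prime_dvd_prime_iff_eq hp Nat.prime_two).1 (hp.dvd_of_dvd_pow h3))
        · exact Or.inr (Or.inl ((Nat.prime_dvd_prime_iff_eq hp Nat.prime_three).1 (hp.dvd_of_dvd_pow h3)))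
      · exact Or.inr (Or.inr (Or.inl ((Nat.prime_dvd_prime_iff_eq hp (by norm_num)).1 h2)))
    · exact Or.inr (Or.inr (Or.inr ((Nat.prime_dvd_prime_iff_eq hp (by norm_num)).1 h1)))
  rcases hp' with rfl | rfl | rfl | rfl
  · exact ⟨48, 165, by norm_num, Or.inl rfl, fun h ho => dvd_of_eq (M11Local.card_centralizer_involution hH ho)⟩
  · refine ⟨18, 440, by norm_num, Or.inr (Or.inl rfl), fun h ho => ?_⟩
    obtain ⟨v, hv⟩ := (IsPGroup.of_card (n := 1) (by rw [Nat.card_zpowers, ho, pow_one]) :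
      IsPGroup 3 (Subgroup.zpowers h)).exists_le_sylow
    have hhv : h ∈ (v : Subgroup H) := hv (Subgroup.mem_zpowers h)
    have hh1 : h ≠ 1 := M11Uniq.ne_one_of_orderOf ho (by norm_num)
    have hle' : Subgroup.centralizer ({h} : Set H) ≤
        Subgroup.normalizer ((v : Subgroup H) : Set H) ⊓ Subgroup.centralizer ({h} : Set H) := fun x hx => by
      refine ⟨Sylow.smul_eq_iff_mem_normalizer.1 ?_, hx⟩
      by_contra hne
      refine hh1 (M11Uniq.ti hH (Ne.symm hne) hhv ?_)
      rw [M11Uniq.mem_smul_sylow]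
      have e : x⁻¹ * h * x = h := by
        rw [mul_assoc, ← Subgroup.mem_centralizer_singleton_iff.1 hx, inv_mul_cancel_left]
      rwa [e]
    rw [← (M11Uniq.point_facts hH hhv hh1).1]
    exact Subgroup.card_dvd_of_le hle'
  · exact ⟨5, 1584, by norm_num, Or.inr (Or.inr (Or.inl rfl)), fun h ho => dvd_of_eq (M11Local.centralizer_five hH ho)⟩
  · exact ⟨11, 720, by norm_num, Or.inr (Or.inr (Or.inr rfl)), fun h ho => dvd_of_eq (M11Local.centralizer_eleven hH ho)⟩

/-- The numbers of elements of a given order. -/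
theorem count_dvd {H : Type*} [Group H] [Fintype H] [IsSimpleGroup H] (hH : Nat.card H = 7920)
    {n : ℕ} (hn : n ≠ 1) :
    Nat.card {g : H // orderOf g = n} = 0 ∨ ∃ m, (m = 165 ∨ m = 440 ∨ m = 1584 ∨ m = 720) ∧
      m ∣ Nat.card {g : H // orderOf g = n} := by
  classical
  by_cases h0 : Nat.card {g : H // orderOf g = n} = 0
  · exact Or.inl h0
  right
  obtain ⟨p, hp, hpn⟩ := Nat.exists_prime_and_dvd hn
  haveI := Fact.mk hp
  obtain ⟨⟨g₀, hg₀⟩⟩ := (Nat.card_pos_iff.1 (Nat.pos_of_ne_zero h0)).1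
  have hn0 : n ≠ 0 := hg₀ ▸ (orderOf_pos g₀).ne'
  -- the bound at one element gives the prime
  have hpow : ∀ g : H, orderOf g = n → orderOf (g ^ (n / p)) = p := fun g hg => by
    subst hg
    exact orderOf_pow_orderOf_div hn0 hpn
  obtain ⟨d, m, hdm, hm, hd⟩ := card_centralizer_prime hH hp
    (hpn.trans (hH ▸ hg₀ ▸ orderOf_dvd_natCard g₀))
  refine ⟨m, hm, ?_⟩
  letI act : MulAction H {g : H // orderOf g = n} :=
    { smul := fun c g => ⟨c * g.1 * c⁻¹, (M11Uniq.orderOf_conj c g.1).trans g.2⟩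
      one_smul := fun g => Subtype.ext (show (1 : H) * g.1 * (1 : H)⁻¹ = g.1 by group)
      mul_smul := fun a b g => Subtype.ext
        (show a * b * g.1 * (a * b)⁻¹ = a * (b * g.1 * b⁻¹) * a⁻¹ by group) }
  rw [Nat.card_congr (MulAction.selfEquivSigmaOrbitsQuotientStabilizer H {g : H // orderOf g = n}), Nat.card_sigma]
  refine Finset.dvd_sum fun ω _ => ?_
  set g := Quotient.out ω
  have hst : Nat.card (MulAction.stabilizer H g) ∣ d := by
    have hle : MulAction.stabilizer H g ≤ Subgroup.centralizer ({g.1 ^ (n / p)} : Set H) := fun x hx => by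
      have e : x * g.1 * x⁻¹ = g.1 := congrArg Subtype.val hx
      exact Subgroup.mem_centralizer_singleton_iff.2
        ((show Commute x g.1 from mul_inv_eq_iff_eq_mul.1 e).pow_right _).eq
    exact (Subgroup.card_dvd_of_le hle).trans (hd _ (hpow g.1 g.2))
  obtain ⟨r, hr⟩ := hst
  refine ⟨r, ?_⟩
  have h1 := (MulAction.stabilizer H g).card_mul_index
  rw [hH, ← hdm, hr, mul_assoc] at h1
  rw [← Subgroup.index_eq_card]
  exact (Nat.eq_of_mul_eq_mul_left Nat.card_pos h1).trans (mul_comm r m)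

/-- An abstract form. -/
theorem main {G M : Type*} [Group G] [Finite G] [Group M] [Finite M] [IsSimpleGroup M] (hM : Nat.card M = 7920)
    (hG : Nat.card G = 7920)
    (hnse : {c : ℕ | 0 < c ∧ ∃ n : ℕ, c = Nat.card {g : G // orderOf g = n}} =
      {c : ℕ | 0 < c ∧ ∃ n : ℕ, c = Nat.card {g : M // orderOf g = n}}) : IsSimpleGroup G := by
  classical
  haveI : Fintype M := Fintype.ofFinite _
  haveI : Fintype G := Fintype.ofFinite _
  haveI : Fact (Nat.Prime 11) := ⟨by norm_num⟩
  haveI : Fact (Nat.Prime 5) := ⟨by norm_num⟩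
  -- the number of elements of order p with a cyclic Sylow subgroup
  have key : ∀ (p : ℕ) [Fact p.Prime], p ∣ 7920 → ¬ p ^ 2 ∣ 7920 →
      ∃ m, (m = 165 ∨ m = 440 ∨ m = 1584 ∨ m = 720) ∧ m ∣ Nat.card (Sylow p G) * (p - 1) ∨
        Nat.card (Sylow p G) * (p - 1) = 1 := by
    intro p _ hpd hp2
    have hp := (Fact.out : p.Prime)
    obtain ⟨x, hx⟩ := exists_prime_orderOf_dvd_card' p (hG.symm ▸ hpd)
    have hpos : 0 < Nat.card {g : G // orderOf g = p} := Nat.card_pos_iff.2 ⟨⟨⟨x, hx⟩⟩, inferInstance⟩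
    have hmem : Nat.card {g : G // orderOf g = p} ∈
        {c : ℕ | 0 < c ∧ ∃ n : ℕ, c = Nat.card {g : M // orderOf g = n}} := hnse ▸ ⟨hpos, p, rfl⟩
    obtain ⟨-, n, hn⟩ := hmem
    have hP : ∀ P : Sylow p G, Nat.card (P : Subgroup G) = p := fun P => by
      obtain ⟨m, hm⟩ := hpd
      have hm' : ¬ p ∣ m := fun hd => hp2 (by rw [hm, pow_two]; exact Nat.mul_dvd_mul_left p hd)
      rw [Small.sylow_card (k := 1) (by rw [hG, hm, pow_one]) hm' P, pow_one]
    have hgen : ∀ (P : Sylow p G) (g : G), g ∈ (P : Subgroup G) → g ≠ 1 → Subgroup.zpowers g = (P : Subgroup G) := by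
      intro P g hg hg1
      refine Subgroup.eq_of_le_of_card_ge (Subgroup.zpowers_le.2 hg) ?_
      rw [hP, Nat.card_zpowers]
      rcases (Nat.dvd_prime hp).1 (hP P ▸ Subgroup.orderOf_dvd_natCard _ hg) with h | h
      · exact absurd (orderOf_eq_one_iff.1 h) hg1
      · rw [h]
    have hset : (Finset.univ.filter fun g : G => orderOf g = p) =
        (Finset.univ : Finset (Sylow p G)).biUnion fun P =>
          (Finset.univ.filter fun g : G => g ∈ (P : Subgroup G)).erase 1 := by
      ext g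
      simp only [Finset.mem_filter, Finset.mem_univ, true_and, Finset.mem_biUnion, Finset.mem_erase]
      constructor
      · intro hg
        obtain ⟨P, hP'⟩ := (IsPGroup.of_card (n := 1) (by rw [Nat.card_zpowers, hg, pow_one]) :
          IsPGroup p (Subgroup.zpowers g)).exists_le_sylow
        exact ⟨P, M11Uniq.ne_one_of_orderOf hg hp.ne_one, hP' (Subgroup.mem_zpowers g)⟩
      · rintro ⟨P, hg1, hg⟩
        rw [← Nat.card_zpowers, hgen P g hg hg1, hP]
    have hc : Nat.card {g : G // orderOf g = p} = Nat.card (Sylow p G) * (p - 1) := by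
      rw [Nat.card_eq_fintype_card, Fintype.card_subtype, hset, Finset.card_biUnion, Finset.sum_congr rfl fun P _ =>
        show _ = p - 1 by rw [Finset.card_erase_of_mem (by simp), ← Fintype.card_subtype, ← Nat.card_eq_fintype_card, hP],
        Finset.sum_const, Finset.card_univ, ← Nat.card_eq_fintype_card, smul_eq_mul]
      intro P _ Q _ hPQ
      refine Finset.disjoint_left.2 fun g hg hg' => hPQ ?_
      simp only [Finset.mem_erase, Finset.mem_filter, Finset.mem_univ, true_and] at hg hg'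
      exact Sylow.ext ((hgen P g hg.2 hg.1).symm.trans (hgen Q g hg'.2 hg'.1))
    rw [hn] at hc hpos
    by_cases hn1 : n = 1
    · refine ⟨0, Or.inr ?_⟩
      subst hn1
      rw [← hc, Nat.card_eq_one_iff_unique]
      exact ⟨⟨fun a b => Subtype.ext ((orderOf_eq_one_iff.1 a.2).trans (orderOf_eq_one_iff.1 b.2).symm)⟩,
        ⟨⟨1, orderOf_one⟩⟩⟩
    rcases count_dvd hM hn1 with h | ⟨m, hm, hd⟩
    · omega
    · exact ⟨m, Or.inl ⟨hm, hc ▸ hd⟩⟩
  have bad : ∀ c : ℕ, c ∈ [4, 10, 120, 450] →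
      (∃ m, (m = 165 ∨ m = 440 ∨ m = 1584 ∨ m = 720) ∧ m ∣ c ∨ c = 1) → False := by
    intro c hc h
    simp only [List.mem_cons, List.not_mem_nil, or_false] at hc
    obtain ⟨m, ⟨hm, hd⟩ | h⟩ := h
    · rcases hm with rfl | rfl | rfl | rfl <;> rcases hc with rfl | rfl | rfl | rfl <;> norm_num at hd
    · omega
  have hn11 : Nat.card (Sylow 11 G) = 144 := by
    have h0 := key 11 (by norm_num) (by norm_num)
    have hmem := Small.sylow_number_mem (G := G) (p := 11) (k := 1) (m := 720) (by rw [hG]; norm_num) (by norm_num)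
    rw [show (720 : ℕ).divisors.filter (fun d => d % 11 = 1) = {1, 12, 45, 144} by decide +kernel] at hmem
    simp only [Finset.mem_insert, Finset.mem_singleton] at hmem
    rcases hmem with h | h | h | h <;> rw [h] at h0
    · exact (bad _ (by simp) h0).elim
    · exact (bad _ (by simp) h0).elim
    · exact (bad _ (by simp) h0).elim
    · exact h
  refine PG7920.simple_of_no_pgroup hG fun p hp N hN hpN => ?_
  haveI := hN
  haveI := Fact.mk hp
  by_contra hne
  obtain ⟨k, hk⟩ := IsPGroup.iff_card.1 hpN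
  have hk0 : k ≠ 0 := fun e => hne ((Subgroup.eq_bot_iff_card N).2 (by rw [hk, e, pow_zero]))
  have hd : p ^ k ∣ 7920 := hG ▸ hk ▸ N.card_subgroup_dvd_card
  -- the Sylow subgroup of order eleven
  obtain ⟨P⟩ : Nonempty (Sylow 11 G) := inferInstance
  have hP : Nat.card (P : Subgroup G) = 11 := by
    rw [Small.sylow_card (k := 1) (m := 720) (by rw [hG]; norm_num) (by norm_num) P, pow_one]
  have hNP : Nat.card (Subgroup.normalizer ((P : Subgroup G) : Set G)) = 55 := by
    have h := Small.card_normalizer_mul P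
    rw [hn11, hG] at h
    omega
  by_cases h11 : p = 11
  · subst h11
    have hk1 : k = 1 := by
      by_contra h
      exact absurd ((pow_dvd_pow 11 (show 2 ≤ k by omega)).trans hd) (by norm_num)
    subst hk1
    obtain ⟨Q, hQ⟩ := hpN.exists_le_sylow
    have hQe : N = (Q : Subgroup G) := Subgroup.eq_of_le_of_card_ge hQ (by
      rw [hk, Small.sylow_card (k := 1) (m := 720) (by rw [hG]; norm_num) (by norm_num) Q])
    have h1 : Nat.card (Sylow 11 G) = 1 := by
      rw [Q.card_eq_index_normalizer, Subgroup.index_eq_one]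
      show Subgroup.normalizer ((Q : Subgroup G) : Set G) = ⊤
      rw [← hQe]
      exact Subgroup.normalizer_eq_top N
    omega
  -- the group of order eleven acts
  haveI : Fact (Nat.Prime 11) := ⟨by norm_num⟩
  letI act : MulAction (P : Subgroup G) N :=
    { smul := fun g x => ⟨(g : G) * x * (g : G)⁻¹, hN.conj_mem _ x.2 _⟩
      one_smul := fun x => Subtype.ext (show (1 : G) * x * (1 : G)⁻¹ = x by group)
      mul_smul := fun a b x => Subtype.ext
        (show ((a : G) * b) * x * ((a : G) * b)⁻¹ = (a : G) * ((b : G) * x * (b : G)⁻¹) * (a : G)⁻¹ by group) }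
  have hmod := P.2.card_modEq_card_fixedPoints N
  rw [hk] at hmod
  have hp5 : p = 5 := by
    by_contra hp5
    obtain ⟨⟨x, hx⟩, hx1⟩ : ∃ x : MulAction.fixedPoints (P : Subgroup G) N, (x : N) ≠ 1 := by
      by_contra hall
      push_neg at hall
      haveI : Subsingleton (MulAction.fixedPoints (P : Subgroup G) N) :=
        ⟨fun a b => Subtype.ext ((hall a).trans (hall b).symm)⟩
      have h1 : (1 : N) ∈ MulAction.fixedPoints (P : Subgroup G) N := fun g =>
        Subtype.ext (show (g : G) * (1 : G) * (g : G)⁻¹ = 1 by group)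
      haveI : Nonempty (MulAction.fixedPoints (P : Subgroup G) N) := ⟨⟨1, h1⟩⟩
      rw [Nat.card_unique] at hmod
      have hp' : p = 2 ∧ k ≤ 4 ∨ p = 3 ∧ k ≤ 2 := by
        have hpd : p ∣ 2 ^ 4 * 3 ^ 2 * 5 * 11 := (dvd_pow_self p hk0).trans hd
        rcases hp.dvd_mul.1 hpd with h1 | h1
        · rcases hp.dvd_mul.1 h1 with h2 | h2
          · rcases hp.dvd_mul.1 h2 with h3 | h3
            · obtain rfl := (Nat.prime_dvd_prime_iff_eq hp Nat.prime_two).1 (hp.dvd_of_dvd_pow h3)
              exact Or.inl ⟨rfl, by_contra fun h => absurd ((pow_dvd_pow 2 (show 5 ≤ k by omega)).trans hd) (by norm_num)⟩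
            · obtain rfl := (Nat.prime_dvd_prime_iff_eq hp Nat.prime_three).1 (hp.dvd_of_dvd_pow h3)
              exact Or.inr ⟨rfl, by_contra fun h => absurd ((pow_dvd_pow 3 (show 3 ≤ k by omega)).trans hd) (by norm_num)⟩
          · exact absurd ((Nat.prime_dvd_prime_iff_eq hp (by norm_num)).1 h2) hp5
        · exact absurd ((Nat.prime_dvd_prime_iff_eq hp (by norm_num)).1 h1) h11
      rw [Nat.ModEq] at hmod
      rcases hp' with ⟨rfl, hk'⟩ | ⟨rfl, hk'⟩ <;> interval_cases k <;> first | exact absurd rfl hk0 | norm_num at hmod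
    have hxN : (x : G) ∈ Subgroup.normalizer ((P : Subgroup G) : Set G) := by
      refine M11Local.mem_normalizer_of_map fun q hq => ?_
      have e : q * (x : G) * q⁻¹ = (x : G) := congrArg Subtype.val (hx ⟨q, hq⟩)
      have e' : (x : G) * q * (x : G)⁻¹ = q := by
        rw [mul_inv_eq_iff_eq_mul]
        exact (mul_inv_eq_iff_eq_mul.1 e).symm
      rwa [e']
    have h1 := Subgroup.orderOf_dvd_natCard _ hxN
    have h2 : orderOf (x : G) ∣ p ^ k := hk ▸ Subgroup.orderOf_dvd_natCard _ x.2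
    rw [hNP] at h1
    have hcop : Nat.Coprime 55 (p ^ k) := Nat.Coprime.pow_right k (((Nat.Coprime.mul_right
      (hp.coprime_iff_not_dvd.2 fun h => hp5 ((Nat.prime_dvd_prime_iff_eq hp (by norm_num)).1 h))
      (hp.coprime_iff_not_dvd.2 fun h => h11 ((Nat.prime_dvd_prime_iff_eq hp (by norm_num)).1 h))) :
      Nat.Coprime p (5 * 11)).symm)
    exact hx1 (Subtype.ext (orderOf_eq_one_iff.1 (Nat.eq_one_of_dvd_coprimes hcop h1 h2)))
  subst hp5
  have hk1 : k = 1 := by
    by_contra h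
    exact absurd ((pow_dvd_pow 5 (show 2 ≤ k by omega)).trans hd) (by norm_num)
  subst hk1
  obtain ⟨Q, hQ⟩ := hpN.exists_le_sylow
  have hQe : N = (Q : Subgroup G) := Subgroup.eq_of_le_of_card_ge hQ (by
    rw [hk, Small.sylow_card (k := 1) (m := 1584) (by rw [hG]; norm_num) (by norm_num) Q])
  have h1 : Nat.card (Sylow 5 G) = 1 := by
    rw [Q.card_eq_index_normalizer, Subgroup.index_eq_one]
    show Subgroup.normalizer ((Q : Subgroup G) : Set G) = ⊤
    rw [← hQe]
    exact Subgroup.normalizer_eq_top N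
  have h0 := key 5 (by norm_num) (by norm_num)
  rw [h1] at h0
  exact bad _ (by simp) h0

/-- Same order and same counts as the Mathieu group of degree eleven. -/
theorem result {G : Type*} [Group G] [Finite G]
    (hcard : Nat.card G = Nat.card ↥Cfsg.Spor.M11)
    (hnse : {c : ℕ | 0 < c ∧ ∃ n : ℕ, c = Nat.card {g : G // orderOf g = n}} =
      {c : ℕ | 0 < c ∧ ∃ n : ℕ, c = Nat.card {g : ↥Cfsg.Spor.M11 // orderOf g = n}}) :
    Nonempty (G ≃* ↥Cfsg.Spor.M11) := by
  haveI : Fintype G := Fintype.ofFinite G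
  haveI : Fintype ↥Cfsg.Spor.M11 := Fintype.ofFinite _
  have hM : Nat.card ↥Cfsg.Spor.M11 = 7920 := Golay.card_sporM11
  haveI : IsSimpleGroup ↥Cfsg.Spor.M11 := by
    rw [Golay.sporM11_eq]
    exact Golay.isSimpleGroup_M11
  haveI := main hM (hcard.trans hM) hnse
  obtain ⟨e⟩ := M11Uniq.nonempty_mulEquiv_std (G := G) (hcard.trans hM)
  obtain ⟨e'⟩ := M11Uniq.nonempty_mulEquiv_std (G := ↥Cfsg.Spor.M11) hM
  exact ⟨e.trans e'.symm⟩

end Cfsg.Agent.S3592
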