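import Cfsg.Statements.S3593
import Cfsg.Agent.S0421
import Cfsg.Agent.Lib.M12Uniq.SameCounts
import Cfsg.Agent.Lib.Golay.Mathieu

set_option autoImplicit false
open Cfsg

namespace Cfsg.Agent.S3593

/-- Let M be the Mathieu group M₁₂ (order 95040). If a finite group G has the same order as M and the same set of values of the function 'number of elements of order n' (taken over the element orders n that occur), then G is isomorphic to M. -/
theorem result {G : Type*} [Group G] [Finite G]
    (hcard : Nat.card G = Nat.card ↥Cfsg.Spor.M12)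
    (hnse : {c : ℕ | 0 < c ∧ ∃ n : ℕ, c = Nat.card {g : G // orderOf g = n}} =
      {c : ℕ | 0 < c ∧ ∃ n : ℕ, c = Nat.card {g : ↥Cfsg.Spor.M12 // orderOf g = n}}) :
    Nonempty (G ≃* ↥Cfsg.Spor.M12) := by
  have hM : Nat.card ↥Cfsg.Spor.M12 = 95040 := Golay.card_sporM12
  haveI hMs : IsSimpleGroup ↥Cfsg.Spor.M12 := by
    rw [Golay.sporM12_eq]
    exact Golay.isSimpleGroup_M12
  have hG : Nat.card G = 95040 := hcard.trans hM
  have hGs : IsSimpleGroup G := M12Uniq.simple_of_counts hG hM fun n hn => by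
    have h : Nat.card {g : G // orderOf g = n} ∈
        {c : ℕ | 0 < c ∧ ∃ n : ℕ, c = Nat.card {g : ↥Cfsg.Spor.M12 // orderOf g = n}} := by
      rw [← hnse]
      exact ⟨hn, n, rfl⟩
    exact h.2
  obtain ⟨e⟩ := S0421.result (G := G) ⟨hGs, hG⟩ _ Golay.squareDodecad_mem
  obtain ⟨e'⟩ := S0421.result (G := ↥Cfsg.Spor.M12) ⟨hMs, hM⟩ _ Golay.squareDodecad_mem
  exact ⟨e.trans e'.symm⟩

end Cfsg.Agent.S3593
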