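import Cfsg.Statements.S3595
import Cfsg.Agent.Lib.M23Uniq.Main
-- import your own Cfsg.Agent.* helpers here

set_option autoImplicit false
open Cfsg

namespace Cfsg.Agent.S3595

/-- Let M be the Mathieu group M₂₃ (order 10200960). If a finite group G has the same order as M and the same set of values of the function 'number of elements of order n' (taken over the element orders n that occur), then G is isomorphic to M. -/
theorem result {G : Type*} [Group G] [Finite G]
    (hcard : Nat.card G = Nat.card ↥Cfsg.Spor.M23)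
    (hnse : {c : ℕ | 0 < c ∧ ∃ n : ℕ, c = Nat.card {g : G // orderOf g = n}} =
      {c : ℕ | 0 < c ∧ ∃ n : ℕ, c = Nat.card {g : ↥Cfsg.Spor.M23 // orderOf g = n}}) :
    Nonempty (G ≃* ↥Cfsg.Spor.M23) := by
  refine Cfsg.Agent.M23Uniq.nonempty_equiv (Cfsg.Agent.M23Uniq.locals_of_counts
    (hcard.trans Cfsg.Agent.M23Uniq.std_card) (fun n hn => ?_) (fun m hm => ?_))
  · obtain ⟨-, k, hk⟩ := (Set.ext_iff.1 hnse (Cfsg.Agent.M23Uniq.ocount G n)).1 ⟨hn, n, rfl⟩
    exact ⟨k, hk⟩
  · obtain ⟨-, k, hk⟩ := (Set.ext_iff.1 hnse (Cfsg.Agent.M23Uniq.stdCount m)).2 ⟨hm, m, rfl⟩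
    exact ⟨k, hk⟩

end Cfsg.Agent.S3595
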