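import Cfsg.Statements.S3596
import Cfsg.Agent.Lib.M24Nse.Locals
import Cfsg.Agent.Lib.M24Uniq.Recognition
import Cfsg.Agent.Lib.M24Uniq.SevenFamilies
import Cfsg.Agent.Lib.M24Uniq.FiveFamilies
import Cfsg.Agent.Lib.M24Uniq.SmallOfFamilies

set_option autoImplicit false
open Cfsg

namespace Cfsg.Agent.S3596

open Cfsg.Agent.M23Uniq (ocount)

/-- A count in a subgroup as a count in the group. -/
theorem ocount_eq {G : Type*} [Group G] (H : Subgroup G) (n : ℕ) :
    Nat.card {g : G // g ∈ H ∧ orderOf g = n} = ocount H n :=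
  Nat.card_congr
    { toFun := fun g => ⟨⟨g.1, g.2.1⟩, by rw [← Subgroup.orderOf_coe]; exact g.2.2⟩
      invFun := fun g => ⟨g.1.1, g.1.2, by rw [Subgroup.orderOf_coe]; exact g.2⟩
      left_inv := fun _ => rfl
      right_inv := fun _ => rfl }

/-- Let M be the Mathieu group M₂₄ (order 244823040). If a finite group G has the same order as M and the same set of values of the function 'number of elements of order n' (taken over the element orders n that occur), then G is isomorphic to M. -/
theorem result {G : Type*} [Group G] [Finite G]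
    (hcard : Nat.card G = Nat.card ↥Cfsg.M24)
    (hnse : {c : ℕ | 0 < c ∧ ∃ n : ℕ, c = Nat.card {g : G // orderOf g = n}} =
      {c : ℕ | 0 < c ∧ ∃ n : ℕ, c = Nat.card {g : ↥Cfsg.M24 // orderOf g = n}}) :
    Nonempty (G ≃* ↥Cfsg.M24) := by
  haveI := Fintype.ofFinite G
  have N := (M24Nse.SameVals.nse hcard hnse).locals
  have h7 := M24Uniq.seven_of_locals N.L.card N.c7 N.n7 N.nonab7
  have h5 := M24Uniq.five_of_locals N.L.card N.c5 N.n5 fun x hx =>
    ⟨(ocount_eq _ 2).trans (N.inv5 x hx).1, (ocount_eq _ 3).trans (N.inv5 x hx).2⟩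
  exact M24Uniq.nonempty_equiv_of_small N.L (M24Uniq.small_of_families N.L h7 h5)

end Cfsg.Agent.S3596
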