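import Cfsg.Statements.S3598
import Cfsg.Agent.Lib.Recog.PSL2Degrees
import Cfsg.Agent.S2435
import Cfsg.Agent.Lib.Classical.SL2TableValues
import Cfsg.Agent.Lib.Spectrum.PGL2
-- import your own Cfsg.Agent.* helpers here

set_option autoImplicit false
open Cfsg

namespace Cfsg.Agent.S3598

open Cfsg.Agent Cfsg.Agent.Char Cfsg.Agent.SL2Tori Cfsg.Agent.SL2Table Cfsg.Agent.SL2TableValues
open Cfsg.Agent.SL2Principal Cfsg.Agent.SL2Cuspidal Cfsg.Agent.CharTools
open Cfsg.Agent.PSL2Degrees (Degrees charDegree_eq)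

/-- The degrees of `PSL(2, q)` for `q` a square. -/
theorem degrees_psl {F : Type*} [Field F] [Fintype F] {d : ℕ} (h4 : 4 ≤ Fintype.card F)
    (hd : (Even (Fintype.card F) ∧ d = 1) ∨ (Odd (Fintype.card F) ∧ d = 2 ∧ 4 ∣ Fintype.card F - 1)) :
    Degrees (Matrix.ProjectiveSpecialLinearGroup (Fin 2) F) (Fintype.card F) d := by
  classical
  obtain ⟨g₀, hg₀⟩ := exists_noEigen (F := F)
  let Z := Subgroup.center (Matrix.SpecialLinearGroup (Fin 2) F)
  let π := QuotientGroup.mk' Z
  set q := Fintype.card F with hq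
  have key : ∀ χ : Cfsg.IrrCharacter (Matrix.ProjectiveSpecialLinearGroup (Fin 2) F),
      (∀ g, (χ : Matrix.ProjectiveSpecialLinearGroup (Fin 2) F → ℂ) g = 1) ∨
      Cfsg.charDegree (χ : Matrix.ProjectiveSpecialLinearGroup (Fin 2) F → ℂ) = q ∨
      Cfsg.charDegree (χ : Matrix.ProjectiveSpecialLinearGroup (Fin 2) F → ℂ) = q - 1 ∨
      Cfsg.charDegree (χ : Matrix.ProjectiveSpecialLinearGroup (Fin 2) F → ℂ) = q + 1 ∨
      d * Cfsg.charDegree (χ : Matrix.ProjectiveSpecialLinearGroup (Fin 2) F → ℂ) = q + 1 := by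
    intro χ
    let ψ : Matrix.SpecialLinearGroup (Fin 2) F → ℂ :=
      fun g => (χ : Matrix.ProjectiveSpecialLinearGroup (Fin 2) F → ℂ) (π g)
    have hirr : Cfsg.IsIrrCharacter (Matrix.SpecialLinearGroup (Fin 2) F) ψ :=
      IsIrrCharacter.comp χ.2 π (QuotientGroup.mk'_surjective Z)
    have hval : ∀ m : ℕ, ψ 1 = (m : ℂ) →
        Cfsg.charDegree (χ : Matrix.ProjectiveSpecialLinearGroup (Fin 2) F → ℂ) = m := fun m hm =>
      charDegree_eq (by rw [← map_one π]; exact hm)
    have hone : ψ = (fun _ => 1) → ∀ g, (χ : Matrix.ProjectiveSpecialLinearGroup (Fin 2) F → ℂ) g = 1 :=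
      fun e g => by
        obtain ⟨h, rfl⟩ := QuotientGroup.mk'_surjective Z g
        exact congrFun e h
    rcases hd with ⟨hev, rfl⟩ | ⟨hodd, rfl, h4d⟩
    · rcases cases_even hg₀ hev hirr with ⟨-, e⟩ | ⟨hdd, -⟩ | ⟨hdd, -⟩ | ⟨hdd, -⟩
      · exact Or.inl (hone e)
      · exact Or.inr (Or.inl (hval _ hdd))
      · exact Or.inr (Or.inr (Or.inr (Or.inl (hval _ hdd))))
      · exact Or.inr (Or.inr (Or.inl (hval _ hdd)))
    · obtain ⟨ν, -, hcls⟩ := exists_classes hodd
      obtain ⟨dd⟩ := exists_oddData hodd hg₀ hcls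
      rcases cases_odd dd hg₀ hirr with
        ⟨-, e⟩ | ⟨hdd, -⟩ | ⟨hdd, -⟩ | ⟨hdd, -⟩ | ⟨hdd, -⟩ | ⟨hdd, -⟩
      · exact Or.inl (hone e)
      · exact Or.inr (Or.inl (hval _ hdd))
      · exact Or.inr (Or.inr (Or.inr (Or.inl (hval _ hdd))))
      · exact Or.inr (Or.inr (Or.inl (hval _ hdd)))
      · refine Or.inr (Or.inr (Or.inr (Or.inr ?_)))
        have := hodd
        rw [Nat.odd_iff] at this
        rw [hval _ hdd]; omega
      · -- the characters of degree `(q - 1) / 2` are not trivial on the centre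
        exfalso
        have hrc : ringChar F ≠ 2 := ringChar_ne_two hodd
        have h2 := Cfsg.Agent.Spectrum.PGL2.two_ne_zero_of_odd hrc
        have hmem : g₀ ∈ torus g₀ := (mem_torus g₀).2 rfl
        have hq1 : g₀ ^ (q + 1) = 1 := by
          have h := pow_card_eq_one' (G := torus g₀) (x := ⟨g₀, hmem⟩)
          rw [card_torus hg₀, Nat.card_eq_fintype_card] at h
          exact congrArg Subtype.val h
        set m := (q + 1) / 2 with hm
        have hq' := hodd
        rw [Nat.odd_iff] at hq'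
        have hmodd : Odd m := by rw [Nat.odd_iff]; omega
        have hsq : (g₀ : Matrix (Fin 2) (Fin 2) F) ^ m * (g₀ : Matrix (Fin 2) (Fin 2) F) ^ m = 1 := by
          rw [← pow_add, show m + m = q + 1 by omega, ← Matrix.SpecialLinearGroup.coe_pow, hq1,
            Matrix.SpecialLinearGroup.coe_one]
        have hpm := Cfsg.Agent.Spectrum.PGL2.scalar_of_sq_one h2 (by rw [Matrix.det_pow, g₀.2, one_pow]) hsq
        let z : Matrix.SpecialLinearGroup (Fin 2) F := -1
        have hzmem : z ∈ Z := by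
          rw [Matrix.SpecialLinearGroup.mem_center_iff]
          exact ⟨-1, by simp, by ext i j; fin_cases i <;> fin_cases j <;> simp [z]⟩
        have hψz : ψ (-g₀) = ψ g₀ := by
          show (χ : Matrix.ProjectiveSpecialLinearGroup (Fin 2) F → ℂ) (π (-g₀)) = _
          congr 1
          rw [show (-g₀ : Matrix.SpecialLinearGroup (Fin 2) F) = z * g₀ by simp [z]]
          rw [map_mul, show π z = 1 from (QuotientGroup.eq_one_iff z).2 hzmem, one_mul]
        have hneg : NoEigen (-g₀ : Matrix.SpecialLinearGroup (Fin 2) F).1 := by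
          intro c v hv e
          rw [Matrix.SpecialLinearGroup.coe_neg, Matrix.neg_mulVec] at e
          exact hg₀ (-c) v hv (by rw [neg_smul, ← e, neg_neg])
        obtain ⟨-, ha⟩ := Cfsg.Agent.S2435.result hodd (by omega) ψ hirr g₀
        obtain ⟨-, hb⟩ := Cfsg.Agent.S2435.result hodd (by omega) ψ hirr (-g₀)
        obtain ⟨ha1, ha2⟩ := ha hdd hg₀
        obtain ⟨hb1, hb2⟩ := hb hdd hneg
        have hnegpow : ((-g₀ : Matrix.SpecialLinearGroup (Fin 2) F) : Matrix (Fin 2) (Fin 2) F) ^ m =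
            -((g₀ : Matrix (Fin 2) (Fin 2) F) ^ m) := by
          rw [Matrix.SpecialLinearGroup.coe_neg, hmodd.neg_pow]
        have hne : (-1 : Matrix (Fin 2) (Fin 2) F) ≠ 1 := fun e => by
          have h00 := congrFun₂ e 0 0
          simp at h00
          exact h2 (by linear_combination -h00)
        rcases hpm with hp | hp
        · have e1 := ha1 (by rw [← hm]; simpa using hp)
          have e2 := hb2 (by
            rw [← hm]
            simp only [hnegpow, hp]
            exact hne)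
          rw [hψz, e1] at e2
          norm_num at e2
        · have e1 := ha2 (by
            rw [← hm]
            simp only [hp]
            exact hne)
          have e2 := hb1 (by
            rw [← hm]
            simp only [hnegpow, hp, neg_neg])
          rw [hψz, e1] at e2
          norm_num at e2
  have htriv : ∀ χ : Cfsg.IrrCharacter (Matrix.ProjectiveSpecialLinearGroup (Fin 2) F),
      (χ : Matrix.ProjectiveSpecialLinearGroup (Fin 2) F → ℂ) 1 = 1 →
      ∀ g, (χ : Matrix.ProjectiveSpecialLinearGroup (Fin 2) F → ℂ) g = 1 := by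
    intro χ h
    have hd1 := charDegree_eq (χ := χ) (m := 1) (by rw [h, Nat.cast_one])
    rcases key χ with h1 | h1 | h1 | h1 | h1
    · exact h1
    all_goals
      rw [hd1] at h1
      rcases hd with ⟨-, rfl⟩ | ⟨-, rfl, -⟩ <;> omega
  refine ⟨fun χ => ?_, ?_⟩
  · rcases key χ with h | h
    · exact Or.inl (h 1)
    · exact Or.inr h
  · rw [Nat.card_eq_one_iff_unique]
    exact ⟨⟨fun a b => Subtype.ext (Subtype.ext (funext fun g => (htriv a.1 a.2 g).trans (htriv b.1 b.2 g).symm))⟩,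
      ⟨⟨⟨fun _ => 1, isIrrCharacter_one⟩, rfl⟩⟩⟩

/-- Let p be a prime and F a field with p² elements. If a finite group G has, for every d, the same number of irreducible complex characters of degree d as PSL(2,F) (the same first column of the character table, with multiplicities), then G is isomorphic to PSL(2,F). -/
theorem result {F : Type*} [Field F] [Fintype F] (p : ℕ) (hp : p.Prime)
    (hF : Fintype.card F = p ^ 2) {G : Type*} [Group G] [Finite G]
    (h : ∀ d : ℕ, Nat.card {χ : Cfsg.IrrCharacter G // (χ : G → ℂ) 1 = (d : ℂ)} =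
      Nat.card {χ : Cfsg.IrrCharacter (Matrix.ProjectiveSpecialLinearGroup (Fin 2) F) // (χ : Matrix.ProjectiveSpecialLinearGroup (Fin 2) F → ℂ) 1 = (d : ℂ)}) :
    Nonempty (G ≃* Matrix.ProjectiveSpecialLinearGroup (Fin 2) F) := by
  classical
  haveI : Fact p.Prime := ⟨hp⟩
  haveI := Fintype.ofFinite G
  set q := Fintype.card F with hqdef
  have hq4 : 4 ≤ q := by rw [hF, pow_two]; exact Nat.mul_le_mul hp.two_le hp.two_le
  -- the degree preserving bijection
  have hfib : ∀ d : ℕ,
      Nat.card {χ : Cfsg.IrrCharacter G // Cfsg.charDegree (χ : G → ℂ) = d} =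
      Nat.card {χ : Cfsg.IrrCharacter (Matrix.ProjectiveSpecialLinearGroup (Fin 2) F) //
        Cfsg.charDegree (χ : Matrix.ProjectiveSpecialLinearGroup (Fin 2) F → ℂ) = d} := by
    intro d
    refine (Nat.card_congr (Equiv.subtypeEquivRight fun χ : Cfsg.IrrCharacter G => ?_)).trans ((h d).trans
      (Nat.card_congr (Equiv.subtypeEquivRight
        fun χ : Cfsg.IrrCharacter (Matrix.ProjectiveSpecialLinearGroup (Fin 2) F) => ?_)))
    · exact ⟨fun e => by rw [← e]; exact Cfsg.Agent.CharX.irr_deg χ, charDegree_eq⟩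
    · exact ⟨charDegree_eq, fun e => by rw [← e]; exact Cfsg.Agent.CharX.irr_deg χ⟩
  haveI := Fintype.ofFinite (Matrix.ProjectiveSpecialLinearGroup (Fin 2) F)
  haveI := Fintype.ofFinite (Cfsg.IrrCharacter G)
  haveI := Fintype.ofFinite (Cfsg.IrrCharacter (Matrix.ProjectiveSpecialLinearGroup (Fin 2) F))
  let e : Cfsg.IrrCharacter G ≃ Cfsg.IrrCharacter (Matrix.ProjectiveSpecialLinearGroup (Fin 2) F) :=
    Equiv.ofFiberEquiv (f := fun χ : Cfsg.IrrCharacter G => Cfsg.charDegree (χ : G → ℂ))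
      (g := fun χ : Cfsg.IrrCharacter (Matrix.ProjectiveSpecialLinearGroup (Fin 2) F) =>
        Cfsg.charDegree (χ : Matrix.ProjectiveSpecialLinearGroup (Fin 2) F → ℂ))
      fun d => (Finite.card_eq.1 (hfib d)).some
  have he : ∀ χ, Cfsg.charDegree ((e χ : Cfsg.IrrCharacter (Matrix.ProjectiveSpecialLinearGroup (Fin 2) F)) :
      Matrix.ProjectiveSpecialLinearGroup (Fin 2) F → ℂ) = Cfsg.charDegree (χ : G → ℂ) := fun χ => by
    exact Equiv.ofFiberEquiv_map (f := fun χ : Cfsg.IrrCharacter G => Cfsg.charDegree (χ : G → ℂ))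
      (g := fun χ : Cfsg.IrrCharacter (Matrix.ProjectiveSpecialLinearGroup (Fin 2) F) =>
        Cfsg.charDegree (χ : Matrix.ProjectiveSpecialLinearGroup (Fin 2) F → ℂ))
      (fun d => (Finite.card_eq.1 (hfib d)).some) χ
  have hcard : Nat.card G = Nat.card (Matrix.ProjectiveSpecialLinearGroup (Fin 2) F) := by
    rw [← Cfsg.Agent.CharX.sum_deg_sq (G := G),
      ← Cfsg.Agent.CharX.sum_deg_sq (G := Matrix.ProjectiveSpecialLinearGroup (Fin 2) F)]
    exact Fintype.sum_equiv e _ _ fun χ => by rw [he]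
  have hpq : p ∣ q := hF ▸ dvd_pow_self p two_ne_zero
  obtain ⟨d, hd, hd', hgcd⟩ : ∃ d, ((Even q ∧ d = 1) ∨ (Odd q ∧ d = 2 ∧ 4 ∣ q - 1)) ∧
      ((p = 2 ∧ d = 1) ∨ (p ≠ 2 ∧ d = 2 ∧ 4 ∣ q - 1)) ∧ Nat.gcd 2 (q - 1) = d := by
    rcases hp.eq_two_or_odd' with h2 | ⟨k, hk⟩
    · refine ⟨1, Or.inl ⟨?_, rfl⟩, Or.inl ⟨h2, rfl⟩, ?_⟩
      · rw [hF, h2]; decide
      · rw [hF, h2]; decide
    · have h4 : q = 4 * (k * k + k) + 1 := by rw [hF, hk]; ring
      exact ⟨2, Or.inr ⟨⟨2 * (k * k + k), by omega⟩, rfl, by omega⟩, Or.inr ⟨by omega, rfl, by omega⟩,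
        Nat.gcd_eq_left (by omega)⟩
  have hdL : Degrees (Matrix.ProjectiveSpecialLinearGroup (Fin 2) F) q d := degrees_psl hq4 hd
  have hdG : Degrees G q d := by
    refine ⟨fun χ => ?_, ?_⟩
    · have h1 := hdL.deg (e χ)
      rw [he] at h1
      refine h1.imp_left fun h2 => ?_
      rw [Cfsg.Agent.CharX.irr_deg, ← he χ, ← Cfsg.Agent.CharX.irr_deg, h2]
    · have := h 1
      simp only [Nat.cast_one] at this
      rw [this]
      exact hdL.linear
  have hG : d * Nat.card G = (p ^ 2 + 1) * p ^ 2 * (p ^ 2 - 1) := by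
    have hP := Cfsg.Agent.ProjLine.two_mul_card_psl (F := F)
    rw [Nat.card_eq_fintype_card (α := F), ← hqdef, hgcd, ← hcard] at hP
    rw [← hF]
    refine Nat.eq_of_mul_eq_mul_right (show 0 < q - 1 by omega) ?_
    rw [hP]; ring
  have hiso : Cfsg.Agent.SylowTISpec.Iso p G := by
    refine Cfsg.Agent.PSL2Degrees.iso_of_singular (hd'.imp (fun x => x.2) fun x => ⟨x.1, x.2.1⟩) hG fun g hg => ?_
    refine ⟨(orderOf g).primeFactorsList.length, Nat.eq_prime_pow_of_unique_prime_dvd (orderOf_pos g).ne' fun {r} hr hrg => ?_⟩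
    by_contra hne
    haveI : Fact r.Prime := ⟨hr⟩
    exact Cfsg.Agent.PSL2Degrees.not_dvd_orderOf (hF ▸ (by omega : 3 < q)) two_pos (hF ▸ hd') hG (hF ▸ hdG)
      hg hne hrg
  have H : Cfsg.Agent.PSL2Spec.Hyp G p 2 d :=
    { fpos := two_pos
      q3 := hF ▸ (by omega : 3 < q)
      hd := hd'.imp (fun x => x.2) fun x => ⟨x.1, x.2.1⟩
      card := hG
      iso := hiso
      ex := fun hc => by
        rcases hd' with ⟨h2, hd1⟩ | ⟨h2, hd2, h4⟩
        · subst h2 hd1
          haveI : Fact (Nat.Prime 5) := ⟨Nat.prime_five⟩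
          obtain ⟨x, hx⟩ := exists_prime_orderOf_dvd_card' (G := G) 5 (by
            norm_num at hG; rw [Nat.card_eq_fintype_card, hG]; norm_num)
          exact Or.inl ⟨x, by rw [hx]; norm_num⟩
        · exfalso
          obtain ⟨-, ho⟩ := hc.resolve_left h2
          rw [Nat.odd_iff] at ho
          rw [← hF] at ho
          omega }
  exact H.equiv (hd'.imp id fun x => ⟨x.1, x.2.1⟩) hF

end Cfsg.Agent.S3598
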