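import Cfsg.Statements.S3599
import Cfsg.Agent.Lib.Recog.AffineExt
import Mathlib.FieldTheory.Finite.GaloisField
import Mathlib.Algebra.BigOperators.Associated

set_option autoImplicit false
open Cfsg

namespace Cfsg.Agent.S3599

open Cfsg.Agent.AffineExt

/-- `T` has a normal Sylow `P`-subgroup. -/
def HasNormalSylow (P : ℕ) (T : Type*) [Group T] : Prop :=
  ∃ M : Subgroup T, M.Normal ∧ IsPGroup P M ∧ ¬ P ∣ M.index

theorem HasNormalSylow.section' {P : ℕ} {X T : Type*} [Group X] [Group T]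
    (h : HasNormalSylow P X) (H : Subgroup X) (f : H →* T) (hf : Function.Surjective f) :
    HasNormalSylow P T := by
  obtain ⟨M, hM, hP, hidx⟩ := h
  refine ⟨(M.subgroupOf H).map f, (hM.subgroupOf H).map f hf, ?_, fun hd => hidx ?_⟩
  · exact (hP.comap_of_injective H.subtype H.subtype_injective).map f
  · have h2 : (M.subgroupOf H).index ∣ M.index := M.relIndex_dvd_index_of_normal (K := H)
    exact (hd.trans ((M.subgroupOf H).index_map_dvd hf)).trans h2

theorem HasNormalSylow.congr {P : ℕ} {X T : Type*} [Group X] [Group T] (h : HasNormalSylow P X)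
    (e : X ≃* T) : HasNormalSylow P T :=
  h.section' ⊤ (e.toMonoidHom.comp (⊤ : Subgroup X).subtype) fun t =>
    ⟨⟨e.symm t, Subgroup.mem_top _⟩, e.apply_symm_apply t⟩

/-- Two different normal Sylow subgroups give an element of mixed order. -/
theorem mixed_order {P R : ℕ} (hP : P.Prime) (hR : R.Prime) (hPR : P ≠ R) {T : Type*} [Group T]
    [Finite T] (h1 : HasNormalSylow P T) (h2 : HasNormalSylow R T) (x y : T) (hx : orderOf x = P)
    (hy : orderOf y = R) : ∃ z : T, orderOf z = P * R := by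
  have key : ∀ {Q : ℕ} (hQ : Q.Prime) (M : Subgroup T), M.Normal → ¬ Q ∣ M.index →
      ∀ z : T, orderOf z = Q → z ∈ M := by
    intro Q hQ M hM hidx z hz
    have := hM
    rw [← QuotientGroup.eq_one_iff, ← orderOf_eq_one_iff]
    have d1 : orderOf (QuotientGroup.mk z : T ⧸ M) ∣ Q := hz ▸ orderOf_map_dvd (QuotientGroup.mk' M) z
    have d2 : orderOf (QuotientGroup.mk z : T ⧸ M) ∣ M.index := orderOf_dvd_natCard _
    rcases (Nat.dvd_prime hQ).1 d1 with h | h
    · exact h
    · exact absurd (h ▸ d2) hidx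
  obtain ⟨M, hM, hMP, hMi⟩ := h1
  obtain ⟨M', hM', hMR, hMi'⟩ := h2
  have hxM := key hP M hM hMi x hx
  have hyM := key hR M' hM' hMi' y hy
  have : Fact P.Prime := ⟨hP⟩
  have : Fact R.Prime := ⟨hR⟩
  have hdis : Disjoint M M' := IsPGroup.disjoint_of_ne P R hPR M M' hMP hMR
  have hc : Commute x y := Subgroup.commute_of_normal_of_disjoint M M' hM hM' hdis x y hxM hyM
  exact ⟨x * y, by
    rw [hc.orderOf_mul_eq_mul_orderOf_of_coprime (by rw [hx, hy]; exact (Nat.coprime_primes hP hR).2 hPR),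
      hx, hy]⟩

/-- A Frobenius group of prime complement order. -/
theorem exists_frob (P R : ℕ) (hP : P.Prime) (hR : R.Prime) (hPR : P ≠ R) :
    ∃ (T : Type) (_ : Group T) (_ : Finite T), HasNormalSylow P T ∧
      Set.range (orderOf : T → ℕ) = {1, P, R} := by
  have : Fact P.Prime := ⟨hP⟩
  have : Fact R.Prime := ⟨hR⟩
  have h0 : R - 1 ≠ 0 := by have := hR.two_le; omega
  let K := GaloisField P (R - 1)
  have hd : R ∣ Nat.card Kˣ := by
    rw [Nat.card_units, GaloisField.card P _ h0, ← Nat.modEq_iff_dvd' (Nat.one_le_pow _ _ hP.pos)]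
    have := Nat.ModEq.pow_totient ((Nat.coprime_primes hP hR).2 hPR)
    rw [Nat.totient_prime hR] at this
    exact this.symm
  obtain ⟨u, hu⟩ := exists_prime_orderOf_dvd_card' R hd
  have := frob_finite u
  refine ⟨Frob u, inferInstance, inferInstance, frob_kernel P u ?_, ?_⟩
  · rw [hu]; exact fun h => hPR ((Nat.prime_dvd_prime_iff_eq hP hR).1 h)
  · rw [frob_range P u, hu]
    ext n
    simp only [Set.mem_ofPred_eq, Set.mem_insert_iff, Set.mem_singleton_iff, Nat.dvd_prime hP,
      Nat.dvd_prime hR]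
    tauto

theorem prod_dvd_of_coprime {ι : Type*} (t : Finset ι) (c : ι → ℕ) (n : ℕ)
    (hc : ∀ i ∈ t, ∀ j ∈ t, i ≠ j → (c i).Coprime (c j)) (h : ∀ i ∈ t, c i ∣ n) :
    ∏ i ∈ t, c i ∣ n := by
  classical
  induction t using Finset.induction_on with
  | empty => simp
  | insert a t ha ih =>
    rw [Finset.prod_insert ha]
    refine Nat.Coprime.mul_dvd_of_dvd_of_dvd ?_ (h a (Finset.mem_insert_self a t))
      (ih (fun i hi j hj => hc i (Finset.mem_insert_of_mem hi) j (Finset.mem_insert_of_mem hj))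
        fun i hi => h i (Finset.mem_insert_of_mem hi))
    refine Nat.Coprime.prod_right fun i hi => hc a (Finset.mem_insert_self a t) i
      (Finset.mem_insert_of_mem hi) fun e => ha (e ▸ hi)

section Build

variable (s : ℕ) (p : Fin s → Fin 2 → ℕ)

/-- The spectrum. -/
def Om : Set ℕ :=
  {m : ℕ | ∃ c : Fin s → ℕ, (∀ j, c j = 1 ∨ c j = p j 0 ∨ c j = p j 1) ∧ m = ∏ j, c j}

theorem prime_mem_Om (j : Fin s) (i : Fin 2) : p j i ∈ Om s p := by
  refine ⟨Function.update (fun _ => 1) j (p j i), fun k => ?_, ?_⟩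
  · rcases eq_or_ne k j with rfl | h
    · rw [Function.update_self]
      fin_cases i <;> simp
    · exact Or.inl (Function.update_of_ne h _ _)
  · rw [Finset.prod_update_of_mem (Finset.mem_univ j)]
    simp

variable (hp : ∀ j i, (p j i).Prime) (hinj : ∀ j i j' i', p j i = p j' i' → j = j' ∧ i = i')
include hp hinj

theorem mul_notMem_Om (j : Fin s) : p j 0 * p j 1 ∉ Om s p := by
  rintro ⟨c, hc, hm⟩
  have key : ∀ i, c j = p j i := by
    intro i
    have hd : p j i ∣ ∏ k, c k := hm ▸ (by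
      fin_cases i
      · exact dvd_mul_right _ _
      · exact dvd_mul_left _ _)
    obtain ⟨k, -, hk⟩ := (hp j i).prime.exists_mem_finset_dvd hd
    rcases hc k with h | h | h <;> rw [h] at hk
    · exact absurd (Nat.dvd_one.1 hk) (hp j i).ne_one
    · obtain ⟨rfl, rfl⟩ := hinj _ _ _ _ ((Nat.prime_dvd_prime_iff_eq (hp j i) (hp k 0)).1 hk)
      exact h
    · obtain ⟨rfl, rfl⟩ := hinj _ _ _ _ ((Nat.prime_dvd_prime_iff_eq (hp j i) (hp k 1)).1 hk)
      exact h
  exact absurd (hinj _ _ _ _ ((key 0).symm.trans (key 1))).2 (by decide)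

theorem exists_big (b : Fin s → Fin 2) :
    ∃ (X : Type) (_ : Group X) (_ : Finite X), Set.range (orderOf : X → ℕ) = Om s p ∧
      ∀ j, HasNormalSylow (p j (b j)) X := by
  classical
  have hne : ∀ j, p j (b j) ≠ p j (b j + 1) := fun j h => by
    have := (hinj _ _ _ _ h).2
    revert this
    generalize b j = i
    fin_cases i <;> decide
  choose T hT hTf hS hr using fun j => exists_frob (p j (b j)) (p j (b j + 1)) (hp _ _) (hp _ _) (hne j)
  have hr' : ∀ j n, n ∈ Set.range (orderOf : T j → ℕ) ↔ n = 1 ∨ n = p j 0 ∨ n = p j 1 := by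
    intro j n
    rw [hr j, Set.mem_insert_iff, Set.mem_insert_iff, Set.mem_singleton_iff]
    generalize b j = i
    fin_cases i
    · rfl
    · exact or_congr_right or_comm
  have hcop : ∀ c : Fin s → ℕ, (∀ j, c j = 1 ∨ c j = p j 0 ∨ c j = p j 1) →
      ∀ i j, i ≠ j → (c i).Coprime (c j) := by
    intro c hc i j hij
    rcases hc i with hi | hi | hi <;> rcases hc j with hj | hj | hj <;> rw [hi, hj]
    all_goals first
      | exact Nat.coprime_one_left _
      | exact Nat.coprime_one_right _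
      | exact (Nat.coprime_primes (hp _ _) (hp _ _)).2 fun h => hij (hinj _ _ _ _ h).1
  have hord : ∀ g : ∀ j, T j, orderOf g = ∏ j, orderOf (g j) := by
    intro g
    apply Nat.dvd_antisymm
    · apply orderOf_dvd_of_pow_eq_one
      funext j
      exact orderOf_dvd_iff_pow_eq_one.1 (Finset.dvd_prod_of_mem _ (Finset.mem_univ j))
    · refine prod_dvd_of_coprime _ _ _ (fun i _ j _ hij => ?_) fun j _ =>
        orderOf_dvd_of_pow_eq_one (congrFun (pow_orderOf_eq_one g) j)
      exact hcop _ (fun k => (hr' k _).1 ⟨g k, rfl⟩) i j hij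
  refine ⟨∀ j, T j, inferInstance, inferInstance, ?_, fun j => ?_⟩
  · ext m
    constructor
    · rintro ⟨g, rfl⟩
      exact ⟨fun j => orderOf (g j), fun j => (hr' j _).1 ⟨g j, rfl⟩, hord g⟩
    · rintro ⟨c, hc, rfl⟩
      choose g hg using fun j => (hr' j (c j)).2 (hc j)
      exact ⟨g, by simp [hord, hg]⟩
  · obtain ⟨M, hM, hMP, hMi⟩ := hS j
    have hnorm : Subgroup.Normal (((MonoidHom.mulSingle T j).comp M.subtype).range) := by
      refine ⟨?_⟩
      rintro - ⟨m, rfl⟩ g
      refine ⟨⟨g j * m * (g j)⁻¹, hM.conj_mem _ m.2 _⟩, ?_⟩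
      funext k
      rcases eq_or_ne k j with rfl | h
      · simp
      · simp [Pi.mulSingle_eq_of_ne h]
    refine ⟨_, hnorm, hMP.of_surjective ((MonoidHom.mulSingle T j).comp M.subtype).rangeRestrict
      (MonoidHom.rangeRestrict_surjective _), fun hd => ?_⟩
    have hcard : Nat.card ((MonoidHom.mulSingle T j).comp M.subtype).range = Nat.card M :=
      Nat.card_congr (MonoidHom.ofInjective
        ((Pi.mulSingle_injective j).comp M.subtype_injective)).symm.toEquiv
    have hmul := (((MonoidHom.mulSingle T j).comp M.subtype).range).card_mul_index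
    rw [hcard, Nat.card_pi, ← Finset.mul_prod_erase Finset.univ _ (Finset.mem_univ j),
      ← M.card_mul_index, mul_assoc] at hmul
    rw [Nat.eq_of_mul_eq_mul_left Nat.card_pos hmul] at hd
    rcases (hp j (b j)).dvd_mul.1 hd with h | h
    · exact hMi h
    · obtain ⟨k, hk, hkd⟩ := (hp j (b j)).prime.exists_mem_finset_dvd h
      have : Fact (p j (b j)).Prime := ⟨hp _ _⟩
      obtain ⟨z, hz⟩ := exists_prime_orderOf_dvd_card' (p j (b j)) hkd
      have hkj := Finset.ne_of_mem_erase hk
      rcases (hr' k _).1 ⟨z, hz⟩ with h | h | h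
      · exact (hp _ _).ne_one h
      · exact hkj (hinj _ _ _ _ h).1.symm
      · exact hkj (hinj _ _ _ _ h).1.symm

theorem exists_critical (b : Fin s → Fin 2) :
    ∃ (S : Type) (_ : Group S) (_ : Fintype S), Set.range (orderOf : S → ℕ) = Om s p ∧
      (∀ j, HasNormalSylow (p j (b j)) S) ∧
      ∀ (H : Subgroup S) (N : Subgroup ↥H) [N.Normal], (H ≠ ⊤ ∨ N ≠ ⊥) →
        Set.range (orderOf : (↥H ⧸ N) → ℕ) ≠ Om s p := by
  classical
  obtain ⟨X, _, _, hX, hQ⟩ := exists_big s p hp hinj b
  let P : ℕ → Prop := fun n => ∃ (T : Type) (_ : Group T) (_ : Finite T), Nat.card T = n ∧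
    Set.range (orderOf : T → ℕ) = Om s p ∧ ∃ (H : Subgroup X) (f : H →* T), Function.Surjective f
  have hex : ∃ n, P n := ⟨_, X, inferInstance, inferInstance, rfl, hX, ⊤, (⊤ : Subgroup X).subtype,
    fun x => ⟨⟨x, Subgroup.mem_top x⟩, rfl⟩⟩
  obtain ⟨T, _, _, hcard, hrange, H0, f, hf⟩ := Nat.find_spec hex
  refine ⟨T, inferInstance, Fintype.ofFinite T, hrange, fun j => (hQ j).section' H0 f hf,
    fun H N _ hproper heq => ?_⟩
  have hlt : Nat.card (H ⧸ N) < Nat.card T := by
    have h1 := N.card_eq_card_quotient_mul_card_subgroup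
    have h2 : Nat.card H ≤ Nat.card T := H.card_le_card_group
    have h3 : 0 < Nat.card N := Nat.card_pos
    have h4 : 0 < Nat.card (H ⧸ N) := Nat.card_pos
    rcases hproper with h | h
    · have : Nat.card H < Nat.card T :=
        lt_of_le_of_ne h2 fun e => h (H.eq_top_of_card_eq e)
      nlinarith
    · have := N.one_lt_card_iff_ne_bot.2 h
      nlinarith
  rw [hcard] at hlt
  refine Nat.find_min hex hlt ⟨H ⧸ N, inferInstance, inferInstance, rfl, heq, ?_⟩
  let e := (H.comap f).equivMapOfInjective H0.subtype H0.subtype_injective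
  refine ⟨(H.comap f).map H0.subtype,
    (QuotientGroup.mk' N).comp ((f.subgroupComap H).comp e.symm.toMonoidHom), ?_⟩
  intro q
  obtain ⟨h, rfl⟩ := QuotientGroup.mk_surjective q
  obtain ⟨x, hx⟩ := hf h
  refine ⟨e ⟨x, show f x ∈ H by rw [hx]; exact h.2⟩, ?_⟩
  simp only [MonoidHom.coe_comp, Function.comp_apply, MulEquiv.coe_toMonoidHom,
    MulEquiv.symm_apply_apply, QuotientGroup.mk'_apply]
  congr 1
  exact Subtype.ext hx

end Build

/-- A finite group is critical with respect to a set Ω of natural numbers when its set of element orders is Ω while no proper section H/N (H a subgroup, N normal in H, (H, N) ≠ (whole group, 1)) has Ω as its set of element orders. Let s ≥ 1 and let p(j,0), p(j,1) (j < s) be 2s pairwise distinct primes, and let Ω be the set of all products c(0)·…·c(s−1) with each c(j) ∈ {1, p(j,0), p(j,1)}. Then there are 2^s pairwise non-isomorphic finite groups critical with respect to Ω. -/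
theorem result (s : ℕ) (hs : 1 ≤ s) (p : Fin s → Fin 2 → ℕ)
    (hp : ∀ j i, (p j i).Prime) (hinj : ∀ j i j' i', p j i = p j' i' → j = j' ∧ i = i') :
    ∃ (G : Fin (2 ^ s) → Type) (_ : ∀ a, Group (G a)) (_ : ∀ a, Fintype (G a)),
      (∀ a b, a ≠ b → ¬ Nonempty (G a ≃* G b)) ∧
      ∀ a, Set.range (orderOf : (G a) → ℕ) = {m : ℕ | ∃ c : Fin s → ℕ, (∀ j, c j = 1 ∨ c j = p j 0 ∨ c j = p j 1) ∧ m = ∏ j, c j} ∧
      ∀ (H : Subgroup (G a)) (N : Subgroup ↥H) [N.Normal], (H ≠ ⊤ ∨ N ≠ ⊥) → Set.range (orderOf : (↥H ⧸ N) → ℕ) ≠ {m : ℕ | ∃ c : Fin s → ℕ, (∀ j, c j = 1 ∨ c j = p j 0 ∨ c j = p j 1) ∧ m = ∏ j, c j} := by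
  classical
  let b : Fin (2 ^ s) → Fin s → Fin 2 := fun a => finFunctionFinEquiv.symm a
  choose S hG hFin hr hQ hcrit using fun a => exists_critical s p hp hinj (b a)
  refine ⟨S, hG, hFin, fun a c hac => ?_, fun a => ⟨hr a, hcrit a⟩⟩
  rintro ⟨e⟩
  obtain ⟨j, hj⟩ : ∃ j, b a j ≠ b c j := by
    by_contra h
    push Not at h
    exact hac (finFunctionFinEquiv.symm.injective (funext h))
  have hboth : ∀ i : Fin 2, HasNormalSylow (p j i) (S a) := by
    intro i
    have hcases : i = b a j ∨ i = b c j := by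
      revert hj
      generalize b a j = u
      generalize b c j = v
      fin_cases i <;> fin_cases u <;> fin_cases v <;> simp
    rcases hcases with rfl | rfl
    · exact hQ a j
    · exact (hQ c j).congr e.symm
  have hmem : ∀ i, ∃ x : S a, orderOf x = p j i := fun i => by
    have := prime_mem_Om s p j i
    rw [← hr a] at this
    exact this
  obtain ⟨x, hx⟩ := hmem 0
  obtain ⟨y, hy⟩ := hmem 1
  obtain ⟨z, hz⟩ := mixed_order (hp j 0) (hp j 1) (fun h => absurd (hinj _ _ _ _ h).2 (by decide))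
    (hboth 0) (hboth 1) x y hx hy
  have : orderOf z ∈ Set.range (orderOf : S a → ℕ) := ⟨z, rfl⟩
  rw [hr a, hz] at this
  exact mul_notMem_Om s p hp hinj j this

end Cfsg.Agent.S3599
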