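import Cfsg.Statements.S3600
import Cfsg.Agent.Lib.SmallSpec.Critical
import Cfsg.Agent.S3433
-- import your own Cfsg.Agent.* helpers here

set_option autoImplicit false
open Cfsg

namespace Cfsg.Agent.S3600

/-- A finite group is critical with respect to a set Ω of natural numbers when its set of element orders is Ω while no proper section has Ω as its set of element orders. A finite group critical with respect to {1, 2, 3, 4, 5} (the set of element orders of the alternating group of degree 6) is isomorphic either to the alternating group of degree 6 or to the affine group F² ⋊ SL(2,F) over the field F with four elements (realised as the matrices of SL(3,F) with last row (0, 0, 1)). -/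
theorem result {G : Type*} [Group G] [Finite G]
    (hcrit : Set.range (orderOf : G → ℕ) = ({1, 2, 3, 4, 5} : Set ℕ) ∧
      ∀ (H : Subgroup G) (N : Subgroup ↥H) [N.Normal], (H ≠ ⊤ ∨ N ≠ ⊥) → Set.range (orderOf : (↥H ⧸ N) → ℕ) ≠ ({1, 2, 3, 4, 5} : Set ℕ)) :
    Nonempty (G ≃* alternatingGroup (Fin 6)) ∨
      ∃ (F : Type) (_ : Field F) (_ : Fintype F), Fintype.card F = 4 ∧
        Nonempty (G ≃* ↥(Subgroup.closure {M : Matrix.SpecialLinearGroup (Fin 3) F |
          (M : Matrix (Fin 3) (Fin 3) F) 2 0 = 0 ∧ (M : Matrix (Fin 3) (Fin 3) F) 2 1 = 0 ∧ (M : Matrix (Fin 3) (Fin 3) F) 2 2 = 1})) := by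
  classical
  obtain ⟨hord, hmin⟩ := hcrit
  have hS : SmallSpec.Small G := fun g => by
    have h : orderOf g ∈ ({1, 2, 3, 4, 5} : Set ℕ) := hord.le ⟨g, rfl⟩
    simp only [Set.mem_insert_iff, Set.mem_singleton_iff] at h
    omega
  have hord' : Set.range (orderOf : G → ℕ) = {k : ℕ | 1 ≤ k ∧ k ≤ 5} := by
    rw [hord]; ext k
    simp only [Set.mem_insert_iff, Set.mem_singleton_iff, Set.mem_ofPred_eq]
    omega
  rcases S3433.result hord' with h | ⟨N, hNn, hNe, ⟨e⟩⟩
  · exact Or.inl h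
  right
  haveI := hNn
  have hN : ∀ n ∈ N, n * n = 1 := fun n hn => by rw [← pow_two]; exact hNe.2 n hn
  haveI : Fact (Nat.Prime 3) := ⟨Nat.prime_three⟩
  haveI : Fact (Nat.Prime 5) := ⟨Nat.prime_five⟩
  have hne : N ≠ ⊥ := by
    rintro rfl
    obtain ⟨g, hg⟩ : (4 : ℕ) ∈ Set.range (orderOf : G → ℕ) := by rw [hord]; simp
    have h4 : orderOf (e (g : G ⧸ (⊥ : Subgroup G))) = 4 := by
      rw [MulEquiv.orderOf_eq, ← hg]
      exact orderOf_injective (QuotientGroup.mk' (⊥ : Subgroup G))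
        (by rw [← MonoidHom.ker_eq_bot_iff, QuotientGroup.ker_mk']) g
    have h5 : ∀ σ : ↥(alternatingGroup (Fin 5)), σ ^ 4 = 1 → σ ^ 2 = 1 := by decide +kernel
    have h6 := orderOf_dvd_of_pow_eq_one (h5 _ (h4 ▸ pow_orderOf_eq_one _))
    rw [h4] at h6
    norm_num at h6
  refine SmallSpec.Small.exists_affine hS hN hne (fun M hM hMN hMb => ?_) e
  by_contra hMne
  haveI := hM
  refine hmin ⊤ (M.subgroupOf ⊤) (Or.inr fun h => hMb ?_) ?_
  · rw [← Subgroup.map_subgroupOf_eq_of_le (le_top : M ≤ ⊤), h, Subgroup.map_bot]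
  let E0 : (↥(⊤ : Subgroup G) ⧸ M.subgroupOf ⊤) ≃* G ⧸ M :=
    QuotientGroup.congr _ _ Subgroup.topEquiv (by
      ext x
      simp only [Subgroup.mem_map, Subgroup.mem_subgroupOf]
      exact ⟨fun ⟨y, hy, hyx⟩ => hyx ▸ hy, fun hx => ⟨⟨x, trivial⟩, hx, rfl⟩⟩)
  have hrange : Set.range (orderOf : (↥(⊤ : Subgroup G) ⧸ M.subgroupOf ⊤) → ℕ) =
      Set.range (orderOf : G ⧸ M → ℕ) := by
    ext k
    exact ⟨fun ⟨x, hx⟩ => ⟨E0 x, by rw [MulEquiv.orderOf_eq, hx]⟩,
      fun ⟨x, hx⟩ => ⟨E0.symm x, by rw [MulEquiv.orderOf_eq, hx]⟩⟩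
  rw [hrange]
  let π := QuotientGroup.mk' M
  haveI : (N.map π).Normal := Subgroup.Normal.map inferInstance _ (QuotientGroup.mk'_surjective M)
  have hSq : SmallSpec.Small (G ⧸ M) := hS.quotient M
  have hNq : ∀ n ∈ N.map π, n * n = 1 := by
    rintro _ ⟨n, hn, rfl⟩
    rw [← map_mul, hN n hn, map_one]
  have hneq : N.map π ≠ ⊥ := by
    rw [Ne, Subgroup.map_eq_bot_iff, QuotientGroup.ker_mk']
    exact fun h => hMne (le_antisymm hMN h)
  let eq' : (G ⧸ M) ⧸ N.map π ≃* ↥(alternatingGroup (Fin 5)) :=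
    (QuotientGroup.quotientQuotientEquivQuotient M N hMN).trans e
  obtain ⟨g, hg⟩ := hSq.exists_order_four hNq hneq eq'
  refine Set.Subset.antisymm ?_ ?_
  · rintro k ⟨x, rfl⟩
    rcases hSq.cases x with h | h | h | h | h <;> rw [h] <;> simp
  · intro k hk
    simp only [Set.mem_insert_iff, Set.mem_singleton_iff] at hk
    have key : ∀ q : ℕ, (q = 3 ∨ q = 5) → q.Prime → ∃ x : G ⧸ M, orderOf x = q := by
      intro q hq hqp
      haveI := Fact.mk hqp
      obtain ⟨σ, hσ⟩ := exists_prime_orderOf_dvd_card' (p := q) (G := (G ⧸ M) ⧸ N.map π) (by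
        rw [Nat.card_congr eq'.toEquiv, SmallSpec.natCard_A5]
        rcases hq with rfl | rfl <;> norm_num)
      obtain ⟨x, rfl⟩ := QuotientGroup.mk'_surjective (N.map π) σ
      exact ⟨x, hSq.orderOf_lift _ hq hσ⟩
    rcases hk with rfl | rfl | rfl | rfl | rfl
    · exact ⟨1, orderOf_one⟩
    · exact ⟨g ^ 2, by rw [orderOf_pow' g two_ne_zero, hg]; rfl⟩
    · exact key 3 (Or.inl rfl) Nat.prime_three
    · exact ⟨g, hg⟩
    · exact key 5 (Or.inr rfl) Nat.prime_five

end Cfsg.Agent.S3600
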