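import Cfsg.Statements.S3611
import Cfsg.Agent.Lib.HalfNorm.Basic

set_option autoImplicit false
set_option linter.style.haveILetI false
open Cfsg

namespace Cfsg.Agent.S3611

/-- Let G be an insoluble group acting faithfully and transitively on a finite set of prime size p, and suppose the normalizer of a Sylow p-subgroup of G has order p(p-1)/2. If p ≡ 3 (mod 4), then G is triply transitive, or for any two distinct points the stabilizer of both has exactly four orbits on the set (the two fixed points and exactly two orbits on the remaining p - 2 points). -/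
theorem result {G Ω : Type*} [Group G] [Finite G] [MulAction G Ω] [FaithfulSMul G Ω] [Finite Ω]
    (p : ℕ) (hp : p.Prime) (hΩ : Nat.card Ω = p) (htrans : MulAction.IsPretransitive G Ω)
    (hins : ¬ Group.IsSolvable G) (P : Sylow p G)
    (hN : 2 * Nat.card ↥(Subgroup.normalizer ((P : Subgroup G) : Set G)) = p * (p - 1))
    (hp3 : p % 4 = 3) :
    MulAction.IsMultiplyPretransitive G Ω 3 ∨
    ∀ α β : Ω, α ≠ β →
      Nat.card (MulAction.orbitRel.Quotient ↥(MulAction.stabilizer G α ⊓ MulAction.stabilizer G β) Ω) = 4 := by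
  haveI : Fact p.Prime := ⟨hp⟩
  haveI := htrans
  refine or_iff_not_imp_left.2 fun h3 => ?_
  obtain ⟨⟨C⟩, -⟩ := Cfsg.Agent.HalfNorm.exists_coords hΩ P hN
  obtain ⟨D⟩ := Cfsg.Agent.HalfNorm.exists_tri hΩ hins C h3
  intro α β hαβ
  have h2 : MulAction.IsMultiplyPretransitive G Ω 2 :=
    (Cfsg.Agent.PermPrime.burnside hΩ).resolve_left hins
  obtain ⟨a, b, c, hT⟩ := D.ex
  obtain ⟨g, ga, gb⟩ := (MulAction.is_two_pretransitive_iff.1 h2) (D.ne12 hT) hαβ
  have hz : D.T α β (g • c) := by have := D.inv g hT; rwa [ga, gb] at this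
  obtain ⟨a', b', c', n1, n2, n3, hT'⟩ := D.ex'
  obtain ⟨g', ga', gb'⟩ := (MulAction.is_two_pretransitive_iff.1 h2) n1 hαβ
  have hz' : ¬ D.T α β (g' • c') := by
    intro h; rw [← ga', ← gb', D.inv_iff] at h; exact hT' h
  have hza' : g' • c' ≠ α := by rw [← ga']; exact fun e => n2 (smul_left_cancel g' e).symm
  have hzb' : g' • c' ≠ β := by rw [← gb']; exact fun e => n3 (smul_left_cancel g' e).symm
  set z := g • c
  set z' := g' • c'
  set H := MulAction.stabilizer G α ⊓ MulAction.stabilizer G β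
  have hfix : ∀ h : H, (h : G) • α = α ∧ (h : G) • β = β := fun h =>
    ⟨h.2.1, h.2.2⟩
  let w : Fin 4 → Ω := ![α, β, z, z']
  classical
  let col : Ω → Fin 4 := fun x =>
    if x = α then 0 else if x = β then 1 else if D.T α β x then 2 else 3
  have hcol : ∀ (h : H) x, col ((h : G) • x) = col x := by
    intro h x
    obtain ⟨ha, hb⟩ := hfix h
    have e1 : ((h : G) • x = α) ↔ x = α := ⟨fun e => smul_left_cancel _ (e.trans ha.symm), fun e => by rw [e, ha]⟩
    have e2 : ((h : G) • x = β) ↔ x = β := ⟨fun e => smul_left_cancel _ (e.trans hb.symm), fun e => by rw [e, hb]⟩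
    have e3 : D.T α β ((h : G) • x) ↔ D.T α β x := by
      conv_lhs => rw [← ha, ← hb]
      exact D.inv_iff _
    simp only [col, e1, e2, e3]
  have hcolw : ∀ i, col (w i) = i := by
    intro i
    fin_cases i <;>
      simp [col, w, hαβ.symm, (D.ne13 hz).symm, (D.ne23 hz).symm, hz, hz', hza', hzb']
  have hinj : ∀ i j, w i ∈ MulAction.orbit H (w j) → i = j := by
    rintro i j ⟨h, hh⟩
    change (h : G) • w j = w i at hh
    rw [← hcolw i, ← hh, hcol, hcolw]
  let f : Fin 4 → MulAction.orbitRel.Quotient ↥H Ω := fun i => Quotient.mk'' (w i)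
  have hf : Function.Bijective f := by
    refine ⟨fun i j hij => hinj i j (MulAction.orbitRel_apply.1 (Quotient.eq''.1 hij)), ?_⟩
    intro q
    induction q using Quotient.inductionOn' with
    | h x =>
      have : ∃ i, x ∈ MulAction.orbit H (w i) := by
        by_cases hxa : x = α
        · exact ⟨0, hxa ▸ MulAction.mem_orbit_self _⟩
        by_cases hxb : x = β
        · exact ⟨1, hxb ▸ MulAction.mem_orbit_self _⟩
        by_cases hx : D.T α β x
        · obtain ⟨k, k1, k2, k3⟩ := D.orbit hz hx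
          exact ⟨2, ⟨k, k1, k2⟩, k3⟩
        · obtain ⟨k, k1, k2, k3⟩ := D.orbit' hαβ hza'.symm hzb'.symm hz' hαβ (Ne.symm hxa) (Ne.symm hxb) hx
          exact ⟨3, ⟨k, k1, k2⟩, k3⟩
      obtain ⟨i, hi⟩ := this
      exact ⟨i, (Quotient.eq''.2 (MulAction.orbitRel_apply.2 hi)).symm⟩
  rw [← Nat.card_eq_of_bijective f hf, Nat.card_fin]

end Cfsg.Agent.S3611
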