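import Cfsg.Statements.S3613
import Cfsg.Agent.Lib.HalfNorm.Twin

set_option autoImplicit false
set_option linter.style.haveILetI false
set_option linter.unusedSectionVars false
open Cfsg

namespace Cfsg.Agent.S3613

open MulAction
open scoped Pointwise
open Cfsg.Agent.HalfNorm

variable {G Ω : Type*} [Group G] [MulAction G Ω]

theorem five_of_transposition [Finite Ω] [DecidableEq Ω] (h2 : IsMultiplyPretransitive G Ω 2)
    {a b : Ω} (hab : a ≠ b) {g : G} (ga : g • a = b) (gb : g • b = a)
    (gx : ∀ x, x ≠ a → x ≠ b → g • x = x) : IsMultiplyPretransitive G Ω 5 := by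
  have hsw : ∀ x y : Ω, x ≠ y → Equiv.swap x y ∈ (toPermHom G Ω).range := by
    intro x y hxy
    obtain ⟨k, ka, kb⟩ := (is_two_pretransitive_iff.1 h2) hab hxy
    refine ⟨k * g * k⁻¹, Equiv.ext fun z => ?_⟩
    change (k * g * k⁻¹) • z = _
    rw [mul_smul, mul_smul]
    by_cases hzx : z = x
    · rw [hzx, Equiv.swap_apply_left, inv_smul_eq_iff.2 ka.symm, ga, kb]
    by_cases hzy : z = y
    · rw [hzy, Equiv.swap_apply_right, inv_smul_eq_iff.2 kb.symm, gb, ka]
    rw [Equiv.swap_apply_of_ne_of_ne hzx hzy, gx _ (fun e => hzx ?_) (fun e => hzy ?_), smul_inv_smul]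
    · rw [← ka, ← e, smul_inv_smul]
    · rw [← kb, ← e, smul_inv_smul]
  have htop : (toPermHom G Ω).range = ⊤ := by
    rw [eq_top_iff, ← Equiv.Perm.closure_isSwap, Subgroup.closure_le]
    rintro σ ⟨x, y, hxy, rfl⟩
    exact hsw x y hxy
  have hP : IsMultiplyPretransitive (Equiv.Perm Ω) Ω 5 := Equiv.Perm.isMultiplyPretransitive Ω 5
  rw [isMultiplyPretransitive_iff] at hP ⊢
  intro x y
  obtain ⟨σ, hσ⟩ := hP (x := x) (y := y)
  obtain ⟨k, hk⟩ : σ ∈ (toPermHom G Ω).range := htop ▸ Subgroup.mem_top σ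
  refine ⟨k, Function.Embedding.ext fun i => ?_⟩
  rw [← hσ, ← hk]
  rfl

/-- The stabiliser of two points is insoluble on the remaining points. -/
theorem fix_insoluble [Finite G] [FaithfulSMul G Ω] [IsPretransitive G Ω] {p q : ℕ} [Fact p.Prime]
    [Fact q.Prime] (hΩ : Nat.card Ω = p) (P : Sylow p G)
    (hN : 2 * Nat.card ↥(Subgroup.normalizer ((P : Subgroup G) : Set G)) = p * (p - 1))
    (h3 : IsMultiplyPretransitive G Ω 3) (hq5 : 5 < q) (hpq : p = q + 2) {a b : Ω} (hab : a ≠ b) :
    ¬ Group.IsSolvable (stabilizer (pairStab G a b) a) := by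
  classical
  intro hsol
  haveI : Finite Ω := Nat.finite_of_card_ne_zero (by omega)
  haveI := Fintype.ofFinite Ω
  haveI := fix_pretransitive h3 hab
  haveI := fix_faithful (G := G) hab
  have hX : Nat.card (rest G a b) = q := by rw [card_rest hab, hΩ]; omega
  obtain ⟨f, hf, hcard⟩ := card_solvable_prime (G := stabilizer (pairStab G a b) a) hX
  let e : stabilizer G (a, b) ≃ stabilizer (pairStab G a b) a :=
    { toFun := fun g => ⟨⟨g, Or.inl ⟨congrArg Prod.fst g.2, congrArg Prod.snd g.2⟩⟩,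
        congrArg Prod.fst g.2⟩
      invFun := fun g => ⟨(g : G), Prod.ext ((mem_fix_iff hab).1 g.2).1 ((mem_fix_iff hab).1 g.2).2⟩
      left_inv := fun _ => rfl
      right_inv := fun _ => rfl }
  have hidx : (stabilizer G (a, b)).index = p * p - p := by
    haveI h2 : IsMultiplyPretransitive G Ω 2 :=
      isMultiplyPretransitive_of_le (n := 3) (by omega) (by rw [hΩ]; omega)
    rw [index_stabilizer, show orbit G (a, b) = ↑(Finset.univ : Finset Ω).offDiag from ?_,
      Set.ncard_coe_finset, Finset.offDiag_card, Finset.card_univ, ← Nat.card_eq_fintype_card, hΩ]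
    ext ⟨x, y⟩
    simp only [Finset.mem_coe, Finset.mem_offDiag, Finset.mem_univ, true_and]
    constructor
    · rintro ⟨g, hg⟩
      obtain ⟨rfl, rfl⟩ := Prod.mk.inj hg
      exact fun e => hab (smul_left_cancel g e)
    · intro hxy
      obtain ⟨g, ga, gb⟩ := (is_two_pretransitive_iff.1 h2) hab hxy
      exact ⟨g, Prod.ext ga gb⟩
  have hG : Nat.card G = p * (p - 1) * (q * f) := by
    rw [← (stabilizer G (a, b)).index_mul_card, hidx, Nat.card_congr e, hcard, Nat.mul_sub_one]
  have hind := Subgroup.card_mul_index (Subgroup.normalizer ((P : Subgroup G) : Set G))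
  rw [hG] at hind
  have hn : (Subgroup.normalizer ((P : Subgroup G) : Set G)).index = 2 * (q * f) := by
    have h : p * (p - 1) * (Subgroup.normalizer ((P : Subgroup G) : Set G)).index =
        p * (p - 1) * (2 * (q * f)) := by
      rw [← hN, mul_assoc 2, hind, hN]; ring
    exact Nat.eq_of_mul_eq_mul_left
      (Nat.mul_pos (Fact.out : p.Prime).pos (by have := (Fact.out : p.Prime).two_le; omega)) h
  have hmod : 2 * (q * f) ≡ 1 [MOD p] := by
    rw [← hn]
    have h := card_sylow_modEq_one p G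
    rw [P.card_eq_index_normalizer] at h
    exact h
  -- `q = -2` modulo `p`
  have hz : ((2 * (q * f) : ℕ) : ZMod p) = ((1 : ℕ) : ZMod p) := (ZMod.natCast_eq_natCast_iff _ _ _).2 hmod
  have hq2 : ((q : ℕ) : ZMod p) = -2 := by
    have : ((q + 2 : ℕ) : ZMod p) = 0 := by rw [← hpq]; exact ZMod.natCast_self p
    push_cast at this
    linear_combination this
  have hdiv : p ∣ 4 * f + 1 := by
    rw [← ZMod.natCast_eq_zero_iff]
    push_cast at hz ⊢
    rw [hq2] at hz
    linear_combination -hz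
  have hq := (Fact.out : q.Prime)
  obtain ⟨k, hk⟩ := hdiv
  have hfle := Nat.le_of_dvd (by omega) hf
  have hk4 : k < 4 := by
    by_contra h
    have : p * 4 ≤ p * k := Nat.mul_le_mul_left p (not_lt.1 h)
    omega
  obtain ⟨j, hj⟩ := hf
  interval_cases k
  · omega
  · have hf2 : f ∣ 2 := (Nat.dvd_add_right ⟨j, hj⟩).1 (show f ∣ (q - 1) + 2 from ⟨4, by omega⟩)
    have := Nat.le_of_dvd (by norm_num) hf2
    have : p = 9 := by omega
    exact absurd (this ▸ (Fact.out : p.Prime)) (by norm_num)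
  · omega
  · rcases j with _ | _ | j
    · omega
    · -- `q = 9`
      have : q = 9 := by omega
      subst this
      norm_num at hq
    · have : f * 2 ≤ f * (j + 1 + 1) := Nat.mul_le_mul_left f (by omega)
      omega

/-- Let G be an insoluble group acting faithfully and transitively on a finite set of prime size p, and suppose the normalizer of a Sylow p-subgroup of G has order p(p-1)/2. If p = q + 2 for a prime q > 5, then G is 5-fold transitive. -/
theorem result {G Ω : Type*} [Group G] [Finite G] [MulAction G Ω] [FaithfulSMul G Ω] [Finite Ω]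
    (p : ℕ) (hp : p.Prime) (hΩ : Nat.card Ω = p) (htrans : MulAction.IsPretransitive G Ω)
    (hins : ¬ Group.IsSolvable G) (P : Sylow p G)
    (hN : 2 * Nat.card ↥(Subgroup.normalizer ((P : Subgroup G) : Set G)) = p * (p - 1))
    (q : ℕ) (hq : q.Prime) (hq5 : 5 < q) (hpq : p = q + 2) :
    MulAction.IsMultiplyPretransitive G Ω 5 := by
  classical
  haveI : Fact p.Prime := ⟨hp⟩
  haveI : Fact q.Prime := ⟨hq⟩
  haveI := htrans
  haveI := Fintype.ofFinite Ω
  have h3 := three_twin hΩ hins P hN hq hq5 hpq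
  have h2 : IsMultiplyPretransitive G Ω 2 := (Cfsg.Agent.PermPrime.burnside hΩ).resolve_left hins
  by_cases htp : ∃ (a b : Ω) (g : G), a ≠ b ∧ g • a = b ∧ g • b = a ∧ ∀ x, x ≠ a → x ≠ b → g • x = x
  · obtain ⟨a, b, g, hab, ga, gb, gx⟩ := htp
    exact five_of_transposition h2 hab ga gb gx
  have hcard : Fintype.card Ω = p := by rw [← Nat.card_eq_fintype_card, hΩ]
  have key : ∀ (a b : Ω), a ≠ b → ∀ x y u v : Ω, x ∉ [a, b] → y ∉ [a, b] → u ∉ [a, b] → v ∉ [a, b] →
      x ≠ y → u ≠ x → u ≠ y → v ≠ x → v ≠ y →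
      ∃ g : G, g • a = a ∧ g • b = b ∧ g • x = x ∧ g • y = y ∧ g • u = v := by
    intro a b hab x y u v hx hy hu hv hxy hux huy hvx hvy
    simp only [List.mem_cons, List.not_mem_nil, or_false, not_or] at hx hy hu hv
    set H := pairStab G a b
    set W := stabilizer H a
    let X := ↥(rest G a b)
    haveI := fix_pretransitive h3 hab
    haveI := fix_faithful (G := G) hab
    have hX : Nat.card X = q := by rw [card_rest hab, hΩ]; omega
    have hWins := fix_insoluble hΩ P hN h3 hq5 hpq hab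
    have hW2 : IsMultiplyPretransitive W X 2 := (Cfsg.Agent.PermPrime.burnside hX).resolve_left hWins
    haveI : FaithfulSMul H X := by
      suffices h1 : ∀ h : H, (∀ z : X, h • z = z) → h = 1 by
        refine ⟨fun {g h} hgh => inv_mul_eq_one.1 (h1 (g⁻¹ * h) fun z => ?_)⟩
        rw [mul_smul, ← hgh z, inv_smul_smul]
      intro h hh
      have hfix : ∀ z, z ≠ a → z ≠ b → (h : G) • z = z := fun z h1 h2 =>
        congrArg Subtype.val (hh ⟨z, h1, h2⟩)
      rcases h.2 with ⟨ha, hb⟩ | ⟨ha, hb⟩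
      · refine Subtype.ext (FaithfulSMul.eq_of_smul_eq_smul fun z : Ω => ?_)
        rw [Subgroup.coe_one, one_smul]
        by_cases hza : z = a
        · rw [hza, ha]
        by_cases hzb : z = b
        · rw [hzb, hb]
        exact hfix z hza hzb
      · exact absurd ⟨a, b, h, hab, ha, hb, hfix⟩ htp
    haveI : IsPretransitive H X := ⟨fun z z' => by
      obtain ⟨g, hg⟩ := exists_smul_eq W z z'
      exact ⟨g, hg⟩⟩
    have hHins : ¬ Group.IsSolvable H := fun h => hWins inferInstance
    obtain ⟨Q⟩ : Nonempty (Sylow q H) := inferInstance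
    have hsq : ∀ g : H, g ^ 2 ∈ W := by
      intro g
      by_cases hg : g ∈ W
      · exact pow_mem hg 2
      · rw [pow_two]; exact mul_mem_fix hab hg hg
    have hodd : ∀ g : H, Odd (orderOf g) → g ∈ W := by
      rintro g ⟨k, hk⟩
      rw [show g = (g ^ 2) ^ (k + 1) by
        rw [← pow_mul, show 2 * (k + 1) = orderOf g + 1 by omega, pow_add, pow_orderOf_eq_one,
          one_mul, pow_one]]
      exact pow_mem (hsq g) _
    have hle : ∀ R : Sylow q H, (R : Subgroup H) ≤ W := by
      intro R g hg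
      obtain ⟨k, hk⟩ := R.isPGroup' ⟨g, hg⟩
      refine hodd g (Odd.of_dvd_nat ?_ (orderOf_dvd_of_pow_eq_one (congrArg Subtype.val hk)))
      exact (hq.odd_of_ne_two (by omega)).pow
    obtain ⟨t, hta, htb⟩ := (is_two_pretransitive_iff.1 h2) hab hab.symm
    let t' : H := ⟨t, Or.inr ⟨hta, htb⟩⟩
    have ht' : t' ∉ W := fun h => hab (((mem_fix_iff hab).1 h).1.symm.trans hta)
    obtain ⟨w, hw⟩ := exists_smul_eq W ((t' • Q).subtype (hle _)) (Q.subtype (hle _))
    rw [Sylow.smul_subtype] at hw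
    have hw' : ((w : H) * t') • Q = Q := by
      rw [mul_smul]; exact Sylow.subtype_injective hw
    have hsN := Sylow.smul_eq_iff_mem_normalizer.1 hw'
    have hsW : (w : H) * t' ∉ W := fun h => ht' ((W.mul_mem_cancel_left w.2).1 h)
    have heven : Even (Nat.card (Subgroup.normalizer ((Q : Subgroup H) : Set H))) := by
      have h1 := orderOf_dvd_natCard (⟨_, hsN⟩ : Subgroup.normalizer ((Q : Subgroup H) : Set H))
      rw [Subgroup.orderOf_mk] at h1
      exact even_iff_two_dvd.2 ((even_iff_two_dvd.1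
        (Nat.not_odd_iff_even.1 fun h => hsW (hodd _ h))).trans h1)
    have hH3 : IsMultiplyPretransitive H X 3 :=
      Cfsg.Agent.PermThree.three_transitive_prime (p := q) hX hHins Q heven
    let x' : X := ⟨x, hx⟩
    let y' : X := ⟨y, hy⟩
    have ne' : ∀ {s r : X}, (s : Ω) ≠ r → s ≠ r := fun h e => h (congrArg Subtype.val e)
    have hex : ∃ s : H, s ∉ W ∧ s • x' = x' ∧ s • y' = y' ∧
        ∃ r : X, r ≠ x' ∧ r ≠ y' ∧ s • r = r := by
      by_contra hno
      simp only [not_exists, not_and] at hno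
      obtain ⟨k, hk1, hk2⟩ := (is_two_pretransitive_iff.1 hW2)
        (fun e : t' • x' = t' • y' => hxy (congrArg Subtype.val (smul_left_cancel t' e)))
        (ne' hxy : x' ≠ y')
      let t₂ : H := (k : H) * t'
      have ht₂ : t₂ ∉ W := fun h => ht' ((W.mul_mem_cancel_left k.2).1 h)
      have ht₂x : t₂ • x' = x' := by rw [mul_smul]; exact hk1
      have ht₂y : t₂ • y' = y' := by rw [mul_smul]; exact hk2
      let z' : X := ⟨u, hu⟩
      have hzx : z' ≠ x' := ne' hux
      have hzy : z' ≠ y' := ne' huy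
      haveI : Fintype X := Fintype.ofFinite X
      let A := Finset.univ.filter fun r : X =>
        ∃ g ∈ W, g • x' = x' ∧ g • y' = y' ∧ g • z' = r
      have hAB : A ∪ A.map (toPerm t₂).toEmbedding = (Finset.univ.erase x').erase y' := by
        ext r
        simp only [A, Finset.mem_union, Finset.mem_map, Finset.mem_filter, Finset.mem_univ, true_and,
          Equiv.coe_toEmbedding, toPerm_apply, Finset.mem_erase, and_true]
        constructor
        · rintro (⟨g, -, g1, g2, rfl⟩ | ⟨-, ⟨g, -, g1, g2, rfl⟩, rfl⟩)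
          · exact ⟨fun e => hzy (smul_left_cancel g (e.trans g2.symm)),
              fun e => hzx (smul_left_cancel g (e.trans g1.symm))⟩
          · exact ⟨fun e => hzy (smul_left_cancel g (smul_left_cancel t₂
              (e.trans (by rw [g2, ht₂y])))),
              fun e => hzx (smul_left_cancel g (smul_left_cancel t₂ (e.trans (by rw [g1, ht₂x]))))⟩
        · rintro ⟨hry, hrx⟩
          obtain ⟨g, g1, g2, g3⟩ := exists_triple hH3 (ne' hxy : x' ≠ y') hzx.symm hzy.symm
            (ne' hxy : x' ≠ y') hrx.symm hry.symm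
          by_cases hg : g ∈ W
          · exact Or.inl ⟨g, hg, g1, g2, g3⟩
          · refine Or.inr ⟨(t₂⁻¹ * g) • z', ⟨t₂⁻¹ * g, mul_mem_fix hab
              (fun h => ht₂ (inv_mem_iff.1 h)) hg, ?_, ?_, rfl⟩, ?_⟩
            · rw [mul_smul, g1, inv_smul_eq_iff, ht₂x]
            · rw [mul_smul, g2, inv_smul_eq_iff, ht₂y]
            · rw [smul_smul, mul_inv_cancel_left, g3]
      have hdisj : Disjoint A (A.map (toPerm t₂).toEmbedding) := by
        rw [Finset.disjoint_left]
        intro r hr hr'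
        simp only [A, Finset.mem_map, Finset.mem_filter, Finset.mem_univ, true_and,
          Equiv.coe_toEmbedding, toPerm_apply] at hr hr'
        obtain ⟨g, hgW, g1, g2, rfl⟩ := hr
        obtain ⟨_, ⟨k', hkW, k1, k2, rfl⟩, hk⟩ := hr'
        refine hno (g⁻¹ * (t₂ * k')) (fun h => ht₂ ?_) ?_ ?_ z' hzx hzy ?_
        · have := (W.mul_mem_cancel_left (inv_mem hgW)).1 h
          exact (W.mul_mem_cancel_right hkW).1 this
        · rw [mul_smul, mul_smul, k1, ht₂x, inv_smul_eq_iff, g1]
        · rw [mul_smul, mul_smul, k2, ht₂y, inv_smul_eq_iff, g2]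
        · rw [mul_smul, mul_smul, hk, inv_smul_smul]
      have hsum := congrArg Finset.card hAB
      rw [Finset.card_union_of_disjoint hdisj, Finset.card_map,
        Finset.card_erase_of_mem (by simp [(ne' hxy : x' ≠ y').symm]),
        Finset.card_erase_of_mem (Finset.mem_univ x'), Finset.card_univ, ← Nat.card_eq_fintype_card,
        hX] at hsum
      obtain ⟨k, hk⟩ := hq.odd_of_ne_two (by omega)
      omega
    obtain ⟨s, hsW', sx, sy, r, hrx, hry, sr⟩ := hex
    -- move the fixed point of `s` to `u`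
    obtain ⟨c, c1, c2, c3⟩ := exists_triple hH3 (ne' hxy : x' ≠ y') hrx.symm hry.symm
      (ne' hxy : x' ≠ y') (ne' (r := (⟨u, hu⟩ : X)) hux.symm) (ne' (r := (⟨u, hu⟩ : X)) huy.symm)
    obtain ⟨g, g1, g2, g3⟩ := exists_triple hH3 (ne' hxy : x' ≠ y')
      (ne' (r := (⟨u, hu⟩ : X)) hux.symm) (ne' (r := (⟨u, hu⟩ : X)) huy.symm)
      (ne' hxy : x' ≠ y') (ne' (r := (⟨v, hv⟩ : X)) hvx.symm) (ne' (r := (⟨v, hv⟩ : X)) hvy.symm)
    have out : ∀ {g : H}, g ∈ W → g • x' = x' → g • y' = y' → g • (⟨u, hu⟩ : X) = ⟨v, hv⟩ →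
        ∃ g : G, g • a = a ∧ g • b = b ∧ g • x = x ∧ g • y = y ∧ g • u = v := fun {g} hg h1 h2 h3 =>
      ⟨g, ((mem_fix_iff hab).1 hg).1, ((mem_fix_iff hab).1 hg).2, congrArg Subtype.val h1,
        congrArg Subtype.val h2, congrArg Subtype.val h3⟩
    by_cases hg : g ∈ W
    · exact out hg g1 g2 g3
    have hs' : c * s * c⁻¹ ∉ W := by
      intro h
      refine hsW' ?_
      by_cases hc : c ∈ W
      · exact (W.mul_mem_cancel_left hc).1 ((W.mul_mem_cancel_right (inv_mem hc)).1 h)
      · by_contra hs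
        exact hc (inv_mem_iff.1 ((W.mul_mem_cancel_left (mul_mem_fix hab hc hs)).1 h))
    refine out (mul_mem_fix hab hg hs') ?_ ?_ ?_
    · rw [mul_smul, mul_smul, mul_smul, inv_smul_eq_iff.2 c1.symm, sx, c1, g1]
    · rw [mul_smul, mul_smul, mul_smul, inv_smul_eq_iff.2 c2.symm, sy, c2, g2]
    · rw [mul_smul, mul_smul, mul_smul, inv_smul_eq_iff.2 c3.symm, sr, c3, g3]
  have h4 : Cfsg.Agent.PermMultiple.FixTransitive G Ω 4 := by
    intro S hS u v hu hv
    obtain ⟨a, ha⟩ := Finset.card_pos.1 (by omega : 0 < S.card)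
    obtain ⟨b, hb⟩ := Finset.card_pos.1 (by rw [Finset.card_erase_of_mem ha]; omega : 0 < (S.erase a).card)
    obtain ⟨x, y, hxy, he⟩ := Finset.card_eq_two.1 (by
      rw [Finset.card_erase_of_mem hb, Finset.card_erase_of_mem ha]; omega :
        ((S.erase a).erase b).card = 2)
    have hxS : x ∈ (S.erase a).erase b := by simp [he]
    have hyS : y ∈ (S.erase a).erase b := by simp [he]
    simp only [Finset.mem_erase] at hb hxS hyS
    obtain ⟨g, ga, gb, gx, gy, gu⟩ := key a b hb.1.symm x y u v (by simp [hxS.1, hxS.2.1])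
      (by simp [hyS.1, hyS.2.1])
      (by simp only [List.mem_cons, List.not_mem_nil, or_false, not_or]
          exact ⟨fun e => hu (e ▸ ha), fun e => hu (e ▸ hb.2)⟩)
      (by simp only [List.mem_cons, List.not_mem_nil, or_false, not_or]
          exact ⟨fun e => hv (e ▸ ha), fun e => hv (e ▸ hb.2)⟩)
      hxy (fun e => hu (e ▸ hxS.2.2)) (fun e => hu (e ▸ hyS.2.2))
      (fun e => hv (e ▸ hxS.2.2)) (fun e => hv (e ▸ hyS.2.2))
    refine ⟨g, fun z hz => ?_, gu⟩
    by_cases hza : z = a
    · rw [hza, ga]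
    by_cases hzb : z = b
    · rw [hzb, gb]
    have : z ∈ ({x, y} : Finset Ω) := he ▸ by simp [hza, hzb, hz]
    simp only [Finset.mem_insert, Finset.mem_singleton] at this
    rcases this with rfl | rfl
    exacts [gx, gy]
  exact Cfsg.Agent.PermMultiple.isMultiplyPretransitive_of_fixTransitive fun j hj =>
    Cfsg.Agent.PermMultiple.fixTransitive_le h4 (by omega) (by omega)

end Cfsg.Agent.S3613
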