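import Cfsg.Statements.S3614
import Cfsg.Agent.Lib.HalfNorm.Block
import Cfsg.Agent.S3613
import Cfsg.Agent.S0989

set_option autoImplicit false
set_option linter.style.haveILetI false
open Cfsg

namespace Cfsg.Agent.S3614

/-- Let G be an insoluble group acting faithfully and transitively on a finite set of prime size p, and suppose the normalizer of a Sylow p-subgroup of G has order p(p-1)/2. If p = q + 2 = 2r + 3 > 9 or p = q + 2 = 3r + 4 > 13 with q and r prime, then G is isomorphic to the alternating group of degree p. -/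
theorem result {G Ω : Type*} [Group G] [Finite G] [MulAction G Ω] [FaithfulSMul G Ω] [Finite Ω]
    (p : ℕ) (hp : p.Prime) (hΩ : Nat.card Ω = p) (htrans : MulAction.IsPretransitive G Ω)
    (hins : ¬ Group.IsSolvable G) (P : Sylow p G)
    (hN : 2 * Nat.card ↥(Subgroup.normalizer ((P : Subgroup G) : Set G)) = p * (p - 1))
    (q r : ℕ) (hq : q.Prime) (hr : r.Prime)
    (hcases : (p = q + 2 ∧ p = 2 * r + 3 ∧ 9 < p) ∨ (p = q + 2 ∧ p = 3 * r + 4 ∧ 13 < p)) :
    Nonempty (G ≃* alternatingGroup (Fin p)) := by
  classical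
  haveI : Fact p.Prime := ⟨hp⟩
  haveI : Fact r.Prime := ⟨hr⟩
  have h2q : 2 ≤ q := hq.two_le
  have hr5 : 5 ≤ r := by
    have h4 : r ≠ 4 := fun h => by subst h; norm_num at hr
    rcases hcases with ⟨-, h1, h2⟩ | ⟨-, h1, h2⟩ <;> omega
  have hq5 : 5 < q := by rcases hcases with ⟨h1, -, h2⟩ | ⟨h1, -, h2⟩ <;> omega
  have hpq : p = q + 2 := by rcases hcases with h | h <;> exact h.1
  have hG5 := Cfsg.Agent.S3613.result p hp hΩ htrans hins P hN q hq hq5 hpq
  let e : Ω ≃ Fin p := Finite.equivFinOfCardEq hΩ
  let f : G →* Equiv.Perm (Fin p) := e.permCongrHom.toMonoidHom.comp (MulAction.toPermHom G Ω)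
  have hf : Function.Injective f := e.permCongrHom.injective.comp MulAction.toPerm_injective
  set H := f.range with hH
  have htr : ∀ k ≤ 5, MulAction.IsMultiplyPretransitive H (Fin p) k := by
    intro k hk
    haveI := hG5
    have hGk : MulAction.IsMultiplyPretransitive G Ω k :=
      MulAction.isMultiplyPretransitive_of_le hk (by rw [hΩ]; omega)
    rw [MulAction.isMultiplyPretransitive_iff] at hGk ⊢
    intro x y
    obtain ⟨g, hg⟩ := hGk (x := x.trans e.symm.toEmbedding) (y := y.trans e.symm.toEmbedding)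
    refine ⟨⟨f g, g, rfl⟩, Function.Embedding.ext fun i => ?_⟩
    have h := DFunLike.congr_fun hg i
    show e (g • e.symm (x i)) = y i
    rw [show g • e.symm (x i) = e.symm (y i) from h, e.apply_symm_apply]
  have hprim : MulAction.IsPreprimitive H (Fin p) :=
    MulAction.isPreprimitive_of_is_two_pretransitive (htr 2 (by omega))
  have hA : alternatingGroup (Fin p) ≤ H := by
    by_cases hc : ∃ g ∈ H, g.IsCycle ∧ g.support.card = r
    · obtain ⟨g, hg, h1, h2⟩ := hc
      exact Cfsg.Agent.JordanCycle.alternatingGroup_le_of_prime_cycle hprim hr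
        (by rw [Fintype.card_fin]; rcases hcases with h | h <;> omega) h1 h2 hg
    simp only [not_exists, not_and] at hc
    obtain ⟨g, hg, h3⟩ : ∃ g ∈ H, g.IsThreeCycle := by
      rcases hcases with ⟨-, h, -⟩ | ⟨-, h, -⟩
      · obtain ⟨S⟩ := Cfsg.Agent.HalfNorm.exists_sys (G := H) (r := r)
          (Fin.castLEEmb (by omega : 3 ≤ p)) (htr 3 (by omega)) (htr 4 (by omega))
          (by rw [Fintype.card_fin, show p - 3 = 2 * r by omega]; exact dvd_mul_left r 2)
          (by rw [Fintype.card_fin]; omega) hr5 hc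
        exact S.exists_two (by rw [Fintype.card_fin]; omega)
      · obtain ⟨S⟩ := Cfsg.Agent.HalfNorm.exists_sys (G := H) (r := r)
          (Fin.castLEEmb (by omega : 4 ≤ p)) (htr 4 (by omega)) (htr 5 (by omega))
          (by rw [Fintype.card_fin, show p - 4 = 3 * r by omega]; exact dvd_mul_left r 3)
          (by rw [Fintype.card_fin]; omega) hr5 hc
        exact S.exists_three (htr 4 (by omega)) (by rw [Fintype.card_fin]; omega)
    exact Equiv.Perm.alternatingGroup_le_of_isPreprimitive_of_isThreeCycle_mem hprim h3 hg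
  have htop : H ≠ ⊤ := by
    intro htop
    let E : G ≃* Equiv.Perm (Fin p) :=
      (MonoidHom.ofInjective hf).trans ((MulEquiv.subgroupCongr htop).trans Subgroup.topEquiv)
    let P' : Sylow p (Equiv.Perm (Fin p)) := P.mapSurjective (f := E.toMonoidHom) E.surjective
    have h := Cfsg.Agent.S0989.result p (Or.inl (Fintype.card_fin p)) P'
    rw [show (P' : Subgroup (Equiv.Perm (Fin p))) = (P : Subgroup G).map E.toMonoidHom from rfl,
      ← Subgroup.map_equiv_normalizer_eq,
      ← Nat.card_congr (Subgroup.equivMapOfInjective _ _ E.injective).toEquiv] at h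
    have : 0 < p * (p - 1) := Nat.mul_pos hp.pos (by omega)
    omega
  haveI : Nontrivial (Fin p) := Fin.nontrivial_iff_two_le.2 hp.two_le
  have heq : H = alternatingGroup (Fin p) := by
    have h1 : H.index ∣ 2 := alternatingGroup.index_eq_two (α := Fin p) ▸ Subgroup.index_dvd_of_le hA
    rcases (Nat.dvd_prime Nat.prime_two).1 h1 with h | h
    · exact absurd (Subgroup.index_eq_one.1 h) htop
    refine (Subgroup.eq_of_le_of_card_ge hA ?_).symm
    have e1 := H.card_mul_index
    have e2 := (alternatingGroup (Fin p)).card_mul_index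
    rw [h] at e1
    rw [alternatingGroup.index_eq_two] at e2
    omega
  exact ⟨(MonoidHom.ofInjective hf).trans (MulEquiv.subgroupCongr heq)⟩

end Cfsg.Agent.S3614
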