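import Cfsg.Statements.S4501
import Cfsg.Agent.Lib.SmallN.ThreeCase
import Cfsg.Agent.Lib.Small.DegreePrimeSuccData
import Cfsg.Agent.S0992
import Cfsg.Agent.S0999

set_option autoImplicit false
set_option linter.style.haveILetI false
open Cfsg

namespace Cfsg.Agent.S4501

open Cfsg.Agent.SmallN

theorem no_odd {G : Type*} [Group G] [Fintype G] [IsSimpleGroup G] (hperf : commutator G = ⊤)
    {k : ℕ} (hG : Nat.card G = 3 * k) (h3 : ¬ 3 ∣ k) (hodd : ¬ 2 ∣ k) : False := by
  haveI : Fact (Nat.Prime 3) := ⟨Nat.prime_three⟩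
  obtain ⟨S, hS⟩ := exists_sylow_card hG h3
  obtain ⟨V, e, X, Y, δ, sg, B⟩ := exists_pblock S hS
  have he2 := PBlock.two_le hperf S B
  have he : e = 2 := by
    have : e ≤ 2 := Nat.le_of_dvd (by norm_num) ⟨Y.card, by rw [mul_comm]; exact B.cardY.symm⟩
    omega
  have h := (Subgroup.normalizer ((S : Subgroup G) : Set G)).card_subgroup_dvd_card
  rw [B.cardN, he, hG, mul_assoc] at h
  exact hodd ((dvd_mul_left 2 (Nat.card V)).trans (Nat.dvd_of_mul_dvd_mul_left (by norm_num) h))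

theorem four_part {G : Type*} [Group G] [Fintype G] [IsSimpleGroup G] [Nontrivial G]
    (hnc : ¬ IsMulCommutative G) (hperf : commutator G = ⊤) {p q a b : ℕ} (hp : p.Prime)
    (hq : q.Prime) (hG : Nat.card G = 4 * p ^ a * q ^ b) :
    Nonempty (G ≃* alternatingGroup (Fin 5)) := by
  by_cases hp2 : p = 2
  · subst hp2
    exact (false_of_two_primes hperf Nat.prime_two hq (a := a + 2) (b := b)
      (by rw [hG, pow_add]; ring)).elim
  by_cases hq2 : q = 2
  · subst hq2
    exact (false_of_two_primes hperf hp Nat.prime_two (a := a) (b := b + 2)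
      (by rw [hG, pow_add]; ring)).elim
  by_cases hp3 : p = 3
  · subst hp3
    by_cases hq3 : q = 3
    · subst hq3
      exact (false_of_two_primes hperf Nat.prime_two Nat.prime_three (a := 2) (b := a + b)
        (by rw [hG, pow_add]; ring)).elim
    exact four_case hperf hq hq2 hq3 hG
  by_cases hq3 : q = 3
  · subst hq3
    exact four_case hperf hp hp2 hp3 (i := b) (j := a) (by rw [hG]; ring)
  exfalso
  have hne : ∀ {r : ℕ}, r.Prime → r ≠ 2 → ∀ n : ℕ, ¬ 2 ∣ r ^ n := fun hr h n h2 =>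
    h ((Nat.prime_dvd_prime_iff_eq Nat.prime_two hr).1 (Nat.prime_two.dvd_of_dvd_pow h2)).symm
  have h8 : ¬ 8 ∣ Nat.card G := by
    intro h
    rw [hG, mul_assoc, show (8 : ℕ) = 4 * 2 from rfl] at h
    rcases Nat.prime_two.dvd_mul.1 (Nat.dvd_of_mul_dvd_mul_left (by norm_num) h) with h | h
    · exact hne hp hp2 a h
    · exact hne hq hq2 b h
  obtain ⟨T⟩ : Nonempty (Sylow 2 G) := inferInstance
  obtain ⟨-, hidx⟩ := Cfsg.Agent.S0992.result hnc
    (even_iff_two_dvd.2 ⟨2 * p ^ a * q ^ b, by rw [hG]; ring⟩) h8 T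
  have h3 : 3 ∣ Nat.card G := hidx ▸ (Subgroup.relIndex_dvd_card _ _).trans
    (Subgroup.card_subgroup_dvd_card _)
  rw [hG] at h3
  have hn3 : ∀ {r : ℕ}, r.Prime → r ≠ 3 → ∀ n : ℕ, ¬ 3 ∣ r ^ n := fun hr h n h2 =>
    h ((Nat.prime_dvd_prime_iff_eq Nat.prime_three hr).1 (Nat.prime_three.dvd_of_dvd_pow h2)).symm
  rcases Nat.prime_three.dvd_mul.1 h3 with h | h
  · rcases Nat.prime_three.dvd_mul.1 h with h | h
    · norm_num at h
    · exact hn3 hp hp3 a h
  · exact hn3 hq hq3 b h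

theorem three_two {G : Type*} [Group G] [Fintype G] [IsSimpleGroup G] [Nontrivial G]
    (hnc : ¬ IsMulCommutative G) (hperf : commutator G = ⊤) {r c d : ℕ} (hr : r.Prime)
    (hr2 : r ≠ 2) (hr3 : r ≠ 3) (hcd : c ≤ 2 ∨ d ≤ 2) (hG : Nat.card G = 3 * 2 ^ c * r ^ d) :
    Nonempty (G ≃* alternatingGroup (Fin 5)) ∨
      Nonempty (G ≃* Matrix.ProjectiveSpecialLinearGroup (Fin 2) (ZMod 7)) := by
  have hodd : ¬ 2 ∣ r ^ d := fun h =>
    hr2 ((Nat.prime_dvd_prime_iff_eq Nat.prime_two hr).1 (Nat.prime_two.dvd_of_dvd_pow h)).symm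
  rcases (show c = 0 ∨ c = 1 ∨ c = 2 ∨ 3 ≤ c by omega) with h | h | h | h
  · exfalso
    subst h
    rw [pow_zero, mul_one] at hG
    exact no_odd hperf hG (fun h => hr3 ((Nat.prime_dvd_prime_iff_eq Nat.prime_three hr).1
      (Nat.prime_three.dvd_of_dvd_pow h)).symm) hodd
  · exfalso
    subst h
    refine card_mod_four hperf ?_
    rw [pow_one] at hG
    have := Nat.odd_iff.1 ((hr.odd_of_ne_two hr2).pow (n := d))
    omega
  · subst h
    exact Or.inl (four_case hperf hr hr2 hr3 (i := 1) (j := d) (by rw [hG]; ring))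
  rcases (show d = 0 ∨ d = 1 ∨ d = 2 by omega) with hd | hd | hd
  · exact (false_of_two_primes hperf Nat.prime_two Nat.prime_three (a := c) (b := 1)
      (by rw [hG, hd]; ring)).elim
  swap
  · exact (three_sq hperf hr hr2 hr3 (c := c) (by rw [hG, hd]; ring)).elim
  subst hd
  have h8 : 8 ∣ Nat.card G :=
    hG ▸ dvd_mul_of_dvd_left (dvd_mul_of_dvd_right ((show (8 : ℕ) = 2 ^ 3 from rfl) ▸
      Nat.pow_dvd_pow 2 h) 3) _
  rcases three_primes hperf hr Nat.prime_two Nat.prime_three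
    (by have := hr.two_le; omega) hr2 (by norm_num) (b := c) (by rw [hG]; ring) with h' | ⟨h7, hlt⟩
  · rw [h'] at h8
    norm_num at h8
  subst h7
  refine Or.inr ?_
  have hcyc : ¬ IsCyclic G := fun h => hnc inferInstance
  rcases Cfsg.Agent.S0999.result hcyc 7 (by norm_num) ⟨3 * 2 ^ c, by rw [hG]; ring⟩
      (hlt.trans_le (by norm_num)) with ⟨F, _, _, hF, -, ⟨e⟩⟩ | ⟨m, F, _, _, -, hm, -, -⟩
  · haveI : Fact (Nat.Prime 7) := ⟨by norm_num⟩
    obtain ⟨e'⟩ := Cfsg.Agent.PSucc.psl_congr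
      (FiniteField.ringEquivOfCardEq (K := F) (K' := ZMod 7) (hF.trans (ZMod.card 7).symm))
    exact ⟨e.trans e'⟩
  · exfalso
    rcases (show m ≤ 2 ∨ 3 ≤ m by omega) with h | h
    · have := Nat.pow_le_pow_right (show 1 ≤ 2 by norm_num) h
      omega
    · have := Nat.pow_le_pow_right (show 1 ≤ 2 by norm_num) h
      omega

/-- Let G be a non-abelian finite simple group and p, q distinct primes. If the order of G is 4·p^a·q^b with a ≤ 2, then G is isomorphic to the alternating group of degree 5. If the order of G is 3·p^a·q^b with a ≤ 2, then G is isomorphic to the alternating group of degree 5 or to PSL(2,7). -/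
theorem result {G : Type*} [Group G] [Finite G] [IsSimpleGroup G] (hna : ∃ x y : G, x * y ≠ y * x) (p q a b : ℕ) (hp : p.Prime) (hq : q.Prime) (hpq : p ≠ q) (ha : a ≤ 2) : (Nat.card G = 4 * p ^ a * q ^ b → Nonempty (G ≃* alternatingGroup (Fin 5))) ∧ (Nat.card G = 3 * p ^ a * q ^ b → Nonempty (G ≃* alternatingGroup (Fin 5)) ∨ Nonempty (G ≃* Matrix.ProjectiveSpecialLinearGroup (Fin 2) (ZMod 7))) := by
  haveI := Fintype.ofFinite G
  haveI : Nontrivial G := IsSimpleGroup.toNontrivial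
  obtain ⟨x, y, hxy⟩ := hna
  have hnc : ¬ IsMulCommutative G := fun h => hxy (h.is_comm.comm x y)
  have hperf : commutator G = ⊤ := by
    rcases (inferInstance : (commutator G).Normal).eq_bot_or_eq_top with h | h
    · exfalso
      rw [commutator_def, Subgroup.commutator_eq_bot_iff_le_centralizer] at h
      exact hxy (Subgroup.mem_centralizer_iff.1 (h (Subgroup.mem_top y)) x (Subgroup.mem_top x))
    · exact h
  refine ⟨four_part hnc hperf hp hq, fun hG => ?_⟩
  by_cases hp3 : p = 3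
  · subst hp3
    exact (false_of_two_primes hperf Nat.prime_three hq (a := a + 1) (b := b)
      (by rw [hG, pow_succ]; ring)).elim
  by_cases hq3 : q = 3
  · subst hq3
    exact (false_of_two_primes hperf hp Nat.prime_three (a := a) (b := b + 1)
      (by rw [hG, pow_succ]; ring)).elim
  by_cases hp2 : p = 2
  · subst hp2
    exact three_two hnc hperf hq hpq.symm hq3 (Or.inl ha) hG
  by_cases hq2 : q = 2
  · subst hq2
    exact three_two hnc hperf hp hp2 hp3 (c := b) (d := a) (Or.inr ha) (by rw [hG]; ring)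
  exfalso
  have hdvd : ∀ {s : ℕ}, s.Prime → s ∣ p ^ a * q ^ b → s = p ∨ s = q := fun hs h => by
    rcases hs.dvd_mul.1 h with h | h
    · exact Or.inl ((Nat.prime_dvd_prime_iff_eq hs hp).1 (hs.dvd_of_dvd_pow h))
    · exact Or.inr ((Nat.prime_dvd_prime_iff_eq hs hq).1 (hs.dvd_of_dvd_pow h))
  exact no_odd hperf (by rw [hG, mul_assoc]) (fun h => (hdvd Nat.prime_three h).elim (Ne.symm hp3) (Ne.symm hq3))
    (fun h => (hdvd Nat.prime_two h).elim (Ne.symm hp2) (Ne.symm hq2))

end Cfsg.Agent.S4501
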