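import Cfsg.Statements.S3615
import Cfsg.Agent.Lib.ItoTwoQ.Main
import Cfsg.Agent.S0678
import Cfsg.Agent.S0679
import Cfsg.Agent.S0253
import Cfsg.Agent.S4501

set_option autoImplicit false
set_option linter.style.haveILetI false
open Cfsg

namespace Cfsg.Agent.S3615

open MulAction
open Cfsg.Agent.PermPrime (burnside sylow_card)

variable {G : Type*} [Group G] [Finite G] {Ω : Type*} [MulAction G Ω] [FaithfulSMul G Ω] [Fintype Ω]

omit [Finite G] [Fintype Ω] in
theorem solvable_of_range (h : Group.IsSolvable (MulAction.toPermHom G Ω).range) : Group.IsSolvable G :=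
  Group.isSolvable_of_isSolvable_injective (f := (MonoidHom.ofInjective (toPerm_injective (α := G) (β := Ω))
    (f := MulAction.toPermHom G Ω)).toMonoidHom) (MulEquiv.injective _)

omit [Finite G] [Fintype Ω] [FaithfulSMul G Ω] in
theorem range_trans [IsPretransitive G Ω] : IsPretransitive (MulAction.toPermHom G Ω).range Ω :=
  ⟨fun a b => by
    obtain ⟨k, hk⟩ := exists_smul_eq G a b
    exact ⟨⟨_, k, rfl⟩, hk⟩⟩

/-- Degree five. -/
theorem five [DecidableEq Ω] [IsPretransitive G Ω] (hΩ : Nat.card Ω = 5) (hins : ¬ Group.IsSolvable G)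
    (P : Sylow 5 G) (hN : Nat.card (Subgroup.normalizer ((P : Subgroup G) : Set G)) = 10) :
    Nonempty (G ≃* Matrix.ProjectiveSpecialLinearGroup (Fin 2) (ZMod 5)) := by
  haveI : Fact (Nat.Prime 5) := ⟨by norm_num⟩
  have hinj : Function.Injective (MulAction.toPermHom G Ω) := toPerm_injective
  let ι := MonoidHom.ofInjective hinj
  have hS : Nat.card (Equiv.Perm Ω) = 120 := by rw [Nat.card_perm, hΩ]; rfl
  have h1 := (Subgroup.normalizer ((P : Subgroup G) : Set G)).card_mul_index
  rw [hN, ← show Nat.card (Sylow 5 G) = (Subgroup.normalizer ((P : Subgroup G) : Set G)).index from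
    Sylow.card_eq_index_normalizer P] at h1
  have h2 : Nat.card G ∣ 120 := by
    rw [Nat.card_congr ι.toEquiv, ← hS]
    exact Subgroup.card_subgroup_dvd_card _
  have h3 := card_sylow_modEq_one 5 G
  rw [← h1] at h2
  have h12 : Nat.card (Sylow 5 G) ∣ 12 := (Nat.mul_dvd_mul_iff_left (by norm_num : 0 < 10)).1 h2
  have hn : Nat.card (Sylow 5 G) = 1 ∨ Nat.card (Sylow 5 G) = 6 := by
    have := Nat.le_of_dvd (by norm_num) h12
    generalize Nat.card (Sylow 5 G) = n at h12 h3 this
    unfold Nat.ModEq at h3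
    interval_cases n <;> simp_all
  rcases hn with hn | hn
  · exfalso
    rw [hn, mul_one] at h1
    haveI : Subsingleton (Sylow 5 G) := (Nat.card_eq_one_iff_unique.1 hn).1
    haveI := Sylow.normal_of_subsingleton P
    have hP : Nat.card (P : Subgroup G) = 5 := sylow_card hΩ P
    have hQ : Nat.card (G ⧸ (P : Subgroup G)) = 2 := by
      have := Subgroup.card_eq_card_quotient_mul_card_subgroup (P : Subgroup G)
      rw [← h1, hP] at this
      omega
    haveI := isCyclic_of_prime_card hP
    haveI : Fact (Nat.Prime 2) := ⟨Nat.prime_two⟩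
    haveI := isCyclic_of_prime_card hQ
    haveI : Group.IsSolvable (P : Subgroup G) := Group.isSolvable_of_comm IsCyclic.commGroup.mul_comm
    haveI : Group.IsSolvable (G ⧸ (P : Subgroup G)) := Group.isSolvable_of_comm IsCyclic.commGroup.mul_comm
    exact hins ((Group.isSolvable_iff_subgroup_quotient (P : Subgroup G)).2 ⟨inferInstance, inferInstance⟩)
  · rw [hn, show 10 * 6 = 60 from rfl] at h1
    have hi : (MulAction.toPermHom G Ω).range.index = 2 := by
      have h := (MulAction.toPermHom G Ω).range.card_mul_index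
      rw [hS, ← Nat.card_congr ι.toEquiv, ← h1] at h
      omega
    obtain ⟨e⟩ := Cfsg.Agent.S0253.result (F := ZMod 5) (ZMod.card 5)
    exact ⟨ι.trans ((MulEquiv.subgroupCongr (Equiv.Perm.eq_alternatingGroup_of_index_eq_two hi)).trans
      ((Equiv.altCongrHom (Finite.equivFinOfCardEq hΩ)).trans e.symm))⟩

/-- Degree seven. -/
theorem seven [DecidableEq Ω] [IsPretransitive G Ω] (hΩ : Nat.card Ω = 7) (hins : ¬ Group.IsSolvable G) :
    IsMultiplyPretransitive G Ω 4 ∨
      Nonempty (G ≃* Matrix.ProjectiveSpecialLinearGroup (Fin 2) (ZMod 7)) := by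
  classical
  rw [Nat.card_eq_fintype_card] at hΩ
  by_cases halt : alternatingGroup Ω ≤ (MulAction.toPermHom G Ω).range
  · exact Or.inl (Cfsg.Agent.ItoTwoQ.four_of_alt (by omega) halt)
  refine Or.inr ?_
  set R := (MulAction.toPermHom G Ω).range with hR
  haveI : IsPretransitive R Ω := range_trans
  obtain ⟨hc, hs⟩ := Cfsg.Agent.S0678.result hΩ R (fun h => hins (solvable_of_range h)) halt
  haveI := hs
  letI := Fintype.ofFinite R
  have hnc : ¬ IsMulCommutative R := fun h => hins (solvable_of_range (Group.isSolvable_of_comm h.is_comm.comm))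
  have hperf : commutator R = ⊤ :=
    (IsSimpleGroup.eq_bot_or_eq_top_of_normal _ (inferInstance : (commutator R).Normal)).resolve_left fun h =>
      hins (solvable_of_range (Group.isSolvable_of_comm fun a b =>
        commutatorElement_eq_one_iff_mul_comm.1 (Subgroup.mem_bot.1 (
          (show ⁅(⊤ : Subgroup R), (⊤ : Subgroup R)⁆ = ⊥ from h) ▸
          Subgroup.commutator_mem_commutator (Subgroup.mem_top a) (Subgroup.mem_top b)))))
  rcases Cfsg.Agent.S4501.three_two hnc hperf (r := 7) (c := 3) (d := 1) (by norm_num) (by norm_num) (by norm_num)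
    (Or.inr (by norm_num)) (by rw [hc]; norm_num) with ⟨⟨e⟩⟩ | ⟨⟨e⟩⟩
  · have := Nat.card_congr e.toEquiv
    rw [hc, nat_card_alternatingGroup, Nat.card_fin] at this
    exact absurd this (by decide)
  · exact ⟨(MonoidHom.ofInjective (f := MulAction.toPermHom G Ω) toPerm_injective).trans e⟩

/-- Degree eleven. -/
theorem eleven [DecidableEq Ω] [IsPretransitive G Ω] (hΩ : Nat.card Ω = 11) (hins : ¬ Group.IsSolvable G) :
    IsMultiplyPretransitive G Ω 4 ∨
      Nonempty (G ≃* Matrix.ProjectiveSpecialLinearGroup (Fin 2) (ZMod 11)) := by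
  classical
  rw [Nat.card_eq_fintype_card] at hΩ
  by_cases halt : alternatingGroup Ω ≤ (MulAction.toPermHom G Ω).range
  · exact Or.inl (Cfsg.Agent.ItoTwoQ.four_of_alt (by omega) halt)
  haveI : IsPretransitive (MulAction.toPermHom G Ω).range Ω := range_trans
  rcases Cfsg.Agent.S0679.result hΩ _ (fun h => hins (solvable_of_range h)) halt with ⟨h4, -⟩ | ⟨⟨e⟩⟩
  · exact Or.inl (Cfsg.Agent.ItoTwoQ.multiple_of_range h4)
  · exact Or.inr ⟨(MonoidHom.ofInjective (f := MulAction.toPermHom G Ω) toPerm_injective).trans e⟩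

/-- Let G be an insoluble group acting faithfully and transitively on a finite set of prime size p, and suppose the normalizer of a Sylow p-subgroup of G has order p(p-1)/2. If p = 2q + 1 with q prime, then G is 4-fold transitive, unless p is 5, 7 or 11 and G is isomorphic to PSL(2, p). -/
theorem result {G Ω : Type*} [Group G] [Finite G] [MulAction G Ω] [FaithfulSMul G Ω] [Finite Ω]
    (p : ℕ) (hp : p.Prime) (hΩ : Nat.card Ω = p) (htrans : MulAction.IsPretransitive G Ω)
    (hins : ¬ Group.IsSolvable G) (P : Sylow p G)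
    (hN : 2 * Nat.card ↥(Subgroup.normalizer ((P : Subgroup G) : Set G)) = p * (p - 1))
    (q : ℕ) (hq : q.Prime) (hpq : p = 2 * q + 1) :
    MulAction.IsMultiplyPretransitive G Ω 4 ∨
    ((p = 5 ∨ p = 7 ∨ p = 11) ∧ Nonempty (G ≃* Matrix.ProjectiveSpecialLinearGroup (Fin 2) (ZMod p))) := by
  classical
  haveI := htrans
  haveI := Fintype.ofFinite Ω
  haveI : Fact p.Prime := ⟨hp⟩
  haveI : Fact q.Prime := ⟨hq⟩
  rcases lt_or_ge q 11 with hlt | hge
  · obtain rfl | rfl | rfl | rfl : q = 2 ∨ q = 3 ∨ q = 5 ∨ q = 7 := by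
      have := hq.two_le
      interval_cases q <;> first | omega | norm_num at hq
    · subst hpq
      exact Or.inr ⟨Or.inl rfl, five hΩ hins P (by omega)⟩
    · subst hpq
      exact (seven hΩ hins).imp id fun h => ⟨Or.inr (Or.inl rfl), h⟩
    · subst hpq
      exact (eleven hΩ hins).imp id fun h => ⟨Or.inr (Or.inr rfl), h⟩
    · subst hpq
      exact absurd hp (by norm_num)
  · exact Or.inl (Cfsg.Agent.ItoTwoQ.large hΩ hins P hN hpq hge)

end Cfsg.Agent.S3615
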