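import Cfsg.Statements.S3619
import Mathlib.GroupTheory.GroupAction.Jordan

set_option autoImplicit false
open Cfsg

namespace Cfsg.Agent.S3619

open MulAction SubMulAction Pointwise

/-- Let G act faithfully on a finite set in such a way that every non-trivial normal subgroup of G is transitive (G is quasiprimitive). Let Γ be a subset with more than one point and not the whole set, such that the pointwise stabilizer of the complement of Γ acts transitively on Γ (a Jordan set). If that pointwise stabilizer acts primitively on Γ, then G is k-fold transitive where k is one more than the number of points outside Γ (the Jordan set is a trivial one). -/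
theorem result {G Ω : Type*} [Group G] [Finite G] [MulAction G Ω] [FaithfulSMul G Ω] [Finite Ω]
    (hqp : ∀ N : Subgroup G, N.Normal → N ≠ ⊥ → MulAction.IsPretransitive ↥N Ω)
    (Γ : Set Ω) (hΓ1 : 1 < Γ.ncard) (hΓ2 : Γ.ncard < Nat.card Ω)
    (hJ : MulAction.IsPretransitive ↥(fixingSubgroup G Γᶜ) ↥(SubMulAction.ofFixingSubgroup G Γᶜ))
    (hJp : MulAction.IsPreprimitive ↥(fixingSubgroup G Γᶜ) ↥(SubMulAction.ofFixingSubgroup G Γᶜ)) :
    MulAction.IsMultiplyPretransitive G Ω (Nat.card Ω - Γ.ncard + 1) := by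
  have hΓn : Γ.Nonempty := Set.nonempty_of_ncard_ne_zero (by omega)
  obtain ⟨x, hx⟩ := hΓn
  set J := fixingSubgroup G Γᶜ with hJdef
  have hmemΓ : ∀ z, z ∈ SubMulAction.ofFixingSubgroup G Γᶜ ↔ z ∈ Γ := fun z => by
    rw [mem_ofFixingSubgroup_iff, Set.mem_compl_iff, not_not]
  have hfixJ : ∀ j ∈ J, ∀ z : Ω, z ∉ Γ → j • z = z := fun j hj z hz =>
    (mem_fixingSubgroup_iff G).1 hj z hz
  have hJt : ∀ y ∈ Γ, ∀ z ∈ Γ, ∃ j ∈ J, j • y = z := fun y hy z hz => by
    obtain ⟨j, hj⟩ := exists_smul_eq J (⟨y, (hmemΓ y).2 hy⟩ : ofFixingSubgroup G Γᶜ)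
      ⟨z, (hmemΓ z).2 hz⟩
    exact ⟨j, j.2, congrArg Subtype.val hj⟩
  have hJne : J ≠ ⊥ := fun h => by
    obtain ⟨y, hy, z, hz, hyz⟩ := (Set.one_lt_ncard (Set.toFinite Γ)).1 hΓ1
    obtain ⟨j, hj, hjy⟩ := hJt y hy z hz
    rw [h, Subgroup.mem_bot] at hj
    rw [hj, one_smul] at hjy
    exact hyz hjy
  have htr : IsPretransitive G Ω := by
    have hne : (⊤ : Subgroup G) ≠ ⊥ := fun h => hJne (eq_bot_iff.2 (h ▸ le_top))
    have := hqp ⊤ inferInstance hne
    exact ⟨fun a b => by obtain ⟨g, hg⟩ := exists_smul_eq (⊤ : Subgroup G) a b; exact ⟨g, hg⟩⟩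
  have hprim : IsPreprimitive G Ω := by
    refine ⟨fun {B} hB => ?_⟩
    by_contra hBn
    have hBs : ¬ B.Subsingleton := fun h => hBn (Or.inl h)
    have hBu : B ≠ Set.univ := fun h => hBn (Or.inr h)
    rw [Set.not_subsingleton_iff] at hBs
    obtain ⟨b, hb⟩ := hBs.nonempty
    obtain ⟨g, hg⟩ := exists_smul_eq G b x
    -- the translate through `x`
    set C := g • B with hCdef
    have hC : IsBlock G C := hB.translate g
    have hxC : x ∈ C := hg ▸ Set.smul_mem_smul_set hb
    have hCs : C.Nontrivial := hBs.image (MulAction.injective g)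
    have hΓC : Γ ⊆ C := by
      by_cases hout : ∃ y ∈ C, y ∉ Γ
      · obtain ⟨y, hyC, hyΓ⟩ := hout
        intro z hz
        obtain ⟨j, hj, rfl⟩ := hJt x hx z hz
        have : j • C = C := hC.smul_eq_of_mem hyC (by rwa [hfixJ j hj y hyΓ])
        exact this ▸ Set.smul_mem_smul_set hxC
      · push Not at hout
        have hblock : IsBlock J ((↑) ⁻¹' C : Set (ofFixingSubgroup G Γᶜ)) :=
          (hC.subgroup).subtype_val_preimage
        rcases hJp.isTrivialBlock_of_isBlock hblock with h | h
        · exfalso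
          obtain ⟨u, hu, v, hv, huv⟩ := hCs
          exact huv (congrArg Subtype.val
            (h (x := ⟨u, (hmemΓ u).2 (hout u hu)⟩) hu (y := ⟨v, (hmemΓ v).2 (hout v hv)⟩) hv))
        · intro z hz
          have : (⟨z, (hmemΓ z).2 hz⟩ : ofFixingSubgroup G Γᶜ) ∈ ((↑) ⁻¹' C : Set (ofFixingSubgroup G Γᶜ)) := by
            rw [h]; trivial
          exact this
    have hJN : J ≤ (stabilizer G C).normalCore := by
      intro j hj k
      show (k * j * k⁻¹) • C = C
      rw [mul_smul, mul_smul, smul_eq_iff_eq_inv_smul]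
      -- `j` fixes the translate `k⁻¹ • C`
      set C' := k⁻¹ • C with hC'
      have hblk : IsBlock G C' := hC.translate _
      by_cases hin : ∃ y ∈ C', y ∉ Γ
      · obtain ⟨y, hy, hyΓ⟩ := hin
        exact hblk.smul_eq_of_mem hy (by rwa [hfixJ j hj y hyΓ])
      · push Not at hin
        have hxC' : k⁻¹ • x ∈ C' := Set.smul_mem_smul_set hxC
        have : C' = C := by
          have h1 : k⁻¹ • x ∈ C := hΓC (hin _ hxC')
          exact hC.smul_eq_of_mem (g := k⁻¹) hxC h1
        have hCΓ : C = Γ := Set.Subset.antisymm (fun z hz => hin z (this ▸ hz)) hΓC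
        rw [this]
        exact hC.smul_eq_of_mem (g := j) hxC (by
          by_contra hn
          rw [hCΓ] at hn
          have h2 := hfixJ j hj _ hn
          have h3 : j • x = x := (smul_left_cancel_iff j).1 h2
          exact hn (by rw [h3]; exact hx))
    have hN := hqp (stabilizer G C).normalCore inferInstance (fun h => hJne (eq_bot_iff.2 (h ▸ hJN)))
    apply hBu
    have hCu : C = Set.univ := Set.eq_univ_of_forall fun z => by
      obtain ⟨n, hn⟩ := exists_smul_eq (stabilizer G C).normalCore x z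
      have hnC : (n : G) • C = C := Subgroup.normalCore_le _ n.2
      have hn' : (n : G) • x = z := hn
      rw [← hn']
      exact (Set.ext_iff.1 hnC _).1 (Set.smul_mem_smul_set hxC)
    rw [hCdef, smul_eq_iff_eq_inv_smul, Set.smul_set_univ] at hCu
    exact hCu
  have hcompl : Γᶜ.ncard = (Nat.card Ω - Γ.ncard - 1) + 1 := by
    rw [Set.ncard_compl]
    omega
  have := hprim.isMultiplyPreprimitive hcompl (by omega) hJp
  rw [show Nat.card Ω - Γ.ncard + 1 = Nat.card Ω - Γ.ncard - 1 + 2 by omega]
  exact this.isMultiplyPretransitive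

end Cfsg.Agent.S3619
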