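import Cfsg.Statements.S3626
import Cfsg.Agent.Lib.Lie.Ree12
import Cfsg.Agent.Lib.Isospectral.ReeSub

set_option autoImplicit false
open Cfsg

namespace Cfsg.Agent.S3626

/-- Combinatorial core: `W` a group with the element orders of four of the six maximal kinds of `R`. -/
lemma cube_range {R W : Type*} [Group R] [Group W] {C D : ℕ} (P : ℕ → Prop)
    (hR : ∀ d, (∃ g : R, orderOf g = d) ↔ (P d ∨ d ∣ C ∨ d ∣ D))
    (hW : ∀ d, (∃ w : W, orderOf w = d) ↔ P d) :
    Set.range (orderOf : (R × R × W) → ℕ) = Set.range (orderOf : (R × R × R) → ℕ) := by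
  have hW1 : P 1 := (hW 1).1 ⟨1, orderOf_one⟩
  have mk : ∀ x y z, (∃ a : R, orderOf a = x) → (∃ b : R, orderOf b = y) → P z →
      Nat.lcm x (Nat.lcm y z) ∈ Set.range (orderOf : (R × R × W) → ℕ) := by
    rintro x y z ⟨a, rfl⟩ ⟨b, rfl⟩ hz
    obtain ⟨c, rfl⟩ := (hW z).2 hz
    exact ⟨(a, b, c), by rw [Prod.orderOf, Prod.orderOf]⟩
  refine Set.Subset.antisymm ?_ ?_
  · rintro _ ⟨⟨a, b, w⟩, rfl⟩
    obtain ⟨c, hc⟩ := (hR (orderOf w)).2 (Or.inl ((hW _).1 ⟨w, rfl⟩))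
    exact ⟨(a, b, c), by simp [Prod.orderOf, hc]⟩
  · rintro _ ⟨⟨a, b, c⟩, rfl⟩
    rw [Prod.orderOf, Prod.orderOf]
    simp only
    set x := orderOf a with hx
    set y := orderOf b with hy
    set z := orderOf c with hz
    have hxR : ∃ g : R, orderOf g = x := ⟨a, rfl⟩
    have hyR : ∃ g : R, orderOf g = y := ⟨b, rfl⟩
    have hzR : ∃ g : R, orderOf g = z := ⟨c, rfl⟩
    rcases (hR z).1 hzR with pz | pz
    · exact mk x y z hxR hyR pz
    rcases (hR y).1 hyR with py | py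
    · rw [Nat.lcm_comm y z]
      exact mk x z y hxR hzR py
    rcases (hR x).1 hxR with px | px
    · rw [Nat.lcm_comm x, Nat.lcm_assoc]
      exact mk y z x hyR hzR px
    -- two of the three divide the same one of `C`, `D`
    have two : ∀ u v w : ℕ, (u ∣ C ∧ v ∣ C ∨ u ∣ D ∧ v ∣ D) → (∃ g : R, orderOf g = w) →
        Nat.lcm (Nat.lcm u v) w ∈ Set.range (orderOf : (R × R × W) → ℕ) := by
      intro u v w h hw
      have huv : ∃ g : R, orderOf g = Nat.lcm u v := by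
        refine (hR _).2 (Or.inr ?_)
        rcases h with ⟨h1, h2⟩ | ⟨h1, h2⟩
        · exact Or.inl (Nat.lcm_dvd h1 h2)
        · exact Or.inr (Nat.lcm_dvd h1 h2)
      have := mk _ _ 1 huv hw hW1
      rwa [Nat.lcm_one_right] at this
    rcases px with px | px <;> rcases py with py | py <;> rcases pz with pz | pz
    all_goals
      first
        | (rw [← Nat.lcm_assoc]; exact two x y z (by first | exact Or.inl ⟨px, py⟩ | exact Or.inr ⟨px, py⟩) hzR)
        | (rw [Nat.lcm_comm x]; exact two y z x (by first | exact Or.inl ⟨py, pz⟩ | exact Or.inr ⟨py, pz⟩) hxR)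
        | (rw [Nat.lcm_comm y z, ← Nat.lcm_assoc]; exact two x z y (by first | exact Or.inl ⟨px, pz⟩ | exact Or.inr ⟨px, pz⟩) hyR)

/-- Let R be the small Ree group over the field with q = 3^(2m+1) ≥ 27 elements. Then there are finite groups of arbitrarily large order with exactly the same set of element orders as R × R × R. -/
theorem result {K : Type*} [Field K] [Fintype K] {m : ℕ} (hm : 1 ≤ m) (hK : Fintype.card K = 3 ^ (2 * m + 1)) (N : ℕ) :
    ∃ (H : Type) (_ : Group H) (_ : Fintype H), N < Fintype.card H ∧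
      Set.range (orderOf : H → ℕ) = Set.range (orderOf : ↥(Cfsg.Lie.twistedG2 K (3 ^ m)) × ↥(Cfsg.Lie.twistedG2 K (3 ^ m)) × ↥(Cfsg.Lie.twistedG2 K (3 ^ m)) → ℕ) := by
  haveI : Fact (Nat.Prime 3) := ⟨Nat.prime_three⟩
  haveI : CharP K 3 := charP_of_card_eq_prime_pow (f := 2 * m + 1) hK
  let R := ↥(Cfsg.Lie.twistedG2 K (3 ^ m))
  let W := ReeSub.Z K (N + 1)
  have hR : ∀ d, (∃ g : R, orderOf g = d) ↔
      ((d ∣ 6 ∨ d ∣ 9 ∨ d ∣ 3 ^ (2 * m + 1) - 1 ∨ d ∣ (3 ^ (2 * m + 1) + 1) / 2) ∨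
        d ∣ 3 ^ (2 * m + 1) - 3 ^ (m + 1) + 1 ∨ d ∣ 3 ^ (2 * m + 1) + 3 ^ (m + 1) + 1) := by
    intro d
    exact (Chev.Ree.orders hK hm d).trans (by tauto)
  have hW : ∀ d, (∃ w : W, orderOf w = d) ↔
      (d ∣ 6 ∨ d ∣ 9 ∨ d ∣ 3 ^ (2 * m + 1) - 1 ∨ d ∣ (3 ^ (2 * m + 1) + 1) / 2) :=
    fun d => ReeSub.spectrum hK ⟨m, rfl⟩ (Nat.succ_pos N) d
  have key := cube_range _ hR hW
  haveI : Finite W := inferInstance
  haveI : Finite R := inferInstance
  haveI : Small.{0} (R × R × W) := Countable.toSmall _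
  haveI : Finite (Shrink.{0} (R × R × W)) := Finite.of_equiv _ (equivShrink (R × R × W))
  refine ⟨Shrink.{0} (R × R × W), inferInstance, Fintype.ofFinite _, ?_, ?_⟩
  · rw [← @Nat.card_eq_fintype_card _ (Fintype.ofFinite _), Nat.card_congr (equivShrink (R × R × W)).symm,
      Nat.card_prod, Nat.card_prod]
    have h1 : 2 ^ (N + 1) ≤ Nat.card W := ReeSub.card_big (N + 1)
    have h2 : Nat.card W ≤ Nat.card R * (Nat.card R * Nat.card W) :=
      (Nat.le_mul_of_pos_left _ Nat.card_pos).trans (Nat.le_mul_of_pos_left _ Nat.card_pos)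
    have h3 : N + 1 < 2 ^ (N + 1) := Nat.lt_two_pow_self
    omega
  · rw [← key]
    let φ : Shrink.{0} (R × R × W) ≃* (R × R × W) := Shrink.mulEquiv
    have : (orderOf : Shrink.{0} (R × R × W) → ℕ) = orderOf ∘ φ :=
      funext fun x => (MulEquiv.orderOf_eq φ x).symm
    rw [this, φ.surjective.range_comp]

end Cfsg.Agent.S3626
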