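import Cfsg.Statements.S3627
import Cfsg.Agent.Lib.Recog.AffineExt
import Cfsg.Agent.Lib.J1.Basic
import Mathlib.FieldTheory.Finite.GaloisField
import Mathlib.GroupTheory.OrderOfElement
import Mathlib.RingTheory.IntegralDomain
import Mathlib.FieldTheory.Finite.Basic

set_option autoImplicit false
open Cfsg

namespace Cfsg.Agent.S3627

open Cfsg.Agent

theorem lcm_four : ∀ a ∈ J1Cert.exps, ∀ b ∈ J1Cert.exps, ∀ c ∈ J1Cert.exps, ∀ d ∈ J1Cert.exps,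
    Nat.lcm a (Nat.lcm b (Nat.lcm c d)) ∣ 43890 ∧ Nat.lcm a (Nat.lcm b (Nat.lcm c d)) ≠ 43890 := by
  decide +kernel

/-- The divisors of 43890 = 2·3·5·7·11·19. -/
def divList : List ℕ :=
  ([1, 2].product ([1, 3].product ([1, 5].product ([1, 7].product ([1, 11].product [1, 19]))))).map
    fun t => t.1 * (t.2.1 * (t.2.2.1 * (t.2.2.2.1 * (t.2.2.2.2.1 * t.2.2.2.2.2))))

theorem mem_divList {n : ℕ} (h : n ∣ 43890) : n ∈ divList := by
  rw [show (43890 : ℕ) = 2 * (3 * (5 * (7 * (11 * 19)))) by norm_num] at h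
  obtain ⟨a, n₁, ha, h₁, rfl⟩ := Nat.dvd_mul.mp h
  obtain ⟨b, n₂, hb, h₂, rfl⟩ := Nat.dvd_mul.mp h₁
  obtain ⟨c, n₃, hc, h₃, rfl⟩ := Nat.dvd_mul.mp h₂
  obtain ⟨d, n₄, hd, h₄, rfl⟩ := Nat.dvd_mul.mp h₃
  obtain ⟨e, f, he, hf, rfl⟩ := Nat.dvd_mul.mp h₄
  rw [Nat.dvd_prime (by norm_num)] at ha hb hc hd he hf
  rcases ha with rfl | rfl <;> rcases hb with rfl | rfl <;> rcases hc with rfl | rfl <;>
    rcases hd with rfl | rfl <;> rcases he with rfl | rfl <;> rcases hf with rfl | rfl <;>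
    decide +kernel

theorem divisors_four : ∀ n ∈ divList, n ≠ 43890 →
    ∃ a ∈ J1Cert.exps, ∃ b ∈ J1Cert.exps, ∃ c ∈ J1Cert.exps, ∃ d ∈ J1Cert.exps,
      Nat.lcm (Nat.gcd n a) (Nat.lcm (Nat.gcd n b) (Nat.lcm (Nat.gcd n c) (Nat.gcd n d))) = n := by
  decide +kernel

theorem lcm_five : ∀ a ∈ [1, 2, 3], ∀ b ∈ [1, 2, 5], ∀ c ∈ [1, 2, 7], ∀ d ∈ [1, 2, 11], ∀ e ∈ [1, 2, 19],
    Nat.lcm a (Nat.lcm b (Nat.lcm c (Nat.lcm d e))) ∣ 43890 ∧
      Nat.lcm a (Nat.lcm b (Nat.lcm c (Nat.lcm d e))) ≠ 43890 := by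
  decide +kernel

theorem divisors_five : ∀ n ∈ divList, n ≠ 43890 →
    ∃ a ∈ [1, 2, 3], ∃ b ∈ [1, 2, 5], ∃ c ∈ [1, 2, 7], ∃ d ∈ [1, 2, 11], ∃ e ∈ [1, 2, 19],
      Nat.lcm a (Nat.lcm b (Nat.lcm c (Nat.lcm d e))) = n := by
  decide +kernel

theorem range_J1_four :
    Set.range (orderOf : Spor.J1 × Spor.J1 × Spor.J1 × Spor.J1 → ℕ) = {n | n ∣ 43890 ∧ n ≠ 43890} := by
  ext n
  constructor
  · rintro ⟨⟨x, y, z, w⟩, rfl⟩
    obtain ⟨a, ha, hxa⟩ := J1.orderOf_dvd_exps x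
    obtain ⟨b, hb, hyb⟩ := J1.orderOf_dvd_exps y
    obtain ⟨c, hc, hzc⟩ := J1.orderOf_dvd_exps z
    obtain ⟨d, hd, hwd⟩ := J1.orderOf_dvd_exps w
    obtain ⟨h1, h2⟩ := lcm_four a ha b hb c hc d hd
    have hdvd : orderOf (x, y, z, w) ∣ Nat.lcm a (Nat.lcm b (Nat.lcm c d)) := by
      rw [Prod.orderOf_mk, Prod.orderOf_mk, Prod.orderOf_mk]
      exact lcm_dvd_lcm hxa (lcm_dvd_lcm hyb (lcm_dvd_lcm hzc hwd))
    exact ⟨hdvd.trans h1, fun e => h2 (Nat.dvd_antisymm h1 (e ▸ hdvd))⟩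
  · rintro ⟨hn, hne⟩
    obtain ⟨a, ha, b, hb, c, hc, d, hd, h⟩ := divisors_four n
      (mem_divList hn) hne
    obtain ⟨x, hx⟩ := J1.exists_orderOf ⟨a, ha, Nat.gcd_dvd_right n a⟩
    obtain ⟨y, hy⟩ := J1.exists_orderOf ⟨b, hb, Nat.gcd_dvd_right n b⟩
    obtain ⟨z, hz⟩ := J1.exists_orderOf ⟨c, hc, Nat.gcd_dvd_right n c⟩
    obtain ⟨w, hw⟩ := J1.exists_orderOf ⟨d, hd, Nat.gcd_dvd_right n d⟩
    refine ⟨(x, y, z, w), ?_⟩
    rw [Prod.orderOf_mk, Prod.orderOf_mk, Prod.orderOf_mk, hx, hy, hz, hw, h]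

theorem exists_frob (N r : ℕ) [Fact r.Prime] (hr : r ≠ 2) :
    ∃ (G : Type) (_ : Group G) (_ : Finite G), N < Nat.card G ∧
      Set.range (orderOf : G → ℕ) = {n | n ∈ [1, 2, r]} := by
  have hrp : r.Prime := Fact.out
  have hpos : (r - 1) * (N + 1) ≠ 0 := by
    have := hrp.two_le
    exact Nat.mul_ne_zero (by omega) (by omega)
  let K := GaloisField 2 ((r - 1) * (N + 1))
  have hcard : Nat.card K = 2 ^ ((r - 1) * (N + 1)) := GaloisField.card 2 _ hpos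
  classical
  have : Fintype K := Fintype.ofFinite K
  have hdvd : r ∣ Fintype.card Kˣ := by
    rw [Fintype.card_units, ← Nat.card_eq_fintype_card, hcard]
    refine (Nat.modEq_iff_dvd' (Nat.one_le_two_pow)).mp ?_
    refine (ZMod.natCast_eq_natCast_iff _ _ _).mp ?_
    push_cast
    have h2 : (2 : ZMod r) ≠ 0 := fun e => hr ((Nat.prime_dvd_prime_iff_eq hrp Nat.prime_two).mp
      ((ZMod.natCast_eq_zero_iff 2 r).mp (by exact_mod_cast e)))
    rw [pow_mul, ZMod.pow_card_sub_one_eq_one h2, one_pow]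
  obtain ⟨u, hu⟩ := exists_prime_orderOf_dvd_card r hdvd
  refine ⟨AffineExt.Frob u, inferInstance, AffineExt.frob_finite u, ?_, ?_⟩
  · have := AffineExt.frob_finite u
    refine lt_of_lt_of_le (b := Nat.card (Multiplicative K)) ?_ ?_
    · rw [Nat.card_congr Multiplicative.toAdd, hcard]
      refine lt_of_lt_of_le Nat.lt_two_pow_self (Nat.pow_le_pow_right two_pos ?_)
      have := hrp.two_le
      exact le_trans N.le_succ (Nat.le_mul_of_pos_left _ (by omega))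
    · rw [AffineExt.natCard_ext]
      exact Nat.le_mul_of_pos_right _ Nat.card_pos
  · rw [AffineExt.frob_range 2 u, hu]
    ext n
    simp only [Set.mem_setOf_eq, List.mem_cons, List.not_mem_nil, or_false,
      Nat.dvd_prime Nat.prime_two, Nat.dvd_prime hrp]
    tauto

/-- Let J be the first Janko group. Then there are finite groups of arbitrarily large order with exactly the same set of element orders as J × J × J × J. -/
theorem result (N : ℕ) : ∃ (H : Type) (_ : Group H) (_ : Fintype H), N < Fintype.card H ∧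
      Set.range (orderOf : H → ℕ) = Set.range (orderOf : ↥Cfsg.Spor.J1 × ↥Cfsg.Spor.J1 × ↥Cfsg.Spor.J1 × ↥Cfsg.Spor.J1 → ℕ) := by
  have : Fact (Nat.Prime 3) := ⟨by norm_num⟩
  have : Fact (Nat.Prime 5) := ⟨by norm_num⟩
  have : Fact (Nat.Prime 7) := ⟨by norm_num⟩
  have : Fact (Nat.Prime 11) := ⟨by norm_num⟩
  have : Fact (Nat.Prime 19) := ⟨by norm_num⟩
  obtain ⟨A, _, _, hA, rA⟩ := exists_frob N 3 (by norm_num)
  obtain ⟨B, _, _, -, rB⟩ := exists_frob N 5 (by norm_num)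
  obtain ⟨C, _, _, -, rC⟩ := exists_frob N 7 (by norm_num)
  obtain ⟨D, _, _, -, rD⟩ := exists_frob N 11 (by norm_num)
  obtain ⟨E, _, _, -, rE⟩ := exists_frob N 19 (by norm_num)
  letI : Fintype (A × B × C × D × E) := Fintype.ofFinite _
  refine ⟨A × B × C × D × E, inferInstance, inferInstance, ?_, ?_⟩
  · rw [← Nat.card_eq_fintype_card, Nat.card_prod]
    exact lt_of_lt_of_le hA (Nat.le_mul_of_pos_right _ Nat.card_pos)
  · rw [range_J1_four]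
    ext n
    constructor
    · rintro ⟨⟨a, b, c, d, e⟩, rfl⟩
      simp only [Prod.orderOf_mk, Set.mem_setOf_eq]
      exact lcm_five _ (rA ▸ Set.mem_range_self a : orderOf a ∈ {n | n ∈ [1, 2, 3]})
        _ (rB ▸ Set.mem_range_self b : orderOf b ∈ {n | n ∈ [1, 2, 5]})
        _ (rC ▸ Set.mem_range_self c : orderOf c ∈ {n | n ∈ [1, 2, 7]})
        _ (rD ▸ Set.mem_range_self d : orderOf d ∈ {n | n ∈ [1, 2, 11]})
        _ (rE ▸ Set.mem_range_self e : orderOf e ∈ {n | n ∈ [1, 2, 19]})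
    · rintro ⟨hn, hne⟩
      obtain ⟨a, ha, b, hb, c, hc, d, hd, e, he, h⟩ := divisors_five n
        (mem_divList hn) hne
      obtain ⟨x, hx⟩ : a ∈ Set.range (orderOf : A → ℕ) := rA ▸ ha
      obtain ⟨y, hy⟩ : b ∈ Set.range (orderOf : B → ℕ) := rB ▸ hb
      obtain ⟨z, hz⟩ : c ∈ Set.range (orderOf : C → ℕ) := rC ▸ hc
      obtain ⟨w, hw⟩ : d ∈ Set.range (orderOf : D → ℕ) := rD ▸ hd
      obtain ⟨v, hv⟩ : e ∈ Set.range (orderOf : E → ℕ) := rE ▸ he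
      exact ⟨(x, y, z, w, v), by simp only [Prod.orderOf_mk, hx, hy, hz, hw, hv, h]⟩

end Cfsg.Agent.S3627
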