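import Cfsg.Statements.S3639
import Cfsg.Agent.Lib.Recog.AffineExt
import Cfsg.Agent.Lib.Suzuki.Minor
import Cfsg.Agent.Lib.Suzuki.Structure
import Mathlib.GroupTheory.Perm.Cycle.Type
import Mathlib.FieldTheory.Finite.Basic

set_option autoImplicit false
open Cfsg

namespace Cfsg.Agent.S3639

open Cfsg.Agent Matrix

variable {F : Type*} [Field F]

/-- The natural action of matrices on tuples of column vectors. -/
def powAct (L : Subgroup (GL (Fin 4) F)) (k : ℕ) :
    L →* MulAut (Multiplicative (Fin k → Fin 4 → F)) where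
  toFun g :=
    { toFun := fun w => Multiplicative.ofAdd
        fun i => ((g : GL (Fin 4) F) : Matrix (Fin 4) (Fin 4) F) *ᵥ w.toAdd i
      invFun := fun w => Multiplicative.ofAdd
        fun i => (((g : GL (Fin 4) F)⁻¹ : GL (Fin 4) F) : Matrix (Fin 4) (Fin 4) F) *ᵥ w.toAdd i
      left_inv := fun w => Multiplicative.toAdd.injective <| funext fun i => by
        simp only [toAdd_ofAdd]
        rw [Matrix.mulVec_mulVec, ← Units.val_mul, inv_mul_cancel, Units.val_one, Matrix.one_mulVec]
      right_inv := fun w => Multiplicative.toAdd.injective <| funext fun i => by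
        simp only [toAdd_ofAdd]
        rw [Matrix.mulVec_mulVec, ← Units.val_mul, mul_inv_cancel, Units.val_one, Matrix.one_mulVec]
      map_mul' := fun v w => Multiplicative.toAdd.injective <| funext fun i => by
        simp only [toAdd_ofAdd, toAdd_mul, Pi.add_apply, Matrix.mulVec_add] }
  map_one' := MulEquiv.ext fun w => Multiplicative.toAdd.injective <| funext fun i => by
    simp
  map_mul' a b := MulEquiv.ext fun w => Multiplicative.toAdd.injective <| funext fun i => by
    simp

variable [Fintype F] {m : ℕ}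

/-- Fixed vectors of a matrix of prime order `r`, counted modulo `r`. -/
theorem exists_pow_modEq {r : ℕ} [Fact r.Prime] (M : GL (Fin 4) F) (hM : M ^ r = 1) (hne : M ≠ 1)
    {v : Fin 4 → F} (hv : v ≠ 0) (hfix : (M : Matrix (Fin 4) (Fin 4) F) *ᵥ v = v) :
    ∃ c, 1 ≤ c ∧ c ≤ 3 ∧ (Fintype.card F ^ c : ℕ) ≡ Fintype.card F ^ 4 [MOD r] := by
  classical
  let C : Submodule F (Fin 4 → F) :=
    LinearMap.ker ((M : Matrix (Fin 4) (Fin 4) F).mulVecLin - LinearMap.id)
  have hC : ∀ x, x ∈ C ↔ (M : Matrix (Fin 4) (Fin 4) F) *ᵥ x = x := fun x => by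
    simp [C, LinearMap.mem_ker, sub_eq_zero]
  let ρ : GL (Fin 4) F →* Equiv.Perm (Fin 4 → F) :=
    { toFun := fun g =>
        { toFun := fun x => (g : Matrix (Fin 4) (Fin 4) F) *ᵥ x
          invFun := fun x => ((g⁻¹ : GL (Fin 4) F) : Matrix (Fin 4) (Fin 4) F) *ᵥ x
          left_inv := fun x => by
            dsimp only
            rw [Matrix.mulVec_mulVec, ← Units.val_mul, inv_mul_cancel, Units.val_one, Matrix.one_mulVec]
          right_inv := fun x => by
            dsimp only
            rw [Matrix.mulVec_mulVec, ← Units.val_mul, mul_inv_cancel, Units.val_one, Matrix.one_mulVec] }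
      map_one' := Equiv.ext fun x => by simp
      map_mul' := fun a b => Equiv.ext fun x => by simp }
  have hσ : (ρ M) ^ (r ^ 1) = 1 := by rw [pow_one, ← map_pow, hM, map_one]
  have h1 := Equiv.Perm.card_compl_support_modEq hσ
  have h2 : (ρ M).supportᶜ.card = Nat.card C := by
    rw [← Nat.card_eq_finsetCard]
    refine Nat.card_congr (Equiv.subtypeEquivRight fun x => ?_)
    rw [Finset.mem_compl, Equiv.Perm.notMem_support, hC]
    rfl
  rw [h2, Nat.card_eq_fintype_card, Module.card_eq_pow_finrank (K := F) (V := C),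
    Fintype.card_fun, Fintype.card_fin] at h1
  refine ⟨Module.finrank F C, ?_, ?_, h1⟩
  · rcases Nat.eq_zero_or_pos (Module.finrank F C) with h0 | h0
    · exact absurd ((Submodule.finrank_eq_zero.mp h0) ▸ (hC v).mpr hfix : v ∈ (⊥ : Submodule F (Fin 4 → F)))
        (by simpa using hv)
    · exact h0
  · have hle := Submodule.finrank_le C
    rw [Module.finrank_fin_fun] at hle
    by_contra hlt
    have htop : C = ⊤ := Submodule.eq_top_of_finrank_eq (by rw [Module.finrank_fin_fun]; omega)
    apply hne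
    apply Units.ext
    refine Matrix.ext_of_mulVec_single fun i => ?_
    rw [Units.val_one, Matrix.one_mulVec]
    exact (hC _).mp (htop ▸ Submodule.mem_top)

theorem prime_dvd_cases {r : ℕ} (hr : r.Prime) (hr2 : r ≠ 2) (q : ℕ) (i : ℕ) (hq : q = 2 ^ i)
    (hd : r ∣ q ^ 2 * (q ^ 2 + 1) * (q - 1)) : r ∣ q ^ 2 + 1 ∨ r ∣ q - 1 := by
  rcases hr.dvd_mul.mp hd with h | h
  · rcases hr.dvd_mul.mp h with h | h
    · subst hq
      exact absurd ((Nat.prime_dvd_prime_iff_eq hr Nat.prime_two).mp
        (hr.dvd_of_dvd_pow (hr.dvd_of_dvd_pow h))) hr2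
    · exact Or.inl h
  · exact Or.inr h

theorem no_fixed_vector (h : Suzuki.SzField F m) (x : Cfsg.Sz F m) (hr : (orderOf x).Prime)
    (hr2 : orderOf x ≠ 2) (v : Fin 4 → F)
    (hfix : (x : Matrix.SpecialLinearGroup (Fin 4) F).1 *ᵥ v = v) : v = 0 := by
  by_contra hv
  have : Fact (orderOf x).Prime := ⟨hr⟩
  have hd : orderOf x ∣ Nat.card (Cfsg.Sz F m) := orderOf_dvd_natCard x
  rw [Suzuki.card_Sz h] at hd
  rcases prime_dvd_cases hr hr2 _ _ rfl hd with hc | hc
  · -- the order divides `q² + 1`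
    have hx1 : x ≠ 1 := fun e => hr.ne_one (by rw [e, orderOf_one])
    obtain ⟨c, hc1, hc3, hmod⟩ := exists_pow_modEq (r := orderOf x) (Suzuki.toMinorHom x)
      (by rw [← map_pow, pow_orderOf_eq_one, map_one])
      (fun e => hx1 (Suzuki.toMinorHom_injective (e.trans (map_one _).symm))) hv
      (by rw [Suzuki.toMinorHom_coe]; exact hfix)
    rw [h.card, ← ZMod.natCast_eq_natCast_iff] at hmod
    set r := orderOf x with hrdef
    have hc' : ((2 : ZMod r) ^ (2 * m + 1)) ^ 2 + 1 = 0 := by
      have := (ZMod.natCast_eq_zero_iff _ _).mpr hc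
      push_cast at this
      exact this
    push_cast at hmod
    set Q : ZMod r := 2 ^ (2 * m + 1)
    have h2 : (2 : ZMod r) ≠ 0 := fun e => hr2 ((Nat.prime_dvd_prime_iff_eq hr Nat.prime_two).mp
      ((ZMod.natCast_eq_zero_iff 2 r).mp (by exact_mod_cast e)))
    have h4 : Q ^ 4 = 1 := by linear_combination (Q ^ 2 - 1) * hc'
    rw [h4] at hmod
    interval_cases c
    · rw [pow_one] at hmod
      exact h2 (by linear_combination hc' - (Q + 1) * hmod)
    · exact h2 (by linear_combination hc' - hmod)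
    · have hQ : Q = -1 := by linear_combination Q * hc' - hmod
      exact h2 (by linear_combination hc' - (Q - 1) * hQ)
  · -- the order divides `q - 1`, so the element lies in a conjugate of the torus
    have hidx : ¬ orderOf x ∣ (Suzuki.torus h).index := by
      intro hdvd
      have hmul := (Suzuki.torus h).card_mul_index
      rw [Suzuki.card_torus h, Suzuki.card_Sz h,
        mul_comm ((2 ^ (2 * m + 1)) ^ 2 * ((2 ^ (2 * m + 1)) ^ 2 + 1)) _] at hmul
      have hpos : 0 < 2 ^ (2 * m + 1) - 1 := by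
        have := h.eight_le_card
        rw [h.card] at this
        omega
      rw [Nat.eq_of_mul_eq_mul_left hpos hmul] at hdvd
      have hcast : ((2 : ZMod (orderOf x)) ^ (2 * m + 1)) = 1 := by
        have := (ZMod.natCast_eq_natCast_iff _ _ _).mpr
          ((Nat.modEq_iff_dvd' Nat.one_le_two_pow).mpr hc)
        push_cast at this
        exact this.symm
      rcases hr.dvd_mul.mp hdvd with hd' | hd'
      · have := (ZMod.natCast_eq_zero_iff _ _).mpr hd'
        push_cast at this
        rw [hcast, one_pow] at this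
        exact one_ne_zero this
      · have := (ZMod.natCast_eq_zero_iff _ _).mpr hd'
        push_cast at this
        rw [hcast, one_pow, one_add_one_eq_two] at this
        exact hr2 ((Nat.prime_dvd_prime_iff_eq hr Nat.prime_two).mp
          ((ZMod.natCast_eq_zero_iff 2 _).mp (by exact_mod_cast this)))
    obtain ⟨Q⟩ : Nonempty (Sylow (orderOf x) (Suzuki.torus h)) := inferInstance
    let S : Sylow (orderOf x) (Cfsg.Sz F m) :=
      (Q.isPGroup'.map (Suzuki.torus h).subtype).toSylow (by
        rw [Subgroup.index_map_subtype]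
        exact fun e => (hr.dvd_mul.mp e).elim Q.not_dvd_index hidx)
    have hxP : IsPGroup (orderOf x) (Subgroup.zpowers x) :=
      IsPGroup.of_card (n := 1) (by rw [Nat.card_zpowers, pow_one])
    obtain ⟨P, hP⟩ := hxP.exists_le_sylow
    obtain ⟨g, hg⟩ := MulAction.exists_smul_eq (Cfsg.Sz F m) S P
    have hxmem : x ∈ ((g • S : Sylow (orderOf x) (Cfsg.Sz F m)) : Subgroup (Cfsg.Sz F m)) :=
      hg ▸ hP (Subgroup.mem_zpowers x)
    obtain ⟨y, hy, hyx⟩ := hxmem
    obtain ⟨z, -, rfl⟩ : y ∈ (Q : Subgroup (Suzuki.torus h)).map (Suzuki.torus h).subtype := hy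
    obtain ⟨k, hk⟩ := (Suzuki.mem_torus h).mp z.2
    have hyx' : g * Suzuki.H h k * g⁻¹ = x := by rw [← hk]; exact hyx
    have hk1 : k ≠ 1 := by
      intro e
      rw [e, Suzuki.H_one, mul_one, mul_inv_cancel] at hyx'
      exact hr.ne_one (by rw [← hyx', orderOf_one])
    set w := ((g⁻¹ : Cfsg.Sz F m) : Matrix.SpecialLinearGroup (Fin 4) F).1 *ᵥ v with hwdef
    have hw : (Suzuki.hEl m k : Matrix.SpecialLinearGroup (Fin 4) F).1 *ᵥ w = w := by
      have e : Suzuki.H h k * g⁻¹ = g⁻¹ * x := by rw [← hyx']; group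
      have e' := congrArg (fun a : Cfsg.Sz F m => (a : Matrix.SpecialLinearGroup (Fin 4) F).1) e
      simp only [Subgroup.coe_mul, Matrix.SpecialLinearGroup.coe_mul] at e'
      show (Suzuki.H h k : Matrix.SpecialLinearGroup (Fin 4) F).1 *ᵥ w = w
      rw [hwdef, Matrix.mulVec_mulVec, e', ← Matrix.mulVec_mulVec, hfix]
    have hw0 : w ≠ 0 := Suzuki.mulVec_ne_zero _ hv
    obtain ⟨i, hi⟩ := Function.ne_iff.mp hw0
    rw [Suzuki.hEl_coe] at hw
    have hwi := congrFun hw i
    have hθk : Suzuki.hθ m (k : F) ≠ 1 := fun e => hk1 <| Units.ext <| by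
      rw [← h.θ_hθ (k : F), e, Suzuki.θ_one, Units.val_one]
    have hθkk : Suzuki.hθ m (k : F) * k ≠ 1 := fun e => hk1 <| Units.ext <| by
      have e1 := congrArg (Suzuki.θ m) e
      rw [Suzuki.θ_mul, h.θ_hθ, Suzuki.θ_one, mul_comm] at e1
      refine h.θ_mul_self_injective k.ne_zero one_ne_zero ?_
      rw [Units.val_one, Suzuki.θ_one, mul_one, e1]
    rw [Pi.zero_apply] at hi
    have key : ∀ d : F, d * w i = w i → d = 1 := fun d hd =>
      mul_right_cancel₀ hi (hd.trans (one_mul _).symm)
    simp only [Matrix.mulVec, dotProduct, Fin.sum_univ_four] at hwi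
    fin_cases i
    · exact hθkk (key _ (by simpa using hwi))
    · exact hθk (key _ (by simpa using hwi))
    · exact hθk (inv_eq_one.mp (key _ (by simpa using hwi)))
    · refine hθkk (inv_eq_one.mp ?_)
      rw [_root_.mul_inv_rev]
      exact key _ (by simpa using hwi)

/-- Let S be the Suzuki group over the field with q = 2^(2m+1) ≥ 8 elements. Then there are finite groups of arbitrarily large order with the same prime graph as S. -/
theorem result {F : Type*} [Field F] [Fintype F] {m : ℕ} (hm : 1 ≤ m) (hF : Fintype.card F = 2 ^ (2 * m + 1)) (N : ℕ) :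
    ∃ (H : Type) (_ : Group H) (_ : Fintype H), N < Fintype.card H ∧ ((∀ r : ℕ, r.Prime → (r ∣ Nat.card ↥(Cfsg.Lie.Sz F (2 ^ (m + 1))) ↔ r ∣ Nat.card H)) ∧
      (∀ r s : ℕ, r.Prime → s.Prime → r ≠ s → ((∃ x : ↥(Cfsg.Lie.Sz F (2 ^ (m + 1))), orderOf x = r * s) ↔ (∃ y : H, orderOf y = r * s)))) := by
  have h : Suzuki.SzField F m := ⟨hm, hF⟩
  have := h.charP
  have : Finite (GL (Fin 4) F) := inferInstance
  set L := Cfsg.Lie.Sz F (2 ^ (m + 1)) with hL
  set W := Multiplicative (Fin (N + 1) → Fin 4 → F)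
  have hW : ∀ w : W, w ^ 2 = 1 := fun w => Multiplicative.toAdd.injective <| by
    rw [toAdd_pow, toAdd_one, two_nsmul]
    funext i j
    exact h.add_self _
  have h2 : 2 ∣ Nat.card L := by
    rw [← Nat.card_congr (Suzuki.minorEquiv h).toEquiv, Suzuki.card_Sz h]
    exact ((dvd_pow (dvd_pow_self 2 (by omega)) two_ne_zero).mul_right _).mul_right _
  have hfpf : ∀ l : L, (orderOf l).Prime → orderOf l ≠ 2 →
      ∀ w : W, powAct L (N + 1) l w = w → w = 1 := by
    intro l hl hl2 w hw
    apply Multiplicative.toAdd.injective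
    funext i
    rw [toAdd_one, Pi.zero_apply]
    have hx : orderOf ((Suzuki.minorEquiv h).symm l) = orderOf l := MulEquiv.orderOf_eq _ _
    refine no_fixed_vector h ((Suzuki.minorEquiv h).symm l) (hx ▸ hl) (hx ▸ hl2) _ ?_
    rw [← Suzuki.minorEquiv_coe h, MulEquiv.apply_symm_apply]
    exact congrFun (congrArg Multiplicative.toAdd hw) i
  obtain ⟨h₁, h₂⟩ := AffineExt.primeGraph_eq (φ := powAct L (N + 1)) 2 Nat.prime_two hW h2 hfpf
  have := AffineExt.finite_ext (powAct L (N + 1))
  obtain ⟨H, _, _, ⟨e⟩⟩ := AffineExt.exists_small_copy (W ⋊[powAct L (N + 1)] L)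
  refine ⟨H, inferInstance, inferInstance, ?_, fun r hr => ?_, fun r s hr hs hrs => ?_⟩
  · rw [← Nat.card_eq_fintype_card, Nat.card_congr e.toEquiv, AffineExt.natCard_ext]
    refine lt_of_lt_of_le ?_ (Nat.le_mul_of_pos_right _ Nat.card_pos)
    rw [Nat.card_congr Multiplicative.toAdd, Nat.card_fun, Nat.card_eq_fintype_card,
      Fintype.card_fun, Fintype.card_fin, Nat.card_eq_fintype_card, Fintype.card_fin]
    refine lt_of_lt_of_le (Nat.lt_two_pow_self) ((Nat.pow_le_pow_right two_pos N.le_succ).trans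
      (Nat.pow_le_pow_left ?_ _))
    exact (le_trans (by norm_num) h.eight_le_card).trans (Nat.le_self_pow (by norm_num) _)
  · rw [Nat.card_congr e.toEquiv]; exact h₁ r hr
  · exact (h₂ r s hr hs hrs).trans (AffineExt.exists_orderOf_congr e.symm _)

end Cfsg.Agent.S3639
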