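import Cfsg.Statements.S3643
import Cfsg.Agent.S0421
import Cfsg.Agent.S2034
import Cfsg.Agent.S2060
import Cfsg.Agent.Lib.M12Graph.Edges
import Cfsg.Agent.Lib.M12Graph.Orders
import Cfsg.Agent.Lib.M12Graph.Degrees
import Cfsg.Agent.Lib.M11Uniq.Std
import Cfsg.Agent.Lib.Golay.Mathieu

set_option autoImplicit false
set_option linter.style.haveILetI false
open Cfsg

namespace Cfsg.Agent.S3643

open Cfsg.Agent Cfsg.Agent.M12Graph

/-- A perfect central extension of a group with trivial multiplier is trivial. -/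
theorem ker_eq_bot {L : Type*} [Group L] [Finite L] {M : Type} [Group M]
    (hM : Cfsg.HasCyclicSchurMultiplier M 1) (f : L →* M) (hf : Function.Surjective f)
    (hc : f.ker ≤ Subgroup.center L) (hp : commutator L = ⊤) : f.ker = ⊥ := by
  let m : Shrink.{0} L ≃* L := Shrink.mulEquiv
  have hp' : commutator (Shrink.{0} L) = ⊤ := by
    rw [eq_top_iff]
    intro x _
    have h : m x ∈ (commutator (Shrink.{0} L)).map m.toMonoidHom := by
      rw [commutator_def, Subgroup.map_commutator,
        Subgroup.map_top_of_surjective m.toMonoidHom m.surjective, ← commutator_def, hp]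
      exact Subgroup.mem_top _
    obtain ⟨y, hy, hyx⟩ := h
    rwa [m.injective hyx] at hy
  obtain ⟨π, hπ⟩ := hM.2 (Shrink.{0} L) (f.comp m.toMonoidHom) ⟨hf.comp m.surjective, fun x hx => by
    rw [Subgroup.mem_center_iff]
    intro y
    refine m.injective ?_
    rw [map_mul, map_mul]
    exact Subgroup.mem_center_iff.1 (hc hx) (m y), hp' ▸ le_top⟩
  haveI : Subsingleton (f.comp m.toMonoidHom).ker := hπ.subsingleton
  rw [Subgroup.eq_bot_iff_forall]
  intro l hl
  have h1 : m.symm l ∈ (f.comp m.toMonoidHom).ker := by simpa using hl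
  have h2 := congrArg Subtype.val
    (Subsingleton.elim (⟨_, h1⟩ : (f.comp m.toMonoidHom).ker) 1)
  simpa using congrArg m h2

/-- Every automorphism is inner. -/
theorem inner {L M : Type*} [Group L] [Group M] [Finite M] (hM : Nat.card (Cfsg.Out M) = 1)
    (e : L ≃* M) (φ : L ≃* L) : ∃ a : L, ∀ x, φ x = a * x * a⁻¹ := by
  haveI := (Nat.card_eq_one_iff_unique.1 hM).1
  obtain ⟨b, hb⟩ := (QuotientGroup.eq_one_iff (((e.symm.trans φ).trans e : MulAut M))).1
    (Subsingleton.elim _ (1 : Cfsg.Out M))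
  refine ⟨e.symm b, fun x => ?_⟩
  have h : b * e x * b⁻¹ = e (φ (e.symm (e x))) := DFunLike.congr_fun hb (e x)
  rw [MulEquiv.symm_apply_apply] at h
  apply e.injective
  rw [map_mul, map_mul, map_inv, MulEquiv.apply_symm_apply, h]

/-- The case of a normal subgroup covering the simple group of order 7920. -/
theorem case_7920 {G : Type*} [Group G] [Finite G] (hG : Nat.card G = 95040) (D : Deg G)
    (h : Nat.card (gen11 G ⧸ Subgroup.center (gen11 G)) = 7920) :
    Nonempty (G ≃* alternatingGroup (Fin 4) × ↥Cfsg.Spor.M11) := by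
  classical
  haveI : Fintype G := Fintype.ofFinite G
  haveI : Fintype ↥Cfsg.Spor.M11 := Fintype.ofFinite _
  haveI hMs : IsSimpleGroup ↥Cfsg.Spor.M11 := by
    rw [Golay.sporM11_eq]
    exact Golay.isSimpleGroup_M11
  haveI := simple_quotient hG D
  haveI : Fintype (gen11 G ⧸ Subgroup.center (gen11 G)) := Fintype.ofFinite _
  obtain ⟨e₁⟩ := M11Uniq.nonempty_mulEquiv_std (G := gen11 G ⧸ Subgroup.center (gen11 G)) h
  obtain ⟨e₂⟩ := M11Uniq.nonempty_mulEquiv_std (G := ↥Cfsg.Spor.M11) Golay.card_sporM11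
  let σ : gen11 G →* ↥Cfsg.Spor.M11 :=
    (e₁.trans e₂.symm).toMonoidHom.comp (QuotientGroup.mk' (Subgroup.center (gen11 G)))
  have hσ : Function.Surjective σ :=
    (e₁.trans e₂.symm).surjective.comp (QuotientGroup.mk'_surjective _)
  have hker : σ.ker = Subgroup.center (gen11 G) := by
    ext x
    simp [σ, MonoidHom.mem_ker, QuotientGroup.eq_one_iff]
  have hbot := ker_eq_bot S2034.result σ hσ hker.le (perfect hG D)
  have hZ : Subgroup.center (gen11 G) = ⊥ := hker.symm.trans hbot
  let e : gen11 G ≃* ↥Cfsg.Spor.M11 :=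
    MulEquiv.ofBijective σ ⟨(MonoidHom.ker_eq_bot_iff σ).1 hbot, hσ⟩
  haveI : IsSimpleGroup (gen11 G) := MulEquiv.isSimpleGroup e
  have hLc : Nat.card (gen11 G) = 7920 :=
    (Nat.card_congr e.toEquiv).trans Golay.card_sporM11
  haveI := gen11_normal (G := G)
  set C := Subgroup.centralizer ((gen11 G : Subgroup G) : Set G) with hC
  have hcomm : ∀ (c : C) (l : gen11 G), Commute (c : G) (l : G) := fun c l =>
    (Subgroup.mem_centralizer_iff.1 c.2 l l.2).symm
  let f : C × gen11 G →* G := MonoidHom.noncommCoprod C.subtype (gen11 G).subtype hcomm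
  have hinj : Function.Injective f := by
    rw [injective_iff_map_eq_one]
    rintro ⟨c, l⟩ hcl
    have hcl' : (c : G) * l = 1 := hcl
    have hl : l ∈ Subgroup.center (gen11 G) := Subgroup.mem_center_iff.2 fun g => Subtype.ext (by
      have hl' : (l : G) = (c : G)⁻¹ := (eq_inv_of_mul_eq_one_right hcl')
      show (g : G) * l = l * g
      rw [hl']
      exact ((hcomm c g).symm.inv_right).eq)
    rw [hZ, Subgroup.mem_bot] at hl
    subst hl
    rw [OneMemClass.coe_one, mul_one] at hcl'
    exact Prod.ext (Subtype.ext hcl') rfl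
  have hsurj : Function.Surjective f := by
    intro g
    obtain ⟨a, ha⟩ := inner S2060.result e (MulAut.conjNormal g)
    have hmem : g * (a : G)⁻¹ ∈ C := by
      rw [hC, Subgroup.mem_centralizer_iff]
      intro x hx
      have h1 := congrArg Subtype.val (ha ((⟨a, a.2⟩ : gen11 G)⁻¹ * ⟨x, hx⟩ * a))
      rw [MulAut.conjNormal_apply] at h1
      simp only [Subgroup.coe_mul, InvMemClass.coe_inv] at h1
      have h2 : g * (a : G)⁻¹ * x * (a : G) * g⁻¹ = x := by
        refine (Eq.trans (by group) h1).trans (by group)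
      calc x * (g * (a : G)⁻¹) = g * (a : G)⁻¹ * x * (a : G) * g⁻¹ * (g * (a : G)⁻¹) := by rw [h2]
        _ = g * (a : G)⁻¹ * x := by group
    exact ⟨(⟨_, hmem⟩, a), show g * (a : G)⁻¹ * a = g by group⟩
  let F : C × gen11 G ≃* G := MulEquiv.ofBijective f ⟨hinj, hsurj⟩
  have hCc : Nat.card C = 12 := by
    have h1 := Nat.card_congr F.toEquiv
    rw [Nat.card_prod, hLc, hG] at h1
    omega
  obtain ⟨eC⟩ := complement_alt4 hLc hCc F D.thirtyThree
  exact ⟨F.symm.trans (MulEquiv.prodCongr eC e)⟩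

/-- The simple case. -/
theorem case_95040 {G : Type*} [Group G] [Finite G] (hG : Nat.card G = 95040) (D : Deg G)
    (h : Nat.card (gen11 G ⧸ Subgroup.center (gen11 G)) = 95040) :
    Nonempty (G ≃* ↥Cfsg.Spor.M12) := by
  haveI := simple_quotient hG D
  haveI hMs : IsSimpleGroup ↥Cfsg.Spor.M12 := by
    rw [Golay.sporM12_eq]
    exact Golay.isSimpleGroup_M12
  obtain ⟨e⟩ := S0421.result (G := gen11 G ⧸ Subgroup.center (gen11 G)) ⟨inferInstance, h⟩ _
    Golay.squareDodecad_mem
  obtain ⟨e'⟩ := S0421.result (G := ↥Cfsg.Spor.M12) ⟨hMs, Golay.card_sporM12⟩ _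
    Golay.squareDodecad_mem
  have hmul := (Subgroup.center (gen11 G)).card_eq_card_quotient_mul_card_subgroup
  have hle : Nat.card (gen11 G) ≤ 95040 :=
    Nat.le_of_dvd (by norm_num) (hG ▸ (gen11 G).card_subgroup_dvd_card)
  rw [h] at hmul
  have hpos : 0 < Nat.card (Subgroup.center (gen11 G)) := Nat.card_pos
  have hL : gen11 G = ⊤ := Subgroup.eq_top_of_card_eq _ (by rw [hG]; nlinarith)
  have hZ : Subgroup.center (gen11 G) = ⊥ := Subgroup.card_eq_one.1 (by nlinarith)
  let q : gen11 G ≃* gen11 G ⧸ Subgroup.center (gen11 G) :=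
    MulEquiv.ofBijective (QuotientGroup.mk' _)
      ⟨(MonoidHom.ker_eq_bot_iff _).1 (by rw [QuotientGroup.ker_mk', hZ]),
        QuotientGroup.mk'_surjective _⟩
  exact ⟨((((Subgroup.topEquiv).symm.trans (MulEquiv.subgroupCongr hL.symm)).trans q).trans e).trans
    e'.symm⟩

/-- Let G be a finite group of the same order as the Mathieu group M₁₂ whose character degree graph equals that of M₁₂ (same primes dividing some irreducible complex character degree, same pairs of distinct primes whose product divides some degree). Then G is isomorphic to M₁₂ or to the direct product of the alternating group of degree 4 with M₁₁. -/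
theorem result {G : Type*} [Group G] [Finite G] (hcard : Nat.card G = Nat.card ↥Cfsg.Spor.M12) (hΔ : Cfsg.degreePrimes G = Cfsg.degreePrimes ↥Cfsg.Spor.M12 ∧ Cfsg.degreeGraph G = Cfsg.degreeGraph ↥Cfsg.Spor.M12) :
    Nonempty (G ≃* ↥Cfsg.Spor.M12) ∨ Nonempty (G ≃* alternatingGroup (Fin 4) × ↥Cfsg.Spor.M11) := by
  classical
  haveI : Fintype G := Fintype.ofFinite G
  haveI : Fact (Nat.Prime 11) := ⟨by norm_num⟩
  have hG : Nat.card G = 95040 := hcard.trans Golay.card_sporM12
  obtain ⟨h55, h33⟩ := degrees_of_graph hΔ.2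
  have D : Deg G := ⟨h55, h33⟩
  haveI := simple_quotient hG D
  haveI : Fintype (gen11 G ⧸ Subgroup.center (gen11 G)) := Fintype.ofFinite _
  obtain ⟨h1, h2, h3⟩ := quotient_facts hG D
  rcases order_cases (G := gen11 G ⧸ Subgroup.center (gen11 G)) ⟨h1, h2, h3⟩ with h | h | h
  · exact absurd h (quotient_ne_660 hG D)
  · exact Or.inr (case_7920 hG D h)
  · exact Or.inl (case_95040 hG D h)

end Cfsg.Agent.S3643
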