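import Cfsg.Statements.S3648
import Cfsg.Agent.Lib.Recog.PGL2Nse
-- import your own Cfsg.Agent.* helpers here

set_option autoImplicit false
open Cfsg

namespace Cfsg.Agent.S3648

open Cfsg.Agent Cfsg.Agent.Spectrum.PGL2
open Cfsg.Agent.SameOrder (cnt cnt_one cnt_pos exists_of_cnt_ne_zero)
open Matrix

theorem orderOf_two_iff {F : Type*} [Field F] (h2 : (2 : F) ≠ 0) (g : GL (Fin 2) F) :
    orderOf (g : GL (Fin 2) F ⧸ Subgroup.center (GL (Fin 2) F)) = 2 ↔
      (g : Matrix (Fin 2) (Fin 2) F).trace = 0 := by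
  have hne : (g : Matrix (Fin 2) (Fin 2) F).det ≠ 0 :=
    ((Matrix.isUnit_iff_isUnit_det _).mp g.isUnit).ne_zero
  have hc := cayley (g : Matrix (Fin 2) (Fin 2) F)
  constructor
  · intro h
    have h1 : ((g : GL (Fin 2) F) : PGL F) ^ 2 = 1 := orderOf_dvd_iff_pow_eq_one.1 (dvd_of_eq h)
    rw [← QuotientGroup.mk_pow, mk_eq_one_iff] at h1
    obtain ⟨r, hr⟩ := h1
    rw [Units.val_pow_eq_pow_val, pow_two, hc] at hr
    by_contra ht
    have hg1 : (g : PGL F) = 1 := (mk_eq_one_iff g).2
      ⟨((g : Matrix (Fin 2) (Fin 2) F).trace)⁻¹ * (r + (g : Matrix (Fin 2) (Fin 2) F).det), by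
        rw [sub_eq_iff_eq_add, ← add_smul] at hr
        rw [mul_smul, ← hr, smul_smul, inv_mul_cancel₀ ht, one_smul]⟩
    have hone : orderOf (g : GL (Fin 2) F ⧸ Subgroup.center (GL (Fin 2) F)) = 1 :=
      orderOf_eq_one_iff.2 hg1
    omega
  · intro ht
    refine orderOf_eq_prime ?_ ?_
    · show ((g : GL (Fin 2) F) : PGL F) ^ 2 = 1
      rw [← QuotientGroup.mk_pow, mk_eq_one_iff]
      exact ⟨-(g : Matrix (Fin 2) (Fin 2) F).det, by
        rw [Units.val_pow_eq_pow_val, pow_two, hc, ht, zero_smul, zero_sub, neg_smul]⟩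
    · intro h
      obtain ⟨r, hr⟩ := (mk_eq_one_iff g).1 h
      rw [hr, Matrix.trace_fin_two] at ht
      simp at ht
      have : r = 0 := by
        have h4 : 2 * r = 0 := by linear_combination ht
        exact (mul_eq_zero.1 h4).resolve_left h2
      exact hne (by rw [hr, this, zero_smul, Matrix.det_zero])

theorem card_cone {F : Type*} [Field F] [Fintype F] :
    Nat.card {v : F × F × F // v.1 * v.1 + v.2.1 * v.2.2 = 0} = Fintype.card F * Fintype.card F := by
  classical
  let e : {v : F × F × F // v.1 * v.1 + v.2.1 * v.2.2 = 0} ≃ F × F :=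
    { toFun := fun v => if v.1.2.1 = 0 then (v.1.2.2, 0) else (v.1.1, v.1.2.1)
      invFun := fun w => if h : w.2 = 0 then ⟨(0, 0, w.1), by simp⟩
        else ⟨(w.1, w.2, -(w.1 * w.1) / w.2), by field_simp; ring⟩
      left_inv := by
        rintro ⟨⟨a, b, c⟩, hv⟩
        by_cases hb : b = 0
        · have ha : a = 0 := by simpa [hb] using hv
          simp [hb, ha]
        · simp only [hb, if_false, dite_false]
          refine Subtype.ext (Prod.ext rfl (Prod.ext rfl ?_))
          show -(a * a) / b = c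
          rw [div_eq_iff hb]
          linear_combination -hv
      right_inv := by
        rintro ⟨x, y⟩
        by_cases hy : y = 0
        · simp [hy]
        · simp [hy] }
  rw [Nat.card_congr e, Nat.card_prod, Nat.card_eq_fintype_card]

theorem cnt_two {F : Type*} [Field F] [Fintype F] (hodd : ringChar F ≠ 2) :
    cnt (GL (Fin 2) F ⧸ Subgroup.center (GL (Fin 2) F)) 2 = Fintype.card F * Fintype.card F := by
  classical
  have h2 := two_ne_zero_of_odd hodd
  set q := Fintype.card F with hq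
  have hq1 : 1 < q := Fintype.one_lt_card
  let C := Subgroup.center (GL (Fin 2) F)
  have hgl : Nat.card (GL (Fin 2) F) = (q * (q + 1) * (q - 1)) * (q - 1) := by
    rw [Matrix.card_GL_field, Fin.prod_univ_two, ← hq, Fin.val_zero, Fin.val_one, pow_zero, pow_one]
    obtain ⟨m, hm⟩ : ∃ m, q = m + 1 := ⟨q - 1, by omega⟩
    rw [hm, Nat.add_sub_cancel, show (m + 1) ^ 2 - 1 = m * (m + 2) by
      rw [show (m + 1) ^ 2 = m * (m + 2) + 1 by ring, Nat.add_sub_cancel],
      show (m + 1) ^ 2 - (m + 1) = m * (m + 1) by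
      rw [show (m + 1) ^ 2 = m * (m + 1) + (m + 1) by ring, Nat.add_sub_cancel]]
    ring
  have hpgl : Nat.card (GL (Fin 2) F ⧸ C) = q * (q + 1) * (q - 1) := by
    have := Dickson.card_pgl2 (K := F)
    rw [Nat.card_eq_fintype_card (α := F), ← hq, ← one_pow (M := ℕ) 2, Nat.sq_sub_sq] at this
    rw [show (GL (Fin 2) F ⧸ C) = Matrix.ProjGenLinGroup (Fin 2) F from rfl, this]
    ring
  have hC : Nat.card C = q - 1 := by
    have h1 := Subgroup.card_eq_card_quotient_mul_card_subgroup C
    rw [hgl, hpgl] at h1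
    exact (Nat.eq_of_mul_eq_mul_left (Nat.mul_pos (Nat.mul_pos (by omega) (by omega)) (by omega)) h1).symm
  have hT : Nat.card {g : GL (Fin 2) F // (g : Matrix (Fin 2) (Fin 2) F).trace = 0} =
      q * q * (q - 1) := by
    let e : {g : GL (Fin 2) F // (g : Matrix (Fin 2) (Fin 2) F).trace = 0} ≃
        {v : F × F × F // ¬ v.1 * v.1 + v.2.1 * v.2.2 = 0} :=
      { toFun := fun g => ⟨((g.1 : Matrix (Fin 2) (Fin 2) F) 0 0, (g.1 : Matrix (Fin 2) (Fin 2) F) 0 1,
          (g.1 : Matrix (Fin 2) (Fin 2) F) 1 0), fun h => by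
            refine ((Matrix.isUnit_iff_isUnit_det _).mp g.1.isUnit).ne_zero ?_
            have ht := g.2
            rw [Matrix.trace_fin_two] at ht
            rw [Matrix.det_fin_two]
            linear_combination (g.1 : Matrix (Fin 2) (Fin 2) F) 0 0 * ht - h⟩
        invFun := fun v => ⟨GeneralLinearGroup.mkOfDetNeZero !![v.1.1, v.1.2.1; v.1.2.2, -v.1.1] (by
            rw [Matrix.det_fin_two]; simp
            intro h; exact v.2 (by linear_combination -h)), by
          show Matrix.trace !![v.1.1, v.1.2.1; v.1.2.2, -v.1.1] = 0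
          simp [Matrix.trace_fin_two]⟩
        left_inv := by
          intro g
          refine Subtype.ext (Units.ext ?_)
          have ht := g.2
          rw [Matrix.trace_fin_two] at ht
          show !![_, _; _, _] = (g.1 : Matrix (Fin 2) (Fin 2) F)
          ext i j
          fin_cases i <;> fin_cases j <;> simp
          linear_combination -ht
        right_inv := fun v => rfl }
    rw [Nat.card_congr e]
    have h := Nat.card_congr (Equiv.sumCompl fun v : F × F × F => v.1 * v.1 + v.2.1 * v.2.2 = 0)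
    rw [Nat.card_sum, card_cone, Nat.card_prod, Nat.card_prod, Nat.card_eq_fintype_card (α := F), ← hq] at h
    refine Nat.add_left_cancel (h.trans ?_)
    obtain ⟨m, hm⟩ : ∃ m, q = m + 1 := ⟨q - 1, by omega⟩
    rw [hm, Nat.add_sub_cancel]; ring
  have h := Nat.card_congr (QuotientGroup.preimageMkEquivSubgroupProdSet C
    {x : GL (Fin 2) F ⧸ C | orderOf x = 2})
  rw [Nat.card_prod, hC] at h
  have hpre : Nat.card ↥(QuotientGroup.mk ⁻¹' {x : GL (Fin 2) F ⧸ C | orderOf x = 2}) = q * q * (q - 1) := by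
    rw [← hT]
    exact Nat.card_congr (Equiv.subtypeEquivRight fun g => orderOf_two_iff h2 g)
  rw [hpre] at h
  exact Nat.eq_of_mul_eq_mul_left (show 0 < q - 1 by omega) (h.symm.trans (mul_comm _ _))

/-- For a finite group X let nse(X) be the set of values of the function 'number of elements of order k' over the element orders k that occur. Let F be a finite field of odd order q > 3 and P = PGL(2, F) = GL(2, F) modulo its centre. If G is a finite group with the same order as P and nse(G) = nse(P), then G is isomorphic to P. -/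
theorem result {F : Type*} [Field F] [Fintype F] (hodd : Odd (Fintype.card F)) (h3 : 3 < Fintype.card F)
    {G : Type*} [Group G] [Finite G] (hcard : Nat.card G = Nat.card (GL (Fin 2) F ⧸ Subgroup.center (GL (Fin 2) F)))
    (hnse : {c : ℕ | 0 < c ∧ ∃ n : ℕ, c = Nat.card {g : G // orderOf g = n}} = {c : ℕ | 0 < c ∧ ∃ n : ℕ, c = Nat.card {g : (GL (Fin 2) F ⧸ Subgroup.center (GL (Fin 2) F)) // orderOf g = n}}) :
    Nonempty (G ≃* (GL (Fin 2) F ⧸ Subgroup.center (GL (Fin 2) F))) := by
  classical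
  obtain ⟨p, hchar⟩ := CharP.exists F
  haveI := hchar
  obtain ⟨f, hp, hq⟩ := FiniteField.card F p
  haveI : Fact p.Prime := ⟨hp⟩
  set P := GL (Fin 2) F ⧸ Subgroup.center (GL (Fin 2) F) with hPdef
  set q := Fintype.card F with hqdef
  have hp2 : p ≠ 2 := by
    rintro rfl
    rw [hq] at hodd
    exact absurd hodd (Nat.not_odd_iff_even.2 (even_two.pow_of_ne_zero f.ne_zero))
  have hrc : ringChar F ≠ 2 := by rw [ringChar.eq F p]; exact hp2
  have hpq : p ∣ q := hq ▸ dvd_pow_self p f.ne_zero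
  have hq1 : 1 ≤ q := by omega
  have hPcard : Nat.card P = (q + 1) * q * (q - 1) := by
    have := Dickson.card_pgl2 (K := F)
    rw [Nat.card_eq_fintype_card (α := F), ← hqdef, ← one_pow (M := ℕ) 2, Nat.sq_sub_sq] at this
    rw [show P = Matrix.ProjGenLinGroup (Fin 2) F from rfl, this]
    ring
  have hisoP : SylowTISpec.Iso p P := by
    intro x hx
    rcases orderOf_dvd_cases hrc x with h | h | h
    · rw [ringChar.eq F p] at h
      exact Nat.dvd_antisymm h hx
    · exfalso
      have h2 := Nat.dvd_sub hpq (hx.trans h)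
      rw [← hqdef, Nat.sub_sub_self hq1] at h2
      exact hp.one_lt.ne' (Nat.dvd_one.1 h2)
    · exfalso
      rw [← hqdef] at h
      exact hp.one_lt.ne' (Nat.dvd_one.1 ((Nat.dvd_add_right hpq).1 (hx.trans h)))
  have HP : PSL2Spec.Hyp P p f 1 :=
    { fpos := f.pos
      q3 := hq ▸ h3
      hd := Or.inl rfl
      card := by rw [one_mul, ← hq]; exact hPcard
      iso := hisoP
      ex := fun h => absurd (h.resolve_right fun h2 => absurd h2.1 (by norm_num)) hp2 }
  have hP2 : cnt P 2 = p ^ (f : ℕ) * p ^ (f : ℕ) := by rw [← hq]; exact cnt_two hrc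
  have hmem : ∀ c : ℕ, (0 < c ∧ ∃ n : ℕ, c = Nat.card {g : G // orderOf g = n}) ↔
      (0 < c ∧ ∃ n : ℕ, c = Nat.card {g : P // orderOf g = n}) := fun c => by
    have := Set.ext_iff.1 hnse c
    simpa using this
  obtain ⟨HG, hG2⟩ := PGL2Nse.hyp_of_values (G := G) (p := p) (f := f) hp2 f.pos (hq ▸ h3)
    (by rw [hcard, ← hq]; exact hPcard) (fun g => by
      obtain ⟨hc, n, hn⟩ := (hmem _).1 ⟨cnt_pos (g := g), orderOf g, rfl⟩
      change cnt G (orderOf g) = cnt P n at hn
      rw [hn]
      by_cases h1 : n = 1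
      · exact Or.inl (by rw [h1, cnt_one])
      by_cases h2 : n = p
      · exact Or.inr (Or.inl (by rw [h2, PGL2Nse.cnt_char HP]))
      · exact Or.inr (Or.inr (PGL2Nse.dvd_cnt HP h1 h2)))
    (by
      have hpos : 0 < cnt P 2 := by rw [hP2]; exact Nat.mul_pos (pow_pos hp.pos _) (pow_pos hp.pos _)
      obtain ⟨hc, n, hn⟩ := (hmem (cnt P 2)).2 ⟨hpos, 2, rfl⟩
      change cnt P 2 = cnt G n at hn
      obtain ⟨g, hg⟩ := exists_of_cnt_ne_zero (G := G) (d := n) (by omega)
      exact ⟨g, by rw [hg, ← hn, hP2]⟩)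
  obtain ⟨e⟩ := PGL2Nse.equiv HG hp2 hG2
  obtain ⟨e'⟩ := PGL2Nse.equiv HP hp2 hP2
  exact ⟨e.trans e'.symm⟩

end Cfsg.Agent.S3648
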