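import Cfsg.Statements.S3660
import Cfsg.Agent.Lib.Recog.AffineExt
import Cfsg.Agent.Lib.Recog.SL2Orders

set_option autoImplicit false
open Cfsg

namespace Cfsg.Agent.S3660

open Matrix Cfsg.Agent.AffineExt Cfsg.Agent.SL2Orders

/-- The diagonal action of `SL(2,F)` on `N` copies of the natural module. -/
noncomputable def natAct (F : Type*) [Field F] (N : ℕ) :
    SpecialLinearGroup (Fin 2) F →* MulAut (Multiplicative (Fin N → Fin 2 → F)) where
  toFun l := AddEquiv.toMultiplicative
    (AddEquiv.piCongrRight fun _ : Fin N => (SpecialLinearGroup.toLin' l).toAddEquiv)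
  map_one' := MulEquiv.ext fun w => Multiplicative.toAdd.injective (funext fun i => by
    simp [AddEquiv.piCongrRight])
  map_mul' a b := MulEquiv.ext fun w => Multiplicative.toAdd.injective (funext fun i => by
    simp [AddEquiv.piCongrRight, MulAut.mul_apply])

theorem natAct_apply {F : Type*} [Field F] (N : ℕ) (l : SpecialLinearGroup (Fin 2) F)
    (w : Multiplicative (Fin N → Fin 2 → F)) (i : Fin N) :
    (natAct F N l w).toAdd i = (l : Matrix (Fin 2) (Fin 2) F) *ᵥ (w.toAdd i) := by
  simp [natAct, SpecialLinearGroup.toLin'_apply]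

/-- Prime graph of `N` copies of the natural module extended by `SL(2,F)` in characteristic two. -/
theorem natExt_graph (F : Type*) [Field F] [Fintype F] [CharP F 2] (N : ℕ) :
    (∀ r : ℕ, r.Prime → (r ∣ Nat.card (SpecialLinearGroup (Fin 2) F) ↔
      r ∣ Nat.card (Multiplicative (Fin N → Fin 2 → F) ⋊[natAct F N] SpecialLinearGroup (Fin 2) F))) ∧
    (∀ r s : ℕ, r.Prime → s.Prime → r ≠ s →
      ((∃ g : SpecialLinearGroup (Fin 2) F, orderOf g = r * s) ↔
        ∃ g : Multiplicative (Fin N → Fin 2 → F) ⋊[natAct F N] SpecialLinearGroup (Fin 2) F,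
          orderOf g = r * s)) := by
  classical
  apply primeGraph_eq 2 Nat.prime_two
  · intro w
    apply Multiplicative.toAdd.injective
    funext i j
    simp [pow_two, CharTwo.add_self_eq_zero]
  · obtain ⟨g, hg⟩ := exists_orderOf_char (F := F) 2
    have h2 := orderOf_dvd_natCard g
    rw [hg] at h2
    exact h2.trans (Subgroup.card_quotient_dvd_card _)
  · intro l hl hl2 w hw
    by_contra hne
    obtain ⟨i, hi⟩ : ∃ i, w.toAdd i ≠ 0 := by
      by_contra h
      push Not at h
      exact hne (Multiplicative.toAdd.injective (funext h))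
    have hfix : (l : Matrix (Fin 2) (Fin 2) F) *ᵥ (w.toAdd i) = w.toAdd i := by
      rw [← natAct_apply, hw]
    have := orderOf_dvd_of_pow_eq_one (pow_char_of_fixed 2 l _ hi hfix)
    rcases (Nat.dvd_prime Nat.prime_two).1 this with h | h
    · exact hl.ne_one h
    · exact hl2 h

/-- The prime graph of a finite group has the prime divisors of its order as vertices, two distinct primes p, q being joined when the group has an element of order pq; two groups have the same prime graph when they have the same prime divisors and the same joined pairs. Let F be a finite field of characteristic 2 with at least 4 elements. Then there are finite groups of arbitrarily large order with the same prime graph as PSL(2,F); in particular PSL(2,F) is not determined by its prime graph. -/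
theorem result {F : Type*} [Field F] [Fintype F] [CharP F 2] (hF : 4 ≤ Fintype.card F) (N : ℕ) :
    ∃ (H : Type) (_ : Group H) (_ : Finite H), N < Nat.card H ∧
      ((∀ p : ℕ, p.Prime → (p ∣ Nat.card (Matrix.ProjectiveSpecialLinearGroup (Fin 2) F) ↔ p ∣ Nat.card H)) ∧
      (∀ p q : ℕ, p.Prime → q.Prime → p ≠ q → ((∃ g : (Matrix.ProjectiveSpecialLinearGroup (Fin 2) F), orderOf g = p * q) ↔ (∃ g : H, orderOf g = p * q)))) := by
  classical
  let L := Matrix.SpecialLinearGroup (Fin 2) F
  have e : Matrix.ProjectiveSpecialLinearGroup (Fin 2) F ≃* L :=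
    (QuotientGroup.quotientMulEquivOfEq (center_eq_bot (F := F))).trans QuotientGroup.quotientBot
  have := finite_ext (natAct F N)
  obtain ⟨H, hG, hFin, ⟨f⟩⟩ := exists_small_copy (Multiplicative (Fin N → Fin 2 → F) ⋊[natAct F N] L)
  obtain ⟨h1, h2⟩ := natExt_graph F N
  refine ⟨H, hG, inferInstance, ?_, fun p hp => ?_, fun p q hp hq hpq => ?_⟩
  · rw [Nat.card_congr f.toEquiv, natCard_ext]
    have hW : Nat.card (Multiplicative (Fin N → Fin 2 → F)) = (Fintype.card F ^ 2) ^ N := by
      rw [Nat.card_congr Multiplicative.toAdd, Nat.card_eq_fintype_card]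
      simp
    have hN : N < (Fintype.card F ^ 2) ^ N :=
      Nat.lt_pow_self (by nlinarith [hF])
    rw [hW]
    calc N < (Fintype.card F ^ 2) ^ N := hN
      _ ≤ (Fintype.card F ^ 2) ^ N * Nat.card L := Nat.le_mul_of_pos_right _ Nat.card_pos
  · rw [Nat.card_congr f.toEquiv, Nat.card_congr e.toEquiv]
    exact h1 p hp
  · rw [exists_orderOf_congr e, exists_orderOf_congr f]
    exact h2 p q hp hq hpq

end Cfsg.Agent.S3660
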