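import Cfsg.Statements.S3662
import Cfsg.Agent.Lib.PrimeGraphG2.G24Model
import Cfsg.Agent.Lib.Recog.AffineExt
import Mathlib.FieldTheory.Finite.GaloisField

set_option autoImplicit false
open Cfsg

namespace Cfsg.Agent.S3662

open Cfsg.Lie Cfsg.Agent Matrix SemidirectProduct AffineExt

theorem group_equiv (D : ChevalleyDatum) {F K : Type*} [Field F] [Field K] (f : F ≃+* K) :
    Nonempty (↥(D.group F) ≃* ↥(D.group K)) := by
  have hmap : ∀ (r : Fin D.nroots) (t : F), (D.xMat F r t).map f = D.xMat K r (f t) := by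
    intro r t
    ext a b
    rcases b with b | b <;> rcases a with a | a <;>
      simp only [Matrix.map_apply, ChevalleyDatum.xMat, Matrix.of_apply] <;>
      (repeat' split) <;> simp [map_list_sum, List.map_map, Function.comp_def]
  let φ : GL D.Idx F ≃* GL D.Idx K :=
    Units.mapEquiv (f.mapMatrix : Matrix D.Idx D.Idx F ≃+* _).toMulEquiv
  have hφ : (D.group F).map φ.toMonoidHom = D.group K := by
    refine le_antisymm (Subgroup.map_le_iff_le_comap.2 ((Subgroup.closure_le _).2 ?_))
      ((Subgroup.closure_le _).2 ?_)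
    · rintro x ⟨r, t, hx⟩
      refine Subgroup.subset_closure ⟨r, f t, ?_⟩
      show (x : Matrix D.Idx D.Idx F).map f = _
      rw [hx, hmap]
    · rintro x ⟨r, t, hx⟩
      refine ⟨φ.symm x, Subgroup.subset_closure ⟨r, f.symm t, ?_⟩, φ.apply_symm_apply x⟩
      show (x : Matrix D.Idx D.Idx K).map f.symm = _
      rw [hx, show D.xMat K r t = (D.xMat F r (f.symm t)).map f by
        rw [hmap, RingEquiv.apply_symm_apply]]
      ext a b
      simp
  exact ⟨(φ.subgroupMap (D.group F)).trans (MulEquiv.subgroupCongr hφ)⟩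

section Edges

variable {W L : Type*} [CommGroup W] [Group L] {φ : L →* MulAut W} [Finite W] [Finite L]

/-- As `AffineExt.primeGraph_eq`, but fixed points are allowed along the existing edges at `p`. -/
theorem primeGraph_eq_of_edges (p : ℕ) (hp : p.Prime) (hW : ∀ w : W, w ^ p = 1) (hpL : p ∣ Nat.card L)
    (hfpf : ∀ l : L, (orderOf l).Prime → orderOf l ≠ p →
      (∀ w : W, φ l w = w → w = 1) ∨ ∃ x : L, orderOf x = orderOf l * p) :
    (∀ r : ℕ, r.Prime → (r ∣ Nat.card L ↔ r ∣ Nat.card (W ⋊[φ] L))) ∧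
    (∀ r s : ℕ, r.Prime → s.Prime → r ≠ s →
      ((∃ g : L, orderOf g = r * s) ↔ ∃ g : W ⋊[φ] L, orderOf g = r * s)) := by
  have := finite_ext φ
  refine ⟨fun r hr => ⟨fun h => by rw [natCard_ext]; exact h.mul_left _, fun h => ?_⟩, ?_⟩
  · rw [natCard_ext] at h
    rcases hr.dvd_mul.1 h with h | h
    · have : Fact r.Prime := ⟨hr⟩
      obtain ⟨w, hw⟩ := exists_prime_orderOf_dvd_card' r h
      have := orderOf_dvd_of_pow_eq_one (hW w)
      rw [hw, Nat.prime_dvd_prime_iff_eq hr hp] at this
      rwa [this]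
    · exact h
  intro r s hr hs hrs
  refine ⟨fun ⟨g, hg⟩ => ⟨inr g, by rw [orderOf_injective _ inr_injective, hg]⟩, fun ⟨g, hg⟩ => ?_⟩
  -- the only case to exclude: `g` projects to an element of order `r` (or `s`)
  have main : ∀ a b : ℕ, a.Prime → b.Prime → a ≠ b → orderOf g = a * b →
      g.right ^ a = 1 → ∃ x : L, orderOf x = a * b := by
    intro a b ha hb hab ho h1
    have hcop : Nat.Coprime a b := (Nat.coprime_primes ha hb).2 hab
    have hb' : (g ^ a) = inl (g ^ a).left := eq_inl_of_right_eq_one _ (by rw [right_pow, h1])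
    have hoa : orderOf (g ^ a) = b := by
      rw [orderOf_pow, ho, Nat.gcd_mul_right_left, Nat.mul_div_cancel_left _ ha.pos]
    have hne : (g ^ a).left ≠ 1 := fun h0 => by
      rw [hb', h0, map_one, orderOf_one] at hoa
      exact hb.ne_one hoa.symm
    have hbp : b = p := by
      have hpow : (g ^ a) ^ p = 1 := by rw [hb', ← map_pow, hW, map_one]
      have := orderOf_dvd_of_pow_eq_one hpow
      rwa [hoa, Nat.prime_dvd_prime_iff_eq hb hp] at this
    have hor : orderOf g.right = a := by
      rcases (Nat.dvd_prime ha).1 (orderOf_dvd_of_pow_eq_one h1) with h | h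
      · rw [orderOf_eq_one_iff] at h
        have hg' := eq_inl_of_right_eq_one g h
        have hpow : g ^ p = 1 := by rw [hg', ← map_pow, hW, map_one]
        have := orderOf_dvd_of_pow_eq_one hpow
        rw [ho, hbp] at this
        have h2 := Nat.le_of_dvd hp.pos this
        have h3 := ha.two_le
        have h4 := hp.pos
        have h5 : 1 * p < a * p := Nat.mul_lt_mul_of_pos_right (by omega) h4
        omega
      · exact h
    rcases hfpf g.right (hor.symm ▸ ha) (by rw [hor]; exact hbp ▸ hab) with hf | ⟨x, hx⟩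
    · exact absurd (hf _ (fixed_of_commute g _ (by rw [← hb']; exact (Commute.refl g).pow_right a))) hne
    · exact ⟨x, by rw [hx, hor, hbp]⟩
  have hd := orderOf_map_dvd (rightHom : W ⋊[φ] L →* L) g
  rw [hg, rightHom_eq_right] at hd
  obtain ⟨d₁, d₂, hd₁, hd₂, hd'⟩ := Nat.dvd_mul.1 hd
  rcases (Nat.dvd_prime hr).1 hd₁ with rfl | rfl
  · rw [one_mul] at hd'
    subst hd'
    obtain ⟨x, hx⟩ := main s r hs hr (Ne.symm hrs) (by rw [hg, mul_comm]) (orderOf_dvd_iff_pow_eq_one.1 hd₂)
    exact ⟨x, by rw [hx, mul_comm]⟩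
  · rcases (Nat.dvd_prime hs).1 hd₂ with rfl | rfl
    · rw [mul_one] at hd'
      exact main _ s hr hs hrs hg (orderOf_dvd_iff_pow_eq_one.1 (dvd_of_eq hd'.symm))
    · exact ⟨g.right, hd'.symm⟩

end Edges

open G24

/-- A six by six invertible matrix acting on tuples of vectors. -/
def actU (k : ℕ) : M6ˣ →* MulAut (Multiplicative (Fin k → Fin 6 → F4)) where
  toFun u :=
    { toFun := fun w => Multiplicative.ofAdd fun i => (u : M6) *ᵥ w.toAdd i
      invFun := fun w => Multiplicative.ofAdd fun i => ((u⁻¹ : M6ˣ) : M6) *ᵥ w.toAdd i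
      left_inv := fun w => Multiplicative.toAdd.injective <| funext fun i => by
        simp [Matrix.mulVec_mulVec]
      right_inv := fun w => Multiplicative.toAdd.injective <| funext fun i => by
        simp [Matrix.mulVec_mulVec]
      map_mul' := fun v w => Multiplicative.toAdd.injective <| funext fun i => by
        simp [Matrix.mulVec_add] }
  map_one' := MulEquiv.ext fun w => Multiplicative.toAdd.injective <| funext fun i => by simp
  map_mul' a b := MulEquiv.ext fun w => Multiplicative.toAdd.injective <| funext fun i => by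
    simp [Matrix.mulVec_mulVec]

theorem fpf_of_sylow (ψ : G4 →* M6ˣ) (q : ℕ) (hq : q.Prime) (hq2 : ¬ q * q ∣ 251596800)
    {x : G4} (hx : orderOf x = q) (hxf : ∀ v : Fin 6 → F4, (ψ x : M6) *ᵥ v = v → v = 0)
    {l : G4} (hl : orderOf l = q) (v : Fin 6 → F4) (hv : (ψ l : M6) *ᵥ v = v) : v = 0 := by
  haveI : Fact q.Prime := ⟨hq⟩
  have key : ∀ y : G4, orderOf y = q → ∃ P : Sylow q G4, (P : Subgroup G4) = Subgroup.zpowers y := by
    intro y hy
    refine ⟨(IsPGroup.of_card (p := q) (n := 1) (G := Subgroup.zpowers y)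
      (by rw [Nat.card_zpowers, hy, pow_one])).toSylow ?_, rfl⟩
    intro hd
    have h1 := (Subgroup.zpowers y).card_mul_index
    rw [Nat.card_zpowers, hy, card_G4] at h1
    exact hq2 (h1 ▸ mul_dvd_mul_left q hd)
  obtain ⟨P, hP⟩ := key l hl
  obtain ⟨Q, hQ⟩ := key x hx
  obtain ⟨n, hn⟩ := MulAction.exists_smul_eq G4 P Q
  have hxm : x ∈ ((n • P : Sylow q G4) : Subgroup G4) := by
    rw [hn, hQ]; exact Subgroup.mem_zpowers x
  obtain ⟨y, hy, hyx⟩ := hxm
  rw [SetLike.mem_coe, hP, ← mem_powers_iff_mem_zpowers, Submonoid.mem_powers_iff] at hy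
  obtain ⟨j, rfl⟩ := hy
  have hpow : ∀ i : ℕ, (ψ (l ^ i) : M6) *ᵥ v = v := fun i => by
    induction i with
    | zero => simp
    | succ i ih => rw [pow_succ, map_mul, Units.val_mul, ← Matrix.mulVec_mulVec, hv, ih]
  have e : x * n = n * l ^ j := by
    have e0 : n * l ^ j * n⁻¹ = x := hyx
    rw [← e0, inv_mul_cancel_right]
  have hfix : (ψ x : M6) *ᵥ ((ψ n : M6) *ᵥ v) = (ψ n : M6) *ᵥ v := by
    rw [Matrix.mulVec_mulVec, ← Units.val_mul, ← map_mul, e, map_mul, Units.val_mul,
      ← Matrix.mulVec_mulVec, hpow j]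
  have h0 := congrArg (fun u => ((ψ n⁻¹ : M6ˣ) : M6) *ᵥ u) (hxf _ hfix)
  simpa [Matrix.mulVec_mulVec, ← Units.val_mul, ← map_mul] using h0

/-- The prime graph of a finite group has the prime divisors of its order as vertices, two distinct primes p, q being joined when the group has an element of order pq; two groups have the same prime graph when they have the same prime divisors and the same joined pairs. Let F be the field with 4 elements and L the Chevalley group of type G₂ over F. There are finite groups of arbitrarily large order with the same prime graph as L. -/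
theorem result {F : Type*} [Field F] [Fintype F] (hF : Fintype.card F = 4) (N : ℕ) :
    ∃ (H : Type) (_ : Group H) (_ : Finite H), N < Nat.card H ∧
      ((∀ p : ℕ, p.Prime → (p ∣ Nat.card ↥(Cfsg.Lie.chevG2.group F) ↔ p ∣ Nat.card H)) ∧
      (∀ p q : ℕ, p.Prime → q.Prime → p ≠ q → ((∃ g : ↥(Cfsg.Lie.chevG2.group F), orderOf g = p * q) ↔ (∃ g : H, orderOf g = p * q)))) := by
  classical
  obtain ⟨iso⟩ := group_equiv chevG2
    (FiniteField.ringEquivOfCardEq (K := F) (K' := G24.F4) (by rw [hF, F4.card]))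
  obtain ⟨ψ, ⟨x6, h6⟩, ⟨x10, h10⟩, ⟨x7, h7, f7⟩, ⟨x13, h13, f13⟩⟩ := exists_rep
  haveI : Finite G4 := inferInstance
  let W := Multiplicative (Fin (N + 1) → Fin 6 → G24.F4)
  let φ : G4 →* MulAut W := (actU (N + 1)).comp ψ
  have hW : ∀ w : W, w ^ 2 = 1 := fun w => Multiplicative.toAdd.injective <| by
    rw [toAdd_pow, toAdd_one]
    refine funext fun i => funext fun j => ?_
    show 2 • ((w.toAdd i) j) = 0
    rw [two_nsmul]
    exact (by decide +kernel : ∀ x : G24.F4, x + x = 0) _
  have h2 : 2 ∣ Nat.card G4 := by rw [card_G4]; norm_num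
  have hfpf : ∀ l : G4, (orderOf l).Prime → orderOf l ≠ 2 →
      (∀ w : W, φ l w = w → w = 1) ∨ ∃ x : G4, orderOf x = orderOf l * 2 := by
    intro l hl hl2
    have hd := orderOf_dvd_natCard l
    rw [card_G4, show (251596800 : ℕ) = 2 ^ 12 * (3 ^ 3 * (5 ^ 2 * (7 * 13))) by norm_num] at hd
    rcases hl.dvd_mul.1 hd with h | h
    · exact absurd ((Nat.prime_dvd_prime_iff_eq hl Nat.prime_two).1 (hl.dvd_of_dvd_pow h)) hl2
    rcases hl.dvd_mul.1 h with h | h
    · have := (Nat.prime_dvd_prime_iff_eq hl Nat.prime_three).1 (hl.dvd_of_dvd_pow h)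
      exact Or.inr ⟨x6, by rw [h6, this]⟩
    rcases hl.dvd_mul.1 h with h | h
    · have := (Nat.prime_dvd_prime_iff_eq hl (by norm_num)).1 (hl.dvd_of_dvd_pow h)
      exact Or.inr ⟨x10, by rw [h10, this]⟩
    rcases hl.dvd_mul.1 h with h | h
    · have := (Nat.prime_dvd_prime_iff_eq hl (by norm_num)).1 h
      exact Or.inl fun w hw => Multiplicative.toAdd.injective (funext fun i =>
        fpf_of_sylow ψ 7 (by norm_num) (by norm_num) h7 f7 this (w.toAdd i)
          (congrFun (congrArg Multiplicative.toAdd hw) i))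
    · have := (Nat.prime_dvd_prime_iff_eq hl (by norm_num)).1 h
      exact Or.inl fun w hw => Multiplicative.toAdd.injective (funext fun i =>
        fpf_of_sylow ψ 13 (by norm_num) (by norm_num) h13 f13 this (w.toAdd i)
          (congrFun (congrArg Multiplicative.toAdd hw) i))
  obtain ⟨hg₁, hg₂⟩ := primeGraph_eq_of_edges (φ := φ) 2 Nat.prime_two hW h2 hfpf
  have := AffineExt.finite_ext φ
  obtain ⟨H, _, _, ⟨i⟩⟩ := AffineExt.exists_small_copy (W ⋊[φ] G4)
  refine ⟨H, inferInstance, inferInstance, ?_, fun r hr => ?_, fun r s hr hs hrs => ?_⟩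
  · rw [Nat.card_congr i.toEquiv, AffineExt.natCard_ext]
    refine lt_of_lt_of_le ?_ (Nat.le_mul_of_pos_right _ Nat.card_pos)
    rw [Nat.card_congr Multiplicative.toAdd, Nat.card_fun, Nat.card_fin]
    exact lt_of_lt_of_le (Nat.lt_two_pow_self) ((Nat.pow_le_pow_right two_pos N.le_succ).trans
      (Nat.pow_le_pow_left Finite.one_lt_card _))
  · rw [Nat.card_congr iso.toEquiv, Nat.card_congr i.toEquiv]; exact hg₁ r hr
  · exact ((AffineExt.exists_orderOf_congr iso _).trans (hg₂ r s hr hs hrs)).trans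
      (AffineExt.exists_orderOf_congr i.symm _)

end Cfsg.Agent.S3662
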