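import Cfsg.Statements.S3663
import Cfsg.Agent.Lib.U34.Basic
import Cfsg.Agent.Lib.Recog.AffineExt
import Mathlib.FieldTheory.Finite.GaloisField
import Mathlib.GroupTheory.QuotientGroup.Basic

set_option autoImplicit false
open Cfsg

namespace Cfsg.Agent.S3663

open Cfsg.Agent Matrix SemidirectProduct AffineExt

section Edges

variable {W L : Type*} [CommGroup W] [Group L] {φ : L →* MulAut W} [Finite W] [Finite L]

/-- As `AffineExt.primeGraph_eq`, but fixed points are allowed along the existing edges at `p`. -/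
theorem primeGraph_eq_of_edges (p : ℕ) (hp : p.Prime) (hW : ∀ w : W, w ^ p = 1) (hpL : p ∣ Nat.card L)
    (hfpf : ∀ l : L, (orderOf l).Prime → orderOf l ≠ p →
      (∀ w : W, φ l w = w → w = 1) ∨ ∃ x : L, orderOf x = orderOf l * p) :
    (∀ r : ℕ, r.Prime → (r ∣ Nat.card L ↔ r ∣ Nat.card (W ⋊[φ] L))) ∧
    (∀ r s : ℕ, r.Prime → s.Prime → r ≠ s →
      ((∃ g : L, orderOf g = r * s) ↔ ∃ g : W ⋊[φ] L, orderOf g = r * s)) := by
  have := finite_ext φ
  refine ⟨fun r hr => ⟨fun h => by rw [natCard_ext]; exact h.mul_left _, fun h => ?_⟩, ?_⟩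
  · rw [natCard_ext] at h
    rcases hr.dvd_mul.1 h with h | h
    · have : Fact r.Prime := ⟨hr⟩
      obtain ⟨w, hw⟩ := exists_prime_orderOf_dvd_card' r h
      have := orderOf_dvd_of_pow_eq_one (hW w)
      rw [hw, Nat.prime_dvd_prime_iff_eq hr hp] at this
      rwa [this]
    · exact h
  intro r s hr hs hrs
  refine ⟨fun ⟨g, hg⟩ => ⟨inr g, by rw [orderOf_injective _ inr_injective, hg]⟩, fun ⟨g, hg⟩ => ?_⟩
  -- the only case to exclude: `g` projects to an element of order `r` (or `s`)
  have main : ∀ a b : ℕ, a.Prime → b.Prime → a ≠ b → orderOf g = a * b →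
      g.right ^ a = 1 → ∃ x : L, orderOf x = a * b := by
    intro a b ha hb hab ho h1
    have hcop : Nat.Coprime a b := (Nat.coprime_primes ha hb).2 hab
    have hb' : (g ^ a) = inl (g ^ a).left := eq_inl_of_right_eq_one _ (by rw [right_pow, h1])
    have hoa : orderOf (g ^ a) = b := by
      rw [orderOf_pow, ho, Nat.gcd_mul_right_left, Nat.mul_div_cancel_left _ ha.pos]
    have hne : (g ^ a).left ≠ 1 := fun h0 => by
      rw [hb', h0, map_one, orderOf_one] at hoa
      exact hb.ne_one hoa.symm
    have hbp : b = p := by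
      have hpow : (g ^ a) ^ p = 1 := by rw [hb', ← map_pow, hW, map_one]
      have := orderOf_dvd_of_pow_eq_one hpow
      rwa [hoa, Nat.prime_dvd_prime_iff_eq hb hp] at this
    have hor : orderOf g.right = a := by
      rcases (Nat.dvd_prime ha).1 (orderOf_dvd_of_pow_eq_one h1) with h | h
      · rw [orderOf_eq_one_iff] at h
        have hg' := eq_inl_of_right_eq_one g h
        have hpow : g ^ p = 1 := by rw [hg', ← map_pow, hW, map_one]
        have := orderOf_dvd_of_pow_eq_one hpow
        rw [ho, hbp] at this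
        have h2 := Nat.le_of_dvd hp.pos this
        have h3 := ha.two_le
        have h4 := hp.pos
        have h5 : 1 * p < a * p := Nat.mul_lt_mul_of_pos_right (by omega) h4
        omega
      · exact h
    rcases hfpf g.right (hor.symm ▸ ha) (by rw [hor]; exact hbp ▸ hab) with hf | ⟨x, hx⟩
    · exact absurd (hf _ (fixed_of_commute g _ (by rw [← hb']; exact (Commute.refl g).pow_right a))) hne
    · exact ⟨x, by rw [hx, hor, hbp]⟩
  have hd := orderOf_map_dvd (rightHom : W ⋊[φ] L →* L) g
  rw [hg, rightHom_eq_right] at hd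
  obtain ⟨d₁, d₂, hd₁, hd₂, hd'⟩ := Nat.dvd_mul.1 hd
  rcases (Nat.dvd_prime hr).1 hd₁ with rfl | rfl
  · rw [one_mul] at hd'
    subst hd'
    obtain ⟨x, hx⟩ := main s r hs hr (Ne.symm hrs) (by rw [hg, mul_comm]) (orderOf_dvd_iff_pow_eq_one.1 hd₂)
    exact ⟨x, by rw [hx, mul_comm]⟩
  · rcases (Nat.dvd_prime hs).1 hd₂ with rfl | rfl
    · rw [mul_one] at hd'
      exact main _ s hr hs hrs hg (orderOf_dvd_iff_pow_eq_one.1 (dvd_of_eq hd'.symm))
    · exact ⟨g.right, hd'.symm⟩

end Edges

open U34

/-- Convolution with the class function. -/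
noncomputable def conv : (G16 → ZMod 5) →+ (G16 → ZMod 5) :=
  letI := Fintype.ofFinite G16
  { toFun := fun f g => ∑ h, f h * cf (h⁻¹ * g)
    map_zero' := by funext g; simp
    map_add' := fun f f' => by funext g; simp [add_mul, Finset.sum_add_distrib] }

/-- Left translation. -/
def translate (l : G16) : (G16 → ZMod 5) ≃+ (G16 → ZMod 5) where
  toFun f g := f (l⁻¹ * g)
  invFun f g := f (l * g)
  left_inv f := by funext g; simp
  right_inv f := by funext g; simp
  map_add' _ _ := rfl

theorem conv_translate (l : G16) (f : G16 → ZMod 5) : conv (translate l f) = translate l (conv f) := by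
  letI := Fintype.ofFinite G16
  funext g
  show ∑ h, f (l⁻¹ * h) * cf (h⁻¹ * g) = ∑ h, f h * cf (h⁻¹ * (l⁻¹ * g))
  refine Fintype.sum_equiv (Equiv.mulLeft l⁻¹) _ _ fun h => ?_
  simp [mul_assoc]

/-- The image of the convolution. -/
noncomputable abbrev Wmod : AddSubgroup (G16 → ZMod 5) := conv.range

theorem translate_mem (l : G16) {w : G16 → ZMod 5} (hw : w ∈ Wmod) : translate l w ∈ Wmod := by
  obtain ⟨f, rfl⟩ := hw
  exact ⟨translate l f, conv_translate l f⟩

/-- The action on tuples from the image. -/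
noncomputable def act (k : ℕ) : G16 →* MulAut (Multiplicative (Fin k → Wmod)) where
  toFun l :=
    { toFun := fun w => Multiplicative.ofAdd fun i => ⟨translate l (w.toAdd i).1, translate_mem l (w.toAdd i).2⟩
      invFun := fun w => Multiplicative.ofAdd fun i =>
        ⟨translate l⁻¹ (w.toAdd i).1, translate_mem l⁻¹ (w.toAdd i).2⟩
      left_inv := fun w => Multiplicative.toAdd.injective <| funext fun i => Subtype.ext <| by
        funext g; simp [translate]
      right_inv := fun w => Multiplicative.toAdd.injective <| funext fun i => Subtype.ext <| by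
        funext g; simp [translate]
      map_mul' := fun v w => Multiplicative.toAdd.injective <| funext fun i => Subtype.ext <| by
        funext g; simp [translate] }
  map_one' := MulEquiv.ext fun w => Multiplicative.toAdd.injective <| funext fun i => Subtype.ext <| by
    funext g; simp [translate]
  map_mul' a b := MulEquiv.ext fun w => Multiplicative.toAdd.injective <| funext fun i => Subtype.ext <| by
    funext g; simp [translate, mul_assoc]

theorem translate_mul (a b : G16) (w : G16 → ZMod 5) :
    translate (a * b) w = translate a (translate b w) := by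
  funext g; simp [translate, mul_assoc]

theorem translate_pow_fixed {l : G16} {w : G16 → ZMod 5} (h : translate l w = w) :
    ∀ i : ℕ, translate (l ^ i) w = w := by
  intro i
  induction i with
  | zero => funext g; simp [translate]
  | succ i ih => rw [pow_succ, translate_mul, h, ih]

/-- No nonzero vector of the image is fixed by `gX`. -/
theorem fixed_gX {w : G16 → ZMod 5} (hw : w ∈ Wmod) (h : translate gX w = w) : w = 0 := by
  letI := Fintype.ofFinite G16
  obtain ⟨f, rfl⟩ := hw
  funext g
  have h1 : ∀ i ∈ Finset.range 13, conv f (gX ^ i * g) = conv f g := fun i _ => by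
    have := congrFun (translate_pow_fixed h i) (gX ^ i * g)
    simpa [translate] using this.symm
  have h2 : ∑ i ∈ Finset.range 13, conv f (gX ^ i * g) = 0 := by
    show ∑ i ∈ Finset.range 13, ∑ h, f h * cf (h⁻¹ * (gX ^ i * g)) = 0
    rw [Finset.sum_comm]
    refine Finset.sum_eq_zero fun h _ => ?_
    rw [← Finset.mul_sum, Finset.sum_congr rfl fun i _ => show cf (h⁻¹ * (gX ^ i * g)) =
      cf (gX ^ i * (g * h⁻¹)) by rw [cf_mul_comm, mul_assoc], ← cosetSum_eq_sum, cosetSum_eq_zero,
      mul_zero]
  rw [Finset.sum_congr rfl h1, Finset.sum_const, Finset.card_range, nsmul_eq_mul] at h2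
  haveI : Fact (Nat.Prime 5) := ⟨by norm_num⟩
  exact (mul_eq_zero.1 h2).resolve_left (by rw [ZMod.natCast_eq_zero_iff]; norm_num)

theorem fixed_thirteen {l : G16} (hl : orderOf l = 13) {w : G16 → ZMod 5} (hw : w ∈ Wmod)
    (h : translate l w = w) : w = 0 := by
  have : Fact (Nat.Prime 13) := ⟨by norm_num⟩
  have key : ∀ y : G16, orderOf y = 13 → ∃ P : Sylow 13 G16, (P : Subgroup G16) = Subgroup.zpowers y := by
    intro y hy
    refine ⟨(IsPGroup.of_card (p := 13) (n := 1) (G := Subgroup.zpowers y)
      (by rw [Nat.card_zpowers, hy, pow_one])).toSylow ?_, rfl⟩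
    intro hd
    have h1 := (Subgroup.zpowers y).card_mul_index
    rw [Nat.card_zpowers, hy, card_G16] at h1
    omega
  obtain ⟨P, hP⟩ := key l hl
  obtain ⟨Q, hQ⟩ := key gX orderOf_gX
  obtain ⟨n, hn⟩ := MulAction.exists_smul_eq G16 P Q
  have hxm : gX ∈ ((n • P : Sylow 13 G16) : Subgroup G16) := by
    rw [hn, hQ]; exact Subgroup.mem_zpowers gX
  obtain ⟨y, hy, hyx⟩ := hxm
  rw [SetLike.mem_coe, hP, ← mem_powers_iff_mem_zpowers, Submonoid.mem_powers_iff] at hy
  obtain ⟨j, rfl⟩ := hy
  have hfix : translate gX (translate n w) = translate n w := by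
    have e : gX * n = n * l ^ j := by
      have e0 : n * l ^ j * n⁻¹ = gX := hyx
      rw [← e0, inv_mul_cancel_right]
    rw [← translate_mul, e, translate_mul, translate_pow_fixed h j]
  have h0 := fixed_gX (translate_mem n hw) hfix
  exact (translate n).injective (h0.trans (map_zero _).symm)

theorem Wmod_ne_bot : ∃ w ∈ Wmod, w ≠ 0 := by
  classical
  letI := Fintype.ofFinite G16
  refine ⟨conv (Pi.single 1 1), ⟨_, rfl⟩, fun h => cf_one ?_⟩
  have := congrFun h 1
  show cf 1 = 0
  rw [Pi.zero_apply] at this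
  rw [← this]
  show cf 1 = ∑ h, (Pi.single (1 : G16) (1 : ZMod 5) : G16 → ZMod 5) h * cf (h⁻¹ * 1)
  rw [Finset.sum_eq_single (1 : G16) (fun b _ hb => by simp [hb]) (by simp)]
  simp

/-- SU₃ over any field with 16 elements. -/
noncomputable def suEquiv {F : Type*} [Field F] (e : F ≃+* F16) : Cfsg.SU 3 F 4 ≃* G16 where
  toFun A := ⟨Matrix.SpecialLinearGroup.map (e : F →+* F16) A.1, fun u v => by
    have h := congrArg e (A.2 (e.symm ∘ u) (e.symm ∘ v))
    simpa [Cfsg.hermForm, Cfsg.slToMat, Matrix.mulVec, dotProduct, map_sum, Function.comp] using h⟩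
  invFun A := ⟨Matrix.SpecialLinearGroup.map (e.symm : F16 →+* F) A.1, fun u v => by
    have h := congrArg e.symm (A.2 (e ∘ u) (e ∘ v))
    simpa [Cfsg.hermForm, Cfsg.slToMat, Matrix.mulVec, dotProduct, map_sum, Function.comp] using h⟩
  left_inv A := Subtype.ext (Subtype.ext (by ext i j; simp))
  right_inv A := Subtype.ext (Subtype.ext (by ext i j; simp))
  map_mul' A B := Subtype.ext (by simp)

/-- The prime graph of a finite group has the prime divisors of its order as vertices, two distinct primes p, q being joined when the group has an element of order pq; two groups have the same prime graph when they have the same prime divisors and the same joined pairs. Let F be the field with 16 elements and L = PSU(3,4) realised over F. There are finite groups of arbitrarily large order with the same prime graph as L. -/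
theorem result {F : Type*} [Field F] [Fintype F] (hF : Fintype.card F = 16) (N : ℕ) :
    ∃ (H : Type) (_ : Group H) (_ : Finite H), N < Nat.card H ∧
      ((∀ p : ℕ, p.Prime → (p ∣ Nat.card (Cfsg.PSU 3 F 4) ↔ p ∣ Nat.card H)) ∧
      (∀ p q : ℕ, p.Prime → q.Prime → p ≠ q → ((∃ g : (Cfsg.PSU 3 F 4), orderOf g = p * q) ↔ (∃ g : H, orderOf g = p * q)))) := by
  let e : F ≃+* F16 := FiniteField.ringEquivOfCardEq (by rw [hF, F16.card])
  have hc : Subgroup.center (Cfsg.SU 3 F 4) = ⊥ := by
    rw [eq_bot_iff]
    intro z hz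
    have h1 : suEquiv e z ∈ Subgroup.center G16 := by
      rw [Subgroup.mem_center_iff]
      intro g
      obtain ⟨y, rfl⟩ := (suEquiv e).surjective g
      rw [← map_mul, ← map_mul, Subgroup.mem_center_iff.1 hz y]
    rw [center_eq_bot, Subgroup.mem_bot] at h1
    exact (suEquiv e).injective (h1.trans (map_one _).symm)
  let iso : Cfsg.PSU 3 F 4 ≃* G16 :=
    ((QuotientGroup.quotientMulEquivOfEq hc).trans QuotientGroup.quotientBot).trans (suEquiv e)
  let W := Multiplicative (Fin (N + 1) → Wmod)
  have hW : ∀ w : W, w ^ 5 = 1 := fun w => Multiplicative.toAdd.injective <| by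
    rw [toAdd_pow, toAdd_one]
    refine funext fun i => Subtype.ext ?_
    funext g
    show 5 • ((w.toAdd i).1 g) = 0
    rw [nsmul_eq_mul, show ((5 : ℕ) : ZMod 5) = 0 from ZMod.natCast_self 5, zero_mul]
  have h5 : 5 ∣ Nat.card G16 := by rw [card_G16]; norm_num
  have hfpf : ∀ l : G16, (orderOf l).Prime → orderOf l ≠ 5 →
      (∀ w : W, act (N + 1) l w = w → w = 1) ∨ ∃ x : G16, orderOf x = orderOf l * 5 := by
    intro l hl hl5
    have hd := orderOf_dvd_natCard l
    rw [card_G16, show (62400 : ℕ) = 2 ^ 6 * (3 * (5 ^ 2 * 13)) by norm_num] at hd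
    rcases hl.dvd_mul.1 hd with h | h
    · have := (Nat.prime_dvd_prime_iff_eq hl Nat.prime_two).1 (hl.dvd_of_dvd_pow h)
      rw [this]; exact Or.inr exists_order_ten
    rcases hl.dvd_mul.1 h with h | h
    · have := (Nat.prime_dvd_prime_iff_eq hl Nat.prime_three).1 h
      rw [this]; exact Or.inr exists_order_fifteen
    rcases hl.dvd_mul.1 h with h | h
    · exact absurd ((Nat.prime_dvd_prime_iff_eq hl (by norm_num)).1 (hl.dvd_of_dvd_pow h)) hl5
    · refine Or.inl fun w hw => Multiplicative.toAdd.injective (funext fun i => Subtype.ext ?_)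
      exact fixed_thirteen ((Nat.prime_dvd_prime_iff_eq hl (by norm_num)).1 h) (w.toAdd i).2
        (congrArg Subtype.val (congrFun (congrArg Multiplicative.toAdd hw) i))
  have : Fintype Wmod := Fintype.ofFinite _
  obtain ⟨h₁, h₂⟩ := primeGraph_eq_of_edges (φ := act (N + 1)) 5 (by norm_num) hW h5 hfpf
  have := AffineExt.finite_ext (act (N + 1))
  obtain ⟨H, _, _, ⟨i⟩⟩ := AffineExt.exists_small_copy (W ⋊[act (N + 1)] G16)
  refine ⟨H, inferInstance, inferInstance, ?_, fun r hr => ?_, fun r s hr hs hrs => ?_⟩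
  · rw [Nat.card_congr i.toEquiv, AffineExt.natCard_ext]
    refine lt_of_lt_of_le ?_ (Nat.le_mul_of_pos_right _ Nat.card_pos)
    obtain ⟨w, hw, hw0⟩ := Wmod_ne_bot
    have : Nontrivial Wmod := ⟨⟨w, hw⟩, 0, fun h => hw0 (congrArg Subtype.val h)⟩
    rw [Nat.card_congr Multiplicative.toAdd, Nat.card_fun, Nat.card_fin]
    exact lt_of_lt_of_le (Nat.lt_two_pow_self) ((Nat.pow_le_pow_right two_pos N.le_succ).trans
      (Nat.pow_le_pow_left Finite.one_lt_card _))
  · rw [Nat.card_congr iso.toEquiv, Nat.card_congr i.toEquiv]; exact h₁ r hr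
  · exact ((AffineExt.exists_orderOf_congr iso _).trans (h₂ r s hr hs hrs)).trans
      (AffineExt.exists_orderOf_congr i.symm _)

end Cfsg.Agent.S3663
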