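import Cfsg.Statements.S3664
import Cfsg.Agent.Lib.PrimeGraphSz83.Graph
import Cfsg.Agent.Lib.PrimeGraphSz83.PSp63

set_option autoImplicit false
open Cfsg

namespace Cfsg.Agent.S3664

/-- The prime graph of a finite group has the prime divisors of its order as vertices, two distinct primes p, q being joined when the group has an element of order pq; two groups have the same prime graph when they have the same prime divisors and the same joined pairs. Let F be the field with 3 elements and L = PSp(6,F). There are finite groups of arbitrarily large order with the same prime graph as L (a prime graph shared by the orthogonal groups Ω₇(3) and PΩ⁺₈(3)). -/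
theorem result {F : Type*} [Field F] [Fintype F] (hF : Fintype.card F = 3) (N : ℕ) :
    ∃ (H : Type) (_ : Group H) (_ : Finite H), N < Nat.card H ∧
      ((∀ p : ℕ, p.Prime → (p ∣ Nat.card (Cfsg.PSp 3 F) ↔ p ∣ Nat.card H)) ∧
      (∀ p q : ℕ, p.Prime → q.Prime → p ≠ q → ((∃ g : (Cfsg.PSp 3 F), orderOf g = p * q) ↔ (∃ g : H, orderOf g = p * q)))) := by
  have hc := Sz83.card_Hk (k := N + 1)
  refine ⟨Sz83.Hk (N + 1), inferInstance, Nat.finite_of_card_ne_zero (by rw [hc]; positivity), ?_,
    fun p hp => (Sz83.PSp63.prime_dvd_iff hF hp).trans (Sz83.prime_dvd_Hk (Nat.succ_pos N) hp).symm,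
    fun p q hp hq hpq => (Sz83.PSp63.adjacent_iff hF hp hq hpq).trans
      (Sz83.adjacent_iff (Nat.succ_pos N) hp hq hpq).symm⟩
  rw [hc]
  have h1 : N < 2 ^ N := Nat.lt_two_pow_self
  have h2 : 2 ^ N ≤ 2 ^ (48 * (N + 1)) := Nat.pow_le_pow_right two_pos (by omega)
  have h3 := Nat.le_mul_of_pos_right (2 ^ (48 * (N + 1))) (show 0 < 29120 * 3 by norm_num)
  exact lt_of_lt_of_le (lt_of_lt_of_le h1 h2) h3

end Cfsg.Agent.S3664
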