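import Cfsg.Statements.S3669
import Cfsg.Agent.Lib.Recog.OrderSixty
import Cfsg.Agent.Lib.Char.Multiplicity
import Cfsg.Agent.Lib.Char.Induction
import Cfsg.Agent.Lib.Char.Orbit
-- import your own Cfsg.Agent.* helpers here

set_option autoImplicit false
open Cfsg

namespace Cfsg.Agent.S3669

universe v

/-- A doubly transitive action on `k + 1` points gives an irreducible character of degree `k`. -/
theorem exists_irr_of_two_transitive {G : Type v} [Group G] [Finite G] (X : Type v)
    [MulAction G X] [Finite X] [MulAction.IsPretransitive G X] (x : X) (k : ℕ) (hk : 0 < k)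
    (hX : Nat.card X = k + 1)
    (h2 : ∀ y z : X, y ≠ x → z ≠ x → ∃ g : G, g • x = x ∧ g • y = z) :
    k ∈ Cfsg.charDegrees G := by
  classical
  have := Fintype.ofFinite G
  have := Fintype.ofFinite X
  set H := MulAction.stabilizer G x with hH
  have := Fintype.ofFinite H
  set π := Cfsg.indFun H (fun _ => (1 : ℂ)) with hπ
  have hπc : Cfsg.IsCharacter G π := Char.isCharacter_indFun H Char.isCharacter_one
  have hπ1 : π 1 = (k : ℂ) + 1 := by
    rw [hπ, Char.indFun_one_apply, mul_one, MulAction.index_stabilizer_of_transitive, hX]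
    push_cast; ring
  have hone : Cfsg.IsClassFunction G (fun _ : G => (1 : ℂ)) := fun _ _ => rfl
  have h11 : Cfsg.classInner π (fun _ => 1) = 1 := by
    rw [hπ, Char.classInner_indFun_left H _ hone]
    exact Char.classInner_self_irr Char.isIrrCharacter_one
  have hππ : Cfsg.classInner π π = 2 := by
    conv_lhs => arg 1; rw [hπ]
    rw [Char.classInner_indFun_left H _ (Char.IsCharacter.isClassFunction hπc)]
    have hval : ∀ h : H, (starRingEnd ℂ) (π (h : G)) = (Fintype.card (MulAction.fixedBy X h) : ℂ) := by
      intro h
      rw [hπ, Char.indFun_stabilizer X x, Nat.card_eq_fintype_card, map_natCast]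
      norm_cast
    have hsum := MulAction.sum_card_fixedBy_eq_card_orbits_mul_card_group H X
    have horb : Fintype.card (Quotient (MulAction.orbitRel H X)) = 2 := by
      obtain ⟨y, hy⟩ : ∃ y, y ≠ x := by
        have : 1 < Fintype.card X := by rw [← Nat.card_eq_fintype_card, hX]; omega
        exact Fintype.exists_ne_of_one_lt_card this x
      have hne : (Quotient.mk _ x : Quotient (MulAction.orbitRel H X)) ≠ Quotient.mk _ y := by
        intro h
        obtain ⟨g, hg⟩ := Quotient.exact h
        have hg' : (g : G) • y = x := hg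
        exact hy (smul_left_cancel (g : G) (hg'.trans g.2.symm))
      rw [← Finset.card_univ, Finset.card_eq_two]
      refine ⟨_, _, hne, (Finset.eq_univ_of_forall fun q => ?_).symm⟩
      induction q using Quotient.inductionOn with
      | h z =>
        rcases eq_or_ne z x with rfl | hz
        · simp
        · obtain ⟨g, hgx, hgz⟩ := h2 y z hy hz
          rw [Finset.mem_insert, Finset.mem_singleton]
          exact Or.inr (Quotient.sound ⟨⟨g, hgx⟩, hgz⟩)
    rw [horb] at hsum
    simp only [Cfsg.classInner, one_mul, hval]
    rw [← Nat.cast_sum, hsum, ← Nat.card_eq_fintype_card, Nat.cast_mul]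
    have hH0 : (Nat.card H : ℂ) ≠ 0 := Nat.cast_ne_zero.2 Nat.card_pos.ne'
    field_simp
    norm_num
  set a : G → ℂ := π - (fun _ => 1) with ha
  have hag : Cfsg.IsGeneralizedCharacter G a := ⟨π, _, hπc, Char.isCharacter_one, rfl⟩
  have haa : Cfsg.classInner a a = 1 := by
    rw [ha, Char.classInner_sub_left, Char.classInner_sub_right, Char.classInner_sub_right,
      hππ, h11, Char.classInner_self_irr Char.isIrrCharacter_one,
      Char.classInner_comm_of_isCharacter Char.isCharacter_one hπc, h11]
    norm_num
  have ha1 : a 1 = (k : ℂ) := by rw [ha, Pi.sub_apply, hπ1]; ring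
  rcases Char.IsGeneralizedCharacter.of_norm_one hag haa with hirr | hirr
  · refine ⟨⟨a, hirr⟩, ?_⟩
    simp [Cfsg.charDegree, ha1]
  · exfalso
    obtain ⟨d, hd⟩ := Char.IsCharacter.exists_degree (Char.IsIrrCharacter.isCharacter hirr)
    rw [Pi.neg_apply, ha1] at hd
    have : ((k + d : ℕ) : ℂ) = 0 := by push_cast; rw [← hd]; ring
    rw [Nat.cast_eq_zero] at this
    omega

theorem five_not_dvd {G : Type v} [Group G] [Finite G] (hG : Nat.card G = 60)
    (h1 : Nat.card (Sylow 5 G) = 1) : ¬ ∃ d ∈ Cfsg.charDegrees G, 5 ∣ d := by
  haveI : Fact (Nat.Prime 5) := ⟨by norm_num⟩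
  classical
  have := Fintype.ofFinite G
  obtain ⟨P⟩ : Nonempty (Sylow 5 G) := inferInstance
  have : Subsingleton (Sylow 5 G) := (Nat.card_eq_one_iff_unique.1 h1).1
  have hP : (P : Subgroup G).Normal := P.normal_of_subsingleton
  set N : Subgroup G := (P : Subgroup G) with hN
  have hNc : Nat.card N = 5 := OrderSixty.card_sylow_five hG P
  have hidx : N.index = 12 := by
    have h := N.card_mul_index
    rw [hNc, hG] at h
    omega
  have := Fintype.ofFinite N
  haveI : IsCyclic N := isCyclic_of_prime_card hNc
  rintro ⟨d, ⟨χ, rfl⟩, h5⟩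
  have hres : Cfsg.IsCharacter N (fun n : N => (χ : G → ℂ) n) :=
    Char.IsCharacter.restrict (Char.IsIrrCharacter.isCharacter χ.2) N
  obtain ⟨θ, hθ⟩ := Char.IsCharacter.exists_constituent hres (fun h => by
    have := congrFun h 1
    exact Char.IsIrrCharacter.one_ne_zero χ.2 (by simpa using this))
  obtain ⟨e, he, hdvd⟩ := Char.exists_ratio_dvd_index N χ.2 θ.2 hθ
  rw [Char.degree_one_of_comm (fun a b => IsCyclic.commutative.1.comm a b) θ.2, mul_one] at he
  have hd : Cfsg.charDegree (χ : G → ℂ) = e := by simp [Cfsg.charDegree, he]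
  rw [hd] at h5
  rw [hidx] at hdvd
  have := h5.trans hdvd
  norm_num at this


/-- The character degree graph of a finite group has as vertices the primes dividing some irreducible complex character degree, two distinct primes being joined when their product divides some irreducible character degree; two groups have the same character degree graph when they have the same vertices and the same joined pairs. A finite group of order 60 with the same character degree graph as the alternating group A₅ (whose character degrees are 1, 3, 4, 5, so the graph has vertices 2, 3, 5 and no edges) is isomorphic to A₅. -/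
theorem result {G : Type*} [Group G] [Finite G] (hcard : Nat.card G = 60)
    (hΓ : Cfsg.degreePrimes G = Cfsg.degreePrimes (alternatingGroup (Fin 5)) ∧ Cfsg.degreeGraph G = Cfsg.degreeGraph (alternatingGroup (Fin 5))) : Nonempty (G ≃* alternatingGroup (Fin 5)) := by
  rcases OrderSixty.sylow_card_cases hcard with h | h
  · exfalso
    have hA : Nat.card (alternatingGroup (Fin 5)) = 60 := by
      rw [nat_card_alternatingGroup]; simp [Nat.factorial]
    haveI : Fact (Nat.Prime 5) := ⟨by norm_num⟩
    have h6 : Nat.card (Sylow 5 (alternatingGroup (Fin 5))) = 6 := by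
      refine (OrderSixty.sylow_card_cases hA).resolve_left fun h1 => ?_
      haveI : IsSimpleGroup (alternatingGroup (Fin 5)) := alternatingGroup.isSimpleGroup_five
      obtain ⟨P⟩ : Nonempty (Sylow 5 (alternatingGroup (Fin 5))) := inferInstance
      have : Subsingleton (Sylow 5 (alternatingGroup (Fin 5))) := (Nat.card_eq_one_iff_unique.1 h1).1
      have hc := OrderSixty.card_sylow_five hA P
      rcases P.normal_of_subsingleton.eq_bot_or_eq_top with hb | ht
      · rw [hb, Subgroup.card_bot] at hc; omega
      · rw [ht, Subgroup.card_top, hA] at hc; omega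
    obtain ⟨P⟩ : Nonempty (Sylow 5 (alternatingGroup (Fin 5))) := inferInstance
    have hdeg := exists_irr_of_two_transitive (G := alternatingGroup (Fin 5))
      (Sylow 5 (alternatingGroup (Fin 5))) P 5 (by norm_num) h6
      (fun Q R hQ hR => OrderSixty.two_transitive hA h6 P Q R hQ hR)
    have hmem : 5 ∈ Cfsg.degreePrimes G := hΓ.1 ▸ ⟨by norm_num, 5, hdeg, dvd_rfl⟩
    exact five_not_dvd hcard h hmem.2
  · exact OrderSixty.equiv_A5 hcard h

end Cfsg.Agent.S3669
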