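import Cfsg.Statements.S3670
import Cfsg.Agent.Lib.DegGraph.U33Data
import Cfsg.Agent.Lib.DegGraph.Witness
import Mathlib.FieldTheory.Finite.GaloisField
import Mathlib.GroupTheory.QuotientGroup.Basic
-- import your own Cfsg.Agent.* helpers here

set_option autoImplicit false
open Cfsg

namespace Cfsg.Agent.S3670

open Cfsg.Agent Cfsg.Agent.Char Cfsg.Agent.J2 Matrix

/-- SU₃ over any field with 9 elements. -/
noncomputable def suEquiv {F : Type*} [Field F] (e : F ≃+* F9) : Cfsg.SU 3 F 3 ≃* SU9 where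
  toFun A := ⟨Matrix.SpecialLinearGroup.map (e : F →+* F9) A.1, fun u v => by
    have h := congrArg e (A.2 (e.symm ∘ u) (e.symm ∘ v))
    simpa [Cfsg.hermForm, Cfsg.slToMat, Matrix.mulVec, dotProduct, map_sum, Function.comp] using h⟩
  invFun A := ⟨Matrix.SpecialLinearGroup.map (e.symm : F9 →+* F) A.1, fun u v => by
    have h := congrArg e.symm (A.2 (e ∘ u) (e ∘ v))
    simpa [Cfsg.hermForm, Cfsg.slToMat, Matrix.mulVec, dotProduct, map_sum, Function.comp] using h⟩
  left_inv A := Subtype.ext (Subtype.ext (by ext i j; simp))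
  right_inv A := Subtype.ext (Subtype.ext (by ext i j; simp))
  map_mul' A B := Subtype.ext (by simp)

theorem mem_degrees_congr {G H : Type*} [Group G] [Group H] (f : G ≃* H) {d : ℕ}
    (hd : d ∈ Cfsg.charDegrees H) : d ∈ Cfsg.charDegrees G := by
  obtain ⟨χ, rfl⟩ := hd
  refine ⟨⟨fun g => (χ : H → ℂ) (f g), IsIrrCharacter.comp χ.2 f.toMonoidHom f.surjective⟩, ?_⟩
  simp [Cfsg.charDegree]

/-- Both graphs are complete on 2, 3 and 7. -/
theorem graph_spec {G : Type*} [Group G] [Finite G] (hG : Nat.card G = 6048)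
    (h6 : ∃ d ∈ Cfsg.charDegrees G, 6 ∣ d) (h14 : ∃ d ∈ Cfsg.charDegrees G, 14 ∣ d)
    (h21 : ∃ d ∈ Cfsg.charDegrees G, 21 ∣ d) :
    (∀ p, p ∈ Cfsg.degreePrimes G ↔ (p = 2 ∨ p = 3 ∨ p = 7)) ∧
      (∀ p q, (Cfsg.degreeGraph G).Adj p q ↔
        p ≠ q ∧ (p = 2 ∨ p = 3 ∨ p = 7) ∧ (q = 2 ∨ q = 3 ∨ q = 7)) := by
  have hp : ∀ p : ℕ, p.Prime → ∀ d ∈ Cfsg.charDegrees G, p ∣ d → p = 2 ∨ p = 3 ∨ p = 7 := by
    rintro p hp d ⟨χ, rfl⟩ hd
    have h := hd.trans (Cfsg.Agent.CharX.irr_deg_dvd_card χ)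
    rw [hG, show (6048 : ℕ) = 2 ^ 5 * (3 ^ 3 * 7) by norm_num] at h
    rcases hp.dvd_mul.1 h with h | h
    · exact Or.inl ((Nat.prime_dvd_prime_iff_eq hp Nat.prime_two).1 (hp.dvd_of_dvd_pow h))
    rcases hp.dvd_mul.1 h with h | h
    · exact Or.inr (Or.inl ((Nat.prime_dvd_prime_iff_eq hp Nat.prime_three).1 (hp.dvd_of_dvd_pow h)))
    · exact Or.inr (Or.inr ((Nat.prime_dvd_prime_iff_eq hp (by norm_num)).1 h))
  obtain ⟨a, ha, ha'⟩ := h6
  obtain ⟨b, hb, hb'⟩ := h14
  obtain ⟨c, hc, hc'⟩ := h21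
  refine ⟨fun p => ⟨fun ⟨h1, d, hd, hpd⟩ => hp p h1 d hd hpd, ?_⟩, fun p q => ⟨?_, ?_⟩⟩
  · rintro (rfl | rfl | rfl)
    · exact ⟨Nat.prime_two, a, ha, (by norm_num : 2 ∣ 6).trans ha'⟩
    · exact ⟨Nat.prime_three, a, ha, (by norm_num : 3 ∣ 6).trans ha'⟩
    · exact ⟨by norm_num, b, hb, (by norm_num : 7 ∣ 14).trans hb'⟩
  · rintro ⟨hne, hpp, hqq, d, hd, hdd⟩
    exact ⟨hne, hp p hpp d hd (dvd_trans (dvd_mul_right p q) hdd),
      hp q hqq d hd (dvd_trans (dvd_mul_left q p) hdd)⟩
  · rintro ⟨hne, hp', hq'⟩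
    refine ⟨hne, ?_, ?_, ?_⟩
    · rcases hp' with rfl | rfl | rfl <;> norm_num
    · rcases hq' with rfl | rfl | rfl <;> norm_num
    · rcases hp' with rfl | rfl | rfl <;> rcases hq' with rfl | rfl | rfl
      all_goals first
        | exact absurd rfl hne
        | exact ⟨a, ha, ha'⟩
        | exact ⟨b, hb, hb'⟩
        | exact ⟨c, hc, hc'⟩

/-- The character degree graph of a finite group has as vertices the primes dividing some irreducible complex character degree, two distinct primes being joined when their product divides some irreducible character degree; two groups have the same character degree graph when they have the same vertices and the same joined pairs. Let F be the field with 9 elements and L = PSU(3,3) realised over F (order 6048). There is a finite solvable group of order 6048 with the same character degree graph as L; so L is not determined by its order together with its character degree graph. -/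
theorem result {F : Type*} [Field F] [Fintype F] (hF : Fintype.card F = 9) :
    ∃ (H : Type) (_ : Group H) (_ : Fintype H), Group.IsSolvable H ∧ Nat.card H = 6048 ∧ Cfsg.degreePrimes H = Cfsg.degreePrimes (Cfsg.PSU 3 F 3) ∧ Cfsg.degreeGraph H = Cfsg.degreeGraph (Cfsg.PSU 3 F 3) := by
  classical
  let e : F ≃+* F9 := FiniteField.ringEquivOfCardEq (by rw [hF, F9.card])
  have hc : Subgroup.center (Cfsg.SU 3 F 3) = ⊥ := by
    rw [eq_bot_iff]
    intro z hz
    have h1 : suEquiv e z ∈ Subgroup.center SU9 := by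
      rw [Subgroup.mem_center_iff]
      intro g
      obtain ⟨y, rfl⟩ := (suEquiv e).surjective g
      rw [← map_mul, ← map_mul, Subgroup.mem_center_iff.1 hz y]
    rw [center_SU9, Subgroup.mem_bot] at h1
    exact (suEquiv e).injective (h1.trans (map_one _).symm)
  let iso : Cfsg.PSU 3 F 3 ≃* SU9 :=
    ((QuotientGroup.quotientMulEquivOfEq hc).trans QuotientGroup.quotientBot).trans (suEquiv e)
  have hP : Nat.card (Cfsg.PSU 3 F 3) = 6048 := by rw [Nat.card_congr iso.toEquiv, card_SU9]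
  haveI : Finite (Cfsg.PSU 3 F 3) := Nat.finite_of_card_ne_zero (by rw [hP]; norm_num)
  haveI : Finite DegGraph.W6048 :=
    Nat.finite_of_card_ne_zero (by rw [DegGraph.card_W6048]; norm_num)
  obtain ⟨⟨d, hd, hd6⟩, h28, h21⟩ := DegGraph.degrees_SU9
  obtain ⟨hv, hE⟩ := graph_spec hP ⟨d, mem_degrees_congr iso hd, hd6⟩
    ⟨28, mem_degrees_congr iso h28, by norm_num⟩ ⟨21, mem_degrees_congr iso h21, dvd_refl _⟩
  obtain ⟨hv', hE'⟩ := graph_spec DegGraph.card_W6048 ⟨42, DegGraph.exists_deg_42, by norm_num⟩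
    ⟨42, DegGraph.exists_deg_42, by norm_num⟩ ⟨42, DegGraph.exists_deg_42, by norm_num⟩
  refine ⟨DegGraph.W6048, inferInstance, Fintype.ofFinite _, DegGraph.isSolvable_W6048,
    DegGraph.card_W6048, ?_, ?_⟩
  · ext p; exact (hv' p).trans (hv p).symm
  · ext p q; exact (hE' p q).trans (hE p q).symm

end Cfsg.Agent.S3670
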