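import Cfsg.Statements.S3678
import Cfsg.Agent.S3660
import Mathlib.FieldTheory.Finite.GaloisField
import Mathlib.Tactic.NormNum.Prime

set_option autoImplicit false
open Cfsg

namespace Cfsg.Agent.S3678

open Matrix Cfsg.Agent.AffineExt Cfsg.Agent.SL2Orders

/-- No element order `rs` and prime divisors `2, 3, 7`, from the three exponents. -/
theorem graph237 {G : Type*} [Group G] [Finite G] (a b c : ℕ)
    (hcases : ∀ g : G, g ^ a = 1 ∨ g ^ b = 1 ∨ g ^ c = 1)
    (ha : ∃ g : G, orderOf g = a) (hb : ∃ g : G, orderOf g = b) (hc : ∃ g : G, orderOf g = c)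
    (habc : ∀ r : ℕ, r.Prime → ((r ∣ a ∨ r ∣ b ∨ r ∣ c) ↔ (r = 2 ∨ r = 3 ∨ r = 7)))
    (hpp : ∀ e ∈ [a, b, c], IsPrimePow e) :
    (∀ r : ℕ, r.Prime → (r ∣ Nat.card G ↔ (r = 2 ∨ r = 3 ∨ r = 7))) ∧
    (∀ r s : ℕ, r.Prime → s.Prime → r ≠ s → ¬ ∃ g : G, orderOf g = r * s) := by
  refine ⟨fun r hr => ⟨fun h => ?_, fun h => ?_⟩, fun r s hr hs hrs => ?_⟩
  · have : Fact r.Prime := ⟨hr⟩
    obtain ⟨g, hg⟩ := exists_prime_orderOf_dvd_card' r h
    refine (habc r hr).1 ?_
    rcases hcases g with h | h | h <;> have := orderOf_dvd_of_pow_eq_one h <;> rw [hg] at this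
    · exact Or.inl this
    · exact Or.inr (Or.inl this)
    · exact Or.inr (Or.inr this)
  · rcases (habc r hr).2 h with h | h | h
    · obtain ⟨g, hg⟩ := ha; exact h.trans (hg ▸ orderOf_dvd_natCard g)
    · obtain ⟨g, hg⟩ := hb; exact h.trans (hg ▸ orderOf_dvd_natCard g)
    · obtain ⟨g, hg⟩ := hc; exact h.trans (hg ▸ orderOf_dvd_natCard g)
  · rintro ⟨g, hg⟩
    obtain ⟨e, he, hd⟩ : ∃ e ∈ [a, b, c], r * s ∣ e := by
      rcases hcases g with h | h | h <;> have := orderOf_dvd_of_pow_eq_one h <;> rw [hg] at this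
      · exact ⟨a, by simp, this⟩
      · exact ⟨b, by simp, this⟩
      · exact ⟨c, by simp, this⟩
    obtain ⟨q, k, hq, -, rfl⟩ := hpp e he
    have h1 := hr.dvd_of_dvd_pow ((dvd_mul_right r s).trans hd)
    have h2 := hs.dvd_of_dvd_pow ((dvd_mul_left s r).trans hd)
    rw [Nat.prime_dvd_prime_iff_eq hr (Nat.prime_iff.2 hq)] at h1
    rw [Nat.prime_dvd_prime_iff_eq hs (Nat.prime_iff.2 hq)] at h2
    exact hrs (h1.trans h2.symm)

theorem prime_dvd_list (r : ℕ) (hr : r.Prime) :
    (r ∣ 2 ↔ r = 2) ∧ (r ∣ 3 ↔ r = 3) ∧ (r ∣ 7 ↔ r = 7) ∧ (r ∣ 4 ↔ r = 2) ∧ (r ∣ 9 ↔ r = 3) := by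
  refine ⟨Nat.prime_dvd_prime_iff_eq hr Nat.prime_two, Nat.prime_dvd_prime_iff_eq hr Nat.prime_three,
    Nat.prime_dvd_prime_iff_eq hr (by norm_num), ⟨fun h => ?_, fun h => h ▸ by norm_num⟩,
    ⟨fun h => ?_, fun h => h ▸ by norm_num⟩⟩
  · exact (Nat.prime_dvd_prime_iff_eq hr Nat.prime_two).1 (hr.dvd_of_dvd_pow (show r ∣ 2 ^ 2 from h))
  · exact (Nat.prime_dvd_prime_iff_eq hr Nat.prime_three).1 (hr.dvd_of_dvd_pow (show r ∣ 3 ^ 2 from h))

/-- The prime graph of a finite group has the prime divisors of its order as vertices, two distinct primes p, q being joined when the group has an element of order pq; two groups have the same prime graph when they have the same prime divisors and the same joined pairs. Let F be the field with 7 elements. There are finite groups of arbitrarily large order with the same prime graph as PSL(2,F) (the graph on {2, 3, 7} with no edges, which is also the prime graph of PSL(2,8)). -/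
theorem result {F : Type*} [Field F] [Fintype F] (hF : Fintype.card F = 7) (N : ℕ) :
    ∃ (H : Type) (_ : Group H) (_ : Finite H), N < Nat.card H ∧
      ((∀ p : ℕ, p.Prime → (p ∣ Nat.card (Matrix.ProjectiveSpecialLinearGroup (Fin 2) F) ↔ p ∣ Nat.card H)) ∧
      (∀ p q : ℕ, p.Prime → q.Prime → p ≠ q → ((∃ g : (Matrix.ProjectiveSpecialLinearGroup (Fin 2) F), orderOf g = p * q) ↔ (∃ g : H, orderOf g = p * q)))) := by
  classical
  have : Fact (Nat.Prime 7) := ⟨by norm_num⟩
  have : CharP F 7 := by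
    obtain ⟨p, hp⟩ := CharP.exists F
    have := hp
    obtain ⟨n, hpr, hn⟩ := FiniteField.card F p
    rw [hF] at hn
    have h7 : p ∣ 7 := hn ▸ dvd_pow_self p n.ne_zero
    rwa [(Nat.prime_dvd_prime_iff_eq hpr (by norm_num)).1 h7] at hp
  let K := GaloisField 2 3
  have : Fintype K := Fintype.ofFinite K
  have hK : Fintype.card K = 8 := by
    rw [← Nat.card_eq_fintype_card, GaloisField.card 2 3 (by norm_num)]; norm_num
  -- the graph of `PSL(2,7)`
  have hA := graph237 (G := Matrix.ProjectiveSpecialLinearGroup (Fin 2) F) 7 3 4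
    (fun g => by
      have h := psl_cases 7 g
      rwa [show halfPred (Fintype.card F) = 3 by rw [hF]; rfl,
        show halfSucc (Fintype.card F) = 4 by rw [hF]; rfl] at h)
    (exists_orderOf_char 7)
    (by
      have h := exists_orderOf_split (F := F) (by omega)
      rwa [show halfPred (Fintype.card F) = 3 by rw [hF]; rfl] at h)
    (by
      have h := exists_orderOf_nonsplit (F := F) 7
      rwa [show halfSucc (Fintype.card F) = 4 by rw [hF]; rfl] at h)
    (fun r hr => by
      obtain ⟨h2, h3, h7, h4, h9⟩ := prime_dvd_list r hr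
      rw [h7, h3, h4]; tauto)
    (by
      intro e he
      simp at he
      rcases he with rfl | rfl | rfl
      · exact (show Nat.Prime 7 by norm_num).isPrimePow
      · exact Nat.prime_three.isPrimePow
      · exact ⟨2, 2, Nat.prime_two.prime, two_pos, rfl⟩)
  -- the graph of `SL(2,8)`
  let L := Matrix.SpecialLinearGroup (Fin 2) K
  have e : Matrix.ProjectiveSpecialLinearGroup (Fin 2) K ≃* L :=
    (QuotientGroup.quotientMulEquivOfEq (center_eq_bot (F := K))).trans QuotientGroup.quotientBot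
  have hB := graph237 (G := Matrix.ProjectiveSpecialLinearGroup (Fin 2) K) 2 7 9
    (fun g => by
      have h := psl_cases 2 g
      rwa [show halfPred (Fintype.card K) = 7 by rw [hK]; rfl,
        show halfSucc (Fintype.card K) = 9 by rw [hK]; rfl] at h)
    (exists_orderOf_char 2)
    (by
      have h := exists_orderOf_split (F := K) (by omega)
      rwa [show halfPred (Fintype.card K) = 7 by rw [hK]; rfl] at h)
    (by
      have h := exists_orderOf_nonsplit (F := K) 2
      rwa [show halfSucc (Fintype.card K) = 9 by rw [hK]; rfl] at h)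
    (fun r hr => by
      obtain ⟨h2, h3, h7, h4, h9⟩ := prime_dvd_list r hr
      rw [h2, h7, h9]; tauto)
    (by
      intro e he
      simp at he
      rcases he with rfl | rfl | rfl
      · exact Nat.prime_two.isPrimePow
      · exact (show Nat.Prime 7 by norm_num).isPrimePow
      · exact ⟨3, 2, Nat.prime_three.prime, two_pos, rfl⟩)
  have := finite_ext (Cfsg.Agent.S3660.natAct K N)
  obtain ⟨h1, h2⟩ := Cfsg.Agent.S3660.natExt_graph K N
  refine ⟨Multiplicative (Fin N → Fin 2 → K) ⋊[Cfsg.Agent.S3660.natAct K N] L, inferInstance, inferInstance, ?_, fun p hp => ?_, fun p q hp hq hpq => ?_⟩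
  · show N < Nat.card (Multiplicative (Fin N → Fin 2 → K) ⋊[Cfsg.Agent.S3660.natAct K N] L)
    rw [natCard_ext]
    have hW : Nat.card (Multiplicative (Fin N → Fin 2 → K)) = 64 ^ N := by
      rw [Nat.card_congr Multiplicative.toAdd, Nat.card_eq_fintype_card]
      simp [hK]
    rw [hW]
    calc N < 64 ^ N := Nat.lt_pow_self (by norm_num)
      _ ≤ 64 ^ N * Nat.card L := Nat.le_mul_of_pos_right _ Nat.card_pos
  · rw [hA.1 p hp, ← h1 p hp, ← Nat.card_congr e.toEquiv, hB.1 p hp]
  · refine iff_of_false (hA.2 p q hp hq hpq) ?_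
    rw [← h2 p q hp hq hpq, ← exists_orderOf_congr e]
    exact hB.2 p q hp hq hpq

end Cfsg.Agent.S3678
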