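import Cfsg.Statements.S3680
import Cfsg.Agent.Lib.Recog.CharSimple
import Cfsg.Agent.Lib.Solvable.Basic
import Mathlib.GroupTheory.GroupAction.Primitive
-- import your own Cfsg.Agent.* helpers here

set_option autoImplicit false
open Cfsg

namespace Cfsg.Agent.S3680

open MulAction

/-- An element fixing a point and centralising a transitive subgroup is trivial. -/
theorem eq_one_of_fix {G Ω : Type*} [Group G] [MulAction G Ω] [FaithfulSMul G Ω] (A : Subgroup G)
    (hA : IsPretransitive A Ω) (x : G) (hx : ∀ a ∈ A, a * x = x * a) (ω : Ω) (hω : x • ω = ω) :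
    x = 1 := by
  refine eq_of_smul_eq_smul (α := Ω) fun z => ?_
  obtain ⟨a, rfl⟩ := exists_smul_eq A ω z
  rw [one_smul, Subgroup.smul_def, ← mul_smul, ← hx a a.2, mul_smul, hω]


/-- The socle of a finite primitive permutation group. Let a finite group G act faithfully and primitively on a set Ω, and let N be the subgroup generated by the minimal normal subgroups of G. Then either N is an elementary abelian p-group for some prime p and acts regularly on Ω (transitively with trivial point stabilizers), or N is isomorphic to a direct product of m ≥ 1 copies of a non-abelian simple group. -/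
theorem result {G Ω : Type*} [Group G] [Finite G] [MulAction G Ω] [FaithfulSMul G Ω] [Finite Ω]
    (hprim : MulAction.IsPreprimitive G Ω) (N : Subgroup G)
    (hN : N = sSup {V : Subgroup G | V.Normal ∧ V ≠ ⊥ ∧ ∀ M : Subgroup G, M.Normal → M ≤ V → M = ⊥ ∨ M = V}) :
    (∃ p : ℕ, p.Prime ∧ IsMulCommutative N ∧ (∀ x : N, x ^ p = 1) ∧
      MulAction.IsPretransitive N Ω ∧ ∀ ω : Ω, MulAction.stabilizer N ω = ⊥) ∨
    (∃ (T : Type) (_ : Group T) (m : ℕ), 1 ≤ m ∧ IsSimpleGroup T ∧ ¬ IsMulCommutative T ∧ Nonempty (N ≃* (Fin m → T))) := by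
  classical
  set S := {V : Subgroup G | V.Normal ∧ V ≠ ⊥ ∧ ∀ M : Subgroup G, M.Normal → M ≤ V → M = ⊥ ∨ M = V}
    with hS
  rcases subsingleton_or_nontrivial Ω with hΩ | hΩ
  · have hG : ∀ g : G, g = 1 := fun g => eq_of_smul_eq_smul (α := Ω) fun z => Subsingleton.elim _ _
    exact Or.inl ⟨2, Nat.prime_two,
      IsMulCommutative.of_setLike_mul_comm fun a _ b _ => by rw [hG a, hG b],
      fun x => Subtype.ext (hG _), ⟨fun a b => ⟨1, Subsingleton.elim _ _⟩⟩,
      fun ω => (Subgroup.eq_bot_iff_forall _).2 fun x _ => Subtype.ext (hG _)⟩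
  have htr : ∀ V : Subgroup G, V.Normal → V ≠ ⊥ → IsPretransitive V Ω := by
    intro V hV hV1
    refine IsQuasiPreprimitive.isPretransitive_of_normal (fun hfix => hV1 ?_)
    rw [Subgroup.eq_bot_iff_forall]
    intro v hv
    refine eq_of_smul_eq_smul (α := Ω) fun z => ?_
    rw [one_smul]
    exact (Set.eq_univ_iff_forall.1 hfix z) ⟨v, hv⟩
  obtain ⟨ω⟩ : Nonempty Ω := inferInstance
  have hdisj : ∀ V ∈ S, ∀ W ∈ S, V ≠ W → V ⊓ W = ⊥ := by
    intro V hV W hW hne
    have := hV.1
    have := hW.1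
    rcases hV.2.2 (V ⊓ W) inferInstance inf_le_left with h | h
    · exact h
    · rcases hW.2.2 (V ⊓ W) inferInstance inf_le_right with h' | h'
      · exact h'
      · exact absurd (h.symm.trans h') hne
  have hcomm : ∀ V ∈ S, ∀ W ∈ S, V ≠ W → ∀ a ∈ V, ∀ b ∈ W, a * b = b * a := fun V hV W hW hne =>
    Cfsg.Agent.CharSimple.commute_of_disjoint (fun b _ a ha => hV.1.conj_mem a ha b)
      (fun a _ b hb => hW.1.conj_mem b hb a) (hdisj V hV W hW hne)
  have htop : (⊤ : Subgroup G) ≠ ⊥ := by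
    intro h
    obtain ⟨a, b, hab⟩ := exists_pair_ne Ω
    obtain ⟨g, hg⟩ := exists_smul_eq G a b
    have hg1 : g = 1 := Subgroup.mem_bot.1 (h ▸ Subgroup.mem_top g)
    rw [hg1, one_smul] at hg
    exact hab hg
  obtain ⟨A, hAn, hA1, -, hAmin⟩ := Cfsg.Agent.SolvBasic.exists_minimal_normal (G := G) inferInstance htop
  have hAS : A ∈ S := ⟨hAn, hA1, hAmin⟩
  by_cases hab : ∃ V ∈ S, IsMulCommutative V
  · obtain ⟨V, hV, hVc⟩ := hab
    have := hV.1
    have hVt := htr V hV.1 hV.2.1
    have hself : ∀ c : G, (∀ a ∈ V, a * c = c * a) → c ∈ V := by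
      intro c hc
      obtain ⟨a, ha⟩ := exists_smul_eq V ω (c • ω)
      have h1 : (a : G)⁻¹ * c = 1 := eq_one_of_fix V hVt _ (fun b hb => by
        rw [← mul_assoc, setLike_mul_comm hb (V.inv_mem a.2), mul_assoc, hc b hb, mul_assoc]) ω (by
          rw [mul_smul, inv_smul_eq_iff]; exact ha.symm)
      rw [inv_mul_eq_one] at h1
      exact h1 ▸ a.2
    have huniq : ∀ W ∈ S, W = V := by
      intro W hW
      by_contra hne
      have hle : W ≤ V := fun w hw => hself w fun a ha => (hcomm V hV W hW (Ne.symm hne) a ha w hw)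
      rcases hV.2.2 W hW.1 hle with h | h
      · exact hW.2.1 h
      · exact hne h
    have hNV : N = V := by
      rw [hN]
      exact le_antisymm (sSup_le fun W hW => (huniq W hW).le) (le_sSup hV)
    obtain ⟨p, hp, hexp, -⟩ := Cfsg.Agent.SolvBasic.exists_prime_exponent_of_minimal_normal hV.2.1 hV.2.2
    subst hNV
    refine Or.inl ⟨p, hp, hVc, fun x => Subtype.ext (hexp x x.2), hVt, fun z => ?_⟩
    rw [Subgroup.eq_bot_iff_forall]
    intro x hx
    exact Subtype.ext (eq_one_of_fix N hVt x (fun b hb => setLike_mul_comm hb x.2) z hx)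
  push Not at hab
  refine Or.inr ?_
  obtain ⟨T, iT, m, hT, hm, ⟨eA⟩⟩ := Cfsg.Agent.CharSimple.minimalNormal_iso_pi A hA1 hAmin
  have hTc : ¬ IsMulCommutative T := fun hc => hab A hAS
    ⟨⟨fun a b => eA.injective (by rw [map_mul, map_mul]; exact funext fun i => hc.1.comm _ _)⟩⟩
  by_cases huniq : ∀ W ∈ S, W = A
  · have hNA : N = A := by
      rw [hN]
      exact le_antisymm (sSup_le fun W hW => (huniq W hW).le) (le_sSup hAS)
    exact ⟨T, iT, m, hm, hT, hTc, ⟨(MulEquiv.subgroupCongr hNA).trans eA⟩⟩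
  push Not at huniq
  obtain ⟨B, hBS, hBA⟩ := huniq
  have hAt := htr A hAn hA1
  have hBt := htr B hBS.1 hBS.2.1
  have hAB := hcomm A hAS B hBS (Ne.symm hBA)
  have hcentA : ∀ c : G, (∀ a ∈ A, a * c = c * a) → c ∈ B := by
    intro c hc
    obtain ⟨b, hb⟩ := exists_smul_eq B ω (c • ω)
    have h1 : (b : G)⁻¹ * c = 1 := eq_one_of_fix A hAt _ (fun a ha => by
      rw [← mul_assoc, hAB a ha _ (B.inv_mem b.2), mul_assoc, hc a ha, mul_assoc]) ω (by
        rw [mul_smul, inv_smul_eq_iff]; exact hb.symm)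
    rw [inv_mul_eq_one] at h1
    exact h1 ▸ b.2
  have hthird : ∀ W ∈ S, W = A ∨ W = B := by
    intro W hW
    by_cases hWA : W = A
    · exact Or.inl hWA
    refine Or.inr ?_
    have hle : W ≤ B := fun w hw => hcentA w fun a ha => hcomm A hAS W hW (Ne.symm hWA) a ha w hw
    rcases hBS.2.2 W hW.1 hle with h | h
    · exact absurd h hW.2.1
    · exact h
  have hNAB : N = A ⊔ B := by
    rw [hN]
    refine le_antisymm (sSup_le fun W hW => ?_) (sup_le (le_sSup hAS) (le_sSup hBS))
    rcases hthird W hW with rfl | rfl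
    · exact le_sup_left
    · exact le_sup_right
  -- `B` is isomorphic to `A`
  have hex : ∀ a : A, ∃ b : B, b • ω = (a : G)⁻¹ • ω := fun a => exists_smul_eq B ω _
  choose f hf using hex
  have hinjB : ∀ b b' : B, b • ω = b' • ω → b = b' := by
    intro b b' h
    have h1 : (b' : G)⁻¹ * b = 1 := eq_one_of_fix A hAt _ (fun a ha => by
      rw [← mul_assoc, hAB a ha _ (B.inv_mem b'.2), mul_assoc, hAB a ha _ b.2, mul_assoc]) ω (by
        rw [mul_smul, inv_smul_eq_iff]; exact h)
    exact Subtype.ext (inv_mul_eq_one.1 h1).symm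
  have hinjA : ∀ a a' : A, a • ω = a' • ω → a = a' := by
    intro a a' h
    have h1 : (a' : G)⁻¹ * a = 1 := eq_one_of_fix B hBt _ (fun b hb => by
      rw [← mul_assoc, ← hAB _ (A.inv_mem a'.2) b hb, mul_assoc, ← hAB _ a.2 b hb, mul_assoc]) ω (by
        rw [mul_smul, inv_smul_eq_iff]; exact h)
    exact Subtype.ext (inv_mul_eq_one.1 h1).symm
  let φ : A →* B := MonoidHom.mk' f fun a a' => hinjB _ _ (by
    rw [hf, mul_smul, hf]
    show _ = ((f a : B) : G) • ((a' : G)⁻¹ • ω)
    rw [← mul_smul ((f a : B) : G), ← hAB _ (A.inv_mem a'.2) _ (f a).2, mul_smul,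
      show ((f a : B) : G) • ω = (a : G)⁻¹ • ω from hf a, ← mul_smul, Subgroup.coe_mul, mul_inv_rev])
  have hφ : Function.Bijective φ := by
    constructor
    · intro a a' h
      have h' : (a : G)⁻¹ • ω = (a' : G)⁻¹ • ω := by rw [← hf, ← hf, show f a = f a' from h]
      exact inv_injective (hinjA a⁻¹ a'⁻¹ h')
    · intro b
      obtain ⟨a, ha⟩ := exists_smul_eq A ω ((b : G) • ω)
      refine ⟨a⁻¹, hinjB _ _ ?_⟩
      show f a⁻¹ • ω = b • ω
      rw [hf, Subgroup.coe_inv, inv_inv]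
      exact ha
  let eB : A ≃* B := MulEquiv.ofBijective φ hφ
  refine ⟨T, iT, m + m, by omega, hT, hTc, ⟨?_⟩⟩
  exact (MulEquiv.subgroupCongr hNAB).trans
    ((Cfsg.Agent.CharSimple.prodEquiv A B hAB (hdisj A hAS B hBS (Ne.symm hBA))).symm.trans
      ((eA.prodCongr (eB.symm.trans eA)).trans (Cfsg.Agent.CharSimple.piDouble T m)))

end Cfsg.Agent.S3680
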