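import Cfsg.Statements.S3681
import Cfsg.Agent.Lib.Recog.Bochert
-- import your own Cfsg.Agent.* helpers here

set_option autoImplicit false
open Cfsg

namespace Cfsg.Agent.S3681

/-- Bochert's bound for primitive groups. Let a finite group G act faithfully and primitively on a finite set Ω with n elements, and suppose the image of G in the symmetric group of Ω does not contain the alternating group of Ω. Then |G| · ⌊(n + 1)/2⌋! ≤ n!, that is, the index of G in the symmetric group is at least ⌊(n + 1)/2⌋!. -/
theorem result {G Ω : Type*} [Group G] [Finite G] [MulAction G Ω] [FaithfulSMul G Ω] [Fintype Ω] [DecidableEq Ω]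
    (hprim : MulAction.IsPreprimitive G Ω) (hA : ¬ alternatingGroup Ω ≤ (MulAction.toPermHom G Ω).range) :
    Nat.card G * Nat.factorial ((Fintype.card Ω + 1) / 2) ≤ Nat.factorial (Fintype.card Ω) := by
  by_cases h : ∀ D : Finset Ω, Cfsg.Agent.Bochert.IsBase G D → Fintype.card Ω < 2 * D.card
  · obtain ⟨g, hg⟩ := Cfsg.Agent.Bochert.exists_threeCycle h
    exact absurd (Cfsg.Agent.Bochert.alternating_le hprim hg) hA
  · push Not at h
    obtain ⟨D, hD, hD2⟩ := h
    refine le_trans ?_ (Cfsg.Agent.Bochert.card_mul_le D hD)
    exact Nat.mul_le_mul_left _ (Nat.factorial_le (by omega))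

end Cfsg.Agent.S3681
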