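import Cfsg.Statements.S3683
import Mathlib.GroupTheory.GroupAction.Primitive
import Mathlib.GroupTheory.SpecificGroups.Cyclic
import Mathlib.GroupTheory.Perm.Cycle.Type

set_option autoImplicit false
open Cfsg

namespace Cfsg.Agent.S3683

open MulAction

/-- Let a finite group G act faithfully and primitively on a set Ω, and suppose the stabilizer of a point a fixes a second point b ≠ a (a suborbit of length 1 other than {a}). Then the stabilizer of a is trivial and G is cyclic of prime order. -/
theorem result {G Ω : Type*} [Group G] [Finite G] [MulAction G Ω] [FaithfulSMul G Ω] [Finite Ω]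
    (hprim : MulAction.IsPreprimitive G Ω) (a b : Ω) (hab : a ≠ b) (hfix : ∀ g : G, g • a = a → g • b = b) :
    MulAction.stabilizer G a = ⊥ ∧ IsCyclic G ∧ (Nat.card G).Prime := by
  have : Nontrivial Ω := ⟨a, b, hab⟩
  have hco : IsCoatom (stabilizer G a) := IsPreprimitive.isCoatom_stabilizer_of_isPreprimitive (G := G) a
  have hle : stabilizer G a ≤ stabilizer G b := fun g hg => hfix g hg
  obtain ⟨g, hg⟩ := exists_smul_eq G a b
  have hcard : Nat.card (stabilizer G b) = Nat.card (stabilizer G a) :=
    (Nat.card_congr (stabilizerEquivStabilizer (g := g) hg.symm).toEquiv).symm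
  have heq : stabilizer G a = stabilizer G b := Subgroup.eq_of_le_of_card_ge hle hcard.le
  have hnorm : (stabilizer G a).Normal := by
    rw [← Subgroup.normalizer_eq_top_iff]
    have hgN : g ∈ Subgroup.normalizer (stabilizer G a : Set G) := by
      refine Subgroup.mem_normalizer_iff.2 fun x => ?_
      show x ∈ stabilizer G a ↔ g * x * g⁻¹ ∈ stabilizer G a
      conv_rhs => rw [heq]
      simp only [mem_stabilizer_iff, ← hg, mul_smul, inv_smul_smul]
      exact (smul_left_cancel_iff g).symm
    rcases hco.le_iff.1 (Subgroup.le_normalizer (H := stabilizer G a)) with h | h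
    · exact h
    · exfalso
      rw [h] at hgN
      exact hab (by rw [← hg]; exact (mem_stabilizer_iff.1 hgN).symm)
  have hbot : stabilizer G a = ⊥ := by
    rw [Subgroup.eq_bot_iff_forall]
    intro x hx
    apply eq_of_smul_eq_smul (α := Ω)
    intro y
    obtain ⟨k, rfl⟩ := exists_smul_eq G a y
    have h1 := hnorm.conj_mem x hx k⁻¹
    rw [inv_inv] at h1
    have h2 : (k⁻¹ * x * k) • a = a := h1
    rw [mul_smul, mul_smul, inv_smul_eq_iff] at h2
    rw [one_smul, h2]
  rw [hbot] at hco
  have hnt : Nontrivial G := by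
    refine ⟨g, 1, fun h => hab ?_⟩
    rw [← hg, h, one_smul]
  obtain ⟨p, hp, hpd⟩ := Nat.exists_prime_and_dvd (Finite.one_lt_card (α := G)).ne'
  have : Fact p.Prime := ⟨hp⟩
  obtain ⟨x, hx⟩ := exists_prime_orderOf_dvd_card' p hpd
  have htop : Subgroup.zpowers x = ⊤ := by
    rcases hco.le_iff.1 (bot_le (a := Subgroup.zpowers x)) with h | h
    · exact h
    · exfalso
      rw [Subgroup.zpowers_eq_bot] at h
      rw [h, orderOf_one] at hx
      exact hp.ne_one hx.symm
  have hc : Nat.card G = p := by
    rw [← Subgroup.card_top (G := G), ← htop, Nat.card_zpowers, hx]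
  exact ⟨hbot, ⟨⟨x, fun y => by rw [← Subgroup.mem_zpowers_iff, htop]; trivial⟩⟩, hc ▸ hp⟩

end Cfsg.Agent.S3683
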