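import Cfsg.Statements.S3684
import Mathlib.GroupTheory.GroupAction.Primitive
import Mathlib.GroupTheory.SpecificGroups.Dihedral
import Mathlib.GroupTheory.Perm.Cycle.Type
import Mathlib.GroupTheory.Index

set_option autoImplicit false
open Cfsg

namespace Cfsg.Agent.S3684

open MulAction

theorem dihedral_of_gen {G : Type*} [Group G] [Finite G] (p : ℕ) [NeZero p] (hG : Nat.card G = 2 * p)
    (t x : G) (ht : t * t = 1) (hx : orderOf x = p) (hinv : t * x * t⁻¹ = x⁻¹)
    (hnot : t ∉ Subgroup.zpowers x) : Nonempty (G ≃* DihedralGroup p) := by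
  have htinv : t⁻¹ = t := inv_eq_of_mul_eq_one_left ht
  have hp : x ^ p = 1 := hx ▸ pow_orderOf_eq_one x
  let pw : ZMod p → G := fun i => x ^ i.val
  have hadd : ∀ i j, pw (i + j) = pw i * pw j := fun i j => by
    show x ^ (i + j).val = x ^ i.val * x ^ j.val
    rw [ZMod.val_add, ← pow_add, ← pow_mod_orderOf x (i.val + j.val), hx]
  have h0 : pw 0 = 1 := by simp [pw]
  have hneg : ∀ i, pw (-i) = (pw i)⁻¹ := fun i => by
    rw [eq_inv_iff_mul_eq_one, ← hadd, neg_add_cancel, h0]
  have hsub : ∀ i j, pw (i - j) = pw i * (pw j)⁻¹ := fun i j => by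
    rw [sub_eq_add_neg, hadd, hneg]
  have hflip : ∀ i, t * pw i = (pw i)⁻¹ * t := fun i => by
    have h1 : t * pw i * t⁻¹ = (pw i)⁻¹ := by
      show t * x ^ i.val * t⁻¹ = (x ^ i.val)⁻¹
      rw [← conj_pow, hinv, inv_pow]
    rw [← h1, inv_mul_cancel_right]
  have hflip' : ∀ i, pw i * t = t * (pw i)⁻¹ := fun i => by
    rw [← hneg, hflip, hneg, inv_inv]
  have hcomm : ∀ i j, Commute (pw i) (pw j) := fun i j => Commute.pow_pow_self _ _ _
  let f : DihedralGroup p → G := fun d => match d with
    | .r i => pw i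
    | .sr i => t * pw i
  have hmul : ∀ a b, f (a * b) = f a * f b := by
    rintro (i | i) (j | j)
    · simpa [f] using hadd i j
    · simp only [f, DihedralGroup.r_mul_sr]
      rw [← mul_assoc, hflip', mul_assoc, hsub, (hcomm j i).inv_right.eq]
    · simp only [f, DihedralGroup.sr_mul_r]
      rw [hadd, mul_assoc]
    · simp only [f, DihedralGroup.sr_mul_sr]
      rw [show t * pw i * (t * pw j) = t * (pw i * t) * pw j by group, hflip', ← mul_assoc t, ht,
        one_mul, hsub, (hcomm j i).inv_right.eq]
  have hinj : Function.Injective f := by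
    have hpw : Function.Injective pw := fun i j h => by
      have h' : x ^ i.val = x ^ j.val := h
      rw [pow_inj_mod, hx, Nat.mod_eq_of_lt (ZMod.val_lt i), Nat.mod_eq_of_lt (ZMod.val_lt j)] at h'
      exact ZMod.val_injective p h'
    have hz : ∀ i j, t * pw i ≠ pw j := fun i j h => hnot (by
      rw [← mul_inv_cancel_right t (pw i), h]
      exact Subgroup.mul_mem _ (Subgroup.npow_mem_zpowers _ _)
        (Subgroup.inv_mem _ (Subgroup.npow_mem_zpowers _ _)))
    rintro (i | i) (j | j) h
    · rw [hpw h]
    · exact absurd h.symm (hz j i)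
    · exact absurd h (hz i j)
    · rw [hpw (mul_left_cancel h)]
  exact ⟨(MulEquiv.ofBijective (MonoidHom.mk' f hmul)
    ((Nat.bijective_iff_injective_and_card f).2 ⟨hinj, by rw [hG, DihedralGroup.nat_card]⟩)).symm⟩

/-- Let a finite group G act faithfully and primitively on a set Ω, and suppose the stabilizer of a point a has an orbit of length 2. Then the stabilizer of a has order 2 and G is isomorphic to the dihedral group of order 2p for some prime p. -/
theorem result {G Ω : Type*} [Group G] [Finite G] [MulAction G Ω] [FaithfulSMul G Ω] [Finite Ω]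
    (hprim : MulAction.IsPreprimitive G Ω) (a b : Ω) (h2 : Nat.card (MulAction.orbit (MulAction.stabilizer G a) b) = 2) :
    Nat.card (MulAction.stabilizer G a) = 2 ∧ ∃ p : ℕ, p.Prime ∧ Nonempty (G ≃* DihedralGroup p) := by
  have hne : a ≠ b := by
    rintro rfl
    have : Subsingleton (orbit (stabilizer G a) a) := ⟨fun ⟨u, hu⟩ ⟨v, hv⟩ => by
      obtain ⟨g, rfl⟩ := mem_orbit_iff.1 hu
      obtain ⟨k, rfl⟩ := mem_orbit_iff.1 hv
      exact Subtype.ext ((g.2 : (g : G) • a = a).trans (k.2 : (k : G) • a = a).symm)⟩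
    have := Finite.card_le_one_iff_subsingleton.2 this
    omega
  have : Nontrivial Ω := ⟨a, b, hne⟩
  have hco : IsCoatom (stabilizer G a) := IsPreprimitive.isCoatom_stabilizer_of_isPreprimitive (G := G) a
  set I := stabilizer G a ⊓ stabilizer G b with hI
  have hidx : (I.subgroupOf (stabilizer G a)).index = 2 := by
    rw [← h2, Nat.card_coe_set_eq, ← index_stabilizer]
    congr 1
    ext g
    simp [hI, Subgroup.mem_subgroupOf, Subgroup.smul_def]
  obtain ⟨g, hg⟩ := exists_smul_eq G a b
  have hcard : Nat.card (stabilizer G b) = Nat.card (stabilizer G a) :=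
    (Nat.card_congr (stabilizerEquivStabilizer (g := g) hg.symm).toEquiv).symm
  have hidxb : (I.subgroupOf (stabilizer G b)).index = 2 := by
    have c1 := (I.subgroupOf (stabilizer G a)).card_mul_index
    have c2 := (I.subgroupOf (stabilizer G b)).card_mul_index
    rw [Nat.card_congr (Subgroup.subgroupOfEquivOfLe (inf_le_left : I ≤ stabilizer G a)).toEquiv,
      hidx] at c1
    rw [Nat.card_congr (Subgroup.subgroupOfEquivOfLe (inf_le_right : I ≤ stabilizer G b)).toEquiv,
      hcard, ← c1] at c2
    exact Nat.eq_of_mul_eq_mul_left Nat.card_pos c2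
  have hIbot : I = ⊥ := by
    have hn : I.Normal := by
      rw [← Subgroup.normalizer_eq_top_iff]
      have ha' : stabilizer G a ≤ Subgroup.normalizer (I : Set G) :=
        (Subgroup.normal_subgroupOf_iff_le_normalizer inf_le_left).1
          (Subgroup.normal_of_index_eq_two hidx)
      have hb' : stabilizer G b ≤ Subgroup.normalizer (I : Set G) :=
        (Subgroup.normal_subgroupOf_iff_le_normalizer inf_le_right).1
          (Subgroup.normal_of_index_eq_two hidxb)
      rcases hco.le_iff.1 ha' with h | h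
      · exact h
      · exfalso
        rw [h] at hb'
        have he := Subgroup.eq_of_le_of_card_ge hb' hcard.ge
        have : I = stabilizer G a := by rw [hI, he, inf_idem]
        rw [this, Subgroup.subgroupOf_self, Subgroup.index_top] at hidx
        omega
    rw [Subgroup.eq_bot_iff_forall]
    intro x hx
    apply eq_of_smul_eq_smul (α := Ω)
    intro y
    obtain ⟨k, rfl⟩ := exists_smul_eq G a y
    have h1 := (hn.conj_mem x hx k⁻¹).1
    rw [inv_inv] at h1
    have h2 : (k⁻¹ * x * k) • a = a := h1
    rw [mul_smul, mul_smul, inv_smul_eq_iff] at h2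
    rw [one_smul, h2]
  have hA : Nat.card (stabilizer G a) = 2 := by
    rw [hIbot, Subgroup.bot_subgroupOf, Subgroup.index_bot] at hidx
    exact hidx
  refine ⟨hA, ?_⟩
  obtain ⟨t, ht⟩ := exists_prime_orderOf_dvd_card' (G := stabilizer G a) 2 (by rw [hA])
  have htop : Subgroup.zpowers (t : G) = stabilizer G a := by
    refine Subgroup.eq_of_le_of_card_ge (Subgroup.zpowers_le.2 t.2) ?_
    rw [Nat.card_zpowers, Subgroup.orderOf_coe, ht, hA]
  -- the point stabiliser is not normal
  have hnn : ¬ (stabilizer G a).Normal := by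
    intro hn
    have : ∀ x ∈ stabilizer G a, x = 1 := fun x hx => by
      apply eq_of_smul_eq_smul (α := Ω)
      intro y
      obtain ⟨k, rfl⟩ := exists_smul_eq G a y
      have h1 := hn.conj_mem x hx k⁻¹
      rw [inv_inv] at h1
      have h2 : (k⁻¹ * x * k) • a = a := h1
      rw [mul_smul, mul_smul, inv_smul_eq_iff] at h2
      rw [one_smul, h2]
    rw [(Subgroup.eq_bot_iff_forall _).2 this, Subgroup.card_bot] at hA
    omega
  set s : G := g * (t : G) * g⁻¹ with hs
  have hs1 : s ≠ (t : G) := by
    intro he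
    apply hnn
    rw [← Subgroup.normalizer_eq_top_iff]
    have hgc : g ∈ Subgroup.normalizer (stabilizer G a : Set G) := by
      rw [← htop]
      refine Subgroup.mem_normalizer_iff.2 fun y => ?_
      rw [Subgroup.mem_zpowers_iff, Subgroup.mem_zpowers_iff]
      constructor
      · rintro ⟨k, rfl⟩
        refine ⟨k, ?_⟩
        conv_lhs => rw [← he, hs, conj_zpow]
      · rintro ⟨k, hk⟩
        refine ⟨k, ?_⟩
        rw [← he, hs, conj_zpow] at hk
        exact mul_left_cancel (mul_right_cancel hk)
    rcases hco.le_iff.1 (Subgroup.le_normalizer (H := stabilizer G a)) with h | h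
    · exact h
    · exfalso
      rw [h] at hgc
      exact hne (hg ▸ (hgc : g • a = a).symm)
  have ht2 : (t : G) * t = 1 := by
    rw [← pow_two, ← ht, ← Subgroup.orderOf_coe, pow_orderOf_eq_one]
  have htinv : (t : G)⁻¹ = t := inv_eq_of_mul_eq_one_left ht2
  have hs2 : s * s = 1 := by
    rw [hs, show g * (t : G) * g⁻¹ * (g * t * g⁻¹) = g * ((t : G) * t) * g⁻¹ by group, ht2]
    group
  set x := (t : G) * s with hx
  have hinv : (t : G) * x * (t : G)⁻¹ = x⁻¹ := by
    rw [hx, mul_inv_rev, inv_eq_of_mul_eq_one_left hs2, ← mul_assoc (t : G) (t : G) s, ht2, one_mul]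
  have hx1 : x ≠ 1 := fun h => hs1 (by
    rw [hx, mul_eq_one_iff_eq_inv] at h
    rw [h, inv_eq_of_mul_eq_one_left hs2])
  obtain ⟨p, hp, hpd⟩ := Nat.exists_prime_and_dvd
    (show orderOf x ≠ 1 from fun h => hx1 (orderOf_eq_one_iff.1 h))
  set y := x ^ (orderOf x / p) with hy
  have hop : orderOf y = p := orderOf_pow_orderOf_div (orderOf_pos x).ne' hpd
  have hyinv : (t : G) * y * (t : G)⁻¹ = y⁻¹ := by rw [hy, ← conj_pow, hinv, inv_pow]
  have hnot : (t : G) ∉ Subgroup.zpowers y := by
    intro h
    have h' : (t : G) ∈ Subgroup.zpowers x :=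
      (Subgroup.zpowers_le.2 (Subgroup.npow_mem_zpowers x _)) h
    obtain ⟨k, hk⟩ := Subgroup.mem_zpowers_iff.1 h'
    have hc : Commute (t : G) x := hk ▸ (Commute.refl x).zpow_left k
    have hsx : s = (t : G) * x := by rw [hx, ← mul_assoc, ht2, one_mul]
    have hts : Commute (t : G) s := hsx ▸ (Commute.refl _).mul_right hc
    apply hnn
    rw [← Subgroup.normalizer_eq_top_iff]
    have hsN : s ∈ Subgroup.normalizer (stabilizer G a : Set G) := by
      rw [← htop]
      refine Subgroup.mem_normalizer_iff.2 fun z => ?_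
      constructor
      · intro hz
        obtain ⟨k, rfl⟩ := Subgroup.mem_zpowers_iff.1 hz
        rw [(hts.zpow_left k).symm.eq, mul_inv_cancel_right]
        exact hz
      · intro hz
        obtain ⟨k, hk'⟩ := Subgroup.mem_zpowers_iff.1 hz
        have : z = s⁻¹ * (t : G) ^ k * s := by rw [hk']; group
        rw [this, mul_assoc, (hts.zpow_left k).eq, inv_mul_cancel_left]
        exact Subgroup.zpow_mem _ (Subgroup.mem_zpowers _) k
    rcases hco.le_iff.1 (Subgroup.le_normalizer (H := stabilizer G a)) with h2' | h2'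
    · exact h2'
    · exfalso
      rw [h2', ← htop] at hsN
      obtain ⟨k, hk'⟩ := Subgroup.mem_zpowers_iff.1 hsN
      have hmod := zpow_mod_orderOf (t : G) k
      rw [Subgroup.orderOf_coe, ht, hk'] at hmod
      rcases (show k % 2 = 0 ∨ k % 2 = 1 by omega) with hk2 | hk2
      · rw [show k % ((2 : ℕ) : ℤ) = 0 from hk2, zpow_zero, eq_comm, hs, conj_eq_one_iff] at hmod
        rw [← Subgroup.orderOf_coe, hmod, orderOf_one] at ht
        omega
      · rw [show k % ((2 : ℕ) : ℤ) = 1 from hk2, zpow_one] at hmod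
        exact hs1 hmod.symm
  let L : Subgroup G :=
    { carrier := {z | z ∈ Subgroup.zpowers y ∨ z * (t : G) ∈ Subgroup.zpowers y}
      one_mem' := Or.inl (Subgroup.one_mem _)
      mul_mem' := by
        have key : ∀ z ∈ Subgroup.zpowers y, (t : G) * z * t ∈ Subgroup.zpowers y := by
          intro z hz
          obtain ⟨k, rfl⟩ := Subgroup.mem_zpowers_iff.1 hz
          refine Subgroup.mem_zpowers_iff.2 ⟨-k, ?_⟩
          rw [zpow_neg, ← inv_zpow, ← hyinv, conj_zpow, htinv]
        rintro u v (hu | hu) (hv | hv)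
        · exact Or.inl (Subgroup.mul_mem _ hu hv)
        · refine Or.inr ?_
          rw [mul_assoc]; exact Subgroup.mul_mem _ hu hv
        · refine Or.inr ?_
          rw [show u * v * (t : G) = (u * t) * ((t : G)⁻¹ * v * t) by group, htinv]
          exact Subgroup.mul_mem _ hu (key v hv)
        · refine Or.inl ?_
          rw [show u * v = (u * t) * ((t : G)⁻¹ * (v * t) * (t : G)⁻¹) by group, htinv]
          exact Subgroup.mul_mem _ hu (key _ hv)
      inv_mem' := by
        rintro u (hu | hu)
        · exact Or.inl (Subgroup.inv_mem _ hu)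
        · refine Or.inr ?_
          have h1 := Subgroup.inv_mem _ hu
          obtain ⟨k, hk⟩ := Subgroup.mem_zpowers_iff.1 h1
          rw [mul_inv_rev, htinv] at hk
          refine Subgroup.mem_zpowers_iff.2 ⟨-k, ?_⟩
          rw [zpow_neg, ← inv_zpow, ← hyinv, conj_zpow, hk, htinv, ← mul_assoc, ht2, one_mul] }
  have hLtop : L = ⊤ := by
    have hlt : stabilizer G a ≤ L := by
      rw [← htop]
      exact Subgroup.zpowers_le.2 (Or.inr (by rw [ht2]; exact Subgroup.one_mem _))
    rcases hco.le_iff.1 hlt with h | h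
    · exact h
    · exfalso
      have hy' : y ∈ L := Or.inl (Subgroup.mem_zpowers y)
      rw [h, ← htop] at hy'
      have := orderOf_dvd_of_mem_zpowers hy'
      rw [hop, Subgroup.orderOf_coe, ht, Nat.prime_dvd_prime_iff_eq hp Nat.prime_two] at this
      -- `y` would be the involution `t`
      apply hnot
      have heq : Subgroup.zpowers y = Subgroup.zpowers (t : G) :=
        Subgroup.eq_of_le_of_card_ge (Subgroup.zpowers_le.2 hy')
          (by rw [Nat.card_zpowers, Nat.card_zpowers, hop, Subgroup.orderOf_coe, ht, this])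
      rw [heq]
      exact Subgroup.mem_zpowers _
  have hcG : Nat.card G = 2 * p := by
    have hbij : Function.Bijective (fun z : Bool × Subgroup.zpowers y =>
        (z.2 : G) * (if z.1 then (t : G) else 1)) := by
      constructor
      · rintro ⟨i, u⟩ ⟨j, v⟩ h
        cases i <;> cases j <;> simp at h
        · subst h; rfl
        · exfalso; apply hnot
          rw [← inv_mul_cancel_left (v : G) (t : G), ← h]
          exact Subgroup.mul_mem _ (Subgroup.inv_mem _ v.2) u.2
        · exfalso; apply hnot
          rw [← inv_mul_cancel_left (u : G) (t : G), h]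
          exact Subgroup.mul_mem _ (Subgroup.inv_mem _ u.2) v.2
        · subst h; rfl
      · intro z
        have hz : z ∈ L := hLtop ▸ Subgroup.mem_top z
        rcases hz with h | h
        · exact ⟨(false, ⟨z, h⟩), by simp⟩
        · exact ⟨(true, ⟨z * t, h⟩), by simp [mul_assoc, ht2]⟩
    rw [← Nat.card_eq_of_bijective _ hbij, Nat.card_prod, Nat.card_zpowers, hop,
      Nat.card_eq_fintype_card, Fintype.card_bool]
  have : NeZero p := ⟨hp.ne_zero⟩
  exact ⟨p, hp, dihedral_of_gen p hcG (t : G) y ht2 hop hyinv hnot⟩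

end Cfsg.Agent.S3684
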