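import Cfsg.Statements.S3685
import Cfsg.Agent.Lib.Sims.Apply

set_option autoImplicit false
open Cfsg

namespace Cfsg.Agent.S3685

/-- Let a finite group G act faithfully and primitively on a set Ω, and suppose the stabilizer of a point a has an orbit of length 3. Then the stabilizer of a is isomorphic to one of: the cyclic group of order 3, the symmetric group of degree 3, the dihedral group of order 12, the symmetric group of degree 4, or the direct product of the symmetric group of degree 4 with a group of order 2. -/
theorem result {G Ω : Type*} [Group G] [Finite G] [MulAction G Ω] [FaithfulSMul G Ω] [Finite Ω]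
    (hprim : MulAction.IsPreprimitive G Ω) (a b : Ω) (h3 : Nat.card (MulAction.orbit (MulAction.stabilizer G a) b) = 3) :
    Nonempty (MulAction.stabilizer G a ≃* Multiplicative (ZMod 3)) ∨ Nonempty (MulAction.stabilizer G a ≃* Equiv.Perm (Fin 3)) ∨
      Nonempty (MulAction.stabilizer G a ≃* DihedralGroup 6) ∨ Nonempty (MulAction.stabilizer G a ≃* Equiv.Perm (Fin 4)) ∨
      Nonempty (MulAction.stabilizer G a ≃* Equiv.Perm (Fin 4) × Multiplicative (ZMod 2)) := by
  rcases Cfsg.Agent.Sims.suborbit_three hprim a b h3 with h | ⟨s, hs, hq⟩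
  · haveI : Fact (Nat.Prime 3) := ⟨Nat.prime_three⟩
    haveI : IsCyclic ↥(MulAction.stabilizer G a) := isCyclic_of_prime_card h
    exact Or.inl ⟨mulEquivOfCyclicCardEq (by
      rw [h, Nat.card_congr Multiplicative.toAdd, Nat.card_zmod])⟩
  · have h1 := s.n_pos
    have h4 := s.n_le_four
    rw [← hs]
    obtain hn | hn | hn | hn : s.n = 1 ∨ s.n = 2 ∨ s.n = 3 ∨ s.n = 4 := by omega
    · exact Or.inr (Or.inl (s.iso_three hn hq))
    · exact Or.inr (Or.inr (Or.inl (s.iso_twelve hn hq)))
    · exact Or.inr (Or.inr (Or.inr (Or.inl (s.iso_twentyfour hn).2)))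
    · exact Or.inr (Or.inr (Or.inr (Or.inr (s.iso_fortyeight hn).2)))

end Cfsg.Agent.S3685
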