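import Cfsg.Statements.S3686
import Cfsg.Agent.Lib.Sims.Apply
import Cfsg.Agent.Lib.Char.Burnside
import Cfsg.Agent.Lib.SubThree.CaseThree
import Cfsg.Agent.Lib.SubThree.CaseTwelve
import Cfsg.Agent.Lib.SubThree.CaseFour
import Cfsg.Agent.Lib.SubThree.CaseEight

set_option autoImplicit false
open Cfsg

namespace Cfsg.Agent.S3686

open Cfsg.Agent.SubThree Subgroup

universe u

theorem perm_three_facts : ∃ r : Equiv.Perm (Fin 3), r ^ 3 = 1 ∧ r ≠ 1 ∧
    (∀ a, a * r * a⁻¹ = r ∨ a * r * a⁻¹ = r⁻¹) ∧ (∀ a, a * r = r * a → a = 1 ∨ a = r ∨ a = r ^ 2) :=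
  ⟨Equiv.swap 0 1 * Equiv.swap 1 2, by decide +kernel⟩

theorem core_cases {G : Type u} [Group G] [Finite G] {A : Subgroup G} (P : Prim A)
    (h : Nat.card A = 3 ∨ ∃ g : G, ∃ n : ℕ, Nat.card (A ⊓ cj g A : Subgroup G) = 2 ^ n ∧
      ((n = 1 ∧ Nonempty (A ≃* Equiv.Perm (Fin 3))) ∨ (n = 2 ∧ Nonempty (A ≃* DihedralGroup 6)) ∨
        (n = 3 ∧ Nonempty (A ≃* Equiv.Perm (Fin 4))) ∨
        (n = 4 ∧ Nonempty (A ≃* Equiv.Perm (Fin 4) × Multiplicative (ZMod 2))))) : Listed G := by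
  haveI : Fact (Nat.Prime 3) := ⟨Nat.prime_three⟩
  rcases h with h | ⟨g, n, hn, ⟨-, ⟨e⟩⟩ | ⟨-, ⟨e⟩⟩ | ⟨rfl, ⟨e⟩⟩ | ⟨rfl, ⟨e⟩⟩⟩
  · obtain ⟨x, hx, hx1⟩ : ∃ x ∈ A, x ≠ 1 := by
      obtain ⟨⟨x, hx⟩, hx1⟩ := Subgroup.ne_bot_iff_exists_ne_one.1
        (fun e : A = ⊥ => by rw [e, Subgroup.card_bot] at h; omega)
      exact ⟨x, hx, fun e => hx1 (Subtype.ext e)⟩
    have hxo : orderOf x = 3 := ((Nat.dvd_prime Nat.prime_three).1
      (h ▸ Subgroup.orderOf_dvd_natCard A hx)).resolve_left (mt orderOf_eq_one_iff.1 hx1)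
    have hA : zpowers x = A := eq_of_le_of_card_ge (zpowers_le.2 hx) (by rw [Nat.card_zpowers, hxo, h])
    exact case_three P hx hxo (hA.symm ▸ le_normalizer) (fun a ha _ => hA.symm ▸ ha) (by omega)
  · obtain ⟨r, hr3, hr1, hrn, hrc⟩ := perm_three_facts
    let f : Equiv.Perm (Fin 3) →* G := A.subtype.comp e.symm.toMonoidHom
    have hf : Function.Injective f := A.subtype_injective.comp e.symm.injective
    have hsurj : ∀ a ∈ A, ∃ b, f b = a := fun a ha => ⟨e ⟨a, ha⟩, by simp [f]⟩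
    refine case_three P (x := f r) (e.symm r).2 ?_ ?_ ?_ ?_
    · rw [orderOf_injective f hf]; exact orderOf_eq_prime hr3 hr1
    · intro a ha
      obtain ⟨b, rfl⟩ := hsurj a ha
      refine mem_normalizer_of fun y hy => ?_
      obtain ⟨i, rfl⟩ := mem_zpowers_iff.1 hy
      rw [← _root_.conj_zpow, ← map_inv, ← map_mul, ← map_mul]
      rcases hrn b with h | h <;> rw [h]
      · exact zpow_mem (mem_zpowers _) i
      · rw [map_inv]; exact zpow_mem (inv_mem (mem_zpowers _)) i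
    · intro a ha hc
      obtain ⟨b, rfl⟩ := hsurj a ha
      rw [← map_mul, ← map_mul] at hc
      rcases hrc b (hf hc) with h | h | h <;> rw [h]
      · rw [map_one]; exact Subgroup.one_mem _
      · exact mem_zpowers _
      · rw [map_pow]; exact pow_mem (mem_zpowers _) 2
    · rw [Nat.card_congr e.toEquiv, Nat.card_perm, Nat.card_fin]; rfl
  · obtain ⟨z, x, W⟩ := twelve_of_iso e
    exact case_twelve P W
  · obtain ⟨V, H⟩ := sym4_of_hom (A := A) (A.subtype.comp e.symm.toMonoidHom)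
      (A.subtype_injective.comp e.symm.injective) (by
        ext a
        exact ⟨fun ⟨b, hb⟩ => hb ▸ (e.symm b).2, fun ha => ⟨e ⟨a, ha⟩, by simp⟩⟩)
    exact case_four P H g (hn.trans (by norm_num))
  · obtain ⟨A₀, V, c, H⟩ := sym8_of_iso e
    obtain ⟨g', H'⟩ := exists_eight P H g (hn.trans (by norm_num))
    exact case_eight H'

/-- Let G be a finite insoluble group acting faithfully and primitively on a set Ω so that the stabilizer of a point a has an orbit of length 3. Then G is isomorphic to one of: the alternating or the symmetric group of degree 5, PGL(2, 7), PSL(2, 11), PSL(2, 13), PSL(2, p) for a prime p ≡ ±1 (mod 16), PSL(3, 3), or a group containing a normal subgroup of index 2 isomorphic to PSL(3, 3) with trivial centralizer. -/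
theorem result {G Ω : Type*} [Group G] [Finite G] [MulAction G Ω] [FaithfulSMul G Ω] [Finite Ω]
    (hsol : ¬ Group.IsSolvable G) (hprim : MulAction.IsPreprimitive G Ω) (a b : Ω) (h3 : Nat.card (MulAction.orbit (MulAction.stabilizer G a) b) = 3) :
    Nonempty (G ≃* alternatingGroup (Fin 5)) ∨ Nonempty (G ≃* Equiv.Perm (Fin 5)) ∨
      Nonempty (G ≃* GL (Fin 2) (ZMod 7) ⧸ Subgroup.center (GL (Fin 2) (ZMod 7))) ∨
      Nonempty (G ≃* Matrix.ProjectiveSpecialLinearGroup (Fin 2) (ZMod 11)) ∨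
      Nonempty (G ≃* Matrix.ProjectiveSpecialLinearGroup (Fin 2) (ZMod 13)) ∨
      (∃ p : ℕ, p.Prime ∧ (p % 16 = 1 ∨ p % 16 = 15) ∧ Nonempty (G ≃* Matrix.ProjectiveSpecialLinearGroup (Fin 2) (ZMod p))) ∨
      Nonempty (G ≃* Matrix.ProjectiveSpecialLinearGroup (Fin 3) (ZMod 3)) ∨
      (∃ N : Subgroup G, N.Normal ∧ N.index = 2 ∧ Subgroup.centralizer (N : Set G) = ⊥ ∧
        Nonempty (N ≃* Matrix.ProjectiveSpecialLinearGroup (Fin 3) (ZMod 3))) := by
  classical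
  haveI := hprim.toIsPretransitive
  haveI := Cfsg.Agent.TW.nontrivial_points a b h3 (by norm_num)
  set A := MulAction.stabilizer G a with hA
  have hmax : IsCoatom A := MulAction.IsPreprimitive.isCoatom_stabilizer_of_isPreprimitive G a
  have hcore : ∀ N : Subgroup G, N.Normal → N ≤ A → N = ⊥ := fun N hN hle =>
    Cfsg.Agent.Sims.eq_bot_of_fix (by rw [Subgroup.normalizer_eq_top_iff.2 hN]) hle
  have key : Nat.card A = 3 ∨ ∃ g : G, ∃ n : ℕ, Nat.card (A ⊓ cj g A : Subgroup G) = 2 ^ n ∧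
      ((n = 1 ∧ Nonempty (A ≃* Equiv.Perm (Fin 3))) ∨ (n = 2 ∧ Nonempty (A ≃* DihedralGroup 6)) ∨
        (n = 3 ∧ Nonempty (A ≃* Equiv.Perm (Fin 4))) ∨
        (n = 4 ∧ Nonempty (A ≃* Equiv.Perm (Fin 4) × Multiplicative (ZMod 2)))) := by
    rcases Cfsg.Agent.Sims.suborbit_three hprim a b h3 with h | ⟨s, hs, hq⟩
    · exact Or.inl h
    · have h1 := s.n_pos
      have h4 := s.n_le_four
      have hS := s.cardS
      rw [Cfsg.Agent.Sims.tr, zpow_one, hs] at hS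
      refine Or.inr ⟨s.g, s.n, hS, ?_⟩
      rw [show A = s.M from hs.symm]
      obtain hn | hn | hn | hn : s.n = 1 ∨ s.n = 2 ∨ s.n = 3 ∨ s.n = 4 := by omega
      · exact Or.inl ⟨hn, s.iso_three hn hq⟩
      · exact Or.inr (Or.inl ⟨hn, s.iso_twelve hn hq⟩)
      · exact Or.inr (Or.inr (Or.inl ⟨hn, (s.iso_twentyfour hn).2⟩))
      · exact Or.inr (Or.inr (Or.inr ⟨hn, (s.iso_fortyeight hn).2⟩))
  have hsolA : Group.IsSolvable A := by
    haveI : Fact (Nat.Prime 3) := ⟨Nat.prime_three⟩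
    obtain ⟨i, j, hij⟩ : ∃ i j, Nat.card A = 3 ^ i * 2 ^ j := by
      rcases key with h | ⟨g, n, -, ⟨-, ⟨e⟩⟩ | ⟨-, ⟨e⟩⟩ | ⟨-, ⟨e⟩⟩ | ⟨-, ⟨e⟩⟩⟩
      · exact ⟨1, 0, h⟩
      · exact ⟨1, 1, by rw [Nat.card_congr e.toEquiv, Nat.card_perm, Nat.card_fin]; rfl⟩
      · exact ⟨1, 2, by rw [Nat.card_congr e.toEquiv, DihedralGroup.nat_card]; rfl⟩
      · exact ⟨1, 3, by rw [Nat.card_congr e.toEquiv, Nat.card_perm, Nat.card_fin]; rfl⟩
      · exact ⟨1, 4, by
          rw [Nat.card_congr e.toEquiv, Nat.card_prod, Nat.card_perm, Nat.card_fin,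
            Nat.card_congr Multiplicative.toAdd, Nat.card_zmod]
          rfl⟩
    exact Cfsg.Agent.Char.isSolvable_of_card_pq 3 2 Nat.prime_three Nat.prime_two _ _ hij ⟨i, j, rfl⟩
  exact core_cases ⟨hmax, hcore, hsol, hsolA⟩ key

end Cfsg.Agent.S3686
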