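import Cfsg.Statements.S3696
import Mathlib.GroupTheory.PGroup
import Mathlib.GroupTheory.GroupAction.Quotient
import Mathlib.Analysis.MeanInequalities
import Mathlib.Algebra.Group.Action.End

set_option autoImplicit false
open Cfsg

namespace Cfsg.Agent.S3696

open MulAction

theorem two_pow_pred_ge : ∀ d : ℕ, 1 ≤ d → d ≤ 2 ^ (d - 1) := by
  intro d hd
  obtain ⟨k, rfl⟩ := Nat.exists_eq_add_of_le hd
  have : k < 2 ^ k := Nat.lt_two_pow_self
  simp only [Nat.add_sub_cancel_left]
  omega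

/-- One orbit. -/
theorem orbit_bound (N d p : ℕ) (hp : 2 ≤ p) (hd : 1 ≤ d) (hN : p ^ d ≤ N) : N * d ^ d ≤ N ^ d := by
  have h2 : d ^ d ≤ N ^ (d - 1) := by
    calc d ^ d ≤ (2 ^ (d - 1)) ^ d := Nat.pow_le_pow_left (two_pow_pred_ge d hd) d
      _ = (2 ^ d) ^ (d - 1) := by rw [← pow_mul, ← pow_mul, mul_comm]
      _ ≤ (p ^ d) ^ (d - 1) := Nat.pow_le_pow_left (Nat.pow_le_pow_left hp d) _
      _ ≤ N ^ (d - 1) := Nat.pow_le_pow_left hN _
  calc N * d ^ d ≤ N * N ^ (d - 1) := Nat.mul_le_mul_left _ h2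
    _ = N ^ d := by rw [← pow_succ', Nat.sub_add_cancel hd]

/-- Weighted inequality between the means. -/
theorem amgm (a b x y : ℕ) :
    a ^ x * b ^ y * (x + y) ^ (x + y) ≤ (a + b) ^ (x + y) * (x ^ x * y ^ y) := by
  rcases Nat.eq_zero_or_pos x with rfl | hx
  · simp only [pow_zero, one_mul, zero_add]
    exact Nat.mul_le_mul_right _ (Nat.pow_le_pow_left (Nat.le_add_left b a) y)
  rcases Nat.eq_zero_or_pos y with rfl | hy
  · simp only [pow_zero, mul_one, add_zero]
    exact Nat.mul_le_mul_right _ (Nat.pow_le_pow_left (Nat.le_add_right a b) x)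
  have hn : 0 < x + y := by omega
  have hxr : (0 : ℝ) < x := by exact_mod_cast hx
  have hyr : (0 : ℝ) < y := by exact_mod_cast hy
  have hnr : (0 : ℝ) < (x : ℝ) + y := by linarith
  have h := Real.geom_mean_le_arith_mean2_weighted (w₁ := (x : ℝ) / (x + y)) (w₂ := (y : ℝ) / (x + y))
    (p₁ := (a : ℝ) / x) (p₂ := (b : ℝ) / y) (by positivity) (by positivity) (by positivity)
    (by positivity) (by field_simp)
  have hrhs : (x : ℝ) / (x + y) * ((a : ℝ) / x) + (y : ℝ) / (x + y) * ((b : ℝ) / y) =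
      ((a : ℝ) + b) / (x + y) := by field_simp
  rw [hrhs] at h
  have h2 := pow_le_pow_left₀ (by positivity) h (x + y)
  rw [mul_pow, ← Real.rpow_natCast, ← Real.rpow_natCast _ (x + y), ← Real.rpow_mul (by positivity),
    ← Real.rpow_mul (by positivity)] at h2
  push_cast at h2
  rw [div_mul_cancel₀ _ hnr.ne', div_mul_cancel₀ _ hnr.ne', Real.rpow_natCast, Real.rpow_natCast] at h2
  rw [show ((x : ℝ) + y) = ((x + y : ℕ) : ℝ) by push_cast; ring, div_pow, div_pow,
    div_pow, div_mul_div_comm, div_le_div_iff₀ (by positivity) (by positivity)] at h2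
  exact_mod_cast h2

variable {Ω : Type*} [Fintype Ω] [DecidableEq Ω]

theorem card_bound (p : ℕ) [Fact p.Prime] (A E : Subgroup (Equiv.Perm Ω)) (hA : IsPGroup p A)
    (hab : ∀ a ∈ A, ∀ b ∈ A, a * b = b * a) (hE : ∀ x, x ∈ E ↔ x ∈ A ∧ x ^ p = 1) (n : ℕ) :
    ∀ (B : Subgroup (Equiv.Perm Ω)), B ≤ A → Nat.card B = n → ∀ (U : Finset Ω),
      (∀ a ∈ A, ∀ u ∈ U, a u ∈ U) → (∀ b ∈ B, ∀ u ∈ U, b u = u) → ∀ j : ℕ,
      Nat.card (B ⊓ E : Subgroup (Equiv.Perm Ω)) = p ^ j →
      Nat.card B * j ^ j ≤ (Fintype.card Ω - U.card) ^ j := by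
  have hp : p.Prime := Fact.out
  induction n using Nat.strong_induction_on with
  | _ n ih =>
    intro B hBA hn U hU hBU j hj
    by_cases hbot : B ⊓ E = ⊥
    · rw [hbot, Subgroup.card_bot] at hj
      have hj0 : j = 0 := by
        rcases Nat.pow_eq_one.1 hj.symm with h | h
        · exact absurd h hp.ne_one
        · exact h
      subst hj0
      have hB : B = ⊥ := by
        by_contra hB
        have hBp : IsPGroup p B := hA.to_le hBA
        obtain ⟨e, he⟩ := IsPGroup.iff_card.1 hBp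
        have hdvd : p ∣ Nat.card B := by
          rcases e with _ | e
          · rw [pow_zero, Subgroup.card_eq_one] at he
            exact absurd he hB
          · rw [he]; exact dvd_pow_self p e.succ_ne_zero
        obtain ⟨z, hz⟩ := exists_prime_orderOf_dvd_card' p hdvd
        have hzE : (z : Equiv.Perm Ω) ∈ B ⊓ E := ⟨z.2, (hE _).2 ⟨hBA z.2, by
          rw [← hz, ← Subgroup.orderOf_coe, pow_orderOf_eq_one]⟩⟩
        rw [hbot, Subgroup.mem_bot] at hzE
        rw [← Subgroup.orderOf_coe, hzE, orderOf_one] at hz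
        exact hp.ne_one hz.symm
      rw [hB, Subgroup.card_bot]
      simp
    obtain ⟨x, hx, hx1⟩ := (B ⊓ E).bot_or_exists_ne_one.resolve_left hbot
    obtain ⟨ω, hω⟩ : ∃ ω, x ω ≠ ω := by
      by_contra h
      push Not at h
      exact hx1 (Equiv.ext h)
    set B' : Subgroup (Equiv.Perm Ω) := B ⊓ stabilizer (Equiv.Perm Ω) ω with hB'
    set O : Finset Ω := (orbit A ω).toFinite.toFinset with hO
    have hmemO : ∀ u, u ∈ O ↔ ∃ a ∈ A, a ω = u := by
      intro u
      rw [hO, Set.Finite.mem_toFinset, mem_orbit_iff]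
      exact ⟨fun ⟨a, ha⟩ => ⟨a, a.2, ha⟩, fun ⟨a, ha, h⟩ => ⟨⟨a, ha⟩, h⟩⟩
    have hdis : Disjoint U O := by
      rw [Finset.disjoint_left]
      intro u hu huO
      obtain ⟨a, ha, rfl⟩ := (hmemO u).1 huO
      have hωU : ω ∈ U := by
        have := hU a⁻¹ (A.inv_mem ha) _ hu
        simpa using this
      exact hω (hBU x hx.1 ω hωU)
    have hB'lt : Nat.card B' < n := by
      rw [← hn]
      refine lt_of_le_of_ne (Subgroup.card_le_of_le inf_le_left) fun h => hω ?_
      have e : B' = B := Subgroup.eq_of_le_of_card_ge inf_le_left h.ge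
      have hxB' : x ∈ B' := by rw [e]; exact hx.1
      exact hxB'.2
    obtain ⟨j', hj'⟩ := IsPGroup.iff_card.1
      ((hA.to_le hBA).to_le ((inf_le_left : B' ⊓ E ≤ B').trans inf_le_left))
    have hle : B' ⊓ E ≤ B ⊓ E := inf_le_inf_right _ inf_le_left
    have hjj : j' < j := by
      have hlt : Nat.card (B' ⊓ E : Subgroup (Equiv.Perm Ω)) < Nat.card (B ⊓ E : Subgroup (Equiv.Perm Ω)) :=
        lt_of_le_of_ne (Subgroup.card_le_of_le hle) fun h => hω (by
          have h' : x ∈ B' ⊓ E := by rw [Subgroup.eq_of_le_of_card_ge hle h.ge]; exact hx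
          exact h'.1.2)
      rw [hj, hj'] at hlt
      exact (Nat.pow_lt_pow_iff_right hp.one_lt).1 hlt
    have hrec := ih _ hB'lt B' (inf_le_left.trans hBA) rfl (U ∪ O) ?_ ?_ j' hj'
    rotate_left
    · intro a ha u hu
      rw [Finset.mem_union] at hu ⊢
      rcases hu with hu | hu
      · exact Or.inl (hU a ha u hu)
      · obtain ⟨c, hc, rfl⟩ := (hmemO u).1 hu
        exact Or.inr ((hmemO _).2 ⟨a * c, A.mul_mem ha hc, rfl⟩)
    · intro b hb u hu
      rcases Finset.mem_union.1 hu with hu | hu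
      · exact hBU b hb.1 u hu
      · obtain ⟨c, hc, rfl⟩ := (hmemO u).1 hu
        have hbc := congrArg (fun σ : Equiv.Perm Ω => σ ω) (hab b (hBA hb.1) c hc)
        simp only [Equiv.Perm.mul_apply] at hbc
        rw [hbc, show b ω = ω from hb.2]
    rw [Finset.card_union_of_disjoint hdis] at hrec
    -- index bounds
    have hI : ∀ X : Subgroup (Equiv.Perm Ω), X ≤ A →
        Nat.card X ≤ O.card * Nat.card (X ⊓ stabilizer (Equiv.Perm Ω) ω : Subgroup (Equiv.Perm Ω)) := by
      intro X hX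
      have h1 : Nat.card (orbit X ω) * Nat.card (stabilizer X ω) = Nat.card X := by
        rw [Nat.card_coe_set_eq, ← index_stabilizer, mul_comm, Subgroup.card_mul_index]
      have h2 : Nat.card (stabilizer X ω) =
          Nat.card (X ⊓ stabilizer (Equiv.Perm Ω) ω : Subgroup (Equiv.Perm Ω)) :=
        Nat.card_congr
          { toFun := fun z => ⟨((z : X) : Equiv.Perm Ω), (z : X).2, z.2⟩
            invFun := fun z => ⟨⟨(z : Equiv.Perm Ω), z.2.1⟩, z.2.2⟩
            left_inv := fun z => rfl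
            right_inv := fun z => rfl }
      rw [← h1, h2]
      refine Nat.mul_le_mul_right _ ?_
      rw [Nat.card_coe_set_eq, hO, ← Set.ncard_eq_toFinset_card]
      refine Set.ncard_le_ncard ?_ (Set.toFinite _)
      rintro u ⟨g, rfl⟩
      exact ⟨⟨g, hX g.2⟩, rfl⟩
    have hI1 := hI B hBA
    have hI2 := hI (B ⊓ E) (inf_le_left.trans hBA)
    rw [show (B ⊓ E) ⊓ stabilizer (Equiv.Perm Ω) ω = B' ⊓ E by rw [hB', inf_right_comm], hj, hj'] at hI2
    obtain ⟨d, rfl⟩ := Nat.exists_eq_add_of_le hjj.le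
    have hd : 1 ≤ d := by omega
    have hNd : p ^ d ≤ O.card := by
      rw [pow_add, mul_comm] at hI2
      exact Nat.le_of_mul_le_mul_right hI2 (pow_pos hp.pos _)
    have hOb := orbit_bound O.card d p hp.two_le hd hNd
    set R' := Fintype.card Ω - (U.card + O.card) with hR'
    have hR : R' + O.card ≤ Fintype.card Ω - U.card := by
      have hle' := (U ∪ O).card_le_univ
      rw [Finset.card_union_of_disjoint hdis] at hle'
      omega
    rcases Nat.eq_zero_or_pos j' with hj0 | hj0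
    · subst hj0
      simp only [pow_zero, mul_one, zero_add] at hrec ⊢
      calc Nat.card B * d ^ d ≤ O.card * Nat.card B' * d ^ d := Nat.mul_le_mul_right _ hI1
        _ ≤ O.card * 1 * d ^ d := Nat.mul_le_mul_right _ (Nat.mul_le_mul_left _ hrec)
        _ ≤ O.card ^ d := by rw [mul_one]; exact hOb
        _ ≤ _ := Nat.pow_le_pow_left (by omega) d
    · have hpos : 0 < j' ^ j' * d ^ d := Nat.mul_pos (pow_pos hj0 _) (pow_pos hd _)
      apply Nat.le_of_mul_le_mul_right _ hpos
      calc Nat.card B * (j' + d) ^ (j' + d) * (j' ^ j' * d ^ d)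
          ≤ O.card * Nat.card B' * (j' + d) ^ (j' + d) * (j' ^ j' * d ^ d) :=
            Nat.mul_le_mul_right _ (Nat.mul_le_mul_right _ hI1)
        _ = (Nat.card B' * j' ^ j') * (O.card * d ^ d) * (j' + d) ^ (j' + d) := by ring
        _ ≤ R' ^ j' * O.card ^ d * (j' + d) ^ (j' + d) :=
            Nat.mul_le_mul_right _ (Nat.mul_le_mul hrec hOb)
        _ ≤ (R' + O.card) ^ (j' + d) * (j' ^ j' * d ^ d) := amgm _ _ _ _
        _ ≤ (Fintype.card Ω - U.card) ^ (j' + d) * (j' ^ j' * d ^ d) :=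
            Nat.mul_le_mul_right _ (Nat.pow_le_pow_left hR _)

/-- Let p be a prime, Ω a finite set with n ≥ p elements, and A an abelian p-subgroup of the symmetric group on Ω whose elements of order dividing p number p^k (so k is the rank of A). Then |A| · k^k ≤ n^k, that is, |A| ≤ (n/k)^k. -/
theorem result {Ω : Type*} [Fintype Ω] [DecidableEq Ω]
    (p : ℕ) (hp : p.Prime) (hn : p ≤ Fintype.card Ω) (A : Subgroup (Equiv.Perm Ω)) (hA : IsPGroup p A) (hab : IsMulCommutative A)
    (k : ℕ) (hk : Nat.card {x : A // x ^ p = 1} = p ^ k) :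
    Nat.card A * k ^ k ≤ Fintype.card Ω ^ k := by
  have : Fact p.Prime := ⟨hp⟩
  have hab' : ∀ a ∈ A, ∀ b ∈ A, a * b = b * a := fun a ha b hb =>
    congrArg Subtype.val (hab.1.comm (⟨a, ha⟩ : A) ⟨b, hb⟩)
  let E : Subgroup (Equiv.Perm Ω) :=
    { carrier := {x | x ∈ A ∧ x ^ p = 1}
      one_mem' := ⟨A.one_mem, one_pow p⟩
      mul_mem' := fun {a b} ha hb => ⟨A.mul_mem ha.1 hb.1, by
        rw [Commute.mul_pow (hab' a ha.1 b hb.1), ha.2, hb.2, one_mul]⟩
      inv_mem' := fun {a} ha => ⟨A.inv_mem ha.1, by rw [inv_pow, ha.2, inv_one]⟩ }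
  have h := card_bound p A E hA hab' (fun x => Iff.rfl) _ A le_rfl rfl ∅ (by simp) (by simp) k ?_
  · simpa using h
  · rw [inf_eq_right.2 (fun x hx => hx.1), ← hk]
    exact Nat.card_congr
      { toFun := fun x => ⟨⟨(x : Equiv.Perm Ω), x.2.1⟩, Subtype.ext x.2.2⟩
        invFun := fun x => ⟨((x : A) : Equiv.Perm Ω), (x : A).2, congrArg Subtype.val x.2⟩
        left_inv := fun x => rfl
        right_inv := fun x => rfl }

end Cfsg.Agent.S3696
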