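import Cfsg.Statements.S3703
import Cfsg.Agent.Lib.Recog.NormTrick
import Mathlib.GroupTheory.Sylow
import Mathlib.GroupTheory.Solvable
import Mathlib.GroupTheory.Nilpotent
import Mathlib.GroupTheory.Abelianization.Defs
import Mathlib.GroupTheory.Perm.Cycle.Type

set_option autoImplicit false
open Cfsg

namespace Cfsg.Agent.S3703

open scoped Pointwise

variable {G : Type*} [Group G] [Finite G]

/-- An element whose image has order `m` and with `z ^ m ≠ 1` gives the wanted order. -/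
theorem of_lift (N : Subgroup G) [N.Normal] (z : G) (m : ℕ) (hm : orderOf (z : G ⧸ N) = m)
    (hz : z ^ m ≠ 1) : ∃ p : ℕ, p.Prime ∧ p ∣ Nat.card N ∧ ∃ g : G, orderOf g = p * m := by
  have hmem : z ^ m ∈ N := by
    rw [← QuotientGroup.eq_one_iff, QuotientGroup.mk_pow, ← hm, pow_orderOf_eq_one]
  have hdvd : m ∣ orderOf z := hm ▸ orderOf_map_dvd (QuotientGroup.mk' N) z
  have hm0 : 0 < m := Nat.pos_of_dvd_of_pos hdvd (orderOf_pos z)
  have ho : orderOf (z ^ m) = orderOf z / m := by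
    rw [orderOf_pow, Nat.gcd_eq_right hdvd]
  obtain ⟨p, hp, hpd⟩ := Nat.exists_prime_and_dvd (show orderOf (z ^ m) ≠ 1 from fun h => hz (orderOf_eq_one_iff.1 h))
  refine ⟨p, hp, hpd.trans (by
    have h := orderOf_dvd_natCard (⟨z ^ m, hmem⟩ : N)
    rwa [Subgroup.orderOf_mk] at h), ?_⟩
  obtain ⟨t, ht⟩ := hpd
  have hoz : orderOf z = p * m * t := by
    rw [← Nat.div_mul_cancel hdvd, ← ho, ht]; ring
  refine ⟨z ^ t, ?_⟩
  have ht0 : 0 < t := by
    rcases Nat.eq_zero_or_pos t with rfl | h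
    · simp [orderOf_pos z |>.ne'] at hoz
    · exact h
  rw [orderOf_pow, hoz, Nat.gcd_mul_left_left, Nat.mul_div_cancel _ ht0]

theorem mem_conj_smul (H : Subgroup G) (g x : G) : x ∈ MulAut.conj g • H ↔ g⁻¹ * x * g ∈ H := by
  rw [Subgroup.mem_pointwise_smul_iff_inv_smul_mem]
  simp [MulAut.smul_def]

theorem pull (N : Subgroup G) [N.Normal] (l : ℕ) [Fact l.Prime] (hl : ¬ l ∣ Nat.card N)
    (Rb : Subgroup (G ⧸ N)) (hRb : IsPGroup l Rb) (L : Subgroup G) (hL : L ⊔ N = ⊤) :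
    ∃ R : Subgroup G, R ≤ L ∧ R.map (QuotientGroup.mk' N) = Rb ∧ Nat.card R = Nat.card Rb ∧
      IsPGroup l R ∧ R ⊓ N = ⊥ ∧
      ∃ S : Sylow l ((Rb.comap (QuotientGroup.mk' N) ⊓ L : Subgroup G)),
        R = (S : Subgroup (Rb.comap (QuotientGroup.mk' N) ⊓ L : Subgroup G)).map
          (Rb.comap (QuotientGroup.mk' N) ⊓ L).subtype := by
  set X : Subgroup G := Rb.comap (QuotientGroup.mk' N) ⊓ L with hX
  obtain ⟨S⟩ : Nonempty (Sylow l X) := inferInstance
  set R : Subgroup G := (S : Subgroup X).map X.subtype with hR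
  have hRp : IsPGroup l R := S.isPGroup'.map X.subtype
  have hRX : R ≤ X := Subgroup.map_subtype_le _
  have hbot : R ⊓ N = ⊥ := by
    rw [← Subgroup.card_eq_one]
    obtain ⟨a, ha⟩ := IsPGroup.iff_card.1 (hRp.to_le (inf_le_left : R ⊓ N ≤ R))
    rcases a with _ | a
    · simpa using ha
    · exact absurd ((dvd_pow_self l a.succ_ne_zero).trans (ha ▸ Subgroup.card_dvd_of_le inf_le_right)) hl
  have hle : R.map (QuotientGroup.mk' N) ≤ Rb := by
    rintro - ⟨x, hx, rfl⟩
    exact (hRX hx).1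
  have hinj : Nat.card (R.map (QuotientGroup.mk' N)) = Nat.card R := by
    rw [show R.map (QuotientGroup.mk' N) = ((QuotientGroup.mk' N).comp R.subtype).range by
      rw [MonoidHom.range_comp, Subgroup.range_subtype]]
    refine Nat.card_congr (MonoidHom.ofInjective ?_).symm.toEquiv
    intro x y h
    have h2 : (x : G)⁻¹ * y ∈ R ⊓ N := ⟨R.mul_mem (R.inv_mem x.2) y.2, QuotientGroup.eq.1 h⟩
    rw [hbot, Subgroup.mem_bot, inv_mul_eq_one] at h2
    exact Subtype.ext h2
  have hdvd : Nat.card Rb ∣ Nat.card X := by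
    refine Subgroup.card_dvd_of_surjective
      (((QuotientGroup.mk' N).comp X.subtype).codRestrict Rb fun x => x.2.1) fun x => ?_
    obtain ⟨g, hg⟩ := QuotientGroup.mk'_surjective N (x : G ⧸ N)
    have hgm : g ∈ L ⊔ N := hL ▸ Subgroup.mem_top g
    rw [Subgroup.mem_sup_of_normal_right] at hgm
    obtain ⟨a, ha, b, hb, rfl⟩ := hgm
    have hab : QuotientGroup.mk' N a = x := by
      rw [← hg, map_mul, show QuotientGroup.mk' N b = 1 from (QuotientGroup.eq_one_iff b).2 hb, mul_one]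
    exact ⟨⟨a, by rw [hX]; exact ⟨show QuotientGroup.mk' N a ∈ Rb by rw [hab]; exact x.2, ha⟩⟩, Subtype.ext hab⟩
  have hge : Nat.card Rb ∣ Nat.card R := by
    obtain ⟨a, ha⟩ := IsPGroup.iff_card.1 hRb
    rw [hR, Subgroup.card_map_of_injective X.subtype_injective, ha]
    exact S.pow_dvd_card_of_pow_dvd_card (ha ▸ hdvd)
  have hge' : Nat.card Rb ≤ Nat.card R := Nat.le_of_dvd Nat.card_pos hge
  have heq : R.map (QuotientGroup.mk' N) = Rb :=
    Subgroup.eq_of_le_of_card_ge hle (by rw [hinj]; exact hge')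
  exact ⟨R, hRX.trans inf_le_right, heq, by rw [← hinj, heq], hRp, hbot, S, hR⟩

theorem main (N : Subgroup G) [N.Normal] (l : ℕ) [Fact l.Prime] (hl : ¬ l ∣ Nat.card N)
    (Rb : Subgroup (G ⧸ N)) (hRb : IsPGroup l Rb) (hb : G ⧸ N)
    (hnorm : ∀ r ∈ Rb, hb * r * hb⁻¹ ∈ Rb)
    (hfpf : ∀ i, 0 < i → i < orderOf hb → ∀ r ∈ Rb, r * hb ^ i = hb ^ i * r → r = 1)
    (hnot : ¬ Rb ≤ (Subgroup.centralizer (N : Set G)).map (QuotientGroup.mk' N)) :
    ∃ p : ℕ, p.Prime ∧ p ∣ Nat.card N ∧ ∃ g : G, orderOf g = p * orderOf hb := by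
  classical
  set m := orderOf hb with hm
  obtain ⟨R₀, -, hR₀map, hR₀card, hR₀p, -, -⟩ := pull N l hl Rb hRb ⊤ (top_sup_eq N)
  set C₀ := N ⊓ Subgroup.centralizer (R₀ : Set G) with hC₀
  have hC₀ne : (C₀.subgroupOf N).index ≠ 1 := by
    rw [Ne, Subgroup.index_eq_one, Subgroup.subgroupOf_eq_top]
    intro hle
    apply hnot
    rw [← hR₀map]
    refine Subgroup.map_mono fun x hx => Subgroup.mem_centralizer_iff.2 fun n hn => ?_
    exact (Subgroup.mem_centralizer_iff.1 (hle hn).2 x hx).symm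
  obtain ⟨p, hp, hpd⟩ := Nat.exists_prime_and_dvd hC₀ne
  have : Fact p.Prime := ⟨hp⟩
  have hpN : p ∣ Nat.card N := hpd.trans (Subgroup.index_dvd_card _)
  have hpl : p ≠ l := fun h => hl (h ▸ hpN)
  obtain ⟨P₀⟩ : Nonempty (Sylow p N) := inferInstance
  set P : Subgroup G := (P₀ : Subgroup N).map N.subtype with hP
  have hPN : P ≤ N := Subgroup.map_subtype_le _
  set L := Subgroup.normalizer (P : Set G) with hL
  have hfrat : L ⊔ N = ⊤ := Sylow.normalizer_sup_eq_top P₀
  obtain ⟨R, hRL, hRmap, hRcard, hRp, hRN, S, hRS⟩ := pull N l hl Rb hRb L hfrat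
  -- `R` does not centralise `P`
  have hRP : ∃ r ∈ R, ∃ x ∈ P, r * x ≠ x * r := by
    by_contra hcon
    push Not at hcon
    -- both are Sylow subgroups of the preimage of `Rb`
    set X := Rb.comap (QuotientGroup.mk' N) with hX
    have hle : R ≤ X := fun r hr => by
      rw [hX, Subgroup.mem_comap, ← hRmap]; exact Subgroup.mem_map_of_mem _ hr
    have hle₀ : R₀ ≤ X := fun r hr => by
      rw [hX, Subgroup.mem_comap, ← hR₀map]; exact Subgroup.mem_map_of_mem _ hr
    have hXcard : Nat.card X = Nat.card N * Nat.card Rb := by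
      have h1 := X.card_mul_index
      have h2 : X.index = Rb.index := Subgroup.index_comap_of_surjective _ (QuotientGroup.mk'_surjective N)
      rw [h2, N.card_eq_card_quotient_mul_card_subgroup, ← Rb.card_mul_index] at h1
      apply Nat.eq_of_mul_eq_mul_right (Nat.pos_of_ne_zero Rb.index_ne_zero_of_finite)
      rw [h1]; ring
    have hpart : l ^ (Nat.card X).factorization l = Nat.card Rb := by
      obtain ⟨a, ha⟩ := IsPGroup.iff_card.1 hRb
      rw [hXcard, ha, Nat.factorization_mul Nat.card_pos.ne' (pow_ne_zero _ (Fact.out : l.Prime).ne_zero)]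
      simp [Nat.factorization_eq_zero_of_not_dvd hl, (Fact.out : l.Prime).factorization_self]
    let S₁ : Sylow l X := Sylow.ofCard (R.subgroupOf X) (by
      rw [Nat.card_congr (Subgroup.subgroupOfEquivOfLe hle).toEquiv, hpart, hRcard])
    let S₂ : Sylow l X := Sylow.ofCard (R₀.subgroupOf X) (by
      rw [Nat.card_congr (Subgroup.subgroupOfEquivOfLe hle₀).toEquiv, hpart, hR₀card])
    obtain ⟨g, hg⟩ := MulAction.exists_smul_eq X S₁ S₂
    have hgR : ∀ x, x ∈ R₀ → (g : G)⁻¹ * x * g ∈ R := by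
      intro x hx
      have h1 : (⟨x, hle₀ hx⟩ : X) ∈ ((g • S₁ : Sylow l X) : Subgroup X) := by
        rw [hg]; exact Subgroup.mem_subgroupOf.2 hx
      rw [Sylow.coe_subgroup_smul, Subgroup.mem_pointwise_smul_iff_inv_smul_mem] at h1
      simpa [MulAut.smul_def, S₁, Subgroup.mem_subgroupOf] using h1
    have hsub : ∀ x ∈ P, (g : G) * x * (g : G)⁻¹ ∈ C₀ := by
      intro x hx
      refine ⟨‹N.Normal›.conj_mem x (hPN hx) _, Subgroup.mem_centralizer_iff.2 fun r hr => ?_⟩
      have h := hcon _ (hgR r hr) x hx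
      calc r * ((g : G) * x * (g : G)⁻¹) = (g : G) * (((g : G)⁻¹ * r * g) * x) * (g : G)⁻¹ := by group
        _ = (g : G) * (x * ((g : G)⁻¹ * r * g)) * (g : G)⁻¹ := by rw [h]
        _ = (g : G) * x * (g : G)⁻¹ * r := by group
    have hdv : Nat.card P ∣ Nat.card C₀ := by
      refine Subgroup.card_dvd_of_injective
        (((MulAut.conj (g : G)).toMonoidHom.comp P.subtype).codRestrict C₀ fun x => hsub x x.2) ?_
      intro a b h
      exact Subtype.ext ((MulAut.conj (g : G)).injective (congrArg Subtype.val h))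
    have h1 := (C₀.subgroupOf N).card_mul_index
    rw [Nat.card_congr (Subgroup.subgroupOfEquivOfLe (inf_le_left : C₀ ≤ N)).toEquiv,
      ← (P₀ : Subgroup N).card_mul_index] at h1
    rw [hP, Subgroup.card_map_of_injective N.subtype_injective] at hdv
    obtain ⟨c, hc⟩ := hdv
    rw [hc, mul_assoc] at h1
    apply P₀.not_dvd_index
    rw [← Nat.eq_of_mul_eq_mul_left Nat.card_pos h1]
    exact hpd.mul_left c
  -- an element over `hb` normalising `P` and `R`
  obtain ⟨y, hyL, hyb, hyR⟩ : ∃ y ∈ L, (y : G ⧸ N) = hb ∧ ∀ r ∈ R, y * r * y⁻¹ ∈ R := by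
    obtain ⟨g, rfl⟩ := QuotientGroup.mk_surjective hb
    have hgm : g ∈ L ⊔ N := hfrat ▸ Subgroup.mem_top g
    rw [Subgroup.mem_sup_of_normal_right] at hgm
    obtain ⟨a, ha, b, hb', rfl⟩ := hgm
    have hab : ((a * b : G) : G ⧸ N) = a := by
      rw [QuotientGroup.mk_mul, (QuotientGroup.eq_one_iff b).2 hb', mul_one]
    let X : Subgroup G := Rb.comap (QuotientGroup.mk' N) ⊓ L
    have hRX : R ≤ X := le_inf (fun r hr => by
      rw [Subgroup.mem_comap, ← hRmap]; exact Subgroup.mem_map_of_mem _ hr) hRL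
    have hconj : ∀ r ∈ R, a * r * a⁻¹ ∈ X := by
      intro r hr
      refine ⟨?_, L.mul_mem (L.mul_mem ha (hRL hr)) (L.inv_mem ha)⟩
      show QuotientGroup.mk' N (a * r * a⁻¹) ∈ Rb
      rw [map_mul, map_mul, map_inv, show QuotientGroup.mk' N a = ((a * b : G) : G ⧸ N) from hab.symm]
      exact hnorm _ (hRmap ▸ Subgroup.mem_map_of_mem _ hr)
    have hScard : Nat.card (R.subgroupOf X) = Nat.card (S : Subgroup X) := by
      rw [Nat.card_congr (Subgroup.subgroupOfEquivOfLe hRX).toEquiv, hRS,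
        Subgroup.card_map_of_injective X.subtype_injective]
    let T : Subgroup X := (R.map (MulAut.conj a).toMonoidHom).subgroupOf X
    have hTle : R.map (MulAut.conj a).toMonoidHom ≤ X := by
      rintro - ⟨r, hr, rfl⟩; exact hconj r hr
    have hTcard : Nat.card T = Nat.card (S : Subgroup X) := by
      rw [Nat.card_congr (Subgroup.subgroupOfEquivOfLe hTle).toEquiv,
        Subgroup.card_map_of_injective (MulAut.conj a).injective, ← hScard,
        Nat.card_congr (Subgroup.subgroupOfEquivOfLe hRX).toEquiv]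
    let S₁ : Sylow l X := Sylow.ofCard T (by rw [hTcard, Sylow.card_eq_multiplicity])
    let S₂ : Sylow l X := Sylow.ofCard (R.subgroupOf X) (by rw [hScard, Sylow.card_eq_multiplicity])
    obtain ⟨x, hx⟩ := MulAction.exists_smul_eq X S₁ S₂
    obtain ⟨r₀, hr₀, hr₀'⟩ : ∃ r₀ ∈ R, QuotientGroup.mk' N r₀ = QuotientGroup.mk' N (x : G) := by
      have hxb : QuotientGroup.mk' N (x : G) ∈ Rb := x.2.1
      rw [← hRmap] at hxb
      exact hxb
    refine ⟨r₀⁻¹ * (x : G) * a, L.mul_mem (L.mul_mem (L.inv_mem (hRL hr₀)) x.2.2) ha, ?_, ?_⟩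
    · rw [QuotientGroup.mk_mul, QuotientGroup.mk_mul, QuotientGroup.mk_inv,
        show (r₀ : G ⧸ N) = ((x : G) : G ⧸ N) from hr₀', inv_mul_cancel, one_mul, hab]
    · intro r hr
      have h1 : (x * ⟨a * r * a⁻¹, hconj r hr⟩ * x⁻¹ : X) ∈ ((x • S₁ : Sylow l X) : Subgroup X) := by
        rw [Sylow.coe_subgroup_smul, Subgroup.mem_pointwise_smul_iff_inv_smul_mem]
        have hT : (⟨a * r * a⁻¹, hconj r hr⟩ : X) ∈ T := Subgroup.mem_subgroupOf.2 ⟨r, hr, rfl⟩
        simpa [MulAut.smul_def, S₁, mul_assoc] using hT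
      rw [hx] at h1
      have h2 : (x : G) * (a * r * a⁻¹) * (x : G)⁻¹ ∈ R := Subgroup.mem_subgroupOf.1 h1
      have h3 := R.mul_mem (R.mul_mem (R.inv_mem hr₀) h2) hr₀
      simpa [mul_assoc, mul_inv_rev] using h3
  by_contra hcon
  have hlift : ∀ z : G, (z : G ⧸ N) = hb → z ^ m = 1 := fun z hz => by
    by_contra h
    exact hcon (of_lift N z m (by rw [hz]) h)
  -- a smallest invariant subgroup of `P` not centralised by `R`
  have := Fintype.ofFinite (Subgroup G)
  obtain ⟨Q, hQmem, hQmin⟩ := Finset.exists_min_image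
    ((Finset.univ : Finset (Subgroup G)).filter fun Q => Q ≤ P ∧
      (∀ r ∈ R, ∀ q ∈ Q, r * q * r⁻¹ ∈ Q) ∧ (∀ q ∈ Q, y * q * y⁻¹ ∈ Q) ∧
      ∃ r ∈ R, ∃ q ∈ Q, r * q ≠ q * r)
    (fun Q => Nat.card Q) ⟨P, by
      simp only [Finset.mem_filter, Finset.mem_univ, true_and]
      exact ⟨le_rfl, fun r hr q hq => (Subgroup.mem_normalizer_iff.1 (hRL hr) q).1 hq,
        fun q hq => (Subgroup.mem_normalizer_iff.1 hyL q).1 hq, hRP⟩⟩
  simp only [Finset.mem_filter, Finset.mem_univ, true_and] at hQmem hQmin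
  obtain ⟨hQP, hQR, hQy, r₁, hr₁, q₁, hq₁, hne₁⟩ := hQmem
  have hnormQ : ∀ g : G, (∀ q ∈ Q, g * q * g⁻¹ ∈ Q) → g ∈ Subgroup.normalizer (Q : Set G) := by
    intro g hg
    refine Subgroup.mem_normalizer_iff.2 fun q => ⟨hg q, fun hq => ?_⟩
    let f : Q → Q := fun q => ⟨g * q * g⁻¹, hg q q.2⟩
    have hf : Function.Injective f := fun a b h => by
      have h' : g * (a : G) * g⁻¹ = g * (b : G) * g⁻¹ := congrArg Subtype.val h
      exact Subtype.ext (mul_left_cancel (mul_right_cancel h'))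
    obtain ⟨⟨q', hq'⟩, hqq⟩ := (Finite.injective_iff_surjective.1 hf) ⟨g * q * g⁻¹, hq⟩
    have h' : g * q' * g⁻¹ = g * q * g⁻¹ := congrArg Subtype.val hqq
    rwa [← mul_left_cancel (mul_right_cancel h')]
  let T := Subgroup.normalizer (Q : Set G)
  let φ : T →* MulAut (Abelianization Q) :=
    { toFun := fun g => (Subgroup.normalizerMonoidHom Q g).abelianizationCongr
      map_one' := MulEquiv.ext fun v => by
        induction v using QuotientGroup.induction_on
        simp; rfl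
      map_mul' := fun g h => MulEquiv.ext fun v => by
        induction v using QuotientGroup.induction_on
        simp; rfl }
  have hRT : R ≤ T := fun r hr => hnormQ r (hQR r hr)
  let yT : T := ⟨y, hnormQ y hQy⟩
  have := Fintype.ofFinite (R.subgroupOf T)
  have hφ : ∀ (g : T) (q : Q), φ g (Abelianization.of q) =
      Abelianization.of (Subgroup.normalizerMonoidHom Q g q) := fun g q => rfl
  have hy1 : y ^ m = 1 := hlift y hyb
  have hcop : (Nat.card (Abelianization Q)).Coprime (Nat.card (R.subgroupOf T)) := by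
    have hQp : IsPGroup p Q := (P₀.isPGroup'.map N.subtype).to_le hQP
    obtain ⟨a, ha⟩ := IsPGroup.iff_card.1 (hQp.to_quotient (commutator Q))
    obtain ⟨b, hb⟩ := IsPGroup.iff_card.1 hRp
    rw [show Nat.card (Abelianization Q) = p ^ a from ha,
      Nat.card_congr (Subgroup.subgroupOfEquivOfLe hRT).toEquiv, hb]
    exact Nat.Coprime.pow _ _ ((Nat.coprime_primes hp Fact.out).2 hpl)
  have key := Cfsg.Agent.NormTrick.smul_eq φ (R.subgroupOf T) yT m (orderOf_pos hb)
    (fun r hr => hyR r hr)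
    (fun i hi him r hr hc => by
      have hc' : (r : G) * y ^ i = y ^ i * r := by simpa [yT] using congrArg Subtype.val hc
      have h1 : ((r : G) : G ⧸ N) = 1 := by
        refine hfpf i hi him _ (hRmap ▸ Subgroup.mem_map_of_mem _ hr) ?_
        show ((r : G) : G ⧸ N) * hb ^ i = hb ^ i * ((r : G) : G ⧸ N)
        rw [← hyb, ← QuotientGroup.mk_pow, ← QuotientGroup.mk_mul, hc', QuotientGroup.mk_mul]
      have h2 : (r : G) ∈ R ⊓ N := ⟨hr, (QuotientGroup.eq_one_iff _).1 h1⟩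
      rw [hRN, Subgroup.mem_bot] at h2
      exact Subtype.ext h2)
    (fun v => by
      induction v using QuotientGroup.induction_on with
      | H q =>
        show ∏ i ∈ Finset.range m, φ (yT ^ i) (Abelianization.of q) = 1
        -- prefixes of `(q y) ^ i`
        have hpre : ∀ i : ℕ, ∃ e : Q, ((q : G) * y) ^ i = (e : G) * y ^ i ∧
            Abelianization.of e = ∏ j ∈ Finset.range i, φ (yT ^ j) (Abelianization.of q) := by
          intro i
          induction i with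
          | zero => exact ⟨1, by simp, by simp⟩
          | succ i ih =>
            obtain ⟨e, he, he'⟩ := ih
            refine ⟨e * Subgroup.normalizerMonoidHom Q (yT ^ i) q, ?_, ?_⟩
            · rw [pow_succ, he, Subgroup.coe_mul]
              show (e : G) * y ^ i * ((q : G) * y) = (e : G) * ((y ^ i) * (q : G) * (y ^ i)⁻¹) * y ^ (i + 1)
              group
            · rw [map_mul, he', Finset.prod_range_succ, hφ]
        obtain ⟨e, he, he'⟩ := hpre m
        rw [hlift _ (by rw [QuotientGroup.mk_mul, (QuotientGroup.eq_one_iff _).2 (hPN (hQP q.2)), one_mul, hyb]),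
          hy1, mul_one] at he
        rw [← he', show e = 1 from Subtype.ext he.symm, map_one])
    hcop
  -- `R` centralises the derived subgroup
  set D : Subgroup G := (commutator Q).map Q.subtype with hD
  have hDchar : ∀ g : T, ∀ d ∈ D, (g : G) * d * (g : G)⁻¹ ∈ D := by
    rintro g - ⟨d, hd, rfl⟩
    refine ⟨Subgroup.normalizerMonoidHom Q g d, ?_, rfl⟩
    have h := (inferInstance : (commutator Q).Characteristic)
    exact (Subgroup.characteristic_iff_comap_eq.1 h (Subgroup.normalizerMonoidHom Q g)).ge hd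
  have hQ1 : Nontrivial Q := by
    refine ⟨⟨q₁, hq₁⟩, 1, fun h => hne₁ ?_⟩
    rw [show q₁ = 1 from congrArg Subtype.val h, mul_one, one_mul]
  have hQp : IsPGroup p Q := (P₀.isPGroup'.map N.subtype).to_le hQP
  have : Group.IsNilpotent Q := hQp.isNilpotent
  have hlt : Nat.card D < Nat.card Q := by
    rw [hD, Subgroup.card_map_of_injective Q.subtype_injective]
    refine lt_of_le_of_ne (Subgroup.card_le_card_group _) fun h => ?_
    exact (Group.IsSolvable.commutator_lt_top_of_nontrivial Q).ne ((commutator Q).eq_top_of_card_eq h)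
  have hDc : ∀ r ∈ R, ∀ d ∈ D, r * d = d * r := by
    by_contra h
    push Not at h
    obtain ⟨r, hr, d, hd, hrd⟩ := h
    have hb' := hQmin D ⟨(Subgroup.map_subtype_le _).trans hQP,
      fun r hr d hd => hDchar ⟨r, hRT hr⟩ d hd, fun d hd => hDchar yT d hd, r, hr, d, hd, hrd⟩
    omega
  apply hne₁
  have h := key ⟨⟨r₁, hRT hr₁⟩, hr₁⟩ (Abelianization.of ⟨q₁, hq₁⟩)
  rw [hφ] at h
  set c : Q := (⟨q₁, hq₁⟩ : Q)⁻¹ * Subgroup.normalizerMonoidHom Q ⟨r₁, hRT hr₁⟩ ⟨q₁, hq₁⟩ with hc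
  have hcmem : c ∈ commutator Q := by
    rw [← Abelianization.ker_of Q, MonoidHom.mem_ker, hc, map_mul, map_inv, h, inv_mul_cancel]
  have hcD : (c : G) ∈ D := Subgroup.mem_map_of_mem _ hcmem
  have hrc : Commute r₁ (c : G) := hDc r₁ hr₁ _ hcD
  have hstep : r₁ * q₁ * r₁⁻¹ = q₁ * c := by
    rw [hc]
    show r₁ * q₁ * r₁⁻¹ = q₁ * (q₁⁻¹ * (r₁ * q₁ * r₁⁻¹))
    group
  have hpow : ∀ j : ℕ, r₁ ^ j * q₁ * (r₁ ^ j)⁻¹ = q₁ * (c : G) ^ j := by
    intro j
    induction j with
    | zero => simp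
    | succ j ih =>
      calc r₁ ^ (j + 1) * q₁ * (r₁ ^ (j + 1))⁻¹ = r₁ * (r₁ ^ j * q₁ * (r₁ ^ j)⁻¹) * r₁⁻¹ := by
            rw [pow_succ']; group
        _ = (r₁ * q₁ * r₁⁻¹) * (r₁ * (c : G) ^ j * r₁⁻¹) := by rw [ih]; group
        _ = q₁ * (c : G) ^ (j + 1) := by
            rw [hstep, (hrc.pow_right j).eq, mul_inv_cancel_right, mul_assoc, ← pow_succ']
  have h1 := hpow (orderOf r₁)
  rw [pow_orderOf_eq_one, one_mul, inv_one, mul_one, left_eq_mul] at h1
  have hc1 : (c : G) = 1 := by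
    rw [← orderOf_eq_one_iff, Subgroup.orderOf_coe]
    obtain ⟨a, ha⟩ := IsPGroup.iff_orderOf.1 hQp c
    obtain ⟨b, hb⟩ := IsPGroup.iff_orderOf.1 hRp ⟨r₁, hr₁⟩
    rw [Subgroup.orderOf_mk] at hb
    have hd := orderOf_dvd_of_pow_eq_one h1
    rw [Subgroup.orderOf_coe, ha, hb] at hd
    rw [ha]
    exact Nat.eq_one_of_dvd_coprimes (Nat.Coprime.pow a b ((Nat.coprime_primes hp Fact.out).2 hpl)) dvd_rfl hd
  rw [hc1, mul_one] at hstep
  exact mul_inv_eq_iff_eq_mul.1 hstep

/-- Let N be a normal subgroup of the finite group G such that G/N is a Frobenius group with kernel F and cyclic complement H, where the order of F is coprime to that of N and F is not contained in the image of C_G(N) in G/N. Then G has an element of order p·#H for some prime p dividing the order of N. (A standard tool in recognising groups by their element orders.) -/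
theorem result {G : Type*} [Group G] [Finite G] (N : Subgroup G) [N.Normal]
    (Fb Hb : Subgroup (G ⧸ N)) [Fb.Normal] (hHb : Cfsg.IsFrobeniusComplement Hb) (hker : Cfsg.frobeniusKernel Hb = (Fb : Set (G ⧸ N)))
    (hcyc : IsCyclic Hb) (hcop : (Nat.card Fb).Coprime (Nat.card N))
    (hnot : ¬ Fb ≤ (Subgroup.centralizer (N : Set G)).map (QuotientGroup.mk' N)) :
    ∃ p : ℕ, p.Prime ∧ p ∣ Nat.card N ∧ ∃ g : G, orderOf g = p * Nat.card Hb := by
  classical
  obtain ⟨⟨hb, hhb⟩, hgen⟩ := hcyc.exists_generator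
  have hm : orderOf hb = Nat.card Hb := by
    rw [← Subgroup.orderOf_mk hb hhb]
    exact orderOf_eq_card_of_forall_mem_zpowers hgen
  rw [← hm]
  -- fixed-point-freeness
  have hfree : ∀ f ∈ Fb, ∀ h ∈ Hb, h ≠ 1 → f * h = h * f → f = 1 := by
    intro f hf h hh h1 hc
    have hk : f ∈ Cfsg.frobeniusKernel Hb := by rw [hker]; exact hf
    rcases hk with h0 | hk
    · exact h0
    by_cases hfH : f ∈ Hb
    · refine absurd ?_ (hk 1)
      rw [map_one, one_smul]; exact hfH
    have hmem : h ∈ Hb ⊓ MulAut.conj f • Hb := ⟨hh, by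
      show h ∈ MulAut.conj f • Hb
      rw [mem_conj_smul]
      have h2 : f⁻¹ * h * f = h := by rw [mul_assoc, ← hc, inv_mul_cancel_left]
      rwa [h2]⟩
    rw [hHb.2.2 f hfH, Subgroup.mem_bot] at hmem
    exact absurd hmem h1
  -- a Sylow subgroup of the kernel outside the image of the centraliser
  set C := (Subgroup.centralizer (N : Set G)).map (QuotientGroup.mk' N) with hC
  have hCn : C.Normal := Subgroup.Normal.map inferInstance _ (QuotientGroup.mk'_surjective N)
  obtain ⟨l, hl, hld⟩ := Nat.exists_prime_and_dvd (show (C.subgroupOf Fb).index ≠ 1 by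
    rw [Ne, Subgroup.index_eq_one, Subgroup.subgroupOf_eq_top]; exact hnot)
  have : Fact l.Prime := ⟨hl⟩
  have hlF : l ∣ Nat.card Fb := hld.trans (Subgroup.index_dvd_card _)
  have hlN : ¬ l ∣ Nat.card N := fun h => by
    have := Nat.dvd_gcd hlF h
    rw [hcop] at this
    exact hl.ne_one (Nat.dvd_one.1 this)
  obtain ⟨R₀⟩ : Nonempty (Sylow l Fb) := inferInstance
  have hR₀ : ¬ (R₀ : Subgroup Fb) ≤ C.subgroupOf Fb := fun h =>
    R₀.not_dvd_index (hld.trans (Subgroup.index_dvd_of_le h))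
  set Rb := (R₀ : Subgroup Fb).map Fb.subtype with hRb
  have hfrat : Subgroup.normalizer (Rb : Set (G ⧸ N)) ⊔ Fb = ⊤ := Sylow.normalizer_sup_eq_top R₀
  have hmem : hb ∈ Subgroup.normalizer (Rb : Set (G ⧸ N)) ⊔ Fb := hfrat ▸ Subgroup.mem_top hb
  rw [Subgroup.mem_sup_of_normal_right] at hmem
  obtain ⟨a, ha, f, hf, haf⟩ := hmem
  -- `a` is conjugate to `hb` under the kernel
  have hhb1 : hb ≠ 1 := by
    intro h
    apply hHb.1
    rw [Subgroup.eq_bot_iff_forall]
    intro x hx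
    obtain ⟨k, hk⟩ := Subgroup.mem_zpowers_iff.1 (hgen ⟨x, hx⟩)
    have := congrArg Subtype.val hk
    simp [h] at this
    exact this.symm
  let T : Fb → Fb := fun k => ⟨hb⁻¹ * ((k : G ⧸ N) * hb * (k : G ⧸ N)⁻¹), by
    have h1 : hb⁻¹ * (k : G ⧸ N) * hb ∈ Fb := by
      simpa using ‹Fb.Normal›.conj_mem _ k.2 hb⁻¹
    simpa [mul_assoc] using Fb.mul_mem h1 (Fb.inv_mem k.2)⟩
  have hT : Function.Injective T := by
    intro k l' h
    have h' : (k : G ⧸ N) * hb * (k : G ⧸ N)⁻¹ = (l' : G ⧸ N) * hb * (l' : G ⧸ N)⁻¹ :=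
      mul_left_cancel (congrArg Subtype.val h)
    have h2 : ((l' : G ⧸ N)⁻¹ * k) * hb = hb * ((l' : G ⧸ N)⁻¹ * k) := by
      calc ((l' : G ⧸ N)⁻¹ * k) * hb
          = (l' : G ⧸ N)⁻¹ * ((k : G ⧸ N) * hb * (k : G ⧸ N)⁻¹) * k := by group
        _ = (l' : G ⧸ N)⁻¹ * ((l' : G ⧸ N) * hb * (l' : G ⧸ N)⁻¹) * k := by rw [h']
        _ = hb * ((l' : G ⧸ N)⁻¹ * k) := by group
    exact Subtype.ext (inv_mul_eq_one.1
      (hfree _ (Fb.mul_mem (Fb.inv_mem l'.2) k.2) hb hhb hhb1 h2)).symm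
  obtain ⟨k, hk⟩ := (Finite.injective_iff_surjective.1 hT) ⟨f⁻¹ |> fun z => hb⁻¹ * (hb * z), by
    simpa using Fb.inv_mem hf⟩
  have hka : (k : G ⧸ N) * hb * (k : G ⧸ N)⁻¹ = a := by
    have h' : hb⁻¹ * ((k : G ⧸ N) * hb * (k : G ⧸ N)⁻¹) = hb⁻¹ * (hb * f⁻¹) := congrArg Subtype.val hk
    rw [mul_left_cancel h', ← haf, mul_inv_cancel_right]
  set R' := Rb.map (MulAut.conj (k : G ⧸ N)⁻¹).toMonoidHom with hR'
  have hmemR' : ∀ x, x ∈ R' ↔ (k : G ⧸ N) * x * (k : G ⧸ N)⁻¹ ∈ Rb := by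
    intro x
    constructor
    · rintro ⟨r, hr, rfl⟩
      simpa [mul_assoc] using hr
    · intro h
      exact ⟨_, h, by simp [mul_assoc]⟩
  have hR'F : R' ≤ Fb := by
    rintro - ⟨r, hr, rfl⟩
    exact ‹Fb.Normal›.conj_mem r (Subgroup.map_subtype_le _ hr) _
  refine main N l hlN R' ((R₀.isPGroup'.map _).map _) hb ?_ ?_ ?_
  · intro r hr
    rw [hmemR'] at hr ⊢
    have h := (Subgroup.mem_normalizer_iff.1 ha _).1 hr
    rw [← hka] at h
    simpa [mul_assoc] using h
  · intro i hi him r hr hc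
    refine hfree r (hR'F hr) (hb ^ i) (Hb.pow_mem hhb i) (fun h => ?_) hc
    have := Nat.le_of_dvd hi (orderOf_dvd_of_pow_eq_one h)
    omega
  · intro hle
    apply hR₀
    intro x hx
    have hxR : (x : G ⧸ N) ∈ Rb := Subgroup.mem_map_of_mem Fb.subtype hx
    have h1 : (k : G ⧸ N)⁻¹ * x * (k : G ⧸ N) ∈ C := hle ((hmemR' _).2 (by
      simpa [mul_assoc] using hxR))
    have h2 := hCn.conj_mem _ h1 (k : G ⧸ N)
    exact Subgroup.mem_subgroupOf.2 (by simpa [mul_assoc] using h2)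

end Cfsg.Agent.S3703
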