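import Cfsg.Statements.S3713
import Cfsg.Agent.Lib.SpAmalgam.Amalgam

set_option autoImplicit false
open Cfsg

namespace Cfsg.Agent.S3713

/-- A presentation of the symplectic group as the universal completion of an amalgam of small subgroups. Let F be a field with more than two elements, n ≥ 2, and Sp the group of 2n × 2n matrices over F preserving the standard alternating form, acting on column vectors; write e_k, f_k for the standard basis vectors of the two halves (a hyperbolic basis). For each k let S_k be the subgroup of Sp fixing e_l and f_l for all l ≠ k (a copy of SL(2, F) on the plane of e_k, f_k), and for each i with i + 1 < n let M_i be the subgroup fixing every e_l and fixing f_l for all l other than i, i+1 (an abelian group isomorphic to the additive group of F³). Then Sp is the universal completion of the amalgam formed by the S_k, the M_i and the subgroups generated by two of them: for every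 group H and homomorphisms σ_k : S_k → H, μ_i : M_i → H such that for each pair of these subgroups some homomorphism on the subgroup they generate restricts to the given ones, there is exactly one homomorphism Sp → H restricting to every σ_k and μ_i. -/
theorem result
    (F : Type*) [Field F] (hF : ∃ a : F, a ≠ 0 ∧ a ≠ 1) (n : ℕ) (hn : 2 ≤ n)
    (S M : Fin n → Subgroup ↥(Matrix.symplecticGroup (Fin n) F))
    (hS : ∀ j : Fin n, S j = Subgroup.closure {A : ↥(Matrix.symplecticGroup (Fin n) F) | ∀ k : Fin n, k ≠ j →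
      ((A : ↥(Matrix.symplecticGroup (Fin n) F)) : Matrix (Fin n ⊕ Fin n) (Fin n ⊕ Fin n) F).mulVec (Pi.single (Sum.inl k) (1 : F)) = (Pi.single (Sum.inl k) (1 : F)) ∧ ((A : ↥(Matrix.symplecticGroup (Fin n) F)) : Matrix (Fin n ⊕ Fin n) (Fin n ⊕ Fin n) F).mulVec (Pi.single (Sum.inr k) (1 : F)) = (Pi.single (Sum.inr k) (1 : F))})
    (hM : ∀ i : Fin n, (i : ℕ) + 1 < n → M i = Subgroup.closure {A : ↥(Matrix.symplecticGroup (Fin n) F) |
      (∀ k : Fin n, ((A : ↥(Matrix.symplecticGroup (Fin n) F)) : Matrix (Fin n ⊕ Fin n) (Fin n ⊕ Fin n) F).mulVec (Pi.single (Sum.inl k) (1 : F)) = (Pi.single (Sum.inl k) (1 : F))) ∧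
        ∀ k : Fin n, (k : ℕ) ≠ i → (k : ℕ) ≠ (i : ℕ) + 1 → ((A : ↥(Matrix.symplecticGroup (Fin n) F)) : Matrix (Fin n ⊕ Fin n) (Fin n ⊕ Fin n) F).mulVec (Pi.single (Sum.inr k) (1 : F)) = (Pi.single (Sum.inr k) (1 : F))})
    {H : Type*} [Group H] (σ : ∀ j : Fin n, ↥(S j) →* H) (μ : ∀ i : Fin n, ↥(M i) →* H)
    (hSS : ∀ j l : Fin n, j ≠ l → ∃ Ψ : ↥(S j ⊔ S l) →* H,
      (∀ (g : ↥(Matrix.symplecticGroup (Fin n) F)) (hg : g ∈ S j), Ψ ⟨g, Subgroup.mem_sup_left hg⟩ = σ j ⟨g, hg⟩) ∧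
        (∀ (g : ↥(Matrix.symplecticGroup (Fin n) F)) (hg : g ∈ S l), Ψ ⟨g, Subgroup.mem_sup_right hg⟩ = σ l ⟨g, hg⟩))
    (hMM : ∀ i i' : Fin n, i ≠ i' → (i : ℕ) + 1 < n → (i' : ℕ) + 1 < n → ∃ Ψ : ↥(M i ⊔ M i') →* H,
      (∀ (g : ↥(Matrix.symplecticGroup (Fin n) F)) (hg : g ∈ M i), Ψ ⟨g, Subgroup.mem_sup_left hg⟩ = μ i ⟨g, hg⟩) ∧
        (∀ (g : ↥(Matrix.symplecticGroup (Fin n) F)) (hg : g ∈ M i'), Ψ ⟨g, Subgroup.mem_sup_right hg⟩ = μ i' ⟨g, hg⟩))
    (hMS : ∀ i j : Fin n, (i : ℕ) + 1 < n → ∃ Ψ : ↥(M i ⊔ S j) →* H,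
      (∀ (g : ↥(Matrix.symplecticGroup (Fin n) F)) (hg : g ∈ M i), Ψ ⟨g, Subgroup.mem_sup_left hg⟩ = μ i ⟨g, hg⟩) ∧
        (∀ (g : ↥(Matrix.symplecticGroup (Fin n) F)) (hg : g ∈ S j), Ψ ⟨g, Subgroup.mem_sup_right hg⟩ = σ j ⟨g, hg⟩)) :
    ∃! Φ : ↥(Matrix.symplecticGroup (Fin n) F) →* H,
      (∀ (j : Fin n) (g : ↥(Matrix.symplecticGroup (Fin n) F)) (hg : g ∈ S j), Φ g = σ j ⟨g, hg⟩) ∧
        (∀ (i : Fin n), (i : ℕ) + 1 < n → ∀ (g : ↥(Matrix.symplecticGroup (Fin n) F)) (hg : g ∈ M i), Φ g = μ i ⟨g, hg⟩) := by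
  classical
  have eS : ∀ j, S j = SpAmalgam.Fx (F := F) (SpAmalgam.PS j) := fun j =>
    (hS j).trans (Subgroup.closure_eq (SpAmalgam.Fx (F := F) (SpAmalgam.PS j)))
  have eM : ∀ i : Fin n, (i : ℕ) + 1 < n → M i = SpAmalgam.MX (F := F) (SpAmalgam.PM i) := by
    intro i hi
    rw [hM i hi]
    refine Eq.trans (congrArg Subgroup.closure (Set.ext fun A => ?_))
      (Subgroup.closure_eq (SpAmalgam.MX (F := F) (SpAmalgam.PM i)))
    exact ⟨fun h => ⟨h.1, fun k hk => h.2 k (fun e => hk (Or.inl e)) fun e => hk (Or.inr e)⟩,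
      fun h => ⟨h.1, fun k h1 h2 => h.2 k fun e => e.elim h1 h2⟩⟩
  have hcomm : ∀ (A B : Subgroup ↥(Matrix.symplecticGroup (Fin n) F)) (Ψ : ↥(A ⊔ B) →* H) a
      (ha : a ∈ A) b (hb : b ∈ B), Commute a b →
        Commute (Ψ ⟨a, Subgroup.mem_sup_left ha⟩) (Ψ ⟨b, Subgroup.mem_sup_right hb⟩) := fun A B Ψ a ha b hb h =>
    Commute.map (show Commute (⟨a, _⟩ : ↥(A ⊔ B)) ⟨b, _⟩ from Subtype.ext h) Ψ
  let D : SpAmalgam.Amalg F n H :=
    { σ := fun j => (σ j).comp (Subgroup.inclusion (eS j).ge)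
      μ := fun i => if hi : (i : ℕ) + 1 < n then (μ i).comp (Subgroup.inclusion (eM i hi).ge) else 1
      hSS := fun j l h a b => by
        obtain ⟨Ψ, h1, h2⟩ := hSS j l h
        have ha : (a : ↥(Matrix.symplecticGroup (Fin n) F)) ∈ S j := by rw [eS]; exact a.2
        have hb : (b : ↥(Matrix.symplecticGroup (Fin n) F)) ∈ S l := by rw [eS]; exact b.2
        show Commute (σ j ⟨a, ha⟩) (σ l ⟨b, hb⟩)
        rw [← h1 _ ha, ← h2 _ hb]
        exact hcomm _ _ Ψ _ ha _ hb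
          (SpAmalgam.Fx_commute (fun _ hp hq => h (hp.symm.trans hq)) a.2 b.2)
      hMM := fun i i' h hi hi' a b => by
        obtain ⟨Ψ, h1, h2⟩ := hMM i i' h hi hi'
        have ha : (a : ↥(Matrix.symplecticGroup (Fin n) F)) ∈ M i := by rw [eM i hi]; exact a.2
        have hb : (b : ↥(Matrix.symplecticGroup (Fin n) F)) ∈ M i' := by rw [eM i' hi']; exact b.2
        rw [dif_pos hi, dif_pos hi']
        show Commute (μ i ⟨a, ha⟩) (μ i' ⟨b, hb⟩)
        rw [← h1 _ ha, ← h2 _ hb]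
        exact hcomm _ _ Ψ _ ha _ hb (SpAmalgam.MX_comm a.2 b.2)
      hMS := fun i j hi => by
        obtain ⟨Ψ, h1, h2⟩ := hMS i j hi
        refine ⟨Ψ.comp (Subgroup.inclusion (sup_le_sup (eM i hi).ge (eS j).ge)), ?_, ?_⟩
        · intro g hg
          rw [dif_pos hi]
          exact h1 g ((eM i hi).ge hg)
        · intro g hg
          exact h2 g ((eS j).ge hg) }
  obtain ⟨Φ, ⟨hσ, hμ⟩, huniq⟩ := D.exists_unique_hom hF (by omega)
  have key : ∀ Φ' : ↥(Matrix.symplecticGroup (Fin n) F) →* H,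
      ((∀ (j : Fin n) (g : ↥(SpAmalgam.Fx (F := F) (SpAmalgam.PS j))), Φ' g = D.σ j g) ∧
        ∀ (i : Fin n), (i : ℕ) + 1 < n →
          ∀ g : ↥(SpAmalgam.MX (F := F) (SpAmalgam.PM i)), Φ' g = D.μ i g) ↔
      ((∀ (j : Fin n) (g : ↥(Matrix.symplecticGroup (Fin n) F)) (hg : g ∈ S j), Φ' g = σ j ⟨g, hg⟩) ∧
        (∀ (i : Fin n), (i : ℕ) + 1 < n → ∀ (g : ↥(Matrix.symplecticGroup (Fin n) F)) (hg : g ∈ M i),
          Φ' g = μ i ⟨g, hg⟩)) := by
    intro Φ'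
    have hμ' : ∀ (i : Fin n) (hi : (i : ℕ) + 1 < n), D.μ i =
        (μ i).comp (Subgroup.inclusion (eM i hi).ge) := fun i hi => dif_pos hi
    constructor
    · rintro ⟨a, b⟩
      refine ⟨fun j g hg => a j ⟨g, (eS j).le hg⟩, fun i hi g hg => ?_⟩
      rw [b i hi ⟨g, (eM i hi).le hg⟩, hμ' i hi]
      rfl
    · rintro ⟨a, b⟩
      refine ⟨fun j g => a j g.1 ((eS j).ge g.2), fun i hi g => ?_⟩
      rw [b i hi g.1 ((eM i hi).ge g.2), hμ' i hi]
      rfl
  exact ⟨Φ, (key Φ).1 ⟨hσ, hμ⟩, fun Φ' h => huniq Φ' ((key Φ').2 h)⟩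

end Cfsg.Agent.S3713
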