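import Cfsg.Statements.S3733


set_option autoImplicit false
open Cfsg

namespace Cfsg.Agent.S3733

/-- Let A and V be subgroups of a finite group with V abelian and nontrivial and A normalizing V. Suppose a nonempty finite family of proper subgroups of A partitions A: every non-identity element of A lies in exactly one member. If the number of members minus one is coprime to the order of V, then some member B of the family has a non-identity fixed point on V, that is V ∩ C(B) ≠ 1. -/
theorem result {G : Type*} [Group G] [Finite G] (A V : Subgroup G) (hVab : IsMulCommutative V) (hV : V ≠ ⊥) (hAV : A ≤ Subgroup.normalizer (V : Set G)) (𝒜 : Finset (Subgroup G)) (hne : 𝒜.Nonempty) (hprop : ∀ B ∈ 𝒜, B < A) (hpart : ∀ a ∈ A, a ≠ 1 → ∃! B, B ∈ 𝒜 ∧ a ∈ B) (hk : (𝒜.card - 1).Coprime (Nat.card V)) : ∃ B ∈ 𝒜, V ⊓ Subgroup.centralizer (B : Set G) ≠ ⊥ := by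
  classical
  haveI := Fintype.ofFinite G
  letI : CommGroup V := { (inferInstance : Group V) with mul_comm := hVab.is_comm.comm }
  by_contra hcon
  push Not at hcon
  obtain ⟨w, hw1⟩ := (Subgroup.ne_bot_iff_exists_ne_one.1 hV)
  -- the conjugation action of `A` on `V`
  have hmemV : ∀ a ∈ A, ∀ v ∈ V, a * v * a⁻¹ ∈ V := fun a ha v hv =>
    (Subgroup.mem_normalizer_iff.1 (hAV ha) v).1 hv
  let f : G → V := fun a => if ha : a ∈ A then ⟨a * (w : G) * a⁻¹, hmemV a ha _ w.2⟩ else 1
  have hf : ∀ a ∈ A, ((f a : V) : G) = a * (w : G) * a⁻¹ := fun a ha => by simp [f, ha]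
  let N : Subgroup G → V := fun B => ∏ a ∈ Finset.univ.filter (· ∈ B), f a
  -- the norm of a subgroup is fixed by it
  have hfixN : ∀ B ≤ A, ∀ b ∈ B, b * (N B : G) * b⁻¹ = N B := by
    intro B hBA b hb
    let c : V →* V := ((MulAut.conj b).toMonoidHom.comp V.subtype).codRestrict V
      (fun v => hmemV b (hBA hb) v v.2)
    have hc : c (N B) = N B := by
      simp only [N, map_prod]
      refine Finset.prod_bij (fun a _ => b * a) ?_ ?_ ?_ ?_
      · intro a ha; simp at ha ⊢; exact mul_mem hb ha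
      · intro a _ a' _ h; exact mul_left_cancel h
      · intro a ha
        simp at ha
        exact ⟨b⁻¹ * a, by simp [mul_mem (inv_mem hb) ha], by simp⟩
      · intro a ha
        simp at ha
        apply Subtype.ext
        rw [hf _ (hBA (mul_mem hb ha))]
        simp [c, hf a (hBA ha), mul_assoc]
    exact congrArg Subtype.val hc
  have hNB : ∀ B ∈ 𝒜, ∀ u : V, (∀ b ∈ B, b * (u : G) * b⁻¹ = u) → u = 1 := by
    intro B hB u hu
    have : (u : G) ∈ V ⊓ Subgroup.centralizer (B : Set G) :=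
      ⟨u.2, Subgroup.mem_centralizer_iff.2 fun b hb => mul_inv_eq_iff_eq_mul.1 (hu b hb)⟩
    rw [hcon B hB, Subgroup.mem_bot] at this
    exact Subtype.ext this
  have hN1 : ∀ B ∈ 𝒜, N B = 1 := fun B hB => hNB B hB _ (hfixN B (hprop B hB).le)
  have hNA : N A = 1 := by
    obtain ⟨B, hB⟩ := hne
    exact hNB B hB _ fun b hb => hfixN A le_rfl b ((hprop B hB).le hb)
  let S : Subgroup G → Finset G := fun B => Finset.univ.filter (fun a => a ∈ B ∧ a ≠ 1)
  have hf1 : f 1 = w := Subtype.ext (by rw [hf 1 (one_mem A)]; simp)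
  have hS : ∀ B : Subgroup G, w * ∏ a ∈ S B, f a = N B := by
    intro B
    have : Finset.univ.filter (· ∈ B) = insert 1 (S B) := by
      ext a; simp [S]; by_cases h : a = 1 <;> simp [h, one_mem]
    simp only [N, this]
    rw [Finset.prod_insert (by simp [S]), hf1]
  have hdisj : (𝒜 : Set (Subgroup G)).PairwiseDisjoint S := by
    intro B hB C hC hne'
    rw [Function.onFun, Finset.disjoint_left]
    intro a ha ha'
    simp [S] at ha ha'
    exact hne' ((hpart a ((hprop B hB).le ha.1) ha.2).unique ⟨hB, ha.1⟩ ⟨hC, ha'.1⟩)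
  have hunion : 𝒜.biUnion S = S A := by
    ext a
    simp [S]
    constructor
    · rintro ⟨B, hB, ha, h1⟩; exact ⟨(hprop B hB).le ha, h1⟩
    · rintro ⟨ha, h1⟩
      obtain ⟨B, ⟨hB, haB⟩, -⟩ := hpart a ha h1
      exact ⟨B, hB, haB, h1⟩
  have key : ∏ B ∈ 𝒜, ∏ a ∈ S B, f a = ∏ a ∈ S A, f a := by
    rw [← hunion, Finset.prod_biUnion hdisj]
  have e1 : ∀ B : Subgroup G, N B = 1 → ∏ a ∈ S B, f a = (w : V)⁻¹ := fun B hB =>
    eq_inv_of_mul_eq_one_right (by rw [hS, hB])
  rw [Finset.prod_congr rfl fun B hB => e1 B (hN1 B hB), Finset.prod_const, e1 A hNA] at key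
  have hpos := hne.card_pos
  have h2 : ((w : V)⁻¹) ^ (𝒜.card - 1) = 1 := by
    rw [← mul_left_inj ((w : V)⁻¹), ← pow_succ, one_mul, Nat.sub_add_cancel hpos]
    exact key
  apply hw1
  have h3 := orderOf_dvd_of_pow_eq_one h2
  rw [orderOf_inv] at h3
  exact orderOf_eq_one_iff.1 (Nat.eq_one_of_dvd_coprimes hk h3 (orderOf_dvd_natCard _))

end Cfsg.Agent.S3733
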