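import Cfsg.Statements.S3734
import Cfsg.Agent.Lib.Solvable.Coprime
import Mathlib

set_option autoImplicit false
open Cfsg

namespace Cfsg.Agent.S3734

open Subgroup
open scoped commutatorElement
open Cfsg.Agent

universe u

/-- The cocyclic subgroups of `A`. -/
def cocyclic {X : Type*} [Group X] (A : Subgroup X) : Set (Subgroup X) :=
  {B | B ≤ A ∧ ∃ a ∈ A, B ⊔ zpowers a = A}

lemma aux : ∀ (n : ℕ) (X : Type u) [Group X] [Finite X] (A G : Subgroup X), Nat.card A = n →
    IsMulCommutative A → A ≤ normalizer (G : Set X) → (Nat.card A).Coprime (Nat.card G) →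
    G ≤ ⨆ B ∈ cocyclic A, G ⊓ centralizer (B : Set X) := by
  intro n
  induction n using Nat.strong_induction_on with
  | _ n ih =>
    intro X _ _ A G hn hAab hAG hcop
    by_cases hcyc : IsCyclic A
    · obtain ⟨a, ha⟩ := (A.isCyclic_iff_exists_zpowers_eq_top).1 hcyc
      refine le_trans (le_of_eq ?_) (le_iSup₂ (f := fun (B : Subgroup X) (_ : B ∈ cocyclic A) =>
        G ⊓ centralizer (B : Set X)) ⊥ ⟨bot_le, a, ha ▸ mem_zpowers a, by rw [bot_sup_eq, ha]⟩)
      rw [eq_comm, inf_eq_left]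
      intro x _
      rw [mem_centralizer_iff]
      intro y hy
      rw [SetLike.mem_coe, mem_bot] at hy
      rw [hy, one_mul, mul_one]
    conv_lhs => rw [← CoprimeAct.generated_by_centralizers hcyc hAG hcop]
    refine iSup₂_le fun a ha => ?_
    obtain ⟨haA, ha1⟩ := ha
    set Ga := G ⊓ centralizer ({a} : Set X) with hGa
    set M := normalizer (Ga : Set X) ⊓ centralizer ({a} : Set X) with hM
    have hAcomm : ∀ b ∈ A, ∀ c ∈ A, b * c = c * b := fun b hb c hc =>
      congrArg Subtype.val (hAab.is_comm.comm ⟨b, hb⟩ ⟨c, hc⟩)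
    have hGaM : Ga ≤ M := le_inf le_normalizer inf_le_right
    have hAC : A ≤ centralizer ({a} : Set X) := fun b hb =>
      mem_centralizer_singleton_iff.2 (hAcomm b hb a haA)
    have hAM : A ≤ M := by
      refine le_inf (le_trans ?_ inf_normalizer_le_normalizer_inf) hAC
      exact le_inf hAG (hAC.trans le_normalizer)
    haveI hzn : ((zpowers a).subgroupOf M).Normal := ⟨fun z hz m => by
      have hm : m * z * m⁻¹ = z := by
        apply Subtype.ext
        obtain ⟨i, hi⟩ := hz
        have h2 : Commute (m : X) a := mem_centralizer_singleton_iff.1 m.2.2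
        simp only [subtype_apply] at hi
        show (m : X) * z * (m : X)⁻¹ = z
        rw [← hi, (h2.zpow_right i).eq, mul_inv_cancel_right]
      rw [hm]; exact hz⟩
    let f := QuotientGroup.mk' ((zpowers a).subgroupOf M)
    have hAlt : Nat.card ((A.subgroupOf M).map f) < n := by
      have hle : (zpowers a).subgroupOf M ≤ A.subgroupOf M := fun z hz => zpowers_le.2 haA hz
      have h1 := relIndex_comap f (H := ⊥) (A.subgroupOf M)
      rw [MonoidHom.comap_bot, QuotientGroup.ker_mk', relIndex_bot_left] at h1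
      rw [← h1, ← hn, ← Nat.card_congr (subgroupOfEquivOfLe hAM).toEquiv, relIndex,
        ← card_mul_index (((zpowers a).subgroupOf M).subgroupOf (A.subgroupOf M))]
      refine lt_mul_of_one_lt_left (Nat.pos_of_ne_zero index_ne_zero_of_finite) ?_
      rw [Nat.card_congr (subgroupOfEquivOfLe hle).toEquiv,
        Nat.card_congr (subgroupOfEquivOfLe (zpowers_le.2 (hAM haA))).toEquiv, Nat.card_zpowers]
      exact lt_of_le_of_ne (orderOf_pos a) (fun h => ha1 (orderOf_eq_one_iff.1 h.symm))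
    have hcop2 : (Nat.card ((A.subgroupOf M).map f)).Coprime (Nat.card ((Ga.subgroupOf M).map f)) := by
      refine Nat.Coprime.coprime_dvd_left ((A.subgroupOf M).card_map_dvd f) ?_
      refine Nat.Coprime.coprime_dvd_right ((Ga.subgroupOf M).card_map_dvd f) ?_
      rw [Nat.card_congr (subgroupOfEquivOfLe hAM).toEquiv, Nat.card_congr (subgroupOfEquivOfLe hGaM).toEquiv]
      exact hcop.coprime_dvd_right (card_dvd_of_le inf_le_left)
    have hnorm : (A.subgroupOf M).map f ≤ normalizer (((Ga.subgroupOf M).map f) : Set _) := by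
      refine le_trans (map_mono ?_) (le_normalizer_map f)
      haveI : (Ga.subgroupOf M).Normal := normal_subgroupOf_of_le_normalizer inf_le_left
      rw [normalizer_eq_top]
      exact le_top
    haveI := hAab
    haveI : IsMulCommutative (A.subgroupOf M) :=
      ⟨⟨fun b c => Subtype.ext (Subtype.ext (hAcomm _ b.2 _ c.2))⟩⟩
    have hrec := ih _ hAlt _ ((A.subgroupOf M).map f) ((Ga.subgroupOf M).map f) rfl
      (Subgroup.map_isMulCommutative _ f) hnorm hcop2
    set S := ⨆ B ∈ cocyclic A, G ⊓ centralizer (B : Set X) with hS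
    have hstep : (⨆ B ∈ cocyclic ((A.subgroupOf M).map f), (Ga.subgroupOf M).map f ⊓ centralizer (B : Set _))
        ≤ ((S ⊓ Ga).subgroupOf M).map f := by
      refine iSup₂_le fun B hB => ?_
      obtain ⟨hBA, c, hc, hBc⟩ := hB
      rintro _ ⟨⟨g, hg, rfl⟩, hgc⟩
      refine ⟨g, mem_subgroupOf.2 ⟨?_, hg⟩, rfl⟩
      obtain ⟨c, hc', rfl⟩ := hc
      have hker : (zpowers a).subgroupOf M ≤ B.comap f := fun z hz => by
        show f z ∈ B
        rw [show f z = 1 from (QuotientGroup.eq_one_iff z).2 hz]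
        exact one_mem B
      have hcomap : B.comap f ≤ A.subgroupOf M := by
        intro z hz
        obtain ⟨y, hy, hye⟩ := hBA hz
        have h5 : y⁻¹ * z ∈ (zpowers a).subgroupOf M := QuotientGroup.eq.1 hye
        rw [show z = y * (y⁻¹ * z) by group]
        exact mul_mem hy (zpowers_le.2 haA h5)
      set B' := (B.comap f).map M.subtype with hB'
      have hB'A : B' ≤ A := by rintro _ ⟨b, hb, rfl⟩; exact hcomap hb
      have hcoc : B' ∈ cocyclic A := by
        refine ⟨hB'A, (c : X), hc', le_antisymm (sup_le hB'A (zpowers_le.2 hc')) fun b hb => ?_⟩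
        have hbm : f ⟨b, hAM hb⟩ ∈ B ⊔ zpowers (f c) := hBc.symm ▸ ⟨_, hb, rfl⟩
        rw [← map_comap_eq_self_of_surjective (f := f) (QuotientGroup.mk'_surjective _) B,
          ← MonoidHom.map_zpowers, ← Subgroup.map_sup] at hbm
        obtain ⟨d, hd, hde⟩ := hbm
        have hmem : (⟨b, hAM hb⟩ : M) ∈ B.comap f ⊔ zpowers c := by
          rw [show (⟨b, hAM hb⟩ : M) = d * (d⁻¹ * ⟨b, hAM hb⟩) by group]
          exact mul_mem hd (mem_sup_left (hker (QuotientGroup.eq.1 hde)))
        have := mem_map_of_mem M.subtype hmem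
        rwa [Subgroup.map_sup, MonoidHom.map_zpowers] at this
      refine le_iSup₂ (f := fun (B : Subgroup X) (_ : B ∈ cocyclic A) => G ⊓ centralizer (B : Set X)) B' hcoc
        ⟨hg.1, mem_centralizer_iff.2 ?_⟩
      rintro _ ⟨b, hb, rfl⟩
      have h1 : f b * f g = f g * f b := mem_centralizer_iff.1 hgc _ hb
      have h2 : b * g * b⁻¹ * g⁻¹ ∈ (zpowers a).subgroupOf M := by
        rw [← QuotientGroup.eq_one_iff]
        show f (b * g * b⁻¹ * g⁻¹) = 1
        rw [map_mul, map_mul, map_mul, map_inv, map_inv, h1, mul_inv_cancel_right, mul_inv_cancel]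
      have h3 : ((b * g * b⁻¹ * g⁻¹ : M) : X) ∈ G :=
        mul_mem (CoprimeAct.conj_mem_of_mem_normalizer (hAG (hcomap hb)) hg.1) (inv_mem hg.1)
      have h4 : ((b * g * b⁻¹ * g⁻¹ : M) : X) ∈ G ⊓ zpowers a := ⟨h3, h2⟩
      rw [SchurZ.inf_eq_bot (hcop.coprime_dvd_left (card_dvd_of_le (zpowers_le.2 haA))), mem_bot] at h4
      simp only [Subgroup.coe_mul, Subgroup.coe_inv, mul_inv_eq_one] at h4
      exact mul_inv_eq_iff_eq_mul.1 h4
    intro x hx
    obtain ⟨s, hs, hse⟩ := hstep (hrec ⟨⟨x, hGaM hx⟩, hx, rfl⟩)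
    have h1 : ((s⁻¹ * ⟨x, hGaM hx⟩ : M) : X) ∈ G ⊓ zpowers a :=
      ⟨(show _ ∈ G from mul_mem (G.inv_mem hs.2.1) hx.1),
        (QuotientGroup.eq (a := s) (b := ⟨x, hGaM hx⟩)).1 hse⟩
    rw [SchurZ.inf_eq_bot (hcop.coprime_dvd_left (card_dvd_of_le (zpowers_le.2 haA))), mem_bot] at h1
    rw [Subgroup.coe_mul, Subgroup.coe_inv, inv_mul_eq_one] at h1
    show x ∈ S
    rw [show x = (s : X) from h1.symm]
    exact hs.1

/-- Let A and G be subgroups of a finite group with A abelian, A normalizing G and the orders of A and G coprime. Then G is generated by the fixed-point subgroups C_G(B) of those subgroups B of A for which A/B is cyclic (that is, A = ⟨B, a⟩ for some a), and [G, A] is generated by the commutator subgroups [C_G(B), A] over the same subgroups B. -/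
theorem result {X : Type*} [Group X] [Finite X] (A G : Subgroup X) (hAab : IsMulCommutative A) (hAG : A ≤ Subgroup.normalizer (G : Set X)) (hcop : (Nat.card A).Coprime (Nat.card G)) : (⨆ B ∈ {B : Subgroup X | B ≤ A ∧ ∃ a ∈ A, B ⊔ Subgroup.zpowers a = A}, G ⊓ Subgroup.centralizer (B : Set X)) = G ∧ (⨆ B ∈ {B : Subgroup X | B ≤ A ∧ ∃ a ∈ A, B ⊔ Subgroup.zpowers a = A}, ⁅G ⊓ Subgroup.centralizer (B : Set X), A⁆) = ⁅G, A⁆ := by
  have hsolv : Group.IsSolvable A ∨ Group.IsSolvable G :=
    Or.inl (Group.isSolvable_of_comm fun a b => hAab.is_comm.comm a b)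
  have h1 : (⨆ B ∈ cocyclic A, G ⊓ centralizer (B : Set X)) = G :=
    le_antisymm (iSup₂_le fun B _ => inf_le_left) (aux _ X A G rfl hAab hAG hcop)
  refine ⟨h1, le_antisymm (iSup₂_le fun B _ => commutator_mono inf_le_left le_rfl) ?_⟩
  set C := G ⊓ centralizer (A : Set X) with hC
  set R := ⨆ B ∈ cocyclic A, ⁅G ⊓ centralizer (B : Set X), A⁆ with hR
  show ⁅G, A⁆ ≤ R
  have hK : ∀ B ∈ cocyclic A, A ≤ normalizer ((G ⊓ centralizer (B : Set X) : Subgroup X) : Set X) ∧
      C ≤ G ⊓ centralizer (B : Set X) := by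
    intro B hB
    refine ⟨le_trans (le_inf hAG ?_) inf_normalizer_le_normalizer_inf,
      inf_le_inf le_rfl (centralizer_le hB.1)⟩
    refine fun a ha => le_normalizer (mem_centralizer_iff.2 fun b hb => ?_)
    exact congrArg Subtype.val (hAab.is_comm.comm ⟨b, hB.1 hb⟩ ⟨a, ha⟩)
  have hGRC : G ≤ R ⊔ C := by
    conv_lhs => rw [← h1]
    refine iSup₂_le fun B hB => ?_
    have h2 := CoprimeAct.commutator_sup_centralizer (hK B hB).1
      (hcop.coprime_dvd_right (card_dvd_of_le inf_le_left)) (Or.inl (hsolv.elim id fun _ =>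
        Group.isSolvable_of_comm fun a b => hAab.is_comm.comm a b))
    conv_lhs => rw [← h2]
    exact sup_le ((le_iSup₂ (f := fun (B : Subgroup X) (_ : B ∈ cocyclic A) =>
      ⁅G ⊓ centralizer (B : Set X), A⁆) B hB).trans le_sup_left)
      (le_sup_of_le_right (inf_le_inf inf_le_left le_rfl))
  -- `A` and `C` normalize `R`
  have hnormR : ∀ x : X, (∀ B ∈ cocyclic A, x ∈ normalizer ((⁅G ⊓ centralizer (B : Set X), A⁆ : Subgroup X) : Set X)) →
      x ∈ normalizer (R : Set X) := by
    intro x hx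
    rw [mem_normalizer_iff_map_conj_eq, hR]
    simp only [Subgroup.map_iSup]
    exact iSup_congr fun B => iSup_congr fun hB => mem_normalizer_iff_map_conj_eq.1 (hx B hB)
  have hAR : A ≤ normalizer (R : Set X) := fun a ha => hnormR a fun B _ =>
    normalizer_commutator_ge_right _ A ha
  have hCR : C ≤ normalizer (R : Set X) := fun c hc => hnormR c fun B hB =>
    normalizer_commutator_ge_left _ A ((hK B hB).2 hc)
  rw [commutator_le]
  intro g hg a ha
  obtain ⟨r, hr, c, hc, rfl⟩ := (Cfsg.Agent.SolvBasic.mem_sup_iff_of_le_normalizer hCR).1 (hGRC hg)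
  have hca : c * a = a * c := (mem_centralizer_iff.1 hc.2 a ha).symm
  have : ⁅r * c, a⁆ = ⁅r, a⁆ := by
    rw [commutatorElement_def, commutatorElement_def]
    calc r * c * a * (r * c)⁻¹ * a⁻¹ = r * (c * a) * c⁻¹ * r⁻¹ * a⁻¹ := by group
      _ = r * a * r⁻¹ * a⁻¹ := by rw [hca]; group
  rw [this, commutatorElement_def, mul_assoc, mul_assoc, ← mul_assoc a]
  exact mul_mem hr (CoprimeAct.conj_mem_of_mem_normalizer (hAR ha) (inv_mem hr))

end Cfsg.Agent.S3734
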