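import Cfsg.Statements.S3735


set_option autoImplicit false
open Cfsg

namespace Cfsg.Agent.S3735

/-- Elements of a join inside an abelian subgroup are products. -/
lemma exists_mul_of_mem_sup {G : Type*} [Group G] {V U W : Subgroup G} (hV : IsMulCommutative V)
    (hU : U ≤ V) (hW : W ≤ V) {x : G} (hx : x ∈ U ⊔ W) : ∃ u ∈ U, ∃ w ∈ W, u * w = x := by
  have hn : U ≤ Subgroup.normalizer (W : Set G) := fun u hu => by
    rw [Subgroup.mem_normalizer_iff]
    intro y
    constructor <;> intro hy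
    · have := congrArg Subtype.val (hV.is_comm.comm (⟨u, hU hu⟩ : V) ⟨y, hW hy⟩)
      simp only [Subgroup.coe_mul] at this
      rwa [this, mul_inv_cancel_right]
    · have h2 := congrArg Subtype.val (hV.is_comm.comm (⟨u⁻¹, inv_mem (hU hu)⟩ : V) ⟨_, hW hy⟩)
      simp only [Subgroup.coe_mul] at h2
      have : y = u * y * u⁻¹ := by
        calc y = u⁻¹ * (u * y * u⁻¹) * u := by group
          _ = u * y * u⁻¹ := by rw [h2]; group
      rwa [this]
  rw [← SetLike.mem_coe, Subgroup.coe_mul_of_left_le_normalizer_right U W hn] at hx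
  exact hx

/-- Clifford's Theorem for actions on finite abelian groups, first part. Let H and V be subgroups of a finite group with V abelian and H normalizing V, and let A be a normal subgroup of H. If every H-invariant subgroup of V has an H-invariant complement in V, then every A-invariant subgroup of V has an A-invariant complement in V. -/
theorem result {G : Type*} [Group G] [Finite G] (H A V : Subgroup G) (hVab : IsMulCommutative V) (hHV : H ≤ Subgroup.normalizer (V : Set G)) (hAH : A ≤ H) (hAn : H ≤ Subgroup.normalizer (A : Set G)) (hss : ∀ U : Subgroup G, U ≤ V → H ≤ Subgroup.normalizer (U : Set G) → ∃ W : Subgroup G, W ≤ V ∧ H ≤ Subgroup.normalizer (W : Set G) ∧ U ⊓ W = ⊥ ∧ U ⊔ W = V) (U : Subgroup G) (hUV : U ≤ V) (hAU : A ≤ Subgroup.normalizer (U : Set G)) : ∃ W : Subgroup G, W ≤ V ∧ A ≤ Subgroup.normalizer (W : Set G) ∧ U ⊓ W = ⊥ ∧ U ⊔ W = V := by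
  classical
  let P : Subgroup G → Prop := fun X => X ≤ V ∧ A ≤ Subgroup.normalizer (X : Set G)
  let S : Set (Subgroup G) := {X | Minimal (fun Y => P Y ∧ Y ≠ ⊥) X}
  have hex : ∀ X, P X → X ≠ ⊥ → ∃ Y ≤ X, Y ∈ S := fun X h1 h2 =>
    exists_minimal_le_of_wellFoundedLT (fun Y => P Y ∧ Y ≠ ⊥) X ⟨h1, h2⟩
  have hsV : sSup S ≤ V := sSup_le fun X hX => hX.1.1.1
  have hHS : H ≤ Subgroup.normalizer (sSup S : Subgroup G) := by
    have hle : ∀ h ∈ H, (sSup S).map (MulAut.conj h).toMonoidHom ≤ sSup S := by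
      intro h hh
      rw [Subgroup.map_le_iff_le_comap]
      refine sSup_le fun X hX => ?_
      rw [← Subgroup.map_le_iff_le_comap]
      refine le_sSup ?_
      have hV' : V.map (MulAut.conj h).toMonoidHom = V := (Subgroup.mem_normalizer_iff_map_conj_eq.1 (hHV hh))
      have hA' : A.map (MulAut.conj h).toMonoidHom = A := (Subgroup.mem_normalizer_iff_map_conj_eq.1 (hAn hh))
      let c := (MulAut.conj h).toMonoidHom
      have hc : Function.Injective c := (MulAut.conj h).injective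
      have hPmap : ∀ Y, P Y → P (Y.map c) := fun Y hY => by
        refine ⟨(Subgroup.map_mono hY.1).trans hV'.le, fun a ha => ?_⟩
        rw [← hA'] at ha
        obtain ⟨a₀, ha₀, rfl⟩ := ha
        rw [Subgroup.mem_normalizer_iff_map_conj_eq]
        conv_rhs => rw [← Subgroup.mem_normalizer_iff_map_conj_eq.1 (hY.2 ha₀)]
        rw [Subgroup.map_map, Subgroup.map_map]
        congr 1
        ext y
        simp [c, mul_assoc]
      refine ⟨⟨hPmap X hX.1.1, fun h0 => hX.1.2 ((Subgroup.map_eq_bot_iff_of_injective X hc).1 h0)⟩,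
        fun Y hY hYX => ?_⟩
      let d := (MulAut.conj h⁻¹).toMonoidHom
      have hcd : ∀ Z : Subgroup G, (Z.map d).map c = Z := fun Z => by
        rw [Subgroup.map_map]
        convert Subgroup.map_id Z
        ext y; simp [c, d]; group
      have hYd : P (Y.map d) := by
        have hV'' : V.map d = V := Subgroup.mem_normalizer_iff_map_conj_eq.1 (hHV (inv_mem hh))
        have hA'' : A.map d = A := Subgroup.mem_normalizer_iff_map_conj_eq.1 (hAn (inv_mem hh))
        refine ⟨(Subgroup.map_mono hY.1.1).trans hV''.le, fun a ha => ?_⟩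
        rw [← hA''] at ha
        obtain ⟨a₀, ha₀, rfl⟩ := ha
        rw [Subgroup.mem_normalizer_iff_map_conj_eq]
        conv_rhs => rw [← Subgroup.mem_normalizer_iff_map_conj_eq.1 (hY.1.2 ha₀)]
        rw [Subgroup.map_map, Subgroup.map_map]
        congr 1
        ext y
        simp [d, mul_assoc]
      have hne : Y.map d ≠ ⊥ := fun h0 =>
        hY.2 ((Subgroup.map_eq_bot_iff_of_injective Y (MulAut.conj h⁻¹).injective).1 h0)
      have hle' : Y.map d ≤ X := by
        rw [← Subgroup.map_le_map_iff_of_injective hc, hcd]; exact hYX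
      have := hX.2 ⟨hYd, hne⟩ hle'
      calc X.map c ≤ (Y.map d).map c := Subgroup.map_mono this
        _ = Y := hcd Y
    intro h hh
    rw [Subgroup.mem_normalizer_iff]
    intro y
    refine ⟨fun hy => hle h hh ⟨y, hy, rfl⟩, fun hy => ?_⟩
    have := hle h⁻¹ (inv_mem hh) ⟨_, hy, rfl⟩
    simpa [mul_assoc] using this
  have hSV : sSup S = V := by
    obtain ⟨C, hCV, hCH, hSC, hSC'⟩ := hss _ hsV hHS
    by_contra hne
    have hC : C ≠ ⊥ := fun h0 => hne (by rw [← hSC', h0, sup_bot_eq])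
    obtain ⟨Y, hYC, hY⟩ := hex C ⟨hCV, hAH.trans hCH⟩ hC
    exact hY.1.2 (le_bot_iff.1 (hSC ▸ le_inf (le_sSup hY) hYC))
  obtain ⟨W, hW⟩ : ∃ W, Maximal (fun W => P W ∧ U ⊓ W = ⊥) W := by
    obtain ⟨W, -, hW⟩ := exists_maximal_ge_of_wellFoundedGT (fun W => P W ∧ U ⊓ W = ⊥) ⊥
      ⟨⟨bot_le, fun a _ => by rw [Subgroup.mem_normalizer_iff]; intro y; simp [mul_inv_eq_one]⟩,
        inf_bot_eq U⟩
    exact ⟨W, hW⟩
  refine ⟨W, hW.1.1.1, hW.1.1.2, hW.1.2, le_antisymm (sup_le hUV hW.1.1.1) ?_⟩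
  rw [← hSV]
  refine sSup_le fun X hX => ?_
  by_contra hXn
  have hUW : A ≤ Subgroup.normalizer ((U ⊔ W : Subgroup G) : Set G) := fun a ha => by
    rw [Subgroup.mem_normalizer_iff_map_conj_eq, Subgroup.map_sup,
      Subgroup.mem_normalizer_iff_map_conj_eq.1 (hAU ha),
      Subgroup.mem_normalizer_iff_map_conj_eq.1 (hW.1.1.2 ha)]
  have hXi : X ⊓ (U ⊔ W) = ⊥ := by
    by_contra h0
    refine hXn ((hX.2 ⟨⟨inf_le_left.trans hX.1.1.1, fun a ha => ?_⟩, h0⟩ inf_le_left).trans inf_le_right)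
    rw [Subgroup.mem_normalizer_iff_map_conj_eq, Subgroup.map_inf _ _ _ (MulAut.conj a).injective,
      Subgroup.mem_normalizer_iff_map_conj_eq.1 (hX.1.1.2 ha),
      Subgroup.mem_normalizer_iff_map_conj_eq.1 (hUW ha)]
  have hWX : P (W ⊔ X) ∧ U ⊓ (W ⊔ X) = ⊥ := by
    refine ⟨⟨sup_le hW.1.1.1 hX.1.1.1, fun a ha => ?_⟩, ?_⟩
    · rw [Subgroup.mem_normalizer_iff_map_conj_eq, Subgroup.map_sup,
        Subgroup.mem_normalizer_iff_map_conj_eq.1 (hW.1.1.2 ha),
        Subgroup.mem_normalizer_iff_map_conj_eq.1 (hX.1.1.2 ha)]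
    · rw [eq_bot_iff]
      rintro u ⟨hu, huWX⟩
      obtain ⟨w, hw, x, hx, rfl⟩ := exists_mul_of_mem_sup hVab hW.1.1.1 hX.1.1.1 huWX
      have hxm : x ∈ X ⊓ (U ⊔ W) := ⟨hx, by
        rw [show x = w⁻¹ * (w * x) by group]
        exact mul_mem (Subgroup.mem_sup_right (inv_mem hw)) (Subgroup.mem_sup_left hu)⟩
      rw [hXi, Subgroup.mem_bot] at hxm
      subst hxm
      rw [mul_one] at hu
      have : w ∈ U ⊓ W := ⟨hu, hw⟩
      rw [hW.1.2] at this
      simpa using this
  exact hXn ((le_sup_right.trans (hW.2 hWX le_sup_left)).trans le_sup_right)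

end Cfsg.Agent.S3735
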