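import Cfsg.Statements.S3736
import Cfsg.Agent.Lib.Transfer.PGroup
import Cfsg.Agent.Lib.Solvable.NilpotentFrattini
import Cfsg.Agent.Lib.Solvable.Coprime
import Cfsg.Agent.Lib.LocalEven.Basic
import Mathlib

set_option autoImplicit false
open Cfsg

namespace Cfsg.Agent.S3736

open scoped commutatorElement
open Subgroup

/-- Fixed points lie in every normal subgroup with abelian quotient, when `P = ⁅P, A⁆`. -/
theorem fixed_le {X : Type*} [Group X] [Finite X] {A P : Subgroup X} (hAP : A ≤ normalizer (P : Set X))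
    (hcop : (Nat.card A).Coprime (Nat.card P)) (hPA : ⁅P, A⁆ = P) (N : Subgroup P) [N.Normal]
    (hN : commutator P ≤ N) : P ⊓ centralizer (A : Set X) ≤ N.map P.subtype := by
  classical
  have := Fintype.ofFinite A
  haveI hQ : IsMulCommutative (P ⧸ N) := ⟨⟨fun a b => by
    induction a using QuotientGroup.induction_on with
    | H a =>
      induction b using QuotientGroup.induction_on with
      | H b =>
        rw [← QuotientGroup.mk_mul, ← QuotientGroup.mk_mul, QuotientGroup.eq]
        apply hN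
        rw [show (a * b)⁻¹ * (b * a) = ⁅b⁻¹, a⁻¹⁆ by simp only [commutatorElement_def]; group]
        exact Subgroup.commutator_mem_commutator (mem_top _) (mem_top _)⟩⟩
  letI : CommGroup (P ⧸ N) :=
    { (inferInstance : Group (P ⧸ N)) with mul_comm := fun a b => hQ.is_comm.comm a b }
  let φ : A →* MulAut P := P.normalizerMonoidHom.comp (Subgroup.inclusion hAP)
  let f : P →* P ⧸ N := QuotientGroup.mk' N
  let τ : P →* P ⧸ N := ∏ a : A, f.comp (φ a).toMonoidHom
  have hτ : ∀ x, τ x = ∏ a : A, f (φ a x) := fun x => MonoidHom.finsetProd_apply ..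
  have hinv : ∀ (b : A) x, τ (φ b x) = τ x := fun b x => by
    rw [hτ, hτ]
    refine Fintype.prod_equiv (Equiv.mulRight b) _ _ fun a => ?_
    simp [map_mul]
  have hkill : ⁅P, A⁆ ≤ τ.ker.map P.subtype := by
    rw [Subgroup.commutator_le]
    intro v hv a ha
    refine ⟨⟨v, hv⟩ * (φ ⟨a, ha⟩ ⟨v, hv⟩)⁻¹, ?_, ?_⟩
    · rw [SetLike.mem_coe, MonoidHom.mem_ker, map_mul, map_inv, hinv, mul_inv_cancel]
    · show ((⟨v, hv⟩ : P) : X) * ((φ ⟨a, ha⟩ ⟨v, hv⟩ : P) : X)⁻¹ = ⁅v, a⁆
      show v * (a * v * a⁻¹)⁻¹ = ⁅v, a⁆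
      simp only [commutatorElement_def]; group
  rw [hPA] at hkill
  rintro x ⟨hxP, hxC⟩
  obtain ⟨y, hy, hyx⟩ := hkill hxP
  obtain rfl : y = ⟨x, hxP⟩ := Subtype.ext hyx
  refine ⟨⟨x, hxP⟩, ?_, rfl⟩
  have h1 : τ ⟨x, hxP⟩ = f ⟨x, hxP⟩ ^ Nat.card A := by
    rw [hτ, Nat.card_eq_fintype_card, ← Finset.card_univ, ← Finset.prod_const]
    refine Finset.prod_congr rfl fun a _ => congrArg f (Subtype.ext ?_)
    show (a : X) * x * (a : X)⁻¹ = x
    rw [Subgroup.mem_centralizer_iff.1 hxC a a.2, mul_inv_cancel_right]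
  rw [SetLike.mem_coe, MonoidHom.mem_ker, h1] at hy
  have hc : (Nat.card (P ⧸ N)).Coprime (Nat.card A) :=
    (hcop.coprime_dvd_right (N.card_quotient_dvd_card)).symm
  have h2 : f ⟨x, hxP⟩ = 1 :=
    (powCoprime hc).injective (by simp only [powCoprime_apply, one_pow]; exact hy)
  exact (QuotientGroup.eq_one_iff _).1 h2

/-- The Hall–Higman reduction for a minimal non-trivial action. Let B, A and P be subgroups of a finite group with P a p-group, B normalizing P, and A a normal subgroup of B of order prime to p. Suppose A does not centralize P but centralizes every proper B-invariant subgroup of P. Then [P, A] = P; P is elementary abelian or special; B acts irreducibly on P/Φ(P), that is, the only B-invariant subgroups of P containing Φ(P) are Φ(P) and P; and if p is odd then every element of P has order dividing p. -/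
theorem result {X : Type*} [Group X] [Finite X] {p : ℕ} [Fact p.Prime] (B A P : Subgroup X) (hP : IsPGroup p P) (hBP : B ≤ Subgroup.normalizer (P : Set X)) (hAB : A ≤ B) (hAn : B ≤ Subgroup.normalizer (A : Set X)) (hAp : (Nat.card A).Coprime p) (hnt : ⁅P, A⁆ ≠ ⊥) (hmin : ∀ U : Subgroup X, U < P → B ≤ Subgroup.normalizer (U : Set X) → ⁅U, A⁆ = ⊥) : ⁅P, A⁆ = P ∧ (Cfsg.IsElementaryAbelian p P ∨ Cfsg.IsSpecial p ↥P) ∧ (∀ U : Subgroup X, (frattini ↥P).map P.subtype ≤ U → U ≤ P → B ≤ Subgroup.normalizer (U : Set X) → U = (frattini ↥P).map P.subtype ∨ U = P) ∧ (p ≠ 2 → ∀ x ∈ P, x ^ p = 1) := by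
  classical
  have hp1 : p.Prime := Fact.out
  have hAP : A ≤ normalizer (P : Set X) := hAB.trans hBP
  have hcop : (Nat.card A).Coprime (Nat.card P) := by
    obtain ⟨k, hk⟩ := hP.exists_card_eq
    rw [hk]; exact hAp.pow_right k
  haveI hnil : Group.IsNilpotent P := hP.isNilpotent
  have hsol : Group.IsSolvable A ∨ Group.IsSolvable P := Or.inr inferInstance
  -- `P = ⁅P, A⁆`
  have hPA : ⁅P, A⁆ = P := by
    by_contra h
    refine hnt ?_
    rw [← Cfsg.Agent.CoprimeAct.commutator_commutator hAP hcop hsol]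
    refine hmin _ (lt_of_le_of_ne (Cfsg.Agent.CoprimeAct.commutator_le_left hAP) h) fun b hb => ?_
    rw [mem_normalizer_iff_map_conj_eq, map_commutator, mem_normalizer_iff_map_conj_eq.1 (hBP hb),
      mem_normalizer_iff_map_conj_eq.1 (hAn hb)]
  have hchar : ∀ C : Subgroup P, C.Characteristic → B ≤ normalizer ((C.map P.subtype : Subgroup X) : Set X) :=
    fun C hC => hBP.trans (Cfsg.Agent.LEBasic.le_normalizer_map_of_characteristic hC)
  have hsmall : ∀ C : Subgroup P, C.Characteristic → C ≠ ⊤ → C.map P.subtype ≤ P ⊓ centralizer (A : Set X) := by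
    intro C hC hne
    have hlt : C.map P.subtype < P := by
      refine lt_of_le_of_ne (map_subtype_le C) fun h => hne ?_
      apply map_injective P.subtype_injective
      rw [h, ← MonoidHom.range_eq_map, range_subtype]
    exact le_inf hlt.le (commutator_eq_bot_iff_le_centralizer.1 (hmin _ hlt (hchar C hC)))
  haveI hPnt : Nontrivial P := (nontrivial_iff_ne_bot P).2 fun h => hnt (by rw [h, commutator_bot_left])
  have hΦne : frattini P ≠ ⊤ := by
    intro h
    obtain h' | ⟨M, hM, -⟩ := eq_top_or_exists_le_coatom (⊥ : Subgroup P)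
    · exact bot_ne_top h'
    · exact hM.1 (top_le_iff.1 (h ▸ frattini_le_coatom hM))
  have hΦc : (frattini P).map P.subtype ≤ P ⊓ centralizer (A : Set X) :=
    hsmall _ inferInstance hΦne
  have hCΦ : P ⊓ centralizer (A : Set X) ≤ (frattini P).map P.subtype :=
    fixed_le hAP hcop hPA _ (Cfsg.Agent.SolvStruct.commutator_le_frattini P)
  have hCD : P ⊓ centralizer (A : Set X) ≤ (commutator P).map P.subtype :=
    fixed_le hAP hcop hPA _ le_rfl
  have hΦD : frattini P = commutator P :=
    le_antisymm ((map_le_map_iff_of_injective P.subtype_injective).1 (hΦc.trans hCD))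
      (Cfsg.Agent.SolvStruct.commutator_le_frattini P)
  -- the Frattini subgroup is central
  have hΦZ : frattini P ≤ center P := by
    have hFP : ⁅⁅A, P⁆, (frattini P).map P.subtype⁆ = ⊥ := by
      refine commutator_commutator_eq_bot_of_rotate ?_ ?_
      · refine eq_bot_iff.2 ?_
        refine (commutator_mono ?_ le_rfl).trans (le_of_eq (hmin _ ?_ (hchar (frattini P) inferInstance)))
        · rw [commutator_le]
          rintro x hx _ ⟨y, hy, rfl⟩
          exact ⟨⁅(⟨x, hx⟩ : P), y⁆, Subgroup.commutator_le_right ⊤ (frattini P) (commutator_mem_commutator (mem_top _) hy), rfl⟩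
        · refine lt_of_le_of_ne (map_subtype_le _) fun h => hΦne ?_
          apply map_injective P.subtype_injective
          rw [h, ← MonoidHom.range_eq_map, range_subtype]
      · rw [commutator_eq_bot_iff_le_centralizer.2 (hΦc.trans inf_le_right), commutator_bot_left]
    rw [commutator_comm A P, hPA, commutator_eq_bot_iff_le_centralizer] at hFP
    intro z hz
    rw [Subgroup.mem_center_iff]
    intro g
    exact Subtype.ext (Subgroup.mem_centralizer_iff.1 (hFP g.2) z ⟨z, hz, rfl⟩).symm
  refine ⟨hPA, ?_, ?_, ?_⟩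
  · by_cases hZ : center P = ⊤
    · left
      have hD : commutator P = ⊥ := (commutator_eq_bot_iff_center_eq_top P).2 hZ
      refine ⟨⟨⟨fun a b => ?_⟩⟩, fun a ha => ?_⟩
      · exact (Subgroup.mem_center_iff.1 (show a ∈ center P by rw [hZ]; exact mem_top a) b).symm
      · have h1 : (⟨a, ha⟩ : P) ^ p ∈ frattini P := Cfsg.Agent.PGroupBasics.pow_mem_frattini hP _
        rw [hΦD, hD, mem_bot] at h1
        exact congrArg Subtype.val h1
    · right
      have hΦZ' : frattini P = center P :=
        le_antisymm hΦZ ((map_le_map_iff_of_injective P.subtype_injective).1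
          ((hsmall _ inferInstance hZ).trans hCΦ))
      exact ⟨hP, hΦZ', by rw [← hΦD, hΦZ']⟩
  · intro U hU1 hU2 hU3
    by_cases h : U = P
    · exact Or.inr h
    · left
      exact le_antisymm ((le_inf hU2 (commutator_eq_bot_iff_le_centralizer.1
        (hmin U (lt_of_le_of_ne hU2 h) hU3))).trans hCΦ) hU1
  · intro hp2
    have hcl : ∀ a b : P, ⁅a, b⁆ ∈ center P := fun a b =>
      hΦZ (Cfsg.Agent.SolvStruct.commutator_le_frattini P (commutator_mem_commutator (mem_top a) (mem_top b)))
    let g : P →* P :=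
      { toFun := fun x => x ^ p
        map_one' := one_pow p
        map_mul' := fun x y => by
          set z := (x * y)⁻¹ * (y * x) with hz
          have hzc : ∀ u, Commute z u := by
            intro u
            have h : z = ⁅y⁻¹, x⁻¹⁆ := by rw [hz, commutatorElement_def]; group
            rw [h]
            exact (Subgroup.mem_center_iff.1 (hcl _ _) u).symm
          have hba : y * x = x * y * z := by rw [hz]; group
          have h1 := Cfsg.Agent.LEOmega.pow_mul_swap hba (hzc y) p
          rw [← (Subgroup.mem_center_iff.1 (hΦZ (Cfsg.Agent.PGroupBasics.pow_mem_frattini hP y)) x),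
            eq_comm, mul_eq_left] at h1
          show (x * y) ^ p = x ^ p * y ^ p
          rw [Cfsg.Agent.LEOmega.mul_pow_class_two hba (hzc x) (hzc y)]
          obtain ⟨d, hd⟩ := hp1.dvd_choose_self two_ne_zero (lt_of_le_of_ne hp1.two_le (Ne.symm hp2))
          rw [hd, pow_mul, h1, one_pow, mul_one] }
    have hk : ⁅P, A⁆ ≤ g.ker.map P.subtype := by
      rw [commutator_le]
      intro v hv a ha
      refine ⟨⟨⁅v, a⁆, Cfsg.Agent.CoprimeAct.commutator_le_left hAP (commutator_mem_commutator hv ha)⟩, ?_, rfl⟩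
      let w : P := ⟨a * v * a⁻¹, Cfsg.Agent.CoprimeAct.conj_mem_of_mem_normalizer (hAP ha) hv⟩
      have e : (⟨⁅v, a⁆, Cfsg.Agent.CoprimeAct.commutator_le_left hAP (commutator_mem_commutator hv ha)⟩ : P)
          = ⟨v, hv⟩ * w⁻¹ := Subtype.ext (by simp [w, commutatorElement_def, mul_assoc])
      rw [SetLike.mem_coe, MonoidHom.mem_ker, e, map_mul, map_inv, mul_inv_eq_one]
      have hfix := Subgroup.mem_centralizer_iff.1
        (hΦc ⟨(⟨v, hv⟩ : P) ^ p, Cfsg.Agent.PGroupBasics.pow_mem_frattini hP _, rfl⟩).2 a ha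
      apply Subtype.ext
      show ((⟨v, hv⟩ : P) ^ p : P).1 = (w ^ p : P).1
      rw [SubgroupClass.coe_pow, SubgroupClass.coe_pow, conj_pow]
      simp only [Subgroup.coe_subtype, SubgroupClass.coe_pow] at hfix
      rw [hfix, mul_inv_cancel_right]
    rw [hPA] at hk
    intro x hx
    obtain ⟨y, hy, rfl⟩ := hk hx
    exact congrArg Subtype.val (MonoidHom.mem_ker.1 hy)

end Cfsg.Agent.S3736
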