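import Cfsg.Statements.S3738
import Cfsg.Agent.S3803
import Cfsg.Agent.Lib.Transfer.PGroup
import Cfsg.Agent.Lib.FGStruct.SubgroupCount
import Mathlib

set_option autoImplicit false
open Cfsg

namespace Cfsg.Agent.S3738

open Cfsg.Agent
open Cfsg.Agent.S3803
open scoped commutatorElement

variable {X : Type*} [Group X] [Finite X]

lemma rank_bound {P : Subgroup X}
    (hrank : ∀ V : Subgroup X, V ≤ P → IsMulCommutative V → Cfsg.PRankLE 2 2 V) {V : Subgroup X}
    (hVP : V ≤ P) (hab : IsMulCommutative ↥V) (hexp : ∀ v ∈ V, v ^ 2 = 1) : Nat.card ↥V ≤ 4 := by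
  have h := hrank V hVP hab ⊤ ⟨⟨fun a b => Subtype.ext (hab.is_comm.comm _ _)⟩⟩
    (fun a _ => Subtype.ext (hexp _ a.2))
  rwa [Subgroup.card_top] at h

theorem contra (d : X) (n : ℕ) (hn : 2 ≤ n) (hd : orderOf d = 3 ^ n) (P : Subgroup X) (hP : IsPGroup 2 P)
    (hdP : d ∈ Subgroup.normalizer (P : Set X)) (hfaith : Subgroup.zpowers d ⊓ Subgroup.centralizer (P : Set X) = ⊥)
    (hfpf : P ⊓ Subgroup.centralizer {d} = ⊥)
    (hrank : ∀ V : Subgroup X, V ≤ P → IsMulCommutative V → Cfsg.PRankLE 2 2 V) : False := by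
  classical
  have : Fact (Nat.Prime 2) := ⟨Nat.prime_two⟩
  set e := d ^ 3 ^ (n - 1) with he
  have hde : Commute d e := Commute.self_pow d _
  have he3 : orderOf e = 3 := by
    rw [he, orderOf_pow' _ (pow_ne_zero _ (by norm_num)), hd,
      Nat.gcd_eq_right (pow_dvd_pow 3 (by omega)), Nat.pow_div (by omega) (by norm_num),
      show n - (n - 1) = 1 by omega, pow_one]
  have heodd : Odd (orderOf e) := by rw [he3]; decide
  have hnt : ∃ x ∈ P, e * x ≠ x * e := by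
    by_contra hc
    push Not at hc
    have h1 : e ∈ Subgroup.zpowers d ⊓ Subgroup.centralizer (P : Set X) :=
      ⟨pow_mem (Subgroup.mem_zpowers d) _, Subgroup.mem_centralizer_iff.2 fun x hx => (hc x hx).symm⟩
    rw [hfaith, Subgroup.mem_bot] at h1
    rw [h1, orderOf_one] at he3
    norm_num at he3
  obtain ⟨Q, hQmin⟩ := (Set.toFinite {Q : Subgroup X | Q ≤ P ∧ d ∈ Subgroup.normalizer (Q : Set X) ∧
    ∃ x ∈ Q, e * x ≠ x * e}).exists_minimal ⟨P, le_rfl, hdP, hnt⟩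
  obtain ⟨⟨hQP, hdQ, x₀, hx₀, hx₀e⟩, hmin⟩ := hQmin
  have hQ : IsPGroup 2 ↥Q := hP.to_le hQP
  set F := Q ⊓ Subgroup.centralizer {e} with hFdef
  have hmemF : ∀ {y : X}, y ∈ Q → e * y = y * e → y ∈ F := fun hy h =>
    ⟨hy, Subgroup.mem_centralizer_singleton_iff.2 h.symm⟩
  have hFfix : ∀ {y : X}, y ∈ F → e * y = y * e := fun hy =>
    (Subgroup.mem_centralizer_singleton_iff.1 hy.2).symm
  have hFQ : F ≤ Q := inf_le_left
  have hfix : ∀ K : Subgroup X, K ≤ Q → d ∈ Subgroup.normalizer (K : Set X) → K ≠ Q → K ≤ F := by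
    intro K hKQ hdK hne x hx
    refine hmemF (hKQ hx) ?_
    by_contra hc
    exact hne (le_antisymm hKQ (hmin ⟨hKQ.trans hQP, hdK, x, hx, hc⟩ hKQ))
  have hconj : ∀ {z : X}, z ∈ Q → d * z * d⁻¹ ∈ Q := fun hz => (Subgroup.mem_normalizer_iff.1 hdQ _).1 hz
  have heQ : e ∈ Subgroup.normalizer (Q : Set X) := pow_mem hdQ _
  have heconj : ∀ {z : X}, z ∈ Q → e * z * e⁻¹ ∈ Q := fun hz => (Subgroup.mem_normalizer_iff.1 heQ _).1 hz
  have hFd : d ∈ Subgroup.normalizer (F : Set X) := by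
    refine mem_normalizer_of_conj_mem fun k hk => hmemF (hconj hk.1) ?_
    calc e * (d * k * d⁻¹) = (e * d) * k * d⁻¹ := by group
      _ = d * (e * k) * d⁻¹ := by rw [hde.symm.eq]; group
      _ = d * k * (e * d⁻¹) := by rw [hFfix hk]; group
      _ = d * k * d⁻¹ * e := by rw [hde.symm.inv_right.eq]; group
  -- squares lie in `F`
  have hsqF : ∀ x ∈ Q, x ^ 2 ∈ F := by
    set S := Subgroup.closure {z : X | ∃ x ∈ Q, x ^ 2 = z} with hS
    have hSQ : S ≤ Q := (Subgroup.closure_le _).2 (by rintro _ ⟨x, hx, rfl⟩; exact pow_mem hx 2)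
    have hSd : d ∈ Subgroup.normalizer (S : Set X) := by
      refine mem_normalizer_of_conj_mem fun k hk => ?_
      have h1 : S.map (MulAut.conj d).toMonoidHom ≤ S := by
        rw [hS, MonoidHom.map_closure, Subgroup.closure_le]
        rintro _ ⟨_, ⟨x, hx, rfl⟩, rfl⟩
        exact Subgroup.subset_closure ⟨d * x * d⁻¹, hconj hx, (map_pow (MulAut.conj d) x 2).symm⟩
      exact h1 ⟨k, hk, rfl⟩
    have hSfr : S ≤ (frattini ↥Q).map Q.subtype := (Subgroup.closure_le _).2 (by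
      rintro _ ⟨x, hx, rfl⟩
      exact ⟨_, PGroupBasics.pow_mem_frattini hQ ⟨x, hx⟩, rfl⟩)
    have hne : S ≠ Q := by
      intro hSQ'
      rw [hSQ'] at hSfr
      have h2 : (⊥ : Subgroup ↥Q) ⊔ frattini ↥Q = ⊤ := by
        rw [bot_sup_eq, Subgroup.eq_top_iff']
        intro y
        obtain ⟨w, hw, hwy⟩ := hSfr y.2
        exact Q.subtype_injective hwy ▸ hw
      have h3 : (⟨x₀, hx₀⟩ : ↥Q) ∈ (⊥ : Subgroup ↥Q) := frattini_nongenerating h2 ▸ Subgroup.mem_top _
      rw [Subgroup.mem_bot] at h3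
      exact hx₀e (by rw [show x₀ = 1 from congrArg Subtype.val h3]; simp)
    exact fun x hx => hfix S hSQ hSd hne (Subgroup.subset_closure ⟨x, hx, rfl⟩)
  have hFn : ∀ x ∈ Q, ∀ f ∈ F, x * f * x⁻¹ ∈ F := fun x hx f hf => by
    have e1 : x * f * x⁻¹ = (x * f) ^ 2 * f⁻¹ * (x ^ 2)⁻¹ := by simp only [pow_two]; group
    rw [e1]
    exact mul_mem (mul_mem (hsqF _ (mul_mem hx (hFQ hf))) (inv_mem hf)) (inv_mem (hsqF x hx))
  obtain ⟨x, hx, hu⟩ : ∃ x ∈ Q, x⁻¹ * (e * x * e⁻¹) ∉ F := by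
    by_contra hc
    push Not at hc
    have h1 := inv_pow_conj (x := x₀) (u := x₀⁻¹ * (e * x₀ * e⁻¹)) (hFfix (hc x₀ hx₀)) (by group) (orderOf e)
    rw [pow_orderOf_eq_one, one_mul, inv_one, mul_one, left_eq_mul] at h1
    have h2 := fixed_of_two_group hQ heodd (mul_mem (inv_mem hx₀) (heconj hx₀)) h1
    rw [inv_mul_eq_one] at h2
    exact hx₀e (calc e * x₀ = (e * x₀ * e⁻¹) * e := by group
      _ = x₀ * e := by rw [← h2])
  have hcent : ∀ f ∈ F, ∀ q ∈ Q, f * q = q * f := by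
    set K := Q ⊓ Subgroup.centralizer (F : Set X) with hK
    have hKd : d ∈ Subgroup.normalizer (K : Set X) := by
      refine mem_normalizer_of_conj_mem fun k hk => ⟨hconj hk.1, Subgroup.mem_centralizer_iff.2 fun f hf => ?_⟩
      have hf' : d⁻¹ * f * d ∈ F := by
        have := (Subgroup.mem_normalizer_iff.1 (inv_mem hFd) f).1 hf
        simpa using this
      have h1 := Subgroup.mem_centralizer_iff.1 hk.2 _ hf'
      calc f * (d * k * d⁻¹) = d * ((d⁻¹ * f * d) * k) * d⁻¹ := by group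
        _ = d * (k * (d⁻¹ * f * d)) * d⁻¹ := by rw [h1]
        _ = _ := by group
    have huK : x⁻¹ * (e * x * e⁻¹) ∈ K := by
      refine ⟨(show x⁻¹ * (e * x * e⁻¹) ∈ Q from mul_mem (inv_mem hx) (heconj hx)), Subgroup.mem_centralizer_iff.2 fun f hf => ?_⟩
      have h1 : e * (x * f * x⁻¹) = (x * f * x⁻¹) * e := hFfix (hFn x hx f hf)
      have h0 : e * f = f * e := hFfix hf
      have h2 : e * x * e⁻¹ * f * (e * x * e⁻¹)⁻¹ = x * f * x⁻¹ := by
        calc e * x * e⁻¹ * f * (e * x * e⁻¹)⁻¹ = e * x * e⁻¹ * (f * e) * x⁻¹ * e⁻¹ := by group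
          _ = e * (x * f * x⁻¹) * e⁻¹ := by rw [← h0]; group
          _ = x * f * x⁻¹ := by rw [h1, mul_inv_cancel_right]
      calc f * (x⁻¹ * (e * x * e⁻¹)) = x⁻¹ * (x * f * x⁻¹) * (e * x * e⁻¹) := by group
        _ = x⁻¹ * (e * x * e⁻¹ * f * (e * x * e⁻¹)⁻¹) * (e * x * e⁻¹) := by rw [h2]
        _ = _ := by group
    have hKQ : K = Q := by
      by_contra hne
      exact hu (hfix K inf_le_left hKd hne huK)
    exact fun f hf q hq => Subgroup.mem_centralizer_iff.1 (hKQ.ge hq).2 f hf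
  have hcomm : ∀ y ∈ Q, ∀ z ∈ Q, ⁅y, z⁆ ∈ F := by
    intro y hy z hz
    have e1 : ⁅y, z⁆ = (y * z) ^ 2 * (z⁻¹ * (y ^ 2)⁻¹ * z⁻¹) := by
      simp only [commutatorElement_def, pow_two]; group
    have e2 : z⁻¹ * (y ^ 2)⁻¹ * z⁻¹ = (y ^ 2)⁻¹ * (z ^ 2)⁻¹ := by
      rw [← hcent _ (inv_mem (hsqF y hy)) _ (inv_mem hz), mul_assoc]
      simp only [pow_two]; group
    rw [e1, e2]
    exact mul_mem (hsqF _ (mul_mem hy hz)) (mul_mem (inv_mem (hsqF y hy)) (inv_mem (hsqF z hz)))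
  have hsqm : ∀ y ∈ Q, ∀ z ∈ Q, (y * z) ^ 2 = ⁅z, y⁆ * (y ^ 2 * z ^ 2) := fun y hy z hz => by
    calc (y * z) ^ 2 = y * (z * y) * z := by rw [pow_two]; group
      _ = y * (⁅z, y⁆ * (y * z)) * z := by simp only [commutatorElement_def]; group
      _ = (y * ⁅z, y⁆) * (y * z * z) := by group
      _ = (⁅z, y⁆ * y) * (y * z * z) := by rw [hcent _ (hcomm z hz y hy) y hy]
      _ = _ := by simp only [pow_two]; group
  have hc2 : ∀ y ∈ Q, ∀ z ∈ Q, ⁅y, z⁆ ^ 2 = 1 := by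
    intro y hy z hz
    have hcc := hcent _ (hcomm y hy z hz) y hy
    have h1 : y ^ 2 * z = ⁅y, z⁆ ^ 2 * (z * y ^ 2) := by
      calc y ^ 2 * z = y * (y * z) := by rw [pow_two, mul_assoc]
        _ = y * (⁅y, z⁆ * (z * y)) := by simp only [commutatorElement_def]; group
        _ = (y * ⁅y, z⁆) * z * y := by group
        _ = (⁅y, z⁆ * y) * z * y := by rw [hcc]
        _ = ⁅y, z⁆ * (y * z) * y := by group
        _ = ⁅y, z⁆ * (⁅y, z⁆ * (z * y)) * y := by
          congr 2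
          simp only [commutatorElement_def]; group
        _ = ⁅y, z⁆ ^ 2 * (z * y ^ 2) := by simp only [pow_two]; group
    rw [hcent _ (hsqF y hy) z hz] at h1
    exact mul_eq_right.1 h1.symm
  -- all fourth powers are trivial
  have hexp4 : ∀ y ∈ Q, y ^ 4 = 1 := by
    let U : Subgroup X :=
    { carrier := {y | y ∈ Q ∧ y ^ 4 = 1}
      one_mem' := ⟨one_mem Q, one_pow 4⟩
      inv_mem' := fun {y} hy => ⟨inv_mem hy.1, by rw [inv_pow, hy.2, inv_one]⟩
      mul_mem' := fun {y z} hy hz => ⟨mul_mem hy.1 hz.1, by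
        have ha : Commute ⁅z, y⁆ (y ^ 2 * z ^ 2) :=
          hcent _ (hcomm z hz.1 y hy.1) _ (mul_mem (pow_mem hy.1 2) (pow_mem hz.1 2))
        have hb : Commute (y ^ 2) (z ^ 2) := hcent _ (hsqF y hy.1) _ (pow_mem hz.1 2)
        rw [show (4 : ℕ) = 2 * 2 from rfl, pow_mul, hsqm y hy.1 z hz.1, ha.mul_pow, hb.mul_pow, hc2 z hz.1 y hy.1,
          ← pow_mul, ← pow_mul, show 2 * 2 = 4 from rfl, hy.2, hz.2, one_mul, one_mul]⟩ }
    have hUd : d ∈ Subgroup.normalizer (U : Set X) :=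
      mem_normalizer_of_conj_mem fun k hk => ⟨hconj hk.1, by rw [conj_pow, hk.2, mul_one, mul_inv_cancel]⟩
    have huU : x⁻¹ * (e * x * e⁻¹) ∈ U := by
      refine ⟨mul_mem (inv_mem hx) (heconj hx), ?_⟩
      have hy := heconj hx
      have hsq : (e * x * e⁻¹) ^ 2 = x ^ 2 := by
        rw [conj_pow, hFfix (hsqF x hx), mul_inv_cancel_right]
      rw [show (4 : ℕ) = 2 * 2 from rfl, pow_mul, hsqm _ (inv_mem hx) _ hy, hsq, inv_pow, inv_mul_cancel,
        mul_one, hc2 _ hy _ (inv_mem hx)]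
    intro y hy
    by_contra hy4
    exact hu (hfix U (fun w hw => hw.1) hUd (fun hUQ => hy4 (hUQ.ge hy).2) huU)
  -- the involutions
  have hxF : x ∉ F := fun h => hu (mul_mem (inv_mem h) (by
    rw [hFfix h, mul_inv_cancel_right]; exact h))
  have hFne : ∀ k : X, k ∈ Q → k ∉ F → ∀ i : ℕ, i ∣ 3 ^ n → i ≠ 3 ^ n → d ^ i * k * (d ^ i)⁻¹ ≠ k := by
    intro k hkQ hkF i hi hine heq
    refine hkF (hmemF hkQ ?_)
    obtain ⟨j, hj, rfl⟩ := (Nat.dvd_prime_pow Nat.prime_three).1 hi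
    have hjn : j ≤ n - 1 := by
      rcases eq_or_ne j n with rfl | hne
      · exact absurd rfl hine
      · omega
    have hc : Commute (d ^ 3 ^ j) k := mul_inv_eq_iff_eq_mul.1 heq
    obtain ⟨l, hl⟩ := pow_dvd_pow 3 hjn
    rw [he, hl, pow_mul]
    exact (hc.pow_left l).eq
  -- counting the orbits of `d` outside `F`
  have hcount : 3 ^ n ∣ Nat.card ↥Q - Nat.card ↥F := by
    letI : MulAction ↥(Subgroup.zpowers d) {y : X // y ∈ Q ∧ y ∉ F} :=
    { smul := fun a y => ⟨(a : X) * (y : X) * (a : X)⁻¹,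
        (Subgroup.mem_normalizer_iff.1 ((Subgroup.zpowers_le.2 hdQ) a.2) _).1 y.2.1, fun h => y.2.2
          ((Subgroup.mem_normalizer_iff.1 ((Subgroup.zpowers_le.2 hFd) a.2) _).2 h)⟩
      one_smul := fun y => Subtype.ext (show ((1 : ↥(Subgroup.zpowers d)) : X) * (y : X) * _ = y by simp)
      mul_smul := fun a b y => Subtype.ext (show ((a * b : ↥(Subgroup.zpowers d)) : X) * (y : X) * _ = (a : X) * ((b : X) * (y : X) * (b : X)⁻¹) * (a : X)⁻¹ by
        rw [Subgroup.coe_mul]; group) }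
    have h1 := SubgroupCount.card_dvd_of_free (H := ↥(Subgroup.zpowers d)) (X := {y : X // y ∈ Q ∧ y ∉ F}) (fun y => by
      rw [eq_bot_iff]
      intro a ha
      rw [Subgroup.mem_bot]
      obtain ⟨i, hi⟩ := Submonoid.mem_powers_iff _ _ |>.1 ((mem_powers_iff_mem_zpowers).2 a.2)
      have hfx : (a : X) * (y : X) * (a : X)⁻¹ = y := congrArg Subtype.val ha
      rw [← hi] at hfx
      by_contra hne
      have hc : Commute (d ^ i) (y : X) := mul_inv_eq_iff_eq_mul.1 hfx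
      obtain ⟨s, hs⟩ : ∃ s : ℤ, d ^ (i.gcd (3 ^ n)) = (d ^ i) ^ s := by
        refine ⟨Nat.gcdA i (3 ^ n), ?_⟩
        rw [← zpow_natCast d (i.gcd (3 ^ n)), Nat.gcd_eq_gcd_ab, zpow_add, zpow_mul, zpow_mul,
          zpow_natCast, zpow_natCast, ← hd, pow_orderOf_eq_one, one_zpow, mul_one]
      refine hFne y y.2.1 y.2.2 (i.gcd (3 ^ n)) (Nat.gcd_dvd_right _ _) (fun hg => hne (by
        apply Subtype.ext
        rw [← hi, Subgroup.coe_one, ← orderOf_dvd_iff_pow_eq_one, hd, ← hg]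
        exact Nat.gcd_dvd_left _ _)) ?_
      rw [hs, (hc.zpow_left s).eq, mul_inv_cancel_right])
    rw [Nat.card_zpowers, hd] at h1
    convert h1 using 1
    have hset : {y : X | y ∈ Q ∧ y ∉ F} = (Q : Set X) \ (F : Set X) := rfl
    have h2 : Nat.card {y : X // y ∈ Q ∧ y ∉ F} = ((Q : Set X) \ (F : Set X)).ncard := by
      rw [← hset, ← Nat.card_coe_set_eq]; rfl
    rw [h2, Set.ncard_sdiff (show (F : Set X) ⊆ Q from hFQ), ← Nat.card_coe_set_eq, ← Nat.card_coe_set_eq]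
    rfl
  have h9 : 9 ∣ Nat.card ↥Q - Nat.card ↥F := (pow_dvd_pow 3 hn).trans hcount
  obtain ⟨q, hq⟩ := hQ.exists_card_eq
  let V : Subgroup X :=
  { carrier := {f | f ∈ F ∧ f ^ 2 = 1}
    one_mem' := ⟨one_mem F, one_pow 2⟩
    inv_mem' := fun {f} hf => ⟨inv_mem hf.1, by rw [inv_pow, hf.2, inv_one]⟩
    mul_mem' := fun {f g} hf hg => ⟨mul_mem hf.1 hg.1, by
      rw [(show Commute f g from hcent f hf.1 g (hFQ hg.1)).mul_pow, hf.2, hg.2, one_mul]⟩ }
  by_cases hF : F = ⊥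
  · -- then `Q` is elementary abelian of order at most `4`
    have hexp : ∀ y ∈ Q, y ^ 2 = 1 := fun y hy => Subgroup.mem_bot.1 (hF ▸ hsqF y hy)
    have hab : IsMulCommutative ↥Q := ⟨⟨fun a b => Subtype.ext
      (commutatorElement_eq_one_iff_mul_comm.1 (Subgroup.mem_bot.1 (hF ▸ hcomm _ a.2 _ b.2)))⟩⟩
    have h4 := rank_bound hrank hQP hab hexp
    rw [hF, Subgroup.card_bot] at h9
    have hne1 : 1 < Nat.card ↥Q := Q.one_lt_card_iff_ne_bot.2 fun h => hx₀e (by
      have h0 : x₀ = 1 := Subgroup.mem_bot.1 (h ▸ hx₀)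
      rw [h0]; simp)
    have h5 : Nat.card ↥Q - 1 = 0 := Nat.eq_zero_of_dvd_of_lt h9 (by omega)
    omega
  have hVd : d ∈ Subgroup.normalizer (V : Set X) :=
    mem_normalizer_of_conj_mem fun k hk => ⟨(Subgroup.mem_normalizer_iff.1 hFd k).1 hk.1,
      by rw [conj_pow, hk.2, mul_one, mul_inv_cancel]⟩
  have hVab : IsMulCommutative ↥V :=
    ⟨⟨fun a b => Subtype.ext (hcent _ a.2.1 _ (hFQ b.2.1))⟩⟩
  have hno2 : ∀ W : Subgroup X, W ≤ P → d ∈ Subgroup.normalizer (W : Set X) → Nat.card ↥W ≠ 2 := by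
    intro W hWP hdW h2
    obtain ⟨w, hw⟩ := exists_prime_orderOf_dvd_card' (G := ↥W) 2 h2.symm.dvd
    have hall : ∀ v : ↥W, v ≠ 1 → v = w := fun v hv => by
      have hv2 : v ^ 2 = 1 := by rw [← h2]; exact pow_card_eq_one'
      by_contra hne
      have hw1 : w ≠ 1 := fun h => by rw [h, orderOf_one] at hw; norm_num at hw
      haveI := Fintype.ofFinite ↥W
      have h3 : 2 < Fintype.card ↥W := Fintype.two_lt_card_iff.2 ⟨1, v, w, hv.symm, hw1.symm, hne⟩
      rw [← Nat.card_eq_fintype_card, h2] at h3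
      omega
    have hwd : d * (w : X) * d⁻¹ ∈ W := (Subgroup.mem_normalizer_iff.1 hdW _).1 w.2
    have hw1 : (w : X) ≠ 1 := fun h => by
      rw [show w = 1 from Subtype.ext h, orderOf_one] at hw; norm_num at hw
    have h4 := congrArg Subtype.val (hall ⟨_, hwd⟩ (fun h => hw1 (conj_eq_one_iff.1 (congrArg Subtype.val h))))
    have h5 : (w : X) ∈ P ⊓ Subgroup.centralizer {d} :=
      ⟨hWP w.2, Subgroup.mem_centralizer_singleton_iff.2 (mul_inv_eq_iff_eq_mul.1 h4).symm⟩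
    rw [hfpf, Subgroup.mem_bot] at h5
    exact hw1 h5
  have hVP : V ≤ P := fun f hf => hQP (hFQ hf.1)
  have hV4 : Nat.card ↥V = 4 := by
    have h4 := rank_bound hrank hVP hVab (fun f hf => hf.2)
    obtain ⟨⟨f, hf⟩, hf1⟩ := Subgroup.ne_bot_iff_exists_ne_one.1 hF
    have hVne : V ≠ ⊥ := fun hb => by
      have hf1' : f ≠ 1 := fun h => hf1 (Subtype.ext h)
      by_cases hf2 : f ^ 2 = 1
      · exact hf1' (Subgroup.mem_bot.1 (hb ▸ (⟨hf, hf2⟩ : f ∈ V)))
      · refine hf2 (Subgroup.mem_bot.1 (hb ▸ (⟨pow_mem hf 2, ?_⟩ : f ^ 2 ∈ V)))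
        rw [← pow_mul]; exact hexp4 f (hFQ hf)
    obtain ⟨v, hv⟩ := (hP.to_le hVP).exists_card_eq
    have h1 := V.one_lt_card_iff_ne_bot.2 hVne
    have h2 := hno2 V hVP hVd
    rw [hv] at h1 h2 h4 ⊢
    rcases v with _ | _ | _ | v
    · simp at h1
    · simp at h2
    · rfl
    · have : 2 ^ 3 ≤ 2 ^ (v + 1 + 1 + 1) := Nat.pow_le_pow_right two_pos (by omega)
      omega
  have hinv : ∀ t ∈ Q, t ^ 2 = 1 → t ∈ F := by
    intro t ht ht2
    set W := Subgroup.closure ((V : Set X) ∪ {t})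
    have hWc : IsMulCommutative ↥W := Subgroup.isMulCommutative_closure fun a ha b hb => by
      rcases ha with ha | ha <;> rcases hb with hb | hb
      · exact hcent a ha.1 b (hFQ hb.1)
      · rw [Set.mem_singleton_iff.1 hb]; exact hcent a ha.1 t ht
      · rw [Set.mem_singleton_iff.1 ha]; exact (hcent b hb.1 t ht).symm
      · rw [Set.mem_singleton_iff.1 ha, Set.mem_singleton_iff.1 hb]
    have hWP : W ≤ P := (Subgroup.closure_le _).2 (Set.union_subset hVP (Set.singleton_subset_iff.2 (hQP ht)))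
    have hWexp : ∀ w ∈ W, w ^ 2 = 1 := fun w hw => by
      refine Subgroup.closure_induction (p := fun w _ => w ^ 2 = 1) ?_ (one_pow 2) ?_ ?_ hw
      · rintro a (ha | ha)
        · exact ha.2
        · rw [Set.mem_singleton_iff.1 ha]; exact ht2
      · intro a b ha hb h1 h2
        have hab : Commute a b := congrArg Subtype.val (hWc.is_comm.comm (⟨a, ha⟩ : ↥W) ⟨b, hb⟩)
        rw [hab.mul_pow, h1, h2, one_mul]
      · intro a _ h1; rw [inv_pow, h1, inv_one]
    have hle : V ≤ W := fun v hv => Subgroup.subset_closure (Or.inl hv)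
    have htW : t ∈ W := Subgroup.subset_closure (Or.inr rfl)
    rw [← Subgroup.eq_of_le_of_card_ge hle (hV4 ▸ rank_bound hrank hWP hWc hWexp)] at htW
    exact htW.1
  have hVF : V = F := by
    refine le_antisymm (fun f hf => hf.1) fun f hf => ⟨hf, ?_⟩
    by_contra hf2
    let W : Subgroup X :=
    { carrier := {w | ∃ g ∈ F, g ^ 2 = w}
      one_mem' := ⟨1, one_mem F, one_pow 2⟩
      inv_mem' := fun {w} ⟨g, hg, hw⟩ => ⟨g⁻¹, inv_mem hg, by rw [inv_pow, hw]⟩
      mul_mem' := fun {v w} ⟨g, hg, hv⟩ ⟨k, hk, hw⟩ => ⟨g * k, mul_mem hg hk, by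
        rw [(show Commute g k from hcent g hg k (hFQ hk)).mul_pow, hv, hw]⟩ }
    have hWV : W ≤ V := by
      rintro _ ⟨g, hg, rfl⟩
      exact ⟨pow_mem hg 2, by rw [← pow_mul]; exact hexp4 g (hFQ hg)⟩
    have hWd : d ∈ Subgroup.normalizer (W : Set X) := mem_normalizer_of_conj_mem fun k hk => by
      obtain ⟨g, hg, rfl⟩ := hk
      exact ⟨d * g * d⁻¹, (Subgroup.mem_normalizer_iff.1 hFd g).1 hg, conj_pow ..⟩
    have hWeq : V ≤ W := by
      obtain ⟨v, hv⟩ := (hP.to_le (hWV.trans hVP)).exists_card_eq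
      have h1 := W.one_lt_card_iff_ne_bot.2 fun hb => hf2 (Subgroup.mem_bot.1 (hb ▸ (⟨f, hf, rfl⟩ : f ^ 2 ∈ W)))
      have h2 := hno2 W (hWV.trans hVP) hWd
      rw [hv] at h1 h2
      refine (Subgroup.eq_of_le_of_card_ge hWV ?_).ge
      rw [hV4, hv]
      rcases v with _ | _ | v
      · simp at h1
      · simp at h2
      · exact (Nat.pow_le_pow_right two_pos (show 2 ≤ v + 1 + 1 by omega) : 2 ^ 2 ≤ _)
    obtain ⟨g, hg, hgx⟩ : x ^ 2 ∈ W := hWeq ⟨hsqF x hx, by rw [← pow_mul]; exact hexp4 x hx⟩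
    have hfix' : x * g⁻¹ ∈ F := hinv _ (mul_mem hx (inv_mem (hFQ hg))) (by
      rw [(show Commute g⁻¹ x from hcent _ (inv_mem hg) x hx).symm.mul_pow, inv_pow, hgx, mul_inv_cancel])
    exact hxF (by simpa using mul_mem hfix' hg)
  have hF4 : Nat.card ↥F = 4 := hVF ▸ hV4
  have hF2 : ∀ f ∈ F, f ^ 2 = 1 := fun f hf => (hVF.ge hf).2
  -- bounding `Q`
  set z := x ^ 2 with hz
  have hz1 : z ≠ 1 := fun h => hxF (hinv x hx h)
  set F' := F.subgroupOf Q with hF'
  have hF'c : Nat.card ↥F' = 4 := by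
    rw [hF', Nat.card_congr (Subgroup.subgroupOfEquivOfLe hFQ).toEquiv, hF4]
  let Φ : ∀ w, w ∈ Q → (↥Q →* ↥F') := fun w hw =>
  { toFun := fun y => ⟨⟨⁅w, (y : X)⁆, hFQ (hcomm w hw y y.2)⟩, hcomm w hw y y.2⟩
    map_one' := Subtype.ext (Subtype.ext (by simp))
    map_mul' := fun a b => Subtype.ext (Subtype.ext (by
      show ⁅w, (a : X) * (b : X)⁆ = ⁅w, (a : X)⁆ * ⁅w, (b : X)⁆
      have e1 : ⁅w, (a : X) * (b : X)⁆ = ⁅w, (a : X)⁆ * ((a : X) * ⁅w, (b : X)⁆ * (a : X)⁻¹) := by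
        simp only [commutatorElement_def]; group
      rw [e1, ← hcent _ (hcomm w hw b b.2) a a.2, mul_inv_cancel_right])) }
  set C := (Φ x hx).ker with hC
  have hCidx : C.index ≤ 4 := by
    rw [hC, Subgroup.index_ker, ← hF'c]; exact Subgroup.card_le_card_group _
  have hCmem : ∀ y : ↥Q, y ∈ C → x * (y : X) = y * x := fun y hy =>
    commutatorElement_eq_one_iff_mul_comm.1 (congrArg (fun t : ↥F' => ((t : ↥Q) : X)) (MonoidHom.mem_ker.1 hy))
  set E : Set ↥Q := {y | (y : X) ∈ F ∨ x * (y : X) ∈ F} with hE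
  have hEc : E.ncard ≤ 8 := by
    have h1 : E ⊆ (F' : Set ↥Q) ∪ (fun f => (⟨x, hx⟩ : ↥Q)⁻¹ * f) '' (F' : Set ↥Q) := by
      rintro y (hy | hy)
      · exact Or.inl hy
      · exact Or.inr ⟨⟨x, hx⟩ * y, hy, inv_mul_cancel_left _ _⟩
    refine (Set.ncard_le_ncard h1).trans ((Set.ncard_union_le _ _).trans ?_)
    have h2 : (F' : Set ↥Q).ncard = 4 := by rw [← Nat.card_coe_set_eq]; exact hF'c
    have h3 := Set.ncard_image_le (f := fun f => (⟨x, hx⟩ : ↥Q)⁻¹ * f) (Set.toFinite (F' : Set ↥Q))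
    omega
  have hQle : Nat.card ↥Q ≤ 128 := by
    rw [← C.card_mul_index]
    suffices hC32 : Nat.card ↥C ≤ 32 from (Nat.mul_le_mul hC32 hCidx).trans (by norm_num)
    by_cases hCE : (C : Set ↥Q) ⊆ E
    · have : Nat.card ↥C ≤ E.ncard :=
        (Nat.card_coe_set_eq (C : Set ↥Q)).le.trans (Set.ncard_le_ncard hCE)
      omega
    obtain ⟨w₁, hw₁, hw₁E⟩ := Set.not_subset.1 hCE
    set zF : ↥F' := ⟨⟨z, pow_mem hx 2⟩, hsqF x hx⟩ with hzF
    set Z := Subgroup.zpowers zF with hZ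
    have hzF2 : zF ^ 2 = 1 := Subtype.ext (Subtype.ext (hF2 _ (hsqF x hx)))
    have hZidx : Z.index = 2 := by
      have h1 := Z.card_mul_index
      rw [show Nat.card ↥Z = 2 from (Nat.card_zpowers zF).trans (orderOf_eq_prime hzF2
        (fun h => hz1 (congrArg (fun t : ↥F' => ((t : ↥Q) : X)) h))), hF'c] at h1
      omega
    set K₁ := C ⊓ Z.comap (Φ w₁ w₁.2) with hK₁
    have hK₁idx : K₁.relIndex C ≤ 2 := by
      rw [hK₁, Subgroup.inf_relIndex_left]
      refine le_trans (Subgroup.relIndex_le_of_le_right le_top Subgroup.index_ne_zero_of_finite) ?_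
      rw [Subgroup.relIndex_top_right]
      refine le_trans (le_of_eq (Subgroup.index_comap _ _)) ?_
      refine le_trans (Subgroup.relIndex_le_of_le_right le_top Subgroup.index_ne_zero_of_finite) ?_
      rw [Subgroup.relIndex_top_right, hZidx]
    have hZmem : ∀ f : ↥F', f ∈ Z ↔ (f : X) = 1 ∨ (f : X) = z := by
      intro f
      constructor
      · rintro ⟨i, rfl⟩
        rcases Int.even_or_odd i with ⟨m, hm⟩ | ⟨m, hm⟩
        · left; subst hm
          show (((zF ^ (m + m) : ↥F') : ↥Q) : X) = 1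
          rw [← two_mul, zpow_mul, zpow_two, ← pow_two, hzF2, one_zpow]; rfl
        · right; subst hm
          show (((zF ^ (2 * m + 1) : ↥F') : ↥Q) : X) = z
          rw [zpow_add, zpow_mul, zpow_two, ← pow_two, hzF2, one_zpow, one_mul, zpow_one]
      · rintro (h | h)
        · rw [show f = 1 from Subtype.ext (Subtype.ext h)]; exact one_mem _
        · rw [show f = zF from Subtype.ext (Subtype.ext h)]; exact Subgroup.mem_zpowers _
    -- squares of elements of `C` outside `E`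
    have hout : ∀ y : ↥Q, y ∈ C → y ∉ E →
        (⟨⟨(y : X) ^ 2, pow_mem y.2 2⟩, hsqF y y.2⟩ : ↥F') ∉ Z := by
      intro y hy hyE hyZ
      rcases (hZmem _).1 hyZ with h | h
      · exact hyE (Or.inl (hinv y y.2 h))
      · refine hyE (Or.inr (hinv _ (mul_mem hx y.2) ?_))
        have h' : (y : X) ^ 2 = z := h
        rw [(show Commute x (y : X) from hCmem y hy).mul_pow, h', ← pow_two, hF2 _ (hsqF x hx)]
    have hsub : (K₁ : Set ↥Q) ⊆ E ∪ (fun f => w₁⁻¹ * f) '' E := by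
      intro y hy
      by_contra hyn
      rw [Set.mem_union, not_or] at hyn
      have hwyE : w₁ * y ∉ E := fun h => hyn.2 ⟨_, h, inv_mul_cancel_left _ _⟩
      have h1 := hout w₁ hw₁ hw₁E
      have h2 := hout y hy.1 hyn.1
      have h3 := hout (w₁ * y) (mul_mem hw₁ hy.1) hwyE
      apply h3
      have hcZ : (⟨⟨⁅(y : X), (w₁ : X)⁆, hFQ (hcomm _ y.2 _ w₁.2)⟩, hcomm _ y.2 _ w₁.2⟩ : ↥F') ∈ Z := by
        have := inv_mem (show Φ w₁ w₁.2 y ∈ Z from hy.2)
        convert this using 1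
        exact Subtype.ext (Subtype.ext (commutatorElement_inv (w₁ : X) (y : X)).symm)
      have hmul := (Subgroup.mul_mem_iff_of_index_two hZidx).2 (iff_of_false h1 h2)
      have := mul_mem hcZ hmul
      convert this using 1
      exact Subtype.ext (Subtype.ext (hsqm _ w₁.2 _ y.2))
    have hK₁c : Nat.card ↥K₁ ≤ 16 := by
      refine ((Nat.card_coe_set_eq (K₁ : Set ↥Q)).le.trans (Set.ncard_le_ncard hsub)).trans
        ((Set.ncard_union_le _ _).trans ?_)
      have h3 := Set.ncard_image_le (f := fun f => w₁⁻¹ * f) (Set.toFinite E)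
      omega
    calc Nat.card ↥C = Nat.card ↥K₁ * K₁.relIndex C := by
          rw [← Subgroup.relIndex_bot_left, ← Subgroup.relIndex_bot_left,
            Subgroup.relIndex_mul_relIndex _ _ _ bot_le inf_le_left]
      _ ≤ 16 * 2 := Nat.mul_le_mul hK₁c hK₁idx
  rw [hF4, hq] at h9
  rw [hq] at hQle
  have hq7 : q ≤ 7 := (Nat.pow_le_pow_iff_right (le_refl 2)).1 (hQle.trans_eq (by norm_num))
  have hlt : 4 < 2 ^ q := by
    rw [← hq, ← hF4]
    refine lt_of_le_of_ne (Subgroup.card_le_of_le hFQ) fun h => hxF ?_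
    rw [Subgroup.eq_of_le_of_card_ge hFQ h.ge]
    exact hx
  interval_cases q <;> omega

/-- Let d be a non-identity 3-element of a finite group and P a 2-subgroup normalized by d on which ⟨d⟩ acts faithfully (no non-identity power of d centralizes P) and without non-identity fixed points (C_P(d) = 1). If every abelian subgroup of P has 2-rank at most 2, then d has order 3. -/
theorem result {X : Type*} [Group X] [Finite X] (d : X) (n : ℕ) (hn : 1 ≤ n) (hd : orderOf d = 3 ^ n) (P : Subgroup X) (hP : IsPGroup 2 P) (hdP : d ∈ Subgroup.normalizer (P : Set X)) (hfaith : Subgroup.zpowers d ⊓ Subgroup.centralizer (P : Set X) = ⊥) (hfpf : P ⊓ Subgroup.centralizer {d} = ⊥) (hrank : ∀ V : Subgroup X, V ≤ P → IsMulCommutative V → Cfsg.PRankLE 2 2 V) : orderOf d = 3 := by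
  rcases Nat.lt_or_ge n 2 with h | h
  · rw [hd, show n = 1 by omega, pow_one]
  · exact (contra d n h hd P hP hdP hfaith hfpf hrank).elim

end Cfsg.Agent.S3738
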