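import Cfsg.Statements.S3739
import Cfsg.Agent.Lib.Techniques.CharP
import Cfsg.Agent.Lib.LocalEven.Basic
import Cfsg.Agent.Lib.Solvable.NilpotentFrattini
import Cfsg.Agent.Lib.Transfer.PGroup
import Mathlib

set_option autoImplicit false
open Cfsg

namespace Cfsg.Agent.S3739

open Subgroup
open scoped commutatorElement
open Cfsg.Agent

/-- Character-sum bound: `|Q|` divides the square of the sum of a quadratic sign function. -/
theorem card_dvd_sq {Q : Type*} [Group Q] [Fintype Q] (f : Q → ℤ) (g : Q → Q → ℤ)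
    (hf : ∀ v, f v * f v = 1) (hfg : ∀ h v, f (h * v) = f h * f v * g h v)
    (hg : ∀ h v v', g h (v * v') = g h v * g h v') : (Fintype.card Q : ℤ) ∣ (∑ v, f v) ^ 2 := by
  classical
  have hgsq : ∀ h v, g h v * g h v = 1 := fun h v => by
    have e := hf (h * v)
    rw [hfg] at e
    linear_combination e - (g h v * g h v * f v * f v) * hf h - (g h v * g h v) * hf v
  have h1 : (∑ v, f v) ^ 2 = ∑ h, f h * ∑ v, g h v := by
    calc (∑ v, f v) ^ 2 = ∑ v, f v * ∑ u, f u := by rw [pow_two, Finset.sum_mul]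
      _ = ∑ v, ∑ h, f v * f (h * v) := by
          refine Finset.sum_congr rfl fun v _ => ?_
          rw [Finset.mul_sum]
          exact (Fintype.sum_equiv (Equiv.mulRight v) _ _ fun h => rfl).symm
      _ = ∑ h, ∑ v, f h * g h v := by
          rw [Finset.sum_comm]
          refine Finset.sum_congr rfl fun h _ => Finset.sum_congr rfl fun v _ => ?_
          rw [hfg]; linear_combination (f h * g h v) * hf v
      _ = _ := by simp only [Finset.mul_sum]
  rw [h1]
  refine Finset.dvd_sum fun h _ => Dvd.dvd.mul_left ?_ _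
  by_cases hall : ∀ v, g h v = 1
  · simp only [hall, Finset.sum_const, Finset.card_univ, nsmul_eq_mul, mul_one, dvd_refl]
  · push Not at hall
    obtain ⟨v₀, hv₀⟩ := hall
    have h2 : g h v₀ = -1 := by
      rcases mul_self_eq_one_iff.1 (hgsq h v₀) with e | e
      · exact absurd e hv₀
      · exact e
    have h3 : ∑ v, g h v = - ∑ v, g h v := by
      conv_lhs => rw [← Fintype.sum_equiv (Equiv.mulLeft v₀) (fun v => g h (v₀ * v)) (g h) fun v => rfl]
      simp only [hg, h2, neg_one_mul, Finset.sum_neg_distrib]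
    have h4 : ∑ v, g h v = 0 := by linarith
    rw [h4]; exact dvd_zero _

/-- The automorphism of the fibred elementary group must be trivial. -/
theorem trivial_of_fibres {Q : Type*} [Group Q] [Finite Q] (hQ : IsPGroup 2 Q) (s : Q → Option (Fin 3))
    (hs : ∀ v, s v = none ↔ v = 1) {n : ℕ} (hn : ∀ i, Nat.card {v // s v = some i} = n)
    (hbil : ∃ g : Q → Q → ℤ, (∀ h v, (if s (h * v) = none ∨ s (h * v) = some 0 then (1 : ℤ) else -1) =
      (if s h = none ∨ s h = some 0 then (1 : ℤ) else -1) * (if s v = none ∨ s v = some 0 then (1 : ℤ) else -1) * g h v) ∧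
      ∀ h v v', g h (v * v') = g h v * g h v')
    (φ : Q ≃* Q) (hφ : ∀ v, φ (φ (φ v)) = v) (hφs : ∀ v, s (φ v) = s v) (v : Q) : φ v = v := by
  classical
  haveI := Fintype.ofFinite Q
  haveI : Fact (Nat.Prime 2) := ⟨Nat.prime_two⟩
  haveI : Fact (Nat.Prime 3) := ⟨Nat.prime_three⟩
  obtain ⟨k, hk⟩ := hQ.exists_card_eq
  have hpart : ∀ F : Q → ℤ, ∑ v, F v = F 1 + ∑ i : Fin 3, ∑ v : {v // s v = some i}, F v := by
    intro F
    rw [← Finset.sum_fiberwise Finset.univ s F, Fintype.sum_option]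
    congr 1
    · rw [show (Finset.univ.filter fun v => s v = none) = {1} by ext x; simp [hs], Finset.sum_singleton]
    · refine Finset.sum_congr rfl fun i _ => ?_
      exact Finset.sum_subtype _ (fun x => by simp) F
  have hcard : Fintype.card Q = 1 + 3 * n := by
    have := hpart fun _ => 1
    simp only [Finset.sum_const, Finset.card_univ, nsmul_eq_mul, mul_one] at this
    have h3 : ∀ i, Fintype.card {v // s v = some i} = n := fun i => by rw [← Nat.card_eq_fintype_card, hn]
    simp only [h3, Finset.sum_const, Finset.card_univ, Fintype.card_fin, nsmul_eq_mul] at this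
    exact_mod_cast this
  rw [Nat.card_eq_fintype_card, hcard] at hk
  set f : Q → ℤ := fun v => if s v = none ∨ s v = some 0 then 1 else -1 with hf
  obtain ⟨g, hg1, hg2⟩ := hbil
  have hdvd := card_dvd_sq f g (fun v => by simp only [hf]; split <;> norm_num) hg1 hg2
  have hsum : ∑ v, f v = 1 - n := by
    rw [hpart f, show f 1 = 1 by simp [hf, (hs 1).2 rfl], Fin.sum_univ_three]
    have h0 : ∀ v : {v // s v = some (0 : Fin 3)}, f v = 1 := fun v => by simp [hf, v.2]
    have h1 : ∀ v : {v // s v = some (1 : Fin 3)}, f v = -1 := fun v => by simp [hf, v.2]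
    have h2 : ∀ v : {v // s v = some (2 : Fin 3)}, f v = -1 := fun v => by simp [hf, v.2]
    simp only [h0, h1, h2, Finset.sum_const, Finset.card_univ, ← Nat.card_eq_fintype_card, hn, nsmul_eq_mul]
    ring
  rw [hsum, hcard, hk] at hdvd
  push_cast at hdvd
  have hk4 : k ≤ 4 := by
    by_contra hk5
    obtain ⟨j, rfl⟩ : ∃ j, k = j + 5 := ⟨k - 5, by omega⟩
    have e : (3 : ℤ) * (1 - n) = 4 * (1 - 2 * (2 : ℤ) ^ (j + 2)) := by
      have hz : (1 : ℤ) + 3 * n = 2 ^ (j + 5) := by exact_mod_cast hk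
      rw [show (2 : ℤ) ^ (j + 5) = 8 * 2 ^ (j + 2) by ring] at hz
      linarith
    have h1 : (32 : ℤ) ∣ (1 - n) ^ 2 := (show (32 : ℤ) ∣ 2 ^ (j + 5) from ⟨2 ^ j, by ring⟩).trans hdvd
    have h2 : (32 : ℤ) ∣ 16 * (1 - 2 * (2 : ℤ) ^ (j + 2)) ^ 2 := by
      rw [show (16 : ℤ) * (1 - 2 * (2 : ℤ) ^ (j + 2)) ^ 2 = (4 * (1 - 2 * (2 : ℤ) ^ (j + 2))) ^ 2 by ring, ← e, mul_pow]
      exact Dvd.dvd.mul_left h1 _
    set t : ℤ := (2 : ℤ) ^ (j + 2)
    obtain ⟨c, hc⟩ := h2
    have : (1 : ℤ) = 2 * (c + 2 * t - 2 * t * t) := by linarith [hc]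
    omega
  have hfix : ∀ i, Nat.card {v // s v = some i ∧ φ v = v} % 3 = n % 3 := by
    intro i
    let σ : Equiv.Perm {v // s v = some i} := φ.toEquiv.subtypeEquiv fun v => by simp [hφs v]
    have hσ : σ ^ 3 ^ 1 = 1 := by ext v; simp [σ, pow_succ, hφ]
    have h := Equiv.Perm.card_compl_support_modEq hσ
    rw [← Nat.card_eq_fintype_card, hn] at h
    have e : Nat.card {v // s v = some i ∧ φ v = v} = σ.supportᶜ.card := by
      rw [show σ.supportᶜ = Finset.univ.filter (fun v : {v // s v = some i} => φ v = v) by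
        ext v; simp [σ, Subtype.ext_iff], ← Fintype.card_subtype, ← Nat.card_eq_fintype_card]
      exact Nat.card_congr (Equiv.subtypeSubtypeEquivSubtypeInter (fun v => s v = some i) (fun v => φ v = v)).symm
    rw [e]; exact h
  set F : Subgroup Q :=
    { carrier := {v | φ v = v}
      one_mem' := map_one φ
      mul_mem' := fun {a b} ha hb => by simp only [Set.mem_setOf_eq] at ha hb ⊢; rw [map_mul, ha, hb]
      inv_mem' := fun {a} ha => by simp only [Set.mem_setOf_eq] at ha ⊢; rw [map_inv, ha] } with hF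
  suffices hFc : Nat.card F = Fintype.card Q by
    have : F = ⊤ := eq_top_of_card_eq F (by rw [hFc, Nat.card_eq_fintype_card])
    exact (show v ∈ F by rw [this]; exact mem_top v)
  have hsplit : Nat.card F = 1 + ∑ i : Fin 3, Nat.card {v // s v = some i ∧ φ v = v} := by
    have := hpart fun v => if φ v = v then 1 else 0
    rw [Finset.sum_boole, map_one, if_pos rfl] at this
    simp only [Finset.sum_boole] at this
    have e1 : Nat.card F = (Finset.univ.filter fun v => φ v = v).card := by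
      rw [← Fintype.card_subtype, ← Nat.card_eq_fintype_card]
      exact Nat.card_congr (Equiv.subtypeEquivRight fun v => by simp [hF])
    have e2 : ∀ i, Nat.card {v // s v = some i ∧ φ v = v} =
        (Finset.univ.filter fun v : {v // s v = some i} => φ v = v).card := fun i => by
      rw [← Fintype.card_subtype, ← Nat.card_eq_fintype_card]
      exact Nat.card_congr (Equiv.subtypeSubtypeEquivSubtypeInter (fun v => s v = some i) (fun v => φ v = v)).symm
    simp only [e2, e1]
    exact_mod_cast this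
  have hdiv := card_subgroup_dvd_card F
  rw [Nat.card_eq_fintype_card (α := Q)] at hdiv
  have hle := fun i => (hn i) ▸ Nat.card_le_card_of_injective
    (fun v : {v // s v = some i ∧ φ v = v} => (⟨v.1, v.2.1⟩ : {v // s v = some i}))
    (fun a b e => Subtype.ext (congrArg Subtype.val e :))
  have hb0 := hfix 0
  have hb1 := hfix 1
  have hb2 := hfix 2
  have l0 := hle 0
  have l1 := hle 1
  have l2 := hle 2
  rw [Fin.sum_univ_three] at hsplit
  rw [hsplit, hcard] at hdiv ⊢
  generalize Nat.card {v // s v = some (0 : Fin 3) ∧ φ v = v} = A at *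
  generalize Nat.card {v // s v = some (1 : Fin 3) ∧ φ v = v} = B at *
  generalize Nat.card {v // s v = some (2 : Fin 3) ∧ φ v = v} = C at *
  interval_cases k
  · norm_num at hk; omega
  · norm_num at hk; omega
  · norm_num at hk; omega
  · norm_num at hk; omega
  · norm_num at hk
    obtain rfl : n = 5 := by omega
    norm_num at hdiv hb0 hb1 hb2 ⊢
    have h16 : 7 ≤ 1 + (A + B + C) := by omega
    have h17 : 1 + (A + B + C) ≤ 16 := by omega
    obtain ⟨q, hq⟩ := hdiv
    have hq2 : q ≤ 2 := by nlinarith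
    interval_cases q <;> omega

/-- No elementary abelian subgroup of order 8 can be extended. -/
theorem no_extension {G : Type*} [Group G] [Finite G] {W : Subgroup G} (hW : Cfsg.IsElementaryAbelian 2 W)
    (hcard : Nat.card W = 4) (hno : ¬ ∃ E : Subgroup G, Cfsg.IsElementaryAbelian 2 E ∧ Nat.card E = 8)
    {t : G} (ht : t * t = 1) (hcomm : ∀ w ∈ W, w * t = t * w) : t ∈ W := by
  by_contra htW
  have htt : t⁻¹ = t := inv_eq_of_mul_eq_one_right ht
  let E : Subgroup G :=
    { carrier := {x | x ∈ W ∨ t * x ∈ W}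
      one_mem' := Or.inl W.one_mem
      mul_mem' := by
        rintro a b (ha | ha) (hb | hb)
        · exact Or.inl (W.mul_mem ha hb)
        · exact Or.inr (by rw [← mul_assoc, ← hcomm a ha, mul_assoc]; exact W.mul_mem ha hb)
        · exact Or.inr (by rw [← mul_assoc]; exact W.mul_mem ha hb)
        · left
          have h1 : a * b = (t * a) * (t * b) := by
            rw [← mul_assoc (t * a) t b, hcomm _ ha, ← mul_assoc t t a, ht, one_mul]
          rw [h1]; exact W.mul_mem ha hb
      inv_mem' := by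
        rintro a (ha | ha)
        · exact Or.inl (W.inv_mem ha)
        · refine Or.inr ?_
          have h1 := hcomm _ (W.inv_mem ha)
          rw [mul_inv_rev, htt] at h1
          have h2 : t * a⁻¹ = (t * a)⁻¹ := by
            rw [mul_inv_rev, htt]
            calc t * a⁻¹ = t * (a⁻¹ * t * t) := by rw [mul_assoc, ht, mul_one]
              _ = t * (t * (a⁻¹ * t)) := by rw [h1]
              _ = _ := by rw [← mul_assoc, ht, one_mul]
          rw [h2]; exact W.inv_mem ha }
  have hc : ∀ x ∈ E, ∀ w ∈ W, w * x = x * w := by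
    rintro x (hx | hx) w hw
    · exact congrArg Subtype.val (hW.1.is_comm.comm ⟨w, hw⟩ ⟨x, hx⟩)
    · have e : x = t * (t * x) := by rw [← mul_assoc, ht, one_mul]
      rw [e]
      exact ((show Commute w t from hcomm w hw).mul_right
        (congrArg Subtype.val (hW.1.is_comm.comm ⟨w, hw⟩ ⟨t * x, hx⟩))).eq
  refine hno ⟨E, ⟨.of_setLike_mul_comm ?_, ?_⟩, ?_⟩
  · intro a ha b hb
    rcases ha with ha | ha
    · exact hc b hb a ha
    · have hb' : Commute t b := by
        rcases hb with hb | hb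
        · exact (hcomm b hb).symm
        · have := ((Commute.refl t).mul_right (show Commute t (t * b) from (hcomm _ hb).symm) : Commute t (t * (t * b)))
          rwa [← mul_assoc, ht, one_mul] at this
      have := hb'.symm.mul_right (hc b hb _ ha).symm
      rwa [← mul_assoc, ht, one_mul, commute_iff_eq, eq_comm] at this
  · rintro x (hx | hx)
    · exact hW.2 x hx
    · have e : x = t * (t * x) := by rw [← mul_assoc, ht, one_mul]
      rw [e, (show Commute t (t * x) from (hcomm _ hx).symm).mul_pow, hW.2 _ hx, pow_two, ht, one_mul]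
  · have hWE : W ≤ E := fun x hx => Or.inl hx
    have h2 : W.relIndex E = 2 := by
      rw [relIndex, index_eq_two_iff]
      refine ⟨⟨t, Or.inr (by rw [ht]; exact W.one_mem)⟩, fun b => ?_⟩
      by_cases hb : (b : G) ∈ W
      · exact Or.inr ⟨hb, fun h => htW ((W.mul_mem_cancel_left hb).1 h)⟩
      · refine Or.inl ⟨?_, hb⟩
        have h1 := b.2.resolve_left hb
        show (b : G) * t ∈ W
        have h3 := hcomm _ h1
        have e : (b : G) * t = t * b := by
          have : t * ((b : G) * t) = t * (t * b) := by rw [← mul_assoc, h3]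
          exact mul_left_cancel this
        rw [e]; exact h1
    have h1 := relIndex_mul_relIndex ⊥ W E bot_le hWE
    rw [relIndex_bot_left, relIndex_bot_left, hcard, h2] at h1
    omega

/-- Let G be a finite group with C_G(O₂(G)) ≤ O₂(G) containing an element of order 6, and let d be a non-identity 3-element of G normalizing a nontrivial elementary abelian 2-subgroup W with C_W(d) = 1. Then G has an elementary abelian subgroup of order 8. -/
theorem result {G : Type*} [Group G] [Finite G] (hchar : Subgroup.centralizer (Cfsg.pCore 2 G : Set G) ≤ Cfsg.pCore 2 G) (hsix : ∃ g : G, orderOf g = 6) (d : G) (hd1 : d ≠ 1) (hd : IsPGroup 3 ↥(Subgroup.zpowers d)) (W : Subgroup G) (hW : Cfsg.IsElementaryAbelian 2 W) (hW1 : W ≠ ⊥) (hdW : d ∈ Subgroup.normalizer (W : Set G)) (hfpf : W ⊓ Subgroup.centralizer {d} = ⊥) : ∃ E : Subgroup G, Cfsg.IsElementaryAbelian 2 E ∧ Nat.card E = 8 := by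
  classical
  by_contra hno
  haveI : Fact (Nat.Prime 2) := ⟨Nat.prime_two⟩
  haveI : Fact (Nat.Prime 3) := ⟨Nat.prime_three⟩
  have hdfix : ∀ w ∈ W, d * w * d⁻¹ = w → w = 1 := fun w hw h => by
    have : w ∈ W ⊓ Subgroup.centralizer {d} :=
      ⟨hw, Subgroup.mem_centralizer_singleton_iff.2 (mul_inv_eq_iff_eq_mul.1 h).symm⟩
    rwa [hfpf, Subgroup.mem_bot] at this
  have hWinv : ∀ w ∈ W, w⁻¹ = w := fun w hw => inv_eq_of_mul_eq_one_right (by rw [← pow_two, hW.2 w hw])
  have hdc : ∀ w ∈ W, d * w * d⁻¹ ∈ W := fun w hw => (Subgroup.mem_normalizer_iff.1 hdW w).1 hw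
  have hW4 : Nat.card W = 4 := by
    obtain ⟨k, hk⟩ := (show IsPGroup 2 W from fun w => ⟨1, Subtype.ext (by simpa using hW.2 _ w.2)⟩).exists_card_eq
    rcases k with _ | _ | _ | k
    · exact absurd (Subgroup.card_eq_one.1 (by simpa using hk)) hW1
    · exfalso
      simp only [zero_add, pow_one] at hk
      rw [Nat.card_eq_two_iff' (1 : W)] at hk
      obtain ⟨w, hw, huniq⟩ := hk
      refine hw (Subtype.ext (hdfix w w.2 ?_))
      refine congrArg Subtype.val (huniq ⟨_, hdc w w.2⟩ fun e => hw (Subtype.ext ?_))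
      exact conj_eq_one_iff.1 (congrArg Subtype.val e)
    · exact hk
    · exfalso
      have h8 : 2 ^ 3 ∣ Nat.card W := hk ▸ Nat.pow_dvd_pow 2 (by omega)
      obtain ⟨H, hH⟩ := Sylow.exists_subgroup_card_pow_prime 2 h8
      refine hno ⟨H.map W.subtype, ⟨.of_setLike_mul_comm fun a ha b hb => ?_, fun a ha => hW.2 a (Subgroup.map_subtype_le _ ha)⟩, ?_⟩
      · exact congrArg Subtype.val (hW.1.is_comm.comm ⟨a, Subgroup.map_subtype_le _ ha⟩ ⟨b, Subgroup.map_subtype_le _ hb⟩)
      · rw [Subgroup.card_map_of_injective W.subtype_injective, hH]; norm_num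
  -- the three involutions
  obtain ⟨w₁, hw₁, hw₁1⟩ := SetLike.exists_of_lt (bot_lt_iff_ne_bot.2 hW1)
  rw [Subgroup.mem_bot] at hw₁1
  set w₂ := d * w₁ * d⁻¹ with hw₂def
  set w₃ := d * w₂ * d⁻¹ with hw₃def
  have hw₂ : w₂ ∈ W := hdc _ hw₁
  have hw₃ : w₃ ∈ W := hdc _ hw₂
  have hw₂1 : w₂ ≠ 1 := fun e => hw₁1 (conj_eq_one_iff.1 e)
  have hw₃1 : w₃ ≠ 1 := fun e => hw₂1 (conj_eq_one_iff.1 e)
  have h12 : w₁ ≠ w₂ := fun e => hw₁1 (hdfix _ hw₁ e.symm)
  have h23 : w₂ ≠ w₃ := fun e => hw₂1 (hdfix _ hw₂ e.symm)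
  have h13 : w₁ ≠ w₃ := fun e => by
    obtain ⟨k, hk⟩ := IsPGroup.iff_orderOf.1 hd ⟨d, Subgroup.mem_zpowers d⟩
    rw [Subgroup.orderOf_mk] at hk
    obtain ⟨m, hm⟩ : Odd (orderOf d) := hk ▸ Odd.pow (by decide)
    have h2 : Commute (d ^ 2) w₁ := by
      have : d ^ 2 * w₁ * (d ^ 2)⁻¹ = w₁ := by
        conv_rhs => rw [e, hw₃def, hw₂def]
        rw [pow_two]; group
      exact mul_inv_eq_iff_eq_mul.1 this
    have e' : d = (d ^ 2) ^ (m + 1) := by
      rw [← pow_mul, show 2 * (m + 1) = orderOf d + 1 by omega, pow_succ, pow_orderOf_eq_one, one_mul]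
    exact hw₁1 (hdfix _ hw₁ (by rw [e', (h2.pow_left _).eq, mul_inv_cancel_right]))
  have hWelem : ∀ w ∈ W, w = 1 ∨ w = w₁ ∨ w = w₂ ∨ w = w₃ := by
    intro w hw
    by_contra hcon
    simp only [not_or] at hcon
    have h5 : ({⟨1, W.one_mem⟩, ⟨w₁, hw₁⟩, ⟨w₂, hw₂⟩, ⟨w₃, hw₃⟩, ⟨w, hw⟩} : Finset W).card = 5 := by
      rw [Finset.card_insert_of_notMem, Finset.card_insert_of_notMem, Finset.card_insert_of_notMem, Finset.card_pair]
      · simp only [ne_eq, Subtype.mk.injEq]; exact fun e => hcon.2.2.2 e.symm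
      · simp only [Finset.mem_insert, Finset.mem_singleton, Subtype.mk.injEq, not_or]
        exact ⟨h23, fun e => hcon.2.2.1 e.symm⟩
      · simp only [Finset.mem_insert, Finset.mem_singleton, Subtype.mk.injEq, not_or]
        exact ⟨h12, h13, fun e => hcon.2.1 e.symm⟩
      · simp only [Finset.mem_insert, Finset.mem_singleton, Subtype.mk.injEq, not_or]
        exact ⟨(Ne.symm hw₁1), (Ne.symm hw₂1), (Ne.symm hw₃1), fun e => hcon.1 e.symm⟩
    haveI := Fintype.ofFinite W
    have := Finset.card_le_univ ({⟨1, W.one_mem⟩, ⟨w₁, hw₁⟩, ⟨w₂, hw₂⟩, ⟨w₃, hw₃⟩, ⟨w, hw⟩} : Finset W)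
    rw [h5, ← Nat.card_eq_fintype_card, hW4] at this
    omega
  have hspread : ∀ (T : Subgroup G), (∀ x ∈ T, d * x * d⁻¹ ∈ T) → ∀ w ∈ W, w ≠ 1 → w ∈ T → W ≤ T := by
    intro T hT w hw hw1 hwT x hx
    have key : ∀ w, w ∈ T → w₁ = w ∨ w₂ = w ∨ w₃ = w → w₁ ∈ T ∧ w₂ ∈ T ∧ w₃ ∈ T := by
      intro w hwT hwe
      have h31 : d * w₃ * d⁻¹ = w₁ := by
        rcases hWelem _ (hdc _ hw₃) with e | e | e | e
        · exact absurd (conj_eq_one_iff.1 e) hw₃1
        · exact e
        · exact absurd ((MulAut.conj d).injective (e.trans hw₂def)) h13.symm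
        · exact absurd ((MulAut.conj d).injective (e.trans hw₃def)) h23.symm
      rcases hwe with rfl | rfl | rfl
      · exact ⟨hwT, hT _ hwT, hT _ (hT _ hwT)⟩
      · exact ⟨h31 ▸ hT _ (hT _ hwT), hwT, hT _ hwT⟩
      · exact ⟨h31 ▸ hT _ hwT, hT _ (h31 ▸ hT _ hwT), hwT⟩
    obtain ⟨t1, t2, t3⟩ := key w hwT (by
      rcases hWelem w hw with e | e | e | e
      · exact absurd e hw1
      · exact Or.inl e.symm
      · exact Or.inr (Or.inl e.symm)
      · exact Or.inr (Or.inr e.symm))
    rcases hWelem x hx with e | e | e | e <;> rw [e]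
    exacts [one_mem T, t1, t2, t3]
  -- the group `P = O₂(G) W`
  set S := Cfsg.pCore 2 G with hS
  haveI hSn : S.Normal := FittingCores.pCore_normal 2
  have hSp : IsPGroup 2 S := FittingCores.pCore_isPGroup 2
  have hWp : IsPGroup 2 W := fun w => ⟨1, Subtype.ext (by simpa using hW.2 _ w.2)⟩
  set P := S ⊔ W with hPdef
  have hPp : IsPGroup 2 P := hSp.to_sup_of_normal_left hWp
  have hdP : ∀ x ∈ P, d * x * d⁻¹ ∈ P := by
    intro x hx
    have h1 : P.map (MulAut.conj d).toMonoidHom = P := by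
      have eW : W.map (MulAut.conj d).toMonoidHom = W := Subgroup.mem_normalizer_iff_map_conj_eq.1 hdW
      have eS : S.map (MulAut.conj d).toMonoidHom = S := Subgroup.mem_normalizer_iff_map_conj_eq.1
        (Subgroup.le_normalizer_of_normal (Subgroup.mem_top d))
      rw [hPdef, Subgroup.map_sup, eW, eS]
    rw [← h1]
    exact ⟨x, hx, rfl⟩
  have hWP : W ≤ P := le_sup_right
  haveI : Nontrivial P := by
    refine (Subgroup.nontrivial_iff_ne_bot P).2 fun e => hW1 (le_bot_iff.1 (e ▸ hWP))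
  haveI := hPp.center_nontrivial
  obtain ⟨z, hz⟩ := exists_prime_orderOf_dvd_card' (G := Subgroup.center P) 2 (by
    obtain ⟨m, hm0, hm⟩ := (IsPGroup.nontrivial_iff_card (hPp.to_subgroup (Subgroup.center P))).1 inferInstance
    exact hm ▸ dvd_pow_self 2 hm0.ne')
  have hzo : orderOf ((z : P) : G) = 2 := by rw [Subgroup.orderOf_coe, Subgroup.orderOf_coe, hz]
  have hzW : ((z : P) : G) ∈ W := no_extension hW hW4 hno
    (by rw [← pow_two, ← hzo, pow_orderOf_eq_one])
    fun w hw => congrArg Subtype.val (Subgroup.mem_center_iff.1 z.2 ⟨w, hWP hw⟩)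
  have hWcenP : ∀ w ∈ W, ∀ x ∈ P, w * x = x * w := by
    have hle : W ≤ (Subgroup.center P).map P.subtype := by
      refine hspread _ ?_ _ hzW (fun e => by rw [e, orderOf_one] at hzo; omega) ⟨z, z.2, rfl⟩
      rintro _ ⟨c, hc, rfl⟩
      refine ⟨⟨d * (c : G) * d⁻¹, hdP _ c.2⟩, Subgroup.mem_center_iff.2 fun g => Subtype.ext ?_, rfl⟩
      obtain ⟨g', hg', hgg⟩ : ∃ g' ∈ P, d * g' * d⁻¹ = g := by
        have h1 : P.map (MulAut.conj d).toMonoidHom = P := Subgroup.eq_of_le_of_card_ge
          (by rintro _ ⟨x, hx, rfl⟩; exact hdP x hx) (by rw [Subgroup.card_map_of_injective (MulAut.conj d).injective])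
        obtain ⟨g', hg', e⟩ := (h1.symm ▸ g.2 : (g : G) ∈ P.map (MulAut.conj d).toMonoidHom)
        exact ⟨g', hg', e⟩
      have h2 : g' * (c : G) = c * g' := congrArg Subtype.val (Subgroup.mem_center_iff.1 hc ⟨g', hg'⟩)
      show (g : G) * (d * c * d⁻¹) = d * c * d⁻¹ * g
      rw [← hgg]
      exact ((show Commute g' (c : G) from h2).map (MulAut.conj d).toMonoidHom).eq
    intro w hw x hx
    obtain ⟨c, hc, rfl⟩ := hle hw
    exact (congrArg Subtype.val (Subgroup.mem_center_iff.1 hc ⟨x, hx⟩)).symm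
  have hinv : ∀ x ∈ P, x * x = 1 → x ∈ W := fun x hx h => no_extension hW hW4 hno h fun w hw => hWcenP w hw x hx
  have hSne : S ≠ ⊥ := by
    intro e
    have h1 : d ∈ S := hchar (Subgroup.mem_centralizer_iff.2 fun x hx => by
      rw [e] at hx; rw [Subgroup.mem_bot.1 hx, one_mul, mul_one])
    rw [e, Subgroup.mem_bot] at h1
    exact hd1 h1
  have hWS : W ≤ S := by
    haveI := (Subgroup.nontrivial_iff_ne_bot S).2 hSne
    obtain ⟨m, hm0, hm⟩ := (IsPGroup.nontrivial_iff_card hSp).1 inferInstance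
    obtain ⟨t, ht⟩ := exists_prime_orderOf_dvd_card' (G := S) 2 (hm ▸ dvd_pow_self 2 hm0.ne')
    have ht2 : orderOf (t : G) = 2 := by rw [Subgroup.orderOf_coe, ht]
    refine hspread S (fun x hx => hSn.conj_mem x hx d) _
      (hinv _ ((le_sup_left : S ≤ P) t.2) (by rw [← pow_two, ← ht2, pow_orderOf_eq_one]))
      (fun e => by rw [e, orderOf_one] at ht2; omega) t.2
  haveI hWn : W.Normal := ⟨fun w hw g => by
    refine hinv _ ((le_sup_left : S ≤ P) (hSn.conj_mem w (hWS hw) g)) ?_
    rw [← pow_two, conj_pow, hW.2 w hw, mul_one, mul_inv_cancel]⟩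
  have hWcenS : ∀ w ∈ W, ∀ x ∈ S, w * x = x * w := fun w hw x hx => hWcenP w hw x ((le_sup_left : S ≤ P) hx)
  -- an element of order three centralizing `W`
  obtain ⟨g, hg⟩ := hsix
  set y := g ^ 2 with hy
  set x := g ^ 3 with hx
  have hyo : orderOf y = 3 := by rw [hy, orderOf_pow, hg]; rfl
  have hxo : orderOf x = 2 := by rw [hx, orderOf_pow, hg]; rfl
  have hxy : Commute x y := Commute.pow_pow_self g 3 2
  have hxx : x * x = 1 := by rw [← pow_two, ← hxo, pow_orderOf_eq_one]
  have hyW : ∀ w ∈ W, y * w * y⁻¹ = w := by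
    -- `x` fixes exactly one involution, or lies in `W`
    obtain ⟨w, hw, hw1, hfixy⟩ : ∃ w ∈ W, w ≠ 1 ∧ y * w * y⁻¹ = w := by
      by_cases hxc : ∀ w ∈ W, w * x = x * w
      · exact ⟨x, no_extension hW hW4 hno hxx hxc, fun e => by rw [e, orderOf_one] at hxo; omega,
          by rw [← hxy.eq, mul_inv_cancel_right]⟩
      · push Not at hxc
        obtain ⟨u, hu, hux⟩ := hxc
        have huc : x * u * x⁻¹ ∈ W := hWn.conj_mem u hu x
        set w := u * (x * u * x⁻¹) with hwdef
        have hw : w ∈ W := W.mul_mem hu huc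
        have hw1 : w ≠ 1 := fun e => hux (by
          rw [hwdef, mul_eq_one_iff_eq_inv, hWinv _ huc, eq_mul_inv_iff_mul_eq] at e
          exact e)
        have hxw : x * w * x⁻¹ = w := by
          rw [hwdef]
          have hxi : x⁻¹ = x := inv_eq_of_mul_eq_one_right hxx
          have hc : u * (x * u * x⁻¹) = (x * u * x⁻¹) * u :=
            congrArg Subtype.val (hW.1.is_comm.comm ⟨u, hu⟩ ⟨_, huc⟩)
          calc x * (u * (x * u * x⁻¹)) * x⁻¹ = (x * u * x⁻¹) * (x * x * u * (x * x)⁻¹) := by group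
            _ = _ := by rw [hxx, inv_one, mul_one, one_mul, hc]
        refine ⟨w, hw, hw1, ?_⟩
        -- the fixed involution is unique
        by_contra hne
        have hv : y * w * y⁻¹ ∈ W := hWn.conj_mem w hw y
        have hxv : x * (y * w * y⁻¹) * x⁻¹ = y * w * y⁻¹ := by
          calc x * (y * w * y⁻¹) * x⁻¹ = (x * y) * w * (x * y)⁻¹ := by group
            _ = y * (x * w * x⁻¹) * y⁻¹ := by rw [hxy.eq]; group
            _ = _ := by rw [hxw]
        apply hux
        have hv1 : y * w * y⁻¹ ≠ 1 := fun e => hw1 (conj_eq_one_iff.1 e)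
        have hgen : u = 1 ∨ u = w ∨ u = y * w * y⁻¹ ∨ u = w * (y * w * y⁻¹) := by
          by_contra hcon
          simp only [not_or] at hcon
          have hwv : w * (y * w * y⁻¹) ∈ W := W.mul_mem hw hv
          have hwv1 : w * (y * w * y⁻¹) ≠ 1 := fun e => hne (by
            rw [mul_eq_one_iff_inv_eq, hWinv w hw] at e; exact e.symm)
          have d1 : w ≠ w * (y * w * y⁻¹) := fun e => hv1 (left_eq_mul.1 e)
          have d2 : y * w * y⁻¹ ≠ w * (y * w * y⁻¹) := fun e => hw1 (right_eq_mul.1 e)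
          have h5 : ({⟨1, W.one_mem⟩, ⟨w, hw⟩, ⟨_, hv⟩, ⟨_, hwv⟩, ⟨u, hu⟩} : Finset W).card = 5 := by
            rw [Finset.card_insert_of_notMem, Finset.card_insert_of_notMem, Finset.card_insert_of_notMem, Finset.card_pair]
            · simp only [ne_eq, Subtype.mk.injEq]; exact fun e => hcon.2.2.2 e.symm
            · simp only [Finset.mem_insert, Finset.mem_singleton, Subtype.mk.injEq, not_or]
              exact ⟨d2, fun e => hcon.2.2.1 e.symm⟩
            · simp only [Finset.mem_insert, Finset.mem_singleton, Subtype.mk.injEq, not_or]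
              exact ⟨fun e => hne e.symm, d1, fun e => hcon.2.1 e.symm⟩
            · simp only [Finset.mem_insert, Finset.mem_singleton, Subtype.mk.injEq, not_or]
              exact ⟨(Ne.symm hw1), (Ne.symm hv1), (Ne.symm hwv1), fun e => hcon.1 e.symm⟩
          haveI := Fintype.ofFinite W
          have := Finset.card_le_univ ({⟨1, W.one_mem⟩, ⟨w, hw⟩, ⟨_, hv⟩, ⟨_, hwv⟩, ⟨u, hu⟩} : Finset W)
          rw [h5, ← Nat.card_eq_fintype_card, hW4] at this
          omega
        have hcw : Commute x w := mul_inv_eq_iff_eq_mul.1 hxw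
        have hcv : Commute x (y * w * y⁻¹) := mul_inv_eq_iff_eq_mul.1 hxv
        rcases hgen with e | e | e | e <;> rw [e]
        · rw [one_mul, mul_one]
        · exact hcw.eq.symm
        · exact hcv.eq.symm
        · exact (hcw.mul_right hcv).eq.symm
    intro v hv
    by_contra hne
    have hcy : Commute y w := mul_inv_eq_iff_eq_mul.1 hfixy
    have hsame : y * v * y⁻¹ = v * w ∨ y * v * y⁻¹ = v := by
      have hv' : y * v * y⁻¹ ∈ W := hWn.conj_mem v hv y
      have hv1 : v ≠ 1 := fun e => hne (by rw [e, mul_one, mul_inv_cancel])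
      have hvw : v ≠ w := fun e => hne (by rw [e]; exact hfixy)
      have hwv : v * w ∈ W := W.mul_mem hv hw
      by_contra hcon
      simp only [not_or] at hcon
      have h5 : ({⟨1, W.one_mem⟩, ⟨w, hw⟩, ⟨v, hv⟩, ⟨_, hwv⟩, ⟨_, hv'⟩} : Finset W).card = 5 := by
        rw [Finset.card_insert_of_notMem, Finset.card_insert_of_notMem, Finset.card_insert_of_notMem, Finset.card_pair]
        · simp only [ne_eq, Subtype.mk.injEq]; exact fun e => hcon.1 e.symm
        · simp only [Finset.mem_insert, Finset.mem_singleton, Subtype.mk.injEq, not_or]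
          exact ⟨fun e => hw1 (left_eq_mul.1 e), fun e => hcon.2 e.symm⟩
        · simp only [Finset.mem_insert, Finset.mem_singleton, Subtype.mk.injEq, not_or]
          exact ⟨hvw.symm, fun e => hv1 (right_eq_mul.1 e), fun e => hvw ((MulAut.conj y).injective (hfixy.trans e)).symm⟩
        · simp only [Finset.mem_insert, Finset.mem_singleton, Subtype.mk.injEq, not_or]
          exact ⟨(Ne.symm hw1), (Ne.symm hv1), fun e => hvw (by rw [eq_comm, mul_eq_one_iff_eq_inv, hWinv w hw] at e; exact e), fun e => hv1 (conj_eq_one_iff.1 e.symm)⟩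
      haveI := Fintype.ofFinite W
      have := Finset.card_le_univ ({⟨1, W.one_mem⟩, ⟨w, hw⟩, ⟨v, hv⟩, ⟨_, hwv⟩, ⟨_, hv'⟩} : Finset W)
      rw [h5, ← Nat.card_eq_fintype_card, hW4] at this
      omega
    have hww : w * w = 1 := by rw [← pow_two, hW.2 w hw]
    have hyvw : y * (v * w) * y⁻¹ = v := by
      rcases hsame with e | e
      · calc y * (v * w) * y⁻¹ = (y * v * y⁻¹) * (y * w * y⁻¹) := by group
          _ = v := by rw [e, hfixy, mul_assoc, hww, mul_one]
      · exact absurd e hne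
    have h2 : Commute (y ^ 2) v := by
      have : y ^ 2 * v * (y ^ 2)⁻¹ = v := by
        calc y ^ 2 * v * (y ^ 2)⁻¹ = y * (y * v * y⁻¹) * y⁻¹ := by rw [pow_two]; group
          _ = v := by rw [hsame.resolve_right hne, hyvw]
      exact mul_inv_eq_iff_eq_mul.1 this
    have e' : y = (y ^ 2) ^ 2 := by
      rw [← pow_mul, show 2 * 2 = orderOf y + 1 by omega, pow_succ, pow_orderOf_eq_one, one_mul]
    exact hne (by rw [e', (h2.pow_left _).eq, mul_inv_cancel_right])
  -- a minimal normal layer on which `y` acts nontrivially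
  have hycop : (orderOf y).Coprime 2 := by rw [hyo]; norm_num
  have hex : ∃ v ∈ S, y * v ≠ v * y := by
    by_contra hcon
    push Not at hcon
    have hyS : y ∈ S := hchar (Subgroup.mem_centralizer_iff.2 fun v hv => (hcon v hv).symm)
    have := PBasic.eq_one_of_isPGroup_of_coprime (p := 2) hSp hyS hycop
    rw [this, orderOf_one] at hyo; omega
  obtain ⟨V, ⟨hVn, hVS, hVy⟩, hVmin⟩ := Set.Finite.exists_minimal
    (s := {V : Subgroup G | V.Normal ∧ V ≤ S ∧ ∃ v ∈ V, y * v ≠ v * y}) (Set.toFinite _) ⟨S, hSn, le_rfl, hex⟩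
  haveI := hVn
  set Y := Subgroup.normalClosure ({y} : Set G) with hY
  have hsub : ∀ U : Subgroup G, U.Normal → U < V → ⁅U, Y⁆ = ⊥ := by
    intro U hU hlt
    haveI := hU
    rw [Subgroup.commutator_comm, Subgroup.commutator_eq_bot_iff_le_centralizer]
    refine Subgroup.normalClosure_le_normal (Set.singleton_subset_iff.2 (Subgroup.mem_centralizer_iff.2 fun v hv => ?_))
    by_contra hne
    exact hlt.not_ge (hVmin ⟨hU, hlt.le.trans hVS, v, hv, Ne.symm hne⟩ hlt.le)
  have hVY : ⁅V, Y⁆ = V := by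
    rcases eq_or_lt_of_le (Subgroup.commutator_le_left V Y) with h | h
    · exact h
    exfalso
    obtain ⟨v, hv, hne⟩ := hVy
    have h1 := Subgroup.commutator_eq_bot_iff_le_centralizer.1 (hsub _ inferInstance h)
    have hc : ⁅v⁻¹, y⁆ ∈ ⁅V, Y⁆ :=
      Subgroup.commutator_mem_commutator (V.inv_mem hv) (Subgroup.subset_normalClosure rfl)
    refine hne (CharP.commute_of_conj_eq_mul (p := 2) hSp (hVS (Subgroup.commutator_le_left V Y hc)) hycop ?_
      (Subgroup.mem_centralizer_iff.1 (h1 hc) y (Subgroup.subset_normalClosure rfl)))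
    simp only [commutatorElement_def]; group
  have hVp : IsPGroup 2 V := hSp.to_le hVS
  haveI : Group.IsNilpotent V := hVp.isNilpotent
  haveI : Nontrivial V := (Subgroup.nontrivial_iff_ne_bot V).2 fun e => by
    obtain ⟨v, hv, hne⟩ := hVy
    rw [e, Subgroup.mem_bot] at hv
    exact hne (by rw [hv, one_mul, mul_one])
  set Φ := (frattini V).map V.subtype with hΦ
  haveI hΦn : Φ.Normal := by
    refine Subgroup.normalizer_eq_top_iff.1 (top_le_iff.1 ?_)
    rw [← Subgroup.normalizer_eq_top V]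
    exact LEBasic.le_normalizer_map_of_characteristic inferInstance
  have hΦlt : Φ < V := by
    refine lt_of_le_of_ne (Subgroup.map_subtype_le _) fun h => ?_
    have h' : frattini V = ⊤ := by
      apply Subgroup.map_injective V.subtype_injective
      rw [← hΦ, h, ← MonoidHom.range_eq_map, Subgroup.range_subtype]
    obtain h0 | ⟨M, hM, -⟩ := eq_top_or_exists_le_coatom (⊥ : Subgroup V)
    · exact bot_ne_top h0
    · exact hM.1 (top_le_iff.1 (h' ▸ frattini_le_coatom hM))
  have hΦY := hsub Φ hΦn hΦlt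
  have hΦV : ∀ f ∈ Φ, ∀ v ∈ V, f * v = v * f := by
    have hr : ⁅⁅Y, V⁆, Φ⁆ = ⊥ := by
      refine Subgroup.commutator_commutator_eq_bot_of_rotate ?_ ?_
      · refine eq_bot_iff.2 (le_trans (Subgroup.commutator_mono (Subgroup.commutator_le_right V Φ) le_rfl) (le_of_eq hΦY))
      · rw [hΦY, Subgroup.commutator_bot_left]
    rw [Subgroup.commutator_comm Y V, hVY, Subgroup.commutator_eq_bot_iff_le_centralizer] at hr
    exact fun f hf v hv => Subgroup.mem_centralizer_iff.1 (hr hv) f hf
  have hsqΦ : ∀ v ∈ V, v * v ∈ Φ := fun v hv =>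
    ⟨(⟨v, hv⟩ : V) ^ 2, PGroupBasics.pow_mem_frattini hVp _, by rw [pow_two]; rfl⟩
  have hcomΦ : ∀ a ∈ V, ∀ b ∈ V, ⁅a, b⁆ ∈ Φ := fun a ha b hb =>
    ⟨⁅(⟨a, ha⟩ : V), ⟨b, hb⟩⁆, SolvStruct.commutator_le_frattini V (Subgroup.commutator_mem_commutator (Subgroup.mem_top _) (Subgroup.mem_top _)), rfl⟩
  -- commutators are multiplicative and lie in `W`
  have hcmul : ∀ a ∈ V, ∀ b ∈ V, ∀ c ∈ V, ⁅a, b * c⁆ = ⁅a, b⁆ * ⁅a, c⁆ := by
    intro a ha b hb c hc
    have : ⁅a, b * c⁆ = ⁅a, b⁆ * (b * ⁅a, c⁆ * b⁻¹) := by simp only [commutatorElement_def]; group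
    rw [this, ← hΦV _ (hcomΦ a ha c hc) b hb, mul_inv_cancel_right]
  have hcW : ∀ a ∈ V, ∀ b ∈ V, ⁅a, b⁆ ∈ W := by
    intro a ha b hb
    refine hinv _ ((le_sup_left : S ≤ P) (hVS (Subgroup.commutator_le_left V V (Subgroup.commutator_mem_commutator ha hb)))) ?_
    rw [← hcmul a ha b hb b hb, commutatorElement_eq_one_iff_mul_comm]
    exact (hΦV _ (hsqΦ b hb) a ha).symm
  have hmul2 : ∀ a ∈ V, ∀ b ∈ V, (a * b) * (a * b) = a * a * (b * b) * ⁅b, a⁆ := by
    intro a ha b hb
    have h1 := hΦV _ (hcomΦ b hb a ha)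
    calc (a * b) * (a * b) = a * (⁅b, a⁆ * (a * b * b)) := by simp only [commutatorElement_def]; group
      _ = a * ((a * b * b) * ⁅b, a⁆) := by rw [h1 _ (V.mul_mem (V.mul_mem ha hb) hb)]
      _ = _ := by group
  -- squares lie in `W`
  have hVW : ∀ v ∈ V, v * v ∈ W := by
    let q : V →* G ⧸ W :=
      { toFun := fun v => QuotientGroup.mk' W ((v : G) * v)
        map_one' := by simp
        map_mul' := fun a b => by
          show QuotientGroup.mk' W (((a : G) * b) * ((a : G) * b)) = _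
          rw [hmul2 a a.2 b b.2, map_mul, show QuotientGroup.mk' W ⁅(b : G), (a : G)⁆ = 1 from
            (QuotientGroup.eq_one_iff _).2 (hcW b b.2 a a.2), mul_one, map_mul] }
    have hk : ⁅V, Y⁆ ≤ q.ker.map V.subtype := by
      rw [Subgroup.commutator_le]
      intro v hv c hc
      refine ⟨⟨v, hv⟩ * ⟨c * v⁻¹ * c⁻¹, hVn.conj_mem _ (V.inv_mem hv) c⟩, ?_, by simp [commutatorElement_def, mul_assoc]⟩
      rw [SetLike.mem_coe, MonoidHom.mem_ker, map_mul]
      show QuotientGroup.mk' W (v * v) * QuotientGroup.mk' W (c * v⁻¹ * c⁻¹ * (c * v⁻¹ * c⁻¹)) = 1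
      have h1 : Commute (v * v) c :=
        (Subgroup.mem_centralizer_iff.1 (Subgroup.commutator_eq_bot_iff_le_centralizer.1 hΦY (hsqΦ v hv)) c hc).symm
      rw [← map_mul, show c * v⁻¹ * c⁻¹ * (c * v⁻¹ * c⁻¹) = c * (v * v)⁻¹ * c⁻¹ by group,
        ← h1.inv_left.eq, mul_inv_cancel_right, mul_inv_cancel, map_one]
    rw [hVY] at hk
    intro v hv
    obtain ⟨v', hv', rfl⟩ := hk hv
    exact (QuotientGroup.eq_one_iff _).1 (MonoidHom.mem_ker.1 hv')
  have hWV : W ≤ V := by
    haveI := hVp.nontrivial_iff_card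
    obtain ⟨m, hm0, hm⟩ := (IsPGroup.nontrivial_iff_card hVp).1 inferInstance
    obtain ⟨t, ht⟩ := exists_prime_orderOf_dvd_card' (G := V) 2 (hm ▸ dvd_pow_self 2 hm0.ne')
    have ht2 : orderOf (t : G) = 2 := by rw [Subgroup.orderOf_coe, ht]
    exact hspread V (fun x hx => hVn.conj_mem x hx d) _
      (hinv _ ((le_sup_left : S ≤ P) (hVS t.2)) (by rw [← pow_two, ← ht2, pow_orderOf_eq_one]))
      (fun e => by rw [e, orderOf_one] at ht2; omega) t.2
  -- the quotient and its fibres
  set N := W.subgroupOf V with hN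
  let sq : V ⧸ N → G := fun q => (q.out : G) * (q.out : G)
  have hsq : ∀ v : V, sq (QuotientGroup.mk v) = (v : G) * v := by
    intro v
    obtain ⟨w, hw⟩ := QuotientGroup.mk_out_eq_mul N v
    have hwW : ((w : V) : G) ∈ W := w.2
    show ((QuotientGroup.mk v : V ⧸ N).out : G) * _ = _
    rw [hw, Subgroup.coe_mul, hmul2 v v.2 _ (w : V).2, ← pow_two ((w : V) : G), hW.2 _ hwW, mul_one,
      commutatorElement_eq_one_iff_mul_comm.2 (hWcenS _ hwW v (hVS v.2)), mul_one]
  let cls : G → Option (Fin 3) := fun u =>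
    if u = w₁ then some 0 else if u = w₂ then some 1 else if u = w₃ then some 2 else none
  have hs1 : ∀ q : V ⧸ N, cls (sq q) = none ↔ q = 1 := by
    intro q
    induction q using QuotientGroup.induction_on with
    | H v =>
      rw [hsq, QuotientGroup.eq_one_iff]
      constructor
      · intro h
        refine hinv _ ((le_sup_left : S ≤ P) (hVS v.2)) ?_
        rcases hWelem _ (hVW v v.2) with e | e | e | e
        · exact e
        · simp [cls, e] at h
        · simp [cls, e, h12.symm] at h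
        · simp [cls, e, h13.symm, h23.symm] at h
      · intro h
        have e : (v : G) * v = 1 := by rw [← pow_two, hW.2 (v : G) h]
        simp [cls, e, (Ne.symm hw₁1), (Ne.symm hw₂1), (Ne.symm hw₃1)]
  have hw31 : d * w₃ * d⁻¹ = w₁ := by
    rcases hWelem _ (hdc _ hw₃) with e | e | e | e
    · exact absurd (conj_eq_one_iff.1 e) hw₃1
    · exact e
    · exact absurd ((MulAut.conj d).injective (e.trans hw₂def)) h13.symm
    · exact absurd ((MulAut.conj d).injective (e.trans hw₃def)) h23.symm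
  let conjV : G → (V ≃* V) := fun g => MulAut.conjNormal (H := V) g
  have hconjN : ∀ g : G, N.map (conjV g).toMonoidHom = N := by
    intro g
    ext v
    constructor
    · rintro ⟨u, hu, rfl⟩
      exact hWn.conj_mem _ hu g
    · intro hv
      refine ⟨(conjV g).symm v, ?_, (conjV g).apply_symm_apply v⟩
      show (((conjV g).symm v : V) : G) ∈ W
      rw [MulAut.conjNormal_symm_apply]
      simpa using hWn.conj_mem _ hv g⁻¹
  let cQ : G → (V ⧸ N ≃* V ⧸ N) := fun g => QuotientGroup.congr N N (conjV g) (hconjN g)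
  have hcQ : ∀ (g : G) (q : V ⧸ N), sq (cQ g q) = g * sq q * g⁻¹ := by
    intro g q
    induction q using QuotientGroup.induction_on with
    | H v =>
      show sq (QuotientGroup.mk (conjV g v)) = _
      rw [hsq, hsq, MulAut.conjNormal_apply]; group
  have hcls1 : ∀ u ∈ W, cls (d * u * d⁻¹) = some 1 ↔ cls u = some 0 := by
    intro u hu
    rcases hWelem u hu with rfl | rfl | rfl | rfl
    · simp [cls, (Ne.symm hw₁1), (Ne.symm hw₂1), (Ne.symm hw₃1)]
    · simp [cls, ← hw₂def, h12.symm]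
    · simp [cls, ← hw₃def, h13.symm, h23.symm, h12.symm]
    · simp [cls, hw31, h13.symm, h23.symm]
  have hcls2 : ∀ u ∈ W, cls (d * u * d⁻¹) = some 2 ↔ cls u = some 1 := by
    intro u hu
    rcases hWelem u hu with rfl | rfl | rfl | rfl
    · simp [cls, (Ne.symm hw₁1), (Ne.symm hw₂1), (Ne.symm hw₃1)]
    · simp [cls, ← hw₂def, h12.symm]
    · simp [cls, ← hw₃def, h13.symm, h23.symm, h12.symm]
    · simp [cls, hw31, h13.symm, h23.symm]
  have hsqW : ∀ q : V ⧸ N, sq q ∈ W := fun q => hVW _ q.out.2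
  have hcount1 : Nat.card {q : V ⧸ N // cls (sq q) = some 1} = Nat.card {q : V ⧸ N // cls (sq q) = some 0} :=
    (Nat.card_congr ((cQ d).toEquiv.subtypeEquiv fun q => by
      show _ ↔ cls (sq (cQ d q)) = some 1
      rw [hcQ]; exact (hcls1 _ (hsqW q)).symm)).symm
  have hcount2 : Nat.card {q : V ⧸ N // cls (sq q) = some 2} = Nat.card {q : V ⧸ N // cls (sq q) = some 1} :=
    (Nat.card_congr ((cQ d).toEquiv.subtypeEquiv fun q => by
      show _ ↔ cls (sq (cQ d q)) = some 2
      rw [hcQ]; exact (hcls2 _ (hsqW q)).symm)).symm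
  -- the sign character
  let χ : G → ℤ := fun u => if cls u = none ∨ cls u = some 0 then 1 else -1
  have hχ : ∀ u ∈ W, ∀ v ∈ W, χ (u * v) = χ u * χ v := by
    set K := Subgroup.zpowers w₁ with hK
    have hKW : ∀ u ∈ W, (cls u = none ∨ cls u = some 0) ↔ u ∈ K := by
      intro u hu
      have hK2 : ∀ k ∈ K, k = 1 ∨ k = w₁ := by
        intro k hk
        obtain ⟨i, rfl⟩ := Subgroup.mem_zpowers_iff.1 hk
        rcases Int.even_or_odd' i with ⟨j, rfl | rfl⟩
        · left; rw [zpow_mul, zpow_two, ← pow_two, hW.2 _ hw₁, one_zpow]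
        · right; rw [zpow_add, zpow_mul, zpow_two, ← pow_two, hW.2 _ hw₁, one_zpow, one_mul, zpow_one]
      constructor
      · intro h
        rcases hWelem u hu with rfl | rfl | rfl | rfl
        · exact one_mem K
        · exact Subgroup.mem_zpowers _
        · simp [cls, h12.symm] at h
        · simp [cls, h13.symm, h23.symm] at h
      · intro h
        rcases hK2 u h with rfl | rfl
        · left; simp [cls, (Ne.symm hw₁1), (Ne.symm hw₂1), (Ne.symm hw₃1)]
        · right; simp [cls]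
    have hKidx : (K.subgroupOf W).index = 2 := by
      have h1 := (K.subgroupOf W).card_mul_index
      rw [Nat.card_congr (Subgroup.subgroupOfEquivOfLe (Subgroup.zpowers_le.2 hw₁)).toEquiv, Nat.card_zpowers,
        orderOf_eq_prime (hW.2 _ hw₁) hw₁1, hW4] at h1
      omega
    intro u hu v hv
    have h : u * v ∈ K ↔ (u ∈ K ↔ v ∈ K) :=
      Subgroup.mul_mem_iff_of_index_two hKidx (a := (⟨u, hu⟩ : W)) (b := ⟨v, hv⟩)
    simp only [χ, hKW _ (W.mul_mem hu hv), hKW u hu, hKW v hv]
    by_cases hu' : u ∈ K <;> by_cases hv' : v ∈ K <;> simp [h, hu', hv']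
  let bil : V ⧸ N → V ⧸ N → ℤ := fun a b => χ ⁅(b.out : G), (a.out : G)⁆
  have hout : ∀ (v : V), ∃ w : G, w ∈ W ∧ ((QuotientGroup.mk v : V ⧸ N).out : G) = v * w := by
    intro v
    obtain ⟨w, hw⟩ := QuotientGroup.mk_out_eq_mul N v
    exact ⟨((w : V) : G), w.2, by rw [hw, Subgroup.coe_mul]⟩
  have hVcW : ∀ w ∈ W, ∀ a ∈ V, ⁅w, a⁆ = 1 := fun w hw a ha =>
    commutatorElement_eq_one_iff_mul_comm.2 (hWcenS w hw a (hVS ha))
  have hbil : ∀ (a b : V), bil (QuotientGroup.mk a) (QuotientGroup.mk b) = χ ⁅(b : G), (a : G)⁆ := by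
    intro a b
    obtain ⟨u, hu, eu⟩ := hout a
    obtain ⟨w, hw, ew⟩ := hout b
    show χ ⁅_, _⁆ = _
    rw [eu, ew, hcmul _ (V.mul_mem b.2 (hWV hw)) _ a.2 _ (hWV hu),
      commutatorElement_eq_one_iff_mul_comm.2 (hWcenS u hu _ (V.mul_mem b.2 (hWV hw) |> fun h => hVS h)).symm, mul_one]
    congr 1
    have e : ⁅(b : G) * w, (a : G)⁆ = (b : G) * ⁅w, (a : G)⁆ * (b : G)⁻¹ * ⁅(b : G), (a : G)⁆ := by
      simp only [commutatorElement_def]; group
    rw [e, hVcW w hw a a.2, mul_one, mul_inv_cancel, one_mul]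
  have htriv := trivial_of_fibres (Q := V ⧸ N) (hVp.to_quotient N) (fun q => cls (sq q)) hs1
    (n := Nat.card {q : V ⧸ N // cls (sq q) = some 0})
    (fun i => by fin_cases i <;> [rfl; exact hcount1; exact hcount2.trans hcount1])
    ⟨bil, fun a b => by
      induction a using QuotientGroup.induction_on with
      | H a =>
        induction b using QuotientGroup.induction_on with
        | H b =>
          rw [← QuotientGroup.mk_mul, hsq, hsq, hsq, hbil]
          show χ (((a : G) * b) * ((a : G) * b)) = χ _ * χ _ * χ _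
          rw [hmul2 a a.2 b b.2, hχ _ (W.mul_mem (hVW a a.2) (hVW b b.2)) _ (hcW b b.2 a a.2),
            hχ _ (hVW a a.2) _ (hVW b b.2)],
      fun a b c => by
      induction a using QuotientGroup.induction_on with
      | H a =>
        induction b using QuotientGroup.induction_on with
        | H b =>
          induction c using QuotientGroup.induction_on with
          | H c =>
            rw [← QuotientGroup.mk_mul, hbil, hbil, hbil, Subgroup.coe_mul]
            rw [← hχ _ (hcW b b.2 a a.2) _ (hcW c c.2 a a.2)]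
            congr 1
            have hi : ∀ u ∈ V, ∀ v ∈ V, ⁅u, v⁆ = ⁅v, u⁆ := fun u hu v hv => by
              rw [← commutatorElement_inv v u, hWinv _ (hcW v hv u hu)]
            rw [hi _ (V.mul_mem b.2 c.2) _ a.2, hcmul _ a.2 _ b.2 _ c.2, hi _ b.2 _ a.2, hi _ c.2 _ a.2]⟩
    (cQ y) (fun q => by
      induction q using QuotientGroup.induction_on with
      | H v =>
        show QuotientGroup.mk (conjV y (conjV y (conjV y v))) = _
        congr 1
        apply Subtype.ext
        simp only [conjV, MulAut.conjNormal_apply]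
        have h3 : y ^ 3 = 1 := by rw [← hyo, pow_orderOf_eq_one]
        calc y * (y * (y * (v : G) * y⁻¹) * y⁻¹) * y⁻¹ = y ^ 3 * v * (y ^ 3)⁻¹ := by simp only [pow_succ, pow_zero, one_mul]; group
          _ = v := by rw [h3, one_mul, inv_one, mul_one])
    (fun q => by rw [hcQ, hyW _ (hsqW q)])
  obtain ⟨v, hv, hne⟩ := hVy
  refine hne ?_
  have h1 : QuotientGroup.mk (conjV y ⟨v, hv⟩) = (QuotientGroup.mk ⟨v, hv⟩ : V ⧸ N) := htriv (QuotientGroup.mk ⟨v, hv⟩)
  have h1' : (conjV y ⟨v, hv⟩)⁻¹ * ⟨v, hv⟩ ∈ N := QuotientGroup.eq.1 h1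
  have h2 : (y * v * y⁻¹)⁻¹ * v ∈ W := h1'
  refine CharP.commute_of_conj_eq_mul (p := 2) hSp (c := v⁻¹ * (y * v * y⁻¹)) ?_ hycop (by group) ?_
  · exact S.mul_mem (S.inv_mem (hVS hv)) (hSn.conj_mem v (hVS hv) y)
  · have h3 := W.inv_mem h2
    rw [mul_inv_rev, inv_inv] at h3
    exact mul_inv_eq_iff_eq_mul.1 (hyW _ h3)

end Cfsg.Agent.S3739
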