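import Cfsg.Statements.S3740
import Cfsg.Agent.S0275
import Cfsg.Agent.Lib.Classical.DicksonMaxArith

set_option autoImplicit false
open Cfsg

namespace Cfsg.Agent.S3740

/-- Let F be a finite field of odd characteristic p and let a be a p-element of SL₂(F) normalizing a subgroup R of order prime to p with [R, a] ≠ 1. Then p = 3, R is a quaternion group of order 8, and R⟨a⟩ is isomorphic to SL₂(3). -/
theorem result (F : Type) [Field F] [Fintype F] {p : ℕ} [Fact p.Prime] [CharP F p] (hp : p ≠ 2) (a : Matrix.SpecialLinearGroup (Fin 2) F) (ha : IsPGroup p ↥(Subgroup.zpowers a)) (R : Subgroup (Matrix.SpecialLinearGroup (Fin 2) F)) (hR : (Nat.card R).Coprime p) (haR : a ∈ Subgroup.normalizer (R : Set (Matrix.SpecialLinearGroup (Fin 2) F))) (hnt : ⁅R, Subgroup.zpowers a⁆ ≠ ⊥) : p = 3 ∧ Nonempty (↥R ≃* QuaternionGroup 2) ∧ Nonempty (↥(R ⊔ Subgroup.zpowers a) ≃* Matrix.SpecialLinearGroup (Fin 2) (ZMod 3)) := by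
  classical
  have hpp : p.Prime := Fact.out
  have h2 : (2 : F) ≠ 0 := fun h => hp ((Nat.prime_dvd_prime_iff_eq hpp Nat.prime_two).1
    ((CharP.cast_eq_zero_iff F p 2).1 (by exact_mod_cast h)))
  set pr := (PSL2Inv.pr : Matrix.SpecialLinearGroup (Fin 2) F →* Matrix.ProjectiveSpecialLinearGroup (Fin 2) F) with hprdef
  obtain ⟨i, hi⟩ := ha ⟨a, Subgroup.mem_zpowers a⟩
  have hai : a ^ p ^ i = 1 := congrArg Subtype.val hi
  have hoa : orderOf a ∣ p ^ i := orderOf_dvd_of_pow_eq_one hai
  have hp2' : ¬ 2 ∣ p ^ i := fun h => hp ((Nat.prime_dvd_prime_iff_eq Nat.prime_two hpp).1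
    (Nat.prime_two.dvd_of_dvd_pow h)).symm
  obtain ⟨n, -, hn⟩ := FiniteField.card F p
  rw [← Nat.card_eq_fintype_card] at hn
  have hpq : p ∣ Nat.card F := by rw [hn]; exact dvd_pow_self p n.ne_zero
  have hq1 : 1 < Nat.card F := Finite.one_lt_card
  have hnd : ∀ m, p ∣ m → ¬ (2 * m ∣ 2 * (Nat.card F + 1) ∨ 2 * m ∣ 2 * (Nat.card F - 1)) := by
    rintro m hm (h | h) <;> have h' := hm.trans (Nat.dvd_of_mul_dvd_mul_left two_pos h)
    · exact hpp.not_dvd_one ((Nat.dvd_add_right hpq).1 h')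
    · have h5 := Nat.dvd_sub hpq h'
      rw [Nat.sub_sub_self (by omega)] at h5
      exact hpp.not_dvd_one h5
  -- elements of p-power order
  have hpow : a ^ p = 1 := by
    have hx : pr a ^ p = 1 := by
      by_contra hne
      obtain ⟨D, h, hh, -, hcard, hmem⟩ := Dickson.torus_dihedral p hne
      have hz : Nat.card (Subgroup.center (Matrix.SpecialLinearGroup (Fin 2) F)) ≤ 2 := by
        rw [Dickson.card_center]; exact Nat.gcd_le_left _ (by norm_num)
      have hD : pr a ∈ D := hmem _ ⟨1, by simp⟩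
      have hd := Subgroup.orderOf_dvd_natCard D hD
      rw [hcard] at hd
      have hd' : orderOf (pr a) ∣ p ^ i := (orderOf_map_dvd pr a).trans hoa
      obtain ⟨j, -, hj⟩ := (Nat.dvd_prime_pow hpp).1 hd'
      rcases Nat.eq_zero_or_pos j with hj0 | hj0
      · rw [hj0, pow_zero, orderOf_eq_one_iff] at hj
        exact hne (by rw [hj, one_pow])
      have hp2h : p ∣ h := by
        have : p ∣ 2 * h := (hj ▸ dvd_pow_self p hj0.ne').trans hd
        exact ((Nat.Prime.dvd_mul hpp).1 this).resolve_left fun h2' =>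
          hp ((Nat.prime_dvd_prime_iff_eq hpp Nat.prime_two).1 h2')
      refine hnd _ hp2h ?_
      rcases hh with hh | hh
      · exact Or.inl (Nat.mul_dvd_mul_left 2 (Dvd.intro_left _ hh))
      · exact Or.inr (Nat.mul_dvd_mul_left 2 (Dvd.intro_left _ hh))
    have h1 : pr (a ^ p) = 1 := by rw [map_pow]; exact hx
    rcases PSL2Inv.pr_eq_one_iff.1 h1 with h | h
    · exact h
    · exfalso
      have ho : orderOf (a ^ p) = 2 := by
        rw [h]; exact orderOf_eq_prime (by rw [pow_two, SL2Inv.negOne_mul_self]) (SL2Inv.negOne_ne_one h2)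
      exact hp2' (ho ▸ (orderOf_pow_dvd p).trans hoa)
  have hne1 : a ≠ 1 := by
    rintro rfl
    exact hnt (by rw [Subgroup.zpowers_one_eq_bot, Subgroup.commutator_bot_right])
  have hord : orderOf a = p := orderOf_eq_prime hpow hne1
  set G := R ⊔ Subgroup.zpowers a with hGdef
  have hRG : R ≤ G := le_sup_left
  have haG : a ∈ G := Subgroup.mem_sup_right (Subgroup.mem_zpowers a)
  haveI hNn : (R.subgroupOf G).Normal :=
    (Subgroup.normal_subgroupOf_iff_le_normalizer hRG).2 (sup_le Subgroup.le_normalizer (Subgroup.zpowers_le.2 haR))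
  set N := R.subgroupOf G with hN
  have haRn : a ∉ R := fun h => by
    have h1 := Nat.eq_one_of_dvd_coprimes hR (hord ▸ Subgroup.orderOf_dvd_natCard R h) dvd_rfl
    exact hpp.one_lt.ne' h1
  set b : G ⧸ N := QuotientGroup.mk ⟨a, haG⟩ with hb
  have hgen : ∀ g : G ⧸ N, g ∈ Subgroup.zpowers b := by
    intro g
    obtain ⟨⟨x, hx⟩, rfl⟩ := QuotientGroup.mk_surjective g
    have hle : G ≤ ((Subgroup.zpowers b).comap (QuotientGroup.mk' N)).map G.subtype := by
      refine sup_le (fun r hr => ⟨⟨r, hRG hr⟩, ?_, rfl⟩) (Subgroup.zpowers_le.2 ⟨⟨a, haG⟩, Subgroup.mem_zpowers b, rfl⟩)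
      show QuotientGroup.mk' N ⟨r, hRG hr⟩ ∈ Subgroup.zpowers b
      rw [QuotientGroup.mk'_apply, (QuotientGroup.eq_one_iff _).2 (show (⟨r, hRG hr⟩ : G) ∈ N from hr)]
      exact one_mem _
    obtain ⟨y, hy, hyx⟩ := hle hx
    have hyx' : y = ⟨x, hx⟩ := Subtype.ext hyx
    exact hyx' ▸ hy
  have hbp : b ^ p = 1 := by
    rw [hb, ← QuotientGroup.mk_pow, show (⟨a, haG⟩ : G) ^ p = 1 from Subtype.ext hpow, QuotientGroup.mk_one]
  have hbord : orderOf b = p := orderOf_eq_prime hbp fun h =>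
    haRn ((QuotientGroup.eq_one_iff (⟨a, haG⟩ : G)).1 h)
  have hQ : Nat.card (G ⧸ N) = p := hbord ▸ (orderOf_eq_card_of_forall_mem_zpowers hgen).symm
  have hcG : Nat.card G = p * Nat.card R := by
    rw [Subgroup.card_eq_card_quotient_mul_card_subgroup N, hQ, Nat.card_congr (Subgroup.subgroupOfEquivOfLe hRG).toEquiv]
  have hmany : 1 < Nat.card (Sylow p G) := by
    by_contra hone
    have hsub : Subsingleton (Sylow p G) := Finite.card_le_one_iff_subsingleton.1 (by omega)
    have hpa : IsPGroup p (Subgroup.zpowers (⟨a, haG⟩ : G)) := fun x => by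
      obtain ⟨j, hj⟩ := x.2
      refine ⟨1, Subtype.ext ?_⟩
      rw [SubmonoidClass.coe_pow, ← hj, pow_one, ← zpow_natCast, ← zpow_mul, mul_comm, zpow_mul, zpow_natCast,
        show (⟨a, haG⟩ : G) ^ p = 1 from Subtype.ext hpow, one_zpow]
      rfl
    obtain ⟨T, hT⟩ := hpa.exists_le_sylow
    haveI hTn : (T : Subgroup G).Normal := Sylow.normal_of_subsingleton T
    refine hnt (Subgroup.commutator_eq_bot_iff_le_centralizer.2 fun r hr => ?_)
    rw [Subgroup.mem_centralizer_iff]
    rintro y ⟨j, rfl⟩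
    have haT : (⟨a, haG⟩ : G) ∈ (T : Subgroup G) := hT (Subgroup.mem_zpowers _)
    have hu : (⟨r, hRG hr⟩ : G) * ⟨a, haG⟩ * (⟨r, hRG hr⟩ : G)⁻¹ * (⟨a, haG⟩ : G)⁻¹ ∈ (T : Subgroup G) :=
      mul_mem (hTn.conj_mem _ haT _) (inv_mem haT)
    have hu' : r * a * r⁻¹ * a⁻¹ ∈ R := by
      rw [show r * a * r⁻¹ * a⁻¹ = r * (a * r⁻¹ * a⁻¹) by group]
      exact mul_mem hr ((Subgroup.mem_normalizer_iff.1 haR r⁻¹).1 (inv_mem hr))
    obtain ⟨k, hk⟩ := T.2 ⟨_, hu⟩
    have hk' : (r * a * r⁻¹ * a⁻¹) ^ p ^ k = 1 := by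
      have hk'' := congrArg Subtype.val (congrArg Subtype.val hk)
      simpa using hk''
    have h1 : orderOf (r * a * r⁻¹ * a⁻¹) = 1 := Nat.eq_one_of_dvd_coprimes (hR.pow_right k)
      (Subgroup.orderOf_dvd_natCard R hu') (orderOf_dvd_of_pow_eq_one hk')
    have hc : Commute r a := mul_inv_eq_iff_eq_mul.1 (mul_inv_eq_one.1 (orderOf_eq_one_iff.1 h1))
    exact (hc.zpow_right j).symm.eq
  obtain ⟨K, hK, ⟨e⟩⟩ := S0274.result p hp G hmany
  let ι : Matrix.SpecialLinearGroup (Fin 2) (ZMod p) →* G := (Subgroup.inclusion hK).comp e.symm.toMonoidHom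
  have hι : Function.Injective ι := (Subgroup.inclusion_injective hK).comp e.symm.injective
  let φ := (QuotientGroup.mk' N).comp ι
  have hK3 : p = 3 := by
    by_contra hp3
    have h4 : 4 ≤ Nat.card (ZMod p) := by
      rw [Nat.card_zmod]
      have := hpp.two_le
      omega
    haveI := Matrix.ProjectiveSpecialLinearGroup.rank_two_simple (F := ZMod p) h4
    have hsl : Nat.card (Matrix.SpecialLinearGroup (Fin 2) (ZMod p)) = p * (p ^ 2 - 1) := by
      rw [Dickson.card_sl2_eq, Nat.card_zmod]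
    have hker := φ.ker.card_mul_index
    rw [Subgroup.index_ker, hsl] at hker
    have hrange : Nat.card φ.range ≤ p := (Subgroup.card_le_card_group _).trans hQ.le
    have h25 : 5 ^ 2 - 1 ≤ p ^ 2 - 1 := Nat.sub_le_sub_right (Nat.pow_le_pow_left
      (by have := hpp.two_le; have : p ≠ 4 := (fun h => absurd hpp (by rw [h]; norm_num)); omega) 2) 1
    rcases (Subgroup.Normal.map (show φ.ker.Normal from inferInstance) _ PSL2Inv.pr_surjective).eq_bot_or_eq_top with h | h
    · have hle : φ.ker ≤ Subgroup.center _ := fun x hx =>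
        (QuotientGroup.eq_one_iff x).1 (Subgroup.eq_bot_iff_forall _ |>.1 h _ ⟨x, hx, rfl⟩)
      have h1 := Subgroup.card_le_of_le hle
      rw [Dickson.card_center, Nat.card_zmod] at h1
      have h2' := h1.trans (Nat.gcd_le_left _ two_pos)
      have := Nat.mul_le_mul h2' hrange
      rw [hker] at this
      have h4' : p * 24 ≤ p * (p ^ 2 - 1) := Nat.mul_le_mul_left p (by simpa using h25)
      have := hpp.pos
      omega
    · have hu : (pr : Matrix.SpecialLinearGroup (Fin 2) F →* _) = pr := rfl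
      obtain ⟨x, hx⟩ := exists_prime_orderOf_dvd_card' (G := Matrix.SpecialLinearGroup (Fin 2) (ZMod p)) p
        (hsl ▸ dvd_mul_right _ _)
      obtain ⟨y, hy, hyx⟩ : PSL2Inv.pr x ∈ φ.ker.map PSL2Inv.pr := h ▸ Subgroup.mem_top _
      have hφx : φ x = 1 := by
        rcases PSL2Inv.pr_eq_iff.1 hyx with h' | h'
        · rw [h']; exact hy
        · rw [h', map_mul, MonoidHom.mem_ker.1 hy, mul_one]
          have h1 : φ SL2Inv.negOne ^ 2 = 1 := by rw [← map_pow, pow_two, SL2Inv.negOne_mul_self, map_one]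
          have h2' : φ SL2Inv.negOne ^ p = 1 := by
            have h5 := pow_card_eq_one' (x := φ SL2Inv.negOne)
            rwa [hQ] at h5
          exact orderOf_eq_one_iff.1 (Nat.eq_one_of_dvd_coprimes ((Nat.coprime_primes Nat.prime_two hpp).2 (Ne.symm hp))
            (orderOf_dvd_of_pow_eq_one h1) (orderOf_dvd_of_pow_eq_one h2'))
      have hxR : ((ι x : G) : Matrix.SpecialLinearGroup (Fin 2) F) ∈ R := (QuotientGroup.eq_one_iff (ι x)).1 hφx
      have h1 := Subgroup.orderOf_dvd_natCard R hxR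
      rw [Subgroup.orderOf_coe, orderOf_injective ι hι, hx] at h1
      exact hpp.one_lt.ne' (Nat.eq_one_of_dvd_coprimes hR h1 dvd_rfl)
  subst hK3
  -- the centre lies in R
  have hnegR : SL2Inv.negOne ∈ R := by
    let z : G := ι SL2Inv.negOne
    have hz2 : z * z = 1 := by rw [← map_mul, SL2Inv.negOne_mul_self, map_one]
    have hzne : z ≠ 1 := fun h => SL2Inv.negOne_ne_one (F := ZMod 3) (fun h => by
      have h' := (ZMod.natCast_eq_zero_iff 2 3).1 (by exact_mod_cast h)
      norm_num at h') (hι (h.trans ι.map_one.symm))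
    have hzv : (z : Matrix.SpecialLinearGroup (Fin 2) F) = SL2Inv.negOne :=
      (SL2Inv.eq_or_eq_negOne_of_mul_self h2 (congrArg Subtype.val hz2)).resolve_left fun h => hzne (Subtype.ext h)
    have h1 : (QuotientGroup.mk z : G ⧸ N) ^ 2 = 1 := by rw [← QuotientGroup.mk_pow, pow_two, hz2, QuotientGroup.mk_one]
    have h3 : (QuotientGroup.mk z : G ⧸ N) ^ 3 = 1 := by
      have h5 := pow_card_eq_one' (x := (QuotientGroup.mk z : G ⧸ N))
      rwa [hQ] at h5
    have h4 : (QuotientGroup.mk z : G ⧸ N) = 1 := by rw [pow_succ, h1, one_mul] at h3; exact h3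
    rw [← hzv]
    exact (QuotientGroup.eq_one_iff z).1 h4
  have hsat : Dickson.Saturated R := fun x hx => by
    rcases hx.eq_or_eq with h | h
    · rw [show x = 1 from Subtype.ext h]; exact one_mem _
    · rw [show x = SL2Inv.negOne from Subtype.ext h]; exact hnegR
  have hz : Nat.card (Subgroup.center (Matrix.SpecialLinearGroup (Fin 2) F)) = 2 := by
    rw [Dickson.card_center]
    refine Nat.gcd_eq_left ?_
    have : Nat.card F % 2 = 1 := by rw [hn, Nat.pow_mod]; norm_num
    omega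
  have hcR := Dickson.card_map hsat
  rw [hz] at hcR
  have h3R : ¬ 3 ∣ Nat.card (R.map pr) := fun h => by
    have := Nat.eq_one_of_dvd_coprimes hR (h.trans (Dvd.intro_left 2 hcR.symm)) dvd_rfl
    omega
  have hgA : ∀ g, g ∈ R.map pr → g ≠ 1 → pr a * g * (pr a)⁻¹ ∈ Subgroup.zpowers g → False := by
    intro g hg hg1 hconj
    have hgp : g ^ 3 ≠ 1 := fun h => h3R (orderOf_eq_prime h hg1 ▸ Subgroup.orderOf_dvd_natCard _ hg)
    obtain ⟨D, k, hk, -, hcard, hmem⟩ := Dickson.torus_dihedral 3 hgp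
    have hd := Subgroup.orderOf_dvd_natCard D (hmem _ hconj)
    have ho : orderOf (pr a) = 3 := by
      refine orderOf_eq_prime (by rw [← map_pow, hpow, map_one]) fun h => ?_
      rcases PSL2Inv.pr_eq_one_iff.1 h with h | h
      · exact hne1 h
      · rw [h] at hord
        rw [orderOf_eq_prime (p := 2) (by rw [pow_two, SL2Inv.negOne_mul_self]) (SL2Inv.negOne_ne_one h2)] at hord
        norm_num at hord
    rw [ho, hcard] at hd
    have h3k : 3 ∣ k := ((Nat.Prime.dvd_mul Nat.prime_three).1 hd).resolve_left (by norm_num)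
    refine hnd k h3k ?_
    rw [hz] at hk
    rcases hk with hk | hk
    · exact Or.inl (hk ▸ Dvd.intro_left 2 rfl)
    · exact Or.inr (hk ▸ Dvd.intro_left 2 rfl)
  have hconjR : ∀ g ∈ R.map pr, pr a * g * (pr a)⁻¹ ∈ R.map pr := by
    rintro _ ⟨r, hr, rfl⟩
    exact ⟨a * r * a⁻¹, (Subgroup.mem_normalizer_iff.1 haR r).1 hr, by rw [map_mul, map_mul, map_inv]⟩
  have hne_bot : Nat.card (R.map pr) ≠ 1 := fun h => by
    apply hnt
    rw [Subgroup.commutator_eq_bot_iff_le_centralizer]
    intro r hr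
    rw [Subgroup.mem_centralizer_iff]
    intro y _
    have h1 : pr r = 1 := by
      have := (Subgroup.card_eq_one.1 h).le (Subgroup.mem_map_of_mem pr hr)
      simpa using this
    exact ((Dickson.pr_eq_one.1 h1).commute y).symm
  have hcyc : IsCyclic (R.map pr) → False := fun hc => by
    obtain ⟨g, hg⟩ := hc.exists_generator
    refine hgA g g.2 (fun h => hne_bot ?_) ?_
    · rw [← orderOf_eq_card_of_forall_mem_zpowers hg, ← Subgroup.orderOf_coe, h, orderOf_one]
    · obtain ⟨j, hj⟩ := Subgroup.mem_zpowers_iff.1 (hg ⟨_, hconjR _ g.2⟩)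
      exact ⟨j, congrArg Subtype.val hj⟩
  have h8 : Nat.card R = 8 := by
    rcases Dickson.classify_coprime' 3 hsat h3R with ⟨k, -, ⟨hc, -⟩ | ⟨⟨d⟩⟩⟩ | ⟨-, h, -⟩ | ⟨-, h, -⟩ | ⟨-, -, ⟨d⟩⟩
    · exact (hcyc hc).elim
    · change (R.map pr) ≃* DihedralGroup k at d
      rcases Nat.lt_or_ge k 3 with hk3 | hk3
      · interval_cases k
        · exfalso
          haveI := Finite.of_equiv _ d.toEquiv
          exact not_finite (DihedralGroup 0)
        · haveI : Fact (Nat.Prime 2) := ⟨Nat.prime_two⟩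
          exact (hcyc (isCyclic_of_prime_card (p := 2) (by rw [Nat.card_congr d.toEquiv, DihedralGroup.nat_card]))).elim
        · rw [hcR, Nat.card_congr d.toEquiv, DihedralGroup.nat_card]
      · exfalso
        set g : R.map pr := d.symm (DihedralGroup.r 1) with hgdef
        have hog : orderOf g = k := by rw [hgdef, d.symm.orderOf_eq, DihedralGroup.orderOf_r_one]
        refine hgA g g.2 (fun h => ?_) ?_
        · rw [show g = 1 from Subtype.ext h, orderOf_one] at hog; omega
        · set g' : R.map pr := ⟨_, hconjR _ g.2⟩ with hg'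
          have ho' : orderOf (d g') = k := by
            rw [d.orderOf_eq, ← Subgroup.orderOf_coe, hg', ← hog, ← Subgroup.orderOf_coe g]
            exact orderOf_injective (MulAut.conj (pr a)).toMonoidHom (MulAut.conj (pr a)).injective _
          rcases hj : d g' with j | j
          · haveI : NeZero k := ⟨by omega⟩
            refine ⟨(j.val : ℤ), congrArg Subtype.val (?_ : g ^ ((j.val : ℤ)) = g')⟩
            apply d.injective
            rw [map_zpow, hgdef, d.apply_symm_apply, hj, zpow_natCast, DihedralGroup.r_one_pow]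
            simp
          · rw [hj, DihedralGroup.orderOf_sr] at ho'
            omega
    · exact absurd rfl h
    · exact absurd rfl h
    · exfalso
      refine h3R ?_
      rw [Nat.card_congr d.toEquiv, Dickson.card_a5]
      norm_num
  have hcK : Nat.card K = 24 := by
    rw [Nat.card_congr e.toEquiv, Dickson.card_sl2_eq, Nat.card_zmod]; rfl
  have hKG : K = G := Subgroup.eq_of_le_of_card_ge hK (by rw [hcK, hcG, h8])
  refine ⟨rfl, ?_, ⟨(MulEquiv.subgroupCongr hKG.symm).trans e⟩⟩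
  haveI : Fact (Nat.Prime 2) := ⟨Nat.prime_two⟩
  have hf : (Nat.card G).factorization 2 = 3 := Dickson.factorization_eq_of Nat.prime_two (t := 3) (by rw [hcG, h8]; rfl) (by norm_num)
  let S : Sylow 2 G := Sylow.ofCard N (by rw [hf, Nat.card_congr (Subgroup.subgroupOfEquivOfLe hRG).toEquiv, h8]; rfl)
  obtain ⟨k, hk, ⟨f⟩⟩ := S0275.result 3 hp G hmany S
  have hSN : (S : Subgroup G) = N := Sylow.coe_ofCard _ _
  let f' : R ≃* QuaternionGroup (2 ^ k) :=
    ((Subgroup.subgroupOfEquivOfLe hRG).symm.trans (MulEquiv.subgroupCongr hSN.symm)).trans f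
  have hck := Nat.card_congr f'.toEquiv
  haveI : NeZero (2 ^ k) := ⟨by positivity⟩
  rw [h8, Nat.card_eq_fintype_card, QuaternionGroup.card] at hck
  have hk1 : (2 : ℕ) ^ k = 2 := by omega
  rw [hk1] at f'
  exact ⟨f'⟩

end Cfsg.Agent.S3740
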