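import Cfsg.Statements.S3741
import Cfsg.Agent.Lib.Solvable.Structure
import Mathlib

set_option autoImplicit false
open Cfsg

namespace Cfsg.Agent.S3741

open Subgroup
open scoped commutatorElement

/-- Counting commuting pairs: if all `⁅a, b⁆` lie in a central subgroup of order at most `p`. -/
lemma count {G : Type*} [Group G] [Finite G] {p : ℕ} [Fact p.Prime] (A B Z : Subgroup G)
    (hZ : Nat.card Z = 1 ∨ Nat.card Z = p)
    (hcomm : ∀ a ∈ A, ∀ b ∈ B, ⁅a, b⁆ ∈ Z) (hcen : ∀ b ∈ B, ∀ z ∈ Z, b * z = z * b) :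
    p * Nat.card {ab : A × B // ⁅(ab.1 : G), (ab.2 : G)⁆ = 1} =
      (p - 1) * (Nat.card ↥(A ⊓ centralizer (B : Set G)) * Nat.card B) + Nat.card A * Nat.card B := by
  classical
  haveI := Fintype.ofFinite A
  haveI := Fintype.ofFinite B
  let f : A → B →* Z := fun a => MonoidHom.mk' (fun b => ⟨⁅(a : G), (b : G)⁆, hcomm a a.2 b b.2⟩)
    (fun b c => Subtype.ext (by
      have h1 := hcen b b.2 _ (hcomm a a.2 c c.2)
      show ⁅(a : G), (b : G) * (c : G)⁆ = ⁅(a : G), (b : G)⁆ * ⁅(a : G), (c : G)⁆
      calc ⁅(a : G), (b : G) * (c : G)⁆ = ⁅(a : G), (b : G)⁆ * ((b : G) * ⁅(a : G), (c : G)⁆ * (b : G)⁻¹) := by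
            simp only [commutatorElement_def]; group
        _ = _ := by rw [h1, mul_inv_cancel_right]))
  let e : {ab : A × B // ⁅(ab.1 : G), (ab.2 : G)⁆ = 1} ≃ Σ a : A, (f a).ker :=
    { toFun := fun x => ⟨x.1.1, ⟨x.1.2, Subtype.ext x.2⟩⟩
      invFun := fun x => ⟨(x.1, x.2.1), congrArg Subtype.val x.2.2⟩
      left_inv := fun x => rfl
      right_inv := fun x => rfl }
  have hk : ∀ a : A, p * Nat.card (f a).ker =
      (if (a : G) ∈ centralizer (B : Set G) then (p - 1) * Nat.card B else 0) + Nat.card B := by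
    intro a
    have hmul := (f a).ker.card_mul_index
    rw [index_ker] at hmul
    split_ifs with ha
    · have : (f a).range = ⊥ := by
        rw [eq_bot_iff]
        rintro _ ⟨b, rfl⟩
        rw [mem_bot]
        apply Subtype.ext
        show ⁅(a : G), (b : G)⁆ = 1
        rw [commutatorElement_eq_one_iff_mul_comm]
        exact (mem_centralizer_iff.1 ha b b.2).symm
      rw [this, card_bot, mul_one] at hmul
      rw [hmul, ← Nat.succ_mul, Nat.succ_eq_add_one,
        Nat.sub_add_cancel (Fact.out : p.Prime).one_le]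
    · have : Nat.card (f a).range = p := by
        rcases hZ with hZ | hZ
        · exfalso
          apply ha
          rw [mem_centralizer_iff]
          intro b hb
          haveI := (Nat.card_eq_one_iff_unique.1 hZ).1
          have := congrArg Subtype.val (Subsingleton.elim (f a ⟨b, hb⟩) 1)
          exact (commutatorElement_eq_one_iff_mul_comm.1 this).symm
        · have hd := (f a).range.card_subgroup_dvd_card
          rw [hZ] at hd
          refine ((Nat.dvd_prime Fact.out).1 hd).resolve_left fun h1 => ?_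
          apply ha
          rw [mem_centralizer_iff]
          intro b hb
          have hm : f a ⟨b, hb⟩ ∈ (f a).range := ⟨⟨b, hb⟩, rfl⟩
          rw [eq_bot_of_card_eq _ h1] at hm
          exact (commutatorElement_eq_one_iff_mul_comm.1 (congrArg Subtype.val (mem_bot.1 hm))).symm
      rw [this, mul_comm] at hmul
      rw [hmul, zero_add]
  rw [Nat.card_congr e, Nat.card_sigma, Finset.mul_sum, Finset.sum_congr rfl fun a _ => hk a,
    Finset.sum_add_distrib, Finset.sum_const, smul_eq_mul, Finset.card_univ,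
    ← Nat.card_eq_fintype_card, ← Finset.sum_filter, Finset.sum_const, smul_eq_mul]
  congr 1
  rw [← mul_assoc, mul_comm (Finset.card _), mul_assoc]
  congr 2
  rw [← Fintype.card_subtype, ← Nat.card_eq_fintype_card]
  exact Nat.card_congr
    { toFun := fun x => ⟨x.1.1, x.1.2, x.2⟩
      invFun := fun x => ⟨⟨x.1, x.2.1⟩, x.2.2⟩
      left_inv := fun x => rfl
      right_inv := fun x => rfl }

/-- Let A and B be subgroups of a finite p-group with [A, B] ≤ A ∩ B and [A, B] of order at most p. Then |A : C_A(B)| = |B : C_B(A)|. -/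
theorem result {G : Type*} [Group G] [Finite G] {p : ℕ} [Fact p.Prime] (hG : IsPGroup p G) (A B : Subgroup G) (hAB : ⁅A, B⁆ ≤ A ⊓ B) (hcard : Nat.card ↥⁅A, B⁆ ≤ p) : (A ⊓ Subgroup.centralizer (B : Set G)).relIndex A = (B ⊓ Subgroup.centralizer (A : Set G)).relIndex B := by
  have hp : p.Prime := Fact.out
  set Z := ⁅A, B⁆ with hZdef
  have hcomm : ∀ a ∈ A, ∀ b ∈ B, ⁅a, b⁆ ∈ Z := fun a ha b hb => commutator_mem_commutator ha hb
  have hcomm' : ∀ b ∈ B, ∀ a ∈ A, ⁅b, a⁆ ∈ Z := fun b hb a ha => by
    rw [← commutatorElement_inv]; exact inv_mem (hcomm a ha b hb)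
  have hZ : Nat.card Z = 1 ∨ Nat.card Z = p := by
    obtain ⟨k, hk⟩ := IsPGroup.iff_card.1 (hG.to_subgroup Z)
    rcases k with _ | _ | k
    · exact Or.inl (by rw [hk, pow_zero])
    · exact Or.inr (by rw [hk, zero_add, pow_one])
    · exfalso
      have : p ^ 2 ≤ p ^ (k + 1 + 1) := Nat.pow_le_pow_right hp.pos (by omega)
      rw [hk] at hcard
      nlinarith [hp.two_le]
  have hnorm : A ⊔ B ≤ normalizer (Z : Set G) := by
    have key : ∀ g : G, (∀ z ∈ Z, ⁅g, z⁆ ∈ Z) → g ∈ normalizer (Z : Set G) := by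
      intro g hg
      rw [mem_normalizer_iff_map_conj_eq]
      apply eq_of_le_of_card_ge
      · rintro _ ⟨z, hz, rfl⟩
        have := mul_mem (hg z hz) hz
        simpa [commutatorElement_def, mul_assoc] using this
      · exact (card_map_of_injective (MulEquiv.injective _)).ge
    exact sup_le (fun a ha => key a fun z hz => hcomm a ha z ((hAB.trans inf_le_right) hz))
      (fun b hb => key b fun z hz => hcomm' b hb z ((hAB.trans inf_le_left) hz))
  have hcen : ∀ g ∈ A ⊔ B, ∀ z ∈ Z, g * z = z * g := by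
    rcases hZ with h1 | h1
    · intro g _ z hz
      rw [eq_bot_of_card_eq _ h1, mem_bot] at hz
      rw [hz, mul_one, one_mul]
    · have hle : Z ≤ A ⊔ B := hAB.trans (inf_le_left.trans le_sup_left)
      haveI : Group.IsNilpotent ↥(A ⊔ B : Subgroup G) := (hG.to_subgroup _).isNilpotent
      haveI : (Z.subgroupOf (A ⊔ B)).Normal := (normal_subgroupOf_iff_le_normalizer hle).2 hnorm
      have hne : Z.subgroupOf (A ⊔ B) ≠ ⊥ := by
        intro h
        have h2 := Nat.card_congr (subgroupOfEquivOfLe hle).toEquiv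
        rw [h, card_bot, h1] at h2
        exact hp.one_lt.ne h2
      have h3 := Cfsg.Agent.SolvStruct.inf_center_ne_bot hne
      obtain ⟨x, hx, hx1⟩ := (bot_or_exists_ne_one _).resolve_left h3
      intro g hg z hz
      have hxZ : (x : G) ∈ Z := hx.1
      have hzx : z ∈ zpowers (x : G) := by
        have h4 : zpowers (x : G) = Z := by
          apply eq_of_le_of_card_ge (zpowers_le.2 hxZ)
          rw [h1, Nat.card_zpowers]
          have hd : orderOf (x : G) ∣ p := by
            rw [← h1]
            exact (Nat.card_zpowers (x : G)) ▸ card_dvd_of_le (zpowers_le.2 hxZ)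
          rcases (Nat.dvd_prime hp).1 hd with h5 | h5
          · exact absurd (Subtype.ext (orderOf_eq_one_iff.1 h5)) hx1
          · exact h5.ge
        rw [h4]; exact hz
      obtain ⟨i, rfl⟩ := hzx
      exact (Commute.zpow_right (congrArg Subtype.val (mem_center_iff.1 hx.2 ⟨g, hg⟩) :) i).eq
  have h1 := count (p := p) A B Z hZ hcomm fun b hb => hcen b (mem_sup_right hb)
  have h2 := count (p := p) B A Z hZ hcomm' fun a ha => hcen a (mem_sup_left ha)
  have he : Nat.card {ab : A × B // ⁅(ab.1 : G), (ab.2 : G)⁆ = 1} =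
      Nat.card {ab : B × A // ⁅(ab.1 : G), (ab.2 : G)⁆ = 1} :=
    Nat.card_congr ((Equiv.prodComm A B).subtypeEquiv fun x => by
      simp only [commutatorElement_eq_one_iff_mul_comm, Equiv.prodComm_apply, Prod.fst_swap, Prod.snd_swap]
      exact eq_comm)
  rw [he, h2, mul_comm (Nat.card B) (Nat.card A)] at h1
  have h3 := Nat.eq_of_mul_eq_mul_left (by have := hp.two_le; omega) (Nat.add_right_cancel h1)
  have e1 : ∀ K L : Subgroup G, K ≤ L → K.relIndex L * Nat.card K = Nat.card L := fun K L h => by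
    rw [relIndex, ← card_mul_index (K.subgroupOf L), Nat.card_congr (subgroupOfEquivOfLe h).toEquiv,
      mul_comm]
  have eA := e1 _ A (inf_le_left : A ⊓ centralizer (B : Set G) ≤ A)
  have eB := e1 _ B (inf_le_left : B ⊓ centralizer (A : Set G) ≤ B)
  apply Nat.eq_of_mul_eq_mul_right
    (Nat.mul_pos (Nat.card_pos (α := ↥(A ⊓ centralizer (B : Set G) : Subgroup G)))
      (Nat.card_pos (α := ↥(B ⊓ centralizer (A : Set G) : Subgroup G))))
  rw [← mul_assoc, eA, mul_left_comm, eB, ← h3, mul_comm]

end Cfsg.Agent.S3741
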