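import Cfsg.Statements.S3742
import Mathlib

set_option autoImplicit false
open Cfsg

namespace Cfsg.Agent.S3742

open QuaternionGroup

abbrev Q8 := QuaternionGroup 2

/-- The eight elements. -/
def els : List Q8 := [a 0, a 1, a 2, a 3, xa 0, xa 1, xa 2, xa 3]

theorem mem_els (x : Q8) : x ∈ els := by
  revert x
  decide +kernel

/-- The images of two generators under an automorphism. -/
def pairs : List (Q8 × Q8) :=
  (els.product els).filter fun p => decide (p.1 * p.1 ≠ 1 ∧ p.2 * p.2 ≠ 1 ∧ p.1 * p.2 ≠ p.2 * p.1)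

/-- The map with given images of the generators. -/
def F (p : Q8 × Q8) : Q8 → Q8
  | a i => p.1 ^ i.val
  | xa i => p.2 * p.1 ^ i.val

/-- Axis (`1`, `2`, `3`; `0` for central elements) and sign of an element. -/
def code : Q8 → ℕ × Bool
  | a i => if i.val = 1 then (1, false) else if i.val = 3 then (1, true) else (0, false)
  | xa i => if i.val = 0 then (2, false) else if i.val = 2 then (2, true)
      else if i.val = 1 then (3, false) else (3, true)

/-- The sign on the axis `c` in a triple. -/
def sgn (c : ℕ) (t : List Q8) : Bool :=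
  t.any fun x => decide ((code x).1 = c) && (code x).2

/-- The diagonal spanned by a triple. -/
def idx (t : List Q8) : Fin 4 :=
  match xor (sgn 1 t) (sgn 2 t), xor (sgn 1 t) (sgn 3 t) with
  | false, false => 0
  | false, true => 1
  | true, false => 2
  | true, true => 3

/-- Representative triples of the four diagonals. -/
def rep : Fin 4 → List Q8
  | 0 => [a 1, xa 0, xa 1]
  | 1 => [a 1, xa 0, xa 3]
  | 2 => [a 1, xa 2, xa 1]
  | 3 => [a 1, xa 2, xa 3]

/-- The action of a map on the diagonals. -/
def act (f : Q8 → Q8) (k : Fin 4) : Fin 4 := idx ((rep k).map f)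

theorem check_comp : ∀ p ∈ pairs, ∀ q ∈ pairs, ∀ k : Fin 4,
    act (fun x => F p (F q x)) k = act (F p) (act (F q) k) := by
  decide +kernel

theorem check_ker : ∀ p ∈ pairs, (∀ k : Fin 4, act (F p) k = k) → p = (a 1, xa 0) := by
  decide +kernel

theorem check_rep : ∀ k : Fin 4, idx (rep k) = k := by
  decide +kernel

theorem check_hom : ∀ p ∈ pairs, ∀ x ∈ els, ∀ y ∈ els, F p (x * y) = F p x * F p y := by
  decide +kernel

theorem check_inj : ∀ p ∈ pairs, ∀ x ∈ els, ∀ y ∈ els, F p x = F p y → x = y := by
  decide +kernel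

theorem check_gen : ∀ p ∈ pairs, F p (a 1) = p.1 ∧ F p (xa 0) = p.2 := by
  decide +kernel

theorem check_len : pairs.Nodup ∧ pairs.length = 24 := by
  decide +kernel

theorem pair_mem (σ : MulAut Q8) : (σ (a 1), σ (xa 0)) ∈ pairs := by
  refine List.mem_filter.2 ⟨List.mem_product.2 ⟨mem_els _, mem_els _⟩, decide_eq_true ⟨?_, ?_, ?_⟩⟩
  · rw [← map_mul]; exact (map_ne_one_iff σ σ.injective).2 (by decide +kernel)
  · rw [← map_mul]; exact (map_ne_one_iff σ σ.injective).2 (by decide +kernel)
  · rw [← map_mul, ← map_mul]; exact σ.injective.ne (by decide +kernel)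

theorem eq_F (σ : MulAut Q8) : ⇑σ = F (σ (a 1), σ (xa 0)) := by
  funext x
  rcases x with i | i
  · show σ (a i) = σ (a 1) ^ i.val
    rw [← map_pow, a_one_pow, ZMod.natCast_zmod_val]
  · show σ (xa i) = σ (xa 0) * σ (a 1) ^ i.val
    rw [← map_pow, ← map_mul, a_one_pow, ZMod.natCast_zmod_val, xa_mul_a, zero_add]

/-- The automorphism with given images of the generators. -/
noncomputable def toAut (p : {p : Q8 × Q8 // p ∈ pairs}) : MulAut Q8 :=
  MulEquiv.mk (Equiv.ofBijective (F p.1)
      (Finite.injective_iff_bijective.1 fun x y => check_inj p.1 p.2 x (mem_els x) y (mem_els y)))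
    (fun x y => check_hom p.1 p.2 x (mem_els x) y (mem_els y))

noncomputable def pairEquiv : MulAut Q8 ≃ {p : Q8 × Q8 // p ∈ pairs} where
  toFun σ := ⟨(σ (a 1), σ (xa 0)), pair_mem σ⟩
  invFun := toAut
  left_inv σ := MulEquiv.ext fun x => (congrFun (eq_F σ) x).symm
  right_inv p := Subtype.ext (Prod.ext (check_gen p.1 p.2).1 (check_gen p.1 p.2).2)

theorem act_mul (σ τ : MulAut Q8) (k : Fin 4) : act ⇑(σ * τ) k = act ⇑σ (act ⇑τ k) := by
  rw [show ⇑(σ * τ) = fun x => σ (τ x) from rfl, eq_F σ, eq_F τ]
  exact check_comp _ (pair_mem σ) _ (pair_mem τ) k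

theorem act_one (k : Fin 4) : act ⇑(1 : MulAut Q8) k = k := by
  show idx ((rep k).map id) = k
  rw [List.map_id, check_rep]

/-- The representation on the four diagonals. -/
noncomputable def diag : MulAut Q8 →* Equiv.Perm (Fin 4) where
  toFun σ :=
    ⟨act ⇑σ, act ⇑(σ⁻¹ : MulAut Q8), fun k => by rw [← act_mul, inv_mul_cancel, act_one],
      fun k => by rw [← act_mul, mul_inv_cancel, act_one]⟩
  map_one' := Equiv.ext act_one
  map_mul' σ τ := Equiv.ext (act_mul σ τ)

theorem diag_injective : Function.Injective diag := by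
  refine (injective_iff_map_eq_one diag).2 fun σ h => ?_
  have h1 := check_ker _ (pair_mem σ) fun k => by
    rw [← eq_F σ]; exact congrFun (congrArg (fun π : Equiv.Perm (Fin 4) => ⇑π) h) k
  apply pairEquiv.injective
  exact Subtype.ext (h1.trans rfl)

/-- The automorphism group of the quaternion group of order 8 is isomorphic to the symmetric group of degree 4. -/
theorem result : Nonempty (MulAut (QuaternionGroup 2) ≃* Equiv.Perm (Fin 4)) := by
  refine ⟨MulEquiv.ofBijective diag ?_⟩
  have h1 : Nat.card (MulAut (QuaternionGroup 2)) = 24 := by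
    rw [Nat.card_congr pairEquiv, Nat.card_congr (Equiv.subtypeEquivRight (q := fun p => p ∈ pairs.toFinset)
      (fun p => List.mem_toFinset.symm)), Nat.card_eq_fintype_card, Fintype.card_coe,
      List.toFinset_card_of_nodup check_len.1]
    exact check_len.2
  haveI : Finite (MulAut (QuaternionGroup 2)) := Finite.of_equiv _ pairEquiv.symm
  refine (Nat.bijective_iff_injective_and_card _).2 ⟨diag_injective, ?_⟩
  rw [h1, Nat.card_perm, Nat.card_fin]
  rfl

end Cfsg.Agent.S3742
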