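import Cfsg.Statements.S3743
import Cfsg.Agent.Lib.Components.Fitting

set_option autoImplicit false
open Cfsg

namespace Cfsg.Agent.S3743

open Subgroup

/-- The `π`-core is a `π`-group. -/
lemma piCore_prime_mem {G : Type*} [Group G] [Finite G] (π : Set ℕ) :
    ∀ p : ℕ, p.Prime → p ∣ Nat.card (Cfsg.piCore π G) → p ∈ π := by
  obtain ⟨M, hM⟩ := Set.Finite.exists_maximal
    (s := {N : Subgroup G | N.Normal ∧ ∀ p : ℕ, p.Prime → p ∣ Nat.card N → p ∈ π}) (Set.toFinite _)
    ⟨⊥, inferInstance, fun p hp h => absurd (by rwa [card_bot] at h) hp.not_dvd_one⟩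
  obtain ⟨⟨hMn, hMπ⟩, hmax⟩ := hM
  have heq : Cfsg.piCore π G = M := by
    refine le_antisymm (sSup_le ?_) (le_sSup ⟨hMn, hMπ⟩)
    rintro N ⟨hNn, hNπ⟩
    haveI := hMn
    haveI := hNn
    refine le_trans le_sup_right (hmax (y := M ⊔ N) ⟨inferInstance, fun p hp hd => ?_⟩ le_sup_left)
    have h1 : Nat.card (M ⊔ N : Subgroup G) ∣ Nat.card M * Nat.card N := by
      rw [← card_mul_index (N.subgroupOf (M ⊔ N)), mul_comm (Nat.card M),
        Nat.card_congr (subgroupOfEquivOfLe (le_sup_right : N ≤ M ⊔ N)).toEquiv]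
      refine Nat.mul_dvd_mul_left _ ?_
      rw [← relIndex, relIndex_sup_right]
      exact relIndex_dvd_card _ _
    rcases (Nat.Prime.dvd_mul hp).1 (hd.trans h1) with h | h
    · exact hMπ p hp h
    · exact hNπ p hp h
  rw [heq]
  exact hMπ

/-- A normal subgroup whose prime divisors lie in `π` lies in the `π`-core, and so does the
`π`-core of a subnormal subgroup. -/
lemma piCore_map_le {G : Type*} [Group G] [Finite G] (π : Set ℕ) {A : Subgroup G} (hA : A.IsSubnormal) :
    (Cfsg.piCore π A).map A.subtype ≤ Cfsg.piCore π G := by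
  induction hA with
  | top =>
    refine le_sSup ⟨(piCore_normal π _).map _ (fun x => ⟨⟨x, mem_top x⟩, rfl⟩), fun p hp h => ?_⟩
    rw [card_map_of_injective (subtype_injective _)] at h
    exact piCore_prime_mem π p hp h
  | step A B hle _ hN ih =>
    refine le_trans ?_ ih
    haveI := hN
    let C := (Cfsg.piCore π A).map A.subtype
    have hCn : (C.subgroupOf B).Normal := by
      rw [normal_subgroupOf_iff_le_normalizer ((map_subtype_le _).trans hle)]
      intro b hb
      have hbA : ∀ a, a ∈ A → b * a * b⁻¹ ∈ A := fun a ha => hN.conj_mem ⟨a, hle ha⟩ ha ⟨b, hb⟩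
      rw [mem_normalizer_iff_map_conj_eq]
      apply eq_of_le_of_card_ge
      · let τ : A →* A := ((MulAut.conj b).toMonoidHom.comp A.subtype).codRestrict A
          (fun a => hbA a a.2)
        have hτ : Function.Bijective τ := (Finite.injective_iff_bijective).1 fun a a' h => by
          have := congrArg Subtype.val h
          exact Subtype.ext ((MulAut.conj b).injective this)
        have h2 : (Cfsg.piCore π A).map τ ≤ Cfsg.piCore π A := by
          refine le_sSup ⟨(piCore_normal π A).map τ hτ.2, fun p hp h => ?_⟩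
          rw [card_map_of_injective hτ.1] at h
          exact piCore_prime_mem π p hp h
        rintro _ ⟨_, ⟨a, ha, rfl⟩, rfl⟩
        exact ⟨τ a, h2 ⟨a, ha, rfl⟩, rfl⟩
      · exact (card_map_of_injective (MulEquiv.injective _)).ge
    have hCB : C.subgroupOf B ≤ Cfsg.piCore π B := by
      refine le_sSup ⟨hCn, fun p hp h => ?_⟩
      rw [Nat.card_congr (subgroupOfEquivOfLe ((map_subtype_le _).trans hle)).toEquiv,
        card_map_of_injective (subtype_injective _)] at h
      exact piCore_prime_mem π p hp h
    calc C = (C.subgroupOf B).map B.subtype :=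
          (map_subgroupOf_eq_of_le ((map_subtype_le _).trans hle)).symm
      _ ≤ _ := map_mono hCB

/-- In a finite group G, every subnormal nilpotent subgroup lies in the Fitting subgroup F(G), and, for a set of primes π, every subnormal subgroup all of whose prime divisors lie in π lies in O_π(G). -/
theorem result {G : Type*} [Group G] [Finite G] (A : Subgroup G) (hA : A.IsSubnormal) : (Group.IsNilpotent A → A ≤ Cfsg.fittingSubgroup G) ∧ ∀ π : Set ℕ, (∀ p : ℕ, p.Prime → p ∣ Nat.card A → p ∈ π) → A ≤ Cfsg.piCore π G := by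
  refine ⟨fun h => Cfsg.Agent.Components.subnormal_nilpotent_le_fitting hA h, fun π hπ => ?_⟩
  have htop : Cfsg.piCore π A = ⊤ := top_le_iff.1 (le_sSup ⟨inferInstance, fun p hp h => hπ p hp
    (by rwa [Subgroup.card_top] at h)⟩)
  have := piCore_map_le π hA
  rwa [htop, ← MonoidHom.range_eq_map, Subgroup.range_subtype] at this

end Cfsg.Agent.S3743
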