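import Cfsg.Statements.S3744
import Cfsg.Agent.Lib.PLocal.PSolvable
import Cfsg.Agent.Lib.Solvable.SchurZassenhaus
import Cfsg.Agent.Lib.Transfer.Basic
import Mathlib

set_option autoImplicit false
open Cfsg

namespace Cfsg.Agent.S3744

open Subgroup
open scoped Pointwise
open Cfsg.Agent

universe u

/-- A `p`-complement. -/
def IsCompl' {G : Type*} [Group G] (p : ℕ) (H : Subgroup G) : Prop :=
  (Nat.card H).Coprime p ∧ ∃ n : ℕ, H.index = p ^ n

lemma aux {p : ℕ} [Fact p.Prime] : ∀ (n : ℕ) (G : Type u) [Group G] [Finite G], Nat.card G = n →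
    Cfsg.IsPSolvable p G → ∃ H : Subgroup G, IsCompl' p H ∧ ∀ U : Subgroup G, (Nat.card U).Coprime p →
      ∃ g : G, U.map (MulAut.conj g).toMonoidHom ≤ H := by
  intro n
  induction n using Nat.strong_induction_on with
  | _ n ih =>
    intro G _ _ hn hG
    have hp : p.Prime := Fact.out
    rcases subsingleton_or_nontrivial G with hsub | hnt
    · refine ⟨⊤, ⟨by rw [card_top, Nat.card_of_subsingleton (1 : G)]; exact Nat.coprime_one_left p,
        0, by rw [index_top, pow_zero]⟩, fun U _ => ⟨1, le_top⟩⟩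
    have hlt : ∀ N : Subgroup G, N ≠ ⊥ → ∀ [N.Normal], Nat.card (G ⧸ N) < n := by
      intro N hN _
      rw [← hn, Subgroup.card_eq_card_quotient_mul_card_subgroup N]
      exact lt_mul_of_one_lt_right Nat.card_pos (N.one_lt_card_iff_ne_bot.mpr hN)
    -- pull a complement of the quotient back
    have hpull : ∀ N : Subgroup G, ∀ [N.Normal], N ≠ ⊥ → ∃ M : Subgroup G, N ≤ M ∧
        (∃ k, M.index = p ^ k) ∧ (N.relIndex M).Coprime p ∧
        ∀ U : Subgroup G, (Nat.card U).Coprime p → ∃ g : G, U.map (MulAut.conj g).toMonoidHom ≤ M := by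
      intro N _ hN
      obtain ⟨H, ⟨hHc, k, hk⟩, hHU⟩ := ih _ (hlt N hN) (G ⧸ N) rfl (PSolvable.quotient N hG)
      refine ⟨H.comap (QuotientGroup.mk' N), QuotientGroup.le_comap_mk' N H,
        ⟨k, by rw [index_comap_of_surjective _ (QuotientGroup.mk'_surjective N), hk]⟩, ?_, fun U hU => ?_⟩
      · have h1 := relIndex_comap (QuotientGroup.mk' N) (H := ⊥) (H.comap (QuotientGroup.mk' N))
        rw [MonoidHom.comap_bot, QuotientGroup.ker_mk',
          map_comap_eq_self_of_surjective (QuotientGroup.mk'_surjective N), relIndex_bot_left] at h1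
        rwa [h1]
      · obtain ⟨q, hq⟩ := hHU (U.map (QuotientGroup.mk' N)) (hU.coprime_dvd_left (U.card_map_dvd _))
        obtain ⟨g, rfl⟩ := QuotientGroup.mk'_surjective N q
        refine ⟨g, map_le_iff_le_comap.2 fun u hu => ?_⟩
        show QuotientGroup.mk' N (g * u * g⁻¹) ∈ H
        rw [map_mul, map_mul, map_inv]
        exact hq ⟨_, ⟨u, hu, rfl⟩, rfl⟩
    rcases PSolvable.exists_core_ne_bot hG with hN | hN
    · set N := Cfsg.pCore p G
      obtain ⟨M, hNM, ⟨k, hk⟩, hrel, hMU⟩ := hpull N hN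
      obtain ⟨e, he⟩ := IsPGroup.iff_card.1 (PBasic.pCore_isPGroup p G)
      have cK : Nat.card (N.subgroupOf M) = Nat.card N :=
        Nat.card_congr (subgroupOfEquivOfLe hNM).toEquiv
      have hcop : (Nat.card (N.subgroupOf M)).Coprime (N.subgroupOf M).index := by
        rw [cK, he]; exact (hrel.symm).pow_left e
      obtain ⟨H₀, hH₀⟩ := exists_right_complement'_of_coprime hcop
      have hH₀c : Nat.card H₀ = N.relIndex M := by
        have h1 := hH₀.card_mul
        rw [← (N.subgroupOf M).card_mul_index] at h1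
        exact Nat.eq_of_mul_eq_mul_left Nat.card_pos h1
      set H := H₀.map M.subtype
      have hHc : Nat.card H = N.relIndex M := by
        rw [card_map_of_injective M.subtype_injective, hH₀c]
      refine ⟨H, ⟨hHc ▸ hrel, e + k, ?_⟩, fun U hU => ?_⟩
      · rw [index_map_subtype, hk, pow_add, hH₀.index_eq_card, cK]
        exact congrArg (· * _) he
      obtain ⟨g, hg⟩ := hMU U hU
      set U' := U.map (MulAut.conj g).toMonoidHom with hU'
      have hU'c : (Nat.card U').Coprime p := by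
        rw [hU', card_map_of_injective (MulEquiv.injective _)]; exact hU
      have hU'N : U' ≤ normalizer (N : Set G) := fun x _ => by
        rw [normalizer_eq_top_iff.2 (inferInstance : N.Normal)]; exact mem_top x
      have hcopUN : (Nat.card U').Coprime (Nat.card N) := by rw [he]; exact hU'c.pow_right e
      set B := H ⊓ (N ⊔ U') with hB
      have hBc : Nat.card B = Nat.card U' := by
        -- `B` is a complement of `N` in `N ⊔ U'`
        have hNB : N ⊔ B = N ⊔ U' := by
          refine le_antisymm (sup_le le_sup_left inf_le_right) (sup_le le_sup_left fun x hx => ?_)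
          have hxM : (⟨x, hg hx⟩ : M) ∈ (N.subgroupOf M) ⊔ H₀ := hH₀.sup_eq_top ▸ mem_top _
          obtain ⟨a, ha, b, hb, hab⟩ := mem_sup_of_normal_left.1 hxM
          have e1 : (a : G) * (b : G) = x := congrArg Subtype.val hab
          have hbB : (b : G) ∈ B := by
            refine ⟨⟨b, hb, rfl⟩, ?_⟩
            rw [SetLike.mem_coe, show (b : G) = (a : G)⁻¹ * x by rw [← e1, inv_mul_cancel_left]]
            exact mul_mem (mem_sup_left (inv_mem ha)) (mem_sup_right hx)
          rw [← e1]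
          exact mul_mem (mem_sup_left ha) (mem_sup_right hbB)
        have hBN : (Nat.card B).Coprime (Nat.card N) := by
          rw [he]
          exact (Nat.Coprime.coprime_dvd_left (card_dvd_of_le inf_le_left) (hHc ▸ hrel)).pow_right e
        have hBn : B ≤ normalizer (N : Set G) := fun x _ => by
          rw [normalizer_eq_top_iff.2 (inferInstance : N.Normal)]; exact mem_top x
        have h1 := SchurZ.card_sup hU'N hcopUN
        rw [← hNB, SchurZ.card_sup hBn hBN] at h1
        exact Nat.eq_of_mul_eq_mul_left Nat.card_pos h1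
      haveI := (PBasic.pCore_isPGroup p G).isNilpotent
      obtain ⟨x, -, hx⟩ := SchurZ.conj_in (B := B) hU'N hcopUN (Or.inr inferInstance) inf_le_right hBc
      refine ⟨x * g, ?_⟩
      rintro _ ⟨u, hu, rfl⟩
      have : x * (g * u * g⁻¹) * x⁻¹ ∈ B := by
        rw [← hx]; exact ⟨g * u * g⁻¹, ⟨u, hu, rfl⟩, rfl⟩
      simpa [mul_assoc] using this.1
    · obtain ⟨M, hNM, hk, hrel, hMU⟩ := hpull (Cfsg.pPrimeCore p G) hN
      refine ⟨M, ⟨?_, hk⟩, hMU⟩
      rw [← card_mul_index ((Cfsg.pPrimeCore p G).subgroupOf M),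
        Nat.card_congr (subgroupOfEquivOfLe hNM).toEquiv]
      exact Nat.Coprime.mul_left (PBasic.pPrimeCore_coprime p G) hrel

/-- A finite p-soluble group has a p-complement, all its p-complements are conjugate, and every subgroup of order prime to p lies in one of them. Here a p-complement is a subgroup of order prime to p whose index is a power of p. -/
theorem result {G : Type*} [Group G] [Finite G] {p : ℕ} [Fact p.Prime] (hG : Cfsg.IsPSolvable p G) : (∃ H : Subgroup G, (Nat.card H).Coprime p ∧ ∃ n : ℕ, H.index = p ^ n) ∧ (∀ H₁ H₂ : Subgroup G, (Nat.card H₁).Coprime p → (∃ n : ℕ, H₁.index = p ^ n) → (Nat.card H₂).Coprime p → (∃ n : ℕ, H₂.index = p ^ n) → ∃ g : G, H₂ = H₁.map (MulAut.conj g).toMonoidHom) ∧ (∀ U : Subgroup G, (Nat.card U).Coprime p → ∃ H : Subgroup G, (Nat.card H).Coprime p ∧ (∃ n : ℕ, H.index = p ^ n) ∧ ∃ g : G, U.map (MulAut.conj g).toMonoidHom ≤ H) := by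
  obtain ⟨H, hH, hU⟩ := aux _ G rfl hG
  have hcard : ∀ H₁ : Subgroup G, (Nat.card H₁).Coprime p → (∃ n : ℕ, H₁.index = p ^ n) →
      Nat.card H₁ = Nat.card H := by
    rintro H₁ hc ⟨a, ha⟩
    obtain ⟨hHc, b, hb⟩ := hH
    have h1 : Nat.card H₁ * p ^ a = Nat.card H * p ^ b := by rw [← ha, ← hb, card_mul_index, card_mul_index]
    exact Nat.dvd_antisymm ((hc.pow_right b).dvd_of_dvd_mul_right (h1 ▸ dvd_mul_right _ _))
      ((hHc.pow_right a).dvd_of_dvd_mul_right (h1 ▸ dvd_mul_right _ _))
  have hconj : ∀ H₁ : Subgroup G, (Nat.card H₁).Coprime p → (∃ n : ℕ, H₁.index = p ^ n) →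
      ∃ g : G, H₁.map (MulAut.conj g).toMonoidHom = H := by
    intro H₁ hc hi
    obtain ⟨g, hg⟩ := hU H₁ hc
    refine ⟨g, eq_of_le_of_card_ge hg ?_⟩
    rw [card_map_of_injective (MulEquiv.injective _), hcard H₁ hc hi]
  refine ⟨⟨H, hH⟩, fun H₁ H₂ hc₁ hi₁ hc₂ hi₂ => ?_, fun U hUc => ?_⟩
  · obtain ⟨g₁, h₁⟩ := hconj H₁ hc₁ hi₁
    obtain ⟨g₂, h₂⟩ := hconj H₂ hc₂ hi₂
    refine ⟨g₂⁻¹ * g₁, ?_⟩
    have e := congrArg (Subgroup.map (MulAut.conj g₂⁻¹).toMonoidHom) (h₂.trans h₁.symm)
    rw [Subgroup.map_map, Subgroup.map_map] at e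
    convert e using 1
    · conv_lhs => rw [← Subgroup.map_id H₂]
      congr 1; ext y; simp [mul_assoc]
    · congr 1; ext y; simp [mul_assoc]
  · exact ⟨H, hH.1, hH.2, hU U hUc⟩

end Cfsg.Agent.S3744
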