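import Cfsg.Statements.S3745
import Cfsg.Agent.Lib.FGBasics.InvariantHall
import Mathlib

set_option autoImplicit false
open Cfsg

namespace Cfsg.Agent.S3745

open Cfsg.Agent
open scoped Pointwise

variable {X : Type*} [Group X] [Finite X]

/-- The `π`-part of the order of `G`. -/
lemma exists_split (G : Subgroup X) (π : Set ℕ) : ∃ m n : ℕ, Nat.card G = m * n ∧ m.Coprime n ∧
    (∀ p : ℕ, p.Prime → p ∣ m → p ∈ π) ∧ (∀ p : ℕ, p.Prime → p ∣ n → p ∉ π) := by
  classical
  set c := Nat.card G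
  set s := c.primeFactors.filter (· ∈ π)
  set t := c.primeFactors.filter (· ∉ π)
  have hmem : ∀ (u : Finset ℕ) (p : ℕ), u ⊆ c.primeFactors → p.Prime →
      p ∣ ∏ q ∈ u, q ^ c.factorization q → p ∈ u := by
    intro u p hu hp hd
    obtain ⟨q, hq, hpq⟩ := hp.prime.exists_mem_finset_dvd hd
    rwa [(Nat.prime_dvd_prime_iff_eq hp (Nat.prime_of_mem_primeFactors (hu hq))).1 (hp.dvd_of_dvd_pow hpq)]
  refine ⟨∏ q ∈ s, q ^ c.factorization q, ∏ q ∈ t, q ^ c.factorization q, ?_, ?_, ?_, ?_⟩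
  · rw [Finset.prod_filter_mul_prod_filter_not]
    exact (Nat.prod_factorization_pow_eq_self Nat.card_pos.ne').symm
  · refine Nat.coprime_of_dvd fun p hp h1 h2 => ?_
    have a1 := (Finset.mem_filter.1 (hmem s p (Finset.filter_subset _ _) hp h1)).2
    exact (Finset.mem_filter.1 (hmem t p (Finset.filter_subset _ _) hp h2)).2 a1
  · exact fun p hp hd => (Finset.mem_filter.1 (hmem s p (Finset.filter_subset _ _) hp hd)).2
  · exact fun p hp hd => (Finset.mem_filter.1 (hmem t p (Finset.filter_subset _ _) hp hd)).2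

/-- Coprime action on a solvable group and Hall subgroups. Let A and G be subgroups of a finite group with A normalizing G, the orders of A and G coprime, and G solvable, and let π be a set of primes. Then (a) G has an A-invariant Hall π-subgroup; (b) any two A-invariant Hall π-subgroups of G are conjugate by an element of C_G(A); (c) every A-invariant π-subgroup of G lies in an A-invariant Hall π-subgroup of G. -/
theorem result {X : Type*} [Group X] [Finite X] (A G : Subgroup X) (hAG : A ≤ Subgroup.normalizer (G : Set X)) (hcop : (Nat.card A).Coprime (Nat.card G)) (hsolv : Group.IsSolvable G) (π : Set ℕ) : (∃ H : Subgroup X, Cfsg.IsPiHallOf π H G ∧ A ≤ Subgroup.normalizer (H : Set X)) ∧ (∀ H₁ H₂ : Subgroup X, Cfsg.IsPiHallOf π H₁ G → A ≤ Subgroup.normalizer (H₁ : Set X) → Cfsg.IsPiHallOf π H₂ G → A ≤ Subgroup.normalizer (H₂ : Set X) → ∃ c ∈ G ⊓ Subgroup.centralizer (A : Set X), H₂ = H₁.map (MulAut.conj c).toMonoidHom) ∧ (∀ U : Subgroup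 X, U ≤ G → A ≤ Subgroup.normalizer (U : Set X) → (∀ p : ℕ, p.Prime → p ∣ Nat.card U → p ∈ π) → ∃ H : Subgroup X, Cfsg.IsPiHallOf π H G ∧ A ≤ Subgroup.normalizer (H : Set X) ∧ U ≤ H) := by
  obtain ⟨m, n, hG, hmn, hm, hn⟩ := exists_split G π
  have hcop' : ∀ k : ℕ, (∀ p : ℕ, p.Prime → p ∣ k → p ∈ π) → k.Coprime n := fun k hk =>
    Nat.coprime_of_dvd fun p hp h1 h2 => hn p hp h2 (hk p hp h1)
  have hof : ∀ H : Subgroup X, H ≤ G → Nat.card H = m → Cfsg.IsPiHallOf π H G := by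
    intro H hH hc
    refine ⟨hH, fun p hp hd => hm p hp (hc ▸ hd), fun p hp hpπ hd => ?_⟩
    have h1 : Nat.card H * H.relIndex G = Nat.card G := by
      rw [← Subgroup.relIndex_bot_left, Subgroup.relIndex_mul_relIndex _ _ _ bot_le hH, Subgroup.relIndex_bot_left]
    rw [hc, hG] at h1
    have hm0 : m ≠ 0 := hc ▸ Nat.card_pos.ne'
    rw [Nat.eq_of_mul_eq_mul_left (Nat.pos_of_ne_zero hm0) h1] at hd
    exact hn p hp hd hpπ
  have hto : ∀ H : Subgroup X, Cfsg.IsPiHallOf π H G → Nat.card H = m := by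
    rintro H ⟨hH, h1, h2⟩
    have he : Nat.card H * H.relIndex G = m * n := by
      rw [← hG, ← Subgroup.relIndex_bot_left, Subgroup.relIndex_mul_relIndex _ _ _ bot_le hH, Subgroup.relIndex_bot_left]
    refine Nat.dvd_antisymm ((hcop' _ h1).dvd_of_dvd_mul_right (Dvd.intro _ he)) ?_
    have hc2 : m.Coprime (H.relIndex G) := Nat.coprime_of_dvd fun p hp a b => h2 p hp (hm p hp a) b
    exact hc2.dvd_of_dvd_mul_right (he ▸ Dvd.intro _ rfl)
  obtain ⟨hex, hconj⟩ := InvariantHall.exists_and_conj hAG hcop hsolv hG hmn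
  refine ⟨?_, ?_, ?_⟩
  · obtain ⟨H, hH, hc, hA⟩ := hex
    exact ⟨H, hof H hH hc, hA⟩
  · intro H₁ H₂ h₁ hA₁ h₂ hA₂
    obtain ⟨c, hc, he⟩ := hconj H₁ H₂ h₁.1 (hto _ h₁) hA₁ h₂.1 (hto _ h₂) hA₂
    exact ⟨c, hc, he.symm⟩
  · intro U hUG hUA hUπ
    obtain ⟨H, hH, hc, hA, hUH⟩ := InvariantHall.exists_ge _ X A G U rfl hAG hcop hsolv m n hG hmn hUG
      (hcop' _ hUπ) hUA
    exact ⟨H, hof H hH hc, hA, hUH⟩

end Cfsg.Agent.S3745
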