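import Cfsg.Statements.S3746
import Cfsg.Agent.Lib.Components.Central

set_option autoImplicit false
open Cfsg

namespace Cfsg.Agent.S3746

open Subgroup
open scoped commutatorElement

/-- In a central extension of a perfect group, the preimage of the centre is the centre. -/
lemma comap_center {E Q : Type*} [Group E] [Group Q] [Group.IsPerfect Q] (f : E →* Q)
    (hf : Function.Surjective f) (hker : f.ker ≤ center E) : (center Q).comap f = center E := by
  refine le_antisymm (fun k hk => ?_) ?_
  · have hcom : ∀ e : E, ⁅k, e⁆ ∈ center E := fun e => hker (by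
      rw [MonoidHom.mem_ker, map_commutatorElement, commutatorElement_eq_one_iff_mul_comm]
      exact (mem_center_iff.1 hk (f e)).symm)
    let ψ : E →* center E := MonoidHom.mk' (fun e => ⟨⁅k, e⁆, hcom e⟩) (fun a b => Subtype.ext (by
      show ⁅k, a * b⁆ = ⁅k, a⁆ * ⁅k, b⁆
      calc ⁅k, a * b⁆ = ⁅k, a⁆ * (a * ⁅k, b⁆ * a⁻¹) := by simp only [commutatorElement_def]; group
        _ = _ := by rw [mem_center_iff.1 (hcom b) a, mul_inv_cancel_right]))
    have h1 : commutator E ≤ ψ.ker := by
      rw [commutator_def, commutator_le]
      intro a _ b _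
      rw [MonoidHom.mem_ker, map_commutatorElement, commutatorElement_eq_one_iff_mul_comm]
      exact Subtype.ext (mem_center_iff.1 (ψ b).2 (ψ a))
    have h2 : f.ker ≤ ψ.ker := fun z hz => by
      rw [MonoidHom.mem_ker]
      apply Subtype.ext
      show ⁅k, z⁆ = 1
      rw [commutatorElement_eq_one_iff_mul_comm]
      exact mem_center_iff.1 (hker hz) k
    have h3 : commutator E ⊔ f.ker = ⊤ := by
      have h4 : (commutator E).map f = ⊤ := by
        rw [commutator_def, map_commutator, map_top_of_surjective f hf, ← commutator_def,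
          Group.IsPerfect.commutator_eq_top]
      have := congrArg (comap f) h4
      rwa [comap_map_eq, comap_top] at this
    have h5 : ψ.ker = ⊤ := top_le_iff.1 (h3 ▸ sup_le h1 h2)
    refine mem_center_iff.2 fun e => ?_
    have hmem : e ∈ ψ.ker := h5 ▸ mem_top e
    have : ⁅k, e⁆ = 1 := congrArg Subtype.val (MonoidHom.mem_ker.1 hmem)
    exact (commutatorElement_eq_one_iff_mul_comm.1 this).symm
  · intro k hk
    rw [mem_comap, mem_center_iff]
    intro q
    obtain ⟨e, rfl⟩ := hf q
    rw [← map_mul, ← map_mul, mem_center_iff.1 hk e]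

/-- Let Z ≤ Z(G) be a central subgroup of a finite group G and E a subgroup of G containing Z whose image E/Z is a component of G/Z (subnormal and quasisimple). Then the derived subgroup [E, E] is a component of G. -/
theorem result {G : Type*} [Group G] [Finite G] (Z : Subgroup G) (hZ : Z ≤ Subgroup.center G) [Z.Normal] (E : Subgroup G) (hZE : Z ≤ E) (hE : Cfsg.IsComponent (E.map (QuotientGroup.mk' Z))) : Cfsg.IsComponent ⁅E, E⁆ := by
  set π := QuotientGroup.mk' Z
  set Ē := E.map π
  haveI := hE.2.1
  haveI := hE.2.2
  let f : E →* Ē := π.subgroupMap E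
  have hf : Function.Surjective f := π.subgroupMap_surjective E
  have hker : f.ker ≤ center E := fun z hz => by
    have hzZ : (z : G) ∈ Z := (QuotientGroup.eq_one_iff _).1 (congrArg Subtype.val hz)
    exact mem_center_iff.2 fun e => Subtype.ext (mem_center_iff.1 (hZ hzZ) e)
  let q : E →* Ē ⧸ center Ē := (QuotientGroup.mk' (center Ē)).comp f
  have hq : Function.Surjective q := (QuotientGroup.mk'_surjective _).comp hf
  have hqk : q.ker = center E := by
    rw [← comap_center f hf hker]
    ext x
    rw [MonoidHom.mem_ker, mem_comap]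
    exact QuotientGroup.eq_one_iff _
  let e : E ⧸ center E ≃* Ē ⧸ center Ē :=
    (QuotientGroup.quotientMulEquivOfEq hqk.symm).trans (QuotientGroup.quotientKerEquivOfSurjective q hq)
  haveI : Nontrivial (E ⧸ center E) := e.toEquiv.nontrivial_congr.2 inferInstance
  have hs : IsSimpleGroup (E ⧸ center E) :=
    IsSimpleGroup.isSimpleGroup_of_surjective e.symm.toMonoidHom e.symm.surjective
  have hna : ¬ IsMulCommutative (E ⧸ center E) := by
    intro hc
    haveI : Group.IsPerfect (E ⧸ center E) :=
      Group.IsPerfect.ofSurjective (f := e.symm.toMonoidHom.comp (QuotientGroup.mk' (center Ē)))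
        (e.symm.surjective.comp (QuotientGroup.mk'_surjective _))
    exact Group.IsPerfect.not_isMulCommutative _ hc
  have hq2 := Cfsg.Agent.Components.commutator_quasisimple hs hna
  have hmap : (commutator E).map E.subtype = ⁅E, E⁆ := by
    rw [commutator_def, map_commutator, ← MonoidHom.range_eq_map, range_subtype]
  refine ⟨?_, ?_⟩
  · have hEs : E.IsSubnormal := by
      have h := hE.1.comap π
      rwa [comap_map_eq, QuotientGroup.ker_mk', sup_eq_left.2 hZE] at h
    exact hmap ▸ Subgroup.IsSubnormal.trans' (inferInstance : (commutator E).Normal).isSubnormal hEs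
  · exact (Cfsg.Agent.Components.quasisimple_congr
      ((commutator E).equivMapOfInjective _ E.subtype_injective |>.trans (MulEquiv.subgroupCongr hmap))).1 hq2

end Cfsg.Agent.S3746
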