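import Cfsg.Statements.S3747
import Cfsg.Agent.Lib.Components.FStar
import Cfsg.Agent.Lib.LocalEven.Wielandt
import Mathlib

set_option autoImplicit false
open Cfsg

namespace Cfsg.Agent.S3747

open Cfsg.Agent
open Cfsg.Agent.Components
open Subgroup

variable {G : Type*} [Group G] [Finite G]

lemma center_finset_sup (S : Finset (Subgroup G))
    (hc : ∀ L ∈ S, L ⊓ Subgroup.centralizer (L : Set G) = ⊥)
    (hcomm : ∀ L ∈ S, ∀ M ∈ S, L ≠ M → M ≤ Subgroup.centralizer (L : Set G)) :
    S.sup id ⊓ Subgroup.centralizer ((S.sup id : Subgroup G) : Set G) = ⊥ := by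
  classical
  induction S using Finset.induction with
  | empty => simp
  | insert L T hLT ih =>
    have hW : T.sup id ≤ Subgroup.centralizer (L : Set G) := Finset.sup_le fun M hM =>
      hcomm L (Finset.mem_insert_self _ _) M (Finset.mem_insert_of_mem hM) (fun h => hLT (h ▸ hM))
    have ih' := ih (fun M hM => hc M (Finset.mem_insert_of_mem hM))
      (fun M hM N hN => hcomm M (Finset.mem_insert_of_mem hM) N (Finset.mem_insert_of_mem hN))
    rw [Finset.sup_insert, id]
    rw [eq_bot_iff]
    rintro z ⟨hz, hzc⟩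
    have hnorm : L ≤ Subgroup.normalizer ((T.sup id : Subgroup G) : Set G) :=
      (Subgroup.le_centralizer_iff.1 hW).trans (Subgroup.centralizer_le_normalizer _)
    obtain ⟨l, hl, w, hw, rfl⟩ : ∃ l ∈ L, ∃ w ∈ T.sup id, l * w = z := by
      have hz' : z ∈ ((L ⊔ T.sup id : Subgroup G) : Set G) := hz
      rw [Subgroup.coe_mul_of_left_le_normalizer_right L _ hnorm] at hz'
      exact hz'
    have hlw : ∀ x ∈ T.sup id, l * x = x * l := fun x hx => Subgroup.mem_centralizer_iff.1 (hW hx) l hl
    have hlc : l ∈ Subgroup.centralizer (L : Set G) := by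
      rw [Subgroup.mem_centralizer_iff]
      intro y hy
      have h1 := Subgroup.mem_centralizer_iff.1 hzc y (Subgroup.mem_sup_left hy)
      have h2 := Subgroup.mem_centralizer_iff.1 (hW hw) y hy
      have h3 : (y * l) * w = (l * y) * w := by
        calc (y * l) * w = y * (l * w) := mul_assoc y l w
          _ = l * w * y := h1
          _ = l * (y * w) := by rw [h2, mul_assoc]
          _ = l * y * w := (mul_assoc _ _ _).symm
      exact mul_right_cancel h3
    have hl1 : l = 1 := by
      rw [← Subgroup.mem_bot, ← hc L (Finset.mem_insert_self _ _)]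
      exact ⟨hl, hlc⟩
    subst hl1
    rw [one_mul] at hzc ⊢
    rw [← ih']
    exact ⟨hw, Subgroup.centralizer_le (show ((T.sup id : Subgroup G) : Set G) ⊆ ((L ⊔ T.sup id : Subgroup G) : Set G) from
      fun x hx => Subgroup.mem_sup_right hx) hzc⟩

lemma nc_minimal {K : Subgroup G} (hK : Cfsg.IsComponent K) (hZ : Subgroup.center ↥K = ⊥) :
    Subgroup.normalClosure (K : Set G) ≠ ⊥ ∧ ∀ N : Subgroup G, N.Normal →
      N ≤ Subgroup.normalClosure (K : Set G) → N = ⊥ ∨ N = Subgroup.normalClosure (K : Set G) := by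
  classical
  haveI := Fintype.ofFinite G
  refine ⟨fun h => component_ne_bot hK (le_bot_iff.1 (h ▸ Subgroup.le_normalClosure)), fun N hN hle => ?_⟩
  rcases component_le_or_commute hK hN.isSubnormal with h | h
  · exact Or.inr (le_antisymm hle (Subgroup.normalClosure_le_normal h))
  left
  set S : Finset (Subgroup G) := Finset.univ.image fun g : G => K.map (MulAut.conj g).toMonoidHom with hS
  have hsup : Subgroup.normalClosure (K : Set G) ≤ S.sup id := by
    rw [Subgroup.normalClosure, Subgroup.closure_le]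
    intro x hx
    obtain ⟨k, hk, hkx⟩ := Group.mem_conjugatesOfSet_iff.1 hx
    obtain ⟨g, rfl⟩ := isConj_iff.1 hkx
    have hmem : K.map (MulAut.conj g).toMonoidHom ∈ S := Finset.mem_image_of_mem _ (Finset.mem_univ g)
    exact (Finset.le_sup (f := id) hmem : K.map (MulAut.conj g).toMonoidHom ≤ S.sup id) ⟨k, hk, rfl⟩
  have hK0 : K ⊓ Subgroup.centralizer (K : Set G) = ⊥ := by
    rw [← center_map_subtype, hZ, Subgroup.map_bot]
  have hc0 := center_finset_sup S (fun L hL => by
      obtain ⟨g, -, rfl⟩ := Finset.mem_image.1 hL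
      rw [eq_bot_iff]
      rintro _ ⟨⟨k, hk, rfl⟩, hc⟩
      have : k ∈ K ⊓ Subgroup.centralizer (K : Set G) := ⟨hk, Subgroup.mem_centralizer_iff.2 fun y hy =>
        (MulAut.conj g).injective (by
          rw [map_mul, map_mul]
          exact Subgroup.mem_centralizer_iff.1 hc _ ⟨y, hy, rfl⟩)⟩
      rw [hK0, Subgroup.mem_bot] at this
      simp [this])
    (fun L hL M hM hne => by
      obtain ⟨g, -, rfl⟩ := Finset.mem_image.1 hL
      obtain ⟨g', -, rfl⟩ := Finset.mem_image.1 hM
      exact Subgroup.commutator_eq_bot_iff_le_centralizer.1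
        (components_commute (component_conj hK g') (component_conj hK g) (Ne.symm hne)))
  rw [eq_bot_iff, ← hc0]
  refine le_inf (hle.trans hsup) ?_
  rw [Subgroup.le_centralizer_iff]
  refine Finset.sup_le fun L hL => ?_
  obtain ⟨g, -, rfl⟩ := Finset.mem_image.1 hL
  rintro _ ⟨k, hk, rfl⟩
  rw [Subgroup.mem_centralizer_iff]
  intro n hn
  have h1 := Subgroup.mem_centralizer_iff.1 (Subgroup.commutator_eq_bot_iff_le_centralizer.1 h hk) (g⁻¹ * n * g)
    (by simpa using hN.conj_mem n hn g⁻¹)
  show n * (g * k * g⁻¹) = g * k * g⁻¹ * n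
  calc n * (g * k * g⁻¹) = g * ((g⁻¹ * n * g) * k) * g⁻¹ := by group
    _ = g * (k * (g⁻¹ * n * g)) * g⁻¹ := by rw [h1]
    _ = _ := by group

/-- Let G be a finite group. (a) If K is a component of G with trivial centre, then the normal closure of K in G is a minimal normal subgroup of G. (b) If the Fitting subgroup of G is trivial, then the layer E(G) is generated by the minimal normal subgroups of G. -/
theorem result {G : Type*} [Group G] [Finite G] : (∀ K : Subgroup G, Cfsg.IsComponent K → Subgroup.center ↥K = ⊥ → (Subgroup.normalClosure (K : Set G) ≠ ⊥ ∧ ∀ N : Subgroup G, N.Normal → N ≤ Subgroup.normalClosure (K : Set G) → N = ⊥ ∨ N = Subgroup.normalClosure (K : Set G))) ∧ (Cfsg.fittingSubgroup G = ⊥ → sSup {N : Subgroup G | N ≠ ⊥ ∧ N.Normal ∧ ∀ N' : Subgroup G, N'.Normal → N' ≤ N → N' = ⊥ ∨ N' = N} = Cfsg.layer G) := by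
  refine ⟨fun K hK hZ => nc_minimal hK hZ, fun hF => le_antisymm (sSup_le ?_) (sSup_le ?_)⟩
  · rintro N ⟨hN1, hNn, hmin⟩
    haveI := hNn
    haveI := layer_normal (G := G)
    rcases hmin (N ⊓ Cfsg.layer G) inferInstance inf_le_left with h | h
    · exfalso
      have hNC : N ≤ Subgroup.centralizer (Cfsg.layer G : Set G) := fun n hn =>
        Subgroup.mem_centralizer_iff.2 fun x hx =>
          (Subgroup.commute_of_normal_of_disjoint _ _ hNn (layer_normal (G := G)) (disjoint_iff.2 h) n x hn hx).eq.symm
      have hFs : Cfsg.generalizedFittingSubgroup G = Cfsg.layer G := by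
        rw [Cfsg.generalizedFittingSubgroup, hF, sup_bot_eq]
      have h2 := centralizer_generalizedFitting_le (G := G)
      rw [hFs] at h2
      exact hN1 (le_bot_iff.1 (h ▸ le_inf le_rfl (hNC.trans h2)))
    · exact h ▸ inf_le_right
  · intro K hK
    have hZ : Subgroup.center ↥K = ⊥ := by
      have hs : ((Subgroup.center ↥K).map K.subtype).IsSubnormal :=
        Subgroup.IsSubnormal.trans' (Subgroup.Normal.isSubnormal inferInstance) hK.1
      haveI : Group.IsNilpotent ↥(Subgroup.center ↥K) := ⟨1, (Subgroup.eq_top_iff' _).2 fun a => by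
        rw [Subgroup.upperCentralSeries_one, Subgroup.mem_center_iff]
        intro b
        exact Subtype.ext (Subgroup.mem_center_iff.1 a.2 b)⟩
      haveI : Group.IsNilpotent ↥((Subgroup.center ↥K).map K.subtype) :=
        isNilpotent_map _ _
      have h1 := subnormal_nilpotent_le_fitting hs inferInstance
      rw [hF, le_bot_iff] at h1
      exact Subgroup.map_injective K.subtype_injective (h1.trans (Subgroup.map_bot _).symm)
    obtain ⟨h1, h2⟩ := nc_minimal hK hZ
    exact Subgroup.le_normalClosure.trans (le_sSup ⟨h1, Subgroup.normalClosure_normal, h2⟩)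

end Cfsg.Agent.S3747
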