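import Cfsg.Statements.S3748
import Cfsg.Agent.Lib.LocalEven.Wielandt
import Cfsg.Agent.Lib.Solvable.Fitting
import Mathlib

set_option autoImplicit false
open Cfsg

namespace Cfsg.Agent.S3748

open Cfsg.Agent

lemma closure_conj_isSubnormal {G : Type*} [Group G] [Finite G] (M K : Subgroup G) (hK : K.IsSubnormal)
    (hKM : K ≤ M) : ∃ W : Subgroup G, K ≤ W ∧ W ≤ M ∧ W.IsSubnormal ∧ M ≤ Subgroup.normalizer (W : Set G) := by
  classical
  haveI := Fintype.ofFinite ↥M
  have key : ∀ s : Finset ↥M, ((s.sup fun m => K.map (MulAut.conj (m : G)).toMonoidHom)).IsSubnormal := by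
    intro s
    induction s using Finset.induction with
    | empty => simpa using Subgroup.IsSubnormal.bot
    | insert m t _ ih =>
      rw [Finset.sup_insert]
      exact LEWielandt.sup (hK.map (MulAut.conj (m : G)).surjective) ih
  set W := Finset.univ.sup fun m : ↥M => K.map (MulAut.conj (m : G)).toMonoidHom
  refine ⟨W, ?_, Finset.sup_le fun m _ => ?_, key _, fun g hg => ?_⟩
  · refine le_trans ?_ (Finset.le_sup (f := fun m : ↥M => K.map (MulAut.conj (m : G)).toMonoidHom) (Finset.mem_univ (1 : ↥M)))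
    exact fun k hk => ⟨k, hk, by simp⟩
  · rintro _ ⟨k, hk, rfl⟩
    exact mul_mem (mul_mem m.2 (hKM hk)) (inv_mem m.2)
  · refine LEBasic.map_conj_eq_iff_mem_normalizer.1 (Subgroup.eq_of_le_of_card_ge ?_ (LEBasic.card_map_conj W g).ge)
    rw [Subgroup.map_le_iff_le_comap]
    refine Finset.sup_le fun m _ => ?_
    rintro _ ⟨k, hk, rfl⟩
    refine Finset.le_sup (f := fun m : ↥M => K.map (MulAut.conj (m : G)).toMonoidHom)
      (Finset.mem_univ (⟨g, hg⟩ * m : ↥M)) ⟨k, hk, ?_⟩
    simp [mul_assoc]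

/-- Call a proper subgroup M of G primitive when M = N_G(N) for every non-trivial normal subgroup N of M. If M is a primitive subgroup of the finite group G, then no non-trivial subnormal subgroup of G is contained in M; in particular M ∩ F(G) = 1. -/
theorem result {G : Type*} [Group G] [Finite G] (M : Subgroup G) (hM : M ≠ ⊤) (hprim : ∀ N : Subgroup G, N ≤ M → M ≤ Subgroup.normalizer (N : Set G) → N ≠ ⊥ → Subgroup.normalizer (N : Set G) = M) : (∀ L : Subgroup G, L.IsSubnormal → L ≤ M → L = ⊥) ∧ M ⊓ Cfsg.fittingSubgroup G = ⊥ := by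
  have key : ∀ L : Subgroup G, L.IsSubnormal → L ≤ M → L = ⊥ := by
    intro L hL hLM
    by_contra hne
    obtain ⟨W, hLW, hWM, hWs, hWn⟩ := closure_conj_isSubnormal M L hL hLM
    obtain ⟨N, ⟨⟨hNM, hNs, hNn, hLN⟩, hmax⟩⟩ := (Set.toFinite {N : Subgroup G | N ≤ M ∧ N.IsSubnormal ∧
      M ≤ Subgroup.normalizer (N : Set G) ∧ L ≤ N}).exists_maximal ⟨W, hWM, hWs, hWn, hLW⟩
    have hN1 : N ≠ ⊥ := fun h => hne (le_bot_iff.1 (h ▸ hLN))
    have hnorm := hprim N hNM hNn hN1
    rcases Subgroup.IsSubnormal.iff_eq_top_or_exists.1 hNs with htop | ⟨K, hNK, hKs, hnK⟩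
    · exact hM (top_le_iff.1 (htop ▸ hNM))
    have hKM : K ≤ M := hnorm ▸ (Subgroup.normal_subgroupOf_iff_le_normalizer hNK.le).1 hnK
    obtain ⟨W', hKW', hW'M, hW's, hW'n⟩ := closure_conj_isSubnormal M K hKs hKM
    exact hNK.not_ge (hKW'.trans (hmax ⟨hW'M, hW's, hW'n, hLN.trans (hNK.le.trans hKW')⟩ (hNK.le.trans hKW')))
  refine ⟨key, key _ ?_ inf_le_left⟩
  haveI := FittingCores.fitting_nilpotent (G := G)
  exact Subgroup.IsSubnormal.trans inf_le_right (LEWielandt.isSubnormal_of_isNilpotent _)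
    (Subgroup.Normal.isSubnormal FittingCores.fitting_normal)

end Cfsg.Agent.S3748
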