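import Cfsg.Statements.S3749
import Cfsg.Agent.Lib.Solvable.Coprime
import Cfsg.Agent.Lib.Transfer.Basic
import Mathlib

set_option autoImplicit false
open Cfsg

namespace Cfsg.Agent.S3749

open Cfsg.Agent
open scoped Pointwise

/-- Call a proper subgroup M of G primitive when M = N_G(N) for every non-trivial normal subgroup N of M. Let M be a primitive subgroup of the finite group G, p a prime with O_p(M) ≠ 1, and N a normal subgroup of G with M ∩ N = 1. Then p does not divide the order of N; for every prime q there is exactly one Sylow q-subgroup of N normalized by M; and if the order of N has at least two prime divisors then M is not a maximal subgroup of G. -/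
theorem result {G : Type*} [Group G] [Finite G] (M : Subgroup G) (hM : M ≠ ⊤) (hprim : ∀ N : Subgroup G, N ≤ M → M ≤ Subgroup.normalizer (N : Set G) → N ≠ ⊥ → Subgroup.normalizer (N : Set G) = M) {p : ℕ} [Fact p.Prime] (hOp : Cfsg.pCore p ↥M ≠ ⊥) (N : Subgroup G) [N.Normal] (hMN : M ⊓ N = ⊥) : ¬ p ∣ Nat.card N ∧ (∀ q : ℕ, [Fact q.Prime] → ∃! Q : Sylow q ↥N, M ≤ Subgroup.normalizer ((Q : Subgroup ↥N).map N.subtype : Set G)) ∧ ((∃ q r : ℕ, q.Prime ∧ r.Prime ∧ q ≠ r ∧ q ∣ Nat.card N ∧ r ∣ Nat.card N) → ¬ IsCoatom M) := by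
  classical
  have hp : p.Prime := Fact.out
  set A := (Cfsg.pCore p ↥M).map M.subtype with hAdef
  have hAM : A ≤ M := Subgroup.map_subtype_le _
  have hAne : A ≠ ⊥ := by
    rw [Ne, Subgroup.map_eq_bot_iff_of_injective _ M.subtype_injective]; exact hOp
  have hMA : M ≤ Subgroup.normalizer (A : Set G) := by
    intro m hm
    rw [Subgroup.mem_normalizer_iff]
    intro x
    haveI := PBasic.pCore_characteristic p ↥M
    constructor
    · rintro ⟨y, hy, rfl⟩
      exact ⟨⟨m, hm⟩ * y * ⟨m, hm⟩⁻¹, (inferInstance : (Cfsg.pCore p ↥M).Normal).conj_mem y hy _, rfl⟩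
    · rintro ⟨y, hy, hyx⟩
      refine ⟨⟨m, hm⟩⁻¹ * y * ⟨m, hm⟩,
        by simpa using (inferInstance : (Cfsg.pCore p ↥M).Normal).conj_mem y hy (⟨m, hm⟩⁻¹ : ↥M), ?_⟩
      simp only [map_mul, map_inv, hyx, Subgroup.subtype_apply]
      group
  have hNA : Subgroup.normalizer (A : Set G) = M := hprim A hAM hMA hAne
  have hAp : IsPGroup p ↥A := (PBasic.pCore_isPGroup p ↥M).map _
  have hCN : ∀ x ∈ N, x ∈ Subgroup.centralizer (A : Set G) → x = 1 := by
    intro x hx hxc
    have hxM : x ∈ M := hNA ▸ Subgroup.centralizer_le_normalizer _ hxc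
    rw [← Subgroup.mem_bot, ← hMN]
    exact ⟨hxM, hx⟩
  have hpN : ¬ p ∣ Nat.card N := by
    intro hd
    letI : MulAction ↥A ↥N := MulAction.compHom ↥N ((MulAut.conjNormal (H := N)).comp A.subtype)
    have h1 := hAp.card_modEq_card_fixedPoints ↥N
    have hone : MulAction.fixedPoints ↥A ↥N = {1} := by
      ext x
      constructor
      · intro hx
        refine Subtype.ext (hCN x x.2 ?_)
        rw [Subgroup.mem_centralizer_iff]
        intro a ha
        have h2 : a * (x : G) * a⁻¹ = x := congrArg Subtype.val (hx ⟨a, ha⟩)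
        exact mul_inv_eq_iff_eq_mul.1 h2
      · rintro rfl a
        exact map_one (MulAut.conjNormal (H := N) (a : G))
    rw [hone, Nat.card_coe_set_eq, Set.ncard_singleton] at h1
    have h3 := (h1.symm.trans (Nat.modEq_zero_iff_dvd.2 hd))
    rw [Nat.modEq_zero_iff_dvd] at h3
    exact hp.not_dvd_one h3
  have hcop : (Nat.card A).Coprime (Nat.card N) := by
    obtain ⟨k, hk⟩ := IsPGroup.iff_card.1 hAp
    rw [hk]
    exact Nat.Coprime.pow_left _ (hp.coprime_iff_not_dvd.2 hpN)
  have hAN : A ≤ Subgroup.normalizer (N : Set G) := by rw [Subgroup.normalizer_eq_top]; exact le_top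
  haveI := hAp.isNilpotent
  have hsolv : Group.IsSolvable ↥A ∨ Group.IsSolvable ↥N := Or.inl inferInstance
  have hq : ∀ q : ℕ, [Fact q.Prime] → ∃! Q : Sylow q ↥N,
      M ≤ Subgroup.normalizer ((Q : Subgroup ↥N).map N.subtype : Set G) := by
    intro q _
    obtain ⟨P, hP⟩ := CoprimeAct.exists_invariant_sylow hAN hcop hsolv q
    have huniq : ∀ Q : Sylow q ↥N,
        A ≤ Subgroup.normalizer ((Q : Subgroup ↥N).map N.subtype : Set G) → Q = P := by
      intro Q hQ
      obtain ⟨c, hc, hcQ⟩ := CoprimeAct.invariant_sylow_conj hAN hcop hsolv P Q hP hQ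
      have h1 : c = 1 := Subtype.ext (hCN c c.2 hc)
      rw [h1, map_one, one_smul] at hcQ
      exact hcQ.symm
    refine ⟨P, fun m hm => ?_, fun Q hQ => huniq Q (hAM.trans hQ)⟩
    set P' : Sylow q ↥N := MulAut.conjNormal (H := N) m • P with hP'
    have hmap : (P' : Subgroup ↥N).map N.subtype = MulAut.conj m • ((P : Subgroup ↥N).map N.subtype) := by
      ext x
      rw [SolvBasic.mem_conjSmul]
      constructor
      · rintro ⟨y, hy, rfl⟩
        obtain ⟨z, hz, rfl⟩ := (show y ∈ (MulAut.conjNormal (H := N) m) • (P : Subgroup ↥N) from hy)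
        exact ⟨z, hz, by simp [MulAut.conjNormal_apply, mul_assoc]⟩
      · rintro ⟨z, hz, hzx⟩
        refine ⟨MulAut.conjNormal (H := N) m z, ?_, ?_⟩
        · show _ ∈ (MulAut.conjNormal (H := N) m) • (P : Subgroup ↥N)
          exact ⟨z, hz, rfl⟩
        · simp only [Subgroup.subtype_apply, MulAut.conjNormal_apply] at hzx ⊢
          rw [hzx]; group
    have hA' : A ≤ Subgroup.normalizer ((P' : Subgroup ↥N).map N.subtype : Set G) := by
      intro a ha
      rw [hmap, Subgroup.mem_normalizer_iff]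
      intro x
      rw [SolvBasic.mem_conjSmul, SolvBasic.mem_conjSmul]
      have ha' : m⁻¹ * a * m ∈ A := (Subgroup.mem_normalizer_iff''.1 (hMA hm) a).1 ha
      have h2 := Subgroup.mem_normalizer_iff.1 (hP ha') (m⁻¹ * x * m)
      rw [h2]
      simp [mul_assoc]
    rw [Subgroup.mem_normalizer_iff]
    intro x
    have heq := huniq P' hA'
    rw [heq] at hmap
    conv_rhs => rw [hmap, SolvBasic.mem_conjSmul]
    simp [mul_assoc]
  refine ⟨hpN, hq, ?_⟩
  rintro ⟨q, r, hqp, hrp, hqr, hqd, hrd⟩ hco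
  haveI : Fact q.Prime := ⟨hqp⟩
  obtain ⟨Q, hQ, -⟩ := hq q
  set B := (Q : Subgroup ↥N).map N.subtype with hB
  have hBN : B ≤ N := Subgroup.map_subtype_le _
  have hBM : B ⊓ M = ⊥ := le_bot_iff.1 (hMN ▸ le_inf inf_le_right (inf_le_left.trans hBN))
  have hlt : M < M ⊔ B := by
    refine lt_of_le_of_ne le_sup_left fun h => ?_
    have h2 : B ≤ M := h ▸ le_sup_right
    rw [inf_eq_left.2 h2, hB, Subgroup.map_eq_bot_iff_of_injective _ N.subtype_injective] at hBM
    exact Q.ne_bot_of_dvd_card hqd hBM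
  have htop : M ⊔ B = ⊤ := hco.2 _ hlt
  have hc1 : Nat.card ↥(B ⊔ M) = Nat.card B * Nat.card M := SolvBasic.card_sup_of_inf_eq_bot hQ hBM
  have hc2 : Nat.card ↥(N ⊔ M) = Nat.card N * Nat.card M :=
    SolvBasic.card_sup_of_inf_eq_bot (by rw [Subgroup.normalizer_eq_top]; exact le_top) (by rw [inf_comm]; exact hMN)
  have hBN' : Nat.card N ≤ Nat.card B := by
    have h1 : Nat.card ↥(N ⊔ M) ≤ Nat.card ↥(B ⊔ M) := by
      rw [sup_comm B, htop, Subgroup.card_top]; exact Subgroup.card_le_card_group _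
    rw [hc1, hc2] at h1
    exact Nat.le_of_mul_le_mul_right h1 Nat.card_pos
  have heq : B = N := Subgroup.eq_of_le_of_card_ge hBN hBN'
  obtain ⟨k, hk⟩ := IsPGroup.iff_card.1 (Q.isPGroup'.map N.subtype)
  rw [← hB, heq] at hk
  rw [hk] at hrd
  exact hqr ((Nat.prime_dvd_prime_iff_eq hrp hqp).1 (hrp.dvd_of_dvd_pow hrd)).symm

end Cfsg.Agent.S3749
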