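import Cfsg.Statements.S3750
import Cfsg.Agent.Lib.Components.FStar
import Cfsg.Agent.Lib.Solvable.Fitting
import Mathlib

set_option autoImplicit false
open Cfsg

namespace Cfsg.Agent.S3750

open Cfsg.Agent

/-- Call a proper subgroup M of G primitive when M = N_G(N) for every non-trivial normal subgroup N of M. Let M be a primitive subgroup of the finite group G and N a normal subgroup of G with M ∩ F*(N) ≠ 1. Then F(G) = 1 and F*(N) = F*(G) = E(G); in particular every minimal normal subgroup of G is contained in N. -/
theorem result {G : Type*} [Group G] [Finite G] (M : Subgroup G) (hM : M ≠ ⊤) (hprim : ∀ N : Subgroup G, N ≤ M → M ≤ Subgroup.normalizer (N : Set G) → N ≠ ⊥ → Subgroup.normalizer (N : Set G) = M) (N : Subgroup G) [N.Normal] (hMF : M ⊓ (Cfsg.generalizedFittingSubgroup ↥N).map N.subtype ≠ ⊥) : Cfsg.fittingSubgroup G = ⊥ ∧ (Cfsg.generalizedFittingSubgroup ↥N).map N.subtype = Cfsg.generalizedFittingSubgroup G ∧ Cfsg.generalizedFittingSubgroup G = Cfsg.layer G ∧ ∀ K : Subgroup G, K.Normal → K ≠ ⊥ → (∀ K' : Subgroup G, K'.Normal → K' ≤ K →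 K' = ⊥ ∨ K' = K) → K ≤ N := by
  classical
  set FN := (Cfsg.generalizedFittingSubgroup ↥N).map N.subtype with hFN
  haveI hFGn : (Cfsg.generalizedFittingSubgroup G).Normal := Components.generalizedFitting_normal
  have hsub : N.IsSubnormal := Subgroup.Normal.isSubnormal inferInstance
  have hFNeq : FN = Cfsg.generalizedFittingSubgroup G ⊓ N := Components.generalizedFitting_of_subnormal hsub
  haveI hFNn : FN.Normal := by rw [hFNeq]; infer_instance
  set X := M ⊓ FN with hX
  have hMX : M ≤ Subgroup.normalizer (X : Set G) :=
    (le_inf Subgroup.le_normalizer (by rw [Subgroup.normalizer_eq_top]; exact le_top)).trans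
      Subgroup.inf_normalizer_le_normalizer_inf
  have hNX := hprim X inf_le_left hMX hMF
  have hC : Subgroup.centralizer (FN : Set G) = ⊥ := by
    by_contra hne
    have hle : Subgroup.centralizer (FN : Set G) ≤ M :=
      ((Subgroup.centralizer_le (inf_le_right : X ≤ FN)).trans (Subgroup.centralizer_le_normalizer _)).trans hNX.le
    have h1 : M ≤ Subgroup.normalizer (Subgroup.centralizer (FN : Set G) : Set G) := by
      rw [Subgroup.normalizer_eq_top]; exact le_top
    have h2 := hprim _ hle h1 hne
    rw [Subgroup.normalizer_eq_top] at h2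
    exact hM h2.symm
  haveI hFn : (Cfsg.fittingSubgroup G).Normal := FittingCores.fitting_normal
  have hFNN : FN ≤ N := Subgroup.map_subtype_le _
  have hcom : ∀ K : Subgroup G, K.Normal → K ⊓ N = ⊥ → K = ⊥ := by
    intro K hK hKN
    haveI := hK
    refine le_bot_iff.1 (le_trans ?_ hC.le)
    refine Subgroup.commutator_eq_bot_iff_le_centralizer.1 (le_bot_iff.1 ?_)
    rw [← hKN]
    exact (Subgroup.commutator_mono le_rfl hFNN).trans (Subgroup.commutator_le_inf K N)
  have hF : Cfsg.fittingSubgroup G = ⊥ := by
    refine hcom _ hFn ?_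
    set R := Cfsg.fittingSubgroup G ⊓ N with hR
    haveI : Group.IsNilpotent ↥(Cfsg.fittingSubgroup G) := FittingCores.fitting_nilpotent
    haveI : Group.IsNilpotent ↥R := Components.isNilpotent_mono (inf_le_left : R ≤ Cfsg.fittingSubgroup G)
    have hZ : (Subgroup.center ↥R).map R.subtype = ⊥ := by
      refine le_bot_iff.1 (le_trans ?_ hC.le)
      rw [Components.center_map_subtype]
      rw [hFN, Cfsg.generalizedFittingSubgroup, Subgroup.map_sup]
      refine Subgroup.le_centralizer_iff.1 (sup_le ?_ ?_)
      · refine Subgroup.le_centralizer_iff.1 ?_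
        exact ((inf_le_left.trans inf_le_left).trans Components.fitting_le_centralizer_layer).trans
          (Subgroup.centralizer_le (Components.layer_map_le_of_subnormal hsub))
      · rw [Components.fitting_of_subnormal hsub]
        exact Subgroup.le_centralizer_iff.1 inf_le_right
    rw [Subgroup.map_eq_bot_iff_of_injective _ R.subtype_injective] at hZ
    by_contra hne
    haveI : Nontrivial ↥R := (Subgroup.nontrivial_iff_ne_bot R).2 hne
    exact (Group.IsNilpotent.center_ne_bot ↥R) hZ
  have hFG : Cfsg.generalizedFittingSubgroup G = Cfsg.layer G := by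
    rw [Cfsg.generalizedFittingSubgroup, hF, sup_bot_eq]
  have hEN : Cfsg.layer G ≤ N := by
    rw [Components.layer_le_iff]
    intro L hL
    rcases Components.component_le_or_commute hL hsub with h | h
    · exact h
    · exfalso
      refine Components.component_ne_bot hL (le_bot_iff.1 (le_trans ?_ hC.le))
      exact (Subgroup.commutator_eq_bot_iff_le_centralizer.1 h).trans (Subgroup.centralizer_le hFNN)
  have hFNG : FN = Cfsg.generalizedFittingSubgroup G := by
    rw [hFNeq, inf_eq_left, hFG]; exact hEN
  refine ⟨hF, hFNG, hFG, fun K hK hK0 hmin => ?_⟩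
  haveI := hK
  rcases hmin (K ⊓ N) inferInstance inf_le_left with h | h
  · exact absurd (hcom K hK h) hK0
  · exact inf_eq_left.1 h

end Cfsg.Agent.S3750
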