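import Cfsg.Statements.S3751
import Cfsg.Agent.Lib.Techniques.CharP
import Cfsg.Agent.Lib.LocalEven.Basic
import Mathlib

set_option autoImplicit false
open Cfsg

namespace Cfsg.Agent.S3751

open Subgroup
open scoped commutatorElement
open Cfsg.Agent

variable {G : Type*} [Group G]

/-- A `p`-local subgroup. -/
def Loc (p : ℕ) (M : Subgroup G) : Prop :=
  ∃ T : Subgroup G, IsPGroup p T ∧ T ≠ ⊥ ∧ M = normalizer (T : Set G)

/-- A maximal `p`-local subgroup. -/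
def MaxLoc (p : ℕ) (M : Subgroup G) : Prop :=
  Loc p M ∧ ∀ L : Subgroup G, Loc p L → M ≤ L → L = M

theorem exists_maxLoc [Finite G] {p : ℕ} {L : Subgroup G} (hL : Loc p L) : ∃ M, MaxLoc p M ∧ L ≤ M := by
  obtain ⟨M, hM, hmax⟩ := Set.Finite.exists_maximal (s := {M | Loc p M ∧ L ≤ M}) (Set.toFinite _) ⟨L, hL, le_rfl⟩
  exact ⟨M, ⟨hM.1, fun N hN hMN => le_antisymm (hmax ⟨hN, hM.2.trans hMN⟩ hMN) hMN⟩, hM.2⟩

theorem MaxLoc.opIn_ne_bot {p : ℕ} {M : Subgroup G} (hM : MaxLoc p M) : CharP.opIn p M ≠ ⊥ := by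
  obtain ⟨⟨T, hT, hTne, rfl⟩, -⟩ := hM
  exact fun h => hTne (le_bot_iff.1 (h ▸ CharP.le_opIn le_normalizer le_rfl hT))

/-- Every nontrivial normal subgroup of a maximal local subgroup has it as normalizer. -/
theorem MaxLoc.normalizer_eq [Finite G] {p : ℕ} [Fact p.Prime] {M A : Subgroup G} (hM : MaxLoc p M)
    (hchar : centralizer (pCore p ↥M : Set ↥M) ≤ pCore p ↥M) (hne : A ≠ ⊥) (hA : A ≤ M)
    (hn : M ≤ normalizer (A : Set G)) : normalizer (A : Set G) = M := by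
  have hR : CharP.opIn p M ⊓ A ≠ ⊥ := by
    intro h
    refine hne (eq_bot_iff.2 fun a ha => ?_)
    have hac : (⟨a, hA ha⟩ : M) ∈ centralizer (pCore p ↥M : Set ↥M) := by
      refine mem_centralizer_iff.2 fun y hy => Subtype.ext ?_
      have hy' : (y : G) ∈ CharP.opIn p M := ⟨y, hy, rfl⟩
      have h1 : ⁅(y : G), a⁆ ∈ CharP.opIn p M ⊓ A := by
        refine ⟨?_, ?_⟩
        · rw [commutatorElement_def, mul_assoc, mul_assoc]
          refine mul_mem hy' ?_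
          have := CharP.conj_mem_opIn (le_normalizer (hA ha)) (inv_mem hy')
          simpa [mul_assoc] using this
        · rw [commutatorElement_def]
          exact A.mul_mem ((mem_normalizer_iff.1 (hn y.2) a).1 ha) (A.inv_mem ha)
      rw [h, mem_bot] at h1
      exact commutatorElement_eq_one_iff_mul_comm.1 h1
    have h2 : a ∈ CharP.opIn p M ⊓ A := ⟨⟨_, hchar hac, rfl⟩, ha⟩
    exact h ▸ h2
  set B := CharP.opIn p A with hB
  have hRB : CharP.opIn p M ⊓ A ≤ B := by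
    refine CharP.le_opIn inf_le_right ?_ ((CharP.opIn_isPGroup M).to_le inf_le_left)
    intro a ha
    rw [mem_normalizer_iff]
    intro x
    rw [mem_inf, mem_inf, ← mem_normalizer_iff.1 (CharP.le_normalizer_opIn M (hA ha)) x,
      ← mem_normalizer_iff.1 (le_normalizer ha) x]
  have hBne : B ≠ ⊥ := fun h => hR (le_bot_iff.1 (h ▸ hRB))
  have hNB : normalizer (A : Set G) ≤ normalizer (B : Set G) := CharP.normalizer_le_normalizer_opIn A
  have := hM.2 _ ⟨B, CharP.opIn_isPGroup A, hBne, rfl⟩ (hn.trans hNB)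
  exact le_antisymm (this ▸ hNB) hn

/-- Two distinct subgroups M₁, M₂ of G form a primitive pair when, for {i, j} = {1, 2}, every non-trivial normal subgroup A of M_i contained in M₁ ∩ M₂ satisfies N_{M_j}(A) = M₁ ∩ M₂; the pair has characteristic p when moreover C_{M_i}(O_p(M_i)) ≤ O_p(M_i) for both i and O_p(M₁)O_p(M₂) ≤ M₁ ∩ M₂. Let G be a finite group, p a prime dividing its order, with O_p(G) = 1 and every p-local subgroup of characteristic p. Then either G has a primitive pair of characteristic p, or every maximal p-local subgroup M of G is strongly p-embedded in G: M is a proper subgroup, p divides its order, and for every g ∉ M the order of M ∩ gMg⁻¹ is prime to p. -/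
theorem result {G : Type*} [Group G] [Finite G] {p : ℕ} [Fact p.Prime] (hloc : Cfsg.IsOfLocalCharacteristic p G) (hOp : Cfsg.pCore p G = ⊥) : (∃ M₁ M₂ : Subgroup G, M₁ ≠ M₂ ∧ (∀ A : Subgroup G, A ≠ ⊥ → A ≤ M₁ ⊓ M₂ → (M₁ ≤ Subgroup.normalizer (A : Set G) → M₂ ⊓ Subgroup.normalizer (A : Set G) = M₁ ⊓ M₂) ∧ (M₂ ≤ Subgroup.normalizer (A : Set G) → M₁ ⊓ Subgroup.normalizer (A : Set G) = M₁ ⊓ M₂)) ∧ Subgroup.centralizer (Cfsg.pCore p ↥M₁ : Set ↥M₁) ≤ Cfsg.pCore p ↥M₁ ∧ Subgroup.centralizer (Cfsg.pCore p ↥M₂ : Set ↥M₂) ≤ Cfsg.pCore p ↥M₂ ∧ (Cfsg.pCore p ↥M₁).map M₁.subtype ⊔ (Cfsg.pCore p ↥M₂).map M₂.subtype ≤ M₁ ⊓ M₂) ∨ (∀ M : Subgroup G, (∃ T : Subgroup G, IsPGroup p T ∧ T ≠ ⊥ ∧ M = Subgroup.normalizer (T : Set G)) → (∀ L : Subgroup G, (∃ T : Subgroup G, IsPGroup p T ∧ T ≠ ⊥ ∧ L = Subgroup.normalizer (T : Set G)) → M ≤ L → L = M) → M ≠ ⊤ ∧ p ∣ Nat.card M ∧ ∀ g : G, g ∉ M → ¬ p ∣ Nat.card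 ↥(M ⊓ M.map (MulAut.conj g).toMonoidHom)) := by
  classical
  have hp := (Fact.out : p.Prime)
  by_cases hse : ∀ M : Subgroup G, MaxLoc p M → ∀ g : G, g ∉ M → ¬ p ∣ Nat.card ↥(M ⊓ M.map (MulAut.conj g).toMonoidHom)
  · refine Or.inr fun M hM hmax => ⟨?_, ?_, hse M ⟨hM, hmax⟩⟩
    · obtain ⟨T, hT, hTne, rfl⟩ := hM
      intro htop
      haveI : T.Normal := Subgroup.normalizer_eq_top_iff.1 htop
      exact hTne (le_bot_iff.1 (hOp ▸ PBasic.le_pCore inferInstance hT))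
    · obtain ⟨T, hT, hTne, rfl⟩ := hM
      haveI := (Subgroup.nontrivial_iff_ne_bot T).2 hTne
      obtain ⟨k, hk, hcard⟩ := hT.nontrivial_iff_card.1 inferInstance
      exact (hcard ▸ dvd_pow_self p hk.ne' : p ∣ Nat.card T).trans (Subgroup.card_dvd_of_le le_normalizer)
  left
  have hchar : ∀ M : Subgroup G, MaxLoc p M → centralizer (pCore p ↥M : Set ↥M) ≤ pCore p ↥M := by
    rintro M ⟨⟨T, hT, hTne, rfl⟩, -⟩
    exact hloc.2 T hT hTne
  -- conjugates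
  have hconj : ∀ (g : G) (M : Subgroup G), MaxLoc p M → MaxLoc p (M.map (MulAut.conj g).toMonoidHom) := by
    have hl : ∀ (g : G) (M : Subgroup G), Loc p M → Loc p (M.map (MulAut.conj g).toMonoidHom) := by
      rintro g M ⟨T, hT, hTne, rfl⟩
      refine ⟨T.map (MulAut.conj g).toMonoidHom, hT.map _, fun h => hTne ?_, ?_⟩
      · exact (map_eq_bot_iff_of_injective _ (MulAut.conj g).injective).1 h
      · rw [map_normalizer_eq_of_bijective _ (MulAut.conj g).bijective]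
    refine fun g M hM => ⟨hl g M hM.1, fun L hL hle => ?_⟩
    have h1 := hM.2 _ (hl g⁻¹ L hL) (fun x hx => ⟨g * x * g⁻¹, hle ⟨x, hx, rfl⟩, by simp [mul_assoc]⟩)
    rw [← h1]
    ext x
    simp [Subgroup.mem_map, mul_assoc]
  have hself : ∀ (g : G) (M : Subgroup G), MaxLoc p M → M.map (MulAut.conj g).toMonoidHom = M → g ∈ M := by
    intro g M hM he
    have hR := hM.normalizer_eq (hchar M hM) hM.opIn_ne_bot (CharP.opIn_le M) (CharP.le_normalizer_opIn M)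
    rw [← hR]
    exact CharP.normalizer_le_normalizer_opIn M (mem_normalizer_iff_map_conj_eq.2 he)
  -- distinct maximal locals sharing a nontrivial `p`-subgroup
  let Ok : Subgroup G → Prop := fun T => IsPGroup p T ∧ T ≠ ⊥ ∧
    ∃ M₁ M₂, MaxLoc p M₁ ∧ MaxLoc p M₂ ∧ M₁ ≠ M₂ ∧ T ≤ M₁ ∧ T ≤ M₂
  obtain ⟨T₀, hT₀⟩ : ∃ T, Ok T := by
    simp only [not_forall, not_not] at hse
    obtain ⟨M, hM, g, hg, hdvd⟩ := hse
    obtain ⟨x, hx⟩ := exists_prime_orderOf_dvd_card' p hdvd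
    have hx' : orderOf (x : G) = p := by rw [Subgroup.orderOf_coe, hx]
    refine ⟨zpowers (x : G), IsPGroup.of_card (n := 1) (by rw [Nat.card_zpowers, hx', pow_one]),
      fun h => ?_, M, _, hM, hconj g M hM, fun h => hg (hself g M hM h.symm),
      zpowers_le.2 x.2.1, zpowers_le.2 x.2.2⟩
    rw [zpowers_eq_bot.1 h, orderOf_one] at hx'
    exact hp.one_lt.ne hx'
  obtain ⟨T, hT, hmax⟩ := Set.Finite.exists_maximal (s := {T | Ok T}) (Set.toFinite _) ⟨T₀, hT₀⟩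
  obtain ⟨hTp, hTne, M₁, M₂, hM₁, hM₂, hne, hT₁, hT₂⟩ := hT
  obtain ⟨L, hL, hTL⟩ := exists_maxLoc (⟨T, hTp, hTne, rfl⟩ : Loc p (normalizer (T : Set G)))
  -- a `p`-subgroup above `T` gives an element of the normalizer
  have hgrow : ∀ Q : Subgroup G, IsPGroup p Q → T ≤ Q → ¬ Q ≤ T → ∃ s ∈ Q, s ∈ normalizer (T : Set G) ∧ s ∉ T := by
    intro Q hQ hTQ hnle
    haveI := hQ.isNilpotent
    have hlt : T.subgroupOf Q < normalizer ((T.subgroupOf Q : Subgroup Q) : Set Q) := by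
      refine Group.normalizerCondition_of_isNilpotent _ (lt_top_iff_ne_top.2 fun ht => hnle ?_)
      exact subgroupOf_eq_top.1 ht
    obtain ⟨s, hs, hs'⟩ := SetLike.exists_of_lt hlt
    rw [← subgroupOf_normalizer_eq hTQ] at hs
    exact ⟨s, s.2, hs, hs'⟩
  have hside : ∀ M, MaxLoc p M → T ≤ M → (∀ Q : Subgroup G, IsPGroup p Q → Q ≤ M → T ≤ Q → Q ≤ T) ∨ L = M := by
    intro M hM hTM
    by_contra hcon
    push Not at hcon
    obtain ⟨⟨Q, hQ, hQM, hTQ, hnle⟩, hLM⟩ := hcon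
    obtain ⟨s, hsQ, hsN, hsT⟩ := hgrow Q hQ hTQ hnle
    have hle : T ≤ Q ⊓ normalizer (T : Set G) := le_inf hTQ le_normalizer
    have hok : Ok (Q ⊓ normalizer (T : Set G)) := ⟨hQ.to_le inf_le_left,
      fun h => hTne (le_bot_iff.1 (h ▸ hle)), L, M, hL, hM, hLM, inf_le_right.trans hTL, inf_le_left.trans hQM⟩
    exact hsT (hmax hok hle ⟨hsQ, hsN⟩)
  have hop : ∀ M, T ≤ M → (∀ Q : Subgroup G, IsPGroup p Q → Q ≤ M → T ≤ Q → Q ≤ T) → CharP.opIn p M ≤ T := by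
    intro M hTM h
    refine le_sup_left.trans (h (CharP.opIn p M ⊔ T) ?_ (sup_le (CharP.opIn_le M) hTM) le_sup_right)
    exact IsPGroup.to_sup_of_normal_left' (CharP.opIn_isPGroup M) hTp (hTM.trans (CharP.le_normalizer_opIn M))
  have hfinish : ∀ A B, MaxLoc p A → MaxLoc p B → A ≠ B → T ≤ A → T ≤ B → CharP.opIn p A ≤ T → CharP.opIn p B ≤ T →
      ∃ M₁ M₂ : Subgroup G, M₁ ≠ M₂ ∧ (∀ A : Subgroup G, A ≠ ⊥ → A ≤ M₁ ⊓ M₂ → (M₁ ≤ Subgroup.normalizer (A : Set G) → M₂ ⊓ Subgroup.normalizer (A : Set G) = M₁ ⊓ M₂) ∧ (M₂ ≤ Subgroup.normalizer (A : Set G) → M₁ ⊓ Subgroup.normalizer (A : Set G) = M₁ ⊓ M₂)) ∧ Subgroup.centralizer (Cfsg.pCore p ↥M₁ : Set ↥M₁) ≤ Cfsg.pCore p ↥M₁ ∧ Subgroup.centralizer (Cfsg.pCore p ↥M₂ : Set ↥M₂) ≤ Cfsg.pCore p ↥M₂ ∧ (Cfsg.pCore p ↥M₁).map M₁.subtype ⊔ (Cfsg.pCore p ↥M₂).map M₂.subtype ≤ M₁ ⊓ M₂ := by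
    intro A B hA hB hAB hTA hTB hoA hoB
    refine ⟨A, B, hAB, fun C hC hle => ⟨fun hn => ?_, fun hn => ?_⟩, hchar A hA, hchar B hB,
      sup_le (hoA.trans (le_inf hTA hTB)) (hoB.trans (le_inf hTA hTB))⟩
    · rw [hA.normalizer_eq (hchar A hA) hC (hle.trans inf_le_left) hn, inf_comm]
    · rw [hB.normalizer_eq (hchar B hB) hC (hle.trans inf_le_right) hn]
  have hmain : ∀ A B, MaxLoc p A → MaxLoc p B → A ≠ B → T ≤ A → T ≤ B →
      (∀ Q : Subgroup G, IsPGroup p Q → Q ≤ A → T ≤ Q → Q ≤ T) →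
      ∃ M₁ M₂ : Subgroup G, M₁ ≠ M₂ ∧ (∀ A : Subgroup G, A ≠ ⊥ → A ≤ M₁ ⊓ M₂ → (M₁ ≤ Subgroup.normalizer (A : Set G) → M₂ ⊓ Subgroup.normalizer (A : Set G) = M₁ ⊓ M₂) ∧ (M₂ ≤ Subgroup.normalizer (A : Set G) → M₁ ⊓ Subgroup.normalizer (A : Set G) = M₁ ⊓ M₂)) ∧ Subgroup.centralizer (Cfsg.pCore p ↥M₁ : Set ↥M₁) ≤ Cfsg.pCore p ↥M₁ ∧ Subgroup.centralizer (Cfsg.pCore p ↥M₂ : Set ↥M₂) ≤ Cfsg.pCore p ↥M₂ ∧ (Cfsg.pCore p ↥M₁).map M₁.subtype ⊔ (Cfsg.pCore p ↥M₂).map M₂.subtype ≤ M₁ ⊓ M₂ := by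
    intro A B hA hB hAB hTA hTB hfull
    by_cases hB' : ∀ Q : Subgroup G, IsPGroup p Q → Q ≤ B → T ≤ Q → Q ≤ T
    · exact hfinish A B hA hB hAB hTA hTB (hop A hTA hfull) (hop B hTB hB')
    push Not at hB'
    obtain ⟨Q, hQ, hQB, hTQ, hnle⟩ := hB'
    obtain ⟨s, hsQ, hsN, hsT⟩ := hgrow Q hQ hTQ hnle
    have hsA : s ∉ A := fun hsA => by
      have hle : T ≤ T ⊔ zpowers s := le_sup_left
      have hpg : IsPGroup p ↥(T ⊔ zpowers s) := hQ.to_le (sup_le hTQ (zpowers_le.2 hsQ))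
      exact hsT (hfull _ hpg (sup_le hTA (zpowers_le.2 hsA)) hle ((le_sup_right : zpowers s ≤ _) (mem_zpowers s)))
    have hTs : T.map (MulAut.conj s).toMonoidHom = T := mem_normalizer_iff_map_conj_eq.1 hsN
    have hTA' : T ≤ A.map (MulAut.conj s).toMonoidHom := hTs.symm.le.trans (map_mono hTA)
    refine hfinish A _ hA (hconj s A hA) (fun h => hsA (hself s A hA h.symm)) hTA hTA' (hop A hTA hfull) (hop _ hTA' ?_)
    intro R hR hRA hTR
    have h1 : R.map (MulAut.conj s⁻¹).toMonoidHom ≤ T := by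
      refine hfull _ (hR.map _) ?_ ?_
      · rintro _ ⟨x, hx, rfl⟩
        obtain ⟨y, hy, rfl⟩ := hRA hx
        simpa [mul_assoc] using hy
      · rw [← mem_normalizer_iff_map_conj_eq.1 (inv_mem hsN)]
        exact map_mono hTR
    intro x hx
    have := map_mono (f := (MulAut.conj s).toMonoidHom) h1 ⟨_, ⟨x, hx, rfl⟩, rfl⟩
    rw [hTs] at this
    simpa [mul_assoc] using this
  rcases hside M₁ hM₁ hT₁ with h1 | h1
  · exact hmain M₁ M₂ hM₁ hM₂ hne hT₁ hT₂ h1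
  rcases hside M₂ hM₂ hT₂ with h2 | h2
  · exact hmain M₂ M₁ hM₂ hM₁ hne.symm hT₂ hT₁ h2
  exact absurd (h1.symm.trans h2) hne

end Cfsg.Agent.S3751
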