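import Cfsg.Statements.S3752
import Cfsg.Agent.Lib.Components.BenderMaximal
import Mathlib

set_option autoImplicit false
open Cfsg

namespace Cfsg.Agent.S3752

open Subgroup
open scoped Pointwise commutatorElement
open Cfsg.Agent Cfsg.Agent.BenderMax

/-- One half of the definition of a primitive pair. -/
def Prim {G : Type*} [Group G] (M N : Subgroup G) : Prop :=
  ∀ A : Subgroup G, A ≠ ⊥ → A ≤ M ⊓ N → M ≤ normalizer (A : Set G) → N ⊓ normalizer (A : Set G) = M ⊓ N

theorem no_common {G : Type*} [Group G] {M N A : Subgroup G} (hP : Prim M N) (hQ : Prim N M) (hne : M ≠ N)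
    (hA : A ≠ ⊥) (hAM : A ≤ M) (hAN : A ≤ N) (hnM : M ≤ normalizer (A : Set G))
    (hnN : N ≤ normalizer (A : Set G)) : False := by
  have h1 := hP A hA (le_inf hAM hAN) hnM
  have h2 := hQ A hA (le_inf hAN hAM) hnN
  rw [inf_eq_left.2 hnN] at h1
  rw [inf_eq_left.2 hnM] at h2
  exact hne (le_antisymm (h2 ▸ inf_le_left) (h1 ▸ inf_le_left))

/-- With two primes in `F(M)`, each `O_r(M)` lies in `O_r(N)`. -/
theorem pCore_le {G : Type*} [Group G] [Finite G] {M N : Subgroup G} (hP : Prim M N)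
    (hNC : centralizer (fittingSubgroup ↥N : Set ↥N) ≤ fittingSubgroup ↥N)
    (h1 : (fittingSubgroup ↥M).map M.subtype ≤ N) (h2 : (fittingSubgroup ↥N).map N.subtype ≤ M)
    {q r : ℕ} [hq : Fact q.Prime] [hr : Fact r.Prime] (hqr : r ≠ q) (hne : pCore q ↥M ≠ ⊥) :
    (pCore r ↥M).map M.subtype ≤ (pCore r ↥N).map N.subtype := by
  haveI : ∀ s, (pCore s ↥M).Normal := fun s => FittingCores.pCore_normal s
  haveI : ∀ s, (pCore s ↥N).Normal := fun s => FittingCores.pCore_normal s
  set H := (pCore q ↥M).map M.subtype with hHdef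
  set J := (pCore r ↥M).map M.subtype with hJdef
  have hHN : H ≤ N := (map_mono (FittingCores.pCore_le_fitting hq.out)).trans h1
  have hJN : J ≤ N := (map_mono (FittingCores.pCore_le_fitting hr.out)).trans h1
  have hHp : IsPGroup q H := (FittingCores.pCore_isPGroup q).map _
  have hJp : IsPGroup r J := (FittingCores.pCore_isPGroup r).map _
  have hcomm : ∀ {u : ℕ} [Fact u.Prime] {T : Subgroup G}, IsPGroup u T → M ≤ normalizer (T : Set G) → T ≤ N →
      ∀ s : ℕ, s.Prime → s ≠ u → ⁅T.subgroupOf N, pCore s ↥N⁆ = ⊥ := by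
    intro u _ T hT hMT hTN s hs hsu
    haveI := Fact.mk hs
    have h3 : pCore s ↥N ≤ normalizer (T.subgroupOf N : Set ↥N) := by
      intro x hx
      refine mem_normalizer_fintype fun y hy => ?_
      exact (mem_normalizer_iff.1 (hMT (h2 ⟨x, FittingCores.pCore_le_fitting hs hx, rfl⟩)) (y : G)).1 hy
    rw [eq_bot_iff]
    refine (Components.commutator_le_inf_of_normalizer h3 le_normalizer_of_normal).trans (le_of_eq ?_)
    exact disjoint_iff.1 (IsPGroup.disjoint_of_ne u s (Ne.symm hsu) _ _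
      (hT.comap_of_injective _ N.subtype_injective) (FittingCores.pCore_isPGroup s))
  have hnorm : N ⊓ normalizer (H : Set G) = M ⊓ N := hP H
    (fun h => hne ((map_eq_bot_iff_of_injective _ M.subtype_injective).1 h))
    (le_inf (map_subtype_le _) hHN) (le_normalizer_map _)
  have hJMn : M ≤ normalizer (J : Set G) := le_normalizer_map _
  have hres := core hNC hqr (H := H.subgroupOf N) (J := J.subgroupOf N)
    (hHp.comap_of_injective _ N.subtype_injective) (hJp.comap_of_injective _ N.subtype_injective)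
    (fun s hs => hcomm hHp (le_normalizer_map _) hHN s s.2 hs)
    (hcomm hJp (le_normalizer_map _) hJN q hq.out (Ne.symm hqr))
    (fun x hx => by
      have hxM : (x : G) ∈ M := by
        refine (hnorm.le ⟨x.2, ?_⟩ : (x : G) ∈ M ⊓ N).1
        refine centralizer_le_normalizer _ (mem_centralizer_iff.2 fun y hy => ?_)
        exact congrArg Subtype.val (mem_centralizer_iff.1 hx ⟨y, hHN hy⟩ hy)
      exact mem_normalizer_fintype fun y hy => (mem_normalizer_iff.1 (hJMn hxM) (y : G)).1 hy)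
  intro x hx
  exact ⟨⟨x, hJN hx⟩, hres hx, rfl⟩

/-- Bender's Theorem on primitive pairs. Two distinct subgroups M₁, M₂ of G form a primitive pair when, for {i, j} = {1, 2}, every non-trivial normal subgroup A of M_i contained in M₁ ∩ M₂ satisfies N_{M_j}(A) = M₁ ∩ M₂; the pair has characteristic p when moreover C_{M_i}(O_p(M_i)) ≤ O_p(M_i) for both i and O_p(M₁)O_p(M₂) ≤ M₁ ∩ M₂. If (M₁, M₂) is a primitive pair of the finite group G with F*(M₁) ≤ M₂ and F*(M₂) ≤ M₁, then for some prime p the pair has characteristic p. -/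
theorem result {G : Type*} [Group G] [Finite G] (M₁ M₂ : Subgroup G) (hne : M₁ ≠ M₂) (hP : ∀ A : Subgroup G, A ≠ ⊥ → A ≤ M₁ ⊓ M₂ → (M₁ ≤ Subgroup.normalizer (A : Set G) → M₂ ⊓ Subgroup.normalizer (A : Set G) = M₁ ⊓ M₂) ∧ (M₂ ≤ Subgroup.normalizer (A : Set G) → M₁ ⊓ Subgroup.normalizer (A : Set G) = M₁ ⊓ M₂)) (h₁ : (Cfsg.generalizedFittingSubgroup ↥M₁).map M₁.subtype ≤ M₂) (h₂ : (Cfsg.generalizedFittingSubgroup ↥M₂).map M₂.subtype ≤ M₁) : ∃ p : ℕ, p.Prime ∧ Subgroup.centralizer (Cfsg.pCore p ↥M₁ : Set ↥M₁) ≤ Cfsg.pCore p ↥M₁ ∧ Subgroup.centralizer (Cfsg.pCore p ↥M₂ : Set ↥M₂) ≤ Cfsg.pCore p ↥M₂ ∧ (Cfsg.pCore p ↥M₁).map M₁.subtype ⊔ (Cfsg.pCore p ↥M₂).map M₂.subtype ≤ M₁ ⊓ M₂ := by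
  revert hP
  intro hP
  have hM : Prim M₁ M₂ := fun A h1 h2 h3 => (hP A h1 h2).1 h3
  have hN : Prim M₂ M₁ := fun A h1 h2 h3 => by
    rw [inf_comm M₂ M₁] at h2 ⊢
    exact (hP A h1 h2).2 h3
  clear hP
  rename' M₁ => M, M₂ => N, hne => hMN, h₁ => h1, h₂ => h2
  classical
  -- no components
  have hlayEq : (layer ↥M).map M.subtype = (layer ↥N).map N.subtype := by
    refine le_antisymm ?_ ?_
    · rw [Subgroup.map_le_iff_le_comap, Components.layer_le_iff]
      intro K hK
      obtain ⟨L, hL, hLK⟩ := BenderMax.component_eq h2 h1 hK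
      rw [← Subgroup.map_le_iff_le_comap, ← hLK]
      exact Subgroup.map_mono (Components.component_le_layer hL)
    · rw [Subgroup.map_le_iff_le_comap, Components.layer_le_iff]
      intro K hK
      obtain ⟨L, hL, hLK⟩ := BenderMax.component_eq h1 h2 hK
      rw [← Subgroup.map_le_iff_le_comap, ← hLK]
      exact Subgroup.map_mono (Components.component_le_layer hL)
  haveI := Components.layer_normal (G := ↥M)
  haveI := Components.layer_normal (G := ↥N)
  have hlay : layer ↥M = ⊥ := by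
    by_contra hne
    have hne' : (layer ↥M).map M.subtype ≠ ⊥ := fun h =>
      hne ((Subgroup.map_eq_bot_iff_of_injective _ M.subtype_injective).1 h)
    exact no_common hM hN hMN hne' (Subgroup.map_subtype_le _) (hlayEq ▸ Subgroup.map_subtype_le _)
      (BenderMax.le_normalizer_map _) (hlayEq ▸ BenderMax.le_normalizer_map _)
  have hlay' : layer ↥N = ⊥ := by
    rw [hlay, Subgroup.map_bot] at hlayEq
    exact (Subgroup.map_eq_bot_iff_of_injective _ N.subtype_injective).1 hlayEq.symm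
  have hFM : generalizedFittingSubgroup ↥M = fittingSubgroup ↥M := by
    rw [generalizedFittingSubgroup, hlay, bot_sup_eq]
  have hFN : generalizedFittingSubgroup ↥N = fittingSubgroup ↥N := by
    rw [generalizedFittingSubgroup, hlay', bot_sup_eq]
  rw [hFM] at h1
  rw [hFN] at h2
  have hCM : Subgroup.centralizer (fittingSubgroup ↥M : Set ↥M) ≤ fittingSubgroup ↥M := by
    rw [← hFM]; exact Components.centralizer_generalizedFitting_le
  have hCN : Subgroup.centralizer (fittingSubgroup ↥N : Set ↥N) ≤ fittingSubgroup ↥N := by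
    rw [← hFN]; exact Components.centralizer_generalizedFitting_le
  -- the Fitting subgroups are nontrivial
  have hzero : ∀ {P : Subgroup G},
      Subgroup.centralizer (fittingSubgroup ↥P : Set ↥P) ≤ fittingSubgroup ↥P → fittingSubgroup ↥P = ⊥ → P = ⊥ := by
    intro P hC h
    rw [h] at hC
    rw [eq_bot_iff]
    intro x hx
    have := hC (show (⟨x, hx⟩ : P) ∈ Subgroup.centralizer ((⊥ : Subgroup P) : Set P) from
      Subgroup.mem_centralizer_iff.2 fun y hy => by
        rw [Subgroup.mem_bot.1 hy, one_mul, mul_one])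
    exact congrArg Subtype.val (Subgroup.mem_bot.1 this)
  have hne : ∀ {P Q : Subgroup G}, P ≠ Q →
      Subgroup.centralizer (fittingSubgroup ↥P : Set ↥P) ≤ fittingSubgroup ↥P →
      Subgroup.centralizer (fittingSubgroup ↥Q : Set ↥Q) ≤ fittingSubgroup ↥Q →
      (fittingSubgroup ↥Q).map Q.subtype ≤ P → fittingSubgroup ↥P ≠ ⊥ := by
    intro P Q hPQ hC hC' hle h
    have hPb := hzero hC h
    refine hPQ (hPb.trans (hzero hC' ?_).symm)
    rw [hPb, le_bot_iff] at hle
    exact (Subgroup.map_eq_bot_iff_of_injective _ Q.subtype_injective).1 hle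
  have hex : ∀ {P : Subgroup G}, fittingSubgroup ↥P ≠ ⊥ → ∃ p : ℕ, p.Prime ∧ pCore p ↥P ≠ ⊥ := by
    intro P h
    by_contra hno
    refine h ?_
    rw [FittingCores.fitting_eq_iSup_pCore, iSup_eq_bot]
    exact fun s => by_contra fun hs => hno ⟨s, s.2, hs⟩
  have hsingle : ∀ {P Q : Subgroup G}, Prim P Q → Prim Q P → P ≠ Q →
      Subgroup.centralizer (fittingSubgroup ↥P : Set ↥P) ≤ fittingSubgroup ↥P →
      Subgroup.centralizer (fittingSubgroup ↥Q : Set ↥Q) ≤ fittingSubgroup ↥Q →
      (fittingSubgroup ↥P).map P.subtype ≤ Q → (fittingSubgroup ↥Q).map Q.subtype ≤ P →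
      ∀ q : ℕ, q.Prime → pCore q ↥P ≠ ⊥ → IsPGroup q ↥(fittingSubgroup ↥P) := by
    intro P Q hP hQ hPQ hCP hCQ hPQ' hQP q hq hqne
    haveI := Fact.mk hq
    suffices hall : ∀ r : Nat.Primes, (r : ℕ) ≠ q → pCore (r : ℕ) ↥P = ⊥ by
      refine (FittingCores.pCore_isPGroup q).to_le ?_
      rw [FittingCores.fitting_eq_iSup_pCore]
      refine iSup_le fun s => ?_
      by_cases hs : (s : ℕ) = q
      · rw [hs]
      · rw [hall s hs]; exact bot_le
    intro r hr
    by_contra hrne
    haveI := Fact.mk r.2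
    have hle : ∀ {P Q : Subgroup G}, Prim P Q →
        Subgroup.centralizer (fittingSubgroup ↥Q : Set ↥Q) ≤ fittingSubgroup ↥Q →
        (fittingSubgroup ↥P).map P.subtype ≤ Q → (fittingSubgroup ↥Q).map Q.subtype ≤ P →
        pCore q ↥P ≠ ⊥ → pCore (r : ℕ) ↥P ≠ ⊥ →
        (fittingSubgroup ↥P).map P.subtype ≤ (fittingSubgroup ↥Q).map Q.subtype := by
      intro P Q hP hCQ hPQ' hQP hqne hrne
      rw [FittingCores.fitting_eq_iSup_pCore (G := ↥P), Subgroup.map_iSup]
      refine iSup_le fun s => ?_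
      haveI := Fact.mk s.2
      by_cases hs : (s : ℕ) = q
      · exact (pCore_le hP hCQ hPQ' hQP (q := r) (r := s) (hs ▸ Ne.symm hr) hrne).trans
          (Subgroup.map_mono (FittingCores.pCore_le_fitting s.2))
      · exact (pCore_le hP hCQ hPQ' hQP (q := q) (r := s) hs hqne).trans
          (Subgroup.map_mono (FittingCores.pCore_le_fitting s.2))
    have hne1 : ∀ (a b : ℕ) [Fact a.Prime] [Fact b.Prime], a ≠ b → pCore b ↥P ≠ ⊥ → pCore a ↥P ≠ ⊥ →
        pCore a ↥Q ≠ ⊥ := by
      intro a b _ _ hab hb ha h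
      have := pCore_le hP hCQ hPQ' hQP (q := b) (r := a) hab hb
      rw [h, Subgroup.map_bot, le_bot_iff, Subgroup.map_eq_bot_iff_of_injective _ P.subtype_injective] at this
      exact ha this
    have heq := le_antisymm (hle hP hCQ hPQ' hQP hqne hrne)
      (hle hQ hCP hQP hPQ' (hne1 q r (Ne.symm hr) hrne hqne) (hne1 r q hr hqne hrne))
    haveI := FittingCores.fitting_normal (G := ↥P)
    haveI := FittingCores.fitting_normal (G := ↥Q)
    have hne' : (fittingSubgroup ↥P).map P.subtype ≠ ⊥ := fun h =>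
      hne hPQ hCP hCQ hQP ((Subgroup.map_eq_bot_iff_of_injective _ P.subtype_injective).1 h)
    exact no_common hP hQ hPQ hne' (Subgroup.map_subtype_le _) (heq ▸ Subgroup.map_subtype_le _)
      (BenderMax.le_normalizer_map _) (heq ▸ BenderMax.le_normalizer_map _)
  obtain ⟨p, hp, hpne⟩ := hex (hne hMN hCM hCN h2)
  obtain ⟨r, hr, hrne⟩ := hex (hne hMN.symm hCN hCM h1)
  have hMp := hsingle hM hN hMN hCM hCN h1 h2 p hp hpne
  have hNr := hsingle hN hM hMN.symm hCN hCM h2 h1 r hr hrne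
  suffices hrp : r = p by
    subst hrp
    haveI := Fact.mk hr
    haveI := FittingCores.fitting_normal (G := ↥M)
    haveI := FittingCores.fitting_normal (G := ↥N)
    have eM : pCore r ↥M = fittingSubgroup ↥M := le_antisymm (FittingCores.pCore_le_fitting hr)
      (FittingCores.le_pCore inferInstance hMp)
    have eN : pCore r ↥N = fittingSubgroup ↥N := le_antisymm (FittingCores.pCore_le_fitting hr)
      (FittingCores.le_pCore inferInstance hNr)
    exact ⟨r, hr, eM ▸ hCM, eN ▸ hCN, sup_le (le_inf (Subgroup.map_subtype_le _) (eM ▸ h1))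
      (le_inf (eN ▸ h2) (Subgroup.map_subtype_le _))⟩
  by_contra hrp
  haveI := Fact.mk hp
  haveI := Fact.mk hr
  haveI := FittingCores.fitting_normal (G := ↥M)
  haveI := FittingCores.fitting_normal (G := ↥N)
  set X := (fittingSubgroup ↥M).map M.subtype with hX
  set Y := (fittingSubgroup ↥N).map N.subtype with hY
  have hXY : ⁅X, Y⁆ = ⊥ := by
    rw [eq_bot_iff]
    refine (Components.commutator_le_inf_of_normalizer (h2.trans (BenderMax.le_normalizer_map _))
      (h1.trans (BenderMax.le_normalizer_map _))).trans (le_of_eq ?_)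
    exact disjoint_iff.1 (IsPGroup.disjoint_of_ne p r (Ne.symm hrp) _ _ (hMp.map _) (hNr.map _))
  have hle : X.subgroupOf N ≤ fittingSubgroup ↥N := by
    refine le_trans (fun x hx => Subgroup.mem_centralizer_iff.2 fun y hy => Subtype.ext ?_) hCN
    exact (BenderMax.commute_elems hXY hx ⟨y, hy, rfl⟩).eq.symm
  refine hne hMN hCM hCN h2 ((Subgroup.map_eq_bot_iff_of_injective _ M.subtype_injective).1 ?_)
  rw [eq_bot_iff]
  intro x hx
  have h3 : x ∈ X ⊓ Y := ⟨hx, ⟨⟨x, h1 hx⟩, hle hx, rfl⟩⟩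
  rwa [disjoint_iff.1 (IsPGroup.disjoint_of_ne p r (Ne.symm hrp) _ _ (hMp.map _) (hNr.map _))] at h3

end Cfsg.Agent.S3752
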