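import Cfsg.Statements.S3753
import Cfsg.Agent.Lib.OddOrder.PrimitivePuig
import Cfsg.Agent.Lib.PStable.SL2Prime

set_option autoImplicit false
open Cfsg

namespace Cfsg.Agent.S3753

open Cfsg.Agent

/-- Two distinct subgroups M₁, M₂ of G form a primitive pair when, for {i, j} = {1, 2}, every non-trivial normal subgroup A of M_i contained in M₁ ∩ M₂ satisfies N_{M_j}(A) = M₁ ∩ M₂; the pair has characteristic p when moreover C_{M_i}(O_p(M_i)) ≤ O_p(M_i) for both i and O_p(M₁)O_p(M₂) ≤ M₁ ∩ M₂. If the finite group G has a primitive pair (M₁, M₂) of characteristic p for some prime p, then M₁ or M₂ has non-abelian Sylow 2-subgroups. In particular no group of odd order has a primitive pair of characteristic p. -/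
theorem result {G : Type*} [Group G] [Finite G] {p : ℕ} [Fact p.Prime] (M₁ M₂ : Subgroup G) (hne : M₁ ≠ M₂) (hP : ∀ A : Subgroup G, A ≠ ⊥ → A ≤ M₁ ⊓ M₂ → (M₁ ≤ Subgroup.normalizer (A : Set G) → M₂ ⊓ Subgroup.normalizer (A : Set G) = M₁ ⊓ M₂) ∧ (M₂ ≤ Subgroup.normalizer (A : Set G) → M₁ ⊓ Subgroup.normalizer (A : Set G) = M₁ ⊓ M₂)) (hc₁ : Subgroup.centralizer (Cfsg.pCore p ↥M₁ : Set ↥M₁) ≤ Cfsg.pCore p ↥M₁) (hc₂ : Subgroup.centralizer (Cfsg.pCore p ↥M₂ : Set ↥M₂) ≤ Cfsg.pCore p ↥M₂) (hO : (Cfsg.pCore p ↥M₁).map M₁.subtype ⊔ (Cfsg.pCore p ↥M₂).map M₂.subtype ≤ M₁ ⊓ M₂) : (∃ S : Sylow 2 ↥M₁, ¬ IsMulCommutative (S : Subgroup ↥M₁)) ∨ (∃ S : Sylow 2 ↥M₂, ¬ IsMulCommutative (S : Subgroup ↥M₂)) := by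
  by_contra hcon
  rw [not_or] at hcon
  simp only [not_exists, not_not] at hcon
  obtain ⟨h2₁, h2₂⟩ := hcon
  have hQ₂ : OddOrder.PrimPuig.core p M₂ ≤ M₁ := (le_sup_right.trans hO).trans inf_le_left
  have hQ₁ : OddOrder.PrimPuig.core p M₁ ≤ M₂ := (le_sup_left.trans hO).trans inf_le_right
  have hb₁ : M₁ ≠ ⊥ := by
    intro h
    by_cases h2 : M₂ = ⊥
    · exact hne (h.trans h2.symm)
    · exact OddOrder.PrimPuig.core_ne_bot (p := p) M₂ h2 hc₂ (le_bot_iff.1 (hQ₂.trans h.le))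
  have hb₂ : M₂ ≠ ⊥ := fun h =>
    OddOrder.PrimPuig.core_ne_bot (p := p) M₁ hb₁ hc₁ (le_bot_iff.1 (hQ₁.trans h.le))
  by_cases hp : p = 2
  · subst hp
    have key : ∀ M : Subgroup G,
        Subgroup.centralizer (Cfsg.pCore 2 ↥M : Set ↥M) ≤ Cfsg.pCore 2 ↥M →
        (∀ S : Sylow 2 ↥M, IsMulCommutative (S : Subgroup ↥M)) →
        ∀ R : Subgroup G, R ≤ M → IsPGroup 2 R → R ≤ OddOrder.PrimPuig.core 2 M := by
      intro M hC hab R hRM hR
      obtain ⟨S, hS⟩ := IsPGroup.exists_le_sylow (p := 2)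
        (hR.comap_of_injective _ M.subtype_injective : IsPGroup 2 (R.subgroupOf M))
      have := hab S
      intro x hx
      refine ⟨⟨x, hRM hx⟩, hC (Subgroup.mem_centralizer_iff.2 fun q hq => ?_), rfl⟩
      exact congrArg Subtype.val (this.is_comm.comm
        (⟨q, PBasic.pCore_le_sylow S hq⟩ : (S : Subgroup ↥M))
        ⟨⟨x, hRM hx⟩, hS (Subgroup.mem_subgroupOf.2 hx)⟩)
    have e : OddOrder.PrimPuig.core 2 M₁ = OddOrder.PrimPuig.core 2 M₂ :=
      le_antisymm (key M₂ hc₂ h2₂ _ hQ₁ (OddOrder.PrimPuig.core_isPGroup M₁))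
        (key M₁ hc₁ h2₁ _ hQ₂ (OddOrder.PrimPuig.core_isPGroup M₂))
    set U := OddOrder.PrimPuig.core 2 M₁ with hU
    have hUle : U ≤ M₁ ⊓ M₂ := le_inf (OddOrder.PrimPuig.core_le 2 M₁) hQ₁
    have hUne : U ≠ ⊥ := OddOrder.PrimPuig.core_ne_bot M₁ hb₁ hc₁
    have hUM₁ : M₁ ≤ Subgroup.normalizer (U : Set G) := OddOrder.PrimPuig.core_normalized M₁
    have hUM₂ : M₂ ≤ Subgroup.normalizer (U : Set G) := by
      rw [e]; exact OddOrder.PrimPuig.core_normalized M₂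
    obtain ⟨g1, g2⟩ := hP U hUne hUle
    have g1' := g1 hUM₁
    have g2' := g2 hUM₂
    rw [inf_eq_left.2 hUM₂] at g1'
    rw [inf_eq_left.2 hUM₁] at g2'
    exact hne (le_antisymm (g2'.le.trans inf_le_right) (g1'.le.trans inf_le_left))
  · have hq : ∀ M : Subgroup G, (∀ S : Sylow 2 ↥M, IsMulCommutative (S : Subgroup ↥M)) →
        ZJ.IsQuad p ↥M := by
      intro M hab
      refine PStable.isQuad_of_not_involves_sl2 hp fun h => ?_
      obtain ⟨K, ψ, hψ⟩ := PStable.exists_surjective_of_involves h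
      obtain ⟨T⟩ : Nonempty (Sylow 2 ↥M) := inferInstance
      exact PStable.sylow_two_noncomm hp ψ hψ T (hab T)
    exact OddOrder.PrimPuig.false_of_isQuad hne (hq M₁ h2₁) (hq M₂ h2₂) hc₁ hc₂ hb₁ hb₂ hQ₁ hQ₂
      (fun A a b c => (hP A a b).1 c) (fun A a b c => (hP A a b).2 c)

end Cfsg.Agent.S3753
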