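import Cfsg.Statements.S3754
import Cfsg.Agent.Lib.Solvable.HHThmB
import Cfsg.Agent.Lib.Solvable.Coprime
import Cfsg.Agent.Lib.Transfer.Basic
import Cfsg.Agent.Lib.Transfer.PGroup
import Cfsg.Agent.Lib.Isolated.HSubgroup

set_option autoImplicit false
open Cfsg

namespace Cfsg.Agent.S3754

open scoped commutatorElement

/-- The normal subgroup `X` absorbs the `p`-residual of any subgroup of `H ⊔ X`, `H` a `p`-group. -/
theorem residual_le {G : Type*} [Group G] [Finite G] {p : ℕ} [hp : Fact p.Prime]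
    {H X L : Subgroup G} (hH : IsPGroup p H) (hn : H ≤ Subgroup.normalizer (X : Set G))
    (hL : L ≤ H ⊔ X) : (Cfsg.pResidual p L).map L.subtype ≤ X := by
  have hLn : L ≤ Subgroup.normalizer (X : Set G) := hL.trans (sup_le hn Subgroup.le_normalizer)
  haveI : (X.subgroupOf L).Normal := Subgroup.normal_subgroupOf_of_le_normalizer hLn
  refine Subgroup.map_le_iff_le_comap.2 (PBasic.pResidual_le (N := X.subgroupOf L) ?_)
  intro g
  obtain ⟨l, rfl⟩ := QuotientGroup.mk'_surjective (X.subgroupOf L) g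
  have hl : (l : G) ∈ (↑(H ⊔ X) : Set G) := hL l.2
  rw [Subgroup.coe_mul_of_left_le_normalizer_right H X hn] at hl
  obtain ⟨a, ha, x, hx, hax⟩ := Set.mem_mul.1 hl
  obtain ⟨k, hk⟩ := hH ⟨a, ha⟩
  have hak : a ^ p ^ k = 1 := by simpa using congrArg Subtype.val hk
  have key : ∀ n : ℕ, ∃ y ∈ X, (a * x) ^ n = a ^ n * y := by
    intro n
    induction n with
    | zero => exact ⟨1, X.one_mem, by simp⟩
    | succ n ih =>
      obtain ⟨y, hy, he⟩ := ih
      refine ⟨a⁻¹ * y * a * x, X.mul_mem ?_ hx, by rw [pow_succ, he, pow_succ]; group⟩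
      have := (Subgroup.mem_normalizer_iff.1 (hn (H.inv_mem ha)) y).1 hy
      rwa [inv_inv] at this
  obtain ⟨y, hy, he⟩ := key (p ^ k)
  refine ⟨k, ?_⟩
  rw [← map_pow, QuotientGroup.mk'_apply, QuotientGroup.eq_one_iff, Subgroup.mem_subgroupOf,
    Subgroup.coe_pow, ← hax, he, hak, one_mul]
  exact hy

/-- A `p`-element commuting with a `p'`-element which it moves only inside the centralizer. -/
theorem eq_one_of_conj {G : Type*} [Group G] {p : ℕ} {e c y : G}
    (hc : (orderOf c).Coprime p) (he : e ^ p = 1) (hce : c * e = e * c) (h : y * e * y⁻¹ = c * e) :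
    c = 1 := by
  have h1 : (c * e) ^ p = 1 := by
    rw [← h, conj_pow, he, mul_one, mul_inv_cancel]
  rw [(show Commute c e from hce).mul_pow, he, mul_one] at h1
  exact orderOf_eq_one_iff.1 ((Nat.coprime_self _).1
    (hc.coprime_dvd_right (orderOf_dvd_of_pow_eq_one h1)))

/-- Structure of a coprime faithful action of an elementary abelian group: a hyperplane, an element
outside it, and a subgroup centralized by the hyperplane, minimal moved by the element. -/
theorem exists_pair {G : Type*} [Group G] [Finite G] {p : ℕ} [hp : Fact p.Prime] {A Q : Subgroup G}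
    (hA : IsPGroup p A) (hcomm : ∀ a ∈ A, ∀ b ∈ A, a * b = b * a) (hexp : ∀ a ∈ A, a ^ p = 1)
    (hQ : (Nat.card Q).Coprime p) (hn : A ≤ Subgroup.normalizer (Q : Set G))
    (hact : ∃ a ∈ A, a ∉ Subgroup.centralizer (Q : Set G)) :
    ∃ (B X : Subgroup G) (e : G), B ≤ A ∧ e ∈ A ∧ e ∉ B ∧ A = Subgroup.zpowers e ⊔ B ∧
      B.relIndex A = p ∧ X ≤ Q ∧ A ≤ Subgroup.normalizer (X : Set G) ∧
      (∀ b ∈ B, ∀ x ∈ X, b * x = x * b) ∧ (∃ x ∈ X, e * x ≠ x * e) ∧
      ∀ Y : Subgroup G, Y ≤ X → A ≤ Subgroup.normalizer (Y : Set G) →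
        (∃ x ∈ Y, e * x ≠ x * e) → Y = X := by
  classical
  obtain ⟨B, -, hB⟩ := Finite.exists_le_maximal (a := (⊥ : Subgroup G))
    (p := fun B : Subgroup G => B ≤ A ∧ ∃ a ∈ A, ∃ x ∈ Q, (∀ b ∈ B, b * x = x * b) ∧ a * x ≠ x * a)
    (by
      obtain ⟨a, ha, haQ⟩ := hact
      rw [Subgroup.mem_centralizer_iff] at haQ
      push Not at haQ
      obtain ⟨x, hx, hne⟩ := haQ
      exact ⟨bot_le, a, ha, x, hx, fun b hb => by simp [Subgroup.mem_bot.1 hb], hne.symm⟩)
  obtain ⟨⟨hBA, a₀, ha₀, x₀, hx₀, hBx₀, hne₀⟩, hmax⟩ := hB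
  set K := Q ⊓ Subgroup.centralizer (B : Set G) with hK
  have hAK : A ≤ Subgroup.normalizer (K : Set G) := by
    intro a ha
    rw [Subgroup.mem_normalizer_iff]
    intro x
    have hQa := Subgroup.mem_normalizer_iff.1 (hn ha) x
    simp only [hK, Subgroup.mem_inf, ← hQa, Subgroup.mem_centralizer_iff]
    refine and_congr_right fun _ => forall₂_congr fun b hb => ?_
    have hab : a * b = b * a := hcomm a ha b (hBA hb)
    constructor
    · intro h
      calc b * (a * x * a⁻¹) = (b * a) * x * a⁻¹ := by group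
        _ = a * (b * x) * a⁻¹ := by rw [← hab]; group
        _ = a * (x * b) * a⁻¹ := by rw [h]
        _ = a * x * (b * a⁻¹) := by group
        _ = a * x * (a⁻¹ * b) := by rw [show b * a⁻¹ = a⁻¹ * b from (((show Commute a b from hab).inv_left).eq).symm]
        _ = a * x * a⁻¹ * b := by group
    · intro h
      have h2 : a * (b * x) * a⁻¹ = a * (x * b) * a⁻¹ := by
        calc a * (b * x) * a⁻¹ = (a * b) * x * a⁻¹ := by group
          _ = b * (a * x * a⁻¹) := by rw [hab]; group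
          _ = a * x * a⁻¹ * b := h
          _ = a * x * (a⁻¹ * b) := by group
          _ = a * x * (b * a⁻¹) := by rw [((show Commute a b from hab).inv_left).eq]
          _ = a * (x * b) * a⁻¹ := by group
      exact mul_left_cancel (mul_right_cancel h2)
  -- a complement
  obtain ⟨E, -, hE⟩ := Finite.exists_le_maximal (a := (⊥ : Subgroup G))
    (p := fun E : Subgroup G => E ≤ A ∧ ∀ g ∈ E, g ∈ B → g = 1)
    ⟨bot_le, fun g hg _ => Subgroup.mem_bot.1 hg⟩
  obtain ⟨⟨hEA, hEB⟩, hEmax⟩ := hE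
  have hBn : A ≤ Subgroup.normalizer (B : Set G) := fun a ha =>
    Subgroup.centralizer_le_normalizer (B : Set G)
      (Subgroup.mem_centralizer_iff.2 fun b hb => hcomm b (hBA hb) a ha)
  have hsupA : A = E ⊔ B := by
    refine le_antisymm (fun g hg => ?_) (sup_le hEA hBA)
    by_contra hgn
    have hgE : g ∈ E := by
      refine hEmax (y := Subgroup.zpowers g ⊔ E) ⟨sup_le (Subgroup.zpowers_le.2 hg) hEA, ?_⟩
        le_sup_right (Subgroup.mem_sup_left (Subgroup.mem_zpowers g))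
      intro z hz hzB
      have hEn : Subgroup.zpowers g ≤ Subgroup.normalizer (E : Set G) :=
        (Subgroup.zpowers_le.2 (Subgroup.mem_centralizer_iff.2 fun b hb => hcomm b (hEA hb) g hg)).trans
          (Subgroup.centralizer_le_normalizer (E : Set G))
      have hz' : z ∈ (↑(Subgroup.zpowers g ⊔ E) : Set G) := hz
      rw [Subgroup.coe_mul_of_left_le_normalizer_right _ _ hEn] at hz'
      obtain ⟨_, ⟨i, rfl⟩, w, hw, rfl⟩ := Set.mem_mul.1 hz'
      simp only at hzB ⊢
      by_cases hi : (p : ℤ) ∣ i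
      · obtain ⟨j, rfl⟩ := hi
        rw [zpow_mul, zpow_natCast, hexp g hg, one_zpow, one_mul] at hzB ⊢
        exact hEB w hw hzB
      · exfalso
        apply hgn
        have hgi : g ^ i ∈ E ⊔ B := by
          have := (E ⊔ B).mul_mem (Subgroup.mem_sup_right hzB) (Subgroup.mem_sup_left (E.inv_mem hw))
          rwa [mul_assoc, mul_inv_cancel, mul_one] at this
        obtain ⟨u, v, huv⟩ := ((Nat.prime_iff_prime_int.1 hp.out).coprime_iff_not_dvd.2 hi)
        have : g = (g ^ i) ^ v := by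
          rw [← zpow_mul, mul_comm i v,
            show v * i = 1 - u * (p : ℤ) from by linarith, zpow_sub, zpow_one, mul_comm u, zpow_mul,
            zpow_natCast, hexp g hg, one_zpow, inv_one, mul_one]
        rw [this]
        exact (E ⊔ B).zpow_mem hgi v
    exact hgn (Subgroup.mem_sup_left hgE)
  have hx₀K : x₀ ∈ K := Subgroup.mem_inf.2 ⟨hx₀, Subgroup.mem_centralizer_iff.2 hBx₀⟩
  haveI hEcomm : IsMulCommutative E := ⟨⟨fun a b => Subtype.ext (hcomm a (hEA a.2) b (hEA b.2))⟩⟩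
  have hEK : E ≤ Subgroup.normalizer (K : Set G) := hEA.trans hAK
  have hKc : (Nat.card K).Coprime p :=
    hQ.coprime_dvd_left (Subgroup.card_dvd_of_le inf_le_left)
  obtain ⟨m, hm⟩ := IsPGroup.iff_card.1 (hA.to_le hEA)
  have hEcyc : IsCyclic E := by
    by_contra hnc
    have hgen := CoprimeAct.generated_by_centralizers (K := K) (A := E) hnc hEK
      (hm ▸ (Nat.Coprime.pow_left m hKc.symm))
    have hle : K ≤ Subgroup.centralizer (A : Set G) := by
      rw [← hgen]
      refine iSup₂_le fun g hg x hx => Subgroup.mem_centralizer_iff.2 fun a ha => ?_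
      obtain ⟨hxK, hxg⟩ := Subgroup.mem_inf.1 hx
      by_contra hne
      have hgB : g ∈ B := by
        refine hmax (y := Subgroup.zpowers g ⊔ B)
          ⟨sup_le (Subgroup.zpowers_le.2 (hEA hg.1)) hBA, a, ha, x, (Subgroup.mem_inf.1 hxK).1, ?_, hne⟩
          le_sup_right (Subgroup.mem_sup_left (Subgroup.mem_zpowers g))
        have : Subgroup.zpowers g ⊔ B ≤ Subgroup.centralizer ({x} : Set G) := by
          refine sup_le (Subgroup.zpowers_le.2 ?_) fun b hb => ?_
          · rw [Subgroup.mem_centralizer_singleton_iff] at hxg ⊢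
            exact hxg.symm
          · rw [Subgroup.mem_centralizer_singleton_iff]
            exact (Subgroup.mem_centralizer_iff.1 (Subgroup.mem_inf.1 hxK).2 b hb)
        intro b hb
        exact Subgroup.mem_centralizer_singleton_iff.1 (this hb)
      exact hg.2 (hEB g hg.1 hgB)
    exact hne₀ (Subgroup.mem_centralizer_iff.1 (hle hx₀K) a₀ ha₀)
  obtain ⟨e, hegen⟩ := (Subgroup.isCyclic_iff_exists_zpowers_eq_top E).1 hEcyc
  have heE : e ∈ E := hegen ▸ Subgroup.mem_zpowers e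
  have he1 : e ≠ 1 := by
    rintro rfl
    rw [Subgroup.zpowers_one_eq_bot] at hegen
    rw [← hegen, bot_sup_eq] at hsupA
    exact hne₀ (hBx₀ a₀ (hsupA ▸ ha₀))
  have heB : e ∉ B := fun h => he1 (hEB e heE h)
  have hBE : B.relIndex E = p := by
    have hbot : B ⊓ E = ⊥ := by
      rw [Subgroup.eq_bot_iff_forall]
      exact fun g hg => hEB g (Subgroup.mem_inf.1 hg).2 (Subgroup.mem_inf.1 hg).1
    rw [← Subgroup.inf_relIndex_right, hbot, Subgroup.relIndex_bot_left, ← hegen, Nat.card_zpowers]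
    exact orderOf_eq_prime (hexp e (hEA heE)) he1
  have hind : B.relIndex A = p := by
    haveI : (B.subgroupOf A).Normal := Subgroup.normal_subgroupOf_of_le_normalizer hBn
    rw [← hBE]
    calc B.relIndex A = (B.subgroupOf A).index := rfl
      _ = (B.subgroupOf A).relIndex (E.subgroupOf A ⊔ B.subgroupOf A) := by
            rw [← Subgroup.subgroupOf_sup hEA hBA, ← hsupA, Subgroup.subgroupOf_self, Subgroup.relIndex_top_right]
      _ = (B.subgroupOf A).relIndex (E.subgroupOf A) := Subgroup.relIndex_sup_right _ _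
      _ = B.relIndex E := by rw [Subgroup.relIndex_subgroupOf hEA]
  have hx₀e : e * x₀ ≠ x₀ * e := fun h => by
    have : A ≤ Subgroup.centralizer ({x₀} : Set G) := by
      rw [hsupA, ← hegen]
      refine sup_le (Subgroup.zpowers_le.2 (Subgroup.mem_centralizer_singleton_iff.2 h)) fun b hb => ?_
      exact Subgroup.mem_centralizer_singleton_iff.2 (hBx₀ b hb)
    exact hne₀ (Subgroup.mem_centralizer_singleton_iff.1 (this ha₀))
  obtain ⟨X, hX⟩ := (Set.toFinite {X : Subgroup G | X ≤ K ∧ A ≤ Subgroup.normalizer (X : Set G) ∧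
      ∃ x ∈ X, e * x ≠ x * e}).exists_minimal ⟨K, le_rfl, hAK, x₀, hx₀K, hx₀e⟩
  obtain ⟨⟨hXK, hXn, hXe⟩, hmin⟩ := hX
  refine ⟨B, X, e, hBA, hEA heE, heB, hegen ▸ hsupA, hind, hXK.trans inf_le_left, hXn, ?_, hXe, ?_⟩
  · intro b hb x hx
    exact Subgroup.mem_centralizer_iff.1 (Subgroup.mem_inf.1 (hXK hx)).2 b hb
  · intro Y hY hYn hYe
    exact le_antisymm hY (hmin ⟨hY.trans hXK, hYn, hYe⟩ hY)

/-- Let M be a finite p-soluble group and A a p-subgroup of M with Φ(A) ≤ O_p(M) but A ≰ O_p(M). Then there is x ∈ O_{p,p'}(M) such that L = ⟨A, xAx⁻¹⟩ satisfies: x ∈ O^p(L) and O^p(L) ≤ O_{p,p'}(M); [O^p(L), A] = O^p(L); A ∩ O_p(L) has index p in A; and [A ∩ O_p(L), L] ≤ O_p(M). Here O^p(L) is the subgroup generated by the p'-elements of L and O_{p,p'}(M) the preimage of O_{p'}(M/O_p(M)). -/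
theorem result {M : Type*} [Group M] [Finite M] {p : ℕ} [Fact p.Prime] (hM : Cfsg.IsPSolvable p M) (A : Subgroup M) (hA : IsPGroup p A) (hΦ : (frattini ↥A).map A.subtype ≤ Cfsg.pCore p M) (hnot : ¬ A ≤ Cfsg.pCore p M) : ∃ x ∈ (Cfsg.pPrimeCore p (M ⧸ Cfsg.pCore p M)).comap (QuotientGroup.mk' (Cfsg.pCore p M)), x ∈ (Cfsg.pResidual p ↥(A ⊔ A.map (MulAut.conj x).toMonoidHom)).map (A ⊔ A.map (MulAut.conj x).toMonoidHom).subtype ∧ (Cfsg.pResidual p ↥(A ⊔ A.map (MulAut.conj x).toMonoidHom)).map (A ⊔ A.map (MulAut.conj x).toMonoidHom).subtype ≤ (Cfsg.pPrimeCore p (M ⧸ Cfsg.pCore p M)).comap (QuotientGroup.mk' (Cfsg.pCore p M)) ∧ ⁅(Cfsg.pResidual p ↥(A ⊔ A.map (MulAut.conj x).toMonoidHom)).map (A ⊔ A.map (MulAut.conj x).toMonoidHom).subtype, A⁆ = (Cfsg.pResidual p ↥(A ⊔ A.map (MulAut.conj x).toMonoidHom)).map (A ⊔ A.map (MulAut.conj x).toMonoidHom).subtype ∧ (A ⊓ (Cfsg.pCore p ↥(A ⊔ A.map (MulAut.conj x).toMonoidHom)).map (A ⊔ A.map (MulAut.conj x).toMonoidHom).subtype).relIndex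 A = p ∧ ⁅A ⊓ (Cfsg.pCore p ↥(A ⊔ A.map (MulAut.conj x).toMonoidHom)).map (A ⊔ A.map (MulAut.conj x).toMonoidHom).subtype, A ⊔ A.map (MulAut.conj x).toMonoidHom⁆ ≤ Cfsg.pCore p M := by
  classical
  have hp : Fact p.Prime := inferInstance
  set N := Cfsg.pCore p M with hN
  set π := QuotientGroup.mk' N with hπ
  have hπs : Function.Surjective π := QuotientGroup.mk'_surjective N
  set Q := Cfsg.pPrimeCore p (M ⧸ N) with hQ
  have hQc : (Nat.card Q).Coprime p := PBasic.pPrimeCore_coprime p (M ⧸ N)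
  haveI hQn : Q.Normal := Subgroup.normal_of_characteristic (h := PBasic.pPrimeCore_characteristic p (M ⧸ N))
  have hCQ : Subgroup.centralizer (Q : Set (M ⧸ N)) ≤ Q :=
    HHThmB.centralizer_pPrimeCore_le (PSolvable.quotient N hM) (PBasic.pCore_quotient_pCore p M)
  set Ab := A.map π with hAb
  have hAbp : IsPGroup p Ab := hA.map π
  have hfr : ∀ a : A, a ∈ frattini A → π (a : M) = 1 := fun a ha =>
    (QuotientGroup.eq_one_iff _).2 (hΦ ⟨a, ha, rfl⟩)
  have hcomm : ∀ a ∈ Ab, ∀ b ∈ Ab, a * b = b * a := by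
    rintro _ ⟨a, ha, rfl⟩ _ ⟨b, hb, rfl⟩
    have h := hfr _ (HSub.commutator_le_frattini' hA
      (Subgroup.commutator_mem_commutator (Subgroup.mem_top (⟨a, ha⟩ : A)) (Subgroup.mem_top (⟨b, hb⟩ : A))))
    rw [commutatorElement_def] at h
    simp only [Subgroup.coe_mul, Subgroup.coe_inv, map_mul, map_inv] at h
    calc π a * π b = (π a * π b * (π a)⁻¹ * (π b)⁻¹) * (π b * π a) := by group
      _ = π b * π a := by rw [h, one_mul]
  have hexp : ∀ a ∈ Ab, a ^ p = 1 := by
    rintro _ ⟨a, ha, rfl⟩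
    rw [← map_pow]
    exact hfr _ (PGroupBasics.pow_mem_frattini hA ⟨a, ha⟩)
  have hact : ∃ a ∈ Ab, a ∉ Subgroup.centralizer (Q : Set (M ⧸ N)) := by
    by_contra hcon
    push Not at hcon
    refine hnot fun a ha => ?_
    have haQ : π a ∈ Q := hCQ (hcon _ ⟨a, ha, rfl⟩)
    exact (QuotientGroup.eq_one_iff a).1
      (PBasic.eq_one_of_isPGroup_of_coprime hAbp ⟨a, ha, rfl⟩ (PBasic.coprime_orderOf_of_mem hQc haQ))
  obtain ⟨B, X, e, hBA, heA, heB, hAeq, hBind, hXQ, hXn, hBX, ⟨y₀, hy₀, hey₀⟩, hXmin⟩ :=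
    exists_pair hAbp hcomm hexp hQc (fun a _ => by rw [Subgroup.normalizer_eq_top]; trivial) hact
  have hXc : ∀ x ∈ X, (orderOf x).Coprime p := fun x hx =>
    PBasic.coprime_orderOf_of_mem hQc (hXQ hx)
  -- lifting
  have hlift : ∀ l : M, π l ∈ X → ∃ v ∈ Subgroup.zpowers l, (orderOf v).Coprime p ∧ π v = π l := by
    intro l hl
    obtain ⟨u, v, huv, hu, hv, ⟨k, hk⟩, hvc⟩ := PBasic.exists_pPart_mul (p := p) l
    refine ⟨v, hv, hvc, ?_⟩
    have huX : π u ∈ X := by
      obtain ⟨i, rfl⟩ := hu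
      rw [map_zpow]
      exact X.zpow_mem hl i
    have hu1 : π u = 1 := by
      obtain ⟨j, -, hj⟩ := (Nat.dvd_prime_pow hp.out).1 (hk ▸ orderOf_map_dvd π u)
      rw [← orderOf_eq_one_iff]
      have hc := hj ▸ hXc _ huX
      rcases Nat.eq_zero_or_pos j with rfl | hj0
      · rw [hj, pow_zero]
      · exfalso
        have := Nat.Coprime.coprime_dvd_left (dvd_pow_self p hj0.ne') hc
        rw [Nat.coprime_self] at this
        exact hp.out.ne_one this
    rw [← huv, map_mul, hu1, one_mul]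
  -- choose the pair with least generated subgroup
  let L : M → Subgroup M := fun x => A ⊔ A.map (MulAut.conj x).toMonoidHom
  let S : Set M := {x | (orderOf x).Coprime p ∧ π x ∈ X ∧ e * π x ≠ π x * e}
  have hSne : S.Nonempty := by
    obtain ⟨l, rfl⟩ := hπs y₀
    obtain ⟨v, -, hvc, hv⟩ := hlift l hy₀
    exact ⟨v, hvc, by rw [hv]; exact hy₀, by rw [hv]; exact hey₀⟩
  obtain ⟨x₁, hx₁S, hx₁min⟩ := Set.exists_min_image S (fun x => Nat.card (L x)) (Set.toFinite _) hSne
  have hLmap : ∀ x : M, π x ∈ X → (L x).map π ≤ Ab ⊔ X := by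
    intro x hx
    simp only [L, Subgroup.map_sup]
    refine sup_le le_sup_left ?_
    rintro _ ⟨_, ⟨a, ha, rfl⟩, rfl⟩
    simp only [MulEquiv.coe_toMonoidHom, MulAut.conj_apply, map_mul, map_inv]
    exact mul_mem (mul_mem (Subgroup.mem_sup_right hx) (Subgroup.mem_sup_left ⟨a, ha, rfl⟩))
      (inv_mem (Subgroup.mem_sup_right hx))
  -- the element lies in its subgroup
  obtain ⟨hx₁c, hx₁X, hx₁e⟩ := hx₁S
  have hy : π x₁ ∈ (L x₁).map π := by
    set y := π x₁
    have hAL : Ab ≤ (L x₁).map π := Subgroup.map_mono le_sup_left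
    have hconj : y * e * y⁻¹ ∈ (L x₁).map π := by
      obtain ⟨a, ha, hae⟩ := heA
      refine ⟨x₁ * a * x₁⁻¹, Subgroup.mem_sup_right ⟨a, ha, rfl⟩, ?_⟩
      rw [map_mul, map_mul, map_inv, hae]
    have hcX : y * e * y⁻¹ * e⁻¹ ∈ X := by
      have := X.mul_mem hx₁X ((Subgroup.mem_normalizer_iff.1 (hXn heA) y⁻¹).1 (X.inv_mem hx₁X))
      simpa [mul_assoc] using this
    have hYn : Ab ≤ Subgroup.normalizer ((X ⊓ (L x₁).map π : Subgroup (M ⧸ N)) : Set (M ⧸ N)) := by
      intro a ha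
      rw [Subgroup.mem_normalizer_iff]
      intro z
      simp only [Subgroup.mem_inf]
      exact and_congr (Subgroup.mem_normalizer_iff.1 (hXn ha) z)
        (Subgroup.mem_normalizer_iff.1 (Subgroup.le_normalizer (hAL ha)) z)
    have hYe : ∃ z ∈ X ⊓ (L x₁).map π, e * z ≠ z * e := by
      refine ⟨y * e * y⁻¹ * e⁻¹, Subgroup.mem_inf.2 ⟨hcX, mul_mem hconj (inv_mem (hAL heA))⟩, fun h => ?_⟩
      have h1 := eq_one_of_conj (y := y) (hXc _ hcX) (hexp e heA) h.symm (by group)
      apply hx₁e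
      rw [mul_inv_eq_one, mul_inv_eq_iff_eq_mul] at h1
      exact h1.symm
    have := hXmin _ inf_le_left hYn hYe
    exact (Subgroup.mem_inf.1 (this.ge hx₁X)).2
  obtain ⟨l, hl, hlx⟩ := hy
  obtain ⟨x, hxl, hxc, hxπ⟩ := hlift l (by rw [hlx]; exact hx₁X)
  have hxπ' : π x = π x₁ := hxπ.trans hlx
  have hxX : π x ∈ X := hxπ' ▸ hx₁X
  have hxe : e * π x ≠ π x * e := hxπ' ▸ hx₁e
  have hxL1 : x ∈ L x₁ := (Subgroup.zpowers_le.2 hl) hxl
  have hLle : L x ≤ L x₁ := by
    refine sup_le le_sup_left ?_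
    rintro _ ⟨a, ha, rfl⟩
    simp only [MulEquiv.coe_toMonoidHom, MulAut.conj_apply]
    exact mul_mem (mul_mem hxL1 (Subgroup.mem_sup_left ha)) (inv_mem hxL1)
  have hLeq : L x = L x₁ :=
    Subgroup.eq_of_le_of_card_ge hLle (hx₁min x ⟨hxc, hxX, hxe⟩)
  have hxL : x ∈ L x := hLeq ▸ hxL1
  -- notation
  set W : Subgroup M := L x with hW
  have hAW : A ≤ W := le_sup_left
  set R := (Cfsg.pResidual p W).map W.subtype with hR
  have hxR : x ∈ R := ⟨⟨x, hxL⟩, PBasic.mem_pResidual (by rwa [Subgroup.orderOf_mk]), rfl⟩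
  have hRX : R ≤ X.comap π := by
    refine residual_le hA ?_ ?_
    · intro a ha
      rw [Subgroup.mem_normalizer_iff]
      intro z
      simp only [Subgroup.mem_comap, map_mul, map_inv]
      exact Subgroup.mem_normalizer_iff.1 (hXn ⟨a, ha, rfl⟩) (π z)
    · refine (Subgroup.map_le_iff_le_comap.1 (hLmap x hxX)).trans ?_
      rw [hAb, ← Subgroup.map_comap_eq_self_of_surjective hπs X, ← Subgroup.map_sup,
        Subgroup.comap_map_eq, Subgroup.map_comap_eq_self_of_surjective hπs X]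
      refine sup_le le_rfl (le_trans ?_ le_sup_right)
      rw [MonoidHom.comap_bot π |>.symm]
      exact Subgroup.comap_mono bot_le
  haveI hRc : (Cfsg.pResidual p W).Characteristic := PBasic.pResidual_characteristic p W
  have hWR : W ≤ Subgroup.normalizer (R : Set M) := by
    intro w hw
    rw [Subgroup.mem_normalizer_iff]
    have key : ∀ w ∈ W, ∀ z ∈ R, w * z * w⁻¹ ∈ R := by
      rintro w hw _ ⟨z, hz, rfl⟩
      exact ⟨⟨w, hw⟩ * z * ⟨w, hw⟩⁻¹, (Subgroup.normal_of_characteristic (h := hRc)).conj_mem z hz _, rfl⟩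
    intro z
    refine ⟨key w hw z, fun h => ?_⟩
    have h2 := key w⁻¹ (inv_mem hw) _ h
    simpa [mul_assoc] using h2
  have hRW : R ≤ W := Subgroup.map_subtype_le _
  -- the core of the pair
  set U := (Cfsg.pCore p W).map W.subtype with hU
  have hUp : IsPGroup p U := (PBasic.pCore_isPGroup p W).map W.subtype
  have hWc : ∀ b ∈ B, ∀ w ∈ W, b * π w = π w * b := fun b hb w hw => by
    have : W.map π ≤ Subgroup.centralizer ({b} : Set (M ⧸ N)) := (hLmap x hxX).trans
      (sup_le (fun a ha => Subgroup.mem_centralizer_singleton_iff.2 (hcomm a ha b (hBA hb)))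
        fun z hz => Subgroup.mem_centralizer_singleton_iff.2 (hBX b hb z hz).symm)
    exact (Subgroup.mem_centralizer_singleton_iff.1 (this ⟨w, hw, rfl⟩)).symm
  have hB0 : W ⊓ B.comap π ≤ U := by
    have hn : ((W ⊓ B.comap π).subgroupOf W).Normal := by
      refine ⟨fun z hz g => ?_⟩
      simp only [Subgroup.mem_subgroupOf, Subgroup.mem_inf, Subgroup.mem_comap, Subgroup.coe_mul,
        Subgroup.coe_inv, map_mul, map_inv] at hz ⊢
      refine ⟨mul_mem (mul_mem g.2 hz.1) (inv_mem g.2), ?_⟩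
      rw [← hWc _ hz.2 _ g.2, mul_assoc, mul_inv_cancel, mul_one]
      exact hz.2
    have hpg : IsPGroup p ((W ⊓ B.comap π).subgroupOf W) := by
      refine IsPGroup.comap_of_injective ?_ W.subtype Subtype.coe_injective
      refine IsPGroup.to_le ?_ inf_le_right
      exact (hAbp.to_le hBA).comap_of_ker_isPGroup π (by
        rw [hπ, QuotientGroup.ker_mk']; exact PBasic.pCore_isPGroup p M)
    intro z hz
    exact ⟨⟨z, (Subgroup.mem_inf.1 hz).1⟩, PBasic.le_pCore hn hpg hz, rfl⟩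
  have hAU : ¬ A ≤ U := by
    intro h
    have hUn : W ≤ Subgroup.normalizer (U : Set M) := by
      intro w hw
      rw [Subgroup.mem_normalizer_iff]
      have key : ∀ w ∈ W, ∀ z ∈ U, w * z * w⁻¹ ∈ U := by
        rintro w hw _ ⟨z, hz, rfl⟩
        exact ⟨⟨w, hw⟩ * z * ⟨w, hw⟩⁻¹, (Subgroup.normal_of_characteristic
          (h := PBasic.pCore_characteristic p W)).conj_mem z hz _, rfl⟩
      intro z
      refine ⟨key w hw z, fun h => ?_⟩
      have h2 := key w⁻¹ (inv_mem hw) _ h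
      simpa [mul_assoc] using h2
    have hWU : W ≤ U := by
      refine sup_le h ?_
      rintro _ ⟨a, ha, rfl⟩
      exact (Subgroup.mem_normalizer_iff.1 (hUn hxL) a).1 (h ha)
    have := PBasic.eq_one_of_isPGroup_of_coprime hUp (hWU hxL) hxc
    exact hxe (by rw [this, map_one, mul_one, one_mul])
  have hK0 : A ⊓ B.comap π ≤ A ⊓ U :=
    le_inf inf_le_left ((inf_le_inf_right _ hAW).trans hB0)
  have hB0i : (A ⊓ B.comap π).relIndex A = p := by
    rw [Subgroup.inf_relIndex_left, Subgroup.relIndex_comap, ← hAb, hBind]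
  have hKi : (A ⊓ U).relIndex A = p ∧ (A ⊓ B.comap π).relIndex (A ⊓ U) = 1 := by
    have hmul := Subgroup.relIndex_mul_relIndex (A ⊓ B.comap π) (A ⊓ U) A hK0 inf_le_left
    rw [hB0i] at hmul
    rcases hp.out.eq_one_or_self_of_dvd _ (Dvd.intro_left _ hmul) with h1 | h1
    · exact absurd ((Subgroup.relIndex_eq_one.1 h1).trans inf_le_right) hAU
    · refine ⟨h1, ?_⟩
      rw [h1] at hmul
      exact Nat.eq_of_mul_eq_mul_right hp.out.pos (hmul.trans (one_mul p).symm)
  refine ⟨x, ?_, hxR, ?_, ?_, ?_, ?_⟩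
  · exact hXQ hxX
  · exact hRX.trans (Subgroup.comap_mono hXQ)
  · -- the residual is a commutator
    apply le_antisymm
    · rw [Subgroup.commutator_le]
      intro r hr a ha
      rw [commutatorElement_def]
      have := (Subgroup.mem_normalizer_iff.1 (hWR (hAW ha)) r⁻¹).1 (inv_mem hr)
      simpa [mul_assoc] using mul_mem hr this
    · set C : Subgroup M := ⁅R, A⁆ with hC
      have hCA : A ≤ Subgroup.normalizer (C : Set M) :=
        AxB.le_normalizer_commutator_right (hAW.trans hWR)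
      refine residual_le hA hCA (sup_le le_sup_left ?_)
      rintro _ ⟨a, ha, rfl⟩
      simp only [MulEquiv.coe_toMonoidHom, MulAut.conj_apply]
      have h1 : x * a * x⁻¹ * a⁻¹ ∈ C := by
        rw [hC, ← commutatorElement_def]
        exact Subgroup.commutator_mem_commutator hxR ha
      have h2 := mul_mem (Subgroup.mem_sup_right (S := A) h1) (Subgroup.mem_sup_left (T := C) ha)
      simpa [mul_assoc] using h2
  · exact hKi.1
  · rw [Subgroup.commutator_le]
    intro a ha w hw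
    have haB : π a ∈ B := (Subgroup.mem_inf.1 (Subgroup.relIndex_eq_one.1 hKi.2 ha)).2
    refine (QuotientGroup.eq_one_iff _).1 ?_
    change π ⁅a, w⁆ = 1
    rw [commutatorElement_def, map_mul, map_mul, map_mul, map_inv, map_inv, hWc _ haB _ hw]
    group

end Cfsg.Agent.S3754
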