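import Cfsg.Statements.S3756
import Cfsg.Agent.Lib.S3Free.Closure.Solvable

set_option autoImplicit false
open Cfsg

namespace Cfsg.Agent.S3756

open S3Free SFW in
theorem maximal_eq {G : Type*} [Group G] [Finite G]
    (hloc : ∀ M : Subgroup G, Cfsg.IsTwoLocal M → Group.IsSolvable M ∧ Cfsg.IsOfCharacteristicTwo ↥M ∧
      ¬ Cfsg.Involves (Equiv.Perm (Fin 4)) ↥M)
    {M : Subgroup G} (hM : Cfsg.IsMaximalTwoLocal M) {P : Subgroup G} (hPM : P ≤ M)
    (hP : IsPGroup 2 P) (hmax : ∀ R : Subgroup G, IsPGroup 2 R → P ≤ R → R ≤ M → R ≤ P) :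
    P ≠ ⊥ ∧ M = Subgroup.normalizer (wIn P : Set G) := by
  haveI : Fact (Nat.Prime 2) := ⟨Nat.prime_two⟩
  obtain ⟨hsol, hchar, h4⟩ := hloc M hM.1
  obtain ⟨T, hT2, hT0, hTM⟩ := hM.1
  haveI := hsol
  obtain ⟨S, hS⟩ := (hP.comap_of_injective M.subtype M.subtype_injective :
    IsPGroup 2 (P.subgroupOf M)).exists_le_sylow
  have hSP : (S : Subgroup M).map M.subtype = P := by
    have hle : P ≤ (S : Subgroup M).map M.subtype := fun x hx => ⟨⟨x, hPM hx⟩, hS hx, rfl⟩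
    exact le_antisymm (hmax _ (S.2.map _) hle (Subgroup.map_subtype_le _)) hle
  have hP0 : P ≠ ⊥ := by
    intro h
    obtain ⟨S', hS'⟩ := (hT2.comap_of_injective M.subtype M.subtype_injective :
      IsPGroup 2 (T.subgroupOf M)).exists_le_sylow
    have h1 : Nat.card S' = 1 := by
      rw [S'.card_eq_multiplicity, ← S.card_eq_multiplicity, ←
        Subgroup.card_map_of_injective M.subtype_injective, hSP, h, Subgroup.card_bot]
    rw [Subgroup.card_eq_one] at h1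
    refine hT0 ((Subgroup.eq_bot_iff_forall T).2 fun t ht => ?_)
    have htM : t ∈ M := hTM.symm ▸ Subgroup.le_normalizer ht
    have h2 : (⟨t, htM⟩ : M) ∈ (⊥ : Subgroup M) := h1 ▸ hS' ht
    exact congrArg Subtype.val (Subgroup.mem_bot.1 h2)
  refine ⟨hP0, ?_⟩
  have hn := wIn_normal h4 hchar S
  have hW : wIn P = (wIn (S : Subgroup M)).map M.subtype := by
    rw [← wIn_map _ M.subtype_injective, hSP]
  have hle : M ≤ Subgroup.normalizer (wIn P : Set G) := fun m hm => by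
    rw [hW]
    refine Subgroup.mem_normalizer_fintype ?_
    rintro _ ⟨w, hw, rfl⟩
    exact ⟨⟨m, hm⟩ * w * ⟨m, hm⟩⁻¹, hn.conj_mem w hw _, rfl⟩
  exact (hM.2 _ ⟨wIn P, hP.to_le (wIn_le P), wIn_ne_bot hP hP0, rfl⟩ hle).symm

/-- Distinct maximal `2`-local subgroups share no nontrivial `2`-subgroup. -/
theorem unique_maximal {G : Type*} [Group G] [Finite G]
    (hloc : ∀ M : Subgroup G, Cfsg.IsTwoLocal M → Group.IsSolvable M ∧ Cfsg.IsOfCharacteristicTwo ↥M ∧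
      ¬ Cfsg.Involves (Equiv.Perm (Fin 4)) ↥M)
    {T : Subgroup G} (hT : IsPGroup 2 T) (hT0 : T ≠ ⊥) {M₁ M₂ : Subgroup G}
    (h₁ : Cfsg.IsMaximalTwoLocal M₁) (h₂ : Cfsg.IsMaximalTwoLocal M₂) (hT₁ : T ≤ M₁) (hT₂ : T ≤ M₂) :
    M₁ = M₂ := by
  haveI : Fact (Nat.Prime 2) := ⟨Nat.prime_two⟩
  by_contra hne
  obtain ⟨T, ⟨hT, hT0, M₁, M₂, h₁, h₂, hne, hT₁, hT₂⟩, hTmax⟩ := Set.Finite.exists_maximal
    (Set.toFinite {T : Subgroup G | IsPGroup 2 T ∧ T ≠ ⊥ ∧ ∃ M₁ M₂ : Subgroup G,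
      Cfsg.IsMaximalTwoLocal M₁ ∧ Cfsg.IsMaximalTwoLocal M₂ ∧ M₁ ≠ M₂ ∧ T ≤ M₁ ∧ T ≤ M₂})
    ⟨T, hT, hT0, M₁, M₂, h₁, h₂, hne, hT₁, hT₂⟩
  -- a larger `2`-subgroup of `M` normalizes `T`
  have hgrow : ∀ R : Subgroup G, IsPGroup 2 R → T < R →
      ∃ x ∈ R, x ∉ T ∧ x ∈ Subgroup.normalizer (T : Set G) := by
    intro R hR hlt
    haveI := hR.isNilpotent
    have h1 : T.subgroupOf R < ⊤ :=
      lt_top_iff_ne_top.2 fun h => hlt.not_ge (Subgroup.subgroupOf_eq_top.1 h)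
    obtain ⟨x, hx, hxn⟩ := SetLike.exists_of_lt (Group.normalizerCondition_of_isNilpotent _ h1)
    exact ⟨x, x.2, hxn, Subgroup.mem_normalizer_fintype fun y hy =>
      (Subgroup.mem_normalizer_iff.1 hx ⟨y, hlt.le hy⟩).1 hy⟩
  obtain ⟨M₃, hle₃, h₃⟩ : ∃ M₃, Subgroup.normalizer (T : Set G) ≤ M₃ ∧ Cfsg.IsMaximalTwoLocal M₃ := by
    obtain ⟨M₃, ⟨hl, hle⟩, hm⟩ := Set.Finite.exists_maximal
      (Set.toFinite {M : Subgroup G | Cfsg.IsTwoLocal M ∧ Subgroup.normalizer (T : Set G) ≤ M})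
      ⟨_, ⟨T, hT, hT0, rfl⟩, le_rfl⟩
    exact ⟨M₃, hle, hl, fun N hN hle' => le_antisymm (hm ⟨hN, hle.trans hle'⟩ hle') hle'⟩
  by_cases hex : ∀ R : Subgroup G, IsPGroup 2 R → T ≤ R → R ≤ T
  · exact hne ((maximal_eq hloc h₁ hT₁ hT fun R hR h _ => hex R hR h).2.trans
      (maximal_eq hloc h₂ hT₂ hT fun R hR h _ => hex R hR h).2.symm)
  have hone : ∀ M, Cfsg.IsMaximalTwoLocal M → T ≤ M → M = M₃ := by
    intro M hM hTM
    by_contra hMne
    have hmaxT : ∀ R : Subgroup G, IsPGroup 2 R → T ≤ R → R ≤ M → R ≤ T := by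
      intro R hR hTR hRM
      by_contra hcon
      obtain ⟨x, hx, hxT, hxN⟩ := hgrow R hR (lt_of_le_of_ne hTR fun h => hcon h.ge)
      set T' := R ⊓ Subgroup.normalizer (T : Set G)
      have hle : T ≤ T' := le_inf hTR Subgroup.le_normalizer
      exact hxT (hTmax ⟨hR.to_le inf_le_left, fun h => hT0 (le_bot_iff.1 (hle.trans h.le)), M, M₃,
        hM, h₃, hMne, inf_le_left.trans hRM, inf_le_right.trans hle₃⟩ hle ⟨hx, hxN⟩)
    -- so `T` is a Sylow subgroup of the whole group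
    obtain ⟨-, hMeq⟩ := maximal_eq hloc hM hTM hT hmaxT
    refine hex fun R hR hTR => ?_
    by_contra hcon
    obtain ⟨x, hx, hxT, hxN⟩ := hgrow R hR (lt_of_le_of_ne hTR fun h => hcon h.ge)
    have hle : T ≤ R ⊓ Subgroup.normalizer (T : Set G) := le_inf hTR Subgroup.le_normalizer
    exact hxT (hmaxT _ (hR.to_le inf_le_left) hle
      ((inf_le_right.trans (SFW.wIn_normalizer T)).trans hMeq.ge) ⟨hx, hxN⟩)
  exact hne ((hone M₁ h₁ hT₁).trans (hone M₂ h₂ hT₂).symm)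

/-- Let G be a finite group of even order with O₂(G) = 1 such that every 2-local subgroup of G is solvable, of characteristic 2, and has no section isomorphic to the symmetric group of degree 4. Then every maximal 2-local subgroup of G is strongly embedded in G. -/
theorem result {G : Type*} [Group G] [Finite G] (heven : Even (Nat.card G)) (hO : Cfsg.pCore 2 G = ⊥) (hloc : ∀ M : Subgroup G, Cfsg.IsTwoLocal M → Group.IsSolvable M ∧ Cfsg.IsOfCharacteristicTwo ↥M ∧ ¬ Cfsg.Involves (Equiv.Perm (Fin 4)) ↥M) (M : Subgroup G) (hM : Cfsg.IsMaximalTwoLocal M) : Cfsg.IsStronglyEmbedded M := by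
  haveI : Fact (Nat.Prime 2) := ⟨Nat.prime_two⟩
  obtain ⟨T, hT, hT0, hTM⟩ := id hM.1
  have hTle : T ≤ M := hTM.symm ▸ Subgroup.le_normalizer
  refine ⟨fun h => hT0 ?_, ?_, fun g hg => ?_⟩
  · have hn : T.Normal := Subgroup.normalizer_eq_top_iff.1 (hTM ▸ h)
    exact le_bot_iff.1 (hO ▸ PBasic.le_pCore hn hT)
  · obtain ⟨k, hk⟩ := IsPGroup.iff_card.1 hT
    have hk0 : k ≠ 0 := by
      rintro rfl
      exact hT0 (Subgroup.card_eq_one.1 hk)
    refine even_iff_two_dvd.2 (dvd_trans ?_ (Subgroup.card_dvd_of_le hTle))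
    exact hk ▸ dvd_pow_self 2 hk0
  · by_contra hodd
    rw [Nat.not_odd_iff_even, even_iff_two_dvd] at hodd
    set f := (MulAut.conj g).toMonoidHom with hf
    obtain ⟨t, ht⟩ := exists_prime_orderOf_dvd_card' 2 hodd
    have hfi : Function.Injective f := (MulAut.conj g).injective
    have hmapN : ∀ (h : G) (U : Subgroup G), (Subgroup.normalizer (U : Set G)).map
        (MulAut.conj h).toMonoidHom = Subgroup.normalizer (U.map (MulAut.conj h).toMonoidHom : Set G) :=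
      fun h U => Subgroup.map_equiv_normalizer_eq U (MulAut.conj h)
    have hinv : ∀ U : Subgroup G, (U.map (MulAut.conj g⁻¹).toMonoidHom).map f = U := fun U =>
      (S3Free.cjS_mul g g⁻¹ U).symm.trans (by rw [mul_inv_cancel, S3Free.cjS_one])
    have hMg : Cfsg.IsMaximalTwoLocal (M.map f) := by
      refine ⟨⟨T.map f, hT.map f, fun h => hT0 ((Subgroup.map_eq_bot_iff_of_injective _ hfi).1 h),
        by rw [hTM, hmapN]⟩, fun N hN hle => ?_⟩
      obtain ⟨U, hU, hU0, rfl⟩ := hN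
      have h1 := hM.2 ((Subgroup.normalizer (U : Set G)).map (MulAut.conj g⁻¹).toMonoidHom)
        ⟨U.map (MulAut.conj g⁻¹).toMonoidHom, hU.map _, fun h => hU0
          ((Subgroup.map_eq_bot_iff_of_injective _ (MulAut.conj g⁻¹).injective).1 h), hmapN g⁻¹ U⟩
        (fun m hm => ⟨f m, hle ⟨m, hm, rfl⟩, by simp [hf, mul_assoc]⟩)
      rw [← h1, hinv]
    have htM : (t : G) ∈ M ⊓ M.map f := t.2
    have heq : M = M.map f := by
      have ho : orderOf (t : G) = 2 := by rw [Subgroup.orderOf_coe]; exact ht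
      refine unique_maximal hloc (T := Subgroup.zpowers (t : G)) ?_ ?_ hM hMg
        (Subgroup.zpowers_le.2 htM.1) (Subgroup.zpowers_le.2 htM.2)
      · refine IsPGroup.iff_card.2 ⟨1, ?_⟩
        rw [Nat.card_zpowers, ho, pow_one]
      · intro h
        rw [Subgroup.zpowers_eq_bot.1 h, orderOf_one] at ho
        omega
    -- `g` normalizes `M`
    obtain ⟨P, ⟨hPM, hP⟩, hmax⟩ := Set.Finite.exists_maximal
      (Set.toFinite {P : Subgroup G | P ≤ M ∧ IsPGroup 2 P}) ⟨⊥, bot_le, IsPGroup.of_bot⟩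
    have hmax' : ∀ R : Subgroup G, IsPGroup 2 R → P ≤ R → R ≤ M → R ≤ P :=
      fun R hR hle hRM => hmax ⟨hRM, hR⟩ hle
    obtain ⟨-, hMP⟩ := maximal_eq hloc hM hPM hP hmax'
    have hP' : P.map f ≤ M := (Subgroup.map_mono hPM).trans heq.ge
    let S₁ : Sylow 2 M := ⟨P.subgroupOf M, hP.comap_of_injective M.subtype M.subtype_injective,
      fun {R} hR hle => by
        refine le_antisymm (fun r hr => ?_) hle
        exact (hmax' (R.map M.subtype) (hR.map _) (fun x hx => ⟨⟨x, hPM hx⟩, hle hx, rfl⟩)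
          (Subgroup.map_subtype_le _) ⟨r, hr, rfl⟩ : (r : G) ∈ P)⟩
    obtain ⟨S₂, hS₂⟩ := ((hP.map f).comap_of_injective M.subtype M.subtype_injective :
      IsPGroup 2 ((P.map f).subgroupOf M)).exists_le_sylow
    obtain ⟨m, hm⟩ := MulAction.exists_smul_eq M S₂ S₁
    have hmg : (m : G) * g ∈ Subgroup.normalizer (P : Set G) := by
      refine Subgroup.mem_normalizer_fintype fun x hx => ?_
      have hfx : f x ∈ P.map f := ⟨x, hx, rfl⟩
      have h1 : (⟨f x, hP' hfx⟩ : M) ∈ (S₂ : Subgroup M) := hS₂ hfx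
      have h2 : m * ⟨f x, hP' hfx⟩ * m⁻¹ ∈ ((m • S₂ : Sylow 2 M) : Subgroup M) := by
        rw [Sylow.coe_subgroup_smul]
        exact Subgroup.smul_mem_pointwise_smul _ (MulAut.conj m) _ h1
      rw [hm] at h2
      have h3 : (m : G) * (g * x * g⁻¹) * (m : G)⁻¹ ∈ P := h2
      simpa [mul_assoc] using h3
    have h4 : (m : G) * g ∈ M := hMP.ge (SFW.wIn_normalizer P hmg)
    exact hg (by simpa using M.mul_mem (M.inv_mem m.2) h4)

end Cfsg.Agent.S3756
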