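import Cfsg.Statements.S3759
import Cfsg.Agent.Lib.ZCGroup.RankThree

set_option autoImplicit false
open Cfsg

namespace Cfsg.Agent.S3759

/-- Let G be a finite group of even order in which the centralizer of every involution is solvable and C_G(Ω₁(Z(S))) ≤ N_G(S) for every Sylow 2-subgroup S, with O_{2'}(G) = 1 = O₂(G). Fix a Sylow 2-subgroup S and put Z = Ω₁(Z(S)), H = O²(G), R = S ∩ H. Then H has a strongly embedded subgroup; or Z ∩ R has order 2 and is weakly closed in R with respect to H; or Z has order 4 and equals the subgroup generated by the involutions of R; or the subgroup HZ has local characteristic 2: it has even order and every 2-local subgroup L of HZ satisfies C_L(O₂(L)) ≤ O₂(L). -/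
theorem result {G : Type*} [Group G] [Finite G] (heven : Even (Nat.card G)) (hC : ∀ t : G, orderOf t = 2 → Group.IsSolvable ↥(Subgroup.centralizer ({t} : Set G))) (hZ : ∀ S : Sylow 2 G, Subgroup.centralizer (Cfsg.omegaOne 2 ((S : Subgroup G) ⊓ Subgroup.centralizer ((S : Subgroup G) : Set G)) : Set G) ≤ Subgroup.normalizer ((S : Subgroup G) : Set G)) (hO' : Cfsg.pPrimeCore 2 G = ⊥) (hO : Cfsg.pCore 2 G = ⊥) (S : Sylow 2 G) : (∃ M : Subgroup ↥(Cfsg.pResidual 2 G), Cfsg.IsStronglyEmbedded M) ∨ (Nat.card ↥(Cfsg.omegaOne 2 ((S : Subgroup G) ⊓ Subgroup.centralizer ((S : Subgroup G) : Set G)) ⊓ Cfsg.pResidual 2 G) = 2 ∧ ∀ h ∈ Cfsg.pResidual 2 G, ∀ z ∈ Cfsg.omegaOne 2 ((S : Subgroup G) ⊓ Subgroup.centralizer ((S : Subgroup G) : Set G)) ⊓ Cfsg.pResidual 2 G, h * z * h⁻¹ ∈ (S : Subgroup G) → h * z * h⁻¹ ∈ Cfsg.omegaOne 2 ((S : Subgroup G) ⊓ Subgroup.centralizer ((S : Subgroup G) : Set G))) ∨ (Nat.card ↥(Cfsg.omegaOne 2 ((S : Subgroup G) ⊓ Subgroup.centralizer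 ((S : Subgroup G) : Set G))) = 4 ∧ Cfsg.omegaOne 2 ((S : Subgroup G) ⊓ Cfsg.pResidual 2 G) = Cfsg.omegaOne 2 ((S : Subgroup G) ⊓ Subgroup.centralizer ((S : Subgroup G) : Set G))) ∨ Cfsg.IsCharacteristicTwoType ↥(Cfsg.pResidual 2 G ⊔ Cfsg.omegaOne 2 ((S : Subgroup G) ⊓ Subgroup.centralizer ((S : Subgroup G) : Set G))) := by
  classical
  haveI : Fact (Nat.Prime 2) := ⟨Nat.prime_two⟩
  have D : ZCGroup.Hyp G := ⟨hC, hZ⟩
  set R := (S : Subgroup G) ⊓ Cfsg.pResidual 2 G with hR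
  have hR1 : R ≠ ⊥ := ZCGroup.trace_ne_bot hO' hO heven S
  obtain ⟨z, hzR, hz1, hzZ⟩ := ZCGroup.exists_mem_Zof (S := S) (N := R) inf_le_left (ZCGroup.inf_le_normalizer S) hR1
  obtain ⟨hzS, hzc, hz2⟩ := ZCGroup.mem_Zof.1 hzZ
  have hzH : z ∈ Cfsg.pResidual 2 G := hzR.2
  haveI hKn : (Cfsg.pResidual 2 G ⊔ ZCGroup.Zof S).Normal := by
    refine Subgroup.normalizer_eq_top_iff.1 (top_le_iff.1 ?_)
    rw [← ZCGroup.residual_sup_eq_top S]
    refine sup_le (le_sup_left.trans Subgroup.le_normalizer) fun s hs => ?_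
    refine ZCGroup.mem_normalizer_of_map ?_
    rw [Subgroup.map_sup, ZCGroup.map_of_mem_normalizer (Subgroup.normalizer_eq_top_iff.2
      (inferInstance : (Cfsg.pResidual 2 G).Normal) ▸ Subgroup.mem_top s)]
    congr 1
    refine ZCGroup.map_of_mem_normalizer (Subgroup.centralizer_le_normalizer _ ?_)
    exact Subgroup.mem_centralizer_iff.2 fun w hw => ((ZCGroup.mem_Zof.1 hw).2.1 s hs).symm
  have hzo : orderOf z = 2 := orderOf_eq_prime hz2 hz1
  have hKeven : Even (Nat.card ↥(Cfsg.pResidual 2 G ⊔ ZCGroup.Zof S)) := by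
    refine even_iff_two_dvd.2 ?_
    exact (dvd_of_eq hzo.symm).trans (Subgroup.orderOf_dvd_natCard _ (Subgroup.mem_sup_left hzH))
  -- an involution of the residual is conjugate into its trace
  have hinto : ∀ t ∈ Cfsg.pResidual 2 G, orderOf t = 2 → ∃ g : G, g * t * g⁻¹ ∈ R := by
    intro t ht ht2
    have hp : IsPGroup 2 (Subgroup.zpowers t) :=
      IsPGroup.of_card (n := 1) (by rw [Nat.card_zpowers, ht2, pow_one])
    obtain ⟨Q, hQ⟩ := hp.exists_le_sylow
    obtain ⟨g, hg⟩ := MulAction.exists_smul_eq G Q S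
    refine ⟨g, ?_, (inferInstance : (Cfsg.pResidual 2 G).Normal).conj_mem t ht g⟩
    rw [← hg]
    exact Subgroup.smul_mem_pointwise_smul t (MulAut.conj g) (Q : Subgroup G) (hQ (Subgroup.mem_zpowers t))
  have hord : ∀ g t : G, orderOf t = 2 → orderOf (g * t * g⁻¹) = 2 := fun g t ht => by
    rw [show g * t * g⁻¹ = (MulAut.conj g).toMonoidHom t from rfl,
      orderOf_injective (MulAut.conj g).toMonoidHom (MulAut.conj g).injective t, ht]
  -- the weakly closed alternative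
  have alt2 : ∀ _ : Nat.card ↥(ZCGroup.Zof S ⊓ Cfsg.pResidual 2 G) = 2,
      (∀ h ∈ Cfsg.pResidual 2 G, ∀ w ∈ ZCGroup.Zof S ⊓ Cfsg.pResidual 2 G, w ≠ 1 → h * w * h⁻¹ ∈ (S : Subgroup G) →
        h * w * h⁻¹ ∈ ZCGroup.Zof S) →
      Nat.card ↥(ZCGroup.Zof S ⊓ Cfsg.pResidual 2 G) = 2 ∧ ∀ h ∈ Cfsg.pResidual 2 G,
        ∀ w ∈ ZCGroup.Zof S ⊓ Cfsg.pResidual 2 G, h * w * h⁻¹ ∈ (S : Subgroup G) → h * w * h⁻¹ ∈ ZCGroup.Zof S :=
    fun h2 hcl => ⟨h2, fun h hh w hw hS => by
      by_cases hw1 : w = 1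
      · rw [hw1, mul_one, mul_inv_cancel]; exact one_mem _
      · exact hcl h hh w hw hw1 hS⟩
  have hcard_only : ZCGroup.OnlyZ S z → Nat.card ↥(ZCGroup.Zof S ⊓ Cfsg.pResidual 2 G) = 2 := fun h => by
    refine Eq.trans ?_ ((Nat.card_zpowers z).trans hzo)
    congr 2
    ext x
    constructor
    · rintro ⟨hx, -⟩
      rcases h.2.2 x hx with rfl | rfl
      · exact one_mem _
      · exact Subgroup.mem_zpowers _
    · exact fun hx => Subgroup.zpowers_le.2 (show z ∈ ZCGroup.Zof S ⊓ Cfsg.pResidual 2 G from ⟨hzZ, hzH⟩) hx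
  by_cases hbig : ∃ A, ZCGroup.Big S A
  · obtain ⟨A, hA⟩ := hbig
    by_cases hW : ZCGroup.sig A = ⊥
    · -- characteristic two type
      refine Or.inr (Or.inr (Or.inr (@ZCGroup.char_two_type G _ _ hC _ hKn hKeven fun t ht ht2 => ?_)))
      obtain ⟨hts, ht1⟩ := ZCGroup.sq_of_order ht2
      rcases ZCGroup.onlyZ_or_four S hzZ hz1 with h | h4
      · have hle : ZCGroup.Zof S ≤ Cfsg.pResidual 2 G := fun w hw => by
          rcases h.2.2 w hw with rfl | rfl
          · exact one_mem _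
          · exact hzH
        replace ht : t ∈ Cfsg.pResidual 2 G := (sup_eq_left.2 hle : Cfsg.pResidual 2 G ⊔ ZCGroup.Zof S = _).le ht
        obtain ⟨g, hg⟩ := hinto t ht ht2
        obtain ⟨g', B, hB, hgB⟩ := hA.conj_into_big hg (hord g t ht2)
        refine hA.th_eq_bot D hW hB ht1 (g := g' * g) ?_
        rwa [show g' * g * t * (g' * g)⁻¹ = g' * (g * t * g⁻¹) * g'⁻¹ by group]
      · have hp : IsPGroup 2 (Subgroup.zpowers t) :=
          IsPGroup.of_card (n := 1) (by rw [Nat.card_zpowers, ht2, pow_one])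
        obtain ⟨Q, hQ⟩ := hp.exists_le_sylow
        obtain ⟨g, hg⟩ := MulAction.exists_smul_eq G Q S
        have hgS : g * t * g⁻¹ ∈ (S : Subgroup G) := by
          rw [← hg]
          exact Subgroup.smul_mem_pointwise_smul t (MulAut.conj g) (Q : Subgroup G) (hQ (Subgroup.mem_zpowers t))
        obtain ⟨B, hB, hgB⟩ := hA.exists_mem_of_four h4 hgS (ZCGroup.sq_of_order (hord g t ht2)).1
        exact hA.th_eq_bot D hW hB ht1 hgB
    · -- a strongly embedded subgroup
      refine Or.inl (ZCGroup.exists_se hO' S hR1 hW ?_ (Subgroup.le_normalizer.trans (hA.normalizer_le D))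
        (fun g _ hg => hA.normalizer_trace_le D hzZ hzH hz1 hg)
        fun t ht ht2 => hA.centralizer_le_of_trace D hzZ hz1 ht ht2)
      exact (ZCGroup.sig_spec hC hA.2.1 hA.2.2).1
  push Not at hbig
  rcases ZCGroup.onlyZ_or_four S hzZ hz1 with h | h4
  · by_cases hiso : ∃ k ∈ Cfsg.pResidual 2 G, k * z * k⁻¹ ∈ (S : Subgroup G) ∧ k * z * k⁻¹ ≠ z
    · have hall := h.conj_all D hzH hbig hiso
      have hth : ∀ t ∈ R, orderOf t = 2 → ZCGroup.th t = ZCGroup.th z := fun t ht ht2 => by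
        obtain ⟨g, rfl⟩ := hall t ht ht2
        exact h.th_eq D ht.1
      by_cases hX : ZCGroup.th z = ⊥
      · refine Or.inr (Or.inr (Or.inr (@ZCGroup.char_two_type G _ _ hC _ hKn hKeven fun t ht ht2 => ?_)))
        have hle : ZCGroup.Zof S ≤ Cfsg.pResidual 2 G := fun w hw => by
          rcases h.2.2 w hw with rfl | rfl
          · exact one_mem _
          · exact hzH
        replace ht : t ∈ Cfsg.pResidual 2 G := (sup_eq_left.2 hle : Cfsg.pResidual 2 G ⊔ ZCGroup.Zof S = _).le ht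
        obtain ⟨g, hg⟩ := hinto t ht ht2
        have := hth _ hg (hord g t ht2)
        rw [hX, ZCGroup.th_conj, Subgroup.map_eq_bot_iff_of_injective _ (MulAut.conj g).injective] at this
        exact this
      · refine Or.inl (ZCGroup.exists_se hO' S hR1 hX (ZCGroup.th_odd z) ?_ ?_ ?_)
        · exact fun s hs => ZCGroup.centralizer_le_normalizer_th z (Subgroup.mem_centralizer_singleton_iff.2 (hzc s hs))
        · intro g _ hg
          refine ZCGroup.mem_normalizer_of_map ?_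
          rw [← ZCGroup.th_conj]
          exact hth _ ((Subgroup.mem_normalizer_iff.1 hg z).1 hzR) (hord g z hzo)
        · intro t ht ht2
          rw [← hth t ht ht2]
          exact ZCGroup.centralizer_le_normalizer_th t
    · push Not at hiso
      refine Or.inr (Or.inl (alt2 (hcard_only h) fun k hk w hw hw1 hS => ?_))
      rcases h.2.2 w hw.1 with rfl | rfl
      · exact absurd rfl hw1
      · rw [hiso k hk hS]; exact hzZ
  · -- all involutions of the Sylow subgroup are central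
    have hcard4 : Nat.card ↥(ZCGroup.Zof S) = 4 :=
      le_antisymm (ZCGroup.card_le_four (ZCGroup.Zof_ea S) (Nat.lt_of_not_le fun h8 =>
        hbig _ ⟨ZCGroup.Zof_le S, ZCGroup.Zof_ea S, h8⟩)) h4
    have hinv : ∀ u ∈ (S : Subgroup G), u * u = 1 → u ∈ ZCGroup.Zof S := fun u hu hu2 =>
      ZCGroup.mem_four_of_not_big hbig (ZCGroup.Zof_le S) hcard4 (ZCGroup.Zof_ea S) hu hu2
        fun v hv => ((ZCGroup.mem_Zof.1 hv).2.1 u hu).symm
    by_cases hle : ZCGroup.Zof S ≤ Cfsg.pResidual 2 G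
    · refine Or.inr (Or.inr (Or.inl ⟨hcard4, le_antisymm ?_ ?_⟩))
      · exact (Subgroup.closure_le _).2 fun x hx => hinv x hx.1.1 (by rw [← pow_two]; exact hx.2)
      · exact fun x hx => Subgroup.subset_closure ⟨⟨ZCGroup.Zof_le S hx, hle hx⟩, (ZCGroup.mem_Zof.1 hx).2.2⟩
    · have h2 : Nat.card ↥(ZCGroup.Zof S ⊓ Cfsg.pResidual 2 G) = 2 := by
        have hlt : ZCGroup.Zof S ⊓ Cfsg.pResidual 2 G < ZCGroup.Zof S :=
          lt_of_le_of_ne inf_le_left fun e => hle (e ▸ inf_le_right)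
        have hd := Subgroup.card_dvd_of_le hlt.le
        rw [hcard4] at hd
        have h1 : 1 < Nat.card ↥(ZCGroup.Zof S ⊓ Cfsg.pResidual 2 G) := by
          refine lt_of_lt_of_le (show 1 < orderOf z by omega) (Nat.le_of_dvd Nat.card_pos ?_)
          exact Subgroup.orderOf_dvd_natCard _ ⟨hzZ, hzH⟩
        have h3 : Nat.card ↥(ZCGroup.Zof S ⊓ Cfsg.pResidual 2 G) ≠ 4 := fun e =>
          hlt.ne (Subgroup.eq_of_le_of_card_ge hlt.le (by omega))
        have h4' := Nat.le_of_dvd (by norm_num) hd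
        generalize hn : Nat.card ↥(ZCGroup.Zof S ⊓ Cfsg.pResidual 2 G) = n at hd h1 h3 h4'
        interval_cases n <;> omega
      refine Or.inr (Or.inl (alt2 h2 fun k _ w hw _ hS => hinv _ hS ?_))
      have hw2 : w * w = 1 := by rw [← pow_two]; exact (ZCGroup.mem_Zof.1 hw.1).2.2
      rw [show k * w * k⁻¹ * (k * w * k⁻¹) = k * (w * w) * k⁻¹ by group, hw2]; group

end Cfsg.Agent.S3759
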