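import Cfsg.Statements.S3758
import Cfsg.Agent.S3759
import Cfsg.Agent.Lib.JComp.ZNNormal

set_option autoImplicit false
open Cfsg

namespace Cfsg.Agent.S3758

/-- Let G be a finite group of even order in which every 2-local subgroup is solvable and C_G(Ω₁(Z(S))) ≤ N_G(S) for every Sylow 2-subgroup S, and suppose O_{2'}(G) = 1 = O₂(G). Fix a Sylow 2-subgroup S, put Z = Ω₁(Z(S)), H = O²(G) (generated by the elements of odd order) and R = S ∩ H. Then one of the following holds: H has a strongly embedded subgroup; R is dihedral (of order at least 4) or semidihedral; Z ∩ R has order 2 and is weakly closed in R with respect to H; or Z has order 4 and is exactly the subgroup generated by the involutions of R. -/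
theorem result {G : Type*} [Group G] [Finite G] (heven : Even (Nat.card G)) (hN : ∀ L : Subgroup G, Cfsg.IsTwoLocal L → Group.IsSolvable L) (hZ : ∀ S : Sylow 2 G, Subgroup.centralizer (Cfsg.omegaOne 2 ((S : Subgroup G) ⊓ Subgroup.centralizer ((S : Subgroup G) : Set G)) : Set G) ≤ Subgroup.normalizer ((S : Subgroup G) : Set G)) (hO' : Cfsg.pPrimeCore 2 G = ⊥) (hO : Cfsg.pCore 2 G = ⊥) (S : Sylow 2 G) : (∃ M : Subgroup ↥(Cfsg.pResidual 2 G), Cfsg.IsStronglyEmbedded M) ∨ ((∃ n : ℕ, 2 ≤ n ∧ Nonempty (↥((S : Subgroup G) ⊓ Cfsg.pResidual 2 G) ≃* DihedralGroup n)) ∨ Cfsg.IsQuasiDihedral ↥((S : Subgroup G) ⊓ Cfsg.pResidual 2 G)) ∨ (Nat.card ↥(Cfsg.omegaOne 2 ((S : Subgroup G) ⊓ Subgroup.centralizer ((S : Subgroup G) : Set G)) ⊓ Cfsg.pResidual 2 G) = 2 ∧ ∀ h ∈ Cfsg.pResidual 2 G, ∀ z ∈ Cfsg.omegaOne 2 ((S : Subgroup G) ⊓ Subgroup.centralizer ((S : Subgroup G) : Set G)) ⊓ Cfsg.pResidual 2 G, h * z * h⁻¹ ∈ (S : Subgroup G) → h * z * h⁻¹ ∈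 Cfsg.omegaOne 2 ((S : Subgroup G) ⊓ Subgroup.centralizer ((S : Subgroup G) : Set G))) ∨ (Nat.card ↥(Cfsg.omegaOne 2 ((S : Subgroup G) ⊓ Subgroup.centralizer ((S : Subgroup G) : Set G))) = 4 ∧ Cfsg.omegaOne 2 ((S : Subgroup G) ⊓ Cfsg.pResidual 2 G) = Cfsg.omegaOne 2 ((S : Subgroup G) ⊓ Subgroup.centralizer ((S : Subgroup G) : Set G))) := by
  classical
  haveI : Fact (Nat.Prime 2) := ⟨Nat.prime_two⟩
  have hC : ∀ t : G, orderOf t = 2 → Group.IsSolvable ↥(Subgroup.centralizer ({t} : Set G)) := fun t ht =>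
    hN _ (JComp.centralizer_isTwoLocal (by rw [← pow_two, ← ht, pow_orderOf_eq_one])
      (fun h => by rw [h, orderOf_one] at ht; omega))
  rcases S3759.result heven hC hZ hO' hO S with h | h | h | hc
  · exact Or.inl h
  · exact Or.inr (Or.inr (Or.inl h))
  · exact Or.inr (Or.inr (Or.inr h))
  set Z := Cfsg.omegaOne 2 ((S : Subgroup G) ⊓ Subgroup.centralizer ((S : Subgroup G) : Set G)) with hZdef
  haveI hn : (Cfsg.pResidual 2 G ⊔ Z).Normal := by
    refine Subgroup.normalizer_eq_top_iff.1 (top_le_iff.1 ?_)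
    rw [← ZCGroup.residual_sup_eq_top S]
    refine sup_le (le_sup_left.trans Subgroup.le_normalizer) fun s hs => ?_
    refine ZCGroup.mem_normalizer_of_map ?_
    rw [Subgroup.map_sup, ZCGroup.map_of_mem_normalizer (Subgroup.normalizer_eq_top_iff.2
      (inferInstance : (Cfsg.pResidual 2 G).Normal) ▸ Subgroup.mem_top s)]
    congr 1
    refine ZCGroup.map_of_mem_normalizer (Subgroup.centralizer_le_normalizer _ ?_)
    exact Subgroup.mem_centralizer_iff.2 fun w hw =>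
      ((ZCGroup.mem_Zof.1 (show w ∈ ZCGroup.Zof S from hw)).2.1 s hs).symm
  have ha : ∃ a : ↥(Cfsg.pResidual 2 G), orderOf a = 2 := by
    obtain ⟨z, hz, hz1, hz2⟩ := ZCGroup.exists_mem_Zof (S := S) (N := (S : Subgroup G) ⊓ Cfsg.pResidual 2 G)
      inf_le_left (ZCGroup.inf_le_normalizer S) (ZCGroup.trace_ne_bot hO' hO heven S)
    exact ⟨⟨z, hz.2⟩, by rw [Subgroup.orderOf_mk]; exact orderOf_eq_prime (ZCGroup.mem_Zof.1 hz2).2.2 hz1⟩
  rcases JComp.se_or_trace (N := Cfsg.pResidual 2 G ⊔ Z) hN hZ hO hc S le_sup_right le_sup_left ha with h | h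
  · exact Or.inl h
  · exact Or.inr (Or.inl h)

end Cfsg.Agent.S3758
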