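import Cfsg.Statements.S3760


set_option autoImplicit false
open Cfsg

namespace Cfsg.Agent.S3760

/-- Let the group G act transitively on a set X, let x ∈ X with stabilizer H = G_x, and let K ≤ H. Then N_G(K) acts transitively on the set of fixed points of K if and only if every G-conjugate of K contained in H is already an H-conjugate of K. -/
theorem result {G : Type*} [Group G] {X : Type*} [MulAction G X] (htrans : ∀ a b : X, ∃ g : G, g • a = b) (x : X) (K : Subgroup G) (hK : K ≤ MulAction.stabilizer G x) : (∀ a b : X, (∀ k ∈ K, k • a = a) → (∀ k ∈ K, k • b = b) → ∃ g ∈ Subgroup.normalizer (K : Set G), g • a = b) ↔ ∀ g : G, K.map (MulAut.conj g).toMonoidHom ≤ MulAction.stabilizer G x → ∃ h ∈ MulAction.stabilizer G x, K.map (MulAut.conj g).toMonoidHom = K.map (MulAut.conj h).toMonoidHom := by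
  have hfix : ∀ (g : G), K.map (MulAut.conj g⁻¹).toMonoidHom ≤ MulAction.stabilizer G x →
      ∀ k ∈ K, k • (g • x) = g • x := fun g hg k hk => by
    have h := hg ⟨k, hk, rfl⟩
    simp only [MulEquiv.coe_toMonoidHom, MulAut.conj_apply, inv_inv,
      MulAction.mem_stabilizer_iff, mul_smul] at h
    exact inv_smul_eq_iff.1 h
  have hfix' : ∀ (g : G), (∀ k ∈ K, k • (g • x) = g • x) →
      K.map (MulAut.conj g⁻¹).toMonoidHom ≤ MulAction.stabilizer G x := by
    rintro g hg _ ⟨k, hk, rfl⟩
    simp [MulAction.mem_stabilizer_iff, mul_smul, hg k hk]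
  constructor
  · intro h g hg
    rw [← inv_inv g] at hg
    obtain ⟨n, hn, hnx⟩ := h x (g⁻¹ • x) (fun k hk => hK hk) (hfix g⁻¹ hg)
    refine ⟨g * n, ?_, ?_⟩
    · rw [MulAction.mem_stabilizer_iff, mul_smul, hnx, smul_inv_smul]
    · conv_lhs => rw [← Subgroup.mem_normalizer_iff_map_conj_eq.1 hn, Subgroup.map_map]
      congr 1
      ext y; simp [mul_assoc]
  · intro h a b ha hb
    have hto : ∀ a : X, (∀ k ∈ K, k • a = a) → ∃ n ∈ Subgroup.normalizer (K : Set G), n • x = a := by
      intro a ha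
      obtain ⟨u, rfl⟩ := htrans x a
      obtain ⟨h₁, hh, he⟩ := h u⁻¹ (hfix' u ha)
      refine ⟨u * h₁, ?_, by rw [mul_smul, MulAction.mem_stabilizer_iff.1 hh]⟩
      rw [Subgroup.mem_normalizer_iff_map_conj_eq]
      have h2 := congrArg (Subgroup.map (MulAut.conj u).toMonoidHom) he
      rw [Subgroup.map_map, Subgroup.map_map] at h2
      convert h2.symm using 1
      · congr 1; ext y; simp [mul_assoc]
      · conv_lhs => rw [← Subgroup.map_id K]
        congr 1; ext y; simp [mul_assoc]
    obtain ⟨m, hm, rfl⟩ := hto a ha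
    obtain ⟨n, hn, rfl⟩ := hto b hb
    exact ⟨n * m⁻¹, mul_mem hn (inv_mem hm), by rw [mul_smul, inv_smul_smul]⟩

end Cfsg.Agent.S3760
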