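import Cfsg.Statements.S3762
import Cfsg.Agent.Lib.FGStruct.SymplecticType
import Cfsg.Agent.S3761

set_option autoImplicit false
open Cfsg

namespace Cfsg.Agent.S3762

open scoped commutatorElement
open Cfsg.Agent

section Aux

variable {G : Type*} [Group G]

theorem char_inf {A B : Subgroup G} (hA : A.Characteristic) (hB : B.Characteristic) : (A ⊓ B).Characteristic := by
  rw [Subgroup.characteristic_iff_map_le] at hA hB ⊢
  exact fun φ => le_inf ((Subgroup.map_mono inf_le_left).trans (hA φ)) ((Subgroup.map_mono inf_le_right).trans (hB φ))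

theorem char_centralizer {A : Subgroup G} (hA : A.Characteristic) :
    (Subgroup.centralizer (A : Set G)).Characteristic := by
  rw [Subgroup.characteristic_iff_map_le] at hA ⊢
  rintro φ _ ⟨x, hx, rfl⟩
  refine Subgroup.mem_centralizer_iff.2 fun a ha => ?_
  have ha' : φ.symm a ∈ A := hA φ.symm ⟨a, ha, rfl⟩
  simpa using congrArg φ (Subgroup.mem_centralizer_iff.1 hx _ ha')

theorem char_map {C : Subgroup G} (hC : C.Characteristic) (A : Subgroup C) (hA : A.Characteristic) :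
    (A.map C.subtype).Characteristic := by
  rw [Subgroup.characteristic_iff_map_le] at hA hC ⊢
  intro φ
  have hm : ∀ (ψ : G ≃* G), ∀ x ∈ C, ψ x ∈ C := fun ψ x hx => hC ψ ⟨x, hx, rfl⟩
  let ψ : C ≃* C :=
  { toFun := fun x => ⟨φ x, hm φ x x.2⟩
    invFun := fun x => ⟨φ.symm x, hm φ.symm x x.2⟩
    left_inv := fun x => Subtype.ext (φ.symm_apply_apply (x : G))
    right_inv := fun x => Subtype.ext (φ.apply_symm_apply (x : G))
    map_mul' := fun x y => Subtype.ext (map_mul φ (x : G) (y : G)) }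
  rintro _ ⟨_, ⟨a, ha, rfl⟩, rfl⟩
  exact ⟨ψ a, hA ψ ⟨a, ha, rfl⟩, rfl⟩

theorem coprime_orderOf [Finite G] {p : ℕ} (hp : p.Prime) (hG : IsPGroup p G) (x : G) {i : ℤ}
    (hi : ¬ (p : ℤ) ∣ i) : ∃ t : ℤ, x = (x ^ i) ^ t := by
  haveI := Fact.mk hp
  obtain ⟨m, hm⟩ := IsPGroup.iff_orderOf.1 hG x
  obtain ⟨s, t, hst⟩ := IsCoprime.pow_left (m := m) ((Nat.prime_iff_prime_int.1 hp).coprime_iff_not_dvd.2 hi)
  refine ⟨t, ?_⟩
  have h1 : x ^ ((p : ℤ) ^ m * s) = 1 := by
    rw [← orderOf_dvd_iff_zpow_eq_one, hm]; push_cast; exact dvd_mul_right _ _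
  calc x = x ^ ((p : ℤ) ^ m * s + i * t) := by
        rw [show (p : ℤ) ^ m * s + i * t = 1 by linear_combination hst, zpow_one]
    _ = _ := by rw [zpow_add, h1, one_mul, zpow_mul]

/-- The `j`-th power of `u ^ i * s`. -/
theorem twist {u s : G} {k : ℤ} (hk : s * u * s⁻¹ = u ^ k) (i : ℤ) (j : ℕ) :
    (u ^ i * s) ^ j = u ^ (i * ∑ l ∈ Finset.range j, k ^ l) * s ^ j := by
  have hit : ∀ l : ℕ, s ^ l * u * (s ^ l)⁻¹ = u ^ k ^ l := by
    intro l
    induction l with
    | zero => simp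
    | succ l ih =>
      calc s ^ (l + 1) * u * (s ^ (l + 1))⁻¹ = s * (s ^ l * u * (s ^ l)⁻¹) * s⁻¹ := by
            rw [pow_succ']; group
        _ = _ := by rw [ih, ← conj_zpow, hk, ← zpow_mul, ← pow_succ']
  induction j with
  | zero => simp
  | succ j ih =>
    rw [pow_succ, ih, Finset.sum_range_succ]
    calc u ^ (i * ∑ l ∈ Finset.range j, k ^ l) * s ^ j * (u ^ i * s)
        = u ^ (i * ∑ l ∈ Finset.range j, k ^ l) * (s ^ j * u ^ i * (s ^ j)⁻¹) * s ^ (j + 1) := by
          rw [pow_succ]; group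
      _ = _ := by
          rw [← conj_zpow, hit, ← zpow_mul, ← zpow_add]; congr 2; ring

end Aux

/-- Let G be a finite p-group of symplectic type: every characteristic abelian subgroup of G is cyclic. Then G = E ∗ R is a central product of subgroups E and R (they commute elementwise and generate G) where E is extraspecial or trivial, and R is cyclic, or p = 2 and R is dihedral, semidihedral or generalized quaternion of order at least 16. -/
theorem result {G : Type*} [Group G] [Finite G] {p : ℕ} [Fact p.Prime] (hG : IsPGroup p G) (hsymp : ∀ A : Subgroup G, A.Characteristic → IsMulCommutative A → IsCyclic A) : ∃ E R : Subgroup G, (∀ e ∈ E, ∀ r ∈ R, e * r = r * e) ∧ E ⊔ R = ⊤ ∧ (E = ⊥ ∨ Cfsg.IsExtraspecial p ↥E) ∧ (IsCyclic R ∨ (p = 2 ∧ 16 ≤ Nat.card R ∧ ((∃ m : ℕ, Nonempty (↥R ≃* DihedralGroup m)) ∨ (∃ m : ℕ, Nonempty (↥R ≃* QuaternionGroup m)) ∨ Cfsg.IsQuasiDihedral ↥R))) := by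
  classical
  rcases subsingleton_or_nontrivial G with hsub | hnt
  · exact ⟨⊥, ⊤, fun e he r _ => by simp [Subgroup.mem_bot.1 he], bot_sup_eq _, Or.inl rfl, Or.inl inferInstance⟩
  have hp : p.Prime := Fact.out
  haveI := hG.isNilpotent
  -- a central element of order p
  obtain ⟨z, hzc, hz⟩ : ∃ z ∈ Subgroup.center G, orderOf z = p := by
    haveI := hG.center_nontrivial
    obtain ⟨m, hm0, hm⟩ := (IsPGroup.nontrivial_iff_card (hG.to_subgroup (Subgroup.center G))).1 inferInstance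
    obtain ⟨z, hz⟩ := exists_prime_orderOf_dvd_card' (G := ↥(Subgroup.center G)) p (hm ▸ dvd_pow_self p hm0.ne')
    exact ⟨z, z.2, by rwa [Subgroup.orderOf_coe]⟩
  set Z1 := Subgroup.zpowers z with hZ1
  -- the Frattini subgroup is cyclic
  set U := frattini G with hUdef
  have hUch : U.Characteristic := inferInstance
  haveI hUn : U.Normal := inferInstance
  haveI hUc : IsCyclic U := SymplecticType.frattini_cyclic (p := p) _ G U rfl hG le_rfl
    (hsymp _ (char_inf hUch (char_centralizer hUch))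
      ⟨⟨fun x y => Subtype.ext (Subgroup.mem_centralizer_iff.1 y.2.2 _ x.2.1)⟩⟩)
  obtain ⟨u, hu⟩ := (Subgroup.isCyclic_iff_exists_zpowers_eq_top U).1 hUc
  have huU : u ∈ U := hu ▸ Subgroup.mem_zpowers u
  set C := Subgroup.centralizer (U : Set G) with hCdef
  have hCch : C.Characteristic := char_centralizer hUch
  have hmemC : ∀ x : G, Commute x u → x ∈ C := fun x hx => Subgroup.mem_centralizer_iff.2 fun y hy => by
    obtain ⟨i, rfl⟩ := Subgroup.mem_zpowers_iff.1 (hu.symm ▸ hy : y ∈ Subgroup.zpowers u)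
    exact (hx.zpow_right i).symm
  have hUC : U ≤ C := fun x hx => hmemC x (by
    obtain ⟨i, rfl⟩ := Subgroup.mem_zpowers_iff.1 (hu.symm ▸ hx : x ∈ Subgroup.zpowers u)
    exact (Commute.refl u).zpow_left i)
  have hzC : z ∈ C := Subgroup.center_le_centralizer _ hzc
  -- the centre of `C`
  set Wg := C ⊓ Subgroup.centralizer (C : Set G) with hWdef
  have hWch : Wg.Characteristic := char_inf hCch (char_centralizer hCch)
  haveI hWn : Wg.Normal := inferInstance
  have hWab : ∀ a ∈ Wg, ∀ b ∈ C, a * b = b * a := fun a ha b hb =>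
    (Subgroup.mem_centralizer_iff.1 ha.2 b hb).symm
  have hWc : IsCyclic Wg := hsymp _ hWch ⟨⟨fun x y => Subtype.ext (hWab x x.2 y y.2.1)⟩⟩
  have hUW : U ≤ Wg := fun x hx => ⟨hUC hx, Subgroup.mem_centralizer_iff.2 fun y hy =>
    (Subgroup.mem_centralizer_iff.1 hy x hx).symm⟩
  have hzW : z ∈ Wg := ⟨hzC, Subgroup.mem_centralizer_iff.2 fun y _ => Subgroup.mem_center_iff.1 hzc y⟩
  have hUmem : ∀ x y : G, ⁅x, y⁆ ∈ U := fun x y => SolvStruct.commutator_le_frattini G
    (Subgroup.commutator_mem_commutator (Subgroup.mem_top x) (Subgroup.mem_top y))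
  have hUpow : ∀ x : G, x ^ p ∈ U := PGroupBasics.pow_mem_frattini hG
  have hZ1small : ∀ x ∈ Wg, x ^ p = 1 → x ∈ Z1 := fun x hx hxp =>
    SymplecticType.mem_zpowers_of_cyclic hp hWc hzW hz hx hxp
  have hCcomm : ∀ x ∈ C, ∀ y ∈ C, ⁅x, y⁆ ∈ Z1 := fun x hx y hy => by
    refine hZ1small _ (hUW (hUmem x y)) ?_
    have h1 : Commute ⁅x, y⁆ y := hWab _ (hUW (hUmem x y)) y hy
    rw [← PGroupBasics.commutator_pow h1, commutatorElement_eq_one_iff_mul_comm]
    exact (hWab _ (hUW (hUpow y)) x hx).symm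
  -- the extraspecial part
  obtain ⟨E, hEC, hCE, hEW, hEp, hEprop⟩ : ∃ E : Subgroup G, E ≤ C ∧ C ≤ E ⊔ Wg ∧ E ⊓ Wg ≤ Z1 ∧
      (∀ x ∈ E, x ^ p ∈ Z1) ∧ (E = ⊥ ∨ z ∈ E ∧ ¬ E ≤ Z1) := by
    set z' : C := ⟨z, hzC⟩
    have hz' : orderOf z' = p := by rw [Subgroup.orderOf_mk, hz]
    have hcenter : ∀ x : C, x ∈ Subgroup.center C ↔ (x : G) ∈ Wg := fun x => by
      rw [Subgroup.mem_center_iff]
      exact ⟨fun h => ⟨x.2, Subgroup.mem_centralizer_iff.2 fun y hy => congrArg Subtype.val (h ⟨y, hy⟩)⟩,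
        fun h y => Subtype.ext (hWab x h y y.2).symm⟩
    have hz1 : ∀ x : C, (x : G) ∈ Z1 ↔ x ∈ Subgroup.zpowers z' := fun x => by
      constructor
      · intro hx
        obtain ⟨i, hi⟩ := Subgroup.mem_zpowers_iff.1 hx
        exact ⟨i, Subtype.ext (by simpa [z'] using hi)⟩
      · rintro ⟨i, rfl⟩
        simp [z', hZ1]
    have hcharC : ∀ A : Subgroup C, A.Characteristic → IsMulCommutative A → IsCyclic A := by
      intro A hA hAc
      haveI := hsymp _ (char_map hCch A hA) inferInstance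
      exact isCyclic_of_surjective (A.equivMapOfInjective C.subtype C.subtype_injective).symm.toMonoidHom
        (MulEquiv.surjective _)
    obtain ⟨E0, hzE, hEW, hEp, htop⟩ := SymplecticType.exists_complement (hG.to_subgroup C) hz'
      ((hcenter z').2 hzW) (hcharC _ inferInstance inferInstance)
      (fun x y => (hz1 _).1 (by simpa [commutatorElement_def] using hCcomm x x.2 y y.2))
      (fun x => (hcenter _).2 (by rw [Subgroup.coe_pow]; exact hUW (hUpow _))) hcharC
    have hmapc : (Subgroup.center C).map C.subtype ≤ Wg := by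
      rintro _ ⟨x, hx, rfl⟩; exact (hcenter x).1 hx
    have hC : C ≤ E0.map C.subtype ⊔ Wg := by
      calc C = (⊤ : Subgroup C).map C.subtype := by rw [← MonoidHom.range_eq_map, Subgroup.range_subtype]
        _ = E0.map C.subtype ⊔ (Subgroup.center C).map C.subtype := by rw [← htop, Subgroup.map_sup]
        _ ≤ _ := sup_le_sup_left hmapc _
    by_cases hsmall : E0.map C.subtype ≤ Z1
    · refine ⟨⊥, bot_le, hC.trans (sup_le ?_ le_sup_right), bot_le.trans' inf_le_left, ?_, Or.inl rfl⟩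
      · exact (hsmall.trans (Subgroup.zpowers_le.2 hzW)).trans le_sup_right
      · intro x hx
        rw [Subgroup.mem_bot.1 hx, one_pow]; exact one_mem _
    refine ⟨E0.map C.subtype, Subgroup.map_subtype_le _, hC, ?_, ?_, Or.inr ⟨⟨z', hzE, rfl⟩, hsmall⟩⟩
    · rintro _ ⟨⟨x, hx, rfl⟩, hxW⟩
      exact (hz1 x).2 (hEW ⟨hx, (hcenter x).2 hxW⟩)
    · rintro _ ⟨x, hx, rfl⟩
      exact (hz1 _).2 (hEp x hx)
  have hEcen : ∀ x ∈ E, (∀ y ∈ E, x * y = y * x) → x ∈ Z1 := fun x hx h => hEW ⟨hx, hEC hx,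
    Subgroup.mem_centralizer_iff.2 fun y hy => by
      have hle : E ⊔ Wg ≤ Subgroup.centralizer {x} := sup_le
        (fun e he => Subgroup.mem_centralizer_singleton_iff.2 (h e he).symm)
        (fun w hw => Subgroup.mem_centralizer_singleton_iff.2 (hWab w hw x (hEC hx)))
      exact Subgroup.mem_centralizer_singleton_iff.1 (hle (hCE hy))⟩
  have hGE : ∀ g : G, ∀ e ∈ E, ⁅g, e⁆ ∈ Z1 := fun g e he => by
    refine hZ1small _ (hUW (hUmem g e)) ?_
    have hce : Commute ⁅g, e⁆ e := hWab _ (hUW (hUmem g e)) e (hEC he)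
    have h1 : g * e * g⁻¹ = ⁅g, e⁆ * e := by rw [commutatorElement_def]; group
    have h2 := congrArg (fun w => w ^ p) h1
    simp only [conj_pow, hce.mul_pow] at h2
    have hep : e ^ p ∈ Subgroup.center G := (Subgroup.zpowers_le.2 hzc) (hEp e he)
    rw [Subgroup.mem_center_iff.1 hep g, mul_inv_cancel_right] at h2
    exact (mul_eq_right.1 h2.symm)
  set R := Subgroup.centralizer (E : Set G) with hRdef
  have hcommER : ∀ e ∈ E, ∀ r ∈ R, e * r = r * e := fun e he r hr => Subgroup.mem_centralizer_iff.1 hr e he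
  have hER : E ⊔ R = ⊤ := by
    rcases hEprop with hbot | ⟨hzE, -⟩
    · refine eq_top_iff.2 fun x _ => Subgroup.mem_sup_right (Subgroup.mem_centralizer_iff.2 fun e he => ?_)
      rw [hbot] at he
      simp [Subgroup.mem_bot.1 he]
    have hidx := SymplecticType.index_centralizer_le hG hz E Z1 (Subgroup.zpowers_le.2 hzE)
      (Subgroup.zpowers_le.2 hzc) hGE
    have hRE : R ⊓ E ≤ Z1 := fun x hx => hEcen x hx.2 fun y hy => (hcommER y hy x hx.1).symm
    have h1 : Nat.card ↥(R.subgroupOf E) * R.relIndex E = Nat.card E := (R.subgroupOf E).card_mul_index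
    have h2 : Nat.card ↥(R.subgroupOf E) ≤ Nat.card Z1 := by
      rw [← Subgroup.inf_subgroupOf_right, Nat.card_congr (Subgroup.subgroupOfEquivOfLe inf_le_right).toEquiv]
      exact Subgroup.card_le_of_le hRE
    set S := E ⊔ R
    have h3 : R.relIndex E ≤ R.relIndex S :=
      Subgroup.relIndex_le_of_le_right le_sup_left Subgroup.index_ne_zero_of_finite
    have h4 : R.index = R.relIndex S * S.index := (Subgroup.relIndex_mul_index le_sup_right).symm
    have hpos : 0 < R.relIndex S := Nat.pos_of_ne_zero Subgroup.index_ne_zero_of_finite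
    have h5 : R.index ≤ R.relIndex S := by
      refine le_trans ?_ h3
      refine Nat.le_of_mul_le_mul_right (hidx.trans ?_) (Nat.card_pos (α := Z1))
      rw [← h1, mul_comm]
      exact Nat.mul_le_mul_left _ h2
    rw [← Subgroup.index_eq_one]
    have h6 : 0 < S.index := Nat.pos_of_ne_zero Subgroup.index_ne_zero_of_finite
    by_contra hne
    have h8 := Nat.mul_le_mul_left (R.relIndex S) (show 2 ≤ S.index by omega)
    omega
  have hWR : Wg ≤ R := fun w hw => Subgroup.mem_centralizer_iff.2 fun e he => (hWab w hw e (hEC he)).symm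
  have hRC : ∀ x ∈ R, x ∈ C → x ∈ Wg := fun x hx hxC => ⟨hxC, Subgroup.mem_centralizer_iff.2 fun y hy => by
    have hle : E ⊔ Wg ≤ Subgroup.centralizer {x} := sup_le
      (fun e he => Subgroup.mem_centralizer_singleton_iff.2 (hcommER e he x hx))
      (fun w hw => Subgroup.mem_centralizer_singleton_iff.2 (hWab w hw x hxC))
    exact Subgroup.mem_centralizer_singleton_iff.1 (hle (hCE hy))⟩
  refine ⟨E, R, hcommER, hER, ?_, ?_⟩
  · rcases hEprop with h | ⟨hzE, hne⟩
    · exact Or.inl h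
    · exact Or.inr (SymplecticType.isExtraspecial_of hG hz E hzE (fun x _ => Subgroup.mem_center_iff.1 hzc x)
        hEcen (fun x hx y hy => hCcomm x (hEC hx) y (hEC hy)) hEp hne)
  by_cases hRle : R ≤ C
  · left
    have hle : R ≤ Wg := fun x hx => hRC x hx (hRle hx)
    haveI := hWc
    exact isCyclic_of_injective (Subgroup.inclusion hle) (Subgroup.inclusion_injective hle)
  obtain ⟨r₀, hr₀, hr₀C⟩ := SetLike.not_le_iff_exists.1 hRle
  have hup : u ^ p ≠ 1 := fun h => hr₀C (hmemC r₀ (Subgroup.mem_center_iff.1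
    ((Subgroup.zpowers_le.2 hzc) (hZ1small u (hUW huU) h)) r₀))
  have hdich : Wg ≤ U ∨ ∃ v ∈ Wg, v ^ p = u := by
    obtain ⟨w, hw⟩ := (Subgroup.isCyclic_iff_exists_zpowers_eq_top Wg).1 hWc
    obtain ⟨i, hi⟩ := Subgroup.mem_zpowers_iff.1 (hw.symm ▸ hUW huU : u ∈ Subgroup.zpowers w)
    by_cases hpi : (p : ℤ) ∣ i
    · obtain ⟨c, rfl⟩ := hpi
      refine Or.inr ⟨w ^ c, zpow_mem (hw ▸ Subgroup.mem_zpowers w) _, ?_⟩
      rw [← hi, mul_comm, zpow_mul, zpow_natCast]
    · left
      obtain ⟨t, ht⟩ := coprime_orderOf hp hG w hpi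
      rw [← hw]
      exact Subgroup.zpowers_le.2 (by rw [ht, hi]; exact zpow_mem huU _)
  rcases hdich with hWU | ⟨v, hv, hvu⟩
  · -- the Frattini subgroup would be too small
    exfalso
    obtain ⟨m, hm⟩ := IsPGroup.iff_orderOf.1 hG u
    have hiff : ∀ c : ℤ, u ^ c = 1 ↔ (p : ℤ) ^ m ∣ c := S3761.zpow_iff hm
    have hm2 : 2 ≤ m := by
      by_contra h
      apply hup
      rw [← zpow_natCast, hiff]
      exact (pow_dvd_pow _ (show m ≤ 1 by omega)).trans (by rw [pow_one])
    have hp0 : (p : ℤ) ≠ 0 := by exact_mod_cast hp.ne_zero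
    set N := Subgroup.zpowers (u ^ p) with hN
    have hconj : ∀ g : G, ∃ k : ℤ, g * u * g⁻¹ = u ^ k ∧ (p : ℤ) ∣ k - 1 := by
      intro g
      obtain ⟨k, hk⟩ := Subgroup.mem_zpowers_iff.1
        (hu.symm ▸ hUn.conj_mem u huU g : g * u * g⁻¹ ∈ Subgroup.zpowers u)
      refine ⟨k, hk.symm, ?_⟩
      have hit : ∀ l : ℕ, g ^ l * u * (g ^ l)⁻¹ = u ^ k ^ l := by
        intro l
        induction l with
        | zero => simp
        | succ l ih =>
          calc g ^ (l + 1) * u * (g ^ (l + 1))⁻¹ = g * (g ^ l * u * (g ^ l)⁻¹) * g⁻¹ := by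
                rw [pow_succ']; group
            _ = _ := by rw [ih, ← conj_zpow, ← hk, ← zpow_mul, ← pow_succ']
      obtain ⟨j, hj⟩ := hG g
      have h1 := hit (p ^ j)
      rw [hj, one_mul, inv_one, mul_one] at h1
      have h2 : u ^ (k ^ p ^ j - 1) = 1 := by rw [zpow_sub, ← h1, zpow_one, mul_inv_cancel]
      rw [hiff] at h2
      have h3 := (dvd_pow_self (p : ℤ) (by omega : m ≠ 0)).trans h2
      rw [← ZMod.intCast_zmod_eq_zero_iff_dvd] at h3 ⊢
      push_cast at h3 ⊢
      rwa [ZMod.pow_card_pow] at h3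
    haveI hNn : N.Normal := ⟨fun x hx g => by
      obtain ⟨i, rfl⟩ := Subgroup.mem_zpowers_iff.1 hx
      obtain ⟨k, hk, -⟩ := hconj g
      rw [← conj_zpow, ← conj_pow, hk, ← zpow_natCast, zpow_comm, zpow_natCast]
      have he : ((u ^ k) ^ i) ^ p = ((u ^ p) ^ k) ^ i := by
        simp only [← zpow_natCast, ← zpow_mul]
        congr 1
        ring
      rw [he]
      exact zpow_mem (zpow_mem (Subgroup.mem_zpowers (u ^ p)) k) i⟩
    have hzN : Z1 ≤ N := by
      refine Subgroup.zpowers_le.2 ?_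
      obtain ⟨i, hi⟩ := Subgroup.mem_zpowers_iff.1 (hu.symm ▸ hWU hzW : z ∈ Subgroup.zpowers u)
      by_cases hpi : (p : ℤ) ∣ i
      · obtain ⟨c, rfl⟩ := hpi
        exact ⟨c, by simp only; rw [← hi, zpow_mul, zpow_natCast]⟩
      · exfalso
        obtain ⟨t, ht⟩ := coprime_orderOf hp hG u hpi
        apply hup
        rw [ht, hi, ← zpow_natCast, ← zpow_mul, mul_comm, zpow_mul, zpow_natCast, ← hz, pow_orderOf_eq_one, one_zpow]
    have huN : u ∉ N := by
      intro h
      obtain ⟨j, hj⟩ := Subgroup.mem_zpowers_iff.1 h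
      have h1 : u ^ ((p : ℤ) * j - 1) = 1 := by
        rw [zpow_sub, zpow_mul, zpow_natCast, hj, zpow_one, mul_inv_cancel]
      rw [hiff] at h1
      have h2 := (dvd_pow_self (p : ℤ) (by omega : m ≠ 0)).trans h1
      rw [dvd_sub_right (dvd_mul_right _ _)] at h2
      exact (Nat.prime_iff_prime_int.1 hp).not_dvd_one h2
    have hRp : ∀ r ∈ R, r ^ p ∈ N := by
      intro r hr
      obtain ⟨i, hi⟩ := Subgroup.mem_zpowers_iff.1 (hu.symm ▸ hUpow r : r ^ p ∈ Subgroup.zpowers u)
      by_cases hpi : (p : ℤ) ∣ i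
      · obtain ⟨c, rfl⟩ := hpi
        exact ⟨c, by simp only; rw [← hi, zpow_mul, zpow_natCast]⟩
      · obtain ⟨t, ht⟩ := coprime_orderOf hp hG u hpi
        have hru : Commute r u := by
          rw [ht, hi]; exact ((Commute.refl r).pow_right p).zpow_right t
        obtain ⟨j, hj⟩ := Subgroup.mem_zpowers_iff.1
          (hu.symm ▸ hWU (hRC r hr (hmemC r hru)) : r ∈ Subgroup.zpowers u)
        exact ⟨j, by simp only; rw [← hj, ← zpow_natCast (u ^ j), zpow_comm, zpow_natCast]⟩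
    haveI hEn : E.Normal := ⟨fun e he g => by
      rcases hEprop with hbot | ⟨hzE, -⟩
      · rw [hbot, Subgroup.mem_bot] at he ⊢
        rw [he, mul_one, mul_inv_cancel]
      · rw [show g * e * g⁻¹ = ⁅g, e⁆ * e by rw [commutatorElement_def]; group]
        exact mul_mem ((Subgroup.zpowers_le.2 hzE) (hGE g e he)) he⟩
    have hdec : ∀ x : G, ∃ e ∈ E, ∃ r ∈ R, e * r = x := fun x =>
      Subgroup.mem_sup_of_normal_left.1 (hER ▸ Subgroup.mem_top x)
    have hpow : ∀ x : G, x ^ p ∈ N := by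
      intro x
      obtain ⟨e, he, r, hr, rfl⟩ := hdec x
      rw [(show Commute e r from hcommER e he r hr).mul_pow]
      exact mul_mem (hzN (hEp e he)) (hRp r hr)
    refine huN (LEFrattini.frattini_le (p := p) ?_ hpow huU)
    intro x y
    by_cases hp2 : p = 2
    · subst hp2
      have e : ⁅x, y⁆ = (x * y) ^ 2 * (y⁻¹ * (x ^ 2)⁻¹ * y⁻¹⁻¹) * (y ^ 2)⁻¹ := by
        rw [commutatorElement_def, pow_two, pow_two, pow_two]; group
      rw [e]
      exact mul_mem (mul_mem (hpow _) (hNn.conj_mem _ (inv_mem (hpow x)) _)) (inv_mem (hpow y))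
    obtain ⟨e, he, r, hr, rfl⟩ := hdec x
    obtain ⟨f, hf, s, hs, rfl⟩ := hdec y
    have hc : ⁅r, s⁆ ∈ R := by
      rw [commutatorElement_def]; exact mul_mem (mul_mem (mul_mem hr hs) (inv_mem hr)) (inv_mem hs)
    have hsplit : ⁅e * r, f * s⁆ = ⁅e, f⁆ * ⁅r, s⁆ := by
      simp only [commutatorElement_def]
      calc e * r * (f * s) * (e * r)⁻¹ * (f * s)⁻¹
          = e * (r * f) * (s * r⁻¹ * e⁻¹) * (s⁻¹ * f⁻¹) := by group
        _ = e * (f * r) * (s * r⁻¹ * e⁻¹) * (s⁻¹ * f⁻¹) := by rw [hcommER f hf r hr]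
        _ = e * f * (r * s * r⁻¹) * (e⁻¹ * s⁻¹) * f⁻¹ := by group
        _ = e * f * (r * s * r⁻¹) * (s⁻¹ * e⁻¹) * f⁻¹ := by
          rw [hcommER _ (inv_mem he) _ (inv_mem hs)]
        _ = e * f * ((r * s * r⁻¹ * s⁻¹) * e⁻¹) * f⁻¹ := by group
        _ = e * f * (e⁻¹ * (r * s * r⁻¹ * s⁻¹)) * f⁻¹ := by
          rw [← commutatorElement_def r s, hcommER _ (inv_mem he) _ hc]
        _ = e * f * e⁻¹ * ((r * s * r⁻¹ * s⁻¹) * f⁻¹) := by group
        _ = e * f * e⁻¹ * (f⁻¹ * (r * s * r⁻¹ * s⁻¹)) := by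
          rw [← commutatorElement_def r s, hcommER _ (inv_mem hf) _ hc]
        _ = _ := by group
    rw [hsplit]
    refine mul_mem (hzN (hCcomm e (hEC he) f (hEC hf))) ?_
    obtain ⟨i, hi⟩ := Subgroup.mem_zpowers_iff.1 (hu.symm ▸ hUmem r s : ⁅r, s⁆ ∈ Subgroup.zpowers u)
    by_cases hpi : (p : ℤ) ∣ i
    · obtain ⟨c, rfl⟩ := hpi
      exact ⟨c, by simp only; rw [← hi, zpow_mul, zpow_natCast]⟩
    exfalso
    obtain ⟨k, hk, b, hb⟩ := hconj s
    obtain ⟨l, hl, l', hl'⟩ := hconj r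
    obtain ⟨t, ht⟩ := Subgroup.mem_zpowers_iff.1 (hRp s hs)
    have hrs : r * s * r⁻¹ = u ^ i * s := by rw [hi, commutatorElement_def]; group
    have h1 := congrArg (fun w => w ^ p) hrs
    simp only [conj_pow, twist hk] at h1
    rw [← ht, ← zpow_natCast u p, ← zpow_mul, ← conj_zpow, hl, ← zpow_mul, ← zpow_add] at h1
    have h2 : u ^ (l * ((p : ℤ) * t) - (i * ∑ x ∈ Finset.range p, k ^ x + (p : ℤ) * t)) = 1 := by
      rw [zpow_sub, h1, mul_inv_cancel]
    rw [hiff] at h2
    obtain ⟨c, hc'⟩ := odd_sq_dvd_geom_sum₂_sub (R := ℤ) (a := 1) (b := b) (hp.odd_of_ne_two hp2)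
    simp only [one_pow, mul_one] at hc'
    have hk' : k = 1 + (p : ℤ) * b := by linear_combination hb
    rw [← hk'] at hc'
    have h3 : (p : ℤ) ^ 2 ∣ (p : ℤ) * (p * l' * t - i * (1 + p * c)) := by
      refine ((pow_dvd_pow (p : ℤ) hm2).trans h2).trans (dvd_of_eq ?_)
      linear_combination (-i) * hc' + ((p : ℤ) * t) * hl'
    rw [pow_two, mul_dvd_mul_iff_left hp0, mul_assoc, dvd_sub_right (dvd_mul_right _ _)] at h3
    rcases (Nat.prime_iff_prime_int.1 hp).dvd_or_dvd h3 with h | h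
    · exact hpi h
    · rw [dvd_add_left (dvd_mul_right _ _)] at h
      exact (Nat.prime_iff_prime_int.1 hp).not_dvd_one h
  · -- `R` has a self-centralising cyclic normal subgroup
    right
    set W' := Wg.subgroupOf R with hW'
    haveI : W'.Normal := inferInstance
    have hW'c : IsCyclic W' := by
      haveI := hWc
      exact isCyclic_of_surjective (Subgroup.subgroupOfEquivOfLe hWR).symm.toMonoidHom (MulEquiv.surjective _)
    obtain ⟨n, hn⟩ := IsPGroup.iff_card.1 ((hG.to_subgroup R).to_subgroup W')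
    have huW' : (⟨u, hWR (hUW huU)⟩ : R) ∈ W' := Subgroup.mem_subgroupOf.2 (hUW huU)
    have hcent : Subgroup.centralizer (W' : Set R) = W' := by
      refine le_antisymm ?_ fun x hx => ?_
      · intro x hx
        refine Subgroup.mem_subgroupOf.2 (hRC x x.2 (hmemC _ ?_))
        exact (congrArg Subtype.val (Subgroup.mem_centralizer_iff.1 hx _ huW')).symm
      · exact Subgroup.mem_centralizer_iff.2 fun y hy => Subtype.ext
          (hWab _ (Subgroup.mem_subgroupOf.1 hy) _ (Subgroup.mem_subgroupOf.1 hx).1)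
    have hna : ¬ IsMulCommutative R := fun h => hr₀C (hmemC r₀
      (congrArg Subtype.val (h.is_comm.comm (⟨r₀, hr₀⟩ : R) ⟨u, hWR (hUW huU)⟩)))
    rcases S3761.result (hG.to_subgroup R) hna W' hW'c n hn hcent with ⟨h2, hcard, htype⟩ | ⟨hrel, -, -, -⟩
    · refine ⟨h2, ?_, htype⟩
      subst h2
      obtain ⟨j, hj⟩ := IsPGroup.iff_orderOf.1 hG v
      have hj3 : 3 ≤ j := by
        by_contra hlt
        apply hup
        rw [← hvu, ← pow_mul, ← orderOf_dvd_iff_pow_eq_one, hj]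
        exact (pow_dvd_pow 2 (show j ≤ 2 by omega))
      have h1 : 2 ^ j ≤ 2 ^ n := by
        rw [← hn, ← hj, ← Subgroup.orderOf_mk (H := R) v (hWR hv), ← Nat.card_zpowers]
        exact Subgroup.card_le_of_le (Subgroup.zpowers_le.2 (Subgroup.mem_subgroupOf.2 hv))
      rw [hcard]
      calc 16 = 2 ^ 4 := rfl
        _ ≤ _ := Nat.pow_le_pow_right (by norm_num) (by
          have := (Nat.pow_le_pow_iff_right (by norm_num : 1 < 2)).1 h1
          omega)
    · exfalso
      have hle : Subgroup.centralizer (Cfsg.powerClosure p 1 W' : Set R) ≤ W' := by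
        intro x hx
        refine Subgroup.mem_subgroupOf.2 (hRC x x.2 (hmemC _ ?_))
        have hmem : (⟨u, hWR (hUW huU)⟩ : R) ∈ Cfsg.powerClosure p 1 W' :=
          Subgroup.subset_closure ⟨⟨v, hWR hv⟩, Subgroup.mem_subgroupOf.2 hv,
            Subtype.ext (by simp [hvu])⟩
        exact (congrArg Subtype.val (Subgroup.mem_centralizer_iff.1 hx _ hmem)).symm
      rw [Subgroup.relIndex_eq_one.2 hle] at hrel
      exact hp.one_lt.ne hrel

end Cfsg.Agent.S3762
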