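import Cfsg.Statements.S3763
import Cfsg.Agent.Lib.Transfer.ExtraspecialUnique
import Cfsg.Agent.Lib.FGBasics.Extraspecial

set_option autoImplicit false
open Cfsg

namespace Cfsg.Agent.S3763

open XSUnique

universe u v

/-- There is an elementary abelian subgroup of order at least `2 ^ k`. -/
def Has (k : ℕ) (E : Type u) [Group E] : Prop :=
  ∃ A : Subgroup E, IsMulCommutative A ∧ (∀ a ∈ A, a ^ 2 = 1) ∧ 2 ^ k ≤ Nat.card A

variable {E : Type u} [Group E] [Finite E] {z : E}

theorem isPGroupXS (h : XS 2 z) : IsPGroup 2 E := fun x => by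
  refine ⟨2, ?_⟩
  obtain ⟨s, hs⟩ := h.pow x
  rw [pow_two, pow_mul, ← hs, ← zpow_natCast, ← zpow_mul, mul_comm, zpow_mul, zpow_natCast, h.zpow_p, one_zpow]

theorem rankLE_iff (h : XS 2 z) (k : ℕ) : Cfsg.PRankLE 2 k E ↔ ¬ Has (k + 1) E := by
  haveI : Fact (Nat.Prime 2) := ⟨Nat.prime_two⟩
  constructor
  · rintro hk ⟨A, h1, h2, h3⟩
    have h4 := hk A h1 h2
    have : 2 ^ k < 2 ^ (k + 1) := Nat.pow_lt_pow_right (by norm_num) (by omega)
    omega
  · intro hk A h1 h2
    obtain ⟨j, hj⟩ := IsPGroup.iff_card.1 ((isPGroupXS h).to_subgroup A)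
    rw [hj]
    refine Nat.pow_le_pow_right (by norm_num) (Nat.le_of_not_lt fun hlt => hk ⟨A, h1, h2, ?_⟩)
    rw [hj]
    exact Nat.pow_le_pow_right (by norm_num) hlt

theorem two_le_card (h : XS 2 z) : 2 ≤ Nat.card E := by
  have h1 := Nat.le_of_dvd Nat.card_pos (orderOf_dvd_natCard z)
  rwa [h.ord] at h1

theorem sq_cases (h : XS 2 z) (x : E) : x * x = 1 ∨ x * x = z := by
  obtain ⟨s, hs⟩ := h.pow x
  have hs' : z ^ s = x * x := hs.trans (pow_two x)
  have hz2 : z * z = 1 := by rw [← pow_two]; exact h.zpow_p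
  rw [← hs']
  rcases Int.even_or_odd' s with ⟨m, rfl | rfl⟩
  · left; rw [zpow_mul, zpow_two, hz2, one_zpow]
  · right; rw [zpow_add, zpow_mul, zpow_two, hz2, one_zpow, one_mul, zpow_one]

theorem comm_cases (h : XS 2 z) (x y : E) (hne : x * y ≠ y * x) : y * x = x * y * z := by
  obtain ⟨s, hs⟩ := h.comm x y
  have hz2 : z * z = 1 := by rw [← pow_two]; exact h.zpow_p
  rcases Int.even_or_odd' s with ⟨m, rfl | rfl⟩
  · rw [zpow_mul, zpow_two, hz2, one_zpow, mul_one] at hs
    exact absurd hs.symm hne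
  · rwa [zpow_add, zpow_mul, zpow_two, hz2, one_zpow, one_mul, zpow_one] at hs

/-- An elementary subgroup of order four gives a dihedral pair. -/
theorem pair_of_has (h : XS 2 z) (h4 : Has 2 E) :
    ∃ a b : E, b * a = a * b * z ∧ a ^ 2 = 1 ∧ b ^ 2 = 1 := by
  obtain ⟨A, hA, hA2, hAc⟩ := h4
  obtain ⟨x, hxA, hxz⟩ : ∃ x ∈ A, x ∉ Subgroup.zpowers z := by
    by_contra hne
    push Not at hne
    have := Nat.le_of_dvd Nat.card_pos (Subgroup.card_dvd_of_le (hne : A ≤ Subgroup.zpowers z))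
    rw [Nat.card_zpowers, h.ord] at this
    omega
  obtain ⟨y, hy⟩ : ∃ y, x * y ≠ y * x := by
    by_contra hne
    push Not at hne
    exact hxz (h.cen x hne)
  have hab := comm_cases h x y hy
  have hx2 := hA2 x hxA
  rcases sq_cases h y with hy2 | hy2
  · exact ⟨x, y, hab, hx2, by rw [pow_two]; exact hy2⟩
  · refine ⟨x, x * y, ?_, hx2, ?_⟩
    · rw [mul_assoc x y x, hab]; group
    · rw [pow_two] at hx2 ⊢
      calc x * y * (x * y) = x * (y * x) * y := by group
        _ = x * x * y * (z * y) := by rw [hab]; group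
        _ = y * (y * z) := by rw [hx2, h.central y]; group
        _ = y * y * z := by group
        _ = 1 := by rw [hy2, ← pow_two]; exact h.zpow_p

theorem has_up (h : XS 2 z) {a b : E} (hab : b * a = a * b * z) (ha : a ^ 2 = 1) {k : ℕ}
    (hk : Has k ↥(cent a b)) : Has (k + 1) E := by
  obtain ⟨B, hB, hB2, hBc⟩ := hk
  set B' := B.map (cent a b).subtype with hB'
  have hcomm : ∀ x ∈ B', a * x = x * a := by
    rintro _ ⟨x, -, rfl⟩
    exact (mem_cent.1 x.2).1
  have hBcom : ∀ x ∈ B', ∀ y ∈ B', x * y = y * x := by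
    rintro _ ⟨x, hx, rfl⟩ _ ⟨y, hy, rfl⟩
    exact congrArg (fun u : ↥B => ((u : ↥(cent a b)) : E)) (hB.is_comm.comm ⟨x, hx⟩ ⟨y, hy⟩)
  have hB'2 : ∀ x ∈ B', x ^ 2 = 1 := by
    rintro _ ⟨x, hx, rfl⟩
    rw [← map_pow, hB2 x hx, map_one]
  have haC : a ∉ cent a b := fun ha' => by
    have h1 := h.indep hab (i := 1) (j := 0) (by simpa using ha')
    norm_num at h1
  set A := Subgroup.closure ((B' : Set E) ∪ {a}) with hA
  have hAcomm : IsMulCommutative ↥A := by
    refine Subgroup.isMulCommutative_closure ?_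
    rintro x (hx | rfl) y (hy | rfl)
    · exact hBcom x hx y hy
    · exact (hcomm x hx).symm
    · exact hcomm y hy
    · rfl
  have hA2 : ∀ x ∈ A, x ^ 2 = 1 := by
    intro x hx
    induction hx using Subgroup.closure_induction with
    | mem x hx =>
      rcases hx with hx | rfl
      · exact hB'2 x hx
      · exact ha
    | one => exact one_pow 2
    | mul x y hx hy hx' hy' =>
      have hxy : Commute x y := congrArg Subtype.val (hAcomm.is_comm.comm ⟨x, hx⟩ ⟨y, hy⟩)
      rw [hxy.mul_pow, hx', hy', one_mul]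
    | inv x _ hx' => rw [inv_pow, hx', inv_one]
  refine ⟨A, hAcomm, hA2, ?_⟩
  have hlt : B' < A := lt_of_le_of_ne (fun x hx => Subgroup.subset_closure (Or.inl hx)) fun he => haC (by
    have : a ∈ B' := he ▸ Subgroup.subset_closure (Or.inr rfl)
    obtain ⟨x, -, hx⟩ := this
    have h5 : (x : E) ∈ cent a b := x.2
    rwa [show (x : E) = a from hx] at h5)
  obtain ⟨d, hd⟩ := Subgroup.card_dvd_of_le hlt.le
  have h2d : 2 ≤ d := by
    by_contra hd2
    have hne : Nat.card ↥A ≠ Nat.card ↥B' := fun he => hlt.ne (Subgroup.eq_of_le_of_card_ge hlt.le he.le)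
    interval_cases d
    · exact absurd hd (by simpa using (Nat.card_pos (α := ↥A)).ne')
    · exact hne (by rw [hd, mul_one])
  rw [hd, hB', Subgroup.card_map_of_injective (cent a b).subtype_injective, pow_succ]
  exact Nat.mul_le_mul hBc h2d

theorem has_down (h : XS 2 z) {a b : E} (hab : b * a = a * b * z) (ha : a ^ 2 = 1) (hb : b ^ 2 = 1)
    {k : ℕ} (hk : Has (k + 1) E) : Has k ↥(cent a b) := by
  obtain ⟨A, hA, hA2, hAc⟩ := hk
  set C := cent a b with hC
  set A0 := (A ⊓ C).subgroupOf C with hA0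
  have hA0c : IsMulCommutative ↥A0 := ⟨⟨fun x y => Subtype.ext (Subtype.ext
    (show (x : ↥C).1 * (y : ↥C).1 = (y : ↥C).1 * (x : ↥C).1 from congrArg Subtype.val (hA.is_comm.comm ⟨_, (Subgroup.mem_subgroupOf.1 x.2).1⟩
      ⟨_, (Subgroup.mem_subgroupOf.1 y.2).1⟩)))⟩⟩
  have hA02 : ∀ x ∈ A0, x ^ 2 = 1 := fun x hx =>
    Subtype.ext (by rw [Subgroup.coe_pow]; exact hA2 _ (Subgroup.mem_subgroupOf.1 hx).1)
  have hA0card : Nat.card ↥A0 = Nat.card ↥(A ⊓ C : Subgroup E) :=
    Nat.card_congr (Subgroup.subgroupOfEquivOfLe inf_le_right).toEquiv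
  set F : ↥A ⧸ C.subgroupOf A → E ⧸ C := Quotient.map' Subtype.val (fun x y hxy => by
    rw [QuotientGroup.leftRel_apply] at hxy ⊢
    exact Subgroup.mem_subgroupOf.1 hxy) with hF
  have hFinj : Function.Injective F := by
    intro p q hpq
    induction p using QuotientGroup.induction_on with
    | _ x =>
      induction q using QuotientGroup.induction_on with
      | _ y =>
        have h1 : ((x : E) : E ⧸ C) = ((y : E) : E ⧸ C) := hpq
        rw [QuotientGroup.eq] at h1 ⊢
        exact Subgroup.mem_subgroupOf.2 h1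
  have hidx : C.index = 4 := by
    have h1 := h.card_eq hab
    rw [← C.card_mul_index, mul_comm] at h1
    exact Nat.eq_of_mul_eq_mul_right Nat.card_pos h1
  have hprod : Nat.card ↥(A ⊓ C : Subgroup E) * (C.subgroupOf A).index = Nat.card ↥A := by
    rw [← (C.subgroupOf A).card_mul_index, ← Subgroup.inf_subgroupOf_left C A,
      Nat.card_congr (Subgroup.subgroupOfEquivOfLe inf_le_left).toEquiv]
  have hle : (C.subgroupOf A).index ≤ 4 := by
    rw [← hidx, Subgroup.index_eq_card, Subgroup.index_eq_card]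
    exact Nat.card_le_card_of_injective F hFinj
  have hpow : 2 ^ (k + 1) = 2 * 2 ^ k := by rw [pow_succ, mul_comm]
  by_cases hfull : (C.subgroupOf A).index = 4
  swap
  · refine ⟨A0, hA0c, hA02, ?_⟩
    rw [hA0card]
    by_contra hlt
    have hdvd : (C.subgroupOf A).index ∣ Nat.card ↥A := Dvd.intro_left _ hprod
    obtain ⟨j, hj⟩ := IsPGroup.iff_card.1 ((isPGroupXS h).to_subgroup A)
    haveI : Fact (Nat.Prime 2) := ⟨Nat.prime_two⟩
    rw [hj] at hdvd
    obtain ⟨i, -, hi⟩ := (Nat.dvd_prime_pow Nat.prime_two).1 hdvd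
    have hi2 : 2 ^ i ≤ 2 := by
      rcases i with _ | _ | _ | i
      · norm_num
      · norm_num
      · omega
      · have : 2 ^ 3 ≤ 2 ^ (i + 3) := Nat.pow_le_pow_right (by norm_num) (by omega)
        omega
    rw [hi] at hprod
    have : Nat.card ↥A ≤ Nat.card ↥(A ⊓ C : Subgroup E) * 2 := hprod ▸ Nat.mul_le_mul_left _ hi2
    omega
  have hFsurj : Function.Surjective F := by
    refine (Function.Injective.bijective_of_nat_card_le hFinj ?_).2
    rw [← Subgroup.index_eq_card, ← Subgroup.index_eq_card, hfull, hidx]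
  have key : ∀ g : E, ∃ c ∈ C, g * c ∈ A := by
    intro g
    obtain ⟨q, hq⟩ := hFsurj (g : E ⧸ C)
    induction q using QuotientGroup.induction_on with
    | _ x =>
      have h1 : ((g : E) : E ⧸ C) = ((x : E) : E ⧸ C) := hq.symm
      rw [QuotientGroup.eq] at h1
      exact ⟨g⁻¹ * x, h1, by rw [mul_inv_cancel_left]; exact x.2⟩
  obtain ⟨c₁, hc₁, hac⟩ := key a
  obtain ⟨c₂, hc₂, hbc⟩ := key b
  obtain ⟨h1a, h1b⟩ := mem_cent.1 hc₁
  obtain ⟨h2a, h2b⟩ := mem_cent.1 hc₂
  have hcc : ∀ x ∈ A, ∀ y ∈ A, x * y = y * x := fun x hx y hy =>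
    congrArg Subtype.val (hA.is_comm.comm ⟨x, hx⟩ ⟨y, hy⟩)
  have hc12 : c₁ ^ 2 = 1 := by
    have := hA2 _ hac
    rwa [(show Commute a c₁ from h1a).mul_pow, ha, one_mul] at this
  have hne : c₁ * c₂ ≠ c₂ * c₁ := by
    intro he
    have h3 : a * b = b * a := by
      have h4 := hcc _ hac _ hbc
      have e1 : a * c₁ * (b * c₂) = a * b * (c₁ * c₂) := by
        rw [mul_assoc, ← mul_assoc c₁, ← h1b]; group
      have e2 : b * c₂ * (a * c₁) = b * a * (c₂ * c₁) := by
        rw [mul_assoc, ← mul_assoc c₂, ← h2a]; group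
      rw [e1, e2, he] at h4
      exact mul_right_cancel h4
    rw [hab, left_eq_mul] at h3
    rw [← orderOf_eq_one_iff, h.ord] at h3
    omega
  have hc1A0 : ∀ x ∈ A0, (⟨c₁, hc₁⟩ : ↥C) * x = x * ⟨c₁, hc₁⟩ := by
    intro x hx
    refine Subtype.ext ?_
    obtain ⟨hxA, -⟩ := Subgroup.mem_subgroupOf.1 hx
    have h4 := hcc _ hac _ hxA
    obtain ⟨hxa, -⟩ := mem_cent.1 x.2
    rw [mul_assoc, ← mul_assoc (x : E), ← hxa, mul_assoc a] at h4
    show c₁ * (x : E) = (x : E) * c₁
    exact mul_left_cancel h4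
  set B := Subgroup.closure ((A0 : Set ↥C) ∪ {⟨c₁, hc₁⟩}) with hB
  have hBcomm : IsMulCommutative ↥B := by
    refine Subgroup.isMulCommutative_closure ?_
    rintro x (hx | rfl) y (hy | rfl)
    · exact congrArg Subtype.val (hA0c.is_comm.comm ⟨x, hx⟩ ⟨y, hy⟩)
    · exact (hc1A0 x hx).symm
    · exact hc1A0 y hy
    · rfl
  have hB2 : ∀ x ∈ B, x ^ 2 = 1 := by
    intro x hx
    induction hx using Subgroup.closure_induction with
    | mem x hx =>
      rcases hx with hx | rfl
      · exact hA02 x hx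
      · exact Subtype.ext (by rw [Subgroup.coe_pow]; exact hc12)
    | one => exact one_pow 2
    | mul x y hx hy hx' hy' =>
      have hxy : Commute x y := congrArg Subtype.val (hBcomm.is_comm.comm ⟨x, hx⟩ ⟨y, hy⟩)
      rw [hxy.mul_pow, hx', hy', one_mul]
    | inv x _ hx' => rw [inv_pow, hx', inv_one]
  refine ⟨B, hBcomm, hB2, ?_⟩
  have hlt : A0 < B := lt_of_le_of_ne (fun x hx => Subgroup.subset_closure (Or.inl hx)) fun he => hne (by
    have hc : (⟨c₁, hc₁⟩ : ↥C) ∈ A0 := he ▸ Subgroup.subset_closure (Or.inr rfl)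
    obtain ⟨hcA, -⟩ := Subgroup.mem_subgroupOf.1 hc
    have h4 := hcc _ hbc _ hcA
    rw [mul_assoc, ← mul_assoc c₁, ← h1b, mul_assoc b] at h4
    exact (mul_left_cancel h4).symm)
  obtain ⟨d, hd⟩ := Subgroup.card_dvd_of_le hlt.le
  have h2d : 2 ≤ d := by
    by_contra hd2
    have hne' : Nat.card ↥B ≠ Nat.card ↥A0 := fun he => hlt.ne (Subgroup.eq_of_le_of_card_ge hlt.le he.le)
    interval_cases d
    · exact absurd hd (by simpa using (Nat.card_pos (α := ↥B)).ne')
    · exact hne' (by rw [hd, mul_one])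
  rw [hd, hA0card]
  rw [hfull] at hprod
  calc 2 ^ k ≤ Nat.card ↥(A ⊓ C : Subgroup E) * 2 := by omega
    _ ≤ _ := Nat.mul_le_mul_left _ h2d

theorem has_one (h : XS 2 z) : Has 1 E := by
  refine ⟨Subgroup.zpowers z, inferInstance, fun a ha => ?_, ?_⟩
  · obtain ⟨i, rfl⟩ := ha
    show (z ^ i) ^ 2 = 1
    rw [← zpow_natCast, ← zpow_mul, mul_comm, zpow_mul, zpow_natCast, h.zpow_p, one_zpow]
  · rw [Nat.card_zpowers, h.ord]; norm_num

theorem has_lower : ∀ (n : ℕ) (E : Type u) [Group E] [Finite E] (z : E), XS 2 z → 1 ≤ n →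
    Nat.card E = 2 ^ (2 * n + 1) → Has n E := by
  intro n
  induction n with
  | zero => intro _ _ _ _ _ h; omega
  | succ n ih =>
    intro E _ _ z h _ hc
    rcases Nat.eq_zero_or_pos n with rfl | hn
    · exact has_one h
    · haveI : Fact (Nat.Prime 2) := ⟨Nat.prime_two⟩
      have h8 : 8 < Nat.card E := by
        rw [hc]; exact lt_of_lt_of_le (by norm_num) (Nat.pow_le_pow_right (by norm_num) (show 5 ≤ 2 * (n + 1) + 1 by omega))
      obtain ⟨a, b, hab, ha, -⟩ := pair_dihedral h h8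
      have h1 := h.card_eq hab
      rw [hc, show 2 * (n + 1) + 1 = 2 + (2 * n + 1) by ring, pow_add] at h1
      exact has_up h hab ha (ih _ _ (h.sub hab) hn (Nat.eq_of_mul_eq_mul_left (by norm_num) h1).symm)

theorem iso_of_has : ∀ (n : ℕ) (E : Type u) (E' : Type v) [Group E] [Finite E] [Group E'] [Finite E'] (z : E) (z' : E'),
    XS 2 z → XS 2 z' → 1 ≤ n → Nat.card E = 2 ^ (2 * n + 1) → Nat.card E' = 2 ^ (2 * n + 1) →
    (Has (n + 1) E ↔ Has (n + 1) E') → Iso z z' := by
  intro n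
  induction n with
  | zero => intro _ _ _ _ _ _ _ _ _ _ h; omega
  | succ n ih =>
    intro E E' _ _ _ _ z z' h h' _ hc hc' hiff
    haveI : Fact (Nat.Prime 2) := ⟨Nat.prime_two⟩
    have hcent : ∀ {X : Type u} [Group X] [Finite X] {w a b : X}, XS 2 w → b * a = a * b * w →
        Nat.card X = 2 ^ (2 * (n + 1) + 1) → Nat.card (cent a b) = 2 ^ (2 * n + 1) := by
      intro X _ _ w a b hw hab hX
      have h1 := hw.card_eq hab
      rw [hX, show 2 * (n + 1) + 1 = 2 + (2 * n + 1) by ring, pow_add] at h1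
      exact (Nat.eq_of_mul_eq_mul_left (by norm_num) h1).symm
    have hcent' : ∀ {X : Type v} [Group X] [Finite X] {w a b : X}, XS 2 w → b * a = a * b * w →
        Nat.card X = 2 ^ (2 * (n + 1) + 1) → Nat.card (cent a b) = 2 ^ (2 * n + 1) := by
      intro X _ _ w a b hw hab hX
      have h1 := hw.card_eq hab
      rw [hX, show 2 * (n + 1) + 1 = 2 + (2 * n + 1) by ring, pow_add] at h1
      exact (Nat.eq_of_mul_eq_mul_left (by norm_num) h1).symm
    rcases Nat.eq_zero_or_pos n with rfl | hn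
    · by_cases hE : Has 2 E
      · obtain ⟨a, b, hab, ha, hb⟩ := pair_of_has h hE
        obtain ⟨a', b', hab', ha', hb'⟩ := pair_of_has h' (hiff.1 hE)
        exact glue h h' hab hab' (α := 0) (β := 0) (by simpa using ha) (by simpa using ha') (by simpa using hb)
          (by simpa using hb') (iso_of_card (h.sub hab) (h'.sub hab') (hcent h hab hc) (hcent' h' hab' hc'))
      · have key : ∀ {X : Type u} [Group X] [Finite X] {w : X}, XS 2 w → Nat.card X = 8 → ¬ Has 2 X →
            ∃ a b : X, b * a = a * b * w ∧ a ^ 2 = w ∧ b ^ 2 = w := by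
          intro X _ _ w hw hX hno
          rcases hw.card_cases with h1 | ⟨a, b, hab⟩
          · omega
          rcases pair_two hw hab with ⟨a', b', h1, h2, -⟩ | ⟨h2, h3⟩
          · exact absurd (has_up hw h1 h2 (has_one (hw.sub h1))) hno
          · exact ⟨a, b, hab, h2, h3⟩
        have key' : ∀ {X : Type v} [Group X] [Finite X] {w : X}, XS 2 w → Nat.card X = 8 → ¬ Has 2 X →
            ∃ a b : X, b * a = a * b * w ∧ a ^ 2 = w ∧ b ^ 2 = w := by
          intro X _ _ w hw hX hno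
          rcases hw.card_cases with h1 | ⟨a, b, hab⟩
          · omega
          rcases pair_two hw hab with ⟨a', b', h1, h2, -⟩ | ⟨h2, h3⟩
          · exact absurd (has_up hw h1 h2 (has_one (hw.sub h1))) hno
          · exact ⟨a, b, hab, h2, h3⟩
        obtain ⟨a, b, hab, ha, hb⟩ := key h (by simpa using hc) hE
        obtain ⟨a', b', hab', ha', hb'⟩ := key' h' (by simpa using hc') (fun hh => hE (hiff.2 hh))
        exact glue h h' hab hab' (α := 1) (β := 1) (by simpa using ha) (by simpa using ha') (by simpa using hb)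
          (by simpa using hb') (iso_of_card (h.sub hab) (h'.sub hab') (hcent h hab hc) (hcent' h' hab' hc'))
    · have h8 : 8 < 2 ^ (2 * (n + 1) + 1) :=
        lt_of_lt_of_le (by norm_num) (Nat.pow_le_pow_right (by norm_num) (show 5 ≤ 2 * (n + 1) + 1 by omega))
      obtain ⟨a, b, hab, ha, hb⟩ := pair_dihedral h (hc ▸ h8)
      obtain ⟨a', b', hab', ha', hb'⟩ := pair_dihedral h' (hc' ▸ h8)
      exact glue h h' hab hab' (α := 0) (β := 0) (by simpa using ha) (by simpa using ha') (by simpa using hb)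
        (by simpa using hb') (ih _ _ _ _ (h.sub hab) (h'.sub hab') hn (hcent h hab hc) (hcent' h' hab' hc')
          ⟨fun hh => has_down h' hab' ha' hb' (hiff.1 (has_up h hab ha hh)),
            fun hh => has_down h hab ha hb (hiff.2 (has_up h' hab' ha' hh))⟩)

/-- Let E be an extraspecial 2-group of order 2^(2n+1). Then the largest elementary abelian subgroups of E have order 2^n or 2^(n+1); and two extraspecial 2-groups of the same order whose largest elementary abelian subgroups have the same order are isomorphic. -/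
theorem result {E : Type*} [Group E] [Finite E] (hE : Cfsg.IsExtraspecial 2 E) (n : ℕ) (hn : Nat.card E = 2 ^ (2 * n + 1)) : ((Cfsg.PRankLE 2 n E ∧ ¬ Cfsg.PRankLE 2 (n - 1) E) ∨ (Cfsg.PRankLE 2 (n + 1) E ∧ ¬ Cfsg.PRankLE 2 n E)) ∧ ∀ (E' : Type*) [Group E'] [Finite E'], Cfsg.IsExtraspecial 2 E' → Nat.card E' = Nat.card E → (∀ k : ℕ, Cfsg.PRankLE 2 k E ↔ Cfsg.PRankLE 2 k E') → Nonempty (E ≃* E') := by
  haveI : Fact (Nat.Prime 2) := ⟨Nat.prime_two⟩
  obtain ⟨z, hz⟩ := XSUnique.exists_xs hE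
  have hn1 : 1 ≤ n := by
    obtain ⟨m, hm1, hm⟩ := Cfsg.Agent.FGBasics.XS.exists_card_eq hE
    rw [hn] at hm
    have := Nat.pow_right_injective le_rfl hm
    omega
  have hlow : Has n E := has_lower n E z hz hn1 hn
  have hup : Cfsg.PRankLE 2 (n + 1) E := by
    intro A hA _
    have h1 := Cfsg.Agent.FGBasics.XS.card_abelian_sq_le hE A hA
    rw [hn, ← pow_succ, show 2 * n + 1 + 1 = (n + 1) + (n + 1) by ring, pow_add] at h1
    by_contra hlt
    push Not at hlt
    exact absurd h1 (Nat.mul_lt_mul'' hlt hlt).not_ge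
  have hlow' : ¬ Cfsg.PRankLE 2 (n - 1) E := by
    rw [rankLE_iff hz, not_not, show n - 1 + 1 = n by omega]
    exact hlow
  refine ⟨?_, ?_⟩
  · by_cases hk : Cfsg.PRankLE 2 n E
    · exact Or.inl ⟨hk, hlow'⟩
    · exact Or.inr ⟨hup, hk⟩
  · intro E' _ _ hE' hcard hk
    obtain ⟨z', hz'⟩ := XSUnique.exists_xs hE'
    obtain ⟨φ, -⟩ := iso_of_has n E E' z z' hz hz' hn1 hn (hcard.trans hn) (by
      rw [← not_iff_not, ← rankLE_iff hz, ← rankLE_iff hz']
      exact hk n)
    exact ⟨φ⟩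

end Cfsg.Agent.S3763
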