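import Cfsg.Statements.S3764
import Cfsg.Agent.Lib.Solvable.CoprimeFreeGroup

set_option autoImplicit false
open Cfsg

namespace Cfsg.Agent.S3764

/-- Let p, q, r be distinct primes and let X, Q, V be subgroups of a finite group with X of order r, Q an extraspecial q-group normalized by X with C_Q(X) = Z(Q), and V an elementary abelian p-group normalized by X and Q on which XQ acts faithfully ((X ⊔ Q) ∩ C(V) = 1). If C_V(X) = 1, then q = 2, r = 2^n + 1 for some n, and Q has order 2^(2n+1). -/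
theorem result {G : Type*} [Group G] [Finite G] {p q r : ℕ} (hp : p.Prime) (hq : q.Prime) (hr : r.Prime) (hpq : p ≠ q) (hpr : p ≠ r) (hqr : q ≠ r) (X Q V : Subgroup G) (hX : Nat.card X = r) (hQ : Cfsg.IsExtraspecial q ↥Q) (hXQ : X ≤ Subgroup.normalizer (Q : Set G)) (hCQ : Q ⊓ Subgroup.centralizer (X : Set G) = (Subgroup.center ↥Q).map Q.subtype) (hV : Cfsg.IsElementaryAbelian p V) (hXV : X ≤ Subgroup.normalizer (V : Set G)) (hQV : Q ≤ Subgroup.normalizer (V : Set G)) (hfaith : (X ⊔ Q) ⊓ Subgroup.centralizer (V : Set G) = ⊥) (hCV : V ⊓ Subgroup.centralizer (X : Set G) = ⊥) : q = 2 ∧ ∃ n : ℕ, r = 2 ^ n + 1 ∧ Nat.card Q = 2 ^ (2 * n + 1) := by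
  have := Fact.mk hp
  have := Fact.mk hq
  have := Fact.mk hr
  have hfQ : Q ⊓ Subgroup.centralizer (V : Set G) = ⊥ :=
    le_bot_iff.1 (hfaith ▸ inf_le_inf_right _ le_sup_right)
  obtain ⟨x, hx, hx1, K, _, _, _, W, _, _, _, τ, T, θ, hτ, hθ, hT, hsum, hconj, hθx⟩ :=
    CoprimeFree.exists_rep X Q V hX hXQ hV hXV hQV hCV
  replace hτ := CoprimeFree.injective_of_faithful hfQ hτ
  obtain ⟨⟨hQp, -, hcomm⟩, hZ⟩ := hQ
  obtain ⟨e, he⟩ := hQp.exists_card_eq
  have hrK := CoprimeFree.natCast_ne_zero (K := K) (p := p) hr hpr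
  have hQK : (Nat.card Q : K) ≠ 0 := by
    rw [he, Nat.cast_pow]
    exact pow_ne_zero _ (CoprimeFree.natCast_ne_zero (p := p) hq hpq)
  have hZ1 : Subgroup.center Q ≠ ⊥ := fun h => by
    rw [h, Subgroup.card_bot] at hZ
    exact hq.one_lt.ne hZ
  have hgen : Subgroup.zpowers x = X :=
    Subgroup.eq_of_le_of_card_ge (Subgroup.zpowers_le.2 hx) (by
      rw [Nat.card_zpowers, hX]
      have hdvd : orderOf x ∣ r := hX ▸ Subgroup.orderOf_dvd_natCard X hx
      exact (hr.eq_one_or_self_of_dvd _ hdvd).elim (fun h => absurd (orderOf_eq_one_iff.1 h) hx1) Eq.ge)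
  have hfix : ∀ t : Q, θ t = t ↔ t ∈ Subgroup.center Q := by
    intro t
    have h1 : θ t = t ↔ (t : G) ∈ Q ⊓ Subgroup.centralizer (X : Set G) := by
      rw [Subtype.ext_iff, hθx, mul_inv_eq_iff_eq_mul, Subgroup.mem_inf]
      refine ⟨fun h => ⟨t.2, Subgroup.mem_centralizer_iff.2 fun y hy => ?_⟩,
        fun h => Subgroup.mem_centralizer_iff.1 h.2 x hx⟩
      rw [SetLike.mem_coe, ← hgen] at hy
      obtain ⟨i, rfl⟩ := hy
      exact (Commute.zpow_left (show Commute x _ from h) i).eq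
    rw [h1, hCQ]
    exact ⟨fun ⟨s, hs, hst⟩ => Subtype.ext hst ▸ hs, fun h => ⟨t, h, rfl⟩⟩
  have hab : ∃ a b : Q, a * b ≠ b * a := by
    by_contra h
    push Not at h
    refine hZ1 ?_
    rw [← hcomm, commutator_def, Subgroup.commutator_eq_bot_iff_le_centralizer]
    exact fun a _ => Subgroup.mem_centralizer_iff.2 fun b _ => h b a
  obtain ⟨hq2, n, -, hrn, hidx⟩ := CoprimeFree.special hqr hrK hQK he τ hτ T θ hθ hT hsum hconj hab
    (fun u t => hcomm ▸ Subgroup.commutator_mem_commutator (Subgroup.mem_top u) (Subgroup.mem_top t))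
    hfix (fun M _ _ hne => by
      have hle : ⁅M, (⊤ : Subgroup Q)⁆ ≤ Subgroup.center Q :=
        hcomm ▸ (Subgroup.commutator_mono le_top le_rfl).trans (le_of_eq (commutator_def Q).symm)
      have hbot : ⁅M, (⊤ : Subgroup Q)⁆ = ⊥ := by
        have : Fact (Nat.card (Subgroup.center Q)).Prime := ⟨hZ.symm ▸ hq⟩
        rcases ((⁅M, (⊤ : Subgroup Q)⁆).subgroupOf (Subgroup.center Q)).eq_bot_or_eq_top_of_prime_card
          with h | h
        · rw [Subgroup.subgroupOf_eq_bot] at h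
          exact disjoint_self.1 (h.mono_right hle)
        · exact absurd ((le_antisymm hle (Subgroup.subgroupOf_eq_top.1 h)).trans hcomm.symm) hne
      rw [Subgroup.commutator_eq_bot_iff_le_centralizer] at hbot
      intro s hs
      exact Subgroup.mem_center_iff.2 fun u => Subgroup.mem_centralizer_iff.1 (hbot hs) u trivial)
  refine ⟨hq2, n, hrn, ?_⟩
  rw [← Subgroup.card_mul_index (Subgroup.center Q), hZ, hidx, hq2]
  ring

end Cfsg.Agent.S3764
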