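import Cfsg.Statements.S3766
import Cfsg.Agent.Lib.FGBasics.FittingCriterion
import Cfsg.Agent.Lib.Solvable.Structure
import Cfsg.Agent.Lib.Solvable.Coprime
import Mathlib

set_option autoImplicit false
open Cfsg

namespace Cfsg.Agent.S3766

open Cfsg.Agent
open scoped commutatorElement

lemma fwd {G : Type*} [Group G] [Finite G] {N : Subgroup G} [N.Normal] {g : G}
    (hg : g ∈ (Cfsg.fittingSubgroup ↥N).map N.subtype) {U V : Subgroup G}
    (h : U.Normal ∧ V.Normal ∧ V < U ∧ ∀ W : Subgroup G, W.Normal → V ≤ W → W ≤ U → W = V ∨ W = U)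
    {u : G} (hu : u ∈ U) : u * g * u⁻¹ * g⁻¹ ∈ V := by
  obtain ⟨hUn, hVn, hVU, hmin⟩ := h
  have hgF : g ∈ Cfsg.fittingSubgroup G := FittingCores.fitting_map_subtype_le inferInstance hg
  set f := QuotientGroup.mk' V
  have hf : Function.Surjective f := QuotientGroup.mk'_surjective V
  haveI : (U.map f).Normal := hUn.map f hf
  have hgm : f g ∈ Cfsg.fittingSubgroup (G ⧸ V) := FittingCores.fitting_map_le hf ⟨g, hgF, rfl⟩
  have hM : U.map f ≠ ⊥ := fun hb => hVU.not_ge fun x hx => by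
    have : f x ∈ U.map f := ⟨x, hx, rfl⟩
    rw [hb, Subgroup.mem_bot] at this
    exact (QuotientGroup.eq_one_iff x).1 this
  have h1 := SolvStruct.fitting_le_centralizer_minimal hM (fun K hK hKU => by
    rcases hmin (K.comap f) (hK.comap f) (QuotientGroup.le_comap_mk' V K) (by
        intro x hx
        obtain ⟨y, hy, hxy⟩ := hKU hx
        have : y⁻¹ * x ∈ V := (QuotientGroup.eq).1 hxy
        simpa using mul_mem hy (hVU.le this)) with h | h
    · left
      rw [eq_bot_iff]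
      intro q hq
      obtain ⟨x, rfl⟩ := hf q
      have : x ∈ V := h ▸ (show x ∈ K.comap f from hq)
      exact Subgroup.mem_bot.2 ((QuotientGroup.eq_one_iff x).2 this)
    · right
      rw [← h, Subgroup.map_comap_eq_self_of_surjective hf]) hgm
  have h2 := Subgroup.mem_centralizer_iff.1 h1 (f u) ⟨u, hu, rfl⟩
  rw [← QuotientGroup.eq_one_iff]
  show f (u * g * u⁻¹ * g⁻¹) = 1
  rw [map_mul, map_mul, map_mul, map_inv, map_inv, h2]
  simp [mul_assoc]

lemma bwd {G : Type*} [Group G] [Finite G] (hG : Group.IsSolvable G) {N : Subgroup G} [hN : N.Normal]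
    {g : G} (hgN : g ∈ N)
    (h : ∀ U V : Subgroup G, (U.Normal ∧ V.Normal ∧ V < U ∧ ∀ W : Subgroup G, W.Normal → V ≤ W → W ≤ U → W = V ∨ W = U) → U ≤ (Cfsg.fittingSubgroup ↥N).map N.subtype → ∀ u ∈ U, u * g * u⁻¹ * g⁻¹ ∈ V) :
    g ∈ (Cfsg.fittingSubgroup ↥N).map N.subtype := by
  classical
  haveI := hG
  let C : Subgroup ↥N :=
  { carrier := {x | ∀ U V : Subgroup G, (U.Normal ∧ V.Normal ∧ V < U ∧ ∀ W : Subgroup G, W.Normal → V ≤ W → W ≤ U → W = V ∨ W = U) → U ≤ (Cfsg.fittingSubgroup ↥N).map N.subtype → ∀ u ∈ U, u * (x : G) * u⁻¹ * (x : G)⁻¹ ∈ V}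
    one_mem' := fun U V _ _ u _ => by simp [one_mem]
    mul_mem' := by
      intro x y hx hy U V hc hU u hu
      have := hc.2.1
      have e : u * (↑(x * y) : G) * u⁻¹ * (↑(x * y) : G)⁻¹ =
          (u * (x : G) * u⁻¹ * (x : G)⁻¹) * ((x : G) * (u * (y : G) * u⁻¹ * (y : G)⁻¹) * (x : G)⁻¹) := by
        rw [Subgroup.coe_mul]; group
      rw [e]
      exact mul_mem (hx U V hc hU u hu) (this.conj_mem _ (hy U V hc hU u hu) _)
    inv_mem' := by
      intro x hx U V hc hU u hu
      have := hc.2.1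
      have e : u * (↑(x⁻¹) : G) * u⁻¹ * (↑(x⁻¹) : G)⁻¹ =
          (x : G)⁻¹ * (u * (x : G) * u⁻¹ * (x : G)⁻¹)⁻¹ * ((x : G)⁻¹)⁻¹ := by
        rw [Subgroup.coe_inv]; group
      rw [e]
      exact this.conj_mem _ (inv_mem (hx U V hc hU u hu)) _ }
  have hCn : C.Normal := ⟨fun x hx n U V hc hU u hu => by
    have hUn := hc.1
    have hVn := hc.2.1
    have hu' : (n : G)⁻¹ * u * n ∈ U := by simpa using hUn.conj_mem u hu (n : G)⁻¹
    have e : u * (↑(n * x * n⁻¹) : G) * u⁻¹ * (↑(n * x * n⁻¹) : G)⁻¹ =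
        (n : G) * (((n : G)⁻¹ * u * n) * (x : G) * ((n : G)⁻¹ * u * n)⁻¹ * (x : G)⁻¹) * (n : G)⁻¹ := by
      simp only [Subgroup.coe_mul, Subgroup.coe_inv]; group
    rw [e]
    exact hVn.conj_mem _ (hx U V hc hU _ hu') _⟩
  refine ⟨⟨g, hgN⟩, FGBasics.le_fitting_of_coprime_centralize hCn (fun p hp x hx hxp => ?_)
    (show (⟨g, hgN⟩ : ↥N) ∈ C from h), rfl⟩
  have := Fact.mk hp
  have hQn : ((Cfsg.pCore p ↥N).map N.subtype).Normal :=
    FittingCores.normal_map_of_characteristic hN (FittingCores.pCore_characteristic p)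
  have hQp : IsPGroup p ↥((Cfsg.pCore p ↥N).map N.subtype) :=
    (FittingCores.pCore_isPGroup p).map _
  suffices key : ∀ U : Subgroup G, U.Normal → U ≤ (Cfsg.pCore p ↥N).map N.subtype →
      ∀ u ∈ U, u * (x : G) = x * u by
    exact Subgroup.mem_centralizer_iff.2 fun y hy => Subtype.ext (key _ hQn le_rfl _ ⟨y, hy, rfl⟩)
  intro U
  induction U using WellFoundedLT.induction with
  | ind U ih =>
    intro hUn hUQ
    rcases eq_or_ne U ⊥ with rfl | hU
    · intro u hu; rw [Subgroup.mem_bot.1 hu]; simp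
    obtain ⟨V, ⟨hVn, hVU⟩, hVmax⟩ := (Set.toFinite {V : Subgroup G | V.Normal ∧ V < U}).exists_maximal
      ⟨⊥, inferInstance, bot_lt_iff_ne_bot.2 hU⟩
    have hchief : U.Normal ∧ V.Normal ∧ V < U ∧
        ∀ W : Subgroup G, W.Normal → V ≤ W → W ≤ U → W = V ∨ W = U :=
      ⟨hUn, hVn, hVU, fun W hW hVW hWU => by
        rcases hWU.lt_or_eq with h1 | h1
        · exact Or.inl (le_antisymm (hVmax ⟨hW, h1⟩ hVW) hVW)
        · exact Or.inr h1⟩
    set A := Subgroup.zpowers (x : G) with hA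
    have hUA : ⁅U, A⁆ ≤ V := by
      rw [Subgroup.commutator_le]
      rintro u hu a ⟨k, rfl⟩
      have := C.zpow_mem hx k U V hchief (hUQ.trans (Subgroup.map_mono (FittingCores.pCore_le_fitting hp))) u hu
      simpa [commutatorElement_def] using this
    have hVA : ⁅V, A⁆ = ⊥ := by
      rw [Subgroup.commutator_eq_bot_iff_le_centralizer]
      intro v hv
      rw [Subgroup.mem_centralizer_iff]
      rintro a ⟨k, rfl⟩
      have hc : Commute v (x : G) := ih V hVU hVn (hVU.le.trans hUQ) v hv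
      exact (hc.zpow_right k).eq.symm
    have hcop : (Nat.card A).Coprime (Nat.card U) := by
      obtain ⟨k, hk⟩ := hQp.exists_card_eq
      rw [hA, Nat.card_zpowers, Subgroup.orderOf_coe]
      exact (hxp.pow_right k).coprime_dvd_right (hk ▸ Subgroup.card_dvd_of_le hUQ)
    have hcc := CoprimeAct.commutator_commutator (A := A) (K := U)
      (fun a _ => by rw [Subgroup.normalizer_eq_top_iff.2 hUn]; exact Subgroup.mem_top a)
      hcop (Or.inr inferInstance)
    have h0 : ⁅U, A⁆ = ⊥ := by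
      rw [← hcc, eq_bot_iff, ← hVA]
      exact Subgroup.commutator_mono hUA le_rfl
    intro u hu
    exact (Subgroup.mem_centralizer_iff.1 (Subgroup.commutator_eq_bot_iff_le_centralizer.1 h0 hu) _
      (Subgroup.mem_zpowers _)).symm

/-- Let G be a finite solvable group and N a normal subgroup of G. Call a pair V < U of normal subgroups of G a chief factor of G when no normal subgroup of G lies strictly between them; an element g centralizes the chief factor U/V when u g u⁻¹ g⁻¹ ∈ V for all u ∈ U. Then an element of G lies in the Fitting subgroup F(N) if and only if it lies in N and centralizes every chief factor of G; and also if and only if it lies in N and centralizes every chief factor U/V of G with U ≤ F(N). -/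
theorem result {G : Type*} [Group G] [Finite G] (hG : Group.IsSolvable G) (N : Subgroup G) [N.Normal] (g : G) : (g ∈ (Cfsg.fittingSubgroup ↥N).map N.subtype ↔ g ∈ N ∧ ∀ U V : Subgroup G, (U.Normal ∧ V.Normal ∧ V < U ∧ ∀ W : Subgroup G, W.Normal → V ≤ W → W ≤ U → W = V ∨ W = U) → ∀ u ∈ U, u * g * u⁻¹ * g⁻¹ ∈ V) ∧ (g ∈ (Cfsg.fittingSubgroup ↥N).map N.subtype ↔ g ∈ N ∧ ∀ U V : Subgroup G, (U.Normal ∧ V.Normal ∧ V < U ∧ ∀ W : Subgroup G, W.Normal → V ≤ W → W ≤ U → W = V ∨ W = U) → U ≤ (Cfsg.fittingSubgroup ↥N).map N.subtype → ∀ u ∈ U, u * g * u⁻¹ * g⁻¹ ∈ V) := by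
  refine ⟨⟨fun hg => ⟨?_, fun U V h u hu => fwd hg h hu⟩, fun h => bwd hG h.1 fun U V hc _ => h.2 U V hc⟩,
    ⟨fun hg => ⟨?_, fun U V h _ u hu => fwd hg h hu⟩, fun h => bwd hG h.1 h.2⟩⟩ <;>
  · obtain ⟨x, -, rfl⟩ := hg
    exact x.2

end Cfsg.Agent.S3766
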