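import Cfsg.Statements.S3767
import Cfsg.Agent.Lib.Solvable.SemiregularExtraspecial

set_option autoImplicit false
open Cfsg

namespace Cfsg.Agent.S3767

/-- Let P be an extraspecial p-group of order p^(2n+1) and H a cyclic group of order h prime to p acting on P (inside a common finite group: H normalizes P) so that C_P(x) = Z(P) for every non-identity x ∈ H. Then h divides p^n + 1 or h divides p^n − 1. -/
theorem result {G : Type*} [Group G] [Finite G] {p : ℕ} [Fact p.Prime] (P H : Subgroup G) (hP : Cfsg.IsExtraspecial p ↥P) (n : ℕ) (hn : Nat.card P = p ^ (2 * n + 1)) (hH : IsCyclic H) (hcop : (Nat.card H).Coprime p) (hHP : H ≤ Subgroup.normalizer (P : Set G)) (hfix : ∀ x ∈ H, x ≠ 1 → P ⊓ Subgroup.centralizer {x} = (Subgroup.center ↥P).map P.subtype) : Nat.card H ∣ p ^ n + 1 ∨ Nat.card H ∣ p ^ n - 1 := by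
  obtain ⟨⟨x, hx⟩, hgen⟩ := hH.exists_generator
  have hHx : H = Subgroup.zpowers x := le_antisymm (fun y hy => by
    obtain ⟨i, hi⟩ := hgen ⟨y, hy⟩
    exact ⟨i, congrArg Subtype.val hi⟩) (Subgroup.zpowers_le.2 hx)
  subst hHx
  rw [Nat.card_zpowers] at hcop ⊢
  rcases Nat.lt_or_ge (orderOf x) 2 with hlt | hh
  · left
    have h1 : orderOf x = 1 := by have := orderOf_pos x; omega
    rw [h1]
    exact one_dvd _
  let θ : MulAut P := P.normalizerMonoidHom ⟨x, hHP hx⟩
  have hθk : ∀ (i : ℕ) (t : P), (((θ ^ i) t : P) : G) = x ^ i * t * (x ^ i)⁻¹ := fun i t => by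
    change ((((P.normalizerMonoidHom ⟨x, hHP hx⟩) ^ i) t : P) : G) = _
    rw [← map_pow]
    rfl
  refine SemiregularExtraspecial.main hP hn hh θ (MulEquiv.ext fun t => Subtype.ext ?_) hcop ?_
  · rw [hθk, pow_orderOf_eq_one]; simp
  · intro i hi hih t
    have hne : x ^ i ≠ 1 := fun h => by
      have := Nat.le_of_dvd hi (orderOf_dvd_of_pow_eq_one h)
      omega
    have h := hfix (x ^ i) (Subgroup.pow_mem _ hx i) hne
    have h1 : (θ ^ i) t = t ↔ (t : G) ∈ P ⊓ Subgroup.centralizer {x ^ i} := by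
      rw [Subtype.ext_iff, hθk, mul_inv_eq_iff_eq_mul, Subgroup.mem_inf]
      refine ⟨fun h => ⟨t.2, Subgroup.mem_centralizer_iff.2 fun y hy => ?_⟩,
        fun h => Subgroup.mem_centralizer_iff.1 h.2 _ rfl⟩
      rw [Set.mem_singleton_iff.1 hy]
      exact h
    rw [h1, h]
    exact ⟨fun ⟨s, hs, hst⟩ => Subtype.ext hst ▸ hs, fun h => ⟨t, h, rfl⟩⟩

end Cfsg.Agent.S3767
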