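import Cfsg.Statements.S3768
import Cfsg.Agent.Lib.FGStruct.FrobeniusData
import Cfsg.Agent.Lib.Solvable.Basic
import Mathlib

set_option autoImplicit false
open Cfsg

namespace Cfsg.Agent.S3768

open Cfsg.Agent
open Cfsg.Agent.FrobData
open scoped Pointwise

lemma kernel_eq {G : Type*} [Group G] [Finite G] {K H : Subgroup G} (h : FData K H) :
    (K : Set G) = Cfsg.frobeniusKernel H := by
  haveI := h.normal
  ext x
  constructor
  · intro hx
    by_cases hx1 : x = 1
    · exact Or.inl hx1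
    · refine Or.inr fun g hg => hx1 ?_
      rw [SolvBasic.mem_conjSmul] at hg
      have h2 := h.eq_one_of_mem (by simpa using h.normal.conj_mem x hx g⁻¹) hg
      calc x = g * (g⁻¹ * x * g) * g⁻¹ := by group
        _ = 1 := by rw [h2]; group
  · rintro (rfl | hx)
    · exact one_mem K
    · rcases h.decomp x with hK | ⟨k, -, a, ha, -, rfl⟩
      · exact hK
      · exfalso
        apply hx k
        rw [SolvBasic.mem_conjSmul]
        simpa [mul_assoc] using ha

/-- Let G be a finite Frobenius group with Frobenius complement R and Frobenius kernel K (the identity together with the elements in no conjugate of R), and let N be a normal subgroup of G not containing K. Then G/N is a Frobenius group with Frobenius complement RN/N whose Frobenius kernel is the image of K. -/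
theorem result {G : Type*} [Group G] [Finite G] (R : Subgroup G) (hR : Cfsg.IsFrobeniusComplement R) (N : Subgroup G) [N.Normal] (hKN : ¬ Cfsg.frobeniusKernel R ⊆ N) : Cfsg.IsFrobeniusComplement (R.map (QuotientGroup.mk' N)) ∧ Cfsg.frobeniusKernel (R.map (QuotientGroup.mk' N)) = QuotientGroup.mk' N '' Cfsg.frobeniusKernel R := by
  classical
  obtain ⟨K, hd⟩ := exists_data hR
  rw [← kernel_eq hd] at hKN ⊢
  haveI := hd.normal
  have hinj : ∀ a ∈ R, a ≠ 1 → ∀ k ∈ K, ∀ k' ∈ K, k * a * k⁻¹ * a⁻¹ = k' * a * k'⁻¹ * a⁻¹ → k = k' := by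
    intro a ha ha1 k hk k' hk' he
    have hc : a * (k'⁻¹ * k) = (k'⁻¹ * k) * a := by
      have h2 : k * a * k⁻¹ = k' * a * k'⁻¹ := mul_right_cancel he
      calc a * (k'⁻¹ * k) = k'⁻¹ * (k' * a * k'⁻¹) * k := by group
        _ = k'⁻¹ * (k * a * k⁻¹) * k := by rw [h2]
        _ = (k'⁻¹ * k) * a := by group
    exact (inv_mul_eq_one.1 (hd.fpf ha ha1 (mul_mem (inv_mem hk') hk) hc)).symm
  have hKcomm : ∀ a : G, ∀ k ∈ K, k * a * k⁻¹ * a⁻¹ ∈ K := fun a k hk => by
    have := mul_mem hk (hd.normal.conj_mem _ (inv_mem hk) a)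
    simpa [mul_assoc] using this
  have hNK : N ≤ K := by
    intro x hx
    rcases hd.decomp x with hK | ⟨k, -, a, ha, ha1, rfl⟩
    · exact hK
    · exfalso
      have haN : a ∈ N := by
        have := (inferInstance : N.Normal).conj_mem _ hx k⁻¹
        simpa [mul_assoc] using this
      have hcN : ∀ z : G, z * a * z⁻¹ * a⁻¹ ∈ N := fun z =>
        mul_mem ((inferInstance : N.Normal).conj_mem a haN z) (inv_mem haN)
      let φ : ↥K → ↥(K ⊓ N) := fun z => ⟨(z : G) * a * (z : G)⁻¹ * a⁻¹, hKcomm a z z.2, hcN z⟩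
      have hφ : Function.Injective φ := fun z z' hz =>
        Subtype.ext (hinj a ha ha1 z z.2 z' z'.2 (congrArg Subtype.val hz))
      have hle := Nat.card_le_card_of_injective φ hφ
      have heq := Subgroup.eq_of_le_of_card_ge (inf_le_left : K ⊓ N ≤ K) hle
      exact hKN (SetLike.coe_subset_coe.2 (inf_eq_left.1 heq))
  have hfix : ∀ a ∈ R, a ≠ 1 → ∀ k ∈ K, k * a * k⁻¹ * a⁻¹ ∈ N → k ∈ N := by
    intro a ha ha1 k hk hkN
    let φ : ↥N → ↥N := fun z => ⟨(z : G) * a * (z : G)⁻¹ * a⁻¹, by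
      have := mul_mem z.2 ((inferInstance : N.Normal).conj_mem _ (inv_mem z.2) a)
      simpa [mul_assoc] using this⟩
    have hφ : Function.Injective φ := fun z z' hz =>
      Subtype.ext (hinj a ha ha1 z (hNK z.2) z' (hNK z'.2) (congrArg Subtype.val hz))
    obtain ⟨z, hz⟩ := (Finite.injective_iff_surjective.1 hφ) ⟨_, hkN⟩
    rw [hinj a ha ha1 k hk z (hNK z.2) (congrArg Subtype.val hz).symm]
    exact z.2
  set f := QuotientGroup.mk' N with hf
  have hfs : Function.Surjective f := QuotientGroup.mk'_surjective N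
  have hKbar : K.map f ≠ ⊥ := by
    rw [Ne, Subgroup.map_eq_bot_iff, hf, QuotientGroup.ker_mk']
    exact fun h => hKN (SetLike.coe_subset_coe.2 h)
  have hinf : K.map f ⊓ R.map f = ⊥ := by
    rw [eq_bot_iff]
    rintro _ ⟨⟨k, hk, rfl⟩, a, ha, hak⟩
    have h1 : a⁻¹ * k ∈ N := by
      rw [← QuotientGroup.eq_one_iff]
      show f (a⁻¹ * k) = 1
      rw [map_mul, map_inv, hak, inv_mul_cancel]
    have h2 : a ∈ K := by
      have := mul_mem hk (inv_mem (hNK h1))
      simpa [mul_assoc] using this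
    rw [Subgroup.mem_bot, ← hak, hd.eq_one_of_mem h2 ha, map_one]
  haveI : (K.map f).Normal := hd.normal.map f hfs
  have hdata : FData (K.map f) (R.map f) := by
    refine ⟨inferInstance, Subgroup.isComplement'_of_disjoint_and_mul_eq_univ (disjoint_iff.2 hinf) ?_, ?_, hKbar, ?_⟩
    · rw [← Subgroup.normal_mul, ← Subgroup.map_sup, hd.compl.sup_eq_top,
        Subgroup.map_top_of_surjective f hfs, Subgroup.coe_top]
    · rintro g hg y ⟨a, ha, rfl⟩ hy
      obtain ⟨g, rfl⟩ := hfs g
      obtain ⟨k, hk, b, hb, rfl⟩ : ∃ k ∈ K, ∃ b ∈ R, g = k * b := by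
        have : g ∈ ((K ⊔ R : Subgroup G) : Set G) := by rw [hd.compl.sup_eq_top]; trivial
        rw [Subgroup.normal_mul] at this
        obtain ⟨k, hk, b, hb, rfl⟩ := Set.mem_mul.1 this
        exact ⟨k, hk, b, hb, rfl⟩
      by_contra hne
      have ha' : b * a * b⁻¹ ∈ R := mul_mem (mul_mem hb ha) (inv_mem hb)
      have ha'1 : b * a * b⁻¹ ≠ 1 := fun h => hne (by
        rw [conj_eq_one_iff] at h
        rw [h, map_one])
      have h1 : f (k * (b * a * b⁻¹) * k⁻¹ * (b * a * b⁻¹)⁻¹) ∈ K.map f ⊓ R.map f := by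
        refine ⟨Subgroup.mem_map_of_mem f (hKcomm _ k hk), ?_⟩
        show f _ ∈ R.map f
        rw [map_mul, map_inv]
        refine mul_mem ?_ (inv_mem (Subgroup.mem_map_of_mem f ha'))
        have : k * (b * a * b⁻¹) * k⁻¹ = k * b * a * (k * b)⁻¹ := by group
        rw [this, map_mul, map_mul, map_inv]
        exact hy
      rw [hinf, Subgroup.mem_bot] at h1
      have hkN := hfix _ ha' ha'1 k hk ((QuotientGroup.eq_one_iff _).1 h1)
      apply hg
      rw [map_mul, show f k = 1 from (QuotientGroup.eq_one_iff k).2 hkN, one_mul]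
      exact Subgroup.mem_map_of_mem f hb
    · rw [Ne, Subgroup.map_eq_bot_iff, hf, QuotientGroup.ker_mk']
      intro h
      exact hd.hne (le_bot_iff.1 (hd.inf_eq_bot ▸ le_inf (h.trans hNK) le_rfl))
  exact ⟨hdata.isFrobeniusComplement, (kernel_eq hdata).symm.trans (Subgroup.coe_map f K)⟩

end Cfsg.Agent.S3768
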