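import Cfsg.Statements.S3769
import Cfsg.Agent.Lib.Solvable.CoprimeFreeGroup
import Cfsg.Agent.Lib.Solvable.Coprime

set_option autoImplicit false
open Cfsg

open scoped Pointwise commutatorElement

namespace Cfsg.Agent.S3769

/-- Let G and V be subgroups of a finite group with G solvable of odd order normalizing V, V an elementary abelian ℓ-group for a prime ℓ not dividing the order of G, and suppose G has a normal Hall subgroup K with a complement R of prime order. If C_V(R) = 1, then [R, K] centralizes V. -/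
theorem result {X : Type*} [Group X] [Finite X] (G : Subgroup X) (hsolv : Group.IsSolvable G) (hodd : Odd (Nat.card G)) (V : Subgroup X) {ℓ : ℕ} (hℓ : ℓ.Prime) (hV : Cfsg.IsElementaryAbelian ℓ V) (hℓG : ¬ ℓ ∣ Nat.card G) (hGV : G ≤ Subgroup.normalizer (V : Set X)) (K R : Subgroup X) (hKG : K ≤ G) (hKn : G ≤ Subgroup.normalizer (K : Set X)) (hHall : (Nat.card K).Coprime (K.relIndex G)) (hRG : R ≤ G) (hR : (Nat.card R).Prime) (hKR : K ⊓ R = ⊥) (hKRG : K ⊔ R = G) (hCV : V ⊓ Subgroup.centralizer (R : Set X) = ⊥) : ⁅R, K⁆ ≤ Subgroup.centralizer (V : Set X) := by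
  have hℓ' := Fact.mk hℓ
  have hr' := Fact.mk hR
  set r := Nat.card R with hrdef
  set N := Subgroup.normalizer (V : Set X) with hN
  set C := Subgroup.centralizer (V : Set X) with hC
  have hKV : K ≤ N := hKG.trans hGV
  have hRV : R ≤ N := hRG.trans hGV
  have hRK : R ≤ Subgroup.normalizer (K : Set X) := hRG.trans hKn
  have hindex : K.relIndex G = r := by
    have h1 : K.relIndex G = (K ⊓ R).relIndex R := by
      have : (K.subgroupOf G).Normal := Subgroup.normal_subgroupOf_iff_le_normalizer hKG |>.2 hKn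
      rw [Subgroup.inf_relIndex_right, ← Subgroup.relIndex_subgroupOf hRG, ← Subgroup.relIndex_sup_right (H := R.subgroupOf G) (K := K.subgroupOf G),
        ← Subgroup.subgroupOf_sup hRG hKG, sup_comm, hKRG, Subgroup.subgroupOf_self, Subgroup.relIndex_top_right]
      rfl
    rw [h1, hKR, Subgroup.relIndex_bot_left]
  have hcop : (Nat.card R).Coprime (Nat.card K) := by
    rw [hindex] at hHall
    exact hHall.symm
  have hKc : K.subgroupOf N ≤ (Subgroup.centralizer
      ((R.subgroupOf N).map V.normalizerMonoidHom : Set (MulAut V))).comap V.normalizerMonoidHom := by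
    set S := (Subgroup.centralizer
      ((R.subgroupOf N).map V.normalizerMonoidHom : Set (MulAut V))).comap V.normalizerMonoidHom with hS
    suffices htop : ((S.map N.subtype).subgroupOf K) = ⊤ by
      intro k hk
      obtain ⟨k', hk', he⟩ := (Subgroup.subgroupOf_eq_top.1 htop) (show (k : X) ∈ K from hk)
      rwa [show k' = k from Subtype.ext he] at hk'
    refine FittingCores.eq_top_of_forall_sylow_le fun q hq => ?_
    have := Fact.mk hq
    obtain ⟨P, hP⟩ := CoprimeAct.exists_invariant_sylow hRK hcop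
      (Or.inl (Group.isSolvable_of_comm fun a b => by
        have : IsCyclic R := isCyclic_of_prime_card (p := r) rfl
        exact mul_comm' a b)) q
    refine ⟨P, fun t ht => ?_⟩
    set Q := (P : Subgroup K).map K.subtype with hQ
    by_cases hqK : q ∣ Nat.card K
    swap
    · have hP1 : (P : Subgroup K) = ⊥ := by
        obtain ⟨a, ha⟩ := P.isPGroup'.exists_card_eq
        rcases Nat.eq_zero_or_pos a with rfl | ha0
        · exact Subgroup.card_eq_one.1 (by rw [ha, pow_zero])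
        · exact absurd ((dvd_pow_self q ha0.ne').trans (ha ▸ Subgroup.card_subgroup_dvd_card _)) hqK
      rw [hP1, Subgroup.mem_bot] at ht
      rw [ht]
      exact one_mem _
    have hqG : q ∣ Nat.card G := hqK.trans (Subgroup.card_dvd_of_le hKG)
    have hq2 : q ≠ 2 := fun h => (Nat.not_even_iff_odd.2 hodd) (even_iff_two_dvd.2 (h ▸ hqG))
    have hqr : q ≠ r := fun h => hq.ne_one (Nat.Coprime.eq_one_of_dvd
      (Nat.Coprime.coprime_dvd_left (h ▸ dvd_rfl : q ∣ Nat.card R) hcop) hqK)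
    have hQK : Q ≤ K := Subgroup.map_subtype_le _
    obtain ⟨x, hx, hx1, F, _, _, _, W, _, _, _, τ, T, θ, hτ, hθ, hT, hsum, hconj, hθx⟩ :=
      CoprimeFree.exists_rep (p := ℓ) R Q V hrdef.symm hP hV hRV (hQK.trans hKV) hCV
    have hℓr : ℓ ≠ r := fun h => hℓG (h ▸ (hrdef ▸ Subgroup.card_dvd_of_le hRG))
    have hℓq : ℓ ≠ q := fun h => hℓG (h ▸ hqG)
    have hact := CoprimeFree.action_trivial hq2 hqr
      (CoprimeFree.natCast_ne_zero (K := F) (p := ℓ) hR hℓr)
      (CoprimeFree.natCast_ne_zero (p := ℓ) hq hℓq) (P.isPGroup'.map _) τ T θ hθ hT hsum hconj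
      ⟨(t : X), Subgroup.mem_map_of_mem K.subtype ht⟩
    have hmem := hτ _ _ hact
    rw [hθx] at hmem
    refine Subgroup.mem_subgroupOf.2 ⟨⟨(t : X), hKV t.2⟩, ?_, rfl⟩
    have hgen : Subgroup.zpowers x = R :=
      Subgroup.eq_of_le_of_card_ge (Subgroup.zpowers_le.2 hx) (by
        rw [Nat.card_zpowers]
        have hdvd : orderOf x ∣ Nat.card R := Subgroup.orderOf_dvd_natCard R hx
        exact (hR.eq_one_or_self_of_dvd _ hdvd).elim (fun h => absurd (orderOf_eq_one_iff.1 h) hx1) Eq.ge)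
    refine Subgroup.mem_comap.2 (Subgroup.mem_centralizer_iff.2 ?_)
    rintro _ ⟨⟨y, hy'⟩, hy, rfl⟩
    rw [Subgroup.coe_subgroupOf, Set.mem_preimage, SetLike.mem_coe, ← hgen] at hy
    obtain ⟨i, hi⟩ := hy
    have hker : V.normalizerMonoidHom ⟨x, hRV hx⟩ * V.normalizerMonoidHom ⟨(t : X), hKV t.2⟩ =
        V.normalizerMonoidHom ⟨(t : X), hKV t.2⟩ * V.normalizerMonoidHom ⟨x, hRV hx⟩ := by
      refine MulEquiv.ext fun v => Subtype.ext ?_
      change x * ((t : X) * v * (t : X)⁻¹) * x⁻¹ = (t : X) * (x * v * x⁻¹) * (t : X)⁻¹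
      have hv' : x * (v : X) * x⁻¹ ∈ V := (Subgroup.mem_normalizer_iff.1 (hRV hx) _).1 v.2
      have ht' : (t : X) * (x * (v : X) * x⁻¹) * (t : X)⁻¹ ∈ V :=
        (Subgroup.mem_normalizer_iff.1 (hKV t.2) _).1 hv'
      have h := Subgroup.mem_centralizer_iff.1 hmem _ ht'
      have h2 : x * (t : X) * x⁻¹ * (t : X)⁻¹ * ((t : X) * (x * (v : X) * x⁻¹) * (t : X)⁻¹) *
          (x * (t : X) * x⁻¹ * (t : X)⁻¹)⁻¹ = (t : X) * (x * (v : X) * x⁻¹) * (t : X)⁻¹ := by
        rw [← h, mul_inv_cancel_right]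
      rw [← h2]
      group
    rw [show (⟨y, hy'⟩ : N) = (⟨x, hRV hx⟩ : N) ^ i from Subtype.ext hi.symm, map_zpow]
    exact (Commute.zpow_left hker i).eq
  rw [Subgroup.commutator_le]
  intro y hy k hk
  have hk' := Subgroup.mem_centralizer_iff.1 (Subgroup.mem_comap.1
    (hKc (show (⟨k, hKV hk⟩ : N) ∈ K.subgroupOf N from hk)))
    (V.normalizerMonoidHom ⟨y, hRV hy⟩) (Subgroup.mem_map_of_mem _ (show (⟨y, hRV hy⟩ : N) ∈ R.subgroupOf N from hy))
  refine Subgroup.mem_centralizer_iff.2 fun v hv => ?_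
  have h : V.normalizerMonoidHom ⁅(⟨y, hRV hy⟩ : N), ⟨k, hKV hk⟩⁆ = 1 := by
    rw [map_commutatorElement, commutatorElement_eq_one_iff_mul_comm, hk']
  have h' := congrArg (fun A : MulAut V => ((A ⟨v, hv⟩ : V) : X)) h
  change ⁅y, k⁆ * v * ⁅y, k⁆⁻¹ = v at h'
  exact (mul_inv_eq_iff_eq_mul.1 h').symm

end Cfsg.Agent.S3769
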