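import Cfsg.Statements.S3770
import Cfsg.Agent.Lib.Solvable.FrobeniusModuleGroup
import Cfsg.Agent.Lib.Solvable.Frobenius

set_option autoImplicit false
open Cfsg

open scoped Pointwise commutatorElement

namespace Cfsg.Agent.S3770

/-- Let G and V be subgroups of a finite group with G a Frobenius group with complement R of prime order and kernel K, G normalizing V, and V an elementary abelian ℓ-group for a prime ℓ not dividing the order of G. If C_V(R) has order ℓ, then the derived subgroup of K centralizes V. -/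
theorem result {X : Type*} [Group X] [Finite X] (G : Subgroup X) (V : Subgroup X) {ℓ : ℕ} (hℓ : ℓ.Prime) (hV : Cfsg.IsElementaryAbelian ℓ V) (hℓG : ¬ ℓ ∣ Nat.card G) (hGV : G ≤ Subgroup.normalizer (V : Set X)) (R : Subgroup ↥G) (hR : Cfsg.IsFrobeniusComplement R) (hRp : (Nat.card R).Prime) (hCV : Nat.card ↥(V ⊓ Subgroup.centralizer ((R.map G.subtype : Subgroup X) : Set X)) = ℓ) : ⁅Subgroup.closure (Subtype.val '' Cfsg.frobeniusKernel R), Subgroup.closure (Subtype.val '' Cfsg.frobeniusKernel R)⁆ ≤ Subgroup.centralizer (V : Set X) := by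
  have hl := Fact.mk hℓ
  obtain ⟨K, hKset, hKn, hK1, hKc, hfpf, hcop, -, hKnil⟩ := FrobeniusStruct.exists_kernel hR
  rw [← hKset]
  rw [show Subgroup.closure (Subtype.val '' (K : Set G)) = K.map G.subtype by
    exact Subgroup.closure_eq (K.map G.subtype)]
  set K' := K.map G.subtype with hK'
  set R' := R.map G.subtype with hR'
  have hK'G : K' ≤ G := Subgroup.map_subtype_le _
  have hK'V : K' ≤ Subgroup.normalizer (V : Set X) := hK'G.trans hGV
  have hR'V : R' ≤ Subgroup.normalizer (V : Set X) := (Subgroup.map_subtype_le _).trans hGV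
  obtain ⟨y, hy1⟩ : ∃ y : R, y ≠ 1 := by
    have : Nontrivial R := Finite.one_lt_card_iff_nontrivial.1 hRp.one_lt
    exact exists_ne 1
  have hyord : orderOf y = Nat.card R := by
    have := Fact.mk hRp
    exact orderOf_eq_prime pow_card_eq_one' hy1
  set x : X := ((y : G) : X) with hx
  have hxord : orderOf x = Nat.card R := by rw [hx, Subgroup.orderOf_coe, Subgroup.orderOf_coe, hyord]
  have hxR : x ∈ R' := ⟨(y : G), y.2, rfl⟩
  have hR'x : R' = Subgroup.zpowers x := (Subgroup.eq_of_le_of_card_ge (Subgroup.zpowers_le.2 hxR)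
    (by rw [Nat.card_zpowers, hxord, hR', Subgroup.card_map_of_injective G.subtype_injective])).symm
  have hKl : (Nat.card K').Coprime ℓ := by
    refine (Nat.Coprime.symm ?_)
    exact hℓ.coprime_iff_not_dvd.2 fun h => hℓG (h.trans (Subgroup.card_dvd_of_le hK'G))
  have hcopV : (Nat.card K').Coprime (Nat.card V) := by
    obtain ⟨a, ha⟩ := (show IsPGroup ℓ V from fun v => ⟨1, by
      rw [pow_one]; exact Subtype.ext (hV.2 _ v.2)⟩).exists_card_eq
    rw [ha]
    exact hKl.pow_right a
  have := hV.1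
  set V₁ := ⁅V, K'⁆ with hV₁
  have hV₁V : V₁ ≤ V := CoprimeAct.commutator_le_left hK'V
  have hV₁ea : Cfsg.IsElementaryAbelian ℓ V₁ :=
    ⟨.of_setLike_mul_comm fun a ha b hb => setLike_mul_comm (hV₁V ha) (hV₁V hb), fun a ha => hV.2 a (hV₁V ha)⟩
  have hxK : x ∈ Subgroup.normalizer (K' : Set X) := by
    refine Subgroup.le_normalizer_map G.subtype ⟨(y : G), ?_, rfl⟩
    rw [Subgroup.normalizer_eq_top]
    exact Subgroup.mem_top _
  have hxV₁ : x ∈ Subgroup.normalizer (V₁ : Set X) := SolvBasic.mem_normalizer_iff_conjSmul.2 (by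
    change Subgroup.map (MulAut.conj x).toMonoidHom ⁅V, K'⁆ = _
    rw [Subgroup.map_commutator]
    exact congrArg₂ (fun A B : Subgroup X => ⁅A, B⁆)
      (SolvBasic.conjSmul_eq_self_of_mem_normalizer (hR'V hxR))
      (SolvBasic.conjSmul_eq_self_of_mem_normalizer hxK))
  have hfix : ∀ i, 0 < i → i < orderOf x → ∀ t ∈ K', x ^ i * t = t * x ^ i → t = 1 := by
    rintro i hi hin _ ⟨t, ht, rfl⟩ h
    rw [hxord] at hin
    have hne : (y : G) ^ i ≠ 1 := fun h1 => absurd
      (Nat.le_of_dvd hi (orderOf_dvd_of_pow_eq_one h1)) (not_le.2 (by rwa [Subgroup.orderOf_coe, hyord]))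
    rw [(Subgroup.eq_bot_iff_forall _).1 (hfpf _ (R.pow_mem y.2 i) hne) t
      ⟨ht, Subgroup.mem_centralizer_iff.2 fun z hz => by
        rw [Set.mem_singleton_iff.1 hz]
        exact Subtype.ext h⟩, map_one]
  have hCK : V₁ ⊓ Subgroup.centralizer (K' : Set X) = ⊥ := by
    rw [eq_bot_iff, ← CoprimeAct.centralizer_inf_commutator_eq_bot hK'V hcopV]
    exact le_inf (inf_le_inf_right _ hV₁V) inf_le_left
  obtain ⟨h1, h2⟩ := FrobeniusModule.count_elementary K' V₁ x
    (have := hKnil
     Group.isSolvable_of_surjective (f := G.subtype.subgroupMap K) (G.subtype.subgroupMap_surjective K))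
    hKl hV₁ea (Subgroup.normalizer_commutator_ge_right V K') hxV₁ hxK hfix hCK
  have hcen : ⁅K', K'⁆ ≤ Subgroup.centralizer (V₁ : Set X) := by
    set C₁ := V₁ ⊓ Subgroup.centralizer ({x} : Set X) with hC₁
    have hd : Nat.card C₁ ∣ ℓ := by
      rw [← hCV]
      refine Subgroup.card_dvd_of_le (le_inf (inf_le_left.trans hV₁V) ?_)
      rw [hR'x, Subgroup.zpowers_eq_closure, Subgroup.centralizer_closure]
      exact inf_le_right
    rcases hℓ.eq_one_or_self_of_dvd _ hd with h | h
    · rw [h, one_pow] at h1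
      rw [Subgroup.card_eq_one.1 h1]
      intro a _
      exact Subgroup.mem_centralizer_iff.2 fun v hv => by
        rw [Subgroup.mem_bot.1 hv, one_mul, mul_one]
    · exact h2 (hxord ▸ hRp) h
  rw [Subgroup.le_centralizer_iff]
  calc V = (V ⊓ Subgroup.centralizer (K' : Set X)) ⊔ V₁ :=
        (CoprimeAct.centralizer_sup_commutator hK'V hcopV).symm
    _ ≤ _ := sup_le (inf_le_right.trans (Subgroup.centralizer_le (Subgroup.commutator_le_self K')))
        (Subgroup.le_centralizer_iff.1 hcen)

end Cfsg.Agent.S3770
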