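import Cfsg.Statements.S3772
import Cfsg.Agent.Lib.FGStruct.SquareCount
import Cfsg.Agent.Lib.LocalEven.Frattini
import Mathlib

set_option autoImplicit false
open Cfsg

namespace Cfsg.Agent.S3772

open Subgroup
open scoped commutatorElement

/-- Let G be a finite 2-group whose Frattini subgroup Φ(G) has order 2, with |G : Φ(G)| = 2^d, and let j be the number of elements x of G with x² = 1. Then j = 2^d, or j = 2^d + 2^(d−r) or j = 2^d − 2^(d−r) for some positive integer r with 2r ≤ d. Moreover if d = 2r and j is 2^d + 2^r or 2^d − 2^r, then G is extraspecial. -/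
theorem result {G : Type*} [Group G] [Finite G] (hG : IsPGroup 2 G) (hΦ : Nat.card (frattini G) = 2) (d : ℕ) (hd : (frattini G).index = 2 ^ d) : (Nat.card {x : G // x ^ 2 = 1} = 2 ^ d ∨ ∃ r : ℕ, 1 ≤ r ∧ 2 * r ≤ d ∧ (Nat.card {x : G // x ^ 2 = 1} = 2 ^ d + 2 ^ (d - r) ∨ Nat.card {x : G // x ^ 2 = 1} + 2 ^ (d - r) = 2 ^ d)) ∧ (∀ r : ℕ, d = 2 * r → (Nat.card {x : G // x ^ 2 = 1} = 2 ^ d + 2 ^ r ∨ Nat.card {x : G // x ^ 2 = 1} + 2 ^ r = 2 ^ d) → Cfsg.IsExtraspecial 2 G) := by
  classical
  haveI : Fact (Nat.Prime 2) := ⟨Nat.prime_two⟩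
  haveI := Fintype.ofFinite G
  set Φ := frattini G with hΦdef
  obtain ⟨z, hz, hz1⟩ := (bot_or_exists_ne_one Φ).resolve_left (fun h => by
    rw [h, card_bot] at hΦ; omega)
  have hmem : ∀ u ∈ Φ, u = 1 ∨ u = z := by
    intro u hu
    by_contra hcon
    push Not at hcon
    have h3 : ({1, z, u} : Finset G).card = 3 := by
      simp [hz1.symm, hcon.1.symm, hcon.2.symm]
    have h2 : ({1, z, u} : Finset G).card ≤ (Finset.univ.filter (· ∈ Φ)).card :=
      Finset.card_le_card fun x hx => by
        simp only [Finset.mem_insert, Finset.mem_singleton] at hx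
        rcases hx with rfl | rfl | rfl <;> simp [one_mem, hz, hu]
    rw [h3, ← Fintype.card_subtype, ← Nat.card_eq_fintype_card] at h2
    have : Nat.card {x // x ∈ Φ} = 2 := hΦ
    omega
  have hzc : ∀ g : G, g * z = z * g := fun g => by
    rcases hmem (g * z * g⁻¹) ((inferInstance : Φ.Normal).conj_mem z hz g) with h | h
    · exact absurd (by rwa [mul_inv_eq_one, mul_eq_left] at h) hz1
    · exact mul_inv_eq_iff_eq_mul.1 h
  have hzz : z * z = 1 := by
    rcases hmem (z * z) (mul_mem hz hz) with h | h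
    · exact h
    · exact absurd (mul_eq_left.1 h) hz1
  have hΦc : ∀ u ∈ Φ, ∀ g : G, g * u = u * g := fun u hu g => by
    rcases hmem u hu with rfl | rfl
    · simp
    · exact hzc g
  have hsq : ∀ x : G, x * x ∈ Φ := Cfsg.Agent.SquareCount.mul_self_mem_frattini hG
  have hcm : ∀ x y : G, ⁅x, y⁆ ∈ Φ := fun x y => by
    have hQ : ∀ q : G ⧸ Φ, q * q = 1 := fun q => by
      induction q using QuotientGroup.induction_on with
      | H a => rw [← QuotientGroup.mk_mul, QuotientGroup.eq_one_iff]; exact hsq a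
    rw [← QuotientGroup.eq_one_iff, ← QuotientGroup.mk'_apply, map_commutatorElement,
      commutatorElement_eq_one_iff_mul_comm]
    have ha := inv_eq_of_mul_eq_one_right (hQ (QuotientGroup.mk' Φ x))
    have hb := inv_eq_of_mul_eq_one_right (hQ (QuotientGroup.mk' Φ y))
    have hab := inv_eq_of_mul_eq_one_right (hQ (QuotientGroup.mk' Φ x * QuotientGroup.mk' Φ y))
    rw [mul_inv_rev, ha, hb] at hab
    exact hab.symm
  -- the sign of an element of `Φ`
  let σ : G → ℤ := fun u => if u = 1 then 1 else -1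
  have hσ1 : σ 1 = 1 := if_pos rfl
  have hσz : σ z = -1 := if_neg hz1
  have hσmul : ∀ u ∈ Φ, ∀ v ∈ Φ, σ (u * v) = σ u * σ v := fun u hu v hv => by
    rcases hmem u hu with rfl | rfl <;> rcases hmem v hv with rfl | rfl <;>
      simp [hσ1, hσz, hzz]
  have hmulsq : ∀ x y : G, (x * y) * (x * y) = ⁅y, x⁆ * (x * x) * (y * y) := fun x y => by
    calc (x * y) * (x * y) = x * (⁅y, x⁆ * x * y) * y := by rw [commutatorElement_def]; group
      _ = (x * ⁅y, x⁆) * x * y * y := by group
      _ = _ := by rw [hΦc _ (hcm y x) x]; group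
  let χ : G → ℤ := fun x => σ (x * x)
  let ε : G → G → ℤ := fun x w => σ ⁅w, x⁆
  have hχ : ∀ x w, χ (x * w) = ε x w * χ x * χ w := fun x w => by
    simp only [χ, ε, hmulsq]
    rw [hσmul _ (mul_mem (hcm w x) (hsq x)) _ (hsq w), hσmul _ (hcm w x) _ (hsq x)]
  have hχsq : ∀ x, χ x * χ x = 1 := fun x => by
    simp only [χ, σ]; split_ifs <;> rfl
  have hε : ∀ w : G, (∑ x : G, ε x w) = if w ∈ center G then (Nat.card G : ℤ) else 0 := by
    intro w
    split_ifs with hw
    · have : ∀ x, ε x w = 1 := fun x => by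
        simp only [ε]
        rw [commutatorElement_eq_one_iff_mul_comm.2 (mem_center_iff.1 hw x).symm, hσ1]
      simp [this, Nat.card_eq_fintype_card]
    · obtain ⟨a, ha⟩ : ∃ a : G, ⁅w, a⁆ ≠ 1 := by
        by_contra hcon
        push Not at hcon
        exact hw (mem_center_iff.2 fun g => (commutatorElement_eq_one_iff_mul_comm.1 (hcon g)).symm)
      have hneg : ∀ x, ε (a * x) w = - ε x w := fun x => by
        simp only [ε]
        have : ⁅w, a * x⁆ = ⁅w, a⁆ * ⁅w, x⁆ := by
          calc ⁅w, a * x⁆ = ⁅w, a⁆ * (a * ⁅w, x⁆ * a⁻¹) := by simp only [commutatorElement_def]; group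
            _ = _ := by rw [hΦc _ (hcm w x) a, mul_inv_cancel_right]
        rw [this, hσmul _ (hcm w a) _ (hcm w x), (hmem _ (hcm w a)).resolve_left ha, hσz]
        ring
      have h := Equiv.sum_comp (Equiv.mulLeft a) (fun x => ε x w)
      simp only [Equiv.coe_mulLeft, hneg, Finset.sum_neg_distrib] at h
      omega
  set T : ℤ := ∑ x : G, χ x with hT
  set U : ℤ := ∑ w ∈ Finset.univ.filter (· ∈ center G), χ w with hU
  have hTT : T * T = (Nat.card G : ℤ) * U := by
    calc T * T = ∑ x : G, ∑ w : G, χ x * χ (x * w) := by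
          rw [hT, Finset.sum_mul]
          refine Finset.sum_congr rfl fun x _ => ?_
          rw [Finset.mul_sum]
          exact (Equiv.sum_comp (Equiv.mulLeft x) (fun y => χ x * χ y)).symm
      _ = ∑ w : G, ∑ x : G, χ x * χ (x * w) := Finset.sum_comm
      _ = ∑ w : G, χ w * ∑ x : G, ε x w := by
          refine Finset.sum_congr rfl fun w _ => ?_
          rw [Finset.mul_sum]
          refine Finset.sum_congr rfl fun x _ => ?_
          rw [hχ, show χ x * (ε x w * χ x * χ w) = (χ x * χ x) * (χ w * ε x w) by ring, hχsq, one_mul]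
      _ = (Nat.card G : ℤ) * U := by
          simp only [hε, mul_ite, mul_zero]
          rw [← Finset.sum_filter, hU, Finset.mul_sum]
          exact Finset.sum_congr rfl fun w _ => mul_comm _ _
  have hcardG : Nat.card G = 2 ^ (d + 1) := by
    rw [← Φ.card_mul_index, hΦ, hd, pow_succ, mul_comm]
  set j := Nat.card {x : G // x ^ 2 = 1} with hj
  have hTj : T = 2 * ((j : ℤ) - 2 ^ d) := by
    have h1 : T = ∑ x : G, ((2 : ℤ) * (if x ^ 2 = 1 then 1 else 0) - 1) :=
      Finset.sum_congr rfl fun x _ => by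
        simp only [χ, σ, pow_two]; split_ifs <;> rfl
    rw [h1, Finset.sum_sub_distrib, ← Finset.mul_sum, Finset.sum_boole, Finset.sum_const,
      Finset.card_univ, ← Fintype.card_subtype, ← Nat.card_eq_fintype_card, ← Nat.card_eq_fintype_card,
      ← hj, hcardG]
    push_cast
    rw [nsmul_eq_mul, mul_one]
    push_cast
    ring
  have hΦZ : Φ ≤ center G := fun u hu => mem_center_iff.2 (hΦc u hu)
  obtain ⟨m, hm⟩ := IsPGroup.iff_card.1 (hG.to_subgroup (center G))
  have hm1 : 1 ≤ m := by
    have := card_le_of_le hΦZ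
    rw [hΦ, hm] at this
    by_contra h0
    rw [show m = 0 by omega] at this
    omega
  have hUor : U = 0 ∨ (U = 2 ^ m ∧ ∀ w ∈ center G, w * w = 1) := by
    by_cases hall : ∀ w ∈ center G, w * w = 1
    · right
      refine ⟨?_, hall⟩
      rw [hU, Finset.sum_congr rfl (g := fun _ => (1 : ℤ)) fun w hw => by
        simp only [χ, hall w (Finset.mem_filter.1 hw).2, hσ1]]
      rw [Finset.sum_const, nsmul_eq_mul, mul_one, ← Fintype.card_subtype, ← Nat.card_eq_fintype_card]
      exact_mod_cast hm
    · left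
      push Not at hall
      obtain ⟨a, ha, ha1⟩ := hall
      have hneg : ∀ x, χ (a * x) = - χ x := fun x => by
        have h1 : χ a = -1 := by simp only [χ, σ, if_neg ha1]
        rw [hχ, h1]
        simp only [ε]
        rw [commutatorElement_eq_one_iff_mul_comm.2 (mem_center_iff.1 ha x), hσ1]
        ring
      have h2 : U = ∑ w ∈ Finset.univ.filter (· ∈ center G), χ (a * w) := by
        rw [hU]
        refine (Finset.sum_equiv (Equiv.mulLeft a) (fun w => ?_) fun w _ => rfl).symm
        simp only [Finset.mem_filter, Finset.mem_univ, true_and, Equiv.coe_mulLeft]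
        exact ⟨fun h => mul_mem ha h, fun h => by simpa using mul_mem (inv_mem ha) h⟩
      simp only [hneg, Finset.sum_neg_distrib, ← hU] at h2
      omega
  set S : ℤ := (j : ℤ) - 2 ^ d with hS
  have hkey : S = 0 ∨ ∃ k, S.natAbs = 2 ^ k ∧ 2 * k + 1 = d + m ∧ m ≤ d := by
    rcases hUor with hU0 | ⟨hUm, hexp⟩
    · left
      rw [hU0, mul_zero, mul_self_eq_zero, hTj] at hTT
      omega
    · right
      have hS2 : S.natAbs * S.natAbs = 2 ^ (d + m - 1) := by
        have h4 : (4 : ℤ) * (S * S) = 4 * 2 ^ (d + m - 1) := by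
          rw [hTj, hUm, hcardG] at hTT
          push_cast at hTT
          rw [show (4 : ℤ) * 2 ^ (d + m - 1) = 2 ^ (d + 1) * 2 ^ m by
            rw [← pow_add, show d + 1 + m = d + m - 1 + 2 by omega, pow_add]; ring, ← hTT]
          ring
        have := congrArg Int.natAbs (mul_left_cancel₀ (by norm_num) h4)
        rw [Int.natAbs_mul, Int.natAbs_pow] at this
        exact this
      obtain ⟨k, -, hk⟩ := (Nat.dvd_prime_pow Nat.prime_two).1 (Dvd.intro _ hS2 : S.natAbs ∣ 2 ^ (d + m - 1))
      refine ⟨k, hk, ?_, ?_⟩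
      · rw [hk, ← pow_add] at hS2
        have := Nat.pow_right_injective le_rfl hS2
        omega
      · by_contra hmd
        have htop : center G = ⊤ := by
          refine eq_top_of_le_card _ ?_
          rw [hcardG, hm]
          exact Nat.pow_le_pow_right (by norm_num) (by omega)
        have hbot : Φ ≤ ⊥ := Cfsg.Agent.LEFrattini.frattini_le (p := 2)
          (fun x y => mem_bot.2 (commutatorElement_eq_one_iff_mul_comm.2
            (mem_center_iff.1 (htop ▸ mem_top y : y ∈ center G) x)))
          (fun x => mem_bot.2 (by rw [pow_two]; exact hexp x (htop ▸ mem_top x)))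
        exact hz1 (mem_bot.1 (hbot hz))
  refine ⟨?_, ?_⟩
  · rcases hkey with h0 | ⟨k, hk, hkm, hmd⟩
    · left
      have : (j : ℤ) = 2 ^ d := by omega
      exact_mod_cast this
    · right
      refine ⟨d - k, by omega, by omega, ?_⟩
      rw [show d - (d - k) = k by omega]
      rcases Int.natAbs_eq S with h | h
      · left
        rw [hk] at h
        have : (j : ℤ) = (2 ^ d + 2 ^ k : ℕ) := by push_cast at h ⊢; omega
        exact_mod_cast this
      · right
        rw [hk] at h
        have : ((j + 2 ^ k : ℕ) : ℤ) = (2 ^ d : ℕ) := by push_cast at h ⊢; omega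
        exact_mod_cast this
  · intro r hr hjr
    have hSr : S.natAbs = 2 ^ r := by
      rcases hjr with h | h
      · have : S = ((2 ^ r : ℕ) : ℤ) := by rw [hS, h]; push_cast; ring
        rw [this, Int.natAbs_natCast]
      · have h' := congrArg (Nat.cast : ℕ → ℤ) h
        push_cast at h'
        have : S = -((2 ^ r : ℕ) : ℤ) := by rw [hS]; push_cast; linarith
        rw [this, Int.natAbs_neg, Int.natAbs_natCast]
    rcases hkey with h0 | ⟨k, hk, hkm, hmd⟩
    · rw [h0] at hSr
      exact absurd hSr.symm (by positivity)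
    obtain rfl : k = r := Nat.pow_right_injective le_rfl (hk.symm.trans hSr)
    have hm1' : m = 1 := by omega
    have hZΦ : center G = Φ := (eq_of_le_of_card_ge hΦZ (by rw [hm, hm1', hΦ, pow_one])).symm
    refine ⟨⟨hG, hZΦ.symm, ?_⟩, by rw [hm, hm1', pow_one]⟩
    rw [hZΦ]
    have hle : commutator G ≤ Φ := by
      rw [_root_.commutator_def, commutator_le]; exact fun x _ y _ => hcm x y
    refine eq_of_le_of_card_ge hle ?_
    rw [hΦ]
    by_contra hlt
    have hb : commutator G = ⊥ := eq_bot_of_card_le _ (by omega)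
    have htop : center G = ⊤ := center_eq_top_iff.2 ((commutator_eq_bot_iff G).1 hb)
    rw [htop, card_top, hcardG] at hm
    have := Nat.pow_right_injective le_rfl hm
    omega

end Cfsg.Agent.S3772
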