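import Cfsg.Statements.S3773
import Cfsg.Agent.Lib.LocalEven.Frattini
import Cfsg.Agent.Lib.FGStruct.SquareCount
import Mathlib

set_option autoImplicit false
open Cfsg

namespace Cfsg.Agent.S3773

open Subgroup
open scoped commutatorElement

/-- In an elementary abelian `2`-group a subgroup avoiding `u` lies in one of index two. -/
lemma exists_index_two {M : Type*} [Group M] [Finite M] (hM : ∀ a : M, a * a = 1) (D : Subgroup M)
    (u : M) (hu : u ∉ D) : ∃ L : Subgroup M, D ≤ L ∧ u ∉ L ∧ L.index = 2 := by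
  obtain ⟨L, hL⟩ := (Set.toFinite {L : Subgroup M | D ≤ L ∧ u ∉ L}).exists_maximal ⟨D, le_rfl, hu⟩
  obtain ⟨hDL, huL⟩ := hL.prop
  have hcomm : ∀ a b : M, a * b = b * a := fun a b => by
    have h1 := inv_eq_of_mul_eq_one_right (hM (a * b))
    rw [mul_inv_rev, inv_eq_of_mul_eq_one_right (hM a), inv_eq_of_mul_eq_one_right (hM b)] at h1
    exact h1.symm
  refine ⟨L, hDL, huL, index_eq_two_iff.2 ⟨u, fun b => ?_⟩⟩
  by_cases hb : b ∈ L
  · exact Or.inr ⟨hb, fun h => huL (by simpa using mul_mem (inv_mem hb) h)⟩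
  · refine Or.inl ⟨?_, hb⟩
    let L' : Subgroup M :=
      { carrier := {x | x ∈ L ∨ b * x ∈ L}
        one_mem' := Or.inl (one_mem L)
        inv_mem' := fun {x} hx => by rwa [inv_eq_of_mul_eq_one_right (hM x)]
        mul_mem' := fun {x y} hx hy => by
          rcases hx with hx | hx <;> rcases hy with hy | hy
          · exact Or.inl (mul_mem hx hy)
          · refine Or.inr ?_
            rw [← mul_assoc, hcomm b x, mul_assoc]
            exact mul_mem hx hy
          · refine Or.inr ?_
            rw [← mul_assoc]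
            exact mul_mem hx hy
          · refine Or.inl ?_
            have h2 := mul_mem hx hy
            rwa [show b * x * (b * y) = x * y by
              rw [hcomm b x, mul_assoc, ← mul_assoc b b y, hM, one_mul]] at h2 }
    by_contra hbu
    have hu' : u ∉ L' := by
      rintro (h | h)
      · exact huL h
      · exact hbu h
    exact hb (hL.le_of_ge ⟨hDL.trans fun x hx => Or.inl hx, hu'⟩ (fun x hx => Or.inl hx)
      (show b ∈ L' from Or.inr (by rw [hM]; exact one_mem L)))

lemma pow_half_dvd (s : ℕ) : ∀ T : ℤ, (2 : ℤ) ^ s ∣ T * T → (2 : ℤ) ^ ((s + 1) / 2) ∣ T := by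
  induction s using Nat.strong_induction_on with
  | _ s ih =>
    intro T hT
    rcases s with _ | _ | s
    · simp
    · rw [pow_one] at hT
      simpa using ((Int.prime_two).dvd_or_dvd hT).elim id id
    · obtain ⟨T', rfl⟩ : (2 : ℤ) ∣ T :=
        ((Int.prime_two).dvd_or_dvd ((dvd_pow_self 2 (Nat.succ_ne_zero _)).trans hT)).elim id id
      rw [show (2 * T') * (2 * T') = 2 ^ 2 * (T' * T') by ring, show s + 1 + 1 = 2 + s by omega,
        pow_add] at hT
      have := ih s (by omega) T' ((mul_dvd_mul_iff_left (by norm_num)).1 hT)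
      rw [show (s + 1 + 1 + 1) / 2 = (s + 1) / 2 + 1 by omega, pow_succ']
      exact mul_dvd_mul_left 2 this

/-- The counting bound. -/
lemma bound {G : Type*} [Group G] [Finite G] (hG : IsPGroup 2 G) (K C : Subgroup G)
    (hK : K ≤ center G) (hK2 : ∀ k ∈ K, k * k = 1) (hC : C ≤ center G) (hC2 : ∀ c ∈ C, c ∈ center G)
    (hsq : ∀ x : G, x * x ∈ K) (hcm : ∀ x y : G, ⁅x, y⁆ ∈ K) :
    Nat.card G * Nat.card C ≤ (Nat.card K * Nat.card {x : G // x ^ 2 = 1}) ^ 2 := by
  classical
  haveI := Fintype.ofFinite G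
  haveI : Fact (Nat.Prime 2) := ⟨Nat.prime_two⟩
  letI : CommGroup K := { (inferInstance : Group K) with
    mul_comm := fun a b => Subtype.ext (mem_center_iff.1 (hK b.2) a) }
  haveI : Finite (K →* ℤˣ) := Finite.of_injective _ DFunLike.coe_injective
  haveI := Fintype.ofFinite (K →* ℤˣ)
  have hcardΛ : Nat.card (K →* ℤˣ) ≤ Nat.card K := by
    haveI : NeZero (Monoid.exponent K : ℂ) :=
      ⟨Nat.cast_ne_zero.mpr Monoid.exponent_ne_zero_of_finite⟩
    rw [← CommGroup.card_monoidHom_of_hasEnoughRootsOfUnity K ℂ]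
    haveI : Finite (K →* ℂˣ) := Nat.finite_of_card_ne_zero (by
      rw [CommGroup.card_monoidHom_of_hasEnoughRootsOfUnity K ℂ]; exact Nat.card_pos.ne')
    refine Nat.card_le_card_of_injective
      (fun l => (Units.map (Int.castRingHom ℂ).toMonoidHom).comp l) fun a b hab => ?_
    refine MonoidHom.ext fun k => Units.ext ?_
    have := congrArg (Units.val) (DFunLike.congr_fun hab k)
    simpa using this
  let sqk : G → K := fun x => ⟨x * x, hsq x⟩
  let ck : G → G → K := fun w x => ⟨⁅w, x⁆, hcm w x⟩
  have hck : ∀ w a x, ck w (a * x) = ck w a * ck w x := fun w a x => Subtype.ext (by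
    show ⁅w, a * x⁆ = ⁅w, a⁆ * ⁅w, x⁆
    calc ⁅w, a * x⁆ = ⁅w, a⁆ * (a * ⁅w, x⁆ * a⁻¹) := by simp only [commutatorElement_def]; group
      _ = _ := by rw [mem_center_iff.1 (hK (hcm w x)) a, mul_inv_cancel_right])
  have hck' : ∀ v w x, ck (v * w) x = ck v x * ck w x := fun v w x => Subtype.ext (by
    show ⁅v * w, x⁆ = ⁅v, x⁆ * ⁅w, x⁆
    calc ⁅v * w, x⁆ = (v * ⁅w, x⁆ * v⁻¹) * ⁅v, x⁆ := by simp only [commutatorElement_def]; group
      _ = ⁅w, x⁆ * ⁅v, x⁆ := by rw [mem_center_iff.1 (hK (hcm w x)) v, mul_inv_cancel_right]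
      _ = _ := mem_center_iff.1 (hK (hcm v x)) _)
  have hsqk : ∀ x y, sqk (x * y) = ck y x * sqk x * sqk y := fun x y => Subtype.ext (by
    show (x * y) * (x * y) = ⁅y, x⁆ * (x * x) * (y * y)
    calc (x * y) * (x * y) = x * (⁅y, x⁆ * x * y) * y := by rw [commutatorElement_def]; group
      _ = (x * ⁅y, x⁆) * x * y * y := by group
      _ = _ := by rw [mem_center_iff.1 (hK (hcm y x)) x]; group)
  obtain ⟨a, ha⟩ := IsPGroup.iff_card.1 hG
  obtain ⟨b, hb⟩ := IsPGroup.iff_card.1 (hG.to_subgroup C)
  -- each character sum is divisible by a large power of two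
  have hdiv : ∀ l : K →* ℤˣ, (2 : ℤ) ^ ((a + b + 1) / 2) ∣ ∑ x : G, ((l (sqk x) : ℤˣ) : ℤ) := by
    intro l
    apply pow_half_dvd
    let χ : G → ℤ := fun x => ((l (sqk x) : ℤˣ) : ℤ)
    let ε : G → G → ℤ := fun x w => ((l (ck w x) : ℤˣ) : ℤ)
    have hχ : ∀ x w, χ (x * w) = ε x w * χ x * χ w := fun x w => by
      simp only [χ, ε, hsqk, map_mul, Units.val_mul]
    have hχsq : ∀ x, χ x * χ x = 1 := fun x => by
      simp only [χ]; rw [← Units.val_mul, Int.units_mul_self, Units.val_one]
    let R : Subgroup G :=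
      { carrier := {w | ∀ x, l (ck w x) = 1}
        one_mem' := fun x => by
          rw [show ck 1 x = 1 from Subtype.ext (commutatorElement_one_left x), map_one]
        mul_mem' := fun {v w} hv hw x => by rw [hck', map_mul, hv x, hw x, one_mul]
        inv_mem' := fun {v} hv x => by
          have h := congrArg l (hck' v⁻¹ v x)
          rw [inv_mul_cancel, map_mul, hv x, mul_one,
            show ck 1 x = 1 from Subtype.ext (commutatorElement_one_left x), map_one] at h
          exact h.symm }
    have hCR : C ≤ R := fun c hc x => by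
      rw [show ck c x = 1 from Subtype.ext (commutatorElement_eq_one_iff_mul_comm.2
        (mem_center_iff.1 (hC hc) x).symm), map_one]
    have hε : ∀ w : G, (∑ x : G, ε x w) = if w ∈ R then (Nat.card G : ℤ) else 0 := by
      intro w
      split_ifs with hw
      · simp [ε, show ∀ x, l (ck w x) = 1 from hw, Nat.card_eq_fintype_card]
      · obtain ⟨c, hc⟩ : ∃ c : G, l (ck w c) ≠ 1 := by
          by_contra hcon
          push Not at hcon
          exact hw hcon
        have hneg : ∀ x, ε (c * x) w = - ε x w := fun x => by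
          simp only [ε, hck, map_mul, Units.val_mul, (Int.units_eq_one_or _).resolve_left hc]
          simp
        have h := Equiv.sum_comp (Equiv.mulLeft c) (fun x => ε x w)
        simp only [Equiv.coe_mulLeft, hneg, Finset.sum_neg_distrib] at h
        omega
    set U : ℤ := ∑ w ∈ Finset.univ.filter (· ∈ R), χ w with hU
    have hTT : (∑ x : G, χ x) * (∑ x : G, χ x) = (Nat.card G : ℤ) * U := by
      calc (∑ x : G, χ x) * (∑ x : G, χ x) = ∑ x : G, ∑ w : G, χ x * χ (x * w) := by
            rw [Finset.sum_mul]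
            refine Finset.sum_congr rfl fun x _ => ?_
            rw [Finset.mul_sum]
            exact (Equiv.sum_comp (Equiv.mulLeft x) (fun y => χ x * χ y)).symm
        _ = ∑ w : G, ∑ x : G, χ x * χ (x * w) := Finset.sum_comm
        _ = ∑ w : G, χ w * ∑ x : G, ε x w := by
            refine Finset.sum_congr rfl fun w _ => ?_
            rw [Finset.mul_sum]
            refine Finset.sum_congr rfl fun x _ => ?_
            rw [hχ, show χ x * (ε x w * χ x * χ w) = (χ x * χ x) * (χ w * ε x w) by ring, hχsq, one_mul]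
        _ = (Nat.card G : ℤ) * U := by
            simp only [hε, mul_ite, mul_zero]
            rw [← Finset.sum_filter, hU, Finset.mul_sum]
            exact Finset.sum_congr rfl fun w _ => mul_comm _ _
    have hUd : (Nat.card C : ℤ) ∣ U := by
      by_cases hall : ∀ w ∈ R, χ w = 1
      · rw [hU, Finset.sum_congr rfl (g := fun _ => (1 : ℤ)) fun w hw =>
          hall w (Finset.mem_filter.1 hw).2]
        rw [Finset.sum_const, nsmul_eq_mul, mul_one, ← Fintype.card_subtype, ← Nat.card_eq_fintype_card]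
        exact Int.natCast_dvd_natCast.2 (card_dvd_of_le hCR)
      · push Not at hall
        obtain ⟨c, hc, hc1⟩ := hall
        have hneg : ∀ x ∈ R, χ (c * x) = - χ x := fun x hx => by
          rw [hχ]
          simp only [ε, hx c, Units.val_one, one_mul]
          rw [show χ c = -1 by
            simp only [χ] at hc1 ⊢
            rcases Int.units_eq_one_or (l (sqk c)) with h | h
            · rw [h] at hc1; exact absurd rfl hc1
            · rw [h]; rfl]
          ring
        have h2 : U = ∑ w ∈ Finset.univ.filter (· ∈ R), χ (c * w) := by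
          rw [hU]
          refine (Finset.sum_equiv (Equiv.mulLeft c) (fun w => ?_) fun w _ => rfl).symm
          simp only [Finset.mem_filter, Finset.mem_univ, true_and, Equiv.coe_mulLeft]
          exact ⟨fun h => mul_mem hc h, fun h => by simpa using mul_mem (inv_mem hc) h⟩
        rw [Finset.sum_congr rfl fun w hw => hneg w (Finset.mem_filter.1 hw).2,
          Finset.sum_neg_distrib, ← hU] at h2
        rw [show U = 0 by omega]
        exact dvd_zero _
    rw [hTT, pow_add, ha, show ((2 : ℤ) ^ b) = (Nat.card C : ℤ) by rw [hb]; push_cast; ring]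
    push_cast
    exact mul_dvd_mul_left _ hUd
  -- the sum of all of them
  have hsum : (∑ l : K →* ℤˣ, ∑ x : G, ((l (sqk x) : ℤˣ) : ℤ)) =
      ((Nat.card (K →* ℤˣ) * Nat.card {x : G // x ^ 2 = 1} : ℕ) : ℤ) := by
    rw [Finset.sum_comm]
    have hx : ∀ x : G, (∑ l : K →* ℤˣ, ((l (sqk x) : ℤˣ) : ℤ)) =
        if x ^ 2 = 1 then (Nat.card (K →* ℤˣ) : ℤ) else 0 := by
      intro x
      split_ifs with h
      · have : sqk x = 1 := Subtype.ext (show x * x = 1 by rw [← pow_two]; exact h)
        simp [this, Nat.card_eq_fintype_card]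
      · have hne : sqk x ≠ 1 := fun e => h (by rw [pow_two]; exact congrArg Subtype.val e)
        obtain ⟨L, -, huL, hL⟩ := exists_index_two (fun k : K => Subtype.ext (hK2 k k.2)) ⊥ (sqk x)
          (by rw [mem_bot]; exact hne)
        let l₀ : K →* ℤˣ := MonoidHom.mk' (fun k => if k ∈ L then 1 else -1) (fun k m => by
          have := mul_mem_iff_of_index_two hL (a := k) (b := m)
          by_cases hk : k ∈ L <;> by_cases hm : m ∈ L <;> simp [this, hk, hm])
        have hl₀ : l₀ (sqk x) = -1 := if_neg huL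
        have h2 := Equiv.sum_comp (Equiv.mulLeft l₀) (fun l : K →* ℤˣ => ((l (sqk x) : ℤˣ) : ℤ))
        simp only [Equiv.coe_mulLeft, MonoidHom.mul_apply, hl₀, Units.val_mul, Units.val_neg,
          Units.val_one, neg_mul, one_mul, Finset.sum_neg_distrib] at h2
        omega
    rw [Finset.sum_congr rfl fun x _ => hx x, ← Finset.sum_filter, Finset.sum_const, nsmul_eq_mul,
      ← Fintype.card_subtype, ← Nat.card_eq_fintype_card]
    push_cast
    ring
  have hd : (2 : ℤ) ^ ((a + b + 1) / 2) ∣
      ((Nat.card (K →* ℤˣ) * Nat.card {x : G // x ^ 2 = 1} : ℕ) : ℤ) :=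
    hsum ▸ Finset.dvd_sum fun l _ => hdiv l
  haveI : Nonempty {x : G // x ^ 2 = 1} := ⟨⟨1, one_pow 2⟩⟩
  have hle : 2 ^ ((a + b + 1) / 2) ≤ Nat.card (K →* ℤˣ) * Nat.card {x : G // x ^ 2 = 1} :=
    Nat.le_of_dvd (Nat.mul_pos Nat.card_pos Nat.card_pos) (by exact_mod_cast hd)
  rw [ha, hb, ← pow_add]
  calc 2 ^ (a + b) ≤ 2 ^ ((a + b + 1) / 2 * 2) := Nat.pow_le_pow_right (by norm_num) (by omega)
    _ = (2 ^ ((a + b + 1) / 2)) ^ 2 := pow_mul _ _ _
    _ ≤ _ := Nat.pow_le_pow_left (hle.trans (Nat.mul_le_mul_right _ hcardΛ)) 2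

/-- Let G be a finite 2-group of nilpotency class at most 2 and exponent dividing 4 in which the elements x with x² = 1 form a subgroup N. Then |G| ≤ |N|³, and |G| < |N|³ unless G is special. -/
theorem result {G : Type*} [Group G] [Finite G] (hG : IsPGroup 2 G) (hcl : (⊤ : Subgroup G).lowerCentralSeries 2 = ⊥) (hexp : ∀ x : G, x ^ 4 = 1) (hN : ∀ x y : G, x ^ 2 = 1 → y ^ 2 = 1 → (x * y) ^ 2 = 1) : Nat.card G ≤ Nat.card {x : G // x ^ 2 = 1} ^ 3 ∧ (¬ Cfsg.IsSpecial 2 G → Nat.card G < Nat.card {x : G // x ^ 2 = 1} ^ 3) := by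
  classical
  haveI : Fact (Nat.Prime 2) := ⟨Nat.prime_two⟩
  let N : Subgroup G :=
    { carrier := {x | x ^ 2 = 1}
      one_mem' := one_pow 2
      mul_mem' := fun {x y} hx hy => hN x y hx hy
      inv_mem' := fun {x} hx => by
        show x⁻¹ ^ 2 = 1
        rw [inv_pow, show x ^ 2 = 1 from hx, inv_one] }
  haveI hNn : N.Normal := ⟨fun n hn g => by
    show (g * n * g⁻¹) ^ 2 = 1
    rw [conj_pow, show n ^ 2 = 1 from hn]; group⟩
  have hNcard : Nat.card {x : G // x ^ 2 = 1} = Nat.card N := rfl
  rw [hNcard]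
  have hsqN : ∀ x : G, x * x ∈ N := fun x => by
    show (x * x) ^ 2 = 1
    rw [← pow_two, ← pow_mul]; exact hexp x
  have hcN : ∀ x y : G, ⁅x, y⁆ ∈ N := fun x y => by
    have hQ : ∀ q : G ⧸ N, q * q = 1 := fun q => by
      induction q using QuotientGroup.induction_on with
      | H a => rw [← QuotientGroup.mk_mul, QuotientGroup.eq_one_iff]; exact hsqN a
    rw [← QuotientGroup.eq_one_iff, ← QuotientGroup.mk'_apply, map_commutatorElement,
      commutatorElement_eq_one_iff_mul_comm]
    have h1 := inv_eq_of_mul_eq_one_right (hQ (QuotientGroup.mk' N x))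
    have h2 := inv_eq_of_mul_eq_one_right (hQ (QuotientGroup.mk' N y))
    have h3 := inv_eq_of_mul_eq_one_right (hQ (QuotientGroup.mk' N x * QuotientGroup.mk' N y))
    rw [mul_inv_rev, h1, h2] at h3
    exact h3.symm
  have hcc : ∀ x y : G, ⁅x, y⁆ ∈ center G := fun x y => by
    refine mem_center_iff.2 fun g => ?_
    have h : ⁅⁅x, y⁆, g⁆ ∈ (⊤ : Subgroup G).lowerCentralSeries 2 := by
      rw [Subgroup.lowerCentralSeries_succ]
      exact commutator_mem_commutator (by
        rw [Subgroup.lowerCentralSeries_succ, Subgroup.lowerCentralSeries_zero]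
        exact commutator_mem_commutator (mem_top x) (mem_top y)) (mem_top g)
    rw [hcl, mem_bot, commutatorElement_eq_one_iff_mul_comm] at h
    exact h.symm
  have hsc : ∀ x : G, x * x ∈ center G := fun x => by
    refine mem_center_iff.2 fun g => ?_
    symm
    rw [← commutatorElement_eq_one_iff_mul_comm]
    calc ⁅x * x, g⁆ = (x * ⁅x, g⁆ * x⁻¹) * ⁅x, g⁆ := by simp only [commutatorElement_def]; group
      _ = ⁅x, g⁆ * ⁅x, g⁆ := by rw [mem_center_iff.1 (hcc x g) x, mul_inv_cancel_right]
      _ = 1 := by rw [← pow_two]; exact hcN x g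
  set M := N ⊓ center G with hM
  have h1 := bound hG M M inf_le_right (fun k hk => by rw [← pow_two]; exact hk.1) inf_le_right
    (fun c hc => hc.2) (fun x => ⟨hsqN x, hsc x⟩) (fun x y => ⟨hcN x y, hcc x y⟩)
  rw [hNcard] at h1
  have hMN : Nat.card M ≤ Nat.card N := card_le_of_le inf_le_left
  have h1' : Nat.card G ≤ Nat.card M * Nat.card N ^ 2 := by
    refine Nat.le_of_mul_le_mul_right ?_ (Nat.card_pos (α := M))
    exact h1.trans (le_of_eq (by ring))
  refine ⟨h1'.trans (le_of_le_of_eq (Nat.mul_le_mul_right _ hMN) (by ring)), fun hns => ?_⟩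
  by_contra hlt
  push Not at hlt
  apply hns
  have hNpos : 0 < Nat.card N := Nat.card_pos
  -- `N` is central
  have hMeq : M = N := eq_of_le_of_card_ge inf_le_left (by
    refine Nat.le_of_mul_le_mul_right ?_ (pow_pos hNpos 2)
    calc Nat.card N * Nat.card N ^ 2 = Nat.card N ^ 3 := by ring
      _ ≤ _ := hlt.trans h1')
  have hNc : N ≤ center G := hMeq ▸ inf_le_right
  have hN2 : ∀ k ∈ N, k * k = 1 := fun k hk => by rw [← pow_two]; exact hk
  -- the centre is `N`
  have h2 := bound hG N (center G) hNc hN2 le_rfl (fun _ h => h) hsqN hcN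
  rw [hNcard] at h2
  have hZ : center G = N := (eq_of_le_of_card_ge hNc (by
    refine Nat.le_of_mul_le_mul_left ?_ (pow_pos hNpos 3)
    calc Nat.card N ^ 3 * Nat.card (center G) ≤ Nat.card G * Nat.card (center G) :=
          Nat.mul_le_mul_right _ hlt
      _ ≤ _ := h2.trans (le_of_eq (by ring)))).symm
  -- the derived subgroup is `N`
  have hder : commutator G = N := by
    have hle : commutator G ≤ N := by
      rw [_root_.commutator_def, commutator_le]; exact fun x _ y _ => hcN x y
    refine le_antisymm hle fun u hu => ?_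
    by_contra huD
    obtain ⟨L₀, hDL, huL, hL⟩ := exists_index_two (fun k : N => Subtype.ext (hN2 k k.2))
      ((commutator G).subgroupOf N) ⟨u, hu⟩ huD
    let K := L₀.map N.subtype
    have hKN : K ≤ N := map_subtype_le _
    have hDK : commutator G ≤ K := by
      rw [← map_subgroupOf_eq_of_le hle]; exact map_mono hDL
    haveI : L₀.Normal := normal_of_index_eq_two hL
    let ψ : G →* N ⧸ L₀ := MonoidHom.mk' (fun x => QuotientGroup.mk (⟨x * x, hsqN x⟩ : N))
      (fun x y => by
        rw [← QuotientGroup.mk_mul]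
        refine (QuotientGroup.eq).2 ?_
        have hc : ⁅y, x⁆ ∈ commutator G := by
          rw [_root_.commutator_def]; exact commutator_mem_commutator (mem_top y) (mem_top x)
        refine hDL (mem_subgroupOf.2 ?_)
        simp only [Subgroup.coe_mul, Subgroup.coe_inv]
        show (x * y * (x * y))⁻¹ * (x * x * (y * y)) ∈ commutator G
        have e : x * y * (x * y) = (x * x * (y * y)) * ⁅y, x⁆ := by
          calc x * y * (x * y) = x * (⁅y, x⁆ * x * y) * y := by rw [commutatorElement_def]; group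
            _ = (x * ⁅y, x⁆) * x * y * y := by group
            _ = ⁅y, x⁆ * (x * x * (y * y)) := by rw [mem_center_iff.1 (hcc y x) x]; group
            _ = _ := (mem_center_iff.1 (hcc y x) _).symm
        rw [e, mul_inv_rev, inv_mul_cancel_right]
        exact inv_mem hc)
    set H := ψ.ker with hH
    have hHidx : H.index ≤ 2 := by
      rw [hH, index_ker]
      calc Nat.card ψ.range ≤ Nat.card (N ⧸ L₀) := card_le_card_group _
        _ = 2 := hL
    have hNH : N ≤ H := fun n hn => by
      rw [hH, MonoidHom.mem_ker]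
      exact (QuotientGroup.eq_one_iff _).2
        (by rw [show (⟨n * n, hsqN n⟩ : N) = 1 from Subtype.ext (hN2 n hn)]; exact one_mem _)
    have hHsq : ∀ x ∈ H, x * x ∈ K := fun x hx =>
      ⟨_, (QuotientGroup.eq_one_iff (⟨x * x, hsqN x⟩ : N)).1 (MonoidHom.mem_ker.1 hx), rfl⟩
    have h3 := bound (G := H) (hG.to_subgroup H) (K.subgroupOf H) (N.subgroupOf H)
      (fun k hk => mem_center_iff.2 fun g => Subtype.ext (mem_center_iff.1 (hNc (hKN hk)) g))
      (fun k hk => Subtype.ext (hN2 k (hKN hk)))
      (fun k hk => mem_center_iff.2 fun g => Subtype.ext (mem_center_iff.1 (hNc hk) g))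
      (fun k hk => mem_center_iff.2 fun g => Subtype.ext (mem_center_iff.1 (hNc hk) g))
      (fun x => hHsq x x.2) (fun x y => hDK (by
        rw [_root_.commutator_def]
        exact commutator_mem_commutator (mem_top (x : G)) (mem_top (y : G))))
    rw [Nat.card_congr (subgroupOfEquivOfLe (hKN.trans hNH)).toEquiv,
      Nat.card_congr (subgroupOfEquivOfLe hNH).toEquiv] at h3
    have hc' : Nat.card {x : H // x ^ 2 = 1} = Nat.card N := Nat.card_congr
      { toFun := fun x => ⟨x.1, (congrArg Subtype.val x.2 :)⟩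
        invFun := fun x => ⟨⟨x, hNH x.2⟩, Subtype.ext x.2⟩
        left_inv := fun x => rfl
        right_inv := fun x => rfl }
    have hK2 : 2 * Nat.card K = Nat.card N := by
      rw [card_map_of_injective N.subtype_injective, ← L₀.card_mul_index, hL, mul_comm]
    have hGH := H.card_mul_index
    rw [hc'] at h3
    have hpos : 0 < Nat.card K := Nat.card_pos
    have h4 : Nat.card H ≤ Nat.card K ^ 2 * Nat.card N := by
      refine Nat.le_of_mul_le_mul_right ?_ hNpos
      exact h3.trans (le_of_eq (by ring))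
    have h5 : Nat.card G ≤ 2 * Nat.card H := by
      rw [← hGH, mul_comm 2]; exact Nat.mul_le_mul_left _ hHidx
    have h6 : Nat.card N ^ 3 = 4 * (Nat.card K ^ 2 * Nat.card N) := by rw [← hK2]; ring
    have : 0 < Nat.card K ^ 2 * Nat.card N := by positivity
    omega
  refine ⟨hG, le_antisymm ?_ ?_, hder.trans hZ.symm⟩
  · rw [hZ]
    exact Cfsg.Agent.LEFrattini.frattini_le (p := 2) hcN (fun x => by rw [pow_two]; exact hsqN x)
  · rw [hZ, ← hder, _root_.commutator_def, commutator_le]
    intro x _ y _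
    have hQ : ∀ q : G ⧸ frattini G, q * q = 1 := fun q => by
      induction q using QuotientGroup.induction_on with
      | H a =>
        rw [← QuotientGroup.mk_mul, QuotientGroup.eq_one_iff]
        exact Cfsg.Agent.SquareCount.mul_self_mem_frattini hG a
    rw [← QuotientGroup.eq_one_iff, ← QuotientGroup.mk'_apply, map_commutatorElement,
      commutatorElement_eq_one_iff_mul_comm]
    have h1 := inv_eq_of_mul_eq_one_right (hQ (QuotientGroup.mk' _ x))
    have h2 := inv_eq_of_mul_eq_one_right (hQ (QuotientGroup.mk' _ y))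
    have h3 := inv_eq_of_mul_eq_one_right (hQ (QuotientGroup.mk' _ x * QuotientGroup.mk' _ y))
    rw [mul_inv_rev, h1, h2] at h3
    exact h3.symm

end Cfsg.Agent.S3773
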