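import Cfsg.Statements.S3774


set_option autoImplicit false
open Cfsg

namespace Cfsg.Agent.S3774

/-- The order of the last non-trivial `2`-power of an element, as an involution. -/
lemma exists_invol_map {G : Type*} [Group G] (hG : IsPGroup 2 G) :
    ∃ f : {g : G // g ≠ 1} → {z : G // z ≠ 1 ∧ z ^ 2 = 1}, ∀ g,
      (f g : G) = (g : G) ^ (orderOf (g : G) / 2) := by
  refine ⟨fun g => ⟨(g : G) ^ (orderOf (g : G) / 2), ?_, ?_⟩, fun g => rfl⟩
  all_goals
    obtain ⟨k, hk⟩ := IsPGroup.iff_orderOf.1 hG (g : G)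
    obtain ⟨j, rfl⟩ : ∃ j, k = j + 1 := ⟨k - 1, by
      rcases k with _ | k
      · exact absurd (orderOf_eq_one_iff.1 (hk.trans (pow_zero 2))) g.2
      · omega⟩
    rw [hk, show 2 ^ (j + 1) / 2 = 2 ^ j by rw [pow_succ]; omega]
  · exact pow_ne_one_of_lt_orderOf (by positivity) (by rw [hk, pow_succ]; have := Nat.two_pow_pos j; omega)
  · rw [← pow_mul, ← pow_succ, ← hk, pow_orderOf_eq_one]

/-- Let G be a nontrivial finite 2-group whose automorphism group permutes the involutions of G transitively. Then every involution of G is central, so that the involutions together with 1 form the subgroup Ω₁(Z(G)), and if this subgroup has order q then |G| is a power of q. -/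
theorem result {G : Type*} [Group G] [Finite G] [Nontrivial G] (hG : IsPGroup 2 G) (htrans : ∀ x y : G, x ≠ 1 → x ^ 2 = 1 → y ≠ 1 → y ^ 2 = 1 → ∃ a : MulAut G, a x = y) : (∀ x : G, x ^ 2 = 1 → x ∈ Subgroup.center G) ∧ ∃ m : ℕ, Nat.card G = Nat.card {z : G // z ^ 2 = 1} ^ m := by
  classical
  haveI : Fact (Nat.Prime 2) := ⟨Nat.prime_two⟩
  haveI := hG.center_nontrivial
  have hcen : ∀ x : G, x ^ 2 = 1 → x ∈ Subgroup.center G := by
    intro x hx
    by_cases hx1 : x = 1
    · rw [hx1]; exact one_mem _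
    obtain ⟨⟨z, hz⟩, hzord⟩ : ∃ z : Subgroup.center G, orderOf z = 2 := by
      obtain ⟨k, hk⟩ := IsPGroup.iff_card.1 (hG.to_subgroup (Subgroup.center G))
      refine exists_prime_orderOf_dvd_card' 2 ?_
      rw [hk]
      refine dvd_pow_self 2 ?_
      rintro rfl
      rw [pow_zero] at hk
      exact (Finite.one_lt_card (α := Subgroup.center G)).ne' hk
    have hz2 : z ^ 2 = 1 := by
      have h := pow_orderOf_eq_one (⟨z, hz⟩ : Subgroup.center G)
      rw [hzord] at h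
      exact congrArg Subtype.val h
    have hz1 : z ≠ 1 := by
      intro h
      rw [← Subgroup.orderOf_coe, show ((⟨z, hz⟩ : Subgroup.center G) : G) = 1 from h, orderOf_one] at hzord
      omega
    obtain ⟨a, rfl⟩ := htrans z x hz1 hz2 hx1 hx
    rw [Subgroup.mem_center_iff]
    intro g
    have h := congrArg a (Subgroup.mem_center_iff.1 hz (a.symm g))
    simpa using h
  refine ⟨hcen, ?_⟩
  let Ω : Subgroup G :=
    { carrier := {z | z ^ 2 = 1}
      one_mem' := one_pow 2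
      mul_mem' := fun {x y} hx hy => by
        show (x * y) ^ 2 = 1
        rw [(show Commute x y from Subgroup.mem_center_iff.1 (hcen y hy) x).mul_pow, hx, hy, one_mul]
      inv_mem' := fun {x} hx => by show (x⁻¹) ^ 2 = 1; rw [inv_pow, hx, inv_one] }
  obtain ⟨b, hb⟩ := IsPGroup.iff_card.1 (hG.to_subgroup Ω)
  obtain ⟨a, ha⟩ := IsPGroup.iff_card.1 hG
  have hΩ : Nat.card {z : G // z ^ 2 = 1} = 2 ^ b := hb
  obtain ⟨f, hf⟩ := exists_invol_map hG
  haveI := Fintype.ofFinite G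
  have hfib : ∀ u v : {z : G // z ≠ 1 ∧ z ^ 2 = 1},
      Nat.card {g // f g = u} = Nat.card {g // f g = v} := by
    intro u v
    obtain ⟨α, hα⟩ := htrans u v u.2.1 u.2.2 v.2.1 v.2.2
    let e : {g : G // g ≠ 1} ≃ {g : G // g ≠ 1} :=
      α.toEquiv.subtypeEquiv (fun g => by simp)
    refine Nat.card_congr (e.subtypeEquiv fun g => ?_)
    have h1 : (f (e g) : G) = α (f g : G) := by
      rw [hf, hf]
      show (α (g : G)) ^ (orderOf (α (g : G)) / 2) = _
      rw [MulEquiv.orderOf_eq, map_pow]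
    rw [Subtype.ext_iff, Subtype.ext_iff, h1, ← hα]
    exact α.injective.eq_iff.symm
  obtain ⟨⟨z, hz⟩⟩ : Nonempty {z : G // z ≠ 1 ∧ z ^ 2 = 1} := by
    obtain ⟨g, hg⟩ := exists_ne (1 : G)
    exact ⟨f ⟨g, hg⟩⟩
  have hcount : Nat.card {g : G // g ≠ 1} =
      Nat.card {z : G // z ≠ 1 ∧ z ^ 2 = 1} * Nat.card {g // f g = ⟨z, hz⟩} := by
    rw [← Nat.card_congr (Equiv.sigmaFiberEquiv f), Nat.card_sigma,
      Finset.sum_congr rfl (fun u _ => hfib u ⟨z, hz⟩)]
    simp [Nat.card_eq_fintype_card]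
  have h1 : Nat.card {g : G // g ≠ 1} = 2 ^ a - 1 := by
    rw [← ha]
    simp [Nat.card_eq_fintype_card, Fintype.card_subtype_compl]
  have h2 : Nat.card {z : G // z ≠ 1 ∧ z ^ 2 = 1} = 2 ^ b - 1 := by
    rw [← hΩ, Nat.card_congr ((Equiv.subtypeEquivRight (fun _ => and_comm)).trans
      (Equiv.subtypeSubtypeEquivSubtypeInter (fun z : G => z ^ 2 = 1) (fun z => z ≠ 1)).symm)]
    rw [Nat.card_eq_fintype_card, Nat.card_eq_fintype_card, Fintype.card_subtype_compl]
    rw [show Fintype.card {x : {z : G // z ^ 2 = 1} // (x : G) = 1} = 1 from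
      Fintype.card_eq_one_iff.2 ⟨⟨⟨1, one_pow 2⟩, rfl⟩, fun x => Subtype.ext (Subtype.ext x.2)⟩]
  have hdvd : 2 ^ b - 1 ∣ 2 ^ a - 1 := ⟨_, by rw [← h1, hcount, h2]⟩
  have hgcd := Nat.pow_sub_one_gcd_pow_sub_one 2 b a
  rw [Nat.gcd_eq_left hdvd] at hgcd
  have hgb : Nat.gcd b a = b := by
    have hpos1 := Nat.two_pow_pos b
    have hpos2 := Nat.two_pow_pos (Nat.gcd b a)
    exact Nat.pow_right_injective le_rfl (by omega : 2 ^ Nat.gcd b a = 2 ^ b)
  obtain ⟨m, hm⟩ : b ∣ a := hgb ▸ Nat.gcd_dvd_right b a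
  exact ⟨m, by rw [hΩ, ha, hm, pow_mul]⟩

end Cfsg.Agent.S3774
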