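import Cfsg.Statements.S3775
import Mathlib

set_option autoImplicit false
open Cfsg

namespace Cfsg.Agent.S3775

universe u v

variable {V : Type u} [CommGroup V] {H : Type v} [Group H] (ρ : H →* MulAut V)

/-- Invariance under the operator group. -/
def Inv (B : Subgroup V) : Prop := ∀ h : H, ∀ b ∈ B, ρ h b ∈ B

/-- The elements killed by `k`. -/
def omega (k : ℕ) (V : Type u) [CommGroup V] : Subgroup V := (powMonoidHom k : V →* V).ker

omit [Group H] in
lemma mem_omega {k : ℕ} {a : V} : a ∈ omega k V ↔ a ^ k = 1 := Iff.rfl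

lemma omega_inv (k : ℕ) : Inv ρ (omega k V) := fun h b hb => by
  rw [mem_omega] at hb ⊢; rw [← map_pow, hb, map_one]

lemma omega_mono {p i j : ℕ} (h : i ≤ j) : omega (p ^ i) V ≤ omega (p ^ j) V := fun a ha => by
  rw [mem_omega] at ha ⊢
  obtain ⟨k, hk⟩ := pow_dvd_pow p h
  rw [hk, pow_mul, ha, one_pow]

/-- The subgroup of `k`-th powers is invariant. -/
lemma range_inv (k : ℕ) : Inv ρ (powMonoidHom k : V →* V).range := by
  rintro h _ ⟨a, rfl⟩
  exact ⟨ρ h a, (map_pow (ρ h) a k).symm⟩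

/-- The restriction of the action to an invariant subgroup. -/
def res (K : Subgroup V) (hK : Inv ρ K) : H →* MulAut ↥K where
  toFun h :=
  { toFun := fun k => ⟨ρ h k, hK h k k.2⟩
    invFun := fun k => ⟨ρ h⁻¹ k, hK h⁻¹ k k.2⟩
    left_inv := fun k => Subtype.ext (by
      show ρ h⁻¹ (ρ h (k : V)) = k
      rw [← MulAut.mul_apply, ← map_mul, inv_mul_cancel, map_one, MulAut.one_apply])
    right_inv := fun k => Subtype.ext (by
      show ρ h (ρ h⁻¹ (k : V)) = k
      rw [← MulAut.mul_apply, ← map_mul, mul_inv_cancel, map_one, MulAut.one_apply])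
    map_mul' := fun a b => Subtype.ext (map_mul (ρ h) (a : V) (b : V)) }
  map_one' := MulEquiv.ext fun k => Subtype.ext (by show ρ 1 (k : V) = k; rw [map_one, MulAut.one_apply])
  map_mul' a b := MulEquiv.ext fun k => Subtype.ext (by
    show ρ (a * b) (k : V) = ρ a (ρ b (k : V))
    rw [map_mul, MulAut.mul_apply])

/-- The induced action on a quotient. -/
def quo (C : Subgroup V) (hC : Inv ρ C) : H →* MulAut (V ⧸ C) where
  toFun h := QuotientGroup.congr C C (ρ h) (by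
    refine le_antisymm ?_ fun c hc => ⟨ρ h⁻¹ c, hC h⁻¹ c hc, ?_⟩
    · rintro _ ⟨c, hc, rfl⟩; exact hC h c hc
    · show ρ h (ρ h⁻¹ c) = c
      rw [← MulAut.mul_apply, ← map_mul, mul_inv_cancel, map_one, MulAut.one_apply])
  map_one' := MulEquiv.ext fun q => QuotientGroup.induction_on q fun a => by simp
  map_mul' a b := MulEquiv.ext fun q => QuotientGroup.induction_on q fun a => by simp

variable [Finite V] [Finite H] {p : ℕ} [Fact p.Prime]

/-- Averaging a projection. -/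
lemma avg (hV : IsPGroup p V) (hH : (Nat.card H).Coprime p) {Y : Subgroup V} (hY : Inv ρ Y)
    (P : V →* V) (hPY : ∀ v, P v ∈ Y) (hPid : ∀ y ∈ Y, P y = y) :
    ∃ B : Subgroup V, Inv ρ B ∧ B ⊓ Y = ⊥ ∧ B ⊔ Y = ⊤ := by
  classical
  haveI := Fintype.ofFinite H
  obtain ⟨d, hd⟩ := hV.exists_card_eq
  have hcop : (Nat.card V).Coprime (Nat.card H) := by rw [hd]; exact hH.symm.pow_left d
  let P' : V →* V :=
    { toFun := fun v => (powCoprime hcop).symm (∏ h : H, ρ h (P (ρ h⁻¹ v)))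
      map_one' := by
        have h1 : (∏ h : H, ρ h (P (ρ h⁻¹ (1 : V)))) = 1 := by simp
        show (powCoprime hcop).symm _ = 1
        rw [h1, Equiv.symm_apply_eq]
        simp
      map_mul' := fun a b => by
        have hmul : ∀ x y : V, (powCoprime hcop).symm (x * y) = (powCoprime hcop).symm x * (powCoprime hcop).symm y := by
          intro x y
          rw [Equiv.symm_apply_eq]
          show x * y = ((powCoprime hcop).symm x * (powCoprime hcop).symm y) ^ Nat.card H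
          rw [mul_pow]
          exact congrArg₂ (· * ·) ((powCoprime hcop).apply_symm_apply x).symm ((powCoprime hcop).apply_symm_apply y).symm
        show (powCoprime hcop).symm _ = (powCoprime hcop).symm _ * (powCoprime hcop).symm _
        rw [← hmul, ← Finset.prod_mul_distrib]
        simp only [map_mul] }
  have hspec : ∀ v, (P' v) ^ Nat.card H = ∏ h : H, ρ h (P (ρ h⁻¹ v)) := fun v =>
    (powCoprime hcop).apply_symm_apply _
  have hinj : ∀ x y : V, x ^ Nat.card H = y ^ Nat.card H → x = y := fun x y h => (powCoprime hcop).injective h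
  have hP'Y : ∀ v, P' v ∈ Y := by
    intro v
    have h1 : (P' v) ^ Nat.card H ∈ Y := hspec v ▸ prod_mem fun h _ => hY h _ (hPY _)
    have hc : (orderOf (P' v)).Coprime (Nat.card H) := hcop.coprime_dvd_left (orderOf_dvd_natCard _)
    obtain ⟨m, hm⟩ := exists_pow_eq_self_of_coprime hc.symm
    exact hm ▸ pow_mem h1 m
  have hP'id : ∀ y ∈ Y, P' y = y := fun y hy => hinj _ _ (by
    rw [hspec, Finset.prod_congr rfl (g := fun _ => y) (fun h _ => by
      rw [hPid _ (hY _ y hy), ← MulAut.mul_apply, ← map_mul, mul_inv_cancel, map_one, MulAut.one_apply]),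
      Finset.prod_const, Finset.card_univ, Nat.card_eq_fintype_card])
  have hequiv : ∀ (g : H) (v : V), P' (ρ g v) = ρ g (P' v) := fun g v => hinj _ _ (by
    rw [hspec, ← map_pow, hspec, map_prod]
    refine Fintype.prod_equiv (Equiv.mulLeft g⁻¹) _ _ fun h => ?_
    simp only [Equiv.coe_mulLeft, mul_inv_rev, inv_inv, map_mul, map_inv, MulAut.mul_apply]
    simp)
  refine ⟨P'.ker, fun g b hb => ?_, ?_, ?_⟩
  · rw [MonoidHom.mem_ker] at hb ⊢
    rw [hequiv, hb, map_one]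
  · rw [eq_bot_iff]
    rintro y ⟨hy1, hy2⟩
    rw [Subgroup.mem_bot, ← hP'id y hy2]
    exact hy1
  · rw [Subgroup.eq_top_iff']
    intro v
    have h1 : v / P' v ∈ P'.ker := by
      rw [MonoidHom.mem_ker, map_div, hP'id _ (hP'Y v), div_self']
    have := mul_mem (Subgroup.mem_sup_left (T := Y) h1) (Subgroup.mem_sup_right (S := P'.ker) (hP'Y v))
    rwa [div_mul_cancel] at this

/-- A projection from a complement. -/
lemma proj_of_compl {Y B : Subgroup V} (hd : B ⊓ Y = ⊥) (hs : B ⊔ Y = ⊤) :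
    ∃ P : V →* V, (∀ v, P v ∈ Y) ∧ ∀ y ∈ Y, P y = y := by
  classical
  have hex : ∀ v : V, ∃ y ∈ Y, v / y ∈ B := fun v => by
    obtain ⟨b, hb, y, hy, hby⟩ := Subgroup.mem_sup.1 (hs ▸ Subgroup.mem_top v : v ∈ B ⊔ Y)
    exact ⟨y, hy, by rw [← hby, mul_div_cancel_right]; exact hb⟩
  choose f hfY hfB using hex
  have huniq : ∀ v y, y ∈ Y → v / y ∈ B → f v = y := fun v y hy hvy => by
    have h1 : y / f v ∈ B ⊓ Y := by
      refine ⟨?_, (show y / f v ∈ Y from div_mem hy (hfY v))⟩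
      show y / f v ∈ B
      have := div_mem (hfB v) hvy
      rwa [div_div_div_cancel_left] at this
    rw [hd, Subgroup.mem_bot, div_eq_one] at h1
    exact h1.symm
  refine ⟨MonoidHom.mk' f fun a b => huniq _ _ (mul_mem (hfY a) (hfY b)) ?_, hfY, fun y hy =>
    huniq y y hy (by rw [div_self']; exact one_mem B)⟩
  rw [mul_div_mul_comm]
  exact mul_mem (hfB a) (hfB b)

/-- Maschke for elementary abelian groups. -/
lemma maschke (hV : IsPGroup p V) (hH : (Nat.card H).Coprime p) (hexp : ∀ v : V, v ^ p = 1)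
    {Y : Subgroup V} (hY : Inv ρ Y) : ∃ B : Subgroup V, Inv ρ B ∧ B ⊓ Y = ⊥ ∧ B ⊔ Y = ⊤ := by
  obtain ⟨B, hBY, hmax⟩ := (Set.toFinite {B : Subgroup V | B ⊓ Y = ⊥}).exists_maximal ⟨⊥, bot_inf_eq Y⟩
  have hs : B ⊔ Y = ⊤ := by
    rw [Subgroup.eq_top_iff']
    intro a
    by_contra ha
    have haB : ¬ B ⊔ Subgroup.zpowers a ≤ B := fun h =>
      ha (Subgroup.mem_sup_left (h (Subgroup.mem_sup_right (Subgroup.mem_zpowers a))))
    have hne : (B ⊔ Subgroup.zpowers a) ⊓ Y ≠ ⊥ := fun h => haB (hmax h le_sup_left)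
    obtain ⟨⟨y, hy⟩, hy1⟩ := Subgroup.ne_bot_iff_exists_ne_one.1 hne
    obtain ⟨b, hb, _, ⟨i, rfl⟩, hby⟩ := Subgroup.mem_sup.1 hy.1
    have hby' : b * a ^ i = y := hby
    by_cases hpi : (p : ℤ) ∣ i
    · obtain ⟨m, rfl⟩ := hpi
      rw [zpow_mul, zpow_natCast, hexp, one_zpow, mul_one] at hby'
      subst hby'
      exact hy1 (Subtype.ext (Subgroup.mem_bot.1 ((hBY : B ⊓ Y = ⊥) ▸ (⟨hb, hy.2⟩ : b ∈ B ⊓ Y))))
    · refine ha ?_
      have hai : a ^ i ∈ B ⊔ Y := by
        have : a ^ i = b⁻¹ * y := by rw [← hby', inv_mul_cancel_left]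
        rw [this]
        exact mul_mem (Subgroup.mem_sup_left (inv_mem hb)) (Subgroup.mem_sup_right hy.2)
      obtain ⟨s, t, hst⟩ : IsCoprime i (p : ℤ) :=
        ((Prime.coprime_iff_not_dvd (Nat.prime_iff_prime_int.1 Fact.out)).2 hpi).symm
      have h1 : a = (a ^ i) ^ s * (a ^ (p : ℤ)) ^ t := by
        rw [← zpow_mul, ← zpow_mul, ← zpow_add, mul_comm i s, mul_comm (p : ℤ) t, hst, zpow_one]
      rw [h1, zpow_natCast, hexp, one_zpow, mul_one]
      exact zpow_mem hai s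
  obtain ⟨P, h1, h2⟩ := proj_of_compl (hBY : B ⊓ Y = ⊥) hs
  exact avg ρ hV hH hY P h1 h2

omit [Finite H] in
/-- Irreducible socle: every invariant subgroup is some `omega`. -/
lemma eq_omega_of_irred (hV : IsPGroup p V)
    (hirr : ∀ B : Subgroup V, Inv ρ B → B ≤ omega p V → B = ⊥ ∨ B = omega p V)
    (B : Subgroup V) (hB : Inv ρ B) : ∃ i, B = omega (p ^ i) V := by
  classical
  by_contra hno
  push Not at hno
  have h0 : omega (p ^ 0) V ≤ B := fun a ha => by
    rw [mem_omega, pow_zero, pow_one] at ha; exact ha ▸ one_mem B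
  have hstep : ∀ i, omega (p ^ i) V ≤ B → omega (p ^ (i + 1)) V ≤ B := by
    intro i hi
    obtain ⟨b, hb, hbi⟩ : ∃ b ∈ B, b ∉ omega (p ^ i) V := by
      by_contra hc
      push Not at hc
      exact hno i (le_antisymm hc hi)
    -- push `b` into the next layer
    obtain ⟨k, hk⟩ := IsPGroup.iff_orderOf.1 hV b
    have hik : i < k := by
      by_contra hle
      refine hbi ?_
      rw [mem_omega, ← orderOf_dvd_iff_pow_eq_one, hk]
      exact pow_dvd_pow p (not_lt.1 hle)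
    set ψ : V →* V := powMonoidHom (p ^ i)
    set S := (B ⊓ omega (p ^ (i + 1)) V).map ψ with hS
    have hSle : S ≤ omega p V := by
      rintro _ ⟨a, ha, rfl⟩
      rw [mem_omega]
      show (a ^ p ^ i) ^ p = 1
      rw [← pow_mul, ← pow_succ]
      exact ha.2
    have hSinv : Inv ρ S := by
      rintro h _ ⟨a, ha, rfl⟩
      exact ⟨ρ h a, ⟨hB h a ha.1, omega_inv ρ _ h a ha.2⟩, (map_pow (ρ h) a _).symm⟩
    have hSne : S ≠ ⊥ := by
      intro hbot
      have hb' : b ^ p ^ (k - (i + 1)) ∈ B ⊓ omega (p ^ (i + 1)) V := by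
        refine ⟨pow_mem hb _, ?_⟩
        show (b ^ p ^ (k - (i + 1))) ^ p ^ (i + 1) = 1
        rw [← pow_mul, ← pow_add, show k - (i + 1) + (i + 1) = k by omega, ← hk, pow_orderOf_eq_one]
      have h1 : ψ (b ^ p ^ (k - (i + 1))) = 1 := Subgroup.mem_bot.1 (hbot ▸ ⟨_, hb', rfl⟩)
      have h2 : (b ^ p ^ (k - (i + 1))) ^ p ^ i = 1 := h1
      rw [← pow_mul, ← pow_add, ← orderOf_dvd_iff_pow_eq_one, hk] at h2
      have := (Nat.pow_dvd_pow_iff_le_right (Fact.out : p.Prime).one_lt).1 h2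
      omega
    have hSeq := (hirr S hSinv hSle).resolve_left hSne
    intro a ha
    have h1 : ψ a ∈ S := by
      rw [hSeq, mem_omega]
      show (a ^ p ^ i) ^ p = 1
      rw [← pow_mul, ← pow_succ]
      exact ha
    obtain ⟨c, hc, hca⟩ := h1
    have h2 : a / c ∈ omega (p ^ i) V := by
      rw [mem_omega, div_pow, div_eq_one]; exact hca.symm
    have := mul_mem (hi h2) hc.1
    rwa [div_mul_cancel] at this
  have hall : ∀ i, omega (p ^ i) V ≤ B := fun i => by
    induction i with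
    | zero => exact h0
    | succ i ih => exact hstep i ih
  obtain ⟨d, hd⟩ := hV.exists_card_eq
  exact hno d (le_antisymm (fun a _ => by rw [mem_omega, ← hd]; exact pow_card_eq_one') (hall d))

/-- A homocyclic quotient of maximal exponent splits. -/
lemma exists_proj (C : Subgroup V) {e : ℕ} (hexp : ∀ v : V, v ^ p ^ e = 1)
    (hhom : ∀ j ≤ e, ∀ q : V ⧸ C, q ^ p ^ j = 1 → ∃ r : V ⧸ C, r ^ p ^ (e - j) = q) :
    ∃ P : V →* V, (∀ v, P v ∈ C) ∧ ∀ c ∈ C, P c = c := by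
  classical
  obtain ⟨ι, hι, m, hm1, ⟨E⟩⟩ := CommGroup.equiv_prod_multiplicative_zmod_of_finite (V ⧸ C)
  haveI := hι
  set g : ι → V ⧸ C := fun i => E.symm (Pi.mulSingle i (Multiplicative.ofAdd (1 : ZMod (m i))))
  have hg : ∀ i, orderOf (g i) = m i := fun i => by
    rw [show g i = E.symm (Pi.mulSingle i (Multiplicative.ofAdd (1 : ZMod (m i)))) from rfl, MulEquiv.orderOf_eq,
      orderOf_piMulSingle, orderOf_ofAdd_eq_addOrderOf, ZMod.addOrderOf_one]
  have hm : ∀ i, m i = p ^ e := by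
    intro i
    have hd : m i ∣ p ^ e := hg i ▸ orderOf_dvd_of_pow_eq_one (by
      obtain ⟨v, hv⟩ := QuotientGroup.mk'_surjective C (g i)
      rw [← hv, ← map_pow, hexp, map_one])
    obtain ⟨j, hj, hmj⟩ := (Nat.dvd_prime_pow Fact.out).1 hd
    rcases hj.lt_or_eq with hlt | rfl
    swap
    · exact hmj
    exfalso
    obtain ⟨r, hr⟩ := hhom j hj (g i) (by rw [← hmj, ← hg i, pow_orderOf_eq_one])
    have h1 := congrArg (fun x => Multiplicative.toAdd (E x i)) hr
    simp only [g, map_pow, MulEquiv.apply_symm_apply, Pi.pow_apply, Pi.mulSingle_eq_same, toAdd_pow,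
      toAdd_ofAdd, nsmul_eq_mul] at h1
    have hp : (p : ZMod (m i)) * ((p ^ (e - j - 1) : ℕ) * Multiplicative.toAdd (E r i)) = 1 := by
      rw [← mul_assoc, ← Nat.cast_mul, ← pow_succ', show e - j - 1 + 1 = e - j by omega]
      exact h1
    have hu : IsUnit ((p : ℕ) : ZMod (m i)) := IsUnit.of_mul_eq_one _ hp
    rw [ZMod.isUnit_iff_coprime] at hu
    have h2 : j ≠ 0 := fun h0 => by
      have := hm1 i; rw [hmj, h0, pow_zero] at this; omega
    rw [hmj, Nat.coprime_pow_right_iff (Nat.pos_of_ne_zero h2)] at hu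
    exact (Fact.out : p.Prime).ne_one ((Nat.coprime_self p).1 hu)
  haveI : ∀ i, NeZero (m i) := fun i => ⟨by have := hm1 i; omega⟩
  choose a ha using fun i => QuotientGroup.mk'_surjective C (g i)
  haveI := Fintype.ofFinite ι
  let s : (V ⧸ C) →* V := MonoidHom.mk' (fun q => ∏ i, a i ^ (Multiplicative.toAdd (E q i)).val) (fun q r => by
    rw [← Finset.prod_mul_distrib]
    refine Finset.prod_congr rfl fun i _ => ?_
    rw [map_mul, Pi.mul_apply, toAdd_mul, ZMod.val_add, ← pow_add]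
    exact (pow_eq_pow_mod _ (by rw [hm i]; exact hexp _)).symm)
  have hs : ∀ q, QuotientGroup.mk' C (s q) = q := by
    intro q
    show QuotientGroup.mk' C (∏ i, a i ^ (Multiplicative.toAdd (E q i)).val) = q
    rw [map_prod]
    simp only [map_pow, ha, g]
    apply E.injective
    rw [map_prod]
    simp only [map_pow, MulEquiv.apply_symm_apply]
    funext k
    rw [Finset.prod_apply, Finset.prod_eq_single k]
    · simp only [Pi.pow_apply, Pi.mulSingle_eq_same]
      apply Multiplicative.toAdd.injective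
      simp [toAdd_pow]
    · intro b _ hb; simp [Pi.mulSingle_eq_of_ne hb.symm]
    · simp
  refine ⟨MonoidHom.id V / s.comp (QuotientGroup.mk' C), fun v => ?_, fun c hc => ?_⟩
  · rw [MonoidHom.div_apply, MonoidHom.id_apply, MonoidHom.comp_apply, ← QuotientGroup.eq_one_iff]
    show QuotientGroup.mk' C (v / s (QuotientGroup.mk' C v)) = 1
    rw [map_div, hs, div_self']
  · rw [MonoidHom.div_apply, MonoidHom.id_apply, MonoidHom.comp_apply,
      show QuotientGroup.mk' C c = 1 from (QuotientGroup.eq_one_iff c).2 hc, map_one, div_one]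

/-- Indecomposable implies irreducible socle. -/
theorem irred_of_indec (hV : IsPGroup p V) (hH : (Nat.card H).Coprime p)
    (hind : ¬ ∃ B C : Subgroup V, B ≠ ⊥ ∧ C ≠ ⊥ ∧ Inv ρ B ∧ Inv ρ C ∧ B ⊓ C = ⊥ ∧ B ⊔ C = ⊤) :
    ∀ B : Subgroup V, Inv ρ B → B ≤ omega p V → B = ⊥ ∨ B = omega p V := by
  classical
  have hp : p.Prime := Fact.out
  rcases subsingleton_or_nontrivial V with hs | hnt
  · exact fun B _ _ => Or.inl ((Subgroup.eq_bot_iff_forall _).2 fun x _ => Subsingleton.elim x 1)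
  obtain ⟨d, hd⟩ := hV.exists_card_eq
  have hex : ∃ e, ∀ v : V, v ^ p ^ e = 1 := ⟨d, fun v => by rw [← hd]; exact pow_card_eq_one'⟩
  set e := Nat.find hex
  have hexp : ∀ v : V, v ^ p ^ e = 1 := Nat.find_spec hex
  obtain ⟨f, hf⟩ : ∃ f, e = f + 1 := ⟨e - 1, by
    by_contra hc
    have h0 : e = 0 := by omega
    obtain ⟨x, hx⟩ := exists_ne (1 : V)
    exact hx (by simpa [h0] using hexp x)⟩
  set T := (powMonoidHom (p ^ f) : V →* V).range
  have hTne : T ≠ ⊥ := fun h => by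
    have hlt : f < e := by omega
    exact Nat.find_min hex hlt fun v => Subgroup.mem_bot.1 (h ▸ ⟨v, rfl⟩)
  obtain ⟨W, ⟨⟨hWinv, hW1, hWT⟩, hWmin⟩⟩ := (Set.toFinite {W : Subgroup V | Inv ρ W ∧ W ≠ ⊥ ∧ W ≤ T}).exists_minimal
    ⟨T, range_inv ρ _, hTne, le_rfl⟩
  have hWirr : ∀ U : Subgroup V, Inv ρ U → U ≤ W → U ≠ ⊥ → W ≤ U := fun U hU hle hne =>
    hWmin ⟨hU, hne, hle.trans hWT⟩ hle
  obtain ⟨C, ⟨⟨hCinv, hCW⟩, hCmax⟩⟩ := (Set.toFinite {C : Subgroup V | Inv ρ C ∧ C ⊓ W = ⊥}).exists_maximal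
    ⟨⊥, fun h b hb => by rw [Subgroup.mem_bot.1 hb, map_one]; exact one_mem _, bot_inf_eq W⟩
  set π := QuotientGroup.mk' C
  have hπs : Function.Surjective π := QuotientGroup.mk'_surjective C
  set τ := quo ρ C hCinv
  have hπ : ∀ h v, τ h (π v) = π (ρ h v) := fun h v => rfl
  have hmeet : ∀ U : Subgroup (V ⧸ C), Inv τ U → U ≠ ⊥ → W.map π ≤ U := by
    intro U hU hne
    have hD : Inv ρ (U.comap π) := fun h b hb => by
      rw [Subgroup.mem_comap, ← hπ]; exact hU h _ hb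
    have hlt : ¬ U.comap π ≤ C := fun hle => hne (by
      rw [eq_bot_iff]
      intro q hq
      obtain ⟨v, rfl⟩ := hπs q
      exact Subgroup.mem_bot.2 ((QuotientGroup.eq_one_iff v).2 (hle hq)))
    have hne' : U.comap π ⊓ W ≠ ⊥ := fun h0 => hlt (hCmax ⟨hD, h0⟩ (QuotientGroup.le_comap_mk' C U))
    have h1 := hWirr (U.comap π ⊓ W) (fun h b hb => ⟨hD h b hb.1, hWinv h b hb.2⟩) inf_le_right hne'
    exact Subgroup.map_le_iff_le_comap.2 (h1.trans inf_le_left)
  have hWb : W.map π ≠ ⊥ := fun h0 => hW1 (by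
    rw [← hCW, eq_comm, inf_eq_right]
    intro w hw
    exact (QuotientGroup.eq_one_iff w).1 (Subgroup.mem_bot.1 (h0 ▸ ⟨w, hw, rfl⟩)))
  have hQp : IsPGroup p (V ⧸ C) := hV.to_quotient C
  have hirr : ∀ U : Subgroup (V ⧸ C), Inv τ U → U ≤ omega p (V ⧸ C) → U = ⊥ ∨ U = omega p (V ⧸ C) := by
    intro U hU hle
    by_cases hne : U = ⊥
    · exact Or.inl hne
    refine Or.inr ?_
    set Ω := omega p (V ⧸ C) with hΩ
    have hΩi : Inv τ Ω := omega_inv τ p
    obtain ⟨D, hDi, hDU, hDs⟩ := maschke (res τ Ω hΩi) (hQp.to_subgroup Ω) hH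
      (fun v => Subtype.ext v.2) (Y := U.subgroupOf Ω) (fun h b hb => hU h _ hb)
    by_cases hD : D = ⊥
    · rw [hD, bot_sup_eq] at hDs
      exact le_antisymm hle (Subgroup.subgroupOf_eq_top.1 hDs)
    exfalso
    have hD' : Inv τ (D.map Ω.subtype) := by
      rintro h _ ⟨x, hx, rfl⟩
      exact ⟨_, hDi h x hx, rfl⟩
    have h1 := hmeet _ hD' (fun h0 => hD (Subgroup.map_injective Ω.subtype_injective (by rw [h0, Subgroup.map_bot])))
    have h2 := hmeet U hU hne
    refine hWb ?_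
    rw [eq_bot_iff]
    intro w hw
    obtain ⟨x, hx, hxw⟩ := h1 hw
    have : x ∈ D ⊓ U.subgroupOf Ω := ⟨hx, show Ω.subtype x ∈ U from hxw ▸ h2 hw⟩
    rw [hDU, Subgroup.mem_bot] at this
    rw [Subgroup.mem_bot, ← hxw, this, map_one]
  have hall := eq_omega_of_irred τ hQp hirr
  obtain ⟨P, hP1, hP2⟩ := exists_proj (p := p) C hexp (fun j hj q hq => by
    obtain ⟨i, hi⟩ := hall _ (range_inv τ (p ^ (e - j)))
    -- an element of full order
    obtain ⟨⟨_, w, hw, rfl⟩, hw1⟩ := Subgroup.ne_bot_iff_exists_ne_one.1 hWb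
    obtain ⟨a, ha⟩ := hWT hw
    have hij : j ≤ i := by
      by_contra hlt
      refine hw1 (Subtype.ext ?_)
      have h1 : π a ^ p ^ (e - j) ∈ omega (p ^ i) (V ⧸ C) := hi ▸ ⟨π a, rfl⟩
      rw [mem_omega, ← pow_mul, ← pow_add] at h1
      show π w = 1
      rw [← ha]
      show π (a ^ p ^ f) = 1
      rw [map_pow]
      have hle : e - j + i ≤ f := by omega
      obtain ⟨k, hk⟩ := pow_dvd_pow p hle
      rw [hk, pow_mul, h1, one_pow]
    have : q ∈ omega (p ^ i) (V ⧸ C) := omega_mono hij hq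
    rw [← hi] at this
    exact this)
  obtain ⟨B, hB, hBC, hBs⟩ := avg ρ hV hH hCinv P hP1 hP2
  have hC0 : C = ⊥ := by
    by_contra hC
    refine hind ⟨B, C, fun h0 => hW1 ?_, hC, hB, hCinv, hBC, hBs⟩
    rw [h0, bot_sup_eq] at hBs
    rw [← hCW, hBs, top_inf_eq]
  intro U hU hle
  by_cases hne : U = ⊥
  · exact Or.inl hne
  refine Or.inr ?_
  have hbig : ∀ U' : Subgroup V, Inv ρ U' → U' ≠ ⊥ → W ≤ U' := fun U' hU' hne' => by
    have hne'' : U' ⊓ W ≠ ⊥ := fun h0 => hne' (le_bot_iff.1 (hC0 ▸ hCmax ⟨hU', h0⟩ (hC0 ▸ bot_le)))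
    exact (hWirr (U' ⊓ W) (fun h b hb => ⟨hU' h b hb.1, hWinv h b hb.2⟩) inf_le_right hne'').trans inf_le_left
  set Ω := omega p V with hΩ
  have hΩi : Inv ρ Ω := omega_inv ρ p
  obtain ⟨D, hDi, hDU, hDs⟩ := maschke (res ρ Ω hΩi) (hV.to_subgroup Ω) hH
    (fun v => Subtype.ext v.2) (Y := U.subgroupOf Ω) (fun h b hb => hU h _ hb)
  by_cases hD : D = ⊥
  · rw [hD, bot_sup_eq] at hDs
    exact le_antisymm hle (Subgroup.subgroupOf_eq_top.1 hDs)
  exfalso
  have h1 := hbig (D.map Ω.subtype) (by rintro h _ ⟨x, hx, rfl⟩; exact ⟨_, hDi h x hx, rfl⟩)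
    (fun h0 => hD (Subgroup.map_injective Ω.subtype_injective (by rw [h0, Subgroup.map_bot])))
  refine hW1 ?_
  rw [eq_bot_iff]
  intro w hw
  obtain ⟨x, hx, hxw⟩ := h1 hw
  have : x ∈ D ⊓ U.subgroupOf Ω := ⟨hx, show Ω.subtype x ∈ U from hxw ▸ hbig U hU hne hw⟩
  rw [hDU, Subgroup.mem_bot] at this
  rw [Subgroup.mem_bot, ← hxw, this, map_one]

/-- Let A be a finite abelian p-group and X a group of automorphisms of A of order prime to p. Call a subgroup of A invariant when every element of X maps it onto itself. Then the following are equivalent: (i) A is not the direct product of two nontrivial invariant subgroups; (ii) every invariant subgroup of A is one of the subgroups Ω_i(A) = {a : a^(p^i) = 1}; (iii) the subgroup Ω₁(A) of elements of order dividing p has no invariant subgroups other than 1 and itself. -/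
theorem result {A : Type*} [CommGroup A] [Finite A] {p : ℕ} [Fact p.Prime] (hA : IsPGroup p A) (X : Subgroup (MulAut A)) (hX : (Nat.card X).Coprime p) : ((¬ ∃ B C : Subgroup A, B ≠ ⊥ ∧ C ≠ ⊥ ∧ (∀ x ∈ X, B.map x.toMonoidHom = B) ∧ (∀ x ∈ X, C.map x.toMonoidHom = C) ∧ B ⊓ C = ⊥ ∧ B ⊔ C = ⊤) ↔ (∀ B : Subgroup A, (∀ x ∈ X, B.map x.toMonoidHom = B) → ∃ i : ℕ, ∀ a : A, a ∈ B ↔ a ^ p ^ i = 1)) ∧ ((∀ B : Subgroup A, (∀ x ∈ X, B.map x.toMonoidHom = B) → ∃ i : ℕ, ∀ a : A, a ∈ B ↔ a ^ p ^ i = 1) ↔ (∀ B : Subgroup A, (∀ x ∈ X, B.map x.toMonoidHom = B) → (∀ b ∈ B, b ^ p = 1) → B = ⊥ ∨ ∀ a : A, a ∈ B ↔ a ^ p = 1)) := by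
  classical
  set ρ : ↥X →* MulAut A := X.subtype with hρ
  have hiff : ∀ B : Subgroup A, (∀ x ∈ X, B.map x.toMonoidHom = B) ↔ Inv ρ B := fun B => by
    refine ⟨fun h x b hb => h x x.2 ▸ ⟨b, hb, rfl⟩, fun h x hx => le_antisymm ?_ fun b hb => ?_⟩
    · rintro _ ⟨b, hb, rfl⟩; exact h ⟨x, hx⟩ b hb
    · exact ⟨x⁻¹ b, h ⟨x⁻¹, inv_mem hx⟩ b hb, MulAut.apply_inv_self _ x b⟩
  have hom : ∀ (B : Subgroup A) (k : ℕ), (∀ a : A, a ∈ B ↔ a ^ k = 1) ↔ B = omega k A :=
    fun B k => ⟨fun h => SetLike.ext h, fun h a => h ▸ Iff.rfl⟩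
  simp only [hiff, hom]
  have h32 : (∀ B : Subgroup A, Inv ρ B → (∀ b ∈ B, b ^ p = 1) → B = ⊥ ∨ B = omega p A) →
      ∀ B : Subgroup A, Inv ρ B → ∃ i : ℕ, B = omega (p ^ i) A :=
    fun h B hB => eq_omega_of_irred ρ hA (fun U hU hle => h U hU hle) B hB
  have h23 : (∀ B : Subgroup A, Inv ρ B → ∃ i : ℕ, B = omega (p ^ i) A) →
      ∀ B : Subgroup A, Inv ρ B → (∀ b ∈ B, b ^ p = 1) → B = ⊥ ∨ B = omega p A := by
    intro h B hB hp
    obtain ⟨i, hi⟩ := h B hB
    rcases i with _ | i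
    · left
      rw [hi, pow_zero, eq_bot_iff]
      intro a ha
      rw [mem_omega, pow_one] at ha
      exact ha
    · refine Or.inr (le_antisymm hp ?_)
      rw [hi]
      exact fun a ha => omega_mono (p := p) (show 1 ≤ i + 1 by omega) (by rwa [pow_one])
  refine ⟨⟨fun h => h32 fun B hB hp => irred_of_indec ρ hA hX ?_ B hB hp, ?_⟩, h23, h32⟩
  · simpa using h
  · rintro h ⟨B, C, hB1, hC1, hB, hC, hd, -⟩
    obtain ⟨i, hi⟩ := h B hB
    obtain ⟨j, hj⟩ := h C hC
    rcases le_total i j with hle | hle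
    · exact hB1 (by rw [← hd, eq_comm, inf_eq_left, hi, hj]; exact omega_mono hle)
    · exact hC1 (by rw [← hd, eq_comm, inf_eq_right, hi, hj]; exact omega_mono hle)

end Cfsg.Agent.S3775
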