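import Cfsg.Statements.S3778
import Mathlib

set_option autoImplicit false
open Cfsg

namespace Cfsg.Agent.S3778

open scoped commutatorElement

variable {G : Type*} [Group G]

/-- Abbreviation for the lower central series. -/
abbrev L (G : Type*) [Group G] (i : ℕ) : Subgroup G := (⊤ : Subgroup G).lowerCentralSeries i

/-- The centraliser of `L i / L (i + 2)`. -/
def C (G : Type*) [Group G] (i : ℕ) : Subgroup G :=
  (Subgroup.centralizer (((L G i).map (QuotientGroup.mk' (L G (i + 2)))) : Set (G ⧸ L G (i + 2)))).comap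
    (QuotientGroup.mk' (L G (i + 2)))

lemma mem_C {i : ℕ} {x : G} : x ∈ C G i ↔ ∀ g ∈ L G i, ⁅g, x⁆ ∈ L G (i + 2) := by
  rw [C, Subgroup.mem_comap, Subgroup.mem_centralizer_iff]
  have key : ∀ g, (QuotientGroup.mk' (L G (i + 2)) g * QuotientGroup.mk' _ x =
      QuotientGroup.mk' _ x * QuotientGroup.mk' _ g) ↔ ⁅g, x⁆ ∈ L G (i + 2) := fun g => by
    rw [← commutatorElement_eq_one_iff_mul_comm, ← map_commutatorElement, QuotientGroup.mk'_apply,
      QuotientGroup.eq_one_iff]
  constructor
  · exact fun h g hg => (key g).1 (h _ ⟨g, hg, rfl⟩)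
  · rintro h _ ⟨g, hg, rfl⟩
    exact (key g).2 (h g hg)

lemma L_succ (i : ℕ) : L G (i + 1) = ⁅L G i, (⊤ : Subgroup G)⁆ := rfl

lemma C_ne_top [Group.IsNilpotent G] {i : ℕ} (h : L G (i + 1) ≠ ⊥) : C G i ≠ ⊤ := by
  intro ht
  have h1 : L G (i + 1) ≤ L G (i + 2) := by
    rw [L_succ, Subgroup.commutator_le]
    intro g hg x _
    exact mem_C.1 (ht ▸ Subgroup.mem_top x) g hg
  have h2 : ∀ k, L G (i + 1) ≤ L G (i + 1 + k) := by
    intro k
    induction k with
    | zero => exact le_rfl
    | succ k ih =>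
      refine h1.trans ?_
      rw [show i + 1 + (k + 1) = (i + 1 + k) + 1 by ring, L_succ (i + 1), L_succ (i + 1 + k)]
      exact Subgroup.commutator_mono ih le_rfl
  obtain ⟨n, hn⟩ := Subgroup.nilpotent_iff_lowerCentralSeries.1 (inferInstance : Group.IsNilpotent G)
  apply h
  rw [eq_bot_iff]
  exact (h2 n).trans ((Subgroup.lowerCentralSeries_antitone ⊤ (Nat.le_add_left n (i + 1))).trans hn.le)

open Classical in
lemma pow_le [Finite G] {p : ℕ} [Fact p.Prime] (hG : IsPGroup p G) (x : G) (j : ℕ) :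
    p ^ ((Finset.range j).filter fun i => x ∉ C G i).card * Nat.card ↥(L G j ⊔ Subgroup.centralizer ({x} : Set G))
      ≤ Nat.card G := by
  induction j with
  | zero => simpa using Subgroup.card_le_card_group _
  | succ j ih =>
    set D := Subgroup.centralizer ({x} : Set G)
    have hle : L G (j + 1) ⊔ D ≤ L G j ⊔ D := sup_le_sup_right (Subgroup.lowerCentralSeries_antitone ⊤ (Nat.le_succ j)) _
    rw [Finset.range_add_one, Finset.filter_insert]
    by_cases hx : x ∈ C G j
    · rw [if_neg (not_not.2 hx)]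
      exact (Nat.mul_le_mul_left _ (Subgroup.card_le_of_le hle)).trans ih
    rw [if_pos hx, Finset.card_insert_of_notMem (by simp), pow_succ, mul_assoc]
    refine le_trans (Nat.mul_le_mul_left _ ?_) ih
    rw [mem_C] at hx
    push Not at hx
    obtain ⟨g, hg, hgx⟩ := hx
    have hlt : L G (j + 1) ⊔ D < L G j ⊔ D := by
      refine lt_of_le_of_ne hle fun he => hgx ?_
      have hgm : g ∈ L G (j + 1) ⊔ D := he ▸ Subgroup.mem_sup_left hg
      obtain ⟨l, hl, c, hc, rfl⟩ := Subgroup.mem_sup_of_normal_left.1 hgm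
      have hc' := Subgroup.mem_centralizer_singleton_iff.1 hc
      have e : ⁅l * c, x⁆ = ⁅l, x⁆ := by
        simp only [commutatorElement_def]
        calc l * c * x * (l * c)⁻¹ * x⁻¹ = l * (c * x) * c⁻¹ * l⁻¹ * x⁻¹ := by group
          _ = l * (x * c) * c⁻¹ * l⁻¹ * x⁻¹ := by rw [hc']
          _ = l * x * l⁻¹ * x⁻¹ := by group
      rw [e, show j + 2 = (j + 1) + 1 by ring, L_succ]
      exact Subgroup.commutator_mem_commutator hl (Subgroup.mem_top x)
    obtain ⟨a, ha⟩ := IsPGroup.iff_card.1 (hG.to_subgroup (L G (j + 1) ⊔ D))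
    obtain ⟨b, hb⟩ := IsPGroup.iff_card.1 (hG.to_subgroup (L G j ⊔ D))
    have hab : p ^ a < p ^ b := by
      rw [← ha, ← hb]
      refine lt_of_le_of_ne (Subgroup.card_le_of_le hle) fun he => hlt.ne ?_
      exact Subgroup.eq_of_le_of_card_ge hle he.ge
    rw [ha, hb, ← pow_succ']
    exact Nat.pow_le_pow_right (Fact.out : p.Prime).pos ((Nat.pow_lt_pow_iff_right (Fact.out : p.Prime).one_lt).1 hab)

/-- If G is a finite p-group in which every conjugacy class has at most p^b elements (every element has centralizer of index at most p^b), then G is abelian when b = 0, and when b ≥ 1 its nilpotency class c satisfies (c − 1)(p − 1) < bp, that is c < bp/(p − 1) + 1, and hence c ≤ 2b. -/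
theorem result {G : Type*} [Group G] [Finite G] {p : ℕ} [Fact p.Prime] (hG : IsPGroup p G) (b : ℕ) (hb : ∀ x : G, (Subgroup.centralizer ({x} : Set G)).index ≤ p ^ b) : ∃ c : ℕ, (⊤ : Subgroup G).lowerCentralSeries c = ⊥ ∧ (b ≠ 0 → (c - 1) * (p - 1) < b * p ∧ c ≤ 2 * b) ∧ (b = 0 → c ≤ 1) := by
  classical
  haveI : Fintype G := Fintype.ofFinite G
  haveI : Group.IsNilpotent G := hG.isNilpotent
  obtain ⟨n, hn⟩ := Subgroup.nilpotent_iff_lowerCentralSeries.1 (inferInstance : Group.IsNilpotent G)
  have hex : ∃ c, L G c = ⊥ := ⟨n, hn⟩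
  refine ⟨Nat.find hex, Nat.find_spec hex, fun hb0 => ?_, fun hb0 => ?_⟩
  swap
  · subst hb0
    refine Nat.find_le ?_
    rw [L_succ, eq_bot_iff, Subgroup.commutator_le]
    intro g _ x _
    rw [Subgroup.mem_bot, commutatorElement_eq_one_iff_mul_comm]
    have h1 : Subgroup.centralizer ({x} : Set G) = ⊤ := by
      rw [← Subgroup.index_eq_one]
      exact le_antisymm (by simpa using hb x) (Nat.pos_of_ne_zero Subgroup.index_ne_zero_of_finite)
    exact Subgroup.mem_centralizer_singleton_iff.1 (h1 ▸ Subgroup.mem_top g)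
  set c := Nat.find hex with hc
  have hp : p.Prime := Fact.out
  set s : G → ℕ := fun x => ((Finset.range (c - 1)).filter fun i => x ∉ C G i).card with hs
  have hsb : ∀ x, s x ≤ b := by
    intro x
    refine (Nat.pow_le_pow_iff_right hp.one_lt).1 (le_trans ?_ (hb x))
    refine Nat.le_of_mul_le_mul_right ?_ (Nat.card_pos (α := ↥(Subgroup.centralizer ({x} : Set G))))
    rw [Subgroup.index_mul_card]
    exact le_trans (Nat.mul_le_mul_left _ (Subgroup.card_le_of_le le_sup_right)) (pow_le hG x (c - 1))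
  have hlt : ∑ x : G, s x < b * Nat.card G := by
    rw [mul_comm, Nat.card_eq_fintype_card, ← smul_eq_mul, ← Finset.card_univ, ← Finset.sum_const]
    refine Finset.sum_lt_sum (fun x _ => hsb x) ⟨1, Finset.mem_univ _, ?_⟩
    simp only [hs]
    rw [Finset.filter_eq_empty_iff.2 (fun i _ => not_not.2 (one_mem _)), Finset.card_empty]
    exact Nat.pos_of_ne_zero hb0
  have hge : (c - 1) * ((p - 1) * Nat.card G) ≤ p * ∑ x : G, s x := by
    simp only [hs, Finset.card_filter]
    rw [Finset.sum_comm, Finset.mul_sum]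
    refine le_trans (le_of_eq ?_) (Finset.card_nsmul_le_sum (Finset.range (c - 1)) _ ((p - 1) * Nat.card G) ?_)
    · rw [Finset.card_range, smul_eq_mul]
    intro i hi
    rw [Finset.mem_range] at hi
    rw [← Finset.card_filter]
    have hne : C G i ≠ ⊤ := C_ne_top (fun h0 => Nat.find_min hex (show i + 1 < c by omega) h0)
    have h1 : (Finset.univ.filter fun x : G => x ∈ C G i).card + (Finset.univ.filter fun x : G => x ∉ C G i).card
        = Nat.card G := by
      rw [Finset.card_filter_add_card_filter_not, Finset.card_univ, Nat.card_eq_fintype_card]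
    have h2 : (Finset.univ.filter fun x : G => x ∈ C G i).card = Nat.card ↥(C G i) := by
      rw [Nat.card_eq_fintype_card, Fintype.card_subtype]
    have h3 : p * Nat.card ↥(C G i) ≤ Nat.card G := by
      obtain ⟨k, hk⟩ := hG.index (C G i)
      rw [← (C G i).index_mul_card, hk]
      refine Nat.mul_le_mul_right _ (Nat.le_self_pow ?_ p)
      rintro rfl
      exact hne (Subgroup.index_eq_one.1 (by simpa using hk))
    have h4 : p * Nat.card G = p * Nat.card ↥(C G i) + p * (Finset.univ.filter fun x : G => x ∉ C G i).card := by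
      rw [← h1, h2, mul_add]
    have h5 : p * Nat.card G = Nat.card G + (p - 1) * Nat.card G := by
      conv_lhs => rw [← Nat.add_sub_cancel' hp.one_lt.le, add_mul, one_mul]
    omega
  have hmain : (c - 1) * (p - 1) < b * p := by
    refine Nat.lt_of_mul_lt_mul_right (a := Nat.card G) ?_
    calc (c - 1) * (p - 1) * Nat.card G = (c - 1) * ((p - 1) * Nat.card G) := mul_assoc _ _ _
      _ ≤ p * ∑ x : G, s x := hge
      _ < p * (b * Nat.card G) := Nat.mul_lt_mul_of_pos_left hlt hp.pos
      _ = b * p * Nat.card G := by ring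
  refine ⟨hmain, ?_⟩
  obtain ⟨q, hq⟩ : ∃ q, p = q + 2 := ⟨p - 2, by have := hp.two_le; omega⟩
  rw [hq, show q + 2 - 1 = q + 1 by omega] at hmain
  by_contra hcb
  have h2b : 2 * b ≤ c - 1 := by omega
  have := Nat.mul_le_mul_right (q + 1) h2b
  nlinarith

end Cfsg.Agent.S3778
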