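import Cfsg.Statements.S3781
import Cfsg.Agent.Lib.FiniteGroup.IndexBasics
import Cfsg.Agent.Lib.Transfer.Fusion
import Mathlib

set_option autoImplicit false
open Cfsg

namespace Cfsg.Agent.S3781

variable {G : Type*} [Group G]

/-- Iterated commutator with the whole group. -/
def itc (A : Subgroup G) : ℕ → Subgroup G
  | 0 => A
  | n + 1 => ⁅itc A n, ⊤⁆

lemma itc_normal {A : Subgroup G} (hA : A.Normal) : ∀ n, (itc A n).Normal
  | 0 => hA
  | n + 1 => by haveI := itc_normal hA n; exact Subgroup.commutator_normal _ _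

lemma itc_succ_left (A : Subgroup G) : ∀ n, itc ⁅A, (⊤ : Subgroup G)⁆ n = itc A (n + 1)
  | 0 => rfl
  | n + 1 => by simp only [itc, itc_succ_left A n]

lemma commutator_lcs_le (k : ℕ) : ∀ A : Subgroup G, A.Normal →
    ⁅A, (⊤ : Subgroup G).lowerCentralSeries k⁆ ≤ itc A (k + 1) := by
  induction k with
  | zero => intro A _; simp [itc]
  | succ k ih =>
    intro A hA
    haveI := itc_normal hA (k + 2)
    rw [Subgroup.lowerCentralSeries_succ, Subgroup.commutator_comm A]
    refine Cfsg.Agent.FiniteGroup.three_subgroups_le _ _ _ _ ?_ ?_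
    · rw [Subgroup.commutator_comm (⊤ : Subgroup G) A]
      haveI : (⁅A, (⊤ : Subgroup G)⁆).Normal := Subgroup.commutator_normal _ _
      exact (ih _ inferInstance).trans (itc_succ_left A (k + 1)).le
    · exact Subgroup.commutator_mono (ih A hA) le_rfl

/-- Let G be a finite p-group and n ≥ 1, and write γ_1(G) = G, γ_{k+1}(G) = [γ_k(G), G], and likewise γ_k(N) for a subgroup N. Let N be a normal subgroup of G contained in γ_n(G). If i > 1 and γ_{i+1}(N) ≠ 1, then |γ_i(N) : γ_{i+1}(N)| ≥ p^n. -/
theorem result {G : Type*} [Group G] [Finite G] {p : ℕ} [Fact p.Prime] (hG : IsPGroup p G) (n : ℕ) (hn : 1 ≤ n) (N : Subgroup G) [N.Normal] (hN : N ≤ (⊤ : Subgroup G).lowerCentralSeries (n - 1)) (i : ℕ) (hi : 1 < i) (hne : N.lowerCentralSeries i ≠ ⊥) : p ^ n ≤ (N.lowerCentralSeries i).relIndex (N.lowerCentralSeries (i - 1)) := by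
  haveI hnil : Group.IsNilpotent G := hG.isNilpotent
  by_contra hlt
  obtain ⟨j, rfl⟩ : ∃ j, i = j + 1 := ⟨i - 1, by omega⟩
  rw [Nat.add_sub_cancel] at hlt
  set A := N.lowerCentralSeries j with hA
  set B := N.lowerCentralSeries (j + 1) with hB
  have hBA : B ≤ A := N.lowerCentralSeries_antitone (Nat.le_succ j)
  have key : ∀ m : ℕ, itc A m ≤ B ∨ (itc A m ⊔ B ≤ A ∧ B.relIndex (itc A m ⊔ B) * p ^ m ≤ B.relIndex A) := by
    intro m
    induction m with
    | zero => right; simp [itc, hBA]
    | succ m ih =>
      haveI := itc_normal (A := A) inferInstance m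
      haveI := itc_normal (A := A) inferInstance (m + 1)
      rcases ih with h | ⟨hle, hidx⟩
      · left
        exact le_trans (Subgroup.commutator_le_left _ _) h
      · set D := itc A m ⊔ B with hD
        set E := itc A (m + 1) ⊔ B with hE
        have hED : E ≤ D := sup_le_sup_right (Subgroup.commutator_le_left _ _) _
        by_cases heq : E = D
        · left
          refine (Subgroup.commutator_le_left _ _).trans ?_
          refine Cfsg.Agent.Fusion.le_of_le_commutator_sup_normal (itc A m) B ?_
          exact le_sup_left.trans heq.ge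
        · right
          refine ⟨hED.trans hle, ?_⟩
          have hmul : B.relIndex E * E.relIndex D = B.relIndex D :=
            Subgroup.relIndex_mul_relIndex _ _ _ le_sup_right hED
          have hp1 : p ≤ E.relIndex D := by
            obtain ⟨a, ha⟩ := (hG.to_subgroup D).index (E.subgroupOf D)
            change (E.subgroupOf D).index = _ at ha
            have hne : E.relIndex D ≠ 1 := fun h => heq (le_antisymm hED (Subgroup.relIndex_eq_one.1 h))
            rw [Subgroup.relIndex, ha] at hne ⊢
            exact Nat.le_self_pow (by rintro rfl; exact hne (pow_zero _)) _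
          calc B.relIndex E * p ^ (m + 1) = B.relIndex E * p * p ^ m := by ring
            _ ≤ B.relIndex E * E.relIndex D * p ^ m := by gcongr
            _ = B.relIndex D * p ^ m := by rw [hmul]
            _ ≤ _ := hidx
  have hm : itc A (n - 1) ≤ B := by
    rcases key (n - 1) with h | ⟨hle, hidx⟩
    · exact h
    · by_contra hnot
      have hlt2 : 1 < B.relIndex (itc A (n - 1) ⊔ B) := by
        have h1 : B.relIndex (itc A (n - 1) ⊔ B) ≠ 1 := fun h =>
          hnot (le_sup_left.trans (Subgroup.relIndex_eq_one.1 h))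
        have h0 : B.relIndex (itc A (n - 1) ⊔ B) ≠ 0 := Subgroup.index_ne_zero_of_finite
        omega
      have hp2 : p ≤ B.relIndex (itc A (n - 1) ⊔ B) := by
        obtain ⟨a, ha⟩ := (hG.to_subgroup (itc A (n - 1) ⊔ B)).index (B.subgroupOf _)
        change B.relIndex _ = _ at ha
        rw [ha] at hlt2 ⊢
        exact Nat.le_self_pow (by rintro rfl; simp at hlt2) _
      apply hlt
      calc p ^ n = p * p ^ (n - 1) := by rw [← pow_succ']; congr 1; omega
        _ ≤ _ := (Nat.mul_le_mul_right _ hp2).trans hidx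
  have hBB : B ≤ ⁅B, (⊤ : Subgroup G)⁆ := by
    calc B = ⁅A, N⁆ := rfl
      _ ≤ ⁅A, (⊤ : Subgroup G).lowerCentralSeries (n - 1)⁆ := Subgroup.commutator_mono le_rfl hN
      _ ≤ itc A (n - 1 + 1) := commutator_lcs_le _ A inferInstance
      _ ≤ _ := Subgroup.commutator_mono hm le_rfl
  exact hne (le_bot_iff.1 (Cfsg.Agent.Fusion.le_of_le_commutator_sup_normal B ⊥ (hBB.trans le_sup_left)))

end Cfsg.Agent.S3781
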