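import Cfsg.Statements.S3784
import Mathlib.NumberTheory.Fermat

set_option autoImplicit false
open Cfsg

namespace Cfsg.Agent.S3784

/-- Let p, q be primes and a, b positive integers with p^a = q^b + 1. Then either p = 2, b = 1, a is prime and q = 2^a − 1; or q = 2, a = 1, b is a power of 2 and p = 2^b + 1; or p^a = 9 and q^b = 8. -/
theorem result (p q a b : ℕ) (hp : p.Prime) (hq : q.Prime) (ha : 1 ≤ a) (hb : 1 ≤ b) (h : p ^ a = q ^ b + 1) : (p = 2 ∧ b = 1 ∧ a.Prime ∧ q + 1 = 2 ^ a) ∨ (q = 2 ∧ a = 1 ∧ (∃ m : ℕ, b = 2 ^ m) ∧ p = 2 ^ b + 1) ∨ (p ^ a = 9 ∧ q ^ b = 8) := by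
  have hp2 := hp.two_le
  have hq2 := hq.two_le
  have hqb : 2 ≤ q ^ b := le_trans hq2 (Nat.le_self_pow (by omega) q)
  by_cases hq' : q = 2
  · subst hq'
    have hpo : Odd p := by
      refine hp.odd_of_ne_two ?_
      rintro rfl
      have h1 : 2 ∣ 2 ^ a := dvd_pow_self 2 (by omega)
      have h2 : 2 ∣ 2 ^ b := dvd_pow_self 2 (by omega)
      omega
    by_cases ha1 : a = 1
    · subst ha1
      rw [pow_one] at h
      right; left
      refine ⟨rfl, rfl, ?_, h⟩
      exact Nat.pow_of_pow_add_prime (by norm_num) (by omega) (h ▸ hp)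
    right; right
    rcases Nat.even_or_odd a with ⟨c, rfl⟩ | hao
    · rw [← two_mul, mul_comm, pow_mul] at h ⊢
      set x := p ^ c with hx
      have hx2 : 2 ≤ x := le_trans hp2 (Nat.le_self_pow (by omega) p)
      have hmul : (x + 1) * (x - 1) = 2 ^ b := by
        have := Nat.sq_sub_sq x 1
        rw [one_pow, h, Nat.add_sub_cancel] at this
        exact this.symm
      obtain ⟨s, -, hs⟩ := (Nat.dvd_prime_pow Nat.prime_two).1 ⟨_, hmul.symm⟩
      obtain ⟨t, -, ht⟩ := (Nat.dvd_prime_pow Nat.prime_two).1 ⟨x + 1, by rw [mul_comm]; exact hmul.symm⟩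
      have ht1 : t = 1 := by
        rcases t with _ | _ | t
        · simp at ht
          have hxo : Odd x := hpo.pow
          rw [show x = 2 by omega] at hxo
          exact absurd hxo (by decide)
        · rfl
        · have h4 : 4 ∣ 2 ^ (t + 1 + 1) := ⟨2 ^ t, by ring⟩
          rcases s with _ | _ | s
          · simp at hs; omega
          · simp at hs; omega
          · have h4' : 4 ∣ 2 ^ (s + 1 + 1) := ⟨2 ^ s, by ring⟩
            omega
      subst ht1
      have hx3 : x = 3 := by omega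
      rw [hx3] at h hmul ⊢
      norm_num at hmul ⊢
      omega
    · exfalso
      obtain ⟨c, rfl⟩ := hao
      obtain ⟨t, -, ht⟩ : ∃ t ≤ b, p - 1 = 2 ^ t := by
        apply (Nat.dvd_prime_pow Nat.prime_two).1
        have := Nat.sub_one_dvd_pow_sub_one (x := p) (n := 2 * c + 1)
        rwa [h, Nat.add_sub_cancel] at this
      have hp' : p = 2 ^ t + 1 := by omega
      have ht0 : 1 ≤ t := by
        by_contra h0
        rw [show t = 0 by omega] at ht
        simp at ht
        exact absurd (show p = 2 by omega) (by rintro rfl; exact absurd hpo (by decide))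
      have hsq : p ^ 2 ≡ 1 [MOD 2 ^ (t + 1)] := by
        refine ((Nat.modEq_iff_dvd' (Nat.one_le_pow _ _ (by omega))).2 ⟨2 ^ (t - 1) + 1, ?_⟩).symm
        obtain ⟨t', rfl⟩ : ∃ t', t = t' + 1 := ⟨t - 1, by omega⟩
        rw [hp', Nat.add_sub_cancel]
        refine Nat.sub_eq_of_eq_add ?_
        ring
      have hmod : p ^ (2 * c + 1) ≡ p [MOD 2 ^ (t + 1)] := by
        have := (hsq.pow c).mul_right p
        rwa [one_pow, one_mul, ← pow_mul, ← pow_succ] at this
      have hgt : t + 1 ≤ b := by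
        by_contra hle
        have h1 : 2 ^ b ≤ 2 ^ t := Nat.pow_le_pow_right (by norm_num) (by omega)
        have h2 : p ^ 2 ≤ p ^ (2 * c + 1) := Nat.pow_le_pow_right (by omega) (by omega)
        nlinarith
      rw [h, hp'] at hmod
      have h0 : 2 ^ b ≡ 0 [MOD 2 ^ (t + 1)] := Nat.modEq_zero_iff_dvd.2 (pow_dvd_pow 2 hgt)
      have h1 : 2 ^ t ≡ 0 [MOD 2 ^ (t + 1)] := ((Nat.ModEq.add_right_cancel' 1 hmod).symm.trans h0)
      have := Nat.le_of_dvd (Nat.two_pow_pos t) (Nat.modEq_zero_iff_dvd.1 h1)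
      have := Nat.pow_lt_pow_succ (n := t) (show 1 < 2 by norm_num)
      omega
  · left
    have hqo : Odd q := hq.odd_of_ne_two hq'
    have hp' : p = 2 := by
      by_contra hne
      have h1 : Odd (p ^ a) := (hp.odd_of_ne_two hne).pow
      rw [h] at h1
      exact Nat.not_even_iff_odd.2 h1 (hqo.pow.add_odd odd_one)
    subst hp'
    have ha2 : 2 ≤ a := by
      by_contra h0
      rw [show a = 1 by omega] at h
      omega
    have hb1 : b = 1 := by
      rcases Nat.even_or_odd b with ⟨c, rfl⟩ | ⟨c, rfl⟩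
      · exfalso
        obtain ⟨d, hd⟩ : Odd (q ^ c) := hqo.pow
        have h4 : 4 ∣ 2 ^ a := pow_dvd_pow 2 ha2
        have h5 : q ^ (c + c) + 1 = 4 * (d * d + d) + 2 := by rw [pow_add, hd]; ring
        omega
      · by_contra hne
        obtain ⟨t, -, ht⟩ : ∃ t ≤ a, q + 1 = 2 ^ t := by
          apply (Nat.dvd_prime_pow Nat.prime_two).1
          have := (odd_two_mul_add_one c).nat_add_dvd_pow_add_pow q 1
          rwa [one_pow, ← h] at this
        have hsq : q ^ 2 ≡ 1 [MOD 2 ^ (t + 1)] := by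
          obtain ⟨d, hd⟩ := hqo
          refine ((Nat.modEq_iff_dvd' (Nat.one_le_pow _ _ (by omega))).2 ⟨d, ?_⟩).symm
          rw [pow_succ 2 t, ← ht]
          refine Nat.sub_eq_of_eq_add ?_
          rw [hd]; ring
        have hmod : q ^ (2 * c + 1) ≡ q [MOD 2 ^ (t + 1)] := by
          have := (hsq.pow c).mul_right q
          rwa [one_pow, one_mul, ← pow_mul, ← pow_succ] at this
        have hgt : t + 1 ≤ a := by
          by_contra hle
          have h1 : 2 ^ a ≤ 2 ^ t := Nat.pow_le_pow_right (by norm_num) (by omega)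
          have h2 : q ^ 2 ≤ q ^ (2 * c + 1) := Nat.pow_le_pow_right (by omega) (by omega)
          nlinarith
        have hm := hmod.add_right 1
        rw [← h, ht] at hm
        have h0 : 2 ^ a ≡ 0 [MOD 2 ^ (t + 1)] := Nat.modEq_zero_iff_dvd.2 (pow_dvd_pow 2 hgt)
        have := Nat.le_of_dvd (Nat.two_pow_pos t) (Nat.modEq_zero_iff_dvd.1 (hm.symm.trans h0))
        have := Nat.pow_lt_pow_succ (n := t) (show 1 < 2 by norm_num)
        omega
    subst hb1
    rw [pow_one] at h
    refine ⟨rfl, rfl, ?_, h.symm⟩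
    refine (Nat.prime_of_pow_sub_one_prime (a := 2) (by omega) ?_).2
    rw [show 2 ^ a - 1 = q by omega]
    exact hq

end Cfsg.Agent.S3784
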