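import Cfsg.Statements.S3785
import Cfsg.Agent.Lib.FGBasics.FittingCriterion
import Cfsg.Agent.Lib.LocalEven.OmegaOne
import Mathlib

set_option autoImplicit false
open Cfsg

namespace Cfsg.Agent.S3785

open Cfsg.Agent

/-- Let G be a finite solvable group whose Fitting subgroup F(G) has odd order. If an element g of G commutes with every element of prime order of F(G), then g ∈ F(G). -/
theorem result {G : Type*} [Group G] [Finite G] (hG : Group.IsSolvable G) (hodd : Odd (Nat.card (Cfsg.fittingSubgroup G))) (g : G) (hg : ∀ x ∈ Cfsg.fittingSubgroup G, (orderOf x).Prime → g * x = x * g) : g ∈ Cfsg.fittingSubgroup G := by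
  haveI := hG
  set F := Cfsg.fittingSubgroup G with hF
  set T : Set G := {x | x ∈ F ∧ (orderOf x).Prime} with hT
  have hFn : F.Normal := FittingCores.fitting_normal
  have hC : (Subgroup.centralizer T).Normal := ⟨fun n hn a => by
    rw [Subgroup.mem_centralizer_iff] at hn ⊢
    intro x hx
    have h1 : a⁻¹ * x * a ∈ T := by
      refine ⟨by simpa using hFn.conj_mem x hx.1 a⁻¹, ?_⟩
      rw [show a⁻¹ * x * a = (MulAut.conj a⁻¹) x by simp, MulEquiv.orderOf_eq]
      exact hx.2
    have h2 := hn _ h1
    calc x * (a * n * a⁻¹) = a * ((a⁻¹ * x * a) * n) * a⁻¹ := by group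
      _ = a * (n * (a⁻¹ * x * a)) * a⁻¹ := by rw [h2]
      _ = a * n * a⁻¹ * x := by group⟩
  refine FGBasics.le_fitting_of_coprime_centralize hC (fun p hp x hx hxp => ?_)
    (Subgroup.mem_centralizer_iff.2 fun y hy => (hg y hy.1 hy.2).symm)
  have := Fact.mk hp
  have hQn : (Cfsg.pCore p G).Normal := FittingCores.pCore_normal p
  have hQ := FittingCores.pCore_isPGroup (G := G) p
  by_cases hp2 : p = 2
  · subst hp2
    have hbot : Cfsg.pCore 2 G = ⊥ := by
      refine Subgroup.eq_bot_of_card_eq _ ?_
      obtain ⟨k, hk⟩ := hQ.exists_card_eq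
      rcases Nat.eq_zero_or_pos k with rfl | hk0
      · simpa using hk
      · have h2 : 2 ∣ Nat.card F :=
          ((dvd_pow_self 2 hk0.ne').trans hk.symm.dvd).trans
            (Subgroup.card_dvd_of_le (FittingCores.pCore_le_fitting hp))
        exact absurd h2 hodd.not_two_dvd_nat
    rw [hbot]
    exact Subgroup.mem_centralizer_iff.2 fun y hy => by rw [Subgroup.mem_bot.1 hy]; simp
  refine LEOmega.mem_centralizer_of_omega hp2 hxp hQ ?_ ?_
  · rw [Subgroup.normalizer_eq_top_iff.2 hQn]; exact Subgroup.mem_top x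
  · intro a ha hap
    rcases eq_or_ne a 1 with rfl | ha1
    · simp
    · exact (Subgroup.mem_centralizer_iff.1 hx a
        ⟨FittingCores.pCore_le_fitting hp ha, by rwa [orderOf_eq_prime hap ha1]⟩).symm

end Cfsg.Agent.S3785
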