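import Cfsg.Statements.S3787
import Cfsg.Agent.Lib.Solvable.HHApply
import Cfsg.Agent.S3784

set_option autoImplicit false
open Cfsg

namespace Cfsg.Agent.S3787

/-- Let G be a finite p-soluble group, p an odd prime not of the form 2^k + 1, and suppose the wreath product C_p ≀ C_p (of order p^(p+1)) is not involved in a Sylow p-subgroup of G: no section of a Sylow p-subgroup is isomorphic to it. Then G has p-length at most 1. -/
theorem result {G : Type*} [Group G] [Finite G] {p : ℕ} [Fact p.Prime] (hp2 : p ≠ 2) (hnf : (¬ ∃ k : ℕ, p = 2 ^ k + 1)) (hG : Cfsg.IsPSolvable p G) (P : Sylow p G) (hwr : ∀ (W : Type) [Group W] [Finite W], (∃ (B : Subgroup W) (t : W), B.Normal ∧ IsMulCommutative B ∧ (∀ b ∈ B, b ^ p = 1) ∧ Nat.card B = p ^ p ∧ orderOf t = p ∧ t ∉ B ∧ Nat.card W = p ^ (p + 1) ∧ Nat.card ↥(B ⊓ Subgroup.centralizer ({t} : Set W)) = p) → ¬ Cfsg.Involves W ↥(P : Subgroup G)) : Cfsg.PLengthLE p 1 G := by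
  refine HHApply.pLengthLE_one_of_no_wreath hG ?_ P hwr
  rintro ⟨n₀, q, m, h1, hq, h3, h4, -⟩
  have hp := Fact.out (p := p.Prime)
  have h : p ^ n₀ = q ^ m + 1 := by
    rw [← h4]; exact (Nat.sub_add_cancel (Nat.one_le_pow _ _ hp.pos)).symm
  rcases S3784.result p q n₀ m hp hq h1 h3 h with h' | ⟨-, -, -, h'⟩ | ⟨h9, -⟩
  · exact hp2 h'.1
  · exact hnf ⟨m, h'⟩
  · refine hnf ⟨1, ?_⟩
    have hd : p ∣ 3 ^ 2 := by norm_num; exact h9 ▸ dvd_pow_self p (by omega)
    exact (Nat.prime_dvd_prime_iff_eq hp Nat.prime_three).1 (hp.dvd_of_dvd_pow hd)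

end Cfsg.Agent.S3787
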