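import Cfsg.Statements.S3797
import Cfsg.Agent.Lib.ConjInvol.Main

set_option autoImplicit false
open Cfsg

namespace Cfsg.Agent.S3797

/-- Let G be a finite solvable group of even order whose Sylow 2-subgroups contain more than one involution, and suppose all involutions of G are conjugate. Then G has 2-length at most 1, and a Sylow 2-subgroup S of G is either homocyclic (a direct product of cyclic groups of one common order) or a non-abelian 2-group with more than one involution admitting a solvable group of automorphisms transitive on its involutions. -/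
theorem result {G : Type*} [Group G] [Finite G] (hG : Group.IsSolvable G) (heven : Even (Nat.card G)) (S : Sylow 2 G) (htwo : ∃ x y : G, x ∈ (S : Subgroup G) ∧ y ∈ (S : Subgroup G) ∧ x ≠ y ∧ x ≠ 1 ∧ x ^ 2 = 1 ∧ y ≠ 1 ∧ y ^ 2 = 1) (hconj : ∀ x y : G, x ≠ 1 → x ^ 2 = 1 → y ≠ 1 → y ^ 2 = 1 → IsConj x y) : Cfsg.PLengthLE 2 1 G ∧ ((∃ m r : ℕ, Nonempty (↥(S : Subgroup G) ≃* (Fin r → Multiplicative (ZMod (2 ^ m))))) ∨ (¬ IsMulCommutative (S : Subgroup G) ∧ ∃ Y : Subgroup (MulAut ↥(S : Subgroup G)), Group.IsSolvable Y ∧ ∀ x y : ↥(S : Subgroup G), x ≠ 1 → x ^ 2 = 1 → y ≠ 1 → y ^ 2 = 1 → ∃ a ∈ Y, a x = y)) := by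
  classical
  haveI := hG
  obtain ⟨hlen, htr⟩ := ConjInvol.main S htwo hconj
  refine ⟨hlen, ?_⟩
  let ρ := (S : Subgroup G).normalizerMonoidHom
  have htrY : ∀ x y : ↥(S : Subgroup G), x ≠ 1 → x ^ 2 = 1 → y ≠ 1 → y ^ 2 = 1 →
      ∃ a ∈ ρ.range, a x = y := by
    intro x y hx hxx hy hyy
    obtain ⟨g, hg, hgx⟩ := htr x y x.2 y.2 (fun h => hx (Subtype.ext h))
      (by rw [← Subgroup.coe_pow, hxx, Subgroup.coe_one]) (fun h => hy (Subtype.ext h))
      (by rw [← Subgroup.coe_pow, hyy, Subgroup.coe_one])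
    exact ⟨ρ ⟨g, hg⟩, ⟨_, rfl⟩, Subtype.ext hgx⟩
  by_cases hab : IsMulCommutative (S : Subgroup G)
  · refine Or.inl ?_
    letI : CommGroup (S : Subgroup G) :=
      { (inferInstance : Group (S : Subgroup G)) with mul_comm := hab.is_comm.comm }
    exact ConjInvol.homocyclic S.isPGroup' fun x y hx hxx hy hyy => by
      obtain ⟨a, -, ha⟩ := htrY x y hx hxx hy hyy
      exact ⟨a, ha⟩
  · exact Or.inr ⟨hab, ρ.range, Group.isSolvable_of_surjective ρ.rangeRestrict_surjective, htrY⟩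

end Cfsg.Agent.S3797
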