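import Cfsg.Statements.S3798
import Cfsg.Agent.Lib.Solvable.PSeries
import Cfsg.Agent.Lib.Solvable.SchurZassenhaus
import Cfsg.Agent.Lib.LocalEven.OmegaOne

set_option autoImplicit false
open Cfsg

namespace Cfsg.Agent.S3798

open scoped Pointwise
open Subgroup

variable {G : Type*} [Group G] [Finite G] {p : ℕ} [hp : Fact p.Prime]

/-- With trivial `p'`-core, the index of `O_p` is prime to `p`. -/
theorem index_pCore_coprime (hp2 : p ≠ 2) (hO : Cfsg.pPrimeCore p G = ⊥) (hG : Cfsg.IsPSolvable p G)
    (htrans : ∀ U V : Subgroup G, Nat.card U = p → Nat.card V = p → ∃ a : MulAut G, U.map a.toMonoidHom = V) :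
    ¬ p ∣ (Cfsg.pCore p G).index := by
  intro hdvd
  set P := Cfsg.pCore p G with hPdef
  haveI : P.Normal := FittingCores.pCore_normal p
  have hPp : IsPGroup p P := FittingCores.pCore_isPGroup p
  have hC := PSolvable.centralizer_pCore_le hG hO
  have hP1 : P ≠ ⊥ := fun h => by
    have htop : (⊤ : Subgroup G) ≤ ⊥ := by
      refine le_trans ?_ (hC.trans h.le)
      intro x _
      rw [mem_centralizer_iff]
      intro y hy
      have : y = 1 := by simpa [← hPdef, h] using hy
      simp [this]
    have := hdvd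
    rw [h, index_bot, ← card_top (G := G), le_bot_iff.1 htop, Subgroup.card_bot] at this
    exact hp.out.not_dvd_one this
  set Z := (center P).map P.subtype with hZ
  have hZmem : ∀ z ∈ Z, z ∈ P ∧ ∀ a ∈ P, a * z = z * a := by
    rintro _ ⟨z, hz, rfl⟩
    exact ⟨z.2, fun a ha => congrArg Subtype.val (Subgroup.mem_center_iff.1 hz ⟨a, ha⟩)⟩
  -- all elements of order p are central in P
  have hall : ∀ v : G, orderOf v = p → v ∈ P ∧ ∀ a ∈ P, a * v = v * a := by
    intro v hv
    haveI := (nontrivial_iff_ne_bot P).2 hP1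
    haveI := hPp.center_nontrivial
    obtain ⟨n, hn⟩ := (hPp.to_subgroup (center P)).exists_card_eq
    obtain ⟨z, hz⟩ := exists_prime_orderOf_dvd_card' (G := center P) p (hn ▸ dvd_pow_self p fun h => by
      rw [h, pow_zero] at hn
      exact not_subsingleton (center P) (Nat.card_eq_one_iff_unique.1 hn).1)
    set u : G := ((z : P) : G)
    have hu : orderOf u = p := by
      rw [orderOf_coe, orderOf_coe, hz]
    obtain ⟨a, ha⟩ := htrans (zpowers u) (zpowers v) (by rw [Nat.card_zpowers, hu]) (by rw [Nat.card_zpowers, hv])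
    obtain ⟨w, hw, hwv⟩ := ha.ge (mem_zpowers v)
    obtain ⟨i, rfl⟩ := mem_zpowers_iff.1 hw
    have hmap : P.map a.toMonoidHom = P := FittingCores.pCore_map_equiv p a
    have huZ : u ^ i ∈ Z := zpow_mem (show u ∈ Z from mem_map_of_mem P.subtype z.2) i
    obtain ⟨h1, h2⟩ := hZmem _ huZ
    refine ⟨hmap.le ⟨_, h1, hwv⟩, fun b hb => ?_⟩
    obtain ⟨c, hc, rfl⟩ := hmap.ge hb
    rw [← hwv, ← map_mul, ← map_mul, h2 c hc]
  -- a complement in the next term of the series
  have hcore : Cfsg.pPrimeCore p (G ⧸ P) ≠ ⊥ := by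
    haveI : Nontrivial (G ⧸ P) := by
      rw [← Finite.one_lt_card_iff_nontrivial, ← index_eq_card]
      exact lt_of_lt_of_le hp.out.one_lt (Nat.le_of_dvd (Nat.pos_of_ne_zero index_ne_zero_of_finite) hdvd)
    rcases PSolvable.exists_core_ne_bot (PSolvable.quotient P hG) with h | h
    · exact absurd (PBasic.pCore_quotient_pCore p G) h
    · exact h
  haveI : Finite (G ⧸ P) := Quotient.finite _
  haveI := FittingCores.pPrimeCore_normal (G := G ⧸ P) p
  set M := (Cfsg.pPrimeCore p (G ⧸ P)).comap (QuotientGroup.mk' P) with hM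
  have hPM : P ≤ M := fun x hx => by
    rw [hM, mem_comap]
    rw [QuotientGroup.mk'_apply, (QuotientGroup.eq_one_iff x).2 hx]
    exact one_mem _
  have hrel : (P.relIndex M).Coprime p := by
    rw [← PSeries.card_map_mk', hM, map_comap_eq_self_of_surjective (QuotientGroup.mk'_surjective _)]
    exact FittingCores.pPrimeCore_coprime p
  obtain ⟨n, hn⟩ := hPp.exists_card_eq
  have hcop : (Nat.card (P.subgroupOf M)).Coprime (P.subgroupOf M).index := by
    rw [Nat.card_congr (subgroupOfEquivOfLe hPM).toEquiv, hn]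
    exact hrel.symm.pow_left n
  obtain ⟨K₀, hK₀⟩ := exists_right_complement'_of_coprime hcop
  set K := K₀.map M.subtype with hK
  have hKM : K ≤ M := map_subtype_le _
  have hKc : (Nat.card K).Coprime p := by
    rw [hK, card_map_of_injective M.subtype_injective, ← hK₀.symm.index_eq_card]
    exact hrel
  have hKP : P ⊓ K = ⊥ := inf_eq_bot_of_coprime (by rw [hn]; exact hKc.symm.pow_left n)
  have hMeq : P ⊔ K = M := by
    rw [hK, ← map_subgroupOf_eq_of_le hPM, ← Subgroup.map_sup, hK₀.sup_eq_top, ← MonoidHom.range_eq_map, range_subtype]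
  have hMn : M.Normal := inferInstance
  have hcard : Nat.card P * Nat.card K = Nat.card M := by
    rw [hK, card_map_of_injective M.subtype_injective, ← hK₀.card_mul,
      Nat.card_congr (subgroupOfEquivOfLe hPM).toEquiv]
  have hKPn : K ≤ normalizer (P : Set G) := le_top.trans (normalizer_eq_top (H := P)).ge
  have hcopKP : (Nat.card K).Coprime (Nat.card P) := by rw [hn]; exact hKc.pow_right n
  have hPs : Group.IsSolvable K ∨ Group.IsSolvable P :=
    Or.inr (by haveI := hPp.isNilpotent; infer_instance)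
  -- Frattini
  have hfr : ∀ g : G, ∃ a ∈ P, a * g ∈ normalizer (K : Set G) := by
    intro g
    set K' := K.map (MulAut.conj g).toMonoidHom with hK'
    have hK'M : K' ≤ M := by
      rintro _ ⟨k, hk, rfl⟩
      exact hMn.conj_mem k (hKM hk) g
    have hc' : Nat.card K' = Nat.card K := card_map_of_injective (MulAut.conj g).injective
    obtain ⟨a, ha, hconj⟩ := SchurZ.conj_in hKPn hcopKP hPs (hK'M.trans hMeq.ge) hc'
    refine ⟨a⁻¹, inv_mem ha, mem_normalizer_fintype fun k hk => ?_⟩
    obtain ⟨l, hl, hlk⟩ := (hconj.ge (show g * k * g⁻¹ ∈ K' from ⟨k, hk, rfl⟩))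
    show a⁻¹ * g * k * (a⁻¹ * g)⁻¹ ∈ K
    have hlk' : a * l * a⁻¹ = g * k * g⁻¹ := hlk
    rw [show a⁻¹ * g * k * (a⁻¹ * g)⁻¹ = a⁻¹ * (g * k * g⁻¹) * a by group, ← hlk']
    simpa [mul_assoc] using hl
  have hB : normalizer (K : Set G) ⊓ P = ⊥ := by
    by_contra hne
    obtain ⟨m, hm⟩ := (hPp.to_le (inf_le_right : normalizer (K : Set G) ⊓ P ≤ P)).exists_card_eq
    obtain ⟨b, hb⟩ := exists_prime_orderOf_dvd_card' (G := ↥(normalizer (K : Set G) ⊓ P)) p (hm ▸ dvd_pow_self p
      fun h => hne (eq_bot_of_card_eq _ (by rw [hm, h, pow_zero])))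
    obtain ⟨hbN, hbP⟩ := b.2
    have hbK : ∀ k ∈ K, k * b = (b : G) * k := by
      intro k hk
      have h1 : (b : G) * k * (b : G)⁻¹ * k⁻¹ ∈ P ⊓ K := by
        refine ⟨?_, K.mul_mem ((mem_normalizer_iff.1 hbN k).1 hk) (K.inv_mem hk)⟩
        rw [show (b : G) * k * (b : G)⁻¹ * k⁻¹ = b * (k * (b : G)⁻¹ * k⁻¹) by group]
        exact mul_mem hbP ((inferInstance : P.Normal).conj_mem _ (inv_mem hbP) k)
      rw [hKP, Subgroup.mem_bot, mul_inv_eq_one, mul_inv_eq_iff_eq_mul] at h1
      exact h1.symm
    have hbo : orderOf (b : G) = p := by rw [orderOf_coe, hb]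
    refine hcore ?_
    have hKle : K ≤ centralizer (P : Set G) := by
      intro k hk
      refine LEOmega.mem_centralizer_of_omega hp2
        (hKc.coprime_dvd_left (by rw [← orderOf_mk (H := K) k hk]; exact orderOf_dvd_natCard _))
        hPp ((le_normalizer_of_normal : (⊤ : Subgroup G) ≤ normalizer (P : Set G)) (mem_top k)) fun v hv hvp => ?_
      rcases eq_or_ne v 1 with rfl | hv1
      · simp
      have hvo : orderOf v = p := orderOf_eq_prime hvp hv1
      obtain ⟨α, hα⟩ := htrans (zpowers (b : G)) (zpowers v) (by rw [Nat.card_zpowers, hbo])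
        (by rw [Nat.card_zpowers, hvo])
      -- α maps K to a conjugate under P
      have hαP : P.map α.toMonoidHom = P := FittingCores.pCore_map_equiv p α
      have hαM : M.map α.toMonoidHom = M := by
        refine eq_of_le_of_card_ge (fun x hx => ?_) (card_map_of_injective α.injective).ge
        obtain ⟨y, hy, rfl⟩ := hx
        let e : G ⧸ P ≃* G ⧸ P := QuotientGroup.congr P P α hαP
        have he : QuotientGroup.mk' P (α y) = e (QuotientGroup.mk' P y) := rfl
        show QuotientGroup.mk' P (α y) ∈ Cfsg.pPrimeCore p (G ⧸ P)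
        rw [he, ← FittingCores.pPrimeCore_map_equiv p e]
        exact mem_map_of_mem e.toMonoidHom hy
      obtain ⟨a, ha, hconj⟩ := SchurZ.conj_in hKPn hcopKP hPs
        (((map_mono hKM).trans hαM.le).trans hMeq.ge) (card_map_of_injective α.injective)
      obtain ⟨w, hw, hwv⟩ := hα.ge (mem_zpowers v)
      obtain ⟨i, rfl⟩ := mem_zpowers_iff.1 hw
      obtain ⟨k₀, hk₀, hk₀'⟩ := hconj.le ⟨k, hk, rfl⟩
      have hk₀'' : α k₀ = a * k * a⁻¹ := hk₀'
      rw [show k = a⁻¹ * α k₀ * a by rw [hk₀'']; group]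
      have hcom : α k₀ * v = v * α k₀ := by
        rw [← hwv]
        change α k₀ * α ((b : G) ^ i) = α ((b : G) ^ i) * α k₀
        rw [← map_mul, ← map_mul, ((show Commute k₀ (b : G) from hbK k₀ hk₀).zpow_right i).eq]
      have hav : a * v = v * a := (hall v hvo).2 a ha
      have hav' : a⁻¹ * v = v * a⁻¹ := ((show Commute a v from hav).inv_left).eq
      calc a⁻¹ * α k₀ * a * v = a⁻¹ * α k₀ * (a * v) := by group
        _ = a⁻¹ * (α k₀ * v) * a := by rw [hav]; group
        _ = (a⁻¹ * v) * α k₀ * a := by rw [hcom]; group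
        _ = v * (a⁻¹ * α k₀ * a) := by rw [hav']; group
    have hMP : M ≤ P := hMeq ▸ sup_le le_rfl (hKle.trans hC)
    rw [← map_comap_eq_self_of_surjective (QuotientGroup.mk'_surjective P) (Cfsg.pPrimeCore p (G ⧸ P)), ← hM,
      Subgroup.map_eq_bot_iff, QuotientGroup.ker_mk']
    exact hMP
  -- an element of order p in the normalizer
  have hdvdN : p ∣ Nat.card (normalizer (K : Set G)) := by
    let f := (QuotientGroup.mk' P).comp (normalizer (K : Set G)).subtype
    have hf : Function.Surjective f := by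
      intro y
      obtain ⟨g, rfl⟩ := QuotientGroup.mk'_surjective P y
      obtain ⟨a, ha, hag⟩ := hfr g
      refine ⟨⟨a * g, hag⟩, ?_⟩
      show QuotientGroup.mk' P (a * g) = _
      rw [map_mul, show QuotientGroup.mk' P a = 1 from (QuotientGroup.eq_one_iff a).2 ha, one_mul]
    exact hdvd.trans (by rw [index_eq_card]; exact card_dvd_of_surjective f hf)
  obtain ⟨x, hx⟩ := exists_prime_orderOf_dvd_card' (G := normalizer (K : Set G)) p hdvdN
  have hxo : orderOf (x : G) = p := by rw [orderOf_coe, hx]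
  have : (x : G) ∈ normalizer (K : Set G) ⊓ P := ⟨x.2, (hall _ hxo).1⟩
  rw [hB, Subgroup.mem_bot] at this
  rw [this, orderOf_one] at hxo
  exact hp.out.ne_one hxo.symm

/-- The Gaschütz–Yen Theorem: let G be a finite p-soluble group, p an odd prime dividing its order, such that the automorphism group of G permutes the subgroups of G of order p transitively. Then G has p-length at most 1. -/
theorem result {G : Type*} [Group G] [Finite G] {p : ℕ} [Fact p.Prime] (hp : p ≠ 2) (hdvd : p ∣ Nat.card G) (hG : Cfsg.IsPSolvable p G) (htrans : ∀ U V : Subgroup G, Nat.card U = p → Nat.card V = p → ∃ a : MulAut G, U.map a.toMonoidHom = V) : Cfsg.PLengthLE p 1 G := by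
  haveI := FittingCores.pPrimeCore_normal (G := G) p
  set O := Cfsg.pPrimeCore p G with hOdef
  haveI : Finite (G ⧸ O) := Quotient.finite _
  haveI : Fact p.Prime := inferInstance
  refine PSeries.pLengthLE_of_ker_coprime (QuotientGroup.mk' O)
    (by rw [QuotientGroup.ker_mk']; exact FittingCores.pPrimeCore_coprime p) ?_
  have hO : Cfsg.pPrimeCore p (G ⧸ O) = ⊥ := PBasic.pPrimeCore_quotient_pPrimeCore p G
  have key := index_pCore_coprime hp hO (PSolvable.quotient _ hG) fun U V hU hV => by
    have lift : ∀ U : Subgroup (G ⧸ O), Nat.card U = p →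
        ∃ W : Subgroup G, Nat.card W = p ∧ W.map (QuotientGroup.mk' O) = U := by
      intro U hU
      obtain ⟨y, hy⟩ := exists_prime_orderOf_dvd_card' (G := U) p (dvd_of_eq hU.symm)
      obtain ⟨x, hx⟩ := QuotientGroup.mk'_surjective O (y : G ⧸ O)
      have hyo : orderOf (y : G ⧸ O) = p := by rw [Subgroup.orderOf_coe, hy]
      set k := orderOf x / p ^ (orderOf x).factorization p with hk
      have h0 := (orderOf_pos x).ne'
      have hkc : p.Coprime k := Nat.coprime_ordCompl Fact.out h0
      set w := x ^ k with hw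
      have hwy : QuotientGroup.mk' O w = (y : G ⧸ O) ^ k := by rw [hw, map_pow, hx]
      have hwo : orderOf w = p := by
        refine orderOf_eq_prime ?_ fun h1 => ?_
        · have hmem : w ^ p ∈ O := by
            rw [← QuotientGroup.eq_one_iff]
            show QuotientGroup.mk' O (w ^ p) = 1
            rw [map_pow, hwy, ← pow_mul, mul_comm, pow_mul, ← hyo, pow_orderOf_eq_one, one_pow]
          have hd : orderOf (w ^ p) ∣ p ^ (orderOf x).factorization p := by
            apply orderOf_dvd_of_pow_eq_one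
            rw [hw, ← pow_mul, ← pow_mul, show k * (p * p ^ (orderOf x).factorization p) = orderOf x * p by
              conv_rhs => rw [← Nat.ordProj_mul_ordCompl_eq_self (orderOf x) p]
              rw [hk]; ring, pow_mul, pow_orderOf_eq_one, one_pow]
          exact orderOf_eq_one_iff.1 (Nat.eq_one_of_dvd_coprimes
            (((FittingCores.pPrimeCore_coprime p).coprime_dvd_left (Subgroup.orderOf_dvd_natCard _ hmem)).pow_right _)
            dvd_rfl hd)
        · rw [h1, map_one] at hwy
          have := orderOf_dvd_of_pow_eq_one hwy.symm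
          rw [hyo] at this
          exact (Fact.out : p.Prime).ne_one (Nat.eq_one_of_dvd_coprimes hkc dvd_rfl this)
      refine ⟨Subgroup.zpowers w, by rw [Nat.card_zpowers, hwo], ?_⟩
      rw [MonoidHom.map_zpowers, hwy]
      refine Subgroup.eq_of_le_of_card_ge (Subgroup.zpowers_le.2 (pow_mem y.2 k)) ?_
      rw [Nat.card_zpowers, hU, orderOf_pow, hyo, Nat.Coprime.gcd_eq_one hkc, Nat.div_one]
    obtain ⟨U₀, hU₀, rfl⟩ := lift U hU
    obtain ⟨V₀, hV₀, rfl⟩ := lift V hV
    obtain ⟨a, ha⟩ := htrans U₀ V₀ hU₀ hV₀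
    refine ⟨QuotientGroup.congr O O a (FittingCores.pPrimeCore_map_equiv p a), ?_⟩
    rw [← ha, Subgroup.map_map, Subgroup.map_map]
    rfl
  rw [PSeries.pLengthLE_succ_iff, PSeries.pLengthLE_zero_iff]
  refine ((Fact.out : p.Prime).coprime_iff_not_dvd.2 fun hd => key ?_).symm
  refine dvd_trans hd ?_
  rw [← Subgroup.index_eq_card]
  refine Subgroup.index_dvd_of_le ?_
  have h2 := PSeries.map_U_succ_odd (p := p) (G := G ⧸ O) 0
  haveI := FittingCores.pCore_normal (G := G ⧸ O) p
  refine PSeries.le_succ_odd (n := 1) (by decide) ?_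
  obtain ⟨m, hm⟩ := (FittingCores.pCore_isPGroup (G := G ⧸ O) p).exists_card_eq
  refine ⟨m, ?_⟩
  rw [PSeries.U_one, hO, Subgroup.relIndex_bot_left, hm]

end Cfsg.Agent.S3798
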