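import Cfsg.Statements.S3799
import Cfsg.Agent.Lib.Qd.Basic
import Cfsg.Agent.Lib.Transfer.PGroup
import Mathlib

set_option autoImplicit false
open Cfsg

namespace Cfsg.Agent.S3799

open Cfsg.Agent
open Matrix
open scoped commutatorElement

variable {n p : ℕ}

/-- The Heisenberg group on `2n+1` coordinates over `ZMod p`. -/
@[ext] structure H (n p : ℕ) where
  u : Fin n → ZMod p
  v : Fin n → ZMod p
  w : ZMod p

instance instMulH : Mul (H n p) := ⟨fun x y => ⟨x.u + y.u, x.v + y.v, x.w + y.w + x.u ⬝ᵥ y.v⟩⟩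
instance instOneH : One (H n p) := ⟨⟨0, 0, 0⟩⟩
instance instInvH : Inv (H n p) := ⟨fun x => ⟨-x.u, -x.v, -x.w + x.u ⬝ᵥ x.v⟩⟩

@[simp] lemma mul_u (x y : H n p) : (x * y).u = x.u + y.u := rfl
@[simp] lemma mul_v (x y : H n p) : (x * y).v = x.v + y.v := rfl
@[simp] lemma mul_w (x y : H n p) : (x * y).w = x.w + y.w + x.u ⬝ᵥ y.v := rfl
@[simp] lemma one_u : (1 : H n p).u = 0 := rfl
@[simp] lemma one_v : (1 : H n p).v = 0 := rfl
@[simp] lemma one_w : (1 : H n p).w = 0 := rfl
@[simp] lemma inv_u (x : H n p) : x⁻¹.u = -x.u := rfl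
@[simp] lemma inv_v (x : H n p) : x⁻¹.v = -x.v := rfl
@[simp] lemma inv_w (x : H n p) : x⁻¹.w = -x.w + x.u ⬝ᵥ x.v := rfl

instance instGroupH : Group (H n p) where
  mul_assoc x y z := by
    ext <;> simp [add_assoc, add_dotProduct, dotProduct_add]
    ring
  one_mul x := by ext <;> simp
  mul_one x := by ext <;> simp
  inv_mul_cancel x := by ext <;> simp [neg_dotProduct]

/-- Coordinates. -/
def coords : H n p ≃ (Fin n → ZMod p) × (Fin n → ZMod p) × ZMod p where
  toFun x := (x.u, x.v, x.w)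
  invFun t := ⟨t.1, t.2.1, t.2.2⟩
  left_inv _ := rfl
  right_inv _ := rfl

variable [Fact p.Prime]

instance instFiniteH : Finite (H n p) := Finite.of_equiv _ coords.symm

lemma card_H : Nat.card (H n p) = p ^ (1 + 2 * n) := by
  rw [Nat.card_congr coords, Nat.card_prod, Nat.card_prod, Nat.card_fun, Nat.card_zmod, Nat.card_fin]
  ring

lemma mem_center_iff {x : H n p} : x ∈ Subgroup.center (H n p) ↔ x.u = 0 ∧ x.v = 0 := by
  classical
  rw [Subgroup.mem_center_iff]
  refine ⟨fun h => ⟨funext fun i => ?_, funext fun i => ?_⟩, fun h y => ?_⟩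
  · have := congrArg H.w (h ⟨0, Pi.single i 1, 0⟩)
    simp at this
    simpa using this
  · have := congrArg H.w (h ⟨Pi.single i 1, 0, 0⟩)
    simp at this
    simpa using this
  · ext <;> simp [h.1, h.2, add_comm]

lemma card_center : Nat.card ↥(Subgroup.center (H n p)) = p := by
  refine (Nat.card_congr (Equiv.ofBijective (fun x : ↥(Subgroup.center (H n p)) => (x : H n p).w) ⟨?_, ?_⟩)).trans
    (Nat.card_zmod p)
  · rintro ⟨x, hx⟩ ⟨y, hy⟩ h
    rw [mem_center_iff] at hx hy
    exact Subtype.ext (H.ext (hx.1.trans hy.1.symm) (hx.2.trans hy.2.symm) h)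
  · exact fun c => ⟨⟨⟨0, 0, c⟩, mem_center_iff.2 ⟨rfl, rfl⟩⟩, rfl⟩

lemma comm_formula (x y : H n p) : ⁅x, y⁆ = ⟨0, 0, x.u ⬝ᵥ y.v - y.u ⬝ᵥ x.v⟩ := by
  rw [commutatorElement_def, mul_inv_eq_iff_eq_mul, mul_inv_eq_iff_eq_mul]
  ext <;> simp [add_comm]
  ring

lemma pow_formula (hp : p ≠ 2) (x : H n p) : x ^ p = 1 := by
  have key : ∀ k : ℕ, (x ^ k).u = (k : ZMod p) • x.u ∧ (x ^ k).v = (k : ZMod p) • x.v ∧
      2 * (x ^ k).w = 2 * (k : ZMod p) * x.w + (k : ZMod p) * ((k : ZMod p) - 1) * (x.u ⬝ᵥ x.v) := by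
    intro k
    induction k with
    | zero => simp
    | succ k ih =>
      obtain ⟨i1, i2, i3⟩ := ih
      refine ⟨?_, ?_, ?_⟩
      · rw [pow_succ, mul_u, i1, Nat.cast_succ, add_smul, one_smul]
      · rw [pow_succ, mul_v, i2, Nat.cast_succ, add_smul, one_smul]
      · rw [pow_succ, mul_w, i1, smul_dotProduct, smul_eq_mul, Nat.cast_succ]
        linear_combination i3
  obtain ⟨h1, h2, h3⟩ := key p
  rw [ZMod.natCast_self] at h1 h2 h3
  have h20 : (2 : ZMod p) ≠ 0 := by
    intro h0
    have : ((2 : ℕ) : ZMod p) = 0 := by exact_mod_cast h0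
    rw [ZMod.natCast_eq_zero_iff] at this
    exact hp ((Nat.prime_dvd_prime_iff_eq Fact.out Nat.prime_two).1 this)
  refine H.ext (by simpa using h1) (by simpa using h2) ?_
  simp only [mul_zero, zero_mul, add_zero] at h3
  simpa [h20] using h3

theorem isExtraspecial_H (hp : p ≠ 2) (hn : 1 ≤ n) : Cfsg.IsExtraspecial p (H n p) := by
  classical
  have hpg : IsPGroup p (H n p) := fun x => ⟨1, by rw [pow_one]; exact pow_formula hp x⟩
  have hcomm : commutator (H n p) = Subgroup.center (H n p) := by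
    refine le_antisymm ?_ fun z hz => ?_
    · rw [commutator_def, Subgroup.commutator_le]
      intro x _ y _
      rw [comm_formula]
      exact mem_center_iff.2 ⟨rfl, rfl⟩
    · rw [mem_center_iff] at hz
      have : z = ⁅(⟨Pi.single ⟨0, hn⟩ z.w, 0, 0⟩ : H n p), ⟨0, Pi.single ⟨0, hn⟩ 1, 0⟩⁆ := by
        rw [comm_formula]
        ext <;> simp [hz.1, hz.2]
      rw [this, commutator_def]
      exact Subgroup.commutator_mem_commutator (Subgroup.mem_top _) (Subgroup.mem_top _)
  refine ⟨⟨hpg, ?_, hcomm⟩, card_center⟩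
  refine le_antisymm (LEFrattini.frattini_le (fun a b => hcomm ▸ Subgroup.commutator_mem_commutator
    (Subgroup.mem_top a) (Subgroup.mem_top b)) fun x => by rw [pow_formula hp x]; exact one_mem _) ?_
  haveI := hpg.isNilpotent
  show _ ≤ frattini (H n p)
  rw [← hcomm, frattini, Order.radical]
  refine le_iInf₂ fun K hK => ?_
  haveI : K.Normal := Subgroup.NormalizerCondition.normal_of_coatom K
    Group.normalizerCondition_of_isNilpotent hK
  haveI : IsCyclic (H n p ⧸ K) := isCyclic_of_prime_card (p := p) (PGroupBasics.index_of_isCoatom hpg hK).2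
  rw [commutator_def, Subgroup.commutator_le]
  intro x _ y _
  rw [← QuotientGroup.eq_one_iff]
  show QuotientGroup.mk' K ⁅x, y⁆ = 1
  rw [map_commutatorElement, commutatorElement_eq_one_iff_mul_comm]
  exact IsCyclic.commGroup.mul_comm _ _

/-- The matrix of an element. -/
def mat (x : H n p) : Matrix (Unit ⊕ Fin n ⊕ Unit) (Unit ⊕ Fin n ⊕ Unit) (ZMod p) :=
  Matrix.of fun i j => match i, j with
    | .inl _, .inl _ => 1
    | .inl _, .inr (.inl l) => x.u l
    | .inl _, .inr (.inr _) => x.w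
    | .inr (.inl k), .inr (.inl l) => if k = l then 1 else 0
    | .inr (.inl k), .inr (.inr _) => x.v k
    | .inr (.inr _), .inr (.inr _) => 1
    | .inr _, .inl _ => 0
    | .inr (.inr _), .inr (.inl _) => 0

/-- The matrix representation. -/
def matHom : H n p →* Matrix (Unit ⊕ Fin n ⊕ Unit) (Unit ⊕ Fin n ⊕ Unit) (ZMod p) where
  toFun := mat
  map_one' := by
    ext (i | i | i) (j | j | j) <;> simp [mat, Matrix.one_apply]
  map_mul' x y := by
    ext (i | i | i) (j | j | j) <;>
      simp [mat, Matrix.mul_apply, Fintype.sum_sum_type, dotProduct] <;> ring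

lemma matHom_injective : Function.Injective (matHom : H n p →* _) := by
  intro x y h
  refine H.ext (funext fun l => ?_) (funext fun l => ?_) ?_
  · simpa [matHom, mat] using congrFun (congrFun h (.inl ())) (.inr (.inl l))
  · simpa [matHom, mat] using congrFun (congrFun h (.inr (.inl l))) (.inr (.inr ()))
  · simpa [matHom, mat] using congrFun (congrFun h (.inl ())) (.inr (.inr ()))

/-- For every odd prime p and every n ≥ 1 there is an extraspecial p-group of order p^(1+2n) and exponent p; concretely, the general linear group of degree n + 2 over the field with p elements contains such a subgroup. -/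
theorem result (p : ℕ) [Fact p.Prime] (hp : p ≠ 2) (n : ℕ) (hn : 1 ≤ n) : ∃ E : Subgroup (Matrix.GeneralLinearGroup (Fin (n + 2)) (ZMod p)), Cfsg.IsExtraspecial p ↥E ∧ Nat.card E = p ^ (1 + 2 * n) ∧ ∀ x ∈ E, x ^ p = 1 := by
  classical
  let e : Unit ⊕ Fin n ⊕ Unit ≃ Fin (n + 2) :=
    Fintype.equivFinOfCardEq (by simp; omega)
  let r := Matrix.reindexAlgEquiv (ZMod p) (ZMod p) e
  let φ : H n p →* Matrix.GeneralLinearGroup (Fin (n + 2)) (ZMod p) :=
    ((r : _ ≃ₐ[ZMod p] _).toMulEquiv.toMonoidHom.comp matHom).toHomUnits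
  have hφ : Function.Injective φ := fun x y h => matHom_injective (r.injective (congrArg Units.val h))
  refine ⟨φ.range, Qd.isExtraspecial_congr (MonoidHom.ofInjective hφ).symm (isExtraspecial_H hp hn), ?_, ?_⟩
  · rw [← Nat.card_congr (MonoidHom.ofInjective hφ).toEquiv, card_H]
  · rintro _ ⟨x, rfl⟩
    rw [← map_pow, pow_formula hp, map_one]

end Cfsg.Agent.S3799
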