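import Cfsg.Statements.S3802
import Cfsg.Agent.Lib.LocalEven.Wielandt
import Mathlib

set_option autoImplicit false
open Cfsg

namespace Cfsg.Agent.S3802

open Cfsg.Agent

universe u

theorem aux : ∀ (n : ℕ) (G : Type u) [Group G] [Finite G], Nat.card G = n → ∀ M N : Subgroup G,
    IsCoatom M → N.IsSubnormal → N ≤ M → N ≤ Subgroup.normalCore M := by
  intro n
  induction n using Nat.strong_induction_on with
  | _ n ih =>
    intro G _ _ hn M N hM hN hNM
    rcases subsingleton_or_nontrivial G with hs | hs
    · exact absurd (Subgroup.eq_top_iff' _ |>.2 fun x => (Subsingleton.elim x 1) ▸ one_mem M) hM.1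
    obtain ⟨R, hRn, hR, -, hRmin⟩ := LEWielandt.exists_minimal_normal (N := (⊤ : Subgroup G)) inferInstance
      top_ne_bot
    haveI := hRn
    by_cases hRM : R ≤ M
    · set f := QuotientGroup.mk' R
      have hf : Function.Surjective f := QuotientGroup.mk'_surjective R
      have hlt : Nat.card (G ⧸ R) < n := by
        rw [← hn, Subgroup.card_eq_card_quotient_mul_card_subgroup R]
        exact lt_mul_of_one_lt_right Nat.card_pos (R.one_lt_card_iff_ne_bot.mpr hR)
      have hcm : (M.map f).comap f = M := by
        rw [Subgroup.comap_map_eq, QuotientGroup.ker_mk', sup_eq_left.2 hRM]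
      have hM' : IsCoatom (M.map f) := by
        refine ⟨fun h => hM.1 (by rw [← hcm, h, Subgroup.comap_top]), fun K hK => ?_⟩
        have h1 : M < K.comap f := by
          rw [← hcm]
          exact (Subgroup.comap_lt_comap_of_surjective hf).2 hK
        rw [← Subgroup.map_comap_eq_self_of_surjective hf K, hM.2 _ h1,
          Subgroup.map_top_of_surjective f hf]
      have h2 := ih _ hlt (G ⧸ R) rfl (M.map f) (N.map f) hM' (hN.map hf) (Subgroup.map_mono hNM)
      intro x hx b
      have h3 := h2 ⟨x, hx, rfl⟩ (f b)
      rw [← map_mul, ← map_inv, ← map_mul] at h3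
      exact hcm.le h3
    · have hsup : R ⊔ M = ⊤ := hM.2 _ (lt_of_le_of_ne le_sup_right fun he =>
        hRM (he ▸ le_sup_left))
      intro x hx b
      obtain ⟨m, hm, r, hr, hmr⟩ :=
        Subgroup.mem_sup_of_normal_right.1 (sup_comm R M ▸ hsup ▸ Subgroup.mem_top b : b ∈ M ⊔ R)
      have hrN := LEWielandt.minimal_normal_le_normalizer hRn hRmin hN hr
      have h1 : r * x * r⁻¹ ∈ M := hNM ((Subgroup.mem_normalizer_iff.1 hrN x).1 hx)
      rw [← hmr, show m * r * x * (m * r)⁻¹ = m * (r * x * r⁻¹) * m⁻¹ by group]
      exact mul_mem (mul_mem hm h1) (inv_mem hm)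

/-- Let G be a finite group, M a maximal subgroup of G and N a subnormal subgroup of G contained in M. Then N is contained in every conjugate of M, that is, N lies in the core of M in G. -/
theorem result {G : Type*} [Group G] [Finite G] (M N : Subgroup G) (hM : IsCoatom M) (hN : N.IsSubnormal) (hNM : N ≤ M) :
    N ≤ Subgroup.normalCore M := by
  exact aux _ G rfl M N hM hN hNM

end Cfsg.Agent.S3802
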