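import Cfsg.Statements.S3804
import Mathlib

set_option autoImplicit false
open Cfsg

namespace Cfsg.Agent.S3804

open scoped Pointwise

variable {X : Type*} [Group X] [Finite X]

lemma prod_card (A B : Subgroup X) :
    ((A : Set X) * (B : Set X)).ncard * Nat.card ↥(A ⊓ B) = Nat.card ↥A * Nat.card ↥B := by
  classical
  have h1 : ((A : Set X) * (B : Set X)).ncard * Nat.card ↥(A ⊓ B) =
      Nat.card ↥A * Nat.card ↥B := by
    rw [← Nat.card_coe_set_eq, ← Nat.card_prod, ← Nat.card_prod]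
    refine Nat.card_congr (Equiv.ofBijective (fun q : ↥((A : Set X) * (B : Set X)) × ↥(A ⊓ B) =>
      ((⟨(Set.mem_mul.1 q.1.2).choose * (q.2 : X),
          mul_mem (Set.mem_mul.1 q.1.2).choose_spec.1 q.2.2.1⟩,
        ⟨(q.2 : X)⁻¹ * (Set.mem_mul.1 q.1.2).choose_spec.2.choose,
          mul_mem (inv_mem q.2.2.2) (Set.mem_mul.1 q.1.2).choose_spec.2.choose_spec.1⟩) : ↥A × ↥B)) ⟨?_, ?_⟩)
    · rintro ⟨⟨x, hx⟩, d⟩ ⟨⟨y, hy⟩, e⟩ h
      simp only [Prod.mk.injEq, Subtype.mk.injEq] at h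
      obtain ⟨ha, hb⟩ := h
      have hxy : x = y := by
        have hx' := (Set.mem_mul.1 hx).choose_spec.2.choose_spec.2
        have hy' := (Set.mem_mul.1 hy).choose_spec.2.choose_spec.2
        have h2 := congrArg₂ (· * ·) ha hb
        simp only [mul_assoc, mul_inv_cancel_left] at h2
        rwa [hx', hy'] at h2
      subst hxy
      exact Prod.ext rfl (Subtype.ext (mul_left_cancel ha))
    · rintro ⟨a, b⟩
      have hmem : (a : X) * b ∈ (A : Set X) * (B : Set X) := Set.mul_mem_mul a.2 b.2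
      set a' := (Set.mem_mul.1 hmem).choose with ha'
      have hspec := (Set.mem_mul.1 hmem).choose_spec
      have hb' := hspec.2.choose_spec
      set b' := hspec.2.choose
      have heq : a'⁻¹ * a = b' * (b : X)⁻¹ := by
        calc a'⁻¹ * (a : X) = a'⁻¹ * ((a : X) * b) * (b : X)⁻¹ := by group
          _ = a'⁻¹ * (a' * b') * (b : X)⁻¹ := by rw [hb'.2]
          _ = _ := by group
      refine ⟨(⟨_, hmem⟩, ⟨a'⁻¹ * a, ⟨(show a'⁻¹ * (a : X) ∈ A from mul_mem (inv_mem (show a' ∈ A from hspec.1)) a.2),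
        (show a'⁻¹ * (a : X) ∈ B from heq.symm ▸ mul_mem (show b' ∈ B from hb'.1) (inv_mem b.2))⟩⟩), ?_⟩
      refine Prod.ext (Subtype.ext ?_) (Subtype.ext ?_)
      · show a' * (a'⁻¹ * (a : X)) = a
        rw [mul_inv_cancel_left]
      · show (a'⁻¹ * (a : X))⁻¹ * b' = b
        rw [heq]; group
  exact h1

/-- Let G and H be subgroups of a finite group with G normalizing H, fix a real number α > 0, and for a subgroup A of G put m(A) = |A|^α · |C_H(A)|. Let A and B be nontrivial subgroups of G at which m attains its maximum over all nontrivial subgroups of G, and assume that A ∩ B ≠ 1 or that this maximum is at least |H|. Then AB = BA is a subgroup at which m is again maximal, C_H(A ∩ B) = C_H(A) C_H(B), and if A ∩ B ≠ 1 then m is maximal at A ∩ B as well. -/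
theorem result {X : Type*} [Group X] [Finite X] (G H : Subgroup X) (hGH : G ≤ Subgroup.normalizer (H : Set X)) (α : ℝ) (hα : 0 < α)
    (A B : Subgroup X) (hA : A ≤ G) (hB : B ≤ G) (hA1 : A ≠ ⊥) (hB1 : B ≠ ⊥)
    (hAmax : ∀ A' : Subgroup X, A' ≤ G → A' ≠ ⊥ → (fun A : Subgroup X => ((Nat.card A : ℝ) ^ α) * (Nat.card ↥(H ⊓ Subgroup.centralizer (A : Set X)) : ℝ)) A' ≤ (fun A : Subgroup X => ((Nat.card A : ℝ) ^ α) * (Nat.card ↥(H ⊓ Subgroup.centralizer (A : Set X)) : ℝ)) A)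
    (hBmax : ∀ A' : Subgroup X, A' ≤ G → A' ≠ ⊥ → (fun A : Subgroup X => ((Nat.card A : ℝ) ^ α) * (Nat.card ↥(H ⊓ Subgroup.centralizer (A : Set X)) : ℝ)) A' ≤ (fun A : Subgroup X => ((Nat.card A : ℝ) ^ α) * (Nat.card ↥(H ⊓ Subgroup.centralizer (A : Set X)) : ℝ)) B)
    (hcase : A ⊓ B ≠ ⊥ ∨ (Nat.card H : ℝ) ≤ (fun A : Subgroup X => ((Nat.card A : ℝ) ^ α) * (Nat.card ↥(H ⊓ Subgroup.centralizer (A : Set X)) : ℝ)) A) :
    (∀ a ∈ A, ∀ b ∈ B, ∃ b' ∈ B, ∃ a' ∈ A, a * b = b' * a') ∧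
    (∀ A' : Subgroup X, A' ≤ G → A' ≠ ⊥ → (fun A : Subgroup X => ((Nat.card A : ℝ) ^ α) * (Nat.card ↥(H ⊓ Subgroup.centralizer (A : Set X)) : ℝ)) A' ≤ (fun A : Subgroup X => ((Nat.card A : ℝ) ^ α) * (Nat.card ↥(H ⊓ Subgroup.centralizer (A : Set X)) : ℝ)) (A ⊔ B)) ∧
    (∀ h ∈ H ⊓ Subgroup.centralizer ((A ⊓ B : Subgroup X) : Set X), ∃ u ∈ H ⊓ Subgroup.centralizer (A : Set X), ∃ v ∈ H ⊓ Subgroup.centralizer (B : Set X), h = u * v) ∧
    (A ⊓ B ≠ ⊥ → ∀ A' : Subgroup X, A' ≤ G → A' ≠ ⊥ → (fun A : Subgroup X => ((Nat.card A : ℝ) ^ α) * (Nat.card ↥(H ⊓ Subgroup.centralizer (A : Set X)) : ℝ)) A' ≤ (fun A : Subgroup X => ((Nat.card A : ℝ) ^ α) * (Nat.card ↥(H ⊓ Subgroup.centralizer (A : Set X)) : ℝ)) (A ⊓ B)) := by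
  set m : Subgroup X → ℝ := fun A : Subgroup X =>
    ((Nat.card A : ℝ) ^ α) * (Nat.card ↥(H ⊓ Subgroup.centralizer (A : Set X)) : ℝ) with hm
  change (∀ A', A' ≤ G → A' ≠ ⊥ → m A' ≤ m A) at hAmax
  change (∀ A', A' ≤ G → A' ≠ ⊥ → m A' ≤ m B) at hBmax
  change (A ⊓ B ≠ ⊥ ∨ (Nat.card H : ℝ) ≤ m A) at hcase
  show _ ∧ (∀ A', A' ≤ G → A' ≠ ⊥ → m A' ≤ m (A ⊔ B)) ∧ _ ∧
    (A ⊓ B ≠ ⊥ → ∀ A', A' ≤ G → A' ≠ ⊥ → m A' ≤ m (A ⊓ B))
  have hAB : m A = m B := le_antisymm (hBmax A hA hA1) (hAmax B hB hB1)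
  set cA := H ⊓ Subgroup.centralizer (A : Set X) with hcA
  set cB := H ⊓ Subgroup.centralizer (B : Set X) with hcB
  set cI := H ⊓ Subgroup.centralizer ((A ⊓ B : Subgroup X) : Set X) with hcI
  have hinf : H ⊓ Subgroup.centralizer ((A ⊔ B : Subgroup X) : Set X) = cA ⊓ cB := by
    refine le_antisymm (le_inf (inf_le_inf_left H (Subgroup.centralizer_le (le_sup_left : A ≤ A ⊔ B)))
      (inf_le_inf_left H (Subgroup.centralizer_le (le_sup_right : B ≤ A ⊔ B)))) fun x hx => ⟨hx.1.1, ?_⟩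
    have : A ⊔ B ≤ Subgroup.centralizer {x} := sup_le
      (fun a ha => Subgroup.mem_centralizer_singleton_iff.2 (Subgroup.mem_centralizer_iff.1 hx.1.2 a ha))
      (fun b hb => Subgroup.mem_centralizer_singleton_iff.2 (Subgroup.mem_centralizer_iff.1 hx.2.2 b hb))
    exact Subgroup.mem_centralizer_iff.2 fun y hy => Subgroup.mem_centralizer_singleton_iff.1 (this hy)
  have hCsub : (cA : Set X) * (cB : Set X) ⊆ (cI : Set X) := by
    rintro _ ⟨u, hu, v, hv, rfl⟩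
    refine ⟨mul_mem hu.1 hv.1, mul_mem ?_ ?_⟩
    · exact Subgroup.centralizer_le (inf_le_left : A ⊓ B ≤ A) hu.2
    · exact Subgroup.centralizer_le (inf_le_right : A ⊓ B ≤ B) hv.2
  have hAsub : (A : Set X) * (B : Set X) ⊆ ((A ⊔ B : Subgroup X) : Set X) := by
    rintro _ ⟨u, hu, v, hv, rfl⟩
    exact mul_mem (Subgroup.mem_sup_left hu) (Subgroup.mem_sup_right hv)
  set P1 : ℝ := (((A : Set X) * (B : Set X)).ncard : ℝ) with hP1
  set C1 : ℝ := (((cA : Set X) * (cB : Set X)).ncard : ℝ) with hC1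
  set S : ℝ := (Nat.card ↥(A ⊔ B : Subgroup X) : ℝ) with hS
  set I : ℝ := (Nat.card ↥(A ⊓ B : Subgroup X) : ℝ) with hI
  set cS : ℝ := (Nat.card ↥(cA ⊓ cB : Subgroup X) : ℝ) with hcS
  set cIr : ℝ := (Nat.card ↥cI : ℝ) with hcIr
  have hIpos : 0 < I := by rw [hI]; exact_mod_cast Nat.card_pos
  have hcSpos : 0 < cS := by rw [hcS]; exact_mod_cast Nat.card_pos
  have hcIpos : 0 < cIr := by rw [hcIr]; exact_mod_cast Nat.card_pos
  have hPS : P1 ≤ S := by
    rw [hP1, hS]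
    exact_mod_cast (Set.ncard_le_ncard hAsub).trans_eq (Nat.card_coe_set_eq _).symm
  have hCI : C1 ≤ cIr := by
    rw [hC1, hcIr]
    exact_mod_cast (Set.ncard_le_ncard hCsub).trans_eq (Nat.card_coe_set_eq _).symm
  have hP1pos : 0 < P1 := by
    rw [hP1]
    exact_mod_cast (Set.ncard_pos).2 ⟨1 * 1, Set.mul_mem_mul A.one_mem B.one_mem⟩
  have hC1pos : 0 < C1 := by
    rw [hC1]
    exact_mod_cast (Set.ncard_pos).2 ⟨1 * 1, Set.mul_mem_mul cA.one_mem cB.one_mem⟩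
  have hSpos : 0 < S := hP1pos.trans_le hPS
  have e1 : P1 * I = (Nat.card ↥A : ℝ) * Nat.card ↥B := by
    rw [hP1, hI]; exact_mod_cast prod_card A B
  have e2 : C1 * cS = (Nat.card ↥cA : ℝ) * Nat.card ↥cB := by
    rw [hC1, hcS]; exact_mod_cast prod_card cA cB
  have hmS : m (A ⊔ B) = S ^ α * cS := by rw [hm]; simp only; rw [hinf]
  have hmI : m (A ⊓ B) = I ^ α * cIr := rfl
  have hprod : m A * m B = P1 ^ α * I ^ α * (C1 * cS) := by
    rw [e2, ← Real.mul_rpow hP1pos.le hIpos.le, e1, Real.mul_rpow (Nat.cast_nonneg _) (Nat.cast_nonneg _)]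
    show (Nat.card ↥A : ℝ) ^ α * (Nat.card ↥cA : ℝ) * ((Nat.card ↥B : ℝ) ^ α * (Nat.card ↥cB : ℝ)) = _
    ring
  have hSle : m (A ⊔ B) ≤ m A := hAmax _ (sup_le hA hB) (fun h => hA1 (le_bot_iff.1 (h ▸ le_sup_left)))
  have hIle : m (A ⊓ B) ≤ m A := by
    by_cases h : A ⊓ B = ⊥
    · refine le_trans (le_of_eq ?_) (hcase.resolve_left (fun hne => hne h))
      rw [hm]
      simp only
      rw [h, Subgroup.card_bot, show Subgroup.centralizer ((⊥ : Subgroup X) : Set X) = ⊤ from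
        (Subgroup.eq_top_iff' _).2 fun g => Subgroup.mem_centralizer_iff.2 fun y hy => by
          rw [Subgroup.mem_bot.1 hy]; simp, inf_top_eq]
      simp
    · exact hAmax _ (inf_le_left.trans hA) h
  have hSp : P1 ^ α ≤ S ^ α := Real.rpow_le_rpow hP1pos.le hPS hα.le
  have hIa : 0 < I ^ α := Real.rpow_pos_of_pos hIpos α
  have hPa : 0 < P1 ^ α := Real.rpow_pos_of_pos hP1pos α
  have hSa : 0 < S ^ α := Real.rpow_pos_of_pos hSpos α
  have hmA : 0 < m A := by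
    show (0:ℝ) < (Nat.card ↥A : ℝ) ^ α * (Nat.card ↥cA : ℝ)
    exact mul_pos (Real.rpow_pos_of_pos (by exact_mod_cast Nat.card_pos) α) (by exact_mod_cast Nat.card_pos)
  have hge : m A * m A ≤ m (A ⊔ B) * m (A ⊓ B) := by
    conv_lhs => arg 2; rw [hAB]
    rw [hprod, hmS, hmI]
    calc P1 ^ α * I ^ α * (C1 * cS) ≤ S ^ α * I ^ α * (cIr * cS) := by
          apply mul_le_mul (mul_le_mul_of_nonneg_right hSp hIa.le) (mul_le_mul_of_nonneg_right hCI hcSpos.le)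
            (mul_pos hC1pos hcSpos).le (mul_pos hSa hIa).le
      _ = _ := by ring
  have hmI0 : 0 < m (A ⊓ B) := by rw [hmI]; exact mul_pos hIa hcIpos
  have hmS0 : 0 < m (A ⊔ B) := by rw [hmS]; exact mul_pos hSa hcSpos
  have hSeq : m (A ⊔ B) = m A := by
    refine le_antisymm hSle ?_
    nlinarith [mul_le_mul_of_nonneg_left hIle hmS0.le]
  have hIeq : m (A ⊓ B) = m A := by
    refine le_antisymm hIle ?_
    nlinarith [mul_le_mul_of_nonneg_right hSle hmI0.le]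
  have htot : P1 ^ α * C1 = S ^ α * cIr := by
    have h0 : m A * m B = m (A ⊔ B) * m (A ⊓ B) := by rw [hSeq, hIeq, ← hAB]
    rw [hprod, hmS, hmI] at h0
    have : (I ^ α * cS) * (P1 ^ α * C1) = (I ^ α * cS) * (S ^ α * cIr) := by linear_combination h0
    exact mul_left_cancel₀ (mul_pos hIa hcSpos).ne' this
  have hPeq : P1 = S := by
    rcases hPS.lt_or_eq with hlt | heq
    · exfalso
      have h1 : P1 ^ α < S ^ α := Real.rpow_lt_rpow hP1pos.le hlt hα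
      nlinarith [mul_lt_mul_of_pos_right h1 hC1pos, mul_le_mul_of_nonneg_left hCI hSa.le]
    · exact heq
  have hCeq : C1 = cIr := by
    rw [hPeq] at htot
    exact mul_left_cancel₀ hSa.ne' htot
  refine ⟨fun a ha b hb => ?_, fun A' h1 h2 => hSeq ▸ hAmax A' h1 h2, fun h hh => ?_, fun _ A' h1 h2 => hIeq ▸ hAmax A' h1 h2⟩
  · have hset : (A : Set X) * (B : Set X) = ((A ⊔ B : Subgroup X) : Set X) := by
      refine Set.eq_of_subset_of_ncard_le hAsub ?_
      rw [← Nat.card_coe_set_eq]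
      rw [hP1, hS] at hPeq
      exact (Nat.cast_inj.1 hPeq).ge
    have hmem : (a * b)⁻¹ ∈ (A : Set X) * (B : Set X) := by
      rw [hset]; exact inv_mem (mul_mem (Subgroup.mem_sup_left ha) (Subgroup.mem_sup_right hb))
    obtain ⟨a', ha', b', hb', he⟩ := hmem
    refine ⟨b'⁻¹, inv_mem hb', a'⁻¹, inv_mem ha', ?_⟩
    rw [← inv_inj, ← he]; group
  · have hset : (cA : Set X) * (cB : Set X) = (cI : Set X) := by
      refine Set.eq_of_subset_of_ncard_le hCsub ?_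
      rw [← Nat.card_coe_set_eq]
      rw [hC1, hcIr] at hCeq
      exact (Nat.cast_inj.1 hCeq).ge
    obtain ⟨u, hu, v, hv, he⟩ := (hset ▸ hh : h ∈ (cA : Set X) * (cB : Set X))
    exact ⟨u, hu, v, hv, he.symm⟩

end Cfsg.Agent.S3804
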