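import Cfsg.Statements.S3866
import Mathlib

set_option autoImplicit false
open Cfsg

namespace Cfsg.Agent.S3866

/-- Let A be a commutative normal subgroup of the finite group G with G generated by A and an element x. Then a ↦ x a x⁻¹ a⁻¹ is a surjective homomorphism from A onto the commutator subgroup of G whose kernel is the centralizer of x in A; in particular the commutator subgroup has order equal to the index in A of that centralizer. -/
theorem result {G : Type*} [Group G] [Finite G] (A : Subgroup G) [A.Normal] (hA : IsMulCommutative A) (x : G) (hgen : A ⊔ Subgroup.zpowers x = ⊤) : (∀ a ∈ A, x * a * x⁻¹ * a⁻¹ ∈ commutator G) ∧ (∀ c ∈ commutator G, ∃ a ∈ A, x * a * x⁻¹ * a⁻¹ = c) ∧ (∀ a ∈ A, ∀ b ∈ A, x * (a * b) * x⁻¹ * (a * b)⁻¹ = (x * a * x⁻¹ * a⁻¹) * (x * b * x⁻¹ * b⁻¹)) ∧ Nat.card (commutator G) * Nat.card ↥(A ⊓ Subgroup.centralizer ({x} : Set G)) = Nat.card A := by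
  have hc : ∀ a ∈ A, ∀ b ∈ A, a * b = b * a := fun a ha b hb =>
    congrArg Subtype.val (hA.is_comm.comm ⟨a, ha⟩ ⟨b, hb⟩)
  have hx : ∀ a ∈ A, x * a * x⁻¹ ∈ A := fun a ha => (inferInstance : A.Normal).conj_mem a ha x
  have hhom : ∀ a ∈ A, ∀ b ∈ A,
      x * (a * b) * x⁻¹ * (a * b)⁻¹ = (x * a * x⁻¹ * a⁻¹) * (x * b * x⁻¹ * b⁻¹) := by
    intro a ha b hb
    calc x * (a * b) * x⁻¹ * (a * b)⁻¹ = (x * a * x⁻¹) * ((x * b * x⁻¹ * b⁻¹) * a⁻¹) := by group
      _ = (x * a * x⁻¹) * (a⁻¹ * (x * b * x⁻¹ * b⁻¹)) := by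
        rw [hc _ (mul_mem (hx b hb) (inv_mem hb)) _ (inv_mem ha)]
      _ = _ := by group
  have hmem : ∀ a : G, x * a * x⁻¹ * a⁻¹ ∈ commutator G := fun a => by
    rw [commutator_def]
    exact Subgroup.commutator_mem_commutator (Subgroup.mem_top x) (Subgroup.mem_top a)
  let φ : A →* G := MonoidHom.mk' (fun a => x * (a : G) * x⁻¹ * (a : G)⁻¹)
    (fun a b => by simpa using hhom a a.2 b b.2)
  have hrA : φ.range ≤ A := by
    rintro _ ⟨a, rfl⟩
    exact mul_mem (hx a a.2) (inv_mem a.2)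
  have hnorm : φ.range.Normal := by
    rw [← Subgroup.normalizer_eq_top_iff, eq_top_iff, ← hgen, sup_le_iff, Subgroup.zpowers_le]
    refine ⟨fun a ha => Subgroup.mem_normalizer_iff.2 fun k => ⟨fun hk => ?_, fun hk => ?_⟩, ?_⟩
    · rw [hc a ha k (hrA hk), mul_inv_cancel_right]; exact hk
    · have hkA : k ∈ A := by
        have := mul_mem (mul_mem (inv_mem ha) (hrA hk)) ha
        simpa [mul_assoc] using this
      rwa [hc a ha k hkA, mul_inv_cancel_right] at hk
    · rw [Subgroup.mem_normalizer_iff_map_conj_eq]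
      apply Subgroup.eq_of_le_of_card_ge
      · rintro _ ⟨_, ⟨a, rfl⟩, rfl⟩
        exact ⟨⟨x * (a : G) * x⁻¹, hx a a.2⟩, by simp [φ, mul_assoc]⟩
      · exact (Subgroup.card_map_of_injective (MulEquiv.injective _)).ge
  have hle : commutator G ≤ φ.range := by
    haveI := hnorm
    let π := QuotientGroup.mk' φ.range
    have hAx : ∀ a ∈ A, π x * π a = π a * π x := by
      intro a ha
      rw [← map_mul, ← map_mul]
      refine ((QuotientGroup.mk'_eq_mk' φ.range).2 ⟨(a * x)⁻¹ * (x * a * x⁻¹ * a⁻¹) * (a * x), ?_, ?_⟩).symm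
      · simpa [φ] using hnorm.conj_mem (φ ⟨a, ha⟩) ⟨_, rfl⟩ (a * x)⁻¹
      · group
    have htop : ∀ g, π g ∈ Subgroup.center (G ⧸ φ.range) := by
      have h1 : ∀ s : Set G, (∀ y ∈ s, ∀ z ∈ (A : Set G) ∪ {x}, π z * π y = π y * π z) →
          ∀ y ∈ s, π y ∈ Subgroup.center (G ⧸ φ.range) := by
        intro s hs y hy
        rw [Subgroup.mem_center_iff]
        intro q
        obtain ⟨z, rfl⟩ := QuotientGroup.mk'_surjective φ.range q
        have hz : z ∈ (Subgroup.centralizer {π y}).comap π := by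
          refine (sup_le (fun a ha => ?_) ?_ : A ⊔ Subgroup.zpowers x ≤ _) (hgen ▸ Subgroup.mem_top z)
          · exact Subgroup.mem_centralizer_singleton_iff.2 (hs y hy a (Or.inl ha))
          · rw [Subgroup.zpowers_le]
            exact Subgroup.mem_centralizer_singleton_iff.2 (hs y hy x (Or.inr rfl))
        exact (Subgroup.mem_centralizer_singleton_iff.1 hz)
      intro g
      refine (sup_le (fun a ha => h1 A ?_ a ha) ?_ : A ⊔ Subgroup.zpowers x ≤
        (Subgroup.center (G ⧸ φ.range)).comap π) (hgen ▸ Subgroup.mem_top g)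
      · rintro y hy z (hz | rfl)
        · rw [← map_mul, ← map_mul, hc z hz y hy]
        · exact hAx y hy
      · rw [Subgroup.zpowers_le]
        refine h1 {x} ?_ x rfl
        rintro y rfl z (hz | rfl)
        · exact (hAx z hz).symm
        · rfl
    rw [commutator_def, Subgroup.commutator_le]
    intro a _ b _
    rw [← QuotientGroup.eq_one_iff, commutatorElement_def]
    show π (a * b * a⁻¹ * b⁻¹) = 1
    rw [map_mul, map_mul, map_mul, map_inv, map_inv, Subgroup.mem_center_iff.1 (htop b) (π a)]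
    group
  have hrange : φ.range = commutator G :=
    le_antisymm (by rintro _ ⟨a, rfl⟩; exact hmem a) hle
  refine ⟨fun a _ => hmem a, fun c hc' => ?_, hhom, ?_⟩
  · obtain ⟨a, rfl⟩ := hle hc'
    exact ⟨a, a.2, rfl⟩
  · have hker : φ.ker = (A ⊓ Subgroup.centralizer ({x} : Set G)).subgroupOf A := by
      ext a
      simp only [MonoidHom.mem_ker, Subgroup.mem_subgroupOf, Subgroup.mem_inf, SetLike.coe_mem,
        true_and, Subgroup.mem_centralizer_singleton_iff]
      show x * (a : G) * x⁻¹ * (a : G)⁻¹ = 1 ↔ _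
      rw [mul_inv_eq_one, mul_inv_eq_iff_eq_mul, eq_comm]
    rw [← Subgroup.card_mul_index φ.ker, Subgroup.index_ker, hrange, hker,
      Nat.card_congr (Subgroup.subgroupOfEquivOfLe inf_le_left).toEquiv, mul_comm]

end Cfsg.Agent.S3866
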