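import Cfsg.Statements.S3807
import Cfsg.Agent.S3866
import Mathlib

set_option autoImplicit false
open Cfsg

namespace Cfsg.Agent.S3807

open Cfsg.Agent

lemma normal_maximal {S : Type*} [Group S] [Finite S] {p : ℕ} [Fact p.Prime] (hS : IsPGroup p S)
    {A : Subgroup S} (hAi : A.index = p) : A.Normal ∧ ∀ K : Subgroup S, A < K → K = ⊤ := by
  have hp : p.Prime := Fact.out
  haveI := hS.isNilpotent
  have hmax : ∀ K : Subgroup S, A < K → K = ⊤ := fun K hK => by
    have h1 := Subgroup.relIndex_mul_index hK.le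
    rw [hAi] at h1
    rcases (Nat.dvd_prime hp).1 (⟨_, by rw [mul_comm] at h1; exact h1.symm⟩ : K.index ∣ p) with h | h
    · exact Subgroup.index_eq_one.1 h
    · rw [h] at h1
      exact absurd (Subgroup.relIndex_eq_one.1 (Nat.eq_of_mul_eq_mul_right hp.pos (h1.trans (one_mul p).symm)))
        hK.not_ge
  exact ⟨Subgroup.NormalizerCondition.normal_of_coatom A Group.normalizerCondition_of_isNilpotent
    ⟨fun h => hp.ne_one (by rw [← hAi, h, Subgroup.index_top]), hmax⟩, hmax⟩

lemma comm_of_gen {S : Type*} [Group S] {A B : Subgroup S} (hA : IsMulCommutative ↥A)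
    (hB : IsMulCommutative ↥B) (hAB : A ⊔ B = ⊤) {z : S} (hz : z ∈ A) (hz' : z ∈ B) :
    z ∈ Subgroup.center S := by
  rw [Subgroup.mem_center_iff]
  intro g
  have hle : A ⊔ B ≤ Subgroup.centralizer {z} := sup_le
    (fun a ha => Subgroup.mem_centralizer_singleton_iff.2
      (congrArg Subtype.val (hA.is_comm.comm (⟨a, ha⟩ : ↥A) ⟨z, hz⟩)))
    (fun b hb => Subgroup.mem_centralizer_singleton_iff.2
      (congrArg Subtype.val (hB.is_comm.comm (⟨b, hb⟩ : ↥B) ⟨z, hz'⟩)))
  exact Subgroup.mem_centralizer_singleton_iff.1 (hle (hAB ▸ Subgroup.mem_top g))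

lemma center_le {S : Type*} [Group S] [Finite S] {p : ℕ} [Fact p.Prime] (hS : IsPGroup p S)
    (hna : ¬ IsMulCommutative S) {B : Subgroup S} (hB : IsMulCommutative ↥B) (hBi : B.index = p) :
    Subgroup.center S ≤ B := by
  by_contra h
  refine hna ?_
  have htop : B ⊔ Subgroup.center S = ⊤ :=
    (normal_maximal hS hBi).2 _ (lt_of_le_of_ne le_sup_left fun he => h (he ▸ le_sup_right))
  refine ⟨⟨fun a b => ?_⟩⟩
  have hle : B ⊔ Subgroup.center S ≤ Subgroup.centralizer (B : Set S) :=
    sup_le (fun x hx => Subgroup.mem_centralizer_iff.2 fun y hy =>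
      congrArg Subtype.val (hB.is_comm.comm (⟨y, hy⟩ : ↥B) ⟨x, hx⟩)) (Subgroup.center_le_centralizer _)
  have hle2 : B ⊔ Subgroup.center S ≤ Subgroup.center S := sup_le (fun x hx => Subgroup.mem_center_iff.2 fun g =>
    ((Subgroup.mem_centralizer_iff.1 (hle (htop ▸ Subgroup.mem_top g)) x hx)).symm) le_rfl
  exact Subgroup.mem_center_iff.1 (hle2 (htop ▸ Subgroup.mem_top b)) a

lemma count_lines {V : Type*} [Group V] [Finite V] {p : ℕ} [Fact p.Prime] (hc : Nat.card V = p ^ 2)
    (he : ∀ v : V, v ^ p = 1) : Nat.card {L : Subgroup V // Nat.card ↥L = p} = p + 1 := by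
  classical
  haveI := Fintype.ofFinite V
  haveI := Fintype.ofFinite (Subgroup V)
  have hp : p.Prime := Fact.out
  set T := (Finset.univ : Finset (Subgroup V)).filter (fun L : Subgroup V => Nat.card ↥L = p) with hT
  have hzp : ∀ v : V, v ≠ 1 → Nat.card ↥(Subgroup.zpowers v) = p := fun v hv => by
    rw [Nat.card_zpowers, orderOf_eq_prime (he v) hv]
  have hsum : ((Finset.univ : Finset V).erase 1).card = ∑ L ∈ T,
      (((Finset.univ : Finset V).erase 1).filter fun v => Subgroup.zpowers v = L).card :=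
    Finset.card_eq_sum_card_fiberwise fun v hv =>
      Finset.mem_filter.2 ⟨Finset.mem_univ _, hzp v (Finset.ne_of_mem_erase hv)⟩
  have hfib : ∀ L ∈ T, (((Finset.univ : Finset V).erase 1).filter fun v => Subgroup.zpowers v = L).card = p - 1 := by
    intro L hL
    rw [hT, Finset.mem_filter] at hL
    have hset : (((Finset.univ : Finset V).erase 1).filter fun v => Subgroup.zpowers v = L) =
        ((Finset.univ.filter fun v => v ∈ L).erase 1) := by
      ext v
      simp only [Finset.mem_filter, Finset.mem_erase, Finset.mem_univ, and_true, true_and]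
      refine ⟨fun ⟨h1, h2⟩ => ⟨h1, h2 ▸ Subgroup.mem_zpowers v⟩, fun ⟨h1, h2⟩ => ⟨h1, ?_⟩⟩
      exact Subgroup.eq_of_le_of_card_ge (Subgroup.zpowers_le.2 h2) (by rw [hzp v h1, hL.2])
    rw [hset, Finset.card_erase_of_mem (by simp [one_mem]), ← Fintype.card_subtype, ← Nat.card_eq_fintype_card]
    exact congrArg (· - 1) hL.2
  rw [Finset.sum_congr rfl hfib, Finset.sum_const, smul_eq_mul, Finset.card_erase_of_mem (Finset.mem_univ 1),
    Finset.card_univ, ← Nat.card_eq_fintype_card, hc] at hsum
  rw [Nat.card_eq_fintype_card, Fintype.card_subtype]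
  obtain ⟨q, hq⟩ : ∃ q, p = q + 1 := ⟨p - 1, by have := hp.pos; omega⟩
  have hq0 : 0 < q := by have := hp.two_le; omega
  apply Nat.eq_of_mul_eq_mul_right hq0
  show T.card * q = (p + 1) * q
  subst hq
  simp only [Nat.add_sub_cancel] at hsum
  rw [← hsum, show (q + 1) ^ 2 = (q + 1 + 1) * q + 1 by ring, Nat.add_sub_cancel]

/-- Let S be a non-abelian finite p-group with an abelian subgroup A of index p. Then [S : Z(S)] = p·#[S,S], and either [S,S] has order p, S/Z(S) is elementary abelian of order p², and S has exactly p + 1 abelian subgroups of index p; or [S,S] has order at least p² and A is the only abelian subgroup of index p in S. -/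
theorem result {S : Type*} [Group S] [Finite S] (p : ℕ) [Fact p.Prime] (hS : IsPGroup p S) (hna : ¬ IsMulCommutative S)
    (A : Subgroup S) (hA : IsMulCommutative ↥A) (hAi : A.index = p) :
    (Subgroup.center S).index = p * Nat.card (commutator S) ∧
      ((Nat.card (commutator S) = p ∧ Cfsg.IsElementaryAbelian p (⊤ : Subgroup (S ⧸ Subgroup.center S)) ∧
          Nat.card (S ⧸ Subgroup.center S) = p ^ 2 ∧
          Nat.card {B : Subgroup S // IsMulCommutative ↥B ∧ B.index = p} = p + 1) ∨
        (p ^ 2 ≤ Nat.card (commutator S) ∧ ∀ B : Subgroup S, IsMulCommutative ↥B → B.index = p → B = A)) := by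
  have hp : p.Prime := Fact.out
  obtain ⟨hAn, hAmax⟩ := normal_maximal hS hAi
  haveI := hAn
  obtain ⟨x, hx⟩ : ∃ x, x ∉ A := by
    by_contra hc
    push Not at hc
    exact hp.ne_one (by rw [← hAi, (Subgroup.eq_top_iff' _).2 hc, Subgroup.index_top])
  have hgen : A ⊔ Subgroup.zpowers x = ⊤ := hAmax _ (lt_of_le_of_ne le_sup_left fun he =>
    hx (he ▸ Subgroup.mem_sup_right (Subgroup.mem_zpowers x)))
  obtain ⟨-, -, -, hcard⟩ := S3866.result A hA x hgen
  set Z := Subgroup.center S with hZdef
  have hZ : Z = A ⊓ Subgroup.centralizer ({x} : Set S) := by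
    refine le_antisymm (le_inf (center_le hS hna hA hAi) (Subgroup.center_le_centralizer _)) ?_
    rintro z ⟨hzA, hzx⟩
    rw [hZdef, Subgroup.mem_center_iff]
    intro g
    have hle : A ⊔ Subgroup.zpowers x ≤ Subgroup.centralizer {z} := sup_le
      (fun a ha => Subgroup.mem_centralizer_singleton_iff.2
        (congrArg Subtype.val (hA.is_comm.comm (⟨a, ha⟩ : ↥A) ⟨z, hzA⟩)))
      (Subgroup.zpowers_le.2 (Subgroup.mem_centralizer_singleton_iff.2
        (Subgroup.mem_centralizer_singleton_iff.1 hzx).symm))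
    exact Subgroup.mem_centralizer_singleton_iff.1 (hle (hgen ▸ Subgroup.mem_top g))
  rw [← hZ] at hcard
  have hindex : Z.index = p * Nat.card (commutator S) := by
    have h1 := Z.card_mul_index
    rw [← A.card_mul_index, hAi, ← hcard] at h1
    exact Nat.eq_of_mul_eq_mul_left Nat.card_pos (h1.trans (by ring))
  refine ⟨hindex, ?_⟩
  obtain ⟨k, hk⟩ := (hS.to_subgroup (commutator S)).exists_card_eq
  have hk0 : k ≠ 0 := by
    rintro rfl
    refine hna ⟨⟨fun a b => ?_⟩⟩
    have hbot : commutator S = ⊥ := Subgroup.eq_bot_of_card_eq _ (hk.trans (pow_zero p))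
    rw [_root_.commutator_eq_bot_iff_center_eq_top] at hbot
    exact Subgroup.mem_center_iff.1 (hbot ▸ Subgroup.mem_top b) a
  by_cases hk1 : k = 1
  · subst hk1
    rw [pow_one] at hk
    have hq : Nat.card (S ⧸ Z) = p ^ 2 := by
      rw [← Subgroup.index_eq_card, hindex, hk, pow_two]
    have hcom : ∀ a b : S ⧸ Z, a * b = b * a :=
      fun a b => (IsPGroup.commGroupOfCardEqPrimeSq (G := S ⧸ Z) (p := p) hq).mul_comm a b
    have hexp : ∀ a : S ⧸ Z, a ^ p = 1 := by
      intro a
      by_contra ha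
      obtain ⟨j, hj⟩ := IsPGroup.iff_orderOf.1 (hS.to_quotient Z) a
      have hd : orderOf a ∣ p ^ 2 := hq ▸ orderOf_dvd_natCard a
      rw [hj] at hd
      have hj2 := (Nat.pow_dvd_pow_iff_le_right hp.one_lt).1 hd
      rcases eq_or_ne j 2 with rfl | hne
      · haveI : IsCyclic (S ⧸ Z) := isCyclic_of_orderOf_eq_card a (hj.trans hq.symm)
        exact hna ⟨⟨fun u v => commutative_of_cyclic_center_quotient (QuotientGroup.mk' Z)
          (by rw [QuotientGroup.ker_mk']) u v⟩⟩
      · apply ha
        rw [← orderOf_dvd_iff_pow_eq_one, hj]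
        exact (pow_dvd_pow p (by omega : j ≤ 1)).trans (pow_one p).dvd
    refine Or.inl ⟨hk, ⟨⟨⟨fun a b => Subtype.ext (hcom _ _)⟩⟩, fun a _ => hexp a⟩, hq, ?_⟩
    rw [← count_lines hq hexp]
    have hf := QuotientGroup.mk'_surjective Z
    refine Nat.card_congr
      { toFun := fun B => ⟨B.1.map (QuotientGroup.mk' Z), ?_⟩
        invFun := fun L => ⟨L.1.comap (QuotientGroup.mk' Z), ?_, ?_⟩
        left_inv := fun B => Subtype.ext (by
          simp only [Subgroup.comap_map_eq, QuotientGroup.ker_mk']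
          exact sup_eq_left.2 (center_le hS hna B.2.1 B.2.2))
        right_inv := fun L => Subtype.ext (Subgroup.map_comap_eq_self_of_surjective hf _) }
    · have h1 : (B.1.map (QuotientGroup.mk' Z)).index = p := by
        rw [← Subgroup.index_comap_of_surjective _ hf, Subgroup.comap_map_eq, QuotientGroup.ker_mk',
          sup_eq_left.2 (center_le hS hna B.2.1 B.2.2)]
        exact B.2.2
      have h2 := (B.1.map (QuotientGroup.mk' Z)).card_mul_index
      rw [h1, hq, pow_two] at h2
      exact Nat.eq_of_mul_eq_mul_right hp.pos h2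
    · -- preimages of lines are abelian
      haveI : IsCyclic ↥L.1 := isCyclic_of_prime_card L.2
      refine ⟨⟨fun a b => ?_⟩⟩
      refine commutative_of_cyclic_center_quotient
        (((QuotientGroup.mk' Z).comp (L.1.comap (QuotientGroup.mk' Z)).subtype).codRestrict L.1 fun y => y.2) ?_ a b
      intro y hy
      rw [Subgroup.mem_center_iff]
      intro w
      have hyZ : (y : S) ∈ Z := (QuotientGroup.eq_one_iff (y : S)).1 (congrArg Subtype.val (MonoidHom.mem_ker.1 hy))
      exact Subtype.ext (Subgroup.mem_center_iff.1 hyZ w)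
    · rw [Subgroup.index_comap_of_surjective _ hf]
      have h2 := L.1.card_mul_index
      rw [L.2, hq, pow_two] at h2
      exact Nat.eq_of_mul_eq_mul_left hp.pos h2
  · refine Or.inr ⟨hk ▸ Nat.pow_le_pow_right hp.pos (by omega), fun B hB hBi => ?_⟩
    by_contra hne
    have hAB : A ⊔ B = ⊤ := hAmax _ (lt_of_le_of_ne le_sup_left fun he => hne (by
      have hBA : B ≤ A := he ▸ le_sup_right
      rcases hBA.lt_or_eq with hlt | heq
      · exact absurd ((normal_maximal hS hBi).2 _ hlt) (fun h => hp.ne_one (by rw [← hAi, h, Subgroup.index_top]))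
      · exact heq))
    have hle : A ⊓ B ≤ Z := fun z hz => comm_of_gen hA hB hAB hz.1 hz.2
    have h1 : Z.index ≤ p * p := by
      refine le_trans (Nat.le_of_dvd (Nat.pos_of_ne_zero (Subgroup.index_ne_zero_of_finite))
        (Subgroup.index_dvd_of_le hle)) (le_trans Subgroup.index_inf_le ?_)
      rw [hAi, hBi]
    rw [hindex, hk] at h1
    have h2 := Nat.le_of_mul_le_mul_left h1 hp.pos
    have h3 := (Nat.pow_le_pow_iff_right hp.two_le).1 (h2.trans_eq (pow_one p).symm)
    omega

end Cfsg.Agent.S3807
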