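import Cfsg.Statements.S3808
import Cfsg.Agent.Lib.FGBasics.Extraspecial
import Mathlib

set_option autoImplicit false
open Cfsg

namespace Cfsg.Agent.S3808

open Cfsg.Agent
open scoped commutatorElement

lemma normal_of_index {S : Type*} [Group S] [Finite S] {p : ℕ} [Fact p.Prime] (hS : IsPGroup p S)
    {Q : Subgroup S} (hQi : Q.index = p) : Q.Normal := by
  haveI := hS.isNilpotent
  refine Subgroup.NormalizerCondition.normal_of_coatom Q Group.normalizerCondition_of_isNilpotent
    ⟨fun h => (Fact.out : p.Prime).ne_one (by rw [← hQi, h, Subgroup.index_top]), fun K hK => ?_⟩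
  have h1 := Subgroup.relIndex_mul_index hK.le
  rw [hQi] at h1
  rcases (Nat.dvd_prime Fact.out).1 (⟨_, by rw [mul_comm] at h1; exact h1.symm⟩ : K.index ∣ p) with h | h
  · exact Subgroup.index_eq_one.1 h
  · rw [h] at h1
    have : Q.relIndex K = 1 := by
      have hp := (Fact.out : p.Prime).pos
      exact Nat.eq_of_mul_eq_mul_right hp (by rw [h1, one_mul])
    exact absurd (Subgroup.relIndex_eq_one.1 this) hK.not_ge

lemma card_zq {S : Type*} [Group S] {p : ℕ} {Q : Subgroup S} (hQ : Cfsg.IsExtraspecial p ↥Q) :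
    Nat.card ↥((Subgroup.center ↥Q).map Q.subtype) = p := by
  rw [Subgroup.card_map_of_injective Q.subtype_injective]; exact hQ.2

/-- Let S be a finite p-group with an extraspecial subgroup Q of index p. Then either Z(S) = Z(Q), or S = Q·Z(S) and Z(S) has order p². -/
theorem result {S : Type*} [Group S] [Finite S] (p : ℕ) [Fact p.Prime] (hS : IsPGroup p S) (Q : Subgroup S) (hQ : Cfsg.IsExtraspecial p ↥Q) (hQi : Q.index = p) :
    Subgroup.center S = (Subgroup.center ↥Q).map Q.subtype ∨
      (Q ⊔ Subgroup.center S = ⊤ ∧ Nat.card (Subgroup.center S) = p ^ 2) := by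
  have hp : p.Prime := Fact.out
  haveI := normal_of_index hS hQi
  set Zq := (Subgroup.center ↥Q).map Q.subtype with hZq
  have hle : ∀ z ∈ Subgroup.center S, z ∈ Q → z ∈ Zq := fun z hz hzQ =>
    ⟨⟨z, hzQ⟩, Subgroup.mem_center_iff.2 fun g => Subtype.ext (Subgroup.mem_center_iff.1 hz g), rfl⟩
  by_cases hZQ : Subgroup.center S ≤ Q
  · left
    refine Subgroup.eq_of_le_of_card_ge (fun z hz => hle z hz (hZQ hz)) ?_
    rw [card_zq hQ]
    obtain ⟨k, hk⟩ := (hS.to_subgroup (Subgroup.center S)).exists_card_eq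
    haveI : Nontrivial S := Finite.one_lt_card_iff_nontrivial.1
      (lt_of_lt_of_le (hp.one_lt.trans_eq hQi.symm) (Nat.le_of_dvd Nat.card_pos Q.index_dvd_card))
    have hnt : Nontrivial ↥(Subgroup.center S) := hS.center_nontrivial
    have h1 := Finite.one_lt_card_iff_nontrivial.2 hnt
    rw [hk] at h1 ⊢
    rcases k with _ | k
    · simp at h1
    · exact Nat.le_self_pow (Nat.succ_ne_zero k) p
  · right
    have hQmax : ∀ K : Subgroup S, Q < K → K = ⊤ := fun K hK => by
      have h1 := Subgroup.relIndex_mul_index hK.le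
      rw [hQi] at h1
      rcases (Nat.dvd_prime hp).1 (⟨_, by rw [mul_comm] at h1; exact h1.symm⟩ : K.index ∣ p) with h | h
      · exact Subgroup.index_eq_one.1 h
      · rw [h] at h1
        exact absurd (Subgroup.relIndex_eq_one.1 (Nat.eq_of_mul_eq_mul_right hp.pos (h1.trans (one_mul p).symm))) hK.not_ge
    have hsup : Q ⊔ Subgroup.center S = ⊤ :=
      hQmax _ (lt_of_le_of_ne le_sup_left fun he => hZQ (he ▸ le_sup_right))
    refine ⟨hsup, ?_⟩
    have hinf : (Q ⊓ Subgroup.center S : Subgroup S) = Zq := by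
      refine le_antisymm (fun z hz => hle z hz.2 hz.1) ?_
      rintro _ ⟨z, hz, rfl⟩
      refine ⟨z.2, Subgroup.mem_center_iff.2 fun g => ?_⟩
      have hg : g ∈ Subgroup.centralizer {(z : S)} := by
        have htop : Q ⊔ Subgroup.center S ≤ Subgroup.centralizer {(z : S)} :=
          sup_le (fun q hq => Subgroup.mem_centralizer_singleton_iff.2
            (congrArg Subtype.val (Subgroup.mem_center_iff.1 hz ⟨q, hq⟩))) (Subgroup.center_le_centralizer _)
        exact htop (hsup ▸ Subgroup.mem_top g)
      exact Subgroup.mem_centralizer_singleton_iff.1 hg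
    have h2 : Q.relIndex (Subgroup.center S) = p := by
      rw [← Subgroup.relIndex_sup_right, sup_comm, hsup, Subgroup.relIndex_top_right, hQi]
    have h3 : Nat.card ↥(Subgroup.center S) = Nat.card ↥Zq * p := by
      rw [← hinf, ← h2, ← Subgroup.inf_relIndex_right, ← Subgroup.relIndex_bot_left, ← Subgroup.relIndex_bot_left,
        Subgroup.relIndex_mul_relIndex _ _ _ bot_le inf_le_right]
    rw [h3, card_zq hQ, pow_two]

end Cfsg.Agent.S3808
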