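import Cfsg.Statements.S3809
import Cfsg.Agent.Lib.FGBasics.Extraspecial
import Mathlib

set_option autoImplicit false
open Cfsg

namespace Cfsg.Agent.S3809

open Cfsg.Agent
open scoped commutatorElement

lemma normal_of_index {S : Type*} [Group S] [Finite S] {p : ℕ} [Fact p.Prime] (hS : IsPGroup p S)
    {Q : Subgroup S} (hQi : Q.index = p) : Q.Normal := by
  haveI := hS.isNilpotent
  refine Subgroup.NormalizerCondition.normal_of_coatom Q Group.normalizerCondition_of_isNilpotent
    ⟨fun h => (Fact.out : p.Prime).ne_one (by rw [← hQi, h, Subgroup.index_top]), fun K hK => ?_⟩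
  have h1 := Subgroup.relIndex_mul_index hK.le
  rw [hQi] at h1
  rcases (Nat.dvd_prime Fact.out).1 (⟨_, by rw [mul_comm] at h1; exact h1.symm⟩ : K.index ∣ p) with h | h
  · exact Subgroup.index_eq_one.1 h
  · rw [h] at h1
    have : Q.relIndex K = 1 := by
      have hp := (Fact.out : p.Prime).pos
      exact Nat.eq_of_mul_eq_mul_right hp (by rw [h1, one_mul])
    exact absurd (Subgroup.relIndex_eq_one.1 this) hK.not_ge

lemma card_zq {S : Type*} [Group S] {p : ℕ} {Q : Subgroup S} (hQ : Cfsg.IsExtraspecial p ↥Q) :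
    Nat.card ↥((Subgroup.center ↥Q).map Q.subtype) = p := by
  rw [Subgroup.card_map_of_injective Q.subtype_injective]; exact hQ.2

/-- Let S be a finite p-group with an extraspecial subgroup of index p. Then S has order p^(2+2n) for some n ≥ 1, derived length at most 3, and exponent dividing p³. -/
theorem result {S : Type*} [Group S] [Finite S] (p : ℕ) [Fact p.Prime] (hS : IsPGroup p S) (Q : Subgroup S) (hQ : Cfsg.IsExtraspecial p ↥Q) (hQi : Q.index = p) :
    (∃ n : ℕ, 1 ≤ n ∧ Nat.card S = p ^ (2 + 2 * n)) ∧ derivedSeries S 3 = ⊥ ∧ ∀ x : S, x ^ (p ^ 3) = 1 := by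
  have hp : p.Prime := Fact.out
  haveI := normal_of_index hS hQi
  haveI : Fact p.Prime := ⟨hp⟩
  obtain ⟨n, hn, hcard⟩ := FGBasics.XS.exists_card_eq hQ
  obtain ⟨hcomm, hpow, hexp⟩ := PGroupBasics.special_center hQ.1
  have hquot : Nat.card (S ⧸ Q) = p := hQi
  haveI : IsCyclic (S ⧸ Q) := isCyclic_of_prime_card hquot
  refine ⟨⟨n, hn, ?_⟩, ?_, fun x => ?_⟩
  · rw [← Q.card_mul_index, hcard, hQi, ← pow_succ]; congr 1; omega
  · have h1 : derivedSeries S 1 ≤ Q := by
      rw [derivedSeries_one, commutator_def, Subgroup.commutator_le]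
      intro a _ b _
      rw [← QuotientGroup.eq_one_iff]
      show QuotientGroup.mk' Q ⁅a, b⁆ = 1
      rw [map_commutatorElement, commutatorElement_eq_one_iff_mul_comm]
      exact IsCyclic.commGroup.mul_comm _ _
    have h2 : derivedSeries S 2 ≤ (Subgroup.center ↥Q).map Q.subtype := by
      rw [derivedSeries_succ]
      refine (Subgroup.commutator_mono h1 h1).trans ?_
      rw [Subgroup.commutator_le]
      intro a ha b hb
      exact ⟨⁅⟨a, ha⟩, ⟨b, hb⟩⁆, hcomm _ _, map_commutatorElement Q.subtype _ _⟩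
    rw [derivedSeries_succ]
    refine eq_bot_iff.2 ((Subgroup.commutator_mono h2 h2).trans ?_)
    rw [Subgroup.commutator_le]
    rintro _ ⟨a, ha, rfl⟩ _ ⟨b, -, rfl⟩
    rw [Subgroup.mem_bot, commutatorElement_eq_one_iff_mul_comm]
    exact congrArg Subtype.val (Subgroup.mem_center_iff.1 ha b).symm
  · have hxQ : x ^ p ∈ Q := by
      have := pow_card_eq_one' (x := (x : S ⧸ Q))
      rw [hquot] at this
      exact (QuotientGroup.eq_one_iff _).1 this
    have h1 : ((⟨_, hxQ⟩ : ↥Q) ^ p) ^ p = 1 := hexp _ (hpow _)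
    have h2 := congrArg Subtype.val h1
    rw [Subgroup.coe_pow, Subgroup.coe_pow, Subgroup.coe_one, ← pow_mul, ← pow_mul] at h2
    rw [show p ^ 3 = p * p * p by ring]
    rw [← mul_assoc] at h2
    exact h2

end Cfsg.Agent.S3809
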