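import Cfsg.Statements.S3810
import Cfsg.Agent.Lib.FGBasics.Extraspecial
import Mathlib

set_option autoImplicit false
open Cfsg

namespace Cfsg.Agent.S3810

open Cfsg.Agent
open scoped commutatorElement

lemma normal_of_index {S : Type*} [Group S] [Finite S] {p : ℕ} [Fact p.Prime] (hS : IsPGroup p S)
    {Q : Subgroup S} (hQi : Q.index = p) : Q.Normal := by
  haveI := hS.isNilpotent
  refine Subgroup.NormalizerCondition.normal_of_coatom Q Group.normalizerCondition_of_isNilpotent
    ⟨fun h => (Fact.out : p.Prime).ne_one (by rw [← hQi, h, Subgroup.index_top]), fun K hK => ?_⟩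
  have h1 := Subgroup.relIndex_mul_index hK.le
  rw [hQi] at h1
  rcases (Nat.dvd_prime Fact.out).1 (⟨_, by rw [mul_comm] at h1; exact h1.symm⟩ : K.index ∣ p) with h | h
  · exact Subgroup.index_eq_one.1 h
  · rw [h] at h1
    have : Q.relIndex K = 1 := by
      have hp := (Fact.out : p.Prime).pos
      exact Nat.eq_of_mul_eq_mul_right hp (by rw [h1, one_mul])
    exact absurd (Subgroup.relIndex_eq_one.1 this) hK.not_ge

lemma card_zq {S : Type*} [Group S] {p : ℕ} {Q : Subgroup S} (hQ : Cfsg.IsExtraspecial p ↥Q) :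
    Nat.card ↥((Subgroup.center ↥Q).map Q.subtype) = p := by
  rw [Subgroup.card_map_of_injective Q.subtype_injective]; exact hQ.2

/-- Let S be a finite p-group with an extraspecial subgroup of index p. Then S has an abelian subgroup of index p if and only if S has order p⁴. -/
theorem result {S : Type*} [Group S] [Finite S] (p : ℕ) [Fact p.Prime] (hS : IsPGroup p S) (Q : Subgroup S) (hQ : Cfsg.IsExtraspecial p ↥Q) (hQi : Q.index = p) :
    (∃ A : Subgroup S, IsMulCommutative ↥A ∧ A.index = p) ↔ Nat.card S = p ^ 4 := by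
  have hp : p.Prime := Fact.out
  haveI hQn := normal_of_index hS hQi
  obtain ⟨n, hn, hcard⟩ := FGBasics.XS.exists_card_eq hQ
  have hScard : Nat.card S = p ^ (2 + 2 * n) := by
    rw [← Q.card_mul_index, hcard, hQi, ← pow_succ]; congr 1; omega
  constructor
  · rintro ⟨A, hA, hAi⟩
    haveI hA' : IsMulCommutative ↥(A.subgroupOf Q) :=
      ⟨⟨fun a b => by
        apply Subtype.ext
        apply Subtype.ext
        have h := congrArg Subtype.val (hA.is_comm.comm (⟨_, a.2⟩ : ↥A) ⟨_, b.2⟩)
        simpa using h⟩⟩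
    have h1 := FGBasics.XS.card_abelian_sq_le hQ (A.subgroupOf Q) hA'
    have h2 : (A.subgroupOf Q).index ≤ p := by
      rw [← hAi, ← Subgroup.relIndex_top_right (H := A)]
      exact Subgroup.relIndex_le_of_le_right le_top Subgroup.index_ne_zero_of_finite
    have h3 : Nat.card ↥Q ≤ Nat.card ↥(A.subgroupOf Q) * p := by
      rw [← (A.subgroupOf Q).card_mul_index]; exact Nat.mul_le_mul_left _ h2
    have h4 : Nat.card ↥Q * Nat.card ↥Q ≤ (Nat.card ↥Q * p) * (p * p) := by
      calc Nat.card ↥Q * Nat.card ↥Q ≤ (Nat.card ↥(A.subgroupOf Q) * p) * (Nat.card ↥(A.subgroupOf Q) * p) :=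
            Nat.mul_le_mul h3 h3
        _ = (Nat.card ↥(A.subgroupOf Q) * Nat.card ↥(A.subgroupOf Q)) * (p * p) := by ring
        _ ≤ _ := Nat.mul_le_mul_right _ h1
    have h5 : Nat.card ↥Q ≤ p ^ 3 :=
      Nat.le_of_mul_le_mul_left (h4.trans (le_of_eq (by ring))) Nat.card_pos
    rw [hcard] at h5
    have := (Nat.pow_le_pow_iff_right hp.two_le).1 h5
    rw [hScard]; congr 1; omega
  · intro h4
    have hn1 : n = 1 := by
      rw [hScard] at h4
      have := Nat.pow_right_injective hp.two_le h4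
      omega
    subst hn1
    haveI := hS.isNilpotent
    set Zq := (Subgroup.center ↥Q).map Q.subtype with hZq
    have hZcard : Nat.card ↥Zq = p := card_zq hQ
    haveI hZn : Zq.Normal := by
      refine ⟨fun z hz g => ?_⟩
      obtain ⟨z, hz, rfl⟩ := hz
      refine ⟨⟨g * (z : S) * g⁻¹, hQn.conj_mem _ z.2 g⟩, Subgroup.mem_center_iff.2 fun q => ?_, rfl⟩
      have hq : g⁻¹ * (q : S) * g ∈ Q := by simpa using hQn.conj_mem _ q.2 g⁻¹
      have h := congrArg Subtype.val (Subgroup.mem_center_iff.1 hz ⟨_, hq⟩)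
      apply Subtype.ext
      show (q : S) * (g * (z : S) * g⁻¹) = g * (z : S) * g⁻¹ * (q : S)
      calc (q : S) * (g * (z : S) * g⁻¹) = g * ((g⁻¹ * (q : S) * g) * (z : S)) * g⁻¹ := by group
        _ = g * ((z : S) * (g⁻¹ * (q : S) * g)) * g⁻¹ := congrArg (fun t => g * t * g⁻¹) h
        _ = _ := by group
    have hZQ : Zq ≤ Q := Subgroup.map_subtype_le _
    obtain ⟨w, hwQ, hwZ, hw⟩ := OddOrder.Nilp.exists_mem_commutator_le (G := S) (A := Zq) (C := Q)
      (fun hle => by
        have := Subgroup.card_le_of_le hle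
        rw [hZcard, hcard] at this
        exact absurd this (not_le.2 (lt_of_eq_of_lt (pow_one p).symm
          (Nat.pow_lt_pow_right hp.one_lt (by norm_num)))))
    have hZc : ∀ z ∈ Zq, ∀ g : S, g * z = z * g := by
      have hle : Zq ≤ Subgroup.center S := by
        by_contra hnot
        obtain ⟨v, hv, hvc, hv'⟩ := OddOrder.Nilp.exists_mem_commutator_le (G := S) (A := (⊥ : Subgroup S)) (C := Zq)
          (fun hle => hnot (hle.trans bot_le))
        have hvS : v ∈ Subgroup.center S := Subgroup.mem_center_iff.2 fun g =>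
          (commutatorElement_eq_one_iff_mul_comm.1 (Subgroup.mem_bot.1 (hv' g))).symm
        have hall : Subgroup.zpowers v = Zq := by
          refine Subgroup.eq_of_le_of_card_ge (Subgroup.zpowers_le.2 hv) ?_
          rw [hZcard, Nat.card_zpowers]
          have h1 : orderOf v ∣ p := hZcard ▸ Subgroup.orderOf_dvd_natCard _ hv
          rcases (Nat.dvd_prime hp).1 h1 with h | h
          · exact absurd (orderOf_eq_one_iff.1 h) (fun h => hvc (h ▸ one_mem _))
          · exact h.ge
        exact hnot (hall ▸ Subgroup.zpowers_le.2 hvS)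
      exact fun z hz g => Subgroup.mem_center_iff.1 (hle hz) g
    let f : S →* ↥Zq :=
    { toFun := fun y => ⟨⁅w, y⁆, hw y⟩
      map_one' := Subtype.ext (by simp)
      map_mul' := fun a b => Subtype.ext (by
        have e : ⁅w, a * b⁆ = ⁅w, a⁆ * (a * ⁅w, b⁆ * a⁻¹) := by
          simp only [commutatorElement_def]; group
        show ⁅w, a * b⁆ = ⁅w, a⁆ * ⁅w, b⁆
        rw [e, hZc _ (hw b) a, mul_inv_cancel_right]) }
    have hwker : w ∈ f.ker := Subtype.ext (show ⁅w, w⁆ = 1 by simp)
    have hne : f.ker.index ≠ 1 := fun h1 => by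
      have htop := Subgroup.index_eq_one.1 h1
      refine hwZ ⟨⟨w, hwQ⟩, Subgroup.mem_center_iff.2 fun q => ?_, rfl⟩
      have : f q = 1 := MonoidHom.mem_ker.1 (htop ▸ Subgroup.mem_top _)
      exact Subtype.ext (commutatorElement_eq_one_iff_mul_comm.1 (congrArg Subtype.val this)).symm
    have hidx : f.ker.index = p := by
      have hd : f.ker.index ∣ p := by
        rw [Subgroup.index_ker, ← hZcard]; exact Subgroup.card_subgroup_dvd_card _
      exact ((Nat.dvd_prime hp).1 hd).resolve_left hne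
    have hNcard : Nat.card ↥f.ker = p ^ 3 := by
      have h1 := f.ker.card_mul_index
      rw [hidx, h4, show p ^ 4 = p ^ 3 * p by ring] at h1
      exact Nat.eq_of_mul_eq_mul_right hp.pos h1
    refine ⟨f.ker, ?_, hidx⟩
    set C := Subgroup.center ↥f.ker with hC
    set V := (Zq ⊔ Subgroup.zpowers w).subgroupOf f.ker with hV
    have hle : Zq ⊔ Subgroup.zpowers w ≤ f.ker := sup_le (fun z hz => Subtype.ext (by
        show ⁅w, z⁆ = 1
        exact commutatorElement_eq_one_iff_mul_comm.2 (hZc z hz w)))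
      (Subgroup.zpowers_le.2 hwker)
    have hVC : V ≤ C := by
      intro v hv
      refine Subgroup.mem_center_iff.2 fun g => Subtype.ext ?_
      have h1 : Zq ⊔ Subgroup.zpowers w ≤ Subgroup.centralizer {(g : S)} := sup_le
        (fun z hz => Subgroup.mem_centralizer_singleton_iff.2 (hZc z hz g).symm)
        (Subgroup.zpowers_le.2 (Subgroup.mem_centralizer_singleton_iff.2
          (commutatorElement_eq_one_iff_mul_comm.1 (congrArg Subtype.val (MonoidHom.mem_ker.1 g.2)))))
      exact (Subgroup.mem_centralizer_singleton_iff.1 (h1 hv)).symm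
    have hC2 : p ^ 2 ∣ Nat.card ↥C := by
      refine dvd_trans ?_ (Subgroup.card_dvd_of_le hVC)
      rw [hV, Nat.card_congr (Subgroup.subgroupOfEquivOfLe hle).toEquiv]
      obtain ⟨k, hk⟩ := (hS.to_subgroup (Zq ⊔ Subgroup.zpowers w)).exists_card_eq
      rw [hk]
      apply pow_dvd_pow
      have hlt : Nat.card ↥Zq < Nat.card ↥(Zq ⊔ Subgroup.zpowers w) := by
        refine lt_of_le_of_ne (Subgroup.card_le_of_le le_sup_left) fun he => hwZ ?_
        rw [Subgroup.eq_of_le_of_card_ge (le_sup_left (a := Zq) (b := Subgroup.zpowers w)) he.ge]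
        exact Subgroup.mem_sup_right (Subgroup.mem_zpowers w)
      rw [hZcard, hk] at hlt
      exact (Nat.pow_lt_pow_iff_right hp.one_lt).1 (lt_of_eq_of_lt (pow_one p) hlt)
    haveI : IsCyclic (↥f.ker ⧸ C) := by
      have h1 := C.card_mul_index
      rw [hNcard] at h1
      obtain ⟨m, hm⟩ := hC2
      rw [hm, mul_assoc, show p ^ 3 = p ^ 2 * p by ring] at h1
      have hd : Nat.card (↥f.ker ⧸ C) ∣ p :=
        ⟨m, by rw [← Nat.eq_of_mul_eq_mul_left (pow_pos hp.pos 2) h1, mul_comm]; rfl⟩
      exact isCyclic_of_card_dvd_prime hd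
    exact ⟨⟨fun a b => commutative_of_cyclic_center_quotient (QuotientGroup.mk' C) (by rw [QuotientGroup.ker_mk']) a b⟩⟩

end Cfsg.Agent.S3810
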