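import Cfsg.Statements.S3811
import Cfsg.Agent.Lib.FGBasics.Soft

set_option autoImplicit false
open Cfsg

namespace Cfsg.Agent.S3811

/-- Let P be a finite p-group and E an abelian subgroup of P that contains its centralizer, has index p in its normalizer, and has index at least p² in P. Then the subgroups of P containing E are totally ordered by inclusion, each proper one has index p in its normalizer (so they form the normalizer tower of E, with all steps of index p), and the i-th member of the tower above E has nilpotency class i + 1 whenever it is a proper subgroup of P. -/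
theorem result {P : Type*} [Group P] [Finite P] (p : ℕ) [Fact p.Prime] (hP : IsPGroup p P)
    (E : Subgroup P) (hEab : IsMulCommutative ↥E) (hC : Subgroup.centralizer (E : Set P) ≤ E)
    (hN : (E.subgroupOf (Subgroup.normalizer (E : Set P))).index = p) (hidx : p ^ 2 ≤ E.index) :
    (∀ K L : Subgroup P, E ≤ K → E ≤ L → K ≤ L ∨ L ≤ K) ∧
      (∀ K : Subgroup P, E ≤ K → K ≠ ⊤ → (K.subgroupOf (Subgroup.normalizer (K : Set P))).index = p) ∧
      ∀ (i : ℕ) (K : Subgroup P) [Group.IsNilpotent ↥K], E ≤ K → K ≠ ⊤ → K.index * p ^ i = E.index →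
        Group.nilpotencyClass ↥K = i + 1 := by
  have hS : Cfsg.Agent.Soft.IsSoft p E := ⟨hEab, hC, hN⟩
  obtain ⟨hch, hidxK, hcl⟩ := Cfsg.Agent.Soft.tower (Nat.card P) P E le_rfl hP hS
  refine ⟨hch, hidxK, fun i K _ hEK hKt hi => ?_⟩
  refine le_antisymm (Subgroup.upperCentralSeries_eq_top_iff_nilpotencyClass_le.1 (hcl i K hEK hKt hi)) ?_
  by_contra hlt
  have htop : Subgroup.upperCentralSeries K i = ⊤ :=
    Subgroup.upperCentralSeries_eq_top_iff_nilpotencyClass_le.2 (by omega)
  have hp2 := (Fact.out : p.Prime).two_le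
  rcases i with _ | j
  · have hKb : K = ⊥ := by
      refine eq_bot_iff.2 fun x hx => ?_
      have hz : (⟨x, hx⟩ : K) ∈ Subgroup.upperCentralSeries K 0 := by rw [htop]; exact Subgroup.mem_top _
      exact Subgroup.mem_bot.2 (congrArg Subtype.val (Subgroup.mem_bot.1 hz))
    have hEb : E = ⊥ := le_bot_iff.1 (hKb ▸ hEK)
    have htp : (⊤ : Subgroup P) ≤ ⊥ := by
      intro x hx
      rw [← hEb]
      refine hC (Subgroup.mem_centralizer_iff.2 fun e he => ?_)
      rw [hEb, SetLike.mem_coe, Subgroup.mem_bot] at he
      rw [he, one_mul, mul_one]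
    have h1 : E.index = 1 := by
      rw [hEb, (top_le_iff.1 htp : (⊥ : Subgroup P) = ⊤), Subgroup.index_top]
    rw [h1] at hidx
    nlinarith
  · have h := Cfsg.Agent.Soft.index_le hP hS hEK hKt j
    rw [htop, ← MonoidHom.range_eq_map, Subgroup.range_subtype, sup_eq_right.2 hEK, ← hi, pow_succ] at h
    have hpos : 0 < K.index * p ^ j :=
      Nat.mul_pos (Nat.pos_of_ne_zero Subgroup.index_ne_zero_of_finite) (pow_pos (by omega) j)
    nlinarith

end Cfsg.Agent.S3811
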