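import Cfsg.Statements.S3815
import Mathlib.Tactic.Group

set_option autoImplicit false
open Cfsg

namespace Cfsg.Agent.S3815

/-- Let G be a finite group, p a prime and d ∈ G an element of order prime to p. If dg has order prime to p for every element g ∈ G of order prime to p, then d ∈ O_{p'}(G). -/
theorem result {G : Type*} [Group G] [Finite G] {p : ℕ} [Fact p.Prime]
    (d : G) (hd : (orderOf d).Coprime p)
    (h : ∀ g : G, (orderOf g).Coprime p → (orderOf (d * g)).Coprime p) :
    d ∈ Cfsg.pPrimeCore p G := by
  let S : Set G := Group.conjugatesOfSet {d}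
  have hgood : ∀ x ∈ S, ∀ g : G, (orderOf g).Coprime p → (orderOf (x * g)).Coprime p := by
    intro x hx g hg
    obtain ⟨e, he, hc⟩ := Group.mem_conjugatesOfSet_iff.1 hx
    rw [Set.mem_singleton_iff] at he
    subst e
    obtain ⟨u, rfl⟩ := isConj_iff.1 hc
    have h1 := h (u⁻¹ * g * u) (by
      rw [show u⁻¹ * g * u = MulAut.conj u⁻¹ g by simp, MulEquiv.orderOf_eq]; exact hg)
    rwa [← MulEquiv.orderOf_eq (MulAut.conj u), show MulAut.conj u (d * (u⁻¹ * g * u)) =
      u * d * u⁻¹ * g by simp [mul_assoc]] at h1
  have hpow : ∀ x ∈ S, ∀ n : ℕ, ∀ g : G, (orderOf g).Coprime p → (orderOf (x ^ n * g)).Coprime p := by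
    intro x hx n
    induction n with
    | zero => intro g hg; simpa using hg
    | succ n ih => intro g hg; rw [pow_succ', mul_assoc]; exact hgood x hx _ (ih g hg)
  have hall : ∀ k ∈ Subgroup.normalClosure ({d} : Set G), (orderOf k).Coprime p := by
    intro k hk
    induction hk using Subgroup.closure_induction_left with
    | one => simp
    | mul_left x hx y _ ih => exact hgood x hx y ih
    | inv_mul_cancel x hx y _ ih =>
      obtain ⟨n, hn⟩ := (mem_powers_iff_mem_zpowers).2 (inv_mem (Subgroup.mem_zpowers x))
      rw [← hn]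
      exact hpow x hx n y ih
  suffices hcop : (Nat.card (Subgroup.normalClosure ({d} : Set G))).Coprime p from
    (le_sSup (a := Subgroup.normalClosure ({d} : Set G))
      (s := {N : Subgroup G | N.Normal ∧ (Nat.card N).Coprime p})
      ⟨Subgroup.normalClosure_normal, hcop⟩) (Subgroup.subset_normalClosure rfl)
  rw [Nat.coprime_comm, (Fact.out : p.Prime).coprime_iff_not_dvd]
  intro hdiv
  obtain ⟨k, hk⟩ := exists_prime_orderOf_dvd_card' (G := Subgroup.normalClosure ({d} : Set G)) p hdiv
  have := hall _ k.2
  rw [Subgroup.orderOf_coe, hk, Nat.coprime_self] at this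
  exact (Fact.out : p.Prime).one_lt.ne' this

end Cfsg.Agent.S3815
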