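import Cfsg.Statements.S3816
import Cfsg.Agent.Lib.CoprimeGen.Main
import Mathlib.GroupTheory.SemidirectProduct

set_option autoImplicit false
open Cfsg
open scoped commutatorElement

namespace Cfsg.Agent.S3816

/-- Let p be an odd prime, H a finite solvable group of order prime to p, and x an automorphism of H of order p (so P = ⟨x⟩ has prime order p > 2 and acts coprimely on H). For h ∈ H let [h, P] be the subgroup generated by the commutators h⁻¹·xⁱ(h), and let [H, P] be the subgroup generated by all of these. Then the fixed points of x in [H, P] are generated by the fixed points of x in the subgroups [h, P], h ∈ H. -/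
theorem result {H : Type*} [Group H] [Finite H]
    [Group.IsSolvable H] {p : ℕ} [Fact p.Prime] (hp : p ≠ 2) (hcop : (Nat.card H).Coprime p)
    (x : MulAut H) (hx : orderOf x = p) :
    Subgroup.closure {c : H | ∃ h : H, ∃ i : ℕ, c = h⁻¹ * (x ^ i) h} ⊓ (x : H →* H).eqLocus (MonoidHom.id H) =
      ⨆ h : H, Subgroup.closure {c : H | ∃ i : ℕ, c = h⁻¹ * (x ^ i) h} ⊓ (x : H →* H).eqLocus (MonoidHom.id H) := by
  refine le_antisymm ?_ ?_
  swap
  · exact iSup_le fun h => inf_le_inf_right _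
      (Subgroup.closure_mono fun c ⟨i, hi⟩ => ⟨h, i, hi⟩)
  let φ : ↥(Subgroup.zpowers x) →* MulAut H := (Subgroup.zpowers x).subtype
  let ι : H →* H ⋊[φ] ↥(Subgroup.zpowers x) := SemidirectProduct.inl
  have hι : Function.Injective ι := SemidirectProduct.inl_injective
  set X : H ⋊[φ] ↥(Subgroup.zpowers x) :=
    SemidirectProduct.inr ⟨x, Subgroup.mem_zpowers x⟩ with hX
  have hconj : ∀ (i : ℕ) (h : H), X ^ i * ι h * (X ^ i)⁻¹ = ι ((x ^ i) h) := by
    intro i h
    rw [hX, ← map_pow, ← map_inv]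
    exact (SemidirectProduct.inl_aut (φ := φ) (⟨x, Subgroup.mem_zpowers x⟩ ^ i) h).symm
  have hcm : ∀ h : H, CoprimeGen.cm X (ι h) =
      (Subgroup.closure {c : H | ∃ i : ℕ, c = h⁻¹ * (x ^ i) h}).map ι := by
    intro h
    rw [CoprimeGen.cm, MonoidHom.map_closure]
    congr 1
    ext c
    constructor
    · rintro ⟨i, rfl⟩
      exact ⟨_, ⟨i, rfl⟩, by rw [map_mul, map_inv, ← hconj]⟩
    · rintro ⟨_, ⟨i, rfl⟩, rfl⟩
      exact ⟨i, by rw [map_mul, map_inv, ← hconj]⟩
  have hfix : ∀ h : H, ι h ∈ Subgroup.centralizer {X} ↔ x h = h := by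
    intro h
    have h1 := hconj 1 h
    rw [pow_one, pow_one] at h1
    rw [Subgroup.mem_centralizer_singleton_iff]
    constructor
    · intro hc
      apply hι
      rw [← h1, ← hc, mul_inv_cancel_right]
    · intro hc
      rw [hc] at h1
      exact (mul_inv_eq_iff_eq_mul.1 h1).symm
  have : Finite ↥(Subgroup.zpowers x) := Nat.finite_of_card_ne_zero (by
    rw [Nat.card_zpowers, hx]; exact (Fact.out : p.Prime).ne_zero)
  have : Finite (H ⋊[φ] ↥(Subgroup.zpowers x)) :=
    Finite.of_equiv _ SemidirectProduct.equivProd.symm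
  set K : Subgroup (H ⋊[φ] ↥(Subgroup.zpowers x)) := ι.range with hK
  have hA : CoprimeGen.Act p X K := by
    refine ⟨?_, ?_, ?_, ?_⟩
    · rw [hX, ← map_pow, ← map_one (SemidirectProduct.inr : _ →* H ⋊[φ] ↥(Subgroup.zpowers x))]
      congr 1
      exact Subtype.ext (show x ^ p = 1 by rw [← hx, pow_orderOf_eq_one])
    · refine CoprimeGen.mem_normalizer_of_map_conj_le ?_
      rintro _ ⟨_, ⟨h, rfl⟩, rfl⟩
      refine ⟨x h, ?_⟩
      have h1 := hconj 1 h
      rw [pow_one, pow_one] at h1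
      exact h1.symm
    · rw [hK, ← Nat.card_congr (MonoidHom.ofInjective hι).toEquiv]
      exact hcop
    · exact Group.isSolvable_of_surjective ι.rangeRestrict_surjective
  have hodd : Odd p := (Fact.out : p.Prime).odd_of_ne_two hp
  have key := CoprimeGen.inf_centralizer_le_C0 hA hodd
  intro c hc
  obtain ⟨hc1, hc2⟩ := Subgroup.mem_inf.1 hc
  have h1 : ι c ∈ ⁅K, Subgroup.zpowers X⁆ := by
    have hle : Subgroup.closure {c : H | ∃ h : H, ∃ i : ℕ, c = h⁻¹ * (x ^ i) h} ≤
        (⁅K, Subgroup.zpowers X⁆).comap ι := by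
      rw [Subgroup.closure_le]
      rintro _ ⟨h, i, rfl⟩
      refine CoprimeGen.cm_le_commutator (k := ι h) (U := K) ⟨h, rfl⟩ ?_
      rw [hcm]
      exact Subgroup.mem_map_of_mem ι (Subgroup.subset_closure ⟨i, rfl⟩)
    exact hle hc1
  have h2 := key (Subgroup.mem_inf.2 ⟨h1, (hfix c).2 hc2⟩)
  have hle : CoprimeGen.C0 X K ≤ (⨆ h : H, Subgroup.closure {c : H | ∃ i : ℕ, c = h⁻¹ * (x ^ i) h}
      ⊓ (x : H →* H).eqLocus (MonoidHom.id H)).map ι := by
    refine iSup_le fun k => ?_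
    obtain ⟨h, hh⟩ := k.2
    rw [← hh, hcm]
    intro d hd
    obtain ⟨⟨e, he, rfl⟩, hd2⟩ := Subgroup.mem_inf.1 hd
    exact Subgroup.mem_map_of_mem ι
      (Subgroup.mem_iSup_of_mem h (Subgroup.mem_inf.2 ⟨he, (hfix e).1 hd2⟩))
  obtain ⟨e, he, hec⟩ := hle h2
  rwa [← hι hec]

end Cfsg.Agent.S3816
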