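import Cfsg.Statements.S3818
import Cfsg.Agent.Lib.FixedHalf.Main

set_option autoImplicit false
open Cfsg

namespace Cfsg.Agent.S3818

/-- Let G be a finite solvable group and P a subgroup of G of prime order p > 3 whose conjugates generate G. Let V be a faithful irreducible representation of G over a field of positive characteristic, finite-dimensional. Then the subspace of V fixed by P has dimension less than half the dimension of V. -/
theorem result {G : Type*} [Group G] [Finite G] [Group.IsSolvable G]
    {p : ℕ} [Fact p.Prime] (hp : 3 < p) (P : Subgroup G) (hP : Nat.card P = p) (hgen : Subgroup.normalClosure (P : Set G) = ⊤)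
    {k : Type*} [Field k] (ℓ : ℕ) [Fact ℓ.Prime] [CharP k ℓ]
    {V : Type*} [AddCommGroup V] [Module k V] [FiniteDimensional k V]
    (ρ : Representation k G V) [ρ.IsIrreducible] (hfaith : Function.Injective ρ) :
    2 * Module.finrank k ↥(⨅ g : ↥P, LinearMap.ker (ρ (g : G) - LinearMap.id)) < Module.finrank k V := by
  classical
  have hpp : p.Prime := Fact.out
  have hp5 : 5 ≤ p := by
    by_contra h
    have : p = 4 := by omega
    subst this
    exact absurd hpp (by decide)
  haveI : IsCyclic ↥P := isCyclic_of_prime_card hP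
  obtain ⟨x, hxgen⟩ := IsCyclic.exists_generator (α := ↥P)
  have hx1 : (x : G) ≠ 1 := by
    intro h
    have hx : x = 1 := Subtype.ext h
    have h1 : ∀ y : ↥P, y = 1 := fun y => by
      obtain ⟨i, hi⟩ := hxgen y
      rw [← hi, hx]; simp
    have : Subsingleton ↥P := ⟨fun a b => (h1 a).trans (h1 b).symm⟩
    rw [Nat.card_of_subsingleton (1 : ↥P)] at hP
    omega
  have hxp : (x : G) ^ p = 1 := by
    rw [← hP, ← Subgroup.coe_pow, pow_card_eq_one', Subgroup.coe_one]
  have hxgen' : Subgroup.normalClosure ({(x : G)} : Set G) = ⊤ := by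
    refine top_le_iff.1 (hgen ▸ Subgroup.normalClosure_le_normal fun g hg => ?_)
    obtain ⟨i, hi⟩ := hxgen ⟨g, hg⟩
    rw [show g = (x : G) ^ i from (congrArg Subtype.val hi).symm.trans (Subgroup.coe_zpow _ _ _)]
    exact Subgroup.zpow_mem _ (Subgroup.subset_normalClosure (Set.mem_singleton _)) i
  have hnt : Nontrivial V := by
    by_contra h
    rw [not_nontrivial_iff_subsingleton] at h
    exact hx1 (hfaith (LinearMap.ext fun v => Subsingleton.elim _ _))
  have hirr : ∀ W : Submodule k V, (∀ g, ∀ v ∈ W, ρ g v ∈ W) → W = ⊥ ∨ W = ⊤ := fun W hW =>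
    (eq_bot_or_eq_top (⟨W, hW⟩ : Subrepresentation ρ)).imp
      (fun h => congrArg Subrepresentation.toSubmodule h)
      (fun h => congrArg Subrepresentation.toSubmodule h)
  have hfix : (⨅ g : ↥P, LinearMap.ker (ρ (g : G) - LinearMap.id)) ≤
      LinearMap.ker (ρ (x : G) - 1) := iInf_le _ x
  have := Cfsg.Agent.FixedHalf.bound ρ hfaith hirr hpp hp5 hxp hx1 hxgen'
  have hle := Submodule.finrank_mono hfix
  omega

end Cfsg.Agent.S3818
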