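import Cfsg.Statements.S3819
import Cfsg.Agent.Lib.Solvable.Coprime
import Cfsg.Agent.Lib.Solvable.Fitting
import Cfsg.Agent.Lib.CharP.AxB
import Cfsg.Agent.Lib.Transfer.Basic
import Cfsg.Agent.Lib.FGStruct.RankTwoOdd.Basic

set_option autoImplicit false
open Cfsg

namespace Cfsg.Agent.S3819

open scoped Pointwise commutatorElement

theorem eq_one_of_mem_of_coprime {G : Type*} [Group G] [Finite G] {q : ℕ} [Fact q.Prime] {A B : Subgroup G}
    (hA : IsPGroup q A) (hB : (Nat.card B).Coprime q) {x : G} (h1 : x ∈ A) (h2 : x ∈ B) : x = 1 :=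
  PBasic.eq_one_of_isPGroup_of_coprime hA h1 (PBasic.coprime_orderOf_of_mem hB h2)

theorem conj_mem {G : Type*} [Group G] {X : Subgroup G} {g x : G}
    (hg : g ∈ Subgroup.normalizer (X : Set G)) (hx : x ∈ X) : g * x * g⁻¹ ∈ X :=
  (Subgroup.mem_normalizer_iff.1 hg x).1 hx

/-- The configuration in which the `q'`-core of `H` is trivial. -/
theorem reduced {G : Type*} [Group G] [Finite G] {q : ℕ} [Fact q.Prime]
    (H P : Subgroup G) [H.Normal] [(⁅H, P⁆ : Subgroup G).Normal] (hPsol : Group.IsSolvable P)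
    (hcop : (Nat.card P).Coprime (Nat.card H)) [Group.IsSolvable ↥(⁅H, P⁆ : Subgroup G)]
    (hN : ∀ N : Subgroup G, N ≤ H → H ≤ Subgroup.normalizer (N : Set G) → (Nat.card N).Coprime q → N = ⊥)
    {z : G} (hz : ∃ k, orderOf z = q ^ k) (W U : Subgroup G) (hWH : W ≤ H) (hWc : (Nat.card W).Coprime q)
    (hWz : ∀ w ∈ W, z * w = w * z) (hPW : P ≤ Subgroup.normalizer (W : Set G))
    (hWn : ∀ y ∈ H, z * y = y * z → y ∈ Subgroup.normalizer (W : Set G))
    (hUC : U ≤ H ⊓ Subgroup.centralizer (P : Set G)) (hUc : (Nat.card U).Coprime q)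
    (hUn : H ⊓ Subgroup.centralizer (P : Set G) ≤ Subgroup.normalizer (U : Set G)) :
    W ⊓ U = ⊥ ∧ ⁅W, P⁆ = ⊥ := by
  have hPH : P ≤ Subgroup.normalizer (H : Set G) := by rw [Subgroup.normalizer_eq_top]; exact le_top
  set K : Subgroup G := ⁅H, P⁆ with hK
  have hKH : K ≤ H := CoprimeAct.commutator_le_left hPH
  set Q : Subgroup G := (Cfsg.pCore q K).map K.subtype with hQdef
  haveI hQn : Q.Normal := by
    haveI := PBasic.pCore_characteristic q K
    rw [hQdef]; infer_instance
  have hQq : IsPGroup q Q := (PBasic.pCore_isPGroup q K).map K.subtype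
  have hQK : Q ≤ K := Subgroup.map_subtype_le _
  have hOK : Cfsg.pPrimeCore q K = ⊥ := by
    haveI := PBasic.pPrimeCore_characteristic q K
    rw [← Subgroup.map_eq_bot_iff_of_injective _ (f := K.subtype) Subtype.coe_injective]
    refine hN _ ((Subgroup.map_subtype_le _).trans hKH) ?_ ?_
    · rw [Subgroup.normalizer_eq_top]; exact le_top
    · rw [Subgroup.card_map_of_injective K.subtype_injective]
      exact PBasic.pPrimeCore_coprime q K
  have hCQ : ∀ k ∈ K, (∀ y ∈ Q, y * k = k * y) → k ∈ Q := by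
    intro k hk hcomm
    refine ⟨⟨k, hk⟩, FittingCores.centralizer_pCore_le Fact.out hOK ?_, rfl⟩
    rw [Subgroup.mem_centralizer_iff]
    exact fun y hy => Subtype.ext (hcomm y ⟨y, hy, rfl⟩)
  -- the `A × B` lemma
  have hWQ : ∀ x ∈ W, ∀ y ∈ Q, x * y = y * x := by
    intro x hx y hy
    obtain ⟨k, hk⟩ := hz
    refine AxB.thompson (n := Nat.card W) (A := Subgroup.zpowers z) hQq
      (IsPGroup.of_card (n := k) (by rw [Nat.card_zpowers, hk]))
      (by rw [Subgroup.normalizer_eq_top]; exact le_top) (fun y hy => hQn.conj_mem y hy x) ?_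
      (orderOf_dvd_iff_pow_eq_one.1 (Subgroup.orderOf_dvd_natCard W hx)) hWc.symm ?_ y hy
    · rintro a ⟨i, rfl⟩
      exact ((show Commute z x from hWz x hx).zpow_left i).eq
    · intro y hyQ hya
      have hzy : z * y = y * z := hya z (Subgroup.mem_zpowers z)
      have h1 : x * y * x⁻¹ * y⁻¹ ∈ Q := mul_mem (hQn.conj_mem y hyQ x) (inv_mem hyQ)
      have h2 : x * y * x⁻¹ * y⁻¹ ∈ W := by
        have := mul_mem hx (conj_mem (hWn y (hKH (hQK hyQ)) hzy) (inv_mem hx))
        simpa [mul_assoc] using this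
      have h3 := eq_one_of_mem_of_coprime hQq hWc h1 h2
      rwa [mul_inv_eq_one, mul_inv_eq_iff_eq_mul] at h3
  have hWP : ⁅W, P⁆ = ⊥ := by
    rw [eq_bot_iff]
    intro g hg
    have hgW : g ∈ W := CoprimeAct.commutator_le_left hPW hg
    have hgK : g ∈ K := Subgroup.commutator_mono hWH le_rfl hg
    rw [Subgroup.mem_bot]
    exact eq_one_of_mem_of_coprime hQq hWc (hCQ g hgK fun y hy => (hWQ g hgW y hy).symm) hgW
  refine ⟨?_, hWP⟩
  -- `W ⊓ U` centralizes `K`
  have hUK : ∀ u ∈ W ⊓ U, ∀ k ∈ K, u * k = k * u := by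
    intro u hu k hk
    obtain ⟨huW, huU⟩ := Subgroup.mem_inf.1 hu
    set c := k * u * k⁻¹ * u⁻¹ with hc
    have hcK : c ∈ K := by
      have := mul_mem hk ((‹(⁅H, P⁆ : Subgroup G).Normal›).conj_mem k⁻¹ (inv_mem hk) u)
      simpa [hc, mul_assoc] using this
    have hcen : ∀ y ∈ Q, y * (k * u * k⁻¹) = k * u * k⁻¹ * y := by
      intro y hy
      have h : u * (k⁻¹ * y * k) = (k⁻¹ * y * k) * u := hWQ u huW _ (by simpa using hQn.conj_mem y hy k⁻¹)
      calc y * (k * u * k⁻¹) = k * ((k⁻¹ * y * k) * u) * k⁻¹ := by group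
        _ = k * (u * (k⁻¹ * y * k)) * k⁻¹ := by rw [h]
        _ = k * u * k⁻¹ * y := by group
    have hcQ : c ∈ Q := hCQ c hcK fun y hy =>
      ((show Commute y (k * u * k⁻¹) from hcen y hy).mul_right
        ((show Commute y u from (hWQ u huW y hy).symm).inv_right)).eq
    have hcu : Commute c u := ((show Commute c u from (hWQ u huW c hcQ).symm))
    have hcn : c ^ orderOf u = 1 := by
      have : (c * u) ^ orderOf u = 1 := by
        rw [hc, inv_mul_cancel_right, conj_pow, pow_orderOf_eq_one, mul_one, mul_inv_cancel]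
      rwa [hcu.mul_pow, pow_orderOf_eq_one, mul_one] at this
    have hc1 : c = 1 := PBasic.eq_one_of_isPGroup_of_coprime hQq hcQ
      ((PBasic.coprime_orderOf_of_mem hWc huW).coprime_dvd_left (orderOf_dvd_of_pow_eq_one hcn))
    rw [hc, mul_inv_eq_one, mul_inv_eq_iff_eq_mul] at hc1
    exact hc1.symm
  set D : Subgroup G := U ⊓ Subgroup.centralizer (K : Set G) with hD
  have hDbot : D = ⊥ := by
    refine hN D (inf_le_left.trans (hUC.trans inf_le_left)) ?_
      (hUc.coprime_dvd_left (Subgroup.card_dvd_of_le inf_le_left))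
    rw [← CoprimeAct.commutator_sup_centralizer hPH hcop (Or.inl hPsol)]
    refine sup_le ?_ ?_
    · refine le_trans ?_ (Subgroup.centralizer_le_normalizer (D : Set G))
      intro k hk
      rw [Subgroup.mem_centralizer_iff]
      exact fun d hd => (Subgroup.mem_centralizer_iff.1 (Subgroup.mem_inf.1 hd).2 k hk).symm
    · refine le_trans (le_inf hUn ?_) Subgroup.inf_normalizer_le_normalizer_inf
      exact Subgroup.le_normalizer_of_normal
  rw [← le_bot_iff, ← hDbot]
  intro u hu
  exact Subgroup.mem_inf.2 ⟨(Subgroup.mem_inf.1 hu).2,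
    Subgroup.mem_centralizer_iff.2 fun k hk => (hUK u hu k hk).symm⟩

/-- A `q'`-core of a subgroup is normalized by what normalizes the subgroup. -/
theorem le_normalizer_core {G : Type*} [Group G] [Finite G] (q : ℕ) {X Y : Subgroup G}
    (h : X ≤ Subgroup.normalizer (Y : Set G)) :
    X ≤ Subgroup.normalizer ((Cfsg.pPrimeCore q Y).map Y.subtype : Set G) := by
  intro x hx
  haveI := FittingCores.pPrimeCore_characteristic (G := Y) q
  have key : ∀ x ∈ X, ∀ z ∈ (Cfsg.pPrimeCore q Y).map Y.subtype,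
      x * z * x⁻¹ ∈ (Cfsg.pPrimeCore q Y).map Y.subtype := by
    rintro x hx _ ⟨z, hz, rfl⟩
    haveI hn : (Y.subgroupOf (Subgroup.normalizer (Y : Set G))).Normal := inferInstance
    let φ : MulAut Y :=
      { toFun := fun y => ⟨x * y * x⁻¹, conj_mem (h hx) y.2⟩
        invFun := fun y => ⟨x⁻¹ * y * x, by simpa using conj_mem (inv_mem (h hx)) y.2⟩
        left_inv := fun y => Subtype.ext (by simp [mul_assoc])
        right_inv := fun y => Subtype.ext (by simp [mul_assoc])
        map_mul' := fun a b => Subtype.ext (by simp [mul_assoc]) }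
    have hfix := Subgroup.characteristic_iff_map_eq.1 (FittingCores.pPrimeCore_characteristic (G := Y) q) φ
    exact ⟨φ z, hfix.le ⟨z, hz, rfl⟩, rfl⟩
  rw [Subgroup.mem_normalizer_iff]
  intro z
  refine ⟨key x hx z, fun hz => ?_⟩
  simpa [mul_assoc] using key x⁻¹ (inv_mem hx) _ hz

/-- Let G be a finite group with Sylow p-subgroup P and H = O_{p'}(G), and suppose G = PH and the commutator subgroup [H, P] is solvable. Let q be a prime and z an element of q-power order of C_H(P). Then (O_{q'}(C_H(z)) ∩ O_{q'}(C_H(P))) · [O_{q'}(C_H(z)), P] ≤ O_{q'}(H). -/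
theorem result {G : Type*} [Group G] [Finite G] {p : ℕ} [Fact p.Prime]
    (P : Sylow p G) (hPH : Cfsg.pPrimeCore p G ⊔ (P : Subgroup G) = ⊤)
    (hsol : Group.IsSolvable ↥⁅Cfsg.pPrimeCore p G, (P : Subgroup G)⁆)
    {q : ℕ} [Fact q.Prime] (z : G) (hzH : z ∈ Cfsg.pPrimeCore p G) (hzP : z ∈ Subgroup.centralizer ((P : Subgroup G) : Set G))
    (hz : ∃ k : ℕ, orderOf z = q ^ k) :
    ((Cfsg.pPrimeCore q ↥(Cfsg.pPrimeCore p G ⊓ Subgroup.centralizer ({z} : Set G))).map
        (Cfsg.pPrimeCore p G ⊓ Subgroup.centralizer ({z} : Set G)).subtype ⊓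
      (Cfsg.pPrimeCore q ↥(Cfsg.pPrimeCore p G ⊓ Subgroup.centralizer ((P : Subgroup G) : Set G))).map
        (Cfsg.pPrimeCore p G ⊓ Subgroup.centralizer ((P : Subgroup G) : Set G)).subtype) ⊔
    ⁅(Cfsg.pPrimeCore q ↥(Cfsg.pPrimeCore p G ⊓ Subgroup.centralizer ({z} : Set G))).map
        (Cfsg.pPrimeCore p G ⊓ Subgroup.centralizer ({z} : Set G)).subtype, (P : Subgroup G)⁆ ≤
    (Cfsg.pPrimeCore q ↥(Cfsg.pPrimeCore p G)).map (Cfsg.pPrimeCore p G).subtype := by
  classical
  have hp : Fact p.Prime := inferInstance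
  set H := Cfsg.pPrimeCore p G with hH
  haveI hHn : H.Normal := FittingCores.pPrimeCore_normal p
  have hHc : (Nat.card H).Coprime p := PBasic.pPrimeCore_coprime p G
  have hPn : (P : Subgroup G) ≤ Subgroup.normalizer (H : Set G) := Subgroup.le_normalizer_of_normal
  obtain ⟨mP, hmP⟩ := IsPGroup.iff_card.1 P.isPGroup'
  have hcop : (Nat.card P).Coprime (Nat.card H) := hmP ▸ Nat.Coprime.pow_left mP hHc.symm
  haveI : Group.IsNilpotent (P : Subgroup G) := P.isPGroup'.isNilpotent
  have hPsol : Group.IsSolvable (P : Subgroup G) := inferInstance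
  set M := (Cfsg.pPrimeCore q H).map H.subtype with hMdef
  haveI hMn : M.Normal := by
    haveI := PBasic.pPrimeCore_characteristic q H
    rw [hMdef]; infer_instance
  have hMc : (Nat.card M).Coprime q := by
    rw [hMdef, Subgroup.card_map_of_injective H.subtype_injective]
    exact PBasic.pPrimeCore_coprime q H
  have hMH : M ≤ H := Subgroup.map_subtype_le _
  set π := QuotientGroup.mk' M with hπ
  have hπs : Function.Surjective π := QuotientGroup.mk'_surjective M
  have hker : ∀ x : G, π x = 1 → x ∈ M := fun x hx => (QuotientGroup.eq_one_iff x).1 hx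
  haveI hHbn : (H.map π).Normal := hHn.map π hπs
  have hcomm : ⁅H.map π, (P : Subgroup G).map π⁆ = (⁅H, (P : Subgroup G)⁆ : Subgroup G).map π :=
    (Subgroup.map_commutator _ _ _).symm
  haveI hKn : (⁅H, (P : Subgroup G)⁆ : Subgroup G).Normal := by
    refine Subgroup.normalizer_eq_top_iff.1 (eq_top_iff.2 ?_)
    have hPtop : H ⊔ (P : Subgroup G) = ⊤ := ‹Cfsg.pPrimeCore p G ⊔ (P : Subgroup G) = ⊤›
    rw [← hPtop]
    exact sup_le (Subgroup.normalizer_commutator_ge_left H (P : Subgroup G))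
      (Subgroup.normalizer_commutator_ge_right H (P : Subgroup G))
  haveI : (⁅H.map π, (P : Subgroup G).map π⁆ : Subgroup (G ⧸ M)).Normal := by
    rw [hcomm]; exact hKn.map π hπs
  haveI : Group.IsSolvable ↥(⁅H.map π, (P : Subgroup G).map π⁆ : Subgroup (G ⧸ M)) := by
    rw [hcomm]
    haveI := hsol
    exact Group.isSolvable_of_surjective
      (f := π.subgroupMap (⁅H, (P : Subgroup G)⁆ : Subgroup G)) (π.subgroupMap_surjective _)
  have hN : ∀ N : Subgroup (G ⧸ M), N ≤ H.map π → H.map π ≤ Subgroup.normalizer (N : Set (G ⧸ M)) →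
      (Nat.card N).Coprime q → N = ⊥ := by
    intro N hNH hNn hNc
    set N' := N.comap π with hN'
    have hN'H : N' ≤ H := by
      intro x hx
      obtain ⟨h, hh, he⟩ := hNH hx
      have : h⁻¹ * x ∈ M := hker _ (by rw [map_mul, map_inv, he, inv_mul_cancel])
      simpa using mul_mem hh (hMH this)
    have hN'c : (Nat.card N').Coprime q := by
      have h1 := RankTwoOdd.card_eq_map_mul M (H := N') (fun m hm => by
        rw [hN', Subgroup.mem_comap, hπ, QuotientGroup.mk'_apply, (QuotientGroup.eq_one_iff m).2 hm]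
        exact one_mem _)
      rw [h1, hN', Subgroup.map_comap_eq_self_of_surjective hπs]
      exact hNc.mul_left hMc
    have hle : N' ≤ M := by
      haveI : (N'.subgroupOf H).Normal := ⟨fun x hx g => by
        have hx' : π (x : G) ∈ N := hx
        show π ((g * x * g⁻¹ : H) : G) ∈ N
        simp only [Subgroup.coe_mul, Subgroup.coe_inv, map_mul, map_inv]
        exact conj_mem (hNn ⟨g, g.2, rfl⟩) hx'⟩
      intro x hx
      exact ⟨⟨x, hN'H hx⟩, FittingCores.le_pPrimeCore (N := N'.subgroupOf H) inferInstance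
        (by rwa [Nat.card_congr (Subgroup.subgroupOfEquivOfLe hN'H).toEquiv]) hx, rfl⟩
    rw [← Subgroup.map_comap_eq_self_of_surjective hπs N, ← hN', Subgroup.map_eq_bot_iff, hπ,
      QuotientGroup.ker_mk']
    exact hle
  have hCm : (H ⊓ Subgroup.centralizer ((P : Subgroup G) : Set G)).map π =
      H.map π ⊓ Subgroup.centralizer (((P : Subgroup G).map π : Subgroup (G ⧸ M)) : Set (G ⧸ M)) :=
    CoprimeAct.map_inf_centralizer π hPn hcop (Or.inl hPsol)
  set Cz := H ⊓ Subgroup.centralizer ({z} : Set G) with hCz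
  set Cp := H ⊓ Subgroup.centralizer ((P : Subgroup G) : Set G) with hCp
  set W := (Cfsg.pPrimeCore q Cz).map Cz.subtype with hW
  set U := (Cfsg.pPrimeCore q Cp).map Cp.subtype with hU
  have hWCz : W ≤ Cz := Subgroup.map_subtype_le _
  have hUCp : U ≤ Cp := Subgroup.map_subtype_le _
  have hnormz : ∀ X : Subgroup G, X ≤ Subgroup.centralizer ({z} : Set G) →
      X ≤ Subgroup.normalizer (Cz : Set G) := fun X hX =>
    (le_inf Subgroup.le_normalizer_of_normal (hX.trans Subgroup.le_normalizer)).trans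
      Subgroup.inf_normalizer_le_normalizer_inf
  have hred := reduced (q := q) (H.map π) ((P : Subgroup G).map π)
    (Group.isSolvable_of_surjective (f := π.subgroupMap (P : Subgroup G)) (π.subgroupMap_surjective _))
    ((hcop.coprime_dvd_left (Subgroup.card_map_dvd _ π)).coprime_dvd_right (Subgroup.card_map_dvd _ π))
    hN (z := π z) (by
      obtain ⟨k, hk⟩ := hz
      obtain ⟨j, -, hj⟩ := (Nat.dvd_prime_pow Fact.out).1 (hk ▸ orderOf_map_dvd π z)
      exact ⟨j, hj⟩)
    (W.map π) (U.map π) (Subgroup.map_mono (hWCz.trans inf_le_left))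
    ((show (Nat.card W).Coprime q by
      rw [hW, Subgroup.card_map_of_injective Cz.subtype_injective]
      exact PBasic.pPrimeCore_coprime q Cz).coprime_dvd_left (Subgroup.card_map_dvd _ π))
    (by
      rintro _ ⟨w, hw, rfl⟩
      rw [← map_mul, ← map_mul, Subgroup.mem_centralizer_singleton_iff.1 (hWCz hw).2])
    (by
      have h1 : (P : Subgroup G) ≤ Subgroup.centralizer ({z} : Set G) := fun a ha =>
        Subgroup.mem_centralizer_singleton_iff.2 (Subgroup.mem_centralizer_iff.1 hzP a ha)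
      exact (Subgroup.map_mono (le_normalizer_core q (hnormz _ h1))).trans (Subgroup.le_normalizer_map π))
    (by
      rintro _ ⟨y₀, hy₀, rfl⟩ hzy
      -- lifting a fixed point
      obtain ⟨k, hk⟩ := hz
      set A := Subgroup.zpowers z with hA
      have hAc : (Nat.card A).Coprime (Nat.card M) := by
        rw [hA, Nat.card_zpowers, hk]; exact Nat.Coprime.pow_left k hMc.symm
      have hm0 : y₀ * z * y₀⁻¹ * z⁻¹ ∈ M := hker _ (by
        simp only [map_mul, map_inv]
        rw [← hzy, mul_inv_cancel_right, mul_inv_cancel])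
      obtain ⟨n, hn, hnA⟩ := SchurZ.conj_in (A := A) (K := M) (B := MulAut.conj y₀ • A)
        Subgroup.le_normalizer_of_normal hAc
        (Or.inl (Group.isSolvable_of_comm fun a b => mul_comm' a b)) (by
          rintro _ ⟨_, ⟨i, rfl⟩, rfl⟩
          show y₀ * z ^ i * y₀⁻¹ ∈ M ⊔ A
          have h1 := Subgroup.zpow_mem (M ⊔ A)
            (mul_mem (Subgroup.mem_sup_left (T := A) hm0) (Subgroup.mem_sup_right (Subgroup.mem_zpowers z))) i
          rwa [inv_mul_cancel_right, conj_zpow] at h1) (SolvBasic.card_conjSmul _ _)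
      obtain ⟨i, hi⟩ : (n⁻¹ * y₀) * z * (n⁻¹ * y₀)⁻¹ ∈ A := by
        have h1 : MulAut.conj y₀ • z ∈ MulAut.conj y₀ • A :=
          Subgroup.smul_mem_pointwise_smul z _ A (Subgroup.mem_zpowers z)
        rw [← hnA, SolvBasic.mem_conjSmul] at h1
        simpa [MulAut.smul_def, mul_assoc] using h1
      simp only at hi
      have hπn : π n = 1 := (QuotientGroup.eq_one_iff n).2 hn
      have hzi : z ^ i = z := by
        have h1 : z ^ i * z⁻¹ ∈ M := hker _ (by
          rw [map_mul, map_inv, hi]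
          simp only [map_mul, map_inv, hπn, inv_one, one_mul]
          rw [← hzy, mul_inv_cancel_right, mul_inv_cancel])
        have h2 : z ^ i * z⁻¹ ∈ A := mul_mem (zpow_mem (Subgroup.mem_zpowers z) i) (inv_mem (Subgroup.mem_zpowers z))
        have h3 := eq_one_of_mem_of_coprime (IsPGroup.of_card (n := k) (by rw [hA, Nat.card_zpowers, hk])) hMc h2 h1
        exact mul_inv_eq_one.1 h3
      have hyz : n⁻¹ * y₀ ∈ Cz := by
        refine Subgroup.mem_inf.2 ⟨H.mul_mem (H.inv_mem (hMH hn)) hy₀, Subgroup.mem_centralizer_singleton_iff.2 ?_⟩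
        rw [hzi, eq_comm, mul_inv_eq_iff_eq_mul] at hi
        exact hi
      have : π y₀ = π (n⁻¹ * y₀) := by rw [map_mul, map_inv, hπn, inv_one, one_mul]
      rw [this]
      exact Subgroup.le_normalizer_map π ⟨_, le_normalizer_core q (Subgroup.le_normalizer (H := Cz)) hyz, rfl⟩)
    ((Subgroup.map_mono hUCp).trans hCm.le)
    ((show (Nat.card U).Coprime q by
      rw [hU, Subgroup.card_map_of_injective Cp.subtype_injective]
      exact PBasic.pPrimeCore_coprime q Cp).coprime_dvd_left (Subgroup.card_map_dvd _ π))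
    (hCm.ge.trans ((Subgroup.map_mono (le_normalizer_core q (Subgroup.le_normalizer (H := Cp)))).trans
      (Subgroup.le_normalizer_map π)))
  refine sup_le ?_ ?_
  · intro x hx
    refine hker x (Subgroup.mem_bot.1 (hred.1 ▸ ?_))
    exact Subgroup.mem_inf.2 ⟨⟨x, hx.1, rfl⟩, ⟨x, hx.2, rfl⟩⟩
  · intro x hx
    refine hker x (Subgroup.mem_bot.1 (hred.2 ▸ ?_))
    rw [← Subgroup.map_commutator]
    exact ⟨x, hx, rfl⟩

end Cfsg.Agent.S3819
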