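import Cfsg.Statements.S3821


set_option autoImplicit false
open Cfsg

namespace Cfsg.Agent.S3821

/-- Let A be a normal subgroup of the finite group G and H a subgroup of A. Then H is pronormal in G (H and gHg⁻¹ conjugate inside ⟨H, gHg⁻¹⟩ for every g ∈ G) if and only if H is pronormal in A and G = A · N_G(H). -/
theorem result {G : Type*} [Group G] [Finite G] (A H : Subgroup G) [A.Normal] (hHA : H ≤ A) :
    Cfsg.IsPronormal H ↔ (Cfsg.IsPronormal (H.subgroupOf A) ∧ A ⊔ Subgroup.normalizer (H : Set G) = ⊤) := by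
  have hmap : ∀ a : A, ((H.subgroupOf A).map (MulAut.conj a).toMonoidHom).map A.subtype =
      H.map (MulAut.conj (a : G)).toMonoidHom := fun a => by
    rw [Subgroup.map_map]
    conv_rhs => rw [← Subgroup.map_subgroupOf_eq_of_le hHA, Subgroup.map_map]
    congr 1
  have hsup : ∀ a : A, (H.subgroupOf A ⊔ (H.subgroupOf A).map (MulAut.conj a).toMonoidHom).map A.subtype =
      H ⊔ H.map (MulAut.conj (a : G)).toMonoidHom := fun a => by
    rw [Subgroup.map_sup, hmap, Subgroup.map_subgroupOf_eq_of_le hHA]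
  constructor
  · intro h
    refine ⟨fun a => ?_, ?_⟩
    · obtain ⟨x, hx, he⟩ := h (a : G)
      rw [← hsup a] at hx
      obtain ⟨x', hx', rfl⟩ := hx
      refine ⟨x', hx', Subgroup.map_injective A.subtype_injective ?_⟩
      rw [hmap, hmap]; exact he
    · rw [eq_top_iff]
      intro g _
      obtain ⟨x, hx, he⟩ := h g
      have hxA : x ∈ A := by
        refine sup_le hHA ?_ hx
        rintro _ ⟨y, hy, rfl⟩
        exact (inferInstance : A.Normal).conj_mem y (hHA hy) g
      have hn : x⁻¹ * g ∈ Subgroup.normalizer (H : Set G) := by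
        rw [Subgroup.mem_normalizer_iff_map_conj_eq]
        have h2 := congrArg (Subgroup.map (MulAut.conj x⁻¹).toMonoidHom) he
        rw [Subgroup.map_map, Subgroup.map_map] at h2
        convert h2 using 1
        · congr 1; ext y; simp [mul_assoc]
        · conv_lhs => rw [← Subgroup.map_id H]
          congr 1; ext y; simp [mul_assoc]
      rw [show g = x * (x⁻¹ * g) by group]
      exact Subgroup.mul_mem_sup hxA hn
  · rintro ⟨hA, hN⟩ g
    obtain ⟨a, ha, n, hn, rfl⟩ := Subgroup.mem_sup_of_normal_left.1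
      (hN ▸ Subgroup.mem_top g : g ∈ A ⊔ Subgroup.normalizer (H : Set G))
    have hg : H.map (MulAut.conj (a * n)).toMonoidHom = H.map (MulAut.conj a).toMonoidHom := by
      conv_rhs => rw [← Subgroup.mem_normalizer_iff_map_conj_eq.1 hn, Subgroup.map_map]
      congr 1
      ext y; simp [mul_assoc]
    obtain ⟨x, hx, he⟩ := hA ⟨a, ha⟩
    rw [hg]
    refine ⟨x, ?_, ?_⟩
    · rw [← hsup ⟨a, ha⟩]; exact ⟨x, hx, rfl⟩
    · have h2 := congrArg (Subgroup.map A.subtype) he
      rwa [hmap, hmap] at h2

end Cfsg.Agent.S3821
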