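import Cfsg.Statements.S3822
import Cfsg.Agent.Lib.MaxTwoGen.Key
import Cfsg.Agent.Lib.Components.Fitting

set_option autoImplicit false
set_option linter.style.haveILetI false
open Cfsg

namespace Cfsg.Agent.S3822

open Subgroup

section aux

variable {G : Type*} [Group G]

/-- The `r`-part of a subgroup. -/
def part (r : ℕ) (H : Subgroup G) : Subgroup G := (Cfsg.pCore r ↥H).map H.subtype

theorem part_le (r : ℕ) (H : Subgroup G) : part r H ≤ H := map_subtype_le _

theorem part_isPGroup [Finite G] (r : ℕ) (H : Subgroup G) : IsPGroup r ↥(part r H) :=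
  (FittingCores.pCore_isPGroup r).map _

theorem normalizer_le_part (r : ℕ) (H : Subgroup G) :
    normalizer (H : Set G) ≤ normalizer ((part r H : Subgroup G) : Set G) :=
  MaxTwoGen.normalizer_le_normalizer_map_char (hK := FittingCores.pCore_characteristic r) _

theorem le_part [Finite G] {r : ℕ} {H U : Subgroup G} (hU : IsPGroup r ↥U) (hUH : U ≤ H)
    (hHU : H ≤ normalizer (U : Set G)) : U ≤ part r H := by
  have h := FittingCores.le_pCore (normal_subgroupOf_of_le_normalizer hHU)
    (hU.comap_subtype (K := H))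
  calc U = (U.subgroupOf H).map H.subtype := (map_subgroupOf_eq_of_le hUH).symm
    _ ≤ part r H := map_mono h

theorem part_le_centralizer [Finite G] {q r : ℕ} (hq : q.Prime) (hr : r.Prime) (hqr : q ≠ r)
    (H : Subgroup G) : part q H ≤ centralizer (part r H : Set G) := by
  haveI := Fact.mk hq
  haveI := Fact.mk hr
  rintro _ ⟨u, hu, rfl⟩
  rw [mem_centralizer_iff]
  rintro _ ⟨v, hv, rfl⟩
  have := Subgroup.commute_of_normal_of_disjoint (Cfsg.pCore r ↥H) (Cfsg.pCore q ↥H)
    (FittingCores.pCore_normal r) (FittingCores.pCore_normal q)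
    (IsPGroup.disjoint_of_ne r q hqr.symm _ _ (FittingCores.pCore_isPGroup r)
      (FittingCores.pCore_isPGroup q)) v u hv hu
  exact congrArg H.subtype this.eq

theorem eq_iSup_part [Finite G] (H : Subgroup G) [Group.IsNilpotent ↥H] :
    H = ⨆ r : Nat.Primes, part r H := by
  have htop : (⨆ r : Nat.Primes, Cfsg.pCore (r : ℕ) ↥H) = ⊤ := by
    refine FittingCores.eq_top_of_forall_sylow_le fun p hp => ?_
    haveI := Fact.mk hp
    refine ⟨default, le_trans ?_ (le_iSup (fun r : Nat.Primes => Cfsg.pCore (r : ℕ) ↥H) ⟨p, hp⟩)⟩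
    exact FittingCores.le_pCore
      (Sylow.normal_of_normalizerCondition Group.normalizerCondition_of_isNilpotent _)
      (default : Sylow p ↥H).isPGroup'
  calc H = (⊤ : Subgroup ↥H).map H.subtype := by rw [← MonoidHom.range_eq_map, range_subtype]
    _ = _ := by rw [← htop, Subgroup.map_iSup]; rfl

theorem isNilpotent_iSup_commuting [Finite G] {ι : Type*} (R : ι → Subgroup G)
    (hnil : ∀ i, Group.IsNilpotent ↥(R i))
    (hcomm : ∀ i j, i ≠ j → R i ≤ centralizer (R j : Set G)) :
    Group.IsNilpotent ↥(⨆ i, R i) := by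
  set N := ⨆ i, R i with hN
  have hle : ∀ i, R i ≤ N := fun i => le_iSup R i
  have hnorm : ∀ i, N ≤ normalizer (R i : Set G) := fun i => iSup_le fun j => by
    by_cases h : j = i
    · subst h; exact le_normalizer
    · exact (hcomm j i h).trans (centralizer_le_normalizer _)
  have htop : (⨆ i, (R i).subgroupOf N) = ⊤ := by
    refine Subgroup.map_injective N.subtype_injective ?_
    rw [Subgroup.map_iSup, ← MonoidHom.range_eq_map, range_subtype]
    simp_rw [map_subgroupOf_eq_of_le (hle _)]
    exact hN.symm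
  have h := FittingCores.sSup_normal_induction (G := ↥N) (fun K => Group.IsNilpotent ↥K)
    inferInstance
    (fun A B hA hB hAn hBn => by
      haveI := hA; haveI := hB; haveI := hAn; haveI := hBn
      exact Components.isNilpotent_sup A B)
    (s := Set.range fun i => (R i).subgroupOf N) (by
      rintro _ ⟨i, rfl⟩
      haveI := hnil i
      exact ⟨normal_subgroupOf_of_le_normalizer (hnorm i),
        Group.nilpotent_of_mulEquiv (subgroupOfEquivOfLe (hle i)).symm⟩)
  rw [sSup_range, htop] at h
  haveI := h
  exact Group.nilpotent_of_mulEquiv Subgroup.topEquiv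

end aux

/-- Let G be a finite group and P a subgroup of prime order p > 3. Consider the solvable subgroups A of G of the form A = ⟨P, aPa⁻¹⟩ for some a ∈ A, and let A be maximal under inclusion among them. Then for every nilpotent subgroup V of G normalized by A, the subgroup F(A)V generated by the Fitting subgroup of A and V is nilpotent. -/
theorem result {G : Type*} [Group G] [Finite G]
    {p : ℕ} [Fact p.Prime] (hp : 3 < p) (P : Subgroup G) (hP : Nat.card P = p) (A : Subgroup G)
    (hA : Group.IsSolvable ↥A ∧ ∃ a ∈ A, A = P ⊔ P.map (MulAut.conj a).toMonoidHom)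
    (hmax : ∀ B : Subgroup G, A ≤ B → Group.IsSolvable ↥B → (∃ b ∈ B, B = P ⊔ P.map (MulAut.conj b).toMonoidHom) → B = A)
    (V : Subgroup G) (hV : Group.IsNilpotent ↥V) (hAV : A ≤ Subgroup.normalizer (V : Set G)) :
    Group.IsNilpotent ↥((Cfsg.fittingSubgroup ↥A).map A.subtype ⊔ V) := by
  classical
  have hpp : p.Prime := Fact.out
  have hp5 : 5 ≤ p := by
    by_contra h
    have : p = 4 := by omega
    subst this
    exact absurd hpp (by decide)
  haveI : Nontrivial ↥P := Finite.one_lt_card_iff_nontrivial.1 (hP ▸ hpp.one_lt)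
  obtain ⟨x₀, hx₀⟩ := exists_ne (1 : ↥P)
  set x : G := (x₀ : G) with hx
  have hord : orderOf x = p :=
    orderOf_eq_prime (by rw [hx, ← hP, ← Subgroup.coe_pow, pow_card_eq_one', Subgroup.coe_one])
      (fun h => hx₀ (Subtype.ext h))
  have hPx : P = zpowers x := (eq_of_le_of_card_ge (zpowers_le.2 x₀.2)
    (by rw [hP, Nat.card_zpowers, hord])).symm
  have hconjP : ∀ b : G, P.map (MulAut.conj b).toMonoidHom = zpowers (b * x * b⁻¹) := fun b => by
    rw [hPx, MonoidHom.map_zpowers]; rfl
  obtain ⟨hAsol, a, ha, hAeq⟩ := hA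
  rw [hconjP, hPx] at hAeq
  simp only [hconjP] at hmax
  rw [hPx] at hmax
  -- the Fitting subgroup
  obtain ⟨hFn, hFnil⟩ := Components.fittingSubgroup_spec (G := ↥A)
  set F := (Cfsg.fittingSubgroup ↥A).map A.subtype with hF
  have hFA : F ≤ A := map_subtype_le _
  haveI : Group.IsNilpotent ↥F := by
    haveI := hFnil
    exact Group.nilpotent_of_mulEquiv
      ((Cfsg.fittingSubgroup ↥A).equivMapOfInjective A.subtype A.subtype_injective)
  have hAF : A ≤ normalizer (F : Set G) := by
    refine (normal_subgroupOf_iff_le_normalizer hFA).1 ?_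
    rw [hF, subgroupOf, comap_map_eq_self_of_injective A.subtype_injective]
    exact hFn
  have key : ∀ q r : Nat.Primes, q ≠ r →
      part (q : ℕ) F ≤ centralizer (part (r : ℕ) V : Set G) := by
    intro q r hqr
    haveI := Fact.mk r.2
    haveI := Fact.mk q.2
    have hne : (q : ℕ) ≠ r := fun h => hqr (Subtype.ext h)
    refine MaxTwoGen.centralizes hp5 hAsol hord ha hAeq hmax ((part_le _ _).trans hFA)
      (hAF.trans (normalizer_le_part _ _)) ?_ ?_ (part_isPGroup _ _)
      (hAV.trans (normalizer_le_part _ _))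
    · obtain ⟨m, hm⟩ := IsPGroup.iff_card.1 (part_isPGroup (q : ℕ) F)
      rw [hm]
      exact fun h => hne ((Nat.prime_dvd_prime_iff_eq r.2 q.2).1 (r.2.dvd_of_dvd_pow h)).symm
    · intro U hUA hU hAU
      have hUF : U ≤ F := by
        haveI : Group.IsNilpotent ↥(U.subgroupOf A) :=
          (hU.comap_subtype (K := A)).isNilpotent
        calc U = (U.subgroupOf A).map A.subtype := (map_subgroupOf_eq_of_le hUA).symm
          _ ≤ F := map_mono (le_sSup ⟨normal_subgroupOf_of_le_normalizer hAU, inferInstance⟩)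
      exact (part_le_centralizer q.2 r.2 hne F).trans
        (centralizer_le (le_part hU hUF (hFA.trans hAU)))
  let R : Nat.Primes → Subgroup G := fun r => part (r : ℕ) F ⊔ part (r : ℕ) V
  have hsup : F ⊔ V = ⨆ r, R r := by
    conv_lhs => rw [eq_iSup_part F, eq_iSup_part V]
    exact (iSup_sup_eq).symm
  rw [hsup]
  refine isNilpotent_iSup_commuting R (fun r => ?_) (fun i j hij => ?_)
  · haveI := Fact.mk r.2
    exact (IsPGroup.to_sup_of_normal_right' (part_isPGroup (r : ℕ) F) (part_isPGroup (r : ℕ) V)
      (((part_le _ _).trans hFA).trans (hAV.trans (normalizer_le_part _ _)))).isNilpotent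
  · have hne : (i : ℕ) ≠ j := fun h => hij (Subtype.ext h)
    refine sup_le ?_ ?_
    · rw [le_centralizer_iff]
      exact sup_le (part_le_centralizer j.2 i.2 hne.symm F)
        (le_centralizer_iff.1 (key i j hij))
    · rw [le_centralizer_iff]
      exact sup_le (key j i hij.symm) (part_le_centralizer j.2 i.2 hne.symm V)

end Cfsg.Agent.S3822
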