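import Cfsg.Statements.S3824
import Cfsg.Agent.Lib.Char.Burnside
import Cfsg.Agent.Lib.Solvable.Structure

set_option autoImplicit false
open Cfsg

namespace Cfsg.Agent.S3824

universe u

lemma aux : ∀ (n : ℕ) (G : Type u) [Group G] [Finite G], Nat.card G = n →
    ∀ A : Subgroup G, IsMulCommutative A → (∃ k : ℕ, A.index = 2 ^ k) → Group.IsSolvable G := by
  intro n
  induction n using Nat.strong_induction_on with
  | _ n ih =>
    intro G _ _ hn A hA hidx
    obtain ⟨k, hk⟩ := hidx
    by_cases hA0 : A = ⊥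
    · haveI : Fact (Nat.Prime 2) := ⟨Nat.prime_two⟩
      rw [hA0, Subgroup.index_bot] at hk
      haveI := (IsPGroup.of_card hk).isNilpotent
      infer_instance
    by_cases hsimple : ∀ H : Subgroup G, H.Normal → H = ⊥ ∨ H = ⊤
    · obtain ⟨g, hg, hg1⟩ := (Subgroup.bot_or_exists_ne_one A).resolve_left hA0
      haveI : Nontrivial G := ⟨⟨g, 1, hg1⟩⟩
      haveI : IsSimpleGroup G := ⟨hsimple⟩
      have hle : A ≤ Subgroup.centralizer ({g} : Set G) := fun a ha =>
        Subgroup.mem_centralizer_singleton_iff.2 (congrArg Subtype.val (hA.is_comm.comm ⟨a, ha⟩ ⟨g, hg⟩))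
      obtain ⟨j, -, hj⟩ := (Nat.dvd_prime_pow Nat.prime_two).1 (hk ▸ Subgroup.index_dvd_of_le hle)
      haveI : Fact (Nat.card G).Prime :=
        ⟨Cfsg.Agent.Char.prime_card_of_class_prime_pow Nat.prime_two g hg1 hj⟩
      haveI : IsCyclic G := isCyclic_of_prime_card (p := Nat.card G) rfl
      haveI := IsCyclic.isMulCommutative (α := G)
      exact Group.isSolvable_of_comm fun x y => mul_comm' x y
    · push Not at hsimple
      obtain ⟨N, hN, hN0, hN1⟩ := hsimple
      have hNcard : Nat.card N < n := hn ▸ lt_of_le_of_ne (Subgroup.card_le_card_group N)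
        (fun h => hN1 (N.eq_top_of_card_eq h))
      have hQcard : Nat.card (G ⧸ N) < n := by
        rw [← hn, Subgroup.card_eq_card_quotient_mul_card_subgroup N]
        exact lt_mul_of_one_lt_right Nat.card_pos (N.one_lt_card_iff_ne_bot.mpr hN0)
      obtain ⟨i, -, hi⟩ := (Nat.dvd_prime_pow Nat.prime_two).1
        (hk ▸ Cfsg.Agent.SolvStruct.relIndex_dvd_index_of_normal_right A N)
      obtain ⟨j, -, hj⟩ := (Nat.dvd_prime_pow Nat.prime_two).1
        (hk ▸ Subgroup.index_map_dvd A (QuotientGroup.mk'_surjective N))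
      haveI hsN : Group.IsSolvable N := ih _ hNcard N rfl (A.subgroupOf N)
        ⟨⟨fun a b => Subtype.ext (Subtype.ext
          (congrArg Subtype.val (hA.is_comm.comm ⟨a, a.2⟩ ⟨b, b.2⟩) :))⟩⟩ ⟨i, hi⟩
      haveI := hA
      haveI hsQ : Group.IsSolvable (G ⧸ N) :=
        ih _ hQcard (G ⧸ N) rfl _ (Subgroup.map_isMulCommutative A (QuotientGroup.mk' N)) ⟨j, hj⟩
      exact Group.isSolvable_of_ker_le_range N.subtype (QuotientGroup.mk' N)
        (le_of_eq (by rw [QuotientGroup.ker_mk', Subgroup.range_subtype]))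

/-- Every finite group having an abelian subgroup whose index is a power of 2 is solvable. -/
theorem result {G : Type*} [Group G] [Finite G]
    (A : Subgroup G) (hA : IsMulCommutative A) (hidx : ∃ k : ℕ, A.index = 2 ^ k) : Group.IsSolvable G := by
  exact aux _ G rfl A hA hidx

end Cfsg.Agent.S3824
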