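import Cfsg.Statements.S3825
import Mathlib.GroupTheory.FixedPointFree
import Mathlib.Tactic.Group

set_option autoImplicit false
open Cfsg

namespace Cfsg.Agent.S3825

open Subgroup
open scoped commutatorElement

/-- Let U be a subgroup of a finite group H and w an involution of H normalizing U and commuting with exactly two elements of U, the identity and y. If V is a non-cyclic elementary abelian 2-subgroup of U containing y which is normal in U and invariant under w, then V is a Sylow 2-subgroup of U, V has order 4, and U/V is abelian. -/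
theorem result {H : Type*} [Group H] [Finite H] (U : Subgroup H) (w : H) (hw : orderOf w = 2)
    (hwU : w ∈ Subgroup.normalizer (U : Set H)) (y : H) (hy : y ≠ 1) (hyU : y ∈ U)
    (hfix : ∀ u ∈ U, w * u * w⁻¹ = u ↔ (u = 1 ∨ u = y))
    (V : Subgroup H) (hVU : V ≤ U) (hVn : (V.subgroupOf U).Normal) (hVw : ∀ v ∈ V, w * v * w⁻¹ ∈ V)
    (hVe : Cfsg.IsElementaryAbelian 2 V) (hVc : ¬ IsCyclic ↥V) (hyV : y ∈ V) :
    ¬ 2 ∣ V.relIndex U ∧ Nat.card ↥V = 4 ∧ ⁅U, U⁆ ≤ V := by
  set s := MulAut.conj w with hs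
  have hw2 : w * w = 1 := by rw [← pow_two, ← hw, pow_orderOf_eq_one]
  have hss : ∀ g, s (s g) = g := fun g => by
    simp only [hs, MulAut.conj_apply]
    calc w * (w * g * w⁻¹) * w⁻¹ = (w * w) * g * (w * w)⁻¹ := by group
      _ = g := by rw [hw2]; group
  have hsU : ∀ u ∈ U, s u ∈ U := fun u hu => (mem_normalizer_iff.1 hwU u).1 hu
  have hsV : ∀ v ∈ V, s v ∈ V := hVw
  have hfix' : ∀ u ∈ U, s u = u ↔ (u = 1 ∨ u = y) := hfix
  have hcomm : ∀ a ∈ V, ∀ b ∈ V, a * b = b * a := fun a ha b hb =>
    congrArg Subtype.val (hVe.1.is_comm.comm ⟨a, ha⟩ ⟨b, hb⟩)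
  have hsq : ∀ v ∈ V, v * v = 1 := fun v hv => by rw [← pow_two]; exact hVe.2 v hv
  have hinv : ∀ v ∈ V, v⁻¹ = v := fun v hv => inv_eq_of_mul_eq_one_right (hsq v hv)
  have hy2 : y * y = 1 := hsq y hyV
  have hyf : s y = y := (hfix' y hyU).2 (Or.inr rfl)
  -- `v ↦ v * v ^ w` on `V`
  let φ : V →* V := MonoidHom.mk' (fun v => ⟨v * s v, mul_mem v.2 (hsV v v.2)⟩)
    (fun a b => Subtype.ext (by
      show (a * b : H) * s (a * b) = (a * s a) * (b * s b)
      rw [map_mul]
      calc (a : H) * b * (s a * s b) = a * (b * s a) * s b := by group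
        _ = _ := by rw [hcomm _ b.2 _ (hsV a a.2)]; group))
  let F : Subgroup V := (zpowers y).subgroupOf V
  have hFcard : Nat.card F = 2 := by
    rw [Nat.card_congr (subgroupOfEquivOfLe (zpowers_le.2 hyV)).toEquiv, Nat.card_zpowers]
    exact orderOf_eq_prime (hVe.2 y hyV) hy
  have hyz : ∀ u : H, u ∈ zpowers y ↔ (u = 1 ∨ u = y) := by
    intro u
    constructor
    · rintro ⟨i, rfl⟩
      rcases Int.even_or_odd i with ⟨c, rfl⟩ | ⟨c, rfl⟩
      · left; show y ^ (c + c) = 1; rw [← two_mul, zpow_mul]; simp [zpow_two, pow_two, hy2]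
      · right; show y ^ (2 * c + 1) = y; rw [zpow_add, zpow_mul]; simp [zpow_two, pow_two, hy2]
    · rintro (rfl | rfl)
      · exact one_mem _
      · exact mem_zpowers u
  have hker : φ.ker = F := by
    ext v
    rw [MonoidHom.mem_ker, Subgroup.mem_subgroupOf, hyz, ← hfix' v (hVU v.2)]
    constructor
    · intro h
      have h1 : (v : H) * s v = 1 := congrArg Subtype.val h
      rw [← inv_eq_of_mul_eq_one_right h1, hinv v v.2]
    · intro h
      apply Subtype.ext
      show (v : H) * s v = 1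
      rw [h, hsq v v.2]
  have hran : φ.range ≤ F := by
    rintro _ ⟨v, rfl⟩
    rw [Subgroup.mem_subgroupOf, hyz, ← hfix' _ (hVU (φ v).2)]
    show s ((v : H) * s v) = (v : H) * s v
    rw [map_mul, hss, hcomm _ (hsV v v.2) _ v.2]
  have hcard : Nat.card φ.range * 2 = Nat.card V := by
    rw [← hFcard, ← hker, ← index_ker, mul_comm]; exact card_mul_index _
  have hr : Nat.card φ.range = 1 ∨ Nat.card φ.range = 2 := by
    have := card_dvd_of_le hran
    rw [hFcard] at this
    exact (Nat.dvd_prime Nat.prime_two).1 this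
  have hr2 : Nat.card φ.range = 2 := by
    rcases hr with h | h
    · exfalso
      rw [h, one_mul] at hcard
      haveI : Fact (Nat.Prime 2) := ⟨Nat.prime_two⟩
      exact hVc (isCyclic_of_prime_card hcard.symm)
    · exact h
  have hV4 : Nat.card V = 4 := by rw [← hcard, hr2]
  have hyrange : ∃ u ∈ V, u * s u = y := by
    have he : φ.range = F := eq_of_le_of_card_ge hran (by rw [hr2, hFcard])
    have : (⟨y, hyV⟩ : V) ∈ φ.range := by
      rw [he, Subgroup.mem_subgroupOf]; exact mem_zpowers y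
    obtain ⟨u, hu⟩ := this
    exact ⟨u, u.2, congrArg Subtype.val hu⟩
  -- `w` has no fixed point on `U / V`
  have hfree : ∀ x ∈ U, x⁻¹ * s x ∈ V → x ∈ V := by
    intro x hx hv
    set v := x⁻¹ * s x with hvdef
    have hsx : s x = x * v := by rw [hvdef]; group
    have h1 : v * s v = 1 := by
      have := hss x
      rw [hsx, map_mul, hsx, mul_assoc] at this
      simpa using this
    have hvf : s v = v := by rw [← inv_eq_of_mul_eq_one_right h1, hinv v hv]
    rcases (hfix' v (hVU hv)).1 hvf with hv1 | hvy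
    · rw [hv1, mul_one] at hsx
      rcases (hfix' x hx).1 hsx with h | h <;> rw [h]
      · exact one_mem V
      · exact hyV
    · obtain ⟨u, hu, hue⟩ := hyrange
      have hxu : s (x * u) = x * u := by
        rw [map_mul, hsx, hvy, ← hue, mul_assoc, mul_assoc, hsq _ (hsV u hu), mul_one]
      have : x * u ∈ V := by
        rcases (hfix' _ (mul_mem hx (hVU hu))).1 hxu with h | h <;> rw [h]
        · exact one_mem V
        · exact hyV
      simpa using mul_mem this (inv_mem hu)
  haveI := hVn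
  let σ : U →* U := (s.toMonoidHom.comp U.subtype).codRestrict U (fun u => hsU u u.2)
  let τ : U ⧸ V.subgroupOf U →* U ⧸ V.subgroupOf U :=
    QuotientGroup.map _ _ σ (fun u hu => hsV u hu)
  have hτ2 : Function.Involutive τ := by
    intro q
    obtain ⟨u, rfl⟩ := QuotientGroup.mk'_surjective _ q
    show QuotientGroup.mk (σ (σ u)) = QuotientGroup.mk u
    congr 1
    exact Subtype.ext (hss u)
  have hτf : MonoidHom.FixedPointFree τ := by
    intro q hq
    obtain ⟨u, rfl⟩ := QuotientGroup.mk'_surjective _ q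
    rw [QuotientGroup.mk'_apply, QuotientGroup.eq_one_iff]
    exact hfree u u.2 ((QuotientGroup.eq (a := u) (b := σ u)).1 hq.symm)
  refine ⟨(hτf.odd_card_of_involutive hτ2).not_two_dvd_nat, hV4, ?_⟩
  rw [commutator_le]
  intro a ha b hb
  have h1 : (QuotientGroup.mk' (V.subgroupOf U)) ⁅(⟨a, ha⟩ : U), ⟨b, hb⟩⁆ = 1 := by
    rw [map_commutatorElement, commutatorElement_eq_one_iff_mul_comm]
    exact hτf.commute_all_of_involutive hτ2 _ _
  exact (QuotientGroup.eq_one_iff (⁅(⟨a, ha⟩ : U), ⟨b, hb⟩⁆ : U)).1 h1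

end Cfsg.Agent.S3825
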