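import Cfsg.Statements.S3835
import Cfsg.Agent.Lib.Qd.Basic
import Mathlib

set_option autoImplicit false
open Cfsg

namespace Cfsg.Agent.S3835

open Cfsg.Agent
open Cfsg.Agent.S2231 (unitri)
open Matrix

variable {p : ℕ} [Fact p.Prime]

local notation "SL3" => Matrix.SpecialLinearGroup (Fin 3) (ZMod p)

/-- Lower transvection. -/
def low (c : ZMod p) : SL3 :=
  ⟨!![1, 0, 0; c, 1, 0; 0, 0, 1], by simp [Matrix.det_fin_three]⟩

lemma low_mem (c : ZMod p) : low c ∈ Cfsg.qd p := Subgroup.subset_closure ⟨rfl, rfl, rfl⟩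

lemma low_pow (c : ZMod p) (k : ℕ) : low c ^ k = low ((k : ZMod p) * c) := by
  induction k with
  | zero =>
    rw [pow_zero]
    apply Subtype.ext
    rw [Matrix.SpecialLinearGroup.coe_one]
    ext i j
    fin_cases i <;> fin_cases j <;> simp [low]
  | succ k ih =>
    rw [pow_succ, ih]
    apply Subtype.ext
    rw [Matrix.SpecialLinearGroup.coe_mul]
    ext i j
    fin_cases i <;> fin_cases j <;> simp [low, Matrix.mul_apply, Fin.sum_univ_three, add_mul]

lemma low_pow_p (c : ZMod p) : low c ^ p = 1 := by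
  rw [low_pow, ZMod.natCast_self, zero_mul]
  apply Subtype.ext
  rw [Matrix.SpecialLinearGroup.coe_one]
  ext i j
  fin_cases i <;> fin_cases j <;> simp [low]

lemma qd_le_pElements (hp : p ≠ 2) :
    Cfsg.qd p ≤ Subgroup.closure {M : SL3 | M ∈ Cfsg.qd p ∧ M ^ p = 1} := by
  rw [Cfsg.qd, Subgroup.closure_le]
  set C := Subgroup.closure {M : SL3 | M ∈ Cfsg.qd p ∧ M ^ p = 1}
  have hU : ∀ x : ↥(unitri p), (x : SL3) ∈ C := fun x => Subgroup.subset_closure
    ⟨Qd.unitri_le_qd x.2, congrArg Subtype.val (Qd.pow_p_eq_one hp x)⟩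
  have hL : ∀ c, low (p := p) c ∈ C := fun c => Subgroup.subset_closure ⟨low_mem c, low_pow_p c⟩
  have key : ∀ M : SL3, M.1 2 0 = 0 → M.1 2 1 = 0 → M.1 2 2 = 1 → M.1 1 0 ≠ 0 → M ∈ C := by
    intro M h20 h21 h22 hc
    have hdet : M.1 0 0 * M.1 1 1 - M.1 0 1 * M.1 1 0 = 1 := by
      have h := M.2
      rw [Matrix.det_fin_three, h20, h21, h22] at h
      linear_combination h
    obtain ⟨c, hcdef⟩ : ∃ c, c = M.1 1 0 := ⟨_, rfl⟩
    rw [← hcdef] at hc hdet
    have e : M = (Qd.mat ((M.1 0 0 - 1) / c) (M.1 1 2) (M.1 0 2) : SL3) * low c *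
        (Qd.mat ((M.1 1 1 - 1) / c) 0 0 : SL3) := by
      apply Subtype.ext
      rw [Matrix.SpecialLinearGroup.coe_mul, Matrix.SpecialLinearGroup.coe_mul]
      ext i j
      fin_cases i <;> fin_cases j <;>
        simp [Qd.mat, low, Matrix.mul_apply, Fin.sum_univ_three, h20, h21, h22, ← hcdef]
      all_goals first
        | (field_simp; ring1)
        | (field_simp; linear_combination hdet)
        | (field_simp; linear_combination (-1 : ZMod p) * hdet)
    rw [e]
    exact mul_mem (mul_mem (hU _) (hL c)) (hU _)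
  rintro M ⟨h20, h21, h22⟩
  by_cases hc : M.1 1 0 = 0
  · have h00 : M.1 0 0 ≠ 0 := by
      intro h0
      have h := M.2
      rw [Matrix.det_fin_three, h20, h21, hc, h0] at h
      simp at h
    have h1 : low 1 * M ∈ C := key _ (by rw [Matrix.SpecialLinearGroup.coe_mul]; simp [low, Matrix.mul_apply, Fin.sum_univ_three, h20])
      (by rw [Matrix.SpecialLinearGroup.coe_mul]; simp [low, Matrix.mul_apply, Fin.sum_univ_three, h21])
      (by rw [Matrix.SpecialLinearGroup.coe_mul]; simp [low, Matrix.mul_apply, Fin.sum_univ_three, h22])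
      (by rw [Matrix.SpecialLinearGroup.coe_mul]; simpa [low, Matrix.mul_apply, Fin.sum_univ_three, hc] using h00)
    exact (Subgroup.mul_mem_cancel_left C (hL 1)).1 h1
  · exact key M h20 h21 h22 hc

/-- The affine action on the plane. -/
def aff (M : SL3) (v : ZMod p × ZMod p) : ZMod p × ZMod p :=
  (M.1 0 0 * v.1 + M.1 0 1 * v.2 + M.1 0 2, M.1 1 0 * v.1 + M.1 1 1 * v.2 + M.1 1 2)

lemma aff_mul (M : SL3) {N : SL3} (hN : N ∈ Cfsg.qd p) (v : ZMod p × ZMod p) :
    aff (M * N) v = aff M (aff N v) := by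
  obtain ⟨n0, n1, n2⟩ := Qd.bottom_row hN
  simp only [aff, Matrix.SpecialLinearGroup.coe_mul, Matrix.mul_apply, Fin.sum_univ_three, n0, n1, n2,
    Prod.mk.injEq]
  constructor <;> ring

lemma aff_one (v : ZMod p × ZMod p) : aff (1 : SL3) v = v := by
  simp [aff]

/-- The affine representation of `qd p`. -/
def affHom : ↥(Cfsg.qd p) →* Equiv.Perm (ZMod p × ZMod p) where
  toFun M := ⟨aff M.1, aff (M⁻¹ : ↥(Cfsg.qd p)).1,
    fun v => by rw [← aff_mul _ M.2, ← Subgroup.coe_mul, inv_mul_cancel, Subgroup.coe_one, aff_one],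
    fun v => by rw [← aff_mul _ (M⁻¹).2, ← Subgroup.coe_mul, mul_inv_cancel, Subgroup.coe_one, aff_one]⟩
  map_one' := Equiv.ext fun v => aff_one v
  map_mul' M N := Equiv.ext fun v => aff_mul M.1 N.2 v

lemma affHom_injective : Function.Injective (affHom (p := p)) := by
  refine (injective_iff_map_eq_one _).2 fun M h => Subtype.ext (Subtype.ext ?_)
  have hall : ∀ v, aff M.1 v = v := fun v => Equiv.ext_iff.1 h v
  obtain ⟨h20, h21, h22⟩ := Qd.bottom_row M.2
  have e0 := hall (0, 0)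
  have e1 := hall (1, 0)
  have e2 := hall (0, 1)
  simp only [aff, mul_zero, mul_one, zero_add, add_zero, Prod.mk.injEq] at e0 e1 e2
  rw [e0.1, e0.2, add_zero, add_zero] at e1 e2
  ext i j
  fin_cases i <;> fin_cases j <;> simp [h20, h21, h22, e0.1, e0.2, e1.1, e1.2, e2.1, e2.2]

lemma comm_of_lt {n : ℕ} (hn : n < p ^ 2) {T : Subgroup (Equiv.Perm (Fin n))} (hT : IsPGroup p ↥T)
    (a b : ↥T) : a * b = b * a := by
  classical
  have hp : p.Prime := Fact.out
  set k := n / p
  let t : (Fin k → Multiplicative (ZMod p)) →* Equiv.Perm (Fin k × ZMod p) :=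
  { toFun := fun f => ⟨fun x => (x.1, x.2 + Multiplicative.toAdd (f x.1)),
      fun x => (x.1, x.2 - Multiplicative.toAdd (f x.1)), fun x => by simp, fun x => by simp⟩
    map_one' := Equiv.ext fun x => by simp
    map_mul' := fun f g => Equiv.ext fun x => by simp [add_comm, add_left_comm] }
  obtain ⟨ι⟩ : Nonempty (Fin k × ZMod p ↪ Fin n) := Function.Embedding.nonempty_of_card_le (by
    rw [Fintype.card_prod, Fintype.card_fin, ZMod.card, Fintype.card_fin]; exact Nat.div_mul_le_self n p)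
  have hinj : Function.Injective ((Equiv.Perm.viaEmbeddingHom ι).comp t) := by
    refine (Equiv.Perm.viaEmbeddingHom_injective ι).comp fun f g h => funext fun i => ?_
    have := Equiv.ext_iff.1 h (i, 0)
    simpa [t] using this
  set E := ((Equiv.Perm.viaEmbeddingHom ι).comp t).range with hE
  have hEc : Nat.card ↥E = p ^ k := by
    rw [← Nat.card_congr (MonoidHom.ofInjective hinj).toEquiv, Nat.card_fun, Nat.card_fin,
      Nat.card_congr Multiplicative.toAdd, Nat.card_zmod]
  have hEab : ∀ x ∈ E, ∀ y ∈ E, x * y = y * x := by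
    rintro _ ⟨f, rfl⟩ _ ⟨g, rfl⟩
    rw [← map_mul, ← map_mul, mul_comm]
  obtain ⟨Q, hQ⟩ := (IsPGroup.of_card hEc).exists_le_sylow
  have hQE : (Q : Subgroup (Equiv.Perm (Fin n))) = E := by
    refine (Subgroup.eq_of_le_of_card_ge hQ ?_).symm
    obtain ⟨v, hv⟩ := Q.isPGroup'.exists_card_eq
    rw [hEc, hv]
    refine Nat.pow_le_pow_right hp.pos ?_
    have hd : p ^ v ∣ n.factorial := by
      have := Subgroup.card_subgroup_dvd_card (Q : Subgroup (Equiv.Perm (Fin n)))
      rwa [hv, Nat.card_perm, Nat.card_fin] at this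
    rw [Nat.Prime.pow_dvd_factorial_iff hp (b := 2) (Nat.log_lt_of_lt_pow' two_ne_zero hn)] at hd
    simpa using hd
  obtain ⟨P, hP⟩ := hT.exists_le_sylow
  have h2 : (⟨(a : Equiv.Perm (Fin n)), hP a.2⟩ : ↥(P : Subgroup _)) * ⟨(b : Equiv.Perm (Fin n)), hP b.2⟩ =
      ⟨(b : Equiv.Perm (Fin n)), hP b.2⟩ * ⟨(a : Equiv.Perm (Fin n)), hP a.2⟩ := by
    apply (P.equiv Q).injective
    rw [map_mul, map_mul]
    exact Subtype.ext (hEab _ (hQE.le ((P.equiv Q) _).2) _ (hQE.le ((P.equiv Q) _).2))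
  refine Subtype.ext ?_
  have h3 := congrArg Subtype.val h2
  simpa using h3

lemma no_map (hp : p ≠ 2) {n : ℕ} (hn : n < p ^ 2) {K : Subgroup ↥(alternatingGroup (Fin n))}
    (f : ↥K →* ↥(Cfsg.qd p)) (hf : Function.Surjective f) : False := by
  let S : Sylow p ↥K := default
  set g : ↥K →* Equiv.Perm (Fin n) := (alternatingGroup (Fin n)).subtype.comp K.subtype
  have hg : Function.Injective g := (Subgroup.subtype_injective _).comp K.subtype_injective
  have hScomm : ∀ a b : ↥(S : Subgroup ↥K), a * b = b * a := fun a b => by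
    have h := comm_of_lt hn (S.isPGroup'.map g) ⟨g a, ⟨a, a.2, rfl⟩⟩ ⟨g b, ⟨b, b.2, rfl⟩⟩
    refine Subtype.ext (hg ?_)
    rw [Subgroup.coe_mul, Subgroup.coe_mul, map_mul, map_mul]
    exact congrArg Subtype.val h
  have hQcomm : ∀ a b : ↥(S.mapSurjective hf : Subgroup ↥(Cfsg.qd p)), a * b = b * a := by
    rintro ⟨_, a, ha, rfl⟩ ⟨_, b, hb, rfl⟩
    apply Subtype.ext
    show f a * f b = f b * f a
    rw [← map_mul, ← map_mul]
    exact congrArg f (congrArg Subtype.val (hScomm ⟨a, ha⟩ ⟨b, hb⟩))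
  obtain ⟨e⟩ := Qd.sylow_qd hp (S.mapSurjective hf)
  have htop : Subgroup.center ↥(unitri p) = ⊤ := (Subgroup.eq_top_iff' _).2 fun x => Subgroup.mem_center_iff.2 fun y => by
    apply e.symm.injective
    rw [map_mul, map_mul]
    exact hQcomm _ _
  have hc := Qd.card_center (p := p)
  rw [htop, Subgroup.card_top, Qd.card_unitri] at hc
  have h1 : p ^ 1 < p ^ 3 := Nat.pow_lt_pow_right (Fact.out : p.Prime).one_lt (by norm_num)
  rw [pow_one] at h1
  omega

/-- Let p be an odd prime and n a natural number. The alternating group of degree n has a subgroup isomorphic to Qd(p) (the natural semidirect product of an elementary abelian group of order p² by SL₂(p)) if and only if n ≥ p²; and if n < p² then Qd(p) is not even involved in it. -/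
theorem result {p : ℕ} [Fact p.Prime] (hp : p ≠ 2) (n : ℕ) : ((∃ H : Subgroup (alternatingGroup (Fin n)), Nonempty (↥H ≃* ↥(Cfsg.qd p))) ↔ p ^ 2 ≤ n) ∧ (n < p ^ 2 → ¬ Cfsg.Involves ↥(Cfsg.qd p) ↥(alternatingGroup (Fin n))) := by
  classical
  refine ⟨⟨fun ⟨H, ⟨e⟩⟩ => not_lt.1 fun hn => no_map hp hn e.toMonoidHom e.surjective, fun hn => ?_⟩,
    fun hn ⟨K, R, hR, ⟨e⟩⟩ => no_map hp hn (e.toMonoidHom.comp (QuotientGroup.mk' (R.subgroupOf K)))
      (e.surjective.comp (QuotientGroup.mk'_surjective _))⟩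
  obtain ⟨ι⟩ : Nonempty (ZMod p × ZMod p ↪ Fin n) := Function.Embedding.nonempty_of_card_le (by
    rw [Fintype.card_prod, ZMod.card, Fintype.card_fin, ← pow_two]; exact hn)
  set φ := (Equiv.Perm.viaEmbeddingHom ι).comp affHom with hφ
  have hφi : Function.Injective φ := (Equiv.Perm.viaEmbeddingHom_injective ι).comp affHom_injective
  have hsign : ∀ x, φ x ∈ alternatingGroup (Fin n) := by
    intro x
    set χ := Equiv.Perm.sign.comp φ with hχ
    have hle : Cfsg.qd p ≤ (χ.ker).map (Cfsg.qd p).subtype := by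
      refine (qd_le_pElements hp).trans ((Subgroup.closure_le _).2 ?_)
      rintro M ⟨hM, hMp⟩
      refine ⟨⟨M, hM⟩, ?_, rfl⟩
      rw [SetLike.mem_coe, MonoidHom.mem_ker]
      have h1 : χ ⟨M, hM⟩ ^ p = 1 := by
        rw [← map_pow, show (⟨M, hM⟩ : ↥(Cfsg.qd p)) ^ p = 1 from Subtype.ext hMp, map_one]
      rcases Int.units_eq_one_or (χ ⟨M, hM⟩) with h | h
      · exact h
      · rw [h, ((Fact.out : p.Prime).odd_of_ne_two hp).neg_one_pow] at h1
        exact absurd h1 (by decide)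
    obtain ⟨y, hy, hyx⟩ := hle x.2
    obtain rfl : y = x := Subtype.ext hyx
    rw [Equiv.Perm.mem_alternatingGroup]
    exact hy
  refine ⟨(φ.codRestrict _ hsign).range,
    ⟨(MonoidHom.ofInjective (f := φ.codRestrict _ hsign) fun a b h => hφi (congrArg Subtype.val h)).symm⟩⟩

end Cfsg.Agent.S3835
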