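import Cfsg.Statements.S3836
import Cfsg.Agent.Lib.Solvable.Fitting

set_option autoImplicit false
open Cfsg

namespace Cfsg.Agent.S3836

open Subgroup

/-- Let G be a finite group that is p-stable in the normalizer form: for every p-subgroup Q and every x ∈ N_G(Q) with [Q, x, x] = 1, the image of x in N_G(Q)/C_G(Q) lies in O_p(N_G(Q)/C_G(Q)). Then every subgroup of G is p-stable in the same sense. -/
theorem result {G : Type*} [Group G] [Finite G] {p : ℕ} [Fact p.Prime] (hst : Cfsg.IsNormalizerPStable p G) (H : Subgroup G) : Cfsg.IsNormalizerPStable p ↥H := by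
  intro P hP g hg hq
  set P' := P.map H.subtype with hP'
  have hinj := H.subtype_injective
  have hg' : (g : G) ∈ normalizer (P' : Set G) := le_normalizer_map H.subtype ⟨g, hg, rfl⟩
  have hq' : ⁅⁅P', zpowers (g : G)⁆, zpowers (g : G)⁆ = ⊥ := by
    have := congrArg (Subgroup.map H.subtype) hq
    rwa [Subgroup.map_bot, map_commutator, map_commutator, MonoidHom.map_zpowers] at this
  have hG := hst P' (hP.map _) (g : G) hg' hq'
  let ι : ↥(normalizer (P : Set H)) →* ↥(normalizer (P' : Set G)) :=
    (H.subtype.comp (normalizer (P : Set H)).subtype).codRestrict _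
      (fun x => le_normalizer_map H.subtype ⟨x, x.2, rfl⟩)
  have hC : ((centralizer (P' : Set G)).subgroupOf (normalizer (P' : Set G))).comap ι =
      (centralizer (P : Set H)).subgroupOf (normalizer (P : Set H)) := by
    ext x
    simp only [mem_comap, mem_subgroupOf, mem_centralizer_iff]
    constructor
    · intro h u hu
      exact hinj (h (H.subtype u) ⟨u, hu, rfl⟩)
    · rintro h _ ⟨u, hu, rfl⟩
      exact congrArg H.subtype (h u hu)
  let φ : ↥(normalizer (P : Set H)) ⧸ (centralizer (P : Set H)).subgroupOf (normalizer (P : Set H)) →*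
      ↥(normalizer (P' : Set G)) ⧸ (centralizer (P' : Set G)).subgroupOf (normalizer (P' : Set G)) :=
    QuotientGroup.map _ _ ι hC.ge
  have hφ : Function.Injective φ := by
    rw [injective_iff_map_eq_one]
    intro q hq1
    obtain ⟨x, rfl⟩ := QuotientGroup.mk'_surjective _ q
    rw [QuotientGroup.mk'_apply, QuotientGroup.eq_one_iff, ← hC]
    exact (QuotientGroup.eq_one_iff (ι x)).1 hq1
  refine Cfsg.Agent.FittingCores.le_pCore (N := (Cfsg.pCore p _).comap φ) ?_ ?_ (hG : _)
  · exact (Cfsg.Agent.FittingCores.pCore_normal p).comap φ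
  · exact (Cfsg.Agent.FittingCores.pCore_isPGroup p).comap_of_injective φ hφ

end Cfsg.Agent.S3836
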