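import Cfsg.Statements.S3838
import Cfsg.Agent.Lib.Transfer.Tate
import Cfsg.Agent.Lib.Transfer.Abelian
import Mathlib

set_option autoImplicit false
open Cfsg

namespace Cfsg.Agent.S3838

open Cfsg.Agent

lemma of_abelian_normalizer {H : Type*} [Group H] [Finite H] {p : ℕ} [Fact p.Prime] (P : Sylow p H)
    (hP : IsMulCommutative (P : Subgroup H))
    (hN : Cfsg.HasNormalPComplement p ↥(Subgroup.normalizer ((P : Subgroup H) : Set H))) :
    Cfsg.HasNormalPComplement p H :=
  AbelianSylow.hasNormalPComplement_of_abelian P hP fun _ hg hgo =>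
    Fusion.mem_centralizer_of_hasNormalPComplement P.isPGroup' hN hg hgo

/-- Let G be a finite group with Sylow p-subgroup P such that N_G(P) has a normal p-complement. Then N_G(Q) has a normal p-complement for every subgroup Q with [P, P] ≤ Q ≤ Φ(P). -/
theorem result {G : Type*} [Group G] [Finite G] {p : ℕ} [Fact p.Prime] (P : Sylow p G) (hN : Cfsg.HasNormalPComplement p ↥(Subgroup.normalizer ((P : Subgroup G) : Set G))) (Q : Subgroup G) (h1 : (commutator ↥(P : Subgroup G)).map (P : Subgroup G).subtype ≤ Q) (h2 : Q ≤ (frattini ↥(P : Subgroup G)).map (P : Subgroup G).subtype) : Cfsg.HasNormalPComplement p ↥(Subgroup.normalizer (Q : Set G)) := by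
  classical
  set N := Subgroup.normalizer (Q : Set G) with hNdef
  have hQP : Q ≤ (P : Subgroup G) := h2.trans (Subgroup.map_subtype_le _)
  have hQn : (Q.subgroupOf (P : Subgroup G)).Normal := by
    have hc : commutator ↥(P : Subgroup G) ≤ Q.subgroupOf (P : Subgroup G) := fun x hx =>
      h1 (Subgroup.mem_map_of_mem _ hx)
    exact ⟨fun x hx g => by
      have := mul_mem (hc (Subgroup.commutator_mem_commutator (Subgroup.mem_top g) (Subgroup.mem_top x))) hx
      simpa [commutatorElement_def, mul_assoc] using this⟩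
  have hPN : (P : Subgroup G) ≤ N := (Subgroup.normal_subgroupOf_iff_le_normalizer hQP).1 hQn
  let P' : Sylow p ↥N := P.subtype hPN
  set R : Subgroup ↥N := Q.subgroupOf N with hR
  haveI : R.Normal := Subgroup.normal_in_normalizer
  have hRP : R ≤ (P' : Subgroup ↥N) := fun x hx => hQP hx
  let f := QuotientGroup.mk' R
  have hf : Function.Surjective f := QuotientGroup.mk'_surjective R
  let Pb : Sylow p (↥N ⧸ R) := P'.mapSurjective hf
  have hPb : (Pb : Subgroup (↥N ⧸ R)) = (P' : Subgroup ↥N).map f := rfl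
  have hab : IsMulCommutative (Pb : Subgroup (↥N ⧸ R)) := ⟨⟨fun a b => by
    obtain ⟨a, x, hx, rfl⟩ := a
    obtain ⟨b, y, hy, rfl⟩ := b
    apply Subtype.ext
    show f x * f y = f y * f x
    rw [← map_mul, ← map_mul]
    refine QuotientGroup.eq.2 ?_
    have h := h1 (Subgroup.mem_map_of_mem _ (Subgroup.commutator_mem_commutator
      (Subgroup.mem_top (⟨(y : G), hy⟩ : ↥(P : Subgroup G))⁻¹) (Subgroup.mem_top (⟨(x : G), hx⟩ : ↥(P : Subgroup G))⁻¹)))
    simpa [hR, Subgroup.mem_subgroupOf, commutatorElement_def, mul_assoc] using h⟩⟩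
  have hcm : (Pb : Subgroup (↥N ⧸ R)).comap f = (P' : Subgroup ↥N) := by
    rw [hPb, Subgroup.comap_map_eq, QuotientGroup.ker_mk', sup_eq_left.2 hRP]
  have hNP : Cfsg.HasNormalPComplement p ↥(Subgroup.normalizer ((P' : Subgroup ↥N) : Set ↥N)) := by
    refine PBasic.hasNormalPComplement_of_injective
      (((N.subtype).comp (Subgroup.normalizer ((P' : Subgroup ↥N) : Set ↥N)).subtype).codRestrict
        (Subgroup.normalizer ((P : Subgroup G) : Set G)) ?_) ?_ hN
    · intro g
      rw [Subgroup.mem_normalizer_iff]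
      intro x
      have hg := Subgroup.mem_normalizer_iff.1 g.2
      constructor
      · intro hx
        exact (hg ⟨x, hPN hx⟩).1 hx
      · intro hx
        have hxN : x ∈ N := by
          have := mul_mem (mul_mem (inv_mem g.1.2) (hPN hx)) g.1.2
          simpa [mul_assoc] using this
        exact (hg ⟨x, hxN⟩).2 hx
    · intro a b h
      have h' := congrArg Subtype.val h
      exact Subtype.ext (Subtype.ext h')
  have hNb : Cfsg.HasNormalPComplement p ↥(Subgroup.normalizer ((Pb : Subgroup (↥N ⧸ R)) : Set (↥N ⧸ R))) := by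
    have hmap : Subgroup.normalizer ((Pb : Subgroup (↥N ⧸ R)) : Set (↥N ⧸ R)) =
        (Subgroup.normalizer ((P' : Subgroup ↥N) : Set ↥N)).map f := by
      rw [← hcm, ← Subgroup.comap_normalizer_eq_of_surjective _ hf, Subgroup.map_comap_eq_self_of_surjective hf]
    rw [hmap]
    exact PBasic.hasNormalPComplement_of_surjective (f.subgroupMap _) (f.subgroupMap_surjective _) hNP
  have hQt := of_abelian_normalizer Pb hab hNb
  set K := (Cfsg.pPrimeCore p (↥N ⧸ R)).comap f with hK
  haveI : K.Normal := (Cfsg.pPrimeCore p (↥N ⧸ R)).normal_comap f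
  have hKP : K ⊓ (P' : Subgroup ↥N) ≤ (frattini (P' : Subgroup ↥N)).map (P' : Subgroup ↥N).subtype := by
    intro x hx
    have hfx : f x = 1 := by
      rw [← Subgroup.mem_bot, ← PBasic.inf_eq_bot_of_coprime (PBasic.pPrimeCore_coprime p _) Pb.isPGroup']
      exact ⟨hx.1, Subgroup.mem_map_of_mem f hx.2⟩
    have hxQ : (x : G) ∈ Q := (QuotientGroup.eq_one_iff x).1 hfx
    obtain ⟨y, hy, hyx⟩ := h2 hxQ
    let e : ↥(P : Subgroup G) ≃* ↥(P' : Subgroup ↥N) := (Subgroup.subgroupOfEquivOfLe hPN).symm
    have h3 := frattini_le_comap_frattini_of_surjective (φ := e.toMonoidHom) e.surjective hy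
    exact ⟨e y, h3, Subtype.ext hyx⟩
  refine PBasic.hasNormalPComplement_of_normal K (Tate.hasNormalPComplement_of_inf_le P' K hKP) ?_
  obtain ⟨k, hk⟩ := PBasic.exists_index_pow_of_isPGroup_quotient (PBasic.quotient_pPrimeCore_isPGroup hQt)
  refine IsPGroup.of_card (n := k) ?_
  rw [← Subgroup.index_eq_card, hK, Subgroup.index_comap_of_surjective _ hf, hk]

end Cfsg.Agent.S3838
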