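import Cfsg.Statements.S3839
import Cfsg.Agent.Lib.Transfer.Fusion
import Cfsg.Agent.Lib.Transfer.Basic
import Cfsg.Agent.Lib.FGBasics.Sylow
import Mathlib

set_option autoImplicit false
open Cfsg

namespace Cfsg.Agent.S3839

open Cfsg.Agent
open scoped Pointwise

variable {G : Type*} [Group G] [Finite G] {p : ℕ} [Fact p.Prime]

lemma isPGroup_map_of_forall {A H : Type*} [Group A] [Finite A] [Group H] (f : A →* H)
    (K : Subgroup A) (h : ∀ x ∈ K, (orderOf x).Coprime p → f x = 1) : IsPGroup p ↥(K.map f) := by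
  rintro ⟨_, x, hx, rfl⟩
  obtain ⟨u, v, huv, -, hv, ⟨k, hk⟩, hvc⟩ := PBasic.exists_pPart_mul (p := p) x
  refine ⟨k, Subtype.ext ?_⟩
  show f x ^ p ^ k = 1
  have hvK : v ∈ K := (Subgroup.zpowers_le.2 hx) hv
  rw [← huv, map_mul, h v hvK hvc, mul_one, ← map_pow, ← hk, pow_orderOf_eq_one, map_one]

lemma key_lemma (S : Sylow p G) {V L : Subgroup G}
    (hVS : V ≤ (S : Subgroup G)) (Q : Sylow p ↥(Subgroup.normalizer (V : Set G)))
    (hQ : (Q : Subgroup ↥(Subgroup.normalizer (V : Set G))) = (S : Subgroup G).subgroupOf _)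
    (hLN : L ≤ Subgroup.normalizer (V : Set G))
    (hLn : Subgroup.normalizer (V : Set G) ≤ Subgroup.normalizer (L : Set G))
    (hL : ∀ x ∈ L, (orderOf x).Coprime p → x ∈ Subgroup.centralizer (V : Set G))
    (hmax : ∀ R : Subgroup G, IsPGroup p R → V < R → ∀ g ∈ Subgroup.normalizer (R : Set G),
      (orderOf g).Coprime p → g ∈ Subgroup.centralizer (R : Set G))
    (hbad : ∃ g ∈ Subgroup.normalizer (V : Set G), (orderOf g).Coprime p ∧ g ∉ Subgroup.centralizer (V : Set G)) :
    (S : Subgroup G) ⊓ (L ⊔ V) ≤ V := by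
  by_contra hR
  generalize hN : Subgroup.normalizer (V : Set G) = N at *
  have hVN : V ≤ N := hN ▸ Subgroup.le_normalizer
  set R := (S : Subgroup G) ⊓ (L ⊔ V) with hRdef
  have hVR : V < R := lt_of_le_not_ge (le_inf hVS le_sup_right) hR
  have hRp : IsPGroup p R := S.isPGroup'.to_le inf_le_left
  have hRN : R ≤ N := inf_le_right.trans (sup_le hLN hVN)
  haveI hLnorm : (L.subgroupOf N).Normal := Subgroup.normal_subgroupOf_of_le_normalizer hLn
  haveI hVnorm : (V.subgroupOf N).Normal := Subgroup.normal_subgroupOf_of_le_normalizer hN.ge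
  have e : (L ⊔ V).subgroupOf N = L.subgroupOf N ⊔ V.subgroupOf N :=
    Subgroup.subgroupOf_sup hLN hVN
  have hfr := FGBasics.normalizer_inf_sup_eq_top Q (L.subgroupOf N ⊔ V.subgroupOf N)
  rw [show (Q : Subgroup ↥N) ⊓ (L.subgroupOf N ⊔ V.subgroupOf N) = R.subgroupOf N by
    rw [← e, hQ]; rfl] at hfr
  set φ : ↥N →* MulAut ↥V := V.normalizerMonoidHom.comp (Subgroup.inclusion hN.ge) with hφ
  have hker : ∀ x : ↥N, φ x = 1 ↔ (x : G) ∈ Subgroup.centralizer (V : Set G) := by
    intro x
    rw [hφ, MonoidHom.comp_apply, ← MonoidHom.mem_ker, Subgroup.normalizerMonoidHom_ker]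
    rfl
  set ψ := φ.rangeRestrict with hψ
  have hψs : Function.Surjective ψ := φ.rangeRestrict_surjective
  have hone : ∀ x : ↥N, (x : G) ∈ Subgroup.centralizer (V : Set G) → ψ x = 1 := fun x hx =>
    Subtype.ext ((hker x).2 hx)
  have hA : IsPGroup p ↥((Subgroup.normalizer ((R.subgroupOf N : Subgroup ↥N) : Set ↥N)).map ψ) := by
    refine isPGroup_map_of_forall ψ _ fun x hx hxo => hone x ?_
    have hx' := Subgroup.mem_normalizer_iff.1 hx
    refine Subgroup.centralizer_le hVR.le (hmax R hRp hVR x ?_ (by rwa [Subgroup.orderOf_coe]))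
    rw [Subgroup.mem_normalizer_iff]
    intro y
    constructor
    · intro hy
      exact (hx' ⟨y, hRN hy⟩).1 hy
    · intro hy
      have hyN : y ∈ N := by
        have := mul_mem (mul_mem (inv_mem x.2) (hRN hy)) x.2
        simpa [mul_assoc] using this
      exact (hx' ⟨y, hyN⟩).2 hy
  haveI : ((L.subgroupOf N).map ψ).Normal := hLnorm.map ψ hψs
  haveI : ((V.subgroupOf N).map ψ).Normal := hVnorm.map ψ hψs
  haveI : ((L.subgroupOf N ⊔ V.subgroupOf N).map ψ).Normal := by rw [Subgroup.map_sup]; infer_instance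
  have hB : IsPGroup p ↥((L.subgroupOf N ⊔ V.subgroupOf N).map ψ) := by
    rw [Subgroup.map_sup]
    refine IsPGroup.to_sup_of_normal_right ?_ ?_
    · exact isPGroup_map_of_forall ψ _ fun x hx hxo => hone x (hL x hx (by rwa [Subgroup.orderOf_coe]))
    · exact ((S.isPGroup'.to_le hVS).of_equiv (Subgroup.subgroupOfEquivOfLe hVN).symm).map ψ
  have hP : IsPGroup p ↥((⊤ : Subgroup ↥N).map ψ) := by
    rw [← hfr, Subgroup.map_sup]
    exact IsPGroup.to_sup_of_normal_right hA hB
  obtain ⟨g, hgN, hgo, hgC⟩ := hbad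
  apply hgC
  refine (hker ⟨g, hgN⟩).1 ?_
  obtain ⟨k, hk⟩ := hP ⟨ψ ⟨g, hgN⟩, Subgroup.mem_map_of_mem ψ (Subgroup.mem_top _)⟩
  have hd : orderOf (ψ ⟨g, hgN⟩) ∣ p ^ k := orderOf_dvd_of_pow_eq_one (congrArg Subtype.val hk)
  have hd2 : orderOf (ψ ⟨g, hgN⟩) ∣ orderOf g := (orderOf_map_dvd ψ _).trans (by rw [Subgroup.orderOf_mk])
  exact congrArg Subtype.val
    (orderOf_eq_one_iff.1 (Nat.eq_one_of_dvd_coprimes (Nat.Coprime.pow_right k hgo) hd2 hd))

/-- A Frobenius normal p-complement criterion relative to a strongly closed subgroup. Let G be a finite group, S a Sylow p-subgroup and D a subgroup of S strongly closed in S with respect to G. Then G has a normal p-complement if and only if N_G(U) has a normal p-complement for every subgroup U of D with C_D(U) ≤ U. -/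
theorem result {G : Type*} [Group G] [Finite G] {p : ℕ} [Fact p.Prime] (S : Sylow p G) (D : Subgroup G) (hD : Cfsg.IsStronglyClosed D (S : Subgroup G)) : Cfsg.HasNormalPComplement p G ↔ ∀ U : Subgroup G, U ≤ D → D ⊓ Subgroup.centralizer (U : Set G) ≤ U → Cfsg.HasNormalPComplement p ↥(Subgroup.normalizer (U : Set G)) := by
  refine ⟨fun h U _ _ => PBasic.hasNormalPComplement_subgroup _ h, fun h => ?_⟩
  apply Fusion.hasNormalPComplement_of_frobenius
  suffices H : ∀ n, ∀ V : Subgroup G, Nat.card G - Nat.card V = n → IsPGroup p V →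
      ∀ g ∈ Subgroup.normalizer (V : Set G), (orderOf g).Coprime p → g ∈ Subgroup.centralizer (V : Set G) from
    fun V => H _ V rfl
  intro n
  induction n using Nat.strong_induction_on with
  | _ n ih =>
    intro V0 hn hV0 g0 hg0 hgo0
    by_contra hgC0
    -- move `V0` into good position
    obtain ⟨T0⟩ : Nonempty (Sylow p ↥(Subgroup.normalizer (V0 : Set G))) := inferInstance
    obtain ⟨T, hT⟩ := (T0.isPGroup'.map (Subgroup.normalizer (V0 : Set G)).subtype).exists_le_sylow
    obtain ⟨c, hc⟩ := MulAction.exists_smul_eq G T S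
    set V := V0.map (MulAut.conj c).toMonoidHom with hVdef
    have hNV : Subgroup.normalizer (V : Set G) =
        (Subgroup.normalizer (V0 : Set G)).map (MulAut.conj c).toMonoidHom := by
      rw [hVdef, Subgroup.map_equiv_normalizer_eq]
    have hcard : Nat.card V = Nat.card V0 :=
      Subgroup.card_map_of_injective (MulAut.conj c).injective
    have hSc : ∀ x, x ∈ (T : Subgroup G) → c * x * c⁻¹ ∈ (S : Subgroup G) := by
      intro x hx
      rw [← hc, Sylow.coe_subgroup_smul]
      exact ⟨x, hx, rfl⟩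
    have hV0T : V0 ≤ (T : Subgroup G) := by
      have hp0 : IsPGroup p (V0.subgroupOf (Subgroup.normalizer (V0 : Set G))) :=
        hV0.of_equiv (Subgroup.subgroupOfEquivOfLe Subgroup.le_normalizer).symm
      haveI : (V0.subgroupOf (Subgroup.normalizer (V0 : Set G))).Normal := Subgroup.normal_in_normalizer
      intro x hx
      refine hT ⟨⟨x, Subgroup.le_normalizer hx⟩, ?_, rfl⟩
      exact (PBasic.le_pCore inferInstance hp0).trans (PBasic.pCore_le_sylow T0) hx
    have hVS : V ≤ (S : Subgroup G) := by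
      rintro _ ⟨x, hx, rfl⟩
      exact hSc x (hV0T hx)
    have hVp : IsPGroup p V := hV0.map _
    set N := Subgroup.normalizer (V : Set G) with hN
    have hbad : ∃ g ∈ N, (orderOf g).Coprime p ∧ g ∉ Subgroup.centralizer (V : Set G) := by
      refine ⟨c * g0 * c⁻¹, by rw [hNV]; exact ⟨g0, hg0, rfl⟩, ?_, ?_⟩
      · have ho : orderOf (c * g0 * c⁻¹) = orderOf g0 :=
          orderOf_injective (MulAut.conj c).toMonoidHom (MulAut.conj c).injective g0
        rw [ho]; exact hgo0
      · intro hh
        apply hgC0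
        rw [Subgroup.mem_centralizer_iff] at hh ⊢
        intro x hx
        have h2 := hh (c * x * c⁻¹) ⟨x, hx, rfl⟩
        apply (MulAut.conj c).injective
        rw [map_mul, map_mul]
        simpa using h2
    have hmax : ∀ R : Subgroup G, IsPGroup p R → V < R → ∀ g ∈ Subgroup.normalizer (R : Set G),
        (orderOf g).Coprime p → g ∈ Subgroup.centralizer (R : Set G) := by
      intro R hRp hVR
      refine ih _ ?_ R rfl hRp
      have h1 : Nat.card V < Nat.card R := by
        rcases lt_or_ge (Nat.card V) (Nat.card R) with h | h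
        · exact h
        · exact absurd (Subgroup.eq_of_le_of_card_ge hVR.le h) hVR.ne
      have h2 : Nat.card R ≤ Nat.card G := Subgroup.card_le_card_group R
      omega
    obtain ⟨Q, hQ⟩ : ∃ Q : Sylow p ↥N, (Q : Subgroup ↥N) = (S : Subgroup G).subgroupOf N := by
      have hmapT : ∀ y : ↥T0, c * ((y : ↥(Subgroup.normalizer (V0 : Set G))) : G) * c⁻¹ ∈ (S : Subgroup G) ⊓ N := by
        intro y
        exact ⟨hSc _ (hT ⟨_, y.2, rfl⟩), by rw [hNV]; exact ⟨_, y.1.2, rfl⟩⟩
      obtain ⟨Q, hQ⟩ := ((S.isPGroup').comap_of_injective N.subtype Subtype.coe_injective).exists_le_sylow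
      refine ⟨Q, (Subgroup.eq_of_le_of_card_ge hQ ?_).symm⟩
      have e : ↥(Subgroup.normalizer (V0 : Set G)) ≃* ↥N :=
        ((Subgroup.normalizer (V0 : Set G)).equivMapOfInjective _ (MulAut.conj c).injective).trans
          (MulEquiv.subgroupCongr hNV.symm)
      rw [Q.card_eq_multiplicity, ← Nat.card_congr e.toEquiv, ← T0.card_eq_multiplicity]
      refine Nat.card_le_card_of_injective (fun y => (⟨⟨_, (hmapT y).2⟩, (hmapT y).1⟩ :
        ↥((S : Subgroup G).subgroupOf N))) ?_
      intro a b hab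
      have h' := congrArg (fun z : ↥((S : Subgroup G).subgroupOf N) => ((z : ↥N) : G)) hab
      simp only at h'
      exact Subtype.ext (Subtype.ext (mul_left_cancel (mul_right_cancel h')))
    set U := V ⊓ D with hU
    have hinvU : ∀ g ∈ N, ∀ u ∈ U, g * u * g⁻¹ ∈ U := fun g hg u hu =>
      ⟨(Subgroup.mem_normalizer_iff.1 hg u).1 hu.1,
        hD.2 u hu.2 g (hVS ((Subgroup.mem_normalizer_iff.1 hg u).1 hu.1))⟩
    have hNU : N ≤ Subgroup.normalizer (U : Set G) := fun g hg => Subgroup.mem_normalizer_iff.2 fun x =>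
      ⟨fun hx => hinvU g hg x hx, fun hx => by
        have := hinvU g⁻¹ (inv_mem hg) _ hx
        simpa [mul_assoc] using this⟩
    have hC : D ⊓ Subgroup.centralizer (U : Set G) ≤ U := by
      set W := D ⊓ Subgroup.centralizer (U : Set G) with hW
      let L : Subgroup G :=
      { carrier := {x | x ∈ N ∧ (∀ u ∈ U, x * u = u * x) ∧ ∀ v ∈ V, x * v * x⁻¹ * v⁻¹ ∈ U}
        one_mem' := ⟨one_mem _, fun u _ => by simp, fun v _ => by simp [one_mem]⟩
        mul_mem' := fun {a b} ha hb => ⟨mul_mem ha.1 hb.1,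
          fun u hu => by rw [mul_assoc, hb.2.1 u hu, ← mul_assoc, ha.2.1 u hu, mul_assoc],
          fun v hv => by
            have hv' : b * v * b⁻¹ ∈ V := (Subgroup.mem_normalizer_iff.1 hb.1 v).1 hv
            have := mul_mem (ha.2.2 _ hv') (hb.2.2 v hv)
            simpa [mul_assoc] using this⟩
        inv_mem' := fun {a} ha => ⟨inv_mem ha.1,
          fun u hu => by rw [inv_mul_eq_iff_eq_mul, ← mul_assoc, ha.2.1 u hu, mul_inv_cancel_right],
          fun v hv => by
            have hv' : a⁻¹ * v * a ∈ V := by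
              simpa using (Subgroup.mem_normalizer_iff.1 (inv_mem ha.1) v).1 hv
            have := inv_mem (ha.2.2 _ hv')
            simpa [mul_assoc] using this⟩ }
      have hLN : L ≤ N := fun x hx => hx.1
      have hLn : N ≤ Subgroup.normalizer (L : Set G) := by
        suffices hh : ∀ g ∈ N, ∀ x ∈ L, g * x * g⁻¹ ∈ L from fun g hg => Subgroup.mem_normalizer_iff.2 fun x =>
          ⟨fun hx => hh g hg x hx, fun hx => by
            have := hh g⁻¹ (inv_mem hg) _ hx
            simpa [mul_assoc] using this⟩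
        intro g hg x hx
        refine ⟨mul_mem (mul_mem hg hx.1) (inv_mem hg), fun u hu => ?_, fun v hv => ?_⟩
        · have h1 := hx.2.1 _ (hinvU g⁻¹ (inv_mem hg) u hu)
          apply_fun (fun z => g * z * g⁻¹) at h1
          simpa [mul_assoc] using h1
        · have hv' : g⁻¹ * v * g ∈ V := by
            simpa using (Subgroup.mem_normalizer_iff.1 (inv_mem hg) v).1 hv
          have := hinvU g hg _ (hx.2.2 _ hv')
          simpa [mul_assoc] using this
      have hL : ∀ x ∈ L, (orderOf x).Coprime p → x ∈ Subgroup.centralizer (V : Set G) := by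
        intro x hx hxo
        rw [Subgroup.mem_centralizer_iff]
        intro v hv
        set u := x * v * x⁻¹ * v⁻¹ with hu
        have hxu : x * u = u * x := hx.2.1 u (hx.2.2 v hv)
        have hit : ∀ k : ℕ, x ^ k * v * (x ^ k)⁻¹ = u ^ k * v := by
          intro k
          induction k with
          | zero => simp
          | succ k ih =>
            calc x ^ (k + 1) * v * (x ^ (k + 1))⁻¹ = x * (x ^ k * v * (x ^ k)⁻¹) * x⁻¹ := by
                  rw [pow_succ']; group
              _ = x * (u ^ k * v) * x⁻¹ := by rw [ih]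
              _ = u ^ k * (x * v * x⁻¹) := by
                  have hc : x * u ^ k = u ^ k * x := (Commute.pow_right hxu k).eq
                  rw [← mul_assoc x, hc]; group
              _ = u ^ (k + 1) * v := by rw [pow_succ, hu]; group
        have h1 := hit (orderOf x)
        rw [pow_orderOf_eq_one, one_mul, inv_one, mul_one] at h1
        have h2 : u ^ orderOf x = 1 := mul_eq_right.1 h1.symm
        obtain ⟨k, hk⟩ := hVp ⟨u, (hx.2.2 v hv).1⟩
        have h3 : orderOf u ∣ p ^ k := orderOf_dvd_of_pow_eq_one (congrArg Subtype.val hk)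
        have h4 : u = 1 := orderOf_eq_one_iff.1
          (Nat.eq_one_of_dvd_coprimes (Nat.Coprime.pow_right k hxo) (orderOf_dvd_of_pow_eq_one h2) h3)
        rw [hu, mul_inv_eq_one, mul_inv_eq_iff_eq_mul] at h4
        exact h4.symm
      have hbase := key_lemma S hVS Q hQ hLN hLn hL hmax hbad
      have hDS : (S : Subgroup G) ≤ Subgroup.normalizer (D : Set G) := by
        suffices hh : ∀ g ∈ (S : Subgroup G), ∀ x ∈ D, g * x * g⁻¹ ∈ D from fun g hg =>
          Subgroup.mem_normalizer_iff.2 fun x => ⟨fun hx => hh g hg x hx, fun hx => by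
            have := hh g⁻¹ (inv_mem hg) _ hx
            simpa [mul_assoc] using this⟩
        exact fun g hg x hx => hD.2 x hx g (mul_mem (mul_mem hg (hD.1 hx)) (inv_mem hg))
      have hVW : V ≤ Subgroup.normalizer (W : Set G) := by
        suffices hh : ∀ g ∈ V, ∀ x ∈ W, g * x * g⁻¹ ∈ W from fun g hg =>
          Subgroup.mem_normalizer_iff.2 fun x => ⟨fun hx => hh g hg x hx, fun hx => by
            have := hh g⁻¹ (inv_mem hg) _ hx
            simpa [mul_assoc] using this⟩
        intro g hg x hx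
        refine ⟨(Subgroup.mem_normalizer_iff.1 (hDS (hVS hg)) x).1 hx.1, Subgroup.mem_centralizer_iff.2 fun u hu => ?_⟩
        have h1 := Subgroup.mem_centralizer_iff.1 hx.2 _ (hinvU g⁻¹ (inv_mem (Subgroup.le_normalizer hg)) u hu)
        apply_fun (fun z => g * z * g⁻¹) at h1
        simpa [mul_assoc] using h1
      intro w0 hw0
      by_contra hw0U
      have hWV : V < W ⊔ V := lt_of_le_not_ge le_sup_right fun hle => hw0U ⟨hle (le_sup_left (α := Subgroup G) hw0), hw0.1⟩
      have hPS : IsPGroup p ↥(W ⊔ V) := S.isPGroup'.to_le (sup_le (inf_le_left.trans hD.1) hVS)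
      have hlt := Fusion.lt_inf_normalizer (hPS.isNilpotent) hWV
      obtain ⟨y, hy, hyV⟩ := SetLike.exists_of_lt hlt
      have hyWV : y ∈ ((W ⊔ V : Subgroup G) : Set G) := hy.1
      rw [Subgroup.coe_mul_of_right_le_normalizer_left _ _ hVW] at hyWV
      obtain ⟨w, hw, v, hv, rfl⟩ := Set.mem_mul.1 hyWV
      have hwN : w ∈ N := by
        have := mul_mem (show w * v ∈ N from hy.2) (inv_mem (Subgroup.le_normalizer (show v ∈ V from hv)))
        simpa using this
      have hwL : w ∈ L := by
        refine ⟨hwN, fun u hu => (Subgroup.mem_centralizer_iff.1 hw.2 u hu).symm, fun v' hv' => ⟨?_, ?_⟩⟩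
        · show w * v' * w⁻¹ * v'⁻¹ ∈ V
          exact mul_mem ((Subgroup.mem_normalizer_iff.1 hwN v').1 hv') (inv_mem hv')
        · rw [mul_assoc w, mul_assoc w]
          have hwD : w ∈ D := hw.1
          exact mul_mem hwD ((Subgroup.mem_normalizer_iff.1 (hDS (hVS hv')) w⁻¹).1 (inv_mem hwD))
      exact hyV (mul_mem (hbase ⟨hD.1 hw.1, Subgroup.mem_sup_left hwL⟩) hv)
    obtain ⟨g, hgN, hgo, hgC⟩ := hbad
    have hNc : Cfsg.HasNormalPComplement p ↥N :=
      PBasic.hasNormalPComplement_of_injective (Subgroup.inclusion hNU) (Subgroup.inclusion_injective _)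
        (h U inf_le_right hC)
    exact hgC (Fusion.mem_centralizer_of_hasNormalPComplement hVp hNc hgN hgo)

end Cfsg.Agent.S3839
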