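import Cfsg.Statements.S3857
import Cfsg.Agent.Lib.FGStruct.FrobeniusData
import Cfsg.Agent.Lib.Solvable.FixedPointFree
import Cfsg.Agent.Lib.Solvable.Basic
import Mathlib

set_option autoImplicit false
open Cfsg

namespace Cfsg.Agent.S3857

open Subgroup
open scoped commutatorElement
open Cfsg.Agent

/-- No element order involves a prime inside and one outside `A`. -/
def NoMix (A : Set ℕ) (X : Type*) [Group X] : Prop :=
  ∀ (g : X) (a b : ℕ), a.Prime → b.Prime → a ∈ A → b ∉ A → a ∣ orderOf g → b ∣ orderOf g → False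

/-- All prime divisors in `A`. -/
def PiN (A : Set ℕ) (n : ℕ) : Prop := ∀ r : ℕ, r.Prime → r ∣ n → r ∈ A

theorem PiN.of_dvd {A : Set ℕ} {m n : ℕ} (h : PiN A n) (hd : m ∣ n) : PiN A m :=
  fun r hr hr' => h r hr (hr'.trans hd)

theorem PiN.mul {A : Set ℕ} {m n : ℕ} (h : PiN A m) (h' : PiN A n) : PiN A (m * n) :=
  fun r hr hd => (hr.dvd_mul.1 hd).elim (h r hr) (h' r hr)

theorem PiN.coprime {A : Set ℕ} {m n : ℕ} (h : PiN A m) (h' : PiN Aᶜ n) : m.Coprime n :=
  Nat.coprime_of_dvd fun r hr h1 h2 => h' r hr h2 (h r hr h1)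

theorem NoMix.compl {A : Set ℕ} {X : Type*} [Group X] (h : NoMix A X) : NoMix Aᶜ X :=
  fun g a b ha hb haA hbA h1 h2 => h g b a hb ha (not_not.1 hbA) haA h2 h1

theorem NoMix.of_injective {A : Set ℕ} {X Y : Type*} [Group X] [Group Y] (f : Y →* X)
    (hf : Function.Injective f) (h : NoMix A X) : NoMix A Y :=
  fun g a b ha hb haA hbA h1 h2 => h (f g) a b ha hb haA hbA
    (by rwa [orderOf_injective f hf]) (by rwa [orderOf_injective f hf])

theorem NoMix.of_surjective {A : Set ℕ} {X Y : Type*} [Group X] [Group Y] (f : X →* Y)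
    (hf : Function.Surjective f) (h : NoMix A X) : NoMix A Y := by
  intro g a b ha hb haA hbA h1 h2
  obtain ⟨x, rfl⟩ := hf g
  exact h x a b ha hb haA hbA (h1.trans (orderOf_map_dvd f x)) (h2.trans (orderOf_map_dvd f x))

theorem NoMix.fpf {A : Set ℕ} {X : Type*} [Group X] (h : NoMix A X) {N H : Subgroup X}
    (hN : PiN A (Nat.card N)) (hH : PiN Aᶜ (Nat.card H)) {n k : X} (hn : n ∈ N) (hk : k ∈ H)
    (hk1 : k ≠ 1) (hc : Commute n k) : n = 1 := by
  by_contra hn1
  have h1 : PiN A (orderOf n) := hN.of_dvd (Subgroup.orderOf_dvd_natCard N hn)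
  have h2 : PiN Aᶜ (orderOf k) := hH.of_dvd (Subgroup.orderOf_dvd_natCard H hk)
  obtain ⟨a, ha, had⟩ := Nat.exists_prime_and_dvd (mt orderOf_eq_one_iff.1 hn1)
  obtain ⟨b, hb, hbd⟩ := Nat.exists_prime_and_dvd (mt orderOf_eq_one_iff.1 hk1)
  have ho : orderOf (n * k) = orderOf n * orderOf k := hc.orderOf_mul_eq_mul_orderOf_of_coprime (h1.coprime h2)
  exact h (n * k) a b ha hb (h1 a ha had) (h2 b hb hbd)
    (ho ▸ Dvd.dvd.mul_right had _) (ho ▸ Dvd.dvd.mul_left hbd _)

theorem exists_max {A : Set ℕ} (X : Type*) [Group X] [Finite X] :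
    ∃ K : Subgroup X, K.Normal ∧ PiN A (Nat.card K) ∧
      ∀ L : Subgroup X, L.Normal → PiN A (Nat.card L) → L ≤ K := by
  obtain ⟨K, ⟨hK, hKA⟩, hmax⟩ := Set.Finite.exists_maximal
    (s := {K : Subgroup X | K.Normal ∧ PiN A (Nat.card K)}) (Set.toFinite _)
    ⟨⊥, inferInstance, fun r hr h => absurd (Nat.le_of_dvd one_pos (by simpa using h)) (not_le.2 hr.one_lt)⟩
  haveI := hK
  refine ⟨K, hK, hKA, fun L hL hLA => ?_⟩
  haveI := hL
  refine le_sup_right.trans (hmax ⟨inferInstance, PiN.of_dvd (hKA.mul hLA) ?_⟩ le_sup_left)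
  exact ⟨_, (SolvBasic.card_sup_mul_card_inf (le_normalizer_of_normal : L ≤ normalizer (K : Set X))).symm⟩

theorem frob {A : Set ℕ} {X : Type*} [Group X] [Finite X] (h : NoMix A X) {N H : Subgroup X} [N.Normal]
    (hc : IsComplement' N H) (hN : PiN A (Nat.card N)) (hH : PiN Aᶜ (Nat.card H)) (hNne : N ≠ ⊥)
    (hHne : H ≠ ⊥) : FrobData.FData N H := by
  refine ⟨inferInstance, hc, ?_, hNne, hHne⟩
  intro g hg y hy hy'
  by_contra hy1
  obtain ⟨n, hn, k, hk, rfl⟩ : ∃ n ∈ N, ∃ k ∈ H, n * k = g := by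
    obtain ⟨⟨n, k⟩, hnk⟩ := hc.2 g
    exact ⟨n, n.2, k, k.2, hnk⟩
  set w := k * y * k⁻¹ with hw
  have hwH : w ∈ H := mul_mem (mul_mem hk hy) (inv_mem hk)
  have e : n * k * y * (n * k)⁻¹ = n * w * n⁻¹ := by rw [hw]; group
  rw [e] at hy'
  have h1 : n * w * n⁻¹ * w⁻¹ ∈ N ⊓ H := by
    refine ⟨?_, H.mul_mem hy' (H.inv_mem hwH)⟩
    rw [mul_assoc, mul_assoc]
    exact mul_mem hn (by simpa [mul_assoc] using (inferInstance : N.Normal).conj_mem _ (inv_mem hn) w)
  rw [hc.disjoint.eq_bot, mem_bot, mul_inv_eq_one, mul_inv_eq_iff_eq_mul] at h1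
  have hn1 := h.fpf hN hH hn hwH (fun hw1 => hy1 (conj_eq_one_iff.1 hw1)) h1
  rw [hn1, one_mul] at hg
  exact hg hk

theorem kernel_eq {X : Type*} [Group X] [Finite X] {N H : Subgroup X} (h : FrobData.FData N H) :
    Cfsg.frobeniusKernel H = (N : Set X) := by
  haveI := h.normal
  ext x
  constructor
  · rintro (rfl | hx)
    · exact one_mem N
    · rcases h.decomp x with hN | ⟨k, -, a, ha, -, rfl⟩
      · exact hN
      · exact absurd ⟨a, ha, rfl⟩ (hx k)
  · intro hx
    by_cases h1 : x = 1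
    · exact Or.inl h1
    · refine Or.inr fun g hg => h1 ?_
      obtain ⟨a, ha, rfl⟩ := hg
      have haN : a ∈ N := by
        have := h.normal.conj_mem _ hx g⁻¹
        simpa [mul_assoc] using this
      rw [h.eq_one_of_mem haN ha]
      exact map_one _

theorem piN_index {A : Set ℕ} {Q : Type*} [Group Q] [Finite Q] (h : NoMix A Q) {Z K : Subgroup Q}
    [Z.Normal] [K.Normal] [hZc : IsCyclic Z] (hZ : PiN A (Nat.card Z)) (hZne : Z ≠ ⊥)
    (hKA : PiN A (Nat.card K))
    (hK : ∀ L : Subgroup Q, L.Normal → PiN A (Nat.card L) → L ≤ K) : PiN Aᶜ K.index := by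
  obtain ⟨z, hz⟩ := (Subgroup.isCyclic_iff_exists_zpowers_eq_top Z).1 hZc
  have hzZ : z ∈ Z := hz ▸ mem_zpowers z
  have hz1 : z ≠ 1 := fun e => hZne (by rw [← hz, e, zpowers_one_eq_bot])
  have hC : PiN A (Nat.card (centralizer (Z : Set Q))) := by
    intro r hr hrd
    by_contra hrA
    haveI := Fact.mk hr
    obtain ⟨c, hc⟩ := exists_prime_orderOf_dvd_card' r hrd
    have hc' : orderOf (c : Q) = r := (Subgroup.orderOf_coe c).trans hc
    refine hz1 (h.fpf hZ (H := zpowers (c : Q)) ?_ hzZ (mem_zpowers _) ?_ (mem_centralizer_iff.1 c.2 z hzZ))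
    · rw [Nat.card_zpowers, hc']
      intro q hq hqd
      rw [(Nat.prime_dvd_prime_iff_eq hq hr).1 hqd]; exact hrA
    · intro e; rw [e, orderOf_one] at hc'; exact hr.ne_one hc'.symm
  have hCK : centralizer (Z : Set Q) ≤ K := hK _ inferInstance hC
  have hcomm : ∀ g k : Q, ⁅g, k⁆ ∈ K := by
    intro g k
    refine hCK (mem_centralizer_iff.2 fun w hw => ?_)
    obtain ⟨i, hi⟩ := mem_zpowers_iff.1 (hz.symm ▸ (inferInstance : Z.Normal).conj_mem z hzZ g : g * z * g⁻¹ ∈ zpowers z)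
    obtain ⟨j, hj⟩ := mem_zpowers_iff.1 (hz.symm ▸ (inferInstance : Z.Normal).conj_mem z hzZ k : k * z * k⁻¹ ∈ zpowers z)
    obtain ⟨t, rfl⟩ := mem_zpowers_iff.1 (hz.symm ▸ hw : w ∈ zpowers z)
    refine (Commute.zpow_left ?_ t).eq
    have e1 : g * k * z * (g * k)⁻¹ = k * g * z * (k * g)⁻¹ := by
      calc g * k * z * (g * k)⁻¹ = g * (k * z * k⁻¹) * g⁻¹ := by group
        _ = k * (g * z * g⁻¹) * k⁻¹ := by
            rw [← hj, ← hi, ← conj_zpow, ← conj_zpow, ← hi, ← hj, ← zpow_mul, ← zpow_mul, mul_comm]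
        _ = _ := by group
    have e2 : ⁅g, k⁆ * z * ⁅g, k⁆⁻¹ = z := by
      calc ⁅g, k⁆ * z * ⁅g, k⁆⁻¹ = g * k * (g⁻¹ * k⁻¹ * z * k * g) * (g * k)⁻¹ := by
            simp only [commutatorElement_def]; group
        _ = _ := by
            set w := g⁻¹ * k⁻¹ * z * k * g with hw'
            have hwZ : w ∈ Z := by
              have := (inferInstance : Z.Normal).conj_mem z hzZ (g⁻¹ * k⁻¹)
              simpa [hw', mul_assoc] using this
            obtain ⟨s, hs⟩ := mem_zpowers_iff.1 (hz.symm ▸ hwZ : w ∈ zpowers z)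
            rw [← hs, ← conj_zpow, e1, conj_zpow, hs, hw']
            group
    exact (mul_inv_eq_iff_eq_mul.1 e2).symm
  intro r hr hrd hrA
  haveI := Fact.mk hr
  obtain ⟨y, hy⟩ := exists_prime_orderOf_dvd_card' (G := Q ⧸ K) r hrd
  have hyc : ∀ u : Q ⧸ K, u * y * u⁻¹ = y := by
    intro u
    obtain ⟨g, rfl⟩ := QuotientGroup.mk'_surjective K u
    obtain ⟨k, rfl⟩ := QuotientGroup.mk'_surjective K y
    rw [← map_inv, ← map_mul, ← map_mul, QuotientGroup.mk'_apply, QuotientGroup.mk'_apply, QuotientGroup.eq]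
    have h' := hcomm g k⁻¹
    simpa [commutatorElement_def, mul_assoc] using h'
  haveI : (zpowers y).Normal := ⟨fun w hw u => by
    obtain ⟨i, rfl⟩ := mem_zpowers_iff.1 hw
    rw [← conj_zpow, hyc]; exact zpow_mem (mem_zpowers y) i⟩
  have hle := hK ((zpowers y).comap (QuotientGroup.mk' K)) inferInstance (PiN.of_dvd (m := Nat.card _)
    (PiN.mul (m := r) (fun q hq hqd => (Nat.prime_dvd_prime_iff_eq hq hr).1 hqd ▸ hrA) hKA) ?_)
  · obtain ⟨k, rfl⟩ := QuotientGroup.mk'_surjective K y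
    have hkK : k ∈ K := hle (mem_zpowers _)
    rw [QuotientGroup.mk'_apply, (QuotientGroup.eq_one_iff k).2 hkK, orderOf_one] at hy
    exact hr.ne_one hy.symm
  · set T := (zpowers y).comap (QuotientGroup.mk' K) with hT
    have h1 := T.card_mul_index
    rw [hT, index_comap_of_surjective _ (QuotientGroup.mk'_surjective K)] at h1
    have h2 := (zpowers y).card_mul_index
    rw [Nat.card_zpowers, hy] at h2
    have h3 := K.card_eq_card_quotient_mul_card_subgroup
    refine dvd_of_eq (Nat.eq_of_mul_eq_mul_right (Nat.pos_of_ne_zero index_ne_zero_of_finite) (h1.trans ?_))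
    rw [h3, ← h2]
    ring

theorem main {A : Set ℕ} {G : Type*} [Group G] [Finite G] [Group.IsSolvable G] (h : NoMix A G)
    (hb : ∃ b ∉ A, b.Prime ∧ b ∣ Nat.card G) (hA : ∃ M : Subgroup G, M.Normal ∧ M ≠ ⊥ ∧ PiN A (Nat.card M)) :
    (∃ C : Subgroup G, Cfsg.IsFrobeniusComplement C) ∨
    (∃ (H K : Subgroup G) (_ : H.Normal), K.Normal ∧ H < K ∧
      (∃ C : Subgroup ↥K, Cfsg.IsFrobeniusComplement C ∧ Cfsg.frobeniusKernel C = (H.subgroupOf K : Set ↥K)) ∧
      (∃ C : Subgroup (G ⧸ H), Cfsg.IsFrobeniusComplement C ∧ Cfsg.frobeniusKernel C = (K.map (QuotientGroup.mk' H) : Set (G ⧸ H)))) := by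
  classical
  obtain ⟨N, hNn, hNA, hNmax⟩ := exists_max (A := A) G
  haveI := hNn
  have hNne : N ≠ ⊥ := by
    obtain ⟨M, hM, hMne, hMA⟩ := hA
    exact fun e => hMne (le_bot_iff.1 (e ▸ hNmax M hM hMA))
  have hNt : N ≠ ⊤ := by
    obtain ⟨b, hbA, hbp, hbd⟩ := hb
    exact fun e => hbA (hNA b hbp (by rwa [e, card_top]))
  set f := QuotientGroup.mk' N with hf
  have hsurj : Function.Surjective f := QuotientGroup.mk'_surjective N
  haveI : Group.IsSolvable (G ⧸ N) := Group.isSolvable_of_surjective hsurj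
  haveI : Nontrivial (G ⧸ N) := QuotientGroup.nontrivial_iff.2 hNt
  have hQ : NoMix A (G ⧸ N) := h.of_surjective f hsurj
  have hcardmap : ∀ L : Subgroup (G ⧸ N), Nat.card (L.comap f) = Nat.card L * Nat.card N := fun L => by
    have h1 := (L.comap f).card_mul_index
    rw [index_comap_of_surjective _ hsurj, N.card_eq_card_quotient_mul_card_subgroup, ← L.card_mul_index] at h1
    exact Nat.eq_of_mul_eq_mul_right (Nat.pos_of_ne_zero (index_ne_zero_of_finite (H := L))) (by rw [h1]; ring)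
  obtain ⟨Z, s, hs, hZn, hZne, -, hZc, hZexp, hZp, -⟩ :=
    SolvBasic.exists_minimal_normal_abelian (N := (⊤ : Subgroup (G ⧸ N))) inferInstance top_ne_bot
  haveI := hZn
  haveI := Fact.mk hs
  have hZpi : ∀ B : Set ℕ, s ∈ B → PiN B (Nat.card Z) := by
    intro B hsB r hr hrd
    obtain ⟨k, hk⟩ := hZp.exists_card_eq
    rw [hk] at hrd
    rw [(Nat.prime_dvd_prime_iff_eq hr hs).1 (hr.dvd_of_dvd_pow hrd)]; exact hsB
  have hsA : s ∉ A := by
    intro hsA
    have h1 : Z.comap f ≤ N := hNmax _ inferInstance (by rw [hcardmap]; exact (hZpi A hsA).mul hNA)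
    refine hZne (eq_bot_iff.2 fun y hy => ?_)
    obtain ⟨x, rfl⟩ := hsurj y
    rw [mem_bot, hf, QuotientGroup.mk'_apply, QuotientGroup.eq_one_iff]
    exact h1 hy
  -- `Z` is cyclic
  set T := Z.comap f with hT
  have hNT : N ≤ T := fun x hx => by
    rw [hT, mem_comap, hf, QuotientGroup.mk'_apply, (QuotientGroup.eq_one_iff x).2 hx]; exact one_mem _
  have hidxN : (N.subgroupOf T).index = Nat.card Z := by
    have h1 := (N.subgroupOf T).card_mul_index
    rw [hcardmap, Nat.card_congr (subgroupOfEquivOfLe hNT).toEquiv, mul_comm (Nat.card Z)] at h1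
    exact Nat.eq_of_mul_eq_mul_left Nat.card_pos h1
  obtain ⟨S, hS⟩ := exists_right_complement'_of_coprime (N := N.subgroupOf T) (by
    rw [hidxN, Nat.card_congr (subgroupOfEquivOfLe hNT).toEquiv]
    exact hNA.coprime (hZpi Aᶜ hsA))
  have hScard : Nat.card S = Nat.card Z := by
    rw [← hidxN]; exact hS.symm.index_eq_card.symm
  have hcycZ : IsCyclic Z := by
    let g : S →* Z := MonoidHom.codRestrict (f.comp (T.subtype.comp S.subtype)) Z fun x => (x : T).2
    have hg : Function.Injective g := by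
      rw [injective_iff_map_eq_one]
      intro x hx
      have hxN : ((x : T) : G) ∈ N := (QuotientGroup.eq_one_iff _).1 (congrArg Subtype.val hx)
      have : (x : T) ∈ N.subgroupOf T ⊓ S := ⟨hxN, x.2⟩
      rw [hS.disjoint.eq_bot, mem_bot] at this
      exact Subtype.ext this
    have hgs : Function.Surjective g :=
      (hg.bijective_of_nat_card_le hScard.symm.le).2
    haveI : IsMulCommutative (S.map T.subtype) := by
      refine .of_setLike_mul_comm ?_
      rintro _ ⟨x, hx, rfl⟩ _ ⟨y, hy, rfl⟩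
      refine (congrArg T.subtype (congrArg Subtype.val (hg (a₁ := ⟨x, hx⟩ * ⟨y, hy⟩) (a₂ := ⟨y, hy⟩ * ⟨x, hx⟩) ?_)) :)
      rw [map_mul, map_mul]
      exact hZc.is_comm.comm _ _
    have hScA : PiN Aᶜ (Nat.card (S.map T.subtype)) := by
      rw [card_map_of_injective T.subtype_injective, hScard]; exact hZpi Aᶜ hsA
    have hcycS := FpfStruct.abelian_cyclic (K := N) (A := S.map T.subtype) hNne le_normalizer_of_normal
      fun a ha ha1 => eq_bot_iff.2 fun x hx => mem_bot.2
        (h.fpf hNA hScA hx.1 ha ha1 (mem_centralizer_singleton_iff.1 hx.2))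
    haveI : IsCyclic S := (S.equivMapOfInjective T.subtype T.subtype_injective).symm.isCyclic.1 hcycS
    exact isCyclic_of_surjective g hgs
  haveI := hcycZ
  obtain ⟨K, hKn, hKB, hKmax⟩ := exists_max (A := Aᶜ) (G ⧸ N)
  haveI := hKn
  have hidxK : PiN A K.index := by
    have := piN_index hQ.compl (Z := Z) (hZpi Aᶜ hsA) hZne hKB hKmax
    rwa [compl_compl] at this
  have hKne : K ≠ ⊥ := fun e => hZne (le_bot_iff.1 (e ▸ hKmax Z hZn (hZpi Aᶜ hsA)))
  set L := K.comap f with hL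
  have hNL : N ≤ L := fun x hx => by
    rw [hL, mem_comap, hf, QuotientGroup.mk'_apply, (QuotientGroup.eq_one_iff x).2 hx]; exact one_mem _
  have hidxL : (N.subgroupOf L).index = Nat.card K := by
    have h1 := (N.subgroupOf L).card_mul_index
    rw [hcardmap, Nat.card_congr (subgroupOfEquivOfLe hNL).toEquiv, mul_comm (Nat.card K)] at h1
    exact Nat.eq_of_mul_eq_mul_left Nat.card_pos h1
  obtain ⟨C, hC⟩ := exists_right_complement'_of_coprime (N := N.subgroupOf L) (by
    rw [hidxL, Nat.card_congr (subgroupOfEquivOfLe hNL).toEquiv]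
    exact hNA.coprime hKB)
  have hCcard : Nat.card C = Nat.card K := by
    rw [← hidxL]; exact hC.symm.index_eq_card.symm
  have hCne : C ≠ ⊥ := fun e => hKne (card_eq_one.1 (by rw [← hCcard, e, card_bot]))
  have hF : FrobData.FData (N.subgroupOf L) C := frob (h.of_injective L.subtype L.subtype_injective) hC
    (by rw [Nat.card_congr (subgroupOfEquivOfLe hNL).toEquiv]; exact hNA) (hCcard ▸ hKB)
    (fun e => hNne (by rwa [subgroupOf_eq_bot, disjoint_iff, inf_eq_left.2 hNL] at e))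
    hCne
  by_cases hKt : K = ⊤
  · left
    have hLt : L = ⊤ := by rw [hL, hKt, comap_top]
    have e : L ≃* G := (MulEquiv.subgroupCongr hLt).trans topEquiv
    haveI : (((N.subgroupOf L).map e.toMonoidHom)).Normal := hF.normal.map _ e.surjective
    obtain ⟨C', hC'⟩ := exists_right_complement'_of_coprime (N := N) (by
      have h1 : N.index = Nat.card K := by rw [hKt, card_top]; rfl
      rw [h1]; exact hNA.coprime hKB)
    have hC'card : Nat.card C' = Nat.card K := by
      rw [← hC'.symm.index_eq_card, hKt, card_top]; rfl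
    exact ⟨C', (frob h hC' hNA (hC'card ▸ hKB) hNne
      fun e => hKne (card_eq_one.1 (by rw [← hC'card, e, card_bot]))).isFrobeniusComplement⟩
  · right
    refine ⟨N, L, hNn, inferInstance, lt_of_le_of_ne hNL fun e => hKne ?_,
      ⟨C, hF.isFrobeniusComplement, kernel_eq hF⟩, ?_⟩
    · rw [eq_bot_iff]
      intro y hy
      obtain ⟨x, rfl⟩ := hsurj y
      rw [mem_bot, hf, QuotientGroup.mk'_apply, QuotientGroup.eq_one_iff, e]
      exact hy
    obtain ⟨D, hD⟩ := exists_right_complement'_of_coprime (N := K) (hidxK.coprime hKB).symm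
    have hDcard : Nat.card D = K.index := hD.symm.index_eq_card.symm
    have hF2 : FrobData.FData K D := frob hQ.compl hD hKB (by rw [compl_compl, hDcard]; exact hidxK) hKne
      fun e => hKt (index_eq_one.1 (by rw [← hDcard, e, card_bot]))
    refine ⟨D, hF2.isFrobeniusComplement, ?_⟩
    rw [kernel_eq hF2, hL, map_comap_eq_self_of_surjective hsurj]

/-- A finite solvable group whose prime graph (prime divisors of the order, two distinct primes joined when there is an element of order their product) is disconnected is a Frobenius group or a 2-Frobenius group (it has normal subgroups H < K with K a Frobenius group with kernel H and G/H a Frobenius group with kernel K/H). -/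
theorem result {G : Type*} [Group G] [Finite G] (hsol : Group.IsSolvable G)
    (hdisc : (∃ A : Set ℕ, (∃ a ∈ A, a.Prime ∧ a ∣ Nat.card G) ∧ (∃ b ∉ A, b.Prime ∧ b ∣ Nat.card G) ∧
      ∀ a ∈ A, ∀ b ∉ A, a.Prime → b.Prime → a ∣ Nat.card G → b ∣ Nat.card G → ¬ ∃ g : G, orderOf g = a * b)) :
    (∃ C : Subgroup G, Cfsg.IsFrobeniusComplement C) ∨
    (∃ (H K : Subgroup G) (_ : H.Normal), K.Normal ∧ H < K ∧
      (∃ C : Subgroup ↥K, Cfsg.IsFrobeniusComplement C ∧ Cfsg.frobeniusKernel C = (H.subgroupOf K : Set ↥K)) ∧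
      (∃ C : Subgroup (G ⧸ H), Cfsg.IsFrobeniusComplement C ∧ Cfsg.frobeniusKernel C = (K.map (QuotientGroup.mk' H) : Set (G ⧸ H)))) := by
  classical
  haveI := hsol
  obtain ⟨A, ⟨a, haA, hap, had⟩, ⟨b, hbA, hbp, hbd⟩, hno⟩ := hdisc
  have hmix : NoMix A G := by
    intro g a b ha hb haA hbA h1 h2
    have hco : Nat.Coprime a b := (Nat.coprime_primes ha hb).2 fun e => hbA (e ▸ haA)
    refine hno a haA b hbA ha hb (h1.trans (orderOf_dvd_natCard g)) (h2.trans (orderOf_dvd_natCard g))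
      ⟨g ^ (orderOf g / (a * b)), orderOf_pow_orderOf_div (orderOf_pos g).ne' (hco.mul_dvd_of_dvd_of_dvd h1 h2)⟩
  haveI : Nontrivial G := Finite.one_lt_card_iff_nontrivial.1
    (lt_of_lt_of_le hap.one_lt (Nat.le_of_dvd Nat.card_pos had))
  obtain ⟨M, s, hs, hMn, hMne, -, -, -, hMp, -⟩ :=
    Cfsg.Agent.SolvBasic.exists_minimal_normal_abelian (N := (⊤ : Subgroup G)) inferInstance top_ne_bot
  haveI := Fact.mk hs
  have hMpi : ∀ B : Set ℕ, s ∈ B → PiN B (Nat.card M) := by
    intro B hsB r hr hrd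
    obtain ⟨k, hk⟩ := hMp.exists_card_eq
    rw [hk] at hrd
    rw [(Nat.prime_dvd_prime_iff_eq hr hs).1 (hr.dvd_of_dvd_pow hrd)]; exact hsB
  by_cases hsA : s ∈ A
  · exact main hmix ⟨b, hbA, hbp, hbd⟩ ⟨M, hMn, hMne, hMpi A hsA⟩
  · exact main hmix.compl ⟨a, not_not.2 haA, hap, had⟩ ⟨M, hMn, hMne, hMpi Aᶜ hsA⟩

end Cfsg.Agent.S3857
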