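import Cfsg.Statements.S3858


set_option autoImplicit false
open Cfsg

namespace Cfsg.Agent.S3858

/-- Let G be a finite group with a normal non-abelian simple subgroup T whose centralizer is trivial (G almost simple with socle T), r a prime and R a Sylow r-subgroup of G meeting T nontrivially. Then R lies in exactly one maximal subgroup of G if and only if G has exactly one conjugacy class of maximal subgroups whose index is prime to r. -/
theorem result {G : Type*} [Group G] [Finite G] (T : Subgroup G) [T.Normal] (hT : IsSimpleGroup T) (hna : ¬ IsMulCommutative T)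
    (hC : Subgroup.centralizer (T : Set G) = ⊥) {r : ℕ} [Fact r.Prime] (R : Sylow r G) (hR0 : (R : Subgroup G) ⊓ T ≠ ⊥) :
    (∃! M : Subgroup G, IsCoatom M ∧ (R : Subgroup G) ≤ M) ↔
      ((∃ M : Subgroup G, IsCoatom M ∧ ¬ r ∣ M.index) ∧
        ∀ M₁ M₂ : Subgroup G, IsCoatom M₁ → ¬ r ∣ M₁.index → IsCoatom M₂ → ¬ r ∣ M₂.index → ∃ g : G, M₂ = M₁.map (MulAut.conj g).toMonoidHom) := by
  have hsyl : ∀ M : Subgroup G, ¬ r ∣ M.index →
      ∃ g : G, (R : Subgroup G).map (MulAut.conj g).toMonoidHom ≤ M := by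
    intro M hM
    obtain ⟨Q⟩ : Nonempty (Sylow r M) := inferInstance
    have hidx : ¬ r ∣ ((Q : Subgroup M).map M.subtype).index := by
      rw [Subgroup.index_map_subtype]
      exact Nat.Prime.not_dvd_mul Fact.out Q.not_dvd_index hM
    have hp : IsPGroup r ((Q : Subgroup M).map M.subtype) := Q.isPGroup'.map _
    obtain ⟨g, hg⟩ := MulAction.exists_smul_eq G R (hp.toSylow hidx)
    refine ⟨g, ?_⟩
    have h1 : ((g • R : Sylow r G) : Subgroup G) = (R : Subgroup G).map (MulAut.conj g).toMonoidHom := by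
      rw [Sylow.smul_def]; rfl
    rw [← h1, hg, IsPGroup.toSylow_coe]
    exact Subgroup.map_subtype_le _
  have hconjM : ∀ (M : Subgroup G) (g : G), IsCoatom M → IsCoatom (M.map (MulAut.conj g).toMonoidHom) :=
    fun M g hM => (OrderIso.isCoatom_iff ((MulAut.conj g).mapSubgroup) M).2 hM
  have hback : ∀ (X : Subgroup G) (g : G),
      (X.map (MulAut.conj g).toMonoidHom).map (MulAut.conj g⁻¹).toMonoidHom = X := fun X g => by
    rw [Subgroup.map_map]
    convert Subgroup.map_id X
    ext y; simp [mul_assoc]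
  constructor
  · rintro ⟨M, ⟨hM, hRM⟩, hu⟩
    refine ⟨⟨M, hM, fun h => R.not_dvd_index (h.trans (Subgroup.index_dvd_of_le hRM))⟩, ?_⟩
    have key : ∀ M₁ : Subgroup G, IsCoatom M₁ → ¬ r ∣ M₁.index →
        ∃ g : G, M₁ = M.map (MulAut.conj g).toMonoidHom := by
      intro M₁ h1 h2
      obtain ⟨g, hg⟩ := hsyl M₁ h2
      refine ⟨g, ?_⟩
      have h3 : M₁.map (MulAut.conj g⁻¹).toMonoidHom = M :=
        hu _ ⟨hconjM M₁ g⁻¹ h1, (hback (R : Subgroup G) g).ge.trans (Subgroup.map_mono hg)⟩
      have h4 := hback M₁ g⁻¹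
      rw [inv_inv, h3] at h4
      exact h4.symm
    intro M₁ M₂ a1 a2 b1 b2
    obtain ⟨g₁, e1⟩ := key M₁ a1 a2
    obtain ⟨g₂, e2⟩ := key M₂ b1 b2
    refine ⟨g₂ * g₁⁻¹, ?_⟩
    rw [e1, e2, Subgroup.map_map]
    congr 1
    ext y; simp [mul_assoc]
  · rintro ⟨-, hconj⟩
    have hN : Subgroup.normalizer ((R : Subgroup G) : Set G) ≠ ⊤ := by
      intro h
      have hn : (R : Subgroup G).Normal := Subgroup.normalizer_eq_top_iff.1 h
      rcases (hn.subgroupOf T).eq_bot_or_eq_top with h0 | h0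
      · rw [Subgroup.subgroupOf_eq_bot, disjoint_iff] at h0
        exact hR0 h0
      · rw [Subgroup.subgroupOf_eq_top] at h0
        have hTp : IsPGroup r T := R.isPGroup'.to_le h0
        haveI : Nontrivial T := hT.toNontrivial
        haveI := hTp.center_nontrivial
        rcases (inferInstance : (Subgroup.center T).Normal).eq_bot_or_eq_top with h1 | h1
        · exact (not_subsingleton (Subgroup.center T)) (by rw [h1]; infer_instance)
        · exact hna ⟨⟨fun a b => (Subgroup.mem_center_iff.1 (h1 ▸ Subgroup.mem_top b) a)⟩⟩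
    obtain ⟨M, hM, hle⟩ := (eq_top_or_exists_le_coatom _).resolve_left hN
    have hRM : (R : Subgroup G) ≤ M := Subgroup.le_normalizer.trans hle
    have hidx : ∀ X : Subgroup G, (R : Subgroup G) ≤ X → ¬ r ∣ X.index := fun X hX h =>
      R.not_dvd_index (h.trans (Subgroup.index_dvd_of_le hX))
    refine ⟨M, ⟨hM, hRM⟩, ?_⟩
    rintro X ⟨hX, hRX⟩
    obtain ⟨g, rfl⟩ := hconj M X hM (hidx M hRM) hX (hidx X hRX)
    -- `R` and `g⁻¹ R g` are Sylow subgroups of `M`
    have hR' : ((g⁻¹ • R : Sylow r G) : Subgroup G) ≤ M := by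
      have h1 : ((g⁻¹ • R : Sylow r G) : Subgroup G) =
          (R : Subgroup G).map (MulAut.conj g⁻¹).toMonoidHom := by rw [Sylow.smul_def]; rfl
      rw [h1]
      exact (Subgroup.map_mono hRX).trans (hback M g).le
    obtain ⟨m, hm⟩ := MulAction.exists_smul_eq M (R.subtype hRM) ((g⁻¹ • R).subtype hR')
    have hm' : (m : G) • R = g⁻¹ • R := by
      rw [Sylow.smul_subtype] at hm
      exact Sylow.subtype_injective hm
    have hgm : g * (m : G) ∈ Subgroup.normalizer ((R : Subgroup G) : Set G) := by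
      rw [Sylow.coe_coe, ← Sylow.smul_eq_iff_mem_normalizer, mul_smul, hm',
        smul_inv_smul]
    have hgM : g ∈ M := by
      have := M.mul_mem (hle hgm) (M.inv_mem m.2)
      rwa [mul_inv_cancel_right] at this
    exact Subgroup.mem_normalizer_iff_map_conj_eq.1 (Subgroup.le_normalizer hgM)

end Cfsg.Agent.S3858
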