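import Cfsg.Statements.S3859
import Cfsg.Agent.Lib.FGBasics.Sylow

set_option autoImplicit false
open Cfsg

namespace Cfsg.Agent.S3859

/-- Let G be a finite group with a normal non-abelian simple subgroup T whose centralizer is trivial (G almost simple with socle T), r a prime and R a Sylow r-subgroup of G meeting T nontrivially. If R lies in exactly one maximal subgroup of G, then G/T is an r-group. -/
theorem result {G : Type*} [Group G] [Finite G] (T : Subgroup G) [T.Normal] (hT : IsSimpleGroup T) (hna : ¬ IsMulCommutative T)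
    (hC : Subgroup.centralizer (T : Set G) = ⊥) {r : ℕ} [Fact r.Prime] (R : Sylow r G) (hR0 : (R : Subgroup G) ⊓ T ≠ ⊥)
    (huniq : ∃! M : Subgroup G, IsCoatom M ∧ (R : Subgroup G) ≤ M) : IsPGroup r (G ⧸ T) := by
  obtain ⟨M, ⟨hM, hRM⟩, hMu⟩ := huniq
  have htop : (R : Subgroup G) ⊔ T = ⊤ := by
    by_contra hne
    obtain ⟨M₁, hM₁, hle⟩ := (eq_top_or_exists_le_coatom ((R : Subgroup G) ⊔ T)).resolve_left hne
    have hTM : T ≤ M := hMu M₁ ⟨hM₁, le_sup_left.trans hle⟩ ▸ le_sup_right.trans hle
    have hN : Subgroup.normalizer (((R : Subgroup G) ⊓ T : Subgroup G) : Set G) ≠ ⊤ := by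
      intro h
      have hn : ((R : Subgroup G) ⊓ T).Normal := Subgroup.normalizer_eq_top_iff.1 h
      rcases (hn.subgroupOf T).eq_bot_or_eq_top with h0 | h0
      · rw [Subgroup.subgroupOf_eq_bot, disjoint_iff, inf_assoc, inf_idem] at h0
        exact hR0 h0
      · rw [Subgroup.subgroupOf_eq_top] at h0
        have hTp : IsPGroup r T := R.isPGroup'.to_le (h0.trans inf_le_left)
        have : Nontrivial T := hT.toNontrivial
        haveI := hTp.center_nontrivial
        rcases (inferInstance : (Subgroup.center T).Normal).eq_bot_or_eq_top with h1 | h1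
        · exact (not_subsingleton (Subgroup.center T)) (by rw [h1]; infer_instance)
        · exact hna ⟨⟨fun a b => (Subgroup.mem_center_iff.1 (h1 ▸ Subgroup.mem_top b) a)⟩⟩
    obtain ⟨M₂, hM₂, hle₂⟩ := (eq_top_or_exists_le_coatom _).resolve_left hN
    have hNM : Subgroup.normalizer (((R : Subgroup G) ⊓ T : Subgroup G) : Set G) ≤ M :=
      hMu M₂ ⟨hM₂, (FGBasics.le_normalizer_inf R T).trans hle₂⟩ ▸ hle₂
    exact hM.1 (eq_top_iff.2 ((FGBasics.normalizer_inf_sup_eq_top R T).ge.trans (sup_le hNM hTM)))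
  have hsurj : Function.Surjective ((QuotientGroup.mk' T).comp (R : Subgroup G).subtype) := by
    intro q
    obtain ⟨g, rfl⟩ := QuotientGroup.mk'_surjective T q
    have hg : g ∈ (R : Subgroup G) ⊔ T := htop ▸ Subgroup.mem_top g
    obtain ⟨x, hx, t, ht, rfl⟩ := Subgroup.mem_sup_of_normal_right.1 hg
    refine ⟨⟨x, hx⟩, ?_⟩
    simp [(QuotientGroup.eq_one_iff t).2 ht]
  exact R.isPGroup'.of_surjective _ hsurj

end Cfsg.Agent.S3859
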