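import Cfsg.Statements.S3862
import Cfsg.Agent.S3803
import Cfsg.Agent.Lib.TwoGroups.OddAction
import Mathlib

set_option autoImplicit false
open Cfsg

namespace Cfsg.Agent.S3862

open Cfsg.Agent
open Cfsg.Agent.S3803
open scoped commutatorElement

variable {X : Type*} [Group X] [Finite X]

theorem centralize_of_real_central
    (hreal : ∀ x : X, (∃ j : ℕ, orderOf x = 2 ^ j) → IsConj x x⁻¹ → x ∈ Subgroup.center X)
    {P : Subgroup X} (hP : IsPGroup 2 ↥P) {a : X} (ha : Odd (orderOf a))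
    (haP : a ∈ Subgroup.normalizer (P : Set X)) : ∀ x ∈ P, a * x = x * a := by
  classical
  have : Fact (Nat.Prime 2) := ⟨Nat.prime_two⟩
  by_contra hbad
  push_neg at hbad
  obtain ⟨Q, hQmin⟩ := (Set.toFinite {Q : Subgroup X | Q ≤ P ∧ a ∈ Subgroup.normalizer (Q : Set X) ∧
    ∃ x ∈ Q, a * x ≠ x * a}).exists_minimal ⟨P, le_rfl, haP, hbad⟩
  obtain ⟨⟨hQP, haQ, x₀, hx₀, hx₀a⟩, hmin⟩ := hQmin
  have hQ : IsPGroup 2 ↥Q := hP.to_le hQP
  have hfix : ∀ K : Subgroup X, K ≤ Q → a ∈ Subgroup.normalizer (K : Set X) → K ≠ Q →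
      ∀ x ∈ K, a * x = x * a := by
    intro K hKQ haK hne x hx
    by_contra hc
    exact hne (le_antisymm hKQ (hmin ⟨hKQ.trans hQP, haK, x, hx, hc⟩ hKQ))
  have hconj : ∀ {z : X}, z ∈ Q → a * z * a⁻¹ ∈ Q := fun hz =>
    (Subgroup.mem_normalizer_iff.1 haQ _).1 hz
  -- squares are fixed
  set S := Subgroup.closure {z : X | ∃ x ∈ Q, x ^ 2 = z} with hS
  have hSQ : S ≤ Q := (Subgroup.closure_le _).2 (by rintro _ ⟨x, hx, rfl⟩; exact pow_mem hx 2)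
  have hSa : a ∈ Subgroup.normalizer (S : Set X) := by
    refine mem_normalizer_of_conj_mem fun k hk => ?_
    have h1 : S.map (MulAut.conj a).toMonoidHom ≤ S := by
      rw [hS, MonoidHom.map_closure, Subgroup.closure_le]
      rintro _ ⟨_, ⟨x, hx, rfl⟩, rfl⟩
      exact Subgroup.subset_closure ⟨a * x * a⁻¹, hconj hx, (map_pow (MulAut.conj a) x 2).symm⟩
    exact h1 ⟨k, hk, rfl⟩
  have hSne : S ≠ Q := by
    intro hSQ'
    obtain ⟨x, hx, hx1⟩ : ∃ x ∈ Q, x ≠ 1 := ⟨x₀, hx₀, fun h => hx₀a (by simp [h])⟩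
    haveI : Group.IsNilpotent ↥Q := hQ.isNilpotent
    have htop : (⊥ : Subgroup ↥Q) ≠ ⊤ := fun hb => hx1 (congrArg Subtype.val
      (Subgroup.mem_bot.1 (hb ▸ Subgroup.mem_top (⟨x, hx⟩ : ↥Q)) : (⟨x, hx⟩ : ↥Q) = 1))
    obtain ⟨M, hM, -⟩ := (eq_top_or_exists_le_coatom _).resolve_left htop
    haveI : M.Normal := Subgroup.NormalizerCondition.normal_of_coatom M Group.normalizerCondition_of_isNilpotent hM
    obtain ⟨k, hk⟩ := (hQ.index M)
    -- the quotient has no proper nontrivial subgroup, so its order is `2`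
    have h2 : ∀ q : ↥Q ⧸ M, q ^ 2 = 1 := by
      intro q
      by_contra hq
      have hle : M < (Subgroup.zpowers (q ^ 2)).comap (QuotientGroup.mk' M) := by
        refine lt_of_le_of_ne (QuotientGroup.le_comap_mk' M _) fun he => hq ?_
        obtain ⟨z, hz⟩ := QuotientGroup.mk'_surjective M (q ^ 2)
        have hzM : z ∈ M := by rw [he, Subgroup.mem_comap, hz]; exact Subgroup.mem_zpowers _
        rw [← hz]; exact (QuotientGroup.eq_one_iff z).2 hzM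
      have h3 : q ∈ Subgroup.zpowers (q ^ 2) := by
        obtain ⟨z, rfl⟩ := QuotientGroup.mk'_surjective M q
        exact Subgroup.mem_comap.1 (hM.2 _ hle ▸ Subgroup.mem_top z)
      obtain ⟨j, hj⟩ := hQ.to_quotient M q
      obtain ⟨i, hi⟩ := h3
      -- `q = q ^ (2 * i)` forces `q = 1`
      have h4 : q ^ (2 * i - 1 : ℤ) = 1 := by
        have hi' : (q ^ 2) ^ i = q := hi
        rw [zpow_sub, zpow_one, zpow_mul, zpow_two, ← sq, hi', mul_inv_cancel]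
      have h5 : orderOf q ∣ 2 ^ j := orderOf_dvd_of_pow_eq_one hj
      have h6 : (orderOf q : ℤ) ∣ (2 * i - 1 : ℤ) := orderOf_dvd_iff_zpow_eq_one.2 h4
      obtain ⟨l, -, hl⟩ := (Nat.dvd_prime_pow Nat.prime_two).1 h5
      rcases l with _ | l
      · exact hq (by rw [orderOf_eq_one_iff.1 (hl.trans (pow_zero 2)), one_pow])
      · have h7 : (2 : ℤ) ∣ 2 * i - 1 :=
          dvd_trans (by rw [hl]; push_cast; exact dvd_pow_self _ (Nat.succ_ne_zero l)) h6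
        omega
    have : ∀ z : ↥Q, z ∈ M := fun z => by
      have hz : (z : X) ∈ S := by rw [hSQ']; exact z.2
      have h1 : S ≤ M.map Q.subtype := (Subgroup.closure_le _).2 (by
        rintro _ ⟨w, hw, hw2⟩
        rw [← hw2]
        refine ⟨⟨w, hw⟩ ^ 2, ?_, by simp⟩
        exact (QuotientGroup.eq_one_iff _).1 (h2 (QuotientGroup.mk' M ⟨w, hw⟩)))
      obtain ⟨w, hw, hwz⟩ := h1 hz
      exact Q.subtype_injective hwz ▸ hw
    exact hM.1 ((Subgroup.eq_top_iff' _).2 this)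
  have hsq : ∀ x ∈ Q, a * x ^ 2 = x ^ 2 * a := fun x hx =>
    hfix S hSQ hSa hSne _ (Subgroup.subset_closure ⟨x, hx, rfl⟩)
  -- it suffices that all `u = x⁻¹ x^a` are fixed
  obtain ⟨x, hx, hu⟩ : ∃ x ∈ Q, a * (x⁻¹ * (a * x * a⁻¹)) ≠ (x⁻¹ * (a * x * a⁻¹)) * a := by
    by_contra hc
    push_neg at hc
    set u := x₀⁻¹ * (a * x₀ * a⁻¹) with hu
    have h1 := inv_pow_conj (x := x₀) (hc x₀ hx₀) (by group) (orderOf a)
    rw [pow_orderOf_eq_one, one_mul, inv_one, mul_one, left_eq_mul] at h1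
    have h2 := fixed_of_two_group hQ ha (mul_mem (inv_mem hx₀) (hconj hx₀)) h1
    rw [inv_mul_eq_one] at h2
    exact hx₀a (calc a * x₀ = (a * x₀ * a⁻¹) * a := by group
      _ = x₀ * a := by rw [← h2])
  set u := x⁻¹ * (a * x * a⁻¹) with hudef
  have huQ : u ∈ Q := mul_mem (inv_mem hx) (hconj hx)
  -- squares are central in `Q`
  have hsqa : ∀ f ∈ Q, a * f ^ 2 * a⁻¹ = f ^ 2 := fun f hf => by rw [hsq f hf, mul_inv_cancel_right]
  set K := Q ⊓ Subgroup.centralizer {z : X | ∃ y ∈ Q, y ^ 2 = z} with hK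
  have hKa : a ∈ Subgroup.normalizer (K : Set X) := by
    refine mem_normalizer_of_conj_mem fun k hk => ⟨hconj hk.1, Subgroup.mem_centralizer_iff.2 ?_⟩
    rintro _ ⟨y, hy, rfl⟩
    have h1 : y ^ 2 * k = k * y ^ 2 := Subgroup.mem_centralizer_iff.1 hk.2 _ ⟨y, hy, rfl⟩
    calc y ^ 2 * (a * k * a⁻¹) = (a * y ^ 2 * a⁻¹) * (a * k * a⁻¹) := by rw [hsqa y hy]
      _ = a * (y ^ 2 * k) * a⁻¹ := by group
      _ = a * (k * y ^ 2) * a⁻¹ := by rw [h1]
      _ = (a * k * a⁻¹) * (a * y ^ 2 * a⁻¹) := by group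
      _ = a * k * a⁻¹ * y ^ 2 := by rw [hsqa y hy]
  have huK : u ∈ K := by
    refine ⟨huQ, Subgroup.mem_centralizer_iff.2 ?_⟩
    rintro _ ⟨y, hy, rfl⟩
    have h1 : a * (x * y ^ 2 * x⁻¹) * a⁻¹ = x * y ^ 2 * x⁻¹ := by
      rw [← conj_pow]; exact hsqa _ (mul_mem (mul_mem hx hy) (inv_mem hx))
    have h2 : a * x * a⁻¹ * y ^ 2 * (a * x * a⁻¹)⁻¹ = x * y ^ 2 * x⁻¹ := by
      rw [← h1]
      conv_lhs => rw [← hsqa y hy]
      group
    calc y ^ 2 * u = x⁻¹ * (x * y ^ 2 * x⁻¹) * (a * x * a⁻¹) := by rw [hudef]; group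
      _ = x⁻¹ * (a * x * a⁻¹ * y ^ 2 * (a * x * a⁻¹)⁻¹) * (a * x * a⁻¹) := by rw [h2]
      _ = u * y ^ 2 := by rw [hudef]; group
  have hKQ : K = Q := by
    by_contra hne
    exact hu (hfix K inf_le_left hKa hne u huK)
  have hcent : ∀ y ∈ Q, ∀ z ∈ Q, y ^ 2 * z = z * y ^ 2 := fun y hy z hz =>
    Subgroup.mem_centralizer_iff.1 (hKQ.ge hz).2 _ ⟨y, hy, rfl⟩
  -- commutators are central and fixed
  have hC : ∀ y ∈ Q, ∀ z ∈ Q, Commute (y ^ 2) z := hcent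
  have hA' : ∀ y ∈ Q, Commute a (y ^ 2) := hsq
  have hzz : ∀ y ∈ Q, ∀ z ∈ Q, ⁅y, z⁆ = (y * z) ^ 2 * (y ^ 2)⁻¹ * (z ^ 2)⁻¹ := by
    intro y hy z hz
    calc ⁅y, z⁆ = y * z * y⁻¹ * z⁻¹ := commutatorElement_def y z
      _ = y * z * (y * (y ^ 2)⁻¹) * (z * (z ^ 2)⁻¹) := by simp only [pow_two]; group
      _ = y * z * y * ((y ^ 2)⁻¹ * z) * (z ^ 2)⁻¹ := by group
      _ = y * z * y * (z * (y ^ 2)⁻¹) * (z ^ 2)⁻¹ := by
        rw [((hC y hy z hz).inv_left).eq]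
      _ = (y * z) ^ 2 * (y ^ 2)⁻¹ * (z ^ 2)⁻¹ := by rw [pow_two (y * z)]; group
  have hcc : ∀ y ∈ Q, ∀ z ∈ Q, ∀ w ∈ Q, Commute ⁅y, z⁆ w := fun y hy z hz w hw => by
    rw [hzz y hy z hz]
    exact ((hC _ (mul_mem hy hz) w hw).mul_left (hC y hy w hw).inv_left).mul_left (hC z hz w hw).inv_left
  have hca : ∀ y ∈ Q, ∀ z ∈ Q, a * ⁅y, z⁆ * a⁻¹ = ⁅y, z⁆ := fun y hy z hz => by
    have h1 : Commute a ⁅y, z⁆ := by
      rw [hzz y hy z hz]
      exact ((hA' _ (mul_mem hy hz)).mul_right (hA' y hy).inv_right).mul_right (hA' z hz).inv_right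
    rw [h1.eq, mul_inv_cancel_right]
  have hlin : ∀ y ∈ Q, ∀ z ∈ Q, ∀ w ∈ Q, ⁅y, z * w⁆ = ⁅y, z⁆ * ⁅y, w⁆ := fun y hy z hz w hw => by
    have h1 : ⁅y, z * w⁆ = ⁅y, z⁆ * (z * ⁅y, w⁆ * z⁻¹) := by simp only [commutatorElement_def]; group
    rw [h1, ← (hcc y hy w hw z hz).eq, mul_inv_cancel_right]
  have hlin' : ∀ y ∈ Q, ∀ z ∈ Q, ∀ w ∈ Q, ⁅y * z, w⁆ = ⁅y, w⁆ * ⁅z, w⁆ := fun y hy z hz w hw => by
    have h1 : ⁅y * z, w⁆ = y * ⁅z, w⁆ * y⁻¹ * ⁅y, w⁆ := by simp only [commutatorElement_def]; group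
    rw [h1, ← (hcc z hz w hw y hy).eq, mul_inv_cancel_right]
    exact (hcc z hz w hw _ (by
      rw [commutatorElement_def]; exact mul_mem (mul_mem (mul_mem hy hw) (inv_mem hy)) (inv_mem hw))).eq
  let D : Subgroup X :=
  { carrier := {d | ∃ y ∈ Q, ⁅x, y⁆ = d}
    one_mem' := ⟨1, one_mem Q, by simp⟩
    mul_mem' := fun {d e} ⟨y, hy, hd⟩ ⟨z, hz, he⟩ =>
      ⟨y * z, mul_mem hy hz, by rw [hlin x hx y hy z hz, hd, he]⟩
    inv_mem' := fun {d} ⟨y, hy, hd⟩ => ⟨y⁻¹, inv_mem hy, by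
      rw [← hd]
      apply eq_inv_of_mul_eq_one_left
      rw [← hlin x hx _ (inv_mem hy) y hy, inv_mul_cancel]
      simp⟩ }
  refine hu ?_
  by_cases hxD : x ^ 2 ∈ D
  · -- `x` is conjugate to its inverse
    obtain ⟨y, hy, hd⟩ := hxD
    have hxc : x ∈ Subgroup.center X := by
      refine hreal x ?_ (IsConj.symm (isConj_iff.2 ⟨y, ?_⟩))
      · obtain ⟨k, hk⟩ := IsPGroup.iff_orderOf.1 hQ ⟨x, hx⟩
        exact ⟨k, by rwa [Subgroup.orderOf_mk] at hk⟩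
      · rw [commutatorElement_def] at hd
        calc y * x⁻¹ * y⁻¹ = x⁻¹ * (x * y * x⁻¹ * y⁻¹) := by group
          _ = x := by rw [hd, pow_two]; group
    rw [hudef, Subgroup.mem_center_iff.1 hxc a, mul_inv_cancel_right]
    simp
  let R : Subgroup X :=
  { carrier := {y | y ∈ Q ∧ ∀ z ∈ Q, ⁅y, z⁆ ∈ D}
    one_mem' := ⟨one_mem Q, fun z _ => by simp [one_mem]⟩
    mul_mem' := fun {y w} hy hw => ⟨mul_mem hy.1 hw.1, fun z hz => by
      rw [hlin' y hy.1 w hw.1 z hz]; exact mul_mem (hy.2 z hz) (hw.2 z hz)⟩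
    inv_mem' := fun {y} hy => ⟨inv_mem hy.1, fun z hz => by
      have h1 := hlin' _ (inv_mem hy.1) y hy.1 z hz
      rw [inv_mul_cancel, commutatorElement_one_left] at h1
      rw [eq_inv_of_mul_eq_one_left h1.symm]
      exact inv_mem (hy.2 z hz)⟩ }
  have hRa : a ∈ Subgroup.normalizer (R : Set X) := by
    refine mem_normalizer_of_conj_mem fun k hk => ⟨hconj hk.1, fun z hz => ?_⟩
    have hz' : a⁻¹ * z * a ∈ Q := by
      have := (Subgroup.mem_normalizer_iff.1 (inv_mem haQ) z).1 hz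
      simpa using this
    have h1 : ⁅a * k * a⁻¹, z⁆ = a * ⁅k, a⁻¹ * z * a⁆ * a⁻¹ := by simp only [commutatorElement_def]; group
    rw [h1, hca k hk.1 _ hz']
    exact hk.2 _ hz'
  have hxR : x ∈ R := ⟨hx, fun z hz => ⟨z, hz, rfl⟩⟩
  by_cases hRQ : R = Q
  swap
  · have h1 := hfix R (fun y hy => hy.1) hRa hRQ x hxR
    rw [hudef, h1, mul_inv_cancel_right]
    simp
  have hsqm : ∀ y ∈ Q, ∀ z ∈ Q, (y * z) ^ 2 = ⁅z, y⁆ * (y ^ 2 * z ^ 2) := fun y hy z hz => by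
    calc (y * z) ^ 2 = y * (z * y) * z := by rw [pow_two]; group
      _ = y * (⁅z, y⁆ * (y * z)) * z := by simp only [commutatorElement_def]; group
      _ = (y * ⁅z, y⁆) * (y * z * z) := by group
      _ = (⁅z, y⁆ * y) * (y * z * z) := by rw [(hcc z hz y hy y hy).eq]
      _ = _ := by simp only [pow_two]; group
  let K' : Subgroup X :=
  { carrier := {y | y ∈ Q ∧ y ^ 2 ∈ D}
    one_mem' := ⟨one_mem Q, by simp [one_mem]⟩
    mul_mem' := fun {y z} hy hz => ⟨mul_mem hy.1 hz.1, by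
      rw [hsqm y hy.1 z hz.1]
      exact mul_mem ((hRQ.ge hz.1).2 y hy.1) (mul_mem hy.2 hz.2)⟩
    inv_mem' := fun {y} hy => ⟨inv_mem hy.1, by rw [inv_pow]; exact inv_mem hy.2⟩ }
  have hK'a : a ∈ Subgroup.normalizer (K' : Set X) :=
    mem_normalizer_of_conj_mem fun k hk => ⟨hconj hk.1, by rw [conj_pow, hsqa k hk.1]; exact hk.2⟩
  have hK'ne : K' ≠ Q := fun h => hxD (h.ge hx).2
  refine hfix K' (fun y hy => hy.1) hK'a hK'ne u ⟨huQ, ?_⟩
  rw [hudef, hsqm _ (inv_mem hx) _ (hconj hx), conj_pow, hsqa x hx, inv_pow, inv_mul_cancel, mul_one]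
  exact (hRQ.ge (hconj hx)).2 _ (inv_mem hx)

/-- If every 2-element of the finite group G that is conjugate to its inverse lies in the centre of G, then G has a normal 2-complement. -/
theorem result {G : Type*} [Group G] [Finite G] (h : ∀ x : G, (∃ j : ℕ, orderOf x = 2 ^ j) → IsConj x x⁻¹ → x ∈ Subgroup.center G) : Cfsg.HasNormalPComplement 2 G := by
  obtain ⟨P⟩ : Nonempty (Sylow 2 G) := inferInstance
  refine TwoFus.hasNormalPComplement_of_oddTrivial P fun E hE w hw ho => ?_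
  exact Subgroup.mem_centralizer_iff.2 fun e he =>
    (centralize_of_real_central h (P.isPGroup'.to_le hE) ho hw e he).symm

end Cfsg.Agent.S3862
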