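import Cfsg.Statements.S3864
import Cfsg.Agent.Lib.TwoGroups.DihFusion
import Mathlib

set_option autoImplicit false
open Cfsg

namespace Cfsg.Agent.S3864

open Cfsg.Agent Cfsg.Agent.TwoFus

variable {G : Type*} [Group G] [Finite G]

/-- All four-subgroups of one parity have full automizer. -/
def Full (P : Sylow 2 G) (d : Dih (P : Subgroup G)) (r : ℤ) : Prop :=
  ∀ U : Subgroup G, U ≤ (P : Subgroup G) → IsKleinFour U → ∀ i : ℤ, d.x ^ i * d.y ∈ U → 2 ∣ i - r →
    3 ∣ (Subgroup.centralizer (U : Set G)).relIndex (Subgroup.normalizer (U : Set G))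

theorem oddTrivial_of_not_full (P : Sylow 2 G) (d : Dih (P : Subgroup G))
    (h4 : 4 < Nat.card (P : Subgroup G)) {r : ℤ} (hr : ¬ Full P d r) {E : Subgroup G}
    (hE : E ≤ (P : Subgroup G)) (hEk : IsKleinFour E) {j : ℤ} (hj : d.x ^ j * d.y ∈ E) (hp : 2 ∣ j - r) :
    OddTrivial E := by
  simp only [Full, not_forall] at hr
  obtain ⟨U, hU, hUk, i, hi, hir, hne⟩ := hr
  obtain ⟨s, -, hs⟩ := d.klein_conj hUk hEk hU hE hi hj (by omega)
  refine klein_oddTrivial ?_
  rw [← hs, relIndex_centralizer_conj]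
  rcases klein_index_cases P (d.cycMax P.isPGroup') h4 hU hUk with e | e
  · rw [e]
  · exact absurd (e ▸ by norm_num) hne

theorem half_invariant (P : Sylow 2 G) (d : Dih (P : Subgroup G))
    (h4 : 4 < Nat.card (P : Subgroup G)) {r : ℤ} (hr : ¬ Full P d (r + 1)) {a g : G}
    (ha : a ∈ (P : Subgroup G)) (hga : g * a * g⁻¹ ∈ (P : Subgroup G)) :
    g * a * g⁻¹ ∈ d.half r ↔ a ∈ d.half r := by
  have hP : CycMax (P : Subgroup G) d.x := d.cycMax P.isPGroup'
  refine iff_of_eq (label_elem P (fun a => a ∈ d.half r)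
    (fun s hs a ha => propext (conj_mem_iff_of_index_two (d.half_index r) hs ha)) (fun E hE => ?_) ha hga)
  rcases hP.oddTrivial hE with h0 | h0 | h0
  · exact Or.inl h0
  · obtain ⟨-, j, hj⟩ := d.klein_exists_form h0 hE
    by_cases hp : 2 ∣ j - (r + 1)
    · exact Or.inl (oddTrivial_of_not_full P d h4 hr hE h0 hj hp)
    · have hle := d.klein_le_half (d.four_dvd P.isPGroup' h4) h0 hE hj (r := r) (by omega)
      exact Or.inr fun x hx a ha => propext (iff_of_true
        (hle ((Subgroup.mem_normalizer_iff.mp hx a).mp ha)) (hle ha))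
  · exact absurd h0 (no_quat (fun a ha => d.out_sq a ha) hE)

theorem ncard_classes (S : Set (ConjClasses G))
    (hS : ∀ C, C ∈ S ↔ ∃ g : G, ConjClasses.mk g = C ∧ orderOf g = 2) :
    Nat.card {C : ConjClasses G // ∃ g : G, ConjClasses.mk g = C ∧ orderOf g = 2} = S.ncard := by
  rw [← Nat.card_coe_set_eq]
  exact Nat.card_congr (Equiv.subtypeEquivRight fun C => (hS C).symm)

/-- Let G be a finite group whose Sylow 2-subgroups are dihedral of order 2 ^ n with n ≥ 3, and count the conjugacy classes of involutions of G. Then exactly one of the following holds: there is one class of involutions and no normal subgroup of index 2; there are two classes of involutions, a normal subgroup of index 2 and none of index 4; there are three classes of involutions and G has a normal 2-complement. -/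
theorem result {G : Type*} [Group G] [Finite G] (P : Sylow 2 G) (n : ℕ) (hn : 3 ≤ n) (hdih : Nonempty (↥(P : Subgroup G) ≃* DihedralGroup (2 ^ (n - 1)))) : (Nat.card {C : ConjClasses G // ∃ g : G, ConjClasses.mk g = C ∧ orderOf g = 2} = 1 ∧ ∀ N : Subgroup G, N.Normal → N.index ≠ 2) ∨ (Nat.card {C : ConjClasses G // ∃ g : G, ConjClasses.mk g = C ∧ orderOf g = 2} = 2 ∧ (∃ N : Subgroup G, N.Normal ∧ N.index = 2) ∧ ∀ N : Subgroup G, N.Normal → N.index ≠ 4) ∨ (Nat.card {C : ConjClasses G // ∃ g : G, ConjClasses.mk g = C ∧ orderOf g = 2} = 3 ∧ Cfsg.HasNormalPComplement 2 G) := by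
  classical
  haveI : Fact (Nat.Prime 2) := ⟨Nat.prime_two⟩
  obtain ⟨eS⟩ := hdih
  have h4m : 4 ≤ 2 ^ (n - 1) := le_trans (by norm_num : 4 ≤ 2 ^ 2) (Nat.pow_le_pow_right two_pos (by omega))
  obtain ⟨d, hdm⟩ := TwoFus.exists_dih P (by omega) eS
  have hP := d.cycMax P.isPGroup'
  have h4 : 4 < Nat.card (P : Subgroup G) := by
    rw [d.card, hdm]; omega
  have hfour := d.four_dvd P.isPGroup' h4
  have ho : ∀ v : G, v * v = 1 → v ≠ 1 → orderOf v = 2 := fun v h1 h2 =>
    orderOf_eq_prime (by rw [pow_two]; exact h1) h2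
  have hne : ∀ i : ℤ, d.x ^ i * d.y ≠ 1 := fun i e => d.form_not_mem i (e ▸ one_mem _)
  have hoz : orderOf d.z = 2 := ho _ d.zz d.z_ne
  have hof : ∀ i : ℤ, orderOf (d.x ^ i * d.y) = 2 := fun i => ho _ (d.form_sq i) (hne i)
  have hpar : ∀ i j : ℤ, 2 ∣ j - i → IsConj (d.x ^ i * d.y) (d.x ^ j * d.y) := by
    rintro i j ⟨e, he⟩
    refine isConj_iff.2 ⟨d.x ^ e, ?_⟩
    rw [← zpow_neg, mul_assoc, mul_assoc (d.x ^ i), d.swap, ← mul_assoc, ← mul_assoc, ← zpow_add,
      ← zpow_add, show e + i + - -e = j by linarith]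
  have hall : ∀ (r : ℤ) (a : G), orderOf a = 2 → IsConj a d.z ∨ IsConj a (d.x ^ r * d.y) ∨
      IsConj a (d.x ^ (r + 1) * d.y) := by
    intro r a ha
    obtain ⟨g, hg⟩ := exists_conj_mem P (k := 1) (a := a) (by rw [ha, pow_one])
    set v := g * a * g⁻¹ with hv
    have hav : IsConj a v := isConj_iff.mpr ⟨g, rfl⟩
    have hv2 : orderOf v = 2 := by rw [hv, ← MulAut.conj_apply, MulEquiv.orderOf_eq, ha]
    have hv1 : v ≠ 1 := fun e => by rw [e, orderOf_one] at hv2; omega
    have hvv : v * v = 1 := by rw [← pow_two, ← hv2]; exact pow_orderOf_eq_one v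
    rcases d.cases v hg with ⟨i, hi⟩ | ⟨i, hi⟩
    · have hm : v ∈ Subgroup.zpowers d.x := hi ▸ zpow_mem (Subgroup.mem_zpowers d.x) i
      exact Or.inl ((d.sq_cases hm hvv).resolve_left hv1 ▸ hav)
    · by_cases hp : 2 ∣ i - r
      · exact Or.inr (Or.inl (hav.trans (hi ▸ hpar i r (by omega))))
      · exact Or.inr (Or.inr (hav.trans (hi ▸ hpar i (r + 1) (by omega))))
  have hfull : ∀ r, Full P d r → IsConj (d.x ^ r * d.y) d.z := by
    intro r hr
    obtain ⟨U, hUP, hU, hzU, huU⟩ := d.exists_klein r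
    obtain ⟨w, -, hw, -⟩ := klein_transitive hU (hr U hUP hU r huU (by simp)) huU hzU (hne r) d.z_ne
    exact isConj_iff.mpr ⟨w, hw⟩
  have hzr : ∀ r, d.z ∈ d.half r := fun r => ⟨_, d.z_even hfour, Or.inl rfl⟩
  have hsep : ∀ r, ¬ Full P d (r + 1) → ∀ a b, a ∈ (P : Subgroup G) → b ∈ (P : Subgroup G) →
      a ∈ d.half r → b ∉ d.half r → ConjClasses.mk a ≠ ConjClasses.mk b := by
    intro r hr a b ha hb har hbr he
    obtain ⟨g, hg⟩ := isConj_iff.1 (ConjClasses.mk_eq_mk_iff_isConj.1 he)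
    exact hbr (hg ▸ (half_invariant P d h4 hr ha (hg.symm ▸ hb)).2 har)
  have hfP : ∀ i : ℤ, d.x ^ i * d.y ∈ (P : Subgroup G) := fun i => mul_mem (zpow_mem d.hx i) d.hy
  have hzP : d.z ∈ (P : Subgroup G) := zpow_mem d.hx _
  have hmixed : ∀ r, Full P d r → ¬ Full P d (r + 1) →
      Nat.card {C : ConjClasses G // ∃ g : G, ConjClasses.mk g = C ∧ orderOf g = 2} = 2 ∧
      (∃ N : Subgroup G, N.Normal ∧ N.index = 2) ∧ ∀ N : Subgroup G, N.Normal → N.index ≠ 4 := by
    intro r hr hr'
    refine ⟨?_, ?_, ?_⟩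
    · rw [ncard_classes {ConjClasses.mk d.z, ConjClasses.mk (d.x ^ (r + 1) * d.y)}, Set.ncard_pair]
      · exact hsep r hr' _ _ hzP (hfP _) (hzr r) fun h => by have := d.form_mem_half.1 h; omega
      · intro C
        constructor
        · rintro (rfl | rfl)
          exacts [⟨_, rfl, hoz⟩, ⟨_, rfl, hof _⟩]
        · rintro ⟨g, rfl, hg⟩
          rcases hall r g hg with h | h | h
          · exact Or.inl (ConjClasses.mk_eq_mk_iff_isConj.2 h)
          · exact Or.inl (ConjClasses.mk_eq_mk_iff_isConj.2 (h.trans (hfull r hr)))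
          · exact Or.inr (ConjClasses.mk_eq_mk_iff_isConj.2 h)
    · obtain ⟨K, h1, h2, -⟩ := TwoFus.exists_index_two P (d.half_le r) (d.half_index r)
        fun a g ha hga => half_invariant P d h4 hr' ha hga
      exact ⟨K, h1, h2⟩
    · intro N hN hidx
      haveI := hN
      set f := QuotientGroup.mk' N with hf
      have hsurj : Function.Surjective f := QuotientGroup.mk'_surjective N
      have hcardQ : Nat.card (G ⧸ N) = 4 := hidx
      have hPtop : (P : Subgroup G).map f = ⊤ := by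
        rw [← Subgroup.index_eq_one]
        have h1 : ((P : Subgroup G).map f).index ∣ 2 ^ 2 := by
          rw [show (2 : ℕ) ^ 2 = Nat.card (G ⧸ N) by rw [hcardQ]; norm_num]
          exact Subgroup.index_dvd_card _
        have h2 : ((P : Subgroup G).map f).index ∣ (P : Subgroup G).index := Subgroup.index_map_dvd _ hsurj
        exact Nat.eq_one_of_dvd_coprimes
          (Nat.Coprime.pow_left 2 ((Nat.prime_two.coprime_iff_not_dvd).2 P.not_dvd_index)) h1 h2
      haveI : IsMulCommutative (G ⧸ N) :=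
        IsPGroup.isMulCommutative_of_card_eq_prime_sq (p := 2) (by rw [hcardQ]; norm_num)
      have hcomm : ∀ a b : G, f a * f b = f b * f a := fun a b => mul_comm' (f a) (f b)
      have hfy : f d.y * f d.y = 1 := by rw [← map_mul, d.yy, map_one]
      have hx2 : f d.x * f d.x = 1 := by
        have h1 : f (d.x⁻¹) = f d.x := by
          rw [← d.inv, map_mul, map_mul, map_inv, hcomm d.y d.x, mul_inv_cancel_right]
        rw [← map_mul]; nth_rewrite 1 [map_mul]
        nth_rewrite 1 [← h1]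
        rw [← map_mul, inv_mul_cancel, map_one]
      have hx2' : ∀ e : ℤ, f (d.x ^ (2 * e)) = 1 := fun e => by
        rw [map_zpow, zpow_mul, zpow_two, hx2, one_zpow]
      have hz : f d.z = 1 := by
        obtain ⟨e, he⟩ := d.z_even hfour
        rw [Dih.z, he]; exact hx2' e
      have hr1 : f (d.x ^ r * d.y) = 1 := by
        obtain ⟨g, hg⟩ := isConj_iff.1 (hfull r hr)
        rw [← hg, map_mul, map_mul, map_inv, hcomm g, mul_inv_cancel_right] at hz
        exact hz
      have hsub : (P : Subgroup G).map f ≤ Subgroup.zpowers (f d.x) := by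
        rintro _ ⟨a, ha, rfl⟩
        rcases d.cases a ha with ⟨i, rfl⟩ | ⟨i, rfl⟩
        · exact ⟨i, (map_zpow f d.x i).symm⟩
        · refine ⟨i - r, ?_⟩
          show f d.x ^ (i - r) = _
          rw [show d.x ^ i * d.y = d.x ^ (i - r) * (d.x ^ r * d.y) by rw [← mul_assoc, ← zpow_add, sub_add_cancel],
            map_mul, hr1, mul_one, map_zpow]
      rw [hPtop] at hsub
      have h2 : Nat.card (Subgroup.zpowers (f d.x)) ≤ 2 := by
        rw [Nat.card_zpowers]
        exact Nat.le_of_dvd two_pos (orderOf_dvd_of_pow_eq_one (by rw [pow_two]; exact hx2))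
      rw [top_le_iff.1 hsub, Subgroup.card_top, hcardQ] at h2
      omega
  by_cases h0 : Full P d 0 <;> by_cases h1 : Full P d 1
  · left
    have hcl : ∀ a b : G, orderOf a = 2 → orderOf b = 2 → IsConj a b := by
      refine dih_one_class P d fun U hUP hU => ?_
      obtain ⟨-, i, hi⟩ := d.klein_exists_form hU hUP
      by_cases hp : 2 ∣ i
      · exact h0 U hUP hU i hi (by omega)
      · exact h1 U hUP hU i hi (by omega)
    refine ⟨?_, fun N _ => dih_no_index_two P d hcl N⟩
    rw [ncard_classes {ConjClasses.mk d.z}, Set.ncard_singleton]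
    intro C
    constructor
    · rintro rfl; exact ⟨_, rfl, hoz⟩
    · rintro ⟨g, rfl, hg⟩; exact ConjClasses.mk_eq_mk_iff_isConj.2 (hcl g d.z hg hoz)
  · exact Or.inr (Or.inl (hmixed 0 h0 (by simpa using h1)))
  · refine Or.inr (Or.inl (hmixed 1 h1 fun h2 => h0 fun U hUP hU i hi hp => h2 U hUP hU i hi (by omega)))
  · refine Or.inr (Or.inr ⟨?_, ?_⟩)
    · have h2 : ¬ Full P d (1 + 1) := fun h2 => h0 fun U hUP hU i hi hp => h2 U hUP hU i hi (by omega)
      have h1' : ¬ Full P d (0 + 1) := by simpa using h1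
      have e1 : ConjClasses.mk d.z ≠ ConjClasses.mk (d.x ^ (1 : ℤ) * d.y) :=
        hsep 0 h1' _ _ hzP (hfP 1) (hzr 0) fun h => by have := d.form_mem_half.1 h; omega
      have e0 : ConjClasses.mk d.z ≠ ConjClasses.mk (d.x ^ (0 : ℤ) * d.y) :=
        hsep 1 h2 _ _ hzP (hfP 0) (hzr 1) fun h => by have := d.form_mem_half.1 h; omega
      have e01 : ConjClasses.mk (d.x ^ (0 : ℤ) * d.y) ≠ ConjClasses.mk (d.x ^ (1 : ℤ) * d.y) :=
        hsep 0 h1' _ _ (hfP 0) (hfP 1) (d.form_mem_half.2 (by simp))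
          fun h => by have := d.form_mem_half.1 h; omega
      rw [ncard_classes {ConjClasses.mk d.z, ConjClasses.mk (d.x ^ (0 : ℤ) * d.y),
        ConjClasses.mk (d.x ^ (1 : ℤ) * d.y)},
        Set.ncard_insert_of_notMem (fun h => h.elim e0 e1), Set.ncard_pair e01]
      intro C
      constructor
      · rintro (rfl | rfl | rfl)
        exacts [⟨_, rfl, hoz⟩, ⟨_, rfl, hof _⟩, ⟨_, rfl, hof _⟩]
      · rintro ⟨g, rfl, hg⟩
        rcases hall 0 g hg with h | h | h
        · exact Or.inl (ConjClasses.mk_eq_mk_iff_isConj.2 h)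
        · exact Or.inr (Or.inl (ConjClasses.mk_eq_mk_iff_isConj.2 h))
        · exact Or.inr (Or.inr (ConjClasses.mk_eq_mk_iff_isConj.2 (by simpa using h)))
    · refine hasNormalPComplement_of_oddTrivial P fun E hE => ?_
      rcases hP.oddTrivial hE with h | h | h
      · exact h
      · obtain ⟨-, j, hj⟩ := d.klein_exists_form h hE
        by_cases hp : 2 ∣ j
        · exact oddTrivial_of_not_full P d h4 h0 hE h hj (by omega)
        · exact oddTrivial_of_not_full P d h4 h1 hE h hj (by omega)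
      · exact absurd h (no_quat (fun a ha => d.out_sq a ha) hE)

end Cfsg.Agent.S3864
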