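import Cfsg.Statements.S3867
import Cfsg.Agent.Lib.FiniteGroup.SylowNumbers
import Mathlib

set_option autoImplicit false
open Cfsg

namespace Cfsg.Agent.S3867

open Cfsg.Agent
open scoped Pointwise

variable {G : Type*} [Group G] [Finite G] {p : ℕ} [Fact p.Prime]

lemma card_sylow_quotient (P : Sylow p G) (K : Subgroup G) [K.Normal] :
    Nat.card (Sylow p (G ⧸ K)) =
      (Subgroup.normalizer (((P : Subgroup G) ⊔ K : Subgroup G) : Set G)).index := by
  have hπ := QuotientGroup.mk'_surjective K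
  rw [SylowNumbers.card_eq (P.mapSurjective hπ), Sylow.coe_mapSurjective,
    ← Subgroup.index_comap_of_surjective _ hπ, Subgroup.comap_normalizer_eq_of_surjective _ hπ,
    Subgroup.comap_map_eq, QuotientGroup.ker_mk']

lemma normalizer_sup_eq (P : Sylow p G) (K : Subgroup G) [hK : K.Normal] :
    Subgroup.normalizer (((P : Subgroup G) ⊔ K : Subgroup G) : Set G) =
      Subgroup.normalizer ((P : Subgroup G) : Set G) ⊔ K := by
  set L := (P : Subgroup G) ⊔ K with hL
  refine le_antisymm (fun g hg => ?_) (sup_le (fun g hg => ?_) (le_sup_right.trans Subgroup.le_normalizer))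
  · have hPL : (P : Subgroup G) ≤ L := le_sup_left
    have hgPL : ((g • P : Sylow p G) : Subgroup G) ≤ L := by
      rintro _ ⟨y, hy, rfl⟩
      exact (Subgroup.mem_normalizer_iff.1 hg y).1 (hPL hy)
    obtain ⟨l, hl⟩ := MulAction.exists_smul_eq ↥L ((g • P).subtype hgPL) (P.subtype hPL)
    rw [Sylow.smul_subtype hgPL] at hl
    have h1 := Sylow.subtype_injective hl
    have h2 : (l : G) * g ∈ Subgroup.normalizer ((P : Subgroup G) : Set G) := by
      refine Sylow.smul_eq_iff_mem_normalizer.1 ?_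
      rw [mul_smul]; exact h1
    have h3 : (l : G) ∈ Subgroup.normalizer ((P : Subgroup G) : Set G) ⊔ K :=
      (sup_le_sup_right Subgroup.le_normalizer K) l.2
    have := mul_mem (inv_mem h3) (Subgroup.mem_sup_left h2)
    simpa using this
  · rw [Subgroup.mem_normalizer_iff_map_conj_eq, hL, Subgroup.map_sup,
      Subgroup.mem_normalizer_iff_map_conj_eq.1 hg]
    congr 1
    exact Subgroup.mem_normalizer_iff_map_conj_eq.1
      (by rw [Subgroup.normalizer_eq_top]; trivial)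

lemma card_sup_normal (A N : Subgroup G) [N.Normal] :
    Nat.card ↥(A ⊔ N) * Nat.card ↥(A ⊓ N) = Nat.card ↥A * Nat.card ↥N := by
  have h1 : Nat.card ↥N * N.relIndex A = Nat.card ↥(A ⊔ N) := by
    rw [← Subgroup.relIndex_sup_right, ← Subgroup.relIndex_bot_left, ← Subgroup.relIndex_bot_left,
      Subgroup.relIndex_mul_relIndex _ _ _ bot_le le_sup_right]
  have h2 : Nat.card ↥(A ⊓ N) * N.relIndex A = Nat.card ↥A := by
    rw [← Subgroup.inf_relIndex_right N A, inf_comm N A, ← Subgroup.relIndex_bot_left, ← Subgroup.relIndex_bot_left,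
      Subgroup.relIndex_mul_relIndex _ _ _ bot_le inf_le_left]
  rw [← h1, ← h2]; ring

lemma pow_mem_of_mem_sup (P : Sylow p G) (K : Subgroup G) [K.Normal] {x : G}
    (hx : x ∈ (P : Subgroup G) ⊔ K) : ∃ a, x ^ p ^ a ∈ K := by
  obtain ⟨y, hy, k, hk, rfl⟩ := Subgroup.mem_sup_of_normal_right.1 hx
  obtain ⟨a, ha⟩ := P.isPGroup' ⟨y, hy⟩
  refine ⟨a, (QuotientGroup.eq_one_iff _).1 ?_⟩
  show QuotientGroup.mk' K ((y * k) ^ p ^ a) = 1
  rw [map_pow, map_mul, show QuotientGroup.mk' K k = 1 from (QuotientGroup.eq_one_iff k).2 hk, mul_one,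
    ← map_pow, show y ^ p ^ a = 1 from congrArg Subtype.val ha, map_one]

/-- Let M and N be nontrivial normal subgroups of the finite group G with M ⊓ N trivial, and let p be a prime. Writing n(X) for the number of Sylow p-subgroups of a group X, one has n(G) · n(G/MN) = n(G/M) · n(G/N). -/
theorem result {G : Type*} [Group G] [Finite G] (p : ℕ) [Fact p.Prime] (M N : Subgroup G) [M.Normal] [N.Normal] (hM : M ≠ ⊥) (hN : N ≠ ⊥) (hMN : M ⊓ N = ⊥) : Nat.card (Sylow p G) * Nat.card (Sylow p (G ⧸ (M ⊔ N))) = Nat.card (Sylow p (G ⧸ M)) * Nat.card (Sylow p (G ⧸ N)) := by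
  obtain ⟨P⟩ : Nonempty (Sylow p G) := inferInstance
  set NP := Subgroup.normalizer ((P : Subgroup G) : Set G) with hNP
  rw [SylowNumbers.card_eq P, card_sylow_quotient P, card_sylow_quotient P, card_sylow_quotient P,
    normalizer_sup_eq, normalizer_sup_eq, normalizer_sup_eq, ← hNP]
  set A := NP ⊔ M with hA
  set B := NP ⊔ N with hB
  have hAB : A ⊓ B ≤ NP := by
    rintro g ⟨hgA, hgB⟩
    rw [SetLike.mem_coe, hA, hNP, ← normalizer_sup_eq] at hgA
    rw [SetLike.mem_coe, hB, hNP, ← normalizer_sup_eq] at hgB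
    set X := ((P : Subgroup G) ⊔ M) ⊓ ((P : Subgroup G) ⊔ N) with hX
    have hXp : IsPGroup p ↥X := by
      rintro ⟨x, hx⟩
      obtain ⟨a, ha⟩ := pow_mem_of_mem_sup P M hx.1
      obtain ⟨b, hb⟩ := pow_mem_of_mem_sup P N (x := x ^ p ^ a) (pow_mem hx.2 _)
      refine ⟨a + b, Subtype.ext ?_⟩
      have : (x ^ p ^ a) ^ p ^ b ∈ M ⊓ N := ⟨pow_mem ha _, hb⟩
      rw [hMN, Subgroup.mem_bot, ← pow_mul, ← pow_add] at this
      simpa using this
    have hXP : X = (P : Subgroup G) := P.is_maximal' hXp (le_inf le_sup_left le_sup_left)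
    refine Sylow.smul_eq_iff_mem_normalizer.1 (Sylow.ext ?_)
    refine Subgroup.eq_of_le_of_card_ge ?_ (Nat.card_congr ((g • P).equiv P).toEquiv).ge
    rintro _ ⟨y, hy, rfl⟩
    rw [← hXP]
    exact ⟨(Subgroup.mem_normalizer_iff.1 hgA y).1 (Subgroup.mem_sup_left hy),
      (Subgroup.mem_normalizer_iff.1 hgB y).1 (Subgroup.mem_sup_left hy)⟩
  have hAN : A ⊓ N = NP ⊓ N := by
    refine le_antisymm (fun x hx => ⟨hAB ⟨hx.1, Subgroup.mem_sup_right hx.2⟩, hx.2⟩)
      (inf_le_inf_right N le_sup_left)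
  have hC : NP ⊔ (M ⊔ N) = A ⊔ N := (sup_assoc _ _ _).symm
  rw [hC]
  have e1 := card_sup_normal A N
  have e2 := card_sup_normal NP N
  rw [← hB] at e2
  rw [hAN] at e1
  have key : Nat.card ↥(A ⊔ N) * Nat.card ↥NP = Nat.card ↥A * Nat.card ↥B := by
    apply Nat.eq_of_mul_eq_mul_right (Nat.card_pos (α := ↥(NP ⊓ N : Subgroup G)))
    calc Nat.card ↥(A ⊔ N) * Nat.card ↥NP * Nat.card ↥(NP ⊓ N)
        = (Nat.card ↥(A ⊔ N) * Nat.card ↥(NP ⊓ N)) * Nat.card ↥NP := by ring
      _ = Nat.card ↥A * (Nat.card ↥B * Nat.card ↥(NP ⊓ N)) := by rw [e1, e2]; ring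
      _ = _ := by ring
  apply Nat.eq_of_mul_eq_mul_left (Nat.mul_pos (Nat.card_pos (α := ↥A)) (Nat.card_pos (α := ↥B)))
  calc Nat.card ↥A * Nat.card ↥B * (NP.index * (A ⊔ N).index)
      = (Nat.card ↥NP * NP.index) * (Nat.card ↥(A ⊔ N) * (A ⊔ N).index) := by rw [← key]; ring
    _ = (Nat.card ↥A * A.index) * (Nat.card ↥B * B.index) := by simp only [Subgroup.card_mul_index]
    _ = _ := by ring

end Cfsg.Agent.S3867
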