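import Cfsg.Statements.S3868
import Cfsg.Agent.Lib.FGBasics.MinNonClosed
import Cfsg.Agent.Lib.Solvable.Basic
import Mathlib

set_option autoImplicit false
open Cfsg

namespace Cfsg.Agent.S3868

open Cfsg.Agent

/-- Structure of the non-simple minimal non-p-closed groups. Call a finite group p-closed when its Sylow p-subgroups are normal, and minimal non-p-closed when it is not p-closed but every proper subgroup and every proper quotient is. If such a group G is not simple, then there is a prime q ≠ p such that G has order p · q^e, where e is the multiplicative order of q modulo p, and G has a normal subgroup A of order q^e that is elementary abelian and is a minimal normal subgroup of G (so G is the semidirect product of A by a group of order p acting irreducibly). -/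
theorem result {G : Type*} [Group G] [Finite G] {p : ℕ} [Fact p.Prime]
    (hnc : ¬ Cfsg.IsPClosed p G) (hsub : ∀ H : Subgroup G, H ≠ ⊤ → Cfsg.IsPClosed p ↥H)
    (hquo : ∀ (N : Subgroup G) [N.Normal], N ≠ ⊥ → Cfsg.IsPClosed p (G ⧸ N)) (hns : ¬ IsSimpleGroup G) :
    ∃ q : ℕ, q.Prime ∧ q ≠ p ∧ Nat.card G = p * q ^ orderOf (q : ZMod p) ∧
      ∃ A : Subgroup G, A.Normal ∧ Nat.card ↥A = q ^ orderOf (q : ZMod p) ∧ Cfsg.IsElementaryAbelian q A ∧
        ∀ B : Subgroup G, B.Normal → B ≤ A → B = ⊥ ∨ B = A := by
  classical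
  have hp : p.Prime := Fact.out
  haveI : Nontrivial G := by
    by_contra h
    rw [not_nontrivial_iff_subsingleton] at h
    exact hnc fun P => ⟨fun x hx g => by rw [Subsingleton.elim (g * x * g⁻¹) x]; exact hx⟩
  obtain ⟨N, hNn, hN, -, hmin⟩ := SolvBasic.exists_minimal_normal (N := (⊤ : Subgroup G)) inferInstance bot_lt_top.ne'
  haveI := hNn
  have hNtop : N ≠ ⊤ := by
    intro h
    apply hns
    refine { eq_bot_or_eq_top_of_normal := fun B hB => ?_ }
    have := hmin B hB (h ▸ le_top)
    rwa [h] at this
  obtain ⟨P⟩ : Nonempty (Sylow p G) := inferInstance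
  have hPnn : ¬ (P : Subgroup G).Normal := by
    intro h
    haveI := h
    haveI := Sylow.unique_of_normal P h
    exact hnc fun Q => by rw [Subsingleton.elim Q P]; exact h
  have hquo' : ∀ M : Subgroup G, M.Normal → M ≠ ⊥ → ((P : Subgroup G) ⊔ M).Normal := by
    intro M hM hM0
    haveI := hM
    have h1 := hquo M hM0 (P.mapSurjective (QuotientGroup.mk'_surjective M))
    have h2 := h1.comap (QuotientGroup.mk' M)
    rwa [Sylow.coe_mapSurjective, Subgroup.comap_map_eq, QuotientGroup.ker_mk'] at h2
  have hpN : ¬ p ∣ Nat.card N := by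
    intro hd
    obtain ⟨Q⟩ : Nonempty (Sylow p ↥N) := inferInstance
    have hQn := hsub N hNtop Q
    haveI hQc := Q.characteristic_of_normal hQn
    rcases hmin ((Q : Subgroup ↥N).map N.subtype) (ConjAct.normal_of_characteristic_of_normal)
      (Subgroup.map_subtype_le _) with h | h
    · rw [Subgroup.map_eq_bot_iff_of_injective _ N.subtype_injective] at h
      exact Q.ne_bot_of_dvd_card hd h
    · have hNp : IsPGroup p N := h ▸ Q.isPGroup'.map _
      have hle : N ≤ (P : Subgroup G) := (PBasic.le_pCore hNn hNp).trans (PBasic.pCore_le_sylow P)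
      have h1 := hquo' N hNn hN
      rw [sup_eq_left.2 hle] at h1
      exact hPnn h1
  have hsub' : ∀ R H : Subgroup G, R ≤ (P : Subgroup G) → R ≤ H → H ≠ ⊤ → ¬ p ∣ R.relIndex H →
      H ≤ Subgroup.normalizer (R : Set G) := by
    intro R H hRP hRH hH hidx
    let S : Sylow p ↥H := ((P.isPGroup'.to_le hRP).of_equiv (Subgroup.subgroupOfEquivOfLe hRH).symm).toSylow hidx
    exact (Subgroup.normal_subgroupOf_iff_le_normalizer hRH).1 (hsub H hH S)
  have hsup : N ⊔ (P : Subgroup G) = ⊤ := by
    by_contra hne
    apply hPnn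
    haveI hTn : (N ⊔ (P : Subgroup G)).Normal := by rw [sup_comm]; exact hquo' N hNn hN
    have hidx : ¬ p ∣ (P : Subgroup G).relIndex (N ⊔ (P : Subgroup G)) := fun h =>
      P.not_dvd_index (h.trans (Subgroup.relIndex_dvd_index_of_le le_sup_right))
    have h1 := hsub' _ _ le_rfl le_sup_right hne hidx
    have h2 := Sylow.normalizer_sup_eq_top (P.subtype (le_sup_right : (P : Subgroup G) ≤ N ⊔ (P : Subgroup G)))
    rw [Sylow.coe_subtype, Subgroup.map_subgroupOf_eq_of_le le_sup_right, sup_eq_left.2 h1,
      Subgroup.normalizer_eq_top_iff] at h2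
    exact h2
  exact MinNonClosed.structure_of_supplement P N hN hmin
    (Nat.coprime_comm.1 (hp.coprime_iff_not_dvd.2 hpN)) hsup hPnn hsub' hquo'

end Cfsg.Agent.S3868
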