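import Cfsg.Statements.S3869
import Cfsg.Agent.Lib.Transfer.Basic
import Mathlib

set_option autoImplicit false
open Cfsg

namespace Cfsg.Agent.S3869

open Subgroup

/-- A finite field generated by an element of multiplicative order `p`. -/
lemma card_field {K : Type*} [Field K] [Fintype K] {p q : ℕ} [Fact p.Prime] [Fact q.Prime] [CharP K q]
    (τ : K) (hτp : τ ^ p = 1) (hτ1 : τ ≠ 1) (hgen : ∀ S : Subring K, τ ∈ S → S = ⊤) :
    Fintype.card K = q ^ orderOf (q : ZMod p) := by
  classical
  obtain ⟨d, -, hd⟩ := FiniteField.card K q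
  have hτo : orderOf τ = p := orderOf_eq_prime hτp hτ1
  have hτ0 : τ ≠ 0 := fun h => by
    rw [h, zero_pow (Fact.out : p.Prime).ne_zero] at hτp
    exact zero_ne_one hτp
  set e := orderOf (q : ZMod p) with he
  have hed : e ∣ (d : ℕ) := by
    rw [he, orderOf_dvd_iff_pow_eq_one]
    have hp1 : p ∣ q ^ (d : ℕ) - 1 := by
      rw [← hd, ← hτo]
      exact orderOf_dvd_of_pow_eq_one (FiniteField.pow_card_sub_one_eq_one τ hτ0)
    have := (ZMod.natCast_eq_zero_iff (q ^ (d : ℕ) - 1) p).2 hp1
    rw [Nat.cast_sub (Nat.one_le_pow _ _ (Fact.out : q.Prime).pos), Nat.cast_pow, Nat.cast_one,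
      sub_eq_zero] at this
    exact this
  have he0 : 0 < e := Nat.pos_of_dvd_of_pos hed d.pos
  haveI : ExpChar K q := ExpChar.prime Fact.out
  let φ : K →+* K := iterateFrobenius K q e
  have hτfix : φ τ = τ := by
    show τ ^ q ^ e = τ
    have h1 : q ^ e ≡ 1 [MOD orderOf τ] := by
      rw [hτo, ← ZMod.natCast_eq_natCast_iff, Nat.cast_pow, he, pow_orderOf_eq_one, Nat.cast_one]
    rw [← pow_mod_orderOf, h1, pow_mod_orderOf, pow_one]
  have htop : RingHom.eqLocus φ (RingHom.id K) = ⊤ := hgen _ hτfix
  have hfix : ∀ k : K, k ^ q ^ e = k := fun k => (htop ▸ Subring.mem_top k : k ∈ RingHom.eqLocus φ (RingHom.id K))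
  have hle : q ^ (d : ℕ) ≤ q ^ e := by
    have h1 : 1 < q ^ e := Nat.one_lt_pow he0.ne' (Fact.out : q.Prime).one_lt
    have h2 : Fintype.card K ≤ (Polynomial.X ^ q ^ e - Polynomial.X : Polynomial K).natDegree := by
      refine Polynomial.card_le_degree_of_subset_roots (Z := Finset.univ) fun k _ => ?_
      rw [Polynomial.mem_roots (FiniteField.X_pow_card_sub_X_ne_zero K h1)]
      simp [Polynomial.IsRoot, hfix k]
    rwa [FiniteField.X_pow_card_sub_X_natDegree_eq K h1, hd] at h2
  rw [hd]
  exact le_antisymm hle (Nat.pow_le_pow_right (Fact.out : q.Prime).pos (Nat.le_of_dvd d.pos hed))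

/-- An irreducible automorphism of prime order `p` of an elementary abelian `q`-group. -/
lemma card_module {V : Type*} [AddCommGroup V] [Finite V] [Nontrivial V] {p q : ℕ} [Fact p.Prime]
    [Fact q.Prime] (hq : ∀ v : V, q • v = 0) (T : AddMonoid.End V) (hT : T ^ p = 1) (hT1 : T ≠ 1)
    (hirr : ∀ W : AddSubgroup V, (∀ w ∈ W, T w ∈ W) → W = ⊥ ∨ W = ⊤) (hpq : q ≠ p) :
    Nat.card V = q ^ orderOf (q : ZMod p) := by
  classical
  haveI : Finite (AddMonoid.End V) := Finite.of_injective (fun e => (e : V → V)) DFunLike.coe_injective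
  let K := Subring.closure ({T} : Set (AddMonoid.End V))
  have hcomm : ∀ k ∈ K, Commute k T := by
    intro k hk
    induction hk using Subring.closure_induction with
    | mem x hx => rw [Set.mem_singleton_iff] at hx; rw [hx]
    | zero => exact Commute.zero_left _
    | one => exact Commute.one_left _
    | add x y _ _ hx hy => exact hx.add_left hy
    | neg x _ hx => exact hx.neg_left
    | mul x y _ _ hx hy => exact hx.mul_left hy
  have hinj : ∀ k ∈ K, k ≠ 0 → Function.Injective k := by
    intro k hk hk0
    rcases hirr (AddMonoidHom.ker k) (fun w hw => by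
      show k (T w) = 0
      have h1 : k (T w) = T (k w) := DFunLike.congr_fun (hcomm k hk).eq w
      rw [h1, show k w = 0 from hw, map_zero]) with h | h
    · exact (AddMonoidHom.ker_eq_bot_iff k).1 h
    · exfalso
      apply hk0
      ext v
      exact (h ▸ AddSubgroup.mem_top v : v ∈ AddMonoidHom.ker k)
  haveI : Nontrivial K := ⟨0, 1, fun h => by
    obtain ⟨v, hv⟩ := exists_ne (0 : V)
    exact hv (DFunLike.congr_fun (congrArg Subtype.val h).symm v)⟩
  letI : CommRing K := Subring.closureCommRingOfComm (by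
    rintro x hx y hy
    rw [Set.mem_singleton_iff] at hx hy
    rw [hx, hy])
  haveI : NoZeroDivisors K := ⟨fun {a b} h => by
    by_contra hcon
    push Not at hcon
    obtain ⟨ha, hb⟩ := hcon
    apply hb
    apply Subtype.ext
    ext v
    apply hinj a a.2 (fun e => ha (Subtype.ext e))
    show (a : AddMonoid.End V) ((b : AddMonoid.End V) v) = (a : AddMonoid.End V) 0
    rw [map_zero]
    exact DFunLike.congr_fun (congrArg Subtype.val h) v⟩
  haveI : IsDomain K := NoZeroDivisors.to_isDomain K
  haveI := Fintype.ofFinite K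
  letI : Field K := Fintype.fieldOfDomain K
  -- `K` acts simply transitively
  obtain ⟨v₀, hv₀⟩ := exists_ne (0 : V)
  let ev : K →+ V := AddMonoidHom.mk' (fun k => (k : AddMonoid.End V) v₀) (fun a b => rfl)
  have hev : Function.Bijective ev := by
    refine ⟨(injective_iff_map_eq_zero ev).2 fun k hk => ?_, ?_⟩
    · by_contra h0
      exact hv₀ (hinj k k.2 (fun e => h0 (Subtype.ext e)) (hk.trans (map_zero _).symm))
    · rcases hirr ev.range (by
        rintro w ⟨k, rfl⟩
        exact ⟨⟨T, Subring.subset_closure rfl⟩ * k, rfl⟩) with h | h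
      · exact absurd (h ▸ ⟨1, rfl⟩ : v₀ ∈ (⊥ : AddSubgroup V)) hv₀
      · exact AddMonoidHom.range_eq_top.1 h
  have hcard : Nat.card V = Nat.card K := (Nat.card_congr (Equiv.ofBijective ev hev)).symm
  haveI : CharP K q := (CharP.charP_iff_prime_eq_zero Fact.out).2 (Subtype.ext (by
    ext v
    show ((q : K) : AddMonoid.End V) v = 0
    rw [← hq v, Subring.coe_natCast, AddMonoid.End.natCast_apply]))
  have hgen : ∀ S : Subring K, (⟨T, Subring.subset_closure rfl⟩ : K) ∈ S → S = ⊤ := by
    intro S hS
    rw [eq_top_iff]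
    rintro ⟨k, hk⟩ -
    have : K ≤ S.map K.subtype := Subring.closure_le.2 fun x hx => by
      rw [Set.mem_singleton_iff] at hx
      exact ⟨_, hS, hx.symm⟩
    obtain ⟨y, hy, hyk⟩ := this hk
    rwa [show (⟨k, hk⟩ : K) = y from Subtype.ext hyk.symm]
  rw [hcard, Nat.card_eq_fintype_card]
  exact card_field (⟨T, Subring.subset_closure rfl⟩ : K) (Subtype.ext hT)
    (fun h => hT1 (congrArg Subtype.val h)) hgen

/-- Let p and q be distinct primes and G a finite non-abelian group with a normal elementary abelian q-subgroup A that is a minimal normal subgroup of G and has index p. Then A has order q^e with e the multiplicative order of q modulo p, and G is minimal non-p-closed: its Sylow p-subgroups are not normal, while in every proper subgroup and in every proper quotient of G the Sylow p-subgroups are normal. -/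
theorem result {G : Type*} [Group G] [Finite G] {p q : ℕ} [Fact p.Prime] (hq : q.Prime) (hpq : q ≠ p)
    (hna : ¬ IsMulCommutative G) (A : Subgroup G) [A.Normal] (hA : Cfsg.IsElementaryAbelian q A) (hidx : A.index = p)
    (hmin : ∀ B : Subgroup G, B.Normal → B ≤ A → B = ⊥ ∨ B = A) :
    Nat.card ↥A = q ^ orderOf (q : ZMod p) ∧ ¬ Cfsg.IsPClosed p G ∧ (∀ H : Subgroup G, H ≠ ⊤ → Cfsg.IsPClosed p ↥H) ∧
      ∀ (N : Subgroup G) [N.Normal], N ≠ ⊥ → Cfsg.IsPClosed p (G ⧸ N) := by
  haveI := Fact.mk hq
  have hp : p.Prime := Fact.out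
  have hcommA : ∀ a ∈ A, ∀ b ∈ A, a * b = b * a := fun a ha b hb =>
    congrArg Subtype.val (hA.1.is_comm.comm ⟨a, ha⟩ ⟨b, hb⟩)
  have hAq : IsPGroup q A := fun a => ⟨1, Subtype.ext (by rw [pow_one]; exact hA.2 a a.2)⟩
  obtain ⟨d, hd⟩ := IsPGroup.iff_card.1 hAq
  have hpA : ¬ p ∣ Nat.card A := fun h => hpq ((Nat.prime_dvd_prime_iff_eq hp hq).1
    (hp.dvd_of_dvd_pow (hd ▸ h))).symm
  obtain ⟨x, hx⟩ := exists_prime_orderOf_dvd_card' (G := G) p (hidx ▸ A.index_dvd_card)
  have hxA : x ∉ A := fun h => hpA (by rw [← hx, ← orderOf_mk x h]; exact orderOf_dvd_natCard _)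
  have hsup : ∀ H : Subgroup G, ¬ H ≤ A → A ⊔ H = ⊤ := by
    intro H hH
    have hd' : (A ⊔ H).index ∣ p := hidx ▸ index_dvd_of_le le_sup_left
    rcases (Nat.dvd_prime hp).1 hd' with h | h
    · exact index_eq_one.1 h
    · refine absurd ?_ hH
      have : A = A ⊔ H := eq_of_le_of_card_ge le_sup_left (by
        have e1 := A.card_mul_index; have e2 := (A ⊔ H).card_mul_index
        rw [hidx] at e1; rw [h, ← e1] at e2
        exact (Nat.eq_of_mul_eq_mul_right hp.pos e2).le)
      exact this.symm ▸ le_sup_right
  have htop : A ⊔ zpowers x = ⊤ := hsup _ fun h => hxA (h (mem_zpowers x))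
  -- normality of `A`-parts
  have hnormal : ∀ B : Subgroup G, B ≤ A → (∀ b ∈ B, x * b * x⁻¹ ∈ B) → B.Normal := by
    intro B hB hxB
    rw [← normalizer_eq_top_iff, eq_top_iff, ← htop, sup_le_iff, zpowers_le]
    refine ⟨fun a ha => ?_, ?_⟩
    · rw [mem_normalizer_iff_map_conj_eq]
      refine eq_of_le_of_card_ge ?_ (card_map_of_injective (MulEquiv.injective _)).ge
      rintro _ ⟨b, hb, rfl⟩
      show a * b * a⁻¹ ∈ B
      rwa [hcommA a ha b (hB hb), mul_inv_cancel_right]
    · rw [mem_normalizer_iff_map_conj_eq]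
      refine eq_of_le_of_card_ge ?_ (card_map_of_injective (MulEquiv.injective _)).ge
      rintro _ ⟨b, hb, rfl⟩
      exact hxB b hb
  -- `x` does not centralize `A`
  have hxc : ∃ a ∈ A, x * a ≠ a * x := by
    by_contra h
    push Not at h
    apply hna
    refine ⟨⟨fun g g' => ?_⟩⟩
    have hc : A ⊔ zpowers x ≤ center G := by
      have hxc : x ∈ center G := mem_center_iff.2 fun g => by
        have : A ⊔ zpowers x ≤ centralizer ({x} : Set G) :=
          sup_le (fun a ha => mem_centralizer_singleton_iff.2 (h a ha).symm)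
            (zpowers_le.2 (mem_centralizer_singleton_iff.2 rfl))
        exact mem_centralizer_singleton_iff.1 (this (htop ▸ mem_top g))
      refine sup_le (fun a ha => mem_center_iff.2 fun g => ?_) (zpowers_le.2 hxc)
      have : A ⊔ zpowers x ≤ centralizer ({a} : Set G) :=
        sup_le (fun b hb => mem_centralizer_singleton_iff.2 (hcommA b hb a ha))
          (zpowers_le.2 (mem_centralizer_singleton_iff.2 (h a ha)))
      exact mem_centralizer_singleton_iff.1 (this (htop ▸ mem_top g))
    exact (mem_center_iff.1 (hc (htop ▸ mem_top g')) g)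
  haveI : Nontrivial A := by
    obtain ⟨a, ha, hne⟩ := hxc
    exact ⟨⟨⟨a, ha⟩, 1, fun h => hne (by rw [show a = 1 from congrArg Subtype.val h]; simp)⟩⟩
  refine ⟨?_, ?_, ?_, ?_⟩
  · letI : CommGroup A := { (inferInstance : Group A) with mul_comm := hA.1.is_comm.comm }
    have hmem : ∀ a ∈ A, x * a * x⁻¹ ∈ A := fun a ha => (inferInstance : A.Normal).conj_mem a ha x
    let t : A →* A := ((MulAut.conj x).toMonoidHom.comp A.subtype).codRestrict A (fun a => hmem a a.2)
    let T : AddMonoid.End (Additive A) := MonoidHom.toAdditive t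
    have ht : ∀ (k : ℕ) (a : A), (((T ^ k)
        (Additive.ofMul a)).toMul : G) = x ^ k * (a : G) * (x ^ k)⁻¹ := by
      intro k
      induction k with
      | zero => intro a; simp
      | succ k ih =>
        intro a
        rw [pow_succ]
        show (((T ^ k) (Additive.ofMul (t a))).toMul : G) = _
        rw [ih]
        simp [t, pow_succ, mul_assoc]
    rw [← Nat.card_congr (Additive.ofMul (α := A)).symm]
    refine card_module (p := p) (fun v => ?_) T ?_ ?_ ?_ hpq
    · apply Additive.toMul.injective
      rw [toMul_nsmul, toMul_zero]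
      exact Subtype.ext (hA.2 _ v.toMul.2)
    · refine DFunLike.ext _ _ fun v => ?_
      apply Additive.toMul.injective
      apply Subtype.ext
      have := ht p v.toMul
      rw [ofMul_toMul] at this
      rw [this, show x ^ p = 1 by rw [← hx, pow_orderOf_eq_one]]
      simp
    · intro h
      obtain ⟨a, ha, hne⟩ := hxc
      apply hne
      have h1 := congrArg (fun v : Additive A => (v.toMul : G))
        (DFunLike.congr_fun h (Additive.ofMul ⟨a, ha⟩))
      exact mul_inv_eq_iff_eq_mul.1 h1
    · intro W hW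
      let B : Subgroup G := (AddSubgroup.toSubgroup' W).map A.subtype
      have hBn : B.Normal := hnormal B (map_subtype_le _) (by
        rintro _ ⟨b, hb, rfl⟩
        exact ⟨t b, hW _ hb, rfl⟩)
      rcases hmin B hBn (map_subtype_le _) with h | h
      · left
        rw [Subgroup.map_eq_bot_iff_of_injective _ A.subtype_injective] at h
        rw [eq_bot_iff]
        intro w hw
        have : w.toMul ∈ (⊥ : Subgroup A) := h ▸ hw
        exact Additive.toMul.injective (mem_bot.1 this)
      · right
        rw [eq_top_iff]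
        intro w _
        obtain ⟨b, hb, hbw⟩ : ((w.toMul : A) : G) ∈ B := h.symm ▸ (w.toMul : A).2
        rwa [A.subtype_injective hbw] at hb
  · intro hclosed
    obtain ⟨P, hP⟩ := (IsPGroup.of_card (p := p) (n := 1) (G := zpowers x)
      (by rw [Nat.card_zpowers, hx, pow_one])).exists_le_sylow
    haveI := hclosed P
    obtain ⟨a, ha, hne⟩ := hxc
    apply hne
    have hdis : Disjoint A (P : Subgroup G) := IsPGroup.disjoint_of_ne q p hpq _ _ hAq P.isPGroup'
    exact ((Subgroup.commute_of_normal_of_disjoint A (P : Subgroup G) inferInstance inferInstance hdis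
      a x ha (hP (mem_zpowers x))).eq).symm
  · intro H hH P
    by_cases hHA : H ≤ A
    · have hP1 : (P : Subgroup H) = ⊥ := by
        rw [← card_eq_one]
        obtain ⟨k, hk⟩ := IsPGroup.iff_card.1 P.isPGroup'
        rw [hk]
        rcases Nat.eq_zero_or_pos k with h0 | hpos
        · rw [h0, pow_zero]
        · exact absurd ((dvd_pow_self p hpos.ne').trans (hk ▸ (P : Subgroup H).card_subgroup_dvd_card))
            (fun h => hpA (h.trans (card_dvd_of_le hHA)))
      rw [hP1]; infer_instance
    · have htop' := hsup H hHA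
      have hn : (H ⊓ A).Normal := by
        rw [← normalizer_eq_top_iff, eq_top_iff, ← htop', sup_le_iff]
        constructor
        · intro a ha
          rw [mem_normalizer_iff_map_conj_eq]
          refine eq_of_le_of_card_ge ?_ (card_map_of_injective (MulEquiv.injective _)).ge
          rintro _ ⟨b, hb, rfl⟩
          show a * b * a⁻¹ ∈ H ⊓ A
          rwa [hcommA a ha b hb.2, mul_inv_cancel_right]
        · exact le_trans (le_inf le_normalizer (fun h _ => by
            rw [normalizer_eq_top_iff.2 (inferInstance : A.Normal)]; exact mem_top h))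
            inf_normalizer_le_normalizer_inf
      rcases hmin _ hn inf_le_right with h | h
      · have hcard : Nat.card H = p := by
          have h1 : (A.subgroupOf H).index = p := by
            rw [← relIndex, ← relIndex_sup_right, sup_comm, htop', relIndex_top_right, hidx]
          rw [← card_mul_index (A.subgroupOf H), h1]
          have : A.subgroupOf H = ⊥ := by rw [subgroupOf_eq_bot, disjoint_iff, inf_comm, h]
          rw [this, card_bot, one_mul]
        have hPtop : (P : Subgroup H) = ⊤ := by
          rw [← P.3 (Q := ⊤) (IsPGroup.of_card (n := 1) (by rw [card_top, hcard, pow_one])) le_top]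
        rw [hPtop]; infer_instance
      · exact absurd (top_le_iff.1 (htop' ▸ sup_le (h ▸ inf_le_left) le_rfl)) hH
  · intro N _ hN P
    have hAN : A ≤ N := by
      rcases hmin (N ⊓ A) inferInstance inf_le_right with h | h
      · exfalso
        obtain ⟨g, hg, hg1⟩ := (bot_or_exists_ne_one N).resolve_left hN
        have hgA : g ∉ A := fun h' => hg1 (mem_bot.1 (h ▸ ⟨hg, h'⟩ : g ∈ (⊥ : Subgroup G)))
        have hgc : ∀ a ∈ A, Commute g a := fun a ha =>
          Subgroup.commute_of_normal_of_disjoint N A inferInstance inferInstance (disjoint_iff.2 h) g a hg ha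
        obtain ⟨a, ha, hne⟩ := hxc
        apply hne
        have hgen : A ⊔ zpowers g = ⊤ := hsup _ fun h' => hgA (h' (mem_zpowers g))
        have : A ⊔ zpowers g ≤ centralizer ({a} : Set G) :=
          sup_le (fun b hb => mem_centralizer_singleton_iff.2 (hcommA b hb a ha))
            (zpowers_le.2 (mem_centralizer_singleton_iff.2 (hgc a ha).eq))
        exact mem_centralizer_singleton_iff.1 (this (hgen ▸ mem_top x))
      · exact h ▸ inf_le_left
    have hd' : Nat.card (G ⧸ N) ∣ p := by rw [← index]; exact hidx ▸ index_dvd_of_le hAN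
    obtain ⟨k, -, hk⟩ := (Nat.dvd_prime_pow hp).1 ((pow_one p).symm ▸ hd')
    have hPtop : (P : Subgroup (G ⧸ N)) = ⊤ := by
      rw [← P.3 (Q := ⊤) (IsPGroup.of_card (n := k) (by rw [card_top, hk])) le_top]
    rw [hPtop]; infer_instance

end Cfsg.Agent.S3869
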