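import Cfsg.Statements.S3870
import Mathlib

set_option autoImplicit false
open Cfsg

namespace Cfsg.Agent.S3870

open scoped Pointwise

lemma exists_normalizing {G : Type*} [Group G] [Finite G] {p : ℕ} [Fact p.Prime] (P : Sylow p G)
    {R : Subgroup G} (hRP : R < P) :
    ∃ x ∈ (P : Subgroup G), x ∈ Subgroup.normalizer (R : Set G) ∧ x ∉ R := by
  haveI : Group.IsNilpotent ↥(P : Subgroup G) := P.isPGroup'.isNilpotent
  have hne : R.subgroupOf (P : Subgroup G) < ⊤ := lt_top_iff_ne_top.2 fun h =>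
    hRP.not_ge (Subgroup.subgroupOf_eq_top.1 h)
  obtain ⟨x, hxN, hxR⟩ := SetLike.exists_of_lt (Group.normalizerCondition_of_isNilpotent _ hne)
  refine ⟨x, x.2, ?_, fun h => hxR h⟩
  have h2 := Subgroup.le_normalizer_map (H := R.subgroupOf (P : Subgroup G)) (P : Subgroup G).subtype
    ⟨x, hxN, rfl⟩
  rwa [Subgroup.map_subgroupOf_eq_of_le hRP.le] at h2

lemma ti {G : Type*} [Group G] [Finite G] [IsSimpleGroup G] {p : ℕ} [Fact p.Prime]
    (hnc : ¬ Cfsg.IsPClosed p G) (hsub : ∀ H : Subgroup G, H ≠ ⊤ → Cfsg.IsPClosed p ↥H)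
    (R : Subgroup G) : R ≠ ⊥ → ∀ P Q : Sylow p G, (P : Subgroup G) ⊓ Q = R → P = Q := by
  induction R using WellFoundedGT.induction with
  | ind R ih =>
    intro hR P Q hPQ
    by_contra hne
    have hRP : R < P := lt_of_le_of_ne (hPQ ▸ inf_le_left) fun h => hne (Sylow.ext
      ((P.is_maximal' Q.isPGroup' (h ▸ hPQ ▸ inf_le_right)).symm))
    have hRQ : R < Q := lt_of_le_of_ne (hPQ ▸ inf_le_right) fun h => hne (Sylow.ext
      (Q.is_maximal' P.isPGroup' (h ▸ hPQ ▸ inf_le_left)))
    have hN : Subgroup.normalizer (R : Set G) ≠ ⊤ := fun h => by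
      rcases (Subgroup.normalizer_eq_top_iff.1 h).eq_bot_or_eq_top with h1 | h1
      · exact hR h1
      · exact hRP.not_ge (h1 ▸ le_top)
    set N := Subgroup.normalizer (R : Set G) with hNdef
    let S : Sylow p ↥N := default
    haveI : (S : Subgroup ↥N).Normal := hsub N hN S
    haveI := Sylow.unique_of_normal S inferInstance
    obtain ⟨T, hT⟩ := ((S.isPGroup').map N.subtype).exists_le_sylow
    have key : ∀ P' : Sylow p G, R < P' → T = P' := by
      intro P' hP'
      obtain ⟨x, hxP, hxN, hxR⟩ := exists_normalizing P' hP'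
      have hpg : IsPGroup p ↥((P' : Subgroup G).subgroupOf N) :=
        P'.isPGroup'.comap_of_injective N.subtype N.subtype_injective
      obtain ⟨S', hS'⟩ := hpg.exists_le_sylow
      have hle : ∀ y ∈ (P' : Subgroup G), y ∈ N → y ∈ (T : Subgroup G) := fun y hy hyN =>
        hT ⟨⟨y, hyN⟩, Subsingleton.elim S' S ▸ hS' (show (⟨y, hyN⟩ : ↥N) ∈ _ from hy), rfl⟩
      have hlt : R < (T : Subgroup G) ⊓ P' :=
        lt_of_le_of_ne (fun r hr => ⟨hle r (hP'.le hr) (Subgroup.le_normalizer hr), hP'.le hr⟩)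
          fun h => hxR (h.symm ▸ (⟨hle x hxP hxN, hxP⟩ : x ∈ (T : Subgroup G) ⊓ P'))
      exact ih _ hlt (fun h => not_lt_bot (h ▸ hlt)) T P' rfl
    exact hne ((key P hRP).symm.trans (key Q hRQ))

/-- Let G be a finite simple group whose Sylow p-subgroups are not normal but such that every proper subgroup of G has a normal Sylow p-subgroup. Then any two distinct Sylow p-subgroups of G intersect trivially, and for every Sylow p-subgroup P the normalizer of every non-identity subgroup of P lies in the normalizer of P. -/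
theorem result {G : Type*} [Group G] [Finite G] [IsSimpleGroup G] {p : ℕ} [Fact p.Prime]
    (hnc : ¬ Cfsg.IsPClosed p G) (hsub : ∀ H : Subgroup G, H ≠ ⊤ → Cfsg.IsPClosed p ↥H) :
    (∀ P Q : Sylow p G, P ≠ Q → (P : Subgroup G) ⊓ (Q : Subgroup G) = ⊥) ∧
      ∀ (P : Sylow p G) (R : Subgroup G), R ≤ P → R ≠ ⊥ →
        Subgroup.normalizer (R : Set G) ≤ Subgroup.normalizer ((P : Subgroup G) : Set G) := by
  refine ⟨fun P Q hne => ?_, fun P R hRP hR g hg => ?_⟩
  · by_contra h
    exact hne (ti hnc hsub _ h P Q rfl)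
  · refine Sylow.smul_eq_iff_mem_normalizer.1 ?_
    refine ti hnc hsub _ (fun h => hR ?_) (g • P) P rfl
    rw [eq_bot_iff, ← h]
    refine fun r hr => ⟨⟨g⁻¹ * r * g, hRP ((Subgroup.mem_normalizer_iff.1 hg _).2 (by simpa [mul_assoc] using hr)), ?_⟩, hRP hr⟩
    simp [mul_assoc]

end Cfsg.Agent.S3870
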