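import Cfsg.Statements.S3872
import Cfsg.Agent.Lib.FGStruct.SubgroupCount
import Cfsg.Agent.Lib.PLocal.MaxClass
import Cfsg.Agent.Lib.FiniteGroup.PolySeq
import Mathlib

set_option autoImplicit false
open Cfsg

namespace Cfsg.Agent.S3872

open Cfsg.Agent Cfsg.Agent.PolySeq
open scoped commutatorElement

/-- A closed set of solutions of `x ^ p = 1` containing generators gives exponent `p`. -/
lemma exp_of_closure {X : Type*} [Group X] {p : ℕ}
    (h : ∃ H : Subgroup X, (H : Set X) = {g : X | g ^ p = 1}) {S : Set X} (hS : ∀ s ∈ S, s ^ p = 1) :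
    ∀ z ∈ Subgroup.closure S, z ^ p = 1 := by
  obtain ⟨H, hH⟩ := h
  intro z hz
  have h1 : Subgroup.closure S ≤ H := (Subgroup.closure_le H).2 fun s hs => by rw [hH]; exact hS s hs
  have h2 : z ∈ (H : Set X) := h1 hz
  rwa [hH] at h2

/-- Elements of a proper subgroup generated by elements of order `p` have order `p`. -/
lemma exp_of_proper {X : Type*} [Group X] {p : ℕ}
    (hsub : ∀ K : Subgroup X, K ≠ ⊤ → (∃ H : Subgroup ↥K, (H : Set ↥K) = {g : ↥K | g ^ p = 1}))
    {S : Set X} (hS : ∀ s ∈ S, s ^ p = 1) (hne : Subgroup.closure S ≠ ⊤) :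
    ∀ z ∈ Subgroup.closure S, z ^ p = 1 := by
  intro z hz
  set K := Subgroup.closure S
  have h1 := exp_of_closure (hsub K hne) (S := K.subtype ⁻¹' S)
    (fun s hs => Subtype.ext (by rw [Subgroup.coe_pow]; exact hS _ hs)) ⟨z, hz⟩
    (by
      show (⟨z, hz⟩ : ↥K) ∈ Subgroup.closure (((↑) : ↥K → X) ⁻¹' S)
      rw [Subgroup.closure_closure_coe_preimage]; exact Subgroup.mem_top _)
  simpa using congrArg Subtype.val h1

/-- Say that a finite group is p-exponent closed when its elements of order dividing p form a subgroup. Let G be a finite p-group that is not p-exponent closed, but all of whose proper subgroups and proper quotients are. Then G is generated by two elements, has nilpotency class at least p, has exponent p², has cyclic center, and has order at least p^(p+1). -/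
theorem result {G : Type*} [Group G] [Finite G] {p : ℕ} [Fact p.Prime] (hG : IsPGroup p G)
    (hnc : ¬ (∃ H : Subgroup G, (H : Set G) = {g : G | g ^ p = 1})) (hsub : ∀ K : Subgroup G, K ≠ ⊤ → (∃ H : Subgroup ↥K, (H : Set ↥K) = {g : ↥K | g ^ p = 1}))
    (hquo : ∀ (N : Subgroup G) [N.Normal], N ≠ ⊥ → (∃ H : Subgroup (G ⧸ N), (H : Set (G ⧸ N)) = {g : (G ⧸ N) | g ^ p = 1})) :
    (∃ x y : G, Subgroup.closure ({x, y} : Set G) = ⊤) ∧ (⊤ : Subgroup G).lowerCentralSeries (p - 1) ≠ ⊥ ∧
      Monoid.exponent G = p ^ 2 ∧ IsCyclic ↥(Subgroup.center G) ∧ p ^ (p + 1) ≤ Nat.card G := by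
  classical
  have hp : p.Prime := Fact.out
  haveI : Group.IsNilpotent G := hG.isNilpotent
  -- two generators of order p with product of larger order
  obtain ⟨a, ha, b, hb, hab⟩ : ∃ a : G, a ^ p = 1 ∧ ∃ b : G, b ^ p = 1 ∧ (a * b) ^ p ≠ 1 := by
    by_contra hh
    push Not at hh
    exact hnc ⟨{ carrier := {g : G | g ^ p = 1}
                 one_mem' := one_pow p
                 mul_mem' := fun {x y} hx hy => hh x hx y hy
                 inv_mem' := fun {x} hx => by
                   show x⁻¹ ^ p = 1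
                   rw [inv_pow, show x ^ p = 1 from hx, inv_one] }, rfl⟩
  have hpair : ∀ s ∈ ({a, b} : Set G), s ^ p = 1 := by rintro s (rfl | rfl) <;> assumption
  have hgen : Subgroup.closure ({a, b} : Set G) = ⊤ := by
    by_contra hne
    exact hab (exp_of_proper hsub hpair hne (a * b)
      (mul_mem (Subgroup.subset_closure (by simp)) (Subgroup.subset_closure (by simp))))
  haveI : Nontrivial G := ⟨a * b, 1, fun h => hab (by rw [h, one_pow])⟩
  -- the `p`-th powers lie in every nontrivial normal subgroup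
  have hpow : ∀ (N : Subgroup G) [N.Normal], N ≠ ⊥ → ∀ g : G, g ^ p ∈ N := by
    intro N _ hN g
    refine (QuotientGroup.eq_one_iff _).1 ?_
    rw [QuotientGroup.mk_pow]
    refine exp_of_closure (hquo N hN) (S := QuotientGroup.mk' N '' {a, b}) ?_ _ ?_
    · rintro _ ⟨s, hs, rfl⟩
      rw [← map_pow, hpair s hs, map_one]
    · rw [← MonoidHom.map_closure, hgen]
      exact ⟨g, Subgroup.mem_top g, rfl⟩
  -- the normal closure of `a` is proper
  have hA : Subgroup.closure (Group.conjugatesOfSet ({a} : Set G)) ≠ ⊤ := by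
    intro htop
    have hfr : ∃ M : Subgroup G, IsCoatom M ∧ a ∈ M := by
      by_cases hz : Subgroup.zpowers a = ⊤
      · exfalso
        apply hab
        have : a * b ∈ Subgroup.zpowers a := hz ▸ Subgroup.mem_top _
        obtain ⟨i, hi⟩ := this
        show (a * b) ^ p = 1
        rw [← hi, ← zpow_natCast, ← zpow_mul, mul_comm, zpow_mul, zpow_natCast, ha, one_zpow]
      · obtain ⟨M, hM, hle⟩ := (eq_top_or_exists_le_coatom (Subgroup.zpowers a)).resolve_left hz
        exact ⟨M, hM, hle (Subgroup.mem_zpowers a)⟩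
    obtain ⟨M, hM, haM⟩ := hfr
    haveI : M.Normal := Subgroup.NormalizerCondition.normal_of_coatom M Group.normalizerCondition_of_isNilpotent hM
    exact hM.1 (top_le_iff.1 (htop ▸ Subgroup.normalClosure_le_normal (by simpa using haM)))
  set A := Subgroup.closure (Group.conjugatesOfSet ({a} : Set G)) with hAdef
  have hAexp : ∀ z ∈ A, z ^ p = 1 := by
    refine exp_of_proper hsub ?_ hA
    intro s hs
    obtain ⟨x, hx, hxs⟩ := Group.mem_conjugatesOfSet_iff.1 hs
    obtain ⟨c, rfl⟩ := isConj_iff.1 hxs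
    rw [Set.mem_singleton_iff.1 hx, conj_pow, ha, mul_one, mul_inv_cancel]
  haveI hAn : A.Normal := Subgroup.normalClosure_normal (s := ({a} : Set G))
  have hder : commutator G ≤ A := by
    have hcomm : ∀ x y : G ⧸ A, x * y = y * x := by
      have hz : ∀ x : G ⧸ A, x ∈ Subgroup.zpowers (QuotientGroup.mk' A b) := by
        intro x
        have h1 : (⊤ : Subgroup (G ⧸ A)) ≤ Subgroup.zpowers (QuotientGroup.mk' A b) := by
          rw [← Subgroup.map_top_of_surjective _ (QuotientGroup.mk'_surjective A), ← hgen, MonoidHom.map_closure,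
            Subgroup.closure_le]
          rintro _ ⟨s, hs, rfl⟩
          rcases hs with hs | hs <;> rw [hs]
          · show QuotientGroup.mk' A a ∈ Subgroup.zpowers (QuotientGroup.mk' A b)
            have h1 : QuotientGroup.mk' A a = 1 :=
              (QuotientGroup.eq_one_iff a).2 (Subgroup.subset_normalClosure (s := ({a} : Set G)) rfl : a ∈ A)
            rw [h1]
            exact one_mem _
          · exact Subgroup.mem_zpowers _
        exact h1 (Subgroup.mem_top x)
      intro x y
      obtain ⟨i, rfl⟩ := hz x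
      obtain ⟨j, rfl⟩ := hz y
      exact ((Commute.refl _).zpow_zpow i j).eq
    rw [commutator_def, Subgroup.commutator_le]
    intro x _ y _
    refine (QuotientGroup.eq_one_iff _).1 ?_
    rw [← QuotientGroup.mk'_apply A, map_commutatorElement, commutatorElement_eq_one_iff_mul_comm]
    exact hcomm _ _
  have hclass : (⊤ : Subgroup G).lowerCentralSeries (p - 1) ≠ ⊥ := by
    intro hcl
    obtain ⟨c, hc, heq⟩ := hall_petrescu hp (show gam G p = ⊥ from hcl) a b 1
    rw [pow_one, ha, hb, one_mul, one_mul] at heq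
    apply hab
    rw [heq, ← Subgroup.mem_bot]
    refine (Subgroup.closure_le _).2 ?_ hc
    rintro _ ⟨d, hd, rfl⟩
    rw [SetLike.mem_coe, Subgroup.mem_bot, pow_one]
    exact hAexp d (hder hd)
  refine ⟨⟨a, b, hgen⟩, hclass, ?_, ?_, ?_⟩
  · haveI : Nontrivial (Subgroup.center G) := hG.center_nontrivial
    obtain ⟨k, hk⟩ := IsPGroup.iff_card.1 (hG.to_subgroup (Subgroup.center G))
    have hk0 : k ≠ 0 := by
      rintro rfl
      exact absurd hk (Finite.one_lt_card (α := Subgroup.center G)).ne'
    obtain ⟨z, hz⟩ := exists_prime_orderOf_dvd_card' (G := Subgroup.center G) p (hk ▸ dvd_pow_self p hk0)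
    have hzp : (z : G) ^ p = 1 := by rw [← hz, ← Subgroup.orderOf_coe, pow_orderOf_eq_one]
    have hz1 : Subgroup.zpowers (z : G) ≠ ⊥ := by
      rw [Ne, Subgroup.zpowers_eq_bot]
      intro h1
      rw [← Subgroup.orderOf_coe, h1, orderOf_one] at hz
      exact hp.ne_one hz.symm
    haveI : (Subgroup.zpowers (z : G)).Normal := ⟨fun w hw g => by
      obtain ⟨i, rfl⟩ := hw
      show g * (z : G) ^ i * g⁻¹ ∈ _
      rw [Subgroup.mem_center_iff.1 ((Subgroup.center G).zpow_mem z.2 i) g, mul_inv_cancel_right]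
      exact Subgroup.zpow_mem _ (Subgroup.mem_zpowers _) i⟩
    have hdvd : Monoid.exponent G ∣ p ^ 2 := Monoid.exponent_dvd_of_forall_pow_eq_one fun g => by
      obtain ⟨i, hi⟩ := hpow (Subgroup.zpowers (z : G)) hz1 g
      show g ^ p ^ 2 = 1
      have hi' : (z : G) ^ i = g ^ p := hi
      rw [sq, pow_mul, ← hi', ← zpow_natCast, ← zpow_mul, mul_comm, zpow_mul, zpow_natCast, hzp, one_zpow]
    obtain ⟨i, hi2, hi⟩ := (Nat.dvd_prime_pow hp).1 hdvd
    rcases (by omega : i ≤ 1 ∨ i = 2) with h1 | rfl
    · exfalso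
      apply hab
      refine orderOf_dvd_iff_pow_eq_one.1 ((Monoid.order_dvd_exponent (a * b)).trans ?_)
      rw [hi]
      exact (Nat.pow_dvd_pow p h1).trans (pow_one p).dvd
    · exact hi
  · haveI : Nontrivial (Subgroup.center G) := hG.center_nontrivial
    refine SubgroupCount.isCyclic_of_card_le hp (hG.to_subgroup _)
      (fun u v => Subtype.ext (Subgroup.mem_center_iff.1 v.2 u)) ?_
    by_contra hlt
    obtain ⟨z, hz, hz1⟩ : ∃ z : {x : ↥(Subgroup.center G) // x ^ p = 1}, True ∧ ((z.1 : G) ≠ 1) := by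
      by_contra hh
      push Not at hh
      haveI : Subsingleton {x : ↥(Subgroup.center G) // x ^ p = 1} := ⟨fun u v =>
        Subtype.ext (Subtype.ext ((hh u trivial).trans (hh v trivial).symm))⟩
      exact hlt ((Finite.card_le_one_iff_subsingleton.2 inferInstance).trans hp.one_le)
    obtain ⟨x, hx⟩ : ∃ x : {x : ↥(Subgroup.center G) // x ^ p = 1}, (x.1 : G) ∉ Subgroup.zpowers (z.1 : G) := by
      by_contra hh
      push Not at hh
      apply hlt
      refine (Nat.card_le_card_of_injective (fun w => (⟨(w.1 : G), hh w⟩ : ↥(Subgroup.zpowers (z.1 : G)))) ?_).trans ?_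
      · intro u v huv
        simp only [Subtype.mk.injEq] at huv
        exact Subtype.ext (Subtype.ext huv)
      · rw [Nat.card_zpowers]
        exact Nat.le_of_dvd hp.pos (orderOf_dvd_of_pow_eq_one (congrArg Subtype.val z.2))
    have hn : ∀ w : {x : ↥(Subgroup.center G) // x ^ p = 1}, (Subgroup.zpowers (w.1 : G)).Normal := fun w =>
      ⟨fun v hv g => by
        obtain ⟨i, rfl⟩ := hv
        show g * (w.1 : G) ^ i * g⁻¹ ∈ _
        rw [Subgroup.mem_center_iff.1 ((Subgroup.center G).zpow_mem w.1.2 i) g, mul_inv_cancel_right]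
        exact Subgroup.zpow_mem _ (Subgroup.mem_zpowers _) i⟩
    haveI := hn z
    haveI := hn x
    apply hab
    have h1 := hpow (Subgroup.zpowers (z.1 : G)) (by rw [Ne, Subgroup.zpowers_eq_bot]; exact hz1) (a * b)
    have h2 := hpow (Subgroup.zpowers (x.1 : G)) (by
      rw [Ne, Subgroup.zpowers_eq_bot]
      exact fun h => hx (h ▸ one_mem _)) (a * b)
    by_contra h3
    have key : ∀ u : {x : ↥(Subgroup.center G) // x ^ p = 1}, ∀ w ∈ Subgroup.zpowers (u.1 : G), w ≠ 1 →
        (u.1 : G) ∈ Subgroup.zpowers w := by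
      intro u w hw hw1
      have ho : orderOf (u.1 : G) ∣ p := orderOf_dvd_of_pow_eq_one (congrArg Subtype.val u.2)
      have he : Subgroup.zpowers w = Subgroup.zpowers (u.1 : G) := by
        refine Subgroup.eq_of_le_of_card_ge (Subgroup.zpowers_le.2 hw) ?_
        rw [Nat.card_zpowers, Nat.card_zpowers]
        have hwd : orderOf w ∣ p := (orderOf_dvd_of_mem_zpowers hw).trans ho
        rcases (Nat.dvd_prime hp).1 hwd with h4 | h4
        · exact absurd (orderOf_eq_one_iff.1 h4) hw1
        · rw [h4]; exact Nat.le_of_dvd hp.pos ho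
      rw [he]; exact Subgroup.mem_zpowers _
    exact hx (Subgroup.zpowers_le.2 h1 (key x _ h2 h3))
  · obtain ⟨n, hn⟩ := IsPGroup.iff_card.1 hG
    rw [hn]
    refine Nat.pow_le_pow_right hp.pos ?_
    by_contra hlt
    have h1 := MaxClass.card_lcs_le hG n hn (p - 2)
    rw [show p - 2 + 1 = p - 1 by have := hp.two_le; omega, show n - 2 - (p - 2) = 0 by have := hp.two_le; omega,
      pow_zero] at h1
    exact hclass (Subgroup.card_eq_one.1 (le_antisymm h1 Nat.card_pos))

end Cfsg.Agent.S3872
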