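import Cfsg.Statements.S3873
import Cfsg.Agent.Lib.FGBasics.MinNonClosed
import Cfsg.Agent.Lib.Solvable.Basic
import Mathlib

set_option autoImplicit false
open Cfsg

namespace Cfsg.Agent.S3873

open Cfsg.Agent

/-- Say that a finite group is p-exponent closed when its elements of order dividing p form a subgroup. Let G be a finite group that is not p-exponent closed, but all of whose proper subgroups and proper quotients are, and suppose G is neither simple nor a p-group. Then there is a prime q ≠ p such that G has order p · q^e, where e is the multiplicative order of q modulo p, and G has a normal elementary abelian subgroup of order q^e that is a minimal normal subgroup of G. -/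
theorem result {G : Type*} [Group G] [Finite G] {p : ℕ} [Fact p.Prime]
    (hnc : ¬ (∃ H : Subgroup G, (H : Set G) = {g : G | g ^ p = 1})) (hsub : ∀ K : Subgroup G, K ≠ ⊤ → (∃ H : Subgroup ↥K, (H : Set ↥K) = {g : ↥K | g ^ p = 1}))
    (hquo : ∀ (N : Subgroup G) [N.Normal], N ≠ ⊥ → (∃ H : Subgroup (G ⧸ N), (H : Set (G ⧸ N)) = {g : (G ⧸ N) | g ^ p = 1}))
    (hns : ¬ IsSimpleGroup G) (hnp : ¬ IsPGroup p G) :
    ∃ q : ℕ, q.Prime ∧ q ≠ p ∧ Nat.card G = p * q ^ orderOf (q : ZMod p) ∧
      ∃ A : Subgroup G, A.Normal ∧ Nat.card ↥A = q ^ orderOf (q : ZMod p) ∧ Cfsg.IsElementaryAbelian q A ∧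
        ∀ B : Subgroup G, B.Normal → B ≤ A → B = ⊥ ∨ B = A := by
  classical
  have hp : p.Prime := Fact.out
  haveI : Nontrivial G := by
    by_contra h
    rw [not_nontrivial_iff_subsingleton] at h
    exact hnc ⟨⊤, Set.ext fun x => by simp [Subsingleton.elim x 1]⟩
  obtain ⟨N, hNn, hN, -, hmin⟩ := SolvBasic.exists_minimal_normal (N := (⊤ : Subgroup G)) inferInstance bot_lt_top.ne'
  haveI := hNn
  have hNtop : N ≠ ⊤ := by
    intro h
    apply hns
    refine { eq_bot_or_eq_top_of_normal := fun B hB => ?_ }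
    have := hmin B hB (h ▸ le_top)
    rwa [h] at this
  obtain ⟨W, hW⟩ := hquo N hN
  have hWG : ∀ g : G, g ^ p = 1 → g ∈ W.comap (QuotientGroup.mk' N) := by
    intro g hg
    have h : QuotientGroup.mk' N g ∈ (W : Set (G ⧸ N)) := by
      rw [hW]; show QuotientGroup.mk' N g ^ p = 1
      rw [← map_pow, hg, map_one]
    exact h
  have hL : W.comap (QuotientGroup.mk' N) = ⊤ := by
    by_contra hne
    obtain ⟨V, hV⟩ := hsub _ hne
    refine hnc ⟨V.map (W.comap (QuotientGroup.mk' N)).subtype, Set.ext fun g => ⟨?_, fun hg => ?_⟩⟩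
    · rintro ⟨v, hv, rfl⟩
      have h : v ∈ (V : Set ↥(W.comap (QuotientGroup.mk' N))) := hv
      rw [hV] at h
      exact congrArg Subtype.val h
    · refine ⟨⟨g, hWG g hg⟩, ?_, rfl⟩
      show _ ∈ (V : Set ↥(W.comap (QuotientGroup.mk' N)))
      rw [hV]
      exact Subtype.ext hg
  have hqe : ∀ x : G, x ^ p ∈ N := by
    intro x
    have hx : x ∈ W.comap (QuotientGroup.mk' N) := by rw [hL]; trivial
    have h : QuotientGroup.mk' N x ∈ (W : Set (G ⧸ N)) := hx
    rw [hW] at h
    rw [← QuotientGroup.eq_one_iff (N := N)]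
    exact (map_pow (QuotientGroup.mk' N) x p).trans h
  have hQp : IsPGroup p (G ⧸ N) := fun x => by
    induction x using QuotientGroup.induction_on with
    | H x => exact ⟨1, by rw [pow_one, ← QuotientGroup.mk_pow, QuotientGroup.eq_one_iff]; exact hqe x⟩
  have hpN : ¬ p ∣ Nat.card N := by
    intro hd
    obtain ⟨V, hV⟩ := hsub N hNtop
    haveI hVc : V.Characteristic := by
      refine Subgroup.characteristic_iff_le_comap.2 fun φ x hx => ?_
      have h : x ∈ (V : Set ↥N) := hx
      rw [hV] at h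
      have h2 : φ x ∈ (V : Set ↥N) := by
        rw [hV]; show φ x ^ p = 1
        rw [← map_pow, show x ^ p = 1 from h, map_one]
      exact h2
    rcases hmin (V.map N.subtype) (ConjAct.normal_of_characteristic_of_normal)
      (Subgroup.map_subtype_le _) with h | h
    · rw [Subgroup.map_eq_bot_iff_of_injective _ N.subtype_injective] at h
      obtain ⟨x, hx⟩ := exists_prime_orderOf_dvd_card' (G := ↥N) p hd
      have h1 : x ∈ (V : Set ↥N) := by
        rw [hV]; show x ^ p = 1
        rw [← hx, pow_orderOf_eq_one]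
      rw [h, SetLike.mem_coe, Subgroup.mem_bot] at h1
      rw [h1, orderOf_one] at hx
      exact hp.ne_one hx.symm
    · apply hnp
      intro g
      obtain ⟨k, hk⟩ : ∃ k, k = g ^ p := ⟨_, rfl⟩
      have hkN : k ∈ V.map N.subtype := h.symm ▸ (hk ▸ hqe g)
      obtain ⟨v, hv, hvk⟩ := hkN
      have h1 : v ∈ (V : Set ↥N) := hv
      rw [hV] at h1
      refine ⟨2, ?_⟩
      have h2 : k ^ p = 1 := by rw [← hvk]; exact congrArg Subtype.val h1
      rw [pow_two, pow_mul, ← hk, h2]
  obtain ⟨P⟩ : Nonempty (Sylow p G) := inferInstance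
  have hcopN : (Nat.card N).Coprime p := Nat.coprime_comm.1 (hp.coprime_iff_not_dvd.2 hpN)
  have hPexp : ∀ x ∈ (P : Subgroup G), x ^ p = 1 := fun x hx => by
    rw [← Subgroup.mem_bot, ← PBasic.inf_eq_bot_of_coprime hcopN P.isPGroup']
    exact ⟨hqe x, pow_mem hx p⟩
  have hPnn : ¬ (P : Subgroup G).Normal := by
    intro h
    refine hnc ⟨P, Set.ext fun g => ⟨hPexp g, fun hg => ?_⟩⟩
    have hz : IsPGroup p ↥(Subgroup.zpowers g) := by
      refine IsPGroup.of_card_dvd_pow (n := 1) ?_
      rw [Nat.card_zpowers, pow_one]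
      exact orderOf_dvd_of_pow_eq_one hg
    obtain ⟨Q, hQ⟩ := hz.exists_le_sylow
    haveI := Sylow.unique_of_normal P h
    rw [Subsingleton.elim Q P] at hQ
    exact hQ (Subgroup.mem_zpowers g)
  have hsup : N ⊔ (P : Subgroup G) = ⊤ := by
    rw [sup_comm]; exact PBasic.sylow_sup_eq_top P hQp
  refine MinNonClosed.structure_of_supplement P N hN hmin hcopN hsup hPnn ?_ ?_
  · intro R H hRP hRH hH hidx
    let S : Sylow p ↥H := ((P.isPGroup'.to_le hRP).of_equiv (Subgroup.subgroupOfEquivOfLe hRH).symm).toSylow hidx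
    obtain ⟨V, hV⟩ := hsub H hH
    have hVp : IsPGroup p ↥V := fun v => ⟨1, by
      have h : (v : ↥H) ∈ (V : Set ↥H) := v.2
      rw [hV] at h
      rw [pow_one]
      exact Subtype.ext h⟩
    have hSV : (S : Subgroup ↥H) ≤ V := by
      intro x hx
      have h : x ∈ (V : Set ↥H) := by rw [hV]; exact Subtype.ext (hPexp x (hRP hx))
      exact h
    have heq : V = R.subgroupOf H := S.is_maximal' hVp hSV
    refine (Subgroup.normal_subgroupOf_iff_le_normalizer hRH).1 ⟨fun x hx g => ?_⟩
    rw [← heq] at hx ⊢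
    have h1 : x ∈ (V : Set ↥H) := hx
    rw [hV] at h1
    have h2 : g * x * g⁻¹ ∈ (V : Set ↥H) := by
      rw [hV]; show (g * x * g⁻¹) ^ p = 1
      rw [conj_pow, show x ^ p = 1 from h1]; group
    exact h2
  · intro M hM hM0
    haveI := hM
    obtain ⟨V, hV⟩ := hquo M hM0
    set Pb := P.mapSurjective (QuotientGroup.mk'_surjective M)
    have hVp : IsPGroup p ↥V := fun v => ⟨1, by
      have h : (v : G ⧸ M) ∈ (V : Set (G ⧸ M)) := v.2
      rw [hV] at h
      rw [pow_one]
      exact Subtype.ext h⟩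
    have hSV : (Pb : Subgroup (G ⧸ M)) ≤ V := by
      rintro _ ⟨x, hx, rfl⟩
      have h : QuotientGroup.mk' M x ∈ (V : Set (G ⧸ M)) := by
        rw [hV]; show QuotientGroup.mk' M x ^ p = 1
        rw [← map_pow, hPexp x hx, map_one]
      exact h
    have heq : V = (Pb : Subgroup (G ⧸ M)) := Pb.is_maximal' hVp hSV
    haveI hVn : V.Normal := ⟨fun x hx g => by
      have h1 : x ∈ (V : Set (G ⧸ M)) := hx
      rw [hV] at h1
      have h2 : g * x * g⁻¹ ∈ (V : Set (G ⧸ M)) := by
        rw [hV]; show (g * x * g⁻¹) ^ p = 1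
        rw [conj_pow, show x ^ p = 1 from h1]; group
      exact h2⟩
    have h3 := hVn.comap (QuotientGroup.mk' M)
    rwa [heq, Sylow.coe_mapSurjective, Subgroup.comap_map_eq, QuotientGroup.ker_mk'] at h3

end Cfsg.Agent.S3873
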