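import Cfsg.Statements.S3875
import Cfsg.Agent.Lib.NonPClosed.LeastOrder

set_option autoImplicit false
open Cfsg

namespace Cfsg.Agent.S3875

/-- Let p be an odd prime and let m be the least prime power congruent to 1 modulo p. Then the least order of a finite group whose Sylow p-subgroups are not normal is the smaller of p · m and p(p² − 1)/2: every finite group whose Sylow p-subgroups are not normal has at least that order, and some group of exactly that order has non-normal Sylow p-subgroups. -/
theorem result (p : ℕ) [Fact p.Prime] (hp : p ≠ 2) (m : ℕ) (hm : IsPrimePow m) (hm1 : m % p = 1)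
    (hleast : ∀ k : ℕ, IsPrimePow k → k % p = 1 → m ≤ k) :
    (∀ (H : Type) [Group H] [Finite H], ¬ Cfsg.IsPClosed p H → min (p * m) (p * (p ^ 2 - 1) / 2) ≤ Nat.card H) ∧
      ∃ (H : Type) (_ : Group H) (_ : Finite H), Nat.card H = min (p * m) (p * (p ^ 2 - 1) / 2) ∧ ¬ Cfsg.IsPClosed p H := by
  refine ⟨fun H _ _ hH => ?_, ?_⟩
  · by_cases hs : 2 * Nat.card H < p * (p ^ 2 - 1)
    · exact (min_le_left _ _).trans (NonPClosed.le_card hp hleast (Nat.card H) H le_rfl hH hs)
    · exact (min_le_right _ _).trans (by omega)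
  · rcases le_total (p * m) (p * (p ^ 2 - 1) / 2) with h | h
    · obtain ⟨H, i1, i2, h1, h2⟩ := NonPClosed.exists_affine (p := p) hm hm1
      exact ⟨H, i1, i2, by rw [h1, min_eq_left h], h2⟩
    · obtain ⟨H, i1, i2, h1, h2⟩ := NonPClosed.exists_psl (p := p) hp
      exact ⟨H, i1, i2, by rw [h1, min_eq_right h], h2⟩

end Cfsg.Agent.S3875
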