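import Cfsg.Statements.S3878
import Cfsg.Agent.Lib.FGStruct.JordanCycle
import Mathlib

set_option autoImplicit false
open Cfsg

namespace Cfsg.Agent.S3878

open scoped Pointwise
open MulAction

lemma exists_conj_mem {G : Type*} [Group G] [Finite G] {π : Set ℕ} {H : Subgroup G} {r : ℕ} [Fact r.Prime]
    (hH : Cfsg.IsPiHall π H) (hr : r ∈ π) {c : G} {k : ℕ} (hc : orderOf c = r ^ k) :
    ∃ g : G, g * c * g⁻¹ ∈ H := by
  obtain ⟨P⟩ : Nonempty (Sylow r ↥H) := inferInstance
  have hPm : IsPGroup r ↥((P : Subgroup ↥H).map H.subtype) := P.isPGroup'.map _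
  have hidx : ¬ r ∣ ((P : Subgroup ↥H).map H.subtype).index := by
    rw [Subgroup.index_map_subtype]
    exact fun h => ((Fact.out : r.Prime).dvd_mul.1 h).elim P.not_dvd_index (hH.2 r Fact.out hr)
  let Q : Sylow r G := hPm.toSylow hidx
  obtain ⟨R, hR⟩ := (IsPGroup.of_card (p := r) (n := k) (by rw [Nat.card_zpowers, hc]) :
    IsPGroup r ↥(Subgroup.zpowers c)).exists_le_sylow
  obtain ⟨g, hg⟩ := MulAction.exists_smul_eq G R Q
  refine ⟨g, ?_⟩
  have h1 : g * c * g⁻¹ ∈ (Q : Subgroup G) := by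
    rw [← hg, Sylow.coe_subgroup_smul]
    exact ⟨c, hR (Subgroup.mem_zpowers c), rfl⟩
  obtain ⟨y, _, hy⟩ := (h1 : g * c * g⁻¹ ∈ (P : Subgroup ↥H).map H.subtype)
  exact hy ▸ y.2

lemma exists_cycle_mem {n : ℕ} {π : Set ℕ} {H : Subgroup (Equiv.Perm (Fin n))} {r : ℕ} [Fact r.Prime]
    (hH : Cfsg.IsPiHall π H) (hr : r ∈ π) {k : ℕ} (hk : k ≠ 0) (hle : r ^ k ≤ n) :
    ∃ c ∈ H, c.IsCycle ∧ c.support.card = r ^ k := by
  have hr1 : r ≤ r ^ k := Nat.le_self_pow hk r
  have h2 : 2 ≤ r := (Fact.out : r.Prime).two_le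
  have hn : NeZero n := ⟨by omega⟩
  set i : Fin n := ⟨r ^ k - 1, by omega⟩ with hi
  have hi0 : i ≠ 0 := by
    intro h
    have := congrArg Fin.val h
    simp [hi] at this
    omega
  have hcyc : (Fin.cycleRange i).IsCycle := Fin.isCycle_cycleRange hi0
  have hsupp : (Fin.cycleRange i).support.card = r ^ k := by
    have := Equiv.Perm.sum_cycleType (Fin.cycleRange i)
    rw [Fin.cycleType_cycleRange hi0] at this
    rw [← this, Multiset.sum_singleton]
    show r ^ k - 1 + 1 = r ^ k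
    omega
  have ho : orderOf (Fin.cycleRange i) = r ^ k := by rw [hcyc.orderOf, hsupp]
  obtain ⟨g, hg⟩ := exists_conj_mem hH hr ho
  refine ⟨_, hg, hcyc.conj, ?_⟩
  rw [Equiv.Perm.card_support_conj]
  exact hsupp

lemma not_hall_two_primes {π : Set ℕ} {p q r : ℕ} (hp : p.Prime) (hq : q.Prime) (hr : r.Prime)
    (hpπ : p ∈ π) (hqπ : q ∈ π) (hrπ : r ∉ π) (hpq : p < q) (hrq : r < q) :
    ∃ n : ℕ, ¬ Cfsg.IsEPiGroup π (Equiv.Perm (Fin n)) := by
  haveI := Fact.mk hp
  haveI := Fact.mk hq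
  haveI := Fact.mk hr
  set b := Nat.log p q with hb
  set n := p ^ (b + 1) with hn
  have h1 : q < n := Nat.lt_pow_succ_log_self hp.one_lt q
  have hpb : p ^ b < q := by
    rcases lt_or_eq_of_le (Nat.pow_log_le_self p hq.ne_zero) with h | h
    · exact h
    · exfalso
      have hb0 : b ≠ 0 := fun h0 => by rw [← hb, h0, pow_zero] at h; exact hq.ne_one h.symm
      have : p ∣ q := h ▸ dvd_pow_self p hb0
      exact hpq.ne ((Nat.prime_dvd_prime_iff_eq hp hq).1 this)
  have hp3 : p + 3 ≤ n := by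
    by_contra hlt
    have := hp.two_le
    have hr2 := hr.two_le
    have hrp : r ≠ p := fun h => hrπ (h ▸ hpπ)
    have heq : n = p + 2 := by omega
    have hdn : p ∣ p + 2 := heq ▸ dvd_pow_self p (Nat.succ_ne_zero b)
    have := Nat.le_of_dvd (by norm_num) ((Nat.dvd_add_right dvd_rfl).1 hdn)
    omega
  refine ⟨n, fun ⟨H, hH⟩ => ?_⟩
  have hn5 : 5 ≤ n := by have := hp.two_le; omega
  haveI : NeZero n := ⟨by omega⟩
  obtain ⟨c, hcH, hc, hcn⟩ := exists_cycle_mem hH hpπ (Nat.succ_ne_zero b) (le_refl n)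
  have huniv : c.support = Finset.univ := by
    rw [← Finset.card_eq_iff_eq_univ, Fintype.card_fin]
    exact hcn
  haveI : IsPretransitive ↥H (Fin n) := ⟨fun x y => by
    obtain ⟨j, hj⟩ := hc.exists_pow_eq
      (Equiv.Perm.mem_support.1 (huniv ▸ Finset.mem_univ x)) (Equiv.Perm.mem_support.1 (huniv ▸ Finset.mem_univ y))
    exact ⟨⟨c ^ j, pow_mem hcH j⟩, hj⟩⟩
  obtain ⟨d, hdH, hd, hdq⟩ := exists_cycle_mem hH hqπ one_ne_zero (by rw [pow_one]; exact h1.le)
  rw [pow_one] at hdq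
  obtain ⟨x, hx⟩ : d.support.Nonempty := Finset.card_pos.1 (by rw [hdq]; exact hq.pos)
  haveI hprim : IsPreprimitive ↥H (Fin n) := by
    refine IsPreprimitive.of_isTrivialBlock_base x fun {B} hxB hB => ?_
    by_cases hsub : B.Subsingleton
    · exact Or.inl hsub
    refine Or.inr ?_
    obtain ⟨z, hzB, hzx⟩ : ∃ z ∈ B, z ≠ x := by
      by_contra hne
      push Not at hne
      exact hsub fun u hu v hv => (hne u hu).trans (hne v hv).symm
    set D : ↥H := ⟨d, hdH⟩
    have hfix : D • B = B := by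
      by_contra hne
      have hdis : Disjoint (D • B) B := hB.disjoint_smul_of_ne hne
      have hz : z ∈ d.support := by
        rw [Equiv.Perm.mem_support]
        intro h
        exact Set.disjoint_left.1 hdis ⟨z, hzB, h⟩ hzB
      obtain ⟨j, hj⟩ := hd.exists_pow_eq (Equiv.Perm.mem_support.1 hx) (Equiv.Perm.mem_support.1 hz)
      have hjB : D ^ j • B = B := by
        by_contra hne2
        have hdis2 : Disjoint (D ^ j • B) B := hB.disjoint_smul_of_ne hne2
        exact Set.disjoint_left.1 hdis2 ⟨x, hxB, hj⟩ hzB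
      have hD : orderOf D = q := by rw [← Subgroup.orderOf_coe]; exact hd.orderOf.trans hdq
      have hco : j.Coprime q := by
        rw [Nat.coprime_comm, hq.coprime_iff_not_dvd]
        intro hdvd
        rw [← hd.orderOf.trans hdq] at hdvd
        rw [orderOf_dvd_iff_pow_eq_one.1 hdvd] at hj
        exact hzx hj.symm
      obtain ⟨m, hm⟩ := exists_pow_eq_self_of_coprime (x := D) (by rw [hD]; exact hco)
      apply hne
      have hstab : (D ^ j) ^ m ∈ MulAction.stabilizer ↥H B := pow_mem hjB m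
      rw [hm] at hstab
      exact hstab
    have hsupB : (d.support : Set (Fin n)) ⊆ B := by
      intro y hy
      obtain ⟨j, hj⟩ := hd.exists_pow_eq (Equiv.Perm.mem_support.1 hx) (Equiv.Perm.mem_support.1 hy)
      have h2 : D ^ j ∈ MulAction.stabilizer ↥H B := pow_mem hfix j
      rw [← h2]
      exact ⟨x, hxB, hj⟩
    have hqd : q ≤ B.ncard := by
      rw [← hdq, ← Set.ncard_coe_finset]
      exact Set.ncard_le_ncard hsupB
    have hdvd : B.ncard ∣ n := by
      have := hB.ncard_dvd_card ⟨x, hxB⟩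
      rwa [Nat.card_fin] at this
    obtain ⟨e, he, hBe⟩ := (Nat.dvd_prime_pow hp).1 hdvd
    have hbe : b < e := (Nat.pow_lt_pow_iff_right hp.one_lt).1 (hpb.trans_le (hBe ▸ hqd))
    apply Set.eq_of_subset_of_ncard_le (Set.subset_univ _) ?_ Set.finite_univ
    rw [Set.ncard_univ, Nat.card_fin, hBe, hn, show e = b + 1 by omega]
  obtain ⟨g, hgH, hg, hgp⟩ := exists_cycle_mem hH hpπ one_ne_zero (by rw [pow_one]; omega)
  rw [pow_one] at hgp
  have hA := Cfsg.Agent.JordanCycle.alternatingGroup_le_of_prime_cycle hprim hp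
    (by rw [Fintype.card_fin]; exact hp3) hg hgp hgH
  haveI : Nontrivial (Fin n) := Fin.nontrivial_iff_two_le.2 (by omega)
  apply hrπ
  refine hH.1 r hr (dvd_trans ?_ (Subgroup.card_dvd_of_le hA))
  have h24 : 2 * Nat.card (alternatingGroup (Fin n)) = n.factorial := by
    rw [two_mul_nat_card_alternatingGroup, Nat.card_perm, Nat.card_fin]
  by_cases hr2 : r = 2
  · subst hr2
    have h4 : 4 ∣ n.factorial := dvd_trans (Nat.dvd_factorial (by norm_num) le_rfl) (Nat.factorial_dvd_factorial (by omega))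
    omega
  · have hd2 : r ∣ 2 * Nat.card (alternatingGroup (Fin n)) := h24 ▸ Nat.dvd_factorial hr.pos (by omega)
    exact ((hr.dvd_mul).1 hd2).resolve_left fun h => hr2 ((Nat.prime_dvd_prime_iff_eq hr Nat.prime_two).1 h)

lemma not_hall_next_prime {π : Set ℕ} {r : ℕ} (hr : r.Prime) (h5 : 5 ≤ r) (hrπ : r ∉ π)
    (hsmall : ∀ s : ℕ, s.Prime → s < r → s ∈ π) :
    ∃ n : ℕ, ¬ Cfsg.IsEPiGroup π (Equiv.Perm (Fin n)) := by
  refine ⟨r + 1, fun ⟨H, hH⟩ => ?_⟩
  haveI := Fact.mk hr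
  have hfac : Nat.card (Equiv.Perm (Fin (r + 1))) = (r + 1).factorial := by rw [Nat.card_perm, Nat.card_fin]
  have hidx : H.index ∣ (r + 1).factorial := hfac ▸ H.index_dvd_card
  have honly : ∀ s : ℕ, s.Prime → s ∣ H.index → s = r := by
    intro s hs hsd
    have hle : s ≤ r + 1 := (Nat.Prime.dvd_factorial hs).1 (hsd.trans hidx)
    by_contra hne
    rcases lt_or_gt_of_ne hne with h | h
    · exact hH.2 s hs (hsmall s hs h) hsd
    · have hs1 : s = r + 1 := by omega
      rcases hr.eq_two_or_odd' with h2 | h2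
      · omega
      · rcases hs.eq_two_or_odd' with h3 | h3
        · omega
        · rw [hs1] at h3
          exact absurd h3 (Nat.not_odd_iff_even.2 h2.add_one)
  have h1 : H.index ≠ 0 := Subgroup.index_ne_zero_of_finite
  obtain ⟨v, hpow⟩ : ∃ v, H.index = r ^ v :=
    ⟨_, Nat.eq_prime_pow_of_unique_prime_dvd h1 fun {s} hs hsd => honly s hs hsd⟩
  have hndvd : ¬ r ^ 2 ∣ (r + 1).factorial := by
    intro h
    rw [hr.pow_dvd_factorial_iff (b := 2) (Nat.log_lt_of_lt_pow' two_ne_zero (by nlinarith))] at h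
    rw [show Finset.Ico 1 2 = {1} from rfl, Finset.sum_singleton, pow_one,
      Nat.succ_div_of_not_dvd (fun h2 => by
        have := Nat.le_of_dvd one_pos ((Nat.dvd_add_right dvd_rfl).1 h2); omega), Nat.div_self hr.pos] at h
    omega
  have hidxr : H.index = r := by
    rcases v with _ | _ | v
    · exfalso
      rw [pow_zero, Subgroup.index_eq_one] at hpow
      refine hrπ (hH.1 r hr ?_)
      rw [hpow, Subgroup.card_top, hfac]
      exact Nat.dvd_factorial hr.pos (by omega)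
    · rw [pow_one] at hpow; exact hpow
    · exfalso
      exact hndvd ((pow_dvd_pow r (by omega : 2 ≤ v + 1 + 1)).trans (hpow ▸ hidx))
  let φ := MulAction.toPermHom (Equiv.Perm (Fin (r + 1))) (Equiv.Perm (Fin (r + 1)) ⧸ H)
  have hker : φ.ker = H.normalCore := (Subgroup.normalCore_eq_ker H).symm
  by_cases hbot : φ.ker = ⊥
  · have hle := Nat.card_le_card_of_injective φ ((MonoidHom.ker_eq_bot_iff φ).1 hbot)
    rw [hfac, Nat.card_perm, ← Subgroup.index, hidxr] at hle
    exact absurd hle (not_le.2 ((Nat.factorial_lt hr.pos).2 (Nat.lt_succ_self r)))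
  · haveI : φ.ker.Normal := φ.normal_ker
    have hA := Equiv.Perm.alternatingGroup_le_of_normal (by rw [Nat.card_fin]; omega)
      ((Subgroup.nontrivial_iff_ne_bot _).2 hbot)
    have hAH : alternatingGroup (Fin (r + 1)) ≤ H := hA.trans (hker.le.trans H.normalCore_le)
    haveI : Nontrivial (Fin (r + 1)) := Fin.nontrivial_iff_two_le.2 (by omega)
    have h2 := Subgroup.index_dvd_of_le hAH
    rw [alternatingGroup.index_eq_two, hidxr] at h2
    have := Nat.le_of_dvd (by norm_num) h2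
    omega

lemma ePi_of_dPi {π : Set ℕ} (G : Type) [Group G] [Finite G] (h : Cfsg.IsDPiGroup π G) :
    Cfsg.IsEPiGroup π G := by
  have hbot : Cfsg.IsPiSubgroup π (⊥ : Subgroup G) := fun p hp hd => by
    rw [Subgroup.card_bot] at hd
    exact absurd hd hp.not_dvd_one
  obtain ⟨H, -, hH⟩ := Finite.exists_le_maximal hbot
  refine ⟨H, hH.1, fun p hp hpπ hd => ?_⟩
  haveI := Fact.mk hp
  obtain ⟨P⟩ : Nonempty (Sylow p G) := inferInstance
  have hP : Cfsg.IsPiSubgroup π (P : Subgroup G) := fun s hs hsd => by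
    obtain ⟨k, hk⟩ := IsPGroup.iff_card.1 P.isPGroup'
    rw [hk] at hsd
    rw [(Nat.prime_dvd_prime_iff_eq hs hp).1 (hs.dvd_of_dvd_pow hsd)]
    exact hpπ
  obtain ⟨K, hPK, hK⟩ := Finite.exists_le_maximal hP
  obtain ⟨g, hg⟩ := h H K hH hK
  have h1 : K.index = H.index := by rw [hg]; exact Subgroup.index_map_equiv H (MulAut.conj g)
  exact P.not_dvd_index (hd.trans (h1 ▸ Subgroup.index_dvd_of_le hPK))

lemma dPi_of {π : Set ℕ}
    (hπ : (∀ p q : ℕ, p.Prime → q.Prime → p ∈ π → q ∈ π → p = q) ∨ ∀ p : ℕ, p.Prime → p ∈ π)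
    (G : Type) [Group G] [Finite G] : Cfsg.IsDPiGroup π G := by
  intro H K hH hK
  rcases hπ with hπ | hπ
  · by_cases hex : ∃ p : ℕ, p.Prime ∧ p ∈ π
    · obtain ⟨p, hp, hpπ⟩ := hex
      haveI := Fact.mk hp
      have hsyl : ∀ L : Subgroup G, Maximal (Cfsg.IsPiSubgroup π) L → ∃ P : Sylow p G, (P : Subgroup G) = L := by
        intro L hL
        have hLp : IsPGroup p ↥L := IsPGroup.of_card (n := (Nat.card L).primeFactorsList.length) (by
          exact Nat.eq_prime_pow_of_unique_prime_dvd Nat.card_pos.ne'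
            fun {s} hs hsd => hπ s p hs hp (hL.1 s hs hsd) hpπ)
        obtain ⟨P, hP⟩ := hLp.exists_le_sylow
        refine ⟨P, le_antisymm (hL.2 ?_ hP) hP⟩
        intro s hs hsd
        obtain ⟨k, hk⟩ := IsPGroup.iff_card.1 P.isPGroup'
        rw [hk] at hsd
        rw [(Nat.prime_dvd_prime_iff_eq hs hp).1 (hs.dvd_of_dvd_pow hsd)]
        exact hpπ
      obtain ⟨P, hP⟩ := hsyl H hH
      obtain ⟨Q, hQ⟩ := hsyl K hK
      obtain ⟨g, hg⟩ := MulAction.exists_smul_eq G P Q
      refine ⟨g, ?_⟩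
      rw [← hP, ← hQ, ← hg, Sylow.coe_subgroup_smul]
      rfl
    · push Not at hex
      have hb : ∀ L : Subgroup G, Cfsg.IsPiSubgroup π L → L = ⊥ := by
        intro L hL
        refine Subgroup.card_eq_one.1 ?_
        by_contra hne
        obtain ⟨s, hs, hsd⟩ := Nat.exists_prime_and_dvd hne
        exact hex s hs (hL s hs hsd)
      exact ⟨1, by rw [hb H hH.1, hb K hK.1, Subgroup.map_bot]⟩
  · have ht : Cfsg.IsPiSubgroup π (⊤ : Subgroup G) := fun p hp _ => hπ p hp
    refine ⟨1, ?_⟩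
    rw [eq_top_iff.2 (hH.2 ht le_top), eq_top_iff.2 (hK.2 ht le_top),
      Subgroup.map_top_of_surjective _ (MulAut.conj (1 : G)).surjective]

lemma ex_not_ePi {π : Set ℕ}
    (hπ : ¬ ((∀ p q : ℕ, p.Prime → q.Prime → p ∈ π → q ∈ π → p = q) ∨ ∀ p : ℕ, p.Prime → p ∈ π)) :
    ∃ n : ℕ, ¬ Cfsg.IsEPiGroup π (Equiv.Perm (Fin n)) := by
  classical
  simp only [not_or, not_forall] at hπ
  obtain ⟨⟨p, q, hp, hq, hpπ, hqπ, hpq⟩, hr⟩ := hπ
  have hr' : ∃ r, r.Prime ∧ r ∉ π := by
    obtain ⟨r, hr, hrπ⟩ := hr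
    exact ⟨r, hr, hrπ⟩
  obtain ⟨r, hrp, hrπ, hmin⟩ : ∃ r : ℕ, r.Prime ∧ r ∉ π ∧ ∀ s < r, ¬ (s.Prime ∧ s ∉ π) :=
    ⟨Nat.find hr', (Nat.find_spec hr').1, (Nat.find_spec hr').2, fun s => Nat.find_min hr'⟩
  have hsmall : ∀ s : ℕ, s.Prime → s < r → s ∈ π := fun s hs hsr => by
    by_contra h
    exact hmin s hsr ⟨hs, h⟩
  by_cases h5 : 5 ≤ r
  · exact not_hall_next_prime hrp h5 hrπ hsmall
  · rcases lt_or_gt_of_ne hpq with h | h
    · refine not_hall_two_primes hp hq hrp hpπ hqπ hrπ h ?_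
      have hne : r ≠ q := fun e => hrπ (e ▸ hqπ)
      have hnp : r ≠ p := fun e => hrπ (e ▸ hpπ)
      have := hrp.two_le; have := hp.two_le; have := hq.two_le
      have hr4 : r ≠ 4 := fun e => by rw [e] at hrp; norm_num at hrp
      omega
    · refine not_hall_two_primes hq hp hrp hqπ hpπ hrπ h ?_
      have hne : r ≠ q := fun e => hrπ (e ▸ hqπ)
      have hnp : r ≠ p := fun e => hrπ (e ▸ hpπ)
      have := hrp.two_le; have := hp.two_le; have := hq.two_le
      have hr4 : r ≠ 4 := fun e => by rw [e] at hrp; norm_num at hrp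
      omega

/-- For a set of primes π the following are equivalent: every finite group has a Hall π-subgroup; in every finite group the maximal π-subgroups are pairwise conjugate; π contains at most one prime or contains every prime. -/
theorem result (π : Set ℕ) :
    ((∀ (G : Type) [Group G] [Finite G], Cfsg.IsEPiGroup π G) ↔
      ((∀ p q : ℕ, p.Prime → q.Prime → p ∈ π → q ∈ π → p = q) ∨ ∀ p : ℕ, p.Prime → p ∈ π)) ∧
    ((∀ (G : Type) [Group G] [Finite G], Cfsg.IsDPiGroup π G) ↔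
      ((∀ p q : ℕ, p.Prime → q.Prime → p ∈ π → q ∈ π → p = q) ∨ ∀ p : ℕ, p.Prime → p ∈ π)) := by
  constructor
  · refine ⟨fun h => ?_, fun h G _ _ => ePi_of_dPi G (dPi_of h G)⟩
    by_contra hne
    obtain ⟨n, hn⟩ := ex_not_ePi hne
    exact hn (h _)
  · refine ⟨fun h => ?_, fun h G _ _ => dPi_of h G⟩
    by_contra hne
    obtain ⟨n, hn⟩ := ex_not_ePi hne
    exact hn (ePi_of_dPi _ (h _))

end Cfsg.Agent.S3878
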