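import Cfsg.Statements.S3881
import Cfsg.Agent.Lib.MetacyclicOdd.Coord

set_option autoImplicit false
open Cfsg

namespace Cfsg.Agent.S3881

open Subgroup
open Cfsg.Agent.MetaOdd

/-- Let p be an odd prime and G a finite metacyclic p-group (G has a cyclic normal subgroup with cyclic quotient). Suppose G is non-abelian with |G'| = p^n. Then for 1 ≤ i ≤ n the number of elements of G whose conjugacy class has exactly p^i elements is |Z(G)| · (p^(2i) − p^(2i−2)). -/
theorem result {G : Type*} [Group G] [Finite G] {p : ℕ} [Fact p.Prime] (hp : p ≠ 2) (hG : IsPGroup p G) (hmc : Cfsg.IsMetacyclic G) (n : ℕ) (hn : n ≠ 0) (hGn : Nat.card ↥(commutator G) = p ^ n) (i : ℕ) (hi : 1 ≤ i) (hin : i ≤ n) :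
    Nat.card {g : G // (Subgroup.centralizer ({g} : Set G)).index = p ^ i} =
      Nat.card ↥(Subgroup.center G) * (p ^ (2 * i) - p ^ (2 * i - 2)) := by
  obtain ⟨K⟩ := exists_coord hG hmc
  obtain rfl : K.n = n := Nat.pow_right_injective (Fact.out : p.Prime).two_le
    (K.card_comm.symm.trans hGn)
  haveI : NeZero (p ^ K.n) := ⟨pow_ne_zero _ (Fact.out : p.Prime).ne_zero⟩
  classical
  rw [Nat.card_congr (Equiv.subtypeEquivRight fun g => by rw [K.index_centralizer hp g]),
    K.card_fibre (fun v => addOrderOf v = p ^ i) hp]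
  congr 1
  have hker : ∀ j ≤ K.n, Nat.card {v : ZMod (p ^ K.n) × ZMod (p ^ K.n) // p ^ j • v = 0} = p ^ (2 * j) := by
    intro j hj
    rw [two_mul, pow_add]
    conv_rhs => rw [← card_torsion (p := p) hj]
    rw [← Nat.card_prod]
    exact Nat.card_congr
      { toFun := fun v => (⟨v.1.1, by simpa [nsmul_eq_mul] using congrArg Prod.fst v.2⟩,
          ⟨v.1.2, by simpa [nsmul_eq_mul] using congrArg Prod.snd v.2⟩)
        invFun := fun v => ⟨(v.1.1, v.2.1), Prod.ext
          (by simpa [nsmul_eq_mul, AddMonoidHom.mem_ker] using v.1.2)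
          (by simpa [nsmul_eq_mul, AddMonoidHom.mem_ker] using v.2.2)⟩
        left_inv := fun v => rfl
        right_inv := fun v => rfl }
  obtain ⟨i, rfl⟩ : ∃ i', i = i' + 1 := ⟨i - 1, by omega⟩
  haveI := Fintype.ofFinite (ZMod (p ^ K.n) × ZMod (p ^ K.n))
  have h1 := hker (i + 1) hin
  have h2 := hker i (by omega)
  rw [Nat.card_eq_fintype_card, Fintype.card_subtype] at h1 h2
  rw [Nat.card_eq_fintype_card, Fintype.card_subtype, show 2 * (i + 1) - 2 = 2 * i by omega, ← h1, ← h2,
    ← Finset.card_sdiff_of_subset fun v hv => by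
      simp only [Finset.mem_filter, Finset.mem_univ, true_and] at hv ⊢
      rw [pow_succ, mul_nsmul, hv, nsmul_zero]]
  congr 1
  ext v
  simp only [Finset.mem_sdiff, Finset.mem_filter, Finset.mem_univ, true_and,
    ← addOrderOf_dvd_iff_nsmul_eq_zero]
  constructor
  · intro h
    exact ⟨h.dvd, fun h' => by
      rw [h, Nat.pow_dvd_pow_iff_le_right (Fact.out : p.Prime).one_lt] at h'; omega⟩
  · rintro ⟨h, h'⟩
    obtain ⟨t, ht, e⟩ := (Nat.dvd_prime_pow Fact.out).1 h
    rcases Nat.lt_or_ge t (i + 1) with hlt | hge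
    · exact absurd (e ▸ pow_dvd_pow p (by omega)) h'
    · rw [e, show t = i + 1 by omega]

end Cfsg.Agent.S3881
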