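import Cfsg.Statements.S3882
import Cfsg.Agent.Lib.MetacyclicOdd.Coord

set_option autoImplicit false
open Cfsg

namespace Cfsg.Agent.S3882

open Subgroup
open Cfsg.Agent.MetaOdd

/-- Let p be an odd prime and G a finite metacyclic p-group (G has a cyclic normal subgroup with cyclic quotient). Suppose |G'| = p^n and 0 ≤ s ≤ n. Then an element g lies in the subgroup generated by the p^s-th powers if and only if its conjugacy class has at most p^(n−s) elements; in particular the subgroup generated by the p^n-th powers is the center of G. -/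
theorem result {G : Type*} [Group G] [Finite G] {p : ℕ} [Fact p.Prime] (hp : p ≠ 2) (hG : IsPGroup p G) (hmc : Cfsg.IsMetacyclic G) (n : ℕ) (hGn : Nat.card ↥(commutator G) = p ^ n) (s : ℕ) (hs : s ≤ n) (g : G) :
    (g ∈ Subgroup.closure {x : G | ∃ y : G, y ^ p ^ s = x} ↔ (Subgroup.centralizer ({g} : Set G)).index ≤ p ^ (n - s)) ∧
      Subgroup.closure {x : G | ∃ y : G, y ^ p ^ n = x} = Subgroup.center G := by
  obtain ⟨K⟩ := exists_coord hG hmc
  obtain rfl : K.n = n := Nat.pow_right_injective (Fact.out : p.Prime).two_le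
    (K.card_comm.symm.trans hGn)
  refine ⟨?_, K.center_eq_closure hp⟩
  haveI : NeZero (p ^ K.n) := ⟨pow_ne_zero _ (Fact.out : p.Prime).ne_zero⟩
  rw [K.mem_closure_pow_iff hp hs, K.index_centralizer hp]
  have hp' : p.Prime := Fact.out
  constructor
  · rintro ⟨v, hv⟩
    refine Nat.le_of_dvd (pow_pos hp'.pos _) (addOrderOf_dvd_of_nsmul_eq_zero ?_)
    rw [← hv, ← Nat.cast_smul_eq_nsmul (ZMod (p ^ K.n)), smul_smul, ← Nat.cast_mul, ← pow_add,
      Nat.sub_add_cancel hs, ZMod.natCast_self, zero_smul]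
  · intro h
    have hd : addOrderOf (K.σ g) ∣ p ^ (K.n - s) := by
      have h1 : addOrderOf (K.σ g) ∣ p ^ K.n := addOrderOf_dvd_of_nsmul_eq_zero (by
        rw [← Nat.cast_smul_eq_nsmul (ZMod (p ^ K.n)), ZMod.natCast_self, zero_smul])
      obtain ⟨t, -, e⟩ := (Nat.dvd_prime_pow hp').1 h1
      rw [e] at h ⊢
      exact pow_dvd_pow p ((Nat.pow_le_pow_iff_right hp'.one_lt).1 h)
    rw [addOrderOf_dvd_iff_nsmul_eq_zero] at hd
    have key : ∀ x : ZMod (p ^ K.n), p ^ (K.n - s) • x = 0 → ((p ^ s : ℕ) : ZMod (p ^ K.n)) ∣ x := by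
      intro x hx
      rw [show x = ((x.val : ℕ) : ZMod (p ^ K.n)) from (ZMod.natCast_zmod_val _).symm, nsmul_eq_mul,
        ← Nat.cast_mul, ZMod.natCast_eq_zero_iff] at hx
      rw [show x = ((x.val : ℕ) : ZMod (p ^ K.n)) from (ZMod.natCast_zmod_val _).symm,
        natCast_dvd_natCast_iff hs]
      refine Nat.dvd_of_mul_dvd_mul_left (pow_pos hp'.pos (K.n - s)) ?_
      rwa [← pow_add, Nat.sub_add_cancel hs]
    obtain ⟨x, hx⟩ := key _ (congrArg Prod.fst hd)
    obtain ⟨y, hy⟩ := key _ (congrArg Prod.snd hd)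
    exact ⟨(x, y), Prod.ext hx.symm hy.symm⟩

end Cfsg.Agent.S3882
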