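import Cfsg.Statements.S3883
import Cfsg.Agent.Lib.MetacyclicOdd.Coord
import Cfsg.Agent.Lib.LocalEven.Frattini

set_option autoImplicit false
open Cfsg

namespace Cfsg.Agent.S3883

open Subgroup
open Cfsg.Agent.MetaOdd
open scoped commutatorElement

/-- Let p be an odd prime and G a finite metacyclic p-group (G has a cyclic normal subgroup with cyclic quotient). Suppose G is non-abelian. Then an element g of G lies outside the Frattini subgroup if and only if its centralizer C_G(g) is abelian. -/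
theorem result {G : Type*} [Group G] [Finite G] {p : ℕ} [Fact p.Prime] (hp : p ≠ 2) (hG : IsPGroup p G) (hmc : Cfsg.IsMetacyclic G) (hna : ¬ IsMulCommutative G) (g : G) :
    g ∉ frattini G ↔ IsMulCommutative ↥(Subgroup.centralizer ({g} : Set G)) := by
  obtain ⟨K⟩ := exists_coord hG hmc
  have hp' : p.Prime := Fact.out
  haveI : NeZero (p ^ K.n) := ⟨pow_ne_zero _ hp'.ne_zero⟩
  have hn : 1 ≤ K.n := by
    by_contra h0
    apply hna
    have h1 := K.card_comm
    rw [show K.n = 0 by omega, pow_zero] at h1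
    exact (_root_.commutator_eq_bot_iff G).1 (eq_bot_of_card_eq _ h1)
  -- the Frattini subgroup
  let X : AddSubgroup (ZMod (p ^ K.n) × ZMod (p ^ K.n)) :=
    (⊤ : AddSubgroup (ZMod (p ^ K.n) × ZMod (p ^ K.n))).map
      (DistribSMul.toAddMonoidHom _ ((p : ℕ) : ZMod (p ^ K.n)))
  have hpow : ∀ x, K.σ x ∈ X ↔ x ∈ closure {x : G | ∃ y : G, y ^ p ^ 1 = x} := fun x => by
    rw [K.mem_closure_pow_iff hp hn, pow_one]
    exact ⟨fun ⟨v, _, hv⟩ => ⟨v, hv⟩, fun ⟨v, hv⟩ => ⟨v, trivial, hv⟩⟩
  have hΦ : frattini G = K.pre X := by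
    refine le_antisymm (Cfsg.Agent.LEFrattini.frattini_le (p := p) ?_ fun x => ?_) ?_
    · intro x y
      rw [K.mem_pre]
      let π := QuotientAddGroup.mk' X
      have hu : ∀ (z : G) (v : ZMod (p ^ K.n) × ZMod (p ^ K.n)), π ((K.u z : ZMod (p ^ K.n)) • v) = π v := by
        intro z v
        obtain ⟨q, hq⟩ := K.u_one z
        rw [QuotientAddGroup.mk'_eq_mk']
        refine ⟨-((p : ZMod (p ^ K.n)) • ((q : ZMod (p ^ K.n)) • v)),
          neg_mem ⟨_, trivial, rfl⟩, ?_⟩
        rw [show K.u z = 1 + (p : ℤ) * q by linarith]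
        push_cast
        rw [add_smul, one_smul, smul_smul]; abel
      let f : G →* Multiplicative ((ZMod (p ^ K.n) × ZMod (p ^ K.n)) ⧸ X) :=
        MonoidHom.mk' (fun z => Multiplicative.ofAdd (π (K.σ z))) (fun z w => by
          rw [← ofAdd_add, K.map_mul, map_add, hu])
      have h1 : f ⁅x, y⁆ = 1 := by
        rw [map_commutatorElement, commutatorElement_eq_one_iff_mul_comm, mul_comm]
      exact (QuotientAddGroup.eq_zero_iff _).1 h1
    · rw [K.mem_pre, hpow]; exact subset_closure ⟨x, by rw [pow_one]⟩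
    · intro x hx
      rw [K.mem_pre, hpow] at hx
      refine (closure_le _).2 ?_ hx
      rintro _ ⟨y, rfl⟩
      rw [pow_one]
      haveI := hG.isNilpotent
      simp only [SetLike.mem_coe, frattini, Order.radical, Subgroup.mem_iInf]
      intro M hM
      haveI : M.Normal := NormalizerCondition.normal_of_coatom M Group.normalizerCondition_of_isNilpotent hM
      by_contra hy
      have hy0 : y ∉ M := fun h => hy (pow_mem h p)
      have htop : M ⊔ zpowers (y ^ p) = ⊤ :=
        hM.2 _ (lt_of_le_of_ne le_sup_left fun e => hy (e ▸ mem_sup_right (mem_zpowers _)))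
      have : (QuotientGroup.mk' M y) ∈ (zpowers (y ^ p)).map (QuotientGroup.mk' M) := by
        have h2 := congrArg (Subgroup.map (QuotientGroup.mk' M)) htop
        rw [Subgroup.map_sup, QuotientGroup.map_mk'_self, bot_sup_eq] at h2
        rw [h2]; exact ⟨y, mem_top y, rfl⟩
      rw [MonoidHom.map_zpowers, map_pow] at this
      obtain ⟨j, hj⟩ := this
      obtain ⟨m, hm⟩ := IsPGroup.iff_orderOf.1 (hG.to_quotient M) (QuotientGroup.mk' M y)
      have hne : QuotientGroup.mk' M y ≠ 1 := fun h => hy0 ((QuotientGroup.eq_one_iff y).1 h)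
      have hj' : QuotientGroup.mk' M y ^ ((p : ℤ) * j - 1) = 1 := by
        rw [zpow_sub, zpow_mul, zpow_natCast, zpow_one]
        simp only at hj
        rw [hj, mul_inv_cancel]
      rw [← orderOf_dvd_iff_zpow_eq_one, hm] at hj'
      rcases Nat.eq_zero_or_pos m with h0 | hpos
      · rw [h0, pow_zero, orderOf_eq_one_iff] at hm; exact hne hm
      · have h3 : (p : ℤ) ∣ (p : ℤ) * j - 1 :=
          (Int.natCast_dvd_natCast.2 (dvd_pow_self p hpos.ne')).trans hj'
        rw [dvd_sub_right (dvd_mul_right (p : ℤ) j), Int.natCast_dvd] at h3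
        exact hp'.one_lt.ne' (Nat.dvd_one.1 (by simpa using h3))
  rw [hΦ, K.isMulCommutative_iff_card hp hG, K.mem_pre, hpow, K.mem_closure_pow_iff hp hn, pow_one,
    K.index_commutator hp]
  have hidx := (centralizer ({g} : Set G)).card_mul_index
  rw [K.index_centralizer hp, K.card_group hp] at hidx
  have hord : addOrderOf (K.σ g) ∣ p ^ K.n := addOrderOf_dvd_of_nsmul_eq_zero (by
    rw [← Nat.cast_smul_eq_nsmul (ZMod (p ^ K.n)), ZMod.natCast_self, zero_smul])
  obtain ⟨t, ht, e⟩ := (Nat.dvd_prime_pow hp').1 hord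
  rw [e] at hidx
  have hC : Nat.card ↥(centralizer ({g} : Set G)) = Nat.card (center G) * p ^ (2 * K.n - t) := by
    refine Nat.eq_of_mul_eq_mul_right (pow_pos hp'.pos t) ?_
    rw [hidx, mul_assoc, ← pow_add, Nat.sub_add_cancel (by omega)]
  rw [hC, Nat.mul_le_mul_left_iff Nat.card_pos, Nat.pow_le_pow_iff_right hp'.one_lt]
  have key : (∃ v : ZMod (p ^ K.n) × ZMod (p ^ K.n), ((p : ℕ) : ZMod (p ^ K.n)) • v = K.σ g) ↔ t < K.n := by
    constructor
    · rintro ⟨v, hv⟩
      have : addOrderOf (K.σ g) ∣ p ^ (K.n - 1) := addOrderOf_dvd_of_nsmul_eq_zero (by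
        rw [← hv, ← Nat.cast_smul_eq_nsmul (ZMod (p ^ K.n)), smul_smul, ← Nat.cast_mul, ← pow_succ,
          Nat.sub_add_cancel hn, ZMod.natCast_self, zero_smul])
      rw [e, Nat.pow_dvd_pow_iff_le_right hp'.one_lt] at this
      omega
    · intro htn
      have hd : p ^ (K.n - 1) • K.σ g = 0 := by
        rw [← addOrderOf_dvd_iff_nsmul_eq_zero, e]; exact pow_dvd_pow p (by omega)
      have key' : ∀ x : ZMod (p ^ K.n), p ^ (K.n - 1) • x = 0 → ((p ^ 1 : ℕ) : ZMod (p ^ K.n)) ∣ x := by
        intro x hx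
        rw [show x = ((x.val : ℕ) : ZMod (p ^ K.n)) from (ZMod.natCast_zmod_val _).symm, nsmul_eq_mul,
          ← Nat.cast_mul, ZMod.natCast_eq_zero_iff] at hx
        rw [show x = ((x.val : ℕ) : ZMod (p ^ K.n)) from (ZMod.natCast_zmod_val _).symm,
          natCast_dvd_natCast_iff hn]
        refine Nat.dvd_of_mul_dvd_mul_left (pow_pos hp'.pos (K.n - 1)) ?_
        rwa [← pow_add, Nat.sub_add_cancel hn]
      obtain ⟨x, hx⟩ := key' _ (congrArg Prod.fst hd)
      obtain ⟨y, hy⟩ := key' _ (congrArg Prod.snd hd)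
      rw [pow_one] at hx hy
      exact ⟨(x, y), Prod.ext hx.symm hy.symm⟩
  rw [key]
  omega

end Cfsg.Agent.S3883
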