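import Cfsg.Statements.S3884
import Cfsg.Agent.Lib.MetacyclicOdd.Coord

set_option autoImplicit false
open Cfsg

namespace Cfsg.Agent.S3884

open Subgroup
open Cfsg.Agent.MetaOdd

lemma conj_pow_aux {G : Type*} [Group G] {a b : G} {k : ℕ} (hk : b⁻¹ * a * b = a ^ k) (t : ℕ) :
    ∀ i : ℕ, a ^ i * b ^ t = b ^ t * a ^ (i * k ^ t) := by
  induction t with
  | zero => simp
  | succ t ih =>
    intro i
    have h1 : ∀ e : ℕ, a ^ e * b = b * a ^ (e * k) := by
      intro e
      rw [mul_comm e k, pow_mul, ← hk, show b⁻¹ * a * b = MulAut.conj b⁻¹ a by simp, ← map_pow]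
      simp [mul_assoc]
    rw [pow_succ, ← mul_assoc, ih, mul_assoc, h1, ← mul_assoc, pow_succ, mul_assoc i]

/-- Let p be an odd prime and G a finite metacyclic p-group (G has a cyclic normal subgroup with cyclic quotient). Then G is the product of two cyclic subgroups with trivial intersection: there are cyclic subgroups A and B with A ∩ B = 1 and |A| · |B| = |G|. -/
theorem result {G : Type*} [Group G] [Finite G] {p : ℕ} [Fact p.Prime] (hp : p ≠ 2) (hG : IsPGroup p G) (hmc : Cfsg.IsMetacyclic G) : ∃ A B : Subgroup G, IsCyclic ↥A ∧ IsCyclic ↥B ∧ A ⊓ B = ⊥ ∧ Nat.card ↥A * Nat.card ↥B = Nat.card G := by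
  have hp' : p.Prime := Fact.out
  obtain ⟨a, b, hAn, hrepr⟩ := exists_gens hmc
  haveI := hAn
  set A := zpowers a with hA
  obtain ⟨α, hα⟩ := IsPGroup.iff_orderOf.1 hG a
  let π := QuotientGroup.mk' A
  obtain ⟨β, hβ⟩ := IsPGroup.iff_orderOf.1 (hG.to_quotient A) (π b)
  have hβ' : ∀ m : ℕ, b ^ m ∈ A ↔ p ^ β ∣ m := fun m => by
    rw [← hβ, orderOf_dvd_iff_pow_eq_one, ← map_pow]
    exact (QuotientGroup.eq_one_iff _).symm
  have hcardG : Nat.card G = p ^ α * p ^ β := by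
    have hgen : zpowers (π b) = ⊤ := by
      rw [eq_top_iff]
      intro q _
      obtain ⟨g, rfl⟩ := QuotientGroup.mk'_surjective A q
      obtain ⟨i, j, rfl⟩ := hrepr g
      rw [map_mul, map_pow, map_pow, show π a = 1 from (QuotientGroup.eq_one_iff a).2 (mem_zpowers a),
        one_pow, mul_one]
      exact pow_mem (mem_zpowers _) j
    rw [← A.card_mul_index, hA, Nat.card_zpowers, hα, index, ← card_top (G := G ⧸ zpowers a),
      ← hgen, Nat.card_zpowers, hβ]
  -- split case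
  have finish : ∀ b' : G, π b' = π b → b' ^ p ^ β = 1 →
      ∃ A B : Subgroup G, IsCyclic ↥A ∧ IsCyclic ↥B ∧ A ⊓ B = ⊥ ∧ Nat.card ↥A * Nat.card ↥B = Nat.card G := by
    intro b' hb' hpow
    have hord : orderOf b' = p ^ β := by
      refine Nat.dvd_antisymm (orderOf_dvd_of_pow_eq_one hpow) ?_
      rw [← hβ, ← hb']
      exact orderOf_map_dvd π b'
    refine ⟨A, zpowers b', inferInstance, inferInstance, ?_, by
      rw [hA, Nat.card_zpowers, Nat.card_zpowers, hα, hord, hcardG]⟩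
    rw [eq_bot_iff]
    rintro x ⟨hxA, hxB⟩
    obtain ⟨j, rfl⟩ := (mem_powers_iff_mem_zpowers).2 hxB
    have : (π b') ^ j = 1 := by
      rw [← map_pow]; exact (QuotientGroup.eq_one_iff _).2 hxA
    rw [hb', ← orderOf_dvd_iff_pow_eq_one, hβ, ← hord, orderOf_dvd_iff_pow_eq_one] at this
    exact mem_bot.2 this
  obtain ⟨k, hk⟩ : ∃ k : ℕ, b⁻¹ * a * b = a ^ k := by
    obtain ⟨k, hk⟩ := (mem_powers_iff_mem_zpowers).2
      (show b⁻¹ * a * b ∈ A by simpa using hAn.conj_mem a (mem_zpowers a) b⁻¹)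
    exact ⟨k, hk.symm⟩
  by_cases hα0 : α = 0
  · apply finish b rfl
    have := ((hβ' (p ^ β)).2 dvd_rfl)
    rw [hα0, pow_zero, orderOf_eq_one_iff] at hα
    rwa [hA, hα, zpowers_one_eq_bot, mem_bot] at this
  have hk1 : (p : ℤ) ∣ (k : ℤ) - 1 := by
    obtain ⟨m, hm⟩ := IsPGroup.iff_orderOf.1 hG b
    have h1 := conj_pow_aux hk (p ^ m) 1
    rw [show b ^ p ^ m = 1 by rw [← hm]; exact pow_orderOf_eq_one b, pow_one, mul_one, one_mul,
      one_mul] at h1
    have h2 : 1 ≡ k ^ p ^ m [MOD p ^ α] := by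
      rw [← hα]; exact pow_eq_pow_iff_modEq.1 ((pow_one a).trans h1)
    have h3 : 1 ≡ k ^ p ^ m [MOD p] := h2.of_dvd (dvd_pow_self p hα0)
    rw [← ZMod.natCast_eq_natCast_iff, Nat.cast_one, Nat.cast_pow, ZMod.pow_card_pow] at h3
    rw [← ZMod.intCast_zmod_eq_zero_iff_dvd, Int.cast_sub, Int.cast_natCast, ← h3, Int.cast_one, sub_self]
  obtain ⟨N, hN⟩ := (mem_powers_iff_mem_zpowers).2 ((hβ' (p ^ β)).2 dvd_rfl : b ^ p ^ β ∈ zpowers a)
  replace hN : a ^ N = b ^ p ^ β := hN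
  by_cases hz : b ^ p ^ β = 1
  · exact finish b rfl hz
  have hN0 : N ≠ 0 := by
    rintro rfl
    exact hz (by rw [← hN, pow_zero])
  obtain ⟨γ, r, hr, rfl⟩ := Nat.exists_eq_pow_mul_and_not_dvd hN0 p hp'.ne_one
  have hγα : γ < α := by
    by_contra hge
    apply hz
    rw [← hN, ← orderOf_dvd_iff_pow_eq_one, hα]
    exact (pow_dvd_pow p (not_lt.1 hge)).mul_right _
  have hpk : ∀ t : ℕ, (p : ℤ) ∣ (k : ℤ) ^ t - 1 := fun t => hk1.trans (sub_one_dvd_pow_sub_one _ t)
  rcases le_or_gt β γ with hle | hgt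
  · obtain ⟨w, hw⟩ : (p : ℤ) ^ β ∣ geom (k : ℤ) (p ^ β) := (dvd_geom_iff hp β hk1 _).2 dvd_rfl
    have hwp : IsCoprime w ((p : ℤ) ^ α) := by
      refine IsCoprime.pow_right (((Nat.prime_iff_prime_int.1 hp').coprime_iff_not_dvd.2 fun hd => ?_).symm)
      have h2 := (dvd_geom_iff hp (β + 1) hk1 (p ^ β)).1 (by rw [pow_succ, hw]; exact mul_dvd_mul_left _ hd)
      rw [Nat.pow_dvd_pow_iff_le_right hp'.one_lt] at h2
      omega
    obtain ⟨u, v, huv⟩ := hwp
    set i : ℕ := ((-(u * (p : ℤ) ^ (γ - β) * r)) % (p : ℤ) ^ α).toNat with hi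
    have hmul : ∀ m : ℕ, ((b * a ^ i) ^ m) = b ^ m * a ^ (i * ∑ s ∈ Finset.range m, k ^ s) := by
      intro m
      induction m with
      | zero => simp
      | succ m ih =>
        rw [pow_succ, ih, mul_assoc, ← mul_assoc (a ^ _) b, show a ^ (i * ∑ s ∈ Finset.range m, k ^ s) * b =
            b * a ^ ((i * ∑ s ∈ Finset.range m, k ^ s) * k) by simpa using conj_pow_aux hk 1 _,
          mul_assoc b, ← pow_add, ← mul_assoc, ← pow_succ]
        congr 2
        rw [geom_sum_succ]; ring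
    apply finish (b * a ^ i)
    · rw [map_mul, map_pow, show π a = 1 from (QuotientGroup.eq_one_iff a).2 (mem_zpowers a), one_pow, mul_one]
    rw [hmul, ← hN, ← pow_add, ← orderOf_dvd_iff_pow_eq_one, hα, ← Int.natCast_dvd_natCast]
    have hgeom : ((∑ s ∈ Finset.range (p ^ β), k ^ s : ℕ) : ℤ) = (p : ℤ) ^ β * w := by
      rw [← hw]; simp [geom]
    have hpos : (0 : ℤ) < (p : ℤ) ^ α := pow_pos (by exact_mod_cast hp'.pos) α
    have hi' : (i : ℤ) = (-(u * (p : ℤ) ^ (γ - β) * r)) % (p : ℤ) ^ α :=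
      Int.toNat_of_nonneg (Int.emod_nonneg _ hpos.ne')
    have hi2 : (p : ℤ) ^ α ∣ (i : ℤ) + u * (p : ℤ) ^ (γ - β) * r := by
      rw [hi']
      exact ⟨-((-(u * (p : ℤ) ^ (γ - β) * r)) / (p : ℤ) ^ α), by rw [Int.emod_def]; ring⟩
    rw [Nat.cast_pow, Nat.cast_add, Nat.cast_mul (α := ℤ) (p ^ γ), Nat.cast_mul (α := ℤ) i, hgeom, Nat.cast_pow]
    obtain ⟨d, hd⟩ := hi2
    refine ⟨d * (p : ℤ) ^ β * w + v * (p : ℤ) ^ γ * r, ?_⟩
    have hpow : (p : ℤ) ^ γ = (p : ℤ) ^ (γ - β) * (p : ℤ) ^ β := by rw [← pow_add, Nat.sub_add_cancel hle]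
    rw [hpow]
    linear_combination ((p : ℤ) ^ β * w) * hd - ((p : ℤ) ^ (γ - β) * (p : ℤ) ^ β * r) * huv
  · -- `b` has maximal order; find a partner
    have hbord : orderOf b = p ^ β * p ^ (α - γ) := by
      have hz' : orderOf (b ^ p ^ β) = p ^ (α - γ) := by
        rw [← hN, pow_mul, Nat.Coprime.orderOf_pow, orderOf_pow' _ (pow_ne_zero _ hp'.ne_zero), hα,
          Nat.gcd_eq_right (pow_dvd_pow p hγα.le), Nat.pow_div hγα.le hp'.pos]
        rw [orderOf_pow' _ (pow_ne_zero _ hp'.ne_zero), hα,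
          Nat.gcd_eq_right (pow_dvd_pow p hγα.le), Nat.pow_div hγα.le hp'.pos]
        exact Nat.Coprime.pow_left _ (hp'.coprime_iff_not_dvd.2 hr)
      rw [← hz', ← hβ]
      have hd : orderOf (π b) ∣ orderOf b := orderOf_map_dvd π b
      rw [orderOf_pow_of_dvd (orderOf_pos _).ne' hd, Nat.mul_div_cancel' hd]
    set M := α - γ with hM
    let x : ℕ → ℤ := fun q => (k : ℤ) ^ (p ^ (β - γ) * q)
    let F : ℕ → ℤ := fun q => (p : ℤ) ^ γ * r * q + geom (x q) (p ^ γ)
    have hFinj : ∀ q q' : ℕ, q' ≤ q → q < p ^ M → (p : ℤ) ^ α ∣ F q - F q' → q = q' := by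
      intro q q' hle hq hd
      by_contra hne
      obtain ⟨m, D', hD', hD⟩ := Nat.exists_eq_pow_mul_and_not_dvd (show q - q' ≠ 0 by omega) p hp'.ne_one
      have hmM : m < M := by
        refine (Nat.pow_lt_pow_iff_right hp'.one_lt).1 (lt_of_le_of_lt ?_ (lt_of_le_of_lt (Nat.sub_le q q') hq))
        rw [hD]
        exact Nat.le_mul_of_pos_right _ (Nat.pos_of_ne_zero fun h => hD' (h ▸ dvd_zero p))
      have hx : (p : ℤ) ^ (m + 1) ∣ x q - x q' := by
        have e : x q - x q' = x q' * ((k : ℤ) ^ (p ^ (β - γ) * (q - q')) - 1) := by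
          simp only [x]
          rw [mul_sub, ← pow_add, ← mul_add, Nat.add_sub_cancel' hle, mul_one]
        rw [e]
        refine Dvd.dvd.mul_left ?_ _
        rw [← geom_sum_mul, pow_succ]
        refine mul_dvd_mul ((dvd_geom_iff hp m hk1 _).2 ?_) hk1
        rw [hD]
        exact Dvd.dvd.mul_left (dvd_mul_right _ _) _
      have h1 := geom_sub_dvd hp γ (m + 1) (hpk _) (hpk _) hx
      have h2 : (p : ℤ) ^ (γ + (m + 1)) ∣ F q - F q' := (pow_dvd_pow _ (by omega)).trans hd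
      have h3 : (p : ℤ) ^ (γ + (m + 1)) ∣ (p : ℤ) ^ γ * r * ((q : ℤ) - q') := by
        have := dvd_sub h2 h1
        have e : F q - F q' - (geom (x q) (p ^ γ) - geom (x q') (p ^ γ)) =
            (p : ℤ) ^ γ * r * ((q : ℤ) - q') := by show (_ + _) - (_ + _) - _ = _; ring
        exact e ▸ this
      rw [← Nat.cast_sub hle, hD] at h3
      have h4 : p ^ (γ + (m + 1)) ∣ p ^ γ * r * (p ^ m * D') := by exact_mod_cast h3
      rw [show p ^ γ * r * (p ^ m * D') = p ^ (γ + m) * (r * D') by rw [pow_add]; ring,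
        show γ + (m + 1) = γ + m + 1 by omega, pow_succ] at h4
      rcases hp'.dvd_mul.1 (Nat.dvd_of_mul_dvd_mul_left (pow_pos hp'.pos _) h4) with h | h
      · exact hr h
      · exact hD' h
    obtain ⟨q, hq⟩ : ∃ q : ℕ, (p : ℤ) ^ α ∣ F q := by
      haveI : NeZero (p ^ α) := ⟨pow_ne_zero _ hp'.ne_zero⟩
      haveI : NeZero (p ^ M) := ⟨pow_ne_zero _ hp'.ne_zero⟩
      let T := AddSubgroup.zmultiples ((p ^ γ : ℕ) : ZMod (p ^ α))
      have hmem : ∀ q : ℕ, (F q : ZMod (p ^ α)) ∈ T := by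
        intro q
        rw [mem_zmultiples_iff_dvd]
        obtain ⟨e, he⟩ : (p : ℤ) ^ γ ∣ F q :=
          dvd_add ((dvd_mul_right _ _).mul_right _) ((dvd_geom_iff hp γ (hpk _) _).2 dvd_rfl)
        exact ⟨(e : ZMod (p ^ α)), by rw [he]; push_cast; rfl⟩
      let f : ZMod (p ^ M) → T := fun q => ⟨_, hmem q.val⟩
      have hf : Function.Injective f := by
        intro y y' h
        have h' := congrArg Subtype.val h
        simp only [f, ZMod.intCast_eq_intCast_iff_dvd_sub, Nat.cast_pow] at h'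
        apply ZMod.val_injective
        rcases le_total y'.val y.val with hle | hle
        · exact hFinj _ _ hle y.val_lt (by rw [← dvd_neg, neg_sub]; exact h')
        · exact (hFinj _ _ hle y'.val_lt h').symm
      have hb : Function.Bijective f := (Nat.bijective_iff_injective_and_card f).2 ⟨hf, by
        rw [Nat.card_zmod, card_zmultiples hγα.le]⟩
      obtain ⟨y, hy⟩ := hb.2 0
      refine ⟨y.val, ?_⟩
      have h' := congrArg Subtype.val hy
      simp only [f, AddSubgroup.coe_zero, ZMod.intCast_zmod_eq_zero_iff_dvd] at h'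
      exact_mod_cast h'
    set t := p ^ (β - γ) * q with ht
    set h := b ^ t * a with hh
    have hmul : ∀ m : ℕ, h ^ m = b ^ (t * m) * a ^ (∑ s ∈ Finset.range m, (k ^ t) ^ s) := by
      intro m
      induction m with
      | zero => simp
      | succ m ih =>
        rw [pow_succ, ih, hh, mul_assoc, ← mul_assoc (a ^ _) (b ^ t), conj_pow_aux hk t, mul_assoc (b ^ t),
          ← pow_succ, ← mul_assoc, ← pow_add, ← Nat.mul_succ, geom_sum_succ]
        congr 2
        ring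
    have hcast : ∀ m : ℕ, ((∑ s ∈ Finset.range m, (k ^ t) ^ s : ℕ) : ℤ) = geom (x q) m := fun m => by
      simp [geom, x, ht]
    have hinter : ∀ m : ℕ, h ^ m ∈ zpowers b → p ^ γ ∣ m := by
      intro m hm
      rw [hmul, mul_mem_cancel_left (pow_mem (mem_zpowers b) _)] at hm
      obtain ⟨j, hj⟩ := (mem_powers_iff_mem_zpowers).2 hm
      simp only at hj
      have hjA : b ^ j ∈ A := hj ▸ pow_mem (mem_zpowers a) _
      obtain ⟨j', rfl⟩ := (hβ' j).1 hjA
      rw [pow_mul, ← hN, ← pow_mul, eq_comm, pow_eq_pow_iff_modEq, hα] at hj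
      have hd : p ^ γ ∣ ∑ s ∈ Finset.range m, (k ^ t) ^ s :=
        ((hj.of_dvd (pow_dvd_pow p hγα.le)).dvd_iff dvd_rfl).2 (by rw [mul_assoc]; exact dvd_mul_right _ _)
      rw [← Int.natCast_dvd_natCast, hcast, Nat.cast_pow] at hd
      exact (dvd_geom_iff hp γ (hpk _) m).1 hd
    have hhγ : h ^ p ^ γ = 1 := by
      rw [hmul, ht, show p ^ (β - γ) * q * p ^ γ = p ^ β * q by
          rw [mul_right_comm, ← pow_add, Nat.sub_add_cancel hgt.le], pow_mul, ← hN, ← pow_mul,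
        ← pow_add, ← orderOf_dvd_iff_pow_eq_one, hα, ← Int.natCast_dvd_natCast]
      rw [← ht, Nat.cast_add, hcast, Nat.cast_pow]
      push_cast
      exact hq
    have hhord : orderOf h = p ^ γ :=
      Nat.dvd_antisymm (orderOf_dvd_of_pow_eq_one hhγ)
        (hinter _ (by rw [pow_orderOf_eq_one]; exact one_mem _))
    refine ⟨zpowers b, zpowers h, inferInstance, inferInstance, ?_, ?_⟩
    · rw [eq_bot_iff]
      rintro y ⟨hyb, hyh⟩
      obtain ⟨m, rfl⟩ := (mem_powers_iff_mem_zpowers).2 hyh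
      obtain ⟨m', rfl⟩ := hinter m hyb
      rw [mem_bot]
      show h ^ (p ^ γ * m') = 1
      rw [pow_mul, hhγ, one_pow]
    · rw [Nat.card_zpowers, Nat.card_zpowers, hbord, hhord, hcardG, mul_assoc, ← pow_add,
        show α - γ + γ = α by omega, mul_comm]

end Cfsg.Agent.S3884
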