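import Cfsg.Statements.S3886
import Cfsg.Agent.Lib.MetacyclicOdd.Coord

set_option autoImplicit false
open Cfsg

namespace Cfsg.Agent.S3886

open Subgroup
open Cfsg.Agent.MetaOdd

/-- Let p be an odd prime and G a finite metacyclic p-group (G has a cyclic normal subgroup with cyclic quotient). Then the largest value of |R| · |Z(R)| over subgroups R of G is |G : G'|², and the subgroups attaining it (the centrally large subgroups) are exactly the non-abelian subgroups together with the maximal abelian subgroups of G. -/
theorem result {G : Type*} [Group G] [Finite G] {p : ℕ} [Fact p.Prime] (hp : p ≠ 2) (hG : IsPGroup p G) (hmc : Cfsg.IsMetacyclic G) : Cfsg.maxCentralProduct G = (commutator G).index ^ 2 ∧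
    ∀ R : Subgroup G, Cfsg.IsCentrallyLarge R ↔ (¬ IsMulCommutative ↥R ∨ Maximal (fun K : Subgroup G => IsMulCommutative ↥K) R) := by
  obtain ⟨K⟩ := exists_coord hG hmc
  have hp' : p.Prime := Fact.out
  set I := (commutator G).index with hI
  -- non-abelian subgroups
  have hnon : ∀ R : Subgroup G, ¬ IsMulCommutative ↥R →
      Nat.card R * Nat.card (Subgroup.center R) = I ^ 2 := by
    intro R hR
    have hZ := K.center_le_of_not_comm hp hG R hR
    rw [K.isMulCommutative_iff hp] at hR
    have hperp := perp_le_of_not_le_perp _ hR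
    have hle : centralizer (R : Set G) ≤ R := by
      rw [K.centralizer_eq hp]
      intro g hg
      rw [← K.pre_img hp R hZ]
      exact hperp hg
    have hmap : (Subgroup.center R).map R.subtype = centralizer (R : Set G) := by
      ext g
      constructor
      · rintro ⟨z, hz, rfl⟩
        exact mem_centralizer_iff.2 fun x hx => congrArg Subtype.val (mem_center_iff.1 hz ⟨x, hx⟩)
      · intro hg
        exact ⟨⟨g, hle hg⟩, mem_center_iff.2 fun x => Subtype.ext (mem_centralizer_iff.1 hg x x.2), rfl⟩
    rw [← card_map_of_injective R.subtype_injective, hmap, K.centralizer_eq hp, K.card_pre hp,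
      K.card_eq_mul hp R, inf_eq_right.2 hZ, hI, K.index_commutator hp,
      mul_mul_mul_comm, card_mul_card_perp, two_mul, pow_add]
    ring
  have hcomm : ∀ R : Subgroup G, IsMulCommutative ↥R →
      Nat.card R * Nat.card (Subgroup.center R) = Nat.card R ^ 2 ∧ Nat.card R ≤ I := by
    intro R hR
    rw [Subgroup.center_eq_top_iff.2 hR, card_top, ← pow_two]
    exact ⟨rfl, (K.isMulCommutative_iff_card hp hG R).1 hR⟩
  -- an abelian subgroup of the extremal order
  obtain ⟨m, hm⟩ := hG.index (commutator G)
  obtain ⟨B, hB⟩ := Sylow.exists_subgroup_card_pow_prime p (hm ▸ (commutator G).index_dvd_card)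
  rw [← hm] at hB
  have hBc : IsMulCommutative B := (K.isMulCommutative_iff_card hp hG B).2 hB.le
  have hle : ∀ R : Subgroup G, Nat.card R * Nat.card (Subgroup.center R) ≤ I ^ 2 := by
    intro R
    by_cases hR : IsMulCommutative ↥R
    · rw [(hcomm R hR).1]; exact Nat.pow_le_pow_left (hcomm R hR).2 2
    · exact (hnon R hR).le
  have hmax : Cfsg.maxCentralProduct G = I ^ 2 := by
    refine IsGreatest.csSup_eq ⟨⟨B, by rw [(hcomm B hBc).1, hB]⟩, ?_⟩
    rintro _ ⟨R, rfl⟩
    exact hle R
  refine ⟨hmax, fun R => ?_⟩
  rw [Cfsg.IsCentrallyLarge, hmax]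
  by_cases hR : IsMulCommutative ↥R
  · rw [(hcomm R hR).1, K.maximal_iff_card hp hG, Nat.pow_left_injective two_ne_zero |>.eq_iff]
    exact ⟨fun h => Or.inr h, fun h => h.resolve_left (not_not.2 hR)⟩
  · exact ⟨fun _ => Or.inl hR, fun _ => hnon R hR⟩

end Cfsg.Agent.S3886
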