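import Cfsg.Statements.S3887
import Cfsg.Agent.Lib.MetacyclicOdd.Coord

set_option autoImplicit false
open Cfsg

namespace Cfsg.Agent.S3887

open Subgroup
open Cfsg.Agent.MetaOdd

/-- Let p be an odd prime and G a finite metacyclic p-group (G has a cyclic normal subgroup with cyclic quotient). Then a subgroup R of G maximizes |R| · |C_G(R)| over all subgroups of G if and only if R contains the center of G. -/
theorem result {G : Type*} [Group G] [Finite G] {p : ℕ} [Fact p.Prime] (hp : p ≠ 2) (hG : IsPGroup p G) (hmc : Cfsg.IsMetacyclic G) (R : Subgroup G) : Cfsg.IsCentralizerLarge R ↔ Subgroup.center G ≤ R := by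
  obtain ⟨K⟩ := exists_coord hG hmc
  set W := Nat.card (Subgroup.center G) * p ^ (2 * K.n) with hW
  have hval : ∀ R : Subgroup G, Nat.card R * Nat.card (centralizer (R : Set G)) =
      Nat.card ↥(R ⊓ Subgroup.center G : Subgroup G) * W := by
    intro R
    rw [K.centralizer_eq hp, K.card_pre hp, K.card_eq_mul hp R, hW, ← card_mul_card_perp (K.img hp R)]
    ring
  have hWpos : 0 < W := Nat.mul_pos Nat.card_pos (pow_pos (Fact.out : p.Prime).pos _)
  have hmax : Cfsg.maxCentralizerProduct G = Nat.card (Subgroup.center G) * W := by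
    refine IsGreatest.csSup_eq ⟨⟨Subgroup.center G, by rw [hval, inf_idem]⟩, ?_⟩
    rintro _ ⟨Q, rfl⟩
    rw [hval]
    exact Nat.mul_le_mul_right _ (card_le_of_le inf_le_right)
  rw [Cfsg.IsCentralizerLarge, hmax, hval]
  constructor
  · intro h
    exact inf_eq_right.1 (eq_of_le_of_card_ge inf_le_right (Nat.eq_of_mul_eq_mul_right hWpos h).ge)
  · intro h
    rw [inf_eq_right.2 h]

end Cfsg.Agent.S3887
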