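import Cfsg.Statements.S3889


set_option autoImplicit false
open Cfsg

namespace Cfsg.Agent.S3889

/-- A finite abelian group that is the union of a family of proper subgroups any two of which intersect trivially is elementary abelian: its exponent is a prime. -/
theorem result {G : Type*} [CommGroup G] [Finite G] (𝓑 : Set (Subgroup G)) (hprop : ∀ B ∈ 𝓑, B ≠ ⊤)
    (hcov : ∀ g : G, ∃ B ∈ 𝓑, g ∈ B) (hdisj : ∀ B ∈ 𝓑, ∀ C ∈ 𝓑, B ≠ C → B ⊓ C = ⊥) :
    (Monoid.exponent G).Prime := by
  obtain ⟨B₀, hB₀, -⟩ := hcov 1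
  haveI : Nontrivial G := by
    by_contra h
    rw [not_nontrivial_iff_subsingleton] at h
    exact hprop B₀ hB₀ (Subsingleton.elim _ _)
  set p := (Nat.card G).minFac
  have hp : p.Prime := Nat.minFac_prime Finite.one_lt_card.ne'
  haveI := Fact.mk hp
  obtain ⟨x, hx⟩ := exists_prime_orderOf_dvd_card' (G := G) p (Nat.minFac_dvd _)
  obtain ⟨B, hB, hxB⟩ := hcov x
  have hout : ∀ y : G, y ∉ B → y ^ p = 1 := by
    intro y hy
    obtain ⟨C, hC, hxyC⟩ := hcov (x * y)
    obtain ⟨D, hD, hyD⟩ := hcov y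
    have hCB : C ≠ B := by
      rintro rfl
      exact hy (by simpa using mul_mem (inv_mem hxB) hxyC)
    have hDB : D ≠ B := fun e => hy (e ▸ hyD)
    have hCD : C ≠ D := by
      rintro rfl
      have : x ∈ B ⊓ C := ⟨hxB, by simpa using mul_mem hxyC (inv_mem hyD)⟩
      rw [hdisj B hB C hC hCB.symm, Subgroup.mem_bot] at this
      rw [this, orderOf_one] at hx
      exact hp.one_lt.ne hx
    have : y ^ p ∈ C ⊓ D := by
      refine ⟨?_, pow_mem hyD p⟩
      have := pow_mem hxyC p
      rwa [mul_pow, ← hx, pow_orderOf_eq_one, one_mul, hx] at this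
    rwa [hdisj C hC D hD hCD, Subgroup.mem_bot] at this
  have hall : ∀ y : G, y ^ p = 1 := by
    intro y
    by_cases hy : y ∈ B
    · obtain ⟨w, hw⟩ : ∃ w, w ∉ B := by
        by_contra h
        push Not at h
        exact hprop B hB ((Subgroup.eq_top_iff' B).2 h)
      have h1 := hout (y * w) fun h => hw (by simpa using mul_mem (inv_mem hy) h)
      rwa [mul_pow, hout w hw, mul_one] at h1
    · exact hout y hy
  have hdvd : Monoid.exponent G ∣ p := Monoid.exponent_dvd_of_forall_pow_eq_one hall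
  rcases (Nat.dvd_prime hp).1 hdvd with h | h
  · rw [Monoid.exp_eq_one_iff] at h
    exact absurd h (not_subsingleton G)
  · rw [h]; exact hp

end Cfsg.Agent.S3889
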