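import Cfsg.Statements.S3937
import Cfsg.Agent.Lib.Solvable.Fitting
import Cfsg.Agent.Lib.LocalEven.Wielandt
import Mathlib

set_option autoImplicit false
open Cfsg

namespace Cfsg.Agent.S3937

open Cfsg.Agent
open scoped commutatorElement

universe u

/-- The iterated commutator with `g`. -/
def eng {G : Type*} [Group G] (g : G) (n : ℕ) (x : G) : G :=
  (List.replicate n g).foldl (fun a b => a * b * a⁻¹ * b⁻¹) x

lemma eng_zero {G : Type*} [Group G] (g x : G) : eng g 0 x = x := rfl

lemma eng_succ {G : Type*} [Group G] (g : G) (n : ℕ) (x : G) :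
    eng g (n+1) x = ⁅eng g n x, g⁆ := by
  rw [eng, List.replicate_succ', List.foldl_append]
  rfl

lemma eng_succ' {G : Type*} [Group G] (g : G) (n : ℕ) (x : G) :
    eng g (n+1) x = eng g n ⁅x, g⁆ := by
  rw [eng, List.replicate_succ]
  rfl

lemma map_eng {G H : Type*} [Group G] [Group H] (f : G →* H) (g : G) (n : ℕ) (x : G) :
    f (eng g n x) = eng (f g) n (f x) := by
  induction n with
  | zero => rfl
  | succ n ih => rw [eng_succ, eng_succ, map_commutatorElement, ih]

lemma eng_mem_lcs {G : Type*} [Group G] (g : G) (n : ℕ) (x : G) :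
    eng g n x ∈ (⊤ : Subgroup G).lowerCentralSeries n := by
  induction n with
  | zero => simp
  | succ n ih =>
    rw [eng_succ, Subgroup.lowerCentralSeries_succ]
    exact Subgroup.commutator_mem_commutator ih (Subgroup.mem_top g)

lemma exists_eng_eq_one {G : Type*} [Group G] [Group.IsNilpotent G] (g x : G) :
    ∃ n : ℕ, eng g n x = 1 := by
  obtain ⟨n, hn⟩ := Subgroup.nilpotent_iff_lowerCentralSeries.1 (inferInstance : Group.IsNilpotent G)
  exact ⟨n, Subgroup.mem_bot.1 (hn ▸ eng_mem_lcs g n x)⟩

lemma isSubnormal_of_nilpotent {F : Type*} [Group F] [Finite F] [Group.IsNilpotent F]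
    (K : Subgroup F) : K.IsSubnormal := by
  induction K using WellFoundedGT.induction with
  | ind K ih =>
    rcases eq_or_ne K ⊤ with rfl | hK
    · exact Subgroup.IsSubnormal.top
    · have hlt : K < Subgroup.normalizer (K : Set F) :=
        Group.normalizerCondition_of_isNilpotent K (lt_top_iff_ne_top.2 hK)
      exact Subgroup.IsSubnormal.step K _ hlt.le (ih _ hlt) Subgroup.normal_in_normalizer

theorem mem_fitting_of_engel : ∀ (n : ℕ) (G : Type u) [Group G] [Finite G], Nat.card G = n →
    ∀ g : G, (∀ x : G, ∃ n : ℕ, eng g n x = 1) → g ∈ Cfsg.fittingSubgroup G := by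
  intro n
  induction n using Nat.strong_induction_on with
  | _ n ih =>
    intro G _ _ hn g hE
    set A := Subgroup.zpowers g with hA
    by_cases hs : A.IsSubnormal
    · haveI : Group.IsNilpotent ↥A := ⟨1, (Subgroup.eq_top_iff' _).2 fun a => by
        rw [Subgroup.upperCentralSeries_one, Subgroup.mem_center_iff]
        rintro ⟨b, j, rfl⟩
        obtain ⟨a, i, rfl⟩ := a
        exact Subtype.ext (Commute.zpow_zpow_self g j i).eq⟩
      exact FittingCores.le_fitting_of_isSubnormal hs (Subgroup.mem_zpowers g)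
    exfalso
    have hsub : ∀ H : Subgroup G, H ≠ ⊤ → A ≤ H → (A.subgroupOf H).IsSubnormal := by
      intro H hH hAH
      have hgH : g ∈ H := hAH (Subgroup.mem_zpowers g)
      have hlt : Nat.card ↥H < n := by
        rw [← hn]
        exact lt_of_le_of_ne (Subgroup.card_le_card_group H) fun h =>
          hH (Subgroup.eq_top_of_card_eq _ h)
      have hF : (⟨g, hgH⟩ : ↥H) ∈ Cfsg.fittingSubgroup ↥H := by
        refine ih _ hlt ↥H rfl _ fun x => ?_
        obtain ⟨k, hk⟩ := hE (x : G)
        exact ⟨k, H.subtype_injective (by rw [map_eng, map_one]; exact hk)⟩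
      have hle : A.subgroupOf H ≤ Cfsg.fittingSubgroup ↥H := by
        rintro ⟨a, haH⟩ ⟨k, hk⟩
        have : (⟨a, haH⟩ : ↥H) = ⟨g, hgH⟩ ^ k := Subtype.ext hk.symm
        rw [this]
        exact zpow_mem hF k
      haveI := FittingCores.fitting_nilpotent (G := ↥H)
      exact Subgroup.IsSubnormal.trans hle (isSubnormal_of_nilpotent _)
        (Subgroup.Normal.isSubnormal FittingCores.fitting_normal)
    obtain ⟨M, hM, hAM, huniq⟩ := LEWielandt.zipper A hsub hs
    have hMn : ¬ M.Normal := fun h =>
      hs (Subgroup.IsSubnormal.trans hAM (hsub M hM.1 hAM) (Subgroup.Normal.isSubnormal h))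
    have hNM : Subgroup.normalizer (M : Set G) = M := by
      rcases eq_or_lt_of_le (Subgroup.le_normalizer (H := M)) with h | h
      · exact h.symm
      · exact absurd (Subgroup.normalizer_eq_top_iff.1 (hM.2 _ h)) hMn
    obtain ⟨x, hx⟩ : ∃ x : G, x ∉ M := by
      by_contra hc
      push_neg at hc
      exact hM.1 (eq_top_iff.2 fun z _ => hc z)
    classical
    have hex : ∃ k, eng g k x ∈ M := (hE x).imp fun k hk => by rw [hk]; exact M.one_mem
    have h0 : Nat.find hex ≠ 0 := fun h => hx (by simpa [h, eng_zero] using Nat.find_spec hex)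
    obtain ⟨j, hj⟩ := Nat.exists_eq_succ_of_ne_zero h0
    set y := eng g j x with hy
    have hyM : y ∉ M := Nat.find_min hex (by rw [hj]; exact Nat.lt_succ_self j)
    have hyg : ⁅y, g⁆ ∈ M := by
      rw [hy, ← eng_succ]
      have := Nat.find_spec hex
      rwa [hj] at this
    have hygy : y * g * y⁻¹ ∈ M := by
      have := mul_mem hyg (hAM (Subgroup.mem_zpowers g))
      simpa [commutatorElement_def, mul_assoc] using this
    set K := M.map (MulAut.conj y⁻¹).toMonoidHom with hK
    have hKc : Nat.card ↥K = Nat.card ↥M := Subgroup.card_map_of_injective (MulEquiv.injective _)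
    have hKM : K ≤ M := huniq K
      (fun h => hM.1 (Subgroup.eq_top_of_card_eq _ (by rw [← hKc, h, Subgroup.card_top])))
      (Subgroup.zpowers_le.2 ⟨_, hygy, by simp [mul_assoc]⟩)
    have hyN : y⁻¹ ∈ Subgroup.normalizer (M : Set G) :=
      LEBasic.map_conj_eq_iff_mem_normalizer.1 (Subgroup.eq_of_le_of_card_ge hKM hKc.ge)
    rw [hNM, inv_mem_iff] at hyN
    exact hyM hyN

/-- Baer's characterization of the Fitting subgroup: in a finite group G, an element g lies in the Fitting subgroup if and only if g is a left Engel element, that is, for every x there is n with [x, g, g, …, g] = 1 (n entries g, [a, b] = aba⁻¹b⁻¹). -/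
theorem result {G : Type*} [Group G] [Finite G] (g : G) :
    g ∈ Cfsg.fittingSubgroup G ↔ ∀ x : G, ∃ n : ℕ, (List.replicate n g).foldl (fun a b => a * b * a⁻¹ * b⁻¹) x = 1 := by
  show _ ↔ ∀ x : G, ∃ n : ℕ, eng g n x = 1
  refine ⟨fun hg x => ?_, fun h => mem_fitting_of_engel _ G rfl g h⟩
  haveI := FittingCores.fitting_nilpotent (G := G)
  have hc : ⁅x, g⁆ ∈ Cfsg.fittingSubgroup G := by
    have := mul_mem (FittingCores.fitting_normal.conj_mem g hg x) (inv_mem hg)
    simpa [commutatorElement_def] using this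
  obtain ⟨n, hn⟩ := exists_eng_eq_one (⟨g, hg⟩ : ↥(Cfsg.fittingSubgroup G)) ⟨_, hc⟩
  refine ⟨n + 1, ?_⟩
  rw [eng_succ']
  have := congrArg (Cfsg.fittingSubgroup G).subtype hn
  rwa [map_eng, map_one] at this

end Cfsg.Agent.S3937
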