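import Cfsg.Statements.S3939
import Cfsg.Agent.S3937
import Cfsg.Agent.Lib.Solvable.Fitting
import Cfsg.Agent.Lib.OddOrder.Nilpotent
import Mathlib

set_option autoImplicit false
open Cfsg

namespace Cfsg.Agent.S3939

open Cfsg.Agent
open scoped commutatorElement

lemma mem_of_prime_parts {G : Type*} [Group G] [Finite G] (v : G) (X : Subgroup G)
    (h : ∀ r : ℕ, r.Prime → ∀ y ∈ Subgroup.zpowers v, (∃ k, orderOf y = r ^ k) → y ∈ X) :
    v ∈ X := by
  have htop : X.subgroupOf (Subgroup.zpowers v) = ⊤ := by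
    refine FittingCores.eq_top_of_forall_sylow_le fun r hr => ⟨default, fun y hy => ?_⟩
    have := Fact.mk hr
    obtain ⟨k, hk⟩ := IsPGroup.iff_orderOf.1
      ((default : Sylow r ↥(Subgroup.zpowers v)).isPGroup') ⟨y, hy⟩
    rw [Subgroup.orderOf_mk] at hk
    exact h r hr _ y.2 ⟨k, by rwa [Subgroup.coe_subtype, Subgroup.orderOf_coe]⟩
  exact (Subgroup.eq_top_iff' _).1 htop ⟨v, Subgroup.mem_zpowers v⟩

lemma mem_sylow_of_normal {G : Type*} [Group G] [Finite G] {p : ℕ} [Fact p.Prime] (P : Sylow p G)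
    [(P : Subgroup G).Normal] {u : G} (hu : ∃ k, orderOf u = p ^ k) : u ∈ (P : Subgroup G) := by
  obtain ⟨k, hk⟩ := hu
  obtain ⟨R, hR⟩ := (IsPGroup.of_card (p := p) (G := ↥(Subgroup.zpowers u)) (n := k)
    (by rw [Nat.card_zpowers, hk])).exists_le_sylow
  haveI := Sylow.unique_of_normal P inferInstance
  exact Subsingleton.elim R P ▸ hR (Subgroup.mem_zpowers u)

lemma commute_of_nilpotent {G : Type*} [Group G] [Finite G] [Group.IsNilpotent G] {p : ℕ}
    (hp : p.Prime) {u v : G} (hu : ∃ k, orderOf u = p ^ k) (hv : (orderOf v).Coprime p) :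
    Commute u v := by
  have := Fact.mk hp
  refine (Subgroup.mem_centralizer_singleton_iff.1
    (mem_of_prime_parts v (Subgroup.centralizer {u}) fun r hr y hy hyr => ?_)).symm
  rw [Subgroup.mem_centralizer_singleton_iff]
  by_cases hrp : r = p
  · subst hrp
    obtain ⟨k, hk⟩ := hyr
    have h1 : orderOf y ∣ orderOf v := by
      rw [← Nat.card_zpowers v]; exact Subgroup.orderOf_dvd_natCard _ hy
    rw [hk] at h1
    rcases Nat.eq_zero_or_pos k with rfl | hk0
    · rw [orderOf_eq_one_iff.1 (hk.trans (pow_zero r))]; simp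
    · exact absurd (hv.symm.eq_one_of_dvd ((dvd_pow_self r hk0.ne').trans h1)) hr.ne_one
  have := Fact.mk hr
  have hP : ((default : Sylow p G) : Subgroup G).Normal := inferInstance
  have hR : ((default : Sylow r G) : Subgroup G).Normal := inferInstance
  exact Subgroup.commute_of_normal_of_disjoint _ _ hR hP
    (IsPGroup.disjoint_of_ne r p hrp _ _ (Sylow.isPGroup' _) (Sylow.isPGroup' _)) y u
    (mem_sylow_of_normal _ hyr) (mem_sylow_of_normal _ hu)

lemma ucs_subgroupOf_le {G : Type*} [Group G] (H : Subgroup G) (n : ℕ) :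
    (Subgroup.upperCentralSeries G n).subgroupOf H ≤ Subgroup.upperCentralSeries ↥H n := by
  induction n with
  | zero => simp
  | succ n ih =>
    intro a ha
    rw [Subgroup.mem_upperCentralSeries_succ_iff]
    intro b
    apply ih
    rw [Subgroup.mem_subgroupOf]
    exact Subgroup.mem_upperCentralSeries_succ_iff.1 ha (b : G)

lemma nilpotent_of_closure_pair {G : Type*} [Group G] {x g : G} {n : ℕ}
    (hg : g ∈ Subgroup.upperCentralSeries G n) :
    Group.IsNilpotent ↥(Subgroup.closure ({x, g} : Set G)) := by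
  set H := Subgroup.closure ({x, g} : Set G) with hH
  set Z := Subgroup.upperCentralSeries ↥H n
  have hxH : x ∈ H := Subgroup.subset_closure (by simp)
  have hgH : g ∈ H := Subgroup.subset_closure (by simp)
  have hgZ : (⟨g, hgH⟩ : ↥H) ∈ Z := ucs_subgroupOf_le H n hg
  set q := QuotientGroup.mk' Z
  have hall : ∀ a : ↥H, q a ∈ Subgroup.zpowers (q ⟨x, hxH⟩) := by
    rintro ⟨a, ha⟩
    induction ha using Subgroup.closure_induction with
    | mem y hy =>
      rcases hy with rfl | hy
      · exact Subgroup.mem_zpowers _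
      · obtain rfl : y = g := hy
        rw [show q ⟨y, hgH⟩ = 1 from (QuotientGroup.eq_one_iff _).2 hgZ]
        exact one_mem _
    | one => exact (map_one q) ▸ one_mem _
    | mul y z hy hz ihy ihz =>
      rw [show (⟨y * z, mul_mem hy hz⟩ : ↥H) = ⟨y, hy⟩ * ⟨z, hz⟩ from rfl, map_mul]
      exact mul_mem ihy ihz
    | inv y hy ih =>
      rw [show (⟨y⁻¹, inv_mem hy⟩ : ↥H) = ⟨y, hy⟩⁻¹ from rfl, map_inv]
      exact inv_mem ih
  refine ⟨⟨n + 1, (Subgroup.eq_top_iff' _).2 fun a => ?_⟩⟩
  rw [Subgroup.mem_upperCentralSeries_succ_iff]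
  intro b
  obtain ⟨i, hi⟩ := hall a
  obtain ⟨j, hj⟩ := hall b
  rw [← QuotientGroup.eq_one_iff]
  show q ⁅a, b⁆ = 1
  rw [map_commutatorElement, commutatorElement_eq_one_iff_mul_comm, ← hi, ← hj]
  exact (Commute.zpow_zpow_self _ i j).eq

/-- In a finite group G the set of elements g such that the subgroup generated by g and x is nilpotent for every x ∈ G is exactly the hypercenter of G (the last term of the upper central series). -/
theorem result {G : Type*} [Group G] [Finite G] (g : G) :
    (∀ x : G, Group.IsNilpotent ↥(Subgroup.closure ({x, g} : Set G))) ↔ g ∈ ⨆ n : ℕ, Subgroup.upperCentralSeries G n := by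
  classical
  have hmono := Subgroup.upperCentralSeries_mono (G := G)
  refine ⟨fun h => ?_, fun hg x => ?_⟩
  swap
  · obtain ⟨n, hn⟩ := (Subgroup.mem_iSup_of_directed hmono.directed_le).1 hg
    exact nilpotent_of_closure_pair hn
  -- stable term of the series
  obtain ⟨n, hn⟩ : ∃ n, Subgroup.upperCentralSeries G n = Subgroup.upperCentralSeries G (n + 1) := by
    by_contra hc
    push_neg at hc
    exact not_injective_infinite_finite _
      (strictMono_nat_of_lt_succ fun k => lt_of_le_of_ne (hmono (Nat.le_succ k)) (hc k)).injective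
  set Z := Subgroup.upperCentralSeries G n with hZ
  refine Subgroup.mem_iSup_of_mem n ?_
  have hgF : g ∈ Cfsg.fittingSubgroup G := by
    rw [Cfsg.Agent.S3937.result]
    intro x
    haveI := h x
    obtain ⟨k, hk⟩ := S3937.exists_eng_eq_one
      (⟨g, Subgroup.subset_closure (by simp)⟩ : ↥(Subgroup.closure ({x, g} : Set G)))
      ⟨x, Subgroup.subset_closure (by simp)⟩
    refine ⟨k, ?_⟩
    have := congrArg (Subgroup.closure ({x, g} : Set G)).subtype hk
    rwa [S3937.map_eng, map_one] at this
  refine mem_of_prime_parts g _ fun p hp u hu hup => ?_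
  have := Fact.mk hp
  -- `u` lies in the `p`-core and commutes with all `p'`-elements
  have huF : u ∈ Cfsg.fittingSubgroup G := Subgroup.zpowers_le.2 hgF hu
  have huO : u ∈ Cfsg.pCore p G := by
    haveI := FittingCores.fitting_nilpotent (G := G)
    have h1 : (⟨u, huF⟩ : ↥(Cfsg.fittingSubgroup G)) ∈
        ((default : Sylow p ↥(Cfsg.fittingSubgroup G)) : Subgroup ↥(Cfsg.fittingSubgroup G)) :=
      mem_sylow_of_normal _ (hup.imp fun k hk => by rwa [Subgroup.orderOf_mk])
    exact FittingCores.sylow_le_pCore_of_nilpotent FittingCores.fitting_normal p _ ⟨_, h1, rfl⟩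
  have huC : ∀ x : G, (orderOf x).Coprime p → x * u = u * x := by
    intro x hx
    haveI := h x
    have huH : u ∈ Subgroup.closure ({x, g} : Set G) :=
      Subgroup.zpowers_le.2 (Subgroup.subset_closure (by simp)) hu
    have hc := commute_of_nilpotent hp (u := (⟨u, huH⟩ : ↥(Subgroup.closure ({x, g} : Set G))))
      (v := ⟨x, Subgroup.subset_closure (by simp)⟩)
      (hup.imp fun k hk => by rwa [Subgroup.orderOf_mk]) (by rwa [Subgroup.orderOf_mk])
    exact (congrArg Subtype.val hc.eq).symm
  set T : Set G := {x | (orderOf x).Coprime p}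
  have hCn : (Subgroup.centralizer T).Normal := ⟨fun c hc a => by
    rw [Subgroup.mem_centralizer_iff] at hc ⊢
    intro x hx
    have h1 : a⁻¹ * x * a ∈ T := by
      show (orderOf (a⁻¹ * x * a)).Coprime p
      rw [show a⁻¹ * x * a = (MulAut.conj a⁻¹) x by simp, MulEquiv.orderOf_eq]
      exact hx
    have h2 := hc _ h1
    calc x * (a * c * a⁻¹) = a * ((a⁻¹ * x * a) * c) * a⁻¹ := by group
      _ = a * (c * (a⁻¹ * x * a)) * a⁻¹ := by rw [h2]
      _ = a * c * a⁻¹ * x := by group⟩
  set W := Cfsg.pCore p G ⊓ Subgroup.centralizer T with hW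
  haveI hOn : (Cfsg.pCore p G).Normal := FittingCores.pCore_normal p
  haveI hWn : W.Normal := inferInstanceAs (Cfsg.pCore p G ⊓ _).Normal
  have huW : u ∈ W := ⟨huO, Subgroup.mem_centralizer_iff.2 huC⟩
  suffices hWZ : W ≤ Z from hWZ huW
  by_contra hWZ
  let P : Sylow p G := default
  haveI : Group.IsNilpotent ↥(P : Subgroup G) := P.isPGroup'.isNilpotent
  haveI : (W.subgroupOf (P : Subgroup G)).Normal := hWn.comap _
  have hWP : W ≤ P := inf_le_left.trans (FittingCores.pCore_le_sylow P)
  obtain ⟨w, hwW, hwZ, hw⟩ := OddOrder.Nilp.exists_mem_commutator_le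
    (A := Z.subgroupOf (P : Subgroup G)) (C := W.subgroupOf (P : Subgroup G)) (fun hle => hWZ fun a ha =>
      hle (show (⟨a, hWP ha⟩ : ↥(P : Subgroup G)) ∈ W.subgroupOf _ from ha))
  refine hwZ ?_
  rw [Subgroup.mem_subgroupOf, hn, Subgroup.mem_upperCentralSeries_succ_iff]
  set q := QuotientGroup.mk' Z
  have htop : (Subgroup.centralizer {q (w : G)}).comap q = ⊤ := by
    refine FittingCores.eq_top_of_forall_sylow_le fun r hr => ?_
    have := Fact.mk hr
    by_cases hrp : r = p
    · subst hrp
      refine ⟨P, fun y hy => ?_⟩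
      rw [Subgroup.mem_comap, Subgroup.mem_centralizer_singleton_iff, eq_comm,
        ← commutatorElement_eq_one_iff_mul_comm, ← map_commutatorElement]
      exact (QuotientGroup.eq_one_iff _).2 (hw ⟨y, hy⟩)
    · refine ⟨default, fun y hy => ?_⟩
      obtain ⟨k, hk⟩ := IsPGroup.iff_orderOf.1 ((default : Sylow r G).isPGroup') ⟨y, hy⟩
      rw [Subgroup.orderOf_mk] at hk
      have h1 : y * (w : G) = w * y := Subgroup.mem_centralizer_iff.1 hwW.2 y (by
        show (orderOf y).Coprime p
        rw [hk]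
        exact Nat.Coprime.pow_left k ((Nat.coprime_primes hr hp).2 hrp))
      rw [Subgroup.mem_comap, Subgroup.mem_centralizer_singleton_iff, ← map_mul, h1, map_mul]
  intro b
  rw [← QuotientGroup.eq_one_iff]
  show q ⁅(w : G), b⁆ = 1
  rw [map_commutatorElement, commutatorElement_eq_one_iff_mul_comm]
  exact (Subgroup.mem_centralizer_singleton_iff.1
    (Subgroup.mem_comap.1 ((Subgroup.eq_top_iff' _).1 htop b))).symm

end Cfsg.Agent.S3939
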