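import Cfsg.Statements.S3890
import Cfsg.Agent.S3939
import Mathlib

set_option autoImplicit false
open Cfsg

namespace Cfsg.Agent.S3890

open Cfsg.Agent
open scoped Pointwise

variable {G : Type*} [Group G] [Finite G]

lemma member_unique {𝓐 : Finset (Subgroup G)}
    (hcov : (∀ A ∈ 𝓐, A ≠ ⊤) ∧ (∀ g : G, ∃ A ∈ 𝓐, g ∈ A))
    (hmin : ∀ 𝓑 : Finset (Subgroup G), (∀ A ∈ 𝓑, A ≠ ⊤) ∧ (∀ g : G, ∃ A ∈ 𝓑, g ∈ A) → 𝓐.card ≤ 𝓑.card)
    {H A B : Subgroup G} (hH : H ≠ ⊤) (hA : A ∈ 𝓐) (hB : B ∈ 𝓐) (hAH : A ≤ H) (hBH : B ≤ H) :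
    A = B := by
  classical
  by_contra hne
  set R := 𝓐 \ {A, B} with hR
  have hcard : (insert H R).card < 𝓐.card := by
    have h1 : R.card + 2 = 𝓐.card := by
      have hsub : ({A, B} : Finset (Subgroup G)) ⊆ 𝓐 := by
        simp [Finset.insert_subset_iff, hA, hB]
      have h2 := Finset.card_sdiff_add_card_eq_card hsub
      rwa [Finset.card_pair hne] at h2
    have h3 := Finset.card_insert_le H R
    omega
  refine absurd (hmin (insert H R) ⟨fun C hC => ?_, fun g => ?_⟩) (not_le.2 hcard)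
  · rcases Finset.mem_insert.1 hC with rfl | h
    · exact hH
    · exact hcov.1 C (Finset.mem_sdiff.1 h).1
  · obtain ⟨C, hC, hgC⟩ := hcov.2 g
    by_cases hCA : C = A
    · exact ⟨H, Finset.mem_insert_self _ _, hAH (hCA ▸ hgC)⟩
    by_cases hCB : C = B
    · exact ⟨H, Finset.mem_insert_self _ _, hBH (hCB ▸ hgC)⟩
    exact ⟨C, Finset.mem_insert_of_mem (Finset.mem_sdiff.2 ⟨hC, by simp [hCA, hCB]⟩), hgC⟩

lemma zpowers_isPGroup {p : ℕ} {x : G} (hx : ∃ k, orderOf x = p ^ k) :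
    IsPGroup p ↥(Subgroup.zpowers x) :=
  hx.elim fun _ hk => IsPGroup.of_card (by rw [Nat.card_zpowers, hk])

lemma sylow_comm {p : ℕ} [Fact p.Prime] (P : Sylow p G)
    (hab : IsMulCommutative ↥(P : Subgroup G)) (Q : Sylow p G) {a b : G}
    (ha : a ∈ (Q : Subgroup G)) (hb : b ∈ (Q : Subgroup G)) : a * b = b * a :=
  congrArg Subtype.val ((Q.equiv P).injective (by
    rw [map_mul, map_mul]; exact hab.is_comm.comm _ _) :
      (⟨a, ha⟩ : ↥(Q : Subgroup G)) * ⟨b, hb⟩ = ⟨b, hb⟩ * ⟨a, ha⟩)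

lemma le_centralizer_of_mem {p : ℕ} [Fact p.Prime] (P : Sylow p G)
    (hab : IsMulCommutative ↥(P : Subgroup G)) {A : Subgroup G} (hA : Group.IsNilpotent ↥A)
    {x : G} (hxA : x ∈ A) (hx : ∃ k, orderOf x = p ^ k) : A ≤ Subgroup.centralizer {x} := by
  haveI := hA
  have hp : p.Prime := Fact.out
  intro a ha
  suffices h : (⟨a, ha⟩ : ↥A) ∈ Subgroup.centralizer {(⟨x, hxA⟩ : ↥A)} by
    rw [Subgroup.mem_centralizer_singleton_iff] at h ⊢
    exact congrArg Subtype.val h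
  refine S3939.mem_of_prime_parts _ _ fun r hr y _ hyr => ?_
  rw [Subgroup.mem_centralizer_singleton_iff]
  have hx' : ∃ k, orderOf (⟨x, hxA⟩ : ↥A) = p ^ k := hx.imp fun k hk => by rwa [Subgroup.orderOf_mk]
  by_cases hrp : r = p
  · subst hrp
    have h1 := S3939.mem_sylow_of_normal (default : Sylow r ↥A) hx'
    have h2 := S3939.mem_sylow_of_normal (default : Sylow r ↥A) hyr
    obtain ⟨Q, hQ⟩ := (((default : Sylow r ↥A).isPGroup').map A.subtype).exists_le_sylow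
    exact Subtype.ext (sylow_comm P hab Q (hQ ⟨y, h2, rfl⟩) (hQ ⟨_, h1, rfl⟩))
  · obtain ⟨k, hk⟩ := hyr
    exact (S3939.commute_of_nilpotent hp hx'
      (by rw [hk]; exact Nat.Coprime.pow_left k ((Nat.coprime_primes hr hp).2 hrp))).eq.symm

lemma pmember_unique (hZ : Subgroup.center G = ⊥) {𝓐 : Finset (Subgroup G)}
    (h𝓐 : ((∀ A ∈ 𝓐, A ≠ ⊤) ∧ (∀ g : G, ∃ A ∈ 𝓐, g ∈ A)) ∧ (∀ 𝓑 : Finset (Subgroup G), (∀ A ∈ 𝓑, A ≠ ⊤) ∧ (∀ g : G, ∃ A ∈ 𝓑, g ∈ A) → 𝓐.card ≤ 𝓑.card) ∧ (∀ A ∈ 𝓐, Group.IsNilpotent ↥A))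
    {p : ℕ} [Fact p.Prime] (P : Sylow p G) (hab : IsMulCommutative ↥(P : Subgroup G))
    {x : G} (hx : ∃ k, orderOf x = p ^ k) (hx1 : x ≠ 1) {A B : Subgroup G}
    (hA : A ∈ 𝓐) (hB : B ∈ 𝓐) (hxA : x ∈ A) (hxB : x ∈ B) : A = B := by
  refine member_unique h𝓐.1 h𝓐.2.1 (H := Subgroup.centralizer {x}) (fun htop => hx1 ?_) hA hB
    (le_centralizer_of_mem P hab (h𝓐.2.2 A hA) hxA hx) (le_centralizer_of_mem P hab (h𝓐.2.2 B hB) hxB hx)
  rw [← Subgroup.mem_bot, ← hZ, Subgroup.mem_center_iff]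
  intro g
  exact Subgroup.mem_centralizer_singleton_iff.1 (htop ▸ Subgroup.mem_top g : g ∈ Subgroup.centralizer {x})

lemma exists_member (hZ : Subgroup.center G = ⊥) {𝓐 : Finset (Subgroup G)}
    (h𝓐 : ((∀ A ∈ 𝓐, A ≠ ⊤) ∧ (∀ g : G, ∃ A ∈ 𝓐, g ∈ A)) ∧ (∀ 𝓑 : Finset (Subgroup G), (∀ A ∈ 𝓑, A ≠ ⊤) ∧ (∀ g : G, ∃ A ∈ 𝓑, g ∈ A) → 𝓐.card ≤ 𝓑.card) ∧ (∀ A ∈ 𝓐, Group.IsNilpotent ↥A))
    {p : ℕ} [Fact p.Prime] (P : Sylow p G) (hab : IsMulCommutative ↥(P : Subgroup G))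
    (h : ¬ (Cfsg.IsElementaryAbelian p (P : Subgroup G) ∧ p < Nat.card ↥(P : Subgroup G))) :
    ∃ A ∈ 𝓐, (P : Subgroup G) ≤ A := by
  have hp : p.Prime := Fact.out
  have hord : ∀ w ∈ (P : Subgroup G), ∃ k, orderOf w = p ^ k := fun w hw => by
    obtain ⟨k, hk⟩ := IsPGroup.iff_orderOf.1 P.isPGroup' ⟨w, hw⟩
    exact ⟨k, by rwa [Subgroup.orderOf_mk] at hk⟩
  have huniq : ∀ w ∈ (P : Subgroup G), w ≠ 1 → ∀ {A B : Subgroup G}, A ∈ 𝓐 → B ∈ 𝓐 → w ∈ A → w ∈ B → A = B :=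
    fun w hw hw1 {A B} hA hB => pmember_unique hZ h𝓐 P hab (hord w hw) hw1 hA hB
  by_cases hel : Cfsg.IsElementaryAbelian p (P : Subgroup G)
  · -- then the order is at most `p`, so `P` is cyclic
    have hle : Nat.card ↥(P : Subgroup G) ≤ p := not_lt.1 fun hlt => h ⟨hel, hlt⟩
    haveI : IsCyclic ↥(P : Subgroup G) := by
      obtain ⟨k, hk⟩ := P.isPGroup'.exists_card_eq
      rcases k with _ | _ | k
      · haveI := (Nat.card_eq_one_iff_unique.1 (hk.trans (pow_zero p))).1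
        exact isCyclic_of_subsingleton
      · exact isCyclic_of_prime_card (by simpa using hk)
      · rw [hk] at hle
        exact absurd hle (not_le.2 (by
          calc p = p ^ 1 := (pow_one p).symm
            _ < p ^ (k + 1 + 1) := Nat.pow_lt_pow_right hp.one_lt (by omega)))
    obtain ⟨g, hg⟩ := IsCyclic.exists_generator (α := ↥(P : Subgroup G))
    obtain ⟨A, hA, hgA⟩ := h𝓐.1.2 (g : G)
    refine ⟨A, hA, fun w hw => ?_⟩
    obtain ⟨i, hi⟩ := hg ⟨w, hw⟩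
    have : (g : G) ^ i = w := congrArg Subtype.val hi
    exact this ▸ zpow_mem hgA i
  · obtain ⟨y, hyP, hy⟩ : ∃ y ∈ (P : Subgroup G), y ^ p ≠ 1 := by
      by_contra hc
      push_neg at hc
      exact hel ⟨hab, hc⟩
    obtain ⟨U, hU, hyU⟩ := h𝓐.1.2 y
    have homega : ∀ z ∈ (P : Subgroup G), z ^ p = 1 → z ∈ U := by
      intro z hz hzp
      obtain ⟨V, hV, hVz⟩ := h𝓐.1.2 (y * z)
      have hc : Commute y z := sylow_comm P hab P hyP hz
      have h1 : (y * z) ^ p = y ^ p := by rw [hc.mul_pow, hzp, mul_one]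
      have hVU : V = U := huniq _ (pow_mem hyP p) hy hV hU (h1 ▸ pow_mem hVz p) (pow_mem hyU p)
      subst hVU
      simpa using mul_mem (inv_mem hyU) hVz
    refine ⟨U, hU, fun w hw => ?_⟩
    by_cases hw1 : w = 1
    · exact hw1 ▸ one_mem _
    obtain ⟨k, hk⟩ := hord w hw
    obtain ⟨j, rfl⟩ : ∃ j, k = j + 1 := ⟨k - 1, by
      rcases k with _ | k
      · exact absurd (orderOf_eq_one_iff.1 (by simpa using hk)) hw1
      · simp⟩
    set v := w ^ p ^ j with hv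
    have hv1 : v ≠ 1 := fun h1 => by
      have := Nat.le_of_dvd (pow_pos hp.pos j) (orderOf_dvd_of_pow_eq_one h1)
      rw [hk, pow_succ] at this
      exact absurd this (not_le.2 (lt_mul_of_one_lt_right (pow_pos hp.pos j) hp.one_lt))
    have hvU : v ∈ U := homega v (pow_mem hw _) (by rw [hv, ← pow_mul, ← pow_succ, ← hk, pow_orderOf_eq_one])
    obtain ⟨W, hW, hwW⟩ := h𝓐.1.2 w
    exact huniq v (pow_mem hw _) hv1 hW hU (pow_mem hwW _) hvU ▸ hwW

lemma centralizer_eq (hZ : Subgroup.center G = ⊥) {𝓐 : Finset (Subgroup G)}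
    (h𝓐 : ((∀ A ∈ 𝓐, A ≠ ⊤) ∧ (∀ g : G, ∃ A ∈ 𝓐, g ∈ A)) ∧ (∀ 𝓑 : Finset (Subgroup G), (∀ A ∈ 𝓑, A ≠ ⊤) ∧ (∀ g : G, ∃ A ∈ 𝓑, g ∈ A) → 𝓐.card ≤ 𝓑.card) ∧ (∀ A ∈ 𝓐, Group.IsNilpotent ↥A))
    {p : ℕ} [Fact p.Prime] (P : Sylow p G) (hab : IsMulCommutative ↥(P : Subgroup G))
    (hne : (P : Subgroup G) ≠ ⊥) {A : Subgroup G} (hA : A ∈ 𝓐) (hPA : (P : Subgroup G) ≤ A) :
    Subgroup.centralizer ((P : Subgroup G) : Set G) = A := by
  have hp : p.Prime := Fact.out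
  have hord : ∀ w ∈ (P : Subgroup G), ∃ k, orderOf w = p ^ k := fun w hw => by
    obtain ⟨k, hk⟩ := IsPGroup.iff_orderOf.1 P.isPGroup' ⟨w, hw⟩
    exact ⟨k, by rwa [Subgroup.orderOf_mk] at hk⟩
  refine le_antisymm (fun c hc => ?_) (fun a ha => Subgroup.mem_centralizer_iff.2 fun w hw =>
    (Subgroup.mem_centralizer_singleton_iff.1
      (le_centralizer_of_mem P hab (h𝓐.2.2 A hA) (hPA hw) (hord w hw) ha)).symm)
  refine S3939.mem_of_prime_parts c A fun r hr y hy hyr => ?_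
  have hyc : ∀ w ∈ (P : Subgroup G), w * y = y * w := fun w hw =>
    Subgroup.mem_centralizer_iff.1 (Subgroup.zpowers_le.2 hc hy) w hw
  by_cases hrp : r = p
  · subst hrp
    refine hPA ?_
    have hN : Subgroup.zpowers y ≤ Subgroup.normalizer ((P : Subgroup G) : Set G) := by
      rw [Subgroup.zpowers_le]
      refine Subgroup.mem_normalizer_iff.2 fun w => ⟨fun hw => ?_, fun hw => ?_⟩
      · rwa [← hyc w hw, mul_inv_cancel_right]
      · have h1 := hyc _ hw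
        have h2 : y * w * y⁻¹ = w := by
          have h3 : y * w = y * (y * w * y⁻¹) := by rw [← h1]; group
          exact (mul_left_cancel h3).symm
        rwa [h2] at hw
    have hpg : IsPGroup r ↥(Subgroup.zpowers y ⊔ (P : Subgroup G)) :=
      (zpowers_isPGroup hyr).to_sup_of_normal_right' P.isPGroup' hN
    rw [← P.is_maximal' hpg le_sup_right]
    exact Subgroup.mem_sup_left (Subgroup.mem_zpowers y)
  · obtain ⟨⟨x, hx⟩, hx1⟩ := Subgroup.ne_bot_iff_exists_ne_one.1 hne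
    obtain ⟨k, hk⟩ := hord x hx
    obtain ⟨m, hm⟩ := hyr
    have hc : Commute x y := hyc x hx
    obtain ⟨B, hB, hB'⟩ := h𝓐.1.2 (x * y)
    have hco : (orderOf x).Coprime (orderOf y) := by
      rw [hk, hm]
      exact Nat.Coprime.pow k m ((Nat.coprime_primes hp hr).2 (Ne.symm hrp))
    have hxB : x ∈ B := by
      have h1 : (x * y) ^ orderOf y = x ^ orderOf y := by
        rw [hc.mul_pow, pow_orderOf_eq_one, mul_one]
      obtain ⟨e, he⟩ := exists_pow_eq_self_of_coprime hco.symm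
      rw [← he, ← h1]
      exact pow_mem (pow_mem hB' _) _
    have : B = A := pmember_unique hZ h𝓐 P hab ⟨k, hk⟩ (fun h => hx1 (Subtype.ext h)) hB hA hxB (hPA hx)
    subst this
    simpa using mul_mem (inv_mem hxB) hB'

lemma main (hZ : Subgroup.center G = ⊥) {𝓐 : Finset (Subgroup G)}
    (h𝓐 : ((∀ A ∈ 𝓐, A ≠ ⊤) ∧ (∀ g : G, ∃ A ∈ 𝓐, g ∈ A)) ∧ (∀ 𝓑 : Finset (Subgroup G), (∀ A ∈ 𝓑, A ≠ ⊤) ∧ (∀ g : G, ∃ A ∈ 𝓑, g ∈ A) → 𝓐.card ≤ 𝓑.card) ∧ (∀ A ∈ 𝓐, Group.IsNilpotent ↥A))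
    {p : ℕ} [Fact p.Prime] (P : Sylow p G) (hab : IsMulCommutative ↥(P : Subgroup G))
    (hnn : ¬ (P : Subgroup G).Normal)
    (h : ¬ (Cfsg.IsElementaryAbelian p (P : Subgroup G) ∧ p < Nat.card ↥(P : Subgroup G))) :
    ∃ A ∈ 𝓐, (P : Subgroup G) ≤ A ∧ Subgroup.centralizer ((P : Subgroup G) : Set G) = A ∧
      IsCoatom (Subgroup.normalizer ((P : Subgroup G) : Set G)) ∧
      (∀ M : Subgroup G, IsCoatom M → A ≤ M → M = Subgroup.normalizer ((P : Subgroup G) : Set G)) ∧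
      (∀ g : G, g ∉ Subgroup.normalizer ((P : Subgroup G) : Set G) →
        ¬ p ∣ Nat.card ↥(Subgroup.normalizer ((P : Subgroup G) : Set G) ⊓
          (Subgroup.normalizer ((P : Subgroup G) : Set G)).map (MulAut.conj g).toMonoidHom)) := by
  have hne : (P : Subgroup G) ≠ ⊥ := fun hb => hnn (by rw [hb]; infer_instance)
  obtain ⟨A, hA, hPA⟩ := exists_member hZ h𝓐 P hab h
  have hC := centralizer_eq hZ h𝓐 P hab hne hA hPA
  -- the conjugate Sylow subgroups have their members too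
  have hconj : ∀ g : G, ∃ A' ∈ 𝓐, ((g • P : Sylow p G) : Subgroup G) ≤ A' ∧
      A' ≤ Subgroup.centralizer (((g • P : Sylow p G) : Subgroup G) : Set G) ∧
      Subgroup.centralizer (((g • P : Sylow p G) : Subgroup G) : Set G) ≤ A' := by
    intro g
    have hab' : IsMulCommutative ↥((g • P : Sylow p G) : Subgroup G) :=
      ⟨⟨fun a b => Subtype.ext (sylow_comm P hab (g • P) a.2 b.2)⟩⟩
    have hcard : Nat.card ↥((g • P : Sylow p G) : Subgroup G) = Nat.card ↥(P : Subgroup G) :=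
      Nat.card_congr ((g • P).equiv P).toEquiv
    have hne' : ((g • P : Sylow p G) : Subgroup G) ≠ ⊥ := fun hb => hne (Subgroup.eq_bot_of_card_eq _
      (by rw [← hcard, hb, Subgroup.card_bot]))
    obtain ⟨A', hA', hPA'⟩ := exists_member hZ h𝓐 (g • P) hab' (fun h' => h ⟨⟨hab, fun a ha => by
      have := h'.1.2 _ (((g • P).equiv P).symm ⟨a, ha⟩).2
      have h2 : ((g • P).equiv P).symm ⟨a, ha⟩ ^ p = 1 := Subtype.ext this
      have h3 := congrArg ((g • P).equiv P) h2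
      rw [map_pow, MulEquiv.apply_symm_apply, map_one] at h3
      exact congrArg Subtype.val h3⟩, hcard ▸ h'.2⟩)
    have hC' := centralizer_eq hZ h𝓐 (g • P) hab' hne' hA' hPA'
    exact ⟨A', hA', hPA', hC'.ge, hC'.le⟩
  have hNne : Subgroup.normalizer ((P : Subgroup G) : Set G) ≠ ⊤ :=
    fun h => hnn (Subgroup.normalizer_eq_top_iff.1 h)
  -- every proper overgroup of `A` normalizes `P`
  have hle : ∀ M : Subgroup G, M ≠ ⊤ → A ≤ M → M ≤ Subgroup.normalizer ((P : Subgroup G) : Set G) := by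
    intro M hM hAM g hg
    obtain ⟨A', hA', hPA', hA'C, hCA'⟩ := hconj g
    have hA'M : A' ≤ M := by
      intro a ha
      have h1 := Subgroup.mem_centralizer_iff.1 (hA'C ha)
      have h2 : g⁻¹ * a * g ∈ A := by
        rw [← hC, Subgroup.mem_centralizer_iff]
        intro w hw
        have h3 : g * w * g⁻¹ * a = a * (g * w * g⁻¹) := h1 _ ⟨w, hw, rfl⟩
        calc w * (g⁻¹ * a * g) = g⁻¹ * (g * w * g⁻¹ * a) * g := by group
          _ = g⁻¹ * (a * (g * w * g⁻¹)) * g := by rw [h3]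
          _ = g⁻¹ * a * g * w := by group
      have h4 := mul_mem (mul_mem hg (hAM h2)) (inv_mem hg)
      simpa [mul_assoc] using h4
    obtain rfl : A' = A := member_unique h𝓐.1 h𝓐.2.1 hM hA' hA hA'M hAM
    refine Sylow.smul_eq_iff_mem_normalizer.1 ?_
    haveI := h𝓐.2.2 _ hA
    apply Sylow.ext
    refine Subgroup.eq_of_le_of_card_ge (fun z hz => ?_) (Nat.card_congr ((g • P).equiv P).toEquiv).ge
    -- a `p`-element centralizing `P` lies in `P`
    have hzC : z ∈ A' := hPA' hz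
    let PA : Sylow p ↥A' := P.subtype hPA
    obtain ⟨k, hk⟩ := IsPGroup.iff_orderOf.1 (g • P).isPGroup' ⟨z, hz⟩
    have := S3939.mem_sylow_of_normal PA (u := ⟨z, hzC⟩) ⟨k, by
      rw [Subgroup.orderOf_mk] at hk ⊢; exact hk⟩
    exact this
  have hAN : A ≤ Subgroup.normalizer ((P : Subgroup G) : Set G) := hle A (h𝓐.1.1 A hA) le_rfl
  have huniqM : ∀ M : Subgroup G, IsCoatom M → A ≤ M → M = Subgroup.normalizer ((P : Subgroup G) : Set G) := by
    intro M hM hAM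
    by_contra hne'
    exact hNne (hM.2 _ (lt_of_le_of_ne (hle M hM.1 hAM) hne'))
  refine ⟨A, hA, hPA, hC, ?_, huniqM, fun g hg hdvd => hg ?_⟩
  · obtain ⟨M, hM, hNM⟩ := (eq_top_or_exists_le_coatom _).resolve_left hNne
    exact huniqM M hM (hAN.trans hNM) ▸ hM
  · obtain ⟨x, hx⟩ := exists_prime_orderOf_dvd_card' p hdvd
    have hxG : orderOf (x : G) = p := by rwa [Subgroup.orderOf_coe]
    have hmem : ∀ (Q : Sylow p G) (z : G), orderOf z = p →
        z ∈ Subgroup.normalizer ((Q : Subgroup G) : Set G) → z ∈ (Q : Subgroup G) := fun Q z hz hzN => by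
      have hpg : IsPGroup p ↥(Subgroup.zpowers z ⊔ (Q : Subgroup G)) :=
        (zpowers_isPGroup ⟨1, by rw [hz, pow_one]⟩).to_sup_of_normal_right' Q.isPGroup'
          (Subgroup.zpowers_le.2 hzN)
      rw [← Q.is_maximal' hpg le_sup_right]
      exact Subgroup.mem_sup_left (Subgroup.mem_zpowers z)
    obtain ⟨hxN, y, hyN, hyx⟩ := x.2
    have hyx' : g * y * g⁻¹ = (x : G) := hyx
    have hy : orderOf y = p := by
      rw [← hxG, ← hyx, MulEquiv.toMonoidHom_eq_coe, MonoidHom.coe_coe, MulEquiv.orderOf_eq]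
    have hxP : (x : G) ∈ (P : Subgroup G) := hmem P _ hxG hxN
    have hxQ : (x : G) ∈ ((g • P : Sylow p G) : Subgroup G) := ⟨y, hmem P _ hy hyN, hyx'⟩
    obtain ⟨A', hA', hPA', -, -⟩ := hconj g
    have hx1 : (x : G) ≠ 1 := fun h1 => by
      rw [h1, orderOf_one] at hxG; exact (Fact.out : p.Prime).ne_one hxG.symm
    obtain rfl : A' = A := pmember_unique hZ h𝓐 P hab ⟨1, by rw [hxG, pow_one]⟩ hx1 hA' hA
      (hPA' hxQ) (hPA hxP)
    refine Sylow.smul_eq_iff_mem_normalizer.1 ?_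
    haveI := h𝓐.2.2 _ hA
    apply Sylow.ext
    refine Subgroup.eq_of_le_of_card_ge (fun z hz => ?_) (Nat.card_congr ((g • P).equiv P).toEquiv).ge
    let PA : Sylow p ↥A' := P.subtype hPA
    obtain ⟨k, hk⟩ := IsPGroup.iff_orderOf.1 (g • P).isPGroup' ⟨z, hz⟩
    exact S3939.mem_sylow_of_normal PA (u := ⟨z, hPA' hz⟩) ⟨k, by
      rw [Subgroup.orderOf_mk] at hk ⊢; exact hk⟩

/-- A cover of a group is a finite set of proper subgroups whose union is the whole group; it is minimal when no cover has fewer members, and nilpotent when all its members are nilpotent. Let G be a finite group with trivial center admitting a nilpotent minimal cover 𝓐, and let P be an abelian Sylow p-subgroup of G that is not normal. Then either P is elementary abelian of order greater than p, or P is a Sylow p-subgroup of some member A of 𝓐, the normalizer N of P is a maximal subgroup of G, N meets each of its conjugates by elements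 outside N in a subgroup of order prime to p, and the centralizer of P equals A. -/
theorem result {G : Type*} [Group G] [Finite G] (hZ : Subgroup.center G = ⊥) (𝓐 : Finset (Subgroup G))
    (h𝓐 : ((∀ A ∈ 𝓐, A ≠ ⊤) ∧ (∀ g : G, ∃ A ∈ 𝓐, g ∈ A)) ∧ (∀ 𝓑 : Finset (Subgroup G), (∀ A ∈ 𝓑, A ≠ ⊤) ∧ (∀ g : G, ∃ A ∈ 𝓑, g ∈ A) → 𝓐.card ≤ 𝓑.card) ∧ (∀ A ∈ 𝓐, Group.IsNilpotent ↥A)) {p : ℕ} [Fact p.Prime] (P : Sylow p G) (hab : IsMulCommutative ↥(P : Subgroup G))
    (hnn : ¬ (P : Subgroup G).Normal) :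
    (Cfsg.IsElementaryAbelian p (P : Subgroup G) ∧ p < Nat.card ↥(P : Subgroup G)) ∨
    (∃ A ∈ 𝓐, (P : Subgroup G) ≤ A ∧ ¬ p ∣ ((P : Subgroup G).subgroupOf A).index ∧
      IsCoatom (Subgroup.normalizer ((P : Subgroup G) : Set G)) ∧
      (∀ g : G, g ∉ Subgroup.normalizer ((P : Subgroup G) : Set G) →
        ¬ p ∣ Nat.card ↥(Subgroup.normalizer ((P : Subgroup G) : Set G) ⊓
          (Subgroup.normalizer ((P : Subgroup G) : Set G)).map (MulAut.conj g).toMonoidHom)) ∧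
      Subgroup.centralizer ((P : Subgroup G) : Set G) = A) := by
  by_cases h : Cfsg.IsElementaryAbelian p (P : Subgroup G) ∧ p < Nat.card ↥(P : Subgroup G)
  · exact Or.inl h
  obtain ⟨A, hA, hPA, hC, hN, -, hint⟩ := main hZ h𝓐 P hab hnn h
  refine Or.inr ⟨A, hA, hPA, fun hdvd => ?_, hN, hint, hC⟩
  exact (P.subtype hPA).not_dvd_index (by simpa using hdvd)

end Cfsg.Agent.S3890
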